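import Mathlib
import Groth.Prelude.Def_CohB1
import Groth.Prelude.Def_RelProj
universe u
open AlgebraicGeometry CategoryTheory Limits

namespace Groth.Agent.Helper6.HProj

instance finiteType_gradeZero (n : ℕ) (R : Type u) [CommRing R] :
    Algebra.FiniteType (CohB1.polyGrading n R 0) (MvPolynomial (Fin (n + 1)) R) := by
  have : Algebra.FiniteType R (MvPolynomial (Fin (n+1)) R) := inferInstance
  haveI : IsScalarTower R (CohB1.polyGrading n R 0) (MvPolynomial (Fin (n + 1)) R) :=
    ⟨fun r s a => smul_mul_assoc r (s : MvPolynomial (Fin (n + 1)) R) a⟩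
  exact Algebra.FiniteType.of_restrictScalars_finiteType R _ _

theorem surj_gradeZero (n : ℕ) (R : Type u) [CommRing R] :
    Function.Surjective (algebraMap R (CohB1.polyGrading n R 0)) := by
  rintro ⟨p, hp⟩
  have hp' : p.IsHomogeneous 0 := hp
  have h0 : p.totalDegree = 0 := Nat.le_zero.mp hp'.totalDegree_le
  refine ⟨p.coeff 0, ?_⟩
  apply Subtype.ext
  show MvPolynomial.C (p.coeff 0) = p
  exact ((MvPolynomial.totalDegree_eq_zero_iff_eq_C).mp h0).symm

/-- projective space over a ring is proper over the base -/
theorem isProper_toSpec (n : ℕ) (R : Type u) [CommRing R] :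
    IsProper (CohB1.ProjSpace.toSpec n R) := by
  haveI : IsClosedImmersion
      (Spec.map (CommRingCat.ofHom (algebraMap R (CohB1.polyGrading n R 0)))) :=
    IsClosedImmersion.spec_of_surjective _ (surj_gradeZero n R)
  have a1 : IsProper (Proj.toSpecZero (CohB1.polyGrading n R)) := inferInstance
  have b1 : IsProper
      (Spec.map (CommRingCat.ofHom (algebraMap R (CohB1.polyGrading n R 0)))) := inferInstance
  exact MorphismProperty.comp_mem _ _ _ a1 b1

set_option backward.isDefEq.respectTransparency false in
/-- projective space over a scheme is proper over the base -/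
theorem isProper_toBase (n : ℕ) (S : Scheme.{u}) :
    IsProper (CohB1.ProjSpaceOver.toBase n S) :=
  MorphismProperty.pullback_snd _ _ (isProper_toSpec n (ULift.{u} ℤ))

/-- H-projective morphisms are proper -/
theorem isProper_of_isHProjective {X S : Scheme.{u}} (f : X ⟶ S) (hf : RelProj.IsHProjective f) :
    IsProper f := by
  obtain ⟨n, i, hi, hif⟩ := hf
  haveI := isProper_toBase n S
  rw [← hif]
  infer_instance

/-- a scheme H-projective over a Noetherian scheme is Noetherian -/
theorem isNoetherian_of_isHProjective {X S : Scheme.{u}} [IsNoetherian S] (f : X ⟶ S)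
    (hf : RelProj.IsHProjective f) : IsNoetherian X := by
  haveI := isProper_of_isHProjective f hf
  haveI : IsLocallyNoetherian X := LocallyOfFiniteType.isLocallyNoetherian f
  haveI : CompactSpace X := QuasiCompact.compactSpace_of_compactSpace f
  exact {}

end Groth.Agent.Helper6.HProj
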