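import Mathlib
import Groth.Agent.Helper1.DPlusAdj

set_option autoImplicit false

/-!
# An adjunction of additive functors induces an adjunction on homotopy categories
-/

namespace Groth.Agent.Helper6.HtpyAdj
open CategoryTheory Limits Groth.Agent.Helper1.DPlusAdj

universe v' v u' u

variable {A : Type u} [Category.{v} A] [Abelian A] {B : Type u'} [Category.{v'} B] [Abelian B]
  {L : A ⥤ B} {R : B ⥤ A} (adj : L ⊣ R) [L.Additive] [R.Additive]

/-- unit on `K` -/
noncomputable def unitK : 𝟭 (HomotopyCategory A (ComplexShape.up ℤ)) ⟶
    L.mapHomotopyCategory (ComplexShape.up ℤ) ⋙ R.mapHomotopyCategory (ComplexShape.up ℤ) where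
  app K := (HomotopyCategory.quotient _ _).map (unitCx adj K.as)
  naturality K K' f := by
    obtain ⟨K, rfl⟩ := HomotopyCategory.quotient_obj_surjective K
    obtain ⟨K', rfl⟩ := HomotopyCategory.quotient_obj_surjective K'
    obtain ⟨g, rfl⟩ := (HomotopyCategory.quotient _ _).map_surjective f
    change (HomotopyCategory.quotient _ _).map g ≫
        (HomotopyCategory.quotient _ _).map (unitCx adj K') =
      (HomotopyCategory.quotient _ _).map (unitCx adj K) ≫
        (HomotopyCategory.quotient _ _).map
          ((R.mapHomologicalComplex _).map ((L.mapHomologicalComplex _).map g))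
    rw [← Functor.map_comp, ← Functor.map_comp, unitCx_naturality]

/-- counit on `K` -/
noncomputable def counitK :
    R.mapHomotopyCategory (ComplexShape.up ℤ) ⋙ L.mapHomotopyCategory (ComplexShape.up ℤ) ⟶
      𝟭 (HomotopyCategory B (ComplexShape.up ℤ)) where
  app K := (HomotopyCategory.quotient _ _).map (counitCx adj K.as)
  naturality K K' f := by
    obtain ⟨K, rfl⟩ := HomotopyCategory.quotient_obj_surjective K
    obtain ⟨K', rfl⟩ := HomotopyCategory.quotient_obj_surjective K'
    obtain ⟨g, rfl⟩ := (HomotopyCategory.quotient _ _).map_surjective f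
    change (HomotopyCategory.quotient _ _).map
          ((L.mapHomologicalComplex _).map ((R.mapHomologicalComplex _).map g)) ≫
        (HomotopyCategory.quotient _ _).map (counitCx adj K') =
      (HomotopyCategory.quotient _ _).map (counitCx adj K) ≫
        (HomotopyCategory.quotient _ _).map g
    rw [← Functor.map_comp, ← Functor.map_comp, counitCx_naturality]

/-- the adjunction on homotopy categories -/
noncomputable def adjK : L.mapHomotopyCategory (ComplexShape.up ℤ) ⊣
    R.mapHomotopyCategory (ComplexShape.up ℤ) :=
  Adjunction.mkOfUnitCounit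
  { unit := unitK adj
    counit := counitK adj
    left_triangle := by
      ext K
      obtain ⟨K, rfl⟩ := HomotopyCategory.quotient_obj_surjective K
      change (HomotopyCategory.quotient _ _).map
          ((L.mapHomologicalComplex _).map (unitCx adj K)) ≫ 𝟙 _ ≫
        (HomotopyCategory.quotient _ _).map
          (counitCx adj ((L.mapHomologicalComplex _).obj K)) = 𝟙 _
      rw [Category.id_comp, ← Functor.map_comp,
        left_triangle_cx, CategoryTheory.Functor.map_id]
    right_triangle := by
      ext K
      obtain ⟨K, rfl⟩ := HomotopyCategory.quotient_obj_surjective K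
      change (HomotopyCategory.quotient _ _).map
          (unitCx adj ((R.mapHomologicalComplex _).obj K)) ≫ 𝟙 _ ≫
        (HomotopyCategory.quotient _ _).map
          ((R.mapHomologicalComplex _).map (counitCx adj K)) = 𝟙 _
      rw [Category.id_comp, ← Functor.map_comp,
        right_triangle_cx, CategoryTheory.Functor.map_id] }

lemma adjK_unit_app (K : CochainComplex A ℤ) :
    (adjK adj).unit.app ((HomotopyCategory.quotient _ _).obj K) =
      (HomotopyCategory.quotient _ _).map (unitCx adj K) := rfl

lemma adjK_counit_app (K : CochainComplex B ℤ) :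
    (adjK adj).counit.app ((HomotopyCategory.quotient _ _).obj K) =
      (HomotopyCategory.quotient _ _).map (counitCx adj K) := rfl

end Groth.Agent.Helper6.HtpyAdj
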