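import Mathlib

/-!
# Colimit cofans in `ModuleCat`: elementwise description and exactness
-/

universe u
open CategoryTheory CategoryTheory.Limits

namespace Groth.Agent.Helper6.CofanMod

variable {R : Type u} [CommRing R] {J : Type} [DecidableEq J]

/-- the direct sum cofan -/
noncomputable abbrev dsCofan (A : J → ModuleCat.{u} R) : Cofan A :=
  ModuleCat.coproductCocone.{u, 0, u} A

noncomputable abbrev dsIsColimit (A : J → ModuleCat.{u} R) : IsColimit (dsCofan A) :=
  ModuleCat.coproductCoconeIsColimit.{u, 0, u} A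

variable {A B C : J → ModuleCat.{u} R}

/-- comparison iso with the direct sum -/
noncomputable def isoDS (c : Cofan A) (hc : IsColimit c) :
    c.pt ≅ ModuleCat.of R (DirectSum J (fun j => A j)) :=
  hc.coconePointUniqueUpToIso (dsIsColimit A)

lemma inj_isoDS_hom (c : Cofan A) (hc : IsColimit c) (j : J) :
    c.inj j ≫ (isoDS c hc).hom = ModuleCat.ofHom (DirectSum.lof R J (fun j => A j) j) :=
  hc.comp_coconePointUniqueUpToIso_hom (dsIsColimit A) ⟨j⟩

lemma isoDS_hom_inj (c : Cofan A) (hc : IsColimit c) (j : J) (x : A j) :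
    (isoDS c hc).hom (c.inj j x) = DirectSum.lof R J (fun j => A j) j x :=
  congrArg (fun t => t.hom x) (inj_isoDS_hom c hc j)

lemma isoDS_inv_lof (c : Cofan A) (hc : IsColimit c) (j : J) (x : A j) :
    (isoDS c hc).inv (DirectSum.lof R J (fun j => A j) j x) = c.inj j x := by
  rw [← isoDS_hom_inj c hc j x]
  exact congrArg (fun t => t.hom (c.inj j x)) (isoDS c hc).hom_inv_id

/-- induction principle for elements of a coproduct -/
theorem induction_on (c : Cofan A) (hc : IsColimit c) {P : c.pt → Prop}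
    (h0 : P 0) (hadd : ∀ x y, P x → P y → P (x + y)) (hinj : ∀ j (x : A j), P (c.inj j x))
    (x : c.pt) : P x := by
  have hx : x = (isoDS c hc).inv ((isoDS c hc).hom x) :=
    (congrArg (fun t => t.hom x) (isoDS c hc).hom_inv_id).symm
  rw [hx]
  generalize (isoDS c hc).hom x = y
  induction y using DirectSum.induction_on with
  | zero => rw [map_zero]; exact h0
  | of j a =>
    have := isoDS_inv_lof c hc j a
    rw [show DirectSum.of (fun j => A j) j a = DirectSum.lof R J (fun j => A j) j a from rfl, this]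
    exact hinj j a
  | add a b ha hb => rw [map_add]; exact hadd _ _ ha hb

/-- the map on coproducts induced by a family, conjugated to the direct sum -/
lemma conj_eq (cA : Cofan A) (hA : IsColimit cA) (cB : Cofan B) (hB : IsColimit cB)
    (f : ∀ j, A j ⟶ B j) (F : cA.pt ⟶ cB.pt) (hF : ∀ j, cA.inj j ≫ F = f j ≫ cB.inj j) :
    F ≫ (isoDS cB hB).hom = (isoDS cA hA).hom ≫
      ModuleCat.ofHom (DirectSum.lmap (fun j => (f j).hom)) := by
  refine hA.hom_ext (fun ⟨j⟩ => ?_)
  show cA.inj j ≫ F ≫ _ = cA.inj j ≫ _ ≫ _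
  rw [← Category.assoc, hF, Category.assoc, inj_isoDS_hom, ← Category.assoc, inj_isoDS_hom]
  ext x
  simp

lemma conj_apply (cA : Cofan A) (hA : IsColimit cA) (cB : Cofan B) (hB : IsColimit cB)
    (f : ∀ j, A j ⟶ B j) (F : cA.pt ⟶ cB.pt) (hF : ∀ j, cA.inj j ≫ F = f j ≫ cB.inj j)
    (x : cA.pt) :
    (isoDS cB hB).hom (F x) = DirectSum.lmap (fun j => (f j).hom) ((isoDS cA hA).hom x) :=
  congrArg (fun t => t.hom x) (conj_eq cA hA cB hB f F hF)

lemma injective_of_iso {X Y : ModuleCat.{u} R} (e : X ≅ Y) : Function.Injective e.hom := by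
  intro a b h
  have := congrArg e.inv h
  have ha : e.inv (e.hom a) = a := congrArg (fun t => t.hom a) e.hom_inv_id
  have hb : e.inv (e.hom b) = b := congrArg (fun t => t.hom b) e.hom_inv_id
  rw [ha, hb] at this
  exact this

lemma surjective_of_iso {X Y : ModuleCat.{u} R} (e : X ≅ Y) : Function.Surjective e.hom := by
  intro y
  exact ⟨e.inv y, congrArg (fun t => t.hom y) e.inv_hom_id⟩

theorem injective_of_injective (cA : Cofan A) (hA : IsColimit cA) (cB : Cofan B) (hB : IsColimit cB)
    (f : ∀ j, A j ⟶ B j) (F : cA.pt ⟶ cB.pt) (hF : ∀ j, cA.inj j ≫ F = f j ≫ cB.inj j)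
    (hf : ∀ j, Function.Injective (f j)) : Function.Injective F := by
  intro a b h
  apply injective_of_iso (isoDS cA hA)
  apply (DirectSum.lmap_injective (fun j => (f j).hom)).mpr hf
  rw [← conj_apply cA hA cB hB f F hF, ← conj_apply cA hA cB hB f F hF, h]

theorem surjective_of_surjective (cA : Cofan A) (hA : IsColimit cA) (cB : Cofan B)
    (hB : IsColimit cB)
    (f : ∀ j, A j ⟶ B j) (F : cA.pt ⟶ cB.pt) (hF : ∀ j, cA.inj j ≫ F = f j ≫ cB.inj j)
    (hf : ∀ j, Function.Surjective (f j)) : Function.Surjective F := by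
  intro y
  obtain ⟨z, hz⟩ := (DirectSum.lmap_surjective (fun j => (f j).hom)).mpr hf ((isoDS cB hB).hom y)
  obtain ⟨x, rfl⟩ := surjective_of_iso (isoDS cA hA) z
  refine ⟨x, ?_⟩
  apply injective_of_iso (isoDS cB hB)
  rw [conj_apply cA hA cB hB f F hF, hz]

theorem exact_of_exact (cA : Cofan A) (hA : IsColimit cA) (cB : Cofan B) (hB : IsColimit cB)
    (cC : Cofan C) (hC : IsColimit cC)
    (f : ∀ j, A j ⟶ B j) (F : cA.pt ⟶ cB.pt) (hF : ∀ j, cA.inj j ≫ F = f j ≫ cB.inj j)
    (g : ∀ j, B j ⟶ C j) (G : cB.pt ⟶ cC.pt) (hG : ∀ j, cB.inj j ≫ G = g j ≫ cC.inj j)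
    (hfg : ∀ j (y : B j), g j y = 0 → ∃ x, f j x = y) (y : cB.pt) (hy : G y = 0) :
    ∃ x, F x = y := by
  classical
  have h1 : DirectSum.lmap (fun j => (g j).hom) ((isoDS cB hB).hom y) = 0 := by
    rw [← conj_apply cB hB cC hC g G hG, hy, map_zero]
  set z := (isoDS cB hB).hom y with hz
  have h2 : ∀ j, (g j) (z j) = 0 := fun j => by
    have := congrArg (fun t => t j) h1
    simpa using this
  choose a ha using fun j => hfg j (z j) (h2 j)
  have h3 : z ∈ LinearMap.range (DirectSum.lmap (fun j => (f j).hom)) := by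
    rw [← DirectSum.sum_support_of z]
    refine Submodule.sum_mem _ (fun j _ => ?_)
    refine ⟨DirectSum.lof R J (fun j => A j) j (a j), ?_⟩
    rw [DirectSum.lmap_lof]
    show DirectSum.lof R J (fun j => B j) j ((f j) (a j)) = _
    rw [ha j]
    rfl
  obtain ⟨w, hw⟩ := h3
  obtain ⟨x, rfl⟩ := surjective_of_iso (isoDS cA hA) w
  refine ⟨x, ?_⟩
  apply injective_of_iso (isoDS cB hB)
  rw [conj_apply cA hA cB hB f F hF, hw]


/-- projection onto a summand -/
noncomputable def proj (c : Cofan A) (hc : IsColimit c) (j : J) : c.pt ⟶ A j :=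
  (isoDS c hc).hom ≫ ModuleCat.ofHom (DirectSum.component R J (fun j => A j) j)

lemma proj_inj_self (c : Cofan A) (hc : IsColimit c) (j : J) (x : A j) :
    proj c hc j (c.inj j x) = x := by
  show DirectSum.component R J (fun j => A j) j ((isoDS c hc).hom (c.inj j x)) = x
  rw [isoDS_hom_inj]
  exact DirectSum.component.lof_self (M := fun j => A j) R j x

lemma proj_inj_ne (c : Cofan A) (hc : IsColimit c) (i j : J) (h : i ≠ j) (x : A i) :
    proj c hc j (c.inj i x) = 0 := by
  show DirectSum.component R J (fun j => A j) j ((isoDS c hc).hom (c.inj i x)) = 0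
  rw [isoDS_hom_inj]
  rw [DirectSum.component.of (M := fun j => A j) R j i x, dif_neg h]

end Groth.Agent.Helper6.CofanMod
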