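import Mathlib
import Groth.Prelude.Def_DTen5

set_option autoImplicit false

/-!
# The projection formula for modules: `res M ⊗_R N ≅ res (M ⊗_{R'} (R' ⊗_R N))`
-/

open CategoryTheory CategoryTheory.Limits MonoidalCategory TensorProduct ChangeOfRings

universe u

namespace Groth.Agent.Helper6.ExtTenMod

variable {R R' : Type u} [CommRing R] [CommRing R'] (φ : R →+* R')

/-- the module-level comparison `res M ⊗_R N ⟶ res (M ⊗_{R'} (R' ⊗_R N))`, `m ⊗ n ↦ m ⊗ (1 ⊗ n)` -/
noncomputable def μ (M : ModuleCat.{u} R') (N : ModuleCat.{u} R) :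
    (DTen.resM φ).obj M ⊗ N ⟶
      (DTen.resM φ).obj (M ⊗ (ModuleCat.extendScalars.{u, u, u} φ).obj N) :=
  ((DTen.resM φ).obj M ◁ (ModuleCat.extendRestrictScalarsAdj.{u, u, u} φ).unit.app N) ≫
    DTen.resTen₀app φ M ((ModuleCat.extendScalars.{u, u, u} φ).obj N)

lemma μ_tmul (M : ModuleCat.{u} R') (N : ModuleCat.{u} R) (m : M) (n : N) :
    (μ φ M N).hom ((show (DTen.resM φ).obj M from m) ⊗ₜ[R] n) =
      (show (DTen.resM φ).obj (M ⊗ (ModuleCat.extendScalars.{u, u, u} φ).obj N) from
        (m ⊗ₜ[R'] ((1 : R') ⊗ₜ[R, φ] n :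
          (ModuleCat.extendScalars.{u, u, u} φ).obj N) :
            (M ⊗ (ModuleCat.extendScalars.{u, u, u} φ).obj N : ModuleCat.{u} R'))) := rfl

variable (M : ModuleCat.{u} R') (N : ModuleCat.{u} R)

/-- pure tensors in `R' ⊗_R N` -/
noncomputable def tm (s : R') (n : N) : (ModuleCat.extendScalars.{u, u, u} φ).obj N :=
  s ⊗ₜ[R, φ] n

lemma smul_tm (s' s : R') (n : N) : s' • tm φ N s n = tm φ N (s' * s) n :=
  ModuleCat.ExtendScalars.smul_tmul φ s' s n

/-- inner map -/
noncomputable def gAux (m : M) : ((ModuleCat.extendScalars.{u, u, u} φ).obj N) →+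
    ((DTen.resM φ).obj M ⊗ N : ModuleCat.{u} R) :=
  TensorProduct.liftAddHom (R := R)
    (M := (ModuleCat.restrictScalars φ).obj (ModuleCat.of R' R')) (N := N)
    { toFun := fun s =>
        { toFun := fun n => ((show (DTen.resM φ).obj M from ((show R' from s) • m)) ⊗ₜ[R] n :
            ((DTen.resM φ).obj M ⊗ N : ModuleCat.{u} R))
          map_zero' := TensorProduct.tmul_zero _ _
          map_add' := fun a b => TensorProduct.tmul_add _ _ _ }
      map_zero' := by
        ext n
        show ((show (DTen.resM φ).obj M from ((0 : R') • m)) ⊗ₜ[R] n :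
            ((DTen.resM φ).obj M ⊗ N : ModuleCat.{u} R)) = 0
        rw [zero_smul]
        exact TensorProduct.zero_tmul _ _
      map_add' := fun a b => by
        ext n
        show ((show (DTen.resM φ).obj M from (((show R' from a) + (show R' from b)) • m)) ⊗ₜ[R] n :
            ((DTen.resM φ).obj M ⊗ N : ModuleCat.{u} R)) = _
        rw [add_smul]
        exact TensorProduct.add_tmul _ _ _ }
    (fun r s n => by
      show ((show (DTen.resM φ).obj M from ((φ r * (show R' from s)) • m)) ⊗ₜ[R] n :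
            ((DTen.resM φ).obj M ⊗ N : ModuleCat.{u} R)) =
        ((show (DTen.resM φ).obj M from ((show R' from s) • m)) ⊗ₜ[R] (r • n))
      rw [← TensorProduct.smul_tmul, mul_smul]
      rfl)

lemma gAux_tmul (m : M) (s : R') (n : N) :
    gAux φ M N m (tm φ N s n) =
      ((show (DTen.resM φ).obj M from (s • m)) ⊗ₜ[R] n :
        ((DTen.resM φ).obj M ⊗ N : ModuleCat.{u} R)) := rfl

/-- induction principle for `R' ⊗_R N` in the `extendScalars` form -/
lemma ext_induction {P : (ModuleCat.extendScalars.{u, u, u} φ).obj N → Prop} (h0 : P 0)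
    (ht : ∀ (s : R') (n : N), P (tm φ N s n))
    (ha : ∀ x y, P x → P y → P (x + y)) (x : (ModuleCat.extendScalars.{u, u, u} φ).obj N) : P x :=
  TensorProduct.induction_on (motive := P) x h0 ht ha

lemma gAux_add (m m' : M) (x : (ModuleCat.extendScalars.{u, u, u} φ).obj N) :
    gAux φ M N (m + m') x = gAux φ M N m x + gAux φ M N m' x := by
  refine ext_induction φ N
    (P := fun x => gAux φ M N (m + m') x = gAux φ M N m x + gAux φ M N m' x) ?_ ?_ ?_ x
  · rw [map_zero, map_zero, map_zero, add_zero]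
  · intro s n
    rw [gAux_tmul, gAux_tmul, gAux_tmul, smul_add]
    exact TensorProduct.add_tmul _ _ _
  · intro x y hx hy
    rw [map_add, map_add, map_add, hx, hy]
    abel

lemma gAux_zero (x : (ModuleCat.extendScalars.{u, u, u} φ).obj N) :
    gAux φ M N 0 x = 0 := by
  have := gAux_add φ M N 0 0 x
  rw [add_zero] at this
  exact (add_eq_left.mp this.symm)

lemma gAux_smul (s' : R') (m : M) (x : (ModuleCat.extendScalars.{u, u, u} φ).obj N) :
    gAux φ M N (s' • m) x = gAux φ M N m (s' • x) := by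
  refine ext_induction φ N
    (P := fun x => gAux φ M N (s' • m) x = gAux φ M N m (s' • x)) ?_ ?_ ?_ x
  · rw [smul_zero, map_zero, map_zero]
  · intro s n
    refine Eq.trans ?_ (congrArg (gAux φ M N m) (smul_tm φ N s' s n)).symm
    refine (gAux_tmul φ M N (s' • m) s n).trans (Eq.trans ?_ (gAux_tmul φ M N m (s' * s) n).symm)
    exact congrArg (fun z : M => ((show (DTen.resM φ).obj M from z) ⊗ₜ[R] n :
      ((DTen.resM φ).obj M ⊗ N : ModuleCat.{u} R))) (by rw [mul_smul, smul_comm])
  · intro x y hx hy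
    rw [smul_add, map_add, map_add, hx, hy]

/-- the inverse of `μ`, as an additive map -/
noncomputable def ν : (M ⊗ (ModuleCat.extendScalars.{u, u, u} φ).obj N : ModuleCat.{u} R') →+
    ((DTen.resM φ).obj M ⊗ N : ModuleCat.{u} R) :=
  TensorProduct.liftAddHom (R := R') (M := M) (N := (ModuleCat.extendScalars.{u, u, u} φ).obj N)
    { toFun := fun m => gAux φ M N m
      map_zero' := by
        ext x
        exact gAux_zero φ M N x
      map_add' := fun m m' => by
        ext x
        exact gAux_add φ M N m m' x }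
    (fun s' m x => gAux_smul φ M N s' m x)

lemma ν_tmul (m : M) (x : (ModuleCat.extendScalars.{u, u, u} φ).obj N) :
    ν φ M N (m ⊗ₜ[R'] x) = gAux φ M N m x := rfl

/-- `ν ∘ μ` as an additive map -/
noncomputable def νμ : ((DTen.resM φ).obj M ⊗ N : ModuleCat.{u} R) →+
    ((DTen.resM φ).obj M ⊗ N : ModuleCat.{u} R) :=
  (ν φ M N).comp (μ φ M N).hom.toAddMonoidHom

lemma νμ_tmul (m : (DTen.resM φ).obj M) (n : N) : νμ φ M N (m ⊗ₜ[R] n) = m ⊗ₜ[R] n := by
  show gAux φ M N (show M from m) (tm φ N 1 n) = _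
  refine (gAux_tmul φ M N (show M from m) 1 n).trans ?_
  exact congrArg (fun z : M => ((show (DTen.resM φ).obj M from z) ⊗ₜ[R] n :
      ((DTen.resM φ).obj M ⊗ N : ModuleCat.{u} R))) (one_smul R' (show M from m))

lemma ν_μ (t : ((DTen.resM φ).obj M ⊗ N : ModuleCat.{u} R)) :
    ν φ M N ((μ φ M N).hom t) = t := by
  show νμ φ M N t = t
  refine TensorProduct.induction_on (motive := fun t => νμ φ M N t = t) t (map_zero _)
    (fun m n => νμ_tmul φ M N m n) (fun x y hx hy => ?_)
  rw [map_add, hx, hy]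

lemma μ_injective : Function.Injective (μ φ M N).hom := by
  intro a b h
  rw [← ν_μ φ M N a, ← ν_μ φ M N b, h]

lemma μ_surjective : Function.Surjective (μ φ M N).hom := by
  have hy : ∀ y : (M ⊗ (ModuleCat.extendScalars.{u, u, u} φ).obj N : ModuleCat.{u} R'),
      ∃ t, (μ φ M N).hom t = (show (DTen.resM φ).obj
        (M ⊗ (ModuleCat.extendScalars.{u, u, u} φ).obj N) from y) := by
    intro y
    refine TensorProduct.induction_on (motive := fun y => ∃ t, (μ φ M N).hom t = (show (DTen.resM φ).obj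
        (M ⊗ (ModuleCat.extendScalars.{u, u, u} φ).obj N) from y)) y ⟨0, map_zero _⟩ ?_ ?_
    · intro m x
      refine ext_induction φ N (P := fun x => ∃ t, (μ φ M N).hom t = (show (DTen.resM φ).obj
        (M ⊗ (ModuleCat.extendScalars.{u, u, u} φ).obj N) from (m ⊗ₜ[R'] x))) ?_ ?_ ?_ x
      · refine ⟨0, ?_⟩
        rw [map_zero]
        exact (TensorProduct.tmul_zero _ _).symm
      · intro s n
        refine ⟨(show (DTen.resM φ).obj M from (s • m)) ⊗ₜ[R] n, ?_⟩
        rw [μ_tmul]
        show ((s • m) ⊗ₜ[R'] (tm φ N 1 n) :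
            (M ⊗ (ModuleCat.extendScalars.{u, u, u} φ).obj N : ModuleCat.{u} R')) =
          (m ⊗ₜ[R'] (tm φ N s n))
        refine (TensorProduct.smul_tmul (R := R') s m (tm φ N 1 n)).trans ?_
        exact congrArg (fun z : (ModuleCat.extendScalars.{u, u, u} φ).obj N => (m ⊗ₜ[R'] z :
            (M ⊗ (ModuleCat.extendScalars.{u, u, u} φ).obj N : ModuleCat.{u} R')))
          ((smul_tm φ N s 1 n).trans (by rw [mul_one]))
      · rintro x y ⟨a, ha⟩ ⟨b, hb⟩
        refine ⟨a + b, ?_⟩
        rw [map_add, ha, hb]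
        exact (TensorProduct.tmul_add _ _ _).symm
    · rintro x y ⟨a, ha⟩ ⟨b, hb⟩
      exact ⟨a + b, by rw [map_add, ha, hb]; rfl⟩
  exact hy

lemma μ_bijective : Function.Bijective (μ φ M N).hom := ⟨μ_injective φ M N, μ_surjective φ M N⟩

end Groth.Agent.Helper6.ExtTenMod
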