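import Mathlib
import Groth.Prelude.Def_DRing4
import Groth.Agent.Helper6.CofanMod
import Groth.Agent.Helper1.TorReg

/-!
# Tensor products of complexes of modules: basic API
-/

universe u
open CategoryTheory CategoryTheory.Limits MonoidalCategory
open Groth.Agent.Helper1.TorLib

namespace Groth.Agent.Helper6.TenCx

variable {R : Type u} [CommRing R]

/-- K-flatness, in the form used by the statements -/
def KFlat (K : DRing.Cx R) : Prop :=
  ∀ L : DRing.Cx R, (∀ i : ℤ, IsZero (L.homology i)) → ∀ i : ℤ, IsZero ((L ⊗ K).homology i)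

/-- inclusion of a summand -/
noncomputable abbrev ι (L K : DRing.Cx R) (p q n : ℤ) (h : p + q = n) :
    L.X p ⊗ K.X q ⟶ (L ⊗ K).X n :=
  HomologicalComplex.ιTensorObj L K p q n h

@[reassoc]
lemma ι_whiskerLeft (L : DRing.Cx R) {K K' : DRing.Cx R} (f : K ⟶ K') (p q n : ℤ) (h : p + q = n) :
    ι L K p q n h ≫ (L ◁ f).f n = (L.X p ◁ f.f q) ≫ ι L K' p q n h := by
  have := HomologicalComplex.ι_mapBifunctorMap (𝟙 L) f (curriedTensor (ModuleCat.{u} R))
    (ComplexShape.up ℤ) p q n h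
  refine this.trans ?_
  simp

@[reassoc]
lemma ι_whiskerRight {L L' : DRing.Cx R} (g : L ⟶ L') (K : DRing.Cx R) (p q n : ℤ)
    (h : p + q = n) :
    ι L K p q n h ≫ (g ▷ K).f n = (g.f p ▷ K.X q) ≫ ι L' K p q n h := by
  have := HomologicalComplex.ι_mapBifunctorMap g (𝟙 K) (curriedTensor (ModuleCat.{u} R))
    (ComplexShape.up ℤ) p q n h
  refine this.trans ?_
  simp

lemma hom_ext {L K : DRing.Cx R} {n : ℤ} {Y : ModuleCat.{u} R} {f g : (L ⊗ K).X n ⟶ Y}
    (h : ∀ (p q : ℤ) (hpq : p + q = n), ι L K p q n hpq ≫ f = ι L K p q n hpq ≫ g) : f = g :=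
  HomologicalComplex.mapBifunctor.hom_ext (fun p q hpq => h p q hpq)

/-- index type of the summands of `(L ⊗ K).X n` -/
abbrev Idx (n : ℤ) : Type :=
  ↥((ComplexShape.π (ComplexShape.up ℤ) (ComplexShape.up ℤ) (ComplexShape.up ℤ)) ⁻¹' {n})

noncomputable instance (n : ℤ) : DecidableEq (Idx n) := Classical.decEq _

lemma Idx.add_eq {n : ℤ} (i : Idx n) : i.1.1 + i.1.2 = n := i.2

/-- the underlying bigraded object -/
noncomputable abbrev gr (L K : DRing.Cx R) : GradedObject (ℤ × ℤ) (ModuleCat.{u} R) :=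
  ((((curriedTensor (ModuleCat.{u} R)).mapBifunctorHomologicalComplex (ComplexShape.up ℤ)
    (ComplexShape.up ℤ)).obj L).obj K).toGradedObject

/-- the summands -/
noncomputable abbrev fam (L K : DRing.Cx R) (n : ℤ) : Idx n → ModuleCat.{u} R :=
  fun i => L.X i.1.1 ⊗ K.X i.1.2

/-- the cofan of the summands -/
noncomputable def cof (L K : DRing.Cx R) (n : ℤ) : Cofan (fam L K n) :=
  (gr L K).cofanMapObj (ComplexShape.π (ComplexShape.up ℤ) (ComplexShape.up ℤ)
    (ComplexShape.up ℤ)) n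

noncomputable def isColimitCof (L K : DRing.Cx R) (n : ℤ) : IsColimit (cof L K n) :=
  (gr L K).isColimitCofanMapObj _ n

lemma cof_pt (L K : DRing.Cx R) (n : ℤ) : (cof L K n).pt = (L ⊗ K).X n := rfl

lemma cof_inj (L K : DRing.Cx R) (n : ℤ) (i : Idx n) :
    (cof L K n).inj i = ι L K i.1.1 i.1.2 n i.2 := rfl


/-- induction principle for elements of `(L ⊗ K).X n` -/
theorem induction_on {L K : DRing.Cx R} {n : ℤ} {P : (L ⊗ K).X n → Prop}
    (h0 : P 0) (hadd : ∀ x y, P x → P y → P (x + y))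
    (hι : ∀ (p q : ℤ) (h : p + q = n) (t : ↑(L.X p ⊗ K.X q)), P (ι L K p q n h t))
    (x : (L ⊗ K).X n) : P x :=
  CofanMod.induction_on (cof L K n) (isColimitCof L K n) (P := P) h0 hadd
    (fun i t => hι i.1.1 i.1.2 i.2 t) x

section whiskerLeft

variable (L : DRing.Cx R) {K K' K'' : DRing.Cx R} (f : K ⟶ K') (g : K' ⟶ K'')

lemma cof_whiskerLeft (n : ℤ) (i : Idx n) :
    (cof L K n).inj i ≫ (L ◁ f).f n = (L.X i.1.1 ◁ f.f i.1.2) ≫ (cof L K' n).inj i :=
  ι_whiskerLeft L f i.1.1 i.1.2 n i.2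

theorem whiskerLeft_injective (n : ℤ)
    (hf : ∀ p q : ℤ, Function.Injective (L.X p ◁ f.f q)) :
    Function.Injective ((L ◁ f).f n) :=
  CofanMod.injective_of_injective (cof L K n) (isColimitCof L K n) (cof L K' n)
    (isColimitCof L K' n) (fun i => L.X i.1.1 ◁ f.f i.1.2) ((L ◁ f).f n)
    (cof_whiskerLeft L f n) (fun i => hf _ _)

theorem whiskerLeft_surjective (n : ℤ)
    (hf : ∀ p q : ℤ, Function.Surjective (L.X p ◁ f.f q)) :
    Function.Surjective ((L ◁ f).f n) :=
  CofanMod.surjective_of_surjective (cof L K n) (isColimitCof L K n) (cof L K' n)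
    (isColimitCof L K' n) (fun i => L.X i.1.1 ◁ f.f i.1.2) ((L ◁ f).f n)
    (cof_whiskerLeft L f n) (fun i => hf _ _)

theorem whiskerLeft_exact (n : ℤ)
    (hfg : ∀ (p q : ℤ) (y : ↑(L.X p ⊗ K'.X q)), (L.X p ◁ g.f q) y = 0 →
      ∃ x, (L.X p ◁ f.f q) x = y)
    (y : (L ⊗ K').X n) (hy : (L ◁ g).f n y = 0) : ∃ x, (L ◁ f).f n x = y :=
  CofanMod.exact_of_exact (cof L K n) (isColimitCof L K n) (cof L K' n)
    (isColimitCof L K' n) (cof L K'' n) (isColimitCof L K'' n)
    (fun i => L.X i.1.1 ◁ f.f i.1.2) ((L ◁ f).f n) (cof_whiskerLeft L f n)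
    (fun i => L.X i.1.1 ◁ g.f i.1.2) ((L ◁ g).f n) (cof_whiskerLeft L g n)
    (fun i => hfg _ _) y hy

end whiskerLeft


section modules

theorem mono_whiskerRight_of_flat (N : ModuleCat.{u} R) {S : ShortComplex (ModuleCat.{u} R)}
    (hS : S.ShortExact) [Module.Flat R S.X₃] : Mono (S.f ▷ N) := by
  have h3 := isZero_tor_of_flat_left S.X₃ N 0
  have hiff : Mono (((Tor (ModuleCat.{u} R) 0).map S.f).app N) ↔ Mono (S.f ▷ N) :=
    mono_iff_of_comm _ _ ((torZeroNatIso N).app S.X₁) ((torZeroNatIso N).app S.X₂)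
      (torZero_naturality N S.f)
  rw [← hiff]
  exact (tor_exact₁ N hS 0).mono_g (h3.eq_of_src _ _)

theorem whiskerLeft_injective_of_flat (M : ModuleCat.{u} R) {S : ShortComplex (ModuleCat.{u} R)}
    (hS : S.ShortExact) [Module.Flat R S.X₃] : Function.Injective (M ◁ S.f) := by
  have := mono_whiskerRight_of_flat M hS
  have h1 : Function.Injective (S.f ▷ M) := (ModuleCat.mono_iff_injective _).mp this
  exact (LinearMap.lTensor_inj_iff_rTensor_inj (M := M) (f := S.f.hom)).mpr h1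

theorem whiskerLeft_surjective_of_surjective (M : ModuleCat.{u} R) {N N' : ModuleCat.{u} R}
    (g : N ⟶ N') (hg : Function.Surjective g) : Function.Surjective (M ◁ g) :=
  LinearMap.lTensor_surjective M hg

theorem whiskerLeft_exact_of_exact (M : ModuleCat.{u} R) {S : ShortComplex (ModuleCat.{u} R)}
    (hS : S.ShortExact) (y : ↑(M ⊗ S.X₂)) (hy : (M ◁ S.g) y = 0) : ∃ x, (M ◁ S.f) x = y := by
  have hex : Function.Exact S.f.hom S.g.hom := fun z => by
    constructor
    · intro hz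
      exact (ShortComplex.moduleCat_exact_iff S).mp hS.exact z hz
    · rintro ⟨w, rfl⟩
      exact congrArg (fun t => t.hom w) S.zero
  have hsurj : Function.Surjective S.g.hom := by
    have := hS.epi_g
    exact (ModuleCat.epi_iff_surjective _).mp this
  have := lTensor_exact M hex hsurj
  exact (this y).mp hy

end modules

section SES

variable (L : DRing.Cx R) (S : ShortComplex (DRing.Cx R))

lemma whiskerLeft_zero' (K K' : DRing.Cx R) : L ◁ (0 : K ⟶ K') = 0 := by
  refine HomologicalComplex.hom_ext _ _ (fun n => hom_ext (fun p q hpq => ?_))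
  rw [ι_whiskerLeft, HomologicalComplex.zero_f, HomologicalComplex.zero_f,
    MonoidalPreadditive.whiskerLeft_zero, zero_comp, comp_zero]

lemma whiskerLeft_add' {K K' : DRing.Cx R} (f g : K ⟶ K') : L ◁ (f + g) = L ◁ f + L ◁ g := by
  refine HomologicalComplex.hom_ext _ _ (fun n => hom_ext (fun p q hpq => ?_))
  rw [HomologicalComplex.add_f_apply, Preadditive.comp_add, ι_whiskerLeft, ι_whiskerLeft,
    ι_whiskerLeft, HomologicalComplex.add_f_apply, MonoidalPreadditive.whiskerLeft_add,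
    Preadditive.add_comp]

/-- `L ⊗ -` applied to a short complex of complexes -/
noncomputable def tenSC : ShortComplex (DRing.Cx R) :=
  ShortComplex.mk (L ◁ S.f) (L ◁ S.g) (by
    rw [← MonoidalCategory.whiskerLeft_comp, S.zero, whiskerLeft_zero'])

variable {S}

/-- general form: `L ⊗ -` preserves a short exact sequence as soon as tensoring with modules
keeps the first map injective degreewise. -/
theorem tenSC_shortExact' (hS : S.ShortExact)
    (hinj : ∀ (M : ModuleCat.{u} R) (q : ℤ), Function.Injective (M ◁ S.f.f q)) :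
    (tenSC L S).ShortExact := by
  have hdeg := (HomologicalComplex.shortExact_iff_degreewise_shortExact S).mp hS
  apply HomologicalComplex.shortExact_of_degreewise_shortExact
  intro n
  have hinj : Function.Injective ((L ◁ S.f).f n) := by
    apply whiskerLeft_injective
    intro p q
    exact hinj (L.X p) q
  have hsurj : Function.Surjective ((L ◁ S.g).f n) := by
    apply whiskerLeft_surjective
    intro p q
    apply whiskerLeft_surjective_of_surjective
    have := (hdeg q).epi_g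
    exact (ModuleCat.epi_iff_surjective _).mp this
  have hex : ∀ y, (L ◁ S.g).f n y = 0 → ∃ x, (L ◁ S.f).f n x = y := by
    apply whiskerLeft_exact
    intro p q y hy
    exact whiskerLeft_exact_of_exact (L.X p) (hdeg q) y hy
  haveI : Mono ((tenSC L S).map (HomologicalComplex.eval _ _ n)).f :=
    (ModuleCat.mono_iff_injective _).mpr hinj
  haveI : Epi ((tenSC L S).map (HomologicalComplex.eval _ _ n)).g :=
    (ModuleCat.epi_iff_surjective _).mpr hsurj
  exact ShortComplex.ShortExact.mk ((ShortComplex.moduleCat_exact_iff _).mpr hex)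

theorem tenSC_shortExact (hS : S.ShortExact) (h3 : DRing.TermwiseFlat S.X₃) :
    (tenSC L S).ShortExact := by
  have hdeg := (HomologicalComplex.shortExact_iff_degreewise_shortExact S).mp hS
  apply tenSC_shortExact' L hS
  intro M q
  haveI : Module.Flat R ↑(S.map (HomologicalComplex.eval _ _ q)).X₃ := h3 q
  exact whiskerLeft_injective_of_flat M (hdeg q)

/-- degreewise split short exact sequences stay exact -/
theorem tenSC_shortExact_of_split (hS : S.ShortExact)
    (σ : ∀ n, (S.map (HomologicalComplex.eval _ _ n)).Splitting) :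
    (tenSC L S).ShortExact := by
  apply tenSC_shortExact' L hS
  intro M q
  let r : S.X₂.X q ⟶ S.X₁.X q := (σ q).r
  have hr : S.f.f q ≫ r = 𝟙 _ := (σ q).f_r
  have h1 : (M ◁ S.f.f q) ≫ (M ◁ r) = 𝟙 _ := by
    rw [← MonoidalCategory.whiskerLeft_comp, hr, MonoidalCategory.whiskerLeft_id]
  intro a b hab
  have ha : (M ◁ r) ((M ◁ S.f.f q) a) = a := congrArg (fun t => t.hom a) h1
  have hb : (M ◁ r) ((M ◁ S.f.f q) b) = b := congrArg (fun t => t.hom b) h1
  rw [← ha, ← hb]
  exact congrArg _ hab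

end SES


section TwoOfThree

variable {S : ShortComplex (DRing.Cx R)} (hS : S.ShortExact)
include hS

theorem acyclic₃ (h1 : ∀ i : ℤ, IsZero (S.X₁.homology i)) (h2 : ∀ i : ℤ, IsZero (S.X₂.homology i))
    (i : ℤ) : IsZero (S.X₃.homology i) :=
  (hS.homology_exact₃ i (i + 1) (by simp)).isZero_of_both_zeros ((h2 i).eq_of_src _ _)
    ((h1 (i + 1)).eq_of_tgt _ _)

theorem acyclic₂ (h1 : ∀ i : ℤ, IsZero (S.X₁.homology i)) (h3 : ∀ i : ℤ, IsZero (S.X₃.homology i))
    (i : ℤ) : IsZero (S.X₂.homology i) :=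
  (hS.homology_exact₂ i).isZero_of_both_zeros ((h1 i).eq_of_src _ _)
    ((h3 i).eq_of_tgt _ _)

theorem acyclic₁ (h2 : ∀ i : ℤ, IsZero (S.X₂.homology i)) (h3 : ∀ i : ℤ, IsZero (S.X₃.homology i))
    (i : ℤ) : IsZero (S.X₁.homology i) :=
  (hS.homology_exact₁ (i - 1) i (by simp)).isZero_of_both_zeros ((h3 (i - 1)).eq_of_src _ _)
    ((h2 i).eq_of_tgt _ _)

end TwoOfThree

section KFlatSES

variable {S : ShortComplex (DRing.Cx R)} (hS : S.ShortExact) (h3 : DRing.TermwiseFlat S.X₃)
include hS h3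

theorem kflat₃ (h1 : KFlat S.X₁) (h2 : KFlat S.X₂) : KFlat S.X₃ := fun L hL i =>
  acyclic₃ (tenSC_shortExact L hS h3) (h1 L hL) (h2 L hL) i

theorem kflat₂ (h1 : KFlat S.X₁) (h2 : KFlat S.X₃) : KFlat S.X₂ := fun L hL i =>
  acyclic₂ (tenSC_shortExact L hS h3) (h1 L hL) (h2 L hL) i

theorem kflat₁ (h1 : KFlat S.X₂) (h2 : KFlat S.X₃) : KFlat S.X₁ := fun L hL i =>
  acyclic₁ (tenSC_shortExact L hS h3) (h1 L hL) (h2 L hL) i

end KFlatSES

section homotopy

noncomputable def whiskerLeftHomotopy (L : DRing.Cx R) {K K' : DRing.Cx R} {f g : K ⟶ K'}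
    (h : Homotopy f g) : Homotopy (L ◁ f) (L ◁ g) :=
  HomologicalComplex.mapBifunctorMapHomotopy₂ (𝟙 L) h (curriedTensor (ModuleCat.{u} R))
    (ComplexShape.up ℤ)

noncomputable def whiskerLeftHomotopyEquiv (L : DRing.Cx R) {K K' : DRing.Cx R}
    (e : HomotopyEquiv K K') : HomotopyEquiv (L ⊗ K) (L ⊗ K') where
  hom := L ◁ e.hom
  inv := L ◁ e.inv
  homotopyHomInvId := by
    refine Homotopy.trans (Homotopy.ofEq ?_) ((whiskerLeftHomotopy L e.homotopyHomInvId).trans
      (Homotopy.ofEq ?_))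
    · rw [MonoidalCategory.whiskerLeft_comp]
    · rw [MonoidalCategory.whiskerLeft_id]
  homotopyInvHomId := by
    refine Homotopy.trans (Homotopy.ofEq ?_) ((whiskerLeftHomotopy L e.homotopyInvHomId).trans
      (Homotopy.ofEq ?_))
    · rw [MonoidalCategory.whiskerLeft_comp]
    · rw [MonoidalCategory.whiskerLeft_id]

theorem kflat_of_homotopyEquiv {K K' : DRing.Cx R} (e : HomotopyEquiv K K') (h : KFlat K) :
    KFlat K' := fun L hL i =>
  (h L hL i).of_iso ((whiskerLeftHomotopyEquiv L e).toHomologyIso i).symm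


open Pretriangulated in
theorem kflat_triangle
    (T : Pretriangulated.Triangle (HomotopyCategory (ModuleCat.{u} R) (ComplexShape.up ℤ)))
    (hT : T ∈ Pretriangulated.distinguishedTriangles) :
    (KFlat T.obj₁.as → KFlat T.obj₂.as → KFlat T.obj₃.as) ∧
    (KFlat T.obj₁.as → KFlat T.obj₃.as → KFlat T.obj₂.as) ∧
    (KFlat T.obj₂.as → KFlat T.obj₃.as → KFlat T.obj₁.as) := by
  obtain ⟨S, σ, ⟨e⟩⟩ := (HomotopyCategory.distinguished_iff_iso_trianglehOfDegreewiseSplit T).mp hT
  have hS : S.ShortExact :=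
    HomologicalComplex.shortExact_of_degreewise_shortExact S (fun n => (σ n).shortExact)
  have e1 : HomotopyEquiv T.obj₁.as S.X₁ :=
    HomotopyCategory.homotopyEquivOfIso (Triangle.π₁.mapIso e)
  have e2 : HomotopyEquiv T.obj₂.as S.X₂ :=
    HomotopyCategory.homotopyEquivOfIso (Triangle.π₂.mapIso e)
  have e3 : HomotopyEquiv T.obj₃.as S.X₃ :=
    HomotopyCategory.homotopyEquivOfIso (Triangle.π₃.mapIso e)
  have key : ∀ L : DRing.Cx R, (tenSC L S).ShortExact := fun L => tenSC_shortExact_of_split L hS σ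
  refine ⟨fun h1 h2 => ?_, fun h1 h3 => ?_, fun h2 h3 => ?_⟩
  · refine kflat_of_homotopyEquiv e3.symm (fun L hL i => ?_)
    exact acyclic₃ (key L) (kflat_of_homotopyEquiv e1 h1 L hL) (kflat_of_homotopyEquiv e2 h2 L hL) i
  · refine kflat_of_homotopyEquiv e2.symm (fun L hL i => ?_)
    exact acyclic₂ (key L) (kflat_of_homotopyEquiv e1 h1 L hL) (kflat_of_homotopyEquiv e3 h3 L hL) i
  · refine kflat_of_homotopyEquiv e1.symm (fun L hL i => ?_)
    exact acyclic₁ (key L) (kflat_of_homotopyEquiv e2 h2 L hL) (kflat_of_homotopyEquiv e3 h3 L hL) i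

end homotopy

end Groth.Agent.Helper6.TenCx
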