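import Mathlib
import Groth.Prelude.Def_DTen5
import Groth.Agent.Helper6.ExtTenMod
import Groth.Agent.Helper6.TenCx
import Groth.Agent.Helper6.CofanMod

set_option autoImplicit false

/-!
# The projection formula for complexes: `res L ⊗_R K ≅ res (L ⊗_{R'} ext K)`
-/

open CategoryTheory CategoryTheory.Limits MonoidalCategory

universe u

namespace Groth.Agent.Helper6.ExtTen

open TenCx

variable {R R' : Type u} [CommRing R] [CommRing R'] (φ : R →+* R')

/-- the comparison `res L ⊗_R K ⟶ res (L ⊗_{R'} ext K)` -/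
noncomputable def θ (L : DRing.Cx R') (K : DRing.Cx R) :
    (DTen.resCx φ).obj L ⊗ K ⟶ (DTen.resCx φ).obj (L ⊗ (DTen.extCx φ).obj K) :=
  ((DTen.resCx φ).obj L ◁ (DTen.unitCx φ).app K) ≫ DTen.resTenCx φ L ((DTen.extCx φ).obj K)

lemma ι_θ (L : DRing.Cx R') (K : DRing.Cx R) (p q n : ℤ) (h : p + q = n) :
    ι ((DTen.resCx φ).obj L) K p q n h ≫ (θ φ L K).f n =
      ExtTenMod.μ φ (L.X p) (K.X q) ≫
        (DTen.resM φ).map (ι L ((DTen.extCx φ).obj K) p q n h) := by
  rw [θ, HomologicalComplex.comp_f, ← Category.assoc, ι_whiskerLeft, Category.assoc]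
  erw [DTen.ι_resTenCx φ L ((DTen.extCx φ).obj K) p q n h]
  exact (Category.assoc _ _ _).symm

/-- the target cofan -/
noncomputable def cofB (L : DRing.Cx R') (K : DRing.Cx R) (n : ℤ) :
    Cofan (fun i : Idx n => (DTen.resM φ).obj (L.X i.1.1 ⊗ ((DTen.extCx φ).obj K).X i.1.2)) :=
  Cofan.mk ((DTen.resM φ).obj ((L ⊗ (DTen.extCx φ).obj K).X n))
    (fun i => (DTen.resM φ).map (ι L ((DTen.extCx φ).obj K) i.1.1 i.1.2 n i.2))

noncomputable def isColimitCofB (L : DRing.Cx R') (K : DRing.Cx R) (n : ℤ) :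
    IsColimit (cofB φ L K n) := by
  haveI := (ModuleCat.restrictCoextendScalarsAdj.{u} φ).leftAdjoint_preservesColimits
  exact isColimitCofanMkObjOfIsColimit (DTen.resM φ) _ _
    (isColimitCof L ((DTen.extCx φ).obj K) n)

lemma θ_bijective (L : DRing.Cx R') (K : DRing.Cx R) (n : ℤ) :
    Function.Bijective ((θ φ L K).f n) := by
  have hF : ∀ i : Idx n, (cof ((DTen.resCx φ).obj L) K n).inj i ≫ (θ φ L K).f n =
      ExtTenMod.μ φ (L.X i.1.1) (K.X i.1.2) ≫ (cofB φ L K n).inj i := fun i =>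
    ι_θ φ L K i.1.1 i.1.2 n i.2
  constructor
  · exact CofanMod.injective_of_injective (cof ((DTen.resCx φ).obj L) K n)
      (isColimitCof ((DTen.resCx φ).obj L) K n) (cofB φ L K n) (isColimitCofB φ L K n)
      (fun i => ExtTenMod.μ φ (L.X i.1.1) (K.X i.1.2)) ((θ φ L K).f n) hF
      (fun i => ExtTenMod.μ_injective φ _ _)
  · exact CofanMod.surjective_of_surjective (cof ((DTen.resCx φ).obj L) K n)
      (isColimitCof ((DTen.resCx φ).obj L) K n) (cofB φ L K n) (isColimitCofB φ L K n)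
      (fun i => ExtTenMod.μ φ (L.X i.1.1) (K.X i.1.2)) ((θ φ L K).f n) hF
      (fun i => ExtTenMod.μ_surjective φ _ _)

instance isIso_θ (L : DRing.Cx R') (K : DRing.Cx R) : IsIso (θ φ L K) := by
  haveI : ∀ n, IsIso ((θ φ L K).f n) := fun n =>
    (ConcreteCategory.isIso_iff_bijective _).mpr (θ_bijective φ L K n)
  exact HomologicalComplex.Hom.isIso_of_components _

/-- naturality in `K` -/
lemma θ_naturality_right (L : DRing.Cx R') {K K' : DRing.Cx R} (f : K ⟶ K') :
    ((DTen.resCx φ).obj L ◁ f) ≫ θ φ L K' =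
      θ φ L K ≫ (DTen.resCx φ).map (L ◁ (DTen.extCx φ).map f) := by
  have h1 := (DTen.unitCx φ).naturality f
  have h2 := DTen.resTenCx_naturality φ (𝟙 L) ((DTen.extCx φ).map f)
  simp only [Functor.id_obj, Functor.id_map, Functor.comp_obj, Functor.comp_map] at h1
  rw [θ, θ, ← Category.assoc, ← MonoidalCategory.whiskerLeft_comp, h1,
    MonoidalCategory.whiskerLeft_comp, Category.assoc, Category.assoc]
  rw [CategoryTheory.Functor.map_id, MonoidalCategory.id_tensorHom, MonoidalCategory.id_tensorHom] at h2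
  rw [h2]

/-- naturality in `L` -/
lemma θ_naturality_left {L L' : DRing.Cx R'} (g : L ⟶ L') (K : DRing.Cx R) :
    ((DTen.resCx φ).map g ▷ K) ≫ θ φ L' K =
      θ φ L K ≫ (DTen.resCx φ).map (g ▷ (DTen.extCx φ).obj K) := by
  have h2 := DTen.resTenCx_naturality φ g (𝟙 ((DTen.extCx φ).obj K))
  rw [θ, θ, ← Category.assoc, ← MonoidalCategory.whisker_exchange, Category.assoc, Category.assoc]
  rw [CategoryTheory.Functor.map_id, MonoidalCategory.tensorHom_id, MonoidalCategory.tensorHom_id] at h2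
  congr 1

end Groth.Agent.Helper6.ExtTen
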