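import Mathlib

/-!
# The short exact sequence `0 → ⨁ Mₙ → ⨁ Mₙ → colim Mₙ → 0` for a sequence of modules
-/

set_option autoImplicit false
universe u v

open DirectSum

namespace Groth.Agent.Helper6.SeqColim

variable {R : Type u} [Ring R] {M : ℕ → Type v} [∀ n, AddCommGroup (M n)] [∀ n, Module R (M n)]
  (T : ∀ n m : ℕ, n ≤ m → (M n →ₗ[R] M m))

/-- `1 - shift` on the direct sum -/
noncomputable def uMap : (⨁ n, M n) →ₗ[R] (⨁ n, M n) :=
  DirectSum.toModule R ℕ _ (fun n => DirectSum.lof R ℕ M n -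
    (DirectSum.lof R ℕ M (n + 1)) ∘ₗ (T n (n + 1) (Nat.le_succ n)))

@[simp] lemma uMap_lof (n : ℕ) (x : M n) :
    uMap T (DirectSum.lof R ℕ M n x) =
      DirectSum.lof R ℕ M n x - DirectSum.lof R ℕ M (n + 1) (T n (n + 1) (Nat.le_succ n) x) := by
  simp [uMap]

variable {C : Type v} [AddCommGroup C] [Module R C] (c : ∀ n, M n →ₗ[R] C)

/-- the map to the colimit -/
noncomputable def pMap : (⨁ n, M n) →ₗ[R] C := DirectSum.toModule R ℕ _ c

@[simp] lemma pMap_lof (n : ℕ) (x : M n) : pMap c (DirectSum.lof R ℕ M n x) = c n x := by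
  simp [pMap]

variable (hT0 : ∀ n (x : M n), T n n le_rfl x = x)
  (hT : ∀ n m k (h1 : n ≤ m) (h2 : m ≤ k) (x : M n), T m k h2 (T n m h1 x) = T n k (h1.trans h2) x)
  (hc : ∀ n m (h : n ≤ m) (x : M n), c m (T n m h x) = c n x)

include hc in
lemma pMap_uMap (x : ⨁ n, M n) : pMap c (uMap T x) = 0 := by
  induction x using DirectSum.induction_on with
  | zero => simp
  | of n x =>
    show pMap c (uMap T (DirectSum.lof R ℕ M n x)) = 0
    rw [uMap_lof, map_sub, pMap_lof, pMap_lof, hc, sub_self]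
  | add x y hx hy => rw [map_add, map_add, hx, hy, add_zero]

include hT0 hT in
lemma lof_sub_lof_mem_range (n m : ℕ) (h : n ≤ m) (y : M n) :
    DirectSum.lof R ℕ M n y - DirectSum.lof R ℕ M m (T n m h y) ∈ LinearMap.range (uMap T) := by
  induction m, h using Nat.le_induction with
  | base => rw [hT0, sub_self]; exact Submodule.zero_mem _
  | succ m h ih =>
    have e : DirectSum.lof R ℕ M n y - DirectSum.lof R ℕ M (m + 1) (T n (m + 1) (h.trans (Nat.le_succ m)) y) =
        (DirectSum.lof R ℕ M n y - DirectSum.lof R ℕ M m (T n m h y)) +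
          uMap T (DirectSum.lof R ℕ M m (T n m h y)) := by
      rw [uMap_lof, hT]
      abel
    rw [e]
    exact Submodule.add_mem _ ih ⟨_, rfl⟩

include hT0 hT in
lemma exists_rep (x : ⨁ n, M n) :
    ∃ (N : ℕ) (y : M N), x - DirectSum.lof R ℕ M N y ∈ LinearMap.range (uMap T) := by
  induction x using DirectSum.induction_on with
  | zero => exact ⟨0, 0, by simp⟩
  | of n x =>
    refine ⟨n, x, ?_⟩
    show DirectSum.lof R ℕ M n x - DirectSum.lof R ℕ M n x ∈ _
    rw [sub_self]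
    exact Submodule.zero_mem _
  | add x₁ x₂ h₁ h₂ =>
    obtain ⟨N₁, y₁, h₁⟩ := h₁
    obtain ⟨N₂, y₂, h₂⟩ := h₂
    refine ⟨max N₁ N₂, T N₁ _ (le_max_left _ _) y₁ + T N₂ _ (le_max_right _ _) y₂, ?_⟩
    have e : x₁ + x₂ - DirectSum.lof R ℕ M (max N₁ N₂)
        (T N₁ _ (le_max_left _ _) y₁ + T N₂ _ (le_max_right _ _) y₂) =
        (x₁ - DirectSum.lof R ℕ M N₁ y₁) + (x₂ - DirectSum.lof R ℕ M N₂ y₂) +
        (DirectSum.lof R ℕ M N₁ y₁ - DirectSum.lof R ℕ M _ (T N₁ _ (le_max_left N₁ N₂) y₁)) +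
        (DirectSum.lof R ℕ M N₂ y₂ - DirectSum.lof R ℕ M _ (T N₂ _ (le_max_right N₁ N₂) y₂)) := by
      rw [map_add]
      abel
    rw [e]
    exact Submodule.add_mem _ (Submodule.add_mem _ (Submodule.add_mem _ h₁ h₂)
      (lof_sub_lof_mem_range T hT0 hT _ _ _ _)) (lof_sub_lof_mem_range T hT0 hT _ _ _ _)

include hT0 hT hc in
/-- exactness in the middle -/
theorem ker_pMap_le_range
    (hker : ∀ n (x : M n), c n x = 0 → ∃ (m : ℕ) (h : n ≤ m), T n m h x = 0) :
    LinearMap.ker (pMap c) ≤ LinearMap.range (uMap T) := by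
  intro x hx
  rw [LinearMap.mem_ker] at hx
  obtain ⟨N, y, w, hw⟩ := exists_rep T hT0 hT x
  have h1 : c N y = 0 := by
    have h2 : x = uMap T w + DirectSum.lof R ℕ M N y := by rw [hw]; abel
    rw [h2, map_add, pMap_uMap T c hc, zero_add, pMap_lof] at hx
    exact hx
  obtain ⟨m, h, hm⟩ := hker N y h1
  have h3 := lof_sub_lof_mem_range T hT0 hT N m h y
  rw [hm, map_zero, sub_zero] at h3
  have h2 : x = uMap T w + DirectSum.lof R ℕ M N y := by rw [hw]; abel
  rw [h2]
  exact Submodule.add_mem _ ⟨w, rfl⟩ h3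

lemma uMap_apply_zero (x : ⨁ n, M n) : (uMap T x) 0 = x 0 := by
  classical
  induction x using DirectSum.induction_on with
  | zero => simp
  | of n x =>
    show (uMap T (DirectSum.lof R ℕ M n x)) 0 = (DirectSum.lof R ℕ M n x) 0
    rw [uMap_lof, DirectSum.sub_apply]
    have : (DirectSum.lof R ℕ M (n + 1) (T n (n + 1) (Nat.le_succ n) x)) 0 = 0 :=
      DirectSum.of_eq_of_ne _ _ _ (by omega)
    rw [this, sub_zero]
  | add x y hx hy => rw [map_add, DirectSum.add_apply, DirectSum.add_apply, hx, hy]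

lemma uMap_apply_succ (x : ⨁ n, M n) (k : ℕ) :
    (uMap T x) (k + 1) = x (k + 1) - T k (k + 1) (Nat.le_succ k) (x k) := by
  classical
  induction x using DirectSum.induction_on with
  | zero => simp
  | of n x =>
    show (uMap T (DirectSum.lof R ℕ M n x)) (k + 1) =
      (DirectSum.lof R ℕ M n x) (k + 1) - T k (k + 1) _ ((DirectSum.lof R ℕ M n x) k)
    rw [uMap_lof, DirectSum.sub_apply]
    by_cases h : n = k
    · subst h
      have h1 : (DirectSum.lof R ℕ M n x) (n + 1) = 0 := DirectSum.of_eq_of_ne _ _ _ (by omega)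
      have h2 : (DirectSum.lof R ℕ M n x) n = x := DirectSum.of_eq_same _ _
      have h3 : (DirectSum.lof R ℕ M (n + 1) (T n (n + 1) (Nat.le_succ n) x)) (n + 1) =
          T n (n + 1) (Nat.le_succ n) x := DirectSum.of_eq_same _ _
      rw [h1, h2, h3]
    · have h2 : (DirectSum.lof R ℕ M n x) k = 0 := DirectSum.of_eq_of_ne _ _ _ (Ne.symm h)
      have h3 : (DirectSum.lof R ℕ M (n + 1) (T n (n + 1) (Nat.le_succ n) x)) (k + 1) = 0 :=
        DirectSum.of_eq_of_ne _ _ _ (by omega)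
      rw [h2, h3, map_zero]
  | add x y hx hy =>
    rw [map_add, DirectSum.add_apply, DirectSum.add_apply, DirectSum.add_apply, hx, hy, map_add]
    abel

theorem uMap_injective : Function.Injective (uMap T) := by
  rw [← LinearMap.ker_eq_bot, LinearMap.ker_eq_bot']
  intro x hx
  have h0 : ∀ k, x k = 0 := by
    intro k
    induction k with
    | zero => rw [← uMap_apply_zero T x, hx]; rfl
    | succ k ih =>
      have := uMap_apply_succ T x k
      rw [hx, ih, map_zero, sub_zero] at this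
      exact this.symm
  exact DFinsupp.ext h0

theorem pMap_surjective (hsurj : ∀ y : C, ∃ (n : ℕ) (x : M n), c n x = y) :
    Function.Surjective (pMap c) := by
  intro y
  obtain ⟨n, x, rfl⟩ := hsurj y
  exact ⟨DirectSum.lof R ℕ M n x, pMap_lof c n x⟩

end Groth.Agent.Helper6.SeqColim
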