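import Mathlib
import Groth.Agent.Helper6.SeqColim

/-!
# The sequential colimit short exact sequence in `ModuleCat`, with abstract coproducts
-/

set_option autoImplicit false
universe u

open CategoryTheory Limits DirectSum

namespace Groth.Agent.Helper6.SeqColim

variable {R : Type u} [Ring R] (Z : ℕ → ModuleCat.{u} R)
  (T : ∀ n m : ℕ, n ≤ m → (Z n ⟶ Z m))
  (C : ModuleCat.{u} R) (c : ∀ n, Z n ⟶ C)

/-- `1 - shift` on the categorical coproduct -/
noncomputable def uCat : ∐ Z ⟶ ∐ Z :=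
  𝟙 _ - Limits.Sigma.desc (fun n => T n (n + 1) (Nat.le_succ n) ≫ Limits.Sigma.ι Z (n + 1))

/-- the map from the coproduct to the cocone point -/
noncomputable def pCat : ∐ Z ⟶ C := Limits.Sigma.desc c

lemma uCat_conj :
    (ModuleCat.coprodIsoDirectSum Z).inv ≫ uCat Z T ≫ (ModuleCat.coprodIsoDirectSum Z).hom =
      ModuleCat.ofHom (uMap (R := R) (M := fun n => Z n) (fun n m h => (T n m h).hom)) := by
  apply ModuleCat.hom_ext
  refine DirectSum.linearMap_ext _ (fun n => ?_)
  have h1 : ModuleCat.ofHom (DirectSum.lof R ℕ (fun n => Z n) n) ≫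
      (ModuleCat.coprodIsoDirectSum Z).inv ≫ uCat Z T ≫ (ModuleCat.coprodIsoDirectSum Z).hom =
      ModuleCat.ofHom (DirectSum.lof R ℕ (fun n => Z n) n) -
        T n (n + 1) (Nat.le_succ n) ≫ ModuleCat.ofHom (DirectSum.lof R ℕ (fun n => Z n) (n + 1)) := by
    rw [← Category.assoc, ModuleCat.lof_coprodIsoDirectSum_inv, uCat, Preadditive.sub_comp,
      Preadditive.comp_sub, Category.id_comp, ModuleCat.ι_coprodIsoDirectSum_hom,
      Limits.Sigma.ι_desc_assoc, Category.assoc, ModuleCat.ι_coprodIsoDirectSum_hom]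
  ext x
  have h2 := congr($(h1).hom x)
  simp only [ModuleCat.hom_comp, ModuleCat.hom_ofHom, LinearMap.coe_comp, Function.comp_apply,
    ModuleCat.hom_sub, LinearMap.sub_apply] at h2 ⊢
  rw [h2, uMap_lof]

lemma pCat_conj :
    (ModuleCat.coprodIsoDirectSum Z).inv ≫ pCat Z C c =
      ModuleCat.ofHom (pMap (R := R) (M := fun n => Z n) (fun n => (c n).hom)) := by
  apply ModuleCat.hom_ext
  refine DirectSum.linearMap_ext _ (fun n => ?_)
  have h1 : ModuleCat.ofHom (DirectSum.lof R ℕ (fun n => Z n) n) ≫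
      (ModuleCat.coprodIsoDirectSum Z).inv ≫ pCat Z C c = c n := by
    rw [← Category.assoc, ModuleCat.lof_coprodIsoDirectSum_inv, pCat, Limits.Sigma.ι_desc]
  ext x
  have h2 := congr($(h1).hom x)
  simp only [ModuleCat.hom_comp, ModuleCat.hom_ofHom, LinearMap.coe_comp, Function.comp_apply] at h2 ⊢
  rw [h2, pMap_lof]

variable (hT0 : ∀ n, T n n le_rfl = 𝟙 _)
  (hT : ∀ n m k (h1 : n ≤ m) (h2 : m ≤ k), T n m h1 ≫ T m k h2 = T n k (h1.trans h2))
  (hc : ∀ n m (h : n ≤ m), T n m h ≫ c m = c n)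

include hc in
lemma uCat_pCat : uCat Z T ≫ pCat Z C c = 0 := by
  apply Limits.Sigma.hom_ext
  intro n
  rw [uCat, pCat, Preadditive.sub_comp, Preadditive.comp_sub, Category.id_comp, Limits.Sigma.ι_desc,
    Limits.Sigma.ι_desc_assoc, Category.assoc, Limits.Sigma.ι_desc, hc, sub_self, comp_zero]

include hT0 hT hc in
theorem shortExact
    (hsurj : ∀ y : C, ∃ (n : ℕ) (x : Z n), (c n).hom x = y)
    (hker : ∀ n (x : Z n), (c n).hom x = 0 → ∃ (m : ℕ) (h : n ≤ m), (T n m h).hom x = 0) :
    (ShortComplex.mk (uCat Z T) (pCat Z C c) (uCat_pCat Z T C c hc)).ShortExact := by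
  let e := ModuleCat.coprodIsoDirectSum Z
  have hT0' : ∀ n (x : Z n), (T n n le_rfl).hom x = x := fun n x => by rw [hT0]; rfl
  have hT' : ∀ n m k (h1 : n ≤ m) (h2 : m ≤ k) (x : Z n),
      (T m k h2).hom ((T n m h1).hom x) = (T n k (h1.trans h2)).hom x := fun n m k h1 h2 x => by
    rw [← hT n m k h1 h2]; rfl
  have hc' : ∀ n m (h : n ≤ m) (x : Z n), (c m).hom ((T n m h).hom x) = (c n).hom x :=
    fun n m h x => by rw [← hc n m h]; rfl
  have hu : uCat Z T = e.hom ≫ ModuleCat.ofHom (uMap (R := R) (M := fun n => Z n)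
      (fun n m h => (T n m h).hom)) ≫ e.inv := by
    rw [← uCat_conj]; simp [e]
  have hp : pCat Z C c = e.hom ≫ ModuleCat.ofHom (pMap (R := R) (M := fun n => Z n)
      (fun n => (c n).hom)) := by
    rw [← pCat_conj]; simp [e]
  have hinj : Function.Injective (uCat Z T).hom := by
    rw [hu]
    intro x y hxy
    have h1 : ∀ z, (e.hom ≫ ModuleCat.ofHom (uMap (R := R) (M := fun n => Z n)
        (fun n m h => (T n m h).hom)) ≫ e.inv).hom z =
        e.inv.hom (uMap (R := R) (M := fun n => Z n) (fun n m h => (T n m h).hom) (e.hom.hom z)) :=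
      fun z => rfl
    rw [h1, h1] at hxy
    have h2 := (ModuleCat.mono_iff_injective e.inv).mp inferInstance hxy
    have h3 := uMap_injective _ h2
    exact (ModuleCat.mono_iff_injective e.hom).mp inferInstance h3
  have hsur : Function.Surjective (pCat Z C c).hom := by
    rw [hp]
    intro y
    obtain ⟨w, hw⟩ := pMap_surjective (R := R) (M := fun n => Z n) (fun n => (c n).hom) hsurj y
    refine ⟨e.inv.hom w, ?_⟩
    show (pMap (R := R) (M := fun n => Z n) (fun n => (c n).hom)) (e.hom.hom (e.inv.hom w)) = y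
    have : e.hom.hom (e.inv.hom w) = w := by
      have := congr($(e.inv_hom_id).hom w)
      exact this
    rw [this, hw]
  refine ShortComplex.ShortExact.mk' ?_ ((ModuleCat.mono_iff_injective _).mpr hinj)
    ((ModuleCat.epi_iff_surjective _).mpr hsur)
  rw [ShortComplex.moduleCat_exact_iff]
  intro x hx
  have hx' : (pMap (R := R) (M := fun n => Z n) (fun n => (c n).hom)) (e.hom.hom x) = 0 := by
    have : (pCat Z C c).hom x = 0 := hx
    rw [hp] at this
    exact this
  obtain ⟨w, hw⟩ := ker_pMap_le_range (R := R) (M := fun n => Z n) (fun n m h => (T n m h).hom)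
    (fun n => (c n).hom) hT0' hT' hc' hker hx'
  refine ⟨e.inv.hom w, ?_⟩
  show (uCat Z T).hom (e.inv.hom w) = x
  rw [hu]
  show e.inv.hom (uMap (R := R) (M := fun n => Z n) (fun n m h => (T n m h).hom)
    (e.hom.hom (e.inv.hom w))) = x
  have h5 : e.hom.hom (e.inv.hom w) = w := congr($(e.inv_hom_id).hom w)
  rw [h5, hw]
  exact congr($(e.hom_inv_id).hom x)

end Groth.Agent.Helper6.SeqColim
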