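import Mathlib
import Groth.Agent.Helper1.DCoprod
import Groth.Agent.Helper6.SeqColimCat

/-!
# The telescope short exact sequence `0 → ⨁ Lₙ → ⨁ Lₙ → colim Lₙ → 0` for complexes of modules
-/

set_option autoImplicit false
universe u

open CategoryTheory Limits

namespace Groth.Agent.Helper6.SeqColim

open Groth.Agent.Helper1.DCoprod

variable {R : Type u} [Ring R] (L : ℕ ⥤ CochainComplex (ModuleCat.{u} R) ℤ)

/-- the shift map on the termwise coproduct -/
noncomputable def shiftMap : sig (fun n => L.obj n) ⟶ sig (fun n => L.obj n) :=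
  desc (fun n => L.map (homOfLE (Nat.le_succ n)) ≫ ι (fun n => L.obj n) (n + 1))

/-- `1 - shift` -/
noncomputable def uC : sig (fun n => L.obj n) ⟶ sig (fun n => L.obj n) := 𝟙 _ - shiftMap L

variable (c : Cocone L)

/-- the map to the cocone point -/
noncomputable def pC : sig (fun n => L.obj n) ⟶ c.pt := desc (fun n => c.ι.app n)

@[reassoc]
lemma ι_uC (n : ℕ) : ι (fun n => L.obj n) n ≫ uC L =
    ι (fun n => L.obj n) n - L.map (homOfLE (Nat.le_succ n)) ≫ ι (fun n => L.obj n) (n + 1) := by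
  rw [uC, Preadditive.comp_sub, Category.comp_id, shiftMap, ι_desc]

@[reassoc]
lemma ι_pC (n : ℕ) : ι (fun n => L.obj n) n ≫ pC L c = c.ι.app n := by
  rw [pC, ι_desc]

lemma uC_pC : uC L ≫ pC L c = 0 := by
  apply hom_ext
  intro n
  rw [ι_uC_assoc, Preadditive.sub_comp, Category.assoc, ι_pC, ι_pC, c.w, sub_self, comp_zero]

lemma uC_f (i : ℤ) : (uC L).f i = uCat (fun n => (L.obj n).X i)
    (fun n m h => (L.map (homOfLE h)).f i) := by
  rw [uC, uCat, HomologicalComplex.sub_f_apply, HomologicalComplex.id_f, shiftMap]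
  congr 1

lemma pC_f (i : ℤ) : (pC L c).f i = pCat (fun n => (L.obj n).X i) (c.pt.X i)
    (fun n => (c.ι.app n).f i) := rfl

theorem shortExact_cx
    (hsurj : ∀ (i : ℤ) (y : c.pt.X i), ∃ (n : ℕ) (x : (L.obj n).X i), (c.ι.app n).f i x = y)
    (hker : ∀ (i : ℤ) (n : ℕ) (x : (L.obj n).X i), (c.ι.app n).f i x = 0 →
      ∃ (m : ℕ) (h : n ≤ m), (L.map (homOfLE h)).f i x = 0) :
    (ShortComplex.mk (uC L) (pC L c) (uC_pC L c)).ShortExact := by
  apply HomologicalComplex.shortExact_of_degreewise_shortExact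
  intro i
  have h := SeqColim.shortExact (fun n => (L.obj n).X i)
    (fun n m h => (L.map (homOfLE h)).f i) (c.pt.X i) (fun n => (c.ι.app n).f i)
    (fun n => by
      show (L.map (homOfLE (le_refl n))).f i = 𝟙 _
      have : homOfLE (le_refl n) = 𝟙 n := rfl
      rw [this, L.map_id]
      rfl)
    (fun n m k h1 h2 => by
      rw [← HomologicalComplex.comp_f, ← L.map_comp]
      rfl)
    (fun n m h => by
      rw [← HomologicalComplex.comp_f, c.w])
    (hsurj i) (hker i)
  exact h

end Groth.Agent.Helper6.SeqColim
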