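import Mathlib
import Groth.Agent.Helper6.SeqColimCx

/-!
# Elementwise description of sequential colimits of complexes of modules
-/

set_option autoImplicit false
universe u

open CategoryTheory Limits

namespace Groth.Agent.Helper6.SeqColim

variable {R : Type u} [CommRing R] (L : ℕ ⥤ CochainComplex (ModuleCat.{u} R) ℤ)
  (c : Cocone L) (hc : IsColimit c)

lemma preservesColimitsOfShape_nat_forget :
    PreservesColimitsOfShape ℕ (forget (ModuleCat.{u} R)) := by
  haveI : IsFiltered (ULift.{u} ℕ) := inferInstance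
  have e : ULift.{u} ℕ ≌ ℕ := (ULift.orderIso.{u}).equivalence
  exact preservesColimitsOfShape_of_equiv e _

include hc

theorem hsurj_of_isColimit (i : ℤ) (y : c.pt.X i) :
    ∃ (n : ℕ) (x : (L.obj n).X i), (c.ι.app n).f i x = y := by
  haveI := preservesColimitsOfShape_nat_forget (R := R)
  have hci := isColimitOfPreserves (HomologicalComplex.eval (ModuleCat.{u} R)
    (ComplexShape.up ℤ) i) hc
  obtain ⟨n, x, hx⟩ := Concrete.isColimit_exists_rep
    (L ⋙ HomologicalComplex.eval (ModuleCat.{u} R) (ComplexShape.up ℤ) i) hci y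
  exact ⟨n, x, hx⟩

theorem hker_of_isColimit (i : ℤ) (n : ℕ) (x : (L.obj n).X i) (hx : (c.ι.app n).f i x = 0) :
    ∃ (m : ℕ) (h : n ≤ m), (L.map (homOfLE h)).f i x = 0 := by
  haveI := preservesColimitsOfShape_nat_forget (R := R)
  have hci := isColimitOfPreserves (HomologicalComplex.eval (ModuleCat.{u} R)
    (ComplexShape.up ℤ) i) hc
  let x' : ((L ⋙ HomologicalComplex.eval (ModuleCat.{u} R) (ComplexShape.up ℤ) i).obj n) := x
  let z' : ((L ⋙ HomologicalComplex.eval (ModuleCat.{u} R) (ComplexShape.up ℤ) i).obj n) := 0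
  have h1 : ((HomologicalComplex.eval (ModuleCat.{u} R) (ComplexShape.up ℤ) i).mapCocone c).ι.app n x' =
      ((HomologicalComplex.eval (ModuleCat.{u} R) (ComplexShape.up ℤ) i).mapCocone c).ι.app n
        z' := by
    refine Eq.trans hx ?_
    exact (map_zero ((c.ι.app n).f i).hom).symm
  obtain ⟨k, f, g, hfg⟩ := (Concrete.isColimit_rep_eq_iff_exists
    (L ⋙ HomologicalComplex.eval (ModuleCat.{u} R) (ComplexShape.up ℤ) i) hci x' z').mp h1
  refine ⟨k, leOfHom f, ?_⟩
  have hf : homOfLE (leOfHom f) = f := Subsingleton.elim _ _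
  rw [hf]
  refine Eq.trans hfg ?_
  exact map_zero ((L.map g).f i).hom

theorem shortExact_of_isColimit :
    (ShortComplex.mk (uC L) (pC L c) (uC_pC L c)).ShortExact :=
  shortExact_cx L c (hsurj_of_isColimit L c hc) (hker_of_isColimit L c hc)

end Groth.Agent.Helper6.SeqColim
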