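import Mathlib
import Groth.Prelude.Def_DRing4

/-!
# Subcomplexes of a complex of modules, and the canonical exhaustion by bounded above subcomplexes
-/

universe u
open CategoryTheory CategoryTheory.Limits

namespace Groth.Agent.Helper6.SubCx

variable {R : Type u} [CommRing R] (M : DRing.Cx R)

/-- the subcomplex attached to a family of submodules stable under the differential -/
noncomputable def sub (S : ∀ i : ℤ, Submodule R (M.X i))
    (hS : ∀ (i : ℤ) (x : M.X i), x ∈ S i → M.d i (i + 1) x ∈ S (i + 1)) : DRing.Cx R :=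
  CochainComplex.of (fun i => ModuleCat.of R (S i))
    (fun i => ModuleCat.ofHom ((M.d i (i + 1)).hom.restrict (hS i)))
    (fun i => by
      ext x
      exact congrArg (fun f => f.hom x.1) (M.d_comp_d i (i + 1) (i + 1 + 1)))

variable (S : ∀ i : ℤ, Submodule R (M.X i))
    (hS : ∀ (i : ℤ) (x : M.X i), x ∈ S i → M.d i (i + 1) x ∈ S (i + 1))

lemma sub_d (i : ℤ) : (sub M S hS).d i (i + 1) =
    ModuleCat.ofHom ((M.d i (i + 1)).hom.restrict (hS i)) :=
  CochainComplex.of_d (fun i => ModuleCat.of R (S i))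
    (fun i => ModuleCat.ofHom ((M.d i (i + 1)).hom.restrict (hS i))) i

/-- the inclusion of the subcomplex -/
noncomputable def incl : sub M S hS ⟶ M :=
  CochainComplex.ofHom (X := sub M S hS) (Y := M) (fun i => ModuleCat.ofHom (S i).subtype)
    (fun i => by
      rw [sub_d]
      ext x
      rfl)

lemma incl_f_apply (i : ℤ) (x : (sub M S hS).X i) :
    (incl M S hS).f i x = (show S i from x).1 := rfl

lemma incl_injective (i : ℤ) : Function.Injective ((incl M S hS).f i) :=
  fun _ _ h => Subtype.ext h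

lemma mem_range_incl (i : ℤ) (y : M.X i) (hy : y ∈ S i) : ∃ x, (incl M S hS).f i x = y :=
  ⟨(⟨y, hy⟩ : S i), rfl⟩

lemma incl_mem (i : ℤ) (x : (sub M S hS).X i) : (incl M S hS).f i x ∈ S i :=
  (show S i from x).2

variable {S hS} (S' : ∀ i : ℤ, Submodule R (M.X i))
    (hS' : ∀ (i : ℤ) (x : M.X i), x ∈ S' i → M.d i (i + 1) x ∈ S' (i + 1))

/-- inclusion between subcomplexes -/
noncomputable def inclLE (h : ∀ i, S i ≤ S' i) : sub M S hS ⟶ sub M S' hS' :=
  CochainComplex.ofHom (X := sub M S hS) (Y := sub M S' hS')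
    (fun i => ModuleCat.ofHom (Submodule.inclusion (h i)))
    (fun i => by
      rw [sub_d, sub_d]
      ext x
      rfl)

lemma inclLE_incl (h : ∀ i, S i ≤ S' i) : inclLE M S' hS' h ≫ incl M S' hS' = incl M S hS := by
  ext i x
  rfl


section exhaustion

/-- the truncation submodules: everything in degrees `< n`, cycles in degree `n`, zero above -/
def tS (n : ℕ) (i : ℤ) : Submodule R (M.X i) where
  carrier := {x | ((n : ℤ) < i → x = 0) ∧ ((n : ℤ) ≤ i → M.d i (i + 1) x = 0)}
  zero_mem' := ⟨fun _ => rfl, fun _ => map_zero _⟩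
  add_mem' := by
    rintro x y ⟨hx1, hx2⟩ ⟨hy1, hy2⟩
    exact ⟨fun h => by rw [hx1 h, hy1 h, add_zero], fun h => by rw [map_add, hx2 h, hy2 h, add_zero]⟩
  smul_mem' := by
    rintro r x ⟨hx1, hx2⟩
    exact ⟨fun h => by rw [hx1 h, smul_zero], fun h => by rw [map_smul, hx2 h, smul_zero]⟩

lemma tS_stable (n : ℕ) (i : ℤ) (x : M.X i) (hx : x ∈ tS M n i) :
    M.d i (i + 1) x ∈ tS M n (i + 1) := by
  refine ⟨fun h => hx.2 (by omega), fun _ => ?_⟩
  exact congrArg (fun f => f.hom x) (M.d_comp_d i (i + 1) (i + 1 + 1))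

lemma tS_mono {n n' : ℕ} (h : n ≤ n') (i : ℤ) : tS M n i ≤ tS M n' i := by
  rintro x ⟨hx1, hx2⟩
  exact ⟨fun h' => hx1 (by omega), fun h' => hx2 (by omega)⟩

lemma mem_tS_of_lt (n : ℕ) (i : ℤ) (h : i < n) (x : M.X i) : x ∈ tS M n i :=
  ⟨fun h' => by omega, fun h' => by omega⟩

lemma tS_eq_bot (n : ℕ) (i : ℤ) (h : (n : ℤ) < i) : tS M n i = ⊥ := by
  rw [eq_bot_iff]
  rintro x ⟨hx1, -⟩
  exact (Submodule.mem_bot R).mpr (hx1 h)

/-- the `n`-th truncation -/
noncomputable def tr (n : ℕ) : DRing.Cx R := sub M (tS M n) (tS_stable M n)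

lemma tr_vanishesAbove (n : ℕ) : DRing.VanishesAbove (tr M n) n := by
  intro i hi
  haveI : Subsingleton (tS M n i) := by
    rw [tS_eq_bot M n i hi]
    infer_instance
  exact ModuleCat.isZero_of_subsingleton (ModuleCat.of R (tS M n i))

/-- the truncation tower -/
noncomputable def tower : ℕ ⥤ DRing.Cx R where
  obj n := tr M n
  map {n n'} f := inclLE M (tS M n') (tS_stable M n') (tS_mono M (leOfHom f))
  map_id n := by
    ext i x
    rfl
  map_comp f g := by
    ext i x
    rfl

/-- the cocone of the truncation tower -/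
noncomputable def cocone : Cocone (tower M) where
  pt := M
  ι := { app := fun n => incl M (tS M n) (tS_stable M n)
         naturality := fun n n' f => by
          ext i x
          rfl }

lemma cocone_surj (i : ℤ) (y : M.X i) : ∃ (n : ℕ) (x : ((tower M).obj n).X i),
    ((cocone M).ι.app n).f i x = y := by
  refine ⟨(i + 1).toNat, ?_⟩
  exact mem_range_incl M _ _ i y (mem_tS_of_lt M _ i (by omega) y)

lemma cocone_injective (n : ℕ) (i : ℤ) : Function.Injective (((cocone M).ι.app n).f i) :=
  incl_injective M _ _ i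

end exhaustion

end Groth.Agent.Helper6.SubCx
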