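import Mathlib
import Groth.Prelude.Def_DRing4

/-!
# A contractible complex of free modules surjecting onto a given complex
-/

universe u
open CategoryTheory CategoryTheory.Limits

namespace Groth.Agent.Helper6.Gadget

variable {R : Type u} [CommRing R] (T : DRing.Cx R)

/-- the free module on all homogeneous elements -/
abbrev F : Type u := (Σ i : ℤ, T.X i) →₀ R

/-- evaluation to degree `n` -/
noncomputable def e (n : ℤ) : F T →ₗ[R] T.X n :=
  Finsupp.lift (T.X n) R (Σ i : ℤ, T.X i) (fun s => if h : s.1 = n then h ▸ s.2 else 0)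

lemma e_single (n : ℤ) (x : T.X n) : e T n (Finsupp.single ⟨n, x⟩ 1) = x := by
  rw [e, Finsupp.lift_apply, Finsupp.sum_single_index (by simp), one_smul, dif_pos rfl]

/-- the degree `n` part -/
noncomputable def A (n : ℤ) : Submodule R (F T) :=
  Finsupp.supported R R {s | s.1 = n ∧ s.2 ≠ 0}

lemma single_mem_A (n : ℤ) (x : T.X n) (hx : x ≠ 0) : Finsupp.single ⟨n, x⟩ 1 ∈ A T n := by
  apply Finsupp.single_mem_supported
  exact ⟨rfl, hx⟩

lemma e_surjective (n : ℤ) (x : T.X n) : ∃ a : A T n, e T n a.1 = x := by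
  by_cases hx : x = 0
  · exact ⟨0, by rw [hx]; exact map_zero _⟩
  · exact ⟨⟨_, single_mem_A T n x hx⟩, e_single T n x⟩

lemma A_eq_bot (n : ℤ) (h : IsZero (T.X n)) : A T n = ⊥ := by
  haveI : Subsingleton (T.X n) := ModuleCat.subsingleton_of_isZero h
  have : {s : Σ i : ℤ, T.X i | s.1 = n ∧ s.2 ≠ 0} = ∅ := by
    ext ⟨i, x⟩
    simp only [Set.mem_ofPred_eq, Set.mem_empty_iff_false, iff_false, not_and, not_not]
    rintro rfl
    exact Subsingleton.elim _ _
  rw [A, this, Finsupp.supported_empty]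

instance (n : ℤ) : Module.Free R (A T n) :=
  Module.Free.of_equiv (Finsupp.supportedEquivFinsupp {s : Σ i : ℤ, T.X i | s.1 = n ∧ s.2 ≠ 0}).symm


lemma A_congr {n n' : ℤ} (h : n = n') : A T n ≤ A T n' := le_of_eq (congrArg (A T) h)

/-- the differential `(x, y) ↦ (0, x)` -/
noncomputable def dG (n : ℤ) : (A T n × A T (n - 1)) →ₗ[R] (A T (n + 1) × A T (n + 1 - 1)) :=
  LinearMap.prod 0 ((Submodule.inclusion (A_congr T (by omega : n = n + 1 - 1))).comp
    (LinearMap.fst R _ _))

lemma dG_apply (n : ℤ) (z : A T n × A T (n - 1)) :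
    dG T n z = (0, Submodule.inclusion (A_congr T (by omega : n = n + 1 - 1)) z.1) := rfl

/-- the contractible complex -/
noncomputable def G : DRing.Cx R :=
  CochainComplex.of (fun n => ModuleCat.of R (A T n × A T (n - 1)))
    (fun n => ModuleCat.ofHom (dG T n))
    (fun n => by
      refine ModuleCat.hom_ext (LinearMap.ext fun (z : A T n × A T (n - 1)) => ?_)
      show dG T (n + 1) (dG T n z) = 0
      rw [dG_apply, dG_apply]
      simp)

lemma G_d (n : ℤ) : (G T).d n (n + 1) = ModuleCat.ofHom (dG T n) :=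
  CochainComplex.of_d (fun n => ModuleCat.of R (A T n × A T (n - 1)))
    (fun n => ModuleCat.ofHom (dG T n)) n

/-- the map to `T` in degree `n` -/
noncomputable def θf (n : ℤ) : (A T n × A T (n - 1)) →ₗ[R] T.X n :=
  ((e T n).comp (A T n).subtype).comp (LinearMap.fst R _ _) +
    (((T.d (n - 1) n).hom.comp (e T (n - 1))).comp (A T (n - 1)).subtype).comp (LinearMap.snd R _ _)

lemma θf_apply (n : ℤ) (z : A T n × A T (n - 1)) :
    θf T n z = e T n z.1.1 + T.d (n - 1) n (e T (n - 1) z.2.1) := rfl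

lemma d_e_congr (k n m : ℤ) (hk : k = n) (v : F T) :
    T.d k m (e T k v) = T.d n m (e T n v) := by
  subst hk
  rfl

/-- the surjection onto `T` -/
noncomputable def θ : G T ⟶ T :=
  CochainComplex.ofHom (X := G T) (Y := T) (fun n => ModuleCat.ofHom (θf T n)) (fun n => by
    rw [G_d]
    refine ModuleCat.hom_ext (LinearMap.ext fun (z : A T n × A T (n - 1)) => ?_)
    show T.d n (n + 1) (θf T n z) = θf T (n + 1) (dG T n z)
    rw [θf_apply, θf_apply, dG_apply, map_add]
    have h1 : T.d n (n + 1) (T.d (n - 1) n (e T (n - 1) z.2.1)) = 0 :=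
      congrArg (fun f => f.hom (e T (n - 1) z.2.1)) (T.d_comp_d (n - 1) n (n + 1))
    rw [h1, add_zero]
    simp only [ZeroMemClass.coe_zero, map_zero, zero_add, Submodule.coe_inclusion]
    exact (d_e_congr T (n + 1 - 1) n (n + 1) (by omega) _).symm)

lemma θ_f_apply (n : ℤ) (z : (G T).X n) : (θ T).f n z = θf T n z := rfl

lemma θ_surjective (n : ℤ) : Function.Surjective ((θ T).f n) := by
  intro x
  obtain ⟨a, ha⟩ := e_surjective T n x
  refine ⟨((a, 0) : A T n × A T (n - 1)), ?_⟩
  show θf T n (a, 0) = x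
  rw [θf_apply]
  simp [ha]

lemma G_projective (n : ℤ) : Module.Projective R ((G T).X n) :=
  inferInstanceAs (Module.Projective R (A T n × A T (n - 1)))

lemma G_vanishesAbove (b : ℤ) (hb : DRing.VanishesAbove T b) : DRing.VanishesAbove (G T) (b + 1) := by
  intro i hi
  haveI : Subsingleton (A T i × A T (i - 1)) := by
    rw [A_eq_bot T i (hb i (by omega)), A_eq_bot T (i - 1) (hb (i - 1) (by omega))]
    infer_instance
  exact ModuleCat.isZero_of_subsingleton (ModuleCat.of R (A T i × A T (i - 1)))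

lemma G_exactAt (n : ℤ) : (G T).ExactAt n := by
  obtain ⟨i, rfl⟩ : ∃ i, n = i + 1 := ⟨n - 1, by omega⟩
  rw [HomologicalComplex.exactAt_iff' (G T) i (i + 1) (i + 1 + 1) (by simp) (by simp),
    ShortComplex.moduleCat_exact_iff]
  intro z hz
  change (G T).d (i + 1) (i + 1 + 1) z = 0 at hz
  rw [G_d] at hz
  change A T (i + 1) × A T (i + 1 - 1) at z
  have hz' : dG T (i + 1) z = 0 := hz
  rw [dG_apply] at hz'
  have hz1 : z.1 = 0 := by
    have := congrArg Prod.snd hz'
    simp only [Prod.snd_zero] at this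
    apply Subtype.ext
    have h2 := congrArg Subtype.val this
    simpa using h2
  let a : A T i := ⟨z.2.1, A_congr T (by omega : i + 1 - 1 = i) z.2.2⟩
  refine ⟨((a, 0) : A T i × A T (i - 1)), ?_⟩
  show (G T).d i (i + 1) ((a, 0) : A T i × A T (i - 1)) = z
  rw [G_d]
  show dG T i (a, 0) = z
  rw [dG_apply]
  refine Prod.ext hz1.symm ?_
  apply Subtype.ext
  rfl

end Groth.Agent.Helper6.Gadget
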