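import Mathlib
import Groth.Agent.Helper6.Gadget
import Groth.Agent.Helper3.DRingResP
import Groth.Agent.Helper3.DRing1

/-!
# Termwise surjective projective resolutions of bounded above complexes
-/

universe u
open CategoryTheory CategoryTheory.Limits

attribute [local instance] HasDerivedCategory.standard

namespace Groth.Agent.Helper6.SurjRes

variable {R : Type u} [CommRing R]

lemma quasiIso_biprod_inl (P G : DRing.Cx R) (hG : ∀ n, G.ExactAt n) :
    QuasiIso (biprod.inl : P ⟶ P ⊞ G) := by
  rw [quasiIso_iff]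
  intro i
  rw [quasiIsoAt_iff_isIso_homologyMap]
  have hz : IsZero (G.homology i) := (HomologicalComplex.exactAt_iff_isZero_homology G i).mp (hG i)
  refine ⟨HomologicalComplex.homologyMap (biprod.fst : P ⊞ G ⟶ P) i, ?_, ?_⟩
  · rw [← HomologicalComplex.homologyMap_comp, biprod.inl_fst, HomologicalComplex.homologyMap_id]
  · have h1 : HomologicalComplex.homologyMap (biprod.snd : P ⊞ G ⟶ G) i = 0 := hz.eq_of_tgt _ _
    have h2 := congrArg (fun f => HomologicalComplex.homologyMap f i) (biprod.total (X := P) (Y := G))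
    simp only [HomologicalComplex.homologyMap_add, HomologicalComplex.homologyMap_comp,
      HomologicalComplex.homologyMap_id, h1, zero_comp, add_zero] at h2
    exact h2

theorem exists_surjective_resolution (T : DRing.Cx R) (b : ℤ) (hb : DRing.VanishesAbove T b) :
    ∃ (P : DRing.Cx R) (π : P ⟶ T), DRing.VanishesAbove P (b + 1) ∧
      (∀ i, Module.Projective R (P.X i)) ∧ QuasiIso π ∧ ∀ i, Function.Surjective (π.f i) := by
  haveI := Groth.Agent.Helper3.DRingLib.isStrictlyLE_of_vanishesAbove T b hb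
  have hLE : (DRing.toD T).IsLE b := inferInstance
  obtain ⟨P', ρ, hP'b, hP'p, hρ⟩ :=
    Groth.Agent.Helper3.DRingLib.exists_projective_resolution T b hLE
  let G := Gadget.G T
  let θ := Gadget.θ T
  refine ⟨P' ⊞ G, biprod.desc ρ θ, ?_, ?_, ?_, ?_⟩
  · intro i hi
    have e : (P' ⊞ G).X i ≅ P'.X i ⊞ G.X i := HomologicalComplex.biprodXIso P' G i
    refine IsZero.of_iso ?_ e
    rw [IsZero.iff_id_eq_zero, ← biprod.total,
      (hP'b i (by omega)).eq_of_tgt (biprod.fst : P'.X i ⊞ G.X i ⟶ P'.X i) 0,
      (Gadget.G_vanishesAbove T b hb i hi).eq_of_tgt (biprod.snd : P'.X i ⊞ G.X i ⟶ G.X i) 0,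
      zero_comp, zero_comp, add_zero]
  · intro i
    have e : (P' ⊞ G).X i ≅ P'.X i ⊞ G.X i := HomologicalComplex.biprodXIso P' G i
    haveI : Projective (P'.X i) := (IsProjective.iff_projective _).mp (hP'p i)
    haveI : Projective (G.X i) := (IsProjective.iff_projective _).mp (Gadget.G_projective T i)
    have : Projective ((P' ⊞ G).X i) := Projective.of_iso e.symm inferInstance
    exact (IsProjective.iff_projective _).mpr this
  · haveI := quasiIso_biprod_inl P' G (Gadget.G_exactAt T)
    haveI : QuasiIso ((biprod.inl : P' ⟶ P' ⊞ G) ≫ biprod.desc ρ θ) := by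
      rw [biprod.inl_desc]; exact hρ
    exact quasiIso_of_comp_left (biprod.inl : P' ⟶ P' ⊞ G) (biprod.desc ρ θ)
  · intro i y
    obtain ⟨g, hg⟩ := Gadget.θ_surjective T i y
    refine ⟨(biprod.inr : G ⟶ P' ⊞ G).f i g, ?_⟩
    have := congrArg (fun f => f.f i) (biprod.inr_desc ρ θ)
    have h2 := congrArg (fun f => f.hom g) this
    exact h2.trans hg

end Groth.Agent.Helper6.SurjRes
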