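import Mathlib
import Groth.Agent.Helper6.TenCx
import Groth.Agent.Helper3.DRingTor1

/-!
# Bounded above complexes of flat modules are K-flat
-/

universe u
open CategoryTheory CategoryTheory.Limits MonoidalCategory

namespace Groth.Agent.Helper6.TenCx

variable {R : Type u} [CommRing R]

lemma ι_d (L K : DRing.Cx R) (p q n n' : ℤ) (h : p + q = n) (hn : n + 1 = n') :
    ι L K p q n h ≫ (L ⊗ K).d n n' =
      (L.d p (p + 1) ▷ K.X q) ≫ ι L K (p + 1) q n' (by omega) +
      p.negOnePow • ((L.X p ◁ K.d q (q + 1)) ≫ ι L K p (q + 1) n' (by omega)) := by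
  have h1 := HomologicalComplex.mapBifunctor.d_eq L K (curriedTensor (ModuleCat.{u} R))
    (ComplexShape.up ℤ) n n'
  show ι L K p q n h ≫ (HomologicalComplex.mapBifunctor L K (curriedTensor (ModuleCat.{u} R))
    (ComplexShape.up ℤ)).d n n' = _
  rw [h1, Preadditive.comp_add]
  erw [HomologicalComplex.mapBifunctor.ι_D₁, HomologicalComplex.mapBifunctor.ι_D₂]
  rw [HomologicalComplex.mapBifunctor.d₁_eq L K (curriedTensor (ModuleCat.{u} R))
      (ComplexShape.up ℤ) (i₁ := p) (i₁' := p + 1) (by simp) q n' (by dsimp; omega),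
    HomologicalComplex.mapBifunctor.d₂_eq L K (curriedTensor (ModuleCat.{u} R))
      (ComplexShape.up ℤ) p (i₂ := q) (i₂' := q + 1) (by simp) n' (by dsimp; omega)]
  simp

lemma ι_d_apply (L K : DRing.Cx R) (p q n n' : ℤ) (h : p + q = n) (hn : n + 1 = n')
    (t : ↑(L.X p ⊗ K.X q)) :
    (L ⊗ K).d n n' (ι L K p q n h t) =
      ι L K (p + 1) q n' (by omega) ((L.d p (p + 1) ▷ K.X q) t) +
      p.negOnePow • ι L K p (q + 1) n' (by omega) ((L.X p ◁ K.d q (q + 1)) t) := by
  have := congrArg (fun f => f.hom t) (ι_d L K p q n n' h hn)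
  exact this

lemma ι_d_apply' (L K : DRing.Cx R) (p q p' q' n n' : ℤ) (h : p + q = n) (hn : n + 1 = n')
    (hp : p + 1 = p') (hq : q + 1 = q') (t : ↑(L.X p ⊗ K.X q)) :
    (L ⊗ K).d n n' (ι L K p q n h t) =
      ι L K p' q n' (by omega) ((L.d p p' ▷ K.X q) t) +
      p.negOnePow • ι L K p q' n' (by omega) ((L.X p ◁ K.d q q') t) := by
  subst hp hq
  exact ι_d_apply L K p q n n' h hn t

/-- projection onto a summand -/
noncomputable def π (L K : DRing.Cx R) (p q n : ℤ) (h : p + q = n) :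
    (L ⊗ K).X n ⟶ L.X p ⊗ K.X q :=
  CofanMod.proj (cof L K n) (isColimitCof L K n) ⟨(p, q), h⟩

lemma π_ι_self (L K : DRing.Cx R) (p q n : ℤ) (h : p + q = n) (t : ↑(L.X p ⊗ K.X q)) :
    π L K p q n h (ι L K p q n h t) = t :=
  CofanMod.proj_inj_self (cof L K n) (isColimitCof L K n) ⟨(p, q), h⟩ t

lemma π_ι_ne (L K : DRing.Cx R) (p q p' q' n : ℤ) (h : p + q = n) (h' : p' + q' = n)
    (hne : q' ≠ q) (t : ↑(L.X p' ⊗ K.X q')) :
    π L K p q n h (ι L K p' q' n h' t) = 0 :=
  CofanMod.proj_inj_ne (cof L K n) (isColimitCof L K n) ⟨(p', q'), h'⟩ ⟨(p, q), h⟩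
    (fun e => hne (congrArg (fun i => i.1.2) e)) t

/-- the filtration by the second degree -/
noncomputable def F (L K : DRing.Cx R) (k m : ℤ) : Submodule R ((L ⊗ K).X m) :=
  Submodule.span R {x | ∃ (p q : ℤ) (h : p + q = m) (t : ↑(L.X p ⊗ K.X q)), k ≤ q ∧
    x = ι L K p q m h t}

lemma ι_mem_F (L K : DRing.Cx R) (k m p q : ℤ) (h : p + q = m) (hk : k ≤ q)
    (t : ↑(L.X p ⊗ K.X q)) : ι L K p q m h t ∈ F L K k m :=
  Submodule.subset_span ⟨p, q, h, t, hk, rfl⟩

lemma F_anti (L K : DRing.Cx R) {k k' : ℤ} (hk : k ≤ k') (m : ℤ) : F L K k' m ≤ F L K k m := by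
  apply Submodule.span_mono
  rintro x ⟨p, q, h, t, hq, rfl⟩
  exact ⟨p, q, h, t, hk.trans hq, rfl⟩

lemma exists_mem_F (L K : DRing.Cx R) (m : ℤ) (x : (L ⊗ K).X m) : ∃ k, x ∈ F L K k m := by
  induction x using induction_on with
  | h0 => exact ⟨0, Submodule.zero_mem _⟩
  | hadd x y hx hy =>
    obtain ⟨k, hk⟩ := hx
    obtain ⟨k', hk'⟩ := hy
    exact ⟨min k k', Submodule.add_mem _ (F_anti L K (min_le_left _ _) m hk)
      (F_anti L K (min_le_right _ _) m hk')⟩
  | hι p q h t => exact ⟨q, ι_mem_F L K q m p q h le_rfl t⟩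

lemma d_mem_F (L K : DRing.Cx R) (k m m' : ℤ) (hm : m + 1 = m') (x : (L ⊗ K).X m)
    (hx : x ∈ F L K k m) : (L ⊗ K).d m m' x ∈ F L K k m' := by
  induction hx using Submodule.span_induction with
  | mem x hx =>
    obtain ⟨p, q, h, t, hq, rfl⟩ := hx
    rw [ι_d_apply L K p q m m' h hm]
    refine Submodule.add_mem _ (ι_mem_F L K k m' _ _ _ hq _) (Submodule.smul_of_tower_mem _ _ ?_)
    exact ι_mem_F L K k m' _ _ _ (by omega) _
  | zero => rw [map_zero]; exact Submodule.zero_mem _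
  | add x y _ _ hx hy => rw [map_add]; exact Submodule.add_mem _ hx hy
  | smul r x _ hx => rw [map_smul]; exact Submodule.smul_mem _ _ hx

lemma π_eq_zero_of_mem_F (L K : DRing.Cx R) (k m p : ℤ) (h : p + k = m) (x : (L ⊗ K).X m)
    (hx : x ∈ F L K (k + 1) m) : π L K p k m h x = 0 := by
  induction hx using Submodule.span_induction with
  | mem x hx =>
    obtain ⟨p', q', h', t, hq, rfl⟩ := hx
    exact π_ι_ne L K p k p' q' m h h' (by omega) t
  | zero => rw [map_zero]
  | add x y _ _ hx hy => rw [map_add, hx, hy, add_zero]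
  | smul r x _ hx => rw [map_smul, hx, smul_zero]

lemma decomp (L K : DRing.Cx R) (k m p : ℤ) (h : p + k = m) (x : (L ⊗ K).X m)
    (hx : x ∈ F L K k m) :
    ∃ (t : ↑(L.X p ⊗ K.X k)) (x₁ : (L ⊗ K).X m), x₁ ∈ F L K (k + 1) m ∧
      x = ι L K p k m h t + x₁ := by
  induction hx using Submodule.span_induction with
  | mem x hx =>
    obtain ⟨p', q', h', t, hq, rfl⟩ := hx
    by_cases hqk : q' = k
    · subst hqk
      obtain rfl : p' = p := by omega
      exact ⟨t, 0, Submodule.zero_mem _, (add_zero _).symm⟩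
    · refine ⟨0, ι L K p' q' m h' t, ι_mem_F L K _ m _ _ _ (by omega) _, ?_⟩
      rw [map_zero, zero_add]
  | zero => exact ⟨0, 0, Submodule.zero_mem _, by rw [map_zero, add_zero]⟩
  | add x y _ _ hx hy =>
    obtain ⟨t, x₁, h1, rfl⟩ := hx
    obtain ⟨t', y₁, h2, rfl⟩ := hy
    refine ⟨t + t', x₁ + y₁, Submodule.add_mem _ h1 h2, ?_⟩
    rw [map_add]; abel
  | smul r x _ hx =>
    obtain ⟨t, x₁, h1, rfl⟩ := hx
    refine ⟨r • t, r • x₁, Submodule.smul_mem _ _ h1, ?_⟩
    rw [map_smul, smul_add]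


lemma tmul_subsingleton_right (M N : ModuleCat.{u} R) (hN : IsZero N) (t : ↑(M ⊗ N)) : t = 0 := by
  haveI : Subsingleton N := ModuleCat.subsingleton_of_isZero hN
  change TensorProduct R M N at t
  induction t using TensorProduct.induction_on with
  | zero => rfl
  | tmul x y => rw [Subsingleton.elim y 0, TensorProduct.tmul_zero]
  | add x y hx hy => rw [hx, hy, add_zero]

lemma F_eq_bot (L K : DRing.Cx R) (b : ℤ) (hb : DRing.VanishesAbove K b) (k m : ℤ) (hk : b < k) :
    F L K k m = ⊥ := by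
  rw [eq_bot_iff]
  apply Submodule.span_le.mpr
  rintro x ⟨p, q, h, t, hq, rfl⟩
  rw [tmul_subsingleton_right (L.X p) (K.X q) (hb q (by omega)) t, map_zero]
  exact Submodule.zero_mem _

/-- exactness of `L ⊗ M` for acyclic `L` and flat `M` -/
lemma exact_rTensor (L : DRing.Cx R) (hL : ∀ i : ℤ, IsZero (L.homology i)) (M : ModuleCat.{u} R)
    [Module.Flat R M] (p : ℤ) (t : ↑(L.X p ⊗ M)) (ht : (L.d p (p + 1) ▷ M) t = 0) :
    ∃ w : ↑(L.X (p - 1) ⊗ M), (L.d (p - 1) p ▷ M) w = t := by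
  have h1 : L.ExactAt p := (HomologicalComplex.exactAt_iff_isZero_homology L p).mpr (hL p)
  rw [Groth.Agent.Helper3.DRingLib.exactAt_iff_forall L (p - 1) p (p + 1) (by omega) rfl] at h1
  have hex : Function.Exact (L.d (p - 1) p).hom (L.d p (p + 1)).hom := fun x => by
    constructor
    · exact h1 x
    · rintro ⟨y, rfl⟩
      exact congrArg (fun f => f.hom y) (L.d_comp_d (p - 1) p (p + 1))
  have := Module.Flat.rTensor_exact M hex
  exact (this t).mp ht

/-- key induction -/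
theorem exists_d_eq (L K : DRing.Cx R) (hL : ∀ i : ℤ, IsZero (L.homology i)) (b : ℤ)
    (hb : DRing.VanishesAbove K b) (hK : DRing.TermwiseFlat K) :
    ∀ (n : ℕ) (m : ℤ) (z : (L ⊗ K).X m), z ∈ F L K (b + 1 - n) m → (L ⊗ K).d m (m + 1) z = 0 →
      ∃ w : (L ⊗ K).X (m - 1), (L ⊗ K).d (m - 1) m w = z := by
  intro n
  induction n with
  | zero =>
    intro m z hz _
    rw [F_eq_bot L K b hb _ m (by simp)] at hz
    rw [(Submodule.mem_bot R).mp hz]
    exact ⟨0, map_zero _⟩
  | succ n ih =>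
    intro m z hz hdz
    set k : ℤ := b + 1 - (n + 1 : ℕ) with hk
    have hk1 : k + 1 = b + 1 - n := by rw [hk]; push_cast; ring
    obtain ⟨t, z₁, hz₁, rfl⟩ := decomp L K k m (m - k) (by omega) z hz
    haveI : Module.Flat R (K.X k) := hK k
    -- the leading coefficient is a cycle
    have ht : (L.d (m - k) (m - k + 1) ▷ K.X k) t = 0 := by
      have h1 := congrArg (π L K (m - k + 1) k (m + 1) (by omega)) hdz
      rw [map_add, map_add, map_zero, ι_d_apply L K (m - k) k m (m + 1) (by omega) rfl, map_add,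
        π_ι_self, map_zsmul_unit, π_ι_ne L K _ _ _ _ _ _ _ (by omega), smul_zero, add_zero,
        π_eq_zero_of_mem_F L K k (m + 1) _ _ _ (d_mem_F L K (k + 1) m (m + 1) rfl z₁ hz₁),
        add_zero] at h1
      exact h1
    obtain ⟨w, hw⟩ := exact_rTensor L hL (K.X k) (m - k) t ht
    -- correct `z`
    set y := ι L K (m - k - 1) k (m - 1) (by omega) w with hy
    have hdy : (L ⊗ K).d (m - 1) m y = ι L K (m - k) k m (by omega) t +
        (m - k - 1).negOnePow • ι L K (m - k - 1) (k + 1) m (by omega)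
          ((L.X (m - k - 1) ◁ K.d k (k + 1)) w) := by
      rw [hy, ι_d_apply' L K (m - k - 1) k (m - k) (k + 1) (m - 1) m (by omega) (by omega)
        (by omega) rfl, hw]
    set z' := z₁ - (m - k - 1).negOnePow • ι L K (m - k - 1) (k + 1) m (by omega)
          ((L.X (m - k - 1) ◁ K.d k (k + 1)) w) with hz'
    have hz'F : z' ∈ F L K (b + 1 - n) m := by
      rw [← hk1]
      refine Submodule.sub_mem _ hz₁ (Submodule.smul_of_tower_mem _ _ ?_)
      exact ι_mem_F L K _ m _ _ _ le_rfl _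
    have hsum : ι L K (m - k) k m (by omega) t + z₁ = (L ⊗ K).d (m - 1) m y + z' := by
      rw [hdy, hz']; abel
    have hdz' : (L ⊗ K).d m (m + 1) z' = 0 := by
      have h2 : (L ⊗ K).d m (m + 1) ((L ⊗ K).d (m - 1) m y) = 0 :=
        congrArg (fun f => f.hom y) ((L ⊗ K).d_comp_d (m - 1) m (m + 1))
      rw [hsum, map_add, h2, zero_add] at hdz
      exact hdz
    obtain ⟨w', hw'⟩ := ih m z' hz'F hdz'
    refine ⟨w' + y, ?_⟩
    rw [map_add, hw', hsum, add_comm]

/-- bounded above complexes of flat modules are K-flat -/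
theorem kflat_of_boundedAbove_flat (P : DRing.Cx R) (b : ℤ) (hb : DRing.VanishesAbove P b)
    (hP : DRing.TermwiseFlat P) : KFlat P := by
  intro L hL m
  rw [← HomologicalComplex.exactAt_iff_isZero_homology,
    Groth.Agent.Helper3.DRingLib.exactAt_iff_forall (L ⊗ P) (m - 1) m (m + 1) (by omega) rfl]
  intro z hz
  obtain ⟨k, hk⟩ := exists_mem_F L P m z
  have h1 : z ∈ F L P (b + 1 - ((b + 1 - k).toNat : ℕ)) m := F_anti L P (by omega) m hk
  exact exists_d_eq L P hL b hb hP _ m z h1 hz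

end Groth.Agent.Helper6.TenCx
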