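import Mathlib
import Groth.Agent.Helper6.TenCxBdd
import Groth.Agent.Helper1.DCoprod

/-!
# Countable direct sums of K-flat complexes are K-flat
-/

universe u
open CategoryTheory CategoryTheory.Limits MonoidalCategory
open Groth.Agent.Helper1

namespace Groth.Agent.Helper6.TenCx

variable {R : Type u} [CommRing R] (K : ℕ → DRing.Cx R)

/-- projection of the direct sum onto a summand -/
noncomputable def rS (n : ℕ) : DCoprod.sig K ⟶ K n :=
  DCoprod.desc (fun j => if h : j = n then eqToHom (by rw [h]) else 0)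

lemma ι_rS_self (n : ℕ) : DCoprod.ι K n ≫ rS K n = 𝟙 _ := by
  rw [rS, DCoprod.ι_desc, dif_pos rfl]
  rfl

lemma ι_rS_ne (j n : ℕ) (h : j ≠ n) : DCoprod.ι K j ≫ rS K n = 0 := by
  rw [rS, DCoprod.ι_desc, dif_neg h]

/-- the idempotent of `DCoprod.sig K` cutting out the `n`-th summand -/
noncomputable def eS (n : ℕ) : DCoprod.sig K ⟶ DCoprod.sig K := rS K n ≫ DCoprod.ι K n

lemma ι_eS_self (n : ℕ) : DCoprod.ι K n ≫ eS K n = DCoprod.ι K n := by
  rw [eS, ← Category.assoc, ι_rS_self, Category.id_comp]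

lemma ι_eS_ne (j n : ℕ) (h : j ≠ n) : DCoprod.ι K j ≫ eS K n = 0 := by
  rw [eS, ← Category.assoc, ι_rS_ne K j n h, zero_comp]

/-- the cofan of the termwise coproduct -/
noncomputable def sigCofan (q : ℤ) : Cofan (fun j => (K j).X q) :=
  Cofan.mk ((DCoprod.sig K).X q) (fun j => (DCoprod.ι K j).f q)

noncomputable def sigCofanIsColimit (q : ℤ) : IsColimit (sigCofan K q) :=
  coproductIsCoproduct (fun j => (K j).X q)

variable (L : DRing.Cx R)

/-- finite decomposition of elements of `L ⊗ DCoprod.sig K` -/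
def Fin' (m : ℤ) (z : (L ⊗ DCoprod.sig K).X m) : Prop :=
  ∃ s : Finset ℕ, ∀ s' : Finset ℕ, s ⊆ s' → z = ∑ n ∈ s', (L ◁ eS K n).f m z

lemma fin'_zero (m : ℤ) : Fin' K L m 0 := ⟨∅, fun s' _ => by simp⟩

lemma fin'_add (m : ℤ) (x y : (L ⊗ DCoprod.sig K).X m) (hx : Fin' K L m x) (hy : Fin' K L m y) :
    Fin' K L m (x + y) := by
  classical
  obtain ⟨s, hs⟩ := hx
  obtain ⟨t, ht⟩ := hy
  refine ⟨s ∪ t, fun s' hs' => ?_⟩
  simp only [map_add, Finset.sum_add_distrib]
  rw [← hs s' (Finset.union_subset_left hs'), ← ht s' (Finset.union_subset_right hs')]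

lemma fin'_gen (m p q : ℤ) (h : p + q = m) (l : L.X p) (j : ℕ) (x : (K j).X q) :
    Fin' K L m (ι L (DCoprod.sig K) p q m h (l ⊗ₜ[R] ((DCoprod.ι K j).f q x))) := by
  classical
  refine ⟨{j}, fun s' hs' => ?_⟩
  have hj : j ∈ s' := hs' (Finset.mem_singleton_self j)
  have key : ∀ n, (L ◁ eS K n).f m (ι L (DCoprod.sig K) p q m h (l ⊗ₜ[R] ((DCoprod.ι K j).f q x))) =
      if j = n then ι L (DCoprod.sig K) p q m h (l ⊗ₜ[R] ((DCoprod.ι K j).f q x)) else 0 := by
    intro n
    have h1 := congrArg (fun f => f.hom (l ⊗ₜ[R] ((DCoprod.ι K j).f q x)))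
      (ι_whiskerLeft L (eS K n) p q m h)
    refine h1.trans ?_
    show ι L (DCoprod.sig K) p q m h (l ⊗ₜ[R] ((eS K n).f q ((DCoprod.ι K j).f q x))) = _
    have h2 : (eS K n).f q ((DCoprod.ι K j).f q x) = (DCoprod.ι K j ≫ eS K n).f q x := rfl
    rw [h2]
    split_ifs with hjn
    · subst hjn
      rw [ι_eS_self]
    · rw [ι_eS_ne K j n hjn]
      rw [HomologicalComplex.zero_f]
      simp
  rw [Finset.sum_congr rfl (fun n _ => key n), Finset.sum_ite_eq s' j, if_pos hj]

lemma fin'_tmul (m p q : ℤ) (h : p + q = m) (l : L.X p) (y : (DCoprod.sig K).X q) :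
    Fin' K L m (ι L (DCoprod.sig K) p q m h (l ⊗ₜ[R] y)) := by
  refine CofanMod.induction_on (sigCofan K q) (sigCofanIsColimit K q)
    (P := fun y : (sigCofan K q).pt => Fin' K L m (ι L (DCoprod.sig K) p q m h
      (l ⊗ₜ[R] (show (DCoprod.sig K).X q from y)))) ?_ ?_ ?_ y
  · show Fin' K L m (ι L (DCoprod.sig K) p q m h (l ⊗ₜ[R] (0 : (DCoprod.sig K).X q)))
    rw [TensorProduct.tmul_zero, map_zero]; exact fin'_zero K L m
  · intro y₁ y₂ h₁ h₂
    show Fin' K L m (ι L (DCoprod.sig K) p q m h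
      (l ⊗ₜ[R] ((show (DCoprod.sig K).X q from y₁) + (show (DCoprod.sig K).X q from y₂))))
    rw [TensorProduct.tmul_add, map_add]; exact fin'_add K L m _ _ h₁ h₂
  · intro j x
    exact fin'_gen K L m p q h l j x

lemma fin'_all (m : ℤ) (z : (L ⊗ DCoprod.sig K).X m) : Fin' K L m z := by
  induction z using induction_on with
  | h0 => exact fin'_zero K L m
  | hadd x y hx hy => exact fin'_add K L m x y hx hy
  | hι p q h t =>
    change TensorProduct R (L.X p) ((DCoprod.sig K).X q) at t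
    induction t using TensorProduct.induction_on with
    | zero => rw [map_zero]; exact fin'_zero K L m
    | add a b ha hb => rw [map_add]; exact fin'_add K L m _ _ ha hb
    | tmul l y => exact fin'_tmul K L m p q h l y

lemma hom_comm_apply {X Y : DRing.Cx R} (f : X ⟶ Y) (i j : ℤ) (x : X.X i) :
    Y.d i j (f.f i x) = f.f j (X.d i j x) :=
  congrArg (fun g => g.hom x) (f.comm i j)

/-- countable direct sums of K-flat complexes are K-flat -/
theorem kflat_sig (hK : ∀ n, KFlat (K n)) : KFlat (DCoprod.sig K) := by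
  intro L hL m
  rw [← HomologicalComplex.exactAt_iff_isZero_homology,
    Groth.Agent.Helper3.DRingLib.exactAt_iff_forall (L ⊗ DCoprod.sig K) (m - 1) m (m + 1)
      (by omega) rfl]
  intro z hz
  obtain ⟨s, hs⟩ := fin'_all K L m z
  have hz' := hs s subset_rfl
  have hw : ∀ n, ∃ w : (L ⊗ K n).X (m - 1),
      (L ⊗ K n).d (m - 1) m w = (L ◁ rS K n).f m z := by
    intro n
    have hex : (L ⊗ K n).ExactAt m :=
      (HomologicalComplex.exactAt_iff_isZero_homology _ m).mpr (hK n L hL m)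
    rw [Groth.Agent.Helper3.DRingLib.exactAt_iff_forall (L ⊗ K n) (m - 1) m (m + 1)
      (by omega) rfl] at hex
    apply hex
    have h1 := hom_comm_apply (L ◁ rS K n) m (m + 1) z
    refine h1.trans ?_
    have hz0 : (L ⊗ DCoprod.sig K).d m (m + 1) z = 0 := hz
    rw [hz0, map_zero]
  choose w hw using hw
  refine ⟨∑ n ∈ s, (L ◁ DCoprod.ι K n).f (m - 1) (w n), ?_⟩
  show (L ⊗ DCoprod.sig K).d (m - 1) m (∑ n ∈ s, (L ◁ DCoprod.ι K n).f (m - 1) (w n)) = z
  rw [map_sum]
  conv_rhs => rw [hz']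
  refine Finset.sum_congr rfl (fun n _ => ?_)
  rw [hom_comm_apply (L ◁ DCoprod.ι K n) (m - 1) m (w n), hw n]
  have h2 : L ◁ eS K n = (L ◁ rS K n) ≫ (L ◁ DCoprod.ι K n) := by
    rw [eS, MonoidalCategory.whiskerLeft_comp]
  rw [h2]
  rfl

end Groth.Agent.Helper6.TenCx
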