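import Mathlib
import Groth.Agent.Helper6.SurjRes
import Groth.Agent.Helper6.SubCx
import Groth.Agent.Helper6.TenCxSig
import Groth.Agent.Helper6.SeqColimCx2
import Groth.Agent.Helper5.KProj2
import Groth.Agent.Helper3.DRingCone

/-!
# K-flat (and K-projective) resolutions of unbounded complexes of modules
-/

universe u
open CategoryTheory CategoryTheory.Limits
open Groth.Agent.Helper1 Groth.Agent.Helper6.SeqColim

attribute [local instance] HasDerivedCategory.standard

namespace Groth.Agent.Helper6.KFlatRes

variable {R : Type u} [CommRing R] (M : DRing.Cx R)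

open SubCx

/-- the `n`-th resolution -/
noncomputable def Pn (n : ℕ) : DRing.Cx R :=
  (SurjRes.exists_surjective_resolution (tr M n) n (tr_vanishesAbove M n)).choose

noncomputable def πn (n : ℕ) : Pn M n ⟶ tr M n :=
  (SurjRes.exists_surjective_resolution (tr M n) n (tr_vanishesAbove M n)).choose_spec.choose

lemma Pn_spec (n : ℕ) : DRing.VanishesAbove (Pn M n) ((n : ℤ) + 1) ∧
      (∀ i, Module.Projective R ((Pn M n).X i)) ∧ QuasiIso (πn M n) ∧
      ∀ i, Function.Surjective ((πn M n).f i) :=
  (SurjRes.exists_surjective_resolution (tr M n) n (tr_vanishesAbove M n)).choose_spec.choose_spec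

lemma exists_fn (n : ℕ) : ∃ f : Pn M n ⟶ Pn M (n + 1),
    f ≫ πn M (n + 1) = πn M n ≫ (tower M).map (homOfLE (Nat.le_add_right n 1)) := by
  haveI : ∀ i, Module.Projective R ((Pn M n).X i) := (Pn_spec M n).2.1
  haveI : QuasiIso (πn M (n + 1)) := (Pn_spec M (n + 1)).2.2.1
  exact Groth.Agent.Helper5.KProj.s11704 (Pn M n) (Pn M (n + 1)) (tr M (n + 1)) ((n : ℤ) + 1)
    (Pn_spec M n).1 (πn M n ≫ (tower M).map (homOfLE (Nat.le_add_right n 1))) (πn M (n + 1))
    (Pn_spec M (n + 1)).2.2.2

noncomputable def fn (n : ℕ) : Pn M n ⟶ Pn M (n + 1) := (exists_fn M n).choose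

/-- the tower of resolutions -/
noncomputable def P : ℕ ⥤ DRing.Cx R := Functor.ofSequence (fn M)

/-- the map of towers -/
noncomputable def πP : P M ⟶ tower M :=
  NatTrans.ofSequence (F := P M) (G := tower M) (fun n => πn M n) (fun n => by
    have h1 : (P M).map (homOfLE (Nat.le_add_right n 1)) = fn M n :=
      Functor.ofSequence_map_homOfLE_succ (fn M) n
    rw [h1]
    exact (exists_fn M n).choose_spec)


lemma P_obj (n : ℕ) : (P M).obj n = Pn M n := rfl

lemma πP_app (n : ℕ) : (πP M).app n = πn M n := rfl

/-- the colimit cocone of the tower of resolutions -/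
noncomputable def cP : Cocone (P M) := colimit.cocone (P M)

noncomputable def hcP : IsColimit (cP M) := colimit.isColimit (P M)

/-- the telescope short exact sequence of the resolutions -/
noncomputable def SP : ShortComplex (DRing.Cx R) :=
  ShortComplex.mk (uC (P M)) (pC (P M) (cP M)) (uC_pC _ _)

lemma SP_shortExact : (SP M).ShortExact := shortExact_of_isColimit _ _ (hcP M)

/-- the telescope short exact sequence of the truncations -/
noncomputable def ST : ShortComplex (DRing.Cx R) :=
  ShortComplex.mk (uC (tower M)) (pC (tower M) (cocone M)) (uC_pC _ _)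

lemma ST_shortExact : (ST M).ShortExact :=
  shortExact_cx _ _ (cocone_surj M) (fun i n x hx => ⟨n, le_rfl, by
    have h0 : x = 0 := cocone_injective M n i (hx.trans (map_zero _).symm)
    rw [h0, map_zero]⟩)

/-- the induced map from the colimit of the resolutions -/
noncomputable def q : (cP M).pt ⟶ M :=
  (hcP M).desc ((Cocone.precompose (πP M)).obj (cocone M))

lemma ι_q (n : ℕ) : (cP M).ι.app n ≫ q M = (πP M).app n ≫ (cocone M).ι.app n :=
  (hcP M).fac ((Cocone.precompose (πP M)).obj (cocone M)) n

/-- the comparison of the two telescope sequences -/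
noncomputable def φ : SP M ⟶ ST M where
  τ₁ := DCoprod.sigMap (fun n => (πP M).app n)
  τ₂ := DCoprod.sigMap (fun n => (πP M).app n)
  τ₃ := q M
  comm₁₂ := by
    refine DCoprod.hom_ext (fun n => ?_)
    show DCoprod.ι _ n ≫ DCoprod.sigMap _ ≫ uC (tower M) =
      DCoprod.ι _ n ≫ uC (P M) ≫ DCoprod.sigMap _
    rw [ι_uC_assoc, Preadditive.sub_comp, DCoprod.ι_sigMap, Category.assoc, DCoprod.ι_sigMap,
      DCoprod.ι_sigMap_assoc, ι_uC, Preadditive.comp_sub]
    congr 1
    rw [← Category.assoc, ← Category.assoc, (πP M).naturality]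
  comm₂₃ := by
    refine DCoprod.hom_ext (fun n => ?_)
    show DCoprod.ι _ n ≫ DCoprod.sigMap _ ≫ pC (tower M) (cocone M) =
      DCoprod.ι _ n ≫ pC (P M) (cP M) ≫ q M
    rw [ι_pC_assoc, ι_q, DCoprod.ι_sigMap_assoc, ι_pC]

lemma quasiIso_q : QuasiIso (q M) := by
  have h1 : QuasiIso (DCoprod.sigMap (fun n => (πP M).app n)) :=
    DCoprod.quasiIso_sigMap _ (fun n => (Pn_spec M n).2.2.1)
  exact HomologicalComplex.HomologySequence.quasiIso_τ₃ (φ M) (SP_shortExact M)
    (ST_shortExact M) h1 h1


/-- the telescope of the resolutions -/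
noncomputable def Tel : DRing.Cx R := CochainComplex.mappingCone (uC (P M))

/-- the resolution map -/
noncomputable def telMap : Tel M ⟶ M :=
  CochainComplex.mappingCone.descShortComplex (SP M) ≫ q M

lemma quasiIso_telMap : QuasiIso (telMap M) := by
  haveI h1 : QuasiIso (CochainComplex.mappingCone.descShortComplex (SP M)) :=
    CochainComplex.mappingCone.quasiIso_descShortComplex (SP_shortExact M)
  haveI h2 : QuasiIso (show (SP M).X₃ ⟶ M from q M) := quasiIso_q M
  exact quasiIso_comp (CochainComplex.mappingCone.descShortComplex (SP M))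
    (show (SP M).X₃ ⟶ M from q M)

lemma q_surjective (i : ℤ) : Function.Surjective ((q M).f i) := by
  intro y
  obtain ⟨n, x, hx⟩ := cocone_surj M i y
  obtain ⟨p, hp⟩ := (Pn_spec M n).2.2.2 i x
  refine ⟨((cP M).ι.app n).f i p, ?_⟩
  have h1 := congrArg (fun f => (f.f i).hom p) (ι_q M n)
  refine h1.trans ?_
  show ((cocone M).ι.app n).f i ((πn M n).f i p) = y
  rw [hp, hx]

lemma telMap_surjective (i : ℤ) : Function.Surjective ((telMap M).f i) := by
  intro y
  obtain ⟨c, hc⟩ := q_surjective M i y
  have hepi : Function.Surjective ((pC (P M) (cP M)).f i) := by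
    have h1 := ((HomologicalComplex.shortExact_iff_degreewise_shortExact (SP M)).mp
      (SP_shortExact M) i).epi_g
    exact (ModuleCat.epi_iff_surjective _).mp h1
  obtain ⟨s, hs⟩ := hepi c
  refine ⟨(CochainComplex.mappingCone.inr (uC (P M))).f i s, ?_⟩
  have h2 := congrArg (fun f => f.hom s)
    (CochainComplex.mappingCone.inr_f_descShortComplex_f (SP M) i)
  show (q M).f i ((CochainComplex.mappingCone.descShortComplex (SP M)).f i
    ((CochainComplex.mappingCone.inr (uC (P M))).f i s)) = y
  have h3 : (CochainComplex.mappingCone.descShortComplex (SP M)).f i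
    ((CochainComplex.mappingCone.inr (uC (P M))).f i s) = (pC (P M) (cP M)).f i s := h2
  rw [h3, hs, hc]

lemma projective_sigma {C : Type*} [Category C] {β : Type*} (g : β → C) [HasCoproduct g]
    (hg : ∀ b, Projective (g b)) : Projective (∐ g) where
  factors f e _ := ⟨Limits.Sigma.desc fun b => Projective.factorThru (Limits.Sigma.ι g b ≫ f) e, by
    apply Limits.Sigma.hom_ext
    intro b
    rw [← Category.assoc, Limits.Sigma.ι_desc, Projective.factorThru_comp]⟩

lemma sig_projective (i : ℤ) :
    Module.Projective R ((DCoprod.sig (fun n => (P M).obj n)).X i) := by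
  haveI : ∀ n, Projective (((P M).obj n).X i) := fun n =>
    (IsProjective.iff_projective _).mp ((Pn_spec M n).2.1 i)
  have : Projective (∐ fun n => ((P M).obj n).X i) := projective_sigma _ (fun n => inferInstance)
  exact (IsProjective.iff_projective _).mpr this

lemma Tel_projective (i : ℤ) : Module.Projective R ((Tel M).X i) := by
  haveI := sig_projective M (i + 1)
  haveI := sig_projective M i
  exact Module.Projective.of_equiv
    (Groth.Agent.Helper3.DRingLib.coneXEquiv (uC (P M)) i).symm

lemma sig_kflat : TenCx.KFlat (DCoprod.sig (fun n => (P M).obj n)) := by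
  apply TenCx.kflat_sig
  intro n
  refine TenCx.kflat_of_boundedAbove_flat (Pn M n) ((n : ℤ) + 1) (Pn_spec M n).1 (fun i => ?_)
  haveI := (Pn_spec M n).2.1 i
  infer_instance

lemma Tel_kflat : TenCx.KFlat (Tel M) := by
  have hT := HomotopyCategory.mappingCone_triangleh_distinguished (uC (P M))
  exact (TenCx.kflat_triangle _ hT).1 (sig_kflat M) (sig_kflat M)

/-- existence of K-flat resolutions with projective terms, termwise surjective -/
theorem exists_resolution : ∃ (K : DRing.Cx R) (f : K ⟶ M), TenCx.KFlat K ∧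
    (∀ i, Module.Projective R (K.X i)) ∧ QuasiIso f ∧ ∀ i, Function.Surjective (f.f i) :=
  ⟨Tel M, telMap M, Tel_kflat M, Tel_projective M, quasiIso_telMap M, telMap_surjective M⟩

end Groth.Agent.Helper6.KFlatRes
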