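import Mathlib
import Groth.Prelude.Def_DTen
import Groth.Agent.Helper6.KFlatRes
import Groth.Agent.Helper3.DRingTor2

/-!
# Tensoring quasi-isomorphisms with K-flat complexes
-/

universe u
open CategoryTheory CategoryTheory.Limits MonoidalCategory

attribute [local instance] HasDerivedCategory.standard

namespace Groth.Agent.Helper6.TenCx

variable {R : Type u} [CommRing R]

/-- acyclicity in the `IsZero` form -/
abbrev Acyc (L : DRing.Cx R) : Prop := ∀ i : ℤ, IsZero (L.homology i)

lemma acyc_of_iso {L L' : DRing.Cx R} (e : L ≅ L') (h : Acyc L) : Acyc L' := fun i =>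
  (h i).of_iso ((HomologicalComplex.homologyFunctor _ _ i).mapIso e).symm

lemma acyc_of_homotopyEquiv {L L' : DRing.Cx R} (e : HomotopyEquiv L L') (h : Acyc L) :
    Acyc L' := fun i => (h i).of_iso (e.toHomologyIso i).symm

/-- K-flatness can be tested on either side -/
lemma kflat_left {K : DRing.Cx R} (hK : KFlat K) (L : DRing.Cx R) (hL : Acyc L) :
    Acyc (K ⊗ L) :=
  acyc_of_iso (DTen.braidCx L K) (hK L hL)

lemma quasiIso_f_of_acyc₃ {S : ShortComplex (DRing.Cx R)} (hS : S.ShortExact)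
    (h3 : Acyc S.X₃) : QuasiIso S.f := by
  rw [quasiIso_iff]
  intro i
  rw [quasiIsoAt_iff_isIso_homologyMap]
  haveI : Mono (HomologicalComplex.homologyMap S.f i) :=
    (hS.homology_exact₁ (i - 1) i (by simp)).mono_g ((h3 (i - 1)).eq_of_src _ _)
  haveI : Epi (HomologicalComplex.homologyMap S.f i) :=
    (hS.homology_exact₂ i).epi_f ((h3 i).eq_of_tgt _ _)
  exact isIso_of_mono_of_epi _

open Pretriangulated in
/-- tensoring a quasi-isomorphism with a K-flat complex on the left -/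
theorem quasiIso_whiskerLeft {K : DRing.Cx R} (hK : KFlat K) {L₁ L₂ : DRing.Cx R} (f : L₁ ⟶ L₂)
    (hf : QuasiIso f) : QuasiIso (K ◁ f) := by
  have hT := HomotopyCategory.mappingCone_triangleh_distinguished f
  obtain ⟨S, σ, ⟨e⟩⟩ :=
    (HomotopyCategory.distinguished_iff_iso_trianglehOfDegreewiseSplit _).mp hT
  have hS : S.ShortExact :=
    HomologicalComplex.shortExact_of_degreewise_shortExact S (fun n => (σ n).shortExact)
  let E₁ : HomotopyEquiv L₁ S.X₁ := HomotopyCategory.homotopyEquivOfIso (Triangle.π₁.mapIso e)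
  let E₂ : HomotopyEquiv L₂ S.X₂ := HomotopyCategory.homotopyEquivOfIso (Triangle.π₂.mapIso e)
  let E₃ : HomotopyEquiv (CochainComplex.mappingCone f) S.X₃ :=
    HomotopyCategory.homotopyEquivOfIso (Triangle.π₃.mapIso e)
  -- the cone is acyclic
  have hcone : Acyc (CochainComplex.mappingCone f) := fun i =>
    (HomologicalComplex.exactAt_iff_isZero_homology _ i).mp
      ((Groth.Agent.Helper3.DRingLib.quasiIso_iff_acyclic_cone f).mp hf i)
  have h3 : Acyc (K ⊗ S.X₃) := kflat_left hK _ (acyc_of_homotopyEquiv E₃ hcone)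
  have hqS : QuasiIso (K ◁ S.f) :=
    quasiIso_f_of_acyc₃ (tenSC_shortExact_of_split K hS σ) h3
  -- the square commutes up to homotopy
  have hsq : Homotopy (f ≫ E₂.hom) (E₁.hom ≫ S.f) := by
    apply HomotopyCategory.homotopyOfEq
    rw [Functor.map_comp, Functor.map_comp]
    have h1 : (HomotopyCategory.quotient _ _).map E₁.hom = e.hom.hom₁ :=
      HomotopyCategory.quotient_map_out (Triangle.π₁.mapIso e).hom
    have h2 : (HomotopyCategory.quotient _ _).map E₂.hom = e.hom.hom₂ :=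
      HomotopyCategory.quotient_map_out (Triangle.π₂.mapIso e).hom
    rw [h1, h2]
    exact e.hom.comm₁
  have hsq' : Homotopy ((K ◁ f) ≫ (K ◁ E₂.hom)) ((K ◁ E₁.hom) ≫ (K ◁ S.f)) := by
    refine Homotopy.trans (Homotopy.ofEq ?_) ((whiskerLeftHomotopy K hsq).trans (Homotopy.ofEq ?_))
    · rw [MonoidalCategory.whiskerLeft_comp]
    · rw [MonoidalCategory.whiskerLeft_comp]
  haveI q1 : QuasiIso (K ◁ E₁.hom) := by
    rw [quasiIso_iff]; intro i; rw [quasiIsoAt_iff_isIso_homologyMap]
    exact ((whiskerLeftHomotopyEquiv K E₁).toHomologyIso i).isIso_hom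
  haveI q2 : QuasiIso (K ◁ E₂.hom) := by
    rw [quasiIso_iff]; intro i; rw [quasiIsoAt_iff_isIso_homologyMap]
    exact ((whiskerLeftHomotopyEquiv K E₂).toHomologyIso i).isIso_hom
  haveI : QuasiIso ((K ◁ f) ≫ (K ◁ E₂.hom)) := by
    rw [quasiIso_iff]; intro i; rw [quasiIsoAt_iff_isIso_homologyMap, hsq'.homologyMap_eq i,
      HomologicalComplex.homologyMap_comp]
    haveI := (quasiIsoAt_iff_isIso_homologyMap (K ◁ E₁.hom) i).mp inferInstance
    haveI := (quasiIsoAt_iff_isIso_homologyMap (K ◁ S.f) i).mp inferInstance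
    infer_instance
  exact quasiIso_of_comp_right (K ◁ f) (K ◁ E₂.hom)


/-- tensoring a quasi-isomorphism with a K-flat complex on the right -/
theorem quasiIso_whiskerRight {K : DRing.Cx R} (hK : KFlat K) {L₁ L₂ : DRing.Cx R} (f : L₁ ⟶ L₂)
    (hf : QuasiIso f) : QuasiIso (f ▷ K) := by
  have h := DTen.braidCx_naturality f (𝟙 K)
  rw [MonoidalCategory.tensorHom_id, MonoidalCategory.id_tensorHom] at h
  haveI hq := quasiIso_whiskerLeft hK f hf
  have h2 : f ▷ K = (DTen.braidCx L₁ K).hom ≫ (K ◁ f) ≫ (DTen.braidCx L₂ K).inv := by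
    rw [← Category.assoc, ← h, Category.assoc, Iso.hom_inv_id, Category.comp_id]
  rw [h2]
  infer_instance

/-- a quasi-isomorphism between K-flat complexes stays one after tensoring with any complex -/
theorem quasiIso_whiskerLeft_of_kflat {P Q : DRing.Cx R} (α : P ⟶ Q) (hP : KFlat P) (hQ : KFlat Q)
    (hα : QuasiIso α) (L : DRing.Cx R) : QuasiIso (L ◁ α) := by
  obtain ⟨L', π, hL', -, hπ, -⟩ := KFlatRes.exists_resolution L
  haveI h1 : QuasiIso (π ▷ P) := quasiIso_whiskerRight hP π hπ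
  haveI h2 : QuasiIso (π ▷ Q) := quasiIso_whiskerRight hQ π hπ
  haveI h3 : QuasiIso (L' ◁ α) := quasiIso_whiskerLeft hL' α hα
  have sq : (L' ◁ α) ≫ (π ▷ Q) = (π ▷ P) ≫ (L ◁ α) := MonoidalCategory.whisker_exchange π α
  haveI : QuasiIso ((π ▷ P) ≫ (L ◁ α)) := by
    rw [← sq]
    infer_instance
  exact quasiIso_of_comp_left (π ▷ P) (L ◁ α)

end Groth.Agent.Helper6.TenCx
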