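import Mathlib
import Groth.Agent.Helper6.ExtTen
import Groth.Agent.Helper6.TenCxQis
import Groth.Agent.Helper3.DRingRestr

set_option autoImplicit false

/-!
# Extension of scalars and K-flat complexes
-/

open CategoryTheory CategoryTheory.Limits MonoidalCategory

universe u

namespace Groth.Agent.Helper6.ExtKFlat

open TenCx Groth.Agent.Helper3.DRingLib

variable {R R' : Type u} [CommRing R] [CommRing R'] (φ : R →+* R')

/-- restriction of scalars preserves and reflects acyclicity -/
lemma acyc_res_iff (K : DRing.Cx R') : Acyc ((DTen.resCx φ).obj K) ↔ Acyc K := by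
  constructor
  · intro h i
    have h1 : IsZero ((rF φ).obj (K.homology i)) := (h i).of_iso (rHomologyIso φ K i).symm
    haveI : Subsingleton ((rF φ).obj (K.homology i)) := ModuleCat.subsingleton_of_isZero h1
    haveI : Subsingleton (K.homology i) :=
      ⟨fun a b => Subsingleton.elim (α := (rF φ).obj (K.homology i)) a b⟩
    exact ModuleCat.isZero_of_subsingleton _
  · intro h i
    exact ((rF φ).map_isZero (h i)).of_iso (rHomologyIso φ K i)

/-- restriction of scalars reflects quasi-isomorphisms -/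
lemma quasiIso_of_res {K K' : DRing.Cx R'} (f : K ⟶ K')
    (h : QuasiIso ((DTen.resCx φ).map f)) : QuasiIso f := by
  haveI := preservesHomology_rF φ
  haveI : (rF φ).ReflectsIsomorphisms := inferInstance
  exact (HomologicalComplex.quasiIso_map_iff_of_preservesHomology f (rF φ)).mp h

/-- extension of scalars preserves K-flat complexes -/
theorem kflat_ext {K : DRing.Cx R} (hK : KFlat K) : KFlat ((DTen.extCx φ).obj K) := by
  intro L hL
  have h1 : Acyc ((DTen.resCx φ).obj L) := (acyc_res_iff φ L).mpr hL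
  have h2 : Acyc ((DTen.resCx φ).obj L ⊗ K) := hK _ h1
  have h3 : Acyc ((DTen.resCx φ).obj (L ⊗ (DTen.extCx φ).obj K)) :=
    acyc_of_iso (asIso (ExtTen.θ φ L K)) h2
  exact (acyc_res_iff φ _).mp h3

/-- extension of scalars preserves quasi-isomorphisms between K-flat complexes -/
theorem quasiIso_ext_of_kflat {P Q : DRing.Cx R} (α : P ⟶ Q) (hP : KFlat P) (hQ : KFlat Q)
    (hα : QuasiIso α) : QuasiIso ((DTen.extCx φ).map α) := by
  apply quasiIso_of_res φ
  -- it suffices to check after tensoring on the left with the unit of `R'`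
  have h1 : QuasiIso ((DTen.resCx φ).obj (𝟙_ (DRing.Cx R')) ◁ α) :=
    quasiIso_whiskerLeft_of_kflat α hP hQ hα _
  have sq := ExtTen.θ_naturality_right φ (𝟙_ (DRing.Cx R')) α
  haveI : QuasiIso ((DTen.resCx φ).map (𝟙_ (DRing.Cx R') ◁ (DTen.extCx φ).map α)) := by
    have h2 : (DTen.resCx φ).map (𝟙_ (DRing.Cx R') ◁ (DTen.extCx φ).map α) =
        inv (ExtTen.θ φ (𝟙_ (DRing.Cx R')) P) ≫
          ((DTen.resCx φ).obj (𝟙_ (DRing.Cx R')) ◁ α) ≫ ExtTen.θ φ (𝟙_ (DRing.Cx R')) Q := by
      rw [sq, IsIso.inv_hom_id_assoc]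
    rw [h2]
    infer_instance
  have h3 : (DTen.extCx φ).map α =
      (λ_ ((DTen.extCx φ).obj P)).inv ≫ (𝟙_ (DRing.Cx R') ◁ (DTen.extCx φ).map α) ≫
        (λ_ ((DTen.extCx φ).obj Q)).hom := by
    rw [MonoidalCategory.leftUnitor_naturality, Iso.inv_hom_id_assoc]
  rw [h3, Functor.map_comp, Functor.map_comp]
  infer_instance

end Groth.Agent.Helper6.ExtKFlat
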