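import Mathlib
import Groth.Prelude.Def_Wider

/-!
# `A[0]` is a dualizing complex iff `A` has finite injective dimension over itself
-/

set_option autoImplicit false
universe u

open CategoryTheory Abelian DerivedCategory
attribute [local instance] HasDerivedCategory.standard

namespace Groth.Agent.Helper6.DualSelf

variable (A : Type u) [CommRing A]

/-- negative shifted homs between modules vanish -/
theorem subsingleton_neg (M N : ModuleCat.{u} A) (i : ℤ) (hi : i < 0) :
    Subsingleton ((singleFunctor (ModuleCat.{u} A) 0).obj M ⟶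
      ((singleFunctor (ModuleCat.{u} A) 0).obj N)⟦i⟧) := by
  refine ⟨fun f g => ?_⟩
  haveI : TStructure.t.IsGE (((singleFunctor (ModuleCat.{u} A) 0).obj N)⟦i⟧) (-i) :=
    TStructure.t.isGE_shift _ 0 i (-i) (by omega)
  rw [TStructure.t.zero f 0 (-i) (by omega), TStructure.t.zero g 0 (-i) (by omega)]

/-- nonnegative shifted homs are `Ext` -/
theorem subsingleton_iff (M N : ModuleCat.{u} A) (k : ℕ) :
    letI : HasExt.{u + 1} (ModuleCat.{u} A) := hasExt_of_hasDerivedCategory _
    Subsingleton ((singleFunctor (ModuleCat.{u} A) 0).obj M ⟶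
      ((singleFunctor (ModuleCat.{u} A) 0).obj N)⟦(k : ℤ)⟧) ↔
      Subsingleton (Ext.{u + 1} M N k) := by
  letI : HasExt.{u + 1} (ModuleCat.{u} A) := hasExt_of_hasDerivedCategory _
  constructor
  · intro h
    exact (Ext.homEquiv (X := M) (Y := N) (n := k)).subsingleton
  · intro h
    exact (Ext.homEquiv (X := M) (Y := N) (n := k)).symm.subsingleton

/-- `a ↦ a • 𝟙` is a bijection `A → End_A(A)` -/
theorem smul_id_bijective :
    Function.Bijective (fun a : A => a • 𝟙 (ModuleCat.of A A)) := by
  constructor
  · intro a b hab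
    have h1 := congrArg (fun f : ModuleCat.of A A ⟶ ModuleCat.of A A => f.hom (1 : A)) hab
    simpa using h1
  · intro f
    refine ⟨f.hom (1 : A), ?_⟩
    apply ModuleCat.hom_ext
    apply LinearMap.ext_ring
    simp

/-- `a ↦ a • 𝟙` is a bijection `A → End_{D(A)}(A[0])` -/
theorem smul_id_inD_bijective :
    Function.Bijective (fun a : A => a • 𝟙 (Dual.inD A A)) := by
  have h1 : (fun a : A => a • 𝟙 (Dual.inD A A)) =
      (singleFunctor (ModuleCat.{u} A) 0).map ∘ (fun a : A => a • 𝟙 (ModuleCat.of A A)) := by
    funext a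
    simp only [Function.comp_apply, Functor.map_smul]
    congr 1
    exact ((singleFunctor (ModuleCat.{u} A) 0).map_id _).symm
  rw [h1]
  refine Function.Bijective.comp ⟨?_, ?_⟩ (smul_id_bijective A)
  · exact (singleFunctor (ModuleCat.{u} A) 0).map_injective
  · exact (singleFunctor (ModuleCat.{u} A) 0).map_surjective

theorem isDualizing_of_injdim [IsNoetherianRing A] (n : ℕ)
    (h : HasInjectiveDimensionLT (ModuleCat.of A A) n) : Dual.IsDualizing A (Dual.inD A A) := by
  letI hExt : HasExt.{u + 1} (ModuleCat.{u} A) := hasExt_of_hasDerivedCategory _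
  refine ⟨inferInstance, ⟨0, n, ?_⟩, ?_, smul_id_inD_bijective A, ?_⟩
  · intro M _ _ i hi
    rcases hi with hi | hi
    · exact subsingleton_neg A _ _ i hi
    · obtain ⟨k, rfl⟩ := Int.eq_ofNat_of_zero_le (by omega : 0 ≤ i)
      rw [subsingleton_iff]
      exact HasInjectiveDimensionLT.subsingleton _ n k (by omega) _
  · intro i
    by_cases hi : i = 0
    · subst hi
      let e := (singleFunctorCompHomologyFunctorIso (ModuleCat.{u} A) 0).app (ModuleCat.of A A)
      haveI : Module.Finite A ((𝟭 (ModuleCat.{u} A)).obj (ModuleCat.of A A)) :=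
        inferInstanceAs (Module.Finite A A)
      exact Module.Finite.equiv e.symm.toLinearEquiv
    · have hz : Limits.IsZero ((homologyFunctor (ModuleCat.{u} A) i).obj (Dual.inD A A)) := by
        rcases lt_or_gt_of_ne hi with h | h
        · exact isZero_of_isGE _ 0 i h
        · exact isZero_of_isLE _ 0 i h
      haveI : Subsingleton (Dual.HD A (Dual.inD A A) i) := ModuleCat.subsingleton_of_isZero hz
      infer_instance
  · intro i hi
    rcases lt_or_gt_of_ne hi with h | h
    · exact subsingleton_neg A _ _ i h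
    · obtain ⟨k, rfl⟩ := Int.eq_ofNat_of_zero_le (by omega : 0 ≤ i)
      rw [subsingleton_iff]
      obtain ⟨r, rfl⟩ : ∃ r, k = r + 1 := ⟨k - 1, by omega⟩
      have hP : Projective (ModuleCat.of A A) := (IsProjective.iff_projective _).1 inferInstance
      exact ⟨fun x y => by
        rw [Ext.eq_zero_of_projective (P := ModuleCat.of A A) x,
          Ext.eq_zero_of_projective (P := ModuleCat.of A A) y]⟩

theorem exists_injdim_of_isDualizing (h : Dual.IsDualizing A (Dual.inD A A)) :
    ∃ n : ℕ, HasInjectiveDimensionLT (ModuleCat.of A A) n := by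
  letI hExt : HasExt.{u + 1} (ModuleCat.{u} A) := hasExt_of_hasDerivedCategory _
  obtain ⟨a, b, hab⟩ := h.finite_injective_dimension
  refine ⟨(b + 1).toNat, HasInjectiveDimensionLT.mk (fun i hi Y e => ?_)⟩
  have hsub := hab Y (i : ℤ) (Or.inr (by omega))
  rw [subsingleton_iff] at hsub
  exact Subsingleton.elim _ _

end Groth.Agent.Helper6.DualSelf
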