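import Mathlib
import Groth.Agent.Helper1.TorCrit

/-!
# Finiteness of `Ext` modules over a Noetherian ring, and Nakayama for `Ext`
-/

set_option autoImplicit false
universe u

namespace Groth.Agent.Helper6.ExtFin

open CategoryTheory Abelian Groth.Agent.Helper1.TorLib

variable {A : Type u} [CommRing A]

/-- `Ext^i(N, M)` is a finite module for finite modules over a Noetherian ring. -/
theorem finite_ext [IsNoetherianRing A] (M : Type u) [AddCommGroup M] [Module A M]
    [Module.Finite A M] :
    ∀ (i : ℕ) (N : Type u) [AddCommGroup N] [Module A N] [Module.Finite A N],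
      Module.Finite A (Ext (ModuleCat.of A N) (ModuleCat.of A M) i) := by
  intro i
  induction i with
  | zero =>
    intro N _ _ _
    have e1 : Ext (ModuleCat.of A N) (ModuleCat.of A M) 0 ≃ₗ[A]
        (ModuleCat.of A N ⟶ ModuleCat.of A M) := Ext.linearEquiv₀
    have e2 : (ModuleCat.of A N ⟶ ModuleCat.of A M) ≃ₗ[A] (N →ₗ[A] M) :=
      ModuleCat.homLinearEquiv
    haveI : IsNoetherian A M := inferInstance
    haveI : IsNoetherian A (N →ₗ[A] M) := isNoetherian_linearMap A M N
    exact Module.Finite.equiv (e1.trans e2).symm
  | succ i ih =>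
    intro N _ _ _
    obtain ⟨n, f, hf⟩ := Module.Finite.exists_fin' A N
    have hS := scOfLinear_shortExact (LinearMap.ker f).subtype f (Submodule.injective_subtype _) hf
      (LinearMap.exact_subtype_ker_map f)
    haveI : IsNoetherian A (Fin n → A) := inferInstance
    haveI : Module.Finite A (LinearMap.ker f) := inferInstance
    have hK : Module.Finite A (Ext (ModuleCat.of A (LinearMap.ker f)) (ModuleCat.of A M) i) :=
      ih (LinearMap.ker f)
    haveI : Projective (scOfLinear (LinearMap.ker f).subtype f
        (LinearMap.exact_subtype_ker_map f)).X₂ := by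
      show Projective (ModuleCat.of A (Fin n → A))
      exact ModuleCat.projective_of_categoryTheory_projective _
    let δ : Ext (ModuleCat.of A (LinearMap.ker f)) (ModuleCat.of A M) i →ₗ[A]
        Ext (ModuleCat.of A N) (ModuleCat.of A M) (i + 1) :=
      Ext.bilinearCompOfLinear A _ _ _ 1 i (i + 1) (add_comm 1 i) hS.extClass
    have hδ : Function.Surjective δ := by
      intro x₃
      have h0 : (Ext.mk₀ (scOfLinear (LinearMap.ker f).subtype f
          (LinearMap.exact_subtype_ker_map f)).g).comp x₃ (zero_add _) = 0 :=
        Ext.eq_zero_of_projective _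
      obtain ⟨x₁, hx₁⟩ := Ext.contravariant_sequence_exact₃ hS _ x₃ h0 (add_comm 1 i)
      exact ⟨x₁, hx₁⟩
    exact Module.Finite.of_surjective δ hδ

end Groth.Agent.Helper6.ExtFin
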