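import Mathlib
import Groth.Prelude.Def_Wider
import Groth.Prelude.Def_DRing2
import Groth.Agent.Helper3.DRingInjAmp
import Groth.Agent.Helper6.DualSelf
import Groth.Agent.Helper6.ExtFin

/-!
# Finiteness of `Hom_{D(A)}(K, L[i])` for coherent cohomology and `L` of finite injective dimension
-/

set_option autoImplicit false
universe u

open CategoryTheory Limits Pretriangulated DerivedCategory Abelian
attribute [local instance] HasDerivedCategory.standard

namespace Groth.Agent.Helper6.DFinExt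

variable {A : Type u} [CommRing A]

lemma finite_of_iso_left {X X' Y : Dual.D A} (e : X ≅ X') (h : Module.Finite A (X ⟶ Y)) :
    Module.Finite A (X' ⟶ Y) :=
  Module.Finite.of_surjective (Linear.leftComp A Y e.inv) (fun f => ⟨e.hom ≫ f, by simp⟩)

lemma finite_of_iso_right {X Y Y' : Dual.D A} (e : Y ≅ Y') (h : Module.Finite A (X ⟶ Y)) :
    Module.Finite A (X ⟶ Y') :=
  Module.Finite.of_surjective (Linear.rightComp A X e.hom) (fun f => ⟨f ≫ e.inv, by simp⟩)

lemma finite_shift_both {X Y : Dual.D A} (n : ℤ) (h : Module.Finite A (X ⟶ Y)) :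
    Module.Finite A (X⟦n⟧ ⟶ Y⟦n⟧) :=
  Module.Finite.of_surjective ((shiftFunctor (Dual.D A) n).mapLinearMap A)
    (shiftFunctor (Dual.D A) n).map_surjective

lemma finite_of_subsingleton {X Y : Dual.D A} (h : Subsingleton (X ⟶ Y)) :
    Module.Finite A (X ⟶ Y) := inferInstance

variable [IsNoetherianRing A]

lemma finite_mid {M₁ M₂ M₃ : Type (u + 1)} [AddCommGroup M₁] [AddCommGroup M₂] [AddCommGroup M₃]
    [Module A M₁] [Module A M₂] [Module A M₃] (f : M₁ →ₗ[A] M₂) (g : M₂ →ₗ[A] M₃)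
    (hfg : ∀ y, g (f y) = 0) (hex : ∀ x, g x = 0 → ∃ y, f y = x)
    (h1 : Module.Finite A M₁) (h3 : Module.Finite A M₃) : Module.Finite A M₂ := by
  haveI : IsNoetherian A M₁ := isNoetherian_of_isNoetherianRing_of_finite A M₁
  haveI : IsNoetherian A M₃ := isNoetherian_of_isNoetherianRing_of_finite A M₃
  have : IsNoetherian A M₂ := by
    apply isNoetherian_of_range_eq_ker f g
    ext x
    constructor
    · rintro ⟨y, rfl⟩
      exact hfg y
    · intro hx
      exact hex x hx
  exact Module.IsNoetherian.finite A M₂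

/-- contravariant two-out-of-three -/
lemma finite_obj₂_left (T : Triangle (Dual.D A)) (hT : T ∈ distTriang _) (Z : Dual.D A)
    (h1 : Module.Finite A (T.obj₁ ⟶ Z)) (h3 : Module.Finite A (T.obj₃ ⟶ Z)) :
    Module.Finite A (T.obj₂ ⟶ Z) := by
  refine finite_mid (Linear.leftComp A Z T.mor₂) (Linear.leftComp A Z T.mor₁) ?_ ?_ h3 h1
  · intro y
    show T.mor₁ ≫ T.mor₂ ≫ y = 0
    rw [← Category.assoc, comp_distTriang_mor_zero₁₂ _ hT, zero_comp]
  · intro x hx
    obtain ⟨g, hg⟩ := Triangle.yoneda_exact₂ _ hT x hx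
    exact ⟨g, hg.symm⟩

/-- covariant two-out-of-three -/
lemma finite_obj₂_right (T : Triangle (Dual.D A)) (hT : T ∈ distTriang _) (Z : Dual.D A)
    (h1 : Module.Finite A (Z ⟶ T.obj₁)) (h3 : Module.Finite A (Z ⟶ T.obj₃)) :
    Module.Finite A (Z ⟶ T.obj₂) := by
  refine finite_mid (Linear.rightComp A Z T.mor₁) (Linear.rightComp A Z T.mor₂) ?_ ?_ h1 h3
  · intro y
    show (y ≫ T.mor₁) ≫ T.mor₂ = 0
    rw [Category.assoc, comp_distTriang_mor_zero₁₂ _ hT, comp_zero]
  · intro x hx
    obtain ⟨g, hg⟩ := Triangle.coyoneda_exact₂ _ hT x hx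
    exact ⟨g, hg.symm⟩


/-- base case: finite modules -/
lemma finite_base (N M : Type u) [AddCommGroup N] [Module A N] [Module.Finite A N]
    [AddCommGroup M] [Module A M] [Module.Finite A M] (j : ℤ) :
    Module.Finite A (Dual.inD A N ⟶ (Dual.inD A M)⟦j⟧) := by
  by_cases hj : j < 0
  · exact finite_of_subsingleton (DualSelf.subsingleton_neg A _ _ j hj)
  · obtain ⟨k, rfl⟩ := Int.eq_ofNat_of_zero_le (by omega : 0 ≤ j)
    have h1 : Module.Finite A (Ext (ModuleCat.of A N) (ModuleCat.of A M) k) :=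
      ExtFin.finite_ext M k N
    exact Module.Finite.equiv (Ext.homLinearEquiv (R := A) (X := ModuleCat.of A N)
      (Y := ModuleCat.of A M) (n := k))

/-- `Hom(N[0][a], L)` is finite for `L` bounded with finite cohomology -/
lemma finite_right (N : Type u) [AddCommGroup N] [Module A N] [Module.Finite A N]
    (L : Dual.D A) (hb : ∃ a b : ℤ, ∀ i : ℤ, (i < a ∨ b < i) → Subsingleton (Dual.HD A L i))
    (hL : ∀ i : ℤ, Module.Finite A (Dual.HD A L i)) :
    ∀ a : ℤ, Module.Finite A ((Dual.inD A N)⟦a⟧ ⟶ L) := by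
  refine Groth.Agent.Helper3.DRingLib.devissage_homology'
    (fun L' => ∀ a : ℤ, Module.Finite A ((Dual.inD A N)⟦a⟧ ⟶ L')) ?_ ?_ ?_ L hb ?_
  · intro K L' e h a
    exact finite_of_iso_right e (h a)
  · intro K n h a
    have h1 := finite_shift_both n (h (a - n))
    exact finite_of_iso_left
      ((shiftFunctorAdd' (Dual.D A) (a - n) n a (by omega)).app (Dual.inD A N)).symm h1
  · intro T hT h1 h3 a
    exact finite_obj₂_right T hT _ (h1 a) (h3 a)
  · intro i a
    haveI := hL i
    have h1 := finite_shift_both a (finite_base (A := A) N (Dual.HD A L i) (-a))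
    exact finite_of_iso_right
      ((shiftFunctorCompIsoId (Dual.D A) (-a) a (by omega)).app (Dual.inD A (Dual.HD A L i))) h1

/-- `Hom(K, L[b])` is finite for `K`, `L` bounded with finite cohomology -/
lemma finite_bounded (K L : Dual.D A)
    (hbK : ∃ a b : ℤ, ∀ i : ℤ, (i < a ∨ b < i) → Subsingleton (Dual.HD A K i))
    (hK : ∀ i : ℤ, Module.Finite A (Dual.HD A K i))
    (hbL : ∃ a b : ℤ, ∀ i : ℤ, (i < a ∨ b < i) → Subsingleton (Dual.HD A L i))
    (hL : ∀ i : ℤ, Module.Finite A (Dual.HD A L i)) :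
    ∀ b : ℤ, Module.Finite A (K ⟶ L⟦b⟧) := by
  refine Groth.Agent.Helper3.DRingLib.devissage_homology'
    (fun K' => ∀ b : ℤ, Module.Finite A (K' ⟶ L⟦b⟧)) ?_ ?_ ?_ K hbK ?_
  · intro K K' e h b
    exact finite_of_iso_left e (h b)
  · intro K n h b
    have h1 := finite_shift_both n (h (b - n))
    exact finite_of_iso_right
      ((shiftFunctorAdd' (Dual.D A) (b - n) n b (by omega)).app L).symm h1
  · intro T hT h1 h3 b
    exact finite_obj₂_left T hT _ (h1 b) (h3 b)
  · intro i b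
    haveI := hK i
    have h1 := finite_shift_both b (finite_right (Dual.HD A K i) L hbL hL (-b))
    exact finite_of_iso_left
      ((shiftFunctorCompIsoId (Dual.D A) (-b) b (by omega)).app (Dual.inD A (Dual.HD A K i))) h1


omit [IsNoetherianRing A] in
lemma hom_eq_zero_of_disjoint (Y E : DRing.Cx A) [E.IsKInjective]
    (h : ∀ j, IsZero (Y.X j) ∨ IsZero (E.X j)) (f : DRing.toD Y ⟶ DRing.toD E) : f = 0 := by
  obtain ⟨φ, rfl⟩ := Groth.Agent.Helper3.DRingLib.exists_Q_map_eq_inj Y E f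
  have : φ = 0 := by
    ext j : 1
    rcases h j with h | h
    · exact h.eq_of_src _ _
    · exact h.eq_of_tgt _ _
  rw [this, Functor.map_zero]

omit [IsNoetherianRing A] in
lemma vanish_high (E : DRing.Cx A) (a b : ℤ) (hv : DRing.VanishesOutside E a b)
    (hinj : DRing.TermwiseInjective E) (Y : Dual.D A) (n i : ℤ) [Y.IsGE n] (h : b < n + i)
    (f : Y ⟶ (DRing.toD E)⟦i⟧) : f = 0 := by
  haveI : E.IsKInjective :=
    Groth.Agent.Helper3.DRingLib.isKInjective_of_termwiseInjective E a b hv hinj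
  haveI : (E⟦i⟧).IsKInjective := (CochainComplex.isKInjective_shift_iff E i).mpr inferInstance
  obtain ⟨Y', hY', ⟨eY⟩⟩ := exists_iso_Q_obj_of_isGE Y n
  have h0 : eY.inv ≫ f ≫ ((Q.commShiftIso i).app E).inv = 0 := by
    apply hom_eq_zero_of_disjoint Y' (E⟦i⟧)
    intro j
    by_cases hj : j < n
    · exact Or.inl (CochainComplex.isZero_of_isStrictlyGE Y' n j hj)
    · exact Or.inr (hv (j + i) (Or.inr (by omega)))
  have h1 : f = eY.hom ≫ (eY.inv ≫ f ≫ ((Q.commShiftIso i).app E).inv) ≫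
      ((Q.commShiftIso i).app E).hom := by simp
  rw [h1, h0, zero_comp, comp_zero]

omit [IsNoetherianRing A] in
lemma vanish_low (E : DRing.Cx A) (a b : ℤ) (hv : DRing.VanishesOutside E a b)
    (hinj : DRing.TermwiseInjective E) (Y : Dual.D A) (n i : ℤ) [Y.IsLE n] (h : n + i < a)
    (f : Y ⟶ (DRing.toD E)⟦i⟧) : f = 0 := by
  haveI : E.IsKInjective :=
    Groth.Agent.Helper3.DRingLib.isKInjective_of_termwiseInjective E a b hv hinj
  haveI : (E⟦i⟧).IsKInjective := (CochainComplex.isKInjective_shift_iff E i).mpr inferInstance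
  obtain ⟨Y', hY', ⟨eY⟩⟩ := exists_iso_Q_obj_of_isLE Y n
  have h0 : eY.inv ≫ f ≫ ((Q.commShiftIso i).app E).inv = 0 := by
    apply hom_eq_zero_of_disjoint Y' (E⟦i⟧)
    intro j
    by_cases hj : n < j
    · exact Or.inl (CochainComplex.isZero_of_isStrictlyLE Y' n j hj)
    · exact Or.inr (hv (j + i) (Or.inl (by omega)))
  have h1 : f = eY.hom ≫ (eY.inv ≫ f ≫ ((Q.commShiftIso i).app E).inv) ≫
      ((Q.commShiftIso i).app E).hom := by simp
  rw [h1, h0, zero_comp, comp_zero]

omit [IsNoetherianRing A] in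
lemma subsingleton_HD_toD (E : DRing.Cx A) (j : ℤ) (hz : IsZero (E.X j)) :
    Subsingleton (Dual.HD A (DRing.toD E) j) := by
  have hex : E.ExactAt j := by
    rw [HomologicalComplex.exactAt_iff]
    exact ShortComplex.exact_of_isZero_X₂ _ hz
  rw [HomologicalComplex.exactAt_iff_isZero_homology] at hex
  exact ModuleCat.subsingleton_of_isZero
    (hex.of_iso (Groth.Agent.Helper3.DRingLib.homologyToDIso E j))

theorem main (K L : Dual.D A) (hK : ∀ i : ℤ, Module.Finite A (Dual.HD A K i))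
    (hL : ∀ i : ℤ, Module.Finite A (Dual.HD A L i)) (hLi : DRing.HasFiniteInjDim A L) (i : ℤ) :
    Module.Finite A (K ⟶ L⟦i⟧) := by
  obtain ⟨a, b, E, hv, hinj, ⟨e⟩⟩ := hLi
  suffices hs : Module.Finite A (K ⟶ (DRing.toD E)⟦i⟧) from
    finite_of_iso_right ((shiftFunctor (Dual.D A) i).mapIso e) hs
  have hL' : ∀ j : ℤ, Module.Finite A (Dual.HD A (DRing.toD E) j) := fun j =>
    Groth.Agent.Helper3.DRingLib.finite_of_iso
      ((homologyFunctor (ModuleCat.{u} A) j).mapIso e.symm) (hL j)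
  have hbL : ∃ a b : ℤ, ∀ j : ℤ, (j < a ∨ b < j) → Subsingleton (Dual.HD A (DRing.toD E) j) :=
    ⟨a, b, fun j hj => subsingleton_HD_toD E j (hv j hj)⟩
  -- first truncation
  obtain ⟨X, Y, hX, hY, f, g, δ, hT⟩ := TStructure.t.exists_triangle K (a - i - 1) (a - i) (by omega)
  haveI iX : X.IsLE (a - i - 1) := ⟨hX⟩
  haveI iY : Y.IsGE (a - i) := ⟨hY⟩
  have iY' : (Triangle.mk f g δ).obj₃.IsGE ((a - i - 1) + 1) := by
    have : a - i - 1 + 1 = a - i := by omega
    rw [this]; exact iY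
  have iX' : (Triangle.mk f g δ).obj₁.IsLE (a - i - 1) := iX
  refine finite_obj₂_left (Triangle.mk f g δ) hT _ ?_ ?_
  · exact finite_of_subsingleton
      ⟨fun p q => by rw [vanish_low E a b hv hinj X (a - i - 1) i (by omega) p,
        vanish_low E a b hv hinj X (a - i - 1) i (by omega) q]⟩
  -- second truncation
  obtain ⟨X', Y', hX', hY', f', g', δ', hT'⟩ :=
    TStructure.t.exists_triangle Y (b - i) (b - i + 1) (by omega)
  haveI jX : X'.IsLE (b - i) := ⟨hX'⟩
  haveI jY : Y'.IsGE (b - i + 1) := ⟨hY'⟩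
  have jY' : (Triangle.mk f' g' δ').obj₃.IsGE ((b - i) + 1) := jY
  have jX' : (Triangle.mk f' g' δ').obj₁.IsLE (b - i) := jX
  refine finite_obj₂_left (Triangle.mk f' g' δ') hT' _ ?_ ?_
  swap
  · exact finite_of_subsingleton
      ⟨fun p q => by rw [vanish_high E a b hv hinj Y' (b - i + 1) i (by omega) p,
        vanish_high E a b hv hinj Y' (b - i + 1) i (by omega) q]⟩
  -- cohomology of `Y`
  have hYfin : ∀ j : ℤ, Module.Finite A (Dual.HD A Y j) := by
    intro j
    by_cases hj : a - i ≤ j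
    · have hiso : IsIso ((homologyFunctor (ModuleCat.{u} A) j).map (Triangle.mk f g δ).mor₂) :=
        Groth.Agent.Helper3.DRingLib.isIso_HD_mor₂ _ hT (a - i - 1) j (by omega)
      exact Groth.Agent.Helper3.DRingLib.finite_of_iso
        (@asIso _ _ _ _ _ hiso) (hK j)
    · have hz : IsZero ((homologyFunctor (ModuleCat.{u} A) j).obj Y) :=
        Y.isZero_of_isGE (a - i) j (by omega)
      haveI : Subsingleton (Dual.HD A Y j) := ModuleCat.subsingleton_of_isZero hz
      infer_instance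
  have hX'iso : ∀ j : ℤ, j ≤ b - i →
      IsIso ((homologyFunctor (ModuleCat.{u} A) j).map (Triangle.mk f' g' δ').mor₁) :=
    fun j hj => Groth.Agent.Helper3.DRingLib.isIso_HD_mor₁ _ hT' (b - i) j hj
  have hX'fin : ∀ j : ℤ, Module.Finite A (Dual.HD A X' j) := by
    intro j
    by_cases hj : j ≤ b - i
    · have hiso := hX'iso j hj
      exact Groth.Agent.Helper3.DRingLib.finite_of_iso
        (@asIso _ _ _ _ _ hiso).symm
        (hYfin j)
    · have hz : IsZero ((homologyFunctor (ModuleCat.{u} A) j).obj X') :=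
        X'.isZero_of_isLE (b - i) j (by omega)
      haveI : Subsingleton (Dual.HD A X' j) := ModuleCat.subsingleton_of_isZero hz
      infer_instance
  have hbX' : ∃ a' b' : ℤ, ∀ j : ℤ, (j < a' ∨ b' < j) → Subsingleton (Dual.HD A X' j) := by
    refine ⟨a - i, b - i, ?_⟩
    intro j hj
    by_cases hj' : j ≤ b - i
    · have hiso := hX'iso j hj'
      have hz : IsZero ((homologyFunctor (ModuleCat.{u} A) j).obj Y) :=
        Y.isZero_of_isGE (a - i) j (by omega)
      exact ModuleCat.subsingleton_of_isZero (hz.of_iso (@asIso _ _ _ _ _ hiso))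
    · exact ModuleCat.subsingleton_of_isZero (X'.isZero_of_isLE (b - i) j (by omega))
  exact finite_bounded X' (DRing.toD E) hbX' hX'fin hbL hL' i

end Groth.Agent.Helper6.DFinExt
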