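import Mathlib
import Groth.Prelude.Def_Wider
import Groth.Prelude.Def_DRing2
import Groth.Agent.Helper3.DRingTor8

/-!
# Tor amplitude of modules of finite projective dimension
-/

set_option autoImplicit false
universe u

open CategoryTheory Limits Pretriangulated DerivedCategory Abelian
attribute [local instance] HasDerivedCategory.standard

namespace Groth.Agent.Helper6.TorAmpPd

open Groth.Agent.Helper3.DRingLib

variable {A : Type u} [CommRing A]

lemma hasTorAmplitudeIn_mono {K : Dual.D A} {a b a' b' : ℤ} (ha : a' ≤ a) (hb : b ≤ b')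
    (h : DRing.HasTorAmplitudeIn A a b K) : DRing.HasTorAmplitudeIn A a' b' K := by
  obtain ⟨E, h1, h2, h3⟩ := h
  exact ⟨E, vanishesOutside_mono E ha hb h1, h2, h3⟩

/-- a flat module has tor amplitude `[0, 0]` -/
lemma hasTorAmplitudeIn_of_flat (M : ModuleCat.{u} A) (hM : Module.Flat A M) :
    DRing.HasTorAmplitudeIn A 0 0 ((singleFunctor (ModuleCat.{u} A) 0).obj M) := by
  refine ⟨(HomologicalComplex.single (ModuleCat.{u} A) (ComplexShape.up ℤ) 0).obj M, ?_, ?_,
    ⟨Iso.refl _⟩⟩
  · intro i hi
    exact HomologicalComplex.isZero_single_obj_X (ComplexShape.up ℤ) 0 M i (by omega)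
  · intro i
    by_cases hi : i = 0
    · subst hi
      exact Module.Flat.of_linearEquiv
        (HomologicalComplex.singleObjXSelf (ComplexShape.up ℤ) 0 M).toLinearEquiv
    · have := ModuleCat.subsingleton_of_isZero
        (HomologicalComplex.isZero_single_obj_X (ComplexShape.up ℤ) 0 M i hi)
      infer_instance

/-- `pd M ≤ d` implies tor amplitude in `[-d, 0]` -/
theorem hasTorAmplitudeIn_of_pd (d : ℕ) : ∀ (M : ModuleCat.{u} A),
    HasProjectiveDimensionLT M (d + 1) →
    DRing.HasTorAmplitudeIn A (-(d : ℤ)) 0 ((singleFunctor (ModuleCat.{u} A) 0).obj M) := by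
  induction d with
  | zero =>
    intro M hM
    haveI : Projective M := (projective_iff_hasProjectiveDimensionLT_one (X := M)).2 hM
    have hMp : Module.Projective A M := (IsProjective.iff_projective M).2 inferInstance
    have := hasTorAmplitudeIn_of_flat M inferInstance
    simpa using this
  | succ d ih =>
    intro M hM
    let S : ShortComplex (ModuleCat.{u} A) :=
      ShortComplex.mk (kernel.ι (Projective.π M)) (Projective.π M) (kernel.condition _)
    have hS : S.ShortExact :=
      { exact := ShortComplex.exact_of_f_is_kernel _ (kernelIsKernel _)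
        mono_f := inferInstanceAs (Mono (kernel.ι (Projective.π M)))
        epi_g := inferInstanceAs (Epi (Projective.π M)) }
    haveI : Projective S.X₂ := inferInstanceAs (Projective (Projective.over M))
    have hX₁ : HasProjectiveDimensionLT S.X₁ (d + 1) :=
      hS.hasProjectiveDimensionLT_X₁ (d + 1)
        (hasProjectiveDimensionLT_of_ge S.X₂ 1 (d + 1) (by omega)) hM
    have hF : Module.Projective A S.X₂ := (IsProjective.iff_projective S.X₂).2 inferInstance
    have h1 : DRing.HasTorAmplitudeIn A (-((d + 1 : ℕ) : ℤ) + 1) (0 + 1)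
        hS.singleTriangle.obj₁ :=
      hasTorAmplitudeIn_mono (by push_cast; omega) (by omega) (ih S.X₁ hX₁)
    have h2 : DRing.HasTorAmplitudeIn A (-((d + 1 : ℕ) : ℤ)) 0 hS.singleTriangle.obj₂ :=
      hasTorAmplitudeIn_mono (by push_cast; omega) (le_refl _)
        (hasTorAmplitudeIn_of_flat S.X₂ inferInstance)
    exact hasTorAmplitudeIn_obj₃ _ hS.singleTriangle_distinguished _ _ h1 h2

theorem main (d : ℕ)
    (hgl : ∀ (M : Type u) [AddCommGroup M] [Module A M],
      HasProjectiveDimensionLT (ModuleCat.of A M) (d + 1)) :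
    (∀ (M : Type u) [AddCommGroup M] [Module A M],
      DRing.HasTorAmplitudeIn A (-(d : ℤ)) 0 (Dual.inD A M)) ∧
      (∀ (K : Dual.D A) (a b : ℤ), (∀ i : ℤ, (i < a ∨ b < i) → Subsingleton (Dual.HD A K i)) →
        DRing.HasTorAmplitudeIn A (a - d) b K) := by
  have h1 : ∀ (M : Type u) [AddCommGroup M] [Module A M],
      DRing.HasTorAmplitudeIn A (-(d : ℤ)) 0 (Dual.inD A M) :=
    fun M _ _ => hasTorAmplitudeIn_of_pd d (ModuleCat.of A M) (hgl M)
  refine ⟨h1, ?_⟩
  intro K a b hK
  refine hasTorAmplitudeIn_of_homology (a - d) b K ⟨a, b, hK⟩ ?_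
  intro i
  by_cases hi : i < a ∨ b < i
  · have := hK i hi
    apply hasTorAmplitudeIn_of_isZero
    have hz : IsZero (ModuleCat.of A (Dual.HD A K i)) := ModuleCat.isZero_of_subsingleton _
    exact Functor.map_isZero _ hz
  · exact hasTorAmplitudeIn_mono (by omega) (by omega) (h1 (Dual.HD A K i))

end Groth.Agent.Helper6.TorAmpPd
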