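import Mathlib
import Groth.Prelude.Def_Wider
import Groth.Prelude.Def_DRing2
import Groth.Agent.Helper1.TorBasic
import Groth.Agent.Helper1.TorFlat
import Groth.Agent.Helper1.TorCrit
import Groth.Agent.Helper3.DRingTor8
import Groth.Agent.Helper3.DRingTor6
import Groth.Agent.Helper6.TorAmpPd
import Groth.Agent.Helper6.DFinExt

/-!
# Tor dimension of modules versus tor amplitude of complexes
-/

set_option autoImplicit false
universe u

open CategoryTheory Limits Pretriangulated DerivedCategory Abelian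
attribute [local instance] HasDerivedCategory.standard

namespace Groth.Agent.Helper6.TorAmpBridge

open Groth.Agent.Helper3.DRingLib Groth.Agent.Helper1.TorLib

variable {A : Type u} [CommRing A]

/-- module-category form of `HasTorDimLE` -/
def TorDimLE (n : ℕ) (M : ModuleCat.{u} A) : Prop :=
  ∀ (N : ModuleCat.{u} A) (p : ℕ), n < p → IsZero (((Tor (ModuleCat.{u} A) p).obj M).obj N)

lemma torDimLE_of_hasTorDimLE (n : ℕ) (M : Type u) [AddCommGroup M] [Module A M]
    (h : DRing.HasTorDimLE A n M) : TorDimLE n (ModuleCat.of A M) := by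
  intro N p hp
  have := h N p hp
  exact ModuleCat.isZero_of_subsingleton _

lemma flat_of_torDimLE_zero (M : ModuleCat.{u} A) (h : TorDimLE 0 M) : Module.Flat A M := by
  rw [flat_iff_isZero_torOne_quotient_fg]
  intro I _
  exact h _ 1 (by omega)

lemma torDimLE_kernel (n : ℕ) {S : ShortComplex (ModuleCat.{u} A)} (hS : S.ShortExact)
    (hF : Module.Flat A S.X₂) (h : TorDimLE (n + 1) S.X₃) : TorDimLE n S.X₁ := by
  intro N p hp
  have hex := tor_exact₁ N hS p
  refine hex.isZero_of_both_zeros ?_ ?_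
  · exact (h N (p + 1) (by omega)).eq_of_src _ _
  · obtain ⟨q, rfl⟩ : ∃ q, p = q + 1 := ⟨p - 1, by omega⟩
    exact (isZero_tor_of_flat_left S.X₂ N q).eq_of_tgt _ _

/-- tor dimension `≤ n` implies tor amplitude in `[-n, 0]` -/
theorem hasTorAmplitudeIn_of_torDimLE (n : ℕ) : ∀ (M : ModuleCat.{u} A), TorDimLE n M →
    DRing.HasTorAmplitudeIn A (-(n : ℤ)) 0 ((singleFunctor (ModuleCat.{u} A) 0).obj M) := by
  induction n with
  | zero =>
    intro M hM
    have := TorAmpPd.hasTorAmplitudeIn_of_flat M (flat_of_torDimLE_zero M hM)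
    simpa using this
  | succ d ih =>
    intro M hM
    let S : ShortComplex (ModuleCat.{u} A) :=
      ShortComplex.mk (kernel.ι (Projective.π M)) (Projective.π M) (kernel.condition _)
    have hS : S.ShortExact :=
      { exact := ShortComplex.exact_of_f_is_kernel _ (kernelIsKernel _)
        mono_f := inferInstanceAs (Mono (kernel.ι (Projective.π M)))
        epi_g := inferInstanceAs (Epi (Projective.π M)) }
    haveI : Projective S.X₂ := inferInstanceAs (Projective (Projective.over M))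
    have hF : Module.Projective A S.X₂ := (IsProjective.iff_projective S.X₂).2 inferInstance
    have hFl : Module.Flat A S.X₂ := inferInstance
    have hX₁ : TorDimLE d S.X₁ := torDimLE_kernel d hS hFl hM
    have h1 : DRing.HasTorAmplitudeIn A (-((d + 1 : ℕ) : ℤ) + 1) (0 + 1)
        hS.singleTriangle.obj₁ :=
      TorAmpPd.hasTorAmplitudeIn_mono (by push_cast; omega) (by omega) (ih S.X₁ hX₁)
    have h2 : DRing.HasTorAmplitudeIn A (-((d + 1 : ℕ) : ℤ)) 0 hS.singleTriangle.obj₂ :=
      TorAmpPd.hasTorAmplitudeIn_mono (by push_cast; omega) (le_refl _)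
        (TorAmpPd.hasTorAmplitudeIn_of_flat S.X₂ hFl)
    exact hasTorAmplitudeIn_obj₃ _ hS.singleTriangle_distinguished _ _ h1 h2

theorem hasTorAmplitudeIn_of_hasTorDimLE (n : ℕ) (M : Type u) [AddCommGroup M] [Module A M]
    (h : DRing.HasTorDimLE A n M) : DRing.HasTorAmplitudeIn A (-(n : ℤ)) 0 (Dual.inD A M) :=
  hasTorAmplitudeIn_of_torDimLE n (ModuleCat.of A M) (torDimLE_of_hasTorDimLE n M h)

lemma bounded_of_hasFiniteTorDimCx (K : Dual.D A) (h : DRing.HasFiniteTorDimCx A K) :
    ∃ a b : ℤ, ∀ i : ℤ, i < a ∨ b < i → Subsingleton (Dual.HD A K i) := by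
  obtain ⟨a, b, E, hv, -, ⟨e⟩⟩ := h
  refine ⟨a, b, fun i hi => ?_⟩
  have h1 := DFinExt.subsingleton_HD_toD E i (hv i hi)
  have hz : IsZero ((homologyFunctor (ModuleCat.{u} A) i).obj (DRing.toD E)) :=
    ModuleCat.isZero_of_subsingleton _
  exact ModuleCat.subsingleton_of_isZero
    (hz.of_iso ((homologyFunctor (ModuleCat.{u} A) i).mapIso e.symm))

theorem hasFiniteTorDimCx_of_bounded
    (hA : ∀ (M : Type u) [AddCommGroup M] [Module A M], DRing.HasFiniteTorDim A M) (K : Dual.D A)
    (hb : ∃ a b : ℤ, ∀ i : ℤ, i < a ∨ b < i → Subsingleton (Dual.HD A K i)) :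
    DRing.HasFiniteTorDimCx A K := by
  classical
  obtain ⟨a, b, hab⟩ := hb
  choose n hn using fun i : ℤ => hA (Dual.HD A K i)
  let N : ℕ := (Finset.Icc a b).sup n
  refine ⟨a - N, b, hasTorAmplitudeIn_of_homology (a - N) b K ⟨a, b, hab⟩ ?_⟩
  intro i
  by_cases hi : i < a ∨ b < i
  · have := hab i hi
    apply hasTorAmplitudeIn_of_isZero
    have hz : IsZero (ModuleCat.of A (Dual.HD A K i)) := ModuleCat.isZero_of_subsingleton _
    exact Functor.map_isZero _ hz
  · have hmem : i ∈ Finset.Icc a b := by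
      rw [Finset.mem_Icc]; omega
    have hle : n i ≤ N := Finset.le_sup (f := n) hmem
    exact TorAmpPd.hasTorAmplitudeIn_mono (by omega) (by omega)
      (hasTorAmplitudeIn_of_hasTorDimLE (n i) (Dual.HD A K i) (hn i))

theorem main
    (hA : ∀ (M : Type u) [AddCommGroup M] [Module A M], DRing.HasFiniteTorDim A M) (K : Dual.D A) :
    (DRing.HasFiniteTorDimCx A K ↔
        ∃ a b : ℤ, ∀ i : ℤ, i < a ∨ b < i → Subsingleton (Dual.HD A K i)) ∧
      (DRing.IsPerfect A K ↔
        (∃ a b : ℤ, ∀ i : ℤ, i < a ∨ b < i → Subsingleton (Dual.HD A K i)) ∧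
          DRing.IsPseudoCoherent' A K) := by
  have h1 : DRing.HasFiniteTorDimCx A K ↔
      ∃ a b : ℤ, ∀ i : ℤ, i < a ∨ b < i → Subsingleton (Dual.HD A K i) :=
    ⟨bounded_of_hasFiniteTorDimCx K, hasFiniteTorDimCx_of_bounded hA K⟩
  refine ⟨h1, ?_⟩
  rw [isPerfect_iff_pc_and_torDim, h1]
  exact and_comm

end Groth.Agent.Helper6.TorAmpBridge
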