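import Mathlib
import Groth.Prelude.Def_Wider
import Groth.Prelude.Def_DRing2
import Groth.Agent.Helper6.TorAmpBridge

/-!
# Tor amplitude of a module placed in degree zero gives a bound on Tor dimension
-/

set_option autoImplicit false
universe u

open CategoryTheory Limits Pretriangulated DerivedCategory Abelian
attribute [local instance] HasDerivedCategory.standard

namespace Groth.Agent.Helper6.TorAmpBridge

open Groth.Agent.Helper3.DRingLib Groth.Agent.Helper1.TorLib

variable {A : Type u} [CommRing A]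

/-- a module whose image in `D(A)` has tor amplitude in `[0,0]` is flat -/
lemma flat_of_hasTorAmplitudeIn_zero (M : ModuleCat.{u} A)
    (h : DRing.HasTorAmplitudeIn A 0 0 ((singleFunctor (ModuleCat.{u} A) 0).obj M)) :
    Module.Flat A M := by
  obtain ⟨E, hv, hf, ⟨e⟩⟩ := h
  have h1 : E.d (-1) 0 = 0 := (hv (-1) (Or.inl (by omega))).eq_of_src _ _
  have h2 : E.d 0 1 = 0 := (hv 1 (Or.inr (by omega))).eq_of_tgt _ _
  let e1 : E.X 0 ≅ E.homology 0 :=
    (E.iCyclesIso 0 1 (by simp) h2).symm ≪≫ E.isoHomologyπ (-1) 0 (by simp) h1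
  let e2 : E.homology 0 ≅ (homologyFunctor (ModuleCat.{u} A) 0).obj (DRing.toD E) :=
    ((homologyFunctorFactors (ModuleCat.{u} A) 0).app E).symm
  let e3 : (homologyFunctor (ModuleCat.{u} A) 0).obj (DRing.toD E) ≅
      (homologyFunctor (ModuleCat.{u} A) 0).obj ((singleFunctor (ModuleCat.{u} A) 0).obj M) :=
    (homologyFunctor (ModuleCat.{u} A) 0).mapIso e
  let e4 : (homologyFunctor (ModuleCat.{u} A) 0).obj ((singleFunctor (ModuleCat.{u} A) 0).obj M) ≅
      M := (singleFunctorCompHomologyFunctorIso (ModuleCat.{u} A) 0).app M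
  haveI : Module.Flat A (E.X 0) := hf 0
  exact Module.Flat.of_linearEquiv (e1 ≪≫ e2 ≪≫ e3 ≪≫ e4).toLinearEquiv.symm

lemma isTorGE_of_flat (F : ModuleCat.{u} A) (hF : Module.Flat A F) (a : ℤ) (ha : a ≤ 0) :
    IsTorGE a ((singleFunctor (ModuleCat.{u} A) 0).obj F) :=
  (isTorGE_of_hasTorAmplitudeIn (TorAmpPd.hasTorAmplitudeIn_of_flat F hF)).of_le ha

theorem torDimLE_of_isTorGE (n : ℕ) : ∀ (M : ModuleCat.{u} A),
    IsTorGE (-(n : ℤ)) ((singleFunctor (ModuleCat.{u} A) 0).obj M) → TorDimLE n M := by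
  induction n with
  | zero =>
    intro M hM N p hp
    haveI : ((singleFunctor (ModuleCat.{u} A) 0).obj M).IsLE 0 := inferInstance
    have h0 : DRing.HasTorAmplitudeIn A 0 0 ((singleFunctor (ModuleCat.{u} A) 0).obj M) :=
      hasTorAmplitudeIn_of_isTorGE (le_refl 0) (by simpa using hM)
    haveI := flat_of_hasTorAmplitudeIn_zero M h0
    obtain ⟨q, rfl⟩ : ∃ q, p = q + 1 := ⟨p - 1, by omega⟩
    exact isZero_tor_of_flat_left M N q
  | succ d ih =>
    intro M hM N p hp
    let S : ShortComplex (ModuleCat.{u} A) :=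
      ShortComplex.mk (kernel.ι (Projective.π M)) (Projective.π M) (kernel.condition _)
    have hS : S.ShortExact :=
      { exact := ShortComplex.exact_of_f_is_kernel _ (kernelIsKernel _)
        mono_f := inferInstanceAs (Mono (kernel.ι (Projective.π M)))
        epi_g := inferInstanceAs (Epi (Projective.π M)) }
    haveI : Projective S.X₂ := inferInstanceAs (Projective (Projective.over M))
    have hF : Module.Projective A S.X₂ := (IsProjective.iff_projective S.X₂).2 inferInstance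
    have hFl : Module.Flat A S.X₂ := inferInstance
    have h₂ : IsTorGE (-((d + 1 : ℕ) : ℤ) + 1) hS.singleTriangle.obj₂ :=
      isTorGE_of_flat S.X₂ hFl _ (by push_cast; omega)
    have h₁ : IsTorGE (-((d + 1 : ℕ) : ℤ) + 1) hS.singleTriangle.obj₁ :=
      IsTorGE.obj₁ _ hS.singleTriangle_distinguished _ h₂ hM
    have hK : TorDimLE d S.X₁ := ih S.X₁ (by
      have e : -((d + 1 : ℕ) : ℤ) + 1 = -(d : ℤ) := by push_cast; omega
      rw [e] at h₁
      exact h₁)
    obtain ⟨q, rfl⟩ : ∃ q, p = q + 1 := ⟨p - 1, by omega⟩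
    refine (tor_exact₃ N hS q).isZero_of_both_zeros ?_ ?_
    · exact (isZero_tor_of_flat_left S.X₂ N q).eq_of_src _ _
    · exact (hK N q (by omega)).eq_of_tgt _ _

theorem hasTorDimLE_of_hasTorAmplitudeIn (n : ℕ) (M : Type u) [AddCommGroup M] [Module A M]
    (h : DRing.HasTorAmplitudeIn A (-(n : ℤ)) 0 (Dual.inD A M)) : DRing.HasTorDimLE A n M := by
  intro N _ _ p hp
  have := torDimLE_of_isTorGE n (ModuleCat.of A M) (isTorGE_of_hasTorAmplitudeIn h)
    (ModuleCat.of A N) p hp
  exact ModuleCat.subsingleton_of_isZero this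

theorem main2 (M : Type u) [AddCommGroup M] [Module A M] (d : ℕ) :
    (DRing.HasTorDimLE A d M ↔ DRing.HasTorAmplitudeIn A (-(d : ℤ)) 0 (Dual.inD A M)) ∧
      (DRing.HasTorDimLE A 0 M ↔ Module.Flat A M) := by
  refine ⟨⟨hasTorAmplitudeIn_of_hasTorDimLE d M, hasTorDimLE_of_hasTorAmplitudeIn d M⟩, ?_, ?_⟩
  · intro h
    exact flat_of_torDimLE_zero (ModuleCat.of A M) (torDimLE_of_hasTorDimLE 0 M h)
  · intro h N _ _ p hp
    obtain ⟨q, rfl⟩ : ∃ q, p = q + 1 := ⟨p - 1, by omega⟩
    exact ModuleCat.subsingleton_of_isZero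
      (isZero_tor_of_flat_left (ModuleCat.of A M) (ModuleCat.of A N) q)

end Groth.Agent.Helper6.TorAmpBridge
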