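import Mathlib
import Groth.Prelude.Def_Wider
import Groth.Prelude.Def_DRing2
import Groth.Agent.Helper1.TorLES2
import Groth.Agent.Helper1.TorCrit
import Groth.Agent.Helper1.TorFlat

/-!
# Tor dimension of flat modules over an algebra of finite Tor dimension
-/

set_option autoImplicit false
universe u

open CategoryTheory Limits TensorProduct

namespace Groth.Agent.Helper6.TorFlatAlg

open Groth.Agent.Helper1.TorLib

variable {A B : Type u} [CommRing A] [CommRing B] [Algebra A B]

open TensorProduct.AlgebraTensorModule in
/-- if `f ⊗ B` is injective and `F` is `B`-flat then `f ⊗ F` is injective -/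
lemma lTensor_injective_of_flat (F : Type u) [AddCommGroup F] [Module B F] [Module A F]
    [IsScalarTower A B F] [Module.Flat B F] {N P : Type u} [AddCommMonoid N] [Module A N]
    [AddCommMonoid P] [Module A P] (f : N →ₗ[A] P)
    (hf : Function.Injective (f.lTensor B)) : Function.Injective (f.lTensor F) := by
  rw [← coe_lTensor (A := B), ← EquivLike.injective_comp (cancelBaseChange A B B _ _),
    ← LinearEquiv.coe_coe, ← LinearMap.coe_comp, lTensor_comp_cancelBaseChange,
    LinearMap.coe_comp, LinearEquiv.coe_coe, EquivLike.comp_injective]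
  apply Module.Flat.lTensor_preserves_injective_linearMap
  exact hf

/-- `Tor_1` vanishing passes from `B` to a flat `B`-module -/
lemma isZero_torOne_of_flat (F : Type u) [AddCommGroup F] [Module B F] [Module A F]
    [IsScalarTower A B F] [Module.Flat B F] (N : Type u) [AddCommGroup N] [Module A N]
    (h : IsZero (((Tor (ModuleCat.{u} A) 1).obj (ModuleCat.of A B)).obj (ModuleCat.of A N))) :
    IsZero (((Tor (ModuleCat.{u} A) 1).obj (ModuleCat.of A F)).obj (ModuleCat.of A N)) := by
  have h1 : Function.Injective
      ((LinearMap.ker (Finsupp.linearCombination A (id : N → N))).subtype.rTensor B) :=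
    (isZero_torOne_iff_presentation N B).1 ((isZero_tor_symm_iff _ _ 1).1 h)
  have h2 : Function.Injective
      ((LinearMap.ker (Finsupp.linearCombination A (id : N → N))).subtype.rTensor F) := by
    rw [← LinearMap.lTensor_inj_iff_rTensor_inj] at h1 ⊢
    apply lTensor_injective_of_flat (B := B) F
    exact h1
  exact (isZero_tor_symm_iff _ _ 1).2 ((isZero_torOne_iff_presentation N F).2 h2)

theorem isZero_tor_of_flat_algebra (F : Type u) [AddCommGroup F] [Module B F] [Module A F]
    [IsScalarTower A B F] [Module.Flat B F] : ∀ (p : ℕ) (N : ModuleCat.{u} A),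
    (∀ j : ℕ, p + 1 ≤ j →
      IsZero (((Tor (ModuleCat.{u} A) j).obj (ModuleCat.of A B)).obj N)) →
    IsZero (((Tor (ModuleCat.{u} A) (p + 1)).obj (ModuleCat.of A F)).obj N) := by
  intro p
  induction p with
  | zero =>
    intro N hN
    exact isZero_torOne_of_flat (B := B) F N (hN 1 (by omega))
  | succ p ih =>
    intro N hN
    let S : ShortComplex (ModuleCat.{u} A) :=
      ShortComplex.mk (kernel.ι (Projective.π N)) (Projective.π N) (kernel.condition _)
    have hS : S.ShortExact :=
      { exact := ShortComplex.exact_of_f_is_kernel _ (kernelIsKernel _)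
        mono_f := inferInstanceAs (Mono (kernel.ι (Projective.π N)))
        epi_g := inferInstanceAs (Epi (Projective.π N)) }
    haveI : Projective S.X₂ := inferInstanceAs (Projective (Projective.over N))
    have hP : Module.Projective A S.X₂ := (IsProjective.iff_projective S.X₂).2 inferInstance
    haveI hFl : Module.Flat A S.X₂ := inferInstance
    have hK : IsZero (((Tor (ModuleCat.{u} A) (p + 1)).obj (ModuleCat.of A F)).obj S.X₁) := by
      apply ih
      intro j hj
      refine (tor_exact₁₂ (ModuleCat.of A B) hS j).isZero_of_both_zeros ?_ ?_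
      · exact (hN (j + 1) (by omega)).eq_of_src _ _
      · obtain ⟨q, rfl⟩ : ∃ q, j = q + 1 := ⟨j - 1, by omega⟩
        exact (isZero_tor_of_flat_right (ModuleCat.of A B) S.X₂ q).eq_of_tgt _ _
    refine (tor_exact₃₂ (ModuleCat.of A F) hS (p + 1)).isZero_of_both_zeros ?_ ?_
    · exact (isZero_tor_of_flat_right (ModuleCat.of A F) S.X₂ (p + 1)).eq_of_src _ _
    · exact hK.eq_of_tgt _ _

/-- a flat module over an algebra of Tor dimension `≤ d` has Tor dimension `≤ d` -/
theorem hasTorDimLE_of_flat (d : ℕ) (hB : DRing.HasTorDimLE A d B)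
    (F : Type u) [AddCommGroup F] [Module B F] [Module A F]
    [IsScalarTower A B F] [Module.Flat B F] : DRing.HasTorDimLE A d F := by
  intro N _ _ p hp
  obtain ⟨q, rfl⟩ : ∃ q, p = q + 1 := ⟨p - 1, by omega⟩
  refine ModuleCat.subsingleton_of_isZero
    (isZero_tor_of_flat_algebra (B := B) F q (ModuleCat.of A N) (fun j hj => ?_))
  haveI := hB N j (by omega)
  exact ModuleCat.isZero_of_subsingleton _

end Groth.Agent.Helper6.TorFlatAlg
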