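import Mathlib
import Groth.Prelude.Def_Wider
import Groth.Prelude.Def_DRing2
import Groth.Prelude.Def_DDual2
import Groth.Agent.Helper3.DRingRestr
import Groth.Agent.Helper3.DRingTor8
import Groth.Agent.Helper6.TorAmpBridge2
import Groth.Agent.Helper6.TorFlatAlg

/-!
# Tor amplitude under restriction of scalars along an algebra of finite Tor dimension
-/

set_option autoImplicit false
universe u

open CategoryTheory Limits Pretriangulated DerivedCategory
attribute [local instance] HasDerivedCategory.standard

namespace Groth.Agent.Helper6.TorAmpRestr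

open Groth.Agent.Helper3.DRingLib

variable {A B : Type u} [CommRing A] [CommRing B] [Algebra A B]

theorem main (d : ℕ) (hB : DRing.HasTorAmplitudeIn A (-(d : ℤ)) 0 (Dual.inD A B)) (K : Dual.D B)
    (a b : ℤ) (hK : DRing.HasTorAmplitudeIn B a b K) :
    DRing.HasTorAmplitudeIn A (a - d) b ((DRing.restrictD (algebraMap A B)).obj K) := by
  obtain ⟨E, hv, hf, ⟨e⟩⟩ := hK
  have hBd : DRing.HasTorDimLE A d B :=
    Groth.Agent.Helper6.TorAmpBridge.hasTorDimLE_of_hasTorAmplitudeIn d B hB
  have e1 : (DRing.restrictD (algebraMap A B)).obj K ≅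
      DRing.toD ((rCx (algebraMap A B)).obj E) :=
    (DRing.restrictD (algebraMap A B)).mapIso e.symm ≪≫ rDToD (algebraMap A B) E
  refine hasTorAmplitudeIn_of_iso e1.symm _ _ ?_
  refine hasTorAmplitudeIn_of_termwise (a - d) b _ a b ?_ ?_
  · intro i hi
    exact (rF (algebraMap A B)).map_isZero (hv i hi)
  · intro i
    by_cases hi : i < a ∨ b < i
    · refine hasTorAmplitudeIn_of_isZero ?_ _ _
      exact (singleFunctor (ModuleCat.{u} A) 0).map_isZero
        ((rF (algebraMap A B)).map_isZero (hv i hi))
    · letI : Module A (E.X i) := Module.compHom (E.X i) (algebraMap A B)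
      haveI : IsScalarTower A B (E.X i) := IsScalarTower.of_algebraMap_smul (fun r m => rfl)
      haveI : Module.Flat B (E.X i) := hf i
      have h1 : DRing.HasTorDimLE A d (E.X i) :=
        Groth.Agent.Helper6.TorFlatAlg.hasTorDimLE_of_flat d hBd (E.X i)
      have h2 := Groth.Agent.Helper6.TorAmpBridge.hasTorAmplitudeIn_of_hasTorDimLE d (E.X i) h1
      exact Groth.Agent.Helper6.TorAmpPd.hasTorAmplitudeIn_mono (by omega) (by omega) h2

end Groth.Agent.Helper6.TorAmpRestr
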