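import Mathlib
import Groth.Prelude.Def_DDual2

set_option autoImplicit false

/-!
# Maps out of K-projective complexes in the derived category
-/

open CategoryTheory CategoryTheory.Limits DerivedCategory

universe u

attribute [local instance] HasDerivedCategory.standard

namespace Groth.Agent.Helper6.KProjQ

variable {R : Type u} [CommRing R]

lemma Q_map_surjective (P X : DRing.Cx R) [P.IsKProjective] :
    Function.Surjective (Q.map : (P ⟶ X) → (Q.obj P ⟶ Q.obj X)) := by
  intro t
  obtain ⟨f', hf'⟩ := (CochainComplex.IsKProjective.Qh_map_bijective P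
    ((HomotopyCategory.quotient _ _).obj X)).2
    ((quotientCompQhIso _).hom.app P ≫ t ≫ (quotientCompQhIso _).inv.app X)
  obtain ⟨f, rfl⟩ := (HomotopyCategory.quotient _ _).map_surjective f'
  refine ⟨f, ?_⟩
  have hn := quotientCompQhIso_hom_naturality f
  rw [hf'] at hn
  simp only [Category.assoc, Iso.inv_hom_id_app, Category.comp_id] at hn
  exact ((cancel_epi ((quotientCompQhIso _).hom.app P)).mp hn).symm

lemma homotopy_of_Q_map_eq {P X : DRing.Cx R} [P.IsKProjective] (f g : P ⟶ X)
    (h : Q.map f = Q.map g) : Nonempty (Homotopy f g) := by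
  have h1 : Qh.map ((HomotopyCategory.quotient _ _).map f) =
      Qh.map ((HomotopyCategory.quotient _ _).map g) := by
    have hf := quotientCompQhIso_hom_naturality f
    have hg := quotientCompQhIso_hom_naturality g
    rw [h, ← hg] at hf
    exact (cancel_mono ((quotientCompQhIso _).hom.app X)).mp hf
  have h2 := (CochainComplex.IsKProjective.Qh_map_bijective P
    ((HomotopyCategory.quotient _ _).obj X)).1 h1
  exact ⟨HomotopyCategory.homotopyOfEq _ _ h2⟩

lemma Q_map_eq_of_homotopy {X Y : DRing.Cx R} {f g : X ⟶ Y} (h : Homotopy f g) :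
    Q.map f = Q.map g := by
  have h1 : (HomotopyCategory.quotient _ _).map f = (HomotopyCategory.quotient _ _).map g :=
    HomotopyCategory.eq_of_homotopy _ _ h
  have hf := quotientCompQhIso_hom_naturality f
  have hg := quotientCompQhIso_hom_naturality g
  rw [h1, hg] at hf
  exact ((cancel_epi ((quotientCompQhIso _).hom.app X)).mp hf).symm

/-- smallness of the hom sets out of a K-projective complex -/
lemma small_hom (P : DRing.Cx R) [P.IsKProjective] (Y : Dual.D R) :
    Small.{u} (Q.obj P ⟶ Y) := by
  let Y' := Q.objPreimage Y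
  let i : Q.obj Y' ≅ Y := Q.objObjPreimageIso Y
  have hs : Function.Surjective (fun f : P ⟶ Y' => Q.map f ≫ i.hom) := by
    intro t
    obtain ⟨f, hf⟩ := Q_map_surjective P Y' (t ≫ i.inv)
    exact ⟨f, by simp [hf]⟩
  exact small_of_surjective hs

end Groth.Agent.Helper6.KProjQ
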