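import Mathlib
import Groth.Agent.Helper6.KFlatRes

set_option autoImplicit false

/-!
# K-projective resolutions of arbitrary complexes of modules

The telescope `Tel M` of `KFlatRes` is K-projective.
-/

open CategoryTheory CategoryTheory.Limits
open Groth.Agent.Helper1 Groth.Agent.Helper6.SeqColim

universe u

namespace Groth.Agent.Helper6.KProjRes

variable {R : Type u} [CommRing R]

/-- countable sums of K-projective complexes are K-projective -/
lemma isKProjective_sig (K : ℕ → DRing.Cx R) (hK : ∀ n, (K n).IsKProjective) :
    (DCoprod.sig K).IsKProjective where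
  nonempty_homotopy_zero {L} f hL :=
    ⟨DCoprod.homotopyDesc f (fun n =>
      haveI := hK n
      CochainComplex.IsKProjective.homotopyZero _ hL)⟩

/-- mapping cones of maps between K-projective complexes are K-projective -/
lemma isKProjective_mappingCone {K L : DRing.Cx R} (f : K ⟶ L) [hK : K.IsKProjective]
    [hL : L.IsKProjective] : (CochainComplex.mappingCone f).IsKProjective := by
  rw [CochainComplex.isKProjective_iff_leftOrthogonal] at hK hL ⊢
  have hT := HomotopyCategory.mappingCone_triangleh_distinguished f
  exact (HomotopyCategory.subcategoryAcyclic (ModuleCat.{u} R)).leftOrthogonal.ext_of_isTriangulatedClosed₃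
    _ hT hK hL

variable (M : DRing.Cx R)

open KFlatRes

lemma Pn_isKProjective (n : ℕ) : (Pn M n).IsKProjective := by
  haveI : ∀ i, Projective ((Pn M n).X i) := fun i =>
    (IsProjective.iff_projective _).mp ((Pn_spec M n).2.1 i)
  haveI : (Pn M n).IsStrictlyLE ((n : ℤ) + 1) :=
    Groth.Agent.Helper3.DRingLib.isStrictlyLE_of_vanishesAbove _ _ (Pn_spec M n).1
  exact CochainComplex.isKProjective_of_projective _ ((n : ℤ) + 1)

instance Tel_isKProjective : (Tel M).IsKProjective := by
  haveI : (DCoprod.sig (fun n => (P M).obj n)).IsKProjective :=
    isKProjective_sig _ (fun n => Pn_isKProjective M n)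
  exact isKProjective_mappingCone (uC (P M))

/-- every complex of modules has a termwise surjective K-projective, K-flat resolution with
projective terms -/
theorem exists_resolution : ∃ (K : DRing.Cx R) (f : K ⟶ M), K.IsKProjective ∧ TenCx.KFlat K ∧
    (∀ i, Module.Projective R (K.X i)) ∧ QuasiIso f ∧ ∀ i, Function.Surjective (f.f i) :=
  ⟨Tel M, telMap M, Tel_isKProjective M, Tel_kflat M, Tel_projective M, quasiIso_telMap M,
    telMap_surjective M⟩

end Groth.Agent.Helper6.KProjRes
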