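import Mathlib
import Groth.Prelude.Def_DRing4
import Groth.Agent.Helper6.TenCxBdd

/-!
# Finiteness of the terms of a tensor product of bounded above complexes
-/

set_option autoImplicit false
universe u
open CategoryTheory CategoryTheory.Limits MonoidalCategory

namespace Groth.Agent.Helper6.TenFin

open Groth.Agent.Helper6.TenCx

variable {R : Type u} [CommRing R]

lemma finite_dfinsupp {ι : Type} [DecidableEq ι] (M : ι → Type u) [∀ i, AddCommGroup (M i)]
    [∀ i, Module R (M i)] (S : Finset ι) (hS : ∀ i, i ∉ S → Subsingleton (M i))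
    [∀ i, Module.Finite R (M i)] : Module.Finite R (Π₀ i, M i) := by
  rw [Module.finite_def]
  have h1 : (⊤ : Submodule R (Π₀ i, M i)) = ⨆ i ∈ S, LinearMap.range (DFinsupp.lsingle i) := by
    rw [← DFinsupp.iSup_range_lsingle]
    apply le_antisymm
    · apply iSup_le
      intro i
      by_cases hi : i ∈ S
      · exact le_biSup (fun i => LinearMap.range (DFinsupp.lsingle (R := R) (M := M) i)) hi
      · haveI := hS i hi
        rintro x ⟨y, rfl⟩
        rw [Subsingleton.elim y 0, map_zero]
        exact Submodule.zero_mem _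
    · exact iSup₂_le (fun i _ => le_iSup (fun i => LinearMap.range
        (DFinsupp.lsingle (R := R) (M := M) i)) i)
  rw [h1]
  refine Submodule.fg_biSup S _ (fun i _ => ?_)
  rw [LinearMap.range_eq_map]
  exact Submodule.FG.map _ (Module.finite_def.mp inferInstance)

variable (E F : DRing.Cx R)

/-- the terms of `E ⊗ F` as direct sums -/
noncomputable def XIso (n : ℤ) :
    (E ⊗ F).X n ≅ ModuleCat.of R (DirectSum (Idx n) (fun i => ↑(E.X i.1.1 ⊗ F.X i.1.2))) :=
  CofanMod.isoDS (cof E F n) (isColimitCof E F n)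

lemma tmul_subsingleton_left (M N : ModuleCat.{u} R) (hM : IsZero M) (t : ↑(M ⊗ N)) : t = 0 := by
  haveI : Subsingleton M := ModuleCat.subsingleton_of_isZero hM
  change TensorProduct R M N at t
  induction t using TensorProduct.induction_on with
  | zero => rfl
  | tmul m n => rw [Subsingleton.elim m 0, TensorProduct.zero_tmul]
  | add a b ha hb => rw [ha, hb, add_zero]

lemma isZero_X (n : ℤ) (h : ∀ p q : ℤ, p + q = n → IsZero (E.X p) ∨ IsZero (F.X q)) :
    IsZero ((E ⊗ F).X n) := by
  haveI : Subsingleton ((E ⊗ F).X n) := by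
    refine ⟨fun x y => ?_⟩
    have h0 : ∀ x : (E ⊗ F).X n, x = 0 := by
      intro x
      induction x using TenCx.induction_on with
      | h0 => rfl
      | hadd x y hx hy => rw [hx, hy, add_zero]
      | hι p q hpq t =>
        rcases h p q hpq with h1 | h1
        · rw [tmul_subsingleton_left _ _ h1 t, map_zero]
        · rw [tmul_subsingleton_right _ _ h1 t, map_zero]
    rw [h0 x, h0 y]
  exact ModuleCat.isZero_of_subsingleton _

lemma vanishesAbove_tensor (b b' : ℤ) (hE : DRing.VanishesAbove E b)
    (hF : DRing.VanishesAbove F b') : DRing.VanishesAbove (E ⊗ F) (b + b') := by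
  intro n hn
  apply isZero_X
  intro p q hpq
  by_cases hp : b < p
  · exact Or.inl (hE p hp)
  · exact Or.inr (hF q (by omega))

lemma vanishesOutside_tensor (a b a' b' : ℤ) (hE : DRing.VanishesOutside E a b)
    (hF : DRing.VanishesOutside F a' b') : DRing.VanishesOutside (E ⊗ F) (a + a') (b + b') := by
  intro n hn
  apply isZero_X
  intro p q hpq
  by_cases hp : p < a ∨ b < p
  · exact Or.inl (hE p hp)
  · exact Or.inr (hF q (by omega))

lemma free_X (hE : ∀ i, Module.Free R (E.X i)) (hF : ∀ i, Module.Free R (F.X i)) (n : ℤ) :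
    Module.Free R ((E ⊗ F).X n) := by
  haveI : ∀ i : Idx n, Module.Free R ↑(E.X i.1.1 ⊗ F.X i.1.2) := fun i => by
    haveI := hE i.1.1
    haveI := hF i.1.2
    exact inferInstanceAs (Module.Free R (TensorProduct R (E.X i.1.1) (F.X i.1.2)))
  exact Module.Free.of_equiv (XIso E F n).toLinearEquiv.symm

lemma projective_X (hE : ∀ i, Module.Projective R (E.X i))
    (hF : ∀ i, Module.Projective R (F.X i)) (n : ℤ) :
    Module.Projective R ((E ⊗ F).X n) := by
  haveI : ∀ i : Idx n, Module.Projective R ↑(E.X i.1.1 ⊗ F.X i.1.2) := fun i => by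
    haveI := hE i.1.1
    haveI := hF i.1.2
    exact inferInstanceAs (Module.Projective R (TensorProduct R (E.X i.1.1) (F.X i.1.2)))
  exact Module.Projective.of_equiv (XIso E F n).toLinearEquiv.symm

lemma finite_X (b b' : ℤ) (hE : DRing.VanishesAbove E b) (hF : DRing.VanishesAbove F b')
    (fE : ∀ i, Module.Finite R (E.X i)) (fF : ∀ i, Module.Finite R (F.X i)) (n : ℤ) :
    Module.Finite R ((E ⊗ F).X n) := by
  haveI : ∀ i : Idx n, Module.Finite R ↑(E.X i.1.1 ⊗ F.X i.1.2) := fun i => by
    haveI := fE i.1.1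
    haveI := fF i.1.2
    exact inferInstanceAs (Module.Finite R (TensorProduct R (E.X i.1.1) (F.X i.1.2)))
  -- the finite support
  let emb : ↥(Finset.Icc (n - b') b) → Idx n := fun p => ⟨(p.1, n - p.1), by
    show p.1 + (n - p.1) = n
    omega⟩
  let S : Finset (Idx n) := Finset.univ.image emb
  haveI : Module.Finite R (Π₀ i : Idx n, ↑(E.X i.1.1 ⊗ F.X i.1.2)) := by
    refine finite_dfinsupp _ S (fun i hi => ?_)
    have hpq : i.1.1 + i.1.2 = n := i.2
    have hz : IsZero (E.X i.1.1) ∨ IsZero (F.X i.1.2) := by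
      by_cases hp : b < i.1.1
      · exact Or.inl (hE _ hp)
      · by_cases hq : b' < i.1.2
        · exact Or.inr (hF _ hq)
        · exfalso
          apply hi
          refine Finset.mem_image.mpr ⟨⟨i.1.1, Finset.mem_Icc.mpr ⟨by omega, by omega⟩⟩,
            Finset.mem_univ _, ?_⟩
          apply Subtype.ext
          apply Prod.ext
          · rfl
          · show n - i.1.1 = i.1.2
            omega
    refine ⟨fun x y => ?_⟩
    rcases hz with h1 | h1
    · rw [tmul_subsingleton_left _ _ h1 x, tmul_subsingleton_left _ _ h1 y]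
    · rw [tmul_subsingleton_right _ _ h1 x, tmul_subsingleton_right _ _ h1 y]
  haveI : Module.Finite R ↑(ModuleCat.of R (DirectSum (Idx n)
      (fun i => ↑(E.X i.1.1 ⊗ F.X i.1.2)))) := this
  exact Module.Finite.equiv (XIso E F n).toLinearEquiv.symm

end Groth.Agent.Helper6.TenFin
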