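import Mathlib
import Groth.Prelude.Def_DRing4
import Groth.Agent.Helper6.TenCxBdd
import Groth.Agent.Helper6.TenFin
import Groth.Agent.Helper3.DRingTor1

/-!
# `(N[0]) ⊗ P` versus the termwise tensor product `P ⊗ N`
-/

set_option autoImplicit false
universe u
open CategoryTheory CategoryTheory.Limits MonoidalCategory

namespace Groth.Agent.Helper6.SingleTen

open Groth.Agent.Helper6.TenCx Groth.Agent.Helper3.DRingLib

variable {R : Type u} [CommRing R] (N : ModuleCat.{u} R) (P : DRing.Cx R)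

/-- the module `N` as a complex in degree `0` -/
noncomputable abbrev sN : DRing.Cx R :=
  (HomologicalComplex.single (ModuleCat.{u} R) (ComplexShape.up ℤ) 0).obj N

noncomputable def isoS : (sN N).X 0 ≅ N :=
  HomologicalComplex.singleObjXSelf (ComplexShape.up ℤ) 0 N

/-- identification of the `(0, i)`-summand with `P^i ⊗ N` -/
noncomputable def e (i : ℤ) : (sN N).X 0 ⊗ P.X i ≅ P.X i ⊗ N :=
  (β_ _ _) ≪≫ whiskerLeftIso (P.X i) (isoS N)

lemma e_naturality (i j : ℤ) :
    ((sN N).X 0 ◁ P.d i j) ≫ (e N P j).hom = (e N P i).hom ≫ (P.d i j ▷ N) := by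
  simp only [e, Iso.trans_hom, whiskerLeftIso_hom, Category.assoc]
  rw [BraidedCategory.braiding_naturality_right_assoc, whisker_exchange]

lemma e_naturality_apply (i j : ℤ) (t : ↑((sN N).X 0 ⊗ P.X i)) :
    (e N P j).hom (((sN N).X 0 ◁ P.d i j) t) = (P.d i j ▷ N) ((e N P i).hom t) :=
  congrArg (fun f => f.hom t) (e_naturality N P i j)

lemma eq_ι_π (n : ℤ) (w : (sN N ⊗ P).X n) :
    w = ι (sN N) P 0 n n (zero_add n) (π (sN N) P 0 n n (zero_add n) w) := by
  induction w using TenCx.induction_on with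
  | h0 => rw [map_zero, map_zero]
  | hadd x y hx hy =>
    rw [map_add, map_add]
    exact congrArg₂ (· + ·) hx hy
  | hι p q h t =>
    by_cases hp : p = 0
    · subst hp
      obtain rfl : q = n := by omega
      rw [π_ι_self]
    · have hz : IsZero ((sN N).X p) :=
        HomologicalComplex.isZero_single_obj_X (ComplexShape.up ℤ) 0 N p hp
      rw [TenFin.tmul_subsingleton_left _ _ hz t, map_zero, map_zero, map_zero]

lemma d_ι_zero (n : ℤ) (v : ↑((sN N).X 0 ⊗ P.X n)) :
    (sN N ⊗ P).d n (n + 1) (ι (sN N) P 0 n n (zero_add n) v) =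
      ι (sN N) P 0 (n + 1) (n + 1) (zero_add _) (((sN N).X 0 ◁ P.d n (n + 1)) v) := by
  rw [ι_d_apply (sN N) P 0 n n (n + 1) (zero_add n) rfl]
  have h0 : (sN N).d 0 (0 + 1) = 0 := HomologicalComplex.single_obj_d _ _ _ _ _
  rw [h0]
  have h1 : ((0 : (sN N).X 0 ⟶ (sN N).X (0 + 1)) ▷ P.X n) = 0 :=
    MonoidalPreadditive.zero_whiskerRight
  rw [h1]
  simp only [Int.negOnePow_zero, one_smul]
  change ι (sN N) P (0 + 1) n (n + 1) _ 0 + _ = _
  rw [map_zero, zero_add]

theorem exactAt_tensorCx_of_exactAt (i : ℤ) (h : (sN N ⊗ P).ExactAt i) :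
    (DRing.tensorCx P N).ExactAt i := by
  rw [exactAt_iff_forall _ (i - 1) i (i + 1) (by omega) rfl] at h ⊢
  intro t ht
  have ht' : (P.d i (i + 1) ▷ N) t = 0 := ht
  -- transport to the summand
  set u : ↑((sN N).X 0 ⊗ P.X i) := (e N P i).inv t with hu
  have hu' : (e N P i).hom u = t := congrArg (fun f => f.hom t) (e N P i).inv_hom_id
  have hdu : ((sN N).X 0 ◁ P.d i (i + 1)) u = 0 := by
    have h1 := e_naturality_apply N P i (i + 1) u
    rw [hu', ht'] at h1
    have h2 := congrArg (fun x => (e N P (i + 1)).inv x) h1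
    simp only [map_zero] at h2
    have h3 : (e N P (i + 1)).inv ((e N P (i + 1)).hom (((sN N).X 0 ◁ P.d i (i + 1)) u)) =
        ((sN N).X 0 ◁ P.d i (i + 1)) u :=
      congrArg (fun f => f.hom (((sN N).X 0 ◁ P.d i (i + 1)) u)) (e N P (i + 1)).hom_inv_id
    rw [← h3]
    exact h2
  obtain ⟨w, hw⟩ := h (ι (sN N) P 0 i i (zero_add i) u) (by
    have := d_ι_zero N P i u
    rw [hdu, map_zero] at this
    exact this)
  set v := π (sN N) P 0 (i - 1) (i - 1) (zero_add _) w with hv
  have hw2 : w = ι (sN N) P 0 (i - 1) (i - 1) (zero_add _) v := eq_ι_π N P (i - 1) w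
  have h4 : ι (sN N) P 0 i i (zero_add i) (((sN N).X 0 ◁ P.d (i - 1) i) v) =
      ι (sN N) P 0 i i (zero_add i) u := by
    rw [← hw, hw2]
    have h5 := ι_d_apply' (sN N) P 0 (i - 1) (0 + 1) i (i - 1) i (zero_add _) (by omega) rfl
      (by omega) v
    rw [h5]
    have h0 : (sN N).d 0 (0 + 1) = 0 := HomologicalComplex.single_obj_d _ _ _ _ _
    rw [h0]
    have h1 : ((0 : (sN N).X 0 ⟶ (sN N).X (0 + 1)) ▷ P.X (i - 1)) = 0 :=
      MonoidalPreadditive.zero_whiskerRight
    rw [h1]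
    simp only [Int.negOnePow_zero, one_smul]
    change _ = ι (sN N) P (0 + 1) (i - 1) i _ 0 + _
    rw [map_zero, zero_add]
  have h6 : ((sN N).X 0 ◁ P.d (i - 1) i) v = u := by
    have := congrArg (π (sN N) P 0 i i (zero_add i)) h4
    rw [π_ι_self, π_ι_self] at this
    exact this
  refine ⟨(e N P (i - 1)).hom v, ?_⟩
  show (P.d (i - 1) i ▷ N) ((e N P (i - 1)).hom v) = t
  rw [← e_naturality_apply, h6, hu']

end Groth.Agent.Helper6.SingleTen
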