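import Mathlib
import Groth.Prelude.Def_DDual2
import Groth.Agent.Helper6.KProjQ
import Groth.Agent.Helper6.KanCounit2

set_option autoImplicit false

/-!
# Jointly derived bifunctors are computed at pairs of K-projective complexes
-/

open CategoryTheory CategoryTheory.Limits DerivedCategory

universe w v u

attribute [local instance] HasDerivedCategory.standard

namespace Groth.Agent.Helper6.ProdCounit

variable (R₁ R₂ : Type u) [CommRing R₁] [CommRing R₂]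

/-- the product localization functor -/
noncomputable abbrev QQ' : DRing.Cx R₁ × DRing.Cx R₂ ⥤ Dual.D R₁ × Dual.D R₂ :=
  DerivedCategory.Q.prod DerivedCategory.Q

variable {R₁ R₂} {H : Type w} [Category.{v} H]
  [∀ J : Type u, HasColimitsOfShape (Discrete J) H]
  (F : DRing.Cx R₁ × DRing.Cx R₂ ⥤ H) (LF : Dual.D R₁ × Dual.D R₂ ⥤ H)
  (α : QQ' R₁ R₂ ⋙ LF ⟶ F) [LF.IsRightKanExtension α]

/-- homotopy invariance of a functor of pairs of complexes -/
def HtpyInv : Prop :=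
  ∀ ⦃X Y : DRing.Cx R₁ × DRing.Cx R₂⦄ (f g : X ⟶ Y), Nonempty (Homotopy f.1 g.1) →
    Nonempty (Homotopy f.2 g.2) → F.map f = F.map g

variable (P₁ : DRing.Cx R₁) (P₂ : DRing.Cx R₂) [P₁.IsKProjective] [P₂.IsKProjective]

lemma small_hom (Y : Dual.D R₁ × Dual.D R₂) :
    Small.{u} ((QQ' R₁ R₂).obj (P₁, P₂) ⟶ Y) := by
  haveI := KProjQ.small_hom P₁ Y.1
  haveI := KProjQ.small_hom P₂ Y.2
  show Small.{u} ((Q.obj P₁ ⟶ Y.1) × (Q.obj P₂ ⟶ Y.2))
  infer_instance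

include α in
theorem isIso_app (hF : HtpyInv F) : IsIso (α.app (P₁, P₂)) := by
  have hs := small_hom P₁ P₂
  refine Groth.Agent.Helper6.KanCounit2.isIso_app (QQ' R₁ R₂) F LF α (P₁, P₂)
    (fun Y => Shrink.{u} ((QQ' R₁ R₂).obj (P₁, P₂) ⟶ Y))
    (fun Y => (equivShrink _).symm) ?_ ?_
  · rintro ⟨X₁, X₂⟩ ⟨t₁, t₂⟩
    obtain ⟨f₁, hf₁⟩ := KProjQ.Q_map_surjective P₁ X₁ t₁
    obtain ⟨f₂, hf₂⟩ := KProjQ.Q_map_surjective P₂ X₂ t₂
    exact ⟨(f₁, f₂), Prod.ext hf₁ hf₂⟩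
  · rintro ⟨X₁, X₂⟩ f g h
    have h1 : Q.map f.1 = Q.map g.1 := congrArg Prod.fst h
    have h2 : Q.map f.2 = Q.map g.2 := congrArg Prod.snd h
    exact hF f g (KProjQ.homotopy_of_Q_map_eq _ _ h1) (KProjQ.homotopy_of_Q_map_eq _ _ h2)

end Groth.Agent.Helper6.ProdCounit
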