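import Mathlib
import Groth.Prelude.Def_DTen4
import Groth.Agent.Helper6.ProdCounit

set_option autoImplicit false

/-!
# Homotopy invariance of the tensor functors of pairs of complexes
-/

open CategoryTheory CategoryTheory.Limits DerivedCategory MonoidalCategory

universe u

attribute [local instance] HasDerivedCategory.standard

namespace Groth.Agent.Helper6.TenHtpy

variable {A : Type u} [CommRing A]

/-- homotopies can be tensored -/
noncomputable def tensorHomHomotopy {L L' K K' : DRing.Cx A} {f f' : L ⟶ L'} {g g' : K ⟶ K'}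
    (hf : Homotopy f f') (hg : Homotopy g g') : Homotopy (f ⊗ₘ g) (f' ⊗ₘ g') :=
  (HomologicalComplex.mapBifunctorMapHomotopy₁ hf g (curriedTensor (ModuleCat.{u} A))
    (ComplexShape.up ℤ)).trans
  (HomologicalComplex.mapBifunctorMapHomotopy₂ f' hg (curriedTensor (ModuleCat.{u} A))
    (ComplexShape.up ℤ))

lemma tensorT_map {X Y : DRing.Cx A × DRing.Cx A} (f : X ⟶ Y) :
    (DTen.tensorT A).map f = f.1 ⊗ₘ f.2 := by
  dsimp [DTen.tensorT]
  exact (MonoidalCategory.tensorHom_def f.1 f.2).symm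

lemma htpyInv_tensor₂ : ProdCounit.HtpyInv (DTen.tensor₂ A) := by
  intro X Y f g ⟨h1⟩ ⟨h2⟩
  show Q.map ((DTen.tensorT A).map f) = Q.map ((DTen.tensorT A).map g)
  rw [tensorT_map, tensorT_map]
  exact KProjQ.Q_map_eq_of_homotopy (tensorHomHomotopy h1 h2)

variable {R : Type u} [CommRing R] (φ : R →+* A)

lemma mixT_map {X Y : DRing.Cx R × DRing.Cx A} (f : X ⟶ Y) :
    (DTen.mixT φ).map f = (DTen.extCx φ).map f.1 ⊗ₘ f.2 := by
  dsimp [DTen.mixT, DTen.tensorT]
  exact (MonoidalCategory.tensorHom_def _ _).symm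

lemma htpyInv_mix₂ : ProdCounit.HtpyInv (DTen.mix₂ φ) := by
  intro X Y f g ⟨h1⟩ ⟨h2⟩
  show Q.map ((DTen.mixT φ).map f) = Q.map ((DTen.mixT φ).map g)
  rw [mixT_map, mixT_map]
  exact KProjQ.Q_map_eq_of_homotopy (tensorHomHomotopy
    ((ModuleCat.extendScalars.{u, u, u} φ).mapHomotopy h1) h2)

end Groth.Agent.Helper6.TenHtpy
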