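import Mathlib
import Groth.Prelude.Def_DRing4
import Groth.Agent.Helper1.DCoprod
import Groth.Agent.Helper6.KanCounit2
import Groth.Agent.Helper6.KProjQ
import Groth.Agent.Helper6.TenHtpy

set_option autoImplicit false

/-!
# Computing `- ⊗^L E` (for a complex `E`) on K-projective complexes
-/

namespace Groth.Agent.Helper6.LTenCxCompute
open CategoryTheory Limits DerivedCategory MonoidalCategory

attribute [local instance] HasDerivedCategory.standard

universe u

variable {A : Type u} [CommRing A]

instance (J : Type u) : HasColimitsOfShape (Discrete J) (Dual.D A) :=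
  Groth.Agent.Helper1.DCoprod.hasColimitsOfShape_discrete

variable (E : DRing.Cx A) [DRing.HasLTensorCx A E]

/-- the counit of the derived tensor product -/
noncomputable def counit : Q ⋙ DRing.LTensorCx A E ⟶ DRing.tensorCxQ A E :=
  (DRing.tensorCxQ A E).totalLeftDerivedCounit Q
    (HomologicalComplex.quasiIso (ModuleCat.{u} A) (ComplexShape.up ℤ))

instance : (DRing.LTensorCx A E).IsRightKanExtension (counit E) := by
  have h : ((DRing.tensorCxQ A E).totalLeftDerived Q
      (HomologicalComplex.quasiIso (ModuleCat.{u} A) (ComplexShape.up ℤ))).IsLeftDerivedFunctor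
      ((DRing.tensorCxQ A E).totalLeftDerivedCounit Q
        (HomologicalComplex.quasiIso (ModuleCat.{u} A) (ComplexShape.up ℤ)))
      (HomologicalComplex.quasiIso (ModuleCat.{u} A) (ComplexShape.up ℤ)) := inferInstance
  exact h.isRightKanExtension

/-- the counit is an isomorphism at K-projective complexes -/
instance isIso_counit_app (P : DRing.Cx A) [P.IsKProjective] : IsIso ((counit E).app P) := by
  have hs := Groth.Agent.Helper6.KProjQ.small_hom P
  refine Groth.Agent.Helper6.KanCounit2.isIso_app Q (DRing.tensorCxQ A E) (DRing.LTensorCx A E)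
    (counit E) P (fun Y => Shrink.{u} (Q.obj P ⟶ Y)) (fun Y => (equivShrink _).symm)
    (fun X => Groth.Agent.Helper6.KProjQ.Q_map_surjective P X) ?_
  intro X f g hfg
  obtain ⟨h⟩ := Groth.Agent.Helper6.KProjQ.homotopy_of_Q_map_eq f g hfg
  show Q.map (f ▷ E) = Q.map (g ▷ E)
  have h1 : f ▷ E = f ⊗ₘ 𝟙 E := (MonoidalCategory.tensorHom_id f E).symm
  have h2 : g ▷ E = g ⊗ₘ 𝟙 E := (MonoidalCategory.tensorHom_id g E).symm
  rw [h1, h2]
  exact Groth.Agent.Helper6.KProjQ.Q_map_eq_of_homotopy
    (Groth.Agent.Helper6.TenHtpy.tensorHomHomotopy h (Homotopy.refl (𝟙 E)))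

/-- `(toD P) ⊗^L E ≅ toD (P ⊗ E)` for K-projective `P` -/
noncomputable def ltcIso (P : DRing.Cx A) [P.IsKProjective] :
    (DRing.LTensorCx A E).obj (DRing.toD P) ≅ DRing.toD (P ⊗ E) :=
  (asIso ((counit E).app P) : (Q ⋙ DRing.LTensorCx A E).obj P ≅ (DRing.tensorCxQ A E).obj P)

end Groth.Agent.Helper6.LTenCxCompute
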