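import Mathlib

set_option autoImplicit false

/-!
# The counit of a right Kan extension is an isomorphism at "locally initial" objects

Let `LF` be a right Kan extension of `F : C ⥤ H` along `L : C ⥤ D` with counit `α : L ⋙ LF ⟶ F`.
If `P : C` is such that `L` induces bijections `(P ⟶ X) ≃ (L.obj P ⟶ L.obj X)` and `H` has the
relevant copowers, then `α.app P` is an isomorphism.
-/

namespace Groth.Agent.Helper6.KanCounit
open CategoryTheory Limits

universe w v₁ v₂ v₃ u₁ u₂ u₃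

variable {C : Type u₁} [Category.{v₁} C] {D : Type u₂} [Category.{v₂} D]
  {H : Type u₃} [Category.{v₃} H]
  (L : C ⥤ D) (F : C ⥤ H) (LF : D ⥤ H) (α : L ⋙ LF ⟶ F)
  (P : C)
  (ι : D → Type w) (e : ∀ Y : D, ι Y ≃ (L.obj P ⟶ Y))
  [∀ Y : D, HasCoproductsOfShape (ι Y) H]

/-- the copower functor `Y ↦ ∐_{Hom(LP, Y)} Z` -/
noncomputable def G (Z : H) : D ⥤ H where
  obj Y := ∐ (fun _ : ι Y => Z)
  map {Y Y'} g := Sigma.desc (fun i => Sigma.ι (fun _ : ι Y' => Z) ((e Y').symm (e Y i ≫ g)))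
  map_id Y := by
    apply Sigma.hom_ext
    intro i
    simp
  map_comp {Y Y' Y''} g g' := by
    apply Sigma.hom_ext
    intro i
    simp

/-- the inclusions -/
noncomputable def inG (Z : H) (Y : D) (i : ι Y) : Z ⟶ (G L P ι e Z).obj Y :=
  Sigma.ι (fun _ : ι Y => Z) i

/-- the descent -/
noncomputable def descG (Z : H) (Y : D) {T : H} (f : ι Y → (Z ⟶ T)) : (G L P ι e Z).obj Y ⟶ T :=
  Sigma.desc f

lemma inG_descG (Z : H) (Y : D) {T : H} (f : ι Y → (Z ⟶ T)) (i : ι Y) :
    inG L P ι e Z Y i ≫ descG L P ι e Z Y f = f i :=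
  Sigma.ι_desc _ _

lemma inG_map (Z : H) {Y Y' : D} (g : Y ⟶ Y') (i : ι Y) :
    inG L P ι e Z Y i ≫ (G L P ι e Z).map g = inG L P ι e Z Y' ((e Y').symm (e Y i ≫ g)) :=
  Sigma.ι_desc _ _

lemma G_hom_ext (Z : H) (Y : D) {T : H} (a b : (G L P ι e Z).obj Y ⟶ T)
    (h : ∀ i, inG L P ι e Z Y i ≫ a = inG L P ι e Z Y i ≫ b) : a = b :=
  Sigma.hom_ext _ _ h

variable (hP : ∀ X : C, Function.Bijective (L.map : (P ⟶ X) → (L.obj P ⟶ L.obj X)))

/-- the inverse of `L.map` on maps out of `P` -/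
noncomputable def pre (X : C) (f : L.obj P ⟶ L.obj X) : P ⟶ X :=
  (Equiv.ofBijective _ (hP X)).symm f

lemma map_pre (X : C) (f : L.obj P ⟶ L.obj X) : L.map (pre L P hP X f) = f :=
  (Equiv.ofBijective _ (hP X)).apply_symm_apply f

lemma pre_comp (X X' : C) (f : L.obj P ⟶ L.obj X) (h : X ⟶ X') :
    pre L P hP X' (f ≫ L.map h) = pre L P hP X f ≫ h := by
  apply (hP X').1
  rw [map_pre, L.map_comp, map_pre]

/-- the transformation `L ⋙ G Z ⟶ F` attached to `z : Z ⟶ F P` -/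
noncomputable def β (Z : H) (z : Z ⟶ F.obj P) : L ⋙ G L P ι e Z ⟶ F where
  app X := descG L P ι e Z (L.obj X) (fun i => z ≫ F.map (pre L P hP X (e (L.obj X) i)))
  naturality {X X'} h := by
    refine G_hom_ext L P ι e Z _ _ _ (fun i => ?_)
    rw [Functor.comp_map, ← Category.assoc, inG_map, inG_descG, ← Category.assoc, inG_descG,
      Equiv.apply_symm_apply, pre_comp, F.map_comp, Category.assoc]

/-- the transformation `G Z ⟶ LF` attached to `z' : Z ⟶ LF (L P)` -/
noncomputable def δ (Z : H) (z' : Z ⟶ LF.obj (L.obj P)) : G L P ι e Z ⟶ LF where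
  app Y := descG L P ι e Z Y (fun i => z' ≫ LF.map (e Y i))
  naturality {Y Y'} g := by
    refine G_hom_ext L P ι e Z _ _ _ (fun i => ?_)
    rw [← Category.assoc, inG_map, inG_descG, ← Category.assoc, inG_descG,
      Equiv.apply_symm_apply, LF.map_comp, Category.assoc]

lemma δ_fac (Z : H) (z' : Z ⟶ LF.obj (L.obj P)) :
    Functor.whiskerLeft L (δ L LF P ι e Z z') ≫ α = β L F P ι e hP Z (z' ≫ α.app P) := by
  ext X
  refine G_hom_ext L P ι e Z _ _ _ (fun i => ?_)
  have hn := α.naturality (pre L P hP X (e (L.obj X) i))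
  simp only [Functor.comp_map, map_pre] at hn
  show inG L P ι e Z (L.obj X) i ≫
      (descG L P ι e Z (L.obj X) (fun i => z' ≫ LF.map (e (L.obj X) i))) ≫ α.app X =
    inG L P ι e Z (L.obj X) i ≫
      descG L P ι e Z (L.obj X)
        (fun i => (z' ≫ α.app P) ≫ F.map (pre L P hP X (e (L.obj X) i)))
  rw [← Category.assoc, inG_descG, inG_descG, Category.assoc, hn, Category.assoc]

variable [LF.IsRightKanExtension α]

include hP e in
theorem comp_app_bijective (Z : H) :
    Function.Bijective (fun z' : Z ⟶ LF.obj (L.obj P) => z' ≫ α.app P) := by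
  constructor
  · intro z₁ z₂ h
    have h' : z₁ ≫ α.app P = z₂ ≫ α.app P := h
    have h1 : δ L LF P ι e Z z₁ = δ L LF P ι e Z z₂ := by
      apply LF.hom_ext_of_isRightKanExtension α
      rw [δ_fac L F LF α P ι e hP, δ_fac L F LF α P ι e hP, h']
    have h2 := congrArg (fun t => inG L P ι e Z (L.obj P)
      ((e (L.obj P)).symm (𝟙 _)) ≫ t.app (L.obj P)) h1
    have h3 : ∀ z' : Z ⟶ LF.obj (L.obj P), inG L P ι e Z (L.obj P)
        ((e (L.obj P)).symm (𝟙 _)) ≫ (δ L LF P ι e Z z').app (L.obj P) = z' := by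
      intro z'
      show inG L P ι e Z (L.obj P) ((e (L.obj P)).symm (𝟙 _)) ≫
        descG L P ι e Z (L.obj P) (fun i => z' ≫ LF.map (e (L.obj P) i)) = z'
      rw [inG_descG, Equiv.apply_symm_apply, LF.map_id, Category.comp_id]
    simpa only [h3] using h2
  · intro z
    let γ := LF.liftOfIsRightKanExtension α (G L P ι e Z) (β L F P ι e hP Z z)
    refine ⟨inG L P ι e Z (L.obj P) ((e (L.obj P)).symm (𝟙 _)) ≫ γ.app (L.obj P), ?_⟩
    have h1 : γ.app (L.obj P) ≫ α.app P = (β L F P ι e hP Z z).app P :=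
      LF.liftOfIsRightKanExtension_fac_app α _ _ P
    show (_ ≫ γ.app (L.obj P)) ≫ α.app P = z
    rw [Category.assoc, h1]
    have h2 : pre L P hP P (𝟙 (L.obj P)) = 𝟙 P := by
      apply (hP P).1
      rw [map_pre, L.map_id]
    show inG L P ι e Z (L.obj P) ((e (L.obj P)).symm (𝟙 _)) ≫
      descG L P ι e Z (L.obj P) (fun i => z ≫ F.map (pre L P hP P (e (L.obj P) i))) = z
    rw [inG_descG, Equiv.apply_symm_apply, h2, F.map_id, Category.comp_id]

include hP e in
theorem isIso_app : IsIso (α.app P) := by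
  obtain ⟨s, hs⟩ := (comp_app_bijective L F LF α P ι e hP (F.obj P)).2 (𝟙 _)
  have hs' : s ≫ α.app P = 𝟙 _ := hs
  refine ⟨s, ?_, hs'⟩
  apply (comp_app_bijective L F LF α P ι e hP (LF.obj (L.obj P))).1
  show (α.app P ≫ s) ≫ α.app P = 𝟙 _ ≫ α.app P
  rw [Category.assoc, hs', Category.comp_id, Category.id_comp]

end Groth.Agent.Helper6.KanCounit
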