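import Mathlib
import Groth.Prelude.Def_DDual2
import Groth.Agent.Helper1.DCoprod
import Groth.Agent.Helper6.KanCounit
import Groth.Agent.Helper3.DRingBC

set_option autoImplicit false

/-!
# Computing derived base change on K-projective complexes
-/

namespace Groth.Agent.Helper6.LBCCompute
open CategoryTheory Limits DerivedCategory

attribute [local instance] HasDerivedCategory.standard

universe u

variable {A B : Type u} [CommRing A] [CommRing B]

instance (J : Type u) : HasColimitsOfShape (Discrete J) (Dual.D B) :=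
  Groth.Agent.Helper1.DCoprod.hasColimitsOfShape_discrete

variable (φ : A →+* B) [DRing.HasLBaseChange φ]

/-- the counit of derived base change -/
noncomputable def counit : Qh ⋙ DRing.LBaseChange φ ⟶ DRing.baseChangeKh φ :=
  (DRing.baseChangeKh φ).totalLeftDerivedCounit Qh
    (HomotopyCategory.quasiIso (ModuleCat.{u} A) (ComplexShape.up ℤ))

instance : (DRing.LBaseChange φ).IsRightKanExtension (counit φ) := by
  have h : ((DRing.baseChangeKh φ).totalLeftDerived Qh
      (HomotopyCategory.quasiIso (ModuleCat.{u} A) (ComplexShape.up ℤ))).IsLeftDerivedFunctor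
      ((DRing.baseChangeKh φ).totalLeftDerivedCounit Qh
        (HomotopyCategory.quasiIso (ModuleCat.{u} A) (ComplexShape.up ℤ)))
      (HomotopyCategory.quasiIso (ModuleCat.{u} A) (ComplexShape.up ℤ)) := inferInstance
  exact h.isRightKanExtension

section

variable (P : CochainComplex (ModuleCat.{u} A) ℤ) [P.IsKProjective]

lemma small_hom (Y : Dual.D A) :
    Small.{u} (Qh.obj ((HomotopyCategory.quotient _ _).obj P) ⟶ Y) := by
  let Y' := Qh.objPreimage Y
  let i : Qh.obj Y' ≅ Y := Qh.objObjPreimageIso Y
  let e1 : ((HomotopyCategory.quotient _ _).obj P ⟶ Y') ≃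
      (Qh.obj ((HomotopyCategory.quotient _ _).obj P) ⟶ Qh.obj Y') :=
    Equiv.ofBijective _ (CochainComplex.IsKProjective.Qh_map_bijective P Y')
  let e2 : (Qh.obj ((HomotopyCategory.quotient _ _).obj P) ⟶ Qh.obj Y') ≃
      (Qh.obj ((HomotopyCategory.quotient _ _).obj P) ⟶ Y) :=
    (Iso.homCongr (Iso.refl _) i)
  exact small_map (e1.trans e2).symm

/-- the counit is an isomorphism at K-projective complexes -/
theorem isIso_counit_app : IsIso ((counit φ).app ((HomotopyCategory.quotient _ _).obj P)) := by
  have hs := small_hom P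
  exact Groth.Agent.Helper6.KanCounit.isIso_app Qh (DRing.baseChangeKh φ) (DRing.LBaseChange φ)
    (counit φ) ((HomotopyCategory.quotient _ _).obj P)
    (fun Y => Shrink.{u} (Qh.obj ((HomotopyCategory.quotient _ _).obj P) ⟶ Y))
    (fun Y => (equivShrink _).symm)
    (fun X => CochainComplex.IsKProjective.Qh_map_bijective P X)

end


/-- termwise extension of scalars on complexes -/
noncomputable abbrev bcCxF : DRing.Cx A ⥤ DRing.Cx B :=
  (ModuleCat.extendScalars.{u, u, u} φ).mapHomologicalComplex (ComplexShape.up ℤ)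

/-- the comparison `LBaseChange (Q P) ⟶ Q (B ⊗ P)`, natural in the complex `P` -/
noncomputable def lbcNat : Q ⋙ DRing.LBaseChange φ ⟶ bcCxF φ ⋙ Q :=
  Functor.whiskerRight (quotientCompQhIso (ModuleCat.{u} A)).inv (DRing.LBaseChange φ) ≫
    (Functor.associator _ _ _).hom ≫
    Functor.whiskerLeft (HomotopyCategory.quotient _ _) (counit φ) ≫
    (Functor.associator _ _ _).inv ≫
    Functor.whiskerRight ((ModuleCat.extendScalars.{u, u, u} φ).mapHomotopyCategoryFactors
      (ComplexShape.up ℤ)).hom Qh ≫
    (Functor.associator _ _ _).hom ≫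
    Functor.whiskerLeft (bcCxF φ) (quotientCompQhIso (ModuleCat.{u} B)).hom

instance isIso_lbcNat_app (P : DRing.Cx A) [P.IsKProjective] : IsIso ((lbcNat φ).app P) := by
  have := isIso_counit_app φ P
  simp only [lbcNat, NatTrans.comp_app, Functor.whiskerRight_app, Functor.whiskerLeft_app,
    Functor.associator_hom_app, Functor.associator_inv_app]
  infer_instance

/-- `LBaseChange (toD P) ≅ toD (B ⊗ P)` for K-projective `P` -/
noncomputable def lbcIso (P : DRing.Cx A) [P.IsKProjective] :
    (DRing.LBaseChange φ).obj (DRing.toD P) ≅ DRing.toD ((bcCxF φ).obj P) :=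
  asIso ((lbcNat φ).app P)

lemma lbcIso_hom_naturality {P P' : DRing.Cx A} [P.IsKProjective] [P'.IsKProjective]
    (f : P ⟶ P') :
    (DRing.LBaseChange φ).map (Q.map f) ≫ (lbcIso φ P').hom =
      (lbcIso φ P).hom ≫ Q.map ((bcCxF φ).map f) :=
  (lbcNat φ).naturality f

end Groth.Agent.Helper6.LBCCompute
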