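import Mathlib

set_option autoImplicit false

/-!
# Kan extensions computed at weakly initial objects

Let `α : L ⋙ LF ⟶ F`.  If `P : C` is such that `L.map : (P ⟶ X) → (L.obj P ⟶ L.obj X)` is
surjective for all `X` and `α.app P` is an isomorphism, then `(LF, α)` is a pointwise right Kan
extension at `L.obj P`, and this remains true after postcomposition with any functor.
-/

namespace Groth.Agent.Helper6.WeakInit
open CategoryTheory Limits Functor

universe v₁ v₂ v₃ v₄ u₁ u₂ u₃ u₄

section cone

variable {J : Type u₁} [Category.{v₁} J] {H : Type u₂} [Category.{v₂} H] {G : J ⥤ H}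

/-- a cone whose component at a weakly initial object is an isomorphism is a limit cone -/
noncomputable def isLimitOfWeaklyInitial (c : Cone G) (I : J) (hI : ∀ j, Nonempty (I ⟶ j))
    [IsIso (c.π.app I)] : IsLimit c where
  lift s := s.π.app I ≫ inv (c.π.app I)
  fac s j := by
    obtain ⟨g⟩ := hI j
    rw [← c.w g, ← s.w g, Category.assoc, IsIso.inv_hom_id_assoc]
  uniq s m hm := by
    rw [← hm I, Category.assoc, IsIso.hom_inv_id, Category.comp_id]

end cone

variable {C : Type u₁} [Category.{v₁} C] {D : Type u₂} [Category.{v₂} D]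
  {H : Type u₃} [Category.{v₃} H] {H' : Type u₄} [Category.{v₄} H']
  (L : C ⥤ D) (F : C ⥤ H) (LF : D ⥤ H) (α : L ⋙ LF ⟶ F)

/-- pointwise Kan extension at the image of a weakly initial object -/
noncomputable def isPointwiseAt (P : C)
    (hP : ∀ X : C, Function.Surjective (L.map : (P ⟶ X) → (L.obj P ⟶ L.obj X)))
    [IsIso (α.app P)] :
    (RightExtension.mk LF α).IsPointwiseRightKanExtensionAt (L.obj P) := by
  haveI : IsIso (((RightExtension.mk LF α).coneAt (L.obj P)).π.app
      (StructuredArrow.mk (𝟙 (L.obj P)))) := by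
    have h : ((RightExtension.mk LF α).coneAt (L.obj P)).π.app
        (StructuredArrow.mk (𝟙 (L.obj P))) = α.app P := by
      show LF.map (𝟙 (L.obj P)) ≫ α.app P = α.app P
      rw [LF.map_id]
      exact Category.id_comp _
    rw [h]
    assumption
  refine isLimitOfWeaklyInitial _ (StructuredArrow.mk (𝟙 (L.obj P))) (fun j => ?_)
  obtain ⟨g, hg⟩ := hP j.right j.hom
  exact ⟨StructuredArrow.homMk g (by simpa using hg)⟩

/-- the postcomposed extension -/
abbrev postα (T : H ⥤ H') : L ⋙ (LF ⋙ T) ⟶ F ⋙ T :=
  (Functor.associator _ _ _).inv ≫ whiskerRight α T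

/-- pointwise Kan extension after postcomposition -/
noncomputable def isPointwiseAtPost (T : H ⥤ H') (P : C)
    (hP : ∀ X : C, Function.Surjective (L.map : (P ⟶ X) → (L.obj P ⟶ L.obj X)))
    [IsIso (α.app P)] :
    (RightExtension.mk (LF ⋙ T) (postα L F LF α T)).IsPointwiseRightKanExtensionAt (L.obj P) := by
  haveI : IsIso ((postα L F LF α T).app P) := by
    dsimp [postα]
    rw [Category.id_comp]
    infer_instance
  exact isPointwiseAt L (F ⋙ T) (LF ⋙ T) (postα L F LF α T) P hP

/-- the hypothesis: enough weakly initial objects at which `α` is an isomorphism -/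
def Enough : Prop :=
  ∀ Y : D, ∃ P : C, Nonempty (L.obj P ≅ Y) ∧
    (∀ X : C, Function.Surjective (L.map : (P ⟶ X) → (L.obj P ⟶ L.obj X))) ∧ IsIso (α.app P)

variable {L F LF α}

/-- with enough weakly initial objects, `LF ⋙ T` is a pointwise right Kan extension -/
noncomputable def isPointwisePost (h : Enough L F LF α) (T : H ⥤ H') :
    (RightExtension.mk (LF ⋙ T) (postα L F LF α T)).IsPointwiseRightKanExtension := fun Y =>
  haveI : IsIso (α.app (h Y).choose) := (h Y).choose_spec.2.2
  (RightExtension.mk (LF ⋙ T) (postα L F LF α T)).isPointwiseRightKanExtensionAtOfIso'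
    (isPointwiseAtPost L F LF α T (h Y).choose (h Y).choose_spec.2.1) (h Y).choose_spec.1.some

lemma isRightKanExtension_post (h : Enough L F LF α) (T : H ⥤ H') :
    (LF ⋙ T).IsRightKanExtension (postα L F LF α T) :=
  (isPointwisePost h T).isRightKanExtension

lemma isLeftDerivedFunctor_post (h : Enough L F LF α) (T : H ⥤ H') (W : MorphismProperty C)
    [L.IsLocalization W] :
    (LF ⋙ T).IsLeftDerivedFunctor (postα L F LF α T) W where
  isRightKanExtension := isRightKanExtension_post h T

end Groth.Agent.Helper6.WeakInit
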