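import Mathlib
import Groth.Prelude.Def_DDual2
import Groth.Agent.Helper6.LBCCompute
import Groth.Agent.Helper6.KProjRes
import Groth.Agent.Helper6.WeakInit
import Groth.Agent.Helper6.HtpyAdj

set_option autoImplicit false

/-!
# Derived base change is left adjoint to restriction of scalars
-/

namespace Groth.Agent.Helper6.LBCAdj
open CategoryTheory Limits DerivedCategory

attribute [local instance] HasDerivedCategory.standard

universe u

variable {A B : Type u} [CommRing A] [CommRing B] (φ : A →+* B) [DRing.HasLBaseChange φ]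

/-- every object of `D(A)` is the image of a K-projective complex -/
lemma exists_kproj (Y : Dual.D A) : ∃ P : DRing.Cx A, P.IsKProjective ∧ TenCx.KFlat P ∧
    Nonempty (Qh.obj ((HomotopyCategory.quotient _ _).obj P) ≅ Y) := by
  let M := Q.objPreimage Y
  let i : Q.obj M ≅ Y := Q.objObjPreimageIso Y
  obtain ⟨P, f, hP, hPf, -, hf, -⟩ := KProjRes.exists_resolution M
  haveI : IsIso (Q.map f) := by
    rw [DerivedCategory.isIso_Q_map_iff_quasiIso]
    exact hf
  exact ⟨P, hP, hPf, ⟨(quotientCompQhIso _).app P ≪≫ asIso (Q.map f) ≪≫ i⟩⟩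

/-- enough K-projectives for the counit of derived base change -/
lemma enough : WeakInit.Enough Qh (DRing.baseChangeKh φ) (DRing.LBaseChange φ)
    (LBCCompute.counit φ) := by
  intro Y
  obtain ⟨P, hP, -, ⟨i⟩⟩ := exists_kproj Y
  exact ⟨(HomotopyCategory.quotient _ _).obj P, ⟨i⟩,
    fun X => (CochainComplex.IsKProjective.Qh_map_bijective P X).2,
    LBCCompute.isIso_counit_app φ P⟩

/-- restriction on homotopy categories -/
noncomputable abbrev resK : HomotopyCategory (ModuleCat.{u} B) (ComplexShape.up ℤ) ⥤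
    HomotopyCategory (ModuleCat.{u} A) (ComplexShape.up ℤ) :=
  (ModuleCat.restrictScalars.{u} φ).mapHomotopyCategory (ComplexShape.up ℤ)

/-- extension on homotopy categories -/
noncomputable abbrev extK : HomotopyCategory (ModuleCat.{u} A) (ComplexShape.up ℤ) ⥤
    HomotopyCategory (ModuleCat.{u} B) (ComplexShape.up ℤ) :=
  (ModuleCat.extendScalars.{u, u, u} φ).mapHomotopyCategory (ComplexShape.up ℤ)

/-- the adjunction on homotopy categories -/
noncomputable abbrev adjK : extK φ ⊣ resK φ :=
  HtpyAdj.adjK (ModuleCat.extendRestrictScalarsAdj.{u, u, u} φ)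

/-- `β` -/
noncomputable abbrev β : resK φ ⋙ Qh ⟶ Qh ⋙ DRing.restrictD φ :=
  (ModuleCat.restrictScalars.{u} φ).mapDerivedCategoryFactorsh.inv

instance : (DRing.restrictD φ).IsRightDerivedFunctor (β φ)
    (HomotopyCategory.quasiIso (ModuleCat.{u} B) (ComplexShape.up ℤ)) :=
  Functor.isRightDerivedFunctor_of_inverts _ _
    (ModuleCat.restrictScalars.{u} φ).mapDerivedCategoryFactorsh

instance : (DRing.LBaseChange φ).IsLeftDerivedFunctor (LBCCompute.counit φ)
    (HomotopyCategory.quasiIso (ModuleCat.{u} A) (ComplexShape.up ℤ)) := by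
  have h : ((DRing.baseChangeKh φ).totalLeftDerived Qh
      (HomotopyCategory.quasiIso (ModuleCat.{u} A) (ComplexShape.up ℤ))).IsLeftDerivedFunctor
      ((DRing.baseChangeKh φ).totalLeftDerivedCounit Qh
        (HomotopyCategory.quasiIso (ModuleCat.{u} A) (ComplexShape.up ℤ)))
      (HomotopyCategory.quasiIso (ModuleCat.{u} A) (ComplexShape.up ℤ)) := inferInstance
  exact h

instance : (DRing.LBaseChange φ ⋙ DRing.restrictD φ).IsLeftDerivedFunctor
    ((Functor.associator _ _ _).inv ≫ Functor.whiskerRight (LBCCompute.counit φ) (DRing.restrictD φ))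
    (HomotopyCategory.quasiIso (ModuleCat.{u} A) (ComplexShape.up ℤ)) :=
  WeakInit.isLeftDerivedFunctor_post (enough φ) (DRing.restrictD φ) _

instance : (DRing.restrictD φ ⋙ DRing.LBaseChange φ).IsRightDerivedFunctor
    (Functor.whiskerRight (β φ) (DRing.LBaseChange φ) ≫ (Functor.associator _ _ _).hom)
    (HomotopyCategory.quasiIso (ModuleCat.{u} B) (ComplexShape.up ℤ)) := by
  haveI : IsIso (Functor.whiskerRight (β φ) (DRing.LBaseChange φ) ≫
      (Functor.associator Qh (DRing.restrictD φ) (DRing.LBaseChange φ)).hom) := inferInstance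
  exact Functor.isRightDerivedFunctor_of_inverts _ _
    (asIso (Functor.whiskerRight (β φ) (DRing.LBaseChange φ) ≫
      (Functor.associator Qh (DRing.restrictD φ) (DRing.LBaseChange φ)).hom)).symm

/-- derived base change is left adjoint to restriction of scalars -/
noncomputable def adj : DRing.LBaseChange φ ⊣ DRing.restrictD φ :=
  (adjK φ).derived (HomotopyCategory.quasiIso (ModuleCat.{u} A) (ComplexShape.up ℤ))
    (HomotopyCategory.quasiIso (ModuleCat.{u} B) (ComplexShape.up ℤ))
    (LBCCompute.counit φ) (β φ)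

end Groth.Agent.Helper6.LBCAdj
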