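import Mathlib
import Groth.Prelude
import Groth.Agent.Helper2.SerreLoc
import Groth.Agent.Helper2.RegHom

/-!
# Nagata's criterion for openness of the regular locus
-/

set_option autoImplicit false
universe u

namespace Groth.Agent.Helper6.NagataCrit

open IsLocalRing PrimeSpectrum

section Top

variable {R : Type u} [CommRing R] [IsNoetherianRing R]

/-- Nagata's topological criterion: a subset of a Noetherian spectrum which is stable under
generalization and contains, for each of its points `p`, a nonempty open subset of `V(p)`, is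
open. -/
theorem isOpen_of_nagata (U : Set (PrimeSpectrum R)) (hgen : StableUnderGeneralization U)
    (h : ∀ p ∈ U, ∃ W : Set (PrimeSpectrum R), IsOpen W ∧
      (W ∩ zeroLocus (p.asIdeal : Set R)).Nonempty ∧ W ∩ zeroLocus (p.asIdeal : Set R) ⊆ U) :
    IsOpen U := by
  classical
  rw [← isClosed_compl_iff]
  set Z := Uᶜ with hZ
  have hspec : StableUnderSpecialization Z := hgen.compl
  set I := vanishingIdeal Z with hI
  have hcl : closure Z = zeroLocus (I : Set R) := (zeroLocus_vanishingIdeal_eq_closure Z).symm
  apply isClosed_of_closure_subset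
  intro x hx
  rw [hcl, mem_zeroLocus, SetLike.coe_subset_coe] at hx
  obtain ⟨q, hqmin, hqx⟩ := Ideal.exists_minimalPrimes_le hx
  haveI hqprime : q.IsPrime := hqmin.1.1
  set p : PrimeSpectrum R := ⟨q, hqprime⟩ with hp
  have hpx : p ⤳ x := (le_iff_specializes p x).mp hqx
  suffices hpZ : p ∈ Z from hspec hpx hpZ
  by_contra hpU
  have hpU' : p ∈ U := by
    rw [hZ] at hpU
    exact not_not.mp hpU
  obtain ⟨W, hWo, ⟨y, hyW, hyV⟩, hWU⟩ := h p hpU'
  have hpy : p ⤳ y := by
    rw [← le_iff_specializes]
    exact hyV
  have hpW : p ∈ W := hpy.mem_open hWo hyW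
  -- the other components
  set S : Set (Ideal R) := I.minimalPrimes \ {q} with hS
  have hSfin : S.Finite := (Ideal.finite_minimalPrimes_of_isNoetherianRing R I).subset
    Set.sdiff_subset
  set C : Set (PrimeSpectrum R) := ⋃ q' ∈ S, zeroLocus (q' : Set R) with hC
  have hCcl : IsClosed C := hSfin.isClosed_biUnion fun q' _ => isClosed_zeroLocus _
  have hpC : p ∉ C := by
    intro hpC
    rw [hC, Set.mem_iUnion₂] at hpC
    obtain ⟨q', hq'S, hq'p⟩ := hpC
    rw [mem_zeroLocus, SetLike.coe_subset_coe] at hq'p
    have hq'q : q' ≤ q := hq'p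
    have := hqmin.2 hq'S.1.1 hq'q
    exact hq'S.2 (le_antisymm hq'q this)
  have hpcl : p ∈ closure Z := by
    rw [hcl, mem_zeroLocus, SetLike.coe_subset_coe]
    exact hqmin.1.2
  have hW'o : IsOpen (W ∩ Cᶜ) := hWo.inter hCcl.isOpen_compl
  obtain ⟨z, ⟨hzW, hzC⟩, hzZ⟩ := mem_closure_iff.mp hpcl (W ∩ Cᶜ) hW'o ⟨hpW, hpC⟩
  have hzI : I ≤ z.asIdeal := by
    have : z ∈ closure Z := subset_closure hzZ
    rw [hcl, mem_zeroLocus, SetLike.coe_subset_coe] at this
    exact this
  obtain ⟨q'', hq''min, hq''z⟩ := Ideal.exists_minimalPrimes_le hzI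
  have hq''q : q'' = q := by
    by_contra hne
    apply hzC
    rw [hC, Set.mem_iUnion₂]
    refine ⟨q'', ⟨hq''min, hne⟩, ?_⟩
    rw [mem_zeroLocus, SetLike.coe_subset_coe]
    exact hq''z
  have hzV : z ∈ zeroLocus (p.asIdeal : Set R) := by
    rw [mem_zeroLocus, SetLike.coe_subset_coe]
    rw [hq''q] at hq''z
    exact hq''z
  exact hzZ (hWU ⟨hzW, hzV⟩)

end Top

section Gen

variable (B : Type u) [CommRing B]

/-- the regular locus is stable under generalization (Serre) -/
theorem regular_of_le (M P : Ideal B) [hM : M.IsPrime] [hP : P.IsPrime] (hPM : P ≤ M)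
    (h : IsRegularLocalRing (Localization.AtPrime M)) :
    IsRegularLocalRing (Localization.AtPrime P) := by
  have hdisj : Disjoint (M.primeCompl : Set B) (P : Set B) := by
    rw [Set.disjoint_left]
    intro x hx hxP
    exact hx (hPM hxP)
  set P' := P.map (algebraMap B (Localization.AtPrime M)) with hP'
  haveI hP'prime : P'.IsPrime :=
    IsLocalization.isPrime_of_isPrime_disjoint M.primeCompl _ P hP hdisj
  have hcomap : P'.comap (algebraMap B (Localization.AtPrime M)) = P :=
    IsLocalization.under_map_of_isPrime_disjoint M.primeCompl _ hP hdisj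
  have hreg : IsRegularLocalRing (Localization.AtPrime P') :=
    Groth.Agent.Helper2.SerreLoc.isRegularLocalRing_localization _ P'
  have e := IsLocalization.localizationLocalizationAtPrimeIsoLocalization M.primeCompl P'
  have hreg2 : IsRegularLocalRing
      (Localization.AtPrime (P'.comap (algebraMap B (Localization M.primeCompl)))) :=
    IsRegularLocalRing.of_ringEquiv e.symm.toRingEquiv
  exact Groth.Agent.Helper2.RegHom.transport hcomap hreg2

theorem stableUnderGeneralization_regLocus : StableUnderGeneralization (EGA4.regLocus B) := by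
  intro x y hyx hx
  rw [← le_iff_specializes] at hyx
  exact regular_of_le B x.asIdeal y.asIdeal hyx hx

end Gen

end Groth.Agent.Helper6.NagataCrit
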