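import Mathlib

set_option autoImplicit false

/-!
# A three term complex of finite free modules over a local ring which is exact modulo the
maximal ideal is universally exact
-/

namespace Groth.Agent.Helper6.LocalExact3
open TensorProduct IsLocalRing

universe u

variable {R : Type u} [CommRing R] [IsLocalRing R]
  {F G H : Type u} [AddCommGroup F] [Module R F] [AddCommGroup G] [Module R G]
  [AddCommGroup H] [Module R H] [Module.Finite R G] [Module.Finite R H] [Module.Free R H]

theorem exact_rTensor_of_exact_lTensor_residueField
    (f : F →ₗ[R] G) (g : G →ₗ[R] H) (hgf : g ∘ₗ f = 0)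
    (hex : Function.Exact (f.lTensor (ResidueField R)) (g.lTensor (ResidueField R)))
    (N : Type u) [AddCommGroup N] [Module R N] :
    Function.Exact (f.rTensor N) (g.rTensor N) := by
  let π : G →ₗ[R] G ⧸ LinearMap.range f := (LinearMap.range f).mkQ
  have hle : LinearMap.range f ≤ LinearMap.ker g := by
    rintro _ ⟨x, rfl⟩
    exact LinearMap.congr_fun hgf x
  let gt : (G ⧸ LinearMap.range f) →ₗ[R] H := (LinearMap.range f).liftQ g hle
  have hg : gt ∘ₗ π = g := (LinearMap.range f).liftQ_mkQ g hle
  have hπf : π ∘ₗ f = 0 := by
    ext x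
    exact (Submodule.Quotient.mk_eq_zero _).2 ⟨x, rfl⟩
  have hπ : Function.Surjective π := Submodule.mkQ_surjective _
  have hinj : Function.Injective (gt.lTensor (ResidueField R)) := by
    rw [injective_iff_map_eq_zero]
    intro y hy
    obtain ⟨x, rfl⟩ := LinearMap.lTensor_surjective (ResidueField R) hπ y
    have h1 : (g.lTensor (ResidueField R)) x = 0 := by
      rw [← hg, LinearMap.lTensor_comp]
      exact hy
    obtain ⟨w, rfl⟩ := (hex x).1 h1
    rw [← LinearMap.comp_apply, ← LinearMap.lTensor_comp, hπf, LinearMap.lTensor_zero,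
      LinearMap.zero_apply]
  obtain ⟨l', hl'⟩ :=
    (IsLocalRing.split_injective_iff_lTensor_residueField_injective gt).2 hinj
  have hgtN : Function.Injective (gt.rTensor N) := by
    apply Function.HasLeftInverse.injective
    refine ⟨l'.rTensor N, fun x => ?_⟩
    rw [← LinearMap.comp_apply, ← LinearMap.rTensor_comp, hl', LinearMap.rTensor_id,
      LinearMap.id_apply]
  have hexπ : Function.Exact (f.rTensor N) (π.rTensor N) :=
    rTensor_exact N (LinearMap.exact_map_mkQ_range f) hπ
  intro x
  rw [← hexπ x]
  constructor
  · intro h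
    apply hgtN
    rw [map_zero, ← LinearMap.comp_apply, ← LinearMap.rTensor_comp, hg]
    exact h
  · intro h
    rw [← hg, LinearMap.rTensor_comp, LinearMap.comp_apply, h, map_zero]

end Groth.Agent.Helper6.LocalExact3
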