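import Mathlib
import Groth.Agent.Helper6.LBCCompute
import Groth.Agent.Helper6.LocalExact3
import Groth.Agent.Helper3.DRing1
import Groth.Agent.Helper3.DRingFin
import Groth.Agent.Helper3.DRingTor3
import Groth.Agent.Helper3.DRingTor6

set_option autoImplicit false

/-!
# Perfectness from the fibre over the residue field
-/

namespace Groth.Agent.Helper6.LBCFibre
open CategoryTheory Limits DerivedCategory Groth.Agent.Helper6.LBCCompute TensorProduct
open Groth.Agent.Helper3.DRingLib

attribute [local instance] HasDerivedCategory.standard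

universe u

section general

variable {A : Type u} (B : Type u) [CommRing A] [CommRing B] [Algebra A B]

lemma extendScalarsEquiv_naturality {M M' : ModuleCat.{u} A} (f : M ⟶ M')
    (x : (ModuleCat.extendScalars (algebraMap A B)).obj M) :
    extendScalarsEquiv (B := B) M' (((ModuleCat.extendScalars (algebraMap A B)).map f).hom x) =
      (f.hom.lTensor B) (extendScalarsEquiv (B := B) M x) := by
  refine TensorProduct.induction_on (motive := fun x =>
    extendScalarsEquiv (B := B) M' (((ModuleCat.extendScalars (algebraMap A B)).map f).hom x) =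
      (f.hom.lTensor B) (extendScalarsEquiv (B := B) M x)) x ?_ ?_ ?_
  · show extendScalarsEquiv (B := B) M' (((ModuleCat.extendScalars (algebraMap A B)).map f).hom
      (0 : (ModuleCat.extendScalars (algebraMap A B)).obj M)) =
      (f.hom.lTensor B) (extendScalarsEquiv (B := B) M
        (0 : (ModuleCat.extendScalars (algebraMap A B)).obj M))
    rw [map_zero, map_zero, map_zero, map_zero]
  · intro s m
    rfl
  · intro a b ha hb
    have h1 : ∀ a b : (ModuleCat.extendScalars (algebraMap A B)).obj M,
        extendScalarsEquiv (B := B) M'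
          (((ModuleCat.extendScalars (algebraMap A B)).map f).hom (a + b)) =
        extendScalarsEquiv (B := B) M'
          (((ModuleCat.extendScalars (algebraMap A B)).map f).hom a) +
        extendScalarsEquiv (B := B) M'
          (((ModuleCat.extendScalars (algebraMap A B)).map f).hom b) := by
      intro a b
      rw [map_add, map_add]
    have h2 : ∀ a b : (ModuleCat.extendScalars (algebraMap A B)).obj M,
        (f.hom.lTensor B) (extendScalarsEquiv (B := B) M (a + b)) =
        (f.hom.lTensor B) (extendScalarsEquiv (B := B) M a) +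
        (f.hom.lTensor B) (extendScalarsEquiv (B := B) M b) := by
      intro a b
      rw [map_add, map_add]
    exact (h1 a b).trans ((congrArg₂ (· + ·) ha hb).trans (h2 a b).symm)

lemma exact_lTensor_of_exactAt_bcCx (P : DRing.Cx A) (i j k : ℤ) (hij : i + 1 = j)
    (hjk : j + 1 = k) (h : ((bcCx A B).obj P).ExactAt j) :
    Function.Exact ((P.d i j).hom.lTensor B) ((P.d j k).hom.lTensor B) := by
  rw [exactAt_iff_forall ((bcCx A B).obj P) i j k hij hjk] at h
  have h' : ∀ x : (ModuleCat.extendScalars (algebraMap A B)).obj (P.X j),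
      ((ModuleCat.extendScalars (algebraMap A B)).map (P.d j k)).hom x = 0 →
      ∃ y : (ModuleCat.extendScalars (algebraMap A B)).obj (P.X i),
        ((ModuleCat.extendScalars (algebraMap A B)).map (P.d i j)).hom y = x := h
  intro z
  constructor
  · intro hz
    have h1 : ((ModuleCat.extendScalars (algebraMap A B)).map (P.d j k)).hom
        ((extendScalarsEquiv (B := B) (P.X j)).symm z) = 0 := by
      apply (extendScalarsEquiv (B := B) (P.X k)).injective
      have h2 := extendScalarsEquiv_naturality B (P.d j k)
        ((extendScalarsEquiv (B := B) (P.X j)).symm z)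
      rw [LinearEquiv.apply_symm_apply] at h2
      exact (h2.trans hz).trans (map_zero _).symm
    obtain ⟨y, hy⟩ := h' _ h1
    refine ⟨extendScalarsEquiv (B := B) (P.X i) y, ?_⟩
    have h3 := extendScalarsEquiv_naturality B (P.d i j) y
    rw [← h3, hy, LinearEquiv.apply_symm_apply]
  · rintro ⟨y, rfl⟩
    rw [← LinearMap.comp_apply, ← LinearMap.lTensor_comp, ← ModuleCat.hom_comp,
      P.d_comp_d, ModuleCat.hom_zero, LinearMap.lTensor_zero, LinearMap.zero_apply]

end general


section local_

variable {R : Type u} [CommRing R] [IsLocalRing R]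

/-- exactness of `P ⊗ κ` at one spot implies exactness of `P ⊗ N` at that spot, for a complex of
finite free modules over a local ring -/
lemma exactAt_tensorCx_of_exactAt_bcCx (P : DRing.Cx R) (hff : DRing.TermwiseFiniteFree P)
    (j : ℤ) (h : ((bcCx R (IsLocalRing.ResidueField R)).obj P).ExactAt j)
    (N : ModuleCat.{u} R) : (DRing.tensorCx P N).ExactAt j := by
  have hex := exact_lTensor_of_exactAt_bcCx (IsLocalRing.ResidueField R) P (j - 1) j (j + 1)
    (by omega) rfl h
  have := (hff j).1
  have := (hff (j + 1)).1
  have := (hff (j + 1)).2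
  have h2 := Groth.Agent.Helper6.LocalExact3.exact_rTensor_of_exact_lTensor_residueField
    (P.d (j - 1) j).hom (P.d j (j + 1)).hom (by
      rw [← ModuleCat.hom_comp, P.d_comp_d, ModuleCat.hom_zero]) hex N
  rw [exactAt_iff_forall (DRing.tensorCx P N) (j - 1) j (j + 1) (by omega) rfl]
  intro x hx
  rw [tensorCx_d_hom] at hx
  obtain ⟨y, hy⟩ := (h2 x).1 hx
  exact ⟨y, by rw [tensorCx_d_hom]; exact hy⟩

variable [DRing.HasLBaseChange (IsLocalRing.residue R)]

theorem isPerfect_of_fibre_bounded_below (K : Dual.D R) (hK : DRing.IsPseudoCoherent' R K)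
    (a : ℤ)
    (h : ∀ i : ℤ, i < a → Subsingleton (Dual.HD (IsLocalRing.ResidueField R)
      ((DRing.LBaseChange (IsLocalRing.residue R)).obj K) i)) :
    DRing.IsPerfect R K := by
  obtain ⟨E, b, hv, hff, ⟨e⟩⟩ := hK
  have hEp : ∀ i, Module.Projective R (E.X i) := fun i => by
    have := (hff i).2
    infer_instance
  have hEk : E.IsKProjective := isKProjective_of_vanishesAbove E b hv hEp
  have hflat : DRing.TermwiseFlat E := fun i => by
    have := hEp i
    infer_instance
  -- exactness of the fibre
  have hfib : ∀ i : ℤ, i < a →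
      ((bcCx R (IsLocalRing.ResidueField R)).obj E).ExactAt i := by
    intro i hi
    have h1 := h i hi
    have h2 : IsZero ((DerivedCategory.homologyFunctor
        (ModuleCat.{u} (IsLocalRing.ResidueField R)) i).obj
        ((DRing.LBaseChange (IsLocalRing.residue R)).obj K)) :=
      ModuleCat.isZero_of_subsingleton _
    apply exactAt_of_isZero
    refine h2.of_iso ((DerivedCategory.homologyFunctor _ i).mapIso ?_)
    exact (lbcIso (IsLocalRing.residue R) E).symm ≪≫
      (DRing.LBaseChange (IsLocalRing.residue R)).mapIso e
  have htor : IsTorGE a K :=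
    ⟨E, b, hv, hflat, ⟨e⟩, fun N i hi =>
      exactAt_tensorCx_of_exactAt_bcCx E hff i (hfib i hi) N⟩
  have hle : (DRing.toD E).IsLE b := by
    have := isStrictlyLE_of_vanishesAbove E b hv
    infer_instance
  have hKb : K.IsLE b := TStructure.t.isLE_of_iso e b
  have hKle : K.IsLE (max a b) := TStructure.t.isLE_of_le K b _ (le_max_right _ _)
  rw [isPerfect_iff_pc_and_torDim]
  exact ⟨⟨E, b, hv, hff, ⟨e⟩⟩, a, max a b,
    hasTorAmplitudeIn_of_isTorGE (le_max_left _ _) htor⟩

end local_

end Groth.Agent.Helper6.LBCFibre
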