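import Mathlib
import Groth.Agent.Helper6.LBCFibre
import Groth.Agent.Helper3.DRingBC2
import Groth.Agent.Helper3.DRingTor4

set_option autoImplicit false

/-!
# Perfectness and tor-amplitude from the fibres over all maximal ideals
-/

namespace Groth.Agent.Helper6.LBCFibreGlobal
open CategoryTheory Limits DerivedCategory Groth.Agent.Helper6.LBCCompute TensorProduct
open Groth.Agent.Helper3.DRingLib Groth.Agent.Helper6.LBCFibre

attribute [local instance] HasDerivedCategory.standard

universe u

section transfer

variable {R : Type u} [CommRing R]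

lemma exactAt_of_iso {X Y : DRing.Cx R} (e : X ≅ Y) (i : ℤ) (h : X.ExactAt i) : Y.ExactAt i := by
  rw [HomologicalComplex.exactAt_iff_isZero_homology] at h ⊢
  exact h.of_iso ((HomologicalComplex.homologyFunctor _ _ i).mapIso e).symm

/-- extension of scalars along equal ring maps -/
noncomputable def bcCxFCongr {T : Type u} [CommRing T] {φ ψ : R →+* T} (h : φ = ψ)
    (X : DRing.Cx R) : (bcCxF φ).obj X ≅ (bcCxF ψ).obj X := by
  subst h
  exact Iso.refl _

/-- extension of scalars along a composite -/
noncomputable def bcCxFComp {S T : Type u} [CommRing S] [CommRing T] (f : R →+* S) (g : S →+* T)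
    (X : DRing.Cx R) : (bcCxF (g.comp f)).obj X ≅ (bcCxF g).obj ((bcCxF f).obj X) :=
  (NatIso.mapHomologicalComplex (ModuleCat.extendScalarsComp f g)
    (ComplexShape.up ℤ)).app X

end transfer

section family

variable (R : Type u) [CommRing R]

/-- the localizations at the maximal ideals -/
abbrev Loc (j : {m : Ideal R // m.IsMaximal}) : Type u :=
  @Localization.AtPrime R _ j.1 j.2.isPrime

instance (j : {m : Ideal R // m.IsMaximal}) : Module.Flat R (Loc R j) :=
  haveI := j.2.isPrime
  inferInstanceAs (Module.Flat R (Localization.AtPrime j.1))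

lemma jointlyFaithful_loc : JointlyFaithful R (Loc R) := by
  intro M _ _ h
  refine Module.subsingleton_of_localization_maximal
    (fun P _ => Localization.AtPrime P ⊗[R] M)
    (fun P _ => TensorProduct.mk R (Localization.AtPrime P) M 1) ?_
  intro P hP
  exact h ⟨P, hP⟩

end family


section main

variable {R : Type u} [CommRing R]

instance flat_quot_residueField (m : Ideal R) [m.IsMaximal] :
    Module.Flat (R ⧸ m) m.ResidueField :=
  Module.Flat.of_linearEquiv (LinearEquiv.ofBijective (Algebra.linearMap (R ⧸ m) m.ResidueField)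
    (Ideal.bijective_algebraMap_quotient_residueField m)).symm

/-- from exactness of the fibre over `R ⧸ m` to exactness of the fibre of the localization -/
lemma exactAt_fibre_loc (m : Ideal R) [hm : m.IsMaximal] (E : DRing.Cx R) (i : ℤ)
    (h : ((bcCxF (Ideal.Quotient.mk m)).obj E).ExactAt i) :
    ((bcCx (Localization.AtPrime m) (IsLocalRing.ResidueField (Localization.AtPrime m))).obj
      ((bcCx R (Localization.AtPrime m)).obj E)).ExactAt i := by
  have h1 : ((bcCx (R ⧸ m) m.ResidueField).obj ((bcCxF (Ideal.Quotient.mk m)).obj E)).ExactAt i := by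
    rw [bcCx_exactAt_iff]
    rw [HomologicalComplex.exactAt_iff_isZero_homology] at h
    have := ModuleCat.subsingleton_of_isZero h
    infer_instance
  have heq : (algebraMap (Localization.AtPrime m) m.ResidueField).comp
      (algebraMap R (Localization.AtPrime m)) =
      (algebraMap (R ⧸ m) m.ResidueField).comp (Ideal.Quotient.mk m) := by
    rw [← IsScalarTower.algebraMap_eq R (Localization.AtPrime m) m.ResidueField]
    exact IsScalarTower.algebraMap_eq R (R ⧸ m) m.ResidueField
  have e := (bcCxFComp (Ideal.Quotient.mk m) (algebraMap (R ⧸ m) m.ResidueField) E).symm ≪≫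
    (bcCxFCongr heq E).symm ≪≫
    bcCxFComp (algebraMap R (Localization.AtPrime m))
      (algebraMap (Localization.AtPrime m) m.ResidueField) E
  exact exactAt_of_iso e i h1

/-- the key local-to-global statement -/
theorem hasTorAmplitudeIn_of_fibres (E : DRing.Cx R) (b₀ : ℤ) (hv : DRing.VanishesAbove E b₀)
    (hff : DRing.TermwiseFiniteFree E) (a b : ℤ)
    (h : ∀ (m : Ideal R), m.IsMaximal → ∀ i : ℤ, (i < a ∨ b < i) →
      ((bcCxF (Ideal.Quotient.mk m)).obj E).ExactAt i) :
    DRing.HasTorAmplitudeIn R a b (DRing.toD E) := by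
  apply hasTorAmplitudeIn_of_forall_bcCx (jointlyFaithful_loc R) E a b
  rintro ⟨m, hm⟩
  haveI := hm
  let S := Localization.AtPrime m
  let P : DRing.Cx S := (bcCx R S).obj E
  have hPff : DRing.TermwiseFiniteFree P := bcCx_termwiseFiniteFree S E hff
  have hPv : DRing.VanishesAbove P b₀ := bcCx_vanishesAbove S E b₀ hv
  have hPflat : DRing.TermwiseFlat P := fun i => by
    have := (hPff i).2
    infer_instance
  have hex : ∀ (N : ModuleCat.{u} S) (i : ℤ), (i < a ∨ b < i) →
      (DRing.tensorCx P N).ExactAt i := fun N i hi =>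
    exactAt_tensorCx_of_exactAt_bcCx P hPff i (exactAt_fibre_loc m E i (h m hm i hi)) N
  show DRing.HasTorAmplitudeIn S a b (DRing.toD P)
  rw [hasTorAmplitudeIn_iff']
  constructor
  · have : P.IsLE b := by
      rw [CochainComplex.isLE_iff]
      intro i hi
      exact exactAt_of_exactAt_tensorCx_unit P i (hex _ i (Or.inr hi))
    infer_instance
  · exact ⟨P, b₀, hPv, hPflat, ⟨Iso.refl _⟩, fun N i hi => hex N i (Or.inl hi)⟩

variable [∀ m : Ideal R, DRing.HasLBaseChange (Ideal.Quotient.mk m)]

theorem isPerfect_of_fibres_vanishing (K : Dual.D R) (hK : DRing.IsPseudoCoherent' R K)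
    (a b : ℤ)
    (h : ∀ (m : Ideal R), m.IsMaximal → ∀ i : ℤ, (i < a ∨ b < i) →
      Subsingleton (Dual.HD (R ⧸ m) ((DRing.LBaseChange (Ideal.Quotient.mk m)).obj K) i)) :
    DRing.IsPerfect R K ∧ DRing.HasTorAmplitudeIn R a b K := by
  obtain ⟨E, b₀, hv, hff, ⟨e⟩⟩ := hK
  have hEp : ∀ i, Module.Projective R (E.X i) := fun i => by
    have := (hff i).2
    infer_instance
  have hEk : E.IsKProjective := isKProjective_of_vanishesAbove E b₀ hv hEp
  have hfib : ∀ (m : Ideal R), m.IsMaximal → ∀ i : ℤ, (i < a ∨ b < i) →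
      ((bcCxF (Ideal.Quotient.mk m)).obj E).ExactAt i := by
    intro m hm i hi
    have h1 := h m hm i hi
    have h2 : IsZero ((DerivedCategory.homologyFunctor (ModuleCat.{u} (R ⧸ m)) i).obj
        ((DRing.LBaseChange (Ideal.Quotient.mk m)).obj K)) :=
      ModuleCat.isZero_of_subsingleton _
    apply exactAt_of_isZero
    refine h2.of_iso ((DerivedCategory.homologyFunctor _ i).mapIso ?_)
    exact (lbcIso (Ideal.Quotient.mk m) E).symm ≪≫
      (DRing.LBaseChange (Ideal.Quotient.mk m)).mapIso e
  have ht : DRing.HasTorAmplitudeIn R a b K :=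
    hasTorAmplitudeIn_of_iso e a b (hasTorAmplitudeIn_of_fibres E b₀ hv hff a b hfib)
  refine ⟨?_, ht⟩
  rw [isPerfect_iff_pc_and_torDim]
  exact ⟨⟨E, b₀, hv, hff, ⟨e⟩⟩, a, b, ht⟩

end main

end Groth.Agent.Helper6.LBCFibreGlobal
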