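import Mathlib
import Groth.Agent.Helper6.LBCFibreGlobal
import Groth.Agent.Helper3.DRingTor2

set_option autoImplicit false

/-!
# Tor-amplitude from the derived base change to `R ⧸ I` with `I` in the Jacobson radical
-/

namespace Groth.Agent.Helper6.LBCJac
open CategoryTheory Limits DerivedCategory Groth.Agent.Helper6.LBCCompute TensorProduct
open Groth.Agent.Helper3.DRingLib Groth.Agent.Helper6.LBCFibre Groth.Agent.Helper6.LBCFibreGlobal

attribute [local instance] HasDerivedCategory.standard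

universe u

section general

variable {A : Type u} (B : Type u) [CommRing A] [CommRing B] [Algebra A B]

lemma exactAt_bcCx_of_exact_lTensor (P : DRing.Cx A) (i j k : ℤ) (hij : i + 1 = j)
    (hjk : j + 1 = k)
    (h : Function.Exact ((P.d i j).hom.lTensor B) ((P.d j k).hom.lTensor B)) :
    ((bcCx A B).obj P).ExactAt j := by
  rw [exactAt_iff_forall ((bcCx A B).obj P) i j k hij hjk]
  show ∀ x : (ModuleCat.extendScalars (algebraMap A B)).obj (P.X j),
      ((ModuleCat.extendScalars (algebraMap A B)).map (P.d j k)).hom x = 0 →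
      ∃ y : (ModuleCat.extendScalars (algebraMap A B)).obj (P.X i),
        ((ModuleCat.extendScalars (algebraMap A B)).map (P.d i j)).hom y = x
  intro x hx
  have h1 : ((P.d j k).hom.lTensor B) (extendScalarsEquiv (B := B) (P.X j) x) = 0 := by
    rw [← extendScalarsEquiv_naturality B (P.d j k) x, hx, map_zero]
  obtain ⟨y, hy⟩ := (h _).1 h1
  refine ⟨(extendScalarsEquiv (B := B) (P.X i)).symm y, ?_⟩
  apply (extendScalarsEquiv (B := B) (P.X j)).injective
  rw [extendScalarsEquiv_naturality B (P.d i j), LinearEquiv.apply_symm_apply, hy]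

lemma exact_lTensor_of_exactAt_tensorCx (P : DRing.Cx A) (i j k : ℤ) (hij : i + 1 = j)
    (hjk : j + 1 = k) (h : (DRing.tensorCx P (ModuleCat.of A B)).ExactAt j) :
    Function.Exact ((P.d i j).hom.lTensor B) ((P.d j k).hom.lTensor B) := by
  rw [exactAt_iff_forall _ i j k hij hjk] at h
  have h' : ∀ t : (P.X j) ⊗[A] B, ((P.d j k).hom.rTensor B) t = 0 →
      ∃ y : (P.X i) ⊗[A] B, ((P.d i j).hom.rTensor B) y = t := h
  have hc : ∀ {M M' : Type u} [AddCommGroup M] [Module A M] [AddCommGroup M'] [Module A M']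
      (f : M →ₗ[A] M') (t : B ⊗[A] M),
      (f.rTensor B) (TensorProduct.comm A B M t) = TensorProduct.comm A B M' ((f.lTensor B) t) := by
    intro M M' _ _ _ _ f t
    induction t using TensorProduct.induction_on with
    | zero => simp
    | tmul b m => simp
    | add x y hx hy => simp only [map_add, hx, hy]
  intro z
  constructor
  · intro hz
    have h1 : ((P.d j k).hom.rTensor B) (TensorProduct.comm A B _ z) = 0 := by
      rw [hc, hz, map_zero]
    obtain ⟨y, hy⟩ := h' _ h1
    refine ⟨(TensorProduct.comm A B _).symm y, ?_⟩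
    apply (TensorProduct.comm A B _).injective
    rw [← hc, LinearEquiv.apply_symm_apply, hy]
  · rintro ⟨y, rfl⟩
    rw [← LinearMap.comp_apply, ← LinearMap.lTensor_comp, ← ModuleCat.hom_comp,
      P.d_comp_d, ModuleCat.hom_zero, LinearMap.lTensor_zero, LinearMap.zero_apply]

lemma exactAt_bcCx_of_exactAt_tensorCx (P : DRing.Cx A) (j : ℤ)
    (h : (DRing.tensorCx P (ModuleCat.of A B)).ExactAt j) : ((bcCx A B).obj P).ExactAt j :=
  exactAt_bcCx_of_exact_lTensor B P (j - 1) j (j + 1) (by omega) rfl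
    (exact_lTensor_of_exactAt_tensorCx B P (j - 1) j (j + 1) (by omega) rfl h)

end general


section main

variable {R : Type u} [CommRing R] (I : Ideal R) [DRing.HasLBaseChange (Ideal.Quotient.mk I)]

theorem hasTorAmplitudeIn_of_LBaseChange_quotient (hI : I ≤ Ideal.jacobson (⊥ : Ideal R))
    (P : Dual.D R) (hP : DRing.IsPseudoCoherent' R P) (a b : ℤ)
    (h : DRing.HasTorAmplitudeIn (R ⧸ I) a b ((DRing.LBaseChange (Ideal.Quotient.mk I)).obj P)) :
    DRing.HasTorAmplitudeIn R a b P := by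
  obtain ⟨E, b₀, hv, hff, ⟨e⟩⟩ := hP
  have hEp : ∀ i, Module.Projective R (E.X i) := fun i => by
    have := (hff i).2
    infer_instance
  have hEk : E.IsKProjective := isKProjective_of_vanishesAbove E b₀ hv hEp
  let E' : DRing.Cx (R ⧸ I) := (bcCx R (R ⧸ I)).obj E
  have e' : DRing.toD E' ≅ (DRing.LBaseChange (Ideal.Quotient.mk I)).obj P :=
    (lbcIso (Ideal.Quotient.mk I) E).symm ≪≫ (DRing.LBaseChange (Ideal.Quotient.mk I)).mapIso e
  obtain ⟨F, hFv, hFf, ⟨eF⟩⟩ := h
  have hE'v : DRing.VanishesAbove E' b₀ := bcCx_vanishesAbove (R ⧸ I) E b₀ hv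
  have hE'ff : DRing.TermwiseFiniteFree E' := bcCx_termwiseFiniteFree (R ⧸ I) E hff
  have hE'flat : DRing.TermwiseFlat E' := fun i => by
    have := (hE'ff i).2
    infer_instance
  have key : ∀ (N : ModuleCat.{u} (R ⧸ I)) (i : ℤ), (i < a ∨ b < i) →
      (DRing.tensorCx E' N).ExactAt i := by
    intro N i hi
    rw [exactAt_tensorCx_iff_of_iso b₀ b hE'v (fun i hi => hFv i (Or.inr hi)) hE'flat hFf
      (e' ≪≫ eF.symm) N i]
    exact exactAt_of_isZero_X _ i (tensorCx_isZero_X F N i (hFv i hi))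
  apply hasTorAmplitudeIn_of_iso e a b
  apply hasTorAmplitudeIn_of_fibres E b₀ hv hff a b
  intro m hm i hi
  have hIm : I ≤ m := hI.trans (sInf_le ⟨bot_le, hm⟩)
  letI : Algebra (R ⧸ I) (R ⧸ m) := (Ideal.Quotient.factor hIm).toAlgebra
  have h1 := key (ModuleCat.of (R ⧸ I) (R ⧸ m)) i hi
  have h2 : ((bcCx (R ⧸ I) (R ⧸ m)).obj E').ExactAt i :=
    exactAt_bcCx_of_exactAt_tensorCx (R ⧸ m) E' i h1
  have e2 := (bcCxFCongr (Ideal.Quotient.factor_comp_mk hIm).symm E) ≪≫
    bcCxFComp (Ideal.Quotient.mk I) (Ideal.Quotient.factor hIm) E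
  exact exactAt_of_iso e2.symm i h2

end main

end Groth.Agent.Helper6.LBCJac
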