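import Mathlib
import Groth.Agent.Helper6.LBCJac
import Groth.Agent.Helper3.DRingResP

set_option autoImplicit false

/-!
# Derived base change of bounded above complexes of flat modules
-/

namespace Groth.Agent.Helper6.LBCFlatCx
open CategoryTheory Limits DerivedCategory Groth.Agent.Helper6.LBCCompute TensorProduct
open Groth.Agent.Helper3.DRingLib Groth.Agent.Helper6.LBCJac

attribute [local instance] HasDerivedCategory.standard

universe u

variable {A B : Type u} [CommRing A] [CommRing B] (φ : A →+* B)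

/-- a quasi-isomorphism between bounded above complexes of flat modules stays a
quasi-isomorphism after extension of scalars -/
theorem quasiIso_bcCxF_map {P Q : DRing.Cx A} (α : P ⟶ Q) (b b' : ℤ)
    (hP : DRing.VanishesAbove P b) (hQ : DRing.VanishesAbove Q b')
    (fP : DRing.TermwiseFlat P) (fQ : DRing.TermwiseFlat Q) (hα : QuasiIso α) :
    QuasiIso ((bcCxF φ).map α) := by
  letI : Algebra A B := φ.toAlgebra
  have hc : ∀ i, (CochainComplex.mappingCone α).ExactAt i := (quasiIso_iff_acyclic_cone α).mp hα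
  have hv : DRing.VanishesAbove (CochainComplex.mappingCone α) (max b b') :=
    cone_vanishesAbove α _ (fun i hi => hP i (by omega)) (fun i hi => hQ i (by omega))
  have hf : DRing.TermwiseFlat (CochainComplex.mappingCone α) := cone_termwiseFlat α fP fQ
  have h1 := exactAt_tensorCx_of_acyclic (CochainComplex.mappingCone α) _ hv hf hc
    (ModuleCat.of A B)
  rw [quasiIso_iff_acyclic_cone]
  intro i
  have h2 : ((bcCx A B).obj (CochainComplex.mappingCone α)).ExactAt i :=
    exactAt_bcCx_of_exactAt_tensorCx B _ i (h1 i)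
  have e := CochainComplex.mappingCone.mapHomologicalComplexIso α
    (ModuleCat.extendScalars.{u, u, u} φ)
  exact Groth.Agent.Helper6.LBCFibreGlobal.exactAt_of_iso e i h2

variable [DRing.HasLBaseChange φ]

/-- `LBaseChange (toD E) ≅ toD (B ⊗ E)` for a bounded above complex of flat modules -/
theorem nonempty_lbcIso_of_flat (E : DRing.Cx A) (b : ℤ) (hv : DRing.VanishesAbove E b)
    (hf : DRing.TermwiseFlat E) :
    Nonempty ((DRing.LBaseChange φ).obj (DRing.toD E) ≅ DRing.toD ((bcCxF φ).obj E)) := by
  have hb : (DRing.toD E).IsLE b := by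
    have := isStrictlyLE_of_vanishesAbove E b hv
    infer_instance
  obtain ⟨P, α, hPv, hPp, hα⟩ := exists_projective_resolution E b hb
  have hPk : P.IsKProjective := isKProjective_of_vanishesAbove P b hPv hPp
  have hPf : DRing.TermwiseFlat P := fun i => by
    have := hPp i
    infer_instance
  have h1 : IsIso (Q.map α) := (DerivedCategory.isIso_Q_map_iff_quasiIso _ _).mpr hα
  have h2 : IsIso (Q.map ((bcCxF φ).map α)) :=
    (DerivedCategory.isIso_Q_map_iff_quasiIso _ _).mpr
      (quasiIso_bcCxF_map φ α b b hPv hv hPf hf hα)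
  exact ⟨(DRing.LBaseChange φ).mapIso (asIso (Q.map α)).symm ≪≫ lbcIso φ P ≪≫
    asIso (Q.map ((bcCxF φ).map α))⟩

theorem hasTorAmplitudeIn_LBaseChange (K : Dual.D A) (a b : ℤ)
    (hK : DRing.HasTorAmplitudeIn A a b K) :
    DRing.HasTorAmplitudeIn B a b ((DRing.LBaseChange φ).obj K) := by
  obtain ⟨E, hv, hf, ⟨e⟩⟩ := hK
  obtain ⟨i⟩ := nonempty_lbcIso_of_flat φ E b (fun i hi => hv i (Or.inr hi)) hf
  letI : Algebra A B := φ.toAlgebra
  exact ⟨(bcCx A B).obj E, bcCx_vanishesOutside B E a b hv, bcCx_termwiseFlat B E hf,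
    ⟨i.symm ≪≫ (DRing.LBaseChange φ).mapIso e⟩⟩

end Groth.Agent.Helper6.LBCFlatCx
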