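import Mathlib

/-!
# Exactness of `N ⊗ X₁ → N ⊗ X₂ → N ⊗ X₃` for finite length `N` from the residue field
-/

set_option autoImplicit false
universe u
open TensorProduct

namespace Groth.Agent.Helper6.FinLenTor

variable {R : Type u} [CommRing R] {X₁ X₂ X₃ : Type u} [AddCommGroup X₁] [Module R X₁]
  [AddCommGroup X₂] [Module R X₂] [AddCommGroup X₃] [Module R X₃]
  (d₁ : X₁ →ₗ[R] X₂) (d₂ : X₂ →ₗ[R] X₃)

/-- exactness of `N ⊗ X₁ → N ⊗ X₂ → N ⊗ X₃` at the middle -/
def E (N : Type u) [AddCommGroup N] [Module R N] : Prop :=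
  ∀ z : N ⊗[R] X₂, d₂.lTensor N z = 0 → ∃ w : N ⊗[R] X₁, d₁.lTensor N w = z

variable {d₁ d₂}

lemma E_of_subsingleton (N : Type u) [AddCommGroup N] [Module R N] [Subsingleton N] :
    E d₁ d₂ N := by
  intro z _
  refine ⟨0, ?_⟩
  rw [map_zero]
  have : ∀ z : N ⊗[R] X₂, 0 = z := by
    intro z
    induction z using TensorProduct.induction_on with
    | zero => rfl
    | tmul n x => rw [Subsingleton.elim n 0, TensorProduct.zero_tmul]
    | add a b ha hb => rw [← ha, ← hb, add_zero]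
  exact this z

lemma E_of_equiv {N N' : Type u} [AddCommGroup N] [Module R N] [AddCommGroup N'] [Module R N']
    (e : N ≃ₗ[R] N') (h : E d₁ d₂ N') : E d₁ d₂ N := by
  intro z hz
  obtain ⟨w, hw⟩ := h (e.toLinearMap.rTensor X₂ z) (by
    rw [← LinearMap.comp_apply, LinearMap.lTensor_comp_rTensor, ← LinearMap.rTensor_comp_lTensor,
      LinearMap.comp_apply, hz, map_zero])
  refine ⟨e.symm.toLinearMap.rTensor X₁ w, ?_⟩
  rw [← LinearMap.comp_apply, LinearMap.lTensor_comp_rTensor, ← LinearMap.rTensor_comp_lTensor,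
    LinearMap.comp_apply, hw, ← LinearMap.comp_apply, ← LinearMap.rTensor_comp]
  have : e.symm.toLinearMap ∘ₗ e.toLinearMap = LinearMap.id := by
    ext x; simp
  rw [this, LinearMap.rTensor_id, LinearMap.id_apply]

lemma E_of_exact (hd : d₂ ∘ₗ d₁ = 0) [Module.Flat R X₃] {N : Type u} [AddCommGroup N] [Module R N]
    (N' : Submodule R N) (h1 : E d₁ d₂ N') (h2 : E d₁ d₂ (N ⧸ N')) : E d₁ d₂ N := by
  intro z hz
  have hcomm : ∀ {A B : Type u} [AddCommGroup A] [Module R A] [AddCommGroup B] [Module R B]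
      (f : A →ₗ[R] B) {Y Y' : Type u} [AddCommGroup Y] [Module R Y] [AddCommGroup Y'] [Module R Y']
      (g : Y →ₗ[R] Y') (t : A ⊗[R] Y),
      g.lTensor B (f.rTensor Y t) = f.rTensor Y' (g.lTensor A t) := by
    intro A B _ _ _ _ f Y Y' _ _ _ _ g t
    rw [← LinearMap.comp_apply, ← LinearMap.comp_apply, LinearMap.lTensor_comp_rTensor,
      LinearMap.rTensor_comp_lTensor]
  obtain ⟨w'', hw''⟩ := h2 (N'.mkQ.rTensor X₂ z) (by rw [hcomm, hz, map_zero])
  obtain ⟨w, rfl⟩ := LinearMap.rTensor_surjective X₁ N'.mkQ_surjective w''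
  have hex : Function.Exact (N'.subtype.rTensor X₂) (N'.mkQ.rTensor X₂) :=
    rTensor_exact X₂ (LinearMap.exact_subtype_mkQ N') N'.mkQ_surjective
  have h3 : N'.mkQ.rTensor X₂ (z - d₁.lTensor N w) = 0 := by
    rw [map_sub, ← hcomm, hw'', sub_self]
  obtain ⟨y', hy'⟩ := (hex _).mp h3
  have hinj : Function.Injective (N'.subtype.rTensor X₃) :=
    Module.Flat.rTensor_preserves_injective_linearMap (M := X₃) N'.subtype N'.injective_subtype
  have h4 : d₂.lTensor N' y' = 0 := by
    apply hinj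
    rw [← hcomm, hy', map_sub, hz, map_zero, ← LinearMap.comp_apply, ← LinearMap.lTensor_comp, hd,
      LinearMap.lTensor_zero, LinearMap.zero_apply, sub_zero]
  obtain ⟨v', rfl⟩ := h1 y' h4
  refine ⟨w + N'.subtype.rTensor X₁ v', ?_⟩
  rw [map_add, hcomm, hy']
  abel

theorem E_of_isFiniteLength (hd : d₂ ∘ₗ d₁ = 0) [IsLocalRing R] [Module.Flat R X₃]
    (hk : E d₁ d₂ (R ⧸ IsLocalRing.maximalIdeal R))
    (N : Type u) [AddCommGroup N] [Module R N] (hN : IsFiniteLength R N) : E d₁ d₂ N := by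
  induction hN with
  | of_subsingleton => exact E_of_subsingleton _
  | @of_simple_quotient M _ _ N' hs _ ih =>
    obtain ⟨I, hI, ⟨e⟩⟩ := isSimpleModule_iff_quot_maximal.mp hs
    obtain rfl := IsLocalRing.eq_maximalIdeal hI
    exact E_of_exact hd N' ih (E_of_equiv e hk)

/-- right-handed version -/
theorem exact_rTensor_of_isFiniteLength (hd : d₂ ∘ₗ d₁ = 0) [IsLocalRing R] [Module.Flat R X₃]
    (hk : Function.Exact (d₁.lTensor (IsLocalRing.ResidueField R))
      (d₂.lTensor (IsLocalRing.ResidueField R)))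
    (N : Type u) [AddCommGroup N] [Module R N] (hN : IsFiniteLength R N)
    (z : X₂ ⊗[R] N) (hz : d₂.rTensor N z = 0) : ∃ w : X₁ ⊗[R] N, d₁.rTensor N w = z := by
  have hc : ∀ {X Y : Type u} [AddCommGroup X] [Module R X] [AddCommGroup Y] [Module R Y]
      (f : X →ₗ[R] Y) (N : Type u) [AddCommGroup N] [Module R N] (t : N ⊗[R] X),
      TensorProduct.comm R N Y (f.lTensor N t) = f.rTensor N (TensorProduct.comm R N X t) := by
    intro X Y _ _ _ _ f N _ _ t
    induction t using TensorProduct.induction_on with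
    | zero => simp
    | tmul a b => simp
    | add a b ha hb => simp only [map_add, ha, hb]
  have hE : E d₁ d₂ N := by
    apply E_of_isFiniteLength hd _ N hN
    intro z' hz'
    exact (hk z').mp hz'
  obtain ⟨w, hw⟩ := hE ((TensorProduct.comm R N X₂).symm z) (by
    apply (TensorProduct.comm R N X₃).injective
    rw [hc, LinearEquiv.apply_symm_apply, hz, map_zero])
  refine ⟨TensorProduct.comm R N X₁ w, ?_⟩
  rw [← hc, hw, LinearEquiv.apply_symm_apply]

end Groth.Agent.Helper6.FinLenTor
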