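import Mathlib
import Groth.Agent.Helper6.FinLenTor

/-!
# Exactness of `N ⊗ X•` for modules killed by a power of an ideal
-/

set_option autoImplicit false
universe u
open TensorProduct

namespace Groth.Agent.Helper6.FinLenTor

variable {R : Type u} [CommRing R] {X₁ X₂ X₃ : Type u} [AddCommGroup X₁] [Module R X₁]
  [AddCommGroup X₂] [Module R X₂] [AddCommGroup X₃] [Module R X₃]
  {d₁ : X₁ →ₗ[R] X₂} {d₂ : X₂ →ₗ[R] X₃}

theorem E_of_pow_smul_eq_bot (hd : d₂ ∘ₗ d₁ = 0) [Module.Flat R X₃] (I : Ideal R)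
    (hI : ∀ (N : Type u) [AddCommGroup N] [Module R N], (∀ a ∈ I, ∀ n : N, a • n = 0) →
      E d₁ d₂ N) :
    ∀ (k : ℕ) (N : Type u) [AddCommGroup N] [Module R N],
      I ^ k • (⊤ : Submodule R N) = ⊥ → E d₁ d₂ N := by
  intro k
  induction k with
  | zero =>
    intro N _ _ h
    rw [pow_zero, Ideal.one_eq_top, Submodule.top_smul] at h
    haveI : Subsingleton N := by
      refine ⟨fun x y => ?_⟩
      have hx : x ∈ (⊤ : Submodule R N) := Submodule.mem_top
      have hy : y ∈ (⊤ : Submodule R N) := Submodule.mem_top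
      rw [h, Submodule.mem_bot] at hx hy
      rw [hx, hy]
    exact E_of_subsingleton N
  | succ k ih =>
    intro N _ _ h
    let N' : Submodule R N := I • ⊤
    have h1 : I ^ k • (⊤ : Submodule R N') = ⊥ := by
      rw [eq_bot_iff]
      rw [Submodule.smul_le]
      intro r hr n _
      rw [Submodule.mem_bot]
      apply Subtype.ext
      have h2 : r • n.1 ∈ I ^ k • (I • (⊤ : Submodule R N)) :=
        Submodule.smul_mem_smul hr n.2
      rw [← Submodule.mul_smul, ← pow_succ, h, Submodule.mem_bot] at h2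
      exact h2
    have h2 : ∀ a ∈ I, ∀ q : N ⧸ N', a • q = 0 := by
      intro a ha q
      obtain ⟨n, rfl⟩ := Submodule.Quotient.mk_surjective N' q
      rw [← Submodule.Quotient.mk_smul, Submodule.Quotient.mk_eq_zero]
      exact Submodule.smul_mem_smul ha Submodule.mem_top
    exact E_of_exact hd N' (ih N' h1) (hI (N ⧸ N') h2)

/-- right-handed version -/
theorem exact_rTensor_of_pow_smul_eq_bot (hd : d₂ ∘ₗ d₁ = 0) [Module.Flat R X₃] (I : Ideal R)
    (hI : ∀ (N : Type u) [AddCommGroup N] [Module R N], (∀ a ∈ I, ∀ n : N, a • n = 0) →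
      ∀ z : X₂ ⊗[R] N, d₂.rTensor N z = 0 → ∃ w : X₁ ⊗[R] N, d₁.rTensor N w = z)
    (k : ℕ) (N : Type u) [AddCommGroup N] [Module R N] (h : I ^ k • (⊤ : Submodule R N) = ⊥)
    (z : X₂ ⊗[R] N) (hz : d₂.rTensor N z = 0) : ∃ w : X₁ ⊗[R] N, d₁.rTensor N w = z := by
  have hc : ∀ {X Y : Type u} [AddCommGroup X] [Module R X] [AddCommGroup Y] [Module R Y]
      (f : X →ₗ[R] Y) (N : Type u) [AddCommGroup N] [Module R N] (t : N ⊗[R] X),
      TensorProduct.comm R N Y (f.lTensor N t) = f.rTensor N (TensorProduct.comm R N X t) := by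
    intro X Y _ _ _ _ f N _ _ t
    induction t using TensorProduct.induction_on with
    | zero => simp
    | tmul a b => simp
    | add a b ha hb => simp only [map_add, ha, hb]
  have hE : E d₁ d₂ N := by
    refine E_of_pow_smul_eq_bot hd I ?_ k N h
    intro N' _ _ hN' z' hz'
    obtain ⟨w, hw⟩ := hI N' hN' (TensorProduct.comm R N' X₂ z') (by rw [← hc, hz', map_zero])
    refine ⟨(TensorProduct.comm R N' X₁).symm w, ?_⟩
    apply (TensorProduct.comm R N' X₂).injective
    rw [hc, LinearEquiv.apply_symm_apply, hw]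
  obtain ⟨w, hw⟩ := hE ((TensorProduct.comm R N X₂).symm z) (by
    apply (TensorProduct.comm R N X₃).injective
    rw [hc, LinearEquiv.apply_symm_apply, hz, map_zero])
  refine ⟨TensorProduct.comm R N X₁ w, ?_⟩
  rw [← hc, hw, LinearEquiv.apply_symm_apply]

end Groth.Agent.Helper6.FinLenTor
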