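import Mathlib
import Groth.Prelude.Def_DRing4
import Groth.Agent.Helper6.NilpTor
import Groth.Agent.Helper3.DRingTor1

/-!
# Modules killed by the kernel of a surjective ring map, and exactness of termwise tensor products
-/

set_option autoImplicit false
universe u
open CategoryTheory CategoryTheory.Limits MonoidalCategory TensorProduct

namespace Groth.Agent.Helper6.KilledMod

open Groth.Agent.Helper3.DRingLib

variable {A B : Type u} [CommRing A] [CommRing B] (φ : A →+* B) (hφ : Function.Surjective φ)

section structure_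

variable (N : Type u) [AddCommGroup N] [Module A N]
  (hN : ∀ a ∈ RingHom.ker φ, ∀ n : N, a • n = 0)

/-- the `B`-module structure on a module killed by `ker φ` -/
@[reducible] noncomputable def bMod : Module B N :=
  letI : Module (A ⧸ RingHom.ker φ) N :=
    Module.IsTorsionBySet.module (fun n a => hN a.1 a.2 n)
  Module.compHom N ((RingHom.quotientKerEquivOfSurjective hφ).symm : B →+* A ⧸ RingHom.ker φ)

lemma bMod_smul (a : A) (n : N) :
    letI := bMod φ hφ N hN
    φ a • n = a • n := by
  letI : Module (A ⧸ RingHom.ker φ) N :=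
    Module.IsTorsionBySet.module (fun n a => hN a.1 a.2 n)
  show ((RingHom.quotientKerEquivOfSurjective hφ).symm (φ a)) • n = a • n
  rw [RingHom.quotientKerEquivOfSurjective_symm_apply]
  rfl

/-- the corresponding object of `ModuleCat B` -/
noncomputable def bar : ModuleCat.{u} B :=
  letI := bMod φ hφ N hN
  ModuleCat.of B N

/-- `N` is the restriction of scalars of `bar` -/
noncomputable def equivRes : N ≃ₗ[A] ((ModuleCat.restrictScalars φ).obj (bar φ hφ N hN)) :=
  letI := bMod φ hφ N hN
  { toFun := fun n => n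
    invFun := fun n => n
    left_inv := fun _ => rfl
    right_inv := fun _ => rfl
    map_add' := fun _ _ => rfl
    map_smul' := fun a n => (bMod_smul φ hφ N hN a n).symm }

end structure_

include hφ in
/-- exactness of `P ⊗ N` for modules killed by a power of `ker φ`, from the case of `B`-modules -/
theorem exactAt_tensorCx_of_pow (P : DRing.Cx A) (fP : DRing.TermwiseFlat P) (i : ℤ)
    (hB : ∀ Nb : ModuleCat.{u} B,
      (DRing.tensorCx P ((ModuleCat.restrictScalars φ).obj Nb)).ExactAt i)
    (k : ℕ) (N : ModuleCat.{u} A) (hk : (RingHom.ker φ) ^ k • (⊤ : Submodule A N) = ⊥) :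
    (DRing.tensorCx P N).ExactAt i := by
  rw [exactAt_iff_forall _ (i - 1) i (i + 1) (by omega) rfl]
  intro z hz
  haveI : Module.Flat A (P.X (i + 1)) := fP (i + 1)
  have hd : (P.d i (i + 1)).hom ∘ₗ (P.d (i - 1) i).hom = 0 :=
    congrArg ModuleCat.Hom.hom (P.d_comp_d (i - 1) i (i + 1))
  refine Groth.Agent.Helper6.FinLenTor.exact_rTensor_of_pow_smul_eq_bot
    (d₁ := (P.d (i - 1) i).hom) (d₂ := (P.d i (i + 1)).hom) hd (RingHom.ker φ) ?_ k N hk z hz
  intro N' _ _ hN' z' hz'
  have h1 := hB (bar φ hφ N' hN')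
  rw [exactAt_iff_forall _ (i - 1) i (i + 1) (by omega) rfl] at h1
  let e := equivRes φ hφ N' hN'
  have hcomm : ∀ {X Y : Type u} [AddCommGroup X] [Module A X] [AddCommGroup Y] [Module A Y]
      (f : X →ₗ[A] Y) (t : X ⊗[A] N'),
      e.toLinearMap.lTensor Y (f.rTensor N' t) =
        f.rTensor _ (e.toLinearMap.lTensor X t) := by
    intro X Y _ _ _ _ f t
    rw [← LinearMap.comp_apply, ← LinearMap.comp_apply, LinearMap.lTensor_comp_rTensor,
      LinearMap.rTensor_comp_lTensor]
  obtain ⟨w, hw⟩ := h1 (e.toLinearMap.lTensor _ z') (by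
    have := hcomm (P.d i (i + 1)).hom z'
    rw [hz', map_zero] at this
    exact this.symm)
  refine ⟨e.symm.toLinearMap.lTensor _ w, ?_⟩
  have hinj : Function.Injective (e.toLinearMap.lTensor (P.X i)) :=
    (LinearEquiv.lTensor (P.X i) e).injective
  apply hinj
  rw [hcomm]
  have h2 : ∀ w' : (P.X (i - 1)) ⊗[A]
      ((ModuleCat.restrictScalars φ).obj (bar φ hφ N' hN')),
      e.toLinearMap.lTensor (P.X (i - 1)) (e.symm.toLinearMap.lTensor _ w') = w' := by
    intro w'
    rw [← LinearMap.comp_apply, ← LinearMap.lTensor_comp]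
    have : e.toLinearMap ∘ₗ e.symm.toLinearMap = LinearMap.id := by
      ext x; simp
    rw [this, LinearMap.lTensor_id, LinearMap.id_apply]
  refine Eq.trans (congrArg _ (h2 w)) ?_
  exact hw

end Groth.Agent.Helper6.KilledMod
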