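import Mathlib
import Groth.Prelude.Def_DRing4
import Groth.Agent.Helper6.KProjQ
import Groth.Agent.Helper3.DRingTor1

/-!
# K-projective complexes isomorphic in the derived category are homotopy equivalent
-/

set_option autoImplicit false
universe u
open CategoryTheory CategoryTheory.Limits MonoidalCategory DerivedCategory

attribute [local instance] HasDerivedCategory.standard

namespace Groth.Agent.Helper6.KProjHtpy

variable {A : Type u} [CommRing A]

/-- K-projective complexes isomorphic in `D(A)` are homotopy equivalent -/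
theorem nonempty_homotopyEquiv {P P' : DRing.Cx A} [P.IsKProjective] [P'.IsKProjective]
    (e : DRing.toD P ≅ DRing.toD P') : Nonempty (HomotopyEquiv P P') := by
  obtain ⟨f, hf⟩ := KProjQ.Q_map_surjective P P' e.hom
  obtain ⟨g, hg⟩ := KProjQ.Q_map_surjective P' P e.inv
  obtain ⟨h1⟩ := KProjQ.homotopy_of_Q_map_eq (f ≫ g) (𝟙 P) (by
    rw [Q.map_comp, hf, hg, e.hom_inv_id, Q.map_id])
  obtain ⟨h2⟩ := KProjQ.homotopy_of_Q_map_eq (g ≫ f) (𝟙 P') (by
    rw [Q.map_comp, hf, hg, e.inv_hom_id, Q.map_id])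
  exact ⟨⟨f, g, h1, h2⟩⟩

/-- exactness of `P ⊗ N` only depends on the homotopy type of `P` -/
theorem exactAt_tensorCx_of_homotopyEquiv {P P' : DRing.Cx A} (e : HomotopyEquiv P P')
    (N : ModuleCat.{u} A) (i : ℤ) (h : (DRing.tensorCx P N).ExactAt i) :
    (DRing.tensorCx P' N).ExactAt i := by
  rw [HomologicalComplex.exactAt_iff_isZero_homology] at h ⊢
  have e' : HomotopyEquiv (DRing.tensorCx P N) (DRing.tensorCx P' N) :=
    (tensorRight N).mapHomotopyEquiv e
  exact h.of_iso (e'.toHomologyIso i).symm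

theorem exactAt_tensorCx_of_iso {P P' : DRing.Cx A} [P.IsKProjective] [P'.IsKProjective]
    (e : DRing.toD P ≅ DRing.toD P') (N : ModuleCat.{u} A) (i : ℤ)
    (h : (DRing.tensorCx P N).ExactAt i) : (DRing.tensorCx P' N).ExactAt i := by
  obtain ⟨e'⟩ := nonempty_homotopyEquiv e
  exact exactAt_tensorCx_of_homotopyEquiv e' N i h

end Groth.Agent.Helper6.KProjHtpy
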