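import Mathlib
import Groth.Agent.Helper6.LBCCompute
import Groth.Agent.Helper3.DRing1
import Groth.Agent.Helper3.DRingCone
import Groth.Agent.Helper3.DRingPC
import Groth.Agent.Helper3.DRingRes
import Groth.Agent.Helper3.DRingResP

set_option autoImplicit false

/-!
# Derived base change preserves `m`-pseudo-coherence
-/

namespace Groth.Agent.Helper6.LBCPC
open CategoryTheory Limits DerivedCategory Groth.Agent.Helper6.LBCCompute Pretriangulated
open Groth.Agent.Helper3.DRingLib

attribute [local instance] HasDerivedCategory.standard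

universe u

variable {A B : Type u} [CommRing A] [CommRing B] (φ : A →+* B) [DRing.HasLBaseChange φ]

omit [DRing.HasLBaseChange φ] in
lemma bcCxF_isLE (P : DRing.Cx A) (n : ℤ) (hv : DRing.VanishesAbove P n) :
    (DRing.toD ((bcCxF φ).obj P)).IsLE n := by
  have : ((bcCxF φ).obj P).IsStrictlyLE n := by
    rw [CochainComplex.isStrictlyLE_iff]
    intro i hi
    exact Functor.map_isZero (ModuleCat.extendScalars.{u, u, u} φ) (hv i hi)
  infer_instance

/-- derived base change is right t-exact -/
lemma isLE_LBaseChange (X : Dual.D A) (n : ℤ) [X.IsLE n] :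
    ((DRing.LBaseChange φ).obj X).IsLE n := by
  obtain ⟨P, hv, hp, ⟨e⟩⟩ := exists_projective_rep X n
  have hkp : P.IsKProjective := isKProjective_of_vanishesAbove P n hv hp
  have h1 := bcCxF_isLE φ P n hv
  exact TStructure.t.isLE_of_iso ((lbcIso φ P).symm ≪≫ (DRing.LBaseChange φ).mapIso e) n

/-- chain level: approximations between bounded above projective complexes are preserved -/
lemma isApprox_bcCxF_map {E P : DRing.Cx A} (a : E ⟶ P) (b : ℤ)
    (hEv : DRing.VanishesAbove E (b + 1)) (hEp : ∀ i, Module.Projective A (E.X i))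
    (hPv : DRing.VanishesAbove P b) (hPp : ∀ i, Module.Projective A (P.X i))
    (m : ℤ) (h : IsApprox m (Q.map a)) :
    IsApprox m (Q.map ((bcCxF φ).map a)) := by
  have hT := DerivedCategory.mappingCone_triangle_distinguished a
  have hC : (Q.obj (CochainComplex.mappingCone a)).IsLE (m - 1) :=
    (isApprox_iff_isLE _ hT m).mp h
  have hkp : (CochainComplex.mappingCone a).IsKProjective :=
    isKProjective_of_vanishesAbove _ b (cone_vanishesAbove a b hEv hPv)
      (cone_termwiseProjective a hEp hPp)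
  have h1 : ((DRing.LBaseChange φ).obj (Q.obj (CochainComplex.mappingCone a))).IsLE (m - 1) :=
    isLE_LBaseChange φ _ (m - 1)
  have h2 : (Q.obj ((bcCxF φ).obj (CochainComplex.mappingCone a))).IsLE (m - 1) :=
    TStructure.t.isLE_of_iso (lbcIso φ (CochainComplex.mappingCone a)) (m - 1)
  have h3 : (Q.obj (CochainComplex.mappingCone ((bcCxF φ).map a))).IsLE (m - 1) :=
    TStructure.t.isLE_of_iso (Q.mapIso (CochainComplex.mappingCone.mapHomologicalComplexIso a
      (ModuleCat.extendScalars.{u, u, u} φ))) (m - 1)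
  have hT' := DerivedCategory.mappingCone_triangle_distinguished ((bcCxF φ).map a)
  exact (isApprox_iff_isLE _ hT' m).mpr h3

theorem isApprox_LBaseChange_map {X K : Dual.D A} (α : X ⟶ K) (a' b' : ℤ) (hX : IsBFF a' b' X)
    (m : ℤ) (h : IsApprox m α) (c : ℤ) [K.IsLE c] :
    IsApprox m ((DRing.LBaseChange φ).map α) := by
  obtain ⟨E, hEv, hEf, ⟨eE⟩⟩ := hX
  -- choose `b` above everything
  let b := max c b'
  have hK : K.IsLE b := TStructure.t.isLE_of_le K c b (le_max_left _ _)
  obtain ⟨P, hPv, hPp, ⟨eP⟩⟩ := exists_projective_rep K b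
  have hEp : ∀ i, Module.Projective A (E.X i) := fun i => by
    have := (hEf i).2
    infer_instance
  have hEv' : DRing.VanishesAbove E (b + 1) := fun i hi => hEv i (Or.inr (by
    have : b' ≤ b := le_max_right _ _
    omega))
  have hEk : E.IsKProjective := isKProjective_of_vanishesAbove E (b + 1) hEv' hEp
  have hPk : P.IsKProjective := isKProjective_of_vanishesAbove P b hPv hPp
  obtain ⟨a, ha⟩ := exists_Q_map_eq E P (eE.hom ≫ α ≫ eP.inv)
  have h1 : IsApprox m (Q.map a) := by
    rw [ha]
    exact (isApprox_of_isIso m eE.hom).comp (h.comp (isApprox_of_isIso m eP.inv))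
  have h2 := isApprox_bcCxF_map φ a b hEv' hEp hPv hPp m h1
  have hα : α = eE.inv ≫ Q.map a ≫ eP.hom := by
    rw [ha]
    simp
  have h3 : (DRing.LBaseChange φ).map (Q.map a) =
      (lbcIso φ E).hom ≫ Q.map ((bcCxF φ).map a) ≫ (lbcIso φ P).inv := by
    rw [← Category.assoc, ← lbcIso_hom_naturality, Category.assoc, Iso.hom_inv_id,
      Category.comp_id]
  rw [hα, Functor.map_comp, Functor.map_comp, h3]
  refine (isApprox_of_isIso m _).comp (IsApprox.comp ?_ (isApprox_of_isIso m _))
  exact (isApprox_of_isIso m _).comp (h2.comp (isApprox_of_isIso m _))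

theorem isPseudoCoherent_LBaseChange (K : Dual.D A) (m : ℤ) (hK : DRing.IsPseudoCoherent A m K) :
    DRing.IsPseudoCoherent B m ((DRing.LBaseChange φ).obj K) := by
  obtain ⟨c, hc⟩ := exists_isLE_of_isPseudoCoherent hK
  rw [isPseudoCoherent_iff] at hK ⊢
  obtain ⟨X, a', b', α, hX, hα⟩ := hK
  refine ⟨(DRing.LBaseChange φ).obj X, a', b', (DRing.LBaseChange φ).map α, ?_,
    isApprox_LBaseChange_map φ α a' b' hX m hα c⟩
  obtain ⟨E, hEv, hEf, ⟨eE⟩⟩ := hX
  letI : Algebra A B := φ.toAlgebra
  have hEk : E.IsKProjective := isKProjective_of_vanishesAbove E b'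
    (fun i hi => hEv i (Or.inr hi)) (fun i => by
      have := (hEf i).2
      infer_instance)
  exact ⟨(bcCx A B).obj E, bcCx_vanishesOutside B E a' b' hEv, bcCx_termwiseFiniteFree B E hEf,
    ⟨(lbcIso φ E).symm ≪≫ (DRing.LBaseChange φ).mapIso eE⟩⟩

end Groth.Agent.Helper6.LBCPC
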