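import Mathlib
import Groth.Prelude.Def_DRing2
import Groth.Agent.Helper3.DRingRestr

/-!
# K-injectivity descends along restriction of scalars for ring epimorphisms
-/

set_option autoImplicit false
universe u

open CategoryTheory Limits TensorProduct

namespace Groth.Agent.Helper6.KInjEpi

open Groth.Agent.Helper3.DRingLib

variable {R S : Type u} [CommRing R] [CommRing S] (φ : R →+* S)

/-- For a ring epimorphism, `R`-linear maps between `S`-modules are `S`-linear. -/
lemma map_smul_of_epi (hφ : Epi (CommRingCat.ofHom φ)) (M N : ModuleCat.{u} S)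
    (f : (ModuleCat.restrictScalars φ).obj M ⟶ (ModuleCat.restrictScalars φ).obj N)
    (s : S) (m : M) :
    (f.hom (show (ModuleCat.restrictScalars φ).obj M from s • m) : N) =
      s • (f.hom (show (ModuleCat.restrictScalars φ).obj M from m) : N) := by
  letI : Algebra R S := φ.toAlgebra
  have hepi : Algebra.IsEpi R S := CommRingCat.epi_iff_epi.mp hφ
  have h1 := (Algebra.isEpi_iff_forall_one_tmul_eq R S).1 hepi s
  letI : Module R M := Module.compHom M φ
  letI : Module R N := Module.compHom N φ
  haveI : IsScalarTower R S M := IsScalarTower.of_algebraMap_smul (fun r m => rfl)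
  haveI : IsScalarTower R S N := IsScalarTower.of_algebraMap_smul (fun r m => rfl)
  let g : M →ₗ[R] N :=
    { toFun := fun x => f.hom x
      map_add' := fun x y => f.hom.map_add x y
      map_smul' := fun r x => f.hom.map_smul r x }
  let B : S →ₗ[R] S →ₗ[R] N := LinearMap.mk₂ R (fun a b => a • g (b • m))
    (fun a a' b => by simp [add_smul])
    (fun r a b => by simp)
    (fun a b b' => by simp [add_smul])
    (fun r a b => by
      simp only [smul_assoc, map_smul]
      rw [smul_comm])
  have h2 := congrArg (TensorProduct.lift B) h1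
  simp only [TensorProduct.lift.tmul, B, LinearMap.mk₂_apply, one_smul] at h2
  exact h2

/-- the `S`-linear map underlying an `R`-linear map between `S`-modules -/
noncomputable def liftHom (hφ : Epi (CommRingCat.ofHom φ)) {M N : ModuleCat.{u} S}
    (f : (ModuleCat.restrictScalars φ).obj M ⟶ (ModuleCat.restrictScalars φ).obj N) : M ⟶ N :=
  ModuleCat.ofHom
    { toFun := fun x => (f.hom (show (ModuleCat.restrictScalars φ).obj M from x) : N)
      map_add' := fun x y => f.hom.map_add x y
      map_smul' := fun s x => map_smul_of_epi φ hφ M N f s x }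

lemma map_liftHom (hφ : Epi (CommRingCat.ofHom φ)) {M N : ModuleCat.{u} S}
    (f : (ModuleCat.restrictScalars φ).obj M ⟶ (ModuleCat.restrictScalars φ).obj N) :
    (ModuleCat.restrictScalars φ).map (liftHom φ hφ f) = f := by
  ext x
  rfl

lemma acyclic_restrict (K : DRing.Cx S) (hK : K.Acyclic) :
    ((DRing.restrictCx φ).obj K).Acyclic := by
  intro n
  rw [HomologicalComplex.exactAt_iff_isZero_homology]
  have h1 : IsZero (K.homology n) := (HomologicalComplex.exactAt_iff_isZero_homology _ _).1 (hK n)
  exact ((rF φ).map_isZero h1).of_iso (rHomologyIso φ K n)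

theorem isKInjective_of_restrict (hφ : Epi (CommRingCat.ofHom φ)) (I : DRing.Cx S)
    [hI : CochainComplex.IsKInjective ((DRing.restrictCx φ).obj I)] :
    CochainComplex.IsKInjective I := by
  refine ⟨fun {K} f hK => ?_⟩
  obtain ⟨h⟩ := hI.nonempty_homotopy_zero ((DRing.restrictCx φ).map f) (acyclic_restrict φ K hK)
  let hh : ∀ i j : ℤ, (ModuleCat.restrictScalars φ).obj (K.X i) ⟶
      (ModuleCat.restrictScalars φ).obj (I.X j) := fun i j => h.hom i j
  have hz : ∀ i j : ℤ, ¬ (ComplexShape.up ℤ).Rel j i → hh i j = 0 := fun i j hij => h.zero i j hij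
  have hc : ∀ i : ℤ, (ModuleCat.restrictScalars φ).map (f.f i) =
      (ModuleCat.restrictScalars φ).map (K.d i (i + 1)) ≫ hh (i + 1) i +
        hh i (i - 1) ≫ (ModuleCat.restrictScalars φ).map (I.d (i - 1) i) := by
    intro i
    have hc := h.comm i
    rw [dNext_eq _ (show (ComplexShape.up ℤ).Rel i (i + 1) from rfl),
      prevD_eq _ (show (ComplexShape.up ℤ).Rel (i - 1) i by simp)] at hc
    simp only [DRing.restrictCx,
      Functor.mapHomologicalComplex_obj_d, Functor.mapHomologicalComplex_map_f,
      HomologicalComplex.zero_f] at hc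
    exact hc.trans (add_zero _)
  refine ⟨{ hom := fun i j => liftHom φ hφ (hh i j)
            zero := fun i j hij => ?_
            comm := fun i => ?_ }⟩
  · apply (ModuleCat.restrictScalars φ).map_injective
    rw [map_liftHom, hz i j hij, Functor.map_zero]
  · apply (ModuleCat.restrictScalars φ).map_injective
    rw [dNext_eq _ (show (ComplexShape.up ℤ).Rel i (i + 1) from rfl),
      prevD_eq _ (show (ComplexShape.up ℤ).Rel (i - 1) i by simp)]
    simp only [Functor.map_add, Functor.map_comp, map_liftHom, HomologicalComplex.zero_f,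
      add_zero]
    exact hc i

end Groth.Agent.Helper6.KInjEpi
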