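import Mathlib
import Groth.Prelude.Def_DTen4
import Groth.Agent.Helper6.LBCAdj
import Groth.Agent.Helper6.ExtKFlat
import Groth.Agent.Helper6.KInjEpi

set_option autoImplicit false

/-!
# The comparison `LBase (Q K) ⟶ Q (ext K)` is an isomorphism for K-flat `K`
-/

open CategoryTheory CategoryTheory.Limits DerivedCategory

universe u

attribute [local instance] HasDerivedCategory.standard

namespace Groth.Agent.Helper6.LBaseCmp

open TenCx LBCAdj

variable {R A : Type u} [CommRing R] [CommRing A] (φ : R →+* A)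

/-- restriction preserves acyclic objects of the homotopy category -/
lemma resK_acyclic (Y : HomotopyCategory (ModuleCat.{u} A) (ComplexShape.up ℤ))
    (hY : HomotopyCategory.subcategoryAcyclic (ModuleCat.{u} A) Y) :
    HomotopyCategory.subcategoryAcyclic (ModuleCat.{u} R) ((resK φ).obj Y) := by
  obtain ⟨Y, rfl⟩ := HomotopyCategory.quotient_obj_surjective Y
  rw [HomotopyCategory.quotient_obj_mem_subcategoryAcyclic_iff_acyclic] at hY
  exact (HomotopyCategory.quotient_obj_mem_subcategoryAcyclic_iff_acyclic _).mpr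
    (KInjEpi.acyclic_restrict φ Y hY)

/-- extension of scalars preserves K-projective complexes -/
instance isKProjective_ext (P : DRing.Cx R) [P.IsKProjective] :
    ((DTen.extCx φ).obj P).IsKProjective := by
  rw [CochainComplex.isKProjective_iff_leftOrthogonal]
  intro Y f hY
  have key : ∀ f' : (extK φ).obj ((HomotopyCategory.quotient _ _).obj P) ⟶ Y, f' = 0 := by
    intro f'
    have h0 : (adjK φ).homEquiv ((HomotopyCategory.quotient _ _).obj P) Y f' = 0 :=
      CochainComplex.IsKProjective.leftOrthogonal P _ (resK_acyclic φ Y hY)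
    apply ((adjK φ).homEquiv ((HomotopyCategory.quotient _ _).obj P) Y).injective
    rw [h0, Adjunction.homEquiv_unit, Functor.map_zero, comp_zero]
  exact key f

/-- the map `Qh X ⟶ res (Qh (ext X))` on the homotopy category -/
noncomputable def γh (X : HomotopyCategory (ModuleCat.{u} R) (ComplexShape.up ℤ)) :
    Qh.obj X ⟶ (DRing.restrictD φ).obj (Qh.obj ((extK φ).obj X)) :=
  Qh.map ((adjK φ).unit.app X) ≫ (β φ).app ((extK φ).obj X)

/-- Lemma A: the adjunction bijection on derived categories, at K-projective objects -/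
lemma bijective_γh (P : DRing.Cx R) [P.IsKProjective] (N : Dual.D A) :
    Function.Bijective (fun g : Qh.obj ((extK φ).obj ((HomotopyCategory.quotient _ _).obj P)) ⟶ N =>
      γh φ ((HomotopyCategory.quotient _ _).obj P) ≫ (DRing.restrictD φ).map g) := by
  set X := (HomotopyCategory.quotient (ModuleCat.{u} R) (ComplexShape.up ℤ)).obj P with hX
  -- reduce to `N = Qh.obj Y`
  let Y := Qh.objPreimage N
  let i : Qh.obj Y ≅ N := Qh.objObjPreimageIso N
  -- the three bijections
  have ha : Function.Bijective (Qh.map : ((extK φ).obj X ⟶ Y) → _) :=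
    CochainComplex.IsKProjective.Qh_map_bijective ((DTen.extCx φ).obj P) Y
  have hb : Function.Bijective (Qh.map : (X ⟶ (resK φ).obj Y) → _) :=
    CochainComplex.IsKProjective.Qh_map_bijective P ((resK φ).obj Y)
  have hβ : IsIso ((β φ).app Y) := inferInstance
  -- the composite
  have hcomp : ∀ f : (extK φ).obj X ⟶ Y,
      γh φ X ≫ (DRing.restrictD φ).map (Qh.map f ≫ i.hom) =
        Qh.map ((adjK φ).homEquiv X Y f) ≫ (β φ).app Y ≫ (DRing.restrictD φ).map i.hom := by
    intro f
    have hn := (β φ).naturality f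
    simp only [Functor.comp_map] at hn
    rw [γh, Adjunction.homEquiv_unit, Functor.map_comp, Functor.map_comp, Category.assoc,
      Category.assoc, ← reassoc_of% hn]
  constructor
  · intro g₁ g₂ h
    obtain ⟨f₁, hf₁⟩ := ha.2 (g₁ ≫ i.inv)
    obtain ⟨f₂, hf₂⟩ := ha.2 (g₂ ≫ i.inv)
    have e₁ : g₁ = Qh.map f₁ ≫ i.hom := by rw [hf₁, Category.assoc, Iso.inv_hom_id, Category.comp_id]
    have e₂ : g₂ = Qh.map f₂ ≫ i.hom := by rw [hf₂, Category.assoc, Iso.inv_hom_id, Category.comp_id]
    have h' : γh φ X ≫ (DRing.restrictD φ).map g₁ = γh φ X ≫ (DRing.restrictD φ).map g₂ := h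
    rw [e₁, e₂, hcomp, hcomp] at h'
    have h2 : Qh.map ((adjK φ).homEquiv X Y f₁) = Qh.map ((adjK φ).homEquiv X Y f₂) := by
      haveI : IsIso ((β φ).app Y ≫ (DRing.restrictD φ).map i.hom) := inferInstance
      exact (cancel_mono ((β φ).app Y ≫ (DRing.restrictD φ).map i.hom)).mp h'
    have h3 := ((adjK φ).homEquiv X Y).injective (hb.1 h2)
    rw [e₁, e₂, h3]
  · intro t
    haveI : IsIso ((β φ).app Y ≫ (DRing.restrictD φ).map i.hom) := inferInstance
    obtain ⟨f', hf'⟩ := hb.2 (t ≫ inv ((β φ).app Y ≫ (DRing.restrictD φ).map i.hom))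
    refine ⟨Qh.map (((adjK φ).homEquiv X Y).symm f') ≫ i.hom, ?_⟩
    show γh φ X ≫ (DRing.restrictD φ).map (Qh.map (((adjK φ).homEquiv X Y).symm f') ≫ i.hom) = t
    rw [hcomp, Equiv.apply_symm_apply, hf', Category.assoc, IsIso.inv_hom_id, Category.comp_id]

/-- comparison of the two factorisation isomorphisms of restriction of scalars -/
lemma factors_inv (K' : DRing.Cx A) :
    (DTen.resFactors φ).inv.app K' =
      (quotientCompQhIso _).inv.app ((DTen.resCx φ).obj K') ≫
        Qh.map (((ModuleCat.restrictScalars.{u} φ).mapHomotopyCategoryFactors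
          (ComplexShape.up ℤ)).inv.app K') ≫
        (β φ).app ((HomotopyCategory.quotient _ _).obj K') ≫
        (DRing.restrictD φ).map ((quotientCompQhIso _).hom.app K') := by
  have h := (ModuleCat.restrictScalars.{u} φ).mapDerivedCategoryFactorsh_hom_app K'
  have h1 : (ModuleCat.restrictScalars.{u} φ).mapDerivedCategoryFactorsh.hom.app
      ((HomotopyCategory.quotient _ _).obj K') ≫ (β φ).app ((HomotopyCategory.quotient _ _).obj K') =
        𝟙 _ := Iso.hom_inv_id_app _ _
  rw [h] at h1
  simp only [Category.assoc] at h1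
  have h4 : (DTen.resFactors φ).hom.app K' ≫
      (quotientCompQhIso _).inv.app ((DTen.resCx φ).obj K') ≫
        Qh.map (((ModuleCat.restrictScalars.{u} φ).mapHomotopyCategoryFactors
          (ComplexShape.up ℤ)).inv.app K') ≫
        (β φ).app ((HomotopyCategory.quotient _ _).obj K') =
      (DRing.restrictD φ).map ((quotientCompQhIso _).inv.app K') := by
    rw [← cancel_epi ((DRing.restrictD φ).map ((quotientCompQhIso _).hom.app K'))]
    refine h1.trans ?_
    rw [← Functor.map_comp, Iso.hom_inv_id_app, CategoryTheory.Functor.map_id]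
    rfl
  rw [← cancel_epi ((DTen.resFactors φ).hom.app K'), Iso.hom_inv_id_app]
  rw [← Category.assoc, ← Category.assoc, ← Category.assoc]
  rw [show (((DTen.resFactors φ).hom.app K' ≫
      (quotientCompQhIso _).inv.app ((DTen.resCx φ).obj K')) ≫
        Qh.map (((ModuleCat.restrictScalars.{u} φ).mapHomotopyCategoryFactors
          (ComplexShape.up ℤ)).inv.app K')) ≫
        (β φ).app ((HomotopyCategory.quotient _ _).obj K') =
      (DRing.restrictD φ).map ((quotientCompQhIso _).inv.app K') from by
        simpa only [Category.assoc] using h4]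
  rw [← Functor.map_comp, Iso.inv_hom_id_app, CategoryTheory.Functor.map_id]
  rfl

lemma bijective_precomp_iso {C : Type*} [Category C] {X Y : C} (f : X ⟶ Y) [IsIso f] (Z : C) :
    Function.Bijective (fun g : Y ⟶ Z => f ≫ g) :=
  ⟨fun _ _ h => (cancel_epi f).mp h, fun t => ⟨inv f ≫ t, by simp⟩⟩

variable [DTen.HasLBase φ]

/-- `baseγ` in terms of `γh` -/
lemma baseγ_eq (P : DRing.Cx R) :
    (DTen.baseγ φ).app P = (quotientCompQhIso _).inv.app P ≫
      γh φ ((HomotopyCategory.quotient _ _).obj P) ≫
        (DRing.restrictD φ).map ((quotientCompQhIso _).hom.app ((DTen.extCx φ).obj P)) := by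
  have h0 : (DTen.baseγ φ).app P = Q.map ((DTen.unitCx φ).app P) ≫
      (DTen.resFactors φ).inv.app ((DTen.extCx φ).obj P) := rfl
  have hunit : (adjK φ).unit.app ((HomotopyCategory.quotient _ _).obj P) =
      (HomotopyCategory.quotient _ _).map ((DTen.unitCx φ).app P) := rfl
  have hn := quotientCompQhIso_inv_naturality ((DTen.unitCx φ).app P)
  have hm : Qh.map (((ModuleCat.restrictScalars.{u} φ).mapHomotopyCategoryFactors
          (ComplexShape.up ℤ)).inv.app ((DTen.extCx φ).obj P)) = 𝟙 _ := by
    erw [CategoryTheory.Functor.map_id]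
  rw [h0, factors_inv, hm, γh, hunit, reassoc_of% hn]
  congr 1
  rw [Category.assoc]
  congr 1
  exact Category.id_comp _

/-- the comparison map is an isomorphism at K-projective complexes -/
theorem isIso_baseCmp_of_isKProjective (P : DRing.Cx R) [P.IsKProjective] :
    IsIso ((DTen.baseCmp φ).app P) := by
  apply isIso_of_coyoneda_map_bijective
  intro N
  have he := ((DTen.baseAdj φ).homEquiv (Q.obj P) N).bijective
  rw [← Function.Bijective.of_comp_iff' he]
  have hcomp : ∀ g : Q.obj ((DTen.extCx φ).obj P) ⟶ N,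
      (DTen.baseAdj φ).homEquiv (Q.obj P) N ((DTen.baseCmp φ).app P ≫ g) =
        (DTen.baseγ φ).app P ≫ (DRing.restrictD φ).map g := by
    intro g
    rw [Adjunction.homEquiv_unit, Functor.map_comp, ← Category.assoc]
    erw [DTen.baseCmp_fac]
  have h1 := bijective_precomp_iso ((quotientCompQhIso _).hom.app ((DTen.extCx φ).obj P)) N
  have h2 := bijective_γh φ P N
  have h3 := bijective_precomp_iso ((quotientCompQhIso _).inv.app P)
    ((DRing.restrictD φ).obj N)
  have h4 := h3.comp (h2.comp h1)
  convert h4 using 1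
  funext g
  simp only [Function.comp_apply]
  refine (hcomp g).trans ?_
  rw [baseγ_eq]
  show _ = (quotientCompQhIso _).inv.app P ≫
    γh φ ((HomotopyCategory.quotient _ _).obj P) ≫ (DRing.restrictD φ).map
      ((quotientCompQhIso _).hom.app ((DTen.extCx φ).obj P) ≫ g)
  refine (Category.assoc _ _ _).trans ?_
  refine congrArg (fun t => (quotientCompQhIso _).inv.app P ≫ t) ?_
  refine (Category.assoc _ _ _).trans ?_
  exact congrArg (fun t => γh φ ((HomotopyCategory.quotient _ _).obj P) ≫ t)
    ((DRing.restrictD φ).map_comp _ _).symm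

/-- the comparison map is an isomorphism at K-flat complexes -/
theorem isIso_baseCmp_of_kflat (K : DRing.Cx R) (hK : KFlat K) :
    IsIso ((DTen.baseCmp φ).app K) := by
  obtain ⟨P, f, hP, hPf, -, hf, -⟩ := KProjRes.exists_resolution K
  haveI := hP
  haveI := isIso_baseCmp_of_isKProjective φ P
  have hn := (DTen.baseCmp φ).naturality f
  haveI : IsIso (Q.map f) := by
    rw [DerivedCategory.isIso_Q_map_iff_quasiIso]
    exact hf
  haveI : IsIso ((Q ⋙ DTen.LBase φ).map f) := by
    rw [Functor.comp_map]
    infer_instance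
  haveI : IsIso ((DTen.extCx φ ⋙ Q).map f) := by
    rw [Functor.comp_map, DerivedCategory.isIso_Q_map_iff_quasiIso]
    exact ExtKFlat.quasiIso_ext_of_kflat φ f hPf hK hf
  have h : (DTen.baseCmp φ).app K = inv ((Q ⋙ DTen.LBase φ).map f) ≫
      (DTen.baseCmp φ).app P ≫ (DTen.extCx φ ⋙ Q).map f := by
    rw [← hn, IsIso.inv_hom_id_assoc]
  rw [h]
  infer_instance

end Groth.Agent.Helper6.LBaseCmp
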