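import Mathlib
import Groth.Prelude.Def_DDual2
import Groth.Agent.Helper1.DCoprod
import Groth.Agent.Helper6.KanCounit
import Groth.Agent.Helper6.LBCCompute

set_option autoImplicit false

/-!
# Computing `- ⊗^L M` (for a module `M`) on K-projective complexes
-/

namespace Groth.Agent.Helper6.LTenModCompute
open CategoryTheory Limits DerivedCategory MonoidalCategory

attribute [local instance] HasDerivedCategory.standard

universe u

variable {A : Type u} [CommRing A]

instance (J : Type u) : HasColimitsOfShape (Discrete J) (Dual.D A) :=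
  Groth.Agent.Helper1.DCoprod.hasColimitsOfShape_discrete

variable (M : ModuleCat.{u} A) [DRing.HasLTensor A M]

/-- the counit of the derived tensor product -/
noncomputable def counit : Qh ⋙ DRing.LTensor A M ⟶ DRing.tensorKh A M :=
  (DRing.tensorKh A M).totalLeftDerivedCounit Qh
    (HomotopyCategory.quasiIso (ModuleCat.{u} A) (ComplexShape.up ℤ))

instance : (DRing.LTensor A M).IsRightKanExtension (counit M) := by
  have h : ((DRing.tensorKh A M).totalLeftDerived Qh
      (HomotopyCategory.quasiIso (ModuleCat.{u} A) (ComplexShape.up ℤ))).IsLeftDerivedFunctor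
      ((DRing.tensorKh A M).totalLeftDerivedCounit Qh
        (HomotopyCategory.quasiIso (ModuleCat.{u} A) (ComplexShape.up ℤ)))
      (HomotopyCategory.quasiIso (ModuleCat.{u} A) (ComplexShape.up ℤ)) := inferInstance
  exact h.isRightKanExtension

/-- the counit is an isomorphism at K-projective complexes -/
theorem isIso_counit_app (P : CochainComplex (ModuleCat.{u} A) ℤ) [P.IsKProjective] :
    IsIso ((counit M).app ((HomotopyCategory.quotient _ _).obj P)) := by
  have hs := Groth.Agent.Helper6.LBCCompute.small_hom P
  exact Groth.Agent.Helper6.KanCounit.isIso_app Qh (DRing.tensorKh A M) (DRing.LTensor A M)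
    (counit M) ((HomotopyCategory.quotient _ _).obj P)
    (fun Y => Shrink.{u} (Qh.obj ((HomotopyCategory.quotient _ _).obj P) ⟶ Y))
    (fun Y => (equivShrink _).symm)
    (fun X => CochainComplex.IsKProjective.Qh_map_bijective P X)

/-- termwise `- ⊗ M` on complexes -/
noncomputable abbrev tensF : DRing.Cx A ⥤ DRing.Cx A :=
  (tensorRight M).mapHomologicalComplex (ComplexShape.up ℤ)

lemma tensF_obj (P : DRing.Cx A) : (tensF M).obj P = DRing.tensorCx P M := rfl

/-- the comparison `(Q P) ⊗^L M ⟶ Q (P ⊗ M)`, natural in the complex `P` -/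
noncomputable def ltNat : Q ⋙ DRing.LTensor A M ⟶ tensF M ⋙ Q :=
  Functor.whiskerRight (quotientCompQhIso (ModuleCat.{u} A)).inv (DRing.LTensor A M) ≫
    (Functor.associator _ _ _).hom ≫
    Functor.whiskerLeft (HomotopyCategory.quotient _ _) (counit M) ≫
    (Functor.associator _ _ _).inv ≫
    Functor.whiskerRight ((tensorRight M).mapHomotopyCategoryFactors
      (ComplexShape.up ℤ)).hom Qh ≫
    (Functor.associator _ _ _).hom ≫
    Functor.whiskerLeft (tensF M) (quotientCompQhIso (ModuleCat.{u} A)).hom

instance isIso_ltNat_app (P : DRing.Cx A) [P.IsKProjective] : IsIso ((ltNat M).app P) := by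
  have := isIso_counit_app M P
  simp only [ltNat, NatTrans.comp_app, Functor.whiskerRight_app, Functor.whiskerLeft_app,
    Functor.associator_hom_app, Functor.associator_inv_app]
  infer_instance

/-- `(toD P) ⊗^L M ≅ toD (P ⊗ M)` for K-projective `P` -/
noncomputable def ltIso (P : DRing.Cx A) [P.IsKProjective] :
    (DRing.LTensor A M).obj (DRing.toD P) ≅ DRing.toD (DRing.tensorCx P M) :=
  (asIso ((ltNat M).app P) : (Q ⋙ DRing.LTensor A M).obj P ≅ (tensF M ⋙ Q).obj P)

/-- the homology of `K ⊗^L M` is computed by a K-projective representative -/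
theorem subsingleton_HD_iff (P : DRing.Cx A) [P.IsKProjective] {K : Dual.D A}
    (e : DRing.toD P ≅ K) (i : ℤ) :
    Subsingleton (Dual.HD A ((DRing.LTensor A M).obj K) i) ↔ (DRing.tensorCx P M).ExactAt i := by
  let e1 : (DRing.LTensor A M).obj K ≅ DRing.toD (DRing.tensorCx P M) :=
    (DRing.LTensor A M).mapIso e.symm ≪≫ ltIso M P
  let e2 : (DerivedCategory.homologyFunctor (ModuleCat.{u} A) i).obj ((DRing.LTensor A M).obj K) ≅
      (DRing.tensorCx P M).homology i :=
    (DerivedCategory.homologyFunctor (ModuleCat.{u} A) i).mapIso e1 ≪≫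
      (DerivedCategory.homologyFunctorFactors (ModuleCat.{u} A) i).app _
  rw [HomologicalComplex.exactAt_iff_isZero_homology]
  constructor
  · intro h
    exact (ModuleCat.isZero_of_subsingleton _).of_iso e2.symm
  · intro h
    exact ModuleCat.subsingleton_of_isZero (h.of_iso e2)

end Groth.Agent.Helper6.LTenModCompute
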