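import Mathlib
import Groth.Prelude.Def_DRing4
import Groth.Agent.Helper6.ExtTenMod
import Groth.Agent.Helper6.CofanMod
import Groth.Agent.Helper6.LBCCompute
import Groth.Agent.Helper3.DRingTor1

/-!
# Change of rings for termwise tensor products: `P ⊗_R res M` versus `(R' ⊗_R P) ⊗_{R'} M`
-/

set_option autoImplicit false
universe u
open CategoryTheory CategoryTheory.Limits MonoidalCategory TensorProduct

namespace Groth.Agent.Helper6.RingChangeTen

open Groth.Agent.Helper6.ExtTenMod Groth.Agent.Helper3.DRingLib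

variable {R R' : Type u} [CommRing R] [CommRing R'] (φ : R →+* R') (M : ModuleCat.{u} R')

/-- the comparison `X ⊗_R res M → (R' ⊗_R X) ⊗_{R'} M`, `x ⊗ m ↦ (1 ⊗ x) ⊗ m` -/
noncomputable def c (X : ModuleCat.{u} R) (t : ↑(X ⊗ (DTen.resM φ).obj M)) :
    ↑((ModuleCat.extendScalars.{u, u, u} φ).obj X ⊗ M) :=
  (β_ M ((ModuleCat.extendScalars.{u, u, u} φ).obj X)).hom
    (show ↑(M ⊗ (ModuleCat.extendScalars.{u, u, u} φ).obj X) from
      (μ φ M X).hom ((β_ X ((DTen.resM φ).obj M)).hom t))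

lemma c_add (X : ModuleCat.{u} R) (s t : ↑(X ⊗ (DTen.resM φ).obj M)) :
    c φ M X (s + t) = c φ M X s + c φ M X t := by
  unfold c
  rw [map_add, map_add]
  exact map_add (β_ M ((ModuleCat.extendScalars.{u, u, u} φ).obj X)).hom.hom _ _

lemma c_zero (X : ModuleCat.{u} R) : c φ M X 0 = 0 := by
  unfold c
  rw [map_zero, map_zero]
  exact map_zero (β_ M ((ModuleCat.extendScalars.{u, u, u} φ).obj X)).hom.hom

lemma c_tmul (X : ModuleCat.{u} R) (x : X) (m : M) :
    c φ M X (x ⊗ₜ[R] (show (DTen.resM φ).obj M from m)) =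
      ((tm φ X 1 x) ⊗ₜ[R'] m : ↑((ModuleCat.extendScalars.{u, u, u} φ).obj X ⊗ M)) := by
  unfold c
  have h1 : (β_ X ((DTen.resM φ).obj M)).hom (x ⊗ₜ[R] (show (DTen.resM φ).obj M from m)) =
      (show (DTen.resM φ).obj M from m) ⊗ₜ[R] x := rfl
  rw [h1, μ_tmul]
  rfl

lemma c_injective (X : ModuleCat.{u} R) : Function.Injective (c φ M X) := by
  intro s t h
  unfold c at h
  have h1 := Groth.Agent.Helper6.CofanMod.injective_of_iso (β_ M ((ModuleCat.extendScalars.{u, u, u} φ).obj X)) h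
  have h2 := μ_injective φ M X h1
  exact Groth.Agent.Helper6.CofanMod.injective_of_iso (β_ X ((DTen.resM φ).obj M)) h2

lemma c_surjective (X : ModuleCat.{u} R) : Function.Surjective (c φ M X) := by
  intro y
  obtain ⟨y1, hy1⟩ := Groth.Agent.Helper6.CofanMod.surjective_of_iso
    (β_ M ((ModuleCat.extendScalars.{u, u, u} φ).obj X)) y
  obtain ⟨y2, hy2⟩ := μ_surjective φ M X
    (show (DTen.resM φ).obj (M ⊗ (ModuleCat.extendScalars.{u, u, u} φ).obj X) from y1)
  obtain ⟨y3, hy3⟩ := Groth.Agent.Helper6.CofanMod.surjective_of_iso (β_ X ((DTen.resM φ).obj M)) y2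
  refine ⟨y3, ?_⟩
  unfold c
  rw [hy3, hy2]
  exact hy1

lemma c_naturality {X Y : ModuleCat.{u} R} (f : X ⟶ Y) (t : ↑(X ⊗ (DTen.resM φ).obj M)) :
    c φ M Y ((f ▷ (DTen.resM φ).obj M) t) =
      ((ModuleCat.extendScalars.{u, u, u} φ).map f ▷ M) (c φ M X t) := by
  induction t using TensorProduct.induction_on with
  | zero => rw [map_zero, c_zero, c_zero, map_zero]
  | tmul x m =>
    have h1 : (f ▷ (DTen.resM φ).obj M) (x ⊗ₜ[R] m) =
        (f x) ⊗ₜ[R] (show (DTen.resM φ).obj M from m) := rfl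
    rw [h1]
    have h2 := c_tmul φ M Y (f x) m
    have h3 := c_tmul φ M X x m
    rw [h2]
    refine Eq.trans ?_ (congrArg (fun z => ((ModuleCat.extendScalars.{u, u, u} φ).map f ▷ M) z)
      h3).symm
    rfl
  | add a b ha hb =>
    rw [map_add, c_add, ha, hb, c_add, map_add]

/-- exactness of `(R' ⊗_R P) ⊗_{R'} M` gives exactness of `P ⊗_R res M` -/
theorem exactAt_tensorCx_res (P : DRing.Cx R) (i : ℤ)
    (h : (DRing.tensorCx ((Groth.Agent.Helper6.LBCCompute.bcCxF φ).obj P) M).ExactAt i) :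
    (DRing.tensorCx P ((DTen.resM φ).obj M)).ExactAt i := by
  rw [exactAt_iff_forall _ (i - 1) i (i + 1) (by omega) rfl] at h ⊢
  intro t0 ht
  let t : ↑(P.X i ⊗ (DTen.resM φ).obj M) := t0
  have ht' : (P.d i (i + 1) ▷ (DTen.resM φ).obj M) t = 0 := ht
  have h0 : ((ModuleCat.extendScalars.{u, u, u} φ).map (P.d i (i + 1)) ▷ M) (c φ M (P.X i) t) = 0 :=
    (c_naturality φ M (P.d i (i + 1)) t).symm.trans
      ((congrArg (c φ M (P.X (i + 1))) ht').trans (c_zero φ M _))
  obtain ⟨w, hw⟩ := h (c φ M (P.X i) t) h0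
  obtain ⟨v, hv⟩ := c_surjective φ M (P.X (i - 1)) w
  refine ⟨v, ?_⟩
  apply c_injective φ M (P.X i)
  have h1 := c_naturality φ M (P.d (i - 1) i) v
  refine h1.trans ?_
  rw [hv]
  exact hw

/-- exactness of `P ⊗_R res M` gives exactness of `(R' ⊗_R P) ⊗_{R'} M` -/
theorem exactAt_tensorCx_ext (P : DRing.Cx R) (i : ℤ)
    (h : (DRing.tensorCx P ((DTen.resM φ).obj M)).ExactAt i) :
    (DRing.tensorCx ((Groth.Agent.Helper6.LBCCompute.bcCxF φ).obj P) M).ExactAt i := by
  rw [exactAt_iff_forall _ (i - 1) i (i + 1) (by omega) rfl] at h ⊢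
  intro y0 hy
  let y : ↑((ModuleCat.extendScalars.{u, u, u} φ).obj (P.X i) ⊗ M) := y0
  have hy' : ((ModuleCat.extendScalars.{u, u, u} φ).map (P.d i (i + 1)) ▷ M) y = 0 := hy
  obtain ⟨t, ht⟩ := c_surjective φ M (P.X i) y
  have h0 : (P.d i (i + 1) ▷ (DTen.resM φ).obj M) t = 0 := by
    apply c_injective φ M (P.X (i + 1))
    rw [c_naturality, ht, hy', c_zero]
  obtain ⟨v, hv⟩ := h t h0
  refine ⟨c φ M (P.X (i - 1)) v, ?_⟩
  have h1 := c_naturality φ M (P.d (i - 1) i) v
  refine h1.symm.trans ?_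
  have hv' : (P.d (i - 1) i ▷ (DTen.resM φ).obj M) v = t := hv
  rw [hv']
  exact ht

/-- exactness of `P ⊗ N` only depends on the isomorphism class of `N` -/
theorem exactAt_tensorCx_of_iso (P : DRing.Cx R) {N N' : ModuleCat.{u} R} (e : N ≅ N') (i : ℤ)
    (h : (DRing.tensorCx P N).ExactAt i) : (DRing.tensorCx P N').ExactAt i := by
  have e' : DRing.tensorCx P N ≅ DRing.tensorCx P N' :=
    (NatIso.mapHomologicalComplex ((tensoringRight (ModuleCat.{u} R)).mapIso e)
      (ComplexShape.up ℤ)).app P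
  rw [HomologicalComplex.exactAt_iff_isZero_homology] at h ⊢
  exact h.of_iso ((HomologicalComplex.homologyFunctor _ _ i).mapIso e').symm

/-- the quotient `R ⧸ I` as the restriction of scalars of the free module of rank one -/
noncomputable def quotIso (I : Ideal R) :
    ModuleCat.of R (R ⧸ I) ≅
      (ModuleCat.restrictScalars (Ideal.Quotient.mk I)).obj (ModuleCat.of (R ⧸ I) (R ⧸ I)) :=
  LinearEquiv.toModuleIso
    { toFun := fun x => x
      invFun := fun x => x
      left_inv := fun _ => rfl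
      right_inv := fun _ => rfl
      map_add' := fun _ _ => rfl
      map_smul' := fun _ _ => rfl }

end Groth.Agent.Helper6.RingChangeTen
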