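import Mathlib
import Groth.Prelude.Def_DRing4
import Groth.Agent.Helper6.KProjHtpy
import Groth.Agent.Helper6.RingChangeTen
import Groth.Agent.Helper6.KilledMod
import Groth.Agent.Helper6.LBaseCmp
import Groth.Agent.Helper6.KProjRes
import Groth.Agent.Helper6.LTenModCompute
import Groth.Agent.Helper3.DRingTor4
import Groth.Agent.Helper3.DRingResP

/-!
# Tensor exactness for K-projective complexes, and change of rings along a surjection with
nilpotent kernel
-/

set_option autoImplicit false
universe u
open CategoryTheory CategoryTheory.Limits MonoidalCategory DerivedCategory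

attribute [local instance] HasDerivedCategory.standard

namespace Groth.Agent.Helper6.RingChangeAmp

open Groth.Agent.Helper3.DRingLib

variable {A : Type u} [CommRing A]

/-- a K-projective complex which is exact above `b` stays exact above `b` after tensoring with
any module -/
theorem exactAt_tensorCx_of_exactAt_above (P : DRing.Cx A) [P.IsKProjective] (b : ℤ)
    (hP : ∀ i, b < i → P.ExactAt i) (N : ModuleCat.{u} A) (i : ℤ) (hi : b < i) :
    (DRing.tensorCx P N).ExactAt i := by
  haveI : P.IsLE b := by
    rw [CochainComplex.isLE_iff]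
    exact hP
  haveI : (DRing.toD P).IsLE b := inferInstanceAs ((Q.obj P).IsLE b)
  obtain ⟨P₀, h1, h2, ⟨e₀⟩⟩ := exists_projective_rep (DRing.toD P) b
  haveI := isKProjective_of_vanishesAbove P₀ b h1 h2
  refine Groth.Agent.Helper6.KProjHtpy.exactAt_tensorCx_of_iso e₀ N i ?_
  exact exactAt_of_isZero_X _ i (tensorCx_isZero_X P₀ N i (h1 i hi))

/-- tor-amplitude of `K` can be tested on any K-projective representative -/
theorem hasTorAmplitudeIn_iff_of_isKProjective (P : DRing.Cx A) [P.IsKProjective] {K : Dual.D A}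
    (e : DRing.toD P ≅ K) (a b : ℤ) :
    DRing.HasTorAmplitudeIn A a b K ↔
      ∀ (N : ModuleCat.{u} A) (i : ℤ), (i < a ∨ b < i) → (DRing.tensorCx P N).ExactAt i := by
  rw [hasTorAmplitudeIn_iff']
  constructor
  · rintro ⟨h1, h2⟩ N i hi
    haveI := h1
    obtain ⟨P₁, hv, hp, ⟨e₁⟩⟩ := exists_projective_rep K b
    haveI := isKProjective_of_vanishesAbove P₁ b hv hp
    refine Groth.Agent.Helper6.KProjHtpy.exactAt_tensorCx_of_iso (e₁ ≪≫ e.symm) N i ?_
    rcases hi with hi | hi
    · exact h2.forall_rep P₁ b hv (fun j => by haveI := hp j; infer_instance) e₁ N i hi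
    · exact exactAt_of_isZero_X _ i (tensorCx_isZero_X P₁ N i (hv i hi))
  · intro h
    have hLE : K.IsLE b := by
      haveI : P.IsLE b := by
        rw [CochainComplex.isLE_iff]
        intro i hi
        exact exactAt_of_exactAt_tensorCx_unit P i (h _ i (Or.inr hi))
      haveI : (DRing.toD P).IsLE b := inferInstanceAs ((Q.obj P).IsLE b)
      exact TStructure.t.isLE_of_iso e b
    refine ⟨hLE, ?_⟩
    haveI := hLE
    obtain ⟨P₁, hv, hp, ⟨e₁⟩⟩ := exists_projective_rep K b
    haveI := isKProjective_of_vanishesAbove P₁ b hv hp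
    refine ⟨P₁, b, hv, fun j => by haveI := hp j; infer_instance, ⟨e₁⟩, fun N i hi => ?_⟩
    exact Groth.Agent.Helper6.KProjHtpy.exactAt_tensorCx_of_iso (e ≪≫ e₁.symm) N i
      (h N i (Or.inl hi))

/-- change of rings along a surjection with nilpotent kernel: exactness of `P ⊗ N'` for all
`A`-modules `N'` is equivalent to exactness of `(B ⊗ P) ⊗ N` for all `B`-modules `N` -/
theorem forall_exactAt_iff_of_nilpotent {B : Type u} [CommRing B] (φ : A →+* B)
    (hφ : Function.Surjective φ) (hnil : IsNilpotent (RingHom.ker φ)) (P : DRing.Cx A)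
    (fP : DRing.TermwiseFlat P) (i : ℤ) :
    (∀ N : ModuleCat.{u} B,
      (DRing.tensorCx ((Groth.Agent.Helper6.LBCCompute.bcCxF φ).obj P) N).ExactAt i) ↔
      ∀ N' : ModuleCat.{u} A, (DRing.tensorCx P N').ExactAt i := by
  constructor
  · intro h N'
    obtain ⟨k, hk⟩ := hnil
    refine Groth.Agent.Helper6.KilledMod.exactAt_tensorCx_of_pow φ hφ P fP i ?_ k N' ?_
    · intro Nb
      exact Groth.Agent.Helper6.RingChangeTen.exactAt_tensorCx_res φ Nb P i (h Nb)
    · rw [hk]
      exact Submodule.bot_smul _
  · intro h N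
    exact Groth.Agent.Helper6.RingChangeTen.exactAt_tensorCx_ext φ N P i (h _)

end Groth.Agent.Helper6.RingChangeAmp
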