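import Mathlib
import Groth.Prelude.Def_DRing4
import Groth.Agent.Helper6.RingChangeAmp
import Groth.Agent.Helper6.LBCPC
import Groth.Agent.Helper6.KProjHtpy
import Groth.Agent.Helper3.DRingPC2
import Groth.Agent.Helper3.DRingPC3
import Groth.Agent.Helper3.DRingRes
import Groth.Agent.Helper3.DRingApprox
import Groth.Agent.Helper3.DRingBC
import Groth.Agent.Helper3.DRingBFF

/-!
# Pseudo-coherence can be tested after base change along a family of ring maps detecting
finiteness (e.g. a surjection with nilpotent kernel)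
-/

set_option autoImplicit false
set_option linter.style.haveILetI false
set_option linter.unusedSectionVars false

universe u
open CategoryTheory CategoryTheory.Limits Pretriangulated DerivedCategory TensorProduct
attribute [local instance] HasDerivedCategory.standard

namespace Groth.Agent.Helper6.PCNilLift
open Groth.Agent.Helper3.DRingLib Groth.Agent.Helper6.LBCCompute Groth.Agent.Helper6.LBCPC

section Nakayama

/-- Nakayama for nilpotent ideals, no finiteness needed -/
lemma eq_top_of_sup_smul_top {A : Type u} [CommRing A] {M : Type u} [AddCommGroup M] [Module A M]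
    (I : Ideal A) (hI : IsNilpotent I) (N : Submodule A M)
    (h : N ⊔ I • (⊤ : Submodule A M) = ⊤) : N = ⊤ := by
  obtain ⟨k, hk⟩ := hI
  have key : ∀ k : ℕ, N ⊔ (I ^ k) • (⊤ : Submodule A M) = ⊤ := by
    intro k
    induction k with
    | zero =>
      rw [pow_zero, Ideal.one_eq_top, Submodule.top_smul]
      exact sup_top_eq _
    | succ k ih =>
      rw [eq_top_iff]
      calc (⊤ : Submodule A M) = N ⊔ I • (⊤ : Submodule A M) := h.symm
        _ = N ⊔ I • (N ⊔ (I ^ k) • (⊤ : Submodule A M)) := by rw [ih]
        _ = N ⊔ (I • N ⊔ I • (I ^ k) • (⊤ : Submodule A M)) := by rw [Submodule.smul_sup]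
        _ ≤ N ⊔ (I ^ (k + 1)) • (⊤ : Submodule A M) := by
          rw [← Submodule.mul_smul, ← pow_succ']
          exact sup_le le_sup_left
            (sup_le (le_trans Submodule.smul_le_right le_sup_left) le_sup_right)
  have h1 := key k
  rw [hk, Ideal.zero_eq_bot, Submodule.bot_smul, sup_bot_eq] at h1
  exact h1

/-- a module whose base change along a surjection with nilpotent kernel is finite is finite -/
lemma finite_of_finite_tensor {A B : Type u} [CommRing A] [CommRing B] [Algebra A B]
    (hs : Function.Surjective (algebraMap A B))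
    (hn : IsNilpotent (RingHom.ker (algebraMap A B)))
    (C : Type u) [AddCommGroup C] [Module A C] (hf : Module.Finite B (B ⊗[A] C)) :
    Module.Finite A C := by
  classical
  haveI := hf
  haveI : Module.Finite A B := Module.Finite.of_surjective (Algebra.linearMap A B) hs
  haveI : Module.Finite A (B ⊗[A] C) := Module.Finite.trans B _
  let η : C →ₗ[A] B ⊗[A] C := TensorProduct.mk A B C 1
  have hη : Function.Surjective η := TensorProduct.mk_surjective A C B hs
  have hker : ∀ c : C, η c = 0 → c ∈ RingHom.ker (algebraMap A B) • (⊤ : Submodule A C) := by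
    intro c hc
    let f : A →ₐ[A] B := Algebra.ofId A B
    have hf' : Function.Surjective f := hs
    let e := Ideal.quotientKerAlgEquivOfSurjective hf'
    have hIe : RingHom.ker f = RingHom.ker (algebraMap A B) := by
      ext x
      rw [RingHom.mem_ker, RingHom.mem_ker]
      rfl
    have h1 : TensorProduct.quotTensorEquivQuotSMul C (RingHom.ker f)
        ((e.symm.toLinearMap.rTensor C) (η c)) = Submodule.Quotient.mk c := by
      show TensorProduct.quotTensorEquivQuotSMul C (RingHom.ker f)
        ((e.symm.toLinearMap.rTensor C) ((1 : B) ⊗ₜ[A] c)) = _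
      rw [LinearMap.rTensor_tmul]
      have h1' : e.symm.toLinearMap (1 : B) = 1 := map_one e.symm
      rw [h1']
      exact TensorProduct.quotTensorEquivQuotSMul_mk_one_tmul _ c
    rw [hc, map_zero, map_zero] at h1
    have h2 := (Submodule.Quotient.mk_eq_zero _).mp h1.symm
    rw [hIe] at h2
    exact h2
  obtain ⟨S, hS⟩ := (Module.Finite.fg_top : (⊤ : Submodule A (B ⊗[A] C)).FG)
  let N : Submodule A C :=
    Submodule.span A ((S.image (Function.surjInv hη) : Finset C) : Set C)
  have hN : Submodule.map η N = ⊤ := by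
    rw [Submodule.map_span, Finset.coe_image, Set.image_image]
    have h0 : (fun x => η (Function.surjInv hη x)) = id := funext (Function.surjInv_eq hη)
    rw [h0, Set.image_id]
    exact hS
  have hNtop : N = ⊤ := by
    apply eq_top_of_sup_smul_top (RingHom.ker (algebraMap A B)) hn N
    rw [eq_top_iff]
    intro c _
    have h3 : η c ∈ Submodule.map η N := by
      rw [hN]
      trivial
    obtain ⟨n, hn', hnc⟩ := h3
    have h0 : η (c - n) = 0 := by rw [map_sub, hnc, sub_self]
    have h4 := hker _ h0
    have hc : c = n + (c - n) := by abel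
    rw [hc]
    exact Submodule.add_mem_sup hn' h4
  refine ⟨?_⟩
  rw [← hNtop]
  exact Submodule.fg_span (Finset.finite_toSet _)

end Nakayama

section Bridge

variable {A : Type u} [CommRing A]

/-- the top cohomology of a bounded above complex is its top opcycles -/
lemma finite_HD_toD_iff (E : DRing.Cx A) (b : ℤ) (hv : DRing.VanishesAbove E b) :
    Module.Finite A (Dual.HD A (DRing.toD E) b) ↔ Module.Finite A (E.opcycles b) := by
  have hd : E.d b (b + 1) = 0 := (hv (b + 1) (by omega)).eq_of_tgt _ _
  let e : (DerivedCategory.homologyFunctor (ModuleCat.{u} A) b).obj (DRing.toD E) ≅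
      E.opcycles b :=
    (DerivedCategory.homologyFunctorFactors (ModuleCat.{u} A) b).app E ≪≫
      E.isoHomologyι b (b + 1) (by simp) hd
  exact ⟨fun h => Module.Finite.equiv e.toLinearEquiv,
    fun h => Module.Finite.equiv e.symm.toLinearEquiv⟩

variable {B : Type u} [CommRing B] (φ : A →+* B)

/-- extension of scalars commutes with opcycles -/
noncomputable def extOpcyclesIso (P : DRing.Cx A) (b : ℤ) :
    (ModuleCat.extendScalars.{u, u, u} φ).obj (P.opcycles b) ≅
      ((bcCxF φ).obj P).opcycles b :=
  IsColimit.coconePointUniqueUpToIso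
    (CokernelCofork.mapIsColimit _ (P.opcyclesIsCokernel (b - 1) b (by simp))
      (ModuleCat.extendScalars.{u, u, u} φ))
    (((bcCxF φ).obj P).opcyclesIsCokernel (b - 1) b (by simp))

/-- base change of homotopy equivalent complexes -/
lemma nonempty_toD_bcCxF_iso {P P' : DRing.Cx A} [P.IsKProjective] [P'.IsKProjective]
    (e : DRing.toD P ≅ DRing.toD P') :
    Nonempty (DRing.toD ((bcCxF φ).obj P) ≅ DRing.toD ((bcCxF φ).obj P')) := by
  obtain ⟨e'⟩ := Groth.Agent.Helper6.KProjHtpy.nonempty_homotopyEquiv e
  have e'' : HomotopyEquiv ((bcCxF φ).obj P) ((bcCxF φ).obj P') :=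
    (ModuleCat.extendScalars.{u, u, u} φ).mapHomotopyEquiv e'
  have : IsIso (Q.map e''.hom) := (isIso_Q_map_iff_quasiIso _ _).mpr inferInstance
  exact ⟨asIso (Q.map e''.hom)⟩

end Bridge

section Family

variable {A : Type u} [CommRing A] {ι : Type} {B : ι → Type u} [∀ s, CommRing (B s)]
  (φ : ∀ s, A →+* B s)

/-- a family of ring maps detects finiteness of modules -/
def DetectsFinite : Prop :=
  ∀ M : ModuleCat.{u} A,
    (∀ s, Module.Finite (B s) ((ModuleCat.extendScalars.{u, u, u} (φ s)).obj M)) →
      Module.Finite A M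

theorem isPseudoCoherent_aux (hN : DetectsFinite φ) (m : ℤ) (n : ℕ) :
    ∀ (P : DRing.Cx A) (b : ℤ), b < m + n → DRing.VanishesAbove P b →
      (∀ i, Module.Projective A (P.X i)) →
      (∀ s (m' : ℤ), DRing.IsPseudoCoherent (B s) m' (DRing.toD ((bcCxF (φ s)).obj P))) →
      DRing.IsPseudoCoherent A m (DRing.toD P) := by
  induction n with
  | zero =>
    intro P b hbm hPv _ _
    haveI := isStrictlyLE_of_vanishesAbove P b hPv
    haveI : (DRing.toD P).IsLE b := inferInstanceAs ((Q.obj P).IsLE b)
    haveI : (DRing.toD P).IsLE (m - 1) :=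
      TStructure.t.isLE_of_le _ b (m - 1) (by simp at hbm; omega)
    exact isPseudoCoherent_of_isLE _ m
  | succ n ih =>
    intro P b hbm hPv hPp h
    haveI hPk : P.IsKProjective := isKProjective_of_vanishesAbove P b hPv hPp
    haveI := isStrictlyLE_of_vanishesAbove P b hPv
    haveI hPLE : (DRing.toD P).IsLE b := inferInstanceAs ((Q.obj P).IsLE b)
    -- finiteness of the top cohomology
    have hfin : Module.Finite A (Dual.HD A (DRing.toD P) b) := by
      rw [finite_HD_toD_iff P b hPv]
      apply hN
      intro s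
      haveI := bcCxF_isLE (φ s) P b hPv
      have hv' : DRing.VanishesAbove ((bcCxF (φ s)).obj P) b := fun i hi =>
        Functor.map_isZero (ModuleCat.extendScalars.{u, u, u} (φ s)) (hPv i hi)
      have h1 : Module.Finite (B s) (Dual.HD (B s) (DRing.toD ((bcCxF (φ s)).obj P)) b) :=
        finite_HD_of_isPseudoCoherent _ b (h s b)
      rw [finite_HD_toD_iff _ b hv'] at h1
      haveI := h1
      exact Module.Finite.equiv (extOpcyclesIso (φ s) P b).symm.toLinearEquiv
    obtain ⟨k, α, hα⟩ := exists_single_approx (DRing.toD P) b hfin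
    obtain ⟨E, hEv, hEf, ⟨eE⟩⟩ := isBFF_inD_shift (A := A) k b
    have hEp : ∀ i, Module.Projective A (E.X i) := fun i => by
      have := (hEf i).2
      infer_instance
    have hEv' : DRing.VanishesAbove E (b + 1) := fun i hi => hEv i (Or.inr (by omega))
    haveI hEk : E.IsKProjective := isKProjective_of_vanishesAbove E (b + 1) hEv' hEp
    obtain ⟨a, ha⟩ := exists_Q_map_eq E P (eE.hom ≫ α)
    have h1 : IsApprox b (Q.map a) := by
      rw [ha]
      exact (isApprox_of_isIso b eE.hom).comp hα
    have hT := DerivedCategory.mappingCone_triangle_distinguished a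
    have hC : (Q.obj (CochainComplex.mappingCone a)).IsLE (b - 1) :=
      (isApprox_iff_isLE _ hT b).mp h1
    have hCv := cone_vanishesAbove a b hEv' hPv
    have hCp := cone_termwiseProjective a hEp hPp
    haveI hCk : (CochainComplex.mappingCone a).IsKProjective :=
      isKProjective_of_vanishesAbove _ b hCv hCp
    haveI : (DRing.toD (CochainComplex.mappingCone a)).IsLE (b - 1) := hC
    obtain ⟨P₁, hP₁v, hP₁p, ⟨e₁⟩⟩ :=
      exists_projective_rep (DRing.toD (CochainComplex.mappingCone a)) (b - 1)
    haveI hP₁k : P₁.IsKProjective := isKProjective_of_vanishesAbove P₁ (b - 1) hP₁v hP₁p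
    have hEpc : ∀ m' : ℤ, DRing.IsPseudoCoherent A m' (Q.obj E) := fun m' =>
      isPseudoCoherent_of_isBFF (a := b) (b := b) ⟨E, hEv, hEf, ⟨Iso.refl _⟩⟩ m'
    have hP₁ : ∀ s (m' : ℤ),
        DRing.IsPseudoCoherent (B s) m' (DRing.toD ((bcCxF (φ s)).obj P₁)) := by
      intro s m'
      obtain ⟨i0⟩ := nonempty_toD_bcCxF_iso (φ s) e₁
      have i1 : Q.obj ((bcCxF (φ s)).obj (CochainComplex.mappingCone a)) ≅
          Q.obj (CochainComplex.mappingCone ((bcCxF (φ s)).map a)) :=
        Q.mapIso (CochainComplex.mappingCone.mapHomologicalComplexIso a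
          (ModuleCat.extendScalars.{u, u, u} (φ s)))
      have hT' := DerivedCategory.mappingCone_triangle_distinguished ((bcCxF (φ s)).map a)
      refine isPseudoCoherent_of_iso (i1.symm ≪≫ i0.symm) ?_
      refine isPseudoCoherent_obj₃ _ hT' m' ?_ (h s m')
      letI : Algebra A (B s) := (φ s).toAlgebra
      exact isPseudoCoherent_of_isBFF (a := b) (b := b)
        ⟨(bcCx A (B s)).obj E, bcCx_vanishesOutside (B s) E b b hEv,
          bcCx_termwiseFiniteFree (B s) E hEf, ⟨Iso.refl _⟩⟩ (m' + 1)
    have hP₁pc : DRing.IsPseudoCoherent A m (DRing.toD P₁) :=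
      ih P₁ (b - 1) (by push_cast at hbm; omega) hP₁v hP₁p hP₁
    have hCpc : DRing.IsPseudoCoherent A m (Q.obj (CochainComplex.mappingCone a)) :=
      isPseudoCoherent_of_iso e₁ hP₁pc
    exact isPseudoCoherent_obj₂ _ hT m (hEpc m) hCpc

end Family

section Single

variable {A B : Type u} [CommRing A] [CommRing B] (φ : A →+* B)

lemma detectsFinite_single (hφ : Function.Surjective φ) (hnil : IsNilpotent (RingHom.ker φ)) :
    DetectsFinite (fun _ : Unit => φ) := by
  intro M h
  have h0 := h ()
  letI : Algebra A B := φ.toAlgebra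
  haveI : Module.Finite B ((ModuleCat.extendScalars.{u, u, u} (algebraMap A B)).obj M) := h0
  have h2 : Module.Finite B (B ⊗[A] M) := Module.Finite.equiv (extendScalarsEquiv (B := B) M)
  exact finite_of_finite_tensor hφ hnil M h2

variable [DRing.HasLBaseChange φ]

/-- boundedness above descends along a surjection with nilpotent kernel -/
theorem isLE_of_isLE_LBaseChange (hφ : Function.Surjective φ)
    (hnil : IsNilpotent (RingHom.ker φ)) (K' : Dual.D A) (b : ℤ)
    (h : ((DRing.LBaseChange φ).obj K').IsLE b) : K'.IsLE b := by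
  obtain ⟨P, f, hP, hkf, hproj, hq, -⟩ :=
    Groth.Agent.Helper6.KProjRes.exists_resolution (DerivedCategory.Q.objPreimage K')
  haveI := hP
  have hiso : IsIso (DerivedCategory.Q.map f) :=
    (DerivedCategory.isIso_Q_map_iff_quasiIso _ _).mpr hq
  let e : DRing.toD P ≅ K' :=
    asIso (DerivedCategory.Q.map f) ≪≫ DerivedCategory.Q.objObjPreimageIso K'
  have fP : DRing.TermwiseFlat P := fun j => by
    haveI := hproj j
    infer_instance
  haveI : ((bcCxF φ).obj P).IsKProjective := Groth.Agent.Helper6.LBaseCmp.isKProjective_ext φ P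
  let e2 : DRing.toD ((bcCxF φ).obj P) ≅ (DRing.LBaseChange φ).obj K' :=
    (lbcIso φ P).symm ≪≫ (DRing.LBaseChange φ).mapIso e
  haveI := h
  have h1 : (Q.obj ((bcCxF φ).obj P)).IsLE b := TStructure.t.isLE_of_iso e2.symm b
  rw [DerivedCategory.isLE_Q_obj_iff, CochainComplex.isLE_iff] at h1
  have h3 : ∀ (N' : ModuleCat.{u} A) (i : ℤ), b < i → (DRing.tensorCx P N').ExactAt i :=
    fun N' i hi =>
      (Groth.Agent.Helper6.RingChangeAmp.forall_exactAt_iff_of_nilpotent φ hφ hnil P fP i).mp
        (fun N => Groth.Agent.Helper6.RingChangeAmp.exactAt_tensorCx_of_exactAt_above _ b h1 N i hi)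
        N'
  have h4 : ∀ i, b < i → P.ExactAt i := fun i hi =>
    exactAt_of_exactAt_tensorCx_unit P i (h3 _ i hi)
  haveI : P.IsLE b := by
    rw [CochainComplex.isLE_iff]
    exact h4
  haveI : (DRing.toD P).IsLE b := inferInstanceAs ((Q.obj P).IsLE b)
  exact TStructure.t.isLE_of_iso e b

/-- pseudo-coherence can be tested after derived base change along a surjection with nilpotent
kernel -/
theorem main (hφ : Function.Surjective φ) (hnil : IsNilpotent (RingHom.ker φ))
    (K' : Dual.D A) :
    DRing.IsPseudoCoherent' B ((DRing.LBaseChange φ).obj K') ↔ DRing.IsPseudoCoherent' A K' := by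
  constructor
  · intro h
    have h' := (isPseudoCoherent'_iff_forall _).mp h
    obtain ⟨E, b, hb, -, ⟨eE⟩⟩ := h
    haveI := isStrictlyLE_of_vanishesAbove E b hb
    haveI : (DRing.toD E).IsLE b := inferInstanceAs ((Q.obj E).IsLE b)
    have hLE : ((DRing.LBaseChange φ).obj K').IsLE b := TStructure.t.isLE_of_iso eE b
    haveI hK : K'.IsLE b := isLE_of_isLE_LBaseChange φ hφ hnil K' b hLE
    obtain ⟨P, hPv, hPp, ⟨e⟩⟩ := exists_projective_rep K' b
    haveI hPk : P.IsKProjective := isKProjective_of_vanishesAbove P b hPv hPp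
    let e2 : DRing.toD ((bcCxF φ).obj P) ≅ (DRing.LBaseChange φ).obj K' :=
      (lbcIso φ P).symm ≪≫ (DRing.LBaseChange φ).mapIso e
    rw [isPseudoCoherent'_iff_forall]
    intro m
    refine isPseudoCoherent_of_iso e ?_
    exact isPseudoCoherent_aux (fun _ : Unit => φ) (detectsFinite_single φ hφ hnil) m
      (b - m + 1).toNat P b (by omega) hPv hPp
      (fun _ m' => isPseudoCoherent_of_iso e2.symm (h' m'))
  · intro h
    rw [isPseudoCoherent'_iff_forall] at h ⊢
    intro m
    exact isPseudoCoherent_LBaseChange φ K' m (h m)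

end Single

end Groth.Agent.Helper6.PCNilLift
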