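import Mathlib
import Groth.Prelude.Def_DRing2
import Groth.Prelude.Def_DDual2
import Groth.Agent.Helper3.DRingRestr
import Groth.Agent.Helper3.DRingTor4
import Groth.Agent.Helper2.FlatHens1

/-! Tor amplitude of a complex over a (strict) henselization can be tested over the base. -/

set_option autoImplicit false
set_option linter.style.haveILetI false
set_option linter.unusedSectionVars false

universe u
open CategoryTheory CategoryTheory.Limits Pretriangulated DerivedCategory
attribute [local instance] HasDerivedCategory.standard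

namespace Groth.Agent.Helper6.TorAmpHens
open Groth.Agent.Helper3.DRingLib

variable {A S : Type u} [CommRing A] [CommRing S] [Algebra A S]

/-- flat modules over `S` restrict to flat modules over `A` when `S` is flat over `A` -/
lemma flat_rF [Module.Flat A S] (M : ModuleCat.{u} S) [Module.Flat S M] :
    Module.Flat A ((rF (algebraMap A S)).obj M) := by
  letI : Module A M := Module.compHom M (algebraMap A S)
  haveI : IsScalarTower A S M := ⟨fun a s m => by
    change (a • s) • m = algebraMap A S a • (s • m)
    rw [Algebra.smul_def, mul_smul]⟩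
  exact Module.Flat.trans A S M

lemma hasTorAmplitudeIn_restrict [Module.Flat A S] (a b : ℤ) (K : Dual.D S)
    (h : DRing.HasTorAmplitudeIn S a b K) :
    DRing.HasTorAmplitudeIn A a b ((DRing.restrictD (algebraMap A S)).obj K) := by
  obtain ⟨E, hv, hfl, ⟨e⟩⟩ := h
  refine ⟨(rCx (algebraMap A S)).obj E,
    fun i hi => (rF (algebraMap A S)).map_isZero (hv i hi), fun i => ?_,
    ⟨(rDToD (algebraMap A S) E).symm ≪≫ (DRing.restrictD (algebraMap A S)).mapIso e⟩⟩
  haveI := hfl i
  exact flat_rF (E.X i)

/-- the converse when flatness of `S`-modules can be tested over `A` -/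
theorem hasTorAmplitudeIn_of_restrict [Module.Flat A S]
    (G : ∀ (M : Type u) [AddCommGroup M] [Module S M] [Module A M] [IsScalarTower A S M],
      Module.Flat A M → Module.Flat S M)
    (a b : ℤ) (K : Dual.D S)
    (h : DRing.HasTorAmplitudeIn A a b ((DRing.restrictD (algebraMap A S)).obj K)) :
    DRing.HasTorAmplitudeIn S a b K := by
  obtain ⟨φ, hφ⟩ : ∃ φ : A →+* S, φ = algebraMap A S := ⟨_, rfl⟩
  rw [← hφ] at h
  rw [hasTorAmplitudeIn_iff'] at h
  obtain ⟨h1, h2⟩ := h
  haveI hKb : K.IsLE b := (rD_isLE_iff φ K b).mp h1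
  by_cases hab : a ≤ b
  swap
  · have h3 := h2.isGE
    haveI : K.IsGE a := (rD_isGE_iff φ K a).mp h3
    exact hasTorAmplitudeIn_of_isZero (TStructure.t.isZero K b a (by omega)) a b
  obtain ⟨P, hP, pP, ⟨e⟩⟩ := exists_projective_rep K b
  have fP : DRing.TermwiseFlat P := fun i => by
    have := pP i
    infer_instance
  have hP' : DRing.VanishesAbove ((rCx φ).obj P) b := fun i hi => (rF φ).map_isZero (hP i hi)
  have fP' : DRing.TermwiseFlat ((rCx φ).obj P) := fun i => by
    haveI := fP i
    rw [hφ]
    exact flat_rF (P.X i)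
  have e' : DRing.toD ((rCx φ).obj P) ≅ (DRing.restrictD φ).obj K :=
    (rDToD φ P).symm ≪≫ (DRing.restrictD φ).mapIso e
  have hex := h2.forall_rep ((rCx φ).obj P) b hP' fP' e'
  have hGE : P.IsGE a := by
    rw [CochainComplex.isGE_iff]
    intro i hi
    have h0 : ((rCx φ).obj P).ExactAt i := exactAt_of_exactAt_tensorCx_unit _ i (hex _ i hi)
    rw [HomologicalComplex.exactAt_iff_isZero_homology] at h0 ⊢
    have h1 : IsZero ((rF φ).obj (P.homology i)) := IsZero.of_iso h0 (rHomologyIso φ P i).symm
    have hs : Subsingleton ((rF φ).obj (P.homology i)) := ModuleCat.subsingleton_of_isZero h1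
    haveI : Subsingleton (P.homology i) := hs
    exact ModuleCat.isZero_of_subsingleton _
  have hflatC : Module.Flat S (P.X a ⧸ LinearMap.range (P.d (a - 1) a).hom) := by
    letI : Module A (P.X a) := Module.compHom (P.X a) φ
    haveI : IsScalarTower A S (P.X a) := ⟨fun x s m => by
      change (x • s) • m = φ x • (s • m)
      rw [hφ, Algebra.smul_def, mul_smul]⟩
    have hA : Module.Flat A (((rCx φ).obj P).X a ⧸
        LinearMap.range (((rCx φ).obj P).d (a - 1) a).hom) :=
      flat_coker_of_exactAt_tensorCx ((rCx φ).obj P) a (fP' a)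
        (fun N => hex N (a - 1) (by omega))
    refine G _ ?_
    have hEq : (LinearMap.range (P.d (a - 1) a).hom).restrictScalars A =
        LinearMap.range (((rCx φ).obj P).d (a - 1) a).hom := by
      ext x
      constructor
      · rintro ⟨y, hy⟩
        exact ⟨y, hy⟩
      · rintro ⟨y, hy⟩
        exact ⟨y, hy⟩
    exact (Module.Flat.equiv_iff
      ((Submodule.Quotient.restrictScalarsEquiv A
        (LinearMap.range (P.d (a - 1) a).hom)).symm ≪≫ₗ Submodule.quotEquivOfEq _ _ hEq)).mpr hA
  have hq : QuasiIso (P.πTruncGE a) := inferInstance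
  have hiso : IsIso (DerivedCategory.Q.map (P.πTruncGE a)) :=
    (DerivedCategory.isIso_Q_map_iff_quasiIso (ModuleCat.{u} S) _).mpr hq
  refine ⟨P.truncGE a, ?_, ?_, ⟨(asIso (DerivedCategory.Q.map (P.πTruncGE a))).symm ≪≫ e⟩⟩
  · intro i hi
    rcases hi with hi | hi
    · exact (P.truncGE a).isZero_of_isStrictlyGE a i hi
    · exact (hP i hi).of_iso (P.truncGEXIso a i (by omega))
  · intro i
    by_cases h1 : i < a
    · have := ModuleCat.subsingleton_of_isZero ((P.truncGE a).isZero_of_isStrictlyGE a i h1)
      infer_instance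
    · by_cases h2 : i = a
      · subst h2
        let e1 := (P.truncGEXIsoOpcycles i) ≪≫ opcyclesIsoQuot P (i - 1) i (by omega)
        exact Module.Flat.of_linearEquiv e1.toLinearEquiv
      · have := fP i
        exact Module.Flat.of_linearEquiv (P.truncGEXIso a i (by omega)).toLinearEquiv

section Hens

open Groth.Agent.Helper1 Groth.Agent.Helper1.Hens Groth.Agent.Helper2.FlatHens

theorem main {A : Type u} [CommRing A] (p : Ideal A) [p.IsPrime]
    (Ah Ash : Type u) [CommRing Ah] [IsLocalRing Ah] [CommRing Ash] [IsLocalRing Ash]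
    [Algebra (Localization.AtPrime p) Ah] [IsLocalHom (algebraMap (Localization.AtPrime p) Ah)]
    [Hensel.IsHenselization (Localization.AtPrime p) Ah]
    [Algebra (Localization.AtPrime p) Ash] [IsLocalHom (algebraMap (Localization.AtPrime p) Ash)]
    [Hensel.IsStrictHenselization (Localization.AtPrime p) Ash]
    [Algebra Ah Ash] [IsScalarTower (Localization.AtPrime p) Ah Ash]
    (a b : ℤ) (K : Dual.D Ash) (L : Dual.D Ah) :
    [DRing.HasTorAmplitudeIn (Localization.AtPrime p) a b
        ((DRing.restrictD (algebraMap (Localization.AtPrime p) Ash)).obj K),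
     DRing.HasTorAmplitudeIn Ah a b ((DRing.restrictD (algebraMap Ah Ash)).obj K),
     DRing.HasTorAmplitudeIn Ash a b K].TFAE ∧
    (DRing.HasTorAmplitudeIn (Localization.AtPrime p) a b
        ((DRing.restrictD (algebraMap (Localization.AtPrime p) Ah)).obj L) ↔
      DRing.HasTorAmplitudeIn Ah a b L) := by
  haveI : Module.Flat (Localization.AtPrime p) Ah :=
    (Hens.faithfullyFlat_of_isHenselization (Localization.AtPrime p) Ah).toFlat
  haveI : Module.Flat (Localization.AtPrime p) Ash :=
    (Hens.faithfullyFlat_of_isStrictHenselization (Localization.AtPrime p) Ash).toFlat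
  haveI : Module.Flat Ah Ash := flat_hens (Localization.AtPrime p) Ah Ash
  have G1 : ∀ (M : Type u) [AddCommGroup M] [Module Ash M] [Module (Localization.AtPrime p) M]
      [IsScalarTower (Localization.AtPrime p) Ash M],
      Module.Flat (Localization.AtPrime p) M → Module.Flat Ash M := fun M _ _ _ _ h => by
    haveI := h
    exact flat_strict (Localization.AtPrime p) Ash M
  have G3 : ∀ (M : Type u) [AddCommGroup M] [Module Ah M] [Module (Localization.AtPrime p) M]
      [IsScalarTower (Localization.AtPrime p) Ah M],
      Module.Flat (Localization.AtPrime p) M → Module.Flat Ah M := fun M _ _ _ _ h => by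
    haveI := h
    exact flat_hens (Localization.AtPrime p) Ah M
  have G2 : ∀ (M : Type u) [AddCommGroup M] [Module Ash M] [Module Ah M]
      [IsScalarTower Ah Ash M], Module.Flat Ah M → Module.Flat Ash M := fun M _ _ _ _ h => by
    letI : Module (Localization.AtPrime p) M :=
      Module.compHom M (algebraMap (Localization.AtPrime p) Ash)
    haveI : IsScalarTower (Localization.AtPrime p) Ash M := ⟨fun x s m => by
      change (x • s) • m = algebraMap (Localization.AtPrime p) Ash x • (s • m)
      rw [Algebra.smul_def, mul_smul]⟩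
    haveI : IsScalarTower (Localization.AtPrime p) Ah M := ⟨fun x s m => by
      change (x • s) • m = algebraMap (Localization.AtPrime p) Ash x • (s • m)
      rw [← algebraMap_smul Ash (x • s) m, ← algebraMap_smul Ash s m, Algebra.smul_def, map_mul,
        ← IsScalarTower.algebraMap_apply, mul_smul]⟩
    haveI := h
    haveI : Module.Flat (Localization.AtPrime p) M :=
      Module.Flat.trans (Localization.AtPrime p) Ah M
    exact flat_strict (Localization.AtPrime p) Ash M
  constructor
  · tfae_have 1 → 3 := fun h => hasTorAmplitudeIn_of_restrict G1 a b K h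
    tfae_have 3 → 2 := fun h => hasTorAmplitudeIn_restrict a b K h
    tfae_have 2 → 3 := fun h => hasTorAmplitudeIn_of_restrict G2 a b K h
    tfae_have 3 → 1 := fun h => hasTorAmplitudeIn_restrict a b K h
    tfae_finish
  · exact ⟨fun h => hasTorAmplitudeIn_of_restrict G3 a b L h,
      fun h => hasTorAmplitudeIn_restrict a b L h⟩

end Hens

end Groth.Agent.Helper6.TorAmpHens
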