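import Mathlib
import Groth.Prelude.Def_DRing4
import Groth.Prelude.Def_DualSh
import Groth.Agent.Helper6.PCNilLift
import Groth.Agent.Helper6.RingChangeAmp
import Groth.Agent.Helper6.KilledMod
import Groth.Agent.Helper6.RingChangeTen
import Groth.Agent.Helper6.LBCFibre
import Groth.Agent.Helper6.TorAmpHens
import Groth.Agent.Helper3.DRingRestr
import Groth.Agent.Helper3.DRingTor4

/-!
# Relative perfectness and base change
-/

set_option autoImplicit false
set_option linter.style.haveILetI false
set_option linter.unusedSectionVars false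

universe u
open CategoryTheory CategoryTheory.Limits Pretriangulated DerivedCategory TensorProduct MonoidalCategory
attribute [local instance] HasDerivedCategory.standard

namespace Groth.Agent.Helper6.RelPerfBC
open Groth.Agent.Helper3.DRingLib Groth.Agent.Helper6.LBCCompute Groth.Agent.Helper6.LBCPC

section General

variable {A : Type u} [CommRing A]

lemma exactAt_tensorCx_of_cxIso {P P' : DRing.Cx A} (e : P ≅ P') (N : ModuleCat.{u} A) (i : ℤ)
    (h : (DRing.tensorCx P N).ExactAt i) : (DRing.tensorCx P' N).ExactAt i := by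
  have e' : DRing.tensorCx P N ≅ DRing.tensorCx P' N :=
    ((tensorRight N).mapHomologicalComplex (ComplexShape.up ℤ)).mapIso e
  rw [HomologicalComplex.exactAt_iff_isZero_homology] at h ⊢
  exact h.of_iso ((HomologicalComplex.homologyFunctor _ _ i).mapIso e').symm

/-- tor-amplitude tested on a bounded above termwise flat representative -/
theorem hasTorAmplitudeIn_iff_of_flat (G : DRing.Cx A) (c : ℤ) (hv : DRing.VanishesAbove G c)
    (fG : DRing.TermwiseFlat G) {K : Dual.D A} (e : DRing.toD G ≅ K) (a b : ℤ) :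
    DRing.HasTorAmplitudeIn A a b K ↔
      ∀ (N : ModuleCat.{u} A) (i : ℤ), (i < a ∨ b < i) → (DRing.tensorCx G N).ExactAt i := by
  rw [hasTorAmplitudeIn_iff']
  constructor
  · rintro ⟨h1, h2⟩ N i hi
    rcases hi with hi | hi
    · exact h2.forall_rep G c hv fG e N i hi
    · haveI := h1
      obtain ⟨P₀, hP₀, pP₀, ⟨e₀⟩⟩ := exists_projective_rep K b
      have fP₀ : DRing.TermwiseFlat P₀ := fun j => by
        haveI := pP₀ j
        infer_instance
      exact (exactAt_tensorCx_iff_of_iso b c hP₀ hv fP₀ fG (e₀ ≪≫ e.symm) N i).mp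
        (exactAt_of_isZero_X _ i (tensorCx_isZero_X P₀ N i (hP₀ i hi)))
  · intro h
    refine ⟨?_, G, c, hv, fG, ⟨e⟩, fun N i hi => h N i (Or.inl hi)⟩
    haveI : G.IsLE b := by
      rw [CochainComplex.isLE_iff]
      intro i hi
      exact exactAt_of_exactAt_tensorCx_unit G i (h _ i (Or.inr hi))
    haveI : (DRing.toD G).IsLE b := inferInstanceAs ((Q.obj G).IsLE b)
    exact TStructure.t.isLE_of_iso e b

lemma mem_smul_top_of_one_tmul_eq_zero {B : Type u} [CommRing B] [Algebra A B]
    (hs : Function.Surjective (algebraMap A B))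
    (C : Type u) [AddCommGroup C] [Module A C] (c : C) (hc : (1 : B) ⊗ₜ[A] c = 0) :
    c ∈ RingHom.ker (algebraMap A B) • (⊤ : Submodule A C) := by
  let f : A →ₐ[A] B := Algebra.ofId A B
  have hf' : Function.Surjective f := hs
  let e := Ideal.quotientKerAlgEquivOfSurjective hf'
  have hIe : RingHom.ker f = RingHom.ker (algebraMap A B) := by
    ext x
    rw [RingHom.mem_ker, RingHom.mem_ker]
    rfl
  have h1 : TensorProduct.quotTensorEquivQuotSMul C (RingHom.ker f)
      ((e.symm.toLinearMap.rTensor C) ((1 : B) ⊗ₜ[A] c)) = Submodule.Quotient.mk c := by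
    rw [LinearMap.rTensor_tmul]
    have h1' : e.symm.toLinearMap (1 : B) = 1 := map_one e.symm
    rw [h1']
    exact TensorProduct.quotTensorEquivQuotSMul_mk_one_tmul _ c
  rw [hc, map_zero, map_zero] at h1
  have h2 := (Submodule.Quotient.mk_eq_zero _).mp h1.symm
  rw [hIe] at h2
  exact h2

end General

section BC

attribute [local instance] Algebra.TensorProduct.rightAlgebra

variable {R A R' : Type u} [CommRing R] [CommRing A] [CommRing R'] [Algebra R A] [Algebra R R']

/-- the `A`-module structure on the restriction of an `A`-module -/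
@[reducible] noncomputable def modA (X : ModuleCat.{u} A) :
    Module A ↑((ModuleCat.restrictScalars (algebraMap R A)).obj X) :=
  inferInstanceAs (Module A X)

lemma towerA (X : ModuleCat.{u} A) :
    letI := modA (R := R) X
    IsScalarTower R A ↑((ModuleCat.restrictScalars (algebraMap R A)).obj X) := by
  letI := modA (R := R) X
  refine ⟨fun r a x => ?_⟩
  change (r • a) • (show X from x) = algebraMap R A r • (a • (show X from x))
  rw [Algebra.smul_def, mul_smul]

/-- first step: `R' ⊗_R (X|_R)` -/
noncomputable def e1 (X : ModuleCat.{u} A) :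
    ↑((ModuleCat.extendScalars.{u, u, u} (algebraMap R R')).obj
      ((ModuleCat.restrictScalars (algebraMap R A)).obj X)) ≃ₗ[R']
      R' ⊗[R] ↑((ModuleCat.restrictScalars (algebraMap R A)).obj X) :=
  extendScalarsEquiv (B := R') ((ModuleCat.restrictScalars (algebraMap R A)).obj X)

/-- second step: cancel the base change -/
noncomputable def e2 (X : ModuleCat.{u} A) :
    R' ⊗[R] ↑((ModuleCat.restrictScalars (algebraMap R A)).obj X) ≃ₗ[R']
      (R' ⊗[R] A) ⊗[A] ↑X :=
  letI := modA (R := R) X
  haveI := towerA (R := R) X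
  (Algebra.IsPushout.cancelBaseChange R R' A (R' ⊗[R] A)
    ↑((ModuleCat.restrictScalars (algebraMap R A)).obj X)).symm

lemma e2_tmul (X : ModuleCat.{u} A) (s : R')
    (m : ↑((ModuleCat.restrictScalars (algebraMap R A)).obj X)) :
    e2 (R := R) (R' := R') X (s ⊗ₜ[R] m) =
      (algebraMap R' (R' ⊗[R] A) s) ⊗ₜ[A] (show ↑X from m) := by
  letI := modA (R := R) X
  haveI := towerA (R := R) X
  exact Algebra.IsPushout.cancelBaseChange_symm_tmul R R' A (R' ⊗[R] A)
    ↑((ModuleCat.restrictScalars (algebraMap R A)).obj X) s m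

/-- third step: back to `extendScalars` -/
noncomputable def e3 (X : ModuleCat.{u} A) :
    ((R' ⊗[R] A) ⊗[A] X) ≃ₗ[R']
      ↑((ModuleCat.restrictScalars (algebraMap R' (R' ⊗[R] A))).obj
        ((ModuleCat.extendScalars.{u, u, u} (algebraMap A (R' ⊗[R] A))).obj X)) :=
  { toFun := fun t => (extendScalarsEquiv (B := R' ⊗[R] A) X).symm t
    invFun := fun y => extendScalarsEquiv (B := R' ⊗[R] A) X y
    left_inv := fun t => (extendScalarsEquiv (B := R' ⊗[R] A) X).apply_symm_apply t
    right_inv := fun y => (extendScalarsEquiv (B := R' ⊗[R] A) X).symm_apply_apply y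
    map_add' := fun s t => map_add (extendScalarsEquiv (B := R' ⊗[R] A) X).symm s t
    map_smul' := fun r t => by
      have h1 : r • t = (algebraMap R' (R' ⊗[R] A) r) • t :=
        (algebraMap_smul (R' ⊗[R] A) r t).symm
      rw [h1]
      exact (extendScalarsEquiv (B := R' ⊗[R] A) X).symm.map_smul
        (algebraMap R' (R' ⊗[R] A) r) t }

/-- the base change isomorphism for modules -/
noncomputable def bcEquiv (X : ModuleCat.{u} A) :
    ↑((ModuleCat.extendScalars.{u, u, u} (algebraMap R R')).obj
      ((ModuleCat.restrictScalars (algebraMap R A)).obj X)) ≃ₗ[R']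
      ↑((ModuleCat.restrictScalars (algebraMap R' (R' ⊗[R] A))).obj
        ((ModuleCat.extendScalars.{u, u, u} (algebraMap A (R' ⊗[R] A))).obj X)) :=
  (e1 X).trans ((e2 X).trans (e3 X))

lemma e2_naturality {X Y : ModuleCat.{u} A} (f : X ⟶ Y)
    (z : R' ⊗[R] ↑((ModuleCat.restrictScalars (algebraMap R A)).obj X)) :
    e2 (R := R) (R' := R') Y
        ((((ModuleCat.restrictScalars (algebraMap R A)).map f).hom.lTensor R') z) =
      (f.hom.lTensor (R' ⊗[R] A)) (e2 (R := R) (R' := R') X z) := by
  induction z using TensorProduct.induction_on with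
  | zero => simp only [map_zero]
  | tmul s m =>
    rw [LinearMap.lTensor_tmul, e2_tmul, e2_tmul, LinearMap.lTensor_tmul]
    rfl
  | add a b ha hb => simp only [map_add, ha, hb]

lemma bcEquiv_apply (X : ModuleCat.{u} A)
    (t : ↑((ModuleCat.extendScalars.{u, u, u} (algebraMap R R')).obj
      ((ModuleCat.restrictScalars (algebraMap R A)).obj X))) :
    bcEquiv (R := R) (R' := R') X t = e3 X (e2 X (e1 X t)) := rfl

lemma e3_naturality {X Y : ModuleCat.{u} A} (f : X ⟶ Y) (w : (R' ⊗[R] A) ⊗[A] ↑X) :
    e3 (R := R) (R' := R') Y ((f.hom.lTensor (R' ⊗[R] A)) w) =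
      ((ModuleCat.restrictScalars (algebraMap R' (R' ⊗[R] A))).map
        ((ModuleCat.extendScalars.{u, u, u} (algebraMap A (R' ⊗[R] A))).map f)).hom
          (e3 (R := R) (R' := R') X w) := by
  have n3 := Groth.Agent.Helper6.LBCFibre.extendScalarsEquiv_naturality (R' ⊗[R] A) f
    ((extendScalarsEquiv (B := R' ⊗[R] A) X).symm w)
  rw [LinearEquiv.apply_symm_apply] at n3
  have h : (extendScalarsEquiv (B := R' ⊗[R] A) Y).symm ((f.hom.lTensor (R' ⊗[R] A)) w) =
      ((ModuleCat.extendScalars.{u, u, u} (algebraMap A (R' ⊗[R] A))).map f).hom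
        ((extendScalarsEquiv (B := R' ⊗[R] A) X).symm w) := by
    rw [LinearEquiv.symm_apply_eq]
    exact n3.symm
  exact h

lemma bcEquiv_naturality {X Y : ModuleCat.{u} A} (f : X ⟶ Y)
    (t : ↑((ModuleCat.extendScalars.{u, u, u} (algebraMap R R')).obj
      ((ModuleCat.restrictScalars (algebraMap R A)).obj X))) :
    bcEquiv (R := R) (R' := R') Y (((ModuleCat.extendScalars.{u, u, u} (algebraMap R R')).map
      ((ModuleCat.restrictScalars (algebraMap R A)).map f)).hom t) =
      ((ModuleCat.restrictScalars (algebraMap R' (R' ⊗[R] A))).map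
        ((ModuleCat.extendScalars.{u, u, u} (algebraMap A (R' ⊗[R] A))).map f)).hom
          (bcEquiv (R := R) (R' := R') X t) := by
  have n1 : e1 (R := R) (R' := R') Y
      (((ModuleCat.extendScalars.{u, u, u} (algebraMap R R')).map
        ((ModuleCat.restrictScalars (algebraMap R A)).map f)).hom t) =
      (((ModuleCat.restrictScalars (algebraMap R A)).map f).hom.lTensor R')
        (e1 (R := R) (R' := R') X t) :=
    Groth.Agent.Helper6.LBCFibre.extendScalarsEquiv_naturality R'
      ((ModuleCat.restrictScalars (algebraMap R A)).map f) t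
  rw [bcEquiv_apply, bcEquiv_apply, n1, e2_naturality, e3_naturality]

/-- the base change isomorphism for complexes -/
noncomputable def Θ (P : DRing.Cx A) :
    (bcCxF (algebraMap R R')).obj ((rCx (algebraMap R A)).obj P) ≅
      (rCx (algebraMap R' (R' ⊗[R] A))).obj ((bcCxF (algebraMap A (R' ⊗[R] A))).obj P) :=
  HomologicalComplex.Hom.isoOfComponents
    (fun i => (bcEquiv (P.X i)).toModuleIso)
    (fun i j _ => ModuleCat.hom_ext (LinearMap.ext fun t =>
      (bcEquiv_naturality (P.d i j) t).symm))

theorem exactAt_bc_iff (P : DRing.Cx A) (N' : ModuleCat.{u} R') (i : ℤ) :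
    (DRing.tensorCx ((rCx (algebraMap R' (R' ⊗[R] A))).obj
        ((bcCxF (algebraMap A (R' ⊗[R] A))).obj P)) N').ExactAt i ↔
      (DRing.tensorCx ((rCx (algebraMap R A)).obj P)
        ((ModuleCat.restrictScalars (algebraMap R R')).obj N')).ExactAt i :=
  ⟨fun h => Groth.Agent.Helper6.RingChangeTen.exactAt_tensorCx_res (algebraMap R R') N' _ i
      (exactAt_tensorCx_of_cxIso (Θ P).symm N' i h),
    fun h => exactAt_tensorCx_of_cxIso (Θ P) N' i
      (Groth.Agent.Helper6.RingChangeTen.exactAt_tensorCx_ext (algebraMap R R') N' _ i h)⟩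

end BC

end Groth.Agent.Helper6.RelPerfBC
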