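import Mathlib

set_option autoImplicit false

/-!
Finite length over Noetherian rings of dimension at most one.
-/

namespace Groth.Agent.Helper6.Dim1

universe u v

variable {R : Type u} [CommRing R]

theorem not_mem_minimalPrimes_of_nzd {x : R} (hx : x ∈ nonZeroDivisors R) :
    ∀ p ∈ minimalPrimes R, x ∉ p := by
  intro p hp hxp
  exact Set.disjoint_left.mp (Ideal.disjoint_nonZeroDivisors_of_mem_minimalPrimes hp) hxp hx

theorem not_mem_minimalPrimes_of_ne_zero [IsDomain R] {x : R} (hx : x ≠ 0) :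
    ∀ p ∈ minimalPrimes R, x ∉ p :=
  not_mem_minimalPrimes_of_nzd (mem_nonZeroDivisors_of_ne_zero hx)

theorem not_mem_minimalPrimes_pow {x : R} (hx : ∀ p ∈ minimalPrimes R, x ∉ p) (n : ℕ) :
    ∀ p ∈ minimalPrimes R, x ^ n ∉ p := by
  intro p hp hxp
  haveI : p.IsPrime := hp.1.1
  exact hx p hp (Ideal.IsPrime.mem_of_pow_mem inferInstance n hxp)

theorem not_mem_minimalPrimes_mul {x y : R} (hx : ∀ p ∈ minimalPrimes R, x ∉ p)
    (hy : ∀ p ∈ minimalPrimes R, y ∉ p) : ∀ p ∈ minimalPrimes R, x * y ∉ p := by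
  intro p hp hxy
  haveI : p.IsPrime := hp.1.1
  rcases Ideal.IsPrime.mem_or_mem inferInstance hxy with h | h
  · exact hx p hp h
  · exact hy p hp h

variable [IsNoetherianRing R]

theorem isArtinianRing_quot (hdim : ringKrullDim R ≤ 1) {x : R}
    (hx : ∀ p ∈ minimalPrimes R, x ∉ p) : IsArtinianRing (R ⧸ Ideal.span {x}) := by
  rw [isArtinianRing_iff_krullDimLE_zero]
  apply Ring.KrullDimLE.mk₀
  intro q hq
  haveI := hq
  have h1 : Ring.KrullDimLE 1 R := Ring.krullDimLE_iff.mpr (by exact_mod_cast hdim)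
  set p : Ideal R := q.comap (Ideal.Quotient.mk (Ideal.span {x})) with hp
  haveI : p.IsPrime := Ideal.comap_isPrime _ q
  have hxp : x ∈ p := by
    rw [hp, Ideal.mem_comap]
    have : Ideal.Quotient.mk (Ideal.span {x}) x = 0 :=
      Ideal.Quotient.eq_zero_iff_mem.mpr (Ideal.mem_span_singleton_self x)
    rw [this]; exact q.zero_mem
  have hpmax : p.IsMaximal := by
    rcases Ring.krullDimLE_one_iff.mp h1 p inferInstance with h | h
    · exact absurd hxp (hx p h)
    · exact h
  have hsurj : Function.Surjective (Ideal.Quotient.mk (Ideal.span {x})) :=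
    Ideal.Quotient.mk_surjective
  have hmap : p.map (Ideal.Quotient.mk (Ideal.span {x})) = q :=
    Ideal.map_comap_of_surjective _ hsurj q
  rcases Ideal.map_eq_top_or_isMaximal_of_surjective _ hsurj hpmax with h | h
  · rw [hmap] at h
    exact absurd h hq.ne_top
  · rwa [hmap] at h

/-- finitely generated modules killed by an element outside all minimal primes have finite length. -/
theorem length_ne_top_of_isTorsionBy (hdim : ringKrullDim R ≤ 1) {x : R}
    (hx : ∀ p ∈ minimalPrimes R, x ∉ p) (M : Type v) [AddCommGroup M] [Module R M]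
    [Module.Finite R M] (h : Module.IsTorsionBy R M x) : Module.length R M ≠ ⊤ := by
  haveI := isArtinianRing_quot hdim hx
  letI : Module (R ⧸ Ideal.span {x}) M := h.module
  haveI : IsScalarTower R (R ⧸ Ideal.span {x}) M := inferInstance
  haveI : Module.Finite (R ⧸ Ideal.span {x}) M := Module.Finite.of_restrictScalars_finite R _ M
  rw [Module.length_eq_of_surjective (R := R ⧸ Ideal.span {x}) (S := R) (M := M)
    Ideal.Quotient.mk_surjective]
  exact Module.length_ne_top

theorem length_quot_ne_top (hdim : ringKrullDim R ≤ 1) {x : R}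
    (hx : ∀ p ∈ minimalPrimes R, x ∉ p) : Module.length R (R ⧸ Ideal.span {x}) ≠ ⊤ := by
  apply length_ne_top_of_isTorsionBy hdim hx
  intro y
  obtain ⟨r, rfl⟩ := Ideal.Quotient.mk_surjective y
  rw [← Ideal.Quotient.mk_eq_mk, ← Submodule.Quotient.mk_smul, Ideal.Quotient.mk_eq_mk,
    Ideal.Quotient.eq_zero_iff_mem, smul_eq_mul]
  exact Ideal.mul_mem_right _ _ (Ideal.mem_span_singleton_self x)

variable (M : Type v) [AddCommGroup M] [Module R M] [Module.Finite R M]

theorem length_quotSMulTop_ne_top (hdim : ringKrullDim R ≤ 1) {x : R}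
    (hx : ∀ p ∈ minimalPrimes R, x ∉ p) : Module.length R (QuotSMulTop x M) ≠ ⊤ := by
  apply length_ne_top_of_isTorsionBy hdim hx
  intro y
  obtain ⟨m, rfl⟩ := Submodule.Quotient.mk_surjective _ y
  rw [← Submodule.Quotient.mk_smul, Submodule.Quotient.mk_eq_zero]
  exact Submodule.smul_mem_pointwise_smul m x ⊤ trivial

theorem length_ker_smul_ne_top (hdim : ringKrullDim R ≤ 1) {x : R}
    (hx : ∀ p ∈ minimalPrimes R, x ∉ p) :
    Module.length R (LinearMap.ker (x • (LinearMap.id : M →ₗ[R] M))) ≠ ⊤ := by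
  apply length_ne_top_of_isTorsionBy hdim hx
  intro y
  apply Subtype.ext
  have := y.2
  rw [LinearMap.mem_ker, LinearMap.smul_apply, LinearMap.id_apply] at this
  rw [Submodule.coe_smul, this]; rfl

end Groth.Agent.Helper6.Dim1
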