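import Mathlib
import Groth.Prelude.Def_Tame
import Groth.Agent.Helper6.Dim1Basic

set_option autoImplicit false

/-!
Interface for the integer valued order function `CycAlg.ordFrac`.
-/

namespace Groth.Agent.Helper6.Dim1

universe u v

variable {R : Type u} [CommRing R] [IsDomain R] [IsNoetherianRing R] {K : Type v} [Field K]
  [Algebra R K] [IsFractionRing R K]

theorem ordFrac_eq [Ring.KrullDimLE 1 R] (f : K) :
    CycAlg.ordFrac R K f =
      WithZero.recZeroCoe (motive := fun _ => ℤ) 0 (fun z => Multiplicative.toAdd z)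
        (Ring.ordFrac R f) := by
  unfold CycAlg.ordFrac
  rw [dif_pos ⟨inferInstance, inferInstance, inferInstance, inferInstance⟩]

theorem ordFrac_one [Ring.KrullDimLE 1 R] : CycAlg.ordFrac R K (1 : K) = 0 := by
  rw [ordFrac_eq, map_one]
  rfl

theorem ordFrac_mul [Ring.KrullDimLE 1 R] {f g : K} (hf : f ≠ 0) (hg : g ≠ 0) :
    CycAlg.ordFrac R K (f * g) = CycAlg.ordFrac R K f + CycAlg.ordFrac R K g := by
  rw [ordFrac_eq, ordFrac_eq, ordFrac_eq, map_mul]
  have h1 : Ring.ordFrac R f ≠ 0 := (map_ne_zero _).mpr hf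
  have h2 : Ring.ordFrac R g ≠ 0 := (map_ne_zero _).mpr hg
  obtain ⟨a, ha⟩ := WithZero.ne_zero_iff_exists.mp h1
  obtain ⟨b, hb⟩ := WithZero.ne_zero_iff_exists.mp h2
  rw [← ha, ← hb, ← WithZero.coe_mul]
  simp only [WithZero.recZeroCoe_coe, toAdd_mul]

theorem ordFrac_algebraMap [Ring.KrullDimLE 1 R] {a : R} (ha : a ≠ 0) :
    CycAlg.ordFrac R K (algebraMap R K a) =
      ((Module.length R (R ⧸ Ideal.span {a})).toNat : ℤ) := by
  have hnzd : a ∈ nonZeroDivisors R := mem_nonZeroDivisors_of_ne_zero ha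
  have hfin : Ring.ord R a ≠ ⊤ := Ring.ord_ne_top hnzd
  have hn : Ring.ord R a = ((Ring.ord R a).toNat : ℕ) := (ENat.natCast_toNat hfin).symm
  rw [ordFrac_eq, Ring.ordFrac_eq_ord R ha, Ring.ordMonoidWithZeroHom_eq_coe R hnzd hn]
  simp only [WithZero.recZeroCoe_coe, toAdd_ofAdd]
  rfl

theorem ordFrac_prod [Ring.KrullDimLE 1 R] {ι : Type*} (s : Finset ι) (c : ι → K)
    (hc : ∀ i ∈ s, c i ≠ 0) :
    CycAlg.ordFrac R K (∏ i ∈ s, c i) = ∑ i ∈ s, CycAlg.ordFrac R K (c i) := by
  classical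
  induction s using Finset.induction_on with
  | empty => simp [ordFrac_one]
  | insert i s his ih =>
    rw [Finset.prod_insert his, Finset.sum_insert his, ordFrac_mul, ih]
    · intro k hk
      exact hc k (Finset.mem_insert_of_mem hk)
    · exact hc i (Finset.mem_insert_self i s)
    · rw [Finset.prod_ne_zero_iff]
      intro k hk
      exact hc k (Finset.mem_insert_of_mem hk)

end Groth.Agent.Helper6.Dim1
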