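import Mathlib

set_option autoImplicit false

namespace Groth.Agent.Helper6.HomogRank

open MvPolynomial

variable (k : Type*) [Field k] (r : ℕ)

theorem finrank_homogeneousSubmodule (n : ℕ) :
    Module.finrank k (homogeneousSubmodule (Fin (r + 1)) k n) = Nat.choose (n + r) r := by
  classical
  rw [homogeneousSubmodule_eq_finsupp_supported]
  have hset : {d : Fin (r + 1) →₀ ℕ | d.degree = n}
      = ↑((Finset.univ : Finset (Fin (r + 1))).finsuppAntidiag n) := by
    ext d
    simp only [Set.mem_setOf_eq, Finset.mem_coe, Finset.mem_finsuppAntidiag, Finset.subset_univ,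
      and_true]
    rw [Finsupp.degree_eq_sum]
  rw [hset]
  rw [LinearEquiv.finrank_eq (AddMonoidAlgebra.supportedEquivFinsupp _)]
  rw [Module.finrank_finsupp_self]
  simp only [Finset.coe_sort_coe, Fintype.card_coe]
  rw [Finset.card_finsuppAntidiag_nat_eq_choose, Finset.card_univ, Fintype.card_fin]
  have : r + 1 + n - 1 = n + r := by omega
  rw [this, Nat.choose_symm_add]

end Groth.Agent.Helper6.HomogRank
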