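import Mathlib
import Groth.Agent.Helper2.Isch

set_option autoImplicit false
universe u
open Groth.Agent.Helper2

namespace Groth.Agent.Helper6.DepthHt

theorem height_Ici_eq (R : Type u) [CommRing R] (p s : Ideal R) [hp : p.IsPrime] [hs : s.IsPrime]
    (hps : p ≤ s) :
    Order.height (⟨⟨s, hs⟩, hps⟩ : Set.Ici (⟨p, hp⟩ : PrimeSpectrum R)) =
      (s.map (Ideal.Quotient.mk p)).height := by
  have hprime : (s.map (Ideal.Quotient.mk p)).IsPrime :=
    Ideal.map_isPrime_of_surjective Ideal.Quotient.mk_surjective (by rw [Ideal.mk_ker]; exact hps)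
  rw [show (s.map (Ideal.Quotient.mk p)).height = Order.height (⟨s.map (Ideal.Quotient.mk p), hprime⟩ : PrimeSpectrum (R ⧸ p)) from
    PrimeSpectrum.height_eq_orderHeight ⟨s.map (Ideal.Quotient.mk p), hprime⟩]
  have hset : PrimeSpectrum.zeroLocus (p : Set R) = Set.Ici (⟨p, hp⟩ : PrimeSpectrum R) := by
    ext x
    rw [PrimeSpectrum.mem_zeroLocus, Set.mem_Ici, SetLike.coe_subset_coe]
    rfl
  let e2 := p.primeSpectrumQuotientOrderIsoZeroLocus.trans (OrderIso.setCongr _ _ hset)
  rw [← Order.height_orderIso e2 ⟨s.map (Ideal.Quotient.mk p), hprime⟩]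
  congr 1
  apply Subtype.ext
  apply PrimeSpectrum.ext
  symm
  change (s.map (Ideal.Quotient.mk p)).comap (Ideal.Quotient.mk p) = s
  rw [Ideal.comap_map_of_surjective _ Ideal.Quotient.mk_surjective, ← RingHom.ker_eq_comap_bot,
    Ideal.mk_ker]
  exact sup_eq_left.mpr hps

theorem main (R : Type u) [CommRing R] [IsNoetherianRing R] (M : Type u) [AddCommGroup M]
    [Module R M] [Module.Finite R M] (p s : Ideal R) [hp : p.IsPrime] [hs : s.IsPrime]
    (hps : p ≤ s) :
    LocCoh.depth (Localization.AtPrime s) (LocalizedModule s.primeCompl M) ≤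
      LocCoh.depth (Localization.AtPrime p) (LocalizedModule p.primeCompl M) +
        (s.map (Ideal.Quotient.mk p)).height := by
  have h := Isch.depth_le_depth_add_height R M ⟨p, hp⟩ ⟨s, hs⟩ hps
  rw [height_Ici_eq R p s hps] at h
  exact h

end Groth.Agent.Helper6.DepthHt
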