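import Mathlib
import Groth.Prelude.Def_CAlg
import Groth.Agent.Helper1.SerreFlatU

/-! Serre's conditions pass to localizations at primes, and back at the maximal ideal. -/

set_option autoImplicit false
universe u

namespace Groth.Agent.Helper6.SerreNormal

open IsLocalRing Groth.Agent.Helper1.SerreFlatU

variable (R : Type u) [CommRing R] (p : Ideal R) [hp : p.IsPrime]

theorem unr_loc : Unr R (Localization.AtPrime p) := by
  intro Q hQ x hx
  obtain ⟨⟨a, s⟩, hxs⟩ := IsLocalization.surj p.primeCompl x
  simp only at hxs
  have hu : IsUnit (algebraMap R (Localization.AtPrime p) s) :=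
    IsLocalization.map_units (Localization.AtPrime p) s
  refine ⟨algebraMap R (Localization.AtPrime p) s, ?_, ?_⟩
  · intro h
    exact hQ.ne_top (Ideal.eq_top_of_isUnit_mem _ h hu)
  · rw [mul_comm, hxs]
    apply Ideal.mem_map_of_mem
    change algebraMap R (Localization.AtPrime p) a ∈ Q
    rw [← hxs]
    exact Ideal.mul_mem_right _ _ hx

variable [IsNoetherianRing R]

theorem hasSk_loc (k : ℕ) (h : LocCoh.HasSk k R R) :
    LocCoh.HasSk k (Localization.AtPrime p) (Localization.AtPrime p) := by
  rw [hasSk_iff] at h ⊢
  intro Q hQ
  rw [dim_atPrime' Q (unr_loc R p Q), depth_atPrime' Q (unr_loc R p Q)]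
  exact h (Q.under R)

theorem hasRk_loc (k : ℕ) (h : LocCoh.HasRk k R) : LocCoh.HasRk k (Localization.AtPrime p) := by
  intro Q hQ hk
  rw [regular_atPrime' Q (unr_loc R p Q)]
  exact h (Q.under R) (by rwa [← height_eq' Q (unr_loc R p Q)])

/-- transfer at the maximal ideal of the localization. -/
theorem transfer_max (P : ∀ (A : Type u) [CommRing A] [IsLocalRing A], Prop)
    (hP : ∀ (q : Ideal R) [q.IsPrime] (Q : Ideal (Localization.AtPrime p)) [Q.IsPrime],
      q = Q.under R → (P (Localization.AtPrime Q) ↔ P (Localization.AtPrime q)))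
    (h : P (Localization.AtPrime (maximalIdeal (Localization.AtPrime p)))) :
    P (Localization.AtPrime p) := by
  have h1 : p = (maximalIdeal (Localization.AtPrime p)).under R :=
    (IsLocalization.AtPrime.under_maximalIdeal (Localization.AtPrime p) p).symm
  exact (hP p (maximalIdeal (Localization.AtPrime p)) h1).mp h

theorem sk_at_of_loc (k : ℕ)
    (h : LocCoh.HasSk k (Localization.AtPrime p) (Localization.AtPrime p)) :
    min (k : WithBot ℕ∞) (ringKrullDim (Localization.AtPrime p)) ≤
      ((LocCoh.depth (Localization.AtPrime p) (Localization.AtPrime p) : ℕ∞) : WithBot ℕ∞) := by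
  rw [hasSk_iff] at h
  have h0 := h (maximalIdeal (Localization.AtPrime p))
  have key : ∀ (q : Ideal R) [q.IsPrime], q = (maximalIdeal (Localization.AtPrime p)).under R →
      min (k : WithBot ℕ∞) (ringKrullDim (Localization.AtPrime q)) ≤
      ((LocCoh.depth (Localization.AtPrime q) (Localization.AtPrime q) : ℕ∞) : WithBot ℕ∞) := by
    rintro q _ rfl
    rwa [dim_atPrime' _ (unr_loc R p _), depth_atPrime' _ (unr_loc R p _)] at h0
  exact key p (IsLocalization.AtPrime.under_maximalIdeal (Localization.AtPrime p) p).symm

theorem regular_at_of_loc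
    (h : IsRegularLocalRing (Localization.AtPrime (maximalIdeal (Localization.AtPrime p)))) :
    IsRegularLocalRing (Localization.AtPrime p) := by
  have key : ∀ (q : Ideal R) [q.IsPrime], q = (maximalIdeal (Localization.AtPrime p)).under R →
      IsRegularLocalRing (Localization.AtPrime q) := by
    rintro q _ rfl
    rwa [regular_atPrime' _ (unr_loc R p _)] at h
  exact key p (IsLocalization.AtPrime.under_maximalIdeal (Localization.AtPrime p) p).symm

theorem height_max_loc :
    (maximalIdeal (Localization.AtPrime p)).height = p.height := by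
  have key : ∀ (q : Ideal R) [q.IsPrime], q = (maximalIdeal (Localization.AtPrime p)).under R →
      (maximalIdeal (Localization.AtPrime p)).height = q.height := by
    rintro q _ rfl
    exact height_eq' _ (unr_loc R p _)
  exact key p (IsLocalization.AtPrime.under_maximalIdeal (Localization.AtPrime p) p).symm

end Groth.Agent.Helper6.SerreNormal
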