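import Mathlib
import Groth.Prelude.Def_CAlg
import Groth.Agent.Helper6.SerreNormal1
import Groth.Agent.Helper2.Caten
import Groth.Agent.Helper4.RegNormal
import Groth.Agent.Lead.RegLocal
import Groth.Agent.S0602
import Groth.Agent.S4721
import Groth.Agent.S16667

/-! Serre's criterion: a Noetherian local ring with `(R₁)` and `(S₂)` is a normal domain. -/

set_option autoImplicit false
universe u

namespace Groth.Agent.Helper6.SerreNormal

open IsLocalRing Groth.Agent.Helper1.SerreFlatU

variable (S : Type u) [CommRing S] [IsNoetherianRing S]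

theorem hasRk_mono {k l : ℕ} (hkl : k ≤ l) (h : LocCoh.HasRk l S) : LocCoh.HasRk k S := by
  intro p hp hk
  exact h p (hk.trans (by exact_mod_cast hkl))

theorem hasSk_mono {k l : ℕ} (hkl : k ≤ l) (h : LocCoh.HasSk l S S) : LocCoh.HasSk k S S := by
  intro p hp
  refine le_trans ?_ (h p)
  exact min_le_min_right _ (by exact_mod_cast hkl)

theorem isReduced_of_R1_S2 (h1 : LocCoh.HasRk 1 S) (h2 : LocCoh.HasSk 2 S S) : IsReduced S :=
  (Groth.Agent.S0602.result S).mpr ⟨hasRk_mono S (Nat.zero_le 1) h1, hasSk_mono S one_le_two h2⟩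

/-- depth at primes of height at least two. -/
theorem two_le_depth_of_S2 (h2 : LocCoh.HasSk 2 S S) (Q : Ideal S) [Q.IsPrime]
    (hQ : (2 : ℕ∞) ≤ Q.height) :
    (2 : ℕ∞) ≤ LocCoh.depth (Localization.AtPrime Q) (Localization.AtPrime Q) := by
  rw [hasSk_iff] at h2
  have := h2 Q
  have e2 : ((2 : ℕ) : WithBot ℕ∞) = ((2 : ℕ∞) : WithBot ℕ∞) := rfl
  rw [IsLocalization.AtPrime.ringKrullDim_eq_height Q, e2, min_eq_left (WithBot.coe_le_coe.mpr hQ),
    WithBot.coe_le_coe] at this
  exact this

/-- height at most one at primes of depth one. -/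
theorem height_le_one_of_depth_one (h2 : LocCoh.HasSk 2 S S) (Q : Ideal S) [Q.IsPrime]
    (hQ : LocCoh.depth (Localization.AtPrime Q) (Localization.AtPrime Q) = 1) :
    Q.height ≤ 1 := by
  by_contra hcon
  rw [not_le] at hcon
  have h2' : (2 : ℕ∞) ≤ Q.height := by
    have := Order.add_one_le_of_lt hcon
    rwa [one_add_one_eq_two] at this
  have := two_le_depth_of_S2 S h2 Q h2'
  rw [hQ] at this
  exact absurd this (by decide)

/-- a minimal prime inside `q` with `S_q` a domain is the kernel of the localization map. -/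
theorem minimal_eq_ker (q : Ideal S) [q.IsPrime] [IsDomain (Localization.AtPrime q)]
    (P : Ideal S) (hP : P ∈ minimalPrimes S) (hPq : P ≤ q) :
    P = RingHom.ker (algebraMap S (Localization.AtPrime q)) := by
  haveI := hP.1.1
  have hK : RingHom.ker (algebraMap S (Localization.AtPrime q)) ≤ P := by
    intro x hx
    rw [RingHom.mem_ker, IsLocalization.map_eq_zero_iff q.primeCompl] at hx
    obtain ⟨s, hs⟩ := hx
    have : (s : S) * x ∈ P := by rw [hs]; exact P.zero_mem
    rcases hP.1.1.mem_or_mem this with h | h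
    · exact absurd (hPq h) s.2
    · exact h
  have hprime : (RingHom.ker (algebraMap S (Localization.AtPrime q))).IsPrime :=
    RingHom.ker_isPrime _
  exact le_antisymm (hP.2 ⟨hprime, bot_le⟩ hK) hK

variable [IsLocalRing S]

theorem minimalPrimes_subsingleton (h1 : LocCoh.HasRk 1 S) (h2 : LocCoh.HasSk 2 S S)
    (P P' : Ideal S) (hP : P ∈ minimalPrimes S) (hP' : P' ∈ minimalPrimes S) : P = P' := by
  by_contra hne
  haveI := Groth.Agent.Helper2.Caten.connectedSpace_of_isLocalRing (A := S)
  obtain ⟨n, c, hc0, hcl, hcmin, hstep⟩ := Groth.Agent.S4721.result S 2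
    (fun Q _ hQ => two_le_depth_of_S2 S h2 Q (by exact_mod_cast hQ)) P P' hP hP' hne
  have hconst : ∀ i : Fin n, c i.castSucc = c i.succ := by
    intro i
    obtain ⟨q, hq, hle1, hle2, hht⟩ := hstep i
    have hq1 : q.height ≤ 1 := by
      have h2eq : ((2 : ℕ) : ℕ∞) = 1 + 1 := by norm_num
      rw [h2eq] at hht
      exact (ENat.add_le_add_iff_right (by simp)).mp hht
    haveI := h1 q (by exact_mod_cast hq1)
    haveI : IsDomain (Localization.AtPrime q) :=
      Groth.Agent.Lead.RegLocal.isDomain_of_isRegularLocalRing _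
    rw [minimal_eq_ker S q _ (hcmin _) hle1, minimal_eq_ker S q _ (hcmin _) hle2]
  have hall : ∀ i : Fin (n + 1), c i = c 0 := by
    intro i
    induction i using Fin.induction with
    | zero => rfl
    | succ i ih => rw [← hconst i, ih]
  apply hne
  rw [← hc0, ← hcl, hall (Fin.last n)]

theorem isDomain_of_R1_S2 (h1 : LocCoh.HasRk 1 S) (h2 : LocCoh.HasSk 2 S S) : IsDomain S := by
  haveI := isReduced_of_R1_S2 S h1 h2
  obtain ⟨P, hP⟩ := Ideal.exists_minimalPrimes_le (bot_le : (⊥ : Ideal S) ≤ maximalIdeal S)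
  have hP' : P ∈ minimalPrimes S := hP.1
  have hnil : nilradical S = P := by
    rw [nilradical, ← Ideal.sInf_minimalPrimes]
    apply le_antisymm
    · exact sInf_le hP'
    · apply le_sInf
      intro P' hP''
      rw [minimalPrimes_subsingleton S h1 h2 P P' hP' hP'']
  rw [nilradical_eq_zero] at hnil
  have hbot : (⊥ : Ideal S).IsPrime := by
    have : (⊥ : Ideal S) = P := hnil
    rw [this]
    exact hP'.1.1
  exact IsDomain.of_bot_isPrime S

theorem isIntegrallyClosed_of_R1_S2 [IsDomain S] (h1 : LocCoh.HasRk 1 S)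
    (h2 : LocCoh.HasSk 2 S S) : IsIntegrallyClosed S := by
  rw [isIntegrallyClosed_iff (FractionRing S)]
  intro x hx
  have := Groth.Agent.S16667.result h2 x (fun Q _ hQ => by
    have hht := height_le_one_of_depth_one S h2 Q hQ
    haveI := h1 Q (by exact_mod_cast hht)
    haveI : IsIntegrallyClosed (Localization.AtPrime Q) :=
      Groth.Agent.Helper4.RegNormal.isIntegrallyClosed_of_isRegularLocalRing _
    have hx' : IsIntegral (Localization.AtPrime Q) x := hx.tower_top
    exact (isIntegrallyClosed_iff (FractionRing S)).mp inferInstance hx')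
  exact this

end Groth.Agent.Helper6.SerreNormal
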