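import Mathlib
import Groth.Prelude.Def_CAlg
import Groth.Agent.Helper6.SerreNormal2
import Groth.Agent.Helper5.AssHt
import Groth.Agent.S11269

/-! Serre's criterion for normality. -/

set_option autoImplicit false
universe u

namespace Groth.Agent.Helper6.SerreNormal

open IsLocalRing Groth.Agent.Helper1.SerreFlatU

/-- a normal Noetherian local domain of dimension at most one is regular. -/
theorem regular_of_normal_dim_le_one (S : Type u) [CommRing S] [IsNoetherianRing S]
    [IsLocalRing S] [IsDomain S] [IsIntegrallyClosed S] (hdim : (maximalIdeal S).height ≤ 1) :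
    IsRegularLocalRing S := by
  by_cases hF : IsField S
  · letI := hF.toField
    infer_instance
  · have hne : maximalIdeal S ≠ ⊥ := fun h => hF (IsLocalRing.isField_iff_maximalIdeal_eq.mpr h)
    have huniq : ∃! P : Ideal S, P ≠ ⊥ ∧ P.IsPrime := by
      refine ⟨maximalIdeal S, ⟨hne, inferInstance⟩, ?_⟩
      rintro P ⟨hP0, hPprime⟩
      by_contra hPm
      have hlt : P < maximalIdeal S :=
        lt_of_le_of_ne (IsLocalRing.le_maximalIdeal hPprime.ne_top) hPm
      have h1 := Ideal.height_strict_mono_of_isPrime hlt
      have h2 : P.height = 0 := by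
        have : P.height < 1 := lt_of_lt_of_le h1 hdim
        exact Order.lt_one_iff.mp this
      rw [Ideal.height_eq_zero_iff, IsDomain.minimalPrimes_eq_singleton_bot] at h2
      exact hP0 h2
    have hint : IsIntegrallyClosed S := inferInstance
    have hdvr : IsDiscreteValuationRing S :=
      ((IsDiscreteValuationRing.TFAE S hF).out 0 3 rfl rfl).mpr ⟨hint, huniq⟩
    infer_instance

variable (R : Type u) [CommRing R] [IsNoetherianRing R]

theorem hasRk_one_of_normal
    (h : ∀ (p : Ideal R) [p.IsPrime], IsDomain (Localization.AtPrime p) ∧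
      IsIntegrallyClosed (Localization.AtPrime p)) : LocCoh.HasRk 1 R := by
  intro p hp hht
  haveI := (h p).1
  haveI := (h p).2
  apply regular_of_normal_dim_le_one
  rw [height_max_loc R p]
  exact_mod_cast hht

theorem hasSk_two_of_normal
    (h : ∀ (p : Ideal R) [p.IsPrime], IsDomain (Localization.AtPrime p) ∧
      IsIntegrallyClosed (Localization.AtPrime p)) : LocCoh.HasSk 2 R R := by
  rw [hasSk_iff]
  intro p hp
  haveI := (h p).1
  haveI := (h p).2
  apply sk_at_of_loc R p 2
  rw [Groth.Agent.S11269.result]
  intro a ha P hP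
  exact Groth.Agent.Helper5.AssHt.main _ a ha P hP

theorem main_S0601 :
    (∀ (p : Ideal R) [p.IsPrime], IsDomain (Localization.AtPrime p) ∧
      IsIntegrallyClosed (Localization.AtPrime p)) ↔ (LocCoh.HasRk 1 R ∧ LocCoh.HasSk 2 R R) := by
  constructor
  · intro h
    exact ⟨hasRk_one_of_normal R h, hasSk_two_of_normal R h⟩
  · rintro ⟨h1, h2⟩ p hp
    have h1' := hasRk_loc R p 1 h1
    have h2' := hasSk_loc R p 2 h2
    haveI := isDomain_of_R1_S2 (Localization.AtPrime p) h1' h2'
    exact ⟨this, isIntegrallyClosed_of_R1_S2 (Localization.AtPrime p) h1' h2'⟩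

end Groth.Agent.Helper6.SerreNormal
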