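import Mathlib
import Groth.Prelude.Def_CAlg
import Groth.Agent.Helper2.DepthCM2
import Groth.Agent.Helper2.RegCM
import Groth.Agent.Helper5.FtDim
import Groth.Agent.Helper5.FtDim4

set_option autoImplicit false

/-!
# Saturation of homogeneous complete intersections in a polynomial ring
-/

namespace Groth.Agent.Helper6.CISat

open IsLocalRing RingTheory.Sequence Module

universe u

section General

variable {A : Type u} [CommRing A]

/-- `ht I + dim A/I ≤ dim A` for an arbitrary ideal -/
theorem height_add_dim_quot_le (I : Ideal A) :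
    ((I.height : ℕ∞) : WithBot ℕ∞) + ringKrullDim (A ⧸ I) ≤ ringKrullDim A := by
  by_cases hne : Nonempty (PrimeSpectrum.zeroLocus (R := A) (I : Set A))
  · rw [ringKrullDim_quotient, Order.krullDim_eq_iSup_length, ← WithBot.coe_add,
      ENat.add_iSup, WithBot.coe_iSup (OrderTop.bddAbove _)]
    refine iSup_le (fun s => ?_)
    let P : PrimeSpectrum A := s.head.1
    have hP : I ≤ P.asIdeal := s.head.2
    have h1 : I.height ≤ P.asIdeal.height := Ideal.height_mono hP
    have h2 : ((P.asIdeal.height : ℕ∞) : WithBot ℕ∞) + ringKrullDim (A ⧸ P.asIdeal) ≤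
        ringKrullDim A := Groth.Agent.Helper5.FtDim.height_add_dim_quotient_le P.asIdeal
    have h3 : ((s.length : ℕ∞) : WithBot ℕ∞) ≤ ringKrullDim (A ⧸ P.asIdeal) := by
      rw [ringKrullDim_quotient]
      let s' : LTSeries (PrimeSpectrum.zeroLocus (R := A) (P.asIdeal : Set A)) :=
        { length := s.length
          toFun := fun i => ⟨(s i).1, by
            have : s.head ≤ s i := LTSeries.head_le s i
            exact this⟩
          step := fun i => s.step i }
      exact Order.LTSeries.length_le_krullDim s'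
    calc ((I.height + (s.length : ℕ∞) : ℕ∞) : WithBot ℕ∞)
        ≤ ((P.asIdeal.height : ℕ∞) : WithBot ℕ∞) + ((s.length : ℕ∞) : WithBot ℕ∞) := by
          rw [WithBot.coe_add]; gcongr; exact WithBot.coe_le_coe.2 h1
      _ ≤ ((P.asIdeal.height : ℕ∞) : WithBot ℕ∞) + ringKrullDim (A ⧸ P.asIdeal) := by gcongr
      _ ≤ ringKrullDim A := h2
  · rw [not_nonempty_iff] at hne
    rw [ringKrullDim_quotient, Order.krullDim_eq_bot, WithBot.add_bot]
    exact bot_le

end General

section Local

open Groth.Agent.Helper2.DepthCM2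

variable {A : Type u} [CommRing A] [IsNoetherianRing A] [IsLocalRing A]

/-- in a Cohen–Macaulay local ring of dimension `N`, if `r < N` elements generate an ideal of
height `≥ r`, then the maximal ideal is not associated to the quotient -/
theorem maximalIdeal_not_mem_ass (hCM : LocCoh.IsCohenMacaulayModule A A) (xs : List A)
    (mem : ∀ x ∈ xs, x ∈ maximalIdeal A) (N : ℕ) (hN : ringKrullDim A = N) (hlt : xs.length < N)
    (hht : (xs.length : ℕ∞) ≤ (Ideal.ofList xs).height) :
    maximalIdeal A ∉ associatedPrimes A (A ⧸ Ideal.ofList xs • (⊤ : Submodule A A)) := by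
  intro hass
  have hI : (Ideal.ofList xs • (⊤ : Submodule A A)) = Ideal.ofList xs := by
    rw [smul_eq_mul, Ideal.mul_top]
  have hdimA : supportDim A A = N := by rw [supportDim_self_eq_ringKrullDim, hN]
  have hq : supportDim A (A ⧸ Ideal.ofList xs • (⊤ : Submodule A A)) =
      ringKrullDim (A ⧸ Ideal.ofList xs) := by
    rw [supportDim_eq_of_equiv (Submodule.quotEquivOfEq _ _ hI)]
    exact supportDim_quotient_eq_ringKrullDim (Ideal.ofList xs)
  have h1 : supportDim A (A ⧸ Ideal.ofList xs • (⊤ : Submodule A A)) + xs.length =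
      supportDim A A := by
    apply le_antisymm
    · rw [hq, supportDim_self_eq_ringKrullDim]
      refine le_trans ?_ (height_add_dim_quot_le (Ideal.ofList xs))
      rw [add_comm]
      gcongr
      exact WithBot.coe_le_coe.2 hht
    · exact supportDim_le_quot_ofList_add xs A mem
  have h2 := weaklyRegular_of_dim_drop xs A hCM mem h1
  have h3 := cm_quot_ofList A hCM xs mem h2
  have h4 := cm_dim_quot_ass _ h3 (maximalIdeal A) hass
  have h5 : ringKrullDim (A ⧸ maximalIdeal A) = 0 :=
    ringKrullDim_eq_zero_of_isField ((Ideal.Quotient.maximal_ideal_iff_isField_quotient _).1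
      inferInstance)
  rw [h5] at h4
  rw [← h4, hdimA, zero_add] at h1
  have : xs.length = N := by exact_mod_cast h1
  omega

end Local

section Poly

open MvPolynomial

variable (k : Type u) [Field k] (n : ℕ)

theorem idealOfVars_eq_ker : idealOfVars (Fin (n + 1)) k =
    RingHom.ker (constantCoeff : MvPolynomial (Fin (n + 1)) k →+* k) := by
  ext p
  have := mem_pow_idealOfVars_iff' (σ := Fin (n + 1)) (R := k) 1 p
  rw [pow_one] at this
  rw [this, RingHom.mem_ker, constantCoeff_eq]
  constructor
  · intro h; exact h 0 (by simp)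
  · intro h x hx
    have hx0 : x.degree = 0 := by omega
    rw [Finsupp.degree_eq_zero_iff] at hx0
    rw [hx0]; exact h

theorem idealOfVars_isMaximal : (idealOfVars (Fin (n + 1)) k).IsMaximal := by
  rw [idealOfVars_eq_ker]
  exact RingHom.ker_isMaximal_of_surjective _ (fun a => ⟨C a, constantCoeff_C _ a⟩)

theorem main (r : ℕ) (hr : r ≤ n) (f : Fin r → MvPolynomial (Fin (n + 1)) k) (d : Fin r → ℕ)
    (hf : ∀ i, (f i).IsHomogeneous (d i)) (hd : ∀ i, 0 < d i)
    (hJ : (Ideal.span (Set.range f)).height = r) (g : MvPolynomial (Fin (n + 1)) k)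
    (hg : ∀ i : Fin (n + 1), ∃ m : ℕ, MvPolynomial.X i ^ m * g ∈ Ideal.span (Set.range f)) :
    g ∈ Ideal.span (Set.range f) := by
  classical
  by_contra hgJ
  set J : Ideal (MvPolynomial (Fin (n + 1)) k) := Ideal.span (Set.range f) with hJdef
  let m : Ideal (MvPolynomial (Fin (n + 1)) k) := idealOfVars (Fin (n + 1)) k
  have hmax : m.IsMaximal := idealOfVars_isMaximal k n
  haveI : m.IsPrime := hmax.isPrime
  -- `J ≤ m`
  have hfm : ∀ i, f i ∈ m := by
    intro i
    show f i ∈ idealOfVars (Fin (n + 1)) k
    rw [idealOfVars_eq_ker, RingHom.mem_ker, constantCoeff_eq]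
    exact (hf i).coeff_eq_zero (by simpa using (hd i).ne)
  -- an associated prime containing all variables
  have hne : (Ideal.Quotient.mk J g) ≠ 0 := by
    rwa [Ne, Ideal.Quotient.eq_zero_iff_mem]
  obtain ⟨P, hP, hle⟩ := exists_le_isAssociatedPrime_of_isNoetherianRing
    (MvPolynomial (Fin (n + 1)) k) (Ideal.Quotient.mk J g) hne
  have hPprime := hP.isPrime
  have hX : ∀ i, (X i : MvPolynomial (Fin (n + 1)) k) ∈ P := by
    intro i
    obtain ⟨mi, hmi⟩ := hg i
    have h1 : (X i : MvPolynomial (Fin (n + 1)) k) ^ mi ∈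
        (⊥ : Submodule (MvPolynomial (Fin (n + 1)) k) (MvPolynomial (Fin (n + 1)) k ⧸ J)).colon
          {Ideal.Quotient.mk J g} := by
      rw [Submodule.mem_colon_singleton, Submodule.mem_bot]
      have : (X i : MvPolynomial (Fin (n + 1)) k) ^ mi • (Ideal.Quotient.mk J g) =
          Ideal.Quotient.mk J (X i ^ mi * g) := by
        rw [map_mul]; rfl
      rw [this, Ideal.Quotient.eq_zero_iff_mem]
      exact hmi
    exact hPprime.mem_of_pow_mem _ (hle h1)
  have hmP : m ≤ P := Ideal.span_le.2 (by rintro _ ⟨i, rfl⟩; exact hX i)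
  have hPm : m = P := hmax.eq_of_le hPprime.ne_top hmP
  have hass : m ∈ associatedPrimes (MvPolynomial (Fin (n + 1)) k)
      (MvPolynomial (Fin (n + 1)) k ⧸ J) := by rw [hPm]; exact hP
  -- localize
  let A := Localization.AtPrime m
  haveI : IsRegularLocalRing A := IsRegularRing.isRegularLocalRing_localization m
  have hCM : LocCoh.IsCohenMacaulayModule A A := Groth.Agent.Helper2.RegCM.cm_of_isRegularLocalRing A
  have hdim : ringKrullDim A = ((n + 1 : ℕ) : WithBot ℕ∞) := by
    rw [IsLocalization.AtPrime.ringKrullDim_eq_height m A,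
      Groth.Agent.Helper5.FtDim.height_of_isMaximal_mvPolynomial k (n + 1) m hmax]
    rfl
  let xs : List A := List.ofFn (fun i => algebraMap (MvPolynomial (Fin (n + 1)) k) A (f i))
  have hxs : xs.length = r := List.length_ofFn
  have hmem : ∀ x ∈ xs, x ∈ maximalIdeal A := by
    intro x hx
    rw [List.mem_ofFn] at hx
    obtain ⟨i, rfl⟩ := hx
    rw [← Ideal.mem_comap, ← Ideal.under_def, IsLocalization.AtPrime.under_maximalIdeal A m]
    exact hfm i
  have hJle : J ≤ (Ideal.ofList xs).under (MvPolynomial (Fin (n + 1)) k) := by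
    rw [hJdef, Ideal.span_le]
    rintro _ ⟨i, rfl⟩
    show algebraMap _ A (f i) ∈ Ideal.ofList xs
    exact Ideal.subset_span (List.mem_ofFn.2 ⟨i, rfl⟩)
  have hht : (xs.length : ℕ∞) ≤ (Ideal.ofList xs).height := by
    rw [hxs, ← IsLocalization.height_under m.primeCompl (Ideal.ofList xs), ← hJ]
    exact Ideal.height_mono hJle
  have hnot := maximalIdeal_not_mem_ass hCM xs hmem (n + 1) hdim (by omega) hht
  apply hnot
  -- transfer the associated prime
  have h1 := Module.associatedPrimes.mem_associatedPrimes_of_comap_mem_associatedPrimes_of_isLocalizedModule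
    m.primeCompl
    (Submodule.toLocalizedQuotient' A m.primeCompl
      (Algebra.linearMap (MvPolynomial (Fin (n + 1)) k) A) J) (maximalIdeal A)
    (by rw [← Ideal.under_def, IsLocalization.AtPrime.under_maximalIdeal A m]; exact hass)
  have heq : Submodule.localized' A m.primeCompl
      (Algebra.linearMap (MvPolynomial (Fin (n + 1)) k) A) J =
      (Ideal.ofList xs • (⊤ : Submodule A A)) := by
    rw [smul_eq_mul, Ideal.mul_top, hJdef]
    show Submodule.localized' A m.primeCompl _ (Submodule.span _ (Set.range f)) = _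
    rw [Submodule.localized'_span]
    unfold Ideal.ofList
    congr 1
    ext x
    simp only [Set.mem_image, Set.mem_range, exists_exists_eq_and, Algebra.linearMap_apply,
      Set.mem_ofPred_eq, xs, List.mem_ofFn]
  exact (LinearEquiv.isAssociatedPrime_iff (Submodule.quotEquivOfEq _ _ heq)).1 h1

end Poly

end Groth.Agent.Helper6.CISat
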