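import Mathlib
import Groth.Prelude.Def_CAlg
import Groth.Agent.Helper6.CISat
import Groth.Agent.Helper6.SerreNormal3
import Groth.Agent.Helper2.FlatAscent

set_option autoImplicit false

/-!
# Normality of homogeneous complete intersections that are normal off the vertex
-/

namespace Groth.Agent.Helper6.CINormal

open IsLocalRing RingTheory.Sequence Module

universe u

section Local

open Groth.Agent.Helper2.DepthCM2

variable {A : Type u} [CommRing A] [IsNoetherianRing A] [IsLocalRing A]

/-- in a Cohen–Macaulay local ring, elements generating an ideal of height at least their number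
form a regular sequence with Cohen–Macaulay quotient -/
theorem cm_quot_of_height (hCM : LocCoh.IsCohenMacaulayModule A A) (xs : List A)
    (mem : ∀ x ∈ xs, x ∈ maximalIdeal A)
    (hht : (xs.length : ℕ∞) ≤ (Ideal.ofList xs).height) :
    supportDim A (A ⧸ Ideal.ofList xs • (⊤ : Submodule A A)) + xs.length = supportDim A A ∧
      LocCoh.IsCohenMacaulayModule A (A ⧸ Ideal.ofList xs • (⊤ : Submodule A A)) := by
  have hI : (Ideal.ofList xs • (⊤ : Submodule A A)) = Ideal.ofList xs := by
    rw [smul_eq_mul, Ideal.mul_top]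
  have hq : supportDim A (A ⧸ Ideal.ofList xs • (⊤ : Submodule A A)) =
      ringKrullDim (A ⧸ Ideal.ofList xs) := by
    rw [supportDim_eq_of_equiv (Submodule.quotEquivOfEq _ _ hI)]
    exact supportDim_quotient_eq_ringKrullDim (Ideal.ofList xs)
  have h1 : supportDim A (A ⧸ Ideal.ofList xs • (⊤ : Submodule A A)) + xs.length =
      supportDim A A := by
    apply le_antisymm
    · rw [hq, supportDim_self_eq_ringKrullDim]
      refine le_trans ?_ (Groth.Agent.Helper6.CISat.height_add_dim_quot_le (Ideal.ofList xs))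
      rw [add_comm]
      gcongr
      exact WithBot.coe_le_coe.2 hht
    · exact supportDim_le_quot_ofList_add xs A mem
  have h2 := weaklyRegular_of_dim_drop xs A hCM mem h1
  exact ⟨h1, cm_quot_ofList A hCM xs mem h2⟩

/-- Krull dimension and depth of the local ring `A ⧸ I` computed over `A`. -/
theorem quot_dim_depth (I : Ideal A) [Nontrivial (A ⧸ I)] :
    ringKrullDim (A ⧸ I) = supportDim A (A ⧸ I) ∧
      LocCoh.depth (A ⧸ I) (A ⧸ I) = LocCoh.depth A (A ⧸ I) := by
  refine ⟨(supportDim_quotient_eq_ringKrullDim I).symm, ?_⟩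
  haveI : IsLocalHom (algebraMap A (A ⧸ I)) :=
    IsLocalHom.of_surjective _ Ideal.Quotient.mk_surjective
  exact (Groth.Agent.Helper2.RegCM.depth_eq_of_isLocalHom A (A ⧸ I) (A ⧸ I)).symm

end Local

section LocQuot

variable {R : Type u} [CommRing R] (J m : Ideal R) [hm : m.IsPrime] (hJm : J ≤ m)

include hJm in
theorem map_isPrime : (m.map (Ideal.Quotient.mk J)).IsPrime :=
  Ideal.map_isPrime_of_surjective Ideal.Quotient.mk_surjective (by rwa [Ideal.mk_ker])

omit hm in
include hJm in
theorem mem_map_mk_iff (y : R) : Ideal.Quotient.mk J y ∈ m.map (Ideal.Quotient.mk J) ↔ y ∈ m := by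
  constructor
  · intro h
    rw [Ideal.mem_map_iff_of_surjective _ Ideal.Quotient.mk_surjective] at h
    obtain ⟨z, hz, hzy⟩ := h
    rw [Ideal.Quotient.eq] at hzy
    have : y = z - (z - y) := by ring
    rw [this]
    exact m.sub_mem hz (hJm hzy)
  · exact Ideal.mem_map_of_mem _

include hJm in
theorem submonoid_eq :
    haveI := map_isPrime J m hJm
    Algebra.algebraMapSubmonoid (R ⧸ J) m.primeCompl =
      (m.map (Ideal.Quotient.mk J)).primeCompl := by
  haveI := map_isPrime J m hJm
  ext x
  obtain ⟨y, rfl⟩ := Ideal.Quotient.mk_surjective x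
  constructor
  · rintro ⟨z, hz, hzy⟩
    show _ ∉ _
    rw [← hzy]
    show Ideal.Quotient.mk J z ∉ _
    intro hmem
    have := (mem_map_mk_iff J m hJm z).1 hmem
    exact hz this
  · intro hy
    refine ⟨y, ?_, rfl⟩
    show y ∉ m
    intro hmem
    exact hy ((mem_map_mk_iff J m hJm y).2 hmem)

include hJm in
theorem isLocalization_atPrime :
    haveI := map_isPrime J m hJm
    IsLocalization.AtPrime
      (Localization.AtPrime m ⧸ J.map (algebraMap R (Localization.AtPrime m)))
      (m.map (Ideal.Quotient.mk J)) := by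
  haveI := map_isPrime J m hJm
  show IsLocalization _ _
  rw [← submonoid_eq J m hJm]
  infer_instance


end LocQuot

section Homog

open MvPolynomial
attribute [local instance] MvPolynomial.gradedAlgebra

variable (k : Type u) [Field k] (σ : Type*)

theorem isHomogeneous_of_mem_minimalPrimes (J : Ideal (MvPolynomial σ k))
    (hJ : J.IsHomogeneous (homogeneousSubmodule σ k)) (P : Ideal (MvPolynomial σ k))
    (hP : P ∈ J.minimalPrimes) : P.IsHomogeneous (homogeneousSubmodule σ k) := by
  have hprime : P.IsPrime := hP.1.1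
  have hcore : (P.homogeneousCore (homogeneousSubmodule σ k)).toIdeal.IsPrime :=
    Ideal.IsPrime.homogeneousCore hprime
  have hJle : J ≤ (P.homogeneousCore (homogeneousSubmodule σ k)).toIdeal := by
    rw [← Ideal.IsHomogeneous.toIdeal_homogeneousCore_eq_self hJ]
    exact Ideal.homogeneousCore_mono (homogeneousSubmodule σ k) hP.1.2
  have hle : (P.homogeneousCore (homogeneousSubmodule σ k)).toIdeal ≤ P :=
    Ideal.toIdeal_homogeneousCore_le _ P
  have hge := hP.2 ⟨hcore, hJle⟩ hle
  have heq : P = (P.homogeneousCore (homogeneousSubmodule σ k)).toIdeal := le_antisymm hge hle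
  rw [heq]
  exact (P.homogeneousCore (homogeneousSubmodule σ k)).isHomogeneous

theorem constantCoeff_eq_zero_of_mem (P : Ideal (MvPolynomial σ k)) (hPtop : P ≠ ⊤)
    (hP : P.IsHomogeneous (homogeneousSubmodule σ k)) (p : MvPolynomial σ k) (hp : p ∈ P) :
    constantCoeff p = 0 := by
  by_contra hne
  have h0 := hP 0 hp
  have h1 : (DirectSum.decompose (homogeneousSubmodule σ k) p 0 : MvPolynomial σ k) =
      homogeneousComponent 0 p := decomposition.decompose'_apply p 0
  rw [h1, homogeneousComponent_zero] at h0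
  apply hPtop
  apply Ideal.eq_top_of_isUnit_mem _ h0
  have : IsUnit (coeff 0 p) := IsUnit.mk0 _ hne
  exact this.map C


end Homog

section Main

open MvPolynomial Groth.Agent.Helper6.SerreNormal Groth.Agent.Helper1.SerreFlatU

theorem main (k : Type u) [Field k] (n r : ℕ) (hr : r < n)
    (f : Fin r → MvPolynomial (Fin (n + 1)) k) (d : Fin r → ℕ)
    (hf : ∀ i, (f i).IsHomogeneous (d i)) (hd : ∀ i, 0 < d i)
    (hJ : (Ideal.span (Set.range f)).height = r)
    (hnorm : ∀ (Q : Ideal (MvPolynomial (Fin (n + 1)) k ⧸ Ideal.span (Set.range f))) [Q.IsPrime],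
      (∃ i, Ideal.Quotient.mk (Ideal.span (Set.range f)) (MvPolynomial.X i) ∉ Q) →
        IsDomain (Localization.AtPrime Q) ∧ IsIntegrallyClosed (Localization.AtPrime Q)) :
    IsDomain (MvPolynomial (Fin (n + 1)) k ⧸ Ideal.span (Set.range f)) ∧
      IsIntegrallyClosed (MvPolynomial (Fin (n + 1)) k ⧸ Ideal.span (Set.range f)) := by
  classical
  set J : Ideal (MvPolynomial (Fin (n + 1)) k) := Ideal.span (Set.range f) with hJdef
  let m : Ideal (MvPolynomial (Fin (n + 1)) k) := idealOfVars (Fin (n + 1)) k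
  have hmax : m.IsMaximal := Groth.Agent.Helper6.CISat.idealOfVars_isMaximal k n
  haveI hmprime : m.IsPrime := hmax.isPrime
  have hfm : ∀ i, f i ∈ m := by
    intro i
    show f i ∈ idealOfVars (Fin (n + 1)) k
    rw [Groth.Agent.Helper6.CISat.idealOfVars_eq_ker, RingHom.mem_ker, constantCoeff_eq]
    exact (hf i).coeff_eq_zero (by simpa using (hd i).ne)
  have hJm : J ≤ m := Ideal.span_le.2 (by rintro _ ⟨i, rfl⟩; exact hfm i)
  have hJhom : J.IsHomogeneous (homogeneousSubmodule (Fin (n + 1)) k) := by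
    apply Ideal.homogeneous_span
    rintro _ ⟨i, rfl⟩
    exact ⟨d i, (mem_homogeneousSubmodule _ _).2 (hf i)⟩
  obtain ⟨mbar, hmbar_def⟩ : ∃ mbar : Ideal (MvPolynomial (Fin (n + 1)) k ⧸ J),
      mbar = m.map (Ideal.Quotient.mk J) := ⟨_, rfl⟩
  haveI hmbar : mbar.IsPrime := by rw [hmbar_def]; exact map_isPrime J m hJm
  have hmbarmax : mbar.IsMaximal := by
    have := Ideal.map_eq_top_or_isMaximal_of_surjective (Ideal.Quotient.mk J)
      Ideal.Quotient.mk_surjective hmax
    rw [← hmbar_def] at this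
    exact this.resolve_left hmbar.ne_top
  have hQ_eq : ∀ (Q : Ideal (MvPolynomial (Fin (n + 1)) k ⧸ J)) [Q.IsPrime],
      (∀ i, Ideal.Quotient.mk J (X i) ∈ Q) → Q = mbar := by
    intro Q hQ hall
    have hle : mbar ≤ Q := by
      rw [hmbar_def, Ideal.map_le_iff_le_comap]
      show idealOfVars _ _ ≤ _
      rw [idealOfVars, Ideal.span_le]
      rintro _ ⟨i, rfl⟩
      exact hall i
    exact (hmbarmax.eq_of_le hQ.ne_top hle).symm
  -- the regular local ring `A`
  let A := Localization.AtPrime m
  haveI : IsRegularLocalRing A := IsRegularRing.isRegularLocalRing_localization m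
  have hCM : LocCoh.IsCohenMacaulayModule A A :=
    Groth.Agent.Helper2.RegCM.cm_of_isRegularLocalRing A
  have hdim : ringKrullDim A = ((n + 1 : ℕ) : WithBot ℕ∞) := by
    rw [IsLocalization.AtPrime.ringKrullDim_eq_height m A,
      Groth.Agent.Helper5.FtDim.height_of_isMaximal_mvPolynomial k (n + 1) m hmax]
    rfl
  let xs : List A := List.ofFn (fun i => algebraMap (MvPolynomial (Fin (n + 1)) k) A (f i))
  have hxs : xs.length = r := List.length_ofFn
  have hmem : ∀ x ∈ xs, x ∈ maximalIdeal A := by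
    intro x hx
    rw [List.mem_ofFn] at hx
    obtain ⟨i, rfl⟩ := hx
    rw [← Ideal.mem_comap, ← Ideal.under_def, IsLocalization.AtPrime.under_maximalIdeal A m]
    exact hfm i
  have hJle : J ≤ (Ideal.ofList xs).under (MvPolynomial (Fin (n + 1)) k) := by
    rw [hJdef, Ideal.span_le]
    rintro _ ⟨i, rfl⟩
    show algebraMap _ A (f i) ∈ Ideal.ofList xs
    exact Ideal.subset_span (List.mem_ofFn.2 ⟨i, rfl⟩)
  have hht : (xs.length : ℕ∞) ≤ (Ideal.ofList xs).height := by
    rw [hxs, ← IsLocalization.height_under m.primeCompl (Ideal.ofList xs), ← hJ]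
    exact Ideal.height_mono hJle
  obtain ⟨h1, hCMq⟩ := cm_quot_of_height hCM xs hmem hht
  let I : Ideal A := J.map (algebraMap (MvPolynomial (Fin (n + 1)) k) A)
  have hI : I = Ideal.ofList xs • (⊤ : Submodule A A) := by
    rw [smul_eq_mul, Ideal.mul_top]
    show Ideal.map _ J = _
    rw [hJdef, Ideal.map_span]
    unfold Ideal.ofList
    congr 1
    ext x
    simp only [Set.mem_image, Set.mem_range, exists_exists_eq_and,
      Set.mem_ofPred_eq, xs, List.mem_ofFn]
  have hIle : I ≤ maximalIdeal A := by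
    rw [hI, smul_eq_mul, Ideal.mul_top]
    exact Ideal.span_le.2 (fun x hx => hmem x hx)
  haveI hnt : Nontrivial (A ⧸ I) :=
    Ideal.Quotient.nontrivial_iff.2 (fun h => (maximalIdeal.isMaximal A).ne_top
      (top_le_iff.1 (h ▸ hIle)))
  haveI : IsLocalRing (A ⧸ I) := inferInstance
  obtain ⟨hdimC, hdepthC⟩ := quot_dim_depth I
  have hCMC : ringKrullDim (A ⧸ I) =
      ((LocCoh.depth (A ⧸ I) (A ⧸ I) : ℕ∞) : WithBot ℕ∞) := by
    rw [hdimC, hdepthC, supportDim_eq_of_equiv (Submodule.quotEquivOfEq _ _ hI)]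
    have : LocCoh.depth A (A ⧸ I) =
        LocCoh.depth A (A ⧸ Ideal.ofList xs • (⊤ : Submodule A A)) :=
      Groth.Agent.Helper2.DepthCM.idealDepth_congr (maximalIdeal A)
        (Submodule.quotEquivOfEq _ _ hI)
    rw [this]
    exact hCMq
  have hsumC : ringKrullDim (A ⧸ I) + (r : WithBot ℕ∞) = ((n + 1 : ℕ) : WithBot ℕ∞) := by
    rw [hdimC, supportDim_eq_of_equiv (Submodule.quotEquivOfEq _ _ hI), ← hdim,
      ← supportDim_self_eq_ringKrullDim, ← h1, hxs]
  -- the localization of `B` at the vertex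
  haveI hLoc : IsLocalization.AtPrime (A ⧸ I) mbar := by
    have := isLocalization_atPrime J m hJm
    convert this
  let e : Localization.AtPrime mbar ≃ₐ[MvPolynomial (Fin (n + 1)) k ⧸ J] (A ⧸ I) :=
    IsLocalization.algEquiv mbar.primeCompl (Localization.AtPrime mbar) (A ⧸ I)
  have hdimL : ringKrullDim (Localization.AtPrime mbar) = ringKrullDim (A ⧸ I) :=
    ringKrullDim_eq_of_ringEquiv e.toRingEquiv
  have hdepthL : LocCoh.depth (Localization.AtPrime mbar) (Localization.AtPrime mbar) =
      LocCoh.depth (A ⧸ I) (A ⧸ I) :=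
    Groth.Agent.Helper2.FlatAscent.depth_eq_of_ringEquiv e.toRingEquiv
  have hCML : ringKrullDim (Localization.AtPrime mbar) =
      ((LocCoh.depth (Localization.AtPrime mbar) (Localization.AtPrime mbar) : ℕ∞) :
        WithBot ℕ∞) := by
    rw [hdimL, hdepthL, hCMC]
  have htwo : (2 : WithBot ℕ∞) ≤ ringKrullDim (Localization.AtPrime mbar) := by
    rw [hdimL]
    rw [hCMC] at hsumC ⊢
    generalize LocCoh.depth (A ⧸ I) (A ⧸ I) = δ at hsumC ⊢
    have h2 : δ + (r : ℕ∞) = ((n + 1 : ℕ) : ℕ∞) := by exact_mod_cast hsumC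
    have h3 : (2 : ℕ∞) ≤ δ := by
      cases δ with
      | top => exact le_top
      | coe δ =>
        have : δ + r = n + 1 := by exact_mod_cast h2
        have : 2 ≤ δ := by omega
        exact_mod_cast this
    show ((2 : ℕ∞) : WithBot ℕ∞) ≤ _
    exact WithBot.coe_le_coe.2 h3
  have hhtm : (2 : ℕ∞) ≤ mbar.height := by
    have := IsLocalization.AtPrime.ringKrullDim_eq_height mbar (Localization.AtPrime mbar)
    rw [this] at htwo
    have e2 : (2 : WithBot ℕ∞) = ((2 : ℕ∞) : WithBot ℕ∞) := rfl
    rw [e2] at htwo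
    exact WithBot.coe_le_coe.1 htwo
  -- `(R₁)`
  have hR1 : LocCoh.HasRk 1 (MvPolynomial (Fin (n + 1)) k ⧸ J) := by
    intro Q hQ hhtQ
    by_cases hall : ∀ i, Ideal.Quotient.mk J (X i) ∈ Q
    · exfalso
      have hQm := hQ_eq Q hall
      rw [hQm] at hhtQ
      have h12 : (2 : ℕ∞) ≤ ((1 : ℕ) : ℕ∞) := hhtm.trans hhtQ
      exact absurd h12 (by decide)
    · rw [not_forall] at hall
      obtain ⟨hdom, hic⟩ := hnorm Q hall
      haveI := hdom
      haveI := hic
      apply regular_of_normal_dim_le_one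
      rw [height_max_loc _ Q]
      exact_mod_cast hhtQ
  -- `(S₂)`
  have hS2 : LocCoh.HasSk 2 (MvPolynomial (Fin (n + 1)) k ⧸ J)
      (MvPolynomial (Fin (n + 1)) k ⧸ J) := by
    rw [hasSk_iff]
    intro Q hQ
    by_cases hall : ∀ i, Ideal.Quotient.mk J (X i) ∈ Q
    · have hQm := hQ_eq Q hall
      subst hQm
      rw [← hCML]
      exact min_le_right _ _
    · rw [not_forall] at hall
      obtain ⟨hdom, hic⟩ := hnorm Q hall
      haveI := hdom
      haveI := hic
      apply sk_at_of_loc _ Q 2
      rw [Groth.Agent.S11269.result]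
      intro a ha P hP
      exact Groth.Agent.Helper5.AssHt.main _ a ha P hP
  have hall := (main_S0601 (MvPolynomial (Fin (n + 1)) k ⧸ J)).2 ⟨hR1, hS2⟩
  haveI hred : IsReduced (MvPolynomial (Fin (n + 1)) k ⧸ J) := isReduced_of_R1_S2 _ hR1 hS2
  have hrad : J.IsRadical := (Ideal.isRadical_iff_quotient_reduced J).2 hred
  -- injectivity into the localization at the vertex
  have hinj : Function.Injective
      (algebraMap (MvPolynomial (Fin (n + 1)) k ⧸ J) (Localization.AtPrime mbar)) := by
    rw [injective_iff_map_eq_zero]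
    intro b hb
    obtain ⟨g, rfl⟩ := Ideal.Quotient.mk_surjective b
    by_contra hne
    rw [IsLocalization.map_eq_zero_iff mbar.primeCompl] at hb
    obtain ⟨⟨s, hs⟩, hsb⟩ := hb
    obtain ⟨t, rfl⟩ := Ideal.Quotient.mk_surjective s
    have htm : t ∉ m := by
      intro htm
      apply hs
      show _ ∈ mbar
      rw [hmbar_def]
      exact Ideal.mem_map_of_mem _ htm
    have htg : t * g ∈ J := by
      rw [← Ideal.Quotient.eq_zero_iff_mem, map_mul]
      exact hsb
    have hgJ : g ∉ J := by
      rwa [Ideal.Quotient.eq_zero_iff_mem] at hne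
    rw [← hrad.radical, ← Ideal.sInf_minimalPrimes, Ideal.mem_sInf] at hgJ
    rw [not_forall] at hgJ
    obtain ⟨P, hP⟩ := hgJ
    rw [Classical.not_imp] at hP
    obtain ⟨hPmin, hgP⟩ := hP
    have hPprime : P.IsPrime := hPmin.1.1
    have hPhom := isHomogeneous_of_mem_minimalPrimes k (Fin (n + 1)) J hJhom P hPmin
    have hPm : P ≤ m := by
      intro p hp
      show p ∈ idealOfVars (Fin (n + 1)) k
      rw [Groth.Agent.Helper6.CISat.idealOfVars_eq_ker, RingHom.mem_ker]
      exact constantCoeff_eq_zero_of_mem k (Fin (n + 1)) P hPprime.ne_top hPhom p hp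
    rcases hPprime.mem_or_mem (hPmin.1.2 htg) with h | h
    · exact htm (hPm h)
    · exact hgP h
  haveI := (hall mbar).1
  haveI hdomB : IsDomain (MvPolynomial (Fin (n + 1)) k ⧸ J) :=
    Function.Injective.isDomain _ hinj
  refine ⟨hdomB, ?_⟩
  exact IsIntegrallyClosed.of_localization_maximal (fun p _ hp => (hall p).2)

end Main

end Groth.Agent.Helper6.CINormal
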