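import Mathlib

set_option autoImplicit false

/-!
Length identity from the snake lemma for multiplication by an element on a short exact sequence.
-/

namespace Groth.Agent.Helper6.Dim1

open Function
open scoped Pointwise

universe u

variable {R : Type u} [CommRing R]

section Generic

variable {X Y Z : Type*} [AddCommGroup X] [Module R X] [AddCommGroup Y] [Module R Y]
  [AddCommGroup Z] [Module R Z]

theorem length_eq_range_add_range (f : X →ₗ[R] Y) (g : Y →ₗ[R] Z) (h : Exact f g) :
    Module.length R Y =
      Module.length R (LinearMap.range f) + Module.length R (LinearMap.range g) := by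
  refine Module.length_eq_add_of_exact (LinearMap.range f).subtype g.rangeRestrict
    (Submodule.injective_subtype _) g.surjective_rangeRestrict ?_
  intro y
  constructor
  · intro hy
    have : g y = 0 := by
      have := congrArg Subtype.val hy
      simpa using this
    obtain ⟨x, rfl⟩ := (h y).mp this
    exact ⟨⟨f x, ⟨x, rfl⟩⟩, rfl⟩
  · rintro ⟨⟨_, ⟨x, rfl⟩⟩, rfl⟩
    apply Subtype.ext
    simpa using (h (f x)).mpr ⟨x, rfl⟩

theorem length_range_of_injective (f : X →ₗ[R] Y) (hf : Injective f) :
    Module.length R (LinearMap.range f) = Module.length R X :=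
  (LinearEquiv.ofInjective f hf).length_eq.symm

theorem length_range_of_surjective (f : X →ₗ[R] Y) (hf : Surjective f) :
    Module.length R (LinearMap.range f) = Module.length R Y := by
  rw [LinearMap.range_eq_top.mpr hf, Module.length_top]

end Generic

section Six

variable {K₁ K₂ K₃ C₁ C₂ C₃ : Type*} [AddCommGroup K₁] [Module R K₁] [AddCommGroup K₂] [Module R K₂]
  [AddCommGroup K₃] [Module R K₃] [AddCommGroup C₁] [Module R C₁] [AddCommGroup C₂] [Module R C₂]
  [AddCommGroup C₃] [Module R C₃]

theorem length_six (a : K₁ →ₗ[R] K₂) (b : K₂ →ₗ[R] K₃) (δ : K₃ →ₗ[R] C₁) (c : C₁ →ₗ[R] C₂)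
    (d : C₂ →ₗ[R] C₃) (ha : Injective a) (hab : Exact a b) (hbδ : Exact b δ) (hδc : Exact δ c)
    (hcd : Exact c d) (hd : Surjective d) :
    Module.length R K₂ + Module.length R C₁ + Module.length R C₃ =
      Module.length R K₁ + Module.length R K₃ + Module.length R C₂ := by
  rw [length_eq_range_add_range a b hab, length_eq_range_add_range δ c hδc,
    length_eq_range_add_range b δ hbδ, length_eq_range_add_range c d hcd,
    ← length_range_of_injective a ha, ← length_range_of_surjective d hd]
  ring

end Six

section Snake

variable (t : R) {M' M M'' : Type*} [AddCommGroup M'] [Module R M'] [AddCommGroup M] [Module R M]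
  [AddCommGroup M''] [Module R M'']

/-- multiplication by `t`. -/
abbrev T (N : Type*) [AddCommGroup N] [Module R N] : N →ₗ[R] N := t • (LinearMap.id : N →ₗ[R] N)

theorem exact_T_mkQ (N : Type*) [AddCommGroup N] [Module R N] :
    Exact (T t N) (Submodule.mkQ (t • (⊤ : Submodule R N))) := by
  intro y
  rw [Submodule.mkQ_apply, Submodule.Quotient.mk_eq_zero, Submodule.mem_smul_pointwise_iff_exists]
  constructor
  · rintro ⟨z, -, rfl⟩
    exact ⟨z, rfl⟩
  · rintro ⟨z, rfl⟩
    exact ⟨z, trivial, rfl⟩

theorem snake_length (i : M' →ₗ[R] M) (p : M →ₗ[R] M'') (hi : Injective i) (hp : Surjective p)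
    (hex : Exact i p) :
    Module.length R (LinearMap.ker (T t M)) + Module.length R (QuotSMulTop t M') +
        Module.length R (QuotSMulTop t M'') =
      Module.length R (LinearMap.ker (T t M')) + Module.length R (LinearMap.ker (T t M'')) +
        Module.length R (QuotSMulTop t M) := by
  have h₁ : i.comp (T t M') = (T t M).comp i := by
    ext x; simp
  have h₂ : p.comp (T t M) = (T t M'').comp p := by
    ext x; simp
  let a : LinearMap.ker (T t M') →ₗ[R] LinearMap.ker (T t M) :=
    i.restrict (fun x hx => by
      rw [LinearMap.mem_ker] at hx ⊢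
      have := congrArg (fun f => f x) h₁
      simp only [LinearMap.comp_apply] at this
      rw [← this, hx, map_zero])
  let b : LinearMap.ker (T t M) →ₗ[R] LinearMap.ker (T t M'') :=
    p.restrict (fun x hx => by
      rw [LinearMap.mem_ker] at hx ⊢
      have := congrArg (fun f => f x) h₂
      simp only [LinearMap.comp_apply] at this
      rw [← this, hx, map_zero])
  have hι₂ : Exact (LinearMap.ker (T t M)).subtype (T t M) := LinearMap.exact_subtype_ker_map _
  have hι₃ : Exact (LinearMap.ker (T t M'')).subtype (T t M'') := LinearMap.exact_subtype_ker_map _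
  have hπ₁ := exact_T_mkQ t M'
  have hπ₂ := exact_T_mkQ t M
  let δ := SnakeLemma.δ' (T t M') (T t M) (T t M'') i p hex i p hex h₁ h₂
    (LinearMap.ker (T t M'')).subtype hι₃ (Submodule.mkQ (t • (⊤ : Submodule R M'))) hπ₁ hp hi
  have hbδ : Exact b δ :=
    SnakeLemma.exact_δ'_right (T t M') (T t M) (T t M'') i p hex i p hex h₁ h₂
      (LinearMap.ker (T t M)).subtype hι₂ (LinearMap.ker (T t M'')).subtype hι₃
      (Submodule.mkQ (t • (⊤ : Submodule R M'))) hπ₁ hp hi b (by ext x; rfl)
      (Submodule.injective_subtype _)
  have hδc : Exact δ (QuotSMulTop.map t i) :=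
    SnakeLemma.exact_δ'_left (T t M') (T t M) (T t M'') i p hex i p hex h₁ h₂
      (LinearMap.ker (T t M'')).subtype hι₃
      (Submodule.mkQ (t • (⊤ : Submodule R M'))) hπ₁ (Submodule.mkQ (t • (⊤ : Submodule R M))) hπ₂
      hp hi (QuotSMulTop.map t i) (QuotSMulTop.map_comp_mkQ t i) (Submodule.mkQ_surjective _)
  have ha : Injective a := by
    intro x y hxy
    apply Subtype.ext
    apply hi
    exact congrArg Subtype.val hxy
  have hab : Exact a b := by
    intro x
    constructor
    · intro hx
      have hpx : p x.1 = 0 := congrArg Subtype.val hx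
      obtain ⟨y, hy⟩ := (hex x.1).mp hpx
      have hty : T t M' y = 0 := by
        apply hi
        have := congrArg (fun f => f y) h₁
        simp only [LinearMap.comp_apply] at this
        rw [this, hy, map_zero]
        exact x.2
      exact ⟨⟨y, hty⟩, Subtype.ext hy⟩
    · rintro ⟨y, rfl⟩
      apply Subtype.ext
      exact (hex _).mpr ⟨y.1, rfl⟩
  exact length_six a b δ (QuotSMulTop.map t i) (QuotSMulTop.map t p) ha hab hbδ hδc
    (QuotSMulTop.map_exact t hex hp) (QuotSMulTop.map_surjective t hp)

end Snake

end Groth.Agent.Helper6.Dim1
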