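import Mathlib
import Groth.Agent.Helper6.Dim1Basic
import Groth.Agent.Helper6.Dim1Snake

set_option autoImplicit false

namespace Groth.Agent.Helper6.Dim1

open Function
open scoped Pointwise

universe u v

section Generic

variable {R : Type u} [CommRing R]

/-- for a module of finite length, kernel and cokernel of multiplication by `t` have equal length. -/
theorem length_ker_eq_length_quot (t : R) (N : Type v) [AddCommGroup N] [Module R N]
    (hN : Module.length R N ≠ ⊤) :
    Module.length R (LinearMap.ker (T t N)) = Module.length R (QuotSMulTop t N) := by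
  have h1 := length_eq_range_add_range (LinearMap.ker (T t N)).subtype (T t N)
    (LinearMap.exact_subtype_ker_map _)
  have h2 := length_eq_range_add_range (T t N) (Submodule.mkQ (t • (⊤ : Submodule R N)))
    (exact_T_mkQ t N)
  rw [length_range_of_injective _ (Submodule.injective_subtype _)] at h1
  rw [length_range_of_surjective _ (Submodule.mkQ_surjective _)] at h2
  have hfin : Module.length R (LinearMap.range (T t N)) ≠ ⊤ := by
    intro h
    rw [h] at h2
    exact hN (by rw [h2]; simp)
  have h3 : Module.length R (LinearMap.ker (T t N)) + Module.length R (LinearMap.range (T t N)) =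
      Module.length R (QuotSMulTop t N) + Module.length R (LinearMap.range (T t N)) := by
    rw [← h1, h2, add_comm]
  exact (ENat.add_left_injective_of_ne_top hfin) h3

/-- the `t`-power torsion submodule. -/
def powTors (t : R) (M : Type v) [AddCommGroup M] [Module R M] : Submodule R M where
  carrier := {y | ∃ n : ℕ, t ^ n • y = 0}
  add_mem' := by
    rintro a b ⟨k, hk⟩ ⟨l, hl⟩
    refine ⟨k + l, ?_⟩
    rw [smul_add, pow_add, mul_smul, mul_smul, hl, smul_zero, add_zero, smul_comm, hk, smul_zero]
  zero_mem' := ⟨0, by simp⟩
  smul_mem' := by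
    rintro c a ⟨k, hk⟩
    exact ⟨k, by rw [smul_comm, hk, smul_zero]⟩

theorem ker_T_quot_powTors (t : R) (M : Type v) [AddCommGroup M] [Module R M] :
    LinearMap.ker (T t (M ⧸ powTors t M)) = ⊥ := by
  rw [eq_bot_iff]
  intro y hy
  obtain ⟨m, rfl⟩ := Submodule.Quotient.mk_surjective _ y
  rw [LinearMap.mem_ker, LinearMap.smul_apply, LinearMap.id_apply, ← Submodule.Quotient.mk_smul,
    Submodule.Quotient.mk_eq_zero] at hy
  obtain ⟨n, hn⟩ := hy
  rw [Submodule.mem_bot, Submodule.Quotient.mk_eq_zero]
  exact ⟨n + 1, by rw [pow_succ, mul_smul]; exact hn⟩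

theorem exists_pow_smul_powTors [IsNoetherianRing R] (t : R) (M : Type v) [AddCommGroup M]
    [Module R M] [Module.Finite R M] : ∃ n : ℕ, ∀ y ∈ powTors t M, t ^ n • y = 0 := by
  classical
  have hfg : (powTors t M).FG := IsNoetherian.noetherian _
  obtain ⟨S, hS⟩ := hfg
  have hS' : ∀ s ∈ S, ∃ n : ℕ, t ^ n • s = 0 := by
    intro s hs
    have : s ∈ powTors t M := by rw [← hS]; exact Submodule.subset_span hs
    exact this
  choose! nn hnn using hS'
  refine ⟨S.sup nn, fun y hy => ?_⟩
  rw [← hS] at hy
  induction hy using Submodule.span_induction with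
  | mem s hs =>
    have hle : nn s ≤ S.sup nn := Finset.le_sup hs
    obtain ⟨k, hk⟩ := Nat.exists_eq_add_of_le hle
    rw [hk, add_comm, pow_add, mul_smul, hnn s hs, smul_zero]
  | zero => simp
  | add a b _ _ ha hb => rw [smul_add, ha, hb, add_zero]
  | smul c a _ ha => rw [smul_comm, ha, smul_zero]

end Generic

variable {A : Type u} [CommRing A] [IsNoetherianRing A]

theorem length_powTors_ne_top (hdim : ringKrullDim A ≤ 1) {t : A}
    (ht : ∀ p ∈ minimalPrimes A, t ∉ p) (M : Type v) [AddCommGroup M] [Module A M]
    [Module.Finite A M] : Module.length A (powTors t M) ≠ ⊤ := by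
  obtain ⟨n, hn⟩ := exists_pow_smul_powTors t M
  haveI : Module.Finite A (powTors t M) := Module.Finite.of_fg (IsNoetherian.noetherian _) |>.1 |> fun h => ⟨h⟩
  apply length_ne_top_of_isTorsionBy hdim (not_mem_minimalPrimes_pow ht n)
  intro y
  apply Subtype.ext
  rw [Submodule.coe_smul, hn y.1 y.2]; rfl

/-- key identity: `ℓ(ker t) + ℓ((M/T)/t) = ℓ(M/tM)`. -/
theorem length_ker_add_eq (hdim : ringKrullDim A ≤ 1) {t : A}
    (ht : ∀ p ∈ minimalPrimes A, t ∉ p) (M : Type v) [AddCommGroup M] [Module A M]
    [Module.Finite A M] :
    Module.length A (LinearMap.ker (T t M)) + Module.length A (QuotSMulTop t (M ⧸ powTors t M)) =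
      Module.length A (QuotSMulTop t M) := by
  have h := snake_length t (powTors t M).subtype (powTors t M).mkQ
    (Submodule.injective_subtype _) (Submodule.mkQ_surjective _)
    (LinearMap.exact_subtype_mkQ _)
  rw [ker_T_quot_powTors, Module.length_bot, add_zero,
    length_ker_eq_length_quot t (powTors t M) (length_powTors_ne_top hdim ht M)] at h
  have hfin : Module.length A (QuotSMulTop t (powTors t M)) ≠ ⊤ := by
    haveI : Module.Finite A (powTors t M) := ⟨(Module.Finite.iff_fg).mpr (IsNoetherian.noetherian _) |>.1⟩
    exact length_quotSMulTop_ne_top _ hdim ht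
  have h' : (Module.length A (LinearMap.ker (T t M)) +
      Module.length A (QuotSMulTop t (M ⧸ powTors t M))) +
        Module.length A (QuotSMulTop t (powTors t M)) =
      Module.length A (QuotSMulTop t M) + Module.length A (QuotSMulTop t (powTors t M)) := by
    rw [add_comm (Module.length A (QuotSMulTop t M)), ← h]; ring
  exact (ENat.add_left_injective_of_ne_top hfin) h'

/-- S2855 -/
theorem herbrand [IsLocalRing A] (hdim : ringKrullDim A ≤ 1) {t : A}
    (ht : ∀ p ∈ minimalPrimes A, t ∉ p) (htm : t ∈ IsLocalRing.maximalIdeal A)
    (M : Type v) [AddCommGroup M] [Module A M] [Module.Finite A M] :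
    Module.length A (LinearMap.ker (t • (LinearMap.id : M →ₗ[A] M))) < ⊤ ∧
      Module.length A (QuotSMulTop t M) < ⊤ ∧
      Module.length A (LinearMap.ker (t • (LinearMap.id : M →ₗ[A] M))) ≤
        Module.length A (QuotSMulTop t M) ∧
      (Module.length A (LinearMap.ker (t • (LinearMap.id : M →ₗ[A] M))) =
          Module.length A (QuotSMulTop t M) ↔ Module.length A M < ⊤) := by
  have hK := length_ker_smul_ne_top M hdim ht
  have hQ := length_quotSMulTop_ne_top M hdim ht
  have key := length_ker_add_eq hdim ht M
  refine ⟨lt_top_iff_ne_top.mpr hK, lt_top_iff_ne_top.mpr hQ, ?_, ?_⟩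
  · change Module.length A (LinearMap.ker (T t M)) ≤ _
    rw [← key]; exact le_self_add
  · constructor
    · intro heq
      change Module.length A (LinearMap.ker (T t M)) = _ at heq
      have h0 : Module.length A (QuotSMulTop t (M ⧸ powTors t M)) = 0 := by
        have : Module.length A (LinearMap.ker (T t M)) +
            Module.length A (QuotSMulTop t (M ⧸ powTors t M)) =
            Module.length A (LinearMap.ker (T t M)) + 0 := by rw [key, add_zero, heq]
        exact (ENat.add_right_injective_of_ne_top hK) this
      rw [Module.length_eq_zero_iff] at h0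
      have hsub : Subsingleton (M ⧸ powTors t M) := by
        by_contra hnt
        rw [not_subsingleton_iff_nontrivial] at hnt
        have hne := Submodule.top_ne_pointwise_smul_of_mem_jacobson_annihilator
          (R := A) (M := M ⧸ powTors t M) (r := t)
          (IsLocalRing.maximalIdeal_le_jacobson _ htm)
        apply hne
        symm
        rw [← Submodule.Quotient.subsingleton_iff]
        exact h0
      have htop : powTors t M = ⊤ := Submodule.Quotient.subsingleton_iff.mp hsub
      have : Module.length A M = Module.length A (powTors t M) := by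
        rw [htop, Module.length_top]
      rw [this]
      exact lt_top_iff_ne_top.mpr (length_powTors_ne_top hdim ht M)
    · intro hfin
      exact length_ker_eq_length_quot t M (lt_top_iff_ne_top.mp hfin)

end Groth.Agent.Helper6.Dim1
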