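import Mathlib
import Groth.Agent.Helper6.Dim1Herbrand

set_option autoImplicit false

/-!
`l(M/aM) = l(M[a]) + ∑_{p minimal} l_{A_p}(M_p) l(A/(p+a))` over a Noetherian ring of dimension
at most one.
-/

namespace Groth.Agent.Helper6.Dim1

open Function
open scoped Pointwise

universe u

section Loc

variable {A : Type u} [CommRing A]

theorem length_localized_add (S : Submonoid A) {N₁ N₂ N₃ : Type u} [AddCommGroup N₁] [Module A N₁]
    [AddCommGroup N₂] [Module A N₂] [AddCommGroup N₃] [Module A N₃]
    (f : N₁ →ₗ[A] N₂) (g : N₂ →ₗ[A] N₃) (hf : Injective f) (hg : Surjective g)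
    (hex : Exact f g) :
    Module.length (Localization S) (LocalizedModule S N₂) =
      Module.length (Localization S) (LocalizedModule S N₁) +
        Module.length (Localization S) (LocalizedModule S N₃) := by
  refine Module.length_eq_add_of_exact (LocalizedModule.map S f) (LocalizedModule.map S g)
    (LocalizedModule.map_injective S f hf) (LocalizedModule.map_surjective S g hg) ?_
  intro y
  exact LocalizedModule.map_exact S f g hex y

theorem length_localized_congr (S : Submonoid A) {N₁ N₂ : Type u} [AddCommGroup N₁] [Module A N₁]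
    [AddCommGroup N₂] [Module A N₂] (e : N₁ ≃ₗ[A] N₂) :
    Module.length (Localization S) (LocalizedModule S N₁) =
      Module.length (Localization S) (LocalizedModule S N₂) :=
  (LinearEquiv.ofBijective (LocalizedModule.map S e.toLinearMap)
    ⟨LocalizedModule.map_injective S _ e.injective,
      LocalizedModule.map_surjective S _ e.surjective⟩).length_eq

theorem length_localized_eq_zero (S : Submonoid A) {N : Type u} [AddCommGroup N] [Module A N]
    {s : A} (hs : s ∈ S) (h : ∀ n : N, s • n = 0) :
    Module.length (Localization S) (LocalizedModule S N) = 0 := by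
  rw [Module.length_eq_zero_iff, LocalizedModule.subsingleton_iff]
  intro n
  exact ⟨s, hs, h n⟩

theorem length_localized_quot_self (q : Ideal A) [q.IsPrime] :
    Module.length (Localization.AtPrime q) (LocalizedModule q.primeCompl (A ⧸ q)) = 1 := by
  rw [Module.length_eq_one_iff, isSimpleModule_iff_toSpanSingleton_surjective]
  constructor
  · rw [← not_subsingleton_iff_nontrivial, LocalizedModule.subsingleton_iff]
    intro h
    obtain ⟨r, hr, hr0⟩ := h (Ideal.Quotient.mk q 1)
    have : Ideal.Quotient.mk q r = 0 := by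
      rw [← hr0]
      change _ = Ideal.Quotient.mk q (r * 1)
      rw [mul_one]
    exact hr (Ideal.Quotient.eq_zero_iff_mem.mp this)
  · intro x hx0 y
    induction x using LocalizedModule.induction_on with
    | _ m s =>
    induction y using LocalizedModule.induction_on with
    | _ m' s' =>
    obtain ⟨r, rfl⟩ := Ideal.Quotient.mk_surjective m
    obtain ⟨r', rfl⟩ := Ideal.Quotient.mk_surjective m'
    have hr : r ∉ q := by
      intro hr
      apply hx0
      rw [Ideal.Quotient.eq_zero_iff_mem.mpr hr, LocalizedModule.zero_mk]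
    refine ⟨Localization.mk (r' * s) (s' * ⟨r, hr⟩), ?_⟩
    rw [LinearMap.toSpanSingleton_apply, LocalizedModule.mk_smul_mk, LocalizedModule.mk_eq]
    refine ⟨1, ?_⟩
    simp only [one_smul]
    change Ideal.Quotient.mk q (s' * ((r' * s) * r)) = Ideal.Quotient.mk q ((s' * r * s) * r')
    congr 1
    ring

end Loc

section Rho

variable {A : Type u} [CommRing A] [IsNoetherianRing A]

/-- the minimal primes as a subset of the spectrum. -/
def minSpec (A : Type u) [CommRing A] : Set (PrimeSpectrum A) :=
  {p | p.asIdeal ∈ minimalPrimes A}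

theorem minSpec_finite : (minSpec A).Finite := by
  have := minimalPrimes.finite_of_isNoetherianRing A
  exact Set.Finite.preimage (fun p _ q _ h => PrimeSpectrum.ext h) this

variable (a : A)

/-- one term of the sum. -/
noncomputable def term (N : Type u) [AddCommGroup N] [Module A N] (p : PrimeSpectrum A) : ℕ∞ :=
  Module.length (Localization.AtPrime p.asIdeal) (LocalizedModule p.asIdeal.primeCompl N) *
    Module.length A (A ⧸ (p.asIdeal ⊔ Ideal.span {a}))

/-- the sum over minimal primes. -/
noncomputable def rho (N : Type u) [AddCommGroup N] [Module A N] : ℕ∞ :=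
  ∑ᶠ p ∈ minSpec A, term a N p

theorem rho_add {N₁ N₂ N₃ : Type u} [AddCommGroup N₁] [Module A N₁]
    [AddCommGroup N₂] [Module A N₂] [AddCommGroup N₃] [Module A N₃]
    (f : N₁ →ₗ[A] N₂) (g : N₂ →ₗ[A] N₃) (hf : Injective f) (hg : Surjective g)
    (hex : Exact f g) : rho a N₂ = rho a N₁ + rho a N₃ := by
  unfold rho
  rw [← finsum_mem_add_distrib minSpec_finite]
  refine finsum_mem_congr rfl (fun p _ => ?_)
  unfold term
  rw [length_localized_add p.asIdeal.primeCompl f g hf hg hex, add_mul]

theorem rho_eq_zero (N : Type u) [AddCommGroup N] [Module A N]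
    (h : ∀ p ∈ minSpec A,
      Module.length (Localization.AtPrime p.asIdeal) (LocalizedModule p.asIdeal.primeCompl N) = 0) :
    rho a N = 0 := by
  unfold rho
  refine finsum_mem_eq_zero_of_forall_eq_zero (fun p hp => ?_)
  unfold term
  rw [h p hp, zero_mul]

theorem rho_eq_single (N : Type u) [AddCommGroup N] [Module A N] (q : PrimeSpectrum A)
    (hq : q ∈ minSpec A)
    (h : ∀ p ∈ minSpec A, p ≠ q →
      Module.length (Localization.AtPrime p.asIdeal) (LocalizedModule p.asIdeal.primeCompl N) = 0)
    (h1 : Module.length (Localization.AtPrime q.asIdeal)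
      (LocalizedModule q.asIdeal.primeCompl N) = 1) :
    rho a N = Module.length A (A ⧸ (q.asIdeal ⊔ Ideal.span {a})) := by
  classical
  unfold rho
  rw [finsum_mem_eq_finite_toFinset_sum _ minSpec_finite,
    Finset.sum_eq_single q]
  · unfold term
    rw [h1, one_mul]
  · intro p hp hpq
    unfold term
    rw [h p ((Set.Finite.mem_toFinset _).mp hp) hpq, zero_mul]
  · intro hq'
    exact absurd ((Set.Finite.mem_toFinset _).mpr hq) hq'

end Rho

section Main

variable {A : Type u} [CommRing A] [IsNoetherianRing A]

theorem quotSMulTop_quot_equiv (a : A) (q : Ideal A) :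
    Nonempty (QuotSMulTop a (A ⧸ q) ≃ₗ[A] A ⧸ (q ⊔ Ideal.span {a})) := by
  have h : (a • (⊤ : Submodule A (A ⧸ q))) =
      Submodule.map (Submodule.mkQ q) (Ideal.span {a} : Submodule A A) := by
    ext y
    rw [Submodule.mem_smul_pointwise_iff_exists]
    constructor
    · rintro ⟨z, -, rfl⟩
      obtain ⟨r, rfl⟩ := Ideal.Quotient.mk_surjective z
      exact ⟨a * r, Ideal.mul_mem_right _ _ (Ideal.mem_span_singleton_self a), rfl⟩
    · rintro ⟨x, hx, rfl⟩
      obtain ⟨r, rfl⟩ := Ideal.mem_span_singleton'.mp hx
      refine ⟨Ideal.Quotient.mk q r, trivial, ?_⟩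
      change Ideal.Quotient.mk q (a * r) = Ideal.Quotient.mk q (r * a)
      rw [mul_comm]
  exact ⟨(Submodule.quotEquivOfEq _ _ h).trans
    (Submodule.quotientQuotientEquivQuotientSup q (Ideal.span {a}))⟩

/-- the identity for a module. -/
def P (a : A) (N : Type u) [AddCommGroup N] [Module A N] : Prop :=
  Module.length A (QuotSMulTop a N) = Module.length A (LinearMap.ker (T a N)) + rho a N

theorem P_of_exact (hdim : ringKrullDim A ≤ 1) (a : A) (ha : ∀ p ∈ minimalPrimes A, a ∉ p)
    {N₁ N₂ N₃ : Type u} [AddCommGroup N₁] [Module A N₁] [Module.Finite A N₁]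
    [AddCommGroup N₂] [Module A N₂] [Module.Finite A N₂]
    [AddCommGroup N₃] [Module A N₃] [Module.Finite A N₃]
    (f : N₁ →ₗ[A] N₂) (g : N₂ →ₗ[A] N₃) (hf : Injective f) (hg : Surjective g)
    (hex : Exact f g) (h₁ : P a N₁) (h₃ : P a N₃) : P a N₂ := by
  unfold P at *
  have hs := snake_length a f g hf hg hex
  rw [h₁, h₃] at hs
  rw [rho_add a f g hf hg hex]
  have hK₁ := length_ker_smul_ne_top N₁ hdim ha
  have hK₃ := length_ker_smul_ne_top N₃ hdim ha
  have hfin : Module.length A (LinearMap.ker (T a N₁)) + Module.length A (LinearMap.ker (T a N₃))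
      ≠ ⊤ := by
    simp only [ne_eq, ENat.add_eq_top, not_or]
    exact ⟨hK₁, hK₃⟩
  refine (ENat.add_left_injective_of_ne_top hfin) ?_
  simp only
  rw [add_comm _ (Module.length A (LinearMap.ker (T a N₁)) +
    Module.length A (LinearMap.ker (T a N₃))), ← hs]
  ring

theorem P_of_subsingleton (a : A) (N : Type u) [AddCommGroup N] [Module A N] [Subsingleton N] :
    P a N := by
  unfold P
  rw [Module.length_eq_zero, Module.length_eq_zero, rho_eq_zero, add_zero]
  intro p _
  exact Module.length_eq_zero

theorem P_of_equiv_quot (hdim : ringKrullDim A ≤ 1) (a : A) (ha : ∀ p ∈ minimalPrimes A, a ∉ p)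
    (N : Type u) [AddCommGroup N] [Module A N] [Module.Finite A N] (q : PrimeSpectrum A)
    (e : N ≃ₗ[A] A ⧸ q.asIdeal) : P a N := by
  have h1 : Ring.KrullDimLE 1 A := Ring.krullDimLE_iff.mpr (by exact_mod_cast hdim)
  have hkill : ∀ s ∈ q.asIdeal, ∀ n : N, s • n = 0 := by
    intro s hs n
    apply e.injective
    rw [map_smul, map_zero]
    obtain ⟨r, hr⟩ := Ideal.Quotient.mk_surjective (e n)
    rw [← hr]
    change Ideal.Quotient.mk q.asIdeal (s * r) = 0
    exact Ideal.Quotient.eq_zero_iff_mem.mpr (Ideal.mul_mem_right _ _ hs)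
  have hzero : ∀ p ∈ minSpec A, ¬ q.asIdeal ≤ p.asIdeal →
      Module.length (Localization.AtPrime p.asIdeal)
        (LocalizedModule p.asIdeal.primeCompl N) = 0 := by
    intro p _ hqp
    obtain ⟨s, hsq, hsp⟩ := Set.not_subset.mp hqp
    exact length_localized_eq_zero _ (s := s) hsp (hkill s hsq)
  by_cases hq : q.asIdeal ∈ minimalPrimes A
  · -- minimal prime
    have hker : LinearMap.ker (T a N) = ⊥ := by
      rw [LinearMap.ker_eq_bot']
      intro n hn
      have hn' : a • n = 0 := hn
      apply e.injective
      rw [map_zero]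
      have h2 : a • e n = 0 := by rw [← map_smul, hn', map_zero]
      obtain ⟨r, hr⟩ := Ideal.Quotient.mk_surjective (e n)
      rw [← hr] at h2 ⊢
      have h3 : Ideal.Quotient.mk q.asIdeal (a * r) = 0 := h2
      rw [Ideal.Quotient.eq_zero_iff_mem] at h3 ⊢
      exact (q.isPrime.mem_or_mem h3).resolve_left (ha _ hq)
    obtain ⟨e2⟩ := quotSMulTop_quot_equiv a q.asIdeal
    have hK0 : Module.length A (LinearMap.ker (T a N)) = 0 := by
      rw [hker]
      exact Module.length_eq_zero
    unfold P
    rw [hK0, zero_add, ((QuotSMulTop.congr a e).trans e2).length_eq]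
    symm
    apply rho_eq_single a N q hq
    · intro p hp hpq
      apply hzero p hp
      intro hle
      apply hpq
      apply PrimeSpectrum.ext
      exact le_antisymm (hp.2 ⟨q.isPrime, bot_le⟩ hle) hle
    · rw [length_localized_congr _ e]
      exact length_localized_quot_self q.asIdeal
  · -- maximal, not minimal
    have hmax : q.asIdeal.IsMaximal := by
      rcases Ring.krullDimLE_one_iff.mp h1 q.asIdeal q.isPrime with h | h
      · exact absurd h hq
      · exact h
    have hN : Module.length A N ≠ ⊤ := by
      rw [e.length_eq]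
      haveI : IsSimpleModule A (A ⧸ q.asIdeal) :=
        isSimpleModule_iff_isCoatom.mpr (Ideal.isMaximal_def.mp hmax)
      rw [Module.length_eq_one]
      exact ENat.one_ne_top
    unfold P
    rw [length_ker_eq_length_quot a N hN, rho_eq_zero, add_zero]
    intro p hp
    apply hzero p hp
    intro hle
    apply hq
    have : q.asIdeal = p.asIdeal := hmax.eq_of_le p.isPrime.ne_top hle
    rw [this]
    exact hp

theorem P_all (hdim : ringKrullDim A ≤ 1) (a : A) (ha : ∀ p ∈ minimalPrimes A, a ∉ p)
    (M : Type u) [AddCommGroup M] [Module A M] [hM : Module.Finite A M] : P a M := by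
  induction hM using IsNoetherianRing.induction_on_isQuotientEquivQuotientPrime A with
  | subsingleton N => exact P_of_subsingleton a N
  | quotient N p e => exact P_of_equiv_quot hdim a ha N p e
  | exact N₁ N₂ N₃ f g hf hg hex h₁ h₃ => exact P_of_exact hdim a ha f g hf hg hex h₁ h₃

theorem main_S0616 (hdim : ringKrullDim A ≤ 1) (M : Type u) [AddCommGroup M]
    [Module A M] [Module.Finite A M] (a : A) (ha : ∀ p ∈ minimalPrimes A, a ∉ p) :
    Module.length A (M ⧸ a • (⊤ : Submodule A M)) =
      Module.length A (LinearMap.ker (LinearMap.lsmul A M a)) +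
      ∑ᶠ (p : PrimeSpectrum A) (_ : p.asIdeal ∈ minimalPrimes A),
        Module.length (Localization.AtPrime p.asIdeal) (LocalizedModule p.asIdeal.primeCompl M) *
          Module.length A (A ⧸ (p.asIdeal ⊔ Ideal.span {a})) := by
  have h := P_all hdim a ha M
  have hT : T a M = LinearMap.lsmul A M a := by
    ext m
    rfl
  unfold P at h
  rw [hT] at h
  exact h

end Main

end Groth.Agent.Helper6.Dim1
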