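import Mathlib
import Groth.Agent.Helper6.Dim1MinPrimes

set_option autoImplicit false

/-!
Relative version of the length formula: modules with one-dimensional support over an arbitrary
Noetherian ring.
-/

namespace Groth.Agent.Helper6.Dim1

open Function
open scoped Pointwise

universe u

variable {A : Type u} [CommRing A] [IsNoetherianRing A]

theorem mem_support_of_equiv_quot {N : Type u} [AddCommGroup N] [Module A N] (q : PrimeSpectrum A)
    (e : N ≃ₗ[A] A ⧸ q.asIdeal) : q ∈ Module.support A N := by
  rw [e.support_eq, Module.support_eq_zeroLocus, Ideal.annihilator_quotient,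
    PrimeSpectrum.mem_zeroLocus]

/-- a finite module whose support consists of maximal ideals has finite length. -/
theorem length_ne_top_of_support_maximal (N : Type u) [AddCommGroup N] [Module A N]
    [hN : Module.Finite A N] (h : ∀ p ∈ Module.support A N, p.asIdeal.IsMaximal) :
    Module.length A N ≠ ⊤ := by
  revert h
  induction hN using IsNoetherianRing.induction_on_isQuotientEquivQuotientPrime A with
  | subsingleton N =>
    intro _
    rw [Module.length_eq_zero]
    exact ENat.zero_ne_top
  | quotient N q e =>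
    intro h
    have hmax := h q (mem_support_of_equiv_quot q e)
    haveI : IsSimpleModule A (A ⧸ q.asIdeal) :=
      isSimpleModule_iff_isCoatom.mpr (Ideal.isMaximal_def.mp hmax)
    rw [e.length_eq, Module.length_eq_one]
    exact ENat.one_ne_top
  | exact N₁ N₂ N₃ f g hf hg hex h₁ h₃ =>
    intro h
    rw [Module.length_eq_add_of_exact f g hf hg hex]
    simp only [ne_eq, ENat.add_eq_top, not_or]
    exact ⟨h₁ (fun p hp => h p (Module.support_subset_of_injective f hf hp)),
      h₃ (fun p hp => h p (Module.support_subset_of_surjective g hg hp))⟩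

/-- the support condition. -/
def GoodSupp (a : A) (N : Type u) [AddCommGroup N] [Module A N] : Prop :=
  ∀ p ∈ Module.support A N, p.asIdeal.IsMaximal ∨
    (a ∉ p.asIdeal ∧ ∀ q : Ideal A, q.IsPrime → p.asIdeal < q → q.IsMaximal)

theorem GoodSupp.of_injective {a : A} {N₁ N₂ : Type u} [AddCommGroup N₁] [Module A N₁]
    [AddCommGroup N₂] [Module A N₂] (h : GoodSupp a N₂) (f : N₁ →ₗ[A] N₂) (hf : Injective f) :
    GoodSupp a N₁ := fun p hp => h p (Module.support_subset_of_injective f hf hp)

theorem GoodSupp.of_surjective {a : A} {N₁ N₂ : Type u} [AddCommGroup N₁] [Module A N₁]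
    [AddCommGroup N₂] [Module A N₂] (h : GoodSupp a N₁) (f : N₁ →ₗ[A] N₂) (hf : Surjective f) :
    GoodSupp a N₂ := fun p hp => h p (Module.support_subset_of_surjective f hf hp)

theorem GoodSupp.length_ker_ne_top {a : A} {N : Type u} [AddCommGroup N] [Module A N]
    [Module.Finite A N] (h : GoodSupp a N) : Module.length A (LinearMap.ker (T a N)) ≠ ⊤ := by
  apply length_ne_top_of_support_maximal
  intro p hp
  have hpN : p ∈ Module.support A N :=
    Module.support_subset_of_injective _ (Submodule.injective_subtype _) hp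
  obtain ⟨m, hm⟩ := Module.mem_support_iff_exists_annihilator.mp hp
  have hap : a ∈ p.asIdeal := by
    apply hm
    rw [Submodule.mem_annihilator_span_singleton]
    apply Subtype.ext
    exact m.2
  rcases h p hpN with h1 | h1
  · exact h1
  · exact absurd hap h1.1

theorem GoodSupp.length_quot_ne_top {a : A} {N : Type u} [AddCommGroup N] [Module A N]
    [Module.Finite A N] (h : GoodSupp a N) : Module.length A (QuotSMulTop a N) ≠ ⊤ := by
  apply length_ne_top_of_support_maximal
  intro p hp
  rw [Module.support_quotSMulTop] at hp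
  have hap : a ∈ p.asIdeal := by
    have := hp.2
    rw [PrimeSpectrum.mem_zeroLocus] at this
    exact this (Set.mem_singleton a)
  rcases h p hp.1 with h1 | h1
  · exact h1
  · exact absurd hap h1.1

/-- the non-maximal primes. -/
def nonMax (A : Type u) [CommRing A] : Set (PrimeSpectrum A) := {p | ¬ p.asIdeal.IsMaximal}

/-- length of the localization. -/
noncomputable def Lq (N : Type u) [AddCommGroup N] [Module A N] (p : PrimeSpectrum A) : ℕ∞ :=
  Module.length (Localization.AtPrime p.asIdeal) (LocalizedModule p.asIdeal.primeCompl N)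

/-- the sum over non-maximal primes. -/
noncomputable def rhoR (a : A) (N : Type u) [AddCommGroup N] [Module A N] : ℕ∞ :=
  ∑ᶠ p ∈ nonMax A, term a N p

/-- finiteness of the relevant support. -/
def FSupp (N : Type u) [AddCommGroup N] [Module A N] : Prop :=
  {p : PrimeSpectrum A | p ∈ nonMax A ∧ Lq N p ≠ 0}.Finite

theorem term_eq (a : A) (N : Type u) [AddCommGroup N] [Module A N] (p : PrimeSpectrum A) :
    term a N p = Lq N p * Module.length A (A ⧸ (p.asIdeal ⊔ Ideal.span {a})) := rfl

theorem FSupp.inter_support {N : Type u} [AddCommGroup N] [Module A N] (h : FSupp (A := A) N) (a : A) :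
    (nonMax A ∩ Function.support (term a N)).Finite := by
  refine h.subset ?_
  rintro p ⟨hp1, hp2⟩
  refine ⟨hp1, fun h0 => hp2 ?_⟩
  rw [term_eq, h0, zero_mul]

theorem rhoR_add (a : A) {N₁ N₂ N₃ : Type u} [AddCommGroup N₁] [Module A N₁]
    [AddCommGroup N₂] [Module A N₂] [AddCommGroup N₃] [Module A N₃]
    (f : N₁ →ₗ[A] N₂) (g : N₂ →ₗ[A] N₃) (hf : Injective f) (hg : Surjective g)
    (hex : Exact f g) (h₁ : FSupp (A := A) N₁) (h₃ : FSupp (A := A) N₃) :
    rhoR a N₂ = rhoR a N₁ + rhoR a N₃ := by
  unfold rhoR
  rw [← finsum_mem_add_distrib' (h₁.inter_support a) (h₃.inter_support a)]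
  refine finsum_mem_congr rfl (fun p _ => ?_)
  unfold term
  rw [length_localized_add p.asIdeal.primeCompl f g hf hg hex, add_mul]

theorem FSupp_of_exact {N₁ N₂ N₃ : Type u} [AddCommGroup N₁] [Module A N₁]
    [AddCommGroup N₂] [Module A N₂] [AddCommGroup N₃] [Module A N₃]
    (f : N₁ →ₗ[A] N₂) (g : N₂ →ₗ[A] N₃) (hf : Injective f) (hg : Surjective g)
    (hex : Exact f g) (h₁ : FSupp (A := A) N₁) (h₃ : FSupp (A := A) N₃) : FSupp (A := A) N₂ := by
  refine (h₁.union h₃).subset ?_
  rintro p ⟨hp1, hp2⟩
  unfold Lq at hp2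
  rw [length_localized_add p.asIdeal.primeCompl f g hf hg hex] at hp2
  by_cases h0 : Lq N₁ p = 0
  · right
    refine ⟨hp1, fun h3 => hp2 ?_⟩
    unfold Lq at h0 h3
    rw [h0, h3, add_zero]
  · left
    exact ⟨hp1, h0⟩

/-- the identity. -/
def PR (a : A) (N : Type u) [AddCommGroup N] [Module A N] : Prop :=
  FSupp (A := A) N ∧
    Module.length A (QuotSMulTop a N) = Module.length A (LinearMap.ker (T a N)) + rhoR a N

theorem PR_of_subsingleton (a : A) (N : Type u) [AddCommGroup N] [Module A N] [Subsingleton N] :
    PR a N := by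
  have hL : ∀ p : PrimeSpectrum A, Lq N p = 0 := fun p => Module.length_eq_zero
  refine ⟨?_, ?_⟩
  · have : {p : PrimeSpectrum A | p ∈ nonMax A ∧ Lq N p ≠ 0} = ∅ := by
      ext p
      simp [hL p]
    unfold FSupp
    rw [this]
    exact Set.finite_empty
  · rw [Module.length_eq_zero, Module.length_eq_zero, zero_add]
    unfold rhoR
    symm
    refine finsum_mem_eq_zero_of_forall_eq_zero (fun p _ => ?_)
    rw [term_eq, hL p, zero_mul]

theorem PR_of_exact (a : A) {N₁ N₂ N₃ : Type u} [AddCommGroup N₁] [Module A N₁]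
    [Module.Finite A N₁] [AddCommGroup N₂] [Module A N₂] [Module.Finite A N₂]
    [AddCommGroup N₃] [Module A N₃] [Module.Finite A N₃]
    (f : N₁ →ₗ[A] N₂) (g : N₂ →ₗ[A] N₃) (hf : Injective f) (hg : Surjective g)
    (hex : Exact f g) (hG : GoodSupp a N₂) (h₁ : PR a N₁) (h₃ : PR a N₃) : PR a N₂ := by
  refine ⟨FSupp_of_exact f g hf hg hex h₁.1 h₃.1, ?_⟩
  have hs := snake_length a f g hf hg hex
  rw [h₁.2, h₃.2] at hs
  rw [rhoR_add a f g hf hg hex h₁.1 h₃.1]
  have hK₁ := (hG.of_injective f hf).length_ker_ne_top
  have hK₃ := (hG.of_surjective g hg).length_ker_ne_top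
  have hfin : Module.length A (LinearMap.ker (T a N₁)) + Module.length A (LinearMap.ker (T a N₃))
      ≠ ⊤ := by
    simp only [ne_eq, ENat.add_eq_top, not_or]
    exact ⟨hK₁, hK₃⟩
  refine (ENat.add_left_injective_of_ne_top hfin) ?_
  simp only
  rw [add_comm _ (Module.length A (LinearMap.ker (T a N₁)) +
    Module.length A (LinearMap.ker (T a N₃))), ← hs]
  ring

theorem PR_of_equiv_quot (a : A) (N : Type u) [AddCommGroup N] [Module A N] [Module.Finite A N]
    (q : PrimeSpectrum A) (e : N ≃ₗ[A] A ⧸ q.asIdeal) (hG : GoodSupp a N) : PR a N := by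
  classical
  have hkill : ∀ s ∈ q.asIdeal, ∀ n : N, s • n = 0 := by
    intro s hs n
    apply e.injective
    rw [map_smul, map_zero]
    obtain ⟨r, hr⟩ := Ideal.Quotient.mk_surjective (e n)
    rw [← hr]
    change Ideal.Quotient.mk q.asIdeal (s * r) = 0
    exact Ideal.Quotient.eq_zero_iff_mem.mpr (Ideal.mul_mem_right _ _ hs)
  have hzero : ∀ p : PrimeSpectrum A, ¬ q.asIdeal ≤ p.asIdeal → Lq N p = 0 := by
    intro p hqp
    obtain ⟨s, hsq, hsp⟩ := Set.not_subset.mp hqp
    exact length_localized_eq_zero _ (s := s) hsp (hkill s hsq)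
  by_cases hmax : q.asIdeal.IsMaximal
  · -- `q` maximal
    have hN : Module.length A N ≠ ⊤ := by
      rw [e.length_eq]
      haveI : IsSimpleModule A (A ⧸ q.asIdeal) :=
        isSimpleModule_iff_isCoatom.mpr (Ideal.isMaximal_def.mp hmax)
      rw [Module.length_eq_one]
      exact ENat.one_ne_top
    have hL : ∀ p ∈ nonMax A, Lq N p = 0 := by
      intro p hp
      apply hzero
      intro hle
      apply hp
      have : q.asIdeal = p.asIdeal := hmax.eq_of_le p.isPrime.ne_top hle
      rw [← this]
      exact hmax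
    refine ⟨?_, ?_⟩
    · have : {p : PrimeSpectrum A | p ∈ nonMax A ∧ Lq N p ≠ 0} = ∅ := by
        ext p
        simp only [Set.mem_ofPred_eq, Set.mem_empty_iff_false, iff_false, not_and, not_not]
        exact hL p
      unfold FSupp
      rw [this]
      exact Set.finite_empty
    · rw [length_ker_eq_length_quot a N hN]
      unfold rhoR
      rw [finsum_mem_eq_zero_of_forall_eq_zero, add_zero]
      intro p hp
      rw [term_eq, hL p hp, zero_mul]
  · -- `q` not maximal
    obtain ⟨haq, habove⟩ := (hG q (mem_support_of_equiv_quot q e)).resolve_left hmax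
    have hqnm : q ∈ nonMax A := hmax
    have hker : LinearMap.ker (T a N) = ⊥ := by
      rw [LinearMap.ker_eq_bot']
      intro n hn
      have hn' : a • n = 0 := hn
      apply e.injective
      rw [map_zero]
      have h2 : a • e n = 0 := by rw [← map_smul, hn', map_zero]
      obtain ⟨r, hr⟩ := Ideal.Quotient.mk_surjective (e n)
      rw [← hr] at h2 ⊢
      have h3 : Ideal.Quotient.mk q.asIdeal (a * r) = 0 := h2
      rw [Ideal.Quotient.eq_zero_iff_mem] at h3 ⊢
      exact (q.isPrime.mem_or_mem h3).resolve_left haq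
    have hK0 : Module.length A (LinearMap.ker (T a N)) = 0 := by
      rw [hker]
      exact Module.length_eq_zero
    have hLother : ∀ p ∈ nonMax A, p ≠ q → Lq N p = 0 := by
      intro p hp hpq
      apply hzero
      intro hle
      apply hp
      apply habove p.asIdeal p.isPrime
      refine lt_of_le_of_ne hle (fun h => hpq ?_)
      exact (PrimeSpectrum.ext h).symm
    have hLq : Lq N q = 1 := by
      unfold Lq
      rw [length_localized_congr _ e]
      exact length_localized_quot_self q.asIdeal
    refine ⟨?_, ?_⟩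
    · refine (Set.finite_singleton q).subset ?_
      rintro p ⟨hp1, hp2⟩
      by_contra hpq
      exact hp2 (hLother p hp1 hpq)
    · obtain ⟨e2⟩ := quotSMulTop_quot_equiv a q.asIdeal
      rw [hK0, zero_add, ((QuotSMulTop.congr a e).trans e2).length_eq]
      unfold rhoR
      rw [finsum_eq_single _ q]
      · rw [finsum_eq_if, if_pos hqnm, term_eq, hLq, one_mul]
      · intro p hpq
        by_cases hp : p ∈ nonMax A
        · rw [finsum_eq_if, if_pos hp, term_eq, hLother p hp hpq, zero_mul]
        · rw [finsum_eq_if, if_neg hp]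

theorem PR_all (a : A) (M : Type u) [AddCommGroup M] [Module A M] [hM : Module.Finite A M]
    (hG : GoodSupp a M) : PR a M := by
  revert hG
  induction hM using IsNoetherianRing.induction_on_isQuotientEquivQuotientPrime A with
  | subsingleton N => exact fun _ => PR_of_subsingleton a N
  | quotient N p e => exact fun hG => PR_of_equiv_quot a N p e hG
  | exact N₁ N₂ N₃ f g hf hg hex h₁ h₃ =>
    exact fun hG => PR_of_exact a f g hf hg hex hG (h₁ (hG.of_injective f hf))
      (h₃ (hG.of_surjective g hg))

end Groth.Agent.Helper6.Dim1
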