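import Mathlib

/-! Integer-valued polynomial functions in binomial form `∑_{k<n} c_k * C(i+k, k)`:
closure properties needed for the Hilbert–Serre induction. -/

set_option autoImplicit false

namespace Groth.Agent.Helper6.HilbSerre

/-- the binomial basis function `B_k(i) = C(i+k, k)`. -/
def B (k : ℕ) : ℕ → ℤ := fun i => ((i + k).choose k : ℤ)

/-- functions of the form `∑_{k<n} c_k B_k`. -/
def PB (n : ℕ) : Submodule ℤ (ℕ → ℤ) := Submodule.span ℤ (Set.range fun k : Fin n => B k)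

lemma B_mem {n k : ℕ} (hk : k < n) : B k ∈ PB n :=
  Submodule.subset_span ⟨⟨k, hk⟩, rfl⟩

lemma PB_mono {m n : ℕ} (h : m ≤ n) : PB m ≤ PB n := by
  apply Submodule.span_le.mpr
  rintro _ ⟨k, rfl⟩
  exact B_mem (lt_of_lt_of_le k.2 h)

lemma PB_zero : PB 0 = ⊥ := by
  unfold PB
  rw [Submodule.span_eq_bot]
  rintro _ ⟨k, rfl⟩
  exact k.elim0

lemma B_zero (i : ℕ) : B 0 i = 1 := by simp [B]

/-- Pascal: `B_{k+1}(i+1) = B_{k+1}(i) + B_k(i+1)`. -/
lemma B_succ_succ (k i : ℕ) : B (k + 1) (i + 1) = B (k + 1) i + B k (i + 1) := by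
  unfold B
  have h1 : i + 1 + (k + 1) = (i + k + 1) + 1 := by omega
  have h2 : i + (k + 1) = i + k + 1 := by omega
  have h3 : i + 1 + k = i + k + 1 := by omega
  rw [h1, h2, h3, Nat.choose_succ_succ' (i + k + 1) k]
  push_cast
  ring

/-- backward shift: for `f ∈ PB n` there is `f' ∈ PB n` with `f' (i+1) = f i`. -/
lemma exists_shift_back {n : ℕ} {f : ℕ → ℤ} (hf : f ∈ PB n) :
    ∃ f' ∈ PB n, ∀ i, f' (i + 1) = f i := by
  induction hf using Submodule.span_induction with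
  | mem x hx =>
    obtain ⟨k, rfl⟩ := hx
    obtain ⟨k, hk⟩ := k
    cases k with
    | zero =>
      exact ⟨B 0, B_mem hk, fun i => by simp [B_zero]⟩
    | succ k =>
      refine ⟨B (k + 1) - B k, Submodule.sub_mem _ (B_mem hk) (B_mem (by omega)), fun i => ?_⟩
      simp only [Pi.sub_apply]
      rw [B_succ_succ]
      ring
  | zero => exact ⟨0, Submodule.zero_mem _, fun i => rfl⟩
  | add x y _ _ hx hy =>
    obtain ⟨x', hx', ex⟩ := hx
    obtain ⟨y', hy', ey⟩ := hy
    exact ⟨x' + y', Submodule.add_mem _ hx' hy', fun i => by simp [ex, ey]⟩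
  | smul a x _ hx =>
    obtain ⟨x', hx', ex⟩ := hx
    exact ⟨a • x', Submodule.smul_mem _ a hx', fun i => by simp [ex]⟩

/-- antidifference: for `f ∈ PB n` there is `g ∈ PB (n+1)` with `g (i+1) - g i = f (i+1)`. -/
lemma exists_antidiff {n : ℕ} {f : ℕ → ℤ} (hf : f ∈ PB n) :
    ∃ g ∈ PB (n + 1), ∀ i, g (i + 1) - g i = f (i + 1) := by
  induction hf using Submodule.span_induction with
  | mem x hx =>
    obtain ⟨k, rfl⟩ := hx
    refine ⟨B (k + 1), B_mem (by omega), fun i => ?_⟩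
    rw [B_succ_succ]
    ring
  | zero => exact ⟨0, Submodule.zero_mem _, fun i => by simp⟩
  | add x y _ _ hx hy =>
    obtain ⟨x', hx', ex⟩ := hx
    obtain ⟨y', hy', ey⟩ := hy
    refine ⟨x' + y', Submodule.add_mem _ hx' hy', fun i => ?_⟩
    simp only [Pi.add_apply]
    rw [← ex, ← ey]
    ring
  | smul a x _ hx =>
    obtain ⟨x', hx', ex⟩ := hx
    refine ⟨a • x', Submodule.smul_mem _ a hx', fun i => ?_⟩
    simp only [Pi.smul_apply, smul_eq_mul]
    rw [← ex]
    ring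

/-- `h` is eventually in `PB n`. -/
def EvP (n : ℕ) (h : ℕ → ℤ) : Prop := ∃ f ∈ PB n, ∃ N : ℕ, ∀ i, N ≤ i → h i = f i

lemma EvP_of_eventually_zero (n : ℕ) (h : ℕ → ℤ) (N : ℕ) (hN : ∀ i, N ≤ i → h i = 0) : EvP n h :=
  ⟨0, Submodule.zero_mem _, N, fun i hi => by simp [hN i hi]⟩

/-- the induction step: if `h (i+1) - h i = hC (i+1) - hK i` with `hC, hK` eventually in `PB n`,
then `h` is eventually in `PB (n+1)`. -/
theorem EvP_step (n : ℕ) (h hC hK : ℕ → ℤ) (hCP : EvP n hC) (hKP : EvP n hK)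
    (hrel : ∀ i, h (i + 1) - h i = hC (i + 1) - hK i) : EvP (n + 1) h := by
  obtain ⟨a, ha, N₁, hN₁⟩ := hCP
  obtain ⟨b, hb, N₂, hN₂⟩ := hKP
  obtain ⟨b', hb', eb'⟩ := exists_shift_back hb
  obtain ⟨g, hg, eg⟩ := exists_antidiff (Submodule.sub_mem _ ha hb')
  set N := max N₁ N₂ with hNdef
  -- `h - g` is constant from `N` on
  have hconst : ∀ i, N ≤ i → h i - g i = h N - g N := by
    intro i hi
    induction i, hi using Nat.le_induction with
    | base => rfl
    | succ i hi ih =>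
      have h1 := hrel i
      have h2 := eg i
      simp only [Pi.sub_apply] at h2
      rw [eb' i] at h2
      have h3 := hN₁ (i + 1) (by omega)
      have h4 := hN₂ i (by omega)
      rw [← ih]
      linarith
  refine ⟨g + (h N - g N) • B 0, Submodule.add_mem _ hg (Submodule.smul_mem _ _ (B_mem (by omega))),
    N, fun i hi => ?_⟩
  have := hconst i hi
  simp only [Pi.add_apply, Pi.smul_apply, B_zero, smul_eq_mul, mul_one]
  linarith

/-- conversion to explicit coefficients. -/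
theorem exists_coeff_of_mem {n : ℕ} {f : ℕ → ℤ} (hf : f ∈ PB n) :
    ∃ c : Fin n → ℤ, ∀ i : ℕ, f i = ∑ k : Fin n, c k * ((i + (k : ℕ)).choose (k : ℕ) : ℤ) := by
  obtain ⟨c, hc⟩ := (Submodule.mem_span_range_iff_exists_fun ℤ).mp hf
  refine ⟨c, fun i => ?_⟩
  rw [← hc]
  simp [Finset.sum_apply, B]

end Groth.Agent.Helper6.HilbSerre
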