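import Mathlib
import Groth.Agent.Helper6.HilbSerreArith

/-! Integer-valued functions that are eventually polynomial, and the growth lemma. -/

set_option autoImplicit false

namespace Groth.Agent.Helper6.HilbSerre

open Polynomial Filter

/-- a function in binomial form is a polynomial function of degree `< n`. -/
theorem exists_poly_of_mem_PB {n : ℕ} {f : ℕ → ℤ} (hf : f ∈ PB n) :
    ∃ P : ℚ[X], P.degree < (n : WithBot ℕ) ∧ ∀ i : ℕ, ((f i : ℤ) : ℚ) = P.eval (i : ℚ) := by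
  induction hf using Submodule.span_induction with
  | mem g hg =>
    obtain ⟨k, rfl⟩ := hg
    refine ⟨preHilbertPoly ℚ k 0, ?_, fun i => ?_⟩
    · rw [degree_eq_natDegree, natDegree_preHilbertPoly]
      · exact_mod_cast k.2
      · intro h
        have h1 := natDegree_preHilbertPoly ℚ (k : ℕ) 0
        have h2 := leadingCoeff_preHilbertPoly ℚ (k : ℕ) 0
        rw [h, leadingCoeff_zero] at h2
        have : ((k : ℕ).factorial : ℚ) ≠ 0 := by exact_mod_cast (Nat.factorial_pos _).ne'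
        exact this (inv_eq_zero.mp h2.symm)
    · rw [preHilbertPoly_eq_choose_sub_add ℚ (k : ℕ) (Nat.zero_le i)]
      simp [B]
  | zero => exact ⟨0, by simp, fun i => by simp⟩
  | add g h _ _ hg hh =>
    obtain ⟨P, hP, eP⟩ := hg
    obtain ⟨Q, hQ, eQ⟩ := hh
    refine ⟨P + Q, lt_of_le_of_lt (degree_add_le P Q) (max_lt hP hQ), fun i => ?_⟩
    simp [eP, eQ]
  | smul a g _ hg =>
    obtain ⟨P, hP, eP⟩ := hg
    refine ⟨(a : ℚ) • P, lt_of_le_of_lt (degree_smul_le _ _) hP, fun i => ?_⟩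
    simp [eP]

/-- `h` is eventually given by the polynomial `P`. -/
def HasHP (h : ℕ → ℤ) (P : ℚ[X]) : Prop := ∃ N : ℕ, ∀ i, N ≤ i → ((h i : ℤ) : ℚ) = P.eval (i : ℚ)

theorem exists_HasHP_of_EvP {n : ℕ} {h : ℕ → ℤ} (hh : EvP n h) :
    ∃ P : ℚ[X], P.degree < (n : WithBot ℕ) ∧ HasHP h P := by
  obtain ⟨f, hf, N, hN⟩ := hh
  obtain ⟨P, hP, eP⟩ := exists_poly_of_mem_PB hf
  exact ⟨P, hP, N, fun i hi => by rw [hN i hi, eP]⟩

/-- two polynomials agreeing at all large naturals are equal. -/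
theorem poly_eq_of_eventually_eq {P Q : ℚ[X]} (N : ℕ)
    (h : ∀ i : ℕ, N ≤ i → P.eval (i : ℚ) = Q.eval (i : ℚ)) : P = Q := by
  apply Polynomial.eq_of_infinite_eval_eq
  have hinf : (Set.range fun i : ℕ => ((i + N : ℕ) : ℚ)).Infinite := by
    apply Set.infinite_range_of_injective
    intro a b hab
    have hab' : ((a + N : ℕ) : ℚ) = ((b + N : ℕ) : ℚ) := hab
    have : (a + N : ℕ) = b + N := by exact_mod_cast hab'
    omega
  refine hinf.mono ?_
  rintro _ ⟨i, rfl⟩
  exact h (i + N) (by omega)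

theorem HasHP.unique {h : ℕ → ℤ} {P Q : ℚ[X]} (hP : HasHP h P) (hQ : HasHP h Q) : P = Q := by
  obtain ⟨N₁, h₁⟩ := hP
  obtain ⟨N₂, h₂⟩ := hQ
  refine poly_eq_of_eventually_eq (max N₁ N₂) fun i hi => ?_
  rw [← h₁ i (by omega), ← h₂ i (by omega)]

/-- the growth lemma. -/
theorem degree_le_of_eventually_le {P Q : ℚ[X]} (N : ℕ)
    (h : ∀ i : ℕ, N ≤ i → 0 ≤ P.eval (i : ℚ) ∧ P.eval (i : ℚ) ≤ Q.eval (i : ℚ)) :
    P.degree ≤ Q.degree := by
  by_contra hcon
  rw [not_le] at hcon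
  by_cases hQ : Q = 0
  · have hP : P = 0 := by
      refine poly_eq_of_eventually_eq N fun i hi => ?_
      have := h i hi
      rw [hQ] at this
      simp only [eval_zero] at this ⊢
      exact le_antisymm this.2 this.1
    rw [hP, hQ] at hcon
    exact lt_irrefl _ hcon
  · have h1 := (abs_div_tendsto_atTop_atTop_of_degree_gt P Q hcon hQ).comp
      (tendsto_natCast_atTop_atTop (R := ℚ))
    have h2 := (h1.eventually_gt_atTop 1).and (eventually_ge_atTop N)
    obtain ⟨i, hi1, hiN⟩ := h2.exists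
    simp only [Function.comp_apply] at hi1
    obtain ⟨hp0, hpq⟩ := h i hiN
    have hq0 : 0 ≤ Q.eval (i : ℚ) := hp0.trans hpq
    rw [abs_div, abs_of_nonneg hp0, abs_of_nonneg hq0] at hi1
    rcases eq_or_lt_of_le hq0 with hq | hq
    · rw [← hq, div_zero] at hi1
      linarith
    · rw [lt_div_iff₀ hq] at hi1
      linarith

end Groth.Agent.Helper6.HilbSerre
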