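import Mathlib
import Groth.Agent.Helper6.HilbSerreArith

/-! Graded modules over `A₀[X₁..X_d]` via component maps; kernel and cokernel of a variable. -/

set_option autoImplicit false
universe u

namespace Groth.Agent.Helper6.HilbSerre

open MvPolynomial

variable (A₀ : Type u) [CommRing A₀] (d : ℕ)
variable (M : Type u) [AddCommGroup M] [Module (MvPolynomial (Fin d) A₀) M] [Module A₀ M]
  [IsScalarTower A₀ (MvPolynomial (Fin d) A₀) M]

/-- a grading of a module over the polynomial ring, presented via component maps. -/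
structure Gr where
  ℳ : ℕ → Submodule A₀ M
  comp : ℕ → M →ₗ[A₀] M
  comp_mem : ∀ i m, comp i m ∈ ℳ i
  comp_same : ∀ i m, m ∈ ℳ i → comp i m = m
  comp_ne : ∀ i l m, m ∈ ℳ l → l ≠ i → comp i m = 0
  sum_comp : ∀ m, ∃ s : Finset ℕ, (∀ i, i ∉ s → comp i m = 0) ∧ ∑ i ∈ s, comp i m = m
  X_smul : ∀ (k : Fin d) (i : ℕ) (m : M), m ∈ ℳ i →
    (X k : MvPolynomial (Fin d) A₀) • m ∈ ℳ (i + 1)

variable {A₀ d M}

namespace Gr

variable (G : Gr A₀ d M)

lemma comp_succ_X (k : Fin d) (i : ℕ) (w : M) :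
    G.comp (i + 1) ((X k : MvPolynomial (Fin d) A₀) • w) =
      (X k : MvPolynomial (Fin d) A₀) • G.comp i w := by
  classical
  obtain ⟨s, hs0, hs⟩ := G.sum_comp w
  have h1 : (X k : MvPolynomial (Fin d) A₀) • w =
      ∑ l ∈ s, (X k : MvPolynomial (Fin d) A₀) • G.comp l w := by
    rw [← Finset.smul_sum, hs]
  rw [h1, map_sum]
  have h2 : ∀ l ∈ s, G.comp (i + 1) ((X k : MvPolynomial (Fin d) A₀) • G.comp l w) =
      if l = i then (X k : MvPolynomial (Fin d) A₀) • G.comp i w else 0 := by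
    intro l _
    have hmem := G.X_smul k l _ (G.comp_mem l w)
    split_ifs with hli
    · subst hli
      exact G.comp_same _ _ hmem
    · exact G.comp_ne _ _ _ hmem (by omega)
  rw [Finset.sum_congr rfl h2, Finset.sum_ite_eq' s i]
  split_ifs with his
  · rfl
  · rw [hs0 i his, smul_zero]

lemma comp_zero_X (k : Fin d) (w : M) :
    G.comp 0 ((X k : MvPolynomial (Fin d) A₀) • w) = 0 := by
  classical
  obtain ⟨s, hs0, hs⟩ := G.sum_comp w
  have h1 : (X k : MvPolynomial (Fin d) A₀) • w =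
      ∑ l ∈ s, (X k : MvPolynomial (Fin d) A₀) • G.comp l w := by
    rw [← Finset.smul_sum, hs]
  rw [h1, map_sum]
  refine Finset.sum_eq_zero fun l _ => ?_
  exact G.comp_ne _ _ _ (G.X_smul k l _ (G.comp_mem l w)) (by omega)

end Gr

section KC

variable (A₀) (M) (j : Fin d)

/-- the kernel of multiplication by `X j`. -/
noncomputable def Kj : Submodule (MvPolynomial (Fin d) A₀) M :=
  LinearMap.ker (LinearMap.lsmul (MvPolynomial (Fin d) A₀) M (X j))

/-- the image of multiplication by `X j`. -/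
noncomputable def Rj : Submodule (MvPolynomial (Fin d) A₀) M :=
  LinearMap.range (LinearMap.lsmul (MvPolynomial (Fin d) A₀) M (X j))

variable {A₀ M}

lemma mem_Kj {m : M} : m ∈ Kj A₀ M j ↔ (X j : MvPolynomial (Fin d) A₀) • m = 0 := by
  simp [Kj]

lemma mem_Rj {m : M} : m ∈ Rj A₀ M j ↔ ∃ w : M, (X j : MvPolynomial (Fin d) A₀) • w = m := by
  simp [Rj, LinearMap.mem_range]

variable (G : Gr A₀ d M)

/-- component maps on the kernel. -/
noncomputable def compK (i : ℕ) : ↥(Kj A₀ M j) →ₗ[A₀] ↥(Kj A₀ M j) where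
  toFun x := ⟨G.comp i x, by
    rw [mem_Kj, ← G.comp_succ_X, (mem_Kj j).mp x.2, map_zero]⟩
  map_add' x y := by
    apply Subtype.ext
    simp
  map_smul' a x := by
    apply Subtype.ext
    simp

@[simp] lemma compK_coe (i : ℕ) (x : ↥(Kj A₀ M j)) : ((compK j G i x : ↥(Kj A₀ M j)) : M) = G.comp i x := rfl

/-- the grading on the kernel. -/
noncomputable def GrK : Gr A₀ d ↥(Kj A₀ M j) where
  ℳ i := (G.ℳ i).comap ((Kj A₀ M j).subtype.restrictScalars A₀)
  comp := compK j G
  comp_mem i x := by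
    rw [Submodule.mem_comap]
    exact G.comp_mem i x
  comp_same i x hx := by
    apply Subtype.ext
    exact G.comp_same i x hx
  comp_ne i l x hx hne := by
    apply Subtype.ext
    exact G.comp_ne i l x hx hne
  sum_comp x := by
    obtain ⟨s, hs0, hs⟩ := G.sum_comp (x : M)
    refine ⟨s, fun i hi => ?_, ?_⟩
    · apply Subtype.ext
      exact hs0 i hi
    · apply Subtype.ext
      rw [AddSubmonoidClass.coe_finsetSum]
      exact hs
  X_smul k i x hx := by
    rw [Submodule.mem_comap] at hx ⊢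
    exact G.X_smul k i x hx

lemma GrK_mem (i : ℕ) (x : ↥(Kj A₀ M j)) : x ∈ (GrK j G).ℳ i ↔ (x : M) ∈ G.ℳ i := Iff.rfl

/-- component maps preserve the image of `X j`. -/
lemma comp_mem_Rj (i : ℕ) (m : M) (hm : m ∈ Rj A₀ M j) : G.comp i m ∈ Rj A₀ M j := by
  obtain ⟨w, rfl⟩ := (mem_Rj j).mp hm
  cases i with
  | zero =>
    rw [G.comp_zero_X]
    exact Submodule.zero_mem _
  | succ i =>
    rw [G.comp_succ_X]
    exact (mem_Rj j).mpr ⟨_, rfl⟩

/-- component maps on the cokernel. -/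
noncomputable def compC (i : ℕ) : (M ⧸ Rj A₀ M j) →ₗ[A₀] (M ⧸ Rj A₀ M j) :=
  (((Rj A₀ M j).restrictScalars A₀).liftQ (((Rj A₀ M j).mkQ.restrictScalars A₀) ∘ₗ G.comp i) (by
      intro m hm
      rw [LinearMap.mem_ker, LinearMap.comp_apply]
      change (Rj A₀ M j).mkQ (G.comp i m) = 0
      rw [Submodule.mkQ_apply, Submodule.Quotient.mk_eq_zero]
      exact comp_mem_Rj j G i m hm)) ∘ₗ
    (Submodule.Quotient.restrictScalarsEquiv A₀ (Rj A₀ M j)).symm.toLinearMap

lemma compC_mk (i : ℕ) (m : M) :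
    compC j G i (Submodule.Quotient.mk m) = Submodule.Quotient.mk (G.comp i m) := by
  unfold compC
  rw [LinearMap.comp_apply]
  change (((Rj A₀ M j).restrictScalars A₀).liftQ _ _)
    ((Submodule.Quotient.restrictScalarsEquiv A₀ (Rj A₀ M j)).symm (Submodule.Quotient.mk m)) = _
  rw [Submodule.Quotient.restrictScalarsEquiv_symm_mk]
  rfl

/-- the grading on the cokernel. -/
noncomputable def GrC : Gr A₀ d (M ⧸ Rj A₀ M j) where
  ℳ i := (G.ℳ i).map ((Rj A₀ M j).mkQ.restrictScalars A₀)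
  comp := compC j G
  comp_mem i y := by
    obtain ⟨m, rfl⟩ := Submodule.Quotient.mk_surjective _ y
    rw [compC_mk]
    exact Submodule.mem_map_of_mem (f := (Rj A₀ M j).mkQ.restrictScalars A₀) (G.comp_mem i m)
  comp_same i y hy := by
    obtain ⟨m, hm, rfl⟩ := hy
    change compC j G i (Submodule.Quotient.mk m) = Submodule.Quotient.mk m
    rw [compC_mk, G.comp_same i m hm]
  comp_ne i l y hy hne := by
    obtain ⟨m, hm, rfl⟩ := hy
    change compC j G i (Submodule.Quotient.mk m) = 0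
    rw [compC_mk, G.comp_ne i l m hm hne, Submodule.Quotient.mk_zero]
  sum_comp y := by
    obtain ⟨m, rfl⟩ := Submodule.Quotient.mk_surjective _ y
    obtain ⟨s, hs0, hs⟩ := G.sum_comp m
    refine ⟨s, fun i hi => ?_, ?_⟩
    · rw [compC_mk, hs0 i hi, Submodule.Quotient.mk_zero]
    · simp_rw [compC_mk]
      have h1 : (Submodule.Quotient.mk m : M ⧸ Rj A₀ M j) =
          (Rj A₀ M j).mkQ (∑ i ∈ s, G.comp i m) := by
        rw [hs]
        rfl
      rw [h1, map_sum]
      rfl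
  X_smul k i y hy := by
    obtain ⟨m, hm, rfl⟩ := hy
    change (X k : MvPolynomial (Fin d) A₀) • (Submodule.Quotient.mk m : M ⧸ Rj A₀ M j) ∈ _
    rw [← Submodule.Quotient.mk_smul]
    exact Submodule.mem_map_of_mem (f := (Rj A₀ M j).mkQ.restrictScalars A₀) (G.X_smul k i m hm)

lemma GrC_mem (i : ℕ) (y : M ⧸ Rj A₀ M j) :
    y ∈ (GrC j G).ℳ i ↔ ∃ m ∈ G.ℳ i, (Submodule.Quotient.mk m : M ⧸ Rj A₀ M j) = y := Iff.rfl

end KC

end Groth.Agent.Helper6.HilbSerre
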