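import Mathlib
import Groth.Agent.Helper6.HilbSerreGr

/-! Degreewise length relations between a graded module and the kernel/cokernel of a variable. -/

set_option autoImplicit false
universe u

namespace Groth.Agent.Helper6.HilbSerre

open MvPolynomial

variable {A₀ : Type u} [CommRing A₀] {d : ℕ}
variable {M : Type u} [AddCommGroup M] [Module (MvPolynomial (Fin d) A₀) M] [Module A₀ M]
  [IsScalarTower A₀ (MvPolynomial (Fin d) A₀) M]
variable (j : Fin d) (G : Gr A₀ d M)

/-- multiplication by `X j` from degree `i` to degree `i+1`. -/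
noncomputable def mu (i : ℕ) : ↥(G.ℳ i) →ₗ[A₀] ↥(G.ℳ (i + 1)) where
  toFun y := ⟨(X j : MvPolynomial (Fin d) A₀) • (y : M), G.X_smul j i y y.2⟩
  map_add' y z := Subtype.ext (by simp [smul_add])
  map_smul' a y := Subtype.ext (smul_comm _ _ _)

@[simp] lemma mu_coe (i : ℕ) (y : ↥(G.ℳ i)) :
    ((mu j G i y : ↥(G.ℳ (i + 1))) : M) = (X j : MvPolynomial (Fin d) A₀) • (y : M) := rfl

/-- the kernel of `mu` is the degree `i` part of the kernel module. -/
noncomputable def kerEquiv (i : ℕ) : ↥((GrK j G).ℳ i) ≃ₗ[A₀] ↥(LinearMap.ker (mu j G i)) where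
  toFun x := ⟨⟨((x : ↥(Kj A₀ M j)) : M), x.2⟩, by
    rw [LinearMap.mem_ker]
    apply Subtype.ext
    exact (mem_Kj j).mp x.1.2⟩
  invFun y := ⟨⟨((y : ↥(G.ℳ i)) : M),
    (mem_Kj j).mpr (congrArg Subtype.val (LinearMap.mem_ker.mp y.2))⟩, y.1.2⟩
  left_inv x := rfl
  right_inv y := rfl
  map_add' x y := rfl
  map_smul' a x := rfl

/-- the projection of the degree `i` part onto the degree `i` part of the cokernel module. -/
noncomputable def psi (i : ℕ) : ↥(G.ℳ i) →ₗ[A₀] ↥((GrC j G).ℳ i) where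
  toFun y := ⟨Submodule.Quotient.mk (y : M), ⟨y, y.2, rfl⟩⟩
  map_add' y z := rfl
  map_smul' a y := rfl

lemma psi_surjective (i : ℕ) : Function.Surjective (psi j G i) := by
  rintro ⟨y, m, hm, rfl⟩
  exact ⟨⟨m, hm⟩, rfl⟩

lemma mem_ker_psi (i : ℕ) (y : ↥(G.ℳ i)) :
    y ∈ LinearMap.ker (psi j G i) ↔ (y : M) ∈ Rj A₀ M j := by
  rw [LinearMap.mem_ker]
  constructor
  · intro h
    have := congrArg Subtype.val h
    exact (Submodule.Quotient.mk_eq_zero _).mp this
  · intro h
    apply Subtype.ext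
    exact (Submodule.Quotient.mk_eq_zero _).mpr h

lemma ker_psi_succ (i : ℕ) : LinearMap.ker (psi j G (i + 1)) = LinearMap.range (mu j G i) := by
  ext y
  rw [mem_ker_psi, LinearMap.mem_range]
  constructor
  · intro h
    obtain ⟨w, hw⟩ := (mem_Rj j).mp h
    refine ⟨⟨G.comp i w, G.comp_mem i w⟩, ?_⟩
    apply Subtype.ext
    rw [mu_coe]
    change (X j : MvPolynomial (Fin d) A₀) • G.comp i w = (y : M)
    rw [← G.comp_succ_X, hw, G.comp_same _ _ y.2]
  · rintro ⟨z, rfl⟩
    exact (mem_Rj j).mpr ⟨z, rfl⟩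

lemma psi_zero_injective : Function.Injective (psi j G 0) := by
  rw [← LinearMap.ker_eq_bot, LinearMap.ker_eq_bot']
  intro y hy
  have h := (mem_ker_psi j G 0 y).mp hy
  obtain ⟨w, hw⟩ := (mem_Rj j).mp h
  apply Subtype.ext
  change (y : M) = 0
  rw [← G.comp_same 0 _ y.2, ← hw, G.comp_zero_X]

/-- `ℓ(C₀) = ℓ(M₀)`. -/
theorem length_zero :
    Module.length A₀ ↥((GrC j G).ℳ 0) = Module.length A₀ ↥(G.ℳ 0) :=
  (LinearEquiv.ofBijective (psi j G 0) ⟨psi_zero_injective j G, psi_surjective j G 0⟩).length_eq.symm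

/-- `ℓ(M_i) + ℓ(C_{i+1}) = ℓ(K_i) + ℓ(M_{i+1})`. -/
theorem length_succ (i : ℕ) :
    Module.length A₀ ↥(G.ℳ i) + Module.length A₀ ↥((GrC j G).ℳ (i + 1)) =
      Module.length A₀ ↥((GrK j G).ℳ i) + Module.length A₀ ↥(G.ℳ (i + 1)) := by
  have e1 := Module.length_eq_add_of_exact (LinearMap.ker (mu j G i)).subtype
    (mu j G i).rangeRestrict (Submodule.subtype_injective _) (LinearMap.surjective_rangeRestrict _)
    (by
      rw [LinearMap.exact_iff, Submodule.range_subtype, LinearMap.ker_rangeRestrict])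
  have e2 := Module.length_eq_add_of_exact (LinearMap.range (mu j G i)).subtype
    (LinearMap.range (mu j G i)).mkQ (Submodule.subtype_injective _) (Submodule.mkQ_surjective _)
    (by
      rw [LinearMap.exact_iff, Submodule.range_subtype, Submodule.ker_mkQ])
  have e3 : Module.length A₀ ↥((GrK j G).ℳ i) = Module.length A₀ ↥(LinearMap.ker (mu j G i)) :=
    LinearEquiv.length_eq (kerEquiv j G i)
  have e4 : Module.length A₀ (↥(G.ℳ (i + 1)) ⧸ LinearMap.range (mu j G i)) =
      Module.length A₀ ↥((GrC j G).ℳ (i + 1)) :=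
    ((Submodule.quotEquivOfEq _ _ (ker_psi_succ j G i).symm).trans
      ((psi j G (i + 1)).quotKerEquivOfSurjective (psi_surjective j G (i + 1)))).length_eq
  rw [e1, e2, e3, ← e4]
  ring

end Groth.Agent.Helper6.HilbSerre
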