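import Mathlib
import Groth.Agent.Helper6.HilbSerreLen

/-! The Hilbert–Serre theorem in binomial form. -/

set_option autoImplicit false
universe u

namespace Groth.Agent.Helper6.HilbSerre

open MvPolynomial

section Base

variable {A₀ : Type u} [CommRing A₀] {d : ℕ}
variable {M : Type u} [AddCommGroup M] [Module (MvPolynomial (Fin d) A₀) M] [Module A₀ M]
  [IsScalarTower A₀ (MvPolynomial (Fin d) A₀) M]

/-- if all variables kill `M`, the polynomial ring acts through the constant coefficient. -/
lemma smul_eq_constantCoeff_smul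
    (hkill : ∀ (k : Fin d) (m : M), (X k : MvPolynomial (Fin d) A₀) • m = 0)
    (p : MvPolynomial (Fin d) A₀) (m : M) : p • m = constantCoeff p • m := by
  induction p using MvPolynomial.induction_on with
  | C a =>
    rw [constantCoeff_C, ← algebraMap_eq, algebraMap_smul]
  | add p q hp hq =>
    rw [add_smul, hp, hq, map_add, add_smul]
  | mul_X p k _ =>
    rw [mul_smul, hkill k m, smul_zero, map_mul, constantCoeff_X, mul_zero, zero_smul]

/-- if all variables kill a finite `M`, it is finite over `A₀`. -/
lemma finite_of_kill [Module.Finite (MvPolynomial (Fin d) A₀) M]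
    (hkill : ∀ (k : Fin d) (m : M), (X k : MvPolynomial (Fin d) A₀) • m = 0) :
    Module.Finite A₀ M := by
  obtain ⟨S, hS⟩ := (Module.Finite.fg_top : (⊤ : Submodule (MvPolynomial (Fin d) A₀) M).FG)
  refine ⟨⟨S, ?_⟩⟩
  let N : Submodule (MvPolynomial (Fin d) A₀) M :=
    { carrier := (Submodule.span A₀ (S : Set M) : Set M)
      add_mem' := fun ha hb => Submodule.add_mem _ ha hb
      zero_mem' := Submodule.zero_mem _
      smul_mem' := fun p m hm => by
        rw [smul_eq_constantCoeff_smul hkill p m]
        exact Submodule.smul_mem _ _ hm }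
  have h1 : Submodule.span (MvPolynomial (Fin d) A₀) (S : Set M) ≤ N :=
    Submodule.span_le.mpr (fun s hs => Submodule.subset_span hs)
  rw [hS] at h1
  rw [eq_top_iff]
  intro m _
  exact h1 (Submodule.mem_top : m ∈ ⊤)

variable (G : Gr A₀ d M)

/-- components of a fixed element eventually vanish. -/
lemma exists_bound_comp (m : M) : ∃ N : ℕ, ∀ i, N ≤ i → G.comp i m = 0 := by
  obtain ⟨s, hs0, -⟩ := G.sum_comp m
  refine ⟨s.sup id + 1, fun i hi => hs0 i fun his => ?_⟩
  have : i ≤ s.sup id := Finset.le_sup (f := id) his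
  omega

/-- for a module finite over `A₀`, the graded pieces eventually vanish. -/
lemma exists_bound_of_finite [Module.Finite A₀ M] :
    ∃ N : ℕ, ∀ i, N ≤ i → G.ℳ i = ⊥ := by
  classical
  obtain ⟨S, hS⟩ := (Module.Finite.fg_top : (⊤ : Submodule A₀ M).FG)
  choose Nm hNm using exists_bound_comp G
  refine ⟨S.sup Nm, fun i hi => ?_⟩
  have hzero : G.comp i = 0 := by
    apply LinearMap.ext_on_range (v := fun s : (S : Set M) => (s : M))
    · rw [Subtype.range_coe]
      exact hS
    · intro s
      rw [LinearMap.zero_apply]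
      exact hNm s i ((Finset.le_sup (f := Nm) s.2).trans hi)
  rw [eq_bot_iff]
  intro m hm
  rw [Submodule.mem_bot, ← G.comp_same i m hm, hzero, LinearMap.zero_apply]

end Base

section Main

variable {A₀ : Type u} [CommRing A₀] [IsArtinianRing A₀] {d : ℕ}

/-- the Hilbert function as an integer-valued function. -/
noncomputable def hilb {M : Type u} [AddCommGroup M] [Module (MvPolynomial (Fin d) A₀) M]
    [Module A₀ M] [IsScalarTower A₀ (MvPolynomial (Fin d) A₀) M] (G : Gr A₀ d M) : ℕ → ℤ :=
  fun i => ((Module.length A₀ ↥(G.ℳ i)).toNat : ℤ)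

theorem hilbert_aux : ∀ (n : ℕ), n ≤ d → ∀ (M : Type u) [AddCommGroup M]
    [Module (MvPolynomial (Fin d) A₀) M] [Module A₀ M]
    [IsScalarTower A₀ (MvPolynomial (Fin d) A₀) M] [Module.Finite (MvPolynomial (Fin d) A₀) M]
    (G : Gr A₀ d M),
    (∀ k : Fin d, n ≤ k.val → ∀ m : M, (X k : MvPolynomial (Fin d) A₀) • m = 0) →
    (∀ i, Module.length A₀ ↥(G.ℳ i) ≠ ⊤) ∧ EvP n (hilb G) := by
  intro n
  induction n with
  | zero =>
    intro _ M _ _ _ _ _ G hkill
    have hkill' : ∀ (k : Fin d) (m : M), (X k : MvPolynomial (Fin d) A₀) • m = 0 :=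
      fun k m => hkill k (Nat.zero_le _) m
    haveI : Module.Finite A₀ M := finite_of_kill hkill'
    have hfl : IsFiniteLength A₀ M := isFiniteLength_iff_isNoetherian_isArtinian.mpr
      ⟨inferInstance, inferInstance⟩
    refine ⟨fun i => ?_, ?_⟩
    · have h1 := Module.length_le_of_injective (G.ℳ i).subtype (Submodule.subtype_injective _)
      have h2 := Module.length_ne_top_iff.mpr hfl
      exact ne_top_of_le_ne_top h2 h1
    · obtain ⟨N, hN⟩ := exists_bound_of_finite G
      refine EvP_of_eventually_zero 0 _ N fun i hi => ?_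
      unfold hilb
      rw [hN i hi]
      have : Module.length A₀ ↥(⊥ : Submodule A₀ M) = 0 := Module.length_eq_zero
      rw [this]
      rfl
  | succ n ih =>
    intro hn M _ _ _ _ _ G hkill
    let j : Fin d := ⟨n, by omega⟩
    have hK := ih (by omega) ↥(Kj A₀ M j) (GrK j G) (by
      intro k hk x
      apply Subtype.ext
      rw [Submodule.coe_smul, Submodule.coe_zero]
      rcases Nat.eq_or_lt_of_le hk with h | h
      · have : k = j := Fin.ext h.symm
        rw [this]
        exact (mem_Kj j).mp x.2
      · exact hkill k h _)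
    have hC := ih (by omega) (M ⧸ Rj A₀ M j) (GrC j G) (by
      intro k hk y
      obtain ⟨m, rfl⟩ := Submodule.Quotient.mk_surjective _ y
      rw [← Submodule.Quotient.mk_smul]
      rcases Nat.eq_or_lt_of_le hk with h | h
      · have : k = j := Fin.ext h.symm
        rw [this, Submodule.Quotient.mk_eq_zero]
        exact (mem_Rj j).mpr ⟨m, rfl⟩
      · rw [hkill k h m, Submodule.Quotient.mk_zero])
    obtain ⟨finK, evK⟩ := hK
    obtain ⟨finC, evC⟩ := hC
    have hfin : ∀ i, Module.length A₀ ↥(G.ℳ i) ≠ ⊤ := by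
      intro i
      induction i with
      | zero =>
        rw [← length_zero j G]
        exact finC 0
      | succ i ihi =>
        have h1 := length_succ j G i
        intro htop
        rw [htop, add_top] at h1
        exact (ENat.add_lt_top.mpr ⟨lt_top_iff_ne_top.mpr ihi,
          lt_top_iff_ne_top.mpr (finC (i + 1))⟩).ne h1
    refine ⟨hfin, ?_⟩
    refine EvP_step n (hilb G) (hilb (GrC j G)) (hilb (GrK j G)) evC evK fun i => ?_
    have h1 := length_succ j G i
    unfold hilb
    obtain ⟨a, ha⟩ := ENat.ne_top_iff_exists.mp (hfin i)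
    obtain ⟨a', ha'⟩ := ENat.ne_top_iff_exists.mp (hfin (i + 1))
    obtain ⟨c, hc⟩ := ENat.ne_top_iff_exists.mp (finC (i + 1))
    obtain ⟨k, hk⟩ := ENat.ne_top_iff_exists.mp (finK i)
    rw [← ha, ← ha', ← hc, ← hk] at h1 ⊢
    simp only [ENat.toNat_natCast]
    have h2 : a + c = k + a' := by exact_mod_cast h1
    omega

end Main

end Groth.Agent.Helper6.HilbSerre
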