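import Mathlib
import Groth.Agent.Helper6.HilbSerreMain

/-! The Hilbert–Serre theorem over a Noetherian base ring, for graded modules whose graded pieces
have finite length. -/

set_option autoImplicit false
universe u

namespace Groth.Agent.Helper6.HilbSerre

open MvPolynomial

variable {A₀ : Type u} [CommRing A₀] [IsNoetherianRing A₀] {d : ℕ}

theorem hilbert_gen : ∀ (n : ℕ), n ≤ d → ∀ (M : Type u) [AddCommGroup M]
    [Module (MvPolynomial (Fin d) A₀) M] [Module A₀ M]
    [IsScalarTower A₀ (MvPolynomial (Fin d) A₀) M] [Module.Finite (MvPolynomial (Fin d) A₀) M]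
    (G : Gr A₀ d M),
    (∀ k : Fin d, n ≤ k.val → ∀ m : M, (X k : MvPolynomial (Fin d) A₀) • m = 0) →
    (∀ i, Module.length A₀ ↥(G.ℳ i) ≠ ⊤) → EvP n (hilb G) := by
  intro n
  induction n with
  | zero =>
    intro _ M _ _ _ _ _ G hkill _
    have hkill' : ∀ (k : Fin d) (m : M), (X k : MvPolynomial (Fin d) A₀) • m = 0 :=
      fun k m => hkill k (Nat.zero_le _) m
    haveI : Module.Finite A₀ M := finite_of_kill hkill'
    obtain ⟨N, hN⟩ := exists_bound_of_finite G
    refine EvP_of_eventually_zero 0 _ N fun i hi => ?_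
    unfold hilb
    rw [hN i hi]
    have : Module.length A₀ ↥(⊥ : Submodule A₀ M) = 0 := Module.length_eq_zero
    rw [this]
    rfl
  | succ n ih =>
    intro hn M _ _ _ _ _ G hkill hfin
    let j : Fin d := ⟨n, by omega⟩
    have finK : ∀ i, Module.length A₀ ↥((GrK j G).ℳ i) ≠ ⊤ := by
      intro i
      have h1 : Module.length A₀ ↥((GrK j G).ℳ i) ≤ Module.length A₀ ↥(G.ℳ i) := by
        rw [(kerEquiv j G i).length_eq]
        exact Module.length_le_of_injective (LinearMap.ker (mu j G i)).subtype
          (Submodule.subtype_injective _)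
      exact ne_top_of_le_ne_top (hfin i) h1
    have finC : ∀ i, Module.length A₀ ↥((GrC j G).ℳ i) ≠ ⊤ := by
      intro i
      exact ne_top_of_le_ne_top (hfin i)
        (Module.length_le_of_surjective (psi j G i) (psi_surjective j G i))
    have evK := ih (by omega) ↥(Kj A₀ M j) (GrK j G) (by
      intro k hk x
      apply Subtype.ext
      rw [Submodule.coe_smul, Submodule.coe_zero]
      rcases Nat.eq_or_lt_of_le hk with h | h
      · have : k = j := Fin.ext h.symm
        rw [this]
        exact (mem_Kj j).mp x.2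
      · exact hkill k h _) finK
    have evC := ih (by omega) (M ⧸ Rj A₀ M j) (GrC j G) (by
      intro k hk y
      obtain ⟨m, rfl⟩ := Submodule.Quotient.mk_surjective _ y
      rw [← Submodule.Quotient.mk_smul]
      rcases Nat.eq_or_lt_of_le hk with h | h
      · have : k = j := Fin.ext h.symm
        rw [this, Submodule.Quotient.mk_eq_zero]
        exact (mem_Rj j).mpr ⟨m, rfl⟩
      · rw [hkill k h m, Submodule.Quotient.mk_zero]) finC
    refine EvP_step n (hilb G) (hilb (GrC j G)) (hilb (GrK j G)) evC evK fun i => ?_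
    have h1 := length_succ j G i
    unfold hilb
    obtain ⟨a, ha⟩ := ENat.ne_top_iff_exists.mp (hfin i)
    obtain ⟨a', ha'⟩ := ENat.ne_top_iff_exists.mp (hfin (i + 1))
    obtain ⟨c, hc⟩ := ENat.ne_top_iff_exists.mp (finC (i + 1))
    obtain ⟨k, hk⟩ := ENat.ne_top_iff_exists.mp (finK i)
    rw [← ha, ← ha', ← hc, ← hk] at h1 ⊢
    simp only [ENat.toNat_natCast]
    have h2 : a + c = k + a' := by exact_mod_cast h1
    omega

/-- Hilbert–Serre over a Noetherian base. -/
theorem hilbert_gen_top (M : Type u) [AddCommGroup M]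
    [Module (MvPolynomial (Fin d) A₀) M] [Module A₀ M]
    [IsScalarTower A₀ (MvPolynomial (Fin d) A₀) M] [Module.Finite (MvPolynomial (Fin d) A₀) M]
    (G : Gr A₀ d M) (hfin : ∀ i, Module.length A₀ ↥(G.ℳ i) ≠ ⊤) : EvP d (hilb G) :=
  hilbert_gen d le_rfl M G (fun k hk => absurd k.2 (not_lt.mpr hk)) hfin

end Groth.Agent.Helper6.HilbSerre
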