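import Mathlib
import Groth.Agent.Helper6.Dim1Basic
import Groth.Agent.Helper6.Dim1Snake
import Groth.Agent.Helper6.Dim1Herbrand

set_option autoImplicit false

/-!
Cokernel of multiplication by a nonzerodivisor on a generically free module over a
one-dimensional Noetherian ring.
-/

namespace Groth.Agent.Helper6.Dim1

open Function
open scoped Pointwise

universe u v

section Generic

variable {R : Type u} [CommRing R]

theorem length_quot_eq_of_injective (t : R) {F M : Type v} [AddCommGroup F] [Module R F]
    [AddCommGroup M] [Module R M] (φ : F →ₗ[R] M) (hφ : Injective φ)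
    (hF : LinearMap.ker (T t F) = ⊥)
    (hC : Module.length R (M ⧸ LinearMap.range φ) ≠ ⊤) :
    Module.length R (QuotSMulTop t M) =
      Module.length R (LinearMap.ker (T t M)) + Module.length R (QuotSMulTop t F) := by
  have h := snake_length t φ (LinearMap.range φ).mkQ hφ (Submodule.mkQ_surjective _)
    (LinearMap.exact_map_mkQ_range φ)
  have hK : Module.length R (LinearMap.ker (T t F)) = 0 := by
    rw [hF]; exact Module.length_eq_zero
  have hCK := length_ker_eq_length_quot t (M ⧸ LinearMap.range φ) hC
  have hQ : Module.length R (QuotSMulTop t (M ⧸ LinearMap.range φ)) ≠ ⊤ := by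
    intro h'
    have := Module.length_le_of_surjective
      (Submodule.mkQ (t • (⊤ : Submodule R (M ⧸ LinearMap.range φ)))) (Submodule.mkQ_surjective _)
    change Module.length R (QuotSMulTop t (M ⧸ LinearMap.range φ)) ≤ _ at this
    rw [h'] at this
    exact hC (top_le_iff.mp this)
  rw [hK, hCK, zero_add] at h
  rw [add_comm (Module.length R (QuotSMulTop t (M ⧸ LinearMap.range φ)))] at h
  exact ((ENat.add_left_injective_of_ne_top hQ) h).symm

theorem ker_T_pi_eq_bot {t : R} (ht : t ∈ nonZeroDivisors R) (n : ℕ) :
    LinearMap.ker (T t (Fin n → R)) = ⊥ := by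
  rw [LinearMap.ker_eq_bot']
  intro v hv
  ext i
  have h := congrFun hv i
  simp only [LinearMap.smul_apply, LinearMap.id_apply, Pi.smul_apply, smul_eq_mul,
    Pi.zero_apply] at h
  exact (mul_left_mem_nonZeroDivisors_eq_zero_iff ht).mp h

theorem length_quotSMulTop_pi (t : R) (n : ℕ) :
    Module.length R (QuotSMulTop t (Fin n → R)) = n * Module.length R (R ⧸ Ideal.span {t}) := by
  classical
  have hpi : (t • (⊤ : Submodule R (Fin n → R))) =
      Submodule.pi Set.univ (fun _ : Fin n => (Ideal.span {t} : Submodule R R)) := by
    ext v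
    rw [Submodule.mem_smul_pointwise_iff_exists, Submodule.mem_pi]
    constructor
    · rintro ⟨w, -, rfl⟩ i -
      exact Ideal.mem_span_singleton'.mpr ⟨w i, by simp [mul_comm]⟩
    · intro h
      have : ∀ i, ∃ a, a * t = v i := fun i => Ideal.mem_span_singleton'.mp (h i trivial)
      choose w hw using this
      exact ⟨w, trivial, by ext i; simp [← hw i, mul_comm]⟩
  have e1 : QuotSMulTop t (Fin n → R) ≃ₗ[R] (Fin n → R ⧸ Ideal.span {t}) :=
    (Submodule.quotEquivOfEq _ _ hpi).trans (Submodule.quotientPi _)
  rw [e1.length_eq, Module.length_pi]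
  simp

end Generic

section Free

theorem length_quotSMulTop_of_free (A : Type u) [CommRing A] [IsNoetherianRing A]
    (hdim : ringKrullDim A ≤ 1) (t : A) (ht : t ∈ nonZeroDivisors A)
    (M : Type u) [AddCommGroup M] [Module A M] [Module.Finite A M] (n : ℕ)
    (hfree : Nonempty (LocalizedModule (nonZeroDivisors A) M ≃ₗ[Localization (nonZeroDivisors A)]
      (Fin n → Localization (nonZeroDivisors A)))) :
    Module.length A (QuotSMulTop t M) =
      Module.length A (LinearMap.ker (t • (LinearMap.id : M →ₗ[A] M))) +
        n * Module.length A (A ⧸ Ideal.span {t}) := by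
  classical
  obtain ⟨e⟩ := hfree
  set S := nonZeroDivisors A with hS
  have hx0 : ∀ y : LocalizedModule S M, ∃ (m : M) (s : S), y = LocalizedModule.mk m s := by
    intro y
    induction y using LocalizedModule.induction_on with
    | _ m s => exact ⟨m, s, rfl⟩
  have hx : ∀ i : Fin n, ∃ (m : M) (s : S),
      e.symm (Pi.single i 1) = LocalizedModule.mk m s := fun i => hx0 _
  choose m s hms using hx
  let φ : (Fin n → A) →ₗ[A] M := Fintype.linearCombination A m
  have hφ_single : ∀ i, φ (Pi.single i 1) = m i := fun i => by
    simp [φ, Fintype.linearCombination_apply_single]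
  let ψ : M →ₗ[A] (Fin n → Localization S) :=
    (e.toLinearMap.restrictScalars A).comp (LocalizedModule.mkLinearMap S M)
  have hψm : ∀ i, ψ (m i) = Pi.single i (algebraMap A (Localization S) (s i)) := by
    intro i
    have h1 : LocalizedModule.mk (m i) (1 : S) = ((s i : A)) • LocalizedModule.mk (m i) (s i) := by
      rw [LocalizedModule.smul'_mk, ← LocalizedModule.mk_cancel (s i) (m i)]
      rfl
    change e (LocalizedModule.mkLinearMap S M (m i)) = _
    rw [LocalizedModule.mkLinearMap_apply, h1, ← hms i, ← algebraMap_smul (Localization S),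
      map_smul, LinearEquiv.apply_symm_apply]
    ext j
    simp [Pi.single_apply]
  have hφinj : Injective φ := by
    rw [← LinearMap.ker_eq_bot, LinearMap.ker_eq_bot']
    intro v hv
    have h1 : ψ (φ v) = 0 := by rw [hv, map_zero]
    have h2 : ψ (φ v) = fun j => algebraMap A (Localization S) (v j * s j) := by
      simp only [φ, Fintype.linearCombination_apply, map_sum, map_smul, hψm]
      ext j
      simp [Pi.single_apply, Algebra.smul_def]
    ext j
    have h3 : algebraMap A (Localization S) (v j * s j) = 0 := by
      have := congrFun (h2.symm.trans h1) j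
      simpa using this
    have h4 : v j * s j = 0 :=
      (IsLocalization.injective (Localization S) (le_refl S)) (by rw [h3, map_zero])
    exact (mul_right_mem_nonZeroDivisors_eq_zero_iff (s j).2).mp h4
  let φS := LocalizedModule.map S φ
  have hφS : Surjective φS := by
    rw [← LinearMap.range_eq_top, eq_top_iff]
    intro y _
    have hy : y = ∑ i, (e y i) • e.symm (Pi.single i 1) := by
      apply e.injective
      rw [map_sum]
      simp_rw [map_smul, LinearEquiv.apply_symm_apply]
      ext j
      simp [Pi.single_apply]
    rw [hy]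
    refine Submodule.sum_mem _ (fun i _ => Submodule.smul_mem _ _ ?_)
    rw [hms i]
    exact ⟨LocalizedModule.mk (Pi.single i 1) (s i), by
      rw [LocalizedModule.map_mk, hφ_single]⟩
  have hmem : ∀ x : M, ∃ u : S, (u : A) • x ∈ LinearMap.range φ := by
    intro x
    obtain ⟨z, hz⟩ := hφS (LocalizedModule.mk x 1)
    induction z using LocalizedModule.induction_on with
    | _ v u =>
      rw [LocalizedModule.map_mk, LocalizedModule.mk_eq] at hz
      obtain ⟨w, hw⟩ := hz
      refine ⟨w * u, ⟨(w : A) • v, ?_⟩⟩
      rw [map_smul, Submonoid.coe_mul, mul_smul]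
      have := hw
      simp only [Submonoid.smul_def, one_smul] at this
      exact this
  choose sel hsel using hmem
  obtain ⟨G, hG⟩ := (Module.Finite.fg_top : (⊤ : Submodule A M).FG)
  let σ : S := ∏ g ∈ G, sel g
  have hσ : ∀ x : M, (σ : A) • x ∈ LinearMap.range φ := by
    intro x
    have hx : x ∈ Submodule.span A (G : Set M) := by rw [hG]; trivial
    induction hx using Submodule.span_induction with
    | mem g hg =>
      have : σ = (∏ g' ∈ G.erase g, sel g') * sel g := (Finset.prod_erase_mul G sel hg).symm
      rw [this, Submonoid.coe_mul, mul_smul]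
      exact Submodule.smul_mem _ _ (hsel g)
    | zero => rw [smul_zero]; exact Submodule.zero_mem _
    | add a b _ _ ha hb => rw [smul_add]; exact Submodule.add_mem _ ha hb
    | smul r a _ ha => rw [smul_comm]; exact Submodule.smul_mem _ _ ha
  have hC : Module.length A (M ⧸ LinearMap.range φ) ≠ ⊤ := by
    apply length_ne_top_of_isTorsionBy hdim (not_mem_minimalPrimes_of_nzd σ.2)
    intro y
    obtain ⟨x, rfl⟩ := Submodule.Quotient.mk_surjective _ y
    rw [← Submodule.Quotient.mk_smul, Submodule.Quotient.mk_eq_zero]
    exact hσ x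
  have := length_quot_eq_of_injective t φ hφinj (ker_T_pi_eq_bot ht n) hC
  rw [this, length_quotSMulTop_pi]

end Free

end Groth.Agent.Helper6.Dim1
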