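import Mathlib
import Groth.Agent.Helper6.Dim1Basic
import Groth.Agent.Helper6.Dim1Snake
import Groth.Agent.Helper6.Dim1Herbrand
import Groth.Agent.Helper6.Dim1Free

set_option autoImplicit false

/-!
Lattices in a finite dimensional vector space over the fraction field of a one-dimensional
Noetherian domain.
-/

namespace Groth.Agent.Helper6.Dim1

open Function
open scoped Pointwise

universe u

section Denominators

variable {R : Type*} [CommRing R] [IsDomain R] {K : Type*} [Field K] [Algebra R K]
  [IsFractionRing R K] {V : Type*} [AddCommGroup V] [Module K V] [Module R V]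
  [IsScalarTower R K V]

/-- clearing denominators. -/
theorem exists_smul_mem_of_mem_span (M : Submodule R V) {v : V}
    (hv : v ∈ Submodule.span K (M : Set V)) : ∃ x : R, x ≠ 0 ∧ x • v ∈ M := by
  induction hv using Submodule.span_induction with
  | mem v hv => exact ⟨1, one_ne_zero, by rwa [one_smul]⟩
  | zero => exact ⟨1, one_ne_zero, by rw [smul_zero]; exact M.zero_mem⟩
  | add a b _ _ ha hb =>
    obtain ⟨x, hx, hxa⟩ := ha
    obtain ⟨y, hy, hyb⟩ := hb
    refine ⟨x * y, mul_ne_zero hx hy, ?_⟩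
    rw [smul_add]
    refine M.add_mem ?_ ?_
    · rw [mul_comm, mul_smul]; exact M.smul_mem y hxa
    · rw [mul_smul]; exact M.smul_mem x hyb
  | smul c a _ ha =>
    obtain ⟨x, hx, hxa⟩ := ha
    obtain ⟨p, q, hq, rfl⟩ := IsFractionRing.div_surjective (A := R) c
    have hq0 : q ≠ 0 := nonZeroDivisors.ne_zero hq
    have hqK : algebraMap R K q ≠ 0 := by
      intro h
      exact hq0 ((IsFractionRing.injective R K) (by rw [h, map_zero]))
    refine ⟨q * x, mul_ne_zero hq0 hx, ?_⟩
    have h1 : algebraMap R K (q * x) * (algebraMap R K p / algebraMap R K q) =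
        algebraMap R K (p * x) := by
      rw [map_mul, map_mul]
      field_simp
    rw [← algebraMap_smul K (q * x), smul_smul, h1, algebraMap_smul, mul_smul]
    exact M.smul_mem p hxa

theorem exists_smul_le_of_fg (M M' : Submodule R V) (hfg : M'.FG)
    (hle : (M' : Set V) ⊆ Submodule.span K (M : Set V)) :
    ∃ x : R, x ≠ 0 ∧ ∀ v ∈ M', x • v ∈ M := by
  revert hle
  refine Submodule.fg_induction (motive := fun N _ => (N : Set V) ⊆ Submodule.span K (M : Set V) →
    ∃ x : R, x ≠ 0 ∧ ∀ v ∈ N, x • v ∈ M) ?_ ?_ M' hfg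
  · intro y hy
    obtain ⟨x, hx, hxy⟩ := exists_smul_mem_of_mem_span (K := K) M
      (hy (Submodule.mem_span_singleton_self y))
    refine ⟨x, hx, fun v hv => ?_⟩
    obtain ⟨r, rfl⟩ := Submodule.mem_span_singleton.mp hv
    rw [smul_comm]
    exact M.smul_mem r hxy
  · intro N₁ N₂ _ _ h₁ h₂ hle
    obtain ⟨x, hx, hx'⟩ := h₁ (fun v hv => hle (Submodule.mem_sup_left hv))
    obtain ⟨y, hy, hy'⟩ := h₂ (fun v hv => hle (Submodule.mem_sup_right hv))
    refine ⟨x * y, mul_ne_zero hx hy, fun v hv => ?_⟩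
    obtain ⟨a, ha, b, hb, rfl⟩ := Submodule.mem_sup.mp hv
    rw [smul_add]
    refine M.add_mem ?_ ?_
    · rw [mul_comm, mul_smul]; exact M.smul_mem y (hx' a ha)
    · rw [mul_smul]; exact M.smul_mem x (hy' b hb)

/-- if `x • M' ≤ M` for a nonzero `x` then `M'` is in the `K`-span of `M`. -/
theorem span_le_of_smul_le (M M' : Submodule R V) {x : R} (hx : x ≠ 0)
    (h : ∀ v ∈ M', x • v ∈ M) :
    Submodule.span K (M' : Set V) ≤ Submodule.span K (M : Set V) := by
  rw [Submodule.span_le]
  intro v hv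
  have hxK : algebraMap R K x ≠ 0 := by
    intro h0
    exact hx ((IsFractionRing.injective R K) (by rw [h0, map_zero]))
  have : v = (algebraMap R K x)⁻¹ • (x • v) := by
    rw [← algebraMap_smul K x, smul_smul, inv_mul_cancel₀ hxK, one_smul]
  rw [this]
  exact Submodule.smul_mem _ _ (Submodule.subset_span (h v hv))

end Denominators

section FiniteLength

variable {R : Type*} [CommRing R] [IsDomain R]

/-- modules of finite length over a domain which is not a field are torsion. -/
theorem exists_smul_eq_zero_of_length_ne_top (hnf : ¬ IsField R) {N : Type*} [AddCommGroup N]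
    [Module R N] (hN : Module.length R N ≠ ⊤) (y : N) : ∃ x : R, x ≠ 0 ∧ x • y = 0 := by
  by_contra h
  push Not at h
  have hinj : Injective (LinearMap.toSpanSingleton R N y) := by
    rw [← LinearMap.ker_eq_bot, LinearMap.ker_eq_bot']
    intro r hr
    by_contra hr0
    exact h r hr0 hr
  have hle := Module.length_le_of_injective _ hinj
  have hR : Module.length R R ≠ ⊤ := fun h' => hN (top_le_iff.mp (h' ▸ hle))
  rw [Module.length_ne_top_iff, isFiniteLength_iff_isNoetherian_isArtinian] at hR
  haveI : IsArtinianRing R := hR.2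
  exact hnf (IsArtinianRing.isField_of_isDomain R)

theorem exists_smul_eq_zero_of_length_ne_top' (hnf : ¬ IsField R) {N : Type*} [AddCommGroup N]
    [Module R N] (hN : Module.length R N ≠ ⊤) : ∃ x : R, x ≠ 0 ∧ ∀ y : N, x • y = 0 := by
  have hfl := hN
  rw [Module.length_ne_top_iff, isFiniteLength_iff_isNoetherian_isArtinian] at hfl
  haveI := hfl.1
  have hfg : (⊤ : Submodule R N).FG := Module.Finite.fg_top
  have key : ∀ (P : Submodule R N), P.FG → ∃ x : R, x ≠ 0 ∧ ∀ y ∈ P, x • y = 0 := by
    intro P hP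
    refine Submodule.fg_induction (motive := fun P _ => ∃ x : R, x ≠ 0 ∧ ∀ y ∈ P, x • y = 0)
      ?_ ?_ P hP
    · intro y
      obtain ⟨x, hx, hxy⟩ := exists_smul_eq_zero_of_length_ne_top hnf hN y
      refine ⟨x, hx, fun v hv => ?_⟩
      obtain ⟨r, rfl⟩ := Submodule.mem_span_singleton.mp hv
      rw [smul_comm, hxy, smul_zero]
    · rintro N₁ N₂ _ _ ⟨x, hx, hx'⟩ ⟨y, hy, hy'⟩
      refine ⟨x * y, mul_ne_zero hx hy, fun v hv => ?_⟩
      obtain ⟨a, ha, b, hb, rfl⟩ := Submodule.mem_sup.mp hv
      have h1 : (x * y) • a = 0 := by rw [mul_comm, mul_smul, hx' a ha, smul_zero]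
      have h2 : (x * y) • b = 0 := by rw [mul_smul, hy' b hb, smul_zero]
      rw [smul_add, h1, h2, add_zero]
  obtain ⟨x, hx, hx'⟩ := key ⊤ hfg
  exact ⟨x, hx, fun y => hx' y trivial⟩

theorem not_isField_of_dim_one (hdim : ringKrullDim R = 1) : ¬ IsField R := by
  intro h
  rw [ringKrullDim_eq_zero_of_isField h] at hdim
  exact zero_ne_one hdim

end FiniteLength

section Quot

variable {R : Type*} [CommRing R] [IsDomain R] [IsNoetherianRing R]
  {V : Type*} [AddCommGroup V] [Module R V]

theorem length_quot_ne_top_of_smul_le (hdim : ringKrullDim R ≤ 1) (M M' : Submodule R V)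
    (hfg : M'.FG) {x : R} (hx : x ≠ 0) (h : ∀ v ∈ M', x • v ∈ M) :
    Module.length R (↥M' ⧸ Submodule.comap M'.subtype M) ≠ ⊤ := by
  haveI : Module.Finite R M' := Module.Finite.iff_fg.mpr hfg
  apply length_ne_top_of_isTorsionBy hdim (not_mem_minimalPrimes_of_ne_zero hx)
  intro y
  obtain ⟨⟨v, hv⟩, rfl⟩ := Submodule.Quotient.mk_surjective _ y
  rw [← Submodule.Quotient.mk_smul, Submodule.Quotient.mk_eq_zero]
  exact h v hv

theorem smul_mem_of_length_quot_ne_top (hdim : ringKrullDim R = 1) (M M' : Submodule R V)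
    (h : Module.length R (↥M' ⧸ Submodule.comap M'.subtype M) ≠ ⊤) :
    ∃ x : R, x ≠ 0 ∧ ∀ v ∈ M', x • v ∈ M := by
  obtain ⟨x, hx, hx'⟩ := exists_smul_eq_zero_of_length_ne_top' (not_isField_of_dim_one hdim) h
  refine ⟨x, hx, fun v hv => ?_⟩
  have := hx' (Submodule.Quotient.mk ⟨v, hv⟩)
  rw [← Submodule.Quotient.mk_smul, Submodule.Quotient.mk_eq_zero] at this
  exact this

end Quot

section Lattice

variable {R : Type*} [CommRing R] [IsDomain R] [IsNoetherianRing R] {K : Type*} [Field K]
  [Algebra R K] [IsFractionRing R K] {V : Type*} [AddCommGroup V] [Module K V] [Module R V]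
  [IsScalarTower R K V]

theorem fg_of_le_of_fg {M M' : Submodule R V} (hM : M.FG) (hle : M' ≤ M) : M'.FG := by
  haveI : Module.Finite R M := Module.Finite.iff_fg.mpr hM
  haveI : IsNoetherian R M := inferInstance
  have h1 : (Submodule.comap M.subtype M').FG := IsNoetherian.noetherian _
  have h2 := h1.map M.subtype
  rwa [Submodule.map_comap_subtype, inf_eq_right.mpr hle] at h2

/-- a submodule of a lattice containing a nonzero multiple of it is a lattice. -/
theorem isLattice_of_smul_le (M M' : Submodule R V) [Submodule.IsLattice K M] (hle : M' ≤ M)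
    {x : R} (hx : x ≠ 0) (h : ∀ v ∈ M, x • v ∈ M') : Submodule.IsLattice K M' where
  fg := fg_of_le_of_fg Submodule.IsLattice.fg hle
  span_eq_top := by
    rw [eq_top_iff, ← Submodule.IsLattice.span_eq_top (A := K) (M := M)]
    exact span_le_of_smul_le M' M hx h

theorem exists_smul_le_of_isLattice (M M' : Submodule R V) [Submodule.IsLattice K M]
    (hfg : M'.FG) : ∃ x : R, x ≠ 0 ∧ ∀ v ∈ M', x • v ∈ M := by
  apply exists_smul_le_of_fg (K := K) M M' hfg
  rw [Submodule.IsLattice.span_eq_top (A := K) (M := M)]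
  intro v _
  trivial

theorem isLattice_inf (M M' : Submodule R V) [Submodule.IsLattice K M]
    [Submodule.IsLattice K M'] : Submodule.IsLattice K (M ⊓ M') := by
  obtain ⟨x, hx, hx'⟩ := exists_smul_le_of_isLattice (K := K) M M' Submodule.IsLattice.fg
  exact isLattice_of_smul_le M' (M ⊓ M') inf_le_right hx
    (fun v hv => ⟨hx' v hv, M'.smul_mem x hv⟩)

theorem length_quot_ne_top_of_isLattice (hdim : ringKrullDim R ≤ 1) (M M' : Submodule R V)
    [Submodule.IsLattice K M] (hfg : M'.FG) :
    Module.length R (↥M' ⧸ Submodule.comap M'.subtype M) ≠ ⊤ := by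
  obtain ⟨x, hx, hx'⟩ := exists_smul_le_of_isLattice (K := K) M M' hfg
  exact length_quot_ne_top_of_smul_le hdim M M' hfg hx hx'

theorem fg_of_length_quot_ne_top (M M' : Submodule R V) (hM : M.FG) (hle : M ≤ M')
    (h : Module.length R (↥M' ⧸ Submodule.comap M'.subtype M) ≠ ⊤) : M'.FG := by
  rw [← Module.Finite.iff_fg]
  haveI : Module.Finite R M := Module.Finite.iff_fg.mpr hM
  haveI : Module.Finite R (Submodule.comap M'.subtype M) :=
    Module.Finite.equiv (Submodule.comapSubtypeEquivOfLe hle).symm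
  haveI : Module.Finite R (↥M' ⧸ Submodule.comap M'.subtype M) := by
    rw [Module.length_ne_top_iff, isFiniteLength_iff_isNoetherian_isArtinian] at h
    haveI := h.1
    infer_instance
  exact Module.Finite.of_submodule_quotient (Submodule.comap M'.subtype M)

theorem main_S9164 (hdim : ringKrullDim R = 1) (M : Submodule R V) [Submodule.IsLattice K M] :
    (∀ M' : Submodule R V, M ≤ M' →
        (Submodule.IsLattice K M' ↔ Module.length R (M' ⧸ Submodule.comap M'.subtype M) ≠ ⊤) ∧
          (Submodule.IsLattice K M' ↔ M'.FG)) ∧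
      (∀ M' : Submodule R V, M' ≤ M →
        (Submodule.IsLattice K M' ↔ Module.length R (M ⧸ Submodule.comap M.subtype M') ≠ ⊤)) ∧
      ∀ M' : Submodule R V, Submodule.IsLattice K M' → Submodule.IsLattice K (M ⊓ M') := by
  refine ⟨fun M' hle => ⟨⟨fun h => ?_, fun h => ?_⟩, ⟨fun h => h.fg, fun h => ?_⟩⟩,
    fun M' hle => ⟨fun h => ?_, fun h => ?_⟩, fun M' h => ?_⟩
  · exact length_quot_ne_top_of_isLattice (K := K) hdim.le M M' h.fg
  · exact Submodule.IsLattice.of_le_of_isLattice_of_fg K hle
      (fg_of_length_quot_ne_top M M' Submodule.IsLattice.fg hle h)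
  · exact Submodule.IsLattice.of_le_of_isLattice_of_fg K hle h
  · haveI := h
    exact length_quot_ne_top_of_isLattice (K := K) hdim.le M' M Submodule.IsLattice.fg
  · obtain ⟨x, hx, hx'⟩ := smul_mem_of_length_quot_ne_top hdim M' M h
    exact isLattice_of_smul_le M M' hle hx hx'
  · haveI := h
    exact isLattice_inf M M'

end Lattice

end Groth.Agent.Helper6.Dim1
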