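import Mathlib
import Groth.Agent.Helper6.Dim1Lattice

set_option autoImplicit false

/-!
Distance between lattices.
-/

namespace Groth.Agent.Helper6.Dim1

open Function
open scoped Pointwise

section Chain

variable {R : Type*} [CommRing R] {V : Type*} [AddCommGroup V] [Module R V]

theorem length_chain (P N M : Submodule R V) (hPN : P ≤ N) (hNM : N ≤ M) :
    Module.length R (↥M ⧸ Submodule.comap M.subtype P) =
      Module.length R (↥N ⧸ Submodule.comap N.subtype P) +
        Module.length R (↥M ⧸ Submodule.comap M.subtype N) := by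
  have h1 : Submodule.comap N.subtype P ≤
      Submodule.comap (Submodule.inclusion hNM) (Submodule.comap M.subtype P) := by
    intro y hy
    exact hy
  have h2 : Submodule.comap M.subtype P ≤
      Submodule.comap (LinearMap.id : ↥M →ₗ[R] ↥M) (Submodule.comap M.subtype N) := by
    intro y hy
    exact hPN hy
  refine Module.length_eq_add_of_exact
    (Submodule.mapQ _ _ (Submodule.inclusion hNM) h1) (Submodule.mapQ _ _ LinearMap.id h2)
    ?_ ?_ ?_
  · rw [← LinearMap.ker_eq_bot, LinearMap.ker_eq_bot']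
    intro y hy
    obtain ⟨⟨n, hn⟩, rfl⟩ := Submodule.Quotient.mk_surjective _ y
    rw [Submodule.mapQ_apply, Submodule.Quotient.mk_eq_zero] at hy
    rw [Submodule.Quotient.mk_eq_zero]
    exact hy
  · intro y
    obtain ⟨m, rfl⟩ := Submodule.Quotient.mk_surjective _ y
    exact ⟨Submodule.Quotient.mk m, by rw [Submodule.mapQ_apply]; rfl⟩
  · intro y
    obtain ⟨⟨m, hm⟩, rfl⟩ := Submodule.Quotient.mk_surjective _ y
    constructor
    · intro hy
      rw [Submodule.mapQ_apply, Submodule.Quotient.mk_eq_zero] at hy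
      have hmN : m ∈ N := hy
      exact ⟨Submodule.Quotient.mk ⟨m, hmN⟩, by rw [Submodule.mapQ_apply]; rfl⟩
    · rintro ⟨z, hz⟩
      obtain ⟨⟨n, hn⟩, rfl⟩ := Submodule.Quotient.mk_surjective _ z
      rw [← hz, Submodule.mapQ_apply, Submodule.mapQ_apply, Submodule.Quotient.mk_eq_zero]
      exact hn

end Chain

section Dist

variable {R : Type*} [CommRing R] [IsDomain R] [IsNoetherianRing R] {K : Type*} [Field K]
  [Algebra R K] [IsFractionRing R K] {V : Type*} [AddCommGroup V] [Module K V] [Module R V]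
  [IsScalarTower R K V]

/-- colength as a natural number. -/
noncomputable def colen (M N : Submodule R V) : ℕ :=
  (Module.length R (↥M ⧸ Submodule.comap M.subtype N)).toNat

theorem colen_chain (hdim : ringKrullDim R ≤ 1) (P N M : Submodule R V)
    [Submodule.IsLattice K P] [Submodule.IsLattice K N] [Submodule.IsLattice K M]
    (hPN : P ≤ N) (hNM : N ≤ M) : colen M P = colen N P + colen M N := by
  unfold colen
  rw [length_chain P N M hPN hNM, ENat.toNat_add]
  · exact length_quot_ne_top_of_isLattice (K := K) hdim P N Submodule.IsLattice.fg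
  · exact length_quot_ne_top_of_isLattice (K := K) hdim N M Submodule.IsLattice.fg

theorem dist_eq (hdim : ringKrullDim R ≤ 1) (M M' N : Submodule R V)
    [Submodule.IsLattice K M] [Submodule.IsLattice K M'] [Submodule.IsLattice K N]
    (hN : N ≤ M ⊓ M') :
    (colen M (M ⊓ M') : ℤ) - (colen M' (M ⊓ M') : ℤ) = (colen M N : ℤ) - (colen M' N : ℤ) := by
  haveI : Submodule.IsLattice K (M ⊓ M') := isLattice_inf M M'
  rw [colen_chain (K := K) hdim N (M ⊓ M') M hN inf_le_left,
    colen_chain (K := K) hdim N (M ⊓ M') M' hN inf_le_right]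
  push_cast
  ring

theorem dist_add (hdim : ringKrullDim R ≤ 1) (M₁ M₂ M₃ : Submodule R V)
    [Submodule.IsLattice K M₁] [Submodule.IsLattice K M₂] [Submodule.IsLattice K M₃] :
    (colen M₁ (M₁ ⊓ M₃) : ℤ) - (colen M₃ (M₁ ⊓ M₃) : ℤ) =
      ((colen M₁ (M₁ ⊓ M₂) : ℤ) - (colen M₂ (M₁ ⊓ M₂) : ℤ)) +
        ((colen M₂ (M₂ ⊓ M₃) : ℤ) - (colen M₃ (M₂ ⊓ M₃) : ℤ)) := by
  haveI : Submodule.IsLattice K (M₁ ⊓ M₂) := isLattice_inf M₁ M₂
  haveI : Submodule.IsLattice K (M₁ ⊓ M₂ ⊓ M₃) := isLattice_inf (M₁ ⊓ M₂) M₃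
  have h13 : M₁ ⊓ M₂ ⊓ M₃ ≤ M₁ ⊓ M₃ := le_inf (inf_le_left.trans inf_le_left) inf_le_right
  have h12 : M₁ ⊓ M₂ ⊓ M₃ ≤ M₁ ⊓ M₂ := inf_le_left
  have h23 : M₁ ⊓ M₂ ⊓ M₃ ≤ M₂ ⊓ M₃ := le_inf (inf_le_left.trans inf_le_right) inf_le_right
  rw [dist_eq (K := K) hdim M₁ M₃ _ h13, dist_eq (K := K) hdim M₁ M₂ _ h12,
    dist_eq (K := K) hdim M₂ M₃ _ h23]
  ring

end Dist

end Groth.Agent.Helper6.Dim1
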