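import Mathlib
import Groth.Agent.Helper6.Dim1Dist
import Groth.Prelude.Def_CycAlg

set_option autoImplicit false

/-!
Lengths of intervals in the lattice of submodules, and the periodic complexes `(M, φ^i, φ^(n-i))`
of a nilpotent endomorphism.
-/

namespace Groth.Agent.Helper6.Herbrand

open Function Groth.Agent.Helper6.Dim1

universe u v

section Interval

variable {R : Type u} [CommRing R] {V W : Type v} [AddCommGroup V] [Module R V] [AddCommGroup W]
  [Module R W]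

/-- the length of the interval `[X, Y]`. -/
noncomputable def ilen (X Y : Submodule R V) : ℕ∞ :=
  Module.length R (↥Y ⧸ X.submoduleOf Y)

theorem ilen_chain (X Y Z : Submodule R V) (hXY : X ≤ Y) (hYZ : Y ≤ Z) :
    ilen X Z = ilen X Y + ilen Y Z :=
  length_chain X Y Z hXY hYZ

theorem ilen_bot (X : Submodule R V) : ilen X ⊥ = 0 := by
  unfold ilen
  rw [Module.length_eq_zero_iff]
  infer_instance

theorem ilen_self (X : Submodule R V) : ilen X X = 0 := by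
  unfold ilen
  rw [Module.length_eq_zero_iff, Submodule.Quotient.subsingleton_iff,
    Submodule.submoduleOf_self]

theorem ilen_map (g : V →ₗ[R] W) (X Y : Submodule R V) (hXY : X ≤ Y) :
    ilen X Y = ilen (X.map g) (Y.map g) +
      ilen (X ⊓ LinearMap.ker g) (Y ⊓ LinearMap.ker g) := by
  unfold ilen
  rw [add_comm]
  let gY : ↥Y →ₗ[R] ↥(Y.map g) := g.restrict (fun y hy => Submodule.mem_map_of_mem hy)
  have h1 : (X ⊓ LinearMap.ker g).submoduleOf (Y ⊓ LinearMap.ker g) ≤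
      Submodule.comap (Submodule.inclusion (inf_le_left : Y ⊓ LinearMap.ker g ≤ Y))
        (X.submoduleOf Y) := by
    intro z hz
    exact hz.1
  have h2 : X.submoduleOf Y ≤ Submodule.comap gY ((X.map g).submoduleOf (Y.map g)) := by
    intro y hy
    exact ⟨y.1, hy, rfl⟩
  refine Module.length_eq_add_of_exact (Submodule.mapQ _ _ _ h1) (Submodule.mapQ _ _ gY h2)
    ?_ ?_ ?_
  · rw [← LinearMap.ker_eq_bot, LinearMap.ker_eq_bot']
    intro z hz
    obtain ⟨z, rfl⟩ := Submodule.Quotient.mk_surjective _ z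
    rw [Submodule.mapQ_apply, Submodule.Quotient.mk_eq_zero] at hz
    rw [Submodule.Quotient.mk_eq_zero]
    exact ⟨hz, z.2.2⟩
  · intro w
    obtain ⟨⟨w, y, hy, rfl⟩, rfl⟩ := Submodule.Quotient.mk_surjective _ w
    exact ⟨Submodule.Quotient.mk ⟨y, hy⟩, rfl⟩
  · intro y
    obtain ⟨y, rfl⟩ := Submodule.Quotient.mk_surjective _ y
    rw [Submodule.mapQ_apply, Submodule.Quotient.mk_eq_zero]
    constructor
    · rintro ⟨x, hx, hxy⟩
      have hxy' : g x = g y.1 := hxy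
      have hmem : y.1 - x ∈ Y ⊓ LinearMap.ker g := by
        refine ⟨Y.sub_mem y.2 (hXY hx), ?_⟩
        change y.1 - x ∈ LinearMap.ker g
        rw [LinearMap.mem_ker, map_sub, hxy', sub_self]
      refine ⟨Submodule.Quotient.mk ⟨y.1 - x, hmem⟩, ?_⟩
      rw [Submodule.mapQ_apply, Submodule.Quotient.eq]
      change (⟨y.1 - x, _⟩ - y : ↥Y).1 ∈ X
      have : ((⟨y.1 - x, hmem.1⟩ : ↥Y) - y).1 = -x := by
        change y.1 - x - y.1 = -x
        abel
      rw [this]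
      exact X.neg_mem hx
    · rintro ⟨z, hz⟩
      obtain ⟨z, rfl⟩ := Submodule.Quotient.mk_surjective _ z
      rw [Submodule.mapQ_apply, Submodule.Quotient.eq] at hz
      have hzX : (z.1 - y.1) ∈ X := hz
      have hyX : (y.1 - z.1) ∈ X := by
        have := X.neg_mem hzX
        rwa [neg_sub] at this
      refine ⟨y.1 - z.1, hyX, ?_⟩
      have hz0 : g z.1 = 0 := z.2.2
      change g (y.1 - z.1) = g y.1
      rw [map_sub, hz0, sub_zero]

end Interval

section Nilp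

variable {R : Type u} [CommRing R] {M : Type v} [AddCommGroup M] [Module R M] (φ : M →ₗ[R] M)

/-- `ker φ^j`. -/
def K (j : ℕ) : Submodule R M := LinearMap.ker (φ ^ j)

/-- `im φ^j`. -/
def I (j : ℕ) : Submodule R M := LinearMap.range (φ ^ j)

theorem hpow (a b : ℕ) (m : M) : (φ ^ a) ((φ ^ b) m) = (φ ^ (a + b)) m := by
  rw [pow_add]
  rfl

theorem mem_K {j : ℕ} {m : M} : m ∈ K φ j ↔ (φ ^ j) m = 0 := LinearMap.mem_ker

theorem K_mono {i j : ℕ} (h : i ≤ j) : K φ i ≤ K φ j := by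
  intro m hm
  rw [mem_K] at hm ⊢
  obtain ⟨k, rfl⟩ := Nat.exists_eq_add_of_le h
  rw [add_comm, ← hpow, hm, map_zero]

theorem K_zero : K φ 0 = ⊥ := by
  ext m
  rw [mem_K, pow_zero, Submodule.mem_bot]
  rfl

theorem ker_eq_K_one : LinearMap.ker φ = K φ 1 := by
  unfold K
  rw [pow_one]

theorem map_K_le (j : ℕ) : (K φ (j + 1)).map φ ≤ K φ j := by
  rintro _ ⟨z, hz, rfl⟩
  rw [mem_K]
  have := hpow φ j 1 z
  rw [pow_one] at this
  rw [this]
  exact hz

theorem I_succ (m : ℕ) : I φ (m + 1) = (I φ m).map φ := by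
  ext y
  constructor
  · rintro ⟨z, rfl⟩
    refine ⟨(φ ^ m) z, ⟨z, rfl⟩, ?_⟩
    have := hpow φ 1 m z
    rw [pow_one] at this
    rw [this, add_comm]
  · rintro ⟨_, ⟨z, rfl⟩, rfl⟩
    refine ⟨z, ?_⟩
    have := hpow φ 1 m z
    rw [pow_one] at this
    rw [this, add_comm]

theorem I_eq_map (a b : ℕ) : I φ (a + b) = (I φ b).map (φ ^ a) := by
  ext y
  constructor
  · rintro ⟨z, rfl⟩
    exact ⟨(φ ^ b) z, ⟨z, rfl⟩, hpow φ a b z⟩
  · rintro ⟨_, ⟨z, rfl⟩, rfl⟩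
    exact ⟨z, (hpow φ a b z).symm⟩

theorem I_le_K {n : ℕ} (hφ : φ ^ n = 0) {m j : ℕ} (h : n ≤ j + m) : I φ m ≤ K φ j := by
  rintro _ ⟨z, rfl⟩
  rw [mem_K, hpow, pow_eq_zero_of_le h hφ]
  rfl

theorem I_inf_K_one (m : ℕ) : I φ m ⊓ K φ 1 = (K φ (m + 1)).map (φ ^ m) := by
  ext y
  constructor
  · rintro ⟨⟨z, rfl⟩, hy⟩
    refine ⟨z, ?_, rfl⟩
    rw [SetLike.mem_coe, mem_K] at hy ⊢
    rw [hpow, add_comm] at hy
    exact hy
  · rintro ⟨z, hz, rfl⟩
    refine ⟨⟨z, rfl⟩, ?_⟩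
    rw [SetLike.mem_coe, mem_K] at hz ⊢
    rw [hpow, add_comm]
    exact hz

theorem map_K_inf_K (j : ℕ) : (K φ (j + 2)).map φ ⊓ K φ j = (K φ (j + 1)).map φ := by
  ext y
  constructor
  · rintro ⟨⟨z, -, rfl⟩, hy⟩
    refine ⟨z, ?_, rfl⟩
    rw [SetLike.mem_coe, mem_K] at hy ⊢
    have := hpow φ j 1 z
    rw [pow_one] at this
    rw [← this]
    exact hy
  · rintro ⟨z, hz, rfl⟩
    refine ⟨⟨z, K_mono φ (Nat.le_succ _) hz, rfl⟩, ?_⟩
    exact map_K_le φ j ⟨z, hz, rfl⟩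

theorem map_map_K (j : ℕ) :
    ((K φ (j + 2)).map φ).map (φ ^ j) = (K φ (j + 2)).map (φ ^ (j + 1)) := by
  rw [← Submodule.map_comp]
  congr 1

theorem map_pow_K_le_K_one (j : ℕ) : (K φ (j + 1)).map (φ ^ j) ≤ K φ 1 := by
  rintro _ ⟨z, hz, rfl⟩
  rw [SetLike.mem_coe, mem_K] at hz
  rw [mem_K, hpow, add_comm]
  exact hz

theorem map_pow_K_le (j : ℕ) :
    (K φ (j + 2)).map (φ ^ (j + 1)) ≤ (K φ (j + 1)).map (φ ^ j) := by
  rintro _ ⟨z, hz, rfl⟩
  rw [SetLike.mem_coe, mem_K] at hz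
  refine ⟨φ z, ?_, ?_⟩
  · rw [SetLike.mem_coe, mem_K]
    have := hpow φ (j + 1) 1 z
    rw [pow_one] at this
    rw [this]
    exact hz
  · have := hpow φ j 1 z
    rw [pow_one] at this
    exact this

/-- `a_j = l(K_j / φ^(n-j) M)`. -/
noncomputable def aa (n j : ℕ) : ℕ∞ := ilen (I φ (n - j)) (K φ j)

/-- `b_j = l(K_j / φ K_(j+1))`. -/
noncomputable def bb (j : ℕ) : ℕ∞ := ilen ((K φ (j + 1)).map φ) (K φ j)

/-- `c_j = l(K_1 / φ^j K_(j+1))`. -/
noncomputable def cc (j : ℕ) : ℕ∞ := ilen ((K φ (j + 1)).map (φ ^ j)) (K φ 1)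

theorem bb_zero : bb φ 0 = 0 := by
  unfold bb
  rw [K_zero]
  exact ilen_bot _

theorem cc_zero : cc φ 0 = 0 := by
  unfold cc
  have : (K φ (0 + 1)).map (φ ^ 0) = K φ 1 := by
    rw [pow_zero]
    exact Submodule.map_id _
  rw [this]
  exact ilen_self _

theorem aa_zero (n : ℕ) : aa φ n 0 = 0 := by
  unfold aa
  rw [K_zero]
  exact ilen_bot _

theorem rel_bc (j : ℕ) : bb φ (j + 1) + cc φ j = bb φ j + cc φ (j + 1) := by
  have h1 : cc φ (j + 1) =
      ilen ((K φ (j + 2)).map (φ ^ (j + 1))) ((K φ (j + 1)).map (φ ^ j)) + cc φ j :=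
    ilen_chain _ _ _ (map_pow_K_le φ j) (map_pow_K_le_K_one φ j)
  have h2 : bb φ (j + 1) =
      ilen ((K φ (j + 2)).map (φ ^ (j + 1))) ((K φ (j + 1)).map (φ ^ j)) + bb φ j := by
    unfold bb
    rw [ilen_map (φ ^ j) _ _ (map_K_le φ (j + 1)), map_map_K]
    congr 1
    change ilen ((K φ (j + 2)).map φ ⊓ K φ j) (K φ (j + 1) ⊓ K φ j) = _
    rw [map_K_inf_K, inf_eq_right.mpr (K_mono φ (Nat.le_succ j))]
  rw [h1, h2]
  ring

theorem rel_ab {n : ℕ} (hφ : φ ^ n = 0) (j : ℕ) (hj : j + 1 ≤ n) :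
    aa φ n (j + 1) + bb φ j = aa φ n j + cc φ (n - j - 1) := by
  have hnj : n - j = (n - j - 1) + 1 := by omega
  have hle1 : I φ (n - j - 1) ≤ K φ (j + 1) := I_le_K φ hφ (by omega)
  have hI : I φ (n - j) = (I φ (n - j - 1)).map φ := by
    have h3 : n - j - 1 + 1 = n - j := by omega
    have := I_succ φ (n - j - 1)
    rwa [h3] at this
  have hle2 : I φ (n - j) ≤ (K φ (j + 1)).map φ := by
    rw [hI]
    exact Submodule.map_mono hle1
  have h1 : aa φ n j = ilen (I φ (n - j)) ((K φ (j + 1)).map φ) + bb φ j :=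
    ilen_chain _ _ _ hle2 (map_K_le φ j)
  have h2 : aa φ n (j + 1) = ilen (I φ (n - j)) ((K φ (j + 1)).map φ) + cc φ (n - j - 1) := by
    unfold aa
    have hsub : n - (j + 1) = n - j - 1 := by omega
    rw [hsub, ilen_map φ _ _ hle1]
    congr 1
    · rw [hI]
    · rw [ker_eq_K_one, I_inf_K_one, inf_eq_right.mpr (K_mono φ (Nat.le_add_left 1 j))]
      unfold cc
      have h3 : n - j - 1 + 1 = n - j := by omega
      rw [h3]
  rw [h1, h2]
  ring

theorem cc_le {n : ℕ} (hφ : φ ^ n = 0) (j : ℕ) (hj : j + 1 ≤ n) :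
    cc φ j ≤ ilen (I φ (n - 1)) (K φ 1) := by
  have hle : I φ (n - 1) ≤ (K φ (j + 1)).map (φ ^ j) := by
    have : n - 1 = j + (n - 1 - j) := by omega
    rw [this, I_eq_map]
    exact Submodule.map_mono (I_le_K φ hφ (by omega))
  have := ilen_chain _ _ _ hle (map_pow_K_le_K_one φ j)
  rw [this]
  exact le_add_self

end Nilp

end Groth.Agent.Helper6.Herbrand
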