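import Mathlib
import Groth.Agent.Helper6.HilbSerreGr

/-! Gradings induced on homogeneous submodules and quotients by homogeneous submodules. -/

set_option autoImplicit false
universe u

namespace Groth.Agent.Helper6.HilbSerre

open MvPolynomial

variable {A₀ : Type u} [CommRing A₀] {d : ℕ}
variable {M : Type u} [AddCommGroup M] [Module (MvPolynomial (Fin d) A₀) M] [Module A₀ M]
  [IsScalarTower A₀ (MvPolynomial (Fin d) A₀) M]

namespace Gr

variable (G : Gr A₀ d M) (K : Submodule (MvPolynomial (Fin d) A₀) M)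
  (hK : ∀ i m, m ∈ K → G.comp i m ∈ K)

/-- component maps on a homogeneous submodule. -/
noncomputable def compSub (i : ℕ) : ↥K →ₗ[A₀] ↥K where
  toFun x := ⟨G.comp i x, hK i x x.2⟩
  map_add' x y := by
    apply Subtype.ext
    simp
  map_smul' a x := by
    apply Subtype.ext
    simp

/-- the grading on a homogeneous submodule. -/
noncomputable def sub : Gr A₀ d ↥K where
  ℳ i := (G.ℳ i).comap (K.subtype.restrictScalars A₀)
  comp := compSub G K hK
  comp_mem i x := by
    rw [Submodule.mem_comap]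
    exact G.comp_mem i x
  comp_same i x hx := by
    apply Subtype.ext
    exact G.comp_same i x hx
  comp_ne i l x hx hne := by
    apply Subtype.ext
    exact G.comp_ne i l x hx hne
  sum_comp x := by
    obtain ⟨s, hs0, hs⟩ := G.sum_comp (x : M)
    refine ⟨s, fun i hi => ?_, ?_⟩
    · apply Subtype.ext
      exact hs0 i hi
    · apply Subtype.ext
      rw [AddSubmonoidClass.coe_finsetSum]
      exact hs
  X_smul k i x hx := by
    rw [Submodule.mem_comap] at hx ⊢
    exact G.X_smul k i x hx

lemma sub_mem (i : ℕ) (x : ↥K) : x ∈ (G.sub K hK).ℳ i ↔ (x : M) ∈ G.ℳ i := Iff.rfl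

/-- component maps on the quotient by a homogeneous submodule. -/
noncomputable def compQuot (i : ℕ) : (M ⧸ K) →ₗ[A₀] (M ⧸ K) :=
  ((K.restrictScalars A₀).liftQ ((K.mkQ.restrictScalars A₀) ∘ₗ G.comp i) (by
      intro m hm
      rw [LinearMap.mem_ker, LinearMap.comp_apply]
      change K.mkQ (G.comp i m) = 0
      rw [Submodule.mkQ_apply, Submodule.Quotient.mk_eq_zero]
      exact hK i m hm)) ∘ₗ
    (Submodule.Quotient.restrictScalarsEquiv A₀ K).symm.toLinearMap

lemma compQuot_mk (i : ℕ) (m : M) :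
    compQuot G K hK i (Submodule.Quotient.mk m) = Submodule.Quotient.mk (G.comp i m) := by
  unfold compQuot
  rw [LinearMap.comp_apply]
  change ((K.restrictScalars A₀).liftQ _ _)
    ((Submodule.Quotient.restrictScalarsEquiv A₀ K).symm (Submodule.Quotient.mk m)) = _
  rw [Submodule.Quotient.restrictScalarsEquiv_symm_mk]
  rfl

/-- the grading on the quotient by a homogeneous submodule. -/
noncomputable def quot : Gr A₀ d (M ⧸ K) where
  ℳ i := (G.ℳ i).map (K.mkQ.restrictScalars A₀)
  comp := compQuot G K hK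
  comp_mem i y := by
    obtain ⟨m, rfl⟩ := Submodule.Quotient.mk_surjective _ y
    rw [compQuot_mk]
    exact Submodule.mem_map_of_mem (f := K.mkQ.restrictScalars A₀) (G.comp_mem i m)
  comp_same i y hy := by
    obtain ⟨m, hm, rfl⟩ := hy
    change compQuot G K hK i (Submodule.Quotient.mk m) = Submodule.Quotient.mk m
    rw [compQuot_mk, G.comp_same i m hm]
  comp_ne i l y hy hne := by
    obtain ⟨m, hm, rfl⟩ := hy
    change compQuot G K hK i (Submodule.Quotient.mk m) = 0
    rw [compQuot_mk, G.comp_ne i l m hm hne, Submodule.Quotient.mk_zero]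
  sum_comp y := by
    obtain ⟨m, rfl⟩ := Submodule.Quotient.mk_surjective _ y
    obtain ⟨s, hs0, hs⟩ := G.sum_comp m
    refine ⟨s, fun i hi => ?_, ?_⟩
    · rw [compQuot_mk, hs0 i hi, Submodule.Quotient.mk_zero]
    · simp_rw [compQuot_mk]
      have h1 : (Submodule.Quotient.mk m : M ⧸ K) = K.mkQ (∑ i ∈ s, G.comp i m) := by
        rw [hs]
        rfl
      rw [h1, map_sum]
      rfl
  X_smul k i y hy := by
    obtain ⟨m, hm, rfl⟩ := hy
    change (X k : MvPolynomial (Fin d) A₀) • (Submodule.Quotient.mk m : M ⧸ K) ∈ _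
    rw [← Submodule.Quotient.mk_smul]
    exact Submodule.mem_map_of_mem (f := K.mkQ.restrictScalars A₀) (G.X_smul k i m hm)

lemma quot_mem (i : ℕ) (y : M ⧸ K) :
    y ∈ (G.quot K hK).ℳ i ↔ ∃ m ∈ G.ℳ i, (Submodule.Quotient.mk m : M ⧸ K) = y := Iff.rfl

end Gr

end Groth.Agent.Helper6.HilbSerre
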