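import Mathlib
import Groth.Agent.Helper6.HilbSerreSubQuot

/-! The Rees module and the associated graded module as graded modules over `A[X₁..X_s]`. -/

set_option autoImplicit false
universe u

namespace Groth.Agent.Helper6.HilbSerre

open MvPolynomial

variable {A : Type u} [CommRing A] {s : ℕ} (x : Fin s → A)
variable (M : Type u) [AddCommGroup M] [Module A M]

/-- the polynomial module `M[t]`, remembering the elements `x`. -/
@[nolint unusedArguments]
def RT (_ : Fin s → A) : Type u := PolynomialModule A M

noncomputable instance : AddCommGroup (RT M x) :=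
  inferInstanceAs (AddCommGroup (PolynomialModule A M))

noncomputable instance : Module A (RT M x) :=
  inferInstanceAs (Module A (PolynomialModule A M))

/-- the map `A[X₁..X_s] → A[t]`, `X_k ↦ x_k t`. -/
noncomputable def psiX : MvPolynomial (Fin s) A →ₐ[A] Polynomial A :=
  MvPolynomial.aeval (fun k => Polynomial.monomial 1 (x k))

noncomputable instance : Module (MvPolynomial (Fin s) A) (RT M x) :=
  Module.compHom (PolynomialModule A M) (psiX x).toRingHom

variable {M}

lemma smul_def' (p : MvPolynomial (Fin s) A) (f : RT M x) :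
    p • f = (psiX x p) • (show PolynomialModule A M from f) := rfl

instance : IsScalarTower A (MvPolynomial (Fin s) A) (RT M x) := ⟨fun a p f => by
  rw [smul_def', map_smul]
  exact smul_assoc a (psiX x p) (show PolynomialModule A M from f)⟩

/-- coefficients. -/
def cf (f : RT M x) (n : ℕ) : M := (show PolynomialModule A M from f).coeff n

lemma cf_add (f g : RT M x) (n : ℕ) : cf x (f + g) n = cf x f n + cf x g n := rfl

lemma cf_zero (n : ℕ) : cf x (0 : RT M x) n = 0 := rfl

lemma cf_smul (a : A) (f : RT M x) (n : ℕ) : cf x (a • f) n = a • cf x f n := rfl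

lemma cf_ext {f g : RT M x} (h : ∀ n, cf x f n = cf x g n) : f = g := by
  apply PolynomialModule.coeff_injective
  exact Finsupp.ext h

lemma cf_X_smul (k : Fin s) (f : RT M x) (n : ℕ) :
    cf x ((X k : MvPolynomial (Fin s) A) • f) n = if 1 ≤ n then x k • cf x f (n - 1) else 0 := by
  unfold cf
  rw [smul_def', psiX, aeval_X]
  exact PolynomialModule.monomial_smul_apply 1 (x k) _ n

lemma C_smul' (a : A) (f : RT M x) : (C a : MvPolynomial (Fin s) A) • f = a • f := by
  rw [← algebraMap_eq, algebraMap_smul]

/-- the element `m tⁿ`. -/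
noncomputable def sg (n : ℕ) (m : M) : RT M x := PolynomialModule.single A n m

lemma cf_sg (n : ℕ) (m : M) (i : ℕ) : cf x (sg x n m) i = if n = i then m else 0 := by
  unfold cf sg
  rw [PolynomialModule.coeff_single]
  exact Finsupp.single_apply

lemma sg_add (n : ℕ) (m m' : M) : sg x n (m + m') = sg x n m + sg x n m' := by
  apply cf_ext x
  intro i
  rw [cf_add, cf_sg, cf_sg, cf_sg]
  split_ifs <;> simp

lemma sg_smul (n : ℕ) (a : A) (m : M) : sg x n (a • m) = a • sg x n m := by
  apply cf_ext x
  intro i
  rw [cf_smul, cf_sg, cf_sg]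
  split_ifs <;> simp

lemma X_smul_sg (k : Fin s) (n : ℕ) (m : M) :
    (X k : MvPolynomial (Fin s) A) • sg x n m = sg x (n + 1) (x k • m) := by
  apply cf_ext x
  intro i
  rw [cf_X_smul, cf_sg, cf_sg]
  by_cases hi : 1 ≤ i
  · rw [if_pos hi]
    by_cases h : n = i - 1
    · rw [if_pos h, if_pos (by omega)]
    · rw [if_neg h, if_neg (by omega), smul_zero]
  · rw [if_neg hi, if_neg (by omega)]

/-- the `i`-th component map on `M[t]`. -/
noncomputable def compT (i : ℕ) : RT M x →ₗ[A] RT M x where
  toFun f := sg x i (cf x f i)
  map_add' f g := by rw [cf_add, sg_add]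
  map_smul' a f := by rw [cf_smul, sg_smul]; rfl

lemma cf_compT (i : ℕ) (f : RT M x) (n : ℕ) :
    cf x (compT x i f) n = if i = n then cf x f i else 0 := cf_sg x i _ n

/-- the grading on `M[t]` by degree. -/
noncomputable def GrT : Gr A s (RT M x) where
  ℳ i :=
    { carrier := {f | ∀ n, n ≠ i → cf x f n = 0}
      add_mem' := fun {f g} hf hg n hn => by rw [cf_add, hf n hn, hg n hn, add_zero]
      zero_mem' := fun n _ => cf_zero x n
      smul_mem' := fun a f hf n hn => by rw [cf_smul, hf n hn, smul_zero] }
  comp := compT x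
  comp_mem i f n hn := by
    rw [cf_compT, if_neg (Ne.symm hn)]
  comp_same i f hf := by
    apply cf_ext x
    intro n
    rw [cf_compT]
    split_ifs with h
    · rw [h]
    · exact (hf n (Ne.symm h)).symm
  comp_ne i l f hf hne := by
    apply cf_ext x
    intro n
    rw [cf_compT, cf_zero]
    split_ifs with h
    · exact hf i (Ne.symm hne)
    · rfl
  sum_comp f := by
    classical
    refine ⟨(show PolynomialModule A M from f).coeff.support, fun i hi => ?_, ?_⟩
    · apply cf_ext x
      intro n
      rw [cf_compT, cf_zero]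
      split_ifs
      · exact Finsupp.notMem_support_iff.mp hi
      · rfl
    · apply cf_ext x
      intro n
      have hsum : ∀ (t : Finset ℕ) (g : ℕ → RT M x), cf x (∑ i ∈ t, g i) n = ∑ i ∈ t, cf x (g i) n := by
        intro t g
        induction t using Finset.induction_on with
        | empty => simp [cf_zero]
        | insert a t ha ih => rw [Finset.sum_insert ha, Finset.sum_insert ha, cf_add, ih]
      rw [hsum]
      simp_rw [cf_compT]
      rw [Finset.sum_ite_eq' _ n]
      split_ifs with h
      · rfl
      · exact (Finsupp.notMem_support_iff.mp h).symm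
  X_smul k i f hf n hn := by
    rw [cf_X_smul]
    split_ifs with h
    · rw [hf (n - 1) (by omega), smul_zero]
    · rfl

lemma mem_GrT (i : ℕ) (f : RT M x) : f ∈ (GrT x (M := M)).ℳ i ↔ ∀ n, n ≠ i → cf x f n = 0 := Iff.rfl

/-- the Rees-type submodules `{f | f_n ∈ q^{n+c} M}`. -/
noncomputable def rees (c : ℕ) : Submodule (MvPolynomial (Fin s) A) (RT M x) where
  carrier := {f | ∀ n, cf x f n ∈ (Ideal.span (Set.range x) ^ (n + c) • (⊤ : Submodule A M))}
  add_mem' := fun {f g} hf hg n => by
    rw [cf_add]
    exact Submodule.add_mem _ (hf n) (hg n)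
  zero_mem' := fun n => by
    rw [cf_zero]
    exact Submodule.zero_mem _
  smul_mem' := fun p f hf => by
    induction p using MvPolynomial.induction_on generalizing f with
    | C a =>
      intro n
      rw [C_smul', cf_smul]
      exact Submodule.smul_mem _ _ (hf n)
    | add p q hp hq =>
      intro n
      rw [add_smul, cf_add]
      exact Submodule.add_mem _ (hp f hf n) (hq f hf n)
    | mul_X p k hp =>
      rw [mul_smul]
      apply hp
      intro n
      rw [cf_X_smul]
      split_ifs with h
      · have h1 := hf (n - 1)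
        have h2 : x k ∈ Ideal.span (Set.range x) := Ideal.subset_span ⟨k, rfl⟩
        have h3 := Submodule.smul_mem_smul h2 h1
        rw [← mul_smul, ← pow_succ'] at h3
        have e : n - 1 + c + 1 = n + c := by omega
        rw [e] at h3
        exact h3
      · exact Submodule.zero_mem _

lemma mem_rees (c : ℕ) (f : RT M x) :
    f ∈ rees x (M := M) c ↔
      ∀ n, cf x f n ∈ (Ideal.span (Set.range x) ^ (n + c) • (⊤ : Submodule A M)) := Iff.rfl

lemma comp_mem_rees (c : ℕ) (i : ℕ) (f : RT M x) (hf : f ∈ rees x c) :
    (GrT x).comp i f ∈ rees x c := by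
  intro n
  change cf x (compT x i f) n ∈ _
  rw [cf_compT]
  split_ifs with h
  · rw [← h]
    exact hf i
  · exact Submodule.zero_mem _

end Groth.Agent.Helper6.HilbSerre
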