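import Mathlib
import Groth.Agent.Helper6.HilbSerreRees
import Groth.Agent.Helper6.Herbrand7

/-! The associated graded module `gr_q(M)` as a finitely generated graded `A[X₁..X_s]`-module. -/

set_option autoImplicit false
universe u

namespace Groth.Agent.Helper6.HilbSerre

open MvPolynomial

variable {A : Type u} [CommRing A] {s : ℕ} (x : Fin s → A)
variable (M : Type u) [AddCommGroup M] [Module A M]

/-- the submodule `q𝓜` of the Rees module. -/
noncomputable def reesN : Submodule (MvPolynomial (Fin s) A) ↥(rees x (M := M) 0) :=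
  (rees x 1).comap (rees x 0).subtype

/-- the associated graded module. -/
abbrev GrMod : Type u := ↥(rees x (M := M) 0) ⧸ reesN x M

/-- the grading on the Rees module. -/
noncomputable def GrR : Gr A s ↥(rees x (M := M) 0) :=
  (GrT x).sub (rees x 0) (comp_mem_rees x 0)

/-- the grading on the associated graded module. -/
noncomputable def GrG : Gr A s (GrMod x M) :=
  (GrR x M).quot (reesN x M) (fun i m hm => by
    change (GrT x).comp i (m : RT M x) ∈ rees x 1
    exact comp_mem_rees x 1 i (m : RT M x) hm)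

variable {M}

lemma mem_GrG (n : ℕ) (z : GrMod x M) :
    z ∈ (GrG x M).ℳ n ↔ ∃ m : ↥(rees x (M := M) 0),
      (∀ i, i ≠ n → cf x (m : RT M x) i = 0) ∧ Submodule.Quotient.mk m = z := Iff.rfl

lemma sg_mem_rees (c n : ℕ) (y : M)
    (hy : y ∈ (Ideal.span (Set.range x) ^ (n + c) • (⊤ : Submodule A M))) :
    sg x n y ∈ rees x c := by
  intro i
  rw [cf_sg]
  split_ifs with h
  · rw [← h]
    exact hy
  · exact Submodule.zero_mem _

lemma sg_mem_rees_iff (c n : ℕ) (y : M) :
    sg x n y ∈ rees x c ↔ y ∈ (Ideal.span (Set.range x) ^ (n + c) • (⊤ : Submodule A M)) := by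
  refine ⟨fun h => ?_, sg_mem_rees x c n y⟩
  have := h n
  rwa [cf_sg, if_pos rfl] at this

/-- `y ↦ y tⁿ` from `qⁿM` to the Rees module. -/
noncomputable def sgR (n : ℕ) :
    ↥(Ideal.span (Set.range x) ^ n • (⊤ : Submodule A M)) →ₗ[A] ↥(rees x (M := M) 0) where
  toFun y := ⟨sg x n (y : M), sg_mem_rees x 0 n (y : M) (by rw [add_zero]; exact y.2)⟩
  map_add' y z := by
    apply Subtype.ext
    exact sg_add x n (y : M) (z : M)
  map_smul' a y := by
    apply Subtype.ext
    exact sg_smul x n a (y : M)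

/-- `qⁿM → gr_n`. -/
noncomputable def theta (n : ℕ) :
    ↥(Ideal.span (Set.range x) ^ n • (⊤ : Submodule A M)) →ₗ[A] ↥((GrG x M).ℳ n) where
  toFun y := ⟨Submodule.Quotient.mk (sgR x n y), (mem_GrG x n _).mpr ⟨sgR x n y, by
    intro i hi
    change cf x (sg x n (y : M)) i = 0
    rw [cf_sg, if_neg (Ne.symm hi)], rfl⟩⟩
  map_add' y z := by
    apply Subtype.ext
    change Submodule.Quotient.mk (sgR x n (y + z)) = _
    rw [map_add]
    rfl
  map_smul' a y := by
    apply Subtype.ext
    change Submodule.Quotient.mk (sgR x n (a • y)) = _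
    rw [map_smul]
    rfl

lemma theta_surjective (n : ℕ) : Function.Surjective (theta x (M := M) n) := by
  rintro ⟨z, hz⟩
  obtain ⟨m, hm, rfl⟩ := (mem_GrG x n z).mp hz
  refine ⟨⟨cf x (m : RT M x) n, by have := m.2 n; rwa [add_zero] at this⟩, ?_⟩
  apply Subtype.ext
  change Submodule.Quotient.mk (sgR x n _) = Submodule.Quotient.mk m
  congr 1
  apply Subtype.ext
  apply cf_ext x
  intro i
  change cf x (sg x n _) i = _
  rw [cf_sg]
  split_ifs with h
  · rw [h]
  · exact (hm i (Ne.symm h)).symm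

lemma ker_theta (n : ℕ) : LinearMap.ker (theta x (M := M) n) =
    (Ideal.span (Set.range x) ^ (n + 1) • (⊤ : Submodule A M)).submoduleOf
      (Ideal.span (Set.range x) ^ n • (⊤ : Submodule A M)) := by
  ext y
  rw [LinearMap.mem_ker]
  change _ ↔ (y : M) ∈ (Ideal.span (Set.range x) ^ (n + 1) • (⊤ : Submodule A M))
  rw [← sg_mem_rees_iff x 1 n (y : M)]
  constructor
  · intro h
    have h1 : (Submodule.Quotient.mk (sgR x n y) : GrMod x M) = 0 := congrArg Subtype.val h
    have h2 : sgR x n y ∈ reesN x M := (Submodule.Quotient.mk_eq_zero (reesN x M)).mp h1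
    exact h2
  · intro h
    apply Subtype.ext
    change (Submodule.Quotient.mk (sgR x n y) : GrMod x M) = 0
    have h2 : sgR x n y ∈ reesN x M := h
    exact (Submodule.Quotient.mk_eq_zero (reesN x M)).mpr h2

/-- `ℓ(gr_n) = ℓ(qⁿM/qⁿ⁺¹M)`. -/
theorem length_GrG (n : ℕ) :
    Module.length A ↥((GrG x M).ℳ n) =
      Groth.Agent.Helper6.Herbrand.ilen
        (Ideal.span (Set.range x) ^ (n + 1) • (⊤ : Submodule A M))
        (Ideal.span (Set.range x) ^ n • (⊤ : Submodule A M)) := by
  unfold Groth.Agent.Helper6.Herbrand.ilen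
  rw [← ker_theta]
  exact ((theta x n).quotKerEquivOfSurjective (theta_surjective x n)).length_eq.symm

end Groth.Agent.Helper6.HilbSerre
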