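import Mathlib
import Groth.Agent.Helper6.HilbSerreGrM
import Groth.Agent.Helper6.HilbSerreGen

/-! The Samuel function `n ↦ ℓ(M/qⁿM)` is eventually of binomial form. -/

set_option autoImplicit false
universe u

namespace Groth.Agent.Helper6.HilbSerre

open MvPolynomial Groth.Agent.Helper6.Herbrand

section ilen

variable {R : Type u} [CommRing R] {V : Type u} [AddCommGroup V] [Module R V]

theorem ilen_top (X : Submodule R V) : ilen X ⊤ = Module.length R (V ⧸ X) := by
  unfold ilen
  refine (Submodule.Quotient.equiv (X.submoduleOf ⊤) X Submodule.topEquiv ?_).length_eq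
  ext v
  constructor
  · rintro ⟨w, hw, rfl⟩
    exact hw
  · intro hv
    exact ⟨⟨v, trivial⟩, hv, rfl⟩

end ilen

variable {A : Type u} [CommRing A] {s : ℕ} (x : Fin s → A)
variable {M : Type u} [AddCommGroup M] [Module A M]

/-- all `y tⁿ` with `y ∈ qⁿM` lie in the span of the degree-zero generators. -/
lemma sg_mem_span (S : Set M) (hS : Submodule.span A S = ⊤) (n : ℕ) :
    ∀ y ∈ (Ideal.span (Set.range x) ^ n • (⊤ : Submodule A M)),
      sg x n y ∈ Submodule.span (MvPolynomial (Fin s) A) ((sg x 0) '' S) := by
  induction n with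
  | zero =>
    intro y hy0
    clear hy0
    have hy : y ∈ Submodule.span A S := by rw [hS]; trivial
    induction hy using Submodule.span_induction with
    | mem m hm => exact Submodule.subset_span ⟨m, hm, rfl⟩
    | zero =>
      have : sg x 0 (0 : M) = 0 := by
        have := sg_smul x 0 (0 : A) (0 : M)
        rwa [zero_smul, zero_smul] at this
      rw [this]
      exact Submodule.zero_mem _
    | add a b _ _ ha hb =>
      rw [sg_add]
      exact Submodule.add_mem _ ha hb
    | smul a m _ hm =>
      rw [sg_smul, ← C_smul']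
      exact Submodule.smul_mem _ _ hm
  | succ n ih =>
    intro y hy
    rw [pow_succ', mul_smul] at hy
    refine Submodule.smul_induction_on hy ?_ ?_
    · intro a ha y' hy'
      induction ha using Submodule.span_induction with
      | mem a ha =>
        obtain ⟨k, rfl⟩ := ha
        rw [← X_smul_sg]
        exact Submodule.smul_mem _ _ (ih y' hy')
      | zero =>
        rw [zero_smul]
        have : sg x (n + 1) (0 : M) = 0 := by
          have := sg_smul x (n + 1) (0 : A) (0 : M)
          rwa [zero_smul, zero_smul] at this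
        rw [this]
        exact Submodule.zero_mem _
      | add a b _ _ ha hb =>
        rw [add_smul, sg_add]
        exact Submodule.add_mem _ ha hb
      | smul c a _ ha =>
        rw [smul_eq_mul, mul_smul, sg_smul, ← C_smul']
        exact Submodule.smul_mem _ _ ha
    · intro a b ha hb
      rw [sg_add]
      exact Submodule.add_mem _ ha hb

theorem rees_fg [Module.Finite A M] : (rees x (M := M) 0).FG := by
  classical
  obtain ⟨S, hS⟩ := (Module.Finite.fg_top : (⊤ : Submodule A M).FG)
  refine ⟨S.image (sg x 0), ?_⟩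
  rw [Finset.coe_image]
  apply le_antisymm
  · apply Submodule.span_le.mpr
    rintro _ ⟨m, _, rfl⟩
    exact sg_mem_rees x 0 0 m (by simp)
  · intro f hf
    obtain ⟨t, -, ht⟩ := (GrT x).sum_comp f
    rw [← ht]
    refine Submodule.sum_mem _ fun i _ => ?_
    exact sg_mem_span x (S : Set M) hS i _ (by have := hf i; rwa [add_zero] at this)

lemma EvP_neg {n : ℕ} {h : ℕ → ℤ} (hh : EvP n h) : EvP n (fun i => - h i) := by
  obtain ⟨f, hf, N, hN⟩ := hh
  exact ⟨-f, Submodule.neg_mem _ hf, N, fun i hi => by simp [hN i hi]⟩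

/-- the Samuel function is eventually of binomial form of degree `≤ s`. -/
theorem samuel_EvP [IsNoetherianRing A] [Module.Finite A M]
    (hfin : ∀ n, Module.length A
      (M ⧸ (Ideal.span (Set.range x) ^ n • (⊤ : Submodule A M))) ≠ ⊤) :
    EvP (s + 1) (fun n => ((Module.length A
      (M ⧸ (Ideal.span (Set.range x) ^ n • (⊤ : Submodule A M)))).toNat : ℤ)) := by
  have hchain : ∀ n, Module.length A
      (M ⧸ (Ideal.span (Set.range x) ^ (n + 1) • (⊤ : Submodule A M))) =
      Module.length A ↥((GrG x M).ℳ n) +
        Module.length A (M ⧸ (Ideal.span (Set.range x) ^ n • (⊤ : Submodule A M))) := by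
    intro n
    rw [length_GrG, ← ilen_top, ← ilen_top]
    exact ilen_chain _ _ _
      (Submodule.smul_mono_left (Ideal.pow_le_pow_right (Nat.le_succ n))) le_top
  have hfinG : ∀ i, Module.length A ↥((GrG x M).ℳ i) ≠ ⊤ := by
    intro i h
    have := hchain i
    rw [h, top_add] at this
    exact hfin (i + 1) this
  haveI : Module.Finite (MvPolynomial (Fin s) A) ↥(rees x (M := M) 0) :=
    Module.Finite.iff_fg.mpr (rees_fg x)
  have evG : EvP s (hilb (GrG x M)) := hilbert_gen_top (GrMod x M) (GrG x M) hfinG
  refine EvP_step s _ (fun _ => 0) (fun i => - hilb (GrG x M) i)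
    (EvP_of_eventually_zero s _ 0 (fun _ _ => rfl)) (EvP_neg evG) fun i => ?_
  have h1 := hchain i
  obtain ⟨a, ha⟩ := ENat.ne_top_iff_exists.mp (hfin i)
  obtain ⟨a', ha'⟩ := ENat.ne_top_iff_exists.mp (hfin (i + 1))
  obtain ⟨g, hg⟩ := ENat.ne_top_iff_exists.mp (hfinG i)
  unfold hilb
  rw [← ha, ← ha', ← hg] at h1 ⊢
  simp only [ENat.toNat_natCast]
  have h2 : a' = g + a := by exact_mod_cast h1
  omega

end Groth.Agent.Helper6.HilbSerre
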