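import Mathlib
universe u
namespace Groth.Agent.Helper6.FinLen

theorem isFiniteLength_of_assoc_max {R N : Type*} [CommRing R] [IsNoetherianRing R]
    [AddCommGroup N] [Module R N] [Module.Finite R N]
    (h : ∀ P ∈ associatedPrimes R N, P.IsMaximal) : IsFiniteLength R N := by
  rw [isFiniteLength_iff_isNoetherian_isArtinian]
  refine ⟨inferInstance, ?_⟩
  let I := Module.annihilator R N
  letI : Module (R ⧸ I) N := Module.quotientAnnihilator
  haveI : IsScalarTower R (R ⧸ I) N := inferInstance
  have hdim : Ring.KrullDimLE 0 (R ⧸ I) := by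
    apply Ring.KrullDimLE.mk₀
    intro Q hQ
    have hQ' : (Q.comap (Ideal.Quotient.mk I)).IsPrime := Ideal.comap_isPrime _ _
    have hIQ : I ≤ Q.comap (Ideal.Quotient.mk I) := by
      intro x hx
      rw [Ideal.mem_comap, Ideal.Quotient.eq_zero_iff_mem.mpr hx]
      exact Q.zero_mem
    obtain ⟨P, hP, hPQ⟩ := Ideal.exists_minimalPrimes_le hIQ
    have hPmax : P.IsMaximal :=
      h P (Module.associatedPrimes.minimalPrimes_annihilator_subset_associatedPrimes R N hP)
    have hEq : P = Q.comap (Ideal.Quotient.mk I) := hPmax.eq_of_le hQ'.ne_top hPQ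
    have hmax : (Q.comap (Ideal.Quotient.mk I)).IsMaximal := hEq ▸ hPmax
    have := Ideal.map_eq_top_or_isMaximal_of_surjective (Ideal.Quotient.mk I)
      Ideal.Quotient.mk_surjective hmax
    rw [Ideal.map_comap_of_surjective _ Ideal.Quotient.mk_surjective] at this
    exact this.resolve_left hQ.ne_top
  haveI : IsArtinianRing (R ⧸ I) := isArtinianRing_iff_krullDimLE_zero.mpr hdim
  haveI : Module.Finite (R ⧸ I) N := Module.Finite.of_restrictScalars_finite R (R ⧸ I) N
  haveI : IsArtinian (R ⧸ I) N := inferInstance
  exact isArtinian_of_surjective_algebraMap (R := R ⧸ I) (S := R) Ideal.Quotient.mk_surjective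

open MvPolynomial in
theorem isMaximal_of_X_mem {k : Type*} [Field k] {σ : Type*} (P : Ideal (MvPolynomial σ k))
    [hP : P.IsPrime] (h : ∀ i, (X i : MvPolynomial σ k) ∈ P) : P.IsMaximal := by
  have key : ∀ p : MvPolynomial σ k, p - C (constantCoeff p) ∈ P := by
    intro p
    induction p using MvPolynomial.induction_on with
    | C a => simp
    | add p q hp hq =>
      simp only [map_add]
      have := P.add_mem hp hq
      convert this using 1
      ring
    | mul_X p i hp =>
      simp only [map_mul, constantCoeff_X, mul_zero, map_zero, sub_zero]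
      exact P.mul_mem_left _ (h i)
  rw [Ideal.isMaximal_iff]
  refine ⟨fun h1 => hP.ne_top ((Ideal.eq_top_iff_one _).mpr h1), ?_⟩
  intro J x hPJ hxP hxJ
  have h1 : C (constantCoeff x) ∈ J := by
    have := J.sub_mem hxJ (hPJ (key x))
    simpa using this
  have hc : constantCoeff x ≠ 0 := by
    intro h0
    apply hxP
    have := key x
    simpa [h0] using this
  have : (C (constantCoeff x)⁻¹ : MvPolynomial σ k) * C (constantCoeff x) ∈ J := J.mul_mem_left _ h1
  rwa [← C_mul, inv_mul_cancel₀ hc, C_1] at this

open MvPolynomial Classical in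
theorem exists_homog_torsion_finLen (k : Type u) [Field k] [Infinite k] (r d : ℕ)
    (M : Type u) [AddCommGroup M] [Module (MvPolynomial (Fin (r + 1)) k) M]
    [Module.Finite (MvPolynomial (Fin (r + 1)) k) M] :
    ∃ f : MvPolynomial (Fin (r + 1)) k, f.IsHomogeneous d ∧ f ≠ 0 ∧
      IsFiniteLength (MvPolynomial (Fin (r + 1)) k)
        ↥(Submodule.torsionBy (MvPolynomial (Fin (r + 1)) k) M f) := by
  let S : Submodule k (MvPolynomial (Fin (r + 1)) k) := homogeneousSubmodule (Fin (r + 1)) k d
  have hfin : (associatedPrimes (MvPolynomial (Fin (r + 1)) k) M).Finite :=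
    associatedPrimes.finite _ M
  haveI : Finite (associatedPrimes (MvPolynomial (Fin (r + 1)) k) M) := hfin.to_subtype
  let p : Option (associatedPrimes (MvPolynomial (Fin (r + 1)) k) M) → Subspace k S := fun o =>
    match o with
    | none => ⊥
    | some P => if P.1.IsMaximal then ⊥ else Submodule.comap S.subtype (P.1.restrictScalars k)
  have hXS : ∀ i : Fin (r + 1), (X i ^ d : MvPolynomial (Fin (r + 1)) k) ∈ S := fun i =>
    (mem_homogeneousSubmodule _ _).mpr (isHomogeneous_X_pow i d)
  have hbot : (⊥ : Subspace k S) ≠ ⊤ := by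
    intro hbt
    have hmem : (⟨X 0 ^ d, hXS 0⟩ : S) ∈ (⊤ : Subspace k S) := Submodule.mem_top
    rw [← hbt, Submodule.mem_bot] at hmem
    have : (X 0 ^ d : MvPolynomial (Fin (r + 1)) k) = 0 := congrArg Subtype.val hmem
    exact pow_ne_zero d (X_ne_zero (0 : Fin (r + 1))) this
  have hne : ∀ i, p i ≠ ⊤ := by
    intro o
    match o with
    | none => exact hbot
    | some P =>
      by_cases hmax : P.1.IsMaximal
      · simp only [p, hmax, if_true]; exact hbot
      · simp only [p, hmax, if_false]
        intro htop
        apply hmax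
        haveI : P.1.IsPrime := P.2.isPrime
        apply isMaximal_of_X_mem
        intro i
        have hmem : (⟨X i ^ d, hXS i⟩ : S) ∈ Submodule.comap S.subtype (P.1.restrictScalars k) := by
          rw [htop]; exact Submodule.mem_top
        have h2 : (X i ^ d : MvPolynomial (Fin (r + 1)) k) ∈ P.1 := hmem
        exact Ideal.IsPrime.mem_of_pow_mem inferInstance d h2
  have hex : ∃ f : S, ∀ i, f ∉ p i := by
    by_contra hcon
    push Not at hcon
    have hcov : ⋃ i, (p i : Set S) = Set.univ := by
      ext f
      simp only [Set.mem_iUnion, SetLike.mem_coe, Set.mem_univ, iff_true]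
      exact hcon f
    obtain ⟨i, hi⟩ := Subspace.exists_eq_top_of_iUnion_eq_univ hcov
    exact hne i hi
  obtain ⟨f, hf⟩ := hex
  refine ⟨f.1, (mem_homogeneousSubmodule _ _).mp f.2, ?_, ?_⟩
  · intro h0
    apply hf none
    show f ∈ (⊥ : Subspace k S)
    rw [Submodule.mem_bot]
    exact Subtype.ext h0
  · apply isFiniteLength_of_assoc_max
    intro P hP
    have hPM : P ∈ associatedPrimes (MvPolynomial (Fin (r + 1)) k) M :=
      associatedPrimes.subset_of_injective
        (f := (Submodule.torsionBy (MvPolynomial (Fin (r + 1)) k) M f.1).subtype)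
        Subtype.val_injective hP
    have hfP : f.1 ∈ P := by
      obtain ⟨-, x, rfl⟩ := isAssociatedPrime_iff.mp hP
      rw [Submodule.mem_colon_singleton, Submodule.mem_bot]
      apply Subtype.ext
      have := x.2
      rw [Submodule.mem_torsionBy_iff] at this
      simpa using this
    by_contra hmax
    apply hf (some ⟨P, hPM⟩)
    simp only [p, hmax, if_false]
    exact hfP

end Groth.Agent.Helper6.FinLen
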