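import Mathlib
import Groth.Agent.Helper6.FinLen

universe u

namespace Groth.Agent.Helper6.Samuel1

open IsLocalRing

section FinLen

variable {A : Type u} [CommRing A] [IsNoetherianRing A] [IsLocalRing A]
  (I : Ideal A) (hI : ∃ n : ℕ, maximalIdeal A ^ n ≤ I)
  (M : Type u) [AddCommGroup M] [Module A M] [Module.Finite A M]

include hI in
theorem finLen (K : Submodule A M) (t : ℕ) (hK : I ^ t • (⊤ : Submodule A M) ≤ K) :
    IsFiniteLength A (M ⧸ K) := by
  apply Groth.Agent.Helper6.FinLen.isFiniteLength_of_assoc_max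
  intro P hP
  obtain ⟨n, hn⟩ := hI
  have hPprime : P.IsPrime := hP.1
  obtain ⟨x, hx⟩ := hP.2
  have h1 : I ^ t ≤ P := by
    intro a ha
    rw [hx]
    apply Ideal.le_radical
    rw [Submodule.mem_colon_singleton]
    obtain ⟨y, rfl⟩ := Submodule.Quotient.mk_surjective _ x
    rw [Submodule.mem_bot, ← Submodule.Quotient.mk_smul, Submodule.Quotient.mk_eq_zero]
    exact hK (Submodule.smul_mem_smul ha Submodule.mem_top)
  have h2 : maximalIdeal A ^ (n * t) ≤ P := by
    rw [pow_mul]
    exact (Ideal.pow_right_mono hn t).trans h1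
  have h3 : maximalIdeal A ≤ P := hPprime.le_of_pow_le h2
  have h4 : maximalIdeal A = P := (maximalIdeal.isMaximal A).eq_of_le hPprime.ne_top h3
  rw [← h4]
  exact maximalIdeal.isMaximal A

include hI in
theorem length_ne_top (K : Submodule A M) (t : ℕ) (hK : I ^ t • (⊤ : Submodule A M) ≤ K) :
    Module.length A (M ⧸ K) ≠ ⊤ :=
  Module.length_ne_top_iff.mpr (finLen I hI M K t hK)

end FinLen

section Exact

variable {A : Type u} [CommRing A]
  (I : Ideal A)
  {M' M M'' : Type u} [AddCommGroup M'] [Module A M'] [AddCommGroup M] [Module A M]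
  [AddCommGroup M''] [Module A M'']
  (f : M' →ₗ[A] M) (g : M →ₗ[A] M'') (hf : Function.Injective f) (hg : Function.Surjective g)
  (hfg : LinearMap.range f = LinearMap.ker g)

/-- `K_t = f⁻¹(I^t M)` -/
def Kt (t : ℕ) : Submodule A M' := (I ^ t • (⊤ : Submodule A M)).comap f

lemma smul_le_Kt (t : ℕ) : I ^ t • (⊤ : Submodule A M') ≤ Kt I f t := by
  rw [Kt, ← Submodule.map_le_iff_le_comap, Submodule.map_smul'']
  exact Submodule.smul_mono le_rfl le_top

def fbar (t : ℕ) : (M' ⧸ Kt I f t) →ₗ[A] (M ⧸ (I ^ t • (⊤ : Submodule A M))) :=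
  Submodule.mapQ _ _ f le_rfl

lemma fbar_inj (t : ℕ) : Function.Injective (fbar I f t) := by
  rw [← LinearMap.ker_eq_bot, LinearMap.ker_eq_bot']
  intro y hy
  obtain ⟨y, rfl⟩ := Submodule.Quotient.mk_surjective _ y
  have : fbar I f t (Submodule.Quotient.mk y) = Submodule.Quotient.mk (f y) := rfl
  rw [this, Submodule.Quotient.mk_eq_zero] at hy
  rw [Submodule.Quotient.mk_eq_zero]
  exact hy

lemma smul_le_comap_g (t : ℕ) :
    I ^ t • (⊤ : Submodule A M) ≤ (I ^ t • (⊤ : Submodule A M'')).comap g := by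
  rw [← Submodule.map_le_iff_le_comap, Submodule.map_smul'']
  exact Submodule.smul_mono le_rfl le_top

def gbar (t : ℕ) : (M ⧸ (I ^ t • (⊤ : Submodule A M))) →ₗ[A] (M'' ⧸ (I ^ t • (⊤ : Submodule A M''))) :=
  Submodule.mapQ _ _ g (smul_le_comap_g I g t)

include hg in
lemma gbar_surj (t : ℕ) : Function.Surjective (gbar I g t) := by
  intro y
  obtain ⟨y, rfl⟩ := Submodule.Quotient.mk_surjective _ y
  obtain ⟨x, rfl⟩ := hg y
  exact ⟨Submodule.Quotient.mk x, rfl⟩

include hg hfg in
lemma exact_bar (t : ℕ) : Function.Exact (fbar I f t) (gbar I g t) := by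
  intro y
  obtain ⟨y, rfl⟩ := Submodule.Quotient.mk_surjective _ y
  constructor
  · intro h
    have h1 : g y ∈ I ^ t • (⊤ : Submodule A M'') := by
      have : gbar I g t (Submodule.Quotient.mk y) = Submodule.Quotient.mk (g y) := rfl
      rw [this, Submodule.Quotient.mk_eq_zero] at h
      exact h
    have h2 : (I ^ t • (⊤ : Submodule A M'')) = (I ^ t • (⊤ : Submodule A M)).map g := by
      rw [Submodule.map_smul'', Submodule.map_top, LinearMap.range_eq_top.mpr hg]
    rw [h2] at h1
    obtain ⟨z, hz, hzy⟩ := h1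
    have h3 : y - z ∈ LinearMap.ker g := by
      rw [LinearMap.mem_ker, map_sub, hzy, sub_self]
    rw [← hfg] at h3
    obtain ⟨w, hw⟩ := h3
    refine ⟨Submodule.Quotient.mk w, ?_⟩
    have : fbar I f t (Submodule.Quotient.mk w) = Submodule.Quotient.mk (f w) := rfl
    rw [this, hw, Submodule.Quotient.eq]
    simpa using hz
  · rintro ⟨w, hw⟩
    obtain ⟨w, rfl⟩ := Submodule.Quotient.mk_surjective _ w
    rw [← hw]
    have : gbar I g t (fbar I f t (Submodule.Quotient.mk w)) = Submodule.Quotient.mk (g (f w)) := rfl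
    rw [this]
    have : f w ∈ LinearMap.ker g := by
      rw [← hfg]; exact ⟨w, rfl⟩
    rw [LinearMap.mem_ker] at this
    rw [this]
    rfl

include hg hfg in
theorem length_mid (t : ℕ) :
    Module.length A (M ⧸ (I ^ t • (⊤ : Submodule A M))) =
      Module.length A (M' ⧸ Kt I f t) + Module.length A (M'' ⧸ (I ^ t • (⊤ : Submodule A M''))) :=
  Module.length_eq_add_of_exact (fbar I f t) (gbar I g t) (fbar_inj I f t) (gbar_surj I g hg t)
    (exact_bar I f g hg hfg t)

end Exact

end Groth.Agent.Helper6.Samuel1
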