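import Mathlib
import Groth.Agent.Helper6.Samuel1

universe u

namespace Groth.Agent.Helper6.Samuel2

open IsLocalRing Filter Groth.Agent.Helper6.Samuel1

theorem squeeze (d c : ℕ) (a b m : ℕ → ℕ) (e' e'' : ℝ)
    (hup : ∀ t, m t ≤ a t + b t) (hlow : ∀ t, c ≤ t → a (t - c) + b t ≤ m t)
    (h' : Tendsto (fun t : ℕ => (d.factorial : ℝ) * (a t : ℝ) / (t:ℝ)^d) atTop (nhds e'))
    (h'' : Tendsto (fun t : ℕ => (d.factorial : ℝ) * (b t : ℝ) / (t:ℝ)^d) atTop (nhds e'')) :
    Tendsto (fun t : ℕ => (d.factorial : ℝ) * (m t : ℝ) / (t:ℝ)^d) atTop (nhds (e' + e'')) := by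
  have hU := h'.add h''
  have hφ : Tendsto (fun s : ℕ => ((s : ℝ) / ((s : ℝ) + (c : ℝ))) ^ d) atTop (nhds 1) := by
    have := (tendsto_natCast_div_add_atTop (c : ℝ)).pow d
    simpa using this
  have hH := h'.mul hφ
  rw [mul_one] at hH
  have hH' := hH.comp (tendsto_sub_atTop_nat c)
  have hL := hH'.add h''
  refine tendsto_of_tendsto_of_tendsto_of_le_of_le' hL hU ?_ ?_
  · filter_upwards [eventually_ge_atTop (c + 1)] with t ht
    obtain ⟨s, rfl⟩ := Nat.exists_eq_add_of_le ht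
    have hs : c + 1 + s - c = s + 1 := by omega
    have hsc : ((c + 1 + s : ℕ) : ℝ) = ((s + 1 : ℕ) : ℝ) + (c : ℝ) := by push_cast; ring
    simp only [Function.comp_apply, hs]
    rw [← hsc]
    have hpos : (0 : ℝ) < ((s + 1 : ℕ) : ℝ) := by positivity
    have hpos2 : (0 : ℝ) < ((c + 1 + s : ℕ) : ℝ) := by positivity
    have key : (d.factorial : ℝ) * (a (s + 1) : ℝ) / ((s + 1 : ℕ) : ℝ) ^ d *
        (((s + 1 : ℕ) : ℝ) / ((c + 1 + s : ℕ) : ℝ)) ^ d =
        (d.factorial : ℝ) * (a (s + 1) : ℝ) / ((c + 1 + s : ℕ) : ℝ) ^ d := by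
      rw [div_pow]
      field_simp
    rw [key, ← add_div, ← mul_add]
    have := hlow (c + 1 + s) (by omega)
    rw [hs] at this
    gcongr
    exact_mod_cast this
  · filter_upwards with t
    show _ ≤ (d.factorial : ℝ) * (a t : ℝ) / (t:ℝ)^d + (d.factorial : ℝ) * (b t : ℝ) / (t:ℝ)^d
    rw [← add_div, ← mul_add]
    gcongr
    exact_mod_cast hup t

section AR

variable {A : Type u} [CommRing A] [IsNoetherianRing A]
  (I : Ideal A)
  {M' M : Type u} [AddCommGroup M'] [Module A M'] [AddCommGroup M] [Module A M]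
  [Module.Finite A M]
  (f : M' →ₗ[A] M) (hf : Function.Injective f)

include hf in
theorem artinRees : ∃ c : ℕ, ∀ t, c ≤ t → Kt I f t ≤ I ^ (t - c) • (⊤ : Submodule A M') := by
  obtain ⟨k, hk⟩ := Ideal.exists_pow_inf_eq_pow_smul I (LinearMap.range f)
  refine ⟨k, fun t ht x hx => ?_⟩
  have h1 : f x ∈ I ^ t • (⊤ : Submodule A M) ⊓ LinearMap.range f := ⟨hx, ⟨x, rfl⟩⟩
  rw [hk t ht] at h1
  have h2 : I ^ (t - k) • (I ^ k • (⊤ : Submodule A M) ⊓ LinearMap.range f) ≤
      (I ^ (t - k) • (⊤ : Submodule A M')).map f := by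
    rw [Submodule.map_smul'', Submodule.map_top]
    exact Submodule.smul_mono le_rfl inf_le_right
  obtain ⟨y, hy, hyx⟩ := h2 h1
  rw [← hf hyx]
  exact hy

end AR

theorem main (A : Type u) [CommRing A] [IsNoetherianRing A] [IsLocalRing A]
    (I : Ideal A) (hI : I ≤ IsLocalRing.maximalIdeal A ∧ ∃ n : ℕ, IsLocalRing.maximalIdeal A ^ n ≤ I)
    {M' M M'' : Type u} [AddCommGroup M'] [Module A M'] [AddCommGroup M] [Module A M]
    [AddCommGroup M''] [Module A M''] [Module.Finite A M'] [Module.Finite A M] [Module.Finite A M'']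
    (f : M' →ₗ[A] M) (g : M →ₗ[A] M'') (hf : Function.Injective f) (hg : Function.Surjective g)
    (hfg : LinearMap.range f = LinearMap.ker g)
    (d : ℕ) (e' e'' : ℝ)
    (h' : Filter.Tendsto (fun t : ℕ => (d.factorial : ℝ) * ((Module.length A (M' ⧸ (I ^ t • (⊤ : Submodule A M')))).toNat : ℝ) / (t : ℝ) ^ d) Filter.atTop (nhds e'))
    (h'' : Filter.Tendsto (fun t : ℕ => (d.factorial : ℝ) * ((Module.length A (M'' ⧸ (I ^ t • (⊤ : Submodule A M'')))).toNat : ℝ) / (t : ℝ) ^ d) Filter.atTop (nhds e'')) :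
    Filter.Tendsto (fun t : ℕ => (d.factorial : ℝ) * ((Module.length A (M ⧸ (I ^ t • (⊤ : Submodule A M)))).toNat : ℝ) / (t : ℝ) ^ d) Filter.atTop (nhds (e' + e'')) := by
  obtain ⟨c, hc⟩ := artinRees I f hf
  have hfinK : ∀ t, Module.length A (M' ⧸ Kt I f t) ≠ ⊤ := fun t =>
    length_ne_top I hI.2 M' _ t (smul_le_Kt I f t)
  have hfin' : ∀ t, Module.length A (M' ⧸ (I ^ t • (⊤ : Submodule A M'))) ≠ ⊤ := fun t =>
    length_ne_top I hI.2 M' _ t le_rfl
  have hfin'' : ∀ t, Module.length A (M'' ⧸ (I ^ t • (⊤ : Submodule A M''))) ≠ ⊤ := fun t =>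
    length_ne_top I hI.2 M'' _ t le_rfl
  have hmid : ∀ t, (Module.length A (M ⧸ (I ^ t • (⊤ : Submodule A M)))).toNat =
      (Module.length A (M' ⧸ Kt I f t)).toNat +
        (Module.length A (M'' ⧸ (I ^ t • (⊤ : Submodule A M'')))).toNat := fun t => by
    rw [length_mid I f g hg hfg t, ENat.toNat_add (hfinK t) (hfin'' t)]
  have hKup : ∀ t, (Module.length A (M' ⧸ Kt I f t)).toNat ≤
      (Module.length A (M' ⧸ (I ^ t • (⊤ : Submodule A M')))).toNat := fun t =>
    ENat.toNat_le_toNat (Module.length_le_of_surjective (Submodule.factor (smul_le_Kt I f t))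
      (Submodule.factor_surjective _)) (hfin' t)
  have hKlow : ∀ t, c ≤ t → (Module.length A (M' ⧸ (I ^ (t - c) • (⊤ : Submodule A M')))).toNat ≤
      (Module.length A (M' ⧸ Kt I f t)).toNat := fun t ht =>
    ENat.toNat_le_toNat (Module.length_le_of_surjective (Submodule.factor (hc t ht))
      (Submodule.factor_surjective _)) (hfinK t)
  refine squeeze d c
    (fun t => (Module.length A (M' ⧸ (I ^ t • (⊤ : Submodule A M')))).toNat)
    (fun t => (Module.length A (M'' ⧸ (I ^ t • (⊤ : Submodule A M'')))).toNat)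
    (fun t => (Module.length A (M ⧸ (I ^ t • (⊤ : Submodule A M)))).toNat) e' e'' ?_ ?_ h' h''
  · intro t
    show (Module.length A (M ⧸ (I ^ t • (⊤ : Submodule A M)))).toNat ≤ _ + _
    rw [hmid t]
    exact Nat.add_le_add_right (hKup t) _
  · intro t ht
    show _ + _ ≤ (Module.length A (M ⧸ (I ^ t • (⊤ : Submodule A M)))).toNat
    rw [hmid t]
    exact Nat.add_le_add_right (hKlow t ht) _

end Groth.Agent.Helper6.Samuel2
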