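import Mathlib
import Groth.Agent.Helper6.HilbSerreHS
import Groth.Agent.Helper6.HSPoly
import Groth.Agent.Helper6.Samuel2
import Groth.Agent.Helper6.Dim1Rel

/-! The Samuel function of a finite module with respect to an ideal `q` such that `A/q` is
zero-dimensional: basic inequalities. -/

set_option autoImplicit false
universe u

namespace Groth.Agent.Helper6.HSamuel

open Groth.Agent.Helper6 Groth.Agent.Helper6.HilbSerre

variable {A : Type u} [CommRing A] [IsNoetherianRing A] (q : Ideal A)

/-- every prime containing `q` is maximal. -/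
def QMax : Prop := ∀ p : PrimeSpectrum A, q ≤ p.asIdeal → p.asIdeal.IsMaximal

/-- the Samuel function. -/
noncomputable def chi (M : Type u) [AddCommGroup M] [Module A M] (n : ℕ) : ℤ :=
  ((Module.length A (M ⧸ (q ^ n • (⊤ : Submodule A M)))).toNat : ℤ)

variable {q}

section Fin

variable (hV : QMax q) (M : Type u) [AddCommGroup M] [Module A M] [Module.Finite A M]

include hV in
theorem length_ne_top (K : Submodule A M) (n : ℕ) (hK : q ^ n • (⊤ : Submodule A M) ≤ K) :
    Module.length A (M ⧸ K) ≠ ⊤ := by
  apply Groth.Agent.Helper6.Dim1.length_ne_top_of_support_maximal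
  intro p hp
  apply hV p
  rw [Module.mem_support_iff_of_finite] at hp
  have h1 : q ^ n ≤ Module.annihilator A (M ⧸ K) := by
    intro a ha
    rw [Module.mem_annihilator]
    intro y
    obtain ⟨m, rfl⟩ := Submodule.Quotient.mk_surjective _ y
    rw [← Submodule.Quotient.mk_smul, Submodule.Quotient.mk_eq_zero]
    exact hK (Submodule.smul_mem_smul ha Submodule.mem_top)
  exact p.2.le_of_pow_le (h1.trans hp)

include hV in
theorem length_chi_ne_top (n : ℕ) :
    Module.length A (M ⧸ (q ^ n • (⊤ : Submodule A M))) ≠ ⊤ :=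
  length_ne_top hV M _ n le_rfl

include hV in
theorem coe_chi (n : ℕ) :
    ((chi q M n).toNat : ℕ∞) = Module.length A (M ⧸ (q ^ n • (⊤ : Submodule A M))) := by
  unfold chi
  rw [Int.toNat_natCast, ENat.natCast_toNat (length_chi_ne_top hV M n)]

theorem chi_nonneg (n : ℕ) : 0 ≤ chi q M n := by
  unfold chi
  exact Int.natCast_nonneg _

/-- transfer an inequality of lengths to the Samuel functions. -/
theorem toNat_le {a b : ℕ∞} (hb : b ≠ ⊤) (h : a ≤ b) : ((a.toNat : ℕ) : ℤ) ≤ ((b.toNat : ℕ) : ℤ) := by
  exact_mod_cast ENat.toNat_le_toNat h hb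

include hV in
/-- existence of the Hilbert–Samuel polynomial. -/
theorem exists_hsp : ∃ P : Polynomial ℚ, HasHP (chi q M) P := by
  obtain ⟨s, x, hx⟩ : ∃ (s : ℕ) (x : Fin s → A), Ideal.span (Set.range x) = q := by
    obtain ⟨S, hS⟩ := (IsNoetherian.noetherian q : q.FG)
    refine ⟨S.card, fun i => (S.equivFin.symm i : A), ?_⟩
    have hrange : Set.range (fun i => (S.equivFin.symm i : A)) = (S : Set A) := by
      ext y
      constructor
      · rintro ⟨i, rfl⟩
        exact (S.equivFin.symm i).2
      · intro hy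
        exact ⟨S.equivFin ⟨y, hy⟩, by simp⟩
    rw [hrange]
    exact hS
  subst hx
  obtain ⟨P, -, hP⟩ := exists_HasHP_of_EvP (samuel_EvP x (M := M) (length_chi_ne_top hV M))
  exact ⟨P, hP⟩

end Fin

section Ineq

variable (hV : QMax q)
  {M' M M'' : Type u} [AddCommGroup M'] [Module A M'] [AddCommGroup M] [Module A M]
  [AddCommGroup M''] [Module A M''] [Module.Finite A M'] [Module.Finite A M] [Module.Finite A M'']

include hV in
/-- monotonicity in `n`. -/
theorem chi_mono (n : ℕ) : chi q M n ≤ chi q M (n + 1) := by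
  unfold chi
  apply toNat_le (length_chi_ne_top hV M (n + 1))
  exact Module.length_le_of_surjective _ (Submodule.factor_surjective
    (Submodule.smul_mono_left (Ideal.pow_le_pow_right (Nat.le_succ n))))

include hV in
/-- quotients. -/
theorem chi_le_of_surjective (g : M →ₗ[A] M'') (hg : Function.Surjective g) (n : ℕ) :
    chi q M'' n ≤ chi q M n := by
  unfold chi
  apply toNat_le (length_chi_ne_top hV M n)
  exact Module.length_le_of_surjective _ (Samuel1.gbar_surj q g hg n)

include hV in
/-- submodules (Artin–Rees). -/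
theorem chi_le_of_injective (f : M' →ₗ[A] M) (hf : Function.Injective f) :
    ∃ c : ℕ, ∀ n, c ≤ n → chi q M' (n - c) ≤ chi q M n := by
  obtain ⟨c, hc⟩ := Samuel2.artinRees q f hf
  refine ⟨c, fun n hn => ?_⟩
  unfold chi
  apply toNat_le (length_chi_ne_top hV M n)
  have h1 : Module.length A (M' ⧸ (q ^ (n - c) • (⊤ : Submodule A M'))) ≤
      Module.length A (M' ⧸ Samuel1.Kt q f n) :=
    Module.length_le_of_surjective _ (Submodule.factor_surjective (hc n hn))
  exact h1.trans (Module.length_le_of_injective _ (Samuel1.fbar_inj q f n))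

include hV in
/-- short exact sequences. -/
theorem chi_le_add (f : M' →ₗ[A] M) (g : M →ₗ[A] M'') (hg : Function.Surjective g)
    (hfg : LinearMap.range f = LinearMap.ker g) (n : ℕ) :
    chi q M n ≤ chi q M' n + chi q M'' n := by
  have h1 := Samuel1.length_mid q f g hg hfg n
  have h2 : Module.length A (M' ⧸ Samuel1.Kt q f n) ≤
      Module.length A (M' ⧸ (q ^ n • (⊤ : Submodule A M'))) :=
    Module.length_le_of_surjective _ (Submodule.factor_surjective (Samuel1.smul_le_Kt q f n))
  have h3 : Module.length A (M ⧸ (q ^ n • (⊤ : Submodule A M))) ≤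
      Module.length A (M' ⧸ (q ^ n • (⊤ : Submodule A M'))) +
        Module.length A (M'' ⧸ (q ^ n • (⊤ : Submodule A M''))) := by
    rw [h1]
    exact add_le_add h2 le_rfl
  obtain ⟨a, ha⟩ := ENat.ne_top_iff_exists.mp (length_chi_ne_top hV M n)
  obtain ⟨a', ha'⟩ := ENat.ne_top_iff_exists.mp (length_chi_ne_top hV M' n)
  obtain ⟨a'', ha''⟩ := ENat.ne_top_iff_exists.mp (length_chi_ne_top hV M'' n)
  unfold chi
  rw [← ha, ← ha', ← ha''] at h3 ⊢
  simp only [ENat.toNat_natCast]
  have : a ≤ a' + a'' := by exact_mod_cast h3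
  exact_mod_cast this

end Ineq

end Groth.Agent.Helper6.HSamuel
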