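import Mathlib
import Groth.Agent.Helper6.HSamuel1

/-! The Samuel function and quotients by one element. -/

set_option autoImplicit false
universe u

namespace Groth.Agent.Helper6.HSamuel

open Groth.Agent.Helper6 Groth.Agent.Helper6.HilbSerre
open scoped Pointwise

variable {A : Type u} [CommRing A] [IsNoetherianRing A] {q : Ideal A}
variable (hV : QMax q) (M : Type u) [AddCommGroup M] [Module A M] [Module.Finite A M]

lemma range_lsmul (x : A) :
    LinearMap.range (LinearMap.lsmul A M x) = LinearMap.ker (x • (⊤ : Submodule A M)).mkQ := by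
  rw [Submodule.ker_mkQ]
  ext m
  rw [Submodule.mem_smul_pointwise_iff_exists]
  constructor
  · rintro ⟨w, rfl⟩
    exact ⟨w, trivial, rfl⟩
  · rintro ⟨w, -, rfl⟩
    exact ⟨w, rfl⟩

include hV in
/-- the length identity for multiplication by `x`. -/
theorem length_mid_smul (x : A) (n : ℕ) :
    Module.length A (M ⧸ (q ^ n • (⊤ : Submodule A M))) =
      Module.length A (M ⧸ Samuel1.Kt q (LinearMap.lsmul A M x) n) +
        Module.length A (QuotSMulTop x M ⧸ (q ^ n • (⊤ : Submodule A (QuotSMulTop x M)))) :=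
  Samuel1.length_mid q (LinearMap.lsmul A M x) (x • (⊤ : Submodule A M)).mkQ
    (Submodule.mkQ_surjective _) (range_lsmul M x) n

include hV in
/-- for `x ∈ q`: `χ_M(n+1) - χ_M(n) ≤ χ_{M/xM}(n+1)`. -/
theorem chi_sub_le (x : A) (hx : x ∈ q) (n : ℕ) :
    chi q M (n + 1) - chi q M n ≤ chi q (QuotSMulTop x M) (n + 1) := by
  have h1 := length_mid_smul hV M x (n + 1)
  have h2 : Module.length A (M ⧸ Samuel1.Kt q (LinearMap.lsmul A M x) (n + 1)) ≤
      Module.length A (M ⧸ (q ^ n • (⊤ : Submodule A M))) := by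
    refine Module.length_le_of_surjective _ (Submodule.factor_surjective ?_)
    intro m hm
    change x • m ∈ q ^ (n + 1) • (⊤ : Submodule A M)
    rw [pow_succ', mul_smul]
    exact Submodule.smul_mem_smul hx hm
  obtain ⟨a, ha⟩ := ENat.ne_top_iff_exists.mp (length_chi_ne_top hV M (n + 1))
  obtain ⟨b, hb⟩ := ENat.ne_top_iff_exists.mp (length_chi_ne_top hV M n)
  obtain ⟨c, hc⟩ := ENat.ne_top_iff_exists.mp (length_chi_ne_top hV (QuotSMulTop x M) (n + 1))
  obtain ⟨k, hk⟩ := ENat.ne_top_iff_exists.mp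
    (length_ne_top hV M (Samuel1.Kt q (LinearMap.lsmul A M x) (n + 1)) (n + 1)
      (Samuel1.smul_le_Kt q _ _))
  unfold chi
  rw [← ha, ← hc, ← hk] at h1
  rw [← hb, ← hk] at h2
  rw [← ha, ← hb, ← hc]
  simp only [ENat.toNat_natCast]
  have e1 : a = k + c := by exact_mod_cast h1
  have e2 : k ≤ b := by exact_mod_cast h2
  omega

include hV in
/-- for `x` regular on `M`: `χ_{M/xM}(n) ≤ χ_M(n) - χ_M(n-c)` for `n ≥ c`. -/
theorem chi_quot_le (x : A) (hreg : IsSMulRegular M x) :
    ∃ c : ℕ, ∀ n, c ≤ n → chi q (QuotSMulTop x M) n ≤ chi q M n - chi q M (n - c) := by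
  obtain ⟨c, hc⟩ := Samuel2.artinRees q (LinearMap.lsmul A M x) hreg
  refine ⟨c, fun n hn => ?_⟩
  have h1 := length_mid_smul hV M x n
  have h2 : Module.length A (M ⧸ (q ^ (n - c) • (⊤ : Submodule A M))) ≤
      Module.length A (M ⧸ Samuel1.Kt q (LinearMap.lsmul A M x) n) :=
    Module.length_le_of_surjective _ (Submodule.factor_surjective (hc n hn))
  obtain ⟨a, ha⟩ := ENat.ne_top_iff_exists.mp (length_chi_ne_top hV M n)
  obtain ⟨b, hb⟩ := ENat.ne_top_iff_exists.mp (length_chi_ne_top hV M (n - c))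
  obtain ⟨e, he⟩ := ENat.ne_top_iff_exists.mp (length_chi_ne_top hV (QuotSMulTop x M) n)
  obtain ⟨k, hk⟩ := ENat.ne_top_iff_exists.mp
    (length_ne_top hV M (Samuel1.Kt q (LinearMap.lsmul A M x) n) n (Samuel1.smul_le_Kt q _ _))
  unfold chi
  rw [← ha, ← he, ← hk] at h1
  rw [← hb, ← hk] at h2
  rw [← ha, ← hb, ← he]
  simp only [ENat.toNat_natCast]
  have e1 : a = k + e := by exact_mod_cast h1
  have e2 : b ≤ k := by exact_mod_cast h2
  omega

/-- the Samuel function of a trivial module. -/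
theorem chi_of_subsingleton [Subsingleton M] (n : ℕ) : chi q M n = 0 := by
  unfold chi
  have : Module.length A (M ⧸ (q ^ n • (⊤ : Submodule A M))) = 0 := Module.length_eq_zero
  rw [this]
  rfl

include hV in
/-- if the Hilbert–Samuel polynomial vanishes and `q` is in the radical, then `M = 0`. -/
theorem subsingleton_of_hasHP_zero (hq : q ≤ (⊥ : Ideal A).jacobson)
    (h : HasHP (chi q M) 0) : Subsingleton M := by
  obtain ⟨N, hN⟩ := h
  have h1 := hN (N + 1) (by omega)
  simp only [Polynomial.eval_zero] at h1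
  have h2 : chi q M (N + 1) = 0 := by exact_mod_cast h1
  have h3 : Module.length A (M ⧸ (q ^ (N + 1) • (⊤ : Submodule A M))) = 0 := by
    rw [← coe_chi hV M (N + 1), h2]
    rfl
  rw [Module.length_eq_zero_iff, Submodule.Quotient.subsingleton_iff] at h3
  have h4 : (⊤ : Submodule A M) ≤ q • (⊤ : Submodule A M) := by
    calc (⊤ : Submodule A M) = q ^ (N + 1) • (⊤ : Submodule A M) := h3.symm
      _ = q • (q ^ N • (⊤ : Submodule A M)) := by rw [pow_succ', mul_smul]
      _ ≤ q • (⊤ : Submodule A M) := Submodule.smul_mono le_rfl le_top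
  have h5 := Submodule.eq_bot_of_le_smul_of_le_jacobson_bot q (⊤ : Submodule A M)
    Module.Finite.fg_top h4 hq
  exact (Submodule.subsingleton_iff A).mp (subsingleton_of_bot_eq_top h5.symm)

end Groth.Agent.Helper6.HSamuel
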