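import Mathlib
import Groth.Agent.Helper6.HSamuel2

/-! Degrees of Hilbert–Samuel polynomials. -/

set_option autoImplicit false
universe u

namespace Groth.Agent.Helper6.HSamuel

open Groth.Agent.Helper6 Groth.Agent.Helper6.HilbSerre Polynomial
open scoped Pointwise

section Poly

/-- the shifted polynomial `P(X + r)`. -/
lemma degree_taylor_eq (P : ℚ[X]) (r : ℚ) : (taylor r P).degree = P.degree := by
  by_cases hP : P = 0
  · rw [hP, map_zero]
  · have h1 : taylor r P ≠ 0 := fun h => hP ((taylor_injective r) (by rw [h, map_zero]))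
    rw [degree_eq_natDegree hP, degree_eq_natDegree h1, natDegree_taylor]

lemma eval_taylor' (P : ℚ[X]) (r y : ℚ) : (taylor r P).eval y = P.eval (y + r) := by
  rw [taylor_apply, eval_comp]
  simp

/-- the difference `P(X) - P(X - c)` has smaller degree. -/
lemma degree_sub_taylor_lt (P : ℚ[X]) (hP : P ≠ 0) (r : ℚ) :
    (P - taylor r P).degree < P.degree := by
  apply degree_sub_lt_left (degree_taylor_eq P r).symm hP
  rw [leadingCoeff_taylor]

/-- the difference `P(X) - P(X - 1)` has degree exactly one less. -/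
lemma natDegree_le_natDegree_sub_taylor (P : ℚ[X]) (hP : 1 ≤ P.natDegree) :
    P.natDegree ≤ (P - taylor (-1) P).natDegree + 1 := by
  set m := P.natDegree with hm
  have h1 : (P - taylor (-1) P).coeff (m - 1) = (m : ℚ) * P.coeff m := by
    rw [coeff_sub, taylor_coeff]
    have hdeg : (hasseDeriv (m - 1) P).natDegree < 2 := by
      have := natDegree_hasseDeriv_le P (m - 1)
      omega
    rw [eval_eq_sum_range' hdeg, Finset.sum_range_succ, Finset.sum_range_one,
      hasseDeriv_coeff, hasseDeriv_coeff]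
    have e1 : 0 + (m - 1) = m - 1 := by omega
    have e2 : 1 + (m - 1) = m := by omega
    rw [e1, e2, Nat.choose_self]
    have e3 : m.choose (m - 1) = m := by
      rw [← Nat.choose_symm (by omega : m - 1 ≤ m)]
      have : m - (m - 1) = 1 := by omega
      rw [this, Nat.choose_one_right]
    rw [e3]
    push_cast
    ring
  have h2 : (P - taylor (-1) P).coeff (m - 1) ≠ 0 := by
    rw [h1]
    have hm0 : (m : ℚ) ≠ 0 := by
      have : m ≠ 0 := by omega
      exact_mod_cast this
    have hc : P.coeff m ≠ 0 := by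
      have hP0 : P ≠ 0 := by
        intro h
        rw [h, natDegree_zero] at hm
        omega
      rw [hm]
      exact leadingCoeff_ne_zero.mpr hP0
    exact mul_ne_zero hm0 hc
  have h3 := le_natDegree_of_ne_zero h2
  omega

end Poly

variable {A : Type u} [CommRing A] [IsNoetherianRing A] {q : Ideal A}
variable (hV : QMax q)
  {M' M M'' : Type u} [AddCommGroup M'] [Module A M'] [AddCommGroup M] [Module A M]
  [AddCommGroup M''] [Module A M''] [Module.Finite A M'] [Module.Finite A M] [Module.Finite A M'']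

lemma HasHP.eval_nonneg {N₀ : Type u} [AddCommGroup N₀] [Module A N₀] [Module.Finite A N₀]
    {P : ℚ[X]} {K : ℕ} (hK : ∀ i, K ≤ i → ((chi q N₀ i : ℤ) : ℚ) = P.eval (i : ℚ))
    (i : ℕ) (hi : K ≤ i) : 0 ≤ P.eval (i : ℚ) := by
  rw [← hK i hi]
  exact_mod_cast chi_nonneg N₀ i

include hV in
/-- D1: quotients have smaller degree. -/
theorem degree_le_of_surjective (g : M →ₗ[A] M'') (hg : Function.Surjective g)
    {P P'' : ℚ[X]} (hP : HasHP (chi q M) P) (hP'' : HasHP (chi q M'') P'') :
    P''.degree ≤ P.degree := by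
  obtain ⟨N₁, h₁⟩ := hP
  obtain ⟨N₂, h₂⟩ := hP''
  refine degree_le_of_eventually_le (max N₁ N₂) fun i hi => ⟨?_, ?_⟩
  · exact HasHP.eval_nonneg h₂ i (by omega)
  · rw [← h₁ i (by omega), ← h₂ i (by omega)]
    exact_mod_cast chi_le_of_surjective hV g hg i

include hV in
/-- D2: submodules have smaller degree. -/
theorem degree_le_of_injective (f : M' →ₗ[A] M) (hf : Function.Injective f)
    {P P' : ℚ[X]} (hP : HasHP (chi q M) P) (hP' : HasHP (chi q M') P') :
    P'.degree ≤ P.degree := by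
  obtain ⟨N₁, h₁⟩ := hP
  obtain ⟨N₂, h₂⟩ := hP'
  obtain ⟨c, hc⟩ := chi_le_of_injective hV f hf
  rw [← degree_taylor_eq P (c : ℚ)]
  refine degree_le_of_eventually_le (max N₁ N₂) fun i hi => ⟨?_, ?_⟩
  · exact HasHP.eval_nonneg h₂ i (by omega)
  · rw [eval_taylor']
    have h3 := h₁ (i + c) (by omega)
    push_cast at h3
    rw [← h3, ← h₂ i (by omega)]
    have h4 := hc (i + c) (by omega)
    rw [Nat.add_sub_cancel] at h4
    exact_mod_cast h4

include hV in
/-- D3: short exact sequences. -/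
theorem degree_le_max (f : M' →ₗ[A] M) (g : M →ₗ[A] M'') (hg : Function.Surjective g)
    (hfg : LinearMap.range f = LinearMap.ker g)
    {P P' P'' : ℚ[X]} (hP : HasHP (chi q M) P) (hP' : HasHP (chi q M') P')
    (hP'' : HasHP (chi q M'') P'') :
    P.degree ≤ max P'.degree P''.degree := by
  obtain ⟨N₁, h₁⟩ := hP
  obtain ⟨N₂, h₂⟩ := hP'
  obtain ⟨N₃, h₃⟩ := hP''
  refine le_trans ?_ (degree_add_le P' P'')
  refine degree_le_of_eventually_le (max N₁ (max N₂ N₃)) fun i hi => ⟨?_, ?_⟩
  · exact HasHP.eval_nonneg h₁ i (by omega)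
  · rw [eval_add, ← h₁ i (by omega), ← h₂ i (by omega), ← h₃ i (by omega)]
    exact_mod_cast chi_le_add hV f g hg hfg i

include hV in
/-- D4: for `x ∈ q`, `deg P_M ≤ deg P_{M/xM} + 1`. -/
theorem natDegree_le_succ (x : A) (hx : x ∈ q)
    {P Pb : ℚ[X]} (hP : HasHP (chi q M) P) (hPb : HasHP (chi q (QuotSMulTop x M)) Pb) :
    P.natDegree ≤ Pb.natDegree + 1 := by
  by_cases hdeg : 1 ≤ P.natDegree
  · obtain ⟨N₁, h₁⟩ := hP
    obtain ⟨N₂, h₂⟩ := hPb
    have hQ : (P - taylor (-1) P).degree ≤ Pb.degree := by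
      refine degree_le_of_eventually_le (max N₁ N₂ + 1) fun i hi => ?_
      obtain ⟨j, rfl⟩ : ∃ j, i = j + 1 := ⟨i - 1, by omega⟩
      have e1 : ((j + 1 : ℕ) : ℚ) + -1 = (j : ℚ) := by push_cast; ring
      rw [eval_sub, eval_taylor', e1, ← h₁ (j + 1) (by omega), ← h₁ j (by omega),
        ← h₂ (j + 1) (by omega)]
      constructor
      · have := chi_mono hV (M := M) j
        have h3 : ((chi q M j : ℤ) : ℚ) ≤ ((chi q M (j + 1) : ℤ) : ℚ) := by exact_mod_cast this
        linarith
      · have := chi_sub_le hV M x hx j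
        exact_mod_cast this
    have h4 := natDegree_le_natDegree_sub_taylor P hdeg
    have h5 := natDegree_le_natDegree hQ
    omega
  · omega

include hV in
/-- D5: for `x` regular on `M ≠ 0`, `deg P_{M/xM} < deg P_M`. -/
theorem degree_lt_of_regular (x : A) (hreg : IsSMulRegular M x)
    {P Pb : ℚ[X]} (hP : HasHP (chi q M) P) (hPb : HasHP (chi q (QuotSMulTop x M)) Pb)
    (hP0 : P ≠ 0) : Pb.degree < P.degree := by
  obtain ⟨N₁, h₁⟩ := hP
  obtain ⟨N₂, h₂⟩ := hPb
  obtain ⟨c, hc⟩ := chi_quot_le hV M x hreg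
  refine lt_of_le_of_lt ?_ (degree_sub_taylor_lt P hP0 (-(c : ℚ)))
  refine degree_le_of_eventually_le (max N₁ N₂ + c) fun i hi => ⟨?_, ?_⟩
  · exact HasHP.eval_nonneg h₂ i (by omega)
  · have e1 : ((i : ℕ) : ℚ) + -(c : ℚ) = ((i - c : ℕ) : ℚ) := by
      rw [Nat.cast_sub (by omega : c ≤ i)]
      ring
    rw [eval_sub, eval_taylor', e1, ← h₁ i (by omega), ← h₁ (i - c) (by omega),
      ← h₂ i (by omega)]
    have := hc i (by omega)
    exact_mod_cast this

end Groth.Agent.Helper6.HSamuel
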