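import Mathlib
import Groth.Agent.Helper6.HSamuel3

/-! The degree of the Hilbert–Samuel polynomial equals the dimension of the support. -/

set_option autoImplicit false
universe u

namespace Groth.Agent.Helper6.HSamuel

open Groth.Agent.Helper6 Groth.Agent.Helper6.HilbSerre Polynomial
open scoped Pointwise

section Aux

lemma withBot_succ_lt {a : WithBot ℕ∞} {e : ℕ} (h : a < (e : WithBot ℕ∞)) :
    a + 1 < ((e + 1 : ℕ) : WithBot ℕ∞) := by
  induction a using WithBot.recBotCoe with
  | bot => exact WithBot.bot_lt_coe _
  | coe a =>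
    have h1 : a < (e : ℕ∞) := by exact_mod_cast h
    obtain ⟨n, rfl⟩ := ENat.ne_top_iff_exists.mp (ne_top_of_lt h1)
    have h2 : n < e := by exact_mod_cast h1
    have h3 : n + 1 < e + 1 := by omega
    exact_mod_cast h3

lemma degree_lt_of_lt_of_lt_succ {a b : WithBot ℕ} {e : ℕ} (h1 : a < b)
    (h2 : b < ((e + 1 : ℕ) : WithBot ℕ)) : a < (e : WithBot ℕ) := by
  induction b using WithBot.recBotCoe with
  | bot => exact absurd h1 (not_lt_bot)
  | coe b =>
    have h3 : b < e + 1 := WithBot.coe_lt_coe.mp h2
    have h4 : a < (b : WithBot ℕ) := h1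
    refine lt_of_lt_of_le h4 ?_
    have : b ≤ e := by omega
    exact_mod_cast this

variable {A : Type u} [CommRing A]

/-- dimension of the support in a short exact sequence. -/
lemma supportDim_le_max {N₁ N₂ N₃ : Type u} [AddCommGroup N₁] [Module A N₁]
    [AddCommGroup N₂] [Module A N₂] [AddCommGroup N₃] [Module A N₃]
    (f : N₁ →ₗ[A] N₂) (g : N₂ →ₗ[A] N₃) (hf : Function.Injective f) (hg : Function.Surjective g)
    (hex : Function.Exact f g) :
    Module.supportDim A N₂ ≤ max (Module.supportDim A N₁) (Module.supportDim A N₃) := by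
  have hsupp := Module.support_of_exact hex hf hg
  unfold Module.supportDim Order.krullDim
  apply iSup_le
  intro l
  have hhead : (l.head : PrimeSpectrum A) ∈ Module.support A N₁ ∪ Module.support A N₃ := by
    rw [← hsupp]
    exact l.head.2
  have hle : ∀ i, (l.head : PrimeSpectrum A) ≤ (l i : PrimeSpectrum A) := fun i => l.head_le i
  rcases hhead with h | h
  · let l' : LTSeries (Module.support A N₁) :=
      { length := l.length
        toFun := fun i => ⟨(l i : PrimeSpectrum A), Module.mem_support_mono (hle i) h⟩
        step := fun i => l.step i }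
    exact le_max_of_le_left (le_iSup (fun p : LTSeries (Module.support A N₁) =>
      ((p.length : ℕ∞) : WithBot ℕ∞)) l')
  · let l' : LTSeries (Module.support A N₃) :=
      { length := l.length
        toFun := fun i => ⟨(l i : PrimeSpectrum A), Module.mem_support_mono (hle i) h⟩
        step := fun i => l.step i }
    exact le_max_of_le_right (le_iSup (fun p : LTSeries (Module.support A N₃) =>
      ((p.length : ℕ∞) : WithBot ℕ∞)) l')

/-- a module isomorphic to `A/p` is torsion free for elements outside `p`. -/
lemma isSMulRegular_of_equiv_quot {N : Type u} [AddCommGroup N] [Module A N] (p : PrimeSpectrum A)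
    (e : N ≃ₗ[A] A ⧸ p.asIdeal) (x : A) (hx : x ∉ p.asIdeal) : IsSMulRegular N x := by
  intro a b hab
  have hab' : x • a = x • b := hab
  apply e.injective
  have h1 : x • e a = x • e b := by rw [← map_smul, ← map_smul, hab']
  have h2 : x • (e a - e b) = 0 := by rw [smul_sub, h1, sub_self]
  obtain ⟨y, hy⟩ := Ideal.Quotient.mk_surjective (e a - e b)
  rw [← hy] at h2
  have h3 : Ideal.Quotient.mk p.asIdeal (x * y) = 0 := h2
  rw [Ideal.Quotient.eq_zero_iff_mem] at h3
  have h4 : y ∈ p.asIdeal := (p.2.mem_or_mem h3).resolve_left hx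
  have h5 : e a - e b = 0 := by rw [← hy]; exact Ideal.Quotient.eq_zero_iff_mem.mpr h4
  exact sub_eq_zero.mp h5

end Aux

variable {A : Type u} [CommRing A] [IsNoetherianRing A] {q : Ideal A}
variable (hV : QMax q) (hq : q ≤ (⊥ : Ideal A).jacobson)

include hV in
lemma exists_notMem_of_not_isMaximal (p : PrimeSpectrum A) (hp : ¬ p.asIdeal.IsMaximal) :
    ∃ x ∈ q, x ∉ p.asIdeal := by
  by_contra h
  push Not at h
  exact hp (hV p h)

include hq in
lemma mem_jacobson_annihilator (N : Type u) [AddCommGroup N] [Module A N] {x : A} (hx : x ∈ q) :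
    x ∈ (Module.annihilator A N).jacobson :=
  Ideal.jacobson_mono bot_le (hq hx)

include hV hq in
/-- `dim Supp M ≤ deg P_M`, in strict form. -/
theorem supportDim_lt (e : ℕ) : ∀ (M : Type u) [AddCommGroup M] [Module A M] [Module.Finite A M]
    (P : ℚ[X]), HasHP (chi q M) P → P.degree < (e : WithBot ℕ) →
    Module.supportDim A M < (e : WithBot ℕ∞) := by
  induction e with
  | zero =>
    intro M _ _ _ P hP hdeg
    have hP0 : P = 0 := by
      by_contra h
      rw [degree_eq_natDegree h] at hdeg
      have : P.natDegree < 0 := by exact_mod_cast hdeg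
      omega
    rw [hP0] at hP
    haveI := subsingleton_of_hasHP_zero hV M hq hP
    rw [Module.supportDim_eq_bot_of_subsingleton]
    exact WithBot.bot_lt_coe _
  | succ e ih =>
    intro M _ _ hM
    induction hM using IsNoetherianRing.induction_on_isQuotientEquivQuotientPrime A with
    | subsingleton N =>
      intro P _ _
      rw [Module.supportDim_eq_bot_of_subsingleton]
      exact WithBot.bot_lt_coe _
    | quotient N p eq =>
      intro P hP hdeg
      by_cases hmax : p.asIdeal.IsMaximal
      · rw [Module.supportDim_eq_of_equiv eq, Module.supportDim_quotient_eq_ringKrullDim,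
          ringKrullDim_eq_zero_of_isField
            ((Ideal.Quotient.maximal_ideal_iff_isField_quotient _).mp hmax)]
        have : (0 : ℕ) < e + 1 := by omega
        exact_mod_cast this
      · obtain ⟨x, hxq, hxp⟩ := exists_notMem_of_not_isMaximal hV p hmax
        have hreg := isSMulRegular_of_equiv_quot p eq x hxp
        obtain ⟨Pb, hPb⟩ := exists_hsp hV (QuotSMulTop x N)
        rw [← Module.supportDim_quotSMulTop_succ_eq_supportDim_mem_jacobson hreg
          (mem_jacobson_annihilator hq N hxq)]
        by_cases hP0 : P = 0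
        · rw [hP0] at hP
          haveI := subsingleton_of_hasHP_zero hV N hq hP
          haveI : Subsingleton (QuotSMulTop x N) := by
            unfold QuotSMulTop
            infer_instance
          rw [Module.supportDim_eq_bot_of_subsingleton]
          exact WithBot.bot_lt_coe _
        · have h1 := degree_lt_of_regular hV x hreg hP hPb hP0
          have h2 := degree_lt_of_lt_of_lt_succ h1 hdeg
          exact withBot_succ_lt (ih (QuotSMulTop x N) Pb hPb h2)
    | exact N₁ N₂ N₃ f g hf hg hex h₁ h₃ =>
      intro P hP hdeg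
      obtain ⟨P₁, hP₁⟩ := exists_hsp hV N₁
      obtain ⟨P₃, hP₃⟩ := exists_hsp hV N₃
      have d1 := degree_le_of_injective hV f hf hP hP₁
      have d3 := degree_le_of_surjective hV g hg hP hP₃
      exact lt_of_le_of_lt (supportDim_le_max f g hf hg hex)
        (max_lt (h₁ P₁ hP₁ (lt_of_le_of_lt d1 hdeg)) (h₃ P₃ hP₃ (lt_of_le_of_lt d3 hdeg)))

end Groth.Agent.Helper6.HSamuel
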