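import Mathlib
import Groth.Agent.Helper6.HSamuel4

/-! `deg P_M ≤ dim Supp M` and the main theorem on Hilbert–Samuel polynomials. -/

set_option autoImplicit false
universe u

namespace Groth.Agent.Helper6.HSamuel

open Groth.Agent.Helper6 Groth.Agent.Helper6.HilbSerre Polynomial
open scoped Pointwise

variable {A : Type u} [CommRing A] [IsNoetherianRing A] {q : Ideal A}
variable (hV : QMax q) (hq : q ≤ (⊥ : Ideal A).jacobson)

/-- the Samuel function of a trivial module has polynomial `0`. -/
lemma hasHP_zero_of_subsingleton (M : Type u) [AddCommGroup M] [Module A M] [Subsingleton M] :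
    HasHP (chi q M) 0 :=
  ⟨0, fun i _ => by rw [chi_of_subsingleton]; simp⟩

include hV in
/-- the Samuel function is bounded by the length. -/
lemma chi_le_length (M : Type u) [AddCommGroup M] [Module A M] [Module.Finite A M]
    (hM : Module.length A M ≠ ⊤) (n : ℕ) :
    chi q M n ≤ ((Module.length A M).toNat : ℤ) := by
  unfold chi
  apply toNat_le hM
  exact Module.length_le_of_surjective _ (Submodule.mkQ_surjective _)

include hV hq in
/-- `deg P_M ≤ dim Supp M`. -/
theorem degree_le (δ : ℕ) : ∀ (M : Type u) [AddCommGroup M] [Module A M] [Module.Finite A M],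
    Module.supportDim A M ≤ (δ : WithBot ℕ∞) → ∀ (P : ℚ[X]), HasHP (chi q M) P →
    P.degree ≤ (δ : WithBot ℕ) := by
  induction δ with
  | zero =>
    intro M _ _ hM
    induction hM using IsNoetherianRing.induction_on_isQuotientEquivQuotientPrime A with
    | subsingleton N =>
      intro _ P hP
      rw [hP.unique (hasHP_zero_of_subsingleton N), degree_zero]
      exact bot_le
    | quotient N p eq =>
      intro hdim P hP
      have hmax : p.asIdeal.IsMaximal := by
        by_contra hmax
        obtain ⟨x, hxq, hxp⟩ := exists_notMem_of_not_isMaximal hV p hmax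
        have hreg := isSMulRegular_of_equiv_quot p eq x hxp
        have h1 := Module.supportDim_quotSMulTop_succ_eq_supportDim_mem_jacobson hreg
          (mem_jacobson_annihilator hq N hxq)
        rw [← h1] at hdim
        have hbot : Module.supportDim A (QuotSMulTop x N) = ⊥ := by
          by_contra hne
          obtain ⟨a, ha⟩ := WithBot.ne_bot_iff_exists.mp hne
          rw [← ha] at hdim
          have h2 : a + 1 ≤ ((0 : ℕ) : ℕ∞) := by exact_mod_cast hdim
          simp at h2
        rw [hbot, WithBot.bot_add] at h1
        haveI : Subsingleton N := (Module.supportDim_eq_bot_iff_subsingleton A N).mp h1.symm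
        haveI : Nontrivial (A ⧸ p.asIdeal) := Ideal.Quotient.nontrivial_iff.mpr p.2.ne_top
        exact not_subsingleton (A ⧸ p.asIdeal) eq.symm.toEquiv.subsingleton
      haveI : IsSimpleModule A (A ⧸ p.asIdeal) :=
        isSimpleModule_iff_isCoatom.mpr (Ideal.isMaximal_def.mp hmax)
      have hlen : Module.length A N = 1 := by
        rw [eq.length_eq]
        exact Module.length_eq_one A _
      obtain ⟨K, hK⟩ := hP
      have h3 : P.degree ≤ (C (1 : ℚ)).degree := by
        refine degree_le_of_eventually_le K fun i hi => ⟨HasHP.eval_nonneg hK i hi, ?_⟩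
        rw [← hK i hi, eval_C]
        have := chi_le_length hV N (by rw [hlen]; exact ENat.one_ne_top) (q := q) i
        rw [hlen] at this
        exact_mod_cast this
      refine h3.trans ?_
      rw [degree_C one_ne_zero]
      rfl
    | exact N₁ N₂ N₃ f g hf hg hex h₁ h₃ =>
      intro hdim P hP
      obtain ⟨P₁, hP₁⟩ := exists_hsp hV N₁
      obtain ⟨P₃, hP₃⟩ := exists_hsp hV N₃
      have d1 := h₁ ((Module.supportDim_le_of_injective f hf).trans hdim) P₁ hP₁
      have d3 := h₃ ((Module.supportDim_le_of_surjective g hg).trans hdim) P₃ hP₃
      exact (degree_le_max hV f g hg (LinearMap.exact_iff.mp hex).symm hP hP₁ hP₃).trans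
        (max_le d1 d3)
  | succ δ ih =>
    intro M _ _ hM
    induction hM using IsNoetherianRing.induction_on_isQuotientEquivQuotientPrime A with
    | subsingleton N =>
      intro _ P hP
      rw [hP.unique (hasHP_zero_of_subsingleton N), degree_zero]
      exact bot_le
    | quotient N p eq =>
      intro hdim P hP
      by_cases hmax : p.asIdeal.IsMaximal
      · haveI : IsSimpleModule A (A ⧸ p.asIdeal) :=
          isSimpleModule_iff_isCoatom.mpr (Ideal.isMaximal_def.mp hmax)
        have hlen : Module.length A N = 1 := by
          rw [eq.length_eq]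
          exact Module.length_eq_one A _
        obtain ⟨K, hK⟩ := hP
        have h3 : P.degree ≤ (C (1 : ℚ)).degree := by
          refine degree_le_of_eventually_le K fun i hi => ⟨HasHP.eval_nonneg hK i hi, ?_⟩
          rw [← hK i hi, eval_C]
          have := chi_le_length hV N (by rw [hlen]; exact ENat.one_ne_top) (q := q) i
          rw [hlen] at this
          exact_mod_cast this
        refine h3.trans ?_
        rw [degree_C one_ne_zero]
        exact_mod_cast Nat.zero_le _
      · obtain ⟨x, hxq, hxp⟩ := exists_notMem_of_not_isMaximal hV p hmax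
        have hreg := isSMulRegular_of_equiv_quot p eq x hxp
        have h1 := Module.supportDim_quotSMulTop_succ_eq_supportDim_mem_jacobson hreg
          (mem_jacobson_annihilator hq N hxq)
        rw [← h1] at hdim
        obtain ⟨Pb, hPb⟩ := exists_hsp hV (QuotSMulTop x N)
        have hdimb : Module.supportDim A (QuotSMulTop x N) ≤ (δ : WithBot ℕ∞) := by
          generalize Module.supportDim A (QuotSMulTop x N) = a at hdim
          induction a using WithBot.recBotCoe with
          | bot => exact bot_le
          | coe a =>
            have h2 : a + 1 ≤ ((δ + 1 : ℕ) : ℕ∞) := by exact_mod_cast hdim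
            have h3 : a ≤ (δ : ℕ∞) := by
              rw [Nat.cast_add, Nat.cast_one] at h2
              exact (ENat.add_le_add_iff_right ENat.one_ne_top).mp h2
            exact_mod_cast h3
        have h4 := ih (QuotSMulTop x N) hdimb Pb hPb
        have h5 := natDegree_le_succ hV x hxq hP hPb
        have h6 : Pb.natDegree ≤ δ := natDegree_le_of_degree_le h4
        exact degree_le_of_natDegree_le (by omega)
    | exact N₁ N₂ N₃ f g hf hg hex h₁ h₃ =>
      intro hdim P hP
      obtain ⟨P₁, hP₁⟩ := exists_hsp hV N₁
      obtain ⟨P₃, hP₃⟩ := exists_hsp hV N₃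
      have d1 := h₁ ((Module.supportDim_le_of_injective f hf).trans hdim) P₁ hP₁
      have d3 := h₃ ((Module.supportDim_le_of_surjective g hg).trans hdim) P₃ hP₃
      exact (degree_le_max hV f g hg (LinearMap.exact_iff.mp hex).symm hP hP₁ hP₃).trans
        (max_le d1 d3)

end Groth.Agent.Helper6.HSamuel
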