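import Mathlib
import Groth.Agent.Helper6.HSamuel5

/-! The Hilbert–Samuel polynomial of a finite module over a semilocal Noetherian ring. -/

set_option autoImplicit false
universe u

namespace Groth.Agent.Helper6.HSamuel

open Groth.Agent.Helper6 Groth.Agent.Helper6.HilbSerre Polynomial

variable (A : Type u) [CommRing A] [IsNoetherianRing A]

/-- in a semilocal ring, every prime containing the Jacobson radical is maximal. -/
theorem qMax_jacobson [Finite (MaximalSpectrum A)] : QMax (Ring.jacobson A) := by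
  classical
  intro p hp
  haveI : Fintype (MaximalSpectrum A) := Fintype.ofFinite _
  have h1 : (Finset.univ.inf fun m : MaximalSpectrum A => m.asIdeal) ≤ p.asIdeal := by
    refine le_trans ?_ hp
    rw [← Ideal.jacobson_bot, Ideal.jacobson]
    apply le_sInf
    rintro J ⟨-, hJ⟩
    exact Finset.inf_le (f := fun m : MaximalSpectrum A => m.asIdeal)
      (Finset.mem_univ (⟨J, hJ⟩ : MaximalSpectrum A))
  obtain ⟨m, -, hm⟩ := (Ideal.IsPrime.inf_le' p.2).mp h1
  rw [← m.isMaximal.eq_of_le p.2.ne_top hm]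
  exact m.isMaximal

theorem main_S3405 [Finite (MaximalSpectrum A)] (M : Type u) [AddCommGroup M] [Module A M]
    [Module.Finite A M] [Nontrivial M] :
    ∃ P : Polynomial ℚ,
      (∃ N : ℕ, ∀ n : ℕ, N ≤ n →
        ∃ ℓ : ℕ, Module.length A (M ⧸ (Ring.jacobson A ^ n • (⊤ : Submodule A M))) = ℓ ∧
          (ℓ : ℚ) = P.eval (n : ℚ)) ∧
      (P.natDegree : WithBot ℕ∞) = Module.supportDim A M := by
  have hV := qMax_jacobson A
  have hq : Ring.jacobson A ≤ (⊥ : Ideal A).jacobson := by rw [Ideal.jacobson_bot]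
  obtain ⟨P, hP⟩ := exists_hsp hV M
  refine ⟨P, ?_, ?_⟩
  · obtain ⟨N, hN⟩ := hP
    refine ⟨N, fun n hn => ⟨(Module.length A
      (M ⧸ (Ring.jacobson A ^ n • (⊤ : Submodule A M)))).toNat, ?_, ?_⟩⟩
    · exact (ENat.natCast_toNat (length_chi_ne_top hV M n)).symm
    · rw [← hN n hn]
      unfold chi
      push_cast
      rfl
  · have hP0 : P ≠ 0 := by
      intro h
      rw [h] at hP
      haveI := subsingleton_of_hasHP_zero hV M hq hP
      exact not_subsingleton M inferInstance
    have h4 := supportDim_lt hV hq (P.natDegree + 1) M P hP (by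
      rw [degree_eq_natDegree hP0]
      exact_mod_cast Nat.lt_succ_self _)
    have hne : Module.supportDim A M ≠ ⊥ := Module.supportDim_ne_bot_of_nontrivial A M
    obtain ⟨a, ha⟩ := WithBot.ne_bot_iff_exists.mp hne
    rw [← ha] at h4 ⊢
    have h5 : a < ((P.natDegree + 1 : ℕ) : ℕ∞) := by exact_mod_cast h4
    obtain ⟨δ, rfl⟩ := ENat.ne_top_iff_exists.mp (ne_top_of_lt h5)
    have h6 : δ < P.natDegree + 1 := by exact_mod_cast h5
    have h7 := degree_le hV hq δ M (by rw [← ha]; rfl) P hP
    have h8 : P.natDegree ≤ δ := natDegree_le_of_degree_le h7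
    have h9 : P.natDegree = δ := by omega
    rw [h9]
    rfl

end Groth.Agent.Helper6.HSamuel
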