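import Mathlib

set_option autoImplicit false

/-!
# Hilbert functions of homogeneous ideals of a polynomial ring: truncations
-/

namespace Groth.Agent.Helper6.HilbProj

open MvPolynomial

attribute [local instance] MvPolynomial.gradedAlgebra

universe u

variable (k : Type u) [Field k] {σ : Type*}

/-- the `m`-primary truncation `I + m^t` -/
noncomputable def Q (I : Ideal (MvPolynomial σ k)) (t : ℕ) : Ideal (MvPolynomial σ k) :=
  I ⊔ idealOfVars σ k ^ t

variable {k}

theorem homogeneousComponent_mem (I : Ideal (MvPolynomial σ k))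
    (hI : I.IsHomogeneous (homogeneousSubmodule σ k)) (t : ℕ) {a : MvPolynomial σ k}
    (ha : a ∈ I) : homogeneousComponent t a ∈ I := by
  have h0 := hI t ha
  have h1 : (DirectSum.decompose (homogeneousSubmodule σ k) a t : MvPolynomial σ k) =
      homogeneousComponent t a := decomposition.decompose'_apply a t
  rwa [h1] at h0

theorem homogeneousComponent_eq_zero_of_mem_pow (t : ℕ) {b : MvPolynomial σ k}
    (hb : b ∈ idealOfVars σ k ^ (t + 1)) : homogeneousComponent t b = 0 := by
  rw [mem_pow_idealOfVars_iff'] at hb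
  ext d
  rw [coeff_homogeneousComponent, coeff_zero]
  split_ifs with h
  · exact hb d (by omega)
  · rfl

theorem sub_homogeneousComponent_mem_pow (t : ℕ) {b : MvPolynomial σ k}
    (hb : b ∈ idealOfVars σ k ^ t) : b - homogeneousComponent t b ∈ idealOfVars σ k ^ (t + 1) := by
  rw [mem_pow_idealOfVars_iff'] at hb ⊢
  intro d hd
  rw [coeff_sub, coeff_homogeneousComponent]
  split_ifs with h
  · exact sub_self _
  · rw [sub_zero]
    exact hb d (by omega)

theorem homogeneous_le_pow (t : ℕ) {x : MvPolynomial σ k} (hx : x.IsHomogeneous t) :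
    x ∈ idealOfVars σ k ^ t := by
  rw [mem_pow_idealOfVars_iff']
  intro d hd
  exact hx.coeff_eq_zero (by omega)

/-- (K1) -/
theorem mem_Q_succ_iff (I : Ideal (MvPolynomial σ k))
    (hI : I.IsHomogeneous (homogeneousSubmodule σ k)) (t : ℕ) {x : MvPolynomial σ k}
    (hx : x.IsHomogeneous t) : x ∈ Q k I (t + 1) ↔ x ∈ I := by
  constructor
  · intro h
    unfold Q at h
    rw [Submodule.mem_sup] at h
    obtain ⟨a, ha, b, hb, hab⟩ := h
    have h1 : homogeneousComponent t x = x := homogeneousComponent_eq_self hx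
    rw [← h1, ← hab, map_add, homogeneousComponent_eq_zero_of_mem_pow t hb, add_zero]
    exact homogeneousComponent_mem I hI t ha
  · intro h
    exact Ideal.mem_sup_left h

/-- (K2) -/
theorem exists_homogeneous_sub_mem (I : Ideal (MvPolynomial σ k)) (t : ℕ) {y : MvPolynomial σ k}
    (hy : y ∈ Q k I t) : ∃ x : MvPolynomial σ k, x.IsHomogeneous t ∧ y - x ∈ Q k I (t + 1) := by
  unfold Q at hy
  rw [Submodule.mem_sup] at hy
  obtain ⟨a, ha, b, hb, hab⟩ := hy
  refine ⟨homogeneousComponent t b, homogeneousComponent_isHomogeneous t b, ?_⟩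
  have : y - homogeneousComponent t b = a + (b - homogeneousComponent t b) := by
    rw [← hab]; ring
  rw [this]
  exact Submodule.add_mem_sup ha (sub_homogeneousComponent_mem_pow t hb)

theorem Q_succ_le (I : Ideal (MvPolynomial σ k)) (t : ℕ) : Q k I (t + 1) ≤ Q k I t :=
  sup_le_sup_left (Ideal.pow_le_pow_right (Nat.le_succ t)) I

theorem Q_zero (I : Ideal (MvPolynomial σ k)) : Q k I 0 = ⊤ := by
  unfold Q
  rw [pow_zero, Ideal.one_eq_top, sup_top_eq]


section Pieces

variable (I : Ideal (MvPolynomial σ k)) (t : ℕ)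

/-- `I_t` as a subspace of `R_t` -/
noncomputable def piece : Submodule k ↥(homogeneousSubmodule σ k t) :=
  (I.restrictScalars k).comap (homogeneousSubmodule σ k t).subtype

/-- `R_t → R/(I+m^{t+1})` -/
noncomputable def incl :
    ↥(homogeneousSubmodule σ k t) →ₗ[k] (MvPolynomial σ k ⧸ Q k I (t + 1)) :=
  ((Q k I (t + 1)).mkQ.restrictScalars k) ∘ₗ (homogeneousSubmodule σ k t).subtype

theorem incl_apply (x : ↥(homogeneousSubmodule σ k t)) :
    incl I t x = Ideal.Quotient.mk (Q k I (t + 1)) x.1 := rfl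

theorem ker_incl (hI : I.IsHomogeneous (homogeneousSubmodule σ k)) :
    LinearMap.ker (incl I t) = piece I t := by
  ext x
  rw [LinearMap.mem_ker, incl_apply, Ideal.Quotient.eq_zero_iff_mem,
    mem_Q_succ_iff I hI t ((mem_homogeneousSubmodule _ _).1 x.2)]
  rfl

/-- `R_t/I_t → R/(I+m^{t+1})` -/
noncomputable def f (hI : I.IsHomogeneous (homogeneousSubmodule σ k)) :
    (↥(homogeneousSubmodule σ k t) ⧸ piece I t) →ₗ[k] (MvPolynomial σ k ⧸ Q k I (t + 1)) :=
  (piece I t).liftQ (incl I t) (ker_incl I t hI).ge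

theorem f_injective (hI : I.IsHomogeneous (homogeneousSubmodule σ k)) :
    Function.Injective (f I t hI) := by
  rw [← LinearMap.ker_eq_bot]
  exact Submodule.ker_liftQ_eq_bot _ _ _ (ker_incl I t hI).le

/-- `R/(I+m^{t+1}) → R/(I+m^t)` -/
noncomputable def g : (MvPolynomial σ k ⧸ Q k I (t + 1)) →ₗ[k] (MvPolynomial σ k ⧸ Q k I t) :=
  ((Q k I (t + 1)).mapQ (Q k I t) LinearMap.id (by
    rw [Submodule.comap_id]; exact Q_succ_le I t)).restrictScalars k

theorem g_mk (y : MvPolynomial σ k) :
    g I t (Ideal.Quotient.mk (Q k I (t + 1)) y) = Ideal.Quotient.mk (Q k I t) y := rfl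

theorem g_surjective : Function.Surjective (g I t) := by
  intro y
  obtain ⟨y, rfl⟩ := Ideal.Quotient.mk_surjective y
  exact ⟨Ideal.Quotient.mk _ y, g_mk I t y⟩

theorem exact_f_g (hI : I.IsHomogeneous (homogeneousSubmodule σ k)) :
    Function.Exact (f I t hI) (g I t) := by
  intro y
  obtain ⟨y, rfl⟩ := Ideal.Quotient.mk_surjective y
  rw [g_mk, Ideal.Quotient.eq_zero_iff_mem]
  constructor
  · intro hy
    obtain ⟨x, hx, hyx⟩ := exists_homogeneous_sub_mem I t hy
    refine ⟨Submodule.Quotient.mk ⟨x, (mem_homogeneousSubmodule _ _).2 hx⟩, ?_⟩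
    show incl I t _ = _
    rw [incl_apply]
    exact ((Ideal.Quotient.eq).2 hyx).symm
  · rintro ⟨x, hx⟩
    obtain ⟨x, rfl⟩ := Submodule.Quotient.mk_surjective _ x
    have h1 : Ideal.Quotient.mk (Q k I (t + 1)) x.1 = Ideal.Quotient.mk (Q k I (t + 1)) y := hx
    have h2 : Ideal.Quotient.mk (Q k I t) x.1 = Ideal.Quotient.mk (Q k I t) y := by
      rw [← g_mk, h1, g_mk]
    have h3 : x.1 ∈ Q k I t :=
      Ideal.mem_sup_right (homogeneous_le_pow t ((mem_homogeneousSubmodule _ _).1 x.2))
    rw [← Ideal.Quotient.eq_zero_iff_mem, ← h2, Ideal.Quotient.eq_zero_iff_mem]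
    exact h3

theorem length_succ (hI : I.IsHomogeneous (homogeneousSubmodule σ k)) :
    Module.length k (MvPolynomial σ k ⧸ Q k I (t + 1)) =
      Module.length k (↥(homogeneousSubmodule σ k t) ⧸ piece I t) +
        Module.length k (MvPolynomial σ k ⧸ Q k I t) :=
  Module.length_eq_add_of_exact (f I t hI) (g I t) (f_injective I t hI) (g_surjective I t)
    (exact_f_g I t hI)

theorem length_zero : Module.length k (MvPolynomial σ k ⧸ Q k I 0) = 0 := by
  rw [Module.length_eq_zero_iff, Q_zero]
  infer_instance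

end Pieces


section Count

variable [Finite σ] (I : Ideal (MvPolynomial σ k))

/-- the Hilbert function of `R/I` -/
noncomputable def H (t : ℕ) : ℕ :=
  Module.finrank k ↥(homogeneousSubmodule σ k t) -
    Module.finrank k ↥(Submodule.restrictScalars k I ⊓ homogeneousSubmodule σ k t)

instance finite_piece (t : ℕ) : Module.Finite k ↥(homogeneousSubmodule σ k t) :=
  Module.Finite.iff_fg.2 (homogeneousSubmodule_fg σ k t)

theorem finrank_piece (t : ℕ) : Module.finrank k ↥(piece I t) =
    Module.finrank k ↥(Submodule.restrictScalars k I ⊓ homogeneousSubmodule σ k t) := by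
  have h1 : piece I t = (Submodule.restrictScalars k I ⊓ homogeneousSubmodule σ k t).comap
      (homogeneousSubmodule σ k t).subtype := by
    unfold piece
    rw [Submodule.comap_inf, Submodule.comap_subtype_self, inf_top_eq]
  rw [h1]
  exact (Submodule.comapSubtypeEquivOfLe inf_le_right).finrank_eq

theorem length_piece_quot (t : ℕ) :
    Module.length k (↥(homogeneousSubmodule σ k t) ⧸ piece I t) = (H I t : ℕ∞) := by
  rw [Module.length_eq_finrank]
  congr 1
  have := Submodule.finrank_quotient_add_finrank (piece I t)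
  rw [finrank_piece] at this
  unfold H
  omega

theorem length_Q (hI : I.IsHomogeneous (homogeneousSubmodule σ k)) (t : ℕ) :
    Module.length k (MvPolynomial σ k ⧸ Q k I t) =
      ((∑ i ∈ Finset.range t, H I i : ℕ) : ℕ∞) := by
  induction t with
  | zero => rw [length_zero]; simp
  | succ t ih =>
    rw [length_succ I t hI, ih, length_piece_quot, Finset.sum_range_succ]
    push_cast
    rw [add_comm]

end Count

end Groth.Agent.Helper6.HilbProj
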