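import Mathlib.RingTheory.LocalRing.Length
import Mathlib.RingTheory.HopkinsLevitzki
import Mathlib.RingTheory.LocalRing.ResidueField.Basic
import Mathlib.Tactic

set_option autoImplicit false
universe u v

namespace Groth.Agent.Helper6

open IsLocalRing

/-- For a local homomorphism of local rings `B → A` inducing a surjection on residue fields,
the `B`-length of an `A`-module is its `A`-length. -/
theorem length_eq_of_residue_surjective {B A M : Type*} [CommRing B] [CommRing A] [IsLocalRing B]
    [IsLocalRing A] [Algebra B A] [IsLocalHom (algebraMap B A)] [AddCommGroup M] [Module B M]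
    [Module A M] [IsScalarTower B A M]
    (h : ∀ a : A, ∃ b : B, a - algebraMap B A b ∈ maximalIdeal A) :
    Module.length B M = Module.length A M := by
  rw [IsLocalRing.length_restrictScalars B A M]
  have hs : Function.Surjective (algebraMap (ResidueField B) (ResidueField A)) := by
    intro x
    obtain ⟨a, rfl⟩ := residue_surjective x
    obtain ⟨b, hb⟩ := h a
    refine ⟨residue B b, ?_⟩
    rw [IsLocalRing.ResidueField.algebraMap_residue]
    symm
    rw [← sub_eq_zero, ← map_sub, residue_eq_zero_iff]
    exact hb
  have h1 : Module.length (ResidueField B) (ResidueField A) = 1 := by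
    rw [Module.length_eq_of_surjective (S := ResidueField B) (R := ResidueField A)
      (M := ResidueField A) hs]
    exact Module.length_eq_one _ _
  rw [h1, mul_one]

end Groth.Agent.Helper6
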