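import Mathlib
import Groth.Agent.Helper6.HilbProj1
import Groth.Agent.Helper6.CISat
import Groth.Agent.Helper6.LocalLength

set_option autoImplicit false

/-!
# Hilbert functions of homogeneous ideals: the Samuel function at the vertex
-/

namespace Groth.Agent.Helper6.HilbProj

open MvPolynomial IsLocalRing

attribute [local instance] MvPolynomial.gradedAlgebra

universe u

section General

variable {A : Type u} [CommRing A] (I J : Ideal A)

theorem map_mkQ_sup : (I ⊔ J : Submodule A A).map (Submodule.mkQ I) =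
    J • (⊤ : Submodule A (A ⧸ I)) := by
  rw [Submodule.map_sup]
  have h1 : Submodule.map (Submodule.mkQ I) I = ⊥ := Submodule.mkQ_map_self I
  have h2 : Submodule.map (Submodule.mkQ I) J = J • (⊤ : Submodule A (A ⧸ I)) := by
    have : (J : Submodule A A) = J • (⊤ : Submodule A A) := by
      rw [smul_eq_mul, Ideal.mul_top]
    conv_lhs => rw [this]
    rw [Submodule.map_smul'', Submodule.map_top, Submodule.range_mkQ]
  rw [h1, h2, bot_sup_eq]

/-- `(A/I)/J(A/I) ≅ A/(I+J)` -/
noncomputable def quotSmulEquiv :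
    ((A ⧸ I) ⧸ (J • (⊤ : Submodule A (A ⧸ I)))) ≃ₗ[A] (A ⧸ (I ⊔ J)) :=
  (Submodule.quotEquivOfEq _ _ (map_mkQ_sup I J).symm).trans
    (Submodule.quotientQuotientEquivQuotient I (I ⊔ J) le_sup_left)

/-- elements outside a maximal ideal `m` are units modulo an ideal containing a power of `m` -/
theorem isUnit_mk_of_notMem (m : Ideal A) (hmax : m.IsMaximal) (Q : Ideal A) (t : ℕ)
    (hQ : m ^ t ≤ Q) (s : A) (hs : s ∉ m) : IsUnit (Ideal.Quotient.mk Q s) := by
  have htop : Ideal.span {s} ⊔ Q = ⊤ := by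
    by_contra hne
    obtain ⟨M, hM, hle⟩ := Ideal.exists_le_maximal _ hne
    have h1 : m ≤ M := hM.isPrime.le_of_pow_le ((hQ.trans le_sup_right).trans hle)
    have h2 : m = M := hmax.eq_of_le hM.ne_top h1
    apply hs
    rw [h2]
    exact hle (Ideal.mem_sup_left (Ideal.mem_span_singleton_self s))
  have h1 : (1 : A) ∈ Ideal.span {s} ⊔ Q := htop ▸ Submodule.mem_top
  rw [Submodule.mem_sup] at h1
  obtain ⟨y, hy, q, hq, hyq⟩ := h1
  rw [Ideal.mem_span_singleton'] at hy
  obtain ⟨a, rfl⟩ := hy
  refine isUnit_iff_exists_inv'.2 ⟨Ideal.Quotient.mk Q a, ?_⟩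
  rw [← map_mul, ← map_one (Ideal.Quotient.mk Q), Ideal.Quotient.eq]
  have : a * s - 1 = -q := by rw [← hyq]; ring
  rw [this]
  exact Q.neg_mem hq

end General


section Poly

variable (k : Type u) [Field k] (n : ℕ)

instance idealOfVars_isMaximal' : (idealOfVars (Fin (n + 1)) k).IsMaximal :=
  Groth.Agent.Helper6.CISat.idealOfVars_isMaximal k n

/-- the local ring at the vertex -/
abbrev A : Type u := Localization.AtPrime (idealOfVars (Fin (n + 1)) k)

theorem mem_idealOfVars_iff (p : MvPolynomial (Fin (n + 1)) k) :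
    p ∈ idealOfVars (Fin (n + 1)) k ↔ constantCoeff p = 0 := by
  rw [Groth.Agent.Helper6.CISat.idealOfVars_eq_ker, RingHom.mem_ker]

theorem residue_surjective (a : A k n) :
    ∃ b : k, a - algebraMap k (A k n) b ∈ maximalIdeal (A k n) := by
  obtain ⟨r, s, rfl⟩ := IsLocalization.exists_mk'_eq (idealOfVars (Fin (n + 1)) k).primeCompl a
  have hs : constantCoeff s.1 ≠ 0 := by
    intro h
    exact s.2 ((mem_idealOfVars_iff k n _).2 h)
  refine ⟨constantCoeff r / constantCoeff s.1, ?_⟩
  have hu : IsUnit (algebraMap (MvPolynomial (Fin (n + 1)) k) (A k n) s.1) :=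
    IsLocalization.map_units (A k n) s
  rw [← Ideal.mul_unit_mem_iff_mem _ hu, sub_mul, IsLocalization.mk'_spec,
    IsScalarTower.algebraMap_apply k (MvPolynomial (Fin (n + 1)) k) (A k n), ← map_mul, ← map_sub,
    IsLocalization.AtPrime.to_map_mem_maximal_iff (A k n) (idealOfVars (Fin (n + 1)) k),
    mem_idealOfVars_iff, map_sub, map_mul, MvPolynomial.algebraMap_eq, constantCoeff_C]
  field_simp
  ring

instance isLocalHom_algebraMap : IsLocalHom (algebraMap k (A k n)) := by
  constructor
  intro a ha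
  have : a ≠ 0 := by
    rintro rfl
    rw [map_zero] at ha
    exact not_isUnit_zero ha
  exact IsUnit.mk0 a this

theorem length_eq_length_field (M : Type*) [AddCommGroup M] [Module (A k n) M] [Module k M]
    [IsScalarTower k (A k n) M] : Module.length (A k n) M = Module.length k M :=
  (Groth.Agent.Helper6.length_eq_of_residue_surjective (B := k) (A := A k n) (M := M)
    (residue_surjective k n)).symm

end Poly

section Poly2

variable (k : Type u) [Field k] (n : ℕ)

section Samuel

variable (Q : Ideal (MvPolynomial (Fin (n + 1)) k)) (t : ℕ)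
  (hQ : idealOfVars (Fin (n + 1)) k ^ t ≤ Q)

include hQ in
theorem le_isUnit_submonoid :
    Algebra.algebraMapSubmonoid (MvPolynomial (Fin (n + 1)) k ⧸ Q)
      (idealOfVars (Fin (n + 1)) k).primeCompl ≤
        IsUnit.submonoid (MvPolynomial (Fin (n + 1)) k ⧸ Q) := by
  rintro _ ⟨s, hs, rfl⟩
  exact isUnit_mk_of_notMem _ (idealOfVars_isMaximal' k n) Q t hQ s hs

/-- `R/Q ≅ A/QA` for an ideal `Q` containing a power of the irrelevant ideal -/
noncomputable def quotEquiv :
    (MvPolynomial (Fin (n + 1)) k ⧸ Q) ≃ₐ[k]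
      (A k n ⧸ Q.map (algebraMap (MvPolynomial (Fin (n + 1)) k) (A k n))) :=
  AlgEquiv.ofRingEquiv
    (f := (IsLocalization.atUnits (MvPolynomial (Fin (n + 1)) k ⧸ Q) _
      (S := A k n ⧸ Q.map (algebraMap (MvPolynomial (Fin (n + 1)) k) (A k n)))
      (le_isUnit_submonoid k n Q t hQ)).toRingEquiv)
    (by
      intro c
      have h1 : algebraMap k (MvPolynomial (Fin (n + 1)) k ⧸ Q) c =
          algebraMap (MvPolynomial (Fin (n + 1)) k ⧸ Q) (MvPolynomial (Fin (n + 1)) k ⧸ Q)
            (Ideal.Quotient.mk Q (algebraMap k _ c)) := rfl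
      rw [h1]
      show (IsLocalization.atUnits (MvPolynomial (Fin (n + 1)) k ⧸ Q) _
        (S := A k n ⧸ Q.map (algebraMap (MvPolynomial (Fin (n + 1)) k) (A k n)))
        (le_isUnit_submonoid k n Q t hQ)) _ = _
      rw [AlgEquiv.commutes]
      rw [IsScalarTower.algebraMap_apply k (A k n)
          (A k n ⧸ Q.map (algebraMap (MvPolynomial (Fin (n + 1)) k) (A k n))),
        IsScalarTower.algebraMap_apply k (MvPolynomial (Fin (n + 1)) k) (A k n)]
      rfl)

end Samuel


section Main

variable (I : Ideal (MvPolynomial (Fin (n + 1)) k))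

/-- the extension `I A` -/
noncomputable abbrev IA : Ideal (A k n) := I.map (algebraMap (MvPolynomial (Fin (n + 1)) k) (A k n))

theorem map_Q (t : ℕ) : (Q k I t).map (algebraMap (MvPolynomial (Fin (n + 1)) k) (A k n)) =
    IA k n I ⊔ maximalIdeal (A k n) ^ t := by
  unfold Q
  rw [Ideal.map_sup, Ideal.map_pow, Localization.AtPrime.map_eq_maximalIdeal]

theorem length_samuel (hI : I.IsHomogeneous (homogeneousSubmodule (Fin (n + 1)) k)) (t : ℕ) :
    Module.length (A k n) ((A k n ⧸ IA k n I) ⧸
      (maximalIdeal (A k n) ^ t • (⊤ : Submodule (A k n) (A k n ⧸ IA k n I)))) =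
      ((∑ i ∈ Finset.range t, H I i : ℕ) : ℕ∞) := by
  rw [(quotSmulEquiv (IA k n I) (maximalIdeal (A k n) ^ t)).length_eq, ← map_Q,
    length_eq_length_field, ← length_Q I hI t]
  exact (quotEquiv k n (Q k I t) t le_sup_right).toLinearEquiv.length_eq.symm

end Main

end Poly2

end Groth.Agent.Helper6.HilbProj
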