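import Mathlib
import Groth.Agent.Helper6.HilbProj2
import Groth.Agent.Helper6.CINormal
import Groth.Agent.Helper6.HSamuel6
import Groth.Agent.Helper5.FtDim7

set_option autoImplicit false

/-!
# Dimension of a graded quotient of a polynomial ring via its Hilbert polynomial
-/

namespace Groth.Agent.Helper6.HilbProj

open MvPolynomial IsLocalRing Polynomial

attribute [local instance] MvPolynomial.gradedAlgebra

universe u

section Dim

variable (k : Type u) [Field k] (n : ℕ) (I : Ideal (MvPolynomial (Fin (n + 1)) k))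

theorem le_idealOfVars (hI : I.IsHomogeneous (homogeneousSubmodule (Fin (n + 1)) k))
    (hItop : I ≠ ⊤) : I ≤ idealOfVars (Fin (n + 1)) k := by
  intro p hp
  rw [mem_idealOfVars_iff]
  exact Groth.Agent.Helper6.CINormal.constantCoeff_eq_zero_of_mem k (Fin (n + 1)) I hItop hI p hp

/-- the dimension of `R/I` is the height of the vertex -/
theorem dim_quot_eq_height (hI : I.IsHomogeneous (homogeneousSubmodule (Fin (n + 1)) k))
    (hItop : I ≠ ⊤) :
    ringKrullDim (MvPolynomial (Fin (n + 1)) k ⧸ I) =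
      (((idealOfVars (Fin (n + 1)) k).map (Ideal.Quotient.mk I)).height : WithBot ℕ∞) := by
  have hIm := le_idealOfVars k n I hI hItop
  set mbar := (idealOfVars (Fin (n + 1)) k).map (Ideal.Quotient.mk I) with hmbar
  haveI hprime : mbar.IsPrime :=
    Groth.Agent.Helper6.CINormal.map_isPrime I (idealOfVars (Fin (n + 1)) k) hIm
  have hmax : mbar.IsMaximal := by
    have := Ideal.map_eq_top_or_isMaximal_of_surjective (Ideal.Quotient.mk I)
      Ideal.Quotient.mk_surjective (idealOfVars_isMaximal' k n)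
    exact this.resolve_left hprime.ne_top
  apply le_antisymm
  · haveI : Nonempty (PrimeSpectrum (MvPolynomial (Fin (n + 1)) k ⧸ I)) := ⟨⟨mbar, hprime⟩⟩
    rw [ringKrullDim, Order.krullDim_eq_iSup_coheight_of_nonempty, WithBot.coe_le_coe]
    refine iSup_le (fun p => ?_)
    obtain ⟨P, hPmin, hPle⟩ := Ideal.exists_minimalPrimes_le (bot_le : ⊥ ≤ p.asIdeal)
    haveI hPprime : P.IsPrime := hPmin.1.1
    have hcomap : P.comap (Ideal.Quotient.mk I) ∈ I.minimalPrimes := by
      have := Ideal.comap_minimalPrimes_eq_of_surjective (f := Ideal.Quotient.mk I)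
        Ideal.Quotient.mk_surjective ⊥
      rw [← RingHom.ker_eq_comap_bot, Ideal.mk_ker] at this
      rw [this]
      exact ⟨P, hPmin, rfl⟩
    have hhom := Groth.Agent.Helper6.CINormal.isHomogeneous_of_mem_minimalPrimes k (Fin (n + 1))
      I hI _ hcomap
    have hPm : P ≤ mbar := by
      rw [← Ideal.map_comap_of_surjective (Ideal.Quotient.mk I) Ideal.Quotient.mk_surjective P]
      apply Ideal.map_mono
      exact le_idealOfVars k n _ hhom (Ideal.comap_ne_top _ hPprime.ne_top)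
    have h1 : Order.coheight p ≤ Order.coheight (⟨P, hPprime⟩ : PrimeSpectrum _) :=
      Order.coheight_anti (show (⟨P, hPprime⟩ : PrimeSpectrum _) ≤ p from hPle)
    have h2 := Groth.Agent.Helper5.FtDim.coheight_le_height_add_coheight' k
      (MvPolynomial (Fin (n + 1)) k ⧸ I) (⟨mbar, hprime⟩ : PrimeSpectrum _) ⟨P, hPprime⟩ hPm
    have h3 : Order.coheight (⟨mbar, hprime⟩ : PrimeSpectrum _) = 0 := by
      rw [Order.coheight_eq_zero]
      exact PrimeSpectrum.isMax_iff.2 hmax
    rw [h3, add_zero, ← PrimeSpectrum.height_eq_orderHeight] at h2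
    exact h1.trans h2
  · exact Ideal.height_le_ringKrullDim_of_ne_top hprime.ne_top

end Dim


section Loc

variable (k : Type u) [Field k] (n : ℕ) (I : Ideal (MvPolynomial (Fin (n + 1)) k))

theorem IA_le (hIm : I ≤ idealOfVars (Fin (n + 1)) k) : IA k n I ≤ maximalIdeal (A k n) := by
  unfold IA
  rw [← Localization.AtPrime.map_eq_maximalIdeal]
  exact Ideal.map_mono hIm

theorem nontrivial_quot (hIm : I ≤ idealOfVars (Fin (n + 1)) k) : Nontrivial (A k n ⧸ IA k n I) :=
  Ideal.Quotient.nontrivial_iff.2 (fun h => (maximalIdeal.isMaximal (A k n)).ne_top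
    (top_le_iff.1 (h ▸ IA_le k n I hIm)))

/-- the dimension of the local ring of `R/I` at the vertex -/
theorem supportDim_quot (hI : I.IsHomogeneous (homogeneousSubmodule (Fin (n + 1)) k))
    (hItop : I ≠ ⊤) :
    Module.supportDim (A k n) (A k n ⧸ IA k n I) =
      ringKrullDim (MvPolynomial (Fin (n + 1)) k ⧸ I) := by
  have hIm := le_idealOfVars k n I hI hItop
  rw [Module.supportDim_quotient_eq_ringKrullDim, dim_quot_eq_height k n I hI hItop]
  haveI hprime : ((idealOfVars (Fin (n + 1)) k).map (Ideal.Quotient.mk I)).IsPrime :=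
    Groth.Agent.Helper6.CINormal.map_isPrime I (idealOfVars (Fin (n + 1)) k) hIm
  haveI := Groth.Agent.Helper6.CINormal.isLocalization_atPrime I (idealOfVars (Fin (n + 1)) k) hIm
  exact IsLocalization.AtPrime.ringKrullDim_eq_height
    ((idealOfVars (Fin (n + 1)) k).map (Ideal.Quotient.mk I)) (A k n ⧸ IA k n I)

end Loc


section Final

variable (k : Type u) [Field k] (n : ℕ) (I : Ideal (MvPolynomial (Fin (n + 1)) k))

theorem H_cast (t : ℕ) : ((H I t : ℕ) : ℚ) =
    (Module.finrank k ↥(homogeneousSubmodule (Fin (n + 1)) k t) : ℚ) -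
      Module.finrank k ↥(Submodule.restrictScalars k I ⊓ homogeneousSubmodule (Fin (n + 1)) k t) := by
  unfold H
  rw [Nat.cast_sub]
  exact Submodule.finrank_mono inf_le_right

instance finite_maxSpec : Finite (MaximalSpectrum (A k n)) := by
  haveI : Subsingleton (MaximalSpectrum (A k n)) := by
    constructor
    intro a b
    ext1
    rw [IsLocalRing.eq_maximalIdeal a.isMaximal, IsLocalRing.eq_maximalIdeal b.isMaximal]
  infer_instance

theorem exists_samuel_poly (hI : I.IsHomogeneous (homogeneousSubmodule (Fin (n + 1)) k))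
    (hItop : I ≠ ⊤) :
    ∃ Qp : ℚ[X], (∃ N : ℕ, ∀ t : ℕ, N ≤ t →
        Qp.eval (t : ℚ) = ((∑ i ∈ Finset.range t, H I i : ℕ) : ℚ)) ∧
      (Qp.natDegree : WithBot ℕ∞) = ringKrullDim (MvPolynomial (Fin (n + 1)) k ⧸ I) := by
  have hIm := le_idealOfVars k n I hI hItop
  haveI := nontrivial_quot k n I hIm
  obtain ⟨Qp, ⟨N, hN⟩, hdeg⟩ :=
    Groth.Agent.Helper6.HSamuel.main_S3405 (A := A k n) (A k n ⧸ IA k n I)
  refine ⟨Qp, ⟨N, fun t ht => ?_⟩, ?_⟩
  · obtain ⟨ℓ, hℓ, hℓ'⟩ := hN t ht
    rw [IsLocalRing.ringJacobson_eq_maximalIdeal, length_samuel k n I hI t] at hℓ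
    rw [← hℓ']
    have : (∑ i ∈ Finset.range t, H I i : ℕ) = ℓ := by exact_mod_cast hℓ
    rw [this]
  · rw [hdeg, supportDim_quot k n I hI hItop]

end Final


section Main

open Groth.Agent.Helper6.HilbSerre Groth.Agent.Helper6.HSamuel

variable (k : Type u) [Field k] (n : ℕ) (I : Ideal (MvPolynomial (Fin (n + 1)) k))

theorem H_top (t : ℕ) : H (⊤ : Ideal (MvPolynomial (Fin (n + 1)) k)) t = 0 := by
  unfold H
  rw [Submodule.restrictScalars_top, top_inf_eq, Nat.sub_self]

/-- the Samuel polynomial and the Hilbert polynomial: `Q(X) - Q(X-1) = P(X-1)` -/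
theorem samuel_sub_taylor (Qp P : ℚ[X]) (N m₀ : ℕ)
    (hN : ∀ t : ℕ, N ≤ t → Qp.eval (t : ℚ) = ((∑ i ∈ Finset.range t, H I i : ℕ) : ℚ))
    (hPH : ∀ m : ℕ, m₀ ≤ m → P.eval (m : ℚ) = (H I m : ℚ)) :
    Qp - taylor (-1) Qp = taylor (-1) P := by
  apply poly_eq_of_eventually_eq (max N m₀ + 1)
  intro i hi
  obtain ⟨j, rfl⟩ : ∃ j, i = j + 1 := ⟨i - 1, by omega⟩
  rw [Polynomial.eval_sub, eval_taylor', eval_taylor']
  have : ((j + 1 : ℕ) : ℚ) + (-1) = (j : ℚ) := by push_cast; ring
  rw [this, hN (j + 1) (by omega), hN j (by omega), hPH j (by omega), Finset.sum_range_succ]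
  push_cast
  ring

/-- degree bookkeeping -/
theorem natDegree_of_sub_taylor (Qp P : ℚ[X]) (hP0 : P ≠ 0)
    (hdiff : Qp - taylor (-1) Qp = taylor (-1) P) : Qp.natDegree = P.natDegree + 1 := by
  have hd1 : (Qp - taylor (-1) Qp).natDegree = P.natDegree := by rw [hdiff, natDegree_taylor]
  have hne : Qp - taylor (-1) Qp ≠ 0 := by
    rw [hdiff]
    intro h
    apply hP0
    exact (taylor_injective (-1)) (by rw [h, map_zero])
  have hQ0 : Qp ≠ 0 := by
    rintro rfl
    apply hne
    rw [map_zero, sub_self]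
  have hQ1 : 1 ≤ Qp.natDegree := by
    by_contra hlt
    have h0 : Qp.natDegree = 0 := by omega
    obtain ⟨c, hc⟩ := natDegree_eq_zero.1 h0
    apply hne
    rw [← hc, taylor_C, sub_self]
  have hle := natDegree_le_natDegree_sub_taylor Qp hQ1
  have hlt := degree_sub_taylor_lt Qp hQ0 (-1)
  have hlt' : (Qp - taylor (-1) Qp).natDegree < Qp.natDegree := natDegree_lt_natDegree hne hlt
  omega

theorem main (hIh : I.IsHomogeneous (homogeneousSubmodule (Fin (n + 1)) k))
    (P : ℚ[X]) (hP0 : P ≠ 0)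
    (hP : ∃ m₀ : ℕ, ∀ m : ℕ, m₀ ≤ m → P.eval (m : ℚ) =
      (Module.finrank k ↥(homogeneousSubmodule (Fin (n + 1)) k m) : ℚ) -
        Module.finrank k ↥(Submodule.restrictScalars k I ⊓ homogeneousSubmodule (Fin (n + 1)) k m)) :
    ringKrullDim (MvPolynomial (Fin (n + 1)) k ⧸ I) = (P.natDegree : WithBot ℕ∞) + 1 := by
  obtain ⟨m₀, hm₀⟩ := hP
  have hPH : ∀ m : ℕ, m₀ ≤ m → P.eval (m : ℚ) = (H I m : ℚ) := by
    intro m hm
    rw [H_cast]
    exact hm₀ m hm
  have hItop : I ≠ ⊤ := by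
    rintro rfl
    apply hP0
    apply poly_eq_of_eventually_eq m₀
    intro i hi
    rw [hPH i hi, Polynomial.eval_zero, H_top]
    simp
  obtain ⟨Qp, ⟨N, hN⟩, hdeg⟩ := exists_samuel_poly k n I hIh hItop
  have hdiff := samuel_sub_taylor k n I Qp P N m₀ hN hPH
  have hnat := natDegree_of_sub_taylor Qp P hP0 hdiff
  rw [← hdeg, hnat]
  push_cast
  rfl

end Main

end Groth.Agent.Helper6.HilbProj
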