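import Mathlib

set_option autoImplicit false

/-!
# Length of a localization of a localization
-/

namespace Groth.Agent.Helper6.LocLocLength

universe u

/-- the composite `N → N' → N'_𝔭` is the localization of `N` at `𝔭 ∩ R` -/
theorem isLocalizedModule_comp {R : Type u} [CommRing R] (S : Submonoid R) (A : Type u)
    [CommRing A] [Algebra R A] [IsLocalization S A] (𝔭 : Ideal A) [h𝔭 : 𝔭.IsPrime]
    {N : Type u} [AddCommGroup N] [Module R N] {N' : Type u} [AddCommGroup N'] [Module A N']
    [Module R N'] [IsScalarTower R A N'] (f : N →ₗ[R] N') [IsLocalizedModule S f] :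
    IsLocalizedModule (𝔭.comap (algebraMap R A)).primeCompl
      (((LocalizedModule.mkLinearMap 𝔭.primeCompl N').restrictScalars R) ∘ₗ f) := by
  haveI : IsLocalization.AtPrime (Localization.AtPrime 𝔭) (𝔭.comap (algebraMap R A)) :=
    IsLocalization.isLocalization_isLocalization_atPrime_isLocalization S (Localization.AtPrime 𝔭) 𝔭
  rw [isLocalizedModule_iff_isBaseChange (𝔭.comap (algebraMap R A)).primeCompl
    (Localization.AtPrime 𝔭)]
  have h1 : IsBaseChange A f := IsLocalizedModule.isBaseChange S A f
  have h2 : IsBaseChange (Localization.AtPrime 𝔭) (LocalizedModule.mkLinearMap 𝔭.primeCompl N') :=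
    IsLocalizedModule.isBaseChange 𝔭.primeCompl (Localization.AtPrime 𝔭) _
  exact IsBaseChange.comp h1 h2

/-- lengths over two localizations at the same prime -/
theorem length_eq_of_isLocalizedModule {R : Type u} [CommRing R] (p : Ideal R) [p.IsPrime]
    (B : Type u) [CommRing B] [Algebra R B] [IsLocalization.AtPrime B p]
    {N : Type u} [AddCommGroup N] [Module R N] {X : Type u} [AddCommGroup X] [Module R X]
    [Module B X] [IsScalarTower R B X] (h : N →ₗ[R] X) [IsLocalizedModule p.primeCompl h] :
    Module.length B X =
      Module.length (Localization.AtPrime p) (LocalizedModule p.primeCompl N) := by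
  let e₀ : Localization.AtPrime p ≃ₐ[R] B :=
    IsLocalization.algEquiv p.primeCompl (Localization.AtPrime p) B
  letI : Algebra (Localization.AtPrime p) B := e₀.toAlgHom.toRingHom.toAlgebra
  letI : Module (Localization.AtPrime p) X := Module.compHom X (algebraMap (Localization.AtPrime p) B)
  haveI : IsScalarTower (Localization.AtPrime p) B X :=
    IsScalarTower.of_algebraMap_smul (fun _ _ => rfl)
  haveI : IsScalarTower R (Localization.AtPrime p) X := ⟨fun r a x => by
    show (algebraMap (Localization.AtPrime p) B (r • a)) • x =
      r • ((algebraMap (Localization.AtPrime p) B a) • x)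
    have : algebraMap (Localization.AtPrime p) B (r • a) =
        r • algebraMap (Localization.AtPrime p) B a := map_smul e₀ r a
    rw [this, smul_assoc]⟩
  have hsurj : Function.Surjective (algebraMap (Localization.AtPrime p) B) := e₀.surjective
  rw [← Module.length_eq_of_surjective hsurj]
  let e₁ : X ≃ₗ[R] LocalizedModule p.primeCompl N :=
    IsLocalizedModule.linearEquiv p.primeCompl h (LocalizedModule.mkLinearMap p.primeCompl N)
  exact (LinearEquiv.extendScalarsOfIsLocalization p.primeCompl (Localization.AtPrime p)
    e₁).length_eq


/-- the length of a localization of a localization -/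
theorem length_localized_localized {R : Type u} [CommRing R] (S : Submonoid R) (A : Type u)
    [CommRing A] [Algebra R A] [IsLocalization S A] (𝔭 : Ideal A) [h𝔭 : 𝔭.IsPrime]
    {N : Type u} [AddCommGroup N] [Module R N] {N' : Type u} [AddCommGroup N'] [Module A N']
    [Module R N'] [IsScalarTower R A N'] (f : N →ₗ[R] N') [IsLocalizedModule S f] :
    Module.length (Localization.AtPrime 𝔭) (LocalizedModule 𝔭.primeCompl N') =
      Module.length (Localization.AtPrime (𝔭.comap (algebraMap R A)))
        (LocalizedModule (𝔭.comap (algebraMap R A)).primeCompl N) := by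
  haveI := isLocalizedModule_comp S A 𝔭 f
  haveI : IsLocalization.AtPrime (Localization.AtPrime 𝔭) (𝔭.comap (algebraMap R A)) :=
    IsLocalization.isLocalization_isLocalization_atPrime_isLocalization S (Localization.AtPrime 𝔭) 𝔭
  exact length_eq_of_isLocalizedModule (𝔭.comap (algebraMap R A)) (Localization.AtPrime 𝔭)
    (((LocalizedModule.mkLinearMap 𝔭.primeCompl N').restrictScalars R) ∘ₗ f)

end Groth.Agent.Helper6.LocLocLength
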