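import Mathlib

/-! Reductions of ideals: an ideal integral over a smaller one has comparable powers. -/

set_option autoImplicit false
universe u

namespace Groth.Agent.Helper6.Reduction

open Ideal

variable {A : Type u} [CommRing A]

/-- `b` is a reduction of `a` in the weak sense that `a ^ (m + r) ≤ b ^ m`. -/
def Red (b a : Ideal A) : Prop := ∃ r : ℕ, ∀ m : ℕ, a ^ (m + r) ≤ b ^ m

theorem Red.refl (a : Ideal A) : Red a a := ⟨0, fun _ => le_rfl⟩

theorem Red.trans {b c a : Ideal A} (h1 : Red b c) (h2 : Red c a) : Red b a := by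
  obtain ⟨r1, h1⟩ := h1
  obtain ⟨r2, h2⟩ := h2
  refine ⟨r1 + r2, fun m => ?_⟩
  calc a ^ (m + (r1 + r2)) = a ^ ((m + r1) + r2) := by rw [add_assoc]
    _ ≤ c ^ (m + r1) := h2 _
    _ ≤ b ^ m := h1 m

/-- the integrality relation. -/
def IntOver (b : Ideal A) (x : A) : Prop :=
  ∃ n : ℕ, 0 < n ∧ ∃ c : Fin n → A,
      (∀ i : Fin n, c i ∈ b ^ ((i : ℕ) + 1)) ∧ x ^ n + ∑ i : Fin n, c i * x ^ (n - 1 - (i : ℕ)) = 0

theorem pow_le_mul (c : Ideal A) (x : A) (n : ℕ) (hn : 0 < n)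
    (hx : x ^ n ∈ c * (c ⊔ span {x}) ^ (n - 1)) :
    (c ⊔ span {x}) ^ n ≤ c * (c ⊔ span {x}) ^ (n - 1) := by
  set J := c ⊔ span {x} with hJ
  have hcJ : c ≤ J := le_sup_left
  have hxJ : span {x} ≤ J := le_sup_right
  conv_lhs => rw [hJ, ← Ideal.add_eq_sup, add_pow, Ideal.sum_eq_sup]
  apply Finset.sup_le
  intro m hm
  rw [Finset.mem_range] at hm
  refine Ideal.mul_le_left.trans ?_
  rcases m with _ | m
  · rw [pow_zero, one_mul, Nat.sub_zero, Ideal.span_singleton_pow, Ideal.span_singleton_le_iff_mem]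
    exact hx
  · have h1 : n - 1 = m + (n - (m + 1)) := by omega
    rw [pow_succ', mul_assoc, h1, pow_add]
    exact Ideal.mul_mono_right (Ideal.mul_mono (Ideal.pow_right_mono hcJ m)
      (Ideal.pow_right_mono hxJ _))

theorem red_of_pow_le_mul (c J : Ideal A) (n : ℕ) (hn : 0 < n) (h : J ^ n ≤ c * J ^ (n - 1)) :
    Red c J := by
  refine ⟨n - 1, fun m => ?_⟩
  induction m with
  | zero => rw [pow_zero, Ideal.one_eq_top]; exact le_top
  | succ m ih =>
    have h1 : m + 1 + (n - 1) = m + n := by omega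
    calc J ^ (m + 1 + (n - 1)) = J ^ m * J ^ n := by rw [h1, pow_add]
      _ ≤ J ^ m * (c * J ^ (n - 1)) := Ideal.mul_mono_right h
      _ = c * J ^ (m + (n - 1)) := by rw [pow_add]; ring
      _ ≤ c * c ^ m := Ideal.mul_mono_right ih
      _ = c ^ (m + 1) := by rw [pow_succ']

theorem mem_of_intOver (b c : Ideal A) (hbc : b ≤ c) (x : A) (n : ℕ) (hn : 0 < n)
    (cf : Fin n → A) (hcf : ∀ i : Fin n, cf i ∈ b ^ ((i : ℕ) + 1))
    (heq : x ^ n + ∑ i : Fin n, cf i * x ^ (n - 1 - (i : ℕ)) = 0) :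
    x ^ n ∈ c * (c ⊔ span {x}) ^ (n - 1) := by
  set J := c ⊔ span {x} with hJ
  have hcJ : c ≤ J := le_sup_left
  have hxJ : x ∈ J := Ideal.mem_sup_right (Ideal.mem_span_singleton_self x)
  have h1 : x ^ n = - ∑ i : Fin n, cf i * x ^ (n - 1 - (i : ℕ)) := eq_neg_of_add_eq_zero_left heq
  rw [h1]
  refine Ideal.neg_mem_iff _ |>.mpr (Ideal.sum_mem _ fun i _ => ?_)
  have h2 : cf i ∈ c * J ^ (i : ℕ) := by
    have : b ^ ((i : ℕ) + 1) ≤ c * J ^ (i : ℕ) := by
      rw [pow_succ']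
      exact Ideal.mul_mono hbc ((Ideal.pow_right_mono hbc _).trans (Ideal.pow_right_mono hcJ _))
    exact this (hcf i)
  have h3 : x ^ (n - 1 - (i : ℕ)) ∈ J ^ (n - 1 - (i : ℕ)) := Ideal.pow_mem_pow hxJ _
  have h4 : n - 1 = (i : ℕ) + (n - 1 - (i : ℕ)) := by have := i.2; omega
  have h5 : c * J ^ (n - 1) = c * J ^ (i : ℕ) * J ^ (n - 1 - (i : ℕ)) := by
    conv_lhs => rw [h4, pow_add, ← mul_assoc]
  rw [h5]
  exact Ideal.mul_mem_mul h2 h3

theorem red_sup_singleton (b c : Ideal A) (hbc : b ≤ c) (x : A) (hx : IntOver b x) :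
    Red c (c ⊔ span {x}) := by
  obtain ⟨n, hn, cf, hcf, heq⟩ := hx
  exact red_of_pow_le_mul c _ n hn
    (pow_le_mul c x n hn (mem_of_intOver b c hbc x n hn cf hcf heq))

theorem red_sup_span (b : Ideal A) (S : Finset A) (hS : ∀ x ∈ S, IntOver b x) :
    Red b (b ⊔ span (S : Set A)) := by
  classical
  induction S using Finset.induction_on with
  | empty =>
    simp only [Finset.coe_empty, Ideal.span_empty, sup_bot_eq]
    exact Red.refl b
  | insert x S hxS ih =>
    have h1 : b ⊔ span ((insert x S : Finset A) : Set A) = (b ⊔ span (S : Set A)) ⊔ span {x} := by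
      rw [Finset.coe_insert, Ideal.span_insert, sup_assoc, sup_comm (span {x})]
    rw [h1]
    exact (ih (fun y hy => hS y (Finset.mem_insert_of_mem hy))).trans
      (red_sup_singleton b _ le_sup_left x (hS x (Finset.mem_insert_self x S)))

theorem red_of_intOver [IsNoetherianRing A] (b a : Ideal A) (hba : b ≤ a)
    (hint : ∀ x ∈ a, IntOver b x) : Red b a := by
  obtain ⟨S, hS⟩ := (IsNoetherian.noetherian a : a.FG)
  have h1 : b ⊔ span (S : Set A) = a := by
    change b ⊔ Submodule.span A (S : Set A) = a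
    rw [hS]
    exact sup_eq_right.mpr hba
  rw [← h1]
  apply red_sup_span
  intro x hx
  apply hint
  rw [← hS]
  exact Submodule.subset_span hx

end Groth.Agent.Helper6.Reduction
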