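import Mathlib
import Groth.Agent.Helper6.Dim1Snake

set_option autoImplicit false

/-!
The six term kernel/cokernel sequence of the snake lemma for a map between two rows,
and the resulting length identity.
-/

namespace Groth.Agent.Helper6.Dim1

open Function

universe u

section SnakeGen

variable {R : Type*} [CommRing R] {M₁ M₂ M₃ N₁ N₂ N₃ : Type*}
  [AddCommGroup M₁] [Module R M₁] [AddCommGroup M₂] [Module R M₂] [AddCommGroup M₃] [Module R M₃]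
  [AddCommGroup N₁] [Module R N₁] [AddCommGroup N₂] [Module R N₂] [AddCommGroup N₃] [Module R N₃]
  (i₁ : M₁ →ₗ[R] N₁) (i₂ : M₂ →ₗ[R] N₂) (i₃ : M₃ →ₗ[R] N₃)
  (f₁ : M₁ →ₗ[R] M₂) (f₂ : M₂ →ₗ[R] M₃) (g₁ : N₁ →ₗ[R] N₂) (g₂ : N₂ →ₗ[R] N₃)

/-- the induced map on kernels. -/
def kerMap (h₁ : g₁.comp i₁ = i₂.comp f₁) : LinearMap.ker i₁ →ₗ[R] LinearMap.ker i₂ :=
  f₁.restrict (fun x hx => by
    rw [LinearMap.mem_ker] at hx ⊢
    have := LinearMap.congr_fun h₁ x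
    simp only [LinearMap.comp_apply] at this
    rw [← this, hx, map_zero])

@[simp] theorem kerMap_coe (h₁ : g₁.comp i₁ = i₂.comp f₁) (x : LinearMap.ker i₁) :
    (kerMap i₁ i₂ f₁ g₁ h₁ x : M₂) = f₁ x := rfl

/-- the induced map on cokernels. -/
def cokerMap (h₁ : g₁.comp i₁ = i₂.comp f₁) :
    (N₁ ⧸ LinearMap.range i₁) →ₗ[R] (N₂ ⧸ LinearMap.range i₂) :=
  Submodule.mapQ _ _ g₁ (by
    rintro _ ⟨x, rfl⟩
    rw [Submodule.mem_comap]
    have := LinearMap.congr_fun h₁ x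
    simp only [LinearMap.comp_apply] at this
    rw [this]
    exact ⟨f₁ x, rfl⟩)

@[simp] theorem cokerMap_mk (h₁ : g₁.comp i₁ = i₂.comp f₁) (y : N₁) :
    cokerMap i₁ i₂ f₁ g₁ h₁ (Submodule.Quotient.mk y) = Submodule.Quotient.mk (g₁ y) := rfl

theorem kerMap_injective (h₁ : g₁.comp i₁ = i₂.comp f₁) (hf₁ : Injective f₁) :
    Injective (kerMap i₁ i₂ f₁ g₁ h₁) := by
  intro x y hxy
  apply Subtype.ext
  apply hf₁
  exact congrArg Subtype.val hxy

theorem cokerMap_surjective (h₂ : g₂.comp i₂ = i₃.comp f₂) (hg₂ : Surjective g₂) :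
    Surjective (cokerMap i₂ i₃ f₂ g₂ h₂) := by
  intro y
  obtain ⟨y, rfl⟩ := Submodule.Quotient.mk_surjective _ y
  obtain ⟨z, rfl⟩ := hg₂ y
  exact ⟨Submodule.Quotient.mk z, rfl⟩

theorem exact_kerMap (hf : Exact f₁ f₂) (h₁ : g₁.comp i₁ = i₂.comp f₁)
    (h₂ : g₂.comp i₂ = i₃.comp f₂) (hg₁ : Injective g₁) :
    Exact (kerMap i₁ i₂ f₁ g₁ h₁) (kerMap i₂ i₃ f₂ g₂ h₂) := by
  intro x
  constructor
  · intro hx
    have hpx : f₂ x.1 = 0 := congrArg Subtype.val hx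
    obtain ⟨y, hy⟩ := (hf x.1).mp hpx
    have hty : i₁ y = 0 := by
      apply hg₁
      have := LinearMap.congr_fun h₁ y
      simp only [LinearMap.comp_apply] at this
      rw [this, hy, map_zero]
      exact x.2
    exact ⟨⟨y, hty⟩, Subtype.ext hy⟩
  · rintro ⟨y, rfl⟩
    apply Subtype.ext
    exact (hf _).mpr ⟨y.1, rfl⟩

theorem exact_cokerMap (hg : Exact g₁ g₂) (h₁ : g₁.comp i₁ = i₂.comp f₁)
    (h₂ : g₂.comp i₂ = i₃.comp f₂) (hf₂ : Surjective f₂) :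
    Exact (cokerMap i₁ i₂ f₁ g₁ h₁) (cokerMap i₂ i₃ f₂ g₂ h₂) := by
  intro y
  obtain ⟨y, rfl⟩ := Submodule.Quotient.mk_surjective _ y
  rw [cokerMap_mk, Submodule.Quotient.mk_eq_zero]
  constructor
  · rintro ⟨z, hz⟩
    obtain ⟨w, rfl⟩ := hf₂ z
    have h2w := LinearMap.congr_fun h₂ w
    simp only [LinearMap.comp_apply] at h2w
    have : g₂ (y - i₂ w) = 0 := by rw [map_sub, h2w, hz, sub_self]
    obtain ⟨v, hv⟩ := (hg _).mp this
    refine ⟨Submodule.Quotient.mk v, ?_⟩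
    rw [cokerMap_mk, hv, Submodule.Quotient.mk_sub, sub_eq_self, Submodule.Quotient.mk_eq_zero]
    exact ⟨w, rfl⟩
  · rintro ⟨v, hv⟩
    obtain ⟨v, rfl⟩ := Submodule.Quotient.mk_surjective _ v
    rw [cokerMap_mk, Submodule.Quotient.eq] at hv
    obtain ⟨w, hw⟩ := hv
    have h2w := LinearMap.congr_fun h₂ w
    simp only [LinearMap.comp_apply] at h2w
    refine ⟨- f₂ w, ?_⟩
    have hy : y = g₁ v - i₂ w := by rw [hw]; abel
    rw [hy, map_sub, map_neg, (hg _).mpr ⟨v, rfl⟩, zero_sub, h2w]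

/-- the connecting map. -/
noncomputable def snakeδ (hf : Exact f₁ f₂) (hg : Exact g₁ g₂) (h₁ : g₁.comp i₁ = i₂.comp f₁)
    (h₂ : g₂.comp i₂ = i₃.comp f₂) (hf₂ : Surjective f₂) (hg₁ : Injective g₁) :
    LinearMap.ker i₃ →ₗ[R] (N₁ ⧸ LinearMap.range i₁) :=
  SnakeLemma.δ' i₁ i₂ i₃ f₁ f₂ hf g₁ g₂ hg h₁ h₂ (LinearMap.ker i₃).subtype
    (LinearMap.exact_subtype_ker_map _) (LinearMap.range i₁).mkQ (LinearMap.exact_map_mkQ_range _)
    hf₂ hg₁

theorem exact_kerMap_snakeδ (hf : Exact f₁ f₂) (hg : Exact g₁ g₂) (h₁ : g₁.comp i₁ = i₂.comp f₁)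
    (h₂ : g₂.comp i₂ = i₃.comp f₂) (hf₂ : Surjective f₂) (hg₁ : Injective g₁) :
    Exact (kerMap i₂ i₃ f₂ g₂ h₂) (snakeδ i₁ i₂ i₃ f₁ f₂ g₁ g₂ hf hg h₁ h₂ hf₂ hg₁) :=
  SnakeLemma.exact_δ'_right i₁ i₂ i₃ f₁ f₂ hf g₁ g₂ hg h₁ h₂
    (LinearMap.ker i₂).subtype (LinearMap.exact_subtype_ker_map _)
    (LinearMap.ker i₃).subtype (LinearMap.exact_subtype_ker_map _)
    (LinearMap.range i₁).mkQ (LinearMap.exact_map_mkQ_range _) hf₂ hg₁
    (kerMap i₂ i₃ f₂ g₂ h₂) (by ext x; rfl) (Submodule.injective_subtype _)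

theorem exact_snakeδ_cokerMap (hf : Exact f₁ f₂) (hg : Exact g₁ g₂)
    (h₁ : g₁.comp i₁ = i₂.comp f₁)
    (h₂ : g₂.comp i₂ = i₃.comp f₂) (hf₂ : Surjective f₂) (hg₁ : Injective g₁) :
    Exact (snakeδ i₁ i₂ i₃ f₁ f₂ g₁ g₂ hf hg h₁ h₂ hf₂ hg₁) (cokerMap i₁ i₂ f₁ g₁ h₁) :=
  SnakeLemma.exact_δ'_left i₁ i₂ i₃ f₁ f₂ hf g₁ g₂ hg h₁ h₂
    (LinearMap.ker i₃).subtype (LinearMap.exact_subtype_ker_map _)
    (LinearMap.range i₁).mkQ (LinearMap.exact_map_mkQ_range _)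
    (LinearMap.range i₂).mkQ (LinearMap.exact_map_mkQ_range _) hf₂ hg₁
    (cokerMap i₁ i₂ f₁ g₁ h₁) (by ext x; rfl) (Submodule.mkQ_surjective _)

/-- the length identity of the snake lemma for a map between two short exact sequences. -/
theorem snake_length_gen (hf : Exact f₁ f₂) (hg : Exact g₁ g₂) (h₁ : g₁.comp i₁ = i₂.comp f₁)
    (h₂ : g₂.comp i₂ = i₃.comp f₂) (hf₁ : Injective f₁) (hf₂ : Surjective f₂)
    (hg₁ : Injective g₁) (hg₂ : Surjective g₂) :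
    Module.length R (LinearMap.ker i₂) + Module.length R (N₁ ⧸ LinearMap.range i₁) +
        Module.length R (N₃ ⧸ LinearMap.range i₃) =
      Module.length R (LinearMap.ker i₁) + Module.length R (LinearMap.ker i₃) +
        Module.length R (N₂ ⧸ LinearMap.range i₂) :=
  length_six (kerMap i₁ i₂ f₁ g₁ h₁) (kerMap i₂ i₃ f₂ g₂ h₂)
    (snakeδ i₁ i₂ i₃ f₁ f₂ g₁ g₂ hf hg h₁ h₂ hf₂ hg₁) (cokerMap i₁ i₂ f₁ g₁ h₁)
    (cokerMap i₂ i₃ f₂ g₂ h₂) (kerMap_injective i₁ i₂ f₁ g₁ h₁ hf₁)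
    (exact_kerMap i₁ i₂ i₃ f₁ f₂ g₁ g₂ hf h₁ h₂ hg₁)
    (exact_kerMap_snakeδ i₁ i₂ i₃ f₁ f₂ g₁ g₂ hf hg h₁ h₂ hf₂ hg₁)
    (exact_snakeδ_cokerMap i₁ i₂ i₃ f₁ f₂ g₁ g₂ hf hg h₁ h₂ hf₂ hg₁)
    (exact_cokerMap i₁ i₂ i₃ f₁ f₂ g₁ g₂ hg h₁ h₂ hf₂)
    (cokerMap_surjective i₂ i₃ f₂ g₂ h₂ hg₂)

end SnakeGen

section EndoLen

variable {R : Type*} [Ring R] {X : Type*} [AddCommGroup X] [Module R X]

/-- for an endomorphism of a module of finite length, kernel and cokernel have the same length. -/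
theorem length_ker_eq_length_coker (f : X →ₗ[R] X) (hX : Module.length R X ≠ ⊤) :
    Module.length R (LinearMap.ker f) = Module.length R (X ⧸ LinearMap.range f) := by
  have h1 : Module.length R X =
      Module.length R (LinearMap.ker f) + Module.length R (LinearMap.range f) :=
    Module.length_eq_add_of_exact (LinearMap.ker f).subtype f.rangeRestrict
      (Submodule.injective_subtype _) f.surjective_rangeRestrict (by
        intro x
        constructor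
        · intro hx
          have : f x = 0 := congrArg Subtype.val hx
          exact ⟨⟨x, this⟩, rfl⟩
        · rintro ⟨y, rfl⟩
          apply Subtype.ext
          exact y.2)
  have h2 : Module.length R X =
      Module.length R (LinearMap.range f) + Module.length R (X ⧸ LinearMap.range f) :=
    Module.length_eq_add_of_exact (LinearMap.range f).subtype (LinearMap.range f).mkQ
      (Submodule.injective_subtype _) (Submodule.mkQ_surjective _)
      (LinearMap.exact_subtype_mkQ _)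
  have hr : Module.length R (LinearMap.range f) ≠ ⊤ := by
    intro h
    rw [h, add_top] at h1
    exact hX h1
  rw [h1, add_comm] at h2
  exact ENat.add_right_injective_of_ne_top hr h2

end EndoLen

end Groth.Agent.Helper6.Dim1
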