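import Mathlib
import Groth.Agent.Helper6.Dim1SnakeGen
import Groth.Agent.Helper6.Dim1Rel

set_option autoImplicit false

/-!
Injective endomorphisms of finite modules with one-dimensional support over a Noetherian local ring
have cokernels of finite length.
-/

namespace Groth.Agent.Helper6.SuppDimInj

open Function Groth.Agent.Helper6.Dim1

universe u v

section Loc

variable {A : Type u} [CommRing A]

theorem length_localized_add' (S : Submonoid A) {N₁ N₂ N₃ : Type v} [AddCommGroup N₁] [Module A N₁]
    [AddCommGroup N₂] [Module A N₂] [AddCommGroup N₃] [Module A N₃]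
    (f : N₁ →ₗ[A] N₂) (g : N₂ →ₗ[A] N₃) (hf : Injective f) (hg : Surjective g)
    (hex : Exact f g) :
    Module.length (Localization S) (LocalizedModule S N₂) =
      Module.length (Localization S) (LocalizedModule S N₁) +
        Module.length (Localization S) (LocalizedModule S N₃) := by
  refine Module.length_eq_add_of_exact (LocalizedModule.map S f) (LocalizedModule.map S g)
    (LocalizedModule.map_injective S f hf) (LocalizedModule.map_surjective S g hg) ?_
  intro y
  exact LocalizedModule.map_exact S f g hex y

theorem length_localized_congr' (S : Submonoid A) {N₁ : Type v} {N₂ : Type*} [AddCommGroup N₁]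
    [Module A N₁] [AddCommGroup N₂] [Module A N₂] (e : N₁ ≃ₗ[A] N₂) :
    Module.length (Localization S) (LocalizedModule S N₁) =
      Module.length (Localization S) (LocalizedModule S N₂) :=
  (LinearEquiv.ofBijective (LocalizedModule.map S e.toLinearMap)
    ⟨LocalizedModule.map_injective S _ e.injective,
      LocalizedModule.map_surjective S _ e.surjective⟩).length_eq

theorem length_localized_eq_zero' (S : Submonoid A) {N : Type v} [AddCommGroup N] [Module A N]
    {s : A} (hs : s ∈ S) (h : ∀ n : N, s • n = 0) :
    Module.length (Localization S) (LocalizedModule S N) = 0 := by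
  rw [Module.length_eq_zero_iff, LocalizedModule.subsingleton_iff]
  intro n
  exact ⟨s, hs, h n⟩

end Loc

section MinSupp

variable {A : Type u} [CommRing A] [IsNoetherianRing A]

/-- at a minimal point of the support the localization has finite length. -/
theorem length_localized_ne_top_of_isMin (p : PrimeSpectrum A) (M : Type v) [AddCommGroup M]
    [Module A M] [hM : Module.Finite A M]
    (hmin : ∀ q ∈ Module.support A M, q ≤ p → q = p) :
    Module.length (Localization.AtPrime p.asIdeal) (LocalizedModule p.asIdeal.primeCompl M) ≠ ⊤ := by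
  revert hmin
  induction hM using IsNoetherianRing.induction_on_isQuotientEquivQuotientPrime A with
  | subsingleton N =>
    intro _
    rw [Module.length_eq_zero]
    exact ENat.zero_ne_top
  | quotient N q e =>
    intro hmin
    rw [length_localized_congr' _ e]
    by_cases hqp : q.asIdeal ≤ p.asIdeal
    · have hqS : q ∈ Module.support A N := by
        rw [e.support_eq, Module.support_eq_zeroLocus, Ideal.annihilator_quotient,
          PrimeSpectrum.mem_zeroLocus]
      have : q = p := hmin q hqS hqp
      subst this
      rw [length_localized_quot_self]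
      exact ENat.one_ne_top
    · obtain ⟨s, hsq, hsp⟩ := Set.not_subset.mp hqp
      rw [length_localized_eq_zero _ (s := s) hsp]
      · exact ENat.zero_ne_top
      · intro n
        obtain ⟨r, rfl⟩ := Ideal.Quotient.mk_surjective n
        change Ideal.Quotient.mk q.asIdeal (s * r) = 0
        exact Ideal.Quotient.eq_zero_iff_mem.mpr (Ideal.mul_mem_right _ _ hsq)
  | exact N₁ N₂ N₃ f g hf hg hex h₁ h₃ =>
    intro hmin
    rw [length_localized_add' _ f g hf hg hex]
    simp only [ne_eq, ENat.add_eq_top, not_or]
    exact ⟨h₁ (fun q hq => hmin q (Module.support_subset_of_injective f hf hq)),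
      h₃ (fun q hq => hmin q (Module.support_subset_of_surjective g hg hq))⟩

/-- an injective endomorphism becomes surjective after localizing where the length is finite. -/
theorem exists_smul_mem_range_of_injective (p : PrimeSpectrum A) {M : Type v} [AddCommGroup M]
    [Module A M] (θ : M →ₗ[A] M) (hθ : Injective θ)
    (hfin : Module.length (Localization.AtPrime p.asIdeal)
      (LocalizedModule p.asIdeal.primeCompl M) ≠ ⊤) (m : M) :
    ∃ r ∉ p.asIdeal, r • m ∈ LinearMap.range θ := by
  let S := p.asIdeal.primeCompl
  let θp : LocalizedModule S M →ₗ[Localization.AtPrime p.asIdeal] LocalizedModule S M :=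
    IsLocalizedModule.mapExtendScalars S (LocalizedModule.mkLinearMap S M)
      (LocalizedModule.mkLinearMap S M) (Localization.AtPrime p.asIdeal) θ
  have hθp : ∀ x, θp x = LocalizedModule.map S θ x := fun x => rfl
  have hinj : Injective θp := by
    intro x y hxy
    rw [hθp, hθp] at hxy
    exact LocalizedModule.map_injective S θ hθ hxy
  have hker : Module.length (Localization.AtPrime p.asIdeal) (LinearMap.ker θp) = 0 := by
    rw [LinearMap.ker_eq_bot.mpr hinj]
    exact Module.length_eq_zero
  have hcoker := length_ker_eq_length_coker θp hfin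
  rw [hker] at hcoker
  have hsub : Subsingleton (LocalizedModule S M ⧸ LinearMap.range θp) :=
    Module.length_eq_zero_iff.mp hcoker.symm
  have hsurj : LinearMap.range θp = ⊤ := Submodule.Quotient.subsingleton_iff.mp hsub
  have hm : LocalizedModule.mk m (1 : S) ∈ LinearMap.range θp := by
    rw [hsurj]; trivial
  obtain ⟨x, hx⟩ := hm
  induction x using LocalizedModule.induction_on with
  | _ m' s =>
  rw [hθp, LocalizedModule.map_mk, LocalizedModule.mk_eq] at hx
  obtain ⟨c, hc⟩ := hx
  refine ⟨c.1 * s.1, ?_, ?_⟩
  · exact (c * s).2
  · refine ⟨c.1 • m', ?_⟩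
    rw [map_smul]
    have h1 : c • (1 : S) • θ m' = c.1 • θ m' := by
      rw [one_smul]
      rfl
    have h2 : c • s • m = (c.1 * s.1) • m := by
      rw [mul_smul]
      rfl
    rw [← h1, hc, h2]

theorem not_mem_support_coker_of_injective (p : PrimeSpectrum A) {M : Type v} [AddCommGroup M]
    [Module A M] [Module.Finite A M] (θ : M →ₗ[A] M) (hθ : Injective θ)
    (hmin : ∀ q ∈ Module.support A M, q ≤ p → q = p) :
    p ∉ Module.support A (M ⧸ LinearMap.range θ) := by
  rw [Module.notMem_support_iff']
  intro y
  obtain ⟨m, rfl⟩ := Submodule.Quotient.mk_surjective _ y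
  obtain ⟨r, hr, hrm⟩ := exists_smul_mem_range_of_injective p θ hθ
    (length_localized_ne_top_of_isMin p M hmin) m
  refine ⟨r, hr, ?_⟩
  rw [← Submodule.Quotient.mk_smul, Submodule.Quotient.mk_eq_zero]
  exact hrm

end MinSupp

section Local

variable {A : Type u} [CommRing A] [IsNoetherianRing A]

/-- a finite module whose support consists of maximal ideals has finite length. -/
theorem length_ne_top_of_support_maximal' (N : Type v) [AddCommGroup N] [Module A N]
    [hN : Module.Finite A N] (h : ∀ p ∈ Module.support A N, p.asIdeal.IsMaximal) :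
    Module.length A N ≠ ⊤ := by
  revert h
  induction hN using IsNoetherianRing.induction_on_isQuotientEquivQuotientPrime A with
  | subsingleton N =>
    intro _
    rw [Module.length_eq_zero]
    exact ENat.zero_ne_top
  | quotient N q e =>
    intro h
    have hqS : q ∈ Module.support A N := by
      rw [e.support_eq, Module.support_eq_zeroLocus, Ideal.annihilator_quotient,
        PrimeSpectrum.mem_zeroLocus]
    have hmax := h q hqS
    haveI : IsSimpleModule A (A ⧸ q.asIdeal) :=
      isSimpleModule_iff_isCoatom.mpr (Ideal.isMaximal_def.mp hmax)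
    rw [e.length_eq, Module.length_eq_one]
    exact ENat.one_ne_top
  | exact N₁ N₂ N₃ f g hf hg hex h₁ h₃ =>
    intro h
    rw [Module.length_eq_add_of_exact f g hf hg hex]
    simp only [ne_eq, ENat.add_eq_top, not_or]
    exact ⟨h₁ (fun p hp => h p (Module.support_subset_of_injective f hf hp)),
      h₃ (fun p hp => h p (Module.support_subset_of_surjective g hg hp))⟩

variable [IsLocalRing A]

theorem length_coker_ne_top_of_injective {M : Type v} [AddCommGroup M] [Module A M]
    [Module.Finite A M] (hdim : Module.supportDim A M ≤ 1) (θ : M →ₗ[A] M) (hθ : Injective θ) :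
    Module.length A (M ⧸ LinearMap.range θ) ≠ ⊤ := by
  apply length_ne_top_of_support_maximal'
  intro p hp
  by_contra hpm
  have hpM : p ∈ Module.support A M :=
    Module.support_subset_of_surjective _ (Submodule.mkQ_surjective _) hp
  let m : PrimeSpectrum A := IsLocalRing.closedPoint A
  have hple : p ≤ m := IsLocalRing.le_maximalIdeal p.isPrime.ne_top
  have hpne : p ≠ m := by
    intro h
    apply hpm
    rw [h]
    exact IsLocalRing.maximalIdeal.isMaximal A
  have hplt : p < m := lt_of_le_of_ne hple hpne
  have hmS : m ∈ Module.support A M := Module.mem_support_mono hple hpM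
  apply not_mem_support_coker_of_injective p θ hθ ?_ hp
  intro q hq hqp
  unfold Module.supportDim at hdim
  rcases (Order.krullDim_le_one_iff.mp hdim) (⟨p, hpM⟩ : ↥(Module.support A M)) with hmin | hmax
  · have hle : (⟨p, hpM⟩ : ↥(Module.support A M)) ≤ ⟨q, hq⟩ := hmin (b := ⟨q, hq⟩) hqp
    exact le_antisymm hqp hle
  · have hle : (⟨m, hmS⟩ : ↥(Module.support A M)) ≤ ⟨p, hpM⟩ := hmax (b := ⟨m, hmS⟩) hple
    exact absurd (lt_of_lt_of_le hplt hle) (lt_irrefl _)

end Local

end Groth.Agent.Helper6.SuppDimInj
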