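import Mathlib
import Groth.Agent.Helper6.HSamuel6
import Groth.Agent.Helper6.SuppDimInj
import Groth.Agent.Helper6.Dim1MinPrimes
import Groth.Agent.Helper2.Caten

/-! Samuel multiplicity as a sum over the top-dimensional primes. -/

set_option autoImplicit false
universe u

namespace Groth.Agent.Helper6.SamuelTop

open Groth.Agent.Helper6 Groth.Agent.Helper6.HSamuel Groth.Agent.Helper6.Dim1 Polynomial Filter
open Groth.Agent.Helper6.SuppDimInj

theorem finsum_prop_neg {c : Prop} (h : ¬ c) (x : ℝ) : ∑ᶠ _ : c, x = 0 := by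
  classical
  rw [finsum_eq_if, if_neg h]

theorem finsum_prop_pos {c : Prop} (h : c) (x : ℝ) : ∑ᶠ _ : c, x = x := by
  classical
  rw [finsum_eq_if, if_pos h]

open IsLocalRing

variable {A : Type u} [CommRing A] [IsNoetherianRing A] [IsLocalRing A]
  (I : Ideal A)

/-- primes over an `m`-primary ideal are maximal. -/
theorem qMax_of_primary (hI : ∃ n : ℕ, maximalIdeal A ^ n ≤ I) : QMax I := by
  intro p hp
  obtain ⟨n, hn⟩ := hI
  have h1 : maximalIdeal A ≤ p.asIdeal := p.2.le_of_pow_le (hn.trans hp)
  rw [← (maximalIdeal.isMaximal A).eq_of_le p.2.ne_top h1]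
  exact maximalIdeal.isMaximal A

theorem le_jacobson (hI : I ≤ maximalIdeal A) : I ≤ (⊥ : Ideal A).jacobson := by
  rw [IsLocalRing.jacobson_eq_maximalIdeal ⊥ bot_ne_top]
  exact hI

variable (d : ℕ) (e : PrimeSpectrum A → ℝ)

/-- the normalized Samuel function. -/
noncomputable def T (N : Type u) [AddCommGroup N] [Module A N] (t : ℕ) : ℝ :=
  (d.factorial : ℝ) * ((Module.length A (N ⧸ (I ^ t • (⊤ : Submodule A N)))).toNat : ℝ) / (t : ℝ) ^ d

/-- the length of the localization at `p`. -/
noncomputable abbrev lp (p : PrimeSpectrum A) (N : Type u) [AddCommGroup N] [Module A N] : ℕ∞ :=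
  Module.length (Localization.AtPrime p.asIdeal) (LocalizedModule p.asIdeal.primeCompl N)

/-- the sum over the top-dimensional primes. -/
noncomputable def S (N : Type u) [AddCommGroup N] [Module A N] : ℝ :=
  ∑ᶠ (p : PrimeSpectrum A) (_ : ringKrullDim (A ⧸ p.asIdeal) = d), ((lp p N).toNat : ℝ) * e p

theorem T_eq_chi (N : Type u) [AddCommGroup N] [Module A N] (t : ℕ) :
    T I d N t = (d.factorial : ℝ) * ((chi I N t : ℤ) : ℝ) / (t : ℝ) ^ d := by
  unfold T chi
  rw [Int.cast_natCast]

theorem S_eq_zero (N : Type u) [AddCommGroup N] [Module A N]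
    (h : ∀ p : PrimeSpectrum A, ringKrullDim (A ⧸ p.asIdeal) = d → lp p N = 0) : S d e N = 0 := by
  unfold S
  refine finsum_eq_zero_of_forall_eq_zero (fun p => ?_)
  by_cases hp : ringKrullDim (A ⧸ p.asIdeal) = d
  · rw [finsum_prop_pos hp, h p hp]
    simp
  · rw [finsum_prop_neg hp]

theorem lp_eq_zero_of_notMem_support (p : PrimeSpectrum A) (N : Type u) [AddCommGroup N]
    [Module A N] (h : p ∉ Module.support A N) : lp p N = 0 := by
  rw [Module.notMem_support_iff] at h
  exact Module.length_eq_zero

/-- a prime of the support has coheight at most the support dimension. -/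
theorem dimQuot_le_supportDim (p : PrimeSpectrum A) (N : Type u) [AddCommGroup N]
    [Module A N] [Module.Finite A N] (h : p ∈ Module.support A N) :
    ringKrullDim (A ⧸ p.asIdeal) ≤ Module.supportDim A N := by
  rw [Module.supportDim_eq_ringKrullDim_quotient_annihilator]
  rw [Module.mem_support_iff_of_finite] at h
  exact ringKrullDim_le_of_surjective (Ideal.Quotient.factor h) (Ideal.Quotient.factor_surjective h)

theorem coheight_eq_of_dimQuot_eq (p : PrimeSpectrum A)
    (hp : ringKrullDim (A ⧸ p.asIdeal) = d) : Order.coheight p = (d : ℕ∞) := by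
  rw [Groth.Agent.Helper2.Caten.dimQuot_eq_coheight] at hp
  exact_mod_cast hp

/-- a top-dimensional prime of the support is minimal in the support. -/
theorem isMin_of_dimQuot_eq (p : PrimeSpectrum A) (N : Type u) [AddCommGroup N]
    [Module A N] [Module.Finite A N] (hd : Module.supportDim A N ≤ d)
    (hp : ringKrullDim (A ⧸ p.asIdeal) = d) :
    ∀ q ∈ Module.support A N, q ≤ p → q = p := by
  intro q hq hqp
  by_contra hne
  have hlt : q < p := lt_of_le_of_ne hqp hne
  have h1 : Order.coheight p + 1 ≤ Order.coheight q := Order.coheight_add_one_le hlt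
  have h2 := (dimQuot_le_supportDim q N hq).trans hd
  rw [Groth.Agent.Helper2.Caten.dimQuot_eq_coheight] at h2
  have h3 : Order.coheight q ≤ (d : ℕ∞) := by exact_mod_cast h2
  rw [coheight_eq_of_dimQuot_eq d p hp] at h1
  have h4 : ((d + 1 : ℕ) : ℕ∞) ≤ (d : ℕ∞) := by
    push_cast
    exact h1.trans h3
  have h5 : d + 1 ≤ d := by exact_mod_cast h4
  omega

theorem lp_ne_top (p : PrimeSpectrum A) (N : Type u) [AddCommGroup N]
    [Module A N] [Module.Finite A N] (hd : Module.supportDim A N ≤ d)
    (hp : ringKrullDim (A ⧸ p.asIdeal) = d) : lp p N ≠ ⊤ :=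
  length_localized_ne_top_of_isMin p N (isMin_of_dimQuot_eq d p N hd hp)

/-- the top-dimensional primes of the support form a finite set. -/
theorem finite_top (N : Type u) [AddCommGroup N]
    [Module A N] [Module.Finite A N] (hd : Module.supportDim A N ≤ d) :
    {p : PrimeSpectrum A | ringKrullDim (A ⧸ p.asIdeal) = d ∧ p ∈ Module.support A N}.Finite := by
  have hfin := Ideal.finite_minimalPrimes_of_isNoetherianRing A (Module.annihilator A N)
  refine Set.Finite.subset (Set.Finite.preimage (f := PrimeSpectrum.asIdeal)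
    (fun p _ q _ h => PrimeSpectrum.ext h) hfin) ?_
  rintro p ⟨hp, hpS⟩
  refine ⟨⟨p.2, (Module.mem_support_iff_of_finite.mp hpS)⟩, ?_⟩
  rintro J ⟨hJ, hJa⟩ hJp
  have hq : (⟨J, hJ⟩ : PrimeSpectrum A) ∈ Module.support A N :=
    Module.mem_support_iff_of_finite.mpr hJa
  have := isMin_of_dimQuot_eq d p N hd hp ⟨J, hJ⟩ hq hJp
  rw [← this]

theorem support_term_subset (N : Type u) [AddCommGroup N] [Module A N] :
    Function.support (fun p : PrimeSpectrum A =>
      ∑ᶠ (_ : ringKrullDim (A ⧸ p.asIdeal) = d), ((lp p N).toNat : ℝ) * e p) ⊆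
    {p : PrimeSpectrum A | ringKrullDim (A ⧸ p.asIdeal) = d ∧ p ∈ Module.support A N} := by
  intro p hp
  rw [Function.mem_support] at hp
  by_cases h1 : ringKrullDim (A ⧸ p.asIdeal) = d
  · refine ⟨h1, ?_⟩
    by_contra h2
    apply hp
    rw [lp_eq_zero_of_notMem_support p N h2, finsum_prop_pos h1]
    simp
  · exfalso
    apply hp
    exact finsum_prop_neg h1 _

theorem S_add {N₁ N₂ N₃ : Type u} [AddCommGroup N₁] [Module A N₁] [Module.Finite A N₁]
    [AddCommGroup N₂] [Module A N₂] [Module.Finite A N₂] [AddCommGroup N₃] [Module A N₃]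
    [Module.Finite A N₃]
    (f : N₁ →ₗ[A] N₂) (g : N₂ →ₗ[A] N₃) (hf : Function.Injective f) (hg : Function.Surjective g)
    (hex : Function.Exact f g) (hd : Module.supportDim A N₂ ≤ d) :
    S d e N₂ = S d e N₁ + S d e N₃ := by
  have hd1 : Module.supportDim A N₁ ≤ d := (Module.supportDim_le_of_injective f hf).trans hd
  have hd3 : Module.supportDim A N₃ ≤ d := (Module.supportDim_le_of_surjective g hg).trans hd
  unfold S
  rw [← finsum_add_distrib
    ((finite_top d N₁ hd1).subset (support_term_subset d e N₁))
    ((finite_top d N₃ hd3).subset (support_term_subset d e N₃))]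
  refine finsum_congr (fun p => ?_)
  by_cases hp : ringKrullDim (A ⧸ p.asIdeal) = d
  · rw [finsum_prop_pos hp, finsum_prop_pos hp, finsum_prop_pos hp]
    have h1 : lp p N₂ = lp p N₁ + lp p N₃ :=
      length_localized_add' p.asIdeal.primeCompl f g hf hg hex
    rw [h1, ENat.toNat_add (lp_ne_top d p N₁ hd1 hp) (lp_ne_top d p N₃ hd3 hp)]
    push_cast
    ring
  · rw [finsum_prop_neg hp, finsum_prop_neg hp, finsum_prop_neg hp, add_zero]

section Main

variable (hI : I ≤ maximalIdeal A ∧ ∃ n : ℕ, maximalIdeal A ^ n ≤ I)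

theorem T_of_subsingleton (N : Type u) [AddCommGroup N] [Module A N] [Subsingleton N] (t : ℕ) :
    T I d N t = 0 := by
  unfold T
  rw [Module.length_eq_zero]
  simp

include hI in
theorem T_congr {N N' : Type u} [AddCommGroup N] [Module A N] [Module.Finite A N]
    [AddCommGroup N'] [Module A N'] [Module.Finite A N'] (f : N ≃ₗ[A] N') :
    T I d N = T I d N' := by
  funext t
  rw [T_eq_chi, T_eq_chi]
  have hV := qMax_of_primary I hI.2
  have h1 := chi_le_of_surjective hV f.toLinearMap f.surjective t
  have h2 := chi_le_of_surjective hV f.symm.toLinearMap f.symm.surjective t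
  rw [le_antisymm h2 h1]

include hI in
theorem tendsto_zero_of_supportDim_lt (N : Type u) [AddCommGroup N] [Module A N]
    [Module.Finite A N] (h : Module.supportDim A N < d) :
    Tendsto (T I d N) atTop (nhds 0) := by
  have hV := qMax_of_primary I hI.2
  have hq := le_jacobson I hI.1
  by_cases hsub : Subsingleton N
  · have : T I d N = fun _ => 0 := funext (fun t => T_of_subsingleton I d N t)
    rw [this]
    exact tendsto_const_nhds
  · rw [not_subsingleton_iff_nontrivial] at hsub
    have hne : Module.supportDim A N ≠ ⊥ := Module.supportDim_ne_bot_of_nontrivial A N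
    obtain ⟨a, ha⟩ := WithBot.ne_bot_iff_exists.mp hne
    rw [← ha] at h
    have h5 : a < ((d : ℕ) : ℕ∞) := by exact_mod_cast h
    obtain ⟨δ, rfl⟩ := ENat.ne_top_iff_exists.mp (ne_top_of_lt h5)
    have h6 : δ < d := by exact_mod_cast h5
    obtain ⟨P, hP⟩ := exists_hsp hV N
    have h7 := degree_le hV hq δ N (by rw [← ha]; rfl) P hP
    set Q : ℝ[X] := P.map (algebraMap ℚ ℝ) with hQ
    have hdeg : Q.degree < (X ^ d : ℝ[X]).degree := by
      rw [hQ, Polynomial.degree_map, degree_X_pow]
      refine lt_of_le_of_lt h7 ?_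
      exact_mod_cast h6
    have h8 := ((div_tendsto_atTop_zero_of_degree_lt Q (X ^ d : ℝ[X]) hdeg).comp
      tendsto_natCast_atTop_atTop).const_mul (d.factorial : ℝ)
    rw [mul_zero] at h8
    refine h8.congr' ?_
    obtain ⟨N₀, hN₀⟩ := hP
    filter_upwards [eventually_ge_atTop N₀] with t ht
    rw [T_eq_chi]
    simp only [Function.comp_apply, eval_pow, eval_X]
    rw [hQ, Polynomial.eval_natCast_map, ← hN₀ t ht, mul_div_assoc]
    simp

theorem lp_of_equiv_quot {N : Type u} [AddCommGroup N] [Module A N] (p₀ p : PrimeSpectrum A)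
    (f : N ≃ₗ[A] A ⧸ p₀.asIdeal) (h : ¬ p₀ ≤ p) : lp p N = 0 := by
  apply lp_eq_zero_of_notMem_support
  rw [f.support_eq, Module.support_eq_zeroLocus, Ideal.annihilator_quotient,
    PrimeSpectrum.mem_zeroLocus]
  exact h

include hI in
theorem main (he : ∀ p : PrimeSpectrum A, ringKrullDim (A ⧸ p.asIdeal) = d →
      Tendsto (T I d (A ⧸ p.asIdeal)) atTop (nhds (e p))) :
    ∀ (M : Type u) [AddCommGroup M] [Module A M] [hM : Module.Finite A M],
      Module.supportDim A M ≤ d → Tendsto (T I d M) atTop (nhds (S d e M)) := by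
  intro M _ _ hM
  induction hM using IsNoetherianRing.induction_on_isQuotientEquivQuotientPrime A with
  | subsingleton N =>
    intro _
    have : T I d N = fun _ => 0 := funext (fun t => T_of_subsingleton I d N t)
    rw [this, S_eq_zero d e N (fun p _ => Module.length_eq_zero)]
    exact tendsto_const_nhds
  | quotient N p₀ f =>
    intro hd
    have hsd : Module.supportDim A N = ringKrullDim (A ⧸ p₀.asIdeal) := by
      rw [Module.supportDim_eq_of_equiv f, Module.supportDim_quotient_eq_ringKrullDim]
    by_cases htop : ringKrullDim (A ⧸ p₀.asIdeal) = d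
    · rw [T_congr I d hI f]
      have hS : S d e N = e p₀ := by
        unfold S
        rw [finsum_eq_single _ p₀, finsum_prop_pos htop]
        · have h1 : lp p₀ N = 1 := by
            unfold lp
            rw [length_localized_congr' _ f, length_localized_quot_self]
          rw [h1]
          simp
        · intro p hp
          by_cases hpd : ringKrullDim (A ⧸ p.asIdeal) = d
          · rw [finsum_prop_pos hpd]
            have : ¬ p₀ ≤ p := by
              intro hle
              have hlt : p₀ < p := lt_of_le_of_ne hle (Ne.symm hp)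
              have h1 : Order.coheight p + 1 ≤ Order.coheight p₀ := Order.coheight_add_one_le hlt
              rw [coheight_eq_of_dimQuot_eq d p hpd, coheight_eq_of_dimQuot_eq d p₀ htop] at h1
              have h4 : ((d + 1 : ℕ) : ℕ∞) ≤ (d : ℕ∞) := by
                push_cast
                exact h1
              have h5 : d + 1 ≤ d := by exact_mod_cast h4
              omega
            rw [lp_of_equiv_quot p₀ p f this]
            simp
          · rw [finsum_prop_neg hpd]
      rw [hS]
      exact he p₀ htop
    · have hlt : Module.supportDim A N < d := lt_of_le_of_ne hd (by rw [hsd]; exact htop)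
      rw [S_eq_zero d e N]
      · exact tendsto_zero_of_supportDim_lt I d hI N hlt
      · intro p hp
        apply lp_eq_zero_of_notMem_support
        intro hmem
        have := dimQuot_le_supportDim p N hmem
        rw [hp] at this
        exact absurd (lt_of_le_of_lt this hlt) (lt_irrefl _)
  | exact N₁ N₂ N₃ f g hf hg hex h₁ h₃ =>
    intro hd
    have hd1 : Module.supportDim A N₁ ≤ d := (Module.supportDim_le_of_injective f hf).trans hd
    have hd3 : Module.supportDim A N₃ ≤ d := (Module.supportDim_le_of_surjective g hg).trans hd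
    rw [S_add d e f g hf hg hex hd]
    exact Samuel2.main A I hI f g hf hg ((LinearMap.exact_iff.mp hex).symm) d _ _ (h₁ hd1) (h₃ hd3)

end Main

end Groth.Agent.Helper6.SamuelTop
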