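import Mathlib
import Groth.Agent.Helper6.HSamuel6
import Groth.Agent.Helper6.SamuelTop
import Groth.Agent.Helper6.Reduction

/-! The Samuel functions of an ideal and of a reduction differ by a polynomial of lower degree. -/

set_option autoImplicit false
universe u

namespace Groth.Agent.Helper6.SamuelDiff

open Groth.Agent.Helper6 Groth.Agent.Helper6.HSamuel Polynomial Filter Topology
open Groth.Agent.Helper6.HilbSerre Groth.Agent.Helper6.Reduction
open IsLocalRing

theorem tendsto_div_pow_of_degree_lt (D : ℚ[X]) (d : ℕ) (h : D.degree < (d : WithBot ℕ)) :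
    Tendsto (fun m : ℕ => ((D.eval (m : ℚ) : ℚ) : ℝ) / (m : ℝ) ^ d) atTop (𝓝 0) := by
  set Q : ℝ[X] := D.map (algebraMap ℚ ℝ) with hQ
  have hdeg : Q.degree < (X ^ d : ℝ[X]).degree := by
    rw [hQ, Polynomial.degree_map, degree_X_pow]
    exact h
  have h8 := (div_tendsto_atTop_zero_of_degree_lt Q (X ^ d : ℝ[X]) hdeg).comp
    tendsto_natCast_atTop_atTop
  refine h8.congr' ?_
  filter_upwards with t
  simp only [Function.comp_apply, eval_pow, eval_X]
  rw [hQ, Polynomial.eval_natCast_map]
  simp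

variable {A : Type u} [CommRing A] [IsNoetherianRing A]

theorem chi_self (q : Ideal A) (m : ℕ) :
    chi q A m = ((Module.length A (A ⧸ q ^ m)).toNat : ℤ) := by
  unfold chi
  have h : q ^ m • (⊤ : Submodule A A) = q ^ m := by
    rw [smul_eq_mul, Ideal.mul_top]
  rw [(Submodule.quotEquivOfEq _ _ h).length_eq]

theorem chi_anti {a b : Ideal A} (hVb : QMax b) (hba : b ≤ a) (m : ℕ) :
    chi a A m ≤ chi b A m := by
  unfold chi
  apply toNat_le (length_chi_ne_top hVb A m)
  exact Module.length_le_of_surjective _ (Submodule.factor_surjective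
    (Submodule.smul_mono_left (Ideal.pow_right_mono hba m)))

theorem chi_le_shift {a b : Ideal A} (hVa : QMax a) (r : ℕ) (h : ∀ m : ℕ, a ^ (m + r) ≤ b ^ m)
    (m : ℕ) : chi b A m ≤ chi a A (m + r) := by
  unfold chi
  apply toNat_le (length_chi_ne_top hVa A (m + r))
  exact Module.length_le_of_surjective _ (Submodule.factor_surjective
    (Submodule.smul_mono_left (h m)))

variable [IsLocalRing A]

theorem main (d : ℕ) (hd : ringKrullDim A = d) (a b : Ideal A) (hba : b ≤ a)
    (ha : a ≤ maximalIdeal A) (hb : ∃ N : ℕ, maximalIdeal A ^ N ≤ b)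
    (hred : Red b a) :
    Tendsto (fun m : ℕ => (((Module.length A (A ⧸ b ^ m)).toNat : ℝ) -
        ((Module.length A (A ⧸ a ^ m)).toNat : ℝ)) / (m : ℝ) ^ d) atTop (𝓝 0) := by
  have hVb : QMax b := SamuelTop.qMax_of_primary b hb
  have hVa : QMax a := SamuelTop.qMax_of_primary a (hb.imp fun N hN => hN.trans hba)
  have hqa : a ≤ (⊥ : Ideal A).jacobson := SamuelTop.le_jacobson a ha
  obtain ⟨r, hr⟩ := hred
  obtain ⟨Pa, hPa⟩ := exists_hsp hVa A
  obtain ⟨Pb, hPb⟩ := exists_hsp hVb A
  have hdegPa : Pa.degree ≤ (d : WithBot ℕ) :=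
    degree_le hVa hqa d A (by rw [Module.supportDim_self_eq_ringKrullDim, hd]) Pa hPa
  obtain ⟨Na, hNa⟩ := hPa
  obtain ⟨Nb, hNb⟩ := hPb
  have hD : (Pb - Pa).degree < (d : WithBot ℕ) := by
    have h1 : (Pb - Pa).degree ≤ (taylor (r : ℚ) Pa - Pa).degree := by
      refine degree_le_of_eventually_le (max Na Nb) (fun i hi => ?_)
      have hia : Na ≤ i := le_trans (le_max_left _ _) hi
      have hib : Nb ≤ i := le_trans (le_max_right _ _) hi
      have e1 := hNa i hia
      have e2 := hNb i hib
      have e3 := hNa (i + r) (by omega)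
      rw [eval_sub, eval_sub, eval_taylor', ← e1, ← e2]
      have e4 : ((i : ℚ) + (r : ℚ)) = ((i + r : ℕ) : ℚ) := by push_cast; rfl
      rw [e4, ← e3]
      have k1 := chi_anti hVb hba i
      have k2 := chi_le_shift hVa r hr i
      constructor
      · rw [sub_nonneg]
        exact_mod_cast k1
      · rw [sub_le_sub_iff_right]
        exact_mod_cast k2
    by_cases hPa0 : Pa = 0
    · simp only [hPa0, map_zero, sub_zero, degree_zero] at h1
      rw [hPa0, sub_zero]
      exact lt_of_le_of_lt h1 (WithBot.bot_lt_coe _)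
    · have h2 := degree_sub_taylor_lt Pa hPa0 (r : ℚ)
      have h3 : (taylor (r : ℚ) Pa - Pa).degree = (Pa - taylor (r : ℚ) Pa).degree := by
        rw [← degree_neg, neg_sub]
      rw [h3] at h1
      exact lt_of_le_of_lt h1 (lt_of_lt_of_le h2 hdegPa)
  refine (tendsto_div_pow_of_degree_lt (Pb - Pa) d hD).congr' ?_
  filter_upwards [eventually_ge_atTop (max Na Nb)] with i hi
  have hia : Na ≤ i := le_trans (le_max_left _ _) hi
  have hib : Nb ≤ i := le_trans (le_max_right _ _) hi
  rw [eval_sub, ← hNa i hia, ← hNb i hib, chi_self, chi_self]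
  push_cast
  rfl

end Groth.Agent.Helper6.SamuelDiff
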