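import Mathlib
import Groth.Agent.Helper6.SamuelDiff
import Groth.Agent.Helper6.SamuelTop

/-! Existence, integrality and positivity of the Samuel multiplicity. -/

set_option autoImplicit false
universe u

namespace Groth.Agent.Helper6.SamuelLimit

open Groth.Agent.Helper6 Groth.Agent.Helper6.HSamuel Polynomial Filter Topology
open Groth.Agent.Helper6.HilbSerre Groth.Agent.Helper6.SamuelTop Groth.Agent.Helper6.SamuelDiff
open IsLocalRing

section Poly

theorem tendsto_eval_div_pow (P : ℚ[X]) (d : ℕ) (h : P.degree ≤ (d : WithBot ℕ)) :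
    Tendsto (fun m : ℕ => ((P.eval (m : ℚ) : ℚ) : ℝ) / (m : ℝ) ^ d) atTop
      (𝓝 ((P.coeff d : ℚ) : ℝ)) := by
  set c := P.coeff d with hc
  set R := P - C c * X ^ d with hR
  have hRdeg : R.degree < (d : WithBot ℕ) := by
    rw [degree_lt_iff_coeff_zero]
    intro k hk
    rw [hR, coeff_sub, coeff_C_mul, coeff_X_pow]
    rcases eq_or_lt_of_le hk with rfl | hlt
    · simp [hc]
    · rw [if_neg (by omega), mul_zero, sub_zero]
      exact coeff_eq_zero_of_degree_lt (lt_of_le_of_lt h (by exact_mod_cast hlt))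
  have h1 := tendsto_div_pow_of_degree_lt R d hRdeg
  have h2 : Tendsto (fun _ : ℕ => ((c : ℚ) : ℝ)) atTop (𝓝 ((c : ℚ) : ℝ)) := tendsto_const_nhds
  have h3 := h1.add h2
  rw [zero_add] at h3
  refine h3.congr' ?_
  filter_upwards [eventually_gt_atTop 0] with m hm
  have hm' : (m : ℝ) ^ d ≠ 0 := by positivity
  rw [hR, eval_sub, eval_mul, eval_C, eval_pow, eval_X]
  push_cast
  field_simp
  ring

theorem coeff_taylor_sub (P : ℚ[X]) (d : ℕ) (h : P.natDegree ≤ d + 1) :
    (taylor 1 P - P).coeff d = ((d : ℚ) + 1) * P.coeff (d + 1) := by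
  rw [coeff_sub, taylor_coeff]
  have hdeg : (hasseDeriv d P).natDegree < 2 := by
    have := natDegree_hasseDeriv_le P d
    omega
  rw [eval_eq_sum_range' hdeg, Finset.sum_range_succ, Finset.sum_range_one,
    hasseDeriv_coeff, hasseDeriv_coeff]
  have e1 : 0 + d = d := by omega
  have e2 : 1 + d = d + 1 := by omega
  rw [e1, e2, Nat.choose_self, Nat.choose_succ_self_right]
  push_cast
  ring

theorem natDegree_taylor_sub_le (P : ℚ[X]) (d : ℕ) (h : P.natDegree ≤ d + 1) :
    (taylor 1 P - P).natDegree ≤ d := by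
  by_cases hQ : taylor 1 P - P = 0
  · rw [hQ, natDegree_zero]
    exact Nat.zero_le _
  · have hP : P ≠ 0 := by
      intro hP
      apply hQ
      rw [hP, map_zero, sub_zero]
    have h1 := degree_sub_taylor_lt P hP 1
    have h2 : (taylor 1 P - P).degree = (P - taylor 1 P).degree := by
      rw [← degree_neg, neg_sub]
    rw [← h2] at h1
    have h3 := natDegree_lt_natDegree hQ h1
    omega

/-- an eventually integer-valued polynomial of degree at most `d` has `d! * coeff d` integral. -/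
theorem factorial_mul_coeff_isInt : ∀ (d : ℕ) (P : ℚ[X]), P.natDegree ≤ d →
    (∃ N : ℕ, ∀ i : ℕ, N ≤ i → ∃ z : ℤ, P.eval (i : ℚ) = z) →
    ∃ z : ℤ, (d.factorial : ℚ) * P.coeff d = z := by
  intro d
  induction d with
  | zero =>
    intro P hP ⟨N, hN⟩
    obtain ⟨z, hz⟩ := hN N le_rfl
    refine ⟨z, ?_⟩
    rw [eq_C_of_natDegree_le_zero hP, eval_C] at hz
    rw [Nat.factorial_zero, Nat.cast_one, one_mul, hz]
  | succ d ih =>
    intro P hP ⟨N, hN⟩
    obtain ⟨z, hz⟩ := ih (taylor 1 P - P) (natDegree_taylor_sub_le P d hP) ⟨N, fun i hi => by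
      obtain ⟨z1, hz1⟩ := hN i hi
      obtain ⟨z2, hz2⟩ := hN (i + 1) (by omega)
      refine ⟨z2 - z1, ?_⟩
      rw [eval_sub, eval_taylor', hz1]
      have : ((i : ℚ) + 1) = ((i + 1 : ℕ) : ℚ) := by push_cast; rfl
      rw [this, hz2]
      push_cast
      rfl⟩
    refine ⟨z, ?_⟩
    rw [← hz, coeff_taylor_sub P d hP, Nat.factorial_succ]
    push_cast
    ring

/-- positivity of the top coefficient. -/
theorem coeff_nonneg_of_eventually_nonneg (P : ℚ[X]) (d : ℕ) (h : P.degree ≤ (d : WithBot ℕ))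
    (hpos : ∃ N : ℕ, ∀ i : ℕ, N ≤ i → 0 ≤ P.eval (i : ℚ)) : 0 ≤ P.coeff d := by
  obtain ⟨N, hN⟩ := hpos
  have h1 := tendsto_eval_div_pow P d h
  have h2 : (0 : ℝ) ≤ ((P.coeff d : ℚ) : ℝ) := by
    refine ge_of_tendsto h1 ?_
    filter_upwards [eventually_ge_atTop N] with i hi
    have : (0 : ℝ) ≤ ((P.eval (i : ℚ) : ℚ) : ℝ) := by exact_mod_cast hN i hi
    positivity
  exact_mod_cast h2

theorem one_le_factorial_mul_coeff (P : ℚ[X]) (d : ℕ) (h : P.degree ≤ (d : WithBot ℕ))
    (hne : P.coeff d ≠ 0)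
    (hint : ∃ N : ℕ, ∀ i : ℕ, N ≤ i → ∃ z : ℤ, P.eval (i : ℚ) = z)
    (hpos : ∃ N : ℕ, ∀ i : ℕ, N ≤ i → 0 ≤ P.eval (i : ℚ)) :
    (1 : ℚ) ≤ (d.factorial : ℚ) * P.coeff d := by
  obtain ⟨z, hz⟩ := factorial_mul_coeff_isInt d P (natDegree_le_of_degree_le h) hint
  have h1 := coeff_nonneg_of_eventually_nonneg P d h hpos
  have h2 : 0 < P.coeff d := lt_of_le_of_ne h1 (Ne.symm hne)
  have h3 : (0 : ℚ) < (d.factorial : ℚ) * P.coeff d := by positivity
  rw [hz] at h3 ⊢
  have h4 : 0 < z := by exact_mod_cast h3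
  exact_mod_cast h4

end Poly

section Mod

variable {A : Type u} [CommRing A] [IsNoetherianRing A] [IsLocalRing A]
  (I : Ideal A) (hI : I ≤ maximalIdeal A ∧ ∃ n : ℕ, maximalIdeal A ^ n ≤ I) (d : ℕ)

/-- the Samuel multiplicity (normalized in dimension `d`). -/
noncomputable def mult (M : Type u) [AddCommGroup M] [Module A M] : ℝ :=
  limUnder atTop (T I d M)

include hI in
theorem tendsto_T_coeff (M : Type u) [AddCommGroup M] [Module A M] [Module.Finite A M]
    (hd : Module.supportDim A M ≤ d) (P : ℚ[X]) (hP : HasHP (chi I M) P) :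
    Tendsto (T I d M) atTop (𝓝 ((d.factorial : ℝ) * ((P.coeff d : ℚ) : ℝ))) := by
  have hV := qMax_of_primary I hI.2
  have hq := le_jacobson I hI.1
  have hdeg := degree_le hV hq d M hd P hP
  have h1 := (tendsto_eval_div_pow P d hdeg).const_mul (d.factorial : ℝ)
  refine h1.congr' ?_
  obtain ⟨N₀, hN₀⟩ := hP
  filter_upwards [eventually_ge_atTop N₀] with t ht
  rw [T_eq_chi, ← hN₀ t ht, mul_div_assoc]
  simp

include hI in
theorem tendsto_T_mult (M : Type u) [AddCommGroup M] [Module A M] [Module.Finite A M]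
    (hd : Module.supportDim A M ≤ d) : Tendsto (T I d M) atTop (𝓝 (mult I d M)) := by
  obtain ⟨P, hP⟩ := exists_hsp (qMax_of_primary I hI.2) M
  have h := tendsto_T_coeff I hI d M hd P hP
  unfold mult
  rw [h.limUnder_eq]
  exact h

include hI in
theorem one_le_mult (M : Type u) [AddCommGroup M] [Module A M] [Module.Finite A M]
    (hd : Module.supportDim A M = d) : 1 ≤ mult I d M := by
  have hV := qMax_of_primary I hI.2
  have hq := le_jacobson I hI.1
  obtain ⟨P, hP⟩ := exists_hsp hV M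
  have h := tendsto_T_coeff I hI d M hd.le P hP
  unfold mult
  rw [h.limUnder_eq]
  have hdeg := degree_le hV hq d M hd.le P hP
  have hne : P.coeff d ≠ 0 := by
    intro h0
    have hlt : P.degree < (d : WithBot ℕ) := by
      rw [degree_lt_iff_coeff_zero]
      intro k hk
      rcases eq_or_lt_of_le hk with rfl | hlt
      · exact h0
      · exact coeff_eq_zero_of_degree_lt (lt_of_le_of_lt hdeg (by exact_mod_cast hlt))
    have := supportDim_lt hV hq d M P hP hlt
    rw [hd] at this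
    exact lt_irrefl _ this
  obtain ⟨N₀, hN₀⟩ := hP
  have h1 := one_le_factorial_mul_coeff P d hdeg hne
    ⟨N₀, fun i hi => ⟨chi I M i, (hN₀ i hi).symm⟩⟩
    ⟨N₀, fun i hi => by rw [← hN₀ i hi]; exact_mod_cast chi_nonneg M i⟩
  have h2 : ((1 : ℚ) : ℝ) ≤ (((d.factorial : ℚ) * P.coeff d : ℚ) : ℝ) := by exact_mod_cast h1
  push_cast at h2
  exact h2

end Mod

end Groth.Agent.Helper6.SamuelLimit
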