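import Mathlib
import Groth.Agent.Helper6.HilbProj3
import Groth.Agent.Helper6.LocLocLength
import Groth.Agent.Helper6.SamuelLimit

set_option autoImplicit false

/-!
# Degree of a graded quotient of a polynomial ring as a sum over top-dimensional components
-/

namespace Groth.Agent.Helper6.HilbProj

open MvPolynomial IsLocalRing Polynomial

attribute [local instance] MvPolynomial.gradedAlgebra

universe u

section Primes

variable (k : Type u) [Field k] (n : ℕ)

/-- the natural map `R/I → A/IA` -/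
noncomputable def toQuotA (I : Ideal (MvPolynomial (Fin (n + 1)) k)) :
    (MvPolynomial (Fin (n + 1)) k ⧸ I) →ₗ[MvPolynomial (Fin (n + 1)) k] (A k n ⧸ IA k n I) :=
  ((Submodule.quotEquivOfEq _ _ (Ideal.localized'_eq_map (A k n)
    (idealOfVars (Fin (n + 1)) k).primeCompl I)).restrictScalars (MvPolynomial (Fin (n + 1)) k)).toLinearMap ∘ₗ
    (Submodule.toLocalizedQuotient' (A k n) (idealOfVars (Fin (n + 1)) k).primeCompl
      (Algebra.linearMap (MvPolynomial (Fin (n + 1)) k) (A k n)) I)

instance (I : Ideal (MvPolynomial (Fin (n + 1)) k)) :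
    IsLocalizedModule (idealOfVars (Fin (n + 1)) k).primeCompl (toQuotA k n I) := by
  unfold toQuotA
  exact IsLocalizedModule.of_linearEquiv _ _ _

end Primes


section Primes2

variable (k : Type u) [Field k] (n : ℕ) (p : Ideal (MvPolynomial (Fin (n + 1)) k))

theorem disjoint_of_le (hpm : p ≤ idealOfVars (Fin (n + 1)) k) :
    Disjoint ((idealOfVars (Fin (n + 1)) k).primeCompl : Set (MvPolynomial (Fin (n + 1)) k)) ↑p := by
  rw [Set.disjoint_left]
  intro x hx hxp
  exact hx (hpm hxp)

theorem IA_isPrime [hp : p.IsPrime] (hpm : p ≤ idealOfVars (Fin (n + 1)) k) :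
    (IA k n p).IsPrime :=
  IsLocalization.isPrime_of_isPrime_disjoint (idealOfVars (Fin (n + 1)) k).primeCompl (A k n) p hp
    (disjoint_of_le k n p hpm)

theorem comap_IA [hp : p.IsPrime] (hpm : p ≤ idealOfVars (Fin (n + 1)) k) :
    (IA k n p).comap (algebraMap (MvPolynomial (Fin (n + 1)) k) (A k n)) = p :=
  IsLocalization.under_map_of_isPrime_disjoint (idealOfVars (Fin (n + 1)) k).primeCompl (A k n) hp
    (disjoint_of_le k n p hpm)

/-- the length of `(A/IA)` localized at `pA` is the length of `(R/I)_p` -/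
theorem length_localized_IA (I : Ideal (MvPolynomial (Fin (n + 1)) k)) [hp : p.IsPrime]
    (hpm : p ≤ idealOfVars (Fin (n + 1)) k) :
    haveI := IA_isPrime k n p hpm
    Module.length (Localization.AtPrime (IA k n p))
      (LocalizedModule (IA k n p).primeCompl (A k n ⧸ IA k n I)) =
    Module.length (Localization.AtPrime p)
      (LocalizedModule p.primeCompl (MvPolynomial (Fin (n + 1)) k ⧸ I)) := by
  haveI := IA_isPrime k n p hpm
  rw [Groth.Agent.Helper6.LocLocLength.length_localized_localized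
    (idealOfVars (Fin (n + 1)) k).primeCompl (A k n) (IA k n p) (toQuotA k n I)]
  have key : ∀ (q : Ideal (MvPolynomial (Fin (n + 1)) k)) [q.IsPrime], q = p →
      Module.length (Localization.AtPrime q)
        (LocalizedModule q.primeCompl (MvPolynomial (Fin (n + 1)) k ⧸ I)) =
      Module.length (Localization.AtPrime p)
        (LocalizedModule p.primeCompl (MvPolynomial (Fin (n + 1)) k ⧸ I)) := by
    rintro q _ rfl
    rfl
  exact key _ (comap_IA k n p hpm)

end Primes2


section Limit

open Groth.Agent.Helper6.HSamuel Groth.Agent.Helper6.HilbSerre Groth.Agent.Helper6.SamuelTop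
  Groth.Agent.Helper6.SamuelLimit Filter Topology

theorem coeff_sub_taylor (Q : ℚ[X]) (hQ : 1 ≤ Q.natDegree) :
    (Q - taylor (-1) Q).coeff (Q.natDegree - 1) = (Q.natDegree : ℚ) * Q.coeff Q.natDegree := by
  set m := Q.natDegree with hm
  rw [Polynomial.coeff_sub, taylor_coeff]
  have hdeg : (hasseDeriv (m - 1) Q).natDegree < 2 := by
    have := natDegree_hasseDeriv_le Q (m - 1)
    omega
  rw [eval_eq_sum_range' hdeg, Finset.sum_range_succ, Finset.sum_range_one,
    hasseDeriv_coeff, hasseDeriv_coeff]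
  have e1 : 0 + (m - 1) = m - 1 := by omega
  have e2 : 1 + (m - 1) = m := by omega
  rw [e1, e2, Nat.choose_self]
  have e3 : m.choose (m - 1) = m := by
    rw [← Nat.choose_symm (by omega : m - 1 ≤ m)]
    have : m - (m - 1) = 1 := by omega
    rw [this, Nat.choose_one_right]
  rw [e3]
  push_cast
  ring

variable (k : Type u) [Field k] (n : ℕ) (J : Ideal (MvPolynomial (Fin (n + 1)) k))

theorem chi_eq (hJ : J.IsHomogeneous (homogeneousSubmodule (Fin (n + 1)) k)) (t : ℕ) :
    chi (maximalIdeal (A k n)) (A k n ⧸ IA k n J) t =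
      ((∑ i ∈ Finset.range t, H J i : ℕ) : ℤ) := by
  unfold chi
  rw [length_samuel k n J hJ t, ENat.toNat_natCast]

theorem hI_max : maximalIdeal (A k n) ≤ maximalIdeal (A k n) ∧
    ∃ m : ℕ, maximalIdeal (A k n) ^ m ≤ maximalIdeal (A k n) :=
  ⟨le_rfl, 1, by rw [pow_one]⟩

/-- the normalized Samuel function of `R/J` at the vertex tends to `(deg P)! · lc P` -/
theorem tendsto_T (hJ : J.IsHomogeneous (homogeneousSubmodule (Fin (n + 1)) k)) (hJtop : J ≠ ⊤)
    (P : ℚ[X]) (hP0 : P ≠ 0) (m₀ : ℕ)
    (hPH : ∀ m : ℕ, m₀ ≤ m → P.eval (m : ℚ) = (H J m : ℚ)) :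
    Tendsto (T (maximalIdeal (A k n)) (P.natDegree + 1) (A k n ⧸ IA k n J)) atTop
      (𝓝 (((P.natDegree.factorial : ℚ) * P.leadingCoeff : ℚ) : ℝ)) := by
  obtain ⟨Qp, ⟨N, hN⟩, hdeg⟩ := exists_samuel_poly k n J hJ hJtop
  have hHP : HasHP (chi (maximalIdeal (A k n)) (A k n ⧸ IA k n J)) Qp :=
    ⟨N, fun i hi => by rw [chi_eq k n J hJ, hN i hi]; push_cast; rfl⟩
  have hdiff := samuel_sub_taylor k n J Qp P N m₀ hN hPH
  have hnat := natDegree_of_sub_taylor Qp P hP0 hdiff
  have hsd : Module.supportDim (A k n) (A k n ⧸ IA k n J) ≤ ((P.natDegree + 1 : ℕ) : WithBot ℕ∞) := by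
    rw [supportDim_quot k n J hJ hJtop, ← hdeg, hnat]
  have h := tendsto_T_coeff (maximalIdeal (A k n)) (hI_max k n) (P.natDegree + 1)
    (A k n ⧸ IA k n J) hsd Qp hHP
  have hcoef : ((P.natDegree + 1 : ℕ) : ℚ) * Qp.coeff (P.natDegree + 1) = P.leadingCoeff := by
    have h1 := coeff_sub_taylor Qp (by omega)
    rw [hnat, hdiff] at h1
    have h2 : (taylor (-1) P).coeff (P.natDegree + 1 - 1) = P.leadingCoeff := by
      rw [Nat.add_sub_cancel, ← leadingCoeff_taylor (r := (-1 : ℚ)) (f := P), leadingCoeff,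
        natDegree_taylor]
    rw [h2] at h1
    exact h1.symm
  have heq : (((P.natDegree + 1).factorial : ℝ) * ((Qp.coeff (P.natDegree + 1) : ℚ) : ℝ)) =
      (((P.natDegree.factorial : ℚ) * P.leadingCoeff : ℚ) : ℝ) := by
    rw [← hcoef, Nat.factorial_succ]
    push_cast
    ring
  rw [heq] at h
  exact h

end Limit


section Dims

open Groth.Agent.Helper6.HSamuel Groth.Agent.Helper6.HilbSerre

variable (k : Type u) [Field k] (n : ℕ) (J : Ideal (MvPolynomial (Fin (n + 1)) k))

theorem H_anti {I J : Ideal (MvPolynomial (Fin (n + 1)) k)} (hIJ : I ≤ J) (t : ℕ) :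
    H J t ≤ H I t := by
  unfold H
  have : Module.finrank k ↥(Submodule.restrictScalars k I ⊓ homogeneousSubmodule (Fin (n + 1)) k t) ≤
      Module.finrank k ↥(Submodule.restrictScalars k J ⊓ homogeneousSubmodule (Fin (n + 1)) k t) := by
    haveI : Module.Finite k ↥(Submodule.restrictScalars k J ⊓
        homogeneousSubmodule (Fin (n + 1)) k t) :=
      Module.Finite.of_injective (Submodule.inclusion inf_le_right)
        (Submodule.inclusion_injective _)
    exact Submodule.finrank_mono (inf_le_inf_right _ (fun x hx => hIJ hx))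
  omega

/-- if the Hilbert function eventually vanishes, the quotient has dimension zero -/
theorem dim_eq_zero_of_H_eventually_zero
    (hJ : J.IsHomogeneous (homogeneousSubmodule (Fin (n + 1)) k)) (hJtop : J ≠ ⊤)
    (m₀ : ℕ) (h0 : ∀ m : ℕ, m₀ ≤ m → H J m = 0) :
    ringKrullDim (MvPolynomial (Fin (n + 1)) k ⧸ J) = 0 := by
  obtain ⟨Qp, ⟨N, hN⟩, hdeg⟩ := exists_samuel_poly k n J hJ hJtop
  have hdiff : Qp - taylor (-1) Qp = taylor (-1) (0 : ℚ[X]) :=
    samuel_sub_taylor k n J Qp 0 N m₀ hN (fun m hm => by rw [h0 m hm]; simp)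
  rw [map_zero] at hdiff
  have hnat : Qp.natDegree = 0 := by
    by_contra hne
    have h1 := coeff_sub_taylor Qp (by omega)
    rw [hdiff, Polynomial.coeff_zero] at h1
    have h2 : (Qp.natDegree : ℚ) ≠ 0 := by exact_mod_cast hne
    have h3 : Qp.coeff Qp.natDegree ≠ 0 := by
      have : Qp ≠ 0 := by
        rintro rfl
        exact hne natDegree_zero
      exact leadingCoeff_ne_zero.mpr this
    exact (mul_ne_zero h2 h3) h1.symm
  rw [← hdeg, hnat]
  rfl

end Dims


section Assoc

open Groth.Agent.Helper6.HSamuel Groth.Agent.Helper6.HilbSerre Groth.Agent.Helper6.SamuelTop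
  Groth.Agent.Helper6.SamuelLimit Filter Topology

variable (k : Type u) [Field k] (n : ℕ) (I : Ideal (MvPolynomial (Fin (n + 1)) k))

theorem dim_quot_IA (J : Ideal (MvPolynomial (Fin (n + 1)) k))
    (hJ : J.IsHomogeneous (homogeneousSubmodule (Fin (n + 1)) k)) (hJtop : J ≠ ⊤) :
    ringKrullDim (A k n ⧸ IA k n J) = ringKrullDim (MvPolynomial (Fin (n + 1)) k ⧸ J) := by
  rw [← supportDim_quot k n J hJ hJtop, Module.supportDim_quotient_eq_ringKrullDim]

theorem main2 (hIh : I.IsHomogeneous (homogeneousSubmodule (Fin (n + 1)) k))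
    (P : ℚ[X])
    (hP : ∃ m₀ : ℕ, ∀ m : ℕ, m₀ ≤ m → P.eval (m : ℚ) =
      (Module.finrank k ↥(homogeneousSubmodule (Fin (n + 1)) k m) : ℚ) -
        Module.finrank k ↥(Submodule.restrictScalars k I ⊓ homogeneousSubmodule (Fin (n + 1)) k m))
    (r : ℕ) (p : Fin r → Ideal (MvPolynomial (Fin (n + 1)) k)) [hp : ∀ i, (p i).IsPrime]
    (hpinj : Function.Injective p)
    (hpmin : ∀ q : Ideal (MvPolynomial (Fin (n + 1)) k), q ∈ I.minimalPrimes ↔ ∃ i, q = p i)
    (Qp : Fin r → ℚ[X])
    (hQp : ∀ i, ∃ m₀ : ℕ, ∀ m : ℕ, m₀ ≤ m → (Qp i).eval (m : ℚ) =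
      (Module.finrank k ↥(homogeneousSubmodule (Fin (n + 1)) k m) : ℚ) -
        Module.finrank k ↥(Submodule.restrictScalars k (p i) ⊓
          homogeneousSubmodule (Fin (n + 1)) k m)) :
    (P.natDegree.factorial : ℚ) * P.leadingCoeff =
      ∑ i : Fin r, if (Qp i).natDegree = P.natDegree then
        ((Qp i).natDegree.factorial : ℚ) * (Qp i).leadingCoeff *
          (Module.length (Localization.AtPrime (p i))
            (LocalizedModule (p i).primeCompl (MvPolynomial (Fin (n + 1)) k ⧸ I))).toNat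
      else 0 := by
  classical
  obtain ⟨m₀, hm₀⟩ := hP
  have hPH : ∀ m : ℕ, m₀ ≤ m → P.eval (m : ℚ) = (H I m : ℚ) := by
    intro m hm
    rw [H_cast]
    exact hm₀ m hm
  have hQH : ∀ i, ∃ mi : ℕ, ∀ m : ℕ, mi ≤ m → (Qp i).eval (m : ℚ) = (H (p i) m : ℚ) := by
    intro i
    obtain ⟨mi, hmi⟩ := hQp i
    exact ⟨mi, fun m hm => by rw [H_cast]; exact hmi m hm⟩
  have hmin : ∀ i, p i ∈ I.minimalPrimes := fun i => (hpmin _).2 ⟨i, rfl⟩
  have hhom : ∀ i, (p i).IsHomogeneous (homogeneousSubmodule (Fin (n + 1)) k) := fun i =>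
    Groth.Agent.Helper6.CINormal.isHomogeneous_of_mem_minimalPrimes k (Fin (n + 1)) I hIh _ (hmin i)
  have hle : ∀ i, p i ≤ idealOfVars (Fin (n + 1)) k := fun i =>
    le_idealOfVars k n (p i) (hhom i) (hp i).ne_top
  have hIp : ∀ i, I ≤ p i := fun i => (hmin i).1.2
  by_cases hP0 : P = 0
  · have hQ0 : ∀ i, Qp i = 0 := by
      intro i
      obtain ⟨mi, hmi⟩ := hQH i
      apply poly_eq_of_eventually_eq (max m₀ mi)
      intro t ht
      rw [hmi t (by omega), Polynomial.eval_zero]
      have h1 := hPH t (by omega)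
      rw [hP0, Polynomial.eval_zero] at h1
      have h2 : H I t = 0 := by exact_mod_cast h1.symm
      have h3 := H_anti k n (hIp i) t
      have h4 : H (p i) t = 0 := by omega
      rw [h4]
      simp
    simp [hP0, hQ0]
  · have hItop : I ≠ ⊤ := by
      rintro rfl
      apply hP0
      apply poly_eq_of_eventually_eq m₀
      intro i hi
      rw [hPH i hi, Polynomial.eval_zero, H_top]
      simp
    have hdimI : ringKrullDim (MvPolynomial (Fin (n + 1)) k ⧸ I) =
        ((P.natDegree + 1 : ℕ) : WithBot ℕ∞) := by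
      rw [main k n I hIh P hP0 ⟨m₀, hm₀⟩]
      rfl
    set d := P.natDegree + 1 with hd
    have hlimM := tendsto_T k n I hIh hItop P hP0 m₀ hPH
    let e : PrimeSpectrum (A k n) → ℝ := fun 𝔭 =>
      mult (maximalIdeal (A k n)) d (A k n ⧸ 𝔭.asIdeal)
    have he : ∀ 𝔭 : PrimeSpectrum (A k n), ringKrullDim (A k n ⧸ 𝔭.asIdeal) = d →
        Tendsto (T (maximalIdeal (A k n)) d (A k n ⧸ 𝔭.asIdeal)) atTop (𝓝 (e 𝔭)) := fun 𝔭 h𝔭 =>
      tendsto_T_mult (maximalIdeal (A k n)) (hI_max k n) d _
        (by rw [Module.supportDim_quotient_eq_ringKrullDim, h𝔭])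
    have hsd : Module.supportDim (A k n) (A k n ⧸ IA k n I) ≤ (d : WithBot ℕ∞) := by
      rw [supportDim_quot k n I hIh hItop, hdimI]
    have hS := SamuelTop.main (maximalIdeal (A k n)) d e (hI_max k n) he (A k n ⧸ IA k n I) hsd
    have heq : S d e (A k n ⧸ IA k n I) =
        (((P.natDegree.factorial : ℚ) * P.leadingCoeff : ℚ) : ℝ) := tendsto_nhds_unique hS hlimM
    -- the primes `p i A`
    let φ : Fin r → PrimeSpectrum (A k n) := fun i => ⟨IA k n (p i), IA_isPrime k n (p i) (hle i)⟩
    have hφinj : Function.Injective φ := by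
      intro i j hij
      apply hpinj
      have h1 : IA k n (p i) = IA k n (p j) := congrArg PrimeSpectrum.asIdeal hij
      rw [← comap_IA k n (p i) (hle i), ← comap_IA k n (p j) (hle j), h1]
    have hφsupp : ∀ i, φ i ∈ Module.support (A k n) (A k n ⧸ IA k n I) := by
      intro i
      rw [Module.mem_support_iff_of_finite, Ideal.annihilator_quotient]
      exact Ideal.map_mono (hIp i)
    -- the support of the sum
    have hsupp : (Function.support fun 𝔭 : PrimeSpectrum (A k n) =>
        ∑ᶠ (_ : ringKrullDim (A k n ⧸ 𝔭.asIdeal) = d),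
          ((lp 𝔭 (A k n ⧸ IA k n I)).toNat : ℝ) * e 𝔭) ⊆ ↑(Finset.univ.image φ) := by
      intro 𝔭 h𝔭
      rw [Function.mem_support] at h𝔭
      have hdim𝔭 : ringKrullDim (A k n ⧸ 𝔭.asIdeal) = d := by
        by_contra hne
        exact h𝔭 (finsum_prop_neg hne _)
      rw [finsum_prop_pos hdim𝔭] at h𝔭
      have hsupp𝔭 : 𝔭 ∈ Module.support (A k n) (A k n ⧸ IA k n I) := by
        by_contra hns
        apply h𝔭
        rw [lp_eq_zero_of_notMem_support 𝔭 _ hns]
        simp
      have hmin𝔭 := isMin_of_dimQuot_eq d 𝔭 (A k n ⧸ IA k n I) hsd hdim𝔭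
      have hIA𝔭 : IA k n I ≤ 𝔭.asIdeal := by
        rw [Module.mem_support_iff_of_finite, Ideal.annihilator_quotient] at hsupp𝔭
        exact hsupp𝔭
      have hIq : I ≤ 𝔭.asIdeal.comap (algebraMap (MvPolynomial (Fin (n + 1)) k) (A k n)) :=
        Ideal.map_le_iff_le_comap.1 hIA𝔭
      obtain ⟨q', hq'min, hq'le⟩ := Ideal.exists_minimalPrimes_le hIq
      obtain ⟨i, rfl⟩ := (hpmin q').1 hq'min
      have hle𝔭 : φ i ≤ 𝔭 := by
        show IA k n (p i) ≤ 𝔭.asIdeal
        exact (Ideal.map_mono hq'le).trans Ideal.map_comap_le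
      have := hmin𝔭 (φ i) (hφsupp i) hle𝔭
      rw [Finset.coe_image, Finset.coe_univ, Set.image_univ]
      exact ⟨i, this⟩
    have hSsum : S d e (A k n ⧸ IA k n I) = ∑ i : Fin r,
        ∑ᶠ (_ : ringKrullDim (A k n ⧸ (φ i).asIdeal) = d),
          ((lp (φ i) (A k n ⧸ IA k n I)).toNat : ℝ) * e (φ i) := by
      unfold S
      rw [finsum_eq_sum_of_support_subset _ hsupp, Finset.sum_image (fun i _ j _ h => hφinj h)]
    -- term by term
    have hterm : ∀ i : Fin r,
        (∑ᶠ (_ : ringKrullDim (A k n ⧸ (φ i).asIdeal) = d),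
          ((lp (φ i) (A k n ⧸ IA k n I)).toNat : ℝ) * e (φ i)) =
        (((if (Qp i).natDegree = P.natDegree then
          ((Qp i).natDegree.factorial : ℚ) * (Qp i).leadingCoeff *
            (Module.length (Localization.AtPrime (p i))
              (LocalizedModule (p i).primeCompl (MvPolynomial (Fin (n + 1)) k ⧸ I))).toNat
          else 0 : ℚ)) : ℝ) := by
      intro i
      have hdimφ : ringKrullDim (A k n ⧸ (φ i).asIdeal) =
          ringKrullDim (MvPolynomial (Fin (n + 1)) k ⧸ p i) :=
        dim_quot_IA k n (p i) (hhom i) (hp i).ne_top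
      obtain ⟨mi, hmi⟩ := hQH i
      by_cases hQi : Qp i = 0
      · have h0 : ringKrullDim (MvPolynomial (Fin (n + 1)) k ⧸ p i) = 0 := by
          apply dim_eq_zero_of_H_eventually_zero k n (p i) (hhom i) (hp i).ne_top mi
          intro m hm
          have := hmi m hm
          rw [hQi, Polynomial.eval_zero] at this
          exact_mod_cast this.symm
        have hne : ¬ ringKrullDim (A k n ⧸ (φ i).asIdeal) = d := by
          rw [hdimφ, h0]
          intro h
          have : (0 : ℕ) = d := by exact_mod_cast h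
          omega
        rw [finsum_prop_neg hne, hQi]
        simp
      · have hdimi : ringKrullDim (MvPolynomial (Fin (n + 1)) k ⧸ p i) =
            (((Qp i).natDegree + 1 : ℕ) : WithBot ℕ∞) := by
          obtain ⟨mi', hmi'⟩ := hQp i
          rw [main k n (p i) (hhom i) (Qp i) hQi ⟨mi', hmi'⟩]
          rfl
        by_cases hdeg : (Qp i).natDegree = P.natDegree
        · have hpos : ringKrullDim (A k n ⧸ (φ i).asIdeal) = d := by
            rw [hdimφ, hdimi, hdeg]
          rw [finsum_prop_pos hpos, if_pos hdeg]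
          have hlim1 := he (φ i) hpos
          have hlim2 := tendsto_T k n (p i) (hhom i) (hp i).ne_top (Qp i) hQi mi hmi
          rw [hdeg] at hlim2
          have he_eq : e (φ i) = ((((Qp i).natDegree.factorial : ℚ) * (Qp i).leadingCoeff : ℚ) : ℝ) := by
            rw [hdeg]
            exact tendsto_nhds_unique hlim1 hlim2
          have hlen : lp (φ i) (A k n ⧸ IA k n I) =
              Module.length (Localization.AtPrime (p i))
                (LocalizedModule (p i).primeCompl (MvPolynomial (Fin (n + 1)) k ⧸ I)) :=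
            length_localized_IA k n (p i) I (hle i)
          rw [he_eq, hlen]
          push_cast
          ring
        · have hne : ¬ ringKrullDim (A k n ⧸ (φ i).asIdeal) = d := by
            rw [hdimφ, hdimi]
            intro h
            have : (Qp i).natDegree + 1 = d := by exact_mod_cast h
            omega
          rw [finsum_prop_neg hne, if_neg hdeg]
          simp
    have hfinal : (((P.natDegree.factorial : ℚ) * P.leadingCoeff : ℚ) : ℝ) =
        ((∑ i : Fin r, if (Qp i).natDegree = P.natDegree then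
          ((Qp i).natDegree.factorial : ℚ) * (Qp i).leadingCoeff *
            (Module.length (Localization.AtPrime (p i))
              (LocalizedModule (p i).primeCompl (MvPolynomial (Fin (n + 1)) k ⧸ I))).toNat
          else 0 : ℚ) : ℝ) := by
      rw [← heq, hSsum, Rat.cast_sum]
      exact Finset.sum_congr rfl (fun i _ => hterm i)
    exact_mod_cast hfinal

end Assoc

end Groth.Agent.Helper6.HilbProj
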