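import Mathlib
import Groth.Agent.Helper6.HilbProj4
import Groth.Agent.Helper5.FtDim4

set_option autoImplicit false

/-!
# Hilbert polynomial of a hypersurface section (Bezout)
-/

namespace Groth.Agent.Helper6.HilbProj

open MvPolynomial IsLocalRing Polynomial

attribute [local instance] MvPolynomial.gradedAlgebra

universe u

section HypSec

variable {k : Type u} [Field k] {σ : Type*}

theorem homogeneousComponent_mul_left {f : MvPolynomial σ k} {d : ℕ} (hf : f.IsHomogeneous d)
    (b : MvPolynomial σ k) (s : ℕ) :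
    homogeneousComponent (s + d) (f * b) = f * homogeneousComponent s b := by
  have h1 := DirectSum.coe_decompose_mul_of_left_mem_of_le (homogeneousSubmodule σ k)
    (a := f) (b := b) (i := d) (n := s + d) ((mem_homogeneousSubmodule _ _).2 hf) (by omega)
  have h2 : (DirectSum.decompose (homogeneousSubmodule σ k) (f * b) (s + d) : MvPolynomial σ k) =
      homogeneousComponent (s + d) (f * b) := decomposition.decompose'_apply _ _
  have h3 : (DirectSum.decompose (homogeneousSubmodule σ k) b (s + d - d) : MvPolynomial σ k) =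
      homogeneousComponent (s + d - d) b := decomposition.decompose'_apply _ _
  rw [h2, h3, Nat.add_sub_cancel] at h1
  exact h1

variable (I : Ideal (MvPolynomial σ k)) (f : MvPolynomial σ k) (d : ℕ)

/-- multiplication by `f` on graded pieces -/
noncomputable def mulf (hf : f.IsHomogeneous d) (s : ℕ) :
    ↥(homogeneousSubmodule σ k s) →ₗ[k] ↥(homogeneousSubmodule σ k (s + d)) where
  toFun x := ⟨f * x.1, by
    have := hf.mul ((mem_homogeneousSubmodule _ _).1 x.2)
    rw [add_comm] at this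
    exact (mem_homogeneousSubmodule _ _).2 this⟩
  map_add' x y := by
    ext1
    simp [mul_add]
  map_smul' c x := by
    ext1
    simp

theorem mulf_coe (hf : f.IsHomogeneous d) (s : ℕ) (x : ↥(homogeneousSubmodule σ k s)) :
    ((mulf f d hf s x : ↥(homogeneousSubmodule σ k (s + d))) : MvPolynomial σ k) = f * x.1 := rfl

theorem mem_piece_iff (t : ℕ) (x : ↥(homogeneousSubmodule σ k t)) :
    x ∈ piece I t ↔ x.1 ∈ I := Iff.rfl

/-- `R_s/I_s → R_{s+d}/I_{s+d}`, multiplication by `f` -/
noncomputable def μ (hf : f.IsHomogeneous d) (s : ℕ) :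
    (↥(homogeneousSubmodule σ k s) ⧸ piece I s) →ₗ[k]
      (↥(homogeneousSubmodule σ k (s + d)) ⧸ piece I (s + d)) :=
  (piece I s).mapQ (piece I (s + d)) (mulf f d hf s) (by
    intro x hx
    rw [Submodule.mem_comap, mem_piece_iff, mulf_coe]
    exact I.mul_mem_left f ((mem_piece_iff I s x).1 hx))

theorem μ_injective [hI : I.IsPrime] (hfI : f ∉ I) (hf : f.IsHomogeneous d) (s : ℕ) :
    Function.Injective (μ I f d hf s) := by
  rw [injective_iff_map_eq_zero]
  intro x hx
  obtain ⟨x, rfl⟩ := Submodule.Quotient.mk_surjective _ x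
  have h1 : Submodule.Quotient.mk (mulf f d hf s x) = (0 : _ ⧸ piece I (s + d)) := hx
  rw [Submodule.Quotient.mk_eq_zero, mem_piece_iff, mulf_coe] at h1
  rw [Submodule.Quotient.mk_eq_zero, mem_piece_iff]
  exact (hI.mem_or_mem h1).resolve_left hfI

/-- `R_t/I_t → R_t/I'_t` -/
noncomputable def π (t : ℕ) :
    (↥(homogeneousSubmodule σ k t) ⧸ piece I t) →ₗ[k]
      (↥(homogeneousSubmodule σ k t) ⧸ piece (I ⊔ Ideal.span {f}) t) :=
  (piece I t).mapQ (piece (I ⊔ Ideal.span {f}) t) LinearMap.id (by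
    intro x hx
    rw [Submodule.mem_comap, mem_piece_iff]
    exact Ideal.mem_sup_left ((mem_piece_iff I t x).1 hx))

theorem π_surjective (t : ℕ) : Function.Surjective (π I f t) := by
  intro y
  obtain ⟨y, rfl⟩ := Submodule.Quotient.mk_surjective _ y
  exact ⟨Submodule.Quotient.mk y, rfl⟩

theorem exact_μ_π (hI : I.IsHomogeneous (homogeneousSubmodule σ k)) (hf : f.IsHomogeneous d)
    (s : ℕ) : Function.Exact (μ I f d hf s) (π I f (s + d)) := by
  intro y
  obtain ⟨y, rfl⟩ := Submodule.Quotient.mk_surjective _ y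
  constructor
  · intro hy
    have h1 : Submodule.Quotient.mk y = (0 : _ ⧸ piece (I ⊔ Ideal.span {f}) (s + d)) := hy
    rw [Submodule.Quotient.mk_eq_zero, mem_piece_iff, Submodule.mem_sup] at h1
    obtain ⟨a, ha, c, hc, hac⟩ := h1
    rw [Ideal.mem_span_singleton'] at hc
    obtain ⟨b, rfl⟩ := hc
    refine ⟨Submodule.Quotient.mk ⟨homogeneousComponent s b,
      (mem_homogeneousSubmodule _ _).2 (homogeneousComponent_isHomogeneous s b)⟩, ?_⟩
    show Submodule.Quotient.mk (mulf f d hf s _) = Submodule.Quotient.mk y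
    rw [Submodule.Quotient.eq, mem_piece_iff]
    have hy' : homogeneousComponent (s + d) y.1 = y.1 :=
      homogeneousComponent_eq_self ((mem_homogeneousSubmodule _ _).1 y.2)
    have : ((mulf f d hf s ⟨homogeneousComponent s b, (mem_homogeneousSubmodule _ _).2
        (homogeneousComponent_isHomogeneous s b)⟩ - y : ↥(homogeneousSubmodule σ k (s + d))) :
        MvPolynomial σ k) = - homogeneousComponent (s + d) a := by
      rw [Submodule.coe_sub, mulf_coe]
      show f * homogeneousComponent s b - y.1 = _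
      rw [← hy', ← hac, map_add, mul_comm b f, homogeneousComponent_mul_left hf]
      ring
    rw [this]
    exact I.neg_mem (homogeneousComponent_mem I hI (s + d) ha)
  · rintro ⟨x, hx⟩
    obtain ⟨x, rfl⟩ := Submodule.Quotient.mk_surjective _ x
    have h1 : Submodule.Quotient.mk (mulf f d hf s x) =
        (Submodule.Quotient.mk y : _ ⧸ piece I (s + d)) := hx
    rw [← h1]
    show Submodule.Quotient.mk (mulf f d hf s x) =
      (0 : _ ⧸ piece (I ⊔ Ideal.span {f}) (s + d))
    rw [Submodule.Quotient.mk_eq_zero, mem_piece_iff, mulf_coe]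
    exact Ideal.mem_sup_right (Ideal.mul_mem_right _ _ (Ideal.mem_span_singleton_self f))

end HypSec


section HypSec2

variable {k : Type u} [Field k] {σ : Type*} [Finite σ]
  (I : Ideal (MvPolynomial σ k)) (f : MvPolynomial σ k) (d : ℕ)

theorem H_hypSec [hIp : I.IsPrime] (hI : I.IsHomogeneous (homogeneousSubmodule σ k))
    (hfI : f ∉ I) (hf : f.IsHomogeneous d) (s : ℕ) :
    H I (s + d) = H I s + H (I ⊔ Ideal.span {f}) (s + d) := by
  have := Module.length_eq_add_of_exact (μ I f d hf s) (π I f (s + d)) (μ_injective I f d hfI hf s)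
    (π_surjective I f (s + d)) (exact_μ_π I f d hI hf s)
  rw [length_piece_quot, length_piece_quot, length_piece_quot] at this
  exact_mod_cast this

end HypSec2

section PolyDiff

/-- the coefficient of `Q(X) - Q(X - c)` in degree `deg Q - 1` -/
theorem coeff_sub_taylor' (Q : ℚ[X]) (c : ℚ) (hQ : 1 ≤ Q.natDegree) :
    (Q - taylor (-c) Q).coeff (Q.natDegree - 1) = c * (Q.natDegree : ℚ) * Q.coeff Q.natDegree := by
  set m := Q.natDegree with hm
  rw [Polynomial.coeff_sub, taylor_coeff]
  have hdeg : (hasseDeriv (m - 1) Q).natDegree < 2 := by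
    have := natDegree_hasseDeriv_le Q (m - 1)
    omega
  rw [eval_eq_sum_range' hdeg, Finset.sum_range_succ, Finset.sum_range_one,
    hasseDeriv_coeff, hasseDeriv_coeff]
  have e1 : 0 + (m - 1) = m - 1 := by omega
  have e2 : 1 + (m - 1) = m := by omega
  rw [e1, e2, Nat.choose_self]
  have e3 : m.choose (m - 1) = m := by
    rw [← Nat.choose_symm (by omega : m - 1 ≤ m)]
    have : m - (m - 1) = 1 := by omega
    rw [this, Nat.choose_one_right]
  rw [e3]
  push_cast
  ring

/-- degree and leading coefficient of `Q(X) - Q(X - c)` -/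
theorem natDegree_leadingCoeff_sub_taylor (Q : ℚ[X]) (c : ℚ) (hc : c ≠ 0) (hQ : 1 ≤ Q.natDegree) :
    (Q - taylor (-c) Q).natDegree = Q.natDegree - 1 ∧
      (Q - taylor (-c) Q).leadingCoeff = c * (Q.natDegree : ℚ) * Q.leadingCoeff := by
  have hQ0 : Q ≠ 0 := by
    rintro rfl
    rw [natDegree_zero] at hQ
    omega
  have h1 := coeff_sub_taylor' Q c hQ
  have hne : (Q - taylor (-c) Q).coeff (Q.natDegree - 1) ≠ 0 := by
    rw [h1]
    have h2 : (Q.natDegree : ℚ) ≠ 0 := by
      have : Q.natDegree ≠ 0 := by omega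
      exact_mod_cast this
    exact mul_ne_zero (mul_ne_zero hc h2) (leadingCoeff_ne_zero.mpr hQ0)
  have hge := le_natDegree_of_ne_zero hne
  have hne0 : Q - taylor (-c) Q ≠ 0 := by
    intro h
    rw [h, Polynomial.coeff_zero] at hne
    exact hne rfl
  have hlt := Groth.Agent.Helper6.HSamuel.degree_sub_taylor_lt Q hQ0 (-c)
  have hlt' : (Q - taylor (-c) Q).natDegree < Q.natDegree := natDegree_lt_natDegree hne0 hlt
  have hnat : (Q - taylor (-c) Q).natDegree = Q.natDegree - 1 := by omega
  refine ⟨hnat, ?_⟩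
  rw [leadingCoeff, hnat, h1]
  rfl

end PolyDiff


section DimHyp

variable (k : Type u) [Field k] (n : ℕ) (I : Ideal (MvPolynomial (Fin (n + 1)) k))

theorem dim_quot_minimalPrime_hypSec [hI : I.IsPrime] (f : MvPolynomial (Fin (n + 1)) k)
    (hfI : f ∉ I) (p : Ideal (MvPolynomial (Fin (n + 1)) k))
    (hp : p ∈ (I ⊔ Ideal.span {f}).minimalPrimes) :
    ringKrullDim (MvPolynomial (Fin (n + 1)) k ⧸ p) + 1 =
      ringKrullDim (MvPolynomial (Fin (n + 1)) k ⧸ I) := by
  have hpprime : p.IsPrime := hp.1.1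
  have hIp : I ≤ p := le_sup_left.trans hp.1.2
  set q : Ideal (MvPolynomial (Fin (n + 1)) k ⧸ I) := p.map (Ideal.Quotient.mk I) with hq
  haveI hqprime : q.IsPrime := Ideal.isPrime_map_quotientMk_of_isPrime hIp
  have hJ : (Ideal.span {Ideal.Quotient.mk I f}).comap (Ideal.Quotient.mk I) =
      I ⊔ Ideal.span {f} := by
    have : Ideal.span {Ideal.Quotient.mk I f} = (Ideal.span {f}).map (Ideal.Quotient.mk I) := by
      rw [Ideal.map_span, Set.image_singleton]
    rw [this, Ideal.comap_map_of_surjective _ Ideal.Quotient.mk_surjective,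
      ← RingHom.ker_eq_comap_bot, Ideal.mk_ker, sup_comm]
  have hqmin : q ∈ (Ideal.span {Ideal.Quotient.mk I f}).minimalPrimes := by
    have h1 := Ideal.comap_minimalPrimes_eq_of_surjective (f := Ideal.Quotient.mk I)
      Ideal.Quotient.mk_surjective (Ideal.span {Ideal.Quotient.mk I f})
    rw [hJ] at h1
    rw [h1] at hp
    obtain ⟨q', hq', rfl⟩ := hp
    rw [hq, Ideal.map_comap_of_surjective _ Ideal.Quotient.mk_surjective]
    exact hq'
  have hle : q.height ≤ 1 :=
    Ideal.height_le_one_of_isPrincipal_of_mem_minimalPrimes _ q hqmin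
  have hge : 1 ≤ q.height := by
    rw [Order.one_le_iff_ne_zero]
    intro h0
    rw [Ideal.height_eq_zero_iff_eq_bot] at h0
    have hmem : Ideal.Quotient.mk I f ∈ q := hqmin.1.2 (Ideal.mem_span_singleton_self _)
    rw [h0, Ideal.mem_bot, Ideal.Quotient.eq_zero_iff_mem] at hmem
    exact hfI hmem
  have hht : q.height = 1 := le_antisymm hle hge
  have h2 := Groth.Agent.Helper5.FtDim.height_add_dim_quotient k
    (MvPolynomial (Fin (n + 1)) k ⧸ I) q
  rw [hht] at h2
  rw [← h2, ← ringKrullDim_eq_of_ringEquiv (DoubleQuot.quotQuotEquivQuotOfLE hIp), add_comm]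
  rfl

end DimHyp


section Bezout

open Groth.Agent.Helper6.HSamuel

variable (k : Type u) [Field k] (n : ℕ) (I : Ideal (MvPolynomial (Fin (n + 1)) k))

theorem main3 (hIh : I.IsHomogeneous (homogeneousSubmodule (Fin (n + 1)) k)) [hIp : I.IsPrime]
    (f : MvPolynomial (Fin (n + 1)) k) (d : ℕ) (hd : 0 < d) (hf : f.IsHomogeneous d) (hfI : f ∉ I)
    (P : ℚ[X])
    (hP : ∃ m₀ : ℕ, ∀ m : ℕ, m₀ ≤ m → P.eval (m : ℚ) =
      (Module.finrank k ↥(homogeneousSubmodule (Fin (n + 1)) k m) : ℚ) -
        Module.finrank k ↥(Submodule.restrictScalars k I ⊓ homogeneousSubmodule (Fin (n + 1)) k m))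
    (hdim : 1 ≤ P.natDegree)
    (r : ℕ) (p : Fin r → Ideal (MvPolynomial (Fin (n + 1)) k)) [hp : ∀ i, (p i).IsPrime]
    (hpinj : Function.Injective p)
    (hpmin : ∀ q : Ideal (MvPolynomial (Fin (n + 1)) k),
      q ∈ (I ⊔ Ideal.span {f}).minimalPrimes ↔ ∃ i, q = p i)
    (Qp : Fin r → ℚ[X])
    (hQp : ∀ i, ∃ m₀ : ℕ, ∀ m : ℕ, m₀ ≤ m → (Qp i).eval (m : ℚ) =
      (Module.finrank k ↥(homogeneousSubmodule (Fin (n + 1)) k m) : ℚ) -
        Module.finrank k ↥(Submodule.restrictScalars k (p i) ⊓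
          homogeneousSubmodule (Fin (n + 1)) k m)) :
    (d : ℚ) * ((P.natDegree.factorial : ℚ) * P.leadingCoeff) =
      ∑ i : Fin r, ((Qp i).natDegree.factorial : ℚ) * (Qp i).leadingCoeff *
        (Module.length (Localization.AtPrime (p i))
          (LocalizedModule (p i).primeCompl
            (MvPolynomial (Fin (n + 1)) k ⧸ (I ⊔ Ideal.span {f})))).toNat := by
  classical
  have hI'h : (I ⊔ Ideal.span {f}).IsHomogeneous (homogeneousSubmodule (Fin (n + 1)) k) := by
    apply Ideal.IsHomogeneous.sup hIh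
    apply Ideal.homogeneous_span
    rintro _ rfl
    exact ⟨d, (mem_homogeneousSubmodule _ _).2 hf⟩
  obtain ⟨m₀, hm₀⟩ := hP
  have hPH : ∀ m : ℕ, m₀ ≤ m → P.eval (m : ℚ) = (H I m : ℚ) := by
    intro m hm
    rw [H_cast]
    exact hm₀ m hm
  have hP0 : P ≠ 0 := by
    rintro rfl
    rw [natDegree_zero] at hdim
    omega
  have hd0 : (d : ℚ) ≠ 0 := by
    have : d ≠ 0 := by omega
    exact_mod_cast this
  set P' := P - taylor (-(d : ℚ)) P with hP'def
  have hP' : ∃ m₁ : ℕ, ∀ m : ℕ, m₁ ≤ m → P'.eval (m : ℚ) =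
      (Module.finrank k ↥(homogeneousSubmodule (Fin (n + 1)) k m) : ℚ) -
        Module.finrank k ↥(Submodule.restrictScalars k (I ⊔ Ideal.span {f}) ⊓
          homogeneousSubmodule (Fin (n + 1)) k m) := by
    refine ⟨m₀ + d, fun m hm => ?_⟩
    obtain ⟨s, rfl⟩ : ∃ s, m = s + d := ⟨m - d, by omega⟩
    rw [← H_cast, hP'def, Polynomial.eval_sub, eval_taylor']
    have e1 : ((s + d : ℕ) : ℚ) + -(d : ℚ) = (s : ℚ) := by push_cast; ring
    rw [e1, hPH (s + d) (by omega), hPH s (by omega), H_hypSec I f d hIh hfI hf s]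
    push_cast
    ring
  obtain ⟨hnat', hlc'⟩ : P'.natDegree = P.natDegree - 1 ∧
      P'.leadingCoeff = (d : ℚ) * (P.natDegree : ℚ) * P.leadingCoeff :=
    natDegree_leadingCoeff_sub_taylor P (d : ℚ) hd0 hdim
  have hmain2 := main2 k n (I ⊔ Ideal.span {f}) hI'h P' hP' r p hpinj hpmin Qp hQp
  have hdimI : ringKrullDim (MvPolynomial (Fin (n + 1)) k ⧸ I) =
      ((P.natDegree + 1 : ℕ) : WithBot ℕ∞) := by
    rw [main k n I hIh P hP0 ⟨m₀, hm₀⟩]
    rfl
  have hdeg : ∀ i, (Qp i).natDegree = P'.natDegree := by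
    intro i
    have hmin : p i ∈ (I ⊔ Ideal.span {f}).minimalPrimes := (hpmin _).2 ⟨i, rfl⟩
    have hhom := Groth.Agent.Helper6.CINormal.isHomogeneous_of_mem_minimalPrimes k (Fin (n + 1))
      _ hI'h _ hmin
    have h1 := dim_quot_minimalPrime_hypSec k n I f hfI (p i) hmin
    rw [hdimI] at h1
    obtain ⟨mi, hmi⟩ := hQp i
    have hQH : ∀ m : ℕ, mi ≤ m → (Qp i).eval (m : ℚ) = (H (p i) m : ℚ) := by
      intro m hm
      rw [H_cast]
      exact hmi m hm
    have hQi : Qp i ≠ 0 := by
      intro hQi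
      have h0 : ringKrullDim (MvPolynomial (Fin (n + 1)) k ⧸ p i) = 0 := by
        apply dim_eq_zero_of_H_eventually_zero k n (p i) hhom (hp i).ne_top mi
        intro m hm
        have := hQH m hm
        rw [hQi, Polynomial.eval_zero] at this
        exact_mod_cast this.symm
      rw [h0, zero_add] at h1
      have : (1 : ℕ) = P.natDegree + 1 := by exact_mod_cast h1
      omega
    have h2 : ringKrullDim (MvPolynomial (Fin (n + 1)) k ⧸ p i) =
        (((Qp i).natDegree + 1 : ℕ) : WithBot ℕ∞) := by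
      rw [main k n (p i) hhom (Qp i) hQi ⟨mi, hmi⟩]
      rfl
    rw [h2] at h1
    have h3 : (Qp i).natDegree + 1 + 1 = P.natDegree + 1 := by exact_mod_cast h1
    omega
  have hsum : (∑ i : Fin r, if (Qp i).natDegree = P'.natDegree then
        ((Qp i).natDegree.factorial : ℚ) * (Qp i).leadingCoeff *
          (Module.length (Localization.AtPrime (p i))
            (LocalizedModule (p i).primeCompl
              (MvPolynomial (Fin (n + 1)) k ⧸ (I ⊔ Ideal.span {f})))).toNat
      else 0) = ∑ i : Fin r, ((Qp i).natDegree.factorial : ℚ) * (Qp i).leadingCoeff *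
        (Module.length (Localization.AtPrime (p i))
          (LocalizedModule (p i).primeCompl
            (MvPolynomial (Fin (n + 1)) k ⧸ (I ⊔ Ideal.span {f})))).toNat :=
    Finset.sum_congr rfl (fun i _ => if_pos (hdeg i))
  rw [← hsum, ← hmain2, hnat', hlc']
  obtain ⟨m, hm⟩ : ∃ m, P.natDegree = m + 1 := ⟨P.natDegree - 1, by omega⟩
  rw [hm, Nat.add_sub_cancel, Nat.factorial_succ]
  push_cast
  ring

end Bezout

end Groth.Agent.Helper6.HilbProj
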