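import Mathlib

/-!
# Topology of the projective spectrum: irreducible closed subsets and points
-/

set_option autoImplicit false
universe u

namespace Groth.Agent.Helper6.ProjDim

open AlgebraicGeometry ProjectiveSpectrum TopologicalSpace

section General

variable {α : Type*} [TopologicalSpace α]

/-- preimage of an irreducible subset of `Z` in the subspace `Z` -/
theorem isIrreducible_preimage_val {Z V : Set α} (hV : IsIrreducible V) (hVZ : V ⊆ Z) :
    IsIrreducible ((Subtype.val : ↥Z → α) ⁻¹' V) := by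
  refine ⟨?_, ?_⟩
  · obtain ⟨x, hx⟩ := hV.nonempty
    exact ⟨⟨x, hVZ hx⟩, hx⟩
  · intro u v hu hv ⟨x, hxV, hxu⟩ ⟨y, hyV, hyv⟩
    obtain ⟨u', hu', rfl⟩ := isOpen_induced_iff.1 hu
    obtain ⟨v', hv', rfl⟩ := isOpen_induced_iff.1 hv
    obtain ⟨z, hzV, hzu, hzv⟩ := hV.2 u' v' hu' hv' ⟨x, hxV, hxu⟩ ⟨y, hyV, hyv⟩
    exact ⟨⟨z, hVZ hzV⟩, hzV, hzu, hzv⟩

/-- irreducible closed subsets of a closed subspace -/
noncomputable def irrClosedSubtype (Z : Set α) (hZ : IsClosed Z) :
    IrreducibleCloseds ↥Z ≃o {V : IrreducibleCloseds α // (V : Set α) ⊆ Z} where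
  toFun W := ⟨⟨Subtype.val '' (W : Set ↥Z),
      W.isIrreducible.image _ continuous_subtype_val.continuousOn,
      hZ.isClosedMap_subtype_val _ W.isClosed⟩, by
        rintro _ ⟨x, -, rfl⟩
        exact x.2⟩
  invFun V := ⟨Subtype.val ⁻¹' (V.1 : Set α), isIrreducible_preimage_val V.1.isIrreducible V.2,
      V.1.isClosed.preimage continuous_subtype_val⟩
  left_inv W := by
    apply IrreducibleCloseds.ext
    simp only [IrreducibleCloseds.coe_mk]
    exact Set.preimage_image_eq _ Subtype.val_injective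
  right_inv V := by
    apply Subtype.ext
    apply IrreducibleCloseds.ext
    simp only [IrreducibleCloseds.coe_mk]
    rw [Subtype.image_preimage_coe]
    exact Set.inter_eq_right.2 V.2
  map_rel_iff' := by
    intro W W'
    simp only [Equiv.coe_fn_mk, ← Subtype.coe_le_coe, ← SetLike.coe_subset_coe,
      IrreducibleCloseds.coe_mk]
    exact Set.image_subset_image_iff Subtype.val_injective

theorem coe_irrClosedSubtype (Z : Set α) (hZ : IsClosed Z) (W : IrreducibleCloseds ↥Z) :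
    ((irrClosedSubtype Z hZ W).1 : Set α) = Subtype.val '' (W : Set ↥Z) := rfl

/-- a subset of a subspace is homeomorphic to its image -/
noncomputable def homeoImage (S : Set α) (C : Set ↥S) :
    ↥C ≃ₜ ↥((Subtype.val : ↥S → α) '' C) :=
  ((Topology.IsEmbedding.subtypeVal.comp Topology.IsEmbedding.subtypeVal).toHomeomorph).trans
    (Homeomorph.setCongr (by
      ext x
      simp only [Set.mem_range, Function.comp_apply, Set.mem_image]
      constructor
      · rintro ⟨y, rfl⟩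
        exact ⟨y.1, y.2, rfl⟩
      · rintro ⟨y, hy, rfl⟩
        exact ⟨⟨y, hy⟩, rfl⟩))

theorem dim_image (S : Set α) (C : Set ↥S) :
    topologicalKrullDim ↥C = topologicalKrullDim ↥((Subtype.val : ↥S → α) '' C) :=
  IsHomeomorph.topologicalKrullDim_eq _ (homeoImage S C).isHomeomorph

end General

section PS

variable {R A : Type u} [CommRing R] [CommRing A] [Algebra R A] (𝒜 : ℕ → Submodule R A)
  [GradedAlgebra 𝒜]

instance quasiSober : QuasiSober (ProjectiveSpectrum 𝒜) :=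
  show QuasiSober ↥(Proj 𝒜) from inferInstance

theorem zeroLocus_point (x : ProjectiveSpectrum 𝒜) :
    zeroLocus 𝒜 (x.asHomogeneousIdeal : Set A) = closure {x} := by
  rw [← zeroLocus_vanishingIdeal_eq_closure, vanishingIdeal_singleton]

theorem vanishingIdeal_zeroLocus_point (x : ProjectiveSpectrum 𝒜) :
    vanishingIdeal (zeroLocus 𝒜 (x.asHomogeneousIdeal : Set A)) = x.asHomogeneousIdeal := by
  rw [zeroLocus_point, vanishingIdeal_closure, vanishingIdeal_singleton]

theorem mem_zeroLocus_point (x y : ProjectiveSpectrum 𝒜) :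
    y ∈ zeroLocus 𝒜 (x.asHomogeneousIdeal : Set A) ↔ x ≤ y := by
  rw [zeroLocus_point, le_iff_mem_closure]

theorem zeroLocus_point_subset_iff (x y : ProjectiveSpectrum 𝒜) :
    zeroLocus 𝒜 (x.asHomogeneousIdeal : Set A) ⊆ zeroLocus 𝒜 (y.asHomogeneousIdeal : Set A) ↔
      y ≤ x := by
  constructor
  · intro h
    exact (mem_zeroLocus_point 𝒜 y x).1 (h ((mem_zeroLocus_point 𝒜 x x).2 le_rfl))
  · intro h z hz
    rw [mem_zeroLocus_point] at hz ⊢
    exact h.trans hz

theorem point_ext {x y : ProjectiveSpectrum 𝒜}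
    (h : zeroLocus 𝒜 (x.asHomogeneousIdeal : Set A) = zeroLocus 𝒜 (y.asHomogeneousIdeal : Set A)) :
    x = y :=
  le_antisymm ((zeroLocus_point_subset_iff 𝒜 y x).1 h.ge) ((zeroLocus_point_subset_iff 𝒜 x y).1 h.le)

theorem isIrreducible_zeroLocus_point (x : ProjectiveSpectrum 𝒜) :
    IsIrreducible (zeroLocus 𝒜 (x.asHomogeneousIdeal : Set A)) := by
  rw [zeroLocus_point]
  exact isIrreducible_singleton.closure

theorem zeroLocus_point_subset_of_mem {Z : Set (ProjectiveSpectrum 𝒜)} (hZ : IsClosed Z)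
    {x : ProjectiveSpectrum 𝒜} (hx : x ∈ Z) : zeroLocus 𝒜 (x.asHomogeneousIdeal : Set A) ⊆ Z := by
  rw [zeroLocus_point]
  exact hZ.closure_subset_iff.2 (Set.singleton_subset_iff.2 hx)

theorem exists_point (V : Set (ProjectiveSpectrum 𝒜)) (hV : IsIrreducible V) (hc : IsClosed V) :
    ∃ x : ProjectiveSpectrum 𝒜, V = zeroLocus 𝒜 (x.asHomogeneousIdeal : Set A) := by
  obtain ⟨x, hx⟩ := QuasiSober.sober hV hc
  refine ⟨x, ?_⟩
  rw [zeroLocus_point]
  exact hx.def.symm

/-- the generic point of an irreducible closed subset -/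
noncomputable def pt (V : IrreducibleCloseds (ProjectiveSpectrum 𝒜)) : ProjectiveSpectrum 𝒜 :=
  Classical.choose (exists_point 𝒜 V V.isIrreducible V.isClosed)

theorem pt_spec (V : IrreducibleCloseds (ProjectiveSpectrum 𝒜)) :
    (V : Set (ProjectiveSpectrum 𝒜)) = zeroLocus 𝒜 ((pt 𝒜 V).asHomogeneousIdeal : Set A) :=
  Classical.choose_spec (exists_point 𝒜 V V.isIrreducible V.isClosed)

/-- the closure of a point as an irreducible closed subset -/
noncomputable def cl (x : ProjectiveSpectrum 𝒜) : IrreducibleCloseds (ProjectiveSpectrum 𝒜) :=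
  ⟨zeroLocus 𝒜 (x.asHomogeneousIdeal : Set A), isIrreducible_zeroLocus_point 𝒜 x,
    isClosed_zeroLocus 𝒜 _⟩

theorem coe_cl (x : ProjectiveSpectrum 𝒜) :
    (cl 𝒜 x : Set (ProjectiveSpectrum 𝒜)) = zeroLocus 𝒜 (x.asHomogeneousIdeal : Set A) := rfl

theorem pt_cl (x : ProjectiveSpectrum 𝒜) : pt 𝒜 (cl 𝒜 x) = x :=
  point_ext 𝒜 ((pt_spec 𝒜 (cl 𝒜 x)).symm.trans (coe_cl 𝒜 x))

theorem cl_pt (V : IrreducibleCloseds (ProjectiveSpectrum 𝒜)) : cl 𝒜 (pt 𝒜 V) = V :=
  IrreducibleCloseds.ext ((coe_cl 𝒜 _).trans (pt_spec 𝒜 V).symm)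

theorem cl_le_cl_iff (x y : ProjectiveSpectrum 𝒜) : cl 𝒜 x ≤ cl 𝒜 y ↔ y ≤ x := by
  rw [← SetLike.coe_subset_coe, coe_cl, coe_cl, zeroLocus_point_subset_iff]

/-- irreducible closed subsets of a closed subset of `Proj` correspond to its points -/
noncomputable def irrEquivSub (Z : Set (ProjectiveSpectrum 𝒜)) (hZ : IsClosed Z) :
    IrreducibleCloseds ↥Z ≃o ({x : ProjectiveSpectrum 𝒜 // x ∈ Z})ᵒᵈ where
  toFun W := OrderDual.toDual ⟨pt 𝒜 (irrClosedSubtype Z hZ W).1, by
    apply (irrClosedSubtype Z hZ W).2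
    rw [pt_spec, mem_zeroLocus_point]⟩
  invFun x := (irrClosedSubtype Z hZ).symm ⟨cl 𝒜 (OrderDual.ofDual x).1, by
    rw [coe_cl]
    exact zeroLocus_point_subset_of_mem 𝒜 hZ (OrderDual.ofDual x).2⟩
  left_inv W := by
    simp only [OrderDual.ofDual_toDual, cl_pt, Subtype.coe_eta, OrderIso.symm_apply_apply]
  right_inv x := by
    simp only [OrderIso.apply_symm_apply, pt_cl, Subtype.coe_eta, OrderDual.toDual_ofDual]
  map_rel_iff' := by
    intro W W'
    simp only [Equiv.coe_fn_mk, OrderDual.toDual_le_toDual, Subtype.mk_le_mk]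
    rw [← cl_le_cl_iff, cl_pt, cl_pt, Subtype.coe_le_coe, OrderIso.le_iff_le]

theorem coe_irrEquivSub_symm (Z : Set (ProjectiveSpectrum 𝒜)) (hZ : IsClosed Z)
    (x : {x : ProjectiveSpectrum 𝒜 // x ∈ Z}) :
    Subtype.val '' (((irrEquivSub 𝒜 Z hZ).symm (OrderDual.toDual x) : IrreducibleCloseds ↥Z) : Set ↥Z) =
      zeroLocus 𝒜 (x.1.asHomogeneousIdeal : Set A) := by
  change Subtype.val '' (Subtype.val ⁻¹' (zeroLocus 𝒜 (x.1.asHomogeneousIdeal : Set A))) = _
  rw [Subtype.image_preimage_coe]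
  exact Set.inter_eq_right.2 (zeroLocus_point_subset_of_mem 𝒜 hZ x.2)

theorem dim_closed (Z : Set (ProjectiveSpectrum 𝒜)) (hZ : IsClosed Z) :
    topologicalKrullDim ↥Z = Order.krullDim {x : ProjectiveSpectrum 𝒜 // x ∈ Z} := by
  rw [topologicalKrullDim, Order.krullDim_eq_of_orderIso (irrEquivSub 𝒜 Z hZ),
    Order.krullDim_orderDual]

/-- irreducible components of a closed subset: minimal points -/
theorem exists_point_of_mem_irreducibleComponents (Z : Set (ProjectiveSpectrum 𝒜))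
    (hZ : IsClosed Z) (C : Set ↥Z) (hC : C ∈ irreducibleComponents ↥Z) :
    ∃ x : ProjectiveSpectrum 𝒜, x ∈ Z ∧ (∀ y ∈ Z, y ≤ x → y = x) ∧
      Subtype.val '' C = zeroLocus 𝒜 (x.asHomogeneousIdeal : Set A) := by
  have hCc : IsClosed C := isClosed_of_mem_irreducibleComponents C hC
  obtain ⟨x, hx⟩ := exists_point 𝒜 (Subtype.val '' C)
    (hC.1.image _ continuous_subtype_val.continuousOn) (hZ.isClosedMap_subtype_val _ hCc)
  have hxC : x ∈ Subtype.val '' C := by
    rw [hx, mem_zeroLocus_point]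
  have hxZ : x ∈ Z := by
    obtain ⟨c, -, rfl⟩ := hxC
    exact c.2
  refine ⟨x, hxZ, fun y hy hyx => ?_, hx⟩
  have h1 := isIrreducible_preimage_val (isIrreducible_zeroLocus_point 𝒜 y)
    (zeroLocus_point_subset_of_mem 𝒜 hZ hy)
  have h2 : C ⊆ Subtype.val ⁻¹' (zeroLocus 𝒜 (y.asHomogeneousIdeal : Set A)) := by
    intro c hc
    have : (c : ProjectiveSpectrum 𝒜) ∈ zeroLocus 𝒜 (x.asHomogeneousIdeal : Set A) := by
      rw [← hx]
      exact ⟨c, hc, rfl⟩
    exact (zeroLocus_point_subset_iff 𝒜 x y).2 hyx this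
  have h3 := hC.2 h1 h2
  have h4 : y ∈ Subtype.val '' C := by
    have : (⟨y, hy⟩ : ↥Z) ∈ Subtype.val ⁻¹' (zeroLocus 𝒜 (y.asHomogeneousIdeal : Set A)) := by
      change y ∈ zeroLocus 𝒜 (y.asHomogeneousIdeal : Set A)
      rw [mem_zeroLocus_point]
    exact ⟨⟨y, hy⟩, h3 this, rfl⟩
  rw [hx, mem_zeroLocus_point] at h4
  exact le_antisymm hyx h4

end PS

end Groth.Agent.Helper6.ProjDim
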