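import Groth.Prelude.Def_CohB1
import Groth.Agent.Helper6.ProjDim1
import Groth.Agent.Helper6.HilbProj5

/-!
# Dimension theory of projective space over a field via homogeneous primes
-/

set_option autoImplicit false
universe u

namespace Groth.Agent.Helper6.ProjDim

open MvPolynomial ProjectiveSpectrum TopologicalSpace Groth.Agent.Helper6.HilbProj

variable (k : Type u) [Field k] (n : ℕ)

/-- projective `n`-space as a topological space -/
abbrev PS : Type u := ProjectiveSpectrum (CohB1.polyGrading n k)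

theorem irrelevant_eq :
    (HomogeneousIdeal.irrelevant (CohB1.polyGrading n k)).toIdeal =
      idealOfVars (Fin (n + 1)) k := by
  ext p
  rw [HomogeneousIdeal.toIdeal_irrelevant, RingHom.mem_ker, mem_idealOfVars_iff]
  have h1 : (GradedRing.projZeroRingHom (CohB1.polyGrading n k)) p =
      homogeneousComponent 0 p := decomposition.decompose'_apply p 0
  rw [h1, homogeneousComponent_zero]
  constructor
  · intro h
    have := congrArg constantCoeff h
    rw [constantCoeff_C, map_zero] at this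
    exact this
  · intro h
    have h' : coeff 0 p = 0 := h
    rw [h', map_zero]

variable {k n}

theorem point_isHomogeneous (x : PS k n) :
    x.asHomogeneousIdeal.toIdeal.IsHomogeneous (homogeneousSubmodule (Fin (n + 1)) k) :=
  x.asHomogeneousIdeal.isHomogeneous

theorem point_ne (x : PS k n) : x.asHomogeneousIdeal.toIdeal ≠ idealOfVars (Fin (n + 1)) k := by
  intro h
  apply x.not_irrelevant_le
  change (HomogeneousIdeal.irrelevant (CohB1.polyGrading n k)).toIdeal ≤
    x.asHomogeneousIdeal.toIdeal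
  rw [irrelevant_eq, h]

theorem point_le (x : PS k n) : x.asHomogeneousIdeal.toIdeal ≤ idealOfVars (Fin (n + 1)) k :=
  le_idealOfVars k n _ (point_isHomogeneous x) (Ideal.IsPrime.ne_top inferInstance)

theorem point_lt (x : PS k n) : x.asHomogeneousIdeal.toIdeal < idealOfVars (Fin (n + 1)) k :=
  lt_of_le_of_ne (point_le x) (point_ne x)

/-- a homogeneous prime other than the irrelevant ideal is a point of projective space -/
noncomputable def mkPt (Q : Ideal (MvPolynomial (Fin (n + 1)) k)) [hQ : Q.IsPrime]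
    (hQh : Q.IsHomogeneous (homogeneousSubmodule (Fin (n + 1)) k))
    (hne : Q ≠ idealOfVars (Fin (n + 1)) k) : PS k n :=
  ⟨⟨Q, hQh⟩, hQ, by
    intro hle
    change (HomogeneousIdeal.irrelevant (CohB1.polyGrading n k)).toIdeal ≤ Q at hle
    rw [irrelevant_eq] at hle
    exact hne ((idealOfVars_isMaximal' k n).eq_of_le hQ.ne_top hle).symm⟩

@[simp]
theorem mkPt_toIdeal (Q : Ideal (MvPolynomial (Fin (n + 1)) k)) [hQ : Q.IsPrime]
    (hQh : Q.IsHomogeneous (homogeneousSubmodule (Fin (n + 1)) k))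
    (hne : Q ≠ idealOfVars (Fin (n + 1)) k) :
    (mkPt Q hQh hne).asHomogeneousIdeal.toIdeal = Q := rfl

theorem le_iff (x y : PS k n) :
    x ≤ y ↔ x.asHomogeneousIdeal.toIdeal ≤ y.asHomogeneousIdeal.toIdeal := Iff.rfl

theorem lt_iff (x y : PS k n) :
    x < y ↔ x.asHomogeneousIdeal.toIdeal < y.asHomogeneousIdeal.toIdeal := Iff.rfl

theorem mem_zeroLocus_iff (I : Ideal (MvPolynomial (Fin (n + 1)) k)) (x : PS k n) :
    x ∈ zeroLocus (CohB1.polyGrading n k) (I : Set (MvPolynomial (Fin (n + 1)) k)) ↔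
      I ≤ x.asHomogeneousIdeal.toIdeal := Iff.rfl

theorem zeroLocus_eq_point (Q : Ideal (MvPolynomial (Fin (n + 1)) k)) [hQ : Q.IsPrime]
    (hQh : Q.IsHomogeneous (homogeneousSubmodule (Fin (n + 1)) k))
    (hne : Q ≠ idealOfVars (Fin (n + 1)) k) :
    zeroLocus (CohB1.polyGrading n k) (Q : Set (MvPolynomial (Fin (n + 1)) k)) =
      zeroLocus (CohB1.polyGrading n k) ((mkPt Q hQh hne).asHomogeneousIdeal : Set _) := rfl

section Core

theorem isHomogeneous_sup_span {I : Ideal (MvPolynomial (Fin (n + 1)) k)}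
    (hI : I.IsHomogeneous (homogeneousSubmodule (Fin (n + 1)) k))
    {f : MvPolynomial (Fin (n + 1)) k} {d : ℕ} (hf : f.IsHomogeneous d) :
    (I ⊔ Ideal.span {f}).IsHomogeneous (homogeneousSubmodule (Fin (n + 1)) k) := by
  apply Ideal.IsHomogeneous.sup hI
  apply Ideal.homogeneous_span
  rintro _ rfl
  exact ⟨d, (mem_homogeneousSubmodule _ _).2 hf⟩

theorem dim_quot_idealOfVars :
    ringKrullDim (MvPolynomial (Fin (n + 1)) k ⧸ idealOfVars (Fin (n + 1)) k) = 0 := by
  haveI := idealOfVars_isMaximal' k n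
  letI := Ideal.Quotient.field (idealOfVars (Fin (n + 1)) k)
  exact ringKrullDim_eq_zero_of_field _

theorem dim_add_one_le (P : Ideal (MvPolynomial (Fin (n + 1)) k)) [hP : P.IsPrime]
    (hPh : P.IsHomogeneous (homogeneousSubmodule (Fin (n + 1)) k))
    (hne : P ≠ idealOfVars (Fin (n + 1)) k) :
    Order.krullDim {x : PS k n // x ∈ zeroLocus (CohB1.polyGrading n k)
        (P : Set (MvPolynomial (Fin (n + 1)) k))} + 1 ≤
      ringKrullDim (MvPolynomial (Fin (n + 1)) k ⧸ P) := by
  haveI : Nonempty {x : PS k n // x ∈ zeroLocus (CohB1.polyGrading n k)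
      (P : Set (MvPolynomial (Fin (n + 1)) k))} := ⟨⟨mkPt P hPh hne, (mem_zeroLocus_iff P _).2 le_rfl⟩⟩
  rw [← Order.krullDim_WithTop, ringKrullDim_quotient]
  have hPm : P ≤ idealOfVars (Fin (n + 1)) k := le_idealOfVars k n P hPh hP.ne_top
  let F : WithTop {x : PS k n // x ∈ zeroLocus (CohB1.polyGrading n k)
      (P : Set (MvPolynomial (Fin (n + 1)) k))} →
      ↥(PrimeSpectrum.zeroLocus (P : Set (MvPolynomial (Fin (n + 1)) k))) := fun y =>
    WithTop.recTopCoe (C := fun _ => ↥(PrimeSpectrum.zeroLocus (P : Set (MvPolynomial (Fin (n + 1)) k))))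
      ⟨⟨idealOfVars (Fin (n + 1)) k, (idealOfVars_isMaximal' k n).isPrime⟩, hPm⟩
      (fun x => ⟨⟨x.1.asHomogeneousIdeal.toIdeal, inferInstance⟩, x.2⟩) y
  apply Order.krullDim_le_of_strictMono F
  intro a b hab
  induction a using WithTop.recTopCoe with
  | top => exact absurd hab not_top_lt
  | coe a =>
    induction b using WithTop.recTopCoe with
    | top => exact point_lt a.1
    | coe b =>
      rw [WithTop.coe_lt_coe] at hab
      exact hab

theorem exists_chain : ∀ (e : ℕ) (P : Ideal (MvPolynomial (Fin (n + 1)) k)) [P.IsPrime],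
    P.IsHomogeneous (homogeneousSubmodule (Fin (n + 1)) k) →
    ringKrullDim (MvPolynomial (Fin (n + 1)) k ⧸ P) = ((e + 1 : ℕ) : WithBot ℕ∞) →
    ∃ p : LTSeries (PS k n), p.length = e ∧ P ≤ p.head.asHomogeneousIdeal.toIdeal := by
  intro e
  induction e with
  | zero =>
    intro P hP hPh hdim
    have hne : P ≠ idealOfVars (Fin (n + 1)) k := by
      rintro rfl
      rw [dim_quot_idealOfVars] at hdim
      norm_num at hdim
    exact ⟨RelSeries.singleton _ (mkPt P hPh hne), rfl, le_rfl⟩
  | succ e ih =>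
    intro P hP hPh hdim
    have hne : P ≠ idealOfVars (Fin (n + 1)) k := by
      rintro rfl
      rw [dim_quot_idealOfVars] at hdim
      have : (0 : WithBot ℕ∞) ≠ ((e + 1 + 1 : ℕ) : WithBot ℕ∞) := by
        exact_mod_cast (by omega : (0 : ℕ) ≠ e + 1 + 1)
      exact this hdim
    have hPm : P ≤ idealOfVars (Fin (n + 1)) k := le_idealOfVars k n P hPh hP.ne_top
    obtain ⟨i, hi⟩ : ∃ i : Fin (n + 1), (X i : MvPolynomial (Fin (n + 1)) k) ∉ P := by
      by_contra hcon
      push Not at hcon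
      apply hne
      apply le_antisymm hPm
      rw [idealOfVars, Ideal.span_le]
      rintro _ ⟨i, rfl⟩
      exact hcon i
    have hJh := isHomogeneous_sup_span hPh (isHomogeneous_X k i)
    have hJm : P ⊔ Ideal.span {(X i : MvPolynomial (Fin (n + 1)) k)} ≤
        idealOfVars (Fin (n + 1)) k := by
      refine sup_le hPm ?_
      rw [Ideal.span_le, Set.singleton_subset_iff]
      exact Ideal.subset_span ⟨i, rfl⟩
    obtain ⟨P', hP'min, -⟩ := Ideal.exists_minimalPrimes_le
      (J := idealOfVars (Fin (n + 1)) k) (I := P ⊔ Ideal.span {(X i : MvPolynomial _ k)}) hJm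
    haveI hP'prime : P'.IsPrime := hP'min.1.1
    have hP'h := Groth.Agent.Helper6.CINormal.isHomogeneous_of_mem_minimalPrimes k (Fin (n + 1)) _
      hJh P' hP'min
    have hdim' := dim_quot_minimalPrime_hypSec k n P (X i) hi P' hP'min
    rw [hdim] at hdim'
    have hdim'' : ringKrullDim (MvPolynomial (Fin (n + 1)) k ⧸ P') = ((e + 1 : ℕ) : WithBot ℕ∞) := by
      have h1 : ((e + 1 + 1 : ℕ) : WithBot ℕ∞) = ((e + 1 : ℕ) : WithBot ℕ∞) + 1 := by
        push_cast; rfl
      rw [h1] at hdim'
      exact ENat.WithBot.add_one_cancel.1 hdim'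
    obtain ⟨p', hp'len, hp'head⟩ := ih P' hP'h hdim''
    have hPP' : P < P' := by
      refine lt_of_le_of_ne (le_sup_left.trans hP'min.1.2) ?_
      rintro rfl
      exact hi (hP'min.1.2 (Ideal.mem_sup_right (Ideal.mem_span_singleton_self _)))
    have hlt : mkPt P hPh hne < p'.head := by
      rw [lt_iff, mkPt_toIdeal]
      exact lt_of_lt_of_le hPP' hp'head
    refine ⟨p'.cons (mkPt P hPh hne) hlt, ?_, ?_⟩
    · rw [RelSeries.cons_length, hp'len]
    · rw [RelSeries.head_cons, mkPt_toIdeal]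

theorem dim_zeroLocus_add_one (P : Ideal (MvPolynomial (Fin (n + 1)) k)) [hP : P.IsPrime]
    (hPh : P.IsHomogeneous (homogeneousSubmodule (Fin (n + 1)) k))
    (hne : P ≠ idealOfVars (Fin (n + 1)) k) :
    topologicalKrullDim ↥(zeroLocus (CohB1.polyGrading n k)
        (P : Set (MvPolynomial (Fin (n + 1)) k))) + 1 =
      ringKrullDim (MvPolynomial (Fin (n + 1)) k ⧸ P) := by
  rw [dim_closed _ _ (isClosed_zeroLocus _ _)]
  apply le_antisymm (dim_add_one_le P hPh hne)
  -- the dimension is a positive natural number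
  have hle : ringKrullDim (MvPolynomial (Fin (n + 1)) k ⧸ P) ≤ ((n + 1 : ℕ) : WithBot ℕ∞) := by
    rw [← Groth.Agent.Helper5.DimBC.dim_mvPolynomial k (n + 1)]
    exact ringKrullDim_quotient_le P
  have hpos : (1 : WithBot ℕ∞) ≤ ringKrullDim (MvPolynomial (Fin (n + 1)) k ⧸ P) := by
    haveI : Nonempty {x : PS k n // x ∈ zeroLocus (CohB1.polyGrading n k)
        (P : Set (MvPolynomial (Fin (n + 1)) k))} := ⟨⟨mkPt P hPh hne, (mem_zeroLocus_iff P _).2 le_rfl⟩⟩
    refine le_trans ?_ (dim_add_one_le P hPh hne)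
    have : (0 : WithBot ℕ∞) ≤ Order.krullDim {x : PS k n // x ∈ zeroLocus (CohB1.polyGrading n k)
        (P : Set (MvPolynomial (Fin (n + 1)) k))} := Order.krullDim_nonneg
    calc (1 : WithBot ℕ∞) = 0 + 1 := by rw [zero_add]
      _ ≤ _ := by gcongr
  obtain ⟨d, hd⟩ : ∃ d : ℕ, ringKrullDim (MvPolynomial (Fin (n + 1)) k ⧸ P) = (d : WithBot ℕ∞) := by
    generalize ringKrullDim (MvPolynomial (Fin (n + 1)) k ⧸ P) = x at hle hpos
    induction x using WithBot.recBotCoe with
    | bot => simp at hpos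
    | coe m =>
      have h1 : m ≤ ((n + 1 : ℕ) : ℕ∞) := by exact_mod_cast hle
      obtain ⟨d, rfl⟩ := ENat.ne_top_iff_exists.1 (ne_top_of_le_ne_top (ENat.natCast_ne_top _) h1)
      exact ⟨d, rfl⟩
  obtain ⟨e, rfl⟩ : ∃ e, d = e + 1 := by
    rw [hd] at hpos
    have : 1 ≤ d := by exact_mod_cast hpos
    exact ⟨d - 1, by omega⟩
  obtain ⟨p, hplen, hphead⟩ := exists_chain e P hPh hd
  let q : LTSeries {x : PS k n // x ∈ zeroLocus (CohB1.polyGrading n k)
      (P : Set (MvPolynomial (Fin (n + 1)) k))} :=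
    { length := p.length
      toFun := fun i => ⟨p i, hphead.trans ((le_iff _ _).1 (LTSeries.head_le p i))⟩
      step := fun i => p.step i }
  have hq := Order.LTSeries.length_le_krullDim q
  have hqlen : q.length = e := hplen
  rw [hqlen] at hq
  rw [hd]
  calc ((e + 1 : ℕ) : WithBot ℕ∞) = (e : WithBot ℕ∞) + 1 := by push_cast; rfl
    _ ≤ _ := by gcongr

end Core

end Groth.Agent.Helper6.ProjDim
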