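import Mathlib
import Groth.Prelude.Def_CAlg
import Groth.Agent.Helper1.TorCrit
import Groth.Agent.Helper2.RegCM
import Groth.Agent.Helper2.DepthCM
import Groth.Agent.Helper7.PdLen

/-!
# Projective dimension over a quotient ring: `pd_R E = pd_R (R/I) + pd_{R/I} E`
(consequence of the Auslander–Buchsbaum formula, which is taken as a hypothesis `AB`).
-/

set_option autoImplicit false
universe u

namespace Groth.Agent.Helper6.PdQuotAdd

open CategoryTheory Abelian IsLocalRing
open Groth.Agent.Helper1.TorLib

/-- The statement of the Auslander–Buchsbaum formula in universe `u`. -/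
def ABStatement : Prop :=
  ∀ (R : Type u) [CommRing R] [IsLocalRing R] [IsNoetherianRing R]
    (M : Type u) [AddCommGroup M] [Module R M] [Module.Finite R M] [Nontrivial M] (e : ℕ),
    projectiveDimension (ModuleCat.of R M) = e → LocCoh.depth R R = e + LocCoh.depth R M

section SES

variable {R : Type u} [CommRing R]
variable {N₁ N₂ N₃ : Type u} [AddCommGroup N₁] [Module R N₁] [AddCommGroup N₂] [Module R N₂]
  [AddCommGroup N₃] [Module R N₃] (f : N₁ →ₗ[R] N₂) (g : N₂ →ₗ[R] N₃)
  (hf : Function.Injective f) (hg : Function.Surjective g) (hfg : Function.Exact f g)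

include hf hg hfg

theorem pdLT_mid (n : ℕ) (h1 : HasProjectiveDimensionLT (ModuleCat.of R N₁) n)
    (h3 : HasProjectiveDimensionLT (ModuleCat.of R N₃) n) :
    HasProjectiveDimensionLT (ModuleCat.of R N₂) n :=
  (scOfLinear_shortExact f g hf hg hfg).hasProjectiveDimensionLT_X₂ n h1 h3

theorem pdLT_right (n : ℕ) (h1 : HasProjectiveDimensionLT (ModuleCat.of R N₁) n)
    (h2 : HasProjectiveDimensionLT (ModuleCat.of R N₂) (n + 1)) :
    HasProjectiveDimensionLT (ModuleCat.of R N₃) (n + 1) :=
  (scOfLinear_shortExact f g hf hg hfg).hasProjectiveDimensionLT_X₃ n h1 h2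

theorem pdLT_left (n : ℕ) (h2 : HasProjectiveDimensionLT (ModuleCat.of R N₂) n)
    (h3 : HasProjectiveDimensionLT (ModuleCat.of R N₃) (n + 1)) :
    HasProjectiveDimensionLT (ModuleCat.of R N₁) n :=
  (scOfLinear_shortExact f g hf hg hfg).hasProjectiveDimensionLT_X₁ n h2 h3

end SES

section Pi

variable {R : Type u} [CommRing R] (X : Type u) [AddCommGroup X] [Module R X]

theorem pdLT_pi (d : ℕ) (h : HasProjectiveDimensionLT (ModuleCat.of R X) d) (s : ℕ) :
    HasProjectiveDimensionLT (ModuleCat.of R (Fin s → X)) d := by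
  induction s with
  | zero =>
    have h0 : HasProjectiveDimensionLT (ModuleCat.of R (Fin 0 → X)) 0 := by
      rw [hasProjectiveDimensionLT_zero_iff_isZero]
      exact ModuleCat.isZero_of_subsingleton _
    exact hasProjectiveDimensionLT_of_ge _ 0 d (Nat.zero_le d)
  | succ s ih =>
    let f : X →ₗ[R] (Fin (s + 1) → X) := LinearMap.single R (fun _ => X) 0
    let g : (Fin (s + 1) → X) →ₗ[R] (Fin s → X) := LinearMap.funLeft R X Fin.succ
    have hf : Function.Injective f := by
      intro x y hxy
      have := congrFun hxy 0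
      simpa [f] using this
    have hg : Function.Surjective g := by
      intro v
      refine ⟨Fin.cons 0 v, ?_⟩
      ext i
      simp [g, LinearMap.funLeft_apply]
    have hfg : Function.Exact f g := by
      intro v
      constructor
      · intro hv
        refine ⟨v 0, ?_⟩
        ext i
        refine Fin.cases ?_ (fun j => ?_) i
        · simp [f]
        · have := congrFun hv j
          simp only [g, LinearMap.funLeft_apply, Pi.zero_apply] at this
          simp [f, this]
      · rintro ⟨x, rfl⟩
        ext j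
        simp [f, g, LinearMap.funLeft_apply, Fin.succ_ne_zero]
    exact pdLT_mid f g hf hg hfg d h ih

end Pi

section Restrict

variable {R : Type u} [CommRing R] [IsNoetherianRing R] [IsLocalRing R] (I : Ideal R)

/-- finiteness of projective dimension descends along `R → R/I` when `pd_R (R/I) < ∞` -/
theorem pdLT_restrict (d : ℕ) (hd : HasProjectiveDimensionLT (ModuleCat.of R (R ⧸ I)) (d + 1)) :
    ∀ (n : ℕ) (N : Type u) [AddCommGroup N] [Module (R ⧸ I) N] [Module R N]
      [IsScalarTower R (R ⧸ I) N] [Module.Finite (R ⧸ I) N],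
      HasProjectiveDimensionLT (ModuleCat.of (R ⧸ I) N) (n + 1) →
      HasProjectiveDimensionLT (ModuleCat.of R N) (n + d + 1) := by
  intro n
  induction n with
  | zero =>
    intro N _ _ _ _ _ h
    rcases subsingleton_or_nontrivial N with hN | hN
    · have h0 : HasProjectiveDimensionLT (ModuleCat.of R N) 0 := by
        rw [hasProjectiveDimensionLT_zero_iff_isZero]
        exact ModuleCat.isZero_of_subsingleton _
      exact hasProjectiveDimensionLT_of_ge _ 0 _ (Nat.zero_le _)
    · haveI : Nontrivial (R ⧸ I) := by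
        by_contra hcon
        rw [not_nontrivial_iff_subsingleton] at hcon
        haveI := hcon
        have : Subsingleton N := Module.subsingleton (R ⧸ I) N
        exact not_subsingleton N this
      haveI : IsLocalRing (R ⧸ I) :=
        IsLocalRing.of_surjective' (Ideal.Quotient.mk I) Ideal.Quotient.mk_surjective
      rw [zero_add] at h
      haveI : Module.Projective (R ⧸ I) N :=
        (Groth.Agent.Helper7.PdLen.pd_lt_one_iff).mp h
      haveI : Module.Free (R ⧸ I) N := Module.free_of_flat_of_isLocalRing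
      let bb := Module.finBasis (R ⧸ I) N
      let e : N ≃ₗ[R] (Fin (Module.finrank (R ⧸ I) N) → R ⧸ I) := bb.equivFun.restrictScalars R
      have h1 := pdLT_pi (R ⧸ I) (d + 1) hd (Module.finrank (R ⧸ I) N)
      rw [zero_add]
      exact hasProjectiveDimensionLT_of_iso e.toModuleIso.symm (d + 1)
  | succ n ih =>
    intro N _ _ _ _ _ h
    obtain ⟨s, f, hf⟩ := Module.Finite.exists_fin' (R ⧸ I) N
    have hK : HasProjectiveDimensionLT (ModuleCat.of (R ⧸ I) (LinearMap.ker f)) (n + 1) :=
      (Groth.Agent.Helper7.PdLen.pd_shift f hf n).mp h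
    have hK' := ih (LinearMap.ker f) hK
    have h2 : HasProjectiveDimensionLT (ModuleCat.of R (Fin s → R ⧸ I)) (n + d + 1 + 1) := by
      haveI := pdLT_pi (R ⧸ I) (d + 1) hd s
      exact hasProjectiveDimensionLT_of_ge _ (d + 1) _ (by omega)
    have := pdLT_right ((LinearMap.ker f).subtype.restrictScalars R) (f.restrictScalars R)
      (Submodule.injective_subtype _) hf (LinearMap.exact_subtype_ker_map f) (n + d + 1) hK' h2
    have e : n + 1 + d + 1 = n + d + 1 + 1 := by omega
    rw [e]
    exact this

end Restrict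

section Main

/-- nonzero object with finite projective dimension: the dimension is a natural number -/
theorem exists_nat_of_ne_top {C : Type (u+1)} [Category.{u} C] [Abelian C] (X : C)
    (h0 : ¬ Limits.IsZero X) (h : projectiveDimension X ≠ ⊤) :
    ∃ e : ℕ, projectiveDimension X = e := by
  have hb : projectiveDimension X ≠ ⊥ := fun hb => h0 ((projectiveDimension_eq_bot_iff X).mp hb)
  generalize hd : projectiveDimension X = d at h hb
  induction d with
  | bot => exact absurd rfl hb
  | coe d =>
    induction d with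
    | top => exact absurd rfl h
    | coe d => exact ⟨d, rfl⟩

theorem main_of_AB (AB : ABStatement.{u}) (R : Type u) [CommRing R] [IsNoetherianRing R]
    [IsLocalRing R] (I : Ideal R) (E : Type u) [AddCommGroup E] [Module (R ⧸ I) E] [Module R E]
    [IsScalarTower R (R ⧸ I) E] [Module.Finite (R ⧸ I) E] [Nontrivial E]
    (h1 : projectiveDimension (ModuleCat.of R (R ⧸ I)) ≠ ⊤)
    (h2 : projectiveDimension (ModuleCat.of (R ⧸ I) E) ≠ ⊤) :
    projectiveDimension (ModuleCat.of R E) ≠ ⊤ ∧
      projectiveDimension (ModuleCat.of R E) =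
        projectiveDimension (ModuleCat.of R (R ⧸ I)) +
          projectiveDimension (ModuleCat.of (R ⧸ I) E) := by
  haveI : Nontrivial (R ⧸ I) := by
    by_contra hcon
    rw [not_nontrivial_iff_subsingleton] at hcon
    haveI := hcon
    have : Subsingleton E := Module.subsingleton (R ⧸ I) E
    exact not_subsingleton E this
  haveI : IsLocalRing (R ⧸ I) :=
    IsLocalRing.of_surjective' (Ideal.Quotient.mk I) Ideal.Quotient.mk_surjective
  haveI : IsLocalHom (algebraMap R (R ⧸ I)) :=
    IsLocalHom.of_surjective (Ideal.Quotient.mk I) Ideal.Quotient.mk_surjective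
  haveI : Module.Finite R E := Module.Finite.trans (R ⧸ I) E
  have nz1 : ¬ Limits.IsZero (ModuleCat.of R (R ⧸ I)) := fun h =>
    not_subsingleton (R ⧸ I) (ModuleCat.subsingleton_of_isZero h)
  have nz2 : ¬ Limits.IsZero (ModuleCat.of (R ⧸ I) E) := fun h =>
    not_subsingleton E (ModuleCat.subsingleton_of_isZero h)
  have nz3 : ¬ Limits.IsZero (ModuleCat.of R E) := fun h =>
    not_subsingleton E (ModuleCat.subsingleton_of_isZero h)
  obtain ⟨a, ha⟩ := exists_nat_of_ne_top _ nz1 h1
  obtain ⟨b, hb⟩ := exists_nat_of_ne_top _ nz2 h2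
  -- finiteness
  have hd : HasProjectiveDimensionLT (ModuleCat.of R (R ⧸ I)) (a + 1) := by
    have : projectiveDimension (ModuleCat.of R (R ⧸ I)) ≤ a := le_of_eq ha
    exact (projectiveDimension_le_iff _ a).mp this
  have hb' : HasProjectiveDimensionLT (ModuleCat.of (R ⧸ I) E) (b + 1) := by
    have : projectiveDimension (ModuleCat.of (R ⧸ I) E) ≤ b := le_of_eq hb
    exact (projectiveDimension_le_iff _ b).mp this
  have hfin := pdLT_restrict I a hd b E hb'
  have h3 : projectiveDimension (ModuleCat.of R E) ≠ ⊤ := by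
    rw [projectiveDimension_ne_top_iff]
    exact ⟨b + a, hfin⟩
  obtain ⟨c, hc⟩ := exists_nat_of_ne_top _ nz3 h3
  refine ⟨h3, ?_⟩
  -- Auslander–Buchsbaum thrice
  have e1 := AB R (R ⧸ I) a ha
  have e2 := AB (R ⧸ I) E b hb
  have e3 := AB R E c hc
  have d1 : LocCoh.depth R (R ⧸ I) = LocCoh.depth (R ⧸ I) (R ⧸ I) :=
    Groth.Agent.Helper2.RegCM.depth_eq_of_isLocalHom R (R ⧸ I) (R ⧸ I)
  have d2 : LocCoh.depth R E = LocCoh.depth (R ⧸ I) E :=
    Groth.Agent.Helper2.RegCM.depth_eq_of_isLocalHom R (R ⧸ I) E
  have hfinE : LocCoh.depth R E ≠ ⊤ :=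
    Groth.Agent.Helper2.DepthCM.idealDepth_ne_top _ E (Groth.Agent.Helper2.Depth.smul_top_ne_top R E)
  obtain ⟨t, ht⟩ := ENat.ne_top_iff_exists.mp hfinE
  rw [hc, ha, hb]
  have key : c = a + b := by
    rw [d1, e2, ← d2, ← ht] at e1
    rw [← ht, e1] at e3
    have : ((a + (b + t) : ℕ) : ℕ∞) = ((c + t : ℕ) : ℕ∞) := by
      push_cast
      exact e3
    have := ENat.natCast_inj.mp this
    omega
  rw [key]
  rfl

end Main

end Groth.Agent.Helper6.PdQuotAdd
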