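import Mathlib
import Groth.Prelude.Def_CAlg
import Groth.Agent.Helper6.PdQuotAdd
import Groth.Agent.Helper1.ExtRing
import Groth.Agent.Helper1.RegAB
import Groth.Agent.Helper2.DepthLoc

/-!
# Depth of a finite module over a regular local ring via vanishing of `Ext^q(M, A)`
(consequence of the Auslander–Buchsbaum formula, taken as a hypothesis `AB`).
-/

set_option autoImplicit false
universe u

namespace Groth.Agent.Helper6.RegDepthExt

open CategoryTheory Abelian IsLocalRing
open Groth.Agent.Helper6.PdQuotAdd

variable (A : Type u) [CommRing A] [IsRegularLocalRing A]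

theorem depth_self (n : ℕ) (hn : ringKrullDim A = n) : LocCoh.depth A A = n := by
  have h := Groth.Agent.Helper2.RegCM.cm_of_isRegularLocalRing A
  unfold LocCoh.IsCohenMacaulayModule at h
  rw [Module.supportDim_self_eq_ringKrullDim, hn] at h
  have h' : ((n : ℕ∞) : WithBot ℕ∞) = ((LocCoh.depth A A : ℕ∞) : WithBot ℕ∞) := h
  exact (WithBot.coe_inj.mp h').symm

variable (M : Type u) [AddCommGroup M] [Module A M] [Module.Finite A M]

/-- `Ext^e(M, A) ≠ 0` for `e = pd M` -/
theorem nontrivial_ext_top [Nontrivial M] (e : ℕ)
    (he : projectiveDimension (ModuleCat.of A M) = e) :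
    Nontrivial (Ext (ModuleCat.of A M) (ModuleCat.of A A) e) := by
  have hlt : HasProjectiveDimensionLT (ModuleCat.of A M) (e + 1) := by
    have : projectiveDimension (ModuleCat.of A M) ≤ e := le_of_eq he
    exact (projectiveDimension_le_iff _ e).mp this
  rcases Nat.eq_zero_or_pos e with rfl | hpos
  · -- `M` is free and nonzero
    haveI : Module.Projective A M := by
      rw [zero_add] at hlt
      exact (Groth.Agent.Helper7.PdLen.pd_lt_one_iff).mp hlt
    haveI : Module.Free A M := Module.free_of_flat_of_isLocalRing
    let bb := Module.finBasis A M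
    have hpos : 0 < Module.finrank A M := (Module.finrank_pos_iff_of_free A M).mpr inferInstance
    let i0 : Fin (Module.finrank A M) := ⟨0, hpos⟩
    have hne : bb.coord i0 ≠ 0 := by
      intro h
      have := congrArg (fun φ => φ (bb i0)) h
      simp at this
    have hne' : Ext.mk₀ (ModuleCat.ofHom (bb.coord i0)) ≠
        (0 : Ext (ModuleCat.of A M) (ModuleCat.of A A) 0) := by
      intro h
      rw [← Ext.mk₀_zero] at h
      have := (Ext.mk₀_bijective _ _).1 h
      apply hne
      have h2 := congrArg ModuleCat.Hom.hom this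
      simpa using h2
    exact ⟨⟨_, _, hne'⟩⟩
  · obtain ⟨e', rfl⟩ : ∃ e', e = e' + 1 := ⟨e - 1, by omega⟩
    have hnot : ¬ HasProjectiveDimensionLT (ModuleCat.of A M) (e' + 1) := by
      intro h
      have h1 := (projectiveDimension_lt_iff (X := ModuleCat.of A M) (n := e' + 1)).mpr h
      rw [he] at h1
      exact lt_irrefl _ h1
    rw [Groth.Agent.Helper1.ExtRing.hasProjectiveDimensionLT_iff_ext_ring_vanish] at hnot
    push Not at hnot
    obtain ⟨i, hi, hi'⟩ := hnot
    rcases Nat.lt_or_ge (e' + 1) i with h | h
    · exfalso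
      haveI := HasProjectiveDimensionLT.subsingleton (ModuleCat.of A M) (e' + 1 + 1) i h
        (ModuleCat.of A A)
      exact not_subsingleton _ ‹_›
    · have : i = e' + 1 := by omega
      subst this
      exact hi'

theorem main_of_AB (AB : ABStatement.{u})
    (n : ℕ) (hn : ringKrullDim A = n) (k c : ℕ) :
    ((min k (n - c) : ℕ) : ℕ∞) ≤ LocCoh.depth A M ↔
      ∀ q : ℕ, c < q → Nontrivial (Abelian.Ext (ModuleCat.of A M) (ModuleCat.of A A) q) →
        q + k ≤ n := by
  rcases subsingleton_or_nontrivial M with hM | hM
  · rw [Groth.Agent.Helper2.DepthLoc.depth_eq_top_of_subsingleton]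
    refine ⟨fun _ q _ hq => ?_, fun _ => le_top⟩
    exfalso
    haveI := Groth.Agent.Helper1.RegAB.subsingleton_ext_of_subsingleton M (ModuleCat.of A A) q
    exact not_subsingleton _ ‹_›
  · have hpd := Groth.Agent.Helper1.RegAB.pd_le_dim n hn M
    have hne_top : projectiveDimension (ModuleCat.of A M) ≠ ⊤ := by
      rw [projectiveDimension_ne_top_iff]
      exact ⟨n, hpd⟩
    have nz : ¬ Limits.IsZero (ModuleCat.of A M) := fun h =>
      not_subsingleton M (ModuleCat.subsingleton_of_isZero h)
    obtain ⟨e, he⟩ := exists_nat_of_ne_top _ nz hne_top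
    have hab := AB A M e he
    rw [depth_self A n hn] at hab
    have hfin : LocCoh.depth A M ≠ ⊤ :=
      Groth.Agent.Helper2.DepthCM.idealDepth_ne_top _ M
        (Groth.Agent.Helper2.Depth.smul_top_ne_top A M)
    obtain ⟨d, hd⟩ := ENat.ne_top_iff_exists.mp hfin
    rw [← hd] at hab ⊢
    have hned : n = e + d := by
      have : ((n : ℕ) : ℕ∞) = ((e + d : ℕ) : ℕ∞) := by
        push_cast
        exact hab
      exact ENat.natCast_inj.mp this
    have hlt : HasProjectiveDimensionLT (ModuleCat.of A M) (e + 1) := by
      have : projectiveDimension (ModuleCat.of A M) ≤ e := le_of_eq he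
      exact (projectiveDimension_le_iff _ e).mp this
    have htop := nontrivial_ext_top A M e he
    rw [Nat.cast_le]
    constructor
    · intro h q hq hq'
      have hqe : q ≤ e := by
        by_contra hcon
        push Not at hcon
        haveI := HasProjectiveDimensionLT.subsingleton (ModuleCat.of A M) (e + 1) q hcon
          (ModuleCat.of A A)
        exact not_subsingleton _ ‹_›
      rcases min_le_iff.mp h with h | h
      · omega
      · omega
    · intro h
      rcases Nat.lt_or_ge c e with hce | hce
      · have := h e hce htop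
        exact min_le_iff.mpr (Or.inl (by omega))
      · exact min_le_iff.mpr (Or.inr (by omega))

end Groth.Agent.Helper6.RegDepthExt
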