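import Mathlib
import Groth.Prelude.Def_CAlg
import Groth.Agent.Helper1.LocCohDepth
import Groth.Agent.Helper1.TorCrit
import Groth.Agent.Helper2.DepthRees

/-!
# The depth lemma for short exact sequences (via the long exact sequence of `Ext`)
-/

set_option autoImplicit false
universe u

namespace Groth.Agent.Helper6.DepthLemma

open CategoryTheory Abelian RingTheory.Sequence
open Groth.Agent.Helper2.DepthRees

variable {A : Type u} [CommRing A] [IsNoetherianRing A] (I : Ideal A)

/-- vanishing of `Ext^i(A/I, M)` for `i < n` -/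
def ExtVan (M : Type u) [AddCommGroup M] [Module A M] (n : ℕ) : Prop :=
  ∀ i < n, Subsingleton (Ext (Q I) (ModuleCat.of A M) i)

omit [IsNoetherianRing A] in
lemma isWeaklyRegular_of_subsingleton (rs : List A) :
    ∀ (N : Type u) [AddCommGroup N] [Module A N] [Subsingleton N], IsWeaklyRegular N rs := by
  induction rs with
  | nil => intro N _ _ _; exact IsWeaklyRegular.nil A N
  | cons a rs ih =>
    intro N _ _ _
    rw [isWeaklyRegular_cons_iff]
    refine ⟨fun x y _ => Subsingleton.elim x y, ih _⟩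

section Iff

variable (M : Type u) [AddCommGroup M] [Module A M] [Module.Finite A M]

omit [IsNoetherianRing A] in
lemma extVan_of_smul_top_eq_top (h : I • (⊤ : Submodule A M) = ⊤) (n : ℕ) : ExtVan I M n := by
  obtain ⟨r, hr, hr0⟩ := Submodule.exists_sub_one_mem_and_smul_eq_zero_of_fg_of_le_smul I
    (⊤ : Submodule A M) Module.Finite.fg_top h.ge
  have ha : (1 - r) ∈ I := by
    have := I.neg_mem hr
    rwa [neg_sub] at this
  have hact : ∀ m : M, (1 - r) • m = m := by
    intro m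
    rw [sub_smul, one_smul, hr0 m Submodule.mem_top, sub_zero]
  have hreg : IsSMulRegular M (1 - r) := by
    intro x y hxy
    simp only [hact] at hxy
    exact hxy
  haveI : Subsingleton (QuotSMulTop (1 - r) M) := by
    refine ⟨fun x y => ?_⟩
    obtain ⟨x, rfl⟩ := Submodule.Quotient.mk_surjective _ x
    obtain ⟨y, rfl⟩ := Submodule.Quotient.mk_surjective _ y
    rw [Submodule.Quotient.eq]
    have : x - y = (1 - r) • (x - y) := (hact _).symm
    rw [this]
    exact Submodule.smul_mem_pointwise_smul _ _ _ Submodule.mem_top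
  intro i hi
  have hwr : IsWeaklyRegular M (List.replicate n (1 - r)) := by
    cases n with
    | zero => exact IsWeaklyRegular.nil A M
    | succ n =>
      rw [List.replicate_succ, isWeaklyRegular_cons_iff]
      exact ⟨hreg, isWeaklyRegular_of_subsingleton _ _⟩
  have hN : ∀ a ∈ I, a ^ 1 ∈ Module.annihilator A (Q I) := by
    intro a ha
    rw [pow_one, Module.mem_annihilator]
    intro x
    obtain ⟨x, rfl⟩ := Ideal.Quotient.mk_surjective x
    show a • Ideal.Quotient.mk I x = 0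
    rw [← Ideal.Quotient.mk_eq_mk, ← Submodule.Quotient.mk_smul, Ideal.Quotient.mk_eq_mk,
      Ideal.Quotient.eq_zero_iff_mem]
    exact I.mul_mem_right _ ha
  exact ext_subsingleton_of_weaklyRegular I (Q I) 1 hN _ (ModuleCat.of A M) hwr
    (fun x hx => (List.eq_of_mem_replicate hx) ▸ ha) i (by simpa using hi)

theorem le_idealDepth_iff_extVan (n : ℕ) :
    (n : ℕ∞) ≤ LocCoh.idealDepth I M ↔ ExtVan I M n := by
  by_cases hIM : I • (⊤ : Submodule A M) = ⊤
  · constructor
    · intro _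
      exact extVan_of_smul_top_eq_top I M hIM n
    · intro _
      unfold LocCoh.idealDepth
      rw [if_pos hIM]
      exact le_top
  · rw [Groth.Agent.Helper1.LocCohDepth.le_idealDepth_iff I M hIM n,
      ← ext_Q_subsingleton_iff I n (ModuleCat.of A M) hIM]
    rfl

end Iff

section LES

variable {M₁ M₂ M₃ : Type u} [AddCommGroup M₁] [Module A M₁] [AddCommGroup M₂] [Module A M₂]
  [AddCommGroup M₃] [Module A M₃] (f : M₁ →ₗ[A] M₂) (g : M₂ →ₗ[A] M₃)
  (hf : Function.Injective f) (hg : Function.Surjective g) (hfg : Function.Exact f g)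

include hf hg hfg

omit [IsNoetherianRing A] in
theorem extVan_mid (n : ℕ) (h1 : ExtVan I M₁ n) (h3 : ExtVan I M₃ n) : ExtVan I M₂ n := by
  intro i hi
  have hS := Groth.Agent.Helper1.TorLib.scOfLinear_shortExact f g hf hg hfg
  haveI : Subsingleton (Ext (Q I) (Groth.Agent.Helper1.TorLib.scOfLinear f g hfg).X₁ i) := h1 i hi
  haveI : Subsingleton (Ext (Q I) (Groth.Agent.Helper1.TorLib.scOfLinear f g hfg).X₃ i) := h3 i hi
  refine ⟨fun x y => ?_⟩
  have key : ∀ x₂ : Ext (Q I) (Groth.Agent.Helper1.TorLib.scOfLinear f g hfg).X₂ i, x₂ = 0 := by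
    intro x₂
    obtain ⟨x₁, hx₁⟩ := Ext.covariant_sequence_exact₂ (Q I) hS x₂ (Subsingleton.elim _ _)
    rw [← hx₁, Subsingleton.elim x₁ 0, Ext.zero_comp]
  exact (key x).trans (key y).symm

omit [IsNoetherianRing A] in
theorem extVan_left (n : ℕ) (h2 : ExtVan I M₂ n) (h3 : ExtVan I M₃ (n - 1)) : ExtVan I M₁ n := by
  intro i hi
  have hS := Groth.Agent.Helper1.TorLib.scOfLinear_shortExact f g hf hg hfg
  haveI : Subsingleton (Ext (Q I) (Groth.Agent.Helper1.TorLib.scOfLinear f g hfg).X₂ i) := h2 i hi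
  refine ⟨fun x y => ?_⟩
  have key : ∀ x₁ : Ext (Q I) (Groth.Agent.Helper1.TorLib.scOfLinear f g hfg).X₁ i, x₁ = 0 := by
    intro x₁
    cases i with
    | zero =>
      haveI : Mono (Groth.Agent.Helper1.TorLib.scOfLinear f g hfg).f := hS.mono_f
      apply Ext.postcomp_mk₀_injective_of_mono (Q I)
        (Groth.Agent.Helper1.TorLib.scOfLinear f g hfg).f
      exact Subsingleton.elim _ _
    | succ j =>
      haveI : Subsingleton (Ext (Q I) (Groth.Agent.Helper1.TorLib.scOfLinear f g hfg).X₃ j) := h3 j (by omega)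
      obtain ⟨x₃, hx₃⟩ := Ext.covariant_sequence_exact₁ (Q I) hS x₁ (Subsingleton.elim _ _)
        (n₀ := j) rfl
      rw [← hx₃, Subsingleton.elim x₃ 0, Ext.zero_comp]
  exact (key x).trans (key y).symm

omit [IsNoetherianRing A] in
theorem extVan_right (n : ℕ) (h2 : ExtVan I M₂ n) (h1 : ExtVan I M₁ (n + 1)) : ExtVan I M₃ n := by
  intro i hi
  have hS := Groth.Agent.Helper1.TorLib.scOfLinear_shortExact f g hf hg hfg
  haveI : Subsingleton (Ext (Q I) (Groth.Agent.Helper1.TorLib.scOfLinear f g hfg).X₂ i) := h2 i hi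
  haveI : Subsingleton (Ext (Q I) (Groth.Agent.Helper1.TorLib.scOfLinear f g hfg).X₁ (i + 1)) := h1 (i + 1) (by omega)
  refine ⟨fun x y => ?_⟩
  have key : ∀ x₃ : Ext (Q I) (Groth.Agent.Helper1.TorLib.scOfLinear f g hfg).X₃ i, x₃ = 0 := by
    intro x₃
    obtain ⟨x₂, hx₂⟩ := Ext.covariant_sequence_exact₃ (Q I) hS x₃ (n₁ := i + 1) rfl
      (Subsingleton.elim _ _)
    rw [← hx₂, Subsingleton.elim x₂ 0, Ext.zero_comp]
  exact (key x).trans (key y).symm

variable [Module.Finite A M₁] [Module.Finite A M₂] [Module.Finite A M₃]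

/-- `depth M₂ ≥ min (depth M₁) (depth M₃)` -/
theorem le_idealDepth_mid (n : ℕ) (h1 : (n : ℕ∞) ≤ LocCoh.idealDepth I M₁)
    (h3 : (n : ℕ∞) ≤ LocCoh.idealDepth I M₃) : (n : ℕ∞) ≤ LocCoh.idealDepth I M₂ := by
  rw [le_idealDepth_iff_extVan] at h1 h3 ⊢
  exact extVan_mid I f g hf hg hfg n h1 h3

/-- `depth M₁ ≥ min (depth M₂) (depth M₃ + 1)` -/
theorem le_idealDepth_left (n : ℕ) (h2 : (n : ℕ∞) ≤ LocCoh.idealDepth I M₂)
    (h3 : (n : ℕ∞) ≤ LocCoh.idealDepth I M₃ + 1) : (n : ℕ∞) ≤ LocCoh.idealDepth I M₁ := by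
  have h3' : ((n - 1 : ℕ) : ℕ∞) ≤ LocCoh.idealDepth I M₃ := by
    cases n with
    | zero => simp
    | succ k =>
      simp only [Nat.add_sub_cancel]
      push_cast at h3
      exact (ENat.add_le_add_iff_right ENat.one_ne_top).mp h3
  rw [le_idealDepth_iff_extVan] at h2 h3' ⊢
  exact extVan_left I f g hf hg hfg n h2 h3'

/-- `depth M₃ ≥ min (depth M₂) (depth M₁ - 1)` -/
theorem le_idealDepth_right (n : ℕ) (h2 : (n : ℕ∞) ≤ LocCoh.idealDepth I M₂)
    (h1 : ((n + 1 : ℕ) : ℕ∞) ≤ LocCoh.idealDepth I M₁) : (n : ℕ∞) ≤ LocCoh.idealDepth I M₃ := by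
  rw [le_idealDepth_iff_extVan] at h2 h1 ⊢
  exact extVan_right I f g hf hg hfg n h2 h1

end LES

end Groth.Agent.Helper6.DepthLemma
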