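import Mathlib
import Groth.Prelude.Def_CAlg
import Groth.Agent.Helper6.DepthLemma
import Groth.Agent.Helper2.DepthCM

/-!
# Depth of retracts and of finite powers
-/

set_option autoImplicit false
universe u

namespace Groth.Agent.Helper6.DepthLemma

open CategoryTheory Abelian RingTheory.Sequence
open Groth.Agent.Helper2.DepthRees

variable {A : Type u} [CommRing A] [IsNoetherianRing A] (I : Ideal A)

section Retract

variable {N N' : Type u} [AddCommGroup N] [Module A N] [AddCommGroup N'] [Module A N']

omit [IsNoetherianRing A] in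
theorem extVan_of_retract (ι : N →ₗ[A] N') (π : N' →ₗ[A] N) (h : π ∘ₗ ι = LinearMap.id) (n : ℕ)
    (hv : ExtVan I N' n) : ExtVan I N n := by
  intro i hi
  haveI := hv i hi
  refine ⟨fun x y => ?_⟩
  have key : ∀ x : Ext (Q I) (ModuleCat.of A N) i, x = 0 := by
    intro x
    have h1 : ModuleCat.ofHom ι ≫ ModuleCat.ofHom π = 𝟙 (ModuleCat.of A N) := by
      rw [← ModuleCat.ofHom_comp, h]
      rfl
    have h2 : x = (x.comp (Ext.mk₀ (ModuleCat.ofHom ι)) (add_zero i)).comp
        (Ext.mk₀ (ModuleCat.ofHom π)) (add_zero i) := by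
      rw [Ext.comp_assoc_of_third_deg_zero, Ext.mk₀_comp_mk₀, h1, Ext.comp_mk₀_id]
    rw [h2, Subsingleton.elim (x.comp (Ext.mk₀ (ModuleCat.ofHom ι)) (add_zero i)) 0,
      Ext.zero_comp]
  exact (key x).trans (key y).symm

variable [Module.Finite A N] [Module.Finite A N']

theorem idealDepth_le_of_retract (ι : N →ₗ[A] N') (π : N' →ₗ[A] N)
    (h : π ∘ₗ ι = LinearMap.id) : LocCoh.idealDepth I N' ≤ LocCoh.idealDepth I N := by
  rw [← ENat.forall_natCast_le_iff_le]
  intro n hn
  rw [le_idealDepth_iff_extVan] at hn ⊢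
  exact extVan_of_retract I ι π h n hn

end Retract

section Pi

variable (N : Type u) [AddCommGroup N] [Module A N] [Module.Finite A N]

theorem idealDepth_pi_ge (s : ℕ) : LocCoh.idealDepth I N ≤ LocCoh.idealDepth I (Fin s → N) := by
  induction s with
  | zero =>
    have : I • (⊤ : Submodule A (Fin 0 → N)) = ⊤ := Subsingleton.elim _ _
    unfold LocCoh.idealDepth
    rw [if_pos this]
    exact le_top
  | succ s ih =>
    rw [← ENat.forall_natCast_le_iff_le]
    intro n hn
    -- 0 → N → N^{s+1} → N^s → 0
    let f : N →ₗ[A] (Fin (s + 1) → N) := LinearMap.single A (fun _ => N) 0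
    let g : (Fin (s + 1) → N) →ₗ[A] (Fin s → N) := LinearMap.funLeft A N Fin.succ
    have hf : Function.Injective f := by
      intro x y hxy
      have := congrFun hxy 0
      simpa [f] using this
    have hg : Function.Surjective g := by
      intro v
      refine ⟨Fin.cons 0 v, ?_⟩
      ext i
      simp [g, LinearMap.funLeft_apply]
    have hfg : Function.Exact f g := by
      intro v
      constructor
      · intro hv
        refine ⟨v 0, ?_⟩
        ext i
        refine Fin.cases ?_ (fun j => ?_) i
        · simp [f]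
        · have := congrFun hv j
          simp only [g, LinearMap.funLeft_apply, Pi.zero_apply] at this
          simp [f, this]
      · rintro ⟨x, rfl⟩
        ext j
        simp [f, g, LinearMap.funLeft_apply, Fin.succ_ne_zero]
    exact le_idealDepth_mid I f g hf hg hfg n hn (hn.trans ih)

theorem idealDepth_pi (s : ℕ) (hs : 1 ≤ s) :
    LocCoh.idealDepth I (Fin s → N) = LocCoh.idealDepth I N := by
  apply le_antisymm _ (idealDepth_pi_ge I N s)
  obtain ⟨s, rfl⟩ : ∃ t, s = t + 1 := ⟨s - 1, by omega⟩
  refine idealDepth_le_of_retract I (LinearMap.single A (fun _ => N) 0)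
    (LinearMap.proj 0) ?_
  ext x
  simp

end Pi

section Eq

variable {M₁ M₂ M₃ : Type u} [AddCommGroup M₁] [Module A M₁] [AddCommGroup M₂] [Module A M₂]
  [AddCommGroup M₃] [Module A M₃] (f : M₁ →ₗ[A] M₂) (g : M₂ →ₗ[A] M₃)
  (hf : Function.Injective f) (hg : Function.Surjective g) (hfg : Function.Exact f g)
  [Module.Finite A M₁] [Module.Finite A M₂] [Module.Finite A M₃]

include hf hg hfg

/-- if the outer terms have the same depth `d` then so does the middle term -/
theorem idealDepth_mid_eq (d : ℕ∞) (h1 : LocCoh.idealDepth I M₁ = d)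
    (h3 : LocCoh.idealDepth I M₃ = d) : LocCoh.idealDepth I M₂ = d := by
  apply le_antisymm
  · by_contra hlt
    rw [not_le] at hlt
    have hd : d ≠ ⊤ := ne_top_of_lt hlt
    obtain ⟨d₀, rfl⟩ := ENat.ne_top_iff_exists.mp hd
    have h2 : ((d₀ + 1 : ℕ) : ℕ∞) ≤ LocCoh.idealDepth I M₂ := by
      push_cast
      exact (ENat.add_one_le_iff hd).mpr hlt
    have := le_idealDepth_left I f g hf hg hfg (d₀ + 1) h2 (by rw [h3]; push_cast; exact le_rfl)
    rw [h1] at this
    have : d₀ + 1 ≤ d₀ := by exact_mod_cast this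
    omega
  · rw [← ENat.forall_natCast_le_iff_le]
    intro n hn
    exact le_idealDepth_mid I f g hf hg hfg n (h1 ▸ hn) (h3 ▸ hn)

end Eq

end Groth.Agent.Helper6.DepthLemma
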