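import Mathlib
import Groth.Prelude.Def_ARSys
import Groth.Agent.Helper1.LocCohArtinian

set_option autoImplicit false

/-!
# An inverse system of Artinian modules is Mittag-Leffler
-/

namespace Groth.Agent.Helper6.MLArt
open CategoryTheory Limits Opposite

universe u

variable {A : Type u} [CommRing A]

lemma imageSubobject_le_of_range_le {X Y Z : ModuleCat.{u} A} (f : X ⟶ Z) (g : Y ⟶ Z)
    (h : LinearMap.range f.hom ≤ LinearMap.range g.hom) :
    imageSubobject f ≤ imageSubobject g := by
  let k : X ⟶ Limits.image g :=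
    ModuleCat.ofHom (f.hom.codRestrict (LinearMap.range g.hom) (fun x => h ⟨x, rfl⟩)) ≫
      (ModuleCat.imageIsoRange g).inv
  have hk : k ≫ Limits.image.ι g = f := by
    rw [Category.assoc, ModuleCat.imageIsoRange_inv_image_ι]
    rfl
  exact imageSubobject_le_mk (Limits.image.ι g) f k hk

lemma imageSubobject_eq_of_range_eq {X Y Z : ModuleCat.{u} A} (f : X ⟶ Z) (g : Y ⟶ Z)
    (h : LinearMap.range f.hom = LinearMap.range g.hom) :
    imageSubobject f = imageSubobject g :=
  le_antisymm (imageSubobject_le_of_range_le f g h.le) (imageSubobject_le_of_range_le g f h.ge)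

theorem isML_of_isArtinian (X : ARSys.PS (ModuleCat.{u} A))
    (hX : ∀ n : ℕ, IsArtinian A (X.obj (op n))) : ARSys.IsML X := by
  intro n
  have := hX n
  have hanti : ∀ s s' : ℕ, s ≤ s' →
      LinearMap.range (ARSys.shiftMap X s' n).hom ≤ LinearMap.range (ARSys.shiftMap X s n).hom := by
    intro s s' hss
    have h1 : X.map (homOfLE (Nat.le_add_right n s')).op =
        X.map (homOfLE (show n + s ≤ n + s' by omega)).op ≫
          X.map (homOfLE (Nat.le_add_right n s)).op := by
      rw [← X.map_comp]
      exact congrArg X.map (Subsingleton.elim _ _)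
    show LinearMap.range (X.map (homOfLE (Nat.le_add_right n s')).op).hom ≤
      LinearMap.range (X.map (homOfLE (Nat.le_add_right n s)).op).hom
    rw [h1]
    rintro _ ⟨x, rfl⟩
    exact ⟨_, rfl⟩
  let f : ℕ →o (Submodule A (X.obj (op n)))ᵒᵈ :=
    { toFun := fun s => OrderDual.toDual (LinearMap.range (ARSys.shiftMap X s n).hom)
      monotone' := fun s s' hss => hanti s s' hss }
  obtain ⟨r, hr⟩ := IsArtinian.monotone_stabilizes f
  refine ⟨r, fun s hs => ?_⟩
  apply imageSubobject_eq_of_range_eq
  exact (congrArg OrderDual.ofDual (hr s hs)).symm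

theorem main [IsNoetherianRing A] [IsLocalRing A] (Msys : ℕᵒᵖ ⥤ ModuleCat.{u} A)
    (hfin : ∀ n : ℕᵒᵖ, Module.Finite A (Msys.obj n)) (i : ℕ) :
    ARSys.IsML (Msys ⋙ localCohomology (IsLocalRing.maximalIdeal A) i) := by
  apply isML_of_isArtinian
  intro n
  have := hfin (op n)
  exact Groth.Agent.Helper1.LocCohArtinian.isArtinian_lc i (Msys.obj (op n))

end Groth.Agent.Helper6.MLArt
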