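import Mathlib

set_option autoImplicit false
set_option linter.style.haveILetI false
set_option linter.unusedSectionVars false
set_option linter.unusedVariables false

/-!
# `Ext` into a product, under acyclicity on a separating family

In an abelian category with enough injectives, let `𝒵` be a separating set of objects and
`F : ι → 𝒜` a family with `Extᵖ⁺¹(Z, F n) = 0` for all `Z ∈ 𝒵`.  Then for every object `W`,
`Extᵖ(W, ∏ F) → ∏ Extᵖ(W, F n)` is bijective.
-/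

namespace Groth.Agent.Helper6.ExtProd

open CategoryTheory Limits Abelian

universe w v u t

variable {𝒜 : Type u} [Category.{v} 𝒜] [Abelian 𝒜] [HasExt.{w} 𝒜]

/-- pushforward on `Ext` -/
noncomputable def push {W A B : 𝒜} (φ : A ⟶ B) {p : ℕ} : Ext W A p →+ Ext W B p :=
  (Ext.mk₀ φ).postcomp W (add_zero p)

lemma push_apply {W A B : 𝒜} (φ : A ⟶ B) {p : ℕ} (x : Ext W A p) :
    push φ x = x.comp (Ext.mk₀ φ) (add_zero p) := rfl

lemma push_comp {W A B C : 𝒜} (φ : A ⟶ B) (ψ : B ⟶ C) {p : ℕ} (x : Ext W A p) :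
    push (φ ≫ ψ) x = push ψ (push φ x) := by
  rw [push_apply, push_apply, push_apply, Ext.comp_assoc_of_third_deg_zero, Ext.mk₀_comp_mk₀]

lemma push_sub {W A B : 𝒜} (φ ψ : A ⟶ B) {p : ℕ} (x : Ext W A p) :
    push (φ - ψ) x = push φ x - push ψ x := by
  rw [push_apply, push_apply, push_apply, sub_eq_add_neg, Ext.mk₀_add, Ext.mk₀_neg, Ext.comp_add,
    Ext.comp_neg, sub_eq_add_neg]

/-- the connecting homomorphism -/
noncomputable def dl {W : 𝒜} {S : ShortComplex 𝒜} (hS : S.ShortExact) {p : ℕ} :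
    Ext W S.X₃ p →+ Ext W S.X₁ (p + 1) :=
  hS.extClass.postcomp W rfl

lemma dl_apply {W : 𝒜} {S : ShortComplex 𝒜} (hS : S.ShortExact) {p : ℕ} (y : Ext W S.X₃ p) :
    dl hS y = y.comp hS.extClass rfl := rfl

lemma dl_push_g {W : 𝒜} {S : ShortComplex 𝒜} (hS : S.ShortExact) {p : ℕ} (z : Ext W S.X₂ p) :
    dl hS (push S.g z) = 0 := by
  rw [dl_apply, push_apply, Ext.comp_assoc_of_second_deg_zero, hS.comp_extClass, Ext.comp_zero]

lemma push_f_dl {W : 𝒜} {S : ShortComplex 𝒜} (hS : S.ShortExact) {p : ℕ} (y : Ext W S.X₃ p) :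
    push S.f (dl hS y) = 0 := by
  rw [dl_apply, push_apply, Ext.comp_assoc_of_third_deg_zero, hS.extClass_comp, Ext.comp_zero]

lemma dl_nat {W : 𝒜} {S₁ S₂ : ShortComplex 𝒜} (h₁ : S₁.ShortExact) (h₂ : S₂.ShortExact)
    (φ : S₁ ⟶ S₂) {p : ℕ} (y : Ext W S₁.X₃ p) :
    push φ.τ₁ (dl h₁ y) = dl h₂ (push φ.τ₃ y) := by
  rw [dl_apply, dl_apply, push_apply, push_apply, Ext.comp_assoc_of_third_deg_zero,
    ShortComplex.ShortExact.extClass_naturality h₁ h₂ φ, Ext.comp_assoc_of_second_deg_zero]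

lemma exact₁ {W : 𝒜} {S : ShortComplex 𝒜} (hS : S.ShortExact) {p : ℕ} (x : Ext W S.X₁ (p + 1))
    (hx : push S.f x = 0) : ∃ y : Ext W S.X₃ p, dl hS y = x :=
  Ext.covariant_sequence_exact₁ W hS x hx rfl

lemma exact₂ {W : 𝒜} {S : ShortComplex 𝒜} (hS : S.ShortExact) {p : ℕ} (x : Ext W S.X₂ p)
    (hx : push S.g x = 0) : ∃ y : Ext W S.X₁ p, push S.f y = x :=
  Ext.covariant_sequence_exact₂ W hS x hx

lemma exact₃ {W : 𝒜} {S : ShortComplex 𝒜} (hS : S.ShortExact) {p : ℕ} (x : Ext W S.X₃ p)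
    (hx : dl hS x = 0) : ∃ y : Ext W S.X₂ p, push S.g y = x :=
  Ext.covariant_sequence_exact₃ W hS x rfl hx

/-- a separating set of objects -/
def Sep (𝒵 : Set 𝒜) : Prop :=
  ∀ ⦃A B : 𝒜⦄ (c : A ⟶ B), (∀ Z ∈ 𝒵, ∀ z : Z ⟶ A, z ≫ c = 0) → c = 0

lemma epi_of_sep {𝒵 : Set 𝒜} (h𝒵 : Sep 𝒵) {A B : 𝒜} (f : A ⟶ B)
    (hf : ∀ Z ∈ 𝒵, ∀ z : Z ⟶ B, ∃ z' : Z ⟶ A, z' ≫ f = z) : Epi f := by
  apply Preadditive.epi_of_cancel_zero
  intro C g hg
  apply h𝒵
  intro Z hZ z
  obtain ⟨z', rfl⟩ := hf Z hZ z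
  rw [Category.assoc, hg, comp_zero]

variable {ι : Type t}

/-- acyclicity of a family with respect to a set of test objects -/
def Acyc (𝒵 : Set 𝒜) (F : ι → 𝒜) : Prop :=
  ∀ Z ∈ 𝒵, ∀ (n : ι) (p : ℕ) (x : Ext Z (F n) (p + 1)), x = 0

lemma injective_pi (c : ι → 𝒜) [HasProduct c] [∀ n, Injective (c n)] : Injective (∏ᶜ c) where
  factors g f _ := ⟨Pi.lift (fun n => Injective.factorThru (g ≫ Pi.π c n) f), by
    apply Pi.hom_ext
    intro n
    rw [Category.assoc, Pi.lift_π, Injective.comp_factorThru]⟩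

variable [HasProductsOfShape ι 𝒜]

/-- the comparison map -/
noncomputable def cmp (W : 𝒜) (F : ι → 𝒜) (p : ℕ) : Ext W (∏ᶜ F) p →+ ∀ n, Ext W (F n) p :=
  AddMonoidHom.pi (fun n => push (Pi.π F n))

lemma cmp_apply (W : 𝒜) (F : ι → 𝒜) (p : ℕ) (x : Ext W (∏ᶜ F) p) (n : ι) :
    cmp W F p x n = push (Pi.π F n) x := rfl

lemma cmp_zero_bijective (W : 𝒜) (F : ι → 𝒜) : Function.Bijective (cmp W F 0) := by
  constructor
  · rw [injective_iff_map_eq_zero]
    intro x hx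
    obtain ⟨f, rfl⟩ := (Ext.mk₀_bijective W (∏ᶜ F)).2 x
    have hf : f = 0 := by
      apply Pi.hom_ext
      intro n
      have h : cmp W F 0 (Ext.mk₀ f) n = 0 := congrFun hx n
      rw [cmp_apply, push_apply, Ext.mk₀_comp_mk₀, Ext.mk₀_eq_zero_iff] at h
      rw [h, zero_comp]
    rw [hf, Ext.mk₀_zero]
  · intro y
    choose f hf using fun n => (Ext.mk₀_bijective W (F n)).2 (y n)
    refine ⟨Ext.mk₀ (Pi.lift f), ?_⟩
    funext n
    rw [cmp_apply, push_apply, Ext.mk₀_comp_mk₀, Pi.lift_π, hf]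

variable [EnoughInjectives 𝒜]

/-- the injective hulls -/
noncomputable abbrev Iu (F : ι → 𝒜) (n : ι) : 𝒜 := Injective.under (F n)

/-- the cosyzygies -/
noncomputable abbrev Qc (F : ι → 𝒜) (n : ι) : 𝒜 := cokernel (Injective.ι (F n))

/-- the short exact sequences `F n → I n → Q n` -/
noncomputable abbrev S (F : ι → 𝒜) (n : ι) : ShortComplex 𝒜 :=
  ShortComplex.mk (Injective.ι (F n)) (cokernel.π (Injective.ι (F n))) (cokernel.condition _)

lemma hS (F : ι → 𝒜) (n : ι) : (S F n).ShortExact where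
  exact := ShortComplex.exact_cokernel _
  mono_f := by dsimp; infer_instance
  epi_g := by dsimp; infer_instance

/-- the product of the inclusions -/
noncomputable def fP (F : ι → 𝒜) : ∏ᶜ F ⟶ ∏ᶜ (Iu F) := Limits.Pi.map (fun n => Injective.ι (F n))

/-- the product of the projections -/
noncomputable def gP (F : ι → 𝒜) : ∏ᶜ (Iu F) ⟶ ∏ᶜ (Qc F) :=
  Limits.Pi.map (fun n => cokernel.π (Injective.ι (F n)))

lemma fP_π (F : ι → 𝒜) (n : ι) : fP F ≫ Pi.π (Iu F) n = Pi.π F n ≫ Injective.ι (F n) :=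
  Pi.map_π _ _

lemma gP_π (F : ι → 𝒜) (n : ι) :
    gP F ≫ Pi.π (Qc F) n = Pi.π (Iu F) n ≫ cokernel.π (Injective.ι (F n)) :=
  Pi.map_π _ _

lemma fP_gP (F : ι → 𝒜) : fP F ≫ gP F = 0 := by
  apply Pi.hom_ext
  intro n
  rw [Category.assoc, gP_π, ← Category.assoc, fP_π, Category.assoc, cokernel.condition, comp_zero,
    zero_comp]

/-- the product sequence -/
noncomputable abbrev SP (F : ι → 𝒜) : ShortComplex 𝒜 := ShortComplex.mk (fP F) (gP F) (fP_gP F)

/-- the projections of the product sequence -/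
noncomputable def proj (F : ι → 𝒜) (n : ι) : SP F ⟶ S F n where
  τ₁ := Pi.π F n
  τ₂ := Pi.π (Iu F) n
  τ₃ := Pi.π (Qc F) n
  comm₁₂ := (fP_π F n).symm
  comm₂₃ := (gP_π F n).symm

lemma hSP {𝒵 : Set 𝒜} (h𝒵 : Sep 𝒵) {F : ι → 𝒜} (hF : Acyc 𝒵 F) : (SP F).ShortExact where
  exact := by
    rw [ShortComplex.exact_iff_exact_up_to_refinements]
    intro A x₂ hx₂
    have h : ∀ n, (x₂ ≫ Pi.π (Iu F) n) ≫ (S F n).g = 0 := by
      intro n
      have h1 : (x₂ ≫ gP F) ≫ Pi.π (Qc F) n = 0 := by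
        rw [show x₂ ≫ gP F = 0 from hx₂, zero_comp]
      rw [Category.assoc, gP_π, ← Category.assoc] at h1
      exact h1
    refine ⟨A, 𝟙 A, inferInstance,
      Pi.lift (fun n => (hS F n).exact.lift (x₂ ≫ Pi.π (Iu F) n) (h n)), ?_⟩
    apply Pi.hom_ext
    intro n
    rw [Category.id_comp, Category.assoc]
    show _ = _ ≫ fP F ≫ Pi.π (Iu F) n
    rw [fP_π, ← Category.assoc, Pi.lift_π]
    exact ((hS F n).exact.lift_f _ _).symm
  mono_f := by
    show Mono (fP F)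
    unfold fP
    infer_instance
  epi_g := by
    show Epi (gP F)
    apply epi_of_sep h𝒵
    intro Z hZ z
    have h : ∀ n, ∃ zn : Z ⟶ Iu F n,
        zn ≫ cokernel.π (Injective.ι (F n)) = z ≫ Pi.π (Qc F) n := by
      intro n
      obtain ⟨y, hy⟩ := exact₃ (hS F n) (Ext.mk₀ (z ≫ Pi.π (Qc F) n)) (hF Z hZ n 0 _)
      refine ⟨Ext.addEquiv₀ y, ?_⟩
      apply (Ext.mk₀_bijective _ _).1
      rw [← Ext.mk₀_comp_mk₀, Ext.mk₀_addEquiv₀_apply]
      exact hy
    choose zn hzn using h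
    refine ⟨Pi.lift zn, ?_⟩
    apply Pi.hom_ext
    intro n
    rw [Category.assoc, gP_π, ← Category.assoc, Pi.lift_π, hzn]

lemma acyc_Q {𝒵 : Set 𝒜} {F : ι → 𝒜} (hF : Acyc 𝒵 F) : Acyc 𝒵 (Qc F) := by
  intro Z hZ n p x
  have h1 : dl (hS F n) x = 0 := hF Z hZ n (p + 1) _
  obtain ⟨y, hy⟩ := exact₃ (hS F n) x h1
  have hy0 : y = 0 := Ext.eq_zero_of_injective (I := Iu F n) y
  rw [← hy, hy0, map_zero]

/-- `Ext` into a product of a family which is acyclic on a separating set -/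
theorem cmp_bijective {𝒵 : Set 𝒜} (h𝒵 : Sep 𝒵) (W : 𝒜) :
    ∀ (p : ℕ) (F : ι → 𝒜), Acyc 𝒵 F → Function.Bijective (cmp W F p)
  | 0, F, _ => cmp_zero_bijective W F
  | p + 1, F, hF => by
    have IH := cmp_bijective h𝒵 W p (Qc F) (acyc_Q hF)
    have hsp := hSP h𝒵 hF
    haveI : Injective (∏ᶜ (Iu F)) := injective_pi _
    have key : ∀ (n : ι) (y : Ext W (∏ᶜ (Qc F)) p),
        push (Pi.π F n) (dl hsp y) = dl (hS F n) (push (Pi.π (Qc F) n) y) :=
      fun n y => dl_nat hsp (hS F n) (proj F n) y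
    have liftI : ∀ (z : ∀ n, Ext W (Iu F n) p),
        ∃ z' : Ext W (∏ᶜ (Iu F)) p, ∀ n, push (Pi.π (Iu F) n) z' = z n := by
      intro z
      cases p with
      | zero =>
        obtain ⟨z', hz'⟩ := (cmp_zero_bijective W (Iu F)).2 z
        exact ⟨z', fun n => congrFun hz' n⟩
      | succ q =>
        exact ⟨0, fun n => by
          rw [map_zero]
          exact (Ext.eq_zero_of_injective (I := Iu F n) (z n)).symm⟩
    constructor
    · rw [injective_iff_map_eq_zero]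
      intro x hx
      have hx' : ∀ n, push (Pi.π F n) x = 0 := fun n => congrFun hx n
      have h1 : push (SP F).f x = 0 := Ext.eq_zero_of_injective (I := ∏ᶜ (Iu F)) _
      obtain ⟨y, rfl⟩ := exact₁ hsp x h1
      have h2 : ∀ n, ∃ zn : Ext W (Iu F n) p,
          push (cokernel.π (Injective.ι (F n))) zn = push (Pi.π (Qc F) n) y := by
        intro n
        have h := hx' n
        rw [key] at h
        exact exact₃ (hS F n) _ h
      choose z hz using h2
      obtain ⟨z', hz'⟩ := liftI z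
      have h3 : push (gP F) z' = y := by
        apply IH.1
        funext n
        show push (Pi.π (Qc F) n) (push (gP F) z') = push (Pi.π (Qc F) n) y
        rw [← push_comp, gP_π, push_comp, hz', hz]
      rw [← h3]
      exact dl_push_g hsp z'
    · intro x
      have h1 : ∀ n, ∃ yn : Ext W (Qc F n) p, dl (hS F n) yn = x n := by
        intro n
        exact exact₁ (hS F n) (x n) (Ext.eq_zero_of_injective (I := Iu F n) _)
      choose y hy using h1
      obtain ⟨y', hy'⟩ := IH.2 y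
      refine ⟨dl hsp y', ?_⟩
      funext n
      show push (Pi.π F n) (dl hsp y') = x n
      rw [key, ← hy n]
      congr 1
      exact congrFun hy' n

end Groth.Agent.Helper6.ExtProd
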