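import Mathlib
import Groth.Prelude.Def_Formal2
import Groth.Agent.Helper6.ExtProd

set_option autoImplicit false
set_option linter.style.haveILetI false
set_option linter.unusedSectionVars false
set_option linter.unusedVariables false

/-!
# `Ext` into the limit of a tower

For a tower `F : ℕᵒᵖ ⥤ 𝒜` with transition maps surjective on `Hom(Z, -)` and `Ext`-acyclic
terms for `Z` in a separating set, `0 → lim F → ∏ F_n → ∏ F_n → 0` is short exact and yields the
Milnor sequence `0 → lim¹ Ext^{i-1}(W, F_n) → Extⁱ(W, lim F) → lim Extⁱ(W, F_n) → 0`.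
-/

namespace Groth.Agent.Helper6.ExtTower

open CategoryTheory Limits Abelian Opposite
open Groth.Agent.Helper6.ExtProd

universe w v u

variable {𝒜 : Type u} [Category.{v} 𝒜] [Abelian 𝒜] [HasExt.{w} 𝒜]
  [HasProductsOfShape ℕ 𝒜] (F : ℕᵒᵖ ⥤ 𝒜) [HasLimit F]

/-- the terms of the tower -/
abbrev Fo (n : ℕ) : 𝒜 := F.obj (op n)

/-- the transition maps -/
abbrev tr (n : ℕ) : Fo F (n + 1) ⟶ Fo F n := F.map (homOfLE (Nat.le_succ n)).op

/-- the shift -/
noncomputable def sh : ∏ᶜ (Fo F) ⟶ ∏ᶜ (Fo F) :=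
  Pi.lift (fun n => Pi.π (Fo F) (n + 1) ≫ tr F n)

/-- `1 - shift` -/
noncomputable def D : ∏ᶜ (Fo F) ⟶ ∏ᶜ (Fo F) := 𝟙 _ - sh F

lemma D_π (n : ℕ) :
    D F ≫ Pi.π (Fo F) n = Pi.π (Fo F) n - Pi.π (Fo F) (n + 1) ≫ tr F n := by
  rw [D, Preadditive.sub_comp, Category.id_comp, sh, Pi.lift_π]

/-- the inclusion of the limit -/
noncomputable def ιL : limit F ⟶ ∏ᶜ (Fo F) := Pi.lift (fun n => limit.π F (op n))

lemma ιL_π (n : ℕ) : ιL F ≫ Pi.π (Fo F) n = limit.π F (op n) := by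
  rw [ιL, Pi.lift_π]

lemma ιL_D : ιL F ≫ D F = 0 := by
  apply Pi.hom_ext
  intro n
  rw [Category.assoc, D_π, Preadditive.comp_sub, ← Category.assoc, ιL_π, ιL_π, limit.w, sub_self,
    zero_comp]

/-- the sequence `lim F → ∏ F → ∏ F` -/
noncomputable abbrev T : ShortComplex 𝒜 := ShortComplex.mk (ιL F) (D F) (ιL_D F)

lemma hom_eq {m n : ℕ} (f : (op m : ℕᵒᵖ) ⟶ op n) (h : n ≤ m) : f = (homOfLE h).op :=
  Subsingleton.elim _ _

lemma compat {A : 𝒜} (x : ∀ n, A ⟶ Fo F n) (hx : ∀ n, x (n + 1) ≫ tr F n = x n) (m : ℕ) :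
    ∀ (k : ℕ), x (m + k) ≫ F.map (homOfLE (Nat.le_add_right m k)).op = x m
  | 0 => by
    have h1 : F.map (homOfLE (Nat.le_add_right m 0)).op = 𝟙 (F.obj (op m)) := by
      have : (homOfLE (Nat.le_add_right m 0)).op = 𝟙 (op m : ℕᵒᵖ) := Subsingleton.elim _ _
      rw [this]
      exact F.map_id _
    rw [h1]
    exact Category.comp_id _
  | k + 1 => by
    have : (homOfLE (Nat.le_add_right m (k + 1))).op =
        (homOfLE (Nat.le_succ (m + k))).op ≫ (homOfLE (Nat.le_add_right m k)).op :=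
      Subsingleton.elim _ _
    rw [this, F.map_comp, ← Category.assoc]
    have h := hx (m + k)
    rw [show x (m + (k + 1)) ≫ F.map (homOfLE (Nat.le_succ (m + k))).op = x (m + k) from h]
    exact compat x hx m k

/-- the cone attached to a compatible family -/
noncomputable def coneOf {A : 𝒜} (x : ∀ n, A ⟶ Fo F n) (hx : ∀ n, x (n + 1) ≫ tr F n = x n) :
    Cone F where
  pt := A
  π :=
    { app := fun j => x j.unop
      naturality := by
        intro j j' f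
        induction j using Opposite.rec with | _ a => ?_
        induction j' using Opposite.rec with | _ b => ?_
        obtain ⟨k, rfl⟩ := Nat.exists_eq_add_of_le (leOfHom f.unop)
        rw [hom_eq f (Nat.le_add_right b k)]
        dsimp
        rw [Category.id_comp]
        exact (compat F x hx b k).symm }

/-- the lift of a compatible family to the limit -/
noncomputable def liftOf {A : 𝒜} (x : ∀ n, A ⟶ Fo F n) (hx : ∀ n, x (n + 1) ≫ tr F n = x n) :
    A ⟶ limit F :=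
  limit.lift F (coneOf F x hx)

lemma liftOf_π {A : 𝒜} (x : ∀ n, A ⟶ Fo F n) (hx : ∀ n, x (n + 1) ≫ tr F n = x n) (n : ℕ) :
    liftOf F x hx ≫ limit.π F (op n) = x n :=
  limit.lift_π (coneOf F x hx) (op n)

lemma hT {𝒵 : Set 𝒜} (h𝒵 : Sep 𝒵)
    (hsurj : ∀ Z ∈ 𝒵, ∀ (n : ℕ) (z : Z ⟶ Fo F n), ∃ z' : Z ⟶ Fo F (n + 1), z' ≫ tr F n = z) :
    (T F).ShortExact where
  exact := by
    rw [ShortComplex.exact_iff_exact_up_to_refinements]
    intro A x₂ hx₂
    have hx : ∀ n, (x₂ ≫ Pi.π (Fo F) (n + 1)) ≫ tr F n = x₂ ≫ Pi.π (Fo F) n := by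
      intro n
      have h1 : (x₂ ≫ D F) ≫ Pi.π (Fo F) n = 0 := by
        rw [show x₂ ≫ D F = 0 from hx₂, zero_comp]
      rw [Category.assoc, D_π, Preadditive.comp_sub, sub_eq_zero, ← Category.assoc] at h1
      exact h1.symm
    refine ⟨A, 𝟙 A, inferInstance,
      liftOf F (fun n => x₂ ≫ Pi.π (Fo F) n) hx, ?_⟩
    apply Pi.hom_ext
    intro n
    rw [Category.id_comp, Category.assoc]
    show _ = _ ≫ ιL F ≫ Pi.π (Fo F) n
    rw [ιL_π, liftOf_π]
  mono_f := by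
    show Mono (ιL F)
    constructor
    intro A a b hab
    apply limit.hom_ext
    intro j
    have h := congrArg (fun q => q ≫ Pi.π (Fo F) j.unop) hab
    simp only [Category.assoc, ιL_π] at h
    exact h
  epi_g := by
    show Epi (D F)
    apply epi_of_sep h𝒵
    intro Z hZ y
    choose lift hlift using hsurj Z hZ
    let x : ∀ n, Z ⟶ Fo F n := fun n =>
      Nat.rec (motive := fun n => Z ⟶ Fo F n) 0
        (fun n xn => lift n (xn - y ≫ Pi.π (Fo F) n)) n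
    have hx : ∀ n, x (n + 1) ≫ tr F n = x n - y ≫ Pi.π (Fo F) n := fun n => hlift n _
    refine ⟨Pi.lift x, ?_⟩
    apply Pi.hom_ext
    intro n
    rw [Category.assoc, D_π, Preadditive.comp_sub, ← Category.assoc, Pi.lift_π, Pi.lift_π, hx]
    abel

section Main

variable [EnoughInjectives 𝒜] {𝒵 : Set 𝒜} (h𝒵 : Sep 𝒵)
  (hsurj : ∀ Z ∈ 𝒵, ∀ (n : ℕ) (z : Z ⟶ Fo F n), ∃ z' : Z ⟶ Fo F (n + 1), z' ≫ tr F n = z)
  (hacyc : Acyc 𝒵 (Fo F)) (W : 𝒜)

lemma cmp_D (p : ℕ) (x : Ext W (∏ᶜ (Fo F)) p) (n : ℕ) :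
    push (Pi.π (Fo F) n) (push (D F) x) =
      push (Pi.π (Fo F) n) x - push (tr F n) (push (Pi.π (Fo F) (n + 1)) x) := by
  rw [← push_comp, D_π, push_sub, push_comp]

/-- the comparison isomorphism -/
noncomputable def e (p : ℕ) : Ext W (∏ᶜ (Fo F)) p ≃+ ∀ n, Ext W (Fo F n) p :=
  AddEquiv.ofBijective (cmp W (Fo F) p) (cmp_bijective h𝒵 W p (Fo F) hacyc)

lemma e_apply (p : ℕ) (x : Ext W (∏ᶜ (Fo F)) p) (n : ℕ) :
    e F h𝒵 hacyc W p x n = push (Pi.π (Fo F) n) x := rfl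

lemma e_D (p : ℕ) (x : Ext W (∏ᶜ (Fo F)) p) :
    e F h𝒵 hacyc W p (push (D F) x) =
      Formal2.towerDiff (fun n => Ext W (Fo F n) p) (fun n => push (tr F n))
        (e F h𝒵 hacyc W p x) := by
  funext n
  exact cmp_D F W p x n

include h𝒵 hsurj hacyc in
/-- compatible families of classes lift to the limit -/
theorem surj_compat (i : ℕ) (ξ : ∀ n, Ext W (Fo F n) i)
    (hξ : ∀ n, push (tr F n) (ξ (n + 1)) = ξ n) :
    ∃ η : Ext W (limit F) i, ∀ n, push (limit.π F (op n)) η = ξ n := by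
  have ht := hT F h𝒵 hsurj
  obtain ⟨ζ, hζ⟩ := (e F h𝒵 hacyc W i).surjective ξ
  have hζ' : ∀ n, push (Pi.π (Fo F) n) ζ = ξ n := fun n => congrFun hζ n
  have h0 : push (D F) ζ = 0 := by
    apply (e F h𝒵 hacyc W i).injective
    rw [e_D, hζ, map_zero]
    funext n
    show ξ n - push (tr F n) (ξ (n + 1)) = 0
    rw [hξ, sub_self]
  obtain ⟨η, hη⟩ := exact₂ ht ζ h0
  refine ⟨η, fun n => ?_⟩
  have hη' : push (ιL F) η = ζ := hη
  rw [← ιL_π F n, push_comp, hη', hζ']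

/-- the map `∏ Extʲ(W, F_n) → Extʲ⁺¹(W, lim F)` -/
noncomputable def Φ (j : ℕ) : (∀ n, Ext W (Fo F n) j) →+ Ext W (limit F) (j + 1) :=
  (dl (hT F h𝒵 hsurj)).comp (e F h𝒵 hacyc W j).symm.toAddMonoidHom

lemma Φ_apply (j : ℕ) (y : ∀ n, Ext W (Fo F n) j) :
    Φ F h𝒵 hsurj hacyc W j y = dl (hT F h𝒵 hsurj) ((e F h𝒵 hacyc W j).symm y) := rfl

lemma range_Φ (j : ℕ) :
    (Φ F h𝒵 hsurj hacyc W j).range =
      (AddMonoidHom.pi fun n => push (W := W) (p := j + 1) (limit.π F (op n))).ker := by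
  have ht := hT F h𝒵 hsurj
  ext η
  rw [AddMonoidHom.mem_ker]
  constructor
  · rintro ⟨y, rfl⟩
    funext n
    show push (limit.π F (op n)) (Φ F h𝒵 hsurj hacyc W j y) = 0
    rw [Φ_apply, ← ιL_π F n, push_comp]
    have h : push (ιL F) (dl ht ((e F h𝒵 hacyc W j).symm y)) = 0 := push_f_dl ht _
    rw [h, map_zero]
  · intro hη
    have hη' : ∀ n, push (limit.π F (op n)) η = 0 := fun n => congrFun hη n
    have h1 : push (ιL F) η = 0 := by
      apply (e F h𝒵 hacyc W (j + 1)).injective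
      rw [map_zero]
      funext n
      show push (Pi.π (Fo F) n) (push (ιL F) η) = 0
      rw [← push_comp, ιL_π, hη']
    obtain ⟨x, hx⟩ := exact₁ ht η h1
    refine ⟨e F h𝒵 hacyc W j x, ?_⟩
    rw [Φ_apply, AddEquiv.symm_apply_apply]
    exact hx

lemma ker_Φ (j : ℕ) :
    (Φ F h𝒵 hsurj hacyc W j).ker =
      (Formal2.towerDiff (fun n => Ext W (Fo F n) j) (fun n => push (tr F n))).range := by
  have ht := hT F h𝒵 hsurj
  ext y
  rw [AddMonoidHom.mem_ker, AddMonoidHom.mem_range, Φ_apply]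
  constructor
  · intro hy
    obtain ⟨x₂, hx₂⟩ := exact₃ ht _ hy
    have hx₂' : push (D F) x₂ = (e F h𝒵 hacyc W j).symm y := hx₂
    refine ⟨e F h𝒵 hacyc W j x₂, ?_⟩
    rw [← e_D, hx₂', AddEquiv.apply_symm_apply]
  · rintro ⟨x, rfl⟩
    obtain ⟨x₂, rfl⟩ := (e F h𝒵 hacyc W j).surjective x
    rw [← e_D, AddEquiv.symm_apply_apply]
    exact dl_push_g ht x₂

include h𝒵 hsurj hacyc in
/-- the kernel of `Extʲ⁺¹(W, lim F) → ∏ Extʲ⁺¹(W, F_n)` is `lim¹ Extʲ(W, F_n)` -/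
theorem nonempty_kerEquiv (j : ℕ) :
    Nonempty ((AddMonoidHom.pi fun n => push (W := W) (p := j + 1) (limit.π F (op n))).ker ≃+
      Formal2.limOne (fun n => Ext W (Fo F n) j) (fun n => push (tr F n))) := by
  have e1 := QuotientAddGroup.quotientKerEquivRange (Φ F h𝒵 hsurj hacyc W j)
  have e2 := QuotientAddGroup.quotientAddEquivOfEq (ker_Φ F h𝒵 hsurj hacyc W j)
  have e3 := AddEquiv.addSubgroupCongr (range_Φ F h𝒵 hsurj hacyc W j)
  exact ⟨(e2.symm.trans (e1.trans e3)).symm⟩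

include h𝒵 hsurj hacyc in
/-- if `lim¹` vanishes, classes on the limit are detected on the terms -/
theorem inj_of_towerDiff_surjective (j : ℕ)
    (hs : Function.Surjective
      (Formal2.towerDiff (fun n => Ext W (Fo F n) j) (fun n => push (tr F n))))
    (η η' : Ext W (limit F) (j + 1))
    (h : ∀ n, push (limit.π F (op n)) η = push (limit.π F (op n)) η') : η = η' := by
  have h1 : η - η' ∈ (AddMonoidHom.pi fun n =>
      push (W := W) (p := j + 1) (limit.π F (op n))).ker := by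
    rw [AddMonoidHom.mem_ker]
    funext n
    show push (limit.π F (op n)) (η - η') = 0
    rw [map_sub, h, sub_self]
  rw [← range_Φ F h𝒵 hsurj hacyc W j] at h1
  obtain ⟨y, hy⟩ := h1
  have h2 : y ∈ (Φ F h𝒵 hsurj hacyc W j).ker := by
    rw [ker_Φ]
    exact hs y
  rw [AddMonoidHom.mem_ker] at h2
  rw [h2] at hy
  exact (sub_eq_zero.1 hy.symm)

end Main

end Groth.Agent.Helper6.ExtTower
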