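import Mathlib
import Groth.Prelude.Def_CohTop
import Groth.Agent.Lead.CohTopB
import Groth.Agent.Helper1.CohTopExt
import Groth.Agent.Helper7.MLLimOne
import Groth.Agent.Helper6.ExtTower

set_option autoImplicit false
set_option linter.style.haveILetI false
set_option linter.unusedSectionVars false
set_option linter.unusedVariables false

/-!
# Cohomology of a limit of a tower of abelian sheaves on a space (basis acyclicity)
-/

namespace Groth.Agent.Helper6.ExtLimTop

open CategoryTheory Limits Abelian Opposite TopologicalSpace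
open Groth.Agent.Lead.CohTopB Groth.Agent.Helper6.ExtProd Groth.Agent.Helper6.ExtTower

universe u

variable {X : TopCat.{u}} (B : Set (Opens X))

/-- the test objects: free sheaves on the opens of `B` -/
def 𝒵 : Set (CohTop.Ab X) := {Z | ∃ V ∈ B, Z = freeU V}

lemma homEquiv_zero (V : Opens X) (G : CohTop.Ab X) : homEquiv V G 0 = 0 :=
  map_zero (Groth.Agent.Helper1.CohTopExt.homAddEquiv V G)

lemma sep (hB : Opens.IsBasis B) : Sep (𝒵 B) := by
  intro G G' c hc
  have key : ∀ (U : Opens X) (s : G.obj.obj (op U)), (c.hom.app (op U)).hom s = 0 := by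
    intro U s
    refine TopCat.Sheaf.eq_of_locally_eq' G'
      (fun V : {V : Opens X // V ∈ B ∧ V ≤ U} => V.1) U (fun V => homOfLE V.2.2) ?_ _ _ ?_
    · intro x hx
      obtain ⟨V, hVB, hxV, hVU⟩ := Opens.isBasis_iff_nbhd.1 hB hx
      exact Opens.mem_iSup.2 ⟨⟨V, hVB, hVU⟩, hxV⟩
    · rintro ⟨V, hVB, hVU⟩
      have hnat := congrArg (fun f => f.hom s) (c.hom.naturality (homOfLE hVU).op)
      have hz := hc (freeU V) ⟨V, hVB, rfl⟩
        ((homEquiv V G).symm ((G.obj.map (homOfLE hVU).op).hom s))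
      have h2 := homEquiv_comp V ((homEquiv V G).symm ((G.obj.map (homOfLE hVU).op).hom s)) c
      rw [hz, homEquiv_zero, Equiv.apply_symm_apply] at h2
      rw [map_zero]
      exact hnat.symm.trans h2.symm
  apply Sheaf.hom_ext
  ext U s
  exact key U.unop s

lemma hsurj_of (F : ℕᵒᵖ ⥤ CohTop.Ab X)
    (hs : ∀ V ∈ B, ∀ n : ℕ,
      Function.Surjective ((F.map (homOfLE (Nat.le_succ n)).op).hom.app (op V)).hom) :
    ∀ Z ∈ 𝒵 B, ∀ (n : ℕ) (z : Z ⟶ Fo F n), ∃ z' : Z ⟶ Fo F (n + 1), z' ≫ tr F n = z := by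
  rintro _ ⟨V, hV, rfl⟩ n z
  obtain ⟨s', hs'⟩ := hs V hV n (homEquiv V _ z)
  refine ⟨(homEquiv V _).symm s', ?_⟩
  apply (homEquiv V _).injective
  rw [homEquiv_comp, Equiv.apply_symm_apply]
  exact hs'

lemma acyc_of (F : ℕᵒᵖ ⥤ CohTop.Ab X)
    (hv : ∀ V ∈ B, ∀ (n i : ℕ), 0 < i → Subsingleton (CohTop.HU (F.obj (op n)) i V)) :
    Acyc (𝒵 B) (Fo F) := by
  rintro _ ⟨V, hV, rfl⟩ n p x
  haveI : Subsingleton (Ext (freeU V) (F.obj (op n)) (p + 1)) :=
    hv V hV n (p + 1) (Nat.succ_pos p)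
  exact Subsingleton.elim _ _

/-- Mittag-Leffler transfers along natural isomorphisms -/
lemma isMittagLeffler_of_iso {J : Type*} [Category J] {F₁ F₂ : J ⥤ Type u} (e : F₁ ≅ F₂)
    (h : F₁.IsMittagLeffler) : F₂.IsMittagLeffler := by
  intro j
  obtain ⟨i, f, hf⟩ := h j
  refine ⟨i, f, fun k g => ?_⟩
  rintro _ ⟨a, rfl⟩
  obtain ⟨b, hb⟩ := hf g ⟨e.inv.app i a, rfl⟩
  refine ⟨e.hom.app k b, ?_⟩
  have h1 := congrArg (fun q => q b) (e.hom.naturality g)
  have h2 := congrArg (fun q => q (e.inv.app i a)) (e.hom.naturality f)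
  have h3 : e.hom.app i (e.inv.app i a) = a := by
    have := congrArg (fun q => q a) (e.inv_hom_id_app i)
    exact this
  simp only [types_comp_apply] at h1 h2
  rw [← h1, hb, h2, h3]

/-- Mittag-Leffler towers of abelian groups have vanishing `lim¹` -/
lemma towerDiff_surjective_of_ml (F' : ℕᵒᵖ ⥤ AddCommGrpCat.{u})
    (h : (F' ⋙ forget AddCommGrpCat.{u}).IsMittagLeffler) :
    Function.Surjective (Formal2.towerDiff (fun n => F'.obj (op n))
      (fun n => (F'.map (homOfLE (Nat.le_succ n)).op).hom)) := by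
  apply Groth.Agent.Helper7.MLLimOne.main
  let G : ℕ → Type u := fun n => F'.obj (op n)
  let t : ∀ n, G (n + 1) →+ G n := fun n => (F'.map (homOfLE (Nat.le_succ n)).op).hom
  let α : F' ⟶ Groth.Agent.Helper7.MLLimOne.Gf G t :=
    NatTrans.ofOpSequence (fun n => AddCommGrpCat.ofHom (AddMonoidHom.id _)) (by
      intro n
      rw [Functor.ofOpSequence_map_homOfLE_succ]
      rfl)
  let β : Groth.Agent.Helper7.MLLimOne.Gf G t ⟶ F' :=
    NatTrans.ofOpSequence (fun n => AddCommGrpCat.ofHom (AddMonoidHom.id _)) (by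
      intro n
      rw [Functor.ofOpSequence_map_homOfLE_succ]
      rfl)
  let e : F' ≅ Groth.Agent.Helper7.MLLimOne.Gf G t :=
    { hom := α
      inv := β
      hom_inv_id := by ext j x; rfl
      inv_hom_id := by ext j x; rfl }
  exact isMittagLeffler_of_iso (Functor.isoWhiskerRight e (forget AddCommGrpCat.{u})) h

end Groth.Agent.Helper6.ExtLimTop
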