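import Mathlib
import Groth.Prelude.Def_Formal2
import Groth.Agent.Helper6.ExtTower

set_option autoImplicit false
set_option linter.style.haveILetI false
set_option linter.unusedSectionVars false
set_option linter.unusedVariables false

/-!
# The Milnor sequence for `Ext` into the limit of a tower, packaged
-/

namespace Groth.Agent.Helper6.ExtTower

open CategoryTheory Limits Abelian Opposite
open Groth.Agent.Helper6.ExtProd

universe w v u

section Towers

variable (G : ℕ → Type u) [∀ n, AddCommGroup (G n)] (t : ∀ n, G (n + 1) →+ G n)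

lemma towerDiff_surjective_of_surjective (ht : ∀ n, Function.Surjective (t n)) :
    Function.Surjective (Formal2.towerDiff G t) := by
  intro y
  choose lift hlift using ht
  let x : ∀ n, G n := fun n =>
    Nat.rec (motive := fun n => G n) 0 (fun n xn => lift n (xn - y n)) n
  have hx : ∀ n, t n (x (n + 1)) = x n - y n := fun n => hlift n _
  refine ⟨x, ?_⟩
  funext n
  show x n - t n (x (n + 1)) = y n
  rw [hx]
  abel

lemma towerDiff_surjective_of_subsingleton (h : ∀ n, Subsingleton (G n)) :
    Function.Surjective (Formal2.towerDiff G t) := by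
  intro y
  refine ⟨0, ?_⟩
  funext n
  exact Subsingleton.elim _ _

end Towers

variable {𝒜 : Type u} [Category.{v} 𝒜] [Abelian 𝒜] [HasExt.{w} 𝒜]
  [HasProductsOfShape ℕ 𝒜] (F : ℕᵒᵖ ⥤ 𝒜) [HasLimit F]
  [EnoughInjectives 𝒜] {𝒵 : Set 𝒜} (h𝒵 : Sep 𝒵)
  (hsurj : ∀ Z ∈ 𝒵, ∀ (n : ℕ) (z : Z ⟶ Fo F n), ∃ z' : Z ⟶ Fo F (n + 1), z' ≫ tr F n = z)
  (hacyc : Acyc 𝒵 (Fo F)) (W : 𝒜)

include hsurj in
lemma push_tr_surjective_zero (hW : W ∈ 𝒵) (n : ℕ) :
    Function.Surjective (push (W := W) (p := 0) (tr F n)) := by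
  intro y
  obtain ⟨f, rfl⟩ := (Ext.mk₀_bijective W (Fo F n)).2 y
  obtain ⟨f', rfl⟩ := hsurj W hW n f
  refine ⟨Ext.mk₀ f', ?_⟩
  rw [push_apply, Ext.mk₀_comp_mk₀]

include h𝒵 hsurj hacyc in
/-- `Extʲ⁺¹(W, lim F) = 0` for a test object `W` -/
theorem subsingleton_ext_limit_of_mem (hW : W ∈ 𝒵) (j : ℕ) :
    Subsingleton (Ext W (limit F) (j + 1)) := by
  have hs : Function.Surjective
      (Formal2.towerDiff (fun n => Ext W (Fo F n) j) (fun n => push (tr F n))) := by
    cases j with
    | zero => exact towerDiff_surjective_of_surjective _ _ (push_tr_surjective_zero F hsurj W hW)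
    | succ q =>
      exact towerDiff_surjective_of_subsingleton _ _
        (fun n => ⟨fun a b => (hacyc W hW n q a).trans (hacyc W hW n q b).symm⟩)
  constructor
  intro η η'
  apply inj_of_towerDiff_surjective F h𝒵 hsurj hacyc W j hs
  intro n
  exact (hacyc W hW n j _).trans (hacyc W hW n j _).symm

variable {L : 𝒜} (π' : ∀ n, L ⟶ Fo F n) (e : L ≅ limit F)
  (he : ∀ n, e.hom ≫ limit.π F (op n) = π' n)

include he in
lemma π'_tr (n : ℕ) : π' (n + 1) ≫ tr F n = π' n := by
  rw [← he, ← he, Category.assoc, limit.w]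

include he in
lemma inv_π' (n : ℕ) : e.inv ≫ π' n = limit.π F (op n) := by
  rw [← he, Iso.inv_hom_id_assoc]

include h𝒵 hsurj hacyc he in
/-- the Milnor sequence -/
theorem milnor (j : ℕ) :
    ∃ (α : Formal2.limOne (fun n => Ext W (Fo F n) j) (fun n => push (tr F n)) →+
        Ext W L (j + 1))
      (β : Ext W L (j + 1) →+
        Formal2.limZero (fun n => Ext W (Fo F n) (j + 1)) (fun n => push (tr F n))),
      Function.Injective α ∧ Function.Surjective β ∧ α.range = β.ker ∧
      ∀ (x : Ext W L (j + 1)) (n : ℕ),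
        (β x : ∀ n, Ext W (Fo F n) (j + 1)) n = push (π' n) x := by
  have hker := ker_Φ F h𝒵 hsurj hacyc W j
  have hrange := range_Φ F h𝒵 hsurj hacyc W j
  let α₀ : Formal2.limOne (fun n => Ext W (Fo F n) j) (fun n => push (tr F n)) →+
      Ext W (limit F) (j + 1) :=
    QuotientAddGroup.lift _ (Φ F h𝒵 hsurj hacyc W j) (by
      intro y hy
      rw [← hker] at hy
      exact hy)
  have hα₀ : ∀ y, α₀ (QuotientAddGroup.mk y) = Φ F h𝒵 hsurj hacyc W j y := fun y => rfl
  let α : Formal2.limOne (fun n => Ext W (Fo F n) j) (fun n => push (tr F n)) →+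
      Ext W L (j + 1) := (push e.inv).comp α₀
  have hβmem : ∀ x : Ext W L (j + 1),
      (AddMonoidHom.pi fun n => push (W := W) (p := j + 1) (π' n)) x ∈
        Formal2.limZero (fun n => Ext W (Fo F n) (j + 1)) (fun n => push (tr F n)) := by
    intro x
    rw [AddMonoidHom.mem_ker]
    funext n
    show push (π' n) x - push (tr F n) (push (π' (n + 1)) x) = 0
    rw [← push_comp, π'_tr F π' e he, sub_self]
  let β : Ext W L (j + 1) →+
      Formal2.limZero (fun n => Ext W (Fo F n) (j + 1)) (fun n => push (tr F n)) :=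
    AddMonoidHom.codRestrict (AddMonoidHom.pi fun n => push (W := W) (p := j + 1) (π' n)) _ hβmem
  have hβ : ∀ (x : Ext W L (j + 1)) (n : ℕ),
      (β x : ∀ n, Ext W (Fo F n) (j + 1)) n = push (π' n) x := fun x n => rfl
  have hinv_inj : Function.Injective (push (W := W) (p := j + 1) e.inv) := by
    intro a b hab
    have := congrArg (push (W := W) (p := j + 1) e.hom) hab
    rw [← push_comp, ← push_comp, e.inv_hom_id] at this
    simpa [push_apply] using this
  have hhom_inv : ∀ x : Ext W L (j + 1), push e.inv (push e.hom x) = x := by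
    intro x
    rw [← push_comp, e.hom_inv_id, push_apply, Ext.comp_mk₀_id]
  refine ⟨α, β, ?_, ?_, ?_, hβ⟩
  · -- injective
    rw [injective_iff_map_eq_zero]
    intro q hq
    obtain ⟨y, rfl⟩ := QuotientAddGroup.mk_surjective q
    have h1 : α₀ (QuotientAddGroup.mk y) = 0 := by
      apply hinv_inj
      rw [map_zero]
      exact hq
    rw [hα₀] at h1
    have h2 : y ∈ (Φ F h𝒵 hsurj hacyc W j).ker := h1
    rw [hker] at h2
    exact (QuotientAddGroup.eq_zero_iff y).2 h2
  · -- surjective
    rintro ⟨ξ, hξ⟩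
    have hξ' : ∀ n, push (tr F n) (ξ (n + 1)) = ξ n := by
      intro n
      have := congrFun (AddMonoidHom.mem_ker.1 hξ) n
      exact (sub_eq_zero.1 this).symm
    obtain ⟨η, hη⟩ := surj_compat F h𝒵 hsurj hacyc W (j + 1) ξ hξ'
    refine ⟨push e.inv η, ?_⟩
    apply Subtype.ext
    funext n
    show push (π' n) (push e.inv η) = ξ n
    rw [← push_comp, inv_π' F π' e he, hη]
  · -- exactness
    ext x
    rw [AddMonoidHom.mem_ker]
    constructor
    · rintro ⟨q, rfl⟩
      obtain ⟨y, rfl⟩ := QuotientAddGroup.mk_surjective q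
      apply Subtype.ext
      funext n
      show push (π' n) (push e.inv (α₀ (QuotientAddGroup.mk y))) = 0
      rw [← push_comp, inv_π' F π' e he, hα₀]
      have hm : Φ F h𝒵 hsurj hacyc W j y ∈ (Φ F h𝒵 hsurj hacyc W j).range := ⟨y, rfl⟩
      rw [hrange] at hm
      exact congrFun (AddMonoidHom.mem_ker.1 hm) n
    · intro hx
      have hx' : ∀ n, push (π' n) x = 0 := fun n => congrFun (congrArg Subtype.val hx) n
      have hm : push e.hom x ∈ (AddMonoidHom.pi fun n =>
          push (W := W) (p := j + 1) (limit.π F (op n))).ker := by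
        rw [AddMonoidHom.mem_ker]
        funext n
        show push (limit.π F (op n)) (push e.hom x) = 0
        rw [← push_comp, he, hx']
      rw [← hrange] at hm
      obtain ⟨y, hy⟩ := hm
      refine ⟨QuotientAddGroup.mk y, ?_⟩
      show push e.inv (α₀ (QuotientAddGroup.mk y)) = x
      rw [hα₀, hy, hhom_inv]

end Groth.Agent.Helper6.ExtTower
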