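import Mathlib
import Groth.Prelude.Def_Formal2
import Groth.Prelude.Def_Coh
import Groth.Agent.Helper1.HHonHU
import Groth.Agent.Helper1.SerreD
import Groth.Agent.Helper4.QcohEpi
import Groth.Agent.Helper3.SheafModLib
import Groth.Agent.Helper6.ExtLimTop
import Groth.Agent.Helper6.ExtTower2

set_option autoImplicit false
set_option linter.style.haveILetI false
set_option linter.unusedSectionVars false
set_option linter.unusedVariables false

/-!
# Cohomology of the limit of a quasi-coherent formal system on a scheme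
-/

namespace Groth.Agent.Helper6.ExtLimSch

open CategoryTheory Limits Abelian Opposite TopologicalSpace AlgebraicGeometry
open Groth.Agent.Lead.CohTopB Groth.Agent.Helper6.ExtProd Groth.Agent.Helper6.ExtTower
  Groth.Agent.Helper6.ExtLimTop

universe u

variable {X : Scheme.{u}} (G : ℕᵒᵖ ⥤ X.Modules)

/-- the underlying abelian sheaf functor, on `X.Modules` -/
noncomputable def toAbF (X : Scheme.{u}) :
    X.Modules ⥤ Sheaf (Opens.grothendieckTopology X) AddCommGrpCat.{u} where
  obj M := Coh.toAb M
  map φ := (SheafOfModules.toSheaf X.ringCatSheaf).map φ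
  map_id M := (SheafOfModules.toSheaf X.ringCatSheaf).map_id M
  map_comp φ ψ := (SheafOfModules.toSheaf X.ringCatSheaf).map_comp φ ψ

/-- the tower of underlying abelian sheaves -/
noncomputable abbrev Fab : ℕᵒᵖ ⥤ Sheaf (Opens.grothendieckTopology X) AddCommGrpCat.{u} :=
  G ⋙ toAbF X

instance : PreservesLimit G (toAbF X) := by
  haveI : PreservesLimitsOfSize.{0, 0} (Scheme.Modules.toPresheaf X) :=
    preservesSmallestLimits_of_preservesLimits _
  haveI : PreservesLimit G (toAbF X ⋙ sheafToPresheaf _ _) :=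
    (inferInstance : PreservesLimit G (Scheme.Modules.toPresheaf X))
  exact preservesLimit_of_reflects_of_preserves (toAbF X) (sheafToPresheaf _ _)

/-- the underlying abelian sheaf of the limit is the limit of the underlying abelian sheaves -/
noncomputable def eLim : Coh.toAb (limit G) ≅ limit (Fab G) :=
  preservesLimitIso (toAbF X) G

lemma eLim_π (n : ℕ) : (eLim G).hom ≫ limit.π (Fab G) (op n) =
    (SheafOfModules.toSheaf X.ringCatSheaf).map (limit.π G (op n)) :=
  preservesLimitIso_hom_π (toAbF X) G (op n)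

variable {A : Type u} [CommRing A] [X.Over (Spec (CommRingCat.of A))] (I : Ideal A)

include I in
lemma epi_map (hG : Formal2.IsQCohFormal I G) (n : ℕ) :
    Epi (G.map (homOfLE (Nat.le_succ n)).op) := by
  obtain ⟨h, hiso⟩ := hG.2.2 n
  have h1 : G.map (homOfLE (Nat.le_succ n)).op = cokernel.π _ ≫ cokernel.desc _ _ h :=
    (cokernel.π_desc _ _ h).symm
  rw [h1]
  have e1 : Epi (cokernel.desc _ _ h) := @IsIso.epi_of_iso _ _ _ _ _ hiso
  have e2 : Epi (cokernel.π (Formal.smulFamily (I ^ (n + 1)) (G.obj (op (n + 1))))) :=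
    inferInstance
  exact @epi_comp _ _ _ _ _ _ e2 _ e1

include I in
lemma hsurj_sch (hG : Formal2.IsQCohFormal I G) : ∀ V ∈ X.affineOpens, ∀ n : ℕ,
    Function.Surjective (((Fab G).map (homOfLE (Nat.le_succ n)).op).hom.app (op V)).hom := by
  intro V hV n
  haveI := epi_map G I hG n
  haveI : (G.obj (op (n + 1))).IsQuasicoherent := hG.1 (n + 1)
  haveI : (G.obj (op n)).IsQuasicoherent := hG.1 n
  exact Groth.Agent.Helper4.QcohEpi.app_surjective_of_epi (G.map (homOfLE (Nat.le_succ n)).op) hV

include I in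
lemma hvan_sch (hG : Formal2.IsQCohFormal I G) : ∀ V ∈ X.affineOpens, ∀ (n i : ℕ), 0 < i →
    Subsingleton (CohTop.HU ((Fab G).obj (op n)) i V) := by
  intro V hV n i hi
  obtain ⟨q, rfl⟩ := Nat.exists_eq_succ_of_ne_zero hi.ne'
  obtain ⟨e⟩ := Groth.Agent.Helper1.HHonHU.nonempty_HHon_HU X (G.obj (op n)) V (q + 1)
  haveI : IsAffine V := hV
  haveI : (G.obj (op n)).IsQuasicoherent := hG.1 n
  haveI : ((G.obj (op n)).restrict V.ι).IsQuasicoherent :=
    Scheme.Modules.isQuasicoherent_restrictFunctor V.ι _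
  haveI : Subsingleton (Coh.HHon X (G.obj (op n)) V (q + 1)) :=
    Groth.Agent.Helper1.Serre.subsingleton_HH_of_isAffine _ q
  exact e.symm.injective.subsingleton

lemma push_injective_of_iso {𝒜 : Type*} [Category 𝒜] [Abelian 𝒜] [HasExt.{u} 𝒜] {W A₁ A₂ : 𝒜}
    (e : A₁ ≅ A₂) (p : ℕ) : Function.Injective (push (W := W) (p := p) e.hom) := by
  intro a b hab
  have := congrArg (push (W := W) (p := p) e.inv) hab
  rw [← push_comp, ← push_comp, e.hom_inv_id] at this
  simpa [push_apply] using this

include I in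
/-- the Milnor sequence for the cohomology of the limit -/
theorem milnor_sch (hG : Formal2.IsQCohFormal I G) (p : ℕ) :
    ∃ (α : Formal2.limOne (fun n => Coh.HH X (G.obj (op n)) p) (Formal2.HHsysMap G p) →+
        Coh.HH X (limit G) (p + 1))
      (β : Coh.HH X (limit G) (p + 1) →+
        Formal2.limZero (fun n => Coh.HH X (G.obj (op n)) (p + 1)) (Formal2.HHsysMap G (p + 1))),
      Function.Injective α ∧ Function.Surjective β ∧ α.range = β.ker ∧
      ∀ (x : Coh.HH X (limit G) (p + 1)) (n : ℕ),
        (β x : ∀ n, Coh.HH X (G.obj (op n)) (p + 1)) n =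
          Sheaf.H.map ((SheafOfModules.toSheaf _).map (limit.π G (op n))) (p + 1) x := by
  have h𝒵 := sep X.affineOpens (X.isBasis_affineOpens)
  have hs := hsurj_of X.affineOpens (Fab G) (hsurj_sch G I hG)
  have ha := acyc_of X.affineOpens (Fab G) (hvan_sch G I hG)
  exact milnor (Fab G) h𝒵 hs ha
    ((constantSheaf (Opens.grothendieckTopology X) AddCommGrpCat.{u}).obj
      (AddCommGrpCat.of (ULift ℤ)))
    (fun n => (SheafOfModules.toSheaf X.ringCatSheaf).map (limit.π G (op n)))
    (eLim G) (eLim_π G) p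

include I in
/-- the limit is acyclic on affine opens -/
theorem acyclic_sch (hG : Formal2.IsQCohFormal I G) (U : X.Opens) (hU : IsAffineOpen U) (q : ℕ) :
    Subsingleton (Coh.HHon X (limit G) U (q + 1)) := by
  obtain ⟨e⟩ := Groth.Agent.Helper1.HHonHU.nonempty_HHon_HU X (limit G) U (q + 1)
  have h𝒵 := sep X.affineOpens (X.isBasis_affineOpens)
  have hs := hsurj_of X.affineOpens (Fab G) (hsurj_sch G I hG)
  have ha := acyc_of X.affineOpens (Fab G) (hvan_sch G I hG)
  haveI : Subsingleton (Ext (freeU (X := X.carrier) U) (limit (Fab G)) (q + 1)) :=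
    subsingleton_ext_limit_of_mem (Fab G) h𝒵 hs ha (freeU U) ⟨U, hU, rfl⟩ q
  haveI : Subsingleton (CohTop.HU (Coh.toAb (limit G)) (q + 1) U) :=
    (push_injective_of_iso (W := freeU (X := X.carrier) U) (eLim G) (q + 1)).subsingleton
  exact e.injective.subsingleton

end Groth.Agent.Helper6.ExtLimSch
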