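import Mathlib
import Groth.Prelude.Def_ZClos
import Groth.Agent.S0484

/-!
# Formal properties of the Z-closure functor `ZClos.H0`
-/

set_option autoImplicit false

namespace Groth.Agent.Helper6.ZCl1

open CategoryTheory Limits AlgebraicGeometry TopologicalSpace Opposite ZClos

universe u

section LemmaC

variable {J : Type*} [Preorder J] [OrderBot J] {C : Type*} [Category C] {E : Type*} [Category E]

/-- If all the maps `t j : F ⟶ D.obj j` of a compatible family become isomorphisms after applying `G`, and
`G` preserves the colimit of `D`, then `G` of the induced map to the colimit is an isomorphism. -/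
theorem isIso_map_comp_ι (D : J ⥤ C) (F : C) (t : ∀ j, F ⟶ D.obj j)
    (ht : ∀ {i j : J} (f : i ⟶ j), t i ≫ D.map f = t j)
    (G : C ⥤ E) (c : Cocone D) (hc : IsColimit (G.mapCocone c))
    (hG : ∀ j, IsIso (G.map (t j))) :
    IsIso (G.map (t ⊥ ≫ c.ι.app ⊥)) := by
  have key : ∀ j, t ⊥ ≫ c.ι.app ⊥ = t j ≫ c.ι.app j := fun j => by
    rw [← c.w (homOfLE (bot_le : (⊥ : J) ≤ j)), ← Category.assoc, ht]
  let c' : Cocone (D ⋙ G) :=
    { pt := G.obj F
      ι := { app := fun j => inv (G.map (t j))
             naturality := fun i j f => by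
               dsimp
               rw [Category.comp_id, IsIso.comp_inv_eq, IsIso.eq_inv_comp, ← G.map_comp, ht f] } }
  have hc' : IsColimit c' :=
    { desc := fun s => G.map (t ⊥) ≫ s.ι.app ⊥
      fac := fun s j => by
        dsimp [c']
        rw [IsIso.inv_comp_eq, ← s.w (homOfLE (bot_le : (⊥ : J) ≤ j))]
        dsimp
        rw [← Category.assoc, ← G.map_comp, ht]
      uniq := fun s m hm => by
        have := hm ⊥
        dsimp [c'] at this
        rw [IsIso.inv_comp_eq] at this
        exact this }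
  have : G.map (t ⊥ ≫ c.ι.app ⊥) = (hc'.coconePointUniqueUpToIso hc).hom := by
    refine hc'.hom_ext fun j => ?_
    rw [IsColimit.comp_coconePointUniqueUpToIso_hom]
    dsimp [c']
    rw [IsIso.inv_comp_eq, ← G.map_comp, key j]
  rw [this]
  infer_instance

end LemmaC

variable {X : Scheme.{u}}

instance isGrothendieckAbelian : IsGrothendieckAbelian.{u} X.Modules :=
  Groth.Agent.S0484.result _ X.ringCatSheaf

/-! ### The reflector `resPush U` -/

theorem isIso_restrict_map_unit (U : X.Opens) (F : X.Modules) :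
    IsIso ((Scheme.Modules.restrictFunctor U.ι).map ((resPushUnit U).app F)) := by
  have h := (Scheme.Modules.restrictAdjunction U.ι).left_triangle_components F
  haveI : IsIso ((Scheme.Modules.restrictFunctor U.ι).map ((resPushUnit U).app F) ≫
      (Scheme.Modules.restrictAdjunction U.ι).counit.app
        ((Scheme.Modules.restrictFunctor U.ι).obj F)) := by
    rw [h]; infer_instance
  exact IsIso.of_isIso_comp_right _ ((Scheme.Modules.restrictAdjunction U.ι).counit.app
        ((Scheme.Modules.restrictFunctor U.ι).obj F))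

theorem isIso_resPush_map_unit (U : X.Opens) (F : X.Modules) :
    IsIso ((resPush U).map ((resPushUnit U).app F)) := by
  haveI := isIso_restrict_map_unit U F
  exact (inferInstance : IsIso ((Scheme.Modules.pushforward U.ι).map
    ((Scheme.Modules.restrictFunctor U.ι).map ((resPushUnit U).app F))))

/-- maps between modules of the form `j_*j^*` are determined by their composition with the unit -/
theorem unit_cancel (U : X.Opens) {F G : X.Modules}
    (a b : (resPush U).obj F ⟶ (resPush U).obj G)
    (h : (resPushUnit U).app F ≫ a = (resPushUnit U).app F ≫ b) : a = b := by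
  haveI := isIso_resPush_map_unit U F
  haveI := isIso_unit_resPush (le_refl U) G
  have h1 : (resPush U).map a = (resPush U).map b := by
    have := congrArg (fun f => (resPush U).map f) h
    simp only [Functor.map_comp] at this
    exact (cancel_epi _).1 this
  have na := (resPushUnit U).naturality a
  have nb := (resPushUnit U).naturality b
  rw [← cancel_mono ((resPushUnit U).app ((resPush U).obj G))]
  refine na.trans (Eq.trans ?_ nb.symm)
  rw [h1]

/-- the colimit injection, with target displayed as `(H0 Z).obj F` -/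
noncomputable abbrev ιH (Z : Set X) (F : X.Modules) (T : Cl Z) :
    ((diagram Z).obj F).obj T ⟶ (H0 Z).obj F := colimit.ι ((diagram Z).obj F) T

theorem rhoApp_eq' (Z : Set X) (F : X.Modules) (T : Cl Z) :
    rhoApp Z F = toDiagram Z F T ≫ ιH Z F T := rhoApp_eq Z F T

/-- `unit_cancel` in terms of `toDiagram` -/
theorem toDiagram_cancel (Z : Set X) (T : Cl Z) {F G : X.Modules}
    (a b : ((diagram Z).obj F).obj T ⟶ ((diagram Z).obj G).obj T)
    (h : toDiagram Z F T ≫ a = toDiagram Z F T ≫ b) : a = b :=
  unit_cancel T.U (F := F) (G := G) a b h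

/-! ### Z-closed modules -/

theorem isIso_toDiagram_of_isZClosed (Z : Set X) (F : X.Modules) (h : IsZClosed Z F) (T : Cl Z) :
    IsIso (toDiagram Z F T) := by
  haveI : IsIso (rhoApp Z F) := h
  let r : ((diagram Z).obj F).obj T ⟶ F := ιH Z F T ≫ inv (rhoApp Z F)
  have h1 : toDiagram Z F T ≫ r = 𝟙 F := by
    show toDiagram Z F T ≫ ιH Z F T ≫ inv (rhoApp Z F) = 𝟙 F
    rw [← Category.assoc, ← rhoApp_eq', IsIso.hom_inv_id]
  have h2 : r ≫ toDiagram Z F T = 𝟙 _ := by
    refine toDiagram_cancel Z T (F := F) (G := F) (r ≫ toDiagram Z F T) (𝟙 _) ?_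
    rw [Category.comp_id, ← Category.assoc, h1, Category.id_comp]
  exact ⟨r, h1, h2⟩

theorem isZClosed_of_forall_isIso (Z : Set X) (F : X.Modules)
    (h : ∀ T : Cl Z, IsIso (toDiagram Z F T)) : IsZClosed Z F := by
  have := isIso_map_comp_ι ((diagram Z).obj F) F (toDiagram Z F)
    (fun f => toDiagram_map Z F f) (𝟭 _) (colimit.cocone ((diagram Z).obj F))
    (isColimitOfPreserves (𝟭 _) (colimit.isColimit _)) h
  exact this

theorem isZClosed_iff (Z : Set X) (F : X.Modules) :
    IsZClosed Z F ↔ ∀ T : Cl Z, IsIso (toDiagram Z F T) :=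
  ⟨isIso_toDiagram_of_isZClosed Z F, isZClosed_of_forall_isIso Z F⟩

/-! ### Z-pure modules -/

theorem mono_toDiagram_of_isZPure (Z : Set X) (F : X.Modules) (h : IsZPure Z F) (T : Cl Z) :
    Mono (toDiagram Z F T) := by
  haveI : Mono (rhoApp Z F) := h
  exact mono_of_mono_fac (h := rhoApp Z F) (rhoApp_eq' Z F T).symm

theorem isZPure_of_forall_mono (Z : Set X) (F : X.Modules)
    (h : ∀ T : Cl Z, Mono (toDiagram Z F T)) : IsZPure Z F := by
  haveI : HasExactColimitsOfShape (Cl Z) X.Modules := inferInstance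
  let D := (diagram Z).obj F
  let α : (Functor.const (Cl Z)).obj F ⟶ D :=
    { app := fun T => toDiagram Z F T
      naturality := fun T T' f => by
        dsimp
        rw [Category.id_comp]; exact (toDiagram_map Z F f).symm }
  haveI : ∀ T, Mono (α.app T) := h
  haveI : Mono α := NatTrans.mono_of_mono_app α
  haveI : PreservesFiniteLimits (colim : (Cl Z ⥤ X.Modules) ⥤ X.Modules) :=
    HasExactColimitsOfShape.preservesFiniteLimits
  haveI : (colim : (Cl Z ⥤ X.Modules) ⥤ X.Modules).PreservesMonomorphisms := inferInstance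
  haveI : Mono (colimMap α) := (colim : (Cl Z ⥤ X.Modules) ⥤ X.Modules).map_mono α
  let s : Cocone ((Functor.const (Cl Z)).obj F) := { pt := F, ι := 𝟙 _ }
  haveI : Mono (s.ι.app ⊥) := (inferInstance : Mono (𝟙 F))
  haveI : Mono (colimit.ι ((Functor.const (Cl Z)).obj F) ⊥) :=
    mono_of_mono_fac (colimit.ι_desc s ⊥)
  have hm : Mono (colimit.ι ((Functor.const (Cl Z)).obj F) ⊥ ≫ colimMap α) := mono_comp _ _
  have e : colimit.ι ((Functor.const (Cl Z)).obj F) ⊥ ≫ colimMap α = rhoApp Z F := by
    rw [ι_colimMap]; rfl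
  show Mono (rhoApp Z F)
  rw [← e]; exact hm

theorem isZPure_iff (Z : Set X) (F : X.Modules) :
    IsZPure Z F ↔ ∀ T : Cl Z, Mono (toDiagram Z F T) :=
  ⟨mono_toDiagram_of_isZPure Z F, isZPure_of_forall_mono Z F⟩

/-! ### Monotonicity in `Z` -/

/-- the inclusion of index sets for `Z' ⊆ Z` -/
def Cl.incl {Z Z' : Set X} (h : Z' ⊆ Z) (T : Cl Z') : Cl Z := ⟨T.1, T.2.trans h⟩

theorem isZPure_mono {Z Z' : Set X} (h : Z' ⊆ Z) (F : X.Modules) (hF : IsZPure Z F) :
    IsZPure Z' F :=
  isZPure_of_forall_mono Z' F fun T => mono_toDiagram_of_isZPure Z F hF (Cl.incl h T)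

theorem isZClosed_mono {Z Z' : Set X} (h : Z' ⊆ Z) (F : X.Modules) (hF : IsZClosed Z F) :
    IsZClosed Z' F :=
  isZClosed_of_forall_isIso Z' F fun T => isIso_toDiagram_of_isZClosed Z F hF (Cl.incl h T)

/-! ### The universal property -/

theorem existsUnique_fac (Z : Set X) (F F' : X.Modules) (hF' : IsZClosed Z F') (u : F ⟶ F') :
    ∃! v : (H0 Z).obj F ⟶ F', rhoApp Z F ≫ v = u := by
  haveI : IsIso (rhoApp Z F') := hF'
  have nat : u ≫ rhoApp Z F' = rhoApp Z F ≫ (H0 Z).map u := (rho Z).naturality u
  have hex : rhoApp Z F ≫ ((H0 Z).map u ≫ inv (rhoApp Z F')) = u := by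
    rw [← Category.assoc, ← nat, Category.assoc, IsIso.hom_inv_id, Category.comp_id]
  have huniq : ∀ v₁ v₂ : (H0 Z).obj F ⟶ F', rhoApp Z F ≫ v₁ = u → rhoApp Z F ≫ v₂ = u →
      v₁ = v₂ := by
    intro v₁ v₂ h₁ h₂
    refine colimit.hom_ext (F := (diagram Z).obj F) fun T => ?_
    show ιH Z F T ≫ v₁ = ιH Z F T ≫ v₂
    haveI := isIso_toDiagram_of_isZClosed Z F' hF' T
    have key : ∀ v : (H0 Z).obj F ⟶ F', rhoApp Z F ≫ v = u →
        toDiagram Z F T ≫ ((ιH Z F T ≫ v) ≫ toDiagram Z F' T) = u ≫ toDiagram Z F' T := by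
      intro v hv
      rw [← hv, rhoApp_eq' Z F T]
      simp only [Category.assoc]
    rw [← cancel_mono (toDiagram Z F' T)]
    exact toDiagram_cancel Z T (F := F) (G := F') _ _ ((key v₁ h₁).trans (key v₂ h₂).symm)
  exact ⟨(H0 Z).map u ≫ inv (rhoApp Z F'), hex, fun v hv => huniq v _ hv hex⟩

/-! ### Exactness -/

theorem preservesFiniteLimits_restrictFunctor {Y : Scheme.{u}} (f : Y ⟶ X) [IsOpenImmersion f] :
    PreservesFiniteLimits (Scheme.Modules.restrictFunctor f) := by
  have e : Scheme.Modules.restrictFunctor f ⋙ Scheme.Modules.toPresheaf Y ≅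
      Scheme.Modules.toPresheaf X ⋙ (Functor.whiskeringLeft _ _ Ab.{u}).obj f.opensFunctor.op :=
    NatIso.ofComponents (fun M => NatIso.ofComponents (fun U => Iso.refl _)
      (fun {U V} i => by exact Eq.trans (Category.comp_id _) (Category.id_comp _).symm))
      (fun {M N} φ => by
        refine NatTrans.ext (funext fun U => ?_)
        exact Eq.trans (Category.comp_id _) (Category.id_comp _).symm)
  constructor
  intro J _ _
  haveI : PreservesFiniteLimits (Scheme.Modules.toPresheaf X) := inferInstance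
  haveI : PreservesLimitsOfShape J (Scheme.Modules.toPresheaf X) :=
    PreservesFiniteLimits.preservesFiniteLimits J
  haveI : PreservesFiniteLimits (Scheme.Modules.toPresheaf Y) := inferInstance
  haveI : PreservesLimitsOfShape J (Scheme.Modules.toPresheaf Y) :=
    PreservesFiniteLimits.preservesFiniteLimits J
  haveI : ReflectsLimitsOfShape J (Scheme.Modules.toPresheaf Y) :=
    reflectsLimitsOfShape_of_reflectsIsomorphisms
  haveI : HasLimitsOfShape J Ab.{u} := inferInstance
  haveI : PreservesLimitsOfShape J ((Functor.whiskeringLeft (Opens ↥Y)ᵒᵖ (Opens ↥X)ᵒᵖ Ab.{u}).obj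
      (Scheme.Hom.opensFunctor f).op) := inferInstance
  haveI : PreservesLimitsOfShape J (Scheme.Modules.toPresheaf X ⋙
      (Functor.whiskeringLeft (Opens ↥Y)ᵒᵖ (Opens ↥X)ᵒᵖ Ab.{u}).obj
      (Scheme.Hom.opensFunctor f).op) := inferInstance
  haveI : PreservesLimitsOfShape J
      (Scheme.Modules.restrictFunctor f ⋙ Scheme.Modules.toPresheaf Y) :=
    preservesLimitsOfShape_of_natIso e.symm
  exact preservesLimitsOfShape_of_reflects_of_preserves _ (Scheme.Modules.toPresheaf Y)

theorem preservesFiniteLimits_H0 (Z : Set X) : PreservesFiniteLimits (H0 Z) := by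
  haveI : HasExactColimitsOfShape (Cl Z) X.Modules := inferInstance
  haveI : PreservesFiniteLimits (diagram Z) := by
    constructor
    intro J _ _
    refine preservesLimitsOfShape_of_evaluation _ _ fun T => ?_
    have e : resPush T.U ≅ diagram Z ⋙ (evaluation _ _).obj T :=
      NatIso.ofComponents (fun F => Iso.refl _)
        (fun {F G} φ => by exact Eq.trans (Category.comp_id _) (Category.id_comp _).symm)
    haveI := preservesFiniteLimits_restrictFunctor T.U.ι
    haveI : PreservesLimitsOfShape J (Scheme.Modules.restrictFunctor T.U.ι) :=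
      PreservesFiniteLimits.preservesFiniteLimits J
    haveI : PreservesFiniteLimits (Scheme.Modules.pushforward T.U.ι) := inferInstance
    haveI : PreservesLimitsOfShape J (Scheme.Modules.pushforward T.U.ι) :=
      PreservesFiniteLimits.preservesFiniteLimits J
    haveI : PreservesLimitsOfShape J (resPush T.U) := inferInstance
    exact preservesLimitsOfShape_of_natIso e
  exact comp_preservesFiniteLimits (diagram Z) colim

end Groth.Agent.Helper6.ZCl1
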