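import Mathlib
import Groth.Prelude.Def_ZClos
import Groth.Agent.Helper6.ZCl1
import Groth.Agent.Helper1.ColimSec
import Groth.Agent.Helper3.SheafModLib

/-!
# Sections and stalks of the Z-closure `ZClos.H0`
-/

set_option autoImplicit false

namespace Groth.Agent.Helper6.ZCl2

open CategoryTheory Limits AlgebraicGeometry TopologicalSpace Opposite ZClos
open Groth.Agent.Helper6.ZCl1

universe u

section Top

variable {α : Type*} [TopologicalSpace α]

/-- In a Noetherian quasi-sober space, if `C ∩ V` (closed ∩ open) lies in a specialization-stable set, so does its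
closure. -/
theorem closure_inter_subset_top [NoetherianSpace α] [QuasiSober α] {V Z : Set α} (hV : IsOpen V)
    (hZ : StableUnderSpecialization Z) (C : Closeds α) (h : (C : Set α) ∩ V ⊆ Z) :
    closure ((C : Set α) ∩ V) ⊆ Z := by
  refine wellFounded_lt.induction
    (C := fun C : Closeds α => (C : Set α) ∩ V ⊆ Z → closure ((C : Set α) ∩ V) ⊆ Z) C ?_ h
  intro C H h
  by_cases hne : ((C : Set α) ∩ V).Nonempty
  swap
  · rw [Set.not_nonempty_iff_eq_empty.1 hne, closure_empty]; exact Set.empty_subset _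
  by_cases h₁ : IsPreirreducible (C : Set α)
  · have hirr : IsIrreducible (C : Set α) := ⟨hne.mono Set.inter_subset_left, h₁⟩
    have hg := hirr.isGenericPoint_genericPoint C.isClosed
    have hηV : hirr.genericPoint ∈ V := (hg.mem_open_set_iff hV).2 hne
    have hηZ : hirr.genericPoint ∈ Z := h ⟨hg.mem, hηV⟩
    intro y hy
    have hyC : y ∈ (C : Set α) := (closure_minimal Set.inter_subset_left C.isClosed) hy
    exact hZ (hg.specializes hyC) hηZ
  · simp only [isPreirreducible_iff_isClosed_union_isClosed, not_forall, not_or] at h₁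
    obtain ⟨z₁, z₂, hz₁, hz₂, hcov, hz₁', hz₂'⟩ := h₁
    lift z₁ to Closeds α using hz₁
    lift z₂ to Closeds α using hz₂
    have H1 := H (C ⊓ z₁) (inf_lt_left.2 hz₁') (fun y hy => h ⟨hy.1.1, hy.2⟩)
    have H2 := H (C ⊓ z₂) (inf_lt_left.2 hz₂') (fun y hy => h ⟨hy.1.1, hy.2⟩)
    have hsub : (C : Set α) ∩ V ⊆
        ((C ⊓ z₁ : Closeds α) : Set α) ∩ V ∪ ((C ⊓ z₂ : Closeds α) : Set α) ∩ V := by
      rintro y ⟨hyC, hyV⟩
      rcases hcov hyC with hy1 | hy1
      · exact Or.inl ⟨⟨hyC, hy1⟩, hyV⟩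
      · exact Or.inr ⟨⟨hyC, hy1⟩, hyV⟩
    refine (closure_mono hsub).trans ?_
    rw [closure_union]
    exact Set.union_subset H1 H2

end Top

variable {X : Scheme.{u}}

/-- On a locally Noetherian scheme, if `C ∩ V` (closed ∩ open) lies in a specialization-stable set `Z`, so does its
closure. -/
theorem closure_inter_subset [IsLocallyNoetherian X] {Z : Set X} (hZ : StableUnderSpecialization Z)
    {C V : Set X} (hC : IsClosed C) (hV : IsOpen V) (h : C ∩ V ⊆ Z) : closure (C ∩ V) ⊆ Z := by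
  intro y hy
  obtain ⟨_, ⟨W, hW, rfl⟩, hyW, -⟩ :=
    X.isBasis_affineOpens.exists_subset_of_mem_open (Set.mem_univ y) isOpen_univ
  haveI := IsLocallyNoetherian.component_noetherian (X := X) ⟨W, hW⟩
  haveI : NoetherianSpace (W : Set X) := noetherianSpace_of_isAffineOpen W hW
  haveI : QuasiSober (W : Set X) := W.2.isOpenEmbedding_subtypeVal.quasiSober
  let j : ↥(W : Set X) → X := Subtype.val
  have hj : Continuous j := continuous_subtype_val
  have key := closure_inter_subset_top (α := (W : Set X)) (V := j ⁻¹' V) (Z := j ⁻¹' Z) (hV.preimage hj)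
    (hZ.preimage hj) ⟨j ⁻¹' C, hC.preimage hj⟩ (fun w hw => h ⟨hw.1, hw.2⟩)
  have hy' : (⟨y, hyW⟩ : ↥(W : Set X)) ∈ closure (j ⁻¹' C ∩ j ⁻¹' V) := by
    rw [closure_subtype]
    rw [mem_closure_iff] at hy ⊢
    intro o ho hyo
    obtain ⟨z, hzo, hz⟩ := hy (o ∩ W) (ho.inter W.isOpen) ⟨hyo, hyW⟩
    exact ⟨z, hzo.1, ⟨⟨z, hzo.2⟩, hz, rfl⟩⟩
  exact key hy'

/-- In a locally Noetherian scheme every open subset of a compact open is compact. -/
theorem isCompact_of_le [IsLocallyNoetherian X] {V W : X.Opens} (hV : IsCompact (V : Set X))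
    (h : W ≤ V) : IsCompact (W : Set X) := by
  haveI : CompactSpace ↥(V : Scheme) := isCompact_iff_compactSpace.mp hV
  haveI : IsNoetherian (V : Scheme) := {}
  have : NoetherianSpace (V : Set X) := (inferInstance : NoetherianSpace ↥(V : Scheme))
  exact (noetherianSpace_set_iff _).1 this _ h

/-! ### Restriction maps -/

/-- restriction of sections of a module -/
noncomputable abbrev res (F : X.Modules) {V W : X.Opens} (h : W ≤ V) : Γ(F, V) ⟶ Γ(F, W) :=
  F.presheaf.map (homOfLE h).op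

lemma res_res (F : X.Modules) {V W W' : X.Opens} (h : W ≤ V) (h' : W' ≤ W) (s : Γ(F, V)) :
    res F h' (res F h s) = res F (h'.trans h) s := by
  show F.presheaf.map (homOfLE h').op (F.presheaf.map (homOfLE h).op s) = _
  rw [← ConcreteCategory.comp_apply, ← Functor.map_comp, ← op_comp, homOfLE_comp]

lemma res_refl (F : X.Modules) {V : X.Opens} (h : V ≤ V) (s : Γ(F, V)) : res F h s = s := by
  show F.presheaf.map (homOfLE h).op s = s
  rw [show homOfLE h = 𝟙 V from rfl, op_id, F.presheaf.map_id]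
  rfl

lemma inj_res_congr (F : X.Modules) {V1 V2 W1 W2 : X.Opens} (eV : V1 = V2) (eW : W1 = W2)
    (h1 : W1 ≤ V1) (h2 : W2 ≤ V2) :
    Function.Injective (res F h1) ↔ Function.Injective (res F h2) := by
  subst eV eW; rfl

lemma bij_res_congr (F : X.Modules) {V1 V2 W1 W2 : X.Opens} (eV : V1 = V2) (eW : W1 = W2)
    (h1 : W1 ≤ V1) (h2 : W2 ≤ V2) :
    Function.Bijective (res F h1) ↔ Function.Bijective (res F h2) := by
  subst eV eW; rfl

lemma res_bijective_of_eq (F : X.Modules) {V W : X.Opens} (e : W = V) (h : W ≤ V) :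
    Function.Bijective (res F h) := by
  subst e
  have : ⇑(ConcreteCategory.hom (res F h)) = id := funext (res_refl F h)
  rw [this]; exact Function.bijective_id

lemma mem_Uv {U V : X.Opens} {y : X} : y ∈ U.ι ''ᵁ U.ι ⁻¹ᵁ V ↔ y ∈ U ∧ y ∈ V := by
  rw [ι_image_preimage]; rfl

lemma Uv_mono (U : X.Opens) {V W : X.Opens} (h : W ≤ V) :
    U.ι ''ᵁ U.ι ⁻¹ᵁ W ≤ U.ι ''ᵁ U.ι ⁻¹ᵁ V := fun _ hy =>
  mem_Uv.2 ⟨(mem_Uv.1 hy).1, h (mem_Uv.1 hy).2⟩

lemma mem_ClU {Z : Set X} {T : Cl Z} {y : X} : y ∈ T.U ↔ y ∉ (T.1 : Set X) := Iff.rfl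

lemma mem_sup {Z : Set X} {T T' : Cl Z} {y : X} :
    y ∈ ((T ⊔ T').1 : Set X) ↔ y ∈ (T.1 : Set X) ∨ y ∈ (T'.1 : Set X) := Iff.rfl

/-! ### Stalk criteria -/

theorem stalk_surjective_of_isBasis {Y : TopCat.{u}} {P Q : TopCat.Presheaf Ab.{u} Y} (φ : P ⟶ Q)
    {B : Set (Opens Y)} (hB : Opens.IsBasis B)
    (hφ : ∀ W ∈ B, Function.Surjective (φ.app (op W))) (x : Y) :
    Function.Surjective ((TopCat.Presheaf.stalkFunctor Ab.{u} x).map φ) := by
  intro t
  obtain ⟨W, hxW, hW, t', rfl⟩ := TopCat.Presheaf.exists_mem_germ_eq_of_isBasis hB Q x t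
  obtain ⟨s', rfl⟩ := hφ W hW t'
  exact ⟨P.germ W x hxW s', TopCat.Presheaf.stalkFunctor_map_germ_apply W x hxW φ s'⟩

/-- the underlying abelian sheaf -/
noncomputable abbrev toAb (X : Scheme.{u}) : X.Modules ⥤ CohTop.Ab X.toTopCat :=
  SheafOfModules.toSheaf X.ringCatSheaf

theorem mono_of_injective_basis {M N : X.Modules} (φ : M ⟶ N) {B : Set X.Opens}
    (hB : Opens.IsBasis B) (h : ∀ V ∈ B, Function.Injective (φ.app V)) : Mono φ := by
  have : ∀ x : X, Mono ((TopCat.Presheaf.stalkFunctor Ab.{u} x).map ((toAb X).map φ).hom) :=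
    fun x => by
      rw [AddCommGrpCat.mono_iff_injective]
      exact TopCat.Presheaf.stalkFunctor_map_injective_of_isBasis hB (fun V hV => h V hV) x
  haveI : Mono ((toAb X).map φ) := TopCat.Presheaf.mono_of_stalk_mono ((toAb X).map φ)
  haveI : (toAb X).Faithful := (inferInstance : (SheafOfModules.toSheaf X.ringCatSheaf).Faithful)
  exact (toAb X).mono_of_mono_map inferInstance

theorem isIso_of_bijective_basis {M N : X.Modules} (φ : M ⟶ N) {B : Set X.Opens}
    (hB : Opens.IsBasis B) (h : ∀ V ∈ B, Function.Bijective (φ.app V)) : IsIso φ := by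
  have : ∀ x : X, IsIso ((TopCat.Presheaf.stalkFunctor Ab.{u} x).map ((toAb X).map φ).hom) :=
    fun x => by
      rw [ConcreteCategory.isIso_iff_bijective]
      exact ⟨TopCat.Presheaf.stalkFunctor_map_injective_of_isBasis hB (fun V hV => (h V hV).1) x,
        stalk_surjective_of_isBasis _ hB (fun V hV => (h V hV).2) x⟩
  haveI : IsIso ((toAb X).map φ) := TopCat.Presheaf.isIso_of_stalkFunctor_map_iso ((toAb X).map φ)
  haveI : (toAb X).ReflectsIsomorphisms :=
    (inferInstance : (SheafOfModules.toSheaf X.ringCatSheaf).ReflectsIsomorphisms)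
  exact isIso_of_reflects_iso φ (toAb X)

theorem injective_app_of_mono {M N : X.Modules} (φ : M ⟶ N) [Mono φ] (V : X.Opens) :
    Function.Injective (φ.app V) := by
  haveI : Mono ((Scheme.Modules.toPresheaf X).map φ) := inferInstance
  have h2 : Mono (((Scheme.Modules.toPresheaf X).map φ).app (op V)) :=
    (NatTrans.mono_iff_mono_app _).1 inferInstance (op V)
  exact (AddCommGrpCat.mono_iff_injective _).1 h2

theorem bijective_app_of_isIso {M N : X.Modules} (φ : M ⟶ N) [IsIso φ] (V : X.Opens) :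
    Function.Bijective (φ.app V) :=
  ConcreteCategory.bijective_of_isIso (φ.app V)

theorem isBasis_compact (X : Scheme.{u}) :
    Opens.IsBasis {V : X.Opens | IsCompact (V : Set X)} := by
  rw [Opens.isBasis_iff_nbhd]
  intro U x hx
  haveI : PrespectralSpace X.toTopCat := (inferInstance : PrespectralSpace X)
  obtain ⟨K, hK, hxK, hKU⟩ :=
    Groth.Agent.Helper1.ColimSec.exists_compact_nhd (X := X.toTopCat) U x hx
  exact ⟨K, hK, hxK, hKU⟩

/-! ### The colimit cocone on underlying abelian sheaves -/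

section K

variable (Z : Set X) (F : X.Modules)

noncomputable def cH : Cocone ((diagram Z).obj F ⋙ toAb X) :=
  (toAb X).mapCocone (colimit.cocone ((diagram Z).obj F))

noncomputable def hcH : IsColimit (cH Z F) := by
  have h := Groth.Agent.Helper3.SheafModLib.toSheaf_preservesColimits X.ringCatSheaf
  haveI : PreservesColimit ((diagram Z).obj F) (toAb X) :=
    (h.preservesColimitsOfShape (J := Cl Z)).preservesColimit
  exact isColimitOfPreserves (toAb X) (colimit.isColimit ((diagram Z).obj F))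

theorem exists_rep [IsLocallyNoetherian X] {V : X.Opens} (hV : IsCompact (V : Set X))
    (s : Γ((H0 Z).obj F, V)) :
    ∃ (T : Cl Z) (t : Γ(F, T.U.ι ''ᵁ T.U.ι ⁻¹ᵁ V)), (ιH Z F T).app V t = s := by
  haveI : PrespectralSpace X.toTopCat := (inferInstance : PrespectralSpace X)
  haveI : QuasiSeparatedSpace X.toTopCat := (inferInstance : QuasiSeparatedSpace X)
  obtain ⟨T, t, ht⟩ :=
    Groth.Agent.Helper1.ColimSec.exists_rep_of_isCompact (hcH Z F) (U := V) hV s
  exact ⟨T, t, ht⟩

theorem transApp_eq {T T' : Cl Z} (h : T ≤ T') (V : X.Opens)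
    (t : Γ(F, T.U.ι ''ᵁ T.U.ι ⁻¹ᵁ V)) :
    (resPushMapApp (Cl.U_anti h) F).app V t = res F (resPush_le (Cl.U_anti h) V) t := by
  rw [resPushMapApp_app]; rfl

theorem exists_zero {V : X.Opens} (hV : IsCompact (V : Set X)) (T : Cl Z)
    (t : Γ(F, T.U.ι ''ᵁ T.U.ι ⁻¹ᵁ V)) (ht : (ιH Z F T).app V t = 0) :
    ∃ (T' : Cl Z) (h : T ≤ T'), res F (resPush_le (Cl.U_anti h) V) t = 0 := by
  obtain ⟨T', h, h0⟩ :=
    Groth.Agent.Helper1.ColimSec.exists_zero_of_isCompact (hcH Z F) (U := V) hV (i := T) t ht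
  exact ⟨T', h, (transApp_eq Z F h V t).symm.trans h0⟩

theorem ι_trans {T T' : Cl Z} (h : T ≤ T') (V : X.Opens) (t : Γ(F, T.U.ι ''ᵁ T.U.ι ⁻¹ᵁ V)) :
    (ιH Z F T').app V (res F (resPush_le (Cl.U_anti h) V) t) = (ιH Z F T).app V t := by
  have w' : resPushMapApp (Cl.U_anti h) F ≫ ιH Z F T' = ιH Z F T :=
    colimit.w ((diagram Z).obj F) (homOfLE h)
  have h1 : (resPushMapApp (Cl.U_anti h) F ≫ ιH Z F T').app V t = (ιH Z F T).app V t :=
    congrArg (fun k : ((diagram Z).obj F).obj T ⟶ (H0 Z).obj F =>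
      (Scheme.Modules.Hom.app k V) t) w'
  rw [← transApp_eq Z F h V t]
  exact h1

theorem ι_res (T : Cl Z) {V W : X.Opens} (h : W ≤ V) (t : Γ(F, T.U.ι ''ᵁ T.U.ι ⁻¹ᵁ V)) :
    res ((H0 Z).obj F) h ((ιH Z F T).app V t) =
      (ιH Z F T).app W (res F (Uv_mono T.U h) t) := by
  have nat := (ιH Z F T).mapPresheaf.naturality (homOfLE h).op
  exact (congr($(nat) t)).symm

end K

/-! ### Stalks off `Z` -/

theorem isIso_stk_unit (U : X.Opens) (F : X.Modules) (x : X) (hx : x ∈ U) :
    IsIso ((Scheme.Modules.toPresheaf X ⋙ TopCat.Presheaf.stalkFunctor Ab.{u} x).map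
      ((resPushUnit U).app F)) := by
  haveI := ZCl1.isIso_restrict_map_unit U F
  have h2 : IsIso ((Scheme.Modules.restrictFunctor U.ι ⋙
      Scheme.Modules.toPresheaf (U : Scheme.{u}) ⋙
      TopCat.Presheaf.stalkFunctor Ab.{u} (⟨x, hx⟩ : U)).map ((resPushUnit U).app F)) := by
    show IsIso ((Scheme.Modules.toPresheaf (U : Scheme.{u}) ⋙
      TopCat.Presheaf.stalkFunctor Ab.{u} (⟨x, hx⟩ : U)).map
      ((Scheme.Modules.restrictFunctor U.ι).map ((resPushUnit U).app F)))
    infer_instance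
  exact (NatIso.isIso_map_iff (Scheme.Modules.restrictStalkNatIso U.ι (⟨x, hx⟩ : U)) _).1 h2

theorem isZClosedAt_of_not_mem (Z : Set X) (F : X.Modules) (x : X) (hx : x ∉ Z) :
    IsZClosedAt Z F x := by
  let G : X.Modules ⥤ Ab.{u} :=
    toAb X ⋙ Groth.Agent.Helper1.ColimSec.stalkF (X := X.toTopCat) x
  have h := Groth.Agent.Helper3.SheafModLib.toSheaf_preservesColimits X.ringCatSheaf
  haveI : PreservesColimit ((diagram Z).obj F) (toAb X) :=
    (h.preservesColimitsOfShape (J := Cl Z)).preservesColimit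
  haveI : PreservesColimit ((diagram Z).obj F ⋙ toAb X)
      (Groth.Agent.Helper1.ColimSec.stalkF (X := X.toTopCat) x) :=
    (PreservesColimitsOfSize.preservesColimitsOfShape (J := Cl Z)).preservesColimit
  haveI : PreservesColimit ((diagram Z).obj F) G := inferInstance
  have hiso := ZCl1.isIso_map_comp_ι ((diagram Z).obj F) F (toDiagram Z F)
    (fun f => toDiagram_map Z F f) G
    (colimit.cocone _) (isColimitOfPreserves G (colimit.isColimit _))
    (fun T => isIso_stk_unit T.U F x (fun hxT => hx (T.2 hxT)))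
  haveI : IsIso (rhoStalk Z F x) := hiso
  exact ConcreteCategory.bijective_of_isIso (rhoStalk Z F x)

/-! ### Criteria on sections -/

theorem inf_eq_Uv (U V : X.Opens) : V ⊓ U = U.ι ''ᵁ U.ι ⁻¹ᵁ V := by
  rw [ι_image_preimage, inf_comm]

theorem injective_res_of_mono (Z : Set X) (F : X.Modules) (T : Cl Z) [Mono (toDiagram Z F T)]
    (V : X.Opens) : Function.Injective (res F (inf_le_left : V ⊓ T.U ≤ V)) := by
  rw [inj_res_congr F rfl (inf_eq_Uv T.U V) inf_le_left (T.U.ι.image_preimage_le V)]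
  exact injective_app_of_mono (toDiagram Z F T) V

theorem mono_of_injective_res (Z : Set X) (F : X.Modules) (T : Cl Z) {B : Set X.Opens}
    (hB : Opens.IsBasis B)
    (h : ∀ V ∈ B, Function.Injective (res F (inf_le_left : V ⊓ T.U ≤ V))) :
    Mono (toDiagram Z F T) := by
  refine mono_of_injective_basis _ hB fun V hV => ?_
  exact (inj_res_congr F rfl (inf_eq_Uv T.U V) inf_le_left (T.U.ι.image_preimage_le V)).1 (h V hV)

theorem bijective_res_of_isIso (Z : Set X) (F : X.Modules) (T : Cl Z) [IsIso (toDiagram Z F T)]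
    (V : X.Opens) : Function.Bijective (res F (inf_le_left : V ⊓ T.U ≤ V)) := by
  rw [bij_res_congr F rfl (inf_eq_Uv T.U V) inf_le_left (T.U.ι.image_preimage_le V)]
  exact bijective_app_of_isIso (toDiagram Z F T) V

theorem isIso_of_bijective_res (Z : Set X) (F : X.Modules) (T : Cl Z) {B : Set X.Opens}
    (hB : Opens.IsBasis B)
    (h : ∀ V ∈ B, Function.Bijective (res F (inf_le_left : V ⊓ T.U ≤ V))) :
    IsIso (toDiagram Z F T) := by
  refine isIso_of_bijective_basis _ hB fun V hV => ?_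
  exact (bij_res_congr F rfl (inf_eq_Uv T.U V) inf_le_left (T.U.ι.image_preimage_le V)).1 (h V hV)

theorem isZPure_iff_compact (Z : Set X) (F : X.Modules) :
    IsZPure Z F ↔ ∀ (T : Cl Z) (V : X.Opens), IsCompact (V : Set X) →
      Function.Injective (F.presheaf.map (homOfLE (inf_le_left : V ⊓ T.U ≤ V)).op) := by
  rw [ZCl1.isZPure_iff]
  constructor
  · intro h T V _
    haveI := h T
    exact injective_res_of_mono Z F T V
  · intro h T
    exact mono_of_injective_res Z F T (isBasis_compact X) (fun V hV => h T V hV)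

theorem isZClosed_iff_compact (Z : Set X) (F : X.Modules) :
    IsZClosed Z F ↔ ∀ (T : Cl Z) (V : X.Opens), IsCompact (V : Set X) →
      Function.Bijective (F.presheaf.map (homOfLE (inf_le_left : V ⊓ T.U ≤ V)).op) := by
  rw [ZCl1.isZClosed_iff]
  constructor
  · intro h T V _
    haveI := h T
    exact bijective_res_of_isIso Z F T V
  · intro h T
    exact isIso_of_bijective_res Z F T (isBasis_compact X) (fun V hV => h T V hV)

end Groth.Agent.Helper6.ZCl2
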