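import Mathlib

universe u

open TensorProduct

namespace Groth.Agent.Helper6.InvLoc

section local_

variable {R : Type u} [CommRing R] (r : R) (Rr : Type u) [CommRing Rr] [Algebra R Rr]
  [IsLocalization.Away r Rr] (Mr : Type u) [AddCommGroup Mr] [Module R Mr] [Module Rr Mr]
  [IsScalarTower R Rr Mr]

/-- the contraction `(Mr →ₗ[R] Rr) ⊗[R] Mr → Rr` -/
noncomputable def contr : ((Mr →ₗ[R] Rr) ⊗[R] Mr) →ₗ[R] Rr :=
  TensorProduct.lift (LinearMap.id : (Mr →ₗ[R] Rr) →ₗ[R] (Mr →ₗ[R] Rr))

lemma contr_tmul (φ : Mr →ₗ[R] Rr) (m : Mr) : contr Rr Mr (φ ⊗ₜ m) = φ m := by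
  simp [contr]

include r in
theorem contr_bijective (e : Mr ≃ₗ[Rr] Rr) : Function.Bijective (contr (R := R) Rr Mr) := by
  haveI : TensorProduct.CompatibleSMul R Rr (Mr →ₗ[R] Rr) Mr :=
    IsLocalization.tensorProduct_compatibleSMul (Submonoid.powers r) Rr _ _
  let φ₀ : Mr →ₗ[R] Rr := e.toLinearMap.restrictScalars R
  let m₀ : Mr := e.symm 1
  have hφ₀ : ∀ m, φ₀ m = e m := fun _ => rfl
  have hm : ∀ m : Mr, m = e m • m₀ := by
    intro m
    apply e.injective
    rw [map_smul, LinearEquiv.apply_symm_apply, smul_eq_mul, mul_one]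
  have hφ : ∀ φ : Mr →ₗ[R] Rr, φ = φ m₀ • φ₀ := by
    intro φ
    ext m
    let φ' : Mr →ₗ[Rr] Rr := φ.extendScalarsOfIsLocalization (Submonoid.powers r) Rr
    have h1 : ∀ x, φ' x = φ x := fun _ => rfl
    rw [LinearMap.smul_apply, hφ₀, smul_eq_mul]
    conv_lhs => rw [hm m, ← h1, map_smul, h1, smul_eq_mul]
    ring
  constructor
  · rw [injective_iff_map_eq_zero]
    have key : ∀ z : (Mr →ₗ[R] Rr) ⊗[R] Mr, ∃ m : Mr, z = φ₀ ⊗ₜ m := by
      intro z
      induction z using TensorProduct.induction_on with
      | zero => exact ⟨0, by simp⟩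
      | tmul φ m =>
        refine ⟨φ m₀ • m, ?_⟩
        conv_lhs => rw [hφ φ]
        rw [TensorProduct.smul_tmul]
      | add z z' hz hz' =>
        obtain ⟨m, rfl⟩ := hz
        obtain ⟨m', rfl⟩ := hz'
        exact ⟨m + m', by rw [TensorProduct.tmul_add]⟩
    intro z hz
    obtain ⟨m, rfl⟩ := key z
    rw [contr_tmul, hφ₀] at hz
    have : m = 0 := e.injective (by rw [hz, map_zero])
    rw [this, TensorProduct.tmul_zero]
  · intro x
    refine ⟨(x • φ₀) ⊗ₜ m₀, ?_⟩
    rw [contr_tmul, LinearMap.smul_apply, hφ₀, LinearEquiv.apply_symm_apply, smul_eq_mul, mul_one]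

end local_

theorem main (R : Type u) [CommRing R] (M : Type u) [AddCommGroup M]
    [Module R M] (s : Set R) (hs : Ideal.span s = ⊤)
    (hfree : ∀ f ∈ s, Nonempty (LocalizedModule.Away f M ≃ₗ[Localization.Away f] Localization.Away f)) :
    Module.Invertible R M := by
  haveI : Module.FinitePresentation R M := by
    apply Module.FinitePresentation.of_localizationSpan s hs
    intro g
    obtain ⟨e⟩ := hfree g.1 g.2
    exact Module.FinitePresentation.of_equiv e.symm
  constructor
  refine bijective_of_isLocalized_span s hs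
    (fun r => (LocalizedModule.Away r.1 M →ₗ[R] Localization.Away r.1) ⊗[R] LocalizedModule.Away r.1 M)
    (fun r => TensorProduct.map
      (IsLocalizedModule.map (.powers r.1) (LocalizedModule.mkLinearMap (.powers r.1) M)
        (Algebra.linearMap R (Localization.Away r.1)))
      (LocalizedModule.mkLinearMap (.powers r.1) M))
    (fun r => Localization.Away r.1) (fun r => Algebra.linearMap R (Localization.Away r.1))
    (contractLeft R M) ?_
  intro r
  obtain ⟨e⟩ := hfree r.1 r.2
  have heq : IsLocalizedModule.map (.powers r.1)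
      (TensorProduct.map
        (IsLocalizedModule.map (.powers r.1) (LocalizedModule.mkLinearMap (.powers r.1) M)
          (Algebra.linearMap R (Localization.Away r.1)))
        (LocalizedModule.mkLinearMap (.powers r.1) M))
      (Algebra.linearMap R (Localization.Away r.1)) (contractLeft R M) =
      contr (R := R) (Localization.Away r.1) (LocalizedModule.Away r.1 M) := by
    apply IsLocalizedModule.ext (.powers r.1)
      (TensorProduct.map
        (IsLocalizedModule.map (.powers r.1) (LocalizedModule.mkLinearMap (.powers r.1) M)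
          (Algebra.linearMap R (Localization.Away r.1)))
        (LocalizedModule.mkLinearMap (.powers r.1) M))
      (IsLocalizedModule.map_units (Algebra.linearMap R (Localization.Away r.1)))
    rw [IsLocalizedModule.map_comp]
    apply TensorProduct.ext'
    intro φ m
    simp only [LinearMap.comp_apply, TensorProduct.map_tmul, contr_tmul, contractLeft_apply]
    rw [IsLocalizedModule.map_apply]
  rw [heq]
  exact contr_bijective r.1 _ _ e

end Groth.Agent.Helper6.InvLoc
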