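import Groth.Agent.Helper6.ProjDim4

/-!
# Homogeneous primes of the polynomial ring: unique factorisation facts
-/

set_option autoImplicit false
universe u

namespace Groth.Agent.Helper6.ProjDim

open MvPolynomial ProjectiveSpectrum TopologicalSpace Groth.Agent.Helper6.HilbProj

section UFD

variable {R : Type*} [CommRing R] [IsDomain R] [UniqueFactorizationMonoid R]

/-- a nonzero prime ideal inside a principal prime ideal equals it -/
theorem eq_span_of_le_span {q : R} (hq : Prime q) (Q : Ideal R) [hQ : Q.IsPrime] (hQ0 : Q ≠ ⊥)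
    (hle : Q ≤ Ideal.span {q}) : Q = Ideal.span {q} := by
  apply le_antisymm hle
  obtain ⟨p, hpQ, hp⟩ := hQ.exists_mem_prime_of_ne_bot hQ0
  have h1 : q ∣ p := Ideal.mem_span_singleton.1 (hle hpQ)
  obtain ⟨u, hu⟩ := h1
  have hirr := hp.irreducible
  rcases hirr.isUnit_or_isUnit hu with h | h
  · exact absurd h hq.not_isUnit
  · rw [Ideal.span_le, Set.singleton_subset_iff]
    have : q = p * (h.unit⁻¹ : Rˣ) := by
      rw [hu, mul_assoc, IsUnit.mul_val_inv, mul_one]
    rw [this]
    exact Q.mul_mem_right _ hpQ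

theorem span_mem_minimalPrimes_of_dvd {q g : R} (hq : Prime q) (hg : g ≠ 0) (hqg : q ∣ g) :
    Ideal.span {q} ∈ (Ideal.span {g}).minimalPrimes := by
  haveI hprime : (Ideal.span {q}).IsPrime := (Ideal.span_singleton_prime hq.ne_zero).2 hq
  refine ⟨⟨hprime, ?_⟩, ?_⟩
  · rw [Ideal.span_le, Set.singleton_subset_iff]
    exact Ideal.mem_span_singleton.2 hqg
  · rintro Q ⟨hQprime, hQg⟩ hQle
    have hQ0 : Q ≠ ⊥ := by
      rintro rfl
      apply hg
      have := hQg (Ideal.mem_span_singleton_self g)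
      exact (Ideal.mem_bot).1 this
    exact (eq_span_of_le_span hq Q hQ0 hQle).ge

theorem exists_prime_of_mem_minimalPrimes_span {f : R} (hf : f ≠ 0) (Q : Ideal R)
    (hQ : Q ∈ (Ideal.span {f}).minimalPrimes) : ∃ q : R, Prime q ∧ q ∣ f ∧ Q = Ideal.span {q} := by
  haveI hQprime : Q.IsPrime := hQ.1.1
  have hfQ : f ∈ Q := hQ.1.2 (Ideal.mem_span_singleton_self f)
  have hprod : (UniqueFactorizationMonoid.factors f).prod ∈ Q := by
    obtain ⟨u, hu⟩ := UniqueFactorizationMonoid.factors_prod hf
    rwa [← hu, Ideal.mul_unit_mem_iff_mem _ u.isUnit] at hfQ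
  obtain ⟨p, hp₁, hp₂⟩ := (hQprime.multiset_prod_mem_iff_exists_mem _).1 hprod
  have hp := UniqueFactorizationMonoid.prime_of_factor p hp₁
  have hpf := UniqueFactorizationMonoid.dvd_of_mem_factors hp₁
  refine ⟨p, hp, hpf, ?_⟩
  haveI hprime : (Ideal.span {p}).IsPrime := (Ideal.span_singleton_prime hp.ne_zero).2 hp
  have hle : Ideal.span {p} ≤ Q := by
    rw [Ideal.span_le, Set.singleton_subset_iff]
    exact hp₂
  have hfp : Ideal.span {f} ≤ Ideal.span {p} := by
    rw [Ideal.span_le, Set.singleton_subset_iff]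
    exact Ideal.mem_span_singleton.2 hpf
  exact le_antisymm (hQ.2 ⟨hprime, hfp⟩ hle) hle

end UFD

variable {k : Type u} [Field k] {σ : Type*}

attribute [local instance] MvPolynomial.gradedAlgebra

/-- a generator of a nonzero homogeneous principal ideal is homogeneous -/
theorem isHomogeneous_of_span_isHomogeneous {f : MvPolynomial σ k} (hf : f ≠ 0)
    (h : (Ideal.span {f}).IsHomogeneous (homogeneousSubmodule σ k)) :
    f.IsHomogeneous f.totalDegree := by
  classical
  have key : ∀ i, homogeneousComponent i f ≠ 0 → i = f.totalDegree := by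
    intro i hi
    have h1 : homogeneousComponent i f ∈ Ideal.span {f} :=
      homogeneousComponent_mem _ h i (Ideal.mem_span_singleton_self f)
    obtain ⟨g, hg⟩ := Ideal.mem_span_singleton.1 h1
    have hg0 : g ≠ 0 := by
      rintro rfl
      rw [mul_zero] at hg
      exact hi hg
    have h2 : (homogeneousComponent i f).totalDegree = i :=
      (homogeneousComponent_isHomogeneous i f).totalDegree hi
    have h3 : (homogeneousComponent i f).totalDegree = f.totalDegree + g.totalDegree := by
      rw [hg, totalDegree_mul_of_isDomain hf hg0]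
    have h4 : i ≤ f.totalDegree := by
      by_contra hlt
      exact hi (homogeneousComponent_eq_zero i f (by omega))
    omega
  have hsum := sum_homogeneousComponent f
  have hfeq : homogeneousComponent f.totalDegree f = f := by
    conv_rhs => rw [← hsum]
    symm
    apply Finset.sum_eq_single
    · intro i _ hi
      by_contra hne
      exact hi (key i hne)
    · intro hnot
      exfalso
      apply hnot
      rw [Finset.mem_range]
      omega
  have h5 := homogeneousComponent_isHomogeneous f.totalDegree f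
  rwa [hfeq] at h5

section Poly

variable {n : ℕ}

theorem isHomogeneous_span_singleton {g : MvPolynomial (Fin (n + 1)) k} {e : ℕ}
    (hg : g.IsHomogeneous e) :
    (Ideal.span {g}).IsHomogeneous (homogeneousSubmodule (Fin (n + 1)) k) := by
  apply Ideal.homogeneous_span
  rintro _ rfl
  exact ⟨e, (mem_homogeneousSubmodule _ _).2 hg⟩

theorem isHomogeneous_of_prime_dvd {q g : MvPolynomial (Fin (n + 1)) k} (hq : Prime q)
    (hg0 : g ≠ 0) {e : ℕ} (hg : g.IsHomogeneous e) (hqg : q ∣ g) :
    q.IsHomogeneous q.totalDegree := by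
  apply isHomogeneous_of_span_isHomogeneous hq.ne_zero
  exact Groth.Agent.Helper6.CINormal.isHomogeneous_of_mem_minimalPrimes k (Fin (n + 1)) _
    (isHomogeneous_span_singleton hg) _ (span_mem_minimalPrimes_of_dvd hq hg0 hqg)

theorem totalDegree_pos_of_prime {q : MvPolynomial (Fin (n + 1)) k} (hq : Prime q) :
    1 ≤ q.totalDegree := by
  by_contra hlt
  have h0 : q.totalDegree = 0 := by omega
  rw [totalDegree_eq_zero_iff_eq_C] at h0
  apply hq.not_isUnit
  rw [h0]
  have : coeff 0 q ≠ 0 := by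
    intro h
    apply hq.ne_zero
    rw [h0, h, map_zero]
  exact (IsUnit.mk0 _ this).map C

theorem exists_prime_mem (P : Ideal (MvPolynomial (Fin (n + 1)) k)) [hP : P.IsPrime]
    (hPh : P.IsHomogeneous (homogeneousSubmodule (Fin (n + 1)) k)) (hP0 : P ≠ ⊥) :
    ∃ q ∈ P, Prime q ∧ q.IsHomogeneous q.totalDegree := by
  obtain ⟨a, haP, ha0⟩ := Submodule.exists_mem_ne_zero_of_ne_bot hP0
  obtain ⟨i, hi⟩ : ∃ i, homogeneousComponent i a ≠ 0 := by
    by_contra hcon
    push Not at hcon
    apply ha0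
    rw [← sum_homogeneousComponent a]
    exact Finset.sum_eq_zero fun i _ => hcon i
  set g := homogeneousComponent i a with hg
  have hgP : g ∈ P := homogeneousComponent_mem P hPh i haP
  have hgh : g.IsHomogeneous i := homogeneousComponent_isHomogeneous i a
  have hprod : (UniqueFactorizationMonoid.factors g).prod ∈ P := by
    obtain ⟨u, hu⟩ := UniqueFactorizationMonoid.factors_prod hi
    rwa [← hu, Ideal.mul_unit_mem_iff_mem _ u.isUnit] at hgP
  obtain ⟨p, hp₁, hp₂⟩ := (hP.multiset_prod_mem_iff_exists_mem _).1 hprod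
  have hp := UniqueFactorizationMonoid.prime_of_factor p hp₁
  have hpg := UniqueFactorizationMonoid.dvd_of_mem_factors hp₁
  exact ⟨p, hp₂, hp, isHomogeneous_of_prime_dvd hp hi hgh hpg⟩

theorem dim_quot_bot :
    ringKrullDim (MvPolynomial (Fin (n + 1)) k ⧸ (⊥ : Ideal (MvPolynomial (Fin (n + 1)) k))) =
      ((n + 1 : ℕ) : WithBot ℕ∞) := by
  rw [ringKrullDim_eq_of_ringEquiv (RingEquiv.quotientBot (MvPolynomial (Fin (n + 1)) k)),
    Groth.Agent.Helper5.DimBC.dim_mvPolynomial]

theorem dim_quot_of_mem_minimalPrimes_span {f : MvPolynomial (Fin (n + 1)) k} (hf : f ≠ 0)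
    (Q : Ideal (MvPolynomial (Fin (n + 1)) k)) (hQ : Q ∈ (Ideal.span {f}).minimalPrimes) :
    ringKrullDim (MvPolynomial (Fin (n + 1)) k ⧸ Q) = (n : WithBot ℕ∞) := by
  haveI : (⊥ : Ideal (MvPolynomial (Fin (n + 1)) k)).IsPrime := Ideal.isPrime_bot
  have h1 := dim_quot_minimalPrime_hypSec k n ⊥ f (by rwa [Ideal.mem_bot]) Q
    (by rwa [bot_sup_eq])
  rw [dim_quot_bot] at h1
  have h2 : ((n + 1 : ℕ) : WithBot ℕ∞) = (n : WithBot ℕ∞) + 1 := by push_cast; rfl
  rw [h2] at h1
  exact ENat.WithBot.add_one_cancel.1 h1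

theorem dim_quot_span_prime {q : MvPolynomial (Fin (n + 1)) k} (hq : Prime q) :
    ringKrullDim (MvPolynomial (Fin (n + 1)) k ⧸ Ideal.span {q}) = (n : WithBot ℕ∞) :=
  dim_quot_of_mem_minimalPrimes_span hq.ne_zero _
    (span_mem_minimalPrimes_of_dvd hq hq.ne_zero dvd_rfl)

end Poly

end Groth.Agent.Helper6.ProjDim
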