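import Mathlib
import Groth.Agent.Helper1.TorCrit
import Groth.Agent.Helper6.ExtFin

/-!
# Propagation of (co)annihilation of `Ext^j(-, M)` along prime filtrations
-/

set_option autoImplicit false
universe u

namespace Groth.Agent.Helper6.Bass

open CategoryTheory Abelian Groth.Agent.Helper1.TorLib

variable {A : Type u} [CommRing A]

/-- some element of the submonoid `S` kills `Ext^j(N, M)` -/
def KilledBy (S : Submonoid A) (N M : Type u) [AddCommGroup N] [Module A N] [AddCommGroup M]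
    [Module A M] (j : ℕ) : Prop :=
  ∃ s ∈ S, ∀ e : Ext (ModuleCat.of A N) (ModuleCat.of A M) j, s • e = 0

variable (S : Submonoid A) (M : Type u) [AddCommGroup M] [Module A M] (j : ℕ)

lemma killedBy_of_subsingleton (N : Type u) [AddCommGroup N] [Module A N] [Subsingleton N] :
    KilledBy S N M j := by
  refine ⟨1, S.one_mem, fun e => ?_⟩
  have h0 : (𝟙 (ModuleCat.of A N) : ModuleCat.of A N ⟶ ModuleCat.of A N) = 0 := by
    ext z
    exact Subsingleton.elim _ _
  rw [one_smul, ← Ext.mk₀_id_comp e, h0, Ext.mk₀_zero, Ext.zero_comp]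

lemma killedBy_of_equiv {N N' : Type u} [AddCommGroup N] [Module A N] [AddCommGroup N']
    [Module A N'] (e : N ≃ₗ[A] N') (h : KilledBy S N' M j) : KilledBy S N M j := by
  obtain ⟨s, hs, hk⟩ := h
  refine ⟨s, hs, fun x => ?_⟩
  have h1 : x = (Ext.mk₀ (ModuleCat.ofHom e.toLinearMap)).comp
      ((Ext.mk₀ (ModuleCat.ofHom e.symm.toLinearMap)).comp x (zero_add j)) (zero_add j) := by
    rw [← Ext.comp_assoc_of_second_deg_zero, Ext.mk₀_comp_mk₀, ← ModuleCat.ofHom_comp]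
    have : e.symm.toLinearMap ∘ₗ e.toLinearMap = LinearMap.id := by
      ext z; simp
    rw [this]
    exact (Ext.mk₀_id_comp x).symm
  rw [h1, ← Ext.comp_smul, hk, Ext.comp_zero]

omit M in
lemma killed_X₂ {T : ShortComplex (ModuleCat.{u} A)} (hT : T.ShortExact) (Y : ModuleCat.{u} A)
    (s₁ s₃ : A) (h₁ : ∀ e : Ext T.X₁ Y j, s₁ • e = 0) (h₃ : ∀ e : Ext T.X₃ Y j, s₃ • e = 0)
    (e : Ext T.X₂ Y j) : (s₃ * s₁) • e = 0 := by
  have h1 : (Ext.mk₀ T.f).comp (s₁ • e) (zero_add j) = 0 := by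
    rw [Ext.comp_smul]
    exact h₁ _
  obtain ⟨e₃, he₃⟩ := Ext.contravariant_sequence_exact₂ hT Y (s₁ • e) h1
  rw [mul_smul, ← he₃, ← Ext.comp_smul, h₃ e₃, Ext.comp_zero]

lemma killedBy_of_exact {N₁ N₂ N₃ : Type u} [AddCommGroup N₁] [Module A N₁] [AddCommGroup N₂]
    [Module A N₂] [AddCommGroup N₃] [Module A N₃] (f : N₁ →ₗ[A] N₂) (g : N₂ →ₗ[A] N₃)
    (hf : Function.Injective f) (hg : Function.Surjective g) (hfg : Function.Exact f g)
    (h₁ : KilledBy S N₁ M j) (h₃ : KilledBy S N₃ M j) : KilledBy S N₂ M j := by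
  obtain ⟨s₁, hs₁, hk₁⟩ := h₁
  obtain ⟨s₃, hs₃, hk₃⟩ := h₃
  have hS := scOfLinear_shortExact f g hf hg hfg
  refine ⟨s₃ * s₁, S.mul_mem hs₃ hs₁, fun e => ?_⟩
  exact killed_X₂ j hS (ModuleCat.of A M) s₁ s₃ hk₁ hk₃ e

/-- Propagation along prime filtrations. -/
theorem killedBy_of_primes [IsNoetherianRing A] (J : Ideal A)
    (h : ∀ q : Ideal A, q.IsPrime → J ≤ q → KilledBy S (A ⧸ q) M j)
    (N : Type u) [AddCommGroup N] [Module A N] [Module.Finite A N]
    (hN : ∀ a ∈ J, ∀ n : N, a • n = 0) : KilledBy S N M j := by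
  induction ‹Module.Finite A N› using
    IsNoetherianRing.induction_on_isQuotientEquivQuotientPrime A with
  | subsingleton N => exact killedBy_of_subsingleton S M j N
  | quotient N p e =>
    have hJp : J ≤ p.asIdeal := by
      intro a ha
      have h1 : a • e.symm 1 = 0 := hN a ha _
      have h2 : e (a • e.symm 1) = 0 := by rw [h1, map_zero]
      rw [map_smul, e.apply_symm_apply] at h2
      have h3 : (Ideal.Quotient.mk p.asIdeal a) = 0 := by
        rw [← h2]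
        rw [Algebra.smul_def, mul_one]
        rfl
      exact Ideal.Quotient.eq_zero_iff_mem.mp h3
    exact killedBy_of_equiv S M j e (h p.asIdeal p.2 hJp)
  | exact N₁ N₂ N₃ f g hf hg hfg h₁ h₃ =>
    refine killedBy_of_exact S M j f g hf hg hfg (h₁ ?_) (h₃ ?_)
    · intro a ha n
      apply hf
      rw [map_smul, hN a ha, map_zero]
    · intro a ha n
      obtain ⟨n, rfl⟩ := hg n
      rw [← map_smul, hN a ha, map_zero]

/-- vanishing version -/
theorem subsingleton_of_primes [IsNoetherianRing A] (J : Ideal A)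
    (h : ∀ q : Ideal A, q.IsPrime → J ≤ q →
      Subsingleton (Ext (ModuleCat.of A (A ⧸ q)) (ModuleCat.of A M) j))
    (N : Type u) [AddCommGroup N] [Module A N] [Module.Finite A N]
    (hN : ∀ a ∈ J, ∀ n : N, a • n = 0) :
    Subsingleton (Ext (ModuleCat.of A N) (ModuleCat.of A M) j) := by
  have h' : ∀ q : Ideal A, q.IsPrime → J ≤ q → KilledBy (⊥ : Submonoid A) (A ⧸ q) M j := by
    intro q hq hJq
    haveI := h q hq hJq
    exact ⟨1, Submonoid.one_mem _, fun e => Subsingleton.elim _ _⟩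
  obtain ⟨s, hs, hk⟩ := killedBy_of_primes ⊥ M j J h' N hN
  rw [Submonoid.mem_bot] at hs
  subst hs
  refine ⟨fun x y => ?_⟩
  have hx := hk x
  have hy := hk y
  rw [one_smul] at hx hy
  rw [hx, hy]


section XSeq

variable (p : Ideal A) (x : A)

/-- multiplication by `x` on `A/p` -/
def fx : A ⧸ p →ₗ[A] A ⧸ p := x • LinearMap.id

/-- the projection `A/p → A/(p + (x))` -/
def gx : A ⧸ p →ₗ[A] A ⧸ (p ⊔ Ideal.span {x}) :=
  Submodule.mapQ p (p ⊔ Ideal.span {x}) LinearMap.id (by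
    intro a ha
    exact Submodule.mem_sup_left ha)

lemma fx_injective [p.IsPrime] (hx : x ∉ p) : Function.Injective (fx p x) := by
  rw [← LinearMap.ker_eq_bot, LinearMap.ker_eq_bot']
  intro a ha
  obtain ⟨a, rfl⟩ := Ideal.Quotient.mk_surjective a
  have h1 : Ideal.Quotient.mk p (x * a) = 0 := by
    rw [map_mul]
    exact ha
  rw [Ideal.Quotient.eq_zero_iff_mem] at h1 ⊢
  exact (Ideal.IsPrime.mem_or_mem inferInstance h1).resolve_left hx

lemma gx_surjective : Function.Surjective (gx p x) := by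
  intro b
  obtain ⟨b, rfl⟩ := Ideal.Quotient.mk_surjective b
  exact ⟨Ideal.Quotient.mk p b, rfl⟩

lemma fx_gx_exact : Function.Exact (fx p x) (gx p x) := by
  intro a
  obtain ⟨a, rfl⟩ := Ideal.Quotient.mk_surjective a
  constructor
  · intro h
    have h1 : Ideal.Quotient.mk (p ⊔ Ideal.span {x}) a = 0 := h
    rw [Ideal.Quotient.eq_zero_iff_mem, Submodule.mem_sup] at h1
    obtain ⟨b, hb, c, hc, hbc⟩ := h1
    obtain ⟨d, rfl⟩ := Ideal.mem_span_singleton'.mp hc
    refine ⟨Ideal.Quotient.mk p d, ?_⟩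
    show x • Ideal.Quotient.mk p d = _
    rw [← hbc, map_add, Ideal.Quotient.eq_zero_iff_mem.mpr hb, zero_add, mul_comm, map_mul]
    rfl
  · rintro ⟨b, hb⟩
    obtain ⟨b, rfl⟩ := Ideal.Quotient.mk_surjective b
    have h2 : Ideal.Quotient.mk p a = Ideal.Quotient.mk p (x * b) := by
      rw [← hb, map_mul]
      rfl
    rw [h2]
    show Ideal.Quotient.mk (p ⊔ Ideal.span {x}) (x * b) = 0
    rw [Ideal.Quotient.eq_zero_iff_mem]
    exact Submodule.mem_sup_right (Ideal.mul_mem_right _ _ (Ideal.mem_span_singleton_self x))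

omit M in
lemma exists_comp_eq_smul {T : ShortComplex (ModuleCat.{u} A)} (hT : T.ShortExact)
    (Y : ModuleCat.{u} A) (i : ℕ) (s : A) (h₃ : ∀ e : Ext T.X₃ Y (i + 1), s • e = 0)
    (e₁ : Ext T.X₁ Y i) : ∃ e₂ : Ext T.X₂ Y i, (Ext.mk₀ T.f).comp e₂ (zero_add i) = s • e₁ := by
  apply Ext.contravariant_sequence_exact₁ hT Y (s • e₁) (add_comm 1 i)
  rw [Ext.comp_smul]
  exact h₃ _

omit M in
lemma mk₀_smul_id_comp (X Y : ModuleCat.{u} A) (i : ℕ) (e : Ext X Y i) :
    (Ext.mk₀ (x • 𝟙 X)).comp e (zero_add i) = x • e := by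
  rw [Ext.mk₀_smul, Ext.smul_comp, Ext.mk₀_id_comp]

/-- If `s` kills `Ext^{i+1}(A/(p+x), M)` then `s • Ext^i(A/p, M) ⊆ x • Ext^i(A/p, M)`. -/
lemma exists_smul_eq_smul [p.IsPrime] (hx : x ∉ p) (i : ℕ) (s : A)
    (hs : ∀ e : Ext (ModuleCat.of A (A ⧸ (p ⊔ Ideal.span {x}))) (ModuleCat.of A M) (i + 1),
      s • e = 0)
    (e : Ext (ModuleCat.of A (A ⧸ p)) (ModuleCat.of A M) i) :
    ∃ e' : Ext (ModuleCat.of A (A ⧸ p)) (ModuleCat.of A M) i, x • e' = s • e := by
  have hT := scOfLinear_shortExact (fx p x) (gx p x) (fx_injective p x hx) (gx_surjective p x)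
    (fx_gx_exact p x)
  obtain ⟨e₂, he₂⟩ := exists_comp_eq_smul hT (ModuleCat.of A M) i s hs e
  refine ⟨e₂, ?_⟩
  refine Eq.trans ?_ he₂
  exact (mk₀_smul_id_comp x (ModuleCat.of A (A ⧸ p)) (ModuleCat.of A M) i e₂).symm

end XSeq

end Groth.Agent.Helper6.Bass
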