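import Mathlib
import Groth.Agent.Helper1.GlobalDim
import Groth.Agent.Helper6.Bass1

/-!
# Bass's lemma: finiteness of injective dimension is detected by `Ext^i(k, M)`
-/

set_option autoImplicit false
universe u

namespace Groth.Agent.Helper6.Bass

open CategoryTheory Abelian Groth.Agent.Helper1.TorLib IsLocalRing

variable {A : Type u} [CommRing A]

omit [CommRing A] in
lemma smul_quot_eq_zero [CommRing A] (J : Ideal A) : ∀ a ∈ J, ∀ n : A ⧸ J, a • n = 0 := by
  intro a ha n
  obtain ⟨b, rfl⟩ := Ideal.Quotient.mk_surjective n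
  show Ideal.Quotient.mk J (a * b) = 0
  rw [Ideal.Quotient.eq_zero_iff_mem]
  exact J.mul_mem_right _ ha

/-- Nakayama for `Ext`. -/
lemma subsingleton_of_smul_surjective [IsLocalRing A] [IsNoetherianRing A]
    (M : Type u) [AddCommGroup M] [Module A M] [Module.Finite A M]
    (N : Type u) [AddCommGroup N] [Module A N] [Module.Finite A N] (i : ℕ) (x : A)
    (hx : x ∈ maximalIdeal A)
    (h : ∀ e : Ext (ModuleCat.of A N) (ModuleCat.of A M) i, ∃ e', x • e' = e) :
    Subsingleton (Ext (ModuleCat.of A N) (ModuleCat.of A M) i) := by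
  haveI := ExtFin.finite_ext (A := A) M i N
  have h1 : (⊤ : Submodule A (Ext (ModuleCat.of A N) (ModuleCat.of A M) i)) ≤
      Ideal.span {x} • ⊤ := by
    intro e _
    obtain ⟨e', rfl⟩ := h e
    exact Submodule.smul_mem_smul (Ideal.mem_span_singleton_self x) Submodule.mem_top
  have h2 : Ideal.span {x} ≤ Ideal.jacobson (⊥ : Ideal A) := by
    rw [IsLocalRing.jacobson_eq_maximalIdeal ⊥ bot_ne_top, Ideal.span_singleton_le_iff_mem]
    exact hx
  have h3 := Submodule.eq_bot_of_le_smul_of_le_jacobson_bot (Ideal.span {x})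
    (⊤ : Submodule A (Ext (ModuleCat.of A N) (ModuleCat.of A M) i)) Module.Finite.fg_top h1 h2
  refine ⟨fun a b => ?_⟩
  have ha : a ∈ (⊤ : Submodule A (Ext (ModuleCat.of A N) (ModuleCat.of A M) i)) :=
    Submodule.mem_top
  have hb : b ∈ (⊤ : Submodule A (Ext (ModuleCat.of A N) (ModuleCat.of A M) i)) :=
    Submodule.mem_top
  rw [h3, Submodule.mem_bot] at ha hb
  rw [ha, hb]

/-- **Bass's lemma**, prime version. -/
theorem bass_prime [IsLocalRing A] [IsNoetherianRing A]
    (M : Type u) [AddCommGroup M] [Module A M] [Module.Finite A M] (N₀ : ℕ)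
    (h : ∀ i, N₀ ≤ i →
      Subsingleton (Ext (ModuleCat.of A (A ⧸ maximalIdeal A)) (ModuleCat.of A M) i)) :
    ∀ p : Ideal A, p.IsPrime → ∀ i, N₀ ≤ i →
      Subsingleton (Ext (ModuleCat.of A (A ⧸ p)) (ModuleCat.of A M) i) := by
  intro p
  induction p using WellFoundedGT.induction with
  | ind p IH =>
    intro hp i hi
    by_cases hpm : p = maximalIdeal A
    · subst hpm
      exact h i hi
    have hlt : p < maximalIdeal A :=
      lt_of_le_of_ne (IsLocalRing.le_maximalIdeal hp.ne_top) hpm
    obtain ⟨x, hxm, hxp⟩ := SetLike.exists_of_lt hlt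
    have hJ : Subsingleton (Ext (ModuleCat.of A (A ⧸ (p ⊔ Ideal.span {x}))) (ModuleCat.of A M)
        (i + 1)) := by
      refine subsingleton_of_primes M (i + 1) (p ⊔ Ideal.span {x}) ?_ _
        (smul_quot_eq_zero _)
      intro q hq hJq
      have hpq : p < q := by
        refine lt_of_le_of_ne (le_trans le_sup_left hJq) ?_
        rintro rfl
        exact hxp (hJq (Submodule.mem_sup_right (Ideal.mem_span_singleton_self x)))
      exact IH q hpq hq (i + 1) (by omega)
    refine subsingleton_of_smul_surjective M (A ⧸ p) i x hxm (fun e => ?_)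
    obtain ⟨e', he'⟩ := exists_smul_eq_smul M p x hxp i 1 (fun e => Subsingleton.elim _ _) e
    exact ⟨e', by rw [he', one_smul]⟩

/-- **Bass's lemma**, all finite modules. -/
theorem bass_finite [IsLocalRing A] [IsNoetherianRing A]
    (M : Type u) [AddCommGroup M] [Module A M] [Module.Finite A M] (N₀ : ℕ)
    (h : ∀ i, N₀ ≤ i →
      Subsingleton (Ext (ModuleCat.of A (A ⧸ maximalIdeal A)) (ModuleCat.of A M) i))
    (N : Type u) [AddCommGroup N] [Module A N] [Module.Finite A N] (i : ℕ) (hi : N₀ ≤ i) :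
    Subsingleton (Ext (ModuleCat.of A N) (ModuleCat.of A M) i) :=
  subsingleton_of_primes M i ⊥ (fun q hq _ => bass_prime M N₀ h q hq i hi) N
    (fun a ha n => by rw [Ideal.mem_bot.mp ha, zero_smul])

/-- change of `HasExt` instance -/
lemma subsingleton_ext_standard (X Y : ModuleCat.{u} A) (n : ℕ) (h : Subsingleton (Ext X Y n)) :
    letI := HasExt.standard (ModuleCat.{u} A); Subsingleton (Ext X Y n) := by
  exact @Equiv.subsingleton _ _ (@Ext.chgUniv (ModuleCat.{u} A) _ _ (HasExt.standard (ModuleCat.{u} A)) inferInstance X Y n) h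

/-- **Bass**: finite injective dimension from vanishing of `Ext^i(k, M)` for `i ≥ N₀ + 1`. -/
theorem hasInjectiveDimensionLT_of_ext_residueField [IsLocalRing A] [IsNoetherianRing A]
    (M : Type u) [AddCommGroup M] [Module A M] [Module.Finite A M] (N₀ : ℕ)
    (h : ∀ i, N₀ + 1 ≤ i →
      Subsingleton (Ext (ModuleCat.of A (A ⧸ maximalIdeal A)) (ModuleCat.of A M) i)) :
    HasInjectiveDimensionLT (ModuleCat.of A M) (N₀ + 1) := by
  refine hasInjectiveDimensionLT_of_quotients N₀ (ModuleCat.of A M) (fun I => ?_)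
  exact subsingleton_ext_standard _ _ _ (bass_finite M (N₀ + 1) h (A ⧸ I) (N₀ + 1) le_rfl)

end Groth.Agent.Helper6.Bass
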