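import Mathlib
import Groth.Agent.Helper6.Bass2

/-!
# Non-vanishing of `Ext` along saturated chains of primes (Bass)
-/

set_option autoImplicit false
universe u

namespace Groth.Agent.Helper6.Bass

open CategoryTheory Abelian Groth.Agent.Helper1.TorLib IsLocalRing

variable {A : Type u} [CommRing A]

/-- an element of `q'` kills `Ext^j(A/q', M)` -/
lemma smul_ext_quot_eq_zero (M : Type u) [AddCommGroup M] [Module A M] (q' : Ideal A) (t : A)
    (ht : t ∈ q') (j : ℕ) (e : Ext (ModuleCat.of A (A ⧸ q')) (ModuleCat.of A M) j) :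
    t • e = 0 := by
  rw [← mk₀_smul_id_comp t]
  have h0 : t • 𝟙 (ModuleCat.of A (A ⧸ q')) = 0 := by
    apply ModuleCat.hom_ext
    apply LinearMap.ext
    intro z
    exact smul_quot_eq_zero q' t ht z
  rw [h0, Ext.mk₀_zero, Ext.zero_comp]

/-- The step lemma: if some `s ∉ q` kills `Ext^{i+1}(A/q, M)` and `p ⋖ q`, then some `s' ∉ q`
kills `Ext^i(A/p, M)`. -/
theorem killedBy_step [IsNoetherianRing A] (M : Type u) [AddCommGroup M] [Module A M]
    [Module.Finite A M] (p q : Ideal A) [hp : p.IsPrime] [hq : q.IsPrime] (hpq : p < q)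
    (hcov : ∀ q' : Ideal A, q'.IsPrime → p < q' → q' ≤ q → q' = q) (i : ℕ)
    (h : KilledBy q.primeCompl (A ⧸ q) M (i + 1)) : KilledBy q.primeCompl (A ⧸ p) M i := by
  obtain ⟨x, hxq, hxp⟩ := SetLike.exists_of_lt hpq
  have hJ : KilledBy q.primeCompl (A ⧸ (p ⊔ Ideal.span {x})) M (i + 1) := by
    refine killedBy_of_primes q.primeCompl M (i + 1) (p ⊔ Ideal.span {x}) ?_ _
      (smul_quot_eq_zero _)
    intro q' hq' hJq'
    have hpq' : p < q' := by
      refine lt_of_le_of_ne (le_trans le_sup_left hJq') ?_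
      rintro rfl
      exact hxp (hJq' (Submodule.mem_sup_right (Ideal.mem_span_singleton_self x)))
    by_cases hle : q' ≤ q
    · have := hcov q' hq' hpq' hle
      subst this
      exact h
    · obtain ⟨t, htq', htq⟩ := SetLike.not_le_iff_exists.mp hle
      exact ⟨t, htq, fun e => smul_ext_quot_eq_zero M q' t htq' (i + 1) e⟩
  obtain ⟨s, hs, hk⟩ := hJ
  set E := Ext (ModuleCat.of A (A ⧸ p)) (ModuleCat.of A M) i with hE
  haveI : Module.Finite A E := ExtFin.finite_ext (A := A) M i (A ⧸ p)
  by_contra hcon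
  have hann : Module.annihilator A E ≤ q := by
    intro a ha
    by_contra haq
    exact hcon ⟨a, haq, fun e => Module.mem_annihilator.mp ha e⟩
  have hsupp : (⟨q, hq⟩ : PrimeSpectrum A) ∈ Module.support A E := by
    rw [Module.mem_support_iff_of_finite]
    exact hann
  rw [Module.mem_support_iff] at hsupp
  have h1 : (⊤ : Submodule (Localization.AtPrime q) (LocalizedModule q.primeCompl E)) ≤
      maximalIdeal (Localization.AtPrime q) • ⊤ := by
    intro y _
    induction y using LocalizedModule.induction_on with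
    | h e t =>
      obtain ⟨e', he'⟩ := exists_smul_eq_smul M p x hxp i s hk e
      have h2 : LocalizedModule.mk e t =
          (algebraMap A (Localization.AtPrime q) x * Localization.mk 1 ⟨s, hs⟩) •
            LocalizedModule.mk e' t := by
        rw [← Localization.mk_one_eq_algebraMap, Localization.mk_mul, LocalizedModule.mk_smul_mk,
          mul_one, one_mul, he']
        exact (LocalizedModule.mk_cancel_common_left ⟨s, hs⟩ t e).symm
      rw [h2]
      refine Submodule.smul_mem_smul (Ideal.mul_mem_right _ _ ?_) Submodule.mem_top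
      rw [IsLocalization.AtPrime.to_map_mem_maximal_iff (Localization.AtPrime q) q]
      exact hxq
  have h3 := Submodule.eq_bot_of_le_smul_of_le_jacobson_bot
    (maximalIdeal (Localization.AtPrime q))
    (⊤ : Submodule (Localization.AtPrime q) (LocalizedModule q.primeCompl E))
    Module.Finite.fg_top h1
    (by rw [IsLocalRing.jacobson_eq_maximalIdeal ⊥ bot_ne_top])
  obtain ⟨a, b, hab⟩ := hsupp
  have ha : a ∈ (⊤ : Submodule (Localization.AtPrime q) (LocalizedModule q.primeCompl E)) :=
    Submodule.mem_top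
  have hb : b ∈ (⊤ : Submodule (Localization.AtPrime q) (LocalizedModule q.primeCompl E)) :=
    Submodule.mem_top
  rw [h3, Submodule.mem_bot] at ha hb
  exact hab (ha.trans hb.symm)


/-- `p` lies in the support of `Ext^i(A/p, M)`. -/
def NK (M : Type u) [AddCommGroup M] [Module A M] (i : ℕ) (p : Ideal A) [p.IsPrime] : Prop :=
  ¬ KilledBy p.primeCompl (A ⧸ p) M i

lemma nk_step [IsNoetherianRing A] (M : Type u) [AddCommGroup M] [Module A M]
    [Module.Finite A M] (p q : Ideal A) [hp : p.IsPrime] [hq : q.IsPrime] (hpq : p < q)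
    (hcov : ∀ q' : Ideal A, q'.IsPrime → p < q' → q' ≤ q → q' = q) (i : ℕ)
    (h : NK M i p) : NK M (i + 1) q := by
  intro hk
  obtain ⟨s, hs, hk'⟩ := killedBy_step M p q hpq hcov i hk
  exact h ⟨s, fun hsp => hs (hpq.le hsp), hk'⟩

lemma nk_zero_of_mem_ass [IsNoetherianRing A] (M : Type u) [AddCommGroup M] [Module A M]
    (p : Ideal A) [p.IsPrime] (h : p ∈ associatedPrimes A M) : NK M 0 p := by
  obtain ⟨-, m₀, hm₀⟩ := isAssociatedPrime_iff.mp h
  have hker : p ≤ LinearMap.ker (LinearMap.toSpanSingleton A M m₀) := by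
    intro a ha
    rw [hm₀, Submodule.mem_colon_singleton, Submodule.mem_bot] at ha
    rw [LinearMap.mem_ker, LinearMap.toSpanSingleton_apply]
    exact ha
  let φ : A ⧸ p →ₗ[A] M := Submodule.liftQ p (LinearMap.toSpanSingleton A M m₀) hker
  rintro ⟨s, hs, hk⟩
  have h1 := hk (Ext.mk₀ (ModuleCat.ofHom φ))
  rw [← Ext.mk₀_smul] at h1
  have h2 : s • ModuleCat.ofHom φ = 0 := by
    apply (Ext.mk₀_bijective _ _).1
    rw [h1, Ext.mk₀_zero]
  have h3 : (s • ModuleCat.ofHom φ).hom (Ideal.Quotient.mk p 1) = 0 := by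
    rw [h2]
    rfl
  have h4 : s • m₀ = 0 := by
    have : (s • ModuleCat.ofHom φ).hom (Ideal.Quotient.mk p 1) = s • (1 : A) • m₀ := rfl
    rw [this, one_smul] at h3
    exact h3
  apply hs
  have h5 : s ∈ (⊥ : Submodule A M).colon {m₀} := by
    rw [Submodule.mem_colon_singleton, Submodule.mem_bot]
    exact h4
  rw [hm₀]
  exact h5

/-- Along a chain of primes realizing the height, `Ext` does not vanish. -/
theorem exists_nk_of_height [IsNoetherianRing A] :
    ∀ (h : ℕ) (p : Ideal A) [p.IsPrime], p.height = h → ∃ i, h ≤ i ∧ NK A i p := by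
  intro h
  induction h with
  | zero =>
    intro p hp hh
    refine ⟨0, le_rfl, nk_zero_of_mem_ass A p ?_⟩
    have h1 : p ∈ minimalPrimes A := Ideal.height_eq_zero_iff.mp (by exact_mod_cast hh)
    apply Module.associatedPrimes.minimalPrimes_annihilator_subset_associatedPrimes A A
    have h2 : Module.annihilator A A = ⊥ := by
      rw [eq_bot_iff]
      intro a ha
      have := Module.mem_annihilator.mp ha 1
      rw [smul_eq_mul, mul_one] at this
      rw [this]
      exact Ideal.zero_mem _
    rw [h2]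
    exact h1
  | succ h ih =>
    intro p hp hh
    have hh' : Order.height (⟨p, hp⟩ : PrimeSpectrum A) = (h : ℕ∞) + 1 := by
      rw [← PrimeSpectrum.height_eq_orderHeight]
      rw [hh]
      push_cast
      rfl
    obtain ⟨-, ⟨P', hP'lt, hP'h⟩, hall⟩ := Order.height_eq_coe_add_one_iff.mp hh'
    haveI := P'.2
    have hlt : P'.asIdeal < p := hP'lt
    have hP'h' : P'.asIdeal.height = h := by
      rw [PrimeSpectrum.height_eq_orderHeight]
      exact hP'h
    obtain ⟨i, hi, hnk⟩ := ih P'.asIdeal hP'h'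
    refine ⟨i + 1, by omega, nk_step A P'.asIdeal p hlt ?_ i hnk⟩
    intro q' hq' h1 h2
    by_contra hne
    have h3 : (⟨q', hq'⟩ : PrimeSpectrum A) < ⟨p, hp⟩ :=
      lt_of_le_of_ne h2 (fun he => hne (congrArg PrimeSpectrum.asIdeal he))
    have h4 := hall _ h3
    have h5 : P' < (⟨q', hq'⟩ : PrimeSpectrum A) := h1
    have h6 := Order.height_add_one_le h5
    rw [hP'h] at h6
    have h7 : ((h : ℕ∞) + 1) ≤ h := h6.trans h4
    have h8 : ((h + 1 : ℕ) : ℕ∞) ≤ (h : ℕ) := by exact_mod_cast h7
    have h9 : h + 1 ≤ h := by exact_mod_cast h8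
    omega

end Groth.Agent.Helper6.Bass
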