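import Mathlib
import Groth.Prelude.Def_CAlg
import Groth.Agent.Helper6.Bass3
import Groth.Agent.Helper1.RegGlobalDim
import Groth.Agent.Helper2.DepthCM4

/-!
# Gorenstein local rings are Cohen–Macaulay
-/

set_option autoImplicit false
universe u

namespace Groth.Agent.Helper6.Bass

open CategoryTheory Abelian Groth.Agent.Helper1.TorLib IsLocalRing RingTheory.Sequence

variable {A : Type u} [CommRing A]

/-- right exactness of `Ext^r(-, Y)` when `Ext^{r+1}` vanishes on the cokernel -/
lemma subsingleton_ext_X₁_of {T : ShortComplex (ModuleCat.{u} A)} (hT : T.ShortExact)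
    (Y : ModuleCat.{u} A) (r : ℕ) (h₂ : Subsingleton (Ext T.X₂ Y r))
    (h₃ : Subsingleton (Ext T.X₃ Y (r + 1))) : Subsingleton (Ext T.X₁ Y r) := by
  refine ⟨fun a b => ?_⟩
  have key : ∀ x : Ext T.X₁ Y r, x = 0 := by
    intro x
    obtain ⟨x₂, rfl⟩ := Ext.contravariant_sequence_exact₁ hT Y x (add_comm 1 r)
      (Subsingleton.elim _ _)
    rw [Subsingleton.elim x₂ 0, Ext.comp_zero]
  rw [key a, key b]

/-- If `Ext^j(N, A) = 0` for all finite `N` and `j > r` but `Ext^r(k, A) ≠ 0`, then
`r ≤ depth A`. -/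
theorem le_depth_of_ext [IsLocalRing A] [IsNoetherianRing A] (r : ℕ)
    (hvan : ∀ (N : Type u) [AddCommGroup N] [Module A N] [Module.Finite A N],
      Subsingleton (Ext (ModuleCat.of A N) (ModuleCat.of A A) (r + 1)))
    (hr : ¬ Subsingleton (Ext (ModuleCat.of A (A ⧸ maximalIdeal A)) (ModuleCat.of A A) r)) :
    (r : ℕ∞) ≤ LocCoh.depth A A := by
  have hIM : maximalIdeal A • (⊤ : Submodule A A) ≠ ⊤ :=
    Groth.Agent.Helper2.Depth.smul_top_ne_top A A
  obtain ⟨rs, hreg, hmem, hmax, hlen⟩ :=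
    Groth.Agent.Helper2.DepthCM.exists_length_eq_idealDepth (maximalIdeal A) A hIM
  unfold LocCoh.depth
  rw [← hlen]
  by_contra hcon
  have hlt : rs.length < r := by
    have : ¬ (r ≤ rs.length) := fun h => hcon (by exact_mod_cast h)
    omega
  set I := Ideal.ofList rs with hI
  have heq : (I • ⊤ : Submodule A A) = I := by rw [smul_eq_mul, Ideal.mul_top]
  -- every element of the maximal ideal is a zero divisor on `A/I`
  have hzd : ∀ x ∈ maximalIdeal A, ¬ IsSMulRegular (A ⧸ I) x := by
    intro x hx hxreg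
    apply hmax x hx
    rw [isWeaklyRegular_append_iff]
    refine ⟨hreg, (isWeaklyRegular_singleton_iff _ x).2 ?_⟩
    exact ((Submodule.quotEquivOfEq _ _ heq).isSMulRegular_congr x).mpr hxreg
  have hass := Groth.Agent.Helper2.Ass.maximalIdeal_mem_ass_of_forall_not_regular A (A ⧸ I) hzd
  obtain ⟨-, b, hb⟩ := isAssociatedPrime_iff.mp hass
  have hker : maximalIdeal A ≤ LinearMap.ker (LinearMap.toSpanSingleton A (A ⧸ I) b) := by
    intro a ha
    rw [hb, Submodule.mem_colon_singleton, Submodule.mem_bot] at ha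
    rw [LinearMap.mem_ker, LinearMap.toSpanSingleton_apply]
    exact ha
  have hker' : LinearMap.ker (LinearMap.toSpanSingleton A (A ⧸ I) b) ≤ maximalIdeal A := by
    intro a ha
    rw [LinearMap.mem_ker, LinearMap.toSpanSingleton_apply] at ha
    have h5 : a ∈ (⊥ : Submodule A (A ⧸ I)).colon {b} := by
      rw [Submodule.mem_colon_singleton, Submodule.mem_bot]
      exact ha
    rw [hb]
    exact h5
  let ψ : A ⧸ maximalIdeal A →ₗ[A] A ⧸ I :=
    Submodule.liftQ (maximalIdeal A) (LinearMap.toSpanSingleton A (A ⧸ I) b) hker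
  have hψ : Function.Injective ψ := by
    rw [← LinearMap.ker_eq_bot]
    exact Submodule.ker_liftQ_eq_bot _ _ _ hker'
  have hT := scOfLinear_shortExact ψ (LinearMap.range ψ).mkQ hψ (Submodule.mkQ_surjective _)
    (LinearMap.exact_map_mkQ_range ψ)
  -- vanishing of `Ext^r(A/I, A)`
  have hpd := hasProjectiveDimensionLT_quotient_ofList rs hreg
  have h₂ : Subsingleton (Ext (ModuleCat.of A (A ⧸ I)) (ModuleCat.of A A) r) :=
    HasProjectiveDimensionLT.subsingleton (ModuleCat.of A (A ⧸ I)) (rs.length + 1) r (by omega) _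
  have h₃ : Subsingleton (Ext (ModuleCat.of A ((A ⧸ I) ⧸ LinearMap.range ψ))
      (ModuleCat.of A A) (r + 1)) := hvan _
  exact hr (subsingleton_ext_X₁_of hT (ModuleCat.of A A) r h₂ h₃)

/-- **Gorenstein local rings are Cohen–Macaulay.** -/
theorem cm_of_gorenstein [LocCoh.IsGorensteinLocalRing A] : LocCoh.IsCohenMacaulayLocalRing A := by
  classical
  obtain ⟨n, hn⟩ := LocCoh.IsGorensteinLocalRing.exists_hasInjectiveDimensionLT (A := A)
  have hfin : (maximalIdeal A).height ≠ ⊤ := Ideal.height_ne_top (Ideal.IsPrime.ne_top inferInstance)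
  obtain ⟨d, hd⟩ := ENat.ne_top_iff_exists.mp hfin
  have hdim : ringKrullDim A = ((d : ℕ∞) : WithBot ℕ∞) := by
    rw [← IsLocalRing.maximalIdeal_height_eq_ringKrullDim, ← hd]
  obtain ⟨i, hdi, hnk⟩ := exists_nk_of_height (A := A) d (maximalIdeal A) hd.symm
  let P : ℕ → Prop := fun j =>
    ¬ Subsingleton (Ext (ModuleCat.of A (A ⧸ maximalIdeal A)) (ModuleCat.of A A) j)
  have hPn : ∀ j, n ≤ j → ¬ P j := by
    intro j hj hP
    exact hP (HasInjectiveDimensionLT.subsingleton (ModuleCat.of A A) n j hj _)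
  have hPi : P i := by
    intro hsub
    exact hnk ⟨1, (maximalIdeal A).primeCompl.one_mem, fun e => Subsingleton.elim _ _⟩
  have hin : i ≤ n := by
    by_contra h
    exact hPn i (by omega) hPi
  set r := Nat.findGreatest P n with hr
  have hPr : P r := Nat.findGreatest_spec hin hPi
  have hir : i ≤ r := Nat.le_findGreatest hin hPi
  have hvan0 : ∀ j, r + 1 ≤ j →
      Subsingleton (Ext (ModuleCat.of A (A ⧸ maximalIdeal A)) (ModuleCat.of A A) j) := by
    intro j hj
    by_contra hP
    by_cases hjn : j ≤ n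
    · exact Nat.findGreatest_is_greatest (P := P) (n := n) (k := j) (by omega) hjn hP
    · exact hPn j (by omega) hP
  have hvan : ∀ (N : Type u) [AddCommGroup N] [Module A N] [Module.Finite A N],
      Subsingleton (Ext (ModuleCat.of A N) (ModuleCat.of A A) (r + 1)) := by
    intro N _ _ _
    exact bass_finite A (r + 1) hvan0 N (r + 1) le_rfl
  have hdepth := le_depth_of_ext r hvan hPr
  have h1 : ((d : ℕ∞) : WithBot ℕ∞) ≤ ((LocCoh.depth A A : ℕ∞) : WithBot ℕ∞) := by
    rw [WithBot.coe_le_coe]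
    refine le_trans ?_ hdepth
    exact_mod_cast hdi.trans hir
  have h2 := Groth.Agent.Helper2.DepthCM4.depth_le_supportDim (A := A) A
  rw [Module.supportDim_self_eq_ringKrullDim, hdim] at h2
  refine { supportDim_eq_depth := ?_ }
  rw [Module.supportDim_self_eq_ringKrullDim, hdim]
  exact le_antisymm h1 h2

end Groth.Agent.Helper6.Bass
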