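import Mathlib
import Groth.Prelude.Def_CAlg
import Groth.Agent.Helper6.Bass4

/-!
# Top `Ext` over Gorenstein local rings; depth zero criterion
-/

set_option autoImplicit false
universe u

namespace Groth.Agent.Helper6.Bass

open CategoryTheory Abelian Groth.Agent.Helper1.TorLib IsLocalRing RingTheory.Sequence

variable {A : Type u} [CommRing A]

/-- For a Gorenstein local ring of dimension `n`: `Ext^n(k, A) ≠ 0` and `Ext^j(N, A) = 0` for
`j > n` and finite `N`. -/
theorem gorenstein_top [LocCoh.IsGorensteinLocalRing A] (n : ℕ) (hn : ringKrullDim A = n) :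
    (¬ Subsingleton (Ext (ModuleCat.of A (A ⧸ maximalIdeal A)) (ModuleCat.of A A) n)) ∧
    (∀ (N : Type u) [AddCommGroup N] [Module A N] [Module.Finite A N] (j : ℕ), n + 1 ≤ j →
      Subsingleton (Ext (ModuleCat.of A N) (ModuleCat.of A A) j)) := by
  classical
  obtain ⟨n', hn'⟩ := LocCoh.IsGorensteinLocalRing.exists_hasInjectiveDimensionLT (A := A)
  have hfin : (maximalIdeal A).height ≠ ⊤ := Ideal.height_ne_top (Ideal.IsPrime.ne_top inferInstance)
  obtain ⟨d, hd⟩ := ENat.ne_top_iff_exists.mp hfin
  have hdim : ringKrullDim A = ((d : ℕ∞) : WithBot ℕ∞) := by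
    rw [← IsLocalRing.maximalIdeal_height_eq_ringKrullDim, ← hd]
  have hdn : d = n := by
    rw [hdim] at hn
    have : ((d : ℕ∞) : WithBot ℕ∞) = ((n : ℕ∞) : WithBot ℕ∞) := hn
    exact_mod_cast this
  obtain ⟨i, hdi, hnk⟩ := exists_nk_of_height (A := A) d (maximalIdeal A) hd.symm
  let P : ℕ → Prop := fun j =>
    ¬ Subsingleton (Ext (ModuleCat.of A (A ⧸ maximalIdeal A)) (ModuleCat.of A A) j)
  have hPn : ∀ j, n' ≤ j → ¬ P j := by
    intro j hj hP
    exact hP (HasInjectiveDimensionLT.subsingleton (ModuleCat.of A A) n' j hj _)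
  have hPi : P i := by
    intro hsub
    exact hnk ⟨1, (maximalIdeal A).primeCompl.one_mem, fun e => Subsingleton.elim _ _⟩
  have hin : i ≤ n' := by
    by_contra h
    exact hPn i (by omega) hPi
  set r := Nat.findGreatest P n' with hr
  have hPr : P r := Nat.findGreatest_spec hin hPi
  have hir : i ≤ r := Nat.le_findGreatest hin hPi
  have hvan0 : ∀ j, r + 1 ≤ j →
      Subsingleton (Ext (ModuleCat.of A (A ⧸ maximalIdeal A)) (ModuleCat.of A A) j) := by
    intro j hj
    by_contra hP
    by_cases hjn : j ≤ n'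
    · exact Nat.findGreatest_is_greatest (P := P) (n := n') (k := j) (by omega) hjn hP
    · exact hPn j (by omega) hP
  have hvan : ∀ (N : Type u) [AddCommGroup N] [Module A N] [Module.Finite A N],
      Subsingleton (Ext (ModuleCat.of A N) (ModuleCat.of A A) (r + 1)) := by
    intro N _ _ _
    exact bass_finite A (r + 1) hvan0 N (r + 1) le_rfl
  have hdepth := le_depth_of_ext r hvan hPr
  have h2 := Groth.Agent.Helper2.DepthCM4.depth_le_supportDim (A := A) A
  rw [Module.supportDim_self_eq_ringKrullDim, hdim, WithBot.coe_le_coe] at h2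
  have hrd : r ≤ d := by
    have := hdepth.trans h2
    exact_mod_cast this
  have hrn : r = n := by omega
  rw [← hrn]
  refine ⟨hPr, fun N _ _ _ j hj => bass_finite A (r + 1) hvan0 N j hj⟩

/-- If `m ∈ Ass M` then the residue field embeds into `M`. -/
lemma exists_injective_of_mem_ass [IsLocalRing A] [IsNoetherianRing A] (M : Type u)
    [AddCommGroup M] [Module A M] (h : maximalIdeal A ∈ associatedPrimes A M) :
    ∃ ψ : A ⧸ maximalIdeal A →ₗ[A] M, Function.Injective ψ := by
  obtain ⟨-, b, hb⟩ := isAssociatedPrime_iff.mp h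
  have hker : maximalIdeal A ≤ LinearMap.ker (LinearMap.toSpanSingleton A M b) := by
    intro a ha
    rw [hb, Submodule.mem_colon_singleton, Submodule.mem_bot] at ha
    rw [LinearMap.mem_ker, LinearMap.toSpanSingleton_apply]
    exact ha
  have hker' : LinearMap.ker (LinearMap.toSpanSingleton A M b) ≤ maximalIdeal A := by
    intro a ha
    rw [LinearMap.mem_ker, LinearMap.toSpanSingleton_apply] at ha
    have h5 : a ∈ (⊥ : Submodule A M).colon {b} := by
      rw [Submodule.mem_colon_singleton, Submodule.mem_bot]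
      exact ha
    rw [hb]
    exact h5
  refine ⟨Submodule.liftQ (maximalIdeal A) (LinearMap.toSpanSingleton A M b) hker, ?_⟩
  rw [← LinearMap.ker_eq_bot]
  exact Submodule.ker_liftQ_eq_bot _ _ _ hker'

/-- Over a Gorenstein local ring of dimension `n`: `depth M > 0 ↔ Ext^n(M, A) = 0`. -/
theorem depth_pos_iff [LocCoh.IsGorensteinLocalRing A] (n : ℕ) (hn : ringKrullDim A = n)
    (M : Type u) [AddCommGroup M] [Module A M] [Module.Finite A M] [Nontrivial M] :
    0 < LocCoh.depth A M ↔ Subsingleton (Ext (ModuleCat.of A M) (ModuleCat.of A A) n) := by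
  obtain ⟨htop, hvan⟩ := gorenstein_top n hn
  constructor
  · intro hpos
    have h1 : ¬ ∀ x ∈ maximalIdeal A, ¬ IsSMulRegular M x := by
      rw [← Groth.Agent.Helper2.Depth.depth_eq_zero_iff]
      exact hpos.ne'
    push Not at h1
    obtain ⟨x, hxm, hxreg⟩ := h1
    -- the sequence `0 → M → M → M/xM → 0`
    let f : M →ₗ[A] M := x • LinearMap.id
    have hf : Function.Injective f := hxreg
    have hT := scOfLinear_shortExact f (LinearMap.range f).mkQ hf (Submodule.mkQ_surjective _)
      (LinearMap.exact_map_mkQ_range f)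
    refine subsingleton_of_smul_surjective A M n x hxm (fun e => ?_)
    have h3 : ∀ e₃ : Ext (ModuleCat.of A (M ⧸ LinearMap.range f)) (ModuleCat.of A A) (n + 1),
        (1 : A) • e₃ = 0 := by
      intro e₃
      haveI := hvan (M ⧸ LinearMap.range f) (n + 1) le_rfl
      exact Subsingleton.elim _ _
    obtain ⟨e₂, he₂⟩ := exists_comp_eq_smul hT (ModuleCat.of A A) n 1 h3 e
    refine ⟨e₂, ?_⟩
    have he₂' : (Ext.mk₀ (x • 𝟙 (ModuleCat.of A M))).comp e₂ (zero_add n) = e :=
      he₂.trans (one_smul A e)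
    refine Eq.trans ?_ he₂'
    exact (mk₀_smul_id_comp x (ModuleCat.of A M) (ModuleCat.of A A) n e₂).symm
  · intro hsub
    by_contra hpos
    have h0 : LocCoh.depth A M = 0 := by
      rcases eq_or_ne (LocCoh.depth A M) 0 with h | h
      · exact h
      · exact absurd (pos_iff_ne_zero.mpr h) hpos
    rw [Groth.Agent.Helper2.Depth.depth_eq_zero_iff] at h0
    have hass := Groth.Agent.Helper2.Ass.maximalIdeal_mem_ass_of_forall_not_regular A M h0
    obtain ⟨ψ, hψ⟩ := exists_injective_of_mem_ass M hass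
    have hT := scOfLinear_shortExact ψ (LinearMap.range ψ).mkQ hψ (Submodule.mkQ_surjective _)
      (LinearMap.exact_map_mkQ_range ψ)
    have h₃ : Subsingleton (Ext (ModuleCat.of A (M ⧸ LinearMap.range ψ))
        (ModuleCat.of A A) (n + 1)) := hvan _ (n + 1) le_rfl
    exact htop (subsingleton_ext_X₁_of hT (ModuleCat.of A A) n hsub h₃)

end Groth.Agent.Helper6.Bass
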