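import Mathlib
import Groth.Agent.S0543
import Groth.Agent.Helper1.FlatSpanFinrank

/-! `I`-adic completion of a Noetherian local ring (`I ≠ ⊤`): local, same dimension, regular iff. -/

set_option autoImplicit false
universe u

namespace Groth.Agent.Helper6.ComplDim

open IsLocalRing

variable (A : Type u) [CommRing A] [IsLocalRing A] [IsNoetherianRing A] (I : Ideal A)

instance instNoeth : IsNoetherianRing (AdicCompletion I A) :=
  Groth.Agent.S0543.result A I

/-- every maximal ideal of the completion is the extension of the maximal ideal -/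
theorem eq_map_of_isMaximal (hI : I ≠ ⊤) (M : Ideal (AdicCompletion I A)) (hM : M.IsMaximal) :
    M = (maximalIdeal A).map (algebraMap A (AdicCompletion I A)) := by
  have hIm : I ≤ maximalIdeal A := le_maximalIdeal hI
  have fg : I.FG := I.fg_of_isNoetherianRing
  haveI hmax := AdicCompletion.isMaximal_map_of_le I (maximalIdeal A) hIm fg
  haveI := AdicCompletion.isAdicComplete_self I fg
  have h1 : I.map (algebraMap A (AdicCompletion I A)) ≤ M :=
    (IsAdicComplete.le_jacobson_bot _).trans (sInf_le ⟨bot_le, hM⟩)
  have h2 : I.map (algebraMap A (AdicCompletion I A)) ≤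
      (maximalIdeal A).map (algebraMap A (AdicCompletion I A)) := Ideal.map_mono hIm
  set ev := (AdicCompletion.evalOneₐ I).toRingHom with hev
  have hsurj : Function.Surjective ev := AdicCompletion.evalOneₐ_surjective I
  have hker : RingHom.ker ev = I.map (algebraMap A (AdicCompletion I A)) :=
    AdicCompletion.ker_evalOneₐ_eq_map I fg
  haveI : Nontrivial (A ⧸ I) := Ideal.Quotient.nontrivial_iff.mpr hI
  haveI : IsLocalRing (A ⧸ I) :=
    IsLocalRing.of_surjective' (Ideal.Quotient.mk I) Ideal.Quotient.mk_surjective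
  have hM' : (M.map ev).IsMaximal :=
    Ideal.IsMaximal.map_of_surjective_of_ker_le hsurj (hker ▸ h1)
  have hm' : (((maximalIdeal A).map (algebraMap A (AdicCompletion I A))).map ev).IsMaximal :=
    Ideal.IsMaximal.map_of_surjective_of_ker_le hsurj (hker ▸ h2)
  have heq : M.map ev = ((maximalIdeal A).map (algebraMap A (AdicCompletion I A))).map ev :=
    (eq_maximalIdeal hM').trans (eq_maximalIdeal hm').symm
  have e1 := Ideal.comap_map_of_surjective' ev hsurj M
  have e2 := Ideal.comap_map_of_surjective' ev hsurj
    ((maximalIdeal A).map (algebraMap A (AdicCompletion I A)))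
  rw [hker, sup_eq_left.mpr h1] at e1
  rw [hker, sup_eq_left.mpr h2] at e2
  rw [← e1, ← e2, heq]

theorem isLocalRing_adicCompletion (hI : I ≠ ⊤) : IsLocalRing (AdicCompletion I A) := by
  have hIm : I ≤ maximalIdeal A := le_maximalIdeal hI
  have fg : I.FG := I.fg_of_isNoetherianRing
  have hmax := AdicCompletion.isMaximal_map_of_le I (maximalIdeal A) hIm fg
  exact IsLocalRing.of_unique_max_ideal ⟨_, hmax, fun M hM => eq_map_of_isMaximal A I hI M hM⟩

theorem maximalIdeal_eq_map (hI : I ≠ ⊤) :
    haveI := isLocalRing_adicCompletion A I hI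
    maximalIdeal (AdicCompletion I A) = (maximalIdeal A).map (algebraMap A (AdicCompletion I A)) := by
  haveI := isLocalRing_adicCompletion A I hI
  exact eq_map_of_isMaximal A I hI _ (maximalIdeal.isMaximal _)

theorem isLocalHom_algebraMap (hI : I ≠ ⊤) :
    haveI := isLocalRing_adicCompletion A I hI
    IsLocalHom (algebraMap A (AdicCompletion I A)) := by
  haveI := isLocalRing_adicCompletion A I hI
  apply ((IsLocalRing.local_hom_TFAE _).out 0 2).mpr
  rw [maximalIdeal_eq_map A I hI]

theorem le_dim (hI : I ≠ ⊤) : ringKrullDim A ≤ ringKrullDim (AdicCompletion I A) := by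
  haveI := isLocalRing_adicCompletion A I hI
  haveI := isLocalHom_algebraMap A I hI
  haveI : Module.FaithfullyFlat A (AdicCompletion I A) :=
    Module.FaithfullyFlat.of_flat_of_isLocalHom
  unfold ringKrullDim Order.krullDim
  apply iSup_le
  intro l
  obtain ⟨P, hP⟩ := PrimeSpectrum.comap_surjective_of_faithfullyFlat
    (B := AdicCompletion I A) l.last
  haveI : P.asIdeal.LiesOver l.last.asIdeal := ⟨by rw [← hP]; rfl⟩
  obtain ⟨L, hlen, -, -⟩ := Ideal.exists_ltSeries_of_hasGoingDown l P.asIdeal
  rw [← hlen]
  exact Order.LTSeries.length_le_krullDim L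

theorem dim_le (hI : I ≠ ⊤) : ringKrullDim (AdicCompletion I A) ≤ ringKrullDim A := by
  classical
  haveI := isLocalRing_adicCompletion A I hI
  obtain ⟨s, hs, hcard⟩ :=
    Ideal.exists_finset_card_eq_height_of_isNoetherianRing (maximalIdeal A)
  have hrad : maximalIdeal A ≤ (Ideal.span (s : Set A)).radical := by
    rw [Ideal.radical_eq_sInf]
    apply le_sInf
    rintro p ⟨hJp, hp⟩
    exact hs.2 ⟨hp, hJp⟩ (le_maximalIdeal hp.ne_top)
  obtain ⟨N, hN⟩ := Ideal.exists_pow_le_of_le_radical_of_fg hrad
    (maximalIdeal A).fg_of_isNoetherianRing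
  set f := algebraMap A (AdicCompletion I A) with hf
  have hmax : maximalIdeal (AdicCompletion I A) = (maximalIdeal A).map f :=
    maximalIdeal_eq_map A I hI
  have hmem : maximalIdeal (AdicCompletion I A) ∈
      (Ideal.span ((s.image f : Finset _) : Set (AdicCompletion I A))).minimalPrimes := by
    have hJ : Ideal.span ((s.image f : Finset _) :
        Set (AdicCompletion I A)) = (Ideal.span (s : Set A)).map f := by
      rw [Ideal.map_span, Finset.coe_image]
    rw [hJ]
    refine ⟨⟨inferInstance, ?_⟩, ?_⟩
    · rw [hmax]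
      exact Ideal.map_mono hs.1.2
    · rintro q ⟨hq, hJq⟩ _
      have h1 : (maximalIdeal (AdicCompletion I A)) ^ N ≤ q := by
        rw [hmax, ← Ideal.map_pow]
        exact (Ideal.map_mono hN).trans hJq
      exact hq.le_of_pow_le h1
  have h1 := Ideal.height_le_card_of_mem_minimalPrimes_span_finset hmem
  have h2 : ((s.image f).card : ℕ∞) ≤ s.card := by exact_mod_cast Finset.card_image_le
  rw [← IsLocalRing.maximalIdeal_height_eq_ringKrullDim,
    ← IsLocalRing.maximalIdeal_height_eq_ringKrullDim, ← hcard]
  exact_mod_cast h1.trans h2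

theorem main_S19474 (hI : I ≠ ⊤) :
    ringKrullDim (AdicCompletion I A) = ringKrullDim A ∧
      (IsRegularLocalRing A ↔ IsRegularLocalRing (AdicCompletion I A)) := by
  have hdim : ringKrullDim (AdicCompletion I A) = ringKrullDim A :=
    le_antisymm (dim_le A I hI) (le_dim A I hI)
  refine ⟨hdim, ?_⟩
  haveI := isLocalRing_adicCompletion A I hI
  rw [isRegularLocalRing_iff, isRegularLocalRing_iff,
    Groth.Agent.Helper1.FlatSpanFinrank.spanFinrank_eq (maximalIdeal_eq_map A I hI).symm, hdim]

end Groth.Agent.Helper6.ComplDim
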