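import Mathlib
import Groth.Prelude.Def_Wider

/-!
# The action of the adic completion on a power torsion module
-/

set_option autoImplicit false
universe u

namespace Groth.Agent.Helper6.Matlis

open AdicCompletion

variable {R : Type u} [CommRing R] (I : Ideal R) {E : Type u} [AddCommGroup E] [Module R E]

/-- `I ^ n` kills `x`. -/
def Kills (n : ℕ) (x : E) : Prop := ∀ a ∈ I ^ n, a • x = 0

variable {I}

lemma Kills.mono {n k : ℕ} {x : E} (h : Kills I k x) (hkn : k ≤ n) : Kills I n x :=
  fun a ha => h a (Ideal.pow_le_pow_right hkn ha)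

lemma Kills.add {n : ℕ} {x y : E} (hx : Kills I n x) (hy : Kills I n y) : Kills I n (x + y) :=
  fun a ha => by rw [smul_add, hx a ha, hy a ha, add_zero]

lemma Kills.smul {n : ℕ} {x : E} (hx : Kills I n x) (c : R) : Kills I n (c • x) :=
  fun a ha => by rw [smul_comm, hx a ha, smul_zero]

lemma cauchy_sub_mem (a : AdicCauchySequence I R) {k n : ℕ} (hkn : k ≤ n) :
    a n - a k ∈ I ^ k := by
  have h := a.2 hkn
  rw [SModEq.sub_mem] at h
  have h2 : (I ^ k • ⊤ : Submodule R R) = I ^ k := by rw [smul_eq_mul, Ideal.mul_top]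
  rw [h2] at h
  have := (I ^ k).neg_mem h
  rwa [neg_sub] at this

lemma cauchy_smul_eq (a : AdicCauchySequence I R) {x : E} {k n : ℕ} (hk : Kills I k x)
    (hkn : k ≤ n) : a n • x = a k • x := by
  have := hk _ (cauchy_sub_mem a hkn)
  rwa [sub_smul, sub_eq_zero] at this

variable (hE : LocCoh.IsPowerTorsion I E)
include hE

open Classical in
/-- the order of torsion of an element -/
noncomputable def ord (x : E) : ℕ := Nat.find (hE x)

lemma ord_spec (x : E) : Kills I (ord hE x) x := by
  classical
  exact Nat.find_spec (hE x)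

lemma ord_le {x : E} {n : ℕ} (h : Kills I n x) : ord hE x ≤ n := by
  classical
  exact Nat.find_min' (hE x) h

/-- the action of a Cauchy sequence on a power torsion module -/
noncomputable def act (a : AdicCauchySequence I R) : E →ₗ[R] E where
  toFun x := a (ord hE x) • x
  map_add' x y := by
    set n := max (ord hE (x + y)) (max (ord hE x) (ord hE y)) with hn
    rw [← cauchy_smul_eq a (ord_spec hE (x + y)) (le_max_left _ _ : _ ≤ n),
      ← cauchy_smul_eq a (ord_spec hE x) ((le_max_left _ _).trans (le_max_right _ _) : _ ≤ n),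
      ← cauchy_smul_eq a (ord_spec hE y) ((le_max_right _ _).trans (le_max_right _ _) : _ ≤ n),
      smul_add]
  map_smul' c x := by
    set n := max (ord hE (c • x)) (ord hE x) with hn
    rw [RingHom.id_apply,
      ← cauchy_smul_eq a (ord_spec hE (c • x)) (le_max_left _ _ : _ ≤ n),
      ← cauchy_smul_eq a (ord_spec hE x) (le_max_right _ _ : _ ≤ n), smul_comm]

lemma act_apply (a : AdicCauchySequence I R) {x : E} {n : ℕ} (hn : Kills I n x) :
    act hE a x = a n • x :=
  (cauchy_smul_eq a (ord_spec hE x) (ord_le hE hn)).symm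

lemma act_eq_of_mk_eq (a b : AdicCauchySequence I R) (h : mk I R a = mk I R b) :
    act hE a = act hE b := by
  ext x
  rw [act_apply hE a (ord_spec hE x), act_apply hE b (ord_spec hE x)]
  have h1 := congrArg (evalₐ I (ord hE x)) h
  rw [evalₐ_mk, evalₐ_mk, Ideal.Quotient.eq] at h1
  have := ord_spec hE x _ h1
  rwa [sub_smul, sub_eq_zero] at this

/-- the action of the completion -/
noncomputable def Φfun (r : AdicCompletion I R) : E →ₗ[R] E :=
  act hE (Function.surjInv (mk_surjective I R) r)

lemma Φfun_mk (a : AdicCauchySequence I R) : Φfun hE (mk I R a) = act hE a :=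
  act_eq_of_mk_eq hE _ _ (Function.surjInv_eq (mk_surjective I R) _)

/-- the completion acts through an algebra homomorphism -/
noncomputable def Φ : AdicCompletion I R →ₐ[R] Module.End R E where
  toFun := Φfun hE
  map_one' := by
    have h1 : (1 : AdicCompletion I R) = mk I R 1 := (map_one (mkₐ I)).symm
    rw [h1, Φfun_mk]
    ext x
    rw [act_apply hE 1 (ord_spec hE x)]
    show (1 : R) • x = x
    rw [one_smul]
  map_mul' r s := by
    obtain ⟨a, rfl⟩ := mk_surjective I R r
    obtain ⟨b, rfl⟩ := mk_surjective I R s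
    have h1 : mk I R a * mk I R b = mk I R (a * b) := (map_mul (mkₐ I) a b).symm
    rw [h1, Φfun_mk, Φfun_mk, Φfun_mk]
    ext x
    rw [Module.End.mul_apply, act_apply hE (a * b) (ord_spec hE x),
      act_apply hE b (ord_spec hE x), act_apply hE a ((ord_spec hE x).smul _)]
    show (a (ord hE x) * b (ord hE x)) • x = _
    rw [mul_smul]
  map_zero' := by
    have h1 : (0 : AdicCompletion I R) = mk I R 0 := (map_zero (mk I R)).symm
    rw [h1, Φfun_mk]
    ext x
    rw [act_apply hE 0 (ord_spec hE x)]
    show (0 : R) • x = _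
    rw [zero_smul]
    rfl
  map_add' r s := by
    obtain ⟨a, rfl⟩ := mk_surjective I R r
    obtain ⟨b, rfl⟩ := mk_surjective I R s
    rw [← map_add, Φfun_mk, Φfun_mk, Φfun_mk]
    ext x
    rw [LinearMap.add_apply, act_apply hE (a + b) (ord_spec hE x),
      act_apply hE a (ord_spec hE x), act_apply hE b (ord_spec hE x)]
    show (a (ord hE x) + b (ord hE x)) • x = _
    rw [add_smul]
  commutes' c := by
    have h1 : algebraMap R (AdicCompletion I R) c = mk I R (algebraMap R _ c) :=
      ((mkₐ I).commutes c).symm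
    rw [h1, Φfun_mk]
    ext x
    rw [act_apply hE _ (ord_spec hE x)]
    rfl

lemma Φ_apply (r : AdicCompletion I R) {x : E} {n : ℕ} (hn : Kills I n x) (c : R)
    (hc : evalₐ I n r = Ideal.Quotient.mk (I ^ n) c) : Φ hE r x = c • x := by
  obtain ⟨a, rfl⟩ := mk_surjective I R r
  show Φfun hE (mk I R a) x = c • x
  rw [Φfun_mk, act_apply hE a hn]
  rw [evalₐ_mk, Ideal.Quotient.eq] at hc
  have := hn _ hc
  rwa [sub_smul, sub_eq_zero] at this

end Groth.Agent.Helper6.Matlis
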