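import Mathlib
import Groth.Prelude.Def_Wider

set_option autoImplicit false

/-!
Evaluation into the double dual with respect to an injective hull of the residue field.
-/

namespace Groth.Agent.Helper6.MatlisBidual

open Function IsLocalRing

universe u

section Cogen

variable {A : Type u} [CommRing A] [IsLocalRing A] {E : Type u} [AddCommGroup E] [Module A E]

/-- an injective module containing the residue field separates points. -/
theorem exists_map_ne_zero (f : ResidueField A →ₗ[A] E) (hfi : Injective f)
    (hE : Module.Injective A E) {G : Type u} [AddCommGroup G] [Module A G] (x : G) (hx : x ≠ 0) :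
    ∃ φ : G →ₗ[A] E, φ x ≠ 0 := by
  let t : A →ₗ[A] G := LinearMap.toSpanSingleton A G x
  let I : Submodule A A := LinearMap.ker t
  have hI : I ≤ LinearMap.ker (Algebra.linearMap A (ResidueField A)) := by
    intro a ha
    rw [LinearMap.mem_ker, Algebra.linearMap_apply]
    change residue A a = 0
    rw [residue_eq_zero_iff]
    by_contra hau
    have hu : IsUnit a := by
      by_contra h
      exact hau ((mem_maximalIdeal a).mpr h)
    obtain ⟨b, hb⟩ := hu.exists_left_inv
    have ha' : a • x = 0 := by
      have : t a = 0 := ha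
      rwa [LinearMap.toSpanSingleton_apply] at this
    apply hx
    calc x = (b * a) • x := by rw [hb, one_smul]
      _ = b • (a • x) := mul_smul _ _ _
      _ = 0 := by rw [ha', smul_zero]
  let g : (A ⧸ I) →ₗ[A] E := f ∘ₗ I.liftQ (Algebra.linearMap A (ResidueField A)) hI
  let ι : (A ⧸ I) →ₗ[A] G := I.liftQ t le_rfl
  have hι : Injective ι := by
    rw [← LinearMap.ker_eq_bot]
    exact Submodule.ker_liftQ_eq_bot _ _ _ le_rfl
  obtain ⟨h, hh⟩ := hE.out ι hι g
  refine ⟨h, ?_⟩
  have h1 : ι (Submodule.Quotient.mk 1) = x := by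
    change t 1 = x
    rw [LinearMap.toSpanSingleton_apply, one_smul]
  have h2 : g (Submodule.Quotient.mk 1) = f 1 := by
    change f (Algebra.linearMap A (ResidueField A) 1) = f 1
    rw [Algebra.linearMap_apply, map_one]
  rw [← h1, hh, h2]
  intro h0
  have : (1 : ResidueField A) = 0 := hfi (by rw [h0, map_zero])
  exact one_ne_zero this

theorem applyₗ_injective (f : ResidueField A →ₗ[A] E) (hf : InjHull.IsInjectiveHull f)
    (G : Type u) [AddCommGroup G] [Module A G] :
    Injective (LinearMap.applyₗ : G →ₗ[A] (G →ₗ[A] E) →ₗ[A] E) := by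
  rw [injective_iff_map_eq_zero]
  intro x hx
  by_contra hx0
  obtain ⟨φ, hφ⟩ := exists_map_ne_zero f hf.injective hf.isInjective x hx0
  apply hφ
  have := LinearMap.congr_fun hx φ
  simpa using this

end Cogen

section Len

variable {A : Type u} [Ring A] {M N : Type u} [AddCommGroup M] [Module A M] [AddCommGroup N]
  [Module A N]

theorem bijective_of_injective_of_length_eq (g : M →ₗ[A] N) (hg : Injective g)
    (hlen : Module.length A N = Module.length A M) (hfin : Module.length A M ≠ ⊤) :
    Bijective g := by
  refine ⟨hg, ?_⟩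
  have h := Module.length_eq_add_of_exact g (LinearMap.range g).mkQ hg
    (Submodule.mkQ_surjective _) (LinearMap.exact_map_mkQ_range g)
  rw [hlen] at h
  have h0 : Module.length A (N ⧸ LinearMap.range g) = 0 := by
    have h' : Module.length A M + 0 = Module.length A M + Module.length A (N ⧸ LinearMap.range g) := by
      rw [add_zero]; exact h
    exact ((ENat.add_right_injective_of_ne_top hfin) h').symm
  rw [Module.length_eq_zero_iff, Submodule.Quotient.subsingleton_iff] at h0
  exact LinearMap.range_eq_top.mp h0

end Len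

section Dual

variable {A : Type u} [CommRing A] {M Q E : Type u} [AddCommGroup M] [Module A M]
  [AddCommGroup Q] [Module A Q] [AddCommGroup E] [Module A E]

/-- maps out of a quotient `π : M → Q` killed by `I` are the `I`-torsion maps out of `M`. -/
theorem length_torsionBySet_eq (I : Ideal A) (π : M →ₗ[A] Q) (hπ : Surjective π)
    (h1 : ∀ a ∈ I, ∀ x : M, π (a • x) = 0)
    (h2 : ∀ ψ : M →ₗ[A] E, (∀ a ∈ I, ∀ x : M, ψ (a • x) = 0) → LinearMap.ker π ≤ LinearMap.ker ψ) :
    Module.length A (Submodule.torsionBySet A (M →ₗ[A] E) (I : Set A)) =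
      Module.length A (Q →ₗ[A] E) := by
  let c : (Q →ₗ[A] E) →ₗ[A] (M →ₗ[A] E) := LinearMap.lcomp A E π
  have hc : Injective c := by
    intro φ φ' h
    ext q
    obtain ⟨x, rfl⟩ := hπ q
    exact LinearMap.congr_fun h x
  have hr : LinearMap.range c = Submodule.torsionBySet A (M →ₗ[A] E) (I : Set A) := by
    ext ψ
    rw [Submodule.mem_torsionBySet_iff]
    constructor
    · rintro ⟨φ, rfl⟩ ⟨a, ha⟩
      ext x
      change a • φ (π x) = 0
      rw [← map_smul, ← map_smul, h1 a ha, map_zero]
    · intro hψ
      have hψ' : ∀ a ∈ I, ∀ x : M, ψ (a • x) = 0 := by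
        intro a ha x
        have := LinearMap.congr_fun (hψ ⟨a, ha⟩) x
        rw [map_smul]
        exact this
      have hle := h2 ψ hψ'
      refine ⟨((LinearMap.ker π).liftQ ψ hle) ∘ₗ
        (LinearMap.quotKerEquivOfSurjective π hπ).symm.toLinearMap, ?_⟩
      ext x
      change (LinearMap.ker π).liftQ ψ hle ((LinearMap.quotKerEquivOfSurjective π hπ).symm (π x)) = ψ x
      have : (LinearMap.quotKerEquivOfSurjective π hπ).symm (π x) = Submodule.Quotient.mk x := by
        rw [LinearEquiv.symm_apply_eq]
        rfl
      rw [this, Submodule.liftQ_apply]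
  rw [← hr]
  exact (LinearEquiv.ofInjective c hc).length_eq.symm

end Dual

end Groth.Agent.Helper6.MatlisBidual
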