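import Mathlib
import Groth.Prelude.Def_Wider
import Groth.Agent.Helper6.Matlis1
import Groth.Agent.Helper6.MatlisBidual
import Groth.Agent.S6035
import Groth.Agent.S0311

/-!
# `End(E) ≃ R̂` for the injective hull of the residue field
-/

set_option autoImplicit false
universe u

namespace Groth.Agent.Helper6.Matlis

open AdicCompletion IsLocalRing

variable {R : Type u} [CommRing R] [IsLocalRing R] [IsNoetherianRing R]
  {E : Type u} [AddCommGroup E] [Module R E]

omit [IsNoetherianRing R] in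
/-- the map `R/I → E` attached to an element killed by `I` -/
lemma exists_lift_of_kills (J : Ideal R) (x : E) (hx : ∀ a ∈ J, a • x = 0) :
    ∃ α : (R ⧸ J) →ₗ[R] E, ∀ c : R, α (Ideal.Quotient.mk J c) = c • x := by
  have hker : J ≤ LinearMap.ker (LinearMap.toSpanSingleton R E x) := by
    intro a ha
    rw [LinearMap.mem_ker, LinearMap.toSpanSingleton_apply]
    exact hx a ha
  exact ⟨Submodule.liftQ J (LinearMap.toSpanSingleton R E x) hker, fun c => rfl⟩

omit [IsNoetherianRing R] in
/-- `E[m^n]` is a faithful `R/m^n`-module. -/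
lemma faithful (f : ResidueField R →ₗ[R] E) (hf : InjHull.IsInjectiveHull f) (n : ℕ) (c : R)
    (h : ∀ x : E, Kills (maximalIdeal R) n x → c • x = 0) : c ∈ maximalIdeal R ^ n := by
  by_contra hc
  have hne : Ideal.Quotient.mk (maximalIdeal R ^ n) c ≠ 0 := by
    rwa [Ne, Ideal.Quotient.eq_zero_iff_mem]
  obtain ⟨φ, hφ⟩ := MatlisBidual.exists_map_ne_zero f hf.injective hf.isInjective _ hne
  apply hφ
  have h1 : Kills (maximalIdeal R) n (φ (Ideal.Quotient.mk (maximalIdeal R ^ n) 1)) := by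
    intro a ha
    rw [← map_smul]
    have : a • Ideal.Quotient.mk (maximalIdeal R ^ n) 1 = 0 := by
      show Ideal.Quotient.mk (maximalIdeal R ^ n) (a * 1) = 0
      rw [mul_one, Ideal.Quotient.eq_zero_iff_mem]
      exact ha
    rw [this, _root_.map_zero]
  have h2 := h _ h1
  rw [← map_smul] at h2
  have h3 : c • Ideal.Quotient.mk (maximalIdeal R ^ n) 1 =
      Ideal.Quotient.mk (maximalIdeal R ^ n) c := by
    show Ideal.Quotient.mk (maximalIdeal R ^ n) (c * 1) = _
    rw [mul_one]
  rwa [h3] at h2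

lemma isFiniteLength_quot_pow (n : ℕ) : IsFiniteLength R (R ⧸ maximalIdeal R ^ n) := by
  rw [isFiniteLength_iff_isNoetherian_isArtinian]
  refine ⟨inferInstance, ?_⟩
  rcases Nat.eq_zero_or_pos n with rfl | hn
  · haveI : Subsingleton (R ⧸ maximalIdeal R ^ 0) := by
      rw [pow_zero, Ideal.one_eq_top]
      exact Ideal.Quotient.subsingleton_iff.mpr rfl
    infer_instance
  · have hmin : maximalIdeal R ∈ (maximalIdeal R ^ n).minimalPrimes := by
      refine ⟨⟨inferInstance, Ideal.pow_le_self hn.ne'⟩, fun q hq _ => ?_⟩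
      exact hq.1.le_of_pow_le hq.2
    haveI := IsLocalRing.quotient_artinian_of_mem_minimalPrimes_of_isLocalRing _ hmin
    exact isArtinian_of_surjective_algebraMap
      (Ideal.Quotient.mk_surjective (I := maximalIdeal R ^ n))

/-- every endomorphism of `E` acts on `E[m^n]` by a scalar -/
lemma exists_smul_of_end (f : ResidueField R →ₗ[R] E) (hf : InjHull.IsInjectiveHull f)
    (φ : Module.End R E) (n : ℕ) :
    ∃ r : R, ∀ x, Kills (maximalIdeal R) n x → φ x = r • x := by
  have hbij := Groth.Agent.S6035.result R E f hf (R ⧸ maximalIdeal R ^ n)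
    (isFiniteLength_quot_pow n)
  let ψ : ((R ⧸ maximalIdeal R ^ n) →ₗ[R] E) →ₗ[R] E :=
    φ ∘ₗ (LinearMap.applyₗ (Ideal.Quotient.mk (maximalIdeal R ^ n) 1))
  obtain ⟨rb, hrb⟩ := hbij.2 ψ
  obtain ⟨r, rfl⟩ := Ideal.Quotient.mk_surjective rb
  refine ⟨r, fun x hx => ?_⟩
  obtain ⟨α, hα⟩ := exists_lift_of_kills (maximalIdeal R ^ n) x hx
  have h1 := LinearMap.congr_fun hrb α
  have h2 : ψ α = φ (α (Ideal.Quotient.mk (maximalIdeal R ^ n) 1)) := rfl
  have h3 : LinearMap.applyₗ (Ideal.Quotient.mk (maximalIdeal R ^ n) r) α =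
      α (Ideal.Quotient.mk (maximalIdeal R ^ n) r) := rfl
  rw [h2, h3, hα, hα, one_smul] at h1
  exact h1.symm

theorem Φ_bijective (f : ResidueField R →ₗ[R] E) (hf : InjHull.IsInjectiveHull f)
    (hE : LocCoh.IsPowerTorsion (maximalIdeal R) E) : Function.Bijective (Φ hE) := by
  constructor
  · rw [injective_iff_map_eq_zero]
    intro r hr
    apply ext_evalₐ
    intro n
    obtain ⟨c, hc⟩ := Ideal.Quotient.mk_surjective (evalₐ (maximalIdeal R) n r)
    rw [_root_.map_zero, ← hc, Ideal.Quotient.eq_zero_iff_mem]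
    refine faithful f hf n c (fun x hx => ?_)
    rw [← Φ_apply hE r hx c hc.symm, hr]
    rfl
  · intro φ
    choose r hr using exists_smul_of_end f hf φ
    have hcauchy : ∀ n, r n ≡ r (n + 1) [SMOD (maximalIdeal R ^ n • ⊤ : Submodule R R)] := by
      intro n
      rw [SModEq.sub_mem]
      have h2 : (maximalIdeal R ^ n • ⊤ : Submodule R R) = maximalIdeal R ^ n := by
        rw [smul_eq_mul, Ideal.mul_top]
      rw [h2]
      refine faithful f hf n _ (fun x hx => ?_)
      rw [sub_smul, ← hr n x hx, ← hr (n + 1) x (hx.mono (Nat.le_succ n)), sub_self]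
    refine ⟨mk (maximalIdeal R) R (AdicCauchySequence.mk (maximalIdeal R) R r hcauchy), ?_⟩
    ext x
    rw [Φ_apply hE _ (ord_spec hE x) (r (ord hE x)) (by rw [evalₐ_mk]; rfl)]
    exact (hr _ x (ord_spec hE x)).symm

/-- **Matlis**: `End_R(E) ≃ R̂`. -/
theorem nonempty_end_equiv (f : ResidueField R →ₗ[R] E) (hf : InjHull.IsInjectiveHull f) :
    Nonempty (Module.End R E ≃ₐ[R] AdicCompletion (maximalIdeal R) R) := by
  have hE := Groth.Agent.S0311.result R E f hf
  exact ⟨(AlgEquiv.ofBijective (Φ hE) (Φ_bijective f hf hE)).symm⟩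

end Groth.Agent.Helper6.Matlis
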