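import Mathlib
import Groth.Prelude.Def_Wider
import Groth.Agent.Helper6.Matlis2
import Groth.Agent.Helper6.ComplDim

/-!
# The injective hull of the residue field is Artinian
-/

set_option autoImplicit false
universe u

namespace Groth.Agent.Helper6.Matlis

open AdicCompletion IsLocalRing

variable {R : Type u} [CommRing R] [IsLocalRing R] [IsNoetherianRing R]
  {E : Type u} [AddCommGroup E] [Module R E]

section Ann

variable (hE : LocCoh.IsPowerTorsion (maximalIdeal R) E)

/-- the annihilator in `R̂` of a submodule of `E` -/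
noncomputable def annIdeal (N : Submodule R E) : Ideal (AdicCompletion (maximalIdeal R) R) where
  carrier := {r | ∀ x ∈ N, Φ hE r x = 0}
  add_mem' := by
    intro a b ha hb x hx
    rw [map_add, LinearMap.add_apply, ha x hx, hb x hx, add_zero]
  zero_mem' := by
    intro x _
    rw [_root_.map_zero]
    rfl
  smul_mem' := by
    intro c r hr x hx
    rw [smul_eq_mul, map_mul, Module.End.mul_apply, hr x hx, _root_.map_zero]

lemma annIdeal_antitone {N N' : Submodule R E} (h : N' ≤ N) : annIdeal hE N ≤ annIdeal hE N' :=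
  fun _ hr x hx => hr x (h hx)

lemma annIdeal_strictAnti (f : ResidueField R →ₗ[R] E) (hf : InjHull.IsInjectiveHull f) :
    StrictAnti (annIdeal hE (R := R) (E := E)) := by
  intro N' N hlt
  refine lt_of_le_of_ne (annIdeal_antitone hE hlt.le) ?_
  intro heq
  obtain ⟨x, hxN, hxN'⟩ := SetLike.exists_of_lt hlt
  have hne : N'.mkQ x ≠ 0 := by
    rwa [Ne, Submodule.mkQ_apply, Submodule.Quotient.mk_eq_zero]
  obtain ⟨ψ, hψ⟩ := MatlisBidual.exists_map_ne_zero f hf.injective hf.isInjective _ hne
  obtain ⟨r, hr⟩ := (Φ_bijective f hf hE).2 (ψ ∘ₗ N'.mkQ)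
  have h1 : r ∈ annIdeal hE N' := by
    intro y hy
    rw [hr, LinearMap.comp_apply, Submodule.mkQ_apply, (Submodule.Quotient.mk_eq_zero N').mpr hy,
      _root_.map_zero]
  have h2 : r ∈ annIdeal hE N := heq ▸ h1
  apply hψ
  have := h2 x hxN
  rwa [hr] at this

end Ann

/-- **Matlis**: `E` is Artinian. -/
theorem isArtinian_hull (f : ResidueField R →ₗ[R] E) (hf : InjHull.IsInjectiveHull f) :
    IsArtinian R E := by
  have hE := Groth.Agent.S0311.result R E f hf
  haveI : IsNoetherianRing (AdicCompletion (maximalIdeal R) R) :=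
    Groth.Agent.Helper6.ComplDim.instNoeth R (maximalIdeal R)
  have h := (annIdeal_strictAnti hE f hf).wellFoundedLT
  exact h

end Groth.Agent.Helper6.Matlis
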