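import Mathlib
import Groth.Prelude.Def_Wider
import Groth.Agent.Helper6.Matlis3
import Groth.Agent.S0299
import Groth.Agent.S0310

/-!
# Artinian modules over a Noetherian local ring
-/

set_option autoImplicit false
universe u

namespace Groth.Agent.Helper6.Matlis

open IsLocalRing

variable {R : Type u} [CommRing R] [IsLocalRing R] [IsNoetherianRing R]

/-- An Artinian module over a Noetherian local ring is power torsion. -/
theorem isPowerTorsion_of_isArtinian (M : Type u) [AddCommGroup M] [Module R M] [IsArtinian R M] :
    LocCoh.IsPowerTorsion (maximalIdeal R) M := by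
  intro x
  let c : ℕ →o (Submodule R M)ᵒᵈ :=
    { toFun := fun n => OrderDual.toDual (maximalIdeal R ^ n • Submodule.span R {x})
      monotone' := by
        intro i j hij
        show maximalIdeal R ^ j • Submodule.span R {x} ≤ maximalIdeal R ^ i • Submodule.span R {x}
        exact Submodule.smul_mono_left (Ideal.pow_le_pow_right hij) }
  obtain ⟨n, hn⟩ := IsArtinian.monotone_stabilizes c
  have h1 : maximalIdeal R ^ n • Submodule.span R {x} =
      maximalIdeal R ^ (n + 1) • Submodule.span R {x} := hn (n + 1) (Nat.le_succ n)
  have h2 : maximalIdeal R ^ n • Submodule.span R {x} ≤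
      maximalIdeal R • (maximalIdeal R ^ n • Submodule.span R {x}) := by
    rw [← Submodule.mul_smul, ← pow_succ']
    exact h1.le
  have hfg : (maximalIdeal R ^ n • Submodule.span R {x}).FG :=
    Submodule.FG.smul (IsNoetherian.noetherian _) (Submodule.fg_span_singleton x)
  have h3 := Submodule.eq_bot_of_le_smul_of_le_jacobson_bot (maximalIdeal R) _ hfg h2
    (IsLocalRing.maximalIdeal_le_jacobson _)
  refine ⟨n, fun a ha => ?_⟩
  have h4 : a • x ∈ maximalIdeal R ^ n • Submodule.span R {x} :=
    Submodule.smul_mem_smul ha (Submodule.mem_span_singleton_self x)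
  rw [h3, Submodule.mem_bot] at h4
  exact h4

/-- The socle of an Artinian module is finite over the residue field. -/
theorem finite_socle_of_isArtinian (M : Type u) [AddCommGroup M] [Module R M] [IsArtinian R M] :
    Module.Finite (R ⧸ maximalIdeal R) ↥(LocCoh.torsionBy (maximalIdeal R) M) := by
  have h1 : IsArtinian R ↥(LocCoh.torsionBy (maximalIdeal R) M) := inferInstance
  have h2 : IsArtinian (R ⧸ maximalIdeal R) ↥(LocCoh.torsionBy (maximalIdeal R) M) :=
    isArtinian_of_tower R h1
  letI : Field (R ⧸ maximalIdeal R) := Ideal.Quotient.field _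
  exact (IsSemisimpleModule.finite_tfae.out 0 2).mpr h2

theorem isArtinian_iff (M : Type u) [AddCommGroup M] [Module R M] :
    IsArtinian R M ↔ (LocCoh.IsPowerTorsion (maximalIdeal R) M ∧
      Module.Finite (R ⧸ maximalIdeal R) ↥(LocCoh.torsionBy (maximalIdeal R) M)) := by
  constructor
  · intro h
    exact ⟨isPowerTorsion_of_isArtinian M, finite_socle_of_isArtinian M⟩
  · rintro ⟨hM, hfin⟩
    obtain ⟨E, _, _, f, hf⟩ := Groth.Agent.S0299.result R (ResidueField R)
    obtain ⟨g, hg⟩ := Groth.Agent.S0310.result R E f hf M hM _ rfl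
    haveI : IsArtinian R E := isArtinian_hull f hf
    exact isArtinian_of_injective g hg

end Groth.Agent.Helper6.Matlis
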