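import Mathlib
import Groth.Prelude.Def_Wider
import Groth.Agent.Helper6.Matlis4

/-!
# Matlis duality over a complete Noetherian local ring
-/

set_option autoImplicit false
universe u

namespace Groth.Agent.Helper6.Matlis

open IsLocalRing

variable {R : Type u} [CommRing R] {E : Type u} [AddCommGroup E] [Module R E]

/-- the evaluation map into the double dual -/
abbrev η (R : Type u) [CommRing R] (E : Type u) [AddCommGroup E] [Module R E]
    (X : Type u) [AddCommGroup X] [Module R X] : X →ₗ[R] (X →ₗ[R] E) →ₗ[R] E :=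
  LinearMap.applyₗ

section General

variable {X M : Type u} [AddCommGroup X] [Module R X] [AddCommGroup M] [Module R M]

theorem surj_pi (s : ℕ) (h : Function.Surjective (η R E X)) :
    Function.Surjective (η R E (Fin s → X)) := by
  intro ξ
  have key : ∀ i : Fin s, ∃ v : X, ∀ β : X →ₗ[R] E, β v = ξ (β ∘ₗ LinearMap.proj i) := by
    intro i
    obtain ⟨v, hv⟩ := h (ξ ∘ₗ LinearMap.lcomp R E (LinearMap.proj i))
    exact ⟨v, fun β => LinearMap.congr_fun hv β⟩
  choose v hv using key
  refine ⟨v, ?_⟩
  ext α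
  show α v = ξ α
  have h1 : α = ∑ i, (α ∘ₗ LinearMap.single R (fun _ => X) i) ∘ₗ LinearMap.proj i := by
    ext j x
    simp only [LinearMap.coe_comp, LinearMap.coe_single, Function.comp_apply, LinearMap.coe_sum,
      Finset.sum_apply, LinearMap.coe_proj, Function.eval]
    rw [Finset.sum_eq_single j]
    · simp
    · intro b _ hb
      rw [Pi.single_eq_of_ne hb, Pi.single_zero, map_zero]
    · intro hj
      exact absurd (Finset.mem_univ j) hj
  have h2 : ξ α = ∑ i, ξ ((α ∘ₗ LinearMap.single R (fun _ => X) i) ∘ₗ LinearMap.proj i) := by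
    conv_lhs => rw [h1]
    rw [map_sum]
  rw [h2]
  have h3 : ∀ i, ξ ((α ∘ₗ LinearMap.single R (fun _ => X) i) ∘ₗ LinearMap.proj i) =
      α (Pi.single i (v i)) := by
    intro i
    rw [← hv i]
    rfl
  simp only [h3]
  rw [← map_sum]
  congr 1
  ext j
  simp [Finset.sum_apply, Pi.single_apply]

theorem surj_of_surjective [Module.Injective R E] (π : X →ₗ[R] M) (hπ : Function.Surjective π)
    (h : Function.Surjective (η R E X)) : Function.Surjective (η R E M) := by
  intro ξ
  have hinj : Function.Injective (LinearMap.lcomp R E π) := by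
    intro α β hαβ
    ext m
    obtain ⟨x, rfl⟩ := hπ m
    exact LinearMap.congr_fun hαβ x
  obtain ⟨ζ, hζ⟩ := Module.Injective.out (LinearMap.lcomp R E π) hinj ξ
  obtain ⟨v, hv⟩ := h ζ
  refine ⟨π v, ?_⟩
  ext α
  show α (π v) = ξ α
  rw [← hζ α, ← hv]
  rfl

end General

section Local

variable [IsLocalRing R]

theorem surj_of_injective {X M : Type u} [AddCommGroup X] [Module R X] [AddCommGroup M]
    [Module R M] (f : ResidueField R →ₗ[R] E) (hf : InjHull.IsInjectiveHull f)
    (g : M →ₗ[R] X) (hg : Function.Injective g)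
    (h : Function.Surjective (η R E X)) : Function.Surjective (η R E M) := by
  haveI := hf.isInjective
  intro ξ
  obtain ⟨y, hy⟩ := h (ξ ∘ₗ LinearMap.lcomp R E g)
  have hy' : ∀ α : X →ₗ[R] E, α y = ξ (α ∘ₗ g) := fun α => LinearMap.congr_fun hy α
  have hmem : y ∈ LinearMap.range g := by
    by_contra hcon
    have hne : (LinearMap.range g).mkQ y ≠ 0 := by
      rwa [Ne, Submodule.mkQ_apply, Submodule.Quotient.mk_eq_zero]
    obtain ⟨ψ, hψ⟩ := MatlisBidual.exists_map_ne_zero f hf.injective hf.isInjective _ hne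
    apply hψ
    have h1 := hy' (ψ ∘ₗ (LinearMap.range g).mkQ)
    have h2 : (ψ ∘ₗ (LinearMap.range g).mkQ) ∘ₗ g = 0 := by
      ext m
      show ψ ((LinearMap.range g).mkQ (g m)) = 0
      rw [Submodule.mkQ_apply, (Submodule.Quotient.mk_eq_zero _).mpr (LinearMap.mem_range_self g m),
        map_zero]
    rw [h2, map_zero] at h1
    exact h1
  obtain ⟨m, rfl⟩ := hmem
  refine ⟨m, ?_⟩
  ext β
  show β m = ξ β
  obtain ⟨α, hα⟩ := Module.Injective.out g hg β
  have : β = α ∘ₗ g := by
    ext z
    exact (hα z).symm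
  rw [this, ← hy']
  rfl

variable [IsNoetherianRing R]

/-- over a complete local ring every endomorphism of `E` is a homothety -/
theorem exists_eq_smul_id [IsAdicComplete (maximalIdeal R) R]
    (f : ResidueField R →ₗ[R] E) (hf : InjHull.IsInjectiveHull f) (φ : Module.End R E) :
    ∃ c : R, φ = c • LinearMap.id := by
  have hE := Groth.Agent.S0311.result R E f hf
  obtain ⟨r, rfl⟩ := (Φ_bijective f hf hE).2 φ
  obtain ⟨c, rfl⟩ := AdicCompletion.of_surjective (maximalIdeal R) R r
  refine ⟨c, ?_⟩
  have h1 : AdicCompletion.of (maximalIdeal R) R c =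
      algebraMap R (AdicCompletion (maximalIdeal R) R) c := rfl
  rw [h1, AlgHom.commutes, Algebra.algebraMap_eq_smul_one]
  rfl

theorem surj_self [IsAdicComplete (maximalIdeal R) R]
    (f : ResidueField R →ₗ[R] E) (hf : InjHull.IsInjectiveHull f) :
    Function.Surjective (η R E R) := by
  intro ξ
  let φ : Module.End R E := ξ ∘ₗ (LinearMap.ringLmapEquivSelf R R E).symm.toLinearMap
  obtain ⟨c, hc⟩ := exists_eq_smul_id f hf φ
  refine ⟨c, ?_⟩
  ext β
  show β c = ξ β
  have h1 : φ (β 1) = c • β 1 := by rw [hc]; rfl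
  have h2 : (LinearMap.ringLmapEquivSelf R R E).symm (β 1) = β := by
    ext
    simp
  have h3 : φ (β 1) = ξ β := by
    show ξ ((LinearMap.ringLmapEquivSelf R R E).symm (β 1)) = ξ β
    rw [h2]
  rw [← h3, h1, ← map_smul, smul_eq_mul, mul_one]

theorem surj_hull [IsAdicComplete (maximalIdeal R) R]
    (f : ResidueField R →ₗ[R] E) (hf : InjHull.IsInjectiveHull f) :
    Function.Surjective (η R E E) := by
  intro ξ
  refine ⟨ξ LinearMap.id, ?_⟩
  ext φ
  show φ (ξ LinearMap.id) = ξ φ
  obtain ⟨c, rfl⟩ := exists_eq_smul_id f hf φ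
  rw [map_smul]
  rfl

/-- `Hom(N, E)` is Artinian for finite `N`. -/
theorem isArtinian_dual (f : ResidueField R →ₗ[R] E) (hf : InjHull.IsInjectiveHull f)
    (N : Type u) [AddCommGroup N] [Module R N] [Module.Finite R N] :
    IsArtinian R (N →ₗ[R] E) := by
  obtain ⟨n, π, hπ⟩ := Module.Finite.exists_fin' R N
  have hinj : Function.Injective (LinearMap.lcomp R E π) := by
    intro α β hαβ
    ext m
    obtain ⟨x, rfl⟩ := hπ m
    exact LinearMap.congr_fun hαβ x
  haveI : IsArtinian R E := isArtinian_hull f hf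
  haveI : IsArtinian R ((Fin n → R) →ₗ[R] E) :=
    (Module.piEquiv (Fin n) R E).isArtinian_iff.mp inferInstance
  exact isArtinian_of_injective _ hinj

/-- **Matlis duality** for finite modules. -/
theorem duality_finite [IsAdicComplete (maximalIdeal R) R]
    (f : ResidueField R →ₗ[R] E) (hf : InjHull.IsInjectiveHull f)
    (M : Type u) [AddCommGroup M] [Module R M] [Module.Finite R M] :
    IsArtinian R (M →ₗ[R] E) ∧
      Function.Bijective (LinearMap.applyₗ : M →ₗ[R] (M →ₗ[R] E) →ₗ[R] E) := by
  haveI := hf.isInjective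
  refine ⟨isArtinian_dual f hf M, MatlisBidual.applyₗ_injective f hf M, ?_⟩
  obtain ⟨n, π, hπ⟩ := Module.Finite.exists_fin' R M
  exact surj_of_surjective π hπ (surj_pi n (surj_self f hf))

/-- **Matlis duality** for Artinian modules. -/
theorem duality_artinian [IsAdicComplete (maximalIdeal R) R]
    (f : ResidueField R →ₗ[R] E) (hf : InjHull.IsInjectiveHull f)
    (M : Type u) [AddCommGroup M] [Module R M] [IsArtinian R M] :
    Module.Finite R (M →ₗ[R] E) ∧
      Function.Bijective (LinearMap.applyₗ : M →ₗ[R] (M →ₗ[R] E) →ₗ[R] E) := by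
  haveI := hf.isInjective
  have hM := isPowerTorsion_of_isArtinian (R := R) M
  haveI := finite_socle_of_isArtinian (R := R) M
  obtain ⟨s, hs⟩ : ∃ s : ℕ, Module.finrank (R ⧸ maximalIdeal R)
      ↥(LocCoh.torsionBy (maximalIdeal R) M) = s := ⟨_, rfl⟩
  obtain ⟨g, hg⟩ := Groth.Agent.S0310.result R E f hf M hM s hs
  refine ⟨?_, MatlisBidual.applyₗ_injective f hf M,
    surj_of_injective f hf g hg (surj_pi s (surj_hull f hf))⟩
  -- finiteness of the dual
  have hsurj : Function.Surjective (LinearMap.lcomp R E g) := by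
    intro β
    obtain ⟨α, hα⟩ := Module.Injective.out g hg β
    refine ⟨α, ?_⟩
    ext z
    exact hα z
  have hEnd : Module.Finite R (Module.End R E) := by
    let t : R →ₗ[R] Module.End R E := LinearMap.toSpanSingleton R _ LinearMap.id
    refine Module.Finite.of_surjective t ?_
    intro φ
    obtain ⟨c, rfl⟩ := exists_eq_smul_id f hf φ
    exact ⟨c, rfl⟩
  haveI : Module.Finite R ((Fin s → E) →ₗ[R] E) :=
    Module.Finite.equiv (LinearMap.lsum R (fun _ : Fin s => E) R)
  exact Module.Finite.of_surjective _ hsurj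

/-- annihilators and duals -/
theorem annihilator_dual (f : ResidueField R →ₗ[R] E) (hf : InjHull.IsInjectiveHull f)
    (G : Type u) [AddCommGroup G] [Module R G] :
    Module.annihilator R G = Module.annihilator R (G →ₗ[R] E) := by
  ext a
  rw [Module.mem_annihilator, Module.mem_annihilator]
  constructor
  · intro h α
    ext g
    show a • α g = 0
    rw [← map_smul, h g, map_zero]
  · intro h g
    by_contra hne
    obtain ⟨φ, hφ⟩ := MatlisBidual.exists_map_ne_zero f hf.injective hf.isInjective _ hne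
    apply hφ
    have := LinearMap.congr_fun (h φ) g
    rw [map_smul]
    exact this

end Local

end Groth.Agent.Helper6.Matlis
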