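import Mathlib

/-!
# Base change for `Ext` along an exact functor compatible with scalars

`F : ModuleCat A ⥤ ModuleCat B` exact, additive, `F.map (a • f) = algebraMap a • F.map f`.
The comparison `Ψ : B ⊗[A] Ext^n_A(X, Y) →ₗ[B] Ext^n_B(F X, F Y)`.  If `Ψ` is bijective in degree `0`
for all finite `X` and `F` sends finite free modules to projective modules, then `Ψ` is bijective in
all degrees for finite `X` (over a Noetherian ring `A`).
-/

set_option autoImplicit false
universe u

namespace Groth.Agent.Helper6.ExtBC

open CategoryTheory Abelian Limits TensorProduct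

variable {A B : Type u} [CommRing A] [CommRing B] [Algebra A B]
variable (F : ModuleCat.{u} A ⥤ ModuleCat.{u} B) [F.Additive] [PreservesFiniteLimits F]
  [PreservesFiniteColimits F]

/-- compatibility of `F` with scalars -/
def Compat : Prop :=
  ∀ (X Y : ModuleCat.{u} A) (a : A) (f : X ⟶ Y), F.map (a • f) = algebraMap A B a • F.map f

variable {F}

theorem map_smul (hF : Compat F) {X Y : ModuleCat.{u} A} {n : ℕ} (a : A) (e : Ext X Y n) :
    (a • e).mapExactFunctor F = algebraMap A B a • e.mapExactFunctor F := by
  rw [Ext.smul_eq_comp_mk₀, Ext.mapExactFunctor_comp, Ext.mapExactFunctor_mk₀, hF, F.map_id,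
    Ext.mk₀_smul, Ext.comp_smul, Ext.comp_mk₀_id]

variable (F)

/-- the comparison map, as an additive map -/
noncomputable def psiAdd (hF : Compat F) (X Y : ModuleCat.{u} A) (n : ℕ) :
    B ⊗[A] Ext X Y n →+ Ext (F.obj X) (F.obj Y) n :=
  TensorProduct.liftAddHom
    { toFun := fun b =>
        { toFun := fun e => b • e.mapExactFunctor F
          map_zero' := by rw [Ext.mapExactFunctor_zero, smul_zero]
          map_add' := fun e e' => by rw [Ext.mapExactFunctor_add, smul_add] }
      map_zero' := by
        ext e
        simp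
      map_add' := fun b b' => by
        ext e
        simp [add_smul] }
    (fun a b e => by
      show (a • b) • e.mapExactFunctor F = b • (a • e).mapExactFunctor F
      rw [map_smul hF, Algebra.smul_def, mul_comm, mul_smul])

@[simp]
theorem psiAdd_tmul (hF : Compat F) (X Y : ModuleCat.{u} A) (n : ℕ) (b : B) (e : Ext X Y n) :
    psiAdd F hF X Y n (b ⊗ₜ[A] e) = b • e.mapExactFunctor F := rfl

/-- the comparison map -/
noncomputable def psi (hF : Compat F) (X Y : ModuleCat.{u} A) (n : ℕ) :
    B ⊗[A] Ext X Y n →ₗ[B] Ext (F.obj X) (F.obj Y) n where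
  toFun := psiAdd F hF X Y n
  map_add' := map_add _
  map_smul' := fun b t => by
    induction t using TensorProduct.induction_on with
    | zero => simp
    | tmul b' e =>
      rw [TensorProduct.smul_tmul', psiAdd_tmul, psiAdd_tmul, RingHom.id_apply, smul_eq_mul,
        mul_smul]
    | add x y hx hy =>
      rw [smul_add, map_add, hx, hy, map_add, smul_add]

@[simp]
theorem psi_tmul (hF : Compat F) (X Y : ModuleCat.{u} A) (n : ℕ) (b : B) (e : Ext X Y n) :
    psi F hF X Y n (b ⊗ₜ[A] e) = b • e.mapExactFunctor F := rfl

/-- naturality of the comparison with respect to precomposition -/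
theorem psi_precomp (hF : Compat F) {X X' Y : ModuleCat.{u} A} {m n k : ℕ} (α : Ext X' X m)
    (h : m + n = k) (t : B ⊗[A] Ext X Y n) :
    psi F hF X' Y k ((α.precompOfLinear A Y h).lTensor B t) =
      (α.mapExactFunctor F).comp (psi F hF X Y n t) h := by
  induction t using TensorProduct.induction_on with
  | zero => simp
  | tmul b e =>
    rw [LinearMap.lTensor_tmul, psi_tmul, psi_tmul, Ext.comp_smul]
    congr 1
    exact Ext.mapExactFunctor_comp F α e h
  | add x y hx hy =>
    rw [map_add, map_add, hx, hy, map_add, Ext.comp_add]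

section Step

variable [IsNoetherianRing A] (hF : Compat F)
  (hproj : ∀ s : ℕ, Projective (F.obj (ModuleCat.of A (Fin s → A))))

include hproj in
theorem bijective_step (r k : ℕ) (hk : 1 + r = k) (Y : ModuleCat.{u} A)
    (ih : ∀ (M : Type u) [AddCommGroup M] [Module A M] [Module.Finite A M],
      Function.Bijective (psi F hF (ModuleCat.of A M) Y r))
    (M : Type u) [AddCommGroup M] [Module A M] [Module.Finite A M] :
    Function.Bijective (psi F hF (ModuleCat.of A M) Y k) := by
  obtain rfl : k = r + 1 := by omega
  obtain ⟨s, π, hπ⟩ := Module.Finite.exists_fin' A M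
  have hS : π.shortComplexKer.ShortExact := LinearMap.shortExact_shortComplexKer hπ
  have hS' := hS.map_of_exact F
  haveI : Projective (π.shortComplexKer.map F).X₂ := hproj s
  haveI : Projective π.shortComplexKer.X₂ :=
    (inferInstance : Projective (ModuleCat.of A (Fin s → A)))
  have ihK := ih (LinearMap.ker π)
  have ihP := ih (Fin s → A)
  -- the connecting map over `A` is surjective
  have hδsurj : Function.Surjective (hS.extClass.precompOfLinear A Y hk) := fun x =>
    Ext.contravariant_sequence_exact₃ hS Y x (Ext.eq_zero_of_projective _) hk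
  have hδsurj' : Function.Surjective ((hS.extClass.precompOfLinear A Y hk).lTensor B) :=
    LinearMap.lTensor_surjective B hδsurj
  have hclass : hS.extClass.mapExactFunctor F = hS'.extClass :=
    Ext.mapExactFunctor_extClass F hS
  constructor
  · -- injectivity
    rw [← LinearMap.ker_eq_bot, LinearMap.ker_eq_bot']
    intro t₃ ht₃
    obtain ⟨t₂, rfl⟩ := hδsurj' t₃
    rw [psi_precomp, hclass] at ht₃
    obtain ⟨y₂, hy₂⟩ := Ext.contravariant_sequence_exact₁ hS' (F.obj Y) _ hk ht₃
    obtain ⟨t₁, rfl⟩ := ihP.2 y₂
    have h1 : psi F hF (ModuleCat.of A (LinearMap.ker π)) Y r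
        (((Ext.mk₀ π.shortComplexKer.f).precompOfLinear A Y (zero_add r)).lTensor B t₁) =
        psi F hF (ModuleCat.of A (LinearMap.ker π)) Y r t₂ := by
      rw [psi_precomp, Ext.mapExactFunctor_mk₀]
      exact hy₂
    have h2 := ihK.1 h1
    rw [← h2, ← LinearMap.comp_apply, ← LinearMap.lTensor_comp]
    have h3 : (hS.extClass.precompOfLinear A Y hk) ∘ₗ
        ((Ext.mk₀ π.shortComplexKer.f).precompOfLinear A Y (zero_add r)) = 0 := by
      ext e
      show hS.extClass.comp ((Ext.mk₀ π.shortComplexKer.f).comp e (zero_add r)) hk = 0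
      rw [hS.extClass_comp_assoc]
    rw [h3, LinearMap.lTensor_zero, LinearMap.zero_apply]
  · -- surjectivity
    intro y
    obtain ⟨y₁, hy₁⟩ := Ext.contravariant_sequence_exact₃ hS' (F.obj Y) y
      (Ext.eq_zero_of_projective _) hk
    obtain ⟨t₁, rfl⟩ := ihK.2 y₁
    refine ⟨(hS.extClass.precompOfLinear A Y hk).lTensor B t₁, ?_⟩
    rw [psi_precomp, hclass]
    exact hy₁

include hproj in
theorem bijective_all (Y : ModuleCat.{u} A)
    (h0 : ∀ (M : Type u) [AddCommGroup M] [Module A M] [Module.Finite A M],
      Function.Bijective (psi F hF (ModuleCat.of A M) Y 0)) :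
    ∀ (r : ℕ) (M : Type u) [AddCommGroup M] [Module A M] [Module.Finite A M],
      Function.Bijective (psi F hF (ModuleCat.of A M) Y r)
  | 0 => h0
  | r + 1 => fun M _ _ _ =>
    bijective_step F hF hproj r (r + 1) (add_comm 1 r) Y (bijective_all Y h0 r) M

end Step

end Groth.Agent.Helper6.ExtBC
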