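import Mathlib
import Groth.Agent.Helper6.ExtBC

/-!
# `Ext` commutes with localization
-/

set_option autoImplicit false
universe u

namespace Groth.Agent.Helper6.ExtBC

open CategoryTheory Abelian Limits TensorProduct

variable {R : Type u} [CommRing R] (S : Submonoid R)

theorem locF_compat : Compat (ModuleCat.localizedModuleFunctor.{u} S) := by
  intro X Y a f
  ext : 1
  show IsLocalizedModule.mapExtendScalars S (X.localizedModuleMkLinearMap S)
      (Y.localizedModuleMkLinearMap S) (Localization S) (a • f).hom =
    algebraMap R (Localization S) a • IsLocalizedModule.mapExtendScalars S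
      (X.localizedModuleMkLinearMap S) (Y.localizedModuleMkLinearMap S) (Localization S) f.hom
  rw [ModuleCat.hom_smul, LinearMap.map_smul]
  ext x
  rw [LinearMap.smul_apply, LinearMap.smul_apply, algebraMap_smul]

theorem locF_proj (s : ℕ) :
    Projective ((ModuleCat.localizedModuleFunctor.{u} S).obj (ModuleCat.of R (Fin s → R))) :=
  inferInstance

variable [IsNoetherianRing R]

theorem locF_zero (M : Type u) [AddCommGroup M] [Module R M] [Module.Finite R M]
    (Y : ModuleCat.{u} R) :
    Function.Bijective (psi (ModuleCat.localizedModuleFunctor.{u} S) (locF_compat S)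
      (ModuleCat.of R M) Y 0) := by
  haveI : Module.FinitePresentation R M := Module.finitePresentation_of_finite R M
  haveI h1 : IsLocalizedModule S ((ModuleCat.of R M).localizedModuleMkLinearMap S) :=
    ModuleCat.localizedModule_isLocalizedModule (ModuleCat.of R M) S
  haveI h2 : IsLocalizedModule S (Y.localizedModuleMkLinearMap S) :=
    ModuleCat.localizedModule_isLocalizedModule Y S
  have hbc : IsBaseChange (Localization S)
      (IsLocalizedModule.mapExtendScalars S ((ModuleCat.of R M).localizedModuleMkLinearMap S)
        (Y.localizedModuleMkLinearMap S) (Localization S)) :=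
    IsLocalizedModule.isBaseChange S (Localization S) _
  let εA : Ext (ModuleCat.of R M) Y 0 ≃ₗ[R] (M →ₗ[R] Y) :=
    Ext.linearEquiv₀.trans ModuleCat.homLinearEquiv
  let εB : Ext ((ModuleCat.localizedModuleFunctor.{u} S).obj (ModuleCat.of R M))
      ((ModuleCat.localizedModuleFunctor.{u} S).obj Y) 0 ≃ₗ[Localization S]
      (((ModuleCat.of R M).localizedModule S) →ₗ[Localization S] (Y.localizedModule S)) :=
    Ext.linearEquiv₀.trans ModuleCat.homLinearEquiv
  have key : ∀ t, εB (psi (ModuleCat.localizedModuleFunctor.{u} S) (locF_compat S)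
      (ModuleCat.of R M) Y 0 t) = hbc.equiv ((εA.toLinearMap.lTensor (Localization S)) t) := by
    intro t
    induction t using TensorProduct.induction_on with
    | zero => simp
    | tmul b e =>
      rw [psi_tmul, LinearEquiv.map_smul, LinearMap.lTensor_tmul, IsBaseChange.equiv_tmul]
      congr 1
      obtain ⟨φ, rfl⟩ : ∃ φ, e = Ext.mk₀ φ :=
        ⟨Ext.linearEquiv₀ (R := R) e, (Ext.mk₀_linearEquiv₀_apply (R := R) e).symm⟩
      rw [Ext.mapExactFunctor_mk₀]
      show ((Ext.linearEquiv₀ (R := Localization S))
          (Ext.mk₀ ((ModuleCat.localizedModuleFunctor.{u} S).map φ))).hom =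
        IsLocalizedModule.mapExtendScalars S ((ModuleCat.of R M).localizedModuleMkLinearMap S)
          (Y.localizedModuleMkLinearMap S) (Localization S)
          ((Ext.linearEquiv₀ (R := R)) (Ext.mk₀ φ)).hom
      have h1 : (Ext.linearEquiv₀ (R := Localization S))
          (Ext.mk₀ ((ModuleCat.localizedModuleFunctor.{u} S).map φ)) =
          (ModuleCat.localizedModuleFunctor.{u} S).map φ :=
        (Ext.linearEquiv₀ (R := Localization S)).apply_symm_apply _
      have h2 : (Ext.linearEquiv₀ (R := R)) (Ext.mk₀ φ) = φ :=
        (Ext.linearEquiv₀ (R := R)).apply_symm_apply _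
      rw [h1, h2]
      rfl
    | add x y hx hy =>
      rw [map_add, map_add, hx, hy, map_add, map_add]
  have hfun : ⇑(psi (ModuleCat.localizedModuleFunctor.{u} S) (locF_compat S)
      (ModuleCat.of R M) Y 0) =
      εB.symm ∘ hbc.equiv ∘ (LinearEquiv.lTensor (Localization S) εA) := by
    funext t
    simp only [Function.comp_apply]
    rw [LinearEquiv.eq_symm_apply]
    exact key t
  rw [hfun]
  exact εB.symm.bijective.comp (hbc.equiv.bijective.comp
    (LinearEquiv.lTensor (Localization S) εA).bijective)

/-- **`Ext` commutes with localization** -/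
theorem locF_bijective (M : Type u) [AddCommGroup M] [Module R M]
    [Module.Finite R M] (Y : ModuleCat.{u} R) (r : ℕ) :
    Function.Bijective (psi (ModuleCat.localizedModuleFunctor.{u} S) (locF_compat S)
      (ModuleCat.of R M) Y r) :=
  bijective_all (ModuleCat.localizedModuleFunctor.{u} S) (locF_compat S) (locF_proj S) Y
    (fun M _ _ _ => locF_zero S M Y) r M

theorem loc_main (M N : ModuleCat.{u} R) [Module.Finite R M] (i : ℕ) :
    (∀ y : Ext ((ModuleCat.localizedModuleFunctor.{u} S).obj M)
        ((ModuleCat.localizedModuleFunctor.{u} S).obj N) i,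
        ∃ (e : Ext M N i) (s : S),
          algebraMap R (Localization S) (s : R) • y =
            (ModuleCat.localizedModuleFunctor.{u} S).mapExtAddHom M N i e) ∧
      (∀ e : Ext M N i,
        (ModuleCat.localizedModuleFunctor.{u} S).mapExtAddHom M N i e = 0 ↔
          ∃ s : S, (s : R) • e = 0) := by
  have hb : Function.Bijective (psi (ModuleCat.localizedModuleFunctor.{u} S) (locF_compat S)
      M N i) := locF_bijective S M N i
  have hone : ∀ e : Ext M N i, psi (ModuleCat.localizedModuleFunctor.{u} S) (locF_compat S)
      M N i ((1 : Localization S) ⊗ₜ[R] e) =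
      (ModuleCat.localizedModuleFunctor.{u} S).mapExtAddHom M N i e := by
    intro e
    rw [psi_tmul, one_smul]
    rfl
  constructor
  · intro y
    obtain ⟨t, rfl⟩ := hb.2 y
    obtain ⟨⟨e, s⟩, hes⟩ := IsLocalizedModule.surj S
      (TensorProduct.mk R (Localization S) (Ext M N i) 1) t
    refine ⟨e, s, ?_⟩
    rw [← hone, ← LinearMap.map_smul, algebraMap_smul]
    congr 1
  · intro e
    rw [← hone]
    constructor
    · intro h
      have h1 : (1 : Localization S) ⊗ₜ[R] e = 0 := by
        apply hb.1
        rw [h, map_zero]
      have h2 : TensorProduct.mk R (Localization S) (Ext M N i) 1 e = 0 := h1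
      rw [IsLocalizedModule.eq_zero_iff S] at h2
      exact h2
    · rintro ⟨s, hs⟩
      have h2 : TensorProduct.mk R (Localization S) (Ext M N i) 1 e = 0 := by
        rw [IsLocalizedModule.eq_zero_iff S]
        exact ⟨s, hs⟩
      have h1 : (1 : Localization S) ⊗ₜ[R] e = 0 := h2
      rw [h1, map_zero]

end Groth.Agent.Helper6.ExtBC
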