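import Mathlib
import Groth.Prelude.Def_CAlg
import Groth.Agent.Helper6.Bass5
import Groth.Agent.Helper1.Syzygy

/-!
# Finite self-injective dimension iff Gorenstein of finite Krull dimension
-/

set_option autoImplicit false
universe u

namespace Groth.Agent.Helper6.GorenFinDim

open CategoryTheory Abelian IsLocalRing

variable (A : Type u) [CommRing A] [IsNoetherianRing A]

/-- the localization of `A` as a module over itself, categorically -/
noncomputable def selfLocIso (S : Submonoid A) :
    (ModuleCat.of A A).localizedModule S ≅ ModuleCat.of (Localization S) (Localization S) :=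
  Groth.Agent.Helper1.Syzygy.locIso A S ≪≫
    (LinearEquiv.extendScalarsOfIsLocalization S (Localization S)
      (IsLocalizedModule.linearEquiv S (LocalizedModule.mkLinearMap S A)
        (Algebra.linearMap A (Localization S)))).toModuleIso

theorem forward (n : ℕ) (h : HasInjectiveDimensionLT (ModuleCat.of A A) n) :
    LocCoh.IsGorensteinRing A ∧ ringKrullDim A < ⊤ := by
  haveI : HasInjectiveDimensionLE (ModuleCat.of A A) n :=
    hasInjectiveDimensionLT_of_ge _ n (n + 1) (Nat.le_succ n)
  have hloc : ∀ (p : Ideal A) [p.IsPrime],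
      HasInjectiveDimensionLT (ModuleCat.of (Localization.AtPrime p) (Localization.AtPrime p))
        (n + 1) := by
    intro p _
    have h1 : HasInjectiveDimensionLE ((ModuleCat.of A A).localizedModule p.primeCompl) n :=
      ModuleCat.localizedModule_hasInjectiveDimensionLE n p.primeCompl (ModuleCat.of A A)
    exact hasInjectiveDimensionLT_of_iso (selfLocIso A p.primeCompl) (n + 1)
  have hG : ∀ (p : Ideal A) [p.IsPrime], LocCoh.IsGorensteinLocalRing (Localization.AtPrime p) :=
    fun p _ => LocCoh.IsGorensteinLocalRing.mk ⟨n + 1, hloc p⟩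
  refine ⟨LocCoh.IsGorensteinRing.mk hG, ?_⟩
  have hle : ringKrullDim A ≤ ((n : ℕ∞) : WithBot ℕ∞) := by
    rw [ringKrullDim_le_iff_height_le]
    intro p hp
    haveI := hp
    haveI := hG p
    have hfin : p.height ≠ ⊤ := Ideal.height_ne_top hp.ne_top
    obtain ⟨m, hm⟩ := ENat.ne_top_iff_exists.mp hfin
    have hdim : ringKrullDim (Localization.AtPrime p) = m := by
      rw [IsLocalization.AtPrime.ringKrullDim_eq_height p, ← hm]
      rfl
    obtain ⟨hne, -⟩ := Groth.Agent.Helper6.Bass.gorenstein_top (A := Localization.AtPrime p) m hdim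
    have hmn : m ≤ n := by
      by_contra hcon
      push Not at hcon
      haveI := hloc p
      exact hne (HasInjectiveDimensionLT.subsingleton
        (ModuleCat.of (Localization.AtPrime p) (Localization.AtPrime p)) (n + 1) m (by omega) _)
    rw [← hm]
    exact_mod_cast hmn
  refine lt_of_le_of_lt hle ?_
  exact WithBot.coe_lt_coe.mpr (ENat.natCast_lt_top n)

theorem injdim_le (hG : LocCoh.IsGorensteinRing A) (d : ℕ)
    (hd' : ringKrullDim A ≤ ((d : ℕ∞) : WithBot ℕ∞)) :
    HasInjectiveDimensionLE (ModuleCat.of A A) d := by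
  rw [ModuleCat.hasInjectiveDimensionLE_iff_forall_primeSpectrum]
  intro p
  haveI := hG.isGorensteinLocalRing_localization p.asIdeal
  have hht : p.asIdeal.height ≤ d := by
    have := (ringKrullDim_le_iff_height_le (R := A) _).mp hd' p.2
    exact_mod_cast this
  have hfin : p.asIdeal.height ≠ ⊤ := ne_top_of_le_ne_top (ENat.natCast_ne_top d) hht
  obtain ⟨m, hm⟩ := ENat.ne_top_iff_exists.mp hfin
  have hmd : m ≤ d := by
    rw [← hm] at hht
    exact_mod_cast hht
  have hdim : ringKrullDim (Localization.AtPrime p.asIdeal) = m := by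
    rw [IsLocalization.AtPrime.ringKrullDim_eq_height p.asIdeal, ← hm]
    rfl
  obtain ⟨-, hvan⟩ :=
    Groth.Agent.Helper6.Bass.gorenstein_top (A := Localization.AtPrime p.asIdeal) m hdim
  have h1 : HasInjectiveDimensionLT
      (ModuleCat.of (Localization.AtPrime p.asIdeal) (Localization.AtPrime p.asIdeal)) (m + 1) :=
    Groth.Agent.Helper6.Bass.hasInjectiveDimensionLT_of_ext_residueField
      (Localization.AtPrime p.asIdeal) m (fun i hi => hvan _ i hi)
  have h2 : HasInjectiveDimensionLT
      (ModuleCat.of (Localization.AtPrime p.asIdeal) (Localization.AtPrime p.asIdeal)) (d + 1) :=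
    hasInjectiveDimensionLT_of_ge _ (m + 1) (d + 1) (by omega)
  exact hasInjectiveDimensionLT_of_iso (selfLocIso A p.asIdeal.primeCompl).symm (d + 1)

theorem backward (hG : LocCoh.IsGorensteinRing A) (hd : ringKrullDim A < ⊤) :
    ∃ n : ℕ, HasInjectiveDimensionLT (ModuleCat.of A A) n := by
  -- a natural number bound for the dimension
  obtain ⟨d, hd'⟩ : ∃ d : ℕ, ringKrullDim A ≤ ((d : ℕ∞) : WithBot ℕ∞) := by
    generalize ringKrullDim A = x at hd
    induction x with
    | bot => exact ⟨0, bot_le⟩
    | coe x =>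
      induction x with
      | top => exact absurd hd (lt_irrefl _)
      | coe x => exact ⟨x, le_rfl⟩
  exact ⟨d + 1, injdim_le A hG d hd'⟩

theorem main :
    (∃ n : ℕ, HasInjectiveDimensionLT (ModuleCat.of A A) n) ↔
      (LocCoh.IsGorensteinRing A ∧ ringKrullDim A < ⊤) :=
  ⟨fun ⟨n, h⟩ => forward A n h, fun ⟨h1, h2⟩ => backward A h1 h2⟩

end Groth.Agent.Helper6.GorenFinDim
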