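import Mathlib
import Groth.Agent.Helper1.AssTensor
import Groth.Agent.Helper2.DepthFlat
import Groth.Agent.Helper6.Samuel1

/-!
# Regular elements on the closed fibre of a flat module (Matsumura 22.5, Noetherian local case)

`A → B` local homomorphism of Noetherian local rings, `N` a finite `B`-module flat over `A`,
`y : B` regular on `N / m_A N`.  Then `y` is regular on `N ⊗_A M` for every finite `A`-module `M`
and `N / y N` is flat over `A`.
-/

set_option autoImplicit false
universe u
open TensorProduct IsLocalRing
open scoped Pointwise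

namespace Groth.Agent.Helper6.FlatReg

section Basic

variable {A B : Type u} [CommRing A] [CommRing B] [Algebra A B]
  {N : Type u} [AddCommGroup N] [Module B N] [Module A N] [IsScalarTower A B N]

/-- multiplication by `y : B` on `N` as an `A`-linear map. -/
noncomputable def mulY (y : B) : N →ₗ[A] N := (LinearMap.lsmul B N y).restrictScalars A

@[simp] lemma mulY_apply (y : B) (n : N) : mulY (A := A) y n = y • n := rfl

lemma smul_eq_rTensor (y : B) (M : Type u) [AddCommGroup M] [Module A M] (z : N ⊗[A] M) :
    y • z = (mulY (A := A) y).rTensor M z := by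
  induction z using TensorProduct.induction_on with
  | zero => simp
  | tmul n m => rw [TensorProduct.smul_tmul', LinearMap.rTensor_tmul, mulY_apply]
  | add a b ha hb => rw [smul_add, ha, hb, map_add]

/-- naturality of `rTensor (mulY y)` with respect to `lTensor`. -/
lemma rTensor_lTensor_comm (y : B) {M₁ M₂ : Type u} [AddCommGroup M₁] [Module A M₁]
    [AddCommGroup M₂] [Module A M₂] (f : M₁ →ₗ[A] M₂) (z : N ⊗[A] M₁) :
    (mulY (A := A) y).rTensor M₂ (f.lTensor N z) = f.lTensor N ((mulY (A := A) y).rTensor M₁ z) := by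
  induction z using TensorProduct.induction_on with
  | zero => simp
  | tmul n m => simp
  | add a b ha hb => simp only [map_add, ha, hb]

end Basic

section Local

variable {A B : Type u} [CommRing A] [CommRing B] [Algebra A B] [IsLocalRing A]
  {N : Type u} [AddCommGroup N] [Module B N] [Module A N] [IsScalarTower A B N]

/-- the hypothesis in elementwise form: `y` is regular on `N / m N`. -/
def RegMod (y : B) : Prop :=
  ∀ n : N, y • n ∈ (maximalIdeal A • ⊤ : Submodule A N) → n ∈ (maximalIdeal A • ⊤ : Submodule A N)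

lemma regMod_of_isSMulRegular (y : B)
    (h : IsSMulRegular (N ⧸ ((maximalIdeal A).map (algebraMap A B) • (⊤ : Submodule B N))) y) :
    RegMod (A := A) (N := N) y := by
  intro n hn
  rw [← Groth.Agent.Helper1.AssTensor.mem_map_smul_top_iff (S := B)] at hn ⊢
  rw [← Submodule.Quotient.mk_eq_zero] at hn ⊢
  apply h
  show y • Submodule.Quotient.mk n = y • 0
  rw [smul_zero, ← Submodule.Quotient.mk_smul]
  exact hn

lemma isSMulRegular_of_regMod (y : B) (h : RegMod (A := A) (N := N) y) :
    IsSMulRegular (N ⧸ ((maximalIdeal A).map (algebraMap A B) • (⊤ : Submodule B N))) y := by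
  intro a b hab
  obtain ⟨a, rfl⟩ := Submodule.Quotient.mk_surjective _ a
  obtain ⟨b, rfl⟩ := Submodule.Quotient.mk_surjective _ b
  have h1 : y • (a - b) ∈ ((maximalIdeal A).map (algebraMap A B) • (⊤ : Submodule B N)) := by
    rw [← Submodule.Quotient.mk_eq_zero, smul_sub, Submodule.Quotient.mk_sub, sub_eq_zero]
    exact hab
  rw [Groth.Agent.Helper1.AssTensor.mem_map_smul_top_iff] at h1
  have h2 := h _ h1
  rw [← Groth.Agent.Helper1.AssTensor.mem_map_smul_top_iff (S := B)] at h2
  rw [← sub_eq_zero, ← Submodule.Quotient.mk_sub, Submodule.Quotient.mk_eq_zero]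
  exact h2

/-- Step 1: injectivity on `N ⊗ (A/m)`. -/
lemma rTensor_injective_residue (y : B) (h : RegMod (A := A) (N := N) y) :
    Function.Injective ((mulY (A := A) (N := N) y).rTensor (A ⧸ maximalIdeal A)) := by
  rw [injective_iff_map_eq_zero]
  intro z hz
  obtain ⟨n, rfl⟩ := Groth.Agent.Helper1.AssTensor.exists_tmul_one (maximalIdeal A) z
  rw [LinearMap.rTensor_tmul, mulY_apply,
    Groth.Agent.Helper1.AssTensor.tmul_one_eq_zero_iff] at hz
  rw [Groth.Agent.Helper1.AssTensor.tmul_one_eq_zero_iff]
  exact h n hz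

end Local

section Local2

variable {A B : Type u} [CommRing A] [CommRing B] [Algebra A B] [IsLocalRing A]
  {N : Type u} [AddCommGroup N] [Module B N] [Module A N] [IsScalarTower A B N]

lemma rTensor_injective_of_equiv (y : B) {M₁ M₂ : Type u} [AddCommGroup M₁] [Module A M₁]
    [AddCommGroup M₂] [Module A M₂] (e : M₁ ≃ₗ[A] M₂)
    (h : Function.Injective ((mulY (A := A) (N := N) y).rTensor M₂)) :
    Function.Injective ((mulY (A := A) (N := N) y).rTensor M₁) := by
  rw [injective_iff_map_eq_zero]
  intro z hz
  have h1 : (mulY (A := A) (N := N) y).rTensor M₂ (e.toLinearMap.lTensor N z) = 0 := by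
    rw [rTensor_lTensor_comm, hz, map_zero]
  have h2 := h (h1.trans (map_zero _).symm)
  have h3 : (e.symm.toLinearMap.lTensor N) (e.toLinearMap.lTensor N z) = z := by
    rw [← LinearMap.comp_apply, ← LinearMap.lTensor_comp]
    simp
  rw [← h3, h2, map_zero]

/-- Step 2: injectivity on `N ⊗ M'` for `M'` of finite length, `N` flat. -/
lemma rTensor_injective_of_isFiniteLength [Module.Flat A N] (y : B)
    (h : RegMod (A := A) (N := N) y) (M' : Type u) [AddCommGroup M'] [Module A M']
    (hM' : IsFiniteLength A M') :
    Function.Injective ((mulY (A := A) (N := N) y).rTensor M') := by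
  induction hM' with
  | @of_subsingleton M' _ _ _ =>
    intro a b _
    have hz : ∀ z : N ⊗[A] M', z = 0 := by
      intro z
      induction z using TensorProduct.induction_on with
      | zero => rfl
      | tmul n m => rw [Subsingleton.elim m 0, TensorProduct.tmul_zero]
      | add a b ha hb => rw [ha, hb, add_zero]
    rw [hz a, hz b]
  | @of_simple_quotient M' _ _ K hK _ ih =>
    obtain ⟨I, hI, ⟨e⟩⟩ := isSimpleModule_iff_quot_maximal.mp hK
    have hIm : I = maximalIdeal A := IsLocalRing.eq_maximalIdeal hI
    subst hIm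
    have hq : Function.Injective ((mulY (A := A) (N := N) y).rTensor (M' ⧸ K)) :=
      rTensor_injective_of_equiv y e (rTensor_injective_residue y h)
    have hex : Function.Exact (K.subtype.lTensor N) (K.mkQ.lTensor N) :=
      lTensor_exact N (LinearMap.exact_subtype_mkQ K) (Submodule.mkQ_surjective K)
    have hinj : Function.Injective (K.subtype.lTensor N) :=
      Module.Flat.lTensor_preserves_injective_linearMap _ K.injective_subtype
    rw [injective_iff_map_eq_zero]
    intro z hz
    have h1 : (mulY (A := A) (N := N) y).rTensor (M' ⧸ K) (K.mkQ.lTensor N z) = 0 := by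
      rw [rTensor_lTensor_comm, hz, map_zero]
    have h2 : K.mkQ.lTensor N z = 0 := hq (h1.trans (map_zero _).symm)
    obtain ⟨z₁, rfl⟩ := (hex z).mp h2
    rw [rTensor_lTensor_comm] at hz
    have h3 := hinj (hz.trans (map_zero _).symm)
    have h4 := ih (h3.trans (map_zero _).symm)
    rw [h4, map_zero]

end Local2

section Main

variable {A B : Type u} [CommRing A] [CommRing B] [Algebra A B] [IsLocalRing A] [IsLocalRing B]
  [IsNoetherianRing A] [IsNoetherianRing B] [IsLocalHom (algebraMap A B)]
  {N : Type u} [AddCommGroup N] [Module B N] [Module A N] [IsScalarTower A B N]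
  [Module.Finite B N]

omit [IsNoetherianRing A] [IsNoetherianRing B] [Module.Finite B N] in
lemma tmul_mem_pow_smul_top (M : Type u) [AddCommGroup M] [Module A M] (k : ℕ) (n' : N) (x : M)
    (hx : x ∈ (maximalIdeal A ^ k • ⊤ : Submodule A M)) :
    n' ⊗ₜ[A] x ∈ (maximalIdeal B ^ k • ⊤ : Submodule B (N ⊗[A] M)) := by
  refine Submodule.smul_induction_on hx ?_ ?_
  · intro a ha m' _
    have h1 : n' ⊗ₜ[A] (a • m') = algebraMap A B a • (n' ⊗ₜ[A] m') := by
      rw [TensorProduct.tmul_smul, algebraMap_smul]
    rw [h1]
    refine Submodule.smul_mem_smul ?_ trivial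
    have h2 : (maximalIdeal A ^ k).map (algebraMap A B) ≤ maximalIdeal B ^ k := by
      rw [Ideal.map_pow]
      exact Ideal.pow_right_mono (IsLocalRing.map_maximalIdeal_le (algebraMap A B)) k
    exact h2 (Ideal.mem_map_of_mem _ ha)
  · intro a b ha hb
    rw [TensorProduct.tmul_add]
    exact Submodule.add_mem _ ha hb

/-- Step 3 (Matsumura 22.5, regularity part): `y` regular on `N/mN`, `N` flat over `A` and finite
over `B` implies `y` acts injectively on `N ⊗_A M` for every finite `A`-module `M`. -/
theorem rTensor_injective [Module.Flat A N] (y : B) (h : RegMod (A := A) (N := N) y)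
    (M : Type u) [AddCommGroup M] [Module A M] [Module.Finite A M] :
    Function.Injective ((mulY (A := A) (N := N) y).rTensor M) := by
  have hfinT : Module.Finite B (N ⊗[A] M) := Groth.Agent.Helper2.DepthFlat.finite_tensor
  rw [injective_iff_map_eq_zero]
  intro z hz
  have hmem : ∀ k : ℕ, z ∈ (maximalIdeal B ^ k • ⊤ : Submodule B (N ⊗[A] M)) := by
    intro k
    set K : Submodule A M := maximalIdeal A ^ k • ⊤ with hK
    have hfl : IsFiniteLength A (M ⧸ K) :=
      Groth.Agent.Helper6.Samuel1.finLen (maximalIdeal A) ⟨1, by simp⟩ M K k le_rfl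
    have hq := rTensor_injective_of_isFiniteLength (N := N) y h (M ⧸ K) hfl
    have h1 : (mulY (A := A) (N := N) y).rTensor (M ⧸ K) (K.mkQ.lTensor N z) = 0 := by
      rw [rTensor_lTensor_comm, hz, map_zero]
    have h2 : K.mkQ.lTensor N z = 0 := hq (h1.trans (map_zero _).symm)
    have hex : Function.Exact (K.subtype.lTensor N) (K.mkQ.lTensor N) :=
      lTensor_exact N (LinearMap.exact_subtype_mkQ K) (Submodule.mkQ_surjective K)
    obtain ⟨w, rfl⟩ := (hex z).mp h2
    clear hz h1 h2
    induction w using TensorProduct.induction_on with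
    | zero => rw [map_zero]; exact Submodule.zero_mem _
    | tmul n' x =>
      rw [LinearMap.lTensor_tmul]
      exact tmul_mem_pow_smul_top M k n' _ x.2
    | add a b ha hb =>
      rw [map_add]
      exact Submodule.add_mem _ ha hb
  have hbot := Ideal.iInf_pow_smul_eq_bot_of_isLocalRing (R := B) (M := N ⊗[A] M)
    (maximalIdeal B) (Ideal.IsPrime.ne_top inferInstance)
  have : z ∈ (⨅ i : ℕ, maximalIdeal B ^ i • ⊤ : Submodule B (N ⊗[A] M)) :=
    (Submodule.mem_iInf _).mpr hmem
  rw [hbot] at this
  exact this

theorem isSMulRegular_tensor [Module.Flat A N] (y : B) (h : RegMod (A := A) (N := N) y)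
    (M : Type u) [AddCommGroup M] [Module A M] [Module.Finite A M] :
    IsSMulRegular (N ⊗[A] M) y := by
  intro a b hab
  apply rTensor_injective y h M
  rw [← smul_eq_rTensor, ← smul_eq_rTensor]
  exact hab

end Main

section Flat

variable {A B : Type u} [CommRing A] [CommRing B] [Algebra A B] [IsLocalRing A] [IsLocalRing B]
  [IsNoetherianRing A] [IsNoetherianRing B] [IsLocalHom (algebraMap A B)]
  {N : Type u} [AddCommGroup N] [Module B N] [Module A N] [IsScalarTower A B N]
  [Module.Finite B N]

/-- the quotient map `N → N / yN` as an `A`-linear map. -/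
noncomputable def quotY (y : B) : N →ₗ[A] QuotSMulTop y N :=
  (Submodule.mkQ (y • (⊤ : Submodule B N))).restrictScalars A

omit [IsLocalRing A] [IsLocalRing B] [IsNoetherianRing A] [IsNoetherianRing B]
  [IsLocalHom (algebraMap A B)] [Module.Finite B N] in
lemma quotY_surjective (y : B) : Function.Surjective (quotY (A := A) (N := N) y) :=
  Submodule.mkQ_surjective _

omit [IsLocalRing A] [IsLocalRing B] [IsNoetherianRing A] [IsNoetherianRing B]
  [IsLocalHom (algebraMap A B)] [Module.Finite B N] in
lemma exact_mulY_quotY (y : B) :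
    Function.Exact (mulY (A := A) (N := N) y) (quotY (A := A) (N := N) y) := by
  intro n
  constructor
  · intro hn
    have h1 : n ∈ y • (⊤ : Submodule B N) := (Submodule.Quotient.mk_eq_zero _).mp hn
    rw [Submodule.mem_smul_pointwise_iff_exists] at h1
    obtain ⟨n', -, rfl⟩ := h1
    exact ⟨n', rfl⟩
  · rintro ⟨n', rfl⟩
    refine (Submodule.Quotient.mk_eq_zero _).mpr ?_
    exact Submodule.smul_mem_pointwise_smul n' y ⊤ trivial

/-- Matsumura 22.5, flatness part: `N / y N` is flat over `A`. -/
theorem flat_quotSMulTop [Module.Flat A N] (y : B) (h : RegMod (A := A) (N := N) y) :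
    Module.Flat A (QuotSMulTop y N) := by
  rw [Module.Flat.iff_lTensor_injective']
  intro I
  have hπs := quotY_surjective (A := A) (N := N) y
  have hex := exact_mulY_quotY (A := A) (N := N) y
  rw [injective_iff_map_eq_zero]
  intro w hw
  obtain ⟨z, rfl⟩ := LinearMap.rTensor_surjective I hπs w
  have h1 : (quotY (A := A) (N := N) y).rTensor A (I.subtype.lTensor N z) = 0 := by
    rw [← hw, ← LinearMap.comp_apply, ← LinearMap.comp_apply, LinearMap.rTensor_comp_lTensor,
      LinearMap.lTensor_comp_rTensor]
  have hexA := rTensor_exact A hex hπs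
  obtain ⟨n₁, hn₁⟩ := (hexA _).mp h1
  have hexI : Function.Exact (I.subtype.lTensor N) ((Submodule.mkQ I).lTensor N) :=
    lTensor_exact N (LinearMap.exact_subtype_mkQ I) (Submodule.mkQ_surjective I)
  have h2 : (mulY (A := A) (N := N) y).rTensor (A ⧸ I) ((Submodule.mkQ I).lTensor N n₁) = 0 := by
    rw [rTensor_lTensor_comm, hn₁]
    exact (hexI _).mpr ⟨z, rfl⟩
  have h3 : (Submodule.mkQ I).lTensor N n₁ = 0 :=
    rTensor_injective y h (A ⧸ I) (h2.trans (map_zero _).symm)
  obtain ⟨z₂, rfl⟩ := (hexI n₁).mp h3
  have h4 : I.subtype.lTensor N ((mulY (A := A) (N := N) y).rTensor I z₂) =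
      I.subtype.lTensor N z := by
    rw [← rTensor_lTensor_comm]
    exact hn₁
  have h5 : (mulY (A := A) (N := N) y).rTensor I z₂ = z :=
    Module.Flat.lTensor_preserves_injective_linearMap _ I.injective_subtype h4
  rw [← h5, ← LinearMap.comp_apply, ← LinearMap.rTensor_comp]
  have h6 : (quotY (A := A) (N := N) y) ∘ₗ (mulY (A := A) (N := N) y) = 0 := by
    ext n
    exact (hex _).mpr ⟨n, rfl⟩
  rw [h6, LinearMap.rTensor_zero, LinearMap.zero_apply]

end Flat

end Groth.Agent.Helper6.FlatReg
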