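import Mathlib
import Groth.Agent.Helper6.FlatReg
import Groth.Agent.Helper2.DepthFlat
import Groth.Agent.Helper9.DepthKer

/-!
# The depth formula for flat local homomorphisms
`depth_B (N ⊗_A M) = depth_A M + depth_B (N / m_A N)`.
-/

set_option autoImplicit false
universe u
open TensorProduct IsLocalRing RingTheory.Sequence
open scoped Pointwise

namespace Groth.Agent.Helper6.FlatDepth

open Groth.Agent.Helper6.FlatReg

section Isos

variable {A B : Type u} [CommRing A] [CommRing B] [Algebra A B]
  {N : Type u} [AddCommGroup N] [Module B N] [Module A N] [IsScalarTower A B N]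

/-- `N ⊗ M → (N/yN) ⊗ M` as a `B`-linear map. -/
noncomputable def quotTensorMap (y : B) (M : Type u) [AddCommGroup M] [Module A M] :
    N ⊗[A] M →ₗ[B] (QuotSMulTop y N) ⊗[A] M :=
  TensorProduct.AlgebraTensorModule.map (Submodule.mkQ (y • (⊤ : Submodule B N))) LinearMap.id

lemma quotTensorMap_eq (y : B) (M : Type u) [AddCommGroup M] [Module A M] (z : N ⊗[A] M) :
    quotTensorMap y M z = (quotY (A := A) (N := N) y).rTensor M z := by
  induction z using TensorProduct.induction_on with
  | zero => simp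
  | tmul n m => rfl
  | add a b ha hb => rw [map_add, map_add, ha, hb]

lemma quotTensorMap_surjective (y : B) (M : Type u) [AddCommGroup M] [Module A M] :
    Function.Surjective (quotTensorMap (A := A) (N := N) y M) := by
  intro w
  obtain ⟨z, hz⟩ := LinearMap.rTensor_surjective M (quotY_surjective (A := A) (N := N) y) w
  exact ⟨z, (quotTensorMap_eq y M z).trans hz⟩

lemma ker_quotTensorMap (y : B) (M : Type u) [AddCommGroup M] [Module A M] :
    LinearMap.ker (quotTensorMap (A := A) (N := N) y M) = y • (⊤ : Submodule B (N ⊗[A] M)) := by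
  ext z
  rw [LinearMap.mem_ker, quotTensorMap_eq, Submodule.mem_smul_pointwise_iff_exists]
  have hex := rTensor_exact M (exact_mulY_quotY (A := A) (N := N) y)
    (quotY_surjective (A := A) (N := N) y)
  rw [hex z]
  constructor
  · rintro ⟨z', rfl⟩
    exact ⟨z', trivial, smul_eq_rTensor y M z'⟩
  · rintro ⟨z', -, rfl⟩
    exact ⟨z', (smul_eq_rTensor y M z').symm⟩

/-- `(N ⊗ M)/y ≅ (N/y) ⊗ M`. -/
noncomputable def tensorQuotEquiv (y : B) (M : Type u) [AddCommGroup M] [Module A M] :
    QuotSMulTop y (N ⊗[A] M) ≃ₗ[B] (QuotSMulTop y N) ⊗[A] M :=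
  (Submodule.quotEquivOfEq _ _ (ker_quotTensorMap y M).symm) ≪≫ₗ
    (quotTensorMap y M).quotKerEquivOfSurjective (quotTensorMap_surjective y M)

/-- `(N/y)/J ≅ (N/J)/y`. -/
noncomputable def fibQuotEquiv (y : B) (J : Ideal B) :
    ((QuotSMulTop y N) ⧸ (J • (⊤ : Submodule B (QuotSMulTop y N)))) ≃ₗ[B]
      QuotSMulTop y (N ⧸ (J • (⊤ : Submodule B N))) := by
  let S : Submodule B N := y • ⊤
  let T : Submodule B N := J • ⊤
  have h1 : T.map S.mkQ = J • (⊤ : Submodule B (QuotSMulTop y N)) := by
    rw [Submodule.map_smul'', Submodule.map_top, Submodule.range_mkQ]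
  have h2 : S.map T.mkQ = y • (⊤ : Submodule B (N ⧸ T)) := by
    rw [Submodule.map_pointwise_smul, Submodule.map_top, Submodule.range_mkQ]
  exact (Submodule.quotEquivOfEq _ _ h1.symm) ≪≫ₗ
    (Submodule.quotientQuotientEquivQuotientSup S T) ≪≫ₗ
    (Submodule.quotEquivOfEq _ _ (sup_comm S T)) ≪≫ₗ
    (Submodule.quotientQuotientEquivQuotientSup T S).symm ≪≫ₗ
    (Submodule.quotEquivOfEq _ _ h2)

end Isos

section Socle

variable {B : Type u} [CommRing B] [IsNoetherianRing B] [IsLocalRing B]

lemma exists_socle_of_depth_zero (F : Type u) [AddCommGroup F] [Module B F] [Module.Finite B F]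
    [Nontrivial F] (h : LocCoh.depth B F = 0) :
    ∃ y : F, y ≠ 0 ∧ ∀ b ∈ maximalIdeal B, b • y = 0 := by
  rw [Groth.Agent.Helper2.Depth.depth_eq_zero_iff] at h
  have hass := Groth.Agent.Helper2.Ass.maximalIdeal_mem_ass_of_forall_not_regular B F h
  rw [AssociatedPrimes.mem_iff, isAssociatedPrime_iff] at hass
  obtain ⟨hprime, y, hy⟩ := hass
  refine ⟨y, ?_, ?_⟩
  · rintro rfl
    have : (1 : B) ∈ maximalIdeal B := by
      rw [hy, Submodule.mem_colon_singleton, smul_zero]
      exact Submodule.zero_mem _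
    exact hprime.ne_top ((Ideal.eq_top_iff_one _).2 this)
  · intro b hb
    rw [hy, Submodule.mem_colon_singleton, Submodule.mem_bot] at hb
    exact hb

end Socle

section Main

open Groth.Agent.Helper2 Groth.Agent.Helper1.AssTensor

variable {A B M N : Type u} [CommRing A] [CommRing B]
    [IsNoetherianRing A] [IsNoetherianRing B] [IsLocalRing A] [IsLocalRing B] [Algebra A B]
    [IsLocalHom (algebraMap A B)] [AddCommGroup M] [Module A M] [Module.Finite A M]
    [AddCommGroup N] [Module B N] [Module A N] [IsScalarTower A B N] [Module.Finite B N]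
    [Nontrivial N] [Module.Flat A N]

theorem depth_tensor_of_fibre_depth_zero [Nontrivial M]
    (hN : LocCoh.depth B (EGA4.FibMod A B N) = 0) :
    LocCoh.depth B (N ⊗[A] M) = LocCoh.depth A M := by
  have hfinT : Module.Finite B (N ⊗[A] M) := Groth.Agent.Helper2.DepthFlat.finite_tensor
  have hIM : maximalIdeal A • (⊤ : Submodule A M) ≠ ⊤ := Depth.smul_top_ne_top A M
  obtain ⟨rs, hreg, hmem, hmax, hlen⟩ :=
    DepthCM.exists_length_eq_idealDepth (maximalIdeal A) M hIM
  have hM'nt : Nontrivial (M ⧸ Ideal.ofList rs • (⊤ : Submodule A M)) :=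
    Submodule.Quotient.nontrivial_iff.2 (DepthRees.ofList_smul_top_ne_top hIM rs hmem)
  have hnotreg : ∀ r ∈ maximalIdeal A,
      ¬ IsSMulRegular (M ⧸ Ideal.ofList rs • (⊤ : Submodule A M)) r := by
    intro r hr hcon
    apply hmax r hr
    rw [isWeaklyRegular_append_iff]
    refine ⟨hreg, ?_⟩
    rw [isWeaklyRegular_cons_iff]
    exact ⟨hcon, IsWeaklyRegular.nil _ _⟩
  have hass := Ass.maximalIdeal_mem_ass_of_forall_not_regular A
    (M ⧸ Ideal.ofList rs • (⊤ : Submodule A M)) hnotreg
  rw [AssociatedPrimes.mem_iff, isAssociatedPrime_iff_exists_injective_linearMap] at hass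
  obtain ⟨-, ι, hι⟩ := hass
  have hFnt : Nontrivial (EGA4.FibMod A B N) := Groth.Agent.Helper2.DepthFlat.fibMod_nontrivial
  obtain ⟨y, hy0, hy⟩ := exists_socle_of_depth_zero (EGA4.FibMod A B N) hN
  obtain ⟨n₀, rfl⟩ := Submodule.Quotient.mk_surjective _ y
  obtain ⟨ũ, hũ⟩ := Submodule.Quotient.mk_surjective _ (ι 1)
  -- the two descriptions of the submodule
  have hKB : ∀ z : N ⊗[A] M,
      z ∈ (Ideal.ofList (rs.map (algebraMap A B)) • (⊤ : Submodule B (N ⊗[A] M))) ↔
      z ∈ (Ideal.ofList rs • (⊤ : Submodule A (N ⊗[A] M))) := by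
    intro z
    rw [← Ideal.map_ofList]
    exact mem_map_smul_top_iff (Ideal.ofList rs) z
  have hmBN : ∀ z : N, z ∈ (EGA4.mB A B • (⊤ : Submodule B N)) ↔
      z ∈ (maximalIdeal A • (⊤ : Submodule A N)) := fun z =>
    mem_map_smul_top_iff (maximalIdeal A) z
  -- `ofList rs` kills `N ⊗ M'`
  have hkill : ∀ r ∈ Ideal.ofList rs,
      ∀ w : N ⊗[A] (M ⧸ Ideal.ofList rs • (⊤ : Submodule A M)), r • w = 0 := by
    intro r hr w
    induction w using TensorProduct.induction_on with
    | zero => rw [smul_zero]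
    | tmul n m =>
      obtain ⟨m, rfl⟩ := Submodule.Quotient.mk_surjective _ m
      rw [TensorProduct.smul_tmul', TensorProduct.smul_tmul, ← Submodule.Quotient.mk_smul,
        (Submodule.Quotient.mk_eq_zero _).2
          (Submodule.smul_mem_smul hr (Submodule.mem_top : m ∈ (⊤ : Submodule A M))),
        TensorProduct.tmul_zero]
    | add a b ha hb => rw [smul_add, ha, hb, add_zero]
  -- Claim 1
  have hne : n₀ ⊗ₜ[A] ũ ∉
      (Ideal.ofList (rs.map (algebraMap A B)) • (⊤ : Submodule B (N ⊗[A] M))) := by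
    intro hmem'
    rw [hKB] at hmem'
    have hq : LinearMap.lTensor N (Ideal.ofList rs • (⊤ : Submodule A M)).mkQ (n₀ ⊗ₜ[A] ũ) = 0 := by
      refine Submodule.smul_induction_on hmem' ?_ ?_
      · intro r hr z _
        rw [map_smul]
        exact hkill r hr _
      · intro a b ha hb
        rw [map_add, ha, hb, add_zero]
    rw [LinearMap.lTensor_tmul, Submodule.mkQ_apply, hũ] at hq
    have h1 : LinearMap.lTensor N ι (n₀ ⊗ₜ[A] (1 : A ⧸ maximalIdeal A)) = 0 := by
      rw [LinearMap.lTensor_tmul]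
      exact hq
    have h2 : n₀ ⊗ₜ[A] (1 : A ⧸ maximalIdeal A) = 0 := by
      apply Module.Flat.lTensor_preserves_injective_linearMap ι hι
      rw [h1, map_zero]
    rw [tmul_one_eq_zero_iff, ← hmBN] at h2
    apply hy0
    exact (Submodule.Quotient.mk_eq_zero _).2 h2
  -- Claim 2
  have hsoc : ∀ b ∈ maximalIdeal B, (b • n₀) ⊗ₜ[A] ũ ∈
      (Ideal.ofList (rs.map (algebraMap A B)) • (⊤ : Submodule B (N ⊗[A] M))) := by
    intro b hb
    have h1 := hy b hb
    rw [← Submodule.Quotient.mk_smul, Submodule.Quotient.mk_eq_zero, hmBN] at h1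
    rw [hKB]
    refine Submodule.smul_induction_on h1 ?_ ?_
    · intro a ha n _
      rw [TensorProduct.smul_tmul]
      have h2 : a • ũ ∈ Ideal.ofList rs • (⊤ : Submodule A M) := by
        rw [← Submodule.Quotient.mk_eq_zero, Submodule.Quotient.mk_smul, hũ, ← map_smul]
        have : a • (1 : A ⧸ maximalIdeal A) = 0 := by
          rw [← Algebra.algebraMap_eq_smul_one, Ideal.Quotient.algebraMap_eq,
            Ideal.Quotient.eq_zero_iff_mem]
          exact ha
        rw [this, map_zero]
      refine Submodule.smul_induction_on h2 ?_ ?_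
      · intro r hr m _
        rw [TensorProduct.tmul_smul]
        exact Submodule.smul_mem_smul hr trivial
      · intro x y hx hy'
        rw [TensorProduct.tmul_add]
        exact Submodule.add_mem _ hx hy'
    · intro x y hx hy'
      rw [TensorProduct.add_tmul]
      exact Submodule.add_mem _ hx hy'
  -- the quotient
  have hT'nt : Nontrivial ((N ⊗[A] M) ⧸
      (Ideal.ofList (rs.map (algebraMap A B)) • (⊤ : Submodule B (N ⊗[A] M)))) := by
    refine ⟨⟨Submodule.Quotient.mk (n₀ ⊗ₜ[A] ũ), 0, ?_⟩⟩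
    rw [Ne, Submodule.Quotient.mk_eq_zero]
    exact hne
  have hTnt : Nontrivial (N ⊗[A] M) := by
    by_contra hcon
    rw [not_nontrivial_iff_subsingleton] at hcon
    apply hne
    rw [Subsingleton.elim (n₀ ⊗ₜ[A] ũ) 0]
    exact Submodule.zero_mem _
  have hd0 : LocCoh.depth B ((N ⊗[A] M) ⧸
      (Ideal.ofList (rs.map (algebraMap A B)) • (⊤ : Submodule B (N ⊗[A] M)))) = 0 := by
    rw [Depth.depth_eq_zero_iff]
    intro b hb hcon
    apply hne
    rw [← Submodule.Quotient.mk_eq_zero]
    apply hcon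
    show b • Submodule.Quotient.mk (n₀ ⊗ₜ[A] ũ) = b • 0
    rw [smul_zero, ← Submodule.Quotient.mk_smul, TensorProduct.smul_tmul',
      Submodule.Quotient.mk_eq_zero]
    exact hsoc b hb
  have hregT : IsWeaklyRegular (N ⊗[A] M) (rs.map (algebraMap A B)) :=
    (isWeaklyRegular_map_algebraMap_iff B (N ⊗[A] M) rs).2 hreg.isWeaklyRegular_lTensor
  have hmemT : ∀ r ∈ rs.map (algebraMap A B), r ∈ maximalIdeal B := by
    intro r hr
    obtain ⟨a, ha, rfl⟩ := List.mem_map.1 hr
    exact IsLocalRing.map_maximalIdeal_le (algebraMap A B) (Ideal.mem_map_of_mem _ (hmem a ha))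
  have hIT : maximalIdeal B • (⊤ : Submodule B (N ⊗[A] M)) ≠ ⊤ := Depth.smul_top_ne_top B _
  have hadd := DepthCM.idealDepth_quot_ofList (maximalIdeal B) (N ⊗[A] M) hIT
    (rs.map (algebraMap A B)) hregT hmemT
  unfold LocCoh.depth at hd0 ⊢
  rw [hd0, zero_add, List.length_map] at hadd
  rw [← hadd, hlen]


end Main

section Induct

open Groth.Agent.Helper2

variable {A B : Type u} [CommRing A] [CommRing B]
    [IsNoetherianRing A] [IsNoetherianRing B] [IsLocalRing A] [IsLocalRing B] [Algebra A B]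
    [IsLocalHom (algebraMap A B)]

omit [IsNoetherianRing A] [IsNoetherianRing B] [IsLocalRing A] [Algebra A B]
  [IsLocalHom (algebraMap A B)] in
lemma quotSMulTop_nontrivial (N : Type u) [AddCommGroup N] [Module B N] [Module.Finite B N]
    [Nontrivial N] (y : B) (hy : y ∈ maximalIdeal B) : Nontrivial (QuotSMulTop y N) := by
  rw [Submodule.Quotient.nontrivial_iff]
  intro h
  apply Depth.smul_top_ne_top B N
  rw [eq_top_iff]
  intro z _
  have hz : z ∈ y • (⊤ : Submodule B N) := by rw [h]; trivial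
  rw [Submodule.mem_smul_pointwise_iff_exists] at hz
  obtain ⟨z', -, rfl⟩ := hz
  exact Submodule.smul_mem_smul hy (Submodule.mem_top (x := z'))

theorem depth_tensor_aux : ∀ (s : ℕ) (N : Type u) [AddCommGroup N] [Module B N] [Module A N]
    [IsScalarTower A B N] [Module.Finite B N] [Nontrivial N] [Module.Flat A N],
    LocCoh.depth B (EGA4.FibMod A B N) = s →
    ∀ (M : Type u) [AddCommGroup M] [Module A M] [Module.Finite A M] [Nontrivial M],
      LocCoh.depth B (N ⊗[A] M) = LocCoh.depth A M + s := by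
  intro s
  induction s with
  | zero =>
    intro N _ _ _ _ _ _ _ h0 M _ _ _ _
    rw [depth_tensor_of_fibre_depth_zero (by exact_mod_cast h0)]
    simp
  | succ s ih =>
    intro N _ _ _ _ _ _ _ hs M _ _ _ _
    have hFnt : Nontrivial (EGA4.FibMod A B N) := Groth.Agent.Helper2.DepthFlat.fibMod_nontrivial
    have hIF : maximalIdeal B • (⊤ : Submodule B (EGA4.FibMod A B N)) ≠ ⊤ :=
      Depth.smul_top_ne_top B _
    -- a regular element on the fibre
    have hne0 : LocCoh.depth B (EGA4.FibMod A B N) ≠ 0 := by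
      rw [hs]
      exact_mod_cast Nat.succ_ne_zero s
    rw [Ne, Depth.depth_eq_zero_iff] at hne0
    push Not at hne0
    obtain ⟨y, hy, hyreg⟩ := hne0
    have h1 := DepthCM.idealDepth_quotSMulTop (maximalIdeal B) (EGA4.FibMod A B N) hIF y hy hyreg
    have hRM : RegMod (A := A) (N := N) y := regMod_of_isSMulRegular y hyreg
    haveI : Module.Flat A (QuotSMulTop y N) := flat_quotSMulTop y hRM
    haveI : Nontrivial (QuotSMulTop y N) := quotSMulTop_nontrivial N y hy
    have h2 : LocCoh.depth B (EGA4.FibMod A B (QuotSMulTop y N)) = s := by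
      unfold LocCoh.depth at hs ⊢
      rw [DepthCM.idealDepth_congr (maximalIdeal B) (fibQuotEquiv y (EGA4.mB A B))]
      rw [hs] at h1
      have h3 : LocCoh.idealDepth (maximalIdeal B) (QuotSMulTop y (EGA4.FibMod A B N)) + 1 =
          (s : ℕ∞) + 1 := by
        rw [h1]; push_cast; rfl
      exact (ENat.add_left_injective_of_ne_top (ENat.one_ne_top)) h3
    have h4 := ih (QuotSMulTop y N) h2 M
    have hfinT : Module.Finite B (N ⊗[A] M) := Groth.Agent.Helper2.DepthFlat.finite_tensor
    have hTnt : Nontrivial (N ⊗[A] M) := by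
      by_contra hcon
      rw [not_nontrivial_iff_subsingleton] at hcon
      have : Subsingleton ((QuotSMulTop y N) ⊗[A] M) :=
        (tensorQuotEquiv (A := A) (N := N) y M).symm.toEquiv.subsingleton
      have h5 : LocCoh.depth B ((QuotSMulTop y N) ⊗[A] M) = ⊤ :=
        DepthLoc.depth_eq_top_of_subsingleton B _
      rw [h4] at h5
      have h6 : LocCoh.depth A M ≠ ⊤ :=
        DepthCM.idealDepth_ne_top (maximalIdeal A) M (Depth.smul_top_ne_top A M)
      exact (WithTop.add_ne_top.mpr ⟨h6, ENat.natCast_ne_top s⟩) h5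
    have hIT : maximalIdeal B • (⊤ : Submodule B (N ⊗[A] M)) ≠ ⊤ := Depth.smul_top_ne_top B _
    have hyT : IsSMulRegular (N ⊗[A] M) y := isSMulRegular_tensor y hRM M
    have h7 := DepthCM.idealDepth_quotSMulTop (maximalIdeal B) (N ⊗[A] M) hIT y hy hyT
    unfold LocCoh.depth at h4 ⊢
    rw [DepthCM.idealDepth_congr (maximalIdeal B) (tensorQuotEquiv (A := A) (N := N) y M)] at h7
    rw [← h7, h4]
    push_cast
    rw [add_assoc]

end Induct

section Final

open Groth.Agent.Helper2

variable {A B : Type u} [CommRing A] [CommRing B]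
    [IsNoetherianRing A] [IsNoetherianRing B] [IsLocalRing A] [IsLocalRing B] [Algebra A B]
    [IsLocalHom (algebraMap A B)]

/-- **Depth formula** for a flat local homomorphism (EGA IV 6.3.1, Matsumura 23.3). -/
theorem depth_tensor (M N : Type u) [AddCommGroup M] [Module A M] [Module.Finite A M]
    [AddCommGroup N] [Module B N] [Module A N] [IsScalarTower A B N] [Module.Finite B N]
    [Module.Flat A N] :
    LocCoh.depth B (N ⊗[A] M) = LocCoh.depth A M + LocCoh.depth B (EGA4.FibMod A B N) := by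
  rcases subsingleton_or_nontrivial N with hN | hN
  · have h1 : Subsingleton (N ⊗[A] M) := by
      refine ⟨fun a b => ?_⟩
      have hz : ∀ z : N ⊗[A] M, z = 0 := by
        intro z
        induction z using TensorProduct.induction_on with
        | zero => rfl
        | tmul n m => rw [Subsingleton.elim n 0, TensorProduct.zero_tmul]
        | add a b ha hb => rw [ha, hb, add_zero]
      rw [hz a, hz b]
    have h2 : Subsingleton (EGA4.FibMod A B N) := by
      refine ⟨fun a b => ?_⟩
      obtain ⟨a, rfl⟩ := Submodule.Quotient.mk_surjective _ a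
      obtain ⟨b, rfl⟩ := Submodule.Quotient.mk_surjective _ b
      rw [Subsingleton.elim a b]
    rw [DepthLoc.depth_eq_top_of_subsingleton B (N ⊗[A] M),
      DepthLoc.depth_eq_top_of_subsingleton B (EGA4.FibMod A B N), add_top]
  rcases subsingleton_or_nontrivial M with hM | hM
  · have h1 : Subsingleton (N ⊗[A] M) := by
      refine ⟨fun a b => ?_⟩
      have hz : ∀ z : N ⊗[A] M, z = 0 := by
        intro z
        induction z using TensorProduct.induction_on with
        | zero => rfl
        | tmul n m => rw [Subsingleton.elim m 0, TensorProduct.tmul_zero]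
        | add a b ha hb => rw [ha, hb, add_zero]
      rw [hz a, hz b]
    rw [DepthLoc.depth_eq_top_of_subsingleton B (N ⊗[A] M),
      DepthLoc.depth_eq_top_of_subsingleton A M, top_add]
  have hFnt : Nontrivial (EGA4.FibMod A B N) := Groth.Agent.Helper2.DepthFlat.fibMod_nontrivial
  have hne : LocCoh.depth B (EGA4.FibMod A B N) ≠ ⊤ :=
    DepthCM.idealDepth_ne_top (maximalIdeal B) _ (Depth.smul_top_ne_top B _)
  obtain ⟨s, hs⟩ := ENat.ne_top_iff_exists.mp hne
  rw [depth_tensor_aux s N hs.symm M, hs]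

end Final

end Groth.Agent.Helper6.FlatDepth
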