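import Mathlib

/-!
# Dimension (in)equality for local homomorphisms, quotient-ring form
-/

set_option autoImplicit false
universe u
open IsLocalRing

namespace Groth.Agent.Helper6.FlatDimRing

section MaxQuot

variable {R : Type u} [CommRing R] [IsLocalRing R]

lemma maximalIdeal_quotient (I : Ideal R) [IsLocalRing (R ⧸ I)] :
    maximalIdeal (R ⧸ I) = (maximalIdeal R).map (Ideal.Quotient.mk I) := by
  have hI : I ≠ ⊤ := by
    intro h
    have : Subsingleton (R ⧸ I) := by rw [h]; exact Ideal.Quotient.subsingleton_iff.mpr rfl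
    exact not_subsingleton (R ⧸ I) this
  rcases Ideal.map_eq_top_or_isMaximal_of_surjective (Ideal.Quotient.mk I)
    Ideal.Quotient.mk_surjective (maximalIdeal.isMaximal R) with h | h
  · exfalso
    have h1 : (1 : R ⧸ I) ∈ (maximalIdeal R).map (Ideal.Quotient.mk I) := by rw [h]; trivial
    rw [Ideal.mem_map_iff_of_surjective _ Ideal.Quotient.mk_surjective] at h1
    obtain ⟨x, hx, hx1⟩ := h1
    have h2 : x - 1 ∈ I := by
      rw [← Ideal.Quotient.eq_zero_iff_mem, map_sub, hx1, map_one, sub_self]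
    have h3 : x - 1 ∈ maximalIdeal R := IsLocalRing.le_maximalIdeal hI h2
    have h4 : (1 : R) ∈ maximalIdeal R := by
      have := (maximalIdeal R).sub_mem hx h3
      simpa using this
    exact (maximalIdeal.isMaximal R).ne_top ((Ideal.eq_top_iff_one _).mpr h4)
  · exact (IsLocalRing.eq_maximalIdeal h).symm

end MaxQuot

section Main

variable {A B : Type u} [CommRing A] [CommRing B] [Algebra A B] [IsLocalRing A] [IsLocalRing B]
  [IsNoetherianRing A] [IsNoetherianRing B] [IsLocalHom (algebraMap A B)]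

/-- the algebra structure `A/I → B/K`. -/
@[reducible] noncomputable def quotAlgebra (I : Ideal A) (K : Ideal B)
    (hIK : I.map (algebraMap A B) ≤ K) : Algebra (A ⧸ I) (B ⧸ K) :=
  (Ideal.quotientMap K (algebraMap A B) (Ideal.map_le_iff_le_comap.mp hIK)).toAlgebra

theorem key (I : Ideal A) (K : Ideal B) (hIK : I.map (algebraMap A B) ≤ K) (hK : K ≠ ⊤) :
    ∃ (p : Ideal (A ⧸ I)) (P : Ideal (B ⧸ K)) (_ : p.IsPrime) (_ : P.IsPrime)
      (_ : @Ideal.LiesOver _ _ _ _ (quotAlgebra I K hIK) P p),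
      ((p.height : ℕ∞) : WithBot ℕ∞) = ringKrullDim (A ⧸ I) ∧
      ((P.height : ℕ∞) : WithBot ℕ∞) = ringKrullDim (B ⧸ K) ∧
      (((P.map (Ideal.Quotient.mk (p.map (@algebraMap _ _ _ _ (quotAlgebra I K hIK))))).height : ℕ∞)
        : WithBot ℕ∞) = ringKrullDim (B ⧸ (K ⊔ (maximalIdeal A).map (algebraMap A B))) := by
  letI alg := quotAlgebra I K hIK
  have hI : I ≠ ⊤ := by
    rintro rfl
    apply hK
    rw [Ideal.map_top] at hIK
    exact top_le_iff.mp hIK
  haveI : Nontrivial (A ⧸ I) := Ideal.Quotient.nontrivial_iff.mpr hI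
  haveI : Nontrivial (B ⧸ K) := Ideal.Quotient.nontrivial_iff.mpr hK
  haveI : IsLocalRing (A ⧸ I) :=
    IsLocalRing.of_surjective' (Ideal.Quotient.mk I) Ideal.Quotient.mk_surjective
  haveI : IsLocalRing (B ⧸ K) :=
    IsLocalRing.of_surjective' (Ideal.Quotient.mk K) Ideal.Quotient.mk_surjective
  have hmA := maximalIdeal_quotient I
  have hmB := maximalIdeal_quotient K
  have halg : ∀ a : A, algebraMap (A ⧸ I) (B ⧸ K) (Ideal.Quotient.mk I a) =
      Ideal.Quotient.mk K (algebraMap A B a) := fun a => rfl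
  -- the image of `m_A'` in `B'`
  have hmap : (maximalIdeal (A ⧸ I)).map (algebraMap (A ⧸ I) (B ⧸ K)) =
      ((maximalIdeal A).map (algebraMap A B)).map (Ideal.Quotient.mk K) := by
    rw [hmA, Ideal.map_map, Ideal.map_map]
    congr 1
  have hmBle : (maximalIdeal A).map (algebraMap A B) ≤ maximalIdeal B :=
    IsLocalRing.map_maximalIdeal_le (algebraMap A B)
  have hle : (maximalIdeal (A ⧸ I)).map (algebraMap (A ⧸ I) (B ⧸ K)) ≤ maximalIdeal (B ⧸ K) := by
    rw [hmap, hmB]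
    exact Ideal.map_mono hmBle
  haveI hloc : IsLocalHom (algebraMap (A ⧸ I) (B ⧸ K)) :=
    ((IsLocalRing.local_hom_TFAE (algebraMap (A ⧸ I) (B ⧸ K))).out 0 2 rfl rfl).mpr hle
  have hover : (maximalIdeal (B ⧸ K)).LiesOver (maximalIdeal (A ⧸ I)) := by
    refine ⟨?_⟩
    have h5 := ((IsLocalRing.local_hom_TFAE (algebraMap (A ⧸ I) (B ⧸ K))).out 0 4 rfl rfl).mp hloc
    exact h5.symm
  refine ⟨maximalIdeal (A ⧸ I), maximalIdeal (B ⧸ K), inferInstance, inferInstance, hover,
    IsLocalRing.maximalIdeal_height_eq_ringKrullDim, IsLocalRing.maximalIdeal_height_eq_ringKrullDim,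
    ?_⟩
  -- the fibre ring
  set J : Ideal (B ⧸ K) := (maximalIdeal (A ⧸ I)).map (algebraMap (A ⧸ I) (B ⧸ K)) with hJ
  have hJtop : J ≠ ⊤ := fun h => (maximalIdeal.isMaximal (B ⧸ K)).ne_top (top_le_iff.mp (h ▸ hle))
  haveI : Nontrivial ((B ⧸ K) ⧸ J) := Ideal.Quotient.nontrivial_iff.mpr hJtop
  haveI : IsLocalRing ((B ⧸ K) ⧸ J) :=
    IsLocalRing.of_surjective' (Ideal.Quotient.mk J) Ideal.Quotient.mk_surjective
  rw [← maximalIdeal_quotient J, IsLocalRing.maximalIdeal_height_eq_ringKrullDim]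
  have e1 : ((B ⧸ K) ⧸ J) ≃+* ((B ⧸ K) ⧸
      ((maximalIdeal A).map (algebraMap A B)).map (Ideal.Quotient.mk K)) :=
    Ideal.quotEquivOfEq hmap
  have e2 := DoubleQuot.quotQuotEquivQuotSup K ((maximalIdeal A).map (algebraMap A B))
  exact ringKrullDim_eq_of_ringEquiv (e1.trans e2)

/-- Dimension inequality (Matsumura 15.1 (i)) in quotient form. -/
theorem dim_quot_le (I : Ideal A) (K : Ideal B) (hIK : I.map (algebraMap A B) ≤ K) (hK : K ≠ ⊤) :
    ringKrullDim (B ⧸ K) ≤ ringKrullDim (A ⧸ I) +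
      ringKrullDim (B ⧸ (K ⊔ (maximalIdeal A).map (algebraMap A B))) := by
  letI alg := quotAlgebra I K hIK
  obtain ⟨p, P, hp, hP, hPp, h1, h2, h3⟩ := key I K hIK hK
  rw [← h1, ← h2, ← h3]
  have := Ideal.height_le_height_add_of_liesOver p P
  exact_mod_cast this

/-- Dimension equality under going-down, in quotient form. -/
theorem dim_quot_eq (I : Ideal A) (K : Ideal B) (hIK : I.map (algebraMap A B) ≤ K) (hK : K ≠ ⊤)
    (hgd : @Algebra.HasGoingDown (A ⧸ I) (B ⧸ K) _ _ (quotAlgebra I K hIK)) :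
    ringKrullDim (B ⧸ K) = ringKrullDim (A ⧸ I) +
      ringKrullDim (B ⧸ (K ⊔ (maximalIdeal A).map (algebraMap A B))) := by
  letI alg := quotAlgebra I K hIK
  obtain ⟨p, P, hp, hP, hPp, h1, h2, h3⟩ := key I K hIK hK
  rw [← h1, ← h2, ← h3]
  have := Ideal.height_eq_height_add_of_liesOver_of_hasGoingDown p P
  exact_mod_cast this

end Main

end Groth.Agent.Helper6.FlatDimRing
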