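import Mathlib
import Groth.Agent.Helper3.SuppBC

/-!
# Support of `N ⊗[A] M` for `N` a finite `B`-module and `M` a finite `A`-module
-/

set_option autoImplicit false
universe u
open TensorProduct

namespace Groth.Agent.Helper6.SuppTensor

variable {A B : Type u} [CommRing A] [CommRing B] [Algebra A B]
  {M N : Type u} [AddCommGroup M] [Module A M] [Module.Finite A M]
  [AddCommGroup N] [Module B N] [Module A N] [IsScalarTower A B N] [Module.Finite B N]

example (K V : Type u) [Field K] [AddCommGroup V] [Module K V] [Nontrivial V] :
    Module.FaithfullyFlat K V := inferInstance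

theorem mem_support_tensor_of (q : PrimeSpectrum B) (h1 : q ∈ Module.support B N)
    (h2 : q.comap (algebraMap A B) ∈ Module.support A M) :
    q ∈ Module.support B (N ⊗[A] M) := by
  haveI : Module.Finite B (N ⊗[A] M) := by
    classical
    obtain ⟨n, f, hf⟩ := Module.Finite.exists_fin' A M
    let g : N ⊗[A] (Fin n → A) →ₗ[B] N ⊗[A] M := TensorProduct.AlgebraTensorModule.lTensor B N f
    have hg : Function.Surjective g := by
      have : (g : N ⊗[A] (Fin n → A) → N ⊗[A] M) = f.lTensor N := by
        ext x
        rfl
      rw [this]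
      exact LinearMap.lTensor_surjective N hf
    let e := TensorProduct.piScalarRight A B N (Fin n)
    exact Module.Finite.of_surjective (g ∘ₗ e.symm.toLinearMap) (hg.comp e.symm.surjective)
  rw [Module.mem_support_iff_nontrivial_residueField_tensorProduct] at h1 ⊢
  let L := q.asIdeal.ResidueField
  have hker : RingHom.ker (algebraMap A L) = (q.comap (algebraMap A B)).asIdeal := by
    ext a
    rw [RingHom.mem_ker, IsScalarTower.algebraMap_apply A B L,
      Ideal.algebraMap_residueField_eq_zero]
    rfl
  have h3 : Nontrivial (L ⊗[A] M) :=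
    Groth.Agent.Helper3.SuppBC.nontrivial_field_tensor (M := M) L _ hker h2
  have h4 : Nontrivial ((L ⊗[B] N) ⊗[L] (L ⊗[A] M)) :=
    (Module.FaithfullyFlat.nontrivial_tensorProduct_iff_right L (L ⊗[B] N)).mpr h3
  have e1 := AlgebraTensorModule.cancelBaseChange A L L (L ⊗[B] N) M
  have e2 := AlgebraTensorModule.assoc A B L L N M
  exact (e1.toEquiv.trans e2.toEquiv).symm.nontrivial

end Groth.Agent.Helper6.SuppTensor
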