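import Mathlib
import Groth.Agent.Helper6.SuppTensor
import Groth.Agent.Helper6.FlatDimRing
import Groth.Agent.Helper2.DepthFlat

/-!
# Dimension of `N ⊗_A M` for a local homomorphism `A → B`
-/

set_option autoImplicit false
universe u
open TensorProduct IsLocalRing

namespace Groth.Agent.Helper6.FlatDim

open Groth.Agent.Helper6.SuppTensor Groth.Agent.Helper6.FlatDimRing

section Ann

variable {A B : Type u} [CommRing A] [CommRing B] [Algebra A B]
  (M N : Type u) [AddCommGroup M] [Module A M]
  [AddCommGroup N] [Module B N] [Module A N] [IsScalarTower A B N]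

lemma ann_map_le : (Module.annihilator A M).map (algebraMap A B) ≤
    Module.annihilator B (N ⊗[A] M) := by
  rw [Ideal.map_le_iff_le_comap]
  intro a ha
  rw [Ideal.mem_comap, Module.mem_annihilator]
  intro z
  induction z using TensorProduct.induction_on with
  | zero => rw [smul_zero]
  | tmul n m =>
    rw [TensorProduct.smul_tmul', algebraMap_smul, TensorProduct.smul_tmul,
      Module.mem_annihilator.mp ha, TensorProduct.tmul_zero]
  | add x y hx hy => rw [smul_add, hx, hy, add_zero]

lemma ann_le : Module.annihilator B N ≤ Module.annihilator B (N ⊗[A] M) := by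
  intro b hb
  rw [Module.mem_annihilator] at hb ⊢
  intro z
  induction z using TensorProduct.induction_on with
  | zero => rw [smul_zero]
  | tmul n m => rw [TensorProduct.smul_tmul', hb, TensorProduct.zero_tmul]
  | add x y hx hy => rw [smul_add, hx, hy, add_zero]

end Ann

section Dim

variable {A B : Type u} [CommRing A] [CommRing B] [Algebra A B] [IsLocalRing A] [IsLocalRing B]
  [IsNoetherianRing A] [IsNoetherianRing B] [IsLocalHom (algebraMap A B)]
  (M N : Type u) [AddCommGroup M] [Module A M] [Module.Finite A M]
  [AddCommGroup N] [Module B N] [Module A N] [IsScalarTower A B N] [Module.Finite B N]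

omit [IsNoetherianRing A] [IsNoetherianRing B] in
/-- the support of the closed fibre. -/
lemma support_fib [Nontrivial M] :
    Module.support B (N ⧸ ((maximalIdeal A).map (algebraMap A B) • (⊤ : Submodule B N))) =
      PrimeSpectrum.zeroLocus ((Module.annihilator B (N ⊗[A] M) ⊔
        (maximalIdeal A).map (algebraMap A B) : Ideal B) : Set B) := by
  haveI : Module.Finite B (N ⊗[A] M) := Groth.Agent.Helper2.DepthFlat.finite_tensor
  rw [Module.support_quotient, PrimeSpectrum.zeroLocus_sup, ← Module.support_eq_zeroLocus]
  ext q
  constructor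
  · rintro ⟨h1, h2⟩
    refine ⟨?_, h2⟩
    apply mem_support_tensor_of q h1
    have h3 : (q.comap (algebraMap A B)).asIdeal = maximalIdeal A := by
      apply (IsLocalRing.eq_maximalIdeal ?_)
      have hle : maximalIdeal A ≤ (q.comap (algebraMap A B)).asIdeal := by
        rw [PrimeSpectrum.comap_asIdeal, ← Ideal.map_le_iff_le_comap]
        exact h2
      have := (maximalIdeal.isMaximal A).eq_of_le (q.comap (algebraMap A B)).2.ne_top hle
      rw [← this]
      exact maximalIdeal.isMaximal A
    have h4 : q.comap (algebraMap A B) = IsLocalRing.closedPoint A := PrimeSpectrum.ext h3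
    rw [h4]
    exact IsLocalRing.closedPoint_mem_support A M
  · rintro ⟨h1, h2⟩
    refine ⟨?_, h2⟩
    rw [Module.mem_support_iff_of_finite] at h1 ⊢
    exact (ann_le M N).trans h1

/-- **Dimension inequality** (EGA 0_IV 16.3.9 / Matsumura 15.1) for modules. -/
theorem supportDim_tensor_le :
    Module.supportDim B (N ⊗[A] M) ≤ Module.supportDim A M +
      Module.supportDim B (N ⧸ ((maximalIdeal A).map (algebraMap A B) • (⊤ : Submodule B N))) := by
  haveI : Module.Finite B (N ⊗[A] M) := Groth.Agent.Helper2.DepthFlat.finite_tensor
  rcases subsingleton_or_nontrivial (N ⊗[A] M) with hT | hT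
  · rw [Module.supportDim_eq_bot_of_subsingleton]
    exact bot_le
  have hM : Nontrivial M := by
    by_contra hcon
    rw [not_nontrivial_iff_subsingleton] at hcon
    have hz : ∀ z : N ⊗[A] M, z = 0 := by
      intro z
      induction z using TensorProduct.induction_on with
      | zero => rfl
      | tmul n m => rw [Subsingleton.elim m 0, TensorProduct.tmul_zero]
      | add a b ha hb => rw [ha, hb, add_zero]
    obtain ⟨x, y, hxy⟩ := hT
    exact hxy ((hz x).trans (hz y).symm)
  have hK : Module.annihilator B (N ⊗[A] M) ≠ ⊤ := by
    intro h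
    have h1 : (1 : B) ∈ Module.annihilator B (N ⊗[A] M) := by rw [h]; trivial
    rw [Module.mem_annihilator] at h1
    obtain ⟨x, y, hxy⟩ := hT
    apply hxy
    rw [← one_smul B x, ← one_smul B y, h1 x, h1 y]
  have key := dim_quot_le (Module.annihilator A M) (Module.annihilator B (N ⊗[A] M))
    (ann_map_le M N) hK
  rw [Module.supportDim_eq_ringKrullDim_quotient_annihilator,
    Module.supportDim_eq_ringKrullDim_quotient_annihilator (R := A)]
  refine key.trans (add_le_add le_rfl (le_of_eq ?_))
  rw [ringKrullDim_quotient, Module.supportDim, support_fib M N]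

end Dim

end Groth.Agent.Helper6.FlatDim
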