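import Mathlib
import Groth.Agent.Helper1.AssTensor
import Groth.Agent.Helper2.Depth
import Groth.Agent.Helper6.FlatDim

/-!
# Going-down for the support of a flat module, and the dimension formula
-/

set_option autoImplicit false
universe u
open TensorProduct IsLocalRing

namespace Groth.Agent.Helper6.FlatGD

open Groth.Agent.Helper6.SuppTensor Groth.Agent.Helper6.FlatDimRing Groth.Agent.Helper6.FlatDim

section GD

variable {A B : Type u} [CommRing A] [CommRing B] [Algebra A B]
  (N : Type u) [AddCommGroup N] [Module B N] [Module A N] [IsScalarTower A B N]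

lemma regular_mod_prime [Module.Flat A N] (p : Ideal A) [p.IsPrime] (a : A) (ha : a ∉ p) (n : N)
    (h : a • n ∈ (p • ⊤ : Submodule A N)) : n ∈ (p • ⊤ : Submodule A N) := by
  rw [← Groth.Agent.Helper1.AssTensor.tmul_one_eq_zero_iff] at h ⊢
  let μ : A ⧸ p →ₗ[A] A ⧸ p := LinearMap.lsmul A (A ⧸ p) a
  have hμ : Function.Injective μ := by
    rw [injective_iff_map_eq_zero]
    intro x hx
    have h1 : Ideal.Quotient.mk p a * x = 0 := by
      rw [← hx]
      show _ = a • x
      rw [Algebra.smul_def]
      rfl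
    rcases mul_eq_zero.mp h1 with h2 | h2
    · exact absurd (Ideal.Quotient.eq_zero_iff_mem.mp h2) ha
    · exact h2
  have hinj := Module.Flat.lTensor_preserves_injective_linearMap (M := N) μ hμ
  apply hinj
  rw [map_zero, LinearMap.lTensor_tmul]
  show n ⊗ₜ[A] (a • (1 : A ⧸ p)) = 0
  rw [← TensorProduct.smul_tmul]
  exact h

variable [IsNoetherianRing B] [Module.Finite B N]

/-- **Going-down** for the support of a finite `B`-module flat over `A`. -/
theorem going_down_support [Module.Flat A N] (Q : PrimeSpectrum B) (hQ : Q ∈ Module.support B N)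
    (p : Ideal A) [p.IsPrime] (hp : p ≤ Q.asIdeal.comap (algebraMap A B)) :
    ∃ P : PrimeSpectrum B, P ≤ Q ∧ P ∈ Module.support B N ∧
      P.asIdeal.comap (algebraMap A B) = p := by
  have hQX : Q ∈ Module.support B (N ⧸ (p.map (algebraMap A B) • (⊤ : Submodule B N))) := by
    rw [Module.support_quotient]
    refine ⟨hQ, ?_⟩
    rw [PrimeSpectrum.mem_zeroLocus, SetLike.coe_subset_coe, Ideal.map_le_iff_le_comap]
    exact hp
  have hann : Module.annihilator B (N ⧸ (p.map (algebraMap A B) • (⊤ : Submodule B N))) ≤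
      Q.asIdeal := (Module.mem_support_iff_of_finite).mp hQX
  obtain ⟨P, hPmin, hPQ⟩ := Ideal.exists_minimalPrimes_le hann
  have hPass : P ∈ associatedPrimes B (N ⧸ (p.map (algebraMap A B) • (⊤ : Submodule B N))) :=
    Module.associatedPrimes.minimalPrimes_annihilator_subset_associatedPrimes B _ hPmin
  have hPprime : P.IsPrime := hPmin.1.1
  have hPX : (⟨P, hPprime⟩ : PrimeSpectrum B) ∈
      Module.support B (N ⧸ (p.map (algebraMap A B) • (⊤ : Submodule B N))) :=
    (Module.mem_support_iff_of_finite).mpr hPmin.1.2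
  rw [Module.support_quotient] at hPX
  obtain ⟨hPN, hPz⟩ := hPX
  rw [PrimeSpectrum.mem_zeroLocus, SetLike.coe_subset_coe, Ideal.map_le_iff_le_comap] at hPz
  refine ⟨⟨P, hPprime⟩, hPQ, hPN, le_antisymm ?_ hPz⟩
  intro a ha
  by_contra hap
  rw [Ideal.mem_comap] at ha
  apply Groth.Agent.Helper2.Depth.not_regular_of_mem_ass B _ P hPass (algebraMap A B a) ha
  intro x y hxy
  obtain ⟨x, rfl⟩ := Submodule.Quotient.mk_surjective _ x
  obtain ⟨y, rfl⟩ := Submodule.Quotient.mk_surjective _ y
  have h1 : algebraMap A B a • (x - y) ∈ (p.map (algebraMap A B) • (⊤ : Submodule B N)) := by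
    rw [← Submodule.Quotient.mk_eq_zero, smul_sub, Submodule.Quotient.mk_sub, sub_eq_zero]
    exact hxy
  rw [Groth.Agent.Helper1.AssTensor.mem_map_smul_top_iff, algebraMap_smul] at h1
  have h2 := regular_mod_prime N p a hap _ h1
  rw [← Groth.Agent.Helper1.AssTensor.mem_map_smul_top_iff (S := B)] at h2
  rw [← sub_eq_zero, ← Submodule.Quotient.mk_sub, Submodule.Quotient.mk_eq_zero]
  exact h2

end GD

section Quot

variable {A B : Type u} [CommRing A] [CommRing B] [Algebra A B]

theorem hasGoingDown_quot (I : Ideal A) (K : Ideal B) (hIK : I.map (algebraMap A B) ≤ K)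
    (h : ∀ (Q : Ideal B) [Q.IsPrime], K ≤ Q → ∀ (p : Ideal A) [p.IsPrime], I ≤ p →
      p < Q.comap (algebraMap A B) →
      ∃ P : Ideal B, P.IsPrime ∧ K ≤ P ∧ P ≤ Q ∧ P.comap (algebraMap A B) = p) :
    @Algebra.HasGoingDown (A ⧸ I) (B ⧸ K) _ _
      ((Ideal.quotientMap K (algebraMap A B) (Ideal.map_le_iff_le_comap.mp hIK)).toAlgebra) := by
  letI alg : Algebra (A ⧸ I) (B ⧸ K) :=
    (Ideal.quotientMap K (algebraMap A B) (Ideal.map_le_iff_le_comap.mp hIK)).toAlgebra
  refine ⟨?_⟩
  intro p' _ Q' _ hlt
  have hcomm : ∀ J : Ideal (B ⧸ K), (J.comap (Ideal.Quotient.mk K)).comap (algebraMap A B) =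
      (J.comap (algebraMap (A ⧸ I) (B ⧸ K))).comap (Ideal.Quotient.mk I) := by
    intro J
    rw [Ideal.comap_comap, Ideal.comap_comap]
    rfl
  have hinj := Ideal.comap_injective_of_surjective (Ideal.Quotient.mk I)
    Ideal.Quotient.mk_surjective
  have hQK : K ≤ Q'.comap (Ideal.Quotient.mk K) := by
    intro x hx
    rw [Ideal.mem_comap, Ideal.Quotient.eq_zero_iff_mem.mpr hx]
    exact Ideal.zero_mem _
  have hIp : I ≤ p'.comap (Ideal.Quotient.mk I) := by
    intro x hx
    rw [Ideal.mem_comap, Ideal.Quotient.eq_zero_iff_mem.mpr hx]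
    exact Ideal.zero_mem _
  have hlt' : p'.comap (Ideal.Quotient.mk I) <
      (Q'.comap (Ideal.Quotient.mk K)).comap (algebraMap A B) := by
    rw [hcomm]
    refine lt_of_le_of_ne (Ideal.comap_mono hlt.le) ?_
    intro heq
    exact hlt.ne (hinj heq)
  obtain ⟨P, hP, hKP, hPQ, hPp⟩ := h (Q'.comap (Ideal.Quotient.mk K)) hQK
    (p'.comap (Ideal.Quotient.mk I)) hIp hlt'
  have hcm : (P.map (Ideal.Quotient.mk K)).comap (Ideal.Quotient.mk K) = P := by
    rw [Ideal.comap_map_of_surjective _ Ideal.Quotient.mk_surjective, ← RingHom.ker_eq_comap_bot,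
      Ideal.mk_ker, sup_eq_left]
    exact hKP
  refine ⟨P.map (Ideal.Quotient.mk K), ?_, ?_, ⟨?_⟩⟩
  · rw [Ideal.map_le_iff_le_comap]
    exact hPQ
  · apply Ideal.map_isPrime_of_surjective Ideal.Quotient.mk_surjective
    rw [Ideal.mk_ker]
    exact hKP
  · apply hinj
    show _ = ((P.map (Ideal.Quotient.mk K)).comap (algebraMap (A ⧸ I) (B ⧸ K))).comap
      (Ideal.Quotient.mk I)
    rw [← hcomm, hcm, hPp]

end Quot

section Dim

variable {A B : Type u} [CommRing A] [CommRing B] [Algebra A B] [IsLocalRing A] [IsLocalRing B]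
  [IsNoetherianRing A] [IsNoetherianRing B] [IsLocalHom (algebraMap A B)]
  (M N : Type u) [AddCommGroup M] [Module A M] [Module.Finite A M]
  [AddCommGroup N] [Module B N] [Module A N] [IsScalarTower A B N] [Module.Finite B N]

omit [IsNoetherianRing A] [IsNoetherianRing B] in
lemma closedPoint_mem_support_tensor [Nontrivial M] [Nontrivial N] :
    IsLocalRing.closedPoint B ∈ Module.support B (N ⊗[A] M) := by
  apply mem_support_tensor_of _ (IsLocalRing.closedPoint_mem_support B N)
  have : (IsLocalRing.closedPoint B).comap (algebraMap A B) = IsLocalRing.closedPoint A := by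
    apply PrimeSpectrum.ext
    exact ((IsLocalRing.local_hom_TFAE (algebraMap A B)).out 0 4 rfl rfl).mp inferInstance
  rw [this]
  exact IsLocalRing.closedPoint_mem_support A M

/-- **Dimension formula** for a flat local homomorphism (EGA IV 6.1.2). -/
theorem supportDim_tensor_eq [Module.Flat A N] [Nontrivial M] [Nontrivial N] :
    Module.supportDim B (N ⊗[A] M) = Module.supportDim A M +
      Module.supportDim B (N ⧸ ((maximalIdeal A).map (algebraMap A B) • (⊤ : Submodule B N))) := by
  haveI : Module.Finite B (N ⊗[A] M) := Groth.Agent.Helper2.DepthFlat.finite_tensor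
  have hcl := closedPoint_mem_support_tensor (A := A) (B := B) M N
  have hK : Module.annihilator B (N ⊗[A] M) ≠ ⊤ := by
    intro h
    rw [Module.mem_support_iff_of_finite, h] at hcl
    exact (IsLocalRing.closedPoint B).2.ne_top (top_le_iff.mp hcl)
  have hgd := hasGoingDown_quot (Module.annihilator A M) (Module.annihilator B (N ⊗[A] M))
    (ann_map_le M N) (by
      intro Q _ hKQ p _ hIp hlt
      have hQ : (⟨Q, inferInstance⟩ : PrimeSpectrum B) ∈ Module.support B N := by
        rw [Module.mem_support_iff_of_finite]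
        exact (ann_le M N).trans hKQ
      obtain ⟨P, hPQ, hPN, hPp⟩ := going_down_support N ⟨Q, inferInstance⟩ hQ p hlt.le
      refine ⟨P.asIdeal, P.2, ?_, hPQ, hPp⟩
      have hPM : P.comap (algebraMap A B) ∈ Module.support A M := by
        rw [Module.mem_support_iff_of_finite]
        show _ ≤ P.asIdeal.comap (algebraMap A B)
        rw [hPp]
        exact hIp
      exact (Module.mem_support_iff_of_finite (R := B) (M := N ⊗[A] M)).mp
        (mem_support_tensor_of P hPN hPM))
  have key := dim_quot_eq (Module.annihilator A M) (Module.annihilator B (N ⊗[A] M))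
    (ann_map_le M N) hK hgd
  rw [Module.supportDim_eq_ringKrullDim_quotient_annihilator,
    Module.supportDim_eq_ringKrullDim_quotient_annihilator (R := A), key]
  congr 1
  rw [ringKrullDim_quotient, Module.supportDim, support_fib M N]

end Dim

end Groth.Agent.Helper6.FlatGD
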