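import Mathlib
import Groth.Agent.Helper6.FlatGD
import Groth.Agent.Helper6.FlatDepth
import Groth.Agent.Helper2.DepthLocHom
import Groth.Agent.Helper2.DepthCM4

/-!
# Cohen–Macaulay modules along flat local homomorphisms (EGA IV 6.3.3)
-/

set_option autoImplicit false
universe u
open TensorProduct IsLocalRing

namespace Groth.Agent.Helper6.FlatCM

section Surj

variable {R R' : Type u} [CommRing R] [CommRing R'] [Algebra R R']
  (X : Type u) [AddCommGroup X] [Module R X] [Module R' X] [IsScalarTower R R' X]

/-- support dimension is insensitive to a surjective change of rings. -/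
lemma supportDim_of_surjective (hf : Function.Surjective (algebraMap R R'))
    [Module.Finite R X] [Module.Finite R' X] :
    Module.supportDim R X = Module.supportDim R' X := by
  rw [Module.supportDim_eq_ringKrullDim_quotient_annihilator,
    Module.supportDim_eq_ringKrullDim_quotient_annihilator]
  let g : R →+* R' ⧸ Module.annihilator R' X :=
    (Ideal.Quotient.mk (Module.annihilator R' X)).comp (algebraMap R R')
  have hg : Function.Surjective g := Ideal.Quotient.mk_surjective.comp hf
  have hker : RingHom.ker g = Module.annihilator R X := by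
    ext r
    rw [RingHom.mem_ker, RingHom.comp_apply, Ideal.Quotient.eq_zero_iff_mem,
      Module.mem_annihilator, Module.mem_annihilator]
    simp only [algebraMap_smul]
  exact ringKrullDim_eq_of_ringEquiv
    ((Ideal.quotEquivOfEq hker.symm).trans (RingHom.quotientKerEquivOfSurjective hg))

end Surj

section Arith

lemma arith (dM dF : WithBot ℕ∞) (a b : ℕ) (h1 : ((a : ℕ∞) : WithBot ℕ∞) ≤ dM)
    (h2 : ((b : ℕ∞) : WithBot ℕ∞) ≤ dF) :
    dM + dF = (((a + b : ℕ) : ℕ∞) : WithBot ℕ∞) ↔
      dM = ((a : ℕ∞) : WithBot ℕ∞) ∧ dF = ((b : ℕ∞) : WithBot ℕ∞) := by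
  constructor
  · intro h
    induction dM using WithBot.recBotCoe with
    | bot => simp at h1
    | coe x =>
      induction dF using WithBot.recBotCoe with
      | bot => simp at h2
      | coe y =>
        rw [← WithBot.coe_add, WithBot.coe_inj] at h
        rw [WithBot.coe_le_coe] at h1 h2
        rw [WithBot.coe_inj, WithBot.coe_inj]
        induction x using ENat.recTopCoe with
        | top =>
          exfalso
          rw [top_add] at h
          exact ENat.top_ne_natCast (a + b) (by exact_mod_cast h)
        | coe x =>
          induction y using ENat.recTopCoe with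
          | top =>
            exfalso
            rw [add_top] at h
            exact ENat.top_ne_natCast (a + b) (by exact_mod_cast h)
          | coe y =>
            have h' : x + y = a + b := by exact_mod_cast h
            have h1' : a ≤ x := by exact_mod_cast h1
            have h2' : b ≤ y := by exact_mod_cast h2
            constructor
            · have : x = a := by omega
              rw [this]
            · have : y = b := by omega
              rw [this]
  · rintro ⟨rfl, rfl⟩
    push_cast
    rfl

end Arith

section CM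

open Groth.Agent.Helper2

variable {A B : Type u} [CommRing A] [CommRing B] [Algebra A B] [IsLocalRing A] [IsLocalRing B]
  [IsNoetherianRing A] [IsNoetherianRing B] [IsLocalHom (algebraMap A B)]
  (N : Type u) [AddCommGroup N] [Module B N] [Module A N] [IsScalarTower A B N]
  [Module.Finite B N] [Nontrivial N]

omit [IsNoetherianRing A] [Module A N] [IsScalarTower A B N] in
lemma fibMod_nontrivial' : Nontrivial (EGA4.FibMod A B N) := by
  rw [Submodule.Quotient.nontrivial_iff]
  intro h
  have hle : EGA4.mB A B ≤ maximalIdeal B := IsLocalRing.map_maximalIdeal_le (algebraMap A B)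
  apply Depth.smul_top_ne_top B N
  exact eq_top_iff.2 (h.symm.le.trans (Submodule.smul_mono_left hle))

omit [Module A N] [IsScalarTower A B N] in
/-- the closed fibre is CM over the fibre ring iff it is CM over `B`. -/
lemma cm_fib_iff : LocCoh.IsCohenMacaulayModule (EGA4.FibRing A B) (EGA4.FibMod A B N) ↔
    LocCoh.IsCohenMacaulayModule B (EGA4.FibMod A B N) := by
  haveI : Nontrivial (EGA4.FibMod A B N) := fibMod_nontrivial' N
  haveI : IsLocalHom (algebraMap B (EGA4.FibRing A B)) :=
    IsLocalHom.of_surjective _ Ideal.Quotient.mk_surjective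
  have hdim : Module.supportDim B (EGA4.FibMod A B N) =
      Module.supportDim (EGA4.FibRing A B) (EGA4.FibMod A B N) :=
    supportDim_of_surjective (R := B) (R' := EGA4.FibRing A B) (EGA4.FibMod A B N)
      Ideal.Quotient.mk_surjective
  have hne : LocCoh.depth B (EGA4.FibMod A B N) ≠ ⊤ :=
    DepthCM.idealDepth_ne_top (maximalIdeal B) _ (Depth.smul_top_ne_top B _)
  obtain ⟨s, hs⟩ := ENat.ne_top_iff_exists.mp hne
  have hdepth : LocCoh.depth (EGA4.FibRing A B) (EGA4.FibMod A B N) = s :=
    DepthLocHom.key B (EGA4.FibRing A B) s (EGA4.FibMod A B N) hs.symm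
  unfold LocCoh.IsCohenMacaulayModule
  rw [hdim, hdepth, ← hs]

variable (M : Type u) [AddCommGroup M] [Module A M] [Module.Finite A M] [Nontrivial M]

/-- EGA IV 6.3.3 (Cohen–Macaulay modules and flat local homomorphisms). -/
theorem cm_tensor_iff [Module.Flat A N] :
    LocCoh.IsCohenMacaulayModule B (N ⊗[A] M) ↔
      (LocCoh.IsCohenMacaulayModule A M ∧
        LocCoh.IsCohenMacaulayModule (EGA4.FibRing A B) (EGA4.FibMod A B N)) := by
  rw [cm_fib_iff]
  haveI : Nontrivial (EGA4.FibMod A B N) := fibMod_nontrivial' N
  have hdim := Groth.Agent.Helper6.FlatGD.supportDim_tensor_eq (A := A) (B := B) M N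
  have hdepth := Groth.Agent.Helper6.FlatDepth.depth_tensor (A := A) (B := B) M N
  have hneM : LocCoh.depth A M ≠ ⊤ :=
    DepthCM.idealDepth_ne_top (maximalIdeal A) _ (Depth.smul_top_ne_top A _)
  have hneF : LocCoh.depth B (EGA4.FibMod A B N) ≠ ⊤ :=
    DepthCM.idealDepth_ne_top (maximalIdeal B) _ (Depth.smul_top_ne_top B _)
  obtain ⟨a, ha⟩ := ENat.ne_top_iff_exists.mp hneM
  obtain ⟨b, hb⟩ := ENat.ne_top_iff_exists.mp hneF
  have h1 := DepthCM4.depth_le_supportDim (A := A) M
  have h2 := DepthCM4.depth_le_supportDim (A := B) (EGA4.FibMod A B N)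
  unfold LocCoh.IsCohenMacaulayModule
  rw [hdim, hdepth, ← ha, ← hb] at *
  have := arith (Module.supportDim A M) (Module.supportDim B (EGA4.FibMod A B N)) a b h1 h2
  rw [← this]
  push_cast
  rfl

end CM

section Ring

open Groth.Agent.Helper2

variable {R S : Type u} [CommRing R] [CommRing S] [Algebra R S] [IsLocalRing R] [IsLocalRing S]
  [IsNoetherianRing R] [IsNoetherianRing S] [IsLocalHom (algebraMap R S)] [Module.Flat R S]

/-- dimension formula for rings. -/
theorem ringKrullDim_eq_add_fib :
    ringKrullDim S = ringKrullDim R + Module.supportDim S (EGA4.FibMod R S S) := by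
  have h := Groth.Agent.Helper6.FlatGD.supportDim_tensor_eq (A := R) (B := S) R S
  rw [Module.supportDim_eq_of_equiv (TensorProduct.AlgebraTensorModule.rid R S S),
    Module.supportDim_self_eq_ringKrullDim, Module.supportDim_self_eq_ringKrullDim] at h
  exact h

/-- depth formula for rings. -/
theorem depth_eq_add_fib :
    LocCoh.depth S S = LocCoh.depth R R + LocCoh.depth S (EGA4.FibMod R S S) := by
  have h := Groth.Agent.Helper6.FlatDepth.depth_tensor (A := R) (B := S) R S
  unfold LocCoh.depth at h ⊢
  rw [DepthCM.idealDepth_congr (maximalIdeal S) (TensorProduct.AlgebraTensorModule.rid R S S)] at h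
  exact h

theorem cm_of_flat_of_dim_le
    (hR : Module.supportDim R R = ((LocCoh.depth R R : ℕ∞) : WithBot ℕ∞))
    (h : ringKrullDim S ≤ ringKrullDim R) :
    Module.supportDim S S = ((LocCoh.depth S S : ℕ∞) : WithBot ℕ∞) ∧
      ringKrullDim R = ringKrullDim S := by
  haveI : Nontrivial (EGA4.FibMod R S S) := fibMod_nontrivial' S
  have hneR : LocCoh.depth R R ≠ ⊤ :=
    DepthCM.idealDepth_ne_top (maximalIdeal R) _ (Depth.smul_top_ne_top R _)
  obtain ⟨r, hr⟩ := ENat.ne_top_iff_exists.mp hneR
  rw [Module.supportDim_self_eq_ringKrullDim, ← hr] at hR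
  have hdim := ringKrullDim_eq_add_fib (R := R) (S := S)
  have hdepth := depth_eq_add_fib (R := R) (S := S)
  have h2 := DepthCM4.depth_le_supportDim (A := S) (EGA4.FibMod R S S)
  rw [hdim, hR] at h
  -- the fibre has dimension zero
  have hF0 : Module.supportDim S (EGA4.FibMod R S S) = 0 := by
    have hge : (0 : WithBot ℕ∞) ≤ Module.supportDim S (EGA4.FibMod R S S) :=
      le_trans (by exact_mod_cast bot_le) h2
    refine le_antisymm ?_ hge
    generalize Module.supportDim S (EGA4.FibMod R S S) = dF at h hge ⊢
    induction dF using WithBot.recBotCoe with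
    | bot => exact bot_le
    | coe y =>
      rw [← WithBot.coe_add, WithBot.coe_le_coe] at h
      rw [← WithBot.coe_zero, WithBot.coe_le_coe]
      induction y using ENat.recTopCoe with
      | top =>
        exfalso
        rw [add_top, top_le_iff] at h
        exact ENat.top_ne_natCast r h.symm
      | coe y =>
        have : r + y ≤ r := by exact_mod_cast h
        have : y = 0 := by omega
        rw [this]
        rfl
  have hdF0 : LocCoh.depth S (EGA4.FibMod R S S) = 0 := by
    rw [hF0] at h2
    have : LocCoh.depth S (EGA4.FibMod R S S) ≤ 0 := by exact_mod_cast h2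
    exact le_antisymm this bot_le
  rw [Module.supportDim_self_eq_ringKrullDim, hdim, hF0, add_zero, hdepth, hdF0, add_zero, hR, ← hr]
  exact ⟨rfl, rfl⟩

end Ring

end Groth.Agent.Helper6.FlatCM
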