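import Mathlib
import Groth.Prelude
import Groth.Agent.Helper6.FlatCM
import Groth.Agent.Helper6.ComplDim
import Groth.Agent.Helper6.SuppTensor
import Groth.Agent.Helper2.DepthCM2
import Groth.Agent.Helper2.DepthCM4

/-!
# A local ring carrying a Cohen–Macaulay module of full support is formally equidimensional
-/

set_option autoImplicit false
universe u

namespace Groth.Agent.Helper6.FormEquidim

open IsLocalRing TensorProduct

section General

variable {B : Type u} [CommRing B] [IsLocalRing B] [IsNoetherianRing B]

omit [IsLocalRing B] [IsNoetherianRing B] in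
lemma supportDim_eq_of_support_univ (N : Type u) [AddCommGroup N] [Module B N]
    (hsupp : Module.support B N = Set.univ) : Module.supportDim B N = ringKrullDim B := by
  unfold Module.supportDim ringKrullDim
  rw [hsupp]
  exact Order.krullDim_eq_of_orderIso OrderIso.Set.univ

theorem isEquidim_of_cm (N : Type u) [AddCommGroup N] [Module B N] [Module.Finite B N]
    (hCM : LocCoh.IsCohenMacaulayModule B N) (hsupp : Module.support B N = Set.univ) :
    EGA4.IsEquidim B := by
  intro P hP
  haveI : P.IsPrime := hP.1.1
  have hann : ∀ q : Ideal B, q.IsPrime → Module.annihilator B N ≤ q := by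
    intro q hq
    have : (⟨q, hq⟩ : PrimeSpectrum B) ∈ Module.support B N := by rw [hsupp]; trivial
    rwa [Module.mem_support_iff_of_finite] at this
  have hPmin : P ∈ (Module.annihilator B N).minimalPrimes :=
    ⟨⟨inferInstance, hann P inferInstance⟩, fun q hq hqP => hP.2 ⟨hq.1, bot_le⟩ hqP⟩
  have hPass :=
    Module.associatedPrimes.minimalPrimes_annihilator_subset_associatedPrimes B N hPmin
  rw [Groth.Agent.Helper2.DepthCM2.cm_dim_quot_ass N hCM P hPass]
  exact supportDim_eq_of_support_univ N hsupp

end General

section Field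

variable {A B : Type u} [CommRing A] [CommRing B] [Algebra A B] [IsLocalRing A] [IsLocalRing B]
  [IsNoetherianRing B] [IsLocalHom (algebraMap A B)]

/-- if `m_A B = m_B` then the closed fibre `B / m_A B` is a Cohen–Macaulay module over itself -/
theorem cm_fibMod_self (h : EGA4.mB A B = maximalIdeal B) :
    LocCoh.IsCohenMacaulayModule (EGA4.FibRing A B) (EGA4.FibMod A B B) := by
  have hfield : IsField (EGA4.FibRing A B) := by
    have : (EGA4.mB A B).IsMaximal := h ▸ maximalIdeal.isMaximal B
    exact (Ideal.Quotient.maximal_ideal_iff_isField_quotient _).mp this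
  haveI : Nontrivial (EGA4.FibMod A B B) :=
    Groth.Agent.Helper6.FlatCM.fibMod_nontrivial' (A := A) (B := B) B
  haveI : IsNoetherianRing (EGA4.FibRing A B) := inferInstance
  have h1 : Module.supportDim (EGA4.FibRing A B) (EGA4.FibMod A B B) ≤ 0 := by
    refine (Module.supportDim_le_ringKrullDim _ _).trans ?_
    rw [ringKrullDim_eq_zero_of_isField hfield]
  have h2 : (0 : WithBot ℕ∞) ≤ Module.supportDim (EGA4.FibRing A B) (EGA4.FibMod A B B) := by
    have hne : Module.supportDim (EGA4.FibRing A B) (EGA4.FibMod A B B) ≠ ⊥ :=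
      Module.supportDim_ne_bot_of_nontrivial _ _
    obtain ⟨e, he⟩ := WithBot.ne_bot_iff_exists.mp hne
    rw [← he]
    exact WithBot.coe_le_coe.mpr bot_le
  have h3 := Groth.Agent.Helper2.DepthCM4.depth_le_supportDim (A := EGA4.FibRing A B)
    (EGA4.FibMod A B B)
  unfold LocCoh.IsCohenMacaulayModule
  have h4 : Module.supportDim (EGA4.FibRing A B) (EGA4.FibMod A B B) = 0 := le_antisymm h1 h2
  rw [h4] at h3 ⊢
  have h5 : LocCoh.depth (EGA4.FibRing A B) (EGA4.FibMod A B B) = 0 := by
    have : ((LocCoh.depth (EGA4.FibRing A B) (EGA4.FibMod A B B) : ℕ∞) : WithBot ℕ∞) ≤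
        ((0 : ℕ∞) : WithBot ℕ∞) := h3
    exact le_antisymm (WithBot.coe_le_coe.mp this) bot_le
  rw [h5]
  rfl

end Field

section Main

variable (A : Type u) [CommRing A] [IsNoetherianRing A] [IsLocalRing A]
  (M : Type u) [AddCommGroup M] [Module A M] [Module.Finite A M]

theorem cm_completion (hCM : LocCoh.IsCohenMacaulayModule A M) :
    haveI := Groth.Agent.Helper6.ComplDim.isLocalRing_adicCompletion A (maximalIdeal A)
      (maximalIdeal.isMaximal A).ne_top
    LocCoh.IsCohenMacaulayModule (AdicCompletion (maximalIdeal A) A)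
      (AdicCompletion (maximalIdeal A) A ⊗[A] M) := by
  have hI : maximalIdeal A ≠ ⊤ := (maximalIdeal.isMaximal A).ne_top
  haveI := Groth.Agent.Helper6.ComplDim.isLocalRing_adicCompletion A (maximalIdeal A) hI
  haveI := Groth.Agent.Helper6.ComplDim.isLocalHom_algebraMap A (maximalIdeal A) hI
  haveI : IsNoetherianRing (AdicCompletion (maximalIdeal A) A) :=
    Groth.Agent.Helper6.ComplDim.instNoeth A (maximalIdeal A)
  haveI : Nontrivial M := Groth.Agent.Helper2.DepthCM2.cm_nontrivial hCM
  have hmB : EGA4.mB A (AdicCompletion (maximalIdeal A) A) =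
      maximalIdeal (AdicCompletion (maximalIdeal A) A) :=
    (Groth.Agent.Helper6.ComplDim.maximalIdeal_eq_map A (maximalIdeal A) hI).symm
  have hfib := cm_fibMod_self (A := A) (B := AdicCompletion (maximalIdeal A) A) hmB
  exact (Groth.Agent.Helper6.FlatCM.cm_tensor_iff (A := A)
    (B := AdicCompletion (maximalIdeal A) A) (AdicCompletion (maximalIdeal A) A) M).mpr
      ⟨hCM, hfib⟩

theorem support_completion (hsupp : Module.support A M = Set.univ) :
    Module.support (AdicCompletion (maximalIdeal A) A)
      (AdicCompletion (maximalIdeal A) A ⊗[A] M) = Set.univ := by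
  rw [Set.eq_univ_iff_forall]
  intro q
  apply Groth.Agent.Helper6.SuppTensor.mem_support_tensor_of
  · rw [Module.support_eq_zeroLocus, Module.annihilator_eq_bot.mpr inferInstance]
    simp
  · rw [hsupp]; trivial

theorem main (hCM : LocCoh.IsCohenMacaulayModule A M) (hsupp : Module.support A M = Set.univ) :
    EGA4.IsFormallyEquidim A := by
  unfold EGA4.IsFormallyEquidim
  have hI : maximalIdeal A ≠ ⊤ := (maximalIdeal.isMaximal A).ne_top
  haveI := Groth.Agent.Helper6.ComplDim.isLocalRing_adicCompletion A (maximalIdeal A) hI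
  haveI : IsNoetherianRing (AdicCompletion (maximalIdeal A) A) :=
    Groth.Agent.Helper6.ComplDim.instNoeth A (maximalIdeal A)
  exact isEquidim_of_cm (AdicCompletion (maximalIdeal A) A ⊗[A] M) (cm_completion A M hCM)
    (support_completion A M hsupp)

end Main

end Groth.Agent.Helper6.FormEquidim
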