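import Mathlib
import Groth.Prelude
import Groth.Agent.S5761
import Groth.Agent.S5762
import Groth.Agent.Helper2.Caten
import Groth.Agent.Helper2.LocSupp
import Groth.Agent.Helper2.DepthCM3
import Groth.Agent.Helper6.FormEquidim

/-!
# A Noetherian local ring carrying a Cohen–Macaulay module of full support is catenary
-/

set_option autoImplicit false
universe u

namespace Groth.Agent.Helper6.CMCaten

open IsLocalRing

section Order

variable {R : Type u} [CommRing R]

theorem height_eq_of_saturated
    (h : ∀ x y : PrimeSpectrum R, x ⋖ y → y.asIdeal.height = x.asIdeal.height + 1)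
    (s : LTSeries (PrimeSpectrum R))
    (hsat : ∀ i : Fin s.length, s (Fin.castSucc i) ⋖ s (Fin.succ i)) :
    s.last.asIdeal.height = s.head.asIdeal.height + s.length := by
  have key : ∀ (i : ℕ) (hi : i < s.length + 1),
      (s ⟨i, hi⟩).asIdeal.height = s.head.asIdeal.height + i := by
    intro i
    induction i with
    | zero => intro hi; simp; rfl
    | succ i ih =>
      intro hi
      have hi' : i < s.length := by omega
      have h1 := h _ _ (hsat ⟨i, hi'⟩)
      have h2 := ih (by omega)
      have e1 : (Fin.castSucc (⟨i, hi'⟩ : Fin s.length)) = ⟨i, by omega⟩ := rfl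
      have e2 : (Fin.succ (⟨i, hi'⟩ : Fin s.length)) = ⟨i + 1, hi⟩ := rfl
      rw [e1, e2, h2] at h1
      rw [h1]
      push_cast
      rw [add_assoc]
  exact key s.length (by omega)

theorem isCatenary_of_height_covBy [IsNoetherianRing R]
    (h : ∀ x y : PrimeSpectrum R, x ⋖ y → y.asIdeal.height = x.asIdeal.height + 1) :
    CAlg.IsCatenary R := by
  refine ⟨?_, ?_⟩
  · intro p q _
    obtain ⟨n, hn⟩ := ENat.ne_top_iff_exists.1 (Ideal.height_ne_top_of_isPrime (I := q.asIdeal))
    refine ⟨n, fun s _ hlast => ?_⟩
    have h1 : (s.length : ℕ∞) ≤ Order.height s.last := Order.length_le_height_last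
    rw [hlast, ← PrimeSpectrum.height_eq_orderHeight, ← hn] at h1
    exact_mod_cast h1
  · intro s t hhead hlast hs ht
    have h1 := height_eq_of_saturated h s hs
    have h2 := height_eq_of_saturated h t ht
    rw [hlast, hhead, h2] at h1
    have hfin : t.head.asIdeal.height ≠ ⊤ := Ideal.height_ne_top_of_isPrime
    have h3 : (t.length : ℕ∞) = s.length := ENat.add_right_injective_of_ne_top hfin h1
    exact_mod_cast h3.symm

end Order

section CM

/-- `R` carries a finite Cohen–Macaulay module of full support -/
def HasCMFull (R : Type u) [CommRing R] [IsLocalRing R] : Prop :=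
  ∃ (M : Type u) (_ : AddCommGroup M) (_ : Module R M) (_ : Module.Finite R M),
    LocCoh.IsCohenMacaulayModule R M ∧ Module.support R M = Set.univ

variable {R : Type u} [CommRing R] [IsLocalRing R] [IsNoetherianRing R]

theorem support_localized_univ (M : Type u) [AddCommGroup M] [Module R M]
    (hsupp : Module.support R M = Set.univ) (q : Ideal R) [q.IsPrime] :
    Module.support (Localization.AtPrime q) (LocalizedModule q.primeCompl M) = Set.univ := by
  rw [Set.eq_univ_iff_forall]
  intro P
  have hPprime : (P.asIdeal.comap (algebraMap R (Localization.AtPrime q))).IsPrime :=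
    Ideal.comap_isPrime _ _
  refine Groth.Agent.Helper2.LocSupp.mem_support_localized q M
    ⟨P.asIdeal.comap (algebraMap R (Localization.AtPrime q)), hPprime⟩ ?_ ?_ P rfl
  · have h1 : P.asIdeal ≤ maximalIdeal (Localization.AtPrime q) :=
      IsLocalRing.le_maximalIdeal P.2.ne_top
    have h2 := Ideal.comap_mono (f := algebraMap R (Localization.AtPrime q)) h1
    have h3 : Ideal.comap (algebraMap R (Localization.AtPrime q))
        (maximalIdeal (Localization.AtPrime q)) = q :=
      IsLocalization.AtPrime.under_maximalIdeal _ q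
    rw [h3] at h2
    exact h2
  · rw [hsupp]; trivial

theorem dim_eq (h : HasCMFull R) (p : PrimeSpectrum R) :
    ringKrullDim R = ringKrullDim (R ⧸ p.asIdeal) + ((p.asIdeal.height : ℕ∞) : WithBot ℕ∞) := by
  obtain ⟨M, _, _, _, hCM, hsupp⟩ := h
  have hp : p ∈ Module.support R M := by rw [hsupp]; trivial
  have h1 := Groth.Agent.S5762.result R M hCM p hp
  rw [Groth.Agent.Helper6.FormEquidim.supportDim_eq_of_support_univ M hsupp,
    Groth.Agent.Helper2.DepthCM3.supportDim_quot_prime p hp,
    Groth.Agent.Helper6.FormEquidim.supportDim_eq_of_support_univ _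
      (support_localized_univ M hsupp p.asIdeal),
    IsLocalization.AtPrime.ringKrullDim_eq_height p.asIdeal (Localization.AtPrime p.asIdeal)] at h1
  exact h1

theorem hasCMFull_localization (h : HasCMFull R) (q : PrimeSpectrum R) :
    HasCMFull (Localization.AtPrime q.asIdeal) := by
  obtain ⟨M, _, _, _, hCM, hsupp⟩ := h
  have hq : q ∈ Module.support R M := by rw [hsupp]; trivial
  exact ⟨LocalizedModule q.asIdeal.primeCompl M, inferInstance, inferInstance, inferInstance,
    Groth.Agent.S5761.result R M hCM q hq, support_localized_univ M hsupp q.asIdeal⟩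

theorem height_covBy (h : HasCMFull R) (x y : PrimeSpectrum R) (hxy : x ⋖ y) :
    y.asIdeal.height = x.asIdeal.height + 1 := by
  set B := Localization.AtPrime y.asIdeal with hB
  have hle : x.asIdeal ≤ y.asIdeal := hxy.1.le
  have hdisj : Disjoint (y.asIdeal.primeCompl : Set R) (x.asIdeal : Set R) := by
    rw [Set.disjoint_left]
    intro a ha hax
    exact ha (hle hax)
  have hPprime : (x.asIdeal.map (algebraMap R B)).IsPrime :=
    IsLocalization.isPrime_of_isPrime_disjoint y.asIdeal.primeCompl B x.asIdeal x.2 hdisj
  let P : PrimeSpectrum B := ⟨x.asIdeal.map (algebraMap R B), hPprime⟩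
  have hcomapP : P.asIdeal.comap (algebraMap R B) = x.asIdeal :=
    IsLocalization.under_map_of_isPrime_disjoint y.asIdeal.primeCompl B x.2 hdisj
  have hcomap_max : (maximalIdeal B).comap (algebraMap R B) = y.asIdeal :=
    IsLocalization.AtPrime.under_maximalIdeal _ y.asIdeal
  have h1 := dim_eq (hasCMFull_localization h y) P
  rw [IsLocalization.AtPrime.ringKrullDim_eq_height y.asIdeal B] at h1
  have h2 : P.asIdeal.height = x.asIdeal.height :=
    IsLocalization.height_map_of_disjoint y.asIdeal.primeCompl x.asIdeal hdisj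
  rw [h2, Groth.Agent.Helper2.Caten.dimQuot_eq_coheight P] at h1
  -- coheight of P is 1
  have hcomap_lt : ∀ J K : PrimeSpectrum B, J < K →
      J.asIdeal.comap (algebraMap R B) < K.asIdeal.comap (algebraMap R B) := by
    intro J K hJK
    refine lt_of_le_of_ne (Ideal.comap_mono hJK.le) fun heq => ?_
    have e1 := IsLocalization.map_under y.asIdeal.primeCompl B J.asIdeal
    have e2 := IsLocalization.map_under y.asIdeal.primeCompl B K.asIdeal
    rw [Ideal.under_def] at e1 e2
    rw [heq, e2] at e1
    exact hJK.ne (PrimeSpectrum.ext e1.symm)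
  have hco : Order.coheight P = 1 := by
    apply le_antisymm
    · rw [Order.coheight_le_iff']
      intro s hs
      by_contra hlen
      have hlen2 : 2 ≤ s.length := by
        by_contra h'
        apply hlen
        have : s.length ≤ 1 := by omega
        exact_mod_cast this
      have h01 : s ⟨0, by omega⟩ < s ⟨1, by omega⟩ := s.strictMono (by simp [Fin.lt_def])
      have h12 : s ⟨1, by omega⟩ < s ⟨2, by omega⟩ := s.strictMono (by simp [Fin.lt_def])
      have hs0 : s ⟨0, by omega⟩ = P := hs
      have c1 := hcomap_lt _ _ h01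
      have c2 := hcomap_lt _ _ h12
      rw [hs0, hcomapP] at c1
      have c3 : (s ⟨2, by omega⟩).asIdeal.comap (algebraMap R B) ≤ y.asIdeal :=
        le_trans (Ideal.comap_mono (IsLocalRing.le_maximalIdeal (s ⟨2, by omega⟩).2.ne_top))
          hcomap_max.le
      have hprime : ((s ⟨1, by omega⟩).asIdeal.comap (algebraMap R B)).IsPrime :=
        Ideal.comap_isPrime _ _
      exact hxy.2 (c := ⟨_, hprime⟩) (show x.asIdeal < _ from c1)
        (show _ < y.asIdeal from lt_of_lt_of_le c2 c3)
    · rw [Order.one_le_iff_ne_zero, Order.coheight_ne_zero]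
      intro hmax
      have hPm : P.asIdeal ≤ maximalIdeal B := IsLocalRing.le_maximalIdeal P.2.ne_top
      have : (⟨maximalIdeal B, inferInstance⟩ : PrimeSpectrum B) ≤ P := hmax hPm
      have heq : P.asIdeal = maximalIdeal B := le_antisymm hPm this
      have : x.asIdeal = y.asIdeal := by rw [← hcomapP, heq, hcomap_max]
      exact hxy.1.ne (PrimeSpectrum.ext this)
  rw [hco] at h1
  have h3 : ((y.asIdeal.height : ℕ∞) : WithBot ℕ∞) =
      ((x.asIdeal.height + 1 : ℕ∞) : WithBot ℕ∞) := by
    rw [h1, add_comm]; rfl
  exact WithBot.coe_eq_coe.mp h3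

theorem isCatenary (h : HasCMFull R) : CAlg.IsCatenary R :=
  isCatenary_of_height_covBy (height_covBy h)

theorem isEquidim (h : HasCMFull R) : EGA4.IsEquidim R := by
  obtain ⟨M, _, _, _, hCM, hsupp⟩ := h
  exact Groth.Agent.Helper6.FormEquidim.isEquidim_of_cm M hCM hsupp

/-- Every saturated chain from a minimal prime to the maximal ideal has length `dim R`. -/
theorem length_eq_dim (h : HasCMFull R) (s : LTSeries (PrimeSpectrum R))
    (hhead : s.head.asIdeal ∈ minimalPrimes R) (hlast : s.last.asIdeal = maximalIdeal R)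
    (hsat : ∀ i : Fin s.length, s (Fin.castSucc i) ⋖ s (Fin.succ i)) :
    (s.length : WithBot ℕ∞) = ringKrullDim R := by
  have h1 := height_eq_of_saturated (height_covBy h) s hsat
  have h2 : s.head.asIdeal.height = 0 := by
    rw [Ideal.height_eq_zero_iff]
    exact hhead
  rw [h2, zero_add, hlast] at h1
  rw [← IsLocalRing.maximalIdeal_height_eq_ringKrullDim, h1]
  rfl

end CM

theorem hasCMFull_of_cm (R : Type u) [CommRing R] [hR : LocCoh.IsCohenMacaulayLocalRing R] :
    HasCMFull R := by
  refine ⟨R, inferInstance, inferInstance, inferInstance, hR.supportDim_eq_depth, ?_⟩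
  rw [Module.support_eq_zeroLocus, Module.annihilator_eq_bot.mpr inferInstance]
  simp

theorem isCatenary_of_cm (R : Type u) [CommRing R] [LocCoh.IsCohenMacaulayLocalRing R] :
    CAlg.IsCatenary R := isCatenary (hasCMFull_of_cm R)

theorem isEquidim_of_cm (R : Type u) [CommRing R] [LocCoh.IsCohenMacaulayLocalRing R] :
    EGA4.IsEquidim R := isEquidim (hasCMFull_of_cm R)

end Groth.Agent.Helper6.CMCaten
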