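import Mathlib

set_option autoImplicit false
universe u
open scoped TensorProduct

namespace Groth.Agent.Helper6.TensorLocal

open IsLocalRing

variable (R A B : Type u) [CommRing R] [IsLocalRing R]
  [CommRing A] [IsLocalRing A] [Algebra R A] [IsLocalHom (algebraMap R A)] [Algebra.IsIntegral R A]
  [CommRing B] [IsLocalRing B] [Algebra R B] [IsLocalHom (algebraMap R B)]

/-- the ideal generated by the maximal ideal of `A` -/
def J : Ideal (A ⊗[R] B) :=
  Ideal.map (Algebra.TensorProduct.includeLeft : A →ₐ[R] A ⊗[R] B) (maximalIdeal A)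

theorem includeRight_isIntegral :
    (Algebra.TensorProduct.includeRight : B →ₐ[R] A ⊗[R] B).toRingHom.IsIntegral := by
  have h1 : (algebraMap B (B ⊗[R] A)).IsIntegral :=
    algebraMap_isIntegral_iff.2 (Algebra.IsIntegral.tensorProduct R B A)
  have h2 : (Algebra.TensorProduct.comm R B A).toAlgHom.toRingHom.IsIntegral :=
    RingHom.isIntegral_of_surjective _ (Algebra.TensorProduct.comm R B A).surjective
  have h3 : (Algebra.TensorProduct.includeRight : B →ₐ[R] A ⊗[R] B).toRingHom =
      (Algebra.TensorProduct.comm R B A).toAlgHom.toRingHom.comp (algebraMap B (B ⊗[R] A)) := by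
    ext b
    simp [Algebra.TensorProduct.algebraMap_apply]
  rw [h3]
  exact h1.trans _ _ h2

theorem comap_includeRight (M : Ideal (A ⊗[R] B)) [M.IsMaximal] :
    Ideal.comap (Algebra.TensorProduct.includeRight : B →ₐ[R] A ⊗[R] B) M = maximalIdeal B := by
  have h := Ideal.isMaximal_comap_of_isIntegral_of_isMaximal' _ (includeRight_isIntegral R A B) M
  exact IsLocalRing.eq_maximalIdeal h

theorem comap_includeLeft (M : Ideal (A ⊗[R] B)) [M.IsMaximal] :
    Ideal.comap (Algebra.TensorProduct.includeLeft : A →ₐ[R] A ⊗[R] B) M = maximalIdeal A := by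
  set P := Ideal.comap (Algebra.TensorProduct.includeLeft : A →ₐ[R] A ⊗[R] B) M with hP
  haveI : P.IsPrime := Ideal.comap_isPrime _ M
  have h1 : Ideal.comap (algebraMap R A) P = maximalIdeal R := by
    have e1 : Ideal.comap (algebraMap R A) P =
        Ideal.comap (algebraMap R B)
          (Ideal.comap (Algebra.TensorProduct.includeRight : B →ₐ[R] A ⊗[R] B) M) := by
      ext r
      simp only [hP, Ideal.mem_comap]
      rw [AlgHom.commutes, AlgHom.commutes]
    rw [e1, comap_includeRight]
    exact IsLocalRing.maximalIdeal_comap (algebraMap R B)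
  have h2 : (Ideal.comap (algebraMap R A) P).IsMaximal := by
    rw [h1]; infer_instance
  have h3 : P.IsMaximal := Ideal.isMaximal_of_isIntegral_of_isMaximal_comap P h2
  exact IsLocalRing.eq_maximalIdeal h3

theorem J_le (M : Ideal (A ⊗[R] B)) [M.IsMaximal] : J R A B ≤ M := by
  rw [J, Ideal.map_le_iff_le_comap, comap_includeLeft]

section K
variable [IsPurelyInseparable (ResidueField R) (ResidueField A)]

theorem includeLeft_mem_J (a : A) (ha : a ∈ maximalIdeal A) :
    (a ⊗ₜ[R] (1 : B) : A ⊗[R] B) ∈ J R A B :=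
  Ideal.mem_map_of_mem (Algebra.TensorProduct.includeLeft : A →ₐ[R] A ⊗[R] B) ha

/-- congruence mod `J` as equality in the quotient -/
abbrev π : A ⊗[R] B →+* (A ⊗[R] B) ⧸ J R A B := Ideal.Quotient.mk (J R A B)

theorem natCast_mem_J (q : ℕ) [ExpChar (ResidueField B) q] (hq : q ≠ 1) :
    π R A B (q : A ⊗[R] B) = 0 := by
  have hB : ExpChar (ResidueField B) q := inferInstance
  rcases hB with _ | ⟨hprime⟩
  · exact absurd rfl hq
  · -- `q = 0` in the residue field of `R`
    have h1 : ((q : ResidueField R)) = 0 := by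
      have : algebraMap (ResidueField R) (ResidueField B) (q : ResidueField R) = 0 := by
        rw [map_natCast]
        exact CharP.cast_eq_zero _ q
      exact (map_eq_zero_iff _ (algebraMap (ResidueField R) (ResidueField B)).injective).1 this
    have h2 : (q : R) ∈ maximalIdeal R := by
      rw [← IsLocalRing.residue_eq_zero_iff, map_natCast]
      exact h1
    have h3 : (q : A) ∈ maximalIdeal A := by
      have := (IsLocalRing.map_maximalIdeal_le (algebraMap R A)) (Ideal.mem_map_of_mem _ h2)
      rwa [map_natCast] at this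
    rw [Ideal.Quotient.eq_zero_iff_mem]
    have h4 : ((q : A) ⊗ₜ[R] (1 : B) : A ⊗[R] B) = (q : A ⊗[R] B) := by
      have : (Algebra.TensorProduct.includeLeft : A →ₐ[R] A ⊗[R] B) (q : A) = (q : A ⊗[R] B) :=
        map_natCast _ q
      exact this
    rw [← h4]
    exact includeLeft_mem_J R A B _ h3

theorem exists_pow_tmul (q : ℕ) [ExpChar (ResidueField B) q] (a : A) :
    ∃ (n : ℕ) (r : R), a ^ q ^ n - algebraMap R A r ∈ maximalIdeal A := by
  haveI : ExpChar (ResidueField R) q :=
    (algebraMap (ResidueField R) (ResidueField B)).expChar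
      (algebraMap (ResidueField R) (ResidueField B)).injective q
  obtain ⟨n, y, hy⟩ := IsPurelyInseparable.pow_mem (ResidueField R) q (residue A a)
  obtain ⟨r, rfl⟩ := IsLocalRing.residue_surjective y
  refine ⟨n, r, ?_⟩
  rw [← IsLocalRing.residue_eq_zero_iff, map_sub, map_pow, ← hy, sub_eq_zero]
  rfl

theorem key (q : ℕ) [ExpChar (ResidueField B) q] (x : A ⊗[R] B) :
    ∃ (n : ℕ) (b : B), π R A B (x ^ q ^ n) = π R A B ((1 : A) ⊗ₜ[R] b) := by
  induction x using TensorProduct.induction_on with
  | zero =>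
    refine ⟨0, 0, ?_⟩
    rw [pow_zero, pow_one, TensorProduct.tmul_zero]
  | tmul a b =>
    obtain ⟨n, r, hr⟩ := exists_pow_tmul R A B q a
    refine ⟨n, r • b ^ q ^ n, ?_⟩
    rw [← sub_eq_zero, ← map_sub, Ideal.Quotient.eq_zero_iff_mem]
    have h1 : (a ⊗ₜ[R] b) ^ q ^ n - (1 : A) ⊗ₜ[R] (r • b ^ q ^ n) =
        ((a ^ q ^ n - algebraMap R A r) ⊗ₜ[R] (1 : B)) * ((1 : A) ⊗ₜ[R] (b ^ q ^ n)) := by
      rw [Algebra.TensorProduct.tmul_pow, Algebra.TensorProduct.tmul_mul_tmul, mul_one, one_mul,
        TensorProduct.sub_tmul, ← TensorProduct.smul_tmul, Algebra.smul_def, mul_one]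
    rw [h1]
    exact Ideal.mul_mem_right _ _ (includeLeft_mem_J R A B _ hr)
  | add x y hx hy =>
    obtain ⟨n₁, b₁, h₁⟩ := hx
    obtain ⟨n₂, b₂, h₂⟩ := hy
    have hx' : π R A B (x ^ q ^ (n₁ + n₂)) = π R A B ((1 : A) ⊗ₜ[R] (b₁ ^ q ^ n₂)) := by
      rw [pow_add, pow_mul, map_pow, h₁, ← map_pow, Algebra.TensorProduct.tmul_pow, one_pow]
    have hy' : π R A B (y ^ q ^ (n₁ + n₂)) = π R A B ((1 : A) ⊗ₜ[R] (b₂ ^ q ^ n₁)) := by
      rw [add_comm n₁ n₂, pow_add, pow_mul, map_pow, h₂, ← map_pow, Algebra.TensorProduct.tmul_pow,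
        one_pow]
    refine ⟨n₁ + n₂, b₁ ^ q ^ n₂ + b₂ ^ q ^ n₁, ?_⟩
    rw [TensorProduct.tmul_add, map_add, ← hx', ← hy']
    by_cases hq : q = 1
    · subst hq
      simp
    · have hB : ExpChar (ResidueField B) q := inferInstance
      have hprime : q.Prime := by
        rcases hB with _ | ⟨hprime⟩
        · exact absurd rfl hq
        · exact hprime
      obtain ⟨t, ht⟩ := exists_add_pow_prime_pow_eq hprime x y (n₁ + n₂)
      rw [ht, map_add, map_mul, map_mul, map_mul, natCast_mem_J R A B q hq, zero_mul, zero_mul,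
        zero_mul, add_zero, map_add]

end K

section Nontriv

/-- the tensor product of the residue fields -/
abbrev C : Type u := ResidueField A ⊗[ResidueField R] ResidueField B

theorem nontrivial_C : Nontrivial (C R A B) :=
  Algebra.TensorProduct.nontrivial_of_algebraMap_injective_of_flat_left (ResidueField R)
    (ResidueField A) (ResidueField B) (algebraMap (ResidueField R) (ResidueField B)).injective

theorem nontrivial_T : Nontrivial (A ⊗[R] B) := by
  haveI := nontrivial_C R A B
  let f : A →ₐ[R] C R A B :=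
    { toRingHom := (Algebra.TensorProduct.includeLeftRingHom).comp (algebraMap A (ResidueField A))
      commutes' := by
        intro r
        rfl }
  let g : B →ₐ[R] C R A B :=
    { toRingHom := (Algebra.TensorProduct.includeRight :
          ResidueField B →ₐ[ResidueField R] C R A B).toRingHom.comp (algebraMap B (ResidueField B))
      commutes' := by
        intro r
        change (1 : ResidueField A) ⊗ₜ[ResidueField R] (algebraMap B (ResidueField B) (algebraMap R B r)) =
          (algebraMap R (ResidueField A) r) ⊗ₜ[ResidueField R] (1 : ResidueField B)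
        have h1 : algebraMap B (ResidueField B) (algebraMap R B r) =
            (algebraMap R (ResidueField R) r) • (1 : ResidueField B) := by
          rw [← IsScalarTower.algebraMap_apply R B (ResidueField B),
            IsScalarTower.algebraMap_apply R (ResidueField R) (ResidueField B), Algebra.smul_def, mul_one]
        have h2 : algebraMap R (ResidueField A) r =
            (algebraMap R (ResidueField R) r) • (1 : ResidueField A) := by
          rw [IsScalarTower.algebraMap_apply R (ResidueField R) (ResidueField A), Algebra.smul_def, mul_one]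
        rw [h1, h2, TensorProduct.smul_tmul] }
  let φ : A ⊗[R] B →ₐ[R] C R A B := Algebra.TensorProduct.lift f g (fun _ _ => Commute.all _ _)
  exact φ.toRingHom.domain_nontrivial

end Nontriv

section Final
variable [IsPurelyInseparable (ResidueField R) (ResidueField A)]

theorem isLocalRing_T : IsLocalRing (A ⊗[R] B) := by
  haveI := nontrivial_T R A B
  refine IsLocalRing.of_unique_max_ideal ?_
  obtain ⟨M, hM⟩ := Ideal.exists_maximal (A ⊗[R] B)
  refine ⟨M, hM, ?_⟩
  intro M' hM'
  -- M' ≤ M
  have key1 : ∀ (M₁ M₂ : Ideal (A ⊗[R] B)), M₁.IsMaximal → M₂.IsMaximal → M₁ ≤ M₂ := by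
    intro M₁ M₂ h₁ h₂ x hx
    obtain ⟨n, b, hnb⟩ := key R A B (ringExpChar (ResidueField B)) x
    have h1 : x ^ ringExpChar (ResidueField B) ^ n - (1 : A) ⊗ₜ[R] b ∈ J R A B := by
      rw [← Ideal.Quotient.eq_zero_iff_mem, map_sub, sub_eq_zero]
      exact hnb
    have h2 : (1 : A) ⊗ₜ[R] b ∈ M₁ := by
      have h3 := M₁.sub_mem (M₁.pow_mem_of_mem hx _ (pow_pos (expChar_pos (ResidueField B) (ringExpChar (ResidueField B))) n)) (J_le R A B M₁ h1)
      rwa [sub_sub_cancel] at h3
    have h4 : b ∈ maximalIdeal B := by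
      rw [← comap_includeRight R A B M₁]
      exact h2
    have h5 : (1 : A) ⊗ₜ[R] b ∈ M₂ := by
      rw [← comap_includeRight R A B M₂] at h4
      exact h4
    have h6 : x ^ ringExpChar (ResidueField B) ^ n ∈ M₂ := by
      have := M₂.add_mem (J_le R A B M₂ h1) h5
      rwa [sub_add_cancel] at this
    exact h₂.isPrime.mem_of_pow_mem _ h6
  exact le_antisymm (key1 M' M hM' hM) (key1 M M' hM hM')

theorem main :
    ∃ _ : IsLocalRing (A ⊗[R] B),
      IsLocalHom (Algebra.TensorProduct.includeRight : B →ₐ[R] A ⊗[R] B).toRingHom ∧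
      ∀ x : A ⊗[R] B, ∃ (n : ℕ) (b : B),
        x ^ (ringExpChar (IsLocalRing.ResidueField B)) ^ n - (1 : A) ⊗ₜ[R] b ∈
          IsLocalRing.maximalIdeal (A ⊗[R] B) := by
  haveI hloc := isLocalRing_T R A B
  refine ⟨hloc, ?_, ?_⟩
  · refine ⟨fun b hb => ?_⟩
    by_contra hnu
    have h1 : b ∈ maximalIdeal B := hnu
    rw [← comap_includeRight R A B (maximalIdeal (A ⊗[R] B))] at h1
    exact h1 hb
  · intro x
    obtain ⟨n, b, hnb⟩ := key R A B (ringExpChar (ResidueField B)) x
    refine ⟨n, b, ?_⟩
    apply J_le R A B (maximalIdeal (A ⊗[R] B))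
    rw [← Ideal.Quotient.eq_zero_iff_mem, map_sub, sub_eq_zero]
    exact hnb

end Final

end Groth.Agent.Helper6.TensorLocal
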