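import Mathlib
import Groth.Agent.Helper5.FtDim4
import Groth.Agent.Helper5.DimBC

/-!
# The affine dimension theorem, part 1: the diagonal
-/

set_option autoImplicit false
universe u

namespace Groth.Agent.Helper6.AffDim

open MvPolynomial

section Gen

/-- Krull's height theorem and the dimension formula for finite type algebras over a field -/
theorem dim_drop_le (k A : Type u) [Field k] [CommRing A] [Algebra k A] [Algebra.FiniteType k A]
    (P : Ideal A) [hP : P.IsPrime] (s : Finset A) (Q : Ideal A)
    (hQ : Q ∈ (P ⊔ Ideal.span (s : Set A)).minimalPrimes) :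
    ringKrullDim (A ⧸ P) ≤ ringKrullDim (A ⧸ Q) + (s.card : WithBot ℕ∞) := by
  classical
  haveI : IsNoetherianRing A := Algebra.FiniteType.isNoetherianRing k A
  have hQprime : Q.IsPrime := hQ.1.1
  have hPQ : P ≤ Q := le_sup_left.trans hQ.1.2
  set q : Ideal (A ⧸ P) := Q.map (Ideal.Quotient.mk P) with hq
  haveI hqprime : q.IsPrime := Ideal.isPrime_map_quotientMk_of_isPrime hPQ
  set t : Finset (A ⧸ P) := s.image (Ideal.Quotient.mk P) with ht
  have hJ : (Ideal.span (t : Set (A ⧸ P))).comap (Ideal.Quotient.mk P) =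
      P ⊔ Ideal.span (s : Set A) := by
    have : Ideal.span (t : Set (A ⧸ P)) = (Ideal.span (s : Set A)).map (Ideal.Quotient.mk P) := by
      rw [Ideal.map_span, ht, Finset.coe_image]
    rw [this, Ideal.comap_map_of_surjective _ Ideal.Quotient.mk_surjective,
      ← RingHom.ker_eq_comap_bot, Ideal.mk_ker, sup_comm]
  have hqmin : q ∈ (Ideal.span (t : Set (A ⧸ P))).minimalPrimes := by
    have h1 := Ideal.comap_minimalPrimes_eq_of_surjective (f := Ideal.Quotient.mk P)
      Ideal.Quotient.mk_surjective (Ideal.span (t : Set (A ⧸ P)))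
    rw [hJ] at h1
    rw [h1] at hQ
    obtain ⟨q', hq', rfl⟩ := hQ
    rw [hq, Ideal.map_comap_of_surjective _ Ideal.Quotient.mk_surjective]
    exact hq'
  have hle : q.height ≤ (s.card : ℕ∞) := by
    refine (Ideal.height_le_card_of_mem_minimalPrimes_span_finset hqmin).trans ?_
    exact_mod_cast Finset.card_image_le
  have h2 := Groth.Agent.Helper5.FtDim.height_add_dim_quotient k (A ⧸ P) q
  rw [← h2, ← ringKrullDim_eq_of_ringEquiv (DoubleQuot.quotQuotEquivQuotOfLE hPQ), add_comm]
  have h3 : (q.height : WithBot ℕ∞) ≤ ((s.card : ℕ∞) : WithBot ℕ∞) := WithBot.coe_le_coe.2 hle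
  change ringKrullDim ((A ⧸ P) ⧸ q) + (q.height : WithBot ℕ∞) ≤ _
  gcongr
  exact h3

end Gen

section Diag

variable {B : Type u} [CommRing B] {σ : Type*} (a : σ → B)

/-- the ideal of the point `a` -/
noncomputable def ptIdeal : Ideal (MvPolynomial σ B) := Ideal.span (Set.range fun i => X i - C (a i))

theorem sub_C_eval_mem (s : MvPolynomial σ B) : s - C (eval a s) ∈ ptIdeal a := by
  induction s using MvPolynomial.induction_on with
  | C b => rw [eval_C, sub_self]; exact zero_mem _
  | add p q hp hq =>
    have : p + q - C (eval a (p + q)) = (p - C (eval a p)) + (q - C (eval a q)) := by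
      rw [map_add, map_add]; ring
    rw [this]
    exact add_mem hp hq
  | mul_X p i hp =>
    have : p * X i - C (eval a (p * X i)) =
        (p - C (eval a p)) * X i + C (eval a p) * (X i - C (a i)) := by
      rw [map_mul, eval_X, map_mul]; ring
    rw [this]
    exact add_mem (Ideal.mul_mem_right _ _ hp)
      (Ideal.mul_mem_left _ _ (Ideal.subset_span ⟨i, rfl⟩))

end Diag

end Groth.Agent.Helper6.AffDim
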