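import Mathlib
import Groth.Agent.Helper6.ExtBC

/-!
# Flat base change for `Ext`
-/

set_option autoImplicit false
universe u

namespace Groth.Agent.Helper6.ExtBC

open CategoryTheory Abelian Limits TensorProduct

variable (A B : Type u) [CommRing A] [CommRing B] [Algebra A B]

/-- the base change functor `M ↦ B ⊗[A] M` -/
noncomputable def bcF : ModuleCat.{u} A ⥤ ModuleCat.{u} B where
  obj M := ModuleCat.of B (B ⊗[A] M)
  map f := ModuleCat.ofHom (f.hom.baseChange B)
  map_id M := by
    ext : 1
    exact LinearMap.baseChange_id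
  map_comp f g := by
    ext : 1
    exact LinearMap.baseChange_comp _ _

instance : (bcF A B).Additive where
  map_add {X Y f g} := by
    ext : 1
    exact LinearMap.baseChange_add _ _

theorem bcF_compat : Compat (bcF A B) := by
  intro X Y a f
  ext : 1
  show (a • f).hom.baseChange B = algebraMap A B a • f.hom.baseChange B
  refine TensorProduct.AlgebraTensorModule.ext fun b x => ?_
  show b ⊗ₜ[A] (a • f.hom x) = algebraMap A B a • (b ⊗ₜ[A] f.hom x)
  rw [algebraMap_smul, TensorProduct.tmul_smul]

variable [Module.Flat A B]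

theorem bcF_map_exact (T : ShortComplex (ModuleCat.{u} A)) (h : T.Exact) :
    (T.map (bcF A B)).Exact := by
  rw [ShortComplex.ShortExact.moduleCat_exact_iff_function_exact] at h ⊢
  have := Module.Flat.lTensor_exact B h
  intro y
  exact this y

instance : PreservesFiniteLimits (bcF A B) := by
  have := ((Functor.exact_tfae (bcF A B)).out 1 3).mp (bcF_map_exact A B)
  exact this.1

instance : PreservesFiniteColimits (bcF A B) := by
  have := ((Functor.exact_tfae (bcF A B)).out 1 3).mp (bcF_map_exact A B)
  exact this.2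

theorem bcF_proj (s : ℕ) : Projective ((bcF A B).obj (ModuleCat.of A (Fin s → A))) := by
  have : Module.Projective B (B ⊗[A] (Fin s → A)) := inferInstance
  exact (IsProjective.iff_projective (B ⊗[A] (Fin s → A))).mp this

variable [IsNoetherianRing A]

theorem bcF_zero (M : Type u) [AddCommGroup M] [Module A M] [Module.Finite A M]
    (Y : ModuleCat.{u} A) :
    Function.Bijective (psi (bcF A B) (bcF_compat A B) (ModuleCat.of A M) Y 0) := by
  haveI : Module.FinitePresentation A M := Module.finitePresentation_of_finite A M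
  have hbc := Module.FinitePresentation.isBaseChange_map A M Y B
  let εA : Ext (ModuleCat.of A M) Y 0 ≃ₗ[A] (M →ₗ[A] Y) :=
    Ext.linearEquiv₀.trans ModuleCat.homLinearEquiv
  let εB : Ext ((bcF A B).obj (ModuleCat.of A M)) ((bcF A B).obj Y) 0 ≃ₗ[B]
      (B ⊗[A] M →ₗ[B] B ⊗[A] Y) :=
    Ext.linearEquiv₀.trans ModuleCat.homLinearEquiv
  have key : ∀ t, εB (psi (bcF A B) (bcF_compat A B) (ModuleCat.of A M) Y 0 t) =
      hbc.equiv ((εA.toLinearMap.lTensor B) t) := by
    intro t
    induction t using TensorProduct.induction_on with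
    | zero => simp
    | tmul b e =>
      rw [psi_tmul, LinearEquiv.map_smul, LinearMap.lTensor_tmul, IsBaseChange.equiv_tmul]
      congr 1
      obtain ⟨φ, rfl⟩ : ∃ φ, e = Ext.mk₀ φ :=
        ⟨Ext.linearEquiv₀ (R := A) e, (Ext.mk₀_linearEquiv₀_apply (R := A) e).symm⟩
      rw [Ext.mapExactFunctor_mk₀]
      show ((Ext.linearEquiv₀ (R := B)) (Ext.mk₀ ((bcF A B).map φ))).hom =
        ((Ext.linearEquiv₀ (R := A)) (Ext.mk₀ φ)).hom.baseChange B
      have h1 : (Ext.linearEquiv₀ (R := B)) (Ext.mk₀ ((bcF A B).map φ)) = (bcF A B).map φ :=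
        (Ext.linearEquiv₀ (R := B)).apply_symm_apply _
      have h2 : (Ext.linearEquiv₀ (R := A)) (Ext.mk₀ φ) = φ :=
        (Ext.linearEquiv₀ (R := A)).apply_symm_apply _
      rw [h1, h2]
      rfl
    | add x y hx hy =>
      rw [map_add, map_add, hx, hy, map_add, map_add]
  have hfun : ⇑(psi (bcF A B) (bcF_compat A B) (ModuleCat.of A M) Y 0) =
      εB.symm ∘ hbc.equiv ∘ (LinearEquiv.lTensor B εA) := by
    funext t
    simp only [Function.comp_apply]
    rw [LinearEquiv.eq_symm_apply]
    exact key t
  rw [hfun]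
  exact εB.symm.bijective.comp (hbc.equiv.bijective.comp (LinearEquiv.lTensor B εA).bijective)

/-- **Flat base change for `Ext`** -/
theorem bcF_bijective (M : Type u) [AddCommGroup M] [Module A M]
    [Module.Finite A M] (Y : ModuleCat.{u} A) (r : ℕ) :
    Function.Bijective (psi (bcF A B) (bcF_compat A B) (ModuleCat.of A M) Y r) :=
  bijective_all (bcF A B) (bcF_compat A B) (bcF_proj A B) Y
    (fun M _ _ _ => bcF_zero A B M Y) r M

end Groth.Agent.Helper6.ExtBC
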