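import Mathlib
import Groth.Agent.Helper1.TorCrit

/-!
# Rees' change of rings for `Ext`, part 1: generic dimension shifting and the degree-one bridge
-/

set_option autoImplicit false
universe u w v

namespace Groth.Agent.Helper6.Rees

open CategoryTheory Abelian
open Groth.Agent.Helper1.TorLib

section Generic

variable {C : Type u} [Category.{v} C] [Abelian C] [HasExt.{w} C]
  {T : ShortComplex C} (hT : T.ShortExact) (Y : C)

include hT

/-- `Ext^{i+1}(X₃, Y) = 0` iff restriction `Ext^i(X₂, Y) → Ext^i(X₁, Y)` is surjective, when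
`Ext^{i+1}(X₂, Y) = 0`. -/
theorem G2 (i : ℕ) (hP : ∀ x : Ext T.X₂ Y (i + 1), x = 0) :
    (∀ x : Ext T.X₃ Y (i + 1), x = 0) ↔
      (∀ x₁ : Ext T.X₁ Y i, ∃ x₂ : Ext T.X₂ Y i, (Ext.mk₀ T.f).comp x₂ (zero_add i) = x₁) := by
  constructor
  · intro h x₁
    exact Ext.contravariant_sequence_exact₁ hT Y x₁ (add_comm 1 i) (h _)
  · intro h x₃
    obtain ⟨x₁, rfl⟩ := Ext.contravariant_sequence_exact₃ hT Y x₃ (hP _) (add_comm 1 i)
    obtain ⟨x₂, rfl⟩ := h x₁
    rw [hT.extClass_comp_assoc]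

theorem G1 (i : ℕ) (hP : ∀ x : Ext T.X₂ Y (i + 1), x = 0) (hP' : ∀ x : Ext T.X₂ Y i, x = 0) :
    (∀ x : Ext T.X₃ Y (i + 1), x = 0) ↔ (∀ x : Ext T.X₁ Y i, x = 0) := by
  rw [G2 hT Y i hP]
  constructor
  · intro h x₁
    obtain ⟨x₂, rfl⟩ := h x₁
    rw [hP' x₂, Ext.comp_zero]
  · intro h x₁
    exact ⟨0, by rw [Ext.comp_zero, h x₁]⟩

end Generic

section ThetaGeneric

variable {C : Type u} [Category.{v} C] [Abelian C] [HasExt.{w} C]
  {T : ShortComplex C} (hT : T.ShortExact) (X : C)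

/-- the bridge map `Hom(X, T.X₃) → Ext^1(X, T.X₁)` -/
noncomputable def thetaG (φ : X ⟶ T.X₃) : Ext X T.X₁ 1 :=
  (Ext.mk₀ φ).comp hT.extClass (zero_add 1)

theorem thetaG_injective (h0 : ∀ g : X ⟶ T.X₂, g = 0) : Function.Injective (thetaG hT X) := by
  intro φ φ' h
  have hsub : thetaG hT X (φ - φ') = 0 := by
    unfold thetaG at h ⊢
    rw [sub_eq_add_neg, Ext.mk₀_add, Ext.mk₀_neg, Ext.add_comp, Ext.neg_comp, h, add_neg_cancel]
  suffices h0 : φ - φ' = 0 from sub_eq_zero.mp h0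
  generalize φ - φ' = ψ at hsub
  unfold thetaG at hsub
  obtain ⟨x₂, hx₂⟩ := Ext.covariant_sequence_exact₃ X hT (Ext.mk₀ ψ) (zero_add 1) hsub
  obtain ⟨g, rfl⟩ := (Ext.mk₀_bijective _ _).2 x₂
  rw [h0 g, Ext.mk₀_zero, Ext.zero_comp] at hx₂
  apply (Ext.mk₀_bijective _ _).1
  rw [← hx₂, Ext.mk₀_zero]

theorem thetaG_surjective
    (h1 : ∀ x : Ext X T.X₁ 1, x.comp (Ext.mk₀ T.f) (add_zero 1) = 0) :
    Function.Surjective (thetaG hT X) := by
  intro x
  obtain ⟨x₃, hx₃⟩ := Ext.covariant_sequence_exact₁ X hT x (h1 x) (zero_add 1)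
  obtain ⟨g, rfl⟩ := (Ext.mk₀_bijective _ _).2 x₃
  exact ⟨g, hx₃⟩

theorem thetaG_comp {X' : C} (ι : X' ⟶ X) (φ : X ⟶ T.X₃) :
    thetaG hT X' (ι ≫ φ) = (Ext.mk₀ ι).comp (thetaG hT X φ) (zero_add 1) := by
  unfold thetaG
  rw [← Ext.mk₀_comp_mk₀, Ext.comp_assoc_of_second_deg_zero]

end ThetaGeneric

section Theta

variable {A : Type u} [CommRing A] (f : A) (hf : IsSMulRegular A f)

/-- multiplication by `f` on `A` -/
def fmul : A →ₗ[A] A := LinearMap.lsmul A A f

/-- the quotient map `A → A/(f)` -/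
def qmap : A →ₗ[A] A ⧸ Ideal.span {f} := Submodule.mkQ (Ideal.span {f})

theorem fmul_qmap_exact : Function.Exact (fmul f) (qmap f) := by
  intro y
  rw [qmap, Submodule.mkQ_apply, Submodule.Quotient.mk_eq_zero, Ideal.mem_span_singleton']
  constructor
  · rintro ⟨a, rfl⟩
    exact ⟨a, by simp [fmul, mul_comm]⟩
  · rintro ⟨a, rfl⟩
    exact ⟨a, by simp [fmul, mul_comm]⟩

include hf in
theorem fmul_injective : Function.Injective (fmul f) := hf

theorem qmap_surjective : Function.Surjective (qmap f) := Submodule.mkQ_surjective _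

include hf in
/-- the short exact sequence `0 → A → A → A/(f) → 0` -/
theorem ses₀ : (scOfLinear (fmul f) (qmap f) (fmul_qmap_exact f)).ShortExact :=
  scOfLinear_shortExact _ _ (fmul_injective f hf) (qmap_surjective f) _

variable (X : Type u) [AddCommGroup X] [Module A X] (hX : ∀ x : X, f • x = 0)

/-- the bridge map `Hom_A(X, A/(f)) → Ext^1_A(X, A)` -/
noncomputable def theta (φ : X →ₗ[A] A ⧸ Ideal.span {f}) :
    Ext (ModuleCat.of A X) (ModuleCat.of A A) 1 :=
  thetaG (ses₀ f hf) (ModuleCat.of A X) (ModuleCat.ofHom φ)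

include hf hX in
theorem hom_eq_zero (g : ModuleCat.of A X ⟶ ModuleCat.of A A) : g = 0 := by
  ext x
  apply hf
  show f • g.hom x = f • (0 : A)
  rw [← map_smul, hX, map_zero, smul_zero]

include hX in
theorem comp_fmul_eq_zero (x : Ext (ModuleCat.of A X) (ModuleCat.of A A) 1) :
    x.comp (Ext.mk₀ (ModuleCat.ofHom (fmul f))) (add_zero 1) = 0 := by
  have e1 : ModuleCat.ofHom (fmul f) = f • 𝟙 (ModuleCat.of A A) := by
    ext : 1
    ext
    simp [fmul]
  rw [e1, ← Ext.smul_eq_comp_mk₀]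
  have e2 : f • x = (Ext.mk₀ (f • 𝟙 (ModuleCat.of A X))).comp x (zero_add 1) := by
    rw [Ext.mk₀_smul, Ext.smul_comp, Ext.mk₀_id_comp]
  have e3 : f • 𝟙 (ModuleCat.of A X) = 0 := by
    ext : 1
    ext y
    exact hX y
  rw [e2, e3, Ext.mk₀_zero, Ext.zero_comp]

include hX in
theorem theta_injective : Function.Injective (theta f hf X) := by
  intro φ φ' h
  have := thetaG_injective (ses₀ f hf) (ModuleCat.of A X) (fun g => hom_eq_zero f hf X hX g) h
  have h2 := congrArg ModuleCat.Hom.hom this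
  simpa using h2

include hX in
theorem theta_surjective : Function.Surjective (theta f hf X) := by
  intro x
  obtain ⟨g, hg⟩ := thetaG_surjective (ses₀ f hf) (ModuleCat.of A X)
    (fun x => comp_fmul_eq_zero f X hX x) x
  exact ⟨g.hom, hg⟩

/-- naturality of `theta` -/
theorem theta_comp {X' : Type u} [AddCommGroup X'] [Module A X'] (ι : X' →ₗ[A] X)
    (φ : X →ₗ[A] A ⧸ Ideal.span {f}) :
    theta f hf X' (φ ∘ₗ ι) =
      (Ext.mk₀ (ModuleCat.ofHom ι)).comp (theta f hf X φ) (zero_add 1) := by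
  unfold theta
  rw [ModuleCat.ofHom_comp]
  exact thetaG_comp (ses₀ f hf) (ModuleCat.of A X) (ModuleCat.ofHom ι) (ModuleCat.ofHom φ)

end Theta

end Groth.Agent.Helper6.Rees
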