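import Mathlib
import Groth.Agent.Helper6.Rees1
import Groth.Agent.Helper6.PdQuotAdd

/-!
# Rees' change of rings for `Ext`, part 2: `Ext^{i+1}_A(N, A) = 0 ↔ Ext^i_{A/f}(N, A/f) = 0`
-/

set_option autoImplicit false
universe u

namespace Groth.Agent.Helper6.Rees

open CategoryTheory Abelian
open Groth.Agent.Helper1.TorLib Groth.Agent.Helper6.PdQuotAdd

section BridgeB

variable {R : Type u} [CommRing R] {K P Y : Type u} [AddCommGroup K] [Module R K]
  [AddCommGroup P] [Module R P] [AddCommGroup Y] [Module R Y] (ι : K →ₗ[R] P)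

theorem bridgeB :
    (∀ x₁ : Ext (ModuleCat.of R K) (ModuleCat.of R Y) 0,
      ∃ x₂ : Ext (ModuleCat.of R P) (ModuleCat.of R Y) 0,
        (Ext.mk₀ (ModuleCat.ofHom ι)).comp x₂ (zero_add 0) = x₁) ↔
      (∀ φ : K →ₗ[R] Y, ∃ ψ : P →ₗ[R] Y, ψ ∘ₗ ι = φ) := by
  constructor
  · intro h φ
    obtain ⟨x₂, hx₂⟩ := h (Ext.mk₀ (ModuleCat.ofHom φ))
    obtain ⟨g, rfl⟩ := (Ext.mk₀_bijective _ _).2 x₂
    rw [Ext.mk₀_comp_mk₀] at hx₂
    have := (Ext.mk₀_bijective _ _).1 hx₂
    refine ⟨g.hom, ?_⟩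
    have h2 := congrArg ModuleCat.Hom.hom this
    simpa using h2
  · intro h x₁
    obtain ⟨g, rfl⟩ := (Ext.mk₀_bijective _ _).2 x₁
    obtain ⟨ψ, hψ⟩ := h g.hom
    refine ⟨Ext.mk₀ (ModuleCat.ofHom ψ), ?_⟩
    rw [Ext.mk₀_comp_mk₀, ← ModuleCat.ofHom_comp, hψ]
    rfl

end BridgeB

section BridgeA

variable {A : Type u} [CommRing A] (f : A) (hf : IsSMulRegular A f)
  {K P : Type u} [AddCommGroup K] [Module A K] [AddCommGroup P] [Module A P]
  (hK : ∀ x : K, f • x = 0) (hP : ∀ x : P, f • x = 0) (ι : K →ₗ[A] P)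

include hf hK hP in
theorem bridgeA :
    (∀ x₁ : Ext (ModuleCat.of A K) (ModuleCat.of A A) 1,
      ∃ x₂ : Ext (ModuleCat.of A P) (ModuleCat.of A A) 1,
        (Ext.mk₀ (ModuleCat.ofHom ι)).comp x₂ (zero_add 1) = x₁) ↔
      (∀ φ : K →ₗ[A] A ⧸ Ideal.span {f}, ∃ ψ : P →ₗ[A] A ⧸ Ideal.span {f}, ψ ∘ₗ ι = φ) := by
  constructor
  · intro h φ
    obtain ⟨x₂, hx₂⟩ := h (theta f hf K φ)
    obtain ⟨ψ, rfl⟩ := theta_surjective f hf P hP x₂
    rw [← theta_comp] at hx₂
    exact ⟨ψ, theta_injective f hf K hK hx₂⟩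
  · intro h x₁
    obtain ⟨φ, rfl⟩ := theta_surjective f hf K hK x₁
    obtain ⟨ψ, rfl⟩ := h φ
    exact ⟨theta f hf P ψ, (theta_comp f hf P ι ψ).symm⟩

end BridgeA

section Key

variable {A : Type u} [CommRing A] [IsNoetherianRing A] (f : A) (hf : IsSMulRegular A f)

set_option quotPrecheck false in
local notation "Ā" => A ⧸ Ideal.span (Singleton.singleton f : Set A)

include hf in
theorem pdLT_quot : HasProjectiveDimensionLT (ModuleCat.of A Ā) 2 := by
  haveI : Projective (ModuleCat.of A A) := (IsProjective.iff_projective A).mp inferInstance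
  have h1 : HasProjectiveDimensionLT (ModuleCat.of A A) 1 := inferInstance
  have h2 : HasProjectiveDimensionLT (ModuleCat.of A A) (1 + 1) :=
    hasProjectiveDimensionLT_of_ge _ 1 2 (by omega)
  exact pdLT_right (fmul f) (qmap f) (fmul_injective f hf) (qmap_surjective f)
    (fmul_qmap_exact f) 1 h1 h2

include hf in
theorem ext_pi_eq_zero (s : ℕ) (Y : ModuleCat.{u} A) (j : ℕ) (hj : 2 ≤ j)
    (x : Ext (ModuleCat.of A (Fin s → Ā)) Y j) : x = 0 := by
  haveI := pdLT_pi (R := A) Ā 2 (pdLT_quot f hf) s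
  exact Ext.eq_zero_of_hasProjectiveDimensionLT x 2 hj

theorem smul_eq_zero_of_tower (N : Type u) [AddCommGroup N] [Module Ā N] [Module A N]
    [IsScalarTower A Ā N] (x : N) : f • x = 0 := by
  rw [← algebraMap_smul Ā f x]
  have : algebraMap A Ā f = 0 := by
    rw [Ideal.Quotient.algebraMap_eq, Ideal.Quotient.eq_zero_iff_mem]
    exact Ideal.mem_span_singleton_self f
  rw [this, zero_smul]

/-- `A`-linear maps between `A/(f)`-modules are `A/(f)`-linear -/
theorem bridgeAB {K P : Type u} [AddCommGroup K] [Module Ā K] [Module A K] [IsScalarTower A Ā K]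
    [AddCommGroup P] [Module Ā P] [Module A P] [IsScalarTower A Ā P] (ι : K →ₗ[Ā] P) :
    (∀ φ : K →ₗ[A] Ā, ∃ ψ : P →ₗ[A] Ā, ψ ∘ₗ (ι.restrictScalars A) = φ) ↔
      (∀ φ : K →ₗ[Ā] Ā, ∃ ψ : P →ₗ[Ā] Ā, ψ ∘ₗ ι = φ) := by
  have hsurj : Function.Surjective (algebraMap A Ā) := Ideal.Quotient.mk_surjective
  constructor
  · intro h φ
    obtain ⟨ψ, hψ⟩ := h (φ.restrictScalars A)
    refine ⟨ψ.extendScalarsOfSurjective hsurj, ?_⟩
    ext x
    exact LinearMap.congr_fun hψ x
  · intro h φ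
    obtain ⟨ψ, hψ⟩ := h (φ.extendScalarsOfSurjective hsurj)
    refine ⟨ψ.restrictScalars A, ?_⟩
    ext x
    exact LinearMap.congr_fun hψ x

include hf in
/-- **Rees**: for a finite `A/(f)`-module `N` and `i ≥ 1`,
`Ext^{i+1}_A(N, A) = 0 ↔ Ext^i_{A/(f)}(N, A/(f)) = 0`. -/
theorem key (i : ℕ) : ∀ (N : Type u) [AddCommGroup N] [Module Ā N] [Module A N]
    [IsScalarTower A Ā N] [Module.Finite Ā N],
    (∀ x : Ext (ModuleCat.of A N) (ModuleCat.of A A) (i + 1 + 1), x = 0) ↔
      (∀ x : Ext (ModuleCat.of Ā N) (ModuleCat.of Ā Ā) (i + 1), x = 0) := by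
  induction i with
  | zero =>
    intro N _ _ _ _ _
    obtain ⟨s, π, hπ⟩ := Module.Finite.exists_fin' Ā N
    have hTA := scOfLinear_shortExact ((LinearMap.ker π).subtype.restrictScalars A)
      (π.restrictScalars A) (Submodule.injective_subtype _) hπ (LinearMap.exact_subtype_ker_map π)
    have hTB := scOfLinear_shortExact (LinearMap.ker π).subtype π
      (Submodule.injective_subtype _) hπ (LinearMap.exact_subtype_ker_map π)
    have hA := G2 hTA (ModuleCat.of A A) 1 (fun x => ext_pi_eq_zero f hf s _ 2 le_rfl x)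
    haveI : Projective (ModuleCat.of Ā (Fin s → Ā)) :=
      (IsProjective.iff_projective (Fin s → Ā)).mp inferInstance
    have hB := G2 hTB (ModuleCat.of Ā Ā) 0
      (fun x => Ext.eq_zero_of_projective (P := ModuleCat.of Ā (Fin s → Ā)) x)
    have h1 := bridgeA f hf (K := LinearMap.ker π) (P := Fin s → Ā)
      (smul_eq_zero_of_tower f _) (smul_eq_zero_of_tower f _)
      ((LinearMap.ker π).subtype.restrictScalars A)
    have h2 := bridgeAB f (LinearMap.ker π).subtype
    have h3 := bridgeB (R := Ā) (Y := Ā) (LinearMap.ker π).subtype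
    exact hA.trans (h1.trans (h2.trans (h3.symm.trans hB.symm)))
  | succ i ih =>
    intro N _ _ _ _ _
    obtain ⟨s, π, hπ⟩ := Module.Finite.exists_fin' Ā N
    have hTA := scOfLinear_shortExact ((LinearMap.ker π).subtype.restrictScalars A)
      (π.restrictScalars A) (Submodule.injective_subtype _) hπ (LinearMap.exact_subtype_ker_map π)
    have hTB := scOfLinear_shortExact (LinearMap.ker π).subtype π
      (Submodule.injective_subtype _) hπ (LinearMap.exact_subtype_ker_map π)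
    have hA := G1 hTA (ModuleCat.of A A) (i + 1 + 1)
      (fun x => ext_pi_eq_zero f hf s _ _ (by omega) x)
      (fun x => ext_pi_eq_zero f hf s _ _ (by omega) x)
    haveI : Projective (ModuleCat.of Ā (Fin s → Ā)) :=
      (IsProjective.iff_projective (Fin s → Ā)).mp inferInstance
    have hB := G1 hTB (ModuleCat.of Ā Ā) (i + 1)
      (fun x => Ext.eq_zero_of_projective (P := ModuleCat.of Ā (Fin s → Ā)) x)
      (fun x => Ext.eq_zero_of_projective (P := ModuleCat.of Ā (Fin s → Ā)) x)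
    exact hA.trans ((ih (LinearMap.ker π)).trans hB.symm)

end Key

end Groth.Agent.Helper6.Rees
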