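import Mathlib
import Groth.Prelude.Def_CAlg
import Groth.Agent.Helper6.Rees2
import Groth.Agent.S0340

/-!
# A local ring is Gorenstein iff its quotient by a regular element is
-/

set_option autoImplicit false
universe u w v

namespace Groth.Agent.Helper6.Rees

open CategoryTheory Abelian IsLocalRing

section Iso

variable {C : Type u} [Category.{v} C] [Abelian C] [HasExt.{w} C]

theorem forall_eq_zero_of_iso {X X' : C} (e : X ≅ X') (Y : C) (j : ℕ)
    (h : ∀ x : Ext X' Y j, x = 0) (x : Ext X Y j) : x = 0 := by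
  have h1 : x = (Ext.mk₀ e.hom).comp ((Ext.mk₀ e.inv).comp x (zero_add j)) (zero_add j) := by
    rw [Ext.mk₀_comp_mk₀_assoc, e.hom_inv_id, Ext.mk₀_id_comp]
  rw [h1, h ((Ext.mk₀ e.inv).comp x (zero_add j)), Ext.comp_zero]

end Iso

variable (A : Type u) [CommRing A] [IsLocalRing A] [IsNoetherianRing A] (f : A)
  (hf : f ∈ maximalIdeal A) (hreg : IsSMulRegular A f)

set_option quotPrecheck false in
local notation "Ā" => A ⧸ Ideal.span (Singleton.singleton f : Set A)

include hf in
theorem nontrivial_quot : Nontrivial Ā := by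
  apply Ideal.Quotient.nontrivial_iff.mpr
  intro h
  have : (1 : A) ∈ maximalIdeal A := by
    have h1 : Ideal.span {f} ≤ maximalIdeal A := (Ideal.span_singleton_le_iff_mem _).mpr hf
    exact h1 (by rw [h]; trivial)
  exact (Ideal.ne_top_iff_one _).mp (Ideal.IsPrime.ne_top inferInstance) this

/-- the residue field of `A/(f)` is `A`-isomorphic to the residue field of `A` -/
noncomputable def residueIso [IsLocalRing Ā] :
    ResidueField Ā ≃ₗ[A] ResidueField A := by
  let g : A →ₗ[A] ResidueField Ā := Algebra.linearMap A (ResidueField Ā)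
  have hg : Function.Surjective g := by
    intro y
    obtain ⟨y, rfl⟩ := IsLocalRing.residue_surjective y
    obtain ⟨y, rfl⟩ := Ideal.Quotient.mk_surjective y
    exact ⟨y, rfl⟩
  have hker : LinearMap.ker g = maximalIdeal A := by
    ext x
    rw [LinearMap.mem_ker]
    show residue Ā (Ideal.Quotient.mk _ x) = 0 ↔ _
    rw [residue_eq_zero_iff]
    haveI : IsLocalHom (Ideal.Quotient.mk (Ideal.span (Singleton.singleton f : Set A))) :=
      IsLocalHom.of_surjective _ Ideal.Quotient.mk_surjective
    rw [mem_maximalIdeal, mem_maximalIdeal, mem_nonunits_iff, mem_nonunits_iff, isUnit_map_iff]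
  exact ((Submodule.quotEquivOfEq _ _ hker.symm).trans (g.quotKerEquivOfSurjective hg)).symm

include hf hreg in
theorem main : LocCoh.IsGorensteinLocalRing A ↔ LocCoh.IsGorensteinLocalRing Ā := by
  haveI := nontrivial_quot A f hf
  haveI : IsLocalRing Ā :=
    IsLocalRing.of_surjective' (Ideal.Quotient.mk _) Ideal.Quotient.mk_surjective
  rw [Groth.Agent.S0340.result A, Groth.Agent.S0340.result Ā]
  have hkey := fun i => key f hreg i (ResidueField Ā)
  let e := (residueIso A f).toModuleIso
  have sub_iff : ∀ {G : Type u} [AddCommGroup G], Subsingleton G ↔ ∀ x : G, x = 0 := by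
    intro G _
    exact ⟨fun h x => Subsingleton.elim _ _, fun h => ⟨fun a b => (h a).trans (h b).symm⟩⟩
  constructor
  · rintro ⟨n₀, h⟩
    refine ⟨n₀ + 1, fun j hj => ?_⟩
    obtain ⟨i, rfl⟩ : ∃ i, j = i + 1 := ⟨j - 1, by omega⟩
    rw [sub_iff]
    rw [← hkey i]
    intro x
    refine forall_eq_zero_of_iso e _ _ ?_ x
    have := h (i + 1 + 1) (by omega)
    exact sub_iff.mp this
  · rintro ⟨n₁, h⟩
    refine ⟨n₁ + 2, fun j hj => ?_⟩
    obtain ⟨i, rfl⟩ : ∃ i, j = i + 1 + 1 := ⟨j - 2, by omega⟩
    rw [sub_iff]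
    intro x
    refine forall_eq_zero_of_iso e.symm _ _ ?_ x
    rw [hkey i]
    have := h (i + 1) (by omega)
    exact sub_iff.mp this

end Groth.Agent.Helper6.Rees
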