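import Mathlib
import Groth.Prelude.Def_GrLC
import Groth.Prelude.Def_Wider

namespace Groth.Agent.Helper6.GrMod

open DirectSum

universe u

section Basic

variable {ι : Type} [AddCommGroup ι] [DecidableEq ι] {R : Type u} [CommRing R]
  (𝒜 : ι → AddSubgroup R) [GradedRing 𝒜]
  {M : Type u} [AddCommGroup M] [Module R M] (ℳ : ι → AddSubgroup M) [Decomposition ℳ]
  [SetLike.GradedSMul 𝒜 ℳ]
  {N : Type u} [AddCommGroup N] [Module R N] (𝒩 : ι → AddSubgroup N) [Decomposition 𝒩]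

include 𝒜 in
theorem smul_mem' {g i : ι} {c : R} (hc : c ∈ 𝒜 g) {m : M} (hm : m ∈ ℳ i) :
    c • m ∈ ℳ (g + i) := by
  have := SetLike.GradedSMul.smul_mem (A := 𝒜) (B := ℳ) hc hm
  rwa [vadd_eq_add] at this

theorem decompose_smul_homog {g : ι} {c : R} (hc : c ∈ 𝒜 g) (m : M) (i : ι) :
    (decompose ℳ (c • m) (g + i) : M) = c • (decompose ℳ m i : M) := by
  induction m using Decomposition.inductionOn ℳ with
  | zero => simp
  | @homogeneous j m =>
    have hcm : c • (m : M) ∈ ℳ (g + j) := smul_mem' 𝒜 ℳ hc m.2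
    by_cases hij : j = i
    · subst hij
      rw [decompose_of_mem_same ℳ hcm, decompose_of_mem_same ℳ m.2]
    · rw [decompose_of_mem_ne ℳ hcm (by simpa using hij), decompose_of_mem_ne ℳ m.2 hij, smul_zero]
  | add m m' h h' =>
    rw [smul_add, decompose_add, decompose_add, DirectSum.add_apply, DirectSum.add_apply,
      AddSubgroup.coe_add, AddSubgroup.coe_add, h, h', smul_add]

variable {ℳ 𝒩} in
theorem decompose_map {f : M →ₗ[R] N} (hf : GrLC.IsGrHom ℳ 𝒩 f) (m : M) (i : ι) :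
    (decompose 𝒩 (f m) i : N) = f (decompose ℳ m i : M) := by
  induction m using Decomposition.inductionOn ℳ with
  | zero => simp
  | @homogeneous j m =>
    have hfm : f (m : M) ∈ 𝒩 j := hf j m m.2
    by_cases hij : j = i
    · subst hij
      rw [decompose_of_mem_same 𝒩 hfm, decompose_of_mem_same ℳ m.2]
    · rw [decompose_of_mem_ne 𝒩 hfm hij, decompose_of_mem_ne ℳ m.2 hij, map_zero]
  | add m m' h h' =>
    rw [map_add, decompose_add, decompose_add, DirectSum.add_apply, DirectSum.add_apply,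
      AddSubgroup.coe_add, AddSubgroup.coe_add, h, h', map_add]

variable {ℳ 𝒩} in
theorem ker_isHomogeneous {f : M →ₗ[R] N} (hf : GrLC.IsGrHom ℳ 𝒩 f) :
    (LinearMap.ker f).IsHomogeneous ℳ := by
  intro i m hm
  rw [LinearMap.mem_ker] at hm ⊢
  rw [← decompose_map hf, hm, decompose_zero, DirectSum.zero_apply, ZeroMemClass.coe_zero]

variable {ℳ 𝒩} in
theorem range_isHomogeneous {f : M →ₗ[R] N} (hf : GrLC.IsGrHom ℳ 𝒩 f) :
    (LinearMap.range f).IsHomogeneous 𝒩 := by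
  rintro i _ ⟨m, rfl⟩
  exact ⟨(decompose ℳ m i : M), (decompose_map hf m i).symm⟩

theorem decompose_smul_right {d : ι} {x : M} (hx : x ∈ ℳ d) (r : R) (j : ι) :
    (decompose ℳ (r • x) (j + d) : M) = (decompose 𝒜 r j : R) • x := by
  induction r using Decomposition.inductionOn 𝒜 with
  | zero => simp
  | @homogeneous k r =>
    have hrx : (r : R) • x ∈ ℳ (k + d) := smul_mem' 𝒜 ℳ r.2 hx
    by_cases hkj : k = j
    · subst hkj
      rw [decompose_of_mem_same ℳ hrx, decompose_of_mem_same 𝒜 r.2]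
    · rw [decompose_of_mem_ne ℳ hrx (by simpa using hkj), decompose_of_mem_ne 𝒜 r.2 hkj, zero_smul]
  | add r r' h h' =>
    rw [add_smul, decompose_add, decompose_add, DirectSum.add_apply, DirectSum.add_apply,
      AddSubgroup.coe_add, AddSubgroup.coe_add, h, h', add_smul]

omit [AddCommGroup ι] in
theorem eq_zero_of_components {x : N} (h : ∀ i, (decompose 𝒩 x i : N) = 0) : x = 0 := by
  apply (decompose 𝒩).injective
  rw [decompose_zero]
  ext i
  rw [h i, DirectSum.zero_apply, ZeroMemClass.coe_zero]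

include 𝒜 in
theorem span_singleton_isHomogeneous {d : ι} {x : M} (hx : x ∈ ℳ d) :
    (Submodule.span R {x}).IsHomogeneous ℳ := by
  intro i m hm
  obtain ⟨r, rfl⟩ := Submodule.mem_span_singleton.mp hm
  have : i = (i - d) + d := by abel
  rw [this, decompose_smul_right 𝒜 ℳ hx]
  exact Submodule.smul_mem _ _ (Submodule.mem_span_singleton_self x)

end Basic

section Ess

variable {ι : Type} [AddCommGroup ι] [DecidableEq ι] {R : Type u} [CommRing R]
  (𝒜 : ι → AddSubgroup R) [GradedRing 𝒜]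
  {M : Type u} [AddCommGroup M] [Module R M] {τ : Type u} [SetLike τ M] [AddSubgroupClass τ M]
  (ℳ : ι → τ)
  {L : Type u} [AddCommGroup L] [Module R L] (𝓛 : ι → AddSubgroup L) [Decomposition 𝓛]
  [SetLike.GradedSMul 𝒜 𝓛]

theorem exists_homog_smul_of_homog {f : M →ₗ[R] L} (hf : GrLC.IsStarEss ℳ 𝓛 f)
    (hR : (LinearMap.range f).IsHomogeneous 𝓛) {d : ι} {x : L}
    (hx : x ∈ 𝓛 d) (hx0 : x ≠ 0) :
    ∃ (e : ι) (a : R), a ∈ 𝒜 e ∧ a • x ≠ 0 ∧ a • x ∈ LinearMap.range f := by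
  have hP := span_singleton_isHomogeneous 𝒜 𝓛 hx
  have hP0 : Submodule.span R {x} ≠ ⊥ := by
    rw [Ne, Submodule.span_singleton_eq_bot]
    exact hx0
  have hne := hf.essential _ hP hP0
  obtain ⟨y, hy, hy0⟩ := (Submodule.ne_bot_iff _).mp hne
  obtain ⟨hyP, hyf⟩ := Submodule.mem_inf.mp hy
  obtain ⟨r, rfl⟩ := Submodule.mem_span_singleton.mp hyP
  by_contra hcon
  push Not at hcon
  apply hy0
  apply eq_zero_of_components 𝓛
  intro i
  have hi : i = (i - d) + d := by abel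
  rw [hi, decompose_smul_right 𝒜 𝓛 hx]
  by_contra hne0
  refine hcon (i - d) (decompose 𝒜 r (i - d) : R) (decompose 𝒜 r (i - d)).2 hne0 ?_
  rw [← decompose_smul_right 𝒜 𝓛 hx]
  exact hR _ hyf

theorem exists_homog_smul {f : M →ₗ[R] L} (hf : GrLC.IsStarEss ℳ 𝓛 f)
    (hR : (LinearMap.range f).IsHomogeneous 𝓛) (n : ℕ) :
    ∀ (s : Finset ι) (x : L), s.card ≤ n → (∀ i ∉ s, (decompose 𝓛 x i : L) = 0) → x ≠ 0 →
      ∃ (e : ι) (a : R), a ∈ 𝒜 e ∧ a • x ≠ 0 ∧ a • x ∈ LinearMap.range f := by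
  induction n with
  | zero =>
    intro s x hs hx hx0
    have : s = ∅ := Finset.card_eq_zero.mp (Nat.le_zero.mp hs)
    subst this
    exact absurd (eq_zero_of_components 𝓛 fun i => hx i (Finset.notMem_empty i)) hx0
  | succ n ih =>
    intro s x hs hx hx0
    obtain ⟨d, hd⟩ : ∃ d, (decompose 𝓛 x d : L) ≠ 0 := by
      by_contra h
      push Not at h
      exact hx0 (eq_zero_of_components 𝓛 h)
    have hds : d ∈ s := by
      by_contra h
      exact hd (hx d h)
    obtain ⟨e, a, ha, hax, haf⟩ := exists_homog_smul_of_homog 𝒜 ℳ 𝓛 hf hR (decompose 𝓛 x d).2 hd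
    have hx'comp : ∀ j, (decompose 𝓛 (x - (decompose 𝓛 x d : L)) j : L) =
        if j = d then 0 else (decompose 𝓛 x j : L) := by
      intro j
      rw [decompose_sub, DirectSum.sub_apply, AddSubgroup.coe_sub]
      split_ifs with hj
      · subst hj
        rw [decompose_of_mem_same 𝓛 (decompose 𝓛 x j).2, sub_self]
      · rw [decompose_of_mem_ne 𝓛 (decompose 𝓛 x d).2 (Ne.symm hj), sub_zero]
    by_cases h0 : a • (x - (decompose 𝓛 x d : L)) = 0
    · have : a • x = a • (decompose 𝓛 x d : L) := by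
        rw [← sub_eq_zero, ← smul_sub]; exact h0
      exact ⟨e, a, ha, this ▸ hax, this ▸ haf⟩
    · have hcard : ((s.erase d).image (e + ·)).card ≤ n := by
        have h1 : ((s.erase d).image (e + ·)).card ≤ (s.erase d).card := Finset.card_image_le
        have h2 := Finset.card_erase_of_mem hds
        omega
      have hsupp : ∀ i ∉ (s.erase d).image (e + ·),
          (decompose 𝓛 (a • (x - (decompose 𝓛 x d : L))) i : L) = 0 := by
        intro i hi
        have hi' : i = e + (i - e) := by abel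
        rw [hi', decompose_smul_homog 𝒜 𝓛 ha, hx'comp]
        split_ifs with hj
        · rw [smul_zero]
        · rw [hx, smul_zero]
          intro hmem
          apply hi
          rw [hi']
          exact Finset.mem_image_of_mem _ (Finset.mem_erase.mpr ⟨hj, hmem⟩)
      obtain ⟨e', b, hb, hbx, hbf⟩ := ih ((s.erase d).image (e + ·))
        (a • (x - (decompose 𝓛 x d : L))) hcard hsupp h0
      have hba : b * a ∈ 𝒜 (e' + e) := SetLike.GradedMul.mul_mem hb ha
      refine ⟨e' + e, b * a, hba, ?_, ?_⟩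
      · intro hzero
        apply hbx
        rw [smul_smul]
        apply eq_zero_of_components 𝓛
        intro i
        have hi : i = (e' + e) + (i - (e' + e)) := by abel
        rw [hi, decompose_smul_homog 𝒜 𝓛 hba, hx'comp]
        split_ifs with hj
        · rw [smul_zero]
        · rw [← decompose_smul_homog 𝒜 𝓛 hba, hzero, decompose_zero, DirectSum.zero_apply,
            ZeroMemClass.coe_zero]
      · have : (b * a) • x = b • (a • (decompose 𝓛 x d : L)) +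
            b • (a • (x - (decompose 𝓛 x d : L))) := by
          rw [← smul_add, ← smul_add, mul_smul, add_sub_cancel]
        rw [this]
        exact Submodule.add_mem _ (Submodule.smul_mem _ _ haf) hbf

include 𝒜 in
theorem isEssentialInj_of_isStarEss' {f : M →ₗ[R] L} (hf : GrLC.IsStarEss ℳ 𝓛 f)
    (hR : (LinearMap.range f).IsHomogeneous 𝓛) :
    InjHull.IsEssentialInj f := by
  classical
  refine ⟨hf.injective, fun P hP => ?_⟩
  obtain ⟨x, hxP, hx0⟩ := (Submodule.ne_bot_iff _).mp hP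
  obtain ⟨e, a, -, hax, haf⟩ := exists_homog_smul 𝒜 ℳ 𝓛 hf hR _ (decompose 𝓛 x).support x le_rfl
    (fun i hi => by
      rw [DFinsupp.mem_support_toFun, not_not] at hi
      rw [hi, ZeroMemClass.coe_zero]) hx0
  rw [Ne, Submodule.eq_bot_iff]
  intro h
  exact hax (h _ (Submodule.mem_inf.mpr ⟨Submodule.smul_mem _ _ hxP, haf⟩))

end Ess

section Ess2

variable {ι : Type} [AddCommGroup ι] [DecidableEq ι] {R : Type u} [CommRing R]
  (𝒜 : ι → AddSubgroup R) [GradedRing 𝒜]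
  {M : Type u} [AddCommGroup M] [Module R M] (ℳ : ι → AddSubgroup M) [Decomposition ℳ]
  {L : Type u} [AddCommGroup L] [Module R L] (𝓛 : ι → AddSubgroup L) [Decomposition 𝓛]
  [SetLike.GradedSMul 𝒜 𝓛]

include 𝒜 in
theorem isEssentialInj_of_isStarEss {f : M →ₗ[R] L} (hf : GrLC.IsStarEss ℳ 𝓛 f) :
    InjHull.IsEssentialInj f :=
  isEssentialInj_of_isStarEss' 𝒜 ℳ 𝓛 hf (range_isHomogeneous hf.grHom)

end Ess2

section Hull

variable {ι : Type} [AddCommGroup ι] [DecidableEq ι] {R : Type u} [CommRing R]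
  (𝒜 : ι → AddSubgroup R) [GradedRing 𝒜]
  {M : Type u} [AddCommGroup M] [Module R M] (ℳ : ι → AddSubgroup M) [Decomposition ℳ]
  [SetLike.GradedSMul 𝒜 ℳ]
  {E₁ : Type u} [AddCommGroup E₁] [Module R E₁] (𝓔₁ : ι → AddSubgroup E₁) [Decomposition 𝓔₁]
  [SetLike.GradedSMul 𝒜 𝓔₁]
  {E₂ : Type u} [AddCommGroup E₂] [Module R E₂] (𝓔₂ : ι → AddSubgroup E₂) [Decomposition 𝓔₂]
  [SetLike.GradedSMul 𝒜 𝓔₂]

/-- extension property of a *injective module, unbundled. -/
theorem IsStarInj.ext_unbundled (hE : GrLC.IsStarInj 𝒜 𝓔₂) (f : M →ₗ[R] E₁)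
    (hf : GrLC.IsGrHom ℳ 𝓔₁ f) (hinj : Function.Injective f) (g : M →ₗ[R] E₂)
    (hg : GrLC.IsGrHom ℳ 𝓔₂ g) :
    ∃ h : E₁ →ₗ[R] E₂, GrLC.IsGrHom 𝓔₁ 𝓔₂ h ∧ h ∘ₗ f = g :=
  hE (GrLC.GMod.of 𝒜 M ℳ) (GrLC.GMod.of 𝒜 E₁ 𝓔₁) f hf hinj g hg

omit [SetLike.GradedSMul 𝒜 ℳ] [Decomposition ℳ] in
/-- a graded map out of a *essential extension that is injective on the image is injective -/
theorem injective_of_comp_injective {f : M →ₗ[R] E₁} (hf : GrLC.IsStarEss ℳ 𝓔₁ f)
    {β : E₁ →ₗ[R] E₂} (hβ : GrLC.IsGrHom 𝓔₁ 𝓔₂ β) (hinj : Function.Injective (β ∘ₗ f)) :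
    Function.Injective β := by
  rw [← LinearMap.ker_eq_bot]
  by_contra hne
  have := hf.essential _ (ker_isHomogeneous hβ) hne
  obtain ⟨y, hy, hy0⟩ := (Submodule.ne_bot_iff _).mp this
  obtain ⟨hyk, ⟨m, rfl⟩⟩ := Submodule.mem_inf.mp hy
  rw [LinearMap.mem_ker] at hyk
  have : m = 0 := hinj (by rw [LinearMap.comp_apply, hyk, map_zero])
  exact hy0 (by rw [this, map_zero])

theorem isStarInjHull_unique (f₁ : M →ₗ[R] E₁) (f₂ : M →ₗ[R] E₂)
    (h₁ : GrLC.IsStarInjHull 𝒜 ℳ 𝓔₁ f₁) (h₂ : GrLC.IsStarInjHull 𝒜 ℳ 𝓔₂ f₂) :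
    ∃ β : E₁ ≃ₗ[R] E₂, GrLC.IsGrHom 𝓔₁ 𝓔₂ β.toLinearMap ∧ β.toLinearMap ∘ₗ f₁ = f₂ := by
  obtain ⟨β, hβ, hβf⟩ := IsStarInj.ext_unbundled 𝒜 ℳ 𝓔₁ 𝓔₂ h₂.starInj f₁ h₁.grHom h₁.injective f₂
    h₂.grHom
  have hβinj : Function.Injective β :=
    injective_of_comp_injective ℳ 𝓔₁ 𝓔₂ h₁.toIsStarEss hβ (by rw [hβf]; exact h₂.injective)
  obtain ⟨γ, hγ, hγβ⟩ := IsStarInj.ext_unbundled 𝒜 𝓔₁ 𝓔₂ 𝓔₁ h₁.starInj β hβ hβinj LinearMap.id
    (fun _ _ hm => hm)
  have hγinj : Function.Injective γ := by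
    refine injective_of_comp_injective ℳ 𝓔₂ 𝓔₁ h₂.toIsStarEss hγ ?_
    rw [← hβf, ← LinearMap.comp_assoc, hγβ, LinearMap.id_comp]
    exact h₁.injective
  have hβsurj : Function.Surjective β := by
    intro z
    refine ⟨γ z, hγinj ?_⟩
    exact LinearMap.congr_fun hγβ (γ z)
  refine ⟨LinearEquiv.ofBijective β ⟨hβinj, hβsurj⟩, hβ, ?_⟩
  exact hβf

end Hull

end Groth.Agent.Helper6.GrMod
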