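import Mathlib
import Groth.Prelude.Def_GrLC
import Groth.Prelude.Def_Wider
import Groth.Agent.Helper6.GrMod

namespace Groth.Agent.Helper6.GrCon

open DirectSum Groth.Agent.Helper6.GrMod

universe u

section Generic

variable {ι : Type*} [DecidableEq ι] {N : Type*} [AddCommGroup N] (𝒩 : ι → AddSubgroup N)

theorem isInternal_of_proj (π : ι → N → N)
    (h1 : ∀ i x, π i x ∈ 𝒩 i)
    (h2 : ∀ i x, x ∈ 𝒩 i → π i x = x)
    (h3 : ∀ i j x, x ∈ 𝒩 i → i ≠ j → π j x = 0)
    (h4 : ∀ j x y, π j (x + y) = π j x + π j y)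
    (h5 : ∀ x, ∃ s : Finset ι, ∑ i ∈ s, π i x = x) :
    DirectSum.IsInternal 𝒩 := by
  have h0 : ∀ j, π j 0 = 0 := by
    intro j
    have := h4 j 0 0
    rw [add_zero] at this
    exact left_eq_add.mp this
  have key : ∀ (y : ⨁ i, 𝒩 i) (j : ι), π j (DirectSum.coeAddMonoidHom 𝒩 y) = (y j : N) := by
    intro y j
    induction y using DirectSum.induction_on with
    | zero => rw [map_zero, h0, DirectSum.zero_apply, ZeroMemClass.coe_zero]
    | of i x =>
      rw [DirectSum.coeAddMonoidHom_of]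
      by_cases hij : i = j
      · subst hij
        rw [h2 i _ x.2, DirectSum.of_eq_same]
      · rw [h3 i j _ x.2 hij, DirectSum.of_eq_of_ne _ _ _ (Ne.symm hij), ZeroMemClass.coe_zero]
    | add x y hx hy => rw [map_add, h4, hx, hy, DirectSum.add_apply, AddSubgroup.coe_add]
  constructor
  · rw [injective_iff_map_eq_zero]
    intro y hy
    ext j
    rw [← key y j, hy, h0, DirectSum.zero_apply, ZeroMemClass.coe_zero]
  · intro x
    obtain ⟨s, hs⟩ := h5 x
    refine ⟨∑ i ∈ s, DirectSum.of (fun i => 𝒩 i) i ⟨π i x, h1 i x⟩, ?_⟩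
    rw [map_sum]
    simp only [DirectSum.coeAddMonoidHom_of]
    exact hs

/-- If `x = ∑ i ∈ s, y i` with `y i ∈ 𝒩 i`, then the components of `x` are the `y i`. -/
theorem decompose_eq_of_sum [Decomposition 𝒩] {x : N} {s : Finset ι} {y : ι → N}
    (hy : ∀ i, y i ∈ 𝒩 i) (hx : x = ∑ i ∈ s, y i) (j : ι) :
    (decompose 𝒩 x j : N) = if j ∈ s then y j else 0 := by
  rw [hx, decompose_sum, DFinsupp.finsetSum_apply, AddSubmonoidClass.coe_finsetSum]
  split_ifs with hj
  · rw [Finset.sum_eq_single j]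
    · exact decompose_of_mem_same 𝒩 (hy j)
    · intro i _ hij
      exact decompose_of_mem_ne 𝒩 (hy i) hij
    · intro h; exact absurd hj h
  · apply Finset.sum_eq_zero
    intro i hi
    exact decompose_of_mem_ne 𝒩 (hy i) (fun h => hj (h ▸ hi))

end Generic

section Quot

variable {ι : Type} [AddCommGroup ι] [DecidableEq ι] {R : Type u} [CommRing R]
  (𝒜 : ι → AddSubgroup R) [GradedRing 𝒜]
  {M : Type u} [AddCommGroup M] [Module R M] (ℳ : ι → AddSubgroup M) [Decomposition ℳ]
  [SetLike.GradedSMul 𝒜 ℳ] (P : Submodule R M)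

/-- pieces of the quotient `M ⧸ P`: images of the pieces of `M`. -/
def quotFam : ι → AddSubgroup (M ⧸ P) := fun i =>
  (ℳ i).map (P.mkQ : M →ₗ[R] M ⧸ P).toAddMonoidHom

omit [AddCommGroup ι] [DecidableEq ι] [Decomposition ℳ] in
theorem mem_quotFam {i : ι} {q : M ⧸ P} : q ∈ quotFam ℳ P i ↔ ∃ m ∈ ℳ i, P.mkQ m = q :=
  Iff.rfl

omit [AddCommGroup ι] [DecidableEq ι] [Decomposition ℳ] in
theorem mkQ_mem_quotFam {i : ι} {m : M} (hm : m ∈ ℳ i) : P.mkQ m ∈ quotFam ℳ P i :=
  ⟨m, hm, rfl⟩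

/-- candidate projection on the quotient -/
noncomputable def quotProj (i : ι) (q : M ⧸ P) : M ⧸ P :=
  P.mkQ (decompose ℳ (Function.surjInv P.mkQ_surjective q) i : M)

omit [AddCommGroup ι] in
theorem quotProj_mk (hP : P.IsHomogeneous ℳ) (i : ι) (m : M) :
    quotProj ℳ P i (P.mkQ m) = P.mkQ (decompose ℳ m i : M) := by
  unfold quotProj
  have h1 : Function.surjInv P.mkQ_surjective (P.mkQ m) - m ∈ P := by
    rw [← Submodule.Quotient.eq]
    exact Function.surjInv_eq P.mkQ_surjective (P.mkQ m)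
  have h2 := hP i h1
  rw [decompose_sub, DirectSum.sub_apply, AddSubgroup.coe_sub] at h2
  exact (Submodule.Quotient.eq P).mpr h2

omit [AddCommGroup ι] in
theorem isInternal_quotFam (hP : P.IsHomogeneous ℳ) : DirectSum.IsInternal (quotFam ℳ P) := by
  classical
  apply isInternal_of_proj (quotFam ℳ P) (quotProj ℳ P)
  · intro i q
    exact ⟨_, (decompose ℳ _ i).2, rfl⟩
  · intro i q hq
    obtain ⟨m, hm, rfl⟩ := (mem_quotFam ℳ P).mp hq
    rw [quotProj_mk ℳ P hP, decompose_of_mem_same ℳ hm]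
  · intro i j q hq hij
    obtain ⟨m, hm, rfl⟩ := (mem_quotFam ℳ P).mp hq
    rw [quotProj_mk ℳ P hP, decompose_of_mem_ne ℳ hm hij, map_zero]
  · intro j q q'
    obtain ⟨m, rfl⟩ := P.mkQ_surjective q
    obtain ⟨m', rfl⟩ := P.mkQ_surjective q'
    rw [← map_add, quotProj_mk ℳ P hP, quotProj_mk ℳ P hP, quotProj_mk ℳ P hP, decompose_add,
      DirectSum.add_apply, AddSubgroup.coe_add, map_add]
  · intro q
    obtain ⟨m, rfl⟩ := P.mkQ_surjective q
    refine ⟨(decompose ℳ m).support, ?_⟩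
    simp_rw [quotProj_mk ℳ P hP]
    rw [← map_sum, DirectSum.sum_support_decompose]

omit [DecidableEq ι] [Decomposition ℳ] in
theorem gradedSMul_quotFam : SetLike.GradedSMul 𝒜 (quotFam ℳ P) where
  smul_mem := by
    intro i j r q hr hq
    obtain ⟨m, hm, rfl⟩ := (mem_quotFam ℳ P).mp hq
    exact (mem_quotFam ℳ P).mpr ⟨r • m, SetLike.GradedSMul.smul_mem hr hm, map_smul _ _ _⟩

/-- the quotient of a graded module by a homogeneous submodule, as a bundled graded module. -/
noncomputable def quotGMod (hP : P.IsHomogeneous ℳ) : GrLC.GMod.{u} 𝒜 :=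
  letI := (isInternal_quotFam ℳ P hP).chooseDecomposition
  letI := gradedSMul_quotFam 𝒜 ℳ P
  { carrier := M ⧸ P, gr := quotFam ℳ P }

end Quot

section Sub

variable {ι : Type} [AddCommGroup ι] [DecidableEq ι] {R : Type u} [CommRing R]
  (𝒜 : ι → AddSubgroup R) [GradedRing 𝒜]
  {M : Type u} [AddCommGroup M] [Module R M] (ℳ : ι → AddSubgroup M) [Decomposition ℳ]
  [SetLike.GradedSMul 𝒜 ℳ] (P : Submodule R M)

/-- pieces of a submodule: intersections with the pieces of `M`. -/
def subFam : ι → AddSubgroup ↥P := fun i => (ℳ i).comap P.subtype.toAddMonoidHom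

omit [AddCommGroup ι] [DecidableEq ι] [Decomposition ℳ] in
theorem mem_subFam {i : ι} {x : ↥P} : x ∈ subFam ℳ P i ↔ (x : M) ∈ ℳ i := Iff.rfl

omit [AddCommGroup ι] in
theorem isInternal_subFam (hP : P.IsHomogeneous ℳ) : DirectSum.IsInternal (subFam ℳ P) := by
  classical
  apply isInternal_of_proj (subFam ℳ P) (fun i x => ⟨(decompose ℳ (x : M) i : M), hP i x.2⟩)
  · intro i x
    exact (decompose ℳ (x : M) i).2
  · intro i x hx
    apply Subtype.ext
    exact decompose_of_mem_same ℳ hx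
  · intro i j x hx hij
    apply Subtype.ext
    exact decompose_of_mem_ne ℳ hx hij
  · intro j x y
    apply Subtype.ext
    simp only [Submodule.coe_add, decompose_add, DirectSum.add_apply, AddSubgroup.coe_add]
  · intro x
    refine ⟨(decompose ℳ (x : M)).support, ?_⟩
    apply Subtype.ext
    rw [Submodule.coe_sum]
    exact DirectSum.sum_support_decompose ℳ (x : M)

omit [DecidableEq ι] [Decomposition ℳ] in
theorem gradedSMul_subFam : SetLike.GradedSMul 𝒜 (subFam ℳ P) where
  smul_mem := by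
    intro i j r x hr hx
    exact (mem_subFam ℳ P).mpr (SetLike.GradedSMul.smul_mem hr ((mem_subFam ℳ P).mp hx))

/-- a homogeneous submodule as a bundled graded module. -/
noncomputable def subGMod (hP : P.IsHomogeneous ℳ) : GrLC.GMod.{u} 𝒜 :=
  letI := (isInternal_subFam ℳ P hP).chooseDecomposition
  letI := gradedSMul_subFam 𝒜 ℳ P
  { carrier := ↥P, gr := subFam ℳ P }

end Sub

section Prod

variable {ι : Type} [AddCommGroup ι] [DecidableEq ι] {R : Type u} [CommRing R]
  (𝒜 : ι → AddSubgroup R) [GradedRing 𝒜]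
  {M : Type u} [AddCommGroup M] [Module R M] (ℳ : ι → AddSubgroup M) [Decomposition ℳ]
  [SetLike.GradedSMul 𝒜 ℳ]
  {B : Type u} [AddCommGroup B] [Module R B] (ℬ : ι → AddSubgroup B) [Decomposition ℬ]
  [SetLike.GradedSMul 𝒜 ℬ]

/-- pieces of a product. -/
def prodFam : ι → AddSubgroup (M × B) := fun i => (ℳ i).prod (ℬ i)

omit [AddCommGroup ι] [DecidableEq ι] [Decomposition ℳ] [Decomposition ℬ] in
theorem mem_prodFam {i : ι} {x : M × B} : x ∈ prodFam ℳ ℬ i ↔ x.1 ∈ ℳ i ∧ x.2 ∈ ℬ i := Iff.rfl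

omit [AddCommGroup ι] in
theorem isInternal_prodFam : DirectSum.IsInternal (prodFam ℳ ℬ) := by
  classical
  apply isInternal_of_proj (prodFam ℳ ℬ)
    (fun i x => ((decompose ℳ x.1 i : M), (decompose ℬ x.2 i : B)))
  · intro i x
    exact ⟨(decompose ℳ x.1 i).2, (decompose ℬ x.2 i).2⟩
  · intro i x hx
    exact Prod.ext (decompose_of_mem_same ℳ hx.1) (decompose_of_mem_same ℬ hx.2)
  · intro i j x hx hij
    exact Prod.ext (decompose_of_mem_ne ℳ hx.1 hij) (decompose_of_mem_ne ℬ hx.2 hij)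
  · intro j x y
    simp only [Prod.fst_add, Prod.snd_add, decompose_add, DirectSum.add_apply, AddSubgroup.coe_add,
      Prod.mk_add_mk]
  · intro x
    refine ⟨(decompose ℳ x.1).support ∪ (decompose ℬ x.2).support, ?_⟩
    apply Prod.ext
    · rw [Prod.fst_sum]
      rw [← Finset.sum_subset (Finset.subset_union_left)]
      · exact DirectSum.sum_support_decompose ℳ x.1
      · intro i _ hi
        rw [DFinsupp.notMem_support_iff] at hi
        rw [hi, ZeroMemClass.coe_zero]
    · rw [Prod.snd_sum]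
      rw [← Finset.sum_subset (Finset.subset_union_right)]
      · exact DirectSum.sum_support_decompose ℬ x.2
      · intro i _ hi
        rw [DFinsupp.notMem_support_iff] at hi
        rw [hi, ZeroMemClass.coe_zero]

omit [DecidableEq ι] [Decomposition ℳ] [Decomposition ℬ] in
theorem gradedSMul_prodFam : SetLike.GradedSMul 𝒜 (prodFam ℳ ℬ) where
  smul_mem := by
    intro i j r x hr hx
    have h := (mem_prodFam ℳ ℬ).mp hx
    exact (mem_prodFam ℳ ℬ).mpr
      ⟨SetLike.GradedSMul.smul_mem (A := 𝒜) (B := ℳ) hr h.1,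
        SetLike.GradedSMul.smul_mem (A := 𝒜) (B := ℬ) hr h.2⟩

/-- product of graded modules as a bundled graded module. -/
noncomputable def prodGMod : GrLC.GMod.{u} 𝒜 :=
  letI := (isInternal_prodFam ℳ ℬ).chooseDecomposition
  letI := gradedSMul_prodFam 𝒜 ℳ ℬ
  { carrier := M × B, gr := prodFam ℳ ℬ }

end Prod

end Groth.Agent.Helper6.GrCon
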