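import Mathlib
import Groth.Prelude.Def_GrLC
import Groth.Prelude.Def_Wider
import Groth.Agent.Helper6.GrMod
import Groth.Agent.Helper6.GrCon

namespace Groth.Agent.Helper6.GrInj

open DirectSum Groth.Agent.Helper6.GrMod Groth.Agent.Helper6.GrCon

universe u

section Lemmas

variable {ι : Type} [AddCommGroup ι] [DecidableEq ι] {R : Type u} [CommRing R]
  {M : Type u} [AddCommGroup M] [Module R M] {ℳ : ι → AddSubgroup M} [Decomposition ℳ]
  {N : Type u} [AddCommGroup N] [Module R N] {𝒩 : ι → AddSubgroup N} [Decomposition 𝒩]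

theorem comap_isHomogeneous {f : M →ₗ[R] N} (hf : GrLC.IsGrHom ℳ 𝒩 f) {P : Submodule R N}
    (hP : P.IsHomogeneous 𝒩) : (P.comap f).IsHomogeneous ℳ := by
  intro i m hm
  rw [Submodule.mem_comap] at hm ⊢
  rw [← GrMod.decompose_map hf]
  exact hP i hm

theorem mem_of_map_mem {f : M →ₗ[R] N} (hf : GrLC.IsGrHom ℳ 𝒩 f) (hinj : Function.Injective f)
    {m : M} {i : ι} (hm : f m ∈ 𝒩 i) : m ∈ ℳ i := by
  have h1 : ∀ j, j ≠ i → (decompose ℳ m j : M) = 0 := by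
    intro j hj
    apply hinj
    rw [← GrMod.decompose_map hf, decompose_of_mem_ne 𝒩 hm (Ne.symm hj), map_zero]
  have h2 : m - (decompose ℳ m i : M) = 0 := by
    apply eq_zero_of_components ℳ
    intro j
    rw [decompose_sub, DirectSum.sub_apply, AddSubgroup.coe_sub]
    by_cases hj : j = i
    · subst hj
      rw [decompose_of_mem_same ℳ (decompose ℳ m j).2, sub_self]
    · rw [h1 j hj, decompose_of_mem_ne ℳ (decompose ℳ m i).2 (Ne.symm hj), sub_zero]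
  rw [sub_eq_zero.mp h2]
  exact (decompose ℳ m i).2

end Lemmas

section Main

variable {ι : Type} [AddCommGroup ι] [DecidableEq ι] {R : Type u} [CommRing R]
  (𝒜 : ι → AddSubgroup R) [GradedRing 𝒜]
  {M : Type u} [AddCommGroup M] [Module R M] (ℳ : ι → AddSubgroup M) [Decomposition ℳ]
  [SetLike.GradedSMul 𝒜 ℳ]

theorem surjective_of_isStarInj (hM : GrLC.IsStarInj 𝒜 ℳ) (N : GrLC.GMod.{u} 𝒜)
    (f : M →ₗ[R] N.carrier) (hf : GrLC.IsStarEss ℳ N.gr f) : Function.Surjective f := by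
  obtain ⟨h, hh, hhf⟩ := hM (GrLC.GMod.of 𝒜 M ℳ) N f hf.grHom hf.injective LinearMap.id
    (fun _ _ hm => hm)
  have hinj : Function.Injective h := by
    refine injective_of_comp_injective ℳ N.gr ℳ hf hh ?_
    intro x y hxy
    exact ((LinearMap.congr_fun hhf x).symm.trans hxy).trans (LinearMap.congr_fun hhf y)
  intro n
  refine ⟨h n, hinj ?_⟩
  exact LinearMap.congr_fun hhf (h n)

theorem isStarInj_of_forall_surjective
    (H : ∀ (N : GrLC.GMod.{u} 𝒜) (f : M →ₗ[R] N.carrier),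
      GrLC.IsStarEss ℳ N.gr f → Function.Surjective f) :
    GrLC.IsStarInj 𝒜 ℳ := by
  intro A B f hf hfinj g hg
  letI decT : Decomposition (prodFam ℳ B.gr) := (isInternal_prodFam ℳ B.gr).chooseDecomposition
  letI smT : SetLike.GradedSMul 𝒜 (prodFam ℳ B.gr) := gradedSMul_prodFam 𝒜 ℳ B.gr
  let k : A.carrier →ₗ[R] M × B.carrier := g.prod (-f)
  have hk : GrLC.IsGrHom A.gr (prodFam ℳ B.gr) k :=
    fun i a ha => (mem_prodFam ℳ B.gr).mpr ⟨hg i a ha, neg_mem (hf i a ha)⟩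
  have hK : (LinearMap.range k).IsHomogeneous (prodFam ℳ B.gr) := range_isHomogeneous hk
  let inlM : M →ₗ[R] M × B.carrier := LinearMap.inl R M B.carrier
  let 𝒮 : Set (Submodule R (M × B.carrier)) :=
    {N | N.IsHomogeneous (prodFam ℳ B.gr) ∧ LinearMap.range k ≤ N ∧
      N ⊓ LinearMap.range inlM = ⊥}
  have hK𝒮 : LinearMap.range k ∈ 𝒮 := by
    refine ⟨hK, le_rfl, ?_⟩
    rw [eq_bot_iff]
    rintro x ⟨⟨a, rfl⟩, ⟨m, hm⟩⟩
    have h2 : (0 : B.carrier) = -f a := congrArg Prod.snd hm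
    have ha : a = 0 := hfinj (by rw [map_zero]; exact neg_eq_zero.mp h2.symm)
    rw [ha, map_zero]
    exact Submodule.zero_mem _
  obtain ⟨N, hKN, hNmax⟩ := zorn_le_nonempty₀ 𝒮 (by
    intro c hc𝒮 hchain y hy
    have hne : c.Nonempty := ⟨y, hy⟩
    have hdir : DirectedOn (· ≤ ·) c := hchain.directedOn
    refine ⟨sSup c, ⟨?_, ?_, ?_⟩, fun z hz => le_sSup hz⟩
    · intro i x hx
      obtain ⟨N', hN'c, hxN'⟩ := (Submodule.mem_sSup_of_directed hne hdir).mp hx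
      exact (Submodule.mem_sSup_of_directed hne hdir).mpr ⟨N', hN'c, (hc𝒮 hN'c).1 i hxN'⟩
    · exact (hc𝒮 hy).2.1.trans (le_sSup hy)
    · rw [eq_bot_iff]
      rintro x ⟨hx1, hx2⟩
      obtain ⟨N', hN'c, hxN'⟩ := (Submodule.mem_sSup_of_directed hne hdir).mp hx1
      have : x ∈ N' ⊓ LinearMap.range inlM := ⟨hxN', hx2⟩
      rw [(hc𝒮 hN'c).2.2] at this
      exact this) (LinearMap.range k) hK𝒮
  obtain ⟨hNhom, hKleN, hNinl⟩ := hNmax.prop
  letI decQ : Decomposition (quotFam (prodFam ℳ B.gr) N) :=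
    (isInternal_quotFam (prodFam ℳ B.gr) N hNhom).chooseDecomposition
  let ιM : M →ₗ[R] (M × B.carrier) ⧸ N := N.mkQ ∘ₗ inlM
  have hιgr : GrLC.IsGrHom ℳ (quotFam (prodFam ℳ B.gr) N) ιM :=
    fun i m hm => mkQ_mem_quotFam _ N ((mem_prodFam ℳ B.gr).mpr ⟨hm, zero_mem _⟩)
  have hιinj : Function.Injective ιM := by
    rw [injective_iff_map_eq_zero]
    intro m hm
    have h1 : inlM m ∈ N ⊓ LinearMap.range inlM :=
      ⟨(Submodule.Quotient.mk_eq_zero N).mp hm, ⟨m, rfl⟩⟩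
    rw [hNinl, Submodule.mem_bot] at h1
    exact congrArg Prod.fst h1
  have hmkgr : GrLC.IsGrHom (prodFam ℳ B.gr) (quotFam (prodFam ℳ B.gr) N) N.mkQ :=
    fun i t ht => mkQ_mem_quotFam _ N ht
  have hess : GrLC.IsStarEss ℳ (quotFam (prodFam ℳ B.gr) N) ιM := by
    refine ⟨hιinj, hιgr, ?_⟩
    intro P' hP' hP'0
    have hPhom := comap_isHomogeneous hmkgr hP'
    have hNP : N ≤ P'.comap N.mkQ := fun n hn => by
      rw [Submodule.mem_comap, Submodule.mkQ_apply, (Submodule.Quotient.mk_eq_zero N).mpr hn]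
      exact P'.zero_mem
    obtain ⟨q, hq, hq0⟩ := (Submodule.ne_bot_iff _).mp hP'0
    obtain ⟨t, rfl⟩ := N.mkQ_surjective q
    have htN : t ∉ N := fun h => hq0 ((Submodule.Quotient.mk_eq_zero N).mpr h)
    have hnot : P'.comap N.mkQ ∉ 𝒮 := fun h𝒮 => htN (hNmax.le_of_ge h𝒮 hNP hq)
    have hne : P'.comap N.mkQ ⊓ LinearMap.range inlM ≠ ⊥ :=
      fun h => hnot ⟨hPhom, hKleN.trans hNP, h⟩
    obtain ⟨x, hx, hx0⟩ := (Submodule.ne_bot_iff _).mp hne
    obtain ⟨hx1, ⟨m, rfl⟩⟩ := hx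
    rw [Ne, Submodule.eq_bot_iff]
    intro hbot
    have h0 := hbot (ιM m) ⟨hx1, ⟨m, rfl⟩⟩
    have hm0 : m = 0 := hιinj (by rw [h0, map_zero])
    exact hx0 (by rw [hm0, map_zero])
  have hsurj := H (quotGMod 𝒜 (prodFam ℳ B.gr) N hNhom) ιM hess
  let e : M ≃ₗ[R] (M × B.carrier) ⧸ N := LinearEquiv.ofBijective ιM ⟨hιinj, hsurj⟩
  have he : ∀ m, e m = ιM m := fun m => rfl
  refine ⟨e.symm.toLinearMap ∘ₗ N.mkQ ∘ₗ LinearMap.inr R M B.carrier, ?_, ?_⟩
  · intro i b hb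
    apply mem_of_map_mem hιgr hιinj
    have h1 : ιM (e.symm (N.mkQ ((0 : M), b))) = N.mkQ ((0 : M), b) := by
      rw [← he, LinearEquiv.apply_symm_apply]
    show ιM (e.symm (N.mkQ ((0 : M), b))) ∈ _
    rw [h1]
    exact mkQ_mem_quotFam _ N ((mem_prodFam ℳ B.gr).mpr ⟨zero_mem _, hb⟩)
  · apply LinearMap.ext
    intro a
    show e.symm (N.mkQ ((0 : M), f a)) = g a
    rw [LinearEquiv.symm_apply_eq, he]
    symm
    apply (Submodule.Quotient.eq N).mpr
    apply hKleN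
    refine ⟨a, ?_⟩
    apply Prod.ext
    · simp [k, inlM]
    · simp [k, inlM]

end Main

end Groth.Agent.Helper6.GrInj
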