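import Mathlib
import Groth.Prelude.Def_GrLC
import Groth.Prelude.Def_Wider
import Groth.Agent.Helper6.GrMod

namespace Groth.Agent.Helper6.GrPrime

open DirectSum Groth.Agent.Helper6.GrMod

universe u

variable {ι : Type} [AddCommGroup ι] [DecidableEq ι] {R : Type u} [CommRing R]
  (𝒜 : ι → AddSubgroup R) [GradedRing 𝒜] (p : HomogeneousIdeal 𝒜)
  {E : Type u} [AddCommGroup E] [Module R E] (𝓔 : ι → AddSubgroup E) [Decomposition 𝓔]
  [SetLike.GradedSMul 𝒜 𝓔]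

theorem mk_mem_quotGr {g : ι} {r : R} (hr : r ∈ 𝒜 g) :
    Ideal.Quotient.mk p.toIdeal r ∈ GrLC.quotGr 𝒜 p g :=
  ⟨r, hr, rfl⟩

omit [SetLike.GradedSMul 𝒜 𝓔] in
theorem decompose_e_mk {e : (R ⧸ p.toIdeal) →ₗ[R] E}
    (he : GrLC.IsGrHom (GrLC.quotGr 𝒜 p) 𝓔 e) (r : R) (j : ι) :
    (decompose 𝓔 (e (Ideal.Quotient.mk p.toIdeal r)) j : E) =
      e (Ideal.Quotient.mk p.toIdeal (decompose 𝒜 r j : R)) := by
  induction r using Decomposition.inductionOn 𝒜 with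
  | zero => simp
  | @homogeneous k r =>
    have hmem : e (Ideal.Quotient.mk p.toIdeal (r : R)) ∈ 𝓔 k := he k _ (mk_mem_quotGr 𝒜 p r.2)
    by_cases hkj : k = j
    · subst hkj
      rw [decompose_of_mem_same 𝓔 hmem, decompose_of_mem_same 𝒜 r.2]
    · rw [decompose_of_mem_ne 𝓔 hmem hkj, decompose_of_mem_ne 𝒜 r.2 hkj, map_zero, map_zero]
  | add r r' h h' =>
    rw [map_add, map_add, decompose_add, decompose_add, DirectSum.add_apply, DirectSum.add_apply,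
      AddSubgroup.coe_add, AddSubgroup.coe_add, h, h', map_add, map_add]

omit [SetLike.GradedSMul 𝒜 𝓔] in
theorem range_isHomogeneous_quot {e : (R ⧸ p.toIdeal) →ₗ[R] E}
    (he : GrLC.IsGrHom (GrLC.quotGr 𝒜 p) 𝓔 e) : (LinearMap.range e).IsHomogeneous 𝓔 := by
  rintro i _ ⟨m, rfl⟩
  obtain ⟨r, rfl⟩ := Ideal.Quotient.mk_surjective m
  exact ⟨_, (decompose_e_mk 𝒜 p 𝓔 he r i).symm⟩

theorem smul_e_mk (e : (R ⧸ p.toIdeal) →ₗ[R] E) (t s : R) :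
    t • e (Ideal.Quotient.mk p.toIdeal s) = e (Ideal.Quotient.mk p.toIdeal (t * s)) := by
  rw [← map_smul, map_mul]
  rfl

theorem smul_e_mk_eq_zero_iff [p.toIdeal.IsPrime] {e : (R ⧸ p.toIdeal) →ₗ[R] E}
    (hinj : Function.Injective e) (t : R) {s : R} (hs : s ∉ p.toIdeal) :
    t • e (Ideal.Quotient.mk p.toIdeal s) = 0 ↔ t ∈ p.toIdeal := by
  rw [smul_e_mk, ← map_zero e, hinj.eq_iff, Ideal.Quotient.eq_zero_iff_mem]
  constructor
  · intro h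
    exact (Ideal.IsPrime.mem_or_mem inferInstance h).resolve_right hs
  · intro h
    exact Ideal.mul_mem_right _ _ h

theorem e_mk_ne_zero_iff {e : (R ⧸ p.toIdeal) →ₗ[R] E}
    (hinj : Function.Injective e) {s : R} :
    e (Ideal.Quotient.mk p.toIdeal s) ≠ 0 ↔ s ∉ p.toIdeal := by
  rw [Ne, ← map_zero e, hinj.eq_iff, Ideal.Quotient.eq_zero_iff_mem]

/-- S13218 -/
theorem isStarIndec [p.toIdeal.IsPrime] (e : (R ⧸ p.toIdeal) →ₗ[R] E)
    (he : GrLC.IsStarInjHull 𝒜 (GrLC.quotGr 𝒜 p) 𝓔 e) : GrLC.IsStarIndec R 𝓔 := by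
  have hinj := he.injective
  refine ⟨?_, ?_⟩
  · have h1 : (1 : R) ∉ p.toIdeal := (Ideal.ne_top_iff_one _).mp (Ideal.IsPrime.ne_top inferInstance)
    exact ⟨⟨e (Ideal.Quotient.mk p.toIdeal 1), 0, (e_mk_ne_zero_iff 𝒜 p hinj).mpr h1⟩⟩
  · intro P Q hP hQ hPQ
    by_contra hcon
    push Not at hcon
    obtain ⟨y₁, hy₁, hy₁0⟩ := (Submodule.ne_bot_iff _).mp (he.essential P hP hcon.1)
    obtain ⟨y₂, hy₂, hy₂0⟩ := (Submodule.ne_bot_iff _).mp (he.essential Q hQ hcon.2)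
    obtain ⟨hy₁P, ⟨m₁, rfl⟩⟩ := Submodule.mem_inf.mp hy₁
    obtain ⟨hy₂Q, ⟨m₂, rfl⟩⟩ := Submodule.mem_inf.mp hy₂
    obtain ⟨s₁, rfl⟩ := Ideal.Quotient.mk_surjective m₁
    obtain ⟨s₂, rfl⟩ := Ideal.Quotient.mk_surjective m₂
    have hs₁ : s₁ ∉ p.toIdeal := (e_mk_ne_zero_iff 𝒜 p hinj).mp hy₁0
    have hs₂ : s₂ ∉ p.toIdeal := (e_mk_ne_zero_iff 𝒜 p hinj).mp hy₂0
    have hmemP : e (Ideal.Quotient.mk p.toIdeal (s₂ * s₁)) ∈ P := by
      rw [← smul_e_mk]; exact Submodule.smul_mem _ _ hy₁P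
    have hmemQ : e (Ideal.Quotient.mk p.toIdeal (s₂ * s₁)) ∈ Q := by
      rw [mul_comm, ← smul_e_mk]; exact Submodule.smul_mem _ _ hy₂Q
    have hzero : e (Ideal.Quotient.mk p.toIdeal (s₂ * s₁)) = 0 := by
      have := Submodule.mem_inf.mpr ⟨hmemP, hmemQ⟩
      rwa [hPQ.inf_eq_bot, Submodule.mem_bot] at this
    have hmem : s₂ * s₁ ∈ p.toIdeal := by
      by_contra hne
      exact (e_mk_ne_zero_iff 𝒜 p hinj).mpr hne hzero
    rcases Ideal.IsPrime.mem_or_mem inferInstance hmem with h | h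
    · exact hs₂ h
    · exact hs₁ h

/-- S13221 -/
theorem eq_of_equiv [p.toIdeal.IsPrime] (e : (R ⧸ p.toIdeal) →ₗ[R] E)
    (he : GrLC.IsStarInjHull 𝒜 (GrLC.quotGr 𝒜 p) 𝓔 e)
    (q : HomogeneousIdeal 𝒜) [q.toIdeal.IsPrime]
    {F : Type u} [AddCommGroup F] [Module R F] (𝓕 : ι → AddSubgroup F) [Decomposition 𝓕]
    [SetLike.GradedSMul 𝒜 𝓕] (f : (R ⧸ q.toIdeal) →ₗ[R] F)
    (hf : GrLC.IsStarInjHull 𝒜 (GrLC.quotGr 𝒜 q) 𝓕 f) (g : ι) (φ : E ≃ₗ[R] F)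
    (hφ : GrLC.IsGrHomDeg 𝓔 𝓕 φ.toLinearMap g) : p = q := by
  have hinj := he.injective
  have hfinj := hf.injective
  have h1 : (1 : R) ∉ p.toIdeal := (Ideal.ne_top_iff_one _).mp (Ideal.IsPrime.ne_top inferInstance)
  have he1 : e (Ideal.Quotient.mk p.toIdeal 1) ∈ 𝓔 0 :=
    he.grHom 0 _ (mk_mem_quotGr 𝒜 p (SetLike.GradedOne.one_mem))
  have hy : φ (e (Ideal.Quotient.mk p.toIdeal 1)) ∈ 𝓕 (0 + g) := hφ 0 _ he1
  have hy0 : φ (e (Ideal.Quotient.mk p.toIdeal 1)) ≠ 0 := by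
    rw [Ne, LinearEquiv.map_eq_zero_iff]
    exact (e_mk_ne_zero_iff 𝒜 p hinj).mpr h1
  have hP := span_singleton_isHomogeneous 𝒜 𝓕 hy
  have hP0 : Submodule.span R {φ (e (Ideal.Quotient.mk p.toIdeal 1))} ≠ ⊥ := by
    rw [Ne, Submodule.span_singleton_eq_bot]
    exact hy0
  obtain ⟨z, hz, hz0⟩ := (Submodule.ne_bot_iff _).mp (hf.essential _ hP hP0)
  obtain ⟨hzP, ⟨m, hm⟩⟩ := Submodule.mem_inf.mp hz
  obtain ⟨s, rfl⟩ := Ideal.Quotient.mk_surjective m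
  obtain ⟨r, hr⟩ := Submodule.mem_span_singleton.mp hzP
  have hs : s ∉ q.toIdeal := (e_mk_ne_zero_iff 𝒜 q hfinj).mp (hm ▸ hz0)
  have hz' : z = φ (e (Ideal.Quotient.mk p.toIdeal (r * 1))) := by
    rw [← hr, ← map_smul, smul_e_mk]
  have hr1 : r * 1 ∉ p.toIdeal := by
    apply (e_mk_ne_zero_iff 𝒜 p hinj).mp
    intro h0
    apply hz0
    rw [hz', h0, map_zero]
  apply HomogeneousIdeal.toIdeal_injective
  ext t
  have h1' : t • z = 0 ↔ t ∈ q.toIdeal := by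
    rw [← hm]
    exact smul_e_mk_eq_zero_iff 𝒜 q hfinj t hs
  have h2' : t • z = 0 ↔ t ∈ p.toIdeal := by
    rw [hz', ← map_smul φ, LinearEquiv.map_eq_zero_iff]
    exact smul_e_mk_eq_zero_iff 𝒜 p hinj t hr1
  exact h2'.symm.trans h1'

theorem smul_range_e_eq_zero (e : (R ⧸ p.toIdeal) →ₗ[R] E) {t : R} (ht : t ∈ p.toIdeal)
    {y : E} (hy : y ∈ LinearMap.range e) : t • y = 0 := by
  obtain ⟨m, rfl⟩ := hy
  obtain ⟨s, rfl⟩ := Ideal.Quotient.mk_surjective m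
  rw [smul_e_mk, (Ideal.Quotient.eq_zero_iff_mem).mpr (Ideal.mul_mem_right _ _ ht), map_zero]

/-- S13220 -/
theorem gam_eq_top [IsNoetherianRing R] [p.toIdeal.IsPrime] (e : (R ⧸ p.toIdeal) →ₗ[R] E)
    (he : GrLC.IsStarInjHull 𝒜 (GrLC.quotGr 𝒜 p) 𝓔 e) : GrLC.gam p.toIdeal E = ⊤ := by
  have hess : InjHull.IsEssentialInj e :=
    isEssentialInj_of_isStarEss' 𝒜 (GrLC.quotGr 𝒜 p) 𝓔 he.toIsStarEss
      (range_isHomogeneous_quot 𝒜 p 𝓔 he.grHom)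
  rw [eq_top_iff]
  intro x _
  set N : Submodule R E := Submodule.span R {x} with hN
  have : Module.Finite R N := Module.Finite.span_singleton R x
  set N' : Submodule R N := (LinearMap.range e).comap N.subtype with hN'
  obtain ⟨k, hk⟩ := Ideal.exists_pow_inf_eq_pow_smul p.toIdeal N'
  have hkey : p.toIdeal ^ (k + 1) • (⊤ : Submodule R N) ⊓ N' = ⊥ := by
    rw [hk (k + 1) (Nat.le_succ k), Nat.add_sub_cancel_left, pow_one, eq_bot_iff]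
    rw [Submodule.smul_le]
    intro t ht w hw
    have hw' : w ∈ N' := (Submodule.mem_inf.mp hw).2
    rw [Submodule.mem_bot]
    apply Subtype.ext
    rw [Submodule.coe_smul, Submodule.coe_zero]
    exact smul_range_e_eq_zero 𝒜 p e ht hw'
  have hP : (p.toIdeal ^ (k + 1) • (⊤ : Submodule R N)).map N.subtype = ⊥ := by
    by_contra hne
    obtain ⟨y, hy, hy0⟩ := (Submodule.ne_bot_iff _).mp (hess.essential _ hne)
    obtain ⟨hy1, hy2⟩ := Submodule.mem_inf.mp hy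
    obtain ⟨w, hw, rfl⟩ := Submodule.mem_map.mp hy1
    have : w ∈ p.toIdeal ^ (k + 1) • (⊤ : Submodule R N) ⊓ N' := Submodule.mem_inf.mpr ⟨hw, hy2⟩
    rw [hkey, Submodule.mem_bot] at this
    exact hy0 (by rw [this, map_zero])
  refine ⟨k + 1, fun r hr => ?_⟩
  have hx : x ∈ N := Submodule.mem_span_singleton_self x
  have hmem : r • (⟨x, hx⟩ : N) ∈ p.toIdeal ^ (k + 1) • (⊤ : Submodule R N) :=
    Submodule.smul_mem_smul hr Submodule.mem_top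
  have := Submodule.mem_map_of_mem (f := N.subtype) hmem
  rw [hP, Submodule.mem_bot] at this
  exact this

end Groth.Agent.Helper6.GrPrime
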