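import Mathlib
import Groth.Prelude.Def_GrLC
import Groth.Prelude.Def_Wider
import Groth.Agent.Helper6.GrMod
import Groth.Agent.Helper6.GrCon
import Groth.Agent.Helper6.GrInj
import Groth.Agent.Helper6.GrPrime

namespace Groth.Agent.Helper6.GrShift

open DirectSum Groth.Agent.Helper6.GrMod Groth.Agent.Helper6.GrCon Groth.Agent.Helper6.GrInj

universe u

section Shift

variable {ι : Type} [AddCommGroup ι] [DecidableEq ι] {R : Type u} [CommRing R]
  (𝒜 : ι → AddSubgroup R) [GradedRing 𝒜]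
  {M : Type u} [AddCommGroup M] [Module R M] (ℳ : ι → AddSubgroup M) [Decomposition ℳ]
  [SetLike.GradedSMul 𝒜 ℳ] (d : ι)

/-- the shifted family `M(d)_j = M_{j+d}` -/
def shiftFam : ι → AddSubgroup M := fun j => ℳ (j + d)

omit [DecidableEq ι] [Decomposition ℳ] in
theorem mem_shiftFam {j : ι} {x : M} : x ∈ shiftFam ℳ d j ↔ x ∈ ℳ (j + d) := Iff.rfl

theorem isInternal_shiftFam : DirectSum.IsInternal (shiftFam ℳ d) := by
  classical
  apply isInternal_of_proj (shiftFam ℳ d) (fun j x => (decompose ℳ x (j + d) : M))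
  · intro j x
    exact (decompose ℳ x (j + d)).2
  · intro j x hx
    exact decompose_of_mem_same ℳ hx
  · intro i j x hx hij
    exact decompose_of_mem_ne ℳ hx (fun h => hij (add_right_cancel h))
  · intro j x y
    rw [decompose_add, DirectSum.add_apply, AddSubgroup.coe_add]
  · intro x
    refine ⟨(decompose ℳ x).support.image (· - d), ?_⟩
    rw [Finset.sum_image (fun a _ b _ h => sub_left_injective h)]
    have h1 : ∀ i ∈ (decompose ℳ x).support, (decompose ℳ x (i - d + d) : M) =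
        (decompose ℳ x i : M) := by
      intro i _
      rw [sub_add_cancel]
    rw [Finset.sum_congr rfl h1]
    exact DirectSum.sum_support_decompose ℳ x

omit [DecidableEq ι] [Decomposition ℳ] in
theorem gradedSMul_shiftFam : SetLike.GradedSMul 𝒜 (shiftFam ℳ d) where
  smul_mem := by
    intro i j r x hr hx
    have h := SetLike.GradedSMul.smul_mem (A := 𝒜) (B := ℳ) hr ((mem_shiftFam ℳ d).mp hx)
    rw [vadd_eq_add] at h ⊢
    rw [mem_shiftFam, add_assoc]
    exact h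

end Shift

section ShiftG

variable {ι : Type} [AddCommGroup ι] [DecidableEq ι] {R : Type u} [CommRing R]
  (𝒜 : ι → AddSubgroup R) [GradedRing 𝒜]

/-- shift of a bundled graded module -/
noncomputable def shiftGMod (X : GrLC.GMod.{u} 𝒜) (d : ι) : GrLC.GMod.{u} 𝒜 :=
  letI := (isInternal_shiftFam X.gr d).chooseDecomposition
  letI := gradedSMul_shiftFam 𝒜 X.gr d
  { carrier := X.carrier, gr := shiftFam X.gr d }

variable {E : Type u} [AddCommGroup E] [Module R E] (𝓔 : ι → AddSubgroup E) [Decomposition 𝓔]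
  [SetLike.GradedSMul 𝒜 𝓔] (d : ι)

theorem isStarInj_shift [Decomposition (shiftFam 𝓔 d)] [SetLike.GradedSMul 𝒜 (shiftFam 𝓔 d)]
    (hE : GrLC.IsStarInj 𝒜 𝓔) : GrLC.IsStarInj 𝒜 (shiftFam 𝓔 d) := by
  intro A B f hf hfinj g₀ hg₀
  obtain ⟨h, hh, hhf⟩ := hE (shiftGMod 𝒜 A (-d)) (shiftGMod 𝒜 B (-d)) f
    (fun j a ha => hf (j + -d) a ha) hfinj g₀
    (fun j a ha => by
      have h1 := hg₀ (j + -d) a ha
      rw [mem_shiftFam, neg_add_cancel_right] at h1
      exact h1)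
  refine ⟨h, ?_, hhf⟩
  intro j b hb
  rw [mem_shiftFam]
  apply hh (j + d) b
  show b ∈ B.gr (j + d + -d)
  rw [add_neg_cancel_right]
  exact hb

end ShiftG

section Bij

open Groth.Agent.Helper6.GrPrime

variable {ι : Type} [AddCommGroup ι] [DecidableEq ι] {R : Type u} [CommRing R]
  (𝒜 : ι → AddSubgroup R) [GradedRing 𝒜] (p : HomogeneousIdeal 𝒜) [p.toIdeal.IsPrime]
  {E : Type u} [AddCommGroup E] [Module R E] (𝓔 : ι → AddSubgroup E) [Decomposition 𝓔]
  [SetLike.GradedSMul 𝒜 𝓔]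

/-- S13219 -/
theorem smul_bijective (e : (R ⧸ p.toIdeal) →ₗ[R] E)
    (he : GrLC.IsStarInjHull 𝒜 (GrLC.quotGr 𝒜 p) 𝓔 e) (g : ι) (r : R) (hr : r ∈ 𝒜 g)
    (hrp : r ∉ p.toIdeal) : Function.Bijective (fun x : E => r • x) := by
  let μ : E →ₗ[R] E := LinearMap.lsmul R E r
  have hμ : ∀ x, μ x = r • x := fun x => rfl
  letI decS : Decomposition (shiftFam 𝓔 (-g)) := (isInternal_shiftFam 𝓔 (-g)).chooseDecomposition
  letI smS : SetLike.GradedSMul 𝒜 (shiftFam 𝓔 (-g)) := gradedSMul_shiftFam 𝒜 𝓔 (-g)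
  have hμgr : GrLC.IsGrHom (shiftFam 𝓔 (-g)) 𝓔 μ := by
    intro j x hx
    have h1 := smul_mem' 𝒜 𝓔 hr ((mem_shiftFam 𝓔 (-g)).mp hx)
    rw [add_neg_cancel_comm_assoc] at h1
    exact h1
  have hμinj : Function.Injective μ := by
    have hK : (LinearMap.ker μ).IsHomogeneous 𝓔 := by
      intro j x hx
      rw [LinearMap.mem_ker, hμ] at hx ⊢
      rw [← decompose_smul_homog 𝒜 𝓔 hr, hx, decompose_zero, DirectSum.zero_apply,
        ZeroMemClass.coe_zero]
    rw [← LinearMap.ker_eq_bot]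
    by_contra hne
    obtain ⟨y, hy, hy0⟩ := (Submodule.ne_bot_iff _).mp (he.essential _ hK hne)
    obtain ⟨hyk, ⟨m, rfl⟩⟩ := hy
    obtain ⟨s, rfl⟩ := Ideal.Quotient.mk_surjective m
    have hs : s ∉ p.toIdeal := (e_mk_ne_zero_iff 𝒜 p he.injective).mp hy0
    exact hrp ((smul_e_mk_eq_zero_iff 𝒜 p he.injective r hs).mp hyk)
  have hES : GrLC.IsStarInj 𝒜 (shiftFam 𝓔 (-g)) := isStarInj_shift 𝒜 𝓔 (-g) he.starInj
  obtain ⟨h, hh, hhμ⟩ := IsStarInj.ext_unbundled 𝒜 (shiftFam 𝓔 (-g)) 𝓔 (shiftFam 𝓔 (-g)) hES μ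
    hμgr hμinj LinearMap.id (fun _ _ hm => hm)
  have hhμ' : ∀ x, h (μ x) = x := fun x => LinearMap.congr_fun hhμ x
  have hcompl : IsCompl (LinearMap.range μ) (LinearMap.ker h) := by
    constructor
    · rw [disjoint_iff, eq_bot_iff]
      rintro x ⟨⟨y, rfl⟩, hx⟩
      have hy : y = 0 := by
        rw [← hhμ' y]
        exact hx
      rw [hy, map_zero]
      exact zero_mem _
    · rw [codisjoint_iff, eq_top_iff]
      intro x _
      have hx : x = μ (h x) + (x - μ (h x)) := by abel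
      rw [hx]
      refine Submodule.add_mem_sup ⟨h x, rfl⟩ ?_
      rw [LinearMap.mem_ker, map_sub, hhμ', sub_self]
  have hRhom : (LinearMap.range μ).IsHomogeneous 𝓔 := range_isHomogeneous hμgr
  have hKhom : (LinearMap.ker h).IsHomogeneous 𝓔 := ker_isHomogeneous hh
  obtain ⟨hnt, hind⟩ := GrPrime.isStarIndec 𝒜 p 𝓔 e he
  rcases hind _ _ hRhom hKhom hcompl with h1 | h1
  · exfalso
    obtain ⟨x, hx⟩ := exists_ne (0 : E)
    have hmem : μ x ∈ LinearMap.range μ := ⟨x, rfl⟩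
    rw [h1, Submodule.mem_bot] at hmem
    exact hx (hμinj (by rw [hmem, map_zero]))
  · have hhinj : Function.Injective h := LinearMap.ker_eq_bot.mp h1
    exact ⟨hμinj, fun x => ⟨h x, hhinj (hhμ' (h x))⟩⟩

end Bij

end Groth.Agent.Helper6.GrShift
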