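import Mathlib
import Groth.Prelude.Def_GrLC
import Groth.Agent.Helper6.GrMod
import Groth.Agent.Helper6.GrCon
import Groth.Agent.Helper6.GrShift

/-!
# `Hom_R(K, I) = *Hom_R(K, I)` for finitely generated graded `K`, and extension of arbitrary linear maps
into a `*`injective module along graded injections with finitely generated source.
-/

namespace Groth.Agent.Helper6.GrExt

open DirectSum Groth.Agent.Helper6.GrMod Groth.Agent.Helper6.GrCon Groth.Agent.Helper6.GrShift

universe u

section Comp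

variable {ι : Type} [AddCommGroup ι] [DecidableEq ι] {R : Type u} [CommRing R]
  (𝒜 : ι → AddSubgroup R) [GradedRing 𝒜]
  {K : Type u} [AddCommGroup K] [Module R K] (𝒦 : ι → AddSubgroup K) [Decomposition 𝒦]
  [SetLike.GradedSMul 𝒜 𝒦]
  {I : Type u} [AddCommGroup I] [Module R I] (ℐ : ι → AddSubgroup I) [Decomposition ℐ]
  [SetLike.GradedSMul 𝒜 ℐ]

/-- projection to the `e`-th component, as an additive endomorphism -/
noncomputable def proj (e : ι) : I →+ I where
  toFun x := (decompose ℐ x e : I)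
  map_zero' := by simp
  map_add' x y := by simp [decompose_add]

/-- degree `d` component of an additive map between graded groups -/
noncomputable def compAdd (φ : K →+ I) (d : ι) : K →+ I :=
  (DirectSum.toAddMonoid (fun g => ((proj ℐ (g + d)).comp φ).comp (𝒦 g).subtype)).comp
    (decomposeAddEquiv 𝒦).toAddMonoidHom

theorem compAdd_of_mem (φ : K →+ I) (d : ι) {g : ι} {x : K} (hx : x ∈ 𝒦 g) :
    compAdd 𝒦 ℐ φ d x = (decompose ℐ (φ x) (g + d) : I) := by
  unfold compAdd
  rw [AddMonoidHom.comp_apply]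
  change (DirectSum.toAddMonoid _) (decompose 𝒦 x) = _
  rw [decompose_of_mem 𝒦 hx, DirectSum.toAddMonoid_of]
  rfl

/-- degree `d` component of a linear map between graded modules -/
noncomputable def comp (φ : K →ₗ[R] I) (d : ι) : K →ₗ[R] I where
  toFun := compAdd 𝒦 ℐ φ.toAddMonoidHom d
  map_add' := map_add _
  map_smul' := by
    intro r x
    rw [RingHom.id_apply]
    induction r using Decomposition.inductionOn 𝒜 with
    | zero => rw [zero_smul, zero_smul, map_zero]
    | add a b ha hb => rw [add_smul, add_smul, map_add, ha, hb]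
    | @homogeneous h r =>
      induction x using Decomposition.inductionOn 𝒦 with
      | zero => rw [smul_zero, map_zero, smul_zero]
      | add a b ha hb => rw [smul_add, map_add, map_add, smul_add, ha, hb]
      | @homogeneous g x =>
        rw [compAdd_of_mem 𝒦 ℐ _ d (smul_mem' 𝒜 𝒦 r.2 x.2), compAdd_of_mem 𝒦 ℐ _ d x.2]
        change (decompose ℐ (φ ((r : R) • (x : K))) (h + g + d) : I) = _
        rw [map_smul, add_assoc, decompose_smul_homog 𝒜 ℐ r.2]
        rfl

theorem comp_of_mem (φ : K →ₗ[R] I) (d : ι) {g : ι} {x : K} (hx : x ∈ 𝒦 g) :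
    comp 𝒜 𝒦 ℐ φ d x = (decompose ℐ (φ x) (g + d) : I) :=
  compAdd_of_mem 𝒦 ℐ φ.toAddMonoidHom d hx

theorem comp_isGrHom (φ : K →ₗ[R] I) (d : ι) :
    GrLC.IsGrHom 𝒦 (shiftFam ℐ d) (comp 𝒜 𝒦 ℐ φ d) := by
  intro g x hx
  rw [comp_of_mem 𝒜 𝒦 ℐ φ d hx]
  exact (decompose ℐ (φ x) (g + d)).2

/-- each element is seen by only finitely many components, and `φ` is their sum -/
theorem exists_finset_sum_comp (φ : K →ₗ[R] I) (x : K) :
    ∃ D : Finset ι, ∀ D' : Finset ι, D ⊆ D' → φ x = ∑ d ∈ D', comp 𝒜 𝒦 ℐ φ d x := by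
  classical
  induction x using Decomposition.inductionOn 𝒦 with
  | zero => exact ⟨∅, fun D' _ => by simp⟩
  | add a b ha hb =>
    obtain ⟨Da, hDa⟩ := ha
    obtain ⟨Db, hDb⟩ := hb
    refine ⟨Da ∪ Db, fun D' hD' => ?_⟩
    rw [map_add, hDa D' (Finset.union_subset_left hD'), hDb D' (Finset.union_subset_right hD'),
      ← Finset.sum_add_distrib]
    exact Finset.sum_congr rfl (fun d _ => (map_add _ _ _).symm)
  | @homogeneous g x =>
    refine ⟨(DFinsupp.support (decompose ℐ (φ x))).image (fun e => e - g), fun D' hD' => ?_⟩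
    have h1 : ∀ d, comp 𝒜 𝒦 ℐ φ d (x : K) = (decompose ℐ (φ x) (g + d) : I) :=
      fun d => comp_of_mem 𝒜 𝒦 ℐ φ d x.2
    simp only [h1]
    have h2 : ∑ d ∈ D', (decompose ℐ (φ x) (g + d) : I) =
        ∑ e ∈ D'.image (fun d => g + d), (decompose ℐ (φ x) e : I) := by
      rw [Finset.sum_image]
      intro a _ b _ hab
      exact add_left_cancel hab
    rw [h2]
    conv_lhs => rw [← DirectSum.sum_support_decompose ℐ (φ (x : K))]
    apply Finset.sum_subset
    · intro e he
      rw [Finset.mem_image]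
      refine ⟨e - g, hD' (Finset.mem_image_of_mem _ he), by abel⟩
    · intro e _ he
      rw [DFinsupp.mem_support_toFun] at he
      push Not at he
      rw [he, ZeroMemClass.coe_zero]

/-- a linear map out of a finitely generated graded module is a finite sum of homogeneous maps -/
theorem exists_finset_eq_sum_comp [Module.Finite R K] (φ : K →ₗ[R] I) :
    ∃ D : Finset ι, φ = ∑ d ∈ D, comp 𝒜 𝒦 ℐ φ d := by
  classical
  obtain ⟨S, hS⟩ := (Module.Finite.fg_top : (⊤ : Submodule R K).FG)
  choose D hD using fun x => exists_finset_sum_comp 𝒜 𝒦 ℐ φ x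
  refine ⟨S.biUnion D, ?_⟩
  apply LinearMap.ext_on hS
  intro x hx
  rw [hD x _ (Finset.subset_biUnion_of_mem D hx), LinearMap.sum_apply]

end Comp

section Extend

variable {ι : Type} [AddCommGroup ι] [DecidableEq ι] {R : Type u} [CommRing R]
  (𝒜 : ι → AddSubgroup R) [GradedRing 𝒜]
  {I : Type u} [AddCommGroup I] [Module R I] (ℐ : ι → AddSubgroup I) [Decomposition ℐ]
  [SetLike.GradedSMul 𝒜 ℐ]

/-- Any linear map from a finitely generated graded module into a `*`injective module extends along a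
graded injection. -/
theorem exists_extension (hI : GrLC.IsStarInj 𝒜 ℐ) (A B : GrLC.GMod.{u} 𝒜)
    (f : A.carrier →ₗ[R] B.carrier) (hf : GrLC.IsGrHom A.gr B.gr f) (hinj : Function.Injective f)
    [Module.Finite R A.carrier] (φ : A.carrier →ₗ[R] I) :
    ∃ ψ : B.carrier →ₗ[R] I, ψ ∘ₗ f = φ := by
  obtain ⟨D, hD⟩ := exists_finset_eq_sum_comp 𝒜 A.gr ℐ φ
  have hext : ∀ d : ι, ∃ ψ : B.carrier →ₗ[R] I, ψ ∘ₗ f = comp 𝒜 A.gr ℐ φ d := by
    intro d
    have h1 : GrLC.IsGrHom (shiftGMod 𝒜 A (-d)).gr (shiftGMod 𝒜 B (-d)).gr f :=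
      fun j a ha => hf (j + -d) a ha
    have h2 : GrLC.IsGrHom (shiftGMod 𝒜 A (-d)).gr ℐ (comp 𝒜 A.gr ℐ φ d) := by
      intro j a ha
      have := comp_isGrHom 𝒜 A.gr ℐ φ d (j + -d) a ha
      rw [mem_shiftFam, neg_add_cancel_right] at this
      exact this
    obtain ⟨h, -, hh⟩ := hI (shiftGMod 𝒜 A (-d)) (shiftGMod 𝒜 B (-d)) f h1 hinj
      (comp 𝒜 A.gr ℐ φ d) h2
    exact ⟨h, hh⟩
  choose ψ hψ using hext
  refine ⟨∑ d ∈ D, ψ d, ?_⟩
  apply LinearMap.ext
  intro x
  rw [LinearMap.comp_apply, LinearMap.sum_apply]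
  conv_rhs => rw [hD, LinearMap.sum_apply]
  apply Finset.sum_congr rfl
  intro d _
  rw [← hψ d, LinearMap.comp_apply]

end Extend

section Free

variable {ι : Type} [AddCommGroup ι] [DecidableEq ι] {R : Type u} [CommRing R]
  (𝒜 : ι → AddSubgroup R) [GradedRing 𝒜] {J : Type u} [Fintype J] (e : J → ι)

/-- grading on `J → R` with the `j`-th basis vector in degree `e j` -/
def freeFam : ι → AddSubgroup (J → R) := fun g =>
  { carrier := {v | ∀ j, v j ∈ 𝒜 (g - e j)}
    zero_mem' := fun j => zero_mem _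
    add_mem' := fun ha hb j => add_mem (ha j) (hb j)
    neg_mem' := fun ha j => neg_mem (ha j) }

omit [DecidableEq ι] [GradedRing 𝒜] [Fintype J] in
theorem mem_freeFam {g : ι} {v : J → R} : v ∈ freeFam 𝒜 e g ↔ ∀ j, v j ∈ 𝒜 (g - e j) := Iff.rfl

theorem isInternal_freeFam : DirectSum.IsInternal (freeFam 𝒜 e) := by
  classical
  apply isInternal_of_proj (freeFam 𝒜 e) (fun g v j => (decompose 𝒜 (v j) (g - e j) : R))
  · intro g v j
    exact (decompose 𝒜 (v j) (g - e j)).2
  · intro g v hv
    funext j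
    exact decompose_of_mem_same 𝒜 (hv j)
  · intro g g' v hv hne
    funext j
    exact decompose_of_mem_ne 𝒜 (hv j) (fun h => hne (sub_left_injective h))
  · intro g v w
    funext j
    simp [decompose_add]
  · intro v
    refine ⟨Finset.univ.biUnion (fun j =>
      (DFinsupp.support (decompose 𝒜 (v j))).image (fun a => a + e j)), ?_⟩
    funext j
    rw [Finset.sum_apply]
    have hsub : (DFinsupp.support (decompose 𝒜 (v j))).image (fun a => a + e j) ⊆
        Finset.univ.biUnion (fun j =>
          (DFinsupp.support (decompose 𝒜 (v j))).image (fun a => a + e j)) :=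
      Finset.subset_biUnion_of_mem (fun j =>
          (DFinsupp.support (decompose 𝒜 (v j))).image (fun a => a + e j)) (Finset.mem_univ j)
    rw [← Finset.sum_subset hsub]
    · rw [Finset.sum_image]
      · conv_rhs => rw [← DirectSum.sum_support_decompose 𝒜 (v j)]
        apply Finset.sum_congr rfl
        intro a _
        rw [add_sub_cancel_right]
      · intro a _ b _ hab
        exact add_right_cancel hab
    · intro g _ hg
      have : g - e j ∉ DFinsupp.support (decompose 𝒜 (v j)) := by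
        intro h
        apply hg
        rw [Finset.mem_image]
        exact ⟨g - e j, h, sub_add_cancel _ _⟩
      rw [DFinsupp.mem_support_toFun] at this
      push Not at this
      rw [this, ZeroMemClass.coe_zero]

omit [Fintype J] in
theorem gradedSMul_freeFam : SetLike.GradedSMul 𝒜 (freeFam 𝒜 e) where
  smul_mem := by
    intro h g r v hr hv j
    have := SetLike.GradedMul.mul_mem (A := 𝒜) hr (hv j)
    rw [vadd_eq_add, add_sub_assoc]
    exact this

/-- the graded free module `⨁ R(-e j)` -/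
noncomputable def freeGMod : GrLC.GMod.{u} 𝒜 :=
  letI := (isInternal_freeFam 𝒜 e).chooseDecomposition
  letI := gradedSMul_freeFam 𝒜 e
  { carrier := J → R, gr := freeFam 𝒜 e }

end Free

section Gens

variable {ι : Type} [AddCommGroup ι] [DecidableEq ι] {R : Type u} [CommRing R]
  (𝒜 : ι → AddSubgroup R) [GradedRing 𝒜]
  {M : Type u} [AddCommGroup M] [Module R M] (ℳ : ι → AddSubgroup M) [Decomposition ℳ]
  [SetLike.GradedSMul 𝒜 ℳ]

omit [AddCommGroup ι] in
theorem exists_homog_generators [Module.Finite R M] :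
    ∃ (J : Type u) (_ : Fintype J) (x : J → M) (e : J → ι),
      (∀ j, x j ∈ ℳ (e j)) ∧ Submodule.span R (Set.range x) = ⊤ := by
  classical
  obtain ⟨S, hS⟩ := (Module.Finite.fg_top : (⊤ : Submodule R M).FG)
  refine ⟨Σ s : {s // s ∈ S}, {g // g ∈ DFinsupp.support (decompose ℳ s.1)}, inferInstance,
    fun p => (decompose ℳ p.1.1 p.2.1 : M), fun p => p.2.1, fun p => SetLike.coe_mem _, ?_⟩
  rw [_root_.eq_top_iff, ← hS, Submodule.span_le]
  intro s hs
  rw [SetLike.mem_coe, ← DirectSum.sum_support_decompose ℳ s]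
  apply Submodule.sum_mem
  intro g hg
  exact Submodule.subset_span ⟨⟨⟨s, hs⟩, ⟨g, hg⟩⟩, rfl⟩

/-- graded finite free presentation step -/
theorem exists_presentation [IsNoetherianRing R] (A : GrLC.GMod.{u} 𝒜) [Module.Finite R A.carrier] :
    ∃ (K F : GrLC.GMod.{u} 𝒜) (f : K.carrier →ₗ[R] F.carrier) (π : F.carrier →ₗ[R] A.carrier),
      Module.Finite R K.carrier ∧ Module.Projective R F.carrier ∧ GrLC.IsGrHom K.gr F.gr f ∧
      Function.Injective f ∧ Function.Surjective π ∧ Function.Exact f π := by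
  obtain ⟨J, _, x, e, hx, hspan⟩ := exists_homog_generators (R := R) A.gr
  letI := (isInternal_freeFam 𝒜 e).chooseDecomposition
  letI := gradedSMul_freeFam 𝒜 e
  let π : (J → R) →ₗ[R] A.carrier := Fintype.linearCombination R x
  have hπs : Function.Surjective π := by
    rw [← LinearMap.range_eq_top]
    exact (Fintype.range_linearCombination R x).trans hspan
  have hπg : GrLC.IsGrHom (freeFam 𝒜 e) A.gr π := by
    intro g v hv
    change Fintype.linearCombination R x v ∈ A.gr g
    rw [Fintype.linearCombination_apply]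
    apply sum_mem
    intro j _
    have := smul_mem' 𝒜 A.gr (hv j) (hx j)
    rwa [sub_add_cancel] at this
  have hK : (LinearMap.ker π).IsHomogeneous (freeFam 𝒜 e) := ker_isHomogeneous hπg
  refine ⟨subGMod 𝒜 (freeFam 𝒜 e) (LinearMap.ker π) hK, GrLC.GMod.of 𝒜 (J → R) (freeFam 𝒜 e),
    (LinearMap.ker π).subtype, π, ?_, ?_, ?_, ?_, hπs, ?_⟩
  · change Module.Finite R (LinearMap.ker π)
    infer_instance
  · change Module.Projective R (J → R)
    infer_instance
  · intro g v hv
    exact hv
  · exact Subtype.val_injective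
  · exact LinearMap.exact_subtype_ker_map π

end Gens

section ExtVanish

open CategoryTheory Abelian

variable {ι : Type} [AddCommGroup ι] [DecidableEq ι] {R : Type u} [CommRing R] [IsNoetherianRing R]
  (𝒜 : ι → AddSubgroup R) [GradedRing 𝒜]
  {I : Type u} [AddCommGroup I] [Module R I] (ℐ : ι → AddSubgroup I) [Decomposition ℐ]
  [SetLike.GradedSMul 𝒜 ℐ]

theorem ext_subsingleton (hI : GrLC.IsStarInj 𝒜 ℐ) (n : ℕ) :
    ∀ (A : GrLC.GMod.{u} 𝒜) [Module.Finite R A.carrier],
      Subsingleton (Ext.{u} (ModuleCat.of R A.carrier) (ModuleCat.of R I) (n + 1)) := by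
  induction n with
  | zero =>
    intro A _
    obtain ⟨K, F, f, π, hKfin, hFproj, hfg, hfinj, hπs, hex⟩ := exists_presentation 𝒜 A
    let S : ShortComplex (ModuleCat.{u} R) :=
      ShortComplex.mk (ModuleCat.ofHom f) (ModuleCat.ofHom π) (by
        ext x
        exact hex.apply_apply_eq_zero x)
    have hS : S.ShortExact := ModuleCat.shortComplex_shortExact S hex hfinj hπs
    haveI : Module.Projective R (ModuleCat.of R F.carrier) := hFproj
    haveI : Projective S.X₂ := ModuleCat.projective_of_categoryTheory_projective _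
    refine subsingleton_of_forall_eq 0 (fun x₃ => ?_)
    have h0 : (Ext.mk₀ S.g).comp x₃ (zero_add 1) = 0 := Ext.eq_zero_of_projective _
    obtain ⟨x₁, hx₁⟩ := Ext.contravariant_sequence_exact₃ hS _ x₃ h0 (n₀ := 0) rfl
    obtain ⟨φ', rfl⟩ := (Ext.mk₀_bijective _ _).2 x₁
    obtain ⟨ψ, hψ⟩ := exists_extension 𝒜 ℐ hI K F f hfg hfinj φ'.hom
    have hφ' : φ' = S.f ≫ ModuleCat.ofHom ψ := by
      apply ModuleCat.hom_ext
      exact hψ.symm
    rw [← hx₁, hφ', ← Ext.mk₀_comp_mk₀]
    exact hS.extClass_comp_assoc _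
  | succ n ih =>
    intro A _
    obtain ⟨K, F, f, π, hKfin, hFproj, hfg, hfinj, hπs, hex⟩ := exists_presentation 𝒜 A
    let S : ShortComplex (ModuleCat.{u} R) :=
      ShortComplex.mk (ModuleCat.ofHom f) (ModuleCat.ofHom π) (by
        ext x
        exact hex.apply_apply_eq_zero x)
    have hS : S.ShortExact := ModuleCat.shortComplex_shortExact S hex hfinj hπs
    haveI : Module.Projective R (ModuleCat.of R F.carrier) := hFproj
    haveI : Projective S.X₂ := ModuleCat.projective_of_categoryTheory_projective _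
    refine subsingleton_of_forall_eq 0 (fun x₃ => ?_)
    have h0 : (Ext.mk₀ S.g).comp x₃ (zero_add (n + 1 + 1)) = 0 := Ext.eq_zero_of_projective _
    obtain ⟨x₁, hx₁⟩ := Ext.contravariant_sequence_exact₃ hS _ x₃ h0 (n₀ := n + 1)
      (add_comm 1 (n + 1))
    haveI := hKfin
    have hx0 : x₁ = 0 := (ih K).elim _ _
    rw [← hx₁, hx0, Ext.comp_zero]

end ExtVanish

end Groth.Agent.Helper6.GrExt
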