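import Mathlib
import Groth.Prelude.Def_GrLC
import Groth.Prelude.Def_Wider
import Groth.Agent.Helper6.GrMod
import Groth.Agent.Helper6.GrCon
import Groth.Agent.Helper6.GrInj

namespace Groth.Agent.Helper6.GrH

open DirectSum Groth.Agent.Helper6.GrMod Groth.Agent.Helper6.GrCon Groth.Agent.Helper6.GrInj

universe u

section Gam

variable {ι : Type} [AddCommGroup ι] [DecidableEq ι] {R : Type u} [CommRing R]
  (𝒜 : ι → AddSubgroup R) [GradedRing 𝒜]
  {M : Type u} [AddCommGroup M] [Module R M] (ℳ : ι → AddSubgroup M) [Decomposition ℳ]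
  [SetLike.GradedSMul 𝒜 ℳ]

theorem pow_isHomogeneous {a : Ideal R} (ha : a.IsHomogeneous 𝒜) (n : ℕ) :
    (a ^ n).IsHomogeneous 𝒜 := by
  induction n with
  | zero => rw [pow_zero, Ideal.one_eq_top]; exact Ideal.IsHomogeneous.top 𝒜
  | succ n ih => rw [pow_succ]; exact ih.mul ha

theorem gam_isHomogeneous (a : HomogeneousIdeal 𝒜) : (GrLC.gam a.toIdeal M).IsHomogeneous ℳ := by
  classical
  rintro j x ⟨n, hn⟩
  refine ⟨n, fun r hr => ?_⟩
  have hI := pow_isHomogeneous 𝒜 a.isHomogeneous n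
  rw [← DirectSum.sum_support_decompose 𝒜 r, Finset.sum_smul]
  apply Finset.sum_eq_zero
  intro e _
  have hre : (decompose 𝒜 r e : R) ∈ a.toIdeal ^ n := hI e hr
  rw [← decompose_smul_homog 𝒜 ℳ (decompose 𝒜 r e).2, hn _ hre, decompose_zero,
    DirectSum.zero_apply, ZeroMemClass.coe_zero]

end Gam

section Map

variable {ι : Type} [AddCommGroup ι] [DecidableEq ι] {R : Type u} [CommRing R]
  {M : Type u} [AddCommGroup M] [Module R M] {ℳ : ι → AddSubgroup M} [Decomposition ℳ]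
  {N : Type u} [AddCommGroup N] [Module R N] {𝒩 : ι → AddSubgroup N} [Decomposition 𝒩]

theorem map_isHomogeneous {f : M →ₗ[R] N} (hf : GrLC.IsGrHom ℳ 𝒩 f) {P : Submodule R M}
    (hP : P.IsHomogeneous ℳ) : (P.map f).IsHomogeneous 𝒩 := by
  rintro i _ ⟨m, hm, rfl⟩
  exact ⟨_, hP i hm, (GrMod.decompose_map hf m i).symm⟩

omit [AddCommGroup ι] in
theorem inf_isHomogeneous {P Q : Submodule R M} (hP : P.IsHomogeneous ℳ)
    (hQ : Q.IsHomogeneous ℳ) : (P ⊓ Q).IsHomogeneous ℳ :=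
  fun i _ hm => ⟨hP i hm.1, hQ i hm.2⟩

omit [AddCommGroup ι] in
theorem bot_isHomogeneous : (⊥ : Submodule R M).IsHomogeneous ℳ := by
  intro i m hm
  rw [Submodule.mem_bot] at hm
  rw [hm, decompose_zero, DirectSum.zero_apply, ZeroMemClass.coe_zero]
  exact Submodule.zero_mem _

end Map

section H

variable {ι : Type} [AddCommGroup ι] [DecidableEq ι] {R : Type u} [CommRing R]
  (𝒜 : ι → AddSubgroup R) [GradedRing 𝒜]
  {M : Type u} [AddCommGroup M] [Module R M] (ℳ : ι → AddSubgroup M) [Decomposition ℳ]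
  [SetLike.GradedSMul 𝒜 ℳ]

theorem cocyc_isHomogeneous (a : HomogeneousIdeal 𝒜) (E : GrLC.StarInjRes 𝒜 ℳ) (i : ℕ) :
    (E.cocyc a i).IsHomogeneous (E.X i).gr :=
  inf_isHomogeneous (gam_isHomogeneous 𝒜 (E.X i).gr a) (ker_isHomogeneous (E.d_grHom i))

theorem cobdy_isHomogeneous (a : HomogeneousIdeal 𝒜) (E : GrLC.StarInjRes 𝒜 ℳ) (i : ℕ) :
    (E.cobdy a i).IsHomogeneous (E.X i).gr := by
  cases i with
  | zero => exact bot_isHomogeneous
  | succ n => exact map_isHomogeneous (E.d_grHom n) (gam_isHomogeneous 𝒜 (E.X n).gr a)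

theorem Hgr_isInternal (a : HomogeneousIdeal 𝒜) (E : GrLC.StarInjRes 𝒜 ℳ) (i : ℕ) :
    DirectSum.IsInternal (E.Hgr a i) := by
  have hC := cocyc_isHomogeneous 𝒜 ℳ a E i
  letI decC : Decomposition (subFam (E.X i).gr (E.cocyc a i)) :=
    (isInternal_subFam (E.X i).gr (E.cocyc a i) hC).chooseDecomposition
  have hsub : GrLC.IsGrHom (subFam (E.X i).gr (E.cocyc a i)) (E.X i).gr (E.cocyc a i).subtype :=
    fun g z hz => hz
  have hB : ((E.cobdy a i).comap (E.cocyc a i).subtype).IsHomogeneous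
      (subFam (E.X i).gr (E.cocyc a i)) :=
    comap_isHomogeneous hsub (cobdy_isHomogeneous 𝒜 ℳ a E i)
  have key := isInternal_quotFam (subFam (E.X i).gr (E.cocyc a i)) _ hB
  have heq : E.Hgr a i = quotFam (subFam (E.X i).gr (E.cocyc a i))
      ((E.cobdy a i).comap (E.cocyc a i).subtype) := by
    funext g
    ext x
    constructor
    · rintro ⟨z, hz, rfl⟩
      exact ⟨z, hz, rfl⟩
    · rintro ⟨z, hz, rfl⟩
      exact ⟨z, hz, rfl⟩
  rw [heq]
  exact key

end H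

end Groth.Agent.Helper6.GrH
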