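import Mathlib
import Groth.Prelude.Def_GrLC
import Groth.Prelude.Def_Wider
import Groth.Agent.Helper6.GrMod
import Groth.Agent.Helper6.GrCon
import Groth.Agent.Helper6.GrInj
import Groth.Agent.Helper6.GrH

namespace Groth.Agent.Helper6.GrHull

open DirectSum Groth.Agent.Helper6.GrMod Groth.Agent.Helper6.GrCon Groth.Agent.Helper6.GrInj
  Groth.Agent.Helper6.GrH

universe u

section Intrinsic

variable {ι : Type} [AddCommGroup ι] [DecidableEq ι] {R : Type u} [CommRing R]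
  (𝒜 : ι → AddSubgroup R) [GradedRing 𝒜]
  {I : Type u} [AddCommGroup I] [Module R I] (ℐ : ι → AddSubgroup I) [Decomposition ℐ]
  [SetLike.GradedSMul 𝒜 ℐ]

/-- intrinsic form of "`N₀ ⊆ X'` is a *essential extension" inside a graded module. -/
def EssIn (N₀ X' : Submodule R I) : Prop :=
  ∀ P : Submodule R I, P ≤ X' → P.IsHomogeneous ℐ → P ≠ ⊥ → P ⊓ N₀ ≠ ⊥

omit [AddCommGroup ι] in
theorem exists_homog_ne_zero {P : Submodule R I} (hP : P.IsHomogeneous ℐ) (hP0 : P ≠ ⊥) :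
    ∃ (j : ι) (p : I), p ∈ P ∧ p ∈ ℐ j ∧ p ≠ 0 := by
  obtain ⟨x, hx, hx0⟩ := (Submodule.ne_bot_iff _).mp hP0
  by_contra hcon
  push Not at hcon
  apply hx0
  apply eq_zero_of_components ℐ
  intro j
  exact hcon j _ (hP j hx) (decompose ℐ x j).2

omit [AddCommGroup ι] in
theorem sSup_isHomogeneous {c : Set (Submodule R I)} (hne : c.Nonempty)
    (hdir : DirectedOn (· ≤ ·) c) (hc : ∀ N ∈ c, N.IsHomogeneous ℐ) :
    (sSup c).IsHomogeneous ℐ := by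
  intro i x hx
  obtain ⟨N, hNc, hxN⟩ := (Submodule.mem_sSup_of_directed hne hdir).mp hx
  exact (Submodule.mem_sSup_of_directed hne hdir).mpr ⟨N, hNc, hc N hNc i hxN⟩

include 𝒜 in
theorem exists_maximal_essIn {N₀ : Submodule R I} (hN₀ : N₀.IsHomogeneous ℐ) :
    ∃ X' : Submodule R I, N₀ ≤ X' ∧ X'.IsHomogeneous ℐ ∧ EssIn ℐ N₀ X' ∧
      ∀ Y : Submodule R I, Y.IsHomogeneous ℐ → X' ≤ Y → EssIn ℐ N₀ Y → Y ≤ X' := by
  let 𝒮 : Set (Submodule R I) := {X | N₀ ≤ X ∧ X.IsHomogeneous ℐ ∧ EssIn ℐ N₀ X}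
  have h0 : N₀ ∈ 𝒮 := ⟨le_rfl, hN₀, fun P hP _ hP0 => by rwa [inf_eq_left.mpr hP]⟩
  obtain ⟨X', hX', hmax⟩ := zorn_le_nonempty₀ 𝒮 (by
    intro c hc𝒮 hchain y hy
    have hne : c.Nonempty := ⟨y, hy⟩
    have hdir := hchain.directedOn
    refine ⟨sSup c, ⟨(hc𝒮 hy).1.trans (le_sSup hy),
      sSup_isHomogeneous ℐ hne hdir (fun N hN => (hc𝒮 hN).2.1), ?_⟩, fun z hz => le_sSup hz⟩
    intro P hP hPhom hP0
    obtain ⟨j, p, hpP, hpj, hp0⟩ := exists_homog_ne_zero ℐ hPhom hP0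
    obtain ⟨N, hNc, hpN⟩ := (Submodule.mem_sSup_of_directed hne hdir).mp (hP hpP)
    have hspan : Submodule.span R {p} ≤ N := (Submodule.span_singleton_le_iff_mem _ _).mpr hpN
    have h1 := (hc𝒮 hNc).2.2 (Submodule.span R {p}) hspan
      (span_singleton_isHomogeneous 𝒜 ℐ hpj) (by rwa [Ne, Submodule.span_singleton_eq_bot])
    intro hbot
    apply h1
    rw [eq_bot_iff, ← hbot]
    exact inf_le_inf_right _ ((Submodule.span_singleton_le_iff_mem _ _).mpr hpP)) N₀ h0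
  exact ⟨X', hmax.prop.1, hmax.prop.2.1, hmax.prop.2.2, fun Y hY hle hess =>
    hmax.le_of_ge ⟨hmax.prop.1.trans hle, hY, hess⟩ hle⟩

omit [AddCommGroup ι] in
theorem exists_maximal_disjoint (X' : Submodule R I) :
    ∃ Q : Submodule R I, Q.IsHomogeneous ℐ ∧ Q ⊓ X' = ⊥ ∧
      ∀ Q' : Submodule R I, Q'.IsHomogeneous ℐ → Q ≤ Q' → Q' ⊓ X' = ⊥ → Q' ≤ Q := by
  let 𝒮 : Set (Submodule R I) := {Q | Q.IsHomogeneous ℐ ∧ Q ⊓ X' = ⊥}
  have h0 : (⊥ : Submodule R I) ∈ 𝒮 := ⟨bot_isHomogeneous, bot_inf_eq _⟩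
  obtain ⟨Q, -, hmax⟩ := zorn_le_nonempty₀ 𝒮 (by
    intro c hc𝒮 hchain y hy
    have hne : c.Nonempty := ⟨y, hy⟩
    have hdir := hchain.directedOn
    refine ⟨sSup c, ⟨sSup_isHomogeneous ℐ hne hdir (fun N hN => (hc𝒮 hN).1), ?_⟩,
      fun z hz => le_sSup hz⟩
    rw [eq_bot_iff]
    rintro x ⟨hx1, hx2⟩
    obtain ⟨N, hNc, hxN⟩ := (Submodule.mem_sSup_of_directed hne hdir).mp hx1
    have : x ∈ N ⊓ X' := ⟨hxN, hx2⟩
    rw [(hc𝒮 hNc).2] at this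
    exact this) ⊥ h0
  exact ⟨Q, hmax.prop.1, hmax.prop.2, fun Q' hQ' hle hdisj => hmax.le_of_ge ⟨hQ', hdisj⟩ hle⟩

theorem isStarEss_mkQ_subtype {X' Q : Submodule R I}
    (hQX : Q ⊓ X' = ⊥)
    (hmax : ∀ Q' : Submodule R I, Q'.IsHomogeneous ℐ → Q ≤ Q' → Q' ⊓ X' = ⊥ → Q' ≤ Q)
    [Decomposition (quotFam ℐ Q)] :
    GrLC.IsStarEss (subFam ℐ X') (quotFam ℐ Q) (Q.mkQ ∘ₗ X'.subtype) := by
  have hinj : Function.Injective (Q.mkQ ∘ₗ X'.subtype) := by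
    rw [injective_iff_map_eq_zero]
    intro x hx
    have h1 : (x : I) ∈ Q ⊓ X' := ⟨(Submodule.Quotient.mk_eq_zero Q).mp hx, x.2⟩
    rw [hQX, Submodule.mem_bot] at h1
    exact Subtype.ext h1
  have hmkgr : GrLC.IsGrHom ℐ (quotFam ℐ Q) Q.mkQ := fun i t ht => mkQ_mem_quotFam ℐ Q ht
  refine ⟨hinj, fun j x hx => mkQ_mem_quotFam ℐ Q ((mem_subFam ℐ X').mp hx), ?_⟩
  intro P' hP' hP'0
  have hPhom := comap_isHomogeneous hmkgr hP'
  have hQP : Q ≤ P'.comap Q.mkQ := fun n hn => by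
    rw [Submodule.mem_comap, Submodule.mkQ_apply, (Submodule.Quotient.mk_eq_zero Q).mpr hn]
    exact P'.zero_mem
  obtain ⟨q, hq, hq0⟩ := (Submodule.ne_bot_iff _).mp hP'0
  obtain ⟨t, rfl⟩ := Q.mkQ_surjective q
  have htQ : t ∉ Q := fun h => hq0 ((Submodule.Quotient.mk_eq_zero Q).mpr h)
  have hne : P'.comap Q.mkQ ⊓ X' ≠ ⊥ := fun h => htQ (hmax _ hPhom hQP h hq)
  obtain ⟨x, hx, hx0⟩ := (Submodule.ne_bot_iff _).mp hne
  rw [Ne, Submodule.eq_bot_iff]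
  intro hbot
  have h0 := hbot ((Q.mkQ ∘ₗ X'.subtype) ⟨x, hx.2⟩) ⟨hx.1, ⟨⟨x, hx.2⟩, rfl⟩⟩
  have hx0' : (⟨x, hx.2⟩ : X') = 0 := hinj (by rw [h0, map_zero])
  exact hx0 (congrArg Subtype.val hx0')

/-- the projection onto a homogeneous summand along a homogeneous complement is homogeneous. -/
theorem projectionOnto_isGrHom {X' Q : Submodule R I} (hX' : X'.IsHomogeneous ℐ)
    (hQ : Q.IsHomogeneous ℐ) (hc : IsCompl X' Q) :
    GrLC.IsGrHom ℐ (subFam ℐ X') (X'.projectionOnto Q hc) := by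
  intro j y hy
  rw [mem_subFam]
  set x : X' := X'.projectionOnto Q hc y with hx
  have hq : y - (x : I) ∈ Q := by
    rw [← Submodule.projectionOnto_apply_eq_zero_iff hc, map_sub,
      Submodule.projectionOnto_apply_left, sub_self]
  -- x - x_j ∈ X' ⊓ Q
  have h1 : (x : I) - (decompose ℐ (x : I) j : I) ∈ X' :=
    X'.sub_mem x.2 (hX' j x.2)
  have h2 : (x : I) - (decompose ℐ (x : I) j : I) ∈ Q := by
    have h3 := hQ j hq
    rw [decompose_sub, DirectSum.sub_apply, AddSubgroup.coe_sub, decompose_of_mem_same ℐ hy] at h3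
    have h4 : (x : I) - (decompose ℐ (x : I) j : I) =
        (y - (decompose ℐ (x : I) j : I)) - (y - (x : I)) := by abel
    rw [h4]
    exact Q.sub_mem h3 hq
  have h5 : (x : I) - (decompose ℐ (x : I) j : I) ∈ X' ⊓ Q := ⟨h1, h2⟩
  rw [hc.inf_eq_bot, Submodule.mem_bot, sub_eq_zero] at h5
  rw [h5]
  exact (decompose ℐ (x : I) j).2

theorem isStarInj_of_isCompl (hI : GrLC.IsStarInj 𝒜 ℐ) {X' Q : Submodule R I}
    (hX' : X'.IsHomogeneous ℐ) (hQ : Q.IsHomogeneous ℐ) (hc : IsCompl X' Q)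
    [Decomposition (subFam ℐ X')] [SetLike.GradedSMul 𝒜 (subFam ℐ X')] :
    GrLC.IsStarInj 𝒜 (subFam ℐ X') := by
  intro A B f hf hfinj g hg
  obtain ⟨h, hh, hhf⟩ := hI A B f hf hfinj (X'.subtype ∘ₗ g)
    (fun j a ha => (mem_subFam ℐ X').mp (hg j a ha))
  refine ⟨X'.projectionOnto Q hc ∘ₗ h, ?_, ?_⟩
  · intro j b hb
    exact projectionOnto_isGrHom ℐ hX' hQ hc j _ (hh j b hb)
  · apply LinearMap.ext
    intro a
    have h1 : h (f a) = (g a : I) := LinearMap.congr_fun hhf a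
    show X'.projectionOnto Q hc (h (f a)) = g a
    rw [h1, Submodule.projectionOnto_apply_left]

/-- S13223 -/
theorem exists_summand (hI : GrLC.IsStarInj 𝒜 ℐ) (q : HomogeneousIdeal 𝒜) (g₀ : ι) (m : I)
    (hm : m ∈ ℐ g₀) (hann : (Submodule.span R {m}).annihilator = q.toIdeal) :
    ∃ (X : GrLC.GMod.{u} 𝒜) (f : (R ⧸ q.toIdeal) →ₗ[R] X.carrier) (ψ : X.carrier →ₗ[R] I)
      (Q : Submodule R I),
      GrLC.IsStarInjHull 𝒜 (fun j : ι => GrLC.quotGr 𝒜 q (j - g₀)) X.gr f ∧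
        Function.Injective ψ ∧ GrLC.IsGrHom X.gr ℐ ψ ∧ ψ (f 1) = m ∧ Q.IsHomogeneous ℐ ∧
        IsCompl (LinearMap.range ψ) Q := by
  have hN₀ : (Submodule.span R {m}).IsHomogeneous ℐ := span_singleton_isHomogeneous 𝒜 ℐ hm
  obtain ⟨X', hNX, hX', hess, hXmax⟩ := exists_maximal_essIn 𝒜 ℐ hN₀
  obtain ⟨Q, hQ, hQX, hQmax⟩ := exists_maximal_disjoint ℐ X'
  letI decX : Decomposition (subFam ℐ X') := (isInternal_subFam ℐ X' hX').chooseDecomposition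
  letI smX : SetLike.GradedSMul 𝒜 (subFam ℐ X') := gradedSMul_subFam 𝒜 ℐ X'
  letI decJ : Decomposition (quotFam ℐ Q) := (isInternal_quotFam ℐ Q hQ).chooseDecomposition
  letI smJ : SetLike.GradedSMul 𝒜 (quotFam ℐ Q) := gradedSMul_quotFam 𝒜 ℐ Q
  have hπ : GrLC.IsStarEss (subFam ℐ X') (quotFam ℐ Q) (Q.mkQ ∘ₗ X'.subtype) :=
    isStarEss_mkQ_subtype ℐ hQX hQmax
  obtain ⟨φ, hφ, hφπ⟩ := IsStarInj.ext_unbundled 𝒜 (subFam ℐ X') (quotFam ℐ Q) ℐ hI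
    (Q.mkQ ∘ₗ X'.subtype) hπ.grHom hπ.injective X'.subtype (fun j x hx => hx)
  have hφπ' : ∀ x : X', φ (Q.mkQ (x : I)) = x := fun x => LinearMap.congr_fun hφπ x
  have hφinj : Function.Injective φ :=
    injective_of_comp_injective (subFam ℐ X') (quotFam ℐ Q) ℐ hπ hφ
      (by rw [hφπ]; exact Subtype.val_injective)
  have hY : (LinearMap.range φ).IsHomogeneous ℐ := range_isHomogeneous hφ
  have hXY : X' ≤ LinearMap.range φ := fun x hx => ⟨Q.mkQ x, hφπ' ⟨x, hx⟩⟩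
  have hYess : EssIn ℐ (Submodule.span R {m}) (LinearMap.range φ) := by
    intro P hPY hPhom hP0
    have hP'hom := comap_isHomogeneous hφ hPhom
    have hP'0 : P.comap φ ≠ ⊥ := by
      obtain ⟨y, hy, hy0⟩ := (Submodule.ne_bot_iff _).mp hP0
      obtain ⟨t, rfl⟩ := hPY hy
      intro hbot
      have ht : t ∈ P.comap φ := hy
      rw [hbot, Submodule.mem_bot] at ht
      exact hy0 (by rw [ht, map_zero])
    obtain ⟨z, hz, hz0⟩ := (Submodule.ne_bot_iff _).mp (hπ.essential _ hP'hom hP'0)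
    obtain ⟨hz1, ⟨x, rfl⟩⟩ := hz
    have hxP : (x : I) ∈ P := by
      have h3 : φ ((Q.mkQ ∘ₗ X'.subtype) x) ∈ P := hz1
      rwa [show φ ((Q.mkQ ∘ₗ X'.subtype) x) = x from hφπ' x] at h3
    have hx0 : (x : I) ≠ 0 := fun h => hz0 (by rw [show x = 0 from Subtype.ext h, map_zero])
    have hPX : P ⊓ X' ≠ ⊥ := fun h => hx0 (by
      have h4 : (x : I) ∈ P ⊓ X' := ⟨hxP, x.2⟩
      rwa [h, Submodule.mem_bot] at h4)
    have h2 := hess (P ⊓ X') inf_le_right (inf_isHomogeneous hPhom hX') hPX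
    intro hbot
    apply h2
    rw [eq_bot_iff, ← hbot]
    exact inf_le_inf_right _ inf_le_left
  have hYX : LinearMap.range φ ≤ X' := hXmax _ hY hXY hYess
  have hc : IsCompl X' Q := by
    constructor
    · rw [disjoint_iff, inf_comm]
      exact hQX
    · rw [codisjoint_iff, eq_top_iff]
      intro y _
      have hφy : φ (Q.mkQ y) ∈ X' := hYX ⟨_, rfl⟩
      have h5 : Q.mkQ y = Q.mkQ (φ (Q.mkQ y)) := hφinj (by rw [hφπ' ⟨_, hφy⟩])
      have hyQ : y - φ (Q.mkQ y) ∈ Q := (Submodule.Quotient.eq Q).mp h5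
      have h6 : y = φ (Q.mkQ y) + (y - φ (Q.mkQ y)) := by abel
      rw [h6]
      exact Submodule.add_mem_sup hφy hyQ
  have hXinj : GrLC.IsStarInj 𝒜 (subFam ℐ X') := isStarInj_of_isCompl 𝒜 ℐ hI hX' hQ hc
  have hmX : m ∈ X' := hNX (Submodule.mem_span_singleton_self m)
  have hqm : ∀ s : R, s ∈ q.toIdeal ↔ s • m = 0 := by
    intro s
    rw [← hann]
    exact Submodule.mem_annihilator_span_singleton m s
  let f₀ : R →ₗ[R] X' := LinearMap.toSpanSingleton R X' ⟨m, hmX⟩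
  have hle : q.toIdeal ≤ LinearMap.ker f₀ := fun s hs => by
    rw [LinearMap.mem_ker, LinearMap.toSpanSingleton_apply]
    exact Subtype.ext ((hqm s).mp hs)
  let f : (R ⧸ q.toIdeal) →ₗ[R] X' := Submodule.liftQ q.toIdeal f₀ hle
  have hf : ∀ s : R, ((f (Ideal.Quotient.mk q.toIdeal s) : X') : I) = s • m := fun s => rfl
  have hfinj : Function.Injective f := by
    rw [injective_iff_map_eq_zero]
    intro x hx
    obtain ⟨s, rfl⟩ := Ideal.Quotient.mk_surjective x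
    have h7 : s • m = 0 := by rw [← hf s, hx]; rfl
    exact Ideal.Quotient.eq_zero_iff_mem.mpr ((hqm s).mpr h7)
  have hfgr : GrLC.IsGrHom (fun j : ι => GrLC.quotGr 𝒜 q (j - g₀)) (subFam ℐ X') f := by
    intro j x hx
    obtain ⟨s, hs, rfl⟩ := hx
    show ((f (Ideal.Quotient.mk q.toIdeal s) : X') : I) ∈ ℐ j
    rw [hf s]
    have h8 := smul_mem' 𝒜 ℐ hs hm
    rwa [sub_add_cancel] at h8
  have hfess : ∀ P : Submodule R ↥X', P.IsHomogeneous (subFam ℐ X') → P ≠ ⊥ →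
      P ⊓ LinearMap.range f ≠ ⊥ := by
    intro P hPhom hP0
    have hsubgr : GrLC.IsGrHom (subFam ℐ X') ℐ X'.subtype := fun j x hx => hx
    have hmaphom := map_isHomogeneous hsubgr hPhom
    have hmap0 : P.map X'.subtype ≠ ⊥ := by
      obtain ⟨x, hx, hx0⟩ := (Submodule.ne_bot_iff _).mp hP0
      intro hbot
      have h10 : (x : I) ∈ P.map X'.subtype := ⟨x, hx, rfl⟩
      rw [hbot, Submodule.mem_bot] at h10
      exact hx0 (Subtype.ext h10)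
    have hmaple : P.map X'.subtype ≤ X' := by
      rintro _ ⟨x, -, rfl⟩
      exact x.2
    obtain ⟨y, hy, hy0⟩ := (Submodule.ne_bot_iff _).mp (hess _ hmaple hmaphom hmap0)
    obtain ⟨⟨x, hxP, rfl⟩, hyN⟩ := hy
    obtain ⟨s, hs⟩ := Submodule.mem_span_singleton.mp hyN
    rw [Ne, Submodule.eq_bot_iff]
    intro hbot
    have hxf : x = f (Ideal.Quotient.mk q.toIdeal s) := Subtype.ext (by rw [hf s]; exact hs.symm)
    have h9 := hbot x ⟨hxP, ⟨_, hxf.symm⟩⟩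
    exact hy0 (by rw [h9]; rfl)
  have hc' : IsCompl (LinearMap.range X'.subtype) Q := by
    rw [Submodule.range_subtype]
    exact hc
  refine ⟨subGMod 𝒜 ℐ X' hX', f, X'.subtype, Q, ⟨⟨hfinj, hfgr, hfess⟩, hXinj⟩,
    Subtype.val_injective, fun j x hx => hx, ?_, hQ, hc'⟩
  show ((f (Ideal.Quotient.mk q.toIdeal 1) : X') : I) = m
  rw [hf 1, one_smul]

end Intrinsic

end Groth.Agent.Helper6.GrHull
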