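import Mathlib
import Groth.Prelude.Def_GrLC
import Groth.Prelude.Def_Wider
import Groth.Agent.Helper6.GrMod
import Groth.Agent.Helper6.GrCon
import Groth.Agent.Helper6.GrInj
import Groth.Agent.Helper6.GrH
import Groth.Agent.Helper6.GrHull

namespace Groth.Agent.Helper6.GrCoind

open DirectSum Groth.Agent.Helper6.GrMod Groth.Agent.Helper6.GrCon Groth.Agent.Helper6.GrInj
  Groth.Agent.Helper6.GrH Groth.Agent.Helper6.GrHull

universe u

section Def

variable {ι : Type} [AddCommGroup ι] [DecidableEq ι] {R : Type u} [CommRing R]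
  (𝒜 : ι → AddSubgroup R) [GradedRing 𝒜] (N : Type u) [AddCommGroup N] [Module R N]

/-- carrier of the coinduced graded module `⨁_g N t^g` -/
@[nolint unusedArguments]
def Coind (_𝒜 : ι → AddSubgroup R) (N : Type u) [AddCommGroup N] : Type u := ι →₀ N

noncomputable instance : AddCommGroup (Coind 𝒜 N) := inferInstanceAs (AddCommGroup (ι →₀ N))

/-- action of a homogeneous element of degree `d` -/
noncomputable def actHom (d : ι) : 𝒜 d →+ ((ι →₀ N) →+ (ι →₀ N)) where
  toFun r := (Finsupp.mapDomain.addMonoidHom (d + ·)).comp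
    (DistribSMul.toAddMonoidHom (ι →₀ N) (r : R))
  map_zero' := by
    apply AddMonoidHom.ext
    intro φ
    simp
  map_add' r s := by
    apply AddMonoidHom.ext
    intro φ
    simp [add_smul, Finsupp.mapDomain_add]

theorem actHom_apply (d : ι) (r : 𝒜 d) (φ : ι →₀ N) :
    actHom 𝒜 N d r φ = Finsupp.mapDomain (d + ·) ((r : R) • φ) := rfl

/-- the action of `R` on the coinduced module -/
noncomputable def act : R →+ ((ι →₀ N) →+ (ι →₀ N)) :=
  (DirectSum.toAddMonoid (fun d => actHom 𝒜 N d)).comp (decomposeAddEquiv 𝒜).toAddMonoidHom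

theorem act_of_mem {d : ι} {r : R} (hr : r ∈ 𝒜 d) (φ : ι →₀ N) :
    act 𝒜 N r φ = Finsupp.mapDomain (d + ·) (r • φ) := by
  unfold act
  rw [AddMonoidHom.comp_apply]
  have : (decomposeAddEquiv 𝒜).toAddMonoidHom r = DirectSum.of (fun i => 𝒜 i) d ⟨r, hr⟩ :=
    decompose_of_mem 𝒜 hr
  rw [this, DirectSum.toAddMonoid_of]
  rfl

theorem act_one (φ : ι →₀ N) : act 𝒜 N 1 φ = φ := by
  rw [act_of_mem 𝒜 N (SetLike.GradedOne.one_mem) φ, one_smul]
  have : ((0 : ι) + ·) = id := by funext x; simp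
  rw [this, Finsupp.mapDomain_id]

theorem act_mul (r s : R) (φ : ι →₀ N) : act 𝒜 N (r * s) φ = act 𝒜 N r (act 𝒜 N s φ) := by
  induction r using Decomposition.inductionOn 𝒜 with
  | zero => simp
  | @homogeneous a r =>
    induction s using Decomposition.inductionOn 𝒜 with
    | zero => simp
    | @homogeneous b s =>
      rw [act_of_mem 𝒜 N (SetLike.GradedMul.mul_mem r.2 s.2), act_of_mem 𝒜 N s.2,
        act_of_mem 𝒜 N r.2, ← Finsupp.mapDomain_smul, ← Finsupp.mapDomain_comp, mul_smul]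
      congr 1
      funext x
      simp [add_assoc]
    | add s s' h h' =>
      rw [mul_add, map_add, map_add, AddMonoidHom.add_apply, AddMonoidHom.add_apply, h, h',
        map_add]
  | add r r' h h' =>
    rw [add_mul, map_add, map_add, AddMonoidHom.add_apply, AddMonoidHom.add_apply, h, h']

noncomputable instance : Module R (Coind 𝒜 N) where
  smul r φ := act 𝒜 N r φ
  one_smul φ := act_one 𝒜 N φ
  mul_smul r s φ := act_mul 𝒜 N r s φ
  smul_zero r := map_zero (act 𝒜 N r)
  smul_add r φ ψ := map_add (act 𝒜 N r) φ ψ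
  add_smul r s φ := by
    show act 𝒜 N (r + s) φ = act 𝒜 N r φ + act 𝒜 N s φ
    rw [map_add]
    rfl
  zero_smul φ := by
    show act 𝒜 N 0 φ = 0
    rw [map_zero]
    rfl

theorem smul_def (r : R) (φ : Coind 𝒜 N) : r • φ = act 𝒜 N r φ := rfl

/-- view a finsupp as an element of the coinduced module -/
def toCoind (φ : ι →₀ N) : Coind 𝒜 N := φ

/-- pieces of the coinduced module -/
noncomputable def coindFam (g : ι) : AddSubgroup (Coind 𝒜 N) :=
  (Finsupp.singleAddHom g : N →+ (ι →₀ N)).range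

omit [AddCommGroup ι] [GradedRing 𝒜] [Module R N] in
theorem mem_coindFam {g : ι} {φ : Coind 𝒜 N} :
    φ ∈ coindFam 𝒜 N g ↔ ∃ n : N, toCoind 𝒜 N (Finsupp.single g n) = φ := Iff.rfl

theorem smul_single {d : ι} {r : R} (hr : r ∈ 𝒜 d) (g : ι) (n : N) :
    r • toCoind 𝒜 N (Finsupp.single g n) = toCoind 𝒜 N (Finsupp.single (d + g) (r • n)) := by
  show act 𝒜 N r (Finsupp.single g n) = Finsupp.single (d + g) (r • n)
  rw [act_of_mem 𝒜 N hr, Finsupp.smul_single, Finsupp.mapDomain_single]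

omit [AddCommGroup ι] [GradedRing 𝒜] [Module R N] in
theorem isInternal_coindFam : DirectSum.IsInternal (coindFam 𝒜 N) := by
  classical
  apply isInternal_of_proj (coindFam 𝒜 N)
    (fun g (φ : Coind 𝒜 N) => toCoind 𝒜 N (Finsupp.single g ((show ι →₀ N from φ) g)))
  · intro g φ
    exact ⟨_, rfl⟩
  · rintro g φ ⟨n, rfl⟩
    show Finsupp.single g ((Finsupp.single g n : ι →₀ N) g) = Finsupp.single g n
    rw [Finsupp.single_eq_same]
  · rintro i j φ ⟨n, rfl⟩ hij
    show Finsupp.single j ((Finsupp.single i n : ι →₀ N) j) = 0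
    rw [Finsupp.single_eq_of_ne (Ne.symm hij), Finsupp.single_zero]
  · intro j φ ψ
    show Finsupp.single j (((show ι →₀ N from φ) + (show ι →₀ N from ψ)) j) = _
    rw [Finsupp.add_apply, Finsupp.single_add]
    rfl
  · intro φ
    refine ⟨(show ι →₀ N from φ).support, ?_⟩
    exact Finsupp.sum_single (show ι →₀ N from φ)

theorem gradedSMul_coindFam : SetLike.GradedSMul 𝒜 (coindFam 𝒜 N) where
  smul_mem := by
    rintro d g r φ hr ⟨n, rfl⟩
    exact ⟨r • n, (smul_single 𝒜 N hr g n).symm⟩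

/-- the coinduced graded module, bundled -/
noncomputable def coindGMod : GrLC.GMod.{u} 𝒜 :=
  letI := (isInternal_coindFam 𝒜 N).chooseDecomposition
  letI := gradedSMul_coindFam 𝒜 N
  { carrier := Coind 𝒜 N, gr := coindFam 𝒜 N }

/-- sum of coefficients, additive -/
noncomputable def sigmaAdd : (ι →₀ N) →+ N := Finsupp.liftAddHom (fun _ => AddMonoidHom.id N)

omit [AddCommGroup ι] [DecidableEq ι] [Module R N] in
theorem sigmaAdd_single (g : ι) (n : N) : sigmaAdd N (Finsupp.single g n) = n := by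
  unfold sigmaAdd
  simp

omit [AddCommGroup ι] [DecidableEq ι] [Module R N] in
theorem sigmaAdd_mapDomain (f : ι → ι) (φ : ι →₀ N) :
    sigmaAdd N (Finsupp.mapDomain f φ) = sigmaAdd N φ := by
  induction φ using Finsupp.induction_linear with
  | zero => simp
  | add φ ψ h h' => rw [Finsupp.mapDomain_add, map_add, map_add, h, h']
  | single g n => rw [Finsupp.mapDomain_single, sigmaAdd_single, sigmaAdd_single]

omit [AddCommGroup ι] [DecidableEq ι] in
theorem sigmaAdd_smul (r : R) (φ : ι →₀ N) : sigmaAdd N (r • φ) = r • sigmaAdd N φ := by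
  induction φ using Finsupp.induction_linear with
  | zero => simp
  | add φ ψ h h' => rw [smul_add, map_add, map_add, h, h', smul_add]
  | single g n => rw [Finsupp.smul_single, sigmaAdd_single, sigmaAdd_single]

theorem sigmaAdd_act (r : R) (φ : ι →₀ N) :
    sigmaAdd N (act 𝒜 N r φ) = r • sigmaAdd N φ := by
  induction r using Decomposition.inductionOn 𝒜 with
  | zero => rw [map_zero, AddMonoidHom.zero_apply, map_zero, zero_smul]
  | @homogeneous d r => rw [act_of_mem 𝒜 N r.2, sigmaAdd_mapDomain, sigmaAdd_smul]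
  | add r r' h h' => rw [map_add, AddMonoidHom.add_apply, map_add, h, h', add_smul]

/-- sum of coefficients as an `R`-linear map out of the coinduced module -/
noncomputable def sigma : Coind 𝒜 N →ₗ[R] N where
  toFun φ := sigmaAdd N φ
  map_add' φ ψ := map_add (sigmaAdd N) φ ψ
  map_smul' r φ := sigmaAdd_act 𝒜 N r φ

theorem sigma_single (g : ι) (n : N) : sigma 𝒜 N (toCoind 𝒜 N (Finsupp.single g n)) = n :=
  sigmaAdd_single N g n

end Def

section Lift

variable {ι : Type} [AddCommGroup ι] [DecidableEq ι] {R : Type u} [CommRing R]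
  (𝒜 : ι → AddSubgroup R) [GradedRing 𝒜] {N : Type u} [AddCommGroup N] [Module R N]
  {B : Type u} [AddCommGroup B] [Module R B] (ℬ : ι → AddSubgroup B) [Decomposition ℬ]
  [SetLike.GradedSMul 𝒜 ℬ]

/-- additive version of the lift -/
noncomputable def liftAdd (ψ : B →ₗ[R] N) : B →+ (ι →₀ N) :=
  (DirectSum.toAddMonoid (fun g =>
    (Finsupp.singleAddHom g).comp (ψ.toAddMonoidHom.comp (ℬ g).subtype))).comp
    (decomposeAddEquiv ℬ).toAddMonoidHom

omit [AddCommGroup ι] [GradedRing 𝒜] [SetLike.GradedSMul 𝒜 ℬ] in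
theorem liftAdd_of_mem (ψ : B →ₗ[R] N) {g : ι} {b : B} (hb : b ∈ ℬ g) :
    liftAdd ℬ ψ b = Finsupp.single g (ψ b) := by
  unfold liftAdd
  rw [AddMonoidHom.comp_apply]
  have : (decomposeAddEquiv ℬ).toAddMonoidHom b = DirectSum.of (fun i => ℬ i) g ⟨b, hb⟩ :=
    decompose_of_mem ℬ hb
  rw [this, DirectSum.toAddMonoid_of]
  rfl

theorem liftAdd_smul (ψ : B →ₗ[R] N) (r : R) (b : B) :
    liftAdd ℬ ψ (r • b) = act 𝒜 N r (liftAdd ℬ ψ b) := by
  induction r using Decomposition.inductionOn 𝒜 with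
  | zero => rw [zero_smul, map_zero, map_zero, AddMonoidHom.zero_apply]
  | @homogeneous d r =>
    induction b using Decomposition.inductionOn ℬ with
    | zero => rw [smul_zero, map_zero, map_zero]
    | @homogeneous g b =>
      rw [liftAdd_of_mem ℬ ψ (smul_mem' 𝒜 ℬ r.2 b.2), liftAdd_of_mem ℬ ψ b.2,
        act_of_mem 𝒜 N r.2, Finsupp.smul_single, Finsupp.mapDomain_single, map_smul]
    | add b b' h h' => rw [smul_add, map_add, map_add, map_add, h, h']
  | add r r' h h' =>
    rw [add_smul, map_add, h, h', map_add, AddMonoidHom.add_apply]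

/-- the graded lift `B → Coind N` of an `R`-linear map `B → N` -/
noncomputable def lift (ψ : B →ₗ[R] N) : B →ₗ[R] Coind 𝒜 N where
  toFun b := toCoind 𝒜 N (liftAdd ℬ ψ b)
  map_add' b b' := map_add (liftAdd ℬ ψ) b b'
  map_smul' r b := liftAdd_smul 𝒜 ℬ ψ r b

theorem lift_of_mem (ψ : B →ₗ[R] N) {g : ι} {b : B} (hb : b ∈ ℬ g) :
    lift 𝒜 ℬ ψ b = toCoind 𝒜 N (Finsupp.single g (ψ b)) :=
  liftAdd_of_mem ℬ ψ hb

theorem lift_isGrHom (ψ : B →ₗ[R] N) : GrLC.IsGrHom ℬ (coindFam 𝒜 N) (lift 𝒜 ℬ ψ) :=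
  fun g b hb => ⟨ψ b, (lift_of_mem 𝒜 ℬ ψ hb).symm⟩

theorem sigma_lift (ψ : B →ₗ[R] N) (b : B) : sigma 𝒜 N (lift 𝒜 ℬ ψ b) = ψ b := by
  induction b using Decomposition.inductionOn ℬ with
  | zero => rw [map_zero, map_zero, map_zero]
  | @homogeneous g b => rw [lift_of_mem 𝒜 ℬ ψ b.2, sigma_single]
  | add b b' h h' => rw [map_add, map_add, h, h', map_add]

omit [AddCommGroup ι] [GradedRing 𝒜] [SetLike.GradedSMul 𝒜 ℬ] in
theorem liftAdd_apply (ψ : B →ₗ[R] N) (b : B) (g : ι) :
    liftAdd ℬ ψ b g = ψ (decompose ℬ b g : B) := by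
  induction b using Decomposition.inductionOn ℬ with
  | zero =>
    rw [map_zero, Finsupp.zero_apply, decompose_zero, DirectSum.zero_apply, ZeroMemClass.coe_zero,
      map_zero]
  | @homogeneous j b =>
    rw [liftAdd_of_mem ℬ ψ b.2]
    by_cases hjg : j = g
    · subst hjg
      rw [Finsupp.single_eq_same, decompose_of_mem_same ℬ b.2]
    · rw [Finsupp.single_eq_of_ne (Ne.symm hjg), decompose_of_mem_ne ℬ b.2 hjg, map_zero]
  | add b b' h h' =>
    rw [map_add, Finsupp.add_apply, decompose_add, DirectSum.add_apply, AddSubgroup.coe_add,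
      map_add, h, h']

theorem lift_injective {ψ : B →ₗ[R] N} (hψ : Function.Injective ψ) :
    Function.Injective (lift 𝒜 ℬ ψ) := by
  rw [injective_iff_map_eq_zero]
  intro b hb
  have hb' : liftAdd ℬ ψ b = 0 := hb
  apply eq_zero_of_components ℬ
  intro g
  apply hψ
  rw [← liftAdd_apply ℬ ψ b g, hb', map_zero, Finsupp.zero_apply]

end Lift

section StarInj

variable {ι : Type} [AddCommGroup ι] [DecidableEq ι] {R : Type u} [CommRing R]
  (𝒜 : ι → AddSubgroup R) [GradedRing 𝒜] (N : Type u) [AddCommGroup N] [Module R N]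
  [Module.Injective R N]

theorem isStarInj_coind [Decomposition (coindFam 𝒜 N)] [SetLike.GradedSMul 𝒜 (coindFam 𝒜 N)] :
    GrLC.IsStarInj 𝒜 (coindFam 𝒜 N) := by
  intro A B f hf hfinj g hg
  obtain ⟨ψ', hψ'⟩ := Module.Injective.extension_property R N A.carrier B.carrier f hfinj
    (sigma 𝒜 N ∘ₗ g)
  refine ⟨lift 𝒜 B.gr ψ', lift_isGrHom 𝒜 B.gr ψ', ?_⟩
  apply LinearMap.ext
  intro a
  induction a using Decomposition.inductionOn A.gr with
  | zero => rw [map_zero, map_zero]
  | @homogeneous j a =>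
    have hfa : f a ∈ B.gr j := hf j a a.2
    obtain ⟨n, hn⟩ := (mem_coindFam 𝒜 N).mp (hg j a a.2)
    show lift 𝒜 B.gr ψ' (f a) = g a
    rw [lift_of_mem 𝒜 B.gr ψ' hfa]
    have h1 : ψ' (f a) = sigma 𝒜 N (g a) := LinearMap.congr_fun hψ' a
    rw [h1, ← hn, sigma_single]
  | add a a' h h' => rw [map_add, map_add, h, h']

end StarInj

end Groth.Agent.Helper6.GrCoind
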