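import Mathlib
import Groth.Prelude.Def_GrLC
import Groth.Prelude.Def_Wider
import Groth.Agent.Helper6.GrMod
import Groth.Agent.Helper6.GrCon
import Groth.Agent.Helper6.GrInj
import Groth.Agent.Helper6.GrH
import Groth.Agent.Helper6.GrHull
import Groth.Agent.Helper6.GrCoind

namespace Groth.Agent.Helper6.GrExist

open DirectSum Groth.Agent.Helper6.GrMod Groth.Agent.Helper6.GrCon Groth.Agent.Helper6.GrInj
  Groth.Agent.Helper6.GrH Groth.Agent.Helper6.GrHull Groth.Agent.Helper6.GrCoind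

universe u

section Hull

variable {ι : Type} [AddCommGroup ι] [DecidableEq ι] {R : Type u} [CommRing R]
  (𝒜 : ι → AddSubgroup R) [GradedRing 𝒜]
  {I : Type u} [AddCommGroup I] [Module R I] (ℐ : ι → AddSubgroup I) [Decomposition ℐ]
  [SetLike.GradedSMul 𝒜 ℐ]

/-- inside a *injective graded module, every homogeneous submodule has a maximal *essential
extension, and it is a direct summand with homogeneous complement. -/
theorem exists_hull_summand (hI : GrLC.IsStarInj 𝒜 ℐ) {N₀ : Submodule R I}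
    (hN₀ : N₀.IsHomogeneous ℐ) :
    ∃ X' Q : Submodule R I, N₀ ≤ X' ∧ X'.IsHomogeneous ℐ ∧ EssIn ℐ N₀ X' ∧
      Q.IsHomogeneous ℐ ∧ IsCompl X' Q := by
  obtain ⟨X', hNX, hX', hess, hXmax⟩ := exists_maximal_essIn 𝒜 ℐ hN₀
  obtain ⟨Q, hQ, hQX, hQmax⟩ := exists_maximal_disjoint ℐ X'
  letI decX : Decomposition (subFam ℐ X') := (isInternal_subFam ℐ X' hX').chooseDecomposition
  letI smX : SetLike.GradedSMul 𝒜 (subFam ℐ X') := gradedSMul_subFam 𝒜 ℐ X'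
  letI decJ : Decomposition (quotFam ℐ Q) := (isInternal_quotFam ℐ Q hQ).chooseDecomposition
  letI smJ : SetLike.GradedSMul 𝒜 (quotFam ℐ Q) := gradedSMul_quotFam 𝒜 ℐ Q
  have hπ : GrLC.IsStarEss (subFam ℐ X') (quotFam ℐ Q) (Q.mkQ ∘ₗ X'.subtype) :=
    isStarEss_mkQ_subtype ℐ hQX hQmax
  obtain ⟨φ, hφ, hφπ⟩ := IsStarInj.ext_unbundled 𝒜 (subFam ℐ X') (quotFam ℐ Q) ℐ hI
    (Q.mkQ ∘ₗ X'.subtype) hπ.grHom hπ.injective X'.subtype (fun j x hx => hx)
  have hφπ' : ∀ x : X', φ (Q.mkQ (x : I)) = x := fun x => LinearMap.congr_fun hφπ x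
  have hφinj : Function.Injective φ :=
    injective_of_comp_injective (subFam ℐ X') (quotFam ℐ Q) ℐ hπ hφ
      (by rw [hφπ]; exact Subtype.val_injective)
  have hY : (LinearMap.range φ).IsHomogeneous ℐ := range_isHomogeneous hφ
  have hXY : X' ≤ LinearMap.range φ := fun x hx => ⟨Q.mkQ x, hφπ' ⟨x, hx⟩⟩
  have hYess : EssIn ℐ N₀ (LinearMap.range φ) := by
    intro P hPY hPhom hP0
    have hP'hom := comap_isHomogeneous hφ hPhom
    have hP'0 : P.comap φ ≠ ⊥ := by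
      obtain ⟨y, hy, hy0⟩ := (Submodule.ne_bot_iff _).mp hP0
      obtain ⟨t, rfl⟩ := hPY hy
      intro hbot
      have ht : t ∈ P.comap φ := hy
      rw [hbot, Submodule.mem_bot] at ht
      exact hy0 (by rw [ht, map_zero])
    obtain ⟨z, hz, hz0⟩ := (Submodule.ne_bot_iff _).mp (hπ.essential _ hP'hom hP'0)
    obtain ⟨hz1, ⟨x, rfl⟩⟩ := hz
    have hxP : (x : I) ∈ P := by
      have h3 : φ ((Q.mkQ ∘ₗ X'.subtype) x) ∈ P := hz1
      rwa [show φ ((Q.mkQ ∘ₗ X'.subtype) x) = x from hφπ' x] at h3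
    have hx0 : (x : I) ≠ 0 := fun h => hz0 (by rw [show x = 0 from Subtype.ext h, map_zero])
    have hPX : P ⊓ X' ≠ ⊥ := fun h => hx0 (by
      have h4 : (x : I) ∈ P ⊓ X' := ⟨hxP, x.2⟩
      rwa [h, Submodule.mem_bot] at h4)
    have h2 := hess (P ⊓ X') inf_le_right (inf_isHomogeneous hPhom hX') hPX
    intro hbot
    apply h2
    rw [eq_bot_iff, ← hbot]
    exact inf_le_inf_right _ inf_le_left
  have hYX : LinearMap.range φ ≤ X' := hXmax _ hY hXY hYess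
  have hc : IsCompl X' Q := by
    constructor
    · rw [disjoint_iff, inf_comm]
      exact hQX
    · rw [codisjoint_iff, eq_top_iff]
      intro y _
      have hφy : φ (Q.mkQ y) ∈ X' := hYX ⟨_, rfl⟩
      have h5 : Q.mkQ y = Q.mkQ (φ (Q.mkQ y)) := hφinj (by rw [hφπ' ⟨_, hφy⟩])
      have hyQ : y - φ (Q.mkQ y) ∈ Q := (Submodule.Quotient.eq Q).mp h5
      have h6 : y = φ (Q.mkQ y) + (y - φ (Q.mkQ y)) := by abel
      rw [h6]
      exact Submodule.add_mem_sup hφy hyQ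
  exact ⟨X', Q, hNX, hX', hess, hQ, hc⟩

variable {M : Type u} [AddCommGroup M] [Module R M] (ℳ : ι → AddSubgroup M) [Decomposition ℳ]
  [SetLike.GradedSMul 𝒜 ℳ]

/-- a graded submodule of a *injective module has a *injective hull inside it. -/
theorem exists_starInjHull_in (hI : GrLC.IsStarInj 𝒜 ℐ) (ε : M →ₗ[R] I)
    (hε : GrLC.IsGrHom ℳ ℐ ε) (hεinj : Function.Injective ε) :
    ∃ (E : GrLC.GMod.{u} 𝒜) (f : M →ₗ[R] E.carrier) (ψ : E.carrier →ₗ[R] I),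
      GrLC.IsStarInjHull 𝒜 ℳ E.gr f ∧ Function.Injective ψ ∧ GrLC.IsGrHom E.gr ℐ ψ ∧
        ψ ∘ₗ f = ε := by
  have hN₀ : (LinearMap.range ε).IsHomogeneous ℐ := range_isHomogeneous hε
  obtain ⟨X', Q, hNX, hX', hess, hQ, hc⟩ := exists_hull_summand 𝒜 ℐ hI hN₀
  letI decX : Decomposition (subFam ℐ X') := (isInternal_subFam ℐ X' hX').chooseDecomposition
  letI smX : SetLike.GradedSMul 𝒜 (subFam ℐ X') := gradedSMul_subFam 𝒜 ℐ X'
  have hXinj : GrLC.IsStarInj 𝒜 (subFam ℐ X') := isStarInj_of_isCompl 𝒜 ℐ hI hX' hQ hc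
  let f : M →ₗ[R] X' := ε.codRestrict X' (fun m => hNX ⟨m, rfl⟩)
  have hf : ∀ m, ((f m : X') : I) = ε m := fun m => rfl
  have hfinj : Function.Injective f := fun a b hab => hεinj (by rw [← hf a, ← hf b, hab])
  have hfgr : GrLC.IsGrHom ℳ (subFam ℐ X') f := fun j m hm => hε j m hm
  have hfess : ∀ P : Submodule R ↥X', P.IsHomogeneous (subFam ℐ X') → P ≠ ⊥ →
      P ⊓ LinearMap.range f ≠ ⊥ := by
    intro P hPhom hP0
    have hsubgr : GrLC.IsGrHom (subFam ℐ X') ℐ X'.subtype := fun j x hx => hx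
    have hmaphom := map_isHomogeneous hsubgr hPhom
    have hmap0 : P.map X'.subtype ≠ ⊥ := by
      obtain ⟨x, hx, hx0⟩ := (Submodule.ne_bot_iff _).mp hP0
      intro hbot
      have h10 : (x : I) ∈ P.map X'.subtype := ⟨x, hx, rfl⟩
      rw [hbot, Submodule.mem_bot] at h10
      exact hx0 (Subtype.ext h10)
    have hmaple : P.map X'.subtype ≤ X' := by
      rintro _ ⟨x, -, rfl⟩
      exact x.2
    obtain ⟨y, hy, hy0⟩ := (Submodule.ne_bot_iff _).mp (hess _ hmaple hmaphom hmap0)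
    obtain ⟨⟨x, hxP, rfl⟩, ⟨m, hm⟩⟩ := hy
    rw [Ne, Submodule.eq_bot_iff]
    intro hbot
    have hxf : x = f m := Subtype.ext (by rw [hf m]; exact hm.symm)
    have h9 := hbot x ⟨hxP, ⟨_, hxf.symm⟩⟩
    exact hy0 (by rw [h9]; rfl)
  exact ⟨subGMod 𝒜 ℐ X' hX', f, X'.subtype, ⟨⟨hfinj, hfgr, hfess⟩, hXinj⟩,
    Subtype.val_injective, fun j x hx => hx, rfl⟩

end Hull

section InInjective

variable {ι : Type} [AddCommGroup ι] [DecidableEq ι] {R : Type u} [CommRing R]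
  (𝒜 : ι → AddSubgroup R) [GradedRing 𝒜]
  {M : Type u} [AddCommGroup M] [Module R M] (ℳ : ι → AddSubgroup M) [Decomposition ℳ]
  [SetLike.GradedSMul 𝒜 ℳ]
  (I : Type u) [AddCommGroup I] [Module R I] [Module.Injective R I]

/-- S13213 -/
theorem exists_isStarInjHull_sub_injective (e : M →ₗ[R] I) (he : Function.Injective e) :
    ∃ (E : GrLC.GMod.{u} 𝒜) (f : M →ₗ[R] E.carrier), GrLC.IsStarInjHull 𝒜 ℳ E.gr f ∧
      ∃ j : E.carrier →ₗ[R] I, Function.Injective j ∧ j ∘ₗ f = e := by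
  letI decJ : Decomposition (coindFam 𝒜 I) := (isInternal_coindFam 𝒜 I).chooseDecomposition
  letI smJ : SetLike.GradedSMul 𝒜 (coindFam 𝒜 I) := gradedSMul_coindFam 𝒜 I
  have hJ : GrLC.IsStarInj 𝒜 (coindFam 𝒜 I) := isStarInj_coind 𝒜 I
  obtain ⟨E, f, ψ, hhull, hψinj, hψgr, hψf⟩ := exists_starInjHull_in 𝒜 (coindFam 𝒜 I) ℳ hJ
    (lift 𝒜 ℳ e) (lift_isGrHom 𝒜 ℳ e) (lift_injective 𝒜 ℳ he)
  have hcomp : ∀ m, sigma 𝒜 I (ψ (f m)) = e m := fun m => by
    have h1 : ψ (f m) = lift 𝒜 ℳ e m := LinearMap.congr_fun hψf m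
    rw [h1, sigma_lift]
  refine ⟨E, f, hhull, sigma 𝒜 I ∘ₗ ψ, ?_, ?_⟩
  · have hess := isEssentialInj_of_isStarEss 𝒜 ℳ E.gr hhull.toIsStarEss
    rw [← LinearMap.ker_eq_bot]
    by_contra hne
    obtain ⟨y, hy, hy0⟩ := (Submodule.ne_bot_iff _).mp (hess.essential _ hne)
    obtain ⟨hyk, ⟨m, rfl⟩⟩ := hy
    have h2 : e m = 0 := by
      rw [← hcomp m]
      exact hyk
    have hm : m = 0 := he (by rw [h2, map_zero])
    exact hy0 (by rw [hm, map_zero])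
  · apply LinearMap.ext
    intro m
    exact hcomp m

end InInjective

section Res

open CategoryTheory in
theorem exists_injective_module {R : Type u} [CommRing R] (M : Type u) [AddCommGroup M]
    [Module R M] :
    ∃ (N : Type u) (_ : AddCommGroup N) (_ : Module R N) (_ : Module.Injective R N)
      (e : M →ₗ[R] N), Function.Injective e := by
  let X : ModuleCat.{u} R := ModuleCat.of R M
  let Y : ModuleCat.{u} R := Injective.under X
  have hY : CategoryTheory.Injective Y := inferInstance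
  have hY' : CategoryTheory.Injective (ModuleCat.of R Y) := hY
  refine ⟨Y, inferInstance, inferInstance,
    @Module.injective_module_of_injective_object R Y _ _ _ hY', (Injective.ι X).hom, ?_⟩
  exact (ModuleCat.mono_iff_injective _).mp inferInstance

variable {ι : Type} [AddCommGroup ι] [DecidableEq ι] {R : Type u} [CommRing R]
  (𝒜 : ι → AddSubgroup R) [GradedRing 𝒜]

/-- a graded embedding into a *injective graded module -/
structure Emb (C : GrLC.GMod.{u} 𝒜) : Type (u + 1) where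
  /-- target -/
  J : GrLC.GMod.{u} 𝒜
  /-- embedding -/
  ε : C.carrier →ₗ[R] J.carrier
  gr : GrLC.IsGrHom C.gr J.gr ε
  inj : Function.Injective ε
  starInj : GrLC.IsStarInj 𝒜 J.gr

theorem nonempty_emb (C : GrLC.GMod.{u} 𝒜) : Nonempty (Emb 𝒜 C) := by
  obtain ⟨N, _, _, _, e, he⟩ := exists_injective_module (R := R) C.carrier
  letI := (isInternal_coindFam 𝒜 N).chooseDecomposition
  letI := gradedSMul_coindFam 𝒜 N
  exact ⟨⟨coindGMod 𝒜 N, lift 𝒜 C.gr e, lift_isGrHom 𝒜 C.gr e, lift_injective 𝒜 C.gr he,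
    isStarInj_coind 𝒜 N⟩⟩

/-- chosen embedding -/
noncomputable def emb (C : GrLC.GMod.{u} 𝒜) : Emb 𝒜 C := Classical.choice (nonempty_emb 𝒜 C)

theorem range_hom (C : GrLC.GMod.{u} 𝒜) :
    (LinearMap.range (emb 𝒜 C).ε).IsHomogeneous (emb 𝒜 C).J.gr :=
  range_isHomogeneous (emb 𝒜 C).gr

/-- the cokernel of the chosen embedding -/
noncomputable def next (C : GrLC.GMod.{u} 𝒜) : GrLC.GMod.{u} 𝒜 :=
  quotGMod 𝒜 (emb 𝒜 C).J.gr (LinearMap.range (emb 𝒜 C).ε) (range_hom 𝒜 C)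

/-- the sequence of cosyzygies -/
noncomputable def Cseq (C₀ : GrLC.GMod.{u} 𝒜) : ℕ → GrLC.GMod.{u} 𝒜 :=
  fun n => Nat.rec C₀ (fun _ C => next 𝒜 C) n

/-- the projection onto the cokernel -/
noncomputable def proj (C : GrLC.GMod.{u} 𝒜) :
    (emb 𝒜 C).J.carrier →ₗ[R] (next 𝒜 C).carrier :=
  (LinearMap.range (emb 𝒜 C).ε).mkQ

theorem proj_surjective (C : GrLC.GMod.{u} 𝒜) : Function.Surjective (proj 𝒜 C) :=
  (LinearMap.range (emb 𝒜 C).ε).mkQ_surjective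

theorem ker_proj (C : GrLC.GMod.{u} 𝒜) : LinearMap.ker (proj 𝒜 C) = LinearMap.range (emb 𝒜 C).ε :=
  Submodule.ker_mkQ _

theorem proj_grHom (C : GrLC.GMod.{u} 𝒜) :
    GrLC.IsGrHom (emb 𝒜 C).J.gr (next 𝒜 C).gr (proj 𝒜 C) :=
  fun _ _ hx => mkQ_mem_quotFam _ _ hx

/-- the differential -/
noncomputable def dd (C : GrLC.GMod.{u} 𝒜) :
    (emb 𝒜 C).J.carrier →ₗ[R] (emb 𝒜 (next 𝒜 C)).J.carrier :=
  (emb 𝒜 (next 𝒜 C)).ε ∘ₗ proj 𝒜 C

theorem ker_dd (C : GrLC.GMod.{u} 𝒜) : LinearMap.ker (dd 𝒜 C) = LinearMap.range (emb 𝒜 C).ε := by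
  unfold dd
  rw [LinearMap.ker_comp_of_ker_eq_bot _ (LinearMap.ker_eq_bot.mpr (emb 𝒜 (next 𝒜 C)).inj),
    ker_proj]

theorem range_dd (C : GrLC.GMod.{u} 𝒜) :
    LinearMap.range (dd 𝒜 C) = LinearMap.range (emb 𝒜 (next 𝒜 C)).ε := by
  unfold dd
  rw [LinearMap.range_comp_of_range_eq_top _ (LinearMap.range_eq_top.mpr (proj_surjective 𝒜 C))]

theorem dd_grHom (C : GrLC.GMod.{u} 𝒜) :
    GrLC.IsGrHom (emb 𝒜 C).J.gr (emb 𝒜 (next 𝒜 C)).J.gr (dd 𝒜 C) :=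
  fun j x hx => (emb 𝒜 (next 𝒜 C)).gr j _ (proj_grHom 𝒜 C j x hx)

/-- S13215 -/
theorem nonempty_starInjRes {M : Type u} [AddCommGroup M] [Module R M] (ℳ : ι → AddSubgroup M)
    [Decomposition ℳ] [SetLike.GradedSMul 𝒜 ℳ] : Nonempty (GrLC.StarInjRes 𝒜 ℳ) := by
  let C₀ : GrLC.GMod.{u} 𝒜 := GrLC.GMod.of 𝒜 M ℳ
  exact ⟨{
    X := fun n => (emb 𝒜 (Cseq 𝒜 C₀ n)).J
    d := fun n => dd 𝒜 (Cseq 𝒜 C₀ n)
    ε := (emb 𝒜 C₀).ε
    d_grHom := fun n => dd_grHom 𝒜 (Cseq 𝒜 C₀ n)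
    ε_grHom := (emb 𝒜 C₀).gr
    ε_injective := (emb 𝒜 C₀).inj
    exact_zero := ker_dd 𝒜 C₀
    exact_succ := fun n =>
      (ker_dd 𝒜 (Cseq 𝒜 C₀ (n + 1))).trans (range_dd 𝒜 (Cseq 𝒜 C₀ n)).symm
    starInj := fun n => (emb 𝒜 (Cseq 𝒜 C₀ n)).starInj }⟩

end Res

end Groth.Agent.Helper6.GrExist
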