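import Mathlib

set_option autoImplicit false

/-!
Bridge between Mathlib's two `Ext`s for modules: vanishing of the derived-category `Abelian.Ext`
implies vanishing of the old functor `Ext R (ModuleCat R) n` (defined by left-deriving `linearYoneda`).
-/

namespace Groth.Agent.Helper6.ExtBridge

open CategoryTheory Limits Opposite

universe u

variable {R : Type u} [CommRing R]

theorem isZero_oldExt (X Y : ModuleCat.{u} R) (n : ℕ)
    (h : Subsingleton (Abelian.Ext.{u} X Y (n + 1))) :
    IsZero (((Ext R (ModuleCat.{u} R) (n + 1)).obj (op X)).obj Y) := by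
  let P : ProjectiveResolution X := projectiveResolution X
  refine IsZero.of_iso ?_ (P.isoExt (R := R) (n + 1) Y)
  rw [← HomologicalComplex.exactAt_iff_isZero_homology,
    HomologicalComplex.exactAt_iff' _ n (n + 1) (n + 2) (by simp) (by simp),
    ShortComplex.moduleCat_exact_iff]
  intro x₂ hx₂
  -- x₂ is a morphism P_{n+1} ⟶ Y
  let f : P.complex.X (n + 1) ⟶ Y := x₂
  have hf : P.complex.d (n + 2) (n + 1) ≫ f = 0 := by
    have := hx₂
    simp only [HomologicalComplex.sc', HomologicalComplex.shortComplexFunctor',
      ChainComplex.linearYonedaObj_d] at this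
    exact this
  have hz : P.extMk f (n + 2) rfl hf = 0 := h.elim _ _
  obtain ⟨g, hg⟩ := (P.extMk_eq_zero_iff f (n + 2) rfl hf n rfl).mp hz
  refine ⟨g, ?_⟩
  simp only [HomologicalComplex.sc', HomologicalComplex.shortComplexFunctor',
    ChainComplex.linearYonedaObj_d]
  exact hg

theorem isZero_colimit_of_isZero {J : Type*} [Category J] {C : Type*} [Category C]
    [HasZeroMorphisms C] (G : J ⥤ C) [HasColimit G] (h : ∀ j, IsZero (G.obj j)) :
    IsZero (colimit G) := by
  rw [IsZero.iff_id_eq_zero]
  apply colimit.hom_ext
  intro j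
  exact (h j).eq_of_src _ _

end Groth.Agent.Helper6.ExtBridge
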