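import Mathlib
import Groth.Prelude.Def_GrLC
import Groth.Prelude.Def_Wider
import Groth.Agent.Helper6.GrExt
import Groth.Agent.Helper6.GrCon
import Groth.Agent.Helper6.ExtBridge

set_option autoImplicit false

namespace Groth.Agent.Helper6.GrLCAcyc

open DirectSum CategoryTheory Limits Opposite Groth.Agent.Helper6.GrCon

universe u

variable {ι : Type} [AddCommGroup ι] [DecidableEq ι] {R : Type u} [CommRing R] [IsNoetherianRing R]
  (𝒜 : ι → AddSubgroup R) [GradedRing 𝒜] (a : HomogeneousIdeal 𝒜)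
  {I : Type u} [AddCommGroup I] [Module R I] (ℐ : ι → AddSubgroup I) [Decomposition ℐ]
  [SetLike.GradedSMul 𝒜 ℐ]

omit [IsNoetherianRing R] in
theorem pow_isHomogeneous (t : ℕ) : (a.toIdeal ^ t).IsHomogeneous 𝒜 := by
  induction t with
  | zero => rw [pow_zero, Ideal.one_eq_top]; exact Ideal.IsHomogeneous.top 𝒜
  | succ t ih => rw [pow_succ]; exact ih.mul a.isHomogeneous

theorem ext_quot_subsingleton (hI : GrLC.IsStarInj 𝒜 ℐ) (t n : ℕ) :
    Subsingleton (Abelian.Ext.{u} (ModuleCat.of R (R ⧸ a.toIdeal ^ t)) (ModuleCat.of R I) (n + 1)) := by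
  have hP : ((a.toIdeal ^ t : Ideal R) : Submodule R R).IsHomogeneous 𝒜 := pow_isHomogeneous 𝒜 a t
  let A : GrLC.GMod.{u} 𝒜 := quotGMod 𝒜 𝒜 ((a.toIdeal ^ t : Ideal R) : Submodule R R) hP
  haveI : Module.Finite R A.carrier :=
    (inferInstance : Module.Finite R (R ⧸ ((a.toIdeal ^ t : Ideal R) : Submodule R R)))
  exact Groth.Agent.Helper6.GrExt.ext_subsingleton 𝒜 ℐ hI n A

theorem main (hI : GrLC.IsStarInj 𝒜 ℐ) (i : ℕ) (hi : 1 ≤ i) :
    Subsingleton (LocCoh.H a.toIdeal i I) := by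
  obtain ⟨n, rfl⟩ : ∃ n, i = n + 1 := ⟨i - 1, by omega⟩
  have hz : IsZero ((localCohomology a.toIdeal (n + 1)).obj (ModuleCat.of R I)) := by
    unfold localCohomology localCohomology.ofDiagram
    refine IsZero.of_iso ?_ (colimitObjIsoColimitCompEvaluation _ _)
    apply Groth.Agent.Helper6.ExtBridge.isZero_colimit_of_isZero
    intro j
    exact Groth.Agent.Helper6.ExtBridge.isZero_oldExt _ _ n
      (ext_quot_subsingleton 𝒜 a ℐ hI (unop (unop j)) n)
  exact ModuleCat.subsingleton_of_isZero hz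

end Groth.Agent.Helper6.GrLCAcyc
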