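import Mathlib
import Groth.Prelude.Def_GrLC
import Groth.Prelude.Def_Wider
import Groth.Agent.Helper1.LocCohZero
import Groth.Agent.Helper1.DeltaCmp

set_option autoImplicit false

/-!
# Local cohomology computed from a `Γ_J`-acyclic resolution
-/

namespace Groth.Agent.Helper6.LCAcycRes

open CategoryTheory Limits
open Groth.Agent.Helper1.DeltaFun Groth.Agent.Helper1.LocCohDelta Groth.Agent.Helper1

universe u

variable {R : Type u} [CommRing R] (J : Ideal R)

section SES

variable {M X Z : Type u} [AddCommGroup M] [Module R M] [AddCommGroup X] [Module R X]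
  [AddCommGroup Z] [Module R Z]
  (f : M →ₗ[R] X) (g : X →ₗ[R] Z) (hf : Function.Injective f) (hg : Function.Surjective g)
  (hex : Function.Exact f g)

/-- the short complex of a short exact sequence of modules -/
noncomputable def sc : ShortComplex (ModuleCat.{u} R) :=
  ShortComplex.mk (ModuleCat.ofHom f) (ModuleCat.ofHom g)
    (ModuleCat.hom_ext (LinearMap.ext fun x => hex.apply_apply_eq_zero x))

include hf hg in
theorem sc_shortExact : (sc f g hex).ShortExact :=
  ModuleCat.shortComplex_shortExact _ hex hf hg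

/-- `Γ_J` on a linear map -/
def gamMap : GrLC.gam J X →ₗ[R] GrLC.gam J Z :=
  g.restrict (fun m hm => by
    obtain ⟨n, hn⟩ := hm
    exact ⟨n, fun a ha => by rw [← map_smul, hn a ha, map_zero]⟩)

theorem gam_eq (N : Type u) [AddCommGroup N] [Module R N] :
    GrLC.gam J N = DRing.torsionSub J N := rfl

/-- `H⁰_J(M) ≃ Γ_J(M)` -/
theorem nonempty_zero (N : Type u) [AddCommGroup N] [Module R N] :
    Nonempty (LocCoh.H J 0 N ≃ₗ[R] GrLC.gam J N) :=
  ⟨((lcZeroIso J).app (ModuleCat.of R N)).toLinearEquiv⟩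

include hf hg hex in
/-- `H¹_J(M) ≃ Γ_J(Z) / im Γ_J(X)` if `H¹_J(X) = 0` -/
theorem nonempty_one (hX : Subsingleton (LocCoh.H J 1 X)) :
    Nonempty (LocCoh.H J 1 M ≃ₗ[R] (GrLC.gam J Z ⧸ LinearMap.range (gamMap J g))) := by
  have hS := sc_shortExact f g hf hg hex
  have h := (lcDelta J).hasLES (sc f g hex) hS
  have hz : IsZero (((lcDelta J).T 1).obj (sc f g hex).X₂) :=
    @ModuleCat.isZero_of_subsingleton _ _ _ hX
  obtain ⟨e1⟩ := DeltaCmp.nonempty_iso_cokernel h hz
  let e2 : cokernel (((lcDelta J).T 0).map (sc f g hex).g) ≅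
      cokernel ((DRing.gammaI J).map (sc f g hex).g) :=
    cokernel.mapIso _ _ ((lcZeroIso J).app _) ((lcZeroIso J).app _)
      ((lcZeroIso J).hom.naturality (sc f g hex).g)
  let e3 := ModuleCat.cokernelIsoRangeQuotient ((DRing.gammaI J).map (sc f g hex).g)
  exact ⟨(e1 ≪≫ e2 ≪≫ e3).toLinearEquiv⟩

include hf hg hex in
/-- `Hⁿ⁺¹_J(Z) ≃ Hⁿ⁺²_J(M)` if `X` is acyclic -/
theorem nonempty_succ (hX : ∀ n, Subsingleton (LocCoh.H J (n + 1) X)) (n : ℕ) :
    Nonempty (LocCoh.H J (n + 1) Z ≃ₗ[R] LocCoh.H J (n + 2) M) := by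
  have hS := sc_shortExact f g hf hg hex
  have h := (lcDelta J).hasLES (sc f g hex) hS
  have hz : ∀ n, IsZero (((lcDelta J).T (n + 1)).obj (sc f g hex).X₂) := fun n =>
    @ModuleCat.isZero_of_subsingleton _ _ _ (hX n)
  obtain ⟨e1⟩ := DeltaCmp.nonempty_iso_succ h hz n
  exact ⟨e1.toLinearEquiv⟩

end SES

section Res

variable (X : ℕ → ModuleCat.{u} R) (d : ∀ n, X n →ₗ[R] X (n + 1))

/-- cocycles of `Γ_J(X^•)` -/
def cocyc (i : ℕ) : Submodule R (X i) := GrLC.gam J (X i) ⊓ LinearMap.ker (d i)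

/-- coboundaries of `Γ_J(X^•)` -/
def cobdy : (i : ℕ) → Submodule R (X i)
  | 0 => ⊥
  | n + 1 => (GrLC.gam J (X n)).map (d n)

/-- cohomology of `Γ_J(X^•)` -/
abbrev HH (i : ℕ) : Type u := ↥(cocyc J X d i) ⧸ (cobdy J X d i).comap (cocyc J X d i).subtype

variable {M : Type u} [AddCommGroup M] [Module R M] (ε : M →ₗ[R] X 0)

theorem res_zero (hε : Function.Injective ε) (h0 : LinearMap.ker (d 0) = LinearMap.range ε) :
    Nonempty (HH J X d 0 ≃ₗ[R] LocCoh.H J 0 M) := by
  obtain ⟨e0⟩ := nonempty_zero J M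
  have hbot : (cobdy J X d 0).comap (cocyc J X d 0).subtype = ⊥ := by
    show (⊥ : Submodule R (X 0)).comap (cocyc J X d 0).subtype = ⊥
    rw [Submodule.comap_bot]
    exact Submodule.ker_subtype _
  let φ : GrLC.gam J M →ₗ[R] cocyc J X d 0 :=
    (ε.comp (GrLC.gam J M).subtype).codRestrict (cocyc J X d 0) (fun x => by
      refine ⟨?_, ?_⟩
      · obtain ⟨n, hn⟩ := x.2
        exact ⟨n, fun a ha => by
          show a • ε x.1 = 0
          rw [← map_smul, hn a ha, map_zero]⟩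
      · show ε x.1 ∈ LinearMap.ker (d 0)
        rw [h0]; exact ⟨x.1, rfl⟩)
  have hφ : Function.Bijective φ := by
    constructor
    · intro x y hxy
      apply Subtype.ext
      apply hε
      exact congrArg Subtype.val hxy
    · rintro ⟨y, hy1, hy2⟩
      rw [h0] at hy2
      obtain ⟨x, rfl⟩ := hy2
      obtain ⟨n, hn⟩ := hy1
      refine ⟨⟨x, n, fun a ha => ?_⟩, rfl⟩
      apply hε
      rw [map_smul, map_zero]
      exact hn a ha
  exact ⟨(Submodule.quotEquivOfEqBot _ hbot).trans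
    ((LinearEquiv.ofBijective φ hφ).symm.trans e0.symm)⟩

include ε in
theorem res_one (hε : Function.Injective ε) (h0 : LinearMap.ker (d 0) = LinearMap.range ε)
    (h1 : LinearMap.ker (d 1) = LinearMap.range (d 0))
    (hac : Subsingleton (LocCoh.H J 1 (X 0))) :
    Nonempty (HH J X d 1 ≃ₗ[R] LocCoh.H J 1 M) := by
  let Z : Submodule R (X 1) := LinearMap.ker (d 1)
  let g : X 0 →ₗ[R] Z := (d 0).codRestrict Z (fun x => by
    show d 0 x ∈ LinearMap.ker (d 1)
    rw [h1]; exact ⟨x, rfl⟩)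
  have hg : Function.Surjective g := by
    rintro ⟨z, hz⟩
    have hz' : z ∈ LinearMap.range (d 0) := by rw [← h1]; exact hz
    obtain ⟨x, rfl⟩ := hz'
    exact ⟨x, rfl⟩
  have hex : Function.Exact ε g := by
    intro x
    constructor
    · intro hx
      have hx' : x ∈ LinearMap.ker (d 0) := congrArg Subtype.val hx
      rw [h0] at hx'
      exact hx'
    · rintro ⟨m, rfl⟩
      apply Subtype.ext
      have : ε m ∈ LinearMap.ker (d 0) := by rw [h0]; exact ⟨m, rfl⟩
      exact this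
  obtain ⟨e1⟩ := nonempty_one J ε g hε hg hex hac
  let φ : GrLC.gam J Z →ₗ[R] cocyc J X d 1 :=
    (Z.subtype.comp (GrLC.gam J Z).subtype).codRestrict (cocyc J X d 1) (fun z => by
      refine ⟨?_, z.1.2⟩
      obtain ⟨n, hn⟩ := z.2
      exact ⟨n, fun a ha => by
        show a • (z.1 : X 1) = 0
        have := hn a ha
        exact congrArg Subtype.val this⟩)
  have hφ : Function.Bijective φ := by
    constructor
    · intro x y hxy
      apply Subtype.ext
      apply Subtype.ext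
      have h := congrArg Subtype.val hxy
      exact h
    · rintro ⟨y, hy1, hy2⟩
      obtain ⟨n, hn⟩ := hy1
      exact ⟨⟨⟨y, hy2⟩, n, fun a ha => Subtype.ext (hn a ha)⟩, rfl⟩
  let e := LinearEquiv.ofBijective φ hφ
  have hmap : (LinearMap.range (gamMap J g)).map (e : GrLC.gam J Z →ₗ[R] cocyc J X d 1) =
      (cobdy J X d 1).comap (cocyc J X d 1).subtype := by
    ext y
    constructor
    · rintro ⟨_, ⟨x, rfl⟩, rfl⟩
      exact ⟨x.1, x.2, rfl⟩
    · rintro ⟨x, hx, hxy⟩
      refine ⟨gamMap J g ⟨x, hx⟩, ⟨⟨x, hx⟩, rfl⟩, ?_⟩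
      apply Subtype.ext
      exact hxy
  exact ⟨(e1.trans (Submodule.Quotient.equiv _ _ e hmap)).symm⟩

include ε in
theorem exists_ses (h0 : LinearMap.ker (d 0) = LinearMap.range ε)
    (h1 : LinearMap.ker (d 1) = LinearMap.range (d 0)) :
    ∃ g : X 0 →ₗ[R] LinearMap.ker (d 1), Function.Surjective g ∧ Function.Exact ε g := by
  let Z : Submodule R (X 1) := LinearMap.ker (d 1)
  let g : X 0 →ₗ[R] Z := (d 0).codRestrict Z (fun x => by
    show d 0 x ∈ LinearMap.ker (d 1)
    rw [h1]; exact ⟨x, rfl⟩)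
  refine ⟨g, ?_, ?_⟩
  · rintro ⟨z, hz⟩
    have hz' : z ∈ LinearMap.range (d 0) := by rw [← h1]; exact hz
    obtain ⟨x, rfl⟩ := hz'
    exact ⟨x, rfl⟩
  · intro x
    constructor
    · intro hx
      have hx' : x ∈ LinearMap.ker (d 0) := congrArg Subtype.val hx
      rw [h0] at hx'
      exact hx'
    · rintro ⟨m, rfl⟩
      apply Subtype.ext
      have : ε m ∈ LinearMap.ker (d 0) := by rw [h0]; exact ⟨m, rfl⟩
      exact this

/-- local cohomology is computed by a `Γ_J`-acyclic resolution -/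
theorem main : ∀ (i : ℕ) (X : ℕ → ModuleCat.{u} R) (d : ∀ n, X n →ₗ[R] X (n + 1))
    (M : Type u) [AddCommGroup M] [Module R M] (ε : M →ₗ[R] X 0)
    (_ : Function.Injective ε) (_ : LinearMap.ker (d 0) = LinearMap.range ε)
    (_ : ∀ n, LinearMap.ker (d (n + 1)) = LinearMap.range (d n))
    (_ : ∀ n k, Subsingleton (LocCoh.H J (k + 1) (X n))),
    Nonempty (HH J X d i ≃ₗ[R] LocCoh.H J i M)
  | 0, X, d, M, _, _, ε, hε, h0, _, _ => res_zero J X d ε hε h0
  | 1, X, d, M, _, _, ε, hε, h0, hs, hac => res_one J X d ε hε h0 (hs 0) (hac 0 0)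
  | k + 2, X, d, M, _, _, ε, hε, h0, hs, hac => by
    obtain ⟨g, hg, hex⟩ := exists_ses X d ε h0 (hs 0)
    obtain ⟨e1⟩ := nonempty_succ J ε g hε hg hex (hac 0) k
    obtain ⟨e2⟩ := main (k + 1) (fun n => X (n + 1)) (fun n => d (n + 1))
      (LinearMap.ker (d 1)) (LinearMap.ker (d 1)).subtype (Subtype.val_injective)
      (Submodule.range_subtype _).symm (fun n => hs (n + 1)) (fun n k => hac (n + 1) k)
    exact ⟨e2.trans e1⟩

end Res

end Groth.Agent.Helper6.LCAcycRes
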