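import Mathlib
import Groth.Prelude.Def_GrLC
import Groth.Prelude.Def_Wider
import Groth.Agent.Helper1.LocCohIso
import Groth.Agent.Helper1.LocCohArtinian
import Groth.Agent.Helper1.LocCohDepth
import Groth.Agent.Helper2.DepthCM
import Groth.Agent.Helper6.LCAcycRes
import Groth.Agent.Helper6.GrH
import Groth.Agent.Helper6.GrExt

set_option autoImplicit false

/-!
# Vanishing of `H^i_{R₊}(M)`, `i ≥ 1`, iff `M_n = 0` for `n ≫ 0`
-/

namespace Groth.Agent.Helper6.GrLCIrr

open CategoryTheory Limits DirectSum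
open Groth.Agent.Helper1.LocCohDelta Groth.Agent.Helper1 Groth.Agent.Helper6.GrMod

universe u

section Ungraded

variable {R : Type u} [CommRing R] [IsNoetherianRing R] (J : Ideal R)
  (M : Type u) [AddCommGroup M] [Module R M]

/-- a power-torsion module has no higher local cohomology -/
theorem subsingleton_of_torsion (hM : ∀ x : M, x ∈ GrLC.gam J M) (i : ℕ) (hi : 1 ≤ i) :
    Subsingleton (LocCoh.H J i M) := by
  obtain ⟨p, rfl⟩ : ∃ p, i = p + 1 := ⟨i - 1, by omega⟩
  exact ModuleCat.subsingleton_of_isZero (isZero_lc_of_isTors J p (ModuleCat.of R M) hM)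

/-- if the higher local cohomology vanishes, then `M = Γ_J(M) + J M` -/
theorem sup_eq_top_of_vanishing [Module.Finite R M]
    (h : ∀ i : ℕ, 1 ≤ i → Subsingleton (LocCoh.H J i M)) :
    GrLC.gam J M ⊔ J • (⊤ : Submodule R M) = ⊤ := by
  let G : Submodule R M := GrLC.gam J M
  -- the short exact sequence `0 → Γ → M → M/Γ → 0`
  have hex : Function.Exact G.subtype G.mkQ := by
    intro x
    rw [Submodule.mkQ_apply, Submodule.Quotient.mk_eq_zero]
    exact ⟨fun hx => ⟨⟨x, hx⟩, rfl⟩, by rintro ⟨y, rfl⟩; exact y.2⟩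
  have hS := LCAcycRes.sc_shortExact G.subtype G.mkQ Subtype.val_injective
    (Submodule.mkQ_surjective G) hex
  have hT : IsTors J (LCAcycRes.sc G.subtype G.mkQ hex).X₁ := by
    intro (x : G)
    obtain ⟨n, hn⟩ := x.2
    exact ⟨n, fun a ha => Subtype.ext (hn a ha)⟩
  -- all local cohomology of `N = M/Γ` vanishes
  have hN : ∀ i : ℕ, Subsingleton (LocCoh.H J i (M ⧸ G)) := by
    intro i
    rcases Nat.eq_zero_or_pos i with rfl | hi
    · obtain ⟨e⟩ := LCAcycRes.nonempty_zero J (M ⧸ G)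
      have hbot : GrLC.gam J (M ⧸ G) = ⊥ := LocCohArtinian.torsionSub_quotient_eq_bot J M
      have : Subsingleton (GrLC.gam J (M ⧸ G)) := by
        rw [hbot]; infer_instance
      exact e.toEquiv.subsingleton
    · obtain ⟨p, rfl⟩ : ∃ p, i = p + 1 := ⟨i - 1, by omega⟩
      have hiso := isIso_lc_map_g_of_isTors J _ hS hT p
      have e := (asIso ((localCohomology J (p + 1)).map
        (LCAcycRes.sc G.subtype G.mkQ hex).g)).toLinearEquiv
      have hsub : Subsingleton ((localCohomology J (p + 1)).obj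
          (LCAcycRes.sc G.subtype G.mkQ hex).X₂) := h (p + 1) (by omega)
      exact @Equiv.subsingleton _ _ e.symm.toEquiv hsub
  -- hence `J N = N`
  have hJN : J • (⊤ : Submodule R (M ⧸ G)) = ⊤ := by
    by_contra hne
    have h1 := Groth.Agent.Helper2.DepthCM.idealDepth_ne_top J (M ⧸ G) hne
    obtain ⟨n, hn⟩ := ENat.ne_top_iff_exists.1 h1
    have h2 : ((n + 1 : ℕ) : ℕ∞) ≤ LocCoh.idealDepth J (M ⧸ G) :=
      (LocCohDepth.le_idealDepth_iff_lc J (M ⧸ G) hne (n + 1)).2 (fun i _ => hN i)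
    rw [← hn] at h2
    have : n + 1 ≤ n := by exact_mod_cast h2
    omega
  rw [eq_top_iff]
  intro x _
  have hx : G.mkQ x ∈ J • (⊤ : Submodule R (M ⧸ G)) := by rw [hJN]; trivial
  have hmap : J • (⊤ : Submodule R (M ⧸ G)) = (J • (⊤ : Submodule R M)).map G.mkQ := by
    rw [Submodule.map_smul'', Submodule.map_top, Submodule.range_mkQ]
  rw [hmap] at hx
  obtain ⟨w, hw, hwx⟩ := hx
  have hd : x - w ∈ G := by
    rw [← Submodule.Quotient.mk_eq_zero, Submodule.Quotient.mk_sub]
    exact sub_eq_zero.2 hwx.symm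
  have : x = (x - w) + w := by abel
  rw [this]
  exact Submodule.add_mem_sup hd hw

end Ungraded

section Graded

variable {R : Type u} [CommRing R] (𝒜 : ℤ → AddSubgroup R) [GradedRing 𝒜]
  {M : Type u} [AddCommGroup M] [Module R M] (ℳ : ℤ → AddSubgroup M) [Decomposition ℳ]
  [SetLike.GradedSMul 𝒜 ℳ]

/-- homogeneous elements are combinations of homogeneous generators with homogeneous
coefficients -/
theorem exists_repr {J : Type u} [Fintype J] (x : J → M) (e : J → ℤ) (hx : ∀ j, x j ∈ ℳ (e j))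
    (hspan : Submodule.span R (Set.range x) = ⊤) (n : ℤ) (y : M) (hy : y ∈ ℳ n) :
    ∃ c : J → R, (∀ j, c j ∈ 𝒜 (n - e j)) ∧ y = ∑ j, c j • x j := by
  classical
  have hy' : y ∈ Submodule.span R (Set.range x) := by rw [hspan]; trivial
  obtain ⟨r, hr⟩ := (Submodule.mem_span_range_iff_exists_fun R).1 hy'
  refine ⟨fun j => (decompose 𝒜 (r j) (n - e j) : R), fun j => SetLike.coe_mem _, ?_⟩
  have h1 : (decompose ℳ y n : M) = y := decompose_of_mem_same ℳ hy
  rw [← h1, ← hr, decompose_sum, DFinsupp.finsetSum_apply, AddSubmonoidClass.coe_finsetSum]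
  refine Finset.sum_congr rfl (fun j _ => ?_)
  have h2 := decompose_smul_right 𝒜 ℳ (hx j) (r j) (n - e j)
  rw [sub_add_cancel] at h2
  exact h2

variable (hpos : ∀ n : ℤ, n < 0 → 𝒜 n = ⊥)

include hpos in
/-- a finite graded module over a nonnegatively graded ring is bounded below -/
theorem exists_bounded_below [Module.Finite R M] : ∃ d₀ : ℤ, ∀ n < d₀, ℳ n = ⊥ := by
  classical
  obtain ⟨J, _, x, e, hx, hspan⟩ := GrExt.exists_homog_generators (R := R) ℳ
  obtain ⟨d₀, hd₀⟩ := Finite.exists_ge e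
  refine ⟨d₀, fun n hn => ?_⟩
  rw [eq_bot_iff]
  intro y hy
  obtain ⟨c, hc, rfl⟩ := exists_repr 𝒜 ℳ x e hx hspan n y hy
  rw [AddSubgroup.mem_bot]
  refine Finset.sum_eq_zero (fun j _ => ?_)
  have h1 : n - e j < 0 := by
    have := hd₀ j
    omega
  have h2 := hc j
  rw [hpos _ h1, AddSubgroup.mem_bot] at h2
  rw [h2, zero_smul]

variable (a : HomogeneousIdeal 𝒜)
  (ha : a.toIdeal = Ideal.span (⋃ n ∈ Set.Ioi (0 : ℤ), (𝒜 n : Set R)))

include ha in
omit hpos in
/-- graded Nakayama relative to a homogeneous submodule -/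
theorem eq_top_of_sup (G : Submodule R M) (hG : G.IsHomogeneous ℳ)
    (hsup : G ⊔ a.toIdeal • (⊤ : Submodule R M) = ⊤)
    (d₀ : ℤ) (hd₀ : ∀ n < d₀, ℳ n = ⊥) : G = ⊤ := by
  classical
  have key : ∀ (k : ℕ) (e : ℤ), e < d₀ + k → ∀ y ∈ ℳ e, y ∈ G := by
    intro k
    induction k with
    | zero =>
      intro e he y hy
      rw [hd₀ e (by simpa using he), AddSubgroup.mem_bot] at hy
      rw [hy]; exact G.zero_mem
    | succ k ih =>
      intro e he y hy
      have hy' : y ∈ G ⊔ a.toIdeal • (⊤ : Submodule R M) := by rw [hsup]; trivial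
      obtain ⟨z, hz, w, hw, rfl⟩ := Submodule.mem_sup.1 hy'
      have h1 : (decompose ℳ (z + w) e : M) = z + w := decompose_of_mem_same ℳ hy
      rw [← h1, decompose_add, DirectSum.add_apply, AddSubgroup.coe_add]
      refine G.add_mem (hG e hz) ?_
      refine Submodule.smul_induction_on hw (fun s hs m _ => ?_) (fun p q hp hq => ?_)
      · rw [ha] at hs
        induction hs using Submodule.span_induction generalizing m with
        | mem s hs =>
          simp only [Set.mem_iUnion, Set.mem_Ioi, SetLike.mem_coe] at hs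
          obtain ⟨n, hn, hsn⟩ := hs
          have h2 := decompose_smul_homog 𝒜 ℳ hsn m (e - n)
          rw [add_sub_cancel] at h2
          rw [h2]
          refine G.smul_mem s (ih (e - n) ?_ _ (SetLike.coe_mem _))
          push_cast at he
          omega
        | zero =>
          rw [zero_smul, decompose_zero, DirectSum.zero_apply, ZeroMemClass.coe_zero]
          exact G.zero_mem
        | add s t _ _ hs ht =>
          rw [add_smul, decompose_add, DirectSum.add_apply, AddSubgroup.coe_add]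
          exact G.add_mem (hs m trivial) (ht m trivial)
        | smul c s _ hs =>
          rw [smul_eq_mul, mul_comm, mul_smul]
          exact hs (c • m) trivial
      · rw [decompose_add, DirectSum.add_apply, AddSubgroup.coe_add]
        exact G.add_mem hp hq
  rw [eq_top_iff]
  intro x _
  rw [← DirectSum.sum_support_decompose ℳ x]
  refine G.sum_mem (fun e _ => key (e - d₀ + 1).toNat e ?_ _ (SetLike.coe_mem _))
  have := Int.self_le_toNat (e - d₀ + 1)
  omega

include ha in
omit hpos in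
/-- bounded above implies `R₊`-torsion -/
theorem torsion_of_bounded_above (n₀ : ℤ) (hn₀ : ∀ n, n₀ ≤ n → ℳ n = ⊥) :
    ∀ x : M, x ∈ GrLC.gam a.toIdeal M := by
  classical
  have key : ∀ (k : ℕ) (e : ℤ), n₀ ≤ e + k → ∀ y ∈ ℳ e, ∀ r ∈ a.toIdeal ^ k, r • y = 0 := by
    intro k
    induction k with
    | zero =>
      intro e he y hy r _
      rw [hn₀ e (by simpa using he), AddSubgroup.mem_bot] at hy
      rw [hy, smul_zero]
    | succ k ih =>
      intro e he y hy r hr
      rw [pow_succ] at hr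
      refine Submodule.mul_induction_on hr (fun u hu s hs => ?_)
        (fun p q hp hq => by rw [add_smul, hp, hq, add_zero])
      rw [mul_smul]
      rw [ha] at hs
      induction hs using Submodule.span_induction with
      | mem s hs =>
        simp only [Set.mem_iUnion, Set.mem_Ioi, SetLike.mem_coe] at hs
        obtain ⟨n, hn, hsn⟩ := hs
        refine ih (n + e) ?_ (s • y) (smul_mem' 𝒜 ℳ hsn hy) u hu
        push_cast at he
        omega
      | zero => rw [zero_smul, smul_zero]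
      | add s t _ _ hs ht => rw [add_smul, smul_add, hs, ht, add_zero]
      | smul c s _ hs => rw [smul_assoc, smul_comm, hs, smul_zero]
  intro x
  refine ⟨(DFinsupp.support (decompose ℳ x)).sup (fun e => (n₀ - e).toNat), fun r hr => ?_⟩
  rw [← DirectSum.sum_support_decompose ℳ x, Finset.smul_sum]
  refine Finset.sum_eq_zero (fun e he => ?_)
  refine key (n₀ - e).toNat e ?_ _ (SetLike.coe_mem _) r
    (Ideal.pow_le_pow_right (Finset.le_sup (f := fun e => (n₀ - e).toNat) he) hr)
  have := Int.self_le_toNat (n₀ - e)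
  omega

variable (hhom : a.toIdeal = Ideal.span ((𝒜 1 : AddSubgroup R) : Set R))

include ha hhom in
omit hpos in
/-- in the standard graded case `R_j ⊆ (R₊)^j` -/
theorem piece_le_pow (j : ℕ) : ∀ x ∈ 𝒜 (j : ℤ), x ∈ a.toIdeal ^ j := by
  classical
  induction j with
  | zero =>
    intro x _
    rw [pow_zero, Ideal.one_eq_top]; trivial
  | succ j ih =>
    intro x hx
    have hxa : x ∈ a.toIdeal := by
      rw [ha]
      refine Ideal.subset_span (Set.mem_biUnion (x := ((j + 1 : ℕ) : ℤ)) ?_ hx)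
      rw [Set.mem_Ioi]; push_cast; omega
    rw [hhom] at hxa
    obtain ⟨f, T, hT, -, hsum⟩ := Submodule.mem_span_iff_exists_finset_subset.1 hxa
    have hx' : x ∈ 𝒜 ((j : ℤ) + 1) := by
      have : ((j + 1 : ℕ) : ℤ) = (j : ℤ) + 1 := by push_cast; rfl
      rwa [this] at hx
    have h1 : (decompose 𝒜 x ((j : ℤ) + 1) : R) = x := decompose_of_mem_same 𝒜 hx'
    rw [← h1, ← hsum, decompose_sum, DFinsupp.finsetSum_apply, AddSubmonoidClass.coe_finsetSum]
    refine Ideal.sum_mem _ (fun t ht => ?_)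
    have ht1 : t ∈ 𝒜 1 := hT ht
    have h2 := decompose_smul_right 𝒜 𝒜 ht1 (f t) (j : ℤ)
    rw [h2, pow_succ, smul_eq_mul]
    refine Ideal.mul_mem_mul (ih _ (SetLike.coe_mem _)) ?_
    rw [hhom]
    exact Ideal.subset_span ht1

include ha hhom in
omit hpos in
/-- a finite `R₊`-torsion graded module is bounded above (standard graded case) -/
theorem bounded_above_of_torsion [Module.Finite R M]
    (hM : ∀ x : M, x ∈ GrLC.gam a.toIdeal M) : ∃ n₀ : ℤ, ∀ n, n₀ ≤ n → ℳ n = ⊥ := by
  classical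
  obtain ⟨J, _, x, e, hx, hspan⟩ := GrExt.exists_homog_generators (R := R) ℳ
  have hk : ∀ j, ∃ k : ℕ, ∀ r ∈ a.toIdeal ^ k, r • x j = 0 := fun j => hM (x j)
  choose k hk using hk
  obtain ⟨D, hD⟩ := Finite.exists_le e
  refine ⟨D + (Finset.univ.sup k : ℕ), fun n hn => ?_⟩
  rw [eq_bot_iff]
  intro y hy
  obtain ⟨c, hc, rfl⟩ := exists_repr 𝒜 ℳ x e hx hspan n y hy
  rw [AddSubgroup.mem_bot]
  refine Finset.sum_eq_zero (fun j _ => ?_)
  have hkj : k j ≤ Finset.univ.sup k := Finset.le_sup (Finset.mem_univ j)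
  have hDj := hD j
  have hnn : 0 ≤ n - e j := by omega
  have h1 : ((n - e j).toNat : ℤ) = n - e j := Int.toNat_of_nonneg hnn
  have h2 : c j ∈ 𝒜 (((n - e j).toNat : ℕ) : ℤ) := by rw [h1]; exact hc j
  have h3 := piece_le_pow 𝒜 a ha hhom _ _ h2
  refine hk j _ (Ideal.pow_le_pow_right ?_ h3)
  omega

end Graded

section Main

variable {R : Type u} [CommRing R] [IsNoetherianRing R] (𝒜 : ℤ → AddSubgroup R) [GradedRing 𝒜]
  (hpos : ∀ n : ℤ, n < 0 → 𝒜 n = ⊥) (a : HomogeneousIdeal 𝒜)
  (ha : a.toIdeal = Ideal.span (⋃ n ∈ Set.Ioi (0 : ℤ), (𝒜 n : Set R)))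
  (hhom : a.toIdeal = Ideal.span ((𝒜 1 : AddSubgroup R) : Set R))
  (M : Type u) [AddCommGroup M] [Module R M] [Module.Finite R M] (ℳ : ℤ → AddSubgroup M)
  [DirectSum.Decomposition ℳ] [SetLike.GradedSMul 𝒜 ℳ]

include hpos ha hhom in
theorem main : (∀ i : ℕ, 1 ≤ i → Subsingleton (LocCoh.H a.toIdeal i M)) ↔
    ∃ n₀ : ℤ, ∀ n : ℤ, n₀ ≤ n → ℳ n = ⊥ := by
  constructor
  · intro h
    have h1 := sup_eq_top_of_vanishing a.toIdeal M h
    obtain ⟨d₀, hd₀⟩ := exists_bounded_below 𝒜 ℳ hpos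
    have h2 := eq_top_of_sup 𝒜 ℳ a ha (GrLC.gam a.toIdeal M)
      (Groth.Agent.Helper6.GrH.gam_isHomogeneous 𝒜 ℳ a) h1 d₀ hd₀
    exact bounded_above_of_torsion 𝒜 ℳ a ha hhom (fun x => by rw [h2]; trivial)
  · rintro ⟨n₀, hn₀⟩ i hi
    exact subsingleton_of_torsion a.toIdeal M (torsion_of_bounded_above 𝒜 ℳ a ha n₀ hn₀) i hi

end Main

end Groth.Agent.Helper6.GrLCIrr
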