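import Mathlib
import Groth.Prelude
import Groth.Agent.Helper6.ComplDim

/-!
# Completion of a quotient of a local ring

For a surjection `A → C` of Noetherian local rings with kernel `P`, the completion of `C` is
`Â / P Â`.
-/

set_option autoImplicit false
universe u

namespace Groth.Agent.Helper6.ComplQuot

open IsLocalRing

variable {A C : Type u} [CommRing A] [CommRing C] [IsLocalRing A] [IsLocalRing C]
  [Algebra A C]

section Basic

variable (hs : Function.Surjective (algebraMap A C))
include hs

theorem map_maximalIdeal : (maximalIdeal A).map (algebraMap A C) = maximalIdeal C := by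
  haveI : IsLocalHom (algebraMap A C) := IsLocalHom.of_surjective _ hs
  apply le_antisymm (IsLocalRing.map_maximalIdeal_le (algebraMap A C))
  intro y hy
  obtain ⟨x, rfl⟩ := hs y
  apply Ideal.mem_map_of_mem
  rw [mem_maximalIdeal, mem_nonunits_iff] at hy ⊢
  exact fun hx => hy (hx.map _)

theorem mem_pow_iff (n : ℕ) (c : C) :
    c ∈ (maximalIdeal C) ^ n ↔ ∃ a ∈ (maximalIdeal A) ^ n, algebraMap A C a = c := by
  rw [← map_maximalIdeal hs, ← Ideal.map_pow, Ideal.mem_map_iff_of_surjective _ hs]

theorem pow_le_comap (n : ℕ) :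
    (maximalIdeal A) ^ n ≤ ((maximalIdeal C) ^ n).comap (algebraMap A C) := by
  intro a ha
  exact (mem_pow_iff hs n _).mpr ⟨a, ha, rfl⟩

end Basic

section Phi

variable (hs : Function.Surjective (algebraMap A C))

/-- the `n`-th component of the map on completions -/
noncomputable def fn (n : ℕ) : AdicCompletion (maximalIdeal A) A →+* C ⧸ (maximalIdeal C) ^ n :=
  (Ideal.quotientMap ((maximalIdeal C) ^ n) (algebraMap A C) (pow_le_comap hs n)).comp
    (AdicCompletion.evalₐ (maximalIdeal A) n).toRingHom

theorem fn_mk (n : ℕ) (a : AdicCompletion.AdicCauchySequence (maximalIdeal A) A) :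
    fn hs n (AdicCompletion.mk (maximalIdeal A) A a) =
      Ideal.Quotient.mk ((maximalIdeal C) ^ n) (algebraMap A C (a n)) := by
  unfold fn
  rw [RingHom.comp_apply]
  erw [AdicCompletion.evalₐ_mk]
  rw [Ideal.quotientMap_mk]

theorem fn_of (n : ℕ) (a : A) :
    fn hs n (algebraMap A (AdicCompletion (maximalIdeal A) A) a) =
      Ideal.Quotient.mk ((maximalIdeal C) ^ n) (algebraMap A C a) := by
  unfold fn
  rw [RingHom.comp_apply]
  erw [AdicCompletion.evalₐ_of]

theorem fn_compat {m n : ℕ} (hle : m ≤ n) :
    (Ideal.Quotient.factorPow (maximalIdeal C) hle).comp (fn hs n) = fn hs m := by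
  ext x
  obtain ⟨a, rfl⟩ := AdicCompletion.mk_surjective (maximalIdeal A) A x
  rw [RingHom.comp_apply, fn_mk, fn_mk, Ideal.Quotient.factor_mk, Ideal.Quotient.eq, ← map_sub]
  apply pow_le_comap hs m
  have h1 := a.property hle
  rw [SModEq.sub_mem] at h1
  have h2 : a n - a m ∈ (maximalIdeal A ^ m • ⊤ : Submodule A A) := by
    have := Submodule.neg_mem _ h1
    rwa [neg_sub] at this
  simpa using h2

/-- the induced map on completions -/
noncomputable def phi : AdicCompletion (maximalIdeal A) A →+* AdicCompletion (maximalIdeal C) C :=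
  AdicCompletion.liftRingHom (maximalIdeal C) (fn hs) (fun hle => fn_compat hs hle)

theorem evalₐ_phi (n : ℕ) (x : AdicCompletion (maximalIdeal A) A) :
    AdicCompletion.evalₐ (maximalIdeal C) n (phi hs x) = fn hs n x :=
  AdicCompletion.evalₐ_liftRingHom _ _ _ _ _

theorem phi_surjective : Function.Surjective (phi hs) := by
  intro d
  obtain ⟨c, rfl⟩ := AdicCompletion.mk_surjective (maximalIdeal C) C d
  have hδ : ∀ n : ℕ, ∃ δ ∈ (maximalIdeal A) ^ n, algebraMap A C δ = c (n + 1) - c n := by
    intro n
    rw [← mem_pow_iff hs]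
    have h1 := c.property (Nat.le_succ n)
    rw [SModEq.sub_mem] at h1
    have h2 := Submodule.neg_mem _ h1
    rw [neg_sub] at h2
    simpa using h2
  choose δ hδ1 hδ2 using hδ
  obtain ⟨a0, ha0⟩ := hs (c 0)
  let a : ℕ → A := fun n => a0 + ∑ k ∈ Finset.range n, δ k
  have ha : ∀ n, algebraMap A C (a n) = c n := by
    intro n
    show algebraMap A C (a0 + ∑ k ∈ Finset.range n, δ k) = c n
    rw [map_add, map_sum, ha0]
    simp_rw [hδ2]
    rw [Finset.sum_range_sub (fun k => c k)]
    ring
  have hC : ∀ n, a n ≡ a (n + 1) [SMOD (maximalIdeal A ^ n • ⊤ : Submodule A A)] := by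
    intro n
    rw [SModEq.sub_mem]
    have : a n - a (n + 1) = - δ n := by
      show (a0 + ∑ k ∈ Finset.range n, δ k) - (a0 + ∑ k ∈ Finset.range (n + 1), δ k) = _
      rw [Finset.sum_range_succ]
      ring
    rw [this]
    apply Submodule.neg_mem
    simpa using hδ1 n
  refine ⟨AdicCompletion.mk (maximalIdeal A) A
    (AdicCompletion.AdicCauchySequence.mk (maximalIdeal A) A a hC), ?_⟩
  apply AdicCompletion.ext_evalₐ
  intro n
  rw [evalₐ_phi, fn_mk, AdicCompletion.evalₐ_mk]
  show Ideal.Quotient.mk _ (algebraMap A C (a n)) = _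
  rw [ha n]

variable [IsNoetherianRing A] [IsNoetherianRing C]

theorem ker_phi : RingHom.ker (phi hs) =
    (RingHom.ker (algebraMap A C)).map (algebraMap A (AdicCompletion (maximalIdeal A) A)) := by
  set Ah := AdicCompletion (maximalIdeal A) A with hAh
  set P' : Ideal Ah := (RingHom.ker (algebraMap A C)).map (algebraMap A Ah) with hP'
  apply le_antisymm
  · intro x hx
    rw [RingHom.mem_ker] at hx
    -- step a
    have stepa : ∀ n : ℕ, ∃ p ∈ RingHom.ker (algebraMap A C),
        x - algebraMap A Ah p ∈ (maximalIdeal Ah) ^ n := by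
      intro n
      have h1 : fn hs n x = 0 := by rw [← evalₐ_phi, hx, map_zero]
      obtain ⟨a, ha⟩ := Ideal.Quotient.mk_surjective
        (AdicCompletion.evalₐ (maximalIdeal A) n x)
      have h2 : Ideal.Quotient.mk ((maximalIdeal C) ^ n) (algebraMap A C a) = 0 := by
        rw [← h1]
        unfold fn
        rw [RingHom.comp_apply]
        erw [← ha]
        rw [Ideal.quotientMap_mk]
      rw [Ideal.Quotient.eq_zero_iff_mem, mem_pow_iff hs] at h2
      obtain ⟨b, hb, hba⟩ := h2
      refine ⟨a - b, by rw [RingHom.mem_ker, map_sub, hba, sub_self], ?_⟩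
      have h3 : AdicCompletion.evalₐ (maximalIdeal A) n (x - algebraMap A Ah (a - b)) = 0 := by
        have e : algebraMap A Ah (a - b) = AdicCompletion.of (maximalIdeal A) A (a - b) := rfl
        rw [map_sub, ← ha, e, AdicCompletion.evalₐ_of, ← map_sub, Ideal.Quotient.eq_zero_iff_mem]
        simpa using hb
      have h4 : AdicCompletion.eval (maximalIdeal A) A n (x - algebraMap A Ah (a - b)) = 0 := by
        rw [← AdicCompletion.factor_evalₐ_eq_eval _ _ (le_of_eq (Ideal.mul_top _).symm), h3,
          map_zero]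
      have h5 : x - algebraMap A Ah (a - b) ∈
          (maximalIdeal A ^ n • ⊤ : Submodule A Ah) := by
        rw [AdicCompletion.pow_smul_top_eq_ker_eval (maximalIdeal A).fg_of_isNoetherianRing]
        exact h4
      rw [Ideal.smul_top_eq_map, Submodule.restrictScalars_mem, Ideal.map_pow,
        ← AdicCompletion.maximalIdeal_eq_map] at h5
      exact h5
    -- step b
    have hfin : Module.Finite Ah (Ah ⧸ P') := inferInstance
    have hkrull := Ideal.iInf_pow_smul_eq_bot_of_isLocalRing (R := Ah) (M := Ah ⧸ P')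
      (maximalIdeal Ah) (maximalIdeal.isMaximal Ah).ne_top
    have hmem : (Submodule.Quotient.mk x : Ah ⧸ P') ∈
        (⨅ i : ℕ, (maximalIdeal Ah) ^ i • ⊤ : Submodule Ah (Ah ⧸ P')) := by
      rw [Submodule.mem_iInf]
      intro n
      obtain ⟨p, hp, hxp⟩ := stepa n
      have e1 : (Submodule.Quotient.mk x : Ah ⧸ P') =
          (x - algebraMap A Ah p) • Submodule.Quotient.mk (1 : Ah) := by
        rw [← Submodule.Quotient.mk_smul, smul_eq_mul, mul_one, Submodule.Quotient.mk_sub,
          (Submodule.Quotient.mk_eq_zero (p := P') (x := algebraMap A Ah p)).mpr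
            (Ideal.mem_map_of_mem _ hp), sub_zero]
      rw [e1]
      exact Submodule.smul_mem_smul hxp Submodule.mem_top
    rw [hkrull, Submodule.mem_bot] at hmem
    exact (Submodule.Quotient.mk_eq_zero (p := P')).mp hmem
  · rw [hP', Ideal.map_le_iff_le_comap]
    intro a ha
    rw [RingHom.mem_ker] at ha
    rw [Ideal.mem_comap, RingHom.mem_ker]
    apply AdicCompletion.ext_evalₐ
    intro n
    rw [evalₐ_phi, fn_of, ha, map_zero, map_zero]

/-- The completion of a quotient `C = A/P` of a Noetherian local ring is `Â / P Â`. -/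
noncomputable def quotEquiv :
    (AdicCompletion (maximalIdeal A) A ⧸
      (RingHom.ker (algebraMap A C)).map (algebraMap A (AdicCompletion (maximalIdeal A) A))) ≃+*
    AdicCompletion (maximalIdeal C) C :=
  (Ideal.quotEquivOfEq (ker_phi hs).symm).trans
    (RingHom.quotientKerEquivOfSurjective (phi_surjective hs))

end Phi

end Groth.Agent.Helper6.ComplQuot
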