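import Mathlib
import Groth.Prelude
import Groth.Agent.S9249
import Groth.Agent.Helper5.FlatEquidim
import Groth.Agent.Helper6.CMCaten
import Groth.Agent.Helper6.ComplQuot

/-!
# Quotients of Cohen–Macaulay local rings are formally catenary
-/

set_option autoImplicit false
universe u

namespace Groth.Agent.Helper6.FormCaten

open IsLocalRing

theorem isEquidim_of_ringEquiv {R S : Type u} [CommRing R] [CommRing S] (e : R ≃+* S)
    (h : EGA4.IsEquidim R) : EGA4.IsEquidim S := by
  intro p hp
  have hsurj : Function.Surjective (e : R →+* S) := e.surjective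
  have hq : p.comap (e : R →+* S) ∈ minimalPrimes R := by
    have h1 := Ideal.comap_minimalPrimes_eq_of_surjective hsurj (⊥ : Ideal S)
    have h2 : (⊥ : Ideal S).comap (e : R →+* S) = ⊥ := by
      rw [← RingHom.ker_eq_comap_bot]
      exact (RingHom.injective_iff_ker_eq_bot _).mp e.injective
    rw [h2] at h1
    show _ ∈ (⊥ : Ideal R).minimalPrimes
    rw [h1]
    exact ⟨p, hp, rfl⟩
  have h1 := h _ hq
  rw [← ringKrullDim_eq_of_ringEquiv e, ← h1]
  exact (ringKrullDim_eq_of_ringEquiv (Ideal.quotientEquiv (p.comap (e : R →+* S)) p e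
    (Ideal.map_comap_of_surjective _ hsurj p).symm)).symm

theorem isFormallyEquidim_of_surjective (A : Type u) [CommRing A]
    [LocCoh.IsCohenMacaulayLocalRing A]
    (C : Type u) [CommRing C] [IsNoetherianRing C] [IsLocalRing C] [IsDomain C] [Algebra A C]
    (hs : Function.Surjective (algebraMap A C)) : EGA4.IsFormallyEquidim C := by
  unfold EGA4.IsFormallyEquidim
  haveI : IsNoetherianRing (AdicCompletion (maximalIdeal A) A) :=
    Groth.Agent.Helper6.ComplDim.instNoeth A (maximalIdeal A)
  haveI : LocCoh.IsCohenMacaulayLocalRing (AdicCompletion (maximalIdeal A) A) :=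
    (Groth.Agent.S9249.result A).mp inferInstance
  have hcat := Groth.Agent.Helper6.CMCaten.isCatenary_of_cm (AdicCompletion (maximalIdeal A) A)
  have heq := Groth.Agent.Helper6.CMCaten.isEquidim_of_cm (AdicCompletion (maximalIdeal A) A)
  haveI : (RingHom.ker (algebraMap A C)).IsPrime := RingHom.ker_isPrime _
  have h1 := Groth.Agent.Helper5.FlatEquidim.isEquidim_quotient_map A
    (AdicCompletion (maximalIdeal A) A) hcat heq (RingHom.ker (algebraMap A C))
  exact isEquidim_of_ringEquiv (Groth.Agent.Helper6.ComplQuot.quotEquiv hs) h1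

end Groth.Agent.Helper6.FormCaten
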