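import Mathlib
import Groth.Prelude
import Groth.Agent.Helper5.FlatEquidim
import Groth.Agent.Helper6.ComplQuot
import Groth.Agent.Helper6.FormCaten

/-!
# Formal equidimensionality in terms of minimal primes (EGA IV 7.1.3-type statements)
-/

set_option autoImplicit false
universe u

namespace Groth.Agent.Helper6.FormEquidimMin

open IsLocalRing

section General

variable {R : Type u} [CommRing R]

theorem dim_quot_quot (I : Ideal R) (Qb : Ideal (R ⧸ I)) :
    ringKrullDim ((R ⧸ I) ⧸ Qb) = ringKrullDim (R ⧸ Qb.comap (Ideal.Quotient.mk I)) := by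
  have hf : Function.Surjective ((Ideal.Quotient.mk Qb).comp (Ideal.Quotient.mk I)) :=
    Ideal.Quotient.mk_surjective.comp Ideal.Quotient.mk_surjective
  have hker : RingHom.ker ((Ideal.Quotient.mk Qb).comp (Ideal.Quotient.mk I)) =
      Qb.comap (Ideal.Quotient.mk I) := by
    rw [← RingHom.comap_ker, Ideal.mk_ker]
  rw [← hker]
  exact (ringKrullDim_eq_of_ringEquiv (RingHom.quotientKerEquivOfSurjective hf)).symm

theorem isEquidim_quot_iff (I : Ideal R) :
    EGA4.IsEquidim (R ⧸ I) ↔
      ∀ Q ∈ I.minimalPrimes, ringKrullDim (R ⧸ Q) = ringKrullDim (R ⧸ I) := by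
  rw [Ideal.minimalPrimes_eq_comap]
  constructor
  · rintro h Q ⟨Qb, hQb, rfl⟩
    rw [← dim_quot_quot]
    exact h Qb hQb
  · intro h Qb hQb
    rw [dim_quot_quot]
    exact h _ ⟨Qb, hQb, rfl⟩

theorem dim_quot_le_of_le {I J : Ideal R} (h : I ≤ J) :
    ringKrullDim (R ⧸ J) ≤ ringKrullDim (R ⧸ I) :=
  ringKrullDim_le_of_surjective (Ideal.Quotient.factor h) (Ideal.Quotient.factor_surjective h)

end General

section Compl

variable (A : Type u) [CommRing A] [IsNoetherianRing A] [IsLocalRing A]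

/-- The completion of `A/p` is `Â / p Â`. -/
noncomputable def quotEquiv' (p : Ideal A) [Nontrivial (A ⧸ p)] :
    (AdicCompletion (maximalIdeal A) A ⧸
      p.map (algebraMap A (AdicCompletion (maximalIdeal A) A))) ≃+*
    AdicCompletion (maximalIdeal (A ⧸ p)) (A ⧸ p) :=
  (Ideal.quotEquivOfEq (by rw [Ideal.Quotient.algebraMap_eq, Ideal.mk_ker])).trans
    (Groth.Agent.Helper6.ComplQuot.quotEquiv (A := A) (C := A ⧸ p)
      Ideal.Quotient.mk_surjective)

theorem dim_compl : ringKrullDim (AdicCompletion (maximalIdeal A) A) = ringKrullDim A :=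
  (Groth.Agent.Helper6.ComplDim.main_S19474 A (maximalIdeal A)
    (maximalIdeal.isMaximal _).ne_top).1

theorem dim_quot_map (p : Ideal A) [Nontrivial (A ⧸ p)] :
    ringKrullDim (AdicCompletion (maximalIdeal A) A ⧸
      p.map (algebraMap A (AdicCompletion (maximalIdeal A) A))) = ringKrullDim (A ⧸ p) := by
  rw [ringKrullDim_eq_of_ringEquiv (quotEquiv' A p), dim_compl]

theorem isFormallyEquidim_quot_iff (p : Ideal A) [Nontrivial (A ⧸ p)] :
    EGA4.IsFormallyEquidim (A ⧸ p) ↔
      EGA4.IsEquidim (AdicCompletion (maximalIdeal A) A ⧸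
        p.map (algebraMap A (AdicCompletion (maximalIdeal A) A))) :=
  ⟨fun h => Groth.Agent.Helper6.FormCaten.isEquidim_of_ringEquiv (quotEquiv' A p).symm h,
    fun h => Groth.Agent.Helper6.FormCaten.isEquidim_of_ringEquiv (quotEquiv' A p) h⟩

theorem main :
    EGA4.IsFormallyEquidim A ↔
      (EGA4.IsEquidim A ∧ ∀ (p : Ideal A) [p.IsPrime], p ∈ minimalPrimes A →
        EGA4.IsFormallyEquidim (A ⧸ p)) := by
  haveI : IsNoetherianRing (AdicCompletion (maximalIdeal A) A) :=
    Groth.Agent.Helper6.ComplDim.instNoeth A (maximalIdeal A)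
  have hgd : Algebra.HasGoingDown A (AdicCompletion (maximalIdeal A) A) :=
    Algebra.HasGoingDown.of_flat
  -- a prime minimal over `pÂ` with `p` minimal is a minimal prime of `Â`
  have key : ∀ (p : Ideal A) [p.IsPrime], p ∈ minimalPrimes A →
      ∀ Q ∈ (p.map (algebraMap A (AdicCompletion (maximalIdeal A) A))).minimalPrimes,
        Q ∈ minimalPrimes (AdicCompletion (maximalIdeal A) A) := by
    intro p _ hp Q hQ
    haveI : Q.IsPrime := hQ.1.1
    have h1 := Groth.Agent.Helper5.FlatEquidim.height_of_minimal_over_map p Q hQ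
    rw [Ideal.height_eq_zero_iff.mpr hp] at h1
    exact Ideal.height_eq_zero_iff.mp h1
  show EGA4.IsEquidim (AdicCompletion (maximalIdeal A) A) ↔ _
  constructor
  · intro h
    have ha : EGA4.IsEquidim A := by
      intro p hp
      haveI : p.IsPrime := hp.1.1
      apply le_antisymm (ringKrullDim_quotient_le p)
      have hle : p.map (algebraMap A (AdicCompletion (maximalIdeal A) A)) ≤
          maximalIdeal (AdicCompletion (maximalIdeal A) A) := by
        refine (Ideal.map_mono (IsLocalRing.le_maximalIdeal ‹p.IsPrime›.ne_top)).trans ?_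
        exact IsLocalRing.map_maximalIdeal_le
          (algebraMap A (AdicCompletion (maximalIdeal A) A))
      obtain ⟨Q, hQ, -⟩ := Ideal.exists_minimalPrimes_le hle
      have hQmin := key p hp Q hQ
      rw [← dim_compl A, ← h Q hQmin, ← dim_quot_map A p]
      exact dim_quot_le_of_le hQ.1.2
    refine ⟨ha, ?_⟩
    intro p _ hp
    rw [isFormallyEquidim_quot_iff, isEquidim_quot_iff]
    intro Q hQ
    rw [h Q (key p hp Q hQ), dim_compl, dim_quot_map, ha p hp]
  · rintro ⟨ha, hmin⟩ Q hQ
    haveI : Q.IsPrime := hQ.1.1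
    -- p := Q ∩ A is a minimal prime
    have hpmin : Q.under A ∈ minimalPrimes A := by
      refine ⟨⟨inferInstance, bot_le⟩, ?_⟩
      rintro p' ⟨hp', -⟩ hle
      haveI := hp'
      obtain ⟨Q', hQ'le, hQ'p, hQ'lo⟩ := Ideal.exists_ideal_le_liesOver_of_le (p := p')
        (q := Q.under A) Q hle
      have h2 : Q ≤ Q' := hQ.2 ⟨hQ'p, bot_le⟩ hQ'le
      have h3 : Q' = Q := le_antisymm hQ'le h2
      rw [hQ'lo.over, h3]
    have hQover : Q ∈ ((Q.under A).map
        (algebraMap A (AdicCompletion (maximalIdeal A) A))).minimalPrimes := by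
      refine ⟨⟨inferInstance, Ideal.map_le_iff_le_comap.mpr le_rfl⟩, ?_⟩
      rintro J ⟨hJ, -⟩ hJQ
      exact hQ.2 ⟨hJ, bot_le⟩ hJQ
    have h1 := hmin (Q.under A) hpmin
    rw [isFormallyEquidim_quot_iff, isEquidim_quot_iff] at h1
    rw [h1 Q hQover, dim_quot_map, ha _ hpmin, dim_compl]

end Compl

end Groth.Agent.Helper6.FormEquidimMin
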