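import Mathlib
import Groth.Prelude
import Groth.Agent.Helper2.SmoothStalk

/-!
# Dimension formula for flat local homomorphisms (stand-in for the file missing from origin/main)
-/

set_option autoImplicit false
universe u

namespace Groth.Agent.Helper6.FlatLoc

open IsLocalRing

theorem dim_eq_add_quot {A A' : Type u} [CommRing A] [CommRing A'] [IsNoetherianRing A]
    [IsNoetherianRing A'] [IsLocalRing A] [IsLocalRing A'] [Algebra A A']
    [IsLocalHom (algebraMap A A')] [Module.Flat A A'] (I : Ideal A')
    (h : I = (maximalIdeal A).map (algebraMap A A')) :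
    ringKrullDim A' = ringKrullDim A + ringKrullDim (A' ⧸ I) := by
  subst h
  exact Groth.Agent.Helper2.SmoothStalk.dim_eq A A'

end Groth.Agent.Helper6.FlatLoc
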