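import Mathlib
import Groth.Prelude
import Groth.Agent.Helper2.Caten
import Groth.Agent.Helper2.Caten2
import Groth.Agent.Helper5.FlatEquidim
import Groth.Agent.Helper6.FlatDimRing
import Groth.Agent.Helper6.FlatGD
import Groth.Agent.Helper6.FlatLoc
import Groth.Agent.Helper6.CMCaten
import Groth.Agent.Helper6.FormEquidimMin

/-!
# Descent of equidimensionality and catenarity along a flat local homomorphism
-/

set_option autoImplicit false
universe u

namespace Groth.Agent.Helper6.FlatCaten

open IsLocalRing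

section Nat

theorem exists_nat_dim (R : Type u) [CommRing R] [IsLocalRing R] [IsNoetherianRing R] :
    ∃ n : ℕ, ringKrullDim R = n := by
  obtain ⟨n, hn⟩ := ENat.ne_top_iff_exists.1
    (Ideal.height_ne_top_of_isPrime (I := maximalIdeal R))
  refine ⟨n, ?_⟩
  rw [← IsLocalRing.maximalIdeal_height_eq_ringKrullDim, ← hn]
  rfl

end Nat

variable {A A' : Type u} [CommRing A] [CommRing A'] [IsNoetherianRing A] [IsNoetherianRing A']
  [IsLocalRing A] [IsLocalRing A'] [Algebra A A'] [IsLocalHom (algebraMap A A')]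
  [Module.Flat A A']

omit [IsNoetherianRing A] [IsNoetherianRing A'] [IsLocalRing A] [IsLocalRing A']
  [IsLocalHom (algebraMap A A')] in
/-- a prime minimal over `pA'` lies over `p` -/
theorem comap_of_minimal_over_map (p : Ideal A) [p.IsPrime] (P : Ideal A')
    (hP : P ∈ (p.map (algebraMap A A')).minimalPrimes) : P.comap (algebraMap A A') = p := by
  have hPp : P.IsPrime := hP.1.1
  have hgd : Algebra.HasGoingDown A A' := Algebra.HasGoingDown.of_flat
  have hle : p ≤ P.under A := by
    rw [Ideal.under_def, ← Ideal.map_le_iff_le_comap]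
    exact hP.1.2
  have : P.LiesOver (P.under A) := ⟨rfl⟩
  obtain ⟨P', hP'le, hP'p, hP'lo⟩ := Ideal.exists_ideal_le_liesOver_of_le (p := p)
    (q := P.under A) P hle
  have h1 : Ideal.map (algebraMap A A') p ≤ P' := by
    rw [Ideal.map_le_iff_le_comap, ← Ideal.under_def, ← hP'lo.over]
  have h2 : P ≤ P' := hP.2 ⟨hP'p, h1⟩ hP'le
  have h3 : P' = P := le_antisymm hP'le h2
  rw [← h3, ← Ideal.under_def, ← hP'lo.over]

omit [IsNoetherianRing A] [IsNoetherianRing A'] [Module.Flat A A'] in
theorem map_ne_top (a : Ideal A) (ha : a ≠ ⊤) : a.map (algebraMap A A') ≠ ⊤ := by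
  intro h
  have h1 : a.map (algebraMap A A') ≤ maximalIdeal A' :=
    (Ideal.map_mono (IsLocalRing.le_maximalIdeal ha)).trans
      (IsLocalRing.map_maximalIdeal_le (algebraMap A A'))
  rw [h] at h1
  exact (maximalIdeal.isMaximal A').ne_top (top_le_iff.mp h1)

omit [IsNoetherianRing A] [IsNoetherianRing A'] [Module.Flat A A'] in
theorem exists_minimal_over_map (a : Ideal A) (ha : a ≠ ⊤) :
    ∃ P, P ∈ (a.map (algebraMap A A')).minimalPrimes := by
  have h1 : a.map (algebraMap A A') ≤ maximalIdeal A' :=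
    (Ideal.map_mono (IsLocalRing.le_maximalIdeal ha)).trans
      (IsLocalRing.map_maximalIdeal_le (algebraMap A A'))
  obtain ⟨P, hP, -⟩ := Ideal.exists_minimalPrimes_le h1
  exact ⟨P, hP⟩

omit [Module.Flat A A'] in
theorem dim_le_quot_add (p : Ideal A) (P : Ideal A') [P.IsPrime]
    (hle : p.map (algebraMap A A') ≤ P) :
    ringKrullDim (A' ⧸ P) ≤ ringKrullDim (A ⧸ p) +
      ringKrullDim (A' ⧸ (maximalIdeal A).map (algebraMap A A')) := by
  refine (Groth.Agent.Helper6.FlatDimRing.dim_quot_le p P hle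
    (Ideal.IsPrime.ne_top inferInstance)).trans ?_
  gcongr
  exact Groth.Agent.Helper6.FormEquidimMin.dim_quot_le_of_le le_sup_right

theorem dim_eq_add : ringKrullDim A' = ringKrullDim A +
    ringKrullDim (A' ⧸ (maximalIdeal A).map (algebraMap A A')) :=
  Groth.Agent.Helper6.FlatLoc.dim_eq_add_quot _ rfl

theorem isEquidim_of_flat (heq : EGA4.IsEquidim A') : EGA4.IsEquidim A := by
  intro p hp
  haveI : p.IsPrime := hp.1.1
  apply le_antisymm (ringKrullDim_quotient_le p)
  obtain ⟨P, hP⟩ := exists_minimal_over_map (A' := A') p (Ideal.IsPrime.ne_top inferInstance)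
  haveI : P.IsPrime := hP.1.1
  have h1 := Groth.Agent.Helper5.FlatEquidim.height_of_minimal_over_map p P hP
  rw [Ideal.height_eq_zero_iff.mpr hp] at h1
  have hPmin := Ideal.height_eq_zero_iff.mp h1
  have h2 := heq P hPmin
  have h3 := dim_le_quot_add p P hP.1.2
  have h4 := dim_eq_add (A := A) (A' := A')
  haveI : Nontrivial (A' ⧸ (maximalIdeal A).map (algebraMap A A')) :=
    Ideal.Quotient.nontrivial_iff.mpr (map_ne_top _ (maximalIdeal.isMaximal A).ne_top)
  obtain ⟨f, hf⟩ := exists_nat_dim (A' ⧸ (maximalIdeal A).map (algebraMap A A'))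
  obtain ⟨a, ha⟩ := exists_nat_dim A
  obtain ⟨c, hc⟩ := exists_nat_dim (A ⧸ p)
  rw [h2, h4, hf, ha, hc] at h3
  rw [ha, hc]
  have : a + f ≤ c + f := by exact_mod_cast h3
  have : a ≤ c := by omega
  exact_mod_cast this

theorem height_covBy_of_flat (hcat : CAlg.IsCatenary A') (heq : EGA4.IsEquidim A')
    (x y : PrimeSpectrum A) (hxy : x ⋖ y) : y.asIdeal.height = x.asIdeal.height + 1 := by
  have hxylt : x.asIdeal < y.asIdeal := hxy.1
  obtain ⟨Q, hQ⟩ := exists_minimal_over_map (A' := A') y.asIdeal (Ideal.IsPrime.ne_top inferInstance)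
  haveI hQprime : Q.IsPrime := hQ.1.1
  have hQy : Q.comap (algebraMap A A') = y.asIdeal := comap_of_minimal_over_map _ Q hQ
  have hxQ : x.asIdeal.map (algebraMap A A') ≤ Q := (Ideal.map_mono hxylt.le).trans hQ.1.2
  obtain ⟨P, hP, hPQ⟩ := Ideal.exists_minimalPrimes_le hxQ
  haveI hPprime : P.IsPrime := hP.1.1
  have hPx : P.comap (algebraMap A A') = x.asIdeal := comap_of_minimal_over_map _ P hP
  obtain ⟨t, hty, htx⟩ := SetLike.exists_of_lt hxylt
  have htQ : algebraMap A A' t ∈ Q := by
    have : t ∈ Q.comap (algebraMap A A') := by rw [hQy]; exact hty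
    exact this
  have htP : algebraMap A A' t ∉ P := by
    intro h
    have : t ∈ P.comap (algebraMap A A') := h
    rw [hPx] at this
    exact htx this
  have hQmin : Q ∈ (P ⊔ Ideal.span {algebraMap A A' t}).minimalPrimes := by
    refine ⟨⟨hQprime, sup_le hPQ ?_⟩, ?_⟩
    · rw [Ideal.span_le, Set.singleton_subset_iff]
      exact htQ
    · rintro Q' ⟨hQ'prime, hQ'le⟩ hQ'Q
      haveI := hQ'prime
      have h1 : x.asIdeal ≤ Q'.comap (algebraMap A A') := by
        rw [← hPx]
        exact Ideal.comap_mono (le_sup_left.trans hQ'le)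
      have h2 : t ∈ Q'.comap (algebraMap A A') :=
        hQ'le (Ideal.mem_sup_right (Ideal.mem_span_singleton_self _))
      have h3 : Q'.comap (algebraMap A A') ≤ y.asIdeal := by
        rw [← hQy]
        exact Ideal.comap_mono hQ'Q
      have h4 : Q'.comap (algebraMap A A') = y.asIdeal := by
        by_contra hne
        have hprime : (Q'.comap (algebraMap A A')).IsPrime := Ideal.comap_isPrime _ _
        exact hxy.2 (c := ⟨Q'.comap (algebraMap A A'), hprime⟩)
          (show x.asIdeal < _ from lt_of_le_of_ne h1 (fun h => htx (h ▸ h2)))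
          (show _ < y.asIdeal from lt_of_le_of_ne h3 hne)
      have h5 : y.asIdeal.map (algebraMap A A') ≤ Q' := by
        rw [Ideal.map_le_iff_le_comap, h4]
      exact hQ.2 ⟨hQ'prime, h5⟩ hQ'Q
  have hcov := Groth.Agent.Helper2.Caten2.covBy_of_mem_minimalPrimes ⟨P, hPprime⟩
    (algebraMap A A' t) htP Q hQmin
  have hco := Groth.Agent.Helper2.Caten.coheight_of_covBy hcat hcov
  have e1 := Groth.Agent.Helper2.Caten2.height_add_coheight_eq hcat heq ⟨P, hPprime⟩
  have e2 := Groth.Agent.Helper2.Caten2.height_add_coheight_eq hcat heq ⟨Q, hQ.1.1⟩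
  have hhP : P.height = x.asIdeal.height :=
    Groth.Agent.Helper5.FlatEquidim.height_of_minimal_over_map x.asIdeal P hP
  have hhQ : Q.height = y.asIdeal.height :=
    Groth.Agent.Helper5.FlatEquidim.height_of_minimal_over_map y.asIdeal Q hQ
  rw [← e2, hco, ← PrimeSpectrum.height_eq_orderHeight, ← PrimeSpectrum.height_eq_orderHeight]
    at e1
  have e3 := WithBot.coe_injective e1
  have hfin : Order.coheight (⟨Q, hQ.1.1⟩ : PrimeSpectrum A') ≠ ⊤ :=
    (Groth.Agent.Helper2.Caten.coheight_lt_top _).ne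
  have e4 : P.height + 1 = Q.height := by
    apply ENat.add_left_injective_of_ne_top hfin
    show P.height + 1 + _ = Q.height + _
    rw [← e3]
    show P.height + 1 + Order.coheight (⟨Q, hQ.1.1⟩ : PrimeSpectrum A') =
      P.height + (Order.coheight (⟨Q, hQ.1.1⟩ : PrimeSpectrum A') + 1)
    ring
  rw [← hhQ, ← hhP, e4]

theorem isCatenary_of_flat (hcat : CAlg.IsCatenary A') (heq : EGA4.IsEquidim A') :
    CAlg.IsCatenary A :=
  Groth.Agent.Helper6.CMCaten.isCatenary_of_height_covBy (height_covBy_of_flat hcat heq)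

end Groth.Agent.Helper6.FlatCaten
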