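import Mathlib
import Groth.Prelude.Def_W4stktopologysheavesDim
universe u
open TopologicalSpace

namespace Groth.Agent.Helper6.Caten

section Poset

variable {P : Type*} [PartialOrder P] {Q : Type*} [PartialOrder Q]

/-- sup of lengths of chains starting at `T` and bounded by `T'` -/
noncomputable def csup (T T' : P) : ℕ∞ :=
  ⨆ (s : LTSeries P) (_ : s.head = T ∧ s.last ≤ T'), (s.length : ℕ∞)

/-- poset version of catenary -/
def Cat (P : Type*) [PartialOrder P] : Prop :=
  ∀ T T' : P, T ≤ T' → csup T T' ≠ ⊤ ∧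
    ∀ s : LTSeries P, s.head = T → s.last = T' →
      (∀ i : Fin s.length, s (Fin.castSucc i) ⋖ s (Fin.succ i)) → (s.length : ℕ∞) = csup T T'

/-- lift a chain whose members lie in the range of an order embedding -/
noncomputable def liftSeries (e : Q ↪o P) (s : LTSeries P) (h : ∀ i, s i ∈ Set.range e) :
    LTSeries Q :=
  LTSeries.mk s.length (fun i => (h i).choose) (fun i j hij => by
    rw [← e.lt_iff_lt, (h i).choose_spec, (h j).choose_spec]
    exact s.strictMono hij)

theorem liftSeries_apply (e : Q ↪o P) (s : LTSeries P) (h : ∀ i, s i ∈ Set.range e)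
    (i : Fin (s.length + 1)) : e (liftSeries e s h i) = s i := (h i).choose_spec

theorem mem_range_of_chain (e : Q ↪o P) (hconv : (Set.range e).OrdConnected) (a b : Q)
    (s : LTSeries P) (hh : s.head = e a) (hl : s.last ≤ e b) (i : Fin (s.length + 1)) :
    s i ∈ Set.range e := by
  refine hconv.out ⟨a, rfl⟩ ⟨b, rfl⟩ ⟨?_, ?_⟩
  · rw [← hh]; exact s.head_le i
  · exact (s.monotone (Fin.le_last i)).trans hl

theorem csup_eq (e : Q ↪o P) (hconv : (Set.range e).OrdConnected) (a b : Q) :
    csup a b = csup (e a) (e b) := by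
  apply le_antisymm
  · refine iSup_le fun s => iSup_le fun hs => ?_
    refine le_iSup_of_le (s.map e e.strictMono) (le_iSup_of_le ⟨?_, ?_⟩ le_rfl)
    · rw [LTSeries.head_map, hs.1]
    · rw [LTSeries.last_map]; exact e.monotone hs.2
  · refine iSup_le fun s => iSup_le fun hs => ?_
    have hmem := mem_range_of_chain e hconv a b s hs.1 hs.2
    refine le_iSup_of_le (liftSeries e s hmem) (le_iSup_of_le ⟨?_, ?_⟩ le_rfl)
    · apply e.injective
      rw [← hs.1]
      exact liftSeries_apply e s hmem 0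
    · rw [← e.le_iff_le]
      exact (liftSeries_apply e s hmem (Fin.last _)).le.trans hs.2

/-- catenary passes to order-connected sub-posets -/
theorem Cat.of_embedding (e : Q ↪o P) (hconv : (Set.range e).OrdConnected) (hP : Cat P) :
    Cat Q := by
  intro a b hab
  obtain ⟨h1, h2⟩ := hP (e a) (e b) (e.monotone hab)
  rw [csup_eq e hconv a b]
  refine ⟨h1, fun s hh hl hsat => ?_⟩
  have := h2 (s.map e e.strictMono) (by rw [LTSeries.head_map, hh]) (by rw [LTSeries.last_map, hl])
    (fun i => (hsat i).image e hconv)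
  exact this

/-- catenary can be checked on a family of order-connected sub-posets containing every pair -/
theorem Cat.of_cover {ι : Type*} {Q : ι → Type*} [∀ i, PartialOrder (Q i)] (e : ∀ i, Q i ↪o P)
    (hconv : ∀ i, (Set.range (e i)).OrdConnected) (hQ : ∀ i, Cat (Q i))
    (hcov : ∀ T T' : P, T ≤ T' → ∃ i, T ∈ Set.range (e i) ∧ T' ∈ Set.range (e i)) : Cat P := by
  intro T T' hTT'
  obtain ⟨i, ⟨a, rfl⟩, ⟨b, rfl⟩⟩ := hcov T T' hTT'
  have hab : a ≤ b := (e i).le_iff_le.mp hTT'
  obtain ⟨h1, h2⟩ := hQ i a b hab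
  rw [← csup_eq (e i) (hconv i) a b]
  refine ⟨h1, fun s hh hl hsat => ?_⟩
  have hmem := mem_range_of_chain (e i) (hconv i) a b s hh hl.le
  have := h2 (liftSeries (e i) s hmem)
    (by
      apply (e i).injective
      rw [← hh]
      exact liftSeries_apply (e i) s hmem 0)
    (by
      apply (e i).injective
      rw [← hl]
      exact liftSeries_apply (e i) s hmem (Fin.last _))
    (fun (k : Fin s.length) => by
      apply CovBy.of_image (e i)
      have h1 := liftSeries_apply (e i) s hmem (Fin.castSucc k)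
      have h2 := liftSeries_apply (e i) s hmem (Fin.succ k)
      exact (congrArg₂ (· ⋖ ·) h1 h2).mpr (hsat k))
  exact this

end Poset

theorem isCatenarySpace_iff (X : Type u) [TopologicalSpace X] :
    PtTop.IsCatenarySpace X ↔ Cat (IrreducibleCloseds X) := Iff.rfl


section Top

variable {X : Type u} [TopologicalSpace X]

/-- order embedding on irreducible closed subsets induced by an inducing map -/
noncomputable def mapEmb {Y : Type*} [TopologicalSpace Y] (f : Y → X) (hf : Topology.IsInducing f) :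
    IrreducibleCloseds Y ↪o IrreducibleCloseds X :=
  OrderEmbedding.ofMapLEIff (IrreducibleCloseds.map f hf.continuous) (by
    intro a b
    constructor
    · intro h
      have h' : closure (f '' (a : Set Y)) ⊆ closure (f '' (b : Set Y)) := h
      have := Set.preimage_mono (f := f) h'
      rw [← hf.closure_eq_preimage_closure_image, ← hf.closure_eq_preimage_closure_image,
        a.isClosed.closure_eq, b.isClosed.closure_eq] at this
      exact this
    · exact fun h => IrreducibleCloseds.map_mono hf.continuous h)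

theorem mapEmb_coe {Y : Type*} [TopologicalSpace Y] (f : Y → X) (hf : Topology.IsInducing f)
    (A : IrreducibleCloseds Y) : ((mapEmb f hf A : IrreducibleCloseds X) : Set X) =
      closure (f '' (A : Set Y)) := rfl

theorem exists_preimage {S U C : Set X} (hU : IsOpen U) (hS : S = U ∩ C)
    (Z : IrreducibleCloseds X) (hZC : (Z : Set X) ⊆ C) (hZU : ((Z : Set X) ∩ U).Nonempty) :
    ∃ A : IrreducibleCloseds S, mapEmb (Subtype.val : S → X) Topology.IsInducing.subtypeVal A = Z := by
  have hZS : (Z : Set X) ∩ U ⊆ S ∩ Z := by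
    rintro z ⟨hzZ, hzU⟩
    exact ⟨hS ▸ ⟨hzU, hZC hzZ⟩, hzZ⟩
  have hirr : IsIrreducible ((Subtype.val : S → X) ⁻¹' (Z : Set X)) := by
    obtain ⟨z, hz⟩ := hZU
    refine ⟨⟨⟨z, (hZS hz).1⟩, hz.1⟩, ?_⟩
    rintro u v hu hv ⟨x, hxZ, hxu⟩ ⟨y, hyZ, hyv⟩
    obtain ⟨u', hu', rfl⟩ := (Topology.IsInducing.subtypeVal.isOpen_iff).mp hu
    obtain ⟨v', hv', rfl⟩ := (Topology.IsInducing.subtypeVal.isOpen_iff).mp hv
    have hxS : x.1 ∈ U := (hS ▸ x.2 : x.1 ∈ U ∩ C).1
    have hyS : y.1 ∈ U := (hS ▸ y.2 : y.1 ∈ U ∩ C).1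
    obtain ⟨w, hwZ, ⟨hwu, hwU⟩, hwv, -⟩ := Z.isIrreducible.2 (u' ∩ U) (v' ∩ U) (hu'.inter hU)
      (hv'.inter hU) ⟨x.1, hxZ, hxu, hxS⟩ ⟨y.1, hyZ, hyv, hyS⟩
    exact ⟨⟨w, (hZS ⟨hwZ, hwU⟩).1⟩, hwZ, hwu, hwv⟩
  refine ⟨⟨_, hirr, Z.isClosed.preimage continuous_subtype_val⟩, ?_⟩
  apply IrreducibleCloseds.ext
  rw [mapEmb_coe]
  show closure (Subtype.val '' ((Subtype.val : S → X) ⁻¹' (Z : Set X))) = Z
  rw [Subtype.image_preimage_coe]
  apply subset_antisymm
  · exact closure_minimal Set.inter_subset_right Z.isClosed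
  · exact (subset_closure_inter_of_isPreirreducible_of_isOpen Z.isIrreducible.2 hU hZU).trans
      (closure_mono hZS)

theorem ordConnected_range {S : Set X} (hS : IsLocallyClosed S) :
    (Set.range (mapEmb (Subtype.val : S → X) Topology.IsInducing.subtypeVal)).OrdConnected := by
  obtain ⟨U, C, hU, hC, hSUC⟩ := hS
  constructor
  rintro _ ⟨A, rfl⟩ _ ⟨B, rfl⟩ Z ⟨hAZ, hZB⟩
  have hAZ' : closure (Subtype.val '' (A : Set S)) ⊆ (Z : Set X) := hAZ
  have hZB' : (Z : Set X) ⊆ closure (Subtype.val '' (B : Set S)) := hZB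
  have hZC : (Z : Set X) ⊆ C := by
    refine hZB'.trans (closure_minimal ?_ hC)
    rintro _ ⟨b, -, rfl⟩
    exact (hSUC ▸ b.2 : b.1 ∈ U ∩ C).2
  have hZU : ((Z : Set X) ∩ U).Nonempty := by
    obtain ⟨a, ha⟩ := A.isIrreducible.1
    exact ⟨a.1, hAZ' (subset_closure ⟨a, ha, rfl⟩), (hSUC ▸ a.2 : a.1 ∈ U ∩ C).1⟩
  exact exists_preimage hU hSUC Z hZC hZU

theorem isCatenarySpace_of_isLocallyClosed (hX : PtTop.IsCatenarySpace X) {S : Set X}
    (hS : IsLocallyClosed S) : PtTop.IsCatenarySpace S :=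
  Cat.of_embedding _ (ordConnected_range hS) hX

theorem isCatenarySpace_of_cover
    (h : ∀ x : X, ∃ U : Set X, IsOpen U ∧ x ∈ U ∧ PtTop.IsCatenarySpace U) :
    PtTop.IsCatenarySpace X := by
  choose U hU hxU hcat using h
  refine Cat.of_cover (ι := X) (Q := fun x => IrreducibleCloseds (U x))
    (fun x => mapEmb (Subtype.val : U x → X) Topology.IsInducing.subtypeVal)
    (fun x => ordConnected_range (hU x).isLocallyClosed) hcat ?_
  intro T T' hTT'
  obtain ⟨x, hx⟩ := T.isIrreducible.1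
  refine ⟨x, ?_, ?_⟩
  · exact exists_preimage (C := Set.univ) (hU x) (Set.inter_univ _).symm T (Set.subset_univ _)
      ⟨x, hx, hxU x⟩
  · exact exists_preimage (C := Set.univ) (hU x) (Set.inter_univ _).symm T' (Set.subset_univ _)
      ⟨x, hTT' hx, hxU x⟩

end Top

end Groth.Agent.Helper6.Caten
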