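import Mathlib
import Groth.Agent.Helper6.Caten
import Groth.Prelude.Def_Found
universe u
open TopologicalSpace

namespace Groth.Agent.Helper6.Caten

section Poset

variable {P : Type*} [PartialOrder P] {Q : Type*} [PartialOrder Q]

/-- ring-style catenary condition on a poset -/
def CatR (P : Type*) [PartialOrder P] : Prop :=
  (∀ p q : P, p ≤ q → ∃ n : ℕ, ∀ s : LTSeries P, s.head = p → s.last = q → s.length ≤ n) ∧
  ∀ s t : LTSeries P, s.head = t.head → s.last = t.last →
    (∀ i : Fin s.length, s (Fin.castSucc i) ⋖ s (Fin.succ i)) →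
    (∀ i : Fin t.length, t (Fin.castSucc i) ⋖ t (Fin.succ i)) →
    s.length = t.length

theorem exists_longer (s : LTSeries P) (i : Fin s.length) (c : P)
    (h1 : s (Fin.castSucc i) < c) (h2 : c < s (Fin.succ i)) :
    ∃ s' : LTSeries P, s'.head = s.head ∧ s'.last = s.last ∧ s'.length = s.length + 1 := by
  refine ⟨s.insertNth i c h1 h2, ?_, ?_, rfl⟩
  · show (Fin.castSucc i.succ).insertNth (α := fun _ => P) c s 0 = s 0
    have : (0 : Fin (s.length + 1 + 1)) = (Fin.castSucc i.succ).succAbove 0 := by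
      rw [Fin.succAbove_of_castSucc_lt]
      · rfl
      · exact Fin.castSucc_lt_castSucc_iff.mpr (Fin.succ_pos i)
    rw [this, Fin.insertNth_apply_succAbove]
  · show (Fin.castSucc i.succ).insertNth (α := fun _ => P) c s (Fin.last _) = s (Fin.last _)
    have : (Fin.last (s.length + 1)) = (Fin.castSucc i.succ).succAbove (Fin.last _) := by
      rw [Fin.succAbove_of_le_castSucc]
      · rfl
      · exact Fin.castSucc_le_castSucc_iff.mpr (Fin.le_last _)
    rw [this, Fin.insertNth_apply_succAbove]

theorem exists_saturated (a b : P) (N : ℕ)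
    (hN : ∀ s : LTSeries P, s.head = a → s.last = b → s.length ≤ N)
    (t : LTSeries P) (ha : t.head = a) (hb : t.last = b) :
    ∃ t' : LTSeries P, t'.head = a ∧ t'.last = b ∧ t.length ≤ t'.length ∧
      ∀ i : Fin t'.length, t' (Fin.castSucc i) ⋖ t' (Fin.succ i) := by
  obtain ⟨k, hk⟩ : ∃ k, k = N - t.length := ⟨_, rfl⟩
  induction k generalizing t with
  | zero =>
    refine ⟨t, ha, hb, le_rfl, fun i => ⟨t.strictMono (Fin.castSucc_lt_succ), fun c h1 h2 => ?_⟩⟩
    obtain ⟨s', hs1, hs2, hs3⟩ := exists_longer t i c h1 h2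
    have := hN s' (hs1.trans ha) (hs2.trans hb)
    omega
  | succ k ih =>
    by_cases hsat : ∀ i : Fin t.length, t (Fin.castSucc i) ⋖ t (Fin.succ i)
    · exact ⟨t, ha, hb, le_rfl, hsat⟩
    · push Not at hsat
      obtain ⟨i, hi⟩ := hsat
      have hlt : t (Fin.castSucc i) < t (Fin.succ i) := t.strictMono (Fin.castSucc_lt_succ)
      rw [not_covBy_iff hlt] at hi
      obtain ⟨c, h1, h2⟩ := hi
      obtain ⟨s', hs1, hs2, hs3⟩ := exists_longer t i c h1 h2
      obtain ⟨t', h1', h2', h3', h4'⟩ := ih s' (hs1.trans ha) (hs2.trans hb) (by omega)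
      exact ⟨t', h1', h2', by omega, h4'⟩

theorem cat_iff_catR : Cat P ↔ CatR P := by
  constructor
  · intro h
    constructor
    · intro p q hpq
      obtain ⟨h1, -⟩ := h p q hpq
      obtain ⟨n, hn⟩ := ENat.ne_top_iff_exists.mp h1
      refine ⟨n, fun s hs hl => ?_⟩
      have : (s.length : ℕ∞) ≤ csup p q :=
        le_iSup_of_le s (le_iSup_of_le ⟨hs, hl.le⟩ le_rfl)
      rw [← hn] at this
      exact_mod_cast this
    · intro s t hh hl hs ht
      have hle : s.head ≤ s.last := s.monotone (Fin.zero_le _)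
      obtain ⟨-, h2⟩ := h s.head s.last hle
      have e1 := h2 s rfl rfl hs
      have e2 := h2 t hh.symm hl.symm ht
      exact_mod_cast e1.trans e2.symm
  · intro h T T' hTT'
    obtain ⟨N, hN⟩ := h.1 T T' hTT'
    have hbound : ∀ s : LTSeries P, s.head = T → s.last ≤ T' → s.length ≤ N := by
      intro s hs hl
      rcases hl.eq_or_lt with hl | hl
      · exact hN s hs hl
      · have := hN (s.snoc T' hl) (by rw [RelSeries.head_snoc, hs]) (RelSeries.last_snoc _ _ _)
        have h' : (s.snoc T' hl).length = s.length + 1 := rfl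
        omega
    constructor
    · apply ne_of_lt
      refine lt_of_le_of_lt (b := (N : ℕ∞)) ?_ (ENat.coe_lt_top N)
      exact iSup_le fun s => iSup_le fun hs => by exact_mod_cast hbound s hs.1 hs.2
    · intro s hh hl hsat
      apply le_antisymm
      · exact le_iSup_of_le s (le_iSup_of_le ⟨hh, hl.le⟩ le_rfl)
      · refine iSup_le fun t => iSup_le fun ht => ?_
        -- extend t to reach T'
        obtain ⟨t1, ht1, ht2, ht3⟩ : ∃ t1 : LTSeries P, t1.head = T ∧ t1.last = T' ∧
            t.length ≤ t1.length := by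
          rcases ht.2.eq_or_lt with hl' | hl'
          · exact ⟨t, ht.1, hl', le_rfl⟩
          · exact ⟨t.snoc T' hl', by rw [RelSeries.head_snoc, ht.1], RelSeries.last_snoc _ _ _,
              Nat.le_succ _⟩
        obtain ⟨t', h1', h2', h3', h4'⟩ := exists_saturated T T' N hN t1 ht1 ht2
        have := h.2 s t' (hh.trans h1'.symm) (hl.trans h2'.symm) hsat h4'
        have h5 : t.length ≤ s.length := by omega
        exact_mod_cast h5


/-- reversal of a chain along a strictly antitone map -/
def revMap (f : P → Q) (hf : ∀ a b, a < b → f b < f a) (s : LTSeries P) : LTSeries Q :=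
  LTSeries.mk s.length (fun i => f (s i.rev))
    (fun _ _ hij => hf _ _ (s.strictMono (Fin.rev_lt_rev.mpr hij)))

theorem revMap_head (f : P → Q) (hf : ∀ a b, a < b → f b < f a) (s : LTSeries P) :
    (revMap f hf s).head = f s.last := by
  show f (s (Fin.rev 0)) = f (s (Fin.last _))
  rw [Fin.rev_zero]

theorem revMap_last (f : P → Q) (hf : ∀ a b, a < b → f b < f a) (s : LTSeries P) :
    (revMap f hf s).last = f s.head := by
  show f (s (Fin.rev (Fin.last _))) = f (s 0)
  rw [Fin.rev_last]

theorem revMap_covBy (f : P → Q) (g : Q → P) (hf : ∀ a b, a < b → f b < f a)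
    (hg : ∀ a b, a < b → g b < g a) (hgf : ∀ a, g (f a) = a)
    (s : LTSeries P) (hs : ∀ i : Fin s.length, s (Fin.castSucc i) ⋖ s (Fin.succ i))
    (i : Fin (revMap f hf s).length) :
    (revMap f hf s) (Fin.castSucc i) ⋖ (revMap f hf s) (Fin.succ i) := by
  have hi : i.rev = (i.rev : Fin s.length) := rfl
  show f (s (Fin.rev (Fin.castSucc i))) ⋖ f (s (Fin.rev (Fin.succ i)))
  have key := hs (Fin.rev (i : Fin s.length))
  have e1 : Fin.rev (Fin.castSucc (i : Fin s.length)) = Fin.succ (Fin.rev (i : Fin s.length)) :=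
    Fin.rev_castSucc _
  have e2 : Fin.rev (Fin.succ (i : Fin s.length)) = Fin.castSucc (Fin.rev (i : Fin s.length)) :=
    Fin.rev_succ _
  have goal : f (s (Fin.succ (Fin.rev (i : Fin s.length)))) ⋖
      f (s (Fin.castSucc (Fin.rev (i : Fin s.length)))) := by
    refine ⟨hf _ _ key.lt, fun c h1 h2 => ?_⟩
    refine key.2 (c := g c) ?_ ?_
    · have := hg _ _ h2
      rwa [hgf] at this
    · have := hg _ _ h1
      rwa [hgf] at this
  exact (congrArg₂ (fun a b => f (s a) ⋖ f (s b)) e1 e2).mpr goal

theorem CatR.of_anti (f : P → Q) (g : Q → P) (hf : ∀ a b, a < b → f b < f a)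
    (hg : ∀ a b, a < b → g b < g a) (hgf : ∀ a, g (f a) = a) (hQ : CatR Q) : CatR P := by
  constructor
  · intro p q hpq
    have hle : f q ≤ f p := by
      rcases hpq.eq_or_lt with h | h
      · rw [h]
      · exact (hf _ _ h).le
    obtain ⟨N, hN⟩ := hQ.1 _ _ hle
    refine ⟨N, fun s hs hl => ?_⟩
    exact hN (revMap f hf s) (by rw [revMap_head, hl]) (by rw [revMap_last, hs])
  · intro s t hh hl hs ht
    exact hQ.2 (revMap f hf s) (revMap f hf t) (by rw [revMap_head, revMap_head, hl])
      (by rw [revMap_last, revMap_last, hh]) (revMap_covBy f g hf hg hgf s hs)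
      (revMap_covBy f g hf hg hgf t ht)

theorem catR_iff_of_orderIso_dual (e : P ≃o Qᵒᵈ) : CatR P ↔ CatR Q := by
  constructor
  · intro h
    refine CatR.of_anti (fun b => e.symm (OrderDual.toDual b)) (fun a => OrderDual.ofDual (e a))
      ?_ ?_ ?_ h
    · intro a b hab
      exact e.symm.lt_iff_lt.mpr (OrderDual.toDual_lt_toDual.mpr hab)
    · intro a b hab
      exact OrderDual.ofDual_lt_ofDual.mpr (e.lt_iff_lt.mpr hab)
    · intro a
      simp
  · intro h
    refine CatR.of_anti (fun a => OrderDual.ofDual (e a)) (fun b => e.symm (OrderDual.toDual b))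
      ?_ ?_ ?_ h
    · intro a b hab
      exact OrderDual.ofDual_lt_ofDual.mpr (e.lt_iff_lt.mpr hab)
    · intro a b hab
      exact e.symm.lt_iff_lt.mpr (OrderDual.toDual_lt_toDual.mpr hab)
    · intro a
      simp

end Poset

theorem isCatenary_iff_catR (R : Type u) [CommRing R] :
    CAlg.IsCatenary R ↔ CatR (PrimeSpectrum R) := Iff.rfl

/-- the ring-theoretic and topological notions of catenary agree on a prime spectrum -/
theorem isCatenary_iff_isCatenarySpace (R : Type u) [CommRing R] :
    CAlg.IsCatenary R ↔ PtTop.IsCatenarySpace (PrimeSpectrum R) := by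
  rw [isCatenary_iff_catR, isCatenarySpace_iff, cat_iff_catR]
  exact catR_iff_of_orderIso_dual (PrimeSpectrum.pointsEquivIrreducibleCloseds R)

section Top

variable {X : Type u} [TopologicalSpace X]

theorem range_mapEmb_of_homeomorph {Y : Type*} [TopologicalSpace Y] (h : Y ≃ₜ X) :
    Set.range (mapEmb h h.isInducing) = Set.univ := by
  rw [Set.eq_univ_iff_forall]
  intro Z
  refine ⟨⟨h ⁻¹' (Z : Set X), ?_, Z.isClosed.preimage h.continuous⟩, ?_⟩
  · have := Z.isIrreducible.image h.symm h.symm.continuous.continuousOn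
    rwa [h.symm.image_eq_preimage_symm] at this
  · apply IrreducibleCloseds.ext
    rw [mapEmb_coe]
    show closure (h '' (h ⁻¹' (Z : Set X))) = Z
    rw [h.image_preimage, Z.isClosed.closure_eq]

theorem cat_of_homeomorph {Y : Type*} [TopologicalSpace Y] (h : Y ≃ₜ X)
    (hX : Cat (IrreducibleCloseds X)) : Cat (IrreducibleCloseds Y) := by
  refine Cat.of_embedding (mapEmb h h.isInducing) ?_ hX
  rw [range_mapEmb_of_homeomorph]
  exact Set.ordConnected_univ

theorem isCatenarySpace_iff_of_homeomorph {Y : Type u} [TopologicalSpace Y] (h : Y ≃ₜ X) :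
    PtTop.IsCatenarySpace Y ↔ PtTop.IsCatenarySpace X :=
  ⟨fun hY => cat_of_homeomorph h.symm hY, fun hX => cat_of_homeomorph h hX⟩

theorem range_mapEmb_of_generizations {Y : Type*} [TopologicalSpace Y] [QuasiSober X]
    (f : Y → X) (hf : Topology.IsInducing f) (x : X) (hr : Set.range f = {y | y ⤳ x}) :
    Set.range (mapEmb f hf) = {Z : IrreducibleCloseds X | x ∈ (Z : Set X)} := by
  obtain ⟨m, hm⟩ : x ∈ Set.range f := by
    rw [hr]
    exact specializes_rfl
  ext Z
  constructor
  · rintro ⟨A, rfl⟩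
    show x ∈ ((mapEmb f hf A : IrreducibleCloseds X) : Set X)
    rw [mapEmb_coe]
    obtain ⟨a, ha⟩ := A.isIrreducible.1
    have h1 : f a ⤳ f m := by
      have : f a ∈ Set.range f := ⟨a, rfl⟩
      rw [hr] at this
      rw [hm]
      exact this
    have h2 : a ⤳ m := hf.specializes_iff.mp h1
    have h3 : m ∈ (A : Set Y) := h2.mem_closed A.isClosed ha
    exact subset_closure ⟨m, h3, hm⟩
  · intro hx
    have hx' : x ∈ (Z : Set X) := hx
    obtain ⟨η, hη⟩ := QuasiSober.sober Z.isIrreducible Z.isClosed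
    have h1 : η ⤳ x := by
      rw [specializes_iff_mem_closure, hη.def]
      exact hx'
    obtain ⟨ξ, hξ⟩ : η ∈ Set.range f := by
      rw [hr]
      exact h1
    refine ⟨⟨closure {ξ}, isIrreducible_singleton.closure, isClosed_closure⟩, ?_⟩
    apply IrreducibleCloseds.ext
    rw [mapEmb_coe]
    show closure (f '' closure {ξ}) = Z
    rw [closure_image_closure hf.continuous, Set.image_singleton, hξ, hη.def]

end Top

end Groth.Agent.Helper6.Caten
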