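import Mathlib
import Groth.Agent.Helper6.Caten
import Groth.Agent.Helper6.Caten2
universe u

namespace Groth.Agent.Helper6.Caten

/-- catenary rings are stable under localization -/
theorem isCatenary_of_isLocalization {R S : Type u} [CommRing R] [CommRing S] [Algebra R S]
    (M : Submonoid R) [IsLocalization M S] (h : CAlg.IsCatenary R) : CAlg.IsCatenary S := by
  rw [isCatenary_iff_catR, ← cat_iff_catR] at h ⊢
  let e : PrimeSpectrum S ↪o PrimeSpectrum R :=
    OrderEmbedding.ofMapLEIff (PrimeSpectrum.comap (algebraMap R S)) (by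
      intro p q
      constructor
      · intro hpq
        have h1 : p.asIdeal.under R ≤ q.asIdeal.under R := hpq
        have := Ideal.map_mono (f := algebraMap R S) h1
        rwa [IsLocalization.map_under M S, IsLocalization.map_under M S] at this
      · intro hpq
        exact Ideal.comap_mono hpq)
  refine Cat.of_embedding e ?_ h
  have : Set.range e = {p | Disjoint (M : Set R) p.asIdeal} :=
    PrimeSpectrum.localization_comap_range S M
  rw [this]
  apply IsLowerSet.ordConnected
  intro p p' hle hp
  exact Disjoint.mono_right (SetLike.coe_subset_coe.mpr hle) hp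

/-- catenary rings are stable under ring isomorphisms -/
theorem isCatenary_of_ringEquiv {R S : Type u} [CommRing R] [CommRing S] (e : R ≃+* S)
    (h : CAlg.IsCatenary R) : CAlg.IsCatenary S := by
  letI : Algebra R S := e.toRingHom.toAlgebra
  haveI : IsLocalization (⊥ : Submonoid R) S := by
    rw [isLocalization_iff]
    refine ⟨?_, ?_, ?_⟩
    · rintro ⟨y, hy⟩
      rw [Submonoid.mem_bot] at hy
      subst hy
      simp
    · intro z
      refine ⟨(e.symm z, 1), ?_⟩
      show z * e 1 = e (e.symm z)
      simp
    · intro x y hxy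
      exact ⟨1, by rw [e.injective hxy]⟩
  exact isCatenary_of_isLocalization (⊥ : Submonoid R) h

/-- a ring containing a subalgebra `B` is a localization of `B` as soon as it is generated by
fractions -/
theorem isLocalization_of_subalgebra {A T : Type*} [CommRing A] [CommRing T] [Algebra A T]
    (B : Subalgebra A T) (N : Submonoid B)
    (hunit : ∀ n ∈ N, IsUnit ((n : B) : T))
    (hsurj : ∀ t : T, ∃ n ∈ N, ∃ b : B, t * ((n : B) : T) = b) : IsLocalization N T := by
  rw [isLocalization_iff]
  refine ⟨?_, ?_, ?_⟩
  · rintro ⟨y, hy⟩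
    exact hunit y hy
  · intro z
    obtain ⟨n, hn, b, hb⟩ := hsurj z
    exact ⟨(b, ⟨n, hn⟩), hb⟩
  · intro x y hxy
    exact ⟨1, by rw [Subtype.ext (hxy : (x : T) = y)]⟩

theorem isCatenary_of_finiteType_over_localization {A R C : Type u} [CommRing A] [CommRing R]
    [CommRing C] [Algebra A R] (M : Submonoid A) [IsLocalization M R] [Algebra R C]
    [Algebra.FiniteType R C]
    (H : ∀ (B : Type u) [CommRing B] [Algebra A B], Algebra.FiniteType A B → CAlg.IsCatenary B) :
    CAlg.IsCatenary C := by
  letI : Algebra A C := ((algebraMap R C).comp (algebraMap A R)).toAlgebra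
  haveI : IsScalarTower A R C := IsScalarTower.of_algebraMap_eq fun _ => rfl
  obtain ⟨t, ht⟩ := (Algebra.FiniteType.out : (⊤ : Subalgebra R C).FG)
  let B : Subalgebra A C := Algebra.adjoin A (t : Set C)
  have hB : Algebra.FiniteType A B :=
    (Subalgebra.fg_iff_finiteType _).mp (Subalgebra.fg_adjoin_finset t)
  have hcatB := H B hB
  let N : Submonoid B := Algebra.algebraMapSubmonoid B M
  haveI : IsLocalization N C := by
    apply isLocalization_of_subalgebra B N
    · rintro n ⟨a, ha, rfl⟩
      show IsUnit (algebraMap R C (algebraMap A R a))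
      exact (IsLocalization.map_units R ⟨a, ha⟩).map _
    · intro c
      have hc : c ∈ Algebra.adjoin R (t : Set C) := by
        rw [ht]
        exact Algebra.mem_top
      induction hc using Algebra.adjoin_induction with
      | mem x hx =>
        exact ⟨1, one_mem _, ⟨x, Algebra.subset_adjoin hx⟩, by simp⟩
      | algebraMap r =>
        obtain ⟨⟨a, m⟩, hm⟩ := IsLocalization.surj M r
        refine ⟨algebraMap A B m, ⟨m, m.2, rfl⟩, algebraMap A B a, ?_⟩
        show algebraMap R C r * algebraMap R C (algebraMap A R m) =
          algebraMap R C (algebraMap A R a)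
        rw [← map_mul, hm]
      | add x y _ _ hx hy =>
        obtain ⟨n1, hn1, b1, e1⟩ := hx
        obtain ⟨n2, hn2, b2, e2⟩ := hy
        refine ⟨n1 * n2, mul_mem hn1 hn2, b1 * n2 + b2 * n1, ?_⟩
        push_cast
        rw [← e1, ← e2]
        ring
      | mul x y _ _ hx hy =>
        obtain ⟨n1, hn1, b1, e1⟩ := hx
        obtain ⟨n2, hn2, b2, e2⟩ := hy
        refine ⟨n1 * n2, mul_mem hn1 hn2, b1 * b2, ?_⟩
        push_cast
        rw [← e1, ← e2]
        ring
  exact isCatenary_of_isLocalization N hcatB

theorem isCatenary_localization_of_finiteType {A B R T : Type u} [CommRing A] [CommRing B]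
    [CommRing R] [CommRing T] [Algebra A B] [Algebra.FiniteType A B] [Algebra A R] [Algebra B T]
    [Algebra R T] [Algebra A T] [IsScalarTower A B T] [IsScalarTower A R T]
    (q : Ideal B) [q.IsPrime] [IsLocalization.AtPrime T q]
    (H : ∀ (C : Type u) [CommRing C] [Algebra R C], Algebra.FiniteType R C → CAlg.IsCatenary C) :
    CAlg.IsCatenary T := by
  classical
  obtain ⟨t, ht⟩ := (Algebra.FiniteType.out : (⊤ : Subalgebra A B).FG)
  let C : Subalgebra R T := Algebra.adjoin R ((t.image (algebraMap B T) : Finset T) : Set T)
  have hC : Algebra.FiniteType R C :=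
    (Subalgebra.fg_iff_finiteType _).mp (Subalgebra.fg_adjoin_finset _)
  have hcatC := H C hC
  have hBC : ∀ b : B, algebraMap B T b ∈ C := by
    intro b
    have hb : b ∈ Algebra.adjoin A (t : Set B) := by
      rw [ht]
      exact Algebra.mem_top
    induction hb using Algebra.adjoin_induction with
    | mem x hx =>
      apply Algebra.subset_adjoin
      rw [Finset.coe_image]
      exact ⟨x, hx, rfl⟩
    | algebraMap a =>
      rw [← IsScalarTower.algebraMap_apply, IsScalarTower.algebraMap_apply A R T]
      exact Subalgebra.algebraMap_mem _ _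
    | add x y _ _ hx hy =>
      rw [map_add]
      exact add_mem hx hy
    | mul x y _ _ hx hy =>
      rw [map_mul]
      exact mul_mem hx hy
  let ιr : B →+* C := (algebraMap B T).codRestrict C hBC
  let N : Submonoid C := q.primeCompl.map (ιr : B →* C)
  haveI : IsLocalization N T := by
    apply isLocalization_of_subalgebra C N
    · rintro n ⟨m, hm, rfl⟩
      exact IsLocalization.map_units T (⟨m, hm⟩ : q.primeCompl)
    · intro z
      obtain ⟨⟨b, m⟩, hm⟩ := IsLocalization.surj q.primeCompl z
      exact ⟨ιr m, ⟨m, m.2, rfl⟩, ιr b, hm⟩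
  exact isCatenary_of_isLocalization N hcatC

end Groth.Agent.Helper6.Caten
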