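import Mathlib
import Groth.Prelude
import Groth.Agent.S0580
import Groth.Agent.S0603
import Groth.Agent.S9126
import Groth.Agent.S2635
import Groth.Agent.S2629
import Groth.Agent.S2630
import Groth.Agent.Helper2.CplMap
import Groth.Agent.Helper2.RegCM
import Groth.Agent.Helper2.CplCM
import Groth.Agent.Helper2.PSReg
import Groth.Agent.Helper6.ComplDim

/-!
# Quotients of regular rings, descent of formal equidimensionality along flat local maps
-/

set_option autoImplicit false
universe u

namespace Groth.Agent.Helper6.Ratliff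

open IsLocalRing

/-- `D` is a quotient of a regular ring -/
def QReg (D : Type u) [CommRing D] : Prop :=
  ∃ (R : Type u) (_ : CommRing R) (_ : IsRegularRing R) (f : R →+* D), Function.Surjective f

theorem QReg.of_surjective {D D' : Type u} [CommRing D] [CommRing D'] (h : QReg D)
    (g : D →+* D') (hg : Function.Surjective g) : QReg D' := by
  obtain ⟨R, _, _, f, hf⟩ := h
  exact ⟨R, _, inferInstance, g.comp f, hg.comp hf⟩

theorem QReg.mvPolynomial {D : Type u} [CommRing D] (h : QReg D) (n : ℕ) :
    QReg (MvPolynomial (Fin n) D) := by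
  obtain ⟨R, _, _, f, hf⟩ := h
  exact ⟨MvPolynomial (Fin n) R, inferInstance, inferInstance, MvPolynomial.map f,
    MvPolynomial.map_surjective f hf⟩

theorem isRegularRing_of_isField (Λ : Type u) [CommRing Λ] (h : IsField Λ) : IsRegularRing Λ := by
  haveI : IsDomain Λ := h.isDomain
  haveI : IsPrincipalIdealRing Λ := h.isPrincipalIdealRing
  infer_instance

theorem QReg.of_complete (C : Type u) [CommRing C] [IsLocalRing C] [IsNoetherianRing C]
    [IsAdicComplete (maximalIdeal C) C] : QReg C := by
  obtain ⟨Λ, _, n, f, hΛ, hf⟩ :=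
    Groth.Agent.S0580.result C (maximalIdeal C).fg_of_isNoetherianRing
  have hreg : IsRegularRing Λ := by
    rcases hΛ with h | h
    · exact isRegularRing_of_isField Λ h
    · obtain ⟨hd, hdvr, -⟩ := h
      infer_instance
  exact ⟨MvPowerSeries (Fin n) Λ, inferInstance,
    Groth.Agent.Helper2.PSReg.isRegularRing_mvPowerSeries Λ n, f, hf⟩

theorem QReg.isUniversallyCatenary {D : Type u} [CommRing D] (h : QReg D) :
    CAlg.IsUniversallyCatenary D := by
  obtain ⟨R, _, _, f, hf⟩ := h
  letI := f.toAlgebra
  haveI : LocCoh.IsCohenMacaulayRing R := Groth.Agent.Helper2.CplCM.cm_of_isRegularRing R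
  haveI : Algebra.FiniteType R D :=
    Algebra.FiniteType.of_surjective (Algebra.ofId R D) hf
  exact Groth.Agent.S9126.result R D (Groth.Agent.S0603.result R)

theorem QReg.isCatenary {D : Type u} [CommRing D] (h : QReg D) : CAlg.IsCatenary D :=
  h.isUniversallyCatenary.2 D inferInstance

theorem QReg.isFormallyCatenary {D : Type u} [CommRing D] [IsNoetherianRing D] [IsLocalRing D]
    (h : QReg D) : EGA4.IsFormallyCatenary D := by
  obtain ⟨R, _, _, f, hf⟩ := h
  let P : Ideal R := (maximalIdeal D).comap f
  haveI : P.IsPrime := Ideal.comap_isPrime f _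
  have hu : ∀ y : P.primeCompl, IsUnit (f y) := by
    intro y
    by_contra hy
    exact y.2 ((IsLocalRing.mem_maximalIdeal _).mpr hy)
  let g : Localization.AtPrime P →+* D := IsLocalization.lift (M := P.primeCompl) (g := f) hu
  letI := g.toAlgebra
  haveI : LocCoh.IsCohenMacaulayLocalRing (Localization.AtPrime P) :=
    { supportDim_eq_depth := Groth.Agent.Helper2.RegCM.cm_of_isRegularLocalRing _ }
  have hs : Function.Surjective (algebraMap (Localization.AtPrime P) D) := by
    intro d
    obtain ⟨r, rfl⟩ := hf d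
    exact ⟨algebraMap R _ r, IsLocalization.lift_eq _ _⟩
  exact Groth.Agent.S2635.result (Localization.AtPrime P) D hs

theorem QReg.fe_iff {D : Type u} [CommRing D] [IsNoetherianRing D] [IsLocalRing D]
    (h : QReg D) : EGA4.IsFormallyEquidim D ↔ EGA4.IsEquidim D := by
  rw [Groth.Agent.S2629.result D]
  exact ⟨fun h' => h'.1, fun he => ⟨he, fun p _ _ => h.isFormallyCatenary p⟩⟩

section Cpl

variable (A : Type u) [CommRing A] [IsNoetherianRing A] [IsLocalRing A]

instance instNoethCpl : IsNoetherianRing (EGA4.Cpl A) :=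
  Groth.Agent.Helper6.ComplDim.instNoeth A (maximalIdeal A)

theorem qreg_cpl : QReg (EGA4.Cpl A) := QReg.of_complete _

theorem isCatenary_cpl : CAlg.IsCatenary (EGA4.Cpl A) := (qreg_cpl A).isCatenary

end Cpl

theorem isLocalHom_of_faithfullyFlat (A B : Type u) [CommRing A] [CommRing B] [IsLocalRing A]
    [IsLocalRing B] [Algebra A B] [Module.FaithfullyFlat A B] : IsLocalHom (algebraMap A B) := by
  apply ((IsLocalRing.local_hom_TFAE (algebraMap A B)).out 0 2).mpr
  apply IsLocalRing.le_maximalIdeal
  intro hmap
  apply Module.FaithfullyFlat.submodule_ne_top (R := A) (M := B) (maximalIdeal.isMaximal A)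
  rw [Ideal.smul_top_eq_map, hmap]
  rfl

/-- formal equidimensionality descends along flat local homomorphisms -/
theorem fe_descent (A A' : Type u) [CommRing A] [CommRing A'] [IsNoetherianRing A]
    [IsNoetherianRing A'] [IsLocalRing A] [IsLocalRing A'] [Algebra A A']
    [IsLocalHom (algebraMap A A')] [Module.Flat A A'] (h : EGA4.IsFormallyEquidim A') :
    EGA4.IsFormallyEquidim A := by
  obtain ⟨alg, tower, ff⟩ := Groth.Agent.Helper2.CplMap.exists_algebra A A'
  letI := alg
  haveI : IsLocalHom (algebraMap (EGA4.Cpl A) (EGA4.Cpl A')) :=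
    isLocalHom_of_faithfullyFlat _ _
  exact (Groth.Agent.S2630.result (EGA4.Cpl A) (EGA4.Cpl A') h (isCatenary_cpl A')).1

end Groth.Agent.Helper6.Ratliff
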