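import Mathlib
import Groth.Prelude.Def_CohCmp
import Groth.Agent.Helper4.EpiStalk
import Groth.Agent.Helper1.RpCmpNat
import Groth.Agent.Helper9.ModCechExt

set_option autoImplicit false
set_option linter.style.haveILetI false
set_option linter.unusedSectionVars false
set_option linter.unusedVariables false

/-!
# The comparison `H^p(f⁻¹V, F) → Γ(V, R^p f_* F)` is locally surjective
-/

namespace Groth.Agent.Helper6.SectCmpSurj

open CategoryTheory Limits Opposite TopologicalSpace AlgebraicGeometry
  AlgebraicGeometry.Scheme.Modules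
open Groth.Agent.Helper9.RpushCmp

universe u

variable {X Y : Scheme.{u}} (f : X ⟶ Y)

/-- the restriction of a short exact sequence of modules to an open, as abelian sheaves -/
lemma shortExact_toAbOn (U : X.Opens) {S : ShortComplex X.Modules} (hS : S.ShortExact) :
    (S.map (CohCmp.toAbOn X U)).ShortExact := by
  haveI : PreservesFiniteLimits (restrictFunctor U.ι) := inferInstance
  haveI : PreservesFiniteColimits (restrictFunctor U.ι) := inferInstance
  haveI : PreservesFiniteLimits (CohCmp.toAbOn X U) := comp_preservesFiniteLimits _ _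
  haveI : PreservesFiniteColimits (CohCmp.toAbOn X U) := comp_preservesFiniteColimits _ _
  exact hS.map_of_exact (CohCmp.toAbOn X U)

lemma app_map {M N : Y.Modules} (φ : M ⟶ N) {V W : Y.Opens} (i : W ⟶ V) (t : Γ(M, V)) :
    φ.app W (M.presheaf.map i.op t) = N.presheaf.map i.op (φ.app V t) :=
  congr($(φ.mapPresheaf.naturality i.op) t)

variable [HasInjectiveResolutions X.Modules] {Δ : RDer.DerivedLES (pushforward f)}
  (E : CohCmp.SectCmp f Δ)

theorem main (p : ℕ) : ∀ (F : X.Modules) (V : Y.Opens)
    (t : ((Coh.Rpush f p).obj F).presheaf.obj (op V)) (y : Y) (hy : y ∈ V),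
    ∃ (W : Y.Opens) (hWV : W ≤ V), y ∈ W ∧
      ∃ x : Coh.HHon X F (f ⁻¹ᵁ W) p,
        E.ε W F p x = ((Coh.Rpush f p).obj F).presheaf.map (homOfLE hWV).op t := by
  induction p with
  | zero =>
    intro F V t y hy
    haveI : IsIso ((pushforward f).toRightDerivedZero.app F) := inferInstance
    refine ⟨V, le_rfl, hy, ?_⟩
    obtain ⟨s, hs⟩ : ∃ s : Γ((pushforward f).obj F, V),
        ((pushforward f).toRightDerivedZero.app F).app V s = t := by
      refine ⟨(inv ((pushforward f).toRightDerivedZero.app F)).app V t, ?_⟩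
      rw [← ConcreteCategory.comp_apply, ← Hom.comp_app, IsIso.inv_hom_id, Hom.id_app]
      rfl
    refine ⟨CohPull.sectH0 F (f ⁻¹ᵁ V) s, ?_⟩
    rw [E.zero, hs]
    have h2 : (homOfLE (le_refl V)).op = 𝟙 (op V) := rfl
    rw [h2, CategoryTheory.Functor.map_id]
    rfl
  | succ p ih =>
    intro F V t y hy
    haveI : EnoughInjectives X.Modules :=
      Groth.Agent.Helper9.ModCechExt.enoughInjectives_mod X.ringCatSheaf
    let S : ShortComplex X.Modules :=
      ShortComplex.mk (Injective.ι F) (cokernel.π (Injective.ι F)) (cokernel.condition _)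
    have hS : S.ShortExact :=
      { exact := ShortComplex.exact_cokernel _
        mono_f := by dsimp [S]; infer_instance
        epi_g := by dsimp [S]; infer_instance }
    haveI hI : Injective S.X₂ := by dsimp [S]; infer_instance
    haveI hδ : Epi (Δ.δ S hS p (p + 1) rfl) := by
      have hex := Δ.exact₁ S hS p (p + 1) rfl
      exact hex.epi_f ((Functor.isZero_rightDerived_obj_injective_succ _ _ _).eq_of_tgt _ _)
    obtain ⟨W, hWV, hyW, t', ht'⟩ :=
      Groth.Agent.Helper4.EpiStalk.exists_local_lift_of_epi (Δ.δ S hS p (p + 1) rfl) V t y hy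
    obtain ⟨W', hW'W, hyW', x', hx'⟩ := ih S.X₃ W t' y hyW
    have hA := shortExact_toAbOn (f ⁻¹ᵁ W') hS
    refine ⟨W', hW'W.trans hWV, hyW', CohCmp.extδ hA p x', ?_⟩
    have h1 := E.delta W' S hS hA p x'
    refine h1.trans ?_
    rw [hx', app_map, ht', ← ConcreteCategory.comp_apply, ← CategoryTheory.Functor.map_comp]
    rfl

end Groth.Agent.Helper6.SectCmpSurj
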