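import Mathlib
import Groth.Prelude.Def_CohTop
import Groth.Agent.Lead.CohTopB

set_option autoImplicit false
set_option linter.style.haveILetI false
set_option linter.unusedSectionVars false
set_option linter.unusedVariables false

/-!
# Injective sheaves of modules on a ringed space are flasque
-/

namespace Groth.Agent.Helper6.FlasqueMod

open CategoryTheory Limits Opposite TopologicalSpace

universe u

variable {X : TopCat.{u}} (R : Sheaf (Opens.grothendieckTopology X) RingCat.{u})

/-- free module + sheafification -/
noncomputable abbrev LM : ((Opens X)ᵒᵖ ⥤ Type u) ⥤ SheafOfModules.{u} R :=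
  PresheafOfModules.free R.obj ⋙ PresheafOfModules.sheafification.{u} (𝟙 R.obj)

/-- the underlying presheaf of sets -/
noncomputable abbrev RM : SheafOfModules.{u} R ⥤ ((Opens X)ᵒᵖ ⥤ Type u) :=
  (SheafOfModules.forget.{u} R ⋙ PresheafOfModules.restrictScalars (𝟙 R.obj)) ⋙
    (PresheafOfModules.toPresheaf R.obj ⋙ (Functor.whiskeringRight _ _ _).obj (forget Ab))

/-- the adjunction -/
noncomputable def adjM : LM R ⊣ RM R :=
  (PresheafOfModules.freeAdjunction R.obj).comp
    (PresheafOfModules.sheafificationAdjunction.{u} (𝟙 R.obj))

/-- the free sheaf of modules on an open -/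
noncomputable abbrev freeM (U : Opens X) : SheafOfModules.{u} R := (LM R).obj (yoneda.obj U)

/-- functoriality in the open -/
noncomputable abbrev freeMapM {U V : Opens X} (i : V ⟶ U) : freeM R V ⟶ freeM R U :=
  (LM R).map (yoneda.map i)

/-- maps out of the free module are sections -/
noncomputable def homEquivM (U : Opens X) (M : SheafOfModules.{u} R) :
    (freeM R U ⟶ M) ≃ ((RM R).obj M).obj (op U) :=
  ((adjM R).homEquiv (yoneda.obj U) M).trans yonedaEquiv

lemma homEquivM_map {U V : Opens X} (i : V ⟶ U) {M : SheafOfModules.{u} R}
    (φ : freeM R U ⟶ M) :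
    homEquivM R V M (freeMapM R i ≫ φ) = ((RM R).obj M).map i.op (homEquivM R U M φ) := by
  unfold homEquivM
  simp only [Equiv.trans_apply]
  rw [Adjunction.homEquiv_naturality_left]
  exact (yonedaEquiv_naturality _ _).symm

instance mono_freeMapM {U V : Opens X} (i : V ⟶ U) : Mono (freeMapM R i) := by
  have h2 : Mono ((PresheafOfModules.free R.obj).map (yoneda.map i)) := by
    apply PresheafOfModules.mono_of_injective
    intro W
    haveI : Subsingleton ((yoneda.obj V).obj W) := inferInstanceAs (Subsingleton (W.unop ⟶ V))
    exact Finsupp.mapDomain_injective (Function.injective_of_subsingleton _)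
  exact (PresheafOfModules.sheafification.{u} (𝟙 R.obj)).map_mono _

theorem isFlasque_toSheaf_of_injective (J : SheafOfModules.{u} R) [Injective J] :
    TopCat.Sheaf.IsFlasque ((SheafOfModules.toSheaf R).obj J) where
  epi {U V} i := by
    rw [AddCommGrpCat.epi_iff_surjective]
    intro s
    let φ := (homEquivM R V.unop J).symm s
    let ψ := Injective.factorThru φ (freeMapM R i.unop)
    refine ⟨homEquivM R U.unop J ψ, ?_⟩
    have := homEquivM_map R i.unop ψ
    rw [Injective.comp_factorThru] at this
    simp only [φ, Equiv.apply_symm_apply] at this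
    exact this.symm

end Groth.Agent.Helper6.FlasqueMod
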