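import Mathlib
import Groth.Prelude.Def_CohPull
import Groth.Agent.S0453

set_option autoImplicit false
set_option linter.style.haveILetI false
set_option linter.unusedSectionVars false
set_option linter.unusedVariables false

/-!
# The edge map `H^p(Y, f_* A) → H^p(X, A)` for abelian sheaves on spaces
-/

namespace Groth.Agent.Helper6.PushEdge1

open CategoryTheory Limits Abelian Opposite TopologicalSpace

universe u

variable {X Y : TopCat.{u}} (f : X ⟶ Y)

lemma pullAb_apply (M : CohTop.Ab Y) (p : ℕ) (x : Sheaf.H M p) :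
    CohPull.pullAb f M p x =
      (Ext.mk₀ (CohPull.oneTo f)).comp (x.mapExactFunctor (CohPull.inv f)) (zero_add p) := rfl

lemma pullAb_natural {M N : CohTop.Ab Y} (φ : M ⟶ N) (p : ℕ) (x : Sheaf.H M p) :
    CohPull.pullAb f N p (Sheaf.H.map φ p x) =
      Sheaf.H.map ((CohPull.inv f).map φ) p (CohPull.pullAb f M p x) := by
  rw [pullAb_apply, pullAb_apply, Sheaf.H.map_apply, Sheaf.H.map_apply,
    Ext.mapExactFunctor_comp, Ext.mapExactFunctor_mk₀, Ext.comp_assoc_of_third_deg_zero]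

lemma pullAb_δ {S : ShortComplex (CohTop.Ab Y)} (hS : S.ShortExact) (p : ℕ)
    (x : Sheaf.H S.X₃ p) :
    CohPull.pullAb f S.X₁ (p + 1) (x.comp hS.extClass rfl) =
      (CohPull.pullAb f S.X₃ p x).comp (hS.map_of_exact (CohPull.inv f)).extClass rfl := by
  rw [pullAb_apply, pullAb_apply, Ext.mapExactFunctor_comp, Ext.mapExactFunctor_extClass]
  exact (Ext.comp_assoc (Ext.mk₀ (CohPull.oneTo f)) (x.mapExactFunctor (CohPull.inv f)) _
    (zero_add p) rfl (by omega)).symm

lemma map_δ {S₁ S₂ : ShortComplex (CohTop.Ab X)} (h₁ : S₁.ShortExact) (h₂ : S₂.ShortExact)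
    (φ : S₁ ⟶ S₂) (p : ℕ) (x : Sheaf.H S₁.X₃ p) :
    Sheaf.H.map φ.τ₁ (p + 1) (x.comp h₁.extClass rfl) =
      (Sheaf.H.map φ.τ₃ p x).comp h₂.extClass rfl := by
  rw [Sheaf.H.map_apply, Sheaf.H.map_apply, Ext.comp_assoc_of_third_deg_zero,
    h₁.extClass_naturality h₂ φ]
  exact (Ext.comp_assoc_of_second_deg_zero _ _ _ _).symm

/-- the counit of `f⁻¹ ⊣ f_*` with clean types -/
noncomputable def cou (A : CohTop.Ab X) :
    (CohPull.inv f).obj ((CohTop.push f).obj A) ⟶ A :=
  (CohPull.invPushAdj f).counit.app A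

/-- the unit of `f⁻¹ ⊣ f_*` with clean types -/
noncomputable def uni (M : CohTop.Ab Y) :
    M ⟶ (CohTop.push f).obj ((CohPull.inv f).obj M) :=
  (CohPull.invPushAdj f).unit.app M

lemma cou_natural {A B : CohTop.Ab X} (φ : A ⟶ B) :
    (CohPull.inv f).map ((CohTop.push f).map φ) ≫ cou f B = cou f A ≫ φ :=
  (CohPull.invPushAdj f).counit.naturality φ

lemma uni_cou (A : CohTop.Ab X) :
    uni f ((CohTop.push f).obj A) ≫ (CohTop.push f).map (cou f A) = 𝟙 _ :=
  (CohPull.invPushAdj f).right_triangle_components A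

/-- the edge map for abelian sheaves -/
noncomputable def edge (A : CohTop.Ab X) (p : ℕ) :
    Sheaf.H ((CohTop.push f).obj A) p →+ Sheaf.H A p :=
  (Sheaf.H.map (cou f A) p).comp (CohPull.pullAb f ((CohTop.push f).obj A) p)

lemma edge_apply (A : CohTop.Ab X) (p : ℕ) (x : Sheaf.H ((CohTop.push f).obj A) p) :
    edge f A p x = Sheaf.H.map (cou f A) p (CohPull.pullAb f ((CohTop.push f).obj A) p x) := rfl

lemma edge_natural {A B : CohTop.Ab X} (φ : A ⟶ B) (p : ℕ)
    (x : Sheaf.H ((CohTop.push f).obj A) p) :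
    edge f B p (Sheaf.H.map ((CohTop.push f).map φ) p x) = Sheaf.H.map φ p (edge f A p x) := by
  rw [edge_apply, edge_apply, pullAb_natural, ← Sheaf.H.map_comp_apply,
    ← Sheaf.H.map_comp_apply, cou_natural]

lemma edge_δ {S : ShortComplex (CohTop.Ab X)} (hS : S.ShortExact)
    (hS' : (S.map (CohTop.push f)).ShortExact) (p : ℕ)
    (x : Sheaf.H ((CohTop.push f).obj S.X₃) p) :
    edge f S.X₁ (p + 1) (x.comp hS'.extClass rfl) = (edge f S.X₃ p x).comp hS.extClass rfl := by
  rw [edge_apply, edge_apply]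
  have h1 := pullAb_δ f hS' p x
  let φ : (S.map (CohTop.push f)).map (CohPull.inv f) ⟶ S :=
    { τ₁ := cou f S.X₁
      τ₂ := cou f S.X₂
      τ₃ := cou f S.X₃
      comm₁₂ := (cou_natural f S.f).symm
      comm₂₃ := (cou_natural f S.g).symm }
  have h2 := map_δ (hS'.map_of_exact (CohPull.inv f)) hS φ p
    (CohPull.pullAb f ((CohTop.push f).obj S.X₃) p x)
  exact (congrArg (fun y => Sheaf.H.map (cou f S.X₁) (p + 1) y) h1).trans h2

lemma equiv₀_edge (A : CohTop.Ab X) (x : Sheaf.H ((CohTop.push f).obj A) 0) :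
    Sheaf.H.equiv₀ A isTerminalTop (edge f A 0 x) =
      Sheaf.H.equiv₀ ((CohTop.push f).obj A) isTerminalTop x := by
  rw [edge_apply, ← Sheaf.H.equiv₀_naturality, CohPull.equiv₀_pullAb]
  have h := congrArg (fun t => t.hom.app (op ⊤)
    (Sheaf.H.equiv₀ ((CohTop.push f).obj A) isTerminalTop x)) (uni_cou f A)
  simp only [ObjectProperty.FullSubcategory.comp_hom, NatTrans.comp_app,
    ConcreteCategory.comp_apply] at h
  exact h

lemma edge_zero_bijective (A : CohTop.Ab X) : Function.Bijective (edge f A 0) := by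
  have h : ∀ x, edge f A 0 x = (Sheaf.H.equiv₀ A isTerminalTop).symm
      (Sheaf.H.equiv₀ ((CohTop.push f).obj A) isTerminalTop x) := by
    intro x
    rw [AddEquiv.eq_symm_apply]
    exact equiv₀_edge f A x
  constructor
  · intro x y hxy
    rw [h, h] at hxy
    exact (Sheaf.H.equiv₀ ((CohTop.push f).obj A) isTerminalTop).injective
      ((Sheaf.H.equiv₀ A isTerminalTop).symm.injective hxy)
  · intro y
    refine ⟨(Sheaf.H.equiv₀ ((CohTop.push f).obj A) isTerminalTop).symm
      (Sheaf.H.equiv₀ A isTerminalTop y), (h _).trans ?_⟩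
    rw [AddEquiv.apply_symm_apply]
    exact AddEquiv.symm_apply_apply _ _

/-- dimension shifting -/
lemma edge_succ_bijective {S : ShortComplex (CohTop.Ab X)} (hS : S.ShortExact)
    (hS' : (S.map (CohTop.push f)).ShortExact) (p : ℕ)
    (h2 : Function.Surjective (edge f S.X₂ p)) (h3 : Function.Bijective (edge f S.X₃ p))
    (hX : Subsingleton (Sheaf.H S.X₂ (p + 1)))
    (hY : Subsingleton (Sheaf.H ((CohTop.push f).obj S.X₂) (p + 1))) :
    Function.Bijective (edge f S.X₁ (p + 1)) := by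
  constructor
  · rw [injective_iff_map_eq_zero]
    intro x hx
    obtain ⟨w, rfl⟩ := Ext.covariant_sequence_exact₁ _ hS' x (@Subsingleton.elim _ hY _ _) rfl
    have hx' : (edge f S.X₃ p w).comp hS.extClass rfl = 0 := by
      rw [← edge_δ f hS hS' p w]; exact hx
    obtain ⟨v, hv⟩ := Ext.covariant_sequence_exact₃ _ hS (edge f S.X₃ p w) rfl hx'
    obtain ⟨u, rfl⟩ := h2 v
    have h4 : edge f S.X₃ p (Sheaf.H.map ((CohTop.push f).map S.g) p u) = edge f S.X₃ p w := by
      rw [edge_natural]; exact hv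
    have hw := h3.1 h4
    have hc : (Ext.mk₀ ((CohTop.push f).map S.g)).comp hS'.extClass (zero_add 1) = 0 :=
      hS'.comp_extClass
    subst hw
    have h5 : (Sheaf.H.map ((CohTop.push f).map S.g) p u).comp hS'.extClass rfl = 0 := by
      rw [Sheaf.H.map_apply, Ext.comp_assoc_of_second_deg_zero, hc, Ext.comp_zero]
    exact h5
  · intro y
    obtain ⟨z, rfl⟩ := Ext.covariant_sequence_exact₁ _ hS y (@Subsingleton.elim _ hX _ _) rfl
    obtain ⟨w, rfl⟩ := h3.2 z
    exact ⟨w.comp hS'.extClass rfl, edge_δ f hS hS' p w⟩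

end Groth.Agent.Helper6.PushEdge1
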