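import Mathlib
import Groth.Prelude.Def_CohPull
import Groth.Prelude.Def_CohCmp
import Groth.Agent.Helper6.PushEdge1
import Groth.Agent.Helper6.FlasqueMod
import Groth.Agent.Helper8.RDerLES
import Groth.Agent.Helper1.RpCmpNat

set_option autoImplicit false
set_option linter.style.haveILetI false
set_option linter.unusedSectionVars false
set_option linter.unusedVariables false

/-!
# The edge map `H^p(Y, f_* G) → H^p(X, G)` for O-modules is bijective when `R^q f_* G = 0`
-/

namespace Groth.Agent.Helper6.PushEdge2

open CategoryTheory Limits Abelian Opposite TopologicalSpace AlgebraicGeometry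
open Groth.Agent.Helper9.RpushCmp

universe u

variable {X Y : Scheme.{u}} (f : X ⟶ Y)

lemma unit_counit_toSheaf (G : X.Modules) :
    (SheafOfModules.toSheaf Y.ringCatSheaf).map
        ((Scheme.Modules.pullbackPushforwardAdjunction f).unit.app
          ((Scheme.Modules.pushforward f).obj G)) ≫
      (CohTop.push f.base).map ((SheafOfModules.toSheaf X.ringCatSheaf).map
        ((Scheme.Modules.pullbackPushforwardAdjunction f).counit.app G)) =
      𝟙 ((CohTop.push f.base).obj (Coh.toAb G)) := by
  have h := (Scheme.Modules.pullbackPushforwardAdjunction f).right_triangle_components G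
  have e1 := (SheafOfModules.toSheaf Y.ringCatSheaf).map_comp
    ((Scheme.Modules.pullbackPushforwardAdjunction f).unit.app
      ((Scheme.Modules.pushforward f).obj G))
    ((Scheme.Modules.pushforward f).map
      ((Scheme.Modules.pullbackPushforwardAdjunction f).counit.app G))
  exact e1.symm.trans
    ((congrArg (fun t => (SheafOfModules.toSheaf Y.ringCatSheaf).map t) h).trans
      ((SheafOfModules.toSheaf Y.ringCatSheaf).map_id _))

lemma theta_counit (G : X.Modules) :
    CohPull.theta f ((Scheme.Modules.pushforward f).obj G) ≫
      (SheafOfModules.toSheaf X.ringCatSheaf).map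
        ((Scheme.Modules.pullbackPushforwardAdjunction f).counit.app G) =
    PushEdge1.cou f.base (Coh.toAb G) := by
  have h1 : CohPull.theta f ((Scheme.Modules.pushforward f).obj G) ≫
      (SheafOfModules.toSheaf X.ringCatSheaf).map
        ((Scheme.Modules.pullbackPushforwardAdjunction f).counit.app G) =
      ((CohPull.invPushAdj f.base).homEquiv _ _).symm
        ((SheafOfModules.toSheaf Y.ringCatSheaf).map
          ((Scheme.Modules.pullbackPushforwardAdjunction f).unit.app
            ((Scheme.Modules.pushforward f).obj G)) ≫
        (CohTop.push f.base).map ((SheafOfModules.toSheaf X.ringCatSheaf).map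
          ((Scheme.Modules.pullbackPushforwardAdjunction f).counit.app G))) :=
    (Adjunction.homEquiv_naturality_right_symm _ _ _).symm
  rw [h1, unit_counit_toSheaf]
  exact ((CohPull.invPushAdj f.base).homEquiv_counit _ _ _).trans
    ((congrArg (fun t => t ≫ PushEdge1.cou f.base (Coh.toAb G))
      ((CohPull.inv f.base).map_id _)).trans (Category.id_comp _))

lemma pushEdge_apply (G : X.Modules) (p : ℕ)
    (x : Coh.HH Y ((Scheme.Modules.pushforward f).obj G) p) :
    CohPull.pushEdge f G p x = PushEdge1.edge f.base (Coh.toAb G) p x := by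
  have h : CohPull.pushEdge f G p x =
      Sheaf.H.map ((SheafOfModules.toSheaf X.ringCatSheaf).map
        ((Scheme.Modules.pullbackPushforwardAdjunction f).counit.app G)) p
        (Sheaf.H.map (CohPull.theta f ((Scheme.Modules.pushforward f).obj G)) p
          (CohPull.pullAb f.base (Coh.toAb ((Scheme.Modules.pushforward f).obj G)) p x)) := rfl
  rw [h, ← Sheaf.H.map_comp_apply, theta_counit]
  rfl

variable [HasInjectiveResolutions X.Modules]

theorem edge_bijective (p : ℕ) : ∀ (G : X.Modules),
    (∀ q : ℕ, 0 < q → IsZero ((Coh.Rpush f q).obj G)) →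
    Function.Bijective (PushEdge1.edge f.base (Coh.toAb G) p) := by
  induction p with
  | zero => intro G _; exact PushEdge1.edge_zero_bijective _ _
  | succ p ih =>
    intro G hG
    haveI : EnoughInjectives X.Modules :=
      Groth.Agent.Helper9.ModCechExt.enoughInjectives_mod X.ringCatSheaf
    obtain ⟨Δ⟩ := Groth.Agent.Helper8.RDerLib.main (Scheme.Modules.pushforward f)
    let S : ShortComplex X.Modules :=
      ShortComplex.mk (Injective.ι G) (cokernel.π (Injective.ι G)) (cokernel.condition _)
    have hS : S.ShortExact :=
      { exact := ShortComplex.exact_cokernel _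
        mono_f := by dsimp [S]; infer_instance
        epi_g := by dsimp [S]; infer_instance }
    have hI : Injective S.X₂ := by dsimp [S]; infer_instance
    have hPI : ∀ q : ℕ, 0 < q → IsZero ((Coh.Rpush f q).obj S.X₂) := by
      intro q hq
      obtain ⟨q, rfl⟩ := Nat.exists_eq_succ_of_ne_zero hq.ne'
      exact Functor.isZero_rightDerived_obj_injective_succ _ _ _
    have hPQ : ∀ q : ℕ, 0 < q → IsZero ((Coh.Rpush f q).obj S.X₃) := by
      intro q hq
      have hex := Δ.exact₃ S hS q (q + 1) rfl
      exact hex.isZero_of_both_zeros ((hPI q hq).eq_of_src _ _)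
        ((hG (q + 1) (Nat.succ_pos q)).eq_of_tgt _ _)
    have hepi0 : Epi (((Scheme.Modules.pushforward f).rightDerived 0).map S.g) := by
      have hex := Δ.exact₃ S hS 0 1 rfl
      exact hex.epi_f ((hG 1 Nat.one_pos).eq_of_tgt _ _)
    have hepi : Epi ((Scheme.Modules.pushforward f).map S.g) := by
      have hnat := (Scheme.Modules.pushforward f).toRightDerivedZero.naturality S.g
      haveI := hepi0
      have h3 : (Scheme.Modules.pushforward f).map S.g =
          (Scheme.Modules.pushforward f).toRightDerivedZero.app S.X₂ ≫
            ((Scheme.Modules.pushforward f).rightDerived 0).map S.g ≫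
            inv ((Scheme.Modules.pushforward f).toRightDerivedZero.app S.X₃) := by
        rw [← Category.assoc, ← hnat, Category.assoc, IsIso.hom_inv_id, Category.comp_id]
      rw [h3]
      infer_instance
    have hS' : (S.map (Scheme.Modules.pushforward f)).ShortExact := by
      haveI : Mono S.f := hS.mono_f
      exact
        { exact := hS.exact.map_of_mono_of_preservesKernel _ hS.mono_f inferInstance
          mono_f := (inferInstance : Mono ((Scheme.Modules.pushforward f).map S.f))
          epi_g := hepi }
    have hA : (S.map (tA X)).ShortExact := hS.map_of_exact (tA X)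
    have hA' : ((S.map (Scheme.Modules.pushforward f)).map (tA Y)).ShortExact :=
      hS'.map_of_exact (tA Y)
    have hA'' : ((S.map (tA X)).map (CohTop.push f.base)).ShortExact := hA'
    haveI hfl : TopCat.Sheaf.IsFlasque ((tA X).obj S.X₂) :=
      @FlasqueMod.isFlasque_toSheaf_of_injective _ X.ringCatSheaf S.X₂ hI
    have hsubX : Subsingleton (Sheaf.H ((tA X).obj S.X₂) (p + 1)) :=
      Groth.Agent.S0453.result _ p
    have hsubY : Subsingleton
        (Sheaf.H ((CohTop.push f.base).obj ((tA X).obj S.X₂)) (p + 1)) :=
      Groth.Agent.S0453.result _ p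
    exact PushEdge1.edge_succ_bijective f.base hA hA'' p (ih S.X₂ hPI).2 (ih S.X₃ hPQ)
      hsubX hsubY

theorem pushEdge_bijective (G : X.Modules)
    (hG : ∀ q : ℕ, 0 < q → IsZero ((Coh.Rpush f q).obj G)) (p : ℕ) :
    Function.Bijective (CohPull.pushEdge f G p) := by
  have h : ⇑(CohPull.pushEdge f G p) = ⇑(PushEdge1.edge f.base (Coh.toAb G) p) :=
    funext (pushEdge_apply f G p)
  rw [h]
  exact edge_bijective f p G hG

end Groth.Agent.Helper6.PushEdge2
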