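import Mathlib

set_option autoImplicit false
set_option linter.style.haveILetI false
set_option linter.unusedSectionVars false

/-!
# The canonical graded map `⊕ I^{nc} → A[T_1..T_r]` attached to a partition of unity on `I^c`

Given `A`-linear maps `φ_j : I^c → A`, define `Phi n g = ∑_{j_1..j_n} (φ_{j_n} ∘ ⋯ ∘ φ_{j_1})(g) T_{j_1} ⋯ T_{j_n}`
recursively, and prove its basic properties and uniqueness.
-/

universe u

namespace Groth.Agent.Helper6.GrMapPoly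

open MvPolynomial

variable {A : Type u} [CommRing A] {r : ℕ} (I : Ideal A) (c : ℕ) (φ : Fin r → (↥(I ^ c) →ₗ[A] A))

open Classical in
/-- The canonical graded map. -/
noncomputable def Phi : ℕ → A → MvPolynomial (Fin r) A
  | 0, a => MvPolynomial.C a
  | n + 1, g => if hg : g ∈ I ^ c then ∑ j, MvPolynomial.X j * Phi n (φ j ⟨g, hg⟩) else 0

theorem Phi_zero (a : A) : Phi I c φ 0 a = C a := rfl

theorem Phi_succ (n : ℕ) (g : A) (hg : g ∈ I ^ c) :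
    Phi I c φ (n + 1) g = ∑ j, X j * Phi I c φ n (φ j ⟨g, hg⟩) := by
  simp only [Phi]
  rw [dif_pos hg]

variable {I c}

theorem mem_of_succ {n : ℕ} {g : A} (hg : g ∈ I ^ ((n + 1) * c)) : g ∈ I ^ c := by
  refine Ideal.pow_le_pow_right ?_ hg
  rw [Nat.succ_mul]
  exact Nat.le_add_left _ _

theorem phi_mem {n : ℕ} {g : A} (hg : g ∈ I ^ ((n + 1) * c)) (j : Fin r) :
    φ j ⟨g, mem_of_succ hg⟩ ∈ I ^ (n * c) := by
  have hdecomp : I ^ ((n + 1) * c) = I ^ (n * c) • I ^ c := by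
    rw [Ideal.smul_eq_mul, ← pow_add, Nat.succ_mul]
  have hg2 : g ∈ I ^ (n * c) • I ^ c := hdecomp ▸ hg
  have key : ∃ hg' : g ∈ I ^ c, φ j ⟨g, hg'⟩ ∈ I ^ (n * c) := by
    refine Submodule.smul_induction_on hg2 (fun a ha b hb => ?_) (fun x y hx hy => ?_)
    · refine ⟨Ideal.mul_mem_left _ _ hb, ?_⟩
      have e : (⟨a • b, Ideal.mul_mem_left _ _ hb⟩ : ↥(I ^ c)) = a • ⟨b, hb⟩ := rfl
      rw [e, map_smul, smul_eq_mul]
      exact Ideal.mul_mem_right _ _ ha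
    · obtain ⟨hx1, hx2⟩ := hx
      obtain ⟨hy1, hy2⟩ := hy
      refine ⟨add_mem hx1 hy1, ?_⟩
      have e : (⟨x + y, add_mem hx1 hy1⟩ : ↥(I ^ c)) = ⟨x, hx1⟩ + ⟨y, hy1⟩ := rfl
      rw [e, map_add]
      exact add_mem hx2 hy2
  exact key.2

theorem Phi_add : ∀ (n : ℕ) (g h : A), g ∈ I ^ (n * c) → h ∈ I ^ (n * c) →
    Phi I c φ (n) (g + h) = Phi I c φ n g + Phi I c φ n h
  | 0, g, h, _, _ => by simp [Phi_zero]
  | n + 1, g, h, hg, hh => by
    have hg' := mem_of_succ hg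
    have hh' := mem_of_succ hh
    rw [Phi_succ I c φ n _ (add_mem hg' hh'), Phi_succ I c φ n _ hg', Phi_succ I c φ n _ hh',
      ← Finset.sum_add_distrib]
    refine Finset.sum_congr rfl (fun j _ => ?_)
    have e : (⟨g + h, add_mem hg' hh'⟩ : ↥(I ^ c)) = ⟨g, hg'⟩ + ⟨h, hh'⟩ := rfl
    rw [e, map_add, Phi_add n _ _ (phi_mem φ hg j) (phi_mem φ hh j), mul_add]

theorem Phi_smul : ∀ (n : ℕ) (a g : A), g ∈ I ^ (n * c) →
    Phi I c φ n (a * g) = a • Phi I c φ n g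
  | 0, a, g, _ => by simp [Phi_zero, MvPolynomial.smul_eq_C_mul]
  | n + 1, a, g, hg => by
    have hg' := mem_of_succ hg
    have hag' : a * g ∈ I ^ c := Ideal.mul_mem_left _ _ hg'
    rw [Phi_succ I c φ n _ hag', Phi_succ I c φ n _ hg', Finset.smul_sum]
    refine Finset.sum_congr rfl (fun j _ => ?_)
    have e : (⟨a * g, hag'⟩ : ↥(I ^ c)) = a • ⟨g, hg'⟩ := rfl
    rw [e, map_smul, smul_eq_mul, Phi_smul n _ _ (phi_mem φ hg j), mul_smul_comm]

theorem Phi_homog : ∀ (n : ℕ) (g : A), g ∈ I ^ (n * c) → (Phi I c φ n g).IsHomogeneous n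
  | 0, g, _ => isHomogeneous_C _ _
  | n + 1, g, hg => by
    rw [Phi_succ I c φ n _ (mem_of_succ hg)]
    refine IsHomogeneous.sum _ _ _ (fun j _ => ?_)
    have h := (isHomogeneous_X A j).mul (Phi_homog n _ (phi_mem φ hg j))
    rwa [Nat.add_comm] at h

theorem Phi_mul : ∀ (n m : ℕ) (g h : A), g ∈ I ^ (n * c) → h ∈ I ^ (m * c) →
    Phi I c φ (n + m) (g * h) = Phi I c φ n g * Phi I c φ m h
  | 0, m, g, h, _, hh => by
    rw [Nat.zero_add, Phi_smul φ m g h hh, Phi_zero, MvPolynomial.smul_eq_C_mul]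
  | n + 1, m, g, h, hg, hh => by
    have hg' := mem_of_succ hg
    have hgh' : g * h ∈ I ^ c := Ideal.mul_mem_right _ _ hg'
    rw [Nat.add_right_comm n 1 m, Phi_succ I c φ (n + m) _ hgh', Phi_succ I c φ n _ hg',
      Finset.sum_mul]
    refine Finset.sum_congr rfl (fun j _ => ?_)
    have e : (⟨g * h, hgh'⟩ : ↥(I ^ c)) = h • ⟨g, hg'⟩ := Subtype.ext (mul_comm g h)
    rw [e, map_smul, smul_eq_mul, mul_comm h, Phi_mul n m _ _ (phi_mem φ hg j) hh, mul_assoc]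

theorem Phi_one (g : A) (hg : g ∈ I ^ c) :
    Phi I c φ 1 g = ∑ j, C (φ j ⟨g, hg⟩) * X j := by
  show Phi I c φ (0 + 1) g = _
  rw [Phi_succ I c φ 0 _ hg]
  refine Finset.sum_congr rfl (fun j _ => ?_)
  rw [Phi_zero, mul_comm]

theorem Phi_aeval (f : Fin r → A) (hφ : ∀ x : ↥(I ^ c), (x : A) = ∑ j, f j * φ j x) :
    ∀ (n : ℕ) (g : A), g ∈ I ^ (n * c) → MvPolynomial.aeval f (Phi I c φ n g) = g
  | 0, g, _ => by simp [Phi_zero]
  | n + 1, g, hg => by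
    rw [Phi_succ I c φ n _ (mem_of_succ hg), map_sum]
    calc ∑ j, MvPolynomial.aeval f (X j * Phi I c φ n (φ j ⟨g, mem_of_succ hg⟩))
        = ∑ j, f j * φ j ⟨g, mem_of_succ hg⟩ := by
          refine Finset.sum_congr rfl (fun j _ => ?_)
          rw [map_mul, aeval_X, Phi_aeval f hφ n _ (phi_mem φ hg j)]
      _ = g := (hφ ⟨g, mem_of_succ hg⟩).symm

theorem Phi_unique (Ψ : ℕ → A → MvPolynomial (Fin r) A)
    (hadd : ∀ n : ℕ, ∀ g ∈ I ^ (n * c), ∀ h ∈ I ^ (n * c), Ψ n (g + h) = Ψ n g + Ψ n h)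
    (hmul : ∀ n m : ℕ, ∀ g ∈ I ^ (n * c), ∀ h ∈ I ^ (m * c), Ψ (n + m) (g * h) = Ψ n g * Ψ m h)
    (h0 : ∀ a : A, Ψ 0 a = C a)
    (h1 : ∀ (g : A) (hg : g ∈ I ^ c), Ψ 1 g = ∑ j, C (φ j ⟨g, hg⟩) * X j) :
    ∀ (n : ℕ) (g : A), g ∈ I ^ (n * c) → Ψ n g = Phi I c φ n g
  | 0, g, _ => by rw [h0, Phi_zero]
  | n + 1, g, hg => by
    have hdecomp : I ^ ((n + 1) * c) = I ^ c • I ^ (n * c) := by
      rw [Ideal.smul_eq_mul, ← pow_add]
      congr 1
      ring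
    have hg2 : g ∈ I ^ c • I ^ (n * c) := hdecomp ▸ hg
    have key : g ∈ I ^ ((n + 1) * c) ∧ Ψ (n + 1) g = Phi I c φ (n + 1) g := by
      refine Submodule.smul_induction_on hg2 (fun a ha b hb => ?_) (fun x y hx hy => ?_)
      · have hab : a • b ∈ I ^ ((n + 1) * c) := by
          rw [hdecomp]
          exact Submodule.smul_mem_smul ha hb
        refine ⟨hab, ?_⟩
        have ha1 : a ∈ I ^ (1 * c) := by rwa [one_mul]
        rw [smul_eq_mul, Nat.add_comm n 1, hmul 1 n a ha1 b hb, Phi_mul φ 1 n a b ha1 hb,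
          h1 a ha, Phi_one φ a ha, Phi_unique Ψ hadd hmul h0 h1 n b hb]
      · exact ⟨add_mem hx.1 hy.1, by
          rw [hadd _ _ hx.1 _ hy.1, Phi_add φ _ _ _ hx.1 hy.1, hx.2, hy.2]⟩
    exact key.2

end Groth.Agent.Helper6.GrMapPoly
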