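import Mathlib
import Groth.Agent.Helper6.GrMapPoly

set_option autoImplicit false
set_option linter.style.haveILetI false
set_option linter.unusedSectionVars false

/-!
# The module version of the canonical graded map (Artin–Rees)

For a finite module `N` over a Noetherian `A`-algebra `B`, the canonical graded map `Phi` induces, for
`c'` large, well-defined `B`-linear maps `I^{nc'} N → B[T] ⊗_B N`, `g x ↦ Phi n g ⊗ x`.
-/

universe u

namespace Groth.Agent.Helper6.GrMapPoly2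

open MvPolynomial TensorProduct
open Groth.Agent.Helper6.GrMapPoly

section Generic

variable {B : Type*} [CommRing B] {N : Type*} [AddCommGroup N] [Module B N]
  {M' : Type*} [AddCommGroup M'] [Module B M']

theorem exists_linearMap_of_ker {ι : Type*} (v : ι → N) (w : ι → M')
    (h : ∀ l : ι →₀ B, Finsupp.linearCombination B v l = 0 → Finsupp.linearCombination B w l = 0)
    (P : Submodule B N) (hP : P = Submodule.span B (Set.range v)) :
    ∃ Ψ : ↥P →ₗ[B] M', ∀ (i : ι) (hi : v i ∈ P), Ψ ⟨v i, hi⟩ = w i := by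
  classical
  subst hP
  have hsurj : ∀ p : ↥(Submodule.span B (Set.range v)),
      ∃ l : ι →₀ B, Finsupp.linearCombination B v l = p.1 := by
    intro p
    have hp : p.1 ∈ LinearMap.range (Finsupp.linearCombination B v) := by
      rw [Finsupp.range_linearCombination]
      exact p.2
    exact LinearMap.mem_range.mp hp
  have hwd : ∀ l l' : ι →₀ B,
      Finsupp.linearCombination B v l = Finsupp.linearCombination B v l' →
      Finsupp.linearCombination B w l = Finsupp.linearCombination B w l' := by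
    intro l l' hll
    have h1 := h (l - l') (by rw [map_sub, hll, sub_self])
    rwa [map_sub, sub_eq_zero] at h1
  choose L hL using hsurj
  refine ⟨{ toFun := fun p => Finsupp.linearCombination B w (L p)
            map_add' := fun p q => ?_
            map_smul' := fun b p => ?_ }, fun i hi => ?_⟩
  · rw [← map_add]
    apply hwd
    rw [map_add, hL, hL, hL]
    rfl
  · rw [RingHom.id_apply, ← map_smul]
    apply hwd
    rw [map_smul, hL, hL]
    rfl
  · show Finsupp.linearCombination B w (L ⟨v i, hi⟩) = w i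
    have e : w i = Finsupp.linearCombination B w (Finsupp.single i 1) := by simp
    rw [e]
    apply hwd
    rw [hL]
    simp

theorem span_ext (S : Set N) (Ψ Ψ' : ↥(Submodule.span B S) →ₗ[B] M')
    (h : ∀ (y : N) (hy : y ∈ S),
      Ψ ⟨y, Submodule.subset_span hy⟩ = Ψ' ⟨y, Submodule.subset_span hy⟩) : Ψ = Ψ' := by
  refine LinearMap.ext_on (Submodule.span_span_coe_preimage (R := B) (s := S)) (fun p hp => ?_)
  exact h p.1 hp

end Generic

section AR

variable {B : Type u} [CommRing B] [IsNoetherianRing B] {N : Type u} [AddCommGroup N] [Module B N]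
  [Module.Finite B N]

theorem exists_AR (J : Ideal B) : ∃ c₁ : ℕ, ∀ y : N, y ∈ J ^ c₁ • (⊤ : Submodule B N) →
    (∃ m : ℕ, ∀ a ∈ J ^ m, a • y = 0) → y = 0 := by
  haveI : IsNoetherian B N := isNoetherian_of_isNoetherianRing_of_finite B N
  let Γ : ℕ →o Submodule B N :=
    ⟨fun m => Submodule.torsionBySet B N (↑(J ^ m) : Set B), fun m m' hmm' => by
      intro y hy
      rw [Submodule.mem_torsionBySet_iff] at hy ⊢
      intro a
      exact hy ⟨a.1, Ideal.pow_le_pow_right hmm' a.2⟩⟩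
  obtain ⟨k₀, hk₀⟩ := monotone_stabilizes_iff_noetherian.mpr inferInstance Γ
  obtain ⟨k, hk⟩ := Ideal.exists_pow_inf_eq_pow_smul J (Γ k₀)
  refine ⟨k + k₀, fun y hy ⟨m, hm⟩ => ?_⟩
  have hyΓ : y ∈ Γ k₀ := by
    have h1 : y ∈ Γ m := by
      show y ∈ Submodule.torsionBySet B N _
      rw [Submodule.mem_torsionBySet_iff]
      intro a
      exact hm a.1 a.2
    have h2 : Γ m ≤ Γ (max m k₀) := Γ.monotone (le_max_left _ _)
    rw [hk₀ (max m k₀) (le_max_right _ _)]
    exact h2 h1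
  have hmem : y ∈ J ^ (k + k₀) • (⊤ : Submodule B N) ⊓ Γ k₀ := ⟨hy, hyΓ⟩
  rw [hk (k + k₀) (Nat.le_add_right _ _), Nat.add_sub_cancel_left] at hmem
  have hle : J ^ k₀ • (J ^ k • (⊤ : Submodule B N) ⊓ Γ k₀) ≤ ⊥ := by
    rw [Submodule.smul_le]
    intro a ha z hz
    have hz2 : z ∈ Submodule.torsionBySet B N (↑(J ^ k₀) : Set B) := hz.2
    rw [Submodule.mem_torsionBySet_iff] at hz2
    exact (Submodule.mem_bot B).mpr (hz2 ⟨a, ha⟩)
  exact (Submodule.mem_bot B).mp (hle hmem)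

end AR

section Main

variable {A : Type u} [CommRing A] {B : Type u} [CommRing B] [Algebra A B]
  {N : Type u} [AddCommGroup N] [Module B N] {r : ℕ} (I : Ideal A)

theorem lin_mem {c a : ℕ} (ψ : ↥(I ^ c) →ₗ[A] A) {g : A} (hg : g ∈ I ^ (a + c))
    (hg' : g ∈ I ^ c) : ψ ⟨g, hg'⟩ ∈ I ^ a := by
  have hdecomp : I ^ (a + c) = I ^ a • I ^ c := by rw [Ideal.smul_eq_mul, ← pow_add]
  have hg2 : g ∈ I ^ a • I ^ c := hdecomp ▸ hg
  have key : ∃ h' : g ∈ I ^ c, ψ ⟨g, h'⟩ ∈ I ^ a := by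
    refine Submodule.smul_induction_on hg2 (fun a' ha b hb => ?_) (fun x y hx hy => ?_)
    · refine ⟨Ideal.mul_mem_left _ _ hb, ?_⟩
      have e : (⟨a' • b, Ideal.mul_mem_left _ _ hb⟩ : ↥(I ^ c)) = a' • ⟨b, hb⟩ := rfl
      rw [e, map_smul, smul_eq_mul]
      exact Ideal.mul_mem_right _ _ ha
    · obtain ⟨hx1, hx2⟩ := hx
      obtain ⟨hy1, hy2⟩ := hy
      refine ⟨add_mem hx1 hy1, ?_⟩
      have e : (⟨x + y, add_mem hx1 hy1⟩ : ↥(I ^ c)) = ⟨x, hx1⟩ + ⟨y, hy1⟩ := rfl
      rw [e, map_add]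
      exact add_mem hx2 hy2
  exact key.2

theorem lin_swap {c : ℕ} (ψ : ↥(I ^ c) →ₗ[A] A) {g h : A} (hg : g ∈ I ^ c) (hh : h ∈ I ^ c) :
    h * ψ ⟨g, hg⟩ = g * ψ ⟨h, hh⟩ := by
  have e1 : ψ (h • ⟨g, hg⟩) = h * ψ ⟨g, hg⟩ := by rw [map_smul, smul_eq_mul]
  have e2 : ψ (g • ⟨h, hh⟩) = g * ψ ⟨h, hh⟩ := by rw [map_smul, smul_eq_mul]
  have e3 : (h • ⟨g, hg⟩ : ↥(I ^ c)) = g • ⟨h, hh⟩ := Subtype.ext (mul_comm h g)
  rw [← e1, ← e2, e3]

theorem smul_eq_zero_of_mem_map {K : Ideal A} {y : N}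
    (h : ∀ g ∈ K, algebraMap A B g • y = 0) {a : B} (ha : a ∈ K.map (algebraMap A B)) :
    a • y = 0 := by
  have hle : K.map (algebraMap A B) ≤ LinearMap.ker (LinearMap.toSpanSingleton B N y) := by
    rw [Ideal.map_le_iff_le_comap]
    intro g hg
    rw [Ideal.mem_comap, LinearMap.mem_ker, LinearMap.toSpanSingleton_apply]
    exact h g hg
  have h2 := hle ha
  rwa [LinearMap.mem_ker, LinearMap.toSpanSingleton_apply] at h2

/-- The generating set of `I^m N`. -/
abbrev gens (B : Type u) [CommRing B] [Algebra A B] (N : Type u) [AddCommGroup N] [Module B N]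
    (m : ℕ) : Set N :=
  {y : N | ∃ g ∈ I ^ m, ∃ x : N, y = algebraMap A B g • x}

theorem gens_eq_range (m : ℕ) :
    gens I B N m = Set.range (fun p : {p : A × N // p.1 ∈ I ^ m} => algebraMap A B p.1.1 • p.1.2) := by
  ext y
  constructor
  · rintro ⟨g, hg, x, rfl⟩
    exact ⟨⟨⟨g, x⟩, hg⟩, rfl⟩
  · rintro ⟨⟨⟨g, x⟩, hg⟩, rfl⟩
    exact ⟨g, hg, x, rfl⟩

theorem exists_alpha {c₀ c₁ : ℕ} (φ₀ : ↥(I ^ c₀) →ₗ[A] A)
    (hAR : ∀ y : N, y ∈ (I.map (algebraMap A B)) ^ c₁ • (⊤ : Submodule B N) →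
      (∃ m : ℕ, ∀ a ∈ (I.map (algebraMap A B)) ^ m, a • y = 0) → y = 0)
    (hle : I ^ (c₁ + c₀) ≤ I ^ c₀) :
    ∃ α : ↥(Submodule.span B (gens I B N (c₁ + c₀))) →ₗ[B] N,
      ∀ (g : A) (hg : g ∈ I ^ (c₁ + c₀)) (x : N),
        α ⟨algebraMap A B g • x, Submodule.subset_span ⟨g, hg, x, rfl⟩⟩ =
          algebraMap A B (φ₀ ⟨g, hle hg⟩) • x := by
  classical
  let v : {p : A × N // p.1 ∈ I ^ (c₁ + c₀)} → N := fun p => algebraMap A B p.1.1 • p.1.2
  let w : {p : A × N // p.1 ∈ I ^ (c₁ + c₀)} → N :=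
    fun p => algebraMap A B (φ₀ ⟨p.1.1, hle p.2⟩) • p.1.2
  have key : ∀ (b : B) (g₁ g₂ : A) (x : N),
      algebraMap A B g₁ • (b • (algebraMap A B g₂ • x)) = b • (algebraMap A B (g₁ * g₂) • x) := by
    intro b g₁ g₂ x
    calc algebraMap A B g₁ • (b • (algebraMap A B g₂ • x))
        = b • (algebraMap A B g₁ • (algebraMap A B g₂ • x)) := smul_comm _ _ _
      _ = b • ((algebraMap A B g₁ * algebraMap A B g₂) • x) := by rw [mul_smul]
      _ = b • (algebraMap A B (g₁ * g₂) • x) := by rw [map_mul]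
  have hker : ∀ l : {p : A × N // p.1 ∈ I ^ (c₁ + c₀)} →₀ B,
      Finsupp.linearCombination B v l = 0 → Finsupp.linearCombination B w l = 0 := by
    intro l hl
    rw [Finsupp.linearCombination_apply, Finsupp.sum] at hl ⊢
    apply hAR
    · refine Submodule.sum_mem _ (fun p _ => Submodule.smul_mem _ _ ?_)
      refine Submodule.smul_mem_smul ?_ Submodule.mem_top
      rw [← Ideal.map_pow]
      exact Ideal.mem_map_of_mem _ (lin_mem I φ₀ p.2 (hle p.2))
    · refine ⟨c₁ + c₀, fun a ha => ?_⟩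
      rw [← Ideal.map_pow] at ha
      refine smul_eq_zero_of_mem_map (fun h hh => ?_) ha
      have hh' := hle hh
      calc algebraMap A B h • ∑ p ∈ l.support, l p • w p
          = ∑ p ∈ l.support, algebraMap A B (φ₀ ⟨h, hh'⟩) • (l p • v p) := by
            rw [Finset.smul_sum]
            refine Finset.sum_congr rfl (fun p _ => ?_)
            show algebraMap A B h • (l p • (algebraMap A B (φ₀ ⟨p.1.1, hle p.2⟩) • p.1.2)) =
              algebraMap A B (φ₀ ⟨h, hh'⟩) • (l p • (algebraMap A B p.1.1 • p.1.2))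
            rw [key, key, lin_swap I φ₀ (hle p.2) hh', mul_comm]
        _ = algebraMap A B (φ₀ ⟨h, hh'⟩) • ∑ p ∈ l.support, l p • v p := by
            rw [Finset.smul_sum]
        _ = 0 := by rw [hl, smul_zero]
  obtain ⟨α, hα⟩ := exists_linearMap_of_ker v w hker (Submodule.span B (gens I B N (c₁ + c₀)))
    (by rw [gens_eq_range])
  exact ⟨α, fun g hg x => hα ⟨⟨g, x⟩, hg⟩ _⟩

theorem kernel_cond (c : ℕ) (φ : Fin r → (↥(I ^ c) →ₗ[A] A))
    (α : Fin r → (↥(Submodule.span B (gens I B N c)) →ₗ[B] N))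
    (hα : ∀ (j : Fin r) (g : A) (hg : g ∈ I ^ c) (x : N),
      α j ⟨algebraMap A B g • x, Submodule.subset_span ⟨g, hg, x, rfl⟩⟩ =
        algebraMap A B (φ j ⟨g, hg⟩) • x) :
    ∀ (n : ℕ) {κ : Type u} (s : Finset κ) (b : κ → B) (g : κ → A) (x : κ → N),
      (∀ k ∈ s, g k ∈ I ^ (n * c)) → ∑ k ∈ s, b k • (algebraMap A B (g k) • x k) = 0 →
      ∑ k ∈ s, b k • (MvPolynomial.map (algebraMap A B) (Phi I c φ n (g k)) ⊗ₜ[B] x k) = 0 := by
  classical
  intro n
  induction n with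
  | zero =>
    intro κ s b g x _ h
    have e : ∀ k, b k • (MvPolynomial.map (algebraMap A B) (Phi I c φ 0 (g k)) ⊗ₜ[B] x k) =
        (1 : MvPolynomial (Fin r) B) ⊗ₜ[B] (b k • (algebraMap A B (g k) • x k)) := by
      intro k
      rw [Phi_zero, MvPolynomial.map_C, TensorProduct.tmul_smul, ← TensorProduct.smul_tmul,
        ← MvPolynomial.algebraMap_eq, Algebra.algebraMap_eq_smul_one]
    simp_rw [e]
    rw [← TensorProduct.tmul_sum, h, TensorProduct.tmul_zero]
  | succ n ih =>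
    intro κ s b g x hg h
    let g' : Fin r → κ → A := fun j k => if hk : g k ∈ I ^ c then φ j ⟨g k, hk⟩ else 0
    let y : κ → ↥(Submodule.span B (gens I B N c)) := fun k =>
      if hk : g k ∈ I ^ c then
        ⟨algebraMap A B (g k) • x k, Submodule.subset_span ⟨g k, hk, x k, rfl⟩⟩ else 0
    have hgc : ∀ k ∈ s, g k ∈ I ^ c := fun k hk => mem_of_succ (hg k hk)
    have hg'mem : ∀ j, ∀ k ∈ s, g' j k ∈ I ^ (n * c) := by
      intro j k hk
      simp only [g', dif_pos (hgc k hk)]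
      exact phi_mem φ (hg k hk) j
    have hy : ∑ k ∈ s, b k • y k = 0 := by
      apply Subtype.ext
      rw [Submodule.coe_sum, Submodule.coe_zero, ← h]
      refine Finset.sum_congr rfl (fun k hk => ?_)
      simp only [y, dif_pos (hgc k hk), Submodule.coe_smul]
    have hzero : ∀ j, ∑ k ∈ s, b k • (algebraMap A B (g' j k) • x k) = 0 := by
      intro j
      have e : ∑ k ∈ s, b k • (algebraMap A B (g' j k) • x k) = α j (∑ k ∈ s, b k • y k) := by
        rw [map_sum]
        refine Finset.sum_congr rfl (fun k hk => ?_)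
        rw [map_smul]
        simp only [g', y, dif_pos (hgc k hk)]
        rw [hα j (g k) (hgc k hk) (x k)]
      rw [e, hy, map_zero]
    have hIH := fun j => ih s b (g' j) x (hg'mem j) (hzero j)
    let mX : Fin r → (MvPolynomial (Fin r) B ⊗[B] N →ₗ[B] MvPolynomial (Fin r) B ⊗[B] N) :=
      fun j => LinearMap.rTensor N (LinearMap.mulLeft B (X j))
    have hexp : ∀ k ∈ s,
        MvPolynomial.map (algebraMap A B) (Phi I c φ (n + 1) (g k)) ⊗ₜ[B] x k =
          ∑ j, mX j (MvPolynomial.map (algebraMap A B) (Phi I c φ n (g' j k)) ⊗ₜ[B] x k) := by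
      intro k hk
      rw [Phi_succ I c φ n _ (hgc k hk), map_sum, TensorProduct.sum_tmul]
      refine Finset.sum_congr rfl (fun j _ => ?_)
      simp only [mX, g', dif_pos (hgc k hk), LinearMap.rTensor_tmul, LinearMap.mulLeft_apply,
        map_mul, MvPolynomial.map_X]
    calc ∑ k ∈ s, b k •
          (MvPolynomial.map (algebraMap A B) (Phi I c φ (n + 1) (g k)) ⊗ₜ[B] x k)
        = ∑ k ∈ s, b k •
            ∑ j, mX j (MvPolynomial.map (algebraMap A B) (Phi I c φ n (g' j k)) ⊗ₜ[B] x k) :=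
          Finset.sum_congr rfl (fun k hk => by rw [hexp k hk])
      _ = ∑ j, mX j (∑ k ∈ s, b k •
            (MvPolynomial.map (algebraMap A B) (Phi I c φ n (g' j k)) ⊗ₜ[B] x k)) := by
          simp_rw [Finset.smul_sum, map_sum, map_smul]
          exact Finset.sum_comm
      _ = 0 := by
          simp_rw [hIH, map_zero, Finset.sum_const_zero]

end Main

end Groth.Agent.Helper6.GrMapPoly2
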