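import Mathlib
import Groth.Prelude.Def_CohPull
import Groth.Prelude.Def_CohCmp
import Groth.Agent.Helper6.PushEdge1

set_option autoImplicit false
set_option linter.style.haveILetI false
set_option linter.unusedSectionVars false
set_option linter.unusedVariables false

/-!
# The restriction map `CohPull.resLE` on cohomology of O-modules: decomposition, naturality, connecting maps
-/

namespace Groth.Agent.Helper6.ResLE1

open CategoryTheory Limits Abelian Opposite TopologicalSpace AlgebraicGeometry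
  AlgebraicGeometry.Scheme.Modules

universe u

section Abstract

variable {𝒳 𝒰 𝒰' : Type*} [Category 𝒳] [Category 𝒰] [Category 𝒰']
  {La Pa : 𝒳 ⥤ 𝒰} {Ra : 𝒰 ⥤ 𝒳} (adjLa : La ⊣ Ra) (adjPa : Pa ⊣ Ra)
  {La' Pa' : 𝒳 ⥤ 𝒰'} {Ra' : 𝒰' ⥤ 𝒳} (adjLa' : La' ⊣ Ra') (adjPa' : Pa' ⊣ Ra')
  {Pj : 𝒰 ⥤ 𝒰'} {Rj : 𝒰' ⥤ 𝒰} (adjj : Pj ⊣ Rj)
  {Pg : 𝒳 ⥤ 𝒰'} {Rg : 𝒰' ⥤ 𝒳} (adjg : Pg ⊣ Rg)
  (pbC : Pa ⋙ Pj ≅ Pg) (pfC : Rj ⋙ Ra ≅ Rg)
  (hC : conjugateEquiv (adjPa.comp adjj) adjg pbC.inv = pfC.hom)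
  (pbE : Pg ≅ Pa') (pfE : Rg ≅ Ra')
  (hE : ∀ F, adjg.unit.app F ≫ Rg.map (pbE.hom.app F) =
    adjPa'.unit.app F ≫ pfE.inv.app (Pa'.obj F))

include hC hE in
lemma unit_chase (F : 𝒳) :
    adjLa.unit.app F ≫ Ra.map (adjj.unit.app (La.obj F) ≫ Rj.map
      (Pj.map ((adjLa.leftAdjointUniq adjPa).hom.app F) ≫ pbC.hom.app F ≫ pbE.hom.app F ≫
        (adjLa'.leftAdjointUniq adjPa').inv.app F)) =
    adjLa'.unit.app F ≫ pfE.inv.app (La'.obj F) ≫ pfC.inv.app (La'.obj F) := by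
  set r := (adjLa.leftAdjointUniq adjPa).hom.app F with hr
  set r' := (adjLa'.leftAdjointUniq adjPa').inv.app F with hr'
  have h2 : adjLa.unit.app F ≫ Ra.map r = adjPa.unit.app F :=
    Adjunction.unit_leftAdjointUniq_hom_app adjLa adjPa F
  have h8 : adjPa'.unit.app F ≫ Ra'.map r' = adjLa'.unit.app F := by
    rw [← Adjunction.unit_leftAdjointUniq_hom_app adjLa' adjPa' F, Category.assoc, ← Ra'.map_comp,
      hr', Iso.hom_inv_id_app, Ra'.map_id]
    exact Category.comp_id _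
  have h4 := unit_conjugateEquiv (adjPa.comp adjj) adjg pbC.inv F
  rw [hC] at h4
  have h3 : (adjPa.comp adjj).unit.app F =
      adjPa.unit.app F ≫ Ra.map (adjj.unit.app (Pa.obj F)) := Adjunction.comp_unit_app _ _ _
  have h34 : adjPa.unit.app F ≫ Ra.map (adjj.unit.app (Pa.obj F)) =
      adjg.unit.app F ≫ Rg.map (pbC.inv.app F) ≫ pfC.inv.app (Pj.obj (Pa.obj F)) := by
    rw [← h3, ← cancel_mono (pfC.hom.app (Pj.obj (Pa.obj F)))]
    simp only [Category.assoc, Iso.inv_hom_id_app]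
    exact h4.trans (congrArg (fun t => adjg.unit.app F ≫ t) (Category.comp_id _).symm)
  have h1 : Ra.map (adjj.unit.app (La.obj F)) ≫ Ra.map (Rj.map (Pj.map r)) =
      Ra.map r ≫ Ra.map (adjj.unit.app (Pa.obj F)) := by
    rw [← Ra.map_comp, ← Ra.map_comp]
    exact congrArg Ra.map (adjj.unit.naturality r).symm
  have h5 : ∀ {M N : 𝒰'} (φ : M ⟶ N),
      pfC.inv.app M ≫ Ra.map (Rj.map φ) = Rg.map φ ≫ pfC.inv.app N :=
    fun φ => (pfC.inv.naturality φ).symm
  have h7 : pfE.inv.app (Pa'.obj F) ≫ Rg.map r' = Ra'.map r' ≫ pfE.inv.app (La'.obj F) :=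
    (pfE.inv.naturality r').symm
  have hcc : Rg.map (pbC.inv.app F) ≫ Rg.map (pbC.hom.app F) = 𝟙 _ := by
    rw [← Rg.map_comp, Iso.inv_hom_id_app, Rg.map_id]
  simp only [Functor.map_comp]
  rw [reassoc_of% h1, reassoc_of% h2, reassoc_of% h34, reassoc_of% h5, reassoc_of% hcc,
    reassoc_of% h5, reassoc_of% (hE F), h5, reassoc_of% h7, reassoc_of% h8]

end Abstract

variable {X : Scheme.{u}}

/-- the inclusion `U' ⟶ U` as a morphism of schemes -/
noncomputable abbrev jj {U U' : X.Opens} (h : U' ≤ U) : (U' : Scheme.{u}) ⟶ (U : Scheme.{u}) :=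
  Scheme.Hom.resLE (𝟙 X) U U' (by rwa [Scheme.Hom.id_preimage])

/-- the natural transformation `(jj h)^* (F|_U) ⟶ F|_{U'}` -/
noncomputable def tau {U U' : X.Opens} (h : U' ≤ U) :
    restrictFunctor U.ι ⋙ pullback (jj h) ⟶ restrictFunctor U'.ι :=
  Functor.whiskerRight (restrictFunctorIsoPullback U.ι).hom (pullback (jj h)) ≫
    (pullbackComp (jj h) U.ι).hom ≫
    (pullbackCongr (Scheme.Hom.resLE_comp_ι (𝟙 X) (by rwa [Scheme.Hom.id_preimage]))).hom ≫
    (pullbackComp U'.ι (𝟙 X)).inv ≫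
    Functor.whiskerLeft (pullback (𝟙 X)) (restrictFunctorIsoPullback U'.ι).inv ≫
    Functor.whiskerRight (pullbackId X).hom (restrictFunctor U'.ι) ≫
    (Functor.leftUnitor _).hom

lemma tau_app {U U' : X.Opens} (h : U' ≤ U) (F : X.Modules) :
    (tau h).app F =
      (CohPull.pullOnIso (𝟙 X) U U' (by rwa [Scheme.Hom.id_preimage]) F).hom ≫
        (restrictFunctor U'.ι).map ((pullbackId X).hom.app F) := by
  simp [tau, CohPull.pullOnIso]

/-- the morphism of abelian sheaves inducing `resLE` -/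
noncomputable def Phi {U U' : X.Opens} (h : U' ≤ U) (F : X.Modules) :
    (CohPull.inv (jj h).base).obj ((CohCmp.toAbOn X U).obj F) ⟶ (CohCmp.toAbOn X U').obj F :=
  CohPull.theta (jj h) (F.restrict U.ι) ≫
    (SheafOfModules.toSheaf (U' : Scheme.{u}).ringCatSheaf).map ((tau h).app F)

lemma resLE_eq {U U' : X.Opens} (h : U' ≤ U) (F : X.Modules) (p : ℕ) (x : Coh.HHon X F U p) :
    CohPull.resLE F h p x =
      Sheaf.H.map (Phi h F) p (CohPull.pullAb (jj h).base ((CohCmp.toAbOn X U).obj F) p x) := by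
  have h1 : CohPull.resLE F h p x =
      Sheaf.H.map ((SheafOfModules.toSheaf (U' : Scheme.{u}).ringCatSheaf).map
          ((restrictFunctor U'.ι).map ((pullbackId X).hom.app F))) p
        (Sheaf.H.map ((SheafOfModules.toSheaf (U' : Scheme.{u}).ringCatSheaf).map
          (CohPull.pullOnIso (𝟙 X) U U' (by rwa [Scheme.Hom.id_preimage]) F).hom) p
          (Sheaf.H.map (CohPull.theta (jj h) (F.restrict U.ι)) p
            (CohPull.pullAb (jj h).base ((CohCmp.toAbOn X U).obj F) p x))) := by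
    simp only [CohPull.resLE, CohPull.pullOn, CohPull.pullMod, AddMonoidHom.coe_comp,
      Function.comp_apply]
    rfl
  have h2 : Phi h F = CohPull.theta (jj h) (F.restrict U.ι) ≫
      (SheafOfModules.toSheaf (U' : Scheme.{u}).ringCatSheaf).map
        (CohPull.pullOnIso (𝟙 X) U U' (by rwa [Scheme.Hom.id_preimage]) F).hom ≫
      (SheafOfModules.toSheaf (U' : Scheme.{u}).ringCatSheaf).map
        ((restrictFunctor U'.ι).map ((pullbackId X).hom.app F)) :=
    congrArg (fun t => CohPull.theta (jj h) (F.restrict U.ι) ≫ t)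
      ((congrArg (fun t => (SheafOfModules.toSheaf (U' : Scheme.{u}).ringCatSheaf).map t)
        (tau_app h F)).trans (CategoryTheory.Functor.map_comp _ _ _))
  rw [h1, h2, Sheaf.H.map_comp_apply, Sheaf.H.map_comp_apply]

end Groth.Agent.Helper6.ResLE1
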