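import Mathlib
import Groth.Agent.Helper6.ResLE1

set_option autoImplicit false
set_option linter.style.haveILetI false
set_option linter.unusedSectionVars false
set_option linter.unusedVariables false

/-!
# `CohPull.resLE` is natural and commutes with connecting homomorphisms
-/

namespace Groth.Agent.Helper6.ResLE1

open CategoryTheory Limits Abelian Opposite TopologicalSpace AlgebraicGeometry
  AlgebraicGeometry.Scheme.Modules

universe u

lemma theta_natural {X Y : Scheme.{u}} (g : X ⟶ Y) {M N : Y.Modules} (φ : M ⟶ N) :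
    (CohPull.inv g.base).map ((SheafOfModules.toSheaf Y.ringCatSheaf).map φ) ≫ CohPull.theta g N =
      CohPull.theta g M ≫
        (SheafOfModules.toSheaf X.ringCatSheaf).map ((Scheme.Modules.pullback g).map φ) := by
  apply ((CohPull.invPushAdj g.base).homEquiv _ _).injective
  rw [Adjunction.homEquiv_naturality_left, Adjunction.homEquiv_naturality_right]
  unfold CohPull.theta
  rw [Equiv.apply_symm_apply, Equiv.apply_symm_apply]
  have h := (pullbackPushforwardAdjunction g).unit.naturality φ
  exact (((SheafOfModules.toSheaf Y.ringCatSheaf).map_comp _ _).symm.trans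
    (congrArg (fun t => (SheafOfModules.toSheaf Y.ringCatSheaf).map t) h)).trans
    ((SheafOfModules.toSheaf Y.ringCatSheaf).map_comp _ _)

variable {X : Scheme.{u}}

lemma Phi_natural {U U' : X.Opens} (h : U' ≤ U) {F G : X.Modules} (ψ : F ⟶ G) :
    (CohPull.inv (jj h).base).map ((CohCmp.toAbOn X U).map ψ) ≫ Phi h G =
      Phi h F ≫ (CohCmp.toAbOn X U').map ψ := by
  have h1 := theta_natural (jj h) ((restrictFunctor U.ι).map ψ)
  have h2 := (tau h).naturality ψ
  have h2' : (SheafOfModules.toSheaf (U' : Scheme.{u}).ringCatSheaf).map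
        ((Scheme.Modules.pullback (jj h)).map ((restrictFunctor U.ι).map ψ)) ≫
      (SheafOfModules.toSheaf (U' : Scheme.{u}).ringCatSheaf).map ((tau h).app G) =
      (SheafOfModules.toSheaf (U' : Scheme.{u}).ringCatSheaf).map ((tau h).app F) ≫
      (SheafOfModules.toSheaf (U' : Scheme.{u}).ringCatSheaf).map
        ((restrictFunctor U'.ι).map ψ) :=
    (((SheafOfModules.toSheaf (U' : Scheme.{u}).ringCatSheaf).map_comp _ _).symm.trans
      (congrArg (fun t => (SheafOfModules.toSheaf (U' : Scheme.{u}).ringCatSheaf).map t) h2)).trans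
      ((SheafOfModules.toSheaf (U' : Scheme.{u}).ringCatSheaf).map_comp _ _)
  unfold Phi
  exact ((Category.assoc _ _ _).symm.trans
    ((congrArg (fun t => t ≫ (SheafOfModules.toSheaf (U' : Scheme.{u}).ringCatSheaf).map
      ((tau h).app G)) h1).trans ((Category.assoc _ _ _).trans
      ((congrArg (fun t => CohPull.theta (jj h) (F.restrict U.ι) ≫ t) h2').trans
        (Category.assoc _ _ _).symm))))

lemma resLE_natural {U U' : X.Opens} (h : U' ≤ U) {F G : X.Modules} (ψ : F ⟶ G) (p : ℕ)
    (x : Coh.HHon X F U p) :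
    CohPull.resLE G h p (CohPull.mapH ((restrictFunctor U.ι).map ψ) p x) =
      CohPull.mapH ((restrictFunctor U'.ι).map ψ) p (CohPull.resLE F h p x) := by
  rw [resLE_eq, resLE_eq]
  have h1 := PushEdge1.pullAb_natural (jj h).base ((CohCmp.toAbOn X U).map ψ) p x
  refine (congrArg (fun t => Sheaf.H.map (Phi h G) p t) h1).trans ?_
  rw [← Sheaf.H.map_comp_apply, Phi_natural, Sheaf.H.map_comp_apply]
  rfl

lemma resLE_δ {U U' : X.Opens} (h : U' ≤ U) (S : ShortComplex X.Modules)
    (hA : (S.map (CohCmp.toAbOn X U)).ShortExact) (hA' : (S.map (CohCmp.toAbOn X U')).ShortExact)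
    (p : ℕ) (x : Coh.HHon X S.X₃ U p) :
    CohPull.resLE S.X₁ h (p + 1) (CohCmp.extδ hA p x) =
      CohCmp.extδ hA' p (CohPull.resLE S.X₃ h p x) := by
  rw [resLE_eq, resLE_eq]
  have h1 := PushEdge1.pullAb_δ (jj h).base hA p x
  let φ : (S.map (CohCmp.toAbOn X U)).map (CohPull.inv (jj h).base) ⟶
      S.map (CohCmp.toAbOn X U') :=
    { τ₁ := Phi h S.X₁
      τ₂ := Phi h S.X₂
      τ₃ := Phi h S.X₃
      comm₁₂ := (Phi_natural h S.f).symm
      comm₂₃ := (Phi_natural h S.g).symm }
  have h2 := PushEdge1.map_δ (hA.map_of_exact (CohPull.inv (jj h).base)) hA' φ p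
    (CohPull.pullAb (jj h).base ((CohCmp.toAbOn X U).obj S.X₃) p x)
  exact (congrArg (fun y => Sheaf.H.map (Phi h S.X₁) (p + 1) y) h1).trans h2

end Groth.Agent.Helper6.ResLE1
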