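import Mathlib
import Groth.Agent.Helper6.ResLE1b

set_option autoImplicit false
set_option linter.style.haveILetI false
set_option linter.unusedSectionVars false
set_option linter.unusedVariables false

/-!
# `CohPull.resLE` in degree zero is the restriction of sections
-/

namespace Groth.Agent.Helper6.ResLE1

open CategoryTheory Limits Abelian Opposite TopologicalSpace AlgebraicGeometry
  AlgebraicGeometry.Scheme.Modules

universe u

section General

variable {X Y : Scheme.{u}}

lemma pullbackCongr_trans_app {f g k : X ⟶ Y} (e₁ : f = g) (e₂ : g = k) (F : Y.Modules) :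
    (pullbackCongr e₁).hom.app F ≫ (pullbackCongr e₂).hom.app F =
      (pullbackCongr (e₁.trans e₂)).hom.app F := by
  subst e₁; subst e₂; simp [pullbackCongr]

lemma left_unit_app (f : X ⟶ Y) (F : Y.Modules) :
    (pullbackComp f (𝟙 Y)).inv.app F ≫ (Scheme.Modules.pullback f).map ((pullbackId Y).hom.app F) =
      (pullbackCongr (Category.comp_id f)).hom.app F := by
  have h := congrArg (fun t => t.app F) (pseudofunctor_left_unitality f)
  simp only [NatTrans.comp_app, Functor.whiskerRight_app, Functor.leftUnitor_hom_app] at h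
  refine ((congrArg (fun t => (pullbackComp f (𝟙 Y)).inv.app F ≫ t)
    (Category.comp_id _).symm).trans h).trans ?_
  simp [pullbackCongr]

lemma pushforwardCongr_rfl_inv_app (f : X ⟶ Y) (M : X.Modules) :
    (pushforwardCongr (rfl : f = f)).inv.app M = 𝟙 _ := by
  ext U
  simp

lemma unit_congr {f g : X ⟶ Y} (e : f = g) (F : Y.Modules) :
    (pullbackPushforwardAdjunction f).unit.app F ≫
        (pushforward f).map ((pullbackCongr e).hom.app F) =
      (pullbackPushforwardAdjunction g).unit.app F ≫
        (pushforwardCongr e).inv.app ((Scheme.Modules.pullback g).obj F) := by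
  subst e
  rw [pushforwardCongr_rfl_inv_app]
  simp [pullbackCongr]

end General

variable {X : Scheme.{u}}

lemma jj_comp_ι {U U' : X.Opens} (h : U' ≤ U) : jj h ≫ U.ι = U'.ι := by
  simp [jj]

lemma tau_app_simpl {U U' : X.Opens} (h : U' ≤ U) (F : X.Modules) :
    (tau h).app F =
      (Scheme.Modules.pullback (jj h)).map ((restrictFunctorIsoPullback U.ι).hom.app F) ≫
        (pullbackComp (jj h) U.ι).hom.app F ≫ (pullbackCongr (jj_comp_ι h)).hom.app F ≫
          (restrictFunctorIsoPullback U'.ι).inv.app F := by
  have hn : (restrictFunctorIsoPullback U'.ι).inv.app ((Scheme.Modules.pullback (𝟙 X)).obj F) ≫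
      (restrictFunctor U'.ι).map ((pullbackId X).hom.app F) =
      (Scheme.Modules.pullback U'.ι).map ((pullbackId X).hom.app F) ≫
        (restrictFunctorIsoPullback U'.ι).inv.app F :=
    ((restrictFunctorIsoPullback U'.ι).inv.naturality ((pullbackId X).hom.app F)).symm
  have h3 : (pullbackCongr (Scheme.Hom.resLE_comp_ι (𝟙 X)
        (by rwa [Scheme.Hom.id_preimage] : U' ≤ (𝟙 X) ⁻¹ᵁ U))).hom.app F ≫
      (pullbackComp U'.ι (𝟙 X)).inv.app F ≫
      (Scheme.Modules.pullback U'.ι).map ((pullbackId X).hom.app F) =
      (pullbackCongr (jj_comp_ι h)).hom.app F := by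
    rw [left_unit_app, pullbackCongr_trans_app]
  unfold tau
  simp only [NatTrans.comp_app, Functor.whiskerRight_app, Functor.whiskerLeft_app,
    Functor.leftUnitor_hom_app]
  rw [← h3]
  simp only [Category.assoc]
  rw [← hn]
  rfl

/-- the morphism `F|_U ⟶ j_* (F|_{U'})` adjoint to `tau` -/
noncomputable def rho {U U' : X.Opens} (h : U' ≤ U) (F : X.Modules) :
    F.restrict U.ι ⟶ (pushforward (jj h)).obj (F.restrict U'.ι) :=
  (pullbackPushforwardAdjunction (jj h)).unit.app (F.restrict U.ι) ≫
    (pushforward (jj h)).map ((tau h).app F)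

lemma unit_rho {U U' : X.Opens} (h : U' ≤ U) (F : X.Modules) :
    (restrictAdjunction U.ι).unit.app F ≫ (pushforward U.ι).map (rho h F) =
      (restrictAdjunction U'.ι).unit.app F ≫
        (pushforwardCongr (jj_comp_ι h)).inv.app (F.restrict U'.ι) ≫
        (pushforwardComp (jj h) U.ι).inv.app (F.restrict U'.ι) := by
  unfold rho
  rw [tau_app_simpl]
  exact unit_chase (restrictAdjunction U.ι) (pullbackPushforwardAdjunction U.ι)
    (restrictAdjunction U'.ι) (pullbackPushforwardAdjunction U'.ι)
    (pullbackPushforwardAdjunction (jj h)) (pullbackPushforwardAdjunction (jj h ≫ U.ι))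
    (pullbackComp (jj h) U.ι) (pushforwardComp (jj h) U.ι)
    (conjugateEquiv_pullbackComp_inv (jj h) U.ι)
    (pullbackCongr (jj_comp_ι h)) (pushforwardCongr (jj_comp_ι h))
    (unit_congr (jj_comp_ι h)) F

end Groth.Agent.Helper6.ResLE1
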