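import Mathlib
import Groth.Agent.Helper6.ResLE2
import Groth.Agent.Helper6.SectCmpSurj

set_option autoImplicit false
set_option linter.style.haveILetI false
set_option linter.unusedSectionVars false
set_option linter.unusedVariables false

namespace Groth.Agent.Helper6.ResLE1

open CategoryTheory Limits Abelian Opposite TopologicalSpace AlgebraicGeometry
  AlgebraicGeometry.Scheme.Modules

universe u

variable {X : Scheme.{u}}

lemma map_map (F : X.Modules) {A B C : X.Opens} (i₁ : B ⟶ A) (i₂ : C ⟶ B) (s : Γ(F, A)) :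
    F.presheaf.map i₂.op (F.presheaf.map i₁.op s) = F.presheaf.map (i₂ ≫ i₁).op s := by
  rw [op_comp, Functor.map_comp]; rfl

lemma map_congr' (F : X.Modules) {A B : X.Opens} (i i' : B ⟶ A) (s : Γ(F, A)) :
    F.presheaf.map i.op s = F.presheaf.map i'.op s := by
  rw [Subsingleton.elim i i']

lemma map_injective_of_eq (F : X.Modules) {A B : X.Opens} (e : A = B) (k : A ⟶ B) :
    Function.Injective (F.presheaf.map k.op) := by
  subst e
  rw [Subsingleton.elim k (𝟙 _), op_id, CategoryTheory.Functor.map_id]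
  exact fun _ _ h => h

lemma rho_app_aux {U U' : X.Opens} (h : U' ≤ U) (F : X.Modules) (s : Γ(F, U))
    (i : U'.ι ''ᵁ ((jj h) ⁻¹ᵁ (U.ι ⁻¹ᵁ U)) ⟶ U) :
    (rho h F).app (U.ι ⁻¹ᵁ U) (F.presheaf.map (homOfLE (U.ι.image_preimage_le U)).op s) =
      F.presheaf.map i.op s := by
  have key := congrArg (fun t => Scheme.Modules.Hom.app t U) (unit_rho h F)
  simp only [Hom.comp_app, restrictAdjunction_unit_app_app, pushforward_map_app,
    pushforwardCongr_inv_app_app, pushforwardComp_inv_app_app] at key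
  erw [Category.comp_id] at key
  have key2 := ConcreteCategory.congr_hom key s
  simp only [ConcreteCategory.comp_apply] at key2
  have e1 : (jj h ≫ U.ι) ⁻¹ᵁ U = U'.ι ⁻¹ᵁ U := by rw [jj_comp_ι]
  have i' : U'.ι ''ᵁ ((jj h ≫ U.ι) ⁻¹ᵁ U) ⟶ U := i
  have key3 : F.presheaf.map ((Scheme.Hom.opensFunctor U'.ι).map (eqToHom e1)).op
      (F.presheaf.map (homOfLE (U'.ι.image_preimage_le U)).op s) = F.presheaf.map i'.op s :=
    (map_map F (homOfLE (U'.ι.image_preimage_le U))
      ((Scheme.Hom.opensFunctor U'.ι).map (eqToHom e1)) s).trans (map_congr' F _ i' s)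
  have key4 : F.presheaf.map i'.op s = F.presheaf.map i.op s := map_congr' F i' i s
  exact key2.trans (key3.trans key4)

lemma rho_top {U U' : X.Opens} (h : U' ≤ U) (F : X.Modules) (s : Γ(F, U)) :
    (rho h F).app ⊤ (F.presheaf.map (eqToHom U.ι_image_top).op s) =
      F.presheaf.map (eqToHom U'.ι_image_top).op (F.presheaf.map (homOfLE h).op s) := by
  have e0 : U.ι ⁻¹ᵁ U = ⊤ := Scheme.Opens.ι_preimage_self U
  let i : (U.ι ⁻¹ᵁ U) ⟶ (⊤ : (U : Scheme.{u}).Opens) := homOfLE le_top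
  have hnat := SectCmpSurj.app_map (rho h F) i (F.presheaf.map (eqToHom U.ι_image_top).op s)
  have hs : (F.restrict U.ι).presheaf.map i.op (F.presheaf.map (eqToHom U.ι_image_top).op s) =
      F.presheaf.map (homOfLE (U.ι.image_preimage_le U)).op s :=
    (map_map F (eqToHom U.ι_image_top) ((Scheme.Hom.opensFunctor U.ι).map i) s).trans
      (map_congr' F _ _ s)
  have hle : U'.ι ''ᵁ ((jj h) ⁻¹ᵁ (U.ι ⁻¹ᵁ U)) ≤ U := (Scheme.Opens.ι_image_le U' _).trans h
  have k1 := rho_app_aux h F s (homOfLE hle)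
  let k : U'.ι ''ᵁ ((jj h) ⁻¹ᵁ (U.ι ⁻¹ᵁ U)) ⟶ U'.ι ''ᵁ ((jj h) ⁻¹ᵁ ⊤) :=
    (Scheme.Hom.opensFunctor U'.ι).map ((Opens.map (jj h).base).map i)
  have hk : Function.Injective (F.presheaf.map k.op) :=
    map_injective_of_eq F (by rw [e0]) k
  apply hk
  have lhs : F.presheaf.map k.op ((rho h F).app ⊤ (F.presheaf.map (eqToHom U.ι_image_top).op s)) =
      F.presheaf.map (homOfLE hle).op s :=
    hnat.symm.trans ((congrArg (fun t => (rho h F).app (U.ι ⁻¹ᵁ U) t) hs).trans k1)
  have rhs : F.presheaf.map k.op (F.presheaf.map (eqToHom U'.ι_image_top).op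
      (F.presheaf.map (homOfLE h).op s)) = F.presheaf.map (homOfLE hle).op s :=
    ((congrArg (fun t => F.presheaf.map k.op t)
      (map_map F (homOfLE h) (eqToHom U'.ι_image_top) s)).trans
      (map_map F _ k s)).trans (map_congr' F _ _ s)
  exact lhs.trans rhs.symm

lemma equiv₀_sectH0 (F : X.Modules) (V : X.Opens) (t : Γ(F, V)) :
    Sheaf.H.equiv₀ (Coh.toAb (F.restrict V.ι)) isTerminalTop (CohPull.sectH0 F V t) =
      F.presheaf.map (eqToHom V.ι_image_top).op t := by
  unfold CohPull.sectH0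
  rw [AddEquiv.trans_apply, AddEquiv.apply_symm_apply]
  rfl

lemma equiv₀_mapH {Y : Scheme.{u}} {M N : Y.Modules} (φ : M ⟶ N) (y : Coh.HH Y M 0) :
    Sheaf.H.equiv₀ (Coh.toAb N) isTerminalTop (CohPull.mapH φ 0 y) =
      φ.app ⊤ (Sheaf.H.equiv₀ (Coh.toAb M) isTerminalTop y) :=
  (Sheaf.H.equiv₀_naturality (hT := isTerminalTop)
    ((SheafOfModules.toSheaf Y.ringCatSheaf).map φ) y).symm

lemma mapH_comp {Y : Scheme.{u}} {M N K : Y.Modules} (b : M ⟶ N) (c : N ⟶ K) (p : ℕ)
    (y : Coh.HH Y M p) :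
    CohPull.mapH (b ≫ c) p y = CohPull.mapH c p (CohPull.mapH b p y) :=
  (congrArg (fun t => Sheaf.H.map t p y)
    ((SheafOfModules.toSheaf Y.ringCatSheaf).map_comp b c)).trans (Sheaf.H.map_comp_apply _ _ y)

theorem resLE_sectH0 {U U' : X.Opens} (h : U' ≤ U) (F : X.Modules) (s : Γ(F, U)) :
    CohPull.resLE F h 0 (CohPull.sectH0 F U s) =
      CohPull.sectH0 F U' (F.presheaf.map (homOfLE h).op s) := by
  apply (Sheaf.H.equiv₀ (Coh.toAb (F.restrict U'.ι)) isTerminalTop).injective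
  rw [equiv₀_sectH0]
  have h1 : CohPull.resLE F h 0 (CohPull.sectH0 F U s) =
      CohPull.mapH ((restrictFunctor U'.ι).map ((pullbackId X).hom.app F)) 0
        (CohPull.mapH (CohPull.pullOnIso (𝟙 X) U U' (by rwa [Scheme.Hom.id_preimage]) F).hom 0
          (CohPull.pullMod (jj h) (F.restrict U.ι) 0 (CohPull.sectH0 F U s))) := by
    simp only [CohPull.resLE, CohPull.pullOn, AddMonoidHom.coe_comp, Function.comp_apply]
  have h2 : CohPull.mapH ((tau h).app F) 0
        (CohPull.pullMod (jj h) (F.restrict U.ι) 0 (CohPull.sectH0 F U s)) =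
      CohPull.mapH ((restrictFunctor U'.ι).map ((pullbackId X).hom.app F)) 0
        (CohPull.mapH (CohPull.pullOnIso (𝟙 X) U U' (by rwa [Scheme.Hom.id_preimage]) F).hom 0
          (CohPull.pullMod (jj h) (F.restrict U.ι) 0 (CohPull.sectH0 F U s))) :=
    (congrArg (fun t => CohPull.mapH t 0
      (CohPull.pullMod (jj h) (F.restrict U.ι) 0 (CohPull.sectH0 F U s))) (tau_app h F)).trans
      (mapH_comp _ _ 0 _)
  have hL := h1.trans h2.symm
  rw [hL, equiv₀_mapH]
  refine (congrArg (fun t => ((tau h).app F).app ⊤ t)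
    ((CohPull.equiv₀_pullMod (jj h) (F.restrict U.ι) _).trans
      (congrArg (fun t => ((pullbackPushforwardAdjunction (jj h)).unit.app
        (F.restrict U.ι)).app ⊤ t) (equiv₀_sectH0 F U s)))).trans ?_
  exact rho_top h F s

end Groth.Agent.Helper6.ResLE1
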