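import Mathlib
import Groth.Prelude.Def_CohCmp
import Groth.Agent.Helper6.SectCmpSurj
import Groth.Agent.Helper6.FlasqueMod
import Groth.Agent.Helper1.ExtAcyc
import Groth.Agent.Helper1.Horseshoe
import Groth.Agent.Helper1.RpCmpNat
import Groth.Agent.S0453

set_option autoImplicit false
set_option linter.style.haveILetI false
set_option linter.unusedSectionVars false
set_option linter.unusedVariables false

/-!
# The comparison `H^q(X, F) → Γ(S, R^q f_* F)` is bijective when the `R^j f_* F` are acyclic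
-/

namespace Groth.Agent.Helper6.SectCmpAff

open CategoryTheory Limits Abelian Opposite TopologicalSpace AlgebraicGeometry
  AlgebraicGeometry.Scheme.Modules
open Groth.Agent.Helper9.RpushCmp Groth.Agent.Helper1.ExtAcyc Groth.Agent.Helper1.DeltaCmp

universe u

lemma exact_mk_of_map {A B : Type*} [Category A] [Category B] [Abelian A] [Abelian B]
    (F : A ⥤ B) [F.Additive] [PreservesFiniteLimits F] [PreservesFiniteColimits F]
    {X₁ X₂ X₃ : A} (a : X₁ ⟶ X₂) (b : X₂ ⟶ X₃) (w : a ≫ b = 0)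
    (h : (ShortComplex.mk a b w).Exact) :
    ∃ w' : F.map a ≫ F.map b = 0, (ShortComplex.mk (F.map a) (F.map b) w').Exact :=
  ⟨by rw [← F.map_comp, w, F.map_zero], h.map F⟩

variable {X Y : Scheme.{u}} (f : X ⟶ Y)

/-- the constant sheaf `ℤ` -/
noncomputable abbrev ZZ (Y : Scheme.{u}) : CohTop.Ab Y := CohTop.const Y (ULift.{u} ℤ)

lemma isFlasque_toAbOn (U : X.Opens) (I : X.Modules) [hI : Injective I] :
    TopCat.Sheaf.IsFlasque ((CohCmp.toAbOn X U).obj I) where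
  epi {V W} i := by
    haveI := @FlasqueMod.isFlasque_toSheaf_of_injective _ X.ringCatSheaf I hI
    exact TopCat.Presheaf.IsFlasque.epi (F := (Coh.toAb I).obj)
      ((U.ι.opensFunctor.map i.unop).op)

lemma app_top_eq {M N : Y.Modules} (φ : M ⟶ N) (x : Sheaf.H ((tA Y).obj M) 0) :
    φ.app ⊤ (Sheaf.H.equiv₀ ((tA Y).obj M) isTerminalTop x) =
      Sheaf.H.equiv₀ ((tA Y).obj N) isTerminalTop (Sheaf.H.map ((tA Y).map φ) 0 x) :=
  Sheaf.H.equiv₀_naturality (hT := isTerminalTop) ((tA Y).map φ) x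

lemma surj_of_epi {M N : Y.Modules} (φ : M ⟶ N)
    (h : Epi ((extFunctorObj (ZZ Y) 0).map ((tA Y).map φ))) (t : Γ(N, ⊤)) :
    ∃ t' : Γ(M, ⊤), φ.app ⊤ t' = t := by
  rw [AddCommGrpCat.epi_iff_surjective] at h
  obtain ⟨w, hw⟩ := h ((Sheaf.H.equiv₀ ((tA Y).obj N) isTerminalTop).symm t)
  refine ⟨Sheaf.H.equiv₀ ((tA Y).obj M) isTerminalTop w, ?_⟩
  rw [app_top_eq]
  have hw' : Sheaf.H.map ((tA Y).map φ) 0 w =
      (Sheaf.H.equiv₀ ((tA Y).obj N) isTerminalTop).symm t := hw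
  rw [hw', AddEquiv.apply_symm_apply]

lemma exact_sections {M₁ M₂ M₃ : Y.Modules} (b : M₁ ⟶ M₂) (c : M₂ ⟶ M₃)
    (w : (extFunctorObj (ZZ Y) 0).map ((tA Y).map b) ≫
      (extFunctorObj (ZZ Y) 0).map ((tA Y).map c) = 0)
    (h : (ShortComplex.mk _ _ w).Exact) (t' : Γ(M₂, ⊤)) (ht' : c.app ⊤ t' = 0) :
    ∃ u : Γ(M₁, ⊤), b.app ⊤ u = t' := by
  rw [ShortComplex.ab_exact_iff] at h
  have h0 : Sheaf.H.map ((tA Y).map c) 0
      ((Sheaf.H.equiv₀ ((tA Y).obj M₂) isTerminalTop).symm t') = 0 := by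
    rw [Sheaf.H.equiv₀_symm_naturality]
    have h1 : ((tA Y).map c).hom.app (op ⊤) t' = 0 := ht'
    rw [h1, map_zero]
  obtain ⟨x₁, hx₁⟩ := h ((Sheaf.H.equiv₀ ((tA Y).obj M₂) isTerminalTop).symm t') h0
  refine ⟨Sheaf.H.equiv₀ ((tA Y).obj M₁) isTerminalTop x₁, ?_⟩
  rw [app_top_eq]
  have hx₁' : Sheaf.H.map ((tA Y).map b) 0 x₁ =
      (Sheaf.H.equiv₀ ((tA Y).obj M₂) isTerminalTop).symm t' := hx₁
  rw [hx₁', AddEquiv.apply_symm_apply]

variable [HasInjectiveResolutions X.Modules] {Δ : RDer.DerivedLES (pushforward f)}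
  (E : CohCmp.SectCmp f Δ)

/-- the acyclicity class -/
def C (G : X.Modules) : Prop :=
  ∀ j p : ℕ, Subsingleton (Sheaf.H ((tA Y).obj ((Coh.Rpush f j).obj G)) (p + 1) : Type u)

theorem zero_bijective (G : X.Modules) : Function.Bijective (E.ε ⊤ G 0) := by
  haveI : IsIso ((pushforward f).toRightDerivedZero.app G) := inferInstance
  have h : ∀ x, E.ε ⊤ G 0 x = ((pushforward f).toRightDerivedZero.app G).app ⊤
      ((CohPull.sectH0 G (f ⁻¹ᵁ ⊤)).symm x) := by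
    intro x
    rw [← E.zero, AddEquiv.apply_symm_apply]
  have h2 : Function.Bijective (((pushforward f).toRightDerivedZero.app G).app ⊤) :=
    ConcreteCategory.bijective_of_isIso _
  rw [show ⇑(E.ε ⊤ G 0) = ⇑(((pushforward f).toRightDerivedZero.app G).app ⊤) ∘
    ⇑(CohPull.sectH0 G (f ⁻¹ᵁ ⊤)).symm from funext h]
  exact h2.comp (CohPull.sectH0 G (f ⁻¹ᵁ ⊤)).symm.bijective

theorem succ_bijective (q : ℕ) (S : ShortComplex X.Modules) (hS : S.ShortExact)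
    [Injective S.X₂]
    (hsurj : ∀ t : Γ((Coh.Rpush f (q + 1)).obj S.X₁, ⊤),
      ∃ t' : Γ((Coh.Rpush f q).obj S.X₃, ⊤), (Δ.δ S hS q (q + 1) rfl).app ⊤ t' = t)
    (hex : ∀ t' : Γ((Coh.Rpush f q).obj S.X₃, ⊤), (Δ.δ S hS q (q + 1) rfl).app ⊤ t' = 0 →
      ∃ u : Γ((Coh.Rpush f q).obj S.X₂, ⊤), ((Coh.Rpush f q).map S.g).app ⊤ u = t')
    (h2 : Function.Surjective (E.ε ⊤ S.X₂ q)) (h3 : Function.Bijective (E.ε ⊤ S.X₃ q)) :
    Function.Bijective (E.ε ⊤ S.X₁ (q + 1)) := by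
  have hA := SectCmpSurj.shortExact_toAbOn (f ⁻¹ᵁ ⊤) hS
  haveI := isFlasque_toAbOn (f ⁻¹ᵁ ⊤) S.X₂
  have hX : Subsingleton (Sheaf.H ((CohCmp.toAbOn X (f ⁻¹ᵁ ⊤)).obj S.X₂) (q + 1)) :=
    Groth.Agent.S0453.result _ q
  constructor
  · rw [injective_iff_map_eq_zero]
    intro x hx
    obtain ⟨x', rfl⟩ := Ext.covariant_sequence_exact₁ _ hA x (@Subsingleton.elim _ hX _ _) rfl
    have h1 := E.delta ⊤ S hS hA q x'
    have h1' : (Δ.δ S hS q (q + 1) rfl).app ⊤ (E.ε ⊤ S.X₃ q x') = 0 := h1.symm.trans hx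
    obtain ⟨u, hu⟩ := hex _ h1'
    obtain ⟨v, rfl⟩ := h2 u
    have h4 := E.natural ⊤ S.g q v
    have h5 : CohPull.mapH ((restrictFunctor (f ⁻¹ᵁ ⊤).ι).map S.g) q v = x' :=
      h3.1 (h4.trans hu)
    subst h5
    have hc : (Ext.mk₀ ((CohCmp.toAbOn X (f ⁻¹ᵁ ⊤)).map S.g)).comp hA.extClass (zero_add 1) = 0 :=
      hA.comp_extClass
    have h6 : (Sheaf.H.map ((CohCmp.toAbOn X (f ⁻¹ᵁ ⊤)).map S.g) q v).comp hA.extClass rfl = 0 := by
      rw [Sheaf.H.map_apply, Ext.comp_assoc_of_second_deg_zero, hc, Ext.comp_zero]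
    exact h6
  · intro t
    obtain ⟨t', rfl⟩ := hsurj t
    obtain ⟨x', rfl⟩ := h3.2 t'
    exact ⟨CohCmp.extδ hA q x', E.delta ⊤ S hS hA q x'⟩

theorem main (q : ℕ) : ∀ G : X.Modules, C f G → Function.Bijective (E.ε ⊤ G q) := by
  induction q with
  | zero => intro G _; exact zero_bijective f E G
  | succ q ih =>
    intro G hG
    haveI : EnoughInjectives X.Modules :=
      Groth.Agent.Helper9.ModCechExt.enoughInjectives_mod X.ringCatSheaf
    let S : ShortComplex X.Modules :=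
      ShortComplex.mk (Injective.ι G) (cokernel.π (Injective.ι G)) (cokernel.condition _)
    have hS : S.ShortExact :=
      { exact := ShortComplex.exact_cokernel _
        mono_f := by dsimp [S]; infer_instance
        epi_g := by dsimp [S]; infer_instance }
    haveI hI : Injective S.X₂ := by dsimp [S]; infer_instance
    have hz : ∀ n, IsZero ((Coh.Rpush f (n + 1)).obj S.X₂) :=
      fun n => Functor.isZero_rightDerived_obj_injective_succ _ _ _
    have hCI : C f S.X₂ := by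
      intro j
      cases j with
      | zero =>
        haveI := @FlasqueMod.isFlasque_toSheaf_of_injective _ X.ringCatSheaf S.X₂ hI
        have h0 : Acyc (ZZ Y) ((tA Y).obj ((pushforward f).obj S.X₂)) := fun p =>
          Groth.Agent.S0453.result ((CohTop.push f.base).obj ((tA X).obj S.X₂)) p
        exact acyc_of_iso
          ((tA Y).mapIso ((pushforward f).rightDerivedZeroIsoSelf.app S.X₂).symm) h0
      | succ j => exact acyc_of_isZero (Functor.map_isZero (tA Y) (hz j))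
    have hles : HasLES (fun n => Coh.Rpush f n ⋙ tA Y) S := by
      intro n
      obtain ⟨w₁, e₁⟩ := exact_mk_of_map (tA Y) _ _ _ (Δ.exact₃ S hS n (n + 1) rfl)
      obtain ⟨w₂, e₂⟩ := exact_mk_of_map (tA Y) _ _ _ (Δ.exact₁ S hS n (n + 1) rfl)
      exact ⟨(tA Y).map (Δ.δ S hS n (n + 1) rfl), w₁, w₂, e₁, e₂⟩
    haveI hmono0 : Mono ((Coh.Rpush f 0).map S.f) :=
      Groth.Agent.Helper1.Horseshoe.mono_rightDerived_zero_map (pushforward f) S hS
    have hmono : Mono ((tA Y).map ((Coh.Rpush f 0).map S.f)) := inferInstance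
    have hCQ : C f S.X₃ :=
      (effacement_comp S (fun n => Coh.Rpush f n ⋙ tA Y) (ZZ Y) hles
        (exact_mk_of_map (tA Y) _ _ _ (Δ.exact₂ S hS 0)) hmono
        (fun n => Functor.map_isZero (tA Y) (hz n)) hG (hCI 0)).1
    have key : (∀ t : Γ((Coh.Rpush f (q + 1)).obj S.X₁, ⊤),
        ∃ t' : Γ((Coh.Rpush f q).obj S.X₃, ⊤), (Δ.δ S hS q (q + 1) rfl).app ⊤ t' = t) ∧
      (∀ t' : Γ((Coh.Rpush f q).obj S.X₃, ⊤), (Δ.δ S hS q (q + 1) rfl).app ⊤ t' = 0 →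
        ∃ u : Γ((Coh.Rpush f q).obj S.X₂, ⊤), ((Coh.Rpush f q).map S.g).app ⊤ u = t') := by
      cases q with
      | zero =>
        haveI hepiδ : Epi (Δ.δ S hS 0 1 rfl) :=
          (Δ.exact₁ S hS 0 1 rfl).epi_f ((hz 0).eq_of_tgt _ _)
        haveI : Mono ((tA Y).map ((Coh.Rpush f 0).map S.f)) := hmono
        haveI : Epi ((tA Y).map (Δ.δ S hS 0 1 rfl)) := inferInstance
        obtain ⟨w₁, e₁⟩ := exact_mk_of_map (tA Y) _ _ _ (Δ.exact₂ S hS 0)
        obtain ⟨w₂, e₂⟩ := exact_mk_of_map (tA Y) _ _ _ (Δ.exact₃ S hS 0 1 rfl)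
        obtain ⟨-, hepi, w', ex'⟩ := four_term (P := ZZ Y)
          ((tA Y).map ((Coh.Rpush f 0).map S.f)) ((tA Y).map ((Coh.Rpush f 0).map S.g))
          ((tA Y).map (Δ.δ S hS 0 1 rfl)) w₁ w₂ e₁ e₂ (hG 0) (hCI 0) (hG 1)
        exact ⟨surj_of_epi _ hepi, exact_sections _ _ w' ex'⟩
      | succ q' =>
        have hepiδ : Epi (Δ.δ S hS (q' + 1) (q' + 1 + 1) rfl) :=
          (Δ.exact₁ S hS (q' + 1) (q' + 1 + 1) rfl).epi_f ((hz (q' + 1)).eq_of_tgt _ _)
        have hmonoδ : Mono (Δ.δ S hS (q' + 1) (q' + 1 + 1) rfl) :=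
          (Δ.exact₃ S hS (q' + 1) (q' + 1 + 1) rfl).mono_g ((hz q').eq_of_src _ _)
        haveI : IsIso (Δ.δ S hS (q' + 1) (q' + 1 + 1) rfl) := isIso_of_mono_of_epi _
        have hbij : Function.Bijective ((Δ.δ S hS (q' + 1) (q' + 1 + 1) rfl).app ⊤) :=
          ConcreteCategory.bijective_of_isIso _
        refine ⟨fun t => hbij.2 t, fun t' ht' => ⟨0, ?_⟩⟩
        rw [map_zero]
        exact (hbij.1 (ht'.trans (map_zero _).symm)).symm
    exact succ_bijective f E q S hS key.1 key.2 (ih S.X₂ hCI).2 (ih S.X₃ hCQ)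

end Groth.Agent.Helper6.SectCmpAff
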