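import Mathlib
import Groth.Agent.Helper6.ResLE2b
import Groth.Agent.Helper6.SectCmpAff
import Groth.Agent.S0453

set_option autoImplicit false
set_option linter.style.haveILetI false
set_option linter.unusedSectionVars false
set_option linter.unusedVariables false

/-!
# Uniqueness of delta-compatible families, transitivity of `resLE`, and local injectivity of the comparison
-/

namespace Groth.Agent.Helper6.ResLE3

open CategoryTheory Limits Abelian Opposite TopologicalSpace AlgebraicGeometry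
  AlgebraicGeometry.Scheme.Modules
open Groth.Agent.Helper6.ResLE1

universe u

section OneScheme

variable {X : Scheme.{u}}

lemma exists_extδ_eq (U : X.Opens) (S : ShortComplex X.Modules) [hI : Injective S.X₂]
    (hA : (S.map (CohCmp.toAbOn X U)).ShortExact) (p : ℕ) (x : Coh.HHon X S.X₁ U (p + 1)) :
    ∃ z : Coh.HHon X S.X₃ U p, CohCmp.extδ hA p z = x := by
  haveI := SectCmpAff.isFlasque_toAbOn U S.X₂
  have hX : Subsingleton (Sheaf.H ((CohCmp.toAbOn X U).obj S.X₂) (p + 1)) :=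
    Groth.Agent.S0453.result _ p
  obtain ⟨z, hz⟩ := Ext.covariant_sequence_exact₁ _ hA x (@Subsingleton.elim _ hX _ _) rfl
  exact ⟨z, hz⟩

theorem delta_unique (U : X.Opens) (G : ℕ → X.Modules → Type u)
    (T₁ T₂ : ∀ (p : ℕ) (F : X.Modules), Coh.HHon X F U p → G p F)
    (h0 : ∀ F x, T₁ 0 F x = T₂ 0 F x)
    (hδ : ∀ (S : ShortComplex X.Modules) (hS : S.ShortExact)
      (hA : (S.map (CohCmp.toAbOn X U)).ShortExact) (p : ℕ),
      ∃ d : G p S.X₃ → G (p + 1) S.X₁, ∀ z,
        T₁ (p + 1) S.X₁ (CohCmp.extδ hA p z) = d (T₁ p S.X₃ z) ∧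
        T₂ (p + 1) S.X₁ (CohCmp.extδ hA p z) = d (T₂ p S.X₃ z)) :
    ∀ p F x, T₁ p F x = T₂ p F x := by
  intro p
  induction p with
  | zero => exact h0
  | succ p ih =>
    intro F x
    haveI : EnoughInjectives X.Modules :=
      Groth.Agent.Helper9.ModCechExt.enoughInjectives_mod X.ringCatSheaf
    let S : ShortComplex X.Modules :=
      ShortComplex.mk (Injective.ι F) (cokernel.π (Injective.ι F)) (cokernel.condition _)
    have hS : S.ShortExact :=
      { exact := ShortComplex.exact_cokernel _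
        mono_f := by dsimp [S]; infer_instance
        epi_g := by dsimp [S]; infer_instance }
    haveI hI : Injective S.X₂ := by dsimp [S]; infer_instance
    have hA := SectCmpSurj.shortExact_toAbOn U hS
    obtain ⟨z, rfl⟩ := exists_extδ_eq U S hA p x
    obtain ⟨d, hd⟩ := hδ S hS hA p
    exact ((hd z).1.trans (congrArg d (ih S.X₃ z))).trans (hd z).2.symm

theorem resLE_trans {U U' U'' : X.Opens} (h : U' ≤ U) (h' : U'' ≤ U') (F : X.Modules) (p : ℕ)
    (x : Coh.HHon X F U p) :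
    CohPull.resLE F h' p (CohPull.resLE F h p x) = CohPull.resLE F (h'.trans h) p x := by
  refine delta_unique U (fun p F => Coh.HHon X F U'' p)
    (fun p F x => CohPull.resLE F h' p (CohPull.resLE F h p x))
    (fun p F x => CohPull.resLE F (h'.trans h) p x) ?_ ?_ p F x
  · intro F x
    obtain ⟨s, rfl⟩ := (CohPull.sectH0 F U).surjective x
    show CohPull.resLE F h' 0 (CohPull.resLE F h 0 (CohPull.sectH0 F U s)) =
      CohPull.resLE F (h'.trans h) 0 (CohPull.sectH0 F U s)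
    rw [resLE_sectH0, resLE_sectH0, resLE_sectH0, map_map]
    rfl
  · intro S hS hA p
    have hA' := SectCmpSurj.shortExact_toAbOn U' hS
    have hA'' := SectCmpSurj.shortExact_toAbOn U'' hS
    refine ⟨CohCmp.extδ hA'' p, fun z => ⟨?_, ?_⟩⟩
    · show CohPull.resLE S.X₁ h' (p + 1) (CohPull.resLE S.X₁ h (p + 1) (CohCmp.extδ hA p z)) = _
      rw [resLE_δ h S hA hA', resLE_δ h' S hA' hA'']
    · exact resLE_δ (h'.trans h) S hA hA'' p z

end OneScheme

section LocalLift

variable {Y : Scheme.{u}}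

/-- local lifting of sections along an exact sequence of modules -/
lemma exists_local_lift_of_exact {M₁ M₂ M₃ : Y.Modules} (a : M₁ ⟶ M₂) (b : M₂ ⟶ M₃)
    (w : a ≫ b = 0) (hex : (ShortComplex.mk a b w).Exact) (V : Y.Opens) (t : Γ(M₂, V))
    (ht : b.app V t = 0) (y : Y) (hy : y ∈ V) :
    ∃ (W : Y.Opens) (hWV : W ≤ V) (_ : y ∈ W) (u : Γ(M₁, W)),
      a.app W u = M₂.presheaf.map (homOfLE hWV).op t := by
  let T := ShortComplex.mk a b w
  let ΓV : Y.Modules ⥤ Ab.{u} := toPresheaf Y ⋙ (evaluation (Opens ↥Y)ᵒᵖ Ab.{u}).obj (op V)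
  haveI : ΓV.PreservesZeroMorphisms := ⟨fun _ _ => rfl⟩
  haveI : PreservesFiniteLimits (toPresheaf Y) := inferInstance
  haveI : PreservesFiniteLimits ((evaluation (Opens ↥Y)ᵒᵖ Ab.{u}).obj (op V)) := inferInstance
  haveI : PreservesFiniteLimits ΓV :=
    comp_preservesFiniteLimits (toPresheaf Y) ((evaluation (Opens ↥Y)ᵒᵖ Ab.{u}).obj (op V))
  have hlim := KernelFork.mapIsLimit _ T.cyclesIsKernel ΓV
  have hex2 := ShortComplex.exact_of_f_is_kernel
    (ShortComplex.mk (ΓV.map T.iCycles) (ΓV.map b)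
      (by rw [← ΓV.map_comp]; exact (congrArg ΓV.map T.iCycles_g).trans (ΓV.map_zero _ _))) hlim
  rw [ShortComplex.ab_exact_iff] at hex2
  obtain ⟨c, hc⟩ := hex2 t ht
  haveI : Epi T.toCycles := hex.epi_toCycles
  obtain ⟨W, hWV, hyW, u, hu⟩ :=
    Groth.Agent.Helper4.EpiStalk.exists_local_lift_of_epi T.toCycles V c y hy
  refine ⟨W, hWV, hyW, u, ?_⟩
  have h1 : a.app W u = T.iCycles.app W (T.toCycles.app W u) := by
    have := congrArg (fun φ => Scheme.Modules.Hom.app φ W u) T.toCycles_i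
    exact this.symm
  rw [h1, hu, SectCmpSurj.app_map]
  exact congrArg (fun t => M₂.presheaf.map (homOfLE hWV).op t) hc

end LocalLift

section Comparison

variable {X Y : Scheme.{u}} (f : X ⟶ Y) [HasInjectiveResolutions X.Modules]
  {Δ : RDer.DerivedLES (pushforward f)} (E : CohCmp.SectCmp f Δ)

/-- the comparison map commutes with restriction -/
theorem ε_resLE {V W : Y.Opens} (hWV : W ≤ V) (F : X.Modules) (p : ℕ)
    (x : Coh.HHon X F (f ⁻¹ᵁ V) p) :
    E.ε W F p (CohPull.resLE F (f.preimage_mono hWV) p x) =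
      ((Coh.Rpush f p).obj F).presheaf.map (homOfLE hWV).op (E.ε V F p x) := by
  refine delta_unique (f ⁻¹ᵁ V) (fun p F => ((Coh.Rpush f p).obj F).presheaf.obj (op W))
    (fun p F x => E.ε W F p (CohPull.resLE F (f.preimage_mono hWV) p x))
    (fun p F x => ((Coh.Rpush f p).obj F).presheaf.map (homOfLE hWV).op (E.ε V F p x))
    ?_ ?_ p F x
  · intro F x
    obtain ⟨s, rfl⟩ := (CohPull.sectH0 F (f ⁻¹ᵁ V)).surjective x
    show E.ε W F 0 (CohPull.resLE F (f.preimage_mono hWV) 0 (CohPull.sectH0 F (f ⁻¹ᵁ V) s)) =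
      ((Coh.Rpush f 0).obj F).presheaf.map (homOfLE hWV).op
        (E.ε V F 0 (CohPull.sectH0 F (f ⁻¹ᵁ V) s))
    rw [resLE_sectH0, E.zero, E.zero]
    exact SectCmpSurj.app_map ((pushforward f).toRightDerivedZero.app F) (homOfLE hWV) s
  · intro S hS hA p
    have hA' := SectCmpSurj.shortExact_toAbOn (f ⁻¹ᵁ W) hS
    refine ⟨fun t => (Δ.δ S hS p (p + 1) rfl).app W t, fun z => ⟨?_, ?_⟩⟩
    · show E.ε W S.X₁ (p + 1)
        (CohPull.resLE S.X₁ (f.preimage_mono hWV) (p + 1) (CohCmp.extδ hA p z)) = _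
      rw [resLE_δ _ S hA hA', E.delta W S hS hA' p]
    · show ((Coh.Rpush f (p + 1)).obj S.X₁).presheaf.map (homOfLE hWV).op
        (E.ε V S.X₁ (p + 1) (CohCmp.extδ hA p z)) = _
      rw [E.delta V S hS hA p]
      exact (SectCmpSurj.app_map (Δ.δ S hS p (p + 1) rfl) (homOfLE hWV) _).symm

/-- the comparison map is locally injective -/
theorem main (p : ℕ) : ∀ (F : X.Modules) (V : Y.Opens) (x : Coh.HHon X F (f ⁻¹ᵁ V) p),
    E.ε V F p x = 0 → ∀ (y : Y), y ∈ V →
    ∃ (W : Y.Opens) (hWV : W ≤ V), y ∈ W ∧ CohPull.resLE F (f.preimage_mono hWV) p x = 0 := by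
  induction p with
  | zero =>
    intro F V x hx y hy
    refine ⟨V, le_rfl, hy, ?_⟩
    obtain ⟨s, rfl⟩ := (CohPull.sectH0 F (f ⁻¹ᵁ V)).surjective x
    rw [E.zero] at hx
    haveI : IsIso ((pushforward f).toRightDerivedZero.app F) := inferInstance
    have hinj : Function.Injective (((pushforward f).toRightDerivedZero.app F).app V) :=
      (ConcreteCategory.bijective_of_isIso _).1
    have hs : s = 0 := hinj (hx.trans (map_zero _).symm)
    rw [hs, map_zero, map_zero]
  | succ p ih =>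
    intro F V x hx y hy
    haveI : EnoughInjectives X.Modules :=
      Groth.Agent.Helper9.ModCechExt.enoughInjectives_mod X.ringCatSheaf
    let S : ShortComplex X.Modules :=
      ShortComplex.mk (Injective.ι F) (cokernel.π (Injective.ι F)) (cokernel.condition _)
    have hS : S.ShortExact :=
      { exact := ShortComplex.exact_cokernel _
        mono_f := by dsimp [S]; infer_instance
        epi_g := by dsimp [S]; infer_instance }
    haveI hI : Injective S.X₂ := by dsimp [S]; infer_instance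
    have hAV := SectCmpSurj.shortExact_toAbOn (f ⁻¹ᵁ V) hS
    obtain ⟨z, rfl⟩ := exists_extδ_eq (f ⁻¹ᵁ V) S hAV p x
    have h1 := E.delta V S hS hAV p z
    have h1' : (Δ.δ S hS p (p + 1) rfl).app V (E.ε V S.X₃ p z) = 0 := h1.symm.trans hx
    obtain ⟨W₁, hW₁V, hyW₁, t, ht⟩ := exists_local_lift_of_exact _ _ _
      (Δ.exact₃ S hS p (p + 1) rfl) V (E.ε V S.X₃ p z) h1' y hy
    obtain ⟨W₂, hW₂W₁, hyW₂, t'', ht''⟩ := SectCmpSurj.main f E p S.X₂ W₁ t y hyW₁
    have hW₂V : W₂ ≤ V := hW₂W₁.trans hW₁V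
    have h2 : E.ε W₂ S.X₃ p (CohPull.resLE S.X₃ (f.preimage_mono hW₂V) p z -
        CohPull.mapH ((restrictFunctor (f ⁻¹ᵁ W₂).ι).map S.g) p t'') = 0 := by
      rw [map_sub, ε_resLE f E hW₂V, E.natural W₂ S.g p t'', ht'', sub_eq_zero,
        SectCmpSurj.app_map, ht, map_map]
      exact map_congr' _ _ _ _
    obtain ⟨W, hWW₂, hyW, h3⟩ := ih S.X₃ W₂ _ h2 y hyW₂
    refine ⟨W, hWW₂.trans hW₂V, hyW, ?_⟩
    rw [map_sub, resLE_trans, resLE_natural, sub_eq_zero] at h3
    have hAW := SectCmpSurj.shortExact_toAbOn (f ⁻¹ᵁ W) hS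
    refine (resLE_δ _ S hAV hAW p z).trans ?_
    rw [h3]
    have hc : (Ext.mk₀ ((CohCmp.toAbOn X (f ⁻¹ᵁ W)).map S.g)).comp hAW.extClass (zero_add 1) = 0 :=
      hAW.comp_extClass
    have h6 : ∀ w, (Sheaf.H.map ((CohCmp.toAbOn X (f ⁻¹ᵁ W)).map S.g) p w).comp
        hAW.extClass rfl = 0 := by
      intro w
      rw [Sheaf.H.map_apply, Ext.comp_assoc_of_second_deg_zero, hc, Ext.comp_zero]
    exact h6 _

end Comparison

end Groth.Agent.Helper6.ResLE3
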