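import Mathlib
import Groth.Prelude.Def_W4c1chowmix47Eta

set_option autoImplicit false

universe u

namespace Groth.Agent.Helper6.EtaBasic

open EtaPt EtaPt.FieldEndo

variable (η : FieldEndo.{u})

/-! ### Residue fields -/

/-- ring homs out of a residue field are determined on the image of the ring. -/
theorem residueField_hom_ext {A : Type u} [CommRing A] (I : Ideal A) [I.IsPrime] {L : Type*} [Semiring L]
    (φ ψ : I.ResidueField →+* L)
    (h : φ.comp (algebraMap A I.ResidueField) = ψ.comp (algebraMap A I.ResidueField)) : φ = ψ := by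
  apply IsLocalization.ringHom_ext (nonZeroDivisors (A ⧸ I))
  apply Ideal.Quotient.ringHom_ext
  ext a
  exact congrArg (fun g => g a) h

theorem residueField_map_comp {A B C : Type u} [CommRing A] [CommRing B] [CommRing C]
    (f : A →+* B) (g : B →+* C) (I : Ideal A) [I.IsPrime] (J : Ideal B) [J.IsPrime]
    (K : Ideal C) [K.IsPrime] (hf : I = J.comap f) (hg : J = K.comap g) (hgf : I = K.comap (g.comp f)) :
    Ideal.ResidueField.map I K (g.comp f) hgf =
      (Ideal.ResidueField.map J K g hg).comp (Ideal.ResidueField.map I J f hf) := by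
  apply residueField_hom_ext
  ext a
  simp

theorem residueField_map_id {A : Type u} [CommRing A] (I : Ideal A) [I.IsPrime] (h : I = I.comap (RingHom.id A)) :
    Ideal.ResidueField.map I I (RingHom.id A) h = RingHom.id _ := by
  apply residueField_hom_ext
  ext a
  simp

/-! ### `N`, `t`, `Nmap` -/

theorem t_apply (A : Type u) [CommRing A] (a : A) (p : PrimeSpectrum A) :
    η.t A a p = η.eta p.asIdeal.ResidueField (algebraMap A p.asIdeal.ResidueField a) := rfl

theorem Nmap_apply {A B : Type u} [CommRing A] [CommRing B] (f : A →+* B) (x : η.N A)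
    (q : PrimeSpectrum B) :
    η.Nmap f x q = η.map (Ideal.ResidueField.map (PrimeSpectrum.comap f q).asIdeal q.asIdeal f rfl)
      (x (PrimeSpectrum.comap f q)) := rfl

theorem Nmap_apply_of_eq {A B : Type u} [CommRing A] [CommRing B] (f : A →+* B) (x : η.N A)
    (q : PrimeSpectrum B) (p : PrimeSpectrum A) (h : PrimeSpectrum.comap f q = p) :
    η.Nmap f x q = η.map (Ideal.ResidueField.map p.asIdeal q.asIdeal f (by rw [← h]; rfl)) (x p) := by
  subst h; rfl

theorem Nmap_comp {A B C : Type u} [CommRing A] [CommRing B] [CommRing C] (f : A →+* B) (g : B →+* C) :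
    η.Nmap (g.comp f) = (η.Nmap g).comp (η.Nmap f) := by
  ext x q
  rw [RingHom.comp_apply, Nmap_apply, Nmap_apply, Nmap_apply]
  rw [residueField_map_comp f g (PrimeSpectrum.comap (g.comp f) q).asIdeal
    (PrimeSpectrum.comap g q).asIdeal q.asIdeal rfl rfl rfl, η.map_comp]
  rfl

theorem Nmap_comp_apply {A B C : Type u} [CommRing A] [CommRing B] [CommRing C] (f : A →+* B) (g : B →+* C)
    (x : η.N A) : η.Nmap (g.comp f) x = η.Nmap g (η.Nmap f x) := by
  rw [Nmap_comp]; rfl

theorem Nmap_id (A : Type u) [CommRing A] : η.Nmap (RingHom.id A) = RingHom.id _ := by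
  ext x q
  rw [Nmap_apply_of_eq η (RingHom.id A) x q q rfl, residueField_map_id, η.map_id]
  rfl

theorem mem_M_iff {A : Type u} [CommRing A] (x : η.N A) :
    x ∈ η.M A ↔ ∀ (R : Type u) [CommRing R] [IsDomain R] [ValuationRing R], η.InV R →
      ∀ g : A →+* R, η.Nmap g x ∈ (η.t R).range := Iff.rfl

theorem Nmap_mem_M {A B : Type u} [CommRing A] [CommRing B] (f : A →+* B) {x : η.N A} (hx : x ∈ η.M A) :
    η.Nmap f x ∈ η.M B := by
  intro R _ _ _ hR g
  rw [← Nmap_comp_apply]
  exact hx R hR (g.comp f)

/-! ### Field-theoretic lemmas -/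

theorem ringExpChar_eq_of_hom {K L : Type*} [Field K] [Field L] (f : K →+* L) :
    ringExpChar L = ringExpChar K := by
  haveI := ringExpChar.expChar K
  haveI : ExpChar L (ringExpChar K) := expChar_of_injective_ringHom f.injective _
  exact ringExpChar.eq L _

theorem pow_expChar_pow_inj {L : Type*} [Field L] (e : ℕ) (he : ringExpChar L = e) (n : ℕ) {a b : L}
    (h : a ^ e ^ n = b ^ e ^ n) : a = b := by
  subst he
  haveI := ringExpChar.expChar L
  exact iterateFrobenius_inj L (ringExpChar L) n h

/-- ring homs out of `F K` into a field are determined on the image of `η_K`. -/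
theorem eta_hom_ext {K : Type u} [Field K] {L : Type*} [Field L] (φ ψ : η.obj K →+* L)
    (h : φ.comp (η.eta K) = ψ.comp (η.eta K)) : φ = ψ := by
  ext x
  obtain ⟨n, z, hz⟩ := η.exists_pow_mem_range_eta K x
  apply pow_expChar_pow_inj (ringExpChar K) (ringExpChar_eq_of_hom (φ.comp (η.eta K))) n
  rw [← map_pow, ← map_pow, ← hz]
  exact congrArg (fun g => g z) h

theorem eta_obj (K : Type u) [Field K] : η.eta (η.obj K) = η.map (η.eta K) := by
  apply eta_hom_ext
  exact (η.eta_natural (η.eta K)).symm

theorem eta_obj_bijective (K : Type u) [Field K] : Function.Bijective (η.eta (η.obj K)) := by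
  rw [eta_obj]; exact η.bijective_map_eta K

theorem map_bijective_of_ringEquiv {K K' : Type u} [Field K] [Field K'] (e : K ≃+* K') :
    Function.Bijective (η.map e.toRingHom) := by
  have h1 : (η.map e.symm.toRingHom).comp (η.map e.toRingHom) = RingHom.id _ := by
    rw [← η.map_comp, ← η.map_id]; congr 1; ext; simp
  have h2 : (η.map e.toRingHom).comp (η.map e.symm.toRingHom) = RingHom.id _ := by
    rw [← η.map_comp, ← η.map_id]; congr 1; ext; simp
  exact Function.bijective_iff_has_inverse.mpr
    ⟨η.map e.symm.toRingHom, fun x => congrArg (fun g => g x) h1, fun x => congrArg (fun g => g x) h2⟩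

theorem eta_bijective_of_ringEquiv {K K' : Type u} [Field K] [Field K'] (e : K ≃+* K')
    (h : Function.Bijective (η.eta K)) : Function.Bijective (η.eta K') := by
  have hn := η.eta_natural e.toRingHom
  have : (η.eta K' : K' → η.obj K') = (η.map e.toRingHom) ∘ (η.eta K) ∘ e.symm := by
    funext x
    have := congrArg (fun g => g (e.symm x)) hn
    simpa using this.symm
  rw [this]
  exact (map_bijective_of_ringEquiv η e).comp (h.comp e.symm.bijective)

/-- `InV` can be tested on any fraction field. -/
theorem inV_iff (R : Type u) [CommRing R] [IsDomain R] (L : Type u) [Field L] [Algebra R L]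
    [IsFractionRing R L] : η.InV R ↔ Function.Bijective (η.eta L) := by
  let e : FractionRing R ≃+* L := (FractionRing.algEquiv R L).toRingEquiv
  exact ⟨eta_bijective_of_ringEquiv η e, eta_bijective_of_ringEquiv η e.symm⟩

theorem inV_generic (R : Type u) [CommRing R] [IsDomain R] (h : η.InV R) :
    Function.Bijective (η.eta (⊥ : Ideal R).ResidueField) :=
  (inV_iff η R _).mp h

theorem eta_natural_apply {K L : Type u} [Field K] [Field L] (f : K →+* L) (z : K) :
    η.map f (η.eta K z) = η.eta L (f z) :=
  congrArg (fun h => h z) (η.eta_natural f)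

/-- The pointwise ring of a field is everything. -/
theorem M_field (K : Type u) [Field K] : η.M K = ⊤ := by
  rw [eq_top_iff]
  intro x _
  intro R _ _ _ hR g
  let p0 : PrimeSpectrum K := ⟨⊥, Ideal.isPrime_bot⟩
  have hsub : ∀ p : PrimeSpectrum K, p = p0 := fun p => Subsingleton.elim _ _
  obtain ⟨n, w, hw⟩ := η.exists_pow_mem_range_eta p0.asIdeal.ResidueField (x p0)
  haveI : p0.asIdeal.IsMaximal := Ideal.bot_isMaximal
  obtain ⟨w0, rfl⟩ := Ideal.algebraMap_residueField_surjective p0.asIdeal w
  set e := ringExpChar p0.asIdeal.ResidueField with he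
  have hL := inV_generic η R hR
  let q0 : PrimeSpectrum R := ⟨⊥, Ideal.isPrime_bot⟩
  have key : ∀ q : PrimeSpectrum R, (η.Nmap g x q) ^ e ^ n =
      η.eta q.asIdeal.ResidueField (algebraMap R q.asIdeal.ResidueField (g w0)) := by
    intro q
    rw [Nmap_apply_of_eq η g x q p0 (hsub _), ← map_pow, ← hw, eta_natural_apply,
      Ideal.ResidueField.map_algebraMap]
  obtain ⟨y, hy⟩ := hL.surjective (η.Nmap g x q0)
  have hpow : y ^ e ^ n = algebraMap R q0.asIdeal.ResidueField (g w0) := by
    apply hL.injective
    rw [map_pow, hy, key q0]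
  have hint : IsIntegral R y := by
    refine ⟨Polynomial.X ^ e ^ n - Polynomial.C (g w0), ?_, ?_⟩
    · apply Polynomial.monic_X_pow_sub_C
      have : 0 < e := by
        rw [he, ringExpChar]; exact lt_max_of_lt_right Nat.zero_lt_one
      exact (pow_pos this n).ne'
    · simp [hpow]; exact sub_self _
  obtain ⟨r, rfl⟩ := IsIntegrallyClosed.algebraMap_eq_of_integral hint
  have hr : r ^ e ^ n = g w0 := by
    apply IsFractionRing.injective R q0.asIdeal.ResidueField
    rw [map_pow, hpow]
  refine ⟨r, ?_⟩
  funext q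
  have hq : PrimeSpectrum.comap g q = p0 := hsub _
  apply pow_expChar_pow_inj e
    (ringExpChar_eq_of_hom ((η.eta q.asIdeal.ResidueField).comp
      (Ideal.ResidueField.map p0.asIdeal q.asIdeal g (by rw [← hq]; rfl)))) n
  rw [key q, t_apply, ← map_pow, ← map_pow, hr]

end Groth.Agent.Helper6.EtaBasic
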