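import Mathlib
import Groth.Agent.Helper6.EtaBasic

set_option autoImplicit false

universe u

namespace Groth.Agent.Helper6.EtaDom

open EtaPt EtaPt.FieldEndo Groth.Agent.Helper6.EtaBasic

variable (η : FieldEndo.{u})

/-- For a domain `A`, a prime `p` and any field `K` containing `A`, there is a valuation subring of `K`
containing `A` whose maximal ideal contracts to `p`. -/
theorem exists_valuationSubring_center {A : Type u} [CommRing A] [IsDomain A] (K : Type u) [Field K]
    [Algebra A K] [FaithfulSMul A K] (p : PrimeSpectrum A) :
    ∃ (V : ValuationSubring K) (g : A →+* V), (∀ a, (g a : K) = algebraMap A K a) ∧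
      (IsLocalRing.maximalIdeal V).comap g = p.asIdeal := by
  let f : Localization.AtPrime p.asIdeal →+* K :=
    IsLocalization.lift (M := p.asIdeal.primeCompl) (g := algebraMap A K) (by
      intro y
      apply IsUnit.mk0
      intro h
      have : (y : A) = 0 := (FaithfulSMul.algebraMap_injective A K) (by simpa using h)
      exact y.2 (this ▸ p.asIdeal.zero_mem))
  obtain ⟨V, h, hloc⟩ := IsLocalRing.exists_factor_valuationRing f
  let fV : Localization.AtPrime p.asIdeal →+* V := f.codRestrict V.toSubring h
  have hloc' : IsLocalHom fV := hloc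
  refine ⟨V, fV.comp (algebraMap A _), ?_, ?_⟩
  · intro a
    simp [fV, f]
  · have h1 : (IsLocalRing.maximalIdeal V).comap fV =
        IsLocalRing.maximalIdeal (Localization.AtPrime p.asIdeal) :=
      ((IsLocalRing.local_hom_TFAE fV).out 0 4).mp hloc'
    rw [← Ideal.comap_comap, h1]
    exact IsLocalization.AtPrime.comap_maximalIdeal (Localization.AtPrime p.asIdeal) p.asIdeal

/-- the generic point of a domain. -/
abbrev gen (A : Type u) [CommRing A] [IsDomain A] : PrimeSpectrum A := ⟨⊥, Ideal.isPrime_bot⟩

/-- An element of `M A` (for a domain `A` with `η` bijective at its fraction field) vanishing at the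
generic point vanishes. -/
theorem eq_zero_of_generic {A : Type u} [CommRing A] [IsDomain A] (hA : η.InV A) {z : η.N A}
    (hz : z ∈ η.M A) (h0 : z (gen A) = 0) : z = 0 := by
  funext p
  obtain ⟨V, g, hg, hcomap⟩ := exists_valuationSubring_center (FractionRing A) p
  have hV : η.InV V := (inV_iff η V (FractionRing A)).mpr hA
  obtain ⟨r, hr⟩ := hz V hV g
  have hginj : Function.Injective g := by
    intro a b hab
    apply IsFractionRing.injective A (FractionRing A)
    rw [← hg, ← hg, hab]
  have hq0 : PrimeSpectrum.comap g (gen V) = gen A := by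
    apply PrimeSpectrum.ext
    change Ideal.comap g ⊥ = ⊥
    rw [← RingHom.ker_eq_comap_bot, (RingHom.injective_iff_ker_eq_bot g).mp hginj]
  have h1 : η.Nmap g z (gen V) = 0 := by
    rw [Nmap_apply_of_eq η g z (gen V) (gen A) hq0, h0, map_zero]
  have hr0 : r = 0 := by
    have h2 := congrFun hr (gen V)
    rw [h1, t_apply] at h2
    have h3 := (map_eq_zero _).mp h2
    exact (IsFractionRing.injective V (gen V).asIdeal.ResidueField) (by rw [h3, map_zero])
  have hN : η.Nmap g z = 0 := by rw [← hr, hr0, map_zero]
  let qm : PrimeSpectrum V := ⟨IsLocalRing.maximalIdeal V, inferInstance⟩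
  have hqm : PrimeSpectrum.comap g qm = p := PrimeSpectrum.ext hcomap
  have h4 := congrFun hN qm
  rw [Nmap_apply_of_eq η g z qm p hqm] at h4
  exact (map_eq_zero _).mp h4

/-- evaluation at the generic point is injective on `M A`. -/
theorem injOn_generic {A : Type u} [CommRing A] [IsDomain A] (hA : η.InV A) :
    Set.InjOn (fun x : η.N A => x (gen A)) (η.M A) := by
  intro x hx y hy hxy
  have := eq_zero_of_generic η hA (Subring.sub_mem _ hx hy) (by simpa [sub_eq_zero] using hxy)
  exact sub_eq_zero.mp this

theorem isIntegral_of_forall_valuationSubring {A : Type*} [CommRing A] {K : Type*} [Field K] [Algebra A K]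
    (y : K) (h : ∀ V : ValuationSubring K, (∀ a, algebraMap A K a ∈ V) → y ∈ V) : IsIntegral A y := by
  by_contra hy
  have hy' : y ∉ (integralClosure A K).toSubring := hy
  obtain ⟨V, hV, hyV⟩ := Subring.exists_le_valuationSubring_of_isIntegrallyClosedIn hy'
  exact hyV (h V fun a => hV (algebraMap_mem (integralClosure A K) a))

/-- the map on generic residue fields induced by the inclusion of a domain into a valuation subring of
its fraction field restricts to the canonical map on the valuation subring. -/
theorem rho_val {A : Type u} [CommRing A] [IsDomain A] (V : ValuationSubring (gen A).asIdeal.ResidueField)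
    (g : A →+* V) (hg : ∀ a, (g a : (gen A).asIdeal.ResidueField) = algebraMap A _ a)
    (hq : (gen A).asIdeal = (gen V).asIdeal.comap g) (v : V) :
    Ideal.ResidueField.map (gen A).asIdeal (gen V).asIdeal g hq (v : (gen A).asIdeal.ResidueField)
      = algebraMap V (gen V).asIdeal.ResidueField v := by
  obtain ⟨⟨a, b⟩, hab⟩ := IsLocalization.surj (nonZeroDivisors A) (v : (gen A).asIdeal.ResidueField)
  simp only at hab
  have hb0 : (b : A) ≠ 0 := nonZeroDivisors.ne_zero b.2
  have hV : v * g b = g a := by
    apply Subtype.ext
    push_cast
    rw [hg, hg, hab]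
  have h1 := congrArg (Ideal.ResidueField.map (gen A).asIdeal (gen V).asIdeal g hq) hab
  rw [map_mul, Ideal.ResidueField.map_algebraMap, Ideal.ResidueField.map_algebraMap, ← hV, map_mul] at h1
  have hgb : algebraMap V (gen V).asIdeal.ResidueField (g b) ≠ 0 := by
    intro h0
    have h2 : g b = 0 := (IsFractionRing.injective V (gen V).asIdeal.ResidueField) (by rw [h0, map_zero])
    have h3 : algebraMap A (gen A).asIdeal.ResidueField b = 0 := by rw [← hg, h2]; rfl
    exact hb0 ((IsFractionRing.injective A (gen A).asIdeal.ResidueField) (by rw [h3, map_zero]))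
  exact mul_right_cancel₀ hgb h1

/-- For an integrally closed domain with `η` bijective at the fraction field, `q_A` is bijective. -/
theorem q_bijective_of_isIntegrallyClosed (A : Type u) [CommRing A] [IsDomain A] [IsIntegrallyClosed A]
    (hA : η.InV A) : Function.Bijective (η.q A) := by
  have hK := inV_generic η A hA
  constructor
  · intro a b hab
    have h1 : η.t A a (gen A) = η.t A b (gen A) := congrFun (congrArg Subtype.val hab) (gen A)
    rw [t_apply, t_apply] at h1
    exact (IsFractionRing.injective A (gen A).asIdeal.ResidueField) (hK.injective h1)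
  · rintro ⟨x, hx⟩
    obtain ⟨y, hy⟩ := hK.surjective (x (gen A))
    have hint : IsIntegral A y := by
      apply isIntegral_of_forall_valuationSubring
      intro V hV
      let g : A →+* V := (algebraMap A (gen A).asIdeal.ResidueField).codRestrict V.toSubring hV
      have hg : ∀ a, (g a : (gen A).asIdeal.ResidueField) = algebraMap A _ a := fun a => rfl
      have hVin : η.InV V := (inV_iff η V (gen A).asIdeal.ResidueField).mpr hK
      obtain ⟨r, hr⟩ := hx V hVin g
      have hginj : Function.Injective g := by
        intro a b hab
        apply IsFractionRing.injective A (gen A).asIdeal.ResidueField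
        rw [← hg, ← hg, hab]
      have hq0 : PrimeSpectrum.comap g (gen V) = gen A := by
        apply PrimeSpectrum.ext
        change Ideal.comap g ⊥ = ⊥
        rw [← RingHom.ker_eq_comap_bot, (RingHom.injective_iff_ker_eq_bot g).mp hginj]
      have hq : (gen A).asIdeal = (gen V).asIdeal.comap g := by rw [← hq0]; rfl
      have h2 := congrFun hr (gen V)
      rw [Nmap_apply_of_eq η g x (gen V) (gen A) hq0, ← hy, eta_natural_apply, t_apply] at h2
      have h3 := (η.eta (gen V).asIdeal.ResidueField).injective h2
      rw [← rho_val V g hg hq r] at h3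
      have h4 := (Ideal.ResidueField.map (gen A).asIdeal (gen V).asIdeal g hq).injective h3
      rw [← h4]; exact r.2
    obtain ⟨a, rfl⟩ := IsIntegrallyClosed.algebraMap_eq_of_integral hint
    refine ⟨a, Subtype.ext ?_⟩
    apply injOn_generic η hA (η.t_mem_M A a) hx
    change η.t A a (gen A) = x (gen A)
    rw [t_apply, hy]

end Groth.Agent.Helper6.EtaDom
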