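import Mathlib
import Groth.Agent.Helper6.EtaDom

set_option autoImplicit false

universe u

namespace Groth.Agent.Helper6.EtaSpec

open EtaPt EtaPt.FieldEndo Groth.Agent.Helper6.EtaBasic Groth.Agent.Helper6.EtaDom

variable (η : FieldEndo.{u})

/-- For a ring map `f` to a field and a prime `p'` containing the kernel, there is a valuation subring
containing the image whose maximal ideal contracts to `p'`. -/
theorem exists_valuationSubring_center' {A : Type u} [CommRing A] {K : Type u} [Field K] (f : A →+* K)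
    (p' : Ideal A) [p'.IsPrime] (hp' : RingHom.ker f ≤ p') :
    ∃ (V : ValuationSubring K) (h : ∀ a, f a ∈ V),
      (IsLocalRing.maximalIdeal V).comap (f.codRestrict V.toSubring h : A →+* V) = p' := by
  haveI : (RingHom.ker f).IsPrime := RingHom.ker_isPrime f
  let B := A ⧸ RingHom.ker f
  haveI : IsDomain B := Ideal.Quotient.isDomain _
  letI : Algebra B K := (RingHom.kerLift f).toAlgebra
  haveI : FaithfulSMul B K := (faithfulSMul_iff_algebraMap_injective B K).mpr (RingHom.kerLift_injective f)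
  have hsurj : Function.Surjective (Ideal.Quotient.mk (RingHom.ker f)) := Ideal.Quotient.mk_surjective
  haveI hprime : (Ideal.map (Ideal.Quotient.mk (RingHom.ker f)) p').IsPrime :=
    Ideal.map_isPrime_of_surjective hsurj (by rwa [Ideal.mk_ker])
  obtain ⟨V, g, hg, hcomap⟩ := exists_valuationSubring_center K
    (⟨Ideal.map (Ideal.Quotient.mk (RingHom.ker f)) p', hprime⟩ : PrimeSpectrum B)
  have hfa : ∀ a, f a ∈ V := fun a => by
    have := hg (Ideal.Quotient.mk _ a)
    have h2 : algebraMap B K (Ideal.Quotient.mk _ a) = f a := rfl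
    rw [h2] at this
    rw [← this]; exact (g _).2
  refine ⟨V, hfa, ?_⟩
  have hcomp : (f.codRestrict V.toSubring hfa : A →+* V) = g.comp (Ideal.Quotient.mk (RingHom.ker f)) := by
    ext a
    have := hg (Ideal.Quotient.mk _ a)
    have h2 : algebraMap B K (Ideal.Quotient.mk _ a) = f a := rfl
    rw [h2] at this
    exact this.symm
  rw [hcomp, ← Ideal.comap_comap, hcomap]
  change Ideal.comap _ (Ideal.map _ p') = p'
  rw [Ideal.comap_map_of_surjective _ hsurj, ← RingHom.ker_eq_comap_bot, Ideal.mk_ker]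
  exact sup_eq_left.mpr hp'

section Spec

variable {A : Type u} [CommRing A] (p : PrimeSpectrum A)

/-- `A → F(κ(p))`. -/
noncomputable def ιp : A →+* η.obj p.asIdeal.ResidueField :=
  (η.eta p.asIdeal.ResidueField).comp (algebraMap A p.asIdeal.ResidueField)

theorem ker_ιp : RingHom.ker (ιp η p) = p.asIdeal := by
  ext a
  rw [RingHom.mem_ker, ιp, RingHom.comp_apply, map_eq_zero, Ideal.algebraMap_residueField_eq_zero]

variable (V : ValuationSubring (η.obj p.asIdeal.ResidueField)) (hV : ∀ a, ιp η p a ∈ V)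

/-- the map `A → V`. -/
noncomputable def gV : A →+* V := (ιp η p).codRestrict V.toSubring hV

theorem gV_coe (a : A) : ((gV η p V hV a : V) : η.obj p.asIdeal.ResidueField) = ιp η p a := rfl

omit hV in
theorem inV_V : η.InV V :=
  (inV_iff η V (η.obj p.asIdeal.ResidueField)).mpr (eta_obj_bijective η _)

theorem comap_gen : PrimeSpectrum.comap (gV η p V hV) (gen V) = p := by
  apply PrimeSpectrum.ext
  ext a
  have h1 : a ∈ p.asIdeal ↔ ιp η p a = 0 := by rw [← RingHom.mem_ker, ker_ιp]
  change gV η p V hV a ∈ (⊥ : Ideal V) ↔ a ∈ p.asIdeal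
  rw [h1, Ideal.mem_bot, ← gV_coe η p V hV a]
  exact ⟨fun h => by rw [h]; rfl, fun h => Subtype.ext h⟩

/-- the identification of the generic residue field of `V` with the ambient field. -/
noncomputable def jV : (gen V).asIdeal.ResidueField →+* η.obj p.asIdeal.ResidueField :=
  IsFractionRing.lift (A := V) (K := (gen V).asIdeal.ResidueField) (g := V.subtype)
    (show Function.Injective V.subtype from Subtype.val_injective)

theorem jV_alg (v : V) : jV η p V (algebraMap V (gen V).asIdeal.ResidueField v) = v := by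
  rw [jV, IsFractionRing.lift_algebraMap]; rfl

theorem jV_comp_rho (h : p.asIdeal = (gen V).asIdeal.comap (gV η p V hV)) :
    (jV η p V).comp (Ideal.ResidueField.map p.asIdeal (gen V).asIdeal (gV η p V hV) h)
      = η.eta p.asIdeal.ResidueField := by
  apply residueField_hom_ext
  ext a
  simp only [RingHom.comp_apply, Ideal.ResidueField.map_algebraMap]
  rw [jV_alg]
  rfl

/-- **Specialization**: for `x ∈ M A`, the component `x p` lies in every valuation subring `V` of
`F(κ(p))` containing `A`, and the image of `x` in `N V` is the diagonal image of `x p`. -/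
theorem spec_generic {x : η.N A} (hx : x ∈ η.M A) :
    ∃ r : V, (r : η.obj p.asIdeal.ResidueField) = x p ∧ η.Nmap (gV η p V hV) x = η.t V r := by
  obtain ⟨r, hr⟩ := hx V (inV_V η p V) (gV η p V hV)
  refine ⟨r, ?_, hr.symm⟩
  have hq0 := comap_gen η p V hV
  have hq : p.asIdeal = (gen V).asIdeal.comap (gV η p V hV) :=
    (congrArg PrimeSpectrum.asIdeal hq0).symm
  have h2 := congrFun hr (gen V)
  rw [Nmap_apply_of_eq η _ x (gen V) p hq0, t_apply] at h2
  have h3 := congrArg (η.map (jV η p V)) h2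
  rw [eta_natural_apply, jV_alg, ← RingHom.comp_apply, ← η.map_comp, jV_comp_rho η p V hV hq,
    ← eta_obj] at h3
  exact (η.eta _).injective h3

end Spec

section Integral

variable {A : Type u} [CommRing A]

/-- the value of `x` at a prime `𝔫` of `V` is computed from `x p`. -/
theorem spec_prime (p : PrimeSpectrum A) (V : ValuationSubring (η.obj p.asIdeal.ResidueField))
    (hV : ∀ a, ιp η p a ∈ V) {x : η.N A} {r : V} (hr : η.Nmap (gV η p V hV) x = η.t V r)
    (𝔫 : PrimeSpectrum V) (p' : PrimeSpectrum A) (hp' : PrimeSpectrum.comap (gV η p V hV) 𝔫 = p') :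
    η.map (Ideal.ResidueField.map p'.asIdeal 𝔫.asIdeal (gV η p V hV)
      (congrArg PrimeSpectrum.asIdeal hp').symm) (x p') =
      η.eta 𝔫.asIdeal.ResidueField (algebraMap V 𝔫.asIdeal.ResidueField r) := by
  have h2 := congrFun hr 𝔫
  rw [Nmap_apply_of_eq η _ x 𝔫 p' hp', t_apply] at h2
  exact h2

/-- compatibility of the structure maps. -/
theorem map_rho_ιp (p : PrimeSpectrum A) (V : ValuationSubring (η.obj p.asIdeal.ResidueField))
    (hV : ∀ a, ιp η p a ∈ V) (𝔫 : PrimeSpectrum V) (p' : PrimeSpectrum A)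
    (h : p'.asIdeal = 𝔫.asIdeal.comap (gV η p V hV)) :
    (η.map (Ideal.ResidueField.map p'.asIdeal 𝔫.asIdeal (gV η p V hV) h)).comp (ιp η p') =
      ((η.eta 𝔫.asIdeal.ResidueField).comp (algebraMap V 𝔫.asIdeal.ResidueField)).comp (gV η p V hV) := by
  ext a
  simp only [RingHom.comp_apply, ιp, eta_natural_apply, Ideal.ResidueField.map_algebraMap]

/-- components of elements of `M A` are integral over `A`. -/
theorem isIntegralElem_component (p : PrimeSpectrum A) {x : η.N A} (hx : x ∈ η.M A) :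
    (ιp η p).IsIntegralElem (x p) := by
  letI : Algebra A (η.obj p.asIdeal.ResidueField) := (ιp η p).toAlgebra
  have : IsIntegral A (x p) := by
    apply isIntegral_of_forall_valuationSubring
    intro V hV
    obtain ⟨r, hr, -⟩ := spec_generic η p V hV hx
    rw [← hr]; exact r.2
  exact this

/-- vanishing specializes. -/
theorem eq_zero_of_le {p p' : PrimeSpectrum A} (hpp' : p.asIdeal ≤ p'.asIdeal) {x : η.N A}
    (hx : x ∈ η.M A) (h0 : x p = 0) : x p' = 0 := by
  obtain ⟨V, hV, hc⟩ := exists_valuationSubring_center' (ιp η p) p'.asIdeal (by rw [ker_ιp]; exact hpp')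
  obtain ⟨r, hr, hN⟩ := spec_generic η p V hV hx
  have hr0 : r = 0 := Subtype.ext (by rw [hr, h0]; rfl)
  let 𝔪 : PrimeSpectrum V := ⟨IsLocalRing.maximalIdeal V, inferInstance⟩
  have hp' : PrimeSpectrum.comap (gV η p V hV) 𝔪 = p' := PrimeSpectrum.ext hc
  have h1 := spec_prime η p V hV hN 𝔪 p' hp'
  rw [hr0, map_zero, map_zero] at h1
  exact (map_eq_zero _).mp h1

/-- a polynomial relation at `p` specializes to `p' ⊇ p`. -/
theorem eval₂_eq_zero_of_le {p p' : PrimeSpectrum A} (hpp' : p.asIdeal ≤ p'.asIdeal) {x : η.N A}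
    (hx : x ∈ η.M A) (f : Polynomial A) (h0 : f.eval₂ (ιp η p) (x p) = 0) :
    f.eval₂ (ιp η p') (x p') = 0 := by
  obtain ⟨V, hV, hc⟩ := exists_valuationSubring_center' (ιp η p) p'.asIdeal (by rw [ker_ιp]; exact hpp')
  obtain ⟨r, hr, hN⟩ := spec_generic η p V hV hx
  let 𝔪 : PrimeSpectrum V := ⟨IsLocalRing.maximalIdeal V, inferInstance⟩
  have hp' : PrimeSpectrum.comap (gV η p V hV) 𝔪 = p' := PrimeSpectrum.ext hc
  have h1 := spec_prime η p V hV hN 𝔪 p' hp'
  have hrV : f.eval₂ (gV η p V hV) r = 0 := by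
    apply Subtype.ext
    have := Polynomial.hom_eval₂ f (gV η p V hV) V.subtype r
    rw [ZeroMemClass.coe_zero]
    change V.subtype _ = 0
    rw [this]
    have h3 : V.subtype.comp (gV η p V hV) = ιp η p := rfl
    rw [h3]
    change f.eval₂ (ιp η p) (r : η.obj p.asIdeal.ResidueField) = 0
    rw [hr, h0]
  have h4 := congrArg ((η.eta 𝔪.asIdeal.ResidueField).comp (algebraMap V 𝔪.asIdeal.ResidueField)) hrV
  rw [Polynomial.hom_eval₂, map_zero, RingHom.comp_apply, ← h1,
    ← map_rho_ιp η p V hV 𝔪 p' (congrArg PrimeSpectrum.asIdeal hp').symm,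
    ← Polynomial.hom_eval₂] at h4
  exact (map_eq_zero _).mp h4

theorem eval_comp_t (p : PrimeSpectrum A) :
    (Pi.evalRingHom (fun p : PrimeSpectrum A => η.obj p.asIdeal.ResidueField) p).comp (η.t A) = ιp η p :=
  rfl

/-- **Integrality** of elements of `M A` over `A` when `A` has finitely many minimal primes. -/
theorem exists_monic_eval₂_eq_zero (hA : (minimalPrimes A).Finite) {x : η.N A} (hx : x ∈ η.M A) :
    ∃ f : Polynomial A, f.Monic ∧ f.eval₂ (η.t A) x = 0 := by
  classical
  have hmin : ∀ P ∈ minimalPrimes A, P.IsPrime := fun P hP => hP.1.1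
  have key : ∀ P : minimalPrimes A, ∃ f : Polynomial A, f.Monic ∧
      f.eval₂ (ιp η ⟨P.1, hmin P.1 P.2⟩) (x ⟨P.1, hmin P.1 P.2⟩) = 0 :=
    fun P => isIntegralElem_component η ⟨P.1, hmin P.1 P.2⟩ hx
  choose f hfm hf using key
  haveI : Fintype (minimalPrimes A) := hA.fintype
  refine ⟨∏ P, f P, Polynomial.monic_prod_of_monic _ _ (fun P _ => hfm P), ?_⟩
  funext p'
  have h1 := Polynomial.hom_eval₂ (∏ P, f P) (η.t A)
    (Pi.evalRingHom (fun p : PrimeSpectrum A => η.obj p.asIdeal.ResidueField) p') x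
  rw [eval_comp_t] at h1
  change (Pi.evalRingHom (fun p : PrimeSpectrum A => η.obj p.asIdeal.ResidueField) p') _ = 0
  rw [h1]
  obtain ⟨P, hP, hPle⟩ := Ideal.exists_minimalPrimes_le (show (⊥ : Ideal A) ≤ p'.asIdeal from bot_le)
  rw [Polynomial.eval₂_finsetProd]
  apply Finset.prod_eq_zero (Finset.mem_univ (⟨P, hP⟩ : minimalPrimes A))
  exact eval₂_eq_zero_of_le η (p := ⟨P, hmin P hP⟩) (p' := p') hPle hx _ (hf ⟨P, hP⟩)

/-- `q_A` is integral when `A` has finitely many minimal primes. -/
theorem q_isIntegral (hA : (minimalPrimes A).Finite) : (η.q A).IsIntegral := by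
  rintro ⟨x, hx⟩
  obtain ⟨f, hfm, hf⟩ := exists_monic_eval₂_eq_zero η hA hx
  refine ⟨f, hfm, Subtype.ext ?_⟩
  have := Polynomial.hom_eval₂ f (η.q A) (η.M A).subtype ⟨x, hx⟩
  change (η.M A).subtype _ = _
  rw [this]
  exact hf

end Integral

end Groth.Agent.Helper6.EtaSpec
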