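import Mathlib
import Groth.Agent.Helper6.EtaSpec

set_option autoImplicit false

universe u

namespace Groth.Agent.Helper6.EtaPrime

open EtaPt EtaPt.FieldEndo Groth.Agent.Helper6.EtaBasic Groth.Agent.Helper6.EtaDom
  Groth.Agent.Helper6.EtaSpec

variable (η : FieldEndo.{u}) {A : Type u} [CommRing A]

/-- projection of `M A` to the component at `p`. -/
noncomputable def πp (p : PrimeSpectrum A) : η.M A →+* η.obj p.asIdeal.ResidueField :=
  (Pi.evalRingHom (fun p : PrimeSpectrum A => η.obj p.asIdeal.ResidueField) p).comp (η.M A).subtype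

theorem πp_apply (p : PrimeSpectrum A) (y : η.M A) : πp η p y = (y : η.N A) p := rfl

theorem πp_q (p : PrimeSpectrum A) (a : A) : πp η p (η.q A a) = ιp η p a := rfl

/-- the prime of `M A` over `p`. -/
noncomputable def Qp (p : PrimeSpectrum A) : PrimeSpectrum (η.M A) :=
  ⟨RingHom.ker (πp η p), RingHom.ker_isPrime _⟩

theorem comap_Qp (p : PrimeSpectrum A) : PrimeSpectrum.comap (η.q A) (Qp η p) = p := by
  apply PrimeSpectrum.ext
  ext a
  change η.q A a ∈ RingHom.ker (πp η p) ↔ a ∈ p.asIdeal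
  rw [RingHom.mem_ker, πp_q, ← RingHom.mem_ker, ker_ιp]

/-- an element of `M A` vanishing at all minimal primes vanishes. -/
theorem eq_zero_of_minimal {x : η.N A} (hx : x ∈ η.M A)
    (h : ∀ (P : Ideal A) (hP : P ∈ minimalPrimes A), x ⟨P, hP.1.1⟩ = 0) : x = 0 := by
  funext p'
  obtain ⟨P, hP, hPle⟩ := Ideal.exists_minimalPrimes_le (show (⊥ : Ideal A) ≤ p'.asIdeal from bot_le)
  exact eq_zero_of_le η (p := ⟨P, hP.1.1⟩) (p' := p') hPle hx (h P hP)

/-- **Primes of `M A`**: a prime `Q` is the kernel of the projection to the component at `Q ∩ A`. -/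
theorem mem_prime_iff (hA : (minimalPrimes A).Finite) (Q : PrimeSpectrum (η.M A)) (y : η.M A) :
    y ∈ Q.asIdeal ↔ (y : η.N A) (PrimeSpectrum.comap (η.q A) Q) = 0 := by
  classical
  haveI : Fintype (minimalPrimes A) := hA.fintype
  have hmin : ∀ P ∈ minimalPrimes A, P.IsPrime := fun P hP => hP.1.1
  -- step 1 & 2
  have h12 : ∃ (P : Ideal A) (hP : P ∈ minimalPrimes A),
      RingHom.ker (πp η (⟨P, hmin P hP⟩ : PrimeSpectrum A)) ≤ Q.asIdeal := by
    by_contra hcon
    push Not at hcon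
    have hex : ∀ P : minimalPrimes A, ∃ z : η.M A,
        πp η (⟨P.1, hmin P.1 P.2⟩ : PrimeSpectrum A) z = 0 ∧ z ∉ Q.asIdeal := by
      intro P
      obtain ⟨z, hz, hzQ⟩ := Set.not_subset.mp (hcon P.1 P.2)
      exact ⟨z, hz, hzQ⟩
    choose z hz hzQ using hex
    have hw : (∏ P, z P) ∉ Q.asIdeal := by
      intro hmem
      obtain ⟨P, -, hP⟩ := (Ideal.IsPrime.prod_mem_iff (hp := Q.isPrime)).mp hmem
      exact hzQ P hP
    apply hw
    have hw0 : ((∏ P, z P : η.M A) : η.N A) = 0 := by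
      apply eq_zero_of_minimal η (∏ P, z P : η.M A).2
      intro P hP
      change πp η (⟨P, hmin P hP⟩ : PrimeSpectrum A) (∏ P, z P) = 0
      rw [map_prod]
      exact Finset.prod_eq_zero (Finset.mem_univ (⟨P, hP⟩ : minimalPrimes A)) (hz ⟨P, hP⟩)
    have : (∏ P, z P : η.M A) = 0 := Subtype.ext hw0
    rw [this]; exact zero_mem _
  obtain ⟨P, hP, hPQ⟩ := h12
  set p0 : PrimeSpectrum A := ⟨P, hmin P hP⟩ with hp0
  -- step 3
  obtain ⟨V, hfV, hc⟩ := exists_valuationSubring_center' (πp η p0) Q.asIdeal hPQ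
  have hV : ∀ a, ιp η p0 a ∈ V := fun a => hfV (η.q A a)
  set fV : η.M A →+* V := (πp η p0).codRestrict V.toSubring hfV with hfVdef
  have hg : gV η p0 V hV = fV.comp (η.q A) := rfl
  let 𝔪 : PrimeSpectrum V := ⟨IsLocalRing.maximalIdeal V, inferInstance⟩
  have hcomap : PrimeSpectrum.comap (gV η p0 V hV) 𝔪 = PrimeSpectrum.comap (η.q A) Q := by
    apply PrimeSpectrum.ext
    change Ideal.comap (gV η p0 V hV) (IsLocalRing.maximalIdeal V) = Ideal.comap (η.q A) Q.asIdeal
    rw [hg, ← Ideal.comap_comap, hc]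
  -- step 5
  obtain ⟨r, hr, hN⟩ := spec_generic η p0 V hV y.2
  have hrf : r = fV y := Subtype.ext hr
  have h5 := spec_prime η p0 V hV hN 𝔪 _ hcomap
  rw [← hc, Ideal.mem_comap, ← hrf]
  change r ∈ 𝔪.asIdeal ↔ _
  rw [← Ideal.algebraMap_residueField_eq_zero, ← map_eq_zero (η.eta 𝔪.asIdeal.ResidueField), ← h5,
    map_eq_zero]

theorem ker_πp_comap (hA : (minimalPrimes A).Finite) (Q : PrimeSpectrum (η.M A)) :
    RingHom.ker (πp η (PrimeSpectrum.comap (η.q A) Q)) = Q.asIdeal := by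
  ext y
  rw [RingHom.mem_ker, πp_apply, mem_prime_iff η hA]

theorem Qp_comap (hA : (minimalPrimes A).Finite) (Q : PrimeSpectrum (η.M A)) :
    Qp η (PrimeSpectrum.comap (η.q A) Q) = Q :=
  PrimeSpectrum.ext (ker_πp_comap η hA Q)

/-- `Spec (M A) → Spec A` is bijective. -/
theorem comap_q_bijective (hA : (minimalPrimes A).Finite) :
    Function.Bijective (PrimeSpectrum.comap (η.q A)) := by
  constructor
  · intro Q Q' h
    rw [← Qp_comap η hA Q, ← Qp_comap η hA Q', h]
  · intro p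
    exact ⟨Qp η p, comap_Qp η p⟩

/-- the residue field of `M A` at `Q` embeds into `F(κ(Q ∩ A))`. -/
noncomputable def φQ (hA : (minimalPrimes A).Finite) (Q : PrimeSpectrum (η.M A)) :
    Q.asIdeal.ResidueField →+* η.obj (PrimeSpectrum.comap (η.q A) Q).asIdeal.ResidueField :=
  Ideal.ResidueField.lift Q.asIdeal (πp η (PrimeSpectrum.comap (η.q A) Q))
    (ker_πp_comap η hA Q).ge (by
      intro y hy
      simp only [Submonoid.mem_comap, IsUnit.mem_submonoid_iff, isUnit_iff_ne_zero]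
      intro h0
      exact hy ((ker_πp_comap η hA Q) ▸ RingHom.mem_ker.mpr h0))

theorem φQ_algebraMap (hA : (minimalPrimes A).Finite) (Q : PrimeSpectrum (η.M A)) (y : η.M A) :
    φQ η hA Q (algebraMap (η.M A) Q.asIdeal.ResidueField y) =
      (y : η.N A) (PrimeSpectrum.comap (η.q A) Q) := by
  rw [φQ, Ideal.ResidueField.lift_algebraMap]; rfl

theorem φQ_comp (hA : (minimalPrimes A).Finite) (Q : PrimeSpectrum (η.M A)) :
    (φQ η hA Q).comp (Ideal.ResidueField.map (PrimeSpectrum.comap (η.q A) Q).asIdeal Q.asIdeal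
      (η.q A) rfl) = η.eta (PrimeSpectrum.comap (η.q A) Q).asIdeal.ResidueField := by
  apply residueField_hom_ext
  ext a
  have h1 : Ideal.ResidueField.map (PrimeSpectrum.comap (η.q A) Q).asIdeal Q.asIdeal (η.q A) rfl
      (algebraMap A _ a) = algebraMap _ _ (η.q A a) := Ideal.ResidueField.map_algebraMap _ _ _ _ _
  rw [RingHom.comp_apply, RingHom.comp_apply, h1, φQ_algebraMap]
  rfl

end Groth.Agent.Helper6.EtaPrime
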