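import Mathlib
import Groth.Agent.Helper6.EtaPrime

set_option autoImplicit false

universe u

namespace Groth.Agent.Helper6.EtaBij

open EtaPt EtaPt.FieldEndo Groth.Agent.Helper6.EtaBasic Groth.Agent.Helper6.EtaDom
  Groth.Agent.Helper6.EtaSpec Groth.Agent.Helper6.EtaPrime

variable (η : FieldEndo.{u}) {A B : Type u} [CommRing A] [CommRing B]

theorem Nmap_injective_of_surjective_comap (f : A →+* B)
    (hs : Function.Surjective (PrimeSpectrum.comap f)) : Function.Injective (η.Nmap f) := by
  intro x y h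
  funext p
  obtain ⟨Q, rfl⟩ := hs p
  have h1 := congrFun h Q
  rw [Nmap_apply, Nmap_apply] at h1
  exact (η.map _).injective h1

/-- If `ρ : K → L` and `φ : L → F K` satisfy `φ ∘ ρ = η_K` then `F ρ` is bijective. -/
theorem map_bijective_of_factor {K L : Type u} [Field K] [Field L] (ρ : K →+* L) (φ : L →+* η.obj K)
    (h : φ.comp ρ = η.eta K) : Function.Bijective (η.map ρ) := by
  refine ⟨(η.map ρ).injective, ?_⟩
  intro z
  obtain ⟨w, hw⟩ := (η.bijective_map_eta K).2 (η.map φ z)
  refine ⟨w, ?_⟩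
  apply (η.map φ).injective
  rw [← hw, ← h, η.map_comp]
  rfl

theorem Nmap_bijective_of (f : A →+* B) (hb : Function.Bijective (PrimeSpectrum.comap f))
    (hm : ∀ Q : PrimeSpectrum B, Function.Surjective
      (η.map (Ideal.ResidueField.map (PrimeSpectrum.comap f Q).asIdeal Q.asIdeal f rfl))) :
    Function.Bijective (η.Nmap f) := by
  refine ⟨Nmap_injective_of_surjective_comap η f hb.2, ?_⟩
  intro y
  have key : ∀ p : PrimeSpectrum A, ∃ z : η.obj p.asIdeal.ResidueField,
      ∀ (Q : PrimeSpectrum B) (h : PrimeSpectrum.comap f Q = p),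
        η.map (Ideal.ResidueField.map p.asIdeal Q.asIdeal f (by rw [← h]; rfl)) z = y Q := by
    intro p
    obtain ⟨Q0, rfl⟩ := hb.2 p
    obtain ⟨z, hz⟩ := hm Q0 (y Q0)
    refine ⟨z, ?_⟩
    intro Q h
    obtain rfl := hb.1 h
    exact hz
  choose x hx using key
  refine ⟨x, ?_⟩
  funext Q
  rw [Nmap_apply]
  exact hx _ Q rfl

theorem comap_bijective_of_Nmap_bijective (f : A →+* B) (h : Function.Bijective (η.Nmap f)) :
    Function.Bijective (PrimeSpectrum.comap f) := by
  classical
  constructor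
  · intro Q Q' hQ
    by_contra hne
    obtain ⟨x, hx⟩ := h.2 (Pi.single Q 1)
    have h1 := congrFun hx Q
    have h2 := congrFun hx Q'
    rw [Nmap_apply_of_eq η f x Q' (PrimeSpectrum.comap f Q) hQ.symm, Pi.single_eq_of_ne (Ne.symm hne)]
      at h2
    rw [Nmap_apply, Pi.single_eq_same] at h1
    have h3 : x (PrimeSpectrum.comap f Q) = 0 := by
      rw [map_eq_zero] at h2
      exact h2
    rw [h3, map_zero] at h1
    exact zero_ne_one h1
  · intro p
    by_contra hp
    have h0 : η.Nmap f (Pi.single p 1) = 0 := by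
      funext Q
      rw [Nmap_apply, Pi.single_eq_of_ne, map_zero]; rfl
      intro hQ
      exact hp ⟨Q, hQ⟩
    have h1 : (Pi.single p 1 : η.N A) = 0 := h.1 (by rw [h0, map_zero])
    have h2 := congrFun h1 p
    rw [Pi.single_eq_same] at h2
    exact one_ne_zero h2

theorem map_surjective_of_Nmap_bijective (f : A →+* B) (h : Function.Bijective (η.Nmap f))
    (Q : PrimeSpectrum B) : Function.Bijective
      (η.map (Ideal.ResidueField.map (PrimeSpectrum.comap f Q).asIdeal Q.asIdeal f rfl)) := by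
  classical
  refine ⟨(η.map _).injective, ?_⟩
  intro z
  obtain ⟨x, hx⟩ := h.2 (Pi.single Q z)
  refine ⟨x (PrimeSpectrum.comap f Q), ?_⟩
  have h1 := congrFun hx Q
  rw [Nmap_apply, Pi.single_eq_same] at h1
  exact h1

/-- `N(q_A)` is bijective. -/
theorem Nmap_q_bijective (hA : (minimalPrimes A).Finite) : Function.Bijective (η.Nmap (η.q A)) :=
  Nmap_bijective_of η (η.q A) (comap_q_bijective η hA)
    (fun Q => (map_bijective_of_factor η _ (φQ η hA Q) (φQ_comp η hA Q)).2)

end Groth.Agent.Helper6.EtaBij
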