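import Mathlib
import Groth.Agent.Helper6.EtaBij

set_option autoImplicit false

universe u

namespace Groth.Agent.Helper6.EtaRel

open EtaPt EtaPt.FieldEndo Groth.Agent.Helper6.EtaBasic Groth.Agent.Helper6.EtaDom
  Groth.Agent.Helper6.EtaSpec Groth.Agent.Helper6.EtaPrime Groth.Agent.Helper6.EtaBij

variable (η : FieldEndo.{u}) {A B : Type u} [CommRing A] [CommRing B]

theorem mem_rel_iff (f : A →+* B) (b : B) :
    b ∈ η.rel f ↔ ∃ x ∈ η.M A, η.Nmap f x = η.t B b := by
  rw [FieldEndo.rel, Subring.mem_comap, Subring.mem_map]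

theorem qRel_apply (f : A →+* B) (a : A) : ((η.qRel f a : η.rel f) : B) = f a := rfl

theorem qRel_injective_iff (f : A →+* B) : Function.Injective (η.qRel f) ↔ Function.Injective f := by
  constructor
  · intro h a a' haa'
    exact h (Subtype.ext haa')
  · intro h a a' haa'
    exact h (congrArg Subtype.val haa')

theorem qRel_surjective_iff (f : A →+* B) :
    Function.Surjective (η.qRel f) ↔ ∀ b ∈ η.rel f, ∃ a, f a = b := by
  constructor
  · intro h b hb
    obtain ⟨a, ha⟩ := h ⟨b, hb⟩
    exact ⟨a, congrArg Subtype.val ha⟩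
  · rintro h ⟨b, hb⟩
    obtain ⟨a, ha⟩ := h b hb
    exact ⟨a, Subtype.ext ha⟩

theorem qRel_bijective_iff (f : A →+* B) :
    Function.Bijective (η.qRel f) ↔ Function.Injective f ∧ ∀ b ∈ η.rel f, ∃ a, f a = b := by
  rw [Function.Bijective, qRel_injective_iff, qRel_surjective_iff]

theorem Nmap_t (f : A →+* B) (a : A) : η.Nmap f (η.t A a) = η.t B (f a) := η.Nmap_t_apply f a

end Groth.Agent.Helper6.EtaRel
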