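import Mathlib
import Groth.Agent.Helper6.EtaRel

set_option autoImplicit false

universe u

namespace Groth.Agent.Helper6.EtaLift

open EtaPt EtaPt.FieldEndo Groth.Agent.Helper6.EtaBasic Groth.Agent.Helper6.EtaDom
  Groth.Agent.Helper6.EtaSpec Groth.Agent.Helper6.EtaPrime Groth.Agent.Helper6.EtaBij
  Groth.Agent.Helper6.EtaRel

variable (η : FieldEndo.{u}) {A B : Type u} [CommRing A] [CommRing B]

theorem map_bijective_of_Nmap_bijective' (f : A →+* B) (h : Function.Bijective (η.Nmap f))
    (Q : PrimeSpectrum B) (p : PrimeSpectrum A) (hp : PrimeSpectrum.comap f Q = p) :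
    Function.Bijective (η.map (Ideal.ResidueField.map p.asIdeal Q.asIdeal f (by rw [← hp]; rfl))) := by
  subst hp
  exact map_surjective_of_Nmap_bijective η f h Q

/-- if `F ρ` is bijective and `η_K` is bijective, then a map `κ → K` extends along `ρ : κ → κ'`. -/
theorem exists_extension {κ κ' K : Type u} [Field κ] [Field κ'] [Field K] (ρ : κ →+* κ')
    (hρ : Function.Bijective (η.map ρ)) (hK : Function.Bijective (η.eta K)) (gt : κ →+* K) :
    ∃ ψ : κ' →+* K, ψ.comp ρ = gt := by
  let eK : K ≃+* η.obj K := RingEquiv.ofBijective (η.eta K) hK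
  let eρ : η.obj κ ≃+* η.obj κ' := RingEquiv.ofBijective (η.map ρ) hρ
  refine ⟨eK.symm.toRingHom.comp ((η.map gt).comp (eρ.symm.toRingHom.comp (η.eta κ'))), ?_⟩
  ext z
  change eK.symm (η.map gt (eρ.symm (η.eta κ' (ρ z)))) = gt z
  rw [← eta_natural_apply η ρ z]
  have h1 : eρ.symm (η.map ρ (η.eta κ z)) = η.eta κ z := eρ.symm_apply_apply _
  rw [h1, eta_natural_apply]
  exact eK.symm_apply_apply _

/-- **S13811** -/
theorem exists_factor (f : A →+* B) (hf : f.IsIntegral) (hN : Function.Bijective (η.Nmap f))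
    (R : Type u) [CommRing R] [IsDomain R] [ValuationRing R] (hR : η.InV R) (g : A →+* R) :
    ∃ g' : B →+* R, g'.comp f = g := by
  have hK := inV_generic η R hR
  set K := (gen R).asIdeal.ResidueField with hKdef
  let p : PrimeSpectrum A := PrimeSpectrum.comap g (gen R)
  let gt : p.asIdeal.ResidueField →+* K := Ideal.ResidueField.map p.asIdeal (gen R).asIdeal g rfl
  obtain ⟨Q, hQ⟩ := (comap_bijective_of_Nmap_bijective η f hN).2 p
  have hQ' : p.asIdeal = Q.asIdeal.comap f := by rw [← hQ]; rfl
  obtain ⟨ψ, hψ⟩ := exists_extension η (Ideal.ResidueField.map p.asIdeal Q.asIdeal f hQ')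
    (map_bijective_of_Nmap_bijective' η f hN Q p hQ) hK gt
  let g'' : B →+* K := ψ.comp (algebraMap B Q.asIdeal.ResidueField)
  have hg'' : ∀ a, g'' (f a) = algebraMap R K (g a) := by
    intro a
    change ψ (algebraMap B Q.asIdeal.ResidueField (f a)) = _
    rw [← Ideal.ResidueField.map_algebraMap p.asIdeal Q.asIdeal f hQ' a]
    have := congrArg (fun φ => φ (algebraMap A p.asIdeal.ResidueField a)) hψ
    simp only [RingHom.comp_apply] at this
    rw [this]
    exact Ideal.ResidueField.map_algebraMap p.asIdeal (gen R).asIdeal g rfl a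
  have hint : ∀ b, g'' b ∈ (algebraMap R K).range := by
    intro b
    obtain ⟨P, hPm, hP⟩ := hf b
    have h1 : IsIntegral R (g'' b) := by
      refine ⟨P.map g, hPm.map g, ?_⟩
      rw [Polynomial.eval₂_map]
      have h2 : (algebraMap R K).comp g = g''.comp f := by
        ext a; exact (hg'' a).symm
      rw [h2, ← Polynomial.hom_eval₂, hP, map_zero]
    obtain ⟨r, hr⟩ := IsIntegrallyClosed.algebraMap_eq_of_integral h1
    exact ⟨r, hr⟩
  have hinj : Function.Injective (algebraMap R K) := IsFractionRing.injective R K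
  let e : R ≃+* (algebraMap R K).range := RingEquiv.ofBijective (algebraMap R K).rangeRestrict
    ⟨fun a b hab => hinj (congrArg Subtype.val hab), (algebraMap R K).rangeRestrict_surjective⟩
  have he : ∀ y, algebraMap R K (e.symm y) = y := by
    intro y
    have := e.apply_symm_apply y
    exact congrArg Subtype.val this
  refine ⟨e.symm.toRingHom.comp (g''.codRestrict (algebraMap R K).range hint), ?_⟩
  ext a
  apply hinj
  change algebraMap R K (e.symm _) = _
  rw [he]
  exact hg'' a

/-- **S13812** -/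
theorem bijOn_Nmap_M (f : A →+* B) (hf : f.IsIntegral) (hN : Function.Bijective (η.Nmap f)) :
    Set.BijOn (η.Nmap f) (η.M A) (η.M B) := by
  refine ⟨fun x hx => Nmap_mem_M η f hx, hN.1.injOn, ?_⟩
  intro y hy
  obtain ⟨x, rfl⟩ := hN.2 y
  refine ⟨x, ?_, rfl⟩
  intro R _ _ _ hR g
  obtain ⟨g', rfl⟩ := exists_factor η f hf hN R hR g
  rw [Nmap_comp_apply]
  exact hy R hR g'

end Groth.Agent.Helper6.EtaLift
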