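import Mathlib
import Groth.Agent.Helper6.EtaLift

set_option autoImplicit false

universe u

namespace Groth.Agent.Helper6.EtaUniq

open EtaPt EtaPt.FieldEndo Groth.Agent.Helper6.EtaBasic Groth.Agent.Helper6.EtaDom
  Groth.Agent.Helper6.EtaSpec Groth.Agent.Helper6.EtaPrime Groth.Agent.Helper6.EtaBij
  Groth.Agent.Helper6.EtaRel Groth.Agent.Helper6.EtaLift

variable (η : FieldEndo.{u}) {A B : Type u} [CommRing A] [CommRing B]

/-- if `F ρ` is bijective then `ρ` is purely inseparable. -/
theorem purely_insep_of_map_bijective {κ κ' : Type u} [Field κ] [Field κ'] (ρ : κ →+* κ')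
    (hρ : Function.Bijective (η.map ρ)) (z : κ') :
    ∃ (n : ℕ) (a : κ), z ^ ringExpChar κ' ^ n = ρ a := by
  obtain ⟨w, hw⟩ := hρ.2 (η.eta κ' z)
  obtain ⟨n, a, ha⟩ := η.exists_pow_mem_range_eta κ w
  refine ⟨n, a, ?_⟩
  apply (η.eta κ').injective
  rw [map_pow, ← hw, ← map_pow, ringExpChar_eq_of_hom ρ, ← ha, eta_natural_apply]

theorem hom_ext_field (f : A →+* B) (hN : Function.Bijective (η.Nmap f)) {L : Type*} [Field L]
    (h1 h2 : B →+* L) (h : h1.comp f = h2.comp f) : h1 = h2 := by
  let P1 : PrimeSpectrum B := ⟨RingHom.ker h1, RingHom.ker_isPrime h1⟩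
  let P2 : PrimeSpectrum B := ⟨RingHom.ker h2, RingHom.ker_isPrime h2⟩
  have hP : P1 = P2 := by
    apply (comap_bijective_of_Nmap_bijective η f hN).1
    apply PrimeSpectrum.ext
    ext a
    change f a ∈ RingHom.ker h1 ↔ f a ∈ RingHom.ker h2
    rw [RingHom.mem_ker, RingHom.mem_ker]
    have := congrArg (fun φ => φ a) h
    simp only [RingHom.comp_apply] at this
    rw [this]
  have hk : RingHom.ker h1 = RingHom.ker h2 := congrArg PrimeSpectrum.asIdeal hP
  haveI : P1.asIdeal.IsPrime := P1.isPrime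
  let l1 : P1.asIdeal.ResidueField →+* L := Ideal.ResidueField.lift P1.asIdeal h1 le_rfl (by
    intro y hy
    simp only [Submonoid.mem_comap, IsUnit.mem_submonoid_iff, isUnit_iff_ne_zero]
    intro h0
    exact hy (RingHom.mem_ker.mpr h0))
  let l2 : P1.asIdeal.ResidueField →+* L := Ideal.ResidueField.lift P1.asIdeal h2 hk.le (by
    intro y hy
    simp only [Submonoid.mem_comap, IsUnit.mem_submonoid_iff, isUnit_iff_ne_zero]
    intro h0
    exact hy (show y ∈ RingHom.ker h1 from hk ▸ RingHom.mem_ker.mpr h0))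
  have hl1 : ∀ b, l1 (algebraMap B _ b) = h1 b := fun b => Ideal.ResidueField.lift_algebraMap _ _ _ _ _
  have hl2 : ∀ b, l2 (algebraMap B _ b) = h2 b := fun b => Ideal.ResidueField.lift_algebraMap _ _ _ _ _
  let ρ : (PrimeSpectrum.comap f P1).asIdeal.ResidueField →+* P1.asIdeal.ResidueField :=
    Ideal.ResidueField.map (PrimeSpectrum.comap f P1).asIdeal P1.asIdeal f rfl
  have hρa : ∀ a, ρ (algebraMap A _ a) = algebraMap B _ (f a) :=
    fun a => Ideal.ResidueField.map_algebraMap _ _ f rfl a
  have hρ : Function.Bijective (η.map ρ) := map_surjective_of_Nmap_bijective η f hN P1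
  have hll : l1.comp ρ = l2.comp ρ := by
    apply residueField_hom_ext
    ext a
    simp only [RingHom.comp_apply]
    rw [hρa, hl1, hl2]
    exact congrArg (fun φ => φ a) h
  ext b
  rw [← hl1, ← hl2]
  obtain ⟨n, a, ha⟩ := purely_insep_of_map_bijective η ρ hρ (algebraMap B _ b)
  apply pow_expChar_pow_inj (ringExpChar P1.asIdeal.ResidueField) (ringExpChar_eq_of_hom l1) n
  rw [← map_pow l1, ← map_pow l2, ha]
  exact congrArg (fun φ => φ a) hll

theorem lift_unique (g : A →+* B) (hN : Function.Bijective (η.Nmap g)) (g1 g2 : B →+* η.M A)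
    (h1 : g1.comp g = η.q A) (h2 : g2.comp g = η.q A) : g1 = g2 := by
  apply RingHom.ext
  intro b
  apply Subtype.ext
  funext p
  have := hom_ext_field η g hN ((πp η p).comp g1) ((πp η p).comp g2) (by
    rw [RingHom.comp_assoc, RingHom.comp_assoc, h1, h2])
  exact congrArg (fun φ => φ b) this

/-- **S13806** -/
theorem existsUnique_lift (g : A →+* B) (hg : g.IsIntegral) (hN : Function.Bijective (η.Nmap g)) :
    ∃! g' : B →+* η.M A, g'.comp g = η.q A := by
  have hb := bijOn_Nmap_M η g hg hN
  let φ : η.M A →+* η.M B := (η.Nmap g).restrict (η.M A) (η.M B) hb.1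
  have hφ : Function.Bijective φ := by
    constructor
    · intro x y hxy
      exact Subtype.ext (hb.2.1 x.2 y.2 (congrArg Subtype.val hxy))
    · rintro ⟨y, hy⟩
      obtain ⟨x, hx, hxy⟩ := hb.2.2 hy
      exact ⟨⟨x, hx⟩, Subtype.ext hxy⟩
  let e : η.M A ≃+* η.M B := RingEquiv.ofBijective φ hφ
  have hex : (e.symm.toRingHom.comp (η.q B)).comp g = η.q A := by
    apply RingHom.ext
    intro a
    change e.symm (η.q B (g a)) = η.q A a
    rw [RingEquiv.symm_apply_eq]
    apply Subtype.ext
    change η.t B (g a) = η.Nmap g (η.t A a)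
    rw [Nmap_t]
  exact ⟨_, hex, fun g2 h2 => lift_unique η g hN _ _ h2 hex⟩

instance isReduced_M : IsReduced (η.M A) := by
  haveI : ∀ p : PrimeSpectrum A, IsReduced (η.obj p.asIdeal.ResidueField) := fun p => inferInstance
  haveI : IsReduced (η.N A) := inferInstance
  exact isReduced_of_injective (η.M A).subtype Subtype.val_injective

theorem t_injective_of_isReduced (A : Type u) [CommRing A] [IsReduced A] :
    Function.Injective (η.t A) := by
  rw [injective_iff_map_eq_zero]
  intro a ha
  have h1 : a ∈ nilradical A := by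
    rw [nilradical_eq_sInf, Ideal.mem_sInf]
    intro P hP
    haveI : P.IsPrime := hP
    have h2 := congrFun ha ⟨P, hP⟩
    rw [t_apply, Pi.zero_apply, map_eq_zero, Ideal.algebraMap_residueField_eq_zero] at h2
    exact h2
  rw [nilradical_eq_zero] at h1
  exact h1

/-- **S13805** -/
theorem bijective_of_isIntegral_of_reduced (hA : (minimalPrimes A).Finite) [IsReduced B]
    (f : η.M A →+* B) (hf : f.IsIntegral) (hN : Function.Bijective (η.Nmap f)) :
    Function.Bijective f := by
  have htM := t_injective_of_isReduced η (η.M A)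
  have htB := t_injective_of_isReduced η B
  have hinj : Function.Injective f := by
    intro x y hxy
    apply htM
    apply hN.1
    rw [Nmap_t, Nmap_t, hxy]
  refine ⟨hinj, ?_⟩
  have hq := q_isIntegral η hA
  have hNq := Nmap_q_bijective η hA
  have hg : (f.comp (η.q A)).IsIntegral := RingHom.IsIntegral.trans _ _ hq hf
  have hNg : Function.Bijective (η.Nmap (f.comp (η.q A))) := by
    rw [Nmap_comp]
    exact hN.comp hNq
  obtain ⟨g', hg', -⟩ := existsUnique_lift η (f.comp (η.q A)) hg hNg
  have h1 : g'.comp f = RingHom.id _ :=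
    lift_unique η (η.q A) hNq _ _ (by rw [RingHom.comp_assoc]; exact hg') (RingHom.id_comp _)
  intro b
  refine ⟨g' b, ?_⟩
  apply htB
  funext P
  rw [t_apply, t_apply]
  congr 1
  have h2 := hom_ext_field η (f.comp (η.q A)) hNg
    ((algebraMap B P.asIdeal.ResidueField).comp (f.comp g')) (algebraMap B P.asIdeal.ResidueField) (by
      ext a
      simp only [RingHom.comp_apply]
      have := congrArg (fun φ => φ (η.q A a)) h1
      simp only [RingHom.comp_apply, RingHom.id_apply] at this
      rw [this])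
  exact congrArg (fun φ => φ b) h2

/-- **S13815**, first half. -/
theorem Nmap_q_eq_t (hA : (minimalPrimes A).Finite) (x : η.M A) :
    η.Nmap (η.q A) (x : η.N A) = η.t (η.M A) x := by
  funext Q
  rw [Nmap_apply, t_apply]
  apply (η.map (φQ η hA Q)).injective
  have h1 : η.map (φQ η hA Q) (η.map (Ideal.ResidueField.map (PrimeSpectrum.comap (η.q A) Q).asIdeal
      Q.asIdeal (η.q A) rfl) ((x : η.N A) (PrimeSpectrum.comap (η.q A) Q))) =
      η.map (η.eta _) ((x : η.N A) (PrimeSpectrum.comap (η.q A) Q)) := by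
    rw [← φQ_comp η hA Q, η.map_comp]; rfl
  rw [h1, eta_natural_apply, φQ_algebraMap, eta_obj]

theorem q_M_bijective (hA : (minimalPrimes A).Finite) : Function.Bijective (η.q (η.M A)) := by
  constructor
  · intro x y hxy
    exact t_injective_of_isReduced η (η.M A) (congrArg Subtype.val hxy)
  · rintro ⟨z, hz⟩
    obtain ⟨x, hx, hxz⟩ := (bijOn_Nmap_M η (η.q A) (q_isIntegral η hA) (Nmap_q_bijective η hA)).2.2 hz
    refine ⟨⟨x, hx⟩, Subtype.ext ?_⟩
    change η.t (η.M A) ⟨x, hx⟩ = z
    rw [← Nmap_q_eq_t η hA ⟨x, hx⟩]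
    exact hxz

end Groth.Agent.Helper6.EtaUniq
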