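import Mathlib
import Groth.Agent.Helper6.EtaUniq

set_option autoImplicit false

universe u

namespace Groth.Agent.Helper6.EtaVal

open EtaPt EtaPt.FieldEndo Groth.Agent.Helper6.EtaBasic Groth.Agent.Helper6.EtaDom
  Groth.Agent.Helper6.EtaSpec Groth.Agent.Helper6.EtaPrime Groth.Agent.Helper6.EtaBij
  Groth.Agent.Helper6.EtaRel Groth.Agent.Helper6.EtaLift Groth.Agent.Helper6.EtaUniq

variable (η : FieldEndo.{u})

/-- evaluation at the generic point of a domain is injective on `M R` (no hypothesis on `η`). -/
theorem injOn_generic' (R : Type u) [CommRing R] [IsDomain R] :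
    Set.InjOn (fun x : η.N R => x (gen R)) (η.M R) := by
  intro x hx y hy hxy
  have h0 : (x - y) (gen R) = 0 := by
    change x (gen R) - y (gen R) = 0
    rw [sub_eq_zero]; exact hxy
  have h1 : x - y = 0 := by
    funext p
    exact eq_zero_of_le η (p := gen R) (p' := p) bot_le (Subring.sub_mem _ hx hy) h0
  exact sub_eq_zero.mp h1

theorem charP_of_hom {R L : Type*} [CommRing R] [Field L] (f : R →+* L) (p : ℕ) [hp : Fact p.Prime]
    [CharP R p] : CharP L p := by
  obtain ⟨q, hq⟩ := CharP.exists L
  have h0 : ((p : ℕ) : L) = 0 := by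
    rw [← map_natCast f, CharP.cast_eq_zero, map_zero]
  have hdvd : q ∣ p := (CharP.cast_eq_zero_iff L q p).mp h0
  rcases (Nat.Prime.eq_one_or_self_of_dvd hp.out q hdvd) with h1 | h1
  · exact absurd h1 (CharP.char_ne_one L q)
  · subst h1; exact hq

theorem ringExpChar_eq_of_charP (L : Type*) [Field L] (p : ℕ) [hp : Fact p.Prime] [CharP L p] :
    ringExpChar L = p := by
  haveI : ExpChar L p := ExpChar.prime hp.out
  exact ringExpChar.eq L p

theorem pow_inj_of_charP (L : Type*) [Field L] (p : ℕ) [hp : Fact p.Prime] [CharP L p] (n : ℕ)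
    {a b : L} (h : a ^ p ^ n = b ^ p ^ n) : a = b :=
  pow_expChar_pow_inj p (ringExpChar_eq_of_charP L p) n h

/-- if `η k` is integral over `R` then so is `k`. -/
theorem isIntegral_of_eta {R : Type u} [CommRing R] {K : Type u} [Field K] [Algebra R K] (k : K)
    (h : ((η.eta K).comp (algebraMap R K)).IsIntegralElem (η.eta K k)) : IsIntegral R k := by
  obtain ⟨P, hPm, hP⟩ := h
  refine ⟨P, hPm, ?_⟩
  rw [← Polynomial.hom_eval₂] at hP
  exact (map_eq_zero _).mp hP

theorem isIntegralElem_pow {R S : Type*} [CommRing R] [CommRing S] (f : R →+* S) {y : S}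
    (h : f.IsIntegralElem y) (m : ℕ) : f.IsIntegralElem (y ^ m) := by
  letI : Algebra R S := f.toAlgebra
  have h1 : IsIntegral R y := h
  exact h1.pow m

variable (R : Type u) [CommRing R] [IsDomain R] [ValuationRing R]

/-- generic component of `t R r`. -/
theorem t_gen (r : R) : η.t R r (gen R) = ιp η (gen R) r := rfl

theorem mem_image_of_integral_eta (k : (gen R).asIdeal.ResidueField)
    (h : (ιp η (gen R)).IsIntegralElem (η.eta _ k)) :
    η.eta _ k ∈ (fun x : η.N R => x (gen R)) '' (η.M R : Set (η.N R)) := by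
  have h1 : IsIntegral R k := isIntegral_of_eta η k h
  obtain ⟨r, rfl⟩ := IsIntegrallyClosed.algebraMap_eq_of_integral h1
  exact ⟨η.t R r, η.t_mem_M R r, rfl⟩

/-- In characteristic `p` with the perfectness hypothesis: `p^n`-th roots of `t R r` exist in `M R`. -/
theorem exists_root_mem_M (p : ℕ) [hp : Fact p.Prime] [CharP R p]
    (hperf : ∀ (k : Type u) [Field k], CharP k p → Function.Bijective (η.eta k) → PerfectField k)
    (n : ℕ) (r : R) : ∃ x ∈ η.M R, ∀ 𝔫 : PrimeSpectrum R, x 𝔫 ^ p ^ n = η.t R r 𝔫 := by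
  have hcp : ∀ 𝔫 : PrimeSpectrum R, CharP (η.obj 𝔫.asIdeal.ResidueField) p :=
    fun 𝔫 => charP_of_hom (ιp η 𝔫) p
  have key : ∀ 𝔫 : PrimeSpectrum R, ∃ z : η.obj 𝔫.asIdeal.ResidueField, z ^ p ^ n = η.t R r 𝔫 := by
    intro 𝔫
    haveI := hcp 𝔫
    haveI : PerfectField (η.obj 𝔫.asIdeal.ResidueField) :=
      hperf _ (hcp 𝔫) (eta_obj_bijective η _)
    haveI : ExpChar (η.obj 𝔫.asIdeal.ResidueField) p := ExpChar.prime hp.out
    obtain ⟨z, hz⟩ := (bijective_iterateFrobenius (R := η.obj 𝔫.asIdeal.ResidueField) (p := p)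
      (n := n)).2 (η.t R r 𝔫)
    exact ⟨z, by rw [← hz, iterateFrobenius_def]⟩
  choose x hx using key
  refine ⟨x, ?_, hx⟩
  intro R' _ _ _ hR' g
  have hK' := inV_generic η R' hR'
  set K' := (gen R').asIdeal.ResidueField with hK'def
  haveI hcK' : CharP K' p := charP_of_hom ((algebraMap R' K').comp g) p
  haveI : PerfectField K' := hperf K' hcK' hK'
  haveI : ExpChar K' p := ExpChar.prime hp.out
  obtain ⟨s, hs⟩ := (bijective_iterateFrobenius (R := K') (p := p) (n := n)).2 (algebraMap R' K' (g r))
  rw [iterateFrobenius_def] at hs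
  have hpn : p ^ n ≠ 0 := pow_ne_zero _ hp.out.ne_zero
  have hsint : IsIntegral R' s := by
    refine ⟨Polynomial.X ^ (p ^ n) - Polynomial.C (g r), Polynomial.monic_X_pow_sub_C _ hpn, ?_⟩
    rw [Polynomial.eval₂_sub, Polynomial.eval₂_pow, Polynomial.eval₂_X, Polynomial.eval₂_C, hs, sub_self]
  obtain ⟨r', rfl⟩ := IsIntegrallyClosed.algebraMap_eq_of_integral hsint
  have hr' : r' ^ p ^ n = g r := by
    apply IsFractionRing.injective R' K'
    rw [map_pow, hs]
  refine ⟨r', ?_⟩
  funext 𝔫'
  haveI : CharP (η.obj 𝔫'.asIdeal.ResidueField) p := charP_of_hom ((ιp η 𝔫').comp g) p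
  apply pow_inj_of_charP _ p n
  rw [Nmap_apply, ← map_pow, hx, t_apply, t_apply, eta_natural_apply,
    Ideal.ResidueField.map_algebraMap (PrimeSpectrum.comap g 𝔫').asIdeal 𝔫'.asIdeal g rfl r,
    ← map_pow, ← map_pow, hr']

/-- `η` is bijective at a field of exponential characteristic one. -/
theorem eta_bijective_of_ringExpChar_eq_one (K : Type u) [Field K] (h : ringExpChar K = 1) :
    Function.Bijective (η.eta K) := by
  refine ⟨(η.eta K).injective, ?_⟩
  intro x
  obtain ⟨n, z, hz⟩ := η.exists_pow_mem_range_eta K x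
  rw [h, one_pow, pow_one] at hz
  exact ⟨z, hz⟩

/-- **S13813**, the image part. -/
theorem image_generic_eq
    (hη : η.InV R ∨ ∀ (k : Type u) [Field k], ringChar k = ringChar R →
      Function.Bijective (η.eta k) → PerfectField k) :
    (fun x : η.N R => x (gen R)) '' (η.M R : Set (η.N R)) =
      {y | (ιp η (gen R)).IsIntegralElem y} := by
  apply Set.Subset.antisymm
  · rintro _ ⟨x, hx, rfl⟩
    exact isIntegralElem_component η (gen R) hx
  · intro y hy
    have caseA : Function.Bijective (η.eta (gen R).asIdeal.ResidueField) →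
        y ∈ (fun x : η.N R => x (gen R)) '' (η.M R : Set (η.N R)) := by
      intro hK
      obtain ⟨k, rfl⟩ := hK.2 y
      exact mem_image_of_integral_eta η R k hy
    rcases hη with hInV | hperf
    · exact caseA (inV_generic η R hInV)
    · by_cases hc : ringChar R = 0
      · apply caseA
        apply eta_bijective_of_ringExpChar_eq_one
        haveI : CharP R 0 := hc ▸ ringChar.charP R
        haveI : CharP (gen R).asIdeal.ResidueField 0 :=
          charP_of_injective_algebraMap (IsFractionRing.injective R (gen R).asIdeal.ResidueField) 0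
        haveI : CharZero (gen R).asIdeal.ResidueField := CharP.charP_to_charZero _
        haveI : ExpChar (gen R).asIdeal.ResidueField 1 := ExpChar.zero
        exact ringExpChar.eq _ 1
      · haveI hcp : CharP R (ringChar R) := ringChar.charP R
        have hprime : (ringChar R).Prime :=
          (CharP.char_is_prime_or_zero R (ringChar R)).resolve_right hc
        haveI : Fact (ringChar R).Prime := ⟨hprime⟩
        set p := ringChar R with hp
        haveI : CharP (gen R).asIdeal.ResidueField p :=
          charP_of_hom (algebraMap R (gen R).asIdeal.ResidueField) p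
        obtain ⟨n, k, hk⟩ := η.exists_pow_mem_range_eta (gen R).asIdeal.ResidueField y
        rw [ringExpChar_eq_of_charP _ p] at hk
        have h1 : (ιp η (gen R)).IsIntegralElem (η.eta _ k) := by
          rw [hk]; exact isIntegralElem_pow _ hy _
        have h2 : IsIntegral R k := isIntegral_of_eta η k h1
        obtain ⟨r, rfl⟩ := IsIntegrallyClosed.algebraMap_eq_of_integral h2
        obtain ⟨x, hxM, hx⟩ := exists_root_mem_M η R p
          (fun k _ hck hb => hperf k (by haveI := hck; exact ringChar.eq k p) hb) n r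
        refine ⟨x, hxM, ?_⟩
        haveI : CharP (η.obj (gen R).asIdeal.ResidueField) p := charP_of_hom (ιp η (gen R)) p
        apply pow_inj_of_charP _ p n
        change x (gen R) ^ p ^ n = y ^ p ^ n
        rw [hx, ← hk]
        rfl

end Groth.Agent.Helper6.EtaVal
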