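import Mathlib
import Groth.Agent.Helper6.EtaVal

set_option autoImplicit false

universe u

namespace Groth.Agent.Helper6.EtaDesc

open EtaPt EtaPt.FieldEndo Groth.Agent.Helper6.EtaBasic Groth.Agent.Helper6.EtaDom
  Groth.Agent.Helper6.EtaSpec Groth.Agent.Helper6.EtaPrime Groth.Agent.Helper6.EtaBij
  Groth.Agent.Helper6.EtaRel Groth.Agent.Helper6.EtaLift Groth.Agent.Helper6.EtaUniq
  Groth.Agent.Helper6.EtaVal

variable (η : FieldEndo.{u})

section Descent

variable (R : Type u) [CommRing R] [IsDomain R] {K' : Type u} [Field K'] (τ : R →+* K')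
  (hτ : Function.Injective τ) (V : ValuationSubring K') (hV : ∀ r, τ r ∈ V)

/-- the corestriction of `τ` to `V`. -/
noncomputable def τV : R →+* V := τ.codRestrict V.toSubring hV

theorem τV_coe (r : R) : ((τV R τ V hV r : V) : K') = τ r := rfl

include hτ in
theorem τV_injective : Function.Injective (τV R τ V hV) := by
  intro a b hab
  apply hτ
  rw [← τV_coe R τ V hV, ← τV_coe R τ V hV, hab]

include hτ in
theorem comap_τV_gen : PrimeSpectrum.comap (τV R τ V hV) (gen V) = gen R := by
  apply PrimeSpectrum.ext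
  change Ideal.comap _ ⊥ = ⊥
  rw [← RingHom.ker_eq_comap_bot, (RingHom.injective_iff_ker_eq_bot _).mp (τV_injective R τ hτ V hV)]

end Descent

/-- **Descent**: an element of `N R` (for a valuation ring `R` with `η` bijective at the fraction
field) lies in the range of `t R` as soon as this holds after passing to suitable valuation subrings
of an extension field, one centred at each prime. -/
theorem descent (R : Type u) [CommRing R] [IsDomain R] [ValuationRing R]
    (hK : Function.Bijective (η.eta (gen R).asIdeal.ResidueField)) (y : η.N R)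
    {K' : Type u} [Field K'] (τ : R →+* K') (hτ : Function.Injective τ)
    (H : ∀ 𝔫 : PrimeSpectrum R, ∃ (V : ValuationSubring K') (hV : ∀ r, τ r ∈ V),
      (IsLocalRing.maximalIdeal V).comap (τV R τ V hV) = 𝔫.asIdeal ∧
        η.Nmap (τV R τ V hV) y ∈ (η.t V).range) :
    y ∈ (η.t R).range := by
  -- Step 1: the generic component comes from `R`
  have step1 : ∃ r₀ : R, y (gen R) = η.t R r₀ (gen R) := by
    obtain ⟨k, hk⟩ := hK.2 (y (gen R))
    let 𝔪 : PrimeSpectrum R := ⟨IsLocalRing.maximalIdeal R, inferInstance⟩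
    obtain ⟨V, hV, hc, v, hv⟩ := H 𝔪
    have hcomap := comap_τV_gen R τ hτ V hV
    have h := congrFun hv (gen V)
    rw [Nmap_apply_of_eq η (τV R τ V hV) y (gen V) (gen R) hcomap, ← hk, eta_natural_apply, t_apply] at h
    have h3 : algebraMap V (gen V).asIdeal.ResidueField v =
        Ideal.ResidueField.map (gen R).asIdeal (gen V).asIdeal (τV R τ V hV) (by rw [← hcomap]; rfl) k :=
      (η.eta (gen V).asIdeal.ResidueField).injective h
    rcases ValuationRing.isInteger_or_isInteger R k with ⟨r, hr⟩ | ⟨r, hr⟩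
    · exact ⟨r, by rw [t_apply, ← hk, ← hr]⟩
    · by_cases hr0 : r = 0
      · refine ⟨0, ?_⟩
        have : k = 0 := by
          rw [hr0, map_zero] at hr
          exact inv_eq_zero.mp hr.symm
        rw [t_apply, ← hk, this, map_zero, map_zero, map_zero]
      · -- `τV r * v = 1`
        have hk0 : k ≠ 0 := by
          intro h0
          rw [h0, inv_zero] at hr
          exact hr0 ((IsFractionRing.injective R (gen R).asIdeal.ResidueField) (by rw [hr, map_zero]))
        have h4 : algebraMap V (gen V).asIdeal.ResidueField (τV R τ V hV r * v) = 1 := by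
          rw [map_mul, h3,
            ← Ideal.ResidueField.map_algebraMap (gen R).asIdeal (gen V).asIdeal (τV R τ V hV)
              (by rw [← hcomap]; rfl) r]
          have : algebraMap R (gen R).asIdeal.ResidueField r = k⁻¹ := hr
          rw [this, ← map_mul, inv_mul_cancel₀ hk0, map_one]
        have h5 : τV R τ V hV r * v = 1 := by
          apply IsFractionRing.injective V (gen V).asIdeal.ResidueField
          rw [h4, map_one]
        have h6 : IsUnit (τV R τ V hV r) := IsUnit.of_mul_eq_one _ h5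
        have h7 : r ∉ IsLocalRing.maximalIdeal R := by
          intro hrm
          have : r ∈ (IsLocalRing.maximalIdeal V).comap (τV R τ V hV) := by rw [hc]; exact hrm
          exact (IsLocalRing.mem_maximalIdeal _).mp this h6
        have h8 : IsUnit r := by
          by_contra hnu
          exact h7 ((IsLocalRing.mem_maximalIdeal _).mpr hnu)
        obtain ⟨u, rfl⟩ := h8
        refine ⟨((u⁻¹ : Rˣ) : R), ?_⟩
        rw [t_apply, ← hk]
        congr 1
        have h9 : algebraMap R (gen R).asIdeal.ResidueField ((u : R)) *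
            algebraMap R (gen R).asIdeal.ResidueField ((u⁻¹ : Rˣ) : R) = 1 := by
          rw [← map_mul, Units.mul_inv, map_one]
        have h10 : algebraMap R (gen R).asIdeal.ResidueField (u : R) * k = 1 := by
          have : algebraMap R (gen R).asIdeal.ResidueField (u : R) = k⁻¹ := hr
          rw [this, inv_mul_cancel₀ hk0]
        have hu0 : algebraMap R (gen R).asIdeal.ResidueField (u : R) ≠ 0 := by
          intro h0; rw [h0, zero_mul] at h10; exact zero_ne_one h10
        exact mul_left_cancel₀ hu0 (h10.trans h9.symm)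
  obtain ⟨r₀, hr₀⟩ := step1
  refine ⟨r₀, ?_⟩
  -- Step 2
  have h0 : (y - η.t R r₀) (gen R) = 0 := by
    change y (gen R) - η.t R r₀ (gen R) = 0
    rw [hr₀, sub_self]
  have key : y - η.t R r₀ = 0 := by
    funext 𝔫
    obtain ⟨V, hV, hc, v, hv⟩ := H 𝔫
    have hcomap := comap_τV_gen R τ hτ V hV
    have hv' : η.Nmap (τV R τ V hV) (y - η.t R r₀) = η.t V (v - τV R τ V hV r₀) := by
      rw [map_sub, map_sub, ← hv, Nmap_t]
    have h := congrFun hv' (gen V)
    rw [Nmap_apply_of_eq η (τV R τ V hV) _ (gen V) (gen R) hcomap, h0, map_zero, t_apply] at h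
    have h3 : v - τV R τ V hV r₀ = 0 := by
      apply IsFractionRing.injective V (gen V).asIdeal.ResidueField
      rw [map_zero]
      exact ((map_eq_zero _).mp h.symm)
    rw [h3, map_zero] at hv'
    let 𝔪V : PrimeSpectrum V := ⟨IsLocalRing.maximalIdeal V, inferInstance⟩
    have hc' : PrimeSpectrum.comap (τV R τ V hV) 𝔪V = 𝔫 := PrimeSpectrum.ext hc
    have h4 := congrFun hv' 𝔪V
    rw [Nmap_apply_of_eq η (τV R τ V hV) _ 𝔪V 𝔫 hc', Pi.zero_apply, map_eq_zero] at h4
    exact h4
  exact (sub_eq_zero.mp key).symm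

end Groth.Agent.Helper6.EtaDesc

namespace Groth.Agent.Helper6.EtaDesc

open EtaPt EtaPt.FieldEndo Groth.Agent.Helper6.EtaBasic Groth.Agent.Helper6.EtaDom
  Groth.Agent.Helper6.EtaSpec Groth.Agent.Helper6.EtaPrime Groth.Agent.Helper6.EtaBij
  Groth.Agent.Helper6.EtaRel Groth.Agent.Helper6.EtaLift Groth.Agent.Helper6.EtaUniq
  Groth.Agent.Helper6.EtaVal

variable (η : FieldEndo.{u}) {A B : Type u} [CommRing A] [CommRing B]

theorem isAlgebraic_residueField (f : A →+* B) (hf : f.IsIntegral) (p : PrimeSpectrum A)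
    (Q : PrimeSpectrum B) (h : p.asIdeal = Q.asIdeal.comap f) :
    letI := (Ideal.ResidueField.map p.asIdeal Q.asIdeal f h).toAlgebra
    Algebra.IsAlgebraic p.asIdeal.ResidueField Q.asIdeal.ResidueField := by
  letI := (Ideal.ResidueField.map p.asIdeal Q.asIdeal f h).toAlgebra
  have key : ∀ b : B, IsIntegral p.asIdeal.ResidueField (algebraMap B Q.asIdeal.ResidueField b) := by
    intro b
    obtain ⟨P, hPm, hP⟩ := hf b
    refine ⟨P.map (algebraMap A p.asIdeal.ResidueField), hPm.map _, ?_⟩
    rw [Polynomial.eval₂_map]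
    have h2 : (algebraMap p.asIdeal.ResidueField Q.asIdeal.ResidueField).comp
        (algebraMap A p.asIdeal.ResidueField) = (algebraMap B Q.asIdeal.ResidueField).comp f := by
      ext a
      exact Ideal.ResidueField.map_algebraMap p.asIdeal Q.asIdeal f h a
    rw [h2, ← Polynomial.hom_eval₂, hP, map_zero]
  constructor
  intro z
  obtain ⟨x, y, -, rfl⟩ := IsFractionRing.div_surjective (A := B ⧸ Q.asIdeal) z
  obtain ⟨b, rfl⟩ := Ideal.Quotient.mk_surjective x
  obtain ⟨s, rfl⟩ := Ideal.Quotient.mk_surjective y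
  have hb : algebraMap (B ⧸ Q.asIdeal) Q.asIdeal.ResidueField (Ideal.Quotient.mk _ b) =
      algebraMap B Q.asIdeal.ResidueField b := rfl
  have hs : algebraMap (B ⧸ Q.asIdeal) Q.asIdeal.ResidueField (Ideal.Quotient.mk _ s) =
      algebraMap B Q.asIdeal.ResidueField s := rfl
  rw [hb, hs, div_eq_mul_inv]
  exact ((key b).mul (key s).inv).isAlgebraic

/-- **S13816**, the nontrivial direction. -/
theorem mem_M_of_Nmap_mem_M (f : A →+* B) (hf : f.IsIntegral)
    (hs : Function.Surjective (PrimeSpectrum.comap f)) (x : η.N A) (hx : η.Nmap f x ∈ η.M B) :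
    x ∈ η.M A := by
  intro R _ _ _ hR g
  have hK := inV_generic η R hR
  let p : PrimeSpectrum A := PrimeSpectrum.comap g (gen R)
  obtain ⟨Q, hQ⟩ := hs p
  have hQ' : p.asIdeal = Q.asIdeal.comap f := by rw [← hQ]; rfl
  let ρ := Ideal.ResidueField.map p.asIdeal Q.asIdeal f hQ'
  let gt : p.asIdeal.ResidueField →+* (gen R).asIdeal.ResidueField :=
    Ideal.ResidueField.map p.asIdeal (gen R).asIdeal g rfl
  let Kbar := AlgebraicClosure (gen R).asIdeal.ResidueField
  letI : Algebra p.asIdeal.ResidueField Q.asIdeal.ResidueField := ρ.toAlgebra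
  letI : Algebra p.asIdeal.ResidueField Kbar :=
    ((algebraMap (gen R).asIdeal.ResidueField Kbar).comp gt).toAlgebra
  haveI : Algebra.IsAlgebraic p.asIdeal.ResidueField Q.asIdeal.ResidueField :=
    isAlgebraic_residueField f hf p Q hQ'
  let σ₀ : Q.asIdeal.ResidueField →ₐ[p.asIdeal.ResidueField] Kbar := IsAlgClosed.lift
  let σ : B →+* η.obj Kbar := (η.eta Kbar).comp (σ₀.toRingHom.comp (algebraMap B Q.asIdeal.ResidueField))
  let τ : R →+* η.obj Kbar := (η.eta Kbar).comp
    ((algebraMap (gen R).asIdeal.ResidueField Kbar).comp (algebraMap R (gen R).asIdeal.ResidueField))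
  have hστ : ∀ a, σ (f a) = τ (g a) := by
    intro a
    change η.eta Kbar (σ₀ (algebraMap B Q.asIdeal.ResidueField (f a))) = η.eta Kbar
      (algebraMap (gen R).asIdeal.ResidueField Kbar (algebraMap R (gen R).asIdeal.ResidueField (g a)))
    congr 1
    rw [← Ideal.ResidueField.map_algebraMap p.asIdeal Q.asIdeal f hQ' a,
      ← Ideal.ResidueField.map_algebraMap p.asIdeal (gen R).asIdeal g rfl a]
    exact σ₀.commutes (algebraMap A p.asIdeal.ResidueField a)
  have hτ : Function.Injective τ :=
    (η.eta Kbar).injective.comp ((algebraMap (gen R).asIdeal.ResidueField Kbar).injective.comp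
      (IsFractionRing.injective R (gen R).asIdeal.ResidueField))
  have hK' : Function.Bijective (η.eta (η.obj Kbar)) := eta_obj_bijective η Kbar
  apply descent η R hK (η.Nmap g x) τ hτ
  intro 𝔫
  obtain ⟨V, hV, hc⟩ := exists_valuationSubring_center' τ 𝔫.asIdeal (by
    rw [(RingHom.injective_iff_ker_eq_bot τ).mp hτ]; exact bot_le)
  refine ⟨V, hV, hc, ?_⟩
  have hσV : ∀ b, σ b ∈ V := by
    intro b
    obtain ⟨P, hPm, hP⟩ := hf b
    have h1 : IsIntegral V (σ b) := by
      refine ⟨P.map ((τV R τ V hV).comp g), hPm.map _, ?_⟩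
      rw [Polynomial.eval₂_map]
      have h2 : (algebraMap V (η.obj Kbar)).comp ((τV R τ V hV).comp g) = σ.comp f := by
        ext a
        exact (hστ a).symm
      rw [h2, ← Polynomial.hom_eval₂, hP, map_zero]
    obtain ⟨v, hv⟩ := IsIntegrallyClosed.algebraMap_eq_of_integral h1
    rw [← hv]
    exact v.2
  let σV : B →+* V := σ.codRestrict V.toSubring hσV
  have hcomp : (τV R τ V hV).comp g = σV.comp f := by
    ext a
    exact (hστ a).symm
  have hInV : η.InV V := (inV_iff η V (η.obj Kbar)).mpr hK'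
  rw [← Nmap_comp_apply, hcomp, Nmap_comp_apply]
  exact hx V hInV σV

theorem mem_M_iff_Nmap_mem_M (f : A →+* B) (hf : f.IsIntegral)
    (hs : Function.Surjective (PrimeSpectrum.comap f)) (x : η.N A) :
    x ∈ η.M A ↔ η.Nmap f x ∈ η.M B :=
  ⟨fun h => Nmap_mem_M η f h, mem_M_of_Nmap_mem_M η f hf hs x⟩

end Groth.Agent.Helper6.EtaDesc
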