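import Mathlib
import Groth.Agent.Helper6.EtaDesc

set_option autoImplicit false

universe u

namespace Groth.Agent.Helper6.EtaRel2

open EtaPt EtaPt.FieldEndo Groth.Agent.Helper6.EtaBasic Groth.Agent.Helper6.EtaDom
  Groth.Agent.Helper6.EtaSpec Groth.Agent.Helper6.EtaPrime Groth.Agent.Helper6.EtaBij
  Groth.Agent.Helper6.EtaRel Groth.Agent.Helper6.EtaLift Groth.Agent.Helper6.EtaUniq
  Groth.Agent.Helper6.EtaVal

variable (η : FieldEndo.{u}) {A B : Type u} [CommRing A] [CommRing B]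

theorem isNilpotent_of_t_eq_zero {z : B} (h : η.t B z = 0) : IsNilpotent z := by
  rw [← mem_nilradical, nilradical_eq_sInf, Ideal.mem_sInf]
  intro P hP
  haveI : P.IsPrime := hP
  have h2 := congrFun h ⟨P, hP⟩
  rw [t_apply, Pi.zero_apply, map_eq_zero, Ideal.algebraMap_residueField_eq_zero] at h2
  exact h2

theorem t_eq_zero_of_isNilpotent {z : B} (h : IsNilpotent z) : η.t B z = 0 :=
  (h.map (η.t B)).eq_zero

/-- elements of `rel f` are integral over `A` (finitely many minimal primes). -/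
theorem isIntegralElem_of_mem_rel (hA : (minimalPrimes A).Finite) (f : A →+* B) {b : B}
    (hb : b ∈ η.rel f) : f.IsIntegralElem b := by
  rw [mem_rel_iff] at hb
  obtain ⟨x, hx, hxb⟩ := hb
  obtain ⟨P, hPm, hP⟩ := exists_monic_eval₂_eq_zero η hA hx
  have h1 : η.t B (P.eval₂ f b) = 0 := by
    have h2 := Polynomial.hom_eval₂ P (η.t A) (η.Nmap f) x
    rw [hP, map_zero, hxb] at h2
    have h3 : (η.Nmap f).comp (η.t A) = (η.t B).comp f := by
      ext a : 1
      exact Nmap_t η f a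
    rw [h3, ← Polynomial.hom_eval₂] at h2
    exact h2.symm
  obtain ⟨m, hm⟩ := isNilpotent_of_t_eq_zero η h1
  exact ⟨P ^ m, hPm.pow m, by rw [Polynomial.eval₂_pow, hm]⟩

theorem qRel_isIntegral (hA : (minimalPrimes A).Finite) (f : A →+* B) : (η.qRel f).IsIntegral := by
  rintro ⟨b, hb⟩
  obtain ⟨P, hPm, hP⟩ := isIntegralElem_of_mem_rel η hA f hb
  refine ⟨P, hPm, Subtype.ext ?_⟩
  have := Polynomial.hom_eval₂ P (η.qRel f) (η.rel f).subtype ⟨b, hb⟩
  change (η.rel f).subtype _ = _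
  rw [this]
  exact hP

section sigma

variable (f : A →+* B) (hs : Function.Surjective (PrimeSpectrum.comap f))

/-- the restriction of `N f` to `M A`, onto its image. -/
noncomputable def φM : η.M A →+* (η.M A).map (η.Nmap f) :=
  (η.Nmap f).restrict _ _ (fun x hx => ⟨x, hx, rfl⟩)

include hs in
theorem φM_bijective : Function.Bijective (φM η f) := by
  constructor
  · intro x y hxy
    exact Subtype.ext (Nmap_injective_of_surjective_comap η f hs (congrArg Subtype.val hxy))
  · rintro ⟨_, x, hx, rfl⟩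
    exact ⟨⟨x, hx⟩, rfl⟩

/-- the map `rel f → image of M A`. -/
noncomputable def ψM : η.rel f →+* (η.M A).map (η.Nmap f) :=
  ((η.t B).comp (η.rel f).subtype).codRestrict _ (fun c => c.2)

/-- `σ : rel f → M A`. -/
noncomputable def σ : η.rel f →+* η.M A :=
  (RingEquiv.ofBijective (φM η f) (φM_bijective η f hs)).symm.toRingHom.comp (ψM η f)

theorem Nmap_σ (c : η.rel f) : η.Nmap f (σ η f hs c : η.N A) = η.t B c := by
  have h1 : (RingEquiv.ofBijective (φM η f) (φM_bijective η f hs)) (σ η f hs c) = ψM η f c :=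
    RingEquiv.apply_symm_apply _ _
  exact congrArg Subtype.val h1

theorem σ_comp_qRel : (σ η f hs).comp (η.qRel f) = η.q A := by
  apply RingHom.ext
  intro a
  apply Subtype.ext
  apply Nmap_injective_of_surjective_comap η f hs
  rw [RingHom.comp_apply, Nmap_σ]
  change η.t B (f a) = η.Nmap f (η.t A a)
  rw [Nmap_t]

theorem σ_isIntegral (hA : (minimalPrimes A).Finite) : (σ η f hs).IsIntegral := by
  apply RingHom.IsIntegral.tower_top (η.qRel f)
  rw [σ_comp_qRel]
  exact q_isIntegral η hA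

theorem isNilpotent_of_σ_eq_zero {c : η.rel f} (h : σ η f hs c = 0) : IsNilpotent c := by
  have h1 : η.t B c = 0 := by
    rw [← Nmap_σ η f hs c, h]
    exact map_zero _
  obtain ⟨m, hm⟩ := isNilpotent_of_t_eq_zero η h1
  exact ⟨m, Subtype.ext hm⟩

theorem comap_σ_surjective (hA : (minimalPrimes A).Finite) :
    Function.Surjective (PrimeSpectrum.comap (σ η f hs)) := by
  intro 𝔔
  letI : Algebra (η.rel f) (η.M A) := (σ η f hs).toAlgebra
  haveI : Algebra.IsIntegral (η.rel f) (η.M A) := ⟨σ_isIntegral η f hs hA⟩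
  have hker : RingHom.ker (algebraMap (η.rel f) (η.M A)) ≤ 𝔔.asIdeal := by
    intro c hc
    have h0 : σ η f hs c = 0 := hc
    obtain ⟨m, hm⟩ := isNilpotent_of_σ_eq_zero η f hs h0
    exact 𝔔.isPrime.mem_of_pow_mem m (by rw [hm]; exact zero_mem _)
  obtain ⟨𝔓, -, h𝔓, h𝔓c⟩ := Ideal.exists_ideal_over_prime_of_isIntegral 𝔔.asIdeal
    (⊥ : Ideal (η.M A)) (by rw [← RingHom.ker_eq_comap_bot]; exact hker)
  exact ⟨⟨𝔓, h𝔓⟩, PrimeSpectrum.ext h𝔓c⟩

include hs in
theorem comap_qRel_bijective (hA : (minimalPrimes A).Finite) :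
    Function.Bijective (PrimeSpectrum.comap (η.qRel f)) := by
  constructor
  · intro 𝔔₁ 𝔔₂ h
    obtain ⟨𝔓₁, rfl⟩ := comap_σ_surjective η f hs hA 𝔔₁
    obtain ⟨𝔓₂, rfl⟩ := comap_σ_surjective η f hs hA 𝔔₂
    have h1 : ∀ 𝔓 : PrimeSpectrum (η.M A),
        PrimeSpectrum.comap (η.qRel f) (PrimeSpectrum.comap (σ η f hs) 𝔓) =
          PrimeSpectrum.comap (η.q A) 𝔓 := by
      intro 𝔓
      rw [← σ_comp_qRel η f hs]
      rfl
    rw [h1, h1] at h
    rw [(comap_q_bijective η hA).1 h]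
  · intro p
    obtain ⟨Q, rfl⟩ := hs p
    exact ⟨PrimeSpectrum.comap (η.rel f).subtype Q, rfl⟩

theorem ker_πp_σ (hA : (minimalPrimes A).Finite) (Q : PrimeSpectrum (η.rel f)) :
    RingHom.ker ((πp η (PrimeSpectrum.comap (η.qRel f) Q)).comp (σ η f hs)) = Q.asIdeal := by
  let Q' : PrimeSpectrum (η.rel f) :=
    ⟨RingHom.ker ((πp η (PrimeSpectrum.comap (η.qRel f) Q)).comp (σ η f hs)), RingHom.ker_isPrime _⟩
  have h1 : PrimeSpectrum.comap (η.qRel f) Q' = PrimeSpectrum.comap (η.qRel f) Q := by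
    apply PrimeSpectrum.ext
    ext a
    change η.qRel f a ∈ RingHom.ker _ ↔ a ∈ (PrimeSpectrum.comap (η.qRel f) Q).asIdeal
    have h2 : σ η f hs (η.qRel f a) = η.q A a := congrArg (fun φ => φ a) (σ_comp_qRel η f hs)
    rw [RingHom.mem_ker, RingHom.comp_apply, h2, πp_q, ← RingHom.mem_ker, ker_ιp]
  exact congrArg PrimeSpectrum.asIdeal ((comap_qRel_bijective η f hs hA).1 h1)

/-- the residue field of `rel f` at `Q` embeds into `F(κ(Q ∩ A))`. -/
noncomputable def φRel (hA : (minimalPrimes A).Finite) (Q : PrimeSpectrum (η.rel f)) :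
    Q.asIdeal.ResidueField →+* η.obj (PrimeSpectrum.comap (η.qRel f) Q).asIdeal.ResidueField :=
  Ideal.ResidueField.lift Q.asIdeal ((πp η (PrimeSpectrum.comap (η.qRel f) Q)).comp (σ η f hs))
    (ker_πp_σ η f hs hA Q).ge (by
      intro y hy
      simp only [Submonoid.mem_comap, IsUnit.mem_submonoid_iff, isUnit_iff_ne_zero]
      intro h0
      exact hy ((ker_πp_σ η f hs hA Q) ▸ RingHom.mem_ker.mpr h0))

theorem φRel_comp (hA : (minimalPrimes A).Finite) (Q : PrimeSpectrum (η.rel f)) :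
    (φRel η f hs hA Q).comp (Ideal.ResidueField.map (PrimeSpectrum.comap (η.qRel f) Q).asIdeal Q.asIdeal
      (η.qRel f) rfl) = η.eta (PrimeSpectrum.comap (η.qRel f) Q).asIdeal.ResidueField := by
  apply residueField_hom_ext
  ext a
  have h1 : Ideal.ResidueField.map (PrimeSpectrum.comap (η.qRel f) Q).asIdeal Q.asIdeal (η.qRel f) rfl
      (algebraMap A _ a) = algebraMap _ _ (η.qRel f a) := Ideal.ResidueField.map_algebraMap _ _ _ _ _
  have h2 : σ η f hs (η.qRel f a) = η.q A a := congrArg (fun φ => φ a) (σ_comp_qRel η f hs)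
  rw [RingHom.comp_apply, RingHom.comp_apply, h1, φRel, Ideal.ResidueField.lift_algebraMap,
    RingHom.comp_apply, h2]
  rfl

include hs in
theorem Nmap_qRel_bijective (hA : (minimalPrimes A).Finite) :
    Function.Bijective (η.Nmap (η.qRel f)) :=
  Nmap_bijective_of η (η.qRel f) (comap_qRel_bijective η f hs hA)
    (fun Q => (map_bijective_of_factor η _ (φRel η f hs hA Q) (φRel_comp η f hs hA Q)).2)

end sigma

/-- **S13820** -/
theorem rel_integralClosure (A B : Type u) [CommRing A] [CommRing B] [Algebra A B]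
    (hA : (minimalPrimes A).Finite) :
    (η.rel (algebraMap A (integralClosure A B))).map (integralClosure A B).val.toRingHom =
      η.rel (algebraMap A B) := by
  have hcomp : (integralClosure A B).val.toRingHom.comp (algebraMap A (integralClosure A B)) =
      algebraMap A B := by
    ext a; rfl
  apply le_antisymm
  · rintro _ ⟨c, hc, rfl⟩
    have hc' : c ∈ η.rel (algebraMap A (integralClosure A B)) := hc
    rw [mem_rel_iff] at hc'
    obtain ⟨x, hx, hxc⟩ := hc'
    rw [mem_rel_iff]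
    refine ⟨x, hx, ?_⟩
    rw [← hcomp, Nmap_comp_apply, hxc, Nmap_t]
  · intro b hb
    have hint : IsIntegral A b := isIntegralElem_of_mem_rel η hA (algebraMap A B) hb
    rw [mem_rel_iff] at hb
    obtain ⟨x, hx, hxb⟩ := hb
    let c : integralClosure A B := ⟨b, hint⟩
    refine ⟨c, ?_, rfl⟩
    change c ∈ η.rel (algebraMap A (integralClosure A B))
    rw [mem_rel_iff]
    refine ⟨x, hx, ?_⟩
    have hz : η.Nmap (algebraMap A (integralClosure A B)) x - η.t _ c ∈ η.M (integralClosure A B) :=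
      Subring.sub_mem _ (Nmap_mem_M η _ hx) (η.t_mem_M _ c)
    have hz0 : η.Nmap (integralClosure A B).val.toRingHom
        (η.Nmap (algebraMap A (integralClosure A B)) x - η.t _ c) = 0 := by
      rw [map_sub, ← Nmap_comp_apply, hcomp, hxb, Nmap_t, sub_eq_zero]
      rfl
    have key := eq_zero_of_minimal η hz (by
      intro 𝔭 h𝔭
      obtain ⟨𝔓, h𝔓, h𝔓c⟩ := Ideal.exists_comap_eq_of_mem_minimalPrimes_of_injective
        (f := (integralClosure A B).val.toRingHom) Subtype.val_injective 𝔭 h𝔭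
      have h1 := congrFun hz0 ⟨𝔓, h𝔓⟩
      rw [Nmap_apply_of_eq η _ _ ⟨𝔓, h𝔓⟩ ⟨𝔭, h𝔭.1.1⟩ (PrimeSpectrum.ext h𝔓c), Pi.zero_apply,
        map_eq_zero] at h1
      exact h1)
    exact sub_eq_zero.mp key

end Groth.Agent.Helper6.EtaRel2
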