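import Mathlib
import Groth.Agent.Helper6.EtaRel2

set_option autoImplicit false

universe u

namespace Groth.Agent.Helper6.EtaLoc

open EtaPt EtaPt.FieldEndo Groth.Agent.Helper6.EtaBasic Groth.Agent.Helper6.EtaDom
  Groth.Agent.Helper6.EtaSpec Groth.Agent.Helper6.EtaPrime Groth.Agent.Helper6.EtaBij
  Groth.Agent.Helper6.EtaRel Groth.Agent.Helper6.EtaLift Groth.Agent.Helper6.EtaUniq
  Groth.Agent.Helper6.EtaVal

variable (η : FieldEndo.{u}) {A B : Type u} [CommRing A] [CommRing B]

theorem residueField_map_surjective_of_isLocalization [Algebra A B] (M : Submonoid A)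
    [IsLocalization M B] (Q : PrimeSpectrum B) :
    Function.Surjective (Ideal.ResidueField.map (PrimeSpectrum.comap (algebraMap A B) Q).asIdeal
      Q.asIdeal (algebraMap A B) rfl) := by
  set ρ := Ideal.ResidueField.map (PrimeSpectrum.comap (algebraMap A B) Q).asIdeal
      Q.asIdeal (algebraMap A B) rfl with hρ
  have hρa : ∀ a, ρ (algebraMap A _ a) = algebraMap B Q.asIdeal.ResidueField (algebraMap A B a) :=
    fun a => Ideal.ResidueField.map_algebraMap _ _ (algebraMap A B) rfl a
  have key : ∀ b : B, ∃ w, ρ w = algebraMap B Q.asIdeal.ResidueField b := by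
    intro b
    obtain ⟨⟨a, m⟩, h⟩ := IsLocalization.surj M b
    have hm : algebraMap B Q.asIdeal.ResidueField (algebraMap A B m) ≠ 0 :=
      ((IsLocalization.map_units B m).map (algebraMap B Q.asIdeal.ResidueField)).ne_zero
    refine ⟨algebraMap A _ a / algebraMap A _ (m : A), ?_⟩
    rw [map_div₀, hρa, hρa, div_eq_iff hm, ← map_mul]
    congr 1
    exact h.symm
  intro z
  obtain ⟨x, y, -, rfl⟩ := IsFractionRing.div_surjective (A := B ⧸ Q.asIdeal) z
  obtain ⟨b, rfl⟩ := Ideal.Quotient.mk_surjective x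
  obtain ⟨s, rfl⟩ := Ideal.Quotient.mk_surjective y
  obtain ⟨w1, hw1⟩ := key b
  obtain ⟨w2, hw2⟩ := key s
  refine ⟨w1 / w2, ?_⟩
  rw [map_div₀, hw1, hw2]
  rfl

theorem Nmap_surjective_of (f : A →+* B) (hi : Function.Injective (PrimeSpectrum.comap f))
    (hm : ∀ Q : PrimeSpectrum B, Function.Surjective
      (η.map (Ideal.ResidueField.map (PrimeSpectrum.comap f Q).asIdeal Q.asIdeal f rfl))) :
    Function.Surjective (η.Nmap f) := by
  intro y
  have key : ∀ p : PrimeSpectrum A, ∃ z : η.obj p.asIdeal.ResidueField,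
      ∀ (Q : PrimeSpectrum B) (h : PrimeSpectrum.comap f Q = p),
        η.map (Ideal.ResidueField.map p.asIdeal Q.asIdeal f (by rw [← h]; rfl)) z = y Q := by
    intro p
    by_cases hp : ∃ Q0, PrimeSpectrum.comap f Q0 = p
    · obtain ⟨Q0, rfl⟩ := hp
      obtain ⟨z, hz⟩ := hm Q0 (y Q0)
      refine ⟨z, ?_⟩
      intro Q h
      obtain rfl := hi h
      exact hz
    · exact ⟨0, fun Q h => absurd ⟨Q, h⟩ hp⟩
  choose x hx using key
  refine ⟨x, ?_⟩
  funext Q
  rw [Nmap_apply]
  exact hx _ Q rfl

theorem map_surjective_of_surjective {K L : Type u} [Field K] [Field L] (ρ : K →+* L)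
    (h : Function.Surjective ρ) : Function.Surjective (η.map ρ) := by
  let e : K ≃+* L := RingEquiv.ofBijective ρ ⟨ρ.injective, h⟩
  have : ρ = e.toRingHom := by ext; rfl
  rw [this]
  exact (map_bijective_of_ringEquiv η e).2

theorem Nmap_surjective_of_isLocalization [Algebra A B] (M : Submonoid A) [IsLocalization M B] :
    Function.Surjective (η.Nmap (algebraMap A B)) :=
  Nmap_surjective_of η _ (PrimeSpectrum.localization_comap_injective B M)
    (fun Q => map_surjective_of_surjective η _ (residueField_map_surjective_of_isLocalization M Q))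

/-- if `N(A → A_f)(x) = 0` then `t(f) * x = 0`. -/
theorem t_mul_eq_zero_of_Nmap_away (f : A) [Algebra A B] [IsLocalization.Away f B] (x : η.N A)
    (h : η.Nmap (algebraMap A B) x = 0) : η.t A f * x = 0 := by
  funext p
  change η.t A f p * x p = 0
  by_cases hf : f ∈ p.asIdeal
  · have : η.t A f p = 0 := by
      rw [t_apply, (Ideal.algebraMap_residueField_eq_zero).mpr hf, map_zero]
    rw [this, zero_mul]
  · have hp : p ∈ Set.range (PrimeSpectrum.comap (algebraMap A B)) := by
      rw [PrimeSpectrum.localization_away_comap_range B f]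
      exact hf
    obtain ⟨Q, rfl⟩ := hp
    have h1 := congrFun h Q
    rw [Nmap_apply, Pi.zero_apply, map_eq_zero] at h1
    rw [h1, mul_zero]

/-- **S13824** -/
theorem Nmap_away (A : Type u) [CommRing A] (f : A) :
    (∀ y : η.N (Localization.Away f), ∃ (x : η.N A) (n : ℕ),
        y * η.t (Localization.Away f) (algebraMap A (Localization.Away f) f) ^ n =
          η.Nmap (algebraMap A (Localization.Away f)) x) ∧
      ∀ x : η.N A, η.Nmap (algebraMap A (Localization.Away f)) x = 0 → ∃ n : ℕ, η.t A f ^ n * x = 0 := by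
  constructor
  · intro y
    obtain ⟨x, hx⟩ := Nmap_surjective_of_isLocalization η (B := Localization.Away f)
      (Submonoid.powers f) y
    exact ⟨x, 0, by rw [pow_zero, mul_one, hx]⟩
  · intro x hx
    exact ⟨1, by rw [pow_one]; exact t_mul_eq_zero_of_Nmap_away η f x hx⟩

end Groth.Agent.Helper6.EtaLoc
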