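import Mathlib
import Groth.Agent.Helper6.EtaLoc

set_option autoImplicit false

universe u

namespace Groth.Agent.Helper6.EtaProd

open EtaPt EtaPt.FieldEndo Groth.Agent.Helper6.EtaBasic Groth.Agent.Helper6.EtaDom
  Groth.Agent.Helper6.EtaSpec Groth.Agent.Helper6.EtaPrime Groth.Agent.Helper6.EtaBij
  Groth.Agent.Helper6.EtaRel Groth.Agent.Helper6.EtaLift Groth.Agent.Helper6.EtaUniq
  Groth.Agent.Helper6.EtaVal Groth.Agent.Helper6.EtaLoc

variable (η : FieldEndo.{u}) {A B C : Type u} [CommRing A] [CommRing B] [CommRing C]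

theorem residueField_map_surjective_of_surjective (f : A →+* B) (hf : Function.Surjective f)
    (Q : PrimeSpectrum B) :
    Function.Surjective (Ideal.ResidueField.map (PrimeSpectrum.comap f Q).asIdeal
      Q.asIdeal f rfl) := by
  set ρ := Ideal.ResidueField.map (PrimeSpectrum.comap f Q).asIdeal Q.asIdeal f rfl with hρ
  have hρa : ∀ a, ρ (algebraMap A _ a) = algebraMap B Q.asIdeal.ResidueField (f a) :=
    fun a => Ideal.ResidueField.map_algebraMap _ _ f rfl a
  intro z
  obtain ⟨x, y, -, rfl⟩ := IsFractionRing.div_surjective (A := B ⧸ Q.asIdeal) z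
  obtain ⟨b, rfl⟩ := Ideal.Quotient.mk_surjective x
  obtain ⟨s, rfl⟩ := Ideal.Quotient.mk_surjective y
  obtain ⟨a, rfl⟩ := hf b
  obtain ⟨a', rfl⟩ := hf s
  refine ⟨algebraMap A _ a / algebraMap A _ a', ?_⟩
  rw [map_div₀, hρa, hρa]
  rfl

/-- gluing along two maps whose spectra are disjoint and injective. -/
theorem exists_Nmap_eq_of_disjoint (f₁ : C →+* A) (f₂ : C →+* B)
    (h₁ : Function.Injective (PrimeSpectrum.comap f₁)) (h₂ : Function.Injective (PrimeSpectrum.comap f₂))
    (hd : ∀ p q, PrimeSpectrum.comap f₁ p ≠ PrimeSpectrum.comap f₂ q)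
    (hm₁ : ∀ p : PrimeSpectrum A, Function.Surjective
      (η.map (Ideal.ResidueField.map (PrimeSpectrum.comap f₁ p).asIdeal p.asIdeal f₁ rfl)))
    (hm₂ : ∀ q : PrimeSpectrum B, Function.Surjective
      (η.map (Ideal.ResidueField.map (PrimeSpectrum.comap f₂ q).asIdeal q.asIdeal f₂ rfl)))
    (a : η.N A) (b : η.N B) : ∃ x : η.N C, η.Nmap f₁ x = a ∧ η.Nmap f₂ x = b := by
  have key : ∀ P : PrimeSpectrum C, ∃ z : η.obj P.asIdeal.ResidueField,
      (∀ (p : PrimeSpectrum A) (h : PrimeSpectrum.comap f₁ p = P),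
        η.map (Ideal.ResidueField.map P.asIdeal p.asIdeal f₁ (by rw [← h]; rfl)) z = a p) ∧
      (∀ (q : PrimeSpectrum B) (h : PrimeSpectrum.comap f₂ q = P),
        η.map (Ideal.ResidueField.map P.asIdeal q.asIdeal f₂ (by rw [← h]; rfl)) z = b q) := by
    intro P
    by_cases hp : ∃ p0, PrimeSpectrum.comap f₁ p0 = P
    · obtain ⟨p0, rfl⟩ := hp
      obtain ⟨z, hz⟩ := hm₁ p0 (a p0)
      refine ⟨z, ?_, ?_⟩
      · intro p h
        obtain rfl := h₁ h
        exact hz
      · intro q h
        exact absurd h.symm (hd p0 q)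
    · by_cases hq : ∃ q0, PrimeSpectrum.comap f₂ q0 = P
      · obtain ⟨q0, rfl⟩ := hq
        obtain ⟨z, hz⟩ := hm₂ q0 (b q0)
        refine ⟨z, ?_, ?_⟩
        · intro p h
          exact absurd h (hd p q0)
        · intro q h
          obtain rfl := h₂ h
          exact hz
      · exact ⟨0, fun p h => absurd ⟨p, h⟩ hp, fun q h => absurd ⟨q, h⟩ hq⟩
  choose x hx using key
  refine ⟨x, ?_, ?_⟩
  · funext p
    rw [Nmap_apply]
    exact (hx _).1 p rfl
  · funext q
    rw [Nmap_apply]
    exact (hx _).2 q rfl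

theorem exists_comap_fst_or_snd (P : PrimeSpectrum (A × B)) :
    (∃ p, PrimeSpectrum.comap (RingHom.fst A B) p = P) ∨
      (∃ q, PrimeSpectrum.comap (RingHom.snd A B) q = P) := by
  rcases (Ideal.ideal_prod_prime P.asIdeal).mp P.isPrime with ⟨p, hp, h⟩ | ⟨q, hq, h⟩
  · left
    refine ⟨⟨p, hp⟩, PrimeSpectrum.ext ?_⟩
    rw [h]
    ext ⟨a, b⟩
    simp [Ideal.mem_prod]
  · right
    refine ⟨⟨q, hq⟩, PrimeSpectrum.ext ?_⟩
    rw [h]
    ext ⟨a, b⟩
    simp [Ideal.mem_prod]

theorem comap_fst_ne_comap_snd (p : PrimeSpectrum A) (q : PrimeSpectrum B) :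
    PrimeSpectrum.comap (RingHom.fst A B) p ≠ PrimeSpectrum.comap (RingHom.snd A B) q := by
  intro h
  have h1 : ((1 : A), (0 : B)) ∈ (PrimeSpectrum.comap (RingHom.snd A B) q).asIdeal := by
    change (0 : B) ∈ q.asIdeal
    exact zero_mem _
  rw [← h] at h1
  have h2 : (1 : A) ∈ p.asIdeal := h1
  exact p.isPrime.ne_top ((Ideal.eq_top_iff_one _).mpr h2)

/-- a ring map from a product to a domain factors through one of the projections. -/
theorem exists_factor_fst_or_snd {R : Type u} [CommRing R] [IsDomain R] (g : A × B →+* R) :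
    (∃ g₁ : A →+* R, g = g₁.comp (RingHom.fst A B)) ∨
      (∃ g₂ : B →+* R, g = g₂.comp (RingHom.snd A B)) := by
  have he : g (1, 0) * g (0, 1) = 0 := by
    rw [← map_mul]
    have : ((1 : A), (0 : B)) * ((0 : A), (1 : B)) = 0 := by ext <;> simp
    rw [this, map_zero]
  have hsum : g (1, 0) + g (0, 1) = 1 := by
    rw [← map_add]
    have : ((1 : A), (0 : B)) + ((0 : A), (1 : B)) = 1 := by ext <;> simp
    rw [this, map_one]
  rcases mul_eq_zero.mp he with h0 | h0
  · right
    have h1 : g (0, 1) = 1 := by rw [h0, zero_add] at hsum; exact hsum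
    refine ⟨{ toFun := fun b => g (0, b)
              map_one' := h1
              map_mul' := fun b b' => by rw [← map_mul]; simp
              map_zero' := by
                have : ((0 : A), (0 : B)) = 0 := rfl
                rw [this, map_zero]
              map_add' := fun b b' => by rw [← map_add]; simp }, ?_⟩
    ext ⟨a, b⟩
    change g (a, b) = g (0, b)
    have : ((a, b) : A × B) = (a, 0) * (1, 0) + (0, b) := by simp
    rw [this, map_add, map_mul, h0, mul_zero, zero_add]
  · left
    have h1 : g (1, 0) = 1 := by rw [h0, add_zero] at hsum; exact hsum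
    refine ⟨{ toFun := fun a => g (a, 0)
              map_one' := h1
              map_mul' := fun a a' => by rw [← map_mul]; simp
              map_zero' := by
                have : ((0 : A), (0 : B)) = 0 := rfl
                rw [this, map_zero]
              map_add' := fun a a' => by rw [← map_add]; simp }, ?_⟩
    ext ⟨a, b⟩
    change g (a, b) = g (a, 0)
    have : ((a, b) : A × B) = (a, 0) + (0, b) * (0, 1) := by simp
    rw [this, map_add, map_mul, h0, mul_zero, add_zero]

/-- **S13810** -/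
theorem bijOn_M_prod (A B : Type u) [CommRing A] [CommRing B] :
    Set.BijOn (fun x : η.N (A × B) => (η.Nmap (RingHom.fst A B) x, η.Nmap (RingHom.snd A B) x))
      (η.M (A × B)) ((η.M A : Set (η.N A)) ×ˢ (η.M B : Set (η.N B))) := by
  refine ⟨?_, ?_, ?_⟩
  · intro x hx
    exact ⟨Nmap_mem_M η _ hx, Nmap_mem_M η _ hx⟩
  · intro x _ x' _ h
    have h1 : η.Nmap (RingHom.fst A B) x = η.Nmap (RingHom.fst A B) x' := congrArg Prod.fst h
    have h2 : η.Nmap (RingHom.snd A B) x = η.Nmap (RingHom.snd A B) x' := congrArg Prod.snd h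
    funext P
    rcases exists_comap_fst_or_snd P with ⟨p, rfl⟩ | ⟨q, rfl⟩
    · have := congrFun h1 p
      rw [Nmap_apply, Nmap_apply] at this
      exact (η.map _).injective this
    · have := congrFun h2 q
      rw [Nmap_apply, Nmap_apply] at this
      exact (η.map _).injective this
  · rintro ⟨a, b⟩ ⟨ha, hb⟩
    have hfs : Function.Surjective (RingHom.fst A B) := fun a => ⟨(a, 0), rfl⟩
    have hss : Function.Surjective (RingHom.snd A B) := fun b => ⟨(0, b), rfl⟩
    obtain ⟨x, hxa, hxb⟩ := exists_Nmap_eq_of_disjoint η (RingHom.fst A B) (RingHom.snd A B)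
      (PrimeSpectrum.comap_injective_of_surjective _ hfs)
      (PrimeSpectrum.comap_injective_of_surjective _ hss)
      comap_fst_ne_comap_snd
      (fun p => map_surjective_of_surjective η _ (residueField_map_surjective_of_surjective _ hfs p))
      (fun q => map_surjective_of_surjective η _ (residueField_map_surjective_of_surjective _ hss q))
      a b
    refine ⟨x, ?_, by change (_, _) = _; rw [hxa, hxb]⟩
    intro R _ _ _ hR g
    rcases exists_factor_fst_or_snd g with ⟨g₁, rfl⟩ | ⟨g₂, rfl⟩
    · rw [Nmap_comp_apply, hxa]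
      exact ha R hR g₁
    · rw [Nmap_comp_apply, hxb]
      exact hb R hR g₂

end Groth.Agent.Helper6.EtaProd
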