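import Mathlib
import Groth.Prelude.Def_EGA4b
import Groth.Agent.Helper6.EtaProd

set_option autoImplicit false

universe u

namespace Groth.Agent.Helper6.EtaNormal

open EtaPt EtaPt.FieldEndo Groth.Agent.Helper6.EtaBasic Groth.Agent.Helper6.EtaDom
  Groth.Agent.Helper6.EtaSpec Groth.Agent.Helper6.EtaPrime Groth.Agent.Helper6.EtaBij
  Groth.Agent.Helper6.EtaRel Groth.Agent.Helper6.EtaLift Groth.Agent.Helper6.EtaUniq
  Groth.Agent.Helper6.EtaVal Groth.Agent.Helper6.EtaLoc

variable (η : FieldEndo.{u}) {A : Type u} [CommRing A]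

/-- the conductor-type ideal of `y ∈ N A`. -/
def cond (y : η.N A) : Ideal A where
  carrier := {s | η.t A s * y ∈ (η.t A).range}
  zero_mem' := ⟨0, by simp⟩
  add_mem' := by
    rintro s s' ⟨a, ha⟩ ⟨a', ha'⟩
    exact ⟨a + a', by rw [map_add, map_add, add_mul, ha, ha']⟩
  smul_mem' := by
    rintro c s ⟨a, ha⟩
    exact ⟨c * a, by rw [smul_eq_mul, map_mul, map_mul, mul_assoc, ha]⟩

theorem mem_cond (y : η.N A) (s : A) : s ∈ cond η y ↔ ∃ a, η.t A a = η.t A s * y := Iff.rfl

theorem reduced_of_normal (hn : EGA4.IsNormalRing A) : IsReduced A := by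
  constructor
  intro x hx
  apply eq_zero_of_localization
  intro J hJ
  haveI := (hn J).1
  exact (hx.map (algebraMap A (Localization.AtPrime J))).eq_zero

/-- **S13827** -/
theorem q_bijective_of_normal (hn : EGA4.IsNormalRing A) (hA : (minimalPrimes A).Finite)
    (hη : ∀ p : PrimeSpectrum A, p.asIdeal ∈ minimalPrimes A →
      Function.Bijective (η.eta p.asIdeal.ResidueField)) :
    Function.Bijective (η.q A) := by
  classical
  haveI := reduced_of_normal hn
  constructor
  · intro a b hab
    exact t_injective_of_isReduced η A (congrArg Subtype.val hab)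
  · rintro ⟨y, hy⟩
    suffices h1 : cond η y = ⊤ by
      have : (1 : A) ∈ cond η y := by rw [h1]; trivial
      obtain ⟨a, ha⟩ := this
      rw [map_one, one_mul] at ha
      exact ⟨a, Subtype.ext ha⟩
    by_contra hne
    obtain ⟨𝔪, h𝔪, hle⟩ := Ideal.exists_le_maximal _ hne
    haveI : 𝔪.IsPrime := h𝔪.isPrime
    haveI := (hn 𝔪).1
    haveI := (hn 𝔪).2
    set L := Localization.AtPrime 𝔪 with hL
    -- the minimal prime inside `𝔪`
    let P' : PrimeSpectrum A := PrimeSpectrum.comap (algebraMap A L) (gen L)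
    have hP'min : P'.asIdeal ∈ minimalPrimes A := by
      have h2 := IsLocalization.minimalPrimes_map 𝔪.primeCompl L (⊥ : Ideal A)
      rw [Ideal.map_bot] at h2
      have h3 : (⊥ : Ideal L) ∈ (⊥ : Ideal L).minimalPrimes := by
        change (⊥ : Ideal L) ∈ minimalPrimes L
        rw [IsDomain.minimalPrimes_eq_singleton_bot]; rfl
      rw [h2] at h3
      exact h3
    -- `InV L`
    have hInV : η.InV L := by
      rw [inV_iff η L (gen L).asIdeal.ResidueField]
      have hsurj := residueField_map_surjective_of_isLocalization (A := A) (B := L) 𝔪.primeCompl (gen L)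
      let e : P'.asIdeal.ResidueField ≃+* (gen L).asIdeal.ResidueField :=
        RingEquiv.ofBijective _ ⟨RingHom.injective _, hsurj⟩
      exact eta_bijective_of_ringEquiv η e (hη P' hP'min)
    obtain ⟨l, hl⟩ := (q_bijective_of_isIntegrallyClosed η L hInV).2
      ⟨η.Nmap (algebraMap A L) y, Nmap_mem_M η _ hy⟩
    have hl' : η.t L l = η.Nmap (algebraMap A L) y := congrArg Subtype.val hl
    obtain ⟨⟨a, s⟩, hls⟩ := IsLocalization.surj 𝔪.primeCompl l
    -- z
    have hzM : η.t A s * y - η.t A a ∈ η.M A :=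
      Subring.sub_mem _ (Subring.mul_mem _ (η.t_mem_M A s) hy) (η.t_mem_M A a)
    have hz0 : η.Nmap (algebraMap A L) (η.t A s * y - η.t A a) = 0 := by
      rw [map_sub, map_mul, Nmap_t, Nmap_t, ← hl', ← map_mul, mul_comm, hls, sub_self]
    have hzP' : (η.t A s * y - η.t A a) P' = 0 := by
      have := congrFun hz0 (gen L)
      rw [Nmap_apply, Pi.zero_apply, map_eq_zero] at this
      exact this
    -- other minimal primes
    let S' : Finset (Ideal A) := hA.toFinset.erase P'.asIdeal
    have hS' : ¬ (S'.inf id ≤ 𝔪) := by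
      rw [Ideal.IsPrime.inf_le' (inferInstance : 𝔪.IsPrime)]
      rintro ⟨Pj, hPj, hle'⟩
      rw [Finset.mem_erase, Set.Finite.mem_toFinset] at hPj
      obtain ⟨hne', hPjmin⟩ := hPj
      apply hne'
      haveI : Pj.IsPrime := hPjmin.1.1
      -- `Pj ⊆ 𝔪` so `Pj` comes from a prime of `L`, which contains `⊥`
      have hdisj : Disjoint (𝔪.primeCompl : Set A) (Pj : Set A) := by
        rw [Set.disjoint_left]
        intro x hx hxP
        exact hx (hle' hxP)
      have hrange : (⟨Pj, inferInstance⟩ : PrimeSpectrum A) ∈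
          Set.range (PrimeSpectrum.comap (algebraMap A L)) := by
        rw [PrimeSpectrum.localization_comap_range L 𝔪.primeCompl]
        exact hdisj
      obtain ⟨Qj, hQj⟩ := hrange
      have hle2 : P'.asIdeal ≤ Pj := by
        have : Pj = (PrimeSpectrum.comap (algebraMap A L) Qj).asIdeal := by rw [hQj]
        rw [this]
        exact Ideal.comap_mono bot_le
      exact (hPjmin.2 ⟨P'.isPrime, bot_le⟩ hle2).antisymm hle2 |>.symm ▸ rfl
    obtain ⟨s', hs'inf, hs'𝔪⟩ := SetLike.not_le_iff_exists.mp hS'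
    have hs'mem : ∀ Pj ∈ minimalPrimes A, Pj ≠ P'.asIdeal → s' ∈ Pj := by
      intro Pj hPj hne'
      have : S'.inf id ≤ Pj := Finset.inf_le (f := id) (by
        rw [Finset.mem_erase, Set.Finite.mem_toFinset]; exact ⟨hne', hPj⟩)
      exact this hs'inf
    have hkey : η.t A s' * (η.t A s * y - η.t A a) = 0 := by
      apply eq_zero_of_minimal η (Subring.mul_mem _ (η.t_mem_M A s') hzM)
      intro Pj hPj
      haveI : Pj.IsPrime := hPj.1.1
      change η.t A s' _ * (η.t A s * y - η.t A a) _ = 0
      by_cases hne' : Pj = P'.asIdeal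
      · have : (⟨Pj, hPj.1.1⟩ : PrimeSpectrum A) = P' := PrimeSpectrum.ext hne'
        rw [this, hzP', mul_zero]
      · have : η.t A s' ⟨Pj, hPj.1.1⟩ = 0 := by
          rw [t_apply, (Ideal.algebraMap_residueField_eq_zero).mpr (hs'mem Pj hPj hne'), map_zero]
        rw [this, zero_mul]
    have hmem : s' * s ∈ cond η y := by
      refine ⟨s' * a, ?_⟩
      rw [mul_sub, sub_eq_zero] at hkey
      rw [map_mul, map_mul, mul_assoc, hkey]
    have := hle hmem
    rcases (inferInstance : 𝔪.IsPrime).mem_or_mem this with h | h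
    · exact hs'𝔪 h
    · exact s.2 h

end Groth.Agent.Helper6.EtaNormal
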