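import Mathlib
import Groth.Agent.Helper6.EtaNormal

set_option autoImplicit false

universe u

namespace Groth.Agent.Helper6.EtaAway

open EtaPt EtaPt.FieldEndo Groth.Agent.Helper6.EtaBasic Groth.Agent.Helper6.EtaDom
  Groth.Agent.Helper6.EtaSpec Groth.Agent.Helper6.EtaPrime Groth.Agent.Helper6.EtaBij
  Groth.Agent.Helper6.EtaRel Groth.Agent.Helper6.EtaLift Groth.Agent.Helper6.EtaUniq
  Groth.Agent.Helper6.EtaVal Groth.Agent.Helper6.EtaLoc

variable (η : FieldEndo.{u})

section ValLoc

variable (R : Type u) [CommRing R] [IsDomain R] [ValuationRing R] (r : R) (hr : r ≠ 0)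

include hr in
theorem isDomain_away : IsDomain (Localization.Away r) :=
  IsLocalization.isDomain_localization (powers_le_nonZeroDivisors_of_noZeroDivisors hr)

theorem preValuationRing_away : PreValuationRing (Localization.Away r) := by
  constructor
  intro x y
  obtain ⟨a, s, rfl⟩ := IsLocalization.exists_mk'_eq (Submonoid.powers r) x
  obtain ⟨b, t, rfl⟩ := IsLocalization.exists_mk'_eq (Submonoid.powers r) y
  obtain ⟨c, hc | hc⟩ := ValuationRing.cond a b
  · refine ⟨IsLocalization.mk' _ (c * s) t, Or.inl ?_⟩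
    rw [← IsLocalization.mk'_mul, IsLocalization.mk'_eq_iff_eq]
    congr 1
    rw [← hc]
    simp only [Submonoid.coe_mul]
    ring
  · refine ⟨IsLocalization.mk' _ (c * t) s, Or.inr ?_⟩
    rw [← IsLocalization.mk'_mul, IsLocalization.mk'_eq_iff_eq]
    congr 1
    rw [← hc]
    simp only [Submonoid.coe_mul]
    ring

include hr in
theorem inV_away (hR : η.InV R) :
    letI := isDomain_away R r hr
    η.InV (Localization.Away r) := by
  letI := isDomain_away R r hr
  have hK := inV_generic η R hR
  set L := Localization.Away r with hL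
  let P' : PrimeSpectrum R := PrimeSpectrum.comap (algebraMap R L) (gen L)
  have hP' : P' = gen R := by
    apply PrimeSpectrum.ext
    change Ideal.comap _ ⊥ = ⊥
    rw [← RingHom.ker_eq_comap_bot, (RingHom.injective_iff_ker_eq_bot _).mp
      (IsLocalization.injective L (powers_le_nonZeroDivisors_of_noZeroDivisors hr))]
  have h : ∀ P : PrimeSpectrum R, P = gen R → Function.Bijective (η.eta P.asIdeal.ResidueField) := by
    rintro _ rfl; exact hK
  rw [inV_iff η L (gen L).asIdeal.ResidueField]
  have hsurj := residueField_map_surjective_of_isLocalization (A := R) (B := L) (Submonoid.powers r) (gen L)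
  let e : P'.asIdeal.ResidueField ≃+* (gen L).asIdeal.ResidueField :=
    RingEquiv.ofBijective _ ⟨RingHom.injective _, hsurj⟩
  exact eta_bijective_of_ringEquiv η e (h P' hP')

end ValLoc

variable {A : Type u} [CommRing A]

theorem minimalPrimes_away_finite (hA : (minimalPrimes A).Finite) (f : A) :
    (minimalPrimes (Localization.Away f)).Finite := by
  have h2 := IsLocalization.minimalPrimes_map (Submonoid.powers f) (Localization.Away f) (⊥ : Ideal A)
  rw [Ideal.map_bot] at h2
  change ((⊥ : Ideal (Localization.Away f)).minimalPrimes).Finite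
  rw [h2]
  apply Set.Finite.preimage _ hA
  intro P _ Q _ h
  rw [← IsLocalization.map_under (Submonoid.powers f) (Localization.Away f) P,
    ← IsLocalization.map_under (Submonoid.powers f) (Localization.Away f) Q]
  exact congrArg (Ideal.map (algebraMap A (Localization.Away f))) h

theorem awayMap_comp {B : Type u} [CommRing B] (φ : A →+* B) (f : A) :
    (Localization.awayMap φ f).comp (algebraMap A (Localization.Away f)) =
      (algebraMap B (Localization.Away (φ f))).comp φ :=
  IsLocalization.map_comp _

/-- an element of `Localization.Away r` (for a valuation ring `R`, `r ≠ 0`) integral over `R`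
comes from `R`. -/
theorem mem_range_of_isIntegral_away (R : Type u) [CommRing R] [IsDomain R] [ValuationRing R] (r : R)
    (hr : r ≠ 0) (w : Localization.Away r) (hw : IsIntegral R w) :
    ∃ ρ₀ : R, algebraMap R (Localization.Away r) ρ₀ = w := by
  set K := (gen R).asIdeal.ResidueField with hK
  have hu : IsUnit (algebraMap R K r) := by
    rw [isUnit_iff_ne_zero]
    intro h0
    exact hr ((IsFractionRing.injective R K) (by rw [h0, map_zero]))
  let ι : Localization.Away r →+* K := IsLocalization.Away.lift r hu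
  have hι : ∀ a, ι (algebraMap R _ a) = algebraMap R K a := fun a => IsLocalization.Away.lift_eq r hu a
  have hιinj : Function.Injective ι := by
    rw [injective_iff_map_eq_zero]
    intro x hx
    obtain ⟨a, s, rfl⟩ := IsLocalization.exists_mk'_eq (Submonoid.powers r) x
    have h1 : ι (IsLocalization.mk' (Localization.Away r) a s) * ι (algebraMap R _ (s : R)) =
        ι (algebraMap R _ a) := by
      rw [← map_mul, IsLocalization.mk'_spec]
    rw [hx, zero_mul, hι] at h1
    have ha : a = 0 := (IsFractionRing.injective R K) (by rw [← h1, map_zero])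
    rw [ha, IsLocalization.mk'_zero]
  have hint : IsIntegral R (ι w) := by
    obtain ⟨P, hPm, hP⟩ := hw
    refine ⟨P, hPm, ?_⟩
    have h2 : algebraMap R K = ι.comp (algebraMap R (Localization.Away r)) := by
      ext a; exact (hι a).symm
    rw [h2, ← Polynomial.hom_eval₂, hP, map_zero]
  obtain ⟨ρ₀, hρ₀⟩ := IsIntegrallyClosed.algebraMap_eq_of_integral hint
  exact ⟨ρ₀, hιinj (by rw [hι, hρ₀])⟩

/-- **S13825**, first part. -/
theorem M_away (hA : (minimalPrimes A).Finite) (f : A) (y : η.N (Localization.Away f))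
    (hy : y ∈ η.M (Localization.Away f)) :
    ∃ x ∈ η.M A, ∃ n : ℕ, y * η.t (Localization.Away f) (algebraMap A (Localization.Away f) f) ^ n =
      η.Nmap (algebraMap A (Localization.Away f)) x := by
  set L := Localization.Away f with hL
  obtain ⟨x₀, hx₀⟩ := Nmap_surjective_of_isLocalization η (B := L) (Submonoid.powers f) y
  -- integrality
  letI : Algebra L (η.N L) := (η.t L).toAlgebra
  letI : Algebra A (η.N L) := ((η.t L).comp (algebraMap A L)).toAlgebra
  haveI : IsScalarTower A L (η.N L) := IsScalarTower.of_algebraMap_eq (fun _ => rfl)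
  have hyint : IsIntegral L y := exists_monic_eval₂_eq_zero η (minimalPrimes_away_finite hA f) hy
  obtain ⟨⟨_, k, rfl⟩, Q, hQm, hQ⟩ :=
    IsIntegral.exists_multiple_integral_of_isLocalization (Submonoid.powers f) y hyint
  have hsmul : (⟨f ^ k, k, rfl⟩ : Submonoid.powers f) • y = η.t L (algebraMap A L (f ^ k)) * y := rfl
  rw [hsmul] at hQ
  have hQ' : Q.eval₂ ((η.t L).comp (algebraMap A L)) (η.t L (algebraMap A L (f ^ k)) * y) = 0 := hQ
  refine ⟨η.t A f ^ (k + 2) * x₀, ?_, k + 2, ?_⟩
  swap
  · rw [map_mul, map_pow, Nmap_t, hx₀, mul_comm]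
  intro R _ _ _ hR g
  by_cases hr : g f = 0
  · refine ⟨0, ?_⟩
    rw [map_mul, map_pow, Nmap_t, hr, map_zero, zero_pow (by omega), zero_mul]
  set r := g f with hrdef
  haveI : IsDomain (Localization.Away r) := isDomain_away R r hr
  haveI : ValuationRing (Localization.Away r) := { toPreValuationRing := preValuationRing_away R r }
  have hInV : η.InV (Localization.Away r) := inV_away η R r hr hR
  let g' : L →+* Localization.Away r := Localization.awayMap g f
  have hcomm : g'.comp (algebraMap A L) = (algebraMap R (Localization.Away r)).comp g :=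
    awayMap_comp g f
  have hcomm' : ∀ a, g' (algebraMap A L a) = algebraMap R _ (g a) :=
    fun a => congrArg (fun φ => φ a) hcomm
  obtain ⟨s, hs⟩ := hy (Localization.Away r) hInV g'
  -- `w = r^k s` is integral over `R`
  set w := algebraMap R (Localization.Away r) (r ^ k) * s with hw
  have htinj := t_injective_of_isReduced η (Localization.Away r)
  have hwint : IsIntegral R w := by
    refine ⟨Q.map g, hQm.map g, ?_⟩
    rw [Polynomial.eval₂_map]
    apply htinj
    rw [map_zero, Polynomial.hom_eval₂]
    have h1 := congrArg (η.Nmap g') hQ'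
    rw [map_zero, Polynomial.hom_eval₂, map_mul, Nmap_t, hcomm', ← hs, ← map_mul, map_pow] at h1
    have h2 : (η.Nmap g').comp ((η.t L).comp (algebraMap A L)) =
        (η.t (Localization.Away r)).comp ((algebraMap R (Localization.Away r)).comp g) := by
      ext a : 1
      simp only [RingHom.comp_apply]
      rw [Nmap_t, hcomm']
    rw [h2] at h1
    exact h1
  obtain ⟨ρ₀, hρ₀⟩ := mem_range_of_isIntegral_away R r hr w hwint
  refine ⟨ρ₀ * r ^ 2, ?_⟩
  -- the difference `u`
  have hu : η.Nmap (algebraMap R (Localization.Away r))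
      (η.Nmap g (η.t A f ^ (k + 1) * x₀) - η.t R (ρ₀ * r)) = 0 := by
    rw [map_sub, ← Nmap_comp_apply, ← hcomm, Nmap_comp_apply, map_mul, map_pow, Nmap_t, hx₀,
      map_mul, map_pow, Nmap_t, hcomm', ← hs, Nmap_t, ← map_pow, ← map_mul, map_mul (algebraMap R _),
      hρ₀, hw, sub_eq_zero]
    congr 1
    simp only [← hrdef, map_pow]
    ring
  have hu' := t_mul_eq_zero_of_Nmap_away η (B := Localization.Away r) r _ hu
  rw [mul_sub, sub_eq_zero] at hu'
  have e1 : η.Nmap g (η.t A f ^ (k + 2) * x₀) = η.t R r * η.Nmap g (η.t A f ^ (k + 1) * x₀) := by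
    rw [pow_succ' (η.t A f) (k + 1), mul_assoc, map_mul, Nmap_t]
  rw [e1, hu', ← map_mul]
  congr 1
  ring

/-- **S13829** -/
theorem rel_away {B : Type u} [CommRing B] (hA : (minimalPrimes A).Finite) (φ : A →+* B) (f : A) :
    (η.rel φ).map (algebraMap B (Localization.Away (φ f))) ≤ η.rel (Localization.awayMap φ f) ∧
      ∀ y ∈ η.rel (Localization.awayMap φ f), ∃ x ∈ η.rel φ, ∃ n : ℕ,
        y * algebraMap B (Localization.Away (φ f)) (φ f) ^ n =
          algebraMap B (Localization.Away (φ f)) x := by
  have hcomm := awayMap_comp φ f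
  constructor
  · rintro _ ⟨b, hb, rfl⟩
    have hb' : b ∈ η.rel φ := hb
    rw [mem_rel_iff] at hb' ⊢
    obtain ⟨x, hx, hxb⟩ := hb'
    refine ⟨η.Nmap (algebraMap A (Localization.Away f)) x, Nmap_mem_M η _ hx, ?_⟩
    rw [← Nmap_comp_apply, hcomm, Nmap_comp_apply, hxb, Nmap_t]
  · intro y hy
    rw [mem_rel_iff] at hy
    obtain ⟨z, hz, hzy⟩ := hy
    obtain ⟨x, hx, n, hxz⟩ := M_away η hA f z hz
    obtain ⟨b, ⟨_, j, rfl⟩, hyb⟩ := IsLocalization.exists_mk'_eq (Submonoid.powers (φ f)) y
    have hyb' : y * algebraMap B (Localization.Away (φ f)) (φ f) ^ j = algebraMap B _ b := by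
      rw [← hyb, ← map_pow]
      exact IsLocalization.mk'_spec _ _ _
    -- the difference vanishes after localization
    have h1 : Localization.awayMap φ f (algebraMap A _ f) = algebraMap B _ (φ f) :=
      congrArg (fun ψ => ψ f) hcomm
    have e1 : η.Nmap (algebraMap B (Localization.Away (φ f))) (η.t B (b * φ f ^ n)) =
        η.t _ (y * algebraMap B _ (φ f) ^ (j + n)) := by
      rw [Nmap_t, map_mul, ← hyb', map_pow, pow_add, mul_assoc]
    have e2 : η.Nmap (algebraMap B (Localization.Away (φ f))) (η.Nmap φ (x * η.t A f ^ j)) =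
        η.t _ (y * algebraMap B _ (φ f) ^ (j + n)) := by
      rw [← Nmap_comp_apply, ← hcomm, Nmap_comp_apply,
        map_mul (η.Nmap (algebraMap A (Localization.Away f))), ← hxz,
        map_pow (η.Nmap (algebraMap A (Localization.Away f))), Nmap_t]
      rw [map_mul, map_mul, hzy, map_pow, map_pow, Nmap_t, h1,
        map_mul (η.t (Localization.Away (φ f))) y, map_pow (η.t (Localization.Away (φ f))), pow_add]
      ring
    have h0 : η.Nmap (algebraMap B (Localization.Away (φ f)))
        (η.t B (b * φ f ^ n) - η.Nmap φ (x * η.t A f ^ j)) = 0 := by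
      rw [map_sub, e1, e2, sub_self]
    have h2 := t_mul_eq_zero_of_Nmap_away η (B := Localization.Away (φ f)) (φ f) _ h0
    rw [mul_sub, sub_eq_zero] at h2
    refine ⟨b * φ f ^ (n + 1), ?_, j + (n + 1), ?_⟩
    · rw [mem_rel_iff]
      refine ⟨x * η.t A f ^ (j + 1), Subring.mul_mem _ hx (Subring.pow_mem _ (η.t_mem_M A f) _), ?_⟩
      have e1 : η.t B (b * φ f ^ (n + 1)) = η.t B (φ f) * η.t B (b * φ f ^ n) := by
        rw [← map_mul]; congr 1; ring
      have e2 : η.Nmap φ (x * η.t A f ^ (j + 1)) = η.t B (φ f) * η.Nmap φ (x * η.t A f ^ j) := by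
        rw [← Nmap_t, ← map_mul]; congr 1; ring
      rw [e1, e2, h2]
    · rw [pow_add, ← mul_assoc, hyb', map_mul, map_pow]

/-- **S13825** -/
theorem M_away_full (hA : (minimalPrimes A).Finite) (f : A) :
    (∀ y ∈ η.M (Localization.Away f), ∃ x ∈ η.M A, ∃ n : ℕ,
        y * η.t (Localization.Away f) (algebraMap A (Localization.Away f) f) ^ n =
          η.Nmap (algebraMap A (Localization.Away f)) x) ∧
      ∀ x ∈ η.M A, η.Nmap (algebraMap A (Localization.Away f)) x = 0 → ∃ n : ℕ, η.t A f ^ n * x = 0 :=
  ⟨fun y hy => M_away η hA f y hy,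
    fun x _ hx => ⟨1, by rw [pow_one]; exact t_mul_eq_zero_of_Nmap_away η f x hx⟩⟩

end Groth.Agent.Helper6.EtaAway
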