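import Mathlib
import Groth.Prelude.Def_HTop2
import Groth.Agent.Helper6.EtaAway

set_option autoImplicit false
universe u
open AlgebraicGeometry CategoryTheory MorphismProperty
open Groth.Agent.Helper6.EtaBasic

namespace Groth.Agent.Helper6.EtaSN

variable {R S : CommRingCat.{u}} (φ : R ⟶ S) (x : ↥(Spec S))

set_option backward.isDefEq.respectTransparency.types false in
/-- the ring-level square for the residue field map of `Spec φ`. -/
theorem key_square :
    CommRingCat.ofHom (algebraMap R ((Spec.map φ) x).asIdeal.ResidueField) ≫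
      (Scheme.Spec.residueFieldIso R ((Spec.map φ) x)).inv ≫
        (Spec.map φ).residueFieldMap x =
    φ ≫ CommRingCat.ofHom (algebraMap S x.asIdeal.ResidueField) ≫
      (Scheme.Spec.residueFieldIso S x).inv := by
  apply Spec.map_injective
  simp only [Spec.map_comp]
  have h1 := Scheme.Hom.SpecMap_residueFieldMap_fromSpecResidueField (Spec.map φ) x
  have h2 := Scheme.Spec.map_residueFieldIso_inv_eq_fromSpecResidueField R ((Spec.map φ) x)
  have h3 := Scheme.Spec.map_residueFieldIso_inv_eq_fromSpecResidueField S x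
  rw [h3, ← h1, Category.assoc, h2]

set_option backward.isDefEq.respectTransparency.types false in
theorem isIso_residueFieldMap_iff {A B : Type u} [CommRing A] [CommRing B] (φ : A →+* B)
    (Q : PrimeSpectrum B) :
    IsIso ((Spec.map (CommRingCat.ofHom φ)).residueFieldMap Q) ↔
      Function.Bijective (Ideal.ResidueField.map (PrimeSpectrum.comap φ Q).asIdeal Q.asIdeal φ rfl) := by
  let isoA := Scheme.Spec.residueFieldIso (.of A) ((Spec.map (CommRingCat.ofHom φ)) Q)
  let isoB := Scheme.Spec.residueFieldIso (.of B) Q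
  let θc := isoA.inv ≫ (Spec.map (CommRingCat.ofHom φ)).residueFieldMap Q ≫ isoB.hom
  have hθ : θc.hom = Ideal.ResidueField.map (PrimeSpectrum.comap φ Q).asIdeal Q.asIdeal φ rfl := by
    apply residueField_hom_ext
    have h1 := key_square (CommRingCat.ofHom φ) Q
    have h2 : CommRingCat.ofHom (algebraMap A (PrimeSpectrum.comap φ Q).asIdeal.ResidueField) ≫ θc =
        CommRingCat.ofHom φ ≫ CommRingCat.ofHom (algebraMap B Q.asIdeal.ResidueField) := by
      have := congrArg (fun m => m ≫ (Scheme.Spec.residueFieldIso (.of B) Q).hom) h1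
      simp only [Category.assoc, Iso.inv_hom_id, Category.comp_id] at this
      exact this
    ext a
    have h3 := congrArg (fun m => m.hom a) h2
    simp only [CommRingCat.hom_comp, CommRingCat.hom_ofHom, RingHom.comp_apply] at h3
    exact h3.trans (Ideal.ResidueField.map_algebraMap (PrimeSpectrum.comap φ Q).asIdeal Q.asIdeal φ rfl a).symm
  have hiff : IsIso ((Spec.map (CommRingCat.ofHom φ)).residueFieldMap Q) ↔ IsIso θc := by
    constructor
    · intro h; infer_instance
    · intro h
      have : (Spec.map (CommRingCat.ofHom φ)).residueFieldMap Q = isoA.hom ≫ θc ≫ isoB.inv := by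
        simp [θc]
      rw [this]; infer_instance
  rw [hiff, ConcreteCategory.isIso_iff_bijective, ← hθ]
  rfl
theorem isPurelyInseparable_of_surjective {F E : Type*} [CommRing F] [CommRing E] (f : F →+* E)
    (h : Function.Surjective f) : f.IsPurelyInseparable := by
  letI : Algebra F E := f.toAlgebra
  change IsPurelyInseparable F E
  rw [isPurelyInseparable_iff]
  intro x
  obtain ⟨y, rfl⟩ := h x
  exact ⟨isIntegral_algebraMap, fun _ => ⟨y, rfl⟩⟩

/-- universally closed + universally injective + surjective ⇒ universal homeomorphism. -/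
theorem isUnivHomeo_of {X Y : Scheme.{u}} (f : X ⟶ Y) [h1 : UniversallyClosed f]
    [h2 : UniversallyInjective f] [h3 : Surjective f] : FlatMor.IsUnivHomeo f := by
  intro X' Y' i₁ i₂ f' H
  have hf1 : UniversallyClosed f' := MorphismProperty.of_isPullback H.flip h1
  have hf2 : UniversallyInjective f' := MorphismProperty.of_isPullback H.flip h2
  have hf3 : Surjective f' := MorphismProperty.of_isPullback H.flip h3
  exact isHomeomorph_iff_continuous_isClosedMap_bijective.mpr
    ⟨f'.continuous, f'.isClosedMap, f'.injective, hf3.1⟩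

theorem isUnivHomeo_SpecMap_of {A B : Type u} [CommRing A] [CommRing B] (φ : A →+* B)
    (hint : φ.IsIntegral) (hbij : Function.Bijective (PrimeSpectrum.comap φ))
    (hres : ∀ Q : PrimeSpectrum B, Function.Bijective
      (Ideal.ResidueField.map (PrimeSpectrum.comap φ Q).asIdeal Q.asIdeal φ rfl)) :
    FlatMor.IsUnivHomeo (Spec.map (CommRingCat.ofHom φ)) ∧
      HTop.ResidueFieldsIso (Spec.map (CommRingCat.ofHom φ)) := by
  have hiso : HTop.ResidueFieldsIso (Spec.map (CommRingCat.ofHom φ)) :=
    fun Q => (isIso_residueFieldMap_iff φ Q).mpr (hres Q)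
  refine ⟨?_, hiso⟩
  haveI : IsIntegralHom (Spec.map (CommRingCat.ofHom φ)) := IsIntegralHom.SpecMap_iff.mpr hint
  haveI : UniversallyInjective (Spec.map (CommRingCat.ofHom φ)) := by
    apply ((tfae_universallyInjective (Spec.map (CommRingCat.ofHom φ))).out 0 2).mpr
    refine ⟨hbij.1, fun x => ?_⟩
    apply isPurelyInseparable_of_surjective
    exact ((ConcreteCategory.isIso_iff_bijective _).mp (hiso x)).2
  haveI : Surjective (Spec.map (CommRingCat.ofHom φ)) := ⟨hbij.2⟩
  exact isUnivHomeo_of _

theorem of_isUnivHomeo_SpecMap {A B : Type u} [CommRing A] [CommRing B] (φ : A →+* B)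
    (h1 : FlatMor.IsUnivHomeo (Spec.map (CommRingCat.ofHom φ)))
    (h2 : HTop.ResidueFieldsIso (Spec.map (CommRingCat.ofHom φ))) :
    φ.IsIntegral ∧ Function.Bijective (PrimeSpectrum.comap φ) ∧
      ∀ Q : PrimeSpectrum B, Function.Bijective
        (Ideal.ResidueField.map (PrimeSpectrum.comap φ Q).asIdeal Q.asIdeal φ rfl) := by
  refine ⟨?_, ?_, fun Q => (isIso_residueFieldMap_iff φ Q).mp (h2 Q)⟩
  · have huc : UniversallyClosed (Spec.map (CommRingCat.ofHom φ)) :=
      ⟨fun X' Y' i₁ i₂ f' H => (h1 i₁ i₂ f' H).isClosedMap⟩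
    have : IsIntegralHom (Spec.map (CommRingCat.ofHom φ)) :=
      IsIntegralHom.iff_universallyClosed_and_isAffineHom.mpr ⟨huc, inferInstance⟩
    exact IsIntegralHom.SpecMap_iff.mp this
  · exact (h1 (𝟙 _) (𝟙 _) _ IsPullback.of_id_snd).bijective

open EtaPt EtaPt.FieldEndo Groth.Agent.Helper6.EtaBasic Groth.Agent.Helper6.EtaDom
  Groth.Agent.Helper6.EtaSpec Groth.Agent.Helper6.EtaPrime Groth.Agent.Helper6.EtaBij
  Groth.Agent.Helper6.EtaRel Groth.Agent.Helper6.EtaLift Groth.Agent.Helper6.EtaUniq
  Groth.Agent.Helper6.EtaRel2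

/-- for the identity endofunctor, `N ψ` is bijective as soon as `Spec ψ` is a universal homeomorphism
with trivial residue field extensions. -/
theorem Nmap_ident_bijective_of {A C : Type u} [CommRing A] [CommRing C] (ψ : A →+* C)
    (h1 : FlatMor.IsUnivHomeo (Spec.map (CommRingCat.ofHom ψ)))
    (h2 : HTop.ResidueFieldsIso (Spec.map (CommRingCat.ofHom ψ))) :
    ψ.IsIntegral ∧ Function.Bijective (FieldEndo.ident.{u}.Nmap ψ) := by
  obtain ⟨hint, hbij, hres⟩ := of_isUnivHomeo_SpecMap ψ h1 h2
  exact ⟨hint, Nmap_bijective_of FieldEndo.ident.{u} ψ hbij (fun Q => (hres Q).2)⟩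

/-- **S13826** -/
theorem isRingSN_q_ident (A : Type u) [CommRing A] (hA : (minimalPrimes A).Finite) :
    HTop.IsRingSN (FieldEndo.ident.{u}.q A) := by
  refine ⟨?_, ?_⟩
  · apply isUnivHomeo_SpecMap_of _ (q_isIntegral FieldEndo.ident.{u} hA)
      (comap_q_bijective FieldEndo.ident.{u} hA)
    intro Q
    exact map_bijective_of_factor FieldEndo.ident.{u} _ (φQ FieldEndo.ident.{u} hA Q)
      (φQ_comp FieldEndo.ident.{u} hA Q)
  · intro C _ ψ h1 h2
    obtain ⟨hint, hN⟩ := Nmap_ident_bijective_of ψ h1 h2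
    exact existsUnique_lift FieldEndo.ident.{u} ψ hint hN

/-- **S13830** -/
theorem rel_ident_isRelSN (A B : Type u) [CommRing A] [CommRing B] [Algebra A B]
    (hA : (minimalPrimes A).Finite)
    (hs : Function.Surjective (PrimeSpectrum.comap (algebraMap A B))) :
    (FlatMor.IsUnivHomeo (Spec.map (CommRingCat.ofHom (FieldEndo.ident.{u}.qRel (algebraMap A B)))) ∧
      HTop.ResidueFieldsIso (Spec.map (CommRingCat.ofHom (FieldEndo.ident.{u}.qRel (algebraMap A B))))) ∧
    ∀ C : Subalgebra A B,
      FlatMor.IsUnivHomeo (Spec.map (CommRingCat.ofHom (algebraMap A C))) →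
      HTop.ResidueFieldsIso (Spec.map (CommRingCat.ofHom (algebraMap A C))) →
      C.toSubring ≤ FieldEndo.ident.{u}.rel (algebraMap A B) := by
  refine ⟨?_, ?_⟩
  · apply isUnivHomeo_SpecMap_of _ (qRel_isIntegral FieldEndo.ident.{u} hA (algebraMap A B))
      (comap_qRel_bijective FieldEndo.ident.{u} (algebraMap A B) hs hA)
    intro Q
    exact map_bijective_of_factor FieldEndo.ident.{u} _
      (φRel FieldEndo.ident.{u} (algebraMap A B) hs hA Q)
      (φRel_comp FieldEndo.ident.{u} (algebraMap A B) hs hA Q)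
  · intro C h1 h2 c hc
    obtain ⟨hint, hN⟩ := Nmap_ident_bijective_of (algebraMap A C) h1 h2
    obtain ⟨x, hx, hxc⟩ := (bijOn_Nmap_M FieldEndo.ident.{u} (algebraMap A C) hint hN).2.2
      (FieldEndo.ident.{u}.t_mem_M C ⟨c, hc⟩)
    rw [mem_rel_iff]
    refine ⟨x, hx, ?_⟩
    have hcomp : C.val.toRingHom.comp (algebraMap A C) = algebraMap A B := by
      ext a; rfl
    rw [← hcomp, Nmap_comp_apply, hxc, Nmap_t]
    rfl

end Groth.Agent.Helper6.EtaSN
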