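import Mathlib
import Groth.Prelude.Def_HTop2
import Groth.Agent.Helper6.EtaSN

set_option autoImplicit false
universe u
open AlgebraicGeometry CategoryTheory MorphismProperty
open Groth.Agent.Helper6.EtaBasic Groth.Agent.Helper6.EtaSN

namespace Groth.Agent.Helper6.EtaSN2

set_option backward.isDefEq.respectTransparency.types false in
theorem residueFieldMap_conj {A B : Type u} [CommRing A] [CommRing B] (φ : A →+* B)
    (Q : PrimeSpectrum B) :
    ((Scheme.Spec.residueFieldIso (.of A) ((Spec.map (CommRingCat.ofHom φ)) Q)).inv ≫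
      (Spec.map (CommRingCat.ofHom φ)).residueFieldMap Q ≫
        (Scheme.Spec.residueFieldIso (.of B) Q).hom).hom =
      Ideal.ResidueField.map (PrimeSpectrum.comap φ Q).asIdeal Q.asIdeal φ rfl := by
  apply residueField_hom_ext
  have h1 := key_square (CommRingCat.ofHom φ) Q
  have h2 : CommRingCat.ofHom (algebraMap A (PrimeSpectrum.comap φ Q).asIdeal.ResidueField) ≫
      ((Scheme.Spec.residueFieldIso (.of A) ((Spec.map (CommRingCat.ofHom φ)) Q)).inv ≫
      (Spec.map (CommRingCat.ofHom φ)).residueFieldMap Q ≫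
        (Scheme.Spec.residueFieldIso (.of B) Q).hom) =
      CommRingCat.ofHom φ ≫ CommRingCat.ofHom (algebraMap B Q.asIdeal.ResidueField) := by
    have := congrArg (fun m => m ≫ (Scheme.Spec.residueFieldIso (.of B) Q).hom) h1
    simp only [Category.assoc, Iso.inv_hom_id, Category.comp_id] at this
    exact this
  ext a
  have h3 := congrArg (fun m => m.hom a) h2
  simp only [CommRingCat.hom_comp, CommRingCat.hom_ofHom, RingHom.comp_apply] at h3
  exact h3.trans (Ideal.ResidueField.map_algebraMap (PrimeSpectrum.comap φ Q).asIdeal Q.asIdeal φ rfl a).symm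

set_option backward.isDefEq.respectTransparency.types false in
/-- pure inseparability of the scheme-theoretic residue field map transfers to `Ideal.ResidueField.map`. -/
theorem isPurelyInseparable_residueField_map {A B : Type u} [CommRing A] [CommRing B] (φ : A →+* B)
    (Q : PrimeSpectrum B)
    (h : ((Spec.map (CommRingCat.ofHom φ)).residueFieldMap Q).hom.IsPurelyInseparable) :
    (Ideal.ResidueField.map (PrimeSpectrum.comap φ Q).asIdeal Q.asIdeal φ rfl).IsPurelyInseparable := by
  let isoA := Scheme.Spec.residueFieldIso (.of A) ((Spec.map (CommRingCat.ofHom φ)) Q)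
  let isoB := Scheme.Spec.residueFieldIso (.of B) Q
  have hθ := residueFieldMap_conj φ Q
  rw [← hθ]
  have h1 : (isoA.inv).hom.IsPurelyInseparable :=
    isPurelyInseparable_of_surjective _ ((ConcreteCategory.isIso_iff_bijective isoA.inv).mp inferInstance).2
  have h2 : (isoB.hom).hom.IsPurelyInseparable :=
    isPurelyInseparable_of_surjective _ ((ConcreteCategory.isIso_iff_bijective isoB.hom).mp inferInstance).2
  exact (h1.comp h).comp h2

theorem universallyInjective_of_isUnivHomeo {X Y : Scheme.{u}} {f : X ⟶ Y}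
    (hf : FlatMor.IsUnivHomeo f) : UniversallyInjective f := by
  constructor
  intro X' Y' i₁ i₂ f' H
  exact (hf i₁ i₂ f' H).injective

/-- from a universal homeomorphism `Spec φ`: `Spec φ` injective and residue maps purely inseparable. -/
theorem of_isUnivHomeo_SpecMap' {A B : Type u} [CommRing A] [CommRing B] (φ : A →+* B)
    (h1 : FlatMor.IsUnivHomeo (Spec.map (CommRingCat.ofHom φ))) :
    Function.Bijective (PrimeSpectrum.comap φ) ∧
      ∀ Q : PrimeSpectrum B,
        (Ideal.ResidueField.map (PrimeSpectrum.comap φ Q).asIdeal Q.asIdeal φ rfl).IsPurelyInseparable := by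
  refine ⟨(h1 (𝟙 _) (𝟙 _) _ IsPullback.of_id_snd).bijective, fun Q => ?_⟩
  have hui := universallyInjective_of_isUnivHomeo h1
  have h3 := ((tfae_universallyInjective (Spec.map (CommRingCat.ofHom φ))).out 0 2).mp hui
  exact isPurelyInseparable_residueField_map φ Q (h3.2 Q)

/-- **S13838** -/
theorem residueFieldsIso_of_closed (A B : Type u) [CommRing A] [CommRing B] [Algebra A B]
    (hpi : ∀ p : PrimeSpectrum A, ∃ q : PrimeSpectrum B,
      ∃ hq : p.asIdeal = Ideal.comap (algebraMap A B) q.asIdeal,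
      ∀ x : q.asIdeal.ResidueField,
        (∃ n : ℕ, x ^ ringExpChar p.asIdeal.ResidueField ^ n ∈
            Set.range (Ideal.ResidueField.map p.asIdeal q.asIdeal (algebraMap A B) hq)) →
        x ∈ Set.range (Ideal.ResidueField.map p.asIdeal q.asIdeal (algebraMap A B) hq))
    (C : Subalgebra A B) (hC : FlatMor.IsUnivHomeo (Spec.map (CommRingCat.ofHom (algebraMap A C)))) :
    HTop.ResidueFieldsIso (Spec.map (CommRingCat.ofHom (algebraMap A C))) := by
  obtain ⟨hbij, hins⟩ := of_isUnivHomeo_SpecMap' (algebraMap A C) hC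
  intro 𝔠'
  obtain ⟨𝔠, rfl⟩ : ∃ 𝔠 : PrimeSpectrum C, 𝔠 = 𝔠' := ⟨𝔠', rfl⟩
  apply (isIso_residueFieldMap_iff (algebraMap A C) 𝔠).mpr
  refine ⟨RingHom.injective _, ?_⟩
  set p : PrimeSpectrum A := PrimeSpectrum.comap (algebraMap A C) 𝔠 with hp
  obtain ⟨q, hq, hclosed⟩ := hpi p
  -- `q ∩ C = 𝔠`
  have h𝔠 : PrimeSpectrum.comap C.val.toRingHom q = 𝔠 := by
    apply hbij.1
    apply PrimeSpectrum.ext
    change Ideal.comap (algebraMap A C) (Ideal.comap C.val.toRingHom q.asIdeal) = p.asIdeal
    rw [hq, Ideal.comap_comap]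
    rfl
  have h𝔠' : 𝔠.asIdeal = q.asIdeal.comap C.val.toRingHom := by rw [← h𝔠]; rfl
  set ρ := Ideal.ResidueField.map p.asIdeal 𝔠.asIdeal (algebraMap A C) rfl with hρ
  let ρB := Ideal.ResidueField.map p.asIdeal q.asIdeal (algebraMap A B) hq
  let ρCB := Ideal.ResidueField.map 𝔠.asIdeal q.asIdeal C.val.toRingHom h𝔠'
  have hcomp : ρB = ρCB.comp ρ := by
    apply residueField_hom_ext
    ext a
    change ρB (algebraMap A _ a) = ρCB (ρ (algebraMap A _ a))
    have e1 : ρB (algebraMap A _ a) = algebraMap B _ (algebraMap A B a) :=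
      Ideal.ResidueField.map_algebraMap _ _ _ _ _
    have e2 : ρ (algebraMap A _ a) = algebraMap C _ (algebraMap A C a) :=
      Ideal.ResidueField.map_algebraMap _ _ _ _ _
    have e3 : ρCB (algebraMap C _ (algebraMap A C a)) = algebraMap B _ (C.val.toRingHom (algebraMap A C a)) :=
      Ideal.ResidueField.map_algebraMap _ _ _ _ _
    rw [e1, e2, e3]
    rfl
  intro z
  -- pure inseparability
  have hpi' := hins 𝔠
  letI : Algebra p.asIdeal.ResidueField 𝔠.asIdeal.ResidueField := ρ.toAlgebra
  haveI : IsPurelyInseparable p.asIdeal.ResidueField 𝔠.asIdeal.ResidueField := hpi'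
  haveI := ringExpChar.expChar p.asIdeal.ResidueField
  obtain ⟨n, w, hw⟩ := IsPurelyInseparable.pow_mem p.asIdeal.ResidueField
    (ringExpChar p.asIdeal.ResidueField) z
  have hw' : ρ w = z ^ ringExpChar p.asIdeal.ResidueField ^ n := hw
  obtain ⟨w', hw''⟩ := hclosed (ρCB z) ⟨n, w, by
    change ρB w = _
    rw [hcomp, RingHom.comp_apply, hw', map_pow]⟩
  refine ⟨w', ρCB.injective ?_⟩
  have : ρB w' = ρCB z := hw''
  rw [← this, hcomp]
  rfl

end Groth.Agent.Helper6.EtaSN2
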