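import Mathlib
import Groth.Prelude.Def_HTop2
import Groth.Agent.Helper6.EtaSN2

set_option autoImplicit false
universe u
open AlgebraicGeometry CategoryTheory MorphismProperty
open scoped TensorProduct
open Groth.Agent.Helper6.EtaBasic Groth.Agent.Helper6.EtaSN Groth.Agent.Helper6.EtaSN2

namespace Groth.Agent.Helper6.EtaWN

/-- ring-level criterion for universal injectivity of `Spec φ`. -/
theorem universallyInjective_SpecMap_iff {A C : Type u} [CommRing A] [CommRing C] (φ : A →+* C) :
    UniversallyInjective (Spec.map (CommRingCat.ofHom φ)) ↔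
      ∀ (K : Type u) [Field K] (h₁ h₂ : C →+* K), h₁.comp φ = h₂.comp φ → h₁ = h₂ := by
  refine ((tfae_universallyInjective (Spec.map (CommRingCat.ofHom φ))).out 0 1).trans ?_
  constructor
  · intro H K _ h₁ h₂ h
    have h3 : Spec.map (CommRingCat.ofHom h₁) ≫ Spec.map (CommRingCat.ofHom φ) =
        Spec.map (CommRingCat.ofHom h₂) ≫ Spec.map (CommRingCat.ofHom φ) := by
      rw [← Spec.map_comp, ← Spec.map_comp, ← CommRingCat.ofHom_comp, ← CommRingCat.ofHom_comp, h]
    have h4 := Spec.map_injective (H K h3)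
    exact congrArg CommRingCat.Hom.hom h4
  · intro H K _ g₁ g₂ h
    obtain ⟨ψ₁, rfl⟩ := Spec.map_surjective g₁
    obtain ⟨ψ₂, rfl⟩ := Spec.map_surjective g₂
    have h3 : CommRingCat.ofHom φ ≫ ψ₁ = CommRingCat.ofHom φ ≫ ψ₂ := by
      apply Spec.map_injective
      rw [Spec.map_comp, Spec.map_comp]
      exact h
    have h4 : ψ₁.hom.comp φ = ψ₂.hom.comp φ := congrArg CommRingCat.Hom.hom h3
    have h5 := H K ψ₁.hom ψ₂.hom h4
    congr 1
    exact CommRingCat.hom_ext h5

/-- extension of a map to a field along an integral ring map, into the algebraic closure. -/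
theorem exists_extension_algClosure {A B : Type u} [CommRing A] [CommRing B] (f : A →+* B)
    (hf : f.IsIntegral) {K : Type u} [Field K] (h : A →+* K) (Q : PrimeSpectrum B)
    (hQ : Q.asIdeal.comap f = RingHom.ker h) :
    ∃ ht : B →+* AlgebraicClosure K, ht.comp f = (algebraMap K (AlgebraicClosure K)).comp h := by
  let p : PrimeSpectrum A := ⟨RingHom.ker h, RingHom.ker_isPrime h⟩
  have hQ' : p.asIdeal = Q.asIdeal.comap f := hQ.symm
  haveI : p.asIdeal.IsPrime := p.isPrime
  let ρ := Ideal.ResidueField.map p.asIdeal Q.asIdeal f hQ'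
  let hbar : p.asIdeal.ResidueField →+* K := Ideal.ResidueField.lift p.asIdeal h le_rfl (by
    intro y hy
    simp only [Submonoid.mem_comap, IsUnit.mem_submonoid_iff, isUnit_iff_ne_zero]
    intro h0
    exact hy (RingHom.mem_ker.mpr h0))
  have hbar_alg : ∀ a, hbar (algebraMap A _ a) = h a :=
    fun a => Ideal.ResidueField.lift_algebraMap _ _ _ _ _
  letI : Algebra p.asIdeal.ResidueField Q.asIdeal.ResidueField := ρ.toAlgebra
  letI : Algebra p.asIdeal.ResidueField (AlgebraicClosure K) :=
    ((algebraMap K (AlgebraicClosure K)).comp hbar).toAlgebra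
  haveI : Algebra.IsAlgebraic p.asIdeal.ResidueField Q.asIdeal.ResidueField :=
    Groth.Agent.Helper6.EtaDesc.isAlgebraic_residueField f hf p Q hQ'
  let σ₀ : Q.asIdeal.ResidueField →ₐ[p.asIdeal.ResidueField] AlgebraicClosure K := IsAlgClosed.lift
  refine ⟨σ₀.toRingHom.comp (algebraMap B Q.asIdeal.ResidueField), ?_⟩
  ext a
  change σ₀ (algebraMap B Q.asIdeal.ResidueField (f a)) = algebraMap K (AlgebraicClosure K) (h a)
  rw [← Ideal.ResidueField.map_algebraMap p.asIdeal Q.asIdeal f hQ' a, ← hbar_alg]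
  exact σ₀.commutes (algebraMap A p.asIdeal.ResidueField a)

section WN

variable (A B : Type u) [CommRing A] [CommRing B] [Algebra A B]

/-- `δ b = b ⊗ 1 - 1 ⊗ b`. -/
def δ (b : B) : B ⊗[A] B := b ⊗ₜ[A] (1 : B) - (1 : B) ⊗ₜ[A] b

theorem δ_mul (b b' : B) : δ A B (b * b') = (b ⊗ₜ[A] (1 : B)) * δ A B b' + ((1 : B) ⊗ₜ[A] b') * δ A B b := by
  simp only [δ, mul_sub, Algebra.TensorProduct.tmul_mul_tmul, mul_one, one_mul]
  rw [mul_comm b' b]
  abel

theorem δ_add (b b' : B) : δ A B (b + b') = δ A B b + δ A B b' := by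
  simp only [δ, TensorProduct.add_tmul, TensorProduct.tmul_add]
  abel

theorem δ_algebraMap (a : A) : δ A B (algebraMap A B a) = 0 := by
  simp only [δ, Algebra.algebraMap_eq_smul_one, TensorProduct.smul_tmul, sub_self]

/-- the weak normalization of `A` in `B`. -/
def E : Subalgebra A B where
  carrier := {b | δ A B b ∈ nilradical (B ⊗[A] B)}
  mul_mem' := by
    intro b b' hb hb'
    change δ A B (b * b') ∈ nilradical (B ⊗[A] B)
    rw [δ_mul]
    exact Ideal.add_mem _ (Ideal.mul_mem_left _ _ hb') (Ideal.mul_mem_left _ _ hb)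
  add_mem' := by
    intro b b' hb hb'
    change δ A B (b + b') ∈ nilradical (B ⊗[A] B)
    rw [δ_add]
    exact Ideal.add_mem _ hb hb'
  algebraMap_mem' := by
    intro a
    change δ A B (algebraMap A B a) ∈ nilradical (B ⊗[A] B)
    rw [δ_algebraMap]
    exact zero_mem _

theorem mem_E (b : B) : b ∈ E A B ↔ IsNilpotent (b ⊗ₜ[A] (1 : B) - (1 : B) ⊗ₜ[A] b) := by
  change δ A B b ∈ nilradical (B ⊗[A] B) ↔ _
  rw [mem_nilradical]
  rfl

/-- maximality -/
theorem le_E (C : Subalgebra A B)
    (hC : FlatMor.IsUnivHomeo (Spec.map (CommRingCat.ofHom (algebraMap A C)))) : C ≤ E A B := by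
  have hui := (universallyInjective_SpecMap_iff (algebraMap A C)).mp
    (universallyInjective_of_isUnivHomeo hC)
  intro c hc
  change δ A B c ∈ nilradical (B ⊗[A] B)
  rw [nilradical_eq_sInf, Ideal.mem_sInf]
  intro 𝔓 h𝔓
  haveI : 𝔓.IsPrime := h𝔓
  let π : B ⊗[A] B →+* 𝔓.ResidueField := algebraMap _ _
  let g₁ : B →+* 𝔓.ResidueField := π.comp (Algebra.TensorProduct.includeLeftRingHom)
  let g₂ : B →+* 𝔓.ResidueField := π.comp (Algebra.TensorProduct.includeRight (R := A) (A := B) (B := B)).toRingHom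
  have hagree : (g₁.comp C.val.toRingHom).comp (algebraMap A C) =
      (g₂.comp C.val.toRingHom).comp (algebraMap A C) := by
    ext a
    change π ((algebraMap A B a) ⊗ₜ[A] (1 : B)) = π ((1 : B) ⊗ₜ[A] (algebraMap A B a))
    congr 1
    simp only [Algebra.algebraMap_eq_smul_one, TensorProduct.smul_tmul]
  have h1 := hui 𝔓.ResidueField _ _ hagree
  have h2 : g₁ c = g₂ c := congrArg (fun ψ => ψ ⟨c, hc⟩) h1
  have h3 : π (δ A B c) = 0 := by
    rw [δ, map_sub, sub_eq_zero]
    exact h2
  exact (Ideal.algebraMap_residueField_eq_zero).mp h3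

theorem isUnivHomeo_E (hinj : Function.Injective (algebraMap A B)) [Algebra.IsIntegral A B] :
    FlatMor.IsUnivHomeo (Spec.map (CommRingCat.ofHom (algebraMap A (E A B)))) := by
  -- integrality of `A → E`
  have hEint : (algebraMap A (E A B)).IsIntegral := by
    intro e
    have h1 : IsIntegral A (e : B) := Algebra.IsIntegral.isIntegral _
    exact (isIntegral_algHom_iff (E A B).val Subtype.val_injective).mp h1
  -- integrality of `E → B`
  have hBint : ((E A B).val.toRingHom).IsIntegral := by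
    intro b
    have h1 : IsIntegral A b := Algebra.IsIntegral.isIntegral _
    exact IsIntegral.tower_top (A := E A B) h1
  have hEinj : Function.Injective (algebraMap A (E A B)) := by
    intro a a' h
    exact hinj (congrArg Subtype.val h)
  haveI : IsIntegralHom (Spec.map (CommRingCat.ofHom (algebraMap A (E A B)))) :=
    IsIntegralHom.SpecMap_iff.mpr hEint
  haveI : Surjective (Spec.map (CommRingCat.ofHom (algebraMap A (E A B)))) := by
    constructor
    intro P0
    obtain ⟨P, rfl⟩ : ∃ P : PrimeSpectrum A, P = P0 := ⟨P0, rfl⟩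
    haveI : Algebra.IsIntegral A (E A B) := ⟨hEint⟩
    obtain ⟨𝔓, -, h𝔓, h𝔓c⟩ := Ideal.exists_ideal_over_prime_of_isIntegral P.asIdeal
      (⊥ : Ideal (E A B)) (by
        rw [← RingHom.ker_eq_comap_bot, (RingHom.injective_iff_ker_eq_bot _).mp hEinj]
        exact bot_le)
    exact ⟨(⟨𝔓, h𝔓⟩ : PrimeSpectrum (E A B)), PrimeSpectrum.ext h𝔓c⟩
  haveI : UniversallyInjective (Spec.map (CommRingCat.ofHom (algebraMap A (E A B)))) := by
    rw [universallyInjective_SpecMap_iff]
    intro K _ h₁ h₂ h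
    -- extend both to `B`
    have hlie : ∀ hh : E A B →+* K, ∃ Q : PrimeSpectrum B,
        Q.asIdeal.comap (E A B).val.toRingHom = RingHom.ker hh := by
      intro hh
      haveI : (RingHom.ker hh).IsPrime := RingHom.ker_isPrime hh
      letI : Algebra (E A B) B := (E A B).val.toRingHom.toAlgebra
      haveI : Algebra.IsIntegral (E A B) B := ⟨hBint⟩
      obtain ⟨𝔓, -, h𝔓, h𝔓c⟩ := Ideal.exists_ideal_over_prime_of_isIntegral (RingHom.ker hh)
        (⊥ : Ideal B) (by
          rw [← RingHom.ker_eq_comap_bot]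
          have : RingHom.ker (algebraMap (E A B) B) = ⊥ :=
            (RingHom.injective_iff_ker_eq_bot _).mp Subtype.val_injective
          rw [this]
          exact bot_le)
      exact ⟨⟨𝔓, h𝔓⟩, h𝔓c⟩
    obtain ⟨Q₁, hQ₁⟩ := hlie h₁
    obtain ⟨Q₂, hQ₂⟩ := hlie h₂
    obtain ⟨t₁, ht₁⟩ := exists_extension_algClosure (E A B).val.toRingHom hBint h₁ Q₁ hQ₁
    obtain ⟨t₂, ht₂⟩ := exists_extension_algClosure (E A B).val.toRingHom hBint h₂ Q₂ hQ₂
    have ht₁' : ∀ e : E A B, t₁ e = algebraMap K (AlgebraicClosure K) (h₁ e) :=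
      fun e => congrArg (fun ψ => ψ e) ht₁
    have ht₂' : ∀ e : E A B, t₂ e = algebraMap K (AlgebraicClosure K) (h₂ e) :=
      fun e => congrArg (fun ψ => ψ e) ht₂
    have hh : ∀ a, h₁ (algebraMap A (E A B) a) = h₂ (algebraMap A (E A B) a) :=
      fun a => congrArg (fun ψ => ψ a) h
    -- the A-algebra structure on the algebraic closure
    letI : Algebra A (AlgebraicClosure K) :=
      ((algebraMap K (AlgebraicClosure K)).comp (h₁.comp (algebraMap A (E A B)))).toAlgebra
    let T₁ : B →ₐ[A] AlgebraicClosure K :=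
      { t₁ with
        commutes' := fun a => by
          change t₁ (algebraMap A B a) = algebraMap K (AlgebraicClosure K) (h₁ (algebraMap A (E A B) a))
          exact ht₁' (algebraMap A (E A B) a) }
    let T₂ : B →ₐ[A] AlgebraicClosure K :=
      { t₂ with
        commutes' := fun a => by
          change t₂ (algebraMap A B a) = algebraMap K (AlgebraicClosure K) (h₁ (algebraMap A (E A B) a))
          rw [hh a]
          exact ht₂' (algebraMap A (E A B) a) }
    let Ψ : B ⊗[A] B →ₐ[A] AlgebraicClosure K :=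
      Algebra.TensorProduct.lift T₁ T₂ (fun _ _ => Commute.all _ _)
    ext e
    have hnil : IsNilpotent (δ A B (e : B)) := (mem_nilradical).mp e.2
    have h0 : Ψ (δ A B (e : B)) = 0 := (hnil.map Ψ).eq_zero
    have h1 : Ψ (δ A B (e : B)) = t₁ e - t₂ e := by
      rw [δ, map_sub, Algebra.TensorProduct.lift_tmul, Algebra.TensorProduct.lift_tmul, map_one,
        map_one, mul_one, one_mul]
      rfl
    rw [h1, ht₁', ht₂', sub_eq_zero] at h0
    exact (algebraMap K (AlgebraicClosure K)).injective h0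
  exact isUnivHomeo_of _

/-- **S13837** -/
theorem weakNormalization (hinj : Function.Injective (algebraMap A B)) [Algebra.IsIntegral A B] :
    ∃ E : Subalgebra A B, (∀ b : B, b ∈ E ↔ IsNilpotent (b ⊗ₜ[A] (1 : B) - (1 : B) ⊗ₜ[A] b)) ∧
      FlatMor.IsUnivHomeo (Spec.map (CommRingCat.ofHom (algebraMap A E))) ∧
      ∀ C : Subalgebra A B, FlatMor.IsUnivHomeo (Spec.map (CommRingCat.ofHom (algebraMap A C))) → C ≤ E :=
  ⟨E A B, mem_E A B, isUnivHomeo_E A B hinj, le_E A B⟩

end WN

end Groth.Agent.Helper6.EtaWN
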