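import Mathlib
import Groth.Agent.Helper6.Dim1Dist

set_option autoImplicit false

/-!
The integer valued distance between lattices: symmetry, invariance under linear isomorphisms,
and the homomorphism `φ ↦ d(M, φ M)`.
-/

namespace Groth.Agent.Helper6.Dim1

open Function
open scoped Pointwise

section Basic

variable {R : Type*} [CommRing R] {V : Type*} [AddCommGroup V] [Module R V]

theorem colen_self (M : Submodule R V) : colen M M = 0 := by
  unfold colen
  have : Subsingleton (↥M ⧸ Submodule.comap M.subtype M) := by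
    rw [Submodule.Quotient.subsingleton_iff, eq_top_iff]
    intro y _
    exact y.2
  rw [Module.length_eq_zero]
  rfl

variable {V' : Type*} [AddCommGroup V'] [Module R V']

theorem colen_map (β : V ≃ₗ[R] V') (M N : Submodule R V) :
    colen (M.map β.toLinearMap) (N.map β.toLinearMap) = colen M N := by
  unfold colen
  congr 1
  symm
  refine (Submodule.Quotient.equiv _ _ (β.submoduleMap M) ?_).length_eq
  ext y
  constructor
  · rintro ⟨z, hz, rfl⟩
    exact ⟨z.1, hz, rfl⟩
  · rintro ⟨z, hz, hzy⟩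
    obtain ⟨⟨w, hw⟩, rfl⟩ := (β.submoduleMap M).surjective y
    have : w = z := β.injective hzy.symm
    subst this
    exact ⟨⟨w, hw⟩, hz, rfl⟩

end Basic

section Ldist

variable {R : Type*} [CommRing R] [IsDomain R] [IsNoetherianRing R] {K : Type*} [Field K]
  [Algebra R K] [IsFractionRing R K] {V : Type*} [AddCommGroup V] [Module K V] [Module R V]
  [IsScalarTower R K V]

/-- the distance of two lattices. -/
noncomputable def ldist (M M' : Submodule R V) : ℤ :=
  (colen M (M ⊓ M') : ℤ) - (colen M' (M ⊓ M') : ℤ)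

theorem ldist_self (M : Submodule R V) : ldist M M = 0 := by
  unfold ldist
  rw [inf_idem, sub_self]

theorem ldist_symm (M M' : Submodule R V) : ldist M' M = - ldist M M' := by
  unfold ldist
  rw [inf_comm M' M]
  ring

theorem ldist_of_le (M N : Submodule R V) (h : N ≤ M) : ldist M N = colen M N := by
  unfold ldist
  rw [inf_eq_right.mpr h, colen_self]
  simp

theorem ldist_add (hdim : ringKrullDim R ≤ 1) (M₁ M₂ M₃ : Submodule R V)
    [Submodule.IsLattice K M₁] [Submodule.IsLattice K M₂] [Submodule.IsLattice K M₃] :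
    ldist M₁ M₃ = ldist M₁ M₂ + ldist M₂ M₃ :=
  dist_add (K := K) hdim M₁ M₂ M₃

variable {V' : Type*} [AddCommGroup V'] [Module K V'] [Module R V'] [IsScalarTower R K V']

/-- image of a submodule under a `K`-linear isomorphism. -/
def mapL (β : V ≃ₗ[K] V') (M : Submodule R V) : Submodule R V' :=
  M.map (β.toLinearMap.restrictScalars R)

theorem mapL_eq (β : V ≃ₗ[K] V') (M : Submodule R V) :
    mapL β M = M.map (β.restrictScalars R).toLinearMap := rfl

theorem mem_mapL (β : V ≃ₗ[K] V') (M : Submodule R V) (y : V') :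
    y ∈ mapL β M ↔ ∃ x ∈ M, β x = y := Iff.rfl

theorem mapL_inf (β : V ≃ₗ[K] V') (M M' : Submodule R V) :
    mapL β (M ⊓ M') = mapL β M ⊓ mapL β M' :=
  Submodule.map_inf _ (β.restrictScalars R).injective

theorem ldist_mapL (β : V ≃ₗ[K] V') (M M' : Submodule R V) :
    ldist (mapL β M) (mapL β M') = ldist M M' := by
  unfold ldist
  rw [← mapL_inf, mapL_eq, mapL_eq, mapL_eq, colen_map, colen_map]

theorem isLattice_mapL (β : V ≃ₗ[K] V') (M : Submodule R V) [Submodule.IsLattice K M] :
    Submodule.IsLattice K (mapL β M) where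
  fg := Submodule.FG.map _ Submodule.IsLattice.fg
  span_eq_top := by
    rw [eq_top_iff]
    intro y _
    obtain ⟨x, rfl⟩ := β.surjective y
    have hx : x ∈ Submodule.span K (M : Set V) := by
      rw [Submodule.IsLattice.span_eq_top (A := K) (M := M)]
      trivial
    have : Submodule.map β.toLinearMap (Submodule.span K (M : Set V)) ≤
        Submodule.span K (mapL β M : Set V') := by
      rw [Submodule.map_span]
      apply Submodule.span_mono
      rintro _ ⟨z, hz, rfl⟩
      exact ⟨z, hz, rfl⟩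
    exact this ⟨x, hx, rfl⟩

theorem mapL_trans {V'' : Type*} [AddCommGroup V''] [Module K V''] [Module R V'']
    [IsScalarTower R K V''] (β : V ≃ₗ[K] V') (γ : V' ≃ₗ[K] V'') (M : Submodule R V) :
    mapL (β.trans γ) M = mapL γ (mapL β M) := by
  ext y
  constructor
  · rintro ⟨x, hx, rfl⟩
    exact ⟨β x, ⟨x, hx, rfl⟩, rfl⟩
  · rintro ⟨_, ⟨x, hx, rfl⟩, rfl⟩
    exact ⟨x, hx, rfl⟩

/-- the function `φ ↦ d(M, φ M)`. -/
noncomputable def Dlat (M : Submodule R V) (φ : V ≃ₗ[K] V) : ℤ := ldist M (mapL φ M)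

theorem Dlat_trans (hdim : ringKrullDim R ≤ 1) (M : Submodule R V) [Submodule.IsLattice K M]
    (φ ψ : V ≃ₗ[K] V) : Dlat M (φ.trans ψ) = Dlat M φ + Dlat M ψ := by
  unfold Dlat
  haveI := isLattice_mapL φ M
  haveI := isLattice_mapL ψ M
  haveI := isLattice_mapL ψ (mapL φ M)
  rw [mapL_trans, ldist_add (K := K) hdim M (mapL ψ M) (mapL ψ (mapL φ M)), ldist_mapL, add_comm]

theorem Dlat_indep (hdim : ringKrullDim R ≤ 1) (M M' : Submodule R V) [Submodule.IsLattice K M]
    [Submodule.IsLattice K M'] (φ : V ≃ₗ[K] V) : Dlat M' φ = Dlat M φ := by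
  unfold Dlat
  haveI := isLattice_mapL φ M
  haveI := isLattice_mapL φ M'
  rw [ldist_add (K := K) hdim M' M (mapL φ M'), ldist_add (K := K) hdim M (mapL φ M) (mapL φ M'),
    ldist_mapL, ldist_symm M M']
  ring

theorem Dlat_eq_zero_of_mapL_eq (M : Submodule R V) (φ : V ≃ₗ[K] V) (h : mapL φ M = M) :
    Dlat M φ = 0 := by
  unfold Dlat
  rw [h, ldist_self]

/-- conjugation invariance. -/
theorem Dlat_conj (M : Submodule R V) (β : V ≃ₗ[K] V') (φ : V ≃ₗ[K] V) :
    Dlat (mapL β M) ((β.symm.trans φ).trans β) = Dlat M φ := by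
  unfold Dlat
  rw [mapL_trans, mapL_trans, ← mapL_trans β β.symm, LinearEquiv.self_trans_symm]
  have : mapL (LinearEquiv.refl K V) M = M := by
    ext y
    constructor
    · rintro ⟨x, hx, rfl⟩
      exact hx
    · intro hy
      exact ⟨y, hy, rfl⟩
  rw [this, ldist_mapL]

end Ldist

end Groth.Agent.Helper6.Dim1
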