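import Mathlib
import Groth.Agent.Helper6.Dim1DistInv
import Groth.Agent.Helper6.Dim1Ord

set_option autoImplicit false

/-!
The standard lattice `R^n ⊆ K^n` and the formula `d(L₀, X L₀) = ord (det X)`.
-/

namespace Groth.Agent.Helper6.Dim1

open Function Matrix
open scoped Pointwise

universe u

section Colen

variable {R : Type*} [CommRing R] {X V : Type*} [AddCommGroup X] [Module R X] [AddCommGroup V]
  [Module R V]

theorem colen_range_map (ι : X →ₗ[R] V) (hι : Injective ι) (P : Submodule R X) :
    colen (LinearMap.range ι) (P.map ι) = (Module.length R (X ⧸ P)).toNat := by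
  unfold colen
  congr 1
  symm
  refine (Submodule.Quotient.equiv _ _ (LinearEquiv.ofInjective ι hι) ?_).length_eq
  ext y
  constructor
  · rintro ⟨z, hz, rfl⟩
    exact ⟨z, hz, rfl⟩
  · rintro ⟨z, hz, hzy⟩
    obtain ⟨w, rfl⟩ := (LinearEquiv.ofInjective ι hι).surjective y
    have : w = z := hι hzy.symm
    subst this
    exact ⟨w, hz, rfl⟩

end Colen

section Std

variable {R : Type u} [CommRing R] [IsDomain R] [IsNoetherianRing R] {K : Type u} [Field K]
  [Algebra R K] [IsFractionRing R K] (n : ℕ)

/-- the inclusion `R^n → K^n`. -/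
def iota : (Fin n → R) →ₗ[R] (Fin n → K) := (Algebra.linearMap R K).compLeft (Fin n)

theorem iota_apply (v : Fin n → R) (i : Fin n) : iota (K := K) n v i = algebraMap R K (v i) := rfl

theorem iota_injective : Injective (iota (R := R) (K := K) n) := by
  intro v w h
  ext i
  exact (IsFractionRing.injective R K) (congrFun h i)

/-- the standard lattice. -/
def L0 : Submodule R (Fin n → K) := LinearMap.range (iota (R := R) (K := K) n)

instance isLattice_L0 : Submodule.IsLattice K (L0 (R := R) (K := K) n) where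
  fg := by
    unfold L0
    rw [LinearMap.range_eq_map]
    exact Submodule.FG.map _ Module.Finite.fg_top
  span_eq_top := by
    classical
    rw [eq_top_iff]
    intro v _
    rw [pi_eq_sum_univ v]
    refine Submodule.sum_mem _ (fun i _ => Submodule.smul_mem _ _ (Submodule.subset_span ?_))
    refine ⟨fun j => if i = j then 1 else 0, ?_⟩
    ext j
    rw [iota_apply]
    split_ifs <;> simp

variable {n}

/-- the automorphism of `K^n` given by an invertible matrix. -/
noncomputable def matEquiv (X : Matrix (Fin n) (Fin n) K) (hX : X.det ≠ 0) :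
    (Fin n → K) ≃ₗ[K] (Fin n → K) :=
  X.toLinearEquiv' (X.invertibleOfIsUnitDet (IsUnit.mk0 _ hX))

theorem matEquiv_apply (X : Matrix (Fin n) (Fin n) K) (hX : X.det ≠ 0) (v : Fin n → K) :
    matEquiv X hX v = X *ᵥ v := by
  unfold matEquiv
  have := Matrix.toLinearEquiv'_apply X (X.invertibleOfIsUnitDet (IsUnit.mk0 _ hX))
  have h2 := LinearMap.congr_fun this v
  rw [Matrix.toLin'_apply] at h2
  exact h2

theorem matEquiv_mul (A B : Matrix (Fin n) (Fin n) K) (hA : A.det ≠ 0) (hB : B.det ≠ 0)
    (hAB : (A * B).det ≠ 0) :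
    matEquiv (A * B) hAB = (matEquiv B hB).trans (matEquiv A hA) := by
  ext v i
  rw [LinearEquiv.trans_apply, matEquiv_apply, matEquiv_apply, matEquiv_apply,
    Matrix.mulVec_mulVec]

theorem matEquiv_congr {A B : Matrix (Fin n) (Fin n) K} (h : A = B) (hA : A.det ≠ 0)
    (hB : B.det ≠ 0) : matEquiv A hA = matEquiv B hB := by
  subst h
  rfl

/-- integral matrices act on the standard lattice through `R^n`. -/
theorem mapL_matEquiv_L0 (Z : Matrix (Fin n) (Fin n) R)
    (hZ : (Z.map (algebraMap R K)).det ≠ 0) :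
    mapL (matEquiv (Z.map (algebraMap R K)) hZ) (L0 (R := R) (K := K) n) =
      (LinearMap.range (Matrix.toLin' Z)).map (iota (R := R) (K := K) n) := by
  have key : ∀ v : Fin n → R, matEquiv (Z.map (algebraMap R K)) hZ (iota n v) =
      iota n (Matrix.toLin' Z v) := by
    intro v
    ext i
    rw [matEquiv_apply, iota_apply, Matrix.toLin'_apply, RingHom.map_mulVec]
    rfl
  ext y
  constructor
  · rintro ⟨_, ⟨v, rfl⟩, rfl⟩
    exact ⟨Matrix.toLin' Z v, ⟨v, rfl⟩, (key v).symm⟩
  · rintro ⟨_, ⟨v, rfl⟩, rfl⟩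
    exact ⟨iota n v, ⟨v, rfl⟩, key v⟩

theorem mapL_matEquiv_L0_of_inv (Z Z' : Matrix (Fin n) (Fin n) R) (h : Z * Z' = 1)
    (hZ : (Z.map (algebraMap R K)).det ≠ 0) :
    mapL (matEquiv (Z.map (algebraMap R K)) hZ) (L0 (R := R) (K := K) n) = L0 n := by
  rw [mapL_matEquiv_L0]
  have : LinearMap.range (Matrix.toLin' Z) = ⊤ := by
    rw [LinearMap.range_eq_top]
    intro v
    refine ⟨Matrix.toLin' Z' v, ?_⟩
    rw [← LinearMap.comp_apply, ← Matrix.toLin'_mul, h, Matrix.toLin'_one]
    rfl
  rw [this, Submodule.map_top]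
  rfl

theorem range_toLin'_diagonal (a : Fin n → R) :
    LinearMap.range (Matrix.toLin' (Matrix.diagonal a)) =
      Submodule.pi Set.univ (fun i => (Ideal.span {a i} : Submodule R R)) := by
  ext v
  rw [Submodule.mem_pi]
  constructor
  · rintro ⟨w, rfl⟩ i -
    rw [Matrix.toLin'_apply, Matrix.mulVec_diagonal]
    exact Ideal.mem_span_singleton'.mpr ⟨w i, mul_comm _ _⟩
  · intro h
    have : ∀ i, ∃ b, b * a i = v i := fun i => Ideal.mem_span_singleton'.mp (h i trivial)
    choose w hw using this
    refine ⟨w, ?_⟩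
    ext i
    rw [Matrix.toLin'_apply, Matrix.mulVec_diagonal, mul_comm, hw]

theorem toNat_sum_of_ne_top {ι : Type*} (s : Finset ι) (f : ι → ℕ∞) (h : ∀ i ∈ s, f i ≠ ⊤) :
    (∑ i ∈ s, f i).toNat = ∑ i ∈ s, (f i).toNat := by
  classical
  induction s using Finset.induction_on with
  | empty => simp
  | insert i s his ih =>
    rw [Finset.sum_insert his, Finset.sum_insert his, ENat.toNat_add, ih]
    · intro k hk
      exact h k (Finset.mem_insert_of_mem hk)
    · exact h i (Finset.mem_insert_self i s)
    · rw [ne_eq, ENat.sum_eq_top]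
      push Not
      intro k hk
      exact h k (Finset.mem_insert_of_mem hk)

end Std

end Groth.Agent.Helper6.Dim1
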