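import Mathlib
import Groth.Agent.Helper6.Dim1MinPrimes
import Groth.Agent.Helper6.Dim1Ord
import Groth.Agent.Helper6.Dim1Std

set_option autoImplicit false

/-!
`l(M/P) - l(M/IM) = ∑_q l(M_q) ord_{A/q}(a/b)` for `I = (b : a)`.
-/

namespace Groth.Agent.Helper6.Dim1

open Function
open scoped Pointwise

universe u

section LemmaX

variable {A : Type*} [CommRing A] {M : Type*} [AddCommGroup M] [Module A M]

theorem range_lsmul (c : A) : LinearMap.range (LinearMap.lsmul A M c) = c • (⊤ : Submodule A M) := by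
  ext y
  rw [Submodule.mem_smul_pointwise_iff_exists]
  constructor
  · rintro ⟨m, rfl⟩
    exact ⟨m, trivial, rfl⟩
  · rintro ⟨m, -, rfl⟩
    exact ⟨m, rfl⟩

theorem length_quot_eq_comap_add (c : A) (W : Submodule A M)
    (hW : W ≤ LinearMap.range (LinearMap.lsmul A M c)) :
    Module.length A (M ⧸ W) =
      Module.length A (M ⧸ Submodule.comap (LinearMap.lsmul A M c) W) +
        Module.length A (M ⧸ LinearMap.range (LinearMap.lsmul A M c)) := by
  have hW' : W ≤ Submodule.comap (LinearMap.id : M →ₗ[A] M)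
      (LinearMap.range (LinearMap.lsmul A M c)) := hW
  refine Module.length_eq_add_of_exact
    (Submodule.mapQ _ _ (LinearMap.lsmul A M c) le_rfl)
    (Submodule.mapQ _ _ LinearMap.id hW') ?_ ?_ ?_
  · rw [← LinearMap.ker_eq_bot, LinearMap.ker_eq_bot']
    intro y hy
    obtain ⟨m, rfl⟩ := Submodule.Quotient.mk_surjective _ y
    rw [Submodule.mapQ_apply, Submodule.Quotient.mk_eq_zero] at hy
    rw [Submodule.Quotient.mk_eq_zero]
    exact hy
  · intro y
    obtain ⟨m, rfl⟩ := Submodule.Quotient.mk_surjective _ y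
    exact ⟨Submodule.Quotient.mk m, by rw [Submodule.mapQ_apply]; rfl⟩
  · intro y
    obtain ⟨m, rfl⟩ := Submodule.Quotient.mk_surjective _ y
    constructor
    · intro hy
      rw [Submodule.mapQ_apply, Submodule.Quotient.mk_eq_zero] at hy
      obtain ⟨m', hm'⟩ := hy
      exact ⟨Submodule.Quotient.mk m', by rw [Submodule.mapQ_apply, hm']; rfl⟩
    · rintro ⟨z, hz⟩
      obtain ⟨m', rfl⟩ := Submodule.Quotient.mk_surjective _ z
      rw [← hz, Submodule.mapQ_apply, Submodule.mapQ_apply, Submodule.Quotient.mk_eq_zero]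
      exact ⟨m', rfl⟩

end LemmaX

section LocFin

variable {A : Type u} [CommRing A] [IsNoetherianRing A]

/-- localizations of finite modules at minimal primes have finite length. -/
theorem length_localized_ne_top (p : PrimeSpectrum A) (hp : p ∈ minSpec A) (M : Type u)
    [AddCommGroup M] [Module A M] [hM : Module.Finite A M] :
    Module.length (Localization.AtPrime p.asIdeal) (LocalizedModule p.asIdeal.primeCompl M) ≠ ⊤ := by
  induction hM using IsNoetherianRing.induction_on_isQuotientEquivQuotientPrime A with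
  | subsingleton N =>
    rw [Module.length_eq_zero]
    exact ENat.zero_ne_top
  | quotient N q e =>
    rw [length_localized_congr _ e]
    by_cases hqp : q.asIdeal ≤ p.asIdeal
    · have : q = p := by
        apply PrimeSpectrum.ext
        exact le_antisymm hqp (hp.2 ⟨q.isPrime, bot_le⟩ hqp)
      subst this
      rw [length_localized_quot_self]
      exact ENat.one_ne_top
    · obtain ⟨s, hsq, hsp⟩ := Set.not_subset.mp hqp
      rw [length_localized_eq_zero _ (s := s) hsp]
      · exact ENat.zero_ne_top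
      · intro n
        obtain ⟨r, rfl⟩ := Ideal.Quotient.mk_surjective n
        change Ideal.Quotient.mk q.asIdeal (s * r) = 0
        exact Ideal.Quotient.eq_zero_iff_mem.mpr (Ideal.mul_mem_right _ _ hsq)
  | exact N₁ N₂ N₃ f g hf hg hex h₁ h₃ =>
    rw [length_localized_add _ f g hf hg hex]
    simp only [ne_eq, ENat.add_eq_top, not_or]
    exact ⟨h₁, h₃⟩

end LocFin

section Transfer

variable {A : Type u} [CommRing A] [IsNoetherianRing A]

theorem length_quot_quot (q : Ideal A) (a : A) :
    Module.length (A ⧸ q) ((A ⧸ q) ⧸ Ideal.span {Ideal.Quotient.mk q a}) =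
      Module.length A (A ⧸ (q ⊔ Ideal.span {a})) := by
  rw [← Module.length_eq_of_surjective (R := A ⧸ q) (S := A) Ideal.Quotient.mk_surjective]
  obtain ⟨e⟩ := quotSMulTop_quot_equiv a q
  rw [← e.length_eq]
  have h : (Ideal.span {Ideal.Quotient.mk q a}).restrictScalars A =
      a • (⊤ : Submodule A (A ⧸ q)) := by
    ext y
    rw [Submodule.mem_smul_pointwise_iff_exists]
    constructor
    · intro hy
      obtain ⟨z, rfl⟩ := Ideal.mem_span_singleton'.mp hy
      refine ⟨z, trivial, ?_⟩
      obtain ⟨r, rfl⟩ := Ideal.Quotient.mk_surjective z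
      change Ideal.Quotient.mk q (a * r) = Ideal.Quotient.mk q r * Ideal.Quotient.mk q a
      rw [map_mul, mul_comm]
    · rintro ⟨z, -, rfl⟩
      obtain ⟨r, rfl⟩ := Ideal.Quotient.mk_surjective z
      change Ideal.Quotient.mk q (a * r) ∈ Ideal.span {Ideal.Quotient.mk q a}
      rw [map_mul]
      exact Ideal.mul_mem_right _ _ (Ideal.mem_span_singleton_self _)
  rw [← (Submodule.Quotient.restrictScalarsEquiv A
    (Ideal.span {Ideal.Quotient.mk q a})).length_eq]
  exact (Submodule.quotEquivOfEq _ _ h).length_eq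

theorem ordFrac_quot (hdim : ringKrullDim A ≤ 1) (q : Ideal A) [q.IsPrime] {a : A} (ha : a ∉ q) :
    CycAlg.ordFrac (A ⧸ q) q.ResidueField (algebraMap A q.ResidueField a) =
      ((Module.length A (A ⧸ (q ⊔ Ideal.span {a}))).toNat : ℤ) := by
  haveI : Ring.KrullDimLE 1 (A ⧸ q) :=
    Ring.krullDimLE_iff.mpr (le_trans (ringKrullDim_quotient_le q) (by exact_mod_cast hdim))
  have hne : Ideal.Quotient.mk q a ≠ 0 := by
    rwa [ne_eq, Ideal.Quotient.eq_zero_iff_mem]
  rw [IsScalarTower.algebraMap_apply A (A ⧸ q) q.ResidueField, Ideal.Quotient.algebraMap_eq,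
    ordFrac_algebraMap hne, length_quot_quot]

theorem ordFrac_quot_div (hdim : ringKrullDim A ≤ 1) (q : Ideal A) [q.IsPrime] {a b : A}
    (ha : a ∉ q) (hb : b ∉ q) :
    CycAlg.ordFrac (A ⧸ q) q.ResidueField
        (algebraMap A q.ResidueField a / algebraMap A q.ResidueField b) =
      ((Module.length A (A ⧸ (q ⊔ Ideal.span {a}))).toNat : ℤ) -
        ((Module.length A (A ⧸ (q ⊔ Ideal.span {b}))).toNat : ℤ) := by
  haveI : Ring.KrullDimLE 1 (A ⧸ q) :=
    Ring.krullDimLE_iff.mpr (le_trans (ringKrullDim_quotient_le q) (by exact_mod_cast hdim))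
  have hbK : algebraMap A q.ResidueField b ≠ 0 := by
    rw [IsScalarTower.algebraMap_apply A (A ⧸ q) q.ResidueField, Ideal.Quotient.algebraMap_eq]
    intro h0
    have := (IsFractionRing.injective (A ⧸ q) q.ResidueField) (h0.trans (map_zero _).symm)
    exact hb (Ideal.Quotient.eq_zero_iff_mem.mp this)
  have haK : algebraMap A q.ResidueField a ≠ 0 := by
    rw [IsScalarTower.algebraMap_apply A (A ⧸ q) q.ResidueField, Ideal.Quotient.algebraMap_eq]
    intro h0
    have := (IsFractionRing.injective (A ⧸ q) q.ResidueField) (h0.trans (map_zero _).symm)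
    exact ha (Ideal.Quotient.eq_zero_iff_mem.mp this)
  have h1 := ordFrac_mul (R := A ⧸ q) (K := q.ResidueField) (div_ne_zero haK hbK) hbK
  rw [div_mul_cancel₀ _ hbK, ordFrac_quot hdim q ha, ordFrac_quot hdim q hb] at h1
  linarith

end Transfer

end Groth.Agent.Helper6.Dim1
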