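import Mathlib
import Groth.Agent.Helper6.Dim1Colon

set_option autoImplicit false

namespace Groth.Agent.Helper6.Dim1

open Function
open scoped Pointwise

universe u

variable {A : Type u} [CommRing A] [IsNoetherianRing A]

theorem isSMulRegular_of_ass_minimal {M : Type u} [AddCommGroup M] [Module A M]
    (hMemb : ∀ p ∈ associatedPrimes A M, p ∈ minimalPrimes A) {a : A}
    (ha : ∀ p ∈ minimalPrimes A, a ∉ p) : IsSMulRegular M a := by
  by_contra hreg
  have h1 : a ∈ ({r : A | IsSMulRegular M r}ᶜ : Set A) := hreg
  rw [← biUnion_associatedPrimes_eq_compl_regular] at h1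
  simp only [Set.mem_iUnion] at h1
  obtain ⟨p, hp, hap⟩ := h1
  exact ha p (hMemb p hp) hap

/-- `l(M/aM)` as a sum over minimal primes, for a regular element. -/
theorem toNat_length_quotSMulTop_eq_sum (hdim : ringKrullDim A ≤ 1) {M : Type u} [AddCommGroup M]
    [Module A M] [Module.Finite A M] {a : A} (ha : ∀ p ∈ minimalPrimes A, a ∉ p)
    (hreg : IsSMulRegular M a) :
    ((Module.length A (QuotSMulTop a M)).toNat : ℤ) =
      ∑ q ∈ (minSpec_finite (A := A)).toFinset,
        ((Module.length (Localization.AtPrime q.asIdeal)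
          (LocalizedModule q.asIdeal.primeCompl M)).toNat : ℤ) *
          ((Module.length A (A ⧸ (q.asIdeal ⊔ Ideal.span {a}))).toNat : ℤ) := by
  have hP := P_all hdim a ha M
  unfold P at hP
  have hker : LinearMap.ker (T a M) = ⊥ := by
    rw [LinearMap.ker_eq_bot]
    exact hreg
  have hK0 : Module.length A (LinearMap.ker (T a M)) = 0 := by
    rw [hker]
    exact Module.length_eq_zero
  rw [hK0, zero_add] at hP
  rw [hP]
  unfold rho
  rw [finsum_mem_eq_finite_toFinset_sum _ minSpec_finite, toNat_sum_of_ne_top]
  · push_cast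
    refine Finset.sum_congr rfl (fun q _ => ?_)
    unfold term
    rw [ENat.toNat_mul]
    push_cast
    rfl
  · intro q hq
    unfold term
    have hq' : q ∈ minSpec A := (Set.Finite.mem_toFinset _).mp hq
    have hc : Module.length A (A ⧸ (q.asIdeal ⊔ Ideal.span {a})) ≠ ⊤ := by
      intro htop
      have hle : Ideal.span {a} ≤ q.asIdeal ⊔ Ideal.span {a} := le_sup_right
      have hsurj : Surjective (Ideal.Quotient.factorₐ A hle).toLinearMap :=
        Ideal.Quotient.factor_surjective hle
      have := Module.length_le_of_surjective _ hsurj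
      rw [htop, top_le_iff] at this
      exact length_quot_ne_top hdim ha this
    exact WithTop.mul_ne_top (length_localized_ne_top q hq' M) hc

theorem main_S6480 (hA : ringKrullDim A ≤ 1) {M : Type u} [AddCommGroup M] [Module A M]
    [Module.Finite A M] (a b : A) (ha : a ∈ nonZeroDivisors A) (hb : b ∈ nonZeroDivisors A)
    (hMemb : ∀ p ∈ associatedPrimes A M, p ∈ minimalPrimes A) (I : Ideal A)
    (hI : I = (Ideal.span {b}).colon (Ideal.span {a})) (P : Submodule A M)
    (hP : P = Submodule.comap (LinearMap.lsmul A M b)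
      ((Ideal.span {a} * I) • (⊤ : Submodule A M))) :
    (Ideal.span {a} * I) • (⊤ : Submodule A M) ≤ LinearMap.range (LinearMap.lsmul A M b) ∧
      ((Module.length A (M ⧸ P)).toNat : ℤ) -
          ((Module.length A (M ⧸ I • (⊤ : Submodule A M))).toNat : ℤ) =
        ∑ᶠ (q : PrimeSpectrum A) (_ : q.asIdeal ∈ minimalPrimes A),
          ((Module.length (Localization.AtPrime q.asIdeal)
            (LocalizedModule q.asIdeal.primeCompl M)).toNat : ℤ) *
            CycAlg.ordFrac (A ⧸ q.asIdeal) q.asIdeal.ResidueField
              (algebraMap A q.asIdeal.ResidueField a / algebraMap A q.asIdeal.ResidueField b) := by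
  have ha' := not_mem_minimalPrimes_of_nzd ha
  have hb' := not_mem_minimalPrimes_of_nzd hb
  have hareg : IsSMulRegular M a := isSMulRegular_of_ass_minimal hMemb ha'
  have hbreg : IsSMulRegular M b := isSMulRegular_of_ass_minimal hMemb hb'
  set W : Submodule A M := (Ideal.span {a} * I) • (⊤ : Submodule A M) with hW
  set N : Submodule A M := I • (⊤ : Submodule A M) with hN
  have hIb : Ideal.span {a} * I ≤ Ideal.span {b} := by
    rw [Ideal.mul_le]
    intro r hr s hs
    obtain ⟨r', rfl⟩ := Ideal.mem_span_singleton'.mp hr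
    rw [hI, Ideal.mem_colon_span_singleton] at hs
    have : r' * a * s = r' * (s * a) := by ring
    rw [this]
    exact Ideal.mul_mem_left _ _ hs
  have hbI : b ∈ I := by
    rw [hI, Ideal.mem_colon_span_singleton]
    exact Ideal.mul_mem_right _ _ (Ideal.mem_span_singleton_self b)
  have hWb : W ≤ LinearMap.range (LinearMap.lsmul A M b) := by
    rw [range_lsmul, ← Submodule.ideal_span_singleton_smul]
    exact Submodule.smul_mono_left hIb
  have hWeq : W = a • N := by
    rw [hW, hN, Submodule.mul_smul, Submodule.ideal_span_singleton_smul]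
  have hWa : W ≤ LinearMap.range (LinearMap.lsmul A M a) := by
    rw [range_lsmul, hWeq]
    exact smul_mono_right a le_top
  have hcomap : Submodule.comap (LinearMap.lsmul A M a) W = N := by
    ext m
    rw [Submodule.mem_comap, hWeq, Submodule.mem_smul_pointwise_iff_exists]
    constructor
    · rintro ⟨n, hn, hnm⟩
      have : n = m := hareg hnm
      rwa [← this]
    · intro hm
      exact ⟨m, hm, rfl⟩
  refine ⟨hWb, ?_⟩
  have e1 := length_quot_eq_comap_add b W hWb
  have e2 := length_quot_eq_comap_add a W hWa
  rw [← hP] at e1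
  rw [hcomap] at e2
  have hQa : Module.length A (M ⧸ LinearMap.range (LinearMap.lsmul A M a)) =
      Module.length A (QuotSMulTop a M) :=
    (Submodule.quotEquivOfEq _ _ (range_lsmul a)).length_eq
  have hQb : Module.length A (M ⧸ LinearMap.range (LinearMap.lsmul A M b)) =
      Module.length A (QuotSMulTop b M) :=
    (Submodule.quotEquivOfEq _ _ (range_lsmul b)).length_eq
  rw [hQb] at e1
  rw [hQa] at e2
  -- finiteness
  have hab' := not_mem_minimalPrimes_mul ha' hb'
  have hWfin : Module.length A (M ⧸ W) ≠ ⊤ := by
    have hle : (a * b) • (⊤ : Submodule A M) ≤ W := by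
      rw [hWeq, mul_smul]
      apply smul_mono_right
      rw [hN]
      rintro _ ⟨m, -, rfl⟩
      exact Submodule.smul_mem_smul hbI trivial
    have hsurj : Surjective (Submodule.factor hle) := Submodule.factor_surjective hle
    intro htop
    have := Module.length_le_of_surjective _ hsurj
    rw [htop, top_le_iff] at this
    exact length_quotSMulTop_ne_top M hA hab' this
  have hPfin : Module.length A (M ⧸ P) ≠ ⊤ := by
    intro htop
    rw [htop, top_add] at e1
    exact hWfin e1
  have hNfin : Module.length A (M ⧸ N) ≠ ⊤ := by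
    intro htop
    rw [htop, top_add] at e2
    exact hWfin e2
  have hQafin := length_quotSMulTop_ne_top M hA ha'
  have hQbfin := length_quotSMulTop_ne_top M hA hb'
  have hint : ((Module.length A (M ⧸ P)).toNat : ℤ) - ((Module.length A (M ⧸ N)).toNat : ℤ) =
      ((Module.length A (QuotSMulTop a M)).toNat : ℤ) -
        ((Module.length A (QuotSMulTop b M)).toNat : ℤ) := by
    have e3 := e1.symm.trans e2
    lift Module.length A (M ⧸ P) to ℕ using hPfin with x1
    lift Module.length A (M ⧸ N) to ℕ using hNfin with x2
    lift Module.length A (QuotSMulTop a M) to ℕ using hQafin with x3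
    lift Module.length A (QuotSMulTop b M) to ℕ using hQbfin with x4
    simp only [ENat.toNat_natCast]
    have : x1 + x4 = x2 + x3 := by exact_mod_cast e3
    omega
  rw [hint, toNat_length_quotSMulTop_eq_sum hA ha' hareg,
    toNat_length_quotSMulTop_eq_sum hA hb' hbreg, ← Finset.sum_sub_distrib]
  have hfs : (∑ᶠ (q : PrimeSpectrum A) (_ : q.asIdeal ∈ minimalPrimes A),
      ((Module.length (Localization.AtPrime q.asIdeal)
        (LocalizedModule q.asIdeal.primeCompl M)).toNat : ℤ) *
        CycAlg.ordFrac (A ⧸ q.asIdeal) q.asIdeal.ResidueField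
          (algebraMap A q.asIdeal.ResidueField a / algebraMap A q.asIdeal.ResidueField b)) =
      ∑ q ∈ (minSpec_finite (A := A)).toFinset,
        ((Module.length (Localization.AtPrime q.asIdeal)
          (LocalizedModule q.asIdeal.primeCompl M)).toNat : ℤ) *
        CycAlg.ordFrac (A ⧸ q.asIdeal) q.asIdeal.ResidueField
          (algebraMap A q.asIdeal.ResidueField a / algebraMap A q.asIdeal.ResidueField b) :=
    finsum_mem_eq_finite_toFinset_sum _ minSpec_finite
  rw [hfs]
  refine Finset.sum_congr rfl (fun q hq => ?_)
  have hq' : q ∈ minSpec A := (Set.Finite.mem_toFinset _).mp hq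
  rw [ordFrac_quot_div hA q.asIdeal (ha' _ hq') (hb' _ hq')]
  ring

end Groth.Agent.Helper6.Dim1
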