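import Mathlib
import Groth.Agent.Helper6.Dim1Std

set_option autoImplicit false

/-!
`d(L₀, X L₀) = ord (det X)` for invertible matrices over the fraction field, and the general
statement for lattices in a finite dimensional vector space.
-/

namespace Groth.Agent.Helper6.Dim1

open Function Matrix
open scoped Pointwise

universe u

section Det

variable {R : Type u} [CommRing R] [IsDomain R] [IsNoetherianRing R] {K : Type u} [Field K]
  [Algebra R K] [IsFractionRing R K] {n : ℕ}

theorem algebraMap_ne_zero' {a : R} (ha : a ≠ 0) : algebraMap R K a ≠ 0 := by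
  intro h0
  exact ha ((IsFractionRing.injective R K) (by rw [h0, map_zero]))

theorem Dlat_diagonal_integral (hdim : ringKrullDim R ≤ 1) (a : Fin n → R) (ha : ∀ i, a i ≠ 0)
    (hdet : (Matrix.diagonal (fun i => algebraMap R K (a i))).det ≠ 0) :
    Dlat (L0 (R := R) n) (matEquiv (Matrix.diagonal (fun i => algebraMap R K (a i))) hdet) =
      ∑ i, CycAlg.ordFrac R K (algebraMap R K (a i)) := by
  haveI : Ring.KrullDimLE 1 R := Ring.krullDimLE_iff.mpr (by exact_mod_cast hdim)
  have hmap : (Matrix.diagonal a).map (algebraMap R K) =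
      Matrix.diagonal (fun i => algebraMap R K (a i)) := Matrix.diagonal_map (map_zero _)
  have hdet' : ((Matrix.diagonal a).map (algebraMap R K)).det ≠ 0 := by rw [hmap]; exact hdet
  rw [matEquiv_congr hmap.symm hdet hdet']
  unfold Dlat
  rw [mapL_matEquiv_L0, range_toLin'_diagonal]
  unfold L0
  rw [ldist_of_le _ _ LinearMap.map_le_range,
    colen_range_map _ (iota_injective n), (Submodule.quotientPi _).length_eq,
    Module.length_pi_of_fintype, toNat_sum_of_ne_top]
  · push_cast
    refine Finset.sum_congr rfl (fun i _ => ?_)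
    rw [ordFrac_algebraMap (ha i)]
  · intro i _
    exact length_quot_ne_top hdim (not_mem_minimalPrimes_of_ne_zero (ha i))

theorem Dlat_diagonal (hdim : ringKrullDim R ≤ 1) (c : Fin n → K)
    (hdet : (Matrix.diagonal c).det ≠ 0) :
    Dlat (L0 (R := R) n) (matEquiv (Matrix.diagonal c) hdet) =
      CycAlg.ordFrac R K (Matrix.diagonal c).det := by
  haveI : Ring.KrullDimLE 1 R := Ring.krullDimLE_iff.mpr (by exact_mod_cast hdim)
  have hc : ∀ i, c i ≠ 0 := by
    rw [Matrix.det_diagonal, Finset.prod_ne_zero_iff] at hdet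
    exact fun i => hdet i (Finset.mem_univ i)
  have hex : ∀ i, ∃ a s : R, s ∈ nonZeroDivisors R ∧
      algebraMap R K a / algebraMap R K s = c i := fun i =>
    IsFractionRing.div_surjective (A := R) (c i)
  choose a s hs has using hex
  have hs0 : ∀ i, s i ≠ 0 := fun i => nonZeroDivisors.ne_zero (hs i)
  have hsK : ∀ i, algebraMap R K (s i) ≠ 0 := fun i => algebraMap_ne_zero' (hs0 i)
  have hca : ∀ i, c i * algebraMap R K (s i) = algebraMap R K (a i) := by
    intro i
    rw [← has i, div_mul_cancel₀ _ (hsK i)]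
  have ha0 : ∀ i, a i ≠ 0 := by
    intro i h0
    have := hca i
    rw [h0, map_zero] at this
    exact mul_ne_zero (hc i) (hsK i) this
  have hdetS : (Matrix.diagonal (fun i => algebraMap R K (s i))).det ≠ 0 := by
    rw [Matrix.det_diagonal, Finset.prod_ne_zero_iff]
    exact fun i _ => hsK i
  have hdetA : (Matrix.diagonal (fun i => algebraMap R K (a i))).det ≠ 0 := by
    rw [Matrix.det_diagonal, Finset.prod_ne_zero_iff]
    exact fun i _ => algebraMap_ne_zero' (ha0 i)
  have hprod : Matrix.diagonal c * Matrix.diagonal (fun i => algebraMap R K (s i)) =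
      Matrix.diagonal (fun i => algebraMap R K (a i)) := by
    rw [Matrix.diagonal_mul_diagonal]
    congr 1
    ext i
    exact hca i
  have hdetP : (Matrix.diagonal c * Matrix.diagonal (fun i => algebraMap R K (s i))).det ≠ 0 := by
    rw [hprod]; exact hdetA
  have h1 := Dlat_diagonal_integral hdim a ha0 hdetA
  have h2 := Dlat_diagonal_integral hdim s hs0 hdetS
  rw [matEquiv_congr hprod.symm hdetA hdetP, matEquiv_mul _ _ hdet hdetS hdetP,
    Dlat_trans (K := K) hdim, h2] at h1
  rw [Matrix.det_diagonal, ordFrac_prod _ _ (fun i _ => hc i)]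
  have h3 : ∀ i, CycAlg.ordFrac R K (algebraMap R K (a i)) =
      CycAlg.ordFrac R K (c i) + CycAlg.ordFrac R K (algebraMap R K (s i)) := by
    intro i
    rw [← hca i, ordFrac_mul (hc i) (hsK i)]
  simp_rw [h3, Finset.sum_add_distrib] at h1
  linarith

theorem Dlat_transvection (hdim : ringKrullDim R ≤ 1) (t : TransvectionStruct (Fin n) K)
    (hdet : t.toMatrix.det ≠ 0) :
    Dlat (L0 (R := R) n) (matEquiv t.toMatrix hdet) = 0 := by
  classical
  obtain ⟨p, q, hq, hpq⟩ := IsFractionRing.div_surjective (A := R) t.c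
  have hq0 : q ≠ 0 := nonZeroDivisors.ne_zero hq
  have hqK : algebraMap R K q ≠ 0 := algebraMap_ne_zero' hq0
  let y : Fin n → K := fun k => if k = t.i then (algebraMap R K q)⁻¹ else 1
  have hy : ∀ k, y k ≠ 0 := by
    intro k
    simp only [y]
    split_ifs
    · exact inv_ne_zero hqK
    · exact one_ne_zero
  have hdetY : (Matrix.diagonal y).det ≠ 0 := by
    rw [Matrix.det_diagonal, Finset.prod_ne_zero_iff]
    exact fun k _ => hy k
  let ZA : Matrix (Fin n) (Fin n) R := Matrix.transvection t.i t.j p
  let ZA' : Matrix (Fin n) (Fin n) R := Matrix.transvection t.i t.j (-p)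
  have hZZ : ZA * ZA' = 1 := by
    simp only [ZA, ZA']
    rw [Matrix.transvection_mul_transvection_same _ _ t.hij, add_neg_cancel,
      Matrix.transvection_zero]
  have hZmap : ZA.map (algebraMap R K) = Matrix.transvection t.i t.j (algebraMap R K p) := by
    simp only [ZA, Matrix.transvection]
    ext k l
    simp only [Matrix.map_apply, Matrix.add_apply, Matrix.one_apply, Matrix.single_apply, map_add]
    split_ifs <;> simp
  have hdetZ : (ZA.map (algebraMap R K)).det ≠ 0 := by
    rw [hZmap, Matrix.det_transvection_of_ne _ _ t.hij]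
    exact one_ne_zero
  have hcomm : t.toMatrix * Matrix.diagonal y = Matrix.diagonal y * ZA.map (algebraMap R K) := by
    rw [hZmap]
    ext k l
    rw [Matrix.mul_diagonal, Matrix.diagonal_mul]
    simp only [TransvectionStruct.toMatrix, Matrix.transvection, Matrix.add_apply,
      Matrix.one_apply, Matrix.single_apply]
    by_cases hkl : k = l
    · subst hkl
      have : ¬ (t.i = k ∧ t.j = k) := fun h => t.hij (h.1.trans h.2.symm)
      simp [this]
    · by_cases h2 : t.i = k ∧ t.j = l
      · obtain ⟨rfl, rfl⟩ := h2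
        have hji : ¬ (t.j = t.i) := fun h => t.hij h.symm
        simp only [hkl, if_false, and_self, if_true, zero_add, y, hji]
        rw [← hpq]
        field_simp
      · simp [hkl, h2]
  have hdetXY : (t.toMatrix * Matrix.diagonal y).det ≠ 0 := by
    rw [Matrix.det_mul]
    exact mul_ne_zero hdet hdetY
  have hdetYZ : (Matrix.diagonal y * ZA.map (algebraMap R K)).det ≠ 0 := by
    rw [← hcomm]; exact hdetXY
  have hequiv : (matEquiv (Matrix.diagonal y) hdetY).trans (matEquiv t.toMatrix hdet) =
      (matEquiv (ZA.map (algebraMap R K)) hdetZ).trans (matEquiv (Matrix.diagonal y) hdetY) := by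
    rw [← matEquiv_mul _ _ hdet hdetY hdetXY, ← matEquiv_mul _ _ hdetY hdetZ hdetYZ]
    exact matEquiv_congr hcomm _ _
  haveI := isLattice_mapL (R := R) (matEquiv (Matrix.diagonal y) hdetY) (L0 (R := R) n)
  rw [← Dlat_indep (K := K) hdim (L0 (R := R) n)
    (mapL (matEquiv (Matrix.diagonal y) hdetY) (L0 (R := R) n))]
  apply Dlat_eq_zero_of_mapL_eq
  rw [← mapL_trans, hequiv, mapL_trans, mapL_matEquiv_L0_of_inv ZA ZA' hZZ hdetZ]

theorem Dlat_matrix (hdim : ringKrullDim R ≤ 1) (X : Matrix (Fin n) (Fin n) K)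
    (hX : X.det ≠ 0) :
    Dlat (L0 (R := R) n) (matEquiv X hX) = CycAlg.ordFrac R K X.det := by
  haveI : Ring.KrullDimLE 1 R := Ring.krullDimLE_iff.mpr (by exact_mod_cast hdim)
  have key : ∀ hX' : X.det ≠ 0,
      Dlat (L0 (R := R) n) (matEquiv X hX') = CycAlg.ordFrac R K X.det := by
    refine Matrix.diagonal_transvection_induction_of_det_ne_zero
      (fun Y => ∀ hY : Y.det ≠ 0,
        Dlat (L0 (R := R) n) (matEquiv Y hY) = CycAlg.ordFrac R K Y.det) X hX ?_ ?_ ?_
    · intro c _ hc
      exact Dlat_diagonal hdim c hc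
    · intro t ht
      rw [Dlat_transvection hdim t ht, TransvectionStruct.det, ordFrac_one]
    · intro A B hA hB hPA hPB hAB
      rw [matEquiv_mul A B hA hB hAB, Dlat_trans (K := K) hdim, hPA hA, hPB hB, Matrix.det_mul,
        ordFrac_mul hA hB, add_comm]
  exact key hX

end Det

section Main

variable {R : Type u} [CommRing R] [IsDomain R] [IsNoetherianRing R] {K : Type u} [Field K]
  [Algebra R K] [IsFractionRing R K] {V : Type u} [AddCommGroup V] [Module K V] [Module R V]
  [IsScalarTower R K V] [FiniteDimensional K V]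

theorem Dlat_eq_ordFrac_det (hdim : ringKrullDim R ≤ 1) (M : Submodule R V)
    [Submodule.IsLattice K M] (φ : V ≃ₗ[K] V) :
    Dlat M φ = CycAlg.ordFrac R K (LinearMap.det φ.toLinearMap) := by
  classical
  let b := Module.finBasis K V
  let β : V ≃ₗ[K] (Fin (Module.finrank K V) → K) := b.equivFun
  let X := LinearMap.toMatrix b b φ.toLinearMap
  have hdetX : X.det = LinearMap.det φ.toLinearMap := LinearMap.det_toMatrix b _
  have hX : X.det ≠ 0 := by
    rw [hdetX]
    exact (LinearEquiv.isUnit_det' φ).ne_zero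
  have hconj : (β.symm.trans φ).trans β = matEquiv X hX := by
    ext v i
    rw [matEquiv_apply]
    simp only [LinearEquiv.trans_apply]
    have h1 := LinearMap.toMatrix_mulVec_repr b b φ.toLinearMap (β.symm v)
    have h2 : (b.repr (β.symm v) : Fin (Module.finrank K V) → K) = v :=
      (b.equivFun_apply _).symm.trans (β.apply_symm_apply v)
    rw [h2] at h1
    change _ = (X *ᵥ v) i
    rw [h1]
    rfl
  haveI := isLattice_mapL (R := R) β M
  rw [← Dlat_conj M β φ, hconj,
    Dlat_indep (K := K) hdim (L0 (R := R) (Module.finrank K V)) (mapL β M),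
    Dlat_matrix hdim X hX, hdetX]

theorem main_S14502 (hdim : ringKrullDim R ≤ 1) (M : Submodule R V) [Submodule.IsLattice K M]
    (φ : V ≃ₗ[K] V) :
    Submodule.IsLattice K (M.map (φ.toLinearMap.restrictScalars R)) ∧
      Module.length R (↥M ⧸ (M ⊓ M.map (φ.toLinearMap.restrictScalars R)).submoduleOf M) < ⊤ ∧
      Module.length R (↥(M.map (φ.toLinearMap.restrictScalars R)) ⧸
          (M ⊓ M.map (φ.toLinearMap.restrictScalars R)).submoduleOf
            (M.map (φ.toLinearMap.restrictScalars R))) < ⊤ ∧
      ((Module.length R (↥M ⧸ (M ⊓ M.map (φ.toLinearMap.restrictScalars R)).submoduleOf M)).toNat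
          : ℤ) -
          ((Module.length R (↥(M.map (φ.toLinearMap.restrictScalars R)) ⧸
            (M ⊓ M.map (φ.toLinearMap.restrictScalars R)).submoduleOf
              (M.map (φ.toLinearMap.restrictScalars R)))).toNat : ℤ) =
        CycAlg.ordFrac R K (LinearMap.det φ.toLinearMap) := by
  haveI h1 : Submodule.IsLattice K (mapL φ M) := isLattice_mapL φ M
  haveI h2 : Submodule.IsLattice K (M ⊓ mapL φ M) := isLattice_inf M (mapL φ M)
  refine ⟨h1, ?_, ?_, ?_⟩
  · exact (length_quot_ne_top_of_isLattice (K := K) hdim (M ⊓ mapL φ M) M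
      Submodule.IsLattice.fg).lt_top
  · exact (length_quot_ne_top_of_isLattice (K := K) hdim (M ⊓ mapL φ M) (mapL φ M)
      Submodule.IsLattice.fg).lt_top
  · exact Dlat_eq_ordFrac_det hdim M φ

end Main

end Groth.Agent.Helper6.Dim1
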