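import Mathlib
import Groth.Agent.Helper6.Dim1Det

set_option autoImplicit false

/-!
`l_A(B/rB) = ord_A (N_{L/K} r)` for a finite extension `B` of a one-dimensional Noetherian
domain `A`.
-/

namespace Groth.Agent.Helper6.Dim1

open Function
open scoped Pointwise

universe u

variable {A : Type u} [CommRing A] [IsDomain A] [IsNoetherianRing A] {B : Type u} [CommRing B]
  [IsDomain B] [Algebra A B] [Module.Finite A B]
  {K L : Type u} [Field K] [Field L] [Algebra A K] [IsFractionRing A K] [Algebra B L]
  [IsFractionRing B L] [Algebra K L] [Algebra A L] [IsScalarTower A B L] [IsScalarTower A K L]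
  [FiniteDimensional K L]

/-- the inclusion of `B` in `L` as an `A`-linear map. -/
def iotaB (A : Type u) [CommRing A] (B : Type u) [CommRing B] [Algebra A B] (L : Type u) [Field L]
    [Algebra B L] [Algebra A L] [IsScalarTower A B L] : B →ₗ[A] L :=
  (IsScalarTower.toAlgHom A B L).toLinearMap

theorem iotaB_apply (b : B) : iotaB A B L b = algebraMap B L b := rfl

theorem iotaB_injective : Injective (iotaB A B L) := IsFractionRing.injective B L

theorem exists_smul_mem_range (_hinj : Injective (algebraMap A B)) (x : L) :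
    ∃ a : A, a ≠ 0 ∧ a • x ∈ LinearMap.range (iotaB A B L) := by
  obtain ⟨b, b', hb', rfl⟩ := IsFractionRing.div_surjective (A := B) x
  have hb'0 : b' ≠ 0 := nonZeroDivisors.ne_zero hb'
  haveI : Algebra.IsIntegral A B := Algebra.IsIntegral.of_finite A B
  have hne : (Ideal.span {b'}).comap (algebraMap A B) ≠ ⊥ :=
    Ideal.comap_ne_bot_of_integral_mem hb'0 (Ideal.mem_span_singleton_self b')
      (Algebra.IsIntegral.isIntegral b')
  obtain ⟨a, ha, ha0⟩ := Submodule.exists_mem_ne_zero_of_ne_bot hne
  rw [Ideal.mem_comap, Ideal.mem_span_singleton'] at ha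
  obtain ⟨c, hc⟩ := ha
  refine ⟨a, ha0, ⟨c * b, ?_⟩⟩
  have hb'L : algebraMap B L b' ≠ 0 := by
    intro h0
    exact hb'0 ((IsFractionRing.injective B L) (by rw [h0, map_zero]))
  rw [iotaB_apply, Algebra.smul_def, IsScalarTower.algebraMap_apply A B L, ← hc, map_mul, map_mul]
  field_simp

theorem isLattice_range_iotaB (hinj : Injective (algebraMap A B)) :
    Submodule.IsLattice K (LinearMap.range (iotaB A B L)) where
  fg := by
    rw [LinearMap.range_eq_map]
    exact Submodule.FG.map _ Module.Finite.fg_top
  span_eq_top := by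
    rw [eq_top_iff]
    intro x _
    obtain ⟨a, ha, hax⟩ := exists_smul_mem_range (A := A) (B := B) hinj x
    have haK : algebraMap A K a ≠ 0 := algebraMap_ne_zero' ha
    have : x = (algebraMap A K a)⁻¹ • (a • x) := by
      rw [← algebraMap_smul K a, smul_smul, inv_mul_cancel₀ haK, one_smul]
    rw [this]
    exact Submodule.smul_mem _ _ (Submodule.subset_span hax)

/-- multiplication by a nonzero element as a `K`-linear automorphism. -/
noncomputable def mulEquiv (K : Type u) [Field K] {L : Type u} [Field L] [Algebra K L] (ρ : L)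
    (hρ : ρ ≠ 0) : L ≃ₗ[K] L :=
  LinearEquiv.ofLinearMap (Algebra.lmul K L ρ) (Algebra.lmul K L ρ⁻¹)
    (by ext x; simp [hρ]) (by ext x; simp [hρ])

theorem mulEquiv_apply (ρ : L) (hρ : ρ ≠ 0) (x : L) : mulEquiv K ρ hρ x = ρ * x := rfl

theorem mulEquiv_toLinearMap (ρ : L) (hρ : ρ ≠ 0) :
    (mulEquiv K ρ hρ).toLinearMap = Algebra.lmul K L ρ := rfl

theorem main_S14503 (hdim : ringKrullDim A ≤ 1) (hinj : Injective (algebraMap A B)) (r : B)
    (hr : r ≠ 0) :
    Module.length A (B ⧸ Ideal.span {r}) < ⊤ ∧
      ((Module.length A (B ⧸ Ideal.span {r})).toNat : ℤ) =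
        CycAlg.ordFrac A K (Algebra.norm K (algebraMap B L r)) := by
  have hρ : algebraMap B L r ≠ 0 := by
    intro h0
    exact hr ((IsFractionRing.injective B L) (by rw [h0, map_zero]))
  haveI hlat : Submodule.IsLattice K (LinearMap.range (iotaB A B L)) :=
    isLattice_range_iotaB (A := A) (B := B) (K := K) (L := L) hinj
  set M : Submodule A L := LinearMap.range (iotaB A B L) with hM
  set φ := mulEquiv K (algebraMap B L r) hρ with hφ
  set P : Submodule A B := (Ideal.span {r}).restrictScalars A with hP
  have hmap : mapL φ M = P.map (iotaB A B L) := by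
    ext y
    constructor
    · rintro ⟨_, ⟨b, rfl⟩, rfl⟩
      refine ⟨r * b, ?_, ?_⟩
      · exact Ideal.mul_mem_right _ _ (Ideal.mem_span_singleton_self r)
      · rw [iotaB_apply, map_mul]
        rfl
    · rintro ⟨b, hb, rfl⟩
      obtain ⟨c, rfl⟩ := Ideal.mem_span_singleton'.mp hb
      refine ⟨iotaB A B L c, ⟨c, rfl⟩, ?_⟩
      change algebraMap B L r * algebraMap B L c = algebraMap B L (c * r)
      rw [map_mul, mul_comm]
  have hlen : Module.length A (B ⧸ Ideal.span {r}) = Module.length A (B ⧸ P) :=
    (Submodule.Quotient.restrictScalarsEquiv A (Ideal.span {r})).length_eq.symm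
  have hle : mapL φ M ≤ M := by
    rw [hmap]
    exact LinearMap.map_le_range
  have hcolen : colen M (mapL φ M) = (Module.length A (B ⧸ P)).toNat := by
    rw [hmap]
    exact colen_range_map _ iotaB_injective P
  have hD := Dlat_eq_ordFrac_det hdim M φ
  unfold Dlat at hD
  rw [ldist_of_le _ _ hle, hcolen] at hD
  refine ⟨?_, ?_⟩
  · rw [hlen]
    haveI := isLattice_mapL (R := A) φ M
    have h1 := length_quot_ne_top_of_isLattice (K := K) hdim (mapL φ M) M
      Submodule.IsLattice.fg
    have h2 : Module.length A (B ⧸ P) = Module.length A (↥M ⧸ Submodule.comap M.subtype (mapL φ M)) := by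
      rw [hmap]
      refine (Submodule.Quotient.equiv _ _ (LinearEquiv.ofInjective (iotaB A B L) iotaB_injective) ?_).length_eq
      ext y
      constructor
      · rintro ⟨z, hz, rfl⟩
        exact ⟨z, hz, rfl⟩
      · rintro ⟨z, hz, hzy⟩
        obtain ⟨w, rfl⟩ := (LinearEquiv.ofInjective (iotaB A B L) iotaB_injective).surjective y
        have : w = z := iotaB_injective hzy.symm
        subst this
        exact ⟨w, hz, rfl⟩
    rw [h2]
    exact h1.lt_top
  · rw [hlen, hD, Algebra.norm_apply]
    rfl

end Groth.Agent.Helper6.Dim1
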