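import Groth.Agent.Helper6.AffDim2

/-!
# The affine dimension theorem, part 3: heights
-/

set_option autoImplicit false
universe u

namespace Groth.Agent.Helper6.AffDim

open MvPolynomial

variable (k : Type u) [Field k] (N : ℕ) {B : Type u} [CommRing B] [Algebra k B]

section Heights

variable [IsNoetherianRing B]

theorem height_le_of_mem_minimalPrimes (P : Ideal (MvPolynomial (Fin N) k)) [hP : P.IsPrime]
    (𝔓₀ : Ideal (MvPolynomial (Fin N) B))
    (h𝔓₀ : 𝔓₀ ∈ (P.map (ι k N (B := B))).minimalPrimes) : 𝔓₀.height ≤ P.height := by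
  letI : Algebra (MvPolynomial (Fin N) k) (MvPolynomial (Fin N) B) :=
    MvPolynomial.algebraMvPolynomial
  have hι : algebraMap (MvPolynomial (Fin N) k) (MvPolynomial (Fin N) B) = ι k N := rfl
  haveI : Module.Flat (MvPolynomial (Fin N) k) (MvPolynomial (Fin N) B) :=
    Module.Flat.isBaseChange k (MvPolynomial (Fin N) k) B (MvPolynomial (Fin N) B)
      (inferInstance : Algebra.IsPushout k (MvPolynomial (Fin N) k) B (MvPolynomial (Fin N) B)).out
  rw [← hι] at h𝔓₀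
  haveI h𝔓₀prime : 𝔓₀.IsPrime := h𝔓₀.1.1
  have hPle : P ≤ 𝔓₀.under (MvPolynomial (Fin N) k) := by
    rw [Ideal.under, ← Ideal.map_le_iff_le_comap]
    exact h𝔓₀.1.2
  haveI : 𝔓₀.LiesOver (𝔓₀.under (MvPolynomial (Fin N) k)) := ⟨rfl⟩
  obtain ⟨𝔓₁, h1le, h1prime, h1over⟩ :=
    Ideal.exists_ideal_le_liesOver_of_le (p := P) (q := 𝔓₀.under (MvPolynomial (Fin N) k)) 𝔓₀ hPle
  have h1map : P.map (algebraMap (MvPolynomial (Fin N) k) (MvPolynomial (Fin N) B)) ≤ 𝔓₁ := by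
    rw [Ideal.map_le_iff_le_comap]
    exact (h1over.over).le
  have heq : 𝔓₁ = 𝔓₀ := le_antisymm h1le (h𝔓₀.2 ⟨h1prime, h1map⟩ h1le)
  subst heq
  have h := Ideal.height_le_height_add_of_liesOver P 𝔓₁
  have h0 : (𝔓₁.map (Ideal.Quotient.mk (P.map (algebraMap (MvPolynomial (Fin N) k)
      (MvPolynomial (Fin N) B))))).height = 0 := by
    haveI : (𝔓₁.map (Ideal.Quotient.mk (P.map (algebraMap (MvPolynomial (Fin N) k)
        (MvPolynomial (Fin N) B))))).IsPrime :=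
      Ideal.isPrime_map_quotientMk_of_isPrime h𝔓₀.1.2
    rw [Ideal.height_eq_zero_iff]
    have h2 := Ideal.comap_minimalPrimes_eq_of_surjective
      (f := Ideal.Quotient.mk (P.map (algebraMap (MvPolynomial (Fin N) k)
        (MvPolynomial (Fin N) B)))) Ideal.Quotient.mk_surjective ⊥
    rw [← RingHom.ker_eq_comap_bot, Ideal.mk_ker] at h2
    rw [h2] at h𝔓₀
    obtain ⟨q', hq', hq'eq⟩ := h𝔓₀
    rw [← hq'eq, Ideal.map_comap_of_surjective _ Ideal.Quotient.mk_surjective]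
    exact hq'
  rw [h0, add_zero] at h
  exact h

end Heights

section Main

theorem exists_nat_eq {x : WithBot ℕ∞} (h0 : 0 ≤ x) {n : ℕ} (h : x ≤ (n : WithBot ℕ∞)) :
    ∃ d : ℕ, x = (d : WithBot ℕ∞) := by
  induction x using WithBot.recBotCoe with
  | bot => simp at h0
  | coe m =>
    have h1 : m ≤ (n : ℕ∞) := by exact_mod_cast h
    obtain ⟨d, rfl⟩ := ENat.ne_top_iff_exists.1 (ne_top_of_le_ne_top (ENat.natCast_ne_top _) h1)
    exact ⟨d, rfl⟩

variable [IsDomain B] [Algebra.FiniteType k B] (π : MvPolynomial (Fin N) k →ₐ[k] B)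

theorem main_aux (hπ : Function.Surjective π) (P Q 𝔮 : Ideal (MvPolynomial (Fin N) k))
    [hP : P.IsPrime] (h𝔮 : 𝔮 ∈ (P ⊔ Q).minimalPrimes) (hQ : ∀ r, r ∈ Q → π r = 0)
    (φ : B →+* MvPolynomial (Fin N) k ⧸ 𝔮) (hφ : ∀ r, φ (π r) = Ideal.Quotient.mk 𝔮 r) :
    ringKrullDim (MvPolynomial (Fin N) k ⧸ P) + ringKrullDim B ≤
      ringKrullDim (MvPolynomial (Fin N) k ⧸ 𝔮) + (N : WithBot ℕ∞) := by
  classical
  haveI : IsNoetherianRing B := Algebra.FiniteType.isNoetherianRing k B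
  haveI h𝔮prime : 𝔮.IsPrime := h𝔮.1.1
  haveI : Algebra.FiniteType k (MvPolynomial (Fin N) B) :=
    Algebra.FiniteType.trans (inferInstance : Algebra.FiniteType k B) inferInstance
  -- the prime of the diagonal
  set 𝔔 := RingHom.ker (δ k N 𝔮 φ) with h𝔔
  have h𝔔min := ker_mem_minimalPrimes k N π P Q 𝔮 h𝔮 hQ hπ φ hφ
  haveI h𝔔prime : 𝔔.IsPrime := h𝔔min.1.1
  obtain ⟨𝔓₀, h𝔓₀min, h𝔓₀le⟩ := Ideal.exists_minimalPrimes_le
    (show P.map (ι k N (B := B)) ≤ 𝔔 from le_sup_left.trans h𝔔min.1.2)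
  haveI h𝔓₀prime : 𝔓₀.IsPrime := h𝔓₀min.1.1
  -- generators of the point ideal
  set sΔ : Finset (MvPolynomial (Fin N) B) :=
    Finset.univ.image (fun i : Fin N => X i - C (xbar k N π i)) with hsΔ
  have hsΔcoe : (sΔ : Set (MvPolynomial (Fin N) B)) =
      Set.range fun i : Fin N => (X i - C (xbar k N π i) : MvPolynomial (Fin N) B) := by
    rw [hsΔ, Finset.coe_image, Finset.coe_univ, Set.image_univ]
  have hsΔcard : sΔ.card ≤ N := by
    refine Finset.card_image_le.trans ?_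
    rw [Finset.card_univ, Fintype.card_fin]
  have h𝔔min' : 𝔔 ∈ (𝔓₀ ⊔ Ideal.span (sΔ : Set (MvPolynomial (Fin N) B))).minimalPrimes := by
    rw [hsΔcoe]
    refine ⟨⟨h𝔔prime, sup_le h𝔓₀le (le_sup_right.trans h𝔔min.1.2)⟩, ?_⟩
    rintro 𝔔' ⟨h𝔔'prime, h𝔔'le⟩ hle
    exact h𝔔min.2 ⟨h𝔔'prime, sup_le (h𝔓₀min.1.2.trans (le_sup_left.trans h𝔔'le))
      (le_sup_right.trans h𝔔'le)⟩ hle
  -- the five facts
  have F1 := Groth.Agent.Helper5.FtDim.height_add_dim_quotient k (MvPolynomial (Fin N) B) 𝔓₀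
  have F2 : ringKrullDim (MvPolynomial (Fin N) B) = ringKrullDim B + (N : WithBot ℕ∞) := by
    rw [MvPolynomial.ringKrullDim_of_isNoetherianRing, Nat.card_fin]
  have F3 := Groth.Agent.Helper5.FtDim.height_add_dim_quotient k (MvPolynomial (Fin N) k) P
  rw [Groth.Agent.Helper5.DimBC.dim_mvPolynomial] at F3
  have F4 := dim_drop_le k (MvPolynomial (Fin N) B) 𝔓₀ sΔ 𝔔 h𝔔min'
  have F5 : ringKrullDim (MvPolynomial (Fin N) B ⧸ 𝔔) =
      ringKrullDim (MvPolynomial (Fin N) k ⧸ 𝔮) :=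
    ringKrullDim_eq_of_ringEquiv
      (RingHom.quotientKerEquivOfSurjective (δ_surjective k N π 𝔮 φ hφ))
  have F6 := height_le_of_mem_minimalPrimes k N P 𝔓₀ h𝔓₀min
  -- natural numbers
  have hdimR : ringKrullDim (MvPolynomial (Fin N) k) = (N : WithBot ℕ∞) :=
    Groth.Agent.Helper5.DimBC.dim_mvPolynomial k N
  obtain ⟨a, ha⟩ := exists_nat_eq (x := ringKrullDim (MvPolynomial (Fin N) k ⧸ P))
    (haveI : Nontrivial (MvPolynomial (Fin N) k ⧸ P) := Ideal.Quotient.nontrivial_iff.2 hP.ne_top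
     ringKrullDim_nonneg_of_nontrivial) (n := N) (hdimR ▸ ringKrullDim_quotient_le P)
  obtain ⟨c, hc⟩ := exists_nat_eq (x := ringKrullDim (MvPolynomial (Fin N) k ⧸ 𝔮))
    (haveI : Nontrivial (MvPolynomial (Fin N) k ⧸ 𝔮) :=
      Ideal.Quotient.nontrivial_iff.2 h𝔮prime.ne_top
     ringKrullDim_nonneg_of_nontrivial) (n := N) (hdimR ▸ ringKrullDim_quotient_le 𝔮)
  obtain ⟨b, hb⟩ := exists_nat_eq (x := ringKrullDim B) ringKrullDim_nonneg_of_nontrivial (n := N)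
    (hdimR ▸ ringKrullDim_le_of_surjective (π : MvPolynomial (Fin N) k →+* B) hπ)
  rw [hb] at F2
  obtain ⟨e, he⟩ := exists_nat_eq (x := ringKrullDim (MvPolynomial (Fin N) B ⧸ 𝔓₀))
    (haveI : Nontrivial (MvPolynomial (Fin N) B ⧸ 𝔓₀) :=
      Ideal.Quotient.nontrivial_iff.2 h𝔓₀prime.ne_top
     ringKrullDim_nonneg_of_nontrivial) (n := b + N)
    (by rw [Nat.cast_add, ← F2]; exact ringKrullDim_quotient_le 𝔓₀)
  obtain ⟨hP', hhP⟩ := ENat.ne_top_iff_exists.mp (Ideal.height_ne_top_of_isPrime (I := P))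
  obtain ⟨h0, hh0⟩ := ENat.ne_top_iff_exists.mp (Ideal.height_ne_top_of_isPrime (I := 𝔓₀))
  rw [he, F2, ← hh0, ENat.WithBot.coe_eq_natCast] at F1
  rw [ha, ← hhP, ENat.WithBot.coe_eq_natCast] at F3
  rw [he, F5, hc] at F4
  rw [← hh0, ← hhP] at F6
  rw [ha, hb, hc]
  have G1 : h0 + e = b + N := by exact_mod_cast F1
  have G3 : hP' + a = N := by exact_mod_cast F3
  have G4 : e ≤ c + sΔ.card := by exact_mod_cast F4
  have G6 : h0 ≤ hP' := by exact_mod_cast F6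
  have : a + b ≤ c + N := by omega
  exact_mod_cast this

end Main

/-- **The affine dimension theorem**: every irreducible component of `V(P) ∩ V(Q)` in affine
`N`-space has dimension at least `dim V(P) + dim V(Q) - N`. -/
theorem affine_dimension_theorem (P Q 𝔮 : Ideal (MvPolynomial (Fin N) k)) [hP : P.IsPrime]
    [hQ : Q.IsPrime] (h𝔮 : 𝔮 ∈ (P ⊔ Q).minimalPrimes) :
    ringKrullDim (MvPolynomial (Fin N) k ⧸ P) + ringKrullDim (MvPolynomial (Fin N) k ⧸ Q) ≤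
      ringKrullDim (MvPolynomial (Fin N) k ⧸ 𝔮) + (N : WithBot ℕ∞) :=
  main_aux k N (B := MvPolynomial (Fin N) k ⧸ Q) (Ideal.Quotient.mkₐ k Q)
    (Ideal.Quotient.mkₐ_surjective k Q) P Q 𝔮 h𝔮
    (fun r hr => Ideal.Quotient.eq_zero_iff_mem.2 hr)
    (Ideal.Quotient.factor (le_sup_right.trans h𝔮.1.2))
    (fun r => Ideal.Quotient.factor_mk _ r)

end Groth.Agent.Helper6.AffDim
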