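import Mathlib
import Groth.Agent.Helper6.AffDim3
import Groth.Agent.Helper6.ProjDim1

/-!
# The affine dimension theorem, topological form
-/

set_option autoImplicit false
universe u

namespace Groth.Agent.Helper6.AffDim

open TopologicalSpace

section General

variable {α : Type*} [TopologicalSpace α]

/-- irreducible components of a closed subset of a quasi-sober space have generic points which are
minimal for specialization -/
theorem exists_point_of_mem_irreducibleComponents [QuasiSober α] (W : Set α) (hW : IsClosed W)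
    (C : Set ↥W) (hC : C ∈ irreducibleComponents ↥W) :
    ∃ x : α, x ∈ W ∧ (∀ y ∈ W, y ⤳ x → x ⤳ y) ∧ Subtype.val '' C = closure {x} := by
  have hCc : IsClosed C := isClosed_of_mem_irreducibleComponents C hC
  obtain ⟨x, hx⟩ := QuasiSober.sober (hC.1.image _ continuous_subtype_val.continuousOn)
    (hW.isClosedMap_subtype_val _ hCc)
  have hx' : closure {x} = Subtype.val '' C := hx.def
  have hxC : x ∈ Subtype.val '' C := by
    rw [← hx']
    exact subset_closure rfl
  have hxW : x ∈ W := by
    obtain ⟨c, -, rfl⟩ := hxC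
    exact c.2
  refine ⟨x, hxW, fun y hy hyx => ?_, hx'.symm⟩
  have hyW : closure {y} ⊆ W := hW.closure_subset_iff.2 (Set.singleton_subset_iff.2 hy)
  have h1 := ProjDim.isIrreducible_preimage_val (isIrreducible_singleton (x := y)).closure hyW
  have h2 : C ⊆ Subtype.val ⁻¹' (closure {y}) := by
    intro c hc
    have hcx : (c : α) ∈ closure {x} := by
      rw [hx']
      exact ⟨c, hc, rfl⟩
    have hxy : closure {x} ⊆ closure {y} :=
      isClosed_closure.closure_subset_iff.2 (Set.singleton_subset_iff.2 hyx.mem_closure)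
    exact hxy hcx
  have h3 := hC.2 h1 h2
  have h4 : y ∈ Subtype.val '' C := by
    have : (⟨y, hy⟩ : ↥W) ∈ Subtype.val ⁻¹' (closure {y}) := by
      change y ∈ closure {y}
      exact subset_closure rfl
    exact ⟨⟨y, hy⟩, h3 this, rfl⟩
  rw [← hx'] at h4
  exact specializes_iff_mem_closure.2 h4

/-- every point of a closed subset lies on an irreducible component -/
theorem exists_component_of_mem [QuasiSober α] (W : Set α) (hW : IsClosed W) (z : α) (hz : z ∈ W) :
    ∃ C ∈ irreducibleComponents ↥W, ∃ x : α, x ∈ W ∧ x ⤳ z ∧ Subtype.val '' C = closure {x} := by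
  refine ⟨irreducibleComponent (⟨z, hz⟩ : ↥W), irreducibleComponent_mem_irreducibleComponents _, ?_⟩
  obtain ⟨x, hxW, -, hx⟩ := exists_point_of_mem_irreducibleComponents W hW _
    (irreducibleComponent_mem_irreducibleComponents (⟨z, hz⟩ : ↥W))
  refine ⟨x, hxW, ?_, hx⟩
  rw [specializes_iff_mem_closure, ← hx]
  exact ⟨⟨z, hz⟩, mem_irreducibleComponent, rfl⟩

end General

theorem dim_zeroLocus {R : Type*} [CommRing R] (I : Ideal R) :
    topologicalKrullDim ↥(PrimeSpectrum.zeroLocus (I : Set R)) = ringKrullDim (R ⧸ I) := by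
  have hs : Function.Surjective (Ideal.Quotient.mk I) := Ideal.Quotient.mk_surjective
  have hemb := PrimeSpectrum.isClosedEmbedding_comap_of_surjective (R ⧸ I) (Ideal.Quotient.mk I) hs
  have hr : Set.range (PrimeSpectrum.comap (Ideal.Quotient.mk I)) =
      PrimeSpectrum.zeroLocus (I : Set R) := by
    rw [_root_.range_comap_of_surjective _ _ hs, Ideal.mk_ker]
  rw [← PrimeSpectrum.topologicalKrullDim_eq_ringKrullDim, ← hr]
  exact (IsHomeomorph.topologicalKrullDim_eq _ hemb.isEmbedding.toHomeomorph.isHomeomorph).symm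

theorem dim_closure_point {α : Type*} [TopologicalSpace α] {R : Type*} [CommRing R]
    (e : α ≃ₜ PrimeSpectrum R) (x : α) :
    topologicalKrullDim ↥(closure ({x} : Set α)) = ringKrullDim (R ⧸ (e x).asIdeal) := by
  rw [← dim_zeroLocus, ← PrimeSpectrum.closure_singleton, ← Set.image_singleton,
    ← e.image_closure]
  exact IsHomeomorph.topologicalKrullDim_eq _ (e.image (closure {x})).isHomeomorph

/-- the affine dimension theorem for a space homeomorphic to `Spec k[x_1..x_N]` -/
theorem main (k : Type u) [Field k] (N : ℕ) {α : Type*} [TopologicalSpace α]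
    (e : α ≃ₜ PrimeSpectrum (MvPolynomial (Fin N) k)) (r s : ℕ)
    (X Y : Set α) (hX : IsClosed X) (hY : IsClosed Y)
    (hXr : ∀ Z ∈ irreducibleComponents ↥X, topologicalKrullDim ↥Z = r)
    (hYs : ∀ Z ∈ irreducibleComponents ↥Y, topologicalKrullDim ↥Z = s)
    (Z : Set ↥(X ∩ Y)) (hZ : Z ∈ irreducibleComponents ↥(X ∩ Y)) :
    ((r + s : ℕ) : WithBot ℕ∞) ≤ topologicalKrullDim ↥Z + (N : WithBot ℕ∞) := by
  haveI : QuasiSober α := e.isClosedEmbedding.quasiSober
  obtain ⟨z, hzW, hzmin, hzZ⟩ := exists_point_of_mem_irreducibleComponents (X ∩ Y)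
    (hX.inter hY) Z hZ
  obtain ⟨C, hC, p, hpX, hpz, hpC⟩ := exists_component_of_mem X hX z hzW.1
  obtain ⟨D, hD, q, hqY, hqz, hqD⟩ := exists_component_of_mem Y hY z hzW.2
  have hdZ : topologicalKrullDim ↥Z = ringKrullDim (MvPolynomial (Fin N) k ⧸ (e z).asIdeal) := by
    rw [ProjDim.dim_image, hzZ, dim_closure_point e]
  have hdC : ringKrullDim (MvPolynomial (Fin N) k ⧸ (e p).asIdeal) = r := by
    rw [← dim_closure_point e, ← hpC, ← ProjDim.dim_image, hXr C hC]
  have hdD : ringKrullDim (MvPolynomial (Fin N) k ⧸ (e q).asIdeal) = s := by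
    rw [← dim_closure_point e, ← hqD, ← ProjDim.dim_image, hYs D hD]
  have hpz' : (e p).asIdeal ≤ (e z).asIdeal :=
    (PrimeSpectrum.asIdeal_le_asIdeal _ _).2
      ((PrimeSpectrum.le_iff_specializes _ _).2 (hpz.map e.continuous))
  have hqz' : (e q).asIdeal ≤ (e z).asIdeal :=
    (PrimeSpectrum.asIdeal_le_asIdeal _ _).2
      ((PrimeSpectrum.le_iff_specializes _ _).2 (hqz.map e.continuous))
  have hmin : (e z).asIdeal ∈ ((e p).asIdeal ⊔ (e q).asIdeal).minimalPrimes := by
    refine ⟨⟨(e z).isPrime, sup_le hpz' hqz'⟩, ?_⟩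
    rintro 𝔮' ⟨h𝔮', hle⟩ h𝔮z
    set y : α := e.symm ⟨𝔮', h𝔮'⟩ with hy
    have hey : e y = ⟨𝔮', h𝔮'⟩ := e.apply_symm_apply _
    have hpy : p ⤳ y := by
      have : e p ⤳ e y := by
        rw [← PrimeSpectrum.le_iff_specializes, ← PrimeSpectrum.asIdeal_le_asIdeal, hey]
        exact le_sup_left.trans hle
      simpa using this.map e.symm.continuous
    have hqy : q ⤳ y := by
      have : e q ⤳ e y := by
        rw [← PrimeSpectrum.le_iff_specializes, ← PrimeSpectrum.asIdeal_le_asIdeal, hey]
        exact le_sup_right.trans hle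
      simpa using this.map e.symm.continuous
    have hyz : y ⤳ z := by
      have : e y ⤳ e z := by
        rw [← PrimeSpectrum.le_iff_specializes, ← PrimeSpectrum.asIdeal_le_asIdeal, hey]
        exact h𝔮z
      simpa using this.map e.symm.continuous
    have hyX : y ∈ X := hpy.mem_closed hX hpX
    have hyY : y ∈ Y := hqy.mem_closed hY hqY
    have hzy : z ⤳ y := hzmin y ⟨hyX, hyY⟩ hyz
    have := (PrimeSpectrum.asIdeal_le_asIdeal _ _).2
      ((PrimeSpectrum.le_iff_specializes _ _).2 (hzy.map e.continuous))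
    rw [hey] at this
    exact this
  have key := affine_dimension_theorem k N (e p).asIdeal (e q).asIdeal (e z).asIdeal hmin
  rw [hdC, hdD, ← hdZ] at key
  calc ((r + s : ℕ) : WithBot ℕ∞) = (r : WithBot ℕ∞) + (s : WithBot ℕ∞) := by push_cast; rfl
    _ ≤ _ := key

end Groth.Agent.Helper6.AffDim
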