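import Mathlib
import Groth.Prelude
import Groth.Agent.Helper6.FlatCaten

/-!
# Equidimensionality of `A'/aA'` versus `A/a` for a flat local homomorphism with
zero-dimensional closed fibre
-/

set_option autoImplicit false
universe u

namespace Groth.Agent.Helper6.FlatCaten

open IsLocalRing

section DimFormula

/-- `dim R = dim R/p + ht p` for all primes `p` -/
def DimFormula (R : Type u) [CommRing R] : Prop :=
  ∀ p : PrimeSpectrum R, ringKrullDim R =
    ringKrullDim (R ⧸ p.asIdeal) + ((p.asIdeal.height : ℕ∞) : WithBot ℕ∞)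

theorem dimFormula_of_catenary_equidim {R : Type u} [CommRing R] [IsLocalRing R]
    [IsNoetherianRing R] (hcat : CAlg.IsCatenary R) (heq : EGA4.IsEquidim R) : DimFormula R := by
  intro p
  rw [← Groth.Agent.Helper2.Caten2.height_add_coheight_eq hcat heq p,
    Groth.Agent.Helper2.Caten.dimQuot_eq_coheight p, PrimeSpectrum.height_eq_orderHeight,
    add_comm]
  rfl

theorem dimFormula_le {R : Type u} [CommRing R] (p : PrimeSpectrum R) :
    ringKrullDim (R ⧸ p.asIdeal) + ((p.asIdeal.height : ℕ∞) : WithBot ℕ∞) ≤ ringKrullDim R := by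
  rw [Groth.Agent.Helper2.Caten.dimQuot_eq_coheight p, PrimeSpectrum.height_eq_orderHeight,
    add_comm]
  exact Groth.Agent.Helper2.Caten2.height_add_coheight_le p

end DimFormula

variable {A A' : Type u} [CommRing A] [CommRing A'] [IsNoetherianRing A] [IsNoetherianRing A']
  [IsLocalRing A] [IsLocalRing A'] [Algebra A A'] [IsLocalHom (algebraMap A A')]
  [Module.Flat A A']

theorem dimFormula_of_flat (h : DimFormula A') : DimFormula A := by
  intro p
  apply le_antisymm _ (dimFormula_le p)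
  obtain ⟨P, hP⟩ := exists_minimal_over_map (A' := A') p.asIdeal (Ideal.IsPrime.ne_top inferInstance)
  haveI : P.IsPrime := hP.1.1
  have h1 := Groth.Agent.Helper5.FlatEquidim.height_of_minimal_over_map p.asIdeal P hP
  have h2 := h ⟨P, hP.1.1⟩
  have h3 := dim_le_quot_add p.asIdeal P hP.1.2
  have h4 := dim_eq_add (A := A) (A' := A')
  haveI : Nontrivial (A' ⧸ (maximalIdeal A).map (algebraMap A A')) :=
    Ideal.Quotient.nontrivial_iff.mpr (map_ne_top _ (maximalIdeal.isMaximal A).ne_top)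
  obtain ⟨f, hf⟩ := exists_nat_dim (A' ⧸ (maximalIdeal A).map (algebraMap A A'))
  obtain ⟨a, ha⟩ := exists_nat_dim A
  obtain ⟨c, hc⟩ := exists_nat_dim (A ⧸ p.asIdeal)
  obtain ⟨c', hc'⟩ := exists_nat_dim (A' ⧸ P)
  obtain ⟨n, hn⟩ := ENat.ne_top_iff_exists.1 (Ideal.height_ne_top_of_isPrime (I := p.asIdeal))
  show ringKrullDim A ≤ ringKrullDim (A ⧸ p.asIdeal) + ((p.asIdeal.height : ℕ∞) : WithBot ℕ∞)
  change ringKrullDim A' = ringKrullDim (A' ⧸ P) + ((P.height : ℕ∞) : WithBot ℕ∞) at h2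
  rw [h1, h4, hf, ha, hc', ← hn] at h2
  rw [hf, hc, hc'] at h3
  rw [ha, hc, ← hn]
  have e2 : a + f = c' + n := by exact_mod_cast h2
  have e3 : c' ≤ c + f := by exact_mod_cast h3
  have : a ≤ c + n := by omega
  exact_mod_cast this

/-- going-down for `A/a → A'/aA'` -/
theorem hasGoingDown_quot_map (a : Ideal A) :
    @Algebra.HasGoingDown (A ⧸ a) (A' ⧸ a.map (algebraMap A A')) _ _
      (Groth.Agent.Helper6.FlatDimRing.quotAlgebra a (a.map (algebraMap A A')) le_rfl) := by
  refine Groth.Agent.Helper6.FlatGD.hasGoingDown_quot a (a.map (algebraMap A A')) le_rfl ?_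
  intro Q hQ hKQ p hp hap hlt
  have hgd : Algebra.HasGoingDown A A' := Algebra.HasGoingDown.of_flat
  have : Q.LiesOver (Q.under A) := ⟨rfl⟩
  obtain ⟨P, hPle, hPp, hPlo⟩ := Ideal.exists_ideal_le_liesOver_of_le (p := p)
    (q := Q.under A) Q hlt.le
  refine ⟨P, hPp, ?_, hPle, ?_⟩
  · rw [Ideal.map_le_iff_le_comap]
    refine hap.trans ?_
    rw [← Ideal.under_def, ← hPlo.over]
  · rw [← Ideal.under_def, ← hPlo.over]

theorem dim_quot_map_eq (a : Ideal A) (ha : a ≠ ⊤) :
    ringKrullDim (A' ⧸ a.map (algebraMap A A')) = ringKrullDim (A ⧸ a) +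
      ringKrullDim (A' ⧸ (maximalIdeal A).map (algebraMap A A')) := by
  have h := Groth.Agent.Helper6.FlatDimRing.dim_quot_eq a (a.map (algebraMap A A')) le_rfl
    (map_ne_top a ha) (hasGoingDown_quot_map a)
  have hsup : a.map (algebraMap A A') ⊔ (maximalIdeal A).map (algebraMap A A') =
      (maximalIdeal A).map (algebraMap A A') :=
    sup_eq_right.mpr (Ideal.map_mono (IsLocalRing.le_maximalIdeal ha))
  rw [hsup] at h
  exact h

theorem isEquidim_quot_iff_of_fibre_dim_zero (heq : EGA4.IsEquidim A') (hcat : CAlg.IsCatenary A')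
    (h0 : ringKrullDim (A' ⧸ (maximalIdeal A).map (algebraMap A A')) = 0) (a : Ideal A) :
    EGA4.IsEquidim (A' ⧸ a.map (algebraMap A A')) ↔ EGA4.IsEquidim (A ⧸ a) := by
  by_cases ha : a = ⊤
  · subst ha
    rw [Ideal.map_top]
    have h1 : ∀ (R : Type u) [CommRing R], EGA4.IsEquidim (R ⧸ (⊤ : Ideal R)) := by
      intro R _ p hp
      exact absurd (Subsingleton.elim _ _) hp.1.1.ne_top
    exact ⟨fun _ => h1 A, fun _ => h1 A'⟩
  have hA' := dimFormula_of_catenary_equidim hcat heq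
  have hA : DimFormula A := dimFormula_of_flat hA'
  have hdimA : ringKrullDim A' = ringKrullDim A := by
    rw [dim_eq_add (A := A) (A' := A'), h0, add_zero]
  have hdima : ringKrullDim (A' ⧸ a.map (algebraMap A A')) = ringKrullDim (A ⧸ a) := by
    rw [dim_quot_map_eq a ha, h0, add_zero]
  -- key: for Q minimal over qA', dim A'/Q = dim A/q
  have key : ∀ (q : Ideal A) [q.IsPrime] (Q : Ideal A'),
      Q ∈ (q.map (algebraMap A A')).minimalPrimes →
      ringKrullDim (A' ⧸ Q) = ringKrullDim (A ⧸ q) := by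
    intro q hq Q hQ
    haveI : Q.IsPrime := hQ.1.1
    have h1 := Groth.Agent.Helper5.FlatEquidim.height_of_minimal_over_map q Q hQ
    have h2 := hA' ⟨Q, hQ.1.1⟩
    have h3 := hA ⟨q, hq⟩
    change ringKrullDim A' = ringKrullDim (A' ⧸ Q) + ((Q.height : ℕ∞) : WithBot ℕ∞) at h2
    change ringKrullDim A = ringKrullDim (A ⧸ q) + ((q.height : ℕ∞) : WithBot ℕ∞) at h3
    rw [h1, hdimA, h3] at h2
    obtain ⟨c, hc⟩ := exists_nat_dim (A ⧸ q)
    obtain ⟨c', hc'⟩ := exists_nat_dim (A' ⧸ Q)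
    obtain ⟨n, hn⟩ := ENat.ne_top_iff_exists.1 (Ideal.height_ne_top_of_isPrime (I := q))
    rw [hc, hc', ← hn] at h2
    rw [hc, hc']
    have : c + n = c' + n := by exact_mod_cast h2
    have : c' = c := by omega
    exact_mod_cast this
  rw [Groth.Agent.Helper6.FormEquidimMin.isEquidim_quot_iff,
    Groth.Agent.Helper6.FormEquidimMin.isEquidim_quot_iff, hdima]
  constructor
  · intro h q hq
    haveI : q.IsPrime := hq.1.1
    obtain ⟨Q, hQ⟩ := exists_minimal_over_map (A' := A') q (Ideal.IsPrime.ne_top inferInstance)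
    haveI : Q.IsPrime := hQ.1.1
    have hQq : Q.comap (algebraMap A A') = q := comap_of_minimal_over_map q Q hQ
    have hQa : Q ∈ (a.map (algebraMap A A')).minimalPrimes := by
      refine ⟨⟨inferInstance, (Ideal.map_mono hq.1.2).trans hQ.1.2⟩, ?_⟩
      rintro Q' ⟨hQ'p, hQ'a⟩ hQ'Q
      haveI := hQ'p
      have h1 : a ≤ Q'.comap (algebraMap A A') := Ideal.map_le_iff_le_comap.mp hQ'a
      have h2 : Q'.comap (algebraMap A A') ≤ q := by
        rw [← hQq]; exact Ideal.comap_mono hQ'Q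
      have h3 : q ≤ Q'.comap (algebraMap A A') :=
        hq.2 ⟨Ideal.comap_isPrime _ _, h1⟩ h2
      exact hQ.2 ⟨hQ'p, Ideal.map_le_iff_le_comap.mpr h3⟩ hQ'Q
    rw [← key q Q hQ]
    exact h Q hQa
  · intro h Q hQ
    haveI : Q.IsPrime := hQ.1.1
    have hgd : Algebra.HasGoingDown A A' := Algebra.HasGoingDown.of_flat
    have haq : a ≤ Q.comap (algebraMap A A') := Ideal.map_le_iff_le_comap.mp hQ.1.2
    have hqmin : Q.comap (algebraMap A A') ∈ a.minimalPrimes := by
      refine ⟨⟨Ideal.comap_isPrime _ _, haq⟩, ?_⟩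
      rintro q' ⟨hq'p, hq'a⟩ hq'le
      haveI := hq'p
      have : Q.LiesOver (Q.under A) := ⟨rfl⟩
      obtain ⟨Q', hQ'le, hQ'p, hQ'lo⟩ := Ideal.exists_ideal_le_liesOver_of_le (p := q')
        (q := Q.under A) Q hq'le
      have h1 : a.map (algebraMap A A') ≤ Q' := by
        rw [Ideal.map_le_iff_le_comap]
        refine hq'a.trans ?_
        rw [← Ideal.under_def, ← hQ'lo.over]
      have h2 : Q ≤ Q' := hQ.2 ⟨hQ'p, h1⟩ hQ'le
      have h3 : Q' = Q := le_antisymm hQ'le h2
      rw [hQ'lo.over, h3]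
    haveI : (Q.comap (algebraMap A A')).IsPrime := Ideal.comap_isPrime _ _
    have hQq : Q ∈ ((Q.comap (algebraMap A A')).map (algebraMap A A')).minimalPrimes := by
      refine ⟨⟨inferInstance, Ideal.map_comap_le⟩, ?_⟩
      rintro Q' ⟨hQ'p, hQ'le⟩ hQ'Q
      exact hQ.2 ⟨hQ'p, (Ideal.map_mono haq).trans hQ'le⟩ hQ'Q
    rw [key _ Q hQq]
    exact h _ hqmin

end Groth.Agent.Helper6.FlatCaten
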