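import Mathlib
import Groth.Agent.Helper6.Caten
import Groth.Agent.Helper6.Caten2
universe u
open TopologicalSpace

namespace Groth.Agent.Helper6.Caten

section Poset

variable {P : Type*} [PartialOrder P]

/-- two-element series -/
def pair {α : Type*} (r : SetRel α α) (A B : α) (h : (A, B) ∈ r) : RelSeries r :=
  (RelSeries.singleton r A).snoc B h

theorem pair_head {α : Type*} (r : SetRel α α) (A B : α) (h : (A, B) ∈ r) :
    (pair r A B h).head = A := RelSeries.head_snoc _ _ _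

theorem pair_last {α : Type*} (r : SetRel α α) (A B : α) (h : (A, B) ∈ r) :
    (pair r A B h).last = B := RelSeries.last_snoc _ _ _

theorem pair_length {α : Type*} (r : SetRel α α) (A B : α) (h : (A, B) ∈ r) :
    (pair r A B h).length = 1 := rfl

/-- chains all of whose steps are covering relations -/
abbrev CovSeries (P : Type*) [PartialOrder P] := RelSeries {(a, b) : P × P | a ⋖ b}

/-- the underlying strict chain of a saturated chain -/
def CovSeries.toLT (c : CovSeries P) : LTSeries P :=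
  c.ofLE (by rintro ⟨a, b⟩ hab; exact (show a ⋖ b from hab).lt)

theorem Cat.csup_eq_length (hP : Cat P) (c : CovSeries P) :
    csup c.head c.last = (c.length : ℕ∞) := by
  have hle : c.head ≤ c.last := c.toLT.monotone (Fin.zero_le _)
  exact ((hP c.head c.last hle).2 c.toLT rfl rfl (fun i => c.step i)).symm

theorem exists_covSeries (hR : CatR P) {A B : P} (hAB : A ≤ B) :
    ∃ c : CovSeries P, c.head = A ∧ c.last = B := by
  obtain ⟨N, hN⟩ := hR.1 A B hAB
  obtain ⟨t, ht1, ht2⟩ : ∃ t : LTSeries P, t.head = A ∧ t.last = B := by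
    rcases hAB.eq_or_lt with h | h
    · exact ⟨RelSeries.singleton _ A, rfl, h⟩
    · exact ⟨pair _ A B h, pair_head _ _ _ _, pair_last _ _ _ _⟩
  obtain ⟨t', h1, h2, -, h4⟩ := exists_saturated A B N hN t ht1 ht2
  exact ⟨⟨t'.length, t'.toFun, h4⟩, h1, h2⟩

theorem Cat.csup_add (hP : Cat P) {A B C : P} (hAB : A ≤ B) (hBC : B ≤ C) :
    csup A C = csup A B + csup B C := by
  have hR := cat_iff_catR.mp hP
  obtain ⟨c1, h1, h1'⟩ := exists_covSeries hR hAB
  obtain ⟨c2, h2, h2'⟩ := exists_covSeries hR hBC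
  have hc : c1.last = c2.head := h1'.trans h2.symm
  have e := hP.csup_eq_length (c1.smash c2 hc)
  rw [RelSeries.head_smash, RelSeries.last_smash, h1, h2'] at e
  have e1 := hP.csup_eq_length c1
  rw [h1, h1'] at e1
  have e2 := hP.csup_eq_length c2
  rw [h2, h2'] at e2
  rw [e, e1, e2, RelSeries.smash_length]
  push_cast
  rfl

/-- integer valued codimension -/
noncomputable def dInt (A B : P) : ℤ := ((csup A B).toNat : ℤ)

theorem Cat.dInt_add (hP : Cat P) {A B C : P} (hAB : A ≤ B) (hBC : B ≤ C) :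
    dInt A C = dInt A B + dInt B C := by
  unfold dInt
  rw [hP.csup_add hAB hBC, ENat.toNat_add (hP A B hAB).1 (hP B C hBC).1]
  push_cast
  rfl

theorem Cat.one_le_dInt (hP : Cat P) {A B : P} (hAB : A < B) : 1 ≤ dInt A B := by
  unfold dInt
  have h1 : (1 : ℕ∞) ≤ csup A B := by
    refine le_iSup_of_le (pair _ A B hAB) (le_iSup_of_le ⟨pair_head _ _ _ _, ?_⟩ ?_)
    · rw [pair_last]
    · rfl
  have h2 := ENat.toNat_le_toNat h1 (hP A B hAB.le).1
  have h3 : (1 : ℕ) ≤ (csup A B).toNat := by simpa using h2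
  exact_mod_cast h3

theorem Cat.dInt_covBy (hP : Cat P) {A B : P} (hAB : A ⋖ B) : dInt A B = 1 := by
  unfold dInt
  have e := hP.csup_eq_length (pair {(a, b) : P × P | a ⋖ b} A B hAB : CovSeries P)
  rw [pair_head, pair_last, pair_length] at e
  rw [e]
  rfl

end Poset

section Top

variable {X : Type u} [TopologicalSpace X]

/-- closure of a point as an irreducible closed set -/
def cl (y : X) : IrreducibleCloseds X :=
  ⟨closure {y}, isIrreducible_singleton.closure, isClosed_closure⟩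

theorem cl_le_iff (y : X) (Z : IrreducibleCloseds X) : cl y ≤ Z ↔ y ∈ (Z : Set X) := by
  constructor
  · intro h
    exact h (subset_closure (Set.mem_singleton y))
  · intro h
    exact closure_minimal (Set.singleton_subset_iff.mpr h) Z.isClosed

theorem cl_le_cl_iff (y y' : X) : cl y' ≤ cl y ↔ y ⤳ y' := by
  rw [cl_le_iff]
  exact specializes_iff_mem_closure.symm

theorem cl_injective [T0Space X] {y y' : X} (h : cl y = cl y') : y = y' := by
  have h1 : y ⤳ y' := (cl_le_cl_iff y y').mp h.ge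
  have h2 : y' ⤳ y := (cl_le_cl_iff y' y).mp h.le
  exact (h1.antisymm h2).eq

theorem exists_cl_eq [QuasiSober X] (Z : IrreducibleCloseds X) : ∃ y, cl y = Z := by
  obtain ⟨η, hη⟩ := QuasiSober.sober Z.isIrreducible Z.isClosed
  exact ⟨η, IrreducibleCloseds.ext hη.def⟩

theorem cl_covBy_of_immediate [QuasiSober X] [T0Space X] {y y' : X}
    (h : PtTop.IsImmediateSpecialization y y') : cl y' ⋖ cl y := by
  obtain ⟨h1, h2, h3⟩ := h
  refine ⟨lt_of_le_of_ne ((cl_le_cl_iff y y').mpr h1) fun e => h2 (cl_injective e).symm, ?_⟩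
  intro T hT1 hT2
  obtain ⟨z, rfl⟩ := exists_cl_eq T
  rcases h3 z ((cl_le_cl_iff y z).mp hT2.le) ((cl_le_cl_iff z y').mp hT1.le) with e | e
  · exact hT2.ne (by rw [e])
  · exact hT1.ne (by rw [e])

theorem immediate_of_cl_covBy [T0Space X] {y y' : X} (h : cl y' ⋖ cl y) :
    PtTop.IsImmediateSpecialization y y' := by
  refine ⟨(cl_le_cl_iff y y').mp h.le, fun e => h.lt.ne (by rw [e]), ?_⟩
  intro z hz1 hz2
  have h1 : cl z ≤ cl y := (cl_le_cl_iff y z).mpr hz1
  have h2 : cl y' ≤ cl z := (cl_le_cl_iff z y').mpr hz2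
  rcases h2.eq_or_lt with e | e
  · exact Or.inr (cl_injective e).symm
  · rcases h1.eq_or_lt with e' | e'
    · exact Or.inl (cl_injective e')
    · exact absurd e' (h.2 e)

theorem chain_le {Q : Type*} [PartialOrder Q] (f : Q → ℤ) (hf : ∀ a b : Q, a < b → f a < f b)
    (s : LTSeries Q) : f s.head + s.length ≤ f s.last := by
  have key : ∀ i : ℕ, ∀ hi : i < s.length + 1, f (s 0) + i ≤ f (s ⟨i, hi⟩) := by
    intro i
    induction i with
    | zero => intro hi; simp
    | succ i ih =>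
      intro hi
      have h1 := ih (Nat.lt_of_succ_lt hi)
      have h2 : s ⟨i, Nat.lt_of_succ_lt hi⟩ < s ⟨i + 1, hi⟩ :=
        s.strictMono (Fin.mk_lt_mk.mpr (Nat.lt_succ_self i))
      have h3 := hf _ _ h2
      push_cast
      omega
  exact key s.length (Nat.lt_succ_self _)

theorem chain_eq {Q : Type*} [PartialOrder Q] (f : Q → ℤ)
    (hf : ∀ a b : Q, a ⋖ b → f b = f a + 1)
    (s : LTSeries Q) (hs : ∀ i : Fin s.length, s (Fin.castSucc i) ⋖ s (Fin.succ i)) :
    f s.last = f s.head + s.length := by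
  have key : ∀ i : ℕ, ∀ hi : i < s.length + 1, f (s ⟨i, hi⟩) = f (s 0) + i := by
    intro i
    induction i with
    | zero => intro hi; simp
    | succ i ih =>
      intro hi
      have h1 := ih (Nat.lt_of_succ_lt hi)
      have h2 : s ⟨i, Nat.lt_of_succ_lt hi⟩ ⋖ s ⟨i + 1, hi⟩ :=
        hs ⟨i, Nat.lt_of_succ_lt_succ hi⟩
      have h3 := hf _ _ h2
      push_cast
      omega
  exact key s.length (Nat.lt_succ_self _)

/-- a sober space with a dimension function is catenary -/
theorem cat_of_dimensionFunction [QuasiSober X] [T0Space X] (δ : X → ℤ)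
    (hδ : PtTop.IsDimensionFunction δ) : Cat (IrreducibleCloseds X) := by
  rw [cat_iff_catR]
  choose g hg using fun Z : IrreducibleCloseds X => exists_cl_eq Z
  have hf : ∀ a b : IrreducibleCloseds X, a < b → δ (g a) < δ (g b) := by
    intro a b hab
    have h1 : g b ⤳ g a := by
      rw [← cl_le_cl_iff, hg, hg]
      exact hab.le
    have h2 : g b ≠ g a := by
      intro e
      have := congrArg cl e
      rw [hg, hg] at this
      exact hab.ne this.symm
    exact hδ.1 _ _ h1 h2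
  have hf' : ∀ a b : IrreducibleCloseds X, a ⋖ b → δ (g b) = δ (g a) + 1 := by
    intro a b hab
    apply hδ.2
    apply immediate_of_cl_covBy
    rw [hg, hg]
    exact hab
  constructor
  · intro p q _
    refine ⟨(δ (g q) - δ (g p)).toNat, fun s hs hl => ?_⟩
    have := chain_le (fun Z => δ (g Z)) hf s
    simp only [hs, hl] at this
    omega
  · intro s t hh hl hs ht
    have e1 := chain_eq (fun Z => δ (g Z)) hf' s hs
    have e2 := chain_eq (fun Z => δ (g Z)) hf' t ht
    simp only [hh, hl] at e1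
    simp only at e2
    omega

/-- Noetherian sober catenary spaces locally admit dimension functions -/
theorem exists_dimensionFunction [NoetherianSpace X] [QuasiSober X] [T0Space X]
    (hX : Cat (IrreducibleCloseds X)) (x : X) :
    ∃ U : Set X, IsOpen U ∧ x ∈ U ∧ ∃ δ : U → ℤ, PtTop.IsDimensionFunction δ := by
  classical
  obtain ⟨S₀, hS₀f, hS₀c, hS₀i, hS₀u⟩ := NoetherianSpace.exists_finite_set_isClosed_irreducible
    (isClosed_univ : IsClosed (Set.univ : Set X))
  have hW : ∀ Z Z' : Set X, ∃ W : Set (Set X), W.Finite ∧ (∀ t ∈ W, IsClosed t) ∧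
      (∀ t ∈ W, IsIrreducible t) ∧ closure (Z ∩ Z') = ⋃₀ W := fun Z Z' =>
    NoetherianSpace.exists_finite_set_isClosed_irreducible isClosed_closure
  choose W hWf hWc hWi hWu using hW
  let All : Set (Set X) := S₀ ∪ ⋃ Z ∈ S₀, ⋃ Z' ∈ S₀, W Z Z'
  have hAllf : All.Finite :=
    hS₀f.union (hS₀f.biUnion fun Z _ => hS₀f.biUnion fun Z' _ => hWf Z Z')
  have hAllc : ∀ t ∈ All, IsClosed t := by
    rintro t (ht | ht)
    · exact hS₀c t ht
    · simp only [Set.mem_iUnion] at ht
      obtain ⟨Z, -, Z', -, ht⟩ := ht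
      exact hWc Z Z' t ht
  have hAlli : ∀ t ∈ All, IsIrreducible t := by
    rintro t (ht | ht)
    · exact hS₀i t ht
    · simp only [Set.mem_iUnion] at ht
      obtain ⟨Z, -, Z', -, ht⟩ := ht
      exact hWi Z Z' t ht
  let Bad : Set (Set X) := {t ∈ All | x ∉ t}
  have hBadf : Bad.Finite := hAllf.subset (Set.sep_subset _ _)
  let U : Set X := (⋃₀ Bad)ᶜ
  have hUo : IsOpen U := by
    rw [isOpen_compl_iff, Set.sUnion_eq_biUnion]
    exact hBadf.isClosed_biUnion fun t ht => hAllc t ht.1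
  have hxU : x ∈ U := by
    rintro ⟨t, ht, hxt⟩
    exact ht.2 hxt
  have hkey : ∀ y ∈ U, ∀ t ∈ All, y ∈ t → x ∈ t := by
    intro y hy t ht hyt
    by_contra hx
    exact hy ⟨t, ⟨ht, hx⟩, hyt⟩
  let mkIC : ∀ t ∈ All, IrreducibleCloseds X := fun t ht => ⟨t, hAlli t ht, hAllc t ht⟩
  let δZ : IrreducibleCloseds X → X → ℤ := fun Z y => dInt (cl x) Z - dInt (cl y) Z
  have indep : ∀ y ∈ U, ∀ (Z : Set X) (hZ : Z ∈ S₀) (Z' : Set X) (hZ' : Z' ∈ S₀), y ∈ Z → y ∈ Z' →
      δZ (mkIC Z (Or.inl hZ)) y = δZ (mkIC Z' (Or.inl hZ')) y := by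
    intro y hy Z hZ Z' hZ' hyZ hyZ'
    have hcl : closure (Z ∩ Z') = Z ∩ Z' := ((hS₀c Z hZ).inter (hS₀c Z' hZ')).closure_eq
    have hyW : y ∈ ⋃₀ W Z Z' := by
      rw [← hWu, hcl]
      exact ⟨hyZ, hyZ'⟩
    obtain ⟨T, hT, hyT⟩ := hyW
    have hTAll : T ∈ All := by
      refine Or.inr ?_
      simp only [Set.mem_iUnion]
      exact ⟨Z, hZ, Z', hZ', hT⟩
    have hxT : x ∈ T := hkey y hy T hTAll hyT
    have hTsub : T ⊆ Z ∩ Z' := by
      rw [← hcl, hWu]
      exact Set.subset_sUnion_of_mem hT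
    have h1 : cl x ≤ mkIC T hTAll := (cl_le_iff _ _).mpr hxT
    have h2 : cl y ≤ mkIC T hTAll := (cl_le_iff _ _).mpr hyT
    have h3 : mkIC T hTAll ≤ mkIC Z (Or.inl hZ) := fun a ha => (hTsub ha).1
    have h4 : mkIC T hTAll ≤ mkIC Z' (Or.inl hZ') := fun a ha => (hTsub ha).2
    show dInt (cl x) (mkIC Z (Or.inl hZ)) - dInt (cl y) (mkIC Z (Or.inl hZ)) =
      dInt (cl x) (mkIC Z' (Or.inl hZ')) - dInt (cl y) (mkIC Z' (Or.inl hZ'))
    rw [hX.dInt_add h1 h3, hX.dInt_add h2 h3, hX.dInt_add h1 h4, hX.dInt_add h2 h4]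
    ring
  have hcov : ∀ y : U, ∃ Z ∈ S₀, y.1 ∈ Z := by
    intro y
    have : y.1 ∈ ⋃₀ S₀ := by
      rw [← hS₀u]
      exact Set.mem_univ _
    exact this
  choose Zy hZy hyZy using hcov
  let δ : U → ℤ := fun y => δZ (mkIC (Zy y) (Or.inl (hZy y))) y.1
  have δ_eq : ∀ (y : U) (Z : Set X) (hZ : Z ∈ S₀), y.1 ∈ Z →
      δ y = δZ (mkIC Z (Or.inl hZ)) y.1 := fun y Z hZ hyZ =>
    indep y.1 y.2 (Zy y) (hZy y) Z hZ (hyZy y) hyZ
  refine ⟨U, hUo, hxU, δ, ?_, ?_⟩
  · intro y y' hyy' hne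
    have hsp : y.1 ⤳ y'.1 := (subtype_specializes_iff y y').mp hyy'
    have hy'Z : y'.1 ∈ Zy y := hsp.mem_closed (hS₀c _ (hZy y)) (hyZy y)
    rw [δ_eq y' (Zy y) (hZy y) hy'Z]
    have h1 : cl y'.1 ≤ cl y.1 := (cl_le_cl_iff _ _).mpr hsp
    have h1' : cl y'.1 < cl y.1 :=
      lt_of_le_of_ne h1 fun e => hne (Subtype.ext (cl_injective e).symm)
    have h2 : cl y.1 ≤ mkIC (Zy y) (Or.inl (hZy y)) := (cl_le_iff _ _).mpr (hyZy y)
    have h3 := hX.one_le_dInt h1'
    show dInt (cl x) (mkIC (Zy y) (Or.inl (hZy y))) - dInt (cl y'.1) (mkIC (Zy y) (Or.inl (hZy y))) <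
      dInt (cl x) (mkIC (Zy y) (Or.inl (hZy y))) - dInt (cl y.1) (mkIC (Zy y) (Or.inl (hZy y)))
    rw [hX.dInt_add h1 h2]
    omega
  · intro y y' him
    obtain ⟨hyy', hne, hbetween⟩ := him
    have hsp : y.1 ⤳ y'.1 := (subtype_specializes_iff y y').mp hyy'
    have hy'Z : y'.1 ∈ Zy y := hsp.mem_closed (hS₀c _ (hZy y)) (hyZy y)
    rw [δ_eq y' (Zy y) (hZy y) hy'Z]
    have him' : PtTop.IsImmediateSpecialization y.1 y'.1 := by
      refine ⟨hsp, fun e => hne (Subtype.ext e), ?_⟩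
      intro z hz1 hz2
      have hzU : z ∈ U := hz2.mem_open hUo y'.2
      rcases hbetween ⟨z, hzU⟩ ((subtype_specializes_iff _ _).mpr hz1)
        ((subtype_specializes_iff _ _).mpr hz2) with e | e
      · exact Or.inl (congrArg Subtype.val e)
      · exact Or.inr (congrArg Subtype.val e)
    have hcov := cl_covBy_of_immediate him'
    have h1 : cl y'.1 ≤ cl y.1 := hcov.le
    have h2 : cl y.1 ≤ mkIC (Zy y) (Or.inl (hZy y)) := (cl_le_iff _ _).mpr (hyZy y)
    have h3 := hX.dInt_covBy hcov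
    show dInt (cl x) (mkIC (Zy y) (Or.inl (hZy y))) - dInt (cl y.1) (mkIC (Zy y) (Or.inl (hZy y))) =
      dInt (cl x) (mkIC (Zy y) (Or.inl (hZy y))) - dInt (cl y'.1) (mkIC (Zy y) (Or.inl (hZy y))) + 1
    rw [hX.dInt_add h1 h2]
    omega

/-- dimension functions transfer along homeomorphisms -/
theorem isDimensionFunction_comp_homeomorph {Y : Type u} [TopologicalSpace Y] (h : Y ≃ₜ X)
    (δ : X → ℤ) (hδ : PtTop.IsDimensionFunction δ) : PtTop.IsDimensionFunction (δ ∘ h) := by
  constructor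
  · intro a b hab hne
    exact hδ.1 _ _ (h.isInducing.specializes_iff.mpr hab) fun e => hne (h.injective e)
  · intro a b him
    apply hδ.2
    obtain ⟨h1, h2, h3⟩ := him
    refine ⟨h.isInducing.specializes_iff.mpr h1, fun e => h2 (h.injective e), ?_⟩
    intro z hz1 hz2
    have e1 : a ⤳ h.symm z := by
      rw [← h.isInducing.specializes_iff, h.apply_symm_apply]
      exact hz1
    have e2 : h.symm z ⤳ b := by
      rw [← h.isInducing.specializes_iff, h.apply_symm_apply]
      exact hz2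
    rcases h3 _ e1 e2 with e | e
    · left
      rw [← e, h.apply_symm_apply]
    · right
      rw [← e, h.apply_symm_apply]

end Top

end Groth.Agent.Helper6.Caten
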