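import Mathlib
import Groth.Prelude
import Groth.Agent.Helper2.Caten
import Groth.Agent.Helper2.Caten2
import Groth.Agent.Helper6.Caten4
import Groth.Agent.Helper6.Caten3

/-!
# Localizations of catenary equidimensional local rings are equidimensional
-/

set_option autoImplicit false
universe u

namespace Groth.Agent.Helper6.Ratliff

open IsLocalRing

/-- the order embedding `Spec S ↪o Spec R` for a localization -/
noncomputable def locEmb {R S : Type u} [CommRing R] [CommRing S] [Algebra R S] (M : Submonoid R)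
    [IsLocalization M S] : PrimeSpectrum S ↪o PrimeSpectrum R :=
  OrderEmbedding.ofMapLEIff (PrimeSpectrum.comap (algebraMap R S)) (by
    intro p q
    constructor
    · intro hpq
      have h1 : p.asIdeal.under R ≤ q.asIdeal.under R := hpq
      have := Ideal.map_mono (f := algebraMap R S) h1
      rwa [IsLocalization.map_under M S, IsLocalization.map_under M S] at this
    · intro hpq
      exact Ideal.comap_mono hpq)

theorem locEmb_apply {R S : Type u} [CommRing R] [CommRing S] [Algebra R S] (M : Submonoid R)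
    [IsLocalization M S] (x : PrimeSpectrum S) :
    locEmb M x = PrimeSpectrum.comap (algebraMap R S) x := rfl

theorem range_locEmb {R S : Type u} [CommRing R] [CommRing S] [Algebra R S] (M : Submonoid R)
    [IsLocalization M S] :
    Set.range (locEmb (S := S) M) = {p | Disjoint (M : Set R) p.asIdeal} :=
  PrimeSpectrum.localization_comap_range S M

theorem isEquidim_localization (R : Type u) [CommRing R] [IsNoetherianRing R] [IsLocalRing R]
    (hc : CAlg.IsCatenary R) (he : EGA4.IsEquidim R) (P : Ideal R) [hP : P.IsPrime] :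
    EGA4.IsEquidim (Localization.AtPrime P) := by
  set S := Localization.AtPrime P with hS
  let e : PrimeSpectrum S ↪o PrimeSpectrum R := locEmb P.primeCompl
  have hrange : Set.range e = {p | Disjoint (P.primeCompl : Set R) p.asIdeal} :=
    range_locEmb P.primeCompl
  have hdisj : ∀ q : PrimeSpectrum R, q ∈ Set.range e ↔ q ≤ ⟨P, hP⟩ := by
    intro q
    rw [hrange, Set.mem_ofPred_eq, ← PrimeSpectrum.asIdeal_le_asIdeal]
    show Disjoint (P.primeCompl : Set R) q.asIdeal ↔ q.asIdeal ≤ P
    rw [Set.disjoint_left]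
    constructor
    · intro h a ha
      by_contra haP
      exact h haP ha
    · intro h a haP ha
      exact haP (h ha)
  intro 𝔭 h𝔭
  haveI : 𝔭.IsPrime := h𝔭.1.1
  let x : PrimeSpectrum S := ⟨𝔭, inferInstance⟩
  apply le_antisymm (ringKrullDim_quotient_le 𝔭)
  have hle : e x ≤ ⟨P, hP⟩ := (hdisj _).mp ⟨x, rfl⟩
  -- `e x` is a minimal prime of `R`
  have hpmin : (e x).asIdeal ∈ minimalPrimes R := by
    refine ⟨⟨(e x).2, bot_le⟩, ?_⟩
    rintro q ⟨hq, -⟩ hqle
    have hq' : (⟨q, hq⟩ : PrimeSpectrum R) ≤ e x := (PrimeSpectrum.asIdeal_le_asIdeal _ _).mp hqle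
    obtain ⟨y, hy⟩ := (hdisj ⟨q, hq⟩).mpr (hq'.trans hle)
    have hyx : y ≤ x := by rw [← e.le_iff_le, hy]; exact hq'
    have : x ≤ y := (PrimeSpectrum.asIdeal_le_asIdeal _ _).mp
      (h𝔭.2 ⟨y.2, bot_le⟩ ((PrimeSpectrum.asIdeal_le_asIdeal _ _).mpr hyx))
    have hxy : y = x := le_antisymm hyx this
    rw [← hxy, hy]
  obtain ⟨N, hN⟩ := hc.1 (e x) ⟨P, hP⟩ hle
  obtain ⟨t0, ht0h, ht0l⟩ : ∃ t : LTSeries (PrimeSpectrum R), t.head = e x ∧ t.last = ⟨P, hP⟩ := by
    rcases hle.eq_or_lt with h | h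
    · exact ⟨RelSeries.singleton _ (e x), rfl, h⟩
    · exact ⟨Groth.Agent.Helper6.Caten.pair _ (e x) ⟨P, hP⟩ h,
        Groth.Agent.Helper6.Caten.pair_head _ _ _ _, Groth.Agent.Helper6.Caten.pair_last _ _ _ _⟩
  obtain ⟨s, hsh, hsl, -, hsat⟩ :=
    Groth.Agent.Helper6.Caten.exists_saturated (e x) ⟨P, hP⟩ N hN t0 ht0h ht0l
  have h1 := Groth.Agent.Helper2.Caten2.coheight_head_eq hc s hsat (Fin.last _)
  have h2 := Groth.Agent.Helper2.Caten.dimQuot_eq_coheight (e x)
  have h3 := Groth.Agent.Helper2.Caten2.height_add_coheight_eq hc he ⟨P, hP⟩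
  rw [he _ hpmin] at h2
  have hs0 : s 0 = e x := hsh
  have hsL : s (Fin.last _) = ⟨P, hP⟩ := hsl
  rw [hs0, hsL, Fin.val_last] at h1
  -- `s.length = height P`
  have hlen : (s.length : ℕ∞) = Order.height (⟨P, hP⟩ : PrimeSpectrum R) := by
    have hfin : Order.coheight (⟨P, hP⟩ : PrimeSpectrum R) ≠ ⊤ :=
      (Groth.Agent.Helper2.Caten.coheight_lt_top _).ne
    rw [h2, h1] at h3
    have h4 : Order.height (⟨P, hP⟩ : PrimeSpectrum R) + Order.coheight (⟨P, hP⟩ : PrimeSpectrum R) =
        Order.coheight (⟨P, hP⟩ : PrimeSpectrum R) + (s.length : ℕ∞) := by exact_mod_cast h3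
    rw [add_comm] at h4
    exact (WithTop.add_left_cancel hfin h4).symm
  -- lift the chain
  have hmem : ∀ i, s i ∈ Set.range e := by
    intro i
    rw [hdisj]
    rw [← hsl]
    exact s.monotone (Fin.le_last i)
  let s' := Groth.Agent.Helper6.Caten.liftSeries e s hmem
  have hhead : s'.head = x := e.injective (by
    rw [← hsh]
    exact Groth.Agent.Helper6.Caten.liftSeries_apply e s hmem 0)
  rw [IsLocalization.AtPrime.ringKrullDim_eq_height P S]
  have h5 := Groth.Agent.Helper2.Caten.dimQuot_eq_coheight x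
  change ringKrullDim (S ⧸ 𝔭) = _ at h5
  rw [h5]
  have h6 : (s'.length : ℕ∞) ≤ Order.coheight x := hhead ▸ Order.length_le_coheight_head
  have h7 : (s'.length : ℕ∞) = P.height := by
    show (s.length : ℕ∞) = _
    rw [hlen, ← PrimeSpectrum.height_eq_orderHeight]
  rw [← h7]
  exact_mod_cast h6

end Groth.Agent.Helper6.Ratliff
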