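import Mathlib
import Groth.Prelude
import Groth.Agent.Helper6.Ratliff1
import Groth.Agent.Helper6.Ratliff2

/-!
# Formal equidimensionality passes to localizations
-/

set_option autoImplicit false
universe u

namespace Groth.Agent.Helper6.Ratliff

open IsLocalRing

/-- `D` is a quotient of a Cohen–Macaulay local ring -/
def QCM (D : Type u) [CommRing D] : Prop :=
  ∃ (R : Type u) (_ : CommRing R) (_ : LocCoh.IsCohenMacaulayLocalRing R) (f : R →+* D),
    Function.Surjective f

theorem QCM.isFormallyCatenary {D : Type u} [CommRing D] [IsNoetherianRing D] [IsLocalRing D]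
    (h : QCM D) : EGA4.IsFormallyCatenary D := by
  obtain ⟨R, _, _, f, hf⟩ := h
  letI := f.toAlgebra
  exact Groth.Agent.S2635.result R D hf

theorem QCM.fe_iff {D : Type u} [CommRing D] [IsNoetherianRing D] [IsLocalRing D]
    (h : QCM D) : EGA4.IsFormallyEquidim D ↔ EGA4.IsEquidim D := by
  rw [Groth.Agent.S2629.result D]
  exact ⟨fun h' => h'.1, fun he => ⟨he, fun p _ _ => h.isFormallyCatenary p⟩⟩

theorem QReg.qcm_localization {C : Type u} [CommRing C] (h : QReg C) (P : Ideal C) [P.IsPrime] :
    QCM (Localization.AtPrime P) := by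
  obtain ⟨R, _, _, f, hf⟩ := h
  haveI : LocCoh.IsCohenMacaulayLocalRing (Localization.AtPrime (P.comap f)) :=
    { supportDim_eq_depth := Groth.Agent.Helper2.RegCM.cm_of_isRegularLocalRing _ }
  refine ⟨Localization.AtPrime (P.comap f), inferInstance, inferInstance,
    Localization.localRingHom (P.comap f) P f rfl, ?_⟩
  intro z
  obtain ⟨c, s, rfl⟩ := IsLocalization.exists_mk'_eq P.primeCompl z
  obtain ⟨r, rfl⟩ := hf c
  obtain ⟨t, ht⟩ := hf s
  have htP : t ∈ (P.comap f).primeCompl := by
    intro htP
    apply s.2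
    rw [← ht]
    exact htP
  refine ⟨IsLocalization.mk' _ r ⟨t, htP⟩, ?_⟩
  rw [Localization.localRingHom_mk']
  congr 1
  exact Subtype.ext ht

/-- formal equidimensionality descends from the localization at a prime lying over -/
theorem fe_of_liesOver {A B : Type u} [CommRing A] [CommRing B] [IsNoetherianRing A]
    [IsNoetherianRing B] [Algebra A B] [Module.Flat A B] (q : Ideal A) [q.IsPrime] (Q : Ideal B)
    [Q.IsPrime] [Q.LiesOver q] (h : EGA4.IsFormallyEquidim (Localization.AtPrime Q)) :
    EGA4.IsFormallyEquidim (Localization.AtPrime q) := by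
  letI := Localization.AtPrime.algebraOfLiesOver q Q
  haveI : IsLocalHom (algebraMap (Localization.AtPrime q) (Localization.AtPrime Q)) :=
    Localization.isLocalHom_localRingHom _ _ _ _
  exact fe_descent _ _ h

/-- a localization of a formally equidimensional local ring is formally equidimensional -/
theorem fe_localization (A : Type u) [CommRing A] [IsNoetherianRing A] [IsLocalRing A]
    (h : EGA4.IsFormallyEquidim A) (q : Ideal A) [q.IsPrime] :
    EGA4.IsFormallyEquidim (Localization.AtPrime q) := by
  haveI : Module.FaithfullyFlat A (EGA4.Cpl A) := Module.FaithfullyFlat.of_flat_of_isLocalHom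
  obtain ⟨P, hP⟩ := PrimeSpectrum.comap_surjective_of_faithfullyFlat (A := A) (B := EGA4.Cpl A)
    ⟨q, inferInstance⟩
  haveI := P.2
  haveI : P.asIdeal.LiesOver q := ⟨by
    have := congrArg PrimeSpectrum.asIdeal hP
    exact this.symm⟩
  apply fe_of_liesOver q P.asIdeal
  rw [(QReg.qcm_localization (qreg_cpl A) P.asIdeal).fe_iff]
  exact isEquidim_localization _ (isCatenary_cpl A) h P.asIdeal

end Groth.Agent.Helper6.Ratliff
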