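import Mathlib
import Groth.Agent.Helper6.Dim1Lattice

set_option autoImplicit false

/-!
Torsion-free modules of finite rank over a one-dimensional Noetherian domain:
the length of `M/xM` is bounded by `rank * length (R/x)`.
-/

namespace Groth.Agent.Helper6.Dim1

open Function
open scoped Pointwise

section Uniform

variable {R : Type*} [CommRing R] [IsDomain R]

theorem exists_smul_mem_uniform {N : Type*} [AddCommGroup N] [Module R N] [Module.Finite R N]
    (P : Submodule R N) (h : ∀ n : N, ∃ q : R, q ≠ 0 ∧ q • n ∈ P) :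
    ∃ q : R, q ≠ 0 ∧ ∀ n : N, q • n ∈ P := by
  have key : ∀ (L : Submodule R N), L.FG → ∃ q : R, q ≠ 0 ∧ ∀ n ∈ L, q • n ∈ P := by
    intro L hL
    refine Submodule.fg_induction
      (motive := fun L _ => ∃ q : R, q ≠ 0 ∧ ∀ n ∈ L, q • n ∈ P) ?_ ?_ L hL
    · intro y
      obtain ⟨q, hq, hqy⟩ := h y
      refine ⟨q, hq, fun v hv => ?_⟩
      obtain ⟨r, rfl⟩ := Submodule.mem_span_singleton.mp hv
      rw [smul_comm]
      exact P.smul_mem r hqy
    · rintro N₁ N₂ _ _ ⟨x, hx, hx'⟩ ⟨y, hy, hy'⟩
      refine ⟨x * y, mul_ne_zero hx hy, fun v hv => ?_⟩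
      obtain ⟨a, ha, b, hb, rfl⟩ := Submodule.mem_sup.mp hv
      rw [smul_add]
      refine P.add_mem ?_ ?_
      · rw [mul_comm, mul_smul]; exact P.smul_mem y (hx' a ha)
      · rw [mul_smul]; exact P.smul_mem x (hy' b hb)
  obtain ⟨q, hq, hq'⟩ := key ⊤ Module.Finite.fg_top
  exact ⟨q, hq, fun n => hq' n trivial⟩

end Uniform

section Embedding

universe u

variable {R : Type u} [CommRing R] [IsDomain R] [IsNoetherianRing R] {K : Type*} [Field K]
  [Algebra R K] [IsFractionRing R K] {V : Type*} [AddCommGroup V] [Module K V] [Module R V]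
  [IsScalarTower R K V] [FiniteDimensional K V]

theorem length_quotSMulTop_of_embedding (hdim : ringKrullDim R ≤ 1) {N : Type u}
    [AddCommGroup N] [Module R N] [Module.Finite R N] (ι : N →ₗ[R] V) (hι : Injective ι)
    {x : R} (hx : x ≠ 0) :
    ∃ s : ℕ, s ≤ Module.finrank K V ∧
      Module.length R (QuotSMulTop x N) = s * Module.length R (R ⧸ Ideal.span {x}) := by
  classical
  obtain ⟨b, hbsub, hbspan, hbli⟩ := exists_linearIndependent K (Set.range ι)
  have hbfin : b.Finite := hbli.setFinite
  haveI : Fintype b := hbfin.fintype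
  let s := Fintype.card b
  let e : Fin s ≃ b := (Fintype.equivFin b).symm
  let w : Fin s → V := fun i => (e i : V)
  have hwli : LinearIndependent K w := hbli.comp e e.injective
  have hwrange : Set.range w = b := by
    ext v
    constructor
    · rintro ⟨i, rfl⟩
      exact (e i).2
    · intro hv
      exact ⟨e.symm ⟨v, hv⟩, by simp [w]⟩
  have hy : ∀ i, ∃ n : N, ι n = w i := fun i => hbsub (e i).2
  choose y hy using hy
  let φ : (Fin s → R) →ₗ[R] N := Fintype.linearCombination R y
  have hιφ : ∀ c, ι (φ c) = ∑ i, c i • w i := by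
    intro c
    simp only [φ, Fintype.linearCombination_apply, map_sum, map_smul, hy]
  have hφinj : Injective φ := by
    rw [← LinearMap.ker_eq_bot, LinearMap.ker_eq_bot']
    intro c hc
    have h0 : ∑ i, algebraMap R K (c i) • w i = 0 := by
      simp_rw [algebraMap_smul]
      rw [← hιφ, hc, map_zero]
    have h1 := Fintype.linearIndependent_iff.mp hwli _ h0
    ext i
    exact (IsFractionRing.injective R K) (by rw [h1 i]; simp)
  have htors : ∀ n : N, ∃ q : R, q ≠ 0 ∧ q • n ∈ LinearMap.range φ := by
    intro n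
    have h1 : ι n ∈ Submodule.span K
        ((Submodule.span R (Set.range w) : Submodule R V) : Set V) := by
      have h2 : ι n ∈ Submodule.span K (Set.range ι) := Submodule.subset_span ⟨n, rfl⟩
      rw [← hbspan, ← hwrange] at h2
      exact Submodule.span_mono Submodule.subset_span h2
    obtain ⟨q, hq, hqn⟩ := exists_smul_mem_of_mem_span (K := K) _ h1
    obtain ⟨c, hc⟩ := (Submodule.mem_span_range_iff_exists_fun R).mp hqn
    refine ⟨q, hq, ⟨c, ?_⟩⟩
    apply hι
    rw [hιφ, hc, map_smul]
  obtain ⟨q, hq, hq'⟩ := exists_smul_mem_uniform (LinearMap.range φ) htors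
  have hC : Module.length R (N ⧸ LinearMap.range φ) ≠ ⊤ := by
    apply length_ne_top_of_isTorsionBy hdim (not_mem_minimalPrimes_of_ne_zero hq)
    intro z
    obtain ⟨n, rfl⟩ := Submodule.Quotient.mk_surjective _ z
    rw [← Submodule.Quotient.mk_smul, Submodule.Quotient.mk_eq_zero]
    exact hq' n
  have hxK : algebraMap R K x ≠ 0 := by
    intro h0
    exact hx ((IsFractionRing.injective R K) (by rw [h0, map_zero]))
  have hker : LinearMap.ker (T x N) = ⊥ := by
    rw [LinearMap.ker_eq_bot']
    intro n hn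
    apply hι
    rw [map_zero]
    have h2 : x • ι n = 0 := by
      rw [← map_smul]
      have : x • n = 0 := hn
      rw [this, map_zero]
    rw [← algebraMap_smul K x, smul_eq_zero] at h2
    exact h2.resolve_left hxK
  have hmain := length_quot_eq_of_injective x φ hφinj
    (ker_T_pi_eq_bot (mem_nonZeroDivisors_of_ne_zero hx) s) hC
  refine ⟨s, ?_, ?_⟩
  · have := hwli.fintype_card_le_finrank
    simpa using this
  · rw [hmain, hker, length_quotSMulTop_pi]
    simp

end Embedding

section Union

variable {R : Type*} [CommRing R]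

theorem length_lt_of_lt {Q : Type*} [AddCommGroup Q] [Module R Q] (A B : Submodule R Q)
    (hlt : A < B) (hB : Module.length R B ≠ ⊤) : Module.length R A < Module.length R B := by
  have hfl := hB
  rw [Module.length_ne_top_iff, isFiniteLength_iff_isNoetherian_isArtinian] at hfl
  haveI := hfl.1
  haveI := hfl.2
  have hne : Submodule.comap B.subtype A ≠ ⊤ := by
    intro h
    apply hlt.not_ge
    intro v hv
    have : (⟨v, hv⟩ : B) ∈ Submodule.comap B.subtype A := by rw [h]; trivial
    exact this
  have := Submodule.length_lt hne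
  rwa [(Submodule.comapSubtypeEquivOfLe hlt.le).length_eq] at this

theorem length_quotSMulTop_le_of_fg (x : R) (M : Type*) [AddCommGroup M] [Module R M] (B : ℕ∞)
    (hB : B ≠ ⊤)
    (h : ∀ N : Submodule R M, N.FG → Module.length R (QuotSMulTop x N) ≤ B) :
    Module.length R (QuotSMulTop x M) ≤ B := by
  let π : M →ₗ[R] QuotSMulTop x M := Submodule.mkQ (x • (⊤ : Submodule R M))
  have hI : ∀ N : Submodule R M, N.FG → Module.length R (N.map π) ≤ B := by
    intro N hN
    refine le_trans ?_ (h N hN)
    have hrange : LinearMap.range (QuotSMulTop.map x N.subtype) = N.map π := by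
      ext q
      constructor
      · rintro ⟨z, rfl⟩
        obtain ⟨n, rfl⟩ := Submodule.Quotient.mk_surjective _ z
        exact ⟨n.1, n.2, rfl⟩
      · rintro ⟨m, hm, rfl⟩
        exact ⟨Submodule.Quotient.mk ⟨m, hm⟩, rfl⟩
    rw [← hrange]
    exact Module.length_le_of_surjective (QuotSMulTop.map x N.subtype).rangeRestrict
      (LinearMap.surjective_rangeRestrict _)
  have hstab : ∃ N₀ : Submodule R M, N₀.FG ∧
      ∀ N : Submodule R M, N.FG → N₀ ≤ N → N.map π = N₀.map π := by
    by_contra hcon
    push Not at hcon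
    have hk : ∀ k : ℕ, ∃ N : Submodule R M, N.FG ∧ (k : ℕ∞) ≤ Module.length R (N.map π) := by
      intro k
      induction k with
      | zero => exact ⟨⊥, Submodule.fg_bot, by simp⟩
      | succ k ih =>
        obtain ⟨N₀, hN₀, hk⟩ := ih
        obtain ⟨N, hN, hle, hne⟩ := hcon N₀ hN₀
        refine ⟨N, hN, ?_⟩
        have hlt : N₀.map π < N.map π :=
          lt_of_le_of_ne (Submodule.map_mono hle) (Ne.symm hne)
        have hfin : Module.length R (N.map π) ≠ ⊤ := by
          intro htop
          have := hI N hN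
          rw [htop] at this
          exact hB (top_le_iff.mp this)
        have := length_lt_of_lt _ _ hlt hfin
        calc ((k + 1 : ℕ) : ℕ∞) = (k : ℕ∞) + 1 := by push_cast; rfl
          _ ≤ Module.length R (N₀.map π) + 1 := by gcongr
          _ ≤ Module.length R (N.map π) := Order.add_one_le_of_lt this
    obtain ⟨N, hN, hk'⟩ := hk (B.toNat + 1)
    have h1 := hk'.trans (hI N hN)
    have h2 : ((B.toNat + 1 : ℕ) : ℕ∞) = B + 1 := by
      push_cast
      rw [ENat.natCast_toNat hB]
    rw [h2] at h1
    exact absurd h1 (not_le.mpr (ENat.lt_add_one_iff hB |>.mpr le_rfl))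
  obtain ⟨N₀, hN₀, hstab⟩ := hstab
  have htop : N₀.map π = ⊤ := by
    rw [eq_top_iff]
    intro q _
    obtain ⟨m, rfl⟩ := Submodule.Quotient.mk_surjective _ q
    have hfg : (N₀ ⊔ Submodule.span R {m}).FG := hN₀.sup (Submodule.fg_span_singleton m)
    rw [← hstab _ hfg le_sup_left]
    exact ⟨m, Submodule.mem_sup_right (Submodule.mem_span_singleton_self m), rfl⟩
  have := hI N₀ hN₀
  rwa [htop, Module.length_top] at this

end Union

section Main

universe u

variable {R : Type u} [CommRing R] [IsDomain R] [IsNoetherianRing R] {K : Type u} [Field K]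
  [Algebra R K] [IsFractionRing R K]

theorem length_quot_le_of_submodule_pi (hdim : ringKrullDim R ≤ 1) (r : ℕ)
    (M : Submodule R (Fin r → K)) (x : R) (hx : x ≠ 0) :
    Module.length R (R ⧸ Ideal.span ({x} : Set R)) ≠ ⊤ ∧
      Module.length R (M ⧸ (Ideal.span ({x} : Set R) • (⊤ : Submodule R M))) ≤
        r * Module.length R (R ⧸ Ideal.span ({x} : Set R)) := by
  have h1 : Module.length R (R ⧸ Ideal.span ({x} : Set R)) ≠ ⊤ :=
    length_quot_ne_top hdim (not_mem_minimalPrimes_of_ne_zero hx)
  refine ⟨h1, ?_⟩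
  have heq : (Ideal.span ({x} : Set R) • (⊤ : Submodule R M)) = x • (⊤ : Submodule R M) :=
    Submodule.ideal_span_singleton_smul x ⊤
  rw [(Submodule.quotEquivOfEq _ _ heq).length_eq]
  have hB : (r : ℕ∞) * Module.length R (R ⧸ Ideal.span ({x} : Set R)) ≠ ⊤ :=
    WithTop.mul_ne_top (ENat.natCast_ne_top r) h1
  refine length_quotSMulTop_le_of_fg x M _ hB ?_
  intro N hN
  haveI : Module.Finite R N := Module.Finite.iff_fg.mpr hN
  let ι : ↥N →ₗ[R] (Fin r → K) := M.subtype.comp N.subtype
  have hι : Injective ι := by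
    intro a b hab
    exact Subtype.ext (Subtype.ext hab)
  obtain ⟨s, hs, hlen⟩ := length_quotSMulTop_of_embedding (K := K) (V := Fin r → K) (N := ↥N)
    hdim ι hι hx
  rw [hlen]
  rw [Module.finrank_fin_fun] at hs
  gcongr

end Main

end Groth.Agent.Helper6.Dim1
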