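import Mathlib
import Groth.Agent.Helper6.Dim1Rank

set_option autoImplicit false

/-!
Primes over the maximal ideal in an extension of a one-dimensional Noetherian local domain
whose fraction field extension is finite (Krull–Akizuki type statement).
-/

namespace Groth.Agent.Helper6.Dim1

open Function
open scoped Pointwise

universe u

theorem length_quot_span_ne_top {R S : Type u} (K L : Type u) [CommRing R] [IsDomain R]
    [IsNoetherianRing R]
    [CommRing S] [IsDomain S] [Algebra R S] [Field K] [Field L] [Algebra R K] [IsFractionRing R K]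
    [Algebra S L] [IsFractionRing S L] [Algebra K L] [Algebra R L] [IsScalarTower R K L]
    [IsScalarTower R S L] [FiniteDimensional K L] (hdim : ringKrullDim R ≤ 1) (x : R)
    (hx : x ≠ 0) :
    Module.length R (S ⧸ Ideal.span {algebraMap R S x}) ≠ ⊤ := by
  classical
  let b := Module.finBasis K L
  let β : L ≃ₗ[K] (Fin (Module.finrank K L) → K) := b.equivFun
  let ι : S →ₗ[R] (Fin (Module.finrank K L) → K) :=
    (β.toLinearMap.restrictScalars R).comp (IsScalarTower.toAlgHom R S L).toLinearMap
  have hι : Injective ι := by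
    intro s t hst
    apply IsFractionRing.injective S L
    exact β.injective hst
  let M : Submodule R (Fin (Module.finrank K L) → K) := LinearMap.range ι
  let e : S ≃ₗ[R] ↥M := LinearEquiv.ofInjective ι hι
  have h1 := (length_quot_le_of_submodule_pi (K := K) hdim _ M x hx)
  have h2 : Module.length R (M ⧸ (Ideal.span ({x} : Set R) • (⊤ : Submodule R M))) ≠ ⊤ := by
    intro htop
    have h3 := h1.2
    rw [htop, top_le_iff] at h3
    exact WithTop.mul_ne_top (ENat.natCast_ne_top _) h1.1 h3
  have hP : ((Ideal.span {algebraMap R S x}).restrictScalars R).map e.toLinearMap =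
      (Ideal.span ({x} : Set R) • (⊤ : Submodule R M)) := by
    rw [Submodule.ideal_span_singleton_smul]
    ext y
    rw [Submodule.mem_smul_pointwise_iff_exists]
    constructor
    · rintro ⟨s, hs, rfl⟩
      obtain ⟨t, rfl⟩ := Ideal.mem_span_singleton'.mp hs
      refine ⟨e t, trivial, ?_⟩
      rw [← map_smul, Algebra.smul_def, mul_comm]
      rfl
    · rintro ⟨z, -, rfl⟩
      obtain ⟨t, rfl⟩ := e.surjective z
      refine ⟨x • t, ?_, map_smul _ _ _⟩
      rw [Algebra.smul_def]
      exact Ideal.mul_mem_right _ _ (Ideal.mem_span_singleton_self _)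
  rw [← (Submodule.Quotient.restrictScalarsEquiv R (Ideal.span {algebraMap R S x})).length_eq,
    (Submodule.Quotient.equiv _ _ e hP).length_eq]
  exact h2

theorem main_S9133 {R S : Type u} (K L : Type u) [CommRing R] [IsDomain R]
    [IsNoetherianRing R]
    [CommRing S] [IsDomain S] [Algebra R S] [Field K] [Field L] [Algebra R K] [IsFractionRing R K]
    [Algebra S L] [IsFractionRing S L] [Algebra K L] [Algebra R L] [IsScalarTower R K L]
    [IsScalarTower R S L] [FiniteDimensional K L] [IsLocalRing R] (hdim : ringKrullDim R = 1) :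
    (∀ n ∈ (IsLocalRing.maximalIdeal R).primesOver S, n.IsMaximal) ∧
      ((IsLocalRing.maximalIdeal R).primesOver S).Finite ∧
      ∀ n ∈ (IsLocalRing.maximalIdeal R).primesOver S, Module.Finite R (S ⧸ n) := by
  -- a nonzero element of the maximal ideal
  have hnf : ¬ IsField R := not_isField_of_dim_one hdim
  obtain ⟨x, hxm, hx0⟩ : ∃ x ∈ IsLocalRing.maximalIdeal R, x ≠ 0 := by
    by_contra hcon
    push Not at hcon
    apply hnf
    apply IsLocalRing.isField_iff_maximalIdeal_eq.mpr
    rw [eq_bot_iff]
    intro y hy
    exact hcon y hy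
  set I : Ideal S := Ideal.span {algebraMap R S x} with hI
  have hlen : Module.length R (S ⧸ I) ≠ ⊤ := length_quot_span_ne_top K L hdim.le x hx0
  have hfl := hlen
  rw [Module.length_ne_top_iff, isFiniteLength_iff_isNoetherian_isArtinian] at hfl
  haveI hArt : IsArtinianRing (S ⧸ I) := isArtinian_of_tower R hfl.2
  haveI hNoeth : IsNoetherian R (S ⧸ I) := hfl.1
  have hIn : ∀ n ∈ (IsLocalRing.maximalIdeal R).primesOver S, I ≤ n := by
    rintro n ⟨_, hn⟩
    rw [hI, Ideal.span_singleton_le_iff_mem]
    have : x ∈ n.under R := by rw [← hn.over]; exact hxm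
    exact this
  have hsurj : Surjective (Ideal.Quotient.mk I) := Ideal.Quotient.mk_surjective
  refine ⟨?_, ?_, ?_⟩
  · rintro n hn
    haveI : n.IsPrime := hn.1
    have hle := hIn n hn
    have hker : RingHom.ker (Ideal.Quotient.mk I) ≤ n := by rwa [Ideal.mk_ker]
    haveI : (n.map (Ideal.Quotient.mk I)).IsPrime := Ideal.map_isPrime_of_surjective hsurj hker
    have hmax : (n.map (Ideal.Quotient.mk I)).IsMaximal := inferInstance
    have := Ideal.comap_isMaximal_of_surjective (Ideal.Quotient.mk I) hsurj (K := n.map (Ideal.Quotient.mk I))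
    rwa [Ideal.comap_map_of_surjective _ hsurj, ← RingHom.ker_eq_comap_bot,
      sup_eq_left.mpr hker] at this
  · haveI : Finite (PrimeSpectrum (S ⧸ I)) := inferInstance
    let f : (IsLocalRing.maximalIdeal R).primesOver S → PrimeSpectrum (S ⧸ I) := fun n =>
      ⟨n.1.map (Ideal.Quotient.mk I), by
        haveI : n.1.IsPrime := n.2.1
        have hker : RingHom.ker (Ideal.Quotient.mk I) ≤ n.1 := by
          rw [Ideal.mk_ker]; exact hIn n.1 n.2
        exact Ideal.map_isPrime_of_surjective hsurj hker⟩
    have hf : Injective f := by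
      intro n n' h
      have h' : n.1.map (Ideal.Quotient.mk I) = n'.1.map (Ideal.Quotient.mk I) :=
        congrArg PrimeSpectrum.asIdeal h
      have h2 := congrArg (Ideal.comap (Ideal.Quotient.mk I)) h'
      rw [Ideal.comap_map_of_surjective _ hsurj, Ideal.comap_map_of_surjective _ hsurj,
        ← RingHom.ker_eq_comap_bot, Ideal.mk_ker, sup_eq_left.mpr (hIn n.1 n.2),
        sup_eq_left.mpr (hIn n'.1 n'.2)] at h2
      exact Subtype.ext h2
    exact Set.finite_coe_iff.mp (Finite.of_injective f hf)
  · rintro n hn
    have hle := hIn n hn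
    haveI : Module.Finite R (S ⧸ I) := inferInstance
    let g : (S ⧸ I) →ₗ[R] (S ⧸ n) :=
      (Ideal.Quotient.factorₐ R hle).toLinearMap
    have hg : Surjective g := Ideal.Quotient.factor_surjective hle
    exact Module.Finite.of_surjective g hg

end Groth.Agent.Helper6.Dim1
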