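import Mathlib
import Groth.Prelude.Def_ProEtW

set_option backward.isDefEq.respectTransparency false
set_option backward.isDefEq.respectTransparency.types false
set_option linter.style.haveILetI false
set_option autoImplicit false

open Set Topology TopologicalSpace

namespace Groth.Agent.Helper6.SpecTop

universe u

section Clopen

variable {X : Type*} [TopologicalSpace X]

/-- In a compact, prespectral, quasi-separated space, the connected component of a point is the
intersection of its clopen neighbourhoods. -/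
theorem cc_eq_iInter_isClopen [CompactSpace X] [PrespectralSpace X] [QuasiSeparatedSpace X] (x : X) :
    connectedComponent x = ⋂ s : { s : Set X // IsClopen s ∧ x ∈ s }, (s : Set X) := by
  apply Subset.antisymm connectedComponent_subset_iInter_isClopen
  refine IsPreconnected.subset_connectedComponent ?_ (mem_iInter.2 fun s => s.2.2)
  have hs : IsClosed (⋂ s : { s : Set X // IsClopen s ∧ x ∈ s }, (s : Set X)) :=
    isClosed_iInter fun s => s.2.1.1
  rw [isPreconnected_iff_subset_of_fully_disjoint_closed hs]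
  intro a b ha hb hab ab_disj
  obtain ⟨u, huc, huo, hau, hub⟩ :=
    PrespectralSpace.exists_isCompact_and_isOpen_between ha.isCompact hb.isOpen_compl
      (fun z hz hzb => (Set.disjoint_left.mp ab_disj) hz hzb)
  obtain ⟨v, hvc, hvo, hbv, hva⟩ :=
    PrespectralSpace.exists_isCompact_and_isOpen_between hb.isCompact ha.isOpen_compl
      (fun z hz hza => (Set.disjoint_left.mp ab_disj) hza hz)
  -- the compact set K = (u ∩ v) ∪ (u ∪ v)ᶜ is disjoint from S
  have hK : IsCompact ((u ∩ v) ∪ (u ∪ v)ᶜ) :=
    (huc.inter_of_isOpen hvc huo hvo).union (huo.union hvo).isClosed_compl.isCompact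
  have hKS : ((u ∩ v) ∪ (u ∪ v)ᶜ) ∩ ⋂ s : { s : Set X // IsClopen s ∧ x ∈ s }, (s : Set X) = ∅ := by
    rw [Set.eq_empty_iff_forall_notMem]
    rintro z ⟨hz, hzS⟩
    rcases hab hzS with hza | hzb
    · rcases hz with ⟨_, hzv⟩ | hz
      · exact hva hzv hza
      · exact hz (Or.inl (hau hza))
    · rcases hz with ⟨hzu, _⟩ | hz
      · exact hub hzu hzb
      · exact hz (Or.inr (hbv hzb))
  obtain ⟨F, hF⟩ := hK.elim_finite_subfamily_closed _ (fun s => s.2.1.1) hKS
  set Z : Set X := ⋂ i ∈ F, (i : Set X) with hZ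
  have hZc : IsClopen Z := isClopen_biInter_finset fun s _ => s.2.1
  have hxZ : x ∈ Z := mem_iInter₂.2 fun s _ => s.2.2
  have hZ1 : Z ⊆ u ∪ v := by
    intro z hz
    by_contra hzn
    have : z ∈ ((u ∩ v) ∪ (u ∪ v)ᶜ) ∩ Z := ⟨Or.inr hzn, hz⟩
    rw [hF] at this
    exact this
  have hZ2 : ∀ z ∈ Z, z ∈ u → z ∈ v → False := by
    intro z hz hzu hzv
    have : z ∈ ((u ∩ v) ∪ (u ∪ v)ᶜ) ∩ Z := ⟨Or.inl ⟨hzu, hzv⟩, hz⟩
    rw [hF] at this
    exact this
  have hZu : IsClopen (Z ∩ u) := by
    refine ⟨?_, hZc.2.inter huo⟩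
    have : Z ∩ u = Z ∩ vᶜ := by
      ext z
      constructor
      · rintro ⟨hz, hzu⟩
        exact ⟨hz, fun hzv => hZ2 z hz hzu hzv⟩
      · rintro ⟨hz, hzv⟩
        exact ⟨hz, (hZ1 hz).resolve_right hzv⟩
    rw [this]
    exact hZc.1.inter hvo.isClosed_compl
  have hZv : IsClopen (Z ∩ v) := by
    refine ⟨?_, hZc.2.inter hvo⟩
    have : Z ∩ v = Z ∩ uᶜ := by
      ext z
      constructor
      · rintro ⟨hz, hzv⟩
        exact ⟨hz, fun hzu => hZ2 z hz hzu hzv⟩
      · rintro ⟨hz, hzu⟩
        exact ⟨hz, (hZ1 hz).resolve_left hzu⟩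
    rw [this]
    exact hZc.1.inter huo.isClosed_compl
  rcases hZ1 hxZ with hxu | hxv
  · left
    have hSu : (⋂ s : { s : Set X // IsClopen s ∧ x ∈ s }, (s : Set X)) ⊆ Z ∩ u :=
      iInter_subset (fun s : { s : Set X // IsClopen s ∧ x ∈ s } => s.1) ⟨Z ∩ u, hZu, hxZ, hxu⟩
    intro z hz
    rcases hab hz with hza | hzb
    · exact hza
    · exact absurd hzb (hub (hSu hz).2)
  · right
    have hSv : (⋂ s : { s : Set X // IsClopen s ∧ x ∈ s }, (s : Set X)) ⊆ Z ∩ v :=
      iInter_subset (fun s : { s : Set X // IsClopen s ∧ x ∈ s } => s.1) ⟨Z ∩ v, hZv, hxZ, hxv⟩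
    intro z hz
    rcases hab hz with hza | hzb
    · exact absurd hza (hva (hSv hz).2)
    · exact hzb

/-- `π₀` of a compact prespectral quasi-separated space is Hausdorff. -/
theorem t2_connectedComponents [CompactSpace X] [PrespectralSpace X] [QuasiSeparatedSpace X] :
    T2Space (ConnectedComponents X) := by
  refine ⟨ConnectedComponents.surjective_coe.forall₂.2 fun a b ne => ?_⟩
  rw [ConnectedComponents.coe_ne_coe] at ne
  have h := connectedComponent_disjoint ne
  rw [cc_eq_iInter_isClopen b, disjoint_iff_inter_eq_empty] at h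
  obtain ⟨U, V, hU, ha, hb, rfl⟩ : ∃ (U : Set X) (V : Set (ConnectedComponents X)),
      IsClopen U ∧ connectedComponent a ∩ U = ∅ ∧ connectedComponent b ⊆ U ∧ (↑) ⁻¹' V = U := by
    have h :=
      (isClosed_connectedComponent (α := X)).isCompact.elim_finite_subfamily_closed
        _ (fun s : { s : Set X // IsClopen s ∧ b ∈ s } => s.2.1.1) h
    obtain ⟨fin_a, ha⟩ := h
    set U : Set X := ⋂ (i : { s // IsClopen s ∧ b ∈ s }) (_ : i ∈ fin_a), i
    have hU : IsClopen U := isClopen_biInter_finset fun i _ => i.2.1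
    exact ⟨U, (↑) '' U, hU, ha, subset_iInter₂ fun s _ => s.2.1.connectedComponent_subset s.2.2,
      (connectedComponents_preimage_image U).symm ▸ hU.biUnion_connectedComponent_eq⟩
  rw [ConnectedComponents.isQuotientMap_coe.isClopen_preimage] at hU
  refine ⟨Vᶜ, V, hU.compl.isOpen, hU.isOpen, ?_, hb mem_connectedComponent, disjoint_compl_left⟩
  exact fun h => flip Set.Nonempty.ne_empty ha ⟨a, mem_connectedComponent, h⟩

theorem mk_eq_of_specializes {x x' : X} (h : x ⤳ x') :
    ConnectedComponents.mk x' = ConnectedComponents.mk x :=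
  ConnectedComponents.coe_eq_coe'.mpr
    ((isPreconnected_singleton.closure).subset_connectedComponent (subset_closure rfl)
      (specializes_iff_mem_closure.mp h))

theorem isClosed_singleton_iff_forall_specializes {y : X} :
    IsClosed ({y} : Set X) ↔ ∀ y', y ⤳ y' → y' = y := by
  rw [← closure_subset_iff_isClosed]
  constructor
  · intro h y' hy'
    exact h (specializes_iff_mem_closure.mp hy')
  · intro h y' hy'
    exact h y' (specializes_iff_mem_closure.mpr hy')

end Clopen

section Prod

variable {X T : Type*} [TopologicalSpace X] [TopologicalSpace T]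

theorem quasiSober_prod [QuasiSober X] [T2Space T] : QuasiSober (X × T) := by
  refine ⟨fun {S} hS hSc => ?_⟩
  obtain ⟨⟨x0, t0⟩, h0⟩ := hS.nonempty
  have h2 : ∀ p ∈ S, p.2 = t0 := by
    intro p hp
    have hsub : (Prod.snd '' S).Subsingleton :=
      (hS.isPreirreducible.image Prod.snd continuous_snd.continuousOn).subsingleton
    exact hsub ⟨p, hp, rfl⟩ ⟨_, h0, rfl⟩
  have hS'c : IsClosed ((fun x : X => (x, t0)) ⁻¹' S) := hSc.preimage (by fun_prop)
  have hS'eq : (fun x : X => (x, t0)) ⁻¹' S = Prod.fst '' S := by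
    ext x
    constructor
    · intro hx
      exact ⟨(x, t0), hx, rfl⟩
    · rintro ⟨p, hp, rfl⟩
      have := h2 p hp
      show (p.1, t0) ∈ S
      rw [← this]
      exact hp
  have hS'i : IsIrreducible ((fun x : X => (x, t0)) ⁻¹' S) := by
    rw [hS'eq]
    exact hS.image Prod.fst continuous_fst.continuousOn
  obtain ⟨x, hx⟩ := QuasiSober.sober hS'i hS'c
  refine ⟨(x, t0), ?_⟩
  rw [isGenericPoint_def] at hx ⊢
  have hsing : ({(x, t0)} : Set (X × T)) = {x} ×ˢ {t0} := by
    rw [Set.singleton_prod_singleton]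
  rw [hsing, closure_prod_eq, hx, closure_singleton]
  ext p
  constructor
  · rintro ⟨h1, h2'⟩
    have hp2 : p.2 = t0 := h2'
    have : p = (p.1, t0) := by rw [← hp2]
    rw [this]
    exact h1
  · intro hp
    refine ⟨?_, h2 p hp⟩
    show (p.1, t0) ∈ S
    rw [← h2 p hp]
    exact hp

end Prod

section Pullback

variable {X T : Type u} [TopologicalSpace X] [TopologicalSpace T]

/-- the fibre product `X ×_{π₀ X} T`. -/
abbrev PB (g : C(T, ConnectedComponents X)) : Type u :=
  {p : X × T // ConnectedComponents.mk p.1 = g p.2}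

variable (g : C(T, ConnectedComponents X))

theorem isClosed_pb [T2Space (ConnectedComponents X)] :
    IsClosed {p : X × T | ConnectedComponents.mk p.1 = g p.2} :=
  isClosed_eq (ConnectedComponents.continuous_coe.comp continuous_fst)
    (g.continuous.comp continuous_snd)

theorem spectral_pb [SpectralSpace X] [CompactSpace T] [T2Space T] [TotallyDisconnectedSpace T] :
    SpectralSpace (PB g) := by
  haveI : T2Space (ConnectedComponents X) := t2_connectedComponents
  haveI : QuasiSober (X × T) := quasiSober_prod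
  have hcl : IsClosed {p : X × T | ConnectedComponents.mk p.1 = g p.2} := isClosed_pb g
  have hemb : IsClosedEmbedding (Subtype.val : PB g → X × T) := hcl.isClosedEmbedding_subtypeVal
  haveI : CompactSpace (PB g) := isCompact_iff_compactSpace.mp hcl.isCompact
  haveI : QuasiSober (PB g) := hemb.quasiSober
  -- the basis of boxes
  have hB : IsTopologicalBasis ((preimage (Subtype.val : PB g → X × T)) ''
      (image2 (· ×ˢ ·) {U : Set X | IsOpen U ∧ IsCompact U} {V : Set T | IsClopen V})) :=
    (PrespectralSpace.isTopologicalBasis.prod isTopologicalBasis_isClopen).isInducing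
      hemb.isInducing
  have hcomp : ∀ W₁ ∈ ((preimage (Subtype.val : PB g → X × T)) ''
      (image2 (· ×ˢ ·) {U : Set X | IsOpen U ∧ IsCompact U} {V : Set T | IsClopen V})),
      ∀ W₂ ∈ ((preimage (Subtype.val : PB g → X × T)) ''
      (image2 (· ×ˢ ·) {U : Set X | IsOpen U ∧ IsCompact U} {V : Set T | IsClopen V})),
      IsCompact (W₁ ∩ W₂) := by
    rintro _ ⟨_, ⟨U, hU, V, hV, rfl⟩, rfl⟩ _ ⟨_, ⟨U', hU', V', hV', rfl⟩, rfl⟩
    rw [← Set.preimage_inter, Set.prod_inter_prod]
    exact hemb.isCompact_preimage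
      ((hU.2.inter_of_isOpen hU'.2 hU.1 hU'.1).prod (hV.1.inter hV'.1).isCompact)
  haveI : PrespectralSpace (PB g) :=
    PrespectralSpace.of_isTopologicalBasis hB (fun W hW => by
      have := hcomp W hW W hW
      rwa [Set.inter_self] at this)
  haveI : QuasiSeparatedSpace (PB g) := by
    refine QuasiSeparatedSpace.of_isTopologicalBasis
      (b := fun W : ((preimage (Subtype.val : PB g → X × T)) ''
      (image2 (· ×ˢ ·) {U : Set X | IsOpen U ∧ IsCompact U} {V : Set T | IsClopen V})) => (W : Set (PB g)))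
      ?_ ?_
    · rw [Subtype.range_coe]
      exact hB
    · intro W₁ W₂
      exact hcomp W₁ W₁.2 W₂ W₂.2
  exact { }

/-- the homeomorphism `π₀ (X ×_{π₀ X} T) ≃ T`. -/
theorem exists_homeo [SpectralSpace X] [CompactSpace T] [T2Space T] [TotallyDisconnectedSpace T] :
    ∃ e : ConnectedComponents (PB g) ≃ₜ T, ∀ y : PB g, e (ConnectedComponents.mk y) = y.1.2 := by
  haveI : T2Space (ConnectedComponents X) := t2_connectedComponents
  have hcl : IsClosed {p : X × T | ConnectedComponents.mk p.1 = g p.2} := isClosed_pb g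
  haveI : CompactSpace (PB g) := isCompact_iff_compactSpace.mp hcl.isCompact
  have hφ : Continuous (fun y : PB g => y.1.2) := by fun_prop
  have hinj : Function.Injective hφ.connectedComponentsLift := by
    intro a b hab
    obtain ⟨y, rfl⟩ := ConnectedComponents.surjective_coe a
    obtain ⟨y', rfl⟩ := ConnectedComponents.surjective_coe b
    change hφ.connectedComponentsLift (y : ConnectedComponents (PB g)) =
      hφ.connectedComponentsLift (y' : ConnectedComponents (PB g)) at hab
    rw [hφ.connectedComponentsLift_apply_coe, hφ.connectedComponentsLift_apply_coe] at hab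
    rw [ConnectedComponents.coe_eq_coe']
    -- the fibre through y' is connected
    let j : connectedComponent y'.1.1 → PB g := fun z =>
      ⟨(z.1, y'.1.2), (ConnectedComponents.coe_eq_coe'.mpr z.2).trans y'.2⟩
    have hj : Continuous j := by
      refine Continuous.subtype_mk ?_ _
      fun_prop
    haveI : ConnectedSpace (connectedComponent y'.1.1) :=
      Subtype.connectedSpace isConnected_connectedComponent
    have hpre : IsPreconnected (Set.range j) := isPreconnected_range hj
    have hy' : y' ∈ Set.range j := ⟨⟨y'.1.1, mem_connectedComponent⟩, rfl⟩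
    have hy : y ∈ Set.range j := by
      have h1 : ConnectedComponents.mk y.1.1 = ConnectedComponents.mk y'.1.1 := by
        rw [y.2, y'.2]
        exact congrArg g hab
      refine ⟨⟨y.1.1, ConnectedComponents.coe_eq_coe'.mp h1⟩, ?_⟩
      apply Subtype.ext
      exact Prod.ext rfl hab.symm
    exact hpre.subset_connectedComponent hy' hy
  have hsurj : Function.Surjective hφ.connectedComponentsLift := by
    intro t
    obtain ⟨x, hx⟩ := ConnectedComponents.surjective_coe (g t)
    refine ⟨ConnectedComponents.mk (⟨(x, t), hx⟩ : PB g), ?_⟩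
    exact hφ.connectedComponentsLift_apply_coe _
  refine ⟨Continuous.homeoOfEquivCompactToT2
    (f := Equiv.ofBijective hφ.connectedComponentsLift ⟨hinj, hsurj⟩)
    hφ.connectedComponentsLift_continuous, fun y => ?_⟩
  exact hφ.connectedComponentsLift_apply_coe y

/-- closed points of the pullback. -/
theorem isClosed_singleton_pb_iff [T2Space T] (y : PB g) :
    IsClosed ({y} : Set (PB g)) ↔ IsClosed ({y.1.1} : Set X) := by
  rw [isClosed_singleton_iff_forall_specializes, isClosed_singleton_iff_forall_specializes]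
  constructor
  · intro h x' hx'
    have hmem : ConnectedComponents.mk x' = g y.1.2 := (mk_eq_of_specializes hx').trans y.2
    have hs : y ⤳ (⟨(x', y.1.2), hmem⟩ : PB g) := by
      rw [subtype_specializes_iff]
      show (y.1.1, y.1.2) ⤳ (x', y.1.2)
      rw [specializes_prod]
      exact ⟨hx', specializes_rfl⟩
    have := h _ hs
    exact congrArg (fun z : PB g => z.1.1) this
  · intro h y' hy'
    rw [subtype_specializes_iff] at hy'
    have hy'' : (y.1.1, y.1.2) ⤳ (y'.1.1, y'.1.2) := hy'
    rw [specializes_prod] at hy''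
    apply Subtype.ext
    exact Prod.ext (h _ hy''.1) hy''.2.eq.symm

theorem wLocal_pb [CompactSpace T] [T2Space T] [TotallyDisconnectedSpace T]
    (hX : ProEtW.IsWLocal X) :
    ProEtW.IsWLocal (PB g) ∧
      ProEtW.IsWLocalMap (fun y : PB g => y.1.1) ∧
      ProEtW.closedPoints (PB g) = (fun y : PB g => y.1.1) ⁻¹' ProEtW.closedPoints X := by
  haveI : SpectralSpace X := hX.1
  haveI : T2Space (ConnectedComponents X) := t2_connectedComponents
  have hcl : IsClosed {p : X × T | ConnectedComponents.mk p.1 = g p.2} := isClosed_pb g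
  have hemb : IsClosedEmbedding (Subtype.val : PB g → X × T) := hcl.isClosedEmbedding_subtypeVal
  have hπ : Continuous (fun y : PB g => y.1.1) := by fun_prop
  have hcp : {y : PB g | IsClosed ({y} : Set (PB g))} =
      (fun y : PB g => y.1.1) ⁻¹' {x : X | IsClosed ({x} : Set X)} := by
    ext y
    exact isClosed_singleton_pb_iff g y
  refine ⟨⟨spectral_pb g, ?_, ?_⟩, ⟨⟨hπ, ?_⟩, ?_⟩, hcp⟩
  · rw [hcp]
    exact hX.2.1.preimage hπ
  · intro y
    obtain ⟨x', ⟨hc, hs⟩, huniq⟩ := hX.2.2 y.1.1
    have hmem : ConnectedComponents.mk x' = g y.1.2 := (mk_eq_of_specializes hs).trans y.2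
    refine ⟨⟨(x', y.1.2), hmem⟩, ⟨?_, ?_⟩, ?_⟩
    · rw [isClosed_singleton_pb_iff]
      exact hc
    · rw [subtype_specializes_iff]
      show (y.1.1, y.1.2) ⤳ (x', y.1.2)
      rw [specializes_prod]
      exact ⟨hs, specializes_rfl⟩
    · rintro y'' ⟨hc'', hs''⟩
      rw [subtype_specializes_iff] at hs''
      have hs3 : (y.1.1, y.1.2) ⤳ (y''.1.1, y''.1.2) := hs''
      rw [specializes_prod] at hs3
      have h1 : y''.1.1 = x' := huniq _ ⟨(isClosed_singleton_pb_iff g y'').mp hc'', hs3.1⟩
      apply Subtype.ext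
      exact Prod.ext h1 hs3.2.eq.symm
  · intro U hUo hUc
    have : (fun y : PB g => y.1.1) ⁻¹' U = (Subtype.val : PB g → X × T) ⁻¹' (U ×ˢ Set.univ) := by
      ext y
      simp
    rw [this]
    exact hemb.isCompact_preimage (hUc.prod isCompact_univ)
  · intro y hy
    exact (isClosed_singleton_pb_iff g y).mp hy

end Pullback

end Groth.Agent.Helper6.SpecTop
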