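import Mathlib
import Groth.Prelude.Def_ProEtW
import Groth.Agent.Helper6.SpecTop

set_option backward.isDefEq.respectTransparency false
set_option backward.isDefEq.respectTransparency.types false
set_option linter.style.haveILetI false
set_option autoImplicit false

open Set Topology TopologicalSpace

namespace Groth.Agent.Helper6.WLocalTop

universe u

section Constr

variable {X : Type*} [TopologicalSpace X]

theorem isOpen_constructible_of_isOpen [PrespectralSpace X] {U : Set X} (hU : IsOpen U) :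
    IsOpen[constructibleTopology X] U := by
  rw [PrespectralSpace.isTopologicalBasis.open_eq_sUnion' hU]
  refine @isOpen_sUnion X (constructibleTopology X) _ ?_
  rintro s ⟨hs, -⟩
  exact hs.2.isOpen_constructibleTopology_of_isOpen hs.1

theorem isClosed_constructible_of_isClosed [PrespectralSpace X] {Z : Set X} (hZ : IsClosed Z) :
    IsClosed[constructibleTopology X] Z :=
  @IsClosed.mk X (constructibleTopology X) Z (isOpen_constructible_of_isOpen hZ.isOpen_compl)

theorem isClosed_constructible_of_isOpen_isCompact {U : Set X} (hU : IsOpen U)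
    (hc : IsCompact U) : IsClosed[constructibleTopology X] U :=
  @IsClosed.mk X (constructibleTopology X) U
    (IsCompact.isOpen_constructibleTopology_of_isClosed (by rwa [compl_compl]) hU.isClosed_compl)

/-- a constructibly closed set which is stable under specialization is closed -/
theorem isClosed_of_constructible_of_specializes [SpectralSpace X] {S : Set X}
    (hS : IsClosed[constructibleTopology X] S) (hspec : ∀ x y, x ⤳ y → x ∈ S → y ∈ S) :
    IsClosed S := by
  rw [← closure_subset_iff_isClosed]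
  intro x hx
  let ι := {U : Set X // IsOpen U ∧ IsCompact U ∧ x ∈ U}
  let T : ι → Set (WithConstructibleTopology X) :=
    fun U => WithTopology.ofTopology ⁻¹' (U.1 ∩ S)
  have hTc : ∀ U, IsClosed (T U) := by
    intro U
    rw [WithTopology.isClosed_iff]
    show IsClosed[constructibleTopology X] (U.1 ∩ S)
    exact @IsClosed.inter X _ _ (constructibleTopology X)
      (isClosed_constructible_of_isOpen_isCompact U.2.1 U.2.2.1) hS
  have hfin : ∀ u : Finset ι, (Set.univ ∩ ⋂ i ∈ u, T i).Nonempty := by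
    intro u
    have hWo : IsOpen (⋂ i ∈ u, (i : ι).1) := isOpen_biInter_finset (fun i _ => i.2.1)
    have hxW : x ∈ (⋂ i ∈ u, (i : ι).1) := Set.mem_iInter₂.mpr fun i _ => i.2.2.2
    obtain ⟨z, hzW, hzS⟩ := mem_closure_iff.mp hx _ hWo hxW
    refine ⟨WithTopology.toTopology _ z, Set.mem_univ _, ?_⟩
    rw [Set.mem_iInter₂]
    intro i hi
    exact ⟨Set.mem_iInter₂.mp hzW i hi, hzS⟩
  obtain ⟨z', -, hz'⟩ := isCompact_univ.inter_iInter_nonempty T hTc hfin
  have hz : ∀ U : ι, z'.ofTopology ∈ U.1 ∩ S := fun U => Set.mem_iInter.mp hz' U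
  have hzS : z'.ofTopology ∈ S := (hz ⟨Set.univ, isOpen_univ, isCompact_univ, Set.mem_univ x⟩).2
  have hzx : z'.ofTopology ⤳ x := by
    rw [specializes_iff_forall_open]
    intro V hV hxV
    obtain ⟨U, ⟨hUo, hUc⟩, hxU, hUV⟩ :=
      PrespectralSpace.isTopologicalBasis.exists_subset_of_mem_open hxV hV
    exact hUV (hz ⟨U, hUo, hUc, hxU⟩).1
  exact hspec _ x hzx hzS

/-- generizations of a set -/
def Gen (W : Set X) : Set X := {x | ∃ w ∈ W, x ⤳ w}

theorem gen_eq_sInter [CompactSpace X] [PrespectralSpace X] {W : Set X} (hW : IsClosed W) :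
    Gen W = ⋂₀ {U : Set X | IsOpen U ∧ IsCompact U ∧ W ⊆ U} := by
  ext x
  constructor
  · rintro ⟨w, hw, hxw⟩ U ⟨hUo, -, hWU⟩
    exact hxw.mem_open hUo (hWU hw)
  · intro hx
    by_contra hcon
    have hsub : W ⊆ (closure {x})ᶜ := by
      intro w hw hwx
      exact hcon ⟨w, hw, specializes_iff_mem_closure.mpr hwx⟩
    obtain ⟨U, hUc, hUo, hWU, hUx⟩ := PrespectralSpace.exists_isCompact_and_isOpen_between
      hW.isCompact isClosed_closure.isOpen_compl hsub
    exact hUx (hx U ⟨hUo, hUc, hWU⟩) (subset_closure rfl)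

end Constr

section WLocal

variable {X : Type u} [TopologicalSpace X]

theorem isClosed_gen (hX : ProEtW.IsWLocal X) {W : Set X} (hW : IsClosed W)
    (hWc : ∀ w ∈ W, IsClosed ({w} : Set X)) : IsClosed (Gen W) := by
  haveI : SpectralSpace X := hX.1
  apply isClosed_of_constructible_of_specializes
  · rw [gen_eq_sInter hW]
    refine @isClosed_sInter X (constructibleTopology X) _ ?_
    rintro U ⟨hUo, hUc, -⟩
    exact isClosed_constructible_of_isOpen_isCompact hUo hUc
  · rintro x y hxy ⟨w, hw, hxw⟩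
    obtain ⟨c, ⟨hc, hyc⟩, -⟩ := hX.2.2 y
    obtain ⟨c', -, huniq⟩ := hX.2.2 x
    have h1 : c = c' := huniq c ⟨hc, hxy.trans hyc⟩
    have h2 : w = c' := huniq w ⟨hWc w hw, hxw⟩
    refine ⟨w, hw, ?_⟩
    rw [h2, ← h1]
    exact hyc

/-- distinct closed points of a w-local space lie in distinct connected components -/
theorem mk_ne_mk_of_closed_ne (hX : ProEtW.IsWLocal X) {x1 x2 : X}
    (h1 : IsClosed ({x1} : Set X)) (h2 : IsClosed ({x2} : Set X)) (hne : x1 ≠ x2) :
    (ConnectedComponents.mk x1) ≠ ConnectedComponents.mk x2 := by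
  haveI : SpectralSpace X := hX.1
  obtain ⟨Xc, hXc⟩ : ∃ Xc : Set X, Xc = {x : X | IsClosed ({x} : Set X)} := ⟨_, rfl⟩
  have hXcc : IsClosed Xc := hXc ▸ hX.2.1
  have hmemXc : ∀ w, w ∈ Xc ↔ IsClosed ({w} : Set X) := fun w => by rw [hXc]; rfl
  have hopen : IsOpen ({x2}ᶜ : Set X) := h2.isOpen_compl
  obtain ⟨U, ⟨hUo, hUc⟩, hx1U, hUsub⟩ :=
    PrespectralSpace.isTopologicalBasis.exists_subset_of_mem_open
      (show x1 ∈ ({x2}ᶜ : Set X) from hne) hopen
  have hx2U : x2 ∉ U := fun h => hUsub h rfl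
  have hW1 : IsClosed (Xc ∩ U) := by
    apply isClosed_of_constructible_of_specializes
    · exact @IsClosed.inter X _ _ (constructibleTopology X)
        (isClosed_constructible_of_isClosed hXcc)
        (isClosed_constructible_of_isOpen_isCompact hUo hUc)
    · rintro x y hxy ⟨hxc, hxU⟩
      have : y = x :=
        (SpecTop.isClosed_singleton_iff_forall_specializes.mp ((hmemXc x).mp hxc)) y hxy
      rw [this]
      exact ⟨hxc, hxU⟩
  have hW2 : IsClosed (Xc ∩ Uᶜ) := hXcc.inter hUo.isClosed_compl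
  have hG1 := isClosed_gen hX hW1 (fun w hw => (hmemXc w).mp hw.1)
  have hG2 := isClosed_gen hX hW2 (fun w hw => (hmemXc w).mp hw.1)
  have hcover : ∀ x, x ∈ Gen (Xc ∩ U) ∨ x ∈ Gen (Xc ∩ Uᶜ) := by
    intro x
    obtain ⟨c, ⟨hc, hxc⟩, -⟩ := hX.2.2 x
    by_cases hcU : c ∈ U
    · exact Or.inl ⟨c, ⟨(hmemXc c).mpr hc, hcU⟩, hxc⟩
    · exact Or.inr ⟨c, ⟨(hmemXc c).mpr hc, hcU⟩, hxc⟩
  have hdisj : ∀ x, x ∈ Gen (Xc ∩ U) → x ∈ Gen (Xc ∩ Uᶜ) → False := by
    rintro x ⟨w1, hw1, hxw1⟩ ⟨w2, hw2, hxw2⟩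
    obtain ⟨c, -, huniq⟩ := hX.2.2 x
    have e1 : w1 = c := huniq w1 ⟨(hmemXc w1).mp hw1.1, hxw1⟩
    have e2 : w2 = c := huniq w2 ⟨(hmemXc w2).mp hw2.1, hxw2⟩
    apply hw2.2
    rw [e2, ← e1]
    exact hw1.2
  have hclopen : IsClopen (Gen (Xc ∩ U)) := by
    refine ⟨hG1, ?_⟩
    have : Gen (Xc ∩ U) = (Gen (Xc ∩ Uᶜ))ᶜ := by
      ext x
      constructor
      · intro hx hx'
        exact hdisj x hx hx'
      · intro hx
        rcases hcover x with h | h
        · exact h
        · exact absurd h hx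
    rw [this]
    exact hG2.isOpen_compl
  intro heq
  have hx1 : x1 ∈ Gen (Xc ∩ U) := ⟨x1, ⟨(hmemXc x1).mpr h1, hx1U⟩, specializes_rfl⟩
  have hx2 : x2 ∈ Gen (Xc ∩ Uᶜ) := ⟨x2, ⟨(hmemXc x2).mpr h2, hx2U⟩, specializes_rfl⟩
  have hmem : x2 ∈ connectedComponent x1 := ConnectedComponents.coe_eq_coe'.mp heq.symm
  exact hdisj x2 (hclopen.connectedComponent_subset hx1 hmem) hx2

/-- closed points over closed points, for a w-local map inducing a bijection on `π₀` -/
theorem exists_closed_point_over {X Y : Type u} [TopologicalSpace X] [TopologicalSpace Y]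
    (hX : ProEtW.IsWLocal X) (hY : ProEtW.IsWLocal Y) (f : X → Y) (hf : Continuous f)
    (hfc : ∀ x, IsClosed ({x} : Set X) → IsClosed ({f x} : Set Y))
    (hbij : Function.Bijective hf.connectedComponentsMap) (y : Y)
    (hy : IsClosed ({y} : Set Y)) :
    ∃ x : X, IsClosed ({x} : Set X) ∧ f x = y ∧ ∀ q : X, f q ⤳ y → q ⤳ x := by
  have hmap : ∀ x, hf.connectedComponentsMap (ConnectedComponents.mk x) =
      ConnectedComponents.mk (f x) := fun x => rfl
  obtain ⟨c, hc⟩ := hbij.2 (ConnectedComponents.mk y)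
  obtain ⟨x', rfl⟩ := ConnectedComponents.surjective_coe c
  obtain ⟨x, ⟨hxc, hx'x⟩, -⟩ := hX.2.2 x'
  have hmk : ConnectedComponents.mk x = ConnectedComponents.mk x' :=
    SpecTop.mk_eq_of_specializes hx'x
  have hfx : f x = y := by
    by_contra hne
    apply mk_ne_mk_of_closed_ne hY (hfc x hxc) hy hne
    rw [← hmap, hmk]
    exact hc
  refine ⟨x, hxc, hfx, ?_⟩
  intro q hq
  obtain ⟨cq, ⟨hcq, hqcq⟩, -⟩ := hX.2.2 q
  have h1 : f q ⤳ f cq := hqcq.map hf
  obtain ⟨d, -, huniq⟩ := hY.2.2 (f q)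
  have e1 : f cq = d := huniq _ ⟨hfc cq hcq, h1⟩
  have e2 : y = d := huniq _ ⟨hy, hq⟩
  have hfcq : f cq = y := e1.trans e2.symm
  have : cq = x := by
    by_contra hne
    apply mk_ne_mk_of_closed_ne hX hcq hxc hne
    apply hbij.1
    rw [hmap, hmap, hfcq, hfx]
  rw [← this]
  exact hqcq

end WLocal

end Groth.Agent.Helper6.WLocalTop
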