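import Mathlib
import Groth.Prelude.Def_ProEtW
import Groth.Prelude.Def_PBC
import Groth.Agent.Helper6.WLocalTop

set_option backward.isDefEq.respectTransparency false
set_option backward.isDefEq.respectTransparency.types false
set_option linter.style.haveILetI false
set_option autoImplicit false

open Set Topology TopologicalSpace

namespace Groth.Agent.Helper6.WLocalRing

universe u

theorem bijective_of_closed_points {A B : Type u} [CommRing A] [CommRing B] [Algebra A B]
    (h1 : EtPBC.IdentifiesLocalRings A B)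
    (hF : ∀ y : PrimeSpectrum A, IsClosed ({y} : Set (PrimeSpectrum A)) →
      ∃ x : PrimeSpectrum B, IsClosed ({x} : Set (PrimeSpectrum B)) ∧
        PrimeSpectrum.comap (algebraMap A B) x = y ∧
        ∀ q : PrimeSpectrum B, PrimeSpectrum.comap (algebraMap A B) q ⤳ y → q ⤳ x) :
    Function.Bijective (algebraMap A B) := by
  constructor
  · rw [injective_iff_map_eq_zero]
    intro a ha
    by_contra hne
    obtain ⟨I, hI⟩ : ∃ I : Ideal A, I = LinearMap.ker (LinearMap.toSpanSingleton A A a) :=
      ⟨_, rfl⟩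
    have hmemI : ∀ r : A, r ∈ I ↔ r * a = 0 := by
      intro r
      rw [hI, LinearMap.mem_ker, LinearMap.toSpanSingleton_apply, smul_eq_mul]
    have hItop : I ≠ ⊤ := by
      intro h
      have h1' : (1 : A) ∈ I := h ▸ Submodule.mem_top
      rw [hmemI, one_mul] at h1'
      exact hne h1'
    obtain ⟨m, hm, hIm⟩ := Ideal.exists_le_maximal I hItop
    have hcl : IsClosed ({(⟨m, hm.isPrime⟩ : PrimeSpectrum A)} : Set (PrimeSpectrum A)) :=
      (PrimeSpectrum.isClosed_singleton_iff_isMaximal _).mpr hm
    obtain ⟨x, -, hx, -⟩ := hF ⟨m, hm.isPrime⟩ hcl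
    have hmx : x.asIdeal.comap (algebraMap A B) = m := congrArg PrimeSpectrum.asIdeal hx
    have h0 : Localization.localRingHom (x.asIdeal.comap (algebraMap A B)) x.asIdeal
        (algebraMap A B) rfl
        (algebraMap A (Localization.AtPrime (x.asIdeal.comap (algebraMap A B))) a) = 0 := by
      rw [Localization.localRingHom_to_map, ha, map_zero]
    have h0' := (h1 x).1 (h0.trans (map_zero _).symm)
    rw [IsLocalization.map_eq_zero_iff (x.asIdeal.comap (algebraMap A B)).primeCompl] at h0'
    obtain ⟨s, hs⟩ := h0'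
    have hsI : (s : A) ∈ I := (hmemI _).mpr hs
    have hsm : (s : A) ∈ x.asIdeal.comap (algebraMap A B) :=
      (SetLike.ext_iff.mp hmx (s : A)).mpr (hIm hsI)
    exact s.2 hsm
  · intro b
    obtain ⟨J, hJ⟩ : ∃ J : Ideal A, J = Submodule.comap (LinearMap.toSpanSingleton A B b)
        (LinearMap.range (Algebra.linearMap A B)) := ⟨_, rfl⟩
    have hmemJ : ∀ r : A, r ∈ J ↔ ∃ a : A, algebraMap A B a = algebraMap A B r * b := by
      intro r
      rw [hJ, Submodule.mem_comap, LinearMap.mem_range, LinearMap.toSpanSingleton_apply]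
      simp only [Algebra.linearMap_apply, Algebra.smul_def]
    by_cases hJtop : J = ⊤
    · have h1' : (1 : A) ∈ J := hJtop ▸ Submodule.mem_top
      obtain ⟨a, ha⟩ := (hmemJ 1).mp h1'
      exact ⟨a, by rw [ha, map_one, one_mul]⟩
    · exfalso
      obtain ⟨m, hm, hJm⟩ := Ideal.exists_le_maximal J hJtop
      have hcl : IsClosed ({(⟨m, hm.isPrime⟩ : PrimeSpectrum A)} : Set (PrimeSpectrum A)) :=
        (PrimeSpectrum.isClosed_singleton_iff_isMaximal _).mpr hm
      obtain ⟨x, -, hx, hgen⟩ := hF ⟨m, hm.isPrime⟩ hcl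
      have hmx : x.asIdeal.comap (algebraMap A B) = m := congrArg PrimeSpectrum.asIdeal hx
      obtain ⟨z, hz⟩ := (h1 x).2 (algebraMap B (Localization.AtPrime x.asIdeal) b)
      obtain ⟨a, s, rfl⟩ :=
        IsLocalization.exists_mk'_eq (x.asIdeal.comap (algebraMap A B)).primeCompl z
      rw [Localization.localRingHom_mk', IsLocalization.mk'_eq_iff_eq_mul, ← map_mul,
        IsLocalization.eq_iff_exists x.asIdeal.primeCompl] at hz
      obtain ⟨u, hu⟩ := hz
      obtain ⟨c, hc⟩ : ∃ c : B, c = algebraMap A B s * b - algebraMap A B a := ⟨_, rfl⟩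
      have huc : (u : B) * c = 0 := by
        rw [hc, mul_sub, hu]
        simp only
        ring
      have hclaim : ∃ t : A, t ∉ m ∧ algebraMap A B t * c = 0 := by
        by_contra hcon
        push Not at hcon
        obtain ⟨𝔞, h𝔞⟩ : ∃ 𝔞 : Ideal B, 𝔞 = LinearMap.ker (LinearMap.toSpanSingleton B B c) :=
          ⟨_, rfl⟩
        have hmem𝔞 : ∀ r : B, r ∈ 𝔞 ↔ r * c = 0 := by
          intro r
          rw [h𝔞, LinearMap.mem_ker, LinearMap.toSpanSingleton_apply, smul_eq_mul]
        have hdisj : Disjoint (𝔞 : Set B)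
            ((Submonoid.map (algebraMap A B) m.primeCompl : Submonoid B) : Set B) := by
          rw [Set.disjoint_left]
          rintro r hr ⟨t, ht, rfl⟩
          exact hcon t ht ((hmem𝔞 _).mp hr)
        obtain ⟨q, hqp, h𝔞q, hqT⟩ := Ideal.exists_le_prime_disjoint 𝔞 _ hdisj
        have hqm : q.comap (algebraMap A B) ≤ m := by
          intro r hr
          by_contra hrm
          exact Set.disjoint_left.mp hqT hr ⟨r, hrm, rfl⟩
        have hspec : PrimeSpectrum.comap (algebraMap A B) ⟨q, hqp⟩ ⤳
            (⟨m, hm.isPrime⟩ : PrimeSpectrum A) := by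
          rw [← PrimeSpectrum.le_iff_specializes]
          exact hqm
        have hqx : (⟨q, hqp⟩ : PrimeSpectrum B) ⤳ x := hgen _ hspec
        rw [← PrimeSpectrum.le_iff_specializes] at hqx
        have huq : (u : B) ∈ q := h𝔞q ((hmem𝔞 _).mpr huc)
        exact u.2 (hqx huq)
      obtain ⟨t, htm, htc⟩ := hclaim
      have htsJ : t * s ∈ J := by
        rw [hmemJ]
        refine ⟨t * a, ?_⟩
        rw [hc] at htc
        rw [map_mul, map_mul]
        linear_combination -htc
      have hts : t * s ∈ m := hJm htsJ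
      rcases hm.isPrime.mem_or_mem hts with h | h
      · exact htm h
      · exact s.2 ((SetLike.ext_iff.mp hmx (s : A)).mpr h)

end Groth.Agent.Helper6.WLocalRing
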