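import Mathlib
import Groth.Prelude.Def_ProEtW
import Groth.Prelude.Def_PBC
import Groth.Agent.Helper6.SpecTop

set_option backward.isDefEq.respectTransparency false
set_option backward.isDefEq.respectTransparency.types false
set_option linter.style.haveILetI false
set_option autoImplicit false

universe u

open CategoryTheory CategoryTheory.Limits

namespace Groth.Agent.Helper6.IndZarT

theorem isLocalIso_of_idem {A S : Type*} [CommRing A] [CommRing S] [Algebra A S] (f : A)
    (hf : IsIdempotentElem f)
    (hker : RingHom.ker (algebraMap A S) = Ideal.span {f})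
    (hsurj : Function.Surjective (algebraMap A S)) :
    Algebra.IsLocalIso A S := by
  have h1 : IsLocalization.Away (1 - f) S := by
    refine IsLocalization.away_of_isIdempotentElem hf.one_sub ?_ hsurj
    rw [hker, sub_sub_cancel]
  haveI : Algebra.IsStandardOpenImmersion A S := ⟨⟨1 - f, h1⟩⟩
  infer_instance

variable (A : Type u) [CommRing A] (T : Set (_root_.ConnectedComponents (PrimeSpectrum A)))

/-- idempotents vanishing on the preimage of `T`. -/
def E : Set A :=
  {e | IsIdempotentElem e ∧
    ∀ x : PrimeSpectrum A, _root_.ConnectedComponents.mk x ∈ T → e ∈ x.asIdeal}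

/-- the ideal they generate. -/
def I : Ideal A := Ideal.span (E A T)

theorem join_mem {a f : A} (ha : a ∈ E A T) (hf : f ∈ E A T) : a + f - a * f ∈ E A T := by
  refine ⟨?_, fun x hx => ?_⟩
  · have h1 : a * a = a := ha.1
    have h2 : f * f = f := hf.1
    show (a + f - a * f) * (a + f - a * f) = a + f - a * f
    linear_combination (1 - 2 * f + f * f) * h1 + (1 - a) * h2
  · exact x.asIdeal.sub_mem (x.asIdeal.add_mem (ha.2 x hx) (hf.2 x hx))
      (x.asIdeal.mul_mem_left _ (hf.2 x hx))

theorem zero_mem : (0 : A) ∈ E A T := ⟨IsIdempotentElem.zero, fun x _ => x.asIdeal.zero_mem⟩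

/-- the index category. -/
def Idx : Type u := {e : A // e ∈ E A T}

instance : Preorder (Idx A T) :=
  Preorder.lift (fun e : Idx A T => Ideal.span ({e.1} : Set A))

theorem le_def (a b : Idx A T) :
    a ≤ b ↔ Ideal.span ({a.1} : Set A) ≤ Ideal.span {b.1} := Iff.rfl

instance : Nonempty (Idx A T) := ⟨⟨0, zero_mem A T⟩⟩

instance : IsDirected (Idx A T) (· ≤ ·) :=
  ⟨fun a b => ⟨⟨a.1 + b.1 - a.1 * b.1, join_mem A T a.2 b.2⟩, by
    have h1 : a.1 * a.1 = a.1 := a.2.1
    rw [le_def]
    refine Ideal.span_singleton_le_span_singleton.mpr ⟨a.1, ?_⟩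
    show a.1 = (a.1 + b.1 - a.1 * b.1) * a.1
    linear_combination (b.1 - 1) * h1, by
    have h2 : b.1 * b.1 = b.1 := b.2.1
    rw [le_def]
    refine Ideal.span_singleton_le_span_singleton.mpr ⟨b.1, ?_⟩
    show b.1 = (a.1 + b.1 - a.1 * b.1) * b.1
    linear_combination (a.1 - 1) * h2⟩⟩

theorem span_le (e : Idx A T) : Ideal.span ({e.1} : Set A) ≤ I A T :=
  Ideal.span_mono (Set.singleton_subset_iff.mpr e.2)

/-- the diagram. -/
def D : Idx A T ⥤ Under (CommRingCat.of A) where
  obj e := Under.mk (CommRingCat.ofHom (Ideal.Quotient.mk (Ideal.span ({e.1} : Set A))))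
  map {a b} h := Under.homMk (CommRingCat.ofHom (Ideal.Quotient.factor (leOfHom h))) (by
    ext x; rfl)
  map_id a := by
    apply Under.UnderMorphism.ext
    apply CommRingCat.hom_ext
    apply Ideal.Quotient.ringHom_ext
    ext x; rfl
  map_comp {a b c} f g := by
    apply Under.UnderMorphism.ext
    apply CommRingCat.hom_ext
    apply Ideal.Quotient.ringHom_ext
    ext x; rfl

/-- the cocone. -/
def cc : Cocone (D A T) where
  pt := Under.mk (CommRingCat.ofHom (algebraMap A (A ⧸ I A T)))
  ι :=
    { app := fun e => Under.homMk (CommRingCat.ofHom (Ideal.Quotient.factor (span_le A T e))) (by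
        ext x; rfl)
      naturality := fun a b h => by
        apply Under.UnderMorphism.ext
        apply CommRingCat.hom_ext
        apply Ideal.Quotient.ringHom_ext
        ext x; rfl }

theorem kills (s : Cocone (D A T)) : ∀ a ∈ I A T, s.pt.hom.hom a = 0 := by
  intro a ha
  have hle : I A T ≤ RingHom.ker s.pt.hom.hom := by
    refine Ideal.span_le.mpr fun e he => ?_
    have hw : ((D A T).obj ⟨e, he⟩).hom ≫ (s.ι.app ⟨e, he⟩).right = s.pt.hom :=
      Under.w (s.ι.app ⟨e, he⟩)
    have h0 : (Ideal.Quotient.mk (Ideal.span ({e} : Set A))) e = 0 :=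
      Ideal.Quotient.eq_zero_iff_mem.mpr (Ideal.mem_span_singleton_self e)
    show s.pt.hom.hom e = 0
    rw [← hw]
    show (s.ι.app ⟨e, he⟩).right.hom ((Ideal.Quotient.mk (Ideal.span ({e} : Set A))) e) = 0
    rw [h0, map_zero]
  exact hle ha

/-- it is a colimit. -/
def isCol : IsColimit (cc A T) where
  desc s := Under.homMk
    (CommRingCat.ofHom (Ideal.Quotient.lift (I A T) s.pt.hom.hom (kills A T s))) (by
      ext x; rfl)
  fac s e := by
    apply Under.UnderMorphism.ext
    apply CommRingCat.hom_ext
    apply Ideal.Quotient.ringHom_ext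
    ext x
    have hw : ((D A T).obj e).hom ≫ (s.ι.app e).right = s.pt.hom := Under.w (s.ι.app e)
    show s.pt.hom.hom x = (s.ι.app e).right.hom ((Ideal.Quotient.mk _) x)
    rw [← hw]
    rfl
  uniq s m hm := by
    apply Under.UnderMorphism.ext
    apply CommRingCat.hom_ext
    apply Ideal.Quotient.ringHom_ext
    ext x
    have hw : (cc A T).pt.hom ≫ m.right = s.pt.hom := Under.w m
    show m.right.hom ((Ideal.Quotient.mk _) x) = s.pt.hom.hom x
    rw [← hw]
    rfl

theorem D_locIso (e : Idx A T) :
    letI := ((D A T).obj e).hom.hom.toAlgebra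
    Algebra.IsLocalIso A ((D A T).obj e).right := by
  letI := ((D A T).obj e).hom.hom.toAlgebra
  refine isLocalIso_of_idem e.1 e.2.1 ?_ ?_
  · show RingHom.ker (Ideal.Quotient.mk (Ideal.span ({e.1} : Set A))) = _
    exact Ideal.mk_ker
  · exact Ideal.Quotient.mk_surjective

theorem zeroLocus_I (hT : IsClosed T) :
    PrimeSpectrum.zeroLocus (I A T : Set A) = _root_.ConnectedComponents.mk ⁻¹' T := by
  haveI : T2Space (_root_.ConnectedComponents (PrimeSpectrum A)) := SpecTop.t2_connectedComponents
  ext x
  constructor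
  · intro hx
    by_contra hxT
    obtain ⟨W, hW, hxW, hWT⟩ := compact_exists_isClopen_in_isOpen hT.isOpen_compl
      (show _root_.ConnectedComponents.mk x ∈ Tᶜ from hxT)
    have hcl : IsClopen (_root_.ConnectedComponents.mk ⁻¹' W : Set (PrimeSpectrum A)) :=
      hW.preimage _root_.ConnectedComponents.continuous_coe
    obtain ⟨e, he, hWe⟩ := PrimeSpectrum.isClopen_iff.mp hcl
    have heE : e ∈ E A T := by
      refine ⟨he, fun y hy => ?_⟩
      by_contra hey
      have h1 : y ∈ (PrimeSpectrum.basicOpen e : Set (PrimeSpectrum A)) := hey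
      rw [← hWe] at h1
      exact hWT h1 hy
    have hxe : x ∈ (PrimeSpectrum.basicOpen e : Set (PrimeSpectrum A)) := by
      rw [← hWe]; exact hxW
    exact hxe (((PrimeSpectrum.mem_zeroLocus _ _).mp hx) (Ideal.subset_span heE))
  · intro hx
    rw [I, PrimeSpectrum.zeroLocus_span]
    intro e he
    exact he.2 x hx

theorem main (hT : IsClosed T) :
    ∃ (B : Type u) (_ : CommRing B) (_ : Algebra A B),
      EtPBC.IsIndZariski A B ∧ Function.Surjective (algebraMap A B) ∧
      Topology.IsEmbedding (PrimeSpectrum.comap (algebraMap A B)) ∧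
      Set.range (PrimeSpectrum.comap (algebraMap A B)) = _root_.ConnectedComponents.mk ⁻¹' T := by
  refine ⟨A ⧸ I A T, inferInstance, inferInstance, ?_, Ideal.Quotient.mk_surjective, ?_, ?_⟩
  · exact ⟨Idx A T, inferInstance, inferInstance, D A T, cc A T, isCol A T, D_locIso A T,
      ⟨Iso.refl _⟩⟩
  · exact (PrimeSpectrum.isClosedEmbedding_comap_of_surjective _ _
      Ideal.Quotient.mk_surjective).isEmbedding
  · rw [range_comap_of_surjective _ (algebraMap A (A ⧸ I A T)) Ideal.Quotient.mk_surjective]
    have h : RingHom.ker (algebraMap A (A ⧸ I A T)) = I A T := Ideal.mk_ker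
    rw [h]
    exact zeroLocus_I A T hT

end Groth.Agent.Helper6.IndZarT
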