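import Mathlib
import Groth.Prelude
import Groth.Agent.Helper6.NagataCrit
import Groth.Agent.Helper2.Caten
import Groth.Agent.Lead.RegLocal

/-!
# Nagata's criterion: the algebraic step
-/

set_option autoImplicit false
universe u

namespace Groth.Agent.Helper6.NagataCrit

open IsLocalRing PrimeSpectrum

section Span

variable {R : Type u} [CommRing R] [IsNoetherianRing R]

lemma spanFinrank_le_add (𝔞 I : Ideal R) (hle : 𝔞 ≤ I) :
    I.spanFinrank ≤ 𝔞.spanFinrank + (I.map (Ideal.Quotient.mk 𝔞)).spanFinrank := by
  classical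
  set mk := Ideal.Quotient.mk 𝔞 with hmk
  set J := I.map mk with hJ
  have hfg : J.FG := J.fg_of_isNoetherianRing
  have hGfin : (Submodule.generators J).Finite := Submodule.FG.finite_generators hfg
  have hGspan : Submodule.span _ (Submodule.generators J) = J := Submodule.span_generators J
  have hGcard : (Submodule.generators J).ncard = J.spanFinrank :=
    Submodule.FG.generators_ncard hfg
  have hfga : 𝔞.FG := 𝔞.fg_of_isNoetherianRing
  have hAfin : (Submodule.generators 𝔞).Finite := Submodule.FG.finite_generators hfga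
  have hAspan : Submodule.span _ (Submodule.generators 𝔞) = 𝔞 := Submodule.span_generators 𝔞
  have hAcard : (Submodule.generators 𝔞).ncard = 𝔞.spanFinrank :=
    Submodule.FG.generators_ncard hfga
  have hlift : ∀ g ∈ Submodule.generators J, ∃ a ∈ I, mk a = g := by
    intro g hg
    have : g ∈ J := by rw [← hGspan]; exact Submodule.subset_span hg
    exact (Ideal.mem_map_iff_of_surjective mk Ideal.Quotient.mk_surjective).mp this
  choose! l hlI hl using hlift
  set T : Set R := Submodule.generators 𝔞 ∪ (l '' Submodule.generators J) with hT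
  have hTfin : T.Finite := hAfin.union (hGfin.image l)
  have hTspan : Ideal.span T = I := by
    apply le_antisymm
    · rw [Ideal.span_le]
      rintro t (ht | ⟨g, hg, rfl⟩)
      · apply hle
        rw [← hAspan]
        exact Submodule.subset_span ht
      · exact hlI g hg
    · intro b hb
      have h1 : mk b ∈ Ideal.map mk (Ideal.span (l '' Submodule.generators J)) := by
        rw [Ideal.map_span, ← Set.image_comp]
        have : (mk ∘ l) '' Submodule.generators J = Submodule.generators J := by
          ext g; constructor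
          · rintro ⟨g', hg', rfl⟩
            simpa [hl g' hg'] using hg'
          · intro hg; exact ⟨g, hg, hl g hg⟩
        rw [this]
        show mk b ∈ Submodule.span _ _
        rw [hGspan]; exact Ideal.mem_map_of_mem _ hb
      obtain ⟨c, hc, hcb⟩ :=
        (Ideal.mem_map_iff_of_surjective mk Ideal.Quotient.mk_surjective).mp h1
      have h2 : b - c ∈ 𝔞 := by
        rw [← Ideal.Quotient.eq]; exact hcb.symm
      have h3 : b = c + (b - c) := by ring
      rw [h3]
      refine Ideal.add_mem _ (Ideal.span_mono Set.subset_union_right hc) ?_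
      have : b - c ∈ Ideal.span (Submodule.generators 𝔞) := by
        show b - c ∈ Submodule.span _ _
        rw [hAspan]; exact h2
      exact Ideal.span_mono Set.subset_union_left this
  calc I.spanFinrank = (Submodule.span R T).spanFinrank := by rw [← hTspan]
    _ ≤ T.ncard := Submodule.spanFinrank_span_le_ncard_of_finite hTfin
    _ ≤ (Submodule.generators 𝔞).ncard + (l '' Submodule.generators J).ncard :=
        Set.ncard_union_le _ _
    _ ≤ (Submodule.generators 𝔞).ncard + (Submodule.generators J).ncard := by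
        gcongr; exact Set.ncard_image_le hGfin
    _ = 𝔞.spanFinrank + J.spanFinrank := by rw [hGcard, hAcard]

omit [IsNoetherianRing R] in
lemma height_add_dim_quot_le (p : PrimeSpectrum R) :
    ((p.asIdeal.height : ℕ∞) : WithBot ℕ∞) + ringKrullDim (R ⧸ p.asIdeal) ≤ ringKrullDim R := by
  rw [Groth.Agent.Helper2.Caten.dimQuot_eq_coheight, PrimeSpectrum.height_eq_orderHeight]
  haveI : Nonempty (PrimeSpectrum R) := ⟨p⟩
  unfold ringKrullDim
  rw [Order.krullDim_eq_iSup_height_add_coheight_of_nonempty, ← WithBot.coe_add,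
    WithBot.coe_le_coe]
  exact le_iSup (fun a : PrimeSpectrum R => Order.height a + Order.coheight a) p

/-- If `𝔭` is a prime generated by at most `ht 𝔭` elements and `R / 𝔭` is regular, then `R` is
regular. -/
theorem regular_of_prime_quot [IsLocalRing R] (𝔭 : Ideal R) [h𝔭 : 𝔭.IsPrime]
    (hμ : (𝔭.spanFinrank : ℕ∞) ≤ 𝔭.height) (hreg : IsRegularLocalRing (R ⧸ 𝔭)) :
    IsRegularLocalRing R := by
  apply IsRegularLocalRing.of_spanFinrank_maximalIdeal_le
  have hle : 𝔭 ≤ maximalIdeal R := le_maximalIdeal h𝔭.ne_top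
  have h1 := spanFinrank_le_add 𝔭 (maximalIdeal R) hle
  obtain ⟨hl, hmax⟩ := Groth.Agent.Lead.RegLocal.quotient_local h𝔭.ne_top
  rw [hmax] at h1
  have h2 : ((maximalIdeal (R ⧸ 𝔭)).spanFinrank : WithBot ℕ∞) = ringKrullDim (R ⧸ 𝔭) :=
    IsRegularLocalRing.spanFinrank_maximalIdeal
  have h3 := height_add_dim_quot_le (⟨𝔭, h𝔭⟩ : PrimeSpectrum R)
  refine le_trans ?_ h3
  rw [← h2]
  have h4 : (((maximalIdeal R).spanFinrank : ℕ) : WithBot ℕ∞) ≤
      ((𝔭.spanFinrank + (maximalIdeal (R ⧸ 𝔭)).spanFinrank : ℕ) : WithBot ℕ∞) := by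
    exact_mod_cast h1
  refine le_trans h4 ?_
  push_cast
  gcongr
  exact_mod_cast hμ

end Span

section Loc

variable {A : Type u} [CommRing A] [IsNoetherianRing A]

theorem exists_f (p : Ideal A) [hp : p.IsPrime]
    (hreg : IsRegularLocalRing (Localization.AtPrime p)) :
    ∃ f : A, f ∉ p ∧ ∃ T : Finset A, (T.card : ℕ∞) ≤ p.height ∧ (∀ t ∈ T, t ∈ p) ∧
      ∀ y ∈ p, f * y ∈ Ideal.span (T : Set A) := by
  classical
  have hfg : (maximalIdeal (Localization.AtPrime p)).FG :=
    (maximalIdeal (Localization.AtPrime p)).fg_of_isNoetherianRing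
  have hGfin := Submodule.FG.finite_generators hfg
  have hGspan : Submodule.span _ (Submodule.generators (maximalIdeal (Localization.AtPrime p))) =
      maximalIdeal (Localization.AtPrime p) := Submodule.span_generators _
  have hGcard := Submodule.FG.generators_ncard hfg
  have hr : (((maximalIdeal (Localization.AtPrime p)).spanFinrank : ℕ) : WithBot ℕ∞) =
      ((p.height : ℕ∞) : WithBot ℕ∞) := by
    rw [IsRegularLocalRing.spanFinrank_maximalIdeal,
      IsLocalization.AtPrime.ringKrullDim_eq_height p (Localization.AtPrime p)]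
  have hsurj : ∀ g : Localization.AtPrime p, ∃ (x : A) (s : p.primeCompl),
      g * algebraMap A (Localization.AtPrime p) s = algebraMap A (Localization.AtPrime p) x := by
    intro g
    obtain ⟨⟨x, s⟩, h⟩ := IsLocalization.surj p.primeCompl g
    exact ⟨x, s, h⟩
  choose x s hxs using hsurj
  set T : Finset A := hGfin.toFinset.image x with hT
  have hTp : ∀ t ∈ T, t ∈ p := by
    intro t ht
    obtain ⟨g, hg, rfl⟩ := Finset.mem_image.mp ht
    rw [Set.Finite.mem_toFinset] at hg
    have hgm : g ∈ maximalIdeal (Localization.AtPrime p) := by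
      rw [← hGspan]; exact Submodule.subset_span hg
    rw [← IsLocalization.AtPrime.to_map_mem_maximal_iff (Localization.AtPrime p) p, ← hxs g]
    exact Ideal.mul_mem_right _ _ hgm
  have hTcard : (T.card : ℕ∞) ≤ p.height := by
    have h1 : T.card ≤ (maximalIdeal (Localization.AtPrime p)).spanFinrank := by
      calc T.card ≤ hGfin.toFinset.card := Finset.card_image_le
        _ = (Submodule.generators (maximalIdeal (Localization.AtPrime p))).ncard :=
            (Set.ncard_eq_toFinset_card _ hGfin).symm
        _ = (maximalIdeal (Localization.AtPrime p)).spanFinrank := hGcard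
    have h2 : ((T.card : ℕ∞) : WithBot ℕ∞) ≤ ((p.height : ℕ∞) : WithBot ℕ∞) := by
      rw [← hr]; exact_mod_cast h1
    exact WithBot.coe_le_coe.mp h2
  have hmap : Ideal.map (algebraMap A (Localization.AtPrime p)) (Ideal.span (T : Set A)) =
      maximalIdeal (Localization.AtPrime p) := by
    apply le_antisymm
    · rw [Ideal.map_le_iff_le_comap, Ideal.span_le]
      intro t ht
      rw [SetLike.mem_coe, Ideal.mem_comap,
        IsLocalization.AtPrime.to_map_mem_maximal_iff (Localization.AtPrime p) p]
      exact hTp t ht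
    · intro g hg
      rw [← hGspan] at hg
      refine Submodule.span_induction ?_ ?_ ?_ ?_ hg
      · intro g hg
        have hu : IsUnit (algebraMap A (Localization.AtPrime p) (s g)) :=
          IsLocalization.map_units (Localization.AtPrime p) (s g)
        have : g = algebraMap A (Localization.AtPrime p) (x g) * ↑hu.unit⁻¹ := by
          rw [← hxs g, mul_assoc, IsUnit.mul_val_inv, mul_one]
        rw [this]
        apply Ideal.mul_mem_right
        apply Ideal.mem_map_of_mem
        apply Ideal.subset_span
        exact Finset.mem_image_of_mem x ((Set.Finite.mem_toFinset hGfin).mpr hg)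
      · exact zero_mem _
      · intro a b _ _ ha hb; exact Ideal.add_mem _ ha hb
      · intro a b _ hb; exact Ideal.mul_mem_left _ _ hb
  have hc : ∀ y ∈ p, ∃ c : A, c ∉ p ∧ c * y ∈ Ideal.span (T : Set A) := by
    intro y hy
    have hym : algebraMap A (Localization.AtPrime p) y ∈
        Ideal.map (algebraMap A (Localization.AtPrime p)) (Ideal.span (T : Set A)) := by
      rw [hmap, IsLocalization.AtPrime.to_map_mem_maximal_iff (Localization.AtPrime p) p]
      exact hy
    rw [IsLocalization.mem_map_algebraMap_iff p.primeCompl] at hym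
    obtain ⟨⟨a, s'⟩, h⟩ := hym
    rw [← map_mul, IsLocalization.eq_iff_exists p.primeCompl] at h
    obtain ⟨t, ht⟩ := h
    refine ⟨t * s', (t * s').2, ?_⟩
    have : (t : A) * s' * y = t * (y * s') := by ring
    rw [this, ht]
    exact Ideal.mul_mem_left _ _ a.2
  obtain ⟨Gp, hGp⟩ : p.FG := p.fg_of_isNoetherianRing
  choose! c hcp hcy using hc
  refine ⟨∏ y ∈ Gp, c y, ?_, T, hTcard, hTp, ?_⟩
  · intro h
    obtain ⟨y, hy, hcy'⟩ := (Ideal.IsPrime.prod_mem_iff).mp h
    have : y ∈ p := by rw [← hGp]; exact Ideal.subset_span hy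
    exact hcp y this hcy'
  · intro y hy
    rw [← hGp] at hy
    refine Submodule.span_induction ?_ ?_ ?_ ?_ hy
    · intro z hz
      have hzp : z ∈ p := by rw [← hGp]; exact Ideal.subset_span hz
      rw [← Finset.prod_erase_mul _ _ hz, mul_assoc]
      exact Ideal.mul_mem_left _ _ (hcy z hzp)
    · simp
    · intro a b _ _ ha hb; rw [mul_add]; exact Ideal.add_mem _ ha hb
    · intro a b _ hb; rw [smul_eq_mul, mul_left_comm]; exact Ideal.mul_mem_left _ _ hb

theorem spanFinrank_map_le (p P : Ideal A) [p.IsPrime] [P.IsPrime] (hpP : p ≤ P) (f : A)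
    (hfP : f ∉ P) (T : Finset A) (hTcard : (T.card : ℕ∞) ≤ p.height) (hTp : ∀ t ∈ T, t ∈ p)
    (hT : ∀ y ∈ p, f * y ∈ Ideal.span (T : Set A)) :
    (((p.map (algebraMap A (Localization.AtPrime P))).spanFinrank : ℕ) : ℕ∞) ≤
      (p.map (algebraMap A (Localization.AtPrime P))).height := by
  classical
  have hdisj : Disjoint (P.primeCompl : Set A) (p : Set A) := by
    rw [Set.disjoint_left]
    intro x hx hxp
    exact hx (hpP hxp)
  rw [IsLocalization.height_map_of_disjoint P.primeCompl p hdisj]
  refine le_trans ?_ hTcard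
  have hmap : p.map (algebraMap A (Localization.AtPrime P)) =
      Ideal.span (algebraMap A (Localization.AtPrime P) '' (T : Set A)) := by
    rw [← Ideal.map_span]
    apply le_antisymm
    · rw [Ideal.map_le_iff_le_comap]
      intro y hy
      rw [Ideal.mem_comap]
      have hu : IsUnit (algebraMap A (Localization.AtPrime P) f) :=
        IsLocalization.map_units (Localization.AtPrime P) (⟨f, hfP⟩ : P.primeCompl)
      have : algebraMap A (Localization.AtPrime P) y =
          ↑hu.unit⁻¹ * algebraMap A (Localization.AtPrime P) (f * y) := by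
        rw [map_mul, ← mul_assoc, IsUnit.val_inv_mul, one_mul]
      rw [this]
      exact Ideal.mul_mem_left _ _ (Ideal.mem_map_of_mem _ (hT y hy))
    · apply Ideal.map_mono
      rw [Ideal.span_le]
      exact hTp
  rw [hmap]
  have h1 : (Submodule.span (Localization.AtPrime P)
      (algebraMap A (Localization.AtPrime P) '' (T : Set A))).spanFinrank ≤
      (algebraMap A (Localization.AtPrime P) '' (T : Set A)).ncard :=
    Submodule.spanFinrank_span_le_ncard_of_finite (T.finite_toSet.image _)
  have h2 : (algebraMap A (Localization.AtPrime P) '' (T : Set A)).ncard ≤ T.card := by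
    calc _ ≤ (T : Set A).ncard := Set.ncard_image_le T.finite_toSet
      _ = T.card := Set.ncard_coe_finset T
  exact_mod_cast h1.trans h2

omit [IsNoetherianRing A] in
theorem regular_quot_of (p : Ideal A) [p.IsPrime] (q : Ideal (A ⧸ p)) [q.IsPrime]
    (hq : IsRegularLocalRing (Localization.AtPrime q)) :
    IsRegularLocalRing (Localization.AtPrime (q.comap (Ideal.Quotient.mk p)) ⧸
      p.map (algebraMap A (Localization.AtPrime (q.comap (Ideal.Quotient.mk p))))) := by
  have hloc : IsLocalization (Algebra.algebraMapSubmonoid (A ⧸ p)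
      (q.comap (Ideal.Quotient.mk p)).primeCompl)
      (Localization.AtPrime (q.comap (Ideal.Quotient.mk p)) ⧸
        p.map (algebraMap A (Localization.AtPrime (q.comap (Ideal.Quotient.mk p))))) :=
    inferInstance
  have hsub : Algebra.algebraMapSubmonoid (A ⧸ p) (q.comap (Ideal.Quotient.mk p)).primeCompl =
      q.primeCompl := by
    ext z
    constructor
    · rintro ⟨a, ha, rfl⟩
      exact ha
    · intro hz
      obtain ⟨a, rfl⟩ := Ideal.Quotient.mk_surjective z
      exact ⟨a, hz, rfl⟩
  rw [hsub] at hloc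
  let e := IsLocalization.algEquiv q.primeCompl (Localization.AtPrime q)
    (Localization.AtPrime (q.comap (Ideal.Quotient.mk p)) ⧸
      p.map (algebraMap A (Localization.AtPrime (q.comap (Ideal.Quotient.mk p)))))
  exact IsRegularLocalRing.of_ringEquiv e.toRingEquiv

variable (A) in
theorem isOpen_regLocus_of
    (h : ∀ p : PrimeSpectrum A, p ∈ EGA4.regLocus A →
      ∃ U : Set (PrimeSpectrum (A ⧸ p.asIdeal)), IsOpen U ∧ U.Nonempty ∧
        U ⊆ EGA4.regLocus (A ⧸ p.asIdeal)) :
    IsOpen (EGA4.regLocus A) := by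
  apply isOpen_of_nagata _ (stableUnderGeneralization_regLocus A)
  intro p hp
  obtain ⟨U, hUo, ⟨u, hu⟩, hUreg⟩ := h p hp
  obtain ⟨f, hfp, T, hTcard, hTp, hT⟩ := exists_f p.asIdeal hp
  have hemb := PrimeSpectrum.isClosedEmbedding_comap_of_surjective (A ⧸ p.asIdeal)
    (Ideal.Quotient.mk p.asIdeal) Ideal.Quotient.mk_surjective
  obtain ⟨W₀, hW₀o, hW₀U⟩ := hemb.isInducing.isOpen_iff.mp hUo
  refine ⟨(PrimeSpectrum.basicOpen f : Set _) ∩ W₀,
    (PrimeSpectrum.basicOpen f).isOpen.inter hW₀o, ⟨p, ⟨hfp, ?_⟩, ?_⟩, ?_⟩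
  · -- the generic point lies in `U`
    let η : PrimeSpectrum (A ⧸ p.asIdeal) := ⟨⊥, Ideal.isPrime_bot⟩
    have hηu : η ⤳ u := (le_iff_specializes η u).mp bot_le
    have hηU : η ∈ U := hηu.mem_open hUo hu
    rw [← hW₀U] at hηU
    have : PrimeSpectrum.comap (Ideal.Quotient.mk p.asIdeal) η = p := by
      ext1
      show Ideal.comap (Ideal.Quotient.mk p.asIdeal) ⊥ = p.asIdeal
      rw [← RingHom.ker_eq_comap_bot, Ideal.mk_ker]
    rw [← this]
    exact hηU
  · rw [mem_zeroLocus]
  · rintro P ⟨⟨hfP, hPW₀⟩, hPV⟩
    rw [mem_zeroLocus, SetLike.coe_subset_coe] at hPV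
    have hrange : P ∈ Set.range (PrimeSpectrum.comap (Ideal.Quotient.mk p.asIdeal)) := by
      rw [_root_.range_comap_of_surjective _ _ Ideal.Quotient.mk_surjective,
        Ideal.mk_ker, mem_zeroLocus, SetLike.coe_subset_coe]
      exact hPV
    obtain ⟨q, rfl⟩ := hrange
    have hqU : q ∈ U := by rw [← hW₀U]; exact hPW₀
    have hqreg : IsRegularLocalRing (Localization.AtPrime q.asIdeal) := hUreg hqU
    have h1 := regular_quot_of p.asIdeal q.asIdeal hqreg
    have h2 := spanFinrank_map_le p.asIdeal (q.asIdeal.comap (Ideal.Quotient.mk p.asIdeal)) hPV f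
      hfP T hTcard hTp hT
    haveI : (p.asIdeal.map (algebraMap A (Localization.AtPrime
        (q.asIdeal.comap (Ideal.Quotient.mk p.asIdeal))))).IsPrime := by
      apply IsLocalization.isPrime_of_isPrime_disjoint
        (q.asIdeal.comap (Ideal.Quotient.mk p.asIdeal)).primeCompl _ p.asIdeal p.2
      rw [Set.disjoint_left]
      intro x hx hxp
      exact hx (hPV hxp)
    show IsRegularLocalRing (Localization.AtPrime
      (q.asIdeal.comap (Ideal.Quotient.mk p.asIdeal)))
    exact regular_of_prime_quot _ h2 h1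

end Loc

end Groth.Agent.Helper6.NagataCrit
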