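import Mathlib
import Groth.Agent.Helper1.RegGlobalDim

/-!
# Finite modules over a regular Noetherian ring have finite projective dimension
(no finiteness of the Krull dimension needed)
-/

set_option autoImplicit false
universe u

open CategoryTheory Limits

namespace Groth.Agent.Helper6.RegPdFin

variable {R : Type u} [CommRing R] [IsNoetherianRing R]

/-- the locus where the localization has projective dimension `≤ n` -/
def pdLocus (M : ModuleCat.{u} R) (n : ℕ) : Set (PrimeSpectrum R) :=
  {p | HasProjectiveDimensionLE (M.localizedModule p.1.primeCompl) n}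

/-- comparison of the two localizations -/
noncomputable def locEquiv (M : ModuleCat.{u} R) (p : PrimeSpectrum R) :
    (M.localizedModule p.1.primeCompl) ≃ₗ[Localization.AtPrime p.asIdeal]
      LocalizedModule p.asIdeal.primeCompl M :=
  LinearEquiv.extendScalarsOfIsLocalization p.1.primeCompl
    (Localization.AtPrime p.asIdeal) (IsLocalizedModule.linearEquiv p.1.primeCompl
    (M.localizedModuleMkLinearMap p.1.primeCompl)
    (LocalizedModule.mkLinearMap p.1.primeCompl M))

lemma pdLocus_zero (M : ModuleCat.{u} R) [Module.Finite R M] :
    pdLocus M 0 = Module.freeLocus R M := by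
  ext p
  simp only [pdLocus, Set.mem_ofPred_eq, HasProjectiveDimensionLE, zero_add,
    ← projective_iff_hasProjectiveDimensionLT_one, Module.mem_freeLocus]
  rw [← IsProjective.iff_projective]
  constructor
  · intro h
    have h1 : Module.Projective (Localization.AtPrime p.asIdeal)
        (LocalizedModule p.asIdeal.primeCompl M) := Module.Projective.of_equiv (locEquiv M p)
    have h2 : Module.Flat (Localization.AtPrime p.asIdeal)
        (LocalizedModule p.asIdeal.primeCompl M) := Module.Flat.of_projective
    exact Module.free_of_flat_of_isLocalRing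
  · intro h
    have h1 : Module.Projective (Localization.AtPrime p.asIdeal)
        (LocalizedModule p.asIdeal.primeCompl M) := Module.Projective.of_free
    exact Module.Projective.of_equiv (locEquiv M p).symm

lemma isOpen_pdLocus (n : ℕ) : ∀ (M : ModuleCat.{u} R) [Module.Finite R M],
    IsOpen (pdLocus M n) := by
  induction n with
  | zero =>
    intro M _
    rw [pdLocus_zero]
    haveI : Module.FinitePresentation R M := Module.finitePresentation_of_finite R M
    exact Module.isOpen_freeLocus
  | succ n ih =>
    intro M _
    rcases Module.exists_finite_presentation R M with ⟨P, _, _, _, _, f, surjf⟩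
    let S := f.shortComplexKer
    have S_exact := LinearMap.shortExact_shortComplexKer surjf
    have proj := ModuleCat.projective_of_categoryTheory_projective S.X₂
    let Sp (p : PrimeSpectrum R) := S.map (ModuleCat.localizedModuleFunctor p.1.primeCompl)
    have Sp_exact (p : PrimeSpectrum R) : (Sp p).ShortExact :=
      S_exact.map_of_exact (ModuleCat.localizedModuleFunctor p.asIdeal.primeCompl)
    have projp (p : PrimeSpectrum R) : Projective (Sp p).X₂ :=
      (ModuleCat.localizedModuleFunctor.{u} p.1.primeCompl).projective_obj_of_projective proj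
    have key : pdLocus M (n + 1) = pdLocus (ModuleCat.of R (LinearMap.ker f)) n := by
      ext p
      simp only [pdLocus, Set.mem_ofPred_eq, HasProjectiveDimensionLE]
      exact (Sp_exact p).hasProjectiveDimensionLT_X₃_iff n (projp p)
    rw [key]
    exact ih (ModuleCat.of R (LinearMap.ker f))


lemma pdLocus_mono (M : ModuleCat.{u} R) {n m : ℕ} (h : n ≤ m) : pdLocus M n ⊆ pdLocus M m := by
  intro p hp
  exact @hasProjectiveDimensionLT_of_ge _ _ _ _ (n + 1) (m + 1) (by omega) hp

theorem exists_pd_le
    (hreg : ∀ p : PrimeSpectrum R, IsRegularLocalRing (Localization.AtPrime p.asIdeal))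
    (M : ModuleCat.{u} R) [Module.Finite R M] : ∃ N : ℕ, HasProjectiveDimensionLT M (N + 1) := by
  have hcover : (Set.univ : Set (PrimeSpectrum R)) ⊆ ⋃ n, pdLocus M n := by
    intro p _
    haveI := hreg p
    have h1 : ringKrullDim (Localization.AtPrime p.asIdeal) = p.asIdeal.height :=
      IsLocalization.AtPrime.ringKrullDim_eq_height p.asIdeal _
    have h2 : p.asIdeal.height ≠ ⊤ := Ideal.height_ne_top p.2.ne_top
    obtain ⟨d, hd⟩ : ∃ d : ℕ, p.asIdeal.height = d :=
      ⟨p.asIdeal.height.toNat, (ENat.natCast_toNat h2).symm⟩
    have h3 : ringKrullDim (Localization.AtPrime p.asIdeal) = d := by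
      rw [h1, hd]; rfl
    exact Set.mem_iUnion.2 ⟨d,
      Groth.Agent.Helper1.TorLib.hasProjectiveDimensionLT_of_isRegularLocalRing d h3 _⟩
  have hdir : Directed (· ⊆ ·) (pdLocus M) :=
    directed_of_isDirected_le (fun n m h => pdLocus_mono M h)
  obtain ⟨N, hN⟩ := isCompact_univ.elim_directed_cover (pdLocus M)
    (fun n => isOpen_pdLocus n M) hcover hdir
  refine ⟨N, ?_⟩
  show HasProjectiveDimensionLE M N
  rw [ModuleCat.hasProjectiveDimensionLE_iff_forall_primeSpectrum]
  intro p
  exact hN (Set.mem_univ p)

end Groth.Agent.Helper6.RegPdFin
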