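import Mathlib
import Groth.Prelude.Def_Wider
import Groth.Prelude.Def_DRing2
import Groth.Agent.S6942
import Groth.Agent.Helper3.DRingTor6
import Groth.Agent.Helper3.DRingDev
import Groth.Agent.Helper3.DRingCone
import Groth.Agent.Helper6.RegPdFin
import Groth.Agent.Helper6.TorAmpPd
import Groth.Agent.Helper6.DFinExt

/-!
# Perfect complexes over regular Noetherian rings
-/

set_option autoImplicit false
universe u

open CategoryTheory Limits Pretriangulated DerivedCategory Abelian
attribute [local instance] HasDerivedCategory.standard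

namespace Groth.Agent.Helper6.RegPerfect

open Groth.Agent.Helper3.DRingLib

variable {R : Type u} [CommRing R] [IsNoetherianRing R]

theorem isPerfect_of_finite
    (hreg : ∀ p : PrimeSpectrum R, IsRegularLocalRing (Localization.AtPrime p.asIdeal))
    (M : Type u) [AddCommGroup M] [Module R M] [Module.Finite R M] :
    DRing.IsPerfectModule R M := by
  show DRing.IsPerfect R (Dual.inD R M)
  rw [isPerfect_iff_pc_and_torDim]
  constructor
  · exact (Groth.Agent.S6942.result R 0 (Dual.inD R M) M).2.2 inferInstance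
  · obtain ⟨N, hN⟩ := RegPdFin.exists_pd_le hreg (ModuleCat.of R M)
    exact ⟨-(N : ℤ), 0, TorAmpPd.hasTorAmplitudeIn_of_pd N _ hN⟩

theorem isPerfect_of_bounded_finite
    (hreg : ∀ p : PrimeSpectrum R, IsRegularLocalRing (Localization.AtPrime p.asIdeal))
    (K : Dual.D R)
    (hb : ∃ a b : ℤ, ∀ i : ℤ, (i < a ∨ b < i) → Subsingleton (Dual.HD R K i))
    (hfin : ∀ i : ℤ, Module.Finite R (Dual.HD R K i)) : DRing.IsPerfect R K :=
  devissage_homology' (DRing.IsPerfect R) (fun e h => isPerfect_of_iso e h)
    (fun K n h => isPerfect_shift n h) (fun T hT h1 h3 => isPerfect_obj₂ T hT h1 h3) K hb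
    (fun i => by
      haveI := hfin i
      exact isPerfect_of_finite hreg (Dual.HD R K i))

theorem bounded_finite_of_isPerfect (K : Dual.D R) (h : DRing.IsPerfect R K) :
    (∃ a b : ℤ, ∀ i : ℤ, (i < a ∨ b < i) → Subsingleton (Dual.HD R K i)) ∧
      ∀ i : ℤ, Module.Finite R (Dual.HD R K i) := by
  have hpc : DRing.IsPseudoCoherent' R K := ((isPerfect_iff_pc_and_torDim K).1 h).1
  obtain ⟨E, a, b, hv, hfp, ⟨e⟩⟩ := h
  constructor
  · refine ⟨a, b, fun i hi => ?_⟩
    have h1 := DFinExt.subsingleton_HD_toD E i (hv i hi)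
    have hz : IsZero ((homologyFunctor (ModuleCat.{u} R) i).obj (DRing.toD E)) :=
      ModuleCat.isZero_of_subsingleton _
    exact ModuleCat.subsingleton_of_isZero
      (hz.of_iso ((homologyFunctor (ModuleCat.{u} R) i).mapIso e.symm))
  · intro i
    have h1 := (isPseudoCoherent'_iff_forall K).1 hpc i
    exact ((Groth.Agent.S6942.result R i K R).1.1 h1).2 i le_rfl

theorem main_complex
    (hreg : ∀ p : PrimeSpectrum R, IsRegularLocalRing (Localization.AtPrime p.asIdeal))
    (K : Dual.D R) :
    DRing.IsPerfect R K ↔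
      (∃ a b : ℤ, ∀ i : ℤ, (i < a ∨ b < i) → Subsingleton (Dual.HD R K i)) ∧
        ∀ i : ℤ, Module.Finite R (Dual.HD R K i) :=
  ⟨bounded_finite_of_isPerfect K, fun h => isPerfect_of_bounded_finite hreg K h.1 h.2⟩

theorem main_module
    (hreg : ∀ p : PrimeSpectrum R, IsRegularLocalRing (Localization.AtPrime p.asIdeal))
    (M : Type u) [AddCommGroup M] [Module R M] :
    DRing.IsPerfectModule R M ↔ Module.Finite R M := by
  constructor
  · intro h
    have h1 := (bounded_finite_of_isPerfect (Dual.inD R M) h).2 0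
    let e := (singleFunctorCompHomologyFunctorIso (ModuleCat.{u} R) 0).app (ModuleCat.of R M)
    exact finite_of_iso e h1
  · intro h
    exact isPerfect_of_finite hreg M

end Groth.Agent.Helper6.RegPerfect
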