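import Mathlib
import Groth.Agent.Helper6.Dim1Rel

/-!
# Euler characteristics of Koszul complexes, part 1: lengths, supports, alternating sums
-/

set_option autoImplicit false
universe u v w

namespace Groth.Agent.Helper6.KEuler

section Lengths

variable {A : Type u} [CommRing A]
variable {X : Type v} {Y : Type w} {Z : Type*} [AddCommGroup X] [Module A X] [AddCommGroup Y]
  [Module A Y] [AddCommGroup Z] [Module A Z]

theorem length_ker_add_range (g : X →ₗ[A] Y) :
    Module.length A X = Module.length A (LinearMap.ker g) + Module.length A (LinearMap.range g) :=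
  Module.length_eq_add_of_exact (LinearMap.ker g).subtype g.rangeRestrict
    (Submodule.subtype_injective _) g.surjective_rangeRestrict (by
      intro y
      constructor
      · intro hy
        exact ⟨⟨y, congrArg Subtype.val hy⟩, rfl⟩
      · rintro ⟨⟨y', hy'⟩, rfl⟩
        exact Subtype.ext hy')

theorem length_sub_add_quot (N : Submodule A X) :
    Module.length A X = Module.length A N + Module.length A (X ⧸ N) :=
  Module.length_eq_add_of_exact N.subtype N.mkQ (Submodule.subtype_injective _)
    (Submodule.mkQ_surjective _) (LinearMap.exact_subtype_mkQ N)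

theorem length_eq_range_add_range (f : X →ₗ[A] Y) (g : Y →ₗ[A] Z) (h : Function.Exact f g) :
    Module.length A Y = Module.length A (LinearMap.range f) + Module.length A (LinearMap.range g) := by
  rw [length_ker_add_range g, LinearMap.exact_iff.mp h]

/-- `comap q.subtype p ≃ p ⊓ q` -/
noncomputable def comapSubtypeEquivInf (p q : Submodule A X) :
    Submodule.comap q.subtype p ≃ₗ[A] (p ⊓ q : Submodule A X) :=
  (LinearEquiv.ofEq _ _ (by
    rw [Submodule.comap_inf, Submodule.comap_subtype_self, inf_top_eq])).trans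
    (Submodule.comapSubtypeEquivOfLe (inf_le_right : p ⊓ q ≤ q))

/-- additivity of the index: the ker–coker sequence of a composition, in terms of lengths -/
theorem index_additive (φ : X →ₗ[A] Y) (ψ : Y →ₗ[A] Z) :
    Module.length A (LinearMap.ker (ψ ∘ₗ φ)) + Module.length A (Y ⧸ LinearMap.range φ)
      + Module.length A (Z ⧸ LinearMap.range ψ)
    = Module.length A (LinearMap.ker φ) + Module.length A (LinearMap.ker ψ)
      + Module.length A (Z ⧸ LinearMap.range (ψ ∘ₗ φ)) := by
  -- step 1
  set g₁ : LinearMap.ker (ψ ∘ₗ φ) →ₗ[A] Y := φ ∘ₗ (LinearMap.ker (ψ ∘ₗ φ)).subtype with hg₁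
  have h1 := length_ker_add_range g₁
  have hk1 : Module.length A (LinearMap.ker g₁) = Module.length A (LinearMap.ker φ) := by
    have : LinearMap.ker g₁ = Submodule.comap (LinearMap.ker (ψ ∘ₗ φ)).subtype (LinearMap.ker φ) :=
      LinearMap.ker_comp _ _
    rw [this]
    exact (Submodule.comapSubtypeEquivOfLe (LinearMap.ker_le_ker_comp φ ψ)).length_eq
  have hr1 : LinearMap.range g₁ = LinearMap.range φ ⊓ LinearMap.ker ψ := by
    rw [hg₁, LinearMap.range_comp, Submodule.range_subtype, LinearMap.ker_comp,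
      Submodule.map_comap_eq]
  -- step 2
  set π : Y →ₗ[A] Y ⧸ LinearMap.range φ := (LinearMap.range φ).mkQ with hπ
  set g₂ : LinearMap.ker ψ →ₗ[A] Y ⧸ LinearMap.range φ := π ∘ₗ (LinearMap.ker ψ).subtype with hg₂
  have h2 := length_ker_add_range g₂
  have hk2 : Module.length A (LinearMap.ker g₂)
      = Module.length A (LinearMap.range φ ⊓ LinearMap.ker ψ : Submodule A Y) := by
    have : LinearMap.ker g₂ = Submodule.comap (LinearMap.ker ψ).subtype (LinearMap.range φ) := by
      rw [hg₂, LinearMap.ker_comp, hπ, Submodule.ker_mkQ]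
    rw [this]
    exact (comapSubtypeEquivInf _ _).length_eq
  have hr2 : LinearMap.range g₂ = Submodule.map π (LinearMap.ker ψ) := by
    rw [hg₂, LinearMap.range_comp, Submodule.range_subtype]
  -- step 3
  have hle : LinearMap.range φ ≤ Submodule.comap ψ (LinearMap.range (ψ ∘ₗ φ)) := by
    rintro _ ⟨x, rfl⟩
    exact ⟨x, rfl⟩
  set g₃ : (Y ⧸ LinearMap.range φ) →ₗ[A] (Z ⧸ LinearMap.range (ψ ∘ₗ φ)) :=
    (LinearMap.range φ).mapQ (LinearMap.range (ψ ∘ₗ φ)) ψ hle with hg₃
  have h3 := length_ker_add_range g₃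
  have hcomap : Submodule.comap ψ (LinearMap.range (ψ ∘ₗ φ)) = LinearMap.ker ψ ⊔ LinearMap.range φ := by
    ext y
    constructor
    · rintro ⟨x, hx⟩
      rw [Submodule.mem_sup]
      refine ⟨y - φ x, ?_, φ x, ⟨x, rfl⟩, by abel⟩
      rw [LinearMap.mem_ker, map_sub, ← hx]
      exact sub_self _
    · intro hy
      rw [Submodule.mem_sup] at hy
      obtain ⟨a, ha, _, ⟨x, rfl⟩, rfl⟩ := hy
      refine ⟨x, ?_⟩
      rw [LinearMap.mem_ker] at ha
      rw [map_add, ha, zero_add]
      rfl
  have hk3 : LinearMap.ker g₃ = Submodule.map π (LinearMap.ker ψ) := by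
    rw [hg₃, Submodule.mapQ, Submodule.ker_liftQ, LinearMap.ker_comp, Submodule.ker_mkQ, hcomap,
      Submodule.map_sup, ← hπ]
    have : Submodule.map π (LinearMap.range φ) = ⊥ := by
      rw [Submodule.eq_bot_iff]
      rintro _ ⟨y, ⟨x, rfl⟩, rfl⟩
      exact (Submodule.Quotient.mk_eq_zero _).mpr ⟨x, rfl⟩
    rw [this, sup_bot_eq]
  have hr3 : LinearMap.range g₃
      = Submodule.map (LinearMap.range (ψ ∘ₗ φ)).mkQ (LinearMap.range ψ) := by
    rw [hg₃, Submodule.mapQ, Submodule.range_liftQ]
    exact LinearMap.range_comp _ _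
  -- step 4
  have h4 := length_sub_add_quot (A := A) (LinearMap.range g₃)
  have hq4 : Module.length A ((Z ⧸ LinearMap.range (ψ ∘ₗ φ)) ⧸ LinearMap.range g₃)
      = Module.length A (Z ⧸ LinearMap.range ψ) := by
    rw [hr3]
    exact (Submodule.quotientQuotientEquivQuotient (LinearMap.range (ψ ∘ₗ φ)) (LinearMap.range ψ)
      (by rw [LinearMap.range_comp]; exact LinearMap.map_le_range)).length_eq
  rw [h1, hk1, hr1, h3, h2, hk2, hr2, h4, hq4, hk3]
  ring

end Lengths

section Scalar

variable {A : Type u} [CommRing A] (H : Type v) [AddCommGroup H] [Module A H]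

/-- length of the kernel of multiplication by `z` -/
noncomputable def kerLen (z : A) : ℕ∞ :=
  Module.length A (LinearMap.ker (z • (LinearMap.id : H →ₗ[A] H)))

/-- length of the cokernel of multiplication by `z` -/
noncomputable def cokLen (z : A) : ℕ∞ :=
  Module.length A (H ⧸ LinearMap.range (z • (LinearMap.id : H →ₗ[A] H)))

theorem index_mul (x y : A) :
    kerLen H (x * y) + cokLen H y + cokLen H x = kerLen H y + kerLen H x + cokLen H (x * y) := by
  have h := index_additive (A := A) (y • (LinearMap.id : H →ₗ[A] H)) (x • (LinearMap.id : H →ₗ[A] H))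
  have hc : (x • (LinearMap.id : H →ₗ[A] H)) ∘ₗ (y • (LinearMap.id : H →ₗ[A] H))
      = (x * y) • (LinearMap.id : H →ₗ[A] H) := by
    ext m
    simp [mul_smul]
  rw [hc] at h
  exact h

end Scalar

section Sums

theorem alt_sum_telescope (t : ℕ → ℤ) (m : ℕ) :
    ∑ p ∈ Finset.range (m + 1), (-1 : ℤ) ^ p * (t (p + 1) + t p) = t 0 + (-1 : ℤ) ^ m * t (m + 1) := by
  induction m with
  | zero => simp; ring
  | succ m ih =>
    rw [Finset.sum_range_succ, ih, pow_succ]
    ring

/-- the Euler characteristic of a (bounded) long exact sequence vanishes -/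
theorem alt_sum_les (a b c r s t : ℕ → ℤ) (n : ℕ)
    (hb : ∀ p, b p = r p + s p) (hc : ∀ p, c p = s p + t p) (ha : ∀ p, a p = t (p + 1) + r p)
    (ht0 : t 0 = 0) (htn : t (n + 1) = 0) :
    ∑ p ∈ Finset.range (n + 1), (-1 : ℤ) ^ p * b p =
      ∑ p ∈ Finset.range (n + 1), (-1 : ℤ) ^ p * a p
        + ∑ p ∈ Finset.range (n + 1), (-1 : ℤ) ^ p * c p := by
  have key := alt_sum_telescope t n
  rw [ht0, htn, mul_zero, add_zero] at key
  have : ∑ p ∈ Finset.range (n + 1), (-1 : ℤ) ^ p * (t (p + 1) + t p)
      = ∑ p ∈ Finset.range (n + 1), (-1 : ℤ) ^ p * a p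
        + ∑ p ∈ Finset.range (n + 1), (-1 : ℤ) ^ p * c p
        - ∑ p ∈ Finset.range (n + 1), (-1 : ℤ) ^ p * b p := by
    rw [← Finset.sum_add_distrib, ← Finset.sum_sub_distrib]
    apply Finset.sum_congr rfl
    intro p _
    rw [ha, hb, hc]
    ring
  rw [this] at key
  linarith

theorem alt_sum_shift (c k h : ℕ → ℤ) (N : ℕ) (h0 : h 0 = c 0)
    (hs : ∀ p, h (p + 1) = c (p + 1) + k p) (hcN : c (N + 1) = 0) :
    ∑ p ∈ Finset.range (N + 2), (-1 : ℤ) ^ p * h p
      = ∑ p ∈ Finset.range (N + 1), (-1 : ℤ) ^ p * (c p - k p) := by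
  have e1 := Finset.sum_range_succ' (fun p => (-1 : ℤ) ^ p * h p) (N + 1)
  have e2 := Finset.sum_range_succ' (fun p => (-1 : ℤ) ^ p * c p) (N + 1)
  have e3 := Finset.sum_range_succ (fun p => (-1 : ℤ) ^ p * c p) (N + 1)
  simp only [pow_zero, one_mul] at e1 e2
  have e4 : ∑ p ∈ Finset.range (N + 1), (-1 : ℤ) ^ (p + 1) * h (p + 1)
      = ∑ p ∈ Finset.range (N + 1), (-1 : ℤ) ^ (p + 1) * c (p + 1)
        - ∑ p ∈ Finset.range (N + 1), (-1 : ℤ) ^ p * k p := by
    rw [← Finset.sum_sub_distrib]
    apply Finset.sum_congr rfl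
    intro p _
    rw [hs, pow_succ]
    ring
  have e5 : ∑ p ∈ Finset.range (N + 1), (-1 : ℤ) ^ p * (c p - k p)
      = ∑ p ∈ Finset.range (N + 1), (-1 : ℤ) ^ p * c p
        - ∑ p ∈ Finset.range (N + 1), (-1 : ℤ) ^ p * k p := by
    rw [← Finset.sum_sub_distrib]
    apply Finset.sum_congr rfl
    intro p _
    ring
  rw [hcN, mul_zero, add_zero] at e3
  rw [show N + 2 = N + 1 + 1 from rfl, e1, e4, e5, h0]
  linarith

end Sums

section FL

variable {A : Type u} [CommRing A]

/-- the support condition saying that `P / J P` has finite length (for finite `P`) -/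
def FL (J : Ideal A) (P : Type v) [AddCommGroup P] [Module A P] : Prop :=
  ∀ p ∈ Module.support A P, J ≤ p.asIdeal → p.asIdeal.IsMaximal

theorem support_maximal_of_isFiniteLength {P : Type v} [AddCommGroup P] [Module A P]
    (h : IsFiniteLength A P) : ∀ p ∈ Module.support A P, p.asIdeal.IsMaximal := by
  induction h with
  | of_subsingleton =>
    intro p hp
    rw [Module.support_eq_empty] at hp
    exact absurd hp (Set.notMem_empty _)
  | @of_simple_quotient M _ _ N _ _ ih =>
    intro p hp
    rw [Module.support_of_exact (LinearMap.exact_subtype_mkQ N) (Submodule.subtype_injective _)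
      (Submodule.mkQ_surjective _)] at hp
    rcases hp with hp | hp
    · exact ih p hp
    · have hann := Module.annihilator_le_of_mem_support hp
      have hmax : (Module.annihilator A (M ⧸ N)).IsMaximal := IsSimpleModule.annihilator_isMaximal
      rw [← hmax.eq_of_le p.isPrime.ne_top hann]
      exact hmax

variable {J : Ideal A} {P : Type v} [AddCommGroup P] [Module A P]

theorem FL_of_isFiniteLength_quot [Module.Finite A P]
    (h : IsFiniteLength A (P ⧸ (J • (⊤ : Submodule A P)))) : FL J P := by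
  intro p hp hJ
  apply support_maximal_of_isFiniteLength h p
  rw [Module.support_quotient]
  exact ⟨hp, hJ⟩

theorem FL.of_injective {Q : Type w} [AddCommGroup Q] [Module A Q] (h : FL J P) (f : Q →ₗ[A] P)
    (hf : Function.Injective f) : FL J Q :=
  fun p hp hJ => h p (Module.support_subset_of_injective f hf hp) hJ

theorem FL.of_surjective {Q : Type w} [AddCommGroup Q] [Module A Q] (h : FL J P) (f : P →ₗ[A] Q)
    (hf : Function.Surjective f) : FL J Q :=
  fun p hp hJ => h p (Module.support_subset_of_surjective f hf hp) hJ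

theorem FL.mono {J' : Ideal A} (h : FL J P) (hJ : J ≤ J') : FL J' P :=
  fun p hp hJ' => h p hp (hJ.trans hJ')

/-- if a power of `x` kills `P`, then `x` may be dropped from the ideal -/
theorem FL.of_pow_smul {x : A} (h : FL (J ⊔ Ideal.span {x}) P) (k : ℕ)
    (hk : ∀ m : P, x ^ k • m = 0) : FL J P := by
  intro p hp hJ
  apply h p hp
  rw [sup_le_iff, Ideal.span_singleton_le_iff_mem]
  refine ⟨hJ, ?_⟩
  have : x ^ k ∈ p.asIdeal :=
    Module.annihilator_le_of_mem_support hp (Module.mem_annihilator.mpr hk)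
  exact p.isPrime.mem_of_pow_mem k this

end FL

section FLu

variable {A : Type u} [CommRing A] [IsNoetherianRing A]
variable {J : Ideal A} {P : Type u} [AddCommGroup P] [Module A P]

theorem FL.isFiniteLength [Module.Finite A P] (h : FL J P) (hJ : J ≤ Module.annihilator A P) :
    IsFiniteLength A P := by
  rw [← Module.length_ne_top_iff]
  apply Groth.Agent.Helper6.Dim1.length_ne_top_of_support_maximal
  intro p hp
  exact h p hp (hJ.trans (Module.annihilator_le_of_mem_support hp))

end FLu

end Groth.Agent.Helper6.KEuler
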