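import Mathlib
import Groth.Prelude
import Groth.Agent.Helper1.KoszulAcyclic
import Groth.Agent.Helper6.KEuler1

/-!
# Euler characteristics of Koszul complexes, part 2: Koszul homology
-/

set_option autoImplicit false
universe u

namespace Groth.Agent.Helper6.KEuler
open CategoryTheory Limits CochainComplex HomologicalComplex CohIII MonoidalCategory
open Groth.Agent.Helper1.Koszul

variable {A : Type u} [CommRing A]

section Bridge

/-- an isomorphism of complexes induces an isomorphism of the cones of `f • 𝟙` -/
noncomputable def coneIso {K L : CochainComplex (ModuleCat.{u} A) ℤ} (f : A) (e : K ≅ L) :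
    mappingCone (f • 𝟙 K) ≅ mappingCone (f • 𝟙 L) where
  hom := mappingCone.map _ _ e.hom e.hom (smul_id_comm f _)
  inv := mappingCone.map _ _ e.inv e.inv (smul_id_comm f _)
  hom_inv_id := by
    rw [← mappingCone.map_comp]
    simp only [Iso.hom_inv_id]
    exact mappingCone.map_id _
  inv_hom_id := by
    rw [← mappingCone.map_comp]
    simp only [Iso.inv_hom_id]
    exact mappingCone.map_id _

lemma T_map_smul_id (M : ModuleCat.{u} A) (f : A) (K : CochainComplex (ModuleCat.{u} A) ℤ) :
    ((tensorRight M).mapHomologicalComplex (ComplexShape.up ℤ)).map (f • 𝟙 K)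
      = f • 𝟙 (((tensorRight M).mapHomologicalComplex (ComplexShape.up ℤ)).obj K) := by
  ext i : 1
  simp

noncomputable def tensorCxConeIso (M : ModuleCat.{u} A) (f : A)
    (K : CochainComplex (ModuleCat.{u} A) ℤ) :
    DRing.tensorCx (mappingCone (f • 𝟙 K)) M ≅ mappingCone (f • 𝟙 (DRing.tensorCx K M)) :=
  (mappingCone.mapHomologicalComplexIso (f • 𝟙 K) (tensorRight M)) ≪≫
    eqToIso (congrArg (fun φ => mappingCone φ) (T_map_smul_id M f K))

noncomputable def tensorCxSingleIso (M : ModuleCat.{u} A) :
    DRing.tensorCx ((HomologicalComplex.single (ModuleCat.{u} A) (ComplexShape.up ℤ) 0).obj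
        (ModuleCat.of A A)) M
      ≅ (HomologicalComplex.single (ModuleCat.{u} A) (ComplexShape.up ℤ) 0).obj M :=
  (HomologicalComplex.singleMapHomologicalComplex (tensorRight M) (ComplexShape.up ℤ) 0).app
      (ModuleCat.of A A)
    ≪≫ (HomologicalComplex.single _ _ 0).mapIso (λ_ M)

theorem nonempty_tensorCx_koszul_iso (M : ModuleCat.{u} A) :
    ∀ l : List A, Nonempty (DRing.tensorCx (Koszul.koszul A l) M ≅ koszulCx M l)
  | [] => ⟨tensorCxSingleIso M⟩
  | f :: l => by
    obtain ⟨e⟩ := nonempty_tensorCx_koszul_iso M l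
    exact ⟨tensorCxConeIso M f (Koszul.koszul A l) ≪≫ coneIso f e⟩

end Bridge

section KH

/-- Koszul cohomology `H^i(K(l; M))` -/
noncomputable abbrev KH (l : List A) (M : Type u) [AddCommGroup M] [Module A M] (i : ℤ) :
    ModuleCat.{u} A :=
  (koszulCx (ModuleCat.of A M) l).homology i

variable (l : List A) (M : Type u) [AddCommGroup M] [Module A M]

theorem length_bridge (i : ℤ) :
    Module.length A
        ((DRing.tensorCx (Koszul.koszul A l) (ModuleCat.of A M)).homology i)
      = Module.length A (KH l M i) := by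
  obtain ⟨e⟩ := nonempty_tensorCx_koszul_iso (ModuleCat.of A M) l
  exact ((HomologicalComplex.homologyFunctor _ _ i).mapIso e).toLinearEquiv.length_eq

theorem length_KH_eq_zero_of_pos (i : ℤ) (hi : 0 < i) : Module.length A (KH l M i) = 0 := by
  haveI := ModuleCat.isZero_iff_subsingleton.1
    (isZero_homology_of_isZero_X i (isZero_X_of_pos (ModuleCat.of A M) l i hi))
  exact Module.length_eq_zero

theorem length_KH_eq_zero_of_lt (i : ℤ) (hi : i < -(l.length : ℤ)) :
    Module.length A (KH l M i) = 0 := by
  haveI := ModuleCat.isZero_iff_subsingleton.1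
    (isZero_homology_of_isZero_X i (isZero_X_of_lt (ModuleCat.of A M) l i hi))
  exact Module.length_eq_zero

theorem subsingleton_KH_of_pos (i : ℤ) (hi : 0 < i) : Subsingleton (KH l M i) :=
  ModuleCat.isZero_iff_subsingleton.1
    (isZero_homology_of_isZero_X i (isZero_X_of_pos (ModuleCat.of A M) l i hi))

theorem subsingleton_KH_of_lt (i : ℤ) (hi : i < -(l.length : ℤ)) : Subsingleton (KH l M i) :=
  ModuleCat.isZero_iff_subsingleton.1
    (isZero_homology_of_isZero_X i (isZero_X_of_lt (ModuleCat.of A M) l i hi))

/-- the Euler characteristic of the Koszul complex -/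
noncomputable def chiK : ℤ :=
  ∑ᶠ i : ℤ, ((i.negOnePow : ℤˣ) : ℤ) * ((Module.length A (KH l M i)).toNat : ℤ)

/-- lengths of Koszul homology in homological indexing -/
noncomputable def hN (p : ℕ) : ℤ := ((Module.length A (KH l M (-(p : ℤ)))).toNat : ℤ)

theorem chi_bridge :
    (∑ᶠ i : ℤ, ((i.negOnePow : ℤˣ) : ℤ) * ((Module.length A
      ((DRing.tensorCx (Koszul.koszul A l) (ModuleCat.of A M)).homology i)).toNat : ℤ))
      = chiK l M := by
  unfold chiK
  apply finsum_congr
  intro i
  rw [length_bridge]

theorem chiK_eq_sum (n : ℕ) (hn : l.length ≤ n) :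
    chiK l M = ∑ p ∈ Finset.range (n + 1), (-1 : ℤ) ^ p * hN l M p := by
  unfold chiK
  rw [finsum_eq_sum_of_support_subset
    (s := (Finset.range (n + 1)).image (fun p : ℕ => -(p : ℤ)))]
  · rw [Finset.sum_image]
    · apply Finset.sum_congr rfl
      intro p _
      rw [Int.negOnePow_neg, Int.coe_negOnePow_natCast]
      rfl
    · intro p _ q _ h
      have : (p : ℤ) = q := neg_injective h
      exact_mod_cast this
  · intro i hi
    rw [Function.mem_support] at hi
    by_contra hmem
    apply hi
    have : Module.length A (KH l M i) = 0 := by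
      by_cases h0 : 0 < i
      · exact length_KH_eq_zero_of_pos l M i h0
      · apply length_KH_eq_zero_of_lt
        by_contra hlt
        apply hmem
        rw [Finset.mem_coe, Finset.mem_image]
        refine ⟨(-i).toNat, ?_, ?_⟩
        · rw [Finset.mem_range]
          omega
        · omega
    rw [this]
    simp

end KH

section Finite

variable [IsNoetherianRing A] (l : List A) (M : Type u) [AddCommGroup M] [Module A M]

omit [IsNoetherianRing A] in
lemma smul_KH_eq_zero_of_ann (a : A) (ha : ∀ m : M, a • m = 0) (i : ℤ) (z : KH l M i) :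
    a • z = 0 := by
  have h0 : a • 𝟙 (ModuleCat.of A M) = 0 := by
    ext m
    exact ha m
  have h1 : a • 𝟙 (koszulCx (ModuleCat.of A M) l) = 0 := by
    rw [← kmap_smul_id, h0, kmap_zero]
  have h2 : homologyMap (a • 𝟙 (koszulCx (ModuleCat.of A M) l)) i = 0 := by
    rw [h1, homologyMap_zero]
  rw [homologyMap_smul', homologyMap_id] at h2
  exact congrArg (fun g => g.hom z) h2

instance finite_KH [Module.Finite A M] (i : ℤ) : Module.Finite A (KH l M i) := by
  haveI : Module.Finite A (ModuleCat.of A M) := ‹Module.Finite A M›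
  exact finite_homology _ i (finite_X (ModuleCat.of A M) l i)

theorem isFiniteLength_KH [Module.Finite A M] (h : FL (Ideal.span {a | a ∈ l}) M) (i : ℤ) :
    IsFiniteLength A (KH l M i) := by
  have hFL : FL (Ideal.span {a | a ∈ l}) (KH l M i) := by
    intro p hp hJ
    apply h p _ hJ
    rw [Module.mem_support_iff_of_finite]
    refine le_trans ?_ (Module.annihilator_le_of_mem_support hp)
    intro a ha
    rw [Module.mem_annihilator] at ha ⊢
    intro z
    exact smul_KH_eq_zero_of_ann l M a ha i z
  exact hFL.isFiniteLength (fun a ha => Module.mem_annihilator.mpr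
    (fun z => smul_homology_eq_zero (ModuleCat.of A M) l a ha i z))

theorem length_KH_ne_top [Module.Finite A M] (h : FL (Ideal.span {a | a ∈ l}) M) (i : ℤ) :
    Module.length A (KH l M i) ≠ ⊤ :=
  Module.length_ne_top_iff.mpr (isFiniteLength_KH l M h i)

end Finite

end Groth.Agent.Helper6.KEuler
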