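import Mathlib

/-! A complete DVR with a coefficient field is a power series ring. -/

set_option autoImplicit false
universe u v

namespace Groth.Agent.Helper6.CDvrPS

open Polynomial PowerSeries IsLocalRing

variable {K : Type u} {A : Type v} [Field K] [CommRing A] [Algebra K A]

theorem aeval_sub_aeval_trunc (x : A) (P : K[X]) (n : ℕ) :
    aeval x P - aeval x (PowerSeries.trunc n (P : K⟦X⟧)) ∈ Ideal.span {x ^ n} := by
  induction P using Polynomial.induction_on' with
  | add p q hp hq =>
    rw [Polynomial.coe_add, map_add, map_add, map_add]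
    have : (aeval x) p + (aeval x) q - ((aeval x) (PowerSeries.trunc n (p : K⟦X⟧)) +
        (aeval x) (PowerSeries.trunc n (q : K⟦X⟧))) =
        ((aeval x) p - (aeval x) (PowerSeries.trunc n (p : K⟦X⟧))) +
        ((aeval x) q - (aeval x) (PowerSeries.trunc n (q : K⟦X⟧))) := by ring
    rw [this]
    exact Ideal.add_mem _ hp hq
  | monomial i c =>
    by_cases hi : i < n
    · rw [PowerSeries.trunc_coe_eq_self (lt_of_le_of_lt (Polynomial.natDegree_monomial_le c) hi),
        sub_self]
      exact Ideal.zero_mem _
    · have h0 : PowerSeries.trunc n ((Polynomial.monomial i c : K[X]) : K⟦X⟧) = 0 := by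
        ext d
        rw [PowerSeries.coeff_trunc, Polynomial.coeff_zero]
        split_ifs with hd
        · rw [Polynomial.coeff_coe, Polynomial.coeff_monomial, if_neg]
          omega
        · rfl
      rw [h0, map_zero, sub_zero, Polynomial.aeval_monomial]
      have : x ^ i = x ^ (i - n) * x ^ n := by rw [← pow_add]; congr 1; omega
      rw [this, ← mul_assoc]
      exact Ideal.mul_mem_left _ _ (Ideal.mem_span_singleton_self _)

/-- the level-`n` map. -/
noncomputable def lvl (x : A) (J : Ideal A) (n : ℕ) (hJ : x ^ n ∈ J) : K⟦X⟧ →ₐ[K] A ⧸ J where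
  toFun f := Ideal.Quotient.mk J (aeval x (PowerSeries.trunc n f))
  map_one' := by
    have := aeval_sub_aeval_trunc (K := K) x (1 : K[X]) n
    rw [Polynomial.coe_one] at this
    have h2 : (aeval x) (1 : K[X]) - (aeval x) (PowerSeries.trunc n (1 : K⟦X⟧)) ∈ J :=
      (Ideal.span_singleton_le_iff_mem (I := J)).2 hJ this
    rw [← Ideal.Quotient.eq] at h2
    rw [← h2, map_one, map_one]
  map_mul' f g := by
    have := aeval_sub_aeval_trunc (K := K) x (PowerSeries.trunc n f * PowerSeries.trunc n g) n
    rw [Polynomial.coe_mul, PowerSeries.trunc_trunc_mul_trunc] at this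
    have h2 := (Ideal.span_singleton_le_iff_mem (I := J)).2 hJ this
    rw [← Ideal.Quotient.eq] at h2
    rw [← h2, map_mul, map_mul]
  map_zero' := by simp
  map_add' f g := by simp
  commutes' c := by
    have := aeval_sub_aeval_trunc (K := K) x (Polynomial.C c) n
    rw [Polynomial.coe_C] at this
    have h2 := (Ideal.span_singleton_le_iff_mem (I := J)).2 hJ this
    rw [← Ideal.Quotient.eq] at h2
    show Ideal.Quotient.mk J (aeval x (PowerSeries.trunc n (PowerSeries.C c))) = _
    rw [← h2, Polynomial.aeval_C]
    rfl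

theorem lvl_apply (x : A) (J : Ideal A) (n : ℕ) (hJ : x ^ n ∈ J) (f : K⟦X⟧) :
    lvl x J n hJ f = Ideal.Quotient.mk J (aeval x (PowerSeries.trunc n f)) := rfl


section main

variable [IsLocalRing A] [IsAdicComplete (maximalIdeal A) A] (x : A) (hx : maximalIdeal A = Ideal.span {x})

include hx in
theorem pow_mem (n : ℕ) : x ^ n ∈ maximalIdeal A ^ n :=
  Ideal.pow_mem_pow (by rw [hx]; exact Ideal.mem_span_singleton_self x) n

include hx in
theorem lvl_compat {m n : ℕ} (hle : m ≤ n) :
    (Ideal.Quotient.factorₐ K (Ideal.pow_le_pow_right hle)).comp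
      (lvl (K := K) x (maximalIdeal A ^ n) n (pow_mem x hx n)) =
      lvl (K := K) x (maximalIdeal A ^ m) m (pow_mem x hx m) := by
  ext f
  simp only [AlgHom.comp_apply, lvl_apply]
  show Ideal.Quotient.factor (Ideal.pow_le_pow_right hle)
    (Ideal.Quotient.mk _ (aeval x (PowerSeries.trunc n f))) = _
  rw [Ideal.Quotient.factor_mk]
  have := aeval_sub_aeval_trunc (K := K) x (PowerSeries.trunc n f) m
  rw [PowerSeries.trunc_trunc_of_le f hle] at this
  have h2 := (Ideal.span_singleton_le_iff_mem (I := maximalIdeal A ^ m)).2 (pow_mem x hx m) this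
  exact (Ideal.Quotient.eq).2 h2

/-- the algebra map `K⟦X⟧ → A`. -/
noncomputable def phi : K⟦X⟧ →ₐ[K] A :=
  IsAdicComplete.liftAlgHom (maximalIdeal A)
    (fun n => lvl (K := K) x (maximalIdeal A ^ n) n (pow_mem x hx n))
    (fun hle => lvl_compat x hx hle)

theorem phi_congr (f : K⟦X⟧) (n : ℕ) :
    phi (K := K) x hx f - (Finset.range n).sum (fun i => algebraMap K A (PowerSeries.coeff i f) * x ^ i) ∈
      maximalIdeal A ^ n := by
  have h1 : Ideal.Quotient.mk (maximalIdeal A ^ n) (phi (K := K) x hx f) =
      Ideal.Quotient.mk (maximalIdeal A ^ n) (aeval x (PowerSeries.trunc n f)) := by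
    unfold phi
    rw [IsAdicComplete.mk_liftAlgHom (maximalIdeal A) _ (fun hle => lvl_compat x hx hle) n f]
    rfl
  rw [Ideal.Quotient.eq] at h1
  have h2 : aeval x (PowerSeries.trunc n f) =
      (Finset.range n).sum (fun i => algebraMap K A (PowerSeries.coeff i f) * x ^ i) := by
    rw [Polynomial.aeval_def, PowerSeries.eval₂_trunc_eq_sum_range]
  rw [← h2]
  exact h1

theorem eq_of_forall_sub_mem (a b : A) (h : ∀ n, a - b ∈ maximalIdeal A ^ n) : a = b := by
  have hH : IsHausdorff (maximalIdeal A) A := inferInstance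
  have := hH.haus' (a - b) (fun n => by
    rw [SModEq.zero, smul_eq_mul, Ideal.mul_top]
    exact h n)
  exact sub_eq_zero.1 this

theorem phi_X : phi (K := K) x hx PowerSeries.X = x := by
  apply eq_of_forall_sub_mem
  intro n
  have h2 := phi_congr (K := K) x hx PowerSeries.X (n + 2)
  have h3 : (Finset.range (n + 2)).sum
      (fun i => algebraMap K A (PowerSeries.coeff i (PowerSeries.X : K⟦X⟧)) * x ^ i) = x := by
    rw [Finset.sum_eq_single 1]
    · simp
    · intro i _ hi
      rw [PowerSeries.coeff_X, if_neg hi, map_zero, zero_mul]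
    · intro h
      exact absurd (Finset.mem_range.2 (by omega)) h
  rw [h3] at h2
  exact Ideal.pow_le_pow_right (by omega) h2


theorem phi_injective [IsDomain A] (hx0 : x ≠ 0)
    (hKinj : ∀ c : K, algebraMap K A c ∈ maximalIdeal A → c = 0) :
    Function.Injective (phi (K := K) x hx) := by
  classical
  rw [injective_iff_map_eq_zero]
  intro f hf
  by_contra hne
  have hex : ∃ k, PowerSeries.coeff k f ≠ 0 := by
    by_contra hcon
    push Not at hcon
    exact hne (PowerSeries.ext (fun n => by rw [hcon n, map_zero]))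
  let k := Nat.find hex
  have hk : PowerSeries.coeff k f ≠ 0 := Nat.find_spec hex
  have hmin : ∀ i, i < k → PowerSeries.coeff i f = 0 := fun i hi => by
    have := Nat.find_min hex hi
    push Not at this
    exact this
  have h1 := phi_congr (K := K) x hx f (k + 1)
  rw [hf, zero_sub, neg_mem_iff, Finset.sum_range_succ, Finset.sum_eq_zero, zero_add] at h1
  · rw [hx, Ideal.span_singleton_pow, Ideal.mem_span_singleton'] at h1
    obtain ⟨b, hb⟩ := h1
    rw [pow_succ, ← mul_assoc, mul_comm (b * x ^ k) x, ← mul_assoc, mul_comm (x * b)] at hb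
    have h2 : x * b = algebraMap K A (PowerSeries.coeff k f) := by
      exact mul_left_cancel₀ (pow_ne_zero k hx0) (hb.trans (mul_comm _ _))
    apply hk
    apply hKinj
    rw [← h2, hx]
    exact Ideal.mul_mem_right _ _ (Ideal.mem_span_singleton_self x)
  · intro i hi
    rw [hmin i (Finset.mem_range.1 hi), map_zero, zero_mul]

theorem phi_surjective
    (hKsurj : ∀ a : A, ∃ c : K, a - algebraMap K A c ∈ maximalIdeal A) :
    Function.Surjective (phi (K := K) x hx) := by
  classical
  intro a
  have hstep : ∀ r : A, ∃ c : K, ∃ b : A, r = algebraMap K A c + x * b := by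
    intro r
    obtain ⟨c, hc⟩ := hKsurj r
    rw [hx, Ideal.mem_span_singleton'] at hc
    obtain ⟨b, hb⟩ := hc
    exact ⟨c, b, by rw [mul_comm x b, hb]; ring⟩
  choose cf bf hcb using hstep
  let r : ℕ → A := fun i => bf^[i] a
  let c : ℕ → K := fun i => cf (r i)
  have hr : ∀ i, r (i + 1) = bf (r i) := fun i => Function.iterate_succ_apply' bf i a
  have hsum : ∀ n, a = (Finset.range n).sum (fun i => algebraMap K A (c i) * x ^ i) + x ^ n * r n := by
    intro n
    induction n with
    | zero => simp [r]
    | succ n ih =>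
      rw [Finset.sum_range_succ, hr, pow_succ]
      have := hcb (r n)
      calc a = (Finset.range n).sum (fun i => algebraMap K A (c i) * x ^ i) + x ^ n * r n := ih
        _ = (Finset.range n).sum (fun i => algebraMap K A (c i) * x ^ i) +
              x ^ n * (algebraMap K A (cf (r n)) + x * bf (r n)) := by rw [← this]
        _ = _ := by ring
  refine ⟨PowerSeries.mk c, ?_⟩
  apply eq_of_forall_sub_mem
  intro n
  have h1 := phi_congr (K := K) x hx (PowerSeries.mk c) n
  simp only [PowerSeries.coeff_mk] at h1
  have h2 : phi (K := K) x hx (PowerSeries.mk c) - a =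
      (phi (K := K) x hx (PowerSeries.mk c) -
        (Finset.range n).sum (fun i => algebraMap K A (c i) * x ^ i)) - x ^ n * r n := by
    nth_rewrite 1 [hsum n]
    ring
  rw [h2]
  exact Ideal.sub_mem _ h1 (Ideal.mul_mem_right _ _ (pow_mem x hx n))

end main

end Groth.Agent.Helper6.CDvrPS
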