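import Mathlib
import Groth.Prelude

/-!
# The number of geometric branches is bounded by the δ-invariant plus one
-/

set_option autoImplicit false
universe u v w

namespace Groth.Agent.Helper6.BranchDelta

section Count

variable {A : Type u} [CommRing A] {Ω : Type w} [Field Ω] [Module A Ω] [IsScalarTower A Ω Ω]

/-- `n` linearly independent (over `Ω`) `A`-linear maps `Q → Ω` force `length Q ≥ n`. -/
theorem le_length_of_linearIndependent : ∀ (n : ℕ) (Q : Type v) [AddCommGroup Q] [Module A Q]
    (φ : Fin n → (Q →ₗ[A] Ω)), LinearIndependent Ω φ → (n : ℕ∞) ≤ Module.length A Q := by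
  intro n
  induction n with
  | zero => intro Q _ _ φ _; simp
  | succ n ih =>
    intro Q _ _ φ hφ
    have hne : φ (Fin.last n) ≠ 0 := hφ.ne_zero _
    obtain ⟨q, hq⟩ : ∃ q, φ (Fin.last n) q ≠ 0 := by
      by_contra h
      exact hne (LinearMap.ext fun x => not_not.mp fun hx => h ⟨x, hx⟩)
    set M : Submodule A Q := Submodule.span A {q} with hM
    let c : Fin n → Ω := fun i => φ i.castSucc q / φ (Fin.last n) q
    let φ' : Fin n → (Q →ₗ[A] Ω) := fun i => φ i.castSucc - c i • φ (Fin.last n)
    have hφ'q : ∀ i, φ' i q = 0 := by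
      intro i
      simp only [φ', c, LinearMap.sub_apply, LinearMap.smul_apply, smul_eq_mul]
      field_simp
      ring
    have hle : ∀ i, M ≤ LinearMap.ker (φ' i) := by
      intro i
      rw [hM, Submodule.span_le]
      rintro x rfl
      exact hφ'q i
    let ψ : Fin n → ((Q ⧸ M) →ₗ[A] Ω) := fun i => M.liftQ (φ' i) (hle i)
    have hψ : LinearIndependent Ω ψ := by
      rw [Fintype.linearIndependent_iff]
      intro g hg i
      have h1 : ∑ j, g j • φ' j = 0 := by
        apply LinearMap.ext
        intro x
        have := congrArg (fun f : (Q ⧸ M) →ₗ[A] Ω => f (M.mkQ x)) hg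
        simpa [ψ, LinearMap.sum_apply] using this
      have h2 : ∑ j : Fin (n + 1), (Fin.snoc g (-∑ j, g j * c j) : Fin (n + 1) → Ω) j • φ j = 0 := by
        apply LinearMap.ext
        intro x
        have h1x := congrArg (fun f : Q →ₗ[A] Ω => f x) h1
        simp only [LinearMap.sum_apply, LinearMap.smul_apply, LinearMap.sub_apply, φ', smul_eq_mul,
          LinearMap.zero_apply, mul_sub, Finset.sum_sub_distrib] at h1x
        simp only [LinearMap.sum_apply, LinearMap.smul_apply, smul_eq_mul, LinearMap.zero_apply,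
          Fin.sum_univ_castSucc, Fin.snoc_castSucc, Fin.snoc_last, LinearMap.add_apply]
        rw [neg_mul, Finset.sum_mul]
        simp only [mul_assoc] at h1x ⊢
        linear_combination h1x
      have h3 := (Fintype.linearIndependent_iff.mp hφ) _ h2 i.castSucc
      simpa using h3
    have h4 := ih (Q ⧸ M) ψ hψ
    have hMne : Nontrivial M := by
      refine ⟨⟨⟨q, Submodule.mem_span_singleton_self q⟩, 0, ?_⟩⟩
      intro h
      apply hq
      have : q = 0 := congrArg Subtype.val h
      rw [this, map_zero]
    have h5 : Module.length A Q = Module.length A M + Module.length A (Q ⧸ M) :=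
      Module.length_eq_add_of_exact M.subtype M.mkQ (Submodule.subtype_injective _)
        (Submodule.mkQ_surjective _) (LinearMap.exact_subtype_mkQ M)
    have h6 : (1 : ℕ∞) ≤ Module.length A M := Order.one_le_iff_pos.mpr Module.length_pos
    rw [h5]
    push_cast
    rw [add_comm (n : ℕ∞) 1]
    exact add_le_add h6 h4

end Count

section Chars

variable {A : Type u} [CommRing A] {C : Type v} [CommRing C] [Algebra A C] {Ω : Type w} [Field Ω]

/-- the number of ring homomorphisms `C → Ω` extending a fixed `ι : A → Ω` is at most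
`length_A (C / A) + 1` -/
theorem le_length_of_injective (ι : A →+* Ω) (n : ℕ) (τ : Fin (n + 1) → (C →+* Ω))
    (hτ : Function.Injective τ) (hι : ∀ i, (τ i).comp (algebraMap A C) = ι) :
    (n : ℕ∞) ≤ Module.length A (C ⧸ LinearMap.range (Algebra.linearMap A C)) := by
  letI : Module A Ω := Module.compHom Ω ι
  have hsmul : ∀ (a : A) (x : Ω), a • x = ι a * x := fun _ _ => rfl
  haveI : IsScalarTower A Ω Ω := ⟨fun a x y => by
    rw [hsmul, hsmul, smul_eq_mul, smul_eq_mul, mul_assoc]⟩
  have hτa : ∀ i (a : A), τ i (algebraMap A C a) = ι a := fun i a => by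
    rw [← hι i]; rfl
  let D : Fin n → (C →ₗ[A] Ω) := fun i =>
    { toFun := fun c => τ i.succ c - τ 0 c
      map_add' := fun c c' => by rw [map_add, map_add]; ring
      map_smul' := fun a c => by
        rw [Algebra.smul_def, map_mul, map_mul, hτa, hτa, RingHom.id_apply, hsmul]
        ring }
  have hD : ∀ i, LinearMap.range (Algebra.linearMap A C) ≤ LinearMap.ker (D i) := by
    rintro i _ ⟨a, rfl⟩
    rw [LinearMap.mem_ker]
    show τ i.succ (algebraMap A C a) - τ 0 (algebraMap A C a) = 0
    rw [hτa, hτa, sub_self]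
  let φ : Fin n → ((C ⧸ LinearMap.range (Algebra.linearMap A C)) →ₗ[A] Ω) :=
    fun i => (LinearMap.range (Algebra.linearMap A C)).liftQ (D i) (hD i)
  apply le_length_of_linearIndependent n _ φ
  rw [Fintype.linearIndependent_iff]
  intro g hg i
  have hinj : Function.Injective (fun j : Fin (n + 1) => ((τ j : C →+* Ω) : C →* Ω)) := by
    intro j j' h
    apply hτ
    apply RingHom.ext
    intro c
    exact congrArg (fun f : C →* Ω => f c) h
  have hchar := (linearIndependent_monoidHom C Ω).comp _ hinj
  rw [Fintype.linearIndependent_iff] at hchar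
  have key := hchar (Fin.cons (-∑ j, g j) g) ?_ i.succ
  · simpa using key
  · funext c
    have hgc := congrArg (fun f : (C ⧸ LinearMap.range (Algebra.linearMap A C)) →ₗ[A] Ω =>
      f ((LinearMap.range (Algebra.linearMap A C)).mkQ c)) hg
    simp only [LinearMap.sum_apply, LinearMap.smul_apply, LinearMap.zero_apply, φ,
      Submodule.mkQ_apply, Submodule.liftQ_apply, smul_eq_mul] at hgc
    have hgc' : ∑ j, g j * (τ j.succ c - τ 0 c) = 0 := hgc
    simp only [mul_sub, Finset.sum_sub_distrib] at hgc'
    rw [Fin.sum_univ_succ]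
    simp only [Fin.cons_zero, Fin.cons_succ, Function.comp_apply, Finset.sum_apply, Pi.add_apply,
      Pi.smul_apply, smul_eq_mul, Pi.zero_apply, MonoidHom.coe_coe, neg_mul, Finset.sum_mul]
    linear_combination hgc'

end Chars

section Bridge

variable (A : Type u) [CommRing A] [IsReduced A]

/-- `A ≃ A_red` for reduced `A` -/
noncomputable def eRed : A ≃+* CAlg2.red A :=
  RingEquiv.ofBijective (Ideal.Quotient.mk (nilradical A))
    ⟨(RingHom.injective_iff_ker_eq_bot _).mpr (by
        rw [Ideal.mk_ker, nilradical_eq_zero, Ideal.zero_eq_bot]),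
      Ideal.Quotient.mk_surjective⟩

theorem eRed_apply (a : A) : eRed A a = Ideal.Quotient.mk (nilradical A) a := rfl

/-- the induced iso of total fraction rings -/
noncomputable def Φ : FractionRing A ≃+* FractionRing (CAlg2.red A) :=
  IsFractionRing.ringEquivOfRingEquiv (eRed A)

theorem Φ_algebraMap (a : A) :
    Φ A (algebraMap A (FractionRing A) a)
      = algebraMap (CAlg2.red A) (FractionRing (CAlg2.red A)) (Ideal.Quotient.mk (nilradical A) a) :=
  IsFractionRing.ringEquivOfRingEquiv_algebraMap (eRed A) a

theorem Φ_comp : (algebraMap (CAlg2.red A) (FractionRing (CAlg2.red A))).comp (eRed A).toRingHom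
    = (Φ A).toRingHom.comp (algebraMap A (FractionRing A)) := by
  ext a
  exact (Φ_algebraMap A a).symm

theorem Φ_symm_comp :
    (algebraMap A (FractionRing A)).comp (eRed A).symm.toRingHom
    = (Φ A).symm.toRingHom.comp (algebraMap (CAlg2.red A) (FractionRing (CAlg2.red A))) := by
  apply RingHom.ext
  intro r
  show algebraMap A (FractionRing A) ((eRed A).symm r)
    = (Φ A).symm (algebraMap (CAlg2.red A) (FractionRing (CAlg2.red A)) r)
  rw [eq_comm, RingEquiv.symm_apply_eq, Φ_algebraMap, ← eRed_apply, RingEquiv.apply_symm_apply]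

/-- the comparison `integralClosure A (Frac A) → normRed A` -/
noncomputable def ψ : ↥(integralClosure A (FractionRing A)) →+* CAlg2.normRed A where
  toFun x := ⟨Φ A x.1, IsIntegral.map_of_comp_eq (eRed A).toRingHom (Φ A).toRingHom (Φ_comp A) x.2⟩
  map_one' := Subtype.ext (map_one (Φ A))
  map_mul' x y := Subtype.ext (map_mul (Φ A) x.1 y.1)
  map_zero' := Subtype.ext (map_zero (Φ A))
  map_add' x y := Subtype.ext (map_add (Φ A) x.1 y.1)

theorem ψ_val (x : ↥(integralClosure A (FractionRing A))) : (ψ A x).1 = Φ A x.1 := rfl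

theorem ψ_surjective : Function.Surjective (ψ A) := by
  intro y
  refine ⟨⟨(Φ A).symm y.1, IsIntegral.map_of_comp_eq (eRed A).symm.toRingHom (Φ A).symm.toRingHom
    (Φ_symm_comp A) y.2⟩, ?_⟩
  apply Subtype.ext
  rw [ψ_val]
  exact RingEquiv.apply_symm_apply _ _

theorem ψ_comp_algebraMap :
    (ψ A).comp (algebraMap A ↥(integralClosure A (FractionRing A)))
      = (algebraMap (CAlg2.red A) (CAlg2.normRed A)).comp (Ideal.Quotient.mk (nilradical A)) := by
  ext a
  show Φ A (algebraMap A (FractionRing A) a) = _
  rw [Φ_algebraMap]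
  rfl

end Bridge

section Main

variable (A : Type u) [CommRing A] [IsLocalRing A] [IsReduced A]

/-- the ring homomorphism `B → κ̄` attached to a geometric branch -/
noncomputable def branchHom (p : Σ m' : MaximalSpectrum (CAlg2.normRed A), Brnch.Emb A m') :
    ↥(integralClosure A (FractionRing A)) →+* AlgebraicClosure (IsLocalRing.ResidueField A) :=
  (p.2.1.comp (Ideal.Quotient.mk p.1.asIdeal)).comp (ψ A)

theorem branchHom_comp (p : Σ m' : MaximalSpectrum (CAlg2.normRed A), Brnch.Emb A m') :
    (branchHom A p).comp (algebraMap A ↥(integralClosure A (FractionRing A))) = Brnch.toClosure A := by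
  unfold branchHom
  rw [RingHom.comp_assoc, ψ_comp_algebraMap, RingHom.comp_assoc]
  exact p.2.2

theorem ker_eq (m' : MaximalSpectrum (CAlg2.normRed A)) (σ : Brnch.Emb A m') :
    RingHom.ker (σ.1.comp (Ideal.Quotient.mk m'.asIdeal)) = m'.asIdeal := by
  haveI := m'.isMaximal
  refine (Ideal.IsMaximal.eq_of_le m'.isMaximal (RingHom.ker_ne_top _) ?_).symm
  intro x hx
  rw [RingHom.mem_ker, RingHom.comp_apply, Ideal.Quotient.eq_zero_iff_mem.mpr hx, map_zero]

theorem branchHom_injective : Function.Injective (branchHom A) := by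
  rintro ⟨m₁, σ₁⟩ ⟨m₂, σ₂⟩ h
  have h' : σ₁.1.comp (Ideal.Quotient.mk m₁.asIdeal) = σ₂.1.comp (Ideal.Quotient.mk m₂.asIdeal) :=
    (RingHom.cancel_right (ψ_surjective A)).mp h
  have hm : m₁ = m₂ := by
    apply MaximalSpectrum.ext
    rw [← ker_eq A m₁ σ₁, ← ker_eq A m₂ σ₂, h']
  subst hm
  have h'' : σ₁.1 = σ₂.1 := (RingHom.cancel_right Ideal.Quotient.mk_surjective).mp h'
  exact congrArg (Sigma.mk m₁) (Subtype.ext h'')

theorem card_le_of_injective (d : ℕ) (hd : Curv2.deltaInv A = d) (k : ℕ)
    (f : Fin k → (Σ m' : MaximalSpectrum (CAlg2.normRed A), Brnch.Emb A m'))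
    (hf : Function.Injective f) : k ≤ d + 1 := by
  cases k with
  | zero => exact Nat.zero_le _
  | succ n =>
    have key : (n : ℕ∞) ≤ Curv2.deltaInv A :=
      le_length_of_injective (C := ↥(integralClosure A (FractionRing A))) (Brnch.toClosure A) n
        (fun i => branchHom A (f i)) ((branchHom_injective A).comp hf)
        (fun i => branchHom_comp A (f i))
    rw [hd] at key
    have : n ≤ d := by exact_mod_cast key
    omega

theorem numGeomBranches_le [IsNoetherianRing A] :
    Brnch.numGeomBranches A ≤ Curv2.deltaInv A + 1 := by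
  have hfin : (minimalPrimes A).Finite := minimalPrimes.finite_of_isNoetherianRing A
  have hnum : Brnch.numGeomBranches A
      = ENat.card (Σ m' : MaximalSpectrum (CAlg2.normRed A), Brnch.Emb A m') := by
    unfold Brnch.numGeomBranches
    exact if_pos hfin
  rw [hnum]
  by_cases htop : Curv2.deltaInv A = ⊤
  · rw [htop, top_add]; exact le_top
  obtain ⟨d, hd⟩ := ENat.ne_top_iff_exists.mp htop
  rw [← hd]
  rcases finite_or_infinite (Σ m' : MaximalSpectrum (CAlg2.normRed A), Brnch.Emb A m') with hF | hI
  · rw [ENat.card_eq_coe_natCard]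
    have := card_le_of_injective A d hd.symm _ (Finite.equivFin _).symm (Equiv.injective _)
    exact_mod_cast this
  · exfalso
    let e := @Infinite.natEmbedding
      (Σ m' : MaximalSpectrum (CAlg2.normRed A), Brnch.Emb A m') hI
    have := card_le_of_injective A d hd.symm (d + 2)
      (fun i => e (i : ℕ))
      (fun i j hij => Fin.ext (e.injective hij))
    omega

end Main

end Groth.Agent.Helper6.BranchDelta
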