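import Mathlib
import Groth.Prelude.Def_PCoh

namespace Groth.Agent.Helper6.PCohCok

open CategoryTheory CategoryTheory.Limits

universe v u

theorem main {C : Type u} [Category.{v} C] [Abelian C]
    (P : ObjectProperty C)
    (hsum : ∀ X Y : C, P X → P Y → P (X ⨯ Y))
    (hql : PCoh.IsQuasiLiftable P)
    (S : ShortComplex C) (hS : S.Exact) (hg : Epi S.g)
    (hF : PCoh.IsOfFiniteType P S.X₁)
    (hG : ∀ (E : C) (u : E ⟶ S.X₂), P E → PCoh.IsOfFiniteType P (kernel u)) :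
    ∀ (E : C) (u : E ⟶ S.X₃), P E → PCoh.IsOfFiniteType P (kernel u) := by
  intro E u hE
  haveI := hg
  -- step 1
  obtain ⟨F', v, hF', hv⟩ := hql (pullback u S.g) E (pullback.fst u S.g) inferInstance hE
  obtain ⟨e, he⟩ : ∃ e : F' ⟶ E, e = v ≫ pullback.fst u S.g := ⟨_, rfl⟩
  obtain ⟨u₂, hu₂⟩ : ∃ u₂ : F' ⟶ S.X₂, u₂ = v ≫ pullback.snd u S.g := ⟨_, rfl⟩
  have hcomm : u₂ ≫ S.g = e ≫ u := by
    rw [hu₂, he, Category.assoc, Category.assoc, pullback.condition]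
  haveI : Epi e := by rw [he]; exact hv
  -- step 2
  obtain ⟨E₁, π₁, hE₁, hπ₁⟩ := hF
  haveI := hπ₁
  -- step 3
  have hPB : P (F' ⨯ E₁) := hsum _ _ hF' hE₁
  obtain ⟨w, hw⟩ : ∃ w : F' ⨯ E₁ ⟶ S.X₂, w = prod.fst ≫ u₂ + prod.snd ≫ π₁ ≫ S.f := ⟨_, rfl⟩
  obtain ⟨E₀, π₀, hE₀, hπ₀⟩ := hG (F' ⨯ E₁) w hPB
  haveI := hπ₀
  -- step 4
  have hwg : w ≫ S.g = prod.fst ≫ e ≫ u := by
    rw [hw, Preadditive.add_comp, Category.assoc, Category.assoc, Category.assoc, S.zero,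
      comp_zero, comp_zero, add_zero, hcomm]
  have hκ : (kernel.ι w ≫ prod.fst ≫ e) ≫ u = 0 := by
    rw [Category.assoc, Category.assoc, ← hwg, ← Category.assoc, kernel.condition, zero_comp]
  obtain ⟨κ, hκι⟩ : ∃ κ : kernel w ⟶ kernel u, κ ≫ kernel.ι u = kernel.ι w ≫ prod.fst ≫ e :=
    ⟨kernel.lift u (kernel.ι w ≫ prod.fst ≫ e) hκ, kernel.lift_ι _ _ _⟩
  -- step 5
  haveI : Epi κ := by
    rw [epi_iff_surjective_up_to_refinements]
    intro A x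
    obtain ⟨x₀, hx₀⟩ : ∃ x₀ : A ⟶ E, x₀ = x ≫ kernel.ι u := ⟨_, rfl⟩
    have hx₀u : x₀ ≫ u = 0 := by rw [hx₀, Category.assoc, kernel.condition, comp_zero]
    obtain ⟨A₁, p₁, hp₁, a, ha⟩ := surjective_up_to_refinements_of_epi e x₀
    have h1 : (a ≫ u₂) ≫ S.g = 0 := by
      rw [Category.assoc, hcomm, ← Category.assoc, ← ha, Category.assoc, hx₀u, comp_zero]
    obtain ⟨A₂, p₂, hp₂, x₁, hx₁⟩ := hS.exact_up_to_refinements (a ≫ u₂) h1
    obtain ⟨A₃, p₃, hp₃, b, hb⟩ := surjective_up_to_refinements_of_epi π₁ x₁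
    obtain ⟨y, hy1, hy2⟩ : ∃ y : A₃ ⟶ F' ⨯ E₁, y ≫ prod.fst = p₃ ≫ p₂ ≫ a ∧
        y ≫ prod.snd = -b := ⟨prod.lift (p₃ ≫ p₂ ≫ a) (-b), prod.lift_fst _ _, prod.lift_snd _ _⟩
    have hyw : y ≫ w = 0 := by
      rw [hw, Preadditive.comp_add, ← Category.assoc, hy1, ← Category.assoc y, hy2,
        Preadditive.neg_comp, ← Category.assoc b, ← hb]
      simp only [Category.assoc]
      rw [hx₁]
      exact add_neg_cancel _
    haveI := hp₁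
    haveI := hp₂
    haveI := hp₃
    refine ⟨A₃, p₃ ≫ p₂ ≫ p₁, inferInstance, kernel.lift w y hyw, ?_⟩
    rw [← cancel_mono (kernel.ι u)]
    simp only [Category.assoc]
    rw [hκι, kernel.lift_ι_assoc, ← Category.assoc y, hy1]
    simp only [Category.assoc]
    rw [← ha, hx₀]
  exact ⟨E₀, π₀ ≫ κ, hE₀, inferInstance⟩

end Groth.Agent.Helper6.PCohCok
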