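import Mathlib
import Groth.Prelude.Def_HopfRep
import Groth.Prelude.Def_Hoch
import Groth.Prelude.Def_GLin
import Groth.Prelude.Def_W4c1tameactTame

/-!
Basic "Sweedler calculus" lemmas for comodules in the prelude's form.
-/

set_option autoImplicit false

namespace Groth.Agent.Helper6.HopfSw

open TensorProduct

section Coalg

variable {k : Type*} [CommRing k] {A : Type*} [AddCommGroup A] [Module k A] [Coalgebra k A]
variable {M : Type*} [AddCommGroup M] [Module k M] [HopfRep.Comod k A M]
variable {N : Type*} [AddCommGroup N] [Module k N]

/-- coassociativity in applied form -/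
theorem coassoc_apply (m : M) :
    (HopfRep.Comod.coact (k := k) (A := A) (V := M)).rTensor A (HopfRep.Comod.coact (k := k) (A := A) m) =
      (TensorProduct.assoc k M A A).symm
        ((Coalgebra.comul (R := k) (A := A)).lTensor M (HopfRep.Comod.coact (k := k) (A := A) m)) := by
  have := LinearMap.congr_fun (HopfRep.Comod.coassoc (k := k) (A := A) (V := M)) m
  simp only [LinearMap.comp_apply, LinearEquiv.coe_coe] at this
  rw [← this, LinearEquiv.symm_apply_apply]

theorem counit_apply (m : M) :
    (Coalgebra.counit (R := k) (A := A)).lTensor M (HopfRep.Comod.coact (k := k) (A := A) m) =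
      m ⊗ₜ[k] (1 : k) :=
  LinearMap.congr_fun (HopfRep.Comod.counit_comp (k := k) (A := A) (V := M)) m

theorem rid_counit_apply (m : M) :
    (TensorProduct.rid k M) ((Coalgebra.counit (R := k) (A := A)).lTensor M
      (HopfRep.Comod.coact (k := k) (A := A) m)) = m := by
  rw [counit_apply]; simp

/-- naturality of `assoc.symm ∘ (id ⊗ Δ)` in the first variable -/
theorem assoc_symm_lTensor_comul_natural (h : M →ₗ[k] N) (x : M ⊗[k] A) :
    (TensorProduct.assoc k N A A).symm ((Coalgebra.comul (R := k) (A := A)).lTensor N (h.rTensor A x)) =
      (h.rTensor A).rTensor A ((TensorProduct.assoc k M A A).symm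
        ((Coalgebra.comul (R := k) (A := A)).lTensor M x)) := by
  induction x using TensorProduct.induction_on with
  | zero => simp
  | add x y hx hy => simp only [map_add, hx, hy]
  | tmul m a =>
    simp only [LinearMap.rTensor_tmul, LinearMap.lTensor_tmul]
    induction (Coalgebra.comul (R := k) a : A ⊗[k] A) using TensorProduct.induction_on with
    | zero => simp
    | add x y hx hy => simp only [TensorProduct.tmul_add, map_add, hx, hy]
    | tmul b c => simp

end Coalg

end Groth.Agent.Helper6.HopfSw
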