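import Mathlib
import Groth.Agent.Helper6.HopfSw

/-!
The Reynolds operator of a total integral: it lands in the invariants, is the identity on them,
is natural, and is linear over invariant scalars.
-/

set_option autoImplicit false

namespace Groth.Agent.Helper6.HopfRey

open TensorProduct Groth.Agent.Helper6.HopfSw

section KeyA

variable (k : Type*) [CommRing k] (A : Type*) [CommRing A] [HopfAlgebra k A]

open WithConv in
/-- The key identity `Σ (1 ⊗ a₁) · Δ(S a₂) = S a ⊗ 1` in `A ⊗ A`. -/
theorem key_A (a : A) :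
    Algebra.TensorProduct.lift (Algebra.TensorProduct.includeRight : A →ₐ[k] A ⊗[k] A)
        ((Bialgebra.comulAlgHom k A).comp (HopfAlgebra.antipodeAlgHom k A))
        (fun _ _ => Commute.all _ _) (Coalgebra.comul (R := k) a) =
      (HopfAlgebraStruct.antipode (R := k) a) ⊗ₜ[k] (1 : A) := by
  let i1 : WithConv (A →ₐ[k] A ⊗[k] A) := toConv Algebra.TensorProduct.includeLeft
  let i2 : WithConv (A →ₐ[k] A ⊗[k] A) := toConv Algebra.TensorProduct.includeRight
  let D : WithConv (A →ₐ[k] A ⊗[k] A) := toConv (Bialgebra.comulAlgHom k A)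
  have h1 : i1 * i2 = D := by
    apply WithConv.ext
    apply AlgHom.ext
    intro c
    show (i1 * i2) c = _
    rw [AlgHom.convMul_apply]
    show Algebra.TensorProduct.lift Algebra.TensorProduct.includeLeft
      Algebra.TensorProduct.includeRight _ (Coalgebra.comul (R := k) c) = Coalgebra.comul (R := k) c
    have := Algebra.TensorProduct.lift_includeLeft_includeRight (R := k) (S := k) (A := A) (B := A)
    exact congrArg (fun f => f (Coalgebra.comul (R := k) c)) this
  have h2 : i2 * D⁻¹ = i1⁻¹ := by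
    rw [← h1]
    have := mul_inv_rev i1 i2
    rw [this, ← mul_assoc, mul_inv_cancel, one_mul]
  have h3 : (i2 * D⁻¹) a = (i1⁻¹) a := by rw [h2]
  rw [AlgHom.convMul_apply] at h3
  exact h3

end KeyA

section Rey

variable {k : Type*} [CommRing k] {A : Type*} [CommRing A] [HopfAlgebra k A]
variable {B : Type*} [CommRing B] [Algebra k B] [HopfRep.Comod k A B] [GLin.IsCoactAlg k A B]
variable {M : Type*} [AddCommGroup M] [Module k M] [Module B M] [IsScalarTower k B M]
  [HopfRep.Comod k A M] [TameAct.IsHopfMod k A B M]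

/-- the map `m ⊗ a ↦ α(S a) • m` -/
noncomputable def eMap (α : A →ₗ[k] B) : M ⊗[k] A →ₗ[k] M :=
  TensorProduct.lift
      ((Algebra.lsmul k k M : B →ₐ[k] Module.End k M).toLinearMap ∘ₗ α ∘ₗ
        (HopfAlgebraStruct.antipode (R := k) (A := A))).flip

omit [HopfRep.Comod k A B] [GLin.IsCoactAlg k A B] [HopfRep.Comod k A M] [TameAct.IsHopfMod k A B M] in
@[simp] theorem eMap_tmul (α : A →ₗ[k] B) (m : M) (a : A) :
    eMap (k := k) (A := A) (B := B) (M := M) α (m ⊗ₜ[k] a) =
      α (HopfAlgebraStruct.antipode (R := k) a) • m := by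
  simp [eMap]

omit [HopfRep.Comod k A B] [GLin.IsCoactAlg k A B] [TameAct.IsHopfMod k A B M] in
theorem reynolds_eq (α : A →ₗ[k] B) (m : M) :
    TameAct.reynolds k A B M α m = eMap α (HopfRep.Comod.coact (k := k) (A := A) m) := rfl

omit [HopfRep.Comod k A B] [GLin.IsCoactAlg k A B] [HopfRep.Comod k A M] [TameAct.IsHopfMod k A B M] in
theorem hmSMul_rTensor_mul (α : A →ₗ[k] B) (u : A ⊗[k] A) (m : M) (x : A) :
    TameAct.hmSMul k A B M (α.rTensor A u) (m ⊗ₜ[k] x) =
      TameAct.hmSMul k A B M (α.rTensor A (u * ((1 : A) ⊗ₜ[k] x))) (m ⊗ₜ[k] (1 : A)) := by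
  induction u using TensorProduct.induction_on with
  | zero => simp
  | add u v hu hv => simp only [map_add, add_mul, LinearMap.add_apply, hu, hv]
  | tmul p q =>
    rw [Algebra.TensorProduct.tmul_mul_tmul, LinearMap.rTensor_tmul, LinearMap.rTensor_tmul,
      TameAct.hmSMul_tmul, TameAct.hmSMul_tmul, mul_one, mul_one]

omit [GLin.IsCoactAlg k A B] in
theorem coact_reynolds (α : A →ₗ[k] B) (hα : Hoch.IsComodHom A α) (m : M) :
    HopfRep.Comod.coact (k := k) (A := A) (TameAct.reynolds k A B M α m) =
      (TameAct.reynolds k A B M α m) ⊗ₜ[k] (1 : A) := by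
  unfold Hoch.IsComodHom at hα
  have hα' : ∀ x : A, HopfRep.Comod.coact (k := k) (A := A) (α x) =
      α.rTensor A (Coalgebra.comul (R := k) x) := fun x => LinearMap.congr_fun hα x
  -- Θ
  let S : A →ₗ[k] A := HopfAlgebraStruct.antipode (R := k) (A := A)
  let Θ : (M ⊗[k] A) ⊗[k] A →ₗ[k] M ⊗[k] A :=
    TensorProduct.lift ((TameAct.hmSMul k A B M ∘ₗ α.rTensor A ∘ₗ
      (Coalgebra.comul (R := k) (A := A)) ∘ₗ S).flip)
  have hΘ : ∀ (y : M ⊗[k] A) (a : A), Θ (y ⊗ₜ[k] a) =
      TameAct.hmSMul k A B M (α.rTensor A (Coalgebra.comul (R := k) (S a))) y := by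
    intro y a; simp [Θ]
  -- Step 1-2 : ρ (e z) = Θ (ρ ⊗ id) z
  have step12 : ∀ z : M ⊗[k] A, HopfRep.Comod.coact (k := k) (A := A) (eMap α z) =
      Θ ((HopfRep.Comod.coact (k := k) (A := A) (V := M)).rTensor A z) := by
    intro z
    induction z using TensorProduct.induction_on with
    | zero => simp
    | add x y hx hy => simp only [map_add, hx, hy]
    | tmul m a =>
      rw [eMap_tmul, TameAct.IsHopfMod.coact_smul (k := k) (A := A) (B := B) (M := M), hα',
        LinearMap.rTensor_tmul, hΘ]
  -- Step 4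
  have step4 : ∀ z : M ⊗[k] A, Θ ((TensorProduct.assoc k M A A).symm
      ((Coalgebra.comul (R := k) (A := A)).lTensor M z)) = (eMap α z) ⊗ₜ[k] (1 : A) := by
    intro z
    induction z using TensorProduct.induction_on with
    | zero => simp
    | add x y hx hy => simp only [map_add, hx, hy, TensorProduct.add_tmul]
    | tmul m a =>
      rw [LinearMap.lTensor_tmul]
      have h4' : ∀ w : A ⊗[k] A, Θ ((TensorProduct.assoc k M A A).symm (m ⊗ₜ[k] w)) =
          TameAct.hmSMul k A B M (α.rTensor A
            (Algebra.TensorProduct.lift (Algebra.TensorProduct.includeRight : A →ₐ[k] A ⊗[k] A)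
              ((Bialgebra.comulAlgHom k A).comp (HopfAlgebra.antipodeAlgHom k A))
              (fun _ _ => Commute.all _ _) w)) (m ⊗ₜ[k] (1 : A)) := by
        intro w
        induction w using TensorProduct.induction_on with
        | zero => simp
        | add x y hx hy => simp only [TensorProduct.tmul_add, map_add, LinearMap.add_apply, hx, hy]
        | tmul x y =>
          rw [TensorProduct.assoc_symm_tmul, hΘ, Algebra.TensorProduct.lift_tmul,
            hmSMul_rTensor_mul, mul_comm]
          rfl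
      rw [h4', key_A, LinearMap.rTensor_tmul, TameAct.hmSMul_tmul, mul_one, eMap_tmul]
  rw [reynolds_eq, step12, coassoc_apply, step4]

omit [HopfRep.Comod k A B] [GLin.IsCoactAlg k A B] [TameAct.IsHopfMod k A B M] in
theorem reynolds_of_fixed (α : A →ₗ[k] B) (hα1 : α 1 = 1) (m : M)
    (hm : m ∈ HopfRep.fixedPts k A M) : TameAct.reynolds k A B M α m = m := by
  have hm' : HopfRep.Comod.coact (k := k) (A := A) m = m ⊗ₜ[k] (1 : A) := hm
  rw [reynolds_eq, hm', eMap_tmul, HopfAlgebra.antipode_one, hα1, one_smul]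

end Rey

section Nat

variable {k : Type*} [CommRing k] {A : Type*} [CommRing A] [HopfAlgebra k A]
variable {B : Type*} [CommRing B] [Algebra k B] [HopfRep.Comod k A B]
variable {M : Type*} [AddCommGroup M] [Module k M] [Module B M] [IsScalarTower k B M]
  [HopfRep.Comod k A M]
variable {N : Type*} [AddCommGroup N] [Module k N] [Module B N] [IsScalarTower k B N]
  [HopfRep.Comod k A N]

omit [HopfRep.Comod k A B] in
theorem reynolds_natural (α : A →ₗ[k] B) (f : M →ₗ[B] N)
    (hf : Hoch.IsComodHom A (f.restrictScalars k)) (m : M) :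
    f (TameAct.reynolds k A B M α m) = TameAct.reynolds k A B N α (f m) := by
  unfold Hoch.IsComodHom at hf
  have hf' : HopfRep.Comod.coact (k := k) (A := A) (f m) =
      (f.restrictScalars k).rTensor A (HopfRep.Comod.coact (k := k) (A := A) m) :=
    LinearMap.congr_fun hf m
  rw [reynolds_eq, reynolds_eq, hf']
  generalize (HopfRep.Comod.coact (k := k) (A := A) m : M ⊗[k] A) = z
  induction z using TensorProduct.induction_on with
  | zero => simp
  | add x y hx hy => simp only [map_add, hx, hy]
  | tmul m a =>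
    rw [eMap_tmul, LinearMap.rTensor_tmul, eMap_tmul, map_smul]
    rfl

theorem reynolds_smul_of_coact_eq [TameAct.IsHopfMod k A B M] (α : A →ₗ[k] B) (c : B)
    (hc : HopfRep.Comod.coact (k := k) (A := A) c = c ⊗ₜ[k] (1 : A)) (m : M) :
    TameAct.reynolds k A B M α (c • m) = c • TameAct.reynolds k A B M α m := by
  rw [reynolds_eq, reynolds_eq, TameAct.IsHopfMod.coact_smul (k := k) (A := A) (B := B) (M := M), hc]
  generalize (HopfRep.Comod.coact (k := k) (A := A) m : M ⊗[k] A) = z
  induction z using TensorProduct.induction_on with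
  | zero => simp
  | add x y hx hy => simp only [map_add, smul_add, hx, hy]
  | tmul m a =>
    rw [TameAct.hmSMul_tmul, one_mul, eMap_tmul, eMap_tmul, smul_comm]

end Nat

section Ideals

variable {k : Type*} [CommRing k] {A : Type*} [CommRing A] [HopfAlgebra k A]
variable {B : Type*} [CommRing B] [Algebra k B] [HopfRep.Comod k A B] [GLin.IsCoactAlg k A B]

omit [HopfRep.Comod k A B] [GLin.IsCoactAlg k A B] in
theorem hmSMul_self (x y : B ⊗[k] A) : TameAct.hmSMul k A B B x y = x * y := by
  induction x using TensorProduct.induction_on with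
  | zero => simp
  | add x₁ x₂ h₁ h₂ => simp only [map_add, LinearMap.add_apply, add_mul, h₁, h₂]
  | tmul b a =>
    induction y using TensorProduct.induction_on with
    | zero => simp
    | add y₁ y₂ h₁ h₂ => simp only [map_add, mul_add, h₁, h₂]
    | tmul m a' =>
      rw [TameAct.hmSMul_tmul, Algebra.TensorProduct.tmul_mul_tmul, smul_eq_mul]

instance isHopfMod_self : TameAct.IsHopfMod k A B B := ⟨fun b m => by
    rw [smul_eq_mul, GLin.IsCoactAlg.coact_mul (k := k) (A := A), hmSMul_self]⟩

/-- The Reynolds operator maps `b * (c B)` into `c` for an ideal `c` of the invariants. -/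
theorem reynolds_mul_map_mem (α : A →ₗ[k] B) (hα : Hoch.IsComodHom A α)
    (c : Ideal (GLin.invariants k A B)) (y : B)
    (hy : y ∈ Ideal.map (algebraMap (GLin.invariants k A B) B) c) (b : B) :
    ∃ c' ∈ c, algebraMap (GLin.invariants k A B) B c' = TameAct.reynolds k A B B α (b * y) := by
  revert b
  unfold Ideal.map at hy
  induction hy using Submodule.span_induction with
  | mem y hy =>
    obtain ⟨c₀, hc₀, rfl⟩ := hy
    intro b
    have hEb : TameAct.reynolds k A B B α b ∈ GLin.invariants k A B := coact_reynolds α hα b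
    refine ⟨c₀ * ⟨TameAct.reynolds k A B B α b, hEb⟩, Ideal.mul_mem_right _ _ hc₀, ?_⟩
    have : TameAct.reynolds k A B B α (b * algebraMap (GLin.invariants k A B) B c₀) =
        algebraMap (GLin.invariants k A B) B c₀ * TameAct.reynolds k A B B α b := by
      rw [mul_comm b]
      exact reynolds_smul_of_coact_eq α _ c₀.2 b
    rw [this, map_mul]
    rfl
  | zero => intro b; exact ⟨0, c.zero_mem, by simp⟩
  | add y₁ y₂ _ _ h₁ h₂ =>
    intro b
    obtain ⟨c₁, hc₁, e₁⟩ := h₁ b
    obtain ⟨c₂, hc₂, e₂⟩ := h₂ b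
    exact ⟨c₁ + c₂, c.add_mem hc₁ hc₂, by rw [map_add, e₁, e₂, mul_add, map_add]⟩
  | smul r y _ h =>
    intro b
    obtain ⟨c₁, hc₁, e₁⟩ := h (b * r)
    exact ⟨c₁, hc₁, by rw [e₁, smul_eq_mul, mul_assoc]⟩

omit [GLin.IsCoactAlg k A B] in
/-- The Reynolds operator preserves an ideal which is a subcomodule. -/
theorem reynolds_mem_of_isSubcomod (α : A →ₗ[k] B) (b : Ideal B)
    (hb : HopfRep.IsSubcomod (k := k) (A := A) (b.restrictScalars k)) (x : B) (hx : x ∈ b) :
    TameAct.reynolds k A B B α x ∈ b := by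
  obtain ⟨z, hz⟩ := hb x hx
  rw [reynolds_eq, ← hz]
  clear hz
  induction z using TensorProduct.induction_on with
  | zero => simp
  | add z₁ z₂ h₁ h₂ => rw [map_add, map_add]; exact b.add_mem h₁ h₂
  | tmul y a =>
    rw [LinearMap.rTensor_tmul, eMap_tmul]
    exact b.mul_mem_left _ y.2

end Ideals

end Groth.Agent.Helper6.HopfRey
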