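import Mathlib
import Groth.Prelude
import Groth.Agent.Helper2.DepthCM
import Groth.Agent.Helper2.Depth
import Groth.Agent.Helper9.ReflKer
import Groth.Agent.Helper9.DepthKer

/-!
# Serre's condition `(S_k)` for the quotient by a regular sequence
-/

set_option autoImplicit false
universe u

namespace Groth.Agent.Helper6.SkQuot

open IsLocalRing LocCoh
open scoped Pointwise

variable {A : Type u} [CommRing A]

section Equiv

variable {M M' : Type u} [AddCommGroup M] [Module A M] [AddCommGroup M'] [Module A M']

/-- the localized equivalence -/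
noncomputable def locEquiv (p : Ideal A) [p.IsPrime] (e : M ≃ₗ[A] M') :
    LocalizedModule p.primeCompl M ≃ₗ[Localization.AtPrime p] LocalizedModule p.primeCompl M' :=
  LinearEquiv.ofBijective
    (IsLocalizedModule.mapExtendScalars p.primeCompl
      (LocalizedModule.mkLinearMap p.primeCompl M) (LocalizedModule.mkLinearMap p.primeCompl M')
      (Localization.AtPrime p) e.toLinearMap)
    ⟨IsLocalizedModule.map_injective p.primeCompl _ _ _ e.injective,
      IsLocalizedModule.map_surjective p.primeCompl _ _ _ e.surjective⟩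

theorem hasSk_of_equiv (k : ℕ) (e : M ≃ₗ[A] M') (h : HasSk k A M) : HasSk k A M' := by
  intro p _
  have hp := h p
  have e' := locEquiv p e
  rw [← Module.supportDim_eq_of_equiv e']
  unfold LocCoh.depth at hp ⊢
  rw [← Groth.Agent.Helper9.ReflKer.idealDepth_congr _ e']
  exact hp

end Equiv

section LocQuot

variable (M : Type u) [AddCommGroup M] [Module A M]

/-- localization commutes with `M / xM` -/
theorem nonempty_locQuotEquiv (p : Ideal A) [p.IsPrime] (x : A) :
    Nonempty (LocalizedModule p.primeCompl (QuotSMulTop x M) ≃ₗ[Localization.AtPrime p]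
      QuotSMulTop (algebraMap A (Localization.AtPrime p) x) (LocalizedModule p.primeCompl M)) := by
  set S := p.primeCompl with hS
  set f₁ := LocalizedModule.mkLinearMap S M with hf₁
  set f₂ := LocalizedModule.mkLinearMap S (QuotSMulTop x M) with hf₂
  let π : M →ₗ[A] QuotSMulTop x M := Submodule.mkQ _
  have hπ : Function.Surjective π := Submodule.mkQ_surjective _
  let μ : M →ₗ[A] M := LinearMap.lsmul A M x
  have hex : Function.Exact μ π := by
    intro y
    rw [Submodule.mkQ_apply, Submodule.Quotient.mk_eq_zero,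
      Submodule.mem_smul_pointwise_iff_exists]
    constructor
    · rintro ⟨z, -, rfl⟩; exact ⟨z, rfl⟩
    · rintro ⟨z, rfl⟩; exact ⟨z, trivial, rfl⟩
  let π' : LocalizedModule S M →ₗ[Localization.AtPrime p] LocalizedModule S (QuotSMulTop x M) :=
    IsLocalizedModule.mapExtendScalars S f₁ f₂ (Localization.AtPrime p) π
  have hπ' : Function.Surjective π' := IsLocalizedModule.map_surjective S f₁ f₂ π hπ
  have hex' := IsLocalizedModule.map_exact S f₁ f₁ f₂ μ π hex
  have hμ' : IsLocalizedModule.map S f₁ f₁ μ = LinearMap.lsmul A (LocalizedModule S M) x := by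
    apply IsLocalizedModule.linearMap_ext S f₁ f₁
    ext m
    simp only [LinearMap.coe_comp, Function.comp_apply, IsLocalizedModule.map_apply]
    rw [LinearMap.lsmul_apply, LinearMap.lsmul_apply, map_smul]
  have hker : LinearMap.ker π' = (algebraMap A (Localization.AtPrime p) x) •
      (⊤ : Submodule (Localization.AtPrime p) (LocalizedModule S M)) := by
    ext y
    rw [LinearMap.mem_ker, Submodule.mem_smul_pointwise_iff_exists]
    have h1 : π' y = 0 ↔ ∃ z, IsLocalizedModule.map S f₁ f₁ μ z = y := hex' y
    rw [h1, hμ']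
    constructor
    · rintro ⟨z, rfl⟩
      exact ⟨z, trivial, by rw [LinearMap.lsmul_apply, algebraMap_smul]⟩
    · rintro ⟨z, -, rfl⟩
      exact ⟨z, by rw [LinearMap.lsmul_apply, algebraMap_smul]⟩
  exact ⟨(LinearMap.quotKerEquivOfSurjective π' hπ').symm ≪≫ₗ
    Submodule.quotEquivOfEq _ _ hker⟩

end LocQuot

section Step

lemma num (k : ℕ) (hk : 1 ≤ k) (d D : WithBot ℕ∞) (γ δ : ℕ∞) (hd : d + 1 = D)
    (hγ : γ + 1 = δ) (h : min (k : WithBot ℕ∞) D ≤ (δ : WithBot ℕ∞)) :
    min ((k - 1 : ℕ) : WithBot ℕ∞) d ≤ (γ : WithBot ℕ∞) := by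
  induction d using WithBot.recBotCoe with
  | bot => simp
  | coe e =>
    obtain ⟨j, rfl⟩ : ∃ j, k = j + 1 := ⟨k - 1, by omega⟩
    subst hd hγ
    have h1 : min (((j + 1 : ℕ) : ℕ∞)) (e + 1) ≤ γ + 1 := by
      have : (min ((j + 1 : ℕ) : WithBot ℕ∞) (((e : ℕ∞) : WithBot ℕ∞) + 1)) =
          ((min (((j + 1 : ℕ) : ℕ∞)) (e + 1) : ℕ∞) : WithBot ℕ∞) := by
        rw [WithBot.coe_min]; rfl
      rw [this] at h
      exact WithBot.coe_le_coe.mp h
    have h2 : min (((j + 1 : ℕ) : ℕ∞)) (e + 1) = min (j : ℕ∞) e + 1 := by
      rw [Nat.cast_add, Nat.cast_one, min_add_add_right]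
    rw [h2] at h1
    have h3 : min (j : ℕ∞) e ≤ γ := (ENat.add_le_add_iff_right ENat.one_ne_top).mp h1
    have : (min ((j + 1 - 1 : ℕ) : WithBot ℕ∞) ((e : ℕ∞) : WithBot ℕ∞)) =
        ((min (j : ℕ∞) e : ℕ∞) : WithBot ℕ∞) := by
      rw [WithBot.coe_min, Nat.add_sub_cancel]; rfl
    rw [this]
    exact WithBot.coe_le_coe.mpr h3

variable [IsNoetherianRing A] (M : Type u) [AddCommGroup M] [Module A M] [Module.Finite A M]

theorem hasSk_quotSMulTop (k : ℕ) (hk : 1 ≤ k) (x : A) (hx : IsSMulRegular M x)
    (h : HasSk k A M) : HasSk (k - 1) A (QuotSMulTop x M) := by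
  intro p _
  obtain ⟨e⟩ := nonempty_locQuotEquiv M p x
  rw [Module.supportDim_eq_of_equiv e]
  unfold LocCoh.depth
  rw [Groth.Agent.Helper9.ReflKer.idealDepth_congr _ e]
  by_cases hnt : Nontrivial (QuotSMulTop (algebraMap A (Localization.AtPrime p) x)
      (LocalizedModule p.primeCompl M))
  swap
  · rw [not_nontrivial_iff_subsingleton] at hnt
    have htop : maximalIdeal (Localization.AtPrime p) •
        (⊤ : Submodule (Localization.AtPrime p)
          (QuotSMulTop (algebraMap A (Localization.AtPrime p) x)
            (LocalizedModule p.primeCompl M))) = ⊤ := Subsingleton.elim _ _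
    rw [Groth.Agent.Helper9.DepthKer.idealDepth_eq_top _ _ htop]
    exact le_top
  · have hMp : Nontrivial (LocalizedModule p.primeCompl M) :=
      Function.Surjective.nontrivial (Submodule.mkQ_surjective
        ((algebraMap A (Localization.AtPrime p) x) •
          (⊤ : Submodule (Localization.AtPrime p) (LocalizedModule p.primeCompl M))))
    have hx'm : algebraMap A (Localization.AtPrime p) x ∈
        maximalIdeal (Localization.AtPrime p) := by
      by_contra hu
      rw [mem_maximalIdeal, mem_nonunits_iff, not_not] at hu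
      have : (algebraMap A (Localization.AtPrime p) x) •
          (⊤ : Submodule (Localization.AtPrime p) (LocalizedModule p.primeCompl M)) = ⊤ := by
        rw [eq_top_iff]
        intro y _
        rw [Submodule.mem_smul_pointwise_iff_exists]
        exact ⟨(↑hu.unit⁻¹ : Localization.AtPrime p) • y, trivial, by
          rw [smul_smul, IsUnit.mul_val_inv, one_smul]⟩
      have hsub : Subsingleton (QuotSMulTop (algebraMap A (Localization.AtPrime p) x)
          (LocalizedModule p.primeCompl M)) :=
        Submodule.Quotient.subsingleton_iff.mpr this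
      exact not_subsingleton _ hsub
    have hreg' : IsSMulRegular (LocalizedModule p.primeCompl M)
        (algebraMap A (Localization.AtPrime p) x) := by
      have h1 : RingTheory.Sequence.IsWeaklyRegular M [x] :=
        (RingTheory.Sequence.isWeaklyRegular_singleton_iff M x).mpr hx
      have h2 := RingTheory.Sequence.IsWeaklyRegular.of_isLocalizedModule
        (Localization.AtPrime p) p.primeCompl (LocalizedModule.mkLinearMap p.primeCompl M) h1
      exact (RingTheory.Sequence.isWeaklyRegular_singleton_iff _ _).mp h2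
    have hdim := Module.supportDim_quotSMulTop_succ_eq_supportDim hreg' hx'm
    have hdepth := Groth.Agent.Helper2.DepthCM.idealDepth_quotSMulTop
      (maximalIdeal (Localization.AtPrime p)) (LocalizedModule p.primeCompl M)
      (Groth.Agent.Helper2.Depth.smul_top_ne_top _ _) _ hx'm hreg'
    exact num k hk _ _ _ _ hdim hdepth (h p)

end Step

section Main

variable [IsNoetherianRing A]

theorem hasSk_quot_ofList : ∀ (rs : List A) (k : ℕ) (M : Type u) [AddCommGroup M] [Module A M]
    [Module.Finite A M], HasSk k A M → RingTheory.Sequence.IsWeaklyRegular M rs → rs.length ≤ k →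
    HasSk (k - rs.length) A (M ⧸ (Ideal.ofList rs • (⊤ : Submodule A M))) := by
  intro rs
  induction rs with
  | nil =>
    intro k M _ _ _ hM _ _
    have h0 : (Ideal.ofList ([] : List A) • (⊤ : Submodule A M)) = ⊥ := by
      rw [Ideal.ofList_nil, Submodule.bot_smul]
    rw [List.length_nil, Nat.sub_zero]
    exact hasSk_of_equiv k (Submodule.quotEquivOfEqBot _ h0).symm hM
  | cons x rs ih =>
    intro k M _ _ _ hM hreg hlen
    rw [RingTheory.Sequence.isWeaklyRegular_cons_iff] at hreg
    rw [List.length_cons] at hlen ⊢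
    have h1 := hasSk_quotSMulTop M k (by omega) x hreg.1 hM
    have h2 := ih (k - 1) (QuotSMulTop x M) h1 hreg.2 (by omega)
    have h3 : k - 1 - rs.length = k - (rs.length + 1) := by omega
    rw [h3] at h2
    exact hasSk_of_equiv _ (Submodule.quotOfListConsSMulTopEquivQuotSMulTopInner M x rs).symm h2

end Main

end Groth.Agent.Helper6.SkQuot
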