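import Mathlib
import Groth.Prelude.Def_CAlg
import Groth.Agent.Helper2.DepthRees
open RingTheory.Sequence
universe u

namespace Groth.Agent.Helper6.RegPrefix

/-- Coset prime avoidance. -/
lemma coset_avoid {R : Type*} [CommRing R] (u : R) (I' : Ideal R) :
    ∀ (S : Finset (Ideal R)), (∀ p ∈ S, p.IsPrime) →
      (∀ p ∈ S, ¬ (Ideal.span {u} ⊔ I' ≤ p)) →
      ∃ a ∈ I', ∀ p ∈ S, u + a ∉ p := by
  intro S
  induction S using Finset.strongInduction with
  | H S ih =>
    intro hP hS
    rcases S.eq_empty_or_nonempty with rfl | hne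
    · exact ⟨0, I'.zero_mem, by simp⟩
    obtain ⟨p, hpmin⟩ := S.exists_minimal hne
    have hpS : p ∈ S := hpmin.prop
    obtain ⟨a, haI, ha⟩ := ih (S.erase p) (Finset.erase_ssubset hpS)
      (fun q hq => hP q (Finset.mem_of_mem_erase hq))
      (fun q hq => hS q (Finset.mem_of_mem_erase hq))
    by_cases hap : u + a ∈ p
    · have hI'p : ¬ I' ≤ p := by
        intro hle
        apply hS p hpS
        rw [sup_le_iff, Ideal.span_singleton_le_iff_mem]
        refine ⟨?_, hle⟩
        have := p.sub_mem hap (hle haI)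
        simpa using this
      have hprod : ¬ (I' * ∏ q ∈ S.erase p, q) ≤ p := by
        rw [Ideal.IsPrime.mul_le (hP p hpS)]
        rintro (h | h)
        · exact hI'p h
        · rw [Ideal.IsPrime.prod_le (hP p hpS)] at h
          obtain ⟨q, hq, hqp⟩ := h
          have hqS : q ∈ S := Finset.mem_of_mem_erase hq
          have hpq : p ≤ q := hpmin.le_of_le hqS hqp
          exact (Finset.ne_of_mem_erase hq) (le_antisymm hqp hpq)
      obtain ⟨b, hb, hbp⟩ := SetLike.not_le_iff_exists.1 hprod
      have hle1 : (I' * ∏ q ∈ S.erase p, q) ≤ I' := Ideal.mul_le_left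
      have hle2 : (I' * ∏ q ∈ S.erase p, q) ≤ ∏ q ∈ S.erase p, q := Ideal.mul_le_right
      have hbI : b ∈ I' := hle1 hb
      have hbq : ∀ q ∈ S.erase p, b ∈ q := by
        intro q hq
        have h1 : b ∈ ∏ q ∈ S.erase p, q := hle2 hb
        have h2 : b ∈ (S.erase p).inf (fun q => q) := Ideal.prod_le_inf h1
        have h3 : (S.erase p).inf (fun q : Ideal R => q) ≤ q := Finset.inf_le hq
        exact h3 h2
      refine ⟨a + b, I'.add_mem haI hbI, ?_⟩
      intro q hqS hmem
      by_cases hqp : q = p
      · subst hqp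
        apply hbp
        have := q.sub_mem hmem hap
        have e : u + (a + b) - (u + a) = b := by ring
        rwa [e] at this
      · have hq : q ∈ S.erase p := Finset.mem_erase.2 ⟨hqp, hqS⟩
        apply ha q hq
        have := q.sub_mem hmem (hbq q hq)
        have e : u + (a + b) - b = u + a := by ring
        rwa [e] at this
    · refine ⟨a, haI, ?_⟩
      intro q hqS
      by_cases hqp : q = p
      · subst hqp; exact hap
      · exact ha q (Finset.mem_erase.2 ⟨hqp, hqS⟩)

section
variable {T : Type u} [CommRing T] [IsNoetherianRing T] (J : Ideal T)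

lemma ofList_le_ann (ts : List T) :
    Ideal.ofList ts ≤ Module.annihilator T (T ⧸ (Ideal.ofList ts • ⊤ : Submodule T T)) := by
  intro x hx
  rw [Module.mem_annihilator]
  intro m
  obtain ⟨t, rfl⟩ := Submodule.Quotient.mk_surjective _ m
  rw [← Submodule.Quotient.mk_smul, Submodule.Quotient.mk_eq_zero]
  exact Submodule.smul_mem_smul hx Submodule.mem_top

lemma span_add_sup {u a : T} {I' : Ideal T} (ha : a ∈ I') :
    Ideal.span {u + a} ⊔ I' = Ideal.span {u} ⊔ I' := by
  apply le_antisymm
  · rw [sup_le_iff, Ideal.span_singleton_le_iff_mem]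
    exact ⟨Ideal.add_mem _ (Ideal.mem_sup_left (Ideal.mem_span_singleton_self u))
      (Ideal.mem_sup_right ha), le_sup_right⟩
  · rw [sup_le_iff, Ideal.span_singleton_le_iff_mem]
    refine ⟨?_, le_sup_right⟩
    have h := Ideal.sub_mem _ (Ideal.mem_sup_left (Ideal.mem_span_singleton_self (u + a)))
      (Ideal.mem_sup_right ha : a ∈ Ideal.span {u + a} ⊔ I')
    simpa using h

lemma step (hJ : J ≠ ⊤) (j : ℕ) (hj : LocCoh.idealDepth J T = j) (μ : ℕ)
    (h0 : ∃ us0 : List T, us0.length = μ ∧ Ideal.ofList us0 = J) :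
    ∀ i ≤ j, ∃ ts us : List T, ts.length = i ∧ ts.length + us.length = μ ∧
      Ideal.ofList (ts ++ us) = J ∧ IsWeaklyRegular T ts := by
  have hJT : J • (⊤ : Submodule T T) ≠ ⊤ := by simpa using hJ
  intro i
  induction i with
  | zero =>
    intro _
    obtain ⟨us0, h1, h2⟩ := h0
    exact ⟨[], us0, rfl, by simpa using h1, by simpa using h2, IsWeaklyRegular.nil T T⟩
  | succ i ih =>
    intro hi
    obtain ⟨ts, us, h1, h2, h3, hreg⟩ := ih (by omega)
    have htsJ : Ideal.ofList ts ≤ J := by
      rw [← h3, Ideal.ofList_append]; exact le_sup_left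
    have mem : ∀ r ∈ ts, r ∈ J := fun r hr => htsJ (Ideal.subset_span hr)
    have hnm : ¬ ∀ r ∈ J, ¬ IsWeaklyRegular T (ts ++ [r]) := by
      intro hmax
      have := Groth.Agent.Helper2.DepthRees.length_eq_idealDepth_of_maximal J T hJT ts hreg mem hmax
      rw [hj] at this
      have : ts.length = j := by exact_mod_cast this
      omega
    push Not at hnm
    obtain ⟨r, hrJ, hreg'⟩ := hnm
    have hr1 : IsSMulRegular (T ⧸ (Ideal.ofList ts • ⊤ : Submodule T T)) r :=
      (isWeaklyRegular_singleton_iff _ r).1 ((isWeaklyRegular_append_iff T ts [r]).1 hreg').2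
    set M' := T ⧸ (Ideal.ofList ts • ⊤ : Submodule T T) with hM'
    have hfin := associatedPrimes.finite T M'
    have hU := biUnion_associatedPrimes_eq_compl_regular T M'
    have hP : ∀ p ∈ hfin.toFinset, p.IsPrime := fun p hp =>
      IsAssociatedPrime.isPrime ((Set.Finite.mem_toFinset hfin).1 hp)
    have hS : ∀ p ∈ hfin.toFinset, ¬ J ≤ p := by
      intro p hp hle
      have hp' : p ∈ associatedPrimes T M' := (Set.Finite.mem_toFinset hfin).1 hp
      have : r ∈ ⋃ p ∈ associatedPrimes T M', (p : Set T) :=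
        Set.mem_biUnion hp' (hle hrJ)
      rw [hU] at this
      exact this hr1
    have htsp : ∀ p ∈ hfin.toFinset, Ideal.ofList ts ≤ p := by
      intro p hp
      have hp' : IsAssociatedPrime p M' := (Set.Finite.mem_toFinset hfin).1 hp
      have h := hp'.annihilator_le
      rw [Submodule.annihilator_top] at h
      exact (ofList_le_ann ts).trans h
    have hnt : Nontrivial M' := by
      rw [Submodule.Quotient.nontrivial_iff]
      exact Groth.Agent.Helper2.DepthRees.ofList_smul_top_ne_top hJT ts mem
    match us, h2, h3 with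
    | [], h2, h3 =>
      exfalso
      obtain ⟨p, hp⟩ := associatedPrimes.nonempty T M'
      have hp' : p ∈ hfin.toFinset := (Set.Finite.mem_toFinset hfin).2 hp
      apply hS p hp'
      rw [← h3, List.append_nil]
      exact htsp p hp'
    | u :: us', h2, h3 =>
      have hJeq : Ideal.span {u} ⊔ (Ideal.ofList ts ⊔ Ideal.ofList us') = J := by
        rw [← h3, Ideal.ofList_append, Ideal.ofList_cons]
        ac_rfl
      obtain ⟨a, haI, ha⟩ := coset_avoid u (Ideal.ofList ts ⊔ Ideal.ofList us') hfin.toFinset hP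
        (by rw [hJeq]; exact hS)
      have ht' : IsSMulRegular M' (u + a) := by
        by_contra hnr
        have : (u + a) ∈ ({ r : T | IsSMulRegular M' r }ᶜ : Set T) := hnr
        rw [← hU] at this
        obtain ⟨p, hp, hmem⟩ := Set.mem_iUnion₂.1 this
        exact ha p ((Set.Finite.mem_toFinset hfin).2 hp) hmem
      refine ⟨ts ++ [u + a], us', by simp [h1], ?_, ?_, ?_⟩
      · simp only [List.length_append, List.length_cons, List.length_nil] at h2 ⊢
        omega
      · rw [Ideal.ofList_append, Ideal.ofList_append, Ideal.ofList_singleton, ← hJeq,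
          ← span_add_sup haI]
        ac_rfl
      · exact (isWeaklyRegular_append_iff T ts [u + a]).2
          ⟨hreg, (isWeaklyRegular_singleton_iff _ (u + a)).2 ht'⟩

end

theorem main {T : Type u} [CommRing T] [LocCoh.IsCohenMacaulayLocalRing T]
    (J : Ideal T) (hJ : J ≠ ⊤) (j : ℕ) (hj : LocCoh.idealDepth J T = j) :
    j ≤ Submodule.spanFinrank J ∧
      ∃ ts : List T, ts.length = Submodule.spanFinrank J ∧ Ideal.ofList ts = J ∧
        RingTheory.Sequence.IsRegular T (ts.take j) := by
  have hJT : J • (⊤ : Submodule T T) ≠ ⊤ := by simpa using hJ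
  obtain ⟨s, hs1, hs2⟩ :=
    Submodule.FG.exists_span_finset_card_eq_spanFinrank (IsNoetherian.noetherian J)
  have h0 : ∃ us0 : List T, us0.length = Submodule.spanFinrank J ∧ Ideal.ofList us0 = J := by
    refine ⟨s.toList, by simpa using hs1, ?_⟩
    rw [← hs2]
    simp [Ideal.ofList, Ideal.span]
  obtain ⟨ts, us, h1, h2, h3, h4⟩ := step J hJ j hj (Submodule.spanFinrank J) h0 j le_rfl
  have htsJ : Ideal.ofList ts ≤ J := by
    rw [← h3, Ideal.ofList_append]; exact le_sup_left
  have mem : ∀ r ∈ ts, r ∈ J := fun r hr => htsJ (Ideal.subset_span hr)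
  refine ⟨by omega, ts ++ us, by simpa using h2, h3, ?_⟩
  rw [← h1, List.take_left']
  · exact Groth.Agent.Helper2.DepthRees.isRegular_of_isWeaklyRegular hJT mem h4
  · rfl

end Groth.Agent.Helper6.RegPrefix
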