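import Mathlib
universe u
open AlgebraicGeometry CategoryTheory TopologicalSpace

namespace Groth.Agent.Helper6.GenPts

/-- points with no proper generization -/
def Gen (α : Type*) [TopologicalSpace α] : Set α := {x | ∀ x', x' ⤳ x → x' = x}

theorem mem_genericPoints_iff {α : Type*} [TopologicalSpace α] [T0Space α] [QuasiSober α] (x : α) :
    x ∈ genericPoints α ↔ x ∈ Gen α := by
  constructor
  · intro hx x' hx'
    have hx2 : closure {x} ∈ irreducibleComponents α := hx
    have h1 : closure {x} ⊆ closure {x'} := by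
      rw [← specializes_iff_closure_subset]; exact hx'
    have h2 : closure {x'} ⊆ closure {x} := hx2.2 isIrreducible_singleton.closure h1
    have h3 : x ⤳ x' := by
      rw [specializes_iff_closure_subset]; exact h2
    exact (hx'.antisymm h3).eq
  · intro hx
    show closure {x} ∈ irreducibleComponents α
    refine ⟨isIrreducible_singleton.closure, ?_⟩
    intro t ht hxt
    have htc : IsIrreducible (closure t) := ht.closure
    have hg := htc.isGenericPoint_genericPoint isClosed_closure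
    have hxmem : x ∈ closure t := subset_closure (hxt (subset_closure rfl))
    have hsp : htc.genericPoint ⤳ x := hg.specializes hxmem
    have heq := hx _ hsp
    rw [heq] at hg
    intro y hy
    show y ∈ closure {x}
    rw [hg.def]
    exact subset_closure hy

theorem finite_irreducibleComponents_iff {α : Type*} [TopologicalSpace α] [T0Space α]
    [QuasiSober α] : (irreducibleComponents α).Finite ↔ (Gen α).Finite := by
  have h : Gen α = genericPoints α := by
    ext x; exact (mem_genericPoints_iff x).symm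
  rw [h]
  exact ⟨fun hf => genericPoints.finite hf,
    fun hf => @Finite.of_equiv _ _ hf (genericPoints.equiv (α := α))⟩

theorem gen_subtype_iff {α : Type*} [TopologicalSpace α] (U : Opens α) (z : U) :
    z ∈ Gen U ↔ z.1 ∈ Gen α := by
  constructor
  · intro hz y hy
    have hyU : y ∈ U := hy.mem_open U.isOpen z.2
    have := hz ⟨y, hyU⟩ ((subtype_specializes_iff (⟨y, hyU⟩ : U) z).mpr hy)
    exact congrArg Subtype.val this
  · intro hz z' hz'
    exact Subtype.ext (hz z'.1 ((subtype_specializes_iff z' z).mp hz'))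

theorem gen_opens_finite_iff {α : Type*} [TopologicalSpace α] (U : Opens α) :
    (Gen U).Finite ↔ ((U : Set α) ∩ Gen α).Finite := by
  have h : (U : Set α) ∩ Gen α = Subtype.val '' (Gen U) := by
    ext y
    constructor
    · rintro ⟨hyU, hy⟩
      exact ⟨⟨y, hyU⟩, (gen_subtype_iff U ⟨y, hyU⟩).mpr hy, rfl⟩
    · rintro ⟨z, hz, rfl⟩
      exact ⟨z.2, (gen_subtype_iff U z).mp hz⟩
  rw [h]
  exact (Set.finite_image_iff Subtype.val_injective.injOn).symm

theorem finite_irreducibleComponents_opens_iff {X : Scheme.{u}} (U : X.Opens) :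
    (irreducibleComponents (U : Type u)).Finite ↔ ((U : Set X) ∩ Gen X).Finite := by
  haveI : QuasiSober (U : Type u) := inferInstanceAs (QuasiSober (U : Scheme.{u}))
  haveI : T0Space (U : Type u) := inferInstanceAs (T0Space (U : Scheme.{u}))
  rw [finite_irreducibleComponents_iff]
  exact gen_opens_finite_iff U


open PrimeSpectrum in
theorem ring_lemma (A B : Type u) [CommRing A] [CommRing B] [Algebra A B] [Algebra.FiniteType A B]
    (p : PrimeSpectrum A) :
    {q : PrimeSpectrum B | q ∈ Gen (PrimeSpectrum B) ∧ comap (algebraMap A B) q = p}.Finite := by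
  haveI : Algebra.FiniteType p.asIdeal.ResidueField (p.asIdeal.Fiber B) :=
    inferInstanceAs (Algebra.FiniteType p.asIdeal.ResidueField (TensorProduct A p.asIdeal.ResidueField B))
  haveI : IsNoetherianRing (p.asIdeal.Fiber B) :=
    Algebra.FiniteType.isNoetherianRing p.asIdeal.ResidueField _
  have hfin : (Gen (PrimeSpectrum (p.asIdeal.Fiber B))).Finite :=
    finite_irreducibleComponents_iff.mp NoetherianSpace.finite_irreducibleComponents
  let e := PrimeSpectrum.preimageOrderIsoFiber A B p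
  have hS' : {z : ↥(comap (algebraMap A B) ⁻¹' {p}) | z.1 ∈ Gen (PrimeSpectrum B)}.Finite := by
    refine Set.Finite.subset (hfin.preimage (f := e) e.injective.injOn) ?_
    intro z hz
    show e z ∈ Gen _
    intro Q' hQ'
    have h1 : Q' ≤ e z := (PrimeSpectrum.le_iff_specializes _ _).mpr hQ'
    have h2 : e.symm Q' ≤ z := by
      rw [← e.symm_apply_apply z]
      exact e.symm.monotone h1
    have h3 : (e.symm Q').1 ⤳ z.1 := (PrimeSpectrum.le_iff_specializes _ _).mp h2
    have h4 : (e.symm Q').1 = z.1 := hz _ h3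
    have h5 : e.symm Q' = z := Subtype.ext h4
    rw [← h5, e.apply_symm_apply]
  refine Set.Finite.subset (hS'.image Subtype.val) ?_
  rintro q ⟨hq, hqp⟩
  exact ⟨⟨q, hqp⟩, hq, rfl⟩


theorem gen_map_of_flat {Y X : Scheme.{u}} (f : Y ⟶ X) [Flat f] {y : Y} (hy : y ∈ Gen Y) :
    f y ∈ Gen X := by
  intro x' hx'
  obtain ⟨y', hy', rfl⟩ := Flat.generalizingMap f hx'
  rw [hy y' hy']

set_option backward.isDefEq.respectTransparency.types false in
/-- affine pair -/
theorem finite_gen_affine {Y X : Scheme.{u}} (f : Y ⟶ X) [Flat f] [LocallyOfFiniteType f]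
    (V' : Y.Opens) (hV' : IsAffineOpen V') (U' : X.Opens) (hU' : IsAffineOpen U')
    (hle : V' ≤ f ⁻¹ᵁ U') (hfin : ((U' : Set X) ∩ Gen X).Finite) :
    ((V' : Set Y) ∩ Gen Y).Finite := by
  have hsub : (V' : Set Y) ∩ Gen Y ⊆
      ⋃ ξ ∈ (U' : Set X) ∩ Gen X, {y | y ∈ (V' : Set Y) ∩ Gen Y ∧ f y = ξ} := by
    rintro y ⟨hyV, hy⟩
    simp only [Set.mem_iUnion]
    exact ⟨f y, ⟨hle hyV, gen_map_of_flat f hy⟩, ⟨hyV, hy⟩, rfl⟩
  refine Set.Finite.subset (hfin.biUnion ?_) hsub
  rintro ξ ⟨hξU, -⟩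
  letI alg : Algebra Γ(X, U') Γ(Y, V') := (f.appLE U' V' hle).hom.toAlgebra
  haveI : Algebra.FiniteType Γ(X, U') Γ(Y, V') :=
    HasRingHomProperty.appLE (P := @LocallyOfFiniteType) f inferInstance ⟨U', hU'⟩ ⟨V', hV'⟩ hle
  have hring := ring_lemma Γ(X, U') Γ(Y, V') (hU'.primeIdealOf ⟨ξ, hξU⟩)
  have hinj : Function.Injective (hV'.primeIdealOf) := by
    intro z z' hzz
    apply Subtype.ext
    rw [← hV'.fromSpec_primeIdealOf z, ← hV'.fromSpec_primeIdealOf z', hzz]
  have hS' : {z : ↥V' | z.1 ∈ Gen Y ∧ f z.1 = ξ}.Finite := by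
    refine Set.Finite.subset (hring.preimage (f := hV'.primeIdealOf) hinj.injOn) ?_
    rintro z ⟨hz, hzξ⟩
    refine ⟨?_, ?_⟩
    · intro q' hq'
      have h1 : hV'.fromSpec q' ⤳ hV'.fromSpec (hV'.primeIdealOf z) :=
        hq'.map hV'.fromSpec.continuous
      rw [hV'.fromSpec_primeIdealOf z] at h1
      have h2 := hz _ h1
      have h3 : hV'.fromSpec q' = hV'.fromSpec (hV'.primeIdealOf z) := by
        rw [hV'.fromSpec_primeIdealOf z]; exact h2
      exact hV'.fromSpec.isOpenEmbedding.injective h3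
    · have := IsAffineOpen.comap_primeIdealOf_appLE (f := f) U' hU' V' hV' hle z.2
      subst hzξ
      exact this
  refine Set.Finite.subset (hS'.image Subtype.val) ?_
  rintro y ⟨⟨hyV, hy⟩, hyξ⟩
  exact ⟨⟨y, hyV⟩, ⟨hy, hyξ⟩, rfl⟩

/-- main: flat + locally of finite type preserves "locally finitely many irreducible components" -/
theorem finite_gen_of_flat {Y X : Scheme.{u}} (f : Y ⟶ X) [Flat f] [LocallyOfFiniteType f]
    (hX : ∀ U : X.Opens, IsCompact (U : Set X) → ((U : Set X) ∩ Gen X).Finite)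
    (V : Y.Opens) (hV : IsCompact (V : Set Y)) : ((V : Set Y) ∩ Gen Y).Finite := by
  have key : ∀ y : Y, ∃ V' : Y.Opens, y ∈ V' ∧ ((V' : Set Y) ∩ Gen Y).Finite := by
    intro y
    obtain ⟨U', hU', hyU', -⟩ := (TopologicalSpace.Opens.isBasis_iff_nbhd.1 X.isBasis_affineOpens)
      (show f y ∈ (⊤ : X.Opens) from trivial)
    obtain ⟨V', hV', hyV', hle⟩ := (TopologicalSpace.Opens.isBasis_iff_nbhd.1 Y.isBasis_affineOpens)
      (show y ∈ f ⁻¹ᵁ U' from hyU')
    exact ⟨V', hyV', finite_gen_affine f V' hV' U' hU' hle (hX U' hU'.isCompact)⟩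
  choose W hyW hW using key
  obtain ⟨t, ht⟩ := hV.elim_finite_subcover (fun y : Y => (W y : Set Y)) (fun y => (W y).isOpen)
    (fun y _ => Set.mem_iUnion.mpr ⟨y, hyW y⟩)
  refine Set.Finite.subset (t.finite_toSet.biUnion (fun y _ => hW y)) ?_
  rintro y ⟨hyV, hy⟩
  obtain ⟨y₀, hy₀⟩ := Set.mem_iUnion.mp (ht hyV)
  obtain ⟨hy₀t, hyW₀⟩ := Set.mem_iUnion.mp hy₀
  simp only [Set.mem_iUnion]
  exact ⟨y₀, hy₀t, hyW₀, hy⟩

end Groth.Agent.Helper6.GenPts
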