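import Mathlib
import Groth.Prelude.Def_ZClos
import Groth.Agent.Helper6.ZCl2

/-!
# Z-closure: vanishing, idempotence
-/

set_option autoImplicit false

namespace Groth.Agent.Helper6.ZCl3

open CategoryTheory Limits AlgebraicGeometry TopologicalSpace Opposite ZClos
open Groth.Agent.Helper6.ZCl1 Groth.Agent.Helper6.ZCl2

universe u

variable {X : Scheme.{u}}

/-- Killing a section of `F` over `W` whose germs vanish off `Z` by removing a closed subset inside `Z`. -/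
theorem exists_closed_kill [IsLocallyNoetherian X] {Z : Set X} (hZ : StableUnderSpecialization Z)
    (F : X.Modules) (W : X.Opens) (t : Γ(F, W))
    (h : ∀ y (hy : y ∈ W), y ∉ Z → F.presheaf.germ W y hy t = 0) :
    ∃ (T' : Cl Z) (O : X.Opens) (hOW : O ≤ W), res F hOW t = 0 ∧
      ∀ y, y ∈ W → y ∉ (T'.1 : Set X) → y ∈ O := by
  let 𝒪 : Set X.Opens := {W' | ∃ h : W' ≤ W, res F h t = 0}
  let O : X.Opens := sSup 𝒪
  have hOW : O ≤ W := sSup_le fun W' hW' => hW'.1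
  have hO : res F hOW t = 0 := by
    refine Groth.Agent.Helper1.ColimSec.eq_zero_of_cover ((toAb X).obj F)
      (fun W' : 𝒪 => W'.1) O (fun W' => le_sSup W'.2) ?_ _ (fun W' => ?_)
    · exact le_of_eq (sSup_eq_iSup' 𝒪)
    · obtain ⟨hle, h0⟩ := W'.2
      exact (res_res F hOW (le_sSup W'.2) t).trans h0
  have hZ' : ((O : Set X)ᶜ ∩ (W : Set X)) ⊆ Z := by
    rintro y ⟨hyO, hyW⟩
    by_contra hyZ
    have hg : F.presheaf.germ W y hyW t = F.presheaf.germ W y hyW 0 := by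
      rw [h y hyW hyZ, map_zero]
    obtain ⟨W', hyW', i1, i2, heq⟩ := F.presheaf.germ_eq y hyW hyW t 0 hg
    apply hyO
    have hmem : W' ∈ 𝒪 := ⟨i1.le, by
      have e : res F i1.le t = F.presheaf.map i2.op 0 := heq
      rw [e, map_zero]⟩
    exact (le_sSup hmem : W' ≤ O) hyW'
  have hcl := closure_inter_subset hZ (C := (O : Set X)ᶜ) (V := (W : Set X))
    O.isOpen.isClosed_compl W.isOpen hZ'
  refine ⟨⟨⟨closure ((O : Set X)ᶜ ∩ (W : Set X)), isClosed_closure⟩, hcl⟩, O, hOW, hO, ?_⟩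
  intro y hyW hyT
  by_contra hyO
  exact hyT (subset_closure ⟨hyO, hyW⟩)

lemma ιH_app_zero_of (Z : Set X) (F : X.Modules) (T : Cl Z) (V : X.Opens)
    (t : Γ(F, T.U.ι ''ᵁ T.U.ι ⁻¹ᵁ V)) (h : t = 0) : (ιH Z F T).app V t = 0 := by
  subst h
  exact map_zero _

/-- `ι_T(t) = 0` as soon as the germs of `t` vanish off `Z`. -/
theorem ι_eq_zero_of_germs [IsLocallyNoetherian X] {Z : Set X} (hZ : StableUnderSpecialization Z)
    (F : X.Modules) (T : Cl Z) (V : X.Opens) (t : Γ(F, T.U.ι ''ᵁ T.U.ι ⁻¹ᵁ V))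
    (h : ∀ y (hy : y ∈ T.U.ι ''ᵁ T.U.ι ⁻¹ᵁ V), y ∉ Z →
      F.presheaf.germ (T.U.ι ''ᵁ T.U.ι ⁻¹ᵁ V) y hy t = 0) :
    (ιH Z F T).app V t = 0 := by
  obtain ⟨T', O, hOW, hO, hmem⟩ := exists_closed_kill hZ F _ t h
  have hle : T ≤ T ⊔ T' := le_sup_left
  have hsub : (T ⊔ T').U.ι ''ᵁ (T ⊔ T').U.ι ⁻¹ᵁ V ≤ O := by
    intro y hy
    obtain ⟨hyU, hyV⟩ := mem_Uv.1 hy
    have hyT : y ∉ (T.1 : Set X) := fun hh => (mem_ClU.1 hyU) (mem_sup.2 (Or.inl hh))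
    have hyT' : y ∉ (T'.1 : Set X) := fun hh => (mem_ClU.1 hyU) (mem_sup.2 (Or.inr hh))
    exact hmem y (mem_Uv.2 ⟨mem_ClU.2 hyT, hyV⟩) hyT'
  rw [← ι_trans Z F hle V t]
  have e0 : res F (resPush_le (Cl.U_anti hle) V) t = 0 := by
    have e := res_res F hOW hsub t
    rw [hO, map_zero] at e
    exact e.symm
  exact ιH_app_zero_of Z F _ V _ e0

theorem sections_eq_zero_of_compact [IsLocallyNoetherian X] {Z : Set X}
    (hZ : StableUnderSpecialization Z) (F : X.Modules)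
    (h : ∀ x : X, x ∉ Z → Subsingleton (F.presheaf.stalk x))
    (V : X.Opens) (hV : IsCompact (V : Set X)) (s : Γ((H0 Z).obj F, V)) : s = 0 := by
  obtain ⟨T, t, rfl⟩ := exists_rep Z F hV s
  refine ι_eq_zero_of_germs hZ F T V t fun y hy hyZ => ?_
  haveI := h y hyZ
  exact Subsingleton.elim _ _

theorem sections_eq_zero [IsLocallyNoetherian X] {Z : Set X}
    (hZ : StableUnderSpecialization Z) (F : X.Modules)
    (h : ∀ x : X, x ∉ Z → Subsingleton (F.presheaf.stalk x))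
    (V : X.Opens) (s : Γ((H0 Z).obj F, V)) : s = 0 := by
  refine TopCat.Presheaf.section_ext ((toAb X).obj ((H0 Z).obj F)) V s 0 (fun x hx => ?_)
  show ((H0 Z).obj F).presheaf.germ V x hx s = ((H0 Z).obj F).presheaf.germ V x hx 0
  obtain ⟨K, hxK, hK, s', hs'⟩ := TopCat.Presheaf.exists_mem_germ_eq_of_isBasis
    (isBasis_compact X) ((H0 Z).obj F).presheaf x (((H0 Z).obj F).presheaf.germ V x hx s)
  rw [← hs', sections_eq_zero_of_compact hZ F h K hK s', map_zero, map_zero]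

theorem isZero_H0_of_stalks [IsLocallyNoetherian X] {Z : Set X}
    (hZ : StableUnderSpecialization Z) (F : X.Modules)
    (h : ∀ x : X, x ∉ Z → Subsingleton (F.presheaf.stalk x)) : IsZero ((H0 Z).obj F) := by
  rw [IsZero.iff_id_eq_zero]
  ext V s
  simpa using sections_eq_zero hZ F h V s

theorem subsingleton_stalk_of_isZero (Z : Set X) (F : X.Modules)
    (hzero : IsZero ((H0 Z).obj F)) (x : X) (hx : x ∉ Z) :
    Subsingleton (F.presheaf.stalk x) := by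
  have hb := isZClosedAt_of_not_mem Z F x hx
  have hsec : ∀ (V : X.Opens) (s : Γ((H0 Z).obj F, V)), s = 0 := by
    intro V s
    have h0 : (𝟙 ((H0 Z).obj F)) = 0 := (IsZero.iff_id_eq_zero _).1 hzero
    have h1 := congr(($(h0)).app V)
    have h2 := congr($h1 s)
    simpa using h2
  have hall : ∀ c : ((H0 Z).obj F).presheaf.stalk x, c = 0 := by
    intro c
    obtain ⟨V, hxV, s, rfl⟩ := TopCat.Presheaf.exists_germ_eq _ c
    rw [hsec V s, map_zero]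
  refine ⟨fun a b => hb.1 ?_⟩
  rw [hall (rhoStalk Z F x a), hall (rhoStalk Z F x b)]

theorem isZero_H0_iff [IsLocallyNoetherian X] {Z : Set X}
    (hZ : StableUnderSpecialization Z) (F : X.Modules) :
    IsZero ((H0 Z).obj F) ↔ ∀ x : X, x ∉ Z → Subsingleton (F.presheaf.stalk x) :=
  ⟨fun h x hx => subsingleton_stalk_of_isZero Z F h x hx, isZero_H0_of_stalks hZ F⟩

/-! ### `H0` is Z-closed -/

theorem isZClosed_H0 [IsLocallyNoetherian X] (Z : Set X) (F : X.Modules) :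
    IsZClosed Z ((H0 Z).obj F) := by
  refine ZCl1.isZClosed_of_forall_isIso Z _ fun T => ?_
  refine isIso_of_bijective_basis _ (isBasis_compact X) fun V hV => ?_
  show Function.Bijective (res ((H0 Z).obj F) (T.U.ι.image_preimage_le V))
  have hV' : IsCompact ((T.U.ι ''ᵁ T.U.ι ⁻¹ᵁ V : X.Opens) : Set X) :=
    isCompact_of_le hV (T.U.ι.image_preimage_le V)
  constructor
  · refine (injective_iff_map_eq_zero _).2 fun s hs => ?_
    obtain ⟨T1, t, rfl⟩ := exists_rep Z F hV s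
    rw [ι_res Z F T1 (T.U.ι.image_preimage_le V) t] at hs
    obtain ⟨T2, h12, h0⟩ := exists_zero Z F hV' T1 _ hs
    have hA : T2.U.ι ''ᵁ T2.U.ι ⁻¹ᵁ (T.U.ι ''ᵁ T.U.ι ⁻¹ᵁ V) ≤ T1.U.ι ''ᵁ T1.U.ι ⁻¹ᵁ V :=
      (resPush_le (Cl.U_anti h12) _).trans (Uv_mono T1.U (T.U.ι.image_preimage_le V))
    have h0' : res F hA t = 0 := by
      rw [res_res] at h0
      exact h0
    have h13 : T1 ≤ T2 ⊔ T := h12.trans le_sup_left
    have hsub : (T2 ⊔ T).U.ι ''ᵁ (T2 ⊔ T).U.ι ⁻¹ᵁ V ≤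
        T2.U.ι ''ᵁ T2.U.ι ⁻¹ᵁ (T.U.ι ''ᵁ T.U.ι ⁻¹ᵁ V) := by
      intro y hy
      obtain ⟨hyU, hyV⟩ := mem_Uv.1 hy
      have h2 : y ∉ (T2.1 : Set X) := fun hh => (mem_ClU.1 hyU) (mem_sup.2 (Or.inl hh))
      have h3 : y ∉ (T.1 : Set X) := fun hh => (mem_ClU.1 hyU) (mem_sup.2 (Or.inr hh))
      exact mem_Uv.2 ⟨mem_ClU.2 h2, mem_Uv.2 ⟨mem_ClU.2 h3, hyV⟩⟩
    rw [← ι_trans Z F h13 V t]
    have e0 : res F (resPush_le (Cl.U_anti h13) V) t = 0 := by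
      have e := res_res F hA hsub t
      rw [h0', map_zero] at e
      exact e.symm
    exact ιH_app_zero_of Z F _ V _ e0
  · intro s'
    obtain ⟨T1, t', rfl⟩ := exists_rep Z F hV' s'
    have h13 : T1 ≤ T1 ⊔ T := le_sup_left
    have hsub : (T1 ⊔ T).U.ι ''ᵁ (T1 ⊔ T).U.ι ⁻¹ᵁ V ≤
        T1.U.ι ''ᵁ T1.U.ι ⁻¹ᵁ (T.U.ι ''ᵁ T.U.ι ⁻¹ᵁ V) := by
      intro y hy
      obtain ⟨hyU, hyV⟩ := mem_Uv.1 hy
      have h2 : y ∉ (T1.1 : Set X) := fun hh => (mem_ClU.1 hyU) (mem_sup.2 (Or.inl hh))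
      have h3 : y ∉ (T.1 : Set X) := fun hh => (mem_ClU.1 hyU) (mem_sup.2 (Or.inr hh))
      exact mem_Uv.2 ⟨mem_ClU.2 h2, mem_Uv.2 ⟨mem_ClU.2 h3, hyV⟩⟩
    refine ⟨(ιH Z F (T1 ⊔ T)).app V (res F hsub t'), ?_⟩
    show res ((H0 Z).obj F) (T.U.ι.image_preimage_le V)
      ((ιH Z F (T1 ⊔ T)).app V (res F hsub t')) = _
    rw [ι_res Z F (T1 ⊔ T) (T.U.ι.image_preimage_le V), res_res,
      ← ι_trans Z F h13 (T.U.ι ''ᵁ T.U.ι ⁻¹ᵁ V) t']

end Groth.Agent.Helper6.ZCl3
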