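import Mathlib
import Groth.Prelude.Def_ZClos
import Groth.Prelude.Def_Coh
import Groth.Agent.Helper6.ZCl3
import Groth.Agent.Helper4.QcohLimits

/-!
# Z-closure: quasi-coherence and the factorization through a Z-closed module
-/

set_option autoImplicit false

namespace Groth.Agent.Helper6.ZCl5

open CategoryTheory Limits AlgebraicGeometry TopologicalSpace Opposite ZClos
open Groth.Agent.Helper6.ZCl1 Groth.Agent.Helper6.ZCl2 Groth.Agent.Helper6.ZCl3

universe u

variable {X : Scheme.{u}}

theorem isQCoh_H0 [IsLocallyNoetherian X] (Z : Set X) (F : X.Modules)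
    (hF : Coh.IsQCoh F) :
    Coh.IsQCoh ((H0 Z).obj F) := by
  show Coh.IsQCoh (colimit ((diagram Z).obj F))
  refine Groth.Agent.Helper4.QcohLimits.isQuasicoherent_colimit ((diagram Z).obj F) fun T => ?_
  show Coh.IsQCoh ((Scheme.Modules.pushforward T.U.ι).obj
    ((Scheme.Modules.restrictFunctor T.U.ι).obj F))
  haveI : F.IsQuasicoherent := hF
  haveI : ((Scheme.Modules.restrictFunctor T.U.ι).obj F).IsQuasicoherent :=
    Scheme.Modules.isQuasicoherent_restrictFunctor T.U.ι F
  exact Groth.Agent.Helper4.QcohGlue.isQuasicoherent_pushforward T.U.ι _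

/-! ### Stalk maps -/

section Stalks

variable {M N K : X.Modules}

/-- stalk map of a morphism of modules -/
noncomputable abbrev stkMap (φ : M ⟶ N) (x : X) : M.presheaf.stalk x ⟶ N.presheaf.stalk x :=
  (TopCat.Presheaf.stalkFunctor Ab.{u} x).map φ.mapPresheaf

lemma stkMap_comp (φ : M ⟶ N) (ψ : N ⟶ K) (x : X) :
    stkMap (φ ≫ ψ) x = stkMap φ x ≫ stkMap ψ x := by
  show (TopCat.Presheaf.stalkFunctor Ab.{u} x).map ((Scheme.Modules.toPresheaf X).map (φ ≫ ψ)) = _
  rw [Functor.map_comp, Functor.map_comp]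
  rfl

lemma stkMap_germ (φ : M ⟶ N) (x : X) (U : X.Opens) (hxU : x ∈ U) (s : Γ(M, U)) :
    stkMap φ x (M.presheaf.germ U x hxU s) = N.presheaf.germ U x hxU (φ.app U s) :=
  TopCat.Presheaf.stalkFunctor_map_germ_apply U x hxU φ.mapPresheaf s

lemma stkMap_comp_eq_zero (φ : M ⟶ N) (ψ : N ⟶ K) (h : φ ≫ ψ = 0) (x : X)
    (c : M.presheaf.stalk x) : stkMap ψ x (stkMap φ x c) = 0 := by
  obtain ⟨U, hxU, s, rfl⟩ := TopCat.Presheaf.exists_germ_eq _ c
  have e : (ψ.app U) ((φ.app U) s) = 0 := by
    rw [← ConcreteCategory.comp_apply, ← Scheme.Modules.Hom.comp_app, h,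
      Scheme.Modules.Hom.zero_app]
    rfl
  rw [stkMap_germ, stkMap_germ, e, map_zero]

theorem subsingleton_stalk_kernel (φ : M ⟶ N) (x : X)
    (hφ : Function.Injective (stkMap φ x)) :
    Subsingleton ((kernel φ).presheaf.stalk x) := by
  have hk : Function.Injective (stkMap (kernel.ι φ) x) :=
    TopCat.Presheaf.stalkFunctor_map_injective_of_app_injective
      (fun U => injective_app_of_mono (kernel.ι φ) U) x
  refine ⟨fun a b => hk (hφ ?_)⟩
  rw [stkMap_comp_eq_zero _ _ (kernel.condition φ) x a,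
    stkMap_comp_eq_zero _ _ (kernel.condition φ) x b]

theorem surjective_stalk_of_epi (ψ : N ⟶ K) [Epi ψ] (x : X) :
    Function.Surjective (stkMap ψ x) := by
  let G : X.Modules ⥤ Ab.{u} :=
    toAb X ⋙ Groth.Agent.Helper1.ColimSec.stalkF (X := X.toTopCat) x
  haveI : PreservesColimitsOfSize.{u, u} (toAb X) :=
    Groth.Agent.Helper3.SheafModLib.toSheaf_preservesColimits X.ringCatSheaf
  haveI : PreservesColimitsOfSize.{u, u} G := inferInstance
  haveI : PreservesFiniteColimits G := inferInstance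
  haveI : G.PreservesEpimorphisms := inferInstance
  have h : Epi (G.map ψ) := inferInstance
  exact (AddCommGrpCat.epi_iff_surjective _).1 h

theorem subsingleton_stalk_cokernel (φ : M ⟶ N) (x : X)
    (hφ : Function.Surjective (stkMap φ x)) :
    Subsingleton ((cokernel φ).presheaf.stalk x) := by
  have hp : Function.Surjective (stkMap (cokernel.π φ) x) :=
    surjective_stalk_of_epi (cokernel.π φ) x
  refine ⟨fun a b => ?_⟩
  obtain ⟨a', rfl⟩ := hp a
  obtain ⟨a'', rfl⟩ := hφ a'
  obtain ⟨b', rfl⟩ := hp b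
  obtain ⟨b'', rfl⟩ := hφ b'
  rw [stkMap_comp_eq_zero _ _ (cokernel.condition φ) x a'',
    stkMap_comp_eq_zero _ _ (cokernel.condition φ) x b'']

end Stalks

/-! ### The factorization is an isomorphism -/

theorem isIso_fac [IsLocallyNoetherian X] {Z : Set X} (hZ : StableUnderSpecialization Z)
    (F F' : X.Modules) (hF' : IsZClosed Z F') (u : F ⟶ F')
    (hu : ∀ x : X, x ∉ Z →
      Function.Bijective ((TopCat.Presheaf.stalkFunctor (C := Ab.{u}) x).map u.mapPresheaf))
    (v : (H0 Z).obj F ⟶ F') (hv0 : rhoApp Z F ≫ v = u) : IsIso v := by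
  have hv : ∀ x, x ∉ Z → Function.Bijective (stkMap v x) := by
    intro x hx
    have hρ : Function.Bijective (stkMap (rhoApp Z F) x) := isZClosedAt_of_not_mem Z F x hx
    have hcomp : stkMap u x = stkMap (rhoApp Z F) x ≫ stkMap v x := by
      rw [← stkMap_comp, hv0]
    have hu' : Function.Bijective (stkMap u x) := hu x hx
    rw [hcomp] at hu'
    have hfun : ⇑(ConcreteCategory.hom (stkMap (rhoApp Z F) x ≫ stkMap v x)) =
        ⇑(ConcreteCategory.hom (stkMap v x)) ∘ ⇑(ConcreteCategory.hom (stkMap (rhoApp Z F) x)) :=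
      funext fun a => rfl
    rw [hfun] at hu'
    exact (Function.Bijective.of_comp_iff _ hρ).1 hu'
  haveI hclosed : IsIso (rhoApp Z ((H0 Z).obj F)) := isZClosed_H0 Z F
  haveI : IsIso (rhoApp Z F') := hF'
  -- `v` is a monomorphism
  have hK0 : IsZero ((H0 Z).obj (kernel v)) :=
    isZero_H0_of_stalks hZ _ (fun x hx => subsingleton_stalk_kernel v x (hv x hx).1)
  have hk : kernel.ι v = 0 := by
    have e : kernel.ι v ≫ rhoApp Z ((H0 Z).obj F) =
        rhoApp Z (kernel v) ≫ (H0 Z).map (kernel.ι v) := (rho Z).naturality (kernel.ι v)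
    have e0 : kernel.ι v ≫ rhoApp Z ((H0 Z).obj F) = 0 := by
      rw [e, hK0.eq_of_tgt (rhoApp Z (kernel v)) 0, zero_comp]
    rw [← cancel_mono (rhoApp Z ((H0 Z).obj F)), e0, zero_comp]
  haveI : Mono v := Preadditive.mono_of_kernel_zero hk
  -- `H0 v` is an isomorphism
  have hC0 : IsZero ((H0 Z).obj (cokernel v)) :=
    isZero_H0_of_stalks hZ _ (fun x hx => subsingleton_stalk_cokernel v x (hv x hx).2)
  haveI := preservesFiniteLimits_H0 Z
  haveI : (H0 Z).PreservesZeroMorphisms := inferInstance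
  have hS : (ShortComplex.mk v (cokernel.π v) (cokernel.condition v)).Exact :=
    ShortComplex.exact_cokernel v
  have hS' := hS.map_of_mono_of_preservesKernel (H0 Z) (inferInstance : Mono v) inferInstance
  haveI : Epi ((H0 Z).map v) := hS'.epi_f (hC0.eq_of_tgt _ _)
  haveI : Mono ((H0 Z).map v) := inferInstance
  haveI : IsIso ((H0 Z).map v) := isIso_of_mono_of_epi _
  -- conclude by naturality of `rho`
  have nat : v ≫ rhoApp Z F' = rhoApp Z ((H0 Z).obj F) ≫ (H0 Z).map v := (rho Z).naturality v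
  have hveq : v = rhoApp Z ((H0 Z).obj F) ≫ (H0 Z).map v ≫ inv (rhoApp Z F') := by
    rw [← Category.assoc, ← nat, Category.assoc, IsIso.hom_inv_id, Category.comp_id]
  rw [hveq]
  infer_instance

end Groth.Agent.Helper6.ZCl5
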