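import Mathlib
import Groth.Prelude.Def_ZClos
import Groth.Agent.Helper6.ZCl3

/-!
# Z-pure and Z-closed are local on the scheme
-/

set_option autoImplicit false

namespace Groth.Agent.Helper6.ZCl4

open CategoryTheory Limits AlgebraicGeometry TopologicalSpace Opposite ZClos
open Groth.Agent.Helper6.ZCl1 Groth.Agent.Helper6.ZCl2

universe u

variable {X : Scheme.{u}}

lemma mem_image_iff (U : X.Opens) (W' : U.toScheme.Opens) (y : X) :
    y ∈ U.ι ''ᵁ W' ↔ ∃ hy : y ∈ U, (⟨y, hy⟩ : U) ∈ W' := by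
  constructor
  · intro h
    have hy : y ∈ U := U.ι_image_le W' h
    exact ⟨hy, (Scheme.Opens.mem_ι_image_iff (x := ⟨y, hy⟩)).1 h⟩
  · rintro ⟨hy, h⟩
    exact (Scheme.Opens.mem_ι_image_iff (x := ⟨y, hy⟩)).2 h

lemma P_res_congr (P : ∀ {A B : Type u}, (A → B) → Prop) (F : X.Modules)
    {V1 V2 W1 W2 : X.Opens} (eV : V1 = V2) (eW : W1 = W2) (h1 : W1 ≤ V1) (h2 : W2 ≤ V2) :
    P (res F h1) ↔ P (res F h2) := by
  subst eV eW; rfl

theorem exists_extend [IsLocallyNoetherian X] {Z : Set X} (hZ : StableUnderSpecialization Z)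
    (U : X.Opens) (Ti : Cl (X := U.toScheme) (U.ι.base ⁻¹' Z)) :
    ∃ T : Cl Z, ∀ (y : X) (hy : y ∈ U),
      y ∈ (T.1 : Set X) ↔ (⟨y, hy⟩ : U) ∈ (Ti.1 : Set U) := by
  obtain ⟨C0, hC0, hpre⟩ := U.ι.isOpenEmbedding.isInducing.isClosed_iff.1 Ti.1.isClosed
  have hsub : C0 ∩ (U : Set X) ⊆ Z := by
    rintro y ⟨hyC, hyU⟩
    have : (⟨y, hyU⟩ : U) ∈ (Ti.1 : Set U) := by rw [← hpre]; exact hyC
    exact Ti.2 this
  have hcl := closure_inter_subset hZ hC0 U.isOpen hsub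
  refine ⟨⟨⟨closure (C0 ∩ (U : Set X)), isClosed_closure⟩, hcl⟩, fun y hy => ?_⟩
  constructor
  · intro h
    have hyC : y ∈ C0 := closure_minimal Set.inter_subset_left hC0 h
    rw [← hpre]; exact hyC
  · intro h
    rw [← hpre] at h
    exact subset_closure ⟨h, hy⟩

theorem image_inf_compl {Z : Set X} (U : X.Opens) (Ti : Cl (X := U.toScheme) (U.ι.base ⁻¹' Z))
    (T : Cl Z)
    (hT : ∀ (y : X) (hy : y ∈ U), y ∈ (T.1 : Set X) ↔ (⟨y, hy⟩ : U) ∈ (Ti.1 : Set U))
    (W' : U.toScheme.Opens) :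
    U.ι ''ᵁ (W' ⊓ Ti.U) = (U.ι ''ᵁ W') ⊓ T.U := by
  refine Opens.ext (Set.ext fun y => ?_)
  constructor
  · intro h
    obtain ⟨hy, hW⟩ := (mem_image_iff U _ y).1 h
    refine ⟨(mem_image_iff U W' y).2 ⟨hy, hW.1⟩, ?_⟩
    exact fun hyT => hW.2 ((hT y hy).1 hyT)
  · rintro ⟨h1, h2⟩
    obtain ⟨hy, hW⟩ := (mem_image_iff U W' y).1 h1
    exact (mem_image_iff U _ y).2 ⟨hy, hW, fun hh => h2 ((hT y hy).2 hh)⟩

theorem restrict_of_global (P : ∀ {A B : Type u}, (A → B) → Prop) (F : X.Modules) (U : X.Opens)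
    [IsLocallyNoetherian X] {Z : Set X} (hZ : StableUnderSpecialization Z)
    (hF : ∀ (T : Cl Z) (V : X.Opens), P (res F (inf_le_left : V ⊓ T.U ≤ V)))
    (Ti : Cl (X := U.toScheme) (U.ι.base ⁻¹' Z)) (W' : U.toScheme.Opens) :
    P (res ((Scheme.Modules.restrictFunctor U.ι).obj F) (inf_le_left : W' ⊓ Ti.U ≤ W')) := by
  obtain ⟨T, hT⟩ := exists_extend hZ U Ti
  have e : U.ι ''ᵁ (W' ⊓ Ti.U) = (U.ι ''ᵁ W') ⊓ T.U := image_inf_compl U Ti T hT W'
  have hle : U.ι ''ᵁ (W' ⊓ Ti.U) ≤ U.ι ''ᵁ W' :=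
    (U.ι.opensFunctor.map (homOfLE (inf_le_left : W' ⊓ Ti.U ≤ W'))).le
  show P (res F hle)
  rw [P_res_congr P F rfl e hle inf_le_left]
  exact hF T _

theorem global_of_restrict (P : ∀ {A B : Type u}, (A → B) → Prop) (F : X.Modules)
    {Z : Set X} {ι : Type u} (V : ι → X.Opens)
    (hloc : ∀ i (Ti : Cl (X := (V i).toScheme) ((V i).ι.base ⁻¹' Z))
      (W' : (V i).toScheme.Opens),
      P (res ((Scheme.Modules.restrictFunctor (V i).ι).obj F)
        (inf_le_left : W' ⊓ Ti.U ≤ W')))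
    (T : Cl Z) (W : X.Opens) (hW : ∃ i, W ≤ V i) :
    P (res F (inf_le_left : W ⊓ T.U ≤ W)) := by
  obtain ⟨i, hWi⟩ := hW
  let U : X.Opens := V i
  let Ti : Cl (X := U.toScheme) (U.ι.base ⁻¹' Z) :=
    ⟨⟨U.ι.base ⁻¹' (T.1 : Set X), T.1.isClosed.preimage U.ι.continuous⟩, fun w hw => T.2 hw⟩
  have hT : ∀ (y : X) (hy : y ∈ U),
      y ∈ (T.1 : Set X) ↔ (⟨y, hy⟩ : U) ∈ (Ti.1 : Set U) := fun y hy => Iff.rfl
  let W' : U.toScheme.Opens := U.ι ⁻¹ᵁ W
  have eV : U.ι ''ᵁ W' = W := by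
    refine Opens.ext (Set.ext fun y => ?_)
    constructor
    · intro h
      obtain ⟨hy, hw⟩ := (mem_image_iff U W' y).1 h
      exact hw
    · intro h
      exact (mem_image_iff U W' y).2 ⟨hWi h, h⟩
  have e := image_inf_compl U Ti T hT W'
  have hle : U.ι ''ᵁ (W' ⊓ Ti.U) ≤ U.ι ''ᵁ W' :=
    (U.ι.opensFunctor.map (homOfLE (inf_le_left : W' ⊓ Ti.U ≤ W'))).le
  have h1 : P (res F hle) := hloc i Ti W'
  rw [P_res_congr P F eV.symm (by rw [e, eV]) inf_le_left hle]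
  exact h1

lemma isBasis_univ' : Opens.IsBasis (Set.univ : Set X.Opens) := by
  rw [Opens.isBasis_iff_nbhd]
  intro U x hx
  exact ⟨U, trivial, hx, le_rfl⟩

lemma isBasis_cover {ι : Type u} (V : ι → X.Opens) (hV : iSup V = ⊤) :
    Opens.IsBasis {W : X.Opens | ∃ i, W ≤ V i} := by
  rw [Opens.isBasis_iff_nbhd]
  intro U x hx
  have : x ∈ iSup V := by rw [hV]; trivial
  obtain ⟨i, hi⟩ := Opens.mem_iSup.1 this
  exact ⟨U ⊓ V i, ⟨i, inf_le_right⟩, ⟨hx, hi⟩, inf_le_left⟩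

theorem isZPure_iff_openCover [IsLocallyNoetherian X] {Z : Set X}
    (hZ : StableUnderSpecialization Z) (F : X.Modules) {ι : Type u} (V : ι → X.Opens)
    (hV : iSup V = ⊤) :
    IsZPure Z F ↔
      ∀ i, IsZPure ((V i).ι.base ⁻¹' Z) ((Scheme.Modules.restrictFunctor (V i).ι).obj F) := by
  constructor
  · intro h i
    refine ZCl1.isZPure_of_forall_mono _ _ fun Ti => ?_
    refine mono_of_injective_res _ _ Ti (B := Set.univ) isBasis_univ' fun W' _ => ?_
    exact restrict_of_global (fun {A B} f => Function.Injective f) F (V i) hZ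
      (fun T W => by
        haveI := ZCl1.mono_toDiagram_of_isZPure Z F h T
        exact injective_res_of_mono Z F T W) Ti W'
  · intro h
    refine ZCl1.isZPure_of_forall_mono _ _ fun T => ?_
    refine mono_of_injective_res Z F T (B := {W | ∃ i, W ≤ V i}) (isBasis_cover V hV)
      fun W hW => ?_
    exact global_of_restrict (fun {A B} f => Function.Injective f) F V
      (fun i Ti W' => by
        haveI := ZCl1.mono_toDiagram_of_isZPure _ _ (h i) Ti
        exact injective_res_of_mono _ _ Ti W') T W hW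

theorem isZClosed_iff_openCover [IsLocallyNoetherian X] {Z : Set X}
    (hZ : StableUnderSpecialization Z) (F : X.Modules) {ι : Type u} (V : ι → X.Opens)
    (hV : iSup V = ⊤) :
    IsZClosed Z F ↔
      ∀ i, IsZClosed ((V i).ι.base ⁻¹' Z) ((Scheme.Modules.restrictFunctor (V i).ι).obj F) := by
  constructor
  · intro h i
    refine ZCl1.isZClosed_of_forall_isIso _ _ fun Ti => ?_
    refine isIso_of_bijective_res _ _ Ti (B := Set.univ) isBasis_univ' fun W' _ => ?_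
    exact restrict_of_global (fun {A B} f => Function.Bijective f) F (V i) hZ
      (fun T W => by
        haveI := ZCl1.isIso_toDiagram_of_isZClosed Z F h T
        exact bijective_res_of_isIso Z F T W) Ti W'
  · intro h
    refine ZCl1.isZClosed_of_forall_isIso _ _ fun T => ?_
    refine isIso_of_bijective_res Z F T (B := {W | ∃ i, W ≤ V i}) (isBasis_cover V hV)
      fun W hW => ?_
    exact global_of_restrict (fun {A B} f => Function.Bijective f) F V
      (fun i Ti W' => by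
        haveI := ZCl1.isIso_toDiagram_of_isZClosed _ _ (h i) Ti
        exact bijective_res_of_isIso _ _ Ti W') T W hW

end Groth.Agent.Helper6.ZCl4
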