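import Mathlib
import Groth.Prelude
import Groth.Agent.Helper1.KoszulAcyclic
import Groth.Agent.Helper6.KEuler2

/-!
# Euler characteristics of Koszul complexes, part 3: additivity and the cone formula
-/

set_option autoImplicit false
universe u

namespace Groth.Agent.Helper6.KEuler
open CategoryTheory Limits CochainComplex HomologicalComplex CohIII
open Groth.Agent.Helper1.Koszul

section Abstract

theorem toNat_cast_add {x y z : ℕ∞} (h : x = y + z) (hx : x ≠ ⊤) :
    (x.toNat : ℤ) = y.toNat + z.toNat := by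
  subst h
  have hy : y ≠ ⊤ := fun e => hx (by rw [e, top_add])
  have hz : z ≠ ⊤ := fun e => hx (by rw [e, add_top])
  rw [ENat.toNat_add hy hz]
  push_cast
  rfl

theorem euler_of_les (la lb lc ra sa ta : ℤ → ℕ∞) (n : ℕ)
    (hb : ∀ i, lb i = ra i + sa i) (hc : ∀ i, lc i = sa i + ta i)
    (ha : ∀ i, la (i + 1) = ta i + ra (i + 1))
    (hfa : ∀ i, la i ≠ ⊤) (hfb : ∀ i, lb i ≠ ⊤) (hfc : ∀ i, lc i ≠ ⊤)
    (h1 : la 1 = 0) (hn : lc (-((n + 1 : ℕ) : ℤ)) = 0) :
    ∑ p ∈ Finset.range (n + 1), (-1 : ℤ) ^ p * ((lb (-(p : ℤ))).toNat : ℤ) =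
      ∑ p ∈ Finset.range (n + 1), (-1 : ℤ) ^ p * ((la (-(p : ℤ))).toNat : ℤ)
        + ∑ p ∈ Finset.range (n + 1), (-1 : ℤ) ^ p * ((lc (-(p : ℤ))).toNat : ℤ) := by
  refine alt_sum_les (fun p => ((la (-(p : ℤ))).toNat : ℤ)) (fun p => ((lb (-(p : ℤ))).toNat : ℤ))
    (fun p => ((lc (-(p : ℤ))).toNat : ℤ)) (fun p => ((ra (-(p : ℤ))).toNat : ℤ))
    (fun p => ((sa (-(p : ℤ))).toNat : ℤ)) (fun p => ((ta (-(p : ℤ))).toNat : ℤ)) n ?_ ?_ ?_ ?_ ?_
  · intro p
    exact toNat_cast_add (hb _) (hfb _)
  · intro p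
    exact toNat_cast_add (hc _) (hfc _)
  · intro p
    have h := ha (-((p + 1 : ℕ) : ℤ))
    have hidx : -((p + 1 : ℕ) : ℤ) + 1 = -(p : ℤ) := by push_cast; ring
    rw [hidx] at h
    exact toNat_cast_add h (hfa _)
  · have h := ha 0
    rw [zero_add, h1] at h
    have : ta 0 = 0 := (add_eq_zero.mp h.symm).1
    show ((ta (-((0 : ℕ) : ℤ))).toNat : ℤ) = 0
    rw [Nat.cast_zero, neg_zero, this]
    rfl
  · have h := hc (-((n + 1 : ℕ) : ℤ))
    rw [hn] at h
    have : ta (-((n + 1 : ℕ) : ℤ)) = 0 := (add_eq_zero.mp h.symm).2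
    show ((ta (-((n + 1 : ℕ) : ℤ))).toNat : ℤ) = 0
    rw [this]
    rfl

theorem euler_of_cone (hl cl kl : ℤ → ℕ∞) (N : ℕ) (hrel : ∀ n, hl n = cl n + kl (n + 1))
    (hfin : ∀ n, hl n ≠ ⊤) (hk1 : kl 1 = 0) (hcN : cl (-((N + 1 : ℕ) : ℤ)) = 0) :
    ∑ p ∈ Finset.range (N + 2), (-1 : ℤ) ^ p * ((hl (-(p : ℤ))).toNat : ℤ)
      = ∑ p ∈ Finset.range (N + 1), (-1 : ℤ) ^ p *
          (((cl (-(p : ℤ))).toNat : ℤ) - ((kl (-(p : ℤ))).toNat : ℤ)) := by
  refine alt_sum_shift (fun p => ((cl (-(p : ℤ))).toNat : ℤ)) (fun p => ((kl (-(p : ℤ))).toNat : ℤ))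
    (fun p => ((hl (-(p : ℤ))).toNat : ℤ)) N ?_ ?_ ?_
  · have h := hrel 0
    rw [zero_add, hk1, add_zero] at h
    show ((hl (-((0 : ℕ) : ℤ))).toNat : ℤ) = ((cl (-((0 : ℕ) : ℤ))).toNat : ℤ)
    rw [Nat.cast_zero, neg_zero, h]
  · intro p
    have h := hrel (-((p + 1 : ℕ) : ℤ))
    have hidx : -((p + 1 : ℕ) : ℤ) + 1 = -(p : ℤ) := by push_cast; ring
    rw [hidx] at h
    exact toNat_cast_add h (hfin _)
  · show ((cl (-((N + 1 : ℕ) : ℤ))).toNat : ℤ) = 0
    rw [hcN]
    rfl

end Abstract

variable {A : Type u} [CommRing A]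

section Additive

variable (l : List A)
variable {M₁ M₂ M₃ : Type u} [AddCommGroup M₁] [Module A M₁] [AddCommGroup M₂] [Module A M₂]
  [AddCommGroup M₃] [Module A M₃]
  (f : M₁ →ₗ[A] M₂) (g : M₂ →ₗ[A] M₃) (hf : Function.Injective f) (hg : Function.Surjective g)
  (hex : Function.Exact f g)

/-- the short complex of a short exact sequence of modules -/
noncomputable def sc : ShortComplex (ModuleCat.{u} A) :=
  ShortComplex.mk (ModuleCat.ofHom f) (ModuleCat.ofHom g)
    (ModuleCat.hom_ext (LinearMap.ext fun x => hex.apply_apply_eq_zero x))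

include hf hg in
theorem sc_shortExact : (sc f g hex).ShortExact :=
  ModuleCat.shortComplex_shortExact _ hex hf hg

noncomputable def lesF (i : ℤ) : KH l M₁ i →ₗ[A] KH l M₂ i :=
  (homologyMap (kmap (sc f g hex).f l) i).hom

noncomputable def lesG (i : ℤ) : KH l M₂ i →ₗ[A] KH l M₃ i :=
  (homologyMap (kmap (sc f g hex).g l) i).hom

include hf hg in
noncomputable def lesD (i : ℤ) : KH l M₃ i →ₗ[A] KH l M₁ (i + 1) :=
  (δK (sc f g hex) (sc_shortExact f g hf hg hex) l i (i + 1) rfl).hom

include hf hg in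
theorem exact_FG (i : ℤ) : Function.Exact (lesF l f g hex i) (lesG l f g hex i) := by
  have h := (kS_shortExact (sc f g hex) (sc_shortExact f g hf hg hex) l).homology_exact₂ i
  rw [ShortComplex.ShortExact.moduleCat_exact_iff_function_exact] at h
  exact h

include hf hg in
theorem exact_GD (i : ℤ) : Function.Exact (lesG l f g hex i) (lesD l f g hf hg hex i) := by
  have h := (kS_shortExact (sc f g hex) (sc_shortExact f g hf hg hex) l).homology_exact₃ i (i + 1) rfl
  rw [ShortComplex.ShortExact.moduleCat_exact_iff_function_exact] at h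
  exact h

include hf hg in
theorem exact_DF (i : ℤ) : Function.Exact (lesD l f g hf hg hex i) (lesF l f g hex (i + 1)) := by
  have h := (kS_shortExact (sc f g hex) (sc_shortExact f g hf hg hex) l).homology_exact₁ i (i + 1) rfl
  rw [ShortComplex.ShortExact.moduleCat_exact_iff_function_exact] at h
  exact h

include hf hg hex in
/-- additivity of the Koszul Euler characteristic on short exact sequences -/
theorem chiK_additive [IsNoetherianRing A] [Module.Finite A M₂]
    (h : FL (Ideal.span {a | a ∈ l}) M₂) : chiK l M₂ = chiK l M₁ + chiK l M₃ := by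
  haveI : Module.Finite A M₁ := Module.Finite.of_injective f hf
  haveI : Module.Finite A M₃ := Module.Finite.of_surjective g hg
  have h₁ : FL (Ideal.span {a | a ∈ l}) M₁ := h.of_injective f hf
  have h₃ : FL (Ideal.span {a | a ∈ l}) M₃ := h.of_surjective g hg
  rw [chiK_eq_sum l M₁ l.length le_rfl, chiK_eq_sum l M₂ l.length le_rfl,
    chiK_eq_sum l M₃ l.length le_rfl]
  exact euler_of_les (fun i => Module.length A (KH l M₁ i)) (fun i => Module.length A (KH l M₂ i))
    (fun i => Module.length A (KH l M₃ i))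
    (fun i => Module.length A (LinearMap.range (lesF l f g hex i)))
    (fun i => Module.length A (LinearMap.range (lesG l f g hex i)))
    (fun i => Module.length A (LinearMap.range (lesD l f g hf hg hex i))) l.length
    (fun i => length_eq_range_add_range _ _ (exact_FG l f g hf hg hex i))
    (fun i => length_eq_range_add_range _ _ (exact_GD l f g hf hg hex i))
    (fun i => length_eq_range_add_range _ _ (exact_DF l f g hf hg hex i))
    (fun i => length_KH_ne_top l M₁ h₁ i) (fun i => length_KH_ne_top l M₂ h i)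
    (fun i => length_KH_ne_top l M₃ h₃ i)
    (length_KH_eq_zero_of_pos l M₁ 1 one_pos)
    (length_KH_eq_zero_of_lt l M₃ _ (by push_cast; omega))

end Additive

section Cone

variable (l : List A) (M : Type u) [AddCommGroup M] [Module A M] (z : A)

theorem length_KH_cons (n : ℤ) :
    Module.length A (KH (z :: l) M n) = cokLen (KH l M n) z + kerLen (KH l M (n + 1)) z := by
  have hex : Function.Exact (ι (koszulCx (ModuleCat.of A M) l) z n).hom
      (bd (koszulCx (ModuleCat.of A M) l) z n (n + 1) rfl).hom := by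
    intro y
    constructor
    · intro hy
      exact exists_of_bd_eq_zero _ z n (n + 1) rfl y hy
    · rintro ⟨x, rfl⟩
      exact bd_ι _ z n (n + 1) rfl x
  have h := length_eq_range_add_range (A := A) _ _ hex
  have hr : LinearMap.range (bd (koszulCx (ModuleCat.of A M) l) z n (n + 1) rfl).hom
      = LinearMap.ker (z • (LinearMap.id : KH l M (n + 1) →ₗ[A] KH l M (n + 1))) := by
    ext w
    rw [LinearMap.mem_ker, LinearMap.smul_apply, LinearMap.id_apply]
    constructor
    · rintro ⟨y, rfl⟩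
      exact smul_bd _ z n (n + 1) rfl y
    · intro hw
      exact exists_of_smul_eq_zero _ z n (n + 1) rfl w hw
  have hk : LinearMap.ker (ι (koszulCx (ModuleCat.of A M) l) z n).hom
      = LinearMap.range (z • (LinearMap.id : KH l M n →ₗ[A] KH l M n)) := by
    ext w
    rw [LinearMap.mem_ker]
    constructor
    · intro hw
      obtain ⟨x, hx⟩ := exists_of_ι_eq_zero _ z n w hw
      exact ⟨x, hx⟩
    · rintro ⟨x, rfl⟩
      exact ι_smul _ z n x
  have hι : Module.length A (LinearMap.range (ι (koszulCx (ModuleCat.of A M) l) z n).hom)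
      = cokLen (KH l M n) z := by
    unfold cokLen
    rw [← hk]
    exact (LinearMap.quotKerEquivRange _).length_eq.symm
  unfold kerLen
  rw [← hr, ← hι]
  exact h

theorem kerLen_eq_zero_of_subsingleton (H : Type u) [AddCommGroup H] [Module A H] [Subsingleton H] :
    kerLen H z = 0 := by
  unfold kerLen
  exact Module.length_eq_zero

theorem cokLen_eq_zero_of_subsingleton (H : Type u) [AddCommGroup H] [Module A H] [Subsingleton H] :
    cokLen H z = 0 := by
  unfold cokLen
  exact Module.length_eq_zero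

/-- the cone formula for the Euler characteristic -/
theorem chiK_cons (hfin : ∀ n, Module.length A (KH (z :: l) M n) ≠ ⊤) :
    chiK (z :: l) M = ∑ p ∈ Finset.range (l.length + 1), (-1 : ℤ) ^ p *
      (((cokLen (KH l M (-(p : ℤ))) z).toNat : ℤ) - ((kerLen (KH l M (-(p : ℤ))) z).toNat : ℤ)) := by
  rw [chiK_eq_sum (z :: l) M (l.length + 1) (by simp)]
  refine euler_of_cone (fun i => Module.length A (KH (z :: l) M i))
    (fun i => cokLen (KH l M i) z) (fun i => kerLen (KH l M i) z) l.length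
    (fun n => length_KH_cons l M z n) hfin ?_ ?_
  · haveI := subsingleton_KH_of_pos l M 1 one_pos
    exact kerLen_eq_zero_of_subsingleton z _
  · haveI := subsingleton_KH_of_lt l M (-((l.length + 1 : ℕ) : ℤ)) (by push_cast; omega)
    exact cokLen_eq_zero_of_subsingleton z _

end Cone

end Groth.Agent.Helper6.KEuler
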