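import Mathlib
import Groth.Prelude
import Groth.Agent.Helper1.KoszulAcyclic
import Groth.Agent.Helper6.KEuler3

/-!
# Euler characteristics of Koszul complexes, part 4: multiplicativity in the head, `T1`
-/

set_option autoImplicit false
universe u

namespace Groth.Agent.Helper6.KEuler
open CategoryTheory Limits CochainComplex HomologicalComplex CohIII Pointwise
open Groth.Agent.Helper1.Koszul

variable {A : Type u} [CommRing A]

section Spans

theorem setOf_mem_cons (x : A) (l : List A) : {a | a ∈ x :: l} = {x} ∪ {a | a ∈ l} := by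
  ext a
  simp [List.mem_cons]

theorem span_cons (x : A) (l : List A) :
    Ideal.span {a | a ∈ x :: l} = Ideal.span {a | a ∈ l} ⊔ Ideal.span {x} := by
  rw [setOf_mem_cons, Ideal.span_union, sup_comm]

theorem span_le_span_cons (x : A) (l : List A) :
    Ideal.span {a | a ∈ l} ≤ Ideal.span {a | a ∈ x :: l} := by
  rw [span_cons]
  exact le_sup_left

theorem FL_of_killed {x : A} {l : List A} {P : Type u} [AddCommGroup P] [Module A P]
    (h : FL (Ideal.span {a | a ∈ x :: l}) P) (k : ℕ) (hk : ∀ m : P, x ^ k • m = 0) :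
    FL (Ideal.span {a | a ∈ l}) P := by
  rw [span_cons] at h
  exact h.of_pow_smul k hk

end Spans

section Index

theorem int_of_index {k c1 c2 k1 k2 c : ℕ∞} (h : k + c1 + c2 = k1 + k2 + c)
    (hk : k ≠ ⊤) (hc1 : c1 ≠ ⊤) (hc2 : c2 ≠ ⊤) (hk1 : k1 ≠ ⊤) (hk2 : k2 ≠ ⊤) (hc : c ≠ ⊤) :
    ((c.toNat : ℤ) - k.toNat) = ((c2.toNat : ℤ) - k2.toNat) + ((c1.toNat : ℤ) - k1.toNat) := by
  lift k to ℕ using hk
  lift c1 to ℕ using hc1
  lift c2 to ℕ using hc2
  lift k1 to ℕ using hk1
  lift k2 to ℕ using hk2
  lift c to ℕ using hc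
  simp only [ENat.toNat_natCast]
  have h' : k + c1 + c2 = k1 + k2 + c := by exact_mod_cast h
  omega

end Index

section MulHead

variable [IsNoetherianRing A] (l : List A) (M : Type u) [AddCommGroup M] [Module A M]
  [Module.Finite A M]

omit [IsNoetherianRing A] [Module.Finite A M] in
theorem cok_ker_ne_top (z : A) (hfin : ∀ n, Module.length A (KH (z :: l) M n) ≠ ⊤) (i : ℤ) :
    cokLen (KH l M i) z ≠ ⊤ ∧ kerLen (KH l M i) z ≠ ⊤ := by
  constructor
  · have h := hfin i
    rw [length_KH_cons] at h
    exact fun e => h (by rw [e, top_add])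
  · have h := hfin (i - 1)
    rw [length_KH_cons, sub_add_cancel] at h
    exact fun e => h (by rw [e, add_top])

theorem chiK_mul_head (x y : A) (hx : FL (Ideal.span {a | a ∈ x :: l}) M)
    (hy : FL (Ideal.span {a | a ∈ y :: l}) M) :
    chiK ((x * y) :: l) M = chiK (x :: l) M + chiK (y :: l) M := by
  have hxy : FL (Ideal.span {a | a ∈ (x * y) :: l}) M := by
    intro p hp hJ
    have hmem : x * y ∈ p.asIdeal := hJ (Ideal.subset_span List.mem_cons_self)
    have hl : ∀ a ∈ l, a ∈ p.asIdeal := fun a ha =>
      hJ (Ideal.subset_span (List.mem_cons_of_mem _ ha))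
    rcases p.isPrime.mem_or_mem hmem with h | h
    · apply hx p hp
      rw [Ideal.span_le]
      intro a ha
      rcases List.mem_cons.mp ha with rfl | ha
      · exact h
      · exact hl a ha
    · apply hy p hp
      rw [Ideal.span_le]
      intro a ha
      rcases List.mem_cons.mp ha with rfl | ha
      · exact h
      · exact hl a ha
  have fxy := fun n => length_KH_ne_top ((x * y) :: l) M hxy n
  have fx := fun n => length_KH_ne_top (x :: l) M hx n
  have fy := fun n => length_KH_ne_top (y :: l) M hy n
  rw [chiK_cons l M (x * y) fxy, chiK_cons l M x fx, chiK_cons l M y fy, ← Finset.sum_add_distrib]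
  apply Finset.sum_congr rfl
  intro p _
  rw [← mul_add]
  congr 1
  exact int_of_index (index_mul (KH l M (-(p : ℤ))) x y)
    (cok_ker_ne_top l M (x * y) fxy _).2 (cok_ker_ne_top l M y fy _).1
    (cok_ker_ne_top l M x fx _).1 (cok_ker_ne_top l M y fy _).2
    (cok_ker_ne_top l M x fx _).2 (cok_ker_ne_top l M (x * y) fxy _).1

end MulHead

section Killed

variable [IsNoetherianRing A] (l : List A)

omit [IsNoetherianRing A] in
theorem kerLen_eq_cokLen_of_smul_eq_zero (H : Type u) [AddCommGroup H] [Module A H] (z : A)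
    (hz : ∀ m : H, z • m = 0) : kerLen H z = cokLen H z := by
  have h0 : z • (LinearMap.id : H →ₗ[A] H) = 0 := by
    ext m
    exact hz m
  unfold kerLen cokLen
  rw [h0, LinearMap.ker_zero, LinearMap.range_zero, Module.length_top]
  exact (Submodule.quotEquivOfEqBot (⊥ : Submodule A H) rfl).length_eq.symm

theorem chiK_cons_eq_zero_of_smul_eq_zero (M : Type u) [AddCommGroup M] [Module A M]
    [Module.Finite A M] (x : A) (h : FL (Ideal.span {a | a ∈ x :: l}) M)
    (hx : ∀ m : M, x • m = 0) : chiK (x :: l) M = 0 := by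
  rw [chiK_cons l M x (fun n => length_KH_ne_top (x :: l) M h n)]
  apply Finset.sum_eq_zero
  intro p _
  rw [kerLen_eq_cokLen_of_smul_eq_zero (KH l M (-(p : ℤ))) x
    (fun z => smul_KH_eq_zero_of_ann l M x hx _ z), sub_self, mul_zero]

omit [IsNoetherianRing A] in
theorem chiK_eq_zero_of_subsingleton (M : Type u) [AddCommGroup M] [Module A M] [Subsingleton M] :
    chiK l M = 0 := by
  unfold chiK
  apply finsum_eq_zero_of_forall_eq_zero
  intro i
  have : Subsingleton (KH l M i) := by
    refine ⟨fun a b => ?_⟩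
    have ha := smul_KH_eq_zero_of_ann l M (1 : A) (fun m => Subsingleton.elim _ _) i a
    have hb := smul_KH_eq_zero_of_ann l M (1 : A) (fun m => Subsingleton.elim _ _) i b
    rw [one_smul] at ha hb
    rw [ha, hb]
  rw [Module.length_eq_zero]
  simp

theorem chiK_cons_eq_zero_of_pow_smul_eq_zero (x : A) : ∀ (k : ℕ) (M : Type u) [AddCommGroup M]
    [Module A M] [Module.Finite A M], FL (Ideal.span {a | a ∈ x :: l}) M →
    (∀ m : M, x ^ k • m = 0) → chiK (x :: l) M = 0 := by
  intro k
  induction k with
  | zero =>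
    intro M _ _ _ _ hk
    haveI : Subsingleton M := ⟨fun a b => by
      have ha := hk a
      have hb := hk b
      rw [pow_zero, one_smul] at ha hb
      rw [ha, hb]⟩
    exact chiK_eq_zero_of_subsingleton _ M
  | succ k ih =>
    intro M _ _ _ h hk
    have hadd := chiK_additive (x :: l) (x • (⊤ : Submodule A M)).subtype
      (x • (⊤ : Submodule A M)).mkQ (Submodule.subtype_injective _) (Submodule.mkQ_surjective _)
      (LinearMap.exact_subtype_mkQ _) h
    rw [hadd]
    have h1 : chiK (x :: l) ↥(x • (⊤ : Submodule A M)) = 0 := by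
      apply ih _ (h.of_injective _ (Submodule.subtype_injective _))
      rintro ⟨m, hm⟩
      obtain ⟨m', -, rfl⟩ := (Submodule.mem_smul_pointwise_iff_exists _ _ _).mp hm
      apply Subtype.ext
      show x ^ k • x • m' = 0
      rw [smul_smul, ← pow_succ]
      exact hk m'
    have h2 : chiK (x :: l) (M ⧸ x • (⊤ : Submodule A M)) = 0 := by
      apply chiK_cons_eq_zero_of_smul_eq_zero l _ x (h.of_surjective _ (Submodule.mkQ_surjective _))
      intro m
      obtain ⟨m, rfl⟩ := Submodule.mkQ_surjective _ m
      rw [← map_smul, Submodule.mkQ_apply, Submodule.Quotient.mk_eq_zero]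
      exact Submodule.smul_mem_pointwise_smul m x ⊤ Submodule.mem_top
    rw [h1, h2, add_zero]

end Killed

section Regular

variable (l : List A) (M : Type u) [AddCommGroup M] [Module A M]

theorem chiK_cons_of_regular (x : A) (hx : IsSMulRegular M x) :
    chiK (x :: l) M = chiK l (QuotSMulTop x M) := by
  unfold chiK
  apply finsum_congr
  intro i
  obtain ⟨e⟩ := nonempty_homology_iso_of_regular M x hx l i
  have : Module.length A (KH (x :: l) M i) = Module.length A (KH l (QuotSMulTop x M) i) :=
    e.toLinearEquiv.length_eq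
  rw [this]

theorem chiK_congr {M' : Type u} [AddCommGroup M'] [Module A M'] (e : M ≃ₗ[A] M') :
    chiK l M = chiK l M' := by
  unfold chiK
  apply finsum_congr
  intro i
  have hiso : IsIso (kmap (ModuleCat.ofHom e.toLinearMap) l) := by
    refine ⟨kmap (ModuleCat.ofHom e.symm.toLinearMap) l, ?_, ?_⟩
    · rw [← kmap_comp, ← kmap_id]
      congr 1
      ext m
      exact e.symm_apply_apply m
    · rw [← kmap_comp, ← kmap_id]
      congr 1
      ext m
      exact e.apply_symm_apply m
  have : Module.length A (KH l M i) = Module.length A (KH l M' i) :=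
    ((HomologicalComplex.homologyFunctor _ _ i).mapIso
      (asIso (kmap (ModuleCat.ofHom e.toLinearMap) l))).toLinearEquiv.length_eq
  rw [this]

end Regular

end Groth.Agent.Helper6.KEuler
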