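import Mathlib
import Groth.Prelude
import Groth.Agent.Helper1.KoszulAcyclic
import Groth.Agent.Helper6.KEuler4

/-!
# Euler characteristics of Koszul complexes, part 5: the formula `T1` and powers
-/

set_option autoImplicit false
universe u

namespace Groth.Agent.Helper6.KEuler
open CategoryTheory Limits CochainComplex HomologicalComplex CohIII Pointwise
open Groth.Agent.Helper1.Koszul

variable {A : Type u} [CommRing A]

section PowTors

variable (x : A) (M : Type u) [AddCommGroup M] [Module A M]

/-- the `x`-power torsion submodule -/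
def powTors : Submodule A M where
  carrier := {m | ∃ k : ℕ, x ^ k • m = 0}
  zero_mem' := ⟨0, smul_zero _⟩
  add_mem' := by
    rintro a b ⟨k, hk⟩ ⟨k', hk'⟩
    refine ⟨k + k', ?_⟩
    have ha : x ^ (k + k') • a = 0 := by rw [pow_add, mul_comm, mul_smul, hk, smul_zero]
    have hb : x ^ (k + k') • b = 0 := by rw [pow_add, mul_smul, hk', smul_zero]
    rw [smul_add, ha, hb, add_zero]
  smul_mem' := by
    rintro c m ⟨k, hk⟩
    exact ⟨k, by rw [smul_comm, hk, smul_zero]⟩

theorem mem_powTors (m : M) : m ∈ powTors x M ↔ ∃ k : ℕ, x ^ k • m = 0 := Iff.rfl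

theorem exists_pow_smul_powTors [IsNoetherian A M] :
    ∃ k : ℕ, ∀ m ∈ powTors x M, x ^ k • m = 0 := by
  have mono : Monotone (fun k : ℕ => LinearMap.ker (x ^ k • (LinearMap.id : M →ₗ[A] M))) := by
    intro k k' h m hm
    obtain ⟨d, rfl⟩ := Nat.exists_eq_add_of_le h
    rw [LinearMap.mem_ker, LinearMap.smul_apply, LinearMap.id_apply] at hm ⊢
    rw [pow_add, mul_comm, mul_smul, hm, smul_zero]
  obtain ⟨n, hn⟩ := monotone_stabilizes_iff_noetherian.mpr (inferInstance : IsNoetherian A M)
    ⟨fun k : ℕ => LinearMap.ker (x ^ k • (LinearMap.id : M →ₗ[A] M)), mono⟩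
  refine ⟨n, ?_⟩
  rintro m ⟨k, hk⟩
  have h1 : m ∈ LinearMap.ker (x ^ (max n k) • (LinearMap.id : M →ₗ[A] M)) := by
    apply mono (le_max_right n k)
    rw [LinearMap.mem_ker, LinearMap.smul_apply, LinearMap.id_apply]
    exact hk
  have h2 := hn (max n k) (le_max_left n k)
  simp only [OrderHom.coe_mk] at h2
  rw [← h2, LinearMap.mem_ker, LinearMap.smul_apply, LinearMap.id_apply] at h1
  exact h1

theorem isSMulRegular_quot_powTors : IsSMulRegular (M ⧸ powTors x M) x := by
  rw [isSMulRegular_iff_right_eq_zero_of_smul]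
  intro mb hmb
  obtain ⟨m, rfl⟩ := Submodule.mkQ_surjective _ mb
  rw [← map_smul, Submodule.mkQ_apply, Submodule.Quotient.mk_eq_zero] at hmb
  obtain ⟨k, hk⟩ := hmb
  rw [Submodule.mkQ_apply, Submodule.Quotient.mk_eq_zero]
  refine ⟨k + 1, ?_⟩
  rw [pow_succ, mul_smul]
  exact hk

theorem torsionBy_le_powTors : Submodule.torsionBy A M x ≤ powTors x M := by
  intro m hm
  rw [Submodule.mem_torsionBy_iff] at hm
  exact ⟨1, by rw [pow_one]; exact hm⟩

end PowTors

section T1

variable [IsNoetherianRing A] (l : List A) (M : Type u) [AddCommGroup M] [Module A M]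
  [Module.Finite A M] (x : A)

omit [IsNoetherianRing A] [Module.Finite A M] in
theorem smul_quotSMulTop_eq_zero (q : QuotSMulTop x M) : x ^ 1 • q = 0 := by
  obtain ⟨m, rfl⟩ := Submodule.mkQ_surjective _ q
  rw [pow_one, ← map_smul, Submodule.mkQ_apply, Submodule.Quotient.mk_eq_zero]
  exact Submodule.smul_mem_pointwise_smul m x ⊤ Submodule.mem_top

omit [IsNoetherianRing A] [Module.Finite A M] in
theorem FL_quotSMulTop (h : FL (Ideal.span {a | a ∈ x :: l}) M) :
    FL (Ideal.span {a | a ∈ l}) (QuotSMulTop x M) :=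
  FL_of_killed (h.of_surjective _ (Submodule.mkQ_surjective _)) 1 (smul_quotSMulTop_eq_zero M x)

omit [IsNoetherianRing A] [Module.Finite A M] in
theorem FL_torsionBy (h : FL (Ideal.span {a | a ∈ x :: l}) M) :
    FL (Ideal.span {a | a ∈ l}) (Submodule.torsionBy A M x) :=
  FL_of_killed (h.of_injective _ (Submodule.subtype_injective _)) 1 (by
    rintro ⟨m, hm⟩
    apply Subtype.ext
    rw [pow_one]
    exact (Submodule.mem_torsionBy_iff _ _).mp hm)

/-- the formula `χ(x, l; M) = χ(l; M/xM) - χ(l; 0 :_M x)` -/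
theorem chiK_cons_eq_sub (h : FL (Ideal.span {a | a ∈ x :: l}) M) :
    chiK (x :: l) M = chiK l (QuotSMulTop x M) - chiK l (Submodule.torsionBy A M x) := by
  haveI : IsNoetherian A M := isNoetherian_of_isNoetherianRing_of_finite A M
  obtain ⟨k, hk⟩ := exists_pow_smul_powTors x M
  have hNk : ∀ n : powTors x M, x ^ k • n = 0 := fun n => Subtype.ext (hk n.1 n.2)
  have hN : FL (Ideal.span {a | a ∈ x :: l}) (powTors x M) :=
    h.of_injective _ (Submodule.subtype_injective _)
  have hNl : FL (Ideal.span {a | a ∈ l}) (powTors x M) := FL_of_killed hN k hNk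
  -- step 1
  have s1 := chiK_additive (x :: l) (powTors x M).subtype (powTors x M).mkQ
    (Submodule.subtype_injective _) (Submodule.mkQ_surjective _) (LinearMap.exact_subtype_mkQ _) h
  have s1a := chiK_cons_eq_zero_of_pow_smul_eq_zero l x k (powTors x M) hN hNk
  have s1b := chiK_cons_of_regular l (M ⧸ powTors x M) x (isSMulRegular_quot_powTors x M)
  -- step 2
  have hinj : Function.Injective (QuotSMulTop.map x (powTors x M).subtype) := by
    have hex0 : Function.Exact (0 : powTors x M →ₗ[A] powTors x M) (powTors x M).subtype := by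
      intro y
      constructor
      · intro hy
        exact ⟨0, ((Submodule.subtype_injective _) (hy.trans (map_zero _).symm)).symm⟩
      · rintro ⟨z, rfl⟩
        rfl
    have hex := QuotSMulTop.map_first_exact_on_four_term_exact_of_isSMulRegular_last hex0
      (LinearMap.exact_subtype_mkQ (powTors x M)) (isSMulRegular_quot_powTors x M)
    rw [← LinearMap.ker_eq_bot, hex.linearMap_ker_eq, map_zero, LinearMap.range_zero]
  have s2 := chiK_additive l (QuotSMulTop.map x (powTors x M).subtype)
    (QuotSMulTop.map x (powTors x M).mkQ) hinj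
    (QuotSMulTop.map_surjective x (Submodule.mkQ_surjective _))
    (QuotSMulTop.map_exact x (LinearMap.exact_subtype_mkQ _) (Submodule.mkQ_surjective _))
    (FL_quotSMulTop l M x h)
  -- step 3a
  let μ : powTors x M →ₗ[A] ↥(x • (⊤ : Submodule A (powTors x M))) :=
    LinearMap.codRestrict (x • ⊤) (x • LinearMap.id)
      (fun n => Submodule.smul_mem_pointwise_smul n x ⊤ Submodule.mem_top)
  have hμsurj : Function.Surjective μ := by
    rintro ⟨y, hy⟩
    obtain ⟨n, -, rfl⟩ := (Submodule.mem_smul_pointwise_iff_exists _ _ _).mp hy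
    exact ⟨n, Subtype.ext rfl⟩
  have hμex : Function.Exact (Submodule.inclusion (torsionBy_le_powTors x M)) μ := by
    intro n
    constructor
    · intro hn
      have h1 : x • n = 0 := congrArg Subtype.val hn
      have h2 : x • (n : M) = 0 := congrArg Subtype.val h1
      exact ⟨⟨n.1, (Submodule.mem_torsionBy_iff _ _).mpr h2⟩, Subtype.ext rfl⟩
    · rintro ⟨⟨m, hm⟩, rfl⟩
      apply Subtype.ext
      apply Subtype.ext
      exact (Submodule.mem_torsionBy_iff _ _).mp hm
  have s3a := chiK_additive l (Submodule.inclusion (torsionBy_le_powTors x M)) μ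
    (Submodule.inclusion_injective _) hμsurj hμex hNl
  -- step 3b
  have s3b := chiK_additive l (x • (⊤ : Submodule A (powTors x M))).subtype
    (x • (⊤ : Submodule A (powTors x M))).mkQ (Submodule.subtype_injective _)
    (Submodule.mkQ_surjective _) (LinearMap.exact_subtype_mkQ _) hNl
  have s3b' : chiK l (powTors x M ⧸ x • (⊤ : Submodule A (powTors x M)))
      = chiK l (QuotSMulTop x (powTors x M)) := rfl
  rw [s3b'] at s3b
  linarith

end T1

section Pow

variable [IsNoetherianRing A]

theorem FL_pow_head {x : A} {l : List A} {M : Type u} [AddCommGroup M] [Module A M] (m : ℕ)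
    (h : FL (Ideal.span {a | a ∈ x :: l}) M) : FL (Ideal.span {a | a ∈ x ^ m :: l}) M := by
  intro p hp hJ
  apply h p hp
  rw [Ideal.span_le]
  intro a ha
  rcases List.mem_cons.mp ha with rfl | ha
  · exact p.isPrime.mem_of_pow_mem m (hJ (Ideal.subset_span List.mem_cons_self))
  · exact hJ (Ideal.subset_span (List.mem_cons_of_mem _ ha))

theorem chiK_pow_head (l : List A) (M : Type u) [AddCommGroup M] [Module A M] [Module.Finite A M]
    (x : A) (h : FL (Ideal.span {a | a ∈ x :: l}) M) :
    ∀ m : ℕ, chiK (x ^ m :: l) M = (m : ℤ) * chiK (x :: l) M := by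
  intro m
  induction m with
  | zero =>
    have h1 : FL (Ideal.span {a | a ∈ (1 : A) :: l}) M := by
      have := FL_pow_head 0 h
      rwa [pow_zero] at this
    have := chiK_mul_head l M 1 1 h1 h1
    rw [mul_one] at this
    rw [pow_zero, Nat.cast_zero, zero_mul]
    linarith
  | succ m ih =>
    have := chiK_mul_head l M (x ^ m) x (FL_pow_head m h) h
    rw [pow_succ, this, ih]
    push_cast
    ring

theorem FL_pow {L : List (A × ℕ)} {M : Type u} [AddCommGroup M] [Module A M]
    (h : FL (Ideal.span {a | a ∈ L.map Prod.fst}) M) :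
    FL (Ideal.span {a | a ∈ L.map (fun q => q.1 ^ q.2)}) M := by
  intro p hp hJ
  apply h p hp
  rw [Ideal.span_le]
  intro a ha
  obtain ⟨q, hq, rfl⟩ := List.mem_map.mp ha
  exact p.isPrime.mem_of_pow_mem q.2 (hJ (Ideal.subset_span (List.mem_map.mpr ⟨q, hq, rfl⟩)))

/-- `χ(x₁^{m₁}, …, x_k^{m_k}; M) = m₁ ⋯ m_k χ(x₁, …, x_k; M)` -/
theorem chiK_pow : ∀ (L : List (A × ℕ)) (M : Type u) [AddCommGroup M] [Module A M]
    [Module.Finite A M], FL (Ideal.span {a | a ∈ L.map Prod.fst}) M →
    chiK (L.map (fun q => q.1 ^ q.2)) M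
      = (L.map (fun q => (q.2 : ℤ))).prod * chiK (L.map Prod.fst) M := by
  intro L
  induction L with
  | nil =>
    intro M _ _ _ _
    simp
  | cons q L ih =>
    intro M _ _ _ h
    haveI : IsNoetherian A M := isNoetherian_of_isNoetherianRing_of_finite A M
    simp only [List.map_cons, List.prod_cons] at h ⊢
    have hp : FL (Ideal.span {a | a ∈ q.1 ^ q.2 :: L.map (fun q => q.1 ^ q.2)}) M :=
      FL_pow (L := q :: L) (by simpa using h)
    have hp' : FL (Ideal.span {a | a ∈ q.1 ^ q.2 :: L.map Prod.fst}) M := FL_pow_head q.2 h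
    rw [chiK_cons_eq_sub _ M (q.1 ^ q.2) hp,
      ih (QuotSMulTop (q.1 ^ q.2) M) (FL_quotSMulTop _ M _ hp'),
      ih (Submodule.torsionBy A M (q.1 ^ q.2)) (FL_torsionBy _ M _ hp'),
      ← mul_sub, ← chiK_cons_eq_sub _ M (q.1 ^ q.2) hp', chiK_pow_head _ M q.1 h q.2]
    ring

end Pow

end Groth.Agent.Helper6.KEuler
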