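import Mathlib
import Groth.Prelude
import Groth.Agent.Helper1.KoszulAcyclic
import Groth.Agent.Helper1.SupportDim
import Groth.Agent.Helper6.KEuler5

/-!
# Euler characteristics of Koszul complexes, part 6: vanishing and positivity by dimension
-/

set_option autoImplicit false
universe u

namespace Groth.Agent.Helper6.KEuler
open CategoryTheory Limits CochainComplex HomologicalComplex CohIII Pointwise IsLocalRing
open Groth.Agent.Helper1.Koszul

section WB

theorem exists_nat_of_add_one_eq {a : WithBot ℕ∞} {n : ℕ} (h : a + 1 = (n : WithBot ℕ∞)) :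
    ∃ q : ℕ, a = q ∧ q + 1 = n := by
  induction a using WithBot.recBotCoe with
  | bot => exact absurd h (by simp)
  | coe e =>
    induction e using ENat.recTopCoe with
    | top =>
      exfalso
      have : ((⊤ : ℕ∞) : WithBot ℕ∞) + 1 = ((⊤ + 1 : ℕ∞) : WithBot ℕ∞) := rfl
      rw [this, top_add] at h
      have h' : ((⊤ : ℕ∞) : WithBot ℕ∞) = ((n : ℕ∞) : WithBot ℕ∞) := h
      exact ENat.top_ne_natCast n (WithBot.coe_injective h')
    | coe q =>
      refine ⟨q, rfl, ?_⟩
      exact_mod_cast h

theorem exists_nat_of_le {a : WithBot ℕ∞} {n : ℕ} (h : a ≤ (n : WithBot ℕ∞)) (ha : a ≠ ⊥) :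
    ∃ m : ℕ, a = m := by
  induction a using WithBot.recBotCoe with
  | bot => exact absurd rfl ha
  | coe e =>
    induction e using ENat.recTopCoe with
    | top =>
      exfalso
      have h' : ((⊤ : ℕ∞) : WithBot ℕ∞) ≤ ((n : ℕ∞) : WithBot ℕ∞) := h
      rw [WithBot.coe_le_coe, top_le_iff] at h'
      exact ENat.natCast_ne_top n h'
    | coe q => exact ⟨q, rfl⟩

end WB

variable {A : Type u} [CommRing A]

section SuppDim

variable {M₁ M₂ M₃ : Type*} [AddCommGroup M₁] [Module A M₁] [AddCommGroup M₂] [Module A M₂]
  [AddCommGroup M₃] [Module A M₃]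

theorem supportDim_le_max_of_exact (f : M₁ →ₗ[A] M₂) (g : M₂ →ₗ[A] M₃)
    (hf : Function.Injective f) (hg : Function.Surjective g) (hex : Function.Exact f g) :
    Module.supportDim A M₂ ≤ max (Module.supportDim A M₁) (Module.supportDim A M₃) := by
  unfold Module.supportDim
  rw [Order.krullDim]
  apply iSup_le
  intro p
  have hhead : (p.head : PrimeSpectrum A) ∈ Module.support A M₁ ∪ Module.support A M₃ :=
    (Module.support_of_exact hex hf hg) ▸ p.head.2
  rcases hhead with h1 | h3
  · apply le_max_of_le_left
    let q : LTSeries (Module.support A M₁) :=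
      { length := p.length
        toFun := fun i => ⟨(p i).1, Module.mem_support_mono (LTSeries.head_le p i) h1⟩
        step := fun i => p.step i }
    exact Order.LTSeries.length_le_krullDim q
  · apply le_max_of_le_right
    let q : LTSeries (Module.support A M₃) :=
      { length := p.length
        toFun := fun i => ⟨(p i).1, Module.mem_support_mono (LTSeries.head_le p i) h3⟩
        step := fun i => p.step i }
    exact Order.LTSeries.length_le_krullDim q

end SuppDim

section Dim

variable [IsNoetherianRing A]

theorem isFiniteLength_quot_of_FL {J : Ideal A} {P : Type u} [AddCommGroup P] [Module A P]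
    [Module.Finite A P] (h : FL J P) : IsFiniteLength A (P ⧸ J • (⊤ : Submodule A P)) :=
  (h.of_surjective _ (Submodule.mkQ_surjective _)).isFiniteLength (by
    intro a ha
    rw [Module.mem_annihilator]
    intro q
    obtain ⟨m, rfl⟩ := Submodule.mkQ_surjective _ q
    rw [← map_smul, Submodule.mkQ_apply, Submodule.Quotient.mk_eq_zero]
    exact Submodule.smul_mem_smul ha Submodule.mem_top)

theorem supportDim_le_length_of_FL [IsLocalRing A] (l : List A)
    (hl : ∀ a ∈ l, a ∈ maximalIdeal A) (P : Type u) [AddCommGroup P] [Module A P]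
    [Module.Finite A P] (h : FL (Ideal.span {a | a ∈ l}) P) :
    Module.supportDim A P ≤ l.length :=
  Groth.Agent.Helper1.SupportDim.supportDim_le_length_of_isFiniteLength l P
    (fun r hr => by rw [IsLocalRing.ringJacobson_eq_maximalIdeal]; exact hl r hr)
    (isFiniteLength_quot_of_FL h)

omit [IsNoetherianRing A] in
theorem chiK_nil (M : Type u) [AddCommGroup M] [Module A M] :
    chiK ([] : List A) M = ((Module.length A M).toNat : ℤ) := by
  rw [chiK_eq_sum [] M 0 le_rfl]
  simp only [zero_add, Finset.range_one, Finset.sum_singleton, pow_zero, one_mul]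
  unfold hN
  have h0 : (-((0 : ℕ) : ℤ)) = 0 := by simp
  rw [h0]
  have e : KH ([] : List A) M 0 ≅ ModuleCat.of A M :=
    HomologicalComplex.singleObjHomologySelfIso (ComplexShape.up ℤ) 0 (ModuleCat.of A M)
  rw [e.toLinearEquiv.length_eq]

theorem chiK_cons_eq_quot_powTors (l : List A) (M : Type u) [AddCommGroup M] [Module A M]
    [Module.Finite A M] (x : A) (h : FL (Ideal.span {a | a ∈ x :: l}) M) :
    chiK (x :: l) M = chiK l (QuotSMulTop x (M ⧸ powTors x M)) := by
  haveI : IsNoetherian A M := isNoetherian_of_isNoetherianRing_of_finite A M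
  obtain ⟨k, hk⟩ := exists_pow_smul_powTors x M
  have hNk : ∀ n : powTors x M, x ^ k • n = 0 := fun n => Subtype.ext (hk n.1 n.2)
  have hN : FL (Ideal.span {a | a ∈ x :: l}) (powTors x M) :=
    h.of_injective _ (Submodule.subtype_injective _)
  have s1 := chiK_additive (x :: l) (powTors x M).subtype (powTors x M).mkQ
    (Submodule.subtype_injective _) (Submodule.mkQ_surjective _) (LinearMap.exact_subtype_mkQ _) h
  have s1a := chiK_cons_eq_zero_of_pow_smul_eq_zero l x k (powTors x M) hN hNk
  have s1b := chiK_cons_of_regular l (M ⧸ powTors x M) x (isSMulRegular_quot_powTors x M)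
  rw [s1, s1a, s1b, zero_add]

/-- vanishing (`dim M < r`) and positivity (`dim M = r`) of the Koszul Euler characteristic -/
theorem chiK_dim [IsLocalRing A] : ∀ (l : List A), (∀ a ∈ l, a ∈ maximalIdeal A) →
    ∀ (M : Type u) [AddCommGroup M] [Module A M] [Module.Finite A M],
    FL (Ideal.span {a | a ∈ l}) M → ∀ n : ℕ, Module.supportDim A M = n →
    (n < l.length → chiK l M = 0) ∧ (n = l.length → 0 < chiK l M) := by
  intro l
  induction l with
  | nil =>
    intro _ M _ _ _ h n hn
    refine ⟨fun h0 => absurd h0 (Nat.not_lt_zero _), fun _ => ?_⟩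
    rw [chiK_nil]
    have hfl : IsFiniteLength A M := h.isFiniteLength (by
      rw [Ideal.span_le]
      intro a ha
      exact absurd ha List.not_mem_nil)
    have h1 : Module.length A M ≠ ⊤ := Module.length_ne_top_iff.mpr hfl
    haveI : Nontrivial M := by
      rw [← Module.supportDim_ne_bot_iff_nontrivial A, hn]
      exact WithBot.coe_ne_bot
    have h2 : Module.length A M ≠ 0 := (Module.length_pos (R := A) (M := M)).ne'
    have h3 : (Module.length A M).toNat ≠ 0 := by
      rw [Ne, ENat.toNat_eq_zero]
      push Not
      exact ⟨h2, h1⟩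
    have : 0 < (Module.length A M).toNat := Nat.pos_of_ne_zero h3
    exact_mod_cast this
  | cons x l ih =>
    intro hl M _ _ _ h n hn
    haveI : IsNoetherian A M := isNoetherian_of_isNoetherianRing_of_finite A M
    have hx : x ∈ maximalIdeal A := hl x List.mem_cons_self
    have hl' : ∀ a ∈ l, a ∈ maximalIdeal A := fun a ha => hl a (List.mem_cons_of_mem _ ha)
    obtain ⟨k, hk⟩ := exists_pow_smul_powTors x M
    have hNk : ∀ n : powTors x M, x ^ k • n = 0 := fun n => Subtype.ext (hk n.1 n.2)
    have hN : FL (Ideal.span {a | a ∈ x :: l}) (powTors x M) :=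
      h.of_injective _ (Submodule.subtype_injective _)
    have hNl : FL (Ideal.span {a | a ∈ l}) (powTors x M) := FL_of_killed hN k hNk
    have hdimN : Module.supportDim A (powTors x M) ≤ l.length :=
      supportDim_le_length_of_FL l hl' _ hNl
    have hMb : FL (Ideal.span {a | a ∈ x :: l}) (M ⧸ powTors x M) :=
      h.of_surjective _ (Submodule.mkQ_surjective _)
    have hQ : FL (Ideal.span {a | a ∈ l}) (QuotSMulTop x (M ⧸ powTors x M)) :=
      FL_quotSMulTop l _ x hMb
    have hmax := supportDim_le_max_of_exact (powTors x M).subtype (powTors x M).mkQ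
      (Submodule.subtype_injective _) (Submodule.mkQ_surjective _) (LinearMap.exact_subtype_mkQ _)
    have hreg := isSMulRegular_quot_powTors x M
    rw [chiK_cons_eq_quot_powTors l M x h]
    by_cases hsub : Subsingleton (M ⧸ powTors x M)
    · have hbot : Module.supportDim A (M ⧸ powTors x M) = ⊥ :=
        Module.supportDim_eq_bot_of_subsingleton _ _
      rw [hbot, max_bot_right, hn] at hmax
      have hle : (n : WithBot ℕ∞) ≤ (l.length : WithBot ℕ∞) := hmax.trans hdimN
      have hle' : n ≤ l.length := by exact_mod_cast hle
      constructor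
      · intro _
        haveI : Subsingleton (QuotSMulTop x (M ⧸ powTors x M)) :=
          (Submodule.mkQ_surjective _).subsingleton
        exact chiK_eq_zero_of_subsingleton l _
      · intro hn'
        simp only [List.length_cons] at hn'
        omega
    · rw [not_subsingleton_iff_nontrivial] at hsub
      have hsucc := Module.supportDim_quotSMulTop_succ_eq_supportDim hreg hx
      have hMble : Module.supportDim A (M ⧸ powTors x M) ≤ (n : WithBot ℕ∞) :=
        hn ▸ Module.supportDim_le_of_surjective (powTors x M).mkQ (Submodule.mkQ_surjective _)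
      have hMbne : Module.supportDim A (M ⧸ powTors x M) ≠ ⊥ :=
        Module.supportDim_ne_bot_of_nontrivial _ _
      obtain ⟨nb, hnb⟩ := exists_nat_of_le hMble hMbne
      rw [hnb] at hsucc hMble hmax
      obtain ⟨q, hq, hqn⟩ := exists_nat_of_add_one_eq hsucc
      have hnbn : nb ≤ n := by exact_mod_cast hMble
      obtain ⟨ih1, ih2⟩ := ih hl' (QuotSMulTop x (M ⧸ powTors x M)) hQ q hq
      constructor
      · intro hlt
        simp only [List.length_cons] at hlt
        exact ih1 (by omega)
      · intro heq
        simp only [List.length_cons] at heq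
        apply ih2
        rw [hn] at hmax
        rcases le_max_iff.mp hmax with h' | h'
        · have h2 : (n : WithBot ℕ∞) ≤ (l.length : WithBot ℕ∞) := h'.trans hdimN
          have h3 : n ≤ l.length := by exact_mod_cast h2
          omega
        · have h3 : n ≤ nb := by exact_mod_cast h'
          omega

end Dim

end Groth.Agent.Helper6.KEuler
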