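import Mathlib
import Groth.Prelude
import Groth.Agent.Helper1.KoszulAcyclic
import Groth.Agent.Helper6.KEuler6

/-!
# Euler characteristics of Koszul complexes, part 7: the rank formula over a domain
-/

set_option autoImplicit false
universe u

namespace Groth.Agent.Helper6.KEuler
open CategoryTheory Limits CochainComplex HomologicalComplex CohIII Pointwise IsLocalRing
open Groth.Agent.Helper1.Koszul TensorProduct

section WB

theorem lt_of_add_one_le {a : WithBot ℕ∞} {d : ℕ} (h : a + 1 ≤ (d : WithBot ℕ∞)) :
    a < (d : WithBot ℕ∞) := by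
  induction a using WithBot.recBotCoe with
  | bot => exact WithBot.bot_lt_coe _
  | coe e =>
    induction e using ENat.recTopCoe with
    | top =>
      exfalso
      have : ((⊤ : ℕ∞) : WithBot ℕ∞) + 1 = ((⊤ + 1 : ℕ∞) : WithBot ℕ∞) := rfl
      rw [this, top_add] at h
      have h' : ((⊤ : ℕ∞) : WithBot ℕ∞) ≤ ((d : ℕ∞) : WithBot ℕ∞) := h
      rw [WithBot.coe_le_coe, top_le_iff] at h'
      exact ENat.natCast_ne_top d h'
    | coe q =>
      have h' : q + 1 ≤ d := by exact_mod_cast h
      have : q < d := h'
      exact_mod_cast this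

end WB

variable {A : Type u} [CommRing A]

section Vanish

variable [IsNoetherianRing A] [IsLocalRing A]

theorem chiK_eq_zero_of_supportDim_lt (l : List A) (hl : ∀ a ∈ l, a ∈ maximalIdeal A)
    (M : Type u) [AddCommGroup M] [Module A M] [Module.Finite A M]
    (h : FL (Ideal.span {a | a ∈ l}) M)
    (hdim : Module.supportDim A M < (l.length : WithBot ℕ∞)) : chiK l M = 0 := by
  by_cases hsub : Subsingleton M
  · exact chiK_eq_zero_of_subsingleton _ M
  · rw [not_subsingleton_iff_nontrivial] at hsub
    obtain ⟨n, hn⟩ := exists_nat_of_le hdim.le (Module.supportDim_ne_bot_of_nontrivial A M)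
    have hlt : n < l.length := by
      rw [hn] at hdim
      exact_mod_cast hdim
    exact (chiK_dim l hl M h n hn).1 hlt

end Vanish

section Rank

variable [IsDomain A]

local notation "K" => FractionRing A

theorem subsingleton_tensor_of_smul_eq_zero (N : Type u) [AddCommGroup N] [Module A N] (a : A)
    (ha : a ≠ 0) (h : ∀ n : N, a • n = 0) : Subsingleton (K ⊗[A] N) := by
  have ha' : algebraMap A K a ≠ 0 := by
    rw [Ne, IsFractionRing.to_map_eq_zero_iff]
    exact ha
  have key : ∀ s : K ⊗[A] N, s = 0 := by
    intro s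
    induction s using TensorProduct.induction_on with
    | zero => rfl
    | tmul k n =>
      have : k = a • (k * (algebraMap A K a)⁻¹) := by
        rw [Algebra.smul_def]
        field_simp
      rw [this, TensorProduct.smul_tmul, h, TensorProduct.tmul_zero]
    | add s t hs ht => rw [hs, ht, add_zero]
  exact ⟨fun s t => by rw [key s, key t]⟩

theorem finrank_tensor_eq_one_of_equiv (N : Type u) [AddCommGroup N] [Module A N]
    (e : N ≃ₗ[A] A) : Module.finrank K (K ⊗[A] N) = 1 := by
  have e1 : K ⊗[A] N ≃ₗ[K] K ⊗[A] A :=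
    TensorProduct.AlgebraTensorModule.congr (LinearEquiv.refl K K) e
  have e2 : K ⊗[A] A ≃ₗ[K] K := TensorProduct.AlgebraTensorModule.rid A K K
  rw [(e1.trans e2).finrank_eq, Module.finrank_self]

theorem finrank_tensor_of_exact {N₁ N₂ N₃ : Type u} [AddCommGroup N₁] [Module A N₁]
    [AddCommGroup N₂] [Module A N₂] [Module.Finite A N₂] [AddCommGroup N₃] [Module A N₃]
    (f : N₁ →ₗ[A] N₂) (g : N₂ →ₗ[A] N₃) (hf : Function.Injective f) (hg : Function.Surjective g)
    (hex : Function.Exact f g) :
    Module.finrank K (K ⊗[A] N₂) = Module.finrank K (K ⊗[A] N₁) + Module.finrank K (K ⊗[A] N₃) := by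
  have hF : Function.Injective (f.baseChange K) := by
    rw [LinearMap.baseChange_eq_ltensor]
    exact Module.Flat.lTensor_preserves_injective_linearMap f hf
  have hG : Function.Surjective (g.baseChange K) := by
    rw [LinearMap.baseChange_eq_ltensor]
    exact LinearMap.lTensor_surjective K hg
  have hE : Function.Exact (f.baseChange K) (g.baseChange K) := by
    rw [LinearMap.baseChange_eq_ltensor, LinearMap.baseChange_eq_ltensor]
    exact lTensor_exact K hex hg
  have h1 := LinearMap.finrank_range_add_finrank_ker (g.baseChange K)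
  rw [LinearMap.range_eq_top.mpr hG, finrank_top, LinearMap.exact_iff.mp hE,
    LinearMap.finrank_range_of_inj hF] at h1
  omega

end Rank

section Main

variable [IsNoetherianRing A] [IsLocalRing A] [IsDomain A]

local notation "K" => FractionRing A

theorem chiK_eq_rank_mul (d : ℕ) (hd : ringKrullDim A = d) (l : List A) (hlen : l.length = d)
    (hl : ∀ a ∈ l, a ∈ maximalIdeal A)
    (hsop : IsFiniteLength A (A ⧸ Ideal.span {a | a ∈ l}))
    (M : Type u) [AddCommGroup M] [Module A M] [hM : Module.Finite A M] :
    chiK l M = (Module.finrank K (K ⊗[A] M) : ℤ) * chiK l A := by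
  have hJmax : ∀ p : PrimeSpectrum A, Ideal.span {a | a ∈ l} ≤ p.asIdeal → p.asIdeal.IsMaximal := by
    intro p hp
    apply support_maximal_of_isFiniteLength hsop p
    rw [Module.support_eq_zeroLocus, Ideal.annihilator_quotient, PrimeSpectrum.mem_zeroLocus]
    exact hp
  have hFL : ∀ (P : Type u) [AddCommGroup P] [Module A P], FL (Ideal.span {a | a ∈ l}) P :=
    fun P _ _ p _ hJ => hJmax p hJ
  induction hM using IsNoetherianRing.induction_on_isQuotientEquivQuotientPrime A with
  | subsingleton N =>
    rw [chiK_eq_zero_of_subsingleton l N]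
    haveI : Subsingleton (K ⊗[A] N) :=
      subsingleton_tensor_of_smul_eq_zero N 1 one_ne_zero (fun n => Subsingleton.elim _ _)
    rw [Module.finrank_zero_of_subsingleton]
    simp
  | quotient N q e =>
    by_cases hq : q.asIdeal = ⊥
    · have e' : N ≃ₗ[A] A := e.trans (Submodule.quotEquivOfEqBot _ hq)
      rw [finrank_tensor_eq_one_of_equiv N e', chiK_congr l N e']
      simp
    · obtain ⟨a, haq, ha0⟩ := Submodule.exists_mem_ne_zero_of_ne_bot hq
      have hkill : ∀ n : N, a • n = 0 := by
        intro n
        apply e.injective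
        rw [map_smul, map_zero]
        obtain ⟨b, hb⟩ := Ideal.Quotient.mk_surjective (e n)
        rw [← hb, ← Ideal.Quotient.mk_eq_mk, ← Submodule.Quotient.mk_smul,
          Submodule.Quotient.mk_eq_zero]
        exact q.asIdeal.mul_mem_right _ haq
      haveI : Subsingleton (K ⊗[A] N) := subsingleton_tensor_of_smul_eq_zero N a ha0 hkill
      rw [Module.finrank_zero_of_subsingleton]
      simp only [Nat.cast_zero, zero_mul]
      apply chiK_eq_zero_of_supportDim_lt l hl N (hFL N)
      rw [hlen, Module.supportDim_eq_of_equiv e, Module.supportDim_quotient_eq_ringKrullDim]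
      apply lt_of_add_one_le
      have hle : Ideal.span {a} ≤ q.asIdeal := (Ideal.span_singleton_le_iff_mem _).mpr haq
      have h1 : ringKrullDim (A ⧸ q.asIdeal) ≤ ringKrullDim (A ⧸ Ideal.span {a}) :=
        ringKrullDim_le_of_surjective (Ideal.Quotient.factor hle)
          (Ideal.Quotient.factor_surjective hle)
      have h2 := ringKrullDim_quotient_succ_le_of_nonZeroDivisor
        (mem_nonZeroDivisors_of_ne_zero ha0)
      rw [hd] at h2
      exact (add_le_add_left h1 1).trans h2
  | exact N₁ N₂ N₃ f g hf hg hex h₁ h₃ =>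
    rw [chiK_additive l f g hf hg hex (hFL N₂), h₁, h₃, finrank_tensor_of_exact f g hf hg hex]
    push_cast
    ring

end Main

end Groth.Agent.Helper6.KEuler
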