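import Mathlib
import Groth.Prelude
import Groth.Agent.Helper1.KoszulAcyclic
import Groth.Agent.Helper6.KEuler7

/-!
# Polynomial bounds for the lengths of Koszul homology of powers
-/

set_option autoImplicit false
set_option linter.style.haveILetI false
universe u v w

namespace Groth.Agent.Helper6.KPoly
open CategoryTheory Limits CochainComplex HomologicalComplex CohIII Pointwise IsLocalRing
open Groth.Agent.Helper1.Koszul Groth.Agent.Helper6.KEuler

section Lengths

variable {A : Type u} [CommRing A]
variable {X : Type v} {Y : Type w} {Z : Type*} [AddCommGroup X] [Module A X] [AddCommGroup Y]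
  [Module A Y] [AddCommGroup Z] [Module A Z]

theorem length_le_add_of_exact (f : X →ₗ[A] Y) (g : Y →ₗ[A] Z) (h : Function.Exact f g) :
    Module.length A Y ≤ Module.length A X + Module.length A Z := by
  rw [length_eq_range_add_range f g h]
  exact add_le_add (Module.length_le_of_surjective f.rangeRestrict f.surjective_rangeRestrict)
    (Module.length_le_of_injective (LinearMap.range g).subtype (Submodule.subtype_injective _))

end Lengths

section Scalar

variable {A : Type u} [CommRing A] (H : Type v) [AddCommGroup H] [Module A H]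

theorem kerLen_le (z : A) : kerLen H z ≤ Module.length A H :=
  Module.length_le_of_injective (LinearMap.ker (z • (LinearMap.id : H →ₗ[A] H))).subtype
    (Submodule.subtype_injective _)

theorem cokLen_le (z : A) : cokLen H z ≤ Module.length A H :=
  Module.length_le_of_surjective (LinearMap.range (z • (LinearMap.id : H →ₗ[A] H))).mkQ
    (Submodule.mkQ_surjective _)

theorem kerLen_mul_le (x y : A) : kerLen H (x * y) ≤ kerLen H y + kerLen H x := by
  have hle : LinearMap.ker (y • (LinearMap.id : H →ₗ[A] H))
      ≤ LinearMap.ker ((x * y) • (LinearMap.id : H →ₗ[A] H)) := by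
    intro m hm
    have hm' : y • m = 0 := hm
    show (x * y) • m = 0
    rw [mul_smul, hm', smul_zero]
  let g : LinearMap.ker ((x * y) • (LinearMap.id : H →ₗ[A] H)) →ₗ[A]
      LinearMap.ker (x • (LinearMap.id : H →ₗ[A] H)) :=
    LinearMap.codRestrict _ ((y • (LinearMap.id : H →ₗ[A] H)) ∘ₗ
      (LinearMap.ker ((x * y) • (LinearMap.id : H →ₗ[A] H))).subtype) (by
      rintro ⟨m, hm⟩
      have hm' : (x * y) • m = 0 := hm
      show x • (y • m) = 0
      rw [← mul_smul]
      exact hm')
  have hex : Function.Exact (Submodule.inclusion hle) g := by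
    rintro ⟨m, hm⟩
    constructor
    · intro h0
      have h1 : y • m = 0 := congrArg Subtype.val h0
      exact ⟨⟨m, h1⟩, Subtype.ext rfl⟩
    · rintro ⟨⟨m', hm'⟩, h⟩
      have hmm : m' = m := congrArg Subtype.val h
      subst hmm
      apply Subtype.ext
      exact hm'
  exact length_le_add_of_exact _ _ hex

theorem cokLen_mul_le (x y : A) : cokLen H (x * y) ≤ cokLen H y + cokLen H x := by
  have hle1 : LinearMap.range (y • (LinearMap.id : H →ₗ[A] H)) ≤
      Submodule.comap (x • (LinearMap.id : H →ₗ[A] H))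
        (LinearMap.range ((x * y) • (LinearMap.id : H →ₗ[A] H))) := by
    rintro _ ⟨m, rfl⟩
    exact ⟨m, mul_smul x y m⟩
  have hle2 : LinearMap.range ((x * y) • (LinearMap.id : H →ₗ[A] H)) ≤
      Submodule.comap (LinearMap.id : H →ₗ[A] H)
        (LinearMap.range (x • (LinearMap.id : H →ₗ[A] H))) := by
    rintro _ ⟨m, rfl⟩
    exact ⟨y • m, (mul_smul x y m).symm⟩
  have hex : Function.Exact (Submodule.mapQ _ _ _ hle1) (Submodule.mapQ _ _ _ hle2) := by
    intro q
    obtain ⟨m, rfl⟩ := Submodule.mkQ_surjective _ q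
    constructor
    · intro h0
      rw [Submodule.mkQ_apply, Submodule.mapQ_apply, LinearMap.id_apply,
        Submodule.Quotient.mk_eq_zero] at h0
      obtain ⟨m', hm'⟩ := h0
      refine ⟨Submodule.Quotient.mk m', ?_⟩
      rw [Submodule.mapQ_apply, Submodule.mkQ_apply]
      exact congrArg _ hm'
    · rintro ⟨q', h⟩
      obtain ⟨m', rfl⟩ := Submodule.mkQ_surjective _ q'
      rw [← h, Submodule.mkQ_apply, Submodule.mapQ_apply, Submodule.mapQ_apply,
        LinearMap.id_apply, Submodule.Quotient.mk_eq_zero]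
      exact ⟨m', rfl⟩
  exact length_le_add_of_exact _ _ hex

theorem kerLen_pow_le (z : A) (n : ℕ) : kerLen H (z ^ n) ≤ (n : ℕ∞) * kerLen H z := by
  induction n with
  | zero =>
    have h0 : kerLen H (z ^ 0) = 0 := by
      unfold kerLen
      rw [pow_zero, one_smul, LinearMap.ker_id]
      exact Module.length_eq_zero
    rw [h0]
    exact zero_le
  | succ n ih =>
    rw [pow_succ]
    calc kerLen H (z ^ n * z) ≤ kerLen H z + kerLen H (z ^ n) := kerLen_mul_le H _ _
      _ ≤ kerLen H z + (n : ℕ∞) * kerLen H z := add_le_add le_rfl ih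
      _ = ((n + 1 : ℕ) : ℕ∞) * kerLen H z := by push_cast; ring

theorem cokLen_pow_le (z : A) (n : ℕ) : cokLen H (z ^ n) ≤ (n : ℕ∞) * cokLen H z := by
  induction n with
  | zero =>
    have h0 : cokLen H (z ^ 0) = 0 := by
      unfold cokLen
      rw [pow_zero, one_smul, LinearMap.range_id]
      haveI : Subsingleton (H ⧸ (⊤ : Submodule A H)) :=
        Submodule.Quotient.subsingleton_iff.mpr rfl
      exact Module.length_eq_zero
    rw [h0]
    exact zero_le
  | succ n ih =>
    rw [pow_succ]
    calc cokLen H (z ^ n * z) ≤ cokLen H z + cokLen H (z ^ n) := cokLen_mul_le H _ _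
      _ ≤ cokLen H z + (n : ℕ∞) * cokLen H z := add_le_add le_rfl ih
      _ = ((n + 1 : ℕ) : ℕ∞) * cokLen H z := by push_cast; ring

end Scalar

section KHlen

variable {A : Type u} [CommRing A]

theorem length_KH_cons_pow_le (l : List A) (M : Type u) [AddCommGroup M] [Module A M] (z : A)
    (n : ℕ) (j : ℤ) :
    Module.length A (KH (z ^ n :: l) M j) ≤ (n : ℕ∞) * Module.length A (KH (z :: l) M j) := by
  rw [length_KH_cons, length_KH_cons, mul_add]
  exact add_le_add (cokLen_pow_le _ z n) (kerLen_pow_le _ z n)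

theorem length_KH_cons_le (l : List A) (M : Type u) [AddCommGroup M] [Module A M] (z : A)
    (j : ℤ) :
    Module.length A (KH (z :: l) M j)
      ≤ Module.length A (KH l M j) + Module.length A (KH l M (j + 1)) := by
  rw [length_KH_cons]
  exact add_le_add (cokLen_le _ z) (kerLen_le _ z)

theorem length_KH_le_of_exact (l : List A) {M₁ M₂ M₃ : Type u} [AddCommGroup M₁] [Module A M₁]
    [AddCommGroup M₂] [Module A M₂] [AddCommGroup M₃] [Module A M₃]
    (f : M₁ →ₗ[A] M₂) (g : M₂ →ₗ[A] M₃) (hf : Function.Injective f) (hg : Function.Surjective g)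
    (hex : Function.Exact f g) (j : ℤ) :
    Module.length A (KH l M₂ j) ≤ Module.length A (KH l M₁ j) + Module.length A (KH l M₃ j) :=
  length_le_add_of_exact _ _ (exact_FG l f g hf hg hex j)

theorem length_KH_cons_of_regular (l : List A) (M : Type u) [AddCommGroup M] [Module A M] (z : A)
    (hz : IsSMulRegular M z) (j : ℤ) :
    Module.length A (KH (z :: l) M j) = Module.length A (KH l (QuotSMulTop z M) j) := by
  obtain ⟨e⟩ := nonempty_homology_iso_of_regular M z hz l j
  exact e.toLinearEquiv.length_eq

theorem length_KH_nil_le (M : Type u) [AddCommGroup M] [Module A M] (j : ℤ) :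
    Module.length A (KH ([] : List A) M j) ≤ Module.length A M := by
  by_cases hj : j = 0
  · subst hj
    have e : KH ([] : List A) M 0 ≅ ModuleCat.of A M :=
      HomologicalComplex.singleObjHomologySelfIso (ComplexShape.up ℤ) 0 (ModuleCat.of A M)
    rw [e.toLinearEquiv.length_eq]
  · haveI : Subsingleton (KH ([] : List A) M j) := ModuleCat.isZero_iff_subsingleton.1
      (isZero_homology_of_isZero_X j (HomologicalComplex.isZero_single_obj_X _ _ _ _ hj))
    rw [Module.length_eq_zero]
    exact zero_le

theorem length_KH_eq_zero_of_subsingleton (l : List A) (M : Type u) [AddCommGroup M] [Module A M]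
    [Subsingleton M] (j : ℤ) : Module.length A (KH l M j) = 0 := by
  have : Subsingleton (KH l M j) := by
    refine ⟨fun a b => ?_⟩
    have ha := smul_KH_eq_zero_of_ann l M (1 : A) (fun m => Subsingleton.elim _ _) j a
    have hb := smul_KH_eq_zero_of_ann l M (1 : A) (fun m => Subsingleton.elim _ _) j b
    rw [one_smul] at ha hb
    rw [ha, hb]
  exact Module.length_eq_zero

end KHlen

section PolyBd

/-- `a n ≤ c n^e` for all `n > 0` -/
def PolyBd (a : ℕ → ℕ∞) (e : ℕ) : Prop :=
  ∃ c : ℕ, ∀ n : ℕ, 0 < n → a n ≤ ((c * n ^ e : ℕ) : ℕ∞)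

variable {a b : ℕ → ℕ∞} {e e' : ℕ}

theorem PolyBd.mono (h : PolyBd b e) (hab : ∀ n, 0 < n → a n ≤ b n) : PolyBd a e := by
  obtain ⟨c, hc⟩ := h
  exact ⟨c, fun n hn => (hab n hn).trans (hc n hn)⟩

theorem PolyBd.mono_exp (h : PolyBd a e) (he : e ≤ e') : PolyBd a e' := by
  obtain ⟨c, hc⟩ := h
  refine ⟨c, fun n hn => (hc n hn).trans ?_⟩
  exact_mod_cast Nat.mul_le_mul_left c (Nat.pow_le_pow_right hn he)

theorem PolyBd.add (ha : PolyBd a e) (hb : PolyBd b e) : PolyBd (fun n => a n + b n) e := by
  obtain ⟨c, hc⟩ := ha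
  obtain ⟨d, hd⟩ := hb
  refine ⟨c + d, fun n hn => ?_⟩
  calc a n + b n ≤ ((c * n ^ e : ℕ) : ℕ∞) + ((d * n ^ e : ℕ) : ℕ∞) :=
        add_le_add (hc n hn) (hd n hn)
    _ = (((c + d) * n ^ e : ℕ) : ℕ∞) := by rw [← Nat.cast_add, add_mul]

theorem PolyBd.of_eq_zero (e : ℕ) (h : ∀ n, 0 < n → a n = 0) : PolyBd a e :=
  ⟨0, fun n hn => by rw [h n hn]; exact zero_le⟩

theorem PolyBd.of_le_const (e : ℕ) (c : ℕ) (h : ∀ n, 0 < n → a n ≤ (c : ℕ∞)) : PolyBd a e := by
  refine ⟨c, fun n hn => (h n hn).trans ?_⟩
  have h1 : 1 ≤ n ^ e := Nat.one_le_pow _ _ hn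
  exact_mod_cast Nat.le_mul_of_pos_right c h1

theorem PolyBd.nat_mul (h : PolyBd a e) : PolyBd (fun n => (n : ℕ∞) * a n) (e + 1) := by
  obtain ⟨c, hc⟩ := h
  refine ⟨c, fun n hn => ?_⟩
  calc (n : ℕ∞) * a n ≤ (n : ℕ∞) * ((c * n ^ e : ℕ) : ℕ∞) := by
        gcongr
        exact hc n hn
    _ = ((c * n ^ (e + 1) : ℕ) : ℕ∞) := by
        rw [← Nat.cast_mul]
        congr 1
        ring

end PolyBd

section Main

variable {A : Type u} [CommRing A] [IsNoetherianRing A]

/-- `ℓ(H_i(x₁ⁿ, …, x_kⁿ; M)) ≤ c n^{k - i}` -/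
theorem polyBd_KH : ∀ (l : List A) (M : Type u) [AddCommGroup M] [Module A M] [Module.Finite A M],
    FL (Ideal.span {a | a ∈ l}) M → ∀ i : ℕ,
    PolyBd (fun n => Module.length A (KH (l.map (· ^ n)) M (-(i : ℤ)))) (l.length - i) := by
  intro l
  induction l with
  | nil =>
    intro M _ _ _ h i
    have hfl : IsFiniteLength A M := h.isFiniteLength (by
      rw [Ideal.span_le]
      intro a ha
      exact absurd ha List.not_mem_nil)
    have h1 : Module.length A M ≠ ⊤ := Module.length_ne_top_iff.mpr hfl
    apply PolyBd.of_le_const _ (Module.length A M).toNat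
    intro n _
    rw [ENat.natCast_toNat h1]
    exact length_KH_nil_le M _
  | cons z l ih =>
    intro M _ _ _ h i
    haveI : IsNoetherian A M := isNoetherian_of_isNoetherianRing_of_finite A M
    obtain ⟨k, hk⟩ := exists_pow_smul_powTors z M
    have hNk : ∀ n : powTors z M, z ^ k • n = 0 := fun n => Subtype.ext (hk n.1 n.2)
    have hN : FL (Ideal.span {a | a ∈ z :: l}) (powTors z M) :=
      h.of_injective _ (Submodule.subtype_injective _)
    have hNl : FL (Ideal.span {a | a ∈ l}) (powTors z M) := FL_of_killed hN k hNk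
    have hMb : FL (Ideal.span {a | a ∈ z :: l}) (M ⧸ powTors z M) :=
      h.of_surjective _ (Submodule.mkQ_surjective _)
    have hQ : FL (Ideal.span {a | a ∈ l}) (QuotSMulTop z (M ⧸ powTors z M)) :=
      FL_quotSMulTop l _ z hMb
    have hreg := isSMulRegular_quot_powTors z M
    have b1 : PolyBd (fun n => Module.length A (KH (l.map (· ^ n)) (powTors z M) (-(i : ℤ))))
        ((z :: l).length - i) :=
      (ih (powTors z M) hNl i).mono_exp (by simp only [List.length_cons]; omega)
    have b2 : PolyBd (fun n => Module.length A (KH (l.map (· ^ n)) (powTors z M) (-(i : ℤ) + 1)))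
        ((z :: l).length - i) := by
      rcases Nat.eq_zero_or_pos i with hi | hi
      · apply PolyBd.of_eq_zero
        intro n _
        exact length_KH_eq_zero_of_pos _ _ _ (by rw [hi]; simp)
      · obtain ⟨i', rfl⟩ : ∃ i', i = i' + 1 := ⟨i - 1, by omega⟩
        have hidx : (-((i' + 1 : ℕ) : ℤ) + 1) = -(i' : ℤ) := by push_cast; ring
        have he : (z :: l).length - (i' + 1) = l.length - i' := by
          simp only [List.length_cons]
          omega
        rw [hidx, he]
        exact ih (powTors z M) hNl i'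
    have b3 : PolyBd (fun n => (n : ℕ∞) * Module.length A
        (KH (l.map (· ^ n)) (QuotSMulTop z (M ⧸ powTors z M)) (-(i : ℤ))))
        ((z :: l).length - i) := by
      by_cases hi : i ≤ l.length
      · have he : (z :: l).length - i = l.length - i + 1 := by
          simp only [List.length_cons]
          omega
        rw [he]
        exact (ih (QuotSMulTop z (M ⧸ powTors z M)) hQ i).nat_mul
      · apply PolyBd.of_eq_zero
        intro n _
        have hz : Module.length A
            (KH (l.map (· ^ n)) (QuotSMulTop z (M ⧸ powTors z M)) (-(i : ℤ))) = 0 :=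
          length_KH_eq_zero_of_lt _ _ _ (by rw [List.length_map]; omega)
        show (n : ℕ∞) * Module.length A
            (KH (l.map (· ^ n)) (QuotSMulTop z (M ⧸ powTors z M)) (-(i : ℤ))) = 0
        rw [hz, mul_zero]
    refine ((b1.add b2).add b3).mono ?_
    intro n hn
    show Module.length A (KH ((z :: l).map (· ^ n)) M (-(i : ℤ))) ≤
      (Module.length A (KH (l.map (· ^ n)) (powTors z M) (-(i : ℤ)))
        + Module.length A (KH (l.map (· ^ n)) (powTors z M) (-(i : ℤ) + 1)))
      + (n : ℕ∞) * Module.length A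
          (KH (l.map (· ^ n)) (QuotSMulTop z (M ⧸ powTors z M)) (-(i : ℤ)))
    rw [List.map_cons, ← length_KH_cons_of_regular _ _ z hreg]
    exact (length_KH_le_of_exact _ (powTors z M).subtype (powTors z M).mkQ
      (Submodule.subtype_injective _) (Submodule.mkQ_surjective _)
      (LinearMap.exact_subtype_mkQ _) _).trans
      (add_le_add (length_KH_cons_le _ _ _ _) (length_KH_cons_pow_le _ _ z n _))

end Main

section Dim

variable {A : Type u} [CommRing A] [IsNoetherianRing A] [IsLocalRing A]

/-- `ℓ(H^j(x₁ⁿ, …, x_kⁿ; M)) ≤ c n^d` when `dim M ≤ d` -/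
theorem polyBd_KH_dim : ∀ (l : List A), (∀ a ∈ l, a ∈ maximalIdeal A) →
    ∀ (M : Type u) [AddCommGroup M] [Module A M] [Module.Finite A M],
    FL (Ideal.span {a | a ∈ l}) M → ∀ d : ℕ, Module.supportDim A M ≤ (d : WithBot ℕ∞) →
    ∀ j : ℤ, PolyBd (fun n => Module.length A (KH (l.map (· ^ n)) M j)) d := by
  intro l
  induction l with
  | nil =>
    intro _ M _ _ _ h d _ j
    have hfl : IsFiniteLength A M := h.isFiniteLength (by
      rw [Ideal.span_le]
      intro a ha
      exact absurd ha List.not_mem_nil)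
    have h1 : Module.length A M ≠ ⊤ := Module.length_ne_top_iff.mpr hfl
    apply PolyBd.of_le_const _ (Module.length A M).toNat
    intro n _
    rw [ENat.natCast_toNat h1]
    exact length_KH_nil_le M _
  | cons z l ih =>
    intro hl M _ _ _ h d hd j
    haveI : IsNoetherian A M := isNoetherian_of_isNoetherianRing_of_finite A M
    have hz : z ∈ maximalIdeal A := hl z List.mem_cons_self
    have hl' : ∀ a ∈ l, a ∈ maximalIdeal A := fun a ha => hl a (List.mem_cons_of_mem _ ha)
    obtain ⟨k, hk⟩ := exists_pow_smul_powTors z M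
    have hNk : ∀ n : powTors z M, z ^ k • n = 0 := fun n => Subtype.ext (hk n.1 n.2)
    have hN : FL (Ideal.span {a | a ∈ z :: l}) (powTors z M) :=
      h.of_injective _ (Submodule.subtype_injective _)
    have hNl : FL (Ideal.span {a | a ∈ l}) (powTors z M) := FL_of_killed hN k hNk
    have hMb : FL (Ideal.span {a | a ∈ z :: l}) (M ⧸ powTors z M) :=
      h.of_surjective _ (Submodule.mkQ_surjective _)
    have hQ : FL (Ideal.span {a | a ∈ l}) (QuotSMulTop z (M ⧸ powTors z M)) :=
      FL_quotSMulTop l _ z hMb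
    have hreg := isSMulRegular_quot_powTors z M
    have hdN : Module.supportDim A (powTors z M) ≤ (d : WithBot ℕ∞) :=
      (Module.supportDim_le_of_injective (powTors z M).subtype (Submodule.subtype_injective _)).trans
        hd
    have b1 := ih hl' (powTors z M) hNl d hdN j
    have b2 := ih hl' (powTors z M) hNl d hdN (j + 1)
    have b3 : PolyBd (fun n => (n : ℕ∞) * Module.length A
        (KH (l.map (· ^ n)) (QuotSMulTop z (M ⧸ powTors z M)) j)) d := by
      by_cases hsub : Subsingleton (QuotSMulTop z (M ⧸ powTors z M))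
      · apply PolyBd.of_eq_zero
        intro n _
        show (n : ℕ∞) * Module.length A
            (KH (l.map (· ^ n)) (QuotSMulTop z (M ⧸ powTors z M)) j) = 0
        rw [length_KH_eq_zero_of_subsingleton, mul_zero]
      · rw [not_subsingleton_iff_nontrivial] at hsub
        haveI : Nontrivial (M ⧸ powTors z M) :=
          (Submodule.mkQ_surjective (z • (⊤ : Submodule A (M ⧸ powTors z M)))).nontrivial
        have hsucc := Module.supportDim_quotSMulTop_succ_eq_supportDim hreg hz
        have hMble : Module.supportDim A (M ⧸ powTors z M) ≤ (d : WithBot ℕ∞) :=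
          (Module.supportDim_le_of_surjective (powTors z M).mkQ (Submodule.mkQ_surjective _)).trans
            hd
        have hMbne : Module.supportDim A (M ⧸ powTors z M) ≠ ⊥ :=
          Module.supportDim_ne_bot_of_nontrivial _ _
        obtain ⟨nb, hnb⟩ := exists_nat_of_le hMble hMbne
        rw [hnb] at hsucc hMble
        obtain ⟨q, hq, hqn⟩ := exists_nat_of_add_one_eq hsucc
        have hnbd : nb ≤ d := by exact_mod_cast hMble
        exact ((ih hl' (QuotSMulTop z (M ⧸ powTors z M)) hQ q hq.le j).nat_mul).mono_exp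
          (by omega)
    refine ((b1.add b2).add b3).mono ?_
    intro n hn
    show Module.length A (KH ((z :: l).map (· ^ n)) M j) ≤
      (Module.length A (KH (l.map (· ^ n)) (powTors z M) j)
        + Module.length A (KH (l.map (· ^ n)) (powTors z M) (j + 1)))
      + (n : ℕ∞) * Module.length A
          (KH (l.map (· ^ n)) (QuotSMulTop z (M ⧸ powTors z M)) j)
    rw [List.map_cons, ← length_KH_cons_of_regular _ _ z hreg]
    exact (length_KH_le_of_exact _ (powTors z M).subtype (powTors z M).mkQ
      (Submodule.subtype_injective _) (Submodule.mkQ_surjective _)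
      (LinearMap.exact_subtype_mkQ _) _).trans
      (add_le_add (length_KH_cons_le _ _ _ _) (length_KH_cons_pow_le _ _ z n _))

end Dim

end Groth.Agent.Helper6.KPoly
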