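import Mathlib
import Groth.Prelude
import Groth.Agent.Helper1.KoszulAcyclic
import Groth.Agent.Helper6.KEuler7

/-!
# Samuel multiplicity and Koszul Euler characteristics, part 1: the additive function `chiK pre`
-/

set_option autoImplicit false
set_option linter.style.haveILetI false
universe u

namespace Groth.Agent.Helper6.KSam
open CategoryTheory Limits CochainComplex HomologicalComplex CohIII Pointwise IsLocalRing
open Groth.Agent.Helper1.Koszul Groth.Agent.Helper6.KEuler

variable {A : Type u} [CommRing A]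

section Ideals

theorem pow_sup_span_le (R : Ideal A) (z : A) : ∀ n a c : ℕ, a + c ≤ n + 1 →
    (R ⊔ Ideal.span {z}) ^ n ≤ Ideal.span {z ^ a} ⊔ R ^ c := by
  intro n
  induction n with
  | zero =>
    intro a c h
    rcases Nat.eq_zero_or_pos a with rfl | ha
    · rw [pow_zero z, Ideal.span_singleton_one, top_sup_eq]
      exact le_top
    · have hc : c = 0 := by omega
      subst hc
      rw [pow_zero R, Ideal.one_eq_top, sup_top_eq]
      exact le_top
  | succ n ih =>
    intro a c h
    rcases Nat.eq_zero_or_pos a with rfl | ha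
    · rw [pow_zero z, Ideal.span_singleton_one, top_sup_eq]
      exact le_top
    rcases Nat.eq_zero_or_pos c with rfl | hc
    · rw [pow_zero R, Ideal.one_eq_top, sup_top_eq]
      exact le_top
    obtain ⟨a', rfl⟩ : ∃ a', a = a' + 1 := ⟨a - 1, by omega⟩
    obtain ⟨c', rfl⟩ : ∃ c', c = c' + 1 := ⟨c - 1, by omega⟩
    rw [pow_succ' (R ⊔ Ideal.span {z}), Ideal.sup_mul, sup_le_iff]
    constructor
    · calc R * (R ⊔ Ideal.span {z}) ^ n ≤ R * (Ideal.span {z ^ (a' + 1)} ⊔ R ^ c') :=
            Ideal.mul_mono_right (ih (a' + 1) c' (by omega))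
        _ = R * Ideal.span {z ^ (a' + 1)} ⊔ R * R ^ c' := Ideal.mul_sup _ _ _
        _ ≤ Ideal.span {z ^ (a' + 1)} ⊔ R ^ (c' + 1) := by
            apply sup_le_sup Ideal.mul_le_right
            rw [pow_succ' R]
    · calc Ideal.span {z} * (R ⊔ Ideal.span {z}) ^ n
          ≤ Ideal.span {z} * (Ideal.span {z ^ a'} ⊔ R ^ (c' + 1)) :=
            Ideal.mul_mono_right (ih a' (c' + 1) (by omega))
        _ = Ideal.span {z} * Ideal.span {z ^ a'} ⊔ Ideal.span {z} * R ^ (c' + 1) :=
            Ideal.mul_sup _ _ _
        _ ≤ Ideal.span {z ^ (a' + 1)} ⊔ R ^ (c' + 1) := by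
            apply sup_le_sup _ Ideal.mul_le_right
            rw [Ideal.span_singleton_mul_span_singleton, pow_succ' z]

end Ideals

section Lam

variable [IsNoetherianRing A] [IsLocalRing A] (pre : List A)
  (hpre : ∀ a ∈ pre, a ∈ maximalIdeal A)

include hpre in
theorem chiK_nonneg (M : Type u) [AddCommGroup M] [Module A M] [Module.Finite A M]
    (h : FL (Ideal.span {a | a ∈ pre}) M) : 0 ≤ chiK pre M := by
  by_cases hsub : Subsingleton M
  · rw [chiK_eq_zero_of_subsingleton pre M]
  · rw [not_subsingleton_iff_nontrivial] at hsub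
    have hle := supportDim_le_length_of_FL pre hpre M h
    obtain ⟨n, hn⟩ := exists_nat_of_le hle (Module.supportDim_ne_bot_of_nontrivial A M)
    have hn' : n ≤ pre.length := by
      rw [hn] at hle
      exact_mod_cast hle
    obtain ⟨h1, h2⟩ := chiK_dim pre hpre M h n hn
    rcases Nat.lt_or_eq_of_le hn' with hlt | heq
    · rw [h1 hlt]
    · exact (h2 heq).le

include hpre in
theorem chiK_le_of_surjective {M N : Type u} [AddCommGroup M] [Module A M] [Module.Finite A M]
    [AddCommGroup N] [Module A N] (f : M →ₗ[A] N) (hf : Function.Surjective f)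
    (h : FL (Ideal.span {a | a ∈ pre}) M) : chiK pre N ≤ chiK pre M := by
  haveI : IsNoetherian A M := isNoetherian_of_isNoetherianRing_of_finite A M
  have hadd := chiK_additive pre (LinearMap.ker f).subtype f (Submodule.subtype_injective _) hf
    (LinearMap.exact_subtype_ker_map f) h
  have hk := chiK_nonneg pre hpre (LinearMap.ker f)
    (h.of_injective _ (Submodule.subtype_injective _))
  linarith

include hpre in
theorem chiK_le_of_injective {M N : Type u} [AddCommGroup M] [Module A M] [Module.Finite A M]
    [AddCommGroup N] [Module A N] (f : N →ₗ[A] M) (hf : Function.Injective f)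
    (h : FL (Ideal.span {a | a ∈ pre}) M) : chiK pre N ≤ chiK pre M := by
  have hadd := chiK_additive pre f (LinearMap.range f).mkQ hf (Submodule.mkQ_surjective _)
    (LinearMap.exact_map_mkQ_range f) h
  have hk := chiK_nonneg pre hpre (M ⧸ LinearMap.range f)
    (h.of_surjective _ (Submodule.mkQ_surjective _))
  linarith

include hpre in
theorem chiK_quot_sub_le {M N : Type u} [AddCommGroup M] [Module A M] [Module.Finite A M]
    [AddCommGroup N] [Module A N] [Module.Finite A N] (π : M →ₗ[A] N)
    (U' U : Submodule A M) (Y' Y : Submodule A N) (hU : U' ≤ U) (hY : Y' ≤ Y)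
    (h1 : U' ≤ Y'.comap π) (h3 : Y ≤ U.map π ⊔ Y')
    (hM : FL (Ideal.span {a | a ∈ pre}) (M ⧸ U'))
    (hN : FL (Ideal.span {a | a ∈ pre}) (N ⧸ Y')) :
    chiK pre (N ⧸ Y') - chiK pre (N ⧸ Y) ≤ chiK pre (M ⧸ U') - chiK pre (M ⧸ U) := by
  haveI : IsNoetherian A (M ⧸ U') := isNoetherian_of_isNoetherianRing_of_finite A _
  haveI : IsNoetherian A (N ⧸ Y') := isNoetherian_of_isNoetherianRing_of_finite A _
  have e1 := chiK_additive pre (LinearMap.ker (Submodule.factor hU)).subtype (Submodule.factor hU)
    (Submodule.subtype_injective _) (Submodule.factor_surjective hU)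
    (LinearMap.exact_subtype_ker_map _) hM
  have e2 := chiK_additive pre (LinearMap.ker (Submodule.factor hY)).subtype (Submodule.factor hY)
    (Submodule.subtype_injective _) (Submodule.factor_surjective hY)
    (LinearMap.exact_subtype_ker_map _) hN
  obtain ⟨φ, hφ⟩ : ∃ φ : M ⧸ U' →ₗ[A] N ⧸ Y', φ = Submodule.mapQ U' Y' π h1 := ⟨_, rfl⟩
  have hle : LinearMap.ker (Submodule.factor hY)
      ≤ Submodule.map φ (LinearMap.ker (Submodule.factor hU)) := by
    intro k hk
    obtain ⟨y, rfl⟩ := Submodule.mkQ_surjective _ k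
    rw [LinearMap.mem_ker, Submodule.factor_mk, Submodule.mkQ_apply,
      Submodule.Quotient.mk_eq_zero] at hk
    obtain ⟨b, hb, y', hy', rfl⟩ := Submodule.mem_sup.mp (h3 hk)
    obtain ⟨u, hu, rfl⟩ := hb
    refine ⟨Submodule.mkQ U' u, ?_, ?_⟩
    · rw [SetLike.mem_coe, LinearMap.mem_ker, Submodule.factor_mk, Submodule.mkQ_apply,
        Submodule.Quotient.mk_eq_zero]
      exact hu
    · rw [hφ, Submodule.mkQ_apply, Submodule.mapQ_apply, Submodule.mkQ_apply, eq_comm,
        Submodule.Quotient.eq]
      simpa using hy'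
  have k1 : chiK pre (LinearMap.ker (Submodule.factor hY))
      ≤ chiK pre (Submodule.map φ (LinearMap.ker (Submodule.factor hU))) :=
    chiK_le_of_injective pre hpre (Submodule.inclusion hle) (Submodule.inclusion_injective _)
      (hN.of_injective _ (Submodule.subtype_injective _))
  have k2 : chiK pre (Submodule.map φ (LinearMap.ker (Submodule.factor hU)))
      ≤ chiK pre (LinearMap.ker (Submodule.factor hU)) :=
    chiK_le_of_surjective pre hpre (φ.submoduleMap _) (φ.submoduleMap_surjective _)
      (hM.of_injective _ (Submodule.subtype_injective _))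
  linarith

include hpre in
theorem chiK_quot_sub_le_of_range {M X : Type u} [AddCommGroup M] [Module A M]
    [Module.Finite A M] [AddCommGroup X] [Module A X] [Module.Finite A X]
    (U' U : Submodule A M) (hU : U' ≤ U) (ψ : X →ₗ[A] M ⧸ U')
    (hK : LinearMap.ker (Submodule.factor hU) ≤ LinearMap.range ψ)
    (hM : FL (Ideal.span {a | a ∈ pre}) (M ⧸ U')) (hX : FL (Ideal.span {a | a ∈ pre}) X) :
    chiK pre (M ⧸ U') - chiK pre (M ⧸ U) ≤ chiK pre X := by
  haveI : IsNoetherian A (M ⧸ U') := isNoetherian_of_isNoetherianRing_of_finite A _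
  have e1 := chiK_additive pre (LinearMap.ker (Submodule.factor hU)).subtype (Submodule.factor hU)
    (Submodule.subtype_injective _) (Submodule.factor_surjective hU)
    (LinearMap.exact_subtype_ker_map _) hM
  have k1 : chiK pre (LinearMap.ker (Submodule.factor hU)) ≤ chiK pre (LinearMap.range ψ) :=
    chiK_le_of_injective pre hpre (Submodule.inclusion hK) (Submodule.inclusion_injective _)
      (hM.of_injective _ (Submodule.subtype_injective _))
  have k2 : chiK pre (LinearMap.range ψ) ≤ chiK pre X :=
    chiK_le_of_surjective pre hpre ψ.rangeRestrict ψ.surjective_rangeRestrict hX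
  linarith

end Lam

end Groth.Agent.Helper6.KSam
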