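import Mathlib
import Groth.Prelude
import Groth.Agent.Helper1.KoszulAcyclic
import Groth.Agent.Helper6.KSam1

/-!
# Samuel multiplicity and Koszul Euler characteristics, part 2: peeling one generator
-/

set_option autoImplicit false
set_option linter.style.haveILetI false
set_option linter.unusedSectionVars false
universe u

namespace Groth.Agent.Helper6.KSam
open CategoryTheory Limits CochainComplex HomologicalComplex CohIII Pointwise IsLocalRing
open Groth.Agent.Helper1.Koszul Groth.Agent.Helper6.KEuler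

variable {A : Type u} [CommRing A]

section Basics

variable {M : Type u} [AddCommGroup M] [Module A M]

theorem FL_quot {J I : Ideal A} (h : FL (J ⊔ I) M) (U : Submodule A M) (n : ℕ)
    (hU : I ^ n • (⊤ : Submodule A M) ≤ U) : FL J (M ⧸ U) := by
  intro p hp hJ
  apply h p (Module.support_subset_of_surjective U.mkQ (Submodule.mkQ_surjective _) hp)
  rw [sup_le_iff]
  refine ⟨hJ, ?_⟩
  have hann : I ^ n ≤ Module.annihilator A (M ⧸ U) := by
    intro r hr
    rw [Module.mem_annihilator]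
    intro q
    obtain ⟨m, rfl⟩ := Submodule.mkQ_surjective _ q
    rw [← map_smul, Submodule.mkQ_apply, Submodule.Quotient.mk_eq_zero]
    exact hU (Submodule.smul_mem_smul hr Submodule.mem_top)
  exact p.isPrime.le_of_pow_le (hann.trans (Module.annihilator_le_of_mem_support hp))

theorem pow_succ_smul_top_le (z : A) (a : ℕ) :
    z ^ (a + 1) • (⊤ : Submodule A M) ≤ z ^ a • (⊤ : Submodule A M) := by
  intro m hm
  obtain ⟨m', -, rfl⟩ := (Submodule.mem_smul_pointwise_iff_exists _ _ _).mp hm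
  rw [pow_succ, mul_smul]
  exact Submodule.smul_mem_pointwise_smul _ _ _ Submodule.mem_top

theorem smul_top_le_of_mem {I : Ideal A} {r : A} (hr : r ∈ I) :
    r • (⊤ : Submodule A M) ≤ I • (⊤ : Submodule A M) := by
  intro m hm
  obtain ⟨m', -, rfl⟩ := (Submodule.mem_smul_pointwise_iff_exists _ _ _).mp hm
  exact Submodule.smul_mem_smul hr Submodule.mem_top

variable (M) in
/-- the filtration of `M / Qⁿ M` by powers of `z`, where `Q = R + (z)` -/
def Ufil (z : A) (R : Ideal A) (n a : ℕ) : Submodule A M :=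
  z ^ a • (⊤ : Submodule A M) ⊔ (R ⊔ Ideal.span {z}) ^ n • (⊤ : Submodule A M)

theorem Ufil_succ_le (z : A) (R : Ideal A) (n a : ℕ) : Ufil M z R n (a + 1) ≤ Ufil M z R n a :=
  sup_le_sup_right (pow_succ_smul_top_le z a) _

theorem Ufil_zero (z : A) (R : Ideal A) (n : ℕ) : Ufil M z R n 0 = ⊤ := by
  unfold Ufil
  rw [pow_zero, one_smul, top_sup_eq]

theorem Ufil_self (z : A) (R : Ideal A) (n : ℕ) :
    Ufil M z R n n = (R ⊔ Ideal.span {z}) ^ n • (⊤ : Submodule A M) := by
  unfold Ufil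
  rw [sup_eq_right]
  apply smul_top_le_of_mem
  exact Ideal.pow_mem_pow (Ideal.mem_sup_right (Ideal.mem_span_singleton_self z)) n

end Basics

section Steps

variable [IsNoetherianRing A] [IsLocalRing A] (pre : List A)
  (hpre : ∀ a ∈ pre, a ∈ maximalIdeal A)

include hpre in
theorem chiK_cons_le_sub (N : Type u) [AddCommGroup N] [Module A N] [Module.Finite A N] (z : A)
    (h : FL (Ideal.span {a | a ∈ z :: pre}) N) (a : ℕ) :
    chiK (z :: pre) N
      ≤ chiK pre (QuotSMulTop (z ^ (a + 1)) N) - chiK pre (QuotSMulTop (z ^ a) N) := by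
  haveI : IsNoetherian A N := isNoetherian_of_isNoetherianRing_of_finite A N
  have e1 := chiK_cons_eq_sub pre N (z ^ (a + 1)) (FL_pow_head (a + 1) h)
  have e2 := chiK_cons_eq_sub pre N (z ^ a) (FL_pow_head a h)
  have p1 := chiK_pow_head pre N z h (a + 1)
  have p2 := chiK_pow_head pre N z h a
  have mono : chiK pre (Submodule.torsionBy A N (z ^ a))
      ≤ chiK pre (Submodule.torsionBy A N (z ^ (a + 1))) :=
    chiK_le_of_injective pre hpre
      (Submodule.inclusion (Submodule.torsionBy_le_torsionBy_of_dvd (z ^ a) (z ^ (a + 1))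
        (pow_dvd_pow z (Nat.le_succ a))))
      (Submodule.inclusion_injective _) (FL_torsionBy pre N (z ^ (a + 1)) (FL_pow_head (a + 1) h))
  push_cast at p1
  linarith

variable (z : A) (R : Ideal A) (M : Type u) [AddCommGroup M] [Module A M] [Module.Finite A M]

include hpre in
theorem step_lower
    (hM : FL (Ideal.span {a | a ∈ pre} ⊔ (R ⊔ Ideal.span {z})) M) (a c n : ℕ)
    (hacn : a + c = n) :
    chiK (z :: pre) (M ⧸ R ^ c • (⊤ : Submodule A M))
      ≤ chiK pre (M ⧸ Ufil M z R n (a + 1)) - chiK pre (M ⧸ Ufil M z R n a) := by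
  have hN : FL (Ideal.span {a | a ∈ z :: pre}) (M ⧸ R ^ c • (⊤ : Submodule A M)) := by
    rw [span_cons]
    apply FL_quot (I := R) _ _ c le_rfl
    rw [sup_assoc, sup_comm (Ideal.span {z})]
    exact hM
  have h1 : Ufil M z R n (a + 1) ≤
      (z ^ (a + 1) • (⊤ : Submodule A (M ⧸ R ^ c • (⊤ : Submodule A M)))).comap
        (R ^ c • (⊤ : Submodule A M)).mkQ := by
    unfold Ufil
    rw [sup_le_iff]
    constructor
    · intro m hm
      obtain ⟨m', -, rfl⟩ := (Submodule.mem_smul_pointwise_iff_exists _ _ _).mp hm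
      rw [Submodule.mem_comap, map_smul]
      exact Submodule.smul_mem_pointwise_smul _ _ _ Submodule.mem_top
    · rw [Submodule.smul_le]
      intro r hr m _
      have hr' := pow_sup_span_le R z n (a + 1) c (by omega) hr
      obtain ⟨s, hs, t, ht, rfl⟩ := Submodule.mem_sup.mp hr'
      obtain ⟨d, rfl⟩ := Ideal.mem_span_singleton'.mp hs
      have ht0 : (R ^ c • (⊤ : Submodule A M)).mkQ (t • m) = 0 := by
        rw [Submodule.mkQ_apply, Submodule.Quotient.mk_eq_zero]
        exact Submodule.smul_mem_smul ht Submodule.mem_top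
      rw [Submodule.mem_comap, add_smul, map_add, ht0, add_zero, mul_comm d, mul_smul, map_smul]
      exact Submodule.smul_mem_pointwise_smul _ _ _ Submodule.mem_top
  have h3 : z ^ a • (⊤ : Submodule A (M ⧸ R ^ c • (⊤ : Submodule A M))) ≤
      (Ufil M z R n a).map (R ^ c • (⊤ : Submodule A M)).mkQ
        ⊔ z ^ (a + 1) • (⊤ : Submodule A (M ⧸ R ^ c • (⊤ : Submodule A M))) := by
    intro y hy
    obtain ⟨n', -, rfl⟩ := (Submodule.mem_smul_pointwise_iff_exists _ _ _).mp hy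
    obtain ⟨m, rfl⟩ := Submodule.mkQ_surjective _ n'
    apply Submodule.mem_sup_left
    exact ⟨z ^ a • m, Submodule.mem_sup_left
      (Submodule.smul_mem_pointwise_smul m (z ^ a) ⊤ Submodule.mem_top), map_smul _ _ _⟩
  have key := chiK_quot_sub_le pre hpre (R ^ c • (⊤ : Submodule A M)).mkQ
    (Ufil M z R n (a + 1)) (Ufil M z R n a)
    (z ^ (a + 1) • (⊤ : Submodule A (M ⧸ R ^ c • (⊤ : Submodule A M))))
    (z ^ a • (⊤ : Submodule A (M ⧸ R ^ c • (⊤ : Submodule A M))))
    (Ufil_succ_le z R n a) (pow_succ_smul_top_le z a) h1 h3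
    (FL_quot hM _ n le_sup_right)
    (FL_quotSMulTop pre _ (z ^ (a + 1)) (FL_pow_head (a + 1) hN))
  exact (chiK_cons_le_sub pre hpre _ z hN a).trans key

include hpre in
theorem step_upper
    (hM : FL (Ideal.span {a | a ∈ pre} ⊔ (R ⊔ Ideal.span {z})) M) (a c n : ℕ)
    (hacn : a + c = n) :
    chiK pre (M ⧸ Ufil M z R n (a + 1)) - chiK pre (M ⧸ Ufil M z R n a)
      ≤ chiK pre (QuotSMulTop z M ⧸ R ^ c • (⊤ : Submodule A (QuotSMulTop z M))) := by
  have hX : FL (Ideal.span {a | a ∈ pre})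
      (QuotSMulTop z M ⧸ R ^ c • (⊤ : Submodule A (QuotSMulTop z M))) := by
    apply FL_quot (I := R) _ _ c le_rfl
    apply FL.of_pow_smul (x := z) _ 1 (smul_quotSMulTop_eq_zero M z)
    rw [sup_assoc]
    exact hM.of_surjective _ (Submodule.mkQ_surjective _)
  obtain ⟨ψ₀, hψ₀⟩ : ∃ ψ₀ : M →ₗ[A] M ⧸ Ufil M z R n (a + 1),
      ψ₀ = (Ufil M z R n (a + 1)).mkQ ∘ₗ (z ^ a • (LinearMap.id : M →ₗ[A] M)) := ⟨_, rfl⟩
  have hψ₀a : ∀ m, ψ₀ m = Submodule.Quotient.mk (z ^ a • m) := fun m => by rw [hψ₀]; rfl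
  have h₁ : z • (⊤ : Submodule A M) ≤ LinearMap.ker ψ₀ := by
    intro m hm
    obtain ⟨m', -, rfl⟩ := (Submodule.mem_smul_pointwise_iff_exists _ _ _).mp hm
    rw [LinearMap.mem_ker, hψ₀a, Submodule.Quotient.mk_eq_zero, smul_smul, ← pow_succ]
    exact Submodule.mem_sup_left (Submodule.smul_mem_pointwise_smul m' _ ⊤ Submodule.mem_top)
  obtain ⟨ψ₁, hψ₁⟩ : ∃ ψ₁ : QuotSMulTop z M →ₗ[A] M ⧸ Ufil M z R n (a + 1),
      ψ₁ = (z • (⊤ : Submodule A M)).liftQ ψ₀ h₁ := ⟨_, rfl⟩
  have hψ₁a : ∀ m, ψ₁ (Submodule.Quotient.mk m) = Submodule.Quotient.mk (z ^ a • m) :=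
    fun m => by rw [hψ₁, Submodule.liftQ_apply, hψ₀a]
  have h₂ : R ^ c • (⊤ : Submodule A (QuotSMulTop z M)) ≤ LinearMap.ker ψ₁ := by
    rw [Submodule.smul_le]
    intro r hr mb _
    obtain ⟨m, rfl⟩ := Submodule.mkQ_surjective _ mb
    rw [LinearMap.mem_ker, Submodule.mkQ_apply, ← Submodule.Quotient.mk_smul, hψ₁a,
      Submodule.Quotient.mk_eq_zero, smul_smul]
    apply Submodule.mem_sup_right
    apply Submodule.smul_mem_smul _ Submodule.mem_top
    rw [← hacn, pow_add]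
    exact Ideal.mul_mem_mul (Ideal.pow_mem_pow (Ideal.mem_sup_right (Ideal.mem_span_singleton_self z)) a)
      (Ideal.pow_right_mono le_sup_left c hr)
  obtain ⟨ψ₂, hψ₂⟩ : ∃ ψ₂ : (QuotSMulTop z M ⧸ R ^ c • (⊤ : Submodule A (QuotSMulTop z M)))
      →ₗ[A] M ⧸ Ufil M z R n (a + 1),
      ψ₂ = (R ^ c • (⊤ : Submodule A (QuotSMulTop z M))).liftQ ψ₁ h₂ := ⟨_, rfl⟩
  have hψ₂a : ∀ m, ψ₂ (Submodule.Quotient.mk (Submodule.Quotient.mk m))
      = Submodule.Quotient.mk (z ^ a • m) :=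
    fun m => by rw [hψ₂, Submodule.liftQ_apply, hψ₁a]
  have hK : LinearMap.ker (Submodule.factor (Ufil_succ_le (M := M) z R n a))
      ≤ LinearMap.range ψ₂ := by
    intro k hk
    obtain ⟨u, rfl⟩ := Submodule.mkQ_surjective _ k
    rw [LinearMap.mem_ker, Submodule.factor_mk, Submodule.mkQ_apply,
      Submodule.Quotient.mk_eq_zero] at hk
    obtain ⟨v, hv, q, hq, rfl⟩ := Submodule.mem_sup.mp hk
    obtain ⟨m, -, rfl⟩ := (Submodule.mem_smul_pointwise_iff_exists _ _ _).mp hv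
    refine ⟨Submodule.Quotient.mk (Submodule.Quotient.mk m), ?_⟩
    rw [hψ₂a, Submodule.mkQ_apply, Submodule.Quotient.eq]
    have : z ^ a • m - (z ^ a • m + q) = -q := by abel
    rw [this]
    exact Submodule.neg_mem _ (Submodule.mem_sup_right hq)
  exact chiK_quot_sub_le_of_range pre hpre (Ufil M z R n (a + 1)) (Ufil M z R n a)
    (Ufil_succ_le z R n a) ψ₂ hK (FL_quot hM _ n le_sup_right) hX

include hpre in
theorem chiK_quot_Ufil_telescope (n : ℕ) :
    ∑ a ∈ Finset.range n,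
        (chiK pre (M ⧸ Ufil M z R n (a + 1)) - chiK pre (M ⧸ Ufil M z R n a))
      = chiK pre (M ⧸ (R ⊔ Ideal.span {z}) ^ n • (⊤ : Submodule A M)) := by
  rw [Finset.sum_range_sub (fun a => chiK pre (M ⧸ Ufil M z R n a)) n]
  have h0 : chiK pre (M ⧸ Ufil M z R n 0) = 0 := by
    haveI : Subsingleton (M ⧸ Ufil M z R n 0) :=
      Submodule.Quotient.subsingleton_iff.mpr (Ufil_zero z R n)
    exact chiK_eq_zero_of_subsingleton pre _
  rw [h0, sub_zero]
  exact congrArg (fun U : Submodule A M => chiK pre (M ⧸ U)) (Ufil_self z R n)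

include hpre in
theorem lower_sum
    (hM : FL (Ideal.span {a | a ∈ pre} ⊔ (R ⊔ Ideal.span {z})) M) (n : ℕ) :
    ∑ j ∈ Finset.range n, chiK (z :: pre) (M ⧸ R ^ (j + 1) • (⊤ : Submodule A M))
      ≤ chiK pre (M ⧸ (R ⊔ Ideal.span {z}) ^ n • (⊤ : Submodule A M)) := by
  rw [← chiK_quot_Ufil_telescope pre hpre z R M n,
    ← Finset.sum_range_reflect
      (fun j => chiK (z :: pre) (M ⧸ R ^ (j + 1) • (⊤ : Submodule A M))) n]
  apply Finset.sum_le_sum
  intro a ha
  have ha' := Finset.mem_range.mp ha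
  exact step_lower pre hpre z R M hM a (n - 1 - a + 1) n (by omega)

include hpre in
theorem upper_sum
    (hM : FL (Ideal.span {a | a ∈ pre} ⊔ (R ⊔ Ideal.span {z})) M) (n : ℕ) :
    chiK pre (M ⧸ (R ⊔ Ideal.span {z}) ^ n • (⊤ : Submodule A M))
      ≤ ∑ j ∈ Finset.range n,
          chiK pre (QuotSMulTop z M ⧸ R ^ (j + 1) • (⊤ : Submodule A (QuotSMulTop z M))) := by
  rw [← chiK_quot_Ufil_telescope pre hpre z R M n,
    ← Finset.sum_range_reflect
      (fun j => chiK pre (QuotSMulTop z M ⧸ R ^ (j + 1) • (⊤ : Submodule A (QuotSMulTop z M)))) n]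
  apply Finset.sum_le_sum
  intro a ha
  have ha' := Finset.mem_range.mp ha
  exact step_upper pre hpre z R M hM a (n - 1 - a + 1) n (by omega)

end Steps

end Groth.Agent.Helper6.KSam
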