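import Mathlib
import Groth.Prelude
import Groth.Agent.Helper1.KoszulAcyclic
import Groth.Agent.Helper6.KSam2
import Groth.Agent.Helper6.Samuel1

/-!
# Samuel multiplicity and Koszul Euler characteristics, part 3: the main induction
-/

set_option autoImplicit false
set_option linter.style.haveILetI false
set_option linter.unusedSectionVars false
universe u

namespace Groth.Agent.Helper6.KSam
open CategoryTheory Limits CochainComplex HomologicalComplex CohIII Pointwise IsLocalRing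
open Groth.Agent.Helper1.Koszul Groth.Agent.Helper6.KEuler Groth.Agent.Helper6.Samuel1

section Arith

theorem sum_err_le (c s m : ℕ) :
    ∑ j ∈ Finset.range (m + 1), c * s * (j + 1) ^ (s - 1) ≤ c * (s + 1) * (m + 1) ^ s := by
  rcases Nat.eq_zero_or_pos s with rfl | hs
  · simp
  · obtain ⟨t, rfl⟩ : ∃ t, s = t + 1 := ⟨s - 1, by omega⟩
    simp only [Nat.add_sub_cancel]
    calc ∑ j ∈ Finset.range (m + 1), c * (t + 1) * (j + 1) ^ t
        ≤ ∑ _j ∈ Finset.range (m + 1), c * (t + 1) * (m + 1) ^ t :=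
          Finset.sum_le_sum (fun j hj => Nat.mul_le_mul_left _
            (Nat.pow_le_pow_left (by have := Finset.mem_range.mp hj; omega) t))
      _ = c * (t + 1) * (m + 1) ^ (t + 1) := by
          rw [Finset.sum_const, Finset.card_range, smul_eq_mul]
          ring
      _ ≤ c * (t + 1 + 1) * (m + 1) ^ (t + 1) :=
          Nat.mul_le_mul_right _ (Nat.mul_le_mul_left _ (Nat.le_succ _))

theorem err_le (c s m : ℕ) : c * s * (m + 1) ^ (s - 1) ≤ c * (s + 1) * (m + 1) ^ s := by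
  rcases Nat.eq_zero_or_pos s with rfl | hs
  · simp
  · have h1 : (m + 1) ^ (s - 1) ≤ (m + 1) ^ s := Nat.pow_le_pow_right (by omega) (by omega)
    calc c * s * (m + 1) ^ (s - 1) ≤ c * s * (m + 1) ^ s := Nat.mul_le_mul_left _ h1
      _ ≤ c * (s + 1) * (m + 1) ^ s :=
          Nat.mul_le_mul_right _ (Nat.mul_le_mul_left _ (Nat.le_succ _))

theorem choose_err_le (x s m : ℕ) : x * (m + s).choose s ≤ x * (s + 1) * (m + 1) ^ s := by
  have h1 := Nat.choose_add_le_add_one_pow m s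
  calc x * (m + s).choose s ≤ x * (m + 1) ^ s := Nat.mul_le_mul_left _ h1
    _ = x * 1 * (m + 1) ^ s := by ring
    _ ≤ x * (s + 1) * (m + 1) ^ s :=
        Nat.mul_le_mul_right _ (Nat.mul_le_mul_left _ (by omega))

end Arith

section Bounds

def UBnd (s : ℕ) (χn : ℕ → ℤ) (χ : ℤ) (c : ℕ) : Prop :=
  ∀ m : ℕ, χn (m + 1) ≤ χ * (((m + s).choose s : ℕ) : ℤ) + ((c * s * (m + 1) ^ (s - 1) : ℕ) : ℤ)

def LBnd (s : ℕ) (χn : ℕ → ℤ) (χ : ℤ) (c : ℕ) : Prop :=
  ∀ m : ℕ, χ * (((m + s).choose s : ℕ) : ℤ) ≤ χn (m + 1) + ((c * s * (m + 1) ^ (s - 1) : ℕ) : ℤ)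

def TB (s : ℕ) (χn : ℕ → ℤ) (χ : ℤ) : Prop :=
  ∃ c : ℕ, UBnd s χn χ c ∧ LBnd s χn χ c

theorem sum_choose_cast (s m : ℕ) :
    ∑ j ∈ Finset.range (m + 1), (((j + s).choose s : ℕ) : ℤ)
      = (((m + (s + 1)).choose (s + 1) : ℕ) : ℤ) := by
  rw [← Nat.cast_sum, Nat.sum_range_add_choose]
  rfl

end Bounds

variable {A : Type u} [CommRing A]

section Spans

theorem span_append (l₁ l₂ : List A) :
    Ideal.span {a | a ∈ l₁ ++ l₂} = Ideal.span {a | a ∈ l₁} ⊔ Ideal.span {a | a ∈ l₂} := by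
  have : {a : A | a ∈ l₁ ++ l₂} = {a | a ∈ l₁} ∪ {a | a ∈ l₂} := by
    ext a
    simp [List.mem_append]
  rw [this, Ideal.span_union]

theorem span_singleton_list (w : A) : Ideal.span {a | a ∈ [w]} = Ideal.span {w} := by
  have : {a : A | a ∈ [w]} = {w} := by
    ext a
    simp
  rw [this]

end Spans

section Main

variable [IsNoetherianRing A] [IsLocalRing A]

theorem lower_bound (s' : ℕ) (l'' : List A) (w : A)
    (pre : List A) (hpre : ∀ a ∈ pre, a ∈ maximalIdeal A)
    (M : Type u) [AddCommGroup M] [Module A M] [Module.Finite A M]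
    (h : FL (Ideal.span {a | a ∈ (l'' ++ [w]) ++ pre}) M)
    (ih : TB s' (fun n => chiK (w :: pre)
      (M ⧸ (Ideal.span {a | a ∈ l''}) ^ n • (⊤ : Submodule A M))) (chiK (l'' ++ (w :: pre)) M)) :
    ∃ c : ℕ, LBnd (s' + 1) (fun n => chiK pre
      (M ⧸ (Ideal.span {a | a ∈ l'' ++ [w]}) ^ n • (⊤ : Submodule A M)))
      (chiK ((l'' ++ [w]) ++ pre) M) c := by
  obtain ⟨c₁, -, hc₁⟩ := ih
  refine ⟨c₁, fun m => ?_⟩
  have hQ : Ideal.span {a | a ∈ l'' ++ [w]} = Ideal.span {a | a ∈ l''} ⊔ Ideal.span {w} := by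
    rw [span_append, span_singleton_list]
  have hM : FL (Ideal.span {a | a ∈ pre} ⊔ (Ideal.span {a | a ∈ l''} ⊔ Ideal.span {w})) M := by
    have e : Ideal.span {a | a ∈ (l'' ++ [w]) ++ pre}
        = Ideal.span {a | a ∈ pre} ⊔ (Ideal.span {a | a ∈ l''} ⊔ Ideal.span {w}) := by
      rw [span_append, hQ, sup_comm]
    rw [e] at h
    exact h
  have hlist : (l'' ++ [w]) ++ pre = l'' ++ (w :: pre) := by simp
  have hsum := lower_sum pre hpre w (Ideal.span {a | a ∈ l''}) M hM (m + 1)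
  have h2 : ∑ j ∈ Finset.range (m + 1),
      (chiK (l'' ++ (w :: pre)) M * (((j + s').choose s' : ℕ) : ℤ)
        - ((c₁ * s' * (j + 1) ^ (s' - 1) : ℕ) : ℤ))
      ≤ ∑ j ∈ Finset.range (m + 1), chiK (w :: pre)
          (M ⧸ (Ideal.span {a | a ∈ l''}) ^ (j + 1) • (⊤ : Submodule A M)) := by
    apply Finset.sum_le_sum
    intro j _
    have := hc₁ j
    simp only at this
    linarith
  rw [Finset.sum_sub_distrib, ← Finset.mul_sum, sum_choose_cast, ← Nat.cast_sum] at h2
  have harith : ((∑ j ∈ Finset.range (m + 1), c₁ * s' * (j + 1) ^ (s' - 1) : ℕ) : ℤ)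
      ≤ ((c₁ * (s' + 1) * (m + 1) ^ s' : ℕ) : ℤ) := by
    exact_mod_cast sum_err_le c₁ s' m
  show chiK ((l'' ++ [w]) ++ pre) M * (((m + (s' + 1)).choose (s' + 1) : ℕ) : ℤ)
    ≤ chiK pre (M ⧸ (Ideal.span {a | a ∈ l'' ++ [w]}) ^ (m + 1) • (⊤ : Submodule A M))
      + ((c₁ * (s' + 1) * (m + 1) ^ (s' + 1 - 1) : ℕ) : ℤ)
  rw [hQ, hlist, Nat.add_sub_cancel]
  linarith

theorem upper_bound (s' : ℕ) (y : A) (l' : List A) (hl' : ∀ a ∈ l', a ∈ maximalIdeal A)
    (pre : List A) (hpre : ∀ a ∈ pre, a ∈ maximalIdeal A)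
    (M : Type u) [AddCommGroup M] [Module A M] [Module.Finite A M]
    (h : FL (Ideal.span {a | a ∈ y :: (l' ++ pre)}) M)
    (ihΓ : TB s' (fun n => chiK pre
      (powTors y M ⧸ (Ideal.span {a | a ∈ l'}) ^ n • (⊤ : Submodule A (powTors y M))))
      (chiK (l' ++ pre) (powTors y M)))
    (ihQ : TB s' (fun n => chiK pre
      (QuotSMulTop y (M ⧸ powTors y M) ⧸ (Ideal.span {a | a ∈ l'}) ^ n •
        (⊤ : Submodule A (QuotSMulTop y (M ⧸ powTors y M)))))
      (chiK (l' ++ pre) (QuotSMulTop y (M ⧸ powTors y M)))) :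
    ∃ c : ℕ, UBnd (s' + 1) (fun n => chiK pre
      (M ⧸ (Ideal.span {a | a ∈ y :: l'}) ^ n • (⊤ : Submodule A M)))
      (chiK (y :: (l' ++ pre)) M) c := by
  haveI : IsNoetherian A M := isNoetherian_of_isNoetherianRing_of_finite A M
  obtain ⟨k, hk⟩ := exists_pow_smul_powTors y M
  have hNk : ∀ n : powTors y M, y ^ k • n = 0 := fun n => Subtype.ext (hk n.1 n.2)
  have hΓFL : FL (Ideal.span {a | a ∈ y :: (l' ++ pre)}) (powTors y M) :=
    h.of_injective _ (Submodule.subtype_injective _)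
  have hΓ' : FL (Ideal.span {a | a ∈ l' ++ pre}) (powTors y M) := FL_of_killed hΓFL k hNk
  have hMtFL : FL (Ideal.span {a | a ∈ y :: (l' ++ pre)}) (M ⧸ powTors y M) :=
    h.of_surjective _ (Submodule.mkQ_surjective _)
  have hreg := isSMulRegular_quot_powTors y M
  -- Euler characteristic identities
  have eadd := chiK_additive (y :: (l' ++ pre)) (powTors y M).subtype (powTors y M).mkQ
    (Submodule.subtype_injective _) (Submodule.mkQ_surjective _) (LinearMap.exact_subtype_mkQ _) h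
  have e0 := chiK_cons_eq_zero_of_pow_smul_eq_zero (l' ++ pre) y k (powTors y M) hΓFL hNk
  have ereg := chiK_cons_of_regular (l' ++ pre) (M ⧸ powTors y M) y hreg
  have hχΓ : 0 ≤ chiK (l' ++ pre) (powTors y M) :=
    chiK_nonneg (l' ++ pre) (fun a ha => by
      rcases List.mem_append.mp ha with ha | ha
      · exact hl' a ha
      · exact hpre a ha) _ hΓ'
  obtain ⟨g, hg⟩ : ∃ g : ℕ, chiK (l' ++ pre) (powTors y M) = (g : ℤ) :=
    ⟨(chiK (l' ++ pre) (powTors y M)).toNat, (Int.toNat_of_nonneg hχΓ).symm⟩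
  obtain ⟨c₂, hc₂, -⟩ := ihΓ
  obtain ⟨c₃, hc₃, -⟩ := ihQ
  refine ⟨g + c₂ + c₃, fun m => ?_⟩
  have hQ : Ideal.span {a | a ∈ y :: l'} = Ideal.span {a | a ∈ l'} ⊔ Ideal.span {y} :=
    span_cons y l'
  have hM1 : FL (Ideal.span {a | a ∈ pre} ⊔ Ideal.span {a | a ∈ y :: l'}) M := by
    have e : Ideal.span {a | a ∈ y :: (l' ++ pre)}
        = Ideal.span {a | a ∈ pre} ⊔ Ideal.span {a | a ∈ y :: l'} := by
      rw [span_cons, span_append, hQ]
      ac_rfl
    rw [e] at h
    exact h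
  have hΓ1 : FL (Ideal.span {a | a ∈ pre} ⊔ Ideal.span {a | a ∈ l'}) (powTors y M) := by
    rw [span_append, sup_comm] at hΓ'
    exact hΓ'
  have hMt1 : FL (Ideal.span {a | a ∈ pre} ⊔ (Ideal.span {a | a ∈ l'} ⊔ Ideal.span {y}))
      (M ⧸ powTors y M) := by
    have e : Ideal.span {a | a ∈ y :: (l' ++ pre)}
        = Ideal.span {a | a ∈ pre} ⊔ (Ideal.span {a | a ∈ l'} ⊔ Ideal.span {y}) := by
      rw [span_cons, span_append]
      ac_rfl
    rw [e] at hMtFL
    exact hMtFL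
  -- step (5)
  have hfg : LinearMap.range (powTors y M).subtype = LinearMap.ker (powTors y M).mkQ := by
    rw [Submodule.range_subtype, Submodule.ker_mkQ]
  have hadd := chiK_additive pre
    (fbar (Ideal.span {a | a ∈ y :: l'}) (powTors y M).subtype (m + 1))
    (gbar (Ideal.span {a | a ∈ y :: l'}) (powTors y M).mkQ (m + 1))
    (fbar_inj _ _ _) (gbar_surj _ _ (Submodule.mkQ_surjective _) _)
    (exact_bar _ _ _ (Submodule.mkQ_surjective _) hfg _)
    (FL_quot hM1 _ (m + 1) le_rfl)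
  have hRK : (Ideal.span {a | a ∈ l'}) ^ (m + 1) • (⊤ : Submodule A (powTors y M))
      ≤ Kt (Ideal.span {a | a ∈ y :: l'}) (powTors y M).subtype (m + 1) := by
    refine le_trans ?_ (smul_le_Kt _ _ _)
    apply Submodule.smul_mono_left
    apply Ideal.pow_right_mono
    rw [hQ]
    exact le_sup_left
  have hle : chiK pre (powTors y M ⧸
      Kt (Ideal.span {a | a ∈ y :: l'}) (powTors y M).subtype (m + 1))
      ≤ chiK pre (powTors y M ⧸
        (Ideal.span {a | a ∈ l'}) ^ (m + 1) • (⊤ : Submodule A (powTors y M))) :=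
    chiK_le_of_surjective pre hpre (Submodule.factor hRK) (Submodule.factor_surjective hRK)
      (FL_quot hΓ1 _ (m + 1) le_rfl)
  have hΓn := hc₂ m
  simp only at hΓn
  -- the regular part
  have hup := upper_sum pre hpre y (Ideal.span {a | a ∈ l'}) (M ⧸ powTors y M) hMt1 (m + 1)
  have h3 : ∑ j ∈ Finset.range (m + 1), chiK pre
      (QuotSMulTop y (M ⧸ powTors y M) ⧸ (Ideal.span {a | a ∈ l'}) ^ (j + 1) •
        (⊤ : Submodule A (QuotSMulTop y (M ⧸ powTors y M))))
      ≤ ∑ j ∈ Finset.range (m + 1),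
        (chiK (l' ++ pre) (QuotSMulTop y (M ⧸ powTors y M)) * (((j + s').choose s' : ℕ) : ℤ)
          + ((c₃ * s' * (j + 1) ^ (s' - 1) : ℕ) : ℤ)) := by
    apply Finset.sum_le_sum
    intro j _
    have := hc₃ j
    simp only at this
    exact this
  rw [Finset.sum_add_distrib, ← Finset.mul_sum, sum_choose_cast, ← Nat.cast_sum] at h3
  have harith : ((∑ j ∈ Finset.range (m + 1), c₃ * s' * (j + 1) ^ (s' - 1) : ℕ) : ℤ)
      ≤ ((c₃ * (s' + 1) * (m + 1) ^ s' : ℕ) : ℤ) := by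
    exact_mod_cast sum_err_le c₃ s' m
  have harith2 : ((c₂ * s' * (m + 1) ^ (s' - 1) : ℕ) : ℤ)
      ≤ ((c₂ * (s' + 1) * (m + 1) ^ s' : ℕ) : ℤ) := by
    exact_mod_cast err_le c₂ s' m
  have harith3 : ((g * (m + s').choose s' : ℕ) : ℤ) ≤ ((g * (s' + 1) * (m + 1) ^ s' : ℕ) : ℤ) := by
    exact_mod_cast choose_err_le g s' m
  show chiK pre (M ⧸ (Ideal.span {a | a ∈ y :: l'}) ^ (m + 1) • (⊤ : Submodule A M))
    ≤ chiK (y :: (l' ++ pre)) M * (((m + (s' + 1)).choose (s' + 1) : ℕ) : ℤ)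
      + (((g + c₂ + c₃) * (s' + 1) * (m + 1) ^ (s' + 1 - 1) : ℕ) : ℤ)
  rw [Nat.add_sub_cancel]
  rw [hQ] at hadd hle ⊢
  rw [hg] at hΓn
  have eχ : chiK (l' ++ pre) (QuotSMulTop y (M ⧸ powTors y M)) = chiK (y :: (l' ++ pre)) M := by
    linarith
  rw [eχ] at h3
  push_cast at harith harith2 harith3 hΓn h3 ⊢
  linarith [hadd, hle, hΓn, hup, h3, harith, harith2, harith3]

theorem main : ∀ (s : ℕ) (l : List A), l.length = s → (∀ a ∈ l, a ∈ maximalIdeal A) →
    ∀ (pre : List A), (∀ a ∈ pre, a ∈ maximalIdeal A) →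
    ∀ (M : Type u) [AddCommGroup M] [Module A M] [Module.Finite A M],
    FL (Ideal.span {a | a ∈ l ++ pre}) M →
    TB s (fun n => chiK pre (M ⧸ (Ideal.span {a | a ∈ l}) ^ n • (⊤ : Submodule A M)))
      (chiK (l ++ pre) M) := by
  intro s
  induction s with
  | zero =>
    intro l hlen hl pre hpre M _ _ _ h
    have hl0 : l = [] := List.eq_nil_of_length_eq_zero hlen
    subst hl0
    have key : ∀ m : ℕ, chiK pre
        (M ⧸ (Ideal.span {a | a ∈ ([] : List A)}) ^ (m + 1) • (⊤ : Submodule A M))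
        = chiK ([] ++ pre) M := by
      intro m
      have hbot : (Ideal.span {a | a ∈ ([] : List A)}) ^ (m + 1) • (⊤ : Submodule A M) = ⊥ := by
        have : {a : A | a ∈ ([] : List A)} = ∅ := by
          ext a
          simp
        rw [this, Ideal.span_empty, ← Ideal.zero_eq_bot, zero_pow (Nat.succ_ne_zero m),
          Ideal.zero_eq_bot, Submodule.bot_smul]
      exact chiK_congr pre _ (Submodule.quotEquivOfEqBot _ hbot)
    refine ⟨0, fun m => ?_, fun m => ?_⟩
    · show chiK pre _ ≤ _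
      rw [key m]
      simp
    · show _ ≤ chiK pre _ + _
      rw [key m]
      simp
  | succ s' ih =>
    intro l hlen hl pre hpre M _ _ _ h
    have hne : l ≠ [] := by
      intro e
      rw [e] at hlen
      simp at hlen
    have U : ∃ c : ℕ, UBnd (s' + 1) (fun n => chiK pre
        (M ⧸ (Ideal.span {a | a ∈ l}) ^ n • (⊤ : Submodule A M))) (chiK (l ++ pre) M) c := by
      obtain ⟨y, l', hl1⟩ := List.exists_cons_of_ne_nil hne
      subst hl1
      have hl'len : l'.length = s' := by simpa using hlen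
      have hl' : ∀ a ∈ l', a ∈ maximalIdeal A := fun a ha => hl a (List.mem_cons_of_mem _ ha)
      have h' : FL (Ideal.span {a | a ∈ y :: (l' ++ pre)}) M := h
      haveI : IsNoetherian A M := isNoetherian_of_isNoetherianRing_of_finite A M
      obtain ⟨k, hk⟩ := exists_pow_smul_powTors y M
      have hNk : ∀ n : powTors y M, y ^ k • n = 0 := fun n => Subtype.ext (hk n.1 n.2)
      have hΓ : FL (Ideal.span {a | a ∈ l' ++ pre}) (powTors y M) :=
        FL_of_killed (h'.of_injective _ (Submodule.subtype_injective _)) k hNk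
      have hQ : FL (Ideal.span {a | a ∈ l' ++ pre}) (QuotSMulTop y (M ⧸ powTors y M)) :=
        FL_quotSMulTop (l' ++ pre) _ y (h'.of_surjective _ (Submodule.mkQ_surjective _))
      exact upper_bound s' y l' hl' pre hpre M h'
        (ih l' hl'len hl' pre hpre (powTors y M) hΓ)
        (ih l' hl'len hl' pre hpre (QuotSMulTop y (M ⧸ powTors y M)) hQ)
    have L : ∃ c : ℕ, LBnd (s' + 1) (fun n => chiK pre
        (M ⧸ (Ideal.span {a | a ∈ l}) ^ n • (⊤ : Submodule A M))) (chiK (l ++ pre) M) c := by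
      obtain ⟨l'', w, hl2⟩ : ∃ l'' w, l = l'' ++ [w] :=
        ⟨_, _, (List.dropLast_append_getLast hne).symm⟩
      subst hl2
      have hlen'' : l''.length = s' := by simpa using hlen
      have hw : w ∈ maximalIdeal A := hl w (by simp)
      have hl'' : ∀ a ∈ l'', a ∈ maximalIdeal A := fun a ha => hl a (by simp [ha])
      have hpre' : ∀ a ∈ w :: pre, a ∈ maximalIdeal A := by
        intro a ha
        rcases List.mem_cons.mp ha with rfl | ha
        · exact hw
        · exact hpre a ha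
      have h'' : FL (Ideal.span {a | a ∈ l'' ++ (w :: pre)}) M := by
        have e : (l'' ++ [w]) ++ pre = l'' ++ (w :: pre) := by simp
        rw [e] at h
        exact h
      exact lower_bound s' l'' w pre hpre M h (ih l'' hlen'' hl'' (w :: pre) hpre' M h'')
    obtain ⟨cU, hU⟩ := U
    obtain ⟨cL, hL⟩ := L
    refine ⟨cU + cL, fun m => ?_, fun m => ?_⟩
    · have h1 := hU m
      have hmono : ((cU * (s' + 1) * (m + 1) ^ (s' + 1 - 1) : ℕ) : ℤ)
          ≤ (((cU + cL) * (s' + 1) * (m + 1) ^ (s' + 1 - 1) : ℕ) : ℤ) := by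
        exact_mod_cast Nat.mul_le_mul_right _ (Nat.mul_le_mul_right _ (Nat.le_add_right _ _))
      exact h1.trans (add_le_add le_rfl hmono)
    · have h1 := hL m
      have hmono : ((cL * (s' + 1) * (m + 1) ^ (s' + 1 - 1) : ℕ) : ℤ)
          ≤ (((cU + cL) * (s' + 1) * (m + 1) ^ (s' + 1 - 1) : ℕ) : ℤ) := by
        exact_mod_cast Nat.mul_le_mul_right _ (Nat.mul_le_mul_right _ (Nat.le_add_left _ _))
      exact h1.trans (add_le_add le_rfl hmono)

end Main

end Groth.Agent.Helper6.KSam
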