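import Mathlib
import Groth.Agent.Helper4.RegLength
import Groth.Agent.Helper6.Dim1Rel

/-! Upper bound `ℓ(R/q^i) ≤ C(i+d-1,d)·ℓ(R/q)` for an ideal `q` generated by `d` elements, and the
characterisation of regular local rings by the Hilbert function of the maximal ideal. -/

set_option autoImplicit false
universe u

namespace Groth.Agent.Helper6.HSBound

open IsLocalRing MvPolynomial
open Groth.Agent.Helper4.RegLength (S mem_S card_S poly poly_isHomogeneous coeff_poly mon eval_poly
  mon_mem sum_choose)

variable {R : Type u} [CommRing R] {d : ℕ}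

/-- the map `c ↦ Σ c_α f^α mod q^{n+1}` -/
noncomputable def Ψq (f : Fin d → R) (n : ℕ) :
    (S d n → R) →ₗ[R] R ⧸ (Ideal.span (Set.range f) ^ (n + 1)) :=
  (Submodule.mkQ (Ideal.span (Set.range f) ^ (n + 1))) ∘ₗ
    Fintype.linearCombination R (fun α : S d n => mon f α.1)

lemma Ψq_apply (f : Fin d → R) (n : ℕ) (c : S d n → R) :
    Ψq f n c = Ideal.Quotient.mk (Ideal.span (Set.range f) ^ (n + 1)) (eval f (poly n c)) := by
  rw [eval_poly]
  simp only [Ψq, LinearMap.comp_apply, Fintype.linearCombination_apply, smul_eq_mul]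
  rfl

/-- the projection `R/q^{n+1} → R/q^n` -/
noncomputable def πq (q : Ideal R) (n : ℕ) : (R ⧸ (q ^ (n + 1))) →ₗ[R] R ⧸ (q ^ n) :=
  Submodule.mapQ _ _ LinearMap.id (by
    intro x hx
    exact Ideal.pow_le_pow_right (Nat.le_succ n) hx)

lemma πq_mk (q : Ideal R) (n : ℕ) (x : R) :
    πq q n (Ideal.Quotient.mk (q ^ (n + 1)) x) = Ideal.Quotient.mk (q ^ n) x :=
  rfl

lemma πq_surjective (q : Ideal R) (n : ℕ) : Function.Surjective (πq q n) := by
  intro y
  obtain ⟨x, rfl⟩ := Ideal.Quotient.mk_surjective y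
  exact ⟨Ideal.Quotient.mk _ x, rfl⟩

lemma range_Ψq (f : Fin d → R) (n : ℕ) :
    LinearMap.range (Ψq f n) = LinearMap.ker (πq (Ideal.span (Set.range f)) n) := by
  classical
  apply le_antisymm
  · rintro _ ⟨c, rfl⟩
    rw [LinearMap.mem_ker, Ψq_apply, πq_mk, Ideal.Quotient.eq_zero_iff_mem,
      Ideal.mem_span_pow_iff_exists_isHomogeneous]
    exact ⟨poly n c, poly_isHomogeneous n c, rfl⟩
  · intro y hy
    obtain ⟨z, rfl⟩ := Ideal.Quotient.mk_surjective y
    rw [LinearMap.mem_ker, πq_mk, Ideal.Quotient.eq_zero_iff_mem,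
      Ideal.mem_span_pow_iff_exists_isHomogeneous] at hy
    obtain ⟨P, hP, rfl⟩ := hy
    refine ⟨fun α => P.coeff α.1, ?_⟩
    rw [Ψq_apply]
    congr 1
    congr 1
    ext β
    by_cases hβ : β ∈ S d n
    · exact coeff_poly n _ ⟨β, hβ⟩
    · have h1 : (poly n fun α : S d n => P.coeff α.1).coeff β = 0 := by
        rw [poly, coeff_sum]
        refine Finset.sum_eq_zero fun α _ => ?_
        rw [coeff_monomial, if_neg]
        rintro rfl
        exact hβ α.2
      rw [h1]
      by_contra hne
      have hmem : β ∈ P.support := mem_support_iff.mpr (Ne.symm hne)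
      have := hP (mem_support_iff.mp hmem)
      have h2 : β.degree = n := by
        rw [Finsupp.degree_eq_weight_one (R := ℕ)]; exact this
      exact hβ ((mem_S β).mpr h2)

lemma pi_le_ker_Ψq (f : Fin d → R) (n : ℕ) :
    Submodule.pi Set.univ (fun _ : S d n => (Ideal.span (Set.range f) : Submodule R R)) ≤
      LinearMap.ker (Ψq f n) := by
  intro c h
  rw [Submodule.mem_pi] at h
  rw [LinearMap.mem_ker, Ψq_apply, Ideal.Quotient.eq_zero_iff_mem, eval_poly]
  refine Ideal.sum_mem _ fun α _ => ?_
  rw [pow_succ']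
  exact Ideal.mul_mem_mul (h α trivial) (mon_mem f α)

lemma length_range_Ψq_le (f : Fin d → R) (n : ℕ) :
    Module.length R (LinearMap.range (Ψq f n)) ≤
      ((S d n).card : ℕ∞) * Module.length R (R ⧸ Ideal.span (Set.range f)) := by
  classical
  rw [← (LinearMap.quotKerEquivRange (Ψq f n)).length_eq]
  refine (Module.length_le_of_surjective _
    (Submodule.factor_surjective (pi_le_ker_Ψq f n))).trans ?_
  rw [(Submodule.quotientPi _).length_eq, Module.length_pi_of_fintype]
  simp

lemma length_succ_le (f : Fin d → R) (n : ℕ) :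
    Module.length R (R ⧸ (Ideal.span (Set.range f) ^ (n + 1))) ≤
      ((S d n).card : ℕ∞) * Module.length R (R ⧸ Ideal.span (Set.range f)) +
        Module.length R (R ⧸ (Ideal.span (Set.range f) ^ n)) := by
  have h1 := Module.length_eq_add_of_exact
    (LinearMap.ker (πq (Ideal.span (Set.range f)) n)).subtype (πq (Ideal.span (Set.range f)) n)
    (Submodule.subtype_injective _) (πq_surjective _ n)
    (by rw [LinearMap.exact_iff, Submodule.range_subtype])
  rw [h1, ← range_Ψq f n]
  exact add_le_add (length_range_Ψq_le f n) le_rfl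

theorem length_le_sum (f : Fin d → R) (i : ℕ) :
    Module.length R (R ⧸ (Ideal.span (Set.range f) ^ i)) ≤
      ((∑ n ∈ Finset.range i, (S d n).card : ℕ) : ℕ∞) *
        Module.length R (R ⧸ Ideal.span (Set.range f)) := by
  induction i with
  | zero =>
    rw [pow_zero, Ideal.one_eq_top]
    have : Module.length R (R ⧸ (⊤ : Ideal R)) = 0 := by
      rw [Module.length_eq_zero_iff]
      exact Submodule.Quotient.subsingleton_iff.mpr rfl
    rw [this]
    exact zero_le
  | succ i ih =>
    refine (length_succ_le f i).trans ?_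
    rw [Finset.sum_range_succ, Nat.cast_add, add_mul, add_comm]
    exact add_le_add ih le_rfl

theorem length_le_choose (f : Fin d → R) (i : ℕ) (hi : 1 ≤ i) :
    Module.length R (R ⧸ (Ideal.span (Set.range f) ^ i)) ≤
      (((i + d - 1).choose d : ℕ) : ℕ∞) *
        Module.length R (R ⧸ Ideal.span (Set.range f)) := by
  refine (length_le_sum f i).trans ?_
  rw [← sum_choose d i hi]
  refine le_of_eq ?_
  congr 2
  exact Finset.sum_congr rfl fun n _ => card_S d n

end Groth.Agent.Helper6.HSBound
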