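import Mathlib
import Groth.Agent.Helper6.SamuelLimit
import Groth.Agent.Helper6.HSBound

/-! The multiplicity of a parameter ideal is at most the colength; the number of top-dimensional
minimal primes is at most the multiplicity. -/

set_option autoImplicit false
universe u

namespace Groth.Agent.Helper6.SamuelBound

open Groth.Agent.Helper6 Groth.Agent.Helper6.HSamuel Polynomial Filter Topology
open Groth.Agent.Helper6.HilbSerre Groth.Agent.Helper6.SamuelTop Groth.Agent.Helper6.SamuelDiff
open Groth.Agent.Helper6.SamuelLimit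
open IsLocalRing

theorem tendsto_choose (d : ℕ) :
    Tendsto (fun t : ℕ => ((d.factorial : ℝ) * (((t + d - 1).choose d : ℕ) : ℝ)) / (t : ℝ) ^ d)
      atTop (𝓝 1) := by
  have hdeg : (ascPochhammer ℝ d).degree = (X ^ d : ℝ[X]).degree := by
    rw [degree_X_pow, degree_eq_natDegree (monic_ascPochhammer ℝ d).ne_zero,
      ascPochhammer_natDegree]
  have h := (div_tendsto_atTop_leadingCoeff_div_of_degree_eq (ascPochhammer ℝ d) (X ^ d : ℝ[X])
    hdeg).comp tendsto_natCast_atTop_atTop
  rw [(monic_ascPochhammer ℝ d).leadingCoeff, (monic_X_pow d).leadingCoeff, div_one] at h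
  refine h.congr' ?_
  filter_upwards with t
  simp only [Function.comp_apply, eval_pow, eval_X]
  rw [← ascPochhammer_eval_cast, ascPochhammer_nat_eq_ascFactorial,
    Nat.ascFactorial_eq_factorial_mul_choose']
  push_cast
  rfl

variable {A : Type u} [CommRing A] [IsNoetherianRing A] [IsLocalRing A]

theorem mult_le_length (d : ℕ) (g : Fin d → A)
    (hI : Ideal.span (Set.range g) ≤ maximalIdeal A ∧
      ∃ n : ℕ, maximalIdeal A ^ n ≤ Ideal.span (Set.range g))
    (hd : ringKrullDim A ≤ d) :
    mult (Ideal.span (Set.range g)) d A ≤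
      ((Module.length A (A ⧸ Ideal.span (Set.range g))).toNat : ℝ) := by
  set I := Ideal.span (Set.range g) with hIdef
  have hV := qMax_of_primary I hI.2
  have hT := tendsto_T_mult I hI d A (by rw [Module.supportDim_self_eq_ringKrullDim]; exact hd)
  set L := (Module.length A (A ⧸ I)).toNat with hL
  have hfin : Module.length A (A ⧸ I) ≠ ⊤ := by
    have := length_chi_ne_top hV A 1
    rwa [pow_one, (Submodule.quotEquivOfEq _ _ (show I • (⊤ : Submodule A A) = I by
      rw [smul_eq_mul, Ideal.mul_top])).length_eq] at this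
  have hU := (tendsto_choose d).mul_const (L : ℝ)
  rw [one_mul] at hU
  refine le_of_tendsto_of_tendsto hT hU ?_
  filter_upwards [eventually_ge_atTop 1] with t ht
  rw [T_eq_chi, chi_self]
  have h1 := Groth.Agent.Helper6.HSBound.length_le_choose g t ht
  rw [← ENat.natCast_toNat hfin, ← hL] at h1
  have h2 : (Module.length A (A ⧸ I ^ t)).toNat ≤ (t + d - 1).choose d * L := by
    have h3 : Module.length A (A ⧸ I ^ t) ≠ ⊤ := by
      intro h
      rw [h] at h1
      have : ((((t + d - 1).choose d : ℕ) : ℕ∞) * (L : ℕ∞)) ≠ ⊤ := by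
        rw [← Nat.cast_mul]
        exact ENat.natCast_ne_top _
      exact this (top_le_iff.mp h1)
    rw [← ENat.natCast_toNat h3, ← Nat.cast_mul] at h1
    exact_mod_cast h1
  have h4 : ((Module.length A (A ⧸ I ^ t)).toNat : ℝ) ≤ (((t + d - 1).choose d : ℕ) : ℝ) * L := by
    exact_mod_cast h2
  have hpos : (0 : ℝ) < (t : ℝ) ^ d := by positivity
  rw [Int.cast_natCast, div_mul_eq_mul_div, div_le_div_iff_of_pos_right hpos, mul_assoc]
  exact mul_le_mul_of_nonneg_left h4 (by positivity)

theorem length_quot_ne_top (I : Ideal A) (hI : ∃ n : ℕ, maximalIdeal A ^ n ≤ I) :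
    Module.length A (A ⧸ I) ≠ ⊤ := by
  have hV := qMax_of_primary I hI
  have := length_chi_ne_top hV A 1
  rwa [pow_one, (Submodule.quotEquivOfEq _ _ (show I • (⊤ : Submodule A A) = I by
    rw [smul_eq_mul, Ideal.mul_top])).length_eq] at this

theorem mem_support_self (p : PrimeSpectrum A) : p ∈ Module.support A A := by
  rw [Module.support_eq_zeroLocus, PrimeSpectrum.mem_zeroLocus]
  intro x hx
  have hx' : x ∈ Module.annihilator A A := hx
  rw [Module.mem_annihilator] at hx'
  have := hx' 1
  rw [smul_eq_mul, mul_one] at this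
  rw [this]
  exact p.asIdeal.zero_mem

theorem main_S7117 (d : ℕ) (hd : ringKrullDim A = d) (g : Fin d → A)
    (hg : ∀ i, g i ∈ maximalIdeal A)
    (hsop : maximalIdeal A ≤ (Ideal.span (Set.range g)).radical) :
    (Set.ncard {p : Ideal A | p ∈ minimalPrimes A ∧ ringKrullDim (A ⧸ p) = d} : ℕ∞) ≤
      Module.length A (A ⧸ Ideal.span (Set.range g)) := by
  classical
  set I := Ideal.span (Set.range g) with hIdef
  have hI : I ≤ maximalIdeal A ∧ ∃ n : ℕ, maximalIdeal A ^ n ≤ I := by
    refine ⟨?_, Ideal.exists_pow_le_of_le_radical_of_fg hsop (IsNoetherian.noetherian _)⟩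
    rw [hIdef, Ideal.span_le]
    rintro _ ⟨i, rfl⟩
    exact hg i
  have hfin := length_quot_ne_top I hI.2
  have hsd : Module.supportDim A A ≤ d := by
    rw [Module.supportDim_self_eq_ringKrullDim, hd]
  set e : PrimeSpectrum A → ℝ := fun p => mult I d (A ⧸ p.asIdeal) with he
  have hlim : ∀ p : PrimeSpectrum A, ringKrullDim (A ⧸ p.asIdeal) = d →
      Tendsto (T I d (A ⧸ p.asIdeal)) atTop (𝓝 (e p)) := fun p hp =>
    tendsto_T_mult I hI d _ (by rw [Module.supportDim_quotient_eq_ringKrullDim, hp])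
  have h1 := SamuelTop.main I d e hI hlim A hsd
  have h2 := tendsto_T_mult I hI d A hsd
  have h3 : S d e A = mult I d A := tendsto_nhds_unique h1 h2
  have h4 := mult_le_length d g hI hd.le
  rw [← h3] at h4
  -- the set of top-dimensional primes
  set Top : Set (PrimeSpectrum A) := {p | ringKrullDim (A ⧸ p.asIdeal) = d} with hTop
  have hTopfin : Top.Finite := by
    refine (finite_top d A hsd).subset ?_
    intro p hp
    exact ⟨hp, mem_support_self p⟩
  have h5 : (Top.ncard : ℝ) ≤ S d e A := by
    have hS : S d e A = ∑ᶠ p ∈ Top, ((lp p A).toNat : ℝ) * e p := rfl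
    rw [hS, finsum_mem_eq_finite_toFinset_sum _ hTopfin, Set.ncard_eq_toFinset_card Top hTopfin]
    rw [Finset.cast_card]
    refine Finset.sum_le_sum (fun p hp => ?_)
    rw [Set.Finite.mem_toFinset] at hp
    have hp' : ringKrullDim (A ⧸ p.asIdeal) = d := hp
    have k1 : (1 : ℝ) ≤ e p :=
      one_le_mult I hI d _ (by rw [Module.supportDim_quotient_eq_ringKrullDim, hp'])
    have k2 : lp p A ≠ ⊤ := lp_ne_top d p A hsd hp'
    have k3 : lp p A ≠ 0 := by
      intro h0
      have hsub : Subsingleton (LocalizedModule p.asIdeal.primeCompl A) :=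
        Module.length_eq_zero_iff.mp h0
      exact (Module.notMem_support_iff.mpr hsub) (mem_support_self p)
    have k4 : 1 ≤ (lp p A).toNat := by
      rw [Nat.one_le_iff_ne_zero]
      intro h0
      rw [ENat.toNat_eq_zero] at h0
      rcases h0 with h0 | h0
      · exact k3 h0
      · exact k2 h0
    have k5 : (1 : ℝ) ≤ ((lp p A).toNat : ℝ) := by exact_mod_cast k4
    calc (1 : ℝ) = 1 * 1 := by ring
      _ ≤ ((lp p A).toNat : ℝ) * e p := mul_le_mul k5 k1 zero_le_one (by positivity)
  have h6 : {p : Ideal A | p ∈ minimalPrimes A ∧ ringKrullDim (A ⧸ p) = d} ⊆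
      PrimeSpectrum.asIdeal '' Top := by
    rintro p ⟨hpmin, hpd⟩
    exact ⟨⟨p, hpmin.1.1⟩, hpd, rfl⟩
  have h7 : Set.ncard {p : Ideal A | p ∈ minimalPrimes A ∧ ringKrullDim (A ⧸ p) = d} ≤
      Top.ncard :=
    (Set.ncard_le_ncard h6 (hTopfin.image _)).trans (Set.ncard_image_le hTopfin)
  have h8 : (Top.ncard : ℝ) ≤ ((Module.length A (A ⧸ I)).toNat : ℝ) := h5.trans h4
  have h9 : Top.ncard ≤ (Module.length A (A ⧸ I)).toNat := by exact_mod_cast h8
  rw [← ENat.natCast_toNat hfin]
  exact_mod_cast h7.trans h9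

end Groth.Agent.Helper6.SamuelBound
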