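import Mathlib
import Groth.Prelude
import Groth.Agent.Helper1.KoszulAcyclic
import Groth.Agent.Helper1.KoszulTop
import Groth.Agent.Helper6.KSam3
import Groth.Agent.Helper6.KPoly1
import Groth.Agent.Helper6.SamuelBound

/-!
# Samuel multiplicity and Koszul Euler characteristics, part 4: limits
-/

set_option autoImplicit false
set_option linter.style.haveILetI false
set_option linter.unusedSectionVars false
universe u

namespace Groth.Agent.Helper6.KSam
open CategoryTheory Limits CochainComplex HomologicalComplex CohIII Pointwise IsLocalRing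
open Groth.Agent.Helper1.Koszul Groth.Agent.Helper6.KEuler Groth.Agent.Helper6.KPoly
open Filter Topology

section Analysis

theorem pow_pred_identity (s : ℕ) (N : ℝ) (hN : 0 < N) :
    (s : ℝ) * N ^ (s - 1) = s * N ^ s / N := by
  rcases s with _ | t
  · simp
  · simp only [Nat.add_sub_cancel]
    field_simp
    ring

theorem tendsto_of_TB (s : ℕ) (χn : ℕ → ℤ) (χ : ℤ) (h : TB s χn χ) :
    Tendsto (fun n : ℕ => (s.factorial : ℝ) * (χn n : ℝ) / (n : ℝ) ^ s) atTop (𝓝 (χ : ℝ)) := by
  obtain ⟨c, hU, hL⟩ := h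
  have hT := Groth.Agent.Helper6.SamuelBound.tendsto_choose s
  have hE : Tendsto (fun n : ℕ => ((s.factorial : ℝ) * c * s) / (n : ℝ)) atTop (𝓝 0) :=
    tendsto_const_div_atTop_nhds_zero_nat _
  have hlow : Tendsto (fun n : ℕ => (χ : ℝ) * (((s.factorial : ℝ) *
      (((n + s - 1).choose s : ℕ) : ℝ)) / (n : ℝ) ^ s) - ((s.factorial : ℝ) * c * s) / (n : ℝ))
      atTop (𝓝 (χ : ℝ)) := by
    have := (hT.const_mul (χ : ℝ)).sub hE
    simpa using this
  have hup : Tendsto (fun n : ℕ => (χ : ℝ) * (((s.factorial : ℝ) *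
      (((n + s - 1).choose s : ℕ) : ℝ)) / (n : ℝ) ^ s) + ((s.factorial : ℝ) * c * s) / (n : ℝ))
      atTop (𝓝 (χ : ℝ)) := by
    have := (hT.const_mul (χ : ℝ)).add hE
    simpa using this
  refine tendsto_of_tendsto_of_tendsto_of_le_of_le' hlow hup ?_ ?_
  · filter_upwards [Filter.eventually_ge_atTop 1] with n hn
    obtain ⟨m, rfl⟩ : ∃ m, n = m + 1 := ⟨n - 1, by omega⟩
    have hidx : m + 1 + s - 1 = m + s := by omega
    rw [hidx]
    have hN : (0 : ℝ) < ((m + 1 : ℕ) : ℝ) := by positivity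
    have hP : (0 : ℝ) < ((m + 1 : ℕ) : ℝ) ^ s := by positivity
    have h1 : ((χ * (((m + s).choose s : ℕ) : ℤ) : ℤ) : ℝ)
        ≤ ((χn (m + 1) + ((c * s * (m + 1) ^ (s - 1) : ℕ) : ℤ) : ℤ) : ℝ) := by
      exact_mod_cast hL m
    push_cast at h1
    have hid := pow_pred_identity s (((m + 1 : ℕ) : ℝ)) hN
    push_cast at hid hN hP ⊢
    rw [le_div_iff₀ hP]
    have e : ((χ : ℝ) * ((s.factorial : ℝ) * ((m + s).choose s : ℝ) / ((m : ℝ) + 1) ^ s)
        - (s.factorial : ℝ) * c * s / ((m : ℝ) + 1)) * ((m : ℝ) + 1) ^ s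
        = (s.factorial : ℝ) * ((χ : ℝ) * ((m + s).choose s : ℝ)
          - c * (s * ((m : ℝ) + 1) ^ s / ((m : ℝ) + 1))) := by
      field_simp
    rw [e, ← hid]
    apply mul_le_mul_of_nonneg_left _ (by positivity)
    linarith
  · filter_upwards [Filter.eventually_ge_atTop 1] with n hn
    obtain ⟨m, rfl⟩ : ∃ m, n = m + 1 := ⟨n - 1, by omega⟩
    have hidx : m + 1 + s - 1 = m + s := by omega
    rw [hidx]
    have hN : (0 : ℝ) < ((m + 1 : ℕ) : ℝ) := by positivity
    have hP : (0 : ℝ) < ((m + 1 : ℕ) : ℝ) ^ s := by positivity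
    have h1 : ((χn (m + 1) : ℤ) : ℝ)
        ≤ ((χ * (((m + s).choose s : ℕ) : ℤ) + ((c * s * (m + 1) ^ (s - 1) : ℕ) : ℤ) : ℤ) : ℝ) := by
      exact_mod_cast hU m
    push_cast at h1
    have hid := pow_pred_identity s (((m + 1 : ℕ) : ℝ)) hN
    push_cast at hid hN hP ⊢
    rw [div_le_iff₀ hP]
    have e : ((χ : ℝ) * ((s.factorial : ℝ) * ((m + s).choose s : ℝ) / ((m : ℝ) + 1) ^ s)
        + (s.factorial : ℝ) * c * s / ((m : ℝ) + 1)) * ((m : ℝ) + 1) ^ s
        = (s.factorial : ℝ) * ((χ : ℝ) * ((m + s).choose s : ℝ)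
          + c * (s * ((m : ℝ) + 1) ^ s / ((m : ℝ) + 1))) := by
      field_simp
    rw [e, ← hid]
    apply mul_le_mul_of_nonneg_left _ (by positivity)
    linarith

end Analysis

variable {A : Type u} [CommRing A] [IsNoetherianRing A]

section Samuel

variable [IsLocalRing A]

/-- Serre's theorem: the Samuel multiplicity (normalised by the number of generators) is the
Koszul Euler characteristic. -/
theorem samuel_tendsto (l : List A) (r : ℕ) (hr : l.length = r)
    (hl : ∀ a ∈ l, a ∈ maximalIdeal A)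
    (M : Type u) [AddCommGroup M] [Module A M] [Module.Finite A M]
    (h : FL (Ideal.span {a | a ∈ l}) M) :
    Tendsto (fun n : ℕ => (r.factorial : ℝ) *
        ((Module.length A (M ⧸ (Ideal.span {a | a ∈ l}) ^ n • (⊤ : Submodule A M))).toNat : ℝ)
          / (n : ℝ) ^ r) atTop (𝓝 ((chiK l M : ℤ) : ℝ)) := by
  have hmain := main r l hr hl [] (by simp) M (by simpa using h)
  rw [List.append_nil] at hmain
  have := tendsto_of_TB r _ _ hmain
  refine this.congr ?_
  intro n
  rw [chiK_nil]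
  push_cast
  rfl

end Samuel

section Lech

theorem toNat_le_of_le {a : ℕ∞} {n : ℕ} (h : a ≤ (n : ℕ∞)) : a.toNat ≤ n := by
  have hne : a ≠ ⊤ := fun e => by rw [e] at h; exact absurd h (by simp)
  lift a to ℕ using hne
  simpa using h

/-- Lech's limit formula for the Koszul Euler characteristic. -/
theorem lech_tendsto (d : ℕ) (x : Fin d → A)
    (M : Type u) [AddCommGroup M] [Module A M] [Module.Finite A M]
    (h : FL (Ideal.span (Set.range x)) M) :
    Tendsto (fun n : ℕ => ((Module.length A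
        (M ⧸ (Ideal.span (Set.range fun i => x i ^ n) • (⊤ : Submodule A M)))).toNat : ℝ)
          / (n : ℝ) ^ d) atTop (𝓝 ((chiK (List.ofFn x) M : ℤ) : ℝ)) := by
  have hset : {a | a ∈ List.ofFn x} = Set.range x := by
    ext a
    exact List.mem_ofFn
  have hFL : FL (Ideal.span {a | a ∈ List.ofFn x}) M := by
    rw [hset]
    exact h
  -- bounds on higher homology
  have hb : ∀ p : ℕ, ∃ c : ℕ, ∀ n : ℕ, 0 < n →
      Module.length A (KH ((List.ofFn x).map (· ^ n)) M (-((p + 1 : ℕ) : ℤ)))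
        ≤ ((c * n ^ ((List.ofFn x).length - (p + 1)) : ℕ) : ℕ∞) :=
    fun p => polyBd_KH (List.ofFn x) M hFL (p + 1)
  choose cf hcf using hb
  obtain ⟨C, hC⟩ : ∃ C : ℕ, C = ∑ p ∈ Finset.range d, cf p := ⟨_, rfl⟩
  -- the main estimate
  have key : ∀ n : ℕ, 0 < n →
      |(((Module.length A
        (M ⧸ (Ideal.span (Set.range fun i => x i ^ n) • (⊤ : Submodule A M)))).toNat : ℤ)
        - (n : ℤ) ^ d * chiK (List.ofFn x) M)| ≤ ((C * n ^ (d - 1) : ℕ) : ℤ) := by
    intro n hn
    have hFLn : FL (Ideal.span {a | a ∈ (List.ofFn fun j => (x j, n)).map Prod.fst}) M := by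
      rw [List.map_ofFn]
      exact hFL
    have hpow := chiK_pow (List.ofFn (fun j => (x j, n))) M hFLn
    rw [List.map_ofFn, List.map_ofFn, List.map_ofFn, List.prod_ofFn] at hpow
    have hprod : (∏ i : Fin d, ((fun q : A × ℕ => (q.2 : ℤ)) ∘ fun j => (x j, n)) i) = (n : ℤ) ^ d := by
      simp
    rw [hprod] at hpow
    have hL : (List.ofFn ((fun q : A × ℕ => q.1 ^ q.2) ∘ fun j => (x j, n)))
        = (List.ofFn x).map (· ^ n) := by
      rw [List.map_ofFn]
      rfl
    have hL2 : (List.ofFn (Prod.fst ∘ fun j => (x j, n))) = List.ofFn x := rfl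
    rw [hL, hL2] at hpow
    have hsum := chiK_eq_sum ((List.ofFn x).map (· ^ n)) M d (by simp)
    rw [Finset.sum_range_succ'] at hsum
    simp only [pow_zero, one_mul] at hsum
    -- H₀
    have h0 : hN ((List.ofFn x).map (· ^ n)) M 0
        = ((Module.length A
          (M ⧸ (Ideal.span (Set.range fun i => x i ^ n) • (⊤ : Submodule A M)))).toNat : ℤ) := by
      unfold hN
      have hz : (-((0 : ℕ) : ℤ)) = 0 := by simp
      rw [hz]
      obtain ⟨e⟩ := nonempty_homology_zero_equiv M ((List.ofFn x).map (· ^ n))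
      have hI : Ideal.ofList ((List.ofFn x).map (· ^ n))
          = Ideal.span (Set.range fun i => x i ^ n) := by
        unfold Ideal.ofList
        congr 1
        ext a
        simp [List.mem_ofFn]
      rw [e.length_eq, hI]
    -- the tail
    have htail : |∑ p ∈ Finset.range d,
        (-1 : ℤ) ^ (p + 1) * hN ((List.ofFn x).map (· ^ n)) M (p + 1)|
        ≤ ((C * n ^ (d - 1) : ℕ) : ℤ) := by
      refine (Finset.abs_sum_le_sum_abs _ _).trans ?_
      rw [hC]
      push_cast
      rw [Finset.sum_mul]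
      apply Finset.sum_le_sum
      intro p hp
      have hp' := Finset.mem_range.mp hp
      rw [abs_mul, abs_pow, abs_neg, abs_one, one_pow, one_mul]
      unfold hN
      rw [abs_of_nonneg (by positivity)]
      have h1 := toNat_le_of_le (hcf p n hn)
      have h2 : cf p * n ^ ((List.ofFn x).length - (p + 1)) ≤ cf p * n ^ (d - 1) := by
        apply Nat.mul_le_mul_left
        apply Nat.pow_le_pow_right hn
        rw [List.length_ofFn]
        omega
      exact_mod_cast h1.trans h2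
    rw [h0] at hsum
    have : ((Module.length A
        (M ⧸ (Ideal.span (Set.range fun i => x i ^ n) • (⊤ : Submodule A M)))).toNat : ℤ)
        - (n : ℤ) ^ d * chiK (List.ofFn x) M
        = -(∑ p ∈ Finset.range d,
          (-1 : ℤ) ^ (p + 1) * hN ((List.ofFn x).map (· ^ n)) M (p + 1)) := by
      rw [← hpow, hsum]
      ring
    rw [this, abs_neg]
    exact htail
  -- squeeze
  have hE : Tendsto (fun n : ℕ => (C : ℝ) / (n : ℝ)) atTop (𝓝 0) :=
    tendsto_const_div_atTop_nhds_zero_nat _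
  have hlow : Tendsto (fun n : ℕ => ((chiK (List.ofFn x) M : ℤ) : ℝ) - (C : ℝ) / (n : ℝ)) atTop
      (𝓝 ((chiK (List.ofFn x) M : ℤ) : ℝ)) := by
    have := (tendsto_const_nhds (x := ((chiK (List.ofFn x) M : ℤ) : ℝ))).sub hE
    simpa using this
  have hup : Tendsto (fun n : ℕ => ((chiK (List.ofFn x) M : ℤ) : ℝ) + (C : ℝ) / (n : ℝ)) atTop
      (𝓝 ((chiK (List.ofFn x) M : ℤ) : ℝ)) := by
    have := (tendsto_const_nhds (x := ((chiK (List.ofFn x) M : ℤ) : ℝ))).add hE
    simpa using this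
  have hkeyR : ∀ n : ℕ, 0 < n →
      |((Module.length A
        (M ⧸ (Ideal.span (Set.range fun i => x i ^ n) • (⊤ : Submodule A M)))).toNat : ℝ)
          / (n : ℝ) ^ d - ((chiK (List.ofFn x) M : ℤ) : ℝ)| ≤ (C : ℝ) / (n : ℝ) := by
    intro n hn
    have hk := key n hn
    have hk' : |(((Module.length A
        (M ⧸ (Ideal.span (Set.range fun i => x i ^ n) • (⊤ : Submodule A M)))).toNat : ℝ)
        - (n : ℝ) ^ d * ((chiK (List.ofFn x) M : ℤ) : ℝ))| ≤ (C : ℝ) * (n : ℝ) ^ (d - 1) := by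
      exact_mod_cast hk
    have hN : (0 : ℝ) < (n : ℝ) := by exact_mod_cast hn
    have hP : (0 : ℝ) < (n : ℝ) ^ d := by positivity
    have e1 : ((Module.length A
        (M ⧸ (Ideal.span (Set.range fun i => x i ^ n) • (⊤ : Submodule A M)))).toNat : ℝ)
          / (n : ℝ) ^ d - ((chiK (List.ofFn x) M : ℤ) : ℝ)
        = (((Module.length A
        (M ⧸ (Ideal.span (Set.range fun i => x i ^ n) • (⊤ : Submodule A M)))).toNat : ℝ)
        - (n : ℝ) ^ d * ((chiK (List.ofFn x) M : ℤ) : ℝ)) / (n : ℝ) ^ d := by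
      field_simp
    rw [e1, abs_div, abs_of_pos hP, div_le_div_iff₀ hP hN]
    have e2 : (C : ℝ) * ((n : ℝ) ^ (d - 1) * (n : ℝ)) ≤ (C : ℝ) * (n : ℝ) ^ d := by
      rcases d with _ | t
      · have hC0 : C = 0 := by
          rw [hC]
          simp
        rw [hC0]
        simp
      · simp only [Nat.add_sub_cancel]
        rw [← pow_succ]
    calc _ ≤ (C : ℝ) * (n : ℝ) ^ (d - 1) * (n : ℝ) := by
          apply mul_le_mul_of_nonneg_right hk' hN.le
      _ = (C : ℝ) * ((n : ℝ) ^ (d - 1) * (n : ℝ)) := by ring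
      _ ≤ (C : ℝ) * (n : ℝ) ^ d := e2
  refine tendsto_of_tendsto_of_tendsto_of_le_of_le' hlow hup ?_ ?_
  · filter_upwards [Filter.eventually_ge_atTop 1] with n hn
    have := (abs_le.mp (hkeyR n hn)).1
    linarith
  · filter_upwards [Filter.eventually_ge_atTop 1] with n hn
    have := (abs_le.mp (hkeyR n hn)).2
    linarith

end Lech

end Groth.Agent.Helper6.KSam
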