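import Mathlib
import Groth.Prelude
import Groth.Agent.Helper6.KSam4

/-!
# Samuel multiplicity and Koszul Euler characteristics, part 5: real-valued bridge
-/

set_option autoImplicit false
universe u

namespace Groth.Agent.Helper6.KSam
open CategoryTheory Limits CochainComplex HomologicalComplex
open Groth.Agent.Helper6.KEuler

variable {A : Type u} [CommRing A]

theorem chi_bridge_real (l : List A) (M : Type u) [AddCommGroup M] [Module A M] :
    (∑ᶠ i : ℤ, (((i.negOnePow : ℤˣ) : ℤ) : ℝ) * ((((Module.length A
      ((DRing.tensorCx (Koszul.koszul A l) (ModuleCat.of A M)).homology i)).toNat : ℕ) : ℤ) : ℝ))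
      = ((chiK l M : ℤ) : ℝ) := by
  unfold chiK
  have hfin : (Function.support fun i : ℤ =>
      ((i.negOnePow : ℤˣ) : ℤ) * ((Module.length A (KH l M i)).toNat : ℤ)).Finite := by
    apply (Set.finite_Icc (-(l.length : ℤ)) 0).subset
    intro i hi
    rw [Function.mem_support] at hi
    by_contra hmem
    apply hi
    have : Module.length A (KH l M i) = 0 := by
      by_cases h0 : 0 < i
      · exact length_KH_eq_zero_of_pos l M i h0
      · apply length_KH_eq_zero_of_lt
        by_contra hlt
        apply hmem
        rw [Set.mem_Icc]
        omega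
    rw [this]
    simp
  have h := AddMonoidHom.map_finsum (Int.castAddHom ℝ) hfin
  simp only [Int.coe_castAddHom] at h
  rw [h]
  apply finsum_congr
  intro i
  rw [length_bridge]
  push_cast
  rfl

end Groth.Agent.Helper6.KSam
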