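import Mathlib
import Groth.Prelude
import Groth.Agent.Helper1.TorFlat
import Groth.Agent.Helper3.KzTor
import Groth.Agent.Helper6.KSam5

/-!
# Samuel multiplicity and Koszul Euler characteristics, part 6: the Tor Euler characteristic
against the quotient by a regular sequence
-/

set_option autoImplicit false
set_option linter.style.haveILetI false
universe u

namespace Groth.Agent.Helper6.KSam
open CategoryTheory Limits CochainComplex HomologicalComplex CohIII MonoidalCategory
open Groth.Agent.Helper1.Koszul Groth.Agent.Helper6.KEuler Groth.Agent.Helper1.TorLib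
open TensorProduct

variable {A : Type u} [CommRing A]

theorem length_tor_eq (l : List A) (hl : RingTheory.Sequence.IsWeaklyRegular A l)
    (M : Type u) [AddCommGroup M] [Module A M] (i : ℕ) :
    Module.length A (DRing.Tor A i (A ⧸ Ideal.ofList l) M)
      = Module.length A (KH l M (-(i : ℤ))) := by
  rcases i with _ | n
  · have e1 := ((torZeroNatIso (ModuleCat.of A M)).app
      (ModuleCat.of A (A ⧸ Ideal.ofList l))).toLinearEquiv
    have e2 : ((A ⧸ Ideal.ofList l) ⊗[A] M) ≃ₗ[A] M ⧸ (Ideal.ofList l • (⊤ : Submodule A M)) :=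
      TensorProduct.quotTensorEquivQuotSMul M (Ideal.ofList l)
    obtain ⟨e3⟩ := nonempty_homology_zero_equiv M l
    have hz : (-((0 : ℕ) : ℤ)) = 0 := by simp
    rw [hz, e3.length_eq, ← e2.length_eq]
    exact e1.length_eq
  · have hK : LCI.IsKoszulRegularSeq A l := by
      rw [Groth.Agent.Lead.KoszulFunC.isKoszulRegularSeq_iff]
      intro i hi
      exact isZero_homology_of_isWeaklyRegular l A hl i hi
    obtain ⟨e⟩ := Groth.Agent.Helper3.KzTor.nonempty_tor_quot_iso l hK (ModuleCat.of A M) n
    have hidx : (-((n + 1 : ℕ) : ℤ)) = -((n : ℤ) + 1) := by push_cast; ring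
    rw [hidx]
    exact e.toLinearEquiv.length_eq

theorem intMult_chi_eq_chiK (l : List A) (hl : RingTheory.Sequence.IsWeaklyRegular A l)
    (M : Type u) [AddCommGroup M] [Module A M] :
    IntMult.chi A (A ⧸ Ideal.ofList l) M = chiK l M := by
  unfold IntMult.chi
  rw [chiK_eq_sum l M l.length le_rfl]
  rw [finsum_eq_sum_of_support_subset (s := Finset.range (l.length + 1))]
  · apply Finset.sum_congr rfl
    intro p _
    unfold hN
    rw [length_tor_eq l hl M p]
  · intro i hi
    rw [Function.mem_support] at hi
    by_contra hmem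
    apply hi
    rw [length_tor_eq l hl M i, length_KH_eq_zero_of_lt]
    · simp
    · rw [Finset.mem_coe, Finset.mem_range] at hmem
      omega

end Groth.Agent.Helper6.KSam
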