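import Mathlib
import Groth.Agent.Helper4.EtaleSD
import Groth.Agent.Helper4.EtaleSD2
import Groth.Agent.Lead.FD18
import Groth.Agent.Lead.FD19

/-!
# Helper6: finite type / finite presentation descend along faithfully flat finitely presented
ring maps on the source side (Stacks 0367, 0368)
-/

set_option autoImplicit false
universe u
open TensorProduct

namespace Groth.Agent.Helper6.FppfSD1

set_option synthInstance.maxHeartbeats 400000 in
set_option maxHeartbeats 1000000 in
/-- A flat finitely presented `B`-algebra `B'` descends to a flat finitely presented algebra over a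
finitely presented `R`-algebra `B₀` mapping to `B`, whose image contains a prescribed finite set. -/
theorem exists_model (R B B' : Type u) [CommRing R] [CommRing B] [CommRing B'] [Algebra R B]
    [Algebra B B'] [Algebra.FinitePresentation B B'] [Module.Flat B B'] (T : Finset B) :
    ∃ (B₀ : Type u) (_ : CommRing B₀) (_ : Algebra R B₀) (_ : Algebra B₀ B)
      (_ : IsScalarTower R B₀ B) (B'₀ : Type u) (_ : CommRing B'₀) (_ : Algebra B₀ B'₀),
      Algebra.FinitePresentation R B₀ ∧ (↑T ⊆ Set.range (algebraMap B₀ B)) ∧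
      Module.Flat B₀ B'₀ ∧ Algebra.FinitePresentation B₀ B'₀ ∧
      Nonempty (B' ≃ₐ[B] B ⊗[B₀] B'₀) := by
  classical
  let P := Algebra.Presentation.ofFinitePresentation B B'
  let ι : Type u := ↥(P.coeffs ∪ ↑T : Set B)
  haveI : Finite ι := (P.finite_coeffs.union T.finite_toSet).to_subtype
  let A₀ := MvPolynomial ι R
  letI algA₀B : Algebra A₀ B := (MvPolynomial.aeval (fun i : ι => (i : B))).toRingHom.toAlgebra
  have hA₀B : ∀ p : A₀, algebraMap A₀ B p = MvPolynomial.aeval (fun i : ι => (i : B)) p :=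
    fun p => rfl
  haveI : IsScalarTower R A₀ B := IsScalarTower.of_algebraMap_eq (fun r => by
    rw [hA₀B, MvPolynomial.algebraMap_eq, MvPolynomial.aeval_C])
  letI : Algebra A₀ B' := ((algebraMap B B').comp (algebraMap A₀ B)).toAlgebra
  haveI : IsScalarTower A₀ B B' := IsScalarTower.of_algebraMap_eq (fun _ => rfl)
  haveI : P.HasCoeffs A₀ := ⟨fun c hc => ⟨MvPolynomial.X ⟨c, Or.inl hc⟩, by
    rw [hA₀B, MvPolynomial.aeval_X]⟩⟩
  let M := P.ModelOfHasCoeffs A₀
  let e : B ⊗[A₀] M ≃ₐ[B] B' := P.tensorModelOfHasCoeffsEquiv A₀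
  haveI : Module.Flat B (B ⊗[A₀] M) := Module.Flat.of_linearEquiv e.toLinearEquiv
  obtain ⟨C, _, _, _, ψ, hC⟩ := Groth.Agent.Lead.FD18.exists_fp_flat_module (A₀ := A₀) M M B
  letI : Algebra C B := ψ.toRingHom.toAlgebra
  haveI : IsScalarTower A₀ C B := IsScalarTower.of_algebraMap_eq (fun a => (ψ.commutes a).symm)
  letI : Algebra R C := ((algebraMap A₀ C).comp (algebraMap R A₀)).toAlgebra
  haveI : IsScalarTower R A₀ C := IsScalarTower.of_algebraMap_eq (fun _ => rfl)
  haveI : IsScalarTower R C B := IsScalarTower.of_algebraMap_eq (fun r => by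
    rw [IsScalarTower.algebraMap_apply R A₀ B, IsScalarTower.algebraMap_apply A₀ C B]
    rfl)
  haveI : Algebra.FinitePresentation R C := Algebra.FinitePresentation.trans R A₀ C
  refine ⟨C, inferInstance, inferInstance, inferInstance, inferInstance, C ⊗[A₀] M, inferInstance,
    inferInstance, inferInstance, ?_, hC, inferInstance, ⟨?_⟩⟩
  · intro t ht
    refine ⟨algebraMap A₀ C (MvPolynomial.X ⟨t, Or.inr ht⟩), ?_⟩
    rw [← IsScalarTower.algebraMap_apply A₀ C B, hA₀B, MvPolynomial.aeval_X]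
  · exact e.symm.trans (Algebra.TensorProduct.cancelBaseChange A₀ C B B M).symm


set_option synthInstance.maxHeartbeats 400000 in
set_option maxHeartbeats 1000000 in
/-- Finite type descends along a faithfully flat finitely presented map on the source side
(Stacks 0367). -/
theorem finiteType_of_flat_faithfullyFlat (R B B' : Type u) [CommRing R] [CommRing B]
    [CommRing B'] [Algebra R B] [Algebra B B'] [Algebra R B'] [IsScalarTower R B B']
    [Algebra.FinitePresentation B B'] [Module.FaithfullyFlat B B'] [Algebra.FiniteType R B'] :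
    Algebra.FiniteType R B := by
  classical
  obtain ⟨B₀, _, _, _, _, B'₀, _, _, hB₀, -, hfl, hfp, ⟨φ⟩⟩ := exists_model R B B' ∅
  have hsurj : Function.Surjective (PrimeSpectrum.comap (algebraMap B (B ⊗[B₀] B'₀))) := by
    intro 𝔭
    obtain ⟨𝔮, h𝔮⟩ := PrimeSpectrum.comap_surjective_of_faithfullyFlat (A := B) (B := B') 𝔭
    refine ⟨PrimeSpectrum.comap φ.symm.toAlgHom.toRingHom 𝔮, ?_⟩
    rw [← h𝔮, ← PrimeSpectrum.comap_comp_apply]
    congr 1
    ext b
    exact φ.symm.commutes b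
  obtain ⟨s, hs⟩ := (Algebra.FiniteType.out : (⊤ : Subalgebra R B').FG)
  have hdec : ∀ x : B ⊗[B₀] B'₀, ∃ S : Finset (B × B'₀), x = S.sum fun i => i.1 ⊗ₜ[B₀] i.2 :=
    TensorProduct.exists_finset
  choose Sx hSx using hdec
  let G : Finset B := s.biUnion fun b' => (Sx (φ b')).image Prod.fst
  let A' : Subalgebra B₀ B := Algebra.adjoin B₀ (G : Set B)
  obtain ⟨A₁, hA'le, hA₁fg, hff⟩ :=
    Groth.Agent.Helper4.EtaleSD.exists_fg_subalgebra_faithfullyFlat B₀ B B'₀ hsurj A'
    (Subalgebra.fg_adjoin_finset _)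
  let ι₁ : A₁ ⊗[B₀] B'₀ →ₐ[B₀] B ⊗[B₀] B'₀ :=
    Algebra.TensorProduct.map A₁.val (AlgHom.id B₀ B'₀)
  have hι₁ : Function.Surjective ι₁ := by
    have hmem : ∀ b' ∈ s, φ b' ∈ ι₁.range := by
      intro b' hb'
      rw [hSx (φ b')]
      refine Subalgebra.sum_mem _ fun i hi => ?_
      have hi1 : i.1 ∈ A₁ := hA'le (Algebra.subset_adjoin (Finset.mem_coe.2
        (Finset.mem_biUnion.2 ⟨b', hb', Finset.mem_image_of_mem _ hi⟩)))
      refine ⟨(⟨i.1, hi1⟩ : A₁) ⊗ₜ i.2, ?_⟩
      show (Algebra.TensorProduct.map A₁.val (AlgHom.id B₀ B'₀)) _ = _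
      rw [Algebra.TensorProduct.map_tmul]
      rfl
    have htop : (⊤ : Subalgebra R (B ⊗[B₀] B'₀)) ≤ ι₁.range.restrictScalars R := by
      have h1 : (⊤ : Subalgebra R (B ⊗[B₀] B'₀)) =
          (⊤ : Subalgebra R B').map (φ.restrictScalars R).toAlgHom := by
        rw [Algebra.map_top]
        exact ((AlgHom.range_eq_top _).2 (φ.restrictScalars R).surjective).symm
      rw [h1, ← hs, AlgHom.map_adjoin]
      apply Algebra.adjoin_le
      rintro _ ⟨b', hb', rfl⟩
      exact hmem b' hb'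
    intro x
    exact htop (Algebra.mem_top : x ∈ ⊤)
  have hval : Function.Surjective (algebraMap A₁ B) := by
    apply Module.FaithfullyFlat.surjective_of_tensorProduct (R := A₁) (S := A₁ ⊗[B₀] B'₀) (T := B)
    let ψ' : (A₁ ⊗[B₀] B'₀) ⊗[A₁] B ≃ₐ[A₁] B ⊗[B₀] B'₀ :=
      (Algebra.TensorProduct.comm A₁ (A₁ ⊗[B₀] B'₀) B).trans
        (Algebra.TensorProduct.cancelBaseChange B₀ A₁ A₁ B B'₀)
    have key : ∀ c₁ : A₁ ⊗[B₀] B'₀, ψ' (c₁ ⊗ₜ 1) = ι₁ c₁ := by
      intro c₁
      induction c₁ using TensorProduct.induction_on with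
      | zero => rw [TensorProduct.zero_tmul, map_zero, map_zero]
      | tmul a c =>
        show (Algebra.TensorProduct.cancelBaseChange B₀ A₁ A₁ B B'₀)
          ((Algebra.TensorProduct.comm A₁ (A₁ ⊗[B₀] B'₀) B) ((a ⊗ₜ[B₀] c) ⊗ₜ[A₁] (1 : B))) = _
        rw [Algebra.TensorProduct.comm_tmul, Algebra.TensorProduct.cancelBaseChange_tmul]
        show _ = (Algebra.TensorProduct.map A₁.val (AlgHom.id B₀ B'₀)) (a ⊗ₜ[B₀] c)
        rw [Algebra.TensorProduct.map_tmul]
        simp [Algebra.smul_def]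
      | add x y hx hy => rw [TensorProduct.add_tmul, map_add, map_add, hx, hy]
    intro y
    obtain ⟨c₁, hc₁⟩ := hι₁ (ψ' y)
    refine ⟨c₁, ?_⟩
    apply ψ'.injective
    rw [← hc₁, ← key]
    rfl
  have hA₁top : A₁ = ⊤ := by
    rw [eq_top_iff]
    intro b _
    obtain ⟨a, rfl⟩ := hval b
    exact a.2
  have hft : Algebra.FiniteType B₀ B := ⟨hA₁top ▸ hA₁fg⟩
  have hft₀ : Algebra.FiniteType R B₀ := inferInstance
  exact Algebra.FiniteType.trans hft₀ hft


set_option synthInstance.maxHeartbeats 400000 in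
set_option maxHeartbeats 1000000 in
/-- Finite presentation descends along a faithfully flat finitely presented map on the source side
(Stacks 0368). -/
theorem finitePresentation_of_flat_faithfullyFlat (R B B' : Type u) [CommRing R] [CommRing B]
    [CommRing B'] [Algebra R B] [Algebra B B'] [Algebra R B'] [IsScalarTower R B B']
    [Algebra.FinitePresentation B B'] [Module.FaithfullyFlat B B']
    [Algebra.FinitePresentation R B'] :
    Algebra.FinitePresentation R B := by
  classical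
  haveI : Algebra.FiniteType R B := finiteType_of_flat_faithfullyFlat R B B'
  obtain ⟨T, hT⟩ := (Algebra.FiniteType.out : (⊤ : Subalgebra R B).FG)
  obtain ⟨B₀, _, _, _, _, B'₀, _, _, hB₀, hTr, hfl, hfp, ⟨φ⟩⟩ := exists_model R B B' T
  let f : B₀ →ₐ[R] B := IsScalarTower.toAlgHom R B₀ B
  have hf : Function.Surjective (algebraMap B₀ B) := by
    have hle : (⊤ : Subalgebra R B) ≤ f.range := by
      rw [← hT]
      exact Algebra.adjoin_le hTr
    intro b
    exact hle (Algebra.mem_top : b ∈ ⊤)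
  have hsurj : Function.Surjective (PrimeSpectrum.comap (algebraMap B (B ⊗[B₀] B'₀))) := by
    intro 𝔭
    obtain ⟨𝔮, h𝔮⟩ := PrimeSpectrum.comap_surjective_of_faithfullyFlat (A := B) (B := B') 𝔭
    refine ⟨PrimeSpectrum.comap φ.symm.toAlgHom.toRingHom 𝔮, ?_⟩
    rw [← h𝔮, ← PrimeSpectrum.comap_comp_apply]
    congr 1
    ext b
    exact φ.symm.commutes b
  set J : Ideal B₀ := RingHom.ker (Algebra.ofId B₀ B) with hJ
  have hJmem : ∀ x : B₀, x ∈ J ↔ algebraMap B₀ B x = 0 := fun x => Iff.rfl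
  have hrange : ∀ 𝔭 : PrimeSpectrum B₀, J ≤ 𝔭.asIdeal →
      𝔭 ∈ Set.range (PrimeSpectrum.comap (algebraMap B₀ B'₀)) := by
    intro 𝔭 h𝔭
    have h1 : 𝔭 ∈ Set.range (PrimeSpectrum.comap (algebraMap B₀ B)) := by
      rw [range_comap_of_surjective _ _ hf]
      exact h𝔭
    obtain ⟨𝔮, rfl⟩ := h1
    have h2 : 𝔮 ∈ Set.range (PrimeSpectrum.comap (algebraMap B (B ⊗[B₀] B'₀))) := hsurj 𝔮
    rw [Groth.Agent.Helper4.EtaleSD.range_comap_tensorProduct] at h2
    exact h2
  letI : Algebra R B'₀ := ((algebraMap B₀ B'₀).comp (algebraMap R B₀)).toAlgebra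
  haveI : IsScalarTower R B₀ B'₀ := IsScalarTower.of_algebraMap_eq (fun _ => rfl)
  haveI : Algebra.FinitePresentation R B'₀ := Algebra.FinitePresentation.trans R B₀ B'₀
  have h1tmul : ∀ b₀ : B₀, (1 : B) ⊗ₜ[B₀] (algebraMap B₀ B'₀ b₀) =
      (algebraMap B₀ B b₀) ⊗ₜ[B₀] (1 : B'₀) := by
    intro b₀
    rw [Algebra.algebraMap_eq_smul_one b₀, TensorProduct.tmul_smul, TensorProduct.smul_tmul',
      Algebra.algebraMap_eq_smul_one b₀]
  let ψ₀ : B'₀ →+* B' := (φ.symm : B ⊗[B₀] B'₀ →+* B').comp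
    (Algebra.TensorProduct.includeRight (R := B₀) (A := B) (B := B'₀)).toRingHom
  have hψ₀ : ∀ c, ψ₀ c = φ.symm ((1 : B) ⊗ₜ[B₀] c) := fun c => rfl
  let ψ : B'₀ →ₐ[R] B' :=
    { ψ₀ with
      commutes' := fun r => by
        show ψ₀ (algebraMap R B'₀ r) = algebraMap R B' r
        rw [hψ₀, IsScalarTower.algebraMap_apply R B₀ B'₀, h1tmul,
          ← IsScalarTower.algebraMap_apply R B₀ B, IsScalarTower.algebraMap_apply R B B']
        exact φ.symm.commutes (algebraMap R B r) }
  have hψapply : ∀ c, ψ c = φ.symm ((1 : B) ⊗ₜ[B₀] c) := fun c => rfl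
  have hψsurj : Function.Surjective ψ := by
    intro b'
    obtain ⟨z, rfl⟩ := φ.symm.surjective b'
    have hz : ∃ c : B'₀, z = (1 : B) ⊗ₜ[B₀] c := by
      induction z using TensorProduct.induction_on with
      | zero => exact ⟨0, (TensorProduct.tmul_zero _ _).symm⟩
      | tmul b c =>
        obtain ⟨b₀, rfl⟩ := hf b
        refine ⟨b₀ • c, ?_⟩
        rw [TensorProduct.tmul_smul, TensorProduct.smul_tmul', Algebra.smul_def, mul_one]
      | add z₁ z₂ h₁ h₂ =>
        obtain ⟨c₁, rfl⟩ := h₁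
        obtain ⟨c₂, rfl⟩ := h₂
        exact ⟨c₁ + c₂, (TensorProduct.tmul_add _ _ _).symm⟩
    obtain ⟨c, rfl⟩ := hz
    exact ⟨c, rfl⟩
  have hkerfg : (RingHom.ker ψ.toRingHom).FG :=
    Algebra.FinitePresentation.ker_fG_of_surjective ψ hψsurj
  let eB : (B₀ ⧸ J) ≃ₐ[B₀] B := Ideal.quotientKerAlgEquivOfSurjective (f := Algebra.ofId B₀ B) hf
  let rT : (B₀ ⧸ J) ⊗[B₀] B'₀ ≃ₗ[B₀] B ⊗[B₀] B'₀ :=
    TensorProduct.congr eB.toLinearEquiv (LinearEquiv.refl B₀ B'₀)
  have hker : RingHom.ker ψ.toRingHom = J.map (algebraMap B₀ B'₀) := by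
    apply le_antisymm
    · intro c hc
      have h0 : ψ c = 0 := hc
      rw [hψapply] at h0
      have h1 : (1 : B) ⊗ₜ[B₀] c = 0 := by
        rw [← map_zero φ.symm] at h0
        exact φ.symm.injective h0
      have h2 : rT ((1 : B₀ ⧸ J) ⊗ₜ[B₀] c) = 0 := by
        rw [TensorProduct.congr_tmul]
        show (eB 1) ⊗ₜ[B₀] c = 0
        rw [map_one]
        exact h1
      have h3 : (1 : B₀ ⧸ J) ⊗ₜ[B₀] c = 0 := by
        rw [← map_zero rT] at h2
        exact rT.injective h2
      have h4 : Algebra.TensorProduct.quotIdealMapEquivQuotTensor B'₀ J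
          (Ideal.Quotient.mk _ c) = 0 := by
        rw [Algebra.TensorProduct.quotIdealMapEquivQuotTensor_mk]
        exact h3
      have h5 : Ideal.Quotient.mk (J.map (algebraMap B₀ B'₀)) c = 0 := by
        rw [← map_zero (Algebra.TensorProduct.quotIdealMapEquivQuotTensor B'₀ J)] at h4
        exact (Algebra.TensorProduct.quotIdealMapEquivQuotTensor B'₀ J).injective h4
      exact Ideal.Quotient.eq_zero_iff_mem.mp h5
    · rw [Ideal.map_le_iff_le_comap]
      intro x hx
      rw [Ideal.mem_comap]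
      show ψ (algebraMap B₀ B'₀ x) = 0
      rw [hψapply, h1tmul, (hJmem x).1 hx, TensorProduct.zero_tmul, map_zero]
  rw [hker] at hkerfg
  have hJfg : J.FG := Groth.Agent.Helper4.EtaleSD2.ideal_fg_of_flat_cover J hkerfg hrange
  have hf' : Function.Surjective f := hf
  exact Algebra.FinitePresentation.of_surjective hf' hJfg

end Groth.Agent.Helper6.FppfSD1
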