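import Mathlib
import Groth.Agent.Helper6.FppfSD1
import Groth.Agent.Helper2.GeomRegSmooth
import Groth.Agent.Helper2.RegDescent
import Groth.Agent.Helper7.J2A
import Groth.Agent.Helper2.RegHom2
import Groth.Agent.Helper4.AlgSpLocPBC

/-!
# Helper6: smoothness descends along faithfully flat finitely presented ring maps on the source
-/

set_option autoImplicit false
universe u
open TensorProduct

namespace Groth.Agent.Helper6.FppfSm1

attribute [local instance] Algebra.TensorProduct.rightAlgebra

set_option synthInstance.maxHeartbeats 400000 in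
set_option maxHeartbeats 1000000 in
/-- base change `T ⊗[R] B → T ⊗[R] B'` of a faithfully flat algebra map `B → B'` is faithfully
flat -/
theorem faithfullyFlat_tensor_map (R T B B' : Type u) [CommRing R] [CommRing T] [CommRing B]
    [CommRing B'] [Algebra R T] [Algebra R B] [Algebra R B'] [Algebra B B'] [IsScalarTower R B B']
    [Module.FaithfullyFlat B B'] :
    (Algebra.TensorProduct.map (AlgHom.id T T)
      (IsScalarTower.toAlgHom R B B')).toRingHom.FaithfullyFlat := by
  letI algCC' : Algebra (T ⊗[R] B) (T ⊗[R] B') :=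
    (Algebra.TensorProduct.map (AlgHom.id T T) (IsScalarTower.toAlgHom R B B')).toRingHom.toAlgebra
  have hCC' : ∀ x : T ⊗[R] B, algebraMap (T ⊗[R] B) (T ⊗[R] B') x =
      Algebra.TensorProduct.map (AlgHom.id T T) (IsScalarTower.toAlgHom R B B') x := fun _ => rfl
  letI algBC' : Algebra B (T ⊗[R] B') :=
    ((algebraMap B' (T ⊗[R] B')).comp (algebraMap B B')).toAlgebra
  haveI : IsScalarTower B B' (T ⊗[R] B') := IsScalarTower.of_algebraMap_eq (fun _ => rfl)
  haveI : IsScalarTower B (T ⊗[R] B) (T ⊗[R] B') := IsScalarTower.of_algebraMap_eq (fun b => by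
    rw [hCC']
    show (1 : T) ⊗ₜ[R] (algebraMap B B' b) = _
    show _ = Algebra.TensorProduct.map (AlgHom.id T T) (IsScalarTower.toAlgHom R B B')
      ((1 : T) ⊗ₜ[R] b)
    rw [Algebra.TensorProduct.map_tmul]
    rfl)
  haveI : IsScalarTower T (T ⊗[R] B) (T ⊗[R] B') := IsScalarTower.of_algebraMap_eq (fun t => by
    rw [hCC']
    show t ⊗ₜ[R] (1 : B') = Algebra.TensorProduct.map (AlgHom.id T T)
      (IsScalarTower.toAlgHom R B B') (t ⊗ₜ[R] (1 : B))
    rw [Algebra.TensorProduct.map_tmul, map_one]
    rfl)
  haveI : IsScalarTower R (T ⊗[R] B) (T ⊗[R] B') := IsScalarTower.of_algebraMap_eq (fun r => by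
    rw [hCC', IsScalarTower.algebraMap_apply R T (T ⊗[R] B), AlgHom.commutes,
      ← IsScalarTower.algebraMap_apply R T (T ⊗[R] B')])
  have hpo : Algebra.IsPushout B B' (T ⊗[R] B) (T ⊗[R] B') :=
    (Algebra.IsPushout.comp_iff R B T (T := B') (S' := T ⊗[R] B) (T' := T ⊗[R] B')).1
      inferInstance
  have h := RingHom.FaithfullyFlat.isStableUnderBaseChange B B' (T ⊗[R] B) (T ⊗[R] B')
    (RingHom.faithfullyFlat_algebraMap_iff.2 inferInstance)
  exact h


set_option synthInstance.maxHeartbeats 400000 in
set_option maxHeartbeats 1000000 in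
/-- Smoothness descends along a faithfully flat finitely presented map on the source side
(Stacks 05B5). -/
theorem smooth_of_flat_faithfullyFlat (R B B' : Type u) [CommRing R] [CommRing B]
    [CommRing B'] [Algebra R B] [Algebra B B'] [Algebra R B'] [IsScalarTower R B B']
    [Algebra.FinitePresentation B B'] [Module.FaithfullyFlat B B'] [Algebra.Smooth R B'] :
    Algebra.Smooth R B := by
  haveI : Algebra.FinitePresentation R B' := inferInstance
  haveI : Algebra.FinitePresentation R B :=
    Groth.Agent.Helper6.FppfSD1.finitePresentation_of_flat_faithfullyFlat R B B'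
  haveI : Module.Flat R B' := Algebra.Smooth.flat R B'
  haveI : Module.Flat R B := Groth.Agent.Helper4.AlgSpLocPBC.flat_of_flat_of_faithfullyFlat R B B'
  refine Algebra.Smooth.of_formallySmooth_fiber (fun p hp => ?_)
  haveI : Algebra.Smooth p.ResidueField (p.ResidueField ⊗[R] B) := by
    apply Groth.Agent.Helper2.GeomRegSmooth.smooth_of_isGeometricallyRegular
    intro k' _ _ hfin
    have h' : IsRegularRing (k' ⊗[p.ResidueField] (p.ResidueField ⊗[R] B')) :=
      ((Groth.Agent.Helper2.RegHom2.isRegularHom_of_smooth R B').2 p).2 k' hfin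
    letI alg1 : Algebra (p.ResidueField ⊗[R] B) (p.ResidueField ⊗[R] B') :=
      (Algebra.TensorProduct.map (AlgHom.id p.ResidueField p.ResidueField)
        (IsScalarTower.toAlgHom R B B')).toRingHom.toAlgebra
    haveI : IsScalarTower p.ResidueField (p.ResidueField ⊗[R] B) (p.ResidueField ⊗[R] B') :=
      IsScalarTower.of_algebraMap_eq (fun t => by
        show _ = Algebra.TensorProduct.map (AlgHom.id p.ResidueField p.ResidueField)
          (IsScalarTower.toAlgHom R B B') (algebraMap _ _ t)
        rw [AlgHom.commutes])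
    haveI ff1 : Module.FaithfullyFlat (p.ResidueField ⊗[R] B) (p.ResidueField ⊗[R] B') :=
      RingHom.faithfullyFlat_algebraMap_iff.1 (faithfullyFlat_tensor_map R p.ResidueField B B')
    letI alg2 : Algebra (k' ⊗[p.ResidueField] (p.ResidueField ⊗[R] B))
        (k' ⊗[p.ResidueField] (p.ResidueField ⊗[R] B')) :=
      (Algebra.TensorProduct.map (AlgHom.id k' k')
        (IsScalarTower.toAlgHom p.ResidueField (p.ResidueField ⊗[R] B)
          (p.ResidueField ⊗[R] B'))).toRingHom.toAlgebra
    haveI ff2 : Module.FaithfullyFlat (k' ⊗[p.ResidueField] (p.ResidueField ⊗[R] B))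
        (k' ⊗[p.ResidueField] (p.ResidueField ⊗[R] B')) :=
      RingHom.faithfullyFlat_algebraMap_iff.1
        (faithfullyFlat_tensor_map p.ResidueField k' (p.ResidueField ⊗[R] B)
          (p.ResidueField ⊗[R] B'))
    exact Groth.Agent.Helper2.RegDescent.isRegularRing_of_faithfullyFlat
      (k' ⊗[p.ResidueField] (p.ResidueField ⊗[R] B))
      (k' ⊗[p.ResidueField] (p.ResidueField ⊗[R] B'))
  show Algebra.FormallySmooth p.ResidueField (p.ResidueField ⊗[R] B)
  infer_instance

end Groth.Agent.Helper6.FppfSm1
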