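import Mathlib
import Groth.Agent.Helper6.FppfSm1
import Groth.Agent.Helper6.FppfSD2

/-!
# Helper6: smoothness descends along fppf surjections on the source (schemes)
-/

set_option autoImplicit false
universe u
open TensorProduct AlgebraicGeometry CategoryTheory CategoryTheory.Limits

namespace Groth.Agent.Helper6.FppfSm2

/-- Ring-hom form of smooth descent. -/
theorem ringHom_smooth_of_comp {R B B' : Type u} [CommRing R] [CommRing B] [CommRing B']
    (f : R →+* B) (g : B →+* B') (hg : g.FinitePresentation) (hgf : g.FaithfullyFlat)
    (h : (g.comp f).Smooth) : f.Smooth := by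
  algebraize [f, g, g.comp f]
  exact Groth.Agent.Helper6.FppfSm1.smooth_of_flat_faithfullyFlat R B B'

/-- Smoothness descends along fppf surjections on the source. -/
theorem smooth_of_comp_fppf {A B C : Scheme.{u}} (e : A ⟶ B) (h : B ⟶ C)
    [Flat e] [LocallyOfFinitePresentation e] [Surjective e] [Smooth (e ≫ h)] :
    Smooth h := by
  have : MorphismProperty.RespectsRight @Smooth @IsOpenImmersion :=
    ⟨fun i hi f hf => by
      have : IsOpenImmersion i := hi
      have : Smooth f := hf
      show Smooth (f ≫ i)
      infer_instance⟩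
  exact Groth.Agent.Helper6.FppfSD2.sd_of_ringHom @Smooth
    (fun f g hg hgf h => ringHom_smooth_of_comp f g hg hgf h) e h inferInstance

set_option backward.isDefEq.respectTransparency.types false in
/-- smoothness can be checked after precomposing with a jointly surjective family of
flat locally finitely presented maps -/
theorem smooth_of_family {U V : Scheme.{u}} (k : U ⟶ V)
    (H : ∀ u : U, ∃ (A : Scheme.{u}) (e : A ⟶ U) (a : A), Flat e ∧
      LocallyOfFinitePresentation e ∧ e a = u ∧ Smooth (e ≫ k)) :
    Smooth k := by
  choose A e a he hefp hea hek using H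
  haveI : ∀ u, Flat (e u) := he
  haveI : ∀ u, LocallyOfFinitePresentation (e u) := hefp
  haveI : ∀ u, Smooth (e u ≫ k) := hek
  haveI : Flat (Sigma.desc e) :=
    IsZariskiLocalAtSource.sigmaDesc (P := @Flat) (fun u => inferInstance)
  haveI : LocallyOfFinitePresentation (Sigma.desc e) :=
    IsZariskiLocalAtSource.sigmaDesc (P := @LocallyOfFinitePresentation) (fun u => inferInstance)
  haveI : Surjective (Sigma.desc e) := by
    refine ⟨fun u => ⟨(Sigma.ι A u) (a u), ?_⟩⟩
    rw [← Scheme.Hom.comp_apply, Sigma.ι_desc]
    exact hea u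
  haveI : Smooth (Sigma.desc e ≫ k) := by
    have h1 : Sigma.desc e ≫ k = Sigma.desc (fun u => e u ≫ k) := by
      apply Sigma.hom_ext
      intro u
      rw [Sigma.ι_desc_assoc, Sigma.ι_desc]
    rw [h1]
    exact IsZariskiLocalAtSource.sigmaDesc (P := @Smooth) (fun u => inferInstance)
  exact smooth_of_comp_fppf (Sigma.desc e) k

end Groth.Agent.Helper6.FppfSm2
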