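import Mathlib
import Groth.Prelude.Def_DRing4

set_option autoImplicit false
universe u v
open CategoryTheory Limits CochainComplex CochainComplex.HomComplex

namespace Groth.Agent.Helper6.RHomProj

attribute [local instance] HasDerivedCategory.standard

section General
variable {C : Type u} [Category.{v} C] [Abelian C]

variable (P : CochainComplex C ℤ) {L L' : CochainComplex C ℤ} (f : L ⟶ L')

/-- postcomposition as additive map on cochains -/
noncomputable def postAdd (i : ℤ) : Cochain P L i →+ Cochain P L' i where
  toFun z := z.comp (Cochain.ofHom f) (add_zero i)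
  map_zero' := by simp
  map_add' := by intros; simp

/-- functoriality of Mathlib's `HomComplex P -`. -/
noncomputable def homComplexMap : HomComplex P L ⟶ HomComplex P L' where
  f i := AddCommGrpCat.ofHom (postAdd P f i)
  comm' i j _ := by
    ext z
    exact (δ_comp_ofHom z f j)

noncomputable def cocyclePost (n : ℤ) : Cocycle P L n →+ Cocycle P L' n where
  toFun z := z.postcomp f
  map_zero' := by ext; simp
  map_add' := by intros; ext; simp

noncomputable def classPost (n : ℤ) : CohomologyClass P L n →+ CohomologyClass P L' n :=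
  CohomologyClass.descAddMonoidHom
    ((CohomologyClass.mkAddMonoidHom P L' n).comp (cocyclePost P f n)) (by
    rintro z ⟨m, hm, β, hβ⟩
    rw [AddMonoidHom.mem_ker]
    change CohomologyClass.mk (z.postcomp f) = 0
    rw [CohomologyClass.mk_eq_zero_iff, mem_coboundaries_iff _ m hm]
    refine ⟨β.comp (Cochain.ofHom f) (add_zero m), ?_⟩
    rw [δ_comp_ofHom, hβ]; rfl)

lemma classPost_mk (n : ℤ) (z : Cocycle P L n) :
    classPost P f n (CohomologyClass.mk z) = CohomologyClass.mk (z.postcomp f) := rfl

lemma toHom_classPost (n : ℤ) (x : CohomologyClass P L n) :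
    CohomologyClass.toHom (classPost P f n x) =
      CohomologyClass.toHom x ≫ (HomotopyCategory.quotient C _).map (f⟦n⟧') := by
  obtain ⟨z, rfl⟩ := x.mk_surjective
  rw [classPost_mk, CohomologyClass.toHom_mk, CohomologyClass.toHom_mk,
    Cocycle.equivHomShift_symm_postcomp, Functor.map_comp]

lemma classPost_bijective [P.IsKProjective] [QuasiIso f] (n : ℤ) :
    Function.Bijective (classPost P f n) := by
  have h1 := (IsKProjective.Qh_map_bijective P
    ((HomotopyCategory.quotient C _).obj (L⟦n⟧))).comp (CohomologyClass.toHom_bijective P L n)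
  have h2 := (IsKProjective.Qh_map_bijective P
    ((HomotopyCategory.quotient C _).obj (L'⟦n⟧))).comp (CohomologyClass.toHom_bijective P L' n)
  haveI : QuasiIso (f⟦n⟧') := inferInstance
  haveI : IsIso (DerivedCategory.Q.map (f⟦n⟧')) := inferInstance
  haveI : IsIso (DerivedCategory.Qh.map ((HomotopyCategory.quotient C _).map (f⟦n⟧'))) := by
    have e := DerivedCategory.quotientCompQhIso C
    have h : DerivedCategory.Qh.map ((HomotopyCategory.quotient C _).map (f⟦n⟧')) =
        e.hom.app _ ≫ DerivedCategory.Q.map (f⟦n⟧') ≫ e.inv.app _ := by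
      have := e.hom.naturality (f⟦n⟧')
      simp only [Functor.comp_map] at this
      rw [← reassoc_of% this]; simp
    rw [h]; infer_instance
  set q := DerivedCategory.Qh.map ((HomotopyCategory.quotient C _).map (f⟦n⟧')) with hq
  have h3 : Function.Bijective (fun g : DerivedCategory.Qh.obj ((HomotopyCategory.quotient C _).obj P) ⟶
      DerivedCategory.Qh.obj ((HomotopyCategory.quotient C _).obj (L⟦n⟧)) => g ≫ q) := by
    constructor
    · intro a b hab; exact (cancel_mono q).1 hab
    · intro c; exact ⟨c ≫ inv q, by simp⟩
  have hcomm : ∀ x, (DerivedCategory.Qh.map ∘ CohomologyClass.toHom) (classPost P f n x) =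
      (DerivedCategory.Qh.map ∘ CohomologyClass.toHom) x ≫ q := by
    intro x
    simp only [Function.comp_apply, toHom_classPost, Functor.map_comp, hq]
  have h4 : Function.Bijective ((DerivedCategory.Qh.map ∘ CohomologyClass.toHom) ∘
      (classPost P f n : CohomologyClass P L n → CohomologyClass P L' n)) := by
    have : ((DerivedCategory.Qh.map ∘ CohomologyClass.toHom) ∘
      (classPost P f n : CohomologyClass P L n → CohomologyClass P L' n)) =
      (fun g => g ≫ q) ∘ (DerivedCategory.Qh.map ∘ CohomologyClass.toHom) := by
      funext x; exact hcomm x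
    rw [this]; exact h3.comp h1
  exact (Function.Bijective.of_comp_iff' h2 _).1 h4

/-- cocycle level map -/
noncomputable def phiK (n : ℤ) : (leftHomologyData P L n).K ⟶ (leftHomologyData P L' n).K :=
  AddCommGrpCat.ofHom (cocyclePost P f n)

/-- homology level map -/
noncomputable def phiH (n : ℤ) : (leftHomologyData P L n).H ⟶ (leftHomologyData P L' n).H :=
  AddCommGrpCat.ofHom (classPost P f n)

lemma phiK_i (n : ℤ) : phiK P f n ≫ (leftHomologyData P L' n).i =
    (leftHomologyData P L n).i ≫
      ((HomologicalComplex.shortComplexFunctor _ _ n).map (homComplexMap P f)).τ₂ := by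
  ext z; rfl

/-- the left homology map data. -/
noncomputable def mapData (n : ℤ) :
    ShortComplex.LeftHomologyMapData
      ((HomologicalComplex.shortComplexFunctor _ _ n).map (homComplexMap P f))
      (leftHomologyData P L n) (leftHomologyData P L' n) where
  φK := phiK P f n
  φH := phiH P f n
  commi := phiK_i P f n
  commf' := by
    rw [← cancel_mono (leftHomologyData P L' n).i, Category.assoc, phiK_i,
      ShortComplex.LeftHomologyData.f'_i_assoc, Category.assoc,
      ShortComplex.LeftHomologyData.f'_i]
    exact ((HomologicalComplex.shortComplexFunctor _ _ n).map (homComplexMap P f)).comm₁₂.symm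
  commπ := by ext z; rfl

lemma quasiIso_homComplexMap [P.IsKProjective] [QuasiIso f] : QuasiIso (homComplexMap P f) := by
  refine ⟨fun n => ?_⟩
  rw [quasiIsoAt_iff, (mapData P f n).quasiIso_iff]
  exact (ConcreteCategory.isIso_iff_bijective (phiH P f n)).2 (classPost_bijective P f n)

end General

section Mod
variable {A : Type u} [CommRing A]

/-- the underlying complex of abelian groups of `DRing.homCx P L` is Mathlib's `HomComplex`. -/
noncomputable def forgetIso (P L : DRing.Cx A) :
    ((forget₂ (ModuleCat.{u} A) AddCommGrpCat.{u}).mapHomologicalComplex (ComplexShape.up ℤ)).obj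
      (DRing.homCx P L) ≅ HomComplex P L :=
  HomologicalComplex.Hom.isoOfComponents (fun i => Iso.refl _) (by
    intro i j _
    ext z
    rfl)

lemma forgetIso_comm (P : DRing.Cx A) {L L' : DRing.Cx A} (f : L ⟶ L') :
    ((forget₂ (ModuleCat.{u} A) AddCommGrpCat.{u}).mapHomologicalComplex (ComplexShape.up ℤ)).map
      (DRing.homCxMap P f) ≫ (forgetIso P L').hom = (forgetIso P L).hom ≫ homComplexMap P f := by
  ext i z
  rfl

lemma quasiIso_homCxMap (P : DRing.Cx A) [P.IsKProjective] {L L' : DRing.Cx A} (f : L ⟶ L')
    [QuasiIso f] : QuasiIso (DRing.homCxMap P f) := by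
  rw [← HomologicalComplex.quasiIso_map_iff_of_preservesHomology (DRing.homCxMap P f)
    (forget₂ (ModuleCat.{u} A) AddCommGrpCat.{u})]
  haveI := quasiIso_homComplexMap P f
  have h : ((forget₂ (ModuleCat.{u} A) AddCommGrpCat.{u}).mapHomologicalComplex
      (ComplexShape.up ℤ)).map (DRing.homCxMap P f) =
      (forgetIso P L).hom ≫ homComplexMap P f ≫ (forgetIso P L').inv := by
    rw [← Category.assoc, ← forgetIso_comm, Category.assoc, Iso.hom_inv_id, Category.comp_id]
  rw [h]
  infer_instance

theorem main (R : Type u) [CommRing R] (P : DRing.Cx R) (b : ℤ)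
    (hb : DRing.VanishesAbove P b) (hP : ∀ i : ℤ, Module.Projective R (P.X i)) [DRing.HasRHomCx P]
    (L : DRing.Cx R) :
    Nonempty ((DRing.RHomCx P).obj (DRing.toD L) ≅ DRing.toD (DRing.homCx P L)) := by
  haveI : P.IsStrictlyLE b := by
    rw [CochainComplex.isStrictlyLE_iff]
    intro i hi
    exact hb i hi
  haveI : ∀ n, Projective (P.X n) := fun n => by
    rw [← IsProjective.iff_projective]
    exact hP n
  haveI : P.IsKProjective := CochainComplex.isKProjective_of_projective P b
  have hF : (HomologicalComplex.quasiIso (ModuleCat.{u} R) (ComplexShape.up ℤ)).IsInvertedBy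
      (DRing.homCxQ P) := by
    intro X Y f hf
    rw [HomologicalComplex.mem_quasiIso_iff] at hf
    haveI := hf
    haveI := quasiIso_homCxMap P f
    change IsIso (DerivedCategory.Q.map (DRing.homCxMap P f))
    infer_instance
  haveI := Functor.isIso_of_isRightDerivedFunctor_of_inverts (DRing.RHomCx P)
    ((DRing.homCxQ P).totalRightDerivedUnit DerivedCategory.Q
      (HomologicalComplex.quasiIso (ModuleCat.{u} R) (ComplexShape.up ℤ))) hF
  exact ⟨(asIso (((DRing.homCxQ P).totalRightDerivedUnit DerivedCategory.Q
    (HomologicalComplex.quasiIso (ModuleCat.{u} R) (ComplexShape.up ℤ))).app L)).symm⟩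

end Mod

end Groth.Agent.Helper6.RHomProj
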