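import Mathlib
import Groth.Prelude.Def_DRing4
import Groth.Agent.Helper6.RHomProj

set_option autoImplicit false
set_option linter.style.haveILetI false
set_option linter.unusedSectionVars false

/-!
# Contravariant functoriality of `Hom•(-, L)`; homotopy invariance of `Hom•(E, -)`
-/

universe u v
open CategoryTheory Limits CochainComplex CochainComplex.HomComplex

namespace Groth.Agent.Helper6.HomCxPre

attribute [local instance] HasDerivedCategory.standard

section General
variable {C : Type u} [Category.{v} C] [Abelian C]

variable {K K' : CochainComplex C ℤ} (s : K ⟶ K') (L : CochainComplex C ℤ)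

/-- precomposition as additive map on cochains -/
noncomputable def preAdd (i : ℤ) : Cochain K' L i →+ Cochain K L i where
  toFun z := (Cochain.ofHom s).comp z (zero_add i)
  map_zero' := by simp
  map_add' := by intros; simp

/-- contravariant functoriality of Mathlib's `HomComplex - L`. -/
noncomputable def homComplexPre : HomComplex K' L ⟶ HomComplex K L where
  f i := AddCommGrpCat.ofHom (preAdd s L i)
  comm' i j _ := by
    ext z
    exact (δ_ofHom_comp s z j)

noncomputable def cocyclePre (n : ℤ) : Cocycle K' L n →+ Cocycle K L n where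
  toFun z := z.precomp s
  map_zero' := by ext; simp
  map_add' := by intros; ext; simp

noncomputable def classPre (n : ℤ) : CohomologyClass K' L n →+ CohomologyClass K L n :=
  CohomologyClass.descAddMonoidHom
    ((CohomologyClass.mkAddMonoidHom K L n).comp (cocyclePre s L n)) (by
    rintro z ⟨m, hm, β, hβ⟩
    rw [AddMonoidHom.mem_ker]
    change CohomologyClass.mk (z.precomp s) = 0
    rw [CohomologyClass.mk_eq_zero_iff, mem_coboundaries_iff _ m hm]
    refine ⟨(Cochain.ofHom s).comp β (zero_add m), ?_⟩
    rw [δ_ofHom_comp, hβ]; rfl)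

lemma classPre_mk (n : ℤ) (z : Cocycle K' L n) :
    classPre s L n (CohomologyClass.mk z) = CohomologyClass.mk (z.precomp s) := rfl

lemma toHom_classPre (n : ℤ) (x : CohomologyClass K' L n) :
    CohomologyClass.toHom (classPre s L n x) =
      (HomotopyCategory.quotient C _).map s ≫ CohomologyClass.toHom x := by
  obtain ⟨z, rfl⟩ := x.mk_surjective
  rw [classPre_mk, CohomologyClass.toHom_mk, CohomologyClass.toHom_mk,
    Cocycle.equivHomShift_symm_precomp, Functor.map_comp]

lemma classPre_bijective [L.IsKInjective] [QuasiIso s] (n : ℤ) :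
    Function.Bijective (classPre s L n) := by
  have h1 := (IsKInjective.Qh_map_bijective
    ((HomotopyCategory.quotient C _).obj K') (L⟦n⟧)).comp (CohomologyClass.toHom_bijective K' L n)
  have h2 := (IsKInjective.Qh_map_bijective
    ((HomotopyCategory.quotient C _).obj K) (L⟦n⟧)).comp (CohomologyClass.toHom_bijective K L n)
  haveI : IsIso (DerivedCategory.Q.map s) := inferInstance
  haveI : IsIso (DerivedCategory.Qh.map ((HomotopyCategory.quotient C _).map s)) := by
    have e := DerivedCategory.quotientCompQhIso C
    have h : DerivedCategory.Qh.map ((HomotopyCategory.quotient C _).map s) =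
        e.hom.app _ ≫ DerivedCategory.Q.map s ≫ e.inv.app _ := by
      have := e.hom.naturality s
      simp only [Functor.comp_map] at this
      rw [← reassoc_of% this]; simp
    rw [h]; infer_instance
  set q := DerivedCategory.Qh.map ((HomotopyCategory.quotient C _).map s) with hq
  have h3 : Function.Bijective
      (fun g : DerivedCategory.Qh.obj ((HomotopyCategory.quotient C _).obj K') ⟶
      DerivedCategory.Qh.obj ((HomotopyCategory.quotient C _).obj (L⟦n⟧)) => q ≫ g) := by
    constructor
    · intro a b hab; exact (cancel_epi q).1 hab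
    · intro c; exact ⟨inv q ≫ c, by simp⟩
  have hcomm : ∀ x, (DerivedCategory.Qh.map ∘ CohomologyClass.toHom) (classPre s L n x) =
      q ≫ (DerivedCategory.Qh.map ∘ CohomologyClass.toHom) x := by
    intro x
    simp only [Function.comp_apply, toHom_classPre, Functor.map_comp, hq]
  have h4 : Function.Bijective ((DerivedCategory.Qh.map ∘ CohomologyClass.toHom) ∘
      (classPre s L n : CohomologyClass K' L n → CohomologyClass K L n)) := by
    have : ((DerivedCategory.Qh.map ∘ CohomologyClass.toHom) ∘
      (classPre s L n : CohomologyClass K' L n → CohomologyClass K L n)) =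
      (fun g => q ≫ g) ∘ (DerivedCategory.Qh.map ∘ CohomologyClass.toHom) := by
      funext x; exact hcomm x
    rw [this]; exact h3.comp h1
  exact (Function.Bijective.of_comp_iff' h2 _).1 h4

/-- cocycle level map -/
noncomputable def phiK (n : ℤ) : (leftHomologyData K' L n).K ⟶ (leftHomologyData K L n).K :=
  AddCommGrpCat.ofHom (cocyclePre s L n)

/-- homology level map -/
noncomputable def phiH (n : ℤ) : (leftHomologyData K' L n).H ⟶ (leftHomologyData K L n).H :=
  AddCommGrpCat.ofHom (classPre s L n)

lemma phiK_i (n : ℤ) : phiK s L n ≫ (leftHomologyData K L n).i =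
    (leftHomologyData K' L n).i ≫
      ((HomologicalComplex.shortComplexFunctor _ _ n).map (homComplexPre s L)).τ₂ := by
  ext z; rfl

/-- the left homology map data. -/
noncomputable def mapData (n : ℤ) :
    ShortComplex.LeftHomologyMapData
      ((HomologicalComplex.shortComplexFunctor _ _ n).map (homComplexPre s L))
      (leftHomologyData K' L n) (leftHomologyData K L n) where
  φK := phiK s L n
  φH := phiH s L n
  commi := phiK_i s L n
  commf' := by
    rw [← cancel_mono (leftHomologyData K L n).i, Category.assoc, phiK_i,
      ShortComplex.LeftHomologyData.f'_i_assoc, Category.assoc,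
      ShortComplex.LeftHomologyData.f'_i]
    exact ((HomologicalComplex.shortComplexFunctor _ _ n).map (homComplexPre s L)).comm₁₂.symm
  commπ := by ext z; rfl

lemma quasiIso_homComplexPre [L.IsKInjective] [QuasiIso s] : QuasiIso (homComplexPre s L) := by
  refine ⟨fun n => ?_⟩
  rw [quasiIsoAt_iff, (mapData s L n).quasiIso_iff]
  exact (ConcreteCategory.isIso_iff_bijective (phiH s L n)).2 (classPre_bijective s L n)

end General

section Mod
variable {A : Type u} [CommRing A]

/-- precomposition with `s` as a linear map on cochains -/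
noncomputable def precompLin {K K' : DRing.Cx A} (s : K ⟶ K') (L : DRing.Cx A) (i : ℤ) :
    Cochain K' L i →ₗ[A] Cochain K L i where
  toFun z := (Cochain.ofHom s).comp z (zero_add i)
  map_add' z z' := by simp
  map_smul' a z := by simp

/-- contravariant functoriality of `Hom•(-, L)` -/
noncomputable def homCxPre {K K' : DRing.Cx A} (s : K ⟶ K') (L : DRing.Cx A) :
    DRing.homCx K' L ⟶ DRing.homCx K L where
  f i := ModuleCat.ofHom (precompLin s L i)
  comm' i j _ := by
    ext z
    change δ i j ((Cochain.ofHom s).comp z (zero_add i)) =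
      (Cochain.ofHom s).comp (δ i j z) (zero_add j)
    exact δ_ofHom_comp s z j

lemma forgetIso_comm_pre {K K' : DRing.Cx A} (s : K ⟶ K') (L : DRing.Cx A) :
    ((forget₂ (ModuleCat.{u} A) AddCommGrpCat.{u}).mapHomologicalComplex (ComplexShape.up ℤ)).map
      (homCxPre s L) ≫ (Groth.Agent.Helper6.RHomProj.forgetIso K L).hom =
      (Groth.Agent.Helper6.RHomProj.forgetIso K' L).hom ≫ homComplexPre s L := by
  ext i z
  rfl

lemma quasiIso_homCxPre {K K' : DRing.Cx A} (s : K ⟶ K') [QuasiIso s] (L : DRing.Cx A)
    [L.IsKInjective] : QuasiIso (homCxPre s L) := by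
  rw [← HomologicalComplex.quasiIso_map_iff_of_preservesHomology (homCxPre s L)
    (forget₂ (ModuleCat.{u} A) AddCommGrpCat.{u})]
  haveI := quasiIso_homComplexPre s L
  have h : ((forget₂ (ModuleCat.{u} A) AddCommGrpCat.{u}).mapHomologicalComplex
      (ComplexShape.up ℤ)).map (homCxPre s L) =
      (Groth.Agent.Helper6.RHomProj.forgetIso K' L).hom ≫ homComplexPre s L ≫
        (Groth.Agent.Helper6.RHomProj.forgetIso K L).inv := by
    rw [← Category.assoc, ← forgetIso_comm_pre, Category.assoc, Iso.hom_inv_id, Category.comp_id]
  rw [h]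
  infer_instance

/-- composition with a cochain, as a linear map -/
noncomputable def compLin (E : DRing.Cx A) {L L' : DRing.Cx A} {m : ℤ} (η : Cochain L L' m)
    (i j : ℤ) (hij : i + m = j) : Cochain E L i →ₗ[A] Cochain E L' j where
  toFun z := z.comp η hij
  map_add' z z' := by simp
  map_smul' a z := by simp

/-- `Hom•(E, -)` preserves homotopies -/
theorem homCxMap_homotopy (E : DRing.Cx A) {L L' : DRing.Cx A} (f g : L ⟶ L')
    (h : Homotopy f g) : Nonempty (Homotopy (DRing.homCxMap E f) (DRing.homCxMap E g)) := by
  obtain ⟨η, hη⟩ := Cochain.equivHomotopy f g h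
  let Θ : Cochain (DRing.homCx E L) (DRing.homCx E L') (-1) :=
    Cochain.mk (fun p q hpq => ModuleCat.ofHom (compLin E η p q hpq))
  refine ⟨(Cochain.equivHomotopy _ _).symm ⟨Θ, ?_⟩⟩
  ext p (z : Cochain E L p)
  rw [Cochain.add_v, Cochain.ofHom_v, Cochain.ofHom_v,
    δ_v (-1) 0 (neg_add_cancel 1) Θ p p (add_zero p) (p - 1) (p + 1) rfl rfl,
    Int.negOnePow_zero, one_smul]
  have hz1 : z.comp (Cochain.ofHom f) (add_zero p) =
      z.comp (δ (-1) 0 η) (add_zero p) + z.comp (Cochain.ofHom g) (add_zero p) := by
    rw [hη, Cochain.comp_add]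
  have hz2 := δ_comp z η (show p + (-1) = p - 1 by omega) (p + 1) 0 p (by omega) rfl (by omega)
  have hs : ((-1 : ℤ).negOnePow) = -1 := by simp
  rw [hs, Units.neg_smul, one_smul] at hz2
  show z.comp (Cochain.ofHom f) (add_zero p) =
    (δ (p - 1) p (z.comp η (show p + (-1) = p - 1 by omega)) +
      ((δ p (p + 1) z).comp η (show (p + 1) + (-1) = p by omega))) +
      z.comp (Cochain.ofHom g) (add_zero p)
  rw [hz1, hz2]
  abel

end Mod

end Groth.Agent.Helper6.HomCxPre
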