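import Mathlib
import Groth.Prelude.Def_DRing4
import Groth.Agent.Helper6.HomCxPre

/-!
# The biduality map `K ⟶ Hom•(Hom•(K, I), I)`
-/

set_option autoImplicit false
set_option linter.style.haveILetI false
set_option linter.unusedSectionVars false

universe u
open CategoryTheory CategoryTheory.Limits CochainComplex CochainComplex.HomComplex

namespace Groth.Agent.Helper6.BiD
open Groth.Agent.Helper6.HomCxPre

/-- the sign `(-1)^k` as a scalar -/
def sg (A : Type u) [CommRing A] (k : ℤ) : A := ((k.negOnePow : ℤˣ) : ℤ)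

variable {A : Type u} [CommRing A]

lemma sg_add (k l : ℤ) : sg A (k + l) = sg A k * sg A l := by
  unfold sg
  rw [Int.negOnePow_add, Units.val_mul, Int.cast_mul]

lemma sg_mul_self (k : ℤ) : sg A k * sg A k = 1 := by
  unfold sg
  rw [← Int.cast_mul, ← Units.val_mul, Int.units_mul_self, Units.val_one, Int.cast_one]

lemma sg_one : sg A 1 = -1 := by
  unfold sg
  simp

lemma units_smul_eq_sg {M : Type*} [AddCommGroup M] [Module A M] (k : ℤ) (x : M) :
    k.negOnePow • x = sg A k • x := by
  rw [Units.smul_def]
  unfold sg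
  rw [Int.cast_smul_eq_zsmul]

variable (K I : DRing.Cx A)

/-- evaluation at `x ∈ K^n` on cochains of degree `p`, with the sign `(-1)^{np}` -/
noncomputable def evLin (n p q : ℤ) (hpq : p + n = q) (x : K.X n) : Cochain K I p →ₗ[A] I.X q where
  toFun z := sg A (n * p) • (z.v n q (by omega)).hom x
  map_add' z z' := by
    rw [Cochain.add_v, ModuleCat.hom_add, LinearMap.add_apply, smul_add]
  map_smul' a z := by
    rw [Cochain.smul_v, ModuleCat.hom_smul, LinearMap.smul_apply, RingHom.id_apply, smul_comm]

/-- evaluation at `x ∈ K^n` as a cochain of degree `n` from `Hom•(K, I)` to `I` -/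
noncomputable def evCochain (n : ℤ) (x : K.X n) : Cochain (DRing.homCx K I) I n :=
  Cochain.mk (fun p q hpq => ModuleCat.ofHom (evLin K I n p q hpq x))

lemma evCochain_v (n : ℤ) (x : K.X n) (p q : ℤ) (hpq : p + n = q) (z : Cochain K I p) :
    ((evCochain K I n x).v p q hpq).hom z = sg A (n * p) • (z.v n q (by omega)).hom x := rfl

noncomputable def etaLin (n : ℤ) : K.X n →ₗ[A] Cochain (DRing.homCx K I) I n where
  toFun x := evCochain K I n x
  map_add' x y := by
    apply Cochain.ext
    intro p q hpq
    apply ModuleCat.hom_ext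
    apply LinearMap.ext
    intro (z : Cochain K I p)
    rw [Cochain.add_v, ModuleCat.hom_add, LinearMap.add_apply, evCochain_v, evCochain_v,
      evCochain_v, map_add, smul_add]
  map_smul' a x := by
    apply Cochain.ext
    intro p q hpq
    apply ModuleCat.hom_ext
    apply LinearMap.ext
    intro (z : Cochain K I p)
    rw [RingHom.id_apply, Cochain.smul_v, ModuleCat.hom_smul, LinearMap.smul_apply, evCochain_v,
      evCochain_v, map_smul, smul_comm]

lemma eta_comm (n : ℤ) (x : K.X n) :
    δ n (n + 1) (evCochain K I n x) = evCochain K I (n + 1) ((K.d n (n + 1)).hom x) := by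
  apply Cochain.ext
  intro p q hpq
  apply ModuleCat.hom_ext
  apply LinearMap.ext
  intro (z : Cochain K I p)
  rw [δ_v n (n + 1) rfl (evCochain K I n x) p q hpq (q - 1) (p + 1) rfl rfl,
    units_smul_eq_sg (A := A)]
  rw [ModuleCat.hom_add, LinearMap.add_apply, ModuleCat.hom_smul, LinearMap.smul_apply,
    ModuleCat.hom_comp, ModuleCat.hom_comp, LinearMap.comp_apply, LinearMap.comp_apply]
  rw [evCochain_v, evCochain_v, evCochain_v]
  have hδ : ((DRing.homCx K I).d p (p + 1)).hom z = δ p (p + 1) z := rfl
  rw [hδ, δ_v p (p + 1) rfl z n q (by omega) (q - 1) (n + 1) rfl rfl, units_smul_eq_sg (A := A)]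
  rw [ModuleCat.hom_add, LinearMap.add_apply, ModuleCat.hom_smul, LinearMap.smul_apply,
    ModuleCat.hom_comp, ModuleCat.hom_comp, LinearMap.comp_apply, LinearMap.comp_apply]
  rw [map_smul]
  have k1 : sg A (n * p) + sg A (n + 1) * sg A (n * (p + 1)) = 0 := by
    rw [show n * (p + 1) = n * p + n by ring, sg_add, sg_add, sg_one]
    linear_combination (-(sg A (n * p))) * sg_mul_self (A := A) n
  have k2 : sg A (n + 1) * sg A (n * (p + 1)) * sg A (p + 1) = sg A ((n + 1) * p) := by
    rw [show n * (p + 1) = n * p + n by ring, show (n + 1) * p = n * p + p by ring, sg_add, sg_add,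
      sg_add, sg_add, sg_one]
    linear_combination (sg A (n * p) * sg A p) * sg_mul_self (A := A) n
  rw [smul_add, smul_add, smul_smul, smul_smul, smul_smul, ← add_assoc, ← add_smul, k1, zero_smul,
    zero_add, k2]

/-- the biduality map -/
noncomputable def eta : K ⟶ DRing.homCx (DRing.homCx K I) I where
  f n := ModuleCat.ofHom (etaLin K I n)
  comm' n m hnm := by
    obtain rfl : n + 1 = m := hnm
    apply ModuleCat.hom_ext
    apply LinearMap.ext
    intro x
    exact eta_comm K I n x

lemma eta_f_apply (n : ℤ) (x : K.X n) : ((eta K I).f n).hom x = evCochain K I n x := rfl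

variable {K} in
lemma eta_naturality {K' : DRing.Cx A} (f : K' ⟶ K) :
    f ≫ eta K I = eta K' I ≫ homCxPre (homCxPre f I) I := by
  apply HomologicalComplex.hom_ext
  intro n
  apply ModuleCat.hom_ext
  apply LinearMap.ext
  intro x
  show evCochain K I n ((f.f n).hom x) =
    (Cochain.ofHom (homCxPre f I)).comp (evCochain K' I n x) (zero_add n)
  apply Cochain.ext
  intro p q hpq
  apply ModuleCat.hom_ext
  apply LinearMap.ext
  intro (z : Cochain K I p)
  rw [Cochain.zero_cochain_comp_v, Cochain.ofHom_v, ModuleCat.hom_comp, LinearMap.comp_apply,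
    evCochain_v, evCochain_v]
  have h1 : ((homCxPre f I).f p).hom z = (Cochain.ofHom f).comp z (zero_add p) := rfl
  rw [h1, Cochain.zero_cochain_comp_v, Cochain.ofHom_v, ModuleCat.hom_comp, LinearMap.comp_apply]

end Groth.Agent.Helper6.BiD
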