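import Mathlib
import Groth.Prelude.Def_DRing4
import Groth.Agent.Helper6.HomCxPre
import Groth.Agent.Helper6.BiD3

/-!
# `Hom•(-, I)` is exact for termwise injective `I`; the biduality map and short exact sequences
-/

set_option autoImplicit false
set_option linter.style.haveILetI false
set_option linter.unusedSectionVars false

universe u
open CategoryTheory CategoryTheory.Limits CochainComplex CochainComplex.HomComplex

namespace Groth.Agent.Helper6.BiD
open Groth.Agent.Helper6.HomCxPre

variable {A : Type u} [CommRing A]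

lemma homCxPre_comp {K K' K'' : DRing.Cx A} (s : K ⟶ K') (t : K' ⟶ K'') (L : DRing.Cx A) :
    homCxPre (s ≫ t) L = homCxPre t L ≫ homCxPre s L := by
  apply HomologicalComplex.hom_ext
  intro n
  apply ModuleCat.hom_ext
  apply LinearMap.ext
  intro (z : Cochain K'' L n)
  show (Cochain.ofHom (s ≫ t)).comp z (zero_add n) =
    (Cochain.ofHom s).comp ((Cochain.ofHom t).comp z (zero_add n)) (zero_add n)
  rw [Cochain.ofHom_comp, Cochain.comp_assoc_of_first_is_zero_cochain]

lemma homCxPre_zero {K K' : DRing.Cx A} (L : DRing.Cx A) :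
    homCxPre (0 : K ⟶ K') L = 0 := by
  apply HomologicalComplex.hom_ext
  intro n
  apply ModuleCat.hom_ext
  apply LinearMap.ext
  intro (z : Cochain K' L n)
  show (Cochain.ofHom (0 : K ⟶ K')).comp z (zero_add n) = 0
  rw [Cochain.ofHom_zero, Cochain.zero_comp]

lemma homCxPre_id (K L : DRing.Cx A) : homCxPre (𝟙 K) L = 𝟙 _ := by
  apply HomologicalComplex.hom_ext
  intro n
  apply ModuleCat.hom_ext
  apply LinearMap.ext
  intro (z : Cochain K L n)
  show (Cochain.ofHom (𝟙 K)).comp z (zero_add n) = z
  exact Cochain.id_comp z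

/-- `Hom•(-, I)` applied to a short complex of complexes -/
noncomputable def DS (S : ShortComplex (DRing.Cx A)) (I : DRing.Cx A) :
    ShortComplex (DRing.Cx A) :=
  ShortComplex.mk (homCxPre S.g I) (homCxPre S.f I) (by
    rw [← homCxPre_comp, S.zero, homCxPre_zero])

theorem DS_shortExact (S : ShortComplex (DRing.Cx A)) (hS : S.ShortExact) (I : DRing.Cx A)
    (hI : ∀ q, Injective (I.X q)) : (DS S I).ShortExact := by
  have hS' := (HomologicalComplex.shortExact_iff_degreewise_shortExact S).mp hS
  haveI : ∀ p, Mono (S.f.f p) := fun p => (hS' p).mono_f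
  haveI : ∀ p, Epi (S.g.f p) := fun p => (hS' p).epi_g
  apply HomologicalComplex.shortExact_of_degreewise_shortExact
  intro n
  apply ModuleCat.shortComplex_shortExact
  · intro (z : Cochain S.X₂ I n)
    constructor
    · intro hz
      have hz0 : (Cochain.ofHom S.f).comp z (zero_add n) = 0 := hz
      have hz' : ∀ p q (hpq : p + n = q), (S.f.f p) ≫ z.v p q hpq = 0 := by
        intro p q hpq
        have h1 := Cochain.congr_v hz0 p q hpq
        rwa [Cochain.zero_cochain_comp_v, Cochain.ofHom_v, Cochain.zero_v] at h1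
      refine ⟨(Cochain.mk (fun p q hpq =>
        (hS' p).exact.descToInjective (z.v p q hpq) (hz' p q hpq)) : Cochain S.X₃ I n), ?_⟩
      show (Cochain.ofHom S.g).comp (Cochain.mk (fun p q hpq =>
        (hS' p).exact.descToInjective (z.v p q hpq) (hz' p q hpq))) (zero_add n) = z
      apply Cochain.ext
      intro p q hpq
      rw [Cochain.zero_cochain_comp_v, Cochain.ofHom_v, Cochain.mk_v]
      exact (hS' p).exact.comp_descToInjective _ _
    · rintro ⟨(z' : Cochain S.X₃ I n), rfl⟩
      show (Cochain.ofHom S.f).comp ((Cochain.ofHom S.g).comp z' (zero_add n)) (zero_add n) = 0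
      rw [← Cochain.comp_assoc_of_first_is_zero_cochain, ← Cochain.ofHom_comp, S.zero,
        Cochain.ofHom_zero, Cochain.zero_comp]
  · intro (z₁ : Cochain S.X₃ I n) (z₂ : Cochain S.X₃ I n) h12
    have h0 : (Cochain.ofHom S.g).comp z₁ (zero_add n) = (Cochain.ofHom S.g).comp z₂ (zero_add n) :=
      h12
    apply Cochain.ext
    intro p q hpq
    have h1 := Cochain.congr_v h0 p q hpq
    rw [Cochain.zero_cochain_comp_v, Cochain.ofHom_v, Cochain.zero_cochain_comp_v,
      Cochain.ofHom_v] at h1
    exact (cancel_epi (S.g.f p)).mp h1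
  · intro (z₁ : Cochain S.X₁ I n)
    refine ⟨(Cochain.mk (fun p q hpq => Injective.factorThru (z₁.v p q hpq) (S.f.f p)) :
      Cochain S.X₂ I n), ?_⟩
    show (Cochain.ofHom S.f).comp (Cochain.mk (fun p q hpq =>
      Injective.factorThru (z₁.v p q hpq) (S.f.f p))) (zero_add n) = z₁
    apply Cochain.ext
    intro p q hpq
    rw [Cochain.zero_cochain_comp_v, Cochain.ofHom_v, Cochain.mk_v]
    exact Injective.comp_factorThru _ _

/-- the biduality maps as a morphism of short complexes -/
noncomputable def etaS (S : ShortComplex (DRing.Cx A)) (I : DRing.Cx A) :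
    S ⟶ DS (DS S I) I where
  τ₁ := eta S.X₁ I
  τ₂ := eta S.X₂ I
  τ₃ := eta S.X₃ I
  comm₁₂ := (eta_naturality I S.f).symm
  comm₂₃ := (eta_naturality I S.g).symm

open HomologicalComplex in
theorem isIso_homologyMap_eta_X₃ (S : ShortComplex (DRing.Cx A)) (hS : S.ShortExact)
    (I : DRing.Cx A) (hI : ∀ q, Injective (I.X q)) (i : ℤ)
    (h1 : IsIso (homologyMap (eta S.X₁ I) i)) (h2 : IsIso (homologyMap (eta S.X₂ I) i))
    (h3 : IsIso (homologyMap (eta S.X₁ I) (i + 1)))
    (h4 : IsIso (homologyMap (eta S.X₂ I) (i + 1))) :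
    IsIso (homologyMap (eta S.X₃ I) i) := by
  have hDD : (DS (DS S I) I).ShortExact := DS_shortExact _ (DS_shortExact S hS I hI) I hI
  refine HomologySequence.isIso_homologyMap_τ₃ (etaS S I) hS hDD i ?_ ?_ ?_ ?_
  · show Epi (homologyMap (eta S.X₁ I) i)
    infer_instance
  · exact h2
  · intro j hij
    obtain rfl : i + 1 = j := hij
    exact h3
  · intro j hij
    obtain rfl : i + 1 = j := hij
    show Mono (homologyMap (eta S.X₂ I) (i + 1))
    infer_instance

end Groth.Agent.Helper6.BiD
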