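import Mathlib
import Groth.Prelude.Def_DRing4
import Groth.Agent.Helper6.HomCxPre
import Groth.Agent.Helper6.BiD3
import Groth.Agent.Helper6.BiD4

/-!
# The biduality map on cohomology as a property of objects of the derived category
-/

set_option autoImplicit false
set_option linter.style.haveILetI false
set_option linter.unusedSectionVars false

universe u
open CategoryTheory CategoryTheory.Limits CochainComplex CochainComplex.HomComplex
  Pretriangulated DerivedCategory
attribute [local instance] HasDerivedCategory.standard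

namespace Groth.Agent.Helper6.BiD
open Groth.Agent.Helper6.HomCxPre HomologicalComplex

variable {A : Type u} [CommRing A] (I : DRing.Cx A) [I.IsKInjective]

lemma isIso_homologyMap_eta_of_quasiIso {V W : DRing.Cx A} (s : V ⟶ W) [QuasiIso s] (j : ℤ) :
    IsIso (homologyMap (eta V I) j) ↔ IsIso (homologyMap (eta W I) j) := by
  haveI : QuasiIso (homCxPre s I) := quasiIso_homCxPre s I
  haveI : QuasiIso (homCxPre (homCxPre s I) I) := quasiIso_homCxPre (homCxPre s I) I
  have hnat : homologyMap s j ≫ homologyMap (eta W I) j =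
      homologyMap (eta V I) j ≫ homologyMap (homCxPre (homCxPre s I) I) j := by
    rw [← homologyMap_comp, ← homologyMap_comp, eta_naturality]
  haveI h1 : IsIso (homologyMap s j) :=
    (quasiIsoAt_iff_isIso_homologyMap s j).mp inferInstance
  haveI h2 : IsIso (homologyMap (homCxPre (homCxPre s I) I) j) :=
    (quasiIsoAt_iff_isIso_homologyMap _ j).mp inferInstance
  constructor
  · intro h
    haveI := h
    have h3 : IsIso (homologyMap s j ≫ homologyMap (eta W I) j) := by
      rw [hnat]; infer_instance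
    exact IsIso.of_isIso_comp_left (homologyMap s j) _
  · intro h
    haveI := h
    have h3 : IsIso (homologyMap (eta V I) j ≫ homologyMap (homCxPre (homCxPre s I) I) j) := by
      rw [← hnat]; infer_instance
    exact IsIso.of_isIso_comp_right _ (homologyMap (homCxPre (homCxPre s I) I) j)

lemma isIso_homologyMap_eta_of_iso {V W : DRing.Cx A} (e : DRing.toD V ≅ DRing.toD W) (j : ℤ) :
    IsIso (homologyMap (eta V I) j) ↔ IsIso (homologyMap (eta W I) j) := by
  obtain ⟨V', s, hs, g, hfac⟩ := DerivedCategory.right_fac e.hom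
  haveI := hs
  haveI : QuasiIso s := (DerivedCategory.isIso_Q_map_iff_quasiIso (φ := s)).mp hs
  have hg : IsIso (Q.map g) := by
    have h1 : Q.map g = Q.map s ≫ e.hom := by
      rw [hfac, IsIso.hom_inv_id_assoc]
    rw [h1]; infer_instance
  haveI : QuasiIso g := (DerivedCategory.isIso_Q_map_iff_quasiIso (φ := g)).mp hg
  rw [← isIso_homologyMap_eta_of_quasiIso I s j, isIso_homologyMap_eta_of_quasiIso I g j]

/-- the biduality map of (any representative of) `W` is an isomorphism on `H^j` -/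
def EtaIso (W : Dual.D A) (j : ℤ) : Prop :=
  ∀ (W₀ : DRing.Cx A), Nonempty (DRing.toD W₀ ≅ W) → IsIso (homologyMap (eta W₀ I) j)

lemma etaIso_of_rep {W : Dual.D A} {W₀ : DRing.Cx A} (e : DRing.toD W₀ ≅ W) (j : ℤ)
    (h : IsIso (homologyMap (eta W₀ I) j)) : EtaIso I W j := fun _ ⟨e₁⟩ =>
  (isIso_homologyMap_eta_of_iso I (e ≪≫ e₁.symm) j).mp h

lemma etaIso_of_iso {W W' : Dual.D A} (e : W ≅ W') (j : ℤ) (h : EtaIso I W j) :
    EtaIso I W' j := fun W₀ ⟨e₀⟩ => h W₀ ⟨e₀ ≪≫ e.symm⟩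

variable (hI : ∀ q, Injective (I.X q))
include hI

theorem etaIso_cone (T : Triangle (Dual.D A)) (hT : T ∈ distTriang _) (i : ℤ)
    (h1 : EtaIso I T.obj₂ i) (h2 : EtaIso I T.obj₃ i) (h3 : EtaIso I T.obj₂ (i + 1))
    (h4 : EtaIso I T.obj₃ (i + 1)) : EtaIso I (T.obj₁⟦(1 : ℤ)⟧) i := by
  obtain ⟨K, L, φ, ⟨e⟩⟩ := (DerivedCategory.mem_distTriang_iff T).mp hT
  let e₁ : T.obj₁ ≅ Q.obj K := Triangle.π₁.mapIso e
  let e₂ : T.obj₂ ≅ Q.obj L := Triangle.π₂.mapIso e
  let e₃ : T.obj₃ ≅ Q.obj (mappingCone φ) := Triangle.π₃.mapIso e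
  let S := mappingCone.triangleRotateShortComplex φ
  have hS : S.ShortExact := HomologicalComplex.shortExact_of_degreewise_shortExact S
    (fun n => (mappingCone.triangleRotateShortComplexSplitting φ n).shortExact)
  have h := isIso_homologyMap_eta_X₃ S hS I hI i (h1 L ⟨e₂.symm⟩) (h2 (mappingCone φ) ⟨e₃.symm⟩)
    (h3 L ⟨e₂.symm⟩) (h4 (mappingCone φ) ⟨e₃.symm⟩)
  exact etaIso_of_rep I (W₀ := K⟦(1 : ℤ)⟧)
    ((Q.commShiftIso (1 : ℤ)).app K ≪≫ (CategoryTheory.shiftFunctor (Dual.D A) (1 : ℤ)).mapIso e₁.symm) i h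

/-- the biduality map is a quasi-isomorphism for all shifts of `X` -/
def EtaAll (X : Dual.D A) : Prop := ∀ (k j : ℤ), EtaIso I (X⟦k⟧) j

omit hI in
lemma etaAll_of_iso {X Y : Dual.D A} (e : X ≅ Y) (h : EtaAll I X) : EtaAll I Y :=
  fun k j => etaIso_of_iso I ((CategoryTheory.shiftFunctor (Dual.D A) k).mapIso e) j (h k j)

omit hI in
lemma etaAll_shift (X : Dual.D A) (n : ℤ) (h : EtaAll I X) : EtaAll I (X⟦n⟧) :=
  fun k j => etaIso_of_iso I ((CategoryTheory.shiftFunctorAdd' (Dual.D A) n k (n + k) rfl).app X) j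
    (h (n + k) j)

theorem etaAll_ext (T : Triangle (Dual.D A)) (hT : T ∈ distTriang _)
    (h1 : EtaAll I T.obj₁) (h3 : EtaAll I T.obj₃) : EtaAll I T.obj₂ := by
  intro k j
  have hT' : (CategoryTheory.shiftFunctor (Triangle (Dual.D A)) (k - 1)).obj T.rotate ∈
      distTriang _ := Triangle.shift_distinguished T.rotate (rot_of_distTriang _ hT) (k - 1)
  have e1 : (T.obj₁⟦(1 : ℤ)⟧)⟦k - 1⟧ ≅ T.obj₁⟦k⟧ :=
    ((CategoryTheory.shiftFunctorAdd' (Dual.D A) 1 (k - 1) k (by omega)).app T.obj₁).symm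
  have e2 : (T.obj₂⟦k - 1⟧)⟦(1 : ℤ)⟧ ≅ T.obj₂⟦k⟧ :=
    ((CategoryTheory.shiftFunctorAdd' (Dual.D A) (k - 1) 1 k (by omega)).app T.obj₂).symm
  have hc := etaIso_cone I hI _ hT' j (h3 (k - 1) j) (etaIso_of_iso I e1.symm j (h1 k j))
    (h3 (k - 1) (j + 1)) (etaIso_of_iso I e1.symm (j + 1) (h1 k (j + 1)))
  exact etaIso_of_iso I e2 j hc

end Groth.Agent.Helper6.BiD
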