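import Mathlib
import Groth.Prelude.Def_DRing4

/-!
# An elementwise criterion for quasi-isomorphisms of complexes of modules
-/

set_option autoImplicit false
set_option linter.style.haveILetI false
set_option linter.unusedSectionVars false

universe u
open CategoryTheory CategoryTheory.Limits

namespace Groth.Agent.Helper6.BiD

variable {A : Type u} [CommRing A]

theorem quasiIsoAt_of_elementwise {E E' : DRing.Cx A} (f : E ⟶ E') (n : ℤ)
    (hinj : ∀ x : E.X n, (E.d n (n + 1)).hom x = 0 →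
      (∃ y' : E'.X (n - 1), (E'.d (n - 1) n).hom y' = (f.f n).hom x) →
        ∃ y : E.X (n - 1), (E.d (n - 1) n).hom y = x)
    (hsurj : ∀ y : E'.X n, (E'.d n (n + 1)).hom y = 0 →
      ∃ x : E.X n, (E.d n (n + 1)).hom x = 0 ∧
        ∃ w : E'.X (n - 1), (E'.d (n - 1) n).hom w = y - (f.f n).hom x) :
    QuasiIsoAt f n := by
  rw [quasiIsoAt_iff' f (n - 1) n (n + 1) (by simp) (by simp)]
  let S₁ := E.sc' (n - 1) n (n + 1)
  let S₂ := E'.sc' (n - 1) n (n + 1)
  let φ : S₁ ⟶ S₂ := (HomologicalComplex.shortComplexFunctor' (ModuleCat.{u} A)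
    (ComplexShape.up ℤ) (n - 1) n (n + 1)).map f
  let h₁ := S₁.moduleCatLeftHomologyData
  let h₂ := S₂.moduleCatLeftHomologyData
  let γ := ShortComplex.leftHomologyMapData φ h₁ h₂
  show ShortComplex.QuasiIso φ
  rw [γ.quasiIso_iff, ConcreteCategory.isIso_iff_bijective]
  have hπ₁ : Function.Surjective h₁.π.hom := Submodule.mkQ_surjective _
  have hπ₂ : Function.Surjective h₂.π.hom := Submodule.mkQ_surjective _
  have hcommπ : ∀ x : h₁.K, γ.φH.hom (h₁.π.hom x) = h₂.π.hom (γ.φK.hom x) := fun x =>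
    ConcreteCategory.congr_hom γ.commπ x
  have hcommi : ∀ x : h₁.K, h₂.i.hom (γ.φK.hom x) = (f.f n).hom (h₁.i.hom x) := fun x =>
    ConcreteCategory.congr_hom γ.commi x
  constructor
  · intro a b hab
    obtain ⟨x, rfl⟩ := hπ₁ a
    obtain ⟨y, rfl⟩ := hπ₁ b
    have h0 : γ.φH.hom (h₁.π.hom (x - y)) = 0 := by
      rw [map_sub, map_sub]
      exact sub_eq_zero.mpr hab
    rw [hcommπ] at h0
    have h1 : γ.φK.hom (x - y) ∈ LinearMap.range S₂.moduleCatToCycles :=
      (Submodule.Quotient.mk_eq_zero _).mp h0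
    obtain ⟨y', hy'⟩ := h1
    have h2 : (E'.d (n - 1) n).hom y' = (f.f n).hom (h₁.i.hom (x - y)) := by
      rw [← hcommi, ← hy']
      rfl
    obtain ⟨w, hw⟩ := hinj (h₁.i.hom (x - y)) (x - y).2 ⟨y', h2⟩
    have h3 : h₁.π.hom (x - y) = 0 := by
      refine (Submodule.Quotient.mk_eq_zero _).mpr ⟨w, ?_⟩
      exact Subtype.ext hw
    rw [map_sub] at h3
    exact sub_eq_zero.mp h3
  · intro b
    obtain ⟨y, rfl⟩ := hπ₂ b
    obtain ⟨x, hx, w, hw⟩ := hsurj (h₂.i.hom y) y.2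
    let x' : h₁.K := ⟨x, hx⟩
    refine ⟨h₁.π.hom x', ?_⟩
    rw [hcommπ]
    have h1 : h₂.π.hom (y - γ.φK.hom x') = 0 := by
      refine (Submodule.Quotient.mk_eq_zero _).mpr ⟨w, ?_⟩
      apply Subtype.ext
      show (E'.d (n - 1) n).hom w = h₂.i.hom (y - γ.φK.hom x')
      rw [map_sub, hcommi, hw]
      rfl
    rw [map_sub] at h1
    exact (sub_eq_zero.mp h1).symm

end Groth.Agent.Helper6.BiD
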