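import Mathlib
import Groth.Prelude.Def_DRing4
import Groth.Agent.Helper3.DRingFin
import Groth.Agent.Helper9.PerfCone
import Groth.Agent.Helper9.InjAmp
import Groth.Agent.Helper6.KProjQ

/-!
# Cohomology of `Hom•(X, I)` for K-injective `I` as morphisms in the derived category
-/

set_option autoImplicit false
set_option linter.style.haveILetI false
set_option linter.unusedSectionVars false

universe u
open CategoryTheory CategoryTheory.Limits CochainComplex CochainComplex.HomComplex DerivedCategory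
attribute [local instance] HasDerivedCategory.standard

namespace Groth.Agent.Helper6.BiD
open Groth.Agent.Helper3.DRingLib

variable {A : Type u} [CommRing A] (X I : DRing.Cx A) (n : ℤ)

/-- the morphism in `D(A)` attached to a cocycle of `Hom•(X, I)` -/
noncomputable def gOf (z : Cocycle X I n) : DRing.toD X ⟶ DRing.toD (I⟦n⟧) :=
  Q.map (Cocycle.equivHomShift.symm z)

lemma equivHomShift_symm_smul (a : A) (z : Cocycle X I n) :
    Cocycle.equivHomShift.symm (a • z) = a • Cocycle.equivHomShift.symm z := by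
  apply HomologicalComplex.hom_ext
  intro p
  rw [HomologicalComplex.smul_f_apply]
  simp only [Cocycle.equivHomShift_symm_apply, Cocycle.homOf_f, Cocycle.rightShift_coe,
    Cocycle.coe_smul, Cochain.rightShift_smul, Cochain.smul_v]

lemma gOf_add (z z' : Cocycle X I n) : gOf X I n (z + z') = gOf X I n z + gOf X I n z' := by
  unfold gOf
  rw [map_add, Functor.map_add]

lemma gOf_smul (a : A) (z : Cocycle X I n) : gOf X I n (a • z) = a • gOf X I n z := by
  unfold gOf
  rw [equivHomShift_symm_smul, Functor.map_smul]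

lemma gOf_equivHomShift (c : X ⟶ I⟦n⟧) : gOf X I n (Cocycle.equivHomShift c) = Q.map c := by
  unfold gOf
  rw [AddEquiv.symm_apply_apply]

lemma gOf_eq_zero_iff [I.IsKInjective] (z : Cocycle X I n) :
    gOf X I n z = 0 ↔ ∃ β : Cochain X I (n - 1), δ (n - 1) n β = z.1 := by
  haveI : (I⟦n⟧).IsKInjective := (CochainComplex.isKInjective_shift_iff I n).mpr inferInstance
  have hcob : z ∈ coboundaries X I n ↔ ∃ β : Cochain X I (n - 1), δ (n - 1) n β = z.1 :=
    mem_coboundaries_iff z (n - 1) (by omega)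
  rw [← hcob, ← CohomologyClass.toHom_mk_eq_zero_iff, CohomologyClass.toHom_mk]
  constructor
  · intro h
    have h1 : Q.map (Cocycle.equivHomShift.symm z) = Q.map (0 : X ⟶ I⟦n⟧) := by
      rw [Functor.map_zero]; exact h
    obtain ⟨H⟩ := Groth.Agent.Helper9.InjAmp.homotopy_of_Q_map_eq_of_isKInjective X (I⟦n⟧) _ _ h1
    rw [HomotopyCategory.eq_of_homotopy _ _ H, Functor.map_zero]
  · intro h
    have h1 : (HomotopyCategory.quotient (ModuleCat.{u} A) (ComplexShape.up ℤ)).map
        (Cocycle.equivHomShift.symm z) =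
        (HomotopyCategory.quotient (ModuleCat.{u} A) (ComplexShape.up ℤ)).map
          (0 : X ⟶ I⟦n⟧) := by
      rw [Functor.map_zero]; exact h
    have H := HomotopyCategory.homotopyOfEq _ _ h1
    show Q.map (Cocycle.equivHomShift.symm z) = 0
    rw [Groth.Agent.Helper6.KProjQ.Q_map_eq_of_homotopy H, Functor.map_zero]

lemma gOf_surjective [I.IsKInjective] (g : DRing.toD X ⟶ DRing.toD (I⟦n⟧)) :
    ∃ z : Cocycle X I n, gOf X I n z = g := by
  haveI : (I⟦n⟧).IsKInjective := (CochainComplex.isKInjective_shift_iff I n).mpr inferInstance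
  obtain ⟨c, hc⟩ := Groth.Agent.Helper9.PerfCone.exists_map_eq_of_isKInjective X (I⟦n⟧) g
  exact ⟨Cocycle.equivHomShift c, by rw [gOf_equivHomShift, hc]⟩

/-- cocycles as a submodule: the kernel of the differential of `Hom•(X, I)` -/
noncomputable def cocycleOfKer
    (z : LinearMap.ker ((DRing.homCx X I).sc' (n - 1) n (n + 1)).g.hom) : Cocycle X I n :=
  Cocycle.mk z.1 (n + 1) rfl (LinearMap.mem_ker.mp z.2)

/-- the linear map from cocycles to morphisms in `D(A)` -/
noncomputable def kerToHom :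
    LinearMap.ker ((DRing.homCx X I).sc' (n - 1) n (n + 1)).g.hom →ₗ[A]
      (DRing.toD X ⟶ DRing.toD (I⟦n⟧)) where
  toFun z := gOf X I n (cocycleOfKer X I n z)
  map_add' z z' := by
    rw [← gOf_add]
    rfl
  map_smul' a z := by
    rw [RingHom.id_apply, ← gOf_smul]
    rfl

lemma kerToHom_surjective [I.IsKInjective] : Function.Surjective (kerToHom X I n) := by
  intro g
  obtain ⟨z, hz⟩ := gOf_surjective X I n g
  refine ⟨⟨z.1, ?_⟩, ?_⟩
  · rw [LinearMap.mem_ker]
    exact z.δ_eq_zero (n + 1)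
  · rw [← hz]
    rfl

lemma ker_kerToHom [I.IsKInjective] :
    LinearMap.range ((DRing.homCx X I).sc' (n - 1) n (n + 1)).moduleCatToCycles =
      LinearMap.ker (kerToHom X I n) := by
  ext z
  rw [LinearMap.mem_ker, LinearMap.mem_range]
  show _ ↔ gOf X I n (cocycleOfKer X I n z) = 0
  rw [gOf_eq_zero_iff]
  constructor
  · rintro ⟨β, hβ⟩
    exact ⟨β, congrArg Subtype.val hβ⟩
  · rintro ⟨β, hβ⟩
    exact ⟨β, Subtype.ext hβ⟩

/-- `H^n(Hom•(X, I)) ≅ Hom_{D(A)}(X, I[n])` for K-injective `I` -/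
noncomputable def Psi [I.IsKInjective] :
    Dual.HD A (DRing.toD (DRing.homCx X I)) n ≃ₗ[A] (DRing.toD X ⟶ DRing.toD (I⟦n⟧)) :=
  ((homologyToDIso (DRing.homCx X I) n) ≪≫ homologyIsoQuot (DRing.homCx X I) n).toLinearEquiv ≪≫ₗ
    Submodule.quotEquivOfEq _ _ (ker_kerToHom X I n) ≪≫ₗ
      (kerToHom X I n).quotKerEquivOfSurjective (kerToHom_surjective X I n)

/-- the version with target `(toD I)⟦n⟧` -/
noncomputable def Psi' [I.IsKInjective] :
    Dual.HD A (DRing.toD (DRing.homCx X I)) n ≃ₗ[A] (DRing.toD X ⟶ (DRing.toD I)⟦n⟧) :=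
  Psi X I n ≪≫ₗ Linear.homCongr A (Iso.refl _) ((Q.commShiftIso n).app I)

end Groth.Agent.Helper6.BiD
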