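import Mathlib
import Groth.Prelude.Def_DRing4
import Groth.Agent.Helper6.BiD1
import Groth.Agent.Helper6.BiD2
import Groth.Agent.Helper6.BiD3

/-!
# Biduality for the ring placed in a single degree
-/

set_option autoImplicit false
set_option linter.style.haveILetI false
set_option linter.unusedSectionVars false

universe u
open CategoryTheory CategoryTheory.Limits CochainComplex CochainComplex.HomComplex
  Pretriangulated DerivedCategory
attribute [local instance] HasDerivedCategory.standard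

namespace Groth.Agent.Helper6.BiD

variable {A : Type u} [CommRing A]

section Shift

variable (ω : Dual.D A)

lemma subsingleton_hom_shift
    (hext : ∀ i : ℤ, i ≠ 0 → Subsingleton (ω ⟶ ω⟦i⟧)) (m j : ℤ) (h : j ≠ m) :
    Subsingleton (ω⟦m⟧ ⟶ ω⟦j⟧) := by
  haveI := hext (j - m) (by omega)
  let e : ω⟦j⟧ ≅ (ω⟦j - m⟧)⟦m⟧ :=
    (CategoryTheory.shiftFunctorAdd' (Dual.D A) (j - m) m j (by omega)).app ω
  have hz : ∀ g : ω⟦m⟧ ⟶ ω⟦j⟧, g = 0 := by
    intro g
    obtain ⟨g', hg'⟩ := (CategoryTheory.shiftFunctor (Dual.D A) m).map_surjective (g ≫ e.hom)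
    have h0 : g' = 0 := Subsingleton.elim _ _
    rw [h0, Functor.map_zero] at hg'
    calc g = (g ≫ e.hom) ≫ e.inv := by rw [Category.assoc, Iso.hom_inv_id, Category.comp_id]
      _ = 0 := by rw [← hg', zero_comp]
  exact ⟨fun f g => by rw [hz f, hz g]⟩

lemma end_shift_eq_smul (hend : Function.Surjective (fun a : A => a • 𝟙 ω)) (m : ℤ)
    (g : ω⟦m⟧ ⟶ ω⟦m⟧) : ∃ a : A, g = a • 𝟙 (ω⟦m⟧) := by
  obtain ⟨g', rfl⟩ := (CategoryTheory.shiftFunctor (Dual.D A) m).map_surjective g
  obtain ⟨a, ha⟩ := hend g'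
  refine ⟨a, ?_⟩
  have ha' : a • 𝟙 ω = g' := ha
  rw [← ha', Functor.map_smul, CategoryTheory.Functor.map_id]

lemma smul_id_shift_eq_zero (hend : Function.Injective (fun a : A => a • 𝟙 ω)) (m : ℤ) (a : A)
    (h : a • 𝟙 (ω⟦m⟧) = 0) : a = 0 := by
  apply hend
  show a • 𝟙 ω = (0 : A) • 𝟙 ω
  rw [zero_smul]
  apply (CategoryTheory.shiftFunctor (Dual.D A) m).map_injective
  rw [Functor.map_smul, CategoryTheory.Functor.map_id, Functor.map_zero]
  exact h

end Shift

section Single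

variable (m : ℤ)

/-- the complex `A` placed in degree `m` -/
noncomputable abbrev Sm (A : Type u) [CommRing A] (m : ℤ) : DRing.Cx A :=
  (CochainComplex.singleFunctor (ModuleCat.{u} A) m).obj (ModuleCat.of A A)

noncomputable abbrev ιm : (Sm A m).X m ≅ ModuleCat.of A A :=
  HomologicalComplex.singleObjXSelf (ComplexShape.up ℤ) m (ModuleCat.of A A)

/-- the generator of `A` in degree `m` -/
noncomputable def x₁ : (Sm A m).X m := (ιm (A := A) m).inv.hom (1 : A)

lemma ιm_hom_x₁ : (ιm (A := A) m).hom.hom (x₁ m) = 1 := by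
  unfold x₁
  rw [← LinearMap.comp_apply, ← ModuleCat.hom_comp, Iso.inv_hom_id]
  rfl

lemma eq_smul_x₁ (x : (Sm A m).X m) : x = ((ιm m).hom.hom x) • x₁ m := by
  have h1 : (ιm m).inv.hom ((ιm m).hom.hom x) = x := by
    rw [← LinearMap.comp_apply, ← ModuleCat.hom_comp, Iso.hom_inv_id]
    rfl
  conv_lhs => rw [← h1]
  unfold x₁
  rw [← map_smul, smul_eq_mul, mul_one]

lemma hom_ext_x₁ {N : ModuleCat.{u} A} (f g : (Sm A m).X m ⟶ N)
    (h : f.hom (x₁ m) = g.hom (x₁ m)) : f = g := by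
  apply ModuleCat.hom_ext
  apply LinearMap.ext
  intro x
  rw [eq_smul_x₁ m x, map_smul, map_smul, h]

lemma isZero_Sm_X (p : ℤ) (hp : p ≠ m) : IsZero ((Sm A m).X p) :=
  HomologicalComplex.isZero_single_obj_X _ _ _ _ hp

lemma Sm_d (i j : ℤ) : (Sm A m).d i j = 0 := rfl

lemma cochain_ext_Sm {L : DRing.Cx A} {j : ℤ} (z z' : Cochain (Sm A m) L j) (q : ℤ)
    (hq : m + j = q)
    (h : (z.v m q hq).hom (x₁ m) = (z'.v m q hq).hom (x₁ m)) : z = z' := by
  subst hq
  apply Cochain.ext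
  intro p q hpq
  by_cases hp : p = m
  · subst hp
    obtain rfl : q = p + j := hpq.symm
    exact hom_ext_x₁ p _ _ h
  · exact (isZero_Sm_X m p hp).eq_of_src _ _

lemma exists_cochain_Sm {L : DRing.Cx A} (j q : ℤ) (hq : m + j = q) (w : L.X q) :
    ∃ z : Cochain (Sm A m) L j, (z.v m q hq).hom (x₁ m) = w := by
  subst hq
  refine ⟨Cochain.fromSingleMk (ModuleCat.ofHom (LinearMap.toSpanSingleton A _ w)) rfl, ?_⟩
  rw [Cochain.fromSingleMk_v]
  show (LinearMap.toSpanSingleton A _ w) ((ιm m).hom.hom (x₁ m)) = w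
  rw [ιm_hom_x₁, LinearMap.toSpanSingleton_apply, one_smul]

variable (I : DRing.Cx A)

lemma evLin_x₁_bijective (j : ℤ) :
    Function.Bijective (evLin (Sm A m) I m j (j + m) rfl (x₁ m)) := by
  constructor
  · intro z z' h
    have h' : sg A (m * j) • (z.v m (j + m) (by omega)).hom (x₁ m) =
        sg A (m * j) • (z'.v m (j + m) (by omega)).hom (x₁ m) := h
    have h2 := congrArg (fun t => sg A (m * j) • t) h'
    simp only [smul_smul, sg_mul_self, one_smul] at h2
    exact cochain_ext_Sm m z z' (j + m) (by omega) h2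
  · intro w
    obtain ⟨z, hz⟩ := exists_cochain_Sm (L := I) m j (j + m) (by omega) ((sg A (m * j)) • w)
    refine ⟨z, ?_⟩
    show sg A (m * j) • (z.v m (j + m) (by omega)).hom (x₁ m) = w
    rw [hz, smul_smul, sg_mul_self, one_smul]

/-- `η(x₁)` as a cocycle -/
noncomputable def ζ : Cocycle (DRing.homCx (Sm A m) I) I m :=
  Cocycle.mk (evCochain (Sm A m) I m (x₁ m)) (m + 1) rfl (by
    rw [eta_comm, Sm_d, ModuleCat.hom_zero, LinearMap.zero_apply]
    exact (etaLin (Sm A m) I (m + 1)).map_zero)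

/-- the chain map `Hom•(A[-m], I) ⟶ I⟦m⟧` corresponding to `η(x₁)` -/
noncomputable def cm : DRing.homCx (Sm A m) I ⟶ I⟦m⟧ := Cocycle.equivHomShift.symm (ζ m I)

instance isIso_cm_f (j : ℤ) : IsIso ((cm m I).f j) := by
  have h : (cm m I).f j = (ζ m I).1.v j (j + m) rfl ≫
      (I.shiftFunctorObjXIso m j (j + m) rfl).inv := by
    simp only [cm, Cocycle.equivHomShift_symm_apply, Cocycle.homOf_f, Cocycle.rightShift_coe]
    exact Cochain.rightShift_v _ m 0 (zero_add m) j j (add_zero j) (j + m) rfl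
  rw [h]
  haveI : IsIso ((ζ m I).1.v j (j + m) rfl) := by
    have h2 : (ζ m I).1.v j (j + m) rfl =
        ModuleCat.ofHom (evLin (Sm A m) I m j (j + m) rfl (x₁ m)) := rfl
    rw [h2, ConcreteCategory.isIso_iff_bijective]
    exact evLin_x₁_bijective m I j
  infer_instance

instance isIso_cm : IsIso (cm m I) := HomologicalComplex.Hom.isIso_of_components _

lemma gOf_ζ : gOf (DRing.homCx (Sm A m) I) I m (ζ m I) = Q.map (cm m I) := rfl

end Single

end Groth.Agent.Helper6.BiD
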