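import Mathlib
import Groth.Prelude.Def_DRing4
import Groth.Agent.Helper6.BiD5
import Groth.Agent.Helper6.BiD6

/-!
# Biduality for the ring placed in a single degree (continued)
-/

set_option autoImplicit false
set_option linter.style.haveILetI false
set_option linter.unusedSectionVars false

universe u
open CategoryTheory CategoryTheory.Limits CochainComplex CochainComplex.HomComplex
  Pretriangulated DerivedCategory
attribute [local instance] HasDerivedCategory.standard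

namespace Groth.Agent.Helper6.BiD

variable {A : Type u} [CommRing A]

lemma gOf_sub (X I : DRing.Cx A) (n : ℤ) (z z' : Cocycle X I n) :
    gOf X I n (z - z') = gOf X I n z - gOf X I n z' := by
  unfold gOf
  rw [map_sub, Functor.map_sub]

variable (I : DRing.Cx A) [I.IsKInjective]
  (hend : Function.Bijective (fun a : A => a • 𝟙 (DRing.toD I)))
  (hext : ∀ i : ℤ, i ≠ 0 → Subsingleton (DRing.toD I ⟶ (DRing.toD I)⟦i⟧))

include hext in
lemma hom_W_eq_zero (m j : ℤ) (hj : j ≠ m)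
    (g : DRing.toD (DRing.homCx (Sm A m) I) ⟶ DRing.toD (I⟦j⟧)) : g = 0 := by
  haveI : IsIso (Q.map (cm m I)) := inferInstance
  let φ : DRing.toD (DRing.homCx (Sm A m) I) ≅ DRing.toD (I⟦m⟧) := asIso (Q.map (cm m I))
  let θm : DRing.toD (I⟦m⟧) ≅ (DRing.toD I)⟦m⟧ := (Q.commShiftIso m).app I
  let θj : DRing.toD (I⟦j⟧) ≅ (DRing.toD I)⟦j⟧ := (Q.commShiftIso j).app I
  haveI := subsingleton_hom_shift (DRing.toD I) hext m j hj
  haveI : Subsingleton (DRing.toD (DRing.homCx (Sm A m) I) ⟶ DRing.toD (I⟦j⟧)) :=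
    (Iso.homCongr (φ ≪≫ θm) θj).subsingleton
  exact Subsingleton.elim _ _

include hend in
lemma hom_W_eq_smul (m : ℤ)
    (g : DRing.toD (DRing.homCx (Sm A m) I) ⟶ DRing.toD (I⟦m⟧)) :
    ∃ a : A, g = a • Q.map (cm m I) := by
  haveI : IsIso (Q.map (cm m I)) := inferInstance
  let φ : DRing.toD (DRing.homCx (Sm A m) I) ≅ DRing.toD (I⟦m⟧) := asIso (Q.map (cm m I))
  let θ : DRing.toD (I⟦m⟧) ≅ (DRing.toD I)⟦m⟧ := (Q.commShiftIso m).app I
  obtain ⟨a, ha⟩ := end_shift_eq_smul (DRing.toD I) hend.2 m ((φ ≪≫ θ).inv ≫ g ≫ θ.hom)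
  refine ⟨a, ?_⟩
  have h1 : g = (φ ≪≫ θ).hom ≫ ((φ ≪≫ θ).inv ≫ g ≫ θ.hom) ≫ θ.inv := by
    simp only [Category.assoc, Iso.hom_inv_id, Category.comp_id, Iso.hom_inv_id_assoc]
  rw [h1, ha]
  simp only [Linear.smul_comp, Linear.comp_smul, Category.id_comp, Iso.trans_hom, Category.assoc,
    Iso.hom_inv_id, Category.comp_id]
  rfl

include hend in
lemma smul_cm_eq_zero (m : ℤ) (a : A) (ha : a • Q.map (cm m I) = 0) : a = 0 := by
  haveI : IsIso (Q.map (cm m I)) := inferInstance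
  let φ : DRing.toD (DRing.homCx (Sm A m) I) ≅ DRing.toD (I⟦m⟧) := asIso (Q.map (cm m I))
  let θ : DRing.toD (I⟦m⟧) ≅ (DRing.toD I)⟦m⟧ := (Q.commShiftIso m).app I
  apply smul_id_shift_eq_zero (DRing.toD I) hend.1 m a
  have h1 : a • 𝟙 ((DRing.toD I)⟦m⟧) = (φ ≪≫ θ).inv ≫ (a • φ.hom) ≫ θ.hom := by
    simp only [Linear.smul_comp, Linear.comp_smul, Iso.trans_inv, Category.assoc,
      Iso.inv_hom_id_assoc, Iso.inv_hom_id]
  have ha' : a • φ.hom = 0 := ha
  rw [h1, ha', zero_comp, comp_zero]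

include hend in
theorem quasiIsoAt_eta_Sm_self (m : ℤ) : QuasiIsoAt (eta (Sm A m) I) m := by
  apply quasiIsoAt_of_elementwise
  · intro x _ hy
    obtain ⟨y', hy'⟩ := hy
    have hxa : x = ((ιm m).hom.hom x) • x₁ m := eq_smul_x₁ m x
    have h1 : gOf (DRing.homCx (Sm A m) I) I m (((ιm m).hom.hom x) • ζ m I) = 0 := by
      rw [gOf_eq_zero_iff]
      refine ⟨y', ?_⟩
      have h2 : ((eta (Sm A m) I).f m).hom x =
          ((ιm m).hom.hom x) • evCochain (Sm A m) I m (x₁ m) := by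
        rw [eta_f_apply]
        conv_lhs => rw [hxa]
        exact (etaLin (Sm A m) I m).map_smul _ (x₁ m)
      exact hy'.trans h2
    rw [gOf_smul, gOf_ζ] at h1
    have ha0 := smul_cm_eq_zero I hend m _ h1
    refine ⟨0, ?_⟩
    rw [map_zero, hxa, ha0, zero_smul]
  · intro y hy
    let ζy : Cocycle (DRing.homCx (Sm A m) I) I m := Cocycle.mk y (m + 1) rfl hy
    obtain ⟨a, ha⟩ := hom_W_eq_smul I hend m (gOf (DRing.homCx (Sm A m) I) I m ζy)
    refine ⟨a • x₁ m, ?_, ?_⟩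
    · rw [Sm_d, ModuleCat.hom_zero, LinearMap.zero_apply]
    · have h1 : gOf (DRing.homCx (Sm A m) I) I m (ζy - a • ζ m I) = 0 := by
        rw [gOf_sub, gOf_smul, gOf_ζ, ha]
        exact sub_self _
      obtain ⟨β, hβ⟩ := (gOf_eq_zero_iff (DRing.homCx (Sm A m) I) I m _).mp h1
      refine ⟨β, ?_⟩
      have h2 : ((eta (Sm A m) I).f m).hom (a • x₁ m) =
          a • evCochain (Sm A m) I m (x₁ m) := (etaLin (Sm A m) I m).map_smul a (x₁ m)
      rw [h2]
      exact hβ

include hext in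
theorem quasiIsoAt_eta_Sm_ne (m j : ℤ) (hj : j ≠ m) : QuasiIsoAt (eta (Sm A m) I) j := by
  haveI := ModuleCat.subsingleton_of_isZero (isZero_Sm_X (A := A) m j hj)
  apply quasiIsoAt_of_elementwise
  · intro x _ _
    refine ⟨0, ?_⟩
    rw [map_zero]
    exact Subsingleton.elim _ _
  · intro y hy
    let ζy : Cocycle (DRing.homCx (Sm A m) I) I j := Cocycle.mk y (j + 1) rfl hy
    have h0 := hom_W_eq_zero I hext m j hj (gOf (DRing.homCx (Sm A m) I) I j ζy)
    obtain ⟨β, hβ⟩ := (gOf_eq_zero_iff (DRing.homCx (Sm A m) I) I j _).mp h0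
    refine ⟨0, by rw [map_zero], β, ?_⟩
    rw [map_zero, sub_zero]
    exact hβ

include hend hext in
theorem quasiIso_eta_Sm (m : ℤ) : QuasiIso (eta (Sm A m) I) := by
  rw [quasiIso_iff]
  intro j
  by_cases hj : j = m
  · subst hj
    exact quasiIsoAt_eta_Sm_self I hend j
  · exact quasiIsoAt_eta_Sm_ne I hext m j hj

include hend hext in
theorem etaAll_single :
    EtaAll I ((DerivedCategory.singleFunctor (ModuleCat.{u} A) 0).obj (ModuleCat.of A A)) := by
  intro k j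
  haveI := quasiIso_eta_Sm I hend hext (-k)
  have h : IsIso (HomologicalComplex.homologyMap (eta (Sm A (-k)) I) j) :=
    (quasiIsoAt_iff_isIso_homologyMap _ j).mp inferInstance
  refine etaIso_of_rep I (W₀ := Sm A (-k)) ?_ j h
  exact (DerivedCategory.singleFunctorIsoCompQ (ModuleCat.{u} A) (-k)).symm.app _ ≪≫
    (((DerivedCategory.singleFunctors (ModuleCat.{u} A)).shiftIso k (-k) 0 (by omega)).app
      (ModuleCat.of A A)).symm

end Groth.Agent.Helper6.BiD
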