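import Mathlib

/-!
Coherent modules (finite, every finitely generated submodule finitely presented).
-/

namespace Groth.Agent.Helper6.Coherent

variable {R : Type*} [CommRing R] {M N : Type*} [AddCommGroup M] [Module R M]
  [AddCommGroup N] [Module R N]

/-- Coherence in the elementwise form used in the statements. -/
def IsCoh (R : Type*) [CommRing R] (M : Type*) [AddCommGroup M] [Module R M] : Prop :=
  Module.Finite R M ∧ ∀ P : Submodule R M, P.FG → Module.FinitePresentation R P

theorem isCoh_submodule (hM : IsCoh R M) (Q : Submodule R M) (hQ : Q.FG) : IsCoh R Q := by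
  refine ⟨Module.Finite.iff_fg.2 hQ, ?_⟩
  intro P hP
  have hP' : (P.map Q.subtype).FG := hP.map _
  have := hM.2 _ hP'
  exact Module.FinitePresentation.of_equiv
    (Submodule.equivMapOfInjective Q.subtype Q.injective_subtype P).symm

theorem fg_ker (hM : IsCoh R M) [Module.Finite R N] (φ : N →ₗ[R] M) : (LinearMap.ker φ).FG := by
  have hr : (LinearMap.range φ).FG := by
    rw [LinearMap.range_eq_map]
    exact (Module.Finite.fg_top).map φ
  have := hM.2 _ hr
  have := Module.FinitePresentation.fg_ker φ.rangeRestrict φ.surjective_rangeRestrict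
  rwa [LinearMap.ker_rangeRestrict] at this

theorem isCoh_quotient (hM : IsCoh R M) (Q : Submodule R M) (hQ : Q.FG) : IsCoh R (M ⧸ Q) := by
  have := hM.1
  refine ⟨inferInstance, ?_⟩
  intro P hP
  set P' : Submodule R M := P.comap Q.mkQ with hP'
  have hQP' : Q ≤ P' := by
    intro x hx
    rw [hP', Submodule.mem_comap, Submodule.mkQ_apply, (Submodule.Quotient.mk_eq_zero Q).2 hx]
    exact P.zero_mem
  have hmap : P'.map Q.mkQ = P := Submodule.map_comap_eq_of_surjective Q.mkQ_surjective P
  have hP'fg : P'.FG := by
    apply Submodule.fg_of_fg_map_of_fg_inf_ker Q.mkQ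
    · rw [hmap]; exact hP
    · rw [Submodule.ker_mkQ, inf_eq_right.2 hQP']; exact hQ
  have := hM.2 P' hP'fg
  -- the surjection P' → P
  let g : P' →ₗ[R] P := Q.mkQ.restrict (p := P') (q := P) (fun x hx => hx)
  have hg : Function.Surjective g := by
    rintro ⟨y, hy⟩
    obtain ⟨x, rfl⟩ := Q.mkQ_surjective y
    exact ⟨⟨x, hy⟩, rfl⟩
  have hker : LinearMap.ker g = Submodule.comap P'.subtype Q := by
    ext x
    rw [LinearMap.mem_ker, Submodule.mem_comap]
    constructor
    · intro h
      have : (g x : M ⧸ Q) = 0 := by rw [h]; rfl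
      exact (Submodule.Quotient.mk_eq_zero Q).1 this
    · intro h
      apply Subtype.ext
      exact (Submodule.Quotient.mk_eq_zero Q).2 h
  have hkfg : (LinearMap.ker g).FG := by
    rw [hker]
    have e := Submodule.comapSubtypeEquivOfLe hQP'
    have : Module.Finite R Q := Module.Finite.iff_fg.2 hQ
    have : Module.Finite R (Submodule.comap P'.subtype Q) := Module.Finite.equiv e.symm
    exact Module.Finite.iff_fg.1 inferInstance
  exact Module.finitePresentation_of_surjective g hg hkfg

end Groth.Agent.Helper6.Coherent
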