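import Mathlib
import Groth.Prelude.Def_DRing2
import Groth.Agent.Helper3.DRingPC4
import Groth.Agent.Helper3.DRingFin
import Groth.Agent.Helper3.DRingRes
import Groth.Agent.Helper6.Coherent
import Groth.Agent.S6366
import Groth.Agent.S12207

/-!
# Pseudo-coherence over coherent rings via cohomology modules
-/

set_option autoImplicit false
universe u

open CategoryTheory Limits DerivedCategory
attribute [local instance] HasDerivedCategory.standard

namespace Groth.Agent.Helper6.CohPC

open Groth.Agent.Helper3.DRingLib Groth.Agent.Helper6.Coherent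

variable {R : Type u} [CommRing R]
  (hR : ∀ I : Ideal R, I.FG → Module.FinitePresentation R I)

include hR

lemma isCoh_of_fp (M : Type u) [AddCommGroup M] [Module R M] [Module.FinitePresentation R M] :
    IsCoh R M := (Groth.Agent.S6366.result R hR M).2 inferInstance

lemma fp_of_isCoh (M : Type u) [AddCommGroup M] [Module R M] (h : IsCoh R M) :
    Module.FinitePresentation R M := (Groth.Agent.S6366.result R hR M).1 h

/-- finitely presented modules over a coherent ring are pseudo-coherent -/
theorem isPseudoCoherent_inD_of_fp (n : ℕ) :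
    ∀ (M : Type u) [AddCommGroup M] [Module R M] [Module.FinitePresentation R M],
      DRing.IsPseudoCoherent R (-(n : ℤ)) (Dual.inD R M) := by
  induction n with
  | zero =>
    intro M _ _ _
    simpa using isPseudoCoherent_inD_of_finite (A := R) M
  | succ n ih =>
    intro M _ _ _
    obtain ⟨k, p, hp⟩ := Module.Finite.exists_fin' R M
    have hker : (LinearMap.ker p).FG := Module.FinitePresentation.fg_ker p hp
    haveI : Module.FinitePresentation R (LinearMap.ker p) :=
      (isCoh_of_fp hR (Fin k → R)).2 _ hker
    have hS := LinearMap.shortExact_shortComplexKer hp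
    have hT := hS.singleTriangle_distinguished
    have h1 : DRing.IsPseudoCoherent R (-((n + 1 : ℕ) : ℤ) + 1) hS.singleTriangle.obj₁ := by
      have : -((n + 1 : ℕ) : ℤ) + 1 = -(n : ℤ) := by push_cast; omega
      rw [this]
      exact ih (LinearMap.ker p)
    have h2 : DRing.IsPseudoCoherent R (-((n + 1 : ℕ) : ℤ)) hS.singleTriangle.obj₂ :=
      isPseudoCoherent_of_isBFF (IsBFF.single 0 (ModuleCat.of R (Fin k → R))) _
    exact isPseudoCoherent_obj₃ _ hT _ h1 h2

theorem isPseudoCoherent_inD_of_fp' (M : Type u) [AddCommGroup M] [Module R M]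
    [Module.FinitePresentation R M] (m : ℤ) : DRing.IsPseudoCoherent R m (Dual.inD R M) :=
  isPseudoCoherent_of_le (show -((-m).toNat : ℤ) ≤ m by omega)
    (isPseudoCoherent_inD_of_fp hR (-m).toNat M)

/-- cohomology of a complex of finite free modules over a coherent ring is finitely presented -/
lemma fp_HD_toD (E : DRing.Cx R) (hE : ∀ i, Module.Finite R (E.X i) ∧ Module.Free R (E.X i))
    (i : ℤ) : Module.FinitePresentation R (Dual.HD R (DRing.toD E) i) := by
  let e := ((homologyToDIso E i) ≪≫ homologyIsoQuot E i).toLinearEquiv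
  suffices h : Module.FinitePresentation R
      ((E.sc' (i - 1) i (i + 1)).moduleCatLeftHomologyData.H) from
    Module.FinitePresentation.of_equiv e.symm
  change Module.FinitePresentation R (LinearMap.ker (E.sc' (i - 1) i (i + 1)).g.hom ⧸
    LinearMap.range (E.sc' (i - 1) i (i + 1)).moduleCatToCycles)
  haveI : Module.Finite R (E.sc' (i - 1) i (i + 1)).X₁ := (hE (i - 1)).1
  haveI : Module.Finite R (E.sc' (i - 1) i (i + 1)).X₂ := (hE i).1
  haveI : Module.Free R (E.sc' (i - 1) i (i + 1)).X₂ := (hE i).2
  haveI : Module.Finite R (E.sc' (i - 1) i (i + 1)).X₃ := (hE (i + 1)).1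
  haveI : Module.Free R (E.sc' (i - 1) i (i + 1)).X₃ := (hE (i + 1)).2
  haveI : Module.FinitePresentation R (E.sc' (i - 1) i (i + 1)).X₂ :=
    Module.finitePresentation_of_projective _ _
  haveI : Module.FinitePresentation R (E.sc' (i - 1) i (i + 1)).X₃ :=
    Module.finitePresentation_of_projective _ _
  have h2 : IsCoh R (E.sc' (i - 1) i (i + 1)).X₂ := isCoh_of_fp hR _
  have h3 : IsCoh R (E.sc' (i - 1) i (i + 1)).X₃ := isCoh_of_fp hR _
  have hk : IsCoh R (LinearMap.ker (E.sc' (i - 1) i (i + 1)).g.hom) :=
    (Groth.Agent.S12207.result R h2 h3 (E.sc' (i - 1) i (i + 1)).g.hom).1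
  have hr : (LinearMap.range (E.sc' (i - 1) i (i + 1)).moduleCatToCycles).FG := by
    rw [LinearMap.range_eq_map]
    exact (Module.Finite.fg_top).map _
  exact fp_of_isCoh hR _ (isCoh_quotient hk _ hr)

theorem main (K : Dual.D R)
    (hb : ∃ b : ℤ, ∀ i : ℤ, b < i → Subsingleton (Dual.HD R K i)) (m : ℤ) :
    (DRing.IsPseudoCoherent R m K ↔
      Module.Finite R (Dual.HD R K m) ∧
        ∀ i : ℤ, m < i → Module.FinitePresentation R (Dual.HD R K i)) ∧
      (DRing.IsPseudoCoherent' R K ↔ ∀ i : ℤ, Module.FinitePresentation R (Dual.HD R K i)) := by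
  obtain ⟨b, hb⟩ := hb
  haveI : K.IsLE b := isLE_of_HD K b hb
  have key : ∀ m : ℤ, DRing.IsPseudoCoherent R m K ↔
      Module.Finite R (Dual.HD R K m) ∧
        ∀ i : ℤ, m < i → Module.FinitePresentation R (Dual.HD R K i) := by
    intro m
    constructor
    · rintro ⟨E, a, c, α, v, ff, hiso, hepi⟩
      constructor
      · haveI := fp_HD_toD hR E ff m
        exact Module.Finite.of_surjective
          ((DerivedCategory.homologyFunctor (ModuleCat.{u} R) m).map α).hom
          ((ModuleCat.epi_iff_surjective _).mp hepi)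
      · intro i hi
        haveI := hiso i hi
        haveI := fp_HD_toD hR E ff i
        exact Module.FinitePresentation.of_equiv
          (asIso ((DerivedCategory.homologyFunctor (ModuleCat.{u} R) i).map α)).toLinearEquiv
    · rintro ⟨hfin, hfp⟩
      refine isPseudoCoherent_of_HD' m K b (fun i => ?_)
      rcases lt_trichotomy i m with hi | hi | hi
      · haveI : (Dual.inD R (Dual.HD R K i)).IsLE (m - i - 1) :=
          TStructure.t.isLE_of_le _ 0 (m - i - 1) (by omega)
        exact isPseudoCoherent_of_isLE _ (m - i)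
      · subst hi
        haveI := hfin
        simpa using isPseudoCoherent_inD_of_finite (A := R) (Dual.HD R K i)
      · haveI := hfp i hi
        exact isPseudoCoherent_inD_of_fp' hR _ _
  refine ⟨key m, ?_⟩
  rw [isPseudoCoherent'_iff_forall]
  constructor
  · intro h i
    exact ((key (i - 1)).1 (h (i - 1))).2 i (by omega)
  · intro h m'
    refine (key m').2 ⟨?_, fun i _ => h i⟩
    haveI := h m'
    infer_instance

end Groth.Agent.Helper6.CohPC
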