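import Mathlib

/-!
# Adjunctions induce adjunctions on homological complexes
-/

set_option autoImplicit false
open CategoryTheory CategoryTheory.Limits

namespace Groth.Agent.Helper6.AdjHC

variable {V W : Type*} [Category V] [Category W] [Preadditive V] [Preadditive W]
  {G : V ⥤ W} {F : W ⥤ V} [G.Additive] [F.Additive] (adj : G ⊣ F)
  {ι : Type*} (c : ComplexShape ι)

/-- the unit on complexes -/
@[simps]
def unitHC : 𝟭 (HomologicalComplex V c) ⟶ G.mapHomologicalComplex c ⋙ F.mapHomologicalComplex c where
  app K :=
    { f := fun i => adj.unit.app (K.X i)
      comm' := fun i j _ => (adj.unit.naturality (K.d i j)).symm }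
  naturality K L f := by
    ext i
    exact adj.unit.naturality (f.f i)

/-- the counit on complexes -/
@[simps]
def counitHC : F.mapHomologicalComplex c ⋙ G.mapHomologicalComplex c ⟶ 𝟭 (HomologicalComplex W c) where
  app K :=
    { f := fun i => adj.counit.app (K.X i)
      comm' := fun i j _ => (adj.counit.naturality (K.d i j)).symm }
  naturality K L f := by
    ext i
    exact adj.counit.naturality (f.f i)

/-- the adjunction on complexes -/
def adjHC : G.mapHomologicalComplex c ⊣ F.mapHomologicalComplex c :=
  Adjunction.mkOfUnitCounit
    { unit := unitHC adj c
      counit := counitHC adj c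
      left_triangle := by
        ext K i
        simp only [NatTrans.comp_app, Functor.whiskerRight_app, Functor.associator_hom_app,
          Functor.whiskerLeft_app, HomologicalComplex.comp_f, NatTrans.id_app',
          HomologicalComplex.id_f]
        erw [Category.id_comp]
        exact adj.left_triangle_components (K.X i)
      right_triangle := by
        ext K i
        simp only [NatTrans.comp_app, Functor.whiskerRight_app, Functor.associator_inv_app,
          Functor.whiskerLeft_app, HomologicalComplex.comp_f, NatTrans.id_app',
          HomologicalComplex.id_f]
        erw [Category.id_comp]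
        exact adj.right_triangle_components (K.X i) }

@[simp]
lemma adjHC_unit_app_f (K : HomologicalComplex V c) (i : ι) :
    ((adjHC adj c).unit.app K).f i = adj.unit.app (K.X i) := rfl

@[simp]
lemma adjHC_counit_app_f (K : HomologicalComplex W c) (i : ι) :
    ((adjHC adj c).counit.app K).f i = adj.counit.app (K.X i) := rfl

end Groth.Agent.Helper6.AdjHC
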