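import Mathlib
import Groth.Prelude.Def_DRing4
import Groth.Prelude.Def_DDual2
import Groth.Agent.Helper6.AdjHC
import Groth.Agent.Helper3.DRingBC

/-!
# Flat base change on derived categories: the adjunction `E ⊣ R`
-/

set_option autoImplicit false
universe u
open CategoryTheory CategoryTheory.Limits DerivedCategory

attribute [local instance] HasDerivedCategory.standard

namespace Groth.Agent.Helper6.FlatBC

variable (A B : Type u) [CommRing A] [CommRing B] [Algebra A B]

/-- extension of scalars -/
noncomputable abbrev Ef : ModuleCat.{u} A ⥤ ModuleCat.{u} B :=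
  ModuleCat.extendScalars.{u, u, u} (algebraMap A B)

/-- restriction of scalars -/
noncomputable abbrev Rf : ModuleCat.{u} B ⥤ ModuleCat.{u} A :=
  ModuleCat.restrictScalars.{u} (algebraMap A B)

instance [Module.Flat A B] : PreservesFiniteLimits (Ef A B) :=
  ModuleCat.preservesFiniteLimits_extendScalars_of_flat
    ((RingHom.flat_algebraMap_iff (R := A) (S := B)).mpr inferInstance)

variable [Module.Flat A B]

/-- extension of scalars on derived categories -/
noncomputable abbrev ED : Dual.D A ⥤ Dual.D B := (Ef A B).mapDerivedCategory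

/-- restriction of scalars on derived categories -/
noncomputable abbrev RD : Dual.D B ⥤ Dual.D A := DRing.restrictD (algebraMap A B)

/-- the adjunction on complexes -/
noncomputable def adjCx :
    (Ef A B).mapHomologicalComplex (ComplexShape.up ℤ) ⊣
      (Rf A B).mapHomologicalComplex (ComplexShape.up ℤ) :=
  Groth.Agent.Helper6.AdjHC.adjHC (ModuleCat.extendRestrictScalarsAdj (algebraMap A B))
    (ComplexShape.up ℤ)

noncomputable instance : CatCommSq ((Ef A B).mapHomologicalComplex (ComplexShape.up ℤ))
    (DerivedCategory.Q (C := ModuleCat.{u} A)) (DerivedCategory.Q (C := ModuleCat.{u} B)) (ED A B) :=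
  ⟨(Ef A B).mapDerivedCategoryFactors.symm⟩

noncomputable instance : CatCommSq ((Rf A B).mapHomologicalComplex (ComplexShape.up ℤ))
    (DerivedCategory.Q (C := ModuleCat.{u} B)) (DerivedCategory.Q (C := ModuleCat.{u} A)) (RD A B) :=
  ⟨(Rf A B).mapDerivedCategoryFactors.symm⟩

/-- the derived adjunction -/
noncomputable def adjD : ED A B ⊣ RD A B :=
  (adjCx A B).localization DerivedCategory.Q
    (HomologicalComplex.quasiIso (ModuleCat.{u} A) (ComplexShape.up ℤ)) DerivedCategory.Q
    (HomologicalComplex.quasiIso (ModuleCat.{u} B) (ComplexShape.up ℤ)) (ED A B) (RD A B)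


open Groth.Agent.Helper3.DRingLib TensorProduct

/-- the composite functor `N ↦ B ⊗ N` on `A`-modules -/
noncomputable abbrev Tf : ModuleCat.{u} A ⥤ ModuleCat.{u} A := Ef A B ⋙ Rf A B

/-- the unit `N → B ⊗ N` -/
noncomputable abbrev uf : 𝟭 (ModuleCat.{u} A) ⟶ Tf A B :=
  (ModuleCat.extendRestrictScalarsAdj (algebraMap A B)).unit

variable {A B}

/-- `T N` is `B ⊗ N` as an `A`-module -/
noncomputable def TfEquiv (N : ModuleCat.{u} A) : (Tf A B).obj N ≃ₗ[A] B ⊗[A] N :=
  { toFun := fun x => extendScalarsEquiv (B := B) N x
    invFun := fun y => (extendScalarsEquiv (B := B) N).symm y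
    left_inv := fun x => (extendScalarsEquiv (B := B) N).symm_apply_apply x
    right_inv := fun y => (extendScalarsEquiv (B := B) N).apply_symm_apply y
    map_add' := fun x y => map_add (extendScalarsEquiv (B := B) N) x y
    map_smul' := fun a x => by
      have h1 : (a • x : (Tf A B).obj N) =
          (algebraMap A B a • (show (Ef A B).obj N from x) : (Ef A B).obj N) := rfl
      rw [h1]
      show extendScalarsEquiv (B := B) N (algebraMap A B a • (show (Ef A B).obj N from x)) = _
      rw [map_smul, algebraMap_smul]
      rfl }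

lemma TfEquiv_unit (N : ModuleCat.{u} A) (x : N) :
    TfEquiv (B := B) N (((uf A B).app N).hom x) = (1 : B) ⊗ₜ[A] x := rfl

end Groth.Agent.Helper6.FlatBC
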