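import Mathlib
import Groth.Prelude.Def_DRing4
import Groth.Agent.Helper3.DRingBC
import Groth.Agent.Helper6.FlatBC

/-!
# Morphisms out of finitely presented modules and localization (module level)
-/

set_option autoImplicit false
set_option linter.style.haveILetI false
set_option linter.unusedSectionVars false

universe u
open CategoryTheory CategoryTheory.Limits TensorProduct

namespace Groth.Agent.Helper6.LocExt
open Groth.Agent.Helper3.DRingLib Groth.Agent.Helper6.FlatBC

variable {A : Type u} [CommRing A] (S : Submonoid A) (B : Type u) [CommRing B] [Algebra A B]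
  [IsLocalization S B] [Module.Flat A B]

omit [IsLocalization S B] [Module.Flat A B] in
lemma Rf_map_smul {X Y : ModuleCat.{u} B} (a : A) (g : X ⟶ Y) :
    (Rf A B).map ((algebraMap A B a) • g) = a • (Rf A B).map g := by
  apply ModuleCat.hom_ext
  apply LinearMap.ext
  intro x
  rfl

omit [IsLocalization S B] [Module.Flat A B] in
lemma bcF_map_smul {M N : ModuleCat.{u} A} (a : A) (f : M ⟶ N) :
    (bcF A B).map (a • f) = (algebraMap A B a) • (bcF A B).map f := by
  let adj := ModuleCat.extendRestrictScalarsAdj (algebraMap A B)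
  apply (adj.homEquiv M _).injective
  rw [Adjunction.homEquiv_unit, Adjunction.homEquiv_unit, Rf_map_smul, Linear.comp_smul]
  have h1 := adj.unit.naturality (a • f)
  have h2 := adj.unit.naturality f
  exact h1.symm.trans ((Linear.smul_comp _ _ _ a f _).trans (congrArg (fun t => a • t) h2))

lemma isLocalizedModule_unit (N : ModuleCat.{u} A) :
    IsLocalizedModule S ((uf A B).app N).hom := by
  haveI h1 : IsLocalizedModule S (TensorProduct.mk A B N 1) :=
    (isLocalizedModule_iff_isBaseChange S B _).mpr (TensorProduct.isBaseChange A N B)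
  have h2 : ((uf A B).app N).hom =
      ((TfEquiv (B := B) N).symm : (B ⊗[A] N) →ₗ[A] _) ∘ₗ (TensorProduct.mk A B N 1) := by
    apply LinearMap.ext
    intro x
    apply (TfEquiv (B := B) N).injective
    rw [TfEquiv_unit]
    exact (LinearEquiv.apply_symm_apply (TfEquiv (B := B) N) _).symm
  rw [h2]
  exact IsLocalizedModule.of_linearEquiv S (TensorProduct.mk A B N 1) (TfEquiv (B := B) N).symm

theorem m_surj (M N : ModuleCat.{u} A) [Module.FinitePresentation A M]
    (ψ : (bcF A B).obj M ⟶ (bcF A B).obj N) :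
    ∃ s ∈ S, ∃ φ : M ⟶ N, (algebraMap A B s) • ψ = (bcF A B).map φ := by
  haveI := isLocalizedModule_unit S B N
  let adj := ModuleCat.extendRestrictScalarsAdj (algebraMap A B)
  let g : M ⟶ (Rf A B).obj ((bcF A B).obj N) := adj.homEquiv M _ ψ
  obtain ⟨h, s, hs⟩ := Module.FinitePresentation.exists_lift_of_isLocalizedModule S
    ((uf A B).app N).hom g.hom
  refine ⟨s.1, s.2, ModuleCat.ofHom h, ?_⟩
  apply (adj.homEquiv M _).injective
  have e1 : adj.homEquiv M _ ((algebraMap A B s.1) • ψ) = s.1 • g := by
    show adj.homEquiv M _ _ = s.1 • adj.homEquiv M _ ψ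
    rw [Adjunction.homEquiv_unit, Adjunction.homEquiv_unit, Rf_map_smul, Linear.comp_smul]
  have e2 : adj.homEquiv M _ ((bcF A B).map (ModuleCat.ofHom h)) =
      ModuleCat.ofHom h ≫ (uf A B).app N := by
    rw [Adjunction.homEquiv_unit]
    exact (adj.unit.naturality (ModuleCat.ofHom h)).symm
  have e3 : ModuleCat.ofHom h ≫ (uf A B).app N = s.1 • g := by
    apply ModuleCat.hom_ext
    rw [ModuleCat.hom_comp, ModuleCat.hom_ofHom, ModuleCat.hom_smul]
    exact hs.trans (Submonoid.smul_def s g.hom)
  exact e1.trans (e3.symm.trans e2.symm)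

theorem m_inj (M N : ModuleCat.{u} A) [Module.Finite A M] (φ : M ⟶ N)
    (h : (bcF A B).map φ = 0) : ∃ s ∈ S, s • φ = 0 := by
  haveI := isLocalizedModule_unit S B N
  have h1 : φ ≫ (uf A B).app N = 0 :=
    ((uf A B).naturality φ).trans (by rw [Functor.comp_map, h, Functor.map_zero, comp_zero])
  obtain ⟨s, hs⟩ := Module.Finite.exists_smul_of_comp_eq_of_isLocalizedModule S
    ((uf A B).app N).hom φ.hom 0 (by
      rw [LinearMap.comp_zero]
      exact congrArg ModuleCat.Hom.hom h1)
  refine ⟨s.1, s.2, ModuleCat.hom_ext ?_⟩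
  rw [ModuleCat.hom_smul, ModuleCat.hom_zero]
  exact (Submonoid.smul_def s φ.hom).symm.trans (hs.trans (smul_zero s))

end Groth.Agent.Helper6.LocExt
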