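import Mathlib
import Groth.Prelude.Def_DRing4
import Groth.Agent.Helper6.LocExt1

/-!
# Chain maps and homotopies out of bounded complexes of finitely presented modules localize
-/

set_option autoImplicit false
set_option linter.style.haveILetI false
set_option linter.unusedSectionVars false

universe u
open CategoryTheory CategoryTheory.Limits CochainComplex CochainComplex.HomComplex

namespace Groth.Agent.Helper6.LocExt
open Groth.Agent.Helper3.DRingLib

section general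

variable {R : Type*} [Ring R] {C : Type*} [Category C] [Preadditive C] [Linear R C]

lemma ofHom_smul {F G : CochainComplex C ℤ} (k : R) (f : F ⟶ G) :
    Cochain.ofHom (k • f) = k • Cochain.ofHom f := by
  ext p
  rw [Cochain.ofHom_v, Cochain.smul_v, Cochain.ofHom_v, HomologicalComplex.smul_f_apply]

end general

variable {A : Type u} [CommRing A] (S : Submonoid A) (B : Type u) [CommRing B] [Algebra A B]
  [IsLocalization S B] [Module.Flat A B] (U Y : DRing.Cx A)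

omit [IsLocalization S B] [Module.Flat A B] in
lemma cochain_map_smul {n : ℤ} (c : A) (z : Cochain U Y n) :
    (c • z).map (bcF A B) = (algebraMap A B c) • z.map (bcF A B) := by
  apply Cochain.ext
  intro p q hpq
  rw [Cochain.map_v, Cochain.smul_v, Cochain.smul_v, Cochain.map_v]
  exact bcF_map_smul B c (z.v p q hpq)

theorem k_inj (a b : ℤ) (hU : DRing.VanishesOutside U a b) (hfin : ∀ i, Module.Finite A (U.X i))
    {n : ℤ} (z : Cochain U Y n) (hz : z.map (bcF A B) = 0) : ∃ s ∈ S, s • z = 0 := by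
  have key : ∀ T : Triplet n, ∃ s : A, s ∈ S ∧ s • z T = 0 := fun T => by
    haveI := hfin T.p
    have h0 : (bcF A B).map (z T) = 0 := Cochain.congr_v hz T.p T.q T.hpq
    obtain ⟨s, hs, h⟩ := m_inj S B (U.X T.p) (Y.X T.q) (z T) h0
    exact ⟨s, hs, h⟩
  choose σ hσ hσz using key
  obtain ⟨s, hs⟩ : ∃ s : A, s = ∏ p ∈ Finset.Icc a b, σ ⟨p, p + n, rfl⟩ := ⟨_, rfl⟩
  refine ⟨s, hs ▸ Submonoid.prod_mem S (fun p _ => hσ _), ?_⟩
  apply Cochain.ext
  intro p q hpq
  subst hpq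
  rw [Cochain.smul_v, Cochain.zero_v]
  by_cases hp : p ∈ Finset.Icc a b
  · have h1 : s = (∏ p' ∈ (Finset.Icc a b).erase p, σ ⟨p', p' + n, rfl⟩) * σ ⟨p, p + n, rfl⟩ := by
      rw [hs]
      exact (Finset.prod_erase_mul _ _ hp).symm
    have h3 : σ ⟨p, p + n, rfl⟩ • z.v p (p + n) rfl = 0 := hσz ⟨p, p + n, rfl⟩
    rw [h1, mul_smul, h3, smul_zero]
  · have hz0 : IsZero (U.X p) := hU p (by rw [Finset.mem_Icc] at hp; omega)
    exact hz0.eq_of_src _ _

theorem k_surj (a b : ℤ) (hU : DRing.VanishesOutside U a b)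
    (hfp : ∀ i, Module.FinitePresentation A (U.X i)) {n : ℤ}
    (z' : Cochain ((bcCx A B).obj U) ((bcCx A B).obj Y) n) :
    ∃ s ∈ S, ∃ z : Cochain U Y n, (algebraMap A B s) • z' = z.map (bcF A B) := by
  have key : ∀ T : Triplet n, ∃ s : A, s ∈ S ∧ ∃ φ : U.X T.p ⟶ Y.X T.q,
      (algebraMap A B s) • z' T = (bcF A B).map φ := fun T => by
    haveI := hfp T.p
    obtain ⟨s, hs, φ, h⟩ := m_surj S B (U.X T.p) (Y.X T.q) (z' T)
    exact ⟨s, hs, φ, h⟩
  choose σ hσ φ hφ using key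
  obtain ⟨s, hs⟩ : ∃ s : A, s = ∏ p ∈ Finset.Icc a b, σ ⟨p, p + n, rfl⟩ := ⟨_, rfl⟩
  refine ⟨s, hs ▸ Submonoid.prod_mem S (fun p _ => hσ _),
    Cochain.mk (fun p q hpq =>
      (∏ p' ∈ (Finset.Icc a b).erase p, σ ⟨p', p' + n, rfl⟩) • φ ⟨p, q, hpq⟩), ?_⟩
  apply Cochain.ext
  intro p q hpq
  subst hpq
  by_cases hp : p ∈ Finset.Icc a b
  · have h1 : s = (∏ p' ∈ (Finset.Icc a b).erase p, σ ⟨p', p' + n, rfl⟩) * σ ⟨p, p + n, rfl⟩ := by
      rw [hs]
      exact (Finset.prod_erase_mul _ _ hp).symm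
    have h3 : (algebraMap A B (σ ⟨p, p + n, rfl⟩)) • z'.v p (p + n) rfl =
        (bcF A B).map (φ ⟨p, p + n, rfl⟩) := hφ ⟨p, p + n, rfl⟩
    have h4 : algebraMap A B s =
        algebraMap A B (∏ p' ∈ (Finset.Icc a b).erase p, σ ⟨p', p' + n, rfl⟩) *
          algebraMap A B (σ ⟨p, p + n, rfl⟩) := by
      rw [h1, map_mul]
    rw [Cochain.smul_v, Cochain.map_v, Cochain.mk_v, bcF_map_smul, ← h3]
    exact (congrArg (fun r : B => r • z'.v p (p + n) rfl) h4).trans (mul_smul _ _ _)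
  · have hz0 : IsZero (((bcCx A B).obj U).X p) :=
      bcCx_isZero_X B U p (hU p (by rw [Finset.mem_Icc] at hp; omega))
    exact hz0.eq_of_src _ _

theorem c_surj (a b : ℤ) (hU : DRing.VanishesOutside U a b)
    (hfp : ∀ i, Module.FinitePresentation A (U.X i))
    (ψ : (bcCx A B).obj U ⟶ (bcCx A B).obj Y) :
    ∃ s ∈ S, ∃ φ : U ⟶ Y, (algebraMap A B s) • ψ = (bcCx A B).map φ := by
  have hfin : ∀ i, Module.Finite A (U.X i) := fun i => by
    haveI := hfp i
    infer_instance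
  obtain ⟨s, hs, z, hz⟩ := k_surj S B U Y a b hU hfp (Cochain.ofHom ψ)
  have h1 : (δ 0 1 z).map (bcF A B) = 0 := by
    rw [← δ_map, ← hz, δ_smul, δ_ofHom, smul_zero]
  obtain ⟨t, ht, hzt⟩ := k_inj S B U Y a b hU hfin (δ 0 1 z) h1
  have h2 : δ 0 1 (t • z) = 0 := by
    rw [δ_smul]
    exact hzt
  let φ : U ⟶ Y := Cocycle.homOf (Cocycle.mk (t • z) 1 (zero_add 1) h2)
  refine ⟨t * s, S.mul_mem ht hs, φ, ?_⟩
  apply Cochain.ofHom_injective
  have h3 : Cochain.ofHom φ = t • z := Cocycle.cochain_ofHom_homOf_eq_coe _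
  rw [← Cochain.map_ofHom, h3, cochain_map_smul, ← hz, smul_smul, ← map_mul]
  exact ofHom_smul _ _

theorem c_inj (a b : ℤ) (hU : DRing.VanishesOutside U a b)
    (hfp : ∀ i, Module.FinitePresentation A (U.X i)) (φ : U ⟶ Y)
    (hh : Homotopy ((bcCx A B).map φ) 0) :
    ∃ s ∈ S, Nonempty (Homotopy (s • φ) 0) := by
  have hfin : ∀ i, Module.Finite A (U.X i) := fun i => by
    haveI := hfp i
    infer_instance
  obtain ⟨h', hh'⟩ := Cochain.equivHomotopy _ _ hh
  obtain ⟨s, hs, h, hh2⟩ := k_surj S B U Y a b hU hfp h'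
  have hw : (s • Cochain.ofHom φ - δ (-1) 0 h).map (bcF A B) = 0 := by
    rw [Cochain.map_sub, cochain_map_smul, Cochain.map_ofHom, ← δ_map, ← hh2, δ_smul, hh',
      Cochain.ofHom_zero, add_zero, sub_self]
  obtain ⟨t, ht, hwt⟩ := k_inj S B U Y a b hU hfin _ hw
  refine ⟨t * s, S.mul_mem ht hs, ⟨(Cochain.equivHomotopy _ _).symm ⟨t • h, ?_⟩⟩⟩
  rw [Cochain.ofHom_zero, add_zero, δ_smul, ofHom_smul, mul_smul]
  rw [smul_sub, sub_eq_zero] at hwt
  exact hwt

end Groth.Agent.Helper6.LocExt
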