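import Mathlib
import Groth.Prelude.Def_DRing4
import Groth.Agent.Helper6.LocExt2
import Groth.Agent.Helper6.KProjQ
import Groth.Agent.Helper3.DRing1
import Groth.Agent.Helper3.DRingPC
import Groth.Agent.Helper3.DRingApprox
import Groth.Agent.Helper3.DRingBC

/-!
# Morphisms in the derived category out of pseudo-coherent objects localize
-/

set_option autoImplicit false
set_option linter.style.haveILetI false
set_option linter.unusedSectionVars false

universe u
open CategoryTheory CategoryTheory.Limits Pretriangulated DerivedCategory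
attribute [local instance] HasDerivedCategory.standard

namespace Groth.Agent.Helper6.LocExt
open Groth.Agent.Helper3.DRingLib

variable {A : Type u} [CommRing A] (S : Submonoid A) (B : Type u) [CommRing B] [Algebra A B]
  [IsLocalization S B] [Module.Flat A B]

/-- every morphism between base changes is, up to a denominator, a base change -/
def LocSurj (X Y : Dual.D A) : Prop :=
  ∀ g : (bcD A B).obj X ⟶ (bcD A B).obj Y, ∃ s ∈ S, ∃ f : X ⟶ Y,
    (algebraMap A B s) • g = (bcD A B).map f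

/-- a morphism whose base change vanishes is killed by a denominator -/
def LocInj (X Y : Dual.D A) : Prop :=
  ∀ f : X ⟶ Y, (bcD A B).map f = 0 → ∃ s ∈ S, s • f = 0

lemma locSurj_of_iso {X X' Y Y' : Dual.D A} (eX : X ≅ X') (eY : Y ≅ Y')
    (h : LocSurj S B X Y) : LocSurj S B X' Y' := by
  intro g'
  obtain ⟨s, hs, f, hf⟩ := h (((bcD A B).mapIso eX).hom ≫ g' ≫ ((bcD A B).mapIso eY).inv)
  refine ⟨s, hs, eX.inv ≫ f ≫ eY.hom, ?_⟩
  have hg : g' = ((bcD A B).mapIso eX).inv ≫
      (((bcD A B).mapIso eX).hom ≫ g' ≫ ((bcD A B).mapIso eY).inv) ≫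
        ((bcD A B).mapIso eY).hom := by
    simp only [Category.assoc, Iso.inv_hom_id, Category.comp_id, Iso.inv_hom_id_assoc]
  calc (algebraMap A B s) • g'
      = (algebraMap A B s) • (((bcD A B).mapIso eX).inv ≫
          (((bcD A B).mapIso eX).hom ≫ g' ≫ ((bcD A B).mapIso eY).inv) ≫
            ((bcD A B).mapIso eY).hom) := congrArg (fun t => (algebraMap A B s) • t) hg
    _ = ((bcD A B).mapIso eX).inv ≫ ((algebraMap A B s) •
          (((bcD A B).mapIso eX).hom ≫ g' ≫ ((bcD A B).mapIso eY).inv)) ≫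
            ((bcD A B).mapIso eY).hom := by
        rw [Linear.smul_comp, Linear.comp_smul]
    _ = ((bcD A B).mapIso eX).inv ≫ (bcD A B).map f ≫ ((bcD A B).mapIso eY).hom := by rw [hf]
    _ = (bcD A B).map (eX.inv ≫ f ≫ eY.hom) := by
        rw [Functor.map_comp, Functor.map_comp]
        rfl

lemma locInj_of_iso {X X' Y Y' : Dual.D A} (eX : X ≅ X') (eY : Y ≅ Y')
    (h : LocInj S B X Y) : LocInj S B X' Y' := by
  intro f' hf'
  obtain ⟨s, hs, h0⟩ := h (eX.hom ≫ f' ≫ eY.inv) (by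
    rw [Functor.map_comp, Functor.map_comp, hf', zero_comp, comp_zero])
  refine ⟨s, hs, ?_⟩
  have h1 : f' = eX.inv ≫ (eX.hom ≫ f' ≫ eY.inv) ≫ eY.hom := by
    simp only [Category.assoc, Iso.inv_hom_id, Category.comp_id, Iso.inv_hom_id_assoc]
  calc s • f' = s • (eX.inv ≫ (eX.hom ≫ f' ≫ eY.inv) ≫ eY.hom) :=
        congrArg (fun t => s • t) h1
    _ = eX.inv ≫ (s • (eX.hom ≫ f' ≫ eY.inv)) ≫ eY.hom := by
        rw [Linear.smul_comp, Linear.comp_smul]
    _ = 0 := by rw [h0, zero_comp, comp_zero]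

section Strict

variable (U Y₀ : DRing.Cx A) (a b : ℤ) (hU : DRing.VanishesOutside U a b)
  (hff : DRing.TermwiseFiniteFree U)
include hU hff

lemma fp_of_ff : ∀ i, Module.FinitePresentation A (U.X i) := fun i => by
  haveI := (hff i).1
  haveI := (hff i).2
  exact Module.finitePresentation_of_projective A _

lemma kproj_of_ff : U.IsKProjective :=
  isKProjective_of_vanishesAbove U b (fun i hi => hU i (Or.inr hi)) (fun i => by
    haveI := (hff i).2
    infer_instance)

omit [IsLocalization S B] in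
lemma kproj_bc_of_ff : ((bcCx A B).obj U).IsKProjective :=
  isKProjective_of_vanishesAbove _ b
    (bcCx_vanishesAbove B U b (fun i hi => hU i (Or.inr hi)))
    (fun i => by
      haveI := (bcCx_termwiseFiniteFree B U hff i).2
      infer_instance)

theorem locSurj_toD : LocSurj S B (DRing.toD U) (DRing.toD Y₀) := by
  intro g
  have hfp := fp_of_ff U a b hU hff
  haveI := kproj_bc_of_ff B U a b hU hff
  obtain ⟨ψ, hψ⟩ := exists_Q_map_eq ((bcCx A B).obj U) ((bcCx A B).obj Y₀)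
    ((bcDToD B U).inv ≫ g ≫ (bcDToD B Y₀).hom)
  obtain ⟨s, hs, φ, hφ⟩ := c_surj S B U Y₀ a b hU hfp ψ
  refine ⟨s, hs, DerivedCategory.Q.map φ, ?_⟩
  have hnat : (bcD A B).map (DerivedCategory.Q.map φ) ≫ (bcDToD B Y₀).hom =
      (bcDToD B U).hom ≫ DerivedCategory.Q.map ((bcCx A B).map φ) :=
    (bcF A B).mapDerivedCategoryFactors_hom_naturality φ
  have hg : g = (bcDToD B U).hom ≫ DerivedCategory.Q.map ψ ≫ (bcDToD B Y₀).inv := by
    rw [hψ]
    simp only [Category.assoc, Iso.hom_inv_id, Category.comp_id, Iso.hom_inv_id_assoc]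
  have h1 : (bcD A B).map (DerivedCategory.Q.map φ) =
      (bcDToD B U).hom ≫ DerivedCategory.Q.map ((bcCx A B).map φ) ≫ (bcDToD B Y₀).inv := by
    rw [← Category.assoc, ← hnat, Category.assoc, Iso.hom_inv_id, Category.comp_id]
  rw [h1, ← hφ, Functor.map_smul, Linear.smul_comp, Linear.comp_smul]
  exact congrArg (fun t => (algebraMap A B s) • t) hg

theorem locInj_toD : LocInj S B (DRing.toD U) (DRing.toD Y₀) := by
  intro f hf
  have hfp := fp_of_ff U a b hU hff
  haveI := kproj_of_ff U a b hU hff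
  haveI := kproj_bc_of_ff B U a b hU hff
  obtain ⟨φ, rfl⟩ := exists_Q_map_eq U Y₀ f
  have hnat : (bcD A B).map (DerivedCategory.Q.map φ) ≫ (bcDToD B Y₀).hom =
      (bcDToD B U).hom ≫ DerivedCategory.Q.map ((bcCx A B).map φ) :=
    (bcF A B).mapDerivedCategoryFactors_hom_naturality φ
  have h1 : DerivedCategory.Q.map ((bcCx A B).map φ) =
      DerivedCategory.Q.map (0 : (bcCx A B).obj U ⟶ (bcCx A B).obj Y₀) := by
    rw [Functor.map_zero]
    have h2 : (bcDToD B U).hom ≫ DerivedCategory.Q.map ((bcCx A B).map φ) = 0 := by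
      rw [← hnat, hf, zero_comp]
    exact (cancel_epi (bcDToD B U).hom).mp (h2.trans comp_zero.symm)
  obtain ⟨hh⟩ := Groth.Agent.Helper6.KProjQ.homotopy_of_Q_map_eq _ _ h1
  obtain ⟨s, hs, ⟨hh2⟩⟩ := c_inj S B U Y₀ a b hU hfp φ hh
  refine ⟨s, hs, ?_⟩
  rw [← Functor.map_smul, Groth.Agent.Helper6.KProjQ.Q_map_eq_of_homotopy hh2, Functor.map_zero]

end Strict

section Linear

omit [IsLocalization S B] in
lemma bcCx_map_smul_id (X₀ : DRing.Cx A) (a : A) :
    (bcCx A B).map (a • 𝟙 X₀) = (algebraMap A B a) • 𝟙 ((bcCx A B).obj X₀) := by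
  apply HomologicalComplex.hom_ext
  intro i
  rw [HomologicalComplex.smul_f_apply, HomologicalComplex.id_f]
  show (bcF A B).map ((a • 𝟙 X₀).f i) = _
  rw [HomologicalComplex.smul_f_apply, HomologicalComplex.id_f, bcF_map_smul,
    CategoryTheory.Functor.map_id]
  rfl

omit [IsLocalization S B] in
lemma bcD_map_smul_id (X : Dual.D A) (a : A) :
    (bcD A B).map (a • 𝟙 X) = (algebraMap A B a) • 𝟙 ((bcD A B).obj X) := by
  let X₀ := DerivedCategory.Q.objPreimage X
  let e : DerivedCategory.Q.obj X₀ ≅ X := DerivedCategory.Q.objObjPreimageIso X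
  have h1 : a • 𝟙 X = e.inv ≫ DerivedCategory.Q.map (a • 𝟙 X₀) ≫ e.hom := by
    rw [Functor.map_smul, CategoryTheory.Functor.map_id, Linear.smul_comp, Linear.comp_smul,
      Category.id_comp, e.inv_hom_id]
  have hnat : (bcD A B).map (DerivedCategory.Q.map (a • 𝟙 X₀)) ≫ (bcDToD B X₀).hom =
      (bcDToD B X₀).hom ≫ DerivedCategory.Q.map ((bcCx A B).map (a • 𝟙 X₀)) :=
    (bcF A B).mapDerivedCategoryFactors_hom_naturality (a • 𝟙 X₀)
  have h2 : (bcD A B).map (DerivedCategory.Q.map (a • 𝟙 X₀)) =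
      (algebraMap A B a) • 𝟙 ((bcD A B).obj (DerivedCategory.Q.obj X₀)) := by
    have h3 : (bcD A B).map (DerivedCategory.Q.map (a • 𝟙 X₀)) =
        (bcDToD B X₀).hom ≫ DerivedCategory.Q.map ((bcCx A B).map (a • 𝟙 X₀)) ≫
          (bcDToD B X₀).inv := by
      rw [← Category.assoc, ← hnat, Category.assoc, Iso.hom_inv_id, Category.comp_id]
    rw [h3, bcCx_map_smul_id, Functor.map_smul, CategoryTheory.Functor.map_id, Linear.smul_comp,
      Linear.comp_smul, Category.id_comp, Iso.hom_inv_id]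
  rw [h1, Functor.map_comp, Functor.map_comp, h2, Linear.smul_comp, Linear.comp_smul,
    Category.id_comp, ← Functor.map_comp, e.inv_hom_id, CategoryTheory.Functor.map_id]

omit [IsLocalization S B] in
lemma bcD_map_smul {X Y : Dual.D A} (a : A) (f : X ⟶ Y) :
    (bcD A B).map (a • f) = (algebraMap A B a) • (bcD A B).map f := by
  have h1 : a • f = (a • 𝟙 X) ≫ f := by rw [Linear.smul_comp, Category.id_comp]
  rw [h1, Functor.map_comp, bcD_map_smul_id, Linear.smul_comp, Category.id_comp]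

end Linear

omit [IsLocalization S B] in
lemma bcD_isGE (X : Dual.D A) (n : ℤ) [X.IsGE n] : ((bcD A B).obj X).IsGE n := by
  obtain ⟨K', hK', ⟨e⟩⟩ := X.exists_iso_Q_obj_of_isGE n
  have h1 : ((bcCx A B).obj K').IsStrictlyGE n := by
    rw [CochainComplex.isStrictlyGE_iff]
    intro i hi
    exact bcCx_isZero_X B K' i (K'.isZero_of_isStrictlyGE n i hi)
  have h2 : (DRing.toD ((bcCx A B).obj K')).IsGE n := inferInstance
  exact TStructure.t.isGE_of_iso (((bcD A B).mapIso e) ≪≫ bcDToD B K').symm n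

theorem precomp_bijective {R : Type u} [CommRing R] {X₀ X Y : Dual.D R} (α : X₀ ⟶ X) (a : ℤ)
    (hα : IsApprox (a - 1) α) [Y.IsGE a] : Function.Bijective (fun f : X ⟶ Y => α ≫ f) := by
  obtain ⟨C, β, γ, hT⟩ := distinguished_cocone_triangle α
  have hC : C.IsLE (a - 1 - 1) := (isApprox_iff_isLE _ hT (a - 1)).mp hα
  constructor
  · intro f₁ f₂ h
    have h0 : α ≫ (f₁ - f₂) = 0 := by
      rw [Preadditive.comp_sub]
      exact sub_eq_zero.mpr h
    obtain ⟨f', hf'⟩ := Triangle.yoneda_exact₂ _ hT (f₁ - f₂) h0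
    have h1 : f' = 0 :=
      TStructure.t.zero_of_isLE_of_isGE f' (a - 1 - 1) a (by omega) hC inferInstance
    rw [h1, comp_zero] at hf'
    exact sub_eq_zero.mp hf'
  · intro f₀
    have hT' := inv_rot_of_distTriang _ hT
    haveI := hC
    have hC' : (C⟦(-1 : ℤ)⟧).IsLE (a - 1) :=
      TStructure.t.isLE_shift C (a - 1 - 1) (-1) (a - 1) (by omega)
    have h0 : (Triangle.mk α β γ).invRotate.mor₁ ≫ f₀ = 0 :=
      TStructure.t.zero_of_isLE_of_isGE _ (a - 1) a (by omega) hC' inferInstance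
    obtain ⟨g, hg⟩ := Triangle.yoneda_exact₂ _ hT' f₀ h0
    exact ⟨g, hg.symm⟩

section PC

variable (X Y : Dual.D A) (hX : ∀ m : ℤ, DRing.IsPseudoCoherent A m X)
include hX

theorem locSurj_of_pc (a : ℤ) [Y.IsGE a] : LocSurj S B X Y := by
  obtain ⟨X₀, a₀, b₀, α, hbff, hα⟩ := (isPseudoCoherent_iff (a - 1) X).mp (hX (a - 1))
  obtain ⟨U, hU, hff, ⟨e⟩⟩ := hbff
  have hs0 : LocSurj S B X₀ Y := locSurj_of_iso S B e (DerivedCategory.Q.objObjPreimageIso Y)
    (locSurj_toD S B U (DerivedCategory.Q.objPreimage Y) a₀ b₀ hU hff)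
  have hα' : IsApprox (a - 1) ((bcD A B).map α) := bcD_isApprox B α hα
  haveI : ((bcD A B).obj Y).IsGE a := bcD_isGE B Y a
  have hbij := precomp_bijective ((bcD A B).map α) a hα' (Y := (bcD A B).obj Y)
  have hbijA := precomp_bijective α a hα (Y := Y)
  intro g
  obtain ⟨s, hs, f₀, hf₀⟩ := hs0 ((bcD A B).map α ≫ g)
  obtain ⟨f, hf⟩ := hbijA.2 f₀
  refine ⟨s, hs, f, ?_⟩
  apply hbij.1
  show (bcD A B).map α ≫ ((algebraMap A B s) • g) = (bcD A B).map α ≫ (bcD A B).map f
  rw [Linear.comp_smul, hf₀, ← Functor.map_comp]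
  exact congrArg (fun t => (bcD A B).map t) hf.symm

theorem locInj_of_pc (a : ℤ) [Y.IsGE a] : LocInj S B X Y := by
  obtain ⟨X₀, a₀, b₀, α, hbff, hα⟩ := (isPseudoCoherent_iff (a - 1) X).mp (hX (a - 1))
  obtain ⟨U, hU, hff, ⟨e⟩⟩ := hbff
  have hi0 : LocInj S B X₀ Y := locInj_of_iso S B e (DerivedCategory.Q.objObjPreimageIso Y)
    (locInj_toD S B U (DerivedCategory.Q.objPreimage Y) a₀ b₀ hU hff)
  have hbijA := precomp_bijective α a hα (Y := Y)
  intro f hf
  obtain ⟨s, hs, h0⟩ := hi0 (α ≫ f) (by rw [Functor.map_comp, hf, comp_zero])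
  refine ⟨s, hs, ?_⟩
  apply hbijA.1
  show α ≫ (s • f) = α ≫ 0
  rw [Linear.comp_smul, h0, comp_zero]

end PC

end Groth.Agent.Helper6.LocExt
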