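import Mathlib
import Groth.Prelude.Def_Wider
import Groth.Prelude.Def_DRing4
import Groth.Agent.Helper6.LocExt3
import Groth.Agent.Helper6.DFinExt
import Groth.Agent.Helper6.CohPC
import Groth.Agent.Helper3.DRingInjAmp
import Groth.Agent.Helper3.DRingBC3
import Groth.Agent.Helper3.DRingPC3

/-!
# Dualizing complexes localize
-/

set_option autoImplicit false
set_option linter.style.haveILetI false
set_option linter.unusedSectionVars false

universe u
open CategoryTheory CategoryTheory.Limits Pretriangulated DerivedCategory TensorProduct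
attribute [local instance] HasDerivedCategory.standard

namespace Groth.Agent.Helper6.LocExt
open Groth.Agent.Helper3.DRingLib

section General

variable {A : Type u} [CommRing A]

lemma isDualizing_of_iso {K K' : Dual.D A} (e : K ≅ K') (h : Dual.IsDualizing A K) :
    Dual.IsDualizing A K' := by
  obtain ⟨hN, ⟨a, b, hab⟩, hfin, hbij, hext⟩ := h
  refine ⟨hN, ⟨a, b, ?_⟩, ?_, ?_, ?_⟩
  · intro M _ _ i hi
    haveI := hab M i hi
    exact (Iso.homCongr (Iso.refl (Dual.inD A M))
      ((shiftFunctor (Dual.D A) i).mapIso e)).symm.subsingleton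
  · intro i
    haveI := hfin i
    exact Module.Finite.equiv
      ((DerivedCategory.homologyFunctor (ModuleCat.{u} A) i).mapIso e).toLinearEquiv
  · have h1 : (fun x : A => x • 𝟙 K') = (Iso.homCongr e e) ∘ (fun x : A => x • 𝟙 K) := by
      funext x
      show x • 𝟙 K' = e.inv ≫ (x • 𝟙 K) ≫ e.hom
      rw [Linear.smul_comp, Linear.comp_smul, Category.id_comp, e.inv_hom_id]
    rw [h1]
    exact (Iso.homCongr e e).bijective.comp hbij
  · intro i hi
    haveI := hext i hi
    exact (Iso.homCongr e ((shiftFunctor (Dual.D A) i).mapIso e)).symm.subsingleton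

lemma subsingleton_hom_of_rep (E : DRing.Cx A) (a b : ℤ) (hv : DRing.VanishesOutside E a b)
    (hinj : DRing.TermwiseInjective E) {K : Dual.D A} (e : DRing.toD E ≅ K)
    (M : Type u) [AddCommGroup M] [Module A M] (i : ℤ) (hi : i < a ∨ b < i) :
    Subsingleton (Dual.inD A M ⟶ K⟦i⟧) := by
  have h0 : ∀ f : Dual.inD A M ⟶ (DRing.toD E)⟦i⟧, f = 0 := by
    intro f
    rcases hi with hi | hi
    · exact Groth.Agent.Helper6.DFinExt.vanish_low E a b hv hinj (Dual.inD A M) 0 i (by omega) f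
    · exact Groth.Agent.Helper6.DFinExt.vanish_high E a b hv hinj (Dual.inD A M) 0 i (by omega) f
  have hf : ∀ f : Dual.inD A M ⟶ K⟦i⟧, f = 0 := by
    intro f
    have h1 := h0 (f ≫ ((shiftFunctor (Dual.D A) i).mapIso e).inv)
    calc f = (f ≫ ((shiftFunctor (Dual.D A) i).mapIso e).inv) ≫
          ((shiftFunctor (Dual.D A) i).mapIso e).hom := by
          rw [Category.assoc, Iso.inv_hom_id, Category.comp_id]
      _ = 0 := by rw [h1, zero_comp]
  exact ⟨fun f g => by rw [hf f, hf g]⟩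

lemma subsingleton_HD_of_rep (E : DRing.Cx A) (a b : ℤ) (hv : DRing.VanishesOutside E a b)
    {K : Dual.D A} (e : DRing.toD E ≅ K) (i : ℤ) (hi : i < a ∨ b < i) :
    Subsingleton (Dual.HD A K i) := by
  haveI := Groth.Agent.Helper6.DFinExt.subsingleton_HD_toD E i (hv i hi)
  exact ((DerivedCategory.homologyFunctor (ModuleCat.{u} A)
    i).mapIso e).toLinearEquiv.symm.toEquiv.subsingleton

/-- a bounded injective representative from Ext-vanishing against all modules -/
lemma exists_rep_of_hinj (K : Dual.D A) (a b : ℤ)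
    (hab : ∀ (M : Type u) [AddCommGroup M] [Module A M] (i : ℤ), (i < a ∨ b < i) →
      Subsingleton (Dual.inD A M ⟶ K⟦i⟧)) :
    ∃ E : DRing.Cx A, DRing.VanishesOutside E a b ∧ DRing.TermwiseInjective E ∧
      Nonempty (DRing.toD E ≅ K) :=
  exists_injective_rep_of_ext K a b (fun J i hi f => by
    haveI := hab (A ⧸ J) i hi
    exact Subsingleton.elim _ _)

lemma bounds_of_hinj (K : Dual.D A) (a b : ℤ)
    (hab : ∀ (M : Type u) [AddCommGroup M] [Module A M] (i : ℤ), (i < a ∨ b < i) →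
      Subsingleton (Dual.inD A M ⟶ K⟦i⟧)) : K.IsGE a ∧ K.IsLE b := by
  obtain ⟨E, hv, _, ⟨e⟩⟩ := exists_rep_of_hinj K a b hab
  exact ⟨isGE_of_HD K a (fun i hi => subsingleton_HD_of_rep E a b hv e i (Or.inl hi)),
    isLE_of_HD K b (fun i hi => subsingleton_HD_of_rep E a b hv e i (Or.inr hi))⟩

variable [IsNoetherianRing A]

lemma hR_noeth : ∀ I : Ideal A, I.FG → Module.FinitePresentation A I :=
  fun I _ => Module.finitePresentation_of_finite A I

lemma pc_of_finite (K : Dual.D A) (b : ℤ) [K.IsLE b]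
    (hfin : ∀ i, Module.Finite A (Dual.HD A K i)) :
    ∀ m : ℤ, DRing.IsPseudoCoherent A m K := by
  have h1 : DRing.IsPseudoCoherent' A K :=
    (Groth.Agent.Helper6.CohPC.main hR_noeth K
      ⟨b, fun i hi => subsingleton_HD_of_isLE K b i hi⟩ 0).2.2
      (fun i => by haveI := hfin i; exact Module.finitePresentation_of_finite A _)
  exact (isPseudoCoherent'_iff_forall K).mp h1

lemma pc_inD (M : Type u) [AddCommGroup M] [Module A M] [Module.Finite A M] (m : ℤ) :
    DRing.IsPseudoCoherent A m (Dual.inD A M) := by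
  haveI := Module.finitePresentation_of_finite A M
  exact Groth.Agent.Helper6.CohPC.isPseudoCoherent_inD_of_fp' hR_noeth M m

end General

section Loc

variable {A : Type u} [CommRing A] (S : Submonoid A) (B : Type u) [CommRing B] [Algebra A B]
  [IsLocalization S B] [Module.Flat A B]

/-- `B ⊗ A/J₀ ≅ B/J` for `J₀` the contraction of `J` -/
noncomputable def quotEquiv (J : Ideal B) :
    B ⊗[A] (A ⧸ J.under A) ≃ₗ[B] B ⧸ J :=
  (Ideal.qoutMapEquivTensorQout B (I := J.under A)).symm ≪≫ₗ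
    Submodule.quotEquivOfEq _ _ (IsLocalization.map_under S B J)

noncomputable def inDQuotIso (J : Ideal B) :
    (bcD A B).obj (Dual.inD A (A ⧸ J.under A)) ≅ Dual.inD B (B ⧸ J) :=
  bcDInD B (A ⧸ J.under A) ≪≫
    (DerivedCategory.singleFunctor (ModuleCat.{u} B) 0).mapIso (quotEquiv S B J).toModuleIso

omit [Module.Flat A B] in
lemma eq_zero_of_smul_eq_zero {X Y : Dual.D B} (s : A) (hs : s ∈ S) (g : X ⟶ Y)
    (h : (algebraMap A B s) • g = 0) : g = 0 :=
  (IsUnit.smul_eq_zero (IsLocalization.map_units B ⟨s, hs⟩)).mp h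

lemma eq_zero_of_locSurj {X Y : Dual.D A} (h : LocSurj S B X Y) (h0 : ∀ f : X ⟶ Y, f = 0)
    (g : (bcD A B).obj X ⟶ (bcD A B).obj Y) : g = 0 := by
  obtain ⟨s, hs, f, hf⟩ := h g
  rw [h0 f, Functor.map_zero] at hf
  exact eq_zero_of_smul_eq_zero S B s hs g hf

include S in
theorem isDualizing_bcD [IsNoetherianRing A] (ω : Dual.D A) (hω : Dual.IsDualizing A ω) :
    Dual.IsDualizing B ((bcD A B).obj ω) := by
  have hN : IsNoetherianRing B := IsLocalization.isNoetherianRing S B inferInstance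
  obtain ⟨a, b, hab⟩ := hω.finite_injective_dimension
  obtain ⟨hGE, hLE⟩ := bounds_of_hinj ω a b hab
  haveI := hGE
  haveI := hLE
  have hpc : ∀ m : ℤ, DRing.IsPseudoCoherent A m ω := pc_of_finite ω b hω.finite_cohomology
  have hsh : ∀ i : ℤ, (ω⟦i⟧).IsGE (a - i) :=
    fun i => TStructure.t.isGE_shift ω a i (a - i) (by omega)
  refine ⟨hN, ⟨a, b, ?_⟩, ?_, ⟨?_, ?_⟩, ?_⟩
  · -- finite injective dimension
    have h' : ∀ (J : Ideal B) (i : ℤ), (i < a ∨ b < i) →
        ∀ e : (singleFunctor (ModuleCat.{u} B) 0).obj (ModuleCat.of B (B ⧸ J)) ⟶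
          ((bcD A B).obj ω)⟦i⟧, e = 0 := by
      intro J i hi e
      haveI := hsh i
      have hs := locSurj_of_pc S B (Dual.inD A (A ⧸ J.under A)) (ω⟦i⟧)
        (fun m => pc_inD _ m) (a - i)
      haveI := hab (A ⧸ J.under A) i hi
      have h0 := eq_zero_of_locSurj S B hs (fun f => Subsingleton.elim _ _)
        ((inDQuotIso S B J).hom ≫ e ≫ (((bcD A B).commShiftIso i).app ω).inv)
      have h1 : e = (inDQuotIso S B J).inv ≫ ((inDQuotIso S B J).hom ≫ e ≫
          (((bcD A B).commShiftIso i).app ω).inv) ≫ (((bcD A B).commShiftIso i).app ω).hom := by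
        simp only [Category.assoc, Iso.inv_hom_id, Category.comp_id, Iso.inv_hom_id_assoc]
      rw [h1, h0, zero_comp, comp_zero]
    obtain ⟨E', hv', hinj', ⟨e'⟩⟩ := exists_injective_rep_of_ext ((bcD A B).obj ω) a b h'
    intro M _ _ i hi
    exact subsingleton_hom_of_rep E' a b hv' hinj' e' M i hi
  · intro i
    obtain ⟨e⟩ := nonempty_HD_bcD_equiv B ω i
    haveI := hω.finite_cohomology i
    haveI : Module.Finite B (B ⊗[A] (Dual.HD A ω i)) := Module.Finite.base_change A B _
    exact Module.Finite.equiv e.symm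
  · -- injectivity
    intro z₁ z₂ h12
    have hz : (z₁ - z₂) • 𝟙 ((bcD A B).obj ω) = 0 := by
      rw [sub_smul]; exact sub_eq_zero.mpr h12
    obtain ⟨⟨x, s⟩, hxs⟩ := IsLocalization.surj S (z₁ - z₂)
    have hxs' : (z₁ - z₂) * algebraMap A B s = algebraMap A B x := hxs
    have h1 : (bcD A B).map (x • 𝟙 ω) = 0 := by
      rw [bcD_map_smul_id, ← hxs', mul_comm, mul_smul, hz, smul_zero]
    obtain ⟨t, ht, h2⟩ := locInj_of_pc S B ω ω hpc a (x • 𝟙 ω) h1
    have h3 : t * x = 0 := by
      apply hω.toEnd_bijective.1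
      show (t * x) • 𝟙 ω = (0 : A) • 𝟙 ω
      rw [mul_smul, h2, zero_smul]
    have h4 : algebraMap A B x = 0 := (IsLocalization.map_eq_zero_iff S B x).mpr ⟨⟨t, ht⟩, h3⟩
    rw [h4] at hxs'
    have h5 : z₁ - z₂ = 0 := (IsUnit.mul_left_eq_zero (IsLocalization.map_units B s)).mp hxs'
    exact sub_eq_zero.mp h5
  · -- surjectivity
    intro g
    obtain ⟨s, hs, f, hf⟩ := locSurj_of_pc S B ω ω hpc a g
    obtain ⟨x, hx⟩ := hω.toEnd_bijective.2 f
    have hx' : x • 𝟙 ω = f := hx
    refine ⟨IsLocalization.mk' B x ⟨s, hs⟩, ?_⟩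
    show IsLocalization.mk' B x ⟨s, hs⟩ • 𝟙 _ = g
    apply (IsUnit.smul_left_cancel (IsLocalization.map_units B ⟨s, hs⟩)).mp
    show algebraMap A B s • (IsLocalization.mk' B x ⟨s, hs⟩ • 𝟙 _) = algebraMap A B s • g
    rw [hf, ← hx', bcD_map_smul_id, ← mul_smul, IsLocalization.mk'_spec'_mk]
  · intro i hi
    haveI := hsh i
    have hs := locSurj_of_pc S B ω (ω⟦i⟧) hpc (a - i)
    haveI := hω.ext_self_subsingleton i hi
    have hz : ∀ g : (bcD A B).obj ω ⟶ ((bcD A B).obj ω)⟦i⟧, g = 0 := by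
      intro g
      have h0 := eq_zero_of_locSurj S B hs (fun f => Subsingleton.elim _ _)
        (g ≫ (((bcD A B).commShiftIso i).app ω).inv)
      have h1 : g = (g ≫ (((bcD A B).commShiftIso i).app ω).inv) ≫
          (((bcD A B).commShiftIso i).app ω).hom := by
        simp only [Category.assoc, Iso.inv_hom_id, Category.comp_id]
      rw [h1, h0, zero_comp]
    exact ⟨fun g₁ g₂ => by rw [hz g₁, hz g₂]⟩

end Loc

end Groth.Agent.Helper6.LocExt
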