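import Mathlib
import Groth.Prelude.Def_DRing4
import Groth.Agent.Helper6.BiD7
import Groth.Agent.Helper6.DFinExt
import Groth.Agent.Helper6.LocExt4
import Groth.Agent.Helper3.DRingPeel2
import Groth.Agent.Helper3.DRingRestr2
import Groth.Agent.Helper3.DRingDev
import Groth.Agent.Helper3.DRingApprox

/-!
# Biduality for a dualizing complex: the way-out argument
-/

set_option autoImplicit false
set_option linter.style.haveILetI false
set_option linter.unusedSectionVars false

universe u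
open CategoryTheory CategoryTheory.Limits CochainComplex CochainComplex.HomComplex
  Pretriangulated DerivedCategory
attribute [local instance] HasDerivedCategory.standard

namespace Groth.Agent.Helper6.BiD
open Groth.Agent.Helper3.DRingLib Groth.Agent.Helper6.LocExt

lemma injective_X {A : Type u} [CommRing A] (I : DRing.Cx A) (hinj : DRing.TermwiseInjective I)
    (q : ℤ) : Injective (I.X q) := by
  haveI := hinj q
  exact Module.injective_object_of_injective_module A (I.X q)

lemma isIso_of_isZero_homology {A : Type u} [CommRing A] {E E' : DRing.Cx A} (f : E ⟶ E') (j : ℤ)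
    (hs : IsZero (E.homology j)) (ht : IsZero (E'.homology j)) :
    IsIso (HomologicalComplex.homologyMap f j) :=
  ⟨⟨0, hs.eq_of_src _ _, ht.eq_of_src _ _⟩⟩

variable {A : Type u} [CommRing A] (I : DRing.Cx A) (a b : ℤ)
  (hv : DRing.VanishesOutside I a b) (hinj : DRing.TermwiseInjective I) [I.IsKInjective]

section WayOut
include hv hinj

lemma isGE_D_of_isLE (X₀ : DRing.Cx A) (c : ℤ) [(DRing.toD X₀).IsLE c] :
    (DRing.toD (DRing.homCx X₀ I)).IsGE (a - c) := by
  apply isGE_of_HD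
  intro i hi
  haveI : Subsingleton (DRing.toD X₀ ⟶ (DRing.toD I)⟦i⟧) := ⟨fun f g => by
    rw [Groth.Agent.Helper6.DFinExt.vanish_low I a b hv hinj (DRing.toD X₀) c i (by omega) f,
      Groth.Agent.Helper6.DFinExt.vanish_low I a b hv hinj (DRing.toD X₀) c i (by omega) g]⟩
  exact (Psi' X₀ I i).toEquiv.subsingleton

lemma isLE_D_of_isGE (X₀ : DRing.Cx A) (c : ℤ) [(DRing.toD X₀).IsGE c] :
    (DRing.toD (DRing.homCx X₀ I)).IsLE (b - c) := by
  apply isLE_of_HD
  intro i hi
  haveI : Subsingleton (DRing.toD X₀ ⟶ (DRing.toD I)⟦i⟧) := ⟨fun f g => by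
    rw [Groth.Agent.Helper6.DFinExt.vanish_high I a b hv hinj (DRing.toD X₀) c i (by omega) f,
      Groth.Agent.Helper6.DFinExt.vanish_high I a b hv hinj (DRing.toD X₀) c i (by omega) g]⟩
  exact (Psi' X₀ I i).toEquiv.subsingleton

lemma etaIso_of_isLE (W : Dual.D A) (c : ℤ) [W.IsLE c] (j : ℤ) (hj1 : c < j)
    (hj2 : c + (b - a) < j) : EtaIso I W j := by
  intro W₀ ⟨e⟩
  haveI : (DRing.toD W₀).IsLE c := TStructure.t.isLE_of_iso e.symm c
  haveI := isGE_D_of_isLE I a b hv hinj W₀ c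
  have hs : IsZero (W₀.homology j) :=
    ((DRing.toD W₀).isZero_of_isLE c j hj1).of_iso (homologyToDIso W₀ j).symm
  have ht : IsZero ((DRing.homCx (DRing.homCx W₀ I) I).homology j) := by
    haveI : Subsingleton (DRing.toD (DRing.homCx W₀ I) ⟶ (DRing.toD I)⟦j⟧) := ⟨fun f g => by
      rw [Groth.Agent.Helper6.DFinExt.vanish_high I a b hv hinj _ (a - c) j (by omega) f,
        Groth.Agent.Helper6.DFinExt.vanish_high I a b hv hinj _ (a - c) j (by omega) g]⟩
    haveI : Subsingleton (Dual.HD A (DRing.toD (DRing.homCx (DRing.homCx W₀ I) I)) j) :=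
      (Psi' (DRing.homCx W₀ I) I j).toEquiv.subsingleton
    exact (ModuleCat.isZero_of_subsingleton _).of_iso (homologyToDIso _ j).symm
  exact isIso_of_isZero_homology _ j hs ht

lemma etaIso_of_isGE (W : Dual.D A) (c : ℤ) [W.IsGE c] (j : ℤ) (hj1 : j < c)
    (hj2 : j + (b - a) < c) : EtaIso I W j := by
  intro W₀ ⟨e⟩
  haveI : (DRing.toD W₀).IsGE c := TStructure.t.isGE_of_iso e.symm c
  haveI := isLE_D_of_isGE I a b hv hinj W₀ c
  have hs : IsZero (W₀.homology j) :=
    ((DRing.toD W₀).isZero_of_isGE c j hj1).of_iso (homologyToDIso W₀ j).symm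
  have ht : IsZero ((DRing.homCx (DRing.homCx W₀ I) I).homology j) := by
    haveI : Subsingleton (DRing.toD (DRing.homCx W₀ I) ⟶ (DRing.toD I)⟦j⟧) := ⟨fun f g => by
      rw [Groth.Agent.Helper6.DFinExt.vanish_low I a b hv hinj _ (b - c) j (by omega) f,
        Groth.Agent.Helper6.DFinExt.vanish_low I a b hv hinj _ (b - c) j (by omega) g]⟩
    haveI : Subsingleton (Dual.HD A (DRing.toD (DRing.homCx (DRing.homCx W₀ I) I)) j) :=
      (Psi' (DRing.homCx W₀ I) I j).toEquiv.subsingleton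
    exact (ModuleCat.isZero_of_subsingleton _).of_iso (homologyToDIso _ j).symm
  exact isIso_of_isZero_homology _ j hs ht

lemma etaAll_of_isZero (K : Dual.D A) (hK : IsZero K) : EtaAll I K := by
  intro k j
  have hz : IsZero (K⟦k⟧) := Functor.map_isZero _ hK
  haveI : (K⟦k⟧).IsLE (j - 1 - |b - a|) := TStructure.t.isLE_of_isZero hz _
  have h1 := abs_nonneg (b - a)
  have h2 := le_abs_self (b - a)
  exact etaIso_of_isLE I a b hv hinj (K⟦k⟧) (j - 1 - |b - a|) j (by omega) (by omega)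

end WayOut

lemma etaIso_of_etaAll {X : Dual.D A} (h : EtaAll I X) (j : ℤ) : EtaIso I X j :=
  etaIso_of_iso I ((CategoryTheory.shiftFunctorZero (Dual.D A) ℤ).app X) j (h 0 j)

variable (hend : Function.Bijective (fun x : A => x • 𝟙 (DRing.toD I)))
  (hext : ∀ i : ℤ, i ≠ 0 → Subsingleton (DRing.toD I ⟶ (DRing.toD I)⟦i⟧))
include hv hinj hend hext

theorem etaAll_of_isBFF {a₀ b₀ : ℤ} {X : Dual.D A} (h : IsBFF a₀ b₀ X) : EtaAll I X := by
  obtain ⟨E, hvE, hff, ⟨e⟩⟩ := h
  refine etaAll_of_iso I e ?_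
  have hI := injective_X I hinj
  refine induction_on_bounded' (EtaAll I) (fun e h => etaAll_of_iso I e h)
    (fun K hK => etaAll_of_isZero I a b hv hinj K hK)
    (fun T hT h1 h3 => etaAll_ext I hI T hT h1 h3) E a₀ b₀ hvE (fun i => ?_)
  obtain ⟨h1, h2⟩ := hff i
  have h0 : EtaAll I ((DerivedCategory.singleFunctor (ModuleCat.{u} A) 0).obj (E.X i)) :=
    finite_free_induction (fun M => EtaAll I ((DerivedCategory.singleFunctor (ModuleCat.{u} A) 0).obj M))
      (fun e h => etaAll_of_iso I ((DerivedCategory.singleFunctor (ModuleCat.{u} A) 0).mapIso e) h)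
      (fun M hM => etaAll_of_isZero I a b hv hinj _ (Functor.map_isZero _ hM))
      (fun S hS h1 h3 => etaAll_ext I hI _ hS.singleTriangle_distinguished h1 h3)
      (etaAll_single I hend hext) (E.X i)
  exact etaAll_of_iso I (singleShiftIso (E.X i) i) (etaAll_shift I _ (-i) h0)

theorem etaIso_of_pc (K : Dual.D A) (hK : ∀ m : ℤ, DRing.IsPseudoCoherent A m K) (j : ℤ) :
    EtaIso I K j := by
  have hI := injective_X I hinj
  have h1 := abs_nonneg (b - a)
  have h2 := le_abs_self (b - a)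
  obtain ⟨X₀, a₀, b₀, α, hbff, hα⟩ :=
    (isPseudoCoherent_iff (j - 1 - |b - a|) K).mp (hK (j - 1 - |b - a|))
  obtain ⟨C, β, γ, hT⟩ := distinguished_cocone_triangle α
  have hC : C.IsLE (j - 1 - |b - a| - 1) := (isApprox_iff_isLE _ hT (j - 1 - |b - a|)).mp hα
  haveI := hC
  haveI hC' : (C⟦(-1 : ℤ)⟧).IsLE (j - 1 - |b - a|) :=
    TStructure.t.isLE_shift C (j - 1 - |b - a| - 1) (-1) (j - 1 - |b - a|) (by omega)
  have hT' := inv_rot_of_distTriang _ (inv_rot_of_distTriang _ hT)
  have hX₀ := etaAll_of_isBFF I a b hv hinj hend hext hbff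
  have hc := etaIso_cone I hI _ hT' j
    (etaIso_of_isLE I a b hv hinj (C⟦(-1 : ℤ)⟧) (j - 1 - |b - a|) j (by omega) (by omega))
    (etaIso_of_etaAll I hX₀ j)
    (etaIso_of_isLE I a b hv hinj (C⟦(-1 : ℤ)⟧) (j - 1 - |b - a|) (j + 1) (by omega) (by omega))
    (etaIso_of_etaAll I hX₀ (j + 1))
  exact etaIso_of_iso I
    ((CategoryTheory.shiftFunctorCompIsoId (Dual.D A) (-1 : ℤ) 1 (by omega)).app K) j hc

theorem etaIso_of_coh [IsNoetherianRing A] (K : Dual.D A)
    (hK : ∀ i : ℤ, Module.Finite A (Dual.HD A K i)) (j : ℤ) : EtaIso I K j := by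
  have hI := injective_X I hinj
  have h1 := abs_nonneg (b - a)
  have h2 := le_abs_self (b - a)
  obtain ⟨K', G, hK', hG, f, g, δ, hT⟩ :=
    TStructure.t.exists_triangle K (j + 1 + |b - a|) (j + 1 + |b - a| + 1) rfl
  haveI iK' : K'.IsLE (j + 1 + |b - a|) := ⟨hK'⟩
  haveI iG : G.IsGE (j + 1 + |b - a| + 1) := ⟨hG⟩
  haveI iG3 : (Triangle.mk f g δ).obj₃.IsGE (j + 1 + |b - a| + 1) := iG
  haveI iG' : (G⟦(-1 : ℤ)⟧).IsGE (j + 1 + |b - a| + 2) :=
    TStructure.t.isGE_shift G (j + 1 + |b - a| + 1) (-1) (j + 1 + |b - a| + 2) (by omega)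
  have hfinK' : ∀ i : ℤ, Module.Finite A (Dual.HD A K' i) := by
    intro i
    by_cases hi : i ≤ j + 1 + |b - a|
    · haveI hiso : IsIso ((homologyFunctor (ModuleCat.{u} A) i).map f) :=
        isIso_HD_mor₁ (Triangle.mk f g δ) hT (j + 1 + |b - a|) i hi
      haveI := hK i
      exact Module.Finite.equiv
        (asIso ((homologyFunctor (ModuleCat.{u} A) i).map f)).toLinearEquiv.symm
    · haveI := subsingleton_HD_of_isLE K' (j + 1 + |b - a|) i (by omega)
      infer_instance
  have hpc := pc_of_finite K' (j + 1 + |b - a|) hfinK'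
  have hT' := inv_rot_of_distTriang _ (inv_rot_of_distTriang _ hT)
  have hc := etaIso_cone I hI _ hT' j
    (etaIso_of_isGE I a b hv hinj (G⟦(-1 : ℤ)⟧) (j + 1 + |b - a| + 2) j (by omega) (by omega))
    (etaIso_of_pc I a b hv hinj hend hext K' hpc j)
    (etaIso_of_isGE I a b hv hinj (G⟦(-1 : ℤ)⟧) (j + 1 + |b - a| + 2) (j + 1) (by omega)
      (by omega))
    (etaIso_of_pc I a b hv hinj hend hext K' hpc (j + 1))
  exact etaIso_of_iso I
    ((CategoryTheory.shiftFunctorCompIsoId (Dual.D A) (-1 : ℤ) 1 (by omega)).app K) j hc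

/-- **Biduality**: the biduality map of a complex with finite cohomology is a quasi-isomorphism. -/
theorem quasiIso_eta [IsNoetherianRing A] (K₀ : DRing.Cx A)
    (hK : ∀ i : ℤ, Module.Finite A (Dual.HD A (DRing.toD K₀) i)) : QuasiIso (eta K₀ I) := by
  rw [quasiIso_iff]
  intro j
  rw [quasiIsoAt_iff_isIso_homologyMap]
  exact etaIso_of_coh I a b hv hinj hend hext (DRing.toD K₀) hK j K₀ ⟨Iso.refl _⟩

end Groth.Agent.Helper6.BiD
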