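import Mathlib
import Groth.Prelude.Def_DRing4
import Groth.Agent.Helper9.DProd
import Groth.Agent.Helper6.KProjQ
import Groth.Agent.Helper6.KProjRes

set_option autoImplicit false

/-!
# Products in the derived category of modules, computed via K-projective resolutions of the source
-/

namespace Groth.Agent.Helper6.DProdMod
open CategoryTheory Limits DerivedCategory

attribute [local instance] HasDerivedCategory.standard

universe u

variable {A : Type u} [CommRing A] {T : Type u} (C : T → DRing.Cx A)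

/-- a K-projective model of an object of `D(A)` -/
lemma exists_kproj (X : Dual.D A) :
    ∃ (P : DRing.Cx A) (_ : P.IsKProjective), Nonempty (Q.obj P ≅ X) := by
  obtain ⟨P, π, hP, -, -, hπ, -⟩ := Groth.Agent.Helper6.KProjRes.exists_resolution (Q.objPreimage X)
  haveI : IsIso (Q.map π) := (isIso_Q_map_iff_quasiIso (ModuleCat.{u} A) _).mpr hπ
  exact ⟨P, hP, ⟨asIso (Q.map π) ≪≫ Q.objObjPreimageIso X⟩⟩

/-- joint monicity of the projections -/
theorem hom_ext_pi {X : Dual.D A} (m m' : X ⟶ Q.obj (∏ᶜ C))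
    (h : ∀ t, m ≫ Q.map (Pi.π C t) = m' ≫ Q.map (Pi.π C t)) : m = m' := by
  obtain ⟨P, hP, ⟨eX⟩⟩ := exists_kproj X
  haveI := hP
  obtain ⟨ψ, hψ⟩ := Groth.Agent.Helper6.KProjQ.Q_map_surjective P (∏ᶜ C) (eX.hom ≫ m)
  obtain ⟨ψ', hψ'⟩ := Groth.Agent.Helper6.KProjQ.Q_map_surjective P (∏ᶜ C) (eX.hom ≫ m')
  have hh : Nonempty (Homotopy ψ ψ') := by
    apply Groth.Agent.Helper9.DProd.homotopy_of_pi C
    intro t
    apply Groth.Agent.Helper6.KProjQ.homotopy_of_Q_map_eq
    rw [Functor.map_comp, Functor.map_comp, hψ, hψ', Category.assoc, Category.assoc, h t]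
  obtain ⟨H⟩ := hh
  have := Groth.Agent.Helper6.KProjQ.Q_map_eq_of_homotopy H
  rw [hψ, hψ'] at this
  exact (cancel_epi eX.hom).1 this

/-- existence of lifts -/
theorem exists_lift_pi {X : Dual.D A} (g : ∀ t, X ⟶ Q.obj (C t)) :
    ∃ m : X ⟶ Q.obj (∏ᶜ C), ∀ t, m ≫ Q.map (Pi.π C t) = g t := by
  obtain ⟨P, hP, ⟨eX⟩⟩ := exists_kproj X
  haveI := hP
  have : ∀ t, ∃ φ : P ⟶ C t, Q.map φ = eX.hom ≫ g t := fun t =>
    Groth.Agent.Helper6.KProjQ.Q_map_surjective P (C t) _
  choose φ hφ using this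
  refine ⟨eX.inv ≫ Q.map (Pi.lift φ), fun t => ?_⟩
  rw [Category.assoc, ← Functor.map_comp, Pi.lift_π, hφ, Iso.inv_hom_id_assoc]

/-- `D(A)` has all small products -/
theorem hasProduct (K : T → Dual.D A) : HasProduct K := by
  let C : T → DRing.Cx A := fun t => Q.objPreimage (K t)
  let e : ∀ t, Q.obj (C t) ≅ K t := fun t => Q.objObjPreimageIso (K t)
  let c : Fan K := Fan.mk (Q.obj (∏ᶜ C)) (fun t => Q.map (Pi.π C t) ≫ (e t).hom)
  have hex : ∀ s : Fan K, ∃ m : s.pt ⟶ Q.obj (∏ᶜ C),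
      ∀ t, m ≫ Q.map (Pi.π C t) = s.proj t ≫ (e t).inv := fun s =>
    exists_lift_pi C _
  choose lift hlift using hex
  have hc : IsLimit c := Fan.IsLimit.mk c lift
    (fun s t => by
      change lift s ≫ Q.map (Pi.π C t) ≫ (e t).hom = s.proj t
      rw [← Category.assoc, hlift, Category.assoc, Iso.inv_hom_id, Category.comp_id])
    (fun s m hm => by
      apply hom_ext_pi C
      intro t
      rw [hlift]
      have := hm t
      change m ≫ Q.map (Pi.π C t) ≫ (e t).hom = s.proj t at this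
      rw [← this, Category.assoc, Category.assoc, Iso.hom_inv_id, Category.comp_id])
  exact ⟨⟨⟨c, hc⟩⟩⟩

instance hasLimitsOfShape_discrete : HasLimitsOfShape (Discrete T) (Dual.D A) := by
  constructor
  intro F
  haveI : HasProduct (fun t => F.obj ⟨t⟩) := hasProduct _
  have e : Discrete.functor (fun t => F.obj ⟨t⟩) ≅ F := Discrete.natIso (fun ⟨t⟩ => Iso.refl _)
  exact hasLimit_of_iso e

end Groth.Agent.Helper6.DProdMod
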