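import Mathlib

set_option autoImplicit false

/-!
# The unit of a left Kan extension is an isomorphism at "locally terminal" objects

Let `RF` be a left Kan extension of `F : C ⥤ H` along `L : C ⥤ D` with unit `α : F ⟶ L ⋙ RF`.
If `I : C` is such that `L` induces surjections `(X ⟶ I) → (L.obj X ⟶ L.obj I)`, `F` identifies
maps into `I` identified by `L`, and `H` has the relevant powers, then `α.app I` is an
isomorphism.  (Dual of `KanCounit2`.)
-/

namespace Groth.Agent.Helper6.KanUnit2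
open CategoryTheory Limits

universe w v₁ v₂ v₃ u₁ u₂ u₃

variable {C : Type u₁} [Category.{v₁} C] {D : Type u₂} [Category.{v₂} D]
  {H : Type u₃} [Category.{v₃} H]
  (L : C ⥤ D) (F : C ⥤ H) (RF : D ⥤ H) (α : F ⟶ L ⋙ RF)
  (I : C)
  (ι : D → Type w) (e : ∀ Y : D, ι Y ≃ (Y ⟶ L.obj I))
  [∀ Y : D, HasProductsOfShape (ι Y) H]

/-- the power functor `Y ↦ ∏_{Hom(Y, LI)} Z` -/
noncomputable def G (Z : H) : D ⥤ H where
  obj Y := ∏ᶜ (fun _ : ι Y => Z)
  map {Y Y'} g := Pi.lift (fun i' : ι Y' => Pi.π (fun _ : ι Y => Z) ((e Y).symm (g ≫ e Y' i')))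
  map_id Y := by
    apply Pi.hom_ext
    intro i
    simp
  map_comp {Y Y' Y''} g g' := by
    apply Pi.hom_ext
    intro i
    simp

/-- the projections -/
noncomputable def prG (Z : H) (Y : D) (i : ι Y) : (G L I ι e Z).obj Y ⟶ Z :=
  Pi.π (fun _ : ι Y => Z) i

/-- the lift -/
noncomputable def liftG (Z : H) (Y : D) {T : H} (f : ι Y → (T ⟶ Z)) : T ⟶ (G L I ι e Z).obj Y :=
  Pi.lift f

lemma liftG_prG (Z : H) (Y : D) {T : H} (f : ι Y → (T ⟶ Z)) (i : ι Y) :
    liftG L I ι e Z Y f ≫ prG L I ι e Z Y i = f i :=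
  Pi.lift_π _ _

lemma map_prG (Z : H) {Y Y' : D} (g : Y ⟶ Y') (i' : ι Y') :
    (G L I ι e Z).map g ≫ prG L I ι e Z Y' i' = prG L I ι e Z Y ((e Y).symm (g ≫ e Y' i')) :=
  Pi.lift_π _ _

lemma G_hom_ext (Z : H) (Y : D) {T : H} (a b : T ⟶ (G L I ι e Z).obj Y)
    (h : ∀ i, a ≫ prG L I ι e Z Y i = b ≫ prG L I ι e Z Y i) : a = b :=
  Pi.hom_ext _ _ h

variable (hI : ∀ X : C, Function.Surjective (L.map : (X ⟶ I) → (L.obj X ⟶ L.obj I)))
  (hF : ∀ (X : C) (f g : X ⟶ I), L.map f = L.map g → F.map f = F.map g)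

/-- a section of `L.map` on maps into `I` -/
noncomputable def pre (X : C) (f : L.obj X ⟶ L.obj I) : X ⟶ I :=
  (hI X f).choose

lemma map_pre (X : C) (f : L.obj X ⟶ L.obj I) : L.map (pre L I hI X f) = f :=
  (hI X f).choose_spec

include hF in
lemma pre_comp (X X' : C) (f : L.obj X' ⟶ L.obj I) (h : X ⟶ X') :
    F.map (pre L I hI X (L.map h ≫ f)) = F.map (h ≫ pre L I hI X' f) := by
  apply hF
  rw [map_pre, L.map_comp, map_pre]

/-- the transformation `F ⟶ L ⋙ G Z` attached to `z : F I ⟶ Z` -/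
noncomputable def β (Z : H) (z : F.obj I ⟶ Z) : F ⟶ L ⋙ G L I ι e Z where
  app X := liftG L I ι e Z (L.obj X) (fun i => F.map (pre L I hI X (e (L.obj X) i)) ≫ z)
  naturality {X X'} h := by
    refine G_hom_ext L I ι e Z _ _ _ (fun i => ?_)
    rw [Functor.comp_map, Category.assoc, Category.assoc, liftG_prG, map_prG, liftG_prG,
      Equiv.apply_symm_apply, pre_comp L F I hI hF, F.map_comp, Category.assoc]

/-- the transformation `RF ⟶ G Z` attached to `z' : RF (L I) ⟶ Z` -/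
noncomputable def δ (Z : H) (z' : RF.obj (L.obj I) ⟶ Z) : RF ⟶ G L I ι e Z where
  app Y := liftG L I ι e Z Y (fun i => RF.map (e Y i) ≫ z')
  naturality {Y Y'} g := by
    refine G_hom_ext L I ι e Z _ _ _ (fun i => ?_)
    rw [Category.assoc, Category.assoc, liftG_prG, map_prG, liftG_prG,
      Equiv.apply_symm_apply, RF.map_comp, Category.assoc]

lemma δ_fac (Z : H) (z' : RF.obj (L.obj I) ⟶ Z) :
    α ≫ Functor.whiskerLeft L (δ L RF I ι e Z z') = β L F I ι e hI hF Z (α.app I ≫ z') := by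
  ext X
  refine G_hom_ext L I ι e Z _ _ _ (fun i => ?_)
  have hn := α.naturality (pre L I hI X (e (L.obj X) i))
  simp only [Functor.comp_map, map_pre] at hn
  show (α.app X ≫ liftG L I ι e Z (L.obj X) (fun i => RF.map (e (L.obj X) i) ≫ z')) ≫
      prG L I ι e Z (L.obj X) i =
    liftG L I ι e Z (L.obj X)
        (fun i => F.map (pre L I hI X (e (L.obj X) i)) ≫ α.app I ≫ z') ≫
      prG L I ι e Z (L.obj X) i
  rw [Category.assoc, liftG_prG, liftG_prG, ← Category.assoc, ← hn, Category.assoc]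

variable [RF.IsLeftKanExtension α]

include hI hF e in
theorem app_comp_bijective (Z : H) :
    Function.Bijective (fun z' : RF.obj (L.obj I) ⟶ Z => α.app I ≫ z') := by
  constructor
  · intro z₁ z₂ h
    have h' : α.app I ≫ z₁ = α.app I ≫ z₂ := h
    have h1 : δ L RF I ι e Z z₁ = δ L RF I ι e Z z₂ := by
      apply RF.hom_ext_of_isLeftKanExtension α
      rw [δ_fac L F RF α I ι e hI hF, δ_fac L F RF α I ι e hI hF, h']
    have h2 := congrArg (fun t => t.app (L.obj I) ≫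
      prG L I ι e Z (L.obj I) ((e (L.obj I)).symm (𝟙 _))) h1
    have h3 : ∀ z' : RF.obj (L.obj I) ⟶ Z, (δ L RF I ι e Z z').app (L.obj I) ≫
        prG L I ι e Z (L.obj I) ((e (L.obj I)).symm (𝟙 _)) = z' := by
      intro z'
      show liftG L I ι e Z (L.obj I) (fun i => RF.map (e (L.obj I) i) ≫ z') ≫
        prG L I ι e Z (L.obj I) ((e (L.obj I)).symm (𝟙 _)) = z'
      rw [liftG_prG, Equiv.apply_symm_apply, RF.map_id, Category.id_comp]
    simpa only [h3] using h2
  · intro z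
    let γ := RF.descOfIsLeftKanExtension α (G L I ι e Z) (β L F I ι e hI hF Z z)
    refine ⟨γ.app (L.obj I) ≫ prG L I ι e Z (L.obj I) ((e (L.obj I)).symm (𝟙 _)), ?_⟩
    have h1 : α.app I ≫ γ.app (L.obj I) = (β L F I ι e hI hF Z z).app I :=
      RF.descOfIsLeftKanExtension_fac_app α _ _ I
    show α.app I ≫ γ.app (L.obj I) ≫ _ = z
    rw [← Category.assoc, h1]
    have h2 : F.map (pre L I hI I (𝟙 (L.obj I))) = F.map (𝟙 I) := by
      apply hF
      rw [map_pre, L.map_id]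
    show liftG L I ι e Z (L.obj I) (fun i => F.map (pre L I hI I (e (L.obj I) i)) ≫ z) ≫
      prG L I ι e Z (L.obj I) ((e (L.obj I)).symm (𝟙 _)) = z
    rw [liftG_prG, Equiv.apply_symm_apply, h2, F.map_id, Category.id_comp]

include hI hF e in
theorem isIso_app : IsIso (α.app I) := by
  obtain ⟨s, hs⟩ := (app_comp_bijective L F RF α I ι e hI hF (F.obj I)).2 (𝟙 _)
  have hs' : α.app I ≫ s = 𝟙 _ := hs
  refine ⟨s, hs', ?_⟩
  apply (app_comp_bijective L F RF α I ι e hI hF (RF.obj (L.obj I))).1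
  show α.app I ≫ (s ≫ α.app I) = α.app I ≫ 𝟙 _
  rw [← Category.assoc, hs', Category.id_comp, Category.comp_id]

end Groth.Agent.Helper6.KanUnit2
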