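import Mathlib
import Groth.Prelude.Def_DRing4
import Groth.Agent.Helper6.KanUnit2
import Groth.Agent.Helper6.DProdMod
import Groth.Agent.Helper6.HomCxPre
import Groth.Agent.Helper9.InjAmp

set_option autoImplicit false
set_option linter.style.haveILetI false
set_option linter.unusedSectionVars false

/-!
# `RHom(E, -)` on K-injective complexes
-/

universe u
open CategoryTheory Limits DerivedCategory

namespace Groth.Agent.Helper6.RHomInj

attribute [local instance] HasDerivedCategory.standard

variable {A : Type u} [CommRing A] (E : DRing.Cx A) [DRing.HasRHomCx E]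

/-- the unit of the right derived functor -/
noncomputable def unit : DRing.homCxQ E ⟶ Q ⋙ DRing.RHomCx E :=
  (DRing.homCxQ E).totalRightDerivedUnit Q
    (HomologicalComplex.quasiIso (ModuleCat.{u} A) (ComplexShape.up ℤ))

instance : (DRing.RHomCx E).IsLeftKanExtension (unit E) := by
  have h : ((DRing.homCxQ E).totalRightDerived Q
      (HomologicalComplex.quasiIso (ModuleCat.{u} A) (ComplexShape.up ℤ))).IsRightDerivedFunctor
      ((DRing.homCxQ E).totalRightDerivedUnit Q
        (HomologicalComplex.quasiIso (ModuleCat.{u} A) (ComplexShape.up ℤ)))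
      (HomologicalComplex.quasiIso (ModuleCat.{u} A) (ComplexShape.up ℤ)) := inferInstance
  exact h.isLeftKanExtension

lemma small_hom_inj (I : DRing.Cx A) [I.IsKInjective] (Y : Dual.D A) :
    Small.{u} (Y ⟶ Q.obj I) := by
  let Y' := Q.objPreimage Y
  let i : Q.obj Y' ≅ Y := Q.objObjPreimageIso Y
  have hs : Function.Surjective (fun f : Y' ⟶ I => i.inv ≫ Q.map f) := by
    intro t
    obtain ⟨f, hf⟩ := Groth.Agent.Helper9.PerfCone.exists_map_eq_of_isKInjective Y' I (i.hom ≫ t)
    exact ⟨f, by simp [hf]⟩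
  exact small_of_surjective hs

theorem isIso_unit_app (I : DRing.Cx A) [I.IsKInjective] : IsIso ((unit E).app I) := by
  have hs := small_hom_inj I
  refine Groth.Agent.Helper6.KanUnit2.isIso_app Q (DRing.homCxQ E) (DRing.RHomCx E) (unit E) I
    (fun Y => Shrink.{u} (Y ⟶ Q.obj I)) (fun Y => (equivShrink _).symm)
    (fun X t => Groth.Agent.Helper9.PerfCone.exists_map_eq_of_isKInjective X I t) ?_
  intro X f g hfg
  obtain ⟨h⟩ := Groth.Agent.Helper9.InjAmp.homotopy_of_Q_map_eq_of_isKInjective X I f g hfg
  obtain ⟨h'⟩ := Groth.Agent.Helper6.HomCxPre.homCxMap_homotopy E f g h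
  exact Groth.Agent.Helper6.KProjQ.Q_map_eq_of_homotopy h'

/-- `RHom(E, Q I) ≅ Q Hom•(E, I)` for K-injective `I` -/
noncomputable def rhomIso (I : DRing.Cx A) [I.IsKInjective] :
    (DRing.RHomCx E).obj (DRing.toD I) ≅ DRing.toD (DRing.homCx E I) :=
  haveI := isIso_unit_app E I
  (asIso ((unit E).app I)).symm

end Groth.Agent.Helper6.RHomInj
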