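import Mathlib
import Groth.Prelude.Def_DRing4
import Groth.Agent.Helper6.BiD8
import Groth.Agent.Helper6.RHomInj

/-!
# Biduality for a dualizing complex: consequences
-/

set_option autoImplicit false
set_option linter.style.haveILetI false
set_option linter.unusedSectionVars false

universe u
open CategoryTheory CategoryTheory.Limits CochainComplex CochainComplex.HomComplex
  Pretriangulated DerivedCategory
attribute [local instance] HasDerivedCategory.standard

namespace Groth.Agent.Helper6.BiD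
open Groth.Agent.Helper3.DRingLib Groth.Agent.Helper6.LocExt Groth.Agent.Helper6.HomCxPre

variable {A : Type u} [CommRing A]

/-- `Hom•(-, I)` sends isomorphic objects of `D(A)` to isomorphic objects -/
lemma D_iso_of_iso (I : DRing.Cx A) [I.IsKInjective] {V W : DRing.Cx A}
    (e : DRing.toD V ≅ DRing.toD W) :
    Nonempty (DRing.toD (DRing.homCx V I) ≅ DRing.toD (DRing.homCx W I)) := by
  obtain ⟨V', s, hs, g, hfac⟩ := DerivedCategory.right_fac e.hom
  haveI := hs
  haveI : QuasiIso s := (DerivedCategory.isIso_Q_map_iff_quasiIso (φ := s)).mp hs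
  have hg : IsIso (Q.map g) := by
    have h1 : Q.map g = Q.map s ≫ e.hom := by
      rw [hfac, IsIso.hom_inv_id_assoc]
    rw [h1]; infer_instance
  haveI : QuasiIso g := (DerivedCategory.isIso_Q_map_iff_quasiIso (φ := g)).mp hg
  haveI : QuasiIso (homCxPre s I) := quasiIso_homCxPre s I
  haveI : QuasiIso (homCxPre g I) := quasiIso_homCxPre g I
  haveI : IsIso (Q.map (homCxPre s I)) :=
    (DerivedCategory.isIso_Q_map_iff_quasiIso (φ := homCxPre s I)).mpr inferInstance
  haveI : IsIso (Q.map (homCxPre g I)) :=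
    (DerivedCategory.isIso_Q_map_iff_quasiIso (φ := homCxPre g I)).mpr inferInstance
  exact ⟨asIso (Q.map (homCxPre s I)) ≪≫ (asIso (Q.map (homCxPre g I))).symm⟩

/-- data of a bounded injective representative of a dualizing complex -/
lemma exists_dualizing_rep [IsNoetherianRing A] (ω : Dual.D A) (hω : Dual.IsDualizing A ω) :
    ∃ (I : DRing.Cx A) (a b : ℤ), DRing.VanishesOutside I a b ∧ DRing.TermwiseInjective I ∧
      I.IsKInjective ∧ Nonempty (DRing.toD I ≅ ω) ∧
      Function.Bijective (fun x : A => x • 𝟙 (DRing.toD I)) ∧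
      (∀ i : ℤ, i ≠ 0 → Subsingleton (DRing.toD I ⟶ (DRing.toD I)⟦i⟧)) := by
  obtain ⟨a, b, hab⟩ := hω.finite_injective_dimension
  obtain ⟨I, hv, hinj, ⟨e⟩⟩ := exists_rep_of_hinj ω a b hab
  have hd : Dual.IsDualizing A (DRing.toD I) := isDualizing_of_iso e.symm hω
  exact ⟨I, a, b, hv, hinj, isKInjective_of_termwiseInjective I a b hv hinj, ⟨e⟩,
    hd.toEnd_bijective, hd.ext_self_subsingleton⟩

/-- **Biduality, object form.**  For `K` with finite cohomology there is a dual object `K'`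
with `H^n(K') = Hom(K, ω[n])` and `H^n(K) = Hom(K', ω[n])`. -/
theorem exists_dual [IsNoetherianRing A] (ω : Dual.D A) (hω : Dual.IsDualizing A ω)
    (K : Dual.D A) (hK : ∀ i : ℤ, Module.Finite A (Dual.HD A K i)) :
    ∃ K' : Dual.D A, (∀ n : ℤ, Nonempty (Dual.HD A K' n ≃ₗ[A] (K ⟶ ω⟦n⟧))) ∧
      (∀ n : ℤ, Nonempty (Dual.HD A K n ≃ₗ[A] (K' ⟶ ω⟦n⟧))) ∧
      (∀ n : ℤ, Module.Finite A (Dual.HD A K' n)) := by
  obtain ⟨I, a, b, hv, hinj, hKI, ⟨e⟩, hend, hext⟩ := exists_dualizing_rep ω hω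
  haveI := hKI
  let K₀ : DRing.Cx A := DerivedCategory.Q.objPreimage K
  let eK : DRing.toD K₀ ≅ K := DerivedCategory.Q.objObjPreimageIso K
  have hK₀ : ∀ i : ℤ, Module.Finite A (Dual.HD A (DRing.toD K₀) i) := fun i => by
    haveI := hK i
    exact Module.Finite.equiv
      ((homologyFunctor (ModuleCat.{u} A) i).mapIso eK).toLinearEquiv.symm
  haveI hqi := quasiIso_eta I a b hv hinj hend hext K₀ hK₀
  haveI : IsIso (Q.map (eta K₀ I)) :=
    (DerivedCategory.isIso_Q_map_iff_quasiIso (φ := eta K₀ I)).mpr hqi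
  have h1 : ∀ n : ℤ, Nonempty (Dual.HD A (DRing.toD (DRing.homCx K₀ I)) n ≃ₗ[A] (K ⟶ ω⟦n⟧)) :=
    fun n => ⟨Psi' K₀ I n ≪≫ₗ
      Linear.homCongr A eK ((CategoryTheory.shiftFunctor (Dual.D A) n).mapIso e)⟩
  refine ⟨DRing.toD (DRing.homCx K₀ I), h1, fun n => ?_, fun n => ?_⟩
  · exact ⟨((homologyFunctor (ModuleCat.{u} A) n).mapIso (eK.symm ≪≫
      asIso (Q.map (eta K₀ I)))).toLinearEquiv ≪≫ₗ Psi' (DRing.homCx K₀ I) I n ≪≫ₗ
        Linear.homCongr A (Iso.refl _) ((CategoryTheory.shiftFunctor (Dual.D A) n).mapIso e)⟩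
  · obtain ⟨ψ⟩ := h1 n
    haveI : Module.Finite A (K ⟶ ω⟦n⟧) :=
      Groth.Agent.Helper6.DFinExt.main K ω hK hω.finite_cohomology
        ⟨a, b, I, hv, hinj, ⟨e⟩⟩ n
    exact Module.Finite.equiv ψ.symm

/-- **Biduality** (`RHom(RHom(K, ω), ω) ≅ K`), in terms of the derived functors `RHomCx`. -/
theorem biduality [IsNoetherianRing A] (ω : Dual.D A) (hω : Dual.IsDualizing A ω)
    (K : DRing.Cx A) [DRing.HasRHomCx K]
    (hK : ∀ i : ℤ, Module.Finite A (Dual.HD A (DRing.toD K) i)) :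
    (∀ i : ℤ, Module.Finite A (Dual.HD A ((DRing.RHomCx K).obj ω) i)) ∧
      ∀ (E : DRing.Cx A) [DRing.HasRHomCx E], Nonempty (DRing.toD E ≅ (DRing.RHomCx K).obj ω) →
        Nonempty ((DRing.RHomCx E).obj ω ≅ DRing.toD K) := by
  obtain ⟨I, a, b, hv, hinj, hKI, ⟨e⟩, hend, hext⟩ := exists_dualizing_rep ω hω
  haveI := hKI
  let rK : (DRing.RHomCx K).obj ω ≅ DRing.toD (DRing.homCx K I) :=
    (DRing.RHomCx K).mapIso e.symm ≪≫ Groth.Agent.Helper6.RHomInj.rhomIso K I
  haveI hqi := quasiIso_eta I a b hv hinj hend hext K hK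
  haveI : IsIso (Q.map (eta K I)) :=
    (DerivedCategory.isIso_Q_map_iff_quasiIso (φ := eta K I)).mpr hqi
  constructor
  · intro i
    haveI : Module.Finite A (DRing.toD K ⟶ (DRing.toD I)⟦i⟧) :=
      Groth.Agent.Helper6.DFinExt.main (DRing.toD K) (DRing.toD I) hK
        (fun j => by
          haveI := hω.finite_cohomology j
          exact Module.Finite.equiv
            ((homologyFunctor (ModuleCat.{u} A) j).mapIso e).toLinearEquiv.symm)
        ⟨a, b, I, hv, hinj, ⟨Iso.refl _⟩⟩ i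
    exact Module.Finite.equiv
      (((homologyFunctor (ModuleCat.{u} A) i).mapIso rK).toLinearEquiv ≪≫ₗ Psi' K I i).symm
  · intro E _ ⟨eE⟩
    obtain ⟨d⟩ := D_iso_of_iso I (eE ≪≫ rK)
    exact ⟨(DRing.RHomCx E).mapIso e.symm ≪≫ Groth.Agent.Helper6.RHomInj.rhomIso E I ≪≫ d ≪≫
      (asIso (Q.map (eta K I))).symm⟩

end Groth.Agent.Helper6.BiD
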