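import Mathlib
import Groth.Prelude.Def_DRing4
import Groth.Agent.Helper3.DRingDev

/-!
# Dévissage for `Hom(-, Y[n])`, and maps out of finite-dimensional `A/m`-vector spaces in `D(A)`
-/

set_option autoImplicit false
set_option linter.style.haveILetI false
set_option linter.unusedSectionVars false

universe u
open CategoryTheory CategoryTheory.Limits Pretriangulated DerivedCategory
attribute [local instance] HasDerivedCategory.standard

namespace Groth.Agent.Helper6.DK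
open Groth.Agent.Helper3.DRingLib

variable {A : Type u} [CommRing A]

/-- `Hom(M[j], Y[n]) ≃ Hom(M, Y[n + k])` for `j + k = 0` -/
noncomputable def shiftHomEquiv (M Y : Dual.D A) (j k n n' : ℤ) (hjk : j + k = 0)
    (h : n + k = n') : (M⟦j⟧ ⟶ Y⟦n⟧) ≃ₗ[A] (M ⟶ Y⟦n'⟧) :=
  (LinearEquiv.ofBijective ((CategoryTheory.shiftFunctor (Dual.D A) k).mapLinearMap A)
      ⟨(CategoryTheory.shiftFunctor (Dual.D A) k).map_injective,
       (CategoryTheory.shiftFunctor (Dual.D A) k).map_surjective⟩) ≪≫ₗ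
    Linear.homCongr A ((CategoryTheory.shiftFunctorCompIsoId (Dual.D A) j k hjk).app M)
      ((CategoryTheory.shiftFunctorAdd' (Dual.D A) n k n' h).app Y).symm

/-- the top truncation triangle of an object with bounded cohomology -/
lemma exists_top_truncation (Z : Dual.D A) (c₀ b : ℤ) [Z.IsGE c₀] [Z.IsLE b] :
    ∃ (X' Y' : Dual.D A) (f : X' ⟶ Z) (g : Z ⟶ Y') (δ : Y' ⟶ X'⟦(1 : ℤ)⟧),
      Triangle.mk f g δ ∈ distTriang (Dual.D A) ∧ X'.IsGE c₀ ∧ X'.IsLE (b - 1) ∧
      Y'.IsGE b ∧ Y'.IsLE b ∧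
      (∀ i : ℤ, i ≤ b - 1 → IsIso ((homologyFunctor (ModuleCat.{u} A) i).map f)) ∧
      IsIso ((homologyFunctor (ModuleCat.{u} A) b).map g) := by
  obtain ⟨X, Y', hX, hY, f, g, δ, hT⟩ := TStructure.t.exists_triangle Z (b - 1) b (by omega)
  have iX : X.IsLE (b - 1) := ⟨hX⟩
  have iY : Y'.IsGE b := ⟨hY⟩
  have iY' : (Triangle.mk f g δ).obj₃.IsGE ((b - 1) + 1) := by
    have : b - 1 + 1 = b := by omega
    rw [this]; exact iY
  have iX' : (Triangle.mk f g δ).obj₁.IsLE (b - 1) := iX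
  have hf : ∀ i : ℤ, i ≤ b - 1 → IsIso ((homologyFunctor (ModuleCat.{u} A) i).map f) :=
    fun i hi => isIso_HD_mor₁ _ hT (b - 1) i hi
  have hg : ∀ i : ℤ, b ≤ i → IsIso ((homologyFunctor (ModuleCat.{u} A) i).map g) :=
    fun i hi => isIso_HD_mor₂ _ hT (b - 1) i (by omega)
  refine ⟨X, Y', f, g, δ, hT, ?_, iX, iY, ?_, hf, hg b le_rfl⟩
  · rw [DerivedCategory.isGE_iff]
    intro i hi
    by_cases hib : i ≤ b - 1
    · haveI := hf i hib
      exact (Z.isZero_of_isGE c₀ i hi).of_iso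
        (asIso ((homologyFunctor (ModuleCat.{u} A) i).map f))
    · exact X.isZero_of_isLE (b - 1) i (by omega)
  · rw [DerivedCategory.isLE_iff]
    intro i hi
    haveI := hg i (by omega)
    exact (Z.isZero_of_isLE b i hi).of_iso
      (asIso ((homologyFunctor (ModuleCat.{u} A) i).map g)).symm

section devissage

variable (Y : Dual.D A) (P : ModuleCat.{u} A → Prop)
  (hiso : ∀ {M N : ModuleCat.{u} A}, (M ≅ N) → P M → P N) (d : ℤ)
  (hP : ∀ M : ModuleCat.{u} A, P M → ∀ i : ℤ, i < d →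
    Subsingleton ((DerivedCategory.singleFunctor (ModuleCat.{u} A) 0).obj M ⟶ Y⟦i⟧))

include hP in
lemma hom_vanish_single (Z : Dual.D A) (c : ℤ) [Z.IsGE c] [Z.IsLE c]
    (hZ : P ((DerivedCategory.homologyFunctor (ModuleCat.{u} A) c).obj Z)) (n : ℤ)
    (hn : n + c < d) : Subsingleton (Z ⟶ Y⟦n⟧) := by
  obtain ⟨e⟩ := exists_iso_single_HD Z c
  haveI : Subsingleton (Dual.inD A (Dual.HD A Z c) ⟶ Y⟦n + c⟧) := hP _ hZ (n + c) hn
  exact ((Linear.homCongr A e (Iso.refl (Y⟦n⟧))).toEquiv.trans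
    (shiftHomEquiv (Dual.inD A (Dual.HD A Z c)) Y (-c) c n (n + c) (by omega)
      rfl).toEquiv).subsingleton

include hiso hP in
/-- **Dévissage for vanishing of `Hom(Z, Y[n])`.** -/
theorem hom_vanish_of_devissage (N : ℕ) :
    ∀ (Z : Dual.D A) (c₀ : ℤ) [Z.IsGE c₀] [Z.IsLE (c₀ + N)],
      (∀ i : ℤ, P ((DerivedCategory.homologyFunctor (ModuleCat.{u} A) i).obj Z)) →
      ∀ n : ℤ, n + (c₀ + N) < d → Subsingleton (Z ⟶ Y⟦n⟧) := by
  induction N with
  | zero =>
    intro Z c₀ _ _ h n hn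
    have : Z.IsLE c₀ := by simpa using (inferInstance : Z.IsLE (c₀ + ((0 : ℕ) : ℤ)))
    exact hom_vanish_single Y P d hP Z c₀ (h c₀) n (by simpa using hn)
  | succ N ih =>
    intro Z c₀ _ _ h n hn
    obtain ⟨X', Y', f, g, δ, hT, i1, i2, i3, i4, hf, hg⟩ :=
      exists_top_truncation Z c₀ (c₀ + ((N + 1 : ℕ) : ℤ))
    haveI := i1
    haveI := i3
    haveI := i4
    haveI := hg
    haveI i2' : X'.IsLE (c₀ + (N : ℤ)) := by
      have : c₀ + ((N + 1 : ℕ) : ℤ) - 1 = c₀ + (N : ℤ) := by push_cast; ring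
      rw [← this]; exact i2
    have hPX : ∀ i : ℤ, P ((homologyFunctor (ModuleCat.{u} A) i).obj X') := by
      intro i
      by_cases hi : i ≤ c₀ + ((N + 1 : ℕ) : ℤ) - 1
      · haveI := hf i hi
        exact hiso (asIso ((homologyFunctor (ModuleCat.{u} A) i).map f)).symm (h i)
      · have hz : IsZero ((homologyFunctor (ModuleCat.{u} A) i).obj X') :=
          X'.isZero_of_isLE (c₀ + (N : ℤ)) i (by push_cast at hi; omega)
        have hz' : IsZero ((homologyFunctor (ModuleCat.{u} A) (c₀ - 1)).obj Z) :=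
          Z.isZero_of_isGE c₀ (c₀ - 1) (by omega)
        exact hiso (hz'.iso hz) (h (c₀ - 1))
    have hPY : P ((homologyFunctor (ModuleCat.{u} A) (c₀ + ((N + 1 : ℕ) : ℤ))).obj Y') :=
      hiso (asIso ((homologyFunctor (ModuleCat.{u} A) (c₀ + ((N + 1 : ℕ) : ℤ))).map g))
        (h _)
    have hX0 : Subsingleton (X' ⟶ Y⟦n⟧) :=
      ih X' c₀ hPX n (by push_cast at hn; omega)
    have hY0 : Subsingleton (Y' ⟶ Y⟦n⟧) :=
      hom_vanish_single Y P d hP Y' (c₀ + ((N + 1 : ℕ) : ℤ)) hPY n hn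
    refine subsingleton_of_forall_eq 0 (fun φ => ?_)
    have h1 : f ≫ φ = 0 := Subsingleton.elim _ _
    obtain ⟨ψ, hψ⟩ := Triangle.yoneda_exact₂ _ hT φ h1
    have h2 : ψ = 0 := @Subsingleton.elim _ hY0 _ _
    rw [hψ, h2]
    exact comp_zero

end devissage

section kappa

variable (m : Ideal A)

lemma quot_killed (r : A) (hr : r ∈ m) (x : A ⧸ m) : r • x = 0 := by
  rw [Algebra.smul_def, Ideal.Quotient.algebraMap_eq, Ideal.Quotient.eq_zero_iff_mem.mpr hr,
    zero_mul]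

lemma pi_killed (k : ℕ) (r : A) (hr : r ∈ m) (x : Fin k → A ⧸ m) : r • x = 0 := by
  funext j
  exact quot_killed m r hr (x j)

/-- maps out of a module killed by `m` are killed by `m` -/
lemma smul_eq_zero_of_killed (M : ModuleCat.{u} A) (hM : ∀ r ∈ m, ∀ x : M, r • x = 0)
    (Y : Dual.D A) (f : (DerivedCategory.singleFunctor (ModuleCat.{u} A) 0).obj M ⟶ Y) (r : A)
    (hr : r ∈ m) : r • f = 0 := by
  have h1 : r • 𝟙 M = 0 := by
    ext x
    exact hM r hr x
  have h2 : r • 𝟙 ((DerivedCategory.singleFunctor (ModuleCat.{u} A) 0).obj M) = 0 := by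
    rw [← CategoryTheory.Functor.map_id, ← Functor.map_smul, h1, Functor.map_zero]
  calc r • f = (r • 𝟙 _) ≫ f := by rw [Linear.smul_comp, Category.id_comp]
    _ = 0 := by rw [h2, zero_comp]

/-- a finite module killed by a maximal ideal is a finite power of the residue field -/
lemma exists_equiv_pi [m.IsMaximal] (M : Type u) [AddCommGroup M] [Module A M]
    [Module.Finite A M] (hM : ∀ r ∈ m, ∀ x : M, r • x = 0) :
    ∃ k : ℕ, Nonempty (M ≃ₗ[A] (Fin k → A ⧸ m)) := by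
  letI : Field (A ⧸ m) := Ideal.Quotient.field m
  have htors : Module.IsTorsionBySet A M (m : Set A) := fun x a => hM a.1 a.2 x
  letI : Module (A ⧸ m) M := htors.module
  haveI : IsScalarTower A (A ⧸ m) M := htors.isScalarTower
  haveI : Module.Finite (A ⧸ m) M := Module.Finite.of_restrictScalars_finite A (A ⧸ m) M
  exact ⟨_, ⟨(Module.finBasis (A ⧸ m) M).equivFun.restrictScalars A⟩⟩

/-- projection of `(A/m)^k` -/
noncomputable def piProj (k : ℕ) (j : Fin k) :
    ModuleCat.of A (Fin k → A ⧸ m) ⟶ ModuleCat.of A (A ⧸ m) :=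
  ModuleCat.ofHom (LinearMap.proj j)

/-- inclusion into `(A/m)^k` -/
noncomputable def piIncl (k : ℕ) (j : Fin k) :
    ModuleCat.of A (A ⧸ m) ⟶ ModuleCat.of A (Fin k → A ⧸ m) :=
  ModuleCat.ofHom (LinearMap.single A (fun _ => A ⧸ m) j)

lemma piIncl_piProj_same (k : ℕ) (j : Fin k) : piIncl m k j ≫ piProj m k j = 𝟙 _ := by
  apply ModuleCat.hom_ext
  exact LinearMap.proj_comp_single_same A (fun _ => A ⧸ m) j

lemma piIncl_piProj_ne (k : ℕ) (i j : Fin k) (h : i ≠ j) :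
    piIncl m k j ≫ piProj m k i = 0 := by
  apply ModuleCat.hom_ext
  exact LinearMap.proj_comp_single_ne A (fun _ => A ⧸ m) i j h

lemma sum_piProj_piIncl (k : ℕ) : ∑ j : Fin k, piProj m k j ≫ piIncl m k j = 𝟙 _ := by
  apply ModuleCat.hom_ext
  apply LinearMap.ext
  intro x
  rw [ModuleCat.hom_sum, LinearMap.sum_apply]
  funext i
  simp [piProj, piIncl, Finset.sum_apply, Pi.single_apply]

/-- `Hom((A/m)^k, Y) = 0` if `Hom(A/m, Y) = 0` -/
lemma subsingleton_pi (Y : Dual.D A) (k : ℕ)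
    (h : Subsingleton (Dual.inD A (A ⧸ m) ⟶ Y)) :
    Subsingleton (Dual.inD A (Fin k → A ⧸ m) ⟶ Y) := by
  refine subsingleton_of_forall_eq 0 (fun f => ?_)
  calc f = (DerivedCategory.singleFunctor (ModuleCat.{u} A) 0).map
          (∑ j : Fin k, piProj m k j ≫ piIncl m k j) ≫ f := by
        rw [sum_piProj_piIncl, CategoryTheory.Functor.map_id, Category.id_comp]
    _ = ∑ j : Fin k, (DerivedCategory.singleFunctor (ModuleCat.{u} A) 0).map (piProj m k j) ≫
          ((DerivedCategory.singleFunctor (ModuleCat.{u} A) 0).map (piIncl m k j) ≫ f) := by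
        rw [Functor.map_sum, Preadditive.sum_comp]
        simp only [Functor.map_comp, Category.assoc]
    _ = 0 := Finset.sum_eq_zero (fun j _ => by
        rw [Subsingleton.elim
          ((DerivedCategory.singleFunctor (ModuleCat.{u} A) 0).map (piIncl m k j) ≫ f) 0,
          comp_zero])

lemma subsingleton_of_killed [m.IsMaximal] (M : ModuleCat.{u} A) [Module.Finite A M]
    (hM : ∀ r ∈ m, ∀ x : M, r • x = 0) (Y : Dual.D A)
    (hV : Subsingleton (Dual.inD A (A ⧸ m) ⟶ Y)) :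
    Subsingleton ((DerivedCategory.singleFunctor (ModuleCat.{u} A) 0).obj M ⟶ Y) := by
  obtain ⟨k, ⟨e⟩⟩ := exists_equiv_pi m M hM
  haveI := subsingleton_pi m Y k hV
  exact (Linear.homCongr A ((DerivedCategory.singleFunctor (ModuleCat.{u} A) 0).mapIso
    e.toModuleIso) (Iso.refl Y)).toEquiv.subsingleton

lemma one_le_of_equiv (M : Type u) [AddCommGroup M] [Module A M] (hM0 : ¬ Subsingleton M)
    (k : ℕ) (e : M ≃ₗ[A] (Fin k → A ⧸ m)) : 1 ≤ k := by
  by_contra hcon
  have : k = 0 := by omega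
  subst this
  exact hM0 e.toEquiv.subsingleton

lemma not_subsingleton_of_killed [m.IsMaximal] (M : Type u) [AddCommGroup M] [Module A M]
    [Module.Finite A M] (hM : ∀ r ∈ m, ∀ x : M, r • x = 0) (hM0 : ¬ Subsingleton M)
    (Y : Dual.D A) (hV : ¬ Subsingleton (Dual.inD A (A ⧸ m) ⟶ Y))
    (h : Subsingleton (Dual.inD A M ⟶ Y)) : False := by
  obtain ⟨k, ⟨e⟩⟩ := exists_equiv_pi m M hM
  have hk : 1 ≤ k := one_le_of_equiv m M hM0 k e
  apply hV
  haveI : Subsingleton (Dual.inD A (Fin k → A ⧸ m) ⟶ Y) :=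
    (Linear.homCongr A ((DerivedCategory.singleFunctor (ModuleCat.{u} A) 0).mapIso
      e.toModuleIso.symm) (Iso.refl Y)).toEquiv.subsingleton
  refine subsingleton_of_forall_eq 0 (fun f => ?_)
  let j0 : Fin k := ⟨0, by omega⟩
  calc f = (DerivedCategory.singleFunctor (ModuleCat.{u} A) 0).map (piIncl m k j0) ≫
          (DerivedCategory.singleFunctor (ModuleCat.{u} A) 0).map (piProj m k j0) ≫ f := by
        rw [← Category.assoc, ← Functor.map_comp, piIncl_piProj_same,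
          CategoryTheory.Functor.map_id, Category.id_comp]
    _ = 0 := by
        rw [Subsingleton.elim
          ((DerivedCategory.singleFunctor (ModuleCat.{u} A) 0).map (piProj m k j0) ≫ f) 0,
          comp_zero]

lemma not_equiv_of_two_le [m.IsMaximal] (Y : Dual.D A) (k : ℕ) (hk : 2 ≤ k)
    (hV : ¬ Subsingleton (Dual.inD A (A ⧸ m) ⟶ Y))
    (φ : (Dual.inD A (Fin k → A ⧸ m) ⟶ Y) ≃ₗ[A] (A ⧸ m)) : False := by
  haveI : IsSimpleModule A (A ⧸ m) :=
    isSimpleModule_iff_quot_maximal.mpr ⟨m, inferInstance, ⟨LinearEquiv.refl _ _⟩⟩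
  haveI : IsSimpleModule A (Dual.inD A (Fin k → A ⧸ m) ⟶ Y) := IsSimpleModule.congr φ
  obtain ⟨f, hf⟩ : ∃ f : Dual.inD A (A ⧸ m) ⟶ Y, f ≠ 0 := by
    by_contra hcon
    exact hV (subsingleton_of_forall_eq 0 (fun g => by
      by_contra hg
      exact hcon ⟨g, hg⟩))
  let S := DerivedCategory.singleFunctor (ModuleCat.{u} A) 0
  let j0 : Fin k := ⟨0, by omega⟩
  let j1 : Fin k := ⟨1, by omega⟩
  have hj : j0 ≠ j1 := by
    intro h
    have := congrArg Fin.val h
    simp [j0, j1] at this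
  let Q : Submodule A (Dual.inD A (Fin k → A ⧸ m) ⟶ Y) :=
    LinearMap.range (Linear.leftComp A Y (S.map (piProj m k j1)))
  have hsame : ∀ j : Fin k, f = S.map (piIncl m k j) ≫ S.map (piProj m k j) ≫ f := fun j => by
    rw [← Category.assoc, ← Functor.map_comp, piIncl_piProj_same,
      CategoryTheory.Functor.map_id, Category.id_comp]
  have hQ : Q = ⊤ := by
    rcases eq_bot_or_eq_top Q with h | h
    · exfalso
      have hv : S.map (piProj m k j1) ≫ f ∈ Q := ⟨f, rfl⟩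
      rw [h, Submodule.mem_bot] at hv
      apply hf
      rw [hsame j1, hv, comp_zero]
    · exact h
  have hu : S.map (piProj m k j0) ≫ f ∈ Q := by rw [hQ]; trivial
  obtain ⟨g, hg⟩ := hu
  apply hf
  have hg' : S.map (piProj m k j1) ≫ g = S.map (piProj m k j0) ≫ f := hg
  rw [hsame j0, ← hg', ← Category.assoc, ← Functor.map_comp, piIncl_piProj_ne m k j1 j0 hj.symm,
    Functor.map_zero, zero_comp]

lemma equiv_of_simple [m.IsMaximal] (M : Type u) [AddCommGroup M] [Module A M]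
    [Module.Finite A M] (hM : ∀ r ∈ m, ∀ x : M, r • x = 0) (hM0 : ¬ Subsingleton M)
    (Y : Dual.D A) (hV : ¬ Subsingleton (Dual.inD A (A ⧸ m) ⟶ Y))
    (φ : (Dual.inD A M ⟶ Y) ≃ₗ[A] (A ⧸ m)) : Nonempty (M ≃ₗ[A] (A ⧸ m)) := by
  obtain ⟨k, ⟨e⟩⟩ := exists_equiv_pi m M hM
  have hk1 : 1 ≤ k := one_le_of_equiv m M hM0 k e
  have hk2 : k < 2 := by
    by_contra hcon
    exact not_equiv_of_two_le m Y k (by omega) hV
      ((Linear.homCongr A ((DerivedCategory.singleFunctor (ModuleCat.{u} A) 0).mapIso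
        e.toModuleIso.symm) (Iso.refl Y)) ≪≫ₗ φ)
  have : k = 1 := by omega
  subst this
  exact ⟨e ≪≫ₗ LinearEquiv.funUnique (Fin 1) A (A ⧸ m)⟩

end kappa

end Groth.Agent.Helper6.DK
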