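import Mathlib
import Groth.Prelude.Def_DDual2
import Groth.Prelude.Def_Wider
import Groth.Agent.Helper3.DRingRestr
import Groth.Agent.Helper6.HtpyAdj
import Groth.Agent.Helper6.KProjQ
import Groth.Agent.Helper6.DK1
import Groth.Agent.Helper9.PerfCone
import Groth.Agent.Helper9.InjAmp

/-!
# Coextension of scalars on complexes and the right adjoint of restriction on derived categories
-/

set_option autoImplicit false
set_option linter.style.haveILetI false
set_option linter.unusedSectionVars false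

universe u
open CategoryTheory CategoryTheory.Limits DerivedCategory
attribute [local instance] HasDerivedCategory.standard

namespace Groth.Agent.Helper6.Coext
open Groth.Agent.Helper3.DRingLib Groth.Agent.Helper1.DPlusAdj Groth.Agent.Helper6.DK

variable {A B : Type u} [CommRing A] [CommRing B] (φ : A →+* B)

/-- coextension of scalars `M ↦ Hom_A(B, M)` -/
noncomputable abbrev cF : ModuleCat.{u} A ⥤ ModuleCat.{u} B := ModuleCat.coextendScalars φ

instance additive_cF : (cF φ).Additive where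
  map_add {M N f g} := by
    apply ModuleCat.hom_ext
    apply LinearMap.ext
    intro h
    rfl

/-- termwise coextension of scalars -/
noncomputable abbrev cCx : DRing.Cx A ⥤ DRing.Cx B :=
  (cF φ).mapHomologicalComplex (ComplexShape.up ℤ)

/-- the adjunction restriction ⊣ coextension on modules -/
noncomputable abbrev adjM : rF φ ⊣ cF φ := ModuleCat.restrictCoextendScalarsAdj φ

/-- the chain level counit `Hom_A(B, I) → I`, evaluation at `1` -/
noncomputable abbrev counitC (I : DRing.Cx A) : (rCx φ).obj ((cCx φ).obj I) ⟶ I :=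
  counitCx (adjM φ) I

/-- the chain level unit -/
noncomputable abbrev unitC (X : DRing.Cx B) : X ⟶ (cCx φ).obj ((rCx φ).obj X) :=
  unitCx (adjM φ) X

lemma adjunct_eq {X : DRing.Cx B} {I : DRing.Cx A} (f : X ⟶ (cCx φ).obj I) :
    f = unitC φ X ≫ (cCx φ).map ((rCx φ).map f ≫ counitC φ I) := by
  rw [Functor.map_comp, ← Category.assoc]
  have h1 := unitCx_naturality (adjM φ) f
  rw [← h1, Category.assoc]
  have h2 := right_triangle_cx (adjM φ) I
  rw [h2, Category.comp_id]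

lemma adjunct_eq' {X : DRing.Cx B} {I : DRing.Cx A} (h : (rCx φ).obj X ⟶ I) :
    (rCx φ).map (unitC φ X ≫ (cCx φ).map h) ≫ counitC φ I = h := by
  rw [Functor.map_comp, Category.assoc]
  have h1 := counitCx_naturality (adjM φ) h
  rw [h1, ← Category.assoc]
  have h2 := left_triangle_cx (adjM φ) X
  rw [h2, Category.id_comp]

lemma acyclic_rCx (K : DRing.Cx B) (hK : K.Acyclic) : ((rCx φ).obj K).Acyclic := by
  intro n
  rw [HomologicalComplex.exactAt_iff_isZero_homology]
  exact ((rF φ).map_isZero ((HomologicalComplex.exactAt_iff_isZero_homology _ _).mp (hK n))).of_iso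
    (rHomologyIso φ K n)

instance isKInjective_cCx (I : DRing.Cx A) [I.IsKInjective] :
    ((cCx φ).obj I).IsKInjective where
  nonempty_homotopy_zero {K} f hK := by
    have H := CochainComplex.IsKInjective.homotopyZero ((rCx φ).map f ≫ counitC φ I)
      (acyclic_rCx φ K hK)
    have H' := ((cF φ).mapHomotopy H).compLeft (unitC φ K)
    exact ⟨(Homotopy.ofEq (adjunct_eq φ f)).trans (H'.trans (Homotopy.ofEq (by simp)))⟩

/-- `(Y, ε)` represents the functor `X ↦ Hom_{D(A)}(restrict X, K)` on `D(B)` -/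
def IsCoext (K : Dual.D A) (Y : Dual.D B) (ε : (DRing.restrictD φ).obj Y ⟶ K) : Prop :=
  ∀ X : Dual.D B, Function.Bijective (fun g : X ⟶ Y => (DRing.restrictD φ).map g ≫ ε)

lemma isCoext_of_adj (R : Dual.D A ⥤ Dual.D B) (adj : DRing.restrictD φ ⊣ R) (K : Dual.D A) :
    IsCoext φ K (R.obj K) (adj.counit.app K) := by
  intro X
  have h : (fun g : X ⟶ R.obj K => (DRing.restrictD φ).map g ≫ adj.counit.app K) =
      (adj.homEquiv X K).symm := by
    funext g
    exact (Adjunction.homEquiv_counit adj X K g).symm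
  rw [h]
  exact (adj.homEquiv X K).symm.bijective

variable {φ}

lemma IsCoext.of_iso {K K' : Dual.D A} {Y : Dual.D B} {ε : (DRing.restrictD φ).obj Y ⟶ K}
    (h : IsCoext φ K Y ε) (e : K ≅ K') : IsCoext φ K' Y (ε ≫ e.hom) := by
  intro X
  have h1 : (fun g : X ⟶ Y => (DRing.restrictD φ).map g ≫ ε ≫ e.hom) =
      (fun t : (DRing.restrictD φ).obj X ⟶ K => t ≫ e.hom) ∘
        (fun g : X ⟶ Y => (DRing.restrictD φ).map g ≫ ε) := by
    funext g
    simp
  rw [h1]
  refine Function.Bijective.comp ⟨?_, ?_⟩ (h X)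
  · intro t t' htt
    exact (cancel_mono e.hom).mp htt
  · intro t
    exact ⟨t ≫ e.inv, by simp⟩

/-- uniqueness of the representing object -/
lemma IsCoext.nonempty_iso {K : Dual.D A} {Y Y' : Dual.D B}
    {ε : (DRing.restrictD φ).obj Y ⟶ K} {ε' : (DRing.restrictD φ).obj Y' ⟶ K}
    (h : IsCoext φ K Y ε) (h' : IsCoext φ K Y' ε') : Nonempty (Y ≅ Y') := by
  obtain ⟨θ, hθ⟩ := (h' Y).2 ε
  obtain ⟨θ', hθ'⟩ := (h Y').2 ε'
  have hθ1 : (DRing.restrictD φ).map θ ≫ ε' = ε := hθ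
  have hθ2 : (DRing.restrictD φ).map θ' ≫ ε = ε' := hθ'
  refine ⟨⟨θ, θ', ?_, ?_⟩⟩
  · apply (h Y).1
    show (DRing.restrictD φ).map (θ ≫ θ') ≫ ε = (DRing.restrictD φ).map (𝟙 Y) ≫ ε
    rw [Functor.map_comp, Category.assoc, hθ2, hθ1, CategoryTheory.Functor.map_id,
      Category.id_comp]
  · apply (h' Y').1
    show (DRing.restrictD φ).map (θ' ≫ θ) ≫ ε' = (DRing.restrictD φ).map (𝟙 Y') ≫ ε'
    rw [Functor.map_comp, Category.assoc, hθ1, hθ2, CategoryTheory.Functor.map_id,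
      Category.id_comp]

/-- `Hom(X, Y) ≃ Hom(X, Y[0])` -/
noncomputable def homShiftZeroEquiv {R : Type u} [CommRing R] (X Y : Dual.D R) :
    (X ⟶ Y) ≃ (X ⟶ Y⟦(0 : ℤ)⟧) :=
  (Iso.homCongr (Iso.refl X) ((shiftFunctorZero (Dual.D R) ℤ).app Y)).symm

/-- `Hom(X, Y[n]) ≃ Hom(X[-n], Y)` -/
noncomputable def homShiftNegEquiv {R : Type u} [CommRing R] (X Y : Dual.D R) (n : ℤ) :
    (X ⟶ Y⟦n⟧) ≃ (X⟦-n⟧ ⟶ Y) :=
  ((shiftHomEquiv X Y (-n) n 0 n (by omega) (by omega)).toEquiv.symm).trans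
    (homShiftZeroEquiv (X⟦-n⟧) Y).symm

/-- the representing property with shifts -/
noncomputable def IsCoext.homShiftEquiv {K : Dual.D A} {Y : Dual.D B}
    {ε : (DRing.restrictD φ).obj Y ⟶ K} (h : IsCoext φ K Y ε) (X : Dual.D B) (n : ℤ) :
    (X ⟶ Y⟦n⟧) ≃ ((DRing.restrictD φ).obj X ⟶ K⟦n⟧) :=
  (homShiftNegEquiv X Y n).trans
    ((Equiv.ofBijective _ (h (X⟦-n⟧))).trans
      ((Iso.homCongr (((DRing.restrictD φ).commShiftIso (-n)).app X) (Iso.refl K)).trans
        (homShiftNegEquiv ((DRing.restrictD φ).obj X) K n).symm))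

variable (φ)

/-- the counit of the explicit model -/
noncomputable def ε₀ (I : DRing.Cx A) :
    (DRing.restrictD φ).obj (DRing.toD ((cCx φ).obj I)) ⟶ DRing.toD I :=
  (rDToD φ ((cCx φ).obj I)).hom ≫ Q.map (counitC φ I)

lemma rD_map_Q_map {E E' : DRing.Cx B} (g : E ⟶ E') :
    (DRing.restrictD φ).map (Q.map g) ≫ (rDToD φ E').hom =
      (rDToD φ E).hom ≫ Q.map ((rCx φ).map g) :=
  (rF φ).mapDerivedCategoryFactors.hom.naturality g

lemma rD_map_comp_ε₀ {X₀ : DRing.Cx B} (I : DRing.Cx A) (g₀ : X₀ ⟶ (cCx φ).obj I) :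
    (DRing.restrictD φ).map (Q.map g₀) ≫ ε₀ φ I =
      (rDToD φ X₀).hom ≫ Q.map ((rCx φ).map g₀ ≫ counitC φ I) := by
  unfold ε₀
  rw [← Category.assoc, rD_map_Q_map, Category.assoc, ← Functor.map_comp]

lemma isCoext_aux (I : DRing.Cx A) [I.IsKInjective] (X₀ : DRing.Cx B) :
    Function.Bijective (fun g : DRing.toD X₀ ⟶ DRing.toD ((cCx φ).obj I) =>
      (DRing.restrictD φ).map g ≫ ε₀ φ I) := by
  constructor
  · intro g₁ g₂ h12
    obtain ⟨c₁, rfl⟩ := Groth.Agent.Helper9.PerfCone.exists_map_eq_of_isKInjective X₀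
      ((cCx φ).obj I) g₁
    obtain ⟨c₂, rfl⟩ := Groth.Agent.Helper9.PerfCone.exists_map_eq_of_isKInjective X₀
      ((cCx φ).obj I) g₂
    have h1 : (DRing.restrictD φ).map (Q.map c₁) ≫ ε₀ φ I =
        (DRing.restrictD φ).map (Q.map c₂) ≫ ε₀ φ I := h12
    rw [rD_map_comp_ε₀, rD_map_comp_ε₀, cancel_epi] at h1
    obtain ⟨H⟩ := Groth.Agent.Helper9.InjAmp.homotopy_of_Q_map_eq_of_isKInjective _ I _ _ h1
    have h2 := Groth.Agent.Helper6.KProjQ.Q_map_eq_of_homotopy ((cF φ).mapHomotopy H)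
    show Q.map c₁ = Q.map c₂
    have e1 : Q.map c₁ = Q.map (unitC φ X₀) ≫
        Q.map ((cCx φ).map ((rCx φ).map c₁ ≫ counitC φ I)) := by
      rw [← Functor.map_comp]
      exact congrArg (fun t => Q.map t) (adjunct_eq φ c₁)
    have e2 : Q.map c₂ = Q.map (unitC φ X₀) ≫
        Q.map ((cCx φ).map ((rCx φ).map c₂ ≫ counitC φ I)) := by
      rw [← Functor.map_comp]
      exact congrArg (fun t => Q.map t) (adjunct_eq φ c₂)
    rw [e1, e2, h2]
  · intro h
    obtain ⟨h₀, hh₀⟩ := Groth.Agent.Helper9.PerfCone.exists_map_eq_of_isKInjective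
      ((rCx φ).obj X₀) I ((rDToD φ X₀).inv ≫ h)
    refine ⟨Q.map (unitC φ X₀ ≫ (cCx φ).map h₀), ?_⟩
    show (DRing.restrictD φ).map (Q.map (unitC φ X₀ ≫ (cCx φ).map h₀)) ≫ ε₀ φ I = h
    rw [rD_map_comp_ε₀, adjunct_eq', hh₀, Iso.hom_inv_id_assoc]

/-- **The explicit model**: `Hom_A(B, I)` represents `X ↦ Hom(restrict X, I)` for a K-injective
complex `I`. -/
theorem isCoext_cCx (I : DRing.Cx A) [I.IsKInjective] :
    IsCoext φ (DRing.toD I) (DRing.toD ((cCx φ).obj I)) (ε₀ φ I) := by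
  intro X
  let X₀ : DRing.Cx B := Q.objPreimage X
  let e : DRing.toD X₀ ≅ X := Q.objObjPreimageIso X
  have h0 := isCoext_aux φ I X₀
  have h1 : (fun g : X ⟶ DRing.toD ((cCx φ).obj I) => (DRing.restrictD φ).map g ≫ ε₀ φ I) =
      (fun t : (DRing.restrictD φ).obj (DRing.toD X₀) ⟶ DRing.toD I =>
        (DRing.restrictD φ).map e.inv ≫ t) ∘
      (fun g : DRing.toD X₀ ⟶ DRing.toD ((cCx φ).obj I) =>
        (DRing.restrictD φ).map g ≫ ε₀ φ I) ∘
      (fun g : X ⟶ DRing.toD ((cCx φ).obj I) => e.hom ≫ g) := by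
    funext g
    simp only [Function.comp_apply, Functor.map_comp, Category.assoc]
    rw [← Category.assoc, ← Functor.map_comp, e.inv_hom_id, CategoryTheory.Functor.map_id,
      Category.id_comp]
  rw [h1]
  refine Function.Bijective.comp ⟨?_, ?_⟩ (Function.Bijective.comp h0 ⟨?_, ?_⟩)
  · intro t t' htt
    exact (cancel_epi ((DRing.restrictD φ).map e.inv)).mp htt
  · intro t
    refine ⟨(DRing.restrictD φ).map e.hom ≫ t, ?_⟩
    show (DRing.restrictD φ).map e.inv ≫ (DRing.restrictD φ).map e.hom ≫ t = t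
    rw [← Category.assoc, ← Functor.map_comp, e.inv_hom_id, CategoryTheory.Functor.map_id,
      Category.id_comp]
  · intro g g' hgg
    exact (cancel_epi e.hom).mp hgg
  · intro g
    exact ⟨e.inv ≫ g, by simp⟩

end Groth.Agent.Helper6.Coext
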