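import Mathlib
import Groth.Prelude.Def_DRing4
import Groth.Agent.Helper6.Coext1
import Groth.Agent.Helper6.BiD3

/-!
# `Hom_A(B, I)` as a Hom complex, and evaluation maps
-/

set_option autoImplicit false
set_option linter.style.haveILetI false
set_option linter.unusedSectionVars false

universe u
open CategoryTheory CategoryTheory.Limits DerivedCategory CochainComplex CochainComplex.HomComplex
attribute [local instance] HasDerivedCategory.standard

namespace Groth.Agent.Helper6.Coext
open Groth.Agent.Helper3.DRingLib Groth.Agent.Helper1.DPlusAdj Groth.Agent.Helper6.BiD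

section Ev

variable {A : Type u} [CommRing A] (K I : DRing.Cx A)

lemma sg_zero : sg A 0 = 1 := by
  unfold sg
  simp

/-- the cocycle `evaluation at x`, for a cycle `x` of degree `0` -/
noncomputable def evCocycle (x : K.X 0) (hx : (K.d 0 (0 + 1)).hom x = 0) :
    Cocycle (DRing.homCx K I) I 0 :=
  Cocycle.mk (evCochain K I 0 x) (0 + 1) rfl (by
    rw [eta_comm, hx]
    exact (etaLin K I (0 + 1)).map_zero)

/-- the chain map `evaluation at x` -/
noncomputable def evHom (x : K.X 0) (hx : (K.d 0 (0 + 1)).hom x = 0) : DRing.homCx K I ⟶ I :=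
  Cocycle.homOf (evCocycle K I x hx)

lemma ofHom_evHom (x : K.X 0) (hx : (K.d 0 (0 + 1)).hom x = 0) :
    Cochain.ofHom (evHom K I x hx) = evCochain K I 0 x :=
  Cocycle.cochain_ofHom_homOf_eq_coe _

lemma evHom_f_apply (x : K.X 0) (hx : (K.d 0 (0 + 1)).hom x = 0) (p : ℤ) (z : Cochain K I p) :
    ((evHom K I x hx).f p).hom z = (z.v 0 p (zero_add p)).hom x := by
  show ((evCochain K I 0 x).v p p (add_zero p)).hom z = _
  rw [evCochain_v, zero_mul, sg_zero, one_smul]

end Ev

section Kappa

variable {A B : Type u} [CommRing A] [CommRing B] (φ : A →+* B)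

/-- `B` as an `A`-module -/
noncomputable abbrev BA : ModuleCat.{u} A := (rF φ).obj (ModuleCat.of B B)

/-- the complex `B[0]` over `A` -/
noncomputable abbrev SB : DRing.Cx A :=
  (CochainComplex.singleFunctor (ModuleCat.{u} A) 0).obj (BA φ)

/-- `Hom_A(B, M)`, restricted to `A`, is the `A`-module of `A`-linear maps -/
noncomputable def cFLin (M : ModuleCat.{u} A) :
    ((rF φ).obj ((cF φ).obj M)) ≃ₗ[A] (BA φ →ₗ[A] M) where
  toFun f := (show BA φ →ₗ[A] M from f)
  invFun f := (show BA φ →ₗ[A] M from f)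
  map_add' _ _ := rfl
  map_smul' a f := by
    apply LinearMap.ext
    intro x
    show (show BA φ →ₗ[A] M from f) ((show B from x) * φ a) = a • (show BA φ →ₗ[A] M from f) x
    rw [← LinearMap.map_smul]
    congr 1
    show (show B from x) * φ a = φ a * (show B from x)
    exact mul_comm _ _
  left_inv _ := rfl
  right_inv _ := rfl

variable {φ} in
lemma cFLin_apply (M : ModuleCat.{u} A) (f : (rF φ).obj ((cF φ).obj M)) (x : BA φ) :
    cFLin φ M f x = (show BA φ →ₗ[A] M from f) x := rfl

variable (I : DRing.Cx A)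

/-- cochains from a single complex, linear version -/
noncomputable def fromSingleLin (N : ModuleCat.{u} A) (n : ℤ) :
    (N ⟶ I.X n) ≃ₗ[A] Cochain ((CochainComplex.singleFunctor (ModuleCat.{u} A) 0).obj N) I n where
  toFun g := Cochain.fromSingleMk g (zero_add n)
  invFun z := Cochain.fromSingleEquiv (zero_add n) z
  map_add' g g' := Cochain.fromSingleMk_add g g' (zero_add n)
  map_smul' a g := by
    rw [RingHom.id_apply]
    apply Cochain.ext
    intro p q hpq
    by_cases hp : p = 0
    · subst hp
      obtain rfl : q = n := by omega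
      rw [Cochain.smul_v, Cochain.fromSingleMk_v, Cochain.fromSingleMk_v]
      exact Linear.comp_smul (R := A) (C := ModuleCat.{u} A) _ _ _ _ a g
    · rw [Cochain.smul_v, Cochain.fromSingleMk_v_eq_zero _ _ _ _ _ hp,
        Cochain.fromSingleMk_v_eq_zero _ _ _ _ _ hp, smul_zero]
  left_inv g := Cochain.fromSingleEquiv_fromSingleMk g (zero_add n)
  right_inv z := (Cochain.fromSingleEquiv (zero_add n)).symm_apply_apply z

/-- the degreewise identification `Hom_A(B, I^n) ≃ Cochain(B[0], I, n)` -/
noncomputable def κLin (n : ℤ) :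
    ((rF φ).obj ((cF φ).obj (I.X n))) ≃ₗ[A] Cochain (SB φ) I n :=
  ((cFLin φ (I.X n)).trans (ModuleCat.homLinearEquiv (S := A)).symm).trans
    (fromSingleLin I (BA φ) n)

lemma κLin_apply (n : ℤ) (f : (rF φ).obj ((cF φ).obj (I.X n))) :
    κLin φ I n f = Cochain.fromSingleMk (ModuleCat.ofHom (cFLin φ (I.X n) f)) (zero_add n) := rfl

/-- **`Hom_A(B, I)` is the Hom complex `Hom•(B[0], I)`.** -/
noncomputable def κ : (rCx φ).obj ((cCx φ).obj I) ≅ DRing.homCx (SB φ) I :=
  HomologicalComplex.Hom.isoOfComponents (fun n => (κLin φ I n).toModuleIso) (by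
    intro i j hij
    obtain rfl : i + 1 = j := hij
    apply ModuleCat.hom_ext
    apply LinearMap.ext
    intro f
    show δ i (i + 1) (κLin φ I i f) =
      κLin φ I (i + 1) (((rF φ).map ((cF φ).map (I.d i (i + 1)))).hom f)
    rw [κLin_apply, κLin_apply, Cochain.δ_fromSingleMk _ _ _ (i + 1) (zero_add (i + 1))]
    rfl)

lemma κ_hom_f_apply (n : ℤ) (f : (rF φ).obj ((cF φ).obj (I.X n))) :
    ((κ φ I).hom.f n).hom f =
      Cochain.fromSingleMk (ModuleCat.ofHom (cFLin φ (I.X n) f)) (zero_add n) := rfl

/-- the element of `B[0]` in degree `0` attached to `b : B` -/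
noncomputable def xB (b : B) : (SB φ).X 0 :=
  (HomologicalComplex.singleObjXSelf (ComplexShape.up ℤ) 0 (BA φ)).inv.hom (show BA φ from b)

lemma singleObjXSelf_hom_xB (b : B) :
    (HomologicalComplex.singleObjXSelf (ComplexShape.up ℤ) 0 (BA φ)).hom.hom (xB φ b) =
      (show BA φ from b) := by
  have h := congrArg (fun ψ => ψ.hom (show BA φ from b))
    (HomologicalComplex.singleObjXSelf (ComplexShape.up ℤ) 0 (BA φ)).inv_hom_id
  exact h

lemma xB_bijective : Function.Bijective (xB φ) := by
  have h1 : Function.Bijective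
      (HomologicalComplex.singleObjXSelf (ComplexShape.up ℤ) 0 (BA φ)).inv.hom :=
    (HomologicalComplex.singleObjXSelf (ComplexShape.up ℤ) 0
      (BA φ)).symm.toLinearEquiv.bijective
  exact h1

lemma d_xB (x : (SB φ).X 0) : ((SB φ).d 0 (0 + 1)).hom x = 0 := by
  have hz : IsZero ((SB φ).X (0 + 1)) :=
    HomologicalComplex.isZero_single_obj_X _ _ _ _ (by norm_num)
  have := ModuleCat.subsingleton_of_isZero hz
  exact Subsingleton.elim _ _

/-- **Compatibility of the counit with evaluation**: multiplication by `b` followed by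
evaluation at `1` is evaluation at `b`. -/
lemma smul_counit_eq (b : B) :
    (rCx φ).map (b • 𝟙 ((cCx φ).obj I)) ≫ counitC φ I =
      (κ φ I).hom ≫ evHom (SB φ) I (xB φ b) (d_xB φ _) := by
  apply HomologicalComplex.hom_ext
  intro p
  apply ModuleCat.hom_ext
  apply LinearMap.ext
  intro f
  rw [HomologicalComplex.comp_f, HomologicalComplex.comp_f, ModuleCat.hom_comp,
    ModuleCat.hom_comp, LinearMap.comp_apply, LinearMap.comp_apply, evHom_f_apply,
    κ_hom_f_apply, Cochain.fromSingleMk_v]
  show (show BA φ →ₗ[A] I.X p from f) ((1 : B) * b) = cFLin φ (I.X p) f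
    ((HomologicalComplex.singleObjXSelf (ComplexShape.up ℤ) 0 (BA φ)).hom.hom (xB φ b))
  rw [singleObjXSelf_hom_xB, one_mul]
  rfl

end Kappa

end Groth.Agent.Helper6.Coext
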