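import Mathlib
import Groth.Prelude.Def_DRing4
import Groth.Agent.Helper6.Coext2
import Groth.Agent.Helper6.BiD9

/-!
# Biduality for a module, with the explicit evaluation maps
-/

set_option autoImplicit false
set_option linter.style.haveILetI false
set_option linter.unusedSectionVars false

universe u
open CategoryTheory CategoryTheory.Limits DerivedCategory CochainComplex CochainComplex.HomComplex
attribute [local instance] HasDerivedCategory.standard

namespace Groth.Agent.Helper6.Coext
open Groth.Agent.Helper3.DRingLib Groth.Agent.Helper6.BiD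

section Elementwise

variable {A : Type u} [CommRing A]

/-- the elementwise content of a quasi-isomorphism of complexes of modules -/
theorem elementwise_of_quasiIsoAt {E E' : DRing.Cx A} (f : E ⟶ E') (m n p : ℤ) (hm : m + 1 = n)
    (hp : n + 1 = p) (h : QuasiIsoAt f n) :
    (∀ x : E.X n, (E.d n p).hom x = 0 →
      (∃ y' : E'.X m, (E'.d m n).hom y' = (f.f n).hom x) →
        ∃ y : E.X m, (E.d m n).hom y = x) ∧
    (∀ y : E'.X n, (E'.d n p).hom y = 0 →
      ∃ x : E.X n, (E.d n p).hom x = 0 ∧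
        ∃ w : E'.X m, (E'.d m n).hom w = y - (f.f n).hom x) := by
  rw [quasiIsoAt_iff' f m n p (by simp [← hm]) (by simp [← hp])] at h
  let S₁ := E.sc' m n p
  let S₂ := E'.sc' m n p
  let φ : S₁ ⟶ S₂ := (HomologicalComplex.shortComplexFunctor' (ModuleCat.{u} A)
    (ComplexShape.up ℤ) m n p).map f
  let h₁ := S₁.moduleCatLeftHomologyData
  let h₂ := S₂.moduleCatLeftHomologyData
  let γ := ShortComplex.leftHomologyMapData φ h₁ h₂
  have h' : ShortComplex.QuasiIso φ := h
  rw [γ.quasiIso_iff, ConcreteCategory.isIso_iff_bijective] at h'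
  obtain ⟨hinj, hsurj⟩ := h'
  have hπ₁ : Function.Surjective h₁.π.hom := Submodule.mkQ_surjective _
  have hcommπ : ∀ x : h₁.K, γ.φH.hom (h₁.π.hom x) = h₂.π.hom (γ.φK.hom x) := fun x =>
    ConcreteCategory.congr_hom γ.commπ x
  have hcommi : ∀ x : h₁.K, h₂.i.hom (γ.φK.hom x) = (f.f n).hom (h₁.i.hom x) := fun x =>
    ConcreteCategory.congr_hom γ.commi x
  constructor
  · rintro x hx ⟨y', hy'⟩
    let x' : h₁.K := ⟨x, hx⟩
    have h0 : γ.φH.hom (h₁.π.hom x') = 0 := by
      rw [hcommπ]
      refine (Submodule.Quotient.mk_eq_zero _).mpr ⟨y', ?_⟩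
      apply Subtype.ext
      show (E'.d m n).hom y' = h₂.i.hom (γ.φK.hom x')
      rw [hcommi, hy']
      rfl
    have h1 : h₁.π.hom x' = 0 := hinj (by rw [h0, map_zero])
    obtain ⟨w, hw⟩ := (Submodule.Quotient.mk_eq_zero _).mp h1
    exact ⟨w, congrArg Subtype.val hw⟩
  · intro y hy
    let y' : h₂.K := ⟨y, hy⟩
    obtain ⟨c, hc⟩ := hsurj (h₂.π.hom y')
    obtain ⟨x', rfl⟩ := hπ₁ c
    rw [hcommπ] at hc
    have h1 : h₂.π.hom (y' - γ.φK.hom x') = 0 := by rw [map_sub, hc, sub_self]
    obtain ⟨w, hw⟩ := (Submodule.Quotient.mk_eq_zero _).mp h1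
    refine ⟨h₁.i.hom x', x'.2, w, ?_⟩
    have h2 := congrArg Subtype.val hw
    show (E'.d m n).hom w = y - (f.f n).hom (h₁.i.hom x')
    rw [← hcommi]
    exact h2

end Elementwise

section Single

variable {A : Type u} [CommRing A] (N : ModuleCat.{u} A)

/-- the complex `N[0]` -/
noncomputable abbrev SN : DRing.Cx A := (CochainComplex.singleFunctor (ModuleCat.{u} A) 0).obj N

lemma d_single (x : (SN N).X 0) : ((SN N).d 0 (0 + 1)).hom x = 0 := by
  have hz : IsZero ((SN N).X (0 + 1)) :=
    HomologicalComplex.isZero_single_obj_X _ _ _ _ (by norm_num)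
  have := ModuleCat.subsingleton_of_isZero hz
  exact Subsingleton.elim _ _

lemma subsingleton_single_X (i : ℤ) (hi : i ≠ 0) : Subsingleton ((SN N).X i) :=
  ModuleCat.subsingleton_of_isZero (HomologicalComplex.isZero_single_obj_X _ _ _ _ hi)

lemma subsingleton_HD_single (i : ℤ) (hi : i ≠ 0) :
    Subsingleton (Dual.HD A (DRing.toD (SN N)) i) := by
  let eS := (DerivedCategory.singleFunctorIsoCompQ (ModuleCat.{u} A) 0).app N
  have hz : IsZero ((homologyFunctor (ModuleCat.{u} A) i).obj
      ((DerivedCategory.singleFunctor (ModuleCat.{u} A) 0).obj N)) := by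
    rcases lt_or_gt_of_ne hi with h | h
    · exact isZero_of_isGE _ 0 i h
    · exact isZero_of_isLE _ 0 i h
  haveI : Subsingleton (Dual.HD A ((DerivedCategory.singleFunctor (ModuleCat.{u} A) 0).obj N) i) :=
    ModuleCat.subsingleton_of_isZero hz
  exact ((homologyFunctor (ModuleCat.{u} A) i).mapIso eS).toLinearEquiv.symm.toEquiv.subsingleton

lemma finite_HD_single [Module.Finite A N] (i : ℤ) :
    Module.Finite A (Dual.HD A (DRing.toD (SN N)) i) := by
  by_cases hi : i = 0
  · subst hi
    let eS := (DerivedCategory.singleFunctorIsoCompQ (ModuleCat.{u} A) 0).app N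
    let e := (singleFunctorCompHomologyFunctorIso (ModuleCat.{u} A) 0).app N
    haveI : Module.Finite A ((𝟭 (ModuleCat.{u} A)).obj N) := inferInstanceAs (Module.Finite A N)
    haveI : Module.Finite A (Dual.HD A ((DerivedCategory.singleFunctor (ModuleCat.{u} A) 0).obj N)
        0) := Module.Finite.equiv e.symm.toLinearEquiv
    exact Module.Finite.equiv ((homologyFunctor (ModuleCat.{u} A) 0).mapIso eS).toLinearEquiv
  · haveI := subsingleton_HD_single N i hi
    infer_instance

end Single

section Bidual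

variable {A : Type u} [CommRing A] [IsNoetherianRing A] (I : DRing.Cx A) (a b : ℤ)
  (hv : DRing.VanishesOutside I a b) (hinj : DRing.TermwiseInjective I) [I.IsKInjective]
  (hend : Function.Bijective (fun x : A => x • 𝟙 (DRing.toD I)))
  (hext : ∀ i : ℤ, i ≠ 0 → Subsingleton (DRing.toD I ⟶ (DRing.toD I)⟦i⟧))
  (N : ModuleCat.{u} A) [Module.Finite A N]

include hv hinj hend hext in
/-- `Ext^n(Hom•(N[0], I), I) = 0` for `n ≠ 0` -/
theorem subsingleton_hom_dual (n : ℤ) (hn : n ≠ 0) :
    Subsingleton (DRing.toD (DRing.homCx (SN N) I) ⟶ (DRing.toD I)⟦n⟧) := by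
  haveI hq : QuasiIso (eta (SN N) I) :=
    quasiIso_eta I a b hv hinj hend hext (SN N) (finite_HD_single N)
  haveI : IsIso (Q.map (eta (SN N) I)) :=
    (DerivedCategory.isIso_Q_map_iff_quasiIso (φ := eta (SN N) I)).mpr hq
  haveI := subsingleton_HD_single N n hn
  have e1 : Dual.HD A (DRing.toD (SN N)) n ≃ₗ[A]
      Dual.HD A (DRing.toD (DRing.homCx (DRing.homCx (SN N) I) I)) n :=
    ((homologyFunctor (ModuleCat.{u} A) n).mapIso (asIso (Q.map (eta (SN N) I)))).toLinearEquiv
  exact (e1.symm.toEquiv.symm.trans (Psi' (DRing.homCx (SN N) I) I n).toEquiv).symm.subsingleton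

include hv hinj hend hext in
/-- **Biduality for a module, with the explicit evaluation maps**: `N ≃ Hom(Hom•(N[0], I), I)` -/
theorem ev_bijective :
    Function.Bijective (fun x : (SN N).X 0 =>
      (Q.map (evHom (SN N) I x (d_single N x)) :
        DRing.toD (DRing.homCx (SN N) I) ⟶ DRing.toD I)) := by
  haveI hq : QuasiIso (eta (SN N) I) :=
    quasiIso_eta I a b hv hinj hend hext (SN N) (finite_HD_single N)
  obtain ⟨hI, hS⟩ := elementwise_of_quasiIsoAt (eta (SN N) I) (-1) 0 (0 + 1) (by norm_num) rfl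
    inferInstance
  constructor
  · intro x₁ x₂ h12
    obtain ⟨H⟩ := Groth.Agent.Helper9.InjAmp.homotopy_of_Q_map_eq_of_isKInjective _ I _ _ h12
    obtain ⟨z, hz⟩ := Cochain.equivHomotopy _ _ H
    rw [ofHom_evHom, ofHom_evHom] at hz
    have h1 : ∃ y' : (DRing.homCx (DRing.homCx (SN N) I) I).X (-1),
        ((DRing.homCx (DRing.homCx (SN N) I) I).d (-1) 0).hom y' =
          ((eta (SN N) I).f 0).hom (x₁ - x₂) := by
      refine ⟨z, ?_⟩
      show δ (-1) 0 z = etaLin (SN N) I 0 (x₁ - x₂)
      rw [map_sub]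
      show δ (-1) 0 z = evCochain (SN N) I 0 x₁ - evCochain (SN N) I 0 x₂
      rw [hz, add_sub_cancel_right]
    obtain ⟨y, hy⟩ := hI (x₁ - x₂) (d_single N _) h1
    haveI := subsingleton_single_X N (-1) (by norm_num)
    have hy0 : y = 0 := Subsingleton.elim _ _
    rw [hy0, map_zero] at hy
    exact sub_eq_zero.mp hy.symm
  · intro g
    obtain ⟨c, rfl⟩ := Groth.Agent.Helper9.PerfCone.exists_map_eq_of_isKInjective
      (DRing.homCx (SN N) I) I g
    have hc : ((DRing.homCx (DRing.homCx (SN N) I) I).d 0 (0 + 1)).hom (Cochain.ofHom c) = 0 := by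
      show δ 0 (0 + 1) (Cochain.ofHom c) = 0
      exact δ_ofHom c
    obtain ⟨x, hx, w, hw⟩ := hS (Cochain.ofHom c) hc
    refine ⟨x, ?_⟩
    have hw' : δ (-1) 0 w = Cochain.ofHom c - evCochain (SN N) I 0 x := hw
    have hz : Cochain.ofHom c = δ (-1) 0 w +
        Cochain.ofHom (evHom (SN N) I x (d_single N x)) := by
      rw [ofHom_evHom, hw', sub_add_cancel]
    have H : Homotopy c (evHom (SN N) I x (d_single N x)) :=
      (Cochain.equivHomotopy _ _).symm ⟨w, hz⟩
    exact (Groth.Agent.Helper6.KProjQ.Q_map_eq_of_homotopy H).symm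

end Bidual

end Groth.Agent.Helper6.Coext
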