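import Mathlib
import Groth.Prelude.Def_DRing4
import Groth.Agent.Helper6.Coext3
import Groth.Agent.Helper6.DFinExt
import Groth.Agent.Helper3.DRingRestr2
import Groth.Agent.Helper3.DRingInjAmp

/-!
# The right adjoint of restriction of scalars along a finite ring map

finiteness of cohomology, dualizing complexes, normalization
-/

set_option autoImplicit false
set_option linter.style.haveILetI false
set_option linter.unusedSectionVars false

universe u
open CategoryTheory CategoryTheory.Limits Pretriangulated DerivedCategory CochainComplex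
  CochainComplex.HomComplex
attribute [local instance] HasDerivedCategory.standard

namespace Groth.Agent.Helper6.Coext
open Groth.Agent.Helper3.DRingLib Groth.Agent.Helper6.BiD Groth.Agent.Helper6.DK
  Groth.Agent.Helper6.LocExt

section FiniteHom

variable {A : Type u} [CommRing A] [IsNoetherianRing A]

/-- `H^i(ω[a]) ≃ H^{a+i}(ω)` -/
noncomputable def hdShift (ω : Dual.D A) (a i i' : ℤ)
    (h : a + i = i') : Dual.HD A (ω⟦a⟧) i ≃ₗ[A] Dual.HD A ω i' :=
  (((homologyFunctor (ModuleCat.{u} A) 0).shiftIso a i i' h).app ω).toLinearEquiv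

/-- `Ext^n(N, K)` is finite for a finite module `N` and `K` bounded below with finite
cohomology -/
theorem finite_hom_single (N : Type u) [AddCommGroup N] [Module A N] [Module.Finite A N]
    (K : Dual.D A) (c : ℤ) (hKc : ∀ i : ℤ, i < c → Subsingleton (Dual.HD A K i))
    (hK : ∀ i : ℤ, Module.Finite A (Dual.HD A K i)) (n : ℤ) :
    Module.Finite A (Dual.inD A N ⟶ K⟦n⟧) := by
  obtain ⟨X, Y, hX, hY, f, g, δ, hT⟩ := TStructure.t.exists_triangle K n (n + 1) (by omega)
  haveI iX : X.IsLE n := ⟨hX⟩
  haveI iY : Y.IsGE (n + 1) := ⟨hY⟩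
  have iY' : (Triangle.mk f g δ).obj₃.IsGE (n + 1) := iY
  suffices hs : Module.Finite A ((Dual.inD A N)⟦-n⟧ ⟶ K) by
    have e1 := shiftHomEquiv (Dual.inD A N) K (-n) n 0 n (by omega) (by omega)
    have e2 : ((Dual.inD A N)⟦-n⟧ ⟶ K) ≃ₗ[A] ((Dual.inD A N)⟦-n⟧ ⟶ K⟦(0 : ℤ)⟧) :=
      Linear.homCongr A (Iso.refl _) ((shiftFunctorZero (Dual.D A) ℤ).app K).symm
    exact Module.Finite.equiv (e2 ≪≫ₗ e1)
  have hXiso : ∀ j : ℤ, j ≤ n →
      IsIso ((homologyFunctor (ModuleCat.{u} A) j).map (Triangle.mk f g δ).mor₁) :=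
    fun j hj => isIso_HD_mor₁ _ hT n j hj
  have hXfin : ∀ j : ℤ, Module.Finite A (Dual.HD A X j) := by
    intro j
    by_cases hj : j ≤ n
    · have hiso := hXiso j hj
      exact finite_of_iso (@asIso _ _ _ _ _ hiso).symm (hK j)
    · have hz : IsZero ((homologyFunctor (ModuleCat.{u} A) j).obj X) :=
        X.isZero_of_isLE n j (by omega)
      haveI : Subsingleton (Dual.HD A X j) := ModuleCat.subsingleton_of_isZero hz
      infer_instance
  have hbX : ∃ a' b' : ℤ, ∀ j : ℤ, (j < a' ∨ b' < j) → Subsingleton (Dual.HD A X j) := by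
    refine ⟨c, n, ?_⟩
    intro j hj
    by_cases hj' : j ≤ n
    · have hiso := hXiso j hj'
      haveI : Subsingleton ((homologyFunctor (ModuleCat.{u} A) j).obj
          (Triangle.mk f g δ).obj₂) := hKc j (by omega)
      exact (@asIso _ _ _ _ _ hiso).toLinearEquiv.toEquiv.subsingleton
    · exact ModuleCat.subsingleton_of_isZero (X.isZero_of_isLE n j (by omega))
  refine DFinExt.finite_obj₂_right (Triangle.mk f g δ) hT _ ?_ ?_
  · exact DFinExt.finite_right N X hbX hXfin (-n)
  · haveI : (Dual.inD A N).IsLE 0 := by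
      show ((DerivedCategory.singleFunctor (ModuleCat.{u} A) 0).obj _).IsLE 0
      infer_instance
    haveI i2 : ((Dual.inD A N)⟦-n⟧).IsLE n :=
      TStructure.t.isLE_shift (Dual.inD A N) 0 (-n) n (by omega)
    exact DFinExt.finite_of_subsingleton
      ⟨fun p q => by
        rw [TStructure.t.zero_of_isLE_of_isGE p n (n + 1) (by omega) i2 iY,
          TStructure.t.zero_of_isLE_of_isGE q n (n + 1) (by omega) i2 iY]⟩

end FiniteHom

section FiniteCoh

variable {A B : Type u} [CommRing A] [CommRing B] [Algebra A B]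

/-- `B ≃ B_A` -/
noncomputable def eBA : B ≃ₗ[A] (BA (algebraMap A B)) where
  toFun b := b
  invFun b := b
  map_add' _ _ := rfl
  map_smul' a b := Algebra.smul_def a b
  left_inv _ := rfl
  right_inv _ := rfl

instance finite_BA [Module.Finite A B] : Module.Finite A (BA (algebraMap A B)) :=
  Module.Finite.equiv eBA

/-- the comparison `restrict (Hom_A(B, I)) ≅ Hom•(B[0], I)` in `D(A)` -/
noncomputable def ιIso (I : DRing.Cx A) :
    (DRing.restrictD (algebraMap A B)).obj (DRing.toD ((cCx (algebraMap A B)).obj I)) ≅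
      DRing.toD (DRing.homCx (SB (algebraMap A B)) I) :=
  rDToD (algebraMap A B) ((cCx (algebraMap A B)).obj I) ≪≫ Q.mapIso (κ (algebraMap A B) I)

variable [IsNoetherianRing A] [Module.Finite A B]

/-- finiteness of the cohomology of `Hom_A(B, I)` -/
theorem finite_HD_cCx (I : DRing.Cx A) [I.IsKInjective] (c : ℤ)
    (hIc : ∀ i : ℤ, i < c → Subsingleton (Dual.HD A (DRing.toD I) i))
    (hI : ∀ i : ℤ, Module.Finite A (Dual.HD A (DRing.toD I) i)) (n : ℤ) :
    Module.Finite B (Dual.HD B (DRing.toD ((cCx (algebraMap A B)).obj I)) n) := by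
  refine finite_HD_of_finite_HD_rD (A := A) _ n ?_
  let e1 := ((homologyFunctor (ModuleCat.{u} A) n).mapIso (ιIso (B := B) I)).toLinearEquiv
  let e2 := Psi' (SB (algebraMap A B)) I n
  let e3 : (DRing.toD (SB (algebraMap A B)) ⟶ (DRing.toD I)⟦n⟧) ≃ₗ[A]
      (Dual.inD A (BA (algebraMap A B)) ⟶ (DRing.toD I)⟦n⟧) :=
    Linear.homCongr A ((DerivedCategory.singleFunctorIsoCompQ (ModuleCat.{u} A) 0).app
      (BA (algebraMap A B))).symm (Iso.refl _)
  haveI : Module.Finite A (Dual.inD A (BA (algebraMap A B)) ⟶ (DRing.toD I)⟦n⟧) :=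
    finite_hom_single (BA (algebraMap A B)) (DRing.toD I) c hIc hI n
  exact Module.Finite.equiv (e1 ≪≫ₗ e2 ≪≫ₗ e3).symm

end FiniteCoh

section Dualizing

variable {A B : Type u} [CommRing A] [CommRing B] [Algebra A B] [IsNoetherianRing A]
  [IsNoetherianRing B] [Module.Finite A B]
  (I : DRing.Cx A) (a b : ℤ)
  (hv : DRing.VanishesOutside I a b) (hinj : DRing.TermwiseInjective I) [I.IsKInjective]
  (hend : Function.Bijective (fun x : A => x • 𝟙 (DRing.toD I)))
  (hext : ∀ i : ℤ, i ≠ 0 → Subsingleton (DRing.toD I ⟶ (DRing.toD I)⟦i⟧))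
  (hfin : ∀ i : ℤ, Module.Finite A (Dual.HD A (DRing.toD I) i))

include hv hinj hend hext hfin in
/-- **`Hom_A(B, I)` is a dualizing complex over `B`** for a bounded injective dualizing `I`. -/
theorem isDualizing_cCx :
    Dual.IsDualizing B (DRing.toD ((cCx (algebraMap A B)).obj I)) := by
  have hco := isCoext_cCx (algebraMap A B) I
  refine ⟨inferInstance, ?_, ?_, ?_, ?_⟩
  · -- finite injective dimension
    refine ⟨a, b, fun M _ _ i hi => ?_⟩
    let eS := rDSingle (algebraMap A B) 0 (ModuleCat.of B M)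
    have hz : ∀ f : (DRing.restrictD (algebraMap A B)).obj (Dual.inD B M) ⟶
        (DRing.toD I)⟦i⟧, f = 0 := by
      intro f
      have h0 : eS.inv ≫ f = 0 := by
        rcases hi with hi | hi
        · exact DFinExt.vanish_low I a b hv hinj
            ((DerivedCategory.singleFunctor (ModuleCat.{u} A) 0).obj
              ((rF (algebraMap A B)).obj (ModuleCat.of B M))) 0 i (by omega) _
        · exact DFinExt.vanish_high I a b hv hinj
            ((DerivedCategory.singleFunctor (ModuleCat.{u} A) 0).obj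
              ((rF (algebraMap A B)).obj (ModuleCat.of B M))) 0 i (by omega) _
      rw [← cancel_epi eS.inv, h0, comp_zero]
    haveI : Subsingleton ((DRing.restrictD (algebraMap A B)).obj (Dual.inD B M) ⟶
        (DRing.toD I)⟦i⟧) := ⟨fun p q => by rw [hz p, hz q]⟩
    exact (hco.homShiftEquiv (Dual.inD B M) i).subsingleton
  · -- finite cohomology
    intro n
    exact finite_HD_cCx I a
      (fun i hi => DFinExt.subsingleton_HD_toD I i (hv i (Or.inl hi))) hfin n
  · -- the endomorphism ring
    have hΦ := hco (DRing.toD ((cCx (algebraMap A B)).obj I))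
    refine (Function.Bijective.of_comp_iff' hΦ _).mp ?_
    have hcomp : (fun g : DRing.toD ((cCx (algebraMap A B)).obj I) ⟶
          DRing.toD ((cCx (algebraMap A B)).obj I) =>
          (DRing.restrictD (algebraMap A B)).map g ≫ ε₀ (algebraMap A B) I) ∘
        (fun x : B => x • 𝟙 (DRing.toD ((cCx (algebraMap A B)).obj I))) =
        (fun t : DRing.toD (DRing.homCx (SB (algebraMap A B)) I) ⟶ DRing.toD I =>
          (ιIso (B := B) I).hom ≫ t) ∘
        (fun x : (SN (BA (algebraMap A B))).X 0 =>
          (Q.map (evHom (SN (BA (algebraMap A B))) I x (d_single _ x)) :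
            DRing.toD (DRing.homCx (SN (BA (algebraMap A B))) I) ⟶ DRing.toD I)) ∘
        xB (algebraMap A B) := by
      funext x
      show (DRing.restrictD (algebraMap A B)).map
          (x • 𝟙 (DRing.toD ((cCx (algebraMap A B)).obj I))) ≫ ε₀ (algebraMap A B) I =
        (ιIso (B := B) I).hom ≫ Q.map (evHom (SB (algebraMap A B)) I (xB (algebraMap A B) x)
          (d_xB _ _))
      have h1 : x • 𝟙 (DRing.toD ((cCx (algebraMap A B)).obj I)) =
          Q.map (x • 𝟙 ((cCx (algebraMap A B)).obj I)) := by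
        rw [Functor.map_smul, CategoryTheory.Functor.map_id]
      rw [h1, rD_map_comp_ε₀, smul_counit_eq, Functor.map_comp]
      simp only [ιIso, Iso.trans_hom, Functor.mapIso_hom, Category.assoc]
    rw [hcomp]
    refine Function.Bijective.comp ⟨?_, ?_⟩ (Function.Bijective.comp
      (ev_bijective I a b hv hinj hend hext (BA (algebraMap A B)))
      (xB_bijective (algebraMap A B)))
    · intro t t' htt
      exact (cancel_epi (ιIso (B := B) I).hom).mp htt
    · intro t
      exact ⟨(ιIso (B := B) I).inv ≫ t, by simp⟩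
  · -- no higher self-extensions
    intro n hn
    haveI := subsingleton_hom_dual I a b hv hinj hend hext (BA (algebraMap A B)) n hn
    haveI : Subsingleton ((DRing.restrictD (algebraMap A B)).obj
        (DRing.toD ((cCx (algebraMap A B)).obj I)) ⟶ (DRing.toD I)⟦n⟧) :=
      (Iso.homCongr (ιIso (B := B) I) (Iso.refl ((DRing.toD I)⟦n⟧))).subsingleton
    exact (hco.homShiftEquiv _ n).subsingleton

end Dualizing

section General

variable {A B : Type u} [CommRing A] [CommRing B] [Algebra A B] [IsNoetherianRing A]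
  [Module.Finite A B]

/-- **Any coextension of a dualizing complex along a finite map is dualizing.** -/
theorem isDualizing_of_isCoext [IsNoetherianRing B] (ω : Dual.D A) (hω : Dual.IsDualizing A ω)
    (Y : Dual.D B) (ε : (DRing.restrictD (algebraMap A B)).obj Y ⟶ ω)
    (h : IsCoext (algebraMap A B) ω Y ε) : Dual.IsDualizing B Y := by
  obtain ⟨I, a, b, hv, hinj, hKI, ⟨e⟩, hend, hext⟩ := exists_dualizing_rep ω hω
  haveI := hKI
  have hfin : ∀ i : ℤ, Module.Finite A (Dual.HD A (DRing.toD I) i) := fun i => by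
    haveI := hω.finite_cohomology i
    exact Module.Finite.equiv
      ((homologyFunctor (ModuleCat.{u} A) i).mapIso e).toLinearEquiv.symm
  have hd := isDualizing_cCx (B := B) I a b hv hinj hend hext hfin
  have hco := (isCoext_cCx (algebraMap A B) I).of_iso e
  obtain ⟨i⟩ := hco.nonempty_iso h
  exact isDualizing_of_iso i hd

/-- a finite algebra over a ring with a dualizing complex has a dualizing complex -/
theorem exists_dualizing_of_finite [IsNoetherianRing B] (ω : Dual.D A)
    (hω : Dual.IsDualizing A ω) : ∃ Y : Dual.D B, Dual.IsDualizing B Y := by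
  obtain ⟨I, a, b, hv, hinj, hKI, ⟨e⟩, hend, hext⟩ := exists_dualizing_rep ω hω
  haveI := hKI
  have hfin : ∀ i : ℤ, Module.Finite A (Dual.HD A (DRing.toD I) i) := fun i => by
    haveI := hω.finite_cohomology i
    exact Module.Finite.equiv
      ((homologyFunctor (ModuleCat.{u} A) i).mapIso e).toLinearEquiv.symm
  exact ⟨_, isDualizing_cCx (B := B) I a b hv hinj hend hext hfin⟩

/-- comparison of a coextension with the explicit model -/
theorem exists_model_of_isCoext (K : Dual.D A) (c : ℤ)
    (hKc : ∀ i : ℤ, i < c → Subsingleton (Dual.HD A K i))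
    (Y : Dual.D B) (ε : (DRing.restrictD (algebraMap A B)).obj Y ⟶ K)
    (h : IsCoext (algebraMap A B) K Y ε) :
    ∃ (E : DRing.Cx A), (∀ i : ℤ, i < c → IsZero (E.X i)) ∧ E.IsKInjective ∧
      Nonempty (DRing.toD E ≅ K) ∧
      Nonempty (DRing.toD ((cCx (algebraMap A B)).obj E) ≅ Y) := by
  haveI : K.IsGE c := isGE_of_HD K c hKc
  obtain ⟨E, hE0, hEinj, ⟨e⟩⟩ := exists_injective_rep K c
  haveI hKI : E.IsKInjective := isKInjective_of_vanishesBelow E c hE0 hEinj
  have hco := (isCoext_cCx (algebraMap A B) E).of_iso e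
  exact ⟨E, hE0, hKI, ⟨e⟩, hco.nonempty_iso h⟩

/-- **Finiteness of the cohomology of a coextension.** -/
theorem finite_HD_of_isCoext (K : Dual.D A) (c : ℤ)
    (hKc : ∀ i : ℤ, i < c → Subsingleton (Dual.HD A K i))
    (hK : ∀ i : ℤ, Module.Finite A (Dual.HD A K i))
    (Y : Dual.D B) (ε : (DRing.restrictD (algebraMap A B)).obj Y ⟶ K)
    (h : IsCoext (algebraMap A B) K Y ε) (n : ℤ) : Module.Finite B (Dual.HD B Y n) := by
  obtain ⟨E, hE0, hKI, ⟨e⟩, ⟨i⟩⟩ := exists_model_of_isCoext K c hKc Y ε h
  haveI := hKI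
  have hEc : ∀ j : ℤ, j < c → Subsingleton (Dual.HD A (DRing.toD E) j) :=
    fun j hj => DFinExt.subsingleton_HD_toD E j (hE0 j hj)
  have hEfin : ∀ j : ℤ, Module.Finite A (Dual.HD A (DRing.toD E) j) := fun j => by
    haveI := hK j
    exact Module.Finite.equiv
      ((homologyFunctor (ModuleCat.{u} A) j).mapIso e).toLinearEquiv.symm
  haveI := finite_HD_cCx (B := B) E c hEc hEfin n
  exact Module.Finite.equiv ((homologyFunctor (ModuleCat.{u} B) n).mapIso i).toLinearEquiv

/-- a coextension of a bounded below object is bounded below -/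
theorem subsingleton_HD_of_isCoext (K : Dual.D A) (c : ℤ)
    (hKc : ∀ i : ℤ, i < c → Subsingleton (Dual.HD A K i))
    (Y : Dual.D B) (ε : (DRing.restrictD (algebraMap A B)).obj Y ⟶ K)
    (h : IsCoext (algebraMap A B) K Y ε) (n : ℤ) (hn : n < c) :
    Subsingleton (Dual.HD B Y n) := by
  obtain ⟨E, hE0, hKI, ⟨e⟩, ⟨i⟩⟩ := exists_model_of_isCoext K c hKc Y ε h
  have hz : IsZero (((cCx (algebraMap A B)).obj E).X n) :=
    Functor.map_isZero (cF (algebraMap A B)) (hE0 n hn)
  haveI := DFinExt.subsingleton_HD_toD ((cCx (algebraMap A B)).obj E) n hz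
  exact ((homologyFunctor (ModuleCat.{u} B) n).mapIso i).toLinearEquiv.symm.toEquiv.subsingleton

end General

section Normalized

variable {A B : Type u} [CommRing A] [CommRing B] [IsLocalRing A] [IsLocalRing B] [Algebra A B]
  [IsLocalHom (algebraMap A B)]

/-- the residue field of `B` as an `A`-module -/
noncomputable abbrev kBA (A B : Type u) [CommRing A] [CommRing B] [IsLocalRing B] [Algebra A B] :
    ModuleCat.{u} A :=
  (rF (algebraMap A B)).obj (ModuleCat.of B (IsLocalRing.ResidueField B))

/-- the residue map as an `A`-linear map -/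
noncomputable def resLin : B →ₗ[A] kBA A B where
  toFun b := IsLocalRing.residue B b
  map_add' x y := map_add _ x y
  map_smul' a b := by
    rw [RingHom.id_apply, Algebra.smul_def, map_mul]
    rfl

instance finite_kBA [Module.Finite A B] : Module.Finite A (kBA A B) :=
  Module.Finite.of_surjective (resLin (A := A) (B := B)) IsLocalRing.residue_surjective

lemma kBA_killed (r : A) (hr : r ∈ IsLocalRing.maximalIdeal A) (x : kBA A B) : r • x = 0 := by
  have h1 : algebraMap A B r ∈ IsLocalRing.maximalIdeal B := by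
    rw [IsLocalRing.mem_maximalIdeal, mem_nonunits_iff] at hr ⊢
    exact fun hu => hr (isUnit_of_map_unit (algebraMap A B) r hu)
  have h2 : IsLocalRing.residue B (algebraMap A B r) = 0 :=
    (IsLocalRing.residue_eq_zero_iff _).mpr h1
  show (algebraMap A B r) • (show IsLocalRing.ResidueField B from x) = 0
  rw [Algebra.smul_def]
  show IsLocalRing.residue B (algebraMap A B r) * _ = 0
  rw [h2, zero_mul]

/-- **A coextension of a normalized complex along a finite local map is normalized.** -/
theorem isNormalized_of_isCoext [IsNoetherianRing A] [Module.Finite A B] (ω : Dual.D A)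
    (hn : Dual.IsNormalized A ω)
    (Y : Dual.D B) (ε : (DRing.restrictD (algebraMap A B)).obj Y ⟶ ω)
    (h : IsCoext (algebraMap A B) ω Y ε) : Dual.IsNormalized B Y := by
  intro i hi
  have hV : Subsingleton (Dual.inD A (A ⧸ IsLocalRing.maximalIdeal A) ⟶ ω⟦i⟧) := hn i hi
  haveI := subsingleton_of_killed (IsLocalRing.maximalIdeal A) (kBA A B) kBA_killed (ω⟦i⟧) hV
  let eS := rDSingle (algebraMap A B) 0 (ModuleCat.of B (IsLocalRing.ResidueField B))
  haveI : Subsingleton ((DRing.restrictD (algebraMap A B)).obj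
      (Dual.inD B (IsLocalRing.ResidueField B)) ⟶ ω⟦i⟧) :=
    (Iso.homCongr eS (Iso.refl (ω⟦i⟧))).subsingleton
  exact (h.homShiftEquiv (Dual.inD B (IsLocalRing.ResidueField B)) i).subsingleton

end Normalized

end Groth.Agent.Helper6.Coext
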