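import Mathlib
import Groth.Prelude.Def_DRing4

/-!
# Exactness of a mapping cone in terms of the map induced in homology
-/

set_option autoImplicit false
universe u
open CategoryTheory CategoryTheory.Limits

attribute [local instance] HasDerivedCategory.standard

namespace Groth.Agent.Helper6.ConeLES

variable {A : Type u} [CommRing A] {K L : DRing.Cx A} (φ : K ⟶ L)

lemma exactAt_mappingCone (n : ℤ) (h1 : Epi (HomologicalComplex.homologyMap φ n))
    (h2 : Mono (HomologicalComplex.homologyMap φ (n + 1))) :
    (CochainComplex.mappingCone φ).ExactAt n := by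
  have hT := DerivedCategory.mappingCone_triangle_distinguished φ
  have e2 := CochainComplex.homologyMap_exact₂_of_distTriang
    (CochainComplex.mappingCone.triangle φ) hT n
  have e3 := CochainComplex.homologyMap_exact₃_of_distTriang
    (CochainComplex.mappingCone.triangle φ) hT n (n + 1) rfl
  have e1 := CochainComplex.homologyMap_exact₁_of_distTriang
    (CochainComplex.mappingCone.triangle φ) hT n (n + 1) rfl
  rw [HomologicalComplex.exactAt_iff_isZero_homology]
  have hinr : HomologicalComplex.homologyMap (CochainComplex.mappingCone.triangle φ).mor₂ n = 0 :=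
    e2.epi_f_iff.mp h1
  have hδ : CochainComplex.homologyδOfTriangle (CochainComplex.mappingCone.triangle φ) n (n + 1)
      rfl = 0 := e1.mono_g_iff.mp h2
  exact e3.isZero_X₂ hinr hδ

lemma epi_homologyMap_of_exactAt (n : ℤ) (h : (CochainComplex.mappingCone φ).ExactAt n) :
    Epi (HomologicalComplex.homologyMap φ n) := by
  have hT := DerivedCategory.mappingCone_triangle_distinguished φ
  have e2 := CochainComplex.homologyMap_exact₂_of_distTriang
    (CochainComplex.mappingCone.triangle φ) hT n
  rw [HomologicalComplex.exactAt_iff_isZero_homology] at h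
  exact e2.epi_f_iff.mpr (h.eq_of_tgt _ _)

lemma exactAt_mappingCone_of_eq {φ' : K ⟶ L} (hφ : φ = φ') (n : ℤ)
    (h : (CochainComplex.mappingCone φ').ExactAt n) : (CochainComplex.mappingCone φ).ExactAt n := by
  subst hφ
  exact h

end Groth.Agent.Helper6.ConeLES
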