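import Mathlib
import Groth.Prelude.Def_DRing4
import Groth.Agent.Helper3.DRingTor1

/-!
# Tensoring a termwise flat complex with a short exact sequence of modules; homology
-/

set_option autoImplicit false
universe u
open CategoryTheory CategoryTheory.Limits MonoidalCategory

namespace Groth.Agent.Helper6.TensorSES

variable {A : Type u} [CommRing A]

/-- functoriality of `tensorCx` in the module -/
noncomputable def tmap (P : DRing.Cx A) {N N' : ModuleCat.{u} A} (g : N ⟶ N') :
    DRing.tensorCx P N ⟶ DRing.tensorCx P N' :=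
  (NatTrans.mapHomologicalComplex ((tensoringRight (ModuleCat.{u} A)).map g)
    (ComplexShape.up ℤ)).app P

lemma tmap_f (P : DRing.Cx A) {N N' : ModuleCat.{u} A} (g : N ⟶ N') (i : ℤ) :
    (tmap P g).f i = P.X i ◁ g := rfl

lemma tmap_comp (P : DRing.Cx A) {N N' N'' : ModuleCat.{u} A} (g : N ⟶ N') (g' : N' ⟶ N'') :
    tmap P (g ≫ g') = tmap P g ≫ tmap P g' := by
  ext i : 1
  rw [HomologicalComplex.comp_f, tmap_f, tmap_f, tmap_f, MonoidalCategory.whiskerLeft_comp]
  rfl

lemma tmap_zero (P : DRing.Cx A) (N N' : ModuleCat.{u} A) :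
    tmap P (0 : N ⟶ N') = 0 := by
  ext i : 1
  rw [tmap_f, HomologicalComplex.zero_f]
  exact MonoidalPreadditive.whiskerLeft_zero

lemma tmap_smul (P : DRing.Cx A) (N : ModuleCat.{u} A) (a : A) :
    tmap P (a • 𝟙 N) = a • 𝟙 (DRing.tensorCx P N) := by
  ext i : 1
  rw [tmap_f, HomologicalComplex.smul_f_apply, HomologicalComplex.id_f,
    MonoidalLinear.whiskerLeft_smul, MonoidalCategory.whiskerLeft_id]
  rfl

/-- the short complex of complexes `P ⊗ S` -/
noncomputable def tsc (P : DRing.Cx A) (S : ShortComplex (ModuleCat.{u} A)) :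
    ShortComplex (DRing.Cx A) :=
  ShortComplex.mk (tmap P S.f) (tmap P S.g) (by rw [← tmap_comp, S.zero, tmap_zero])

lemma whiskerLeft_hom (X : ModuleCat.{u} A) {N N' : ModuleCat.{u} A} (g : N ⟶ N') :
    (X ◁ g).hom = g.hom.lTensor X := rfl

lemma tsc_shortExact (P : DRing.Cx A) (fP : DRing.TermwiseFlat P)
    (S : ShortComplex (ModuleCat.{u} A)) (hS : S.ShortExact) : (tsc P S).ShortExact := by
  apply HomologicalComplex.shortExact_of_degreewise_shortExact
  intro i
  haveI : Module.Flat A (P.X i) := fP i
  have hinj : Function.Injective S.f.hom := hS.moduleCat_injective_f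
  have hsurj : Function.Surjective S.g.hom := hS.moduleCat_surjective_g
  have hex : Function.Exact S.f.hom S.g.hom :=
    (ShortComplex.ShortExact.moduleCat_exact_iff_function_exact S).mp hS.exact
  haveI : Mono (((tsc P S).map (HomologicalComplex.eval _ _ i)).f) := by
    rw [ModuleCat.mono_iff_injective]
    exact Module.Flat.lTensor_preserves_injective_linearMap (M := P.X i) S.f.hom hinj
  haveI : Epi (((tsc P S).map (HomologicalComplex.eval _ _ i)).g) := by
    rw [ModuleCat.epi_iff_surjective]
    exact LinearMap.lTensor_surjective (P.X i) hsurj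
  refine ShortComplex.ShortExact.mk ?_
  rw [ShortComplex.ShortExact.moduleCat_exact_iff_function_exact]
  exact lTensor_exact (P.X i) hex hsurj

section LES

variable {T : ShortComplex (DRing.Cx A)} (hT : T.ShortExact)

include hT

lemma mono_homologyMap_g (i : ℤ) (h : T.X₁.ExactAt i) :
    Mono (HomologicalComplex.homologyMap T.g i) := by
  rw [HomologicalComplex.exactAt_iff_isZero_homology] at h
  exact (hT.homology_exact₂ i).mono_g (h.eq_of_src _ _)

lemma epi_homologyMap_g (i : ℤ) (h : T.X₁.ExactAt (i + 1)) :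
    Epi (HomologicalComplex.homologyMap T.g i) := by
  rw [HomologicalComplex.exactAt_iff_isZero_homology] at h
  exact (hT.homology_exact₃ i (i + 1) (by simp)).epi_f (h.eq_of_tgt _ _)

lemma epi_homologyMap_f (i : ℤ) (h : T.X₃.ExactAt i) :
    Epi (HomologicalComplex.homologyMap T.f i) := by
  rw [HomologicalComplex.exactAt_iff_isZero_homology] at h
  exact (hT.homology_exact₂ i).epi_f (h.eq_of_tgt _ _)

lemma mono_homologyMap_f (i : ℤ) (h : T.X₃.ExactAt (i - 1)) :
    Mono (HomologicalComplex.homologyMap T.f i) := by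
  rw [HomologicalComplex.exactAt_iff_isZero_homology] at h
  exact (hT.homology_exact₁ (i - 1) i (by simp)).mono_g (h.eq_of_src _ _)

end LES

end Groth.Agent.Helper6.TensorSES
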