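import Mathlib
import Groth.Prelude.Def_DRing4
import Groth.Agent.Helper6.TensorSES
import Groth.Agent.Helper6.ConeLES
import Groth.Agent.Helper6.RingChangeAmp
import Groth.Agent.Helper3.DRingH
import Groth.Agent.Helper3.DRingComp
import Groth.Agent.Helper3.DRingCone

/-!
# Derived Nakayama
-/

set_option autoImplicit false
universe u
open CategoryTheory CategoryTheory.Limits MonoidalCategory DerivedCategory

attribute [local instance] HasDerivedCategory.standard

namespace Groth.Agent.Helper6.DerNak

open Groth.Agent.Helper3.DRingLib Groth.Agent.Helper6.TensorSES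

variable {A : Type u} [CommRing A]

/-- (F) change of rings: exactness above `b` of `P ⊗ A/I` gives exactness above `b` of `P ⊗ N`
for all modules `N` killed by a power of `I` -/
theorem exactAt_tensorCx_of_killed (I : Ideal A) (P : DRing.Cx A) [P.IsKProjective]
    (fP : DRing.TermwiseFlat P) (b : ℤ)
    (h : ∀ n, b < n → (DRing.tensorCx P (ModuleCat.of A (A ⧸ I))).ExactAt n)
    (N : ModuleCat.{u} A) (k : ℕ) (hN : I ^ k • (⊤ : Submodule A N) = ⊥) (n : ℤ) (hn : b < n) :
    (DRing.tensorCx P N).ExactAt n := by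
  have hφ : Function.Surjective (Ideal.Quotient.mk I) := Ideal.Quotient.mk_surjective
  refine Groth.Agent.Helper6.KilledMod.exactAt_tensorCx_of_pow (Ideal.Quotient.mk I) hφ P fP n ?_ k
    N (by rw [Ideal.mk_ker]; exact hN)
  intro Nb
  apply Groth.Agent.Helper6.RingChangeTen.exactAt_tensorCx_res (Ideal.Quotient.mk I) Nb P n
  haveI : ((Groth.Agent.Helper6.LBCCompute.bcCxF (Ideal.Quotient.mk I)).obj P).IsKProjective :=
    Groth.Agent.Helper6.LBaseCmp.isKProjective_ext (Ideal.Quotient.mk I) P
  apply Groth.Agent.Helper6.RingChangeAmp.exactAt_tensorCx_of_exactAt_above _ b ?_ Nb n hn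
  intro j hj
  apply exactAt_of_exactAt_tensorCx_unit
  apply Groth.Agent.Helper6.RingChangeTen.exactAt_tensorCx_ext (Ideal.Quotient.mk I)
    (ModuleCat.of (A ⧸ I) (A ⧸ I)) P j
  apply Groth.Agent.Helper6.RingChangeTen.exactAt_tensorCx_of_iso P
    (Groth.Agent.Helper6.RingChangeTen.quotIso I) j
  exact h j hj

/-- a module which is derived `f`-complete and on which `f` acts surjectively is zero -/
lemma subsingleton_of_dcf_of_surjective (f : A) (M : Type u) [AddCommGroup M] [Module A M]
    (hdc : DCf f (Dual.inD A M)) (hs : Function.Surjective (fun x : M => f • x)) :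
    Subsingleton M := by
  rw [dcf_module_iff_seq] at hdc
  refine ⟨fun x y => ?_⟩
  suffices h0 : ∀ z : M, z = 0 by rw [h0 x, h0 y]
  intro z
  let s : ℕ → M := fun k => Nat.rec z (fun _ w => (hs w).choose) k
  have hs' : ∀ k, f • s (k + 1) = s k := fun k => (hs (s k)).choose_spec
  have h1 : seqOp f M s = seqOp f M 0 := by
    funext k
    show f • s (k + 1) - s k = f • (0 : M) - 0
    rw [hs' k, sub_self, smul_zero, sub_zero]
  have h2 := hdc.1 h1
  have : s 0 = 0 := congrFun h2 0
  exact this

lemma homologyMap_smul (a : A) {K L : DRing.Cx A} (φ : K ⟶ L) (n : ℤ) :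
    HomologicalComplex.homologyMap (a • φ) n = a • HomologicalComplex.homologyMap φ n := by
  have h : (HomologicalComplex.shortComplexFunctor (ModuleCat.{u} A) (ComplexShape.up ℤ) n).map
      (a • φ) = a • (HomologicalComplex.shortComplexFunctor (ModuleCat.{u} A)
        (ComplexShape.up ℤ) n).map φ := by
    ext <;> rfl
  show ShortComplex.homologyMap ((HomologicalComplex.shortComplexFunctor (ModuleCat.{u} A)
    (ComplexShape.up ℤ) n).map (a • φ)) = _
  rw [h, ShortComplex.homologyMap_smul]
  rfl

/-- (G) -/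
lemma exactAt_of_epi_smul (P : DRing.Cx A) (f : A) (hdc : DCf f (DRing.toD P)) (n : ℤ)
    (hepi : Epi (HomologicalComplex.homologyMap (f • 𝟙 P) n)) : P.ExactAt n := by
  rw [homologyMap_smul, HomologicalComplex.homologyMap_id] at hepi
  rw [ModuleCat.epi_iff_surjective] at hepi
  have hs : Function.Surjective (fun x : P.homology n => f • x) := hepi
  let e : (DerivedCategory.homologyFunctor (ModuleCat.{u} A) n).obj (DRing.toD P) ≅ P.homology n :=
    (DerivedCategory.homologyFunctorFactors (ModuleCat.{u} A) n).app P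
  have hs' : Function.Surjective (fun x : Dual.HD A (DRing.toD P) n => f • x) := by
    intro x
    obtain ⟨y, hy⟩ := hs (e.hom x)
    refine ⟨e.inv y, ?_⟩
    show f • e.inv y = x
    rw [← map_smul]
    have : f • y = e.hom x := hy
    rw [this]
    exact congrArg (fun g => g x) (congrArg (fun g => g.hom) e.hom_inv_id)
  have hd := (dcf_iff_homology f (DRing.toD P)).mp hdc n
  have hsub := subsingleton_of_dcf_of_surjective f _ hd hs'
  rw [HomologicalComplex.exactAt_iff_isZero_homology]
  exact (ModuleCat.isZero_of_subsingleton _).of_iso e.symm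

/-- exactness transfers along isomorphisms of complexes -/
lemma exactAt_of_iso {K L : DRing.Cx A} (e : K ≅ L) (n : ℤ) (h : K.ExactAt n) : L.ExactAt n := by
  rw [HomologicalComplex.exactAt_iff_isZero_homology] at h ⊢
  exact h.of_iso ((HomologicalComplex.homologyFunctor _ _ n).mapIso e).symm

/-- (H) the terms of a mapping cone of termwise flat complexes are flat -/
lemma termwiseFlat_mappingCone {K L : DRing.Cx A} (φ : K ⟶ L) (fK : DRing.TermwiseFlat K)
    (fL : DRing.TermwiseFlat L) : DRing.TermwiseFlat (CochainComplex.mappingCone φ) :=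
  Groth.Agent.Helper3.DRingLib.cone_termwiseFlat φ fK fL

/-- (I) tensoring the cone of `f • 𝟙` -/
lemma exactAt_tensorCx_cone (P : DRing.Cx A) (f : A) (N : ModuleCat.{u} A) (n : ℤ)
    (h : (CochainComplex.mappingCone (f • 𝟙 (DRing.tensorCx P N))).ExactAt n) :
    (DRing.tensorCx (CochainComplex.mappingCone (f • 𝟙 P)) N).ExactAt n := by
  have hmap : ((tensorRight N).mapHomologicalComplex (ComplexShape.up ℤ)).map (f • 𝟙 P) =
      f • 𝟙 (DRing.tensorCx P N) := by
    ext i : 1
    show ((f • 𝟙 P).f i) ▷ N = (f • 𝟙 (DRing.tensorCx P N)).f i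
    rw [HomologicalComplex.smul_f_apply, HomologicalComplex.smul_f_apply,
      HomologicalComplex.id_f, HomologicalComplex.id_f, MonoidalLinear.smul_whiskerRight,
      MonoidalCategory.id_whiskerRight]
    rfl
  have e := CochainComplex.mappingCone.mapHomologicalComplexIso (f • 𝟙 P) (tensorRight N)
  refine exactAt_of_iso e.symm n ?_
  exact Groth.Agent.Helper6.ConeLES.exactAt_mappingCone_of_eq _ hmap n h

section sequences

variable (M : ModuleCat.{u} A) (f : A)

/-- multiplication by `f` -/
noncomputable abbrev gf : M →ₗ[A] M := f • LinearMap.id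

noncomputable abbrev N1 : ModuleCat.{u} A := ModuleCat.of A (LinearMap.ker (gf M f))
noncomputable abbrev N2 : ModuleCat.{u} A := ModuleCat.of A (LinearMap.range (gf M f))
noncomputable abbrev N3 : ModuleCat.{u} A := ModuleCat.of A (M ⧸ LinearMap.range (gf M f))

noncomputable def i1 : N1 M f ⟶ M := ModuleCat.ofHom (LinearMap.ker (gf M f)).subtype
noncomputable def g1 : M ⟶ N2 M f := ModuleCat.ofHom (gf M f).rangeRestrict
noncomputable def i2 : N2 M f ⟶ M := ModuleCat.ofHom (LinearMap.range (gf M f)).subtype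
noncomputable def g2 : M ⟶ N3 M f := ModuleCat.ofHom (LinearMap.range (gf M f)).mkQ

lemma i1_g1 : i1 M f ≫ g1 M f = 0 := by
  refine ModuleCat.hom_ext (LinearMap.ext fun x => Subtype.ext ?_)
  exact x.2

lemma i2_g2 : i2 M f ≫ g2 M f = 0 := by
  refine ModuleCat.hom_ext (LinearMap.ext fun x => ?_)
  exact (Submodule.Quotient.mk_eq_zero _).mpr x.2

lemma g1_i2 : g1 M f ≫ i2 M f = f • 𝟙 M := by
  refine ModuleCat.hom_ext (LinearMap.ext fun x => ?_)
  rfl

/-- `0 → ker f → M → f M → 0` -/
noncomputable def S1 : ShortComplex (ModuleCat.{u} A) :=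
  ShortComplex.mk (i1 M f) (g1 M f) (i1_g1 M f)

/-- `0 → f M → M → M / f M → 0` -/
noncomputable def S2 : ShortComplex (ModuleCat.{u} A) :=
  ShortComplex.mk (i2 M f) (g2 M f) (i2_g2 M f)

lemma S1_shortExact : (S1 M f).ShortExact := by
  have hex : (S1 M f).Exact := by
    rw [ShortComplex.moduleCat_exact_iff]
    intro x hx
    have hx' : (gf M f).rangeRestrict x = 0 := hx
    have : x ∈ LinearMap.ker (gf M f) := by
      show (gf M f) x = 0
      exact congrArg Subtype.val hx'
    exact ⟨⟨x, this⟩, rfl⟩
  haveI : Mono (S1 M f).f := by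
    rw [ModuleCat.mono_iff_injective]
    exact (LinearMap.ker (gf M f)).injective_subtype
  haveI : Epi (S1 M f).g := by
    rw [ModuleCat.epi_iff_surjective]
    exact (gf M f).surjective_rangeRestrict
  exact ShortComplex.ShortExact.mk hex

lemma S2_shortExact : (S2 M f).ShortExact := by
  have hex : (S2 M f).Exact := by
    rw [ShortComplex.moduleCat_exact_iff]
    intro x hx
    have : x ∈ LinearMap.range (gf M f) := by
      have hx' : (LinearMap.range (gf M f)).mkQ x = 0 := hx
      exact (Submodule.Quotient.mk_eq_zero _).mp hx'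
    exact ⟨⟨x, this⟩, rfl⟩
  haveI : Mono (S2 M f).f := by
    rw [ModuleCat.mono_iff_injective]
    exact (LinearMap.range (gf M f)).injective_subtype
  haveI : Epi (S2 M f).g := by
    rw [ModuleCat.epi_iff_surjective]
    exact (LinearMap.range (gf M f)).mkQ_surjective
  exact ShortComplex.ShortExact.mk hex

end sequences

/-- a module annihilated by `I` satisfies `I ^ 1 • ⊤ = ⊥` -/
lemma killed_of_forall (I : Ideal A) (N : ModuleCat.{u} A) (h : ∀ a ∈ I, ∀ x : N, a • x = 0) :
    I ^ 1 • (⊤ : Submodule A N) = ⊥ := by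
  rw [pow_one, eq_bot_iff, Submodule.smul_le]
  intro a ha x _
  rw [Submodule.mem_bot]
  exact h a ha x

/-- elements of `span (f :: fs)` kill everything killed by `f` and by `span fs` -/
lemma smul_eq_zero_of_mem_span_cons (f : A) (fs : List A) (N : Type u) [AddCommGroup N]
    [Module A N] (x : N) (hf : f • x = 0) (hfs : ∀ a ∈ Ideal.span {a | a ∈ fs}, a • x = 0)
    (a : A) (ha : a ∈ Ideal.span {a | a ∈ f :: fs}) : a • x = 0 := by
  have hle : Ideal.span {a | a ∈ f :: fs} ≤ (Submodule.span A {x}).annihilator := by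
    rw [Ideal.span_le]
    intro c hc
    have hc' : c ∈ f :: fs := hc
    rw [SetLike.mem_coe, Submodule.mem_annihilator_span_singleton]
    rcases List.mem_cons.mp hc' with rfl | hc''
    · exact hf
    · exact hfs c (Ideal.subset_span hc'')
  have := hle ha
  rwa [Submodule.mem_annihilator_span_singleton] at this

lemma quot_smul_eq_zero (I : Ideal A) (a : A) (ha : a ∈ I) (x : A ⧸ I) : a • x = 0 := by
  obtain ⟨y, rfl⟩ := Ideal.Quotient.mk_surjective x
  rw [← Ideal.Quotient.mk_eq_mk, ← Submodule.Quotient.mk_smul, smul_eq_mul]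
  exact (Submodule.Quotient.mk_eq_zero _).mpr (I.mul_mem_right y ha)

/-- base case: the zero ideal -/
lemma exactAt_of_tensor_bot (I : Ideal A) (hI : I = ⊥) (P : DRing.Cx A) (n : ℤ)
    (h : (DRing.tensorCx P (ModuleCat.of A (A ⧸ I))).ExactAt n) : P.ExactAt n := by
  apply exactAt_of_exactAt_tensorCx_unit
  refine Groth.Agent.Helper6.RingChangeTen.exactAt_tensorCx_of_iso P
    (LinearEquiv.toModuleIso (Submodule.quotEquivOfEqBot I hI)) n h

open Pretriangulated in
/-- **Derived Nakayama**, complex form -/
theorem exactAt_of_tensor_quotient (fs : List A) : ∀ (P : DRing.Cx A) [P.IsKProjective]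
    (_ : DRing.TermwiseFlat P)
    (_ : DRing.IsDerivedComplete (Ideal.span {a | a ∈ fs}) (DRing.toD P)) (b : ℤ)
    (_ : ∀ n, b < n →
      (DRing.tensorCx P (ModuleCat.of A (A ⧸ Ideal.span {a | a ∈ fs}))).ExactAt n),
    ∀ n, b < n → P.ExactAt n := by
  induction fs with
  | nil =>
    intro P _ fP hdc b h n hn
    refine exactAt_of_tensor_bot _ ?_ P n (h n hn)
    rw [Ideal.span_eq_bot]
    intro x hx
    exact absurd hx (List.not_mem_nil)
  | cons f fs ih =>
    intro P _ fP hdc b h n hn
    set I : Ideal A := Ideal.span {a | a ∈ f :: fs} with hIdef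
    set I' : Ideal A := Ideal.span {a | a ∈ fs} with hI'def
    have hle : I' ≤ I := Ideal.span_mono (fun a ha => List.mem_cons_of_mem f ha)
    have hfI : f ∈ I := Ideal.subset_span (List.mem_cons_self)
    let M : ModuleCat.{u} A := ModuleCat.of A (A ⧸ I')
    let P' : DRing.Cx A := CochainComplex.mappingCone (f • 𝟙 P)
    haveI : P'.IsKProjective := Groth.Agent.Helper6.KProjRes.isKProjective_mappingCone _
    have fP' : DRing.TermwiseFlat P' := termwiseFlat_mappingCone _ fP fP
    have hdc' : DRing.IsDerivedComplete I' (DRing.toD P) := fun g hg k => hdc g (hle hg) k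
    have hdcP' : DRing.IsDerivedComplete I' (DRing.toD P') :=
      isDerivedComplete_obj₃ I' _ (DerivedCategory.mappingCone_triangle_distinguished (f • 𝟙 P))
        hdc' hdc'
    -- the two modules killed by `I`
    have hM : ∀ a ∈ I', ∀ x : M, a • x = 0 := fun a ha x => quot_smul_eq_zero I' a ha x
    have hk1 : I ^ 1 • (⊤ : Submodule A (N1 M f)) = ⊥ := by
      apply killed_of_forall
      intro a ha x
      apply Subtype.ext
      show a • (x.1 : M) = 0
      refine smul_eq_zero_of_mem_span_cons f fs M x.1 ?_ (fun c hc => hM c hc _) a ha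
      exact x.2
    have hk3 : I ^ 1 • (⊤ : Submodule A (N3 M f)) = ⊥ := by
      apply killed_of_forall
      intro a ha x
      obtain ⟨y, rfl⟩ := Submodule.Quotient.mk_surjective (LinearMap.range (gf M f)) x
      refine smul_eq_zero_of_mem_span_cons f fs (M ⧸ LinearMap.range (gf M f)) _ ?_
        (fun c hc => ?_) a ha
      · rw [← Submodule.Quotient.mk_smul]
        exact (Submodule.Quotient.mk_eq_zero _).mpr ⟨y, rfl⟩
      · rw [← Submodule.Quotient.mk_smul, hM c hc y]
        rfl
    have hX1 : ∀ j, b < j → (DRing.tensorCx P (N1 M f)).ExactAt j := fun j hj =>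
      exactAt_tensorCx_of_killed I P fP b h _ 1 hk1 j hj
    have hX3 : ∀ j, b < j → (DRing.tensorCx P (N3 M f)).ExactAt j := fun j hj =>
      exactAt_tensorCx_of_killed I P fP b h _ 1 hk3 j hj
    have hT1 := tsc_shortExact P fP (S1 M f) (S1_shortExact M f)
    have hT2 := tsc_shortExact P fP (S2 M f) (S2_shortExact M f)
    have hfact : f • 𝟙 (DRing.tensorCx P M) = tmap P (g1 M f) ≫ tmap P (i2 M f) := by
      rw [← tmap_comp, g1_i2, tmap_smul]
    have hcone : ∀ j, b < j → (DRing.tensorCx P' M).ExactAt j := by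
      intro j hj
      apply exactAt_tensorCx_cone
      apply Groth.Agent.Helper6.ConeLES.exactAt_mappingCone
      · rw [hfact, HomologicalComplex.homologyMap_comp]
        haveI : Epi (HomologicalComplex.homologyMap (tmap P (g1 M f)) j) :=
          epi_homologyMap_g hT1 j (hX1 (j + 1) (by omega))
        haveI : Epi (HomologicalComplex.homologyMap (tmap P (i2 M f)) j) :=
          epi_homologyMap_f hT2 j (hX3 j hj)
        exact epi_comp _ _
      · rw [hfact, HomologicalComplex.homologyMap_comp]
        haveI : Mono (HomologicalComplex.homologyMap (tmap P (g1 M f)) (j + 1)) :=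
          mono_homologyMap_g hT1 (j + 1) (hX1 (j + 1) (by omega))
        haveI : Mono (HomologicalComplex.homologyMap (tmap P (i2 M f)) (j + 1)) :=
          mono_homologyMap_f hT2 (j + 1) (by
            have hjj : j + 1 - 1 = j := by omega
            rw [hjj]
            exact hX3 j hj)
        exact mono_comp _ _
    have hP' : ∀ j, b < j → P'.ExactAt j := ih P' fP' hdcP' b hcone
    have hepi := Groth.Agent.Helper6.ConeLES.epi_homologyMap_of_exactAt (f • 𝟙 P) n (hP' n hn)
    exact exactAt_of_epi_smul P f ((isDerivedComplete_iff_dcf I _).mp hdc f hfI) n hepi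

/-- a finitely generated ideal is the span of a list -/
lemma exists_list_of_fg (I : Ideal A) (hI : I.FG) : ∃ fs : List A, I = Ideal.span {a | a ∈ fs} := by
  classical
  obtain ⟨s, hs⟩ := hI
  refine ⟨s.toList, ?_⟩
  rw [← hs]
  congr 1
  ext a
  simp

/-- an acyclic complex is zero in the derived category -/
lemma isZero_toD_of_exactAt (P : DRing.Cx A) (h : ∀ n, P.ExactAt n) : IsZero (DRing.toD P) := by
  have hq : QuasiIso (0 : P ⟶ P) := by
    rw [quasiIso_iff]
    intro n
    rw [quasiIsoAt_iff_exactAt _ _ (h n)]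
    exact h n
  rw [IsZero.iff_id_eq_zero]
  have h1 : IsIso (DerivedCategory.Q.map (0 : P ⟶ P)) :=
    (DerivedCategory.isIso_Q_map_iff_quasiIso _ _).mpr hq
  rw [Functor.map_zero] at h1
  have := IsIso.hom_inv_id (f := (0 : DerivedCategory.Q.obj P ⟶ DerivedCategory.Q.obj P))
  rw [zero_comp] at this
  exact this.symm

/-- homology of an object of `D(A)` computed by a representative -/
lemma subsingleton_HD_iff_exactAt (P : DRing.Cx A) {K : Dual.D A} (e : DRing.toD P ≅ K) (i : ℤ) :
    Subsingleton (Dual.HD A K i) ↔ P.ExactAt i := by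
  let e2 : (DerivedCategory.homologyFunctor (ModuleCat.{u} A) i).obj K ≅ P.homology i :=
    (DerivedCategory.homologyFunctor (ModuleCat.{u} A) i).mapIso e.symm ≪≫
      (DerivedCategory.homologyFunctorFactors (ModuleCat.{u} A) i).app _
  rw [HomologicalComplex.exactAt_iff_isZero_homology]
  constructor
  · intro h
    exact (ModuleCat.isZero_of_subsingleton _).of_iso e2.symm
  · intro h
    exact ModuleCat.subsingleton_of_isZero (h.of_iso e2)

/-- **Derived Nakayama** in `D(A)`: bounds on the cohomology of `K ⊗^L A/I` give bounds for `K` -/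
theorem subsingleton_HD_of_LTensor (I : Ideal A) (hI : I.FG)
    [DRing.HasLTensor A (ModuleCat.of A (A ⧸ I))]
    (K : Dual.D A) (hc : DRing.IsDerivedComplete I K) (b : ℤ)
    (h : ∀ i : ℤ, b < i →
      Subsingleton (Dual.HD A ((DRing.LTensor A (ModuleCat.of A (A ⧸ I))).obj K) i)) :
    ∀ i : ℤ, b < i → Subsingleton (Dual.HD A K i) := by
  classical
  obtain ⟨fs, hfs⟩ := exists_list_of_fg I hI
  obtain ⟨P, f, hP, hkf, hproj, hq, -⟩ :=
    Groth.Agent.Helper6.KProjRes.exists_resolution (DerivedCategory.Q.objPreimage K)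
  haveI := hP
  have hiso : IsIso (DerivedCategory.Q.map f) :=
    (DerivedCategory.isIso_Q_map_iff_quasiIso _ _).mpr hq
  let e : DRing.toD P ≅ K := asIso (DerivedCategory.Q.map f) ≪≫ DerivedCategory.Q.objObjPreimageIso K
  have fP : DRing.TermwiseFlat P := fun j => by
    haveI := hproj j
    infer_instance
  have hdcP : DRing.IsDerivedComplete I (DRing.toD P) := isDerivedComplete_of_iso I e.symm hc
  have hten : ∀ n, b < n → (DRing.tensorCx P (ModuleCat.of A (A ⧸ I))).ExactAt n := by
    intro n hn
    rw [← Groth.Agent.Helper6.LTenModCompute.subsingleton_HD_iff (ModuleCat.of A (A ⧸ I)) P e n]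
    exact h n hn
  subst hfs
  intro i hi
  rw [subsingleton_HD_iff_exactAt P e i]
  exact exactAt_of_tensor_quotient fs P fP hdcP b hten i hi

end Groth.Agent.Helper6.DerNak
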