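import Mathlib
import Groth.Prelude.Def_DRing4
import Groth.Agent.Helper3.DRingH
import Groth.Agent.Helper3.DRingTor1
import Groth.Agent.Helper6.DerNak
import Groth.Agent.Helper6.KProjQ
import Groth.Agent.Helper6.KProjRes

/-!
# Morphisms from `f`-local objects to derived `f`-complete objects vanish
-/

set_option autoImplicit false
universe u
open CategoryTheory CategoryTheory.Limits DerivedCategory

attribute [local instance] HasDerivedCategory.standard

namespace Groth.Agent.Helper6.DCHom

open Groth.Agent.Helper3.DRingLib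

variable {A : Type u} [CommRing A]

section concrete

variable (L : DRing.Cx A) (i j k : ℤ)

/-- the concrete homology `ker d / im d` -/
abbrev Hc : Type u :=
  LinearMap.ker (L.sc' i j k).g.hom ⧸ LinearMap.range (L.sc' i j k).moduleCatToCycles

noncomputable def homologyEquiv (hij : i + 1 = j) (hjk : j + 1 = k) : L.homology j ≃ₗ[A] Hc L i j k :=
  ((L.homologyIsoSc' i j k (by rw [CochainComplex.prev]; omega)
    (by rw [CochainComplex.next]; omega)) ≪≫
    (L.sc' i j k).moduleCatHomologyIso).toLinearEquiv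

/-- the class of a cycle -/
def cls (x : L.X j) (hx : (L.d j k).hom x = 0) : Hc L i j k :=
  Submodule.Quotient.mk ⟨x, hx⟩

lemma cls_eq_zero_iff (x : L.X j) (hx : (L.d j k).hom x = 0) :
    cls L i j k x hx = 0 ↔ ∃ y : L.X i, (L.d i j).hom y = x := by
  unfold cls
  rw [Submodule.Quotient.mk_eq_zero]
  constructor
  · rintro ⟨y, hy⟩
    exact ⟨y, congrArg Subtype.val hy⟩
  · rintro ⟨y, hy⟩
    exact ⟨y, Subtype.ext hy⟩

lemma exists_cls (ξ : Hc L i j k) :
    ∃ (x : L.X j) (hx : (L.d j k).hom x = 0), cls L i j k x hx = ξ := by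
  obtain ⟨⟨x, hx⟩, rfl⟩ := Submodule.Quotient.mk_surjective _ ξ
  exact ⟨x, hx, rfl⟩

lemma cls_sub (x y : L.X j) (hx : (L.d j k).hom x = 0) (hy : (L.d j k).hom y = 0) :
    cls L i j k (x - y) (by rw [map_sub, hx, hy, sub_zero]) =
      cls L i j k x hx - cls L i j k y hy := rfl

lemma cls_smul (a : A) (x : L.X j) (hx : (L.d j k).hom x = 0) :
    cls L i j k (a • x) (by rw [map_smul, hx, smul_zero]) = a • cls L i j k x hx := rfl

end concrete

lemma seqOp_bijective_of_equiv (f : A) {M M' : Type u} [AddCommGroup M] [Module A M]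
    [AddCommGroup M'] [Module A M'] (e : M ≃ₗ[A] M') (h : Function.Bijective (seqOp f M)) :
    Function.Bijective (seqOp f M') := by
  let E : (ℕ → M) ≃ (ℕ → M') := Equiv.piCongrRight (fun _ => e.toEquiv)
  have hcomm : seqOp f M' ∘ E = E ∘ seqOp f M := by
    funext x
    funext k
    show f • e (x (k + 1)) - e (x k) = e (f • x (k + 1) - x k)
    rw [map_sub, map_smul]
  have h1 : Function.Bijective (seqOp f M' ∘ E) := by
    rw [hcomm]
    exact E.bijective.comp h
  exact (Function.Bijective.of_comp_iff _ E.bijective).mp h1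

/-- derived completeness in terms of the concrete homology of a representative -/
lemma seqOp_bijective_Hc (f : A) (L : DRing.Cx A) (h : DCf f (DRing.toD L)) (i j k : ℤ)
    (hij : i + 1 = j) (hjk : j + 1 = k) :
    Function.Bijective (seqOp f (Hc L i j k)) := by
  have h1 := (dcf_module_iff_seq f _).mp ((dcf_iff_homology f (DRing.toD L)).mp h j)
  let e : Dual.HD A (DRing.toD L) j ≃ₗ[A] L.homology j :=
    ((DerivedCategory.homologyFunctorFactors (ModuleCat.{u} A) j).app L).toLinearEquiv
  exact seqOp_bijective_of_equiv f (e.trans (homologyEquiv L i j k hij hjk)) h1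

section elementwise

variable (f : A) (L : DRing.Cx A) (i j k : ℤ) (h : Function.Bijective (seqOp f (Hc L i j k)))

include h

lemma inj_aux (x : ℕ → L.X j) (hx : ∀ m, (L.d j k).hom (x m) = 0)
    (w : ℕ → L.X i) (hw : ∀ m, f • x (m + 1) - x m = (L.d i j).hom (w m)) :
    ∃ y : ℕ → L.X i, ∀ m, (L.d i j).hom (y m) = x m := by
  let ξ : ℕ → Hc L i j k := fun m => cls L i j k (x m) (hx m)
  have h0 : seqOp f (Hc L i j k) ξ = seqOp f (Hc L i j k) 0 := by
    funext m
    show f • ξ (m + 1) - ξ m = f • (0 : Hc L i j k) - 0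
    rw [smul_zero, sub_zero]
    have h1 : f • ξ (m + 1) - ξ m = cls L i j k (f • x (m + 1) - x m)
        (by rw [map_sub, map_smul, hx, hx, smul_zero, sub_zero]) := rfl
    rw [h1, cls_eq_zero_iff]
    exact ⟨w m, (hw m).symm⟩
  have h2 := h.1 h0
  have h3 : ∀ m, ∃ y : L.X i, (L.d i j).hom y = x m := by
    intro m
    have : cls L i j k (x m) (hx m) = 0 := congrFun h2 m
    exact (cls_eq_zero_iff L i j k _ _).mp this
  exact ⟨fun m => (h3 m).choose, fun m => (h3 m).choose_spec⟩

lemma surj_aux (c : ℕ → L.X j) (hc : ∀ m, (L.d j k).hom (c m) = 0) :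
    ∃ (u : ℕ → L.X j) (v : ℕ → L.X i), (∀ m, (L.d j k).hom (u m) = 0) ∧
      ∀ m, f • u (m + 1) - u m + (L.d i j).hom (v m) = c m := by
  let γ : ℕ → Hc L i j k := fun m => cls L i j k (c m) (hc m)
  obtain ⟨ξ, hξ⟩ := h.2 γ
  have h1 : ∀ m, ∃ (x : L.X j) (hx : (L.d j k).hom x = 0), cls L i j k x hx = ξ m :=
    fun m => exists_cls L i j k (ξ m)
  let u : ℕ → L.X j := fun m => (h1 m).choose
  have hu : ∀ m, (L.d j k).hom (u m) = 0 := fun m => (h1 m).choose_spec.choose
  have hu' : ∀ m, cls L i j k (u m) (hu m) = ξ m := fun m => (h1 m).choose_spec.choose_spec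
  have h2 : ∀ m, ∃ y : L.X i, (L.d i j).hom y = f • u (m + 1) - u m - c m := by
    intro m
    have hz : (L.d j k).hom (f • u (m + 1) - u m - c m) = 0 := by
      rw [map_sub, map_sub, map_smul, hu, hu, hc, smul_zero, sub_zero, sub_zero]
    rw [← cls_eq_zero_iff L i j k _ hz]
    have h3 : cls L i j k (f • u (m + 1) - u m - c m) hz =
        f • cls L i j k (u (m + 1)) (hu _) - cls L i j k (u m) (hu _) -
          cls L i j k (c m) (hc m) := rfl
    rw [h3, hu', hu']
    have h4 : f • ξ (m + 1) - ξ m = γ m := congrFun hξ m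
    rw [h4]
    exact sub_self _
  refine ⟨u, fun m => -(h2 m).choose, hu, fun m => ?_⟩
  rw [map_neg, (h2 m).choose_spec]
  abel

end elementwise

section product

variable (L : DRing.Cx A)

/-- the countable power of a complex -/
noncomputable def piCx : DRing.Cx A where
  X n := ModuleCat.of A (ℕ → L.X n)
  d n m := ModuleCat.ofHom (LinearMap.pi fun k => (L.d n m).hom ∘ₗ LinearMap.proj k)
  shape n m h := by
    refine ModuleCat.hom_ext (LinearMap.ext fun x => funext fun k => ?_)
    show (L.d n m).hom (x k) = 0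
    rw [L.shape n m h]
    rfl
  d_comp_d' n m l _ _ := by
    refine ModuleCat.hom_ext (LinearMap.ext fun x => funext fun k => ?_)
    show (L.d m l).hom ((L.d n m).hom (x k)) = 0
    rw [← LinearMap.comp_apply, ← ModuleCat.hom_comp, L.d_comp_d]
    rfl

lemma piCx_d_apply (n m : ℤ) (x : ℕ → L.X n) (k : ℕ) :
    ((piCx L).d n m).hom x k = (L.d n m).hom (x k) := rfl

/-- the projections -/
noncomputable def piπ (k : ℕ) : piCx L ⟶ L where
  f n := ModuleCat.ofHom (LinearMap.proj k)
  comm' n m _ := rfl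

lemma piπ_f_apply (k : ℕ) (n : ℤ) (x : ℕ → L.X n) : ((piπ L k).f n).hom x = x k := rfl

variable {L}

/-- maps into the power -/
noncomputable def piLift {P : DRing.Cx A} (g : ℕ → (P ⟶ L)) : P ⟶ piCx L where
  f n := ModuleCat.ofHom (LinearMap.pi fun k => ((g k).f n).hom)
  comm' n m _ := by
    refine ModuleCat.hom_ext (LinearMap.ext fun x => funext fun k => ?_)
    show (L.d n m).hom (((g k).f n).hom x) = ((g k).f m).hom ((P.d n m).hom x)
    rw [← LinearMap.comp_apply, ← LinearMap.comp_apply, ← ModuleCat.hom_comp, ← ModuleCat.hom_comp,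
      (g k).comm n m]

lemma piLift_π {P : DRing.Cx A} (g : ℕ → (P ⟶ L)) (k : ℕ) : piLift g ≫ piπ L k = g k := rfl

lemma hom_ext_pi {P : DRing.Cx A} {G G' : P ⟶ piCx L} (h : ∀ k, G ≫ piπ L k = G' ≫ piπ L k) :
    G = G' := by
  ext n : 1
  refine ModuleCat.hom_ext (LinearMap.ext fun x => funext fun k => ?_)
  exact congrArg (fun φ : P ⟶ L => (φ.f n).hom x) (h k)

variable (L)

/-- the operator `(x_k) ↦ (f x_{k+1} - x_k)` on the power -/
noncomputable def σ (f : A) : piCx L ⟶ piCx L :=
  piLift (fun k => f • piπ L (k + 1) - piπ L k)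

lemma σ_π (f : A) (k : ℕ) : σ L f ≫ piπ L k = f • piπ L (k + 1) - piπ L k := rfl

lemma σ_f_apply (f : A) (n : ℤ) (x : ℕ → L.X n) (k : ℕ) :
    ((σ L f).f n).hom x k = f • x (k + 1) - x k := rfl

end product

section cone

open CochainComplex

variable (f : A) (L : DRing.Cx A)
  (h : ∀ i j k : ℤ, i + 1 = j → j + 1 = k → Function.Bijective (seqOp f (Hc L i j k)))

lemma cone_ext (n m : ℤ) (hnm : n + 1 = m) (c₁ c₂ : (mappingCone (σ L f)).X n)
    (h1 : ((mappingCone.fst (σ L f)).1.v n m hnm).hom c₁ =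
      ((mappingCone.fst (σ L f)).1.v n m hnm).hom c₂)
    (h2 : ((mappingCone.snd (σ L f)).v n n (add_zero n)).hom c₁ =
      ((mappingCone.snd (σ L f)).v n n (add_zero n)).hom c₂) : c₁ = c₂ := by
  have hid := mappingCone.id_X (σ L f) n m hnm
  have e1 := congrArg (fun φ : (mappingCone (σ L f)).X n ⟶ (mappingCone (σ L f)).X n => φ.hom c₁) hid
  have e2 := congrArg (fun φ : (mappingCone (σ L f)).X n ⟶ (mappingCone (σ L f)).X n => φ.hom c₂) hid
  simp only [ModuleCat.hom_add, ModuleCat.hom_comp, LinearMap.add_apply, LinearMap.comp_apply,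
    ModuleCat.hom_id, LinearMap.id_apply] at e1 e2
  rw [← e1, ← e2, h1, h2]

include h

lemma exactAt_cone (n : ℤ) : (mappingCone (σ L f)).ExactAt n := by
  rw [exactAt_iff_forall _ (n - 1) n (n + 1) (by omega) rfl]
  intro c hc
  -- components of `c`
  set x : ℕ → L.X (n + 1) := ((mappingCone.fst (σ L f)).1.v n (n + 1) rfl).hom c with hxdef
  set y : ℕ → L.X n := ((mappingCone.snd (σ L f)).v n n (add_zero n)).hom c with hydef
  -- equations from `d c = 0`
  have hx : ∀ m, (L.d (n + 1) (n + 1 + 1)).hom (x m) = 0 := by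
    have e := congrArg (fun φ : (mappingCone (σ L f)).X n ⟶ (piCx L).X (n + 1 + 1) => φ.hom c)
      (mappingCone.d_fst_v (σ L f) n (n + 1) (n + 1 + 1) rfl rfl)
    simp only [ModuleCat.hom_comp, LinearMap.comp_apply, ModuleCat.hom_neg, LinearMap.neg_apply]
      at e
    rw [hc, map_zero] at e
    intro m
    have e' := congrFun e m
    have e'' : (0 : L.X (n + 1 + 1)) = -(L.d (n + 1) (n + 1 + 1)).hom (x m) := e'
    exact neg_eq_zero.mp e''.symm
  have hxy : ∀ m, f • x (m + 1) - x m + (L.d n (n + 1)).hom (y m) = 0 := by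
    have e := congrArg (fun φ : (mappingCone (σ L f)).X n ⟶ (piCx L).X (n + 1) => φ.hom c)
      (mappingCone.d_snd_v (σ L f) n (n + 1) rfl)
    simp only [ModuleCat.hom_comp, LinearMap.comp_apply, ModuleCat.hom_add, LinearMap.add_apply]
      at e
    rw [hc, map_zero] at e
    intro m
    exact (congrFun e m).symm
  -- `x` is a boundary
  obtain ⟨x0, hx0⟩ := inj_aux f L n (n + 1) (n + 1 + 1) (h _ _ _ rfl rfl) x hx (fun m => -y m)
    (fun m => by rw [map_neg]; exact eq_neg_of_add_eq_zero_left (hxy m))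
  -- the cycle `c0 = y + σ x0`
  let c0 : ℕ → L.X n := fun m => y m + (f • x0 (m + 1) - x0 m)
  have hc0 : ∀ m, (L.d n (n + 1)).hom (c0 m) = 0 := by
    intro m
    show (L.d n (n + 1)).hom (y m + (f • x0 (m + 1) - x0 m)) = 0
    rw [map_add, map_sub, map_smul, hx0, hx0]
    exact (add_comm _ _).trans (hxy m)
  obtain ⟨u, v, hu, huv⟩ := surj_aux f L (n - 1) n (n + 1) (h _ _ _ (by omega) rfl) c0 hc0
  -- the preimage
  let x' : ℕ → L.X n := fun m => -x0 m + u m
  refine ⟨((mappingCone.inl (σ L f)).v n (n - 1) (by omega)).hom x' +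
    ((mappingCone.inr (σ L f)).f (n - 1)).hom v, ?_⟩
  have hfst : ((mappingCone.fst (σ L f)).1.v (n - 1) n (by omega)).hom
      (((mappingCone.inl (σ L f)).v n (n - 1) (by omega)).hom x' +
        ((mappingCone.inr (σ L f)).f (n - 1)).hom v) = x' := by
    rw [map_add]
    have e1 : ((mappingCone.fst (σ L f)).1.v (n - 1) n (by omega)).hom
        (((mappingCone.inl (σ L f)).v n (n - 1) (by omega)).hom x') = x' :=
      congrArg (fun φ : (piCx L).X n ⟶ (piCx L).X n => φ.hom x')
        (mappingCone.inl_v_fst_v (σ L f) n (n - 1) (by omega))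
    have e2 : ((mappingCone.fst (σ L f)).1.v (n - 1) n (by omega)).hom
        (((mappingCone.inr (σ L f)).f (n - 1)).hom v) = 0 :=
      congrArg (fun φ : (piCx L).X (n - 1) ⟶ (piCx L).X n => φ.hom v)
        (mappingCone.inr_f_fst_v (σ L f) (n - 1) n (by omega))
    rw [e1, e2]
    exact add_zero _
  have hsnd : ((mappingCone.snd (σ L f)).v (n - 1) (n - 1) (add_zero _)).hom
      (((mappingCone.inl (σ L f)).v n (n - 1) (by omega)).hom x' +
        ((mappingCone.inr (σ L f)).f (n - 1)).hom v) = v := by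
    rw [map_add]
    have e1 : ((mappingCone.snd (σ L f)).v (n - 1) (n - 1) (add_zero _)).hom
        (((mappingCone.inl (σ L f)).v n (n - 1) (by omega)).hom x') = 0 :=
      congrArg (fun φ : (piCx L).X n ⟶ (piCx L).X (n - 1) => φ.hom x')
        (mappingCone.inl_v_snd_v (σ L f) n (n - 1) (by omega))
    have e2 : ((mappingCone.snd (σ L f)).v (n - 1) (n - 1) (add_zero _)).hom
        (((mappingCone.inr (σ L f)).f (n - 1)).hom v) = v :=
      congrArg (fun φ : (piCx L).X (n - 1) ⟶ (piCx L).X (n - 1) => φ.hom v)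
        (mappingCone.inr_f_snd_v (σ L f) (n - 1))
    rw [e1, e2]
    exact zero_add _
  apply cone_ext f L n (n + 1) rfl
  · have e := congrArg (fun φ : (mappingCone (σ L f)).X (n - 1) ⟶ (piCx L).X (n + 1) =>
      φ.hom (((mappingCone.inl (σ L f)).v n (n - 1) (by omega)).hom x' +
        ((mappingCone.inr (σ L f)).f (n - 1)).hom v))
      (mappingCone.d_fst_v (σ L f) (n - 1) n (n + 1) (by omega) rfl)
    simp only [ModuleCat.hom_comp, LinearMap.comp_apply, ModuleCat.hom_neg, LinearMap.neg_apply]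
      at e
    rw [e, hfst]
    funext m
    show -(L.d n (n + 1)).hom (-x0 m + u m) = x m
    rw [map_add, map_neg, hx0, hu, add_zero, neg_neg]
  · have e := congrArg (fun φ : (mappingCone (σ L f)).X (n - 1) ⟶ (piCx L).X n =>
      φ.hom (((mappingCone.inl (σ L f)).v n (n - 1) (by omega)).hom x' +
        ((mappingCone.inr (σ L f)).f (n - 1)).hom v))
      (mappingCone.d_snd_v (σ L f) (n - 1) n (by omega))
    simp only [ModuleCat.hom_comp, LinearMap.comp_apply, ModuleCat.hom_add, LinearMap.add_apply]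
      at e
    rw [e, hfst, hsnd]
    funext m
    show f • (-x0 (m + 1) + u (m + 1)) - (-x0 m + u m) + (L.d (n - 1) n).hom (v m) = y m
    have h5 := huv m
    have h6 : c0 m = y m + (f • x0 (m + 1) - x0 m) := rfl
    rw [h6] at h5
    rw [smul_add, smul_neg]
    have : f • u (m + 1) - u m + (L.d (n - 1) n).hom (v m) - (f • x0 (m + 1) - x0 m) = y m := by
      rw [h5]; abel
    rw [← this]; abel

/-- `σ` is invertible in the derived category -/
lemma isIso_Q_map_σ : IsIso (DerivedCategory.Q.map (σ L f)) := by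
  have hT := DerivedCategory.mappingCone_triangle_distinguished (σ L f)
  have hz : IsZero (DerivedCategory.Q.obj (mappingCone (σ L f))) :=
    Groth.Agent.Helper6.DerNak.isZero_toD_of_exactAt _ (exactAt_cone f L h)
  exact (Pretriangulated.Triangle.isZero₃_iff_isIso₁ _ hT).mp hz

end cone

section kproj

open Groth.Agent.Helper6.KProjQ

variable (P L : DRing.Cx A) [P.IsKProjective]

lemma exists_lift (g : ℕ → (DerivedCategory.Q.obj P ⟶ DerivedCategory.Q.obj L)) :
    ∃ G : DerivedCategory.Q.obj P ⟶ DerivedCategory.Q.obj (piCx L),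
      ∀ k, G ≫ DerivedCategory.Q.map (piπ L k) = g k := by
  have h1 : ∀ k, ∃ g' : P ⟶ L, DerivedCategory.Q.map g' = g k :=
    fun k => Q_map_surjective P L (g k)
  refine ⟨DerivedCategory.Q.map (piLift fun k => (h1 k).choose), fun k => ?_⟩
  rw [← Functor.map_comp, piLift_π]
  exact (h1 k).choose_spec

/-- assembling families of maps -/
noncomputable def piHom (h : ℕ → (∀ i j : ℤ, P.X i ⟶ L.X j)) (i j : ℤ) :
    P.X i ⟶ (piCx L).X j :=
  ModuleCat.ofHom (LinearMap.pi fun k => (h k i j).hom)

/-- assembling null-homotopies -/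
noncomputable def piHomotopy (G : P ⟶ piCx L) (H : ∀ k, Homotopy (G ≫ piπ L k) 0) :
    Homotopy G 0 where
  hom i j := piHom P L (fun k => (H k).hom) i j
  zero i j hij := by
    refine ModuleCat.hom_ext (LinearMap.ext fun x => funext fun k => ?_)
    show ((H k).hom i j).hom x = 0
    rw [(H k).zero i j hij]
    rfl
  comm i := by
    rw [dNext_eq _ (show (ComplexShape.up ℤ).Rel i (i + 1) from rfl),
      prevD_eq _ (show (ComplexShape.up ℤ).Rel (i - 1) i by simp)]
    refine ModuleCat.hom_ext (LinearMap.ext fun x => funext fun k => ?_)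
    have hk := (H k).comm i
    rw [dNext_eq _ (show (ComplexShape.up ℤ).Rel i (i + 1) from rfl),
      prevD_eq _ (show (ComplexShape.up ℤ).Rel (i - 1) i by simp)] at hk
    exact congrArg (fun φ : P.X i ⟶ L.X i => φ.hom x) hk

lemma eq_zero_of_forall_comp_eq_zero
    (G : DerivedCategory.Q.obj P ⟶ DerivedCategory.Q.obj (piCx L))
    (hG : ∀ k, G ≫ DerivedCategory.Q.map (piπ L k) = 0) : G = 0 := by
  obtain ⟨G', rfl⟩ := Q_map_surjective P (piCx L) G
  have h1 : ∀ k, Nonempty (Homotopy (G' ≫ piπ L k) 0) := by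
    intro k
    apply Groth.Agent.Helper6.KProjQ.homotopy_of_Q_map_eq
    rw [Functor.map_comp, hG k, Functor.map_zero]
  have h2 : Homotopy G' 0 := piHomotopy P L G' (fun k => (h1 k).some)
  rw [Q_map_eq_of_homotopy h2, Functor.map_zero]

end kproj

section main

/-- the main vanishing: morphisms from a K-projective complex on which `f` is invertible (in the
derived category) to a derived `f`-complete complex vanish -/
theorem hom_eq_zero_of_kproj (f : A) (P : DRing.Cx A) [P.IsKProjective]
    (hP : IsIso (f • 𝟙 (DerivedCategory.Q.obj P))) (L : DRing.Cx A) (hL : DCf f (DRing.toD L))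
    (g : DerivedCategory.Q.obj P ⟶ DerivedCategory.Q.obj L) : g = 0 := by
  let φ := inv (f • 𝟙 (DerivedCategory.Q.obj P))
  have hφ : f • φ = 𝟙 _ := by
    have : (f • 𝟙 (DerivedCategory.Q.obj P)) ≫ φ = 𝟙 _ := IsIso.hom_inv_id _
    rwa [Linear.smul_comp, Category.id_comp] at this
  let gk : ℕ → (DerivedCategory.Q.obj P ⟶ DerivedCategory.Q.obj L) :=
    fun k => Nat.rec g (fun _ γ => φ ≫ γ) k
  have hgk : ∀ k, f • gk (k + 1) = gk k := by
    intro k
    show f • (φ ≫ gk k) = gk k
    rw [← Linear.smul_comp, hφ, Category.id_comp]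
  obtain ⟨G, hG⟩ := exists_lift P L gk
  haveI hσ : IsIso (DerivedCategory.Q.map (σ L f)) :=
    isIso_Q_map_σ f L (fun i j k hij hjk => seqOp_bijective_Hc f L hL i j k hij hjk)
  have h1 : G ≫ DerivedCategory.Q.map (σ L f) = 0 := by
    apply eq_zero_of_forall_comp_eq_zero P L
    intro k
    rw [Category.assoc, ← Functor.map_comp, σ_π, Functor.map_sub, Functor.map_smul,
      Preadditive.comp_sub, Linear.comp_smul, hG, hG, hgk, sub_self]
  have h2 : G = 0 := by
    rw [← cancel_mono (DerivedCategory.Q.map (σ L f)), h1, zero_comp]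
  have h3 : g = gk 0 := rfl
  rw [h3, ← hG 0, h2, zero_comp]

lemma dcf_of_iso (f : A) {K K' : Dual.D A} (e : K ≅ K') (h : DCf f K) : DCf f K' := by
  intro n t
  have h1 := h n (t ≫ (shiftFunctor (Dual.D A) n).map e.inv)
  have h2 : t = (t ≫ (shiftFunctor (Dual.D A) n).map e.inv) ≫
      (shiftFunctor (Dual.D A) n).map e.hom := by
    rw [Category.assoc, ← Functor.map_comp, e.inv_hom_id, CategoryTheory.Functor.map_id,
      Category.comp_id]
  rw [h2, h1, zero_comp]

/-- morphisms from a complex on which `f` acts bijectively to a derived `f`-complete object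
vanish -/
theorem hom_eq_zero_of_bijective (f : A) (Y : DRing.Cx A)
    (hY : ∀ i, Function.Bijective (fun x : Y.X i => f • x)) (K : Dual.D A) (hK : DCf f K)
    (g : DRing.toD Y ⟶ K) : g = 0 := by
  classical
  let L : DRing.Cx A := DerivedCategory.Q.objPreimage K
  let e : DerivedCategory.Q.obj L ≅ K := DerivedCategory.Q.objObjPreimageIso K
  have hL : DCf f (DRing.toD L) := dcf_of_iso f e.symm hK
  obtain ⟨P, p, hP, -, -, hq, -⟩ := Groth.Agent.Helper6.KProjRes.exists_resolution Y
  haveI := hP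
  haveI hiso : IsIso (DerivedCategory.Q.map p) :=
    (DerivedCategory.isIso_Q_map_iff_quasiIso _ _).mpr hq
  let eP : DerivedCategory.Q.obj P ≅ DerivedCategory.Q.obj Y := asIso (DerivedCategory.Q.map p)
  -- `f` is invertible on `Y`
  haveI hfY : IsIso (f • 𝟙 Y) := by
    haveI : ∀ i, IsIso ((f • 𝟙 Y).f i) := by
      intro i
      rw [ConcreteCategory.isIso_iff_bijective]
      exact hY i
    exact HomologicalComplex.Hom.isIso_of_components _
  have hfQY : IsIso (f • 𝟙 (DerivedCategory.Q.obj Y)) := by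
    have : f • 𝟙 (DerivedCategory.Q.obj Y) = DerivedCategory.Q.map (f • 𝟙 Y) := by
      rw [Functor.map_smul, CategoryTheory.Functor.map_id]
    rw [this]
    infer_instance
  have hfQP : IsIso (f • 𝟙 (DerivedCategory.Q.obj P)) := by
    have : f • 𝟙 (DerivedCategory.Q.obj P) =
        eP.hom ≫ (f • 𝟙 (DerivedCategory.Q.obj Y)) ≫ eP.inv := by
      rw [Linear.smul_comp, Linear.comp_smul, Category.id_comp, eP.hom_inv_id]
    rw [this]
    infer_instance
  have h0 := hom_eq_zero_of_kproj f P hfQP L hL (eP.hom ≫ g ≫ e.inv)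
  have h1 : g = eP.inv ≫ (eP.hom ≫ g ≫ e.inv) ≫ e.hom := by
    simp
  rw [h1, h0, zero_comp, comp_zero]

end main

end Groth.Agent.Helper6.DCHom
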