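import Mathlib
import Groth.Prelude.Def_DRing4
import Groth.Agent.Helper3.DRingH
import Groth.Agent.Helper3.DRingComp
import Groth.Agent.Helper6.DCHom

/-!
# Triangulated-category lemmas for the construction of derived completions
-/

set_option autoImplicit false
universe u
open CategoryTheory CategoryTheory.Limits DerivedCategory Pretriangulated

attribute [local instance] HasDerivedCategory.standard

namespace Groth.Agent.Helper6.DComplTri

open Groth.Agent.Helper3.DRingLib

variable {A : Type u} [CommRing A]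

/-- an object on which `f` acts invertibly -/
def IsLocal (f : A) (X : Dual.D A) : Prop := IsIso (f • 𝟙 X)

lemma isLocal_of_iso (f : A) {X X' : Dual.D A} (e : X ≅ X') (h : IsLocal f X) : IsLocal f X' := by
  unfold IsLocal at h ⊢
  have : f • 𝟙 X' = e.inv ≫ (f • 𝟙 X) ≫ e.hom := by
    rw [Linear.smul_comp, Linear.comp_smul, Category.id_comp, e.inv_hom_id]
  rw [this]
  infer_instance

lemma isLocal_shift (f : A) (X : Dual.D A) (n : ℤ) (h : IsLocal f X) : IsLocal f (X⟦n⟧) := by
  unfold IsLocal at h ⊢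
  have : f • 𝟙 (X⟦n⟧) = (shiftFunctor (Dual.D A) n).map (f • 𝟙 X) := by
    rw [Functor.map_smul, CategoryTheory.Functor.map_id]
  rw [this]
  infer_instance

/-- the cone of `u = f s - 1` (with `s` commuting with `u`) is `f`-local -/
theorem isLocal_cone (f : A) (T : Triangle (Dual.D A)) (hT : T ∈ distTriang _)
    (e : T.obj₁ = T.obj₂) (s : T.obj₁ ⟶ T.obj₁)
    (hs : T.mor₁ = (f • s - 𝟙 T.obj₁) ≫ eqToHom e) : IsLocal f T.obj₃ := by
  obtain ⟨X, Y, C, u₁, ι, δ⟩ := T
  dsimp at e s hs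
  subst e
  rw [eqToHom_refl, Category.comp_id] at hs
  dsimp only
  have hcomm : u₁ ≫ s = s ≫ u₁ := by
    rw [hs, Preadditive.sub_comp, Preadditive.comp_sub, Linear.smul_comp, Linear.comp_smul,
      Category.id_comp, Category.comp_id]
  obtain ⟨c, hc1, hc2⟩ := complete_distinguished_triangle_morphism _ _ hT hT s s hcomm
  dsimp at c hc1 hc2
  obtain ⟨θ, hθdef⟩ : ∃ θ : C ⟶ C, θ = f • c - 𝟙 C := ⟨_, rfl⟩
  have h1 : ι ≫ θ = 0 := by
    rw [hθdef, Preadditive.comp_sub, Linear.comp_smul, hc1, Category.comp_id]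
    have : f • (s ≫ ι) - ι = u₁ ≫ ι := by
      rw [hs, Preadditive.sub_comp, Linear.smul_comp, Category.id_comp]
    rw [this]
    exact comp_distTriang_mor_zero₁₂ _ hT
  have h2 : θ ≫ δ = 0 := by
    rw [hθdef, Preadditive.sub_comp, Linear.smul_comp, ← hc2, Category.id_comp]
    have : f • (δ ≫ (shiftFunctor (Dual.D A) (1 : ℤ)).map s) - δ =
        δ ≫ (shiftFunctor (Dual.D A) (1 : ℤ)).map u₁ := by
      rw [hs, Functor.map_sub, Functor.map_smul, CategoryTheory.Functor.map_id, Preadditive.comp_sub,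
        Linear.comp_smul, Category.comp_id]
    rw [this]
    exact comp_distTriang_mor_zero₃₁ _ hT
  obtain ⟨θ', hθ'⟩ := Triangle.yoneda_exact₃ _ hT θ h1
  dsimp at θ' hθ'
  have h3 : θ ≫ θ = 0 := by
    have : θ ≫ θ = θ ≫ δ ≫ θ' := by rw [← hθ']
    rw [this, reassoc_of% h2, zero_comp]
  have hfc : f • c = 𝟙 C + θ := by
    rw [hθdef]
    abel
  have key : (𝟙 C + θ) ≫ (𝟙 C - θ) = 𝟙 C := by
    rw [Preadditive.add_comp, Preadditive.comp_sub, Preadditive.comp_sub, Category.id_comp,
      Category.comp_id, Category.id_comp, h3]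
    abel
  unfold IsLocal
  refine ⟨c ≫ (𝟙 C - θ), ?_, ?_⟩
  · have e1 : (f • 𝟙 C) ≫ c = 𝟙 C + θ := by
      rw [Linear.smul_comp, Category.id_comp]
      exact hfc
    rw [← Category.assoc, e1, key]
  · have e2 : (c ≫ (𝟙 C - θ)) ≫ (f • 𝟙 C) = (f • c) ≫ (𝟙 C - θ) := by
      rw [Linear.comp_smul, Category.comp_id, Linear.smul_comp]
    rw [e2, hfc, key]

section seq

variable (f : A) {X Z : Dual.D A} (hX : IsLocal f X)

include hX

/-- (a) the sequence operator is surjective on `Hom(X, Z)` for `f`-local `X` -/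
lemma seq_surjective (y : ℕ → (X ⟶ Z)) : ∃ x : ℕ → (X ⟶ Z), ∀ k, f • x (k + 1) - x k = y k := by
  haveI : IsIso (f • 𝟙 X) := hX
  let φ := inv (f • 𝟙 X)
  have hφ : ∀ w : X ⟶ Z, f • (φ ≫ w) = w := by
    intro w
    have : (f • 𝟙 X) ≫ φ = 𝟙 X := IsIso.hom_inv_id _
    rw [Linear.smul_comp, Category.id_comp] at this
    rw [← Linear.smul_comp, this, Category.id_comp]
  let x : ℕ → (X ⟶ Z) := fun k => Nat.rec 0 (fun k w => φ ≫ (w + y k)) k
  refine ⟨x, fun k => ?_⟩
  show f • (φ ≫ (x k + y k)) - x k = y k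
  rw [hφ]
  abel

/-- (b1) -/
lemma seq_eq_zero (x : ℕ → (X ⟶ Z)) (h : ∀ k, f • x (k + 1) - x k = 0) (h0 : x 0 = 0) :
    ∀ k, x k = 0 := by
  haveI : IsIso (f • 𝟙 X) := hX
  intro k
  induction k with
  | zero => exact h0
  | succ k ih =>
    have h1 : f • x (k + 1) = 0 := by
      have := h k
      rw [ih, sub_zero] at this
      exact this
    have h2 : (f • 𝟙 X) ≫ x (k + 1) = 0 := by
      rw [Linear.smul_comp, Category.id_comp, h1]
    rw [← cancel_epi (f • 𝟙 X), h2, comp_zero]

/-- (b2) -/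
lemma seq_exists (z : X ⟶ Z) : ∃ x : ℕ → (X ⟶ Z), (∀ k, f • x (k + 1) - x k = 0) ∧ x 0 = z := by
  haveI : IsIso (f • 𝟙 X) := hX
  let φ := inv (f • 𝟙 X)
  have hφ : ∀ w : X ⟶ Z, f • (φ ≫ w) = w := by
    intro w
    have : (f • 𝟙 X) ≫ φ = 𝟙 X := IsIso.hom_inv_id _
    rw [Linear.smul_comp, Category.id_comp] at this
    rw [← Linear.smul_comp, this, Category.id_comp]
  let x : ℕ → (X ⟶ Z) := fun k => Nat.rec z (fun _ w => φ ≫ w) k
  refine ⟨x, fun k => ?_, rfl⟩
  show f • (φ ≫ x k) - x k = 0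
  rw [hφ, sub_self]

end seq

/-- general vanishing: morphisms from `f`-local objects to derived `f`-complete ones vanish -/
theorem hom_eq_zero_of_isLocal (f : A) (X : Dual.D A) (hX : IsLocal f X) (K : Dual.D A)
    (hK : DCf f K) (g : X ⟶ K) : g = 0 := by
  classical
  let L : DRing.Cx A := DerivedCategory.Q.objPreimage K
  let e : DerivedCategory.Q.obj L ≅ K := DerivedCategory.Q.objObjPreimageIso K
  have hL : DCf f (DRing.toD L) := Groth.Agent.Helper6.DCHom.dcf_of_iso f e.symm hK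
  obtain ⟨P, p, hP, -, -, hq, -⟩ :=
    Groth.Agent.Helper6.KProjRes.exists_resolution (DerivedCategory.Q.objPreimage X)
  haveI := hP
  haveI hiso : IsIso (DerivedCategory.Q.map p) :=
    (DerivedCategory.isIso_Q_map_iff_quasiIso _ _).mpr hq
  let eP : DerivedCategory.Q.obj P ≅ X :=
    asIso (DerivedCategory.Q.map p) ≪≫ DerivedCategory.Q.objObjPreimageIso X
  have hfQP : IsIso (f • 𝟙 (DerivedCategory.Q.obj P)) := isLocal_of_iso f eP.symm hX
  have h0 := Groth.Agent.Helper6.DCHom.hom_eq_zero_of_kproj f P hfQP L hL (eP.hom ≫ g ≫ e.inv)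
  have h1 : g = eP.inv ≫ (eP.hom ≫ g ≫ e.inv) ≫ e.hom := by
    simp
  rw [h1, h0, zero_comp, comp_zero]

/-- `A_f[0]` is `f`-local -/
lemma isLocal_inD_away (f : A) : IsLocal f (Dual.inD A (Localization.Away f)) := by
  unfold IsLocal
  have h1 : f • 𝟙 (Dual.inD A (Localization.Away f)) =
      (DerivedCategory.singleFunctor (ModuleCat.{u} A) 0).map
        (f • 𝟙 (ModuleCat.of A (Localization.Away f))) := by
    rw [Functor.map_smul, CategoryTheory.Functor.map_id]
  rw [h1]
  haveI : IsIso (f • 𝟙 (ModuleCat.of A (Localization.Away f))) := by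
    rw [ConcreteCategory.isIso_iff_bijective]
    have hu : IsUnit (algebraMap A (Localization.Away f) f) :=
      IsLocalization.Away.algebraMap_isUnit f
    obtain ⟨u, hu'⟩ := hu
    have h2 : ∀ x : Localization.Away f, f • x = (u : Localization.Away f) * x := by
      intro x
      rw [hu', Algebra.smul_def]
    constructor
    · intro x y hxy
      have hxy' : f • x = f • y := hxy
      rw [h2, h2] at hxy'
      exact u.isUnit.mul_left_cancel hxy'
    · intro y
      refine ⟨((u⁻¹ : (Localization.Away f)ˣ) : Localization.Away f) * y, ?_⟩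
      show f • (((u⁻¹ : (Localization.Away f)ˣ) : Localization.Away f) * y) = y
      rw [h2, ← mul_assoc, Units.mul_inv, one_mul]
  infer_instance

/-- derived `f`-completeness is the vanishing of all morphisms from `f`-local objects -/
lemma dcf_of_forall_isLocal (f : A) (K : Dual.D A)
    (h : ∀ X : Dual.D A, IsLocal f X → ∀ g : X ⟶ K, g = 0) : DCf f K := by
  intro n t
  let η : (K⟦n⟧)⟦-n⟧ ≅ K := (shiftFunctorCompIsoId (Dual.D A) n (-n) (by omega)).app K
  have h0 := h _ (isLocal_shift f _ (-n) (isLocal_inD_away f))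
    ((shiftFunctor (Dual.D A) (-n)).map t ≫ η.hom)
  have h1 : (shiftFunctor (Dual.D A) (-n)).map t = 0 := by
    have : (shiftFunctor (Dual.D A) (-n)).map t =
        ((shiftFunctor (Dual.D A) (-n)).map t ≫ η.hom) ≫ η.inv := by
      simp
    rw [this, h0, zero_comp]
  apply (shiftFunctor (Dual.D A) (-n)).map_injective
  rw [h1, Functor.map_zero]

end Groth.Agent.Helper6.DComplTri
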