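import Mathlib
import Groth.Prelude.Def_DRing4
import Groth.Agent.Helper6.DComplTri

/-!
# The derived completion with respect to one element
-/

set_option autoImplicit false
universe u
open CategoryTheory CategoryTheory.Limits DerivedCategory Pretriangulated

attribute [local instance] HasDerivedCategory.standard

namespace Groth.Agent.Helper6.DComplF

open Groth.Agent.Helper3.DRingLib Groth.Agent.Helper6.DCHom Groth.Agent.Helper6.DComplTri

variable {A : Type u} [CommRing A]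

/-- joint monicity and surjectivity of a family of maps `p k : Y ⟶ Z`, tested on `X` -/
structure IsProdFor (X Y Z : Dual.D A) (p : ℕ → (Y ⟶ Z)) : Prop where
  mono : ∀ g : X ⟶ Y, (∀ k, g ≫ p k = 0) → g = 0
  surj : ∀ gs : ℕ → (X ⟶ Z), ∃ g : X ⟶ Y, ∀ k, g ≫ p k = gs k

lemma isProdFor_Q (P L : DRing.Cx A) [P.IsKProjective] :
    IsProdFor (DerivedCategory.Q.obj P) (DerivedCategory.Q.obj (piCx L)) (DerivedCategory.Q.obj L)
      (fun k => DerivedCategory.Q.map (piπ L k)) :=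
  ⟨fun g hg => eq_zero_of_forall_comp_eq_zero P L g hg, fun gs => exists_lift P L gs⟩

lemma IsProdFor.of_iso {X X' Y Z : Dual.D A} {p : ℕ → (Y ⟶ Z)} (e : X ≅ X')
    (h : IsProdFor X Y Z p) : IsProdFor X' Y Z p := by
  constructor
  · intro g hg
    have h1 := h.mono (e.hom ≫ g) (fun k => by rw [Category.assoc, hg k, comp_zero])
    rw [← cancel_epi e.hom, h1, comp_zero]
  · intro gs
    obtain ⟨g, hg⟩ := h.surj (fun k => e.hom ≫ gs k)
    refine ⟨e.inv ≫ g, fun k => ?_⟩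
    rw [Category.assoc, hg k, e.inv_hom_id_assoc]

lemma isProdFor_all (X : Dual.D A) (L : DRing.Cx A) :
    IsProdFor X (DerivedCategory.Q.obj (piCx L)) (DerivedCategory.Q.obj L)
      (fun k => DerivedCategory.Q.map (piπ L k)) := by
  obtain ⟨P, p, hP, -, -, hq, -⟩ :=
    Groth.Agent.Helper6.KProjRes.exists_resolution (DerivedCategory.Q.objPreimage X)
  haveI := hP
  haveI hiso : IsIso (DerivedCategory.Q.map p) :=
    (DerivedCategory.isIso_Q_map_iff_quasiIso _ _).mpr hq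
  let eP : DerivedCategory.Q.obj P ≅ X :=
    asIso (DerivedCategory.Q.map p) ≪≫ DerivedCategory.Q.objObjPreimageIso X
  exact (isProdFor_Q P L).of_iso eP

lemma IsProdFor.shift {X Y Z : Dual.D A} {p : ℕ → (Y ⟶ Z)} (n : ℤ)
    (h : IsProdFor (X⟦-n⟧) Y Z p) :
    IsProdFor X (Y⟦n⟧) (Z⟦n⟧) (fun k => (shiftFunctor (Dual.D A) n).map (p k)) := by
  let adj : shiftFunctor (Dual.D A) (-n) ⊣ shiftFunctor (Dual.D A) n :=
    (shiftEquiv (Dual.D A) n).symm.toAdjunction
  have hz : ∀ W : Dual.D A, adj.homEquiv X W 0 = 0 := by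
    intro W
    rw [Adjunction.homEquiv_unit, Functor.map_zero, comp_zero]
  constructor
  · intro g hg
    obtain ⟨g₀, rfl⟩ := (adj.homEquiv X Y).surjective g
    have h1 : g₀ = 0 := by
      apply h.mono
      intro k
      apply (adj.homEquiv X Z).injective
      rw [Adjunction.homEquiv_naturality_right, hz]
      exact hg k
    rw [h1, hz]
  · intro gs
    obtain ⟨g₀, hg₀⟩ := h.surj (fun k => (adj.homEquiv X Z).symm (gs k))
    refine ⟨adj.homEquiv X Y g₀, fun k => ?_⟩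
    rw [← Adjunction.homEquiv_naturality_right, hg₀ k, Equiv.apply_symm_apply]

lemma isProdFor_shift_all (X : Dual.D A) (L : DRing.Cx A) (n : ℤ) :
    IsProdFor X ((DerivedCategory.Q.obj (piCx L))⟦n⟧) ((DerivedCategory.Q.obj L)⟦n⟧)
      (fun k => (shiftFunctor (Dual.D A) n).map (DerivedCategory.Q.map (piπ L k))) :=
  (isProdFor_all (X⟦-n⟧) L).shift n

section construction

variable (L : DRing.Cx A) (f : A)

/-- the shift operator on the power -/
noncomputable def sh : piCx L ⟶ piCx L := piLift (fun k => piπ L (k + 1))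

lemma σ_eq : σ L f = f • sh L - 𝟙 (piCx L) := by
  apply hom_ext_pi
  intro k
  rw [σ_π, Preadditive.sub_comp, Linear.smul_comp, Category.id_comp]
  rfl

/-- `C' = cone σ` -/
noncomputable def Cp : Dual.D A := DerivedCategory.Q.obj (CochainComplex.mappingCone (σ L f))

/-- the inclusion into the cone -/
noncomputable def ι : DerivedCategory.Q.obj (piCx L) ⟶ Cp L f :=
  DerivedCategory.Q.map (CochainComplex.mappingCone.inr (σ L f))

/-- the connecting map -/
noncomputable def δ : Cp L f ⟶ (DerivedCategory.Q.obj (piCx L))⟦(1 : ℤ)⟧ :=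
  (DerivedCategory.Q.mapTriangle.obj (CochainComplex.mappingCone.triangle (σ L f))).mor₃

/-- the triangle `Π → Π → C' → Π[1]` -/
noncomputable def T1 : Triangle (Dual.D A) :=
  Triangle.mk (DerivedCategory.Q.map (σ L f)) (ι L f) (δ L f)

lemma T1_dist : T1 L f ∈ distTriang (Dual.D A) :=
  DerivedCategory.mappingCone_triangle_distinguished (σ L f)

lemma σ_ι : DerivedCategory.Q.map (σ L f) ≫ ι L f = 0 :=
  comp_distTriang_mor_zero₁₂ _ (T1_dist L f)

lemma ι_δ : ι L f ≫ δ L f = 0 :=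
  comp_distTriang_mor_zero₂₃ _ (T1_dist L f)

lemma δ_σ : δ L f ≫ (shiftFunctor (Dual.D A) (1 : ℤ)).map (DerivedCategory.Q.map (σ L f)) = 0 :=
  comp_distTriang_mor_zero₃₁ _ (T1_dist L f)

lemma isLocal_Cp : IsLocal f (Cp L f) := by
  have h : DerivedCategory.Q.map (σ L f) =
      (f • DerivedCategory.Q.map (sh L) - 𝟙 (DerivedCategory.Q.obj (piCx L))) ≫
        𝟙 (DerivedCategory.Q.obj (piCx L)) := by
    rw [Category.comp_id, σ_eq, Functor.map_sub, Functor.map_smul, CategoryTheory.Functor.map_id]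
  exact isLocal_cone f (T1 L f) (T1_dist L f) rfl (DerivedCategory.Q.map (sh L)) h

lemma coyoneda_ι {X : Dual.D A} (c : X ⟶ Cp L f) (hc : c ≫ δ L f = 0) :
    ∃ c₀ : X ⟶ DerivedCategory.Q.obj (piCx L), c = c₀ ≫ ι L f :=
  Triangle.coyoneda_exact₃ _ (T1_dist L f) c hc

lemma coyoneda_δ {X : Dual.D A} (w : X ⟶ (DerivedCategory.Q.obj (piCx L))⟦(1 : ℤ)⟧)
    (hw : w ≫ (shiftFunctor (Dual.D A) (1 : ℤ)).map (DerivedCategory.Q.map (σ L f)) = 0) :
    ∃ c : X ⟶ Cp L f, w = c ≫ δ L f :=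
  Triangle.coyoneda_exact₁ _ (T1_dist L f) w hw

/-- the components of a map to `Π[n]` -/
lemma σ_shift_π (n : ℤ) (k : ℕ) :
    (shiftFunctor (Dual.D A) n).map (DerivedCategory.Q.map (σ L f)) ≫
      (shiftFunctor (Dual.D A) n).map (DerivedCategory.Q.map (piπ L k)) =
    f • (shiftFunctor (Dual.D A) n).map (DerivedCategory.Q.map (piπ L (k + 1))) -
      (shiftFunctor (Dual.D A) n).map (DerivedCategory.Q.map (piπ L k)) := by
  rw [← Functor.map_comp, ← Functor.map_comp, σ_π, Functor.map_sub, Functor.map_smul,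
    Functor.map_sub, Functor.map_smul]

/-- the map `C' → L[1]` -/
noncomputable def q : Cp L f ⟶ (DerivedCategory.Q.obj L)⟦(1 : ℤ)⟧ :=
  δ L f ≫ (shiftFunctor (Dual.D A) (1 : ℤ)).map (DerivedCategory.Q.map (piπ L 0))

variable {L f}

/-- (F2), injectivity -/
theorem q_comp_injective {X : Dual.D A} (hX : IsLocal f X) (c : X ⟶ Cp L f)
    (hc : c ≫ q L f = 0) : c = 0 := by
  -- the components of `c ≫ δ`
  obtain ⟨w, hwdef⟩ : ∃ w : X ⟶ (DerivedCategory.Q.obj (piCx L))⟦(1 : ℤ)⟧, w = c ≫ δ L f :=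
    ⟨_, rfl⟩
  have hw : w ≫ (shiftFunctor (Dual.D A) (1 : ℤ)).map (DerivedCategory.Q.map (σ L f)) = 0 := by
    rw [hwdef, Category.assoc, δ_σ, comp_zero]
  let wk : ℕ → (X ⟶ (DerivedCategory.Q.obj L)⟦(1 : ℤ)⟧) := fun k =>
    w ≫ (shiftFunctor (Dual.D A) (1 : ℤ)).map (DerivedCategory.Q.map (piπ L k))
  have hwk : ∀ k, f • wk (k + 1) - wk k = 0 := by
    intro k
    have h1 := σ_shift_π L f 1 k
    have h2 : w ≫ ((shiftFunctor (Dual.D A) (1 : ℤ)).map (DerivedCategory.Q.map (σ L f)) ≫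
        (shiftFunctor (Dual.D A) (1 : ℤ)).map (DerivedCategory.Q.map (piπ L k))) = 0 := by
      rw [← Category.assoc, hw, zero_comp]
    rw [h1, Preadditive.comp_sub, Linear.comp_smul] at h2
    exact h2
  have hw0 : wk 0 = 0 := by
    show w ≫ _ = 0
    rw [hwdef, Category.assoc]
    exact hc
  have hwk0 := seq_eq_zero f hX wk hwk hw0
  have hw' : w = 0 := (isProdFor_shift_all X L 1).mono w hwk0
  obtain ⟨c₀, hc₀⟩ := coyoneda_ι L f c (hwdef ▸ hw')
  -- `c₀` is in the image of `σ`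
  obtain ⟨x, hx⟩ := seq_surjective f hX (fun k => c₀ ≫ DerivedCategory.Q.map (piπ L k))
  obtain ⟨c₁, hc₁⟩ := (isProdFor_all X L).surj x
  have h3 : c₁ ≫ DerivedCategory.Q.map (σ L f) = c₀ := by
    rw [← sub_eq_zero]
    apply (isProdFor_all X L).mono
    intro k
    rw [Preadditive.sub_comp, Category.assoc, ← Functor.map_comp, σ_π, Functor.map_sub,
      Functor.map_smul, Preadditive.comp_sub, Linear.comp_smul, hc₁, hc₁, hx, sub_self]
  rw [hc₀, ← h3, Category.assoc, σ_ι, comp_zero]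

/-- (F2), surjectivity -/
theorem q_comp_surjective {X : Dual.D A} (hX : IsLocal f X)
    (z : X ⟶ (DerivedCategory.Q.obj L)⟦(1 : ℤ)⟧) : ∃ c : X ⟶ Cp L f, c ≫ q L f = z := by
  obtain ⟨x, hx, hx0⟩ := seq_exists f hX z
  obtain ⟨w, hw⟩ := (isProdFor_shift_all X L 1).surj x
  have h1 : w ≫ (shiftFunctor (Dual.D A) (1 : ℤ)).map (DerivedCategory.Q.map (σ L f)) = 0 := by
    apply (isProdFor_shift_all X L 1).mono
    intro k
    rw [Category.assoc, σ_shift_π, Preadditive.comp_sub, Linear.comp_smul, hw, hw]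
    exact hx k
  obtain ⟨c, hc⟩ := coyoneda_δ L f w h1
  refine ⟨c, ?_⟩
  show c ≫ δ L f ≫ _ = z
  rw [← Category.assoc, ← hc, hw 0, hx0]

end construction

end Groth.Agent.Helper6.DComplF
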