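import Mathlib
import Groth.Prelude.Def_DRing4
import Groth.Agent.Helper6.DComplF

/-!
# The derived completion with respect to one element: universal property
-/

set_option autoImplicit false
universe u
open CategoryTheory CategoryTheory.Limits DerivedCategory Pretriangulated

attribute [local instance] HasDerivedCategory.standard

namespace Groth.Agent.Helper6.DComplG

open Groth.Agent.Helper3.DRingLib Groth.Agent.Helper6.DCHom Groth.Agent.Helper6.DComplTri
  Groth.Agent.Helper6.DComplF

variable {A : Type u} [CommRing A]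

/-- orthogonality to all shifts -/
def Orth (X K : Dual.D A) : Prop := ∀ n : ℤ, Subsingleton (X ⟶ K⟦n⟧)

lemma dcf_iff_orth (f : A) (K : Dual.D A) :
    DCf f K ↔ Orth (Dual.inD A (Localization.Away f)) K := by
  constructor
  · intro h n
    exact ⟨fun x y => by rw [h n x, h n y]⟩
  · intro h n g
    haveI := h n
    exact Subsingleton.elim _ _

lemma orth_obj₂ (X : Dual.D A) (T : Triangle (Dual.D A)) (hT : T ∈ distTriang _)
    (h1 : Orth X T.obj₁) (h3 : Orth X T.obj₃) : Orth X T.obj₂ :=
  fun n => subsingleton_hom_shift_obj₂ X T hT n (h1 n) (h3 n)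

lemma orth_obj₃ (X : Dual.D A) (T : Triangle (Dual.D A)) (hT : T ∈ distTriang _)
    (h1 : Orth X T.obj₁) (h2 : Orth X T.obj₂) : Orth X T.obj₃ := by
  intro n
  have := subsingleton_hom_shift_obj₂ X T.rotate (rot_of_distTriang _ hT) n (h2 n) ?_
  · exact this
  · have e : (T.rotate.obj₃)⟦n⟧ ≅ T.obj₁⟦n + 1⟧ :=
      (shiftFunctorAdd' (Dual.D A) 1 n (n + 1) (by omega)).symm.app T.obj₁
    have := h1 (n + 1)
    exact ⟨fun x y => by
      rw [← cancel_mono e.hom]
      exact Subsingleton.elim _ _⟩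

lemma orth_pi (X : Dual.D A) (L : DRing.Cx A) (h : Orth X (DerivedCategory.Q.obj L)) :
    Orth X (DerivedCategory.Q.obj (piCx L)) := by
  intro n
  have key : ∀ g : X ⟶ (DerivedCategory.Q.obj (piCx L))⟦n⟧, g = 0 := by
    intro g
    apply (isProdFor_shift_all X L n).mono
    intro k
    haveI := h n
    exact Subsingleton.elim _ _
  exact ⟨fun x y => by rw [key x, key y]⟩

section construction

variable (L : DRing.Cx A) (f : A)

lemma orth_Cp (X : Dual.D A) (h : Orth X (DerivedCategory.Q.obj L)) : Orth X (Cp L f) :=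
  orth_obj₃ X (T1 L f) (T1_dist L f) (orth_pi X L h) (orth_pi X L h)

/-- the completion triangle `L → C → C' → L[1]` -/
lemma exists_compl_triangle : ∃ (C : Dual.D A) (η : DerivedCategory.Q.obj L ⟶ C)
    (g : C ⟶ Cp L f), Triangle.mk η g (q L f) ∈ distTriang (Dual.D A) :=
  distinguished_cocone_triangle₂ (q L f)

variable {L f}
variable {C : Dual.D A} {η : DerivedCategory.Q.obj L ⟶ C} {g : C ⟶ Cp L f}
  (hT : Triangle.mk η g (q L f) ∈ distTriang (Dual.D A))

include hT

/-- (A) the completion is derived `f`-complete -/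
theorem dcf_compl : DCf f C := by
  apply dcf_of_forall_isLocal
  intro X hX c
  have h1 : c ≫ g = 0 := by
    apply q_comp_injective hX
    have : g ≫ q L f = 0 := comp_distTriang_mor_zero₂₃ _ hT
    rw [Category.assoc, this, comp_zero]
  obtain ⟨(l : X ⟶ DerivedCategory.Q.obj L), (hl : c = l ≫ η)⟩ :=
    Triangle.coyoneda_exact₂ _ hT c h1

  obtain ⟨m, hm⟩ := q_comp_surjective (isLocal_shift f X 1 hX)
    ((shiftFunctor (Dual.D A) (1 : ℤ)).map l)
  have h2 : q L f ≫ (shiftFunctor (Dual.D A) (1 : ℤ)).map η = 0 :=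
    comp_distTriang_mor_zero₃₁ _ hT
  have h3 : (shiftFunctor (Dual.D A) (1 : ℤ)).map (l ≫ η) = 0 := by
    rw [Functor.map_comp, ← hm, Category.assoc, h2, comp_zero]
  rw [hl]
  apply (shiftFunctor (Dual.D A) (1 : ℤ)).map_injective
  rw [h3, Functor.map_zero]

/-- (B) the universal property -/
theorem compl_bijective (Z : Dual.D A) (hZ : DCf f Z) :
    Function.Bijective (fun φ : C ⟶ Z => η ≫ φ) := by
  constructor
  · intro φ₁ φ₂ h
    dsimp only at h
    have h0 : η ≫ (φ₁ - φ₂) = 0 := by
      rw [Preadditive.comp_sub, h, sub_self]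
    obtain ⟨(ψ : Cp L f ⟶ Z), (hψ : φ₁ - φ₂ = g ≫ ψ)⟩ :=
      Triangle.yoneda_exact₂ _ hT (φ₁ - φ₂) h0

    have : ψ = 0 := hom_eq_zero_of_isLocal f _ (isLocal_Cp L f) Z hZ ψ
    rw [this, comp_zero] at hψ
    exact sub_eq_zero.mp hψ
  · intro ψ
    have hT' := inv_rot_of_distTriang _ hT
    have h0 : (Triangle.mk η g (q L f)).invRotate.mor₁ ≫ ψ = 0 :=
      hom_eq_zero_of_isLocal f _ (isLocal_shift f _ (-1) (isLocal_Cp L f)) Z hZ _
    obtain ⟨(φ : C ⟶ Z), (hφ : ψ = η ≫ φ)⟩ := Triangle.yoneda_exact₂ _ hT' ψ h0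
    exact ⟨φ, hφ.symm⟩

/-- (C) preservation of orthogonality -/
theorem orth_compl (X : Dual.D A) (h : Orth X (DerivedCategory.Q.obj L)) : Orth X C :=
  orth_obj₂ X _ hT h (orth_Cp L f X h)

end construction

/-- the one-element completion of an arbitrary object -/
theorem exists_completion_one (f : A) (K : Dual.D A) :
    ∃ (K' : Dual.D A) (η : K ⟶ K'), DCf f K' ∧ (∀ g : A, DCf g K → DCf g K') ∧
      ∀ Z : Dual.D A, DCf f Z → Function.Bijective (fun φ : K' ⟶ Z => η ≫ φ) := by
  let L : DRing.Cx A := DerivedCategory.Q.objPreimage K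
  let e : DerivedCategory.Q.obj L ≅ K := DerivedCategory.Q.objObjPreimageIso K
  obtain ⟨C, η, g, hT⟩ := exists_compl_triangle L f
  refine ⟨C, e.inv ≫ η, dcf_compl hT, ?_, ?_⟩
  · intro g' hg'
    rw [dcf_iff_orth]
    apply orth_compl hT
    rw [← dcf_iff_orth]
    exact dcf_of_iso g' e.symm hg'
  · intro Z hZ
    have hb := compl_bijective hT Z hZ
    have he : Function.Bijective (fun φ : DerivedCategory.Q.obj L ⟶ Z => e.inv ≫ φ) := by
      constructor
      · intro a b hab
        exact (cancel_epi e.inv).mp hab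
      · intro ψ
        exact ⟨e.hom ≫ ψ, by simp⟩
    have := he.comp hb
    convert this using 1
    funext φ
    simp

/-- the completion with respect to a finite list of elements -/
theorem exists_completion_list (fs : List A) (K : Dual.D A) :
    ∃ (K' : Dual.D A) (η : K ⟶ K'), (∀ f ∈ fs, DCf f K') ∧ (∀ g : A, DCf g K → DCf g K') ∧
      ∀ Z : Dual.D A, (∀ f ∈ fs, DCf f Z) → Function.Bijective (fun φ : K' ⟶ Z => η ≫ φ) := by
  induction fs with
  | nil =>
    refine ⟨K, 𝟙 K, by simp, fun g hg => hg, fun Z _ => ?_⟩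
    simp only [Category.id_comp]
    exact Function.bijective_id
  | cons f fs ih =>
    obtain ⟨K₁, η₁, h1, h2, h3⟩ := ih
    obtain ⟨K₂, η₂, k1, k2, k3⟩ := exists_completion_one f K₁
    refine ⟨K₂, η₁ ≫ η₂, ?_, fun g hg => k2 g (h2 g hg), ?_⟩
    · intro f' hf'
      rcases List.mem_cons.mp hf' with rfl | hf'
      · exact k1
      · exact k2 f' (h1 f' hf')
    · intro Z hZ
      have hb1 := h3 Z (fun f' hf' => hZ f' (List.mem_cons_of_mem _ hf'))
      have hb2 := k3 Z (hZ f List.mem_cons_self)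
      have := hb1.comp hb2
      convert this using 1
      funext φ
      simp

end Groth.Agent.Helper6.DComplG
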