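import Mathlib
import Groth.Prelude.Def_DRing4
import Groth.Agent.Helper6.DComplG
import Groth.Agent.Helper6.DerNak
import Groth.Agent.S7047

/-!
# Existence of derived completions for finitely generated ideals
-/

set_option autoImplicit false
universe u
open CategoryTheory CategoryTheory.Limits DerivedCategory Pretriangulated

attribute [local instance] HasDerivedCategory.standard

namespace Groth.Agent.Helper6.DComplAdj

open Groth.Agent.Helper3.DRingLib Groth.Agent.Helper6.DComplG

variable {A : Type u} [CommRing A]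

theorem isDerivedComplete_span_iff (fs : List A) (Z : Dual.D A) :
    DRing.IsDerivedComplete (Ideal.span {a | a ∈ fs}) Z ↔ ∀ f ∈ fs, DCf f Z := by
  rw [isDerivedComplete_iff_dcf]
  constructor
  · intro h f hf
    exact h f (Ideal.subset_span hf)
  · intro h
    obtain ⟨J, -, hJ⟩ := Groth.Agent.S7047.result Z
    have hsub : Ideal.span {a | a ∈ fs} ≤ J := by
      rw [Ideal.span_le]
      intro a ha
      rw [hJ]
      intro n
      exact ⟨fun x y => by rw [h a ha n x, h a ha n y]⟩
    intro f hf n g
    have : f ∈ (J : Set A) := hsub hf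
    rw [hJ] at this
    haveI := this n
    exact Subsingleton.elim _ _

/-- the completion exists objectwise, with its universal property -/
theorem exists_completion (I : Ideal A) (hI : I.FG) (K : Dual.D A) :
    ∃ (K' : Dual.D A) (η : K ⟶ K'), DRing.IsDerivedComplete I K' ∧
      ∀ Z : Dual.D A, DRing.IsDerivedComplete I Z →
        Function.Bijective (fun φ : K' ⟶ Z => η ≫ φ) := by
  obtain ⟨fs, rfl⟩ := Groth.Agent.Helper6.DerNak.exists_list_of_fg I hI
  obtain ⟨K', η, h1, -, h3⟩ := exists_completion_list fs K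
  exact ⟨K', η, (isDerivedComplete_span_iff fs K').mpr h1,
    fun Z hZ => h3 Z ((isDerivedComplete_span_iff fs Z).mp hZ)⟩

theorem hasDerivedCompletion_of_fg (I : Ideal A) (hI : I.FG) : DRing.HasDerivedCompletion I := by
  choose F η hF hη using exists_completion I hI
  let Fobj : Dual.D A → DRing.DComp I := fun K => ⟨F K, hF K⟩
  let e : ∀ (K : Dual.D A) (Z : DRing.DComp I),
      (Fobj K ⟶ Z) ≃ (K ⟶ (ObjectProperty.ι (DRing.IsDerivedComplete I)).obj Z) := fun K Z =>
    Equiv.ofBijective (fun φ => η K ≫ φ.hom) (by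
      constructor
      · intro φ₁ φ₂ h
        exact ObjectProperty.hom_ext _ ((hη K Z.obj Z.property).1 h)
      · intro ψ
        obtain ⟨φ, hφ⟩ := (hη K Z.obj Z.property).2 ψ
        exact ⟨ObjectProperty.homMk φ, hφ⟩)
  have he : ∀ X Y Y' (g : Y ⟶ Y') (h : Fobj X ⟶ Y), e X Y' (h ≫ g) =
      e X Y h ≫ (ObjectProperty.ι (DRing.IsDerivedComplete I)).map g := by
    intro X Y Y' g h
    show η X ≫ (h ≫ g).hom = (η X ≫ h.hom) ≫ g.hom
    rw [Category.assoc]
    rfl
  exact (Adjunction.adjunctionOfEquivLeft e he).isRightAdjoint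

end Groth.Agent.Helper6.DComplAdj
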