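import Mathlib
import Groth.Prelude.Def_DRing4
import Groth.Agent.Helper6.DComplAdj

/-!
# Amplitude of derived completions; uniqueness of completions
-/

set_option autoImplicit false
universe u
open CategoryTheory CategoryTheory.Limits DerivedCategory Pretriangulated

attribute [local instance] HasDerivedCategory.standard

namespace Groth.Agent.Helper6.DComplAmp

open Groth.Agent.Helper3.DRingLib Groth.Agent.Helper6.DCHom Groth.Agent.Helper6.DComplTri
  Groth.Agent.Helper6.DComplF Groth.Agent.Helper6.DComplG Groth.Agent.Helper6.DComplAdj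

variable {A : Type u} [CommRing A]

/-- vanishing of the cohomology in one degree -/
def HZ (K : Dual.D A) (i : ℤ) : Prop :=
  IsZero ((DerivedCategory.homologyFunctor (ModuleCat.{u} A) i).obj K)

lemma hz_iff_subsingleton (K : Dual.D A) (i : ℤ) : HZ K i ↔ Subsingleton (Dual.HD A K i) :=
  ⟨fun h => ModuleCat.subsingleton_of_isZero h, fun _ => ModuleCat.isZero_of_subsingleton _⟩

lemma hz_of_iso {K K' : Dual.D A} (e : K ≅ K') (i : ℤ) (h : HZ K i) : HZ K' i :=
  h.of_iso ((DerivedCategory.homologyFunctor (ModuleCat.{u} A) i).mapIso e.symm)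

lemma hz_obj₂ (T : Triangle (Dual.D A)) (hT : T ∈ distTriang _) (i : ℤ)
    (h1 : HZ T.obj₁ i) (h3 : HZ T.obj₃ i) : HZ T.obj₂ i :=
  (DerivedCategory.HomologySequence.exact₂ T hT i).isZero_of_both_zeros
    (h1.eq_of_src _ _) (h3.eq_of_tgt _ _)

lemma hz_obj₃ (T : Triangle (Dual.D A)) (hT : T ∈ distTriang _) (i j : ℤ) (hij : i + 1 = j)
    (h2 : HZ T.obj₂ i) (h1 : HZ T.obj₁ j) : HZ T.obj₃ i :=
  (DerivedCategory.HomologySequence.exact₃ T hT i j hij).isZero_of_both_zeros
    (h2.eq_of_src _ _) (h1.eq_of_tgt _ _)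

lemma hz_Q_iff (L : DRing.Cx A) (i : ℤ) : HZ (DerivedCategory.Q.obj L) i ↔ L.ExactAt i := by
  rw [hz_iff_subsingleton]
  exact Groth.Agent.Helper6.DerNak.subsingleton_HD_iff_exactAt L (Iso.refl _) i

lemma exactAt_piCx (L : DRing.Cx A) (i : ℤ) (h : L.ExactAt i) : (piCx L).ExactAt i := by
  rw [exactAt_iff_forall _ (i - 1) i (i + 1) (by omega) rfl] at h ⊢
  intro x hx
  have hx' : ∀ k, (L.d i (i + 1)).hom (x k) = 0 := fun k => congrFun hx k
  choose y hy using fun k => h (x k) (hx' k)
  exact ⟨y, funext hy⟩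

section construction

variable (L : DRing.Cx A) (f : A)

lemma hz_Cp (i j : ℤ) (hij : i + 1 = j) (h1 : HZ (DerivedCategory.Q.obj L) i)
    (h2 : HZ (DerivedCategory.Q.obj L) j) : HZ (Cp L f) i := by
  rw [hz_Q_iff] at h1 h2
  exact hz_obj₃ (T1 L f) (T1_dist L f) i j hij ((hz_Q_iff _ _).mpr (exactAt_piCx L i h1))
    ((hz_Q_iff _ _).mpr (exactAt_piCx L j h2))

variable {L f}

lemma hz_compl {C : Dual.D A} {η : DerivedCategory.Q.obj L ⟶ C} {g : C ⟶ Cp L f}
    (hT : Triangle.mk η g (q L f) ∈ distTriang (Dual.D A)) (i j : ℤ) (hij : i + 1 = j)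
    (h1 : HZ (DerivedCategory.Q.obj L) i) (h2 : HZ (DerivedCategory.Q.obj L) j) : HZ C i :=
  hz_obj₂ _ hT i h1 (hz_Cp L f i j hij h1 h2)

end construction

/-- the one-element completion of an arbitrary object, with amplitude control -/
theorem exists_completion_one (f : A) (K : Dual.D A) :
    ∃ (K' : Dual.D A) (η : K ⟶ K'), DCf f K' ∧ (∀ g : A, DCf g K → DCf g K') ∧
      (∀ Z : Dual.D A, DCf f Z → Function.Bijective (fun φ : K' ⟶ Z => η ≫ φ)) ∧
      ∀ i : ℤ, HZ K i → HZ K (i + 1) → HZ K' i := by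
  let L : DRing.Cx A := DerivedCategory.Q.objPreimage K
  let e : DerivedCategory.Q.obj L ≅ K := DerivedCategory.Q.objObjPreimageIso K
  obtain ⟨C, η, g, hT⟩ := exists_compl_triangle L f
  refine ⟨C, e.inv ≫ η, dcf_compl hT, ?_, ?_, ?_⟩
  · intro g' hg'
    rw [dcf_iff_orth]
    apply orth_compl hT
    rw [← dcf_iff_orth]
    exact dcf_of_iso g' e.symm hg'
  · intro Z hZ
    have hb := compl_bijective hT Z hZ
    have he : Function.Bijective (fun φ : DerivedCategory.Q.obj L ⟶ Z => e.inv ≫ φ) := by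
      constructor
      · intro a b hab
        exact (cancel_epi e.inv).mp hab
      · intro ψ
        exact ⟨e.hom ≫ ψ, by simp⟩
    have := he.comp hb
    convert this using 1
    funext φ
    simp
  · intro i h1 h2
    exact hz_compl hT i (i + 1) rfl (hz_of_iso e.symm i h1) (hz_of_iso e.symm (i + 1) h2)

/-- the completion with respect to a finite list of elements, with amplitude control -/
theorem exists_completion_list (fs : List A) (K : Dual.D A) :
    ∃ (K' : Dual.D A) (η : K ⟶ K'), (∀ f ∈ fs, DCf f K') ∧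
      (∀ Z : Dual.D A, (∀ f ∈ fs, DCf f Z) → Function.Bijective (fun φ : K' ⟶ Z => η ≫ φ)) ∧
      ∀ i : ℤ, (∀ j : ℤ, i ≤ j → j ≤ i + fs.length → HZ K j) → HZ K' i := by
  induction fs with
  | nil =>
    refine ⟨K, 𝟙 K, by simp, fun Z _ => ?_, fun i h => h i le_rfl (by simp)⟩
    simp only [Category.id_comp]
    exact Function.bijective_id
  | cons f fs ih =>
    obtain ⟨K₁, η₁, h1, h3, h4⟩ := ih
    obtain ⟨K₂, η₂, k1, k2, k3, k4⟩ := exists_completion_one f K₁
    refine ⟨K₂, η₁ ≫ η₂, ?_, ?_, ?_⟩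
    · intro f' hf'
      rcases List.mem_cons.mp hf' with rfl | hf'
      · exact k1
      · exact k2 f' (h1 f' hf')
    · intro Z hZ
      have hb1 := h3 Z (fun f' hf' => hZ f' (List.mem_cons_of_mem _ hf'))
      have hb2 := k3 Z (hZ f List.mem_cons_self)
      have := hb1.comp hb2
      convert this using 1
      funext φ
      simp
    · intro i h
      rw [List.length_cons] at h
      apply k4 i
      · exact h4 i (fun j hj1 hj2 => h j hj1 (by push_cast; omega))
      · exact h4 (i + 1) (fun j hj1 hj2 => h j (by omega) (by push_cast; omega))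

/-- the completion exists objectwise, with its universal property and amplitude control -/
theorem exists_completion (fs : List A) (K : Dual.D A) :
    ∃ (K' : Dual.D A) (η : K ⟶ K'), DRing.IsDerivedComplete (Ideal.span {a | a ∈ fs}) K' ∧
      (∀ Z : Dual.D A, DRing.IsDerivedComplete (Ideal.span {a | a ∈ fs}) Z →
        Function.Bijective (fun φ : K' ⟶ Z => η ≫ φ)) ∧
      ∀ i : ℤ, (∀ j : ℤ, i ≤ j → j ≤ i + fs.length → HZ K j) → HZ K' i := by
  obtain ⟨K', η, h1, h3, h4⟩ := exists_completion_list fs K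
  exact ⟨K', η, (isDerivedComplete_span_iff fs K').mpr h1,
    fun Z hZ => h3 Z ((isDerivedComplete_span_iff fs Z).mp hZ), h4⟩

section unique

variable (I : Ideal A) [DRing.HasDerivedCompletion I]

/-- the universal property of the chosen completion -/
lemma toDerivedCompletion_bijective (K Z : Dual.D A) (hZ : DRing.IsDerivedComplete I Z) :
    Function.Bijective
      (fun φ : ((DRing.derivedCompletion I).obj K).obj ⟶ Z => DRing.toDerivedCompletion I K ≫ φ) := by
  let Z' : DRing.DComp I := ⟨Z, hZ⟩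
  have hb := ((DRing.derivedCompletionAdj I).homEquiv K Z').bijective
  constructor
  · intro φ₁ φ₂ h
    have : ObjectProperty.homMk (P := DRing.IsDerivedComplete I)
        (X := (DRing.derivedCompletion I).obj K) (Y := Z') φ₁ = ObjectProperty.homMk φ₂ := by
      apply hb.1
      rw [Adjunction.homEquiv_unit, Adjunction.homEquiv_unit]
      exact h
    exact congrArg (fun ψ => ψ.hom) this
  · intro ψ
    obtain ⟨φ, hφ⟩ := hb.2 ψ
    refine ⟨φ.hom, ?_⟩
    rw [Adjunction.homEquiv_unit] at hφ
    exact hφ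

/-- two completions are isomorphic -/
theorem completion_unique (K K' : Dual.D A) (η : K ⟶ K') (hK' : DRing.IsDerivedComplete I K')
    (huniv : ∀ Z : Dual.D A, DRing.IsDerivedComplete I Z →
      Function.Bijective (fun φ : K' ⟶ Z => η ≫ φ)) :
    ∃ e : ((DRing.derivedCompletion I).obj K).obj ≅ K', DRing.toDerivedCompletion I K ≫ e.hom = η := by
  have hC : DRing.IsDerivedComplete I ((DRing.derivedCompletion I).obj K).obj :=
    ((DRing.derivedCompletion I).obj K).property
  obtain ⟨a, ha⟩ := (toDerivedCompletion_bijective I K K' hK').2 η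
  obtain ⟨b, hb⟩ := (huniv _ hC).2 (DRing.toDerivedCompletion I K)
  dsimp only at ha hb
  refine ⟨⟨a, b, ?_, ?_⟩, ha⟩
  · apply (toDerivedCompletion_bijective I K _ hC).1
    dsimp only
    rw [← Category.assoc, ha, hb, Category.comp_id]
  · apply (huniv _ hK').1
    dsimp only
    rw [← Category.assoc, hb, ha, Category.comp_id]

end unique

end Groth.Agent.Helper6.DComplAmp
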