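import Mathlib
import Groth.Prelude.Def_DRing4
import Groth.Agent.Helper3.DRingComp

/-!
# The derived completion functor is exact
-/

set_option autoImplicit false
universe u
open CategoryTheory CategoryTheory.Limits DerivedCategory Pretriangulated

attribute [local instance] HasDerivedCategory.standard

namespace Groth.Agent.Helper6.DComplExact

open Groth.Agent.Helper3.DRingLib ZeroObject

variable {A : Type u} [CommRing A] (I : Ideal A)

instance : (DRing.IsDerivedComplete I).IsClosedUnderIsomorphisms :=
  ⟨fun e h => isDerivedComplete_of_iso I e h⟩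

lemma isDerivedComplete_of_isZero (Z : Dual.D A) (hZ : IsZero Z) : DRing.IsDerivedComplete I Z := by
  intro f hf n
  have : IsZero (Z⟦n⟧) := (shiftFunctor (Dual.D A) n).map_isZero hZ
  exact ⟨fun x y => this.eq_of_tgt _ _⟩

lemma isDerivedComplete_shift (K : Dual.D A) (a : ℤ) (h : DRing.IsDerivedComplete I K) :
    DRing.IsDerivedComplete I (K⟦a⟧) := by
  intro f hf n
  have e : (K⟦a⟧)⟦n⟧ ≅ K⟦a + n⟧ :=
    (shiftFunctorAdd' (Dual.D A) a n (a + n) rfl).symm.app K
  have := h f hf (a + n)
  exact ⟨fun x y => by
    rw [← cancel_mono e.hom]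
    exact Subsingleton.elim _ _⟩

instance : (DRing.IsDerivedComplete I).IsTriangulated where
  exists_zero := ⟨(0 : DerivedCategory (ModuleCat.{u} A)), isZero_zero _,
    isDerivedComplete_of_isZero I _ (isZero_zero _)⟩
  isStableUnderShiftBy a := ⟨fun K h => isDerivedComplete_shift I K a h⟩
  toIsTriangulatedClosed₂ := .mk' (fun T hT h1 h3 => isDerivedComplete_obj₂ I T hT h1 h3)

variable [DRing.HasDerivedCompletion I]

/-- the completion functor maps distinguished triangles to distinguished triangles -/
theorem derivedCompletion_distinguished (T : Triangle (Dual.D A)) (hT : T ∈ distTriang _) :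
    ∃ δ' : ((DRing.derivedCompletion I).obj T.obj₃).obj ⟶
        (((DRing.derivedCompletion I).obj T.obj₁).obj)⟦(1 : ℤ)⟧,
      Triangle.mk ((DRing.derivedCompletion I).map T.mor₁).hom
        ((DRing.derivedCompletion I).map T.mor₂).hom δ' ∈ distTriang (Dual.D A) := by
  letI := (DRing.derivedCompletionAdj I).leftAdjointCommShift ℤ
  haveI := (DRing.derivedCompletionAdj I).commShift_of_rightAdjoint ℤ
  haveI : (DRing.derivedCompletion I).IsTriangulated :=
    (DRing.derivedCompletionAdj I).isTriangulated_leftAdjoint
  have h := (DRing.derivedCompletion I).map_distinguished T hT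
  exact ⟨_, h⟩

end Groth.Agent.Helper6.DComplExact
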