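import Mathlib
import Groth.Prelude.Def_DRing4
import Groth.Agent.Helper6.DComplAmp
import Groth.Agent.Helper6.DComplExact

/-!
# Long exact sequence consequences for derived completions
-/

set_option autoImplicit false
universe u
open CategoryTheory CategoryTheory.Limits DerivedCategory Pretriangulated

attribute [local instance] HasDerivedCategory.standard

namespace Groth.Agent.Helper6.DComplLES

open Groth.Agent.Helper3.DRingLib Groth.Agent.Helper6.DComplAmp Groth.Agent.Helper6.DComplExact

variable {A : Type u} [CommRing A]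

section les

variable (T : Triangle (Dual.D A)) (hT : T ∈ distTriang _)

include hT

lemma hz_obj₃_of_epi_mono (i j : ℤ) (hij : i + 1 = j)
    (h1 : Epi ((DerivedCategory.homologyFunctor (ModuleCat.{u} A) i).map T.mor₁))
    (h2 : Mono ((DerivedCategory.homologyFunctor (ModuleCat.{u} A) j).map T.mor₁)) :
    HZ T.obj₃ i := by
  have e1 := (DerivedCategory.HomologySequence.epi_homologyMap_mor₁_iff T hT i).mp h1
  have e2 := (DerivedCategory.HomologySequence.mono_homologyMap_mor₁_iff T hT i j hij).mp h2
  exact (DerivedCategory.HomologySequence.exact₃ T hT i j hij).isZero_of_both_zeros e1 e2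

lemma epi_mor₁ (i : ℤ) (h : HZ T.obj₃ i) :
    Epi ((DerivedCategory.homologyFunctor (ModuleCat.{u} A) i).map T.mor₁) :=
  (DerivedCategory.HomologySequence.epi_homologyMap_mor₁_iff T hT i).mpr (h.eq_of_tgt _ _)

lemma mono_mor₁ (i j : ℤ) (hij : i + 1 = j) (h : HZ T.obj₃ i) :
    Mono ((DerivedCategory.homologyFunctor (ModuleCat.{u} A) j).map T.mor₁) :=
  (DerivedCategory.HomologySequence.mono_homologyMap_mor₁_iff T hT i j hij).mpr (h.eq_of_src _ _)

lemma isIso_mor₁ (i j : ℤ) (hij : i + 1 = j) (h0 : HZ T.obj₃ i) (h1 : HZ T.obj₃ j) :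
    IsIso ((DerivedCategory.homologyFunctor (ModuleCat.{u} A) j).map T.mor₁) := by
  haveI := epi_mor₁ T hT j h1
  haveI := mono_mor₁ T hT i j hij h0
  exact isIso_of_mono_of_epi _

end les

/-- amplitude of the chosen derived completion -/
theorem hz_derivedCompletion (I : Ideal A) [DRing.HasDerivedCompletion I] (fs : List A)
    (hspan : Ideal.span {a | a ∈ fs} = I) (K : Dual.D A) (i : ℤ)
    (h : ∀ j : ℤ, i ≤ j → j ≤ i + fs.length → HZ K j) :
    HZ ((DRing.derivedCompletion I).obj K).obj i := by
  subst hspan
  obtain ⟨K', η, h1, h2, h3⟩ := exists_completion fs K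
  obtain ⟨e, -⟩ := completion_unique _ K K' η h1 h2
  exact hz_of_iso e.symm i (h3 i h)

/-- the key consequence: if the cone of `φ` has vanishing cohomology in a range, so does the cone
of its completion -/
theorem exists_triangle_completion (I : Ideal A) [DRing.HasDerivedCompletion I]
    {K L : Dual.D A} (φ : K ⟶ L) :
    ∃ (M : Dual.D A),
      (∀ i j : ℤ, i + 1 = j → Epi ((DerivedCategory.homologyFunctor (ModuleCat.{u} A) i).map φ) →
        Mono ((DerivedCategory.homologyFunctor (ModuleCat.{u} A) j).map φ) → HZ M i) ∧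
      (∀ i, HZ ((DRing.derivedCompletion I).obj M).obj i →
        Epi ((DerivedCategory.homologyFunctor (ModuleCat.{u} A) i).map
          ((DRing.derivedCompletion I).map φ).hom)) ∧
      (∀ i j : ℤ, i + 1 = j → HZ ((DRing.derivedCompletion I).obj M).obj i →
        Mono ((DerivedCategory.homologyFunctor (ModuleCat.{u} A) j).map
          ((DRing.derivedCompletion I).map φ).hom)) := by
  obtain ⟨M, g, h, hT⟩ := distinguished_cocone_triangle φ
  obtain ⟨δ', hT'⟩ := derivedCompletion_distinguished I _ hT
  refine ⟨M, ?_, ?_, ?_⟩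
  · intro i j hij h1 h2
    exact hz_obj₃_of_epi_mono _ hT i j hij h1 h2
  · intro i h1
    exact epi_mor₁ _ hT' i h1
  · intro i j hij h1
    exact mono_mor₁ _ hT' i j hij h1

end Groth.Agent.Helper6.DComplLES
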