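import Mathlib
import Groth.Prelude.Def_DRing4
import Groth.Prelude.Def_DualLC

/-!
# Elementwise access to `Dual2.HDI`
-/

set_option autoImplicit false
set_option linter.style.haveILetI false
set_option linter.unusedSectionVars false

universe u
open CategoryTheory CategoryTheory.Limits Opposite DerivedCategory
attribute [local instance] HasDerivedCategory.standard

namespace Groth.Agent.Helper6.LcD

variable {A : Type u} [CommRing A] (J : Ideal A)

/-- the surjections `A/J^n' → A/J^n` -/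
noncomputable def πJ (n n' : ℕ) (h : n ≤ n') : (A ⧸ J ^ n') →ₗ[A] (A ⧸ J ^ n) :=
  Submodule.mapQ (J ^ n') (J ^ n) LinearMap.id (Ideal.pow_le_pow_right h)

lemma πJ_trans (n n' n'' : ℕ) (h : n ≤ n') (h' : n' ≤ n'') :
    πJ J n n' h ∘ₗ πJ J n' n'' h' = πJ J n n'' (h.trans h') := by
  apply LinearMap.ext
  intro x
  obtain ⟨a, rfl⟩ := Submodule.Quotient.mk_surjective _ x
  rfl

lemma πJ_refl (n : ℕ) : πJ J n n le_rfl = LinearMap.id := by
  apply LinearMap.ext
  intro x
  obtain ⟨a, rfl⟩ := Submodule.Quotient.mk_surjective _ x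
  rfl

variable (K : Dual.D A) (i : ℤ)

/-- the diagram defining `HDI` -/
noncomputable abbrev hdiDiag : ℕᵒᵖᵒᵖ ⥤ ModuleCat.{u + 1} A :=
  (localCohomology.ringModIdeals (localCohomology.idealPowersDiagram J) ⋙
      DerivedCategory.singleFunctor (ModuleCat.{u} A) 0).op ⋙
    (linearYoneda A (Dual.D A)).obj (K⟦i⟧)

/-- the modules of the system -/
abbrev GH (n : ℕ) : Type (u + 1) := Dual.inD A (A ⧸ J ^ n) ⟶ K⟦i⟧

/-- the transition maps -/
noncomputable def gmap (n n' : ℕ) (h : n ≤ n') : GH J K i n →ₗ[A] GH J K i n' :=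
  Linear.leftComp A (K⟦i⟧) ((singleFunctor (ModuleCat.{u} A) 0).map (ModuleCat.ofHom (πJ J n n' h)))

lemma gmap_apply (n n' : ℕ) (h : n ≤ n') (y : GH J K i n) :
    gmap J K i n n' h y =
      (singleFunctor (ModuleCat.{u} A) 0).map (ModuleCat.ofHom (πJ J n n' h)) ≫ y := rfl

lemma gmap_trans (n n' n'' : ℕ) (h : n ≤ n') (h' : n' ≤ n'') (y : GH J K i n) :
    gmap J K i n' n'' h' (gmap J K i n n' h y) = gmap J K i n n'' (h.trans h') y := by
  rw [gmap_apply, gmap_apply, gmap_apply, ← Category.assoc, ← Functor.map_comp,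
    ← ModuleCat.ofHom_comp, πJ_trans]

lemma gmap_refl (n : ℕ) (y : GH J K i n) : gmap J K i n n le_rfl y = y := by
  rw [gmap_apply, πJ_refl, ModuleCat.ofHom_id, CategoryTheory.Functor.map_id, Category.id_comp]

instance : DirectedSystem (GH J K i) (fun n n' h => gmap J K i n n' h) where
  map_self n y := gmap_refl J K i n y
  map_map k j l hij hjk y := gmap_trans J K i l j k hij hjk y

lemma hdiDiag_map (n n' : ℕ) (h : n ≤ n') :
    (hdiDiag J K i).map (homOfLE h).op.op = ModuleCat.ofHom (gmap J K i n n' h) := rfl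

lemma hom_eq (j j' : ℕᵒᵖᵒᵖ) (f : j ⟶ j') :
    ∃ h : j.unop.unop ≤ j'.unop.unop, f = (homOfLE h).op.op := by
  refine ⟨leOfHom f.unop.unop, ?_⟩
  rw [show homOfLE (leOfHom f.unop.unop) = f.unop.unop from Subsingleton.elim _ _]
  rfl

/-- the legs of the colimit -/
noncomputable def hdiι (n : ℕ) : GH J K i n →ₗ[A] Dual2.HDI A J K i :=
  (colimit.ι (hdiDiag J K i) (op (op n))).hom

lemma hdiι_compat (n n' : ℕ) (h : n ≤ n') (y : GH J K i n) :
    hdiι J K i n' (gmap J K i n n' h y) = hdiι J K i n y := by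
  have h1 := colimit.w (hdiDiag J K i) (homOfLE h).op.op
  rw [hdiDiag_map] at h1
  exact LinearMap.congr_fun (congrArg ModuleCat.Hom.hom h1) y

/-- the induced map out of `HDI` -/
noncomputable def hdiDesc {T : Type (u + 1)} [AddCommGroup T] [Module A T]
    (ψ : ∀ n : ℕ, GH J K i n →ₗ[A] T)
    (hψ : ∀ (n n' : ℕ) (h : n ≤ n') (y : GH J K i n), ψ n' (gmap J K i n n' h y) = ψ n y) :
    Dual2.HDI A J K i →ₗ[A] T :=
  (colimit.desc (hdiDiag J K i)
    { pt := ModuleCat.of A T
      ι :=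
        { app := fun j => ModuleCat.ofHom (ψ j.unop.unop)
          naturality := fun j j' f => by
            obtain ⟨hle, rfl⟩ := hom_eq j j' f
            rw [hdiDiag_map]
            ext y
            exact hψ _ _ hle y } }).hom

lemma hdiDesc_ι {T : Type (u + 1)} [AddCommGroup T] [Module A T]
    (ψ : ∀ n : ℕ, GH J K i n →ₗ[A] T)
    (hψ : ∀ (n n' : ℕ) (h : n ≤ n') (y : GH J K i n), ψ n' (gmap J K i n n' h y) = ψ n y)
    (n : ℕ) (y : GH J K i n) :
    hdiDesc J K i ψ hψ (hdiι J K i n y) = ψ n y := by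
  have h1 := colimit.ι_desc (F := hdiDiag J K i)
    { pt := ModuleCat.of A T
      ι :=
        { app := fun j => ModuleCat.ofHom (ψ j.unop.unop)
          naturality := fun j j' f => by
            obtain ⟨hle, rfl⟩ := hom_eq j j' f
            rw [hdiDiag_map]
            ext y
            exact hψ _ _ hle y } } (op (op n))
  exact LinearMap.congr_fun (congrArg ModuleCat.Hom.hom h1) y

theorem hdi_eq_zero (n : ℕ) (y : GH J K i n) (hy : hdiι J K i n y = 0) :
    ∃ (n' : ℕ) (h : n ≤ n'), gmap J K i n n' h y = 0 := by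
  have h1 := hdiDesc_ι J K i
    (fun n => Module.DirectLimit.of A ℕ (GH J K i) (gmap J K i) n)
    (fun n n' h y => Module.DirectLimit.of_f) n y
  rw [hy, map_zero] at h1
  exact Module.DirectLimit.of.zero_exact h1.symm

/-- the elements represented at a finite stage -/
noncomputable def repSub : Submodule A (Dual2.HDI A J K i) where
  carrier := {x | ∃ (n : ℕ) (y : GH J K i n), hdiι J K i n y = x}
  add_mem' := by
    rintro _ _ ⟨n, y, rfl⟩ ⟨n', y', rfl⟩
    refine ⟨max n n', gmap J K i n _ (le_max_left _ _) y + gmap J K i n' _ (le_max_right _ _) y',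
      ?_⟩
    rw [map_add, hdiι_compat, hdiι_compat]
  zero_mem' := ⟨0, 0, map_zero _⟩
  smul_mem' := by
    rintro a _ ⟨n, y, rfl⟩
    exact ⟨n, a • y, map_smul _ _ _⟩

theorem hdi_exists_rep (x : Dual2.HDI A J K i) :
    ∃ (n : ℕ) (y : GH J K i n), hdiι J K i n y = x := by
  have h1 : ModuleCat.ofHom (repSub J K i).mkQ = (0 : Dual2.HDI A J K i ⟶
      ModuleCat.of A (Dual2.HDI A J K i ⧸ repSub J K i)) := by
    apply colimit.hom_ext
    intro j
    ext y
    show (repSub J K i).mkQ ((colimit.ι (hdiDiag J K i) j).hom y) = 0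
    rw [Submodule.mkQ_apply, Submodule.Quotient.mk_eq_zero]
    exact ⟨j.unop.unop, y, rfl⟩
  have h2 : (repSub J K i).mkQ x = 0 := LinearMap.congr_fun (congrArg ModuleCat.Hom.hom h1) x
  rw [Submodule.mkQ_apply, Submodule.Quotient.mk_eq_zero] at h2
  exact h2

/-- **Recognition of `HDI`**: a compatible family which is jointly surjective and has the
expected kernels identifies the target with `HDI`. -/
theorem hdiDesc_bijective {T : Type (u + 1)} [AddCommGroup T] [Module A T]
    (ψ : ∀ n : ℕ, GH J K i n →ₗ[A] T)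
    (hψ : ∀ (n n' : ℕ) (h : n ≤ n') (y : GH J K i n), ψ n' (gmap J K i n n' h y) = ψ n y)
    (hsurj : ∀ t : T, ∃ (n : ℕ) (y : GH J K i n), ψ n y = t)
    (hker : ∀ (n : ℕ) (y : GH J K i n), ψ n y = 0 →
      ∃ (n' : ℕ) (h : n ≤ n'), gmap J K i n n' h y = 0) :
    Function.Bijective (hdiDesc J K i ψ hψ) := by
  constructor
  · rw [injective_iff_map_eq_zero]
    intro z hz
    obtain ⟨n, y, rfl⟩ := hdi_exists_rep J K i z
    rw [hdiDesc_ι] at hz
    obtain ⟨n', h, h0⟩ := hker n y hz
    rw [← hdiι_compat J K i n n' h y, h0, map_zero]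
  · intro t
    obtain ⟨n, y, rfl⟩ := hsurj t
    exact ⟨hdiι J K i n y, hdiDesc_ι J K i ψ hψ n y⟩

end Groth.Agent.Helper6.LcD
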