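import Mathlib
import Groth.Agent.Helper1.DeltaColim
import Groth.Agent.Helper1.LocCohZero
import Groth.Agent.Helper1.LocCohDelta

/-!
# `colim_k Extⁿ(A/J^k, -)` (Mathlib's new `Ext`) as a δ-functor, and its comparison with
Mathlib's `localCohomology`
-/

set_option autoImplicit false
set_option linter.style.haveILetI false
set_option linter.unusedSectionVars false

universe u
open CategoryTheory CategoryTheory.Limits Opposite Abelian
open Groth.Agent.Helper1.DeltaFun

namespace Groth.Agent.Helper6.LcD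

variable {A : Type u} [CommRing A]

/-- `M ↦ Extⁿ(X, M)` as a functor to modules -/
noncomputable def extFun (X : ModuleCat.{u} A) (n : ℕ) : ModuleCat.{u} A ⥤ ModuleCat.{u} A where
  obj M := ModuleCat.of A (Ext.{u} X M n)
  map {M N} f := ModuleCat.ofHom (Ext.postcompOfLinear (Ext.mk₀ f) A X (add_zero n))
  map_id M := by
    apply ModuleCat.hom_ext
    apply LinearMap.ext
    intro (x : Ext.{u} X M n)
    exact Ext.comp_mk₀_id x
  map_comp {M N N'} f g := by
    apply ModuleCat.hom_ext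
    apply LinearMap.ext
    intro (x : Ext.{u} X M n)
    show x.comp (Ext.mk₀ (f ≫ g)) (add_zero n) =
      (x.comp (Ext.mk₀ f) (add_zero n)).comp (Ext.mk₀ g) (add_zero n)
    rw [Ext.comp_assoc_of_third_deg_zero, Ext.mk₀_comp_mk₀]

lemma extFun_map_apply (X : ModuleCat.{u} A) (n : ℕ) {M N : ModuleCat.{u} A} (f : M ⟶ N)
    (x : Ext.{u} X M n) :
    ((extFun X n).map f).hom x = x.comp (Ext.mk₀ f) (add_zero n) := rfl

/-- functoriality in `X` -/
noncomputable def extFunMap {X X' : ModuleCat.{u} A} (g : X' ⟶ X) (n : ℕ) :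
    extFun X n ⟶ extFun X' n where
  app M := ModuleCat.ofHom (Ext.precompOfLinear (Ext.mk₀ g) A M (zero_add n))
  naturality {M N} f := by
    apply ModuleCat.hom_ext
    apply LinearMap.ext
    intro (x : Ext.{u} X M n)
    show (Ext.mk₀ g).comp (x.comp (Ext.mk₀ f) (add_zero n)) (zero_add n) =
      ((Ext.mk₀ g).comp x (zero_add n)).comp (Ext.mk₀ f) (add_zero n)
    rw [Ext.comp_assoc_of_third_deg_zero]

lemma extFunMap_app_apply {X X' : ModuleCat.{u} A} (g : X' ⟶ X) (n : ℕ) (M : ModuleCat.{u} A)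
    (x : Ext.{u} X M n) :
    ((extFunMap g n).app M).hom x = (Ext.mk₀ g).comp x (zero_add n) := rfl

section diagram

variable {D : Type} [SmallCategory D] (P : D ⥤ ModuleCat.{u} A)

/-- the diagram `d ↦ Extⁿ(P d, -)` -/
noncomputable def nExt (n : ℕ) : Dᵒᵖ ⥤ ModuleCat.{u} A ⥤ ModuleCat.{u} A where
  obj e := extFun (P.obj e.unop) n
  map {e e'} f := extFunMap (P.map f.unop) n
  map_id e := by
    apply NatTrans.ext
    funext M
    apply ModuleCat.hom_ext
    apply LinearMap.ext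
    intro (x : Ext.{u} (P.obj e.unop) M n)
    show (Ext.mk₀ (P.map (𝟙 e).unop)).comp x (zero_add n) = x
    rw [unop_id, P.map_id, Ext.mk₀_id_comp]
  map_comp {e e' e''} f g := by
    apply NatTrans.ext
    funext M
    apply ModuleCat.hom_ext
    apply LinearMap.ext
    intro (x : Ext.{u} (P.obj e.unop) M n)
    show (Ext.mk₀ (P.map (f ≫ g).unop)).comp x (zero_add n) =
      (Ext.mk₀ (P.map g.unop)).comp ((Ext.mk₀ (P.map f.unop)).comp x (zero_add n)) (zero_add n)
    rw [Ext.mk₀_comp_mk₀_assoc, unop_comp, P.map_comp]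

/-- the diagram of δ-functors `d ↦ Ext^•(P d, -)` -/
noncomputable def nExtDiagram : DeltaDiagram Dᵒᵖ (ModuleCat.{u} A) (ModuleCat.{u} A) where
  T n := nExt P n
  δ e S hS n := ModuleCat.ofHom (Ext.postcompOfLinear hS.extClass A (P.obj e.unop) rfl)
  δ_nat e {S S'} φ hS hS' n := by
    apply ModuleCat.hom_ext
    apply LinearMap.ext
    intro (x : Ext.{u} (P.obj e.unop) S.X₃ n)
    show (x.comp hS.extClass rfl).comp (Ext.mk₀ φ.τ₁) (add_zero _) =
      (x.comp (Ext.mk₀ φ.τ₃) (add_zero _)).comp hS'.extClass rfl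
    rw [Ext.comp_assoc_of_third_deg_zero, ShortComplex.ShortExact.extClass_naturality hS hS' φ,
      Ext.comp_assoc_of_second_deg_zero]
  δ_natE {e e'} f S hS n := by
    apply ModuleCat.hom_ext
    apply LinearMap.ext
    intro (x : Ext.{u} (P.obj e.unop) S.X₃ n)
    show (Ext.mk₀ (P.map f.unop)).comp (x.comp hS.extClass rfl) (zero_add (n + 1)) =
      ((Ext.mk₀ (P.map f.unop)).comp x (zero_add n)).comp hS.extClass rfl
    symm
    rw [Ext.comp_assoc]
    omega
  w₃ e S hS n := by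
    apply ModuleCat.hom_ext
    apply LinearMap.ext
    intro (x : Ext.{u} (P.obj e.unop) S.X₂ n)
    show (x.comp (Ext.mk₀ S.g) (add_zero n)).comp hS.extClass rfl = 0
    rw [Ext.comp_assoc_of_second_deg_zero, ShortComplex.ShortExact.comp_extClass, Ext.comp_zero]
  w₁ e S hS n := by
    apply ModuleCat.hom_ext
    apply LinearMap.ext
    intro (x : Ext.{u} (P.obj e.unop) S.X₃ n)
    show (x.comp hS.extClass rfl).comp (Ext.mk₀ S.f) (add_zero _) = 0
    rw [Ext.comp_assoc_of_third_deg_zero, ShortComplex.ShortExact.extClass_comp, Ext.comp_zero]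
  exact₃ e S hS n := by
    rw [ShortComplex.moduleCat_exact_iff]
    intro (x₃ : Ext.{u} (P.obj e.unop) S.X₃ n) hx
    obtain ⟨x₂, h⟩ := Ext.covariant_sequence_exact₃ _ hS x₃ rfl hx
    exact ⟨x₂, h⟩
  exact₁ e S hS n := by
    rw [ShortComplex.moduleCat_exact_iff]
    intro (x₁ : Ext.{u} (P.obj e.unop) S.X₁ (n + 1)) hx
    obtain ⟨x₃, h⟩ := Ext.covariant_sequence_exact₁ _ hS x₁ hx rfl
    exact ⟨x₃, h⟩

lemma le0_mk₀ {X Y : ModuleCat.{u} A} (h : X ⟶ Y) :
    Ext.linearEquiv₀ (R := A) (Ext.mk₀ h) = h :=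
  (Ext.mk₀_bijective _ _).1 (Ext.mk₀_linearEquiv₀_apply (R := A) (Ext.mk₀ h))

lemma exists_mk₀ {X Y : ModuleCat.{u} A} (x : Ext.{u} X Y 0) : ∃ g : X ⟶ Y, Ext.mk₀ g = x :=
  (Ext.mk₀_bijective _ _).2 x

/-- `Ext⁰(P d, -) ≅ Hom(P d, -)` naturally in `d` -/
noncomputable def nExtZeroIso : nExt P 0 ≅ P.op ⋙ linearCoyoneda A (ModuleCat.{u} A) :=
  NatIso.ofComponents (fun e => NatIso.ofComponents
    (fun M => (Ext.linearEquiv₀ (R := A) (X := P.obj e.unop) (Y := M)).toModuleIso)
    (fun {M N} f => by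
      apply ModuleCat.hom_ext
      apply LinearMap.ext
      intro (x : Ext.{u} (P.obj e.unop) M 0)
      obtain ⟨g, rfl⟩ := exists_mk₀ x
      show Ext.linearEquiv₀ (R := A) ((Ext.mk₀ g).comp (Ext.mk₀ f) (add_zero 0)) =
        Ext.linearEquiv₀ (R := A) (Ext.mk₀ g) ≫ f
      rw [Ext.mk₀_comp_mk₀, le0_mk₀, le0_mk₀]))
    (fun {e e'} f => by
      apply NatTrans.ext
      funext M
      apply ModuleCat.hom_ext
      apply LinearMap.ext
      intro (x : Ext.{u} (P.obj e.unop) M 0)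
      obtain ⟨g, rfl⟩ := exists_mk₀ x
      show Ext.linearEquiv₀ (R := A) ((Ext.mk₀ (P.map f.unop)).comp (Ext.mk₀ g) (zero_add 0)) =
        P.map f.unop ≫ Ext.linearEquiv₀ (R := A) (Ext.mk₀ g)
      rw [Ext.mk₀_comp_mk₀, le0_mk₀, le0_mk₀])

end diagram

section lc

open Groth.Agent.Helper1.LocCohDelta

variable (J : Ideal A)

/-- the diagram of quotients `A/J^k` -/
noncomputable abbrev PJ : ℕᵒᵖ ⥤ ModuleCat.{u} A :=
  localCohomology.ringModIdeals (localCohomology.idealPowersDiagram J)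

/-- `colim_k Ext^•(A/J^k, -)` as a δ-functor -/
noncomputable def neDelta : DeltaFunctor (ModuleCat.{u} A) (ModuleCat.{u} A) :=
  (nExtDiagram (PJ J)).colim

lemma neDelta_T (n : ℕ) : (neDelta J).T n = colimit (nExt (PJ J) n) := rfl

lemma neDelta_effaceable : (neDelta J).Effaceable :=
  DeltaDiagram.colim_effaceable _ (fun e I _ n => by
    haveI : Subsingleton (Ext.{u} ((PJ J).obj e.unop) I (n + 1)) :=
      subsingleton_of_forall_eq 0 fun x => Ext.eq_zero_of_injective x
    exact ModuleCat.isZero_of_subsingleton (ModuleCat.of A (Ext.{u} ((PJ J).obj e.unop) I (n + 1))))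

/-- degree zero -/
noncomputable def neZeroIso : colimit (nExt (PJ J) 0) ≅ DRing.gammaI J :=
  HasColimit.isoOfNatIso (nExtZeroIso (PJ J)) ≪≫
    (colimit.isColimit _).coconePointUniqueUpToIso (homCoconeIsColimit J)

/-- `colim_k Extⁿ(A/J^k, -) ≅ Hⁿ_J` as functors -/
theorem nonempty_ne_iso_lc (n : ℕ) : Nonempty (colimit (nExt (PJ J) n) ≅ localCohomology J n) :=
  nonempty_iso_of_effaceable (neDelta J) (lcDelta J) (neDelta_effaceable J) (lcDelta_effaceable J)
    (neZeroIso J ≪≫ (lcZeroIso J).symm) n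

end lc

end Groth.Agent.Helper6.LcD
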