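import Mathlib
import Groth.Agent.Helper6.LcD9
import Groth.Agent.Helper6.LcD7

/-!
# Mathlib's local cohomology of a module is `Dual2.HDI` of the module placed in degree zero
-/

set_option autoImplicit false
set_option linter.style.haveILetI false
set_option linter.unusedSectionVars false

universe u
open CategoryTheory CategoryTheory.Limits Opposite Abelian DerivedCategory
attribute [local instance] HasDerivedCategory.standard

namespace Groth.Agent.Helper6.LcD
open Groth.Agent.Helper1.DeltaFun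

variable {A : Type u} [CommRing A] (J : Ideal A) (M : ModuleCat.{u} A) (n : ℕ)

/-- the legs of the colimit, evaluated at `M` -/
noncomputable def neι (k : ℕ) :
    Ext.{u} ((PJ J).obj (op k)) M n →ₗ[A] ((colimit (nExt (PJ J) n)).obj M) :=
  ((colimit.ι (nExt (PJ J) n) (op (op k))).app M).hom

lemma neι_compat (k k' : ℕ) (h : k ≤ k') (x : Ext.{u} ((PJ J).obj (op k)) M n) :
    neι J M n k' ((Ext.mk₀ ((PJ J).map (homOfLE h).op)).comp x (zero_add n)) = neι J M n k x := by
  have h1 := colimit.w (nExt (PJ J) n) (homOfLE h).op.op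
  have h2 := congrArg (fun t => (t.app M).hom x) h1
  exact h2

lemma ne_exists_rep (t : (colimit (nExt (PJ J) n)).obj M) :
    ∃ (k : ℕ) (x : Ext.{u} ((PJ J).obj (op k)) M n), neι J M n k x = t := by
  have : PreservesFilteredColimitsOfSize.{0, 0} (forget (ModuleCat.{u} A)) :=
    preservesSmallestFilteredColimits_of_preservesFilteredColimits _
  have hc := isColimitOfPreserves (forget (ModuleCat.{u} A))
    ((nExtDiagram (PJ J)).evIsColimit n M)
  obtain ⟨j, y, hy⟩ := Types.jointly_surjective_of_isColimit hc t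
  exact ⟨j.unop.unop, y, hy⟩

lemma ne_eq_zero (k : ℕ) (x : Ext.{u} ((PJ J).obj (op k)) M n) (hx : neι J M n k x = 0) :
    ∃ (k' : ℕ) (h : k ≤ k'),
      (Ext.mk₀ ((PJ J).map (homOfLE h).op)).comp x (zero_add n) = 0 := by
  have : PreservesFilteredColimitsOfSize.{0, 0} (forget (ModuleCat.{u} A)) :=
    preservesSmallestFilteredColimits_of_preservesFilteredColimits _
  have hc := isColimitOfPreserves (forget (ModuleCat.{u} A))
    ((nExtDiagram (PJ J)).evIsColimit n M)
  have h0 : neι J M n k x = neι J M n k 0 := by rw [hx, map_zero]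
  obtain ⟨j, f, g, hfg⟩ := (Types.FilteredColimit.isColimit_eq_iff _ hc
    (i := op (op k)) (j := op (op k)) (xi := x) (xj := (0 : Ext.{u} ((PJ J).obj (op k)) M n))).1 h0
  obtain ⟨h, rfl⟩ := hom_eq _ _ f
  refine ⟨j.unop.unop, h, ?_⟩
  have h2 : (((nExt (PJ J) n).map (homOfLE h).op.op).app M).hom x =
      (((nExt (PJ J) n).map g).app M).hom 0 := hfg
  rw [map_zero] at h2
  exact h2

end Groth.Agent.Helper6.LcD

namespace Groth.Agent.Helper6.LcD

variable {A : Type u} [CommRing A] (J : Ideal A)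

/-- **Bridge.**  Mathlib's local cohomology `H^n_J(M)` is the direct limit of the
`Hom_{D(A)}(A/J^k, M[n])`. -/
theorem bridge (M : Type u) [AddCommGroup M] [Module A M] (n : ℕ) :
    Nonempty (LocCoh.H J n M ≃ₗ[A] Dual2.HDI A J (Dual.inD A M) (n : ℤ)) := by
  obtain ⟨e⟩ := nonempty_ne_iso_lc J n
  let MM : ModuleCat.{u} A := ModuleCat.of A M
  let hE : ∀ k : ℕ, Ext.{u} ((PJ J).obj (op k)) MM n ≃ₗ[A] GH J (Dual.inD A M) (n : ℤ) k :=
    fun k => Ext.homLinearEquiv (R := A) (X := (PJ J).obj (op k)) (Y := MM) (n := n)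
  have hE_apply : ∀ (k : ℕ) (x : Ext.{u} ((PJ J).obj (op k)) MM n), hE k x = x.hom :=
    fun k x => rfl
  have hgm : ∀ (k k' : ℕ) (h : k ≤ k') (x : Ext.{u} ((PJ J).obj (op k)) MM n),
      gmap J (Dual.inD A M) (n : ℤ) k k' h (hE k x) =
        hE k' ((Ext.mk₀ ((PJ J).map (homOfLE h).op)).comp x (zero_add n)) := by
    intro k k' h x
    rw [hE_apply, hE_apply, gmap_apply]
    exact Ext.singleFunctor_map_comp_hom ((PJ J).map (homOfLE h).op) x
  let ψ : ∀ k : ℕ, GH J (Dual.inD A M) (n : ℤ) k →ₗ[A] ULift.{u + 1} (LocCoh.H J n M) :=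
    fun k => ULift.moduleEquiv.symm.toLinearMap ∘ₗ (e.hom.app MM).hom ∘ₗ neι J MM n k ∘ₗ
      (hE k).symm.toLinearMap
  have hψ_apply : ∀ (k : ℕ) (x : Ext.{u} ((PJ J).obj (op k)) MM n),
      ψ k (hE k x) = ULift.up ((e.hom.app MM).hom (neι J MM n k x)) := by
    intro k x
    show ULift.up ((e.hom.app MM).hom (neι J MM n k ((hE k).symm (hE k x)))) = _
    rw [LinearEquiv.symm_apply_apply]
  have hψ : ∀ (k k' : ℕ) (h : k ≤ k') (y : GH J (Dual.inD A M) (n : ℤ) k),
      ψ k' (gmap J (Dual.inD A M) (n : ℤ) k k' h y) = ψ k y := by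
    intro k k' h y
    obtain ⟨x, rfl⟩ := (hE k).surjective y
    rw [hgm, hψ_apply, hψ_apply, neι_compat]
  have hsurj : ∀ t : ULift.{u + 1} (LocCoh.H J n M),
      ∃ (k : ℕ) (y : GH J (Dual.inD A M) (n : ℤ) k), ψ k y = t := by
    intro t
    obtain ⟨k, x, hx⟩ := ne_exists_rep J MM n ((e.inv.app MM).hom t.down)
    refine ⟨k, hE k x, ?_⟩
    rw [hψ_apply, hx]
    have h1 := congrArg (fun f => f.hom t.down) (e.inv_hom_id_app MM)
    have h2 : (e.hom.app MM).hom ((e.inv.app MM).hom t.down) = t.down := h1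
    rw [h2]
  have hker : ∀ (k : ℕ) (y : GH J (Dual.inD A M) (n : ℤ) k), ψ k y = 0 →
      ∃ (k' : ℕ) (h : k ≤ k'), gmap J (Dual.inD A M) (n : ℤ) k k' h y = 0 := by
    intro k y hy
    obtain ⟨x, rfl⟩ := (hE k).surjective y
    rw [hψ_apply] at hy
    have h1 : (e.hom.app MM).hom (neι J MM n k x) = 0 := congrArg ULift.down hy
    have h2 : neι J MM n k x = 0 := by
      have h3 := congrArg (fun f => f.hom (neι J MM n k x)) (e.hom_inv_id_app MM)
      have h4 : (e.inv.app MM).hom ((e.hom.app MM).hom (neι J MM n k x)) = neι J MM n k x := h3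
      rw [← h4, h1, map_zero]
    obtain ⟨k', h, hk'⟩ := ne_eq_zero J MM n k x h2
    refine ⟨k', h, ?_⟩
    rw [hgm, hk', map_zero]
  exact ⟨((LinearEquiv.ofBijective (hdiDesc J (Dual.inD A M) (n : ℤ) ψ hψ)
    (hdiDesc_bijective J (Dual.inD A M) (n : ℤ) ψ hψ hsurj hker)) ≪≫ₗ ULift.moduleEquiv).symm⟩

end Groth.Agent.Helper6.LcD
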