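import Mathlib
import Groth.Prelude.Def_DRing4

set_option autoImplicit false
set_option linter.style.haveILetI false
set_option linter.unusedSectionVars false

/-!
# The dual complex `Hom•(P, M[0])` and biduality for complexes of finite projective modules
-/

universe u
open CategoryTheory Limits CochainComplex CochainComplex.HomComplex

namespace Groth.Agent.Helper6.DualCx

variable {A : Type u} [CommRing A]

/-- the complex `M[0]` -/
noncomputable abbrev sg (M : ModuleCat.{u} A) : DRing.Cx A :=
  (CochainComplex.singleFunctor (ModuleCat.{u} A) 0).obj M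

/-- cochains to `M[0]` as a module of linear maps -/
noncomputable def toSingleLin (K : DRing.Cx A) (M : ModuleCat.{u} A) {p n : ℤ} (h : p + n = 0) :
    Cochain K (sg M) n ≃ₗ[A] (K.X p ⟶ M) :=
  { Cochain.toSingleEquiv h with
    map_smul' := fun a z => by
      show (a • z).v p 0 h ≫ _ = a • (z.v p 0 h ≫ _)
      rw [Cochain.smul_v, Linear.smul_comp] }

lemma toSingleLin_toSingleMk (K : DRing.Cx A) (M : ModuleCat.{u} A) {p n : ℤ} (h : p + n = 0)
    (f : K.X p ⟶ M) : toSingleLin K M h (Cochain.toSingleMk f h) = f :=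
  Cochain.toSingleEquiv_toSingleMk f h

lemma toSingleMk_toSingleLin (K : DRing.Cx A) (M : ModuleCat.{u} A) {p n : ℤ} (h : p + n = 0)
    (z : Cochain K (sg M) n) : Cochain.toSingleMk (toSingleLin K M h z) h = z :=
  (Cochain.toSingleEquiv h).symm_apply_apply z

lemma toSingleMk_smul (K : DRing.Cx A) (M : ModuleCat.{u} A) {p n : ℤ} (h : p + n = 0) (a : A)
    (f : K.X p ⟶ M) : Cochain.toSingleMk (a • f) h = a • Cochain.toSingleMk f h :=
  (toSingleLin K M h).symm.map_smul a f

lemma dual_term_props (P : DRing.Cx A) {p n : ℤ} (h : p + n = 0) (hf : Module.Finite A (P.X p))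
    (hp : Module.Projective A (P.X p)) :
    Module.Finite A ((DRing.homCx P (sg (ModuleCat.of A A))).X n) ∧
      Module.Projective A ((DRing.homCx P (sg (ModuleCat.of A A))).X n) := by
  let e : Cochain P (sg (ModuleCat.of A A)) n ≃ₗ[A] Module.Dual A (P.X p) :=
    (toSingleLin P (ModuleCat.of A A) h).trans (ModuleCat.homLinearEquiv (S := A))
  exact ⟨Module.Finite.equiv e.symm, Module.Projective.of_equiv e.symm⟩

lemma dual_term_isZero (P : DRing.Cx A) (M : ModuleCat.{u} A) {p n : ℤ} (h : p + n = 0)
    (hz : IsZero (P.X p)) : IsZero ((DRing.homCx P (sg M)).X n) := by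
  haveI : Subsingleton (P.X p ⟶ M) := ⟨fun a b => hz.eq_of_src a b⟩
  haveI : Subsingleton ↑((DRing.homCx P (sg M)).X n) :=
    (toSingleLin P M h).toEquiv.subsingleton
  exact ModuleCat.isZero_of_subsingleton _

/-- the sign as a scalar -/
def eps (A : Type u) [CommRing A] (n : ℤ) : A := ((n.negOnePow : ℤ) : A)

lemma eps_mul_self (n : ℤ) : eps A n * eps A n = 1 := by
  unfold eps
  rw [← Int.cast_mul, ← Units.val_mul, Int.units_mul_self, Units.val_one, Int.cast_one]

lemma eps_neg (n : ℤ) : eps A (-n) = eps A n := by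
  unfold eps
  rw [Int.negOnePow_neg]

lemma units_smul_eq {X : Type*} [AddCommGroup X] [Module A X] (n : ℤ) (x : X) :
    n.negOnePow • x = eps A n • x := by
  rw [Units.smul_def]
  unfold eps
  rw [Int.cast_smul_eq_zsmul]

variable (P : DRing.Cx A) (M : ModuleCat.{u} A)

/-- evaluation at `x ∈ P^n` as a map `Hom•(P, M[0])^m → M`, `n + m = 0` -/
noncomputable def evx {n m : ℤ} (h : n + m = 0) (x : P.X n) : (DRing.homCx P (sg M)).X m ⟶ M :=
  ModuleCat.ofHom
    { toFun := fun z => (toSingleLin P M h z).hom x
      map_add' := fun z z' => by rw [map_add]; rfl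
      map_smul' := fun a z => by rw [map_smul]; rfl }

lemma evx_apply {n m : ℤ} (h : n + m = 0) (x : P.X n) (z : Cochain P (sg M) m) :
    (evx P M h x).hom z = (toSingleLin P M h z).hom x := rfl

lemma evx_add {n m : ℤ} (h : n + m = 0) (x y : P.X n) :
    evx P M h (x + y) = evx P M h x + evx P M h y := by
  apply ModuleCat.hom_ext
  apply LinearMap.ext
  intro (z : Cochain P (sg M) m)
  show (toSingleLin P M h z).hom (x + y) = (toSingleLin P M h z).hom x + (toSingleLin P M h z).hom y
  rw [map_add]

lemma evx_smul {n m : ℤ} (h : n + m = 0) (a : A) (x : P.X n) :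
    evx P M h (a • x) = a • evx P M h x := by
  apply ModuleCat.hom_ext
  apply LinearMap.ext
  intro (z : Cochain P (sg M) m)
  show (toSingleLin P M h z).hom (a • x) = a • (toSingleLin P M h z).hom x
  rw [map_smul]

lemma d_evx {n n' m m' : ℤ} (h : n + m = 0) (h' : n' + m' = 0) (hn : n + 1 = n') (x : P.X n) :
    (DRing.homCx P (sg M)).d m' m ≫ evx P M h x = eps A n • evx P M h' ((P.d n n').hom x) := by
  apply ModuleCat.hom_ext
  apply LinearMap.ext
  intro (z : Cochain P (sg M) m')
  obtain ⟨g, rfl⟩ := Cochain.toSingleMk_surjective z n' h'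
  show (toSingleLin P M h (δ m' m (Cochain.toSingleMk g h'))).hom x =
    eps A n • (toSingleLin P M h' (Cochain.toSingleMk g h')).hom ((P.d n n').hom x)
  rw [Cochain.δ_toSingleMk g h' m n h, units_smul_eq (A := A), map_smul, toSingleLin_toSingleMk,
    toSingleLin_toSingleMk]
  have hm : eps A m = eps A n := by
    rw [show m = -n by omega]
    exact eps_neg n
  rw [hm]
  rfl

/-- the biduality map in degree `n` -/
noncomputable def theta {n m : ℤ} (h : n + m = 0) :
    P.X n →ₗ[A] Cochain (DRing.homCx P (sg M)) (sg M) n where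
  toFun x := eps A n • Cochain.toSingleMk (evx P M h x) (show m + n = 0 by omega)
  map_add' x y := by
    rw [evx_add, Cochain.toSingleMk_add]
    exact smul_add _ _ _
  map_smul' a x := by
    rw [evx_smul, toSingleMk_smul (DRing.homCx P (sg M)) M]
    exact smul_comm _ _ _

lemma theta_apply {n m : ℤ} (h : n + m = 0) (x : P.X n) :
    theta P M h x = eps A n • Cochain.toSingleMk (evx P M h x) (show m + n = 0 by omega) := rfl

lemma theta_comm {n n' m m' : ℤ} (h : n + m = 0) (h' : n' + m' = 0) (hn : n + 1 = n')
    (x : P.X n) : δ n n' (theta P M h x) = theta P M h' ((P.d n n').hom x) := by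
  rw [theta_apply, theta_apply, δ_smul,
    Cochain.δ_toSingleMk (evx P M h x) (show m + n = 0 by omega) n' m'
      (show m' + n' = 0 by omega),
    units_smul_eq (A := A), d_evx P M h h' hn x, toSingleMk_smul, smul_smul, smul_smul]
  congr 1
  rw [mul_comm (eps A n) (eps A n'), mul_assoc, eps_mul_self, mul_one]

/-- the biduality map -/
noncomputable def ddHom : P ⟶ DRing.homCx (DRing.homCx P (sg M)) (sg M) where
  f n := ModuleCat.ofHom (theta P M (show n + (-n) = 0 by omega))
  comm' n n' hn := by
    obtain rfl : n + 1 = n' := hn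
    ext x
    exact theta_comm P M _ _ rfl x

theorem theta_bijective {n m : ℤ} (h : n + m = 0) (hf : Module.Finite A (P.X n))
    (hp : Module.Projective A (P.X n)) :
    Function.Bijective (theta P (ModuleCat.of A A) h) := by
  let c' : Cochain P (sg (ModuleCat.of A A)) m ≃ₗ[A] Module.Dual A (P.X n) :=
    (toSingleLin P (ModuleCat.of A A) h).trans (ModuleCat.homLinearEquiv (S := A))
  have hev : ∀ (x : P.X n) (z : Cochain P (sg (ModuleCat.of A A)) m),
      (evx P (ModuleCat.of A A) h x).hom z = c' z x := fun x z => rfl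
  have hm : m + n = 0 := by omega
  constructor
  · refine (injective_iff_map_eq_zero (theta P (ModuleCat.of A A) h)).2 (fun x hx => ?_)
    have h1 : Cochain.toSingleMk (evx P (ModuleCat.of A A) h x) hm = 0 := by
      have h0 := congrArg (fun t => eps A n • t) hx
      simp only [smul_zero] at h0
      rw [theta_apply, smul_smul, eps_mul_self, one_smul] at h0
      exact h0
    have h2 : evx P (ModuleCat.of A A) h x = 0 := by
      have h0 := congrArg (toSingleLin (DRing.homCx P (sg (ModuleCat.of A A))) (ModuleCat.of A A) hm) h1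
      rwa [toSingleLin_toSingleMk, map_zero] at h0
    have h3 : ∀ φ : Module.Dual A (P.X n), φ x = 0 := fun φ => by
      have h0 := hev x (c'.symm φ)
      rw [h2, LinearEquiv.apply_symm_apply] at h0
      exact h0.symm
    haveI := hf
    haveI := hp
    refine (Module.bijective_dual_eval A (P.X n)).1 ?_
    apply LinearMap.ext
    intro φ
    rw [Module.Dual.eval_apply, Module.Dual.eval_apply, h3 φ, map_zero]
  · intro w
    let f := toSingleLin (DRing.homCx P (sg (ModuleCat.of A A))) (ModuleCat.of A A) hm w
    let ψ : Module.Dual A (Module.Dual A (P.X n)) := f.hom ∘ₗ c'.symm.toLinearMap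
    haveI := hf
    haveI := hp
    obtain ⟨x, hx⟩ := (Module.bijective_dual_eval A (P.X n)).2 ψ
    have hfx : evx P (ModuleCat.of A A) h x = f := by
      apply ModuleCat.hom_ext
      apply LinearMap.ext
      intro (z : Cochain P (sg (ModuleCat.of A A)) m)
      rw [hev]
      have h0 := LinearMap.congr_fun hx (c' z)
      rw [Module.Dual.eval_apply] at h0
      rw [h0]
      show f.hom (c'.symm (c' z)) = f.hom z
      rw [LinearEquiv.symm_apply_apply]
    refine ⟨eps A n • x, ?_⟩
    rw [theta_apply, evx_smul, toSingleMk_smul, smul_smul, eps_mul_self, one_smul, hfx]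
    exact toSingleMk_toSingleLin _ _ hm w

/-- biduality for complexes of finite projective modules -/
noncomputable def ddIso (hP : DRing.TermwiseFiniteProjective P) :
    P ≅ DRing.homCx (DRing.homCx P (sg (ModuleCat.of A A))) (sg (ModuleCat.of A A)) :=
  HomologicalComplex.Hom.isoOfComponents
    (fun n => (LinearEquiv.ofBijective (theta P (ModuleCat.of A A) (show n + (-n) = 0 by omega))
      (theta_bijective P (show n + (-n) = 0 by omega) (hP n).1 (hP n).2)).toModuleIso)
    (fun n n' hn => by
      obtain rfl : n + 1 = n' := hn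
      ext x
      exact theta_comm P (ModuleCat.of A A) _ _ rfl x)

end Groth.Agent.Helper6.DualCx
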