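import Mathlib
import Groth.Prelude.Def_DRing4
import Groth.Agent.Helper6.BiD9

/-!
# The duality functor `Hom•(-, I)` on the derived category and the swap equivalence
-/

set_option autoImplicit false
set_option linter.style.haveILetI false
set_option linter.unusedSectionVars false

universe u
open CategoryTheory CategoryTheory.Limits CochainComplex CochainComplex.HomComplex
  Pretriangulated DerivedCategory Opposite
attribute [local instance] HasDerivedCategory.standard

namespace Groth.Agent.Helper6.DualFun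
open Groth.Agent.Helper3.DRingLib Groth.Agent.Helper6.HomCxPre Groth.Agent.Helper6.BiD

variable {A : Type u} [CommRing A]

section Chain

lemma homCxPre_add {K K' : DRing.Cx A} (s t : K ⟶ K') (L : DRing.Cx A) :
    homCxPre (s + t) L = homCxPre s L + homCxPre t L := by
  apply HomologicalComplex.hom_ext
  intro n
  apply ModuleCat.hom_ext
  apply LinearMap.ext
  intro (z : Cochain K' L n)
  show (Cochain.ofHom (s + t)).comp z (zero_add n) =
    (Cochain.ofHom s).comp z (zero_add n) + (Cochain.ofHom t).comp z (zero_add n)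
  rw [Cochain.ofHom_add, Cochain.add_comp]

lemma ofHom_smul {K K' : DRing.Cx A} (a : A) (s : K ⟶ K') :
    Cochain.ofHom (a • s) = a • Cochain.ofHom s := by
  apply Cochain.ext
  intro p q hpq
  obtain rfl : p = q := by omega
  rw [Cochain.smul_v, Cochain.ofHom_v, Cochain.ofHom_v]
  rfl

lemma homCxPre_smul {K K' : DRing.Cx A} (a : A) (s : K ⟶ K') (L : DRing.Cx A) :
    homCxPre (a • s) L = a • homCxPre s L := by
  apply HomologicalComplex.hom_ext
  intro n
  apply ModuleCat.hom_ext
  apply LinearMap.ext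
  intro (z : Cochain K' L n)
  show (Cochain.ofHom (a • s)).comp z (zero_add n) = a • (Cochain.ofHom s).comp z (zero_add n)
  rw [ofHom_smul, Cochain.smul_comp]

/-- the triangle identity for the biduality map -/
lemma eta_comp_homCxPre_eta (K I : DRing.Cx A) :
    eta (DRing.homCx K I) I ≫ homCxPre (eta K I) I = 𝟙 (DRing.homCx K I) := by
  apply HomologicalComplex.hom_ext
  intro n
  apply ModuleCat.hom_ext
  apply LinearMap.ext
  intro (φ : Cochain K I n)
  show (Cochain.ofHom (eta K I)).comp (evCochain (DRing.homCx K I) I n φ) (zero_add n) = φ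
  apply Cochain.ext
  intro p q hpq
  apply ModuleCat.hom_ext
  apply LinearMap.ext
  intro x
  rw [Cochain.zero_cochain_comp_v, Cochain.ofHom_v, ModuleCat.hom_comp, LinearMap.comp_apply,
    eta_f_apply, evCochain_v (DRing.homCx K I) I n φ p q hpq (evCochain K I p x),
    evCochain_v K I p x n q (by omega) φ, smul_smul, mul_comm p n, sg_mul_self, one_smul]

end Chain

section Functor

variable (I : DRing.Cx A)

/-- `K ↦ Hom•(K, I)` as a functor to the opposite of the derived category -/
noncomputable def Ffun : DRing.Cx A ⥤ (Dual.D A)ᵒᵖ where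
  obj K := op (Q.obj (DRing.homCx K I))
  map f := (Q.map (homCxPre f I)).op
  map_id K := by
    rw [homCxPre_id, CategoryTheory.Functor.map_id]
    rfl
  map_comp f g := by
    rw [homCxPre_comp, Functor.map_comp, op_comp]

instance : (Ffun I).Additive where
  map_add {K L f g} := by
    show (Q.map (homCxPre (f + g) I)).op = (Q.map (homCxPre f I)).op + (Q.map (homCxPre g I)).op
    rw [homCxPre_add, Functor.map_add]
    rfl

variable [I.IsKInjective]

lemma Ffun_inverts :
    (HomologicalComplex.quasiIso (ModuleCat.{u} A) (ComplexShape.up ℤ)).IsInvertedBy (Ffun I) := by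
  intro K L f hf
  haveI : QuasiIso f := (HomologicalComplex.mem_quasiIso_iff f).mp hf
  haveI : QuasiIso (homCxPre f I) := quasiIso_homCxPre f I
  show IsIso (Q.map (homCxPre f I)).op
  infer_instance

/-- the duality functor on the derived category -/
noncomputable def Dfun : Dual.D A ⥤ (Dual.D A)ᵒᵖ :=
  Localization.lift (Ffun I) (Ffun_inverts I) Q

noncomputable def facIso : Q ⋙ Dfun I ≅ Ffun I :=
  Localization.fac (Ffun I) (Ffun_inverts I) Q

instance dfun_additive : (Dfun I).Additive := by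
  haveI h1 : (Q ⋙ Dfun I).Additive := Functor.additive_of_iso (facIso I).symm
  haveI h2 : (HomotopyCategory.quotient (ModuleCat.{u} A) (ComplexShape.up ℤ) ⋙
      (Qh ⋙ Dfun I)).Additive :=
    Functor.additive_of_iso ((Functor.isoWhiskerRight (quotientCompQhIso (ModuleCat.{u} A))
      (Dfun I)).symm ≪≫ Functor.associator _ _ _)
  haveI h3 : (Qh ⋙ Dfun I).Additive :=
    Functor.additive_of_full_essSurj_comp
      (HomotopyCategory.quotient (ModuleCat.{u} A) (ComplexShape.up ℤ)) _
  exact (Localization.functor_additive_iff Qh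
    (HomotopyCategory.quasiIso (ModuleCat.{u} A) (ComplexShape.up ℤ)) (Dfun I)).mpr h3

/-- the action of the duality functor on morphisms, in the opposite category -/
noncomputable def dmapOp {K L : DRing.Cx A} (f : Q.obj L ⟶ Q.obj K) :
    (Ffun I).obj L ⟶ (Ffun I).obj K :=
  (facIso I).inv.app L ≫ (Dfun I).map f ≫ (facIso I).hom.app K

lemma dmapOp_Q_map {K L : DRing.Cx A} (g : L ⟶ K) :
    dmapOp I (Q.map g) = (Ffun I).map g := by
  have h : (Dfun I).map (Q.map g) ≫ (facIso I).hom.app K =
      (facIso I).hom.app L ≫ (Ffun I).map g := (facIso I).hom.naturality g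
  unfold dmapOp
  rw [h, Iso.inv_hom_id_app_assoc]

lemma dmapOp_comp {K L M : DRing.Cx A} (f : Q.obj M ⟶ Q.obj L) (f' : Q.obj L ⟶ Q.obj K) :
    dmapOp I (f ≫ f') = dmapOp I f ≫ dmapOp I f' := by
  unfold dmapOp
  rw [CategoryTheory.Functor.map_comp]
  simp only [Category.assoc, Iso.hom_inv_id_app_assoc]

lemma dmapOp_id (K : DRing.Cx A) : dmapOp I (𝟙 (Q.obj K)) = 𝟙 _ := by
  unfold dmapOp
  rw [CategoryTheory.Functor.map_id]
  show (facIso I).inv.app K ≫ 𝟙 ((Q ⋙ Dfun I).obj K) ≫ (facIso I).hom.app K = _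
  rw [Category.id_comp, Iso.inv_hom_id_app]

lemma dmapOp_add {K L : DRing.Cx A} (f g : Q.obj L ⟶ Q.obj K) :
    dmapOp I (f + g) = dmapOp I f + dmapOp I g := by
  unfold dmapOp
  rw [Functor.map_add, Preadditive.add_comp, Preadditive.comp_add]

/-- the action of the duality functor on morphisms between objects `Q.obj _` -/
noncomputable def dmap {K L : DRing.Cx A} (f : Q.obj L ⟶ Q.obj K) :
    Q.obj (DRing.homCx K I) ⟶ Q.obj (DRing.homCx L I) :=
  (dmapOp I f).unop

lemma dmap_Q_map {K L : DRing.Cx A} (g : L ⟶ K) :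
    dmap I (Q.map g) = Q.map (homCxPre g I) := by
  show (dmapOp I (Q.map g)).unop = Q.map (homCxPre g I)
  rw [dmapOp_Q_map]
  rfl

lemma dmap_comp {K L M : DRing.Cx A} (f : Q.obj M ⟶ Q.obj L) (f' : Q.obj L ⟶ Q.obj K) :
    dmap I (f ≫ f') = dmap I f' ≫ dmap I f := by
  show (dmapOp I (f ≫ f')).unop = (dmapOp I f').unop ≫ (dmapOp I f).unop
  rw [dmapOp_comp]
  rfl

lemma dmap_id (K : DRing.Cx A) : dmap I (𝟙 (Q.obj K)) = 𝟙 _ := by
  show (dmapOp I (𝟙 (Q.obj K))).unop = 𝟙 _
  rw [dmapOp_id]
  rfl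

lemma dmap_add {K L : DRing.Cx A} (f g : Q.obj L ⟶ Q.obj K) :
    dmap I (f + g) = dmap I f + dmap I g := by
  show (dmapOp I (f + g)).unop = (dmapOp I f).unop + (dmapOp I g).unop
  rw [dmapOp_add]
  rfl

lemma dmap_smul {K L : DRing.Cx A} (a : A) (f : Q.obj L ⟶ Q.obj K) :
    dmap I (a • f) = a • dmap I f := by
  have h1 : a • f = f ≫ Q.map (a • 𝟙 K) := by
    rw [Functor.map_smul, CategoryTheory.Functor.map_id, Linear.comp_smul, Category.comp_id]
  rw [h1, dmap_comp, dmap_Q_map, homCxPre_smul, homCxPre_id, Functor.map_smul,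
    CategoryTheory.Functor.map_id, Linear.smul_comp, Category.id_comp]

/-- naturality of the biduality map with respect to all morphisms of the derived category -/
lemma eta_natural {K L : DRing.Cx A} (f : Q.obj L ⟶ Q.obj K) :
    f ≫ Q.map (eta K I) = Q.map (eta L I) ≫ dmap I (dmap I f) := by
  obtain ⟨L', s, hs, g, rfl⟩ := DerivedCategory.right_fac f
  haveI := hs
  rw [← cancel_epi (Q.map s)]
  have e1 : Q.map s ≫ (inv (Q.map s) ≫ Q.map g) = Q.map g := by rw [IsIso.hom_inv_id_assoc]
  have hL : Q.map s ≫ (inv (Q.map s) ≫ Q.map g) ≫ Q.map (eta K I) =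
      Q.map (eta L' I) ≫ Q.map (homCxPre (homCxPre g I) I) := by
    rw [← Category.assoc, e1, ← Functor.map_comp, eta_naturality, Functor.map_comp]
  have hR : Q.map s ≫ Q.map (eta L I) ≫ dmap I (dmap I (inv (Q.map s) ≫ Q.map g)) =
      Q.map (eta L' I) ≫ Q.map (homCxPre (homCxPre g I) I) := by
    rw [← Category.assoc, ← Functor.map_comp, eta_naturality, Functor.map_comp, Category.assoc,
      ← dmap_Q_map, ← dmap_Q_map, ← dmap_comp, ← dmap_comp, e1, dmap_Q_map, dmap_Q_map]
  rw [hL, hR]

lemma eta_dmap_eta (K : DRing.Cx A) :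
    Q.map (eta (DRing.homCx K I) I) ≫ dmap I (Q.map (eta K I)) = 𝟙 _ := by
  rw [dmap_Q_map, ← Functor.map_comp, eta_comp_homCxPre_eta, CategoryTheory.Functor.map_id]

/-- the swap map `Hom(L, D K) → Hom(K, D L)` -/
noncomputable def swapFun (K L : DRing.Cx A) (f : Q.obj L ⟶ Q.obj (DRing.homCx K I)) :
    Q.obj K ⟶ Q.obj (DRing.homCx L I) := Q.map (eta K I) ≫ dmap I f

lemma swap_swap (K L : DRing.Cx A) (f : Q.obj L ⟶ Q.obj (DRing.homCx K I)) :
    swapFun I L K (swapFun I K L f) = f := by
  unfold swapFun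
  rw [dmap_comp, ← Category.assoc, ← eta_natural, Category.assoc, eta_dmap_eta, Category.comp_id]

/-- **The swap equivalence** `Hom(L, D K) ≃ Hom(K, D L)`. -/
noncomputable def swapEquiv (K L : DRing.Cx A) :
    (Q.obj L ⟶ Q.obj (DRing.homCx K I)) ≃ₗ[A] (Q.obj K ⟶ Q.obj (DRing.homCx L I)) where
  toFun := swapFun I K L
  map_add' f g := by
    unfold swapFun
    rw [dmap_add, Preadditive.comp_add]
  map_smul' a f := by
    unfold swapFun
    rw [dmap_smul, Linear.comp_smul]
    rfl
  invFun := swapFun I L K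
  left_inv := swap_swap I K L
  right_inv := swap_swap I L K

/-- **Duality on morphisms**: `Hom(L, K) ≃ Hom(D K, D L)` when `K` is reflexive. -/
noncomputable def dualEquiv (K L : DRing.Cx A) [IsIso (Q.map (eta K I))] :
    (Q.obj L ⟶ Q.obj K) ≃ₗ[A] (Q.obj (DRing.homCx K I) ⟶ Q.obj (DRing.homCx L I)) :=
  Linear.homCongr A (Iso.refl _) (asIso (Q.map (eta K I))) ≪≫ₗ swapEquiv I (DRing.homCx K I) L

end Functor

end Groth.Agent.Helper6.DualFun
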