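import Mathlib
import Groth.Prelude.Def_DRing4
import Groth.Agent.Helper6.DK1
import Groth.Agent.Helper6.BiD9

/-!
# `Ext^*(A/m, ω)` for a dualizing complex is one-dimensional in a single degree
-/

set_option autoImplicit false
set_option linter.style.haveILetI false
set_option linter.unusedSectionVars false

universe u
open CategoryTheory CategoryTheory.Limits Pretriangulated DerivedCategory
attribute [local instance] HasDerivedCategory.standard

namespace Groth.Agent.Helper6.DK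
open Groth.Agent.Helper3.DRingLib

variable {A : Type u} [CommRing A]

theorem main [IsNoetherianRing A] (ω : Dual.D A) (hω : Dual.IsDualizing A ω) (m : Ideal A)
    [m.IsMaximal] :
    ∃ n : ℤ, (∀ i : ℤ, i ≠ n → Subsingleton (Dual.inD A (A ⧸ m) ⟶ ω⟦i⟧)) ∧
      Nonempty ((Dual.inD A (A ⧸ m) ⟶ ω⟦n⟧) ≃ₗ[A] (A ⧸ m)) := by
  classical
  haveI : Nontrivial (A ⧸ m) := Ideal.Quotient.nontrivial_iff.mpr (Ideal.IsMaximal.ne_top inferInstance)
  have hK0 : Dual.HD A (Dual.inD A (A ⧸ m)) 0 ≃ₗ[A] (A ⧸ m) :=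
    ((singleFunctorCompHomologyFunctorIso (ModuleCat.{u} A) 0).app
      (ModuleCat.of A (A ⧸ m))).toLinearEquiv
  have hKn : ∀ n : ℤ, n ≠ 0 → Subsingleton (Dual.HD A (Dual.inD A (A ⧸ m)) n) := fun n hn => by
    rcases lt_or_gt_of_ne hn with h | h
    · exact subsingleton_HD_of_isGE _ 0 n h
    · exact subsingleton_HD_of_isLE _ 0 n h
  have hKfin : ∀ i : ℤ, Module.Finite A (Dual.HD A (Dual.inD A (A ⧸ m)) i) := fun i => by
    by_cases hi : i = 0
    · subst hi; exact Module.Finite.equiv hK0.symm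
    · haveI := hKn i hi; infer_instance
  obtain ⟨X, hX1, hX2, hXfin⟩ := Groth.Agent.Helper6.BiD.exists_dual ω hω _ hKfin
  have hXkill : ∀ n : ℤ, ∀ r ∈ m, ∀ x : Dual.HD A X n, r • x = 0 := fun n r hr x => by
    obtain ⟨ψ⟩ := hX1 n
    apply ψ.injective
    rw [map_smul, map_zero]
    exact smul_eq_zero_of_killed m _ (quot_killed m) _ (ψ x) r hr
  obtain ⟨a, b, hab⟩ := hω.finite_injective_dimension
  have hVsub : ∀ n : ℤ, Subsingleton (Dual.HD A X n) ↔
      Subsingleton (Dual.inD A (A ⧸ m) ⟶ ω⟦n⟧) := fun n => by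
    obtain ⟨ψ⟩ := hX1 n
    exact ψ.toEquiv.subsingleton_congr
  have hex : ∃ i : ℤ, ¬ Subsingleton (Dual.inD A (A ⧸ m) ⟶ ω⟦i⟧) := by
    by_contra hcon
    have hcon' : ∀ i : ℤ, Subsingleton (Dual.inD A (A ⧸ m) ⟶ ω⟦i⟧) := fun i => by
      by_contra h
      exact hcon ⟨i, h⟩
    have hXall : ∀ i : ℤ, Subsingleton (Dual.HD A X i) := fun i => (hVsub i).mpr (hcon' i)
    haveI : X.IsGE 1 := isGE_of_HD X 1 (fun i _ => hXall i)
    haveI : X.IsLE 0 := isLE_of_HD X 0 (fun i _ => hXall i)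
    have hz : IsZero X := TStructure.t.isZero X 0 1 (by omega)
    obtain ⟨ψ⟩ := hX2 0
    haveI : Subsingleton (X ⟶ ω⟦(0 : ℤ)⟧) := ⟨fun f g => hz.eq_of_src f g⟩
    haveI : Subsingleton (A ⧸ m) := (hK0.symm.trans ψ).toEquiv.subsingleton
    exact false_of_nontrivial_of_subsingleton (A ⧸ m)
  have hbdd : ∀ i : ℤ, ¬ Subsingleton (Dual.inD A (A ⧸ m) ⟶ ω⟦i⟧) → a ≤ i ∧ i ≤ b :=
    fun i hi => by
      by_contra hcon
      exact hi (hab (A ⧸ m) i (by omega))
  obtain ⟨s, hs, hsmin⟩ := Int.exists_least_of_bdd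
    (P := fun i : ℤ => ¬ Subsingleton (Dual.inD A (A ⧸ m) ⟶ ω⟦i⟧))
    ⟨a, fun i hi => (hbdd i hi).1⟩ hex
  obtain ⟨t, ht, htmax⟩ := Int.exists_greatest_of_bdd
    (P := fun i : ℤ => ¬ Subsingleton (Dual.inD A (A ⧸ m) ⟶ ω⟦i⟧))
    ⟨b, fun i hi => (hbdd i hi).2⟩ hex
  have hlow : ∀ i : ℤ, i < s → Subsingleton (Dual.inD A (A ⧸ m) ⟶ ω⟦i⟧) := fun i hi => by
    by_contra h
    have := hsmin i h
    omega
  have hhigh : ∀ i : ℤ, t < i → Subsingleton (Dual.inD A (A ⧸ m) ⟶ ω⟦i⟧) := fun i hi => by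
    by_contra h
    have := htmax i h
    omega
  have hst : s ≤ t := hsmin t ht
  haveI iXs : X.IsGE s := isGE_of_HD X s (fun i hi => (hVsub i).mpr (hlow i hi))
  haveI iXt : X.IsLE t := isLE_of_HD X t (fun i hi => (hVsub i).mpr (hhigh i hi))
  have hst' : s = t := by
    by_contra hne
    have hlt : s < t := lt_of_le_of_ne hst hne
    obtain ⟨X', Y', f, g, δ, hT, i1, i2, i3, i4, hf, hg⟩ := exists_top_truncation X s t
    haveI := i1
    haveI := i2
    haveI := i3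
    haveI := i4
    haveI := hg
    let P : ModuleCat.{u} A → Prop :=
      fun M => Module.Finite A M ∧ ∀ r ∈ m, ∀ x : M, r • x = 0
    have hPiso : ∀ {M N : ModuleCat.{u} A}, (M ≅ N) → P M → P N := fun {M N} e hM => by
      obtain ⟨h1, h2⟩ := hM
      refine ⟨Module.Finite.equiv e.toLinearEquiv, fun r hr x => ?_⟩
      have h3 := h2 r hr (e.toLinearEquiv.symm x)
      have h4 := congrArg e.toLinearEquiv h3
      rwa [map_smul, LinearEquiv.apply_symm_apply, map_zero] at h4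
    have hPX : ∀ i : ℤ, P ((homologyFunctor (ModuleCat.{u} A) i).obj X) :=
      fun i => ⟨hXfin i, hXkill i⟩
    have hPvan : ∀ M : ModuleCat.{u} A, P M → ∀ i : ℤ, i < s →
        Subsingleton ((DerivedCategory.singleFunctor (ModuleCat.{u} A) 0).obj M ⟶ ω⟦i⟧) :=
      fun M hM i hi => by
        haveI := hM.1
        exact subsingleton_of_killed m M hM.2 (ω⟦i⟧) (hlow i hi)
    have hPX' : ∀ i : ℤ, P ((homologyFunctor (ModuleCat.{u} A) i).obj X') := fun i => by
      by_cases hi : i ≤ t - 1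
      · haveI := hf i hi
        exact hPiso (asIso ((homologyFunctor (ModuleCat.{u} A) i).map f)).symm (hPX i)
      · have hz : IsZero ((homologyFunctor (ModuleCat.{u} A) i).obj X') :=
          X'.isZero_of_isLE (t - 1) i (by omega)
        have hz' : IsZero ((homologyFunctor (ModuleCat.{u} A) (s - 1)).obj X) :=
          X.isZero_of_isGE s (s - 1) (by omega)
        exact hPiso (hz'.iso hz) (hPX (s - 1))
    haveI : X'.IsLE (s + ((t - 1 - s).toNat : ℤ)) := by
      have : s + ((t - 1 - s).toNat : ℤ) = t - 1 := by omega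
      rw [this]; exact i2
    have h1 : Subsingleton (X' ⟶ ω⟦s - t - 1⟧) :=
      hom_vanish_of_devissage ω P hPiso s hPvan (t - 1 - s).toNat X' s hPX' (s - t - 1)
        (by omega)
    have h2 : Subsingleton (X'⟦(1 : ℤ)⟧ ⟶ ω⟦s - t⟧) :=
      (shiftHomEquiv X' ω 1 (-1) (s - t) (s - t - 1) (by omega)
        (by omega)).toEquiv.subsingleton
    have h3 : Subsingleton (X ⟶ ω⟦s - t⟧) := by
      obtain ⟨ψ⟩ := hX2 (s - t)
      haveI := hKn (s - t) (by omega)
      exact ψ.symm.toEquiv.subsingleton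
    have h4 : Subsingleton (Y' ⟶ ω⟦s - t⟧) := by
      refine subsingleton_of_forall_eq 0 (fun φ => ?_)
      have h5 : g ≫ φ = 0 := Subsingleton.elim _ _
      obtain ⟨χ, hχ⟩ := Triangle.yoneda_exact₃ _ hT φ h5
      have h6 : χ = 0 := @Subsingleton.elim _ h2 _ _
      rw [hχ, h6]
      exact comp_zero
    obtain ⟨e⟩ := exists_iso_single_HD Y' t
    have h6 : Subsingleton (Dual.inD A (Dual.HD A Y' t) ⟶ ω⟦s⟧) :=
      ((shiftHomEquiv (Dual.inD A (Dual.HD A Y' t)) ω (-t) t (s - t) s (by omega)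
        (by omega)).symm.toEquiv.trans
          (Linear.homCongr A e.symm (Iso.refl _)).toEquiv).subsingleton
    have hPY : P ((homologyFunctor (ModuleCat.{u} A) t).obj Y') :=
      hPiso (asIso ((homologyFunctor (ModuleCat.{u} A) t).map g)) (hPX t)
    have hYne : ¬ Subsingleton (Dual.HD A Y' t) := fun hsub => by
      apply ht
      rw [← hVsub t]
      exact (asIso ((homologyFunctor (ModuleCat.{u} A)
        t).map g)).toLinearEquiv.toEquiv.subsingleton
    haveI := hPY.1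
    exact not_subsingleton_of_killed m (Dual.HD A Y' t) hPY.2 hYne (ω⟦s⟧) hs h6
  subst hst'
  obtain ⟨e⟩ := exists_iso_single_HD X s
  obtain ⟨ψ0⟩ := hX2 0
  obtain ⟨ψs⟩ := hX1 s
  let φ : (Dual.inD A (Dual.HD A X s) ⟶ ω⟦s⟧) ≃ₗ[A] (A ⧸ m) :=
    (shiftHomEquiv (Dual.inD A (Dual.HD A X s)) ω (-s) s 0 s (by omega) (by omega)).symm ≪≫ₗ
      Linear.homCongr A e.symm (Iso.refl _) ≪≫ₗ ψ0.symm ≪≫ₗ hK0
  haveI := hXfin s
  have hHne : ¬ Subsingleton (Dual.HD A X s) := fun h => hs ((hVsub s).mp h)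
  obtain ⟨θ⟩ := equiv_of_simple m (Dual.HD A X s) (hXkill s) hHne (ω⟦s⟧) hs φ
  refine ⟨s, fun i hi => ?_, ⟨ψs.symm ≪≫ₗ θ⟩⟩
  rcases lt_or_gt_of_ne hi with h | h
  · exact hlow i h
  · exact hhigh i h

end Groth.Agent.Helper6.DK
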