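import Mathlib
import Groth.Prelude.Def_DRing4
import Groth.Agent.Helper6.DK1

/-!
# The contravariant functor `N ↦ Hom_{D(A)}(N, Y)` on modules: exactness, finite length dévissage
-/

set_option autoImplicit false
set_option linter.style.haveILetI false
set_option linter.unusedSectionVars false

universe u
open CategoryTheory CategoryTheory.Limits Pretriangulated DerivedCategory
attribute [local instance] HasDerivedCategory.standard

namespace Groth.Agent.Helper6.LD
open Groth.Agent.Helper3.DRingLib Groth.Agent.Helper6.DK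

variable {A : Type u} [CommRing A]

/-- `Hom(M[j], Y) ≃ Hom(M, Y[k])` for `j + k = 0` -/
noncomputable def shiftHomEquiv' (M Y : Dual.D A) (j k : ℤ) (hjk : j + k = 0) :
    (M⟦j⟧ ⟶ Y) ≃ₗ[A] (M ⟶ Y⟦k⟧) :=
  (LinearEquiv.ofBijective ((CategoryTheory.shiftFunctor (Dual.D A) k).mapLinearMap A)
      ⟨(CategoryTheory.shiftFunctor (Dual.D A) k).map_injective,
       (CategoryTheory.shiftFunctor (Dual.D A) k).map_surjective⟩) ≪≫ₗ
    Linear.homCongr A ((CategoryTheory.shiftFunctorCompIsoId (Dual.D A) j k hjk).app M)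
      (Iso.refl _)

section Tmap

variable (Y : Dual.D A)
variable {N N' N'' : Type u} [AddCommGroup N] [Module A N] [AddCommGroup N'] [Module A N']
  [AddCommGroup N''] [Module A N'']

/-- the transpose `T(g) : Hom(N', Y) → Hom(N, Y)` of a linear map `g : N → N'` -/
noncomputable def Tmap (g : N →ₗ[A] N') : (Dual.inD A N' ⟶ Y) →ₗ[A] (Dual.inD A N ⟶ Y) :=
  Linear.leftComp A Y
    ((DerivedCategory.singleFunctor (ModuleCat.{u} A) 0).map (ModuleCat.ofHom g))

lemma Tmap_apply (g : N →ₗ[A] N') (x : Dual.inD A N' ⟶ Y) :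
    Tmap Y g x =
      (DerivedCategory.singleFunctor (ModuleCat.{u} A) 0).map (ModuleCat.ofHom g) ≫ x := rfl

lemma Tmap_id : Tmap Y (LinearMap.id : N →ₗ[A] N) = LinearMap.id := by
  apply LinearMap.ext
  intro x
  rw [Tmap_apply, ModuleCat.ofHom_id, CategoryTheory.Functor.map_id, Category.id_comp]
  rfl

lemma Tmap_comp (g : N →ₗ[A] N') (h : N' →ₗ[A] N'') :
    Tmap Y (h ∘ₗ g) = Tmap Y g ∘ₗ Tmap Y h := by
  apply LinearMap.ext
  intro x
  rw [Tmap_apply, ModuleCat.ofHom_comp, Functor.map_comp, Category.assoc]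
  rfl

lemma Tmap_add (g g' : N →ₗ[A] N') : Tmap Y (g + g') = Tmap Y g + Tmap Y g' := by
  apply LinearMap.ext
  intro x
  have h : ModuleCat.ofHom (g + g') = ModuleCat.ofHom g + ModuleCat.ofHom g' := rfl
  rw [LinearMap.add_apply, Tmap_apply, Tmap_apply, Tmap_apply, h, Functor.map_add,
    Preadditive.add_comp]

lemma Tmap_zero : Tmap Y (0 : N →ₗ[A] N') = 0 := by
  apply LinearMap.ext
  intro x
  have h : ModuleCat.ofHom (0 : N →ₗ[A] N') = 0 := rfl
  rw [Tmap_apply, h, Functor.map_zero, zero_comp]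
  rfl

lemma Tmap_smul (r : A) (g : N →ₗ[A] N') : Tmap Y (r • g) = r • Tmap Y g := by
  apply LinearMap.ext
  intro x
  have h : ModuleCat.ofHom (r • g) = r • ModuleCat.ofHom g := rfl
  rw [LinearMap.smul_apply, Tmap_apply, Tmap_apply, h, Functor.map_smul, Linear.smul_comp]

lemma Tmap_sum {ι : Type*} (s : Finset ι) (g : ι → (N →ₗ[A] N')) :
    Tmap Y (∑ i ∈ s, g i) = ∑ i ∈ s, Tmap Y (g i) :=
  map_sum ({ toFun := Tmap Y, map_zero' := Tmap_zero Y, map_add' := Tmap_add Y } :
    (N →ₗ[A] N') →+ ((Dual.inD A N' ⟶ Y) →ₗ[A] (Dual.inD A N ⟶ Y))) g s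

section exact

variable (i : N' →ₗ[A] N) (p : N →ₗ[A] N'') (hi : Function.Injective i)
  (hp : Function.Surjective p) (hex : Function.Exact i p)

/-- the short complex of a short exact sequence of modules -/
noncomputable def sc : ShortComplex (ModuleCat.{u} A) :=
  ShortComplex.mk (ModuleCat.ofHom i) (ModuleCat.ofHom p) (by
    ext x
    exact hex.apply_apply_eq_zero x)

include hi hp in
lemma sc_shortExact : (sc i p hex).ShortExact :=
  { exact := (ShortComplex.ShortExact.moduleCat_exact_iff_function_exact _).mpr hex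
    mono_f := (ModuleCat.mono_iff_injective _).mpr hi
    epi_g := (ModuleCat.epi_iff_surjective _).mpr hp }

include hi hp hex in
/-- exactness in the middle -/
lemma Tmap_exact (x : Dual.inD A N ⟶ Y) (hx : Tmap Y i x = 0) : ∃ z, Tmap Y p z = x := by
  have hS := sc_shortExact i p hi hp hex
  obtain ⟨z, hz⟩ := Triangle.yoneda_exact₂ _ hS.singleTriangle_distinguished x hx
  exact ⟨z, hz.symm⟩

include hi hp hex in
lemma Tmap_injective (hV : Subsingleton ((Dual.inD A N')⟦(1 : ℤ)⟧ ⟶ Y)) :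
    Function.Injective (Tmap Y p) := by
  rw [injective_iff_map_eq_zero]
  intro z hz
  have hS := sc_shortExact i p hi hp hex
  obtain ⟨w, hw⟩ := Triangle.yoneda_exact₃ _ hS.singleTriangle_distinguished z hz
  have hw0 : w = 0 := @Subsingleton.elim _ hV _ _
  rw [hw, hw0]
  exact comp_zero

include hi hp hex in
lemma Tmap_surjective (hV : Subsingleton ((Dual.inD A N'')⟦(-1 : ℤ)⟧ ⟶ Y)) :
    Function.Surjective (Tmap Y i) := by
  intro x
  have hS := sc_shortExact i p hi hp hex
  have hT := inv_rot_of_distTriang _ hS.singleTriangle_distinguished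
  have h0 : hS.singleTriangle.invRotate.mor₁ ≫ x = 0 := @Subsingleton.elim _ hV _ _
  obtain ⟨z, hz⟩ := Triangle.yoneda_exact₂ _ hT x h0
  exact ⟨z, hz.symm⟩

include hi hp hex in
lemma Tmap_injective' (hV : Subsingleton (Dual.inD A N' ⟶ Y⟦(-1 : ℤ)⟧)) :
    Function.Injective (Tmap Y p) :=
  Tmap_injective Y i p hi hp hex
    (shiftHomEquiv' (Dual.inD A N') Y 1 (-1) (by omega)).toEquiv.subsingleton

include hi hp hex in
lemma Tmap_surjective' (hV : Subsingleton (Dual.inD A N'' ⟶ Y⟦(1 : ℤ)⟧)) :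
    Function.Surjective (Tmap Y i) :=
  Tmap_surjective Y i p hi hp hex
    (shiftHomEquiv' (Dual.inD A N'') Y (-1) 1 (by omega)).toEquiv.subsingleton

include hex in
lemma Tmap_comp_eq_zero : Tmap Y i ∘ₗ Tmap Y p = 0 := by
  rw [← Tmap_comp]
  have : p ∘ₗ i = 0 := LinearMap.ext (fun x => hex.apply_apply_eq_zero x)
  rw [this, Tmap_zero]

include hi hp hex in
lemma Tmap_function_exact : Function.Exact (Tmap Y p) (Tmap Y i) := by
  intro x
  constructor
  · intro hx
    obtain ⟨z, hz⟩ := Tmap_exact Y i p hi hp hex x hx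
    exact ⟨z, hz⟩
  · rintro ⟨z, rfl⟩
    exact LinearMap.congr_fun (Tmap_comp_eq_zero Y i p hex) z

end exact

end Tmap

section finlen

variable [IsLocalRing A]

lemma isZero_inD_of_subsingleton (N : Type u) [AddCommGroup N] [Module A N] [Subsingleton N] :
    IsZero (Dual.inD A N) :=
  Functor.map_isZero _ (ModuleCat.isZero_of_subsingleton _)

lemma simple_equiv_residue (Q : Type u) [AddCommGroup Q] [Module A Q] [IsSimpleModule A Q] :
    Nonempty (Q ≃ₗ[A] IsLocalRing.ResidueField A) := by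
  obtain ⟨I, hI, ⟨e⟩⟩ := isSimpleModule_iff_quot_maximal.mp (inferInstance : IsSimpleModule A Q)
  have := IsLocalRing.eq_maximalIdeal hI
  subst this
  exact ⟨e⟩

lemma subsingleton_of_equiv (Y : Dual.D A) {N N' : Type u} [AddCommGroup N] [Module A N]
    [AddCommGroup N'] [Module A N'] (e : N ≃ₗ[A] N') (h : Subsingleton (Dual.inD A N' ⟶ Y)) :
    Subsingleton (Dual.inD A N ⟶ Y) :=
  (Linear.homCongr A ((DerivedCategory.singleFunctor (ModuleCat.{u} A) 0).mapIso
    e.toModuleIso) (Iso.refl Y)).toEquiv.subsingleton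

/-- `Hom(N, Y) = 0` for `N` of finite length if `Hom(κ, Y) = 0` -/
theorem vanish_of_finiteLength (Y : Dual.D A)
    (h : Subsingleton (Dual.inD A (IsLocalRing.ResidueField A) ⟶ Y))
    (N : Type u) [AddCommGroup N] [Module A N] (hN : IsFiniteLength A N) :
    Subsingleton (Dual.inD A N ⟶ Y) := by
  induction hN with
  | of_subsingleton => exact ⟨fun f g => (isZero_inD_of_subsingleton _).eq_of_src f g⟩
  | @of_simple_quotient M _ _ N' _ hN' ih =>
    refine subsingleton_of_forall_eq 0 (fun x => ?_)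
    have h1 : Tmap Y N'.subtype x = 0 := @Subsingleton.elim _ ih _ _
    obtain ⟨z, hz⟩ := Tmap_exact Y N'.subtype N'.mkQ N'.injective_subtype N'.mkQ_surjective
      (LinearMap.exact_subtype_mkQ N') x h1
    obtain ⟨e⟩ := simple_equiv_residue (A := A) (M ⧸ N')
    have hz0 : z = 0 := @Subsingleton.elim _ (subsingleton_of_equiv Y e h) _ _
    rw [← hz, hz0, map_zero]

/-- `N ↦ Hom(N, Y)` preserves length on finite length modules, if `Ext^{±1}(κ, Y) = 0` and
`Hom(κ, Y) ≅ κ`. -/
theorem length_T (Y : Dual.D A)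
    (hm1 : Subsingleton (Dual.inD A (IsLocalRing.ResidueField A) ⟶ Y⟦(-1 : ℤ)⟧))
    (h1 : Subsingleton (Dual.inD A (IsLocalRing.ResidueField A) ⟶ Y⟦(1 : ℤ)⟧))
    (hκ : (Dual.inD A (IsLocalRing.ResidueField A) ⟶ Y) ≃ₗ[A] IsLocalRing.ResidueField A)
    (N : Type u) [AddCommGroup N] [Module A N] (hN : IsFiniteLength A N) :
    Module.length A (Dual.inD A N ⟶ Y) = Module.length A N := by
  induction hN with
  | @of_subsingleton M _ _ _ =>
    haveI : Subsingleton (Dual.inD A M ⟶ Y) :=
      ⟨fun f g => (isZero_inD_of_subsingleton M).eq_of_src f g⟩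
    rw [Module.length_eq_zero, Module.length_eq_zero]
  | @of_simple_quotient M _ _ N' _ hN' ih =>
    obtain ⟨e⟩ := simple_equiv_residue (A := A) (M ⧸ N')
    have hinj : Function.Injective (Tmap Y N'.mkQ) :=
      Tmap_injective' Y N'.subtype N'.mkQ N'.injective_subtype N'.mkQ_surjective
        (LinearMap.exact_subtype_mkQ N') (vanish_of_finiteLength _ hm1 _ hN')
    have hsurj : Function.Surjective (Tmap Y N'.subtype) :=
      Tmap_surjective' Y N'.subtype N'.mkQ N'.injective_subtype N'.mkQ_surjective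
        (LinearMap.exact_subtype_mkQ N') (subsingleton_of_equiv _ e h1)
    have hex := Tmap_function_exact Y N'.subtype N'.mkQ N'.injective_subtype N'.mkQ_surjective
      (LinearMap.exact_subtype_mkQ N')
    have hl1 := Module.length_eq_add_of_exact (Tmap Y N'.mkQ) (Tmap Y N'.subtype) hinj hsurj hex
    have hl2 := Module.length_eq_add_of_exact N'.subtype N'.mkQ N'.injective_subtype
      N'.mkQ_surjective (LinearMap.exact_subtype_mkQ N')
    let eT : (Dual.inD A (M ⧸ N') ⟶ Y) ≃ₗ[A] (M ⧸ N') :=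
      Linear.homCongr A ((DerivedCategory.singleFunctor (ModuleCat.{u} A) 0).mapIso
        e.toModuleIso) (Iso.refl Y) ≪≫ₗ hκ ≪≫ₗ e.symm
    rw [hl1, hl2, ih, eT.length_eq, add_comm]

end finlen

end Groth.Agent.Helper6.LD
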