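import Mathlib
import Groth.Prelude.Def_DRing4
import Groth.Agent.Helper6.LD1

/-!
# Representability of `N ↦ Hom_{D(A)}(N, Y)` on finite modules killed by an ideal `J`
by the module `Hom_{D(A)}(A/J, Y)`
-/

set_option autoImplicit false
set_option linter.style.haveILetI false
set_option linter.unusedSectionVars false

universe u
open CategoryTheory CategoryTheory.Limits Pretriangulated DerivedCategory
attribute [local instance] HasDerivedCategory.standard

namespace Groth.Agent.Helper6.LD
open Groth.Agent.Helper3.DRingLib Groth.Agent.Helper6.DK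

variable {A : Type u} [CommRing A]

section hat

variable (J : Ideal A)
variable {N N' : Type u} [AddCommGroup N] [Module A N] [AddCommGroup N'] [Module A N']

/-- the map `A/J → N`, `1 ↦ y`, for `N` killed by `J` -/
noncomputable def hat (hN : ∀ r ∈ J, ∀ x : N, r • x = 0) (y : N) : (A ⧸ J) →ₗ[A] N :=
  Submodule.liftQ J (LinearMap.toSpanSingleton A N y) (fun r hr => by
    rw [LinearMap.mem_ker, LinearMap.toSpanSingleton_apply]
    exact hN r hr y)

lemma hat_mk (hN : ∀ r ∈ J, ∀ x : N, r • x = 0) (y : N) (a : A) :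
    hat J hN y (Ideal.Quotient.mk J a) = a • y := by
  show Submodule.liftQ J _ _ (Submodule.Quotient.mk a) = _
  rw [Submodule.liftQ_apply, LinearMap.toSpanSingleton_apply]

lemma hat_add (hN : ∀ r ∈ J, ∀ x : N, r • x = 0) (y y' : N) :
    hat J hN (y + y') = hat J hN y + hat J hN y' := by
  apply LinearMap.ext
  intro b
  obtain ⟨a, rfl⟩ := Ideal.Quotient.mk_surjective b
  rw [LinearMap.add_apply, hat_mk, hat_mk, hat_mk, smul_add]

lemma hat_smul (hN : ∀ r ∈ J, ∀ x : N, r • x = 0) (r : A) (y : N) :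
    hat J hN (r • y) = r • hat J hN y := by
  apply LinearMap.ext
  intro b
  obtain ⟨a, rfl⟩ := Ideal.Quotient.mk_surjective b
  rw [LinearMap.smul_apply, hat_mk, hat_mk, smul_comm]

lemma comp_hat (g : N →ₗ[A] N') (hN : ∀ r ∈ J, ∀ x : N, r • x = 0)
    (hN' : ∀ r ∈ J, ∀ x : N', r • x = 0) (y : N) :
    g ∘ₗ hat J hN y = hat J hN' (g y) := by
  apply LinearMap.ext
  intro b
  obtain ⟨a, rfl⟩ := Ideal.Quotient.mk_surjective b
  rw [LinearMap.comp_apply, hat_mk, hat_mk, map_smul]

lemma hat_quot (a : A) :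
    hat J (quot_killed J) (Ideal.Quotient.mk J a) = a • (LinearMap.id : (A ⧸ J) →ₗ[A] A ⧸ J) := by
  apply LinearMap.ext
  intro b
  obtain ⟨c, rfl⟩ := Ideal.Quotient.mk_surjective b
  rw [hat_mk, LinearMap.smul_apply, LinearMap.id_apply, Algebra.smul_def, Algebra.smul_def,
    Ideal.Quotient.algebraMap_eq, mul_comm]

variable (k : ℕ) (s : Fin k → N)

/-- the presentation `(A/J)^k → N` attached to a family of elements -/
noncomputable def pres (hN : ∀ r ∈ J, ∀ x : N, r • x = 0) : (Fin k → A ⧸ J) →ₗ[A] N :=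
  ∑ j, hat J hN (s j) ∘ₗ LinearMap.proj j

lemma pres_apply (hN : ∀ r ∈ J, ∀ x : N, r • x = 0) (b : Fin k → A ⧸ J) :
    pres J k s hN b = ∑ j, hat J hN (s j) (b j) := by
  simp [pres, LinearMap.sum_apply]

lemma pres_single (hN : ∀ r ∈ J, ∀ x : N, r • x = 0) (j : Fin k) :
    pres J k s hN ∘ₗ LinearMap.single A (fun _ => A ⧸ J) j = hat J hN (s j) := by
  apply LinearMap.ext
  intro b
  rw [LinearMap.comp_apply, pres_apply, Finset.sum_eq_single j]
  · rw [LinearMap.single_apply, Pi.single_eq_same]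
  · intro l _ hl
    rw [LinearMap.single_apply, Pi.single_eq_of_ne hl, map_zero]
  · intro h
    exact absurd (Finset.mem_univ j) h

lemma pres_surjective (hN : ∀ r ∈ J, ∀ x : N, r • x = 0)
    (hs : Submodule.span A (Set.range s) = ⊤) : Function.Surjective (pres J k s hN) := by
  intro y
  have hy : y ∈ Submodule.span A (Set.range s) := by rw [hs]; trivial
  obtain ⟨c, hc⟩ := (Submodule.mem_span_range_iff_exists_fun A).mp hy
  refine ⟨fun j => Ideal.Quotient.mk J (c j), ?_⟩
  rw [pres_apply, ← hc]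
  apply Finset.sum_congr rfl
  intro j _
  rw [hat_mk]

end hat

section Theta

variable (Y : Dual.D A) (J : Ideal A)
variable {N N' : Type u} [AddCommGroup N] [Module A N] [AddCommGroup N'] [Module A N']

/-- the comparison map `Hom(N, Y) → Hom_A(N, Hom(A/J, Y))` -/
noncomputable def Theta (hN : ∀ r ∈ J, ∀ x : N, r • x = 0) :
    (Dual.inD A N ⟶ Y) →ₗ[A] (N →ₗ[A] (Dual.inD A (A ⧸ J) ⟶ Y)) where
  toFun x :=
    { toFun := fun y => Tmap Y (hat J hN y) x
      map_add' := fun y y' => by rw [hat_add, Tmap_add, LinearMap.add_apply]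
      map_smul' := fun r y => by
        rw [hat_smul, Tmap_smul, LinearMap.smul_apply]
        rfl }
  map_add' := fun x x' => LinearMap.ext fun y => (Tmap Y (hat J hN y)).map_add x x'
  map_smul' := fun r x => LinearMap.ext fun y => (Tmap Y (hat J hN y)).map_smul r x

lemma Theta_apply (hN : ∀ r ∈ J, ∀ x : N, r • x = 0) (x : Dual.inD A N ⟶ Y) (y : N) :
    Theta Y J hN x y = Tmap Y (hat J hN y) x := rfl

variable [IsNoetherianRing A]

theorem Theta_injective [Module.Finite A N] (hN : ∀ r ∈ J, ∀ x : N, r • x = 0)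
    (hV : ∀ (N' : Type u) [AddCommGroup N'] [Module A N'] [Module.Finite A N'],
      (∀ r ∈ J, ∀ x : N', r • x = 0) → Subsingleton ((Dual.inD A N')⟦(1 : ℤ)⟧ ⟶ Y)) :
    Function.Injective (Theta Y J hN) := by
  rw [injective_iff_map_eq_zero]
  intro x hx
  obtain ⟨k, s, hs⟩ := Module.Finite.exists_fin (R := A) (M := N)
  have hp : Function.Surjective (pres J k s hN) := pres_surjective J k s hN hs
  have hK : ∀ r ∈ J, ∀ z : LinearMap.ker (pres J k s hN), r • z = 0 :=
    fun r hr z => Subtype.ext (pi_killed J k r hr z.1)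
  have hinj : Function.Injective (Tmap Y (pres J k s hN)) :=
    Tmap_injective Y (LinearMap.ker (pres J k s hN)).subtype (pres J k s hN)
      (LinearMap.ker (pres J k s hN)).injective_subtype hp
      (LinearMap.exact_subtype_ker_map _) (hV _ hK)
  apply hinj
  rw [map_zero]
  show Tmap Y (∑ j, hat J hN (s j) ∘ₗ LinearMap.proj j) x = 0
  rw [Tmap_sum, LinearMap.sum_apply]
  apply Finset.sum_eq_zero
  intro j _
  rw [Tmap_comp, LinearMap.comp_apply]
  have h0 : Tmap Y (hat J hN (s j)) x = 0 := LinearMap.congr_fun hx (s j)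
  rw [h0, map_zero]

theorem Theta_surjective [Module.Finite A N] (hN : ∀ r ∈ J, ∀ x : N, r • x = 0)
    (hV : ∀ (N' : Type u) [AddCommGroup N'] [Module A N'] [Module.Finite A N'],
      (∀ r ∈ J, ∀ x : N', r • x = 0) → Subsingleton ((Dual.inD A N')⟦(1 : ℤ)⟧ ⟶ Y)) :
    Function.Surjective (Theta Y J hN) := by
  intro h
  obtain ⟨k, s, hs⟩ := Module.Finite.exists_fin (R := A) (M := N)
  have hp : Function.Surjective (pres J k s hN) := pres_surjective J k s hN hs
  have hK : ∀ r ∈ J, ∀ z : LinearMap.ker (pres J k s hN), r • z = 0 :=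
    fun r hr z => Subtype.ext (pi_killed J k r hr z.1)
  let x' : Dual.inD A (Fin k → A ⧸ J) ⟶ Y :=
    ∑ j, Tmap Y (LinearMap.proj j : (Fin k → A ⧸ J) →ₗ[A] A ⧸ J) (h (s j))
  have key : ∀ a : Fin k → A,
      Tmap Y (hat J (pi_killed J k) (fun j => Ideal.Quotient.mk J (a j))) x' =
        h (∑ j, a j • s j) := by
    intro a
    rw [map_sum, map_sum]
    apply Finset.sum_congr rfl
    intro j _
    rw [← LinearMap.comp_apply, ← Tmap_comp,
      comp_hat J (LinearMap.proj j : (Fin k → A ⧸ J) →ₗ[A] A ⧸ J) (pi_killed J k)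
        (quot_killed J)]
    show Tmap Y (hat J (quot_killed J) (Ideal.Quotient.mk J (a j))) (h (s j)) = h (a j • s j)
    rw [hat_quot, Tmap_smul, Tmap_id, map_smul]
    rfl
  have hres : Tmap Y (LinearMap.ker (pres J k s hN)).subtype x' = 0 := by
    apply Theta_injective Y J hK hV
    rw [map_zero]
    apply LinearMap.ext
    intro z
    show Tmap Y (hat J hK z) (Tmap Y (LinearMap.ker (pres J k s hN)).subtype x') = 0
    rw [← LinearMap.comp_apply, ← Tmap_comp,
      comp_hat J (LinearMap.ker (pres J k s hN)).subtype hK (pi_killed J k) z]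
    choose a ha using fun j => Ideal.Quotient.mk_surjective (z.1 j)
    have hz : (LinearMap.ker (pres J k s hN)).subtype z = fun j => Ideal.Quotient.mk J (a j) :=
      funext (fun j => (ha j).symm)
    rw [hz, key a]
    have h1 : ∑ j, a j • s j = pres J k s hN z.1 := by
      rw [pres_apply]
      apply Finset.sum_congr rfl
      intro j _
      rw [← ha j, hat_mk]
    have h2 : pres J k s hN z.1 = 0 := z.2
    rw [h1, h2, map_zero]
  obtain ⟨x, hx⟩ := Tmap_exact Y (LinearMap.ker (pres J k s hN)).subtype (pres J k s hN)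
    (LinearMap.ker (pres J k s hN)).injective_subtype hp
    (LinearMap.exact_subtype_ker_map _) x' hres
  refine ⟨x, ?_⟩
  apply LinearMap.ext_on_range hs
  intro j
  show Tmap Y (hat J hN (s j)) x = h (s j)
  rw [← pres_single J k s hN j, Tmap_comp, LinearMap.comp_apply, hx, map_sum,
    Finset.sum_eq_single j]
  · rw [← LinearMap.comp_apply, ← Tmap_comp, LinearMap.proj_comp_single_same, Tmap_id]
    rfl
  · intro l _ hl
    rw [← LinearMap.comp_apply, ← Tmap_comp, LinearMap.proj_comp_single_ne _ _ l j hl, Tmap_zero]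
    rfl
  · intro h
    exact absurd (Finset.mem_univ j) h

/-- **Representability.** -/
noncomputable def ThetaEquiv [Module.Finite A N] (hN : ∀ r ∈ J, ∀ x : N, r • x = 0)
    (hV : ∀ (N' : Type u) [AddCommGroup N'] [Module A N'] [Module.Finite A N'],
      (∀ r ∈ J, ∀ x : N', r • x = 0) → Subsingleton ((Dual.inD A N')⟦(1 : ℤ)⟧ ⟶ Y)) :
    (Dual.inD A N ⟶ Y) ≃ₗ[A] (N →ₗ[A] (Dual.inD A (A ⧸ J) ⟶ Y)) :=
  LinearEquiv.ofBijective (Theta Y J hN) ⟨Theta_injective Y J hN hV, Theta_surjective Y J hN hV⟩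

end Theta

end Groth.Agent.Helper6.LD
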