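import Mathlib
import Groth.Prelude.Def_Wider
import Groth.Agent.Helper6.Matlis5
import Groth.Agent.Helper2.Socle
import Groth.Agent.S5170

/-!
# A numerical criterion for being the injective hull of the residue field
-/

set_option autoImplicit false
universe u

namespace Groth.Agent.Helper6.Matlis

open IsLocalRing Groth.Agent.Helper2.Socle

variable {A : Type u} [CommRing A] [IsLocalRing A]

/-- transport of injective hulls along an isomorphism of the target -/
theorem isInjectiveHull_of_equiv {M E I : Type u} [AddCommGroup M] [Module A M] [AddCommGroup E]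
    [Module A E] [AddCommGroup I] [Module A I] (f : M →ₗ[A] E) (hf : InjHull.IsInjectiveHull f)
    (e : I ≃ₗ[A] E) : InjHull.IsInjectiveHull (e.symm.toLinearMap ∘ₗ f) := by
  refine { injective := e.symm.injective.comp hf.injective, essential := ?_, isInjective := ?_ }
  · intro N hN hcon
    have hN' : N.map e.toLinearMap ≠ ⊥ := by
      intro h
      apply hN
      exact Submodule.map_eq_bot_iff.mp h
    apply hf.essential _ hN'
    rw [eq_bot_iff]
    rintro z ⟨⟨x, hx, rfl⟩, ⟨m, hm⟩⟩
    have h1 : x ∈ N ⊓ LinearMap.range (e.symm.toLinearMap ∘ₗ f) := by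
      refine ⟨hx, m, ?_⟩
      show e.symm (f m) = x
      rw [hm]
      exact e.symm_apply_apply x
    rw [hcon, Submodule.mem_bot] at h1
    rw [Submodule.mem_bot, h1]
    exact map_zero _
  · haveI := hf.isInjective
    exact (Module.Baer.of_equiv e.symm (Module.Baer.of_injective inferInstance)).injective

/-- the socle as the module of maps from the residue field -/
noncomputable def socleEquiv (I : Type u) [AddCommGroup I] [Module A I] :
    ↥(LocCoh.torsionBy (maximalIdeal A) I) ≃ₗ[A] (ResidueField A →ₗ[A] I) where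
  toFun x := ofSocle x.1 (fun a ha => (Submodule.mem_torsionBySet_iff _ _).mp x.2 ⟨a, ha⟩)
  map_add' x y := by
    apply ext_one
    rw [LinearMap.add_apply, ofSocle_one, ofSocle_one, ofSocle_one]
    rfl
  map_smul' c x := by
    apply ext_one
    rw [RingHom.id_apply, LinearMap.smul_apply, ofSocle_one, ofSocle_one]
    rfl
  invFun ψ := ⟨ψ 1, by
    rw [Submodule.mem_torsionBySet_iff]
    rintro ⟨a, ha⟩
    exact smul_apply_one_eq_zero ψ a ha⟩
  left_inv x := by
    apply Subtype.ext
    exact ofSocle_one _ _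
  right_inv ψ := by
    apply ext_one
    exact ofSocle_one _ _

variable [IsNoetherianRing A]

theorem isFiniteLength_quot_of_pow_le (J : Ideal A) (N : ℕ) (h : maximalIdeal A ^ N ≤ J) :
    IsFiniteLength A (A ⧸ J) := by
  have h1 := isFiniteLength_quot_pow (R := A) N
  rw [isFiniteLength_iff_isNoetherian_isArtinian] at h1 ⊢
  refine ⟨inferInstance, ?_⟩
  haveI := h1.2
  let π : (A ⧸ maximalIdeal A ^ N) →ₗ[A] A ⧸ J :=
    Submodule.mapQ (maximalIdeal A ^ N) J LinearMap.id h
  have hπ : Function.Surjective π := by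
    intro z
    obtain ⟨z, rfl⟩ := Ideal.Quotient.mk_surjective z
    exact ⟨Ideal.Quotient.mk _ z, rfl⟩
  exact isArtinian_of_surjective _ π hπ

/-- **Criterion**: a power torsion module with simple socle and the right lengths is an injective
hull of the residue field. -/
theorem exists_isInjectiveHull_of_length (I : Type u) [AddCommGroup I] [Module A I]
    (ha : LocCoh.IsPowerTorsion (maximalIdeal A) I)
    (hb : Nonempty ((ResidueField A →ₗ[A] I) ≃ₗ[A] ResidueField A))
    (a : ℕ → Ideal A) (hcof : ∀ n : ℕ, ∃ N : ℕ, maximalIdeal A ^ N ≤ a n)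
    (hcof' : ∀ N : ℕ, ∃ n : ℕ, a n ≤ maximalIdeal A ^ N)
    (hlen : ∀ n : ℕ, Module.length A (A ⧸ a n) = Module.length A ((A ⧸ a n) →ₗ[A] I)) :
    ∃ f : ResidueField A →ₗ[A] I, InjHull.IsInjectiveHull f := by
  obtain ⟨E, _, _, fE, hfE⟩ := Groth.Agent.S0299.result A (ResidueField A)
  obtain ⟨eb⟩ := hb
  -- the socle is one dimensional
  let e1 : ↥(LocCoh.torsionBy (maximalIdeal A) I) ≃ₗ[A] (A ⧸ maximalIdeal A) :=
    (socleEquiv I).trans eb
  let e2 : ↥(LocCoh.torsionBy (maximalIdeal A) I) ≃ₗ[A ⧸ maximalIdeal A] (A ⧸ maximalIdeal A) :=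
    e1.extendScalarsOfSurjective Ideal.Quotient.mk_surjective
  haveI : Module.Finite (A ⧸ maximalIdeal A) ↥(LocCoh.torsionBy (maximalIdeal A) I) :=
    Module.Finite.equiv e2.symm
  letI : Field (A ⧸ maximalIdeal A) := Ideal.Quotient.field _
  have hrank : Module.finrank (A ⧸ maximalIdeal A) ↥(LocCoh.torsionBy (maximalIdeal A) I) = 1 := by
    rw [LinearEquiv.finrank_eq e2, Module.finrank_self]
  obtain ⟨g0, hg0⟩ := Groth.Agent.S0310.result A E fE hfE I ha 1 hrank
  let g : I →ₗ[A] E := (LinearEquiv.funUnique (Fin 1) A E).toLinearMap ∘ₗ g0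
  have hg : Function.Injective g := (LinearEquiv.funUnique (Fin 1) A E).injective.comp hg0
  have hEpt := Groth.Agent.S0311.result A E fE hfE
  have hsurj : Function.Surjective g := by
    intro y
    obtain ⟨N, hN⟩ := hEpt y
    obtain ⟨n, hn⟩ := hcof' N
    obtain ⟨N', hN'⟩ := hcof n
    have hfl := isFiniteLength_quot_of_pow_le (a n) N' hN'
    obtain ⟨α, hα⟩ := exists_lift_of_kills (a n) y (fun c hc => hN c (hn hc))
    let c : ((A ⧸ a n) →ₗ[A] I) →ₗ[A] ((A ⧸ a n) →ₗ[A] E) := LinearMap.compRight A g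
    have hc : Function.Injective c := by
      intro β β' h
      apply LinearMap.ext
      intro z
      apply hg
      exact LinearMap.congr_fun h z
    have h1 : Module.length A ((A ⧸ a n) →ₗ[A] E) = Module.length A ((A ⧸ a n) →ₗ[A] I) := by
      rw [Groth.Agent.S5170.result A E fE hfE (A ⧸ a n) hfl, hlen n]
    have hfin : Module.length A ((A ⧸ a n) →ₗ[A] I) ≠ ⊤ := by
      rw [← hlen n]
      exact Module.length_ne_top_iff.mpr hfl
    obtain ⟨β, hβ⟩ := (MatlisBidual.bijective_of_injective_of_length_eq c hc h1 hfin).2 α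
    refine ⟨β (Ideal.Quotient.mk _ 1), ?_⟩
    have h2 := LinearMap.congr_fun hβ (Ideal.Quotient.mk _ 1)
    rw [hα, one_smul] at h2
    exact h2
  let e : I ≃ₗ[A] E := LinearEquiv.ofBijective g ⟨hg, hsurj⟩
  exact ⟨e.symm.toLinearMap ∘ₗ fE, isInjectiveHull_of_equiv fE hfE e⟩

end Groth.Agent.Helper6.Matlis
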