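import Mathlib
import Groth.Prelude.Def_DRing4
import Groth.Agent.Helper6.LD2
import Groth.Agent.Helper6.DK2
import Groth.Agent.Helper6.Matlis6
import Groth.Agent.S5170

/-!
# `Ext(N, ω)` for `N` of finite length and `ω` a normalized dualizing complex is the Matlis dual
-/

set_option autoImplicit false
set_option linter.style.haveILetI false
set_option linter.unusedSectionVars false

universe u w
open CategoryTheory CategoryTheory.Limits Pretriangulated DerivedCategory
attribute [local instance] HasDerivedCategory.standard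

namespace Groth.Agent.Helper6.LD
open Groth.Agent.Helper3.DRingLib Groth.Agent.Helper6.DK IsLocalRing

section hull

variable {A : Type u} [CommRing A] [IsLocalRing A]
variable {W : Type w} [AddCommGroup W] [Module A W]

lemma smul_one_eq' (r : A) : r • (1 : ResidueField A) = residue A r := by
  rw [Algebra.smul_def, mul_one]
  rfl

lemma ext_one' {ψ ψ' : ResidueField A →ₗ[A] W} (h : ψ 1 = ψ' 1) : ψ = ψ' := by
  apply LinearMap.ext
  intro z
  obtain ⟨r, rfl⟩ := residue_surjective z
  rw [← smul_one_eq', map_smul, map_smul, h]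

/-- the homomorphism `κ → W` attached to a socle element -/
noncomputable def ofSocle' (y : W) (hy : ∀ a ∈ maximalIdeal A, a • y = 0) :
    ResidueField A →ₗ[A] W :=
  (maximalIdeal A).liftQ (LinearMap.toSpanSingleton A W y) (by
    intro a ha
    rw [LinearMap.mem_ker, LinearMap.toSpanSingleton_apply]
    exact hy a ha)

lemma ofSocle'_one (y : W) (hy : ∀ a ∈ maximalIdeal A, a • y = 0) : ofSocle' y hy 1 = y := by
  have : ofSocle' y hy 1 = LinearMap.toSpanSingleton A W y 1 := rfl
  rw [this, LinearMap.toSpanSingleton_apply, one_smul]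

lemma injective_of_ne_zero' (f : ResidueField A →ₗ[A] W) (hf : f ≠ 0) :
    Function.Injective f := by
  rw [← LinearMap.ker_eq_bot, eq_bot_iff]
  intro z hz
  rw [LinearMap.mem_ker] at hz
  rw [Submodule.mem_bot]
  by_contra hz0
  apply hf
  apply ext_one'
  obtain ⟨r, rfl⟩ := residue_surjective z
  have hr : r ∉ maximalIdeal A := fun h => hz0 ((residue_eq_zero_iff r).2 h)
  have hu : IsUnit r := by
    rw [mem_maximalIdeal, mem_nonunits_iff, not_not] at hr
    exact hr
  rw [← smul_one_eq', map_smul] at hz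
  obtain ⟨u, rfl⟩ := hu
  have := congrArg (fun e => (↑u⁻¹ : A) • e) hz
  simp only [smul_zero, smul_smul, Units.inv_mul, one_smul] at this
  rw [this, LinearMap.zero_apply]

lemma exists_socle_multiple (w : W) (hw : w ≠ 0)
    (hW : ∃ n : ℕ, ∀ a ∈ maximalIdeal A ^ n, a • w = 0) :
    ∃ a : A, a • w ≠ 0 ∧ ∀ b ∈ maximalIdeal A, b • (a • w) = 0 := by
  classical
  have h0 : Nat.find hW ≠ 0 := by
    intro h
    have h1 := Nat.find_spec hW
    rw [h, pow_zero] at h1
    apply hw
    have h2 := h1 1 (by rw [Ideal.one_eq_top]; trivial)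
    rwa [one_smul] at h2
  obtain ⟨n', hn'⟩ := Nat.exists_eq_add_one_of_ne_zero h0
  have hmin : ¬ ∀ a ∈ maximalIdeal A ^ n', a • w = 0 := Nat.find_min hW (by omega)
  obtain ⟨a, ha⟩ := not_forall.mp hmin
  obtain ⟨ha1, ha2⟩ := Classical.not_imp.mp ha
  refine ⟨a, ha2, fun b hb => ?_⟩
  rw [smul_smul]
  apply Nat.find_spec hW
  rw [hn', pow_succ']
  exact Ideal.mul_mem_mul hb ha1

/-- a power torsion module with one dimensional socle embeds in the injective hull of the
residue field (universe polymorphic version) -/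
theorem exists_embedding {E : Type u} [AddCommGroup E] [Module A E]
    (f₀ : ResidueField A →ₗ[A] E) (hf : InjHull.IsInjectiveHull f₀)
    (hW : ∀ w : W, ∃ n : ℕ, ∀ a ∈ maximalIdeal A ^ n, a • w = 0)
    (φ : (ResidueField A →ₗ[A] W) ≃ₗ[A] ResidueField A) :
    ∃ g : W →ₗ[A] E, Function.Injective g := by
  haveI := hf.isInjective
  let ι : ResidueField A →ₗ[A] W := φ.symm 1
  have hι0 : ι ≠ 0 := by
    intro h
    have h1 : φ ι = 1 := φ.apply_symm_apply 1
    rw [h, map_zero] at h1
    exact zero_ne_one h1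
  have hι : Function.Injective ι := injective_of_ne_zero' ι hι0
  obtain ⟨g, hg⟩ := Module.Injective.extension_property A E _ _ ι hι f₀
  refine ⟨g, ?_⟩
  rw [injective_iff_map_eq_zero]
  intro w hw
  by_contra hw0
  obtain ⟨a, haw, hsoc⟩ := exists_socle_multiple w hw0 (hW w)
  obtain ⟨r, hr⟩ := residue_surjective (φ (ofSocle' (a • w) hsoc))
  have hψ : ofSocle' (a • w) hsoc = r • ι := by
    apply φ.injective
    rw [map_smul, φ.apply_symm_apply, ← hr, smul_one_eq']
  have h1 : a • w = r • ι 1 := by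
    rw [← ofSocle'_one (a • w) hsoc, hψ]
    rfl
  have h2 : g (a • w) = 0 := by rw [map_smul, hw, smul_zero]
  have h3 : g (a • w) = f₀ (residue A r) := by
    rw [h1, map_smul, ← LinearMap.comp_apply, hg, ← map_smul, smul_one_eq']
  have h4 : residue A r = 0 := hf.injective (by rw [← h3, h2, map_zero])
  have h5 : ofSocle' (a • w) hsoc = 0 := φ.injective (by rw [← hr, h4, map_zero])
  apply haw
  rw [← ofSocle'_one (a • w) hsoc, h5]
  rfl

end hull

section len

theorem bijective_of_injective_of_length_eq' {R : Type*} [Ring R] {M : Type*} {N : Type*}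
    [AddCommGroup M] [Module R M] [AddCommGroup N] [Module R N]
    (g : M →ₗ[R] N) (hg : Function.Injective g)
    (hlen : Module.length R N = Module.length R M) (hfin : Module.length R M ≠ ⊤) :
    Function.Bijective g := by
  refine ⟨hg, ?_⟩
  have h := Module.length_eq_add_of_exact g (LinearMap.range g).mkQ hg
    (Submodule.mkQ_surjective _) (LinearMap.exact_map_mkQ_range g)
  rw [hlen] at h
  have h0 : Module.length R (N ⧸ LinearMap.range g) = 0 := by
    have h' : Module.length R M + 0 =
        Module.length R M + Module.length R (N ⧸ LinearMap.range g) := by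
      rw [add_zero]; exact h
    exact ((ENat.add_right_injective_of_ne_top hfin) h').symm
  rw [Module.length_eq_zero_iff, Submodule.Quotient.subsingleton_iff] at h0
  exact LinearMap.range_eq_top.mp h0

end len

section assembly

variable {A : Type u} [CommRing A] [IsLocalRing A] [IsNoetherianRing A]

lemma exists_pow_kills (N : Type u) [AddCommGroup N] [Module A N] (hN : IsFiniteLength A N) :
    ∃ n : ℕ, ∀ r ∈ maximalIdeal A ^ n, ∀ x : N, r • x = 0 := by
  induction hN with
  | @of_subsingleton M _ _ _ => exact ⟨0, fun r _ x => Subsingleton.elim _ _⟩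
  | @of_simple_quotient M _ _ N' _ hN' ih =>
    obtain ⟨n, hn⟩ := ih
    obtain ⟨e⟩ := simple_equiv_residue (A := A) (M ⧸ N')
    refine ⟨n + 1, fun r hr x => ?_⟩
    have hle : maximalIdeal A ^ n * maximalIdeal A ≤ Module.annihilator A M := by
      rw [Ideal.mul_le]
      intro b hb a ha
      rw [Module.mem_annihilator]
      intro y
      have h1 : N'.mkQ (a • y) = 0 := by
        apply e.injective
        rw [map_smul, map_zero, map_smul]
        exact quot_killed (maximalIdeal A) a ha _
      have h2 : a • y ∈ N' := by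
        rwa [Submodule.mkQ_apply, Submodule.Quotient.mk_eq_zero] at h1
      have h3 := hn b hb ⟨a • y, h2⟩
      rw [mul_smul]
      exact congrArg Subtype.val h3
    rw [pow_succ] at hr
    exact Module.mem_annihilator.mp (hle hr) x

lemma isFiniteLength_of_killed (J : Ideal A) (n : ℕ) (hJ : maximalIdeal A ^ n ≤ J)
    (N : Type u) [AddCommGroup N] [Module A N] [Module.Finite A N]
    (hN : ∀ r ∈ J, ∀ x : N, r • x = 0) : IsFiniteLength A N := by
  rw [isFiniteLength_iff_isNoetherian_isArtinian]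
  refine ⟨inferInstance, ?_⟩
  obtain ⟨k, s, hs⟩ := Module.Finite.exists_fin (R := A) (M := N)
  haveI : IsArtinian A (A ⧸ J) := (isFiniteLength_iff_isNoetherian_isArtinian.mp
    (Groth.Agent.Helper6.Matlis.isFiniteLength_quot_of_pow_le J n hJ)).2
  exact isArtinian_of_surjective _ (pres J k s hN) (pres_surjective J k s hN hs)

/-- `Hom(κ, ω) ≅ κ` for a normalized dualizing complex -/
lemma hom_residue_normalized (ω : Dual.D A) (hω : Dual.IsDualizing A ω)
    (hn : Dual.IsNormalized A ω) :
    Nonempty ((Dual.inD A (ResidueField A) ⟶ ω) ≃ₗ[A] ResidueField A) := by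
  obtain ⟨n, h1, ⟨φ⟩⟩ := DK.main ω hω (maximalIdeal A)
  have hn0 : n = 0 := by
    by_contra hne
    haveI : Subsingleton (Dual.inD A (A ⧸ maximalIdeal A) ⟶ ω⟦n⟧) := hn n hne
    haveI : Subsingleton (ResidueField A) := φ.symm.toEquiv.subsingleton
    exact false_of_nontrivial_of_subsingleton (ResidueField A)
  subst hn0
  exact ⟨Linear.homCongr A (Iso.refl _) ((shiftFunctorZero (Dual.D A) ℤ).app ω).symm ≪≫ₗ φ⟩

/-- **`Ext(N, ω)` for `N` of finite length and `ω` a normalized dualizing complex.** -/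
theorem ext_finiteLength (ω : Dual.D A) (hω : Dual.IsDualizing A ω)
    (hn : Dual.IsNormalized A ω) (E : Type u) [AddCommGroup E] [Module A E]
    (f : ResidueField A →ₗ[A] E) (hf : InjHull.IsInjectiveHull f)
    (N : Type u) [AddCommGroup N] [Module A N] (hN : IsFiniteLength A N) :
    (∀ i : ℤ, i ≠ 0 → Subsingleton (Dual.inD A N ⟶ ω⟦i⟧)) ∧
      Nonempty ((Dual.inD A N ⟶ ω) ≃ₗ[A] (N →ₗ[A] E)) := by
  have hvan : ∀ (i : ℤ), i ≠ 0 → ∀ (N' : Type u) [AddCommGroup N'] [Module A N'],
      IsFiniteLength A N' → Subsingleton (Dual.inD A N' ⟶ ω⟦i⟧) :=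
    fun i hi N' _ _ hN' => vanish_of_finiteLength (ω⟦i⟧) (hn i hi) N' hN'
  refine ⟨fun i hi => hvan i hi N hN, ?_⟩
  obtain ⟨φκ⟩ := hom_residue_normalized ω hω hn
  obtain ⟨n, hnN⟩ := exists_pow_kills N hN
  have hNJ : ∀ r ∈ maximalIdeal A ^ (n + 1), ∀ x : N, r • x = 0 :=
    fun r hr x => hnN r (Ideal.pow_le_pow_right (Nat.le_succ n) hr) x
  have hκJ : ∀ r ∈ maximalIdeal A ^ (n + 1), ∀ x : ResidueField A, r • x = 0 := fun r hr x =>
    quot_killed (maximalIdeal A) r (Ideal.pow_le_self (Nat.succ_ne_zero n) hr) x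
  haveI : Module.Finite A N := by
    haveI := (isFiniteLength_iff_isNoetherian_isArtinian.mp hN).1
    infer_instance
  haveI : Module.Finite A (ResidueField A) :=
    Module.Finite.of_surjective (Algebra.linearMap A (ResidueField A)) residue_surjective
  have hV : ∀ (N' : Type u) [AddCommGroup N'] [Module A N'] [Module.Finite A N'],
      (∀ r ∈ maximalIdeal A ^ (n + 1), ∀ x : N', r • x = 0) →
        Subsingleton ((Dual.inD A N')⟦(1 : ℤ)⟧ ⟶ ω) :=
    fun N' _ _ _ hN' => by
      haveI := hvan (-1) (by omega) N'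
        (isFiniteLength_of_killed (maximalIdeal A ^ (n + 1)) (n + 1) le_rfl N' hN')
      exact (shiftHomEquiv' (Dual.inD A N') ω 1 (-1) (by omega)).toEquiv.subsingleton
  let ΘN := ThetaEquiv ω (maximalIdeal A ^ (n + 1)) hNJ hV
  let Θκ := ThetaEquiv ω (maximalIdeal A ^ (n + 1)) hκJ hV
  let φ : (ResidueField A →ₗ[A] (Dual.inD A (A ⧸ maximalIdeal A ^ (n + 1)) ⟶ ω)) ≃ₗ[A]
      ResidueField A := Θκ.symm ≪≫ₗ φκ
  have hW : ∀ w : (Dual.inD A (A ⧸ maximalIdeal A ^ (n + 1)) ⟶ ω),
      ∃ k : ℕ, ∀ a ∈ maximalIdeal A ^ k, a • w = 0 :=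
    fun w => ⟨n + 1, fun a ha => smul_eq_zero_of_killed (maximalIdeal A ^ (n + 1))
      (ModuleCat.of A (A ⧸ maximalIdeal A ^ (n + 1))) (quot_killed _) ω w a ha⟩
  obtain ⟨g, hg⟩ := exists_embedding f hf hW φ
  let post : (N →ₗ[A] (Dual.inD A (A ⧸ maximalIdeal A ^ (n + 1)) ⟶ ω)) →ₗ[A] (N →ₗ[A] E) :=
    LinearMap.compRight A g
  have hpost : Function.Injective post := fun a b hab => by
    apply LinearMap.ext
    intro y
    exact hg (LinearMap.congr_fun hab y)
  have hlT := length_T ω (hn (-1) (by omega)) (hn 1 (by omega)) φκ N hN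
  have hlen : Module.length A (N →ₗ[A] E) =
      Module.length A (N →ₗ[A] (Dual.inD A (A ⧸ maximalIdeal A ^ (n + 1)) ⟶ ω)) := by
    rw [Groth.Agent.S5170.result A E f hf N hN, ← ΘN.length_eq, hlT]
  have hfin : Module.length A (N →ₗ[A] (Dual.inD A (A ⧸ maximalIdeal A ^ (n + 1)) ⟶ ω)) ≠ ⊤ := by
    rw [← ΘN.length_eq, hlT]
    exact Module.length_ne_top_iff.mpr hN
  exact ⟨ΘN ≪≫ₗ LinearEquiv.ofBijective post
    (bijective_of_injective_of_length_eq' post hpost hlen hfin)⟩

end assembly

end Groth.Agent.Helper6.LD
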