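import Mathlib
import Groth.Prelude.Def_DRing4
import Groth.Agent.Helper6.LD3

/-!
# A normalized dualizing complex of a zero dimensional Noetherian local ring is `E[0]`
-/

set_option autoImplicit false
set_option linter.style.haveILetI false
set_option linter.unusedSectionVars false

universe u
open CategoryTheory CategoryTheory.Limits Pretriangulated DerivedCategory
attribute [local instance] HasDerivedCategory.standard

namespace Groth.Agent.Helper6.LD
open Groth.Agent.Helper3.DRingLib Groth.Agent.Helper6.DK IsLocalRing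

variable {A : Type u} [CommRing A]

/-- an object concentrated in degree `0` is its `H^0` -/
lemma iso_inD_of_concentrated (K : Dual.D A) [K.IsGE 0] [K.IsLE 0] (M : Type u) [AddCommGroup M]
    [Module A M] (e : Dual.HD A K 0 ≃ₗ[A] M) : Nonempty (K ≅ Dual.inD A M) := by
  obtain ⟨e0⟩ := exists_iso_single_HD K 0
  exact ⟨e0 ≪≫ (CategoryTheory.shiftFunctorZero' (Dual.D A) (-0) (by simp)).app _ ≪≫
    (DerivedCategory.singleFunctor (ModuleCat.{u} A) 0).mapIso e.toModuleIso⟩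

/-- `H^n(ω) ≃ Hom(A, ω[n])` for a dualizing complex -/
lemma HD_equiv_hom_self [IsNoetherianRing A] (ω : Dual.D A) (hω : Dual.IsDualizing A ω) (n : ℤ) :
    Nonempty (Dual.HD A ω n ≃ₗ[A] (Dual.inD A A ⟶ ω⟦n⟧)) := by
  obtain ⟨K', h1, h2, h3⟩ := Groth.Agent.Helper6.BiD.exists_dual ω hω ω hω.finite_cohomology
  haveI : K'.IsGE 0 := isGE_of_HD K' 0 (fun i hi => by
    obtain ⟨ψ⟩ := h1 i
    haveI := hω.ext_self_subsingleton i (by omega)
    exact ψ.toEquiv.subsingleton)
  haveI : K'.IsLE 0 := isLE_of_HD K' 0 (fun i hi => by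
    obtain ⟨ψ⟩ := h1 i
    haveI := hω.ext_self_subsingleton i (by omega)
    exact ψ.toEquiv.subsingleton)
  obtain ⟨ψ0⟩ := h1 0
  let e1 : (ω ⟶ ω⟦(0 : ℤ)⟧) ≃ₗ[A] (ω ⟶ ω) :=
    Linear.homCongr A (Iso.refl _) ((shiftFunctorZero (Dual.D A) ℤ).app ω)
  let e2 : A ≃ₗ[A] (ω ⟶ ω) :=
    LinearEquiv.ofBijective
      ({ toFun := fun a => a • 𝟙 ω
         map_add' := fun a b => add_smul a b _
         map_smul' := fun r a => by
           rw [smul_eq_mul, mul_smul]
           rfl } : A →ₗ[A] (ω ⟶ ω)) hω.toEnd_bijective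
  obtain ⟨eK⟩ := iso_inD_of_concentrated K' A (ψ0 ≪≫ₗ e1 ≪≫ₗ e2.symm)
  obtain ⟨ψ⟩ := h2 n
  exact ⟨ψ ≪≫ₗ Linear.homCongr A eK (Iso.refl _)⟩

/-- **A normalized dualizing complex in dimension zero is the injective hull of the residue
field.** -/
theorem dualizing_eq_hull_of_dim_zero [IsLocalRing A] [IsNoetherianRing A]
    (h0 : ringKrullDim A = 0) (ω : Dual.D A) (hω : Dual.IsDualizing A ω)
    (hn : Dual.IsNormalized A ω) (E : Type u) [AddCommGroup E] [Module A E]
    (f : ResidueField A →ₗ[A] E) (hf : InjHull.IsInjectiveHull f) :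
    Nonempty (ω ≅ Dual.inD A E) := by
  haveI : Ring.KrullDimLE 0 A := Ring.krullDimLE_iff.mpr (by rw [h0]; rfl)
  haveI : IsArtinianRing A := isArtinianRing_iff_krullDimLE_zero.mpr inferInstance
  have hA : IsFiniteLength A A :=
    isFiniteLength_iff_isNoetherian_isArtinian.mpr ⟨inferInstance, inferInstance⟩
  obtain ⟨h1, ⟨φ⟩⟩ := ext_finiteLength ω hω hn E f hf A hA
  haveI : ω.IsGE 0 := isGE_of_HD ω 0 (fun i hi => by
    obtain ⟨ψ⟩ := HD_equiv_hom_self ω hω i
    haveI := h1 i (by omega)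
    exact ψ.toEquiv.subsingleton)
  haveI : ω.IsLE 0 := isLE_of_HD ω 0 (fun i hi => by
    obtain ⟨ψ⟩ := HD_equiv_hom_self ω hω i
    haveI := h1 i (by omega)
    exact ψ.toEquiv.subsingleton)
  obtain ⟨ψ0⟩ := HD_equiv_hom_self ω hω 0
  exact iso_inD_of_concentrated ω E (ψ0 ≪≫ₗ
    Linear.homCongr A (Iso.refl _) ((shiftFunctorZero (Dual.D A) ℤ).app ω) ≪≫ₗ φ ≪≫ₗ
      LinearMap.ringLmapEquivSelf A A E)

end Groth.Agent.Helper6.LD
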