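import Mathlib

/-!
# `Ext^k(N, -)` commutes with a sequential colimit with injective limit, for finite `N`

Elementwise statements (`SE`: surjectivity, `KE`: injectivity of
`colim_n Ext^k(N, X n) → Ext^k(N, Einf)`).
-/

set_option autoImplicit false
set_option linter.style.haveILetI false
set_option linter.unusedSectionVars false

universe u
open CategoryTheory Abelian

namespace Groth.Agent.Helper6.LcD

/-- a concrete sequential colimit of modules -/
structure MSys (R : Type u) [CommRing R] where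
  /-- the modules -/
  X : ℕ → Type u
  [acg : ∀ n, AddCommGroup (X n)]
  [mod : ∀ n, Module R (X n)]
  /-- the transition maps -/
  t : ∀ n n' : ℕ, n ≤ n' → X n →ₗ[R] X n'
  t_trans : ∀ (n n' n'' : ℕ) (h : n ≤ n') (h' : n' ≤ n'') (x : X n),
    t n' n'' h' (t n n' h x) = t n n'' (h.trans h') x
  /-- the colimit -/
  Einf : Type u
  [acgE : AddCommGroup Einf]
  [modE : Module R Einf]
  /-- the cocone -/
  ι : ∀ n, X n →ₗ[R] Einf
  ι_t : ∀ (n n' : ℕ) (h : n ≤ n') (x : X n), ι n' (t n n' h x) = ι n x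
  surj : ∀ y : Einf, ∃ (n : ℕ) (x : X n), ι n x = y
  ker : ∀ (n : ℕ) (x : X n), ι n x = 0 → ∃ (n' : ℕ) (h : n ≤ n'), t n n' h x = 0

attribute [instance] MSys.acg MSys.mod MSys.acgE MSys.modE

variable {R : Type u} [CommRing R] (M : MSys R)

namespace MSys

lemma exists_uniform (n : ℕ) (s : Finset (M.X n)) (hs : ∀ x ∈ s, M.ι n x = 0) :
    ∃ (n' : ℕ) (hn : n ≤ n'), ∀ x ∈ s, M.t n n' hn x = 0 := by
  classical
  induction s using Finset.induction_on with
  | empty => exact ⟨n, le_rfl, fun x hx => absurd hx (Finset.notMem_empty x)⟩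
  | insert a s ha ih =>
    obtain ⟨n₁, hn₁, h1⟩ := ih (fun x hx => hs x (Finset.mem_insert_of_mem hx))
    obtain ⟨n₂, hn₂, h2⟩ := M.ker n a (hs a (Finset.mem_insert_self a s))
    refine ⟨max n₁ n₂, hn₁.trans (le_max_left _ _), fun x hx => ?_⟩
    rcases Finset.mem_insert.mp hx with rfl | hx
    · rw [← M.t_trans n n₂ _ hn₂ (le_max_right _ _), h2, map_zero]
    · rw [← M.t_trans n n₁ _ hn₁ (le_max_left _ _), h1 x hx, map_zero]

/-- injectivity in degree zero -/
theorem K0 (N : Type u) [AddCommGroup N] [Module R N] [Module.Finite R N] (n : ℕ)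
    (g : N →ₗ[R] M.X n) (hg : M.ι n ∘ₗ g = 0) :
    ∃ (n' : ℕ) (hn : n ≤ n'), M.t n n' hn ∘ₗ g = 0 := by
  classical
  obtain ⟨s, hs⟩ := (Module.Finite.fg_top : (⊤ : Submodule R N).FG)
  obtain ⟨n', hn, h⟩ := M.exists_uniform n (s.image g) (fun x hx => by
    obtain ⟨y, -, rfl⟩ := Finset.mem_image.mp hx
    exact LinearMap.congr_fun hg y)
  refine ⟨n', hn, LinearMap.ext_on hs (fun y hy => ?_)⟩
  exact h (g y) (Finset.mem_image_of_mem g hy)

/-- surjectivity in degree zero -/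
theorem S0 [IsNoetherianRing R] (N : Type u) [AddCommGroup N] [Module R N] [Module.Finite R N]
    (h : N →ₗ[R] M.Einf) : ∃ (n : ℕ) (g : N →ₗ[R] M.X n), M.ι n ∘ₗ g = h := by
  classical
  obtain ⟨k, π, hπ⟩ := Module.Finite.exists_fin' R N
  -- lift the images of the basis vectors to a common stage
  choose nj xj hxj using fun j : Fin k => M.surj (h (π (Pi.single j 1)))
  let n := Finset.univ.sup nj
  have hle : ∀ j, nj j ≤ n := fun j => Finset.le_sup (Finset.mem_univ j)
  let g₀ : (Fin k → R) →ₗ[R] M.X n :=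
    Fintype.linearCombination R (fun j => M.t (nj j) n (hle j) (xj j))
  have hg₀ : M.ι n ∘ₗ g₀ = h ∘ₗ π := by
    apply LinearMap.pi_ext
    intro j r
    rw [LinearMap.comp_apply, LinearMap.comp_apply, Fintype.linearCombination_apply_single,
      map_smul, M.ι_t, hxj, ← map_smul, ← map_smul, ← Pi.single_smul, smul_eq_mul, mul_one]
  -- kill the relations
  obtain ⟨s, hs⟩ := (IsNoetherian.noetherian (LinearMap.ker π) : (LinearMap.ker π).FG)
  obtain ⟨n', hn, hkill⟩ := M.exists_uniform n (s.image g₀) (fun x hx => by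
    obtain ⟨y, hy, rfl⟩ := Finset.mem_image.mp hx
    have hyk : y ∈ LinearMap.ker π := hs ▸ Submodule.subset_span hy
    have := LinearMap.congr_fun hg₀ y
    rw [LinearMap.comp_apply, LinearMap.comp_apply, LinearMap.mem_ker.mp hyk, map_zero] at this
    exact this)
  let g₁ : (Fin k → R) →ₗ[R] M.X n' := M.t n n' hn ∘ₗ g₀
  have hker : LinearMap.ker π ≤ LinearMap.ker g₁ := by
    rw [← hs, Submodule.span_le]
    intro y hy
    exact LinearMap.mem_ker.mpr (hkill (g₀ y) (Finset.mem_image_of_mem g₀ hy))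
  refine ⟨n', (LinearMap.ker π).liftQ g₁ hker ∘ₗ
    (π.quotKerEquivOfSurjective hπ).symm.toLinearMap, ?_⟩
  apply LinearMap.ext
  intro y
  obtain ⟨z, rfl⟩ := hπ y
  have h1 : (π.quotKerEquivOfSurjective hπ).symm (π z) = Submodule.Quotient.mk z := by
    rw [LinearEquiv.symm_apply_eq]
    rfl
  rw [LinearMap.comp_apply, LinearMap.comp_apply, LinearEquiv.coe_coe, h1,
    Submodule.liftQ_apply]
  show M.ι n' (M.t n n' hn (g₀ z)) = h (π z)
  rw [M.ι_t]
  exact LinearMap.congr_fun hg₀ z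

/-- the modules of the system as objects -/
abbrev XM (n : ℕ) : ModuleCat.{u} R := ModuleCat.of R (M.X n)

/-- the colimit as an object -/
abbrev EM : ModuleCat.{u} R := ModuleCat.of R M.Einf

/-- the transition maps as morphisms -/
abbrev tM (n n' : ℕ) (h : n ≤ n') : M.XM n ⟶ M.XM n' := ModuleCat.ofHom (M.t n n' h)

/-- the cocone as morphisms -/
abbrev ιM (n : ℕ) : M.XM n ⟶ M.EM := ModuleCat.ofHom (M.ι n)

lemma tM_trans (n n' n'' : ℕ) (h : n ≤ n') (h' : n' ≤ n'') :
    M.tM n n' h ≫ M.tM n' n'' h' = M.tM n n'' (h.trans h') := by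
  ext x
  exact M.t_trans n n' n'' h h' x

lemma tM_ιM (n n' : ℕ) (h : n ≤ n') : M.tM n n' h ≫ M.ιM n' = M.ιM n := by
  ext x
  exact M.ι_t n n' h x

section Ext

variable [IsNoetherianRing R]

lemma comp_tM_tM {N : ModuleCat.{u} R} {k : ℕ} (n n' n'' : ℕ) (h : n ≤ n') (h' : n' ≤ n'')
    (x : Ext.{u} N (M.XM n) k) :
    (x.comp (Ext.mk₀ (M.tM n n' h)) (add_zero k)).comp (Ext.mk₀ (M.tM n' n'' h')) (add_zero k) =
      x.comp (Ext.mk₀ (M.tM n n'' (h.trans h'))) (add_zero k) := by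
  rw [Ext.comp_assoc_of_third_deg_zero, Ext.mk₀_comp_mk₀, M.tM_trans]

lemma comp_tM_ιM {N : ModuleCat.{u} R} {k : ℕ} (n n' : ℕ) (h : n ≤ n')
    (x : Ext.{u} N (M.XM n) k) :
    (x.comp (Ext.mk₀ (M.tM n n' h)) (add_zero k)).comp (Ext.mk₀ (M.ιM n')) (add_zero k) =
      x.comp (Ext.mk₀ (M.ιM n)) (add_zero k) := by
  rw [Ext.comp_assoc_of_third_deg_zero, Ext.mk₀_comp_mk₀, M.tM_ιM]

/-- surjectivity for `Ext^k` -/
theorem SE [Module.Injective R M.Einf] (k : ℕ) (N : Type u) [AddCommGroup N] [Module R N]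
    [Module.Finite R N] (y : Ext.{u} (ModuleCat.of R N) M.EM k) :
    ∃ (n : ℕ) (x : Ext.{u} (ModuleCat.of R N) (M.XM n) k),
      x.comp (Ext.mk₀ (M.ιM n)) (add_zero k) = y := by
  rcases k with _ | k
  · obtain ⟨f, rfl⟩ := (Ext.mk₀_bijective _ _).2 y
    obtain ⟨n, g, hg⟩ := M.S0 N f.hom
    refine ⟨n, Ext.mk₀ (ModuleCat.ofHom g), ?_⟩
    rw [Ext.mk₀_comp_mk₀]
    congr 1
    ext x
    exact LinearMap.congr_fun hg x
  · haveI : Injective M.EM := Module.injective_object_of_injective_module (R := R) (M := M.Einf)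
    exact ⟨0, 0, by rw [Ext.zero_comp, Ext.eq_zero_of_injective y]⟩

/-- injectivity for `Ext^k` -/
theorem KE [Module.Injective R M.Einf] (k : ℕ) : ∀ (N : Type u) [AddCommGroup N] [Module R N]
    [Module.Finite R N] (n : ℕ) (x : Ext.{u} (ModuleCat.of R N) (M.XM n) k),
    x.comp (Ext.mk₀ (M.ιM n)) (add_zero k) = 0 →
      ∃ (n' : ℕ) (hn : n ≤ n'), x.comp (Ext.mk₀ (M.tM n n' hn)) (add_zero k) = 0 := by
  haveI : Injective M.EM := Module.injective_object_of_injective_module (R := R) (M := M.Einf)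
  induction k with
  | zero =>
    intro N _ _ _ n x hx
    obtain ⟨f, rfl⟩ := (Ext.mk₀_bijective _ _).2 x
    rw [Ext.mk₀_comp_mk₀] at hx
    have h0 : f ≫ M.ιM n = 0 := (Ext.mk₀_bijective _ _).1 (by rw [hx, Ext.mk₀_zero])
    obtain ⟨n', hn, h⟩ := M.K0 N n f.hom (by
      apply LinearMap.ext
      intro y
      exact congrArg (fun φ => φ.hom y) h0)
    refine ⟨n', hn, ?_⟩
    rw [Ext.mk₀_comp_mk₀]
    have h1 : f ≫ M.tM n n' hn = 0 := by
      ext y
      exact LinearMap.congr_fun h y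
    rw [h1, Ext.mk₀_zero]
  | succ k ih =>
    intro N _ _ _ n x _
    obtain ⟨r, π, hπ⟩ := Module.Finite.exists_fin' R N
    let S : ShortComplex (ModuleCat.{u} R) :=
      ShortComplex.mk (ModuleCat.ofHom (LinearMap.ker π).subtype) (ModuleCat.ofHom π) (by
        ext z
        exact LinearMap.mem_ker.mp z.2)
    have hS : S.ShortExact :=
      { exact := (ShortComplex.ShortExact.moduleCat_exact_iff_function_exact S).mpr
          (LinearMap.exact_subtype_ker_map π)
        mono_f := (ModuleCat.mono_iff_injective _).mpr (LinearMap.ker π).injective_subtype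
        epi_g := (ModuleCat.epi_iff_surjective _).mpr hπ }
    have h0 : (Ext.mk₀ S.g).comp x (zero_add (k + 1)) = 0 :=
      Ext.eq_zero_of_projective (P := ModuleCat.of R (Fin r → R)) _
    obtain ⟨x₁, hx₁⟩ := Ext.contravariant_sequence_exact₃ hS _ x h0 (show 1 + k = k + 1 by omega)
    -- extend the image of `x₁` in `Ext(N', Einf)` to the free module
    have h1 : hS.extClass.comp (x₁.comp (Ext.mk₀ (M.ιM n)) (add_zero k))
        (show 1 + k = k + 1 by omega) = 0 := Ext.eq_zero_of_injective _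
    obtain ⟨y₂, hy₂⟩ := Ext.contravariant_sequence_exact₁ hS _ _ _ h1
    obtain ⟨n₂, x₂, hx₂⟩ := M.SE k (Fin r → R) y₂
    let n₃ := max n n₂
    let z : Ext.{u} S.X₁ (M.XM n₃) k :=
      x₁.comp (Ext.mk₀ (M.tM n n₃ (le_max_left _ _))) (add_zero k) -
        (Ext.mk₀ S.f).comp (x₂.comp (Ext.mk₀ (M.tM n₂ n₃ (le_max_right _ _))) (add_zero k))
          (zero_add k)
    have hz : z.comp (Ext.mk₀ (M.ιM n₃)) (add_zero k) = 0 := by
      show (_ - _ : Ext.{u} S.X₁ (M.XM n₃) k).comp _ _ = 0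
      rw [sub_eq_add_neg, Ext.add_comp, Ext.neg_comp, M.comp_tM_ιM,
        Ext.comp_assoc_of_third_deg_zero, M.comp_tM_ιM, hx₂, hy₂, add_neg_cancel]
    obtain ⟨n₄, hn₄, hz₄⟩ := ih (LinearMap.ker π) n₃ z hz
    have hz₄' : x₁.comp (Ext.mk₀ (M.tM n n₄ ((le_max_left _ _).trans hn₄))) (add_zero k) =
        (Ext.mk₀ S.f).comp (x₂.comp (Ext.mk₀ (M.tM n₂ n₄ ((le_max_right _ _).trans hn₄)))
          (add_zero k)) (zero_add k) := by
      have := hz₄
      change (_ - _ : Ext.{u} S.X₁ (M.XM n₃) k).comp _ _ = 0 at this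
      rw [sub_eq_add_neg, Ext.add_comp, Ext.neg_comp, M.comp_tM_tM,
        Ext.comp_assoc_of_third_deg_zero, M.comp_tM_tM, ← sub_eq_add_neg, sub_eq_zero] at this
      exact this
    refine ⟨n₄, (le_max_left _ _).trans hn₄, ?_⟩
    rw [← hx₁, Ext.comp_assoc_of_third_deg_zero, hz₄']
    exact hS.extClass_comp_assoc _

end Ext

end MSys

end Groth.Agent.Helper6.LcD
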