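import Mathlib
import Groth.Prelude.Def_DRing4
import Groth.Agent.Helper6.DualFun1
import Groth.Agent.Helper6.DualCx
import Groth.Agent.Helper6.LD3
import Groth.Agent.Helper6.LD4
import Groth.Agent.Helper6.LcD2
import Groth.Agent.Helper3.DRingHLin

/-!
# The dual of the system `A/m^n` under a dualizing complex
-/

set_option autoImplicit false
set_option linter.style.haveILetI false
set_option linter.unusedSectionVars false

universe u
open CategoryTheory CategoryTheory.Limits Pretriangulated DerivedCategory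
attribute [local instance] HasDerivedCategory.standard

namespace Groth.Agent.Helper6.LcD
open Groth.Agent.Helper3.DRingLib Groth.Agent.Helper6.DualFun Groth.Agent.Helper6.DualCx
  Groth.Agent.Helper6.BiD Groth.Agent.Helper6.LD Groth.Agent.Helper6.HomCxPre IsLocalRing

variable {A : Type u} [CommRing A]

section single

variable {N N' N'' : Type u} [AddCommGroup N] [Module A N] [AddCommGroup N'] [Module A N']
  [AddCommGroup N''] [Module A N'']

/-- a module as a complex in degree zero -/
noncomputable abbrev sN (N : Type u) [AddCommGroup N] [Module A N] : DRing.Cx A :=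
  sg (ModuleCat.of A N)

/-- a linear map as a morphism of complexes in degree zero -/
noncomputable def sMap (g : N →ₗ[A] N') : sN (A := A) N ⟶ sN N' :=
  (HomologicalComplex.single (ModuleCat.{u} A) (ComplexShape.up ℤ) 0).map (ModuleCat.ofHom g)

lemma sMap_comp (g : N →ₗ[A] N') (g' : N' →ₗ[A] N'') : sMap (g' ∘ₗ g) = sMap g ≫ sMap g' := by
  unfold sMap
  rw [ModuleCat.ofHom_comp, Functor.map_comp]
  rfl

lemma sMap_id : sMap (LinearMap.id : N →ₗ[A] N) = 𝟙 (sN N) := by
  unfold sMap
  rw [ModuleCat.ofHom_id, CategoryTheory.Functor.map_id]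
  rfl

lemma sMap_smul (a : A) (g : N →ₗ[A] N') : sMap (a • g) = a • sMap g := by
  apply HomologicalComplex.from_single_hom_ext
  rw [HomologicalComplex.smul_f_apply]
  unfold sMap
  rw [HomologicalComplex.single_map_f_self, HomologicalComplex.single_map_f_self]
  have : ModuleCat.ofHom (a • g) = a • ModuleCat.ofHom g := rfl
  rw [this, Linear.smul_comp, Linear.comp_smul]
  rfl

/-- `N[0]` in the derived category is the image of the complex `N[0]` -/
noncomputable def cN (N : Type u) [AddCommGroup N] [Module A N] : Dual.inD A N ≅ Q.obj (sN N) :=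
  (singleFunctorIsoCompQ (ModuleCat.{u} A) 0).app (ModuleCat.of A N)

lemma cN_naturality (g : N →ₗ[A] N') :
    (singleFunctor (ModuleCat.{u} A) 0).map (ModuleCat.ofHom g) ≫ (cN N').hom =
      (cN N).hom ≫ Q.map (sMap g) :=
  (singleFunctorIsoCompQ (ModuleCat.{u} A) 0).hom.naturality (ModuleCat.ofHom g)

end single

section dual

variable (I : DRing.Cx A) {N N' N'' : Type u} [AddCommGroup N] [Module A N] [AddCommGroup N']
  [Module A N'] [AddCommGroup N''] [Module A N'']

/-- the dual `RHom(N, I)` of a module -/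
noncomputable abbrev DN (N : Type u) [AddCommGroup N] [Module A N] : Dual.D A :=
  Q.obj (DRing.homCx (sN N) I)

/-- the dual of a linear map -/
noncomputable def DMap (g : N →ₗ[A] N') : DN I N' ⟶ DN I N := Q.map (homCxPre (sMap g) I)

lemma DMap_comp (g : N →ₗ[A] N') (g' : N' →ₗ[A] N'') :
    DMap I (g' ∘ₗ g) = DMap I g' ≫ DMap I g := by
  unfold DMap
  rw [sMap_comp, homCxPre_comp, Functor.map_comp]

lemma DMap_id : DMap I (LinearMap.id : N →ₗ[A] N) = 𝟙 (DN I N) := by
  unfold DMap
  rw [sMap_id, homCxPre_id, CategoryTheory.Functor.map_id]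

lemma DMap_smul (a : A) (g : N →ₗ[A] N') : DMap I (a • g) = a • DMap I g := by
  unfold DMap
  rw [sMap_smul, homCxPre_smul, Functor.map_smul]

lemma DMap_zero : DMap I (0 : N →ₗ[A] N') = 0 := by
  have := DMap_smul I (0 : A) (0 : N →ₗ[A] N')
  rw [zero_smul, zero_smul] at this
  exact this

lemma smul_id_DN_eq_zero (a : A) (ha : ∀ y : N, a • y = 0) : a • 𝟙 (DN I N) = 0 := by
  rw [← DMap_id, ← DMap_smul]
  have : a • (LinearMap.id : N →ₗ[A] N) = 0 := by
    apply LinearMap.ext
    intro y
    exact ha y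
  rw [this, DMap_zero]

/-- the module `H^0(RHom(N, I))` -/
abbrev XN (N : Type u) [AddCommGroup N] [Module A N] : Type u := Dual.HD A (DN I N) 0

lemma XN_killed (a : A) (ha : ∀ y : N, a • y = 0) (x : XN I N) : a • x = 0 := by
  rw [← HD_map_smul_id_apply (DN I N) a 0 x, smul_id_DN_eq_zero I a ha, Functor.map_zero]
  rfl

variable [I.IsKInjective]

/-- naturality of the swap equivalence in the second variable -/
lemma swap_natural (K₀ : DRing.Cx A) {L L' : DRing.Cx A} (s : L' ⟶ L)
    (x : Q.obj L ⟶ Q.obj (DRing.homCx K₀ I)) :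
    swapEquiv I K₀ L' (Q.map s ≫ x) = swapEquiv I K₀ L x ≫ Q.map (homCxPre s I) := by
  show swapFun I K₀ L' (Q.map s ≫ x) = swapFun I K₀ L x ≫ _
  unfold swapFun
  rw [dmap_comp, dmap_Q_map, Category.assoc]

end dual

section loc

variable [IsLocalRing A] [IsNoetherianRing A] (I : DRing.Cx A) [I.IsKInjective]
  (ω : Dual.D A) (e : DRing.toD I ≅ ω)

/-- the cohomology of the dual of a module -/
noncomputable def hdDN (N : Type u) [AddCommGroup N] [Module A N] (j : ℤ) :
    Dual.HD A (DN I N) j ≃ₗ[A] (Dual.inD A N ⟶ ω⟦j⟧) :=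
  Psi' (sN N) I j ≪≫ₗ
    Linear.homCongr A (cN N).symm ((CategoryTheory.shiftFunctor (Dual.D A) j).mapIso e)

variable (hn : Dual.IsNormalized A ω)
include hn e

lemma subsingleton_HD_DN (N : Type u) [AddCommGroup N] [Module A N] (hN : IsFiniteLength A N)
    (j : ℤ) (hj : j ≠ 0) : Subsingleton (Dual.HD A (DN I N) j) := by
  haveI : Subsingleton (Dual.inD A N ⟶ ω⟦j⟧) := vanish_of_finiteLength (ω⟦j⟧) (hn j hj) N hN
  exact (hdDN I ω e N j).toEquiv.subsingleton

lemma DN_isGE (N : Type u) [AddCommGroup N] [Module A N] (hN : IsFiniteLength A N) :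
    (DN I N).IsGE 0 :=
  isGE_of_HD _ 0 (fun i hi => subsingleton_HD_DN I ω e hn N hN i (by omega))

lemma DN_isLE (N : Type u) [AddCommGroup N] [Module A N] (hN : IsFiniteLength A N) :
    (DN I N).IsLE 0 :=
  isLE_of_HD _ 0 (fun i hi => subsingleton_HD_DN I ω e hn N hN i (by omega))

lemma nonempty_eDN (N : Type u) [AddCommGroup N] [Module A N] (hN : IsFiniteLength A N) :
    Nonempty (DN I N ≅ Dual.inD A (XN I N)) := by
  haveI := DN_isGE I ω e hn N hN
  haveI := DN_isLE I ω e hn N hN
  exact iso_inD_of_concentrated (DN I N) (XN I N) (LinearEquiv.refl A _)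

omit hn

/-- `Hom(N, ω)` has the length of `N` -/
lemma length_XN (hω : Dual.IsDualizing A ω) (hn : Dual.IsNormalized A ω)
    (N : Type u) [AddCommGroup N] [Module A N] (hN : IsFiniteLength A N) :
    Module.length A (XN I N) = Module.length A N := by
  obtain ⟨φκ⟩ := hom_residue_normalized ω hω hn
  rw [← length_T ω (hn (-1) (by omega)) (hn 1 (by omega)) φκ N hN]
  exact ((hdDN I ω e N 0) ≪≫ₗ
    Linear.homCongr A (Iso.refl _) ((shiftFunctorZero (Dual.D A) ℤ).app ω)).length_eq

end loc

end Groth.Agent.Helper6.LcD
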