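import Mathlib
import Groth.Prelude.Def_DRing4
import Groth.Agent.Helper6.BiD2
import Groth.Agent.Helper6.LcD5

/-!
# Morphisms in `D(A)` from a module to a K-injective complex, via cocycles `N → J^q`
-/

set_option autoImplicit false
set_option linter.style.haveILetI false
set_option linter.unusedSectionVars false

universe u
open CategoryTheory CategoryTheory.Limits CochainComplex CochainComplex.HomComplex DerivedCategory
attribute [local instance] HasDerivedCategory.standard

namespace Groth.Agent.Helper6.LcD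
open Groth.Agent.Helper6.BiD Groth.Agent.Helper6.DualCx

variable {A : Type u} [CommRing A] (N : Type u) [AddCommGroup N] [Module A N]
  (J : DRing.Cx A) (q : ℤ)

/-- the maps `N → J^q` killed by the differential -/
def Zhom : Submodule A (ModuleCat.of A N ⟶ J.X q) :=
  LinearMap.ker (Linear.rightComp A (ModuleCat.of A N) (J.d q (q + 1)))

lemma mem_Zhom (f : ModuleCat.of A N ⟶ J.X q) : f ∈ Zhom N J q ↔ f ≫ J.d q (q + 1) = 0 :=
  LinearMap.mem_ker

/-- the cocycle attached to a map `N → J^q` killed by the differential -/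
noncomputable def cocOf (f : Zhom N J q) : Cocycle (sN N) J q :=
  Cocycle.fromSingleMk f.1 (zero_add q) (q + 1) rfl ((mem_Zhom N J q f.1).mp f.2)

lemma cocOf_coe (f : Zhom N J q) :
    (cocOf N J q f).1 = Cochain.fromSingleMk f.1 (zero_add q) := rfl

lemma cocOf_add (f f' : Zhom N J q) : cocOf N J q (f + f') = cocOf N J q f + cocOf N J q f' := by
  apply Cocycle.ext
  rw [Cocycle.coe_add, cocOf_coe, cocOf_coe, cocOf_coe]
  exact Cochain.fromSingleMk_add f.1 f'.1 (zero_add q)

lemma fromSingleMk_smul (a : A) (f : ModuleCat.of A N ⟶ J.X q) :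
    (Cochain.fromSingleMk (a • f) (zero_add q) : Cochain (sN N) J q) =
      a • Cochain.fromSingleMk f (zero_add q) := by
  apply Cochain.ext
  intro p' q' hpq'
  by_cases hp : p' = 0
  · subst hp
    obtain rfl : q' = q := by omega
    rw [Cochain.smul_v, Cochain.fromSingleMk_v, Cochain.fromSingleMk_v, Linear.comp_smul]
    rfl
  · exact (HomologicalComplex.isZero_single_obj_X _ _ _ _ hp).eq_of_src _ _

lemma cocOf_smul (a : A) (f : Zhom N J q) : cocOf N J q (a • f) = a • cocOf N J q f := by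
  apply Cocycle.ext
  rw [Cocycle.coe_smul, cocOf_coe, cocOf_coe]
  exact fromSingleMk_smul N J q a f.1

/-- the morphism in `D(A)` attached to a map `N → J^q` killed by the differential -/
noncomputable def ΓL : Zhom N J q →ₗ[A] (DRing.toD (sN N) ⟶ DRing.toD (J⟦q⟧)) where
  toFun f := gOf (sN N) J q (cocOf N J q f)
  map_add' f f' := by rw [cocOf_add, gOf_add]
  map_smul' a f := by
    rw [cocOf_smul, gOf_smul]
    rfl

lemma ΓL_apply (f : Zhom N J q) : ΓL N J q f = gOf (sN N) J q (cocOf N J q f) := rfl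

lemma ΓL_surjective [J.IsKInjective] : Function.Surjective (ΓL N J q) := by
  intro h
  obtain ⟨z, hz⟩ := gOf_surjective (sN N) J q h
  obtain ⟨f, hf, hfz⟩ := Cocycle.fromSingleMk_surjective z q (zero_add q) (q + 1) rfl
  refine ⟨⟨f, (mem_Zhom N J q f).mpr hf⟩, ?_⟩
  rw [ΓL_apply, ← hz, ← hfz]
  rfl

lemma ΓL_eq_zero_iff [J.IsKInjective] (f : Zhom N J q) :
    ΓL N J q f = 0 ↔ ∃ g : ModuleCat.of A N ⟶ J.X (q - 1), g ≫ J.d (q - 1) q = f.1 := by
  rw [ΓL_apply, gOf_eq_zero_iff, cocOf_coe]
  constructor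
  · rintro ⟨β, hβ⟩
    obtain ⟨g, rfl⟩ := Cochain.fromSingleMk_surjective β (q - 1)
      (by omega : (0 : ℤ) + (q - 1) = q - 1)
    refine ⟨g, ?_⟩
    rw [Cochain.δ_fromSingleMk _ _ q q (zero_add q)] at hβ
    exact (Cochain.fromSingleEquiv (zero_add q)).symm.injective hβ
  · rintro ⟨g, hg⟩
    refine ⟨Cochain.fromSingleMk g (by omega : (0 : ℤ) + (q - 1) = q - 1), ?_⟩
    rw [Cochain.δ_fromSingleMk _ _ q q (zero_add q), hg]

variable {N} in
lemma ΓL_precomp {N' : Type u} [AddCommGroup N'] [Module A N'] (s : N' →ₗ[A] N)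
    (f : Zhom N J q) (f' : Zhom N' J q) (hf' : f'.1 = ModuleCat.ofHom s ≫ f.1) :
    Q.map (sMap s) ≫ ΓL N J q f = ΓL N' J q f' := by
  rw [ΓL_apply, ΓL_apply]
  have h1 : cocOf N' J q f' = (cocOf N J q f).precomp (sMap s) := by
    apply Cocycle.ext
    rw [cocOf_coe, hf']
    exact congrArg Subtype.val (Cocycle.fromSingleMk_precomp (ModuleCat.ofHom s) f.1 (zero_add q)
      (q + 1) rfl ((mem_Zhom N J q f.1).mp f.2))
  rw [h1]
  unfold gOf
  rw [Cocycle.equivHomShift_symm_precomp, Functor.map_comp]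

end Groth.Agent.Helper6.LcD
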