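import Mathlib
import Groth.Prelude.Def_DRing3
import Groth.Prelude.Def_DualLC
import Groth.Agent.Helper6.LcD12
import Groth.Agent.Helper6.LcD7
import Groth.Agent.Helper4.KDerAdj
import Groth.Agent.Helper3.DRingFin
import Groth.Agent.Helper1.LocCohZero

/-!
# `H^q(RΓ_I K)` is the direct limit of the `Hom_{D(A)}(A/I^n, K[q])`
-/

set_option autoImplicit false
set_option linter.style.haveILetI false
set_option linter.unusedSectionVars false

universe u
open CategoryTheory CategoryTheory.Limits CochainComplex CochainComplex.HomComplex DerivedCategory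
attribute [local instance] HasDerivedCategory.standard

namespace Groth.Agent.Helper6.LcD
open Groth.Agent.Helper6.BiD Groth.Agent.Helper6.DualCx Groth.Agent.Helper3.DRingLib
  Groth.Agent.Helper1.LocCohDelta

variable {A : Type u} [CommRing A] (I : Ideal A) (J : DRing.Cx A) (q : ℤ)

/-- `Γ_I` applied termwise -/
noncomputable abbrev GJ : DRing.Cx A :=
  ((DRing.gammaI I).mapHomologicalComplex (ComplexShape.up ℤ)).obj J

/-- cycles of `Γ_I J` -/
noncomputable abbrev ZG : Submodule A ((GJ I J).X q) :=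
  LinearMap.ker ((GJ I J).sc' (q - 1) q (q + 1)).g.hom

/-- boundaries of `Γ_I J` -/
noncomputable abbrev BG : Submodule A (ZG I J q) :=
  LinearMap.range ((GJ I J).sc' (q - 1) q (q + 1)).moduleCatToCycles

/-- cohomology of `Γ_I J` -/
abbrev HG : Type u := ZG I J q ⧸ BG I J q

lemma ZG_d (z : ZG I J q) :
    (J.d q (q + 1)).hom (show ↥(DRing.torsionSub I (J.X q)) from z.1).1 = 0 := by
  have h : ((GJ I J).d q (q + 1)).hom z.1 = 0 := LinearMap.mem_ker.mp z.2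
  exact congrArg (fun t : ↥(DRing.torsionSub I (J.X (q + 1))) => t.1) h

lemma one_tors (n : ℕ) (M : ModuleCat.{u} A) (f : ModuleCat.of A (A ⧸ I ^ n) ⟶ M) :
    f.hom (Ideal.Quotient.mk _ 1) ∈ DRing.torsionSub I M := ⟨n, fun a ha => by
  rw [← map_smul]
  have : a • (Ideal.Quotient.mk (I ^ n) 1) = 0 := by
    rw [← Ideal.Quotient.mk_eq_mk, ← Submodule.Quotient.mk_smul, smul_eq_mul, mul_one]
    exact (Submodule.Quotient.mk_eq_zero _).2 ha
  rw [this, map_zero]⟩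

/-- evaluation at `1`, on cycles -/
noncomputable def evZ (n : ℕ) : Zhom (A ⧸ I ^ n) J q →ₗ[A] ZG I J q where
  toFun f := ⟨⟨f.1.hom (Ideal.Quotient.mk _ 1), one_tors I n _ f.1⟩, by
    rw [LinearMap.mem_ker]
    apply Subtype.ext
    show (J.d q (q + 1)).hom (f.1.hom (Ideal.Quotient.mk _ 1)) = 0
    have h := (mem_Zhom _ J q f.1).mp f.2
    exact congrArg (fun t => t.hom (Ideal.Quotient.mk _ 1)) h⟩
  map_add' f f' := Subtype.ext (Subtype.ext rfl)
  map_smul' a f := Subtype.ext (Subtype.ext rfl)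

lemma evZ_val (n : ℕ) (f : Zhom (A ⧸ I ^ n) J q) :
    ((evZ I J q n f).1).1 = f.1.hom (Ideal.Quotient.mk _ 1) := rfl

/-- evaluation at `1`, on classes -/
noncomputable def evH (n : ℕ) : Zhom (A ⧸ I ^ n) J q →ₗ[A] HG I J q :=
  (BG I J q).mkQ ∘ₗ evZ I J q n

lemma evH_ker [J.IsKInjective] (n : ℕ) :
    LinearMap.ker (ΓL (A ⧸ I ^ n) J q) ≤ LinearMap.ker (evH I J q n) := by
  intro f hf
  rw [LinearMap.mem_ker] at hf ⊢
  obtain ⟨g, hg⟩ := (ΓL_eq_zero_iff _ J q f).mp hf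
  show (BG I J q).mkQ (evZ I J q n f) = 0
  rw [Submodule.mkQ_apply, Submodule.Quotient.mk_eq_zero, LinearMap.mem_range]
  refine ⟨⟨g.hom (Ideal.Quotient.mk _ 1), one_tors I n _ g⟩, ?_⟩
  apply Subtype.ext
  apply Subtype.ext
  show (J.d (q - 1) q).hom (g.hom (Ideal.Quotient.mk _ 1)) = f.1.hom (Ideal.Quotient.mk _ 1)
  rw [← hg]
  rfl

/-- from morphisms in `D(A)` to classes -/
noncomputable def ρ [J.IsKInjective] (n : ℕ) :
    (DRing.toD (sN (A ⧸ I ^ n)) ⟶ DRing.toD (J⟦q⟧)) →ₗ[A] HG I J q :=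
  (LinearMap.ker (ΓL (A ⧸ I ^ n) J q)).liftQ (evH I J q n) (evH_ker I J q n) ∘ₗ
    ((ΓL (A ⧸ I ^ n) J q).quotKerEquivOfSurjective (ΓL_surjective _ J q)).symm.toLinearMap

lemma ρ_ΓL [J.IsKInjective] (n : ℕ) (f : Zhom (A ⧸ I ^ n) J q) :
    ρ I J q n (ΓL _ J q f) = evH I J q n f := by
  have h1 : ((ΓL (A ⧸ I ^ n) J q).quotKerEquivOfSurjective (ΓL_surjective _ J q)).symm
      (ΓL _ J q f) = Submodule.Quotient.mk f := by
    rw [LinearEquiv.symm_apply_eq]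
    rfl
  show (LinearMap.ker (ΓL (A ⧸ I ^ n) J q)).liftQ (evH I J q n) (evH_ker I J q n)
    (((ΓL (A ⧸ I ^ n) J q).quotKerEquivOfSurjective (ΓL_surjective _ J q)).symm
      (ΓL _ J q f)) = _
  rw [h1]
  rfl

lemma comp_mem_Zhom (n n' : ℕ) (h : n ≤ n') (f : Zhom (A ⧸ I ^ n) J q) :
    ModuleCat.ofHom (πJ I n n' h) ≫ f.1 ∈ Zhom (A ⧸ I ^ n') J q := by
  rw [mem_Zhom, Category.assoc, (mem_Zhom _ J q f.1).mp f.2, comp_zero]

/-- the map `A/I^n → M` attached to an element killed by `I^n` -/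
noncomputable def liftOne (n : ℕ) (M : ModuleCat.{u} A) (x : M) (hx : ∀ a ∈ I ^ n, a • x = 0) :
    ModuleCat.of A (A ⧸ I ^ n) ⟶ M :=
  ModuleCat.ofHom (Submodule.liftQ (I ^ n) (LinearMap.toSpanSingleton A M x) (fun a ha => by
    rw [LinearMap.mem_ker, LinearMap.toSpanSingleton_apply]
    exact hx a ha))

lemma liftOne_one (n : ℕ) (M : ModuleCat.{u} A) (x : M) (hx : ∀ a ∈ I ^ n, a • x = 0) :
    (liftOne I n M x hx).hom (Ideal.Quotient.mk _ 1) = x := by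
  show (1 : A) • x = x
  exact one_smul _ _

/-- **`H^q(RΓ_I K)` is the direct limit of the `Hom(A/I^n, K[q])`.** -/
theorem hd_rgamma [DRing.HasRgammaI I] (K : Dual.D A) :
    Nonempty (Dual.HD A ((DRing.RgammaI I).obj K) q ≃ₗ[A] Dual2.HDI A I K q) := by
  classical
  let K₀ : DRing.Cx A := Q.objPreimage K
  let eK : Q.obj K₀ ≅ K := Q.objObjPreimageIso K
  obtain ⟨J, ι, hJ, hι, -, -⟩ := Groth.Agent.Helper4.KInjRes.exists_resolution K₀
  haveI := hJ
  haveI := hι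
  haveI : IsIso (Q.map ι) := by
    rw [DerivedCategory.isIso_Q_map_iff_quasiIso]
    infer_instance
  let eKJ : K ≅ Q.obj J := eK.symm ≪≫ asIso (Q.map ι)
  let β := (DRing.gammaIKh I).totalRightDerivedUnit DerivedCategory.Qh
    (HomotopyCategory.quasiIso (ModuleCat.{u} A) (ComplexShape.up ℤ))
  let XJ : (Groth.Agent.Helper1.KInjDer.P (ModuleCat.{u} A)).FullSubcategory :=
    ⟨(HomotopyCategory.quotient _ _).obj J, CochainComplex.IsKInjective.rightOrthogonal J⟩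
  haveI hβ : IsIso (β.app XJ.obj) :=
    Groth.Agent.Helper4.KDerAdj.isIso_β_app (DRing.RgammaI I) β XJ
  let eR : (DRing.RgammaI I).obj K ≅ Q.obj (GJ I J) :=
    (DRing.RgammaI I).mapIso eKJ ≪≫ (asIso (β.app XJ.obj)).symm
  let e3 : Dual.HD A ((DRing.RgammaI I).obj K) q ≃ₗ[A] HG I J q :=
    ((DerivedCategory.homologyFunctor (ModuleCat.{u} A) q).mapIso eR ≪≫
      homologyToDIso (GJ I J) q ≪≫ homologyIsoQuot (GJ I J) q).toLinearEquiv
  let tIso : K⟦q⟧ ≅ DRing.toD (J⟦q⟧) :=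
    (CategoryTheory.shiftFunctor (Dual.D A) q).mapIso eKJ ≪≫ ((Q.commShiftIso q).app J).symm
  let α : ∀ n : ℕ, GH I K q n ≃ₗ[A] (DRing.toD (sN (A ⧸ I ^ n)) ⟶ DRing.toD (J⟦q⟧)) := fun n =>
    Linear.homCongr A (cN (A ⧸ I ^ n)) tIso
  have hα : ∀ (n n' : ℕ) (h : n ≤ n') (y : GH I K q n),
      α n' (gmap I K q n n' h y) = Q.map (sMap (πJ I n n' h)) ≫ α n y := by
    intro n n' h y
    show ((cN (A ⧸ I ^ n')).inv ≫
        ((DerivedCategory.singleFunctor (ModuleCat.{u} A) 0).map (ModuleCat.ofHom (πJ I n n' h)) ≫ y)) ≫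
          tIso.hom =
      Q.map (sMap (πJ I n n' h)) ≫ (((cN (A ⧸ I ^ n)).inv ≫ y) ≫ tIso.hom)
    have h1 : (cN (A ⧸ I ^ n')).inv ≫
        (DerivedCategory.singleFunctor (ModuleCat.{u} A) 0).map (ModuleCat.ofHom (πJ I n n' h)) =
        Q.map (sMap (πJ I n n' h)) ≫ (cN (A ⧸ I ^ n)).inv := by
      rw [Iso.inv_comp_eq, ← Category.assoc, ← cN_naturality, Category.assoc, Iso.hom_inv_id,
        Category.comp_id]
    simp only [Category.assoc]
    rw [← Category.assoc (cN (A ⧸ I ^ n')).inv, h1, Category.assoc]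
  let ψ : ∀ n : ℕ, GH I K q n →ₗ[A] ULift.{u + 1} (HG I J q) := fun n =>
    ULift.moduleEquiv.symm.toLinearMap ∘ₗ ρ I J q n ∘ₗ (α n).toLinearMap
  have hψa : ∀ (n : ℕ) (y : GH I K q n), ψ n y = ULift.up (ρ I J q n (α n y)) := fun n y => rfl
  have hψ : ∀ (n n' : ℕ) (h : n ≤ n') (y : GH I K q n),
      ψ n' (gmap I K q n n' h y) = ψ n y := by
    intro n n' h y
    rw [hψa, hψa, hα]
    obtain ⟨f, hf⟩ := ΓL_surjective (A ⧸ I ^ n) J q (α n y)
    rw [← hf, ΓL_precomp J q (πJ I n n' h) f ⟨_, comp_mem_Zhom I J q n n' h f⟩ rfl, ρ_ΓL, ρ_ΓL]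
    refine congrArg ULift.up ?_
    show (BG I J q).mkQ (evZ I J q n' ⟨_, comp_mem_Zhom I J q n n' h f⟩) =
      (BG I J q).mkQ (evZ I J q n f)
    exact congrArg _ (Subtype.ext (Subtype.ext rfl))
  have hsurj : ∀ t : ULift.{u + 1} (HG I J q),
      ∃ (n : ℕ) (y : GH I K q n), ψ n y = t := by
    intro t
    obtain ⟨z, hz⟩ := Submodule.Quotient.mk_surjective _ t.down
    obtain ⟨n, hn⟩ := (show (z.1 : (GJ I J).X q).1 ∈ DRing.torsionSub I (J.X q) from z.1.2)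
    let f₀ : ModuleCat.of A (A ⧸ I ^ n) ⟶ J.X q := liftOne I n (J.X q) z.1.1 hn
    have hf₀ : f₀ ∈ Zhom (A ⧸ I ^ n) J q := by
      rw [mem_Zhom]
      apply hom_ext_one
      show (J.d q (q + 1)).hom (f₀.hom (Ideal.Quotient.mk _ 1)) = 0
      rw [liftOne_one]
      exact ZG_d I J q z
    refine ⟨n, (α n).symm (ΓL _ J q ⟨f₀, hf₀⟩), ?_⟩
    rw [hψa, LinearEquiv.apply_symm_apply, ρ_ΓL]
    apply ULift.ext
    show (BG I J q).mkQ (evZ I J q n ⟨f₀, hf₀⟩) = t.down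
    rw [← hz]
    show Submodule.Quotient.mk (evZ I J q n ⟨f₀, hf₀⟩) = Submodule.Quotient.mk z
    refine congrArg _ (Subtype.ext (Subtype.ext ?_))
    exact liftOne_one I n (J.X q) z.1.1 hn
  have hker : ∀ (n : ℕ) (y : GH I K q n), ψ n y = 0 →
      ∃ (n' : ℕ) (h : n ≤ n'), gmap I K q n n' h y = 0 := by
    intro n y hy
    rw [hψa] at hy
    have hy' : ρ I J q n (α n y) = 0 := congrArg ULift.down hy
    obtain ⟨f, hf⟩ := ΓL_surjective (A ⧸ I ^ n) J q (α n y)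
    rw [← hf, ρ_ΓL] at hy'
    have hB : evZ I J q n f ∈ BG I J q := (Submodule.Quotient.mk_eq_zero _).mp hy'
    obtain ⟨w, hw⟩ := hB
    obtain ⟨m, hm⟩ := (show (w : (GJ I J).X (q - 1)).1 ∈ DRing.torsionSub I (J.X (q - 1)) from w.2)
    have h : n ≤ max n m := le_max_left _ _
    let g₀ : ModuleCat.of A (A ⧸ I ^ (max n m)) ⟶ J.X (q - 1) :=
      liftOne I (max n m) (J.X (q - 1)) w.1
        (fun a ha => hm a (Ideal.pow_le_pow_right (le_max_right n m) ha))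
    have hg₀ : g₀ ≫ J.d (q - 1) q = ModuleCat.ofHom (πJ I n (max n m) h) ≫ f.1 := by
      apply hom_ext_one
      show (J.d (q - 1) q).hom (g₀.hom (Ideal.Quotient.mk _ 1)) =
        f.1.hom (Ideal.Quotient.mk _ 1)
      rw [liftOne_one]
      exact congrArg (fun z => z.1.1) hw
    refine ⟨max n m, h, ?_⟩
    apply (α (max n m)).injective
    rw [hα, map_zero, ← hf,
      ΓL_precomp J q (πJ I n (max n m) h) f ⟨_, comp_mem_Zhom I J q n (max n m) h f⟩ rfl,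
      ΓL_eq_zero_iff]
    exact ⟨g₀, hg₀⟩
  exact ⟨e3 ≪≫ₗ (LinearEquiv.ofBijective (hdiDesc I K q ψ hψ)
    (hdiDesc_bijective I K q ψ hψ hsurj hker) ≪≫ₗ ULift.moduleEquiv).symm⟩

end Groth.Agent.Helper6.LcD
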