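import Mathlib
import Groth.Prelude.Def_Wider
import Groth.Prelude.Def_DRing4
import Groth.Agent.Helper6.LocExt4
import Groth.Agent.Helper6.LBCAdj
import Groth.Agent.Helper6.FlatBC
import Groth.Agent.Helper3.DRingBC2
import Groth.Agent.Helper3.DRingBC3

/-!
# Dualizing complexes glue along covers by localizations
-/

set_option autoImplicit false
set_option linter.style.haveILetI false
set_option linter.unusedSectionVars false

universe u
open CategoryTheory CategoryTheory.Limits Pretriangulated DerivedCategory TensorProduct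
attribute [local instance] HasDerivedCategory.standard

namespace Groth.Agent.Helper6.LocExt
open Groth.Agent.Helper3.DRingLib

section Iso

variable (A B : Type u) [CommRing A] [CommRing B] [Algebra A B] [Module.Flat A B]
  [DRing.HasLBaseChange (algebraMap A B)]

/-- for a flat algebra the derived base change is the termwise one -/
noncomputable def lbcIsoBcD (K : Dual.D A) :
    (DRing.LBaseChange (algebraMap A B)).obj K ≅ (bcD A B).obj K :=
  ((Groth.Agent.Helper6.LBCAdj.adj (algebraMap A B)).leftAdjointUniq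
    (Groth.Agent.Helper6.FlatBC.adjD A B)).app K

end Iso

section Cover

variable {A : Type u} [CommRing A] {J : Type*} (S : J → Submonoid A)
  (hcov : ∀ I : Ideal A, (∀ j, ∃ t ∈ S j, t ∈ I) → I = ⊤)
include hcov

lemma eq_zero_of_forall_smul {X Y : Dual.D A} (f : X ⟶ Y) (h : ∀ j, ∃ t ∈ S j, t • f = 0) :
    f = 0 := by
  have hI := hcov (LinearMap.ker (LinearMap.toSpanSingleton A (X ⟶ Y) f)) (fun j => by
    obtain ⟨t, ht, h0⟩ := h j
    refine ⟨t, ht, ?_⟩
    rw [LinearMap.mem_ker, LinearMap.toSpanSingleton_apply]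
    exact h0)
  have h1 : (1 : A) ∈ LinearMap.ker (LinearMap.toSpanSingleton A (X ⟶ Y) f) := by
    rw [hI]; exact Submodule.mem_top
  rw [LinearMap.mem_ker, LinearMap.toSpanSingleton_apply, one_smul] at h1
  exact h1

lemma eq_zero_of_forall_mul (z : A) (h : ∀ j, ∃ t ∈ S j, t * z = 0) : z = 0 := by
  have hI := hcov (LinearMap.ker (LinearMap.toSpanSingleton A A z)) (fun j => by
    obtain ⟨t, ht, h0⟩ := h j
    refine ⟨t, ht, ?_⟩
    rw [LinearMap.mem_ker, LinearMap.toSpanSingleton_apply]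
    exact h0)
  have h1 : (1 : A) ∈ LinearMap.ker (LinearMap.toSpanSingleton A A z) := by
    rw [hI]; exact Submodule.mem_top
  rw [LinearMap.mem_ker, LinearMap.toSpanSingleton_apply, one_smul] at h1
  exact h1

variable [IsNoetherianRing A]
  (B : J → Type u) [∀ j, CommRing (B j)] [∀ j, Algebra A (B j)]
  [∀ j, IsLocalization (S j) (B j)] [∀ j, Module.Flat A (B j)]

theorem isDualizing_of_cover (K : Dual.D A) (a b : ℤ) [K.IsGE a] [K.IsLE b]
    (hfin : ∀ i, Module.Finite A (Dual.HD A K i))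
    (hinj : ∃ a b : ℤ, ∀ (M : Type u) [AddCommGroup M] [Module A M] (i : ℤ),
      (i < a ∨ b < i) → Subsingleton (Dual.inD A M ⟶ K⟦i⟧))
    (hloc : ∀ j, Dual.IsDualizing (B j) ((bcD A (B j)).obj K)) : Dual.IsDualizing A K := by
  have hpc : ∀ m : ℤ, DRing.IsPseudoCoherent A m K := pc_of_finite K b hfin
  have hsh : ∀ i : ℤ, (K⟦i⟧).IsGE (a - i) :=
    fun i => TStructure.t.isGE_shift K a i (a - i) (by omega)
  refine ⟨inferInstance, hinj, hfin, ⟨?_, ?_⟩, ?_⟩
  · -- injective
    intro x₁ x₂ h12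
    have hz : (x₁ - x₂) • 𝟙 K = 0 := by
      rw [sub_smul]; exact sub_eq_zero.mpr h12
    have h0 : x₁ - x₂ = 0 := by
      apply eq_zero_of_forall_mul S hcov
      intro j
      have h1 : (algebraMap A (B j) (x₁ - x₂)) • 𝟙 ((bcD A (B j)).obj K) =
          (0 : B j) • 𝟙 ((bcD A (B j)).obj K) := by
        rw [← bcD_map_smul_id, hz, Functor.map_zero, zero_smul]
      have h2 : algebraMap A (B j) (x₁ - x₂) = 0 := (hloc j).toEnd_bijective.1 h1
      obtain ⟨m, hm⟩ := (IsLocalization.map_eq_zero_iff (S j) (B j) _).mp h2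
      exact ⟨m.1, m.2, hm⟩
    exact sub_eq_zero.mp h0
  · -- surjective
    intro f
    have hI : Submodule.comap (LinearMap.toSpanSingleton A (K ⟶ K) f)
        (LinearMap.range (LinearMap.toSpanSingleton A (K ⟶ K) (𝟙 K))) = ⊤ := by
      apply hcov
      intro j
      obtain ⟨y, hy⟩ := (hloc j).toEnd_bijective.2 ((bcD A (B j)).map f)
      have hy' : y • 𝟙 ((bcD A (B j)).obj K) = (bcD A (B j)).map f := hy
      obtain ⟨⟨x, s⟩, hxs⟩ := IsLocalization.surj (S j) y
      have hxs' : y * algebraMap A (B j) s = algebraMap A (B j) x := hxs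
      have h1 : (bcD A (B j)).map ((s : A) • f - x • 𝟙 K) = 0 := by
        rw [Functor.map_sub, bcD_map_smul, bcD_map_smul_id, ← hy', ← mul_smul, mul_comm, hxs',
          sub_self]
      obtain ⟨t, ht, h2⟩ := locInj_of_pc (S j) (B j) K K hpc a _ h1
      refine ⟨t * s, (S j).mul_mem ht s.2, ?_⟩
      rw [Submodule.mem_comap, LinearMap.mem_range]
      refine ⟨t * x, ?_⟩
      rw [LinearMap.toSpanSingleton_apply, LinearMap.toSpanSingleton_apply]
      rw [smul_sub, sub_eq_zero] at h2
      rw [mul_smul, mul_smul]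
      exact h2.symm
    have h1 : (1 : A) ∈ Submodule.comap (LinearMap.toSpanSingleton A (K ⟶ K) f)
        (LinearMap.range (LinearMap.toSpanSingleton A (K ⟶ K) (𝟙 K))) := by
      rw [hI]; exact Submodule.mem_top
    rw [Submodule.mem_comap, LinearMap.mem_range] at h1
    obtain ⟨x, hx⟩ := h1
    refine ⟨x, ?_⟩
    rw [LinearMap.toSpanSingleton_apply, LinearMap.toSpanSingleton_apply, one_smul] at hx
    exact hx
  · intro i hi
    haveI := hsh i
    have hz : ∀ f : K ⟶ K⟦i⟧, f = 0 := by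
      intro f
      apply eq_zero_of_forall_smul S hcov
      intro j
      haveI := (hloc j).ext_self_subsingleton i hi
      have h0 : (bcD A (B j)).map f = 0 := by
        have h1 : ∀ g : (bcD A (B j)).obj K ⟶ ((bcD A (B j)).obj K)⟦i⟧, g = 0 :=
          fun g => Subsingleton.elim _ _
        have h2 : (bcD A (B j)).map f ≫ (((bcD A (B j)).commShiftIso i).app K).hom = 0 := h1 _
        exact (cancel_mono (((bcD A (B j)).commShiftIso i).app K).hom).mp
          (h2.trans zero_comp.symm)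
      exact locInj_of_pc (S j) (B j) K (K⟦i⟧) hpc (a - i) f h0
    exact ⟨fun f g => by rw [hz f, hz g]⟩

theorem isDualizing_of_finite_cover [Finite J] (hB : JointlyFaithful A B)
    (hF : JointlyFinite A B) (K : Dual.D A)
    (hloc : ∀ j, Dual.IsDualizing (B j) ((bcD A (B j)).obj K)) : Dual.IsDualizing A K := by
  choose aj bj hj using fun j => (hloc j).finite_injective_dimension
  obtain ⟨b, hb⟩ := Finite.exists_le bj
  obtain ⟨a, ha⟩ := Finite.exists_ge aj
  have hbd : ∀ j, ((bcD A (B j)).obj K).IsGE (aj j) ∧ ((bcD A (B j)).obj K).IsLE (bj j) :=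
    fun j => bounds_of_hinj _ (aj j) (bj j) (hj j)
  have hfin : ∀ i, Module.Finite A (Dual.HD A K i) := by
    intro i
    apply hF
    intro j
    obtain ⟨e⟩ := nonempty_HD_bcD_equiv (B j) K i
    haveI := (hloc j).finite_cohomology i
    exact Module.Finite.equiv e
  have hGE : K.IsGE a := by
    apply isGE_of_HD
    intro i hi
    apply hB
    intro j
    obtain ⟨e⟩ := nonempty_HD_bcD_equiv (B j) K i
    haveI := (hbd j).1
    haveI := subsingleton_HD_of_isGE ((bcD A (B j)).obj K) (aj j) i (by have := ha j; omega)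
    exact e.symm.toEquiv.subsingleton
  have hLE : K.IsLE b := by
    apply isLE_of_HD
    intro i hi
    apply hB
    intro j
    obtain ⟨e⟩ := nonempty_HD_bcD_equiv (B j) K i
    haveI := (hbd j).2
    haveI := subsingleton_HD_of_isLE ((bcD A (B j)).obj K) (bj j) i (by have := hb j; omega)
    exact e.symm.toEquiv.subsingleton
  have hsh : ∀ i : ℤ, (K⟦i⟧).IsGE (a - i) :=
    fun i => TStructure.t.isGE_shift K a i (a - i) (by omega)
  have hinj : ∃ a b : ℤ, ∀ (M : Type u) [AddCommGroup M] [Module A M] (i : ℤ),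
      (i < a ∨ b < i) → Subsingleton (Dual.inD A M ⟶ K⟦i⟧) := by
    have h' : ∀ (J₀ : Ideal A) (i : ℤ), (i < a ∨ b < i) →
        ∀ e : (singleFunctor (ModuleCat.{u} A) 0).obj (ModuleCat.of A (A ⧸ J₀)) ⟶ K⟦i⟧,
          e = 0 := by
      intro J₀ i hi e
      haveI := hsh i
      apply eq_zero_of_forall_smul S hcov
      intro j
      have hi' : i < aj j ∨ bj j < i := by
        have := ha j
        have := hb j
        omega
      haveI := hj j (B j ⊗[A] (A ⧸ J₀)) i hi'
      have h0 : (bcD A (B j)).map e = 0 := by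
        have h1 : ∀ g : Dual.inD (B j) (B j ⊗[A] (A ⧸ J₀)) ⟶ ((bcD A (B j)).obj K)⟦i⟧, g = 0 :=
          fun g => Subsingleton.elim _ _
        have h2 : (bcDInD (B j) (A ⧸ J₀)).inv ≫ (bcD A (B j)).map e ≫
            (((bcD A (B j)).commShiftIso i).app K).hom = 0 := h1 _
        have h3 : (bcD A (B j)).map e ≫ (((bcD A (B j)).commShiftIso i).app K).hom = 0 :=
          (cancel_epi (bcDInD (B j) (A ⧸ J₀)).inv).mp (h2.trans comp_zero.symm)
        exact (cancel_mono (((bcD A (B j)).commShiftIso i).app K).hom).mp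
          (h3.trans zero_comp.symm)
      exact locInj_of_pc (S j) (B j) (Dual.inD A (A ⧸ J₀)) (K⟦i⟧) (fun m => pc_inD _ m)
        (a - i) e h0
    obtain ⟨E', hv', hinj', ⟨e'⟩⟩ := exists_injective_rep_of_ext K a b h'
    exact ⟨a, b, fun M _ _ i hi => subsingleton_hom_of_rep E' a b hv' hinj' e' M i hi⟩
  haveI := hGE
  haveI := hLE
  exact isDualizing_of_cover S hcov B K a b hfin hinj hloc

end Cover

section Away

variable {A : Type u} [CommRing A]

lemma hcov_away {n : ℕ} (f : Fin n → A) (hf : Ideal.span (Set.range f) = ⊤) (I : Ideal A)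
    (h : ∀ j, ∃ t ∈ Submonoid.powers (f j), t ∈ I) : I = ⊤ := by
  have h' : ∀ j, ∃ k : ℕ, f j ^ k ∈ I := by
    intro j
    obtain ⟨t, ht, htI⟩ := h j
    obtain ⟨k, hk⟩ := (Submonoid.mem_powers_iff t (f j)).mp ht
    exact ⟨k, by rw [hk]; exact htI⟩
  choose k hk using h'
  obtain ⟨N, hN⟩ := Finite.exists_le k
  have h1 := Ideal.span_pow_eq_top (Set.range f) hf N
  rw [← top_le_iff, ← h1, Ideal.span_le]
  rintro _ ⟨_, ⟨j, rfl⟩, rfl⟩
  show f j ^ N ∈ I
  rw [← Nat.sub_add_cancel (hN j), pow_add]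
  exact I.mul_mem_left _ (hk j)

lemma hcov_primes (I : Ideal A)
    (h : ∀ p : PrimeSpectrum A, ∃ t ∈ p.asIdeal.primeCompl, t ∈ I) : I = ⊤ := by
  by_contra hI
  obtain ⟨m, hm, hIm⟩ := Ideal.exists_le_maximal I hI
  obtain ⟨t, ht, htI⟩ := h ⟨m, hm.isPrime⟩
  exact ht (hIm htI)

end Away

end Groth.Agent.Helper6.LocExt
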