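import Mathlib
import Groth.Prelude.Def_DRing4
import Groth.Agent.Helper6.LD4
import Groth.Agent.Helper6.LocExt5
import Groth.Agent.Helper6.BiD6
import Groth.Agent.Helper3.DRingApprox
import Groth.Agent.S0299

/-!
# Shifts of dualizing complexes; a dualizing complex at a minimal prime
-/

set_option autoImplicit false
set_option linter.style.haveILetI false
set_option linter.unusedSectionVars false

universe u
open CategoryTheory CategoryTheory.Limits Pretriangulated DerivedCategory TensorProduct
attribute [local instance] HasDerivedCategory.standard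

namespace Groth.Agent.Helper6.LD
open Groth.Agent.Helper3.DRingLib Groth.Agent.Helper6.DK IsLocalRing

variable {A : Type u} [CommRing A]

/-- `Hom(X, (Y[n])[i]) ≃ Hom(X, Y[n + i])` -/
noncomputable def homShiftShiftEquiv (X Y : Dual.D A) (n i j : ℤ) (h : n + i = j) :
    (X ⟶ (Y⟦n⟧)⟦i⟧) ≃ₗ[A] (X ⟶ Y⟦j⟧) :=
  Linear.homCongr A (Iso.refl X)
    ((CategoryTheory.shiftFunctorAdd' (Dual.D A) n i j h).app Y).symm

/-- a shift of a dualizing complex is dualizing -/
theorem isDualizing_shift (ω : Dual.D A) (hω : Dual.IsDualizing A ω) (n : ℤ) :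
    Dual.IsDualizing A (ω⟦n⟧) := by
  obtain ⟨a, b, hab⟩ := hω.finite_injective_dimension
  refine
    { isNoetherianRing := hω.isNoetherianRing
      finite_injective_dimension := ⟨a - n, b - n, fun M _ _ i hi => ?_⟩
      finite_cohomology := fun i => ?_
      toEnd_bijective := ⟨fun x y hxy => ?_, fun g => ?_⟩
      ext_self_subsingleton := fun i hi => ?_ }
  · haveI := hab M (n + i) (by omega)
    exact (homShiftShiftEquiv (Dual.inD A M) ω n i (n + i) rfl).toEquiv.subsingleton
  · haveI := hω.finite_cohomology (n + i)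
    exact Module.Finite.equiv ((homologyShiftNatIso n i (n + i) rfl).app ω).toLinearEquiv.symm
  · have hxy' : x • 𝟙 (ω⟦n⟧) = y • 𝟙 (ω⟦n⟧) := hxy
    have h := Groth.Agent.Helper6.BiD.smul_id_shift_eq_zero ω hω.toEnd_bijective.1 n (x - y)
      (by rw [sub_smul]; exact sub_eq_zero.mpr hxy')
    exact sub_eq_zero.mp h
  · obtain ⟨c, hc⟩ := Groth.Agent.Helper6.BiD.end_shift_eq_smul ω hω.toEnd_bijective.2 n g
    exact ⟨c, hc.symm⟩
  · haveI := Groth.Agent.Helper6.BiD.subsingleton_hom_shift ω hω.ext_self_subsingleton n (n + i)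
      (by omega)
    exact (homShiftShiftEquiv (ω⟦n⟧) ω n i (n + i) rfl).toEquiv.subsingleton

/-- cohomology of a module placed in degree zero -/
lemma nontrivial_HD_inD_iff (E : Type u) [AddCommGroup E] [Module A E] [Nontrivial E] (j : ℤ) :
    Nontrivial (Dual.HD A (Dual.inD A E) j) ↔ j = 0 := by
  constructor
  · intro h
    by_contra hj
    haveI : Subsingleton (Dual.HD A (Dual.inD A E) j) := by
      rcases lt_or_gt_of_ne hj with h' | h'
      · exact subsingleton_HD_of_isGE _ 0 j h'
      · exact subsingleton_HD_of_isLE _ 0 j h'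
    exact false_of_nontrivial_of_subsingleton (Dual.HD A (Dual.inD A E) j)
  · rintro rfl
    exact ((singleFunctorCompHomologyFunctorIso (ModuleCat.{u} A) 0).app
      (ModuleCat.of A E)).toLinearEquiv.toEquiv.nontrivial

/-- **At a minimal prime a dualizing complex has exactly one nonzero cohomology module.** -/
theorem HD_localized_minimalPrime [IsNoetherianRing A] (ω : Dual.D A)
    (hω : Dual.IsDualizing A ω) (p : Ideal A) (hp : p ∈ minimalPrimes A) :
    ∃! i : ℤ, Nontrivial (LocalizedModule (Ideal.primeCompl p (hp := hp.1.1))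
      (Dual.HD A ω i)) := by
  haveI : p.IsPrime := hp.1.1
  haveI : IsNoetherianRing (Localization.AtPrime p) :=
    IsLocalization.isNoetherianRing p.primeCompl (Localization.AtPrime p) inferInstance
  have hωB : Dual.IsDualizing (Localization.AtPrime p)
      ((bcD A (Localization.AtPrime p)).obj ω) :=
    Groth.Agent.Helper6.LocExt.isDualizing_bcD p.primeCompl (Localization.AtPrime p) ω hω
  have h0 : ringKrullDim (Localization.AtPrime p) = 0 := by
    rw [IsLocalization.AtPrime.ringKrullDim_eq_height p (Localization.AtPrime p),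
      Ideal.height_eq_zero_iff.mpr hp]
    rfl
  obtain ⟨n, hn1, ⟨φ⟩⟩ := DK.main ((bcD A (Localization.AtPrime p)).obj ω) hωB
    (maximalIdeal (Localization.AtPrime p))
  have hω' := isDualizing_shift _ hωB n
  have hn' : Dual.IsNormalized (Localization.AtPrime p)
      (((bcD A (Localization.AtPrime p)).obj ω)⟦n⟧) := fun i hi => by
    haveI : Subsingleton (Dual.inD (Localization.AtPrime p)
        (ResidueField (Localization.AtPrime p)) ⟶
          ((bcD A (Localization.AtPrime p)).obj ω)⟦n + i⟧) := hn1 (n + i) (by omega)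
    exact (homShiftShiftEquiv (Dual.inD (Localization.AtPrime p)
      (ResidueField (Localization.AtPrime p))) _ n i (n + i) rfl).toEquiv.subsingleton
  obtain ⟨E, _, _, f, hf⟩ := Groth.Agent.S0299.result (Localization.AtPrime p)
    (ResidueField (Localization.AtPrime p))
  obtain ⟨e⟩ := dualizing_eq_hull_of_dim_zero h0 _ hω' hn' E f hf
  haveI : Nontrivial E := hf.injective.nontrivial
  have key : ∀ i : ℤ, Nontrivial (Dual.HD (Localization.AtPrime p)
      ((bcD A (Localization.AtPrime p)).obj ω) i) ↔ i = n := fun i => by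
    have e1 := ((homologyShiftNatIso (A := Localization.AtPrime p) n (i - n) i (by omega)).app
      ((bcD A (Localization.AtPrime p)).obj ω)).toLinearEquiv
    have e2 := ((homologyFunctor (ModuleCat.{u} (Localization.AtPrime p)) (i - n)).mapIso
      e).toLinearEquiv
    rw [(e1.symm.toEquiv.trans e2.toEquiv).nontrivial_congr, nontrivial_HD_inD_iff]
    omega
  have tr : ∀ i : ℤ, Nontrivial (LocalizedModule p.primeCompl (Dual.HD A ω i)) ↔
      Nontrivial (Dual.HD (Localization.AtPrime p)
        ((bcD A (Localization.AtPrime p)).obj ω) i) := fun i => by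
    obtain ⟨ψ⟩ := nonempty_HD_bcD_equiv (Localization.AtPrime p) ω i
    exact ((IsLocalizedModule.isBaseChange p.primeCompl (Localization.AtPrime p)
      (LocalizedModule.mkLinearMap p.primeCompl (Dual.HD A ω i))).equiv.symm.toEquiv.trans
        ψ.symm.toEquiv).nontrivial_congr
  exact ⟨n, (tr n).mpr ((key n).mpr rfl), fun i hi => (key i).mp ((tr i).mp hi)⟩

end Groth.Agent.Helper6.LD
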