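import Mathlib
import Groth.Prelude.Def_DRing4
import Groth.Agent.Helper6.LD5
import Groth.Agent.Helper6.DK2
import Groth.Agent.Helper6.DFinExt
import Groth.Agent.Helper6.LocExt5

/-!
# The dimension function of a dualizing complex
-/

set_option autoImplicit false
set_option linter.style.haveILetI false
set_option linter.unusedSectionVars false

universe u v
open CategoryTheory CategoryTheory.Limits Pretriangulated DerivedCategory TensorProduct
attribute [local instance] HasDerivedCategory.standard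

namespace Groth.Agent.Helper6.LD
open Groth.Agent.Helper3.DRingLib Groth.Agent.Helper6.DK Groth.Agent.Helper6.LocExt IsLocalRing

variable {A : Type u} [CommRing A]

lemma finite_HD_inD (M : Type u) [AddCommGroup M] [Module A M] [Module.Finite A M] (i : ℤ) :
    Module.Finite A (Dual.HD A (Dual.inD A M) i) := by
  by_cases hi : i = 0
  · subst hi
    have e : Dual.HD A (Dual.inD A M) 0 ≃ₗ[A] M :=
      ((singleFunctorCompHomologyFunctorIso (ModuleCat.{u} A) 0).app
        (ModuleCat.of A M)).toLinearEquiv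
    exact Module.Finite.equiv e.symm
  · haveI : Subsingleton (Dual.HD A (Dual.inD A M) i) := by
      rcases lt_or_gt_of_ne hi with h | h
      · exact subsingleton_HD_of_isGE _ 0 i h
      · exact subsingleton_HD_of_isLE _ 0 i h
    infer_instance

/-- `Ext^i(M, ω)` is a finite module for `M` finite and `ω` dualizing -/
theorem finite_ext_dualizing [IsNoetherianRing A] (ω : Dual.D A) (hω : Dual.IsDualizing A ω)
    (M : Type u) [AddCommGroup M] [Module A M] [Module.Finite A M] (i : ℤ) :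
    Module.Finite A (Dual.inD A M ⟶ ω⟦i⟧) := by
  obtain ⟨I, a, b, hv, hinj, _, ⟨e⟩, _, _⟩ := Groth.Agent.Helper6.BiD.exists_dualizing_rep ω hω
  exact Groth.Agent.Helper6.DFinExt.main (Dual.inD A M) ω (fun j => finite_HD_inD M j)
    hω.finite_cohomology ⟨a, b, I, hv, hinj, ⟨e⟩⟩ i

/-- Nakayama: multiplication by a non-unit is not surjective on a nonzero finite module -/
lemma subsingleton_of_smul_surjective [IsLocalRing A] (V : Type v) [AddCommGroup V] [Module A V]
    [Module.Finite A V] (x : A) (hx : x ∈ maximalIdeal A)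
    (h : ∀ v : V, ∃ w : V, x • w = v) : Subsingleton V := by
  have htop : (⊤ : Submodule A V) ≤ (Ideal.span {x}) • (⊤ : Submodule A V) := by
    intro v _
    obtain ⟨w, hw⟩ := h v
    rw [← hw]
    exact Submodule.smul_mem_smul (Ideal.subset_span (Set.mem_singleton x)) Submodule.mem_top
  have hjac : Ideal.span {x} ≤ Ideal.jacobson (⊥ : Ideal A) := by
    rw [IsLocalRing.jacobson_eq_maximalIdeal ⊥ bot_ne_top]
    exact (Ideal.span_singleton_le_iff_mem _).mpr hx
  have hbot : (⊤ : Submodule A V) = ⊥ :=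
    Submodule.eq_bot_of_le_smul_of_le_jacobson_bot (Ideal.span {x}) ⊤ Module.Finite.fg_top
      htop hjac
  exact (Submodule.subsingleton_iff A).mp (subsingleton_of_bot_eq_top hbot.symm)

section L1

variable [IsNoetherianRing A] [IsLocalRing A]

/-- over a local ring with normalized dualizing complex, `Ext^i(A/J, ω)` is concentrated in
degree `-1` for a prime `J` just below the maximal ideal -/
theorem ext_vanish_of_covBy (ω : Dual.D A) (hω : Dual.IsDualizing A ω)
    (hn : Dual.IsNormalized A ω)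
    (J : Ideal A) [hJp : J.IsPrime] (hJ : J ≠ maximalIdeal A)
    (hcov : ∀ P : Ideal A, P.IsPrime → J < P → P = maximalIdeal A) (i : ℤ) (hi : i ≠ -1) :
    Subsingleton (Dual.inD A (A ⧸ J) ⟶ ω⟦i⟧) := by
  have hJle : J ≤ maximalIdeal A := IsLocalRing.le_maximalIdeal hJp.ne_top
  have hJlt : J < maximalIdeal A := lt_of_le_of_ne hJle hJ
  obtain ⟨x, hxm, hxJ⟩ := SetLike.exists_of_lt hJlt
  have hJI : J ≤ J ⊔ Ideal.span {x} := le_sup_left
  have hxI : x ∈ J ⊔ Ideal.span {x} :=
    Ideal.mem_sup_right (Ideal.subset_span (Set.mem_singleton x))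
  have hrad : maximalIdeal A ≤ (J ⊔ Ideal.span {x}).radical := by
    rw [Ideal.radical_eq_sInf]
    refine le_sInf ?_
    rintro P ⟨hIP, hP⟩
    have hJP : J < P := by
      refine lt_of_le_of_ne (hJI.trans hIP) ?_
      intro h
      apply hxJ
      rw [h]
      exact hIP hxI
    rw [hcov P hP hJP]
  obtain ⟨k, hk⟩ := Ideal.exists_pow_le_of_le_radical_of_fg hrad (IsNoetherian.noetherian _)
  have hfl : IsFiniteLength A (A ⧸ (J ⊔ Ideal.span {x})) :=
    Groth.Agent.Helper6.Matlis.isFiniteLength_quot_of_pow_le _ k hk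
  -- the exact sequence `0 → A/J → A/J → A/(J + x) → 0`
  let ι : (A ⧸ J) →ₗ[A] (A ⧸ J) := x • LinearMap.id
  let π : (A ⧸ J) →ₗ[A] (A ⧸ (J ⊔ Ideal.span {x})) := (Ideal.Quotient.factorₐ A hJI).toLinearMap
  have hπmk : ∀ a : A, π (Ideal.Quotient.mk J a) = Ideal.Quotient.mk _ a := fun a => rfl
  have hsm : ∀ a : A, x • Ideal.Quotient.mk J a = Ideal.Quotient.mk J (x * a) := fun a => rfl
  have hιa : ∀ y : A ⧸ J, ι y = x • y := fun y => rfl
  have hι : Function.Injective ι := by
    refine (injective_iff_map_eq_zero ι).mpr (fun y hy => ?_)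
    have hy' : Ideal.Quotient.mk J x * y = 0 := by
      rw [← Ideal.Quotient.algebraMap_eq, ← Algebra.smul_def]
      exact hy
    rcases mul_eq_zero.mp hy' with h | h
    · exact absurd (Ideal.Quotient.eq_zero_iff_mem.mp h) hxJ
    · exact h
  have hπ : Function.Surjective π := by
    intro z
    obtain ⟨a, rfl⟩ := Ideal.Quotient.mk_surjective z
    exact ⟨Ideal.Quotient.mk J a, hπmk a⟩
  have hex : Function.Exact ι π := by
    intro y
    obtain ⟨a, rfl⟩ := Ideal.Quotient.mk_surjective y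
    constructor
    · intro hy
      have ha : a ∈ J ⊔ Ideal.span {x} :=
        Ideal.Quotient.eq_zero_iff_mem.mp ((hπmk a).symm.trans hy)
      rw [sup_comm, Ideal.mem_span_singleton_sup] at ha
      obtain ⟨c, b, hb, hab⟩ := ha
      refine ⟨Ideal.Quotient.mk J c, ?_⟩
      rw [hιa, hsm, ← hab, Ideal.Quotient.eq]
      have h1 : x * c - (c * x + b) = -b := by ring
      rw [h1]
      exact J.neg_mem hb
    · rintro ⟨z, hz⟩
      obtain ⟨c, rfl⟩ := Ideal.Quotient.mk_surjective z
      have hz' : Ideal.Quotient.mk J (x * c) = Ideal.Quotient.mk J a :=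
        ((hsm c).symm.trans (hιa _).symm).trans hz
      rw [← hz', hπmk]
      exact Ideal.Quotient.eq_zero_iff_mem.mpr (Ideal.mul_mem_right c _ hxI)
  have hV : Subsingleton (Dual.inD A (A ⧸ (J ⊔ Ideal.span {x})) ⟶ (ω⟦i⟧)⟦(1 : ℤ)⟧) := by
    haveI : Subsingleton (Dual.inD A (A ⧸ (J ⊔ Ideal.span {x})) ⟶ ω⟦i + 1⟧) :=
      vanish_of_finiteLength (ω⟦i + 1⟧) (hn (i + 1) (by omega)) _ hfl
    exact (homShiftShiftEquiv (Dual.inD A (A ⧸ (J ⊔ Ideal.span {x}))) ω i 1 (i + 1)
      rfl).toEquiv.subsingleton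
  have hsurj := Tmap_surjective' (ω⟦i⟧) ι π hι hπ hex hV
  haveI := finite_ext_dualizing ω hω (A ⧸ J) i
  refine subsingleton_of_smul_surjective _ x hxm (fun v => ?_)
  obtain ⟨w, hw⟩ := hsurj v
  refine ⟨w, ?_⟩
  rw [← hw]
  show x • w = Tmap (ω⟦i⟧) (x • LinearMap.id) w
  rw [Tmap_smul, Tmap_id]
  rfl

end L1

lemma localized_subsingleton_congr_of_eq {I I' : Ideal A} (h : I = I') (S : Submonoid A)
    (Y : Dual.D A) :
    Subsingleton (LocalizedModule S (Dual.inD A (A ⧸ I) ⟶ Y)) ↔
      Subsingleton (LocalizedModule S (Dual.inD A (A ⧸ I') ⟶ Y)) := by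
  subst h
  exact Iff.rfl

section Loc

variable (S : Submonoid A) (B : Type u) [CommRing B] [Algebra A B] [IsLocalization S B]
  [Module.Flat A B]

lemma subsingleton_localized_hom_iff (X Y : Dual.D A) (hs : LocSurj S B X Y)
    (hi : LocInj S B X Y) :
    Subsingleton (LocalizedModule S (X ⟶ Y)) ↔
      Subsingleton ((bcD A B).obj X ⟶ (bcD A B).obj Y) := by
  rw [LocalizedModule.subsingleton_iff]
  constructor
  · intro h
    have key : ∀ g : (bcD A B).obj X ⟶ (bcD A B).obj Y, g = 0 := by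
      intro g
      obtain ⟨s, hs', f, hf⟩ := hs g
      obtain ⟨r, hr, hrf⟩ := h f
      have h1 : (algebraMap A B r) • ((algebraMap A B s) • g) = 0 := by
        rw [hf, ← bcD_map_smul, hrf, Functor.map_zero]
      exact eq_zero_of_smul_eq_zero S B s hs' g (eq_zero_of_smul_eq_zero S B r hr _ h1)
    exact ⟨fun g₁ g₂ => by rw [key g₁, key g₂]⟩
  · intro h f
    exact hi f (Subsingleton.elim _ _)

lemma subsingleton_localized_ext_iff [IsNoetherianRing A] (J : Ideal B) (Y : Dual.D A) (a : ℤ)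
    [Y.IsGE a] (i : ℤ) :
    Subsingleton (LocalizedModule S (Dual.inD A (A ⧸ J.under A) ⟶ Y⟦i⟧)) ↔
      Subsingleton (Dual.inD B (B ⧸ J) ⟶ ((bcD A B).obj Y)⟦i⟧) := by
  haveI : (Y⟦i⟧).IsGE (a - i) := TStructure.t.isGE_shift Y a i (a - i) (by omega)
  have hs := locSurj_of_pc S B (Dual.inD A (A ⧸ J.under A)) (Y⟦i⟧) (fun m => pc_inD _ m) (a - i)
  have hi := locInj_of_pc S B (Dual.inD A (A ⧸ J.under A)) (Y⟦i⟧) (fun m => pc_inD _ m) (a - i)
  exact (subsingleton_localized_hom_iff S B _ _ hs hi).trans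
    (Iso.homCongr (inDQuotIso S B J) (((bcD A B).commShiftIso i).app Y)).subsingleton_congr

lemma loc_iff_of_under [IsNoetherianRing A] (ω : Dual.D A) (a : ℤ) [ω.IsGE a] (J : Ideal B)
    (P : Ideal A) (hJP : J.under A = P) (i : ℤ) :
    Subsingleton (LocalizedModule S (Dual.inD A (A ⧸ P) ⟶ ω⟦i⟧)) ↔
      Subsingleton (Dual.inD B (B ⧸ J) ⟶ ((bcD A B).obj ω)⟦i⟧) :=
  (localized_subsingleton_congr_of_eq hJP.symm S (ω⟦i⟧)).trans
    (subsingleton_localized_ext_iff S B J ω a i)

/-- if `P` is covered by `Q = m_B ∩ A` and the `Q`-local Ext of `A/Q` lives in degree `n`, then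
the `P`-local Ext of `A/P` vanishes outside degree `n - 1` -/
theorem degree_covBy_aux [IsNoetherianRing A] [IsLocalRing B]
    (ω : Dual.D A) (hω : Dual.IsDualizing A ω) (P Q : Ideal A) [hP : P.IsPrime]
    (hQ' : (maximalIdeal B).under A = Q) (hdisj : Disjoint (S : Set A) (P : Set A))
    (hPQ : P ≠ Q)
    (hcov : ∀ P' : Ideal A, P'.IsPrime → P < P' → P' ≤ Q → P' = Q)
    (nQ : ℤ) (hnQ : ∀ i : ℤ, i ≠ nQ →
      Subsingleton (LocalizedModule S (Dual.inD A (A ⧸ Q) ⟶ ω⟦i⟧)))
    (k : ℤ) (hk : k ≠ nQ - 1) :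
    Subsingleton (LocalizedModule P.primeCompl (Dual.inD A (A ⧸ P) ⟶ ω⟦k⟧)) := by
  obtain ⟨a, b, hab⟩ := hω.finite_injective_dimension
  obtain ⟨hGE, _⟩ := bounds_of_hinj ω a b hab
  haveI := hGE
  have hωB := isDualizing_bcD S B ω hω
  haveI : IsNoetherianRing B := hωB.isNoetherianRing
  have hω' := isDualizing_shift _ hωB nQ
  have hnorm : Dual.IsNormalized B (((bcD A B).obj ω)⟦nQ⟧) := by
    intro i hi
    have h1 : Subsingleton (Dual.inD B (B ⧸ maximalIdeal B) ⟶ ((bcD A B).obj ω)⟦nQ + i⟧) :=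
      (loc_iff_of_under S B ω a (maximalIdeal B) Q hQ' (nQ + i)).mp (hnQ (nQ + i) (by omega))
    haveI : Subsingleton (Dual.inD B (ResidueField B) ⟶ ((bcD A B).obj ω)⟦nQ + i⟧) := h1
    exact (homShiftShiftEquiv (Dual.inD B (ResidueField B)) ((bcD A B).obj ω) nQ i (nQ + i)
      rfl).toEquiv.subsingleton
  have hJp : (Ideal.map (algebraMap A B) P).IsPrime :=
    IsLocalization.isPrime_of_isPrime_disjoint S B P hP hdisj
  have hJu : (Ideal.map (algebraMap A B) P).under A = P :=
    IsLocalization.under_map_of_isPrime_disjoint S B hP hdisj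
  have hJne : Ideal.map (algebraMap A B) P ≠ maximalIdeal B := by
    intro h
    apply hPQ
    rw [← hJu, h, hQ']
  have hcovB : ∀ P' : Ideal B, P'.IsPrime → Ideal.map (algebraMap A B) P < P' →
      P' = maximalIdeal B := by
    intro P' hP' hlt
    haveI := hP'
    have hle : P ≤ P'.under A := by
      rw [← hJu]
      exact fun y hy => hlt.le hy
    have hne : P ≠ P'.under A := by
      intro h
      apply hlt.ne
      rw [← IsLocalization.map_under S B P', ← h]
    have hle2 : P'.under A ≤ Q := by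
      rw [← hQ']
      exact fun y hy => IsLocalRing.le_maximalIdeal hP'.ne_top hy
    have hu : P'.under A = Q :=
      hcov _ (inferInstance : (P'.under A).IsPrime) (lt_of_le_of_ne hle hne) hle2
    rw [← IsLocalization.map_under S B P', hu, ← hQ', IsLocalization.map_under S B]
  haveI := hJp
  have hvan := ext_vanish_of_covBy (((bcD A B).obj ω)⟦nQ⟧) hω' hnorm
    (Ideal.map (algebraMap A B) P) hJne hcovB (k - nQ) (by omega)
  haveI := hvan
  have h2 : Subsingleton (Dual.inD B (B ⧸ Ideal.map (algebraMap A B) P) ⟶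
      ((bcD A B).obj ω)⟦k⟧) :=
    (homShiftShiftEquiv (Dual.inD B (B ⧸ Ideal.map (algebraMap A B) P)) ((bcD A B).obj ω)
      nQ (k - nQ) k (by omega)).symm.toEquiv.subsingleton
  have h3 : Subsingleton (LocalizedModule S (Dual.inD A (A ⧸ P) ⟶ ω⟦k⟧)) :=
    (loc_iff_of_under S B ω a _ P hJu k).mpr h2
  rw [LocalizedModule.subsingleton_iff] at h3 ⊢
  intro f
  obtain ⟨r, hr, hrf⟩ := h3 f
  exact ⟨r, fun hrP => Set.disjoint_left.mp hdisj hr hrP, hrf⟩

end Loc

section Main

variable [IsNoetherianRing A]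

/-- the degree in which the local Ext of the residue field at a prime lives -/
theorem exists_degree (ω : Dual.D A) (hω : Dual.IsDualizing A ω) (P : Ideal A) [P.IsPrime] :
    ∃ n : ℤ, ∀ i : ℤ,
      Nontrivial (LocalizedModule P.primeCompl (Dual.inD A (A ⧸ P) ⟶ ω⟦i⟧)) ↔ i = n := by
  obtain ⟨a, b, hab⟩ := hω.finite_injective_dimension
  obtain ⟨hGE, _⟩ := bounds_of_hinj ω a b hab
  haveI := hGE
  have hωB := isDualizing_bcD P.primeCompl (Localization.AtPrime P) ω hω
  haveI : IsNoetherianRing (Localization.AtPrime P) := hωB.isNoetherianRing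
  obtain ⟨n, hn1, ⟨e⟩⟩ := DK.main ((bcD A (Localization.AtPrime P)).obj ω) hωB
    (maximalIdeal (Localization.AtPrime P))
  refine ⟨n, fun i => ?_⟩
  rw [← not_subsingleton_iff_nontrivial,
    loc_iff_of_under P.primeCompl (Localization.AtPrime P) ω a
      (maximalIdeal (Localization.AtPrime P)) P Localization.AtPrime.under_maximalIdeal i]
  constructor
  · intro h
    by_contra hne
    exact h (hn1 i hne)
  · rintro rfl hsub
    haveI : Nontrivial (Localization.AtPrime P ⧸ maximalIdeal (Localization.AtPrime P)) :=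
      Ideal.Quotient.nontrivial_iff.mpr (IsLocalRing.maximalIdeal.isMaximal _).ne_top
    haveI := hsub
    exact not_subsingleton (Localization.AtPrime P ⧸ maximalIdeal (Localization.AtPrime P))
      e.symm.toEquiv.subsingleton

/-- **A dualizing complex defines a dimension function.** -/
theorem exists_dimension_function (ω : Dual.D A) (hω : Dual.IsDualizing A ω) :
    ∃ δ : PrimeSpectrum A → ℤ,
      (∀ (p : PrimeSpectrum A) (i : ℤ),
        Nontrivial (LocalizedModule p.asIdeal.primeCompl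
          (Dual.inD A (A ⧸ p.asIdeal) ⟶ ω⟦i⟧)) ↔ i = -δ p) ∧
      ∀ p q : PrimeSpectrum A, p ⋖ q → δ p = δ q + 1 := by
  have hex : ∀ p : PrimeSpectrum A, ∃ n : ℤ, ∀ i : ℤ,
      Nontrivial (LocalizedModule p.asIdeal.primeCompl
        (Dual.inD A (A ⧸ p.asIdeal) ⟶ ω⟦i⟧)) ↔ i = n :=
    fun p => exists_degree ω hω p.asIdeal
  choose n hn using hex
  refine ⟨fun p => -n p, fun p i => ?_, fun p q hpq => ?_⟩
  · show _ ↔ i = - -n p
    rw [neg_neg]
    exact hn p i
  · have hlt : p.asIdeal < q.asIdeal := (PrimeSpectrum.asIdeal_lt_asIdeal p q).mpr hpq.lt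
    have hcov : ∀ P' : Ideal A, P'.IsPrime → p.asIdeal < P' → P' ≤ q.asIdeal →
        P' = q.asIdeal := by
      intro P' hP' h1 h2
      rcases lt_or_eq_of_le h2 with h3 | h3
      · exfalso
        exact hpq.2 ((PrimeSpectrum.asIdeal_lt_asIdeal p ⟨P', hP'⟩).mp h1)
          ((PrimeSpectrum.asIdeal_lt_asIdeal ⟨P', hP'⟩ q).mp h3)
      · exact h3
    have hdisj : Disjoint (q.asIdeal.primeCompl : Set A) (p.asIdeal : Set A) :=
      Set.disjoint_left.mpr (fun y hy hyp => hy (hlt.le hyp))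
    have key := degree_covBy_aux q.asIdeal.primeCompl (Localization.AtPrime q.asIdeal) ω hω
      p.asIdeal q.asIdeal Localization.AtPrime.under_maximalIdeal hdisj hlt.ne hcov (n q)
      (fun i hi => not_nontrivial_iff_subsingleton.mp (fun h => hi ((hn q i).mp h)))
    have h1 : n p = n q - 1 := by
      by_contra hne
      have h2 := key (n p) hne
      exact not_nontrivial_iff_subsingleton.mpr h2 ((hn p (n p)).mpr rfl)
    show -n p = -n q + 1
    omega

end Main

end Groth.Agent.Helper6.LD
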