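import Mathlib
import Groth.Prelude.Def_DRing4
import Groth.Agent.Helper6.LD6

/-!
# The dimension function of a normalized dualizing complex is the coheight
-/

set_option autoImplicit false
set_option linter.style.haveILetI false
set_option linter.unusedSectionVars false

universe u
open CategoryTheory CategoryTheory.Limits Pretriangulated DerivedCategory TensorProduct
attribute [local instance] HasDerivedCategory.standard

namespace Groth.Agent.Helper6.LD
open Groth.Agent.Helper3.DRingLib Groth.Agent.Helper6.DK Groth.Agent.Helper6.LocExt IsLocalRing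

variable {A : Type u} [CommRing A] [IsNoetherianRing A]

/-- version of `HD_localized_minimalPrime` with the degree pinned -/
theorem HD_localized_minimalPrime_iff (ω : Dual.D A) (hω : Dual.IsDualizing A ω) (p : Ideal A)
    [hp' : p.IsPrime] (hp : p ∈ minimalPrimes A) (n : ℤ)
    (hn1 : ∀ i : ℤ, i ≠ n → Subsingleton (Dual.inD (Localization.AtPrime p)
      (Localization.AtPrime p ⧸ maximalIdeal (Localization.AtPrime p)) ⟶
        ((bcD A (Localization.AtPrime p)).obj ω)⟦i⟧)) (i : ℤ) :
    Nontrivial (LocalizedModule p.primeCompl (Dual.HD A ω i)) ↔ i = n := by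
  haveI : IsNoetherianRing (Localization.AtPrime p) :=
    IsLocalization.isNoetherianRing p.primeCompl (Localization.AtPrime p) inferInstance
  have hωB : Dual.IsDualizing (Localization.AtPrime p)
      ((bcD A (Localization.AtPrime p)).obj ω) :=
    Groth.Agent.Helper6.LocExt.isDualizing_bcD p.primeCompl (Localization.AtPrime p) ω hω
  have h0 : ringKrullDim (Localization.AtPrime p) = 0 := by
    rw [IsLocalization.AtPrime.ringKrullDim_eq_height p (Localization.AtPrime p),
      Ideal.height_eq_zero_iff.mpr hp]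
    rfl
  have hω' := isDualizing_shift _ hωB n
  have hn' : Dual.IsNormalized (Localization.AtPrime p)
      (((bcD A (Localization.AtPrime p)).obj ω)⟦n⟧) := fun i hi => by
    haveI : Subsingleton (Dual.inD (Localization.AtPrime p)
        (ResidueField (Localization.AtPrime p)) ⟶
          ((bcD A (Localization.AtPrime p)).obj ω)⟦n + i⟧) := hn1 (n + i) (by omega)
    exact (homShiftShiftEquiv (Dual.inD (Localization.AtPrime p)
      (ResidueField (Localization.AtPrime p))) _ n i (n + i) rfl).toEquiv.subsingleton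
  obtain ⟨E, _, _, f, hf⟩ := Groth.Agent.S0299.result (Localization.AtPrime p)
    (ResidueField (Localization.AtPrime p))
  obtain ⟨e⟩ := dualizing_eq_hull_of_dim_zero h0 _ hω' hn' E f hf
  haveI : Nontrivial E := hf.injective.nontrivial
  have key : ∀ i : ℤ, Nontrivial (Dual.HD (Localization.AtPrime p)
      ((bcD A (Localization.AtPrime p)).obj ω) i) ↔ i = n := fun i => by
    have e1 := ((homologyShiftNatIso (A := Localization.AtPrime p) n (i - n) i (by omega)).app
      ((bcD A (Localization.AtPrime p)).obj ω)).toLinearEquiv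
    have e2 := ((homologyFunctor (ModuleCat.{u} (Localization.AtPrime p)) (i - n)).mapIso
      e).toLinearEquiv
    rw [(e1.symm.toEquiv.trans e2.toEquiv).nontrivial_congr, nontrivial_HD_inD_iff]
    omega
  have tr : ∀ i : ℤ, Nontrivial (LocalizedModule p.primeCompl (Dual.HD A ω i)) ↔
      Nontrivial (Dual.HD (Localization.AtPrime p)
        ((bcD A (Localization.AtPrime p)).obj ω) i) := fun i => by
    obtain ⟨ψ⟩ := nonempty_HD_bcD_equiv (Localization.AtPrime p) ω i
    exact ((IsLocalizedModule.isBaseChange p.primeCompl (Localization.AtPrime p)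
      (LocalizedModule.mkLinearMap p.primeCompl (Dual.HD A ω i))).equiv.symm.toEquiv.trans
        ψ.symm.toEquiv).nontrivial_congr
  exact (tr i).trans (key i)

lemma coheight_eq_of_ringKrullDim_quotient (p : PrimeSpectrum A) (e : ℕ)
    (he : ringKrullDim (A ⧸ p.asIdeal) = e) : Order.coheight p = e := by
  have h1 : ringKrullDim (A ⧸ p.asIdeal) = Order.krullDim (Set.Ici p) := by
    rw [ringKrullDim_quotient]
    have hset : PrimeSpectrum.zeroLocus (p.asIdeal : Set A) = Set.Ici p := by
      ext q
      rw [PrimeSpectrum.mem_zeroLocus, Set.mem_Ici, SetLike.coe_subset_coe,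
        PrimeSpectrum.asIdeal_le_asIdeal]
    rw [hset]
  rw [← Order.coheight_eq_krullDim_Ici, he] at h1
  exact_mod_cast h1.symm

section Local

variable [IsLocalRing A]

lemma normalized_quot (ω : Dual.D A) (hn : Dual.IsNormalized A ω) (I : Ideal A)
    (hI : I = maximalIdeal A) (i : ℤ) (hi : i ≠ 0) :
    Subsingleton (Dual.inD A (A ⧸ I) ⟶ ω⟦i⟧) := by
  subst hI
  exact hn i hi

/-- the dimension function of a normalized dualizing complex over a local ring is the
coheight -/
theorem delta_eq_coheight (ω : Dual.D A) (hn : Dual.IsNormalized A ω)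
    (δ : PrimeSpectrum A → ℤ)
    (hδ1 : ∀ (p : PrimeSpectrum A) (i : ℤ),
      Nontrivial (LocalizedModule p.asIdeal.primeCompl
        (Dual.inD A (A ⧸ p.asIdeal) ⟶ ω⟦i⟧)) ↔ i = -δ p)
    (hδ2 : ∀ p q : PrimeSpectrum A, p ⋖ q → δ p = δ q + 1) :
    ∀ (d : ℕ) (p : PrimeSpectrum A), Order.coheight p = d → δ p = d := by
  intro d
  induction d with
  | zero =>
    intro p hp
    have hmax : IsMax p := Order.coheight_eq_zero.mp (by rw [hp]; rfl)
    have hle : p ≤ IsLocalRing.closedPoint A :=
      (PrimeSpectrum.asIdeal_le_asIdeal _ _).mp (IsLocalRing.le_maximalIdeal p.isPrime.ne_top)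
    have hpm : p.asIdeal = maximalIdeal A :=
      le_antisymm ((PrimeSpectrum.asIdeal_le_asIdeal _ _).mpr hle)
        ((PrimeSpectrum.asIdeal_le_asIdeal _ _).mpr (hmax hle))
    by_contra hne
    have h1 : Nontrivial (LocalizedModule p.asIdeal.primeCompl
        (Dual.inD A (A ⧸ p.asIdeal) ⟶ ω⟦-δ p⟧)) := (hδ1 p (-δ p)).mpr rfl
    haveI h2 : Subsingleton (Dual.inD A (A ⧸ p.asIdeal) ⟶ ω⟦-δ p⟧) :=
      normalized_quot ω hn _ hpm (-δ p) (fun h => hne (by
        rw [Nat.cast_zero]
        omega))
    have h3 : Subsingleton (LocalizedModule p.asIdeal.primeCompl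
        (Dual.inD A (A ⧸ p.asIdeal) ⟶ ω⟦-δ p⟧)) :=
      LocalizedModule.subsingleton_iff.mpr (fun m =>
        ⟨1, Submonoid.one_mem _, Subsingleton.elim _ _⟩)
    exact not_nontrivial_iff_subsingleton.mpr h3 h1
  | succ d ih =>
    intro p hp
    have hp' : Order.coheight p = (d : ℕ∞) + 1 := by
      rw [hp, Nat.cast_succ]
    obtain ⟨_, ⟨y, hy, hyd⟩, hall⟩ := Order.coheight_eq_coe_add_one_iff.mp hp'
    have hcov : p ⋖ y := by
      refine ⟨hy, fun c hpc hcy => ?_⟩
      have h1 : Order.coheight y + 1 ≤ Order.coheight c := Order.coheight_add_one_le hcy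
      have h2 : Order.coheight c ≤ d := hall c hpc
      rw [hyd] at h1
      exact lt_irrefl _ ((ENat.add_one_le_iff (ENat.natCast_ne_top d)).mp (h1.trans h2))
    rw [hδ2 p y hcov, ih y hyd]
    push_cast
    ring

/-- **The cohomology of a normalized dualizing complex at a minimal prime.** -/
theorem nontrivial_localized_HD_iff (ω : Dual.D A) (hω : Dual.IsDualizing A ω)
    (hn : Dual.IsNormalized A ω) (p : Ideal A) [hp' : p.IsPrime] (hp : p ∈ minimalPrimes A)
    (e : ℕ) (he : ringKrullDim (A ⧸ p) = e) (i : ℤ) :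
    Nontrivial (LocalizedModule p.primeCompl (Dual.HD A ω i)) ↔ i = -(e : ℤ) := by
  obtain ⟨δ, hδ1, hδ2⟩ := exists_dimension_function ω hω
  have hco : Order.coheight (⟨p, hp'⟩ : PrimeSpectrum A) = e :=
    coheight_eq_of_ringKrullDim_quotient ⟨p, hp'⟩ e he
  have hδP : δ ⟨p, hp'⟩ = e := delta_eq_coheight ω hn δ hδ1 hδ2 e ⟨p, hp'⟩ hco
  obtain ⟨a, b, hab⟩ := hω.finite_injective_dimension
  obtain ⟨hGE, _⟩ := bounds_of_hinj ω a b hab
  haveI := hGE
  have hn1 : ∀ j : ℤ, j ≠ -(e : ℤ) → Subsingleton (Dual.inD (Localization.AtPrime p)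
      (Localization.AtPrime p ⧸ maximalIdeal (Localization.AtPrime p)) ⟶
        ((bcD A (Localization.AtPrime p)).obj ω)⟦j⟧) := fun j hj =>
    (loc_iff_of_under p.primeCompl (Localization.AtPrime p) ω a
      (maximalIdeal (Localization.AtPrime p)) p Localization.AtPrime.under_maximalIdeal j).mp
      (not_nontrivial_iff_subsingleton.mp (fun h => hj (by
        rw [← hδP]
        exact (hδ1 ⟨p, hp'⟩ j).mp h)))
  exact HD_localized_minimalPrime_iff ω hω p hp (-(e : ℤ)) hn1 i

end Local

end Groth.Agent.Helper6.LD
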