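import Mathlib
import Groth.Prelude.Def_DRing4
import Groth.Agent.Helper6.LD7

/-!
# A Noetherian ring with a dualizing complex has finite Krull dimension
-/

set_option autoImplicit false
set_option linter.style.haveILetI false
set_option linter.unusedSectionVars false

universe u
open CategoryTheory CategoryTheory.Limits Pretriangulated DerivedCategory TensorProduct
attribute [local instance] HasDerivedCategory.standard

namespace Groth.Agent.Helper6.LD
open Groth.Agent.Helper3.DRingLib Groth.Agent.Helper6.DK Groth.Agent.Helper6.LocExt IsLocalRing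

variable {A : Type u} [CommRing A] [IsNoetherianRing A]

lemma wellFoundedGT_primeSpectrum : WellFoundedGT (PrimeSpectrum A) :=
  StrictMono.wellFoundedGT (f := fun p : PrimeSpectrum A => p.asIdeal)
    (fun p q h => (PrimeSpectrum.asIdeal_lt_asIdeal p q).mpr h)

/-- a function on the spectrum dropping by one along covers is strictly antitone -/
theorem strictAnti_of_covBy (δ : PrimeSpectrum A → ℤ)
    (hδ2 : ∀ p q : PrimeSpectrum A, p ⋖ q → δ p = δ q + 1) :
    ∀ (h : ℕ) (q : PrimeSpectrum A), Order.height q = h →
      ∀ p : PrimeSpectrum A, p < q → δ q + 1 ≤ δ p := by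
  haveI := wellFoundedGT_primeSpectrum (A := A)
  intro h
  induction h using Nat.strong_induction_on with
  | _ h ih =>
    intro q hq p hpq
    obtain ⟨c, hpc, hcq⟩ := exists_le_covBy_of_lt hpq
    have h1 : δ c = δ q + 1 := hδ2 c q hcq
    rcases eq_or_lt_of_le hpc with rfl | hlt
    · omega
    · have h2 : Order.height c + 1 ≤ Order.height q := Order.height_add_one_le hcq.lt
      rw [hq] at h2
      have h3 : Order.height c ≠ ⊤ := by
        intro htop
        rw [htop] at h2
        exact absurd h2 (by simp)
      obtain ⟨h', hh'⟩ := ENat.ne_top_iff_exists.mp h3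
      rw [← hh'] at h2
      have h4 : h' < h := by
        have := (ENat.add_one_le_iff (ENat.natCast_ne_top h')).mp h2
        exact_mod_cast this
      have h5 := ih h' h4 c hh'.symm p hlt
      omega

lemma strictMono_fin_le (n : ℕ) (f : Fin (n + 1) → ℤ) (hf : StrictMono f) :
    ∀ (i : ℕ) (hi : i < n + 1), f 0 + i ≤ f ⟨i, hi⟩ := by
  intro i
  induction i with
  | zero =>
    intro hi
    simp
  | succ i ih =>
    intro hi
    have h1 := ih (by omega)
    have h2 : f ⟨i, by omega⟩ < f ⟨i + 1, hi⟩ := hf (by simp [Fin.lt_def])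
    push_cast
    omega

/-- **A Noetherian ring with a dualizing complex has finite Krull dimension.** -/
theorem ringKrullDim_lt_top_of_dualizing (ω : Dual.D A) (hω : Dual.IsDualizing A ω) :
    ringKrullDim A < ⊤ := by
  obtain ⟨δ, hδ1, hδ2⟩ := exists_dimension_function ω hω
  obtain ⟨a, b, hab⟩ := hω.finite_injective_dimension
  have hbd : ∀ p : PrimeSpectrum A, a ≤ -δ p ∧ -δ p ≤ b := by
    intro p
    by_contra hcon
    have h1 : Nontrivial (LocalizedModule p.asIdeal.primeCompl
        (Dual.inD A (A ⧸ p.asIdeal) ⟶ ω⟦-δ p⟧)) := (hδ1 p (-δ p)).mpr rfl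
    haveI h2 : Subsingleton (Dual.inD A (A ⧸ p.asIdeal) ⟶ ω⟦-δ p⟧) :=
      hab (A ⧸ p.asIdeal) (-δ p) (by omega)
    have h3 : Subsingleton (LocalizedModule p.asIdeal.primeCompl
        (Dual.inD A (A ⧸ p.asIdeal) ⟶ ω⟦-δ p⟧)) :=
      LocalizedModule.subsingleton_iff.mpr (fun m =>
        ⟨1, Submonoid.one_mem _, Subsingleton.elim _ _⟩)
    exact not_nontrivial_iff_subsingleton.mpr h3 h1
  have hanti : ∀ p q : PrimeSpectrum A, p < q → δ q + 1 ≤ δ p := by
    intro p q hpq
    have hfin : Order.height q ≠ ⊤ := by
      rw [← PrimeSpectrum.height_eq_orderHeight]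
      exact (Ideal.height_lt_top q.isPrime.ne_top).ne
    obtain ⟨h, hh⟩ := ENat.ne_top_iff_exists.mp hfin
    exact strictAnti_of_covBy δ hδ2 h q hh.symm p hpq
  have hlen : ∀ s : LTSeries (PrimeSpectrum A), (s.length : ℤ) ≤ b - a := by
    intro s
    have hf : StrictMono (fun i : Fin (s.length + 1) => -δ (s i)) := by
      intro i j hij
      have := hanti (s i) (s j) (s.strictMono hij)
      show -δ (s i) < -δ (s j)
      omega
    have h1 := strictMono_fin_le s.length _ hf s.length (by omega)
    have h2 := (hbd (s 0)).1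
    have h3 := (hbd (s ⟨s.length, by omega⟩)).2
    simp only at h1
    omega
  have hle : ringKrullDim A ≤ ((b - a).toNat : WithBot ℕ∞) := by
    unfold ringKrullDim Order.krullDim
    refine iSup_le (fun s => ?_)
    have := hlen s
    have h4 : s.length ≤ (b - a).toNat := by omega
    exact_mod_cast h4
  exact lt_of_le_of_lt hle (WithBot.coe_lt_coe.mpr (ENat.natCast_lt_top _))

end Groth.Agent.Helper6.LD
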