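import Mathlib
import Groth.Prelude.Def_DRing4
import Groth.Agent.Helper6.LD8

/-!
# Vanishing range of `Ext^i(M, ω)` for a normalized dualizing complex
-/

set_option autoImplicit false
set_option linter.style.haveILetI false
set_option linter.unusedSectionVars false

universe u
open CategoryTheory CategoryTheory.Limits Pretriangulated DerivedCategory TensorProduct
attribute [local instance] HasDerivedCategory.standard

namespace Groth.Agent.Helper6.LD
open Groth.Agent.Helper3.DRingLib Groth.Agent.Helper6.DK Groth.Agent.Helper6.LocExt IsLocalRing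

variable {A : Type u} [CommRing A]

section devissage

variable (Y : Dual.D A) (P : ModuleCat.{u} A → Prop)
  (hiso : ∀ {M N : ModuleCat.{u} A}, (M ≅ N) → P M → P N) (G : ℤ → Prop)
  (hP : ∀ M : ModuleCat.{u} A, P M → ∀ i : ℤ, G i →
    Subsingleton ((DerivedCategory.singleFunctor (ModuleCat.{u} A) 0).obj M ⟶ Y⟦i⟧))

include hP in
lemma hom_vanish_single' (Z : Dual.D A) (c : ℤ) [Z.IsGE c] [Z.IsLE c]
    (hZ : P ((DerivedCategory.homologyFunctor (ModuleCat.{u} A) c).obj Z)) (n : ℤ)
    (hn : G (n + c)) : Subsingleton (Z ⟶ Y⟦n⟧) := by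
  obtain ⟨e⟩ := exists_iso_single_HD Z c
  haveI : Subsingleton (Dual.inD A (Dual.HD A Z c) ⟶ Y⟦n + c⟧) := hP _ hZ (n + c) hn
  exact ((Linear.homCongr A e (Iso.refl (Y⟦n⟧))).toEquiv.trans
    (shiftHomEquiv (Dual.inD A (Dual.HD A Z c)) Y (-c) c n (n + c) (by omega)
      rfl).toEquiv).subsingleton

include hiso hP in
/-- **Dévissage for vanishing of `Hom(Z, Y[n])`**, with an arbitrary set `G` of degrees in which
the `Ext` groups of the cohomology modules vanish. -/
theorem hom_vanish_of_devissage' (N : ℕ) :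
    ∀ (Z : Dual.D A) (c₀ : ℤ) [Z.IsGE c₀] [Z.IsLE (c₀ + N)],
      (∀ i : ℤ, P ((DerivedCategory.homologyFunctor (ModuleCat.{u} A) i).obj Z)) →
      ∀ n : ℤ, (∀ c : ℤ, c₀ ≤ c → c ≤ c₀ + N → G (n + c)) → Subsingleton (Z ⟶ Y⟦n⟧) := by
  induction N with
  | zero =>
    intro Z c₀ _ _ h n hn
    have : Z.IsLE c₀ := by simpa using (inferInstance : Z.IsLE (c₀ + ((0 : ℕ) : ℤ)))
    exact hom_vanish_single' Y P G hP Z c₀ (h c₀) n (hn c₀ le_rfl (by simp))
  | succ N ih =>
    intro Z c₀ _ _ h n hn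
    obtain ⟨X', Y', f, g, δ, hT, i1, i2, i3, i4, hf, hg⟩ :=
      exists_top_truncation Z c₀ (c₀ + ((N + 1 : ℕ) : ℤ))
    haveI := i1
    haveI := i3
    haveI := i4
    haveI := hg
    haveI i2' : X'.IsLE (c₀ + (N : ℤ)) := by
      have : c₀ + ((N + 1 : ℕ) : ℤ) - 1 = c₀ + (N : ℤ) := by push_cast; ring
      rw [← this]; exact i2
    have hPX : ∀ i : ℤ, P ((homologyFunctor (ModuleCat.{u} A) i).obj X') := by
      intro i
      by_cases hi : i ≤ c₀ + ((N + 1 : ℕ) : ℤ) - 1
      · haveI := hf i hi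
        exact hiso (asIso ((homologyFunctor (ModuleCat.{u} A) i).map f)).symm (h i)
      · have hz : IsZero ((homologyFunctor (ModuleCat.{u} A) i).obj X') :=
          X'.isZero_of_isLE (c₀ + (N : ℤ)) i (by push_cast at hi; omega)
        have hz' : IsZero ((homologyFunctor (ModuleCat.{u} A) (c₀ - 1)).obj Z) :=
          Z.isZero_of_isGE c₀ (c₀ - 1) (by omega)
        exact hiso (hz'.iso hz) (h (c₀ - 1))
    have hPY : P ((homologyFunctor (ModuleCat.{u} A) (c₀ + ((N + 1 : ℕ) : ℤ))).obj Y') :=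
      hiso (asIso ((homologyFunctor (ModuleCat.{u} A) (c₀ + ((N + 1 : ℕ) : ℤ))).map g))
        (h _)
    have hX0 : Subsingleton (X' ⟶ Y⟦n⟧) :=
      ih X' c₀ hPX n (fun c h1 h2 => hn c h1 (by push_cast; omega))
    have hY0 : Subsingleton (Y' ⟶ Y⟦n⟧) :=
      hom_vanish_single' Y P G hP Y' (c₀ + ((N + 1 : ℕ) : ℤ)) hPY n
        (hn _ (by omega) le_rfl)
    refine subsingleton_of_forall_eq 0 (fun φ => ?_)
    have h1 : f ≫ φ = 0 := Subsingleton.elim _ _
    obtain ⟨ψ, hψ⟩ := Triangle.yoneda_exact₂ _ hT φ h1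
    have h2 : ψ = 0 := @Subsingleton.elim _ hY0 _ _
    rw [hψ, h2]
    exact comp_zero

end devissage

section General

variable [IsNoetherianRing A]

lemma isZero_inD_of_subsingleton' (N : Type u) [AddCommGroup N] [Module A N] [Subsingleton N] :
    IsZero (Dual.inD A N) :=
  Functor.map_isZero _ (ModuleCat.isZero_of_subsingleton _)

lemma subsingleton_of_equiv' (Y : Dual.D A) {N N' : Type u} [AddCommGroup N] [Module A N]
    [AddCommGroup N'] [Module A N'] (e : N ≃ₗ[A] N') (h : Subsingleton (Dual.inD A N' ⟶ Y)) :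
    Subsingleton (Dual.inD A N ⟶ Y) :=
  (Linear.homCongr A ((DerivedCategory.singleFunctor (ModuleCat.{u} A) 0).mapIso
    e.toModuleIso) (Iso.refl Y)).toEquiv.subsingleton

/-- half-exactness of `Hom(-, Y)` -/
lemma subsingleton_of_exact (Y : Dual.D A) {N₁ N₂ N₃ : Type u} [AddCommGroup N₁] [Module A N₁]
    [AddCommGroup N₂] [Module A N₂] [AddCommGroup N₃] [Module A N₃]
    (f : N₁ →ₗ[A] N₂) (g : N₂ →ₗ[A] N₃) (hf : Function.Injective f)
    (hg : Function.Surjective g) (hex : Function.Exact f g)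
    (h1 : Subsingleton (Dual.inD A N₁ ⟶ Y)) (h3 : Subsingleton (Dual.inD A N₃ ⟶ Y)) :
    Subsingleton (Dual.inD A N₂ ⟶ Y) := by
  refine subsingleton_of_forall_eq 0 (fun x => ?_)
  obtain ⟨z, hz⟩ := Tmap_exact Y f g hf hg hex x (Subsingleton.elim _ _)
  rw [← hz, Subsingleton.elim z 0, map_zero]

/-- dévissage of a finite module over a Noetherian ring into quotients by primes containing
the annihilator -/
theorem vanish_of_primes (Y : Dual.D A) (M : Type u) [AddCommGroup M] [Module A M]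
    [hM : Module.Finite A M]
    (h : ∀ q : PrimeSpectrum A, Module.annihilator A M ≤ q.asIdeal →
      Subsingleton (Dual.inD A (A ⧸ q.asIdeal) ⟶ Y)) :
    Subsingleton (Dual.inD A M ⟶ Y) := by
  revert h
  induction hM using IsNoetherianRing.induction_on_isQuotientEquivQuotientPrime A with
  | subsingleton N =>
    intro _
    exact ⟨fun f g => (isZero_inD_of_subsingleton' N).eq_of_src f g⟩
  | quotient N p e =>
    intro h
    have hp : Module.annihilator A N ≤ p.asIdeal := by
      rw [e.annihilator_eq, Ideal.annihilator_quotient]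
    exact subsingleton_of_equiv' Y e (h p hp)
  | exact N₁ N₂ N₃ f g hf hg hfg h₁ h₃ =>
    intro h
    have a1 : Module.annihilator A N₂ ≤ Module.annihilator A N₁ :=
      LinearMap.annihilator_le_of_injective f hf
    have a3 : Module.annihilator A N₂ ≤ Module.annihilator A N₃ :=
      LinearMap.annihilator_le_of_surjective g hg
    exact subsingleton_of_exact Y f g hf hg hfg (h₁ (fun q hq => h q (a1.trans hq)))
      (h₃ (fun q hq => h q (a3.trans hq)))

end General

section Vanish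

variable [IsNoetherianRing A] [IsLocalRing A]

/-- Nakayama step: `Ext^i(A/J, ω)` vanishes if `Ext^{i+1}(A/(J + x), ω)` does -/
theorem ext_quot_vanish_of_succ (ω : Dual.D A) (hω : Dual.IsDualizing A ω)
    (J : Ideal A) [hJp : J.IsPrime] (x : A) (hxm : x ∈ maximalIdeal A) (hxJ : x ∉ J) (i : ℤ)
    (hV' : Subsingleton (Dual.inD A (A ⧸ (J ⊔ Ideal.span {x})) ⟶ ω⟦i + 1⟧)) :
    Subsingleton (Dual.inD A (A ⧸ J) ⟶ ω⟦i⟧) := by
  have hJI : J ≤ J ⊔ Ideal.span {x} := le_sup_left
  have hxI : x ∈ J ⊔ Ideal.span {x} :=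
    Ideal.mem_sup_right (Ideal.subset_span (Set.mem_singleton x))
  let ι : (A ⧸ J) →ₗ[A] (A ⧸ J) := x • LinearMap.id
  let π : (A ⧸ J) →ₗ[A] (A ⧸ (J ⊔ Ideal.span {x})) := (Ideal.Quotient.factorₐ A hJI).toLinearMap
  have hπmk : ∀ a : A, π (Ideal.Quotient.mk J a) = Ideal.Quotient.mk _ a := fun a => rfl
  have hsm : ∀ a : A, x • Ideal.Quotient.mk J a = Ideal.Quotient.mk J (x * a) := fun a => rfl
  have hιa : ∀ y : A ⧸ J, ι y = x • y := fun y => rfl
  have hι : Function.Injective ι := by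
    refine (injective_iff_map_eq_zero ι).mpr (fun y hy => ?_)
    have hy' : Ideal.Quotient.mk J x * y = 0 := by
      rw [← Ideal.Quotient.algebraMap_eq, ← Algebra.smul_def]
      exact hy
    rcases mul_eq_zero.mp hy' with h | h
    · exact absurd (Ideal.Quotient.eq_zero_iff_mem.mp h) hxJ
    · exact h
  have hπ : Function.Surjective π := by
    intro z
    obtain ⟨a, rfl⟩ := Ideal.Quotient.mk_surjective z
    exact ⟨Ideal.Quotient.mk J a, hπmk a⟩
  have hex : Function.Exact ι π := by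
    intro y
    obtain ⟨a, rfl⟩ := Ideal.Quotient.mk_surjective y
    constructor
    · intro hy
      have ha : a ∈ J ⊔ Ideal.span {x} :=
        Ideal.Quotient.eq_zero_iff_mem.mp ((hπmk a).symm.trans hy)
      rw [sup_comm, Ideal.mem_span_singleton_sup] at ha
      obtain ⟨c, b, hb, hab⟩ := ha
      refine ⟨Ideal.Quotient.mk J c, ?_⟩
      rw [hιa, hsm, ← hab, Ideal.Quotient.eq]
      have h1 : x * c - (c * x + b) = -b := by ring
      rw [h1]
      exact J.neg_mem hb
    · rintro ⟨z, hz⟩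
      obtain ⟨c, rfl⟩ := Ideal.Quotient.mk_surjective z
      have hz' : Ideal.Quotient.mk J (x * c) = Ideal.Quotient.mk J a :=
        ((hsm c).symm.trans (hιa _).symm).trans hz
      rw [← hz', hπmk]
      exact Ideal.Quotient.eq_zero_iff_mem.mpr (Ideal.mul_mem_right c _ hxI)
  have hV : Subsingleton (Dual.inD A (A ⧸ (J ⊔ Ideal.span {x})) ⟶ (ω⟦i⟧)⟦(1 : ℤ)⟧) := by
    haveI := hV'
    exact (homShiftShiftEquiv (Dual.inD A (A ⧸ (J ⊔ Ideal.span {x}))) ω i 1 (i + 1)
      rfl).toEquiv.subsingleton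
  have hsurj := Tmap_surjective' (ω⟦i⟧) ι π hι hπ hex hV
  haveI := finite_ext_dualizing ω hω (A ⧸ J) i
  refine subsingleton_of_smul_surjective _ x hxm (fun v => ?_)
  obtain ⟨w, hw⟩ := hsurj v
  refine ⟨w, ?_⟩
  rw [← hw]
  show x • w = Tmap (ω⟦i⟧) (x • LinearMap.id) w
  rw [Tmap_smul, Tmap_id]
  rfl

/-- `Ext^i(A/q, ω)` vanishes outside `[-dim A/q, 0]` -/
theorem ext_quot_prime_vanish (ω : Dual.D A) (hω : Dual.IsDualizing A ω)
    (hn : Dual.IsNormalized A ω) :
    ∀ (d : ℕ) (q : PrimeSpectrum A), Order.coheight q = d → ∀ i : ℤ,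
      (0 < i ∨ i < -(d : ℤ)) → Subsingleton (Dual.inD A (A ⧸ q.asIdeal) ⟶ ω⟦i⟧) := by
  intro d
  induction d using Nat.strong_induction_on with
  | _ d ih =>
    intro q hq i hi
    by_cases hqm : q.asIdeal = maximalIdeal A
    · exact normalized_quot ω hn _ hqm i (by rcases hi with h | h <;> omega)
    · have hJle : q.asIdeal ≤ maximalIdeal A := IsLocalRing.le_maximalIdeal q.isPrime.ne_top
      obtain ⟨x, hxm, hxq⟩ := SetLike.exists_of_lt (lt_of_le_of_ne hJle hqm)
      refine ext_quot_vanish_of_succ ω hω q.asIdeal x hxm hxq i ?_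
      apply vanish_of_primes
      intro q' hq'
      rw [Ideal.annihilator_quotient] at hq'
      have hlt : q < q' := by
        rw [← PrimeSpectrum.asIdeal_lt_asIdeal]
        refine lt_of_le_of_ne (le_sup_left.trans hq') (fun h => hxq ?_)
        rw [h]
        exact hq' (Ideal.mem_sup_right (Ideal.subset_span (Set.mem_singleton x)))
      have h1 : Order.coheight q' + 1 ≤ Order.coheight q := Order.coheight_add_one_le hlt
      rw [hq] at h1
      have h3 : Order.coheight q' ≠ ⊤ := by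
        intro htop
        rw [htop] at h1
        exact absurd h1 (by simp)
      obtain ⟨d', hd'⟩ := ENat.ne_top_iff_exists.mp h3
      rw [← hd'] at h1
      have h4 : d' < d := by
        have := (ENat.add_one_le_iff (ENat.natCast_ne_top d')).mp h1
        exact_mod_cast this
      refine ih d' h4 q' hd'.symm (i + 1) ?_
      rcases hi with h | h
      · left; omega
      · right; omega

/-- `Ext^i(M, ω) = 0` for `i > 0` -/
theorem ext_vanish_pos (ω : Dual.D A) (hω : Dual.IsDualizing A ω) (hn : Dual.IsNormalized A ω)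
    (M : Type u) [AddCommGroup M] [Module A M] [Module.Finite A M] (i : ℤ) (hi : 0 < i) :
    Subsingleton (Dual.inD A M ⟶ ω⟦i⟧) := by
  apply vanish_of_primes
  intro q _
  have h3 : Order.coheight q ≠ ⊤ := (Order.coheight_lt_top q).ne
  obtain ⟨d', hd'⟩ := ENat.ne_top_iff_exists.mp h3
  exact ext_quot_prime_vanish ω hω hn d' q hd'.symm i (Or.inl hi)

lemma coheight_le_supportDim (M : Type u) [AddCommGroup M] [Module A M] [Module.Finite A M]
    (q : PrimeSpectrum A) (hq : Module.annihilator A M ≤ q.asIdeal) :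
    (Order.coheight q : WithBot ℕ∞) ≤ Module.supportDim A M := by
  rw [Module.supportDim_eq_ringKrullDim_quotient_annihilator, ringKrullDim_quotient,
    Order.coheight_eq_krullDim_Ici]
  exact Order.krullDim_le_of_strictMono
    (fun c : Set.Ici q => (⟨c.1, (PrimeSpectrum.mem_zeroLocus _ _).mpr (fun a ha =>
      (PrimeSpectrum.asIdeal_le_asIdeal q c.1).mpr c.2 (hq ha))⟩ :
        PrimeSpectrum.zeroLocus (Module.annihilator A M : Set A)))
    (fun _ _ h => h)

/-- `Ext^i(M, ω) = 0` for `i < -dim M` -/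
theorem ext_vanish_neg (ω : Dual.D A) (hω : Dual.IsDualizing A ω) (hn : Dual.IsNormalized A ω)
    (M : Type u) [AddCommGroup M] [Module A M] [Module.Finite A M] (d : ℕ)
    (hd : Module.supportDim A M ≤ d) (i : ℤ) (hi : i < -(d : ℤ)) :
    Subsingleton (Dual.inD A M ⟶ ω⟦i⟧) := by
  apply vanish_of_primes
  intro q hq
  have h2 : (Order.coheight q : WithBot ℕ∞) ≤ (d : WithBot ℕ∞) :=
    (coheight_le_supportDim M q hq).trans hd
  have h2' : Order.coheight q ≤ (d : ℕ∞) := by exact_mod_cast h2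
  have h3 : Order.coheight q ≠ ⊤ := ne_top_of_le_ne_top (ENat.natCast_ne_top d) h2'
  obtain ⟨d', hd'⟩ := ENat.ne_top_iff_exists.mp h3
  have h4 : d' ≤ d := by
    rw [← hd'] at h2'
    exact_mod_cast h2'
  exact ext_quot_prime_vanish ω hω hn d' q hd'.symm i (Or.inr (by omega))

/-- **`Hom(N, ω[i]) = 0` for `i > 0` and `N` with finite cohomology in nonnegative degrees.** -/
theorem hom_shift_vanish_of_cohomology_nonneg (ω : Dual.D A) (hω : Dual.IsDualizing A ω)
    (hn : Dual.IsNormalized A ω) (N : Dual.D A)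
    (hfin : ∀ i : ℤ, Module.Finite A (Dual.HD A N i))
    (b : ℤ) (hb : ∀ i : ℤ, b < i → Subsingleton (Dual.HD A N i))
    (hge : ∀ i : ℤ, i < 0 → Subsingleton (Dual.HD A N i))
    (i : ℤ) (hi : 0 < i) : Subsingleton (N ⟶ ω⟦i⟧) := by
  haveI : N.IsGE 0 := isGE_of_HD N 0 hge
  haveI : N.IsLE (0 + (b.toNat : ℤ)) := isLE_of_HD N _ (fun j hj => hb j (by omega))
  let P : ModuleCat.{u} A → Prop := fun M => Module.Finite A M
  have hPiso : ∀ {M N : ModuleCat.{u} A}, (M ≅ N) → P M → P N := fun {M N} e hM => by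
    haveI : Module.Finite A M := hM
    exact Module.Finite.equiv e.toLinearEquiv
  have hPvan : ∀ M : ModuleCat.{u} A, P M → ∀ j : ℤ, 0 < j →
      Subsingleton ((DerivedCategory.singleFunctor (ModuleCat.{u} A) 0).obj M ⟶ ω⟦j⟧) :=
    fun M hM j hj => by
      haveI : Module.Finite A M := hM
      exact ext_vanish_pos ω hω hn M j hj
  exact hom_vanish_of_devissage' ω P hPiso (fun j => 0 < j) hPvan b.toNat N 0 hfin i
    (fun c h1 _ => by
      show 0 < i + c
      omega)

end Vanish

end Groth.Agent.Helper6.LD
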