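import Mathlib
import Groth.Prelude.Def_DRing4
import Groth.Agent.Helper6.LD9

/-!
# Supports of `Ext^i(M, ω)` for a normalized dualizing complex
-/

set_option autoImplicit false
set_option linter.style.haveILetI false
set_option linter.unusedSectionVars false

universe u
open CategoryTheory CategoryTheory.Limits Pretriangulated DerivedCategory TensorProduct
attribute [local instance] HasDerivedCategory.standard

namespace Groth.Agent.Helper6.LD
open Groth.Agent.Helper3.DRingLib Groth.Agent.Helper6.DK Groth.Agent.Helper6.LocExt IsLocalRing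

variable {A : Type u} [CommRing A] [IsNoetherianRing A]

section Loc

variable (S : Submonoid A) (B : Type u) [CommRing B] [Algebra A B] [IsLocalization S B]
  [Module.Flat A B]

/-- localized `Ext` of a finite module is `Ext` over the localization -/
lemma subsingleton_localized_ext_iff' (M : Type u) [AddCommGroup M] [Module A M]
    [Module.Finite A M] (Y : Dual.D A) (a : ℤ) [Y.IsGE a] (i : ℤ) :
    Subsingleton (LocalizedModule S (Dual.inD A M ⟶ Y⟦i⟧)) ↔
      Subsingleton (Dual.inD B (B ⊗[A] M) ⟶ ((bcD A B).obj Y)⟦i⟧) := by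
  haveI : (Y⟦i⟧).IsGE (a - i) := TStructure.t.isGE_shift Y a i (a - i) (by omega)
  have hs := locSurj_of_pc S B (Dual.inD A M) (Y⟦i⟧) (fun m => pc_inD _ m) (a - i)
  have hi := locInj_of_pc S B (Dual.inD A M) (Y⟦i⟧) (fun m => pc_inD _ m) (a - i)
  exact (subsingleton_localized_hom_iff S B _ _ hs hi).trans
    (Iso.homCongr (bcDInD B M) (((bcD A B).commShiftIso i).app Y)).subsingleton_congr

end Loc

section Local

variable [IsLocalRing A]

/-- over a local ring with normalized dualizing complex `ω`, the complex `ω_p[-dim A/p]` is a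
normalized dualizing complex over `A_p` -/
theorem localized_normalized (ω : Dual.D A) (hω : Dual.IsDualizing A ω)
    (hn : Dual.IsNormalized A ω) (p : PrimeSpectrum A) (dp : ℕ) (hdp : Order.coheight p = dp) :
    Dual.IsDualizing (Localization.AtPrime p.asIdeal)
        (((bcD A (Localization.AtPrime p.asIdeal)).obj ω)⟦-(dp : ℤ)⟧) ∧
      Dual.IsNormalized (Localization.AtPrime p.asIdeal)
        (((bcD A (Localization.AtPrime p.asIdeal)).obj ω)⟦-(dp : ℤ)⟧) := by
  obtain ⟨δ, hδ1, hδ2⟩ := exists_dimension_function ω hω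
  have hδP : δ p = dp := delta_eq_coheight ω hn δ hδ1 hδ2 dp p hdp
  obtain ⟨a, b, hab⟩ := hω.finite_injective_dimension
  obtain ⟨hGE, _⟩ := bounds_of_hinj ω a b hab
  haveI := hGE
  have hn1 : ∀ j : ℤ, j ≠ -(dp : ℤ) → Subsingleton (Dual.inD (Localization.AtPrime p.asIdeal)
      (Localization.AtPrime p.asIdeal ⧸ maximalIdeal (Localization.AtPrime p.asIdeal)) ⟶
        ((bcD A (Localization.AtPrime p.asIdeal)).obj ω)⟦j⟧) := fun j hj =>
    (loc_iff_of_under p.asIdeal.primeCompl (Localization.AtPrime p.asIdeal) ω a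
      (maximalIdeal (Localization.AtPrime p.asIdeal)) p.asIdeal
      Localization.AtPrime.under_maximalIdeal j).mp
      (not_nontrivial_iff_subsingleton.mp (fun h => hj (by
        rw [← hδP]
        exact (hδ1 p j).mp h)))
  have hωB := isDualizing_bcD p.asIdeal.primeCompl (Localization.AtPrime p.asIdeal) ω hω
  refine ⟨isDualizing_shift _ hωB _, fun i hi => ?_⟩
  haveI : Subsingleton (Dual.inD (Localization.AtPrime p.asIdeal)
      (ResidueField (Localization.AtPrime p.asIdeal)) ⟶
        ((bcD A (Localization.AtPrime p.asIdeal)).obj ω)⟦-(dp : ℤ) + i⟧) :=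
    hn1 (-(dp : ℤ) + i) (by omega)
  exact (homShiftShiftEquiv (Dual.inD (Localization.AtPrime p.asIdeal)
    (ResidueField (Localization.AtPrime p.asIdeal))) _ (-(dp : ℤ)) i (-(dp : ℤ) + i)
    rfl).toEquiv.subsingleton

/-- a prime in the support of `Ext^i(M, ω)` has `dim A/p ≤ -i` -/
theorem coheight_le_of_mem_support_ext (ω : Dual.D A) (hω : Dual.IsDualizing A ω)
    (hn : Dual.IsNormalized A ω) (M : Type u) [AddCommGroup M] [Module A M]
    [Module.Finite A M] (i : ℤ) (p : PrimeSpectrum A)
    (hp : p ∈ Module.support A (Dual.inD A M ⟶ ω⟦i⟧)) (dp : ℕ)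
    (hdp : Order.coheight p = dp) : (dp : ℤ) ≤ -i := by
  by_contra hcon
  obtain ⟨hd', hn'⟩ := localized_normalized ω hω hn p dp hdp
  haveI : IsNoetherianRing (Localization.AtPrime p.asIdeal) := hd'.isNoetherianRing
  obtain ⟨a, b, hab⟩ := hω.finite_injective_dimension
  obtain ⟨hGE, _⟩ := bounds_of_hinj ω a b hab
  haveI := hGE
  haveI h1 : Subsingleton (Dual.inD (Localization.AtPrime p.asIdeal)
      (Localization.AtPrime p.asIdeal ⊗[A] M) ⟶
        (((bcD A (Localization.AtPrime p.asIdeal)).obj ω)⟦-(dp : ℤ)⟧)⟦i + dp⟧) :=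
    ext_vanish_pos _ hd' hn' (Localization.AtPrime p.asIdeal ⊗[A] M) (i + dp) (by omega)
  have h2 : Subsingleton (Dual.inD (Localization.AtPrime p.asIdeal)
      (Localization.AtPrime p.asIdeal ⊗[A] M) ⟶
        ((bcD A (Localization.AtPrime p.asIdeal)).obj ω)⟦i⟧) :=
    (homShiftShiftEquiv (Dual.inD (Localization.AtPrime p.asIdeal)
      (Localization.AtPrime p.asIdeal ⊗[A] M)) ((bcD A (Localization.AtPrime p.asIdeal)).obj ω)
      (-(dp : ℤ)) (i + dp) i (by omega)).symm.toEquiv.subsingleton
  have h3 := (subsingleton_localized_ext_iff' p.asIdeal.primeCompl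
    (Localization.AtPrime p.asIdeal) M ω a i).mpr h2
  exact not_nontrivial_iff_subsingleton.mpr h3 (Module.mem_support_iff.mp hp)

/-- **Vanishing range and support of `Ext^i(M, ω)`.** -/
theorem ext_dualizing_vanishing_and_support (ω : Dual.D A) (hω : Dual.IsDualizing A ω)
    (hn : Dual.IsNormalized A ω) (M : Type u) [AddCommGroup M] [Module A M]
    [Module.Finite A M] (d : ℕ) (hd : Module.supportDim A M = d) (i : ℤ) :
    (Nontrivial (Dual.inD A M ⟶ ω⟦i⟧) → (-(d : ℤ) ≤ i ∧ i ≤ 0)) ∧
      Module.supportDim A (Dual.inD A M ⟶ ω⟦i⟧) ≤ ((-i).toNat : WithBot ℕ∞) := by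
  constructor
  · intro hnt
    by_contra hcon
    have hcases : 0 < i ∨ i < -(d : ℤ) := by omega
    rcases hcases with h | h
    · haveI := ext_vanish_pos ω hω hn M i h
      exact false_of_nontrivial_of_subsingleton (Dual.inD A M ⟶ ω⟦i⟧)
    · haveI := ext_vanish_neg ω hω hn M d hd.le i h
      exact false_of_nontrivial_of_subsingleton (Dual.inD A M ⟶ ω⟦i⟧)
  · unfold Module.supportDim Order.krullDim
    refine iSup_le (fun s => ?_)
    have hmem : (s.head).1 ∈ Module.support A (Dual.inD A M ⟶ ω⟦i⟧) := s.head.2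
    have h3 : Order.coheight (s.head).1 ≠ ⊤ := (Order.coheight_lt_top _).ne
    obtain ⟨dp, hdp⟩ := ENat.ne_top_iff_exists.mp h3
    have h1 := coheight_le_of_mem_support_ext ω hω hn M i _ hmem dp hdp.symm
    have h2 : (s.length : ℕ∞) ≤ Order.coheight (s.head).1 := by
      have := Order.length_le_coheight_head (p := s.map Subtype.val (fun _ _ h => h))
      rwa [LTSeries.map_length, LTSeries.head_map] at this
    rw [← hdp] at h2
    have h4 : s.length ≤ dp := by exact_mod_cast h2
    have h5 : s.length ≤ (-i).toNat := by omega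
    exact_mod_cast h5

end Local

end Groth.Agent.Helper6.LD
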