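import Mathlib
import Groth.Prelude.Def_DRing4
import Groth.Agent.Helper6.LD5
import Groth.Agent.Helper3.DRingTwoTerm2
import Groth.Agent.Helper3.DRingAway
import Groth.Agent.Helper3.DRingHLin
import Groth.Agent.Helper2.MatlisLen

/-!
# Recognizing `A[0]` in the derived category of a Noetherian local ring
-/

set_option autoImplicit false
set_option linter.style.haveILetI false
set_option linter.unusedSectionVars false

universe u
open CategoryTheory CategoryTheory.Limits Pretriangulated DerivedCategory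
attribute [local instance] HasDerivedCategory.standard

namespace Groth.Agent.Helper6.DualFun
open Groth.Agent.Helper3.DRingLib Groth.Agent.Helper6.DK Groth.Agent.Helper6.LD IsLocalRing

variable {A : Type u} [CommRing A]

section Bar

/-- `H^0(N[0]) ≅ N` -/
noncomputable def canH (N : ModuleCat.{u} A) :
    (homologyFunctor (ModuleCat.{u} A) 0).obj ((singleFunctor (ModuleCat.{u} A) 0).obj N) ≅ N :=
  (singleFunctorCompHomologyFunctorIso (ModuleCat.{u} A) 0).app N

lemma canH_naturality {N N' : ModuleCat.{u} A} (w : N ⟶ N') :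
    (homologyFunctor (ModuleCat.{u} A) 0).map ((singleFunctor (ModuleCat.{u} A) 0).map w) ≫
      (canH N').hom = (canH N).hom ≫ w :=
  (singleFunctorCompHomologyFunctorIso (ModuleCat.{u} A) 0).hom.naturality w

/-- the map induced on `H^0` by a morphism to a module placed in degree zero -/
noncomputable def bar {X : Dual.D A} {N : ModuleCat.{u} A}
    (t : X ⟶ (singleFunctor (ModuleCat.{u} A) 0).obj N) :
    (homologyFunctor (ModuleCat.{u} A) 0).obj X ⟶ N :=
  (homologyFunctor (ModuleCat.{u} A) 0).map t ≫ (canH N).hom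

lemma bar_comp {X' X : Dual.D A} {N : ModuleCat.{u} A} (φ : X' ⟶ X)
    (t : X ⟶ (singleFunctor (ModuleCat.{u} A) 0).obj N) :
    bar (φ ≫ t) = (homologyFunctor (ModuleCat.{u} A) 0).map φ ≫ bar t := by
  unfold bar
  rw [Functor.map_comp, Category.assoc]

lemma bar_zero {X : Dual.D A} {N : ModuleCat.{u} A} :
    bar (0 : X ⟶ (singleFunctor (ModuleCat.{u} A) 0).obj N) = 0 := by
  unfold bar
  rw [Functor.map_zero, zero_comp]

lemma bar_smul {X : Dual.D A} {N : ModuleCat.{u} A} (a : A)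
    (t : X ⟶ (singleFunctor (ModuleCat.{u} A) 0).obj N) : bar (a • t) = a • bar t := by
  unfold bar
  rw [homologyFunctor_map_smul, Linear.smul_comp]

/-- truncation of an object of `D^{≤ 0}` onto its `H^0` -/
lemma exists_trunc (X : Dual.D A) [X.IsLE 0] :
    ∃ (V : ModuleCat.{u} A) (g : X ⟶ (singleFunctor (ModuleCat.{u} A) 0).obj V),
      IsIso ((homologyFunctor (ModuleCat.{u} A) 0).map g) ∧
      ∀ (N : ModuleCat.{u} A) (t : X ⟶ (singleFunctor (ModuleCat.{u} A) 0).obj N),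
        ∃ t' : (singleFunctor (ModuleCat.{u} A) 0).obj V ⟶
          (singleFunctor (ModuleCat.{u} A) 0).obj N, t = g ≫ t' := by
  obtain ⟨X', Y', hX', hY', f, g₀, δ, hT⟩ := TStructure.t.exists_triangle X (-1) 0 (by omega)
  haveI iX' : X'.IsLE (-1) := ⟨hX'⟩
  haveI iY' : Y'.IsGE 0 := ⟨hY'⟩
  haveI iX'' : (Triangle.mk f g₀ δ).obj₁.IsLE (-1) := iX'
  have hg : ∀ i : ℤ, 0 ≤ i → IsIso ((homologyFunctor (ModuleCat.{u} A) i).map g₀) :=
    fun i hi => isIso_HD_mor₂ _ hT (-1) i (by omega)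
  haveI iY0 : Y'.IsLE 0 := by
    rw [DerivedCategory.isLE_iff]
    intro i hi
    haveI := hg i hi.le
    exact (X.isZero_of_isLE 0 i hi).of_iso
      (asIso ((homologyFunctor (ModuleCat.{u} A) i).map g₀)).symm
  obtain ⟨e⟩ := exists_iso_single_HD Y' 0
  let e' : Y' ≅ (singleFunctor (ModuleCat.{u} A) 0).obj (ModuleCat.of A (Dual.HD A Y' 0)) :=
    e ≪≫ (CategoryTheory.shiftFunctorZero' (Dual.D A) (-0) (by simp)).app _
  refine ⟨ModuleCat.of A (Dual.HD A Y' 0), g₀ ≫ e'.hom, ?_, ?_⟩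
  · haveI := hg 0 le_rfl
    rw [Functor.map_comp]
    infer_instance
  · intro N t
    have h0 : f ≫ t = 0 := TStructure.t.zero (f ≫ t) (-1) 0 (by omega)
    obtain ⟨t₀, ht₀⟩ := Triangle.yoneda_exact₂ _ hT t h0
    refine ⟨e'.inv ≫ t₀, ?_⟩
    rw [Category.assoc, Iso.hom_inv_id_assoc]
    exact ht₀

lemma bar_eq_zero {X : Dual.D A} [X.IsLE 0] {N : ModuleCat.{u} A}
    (t : X ⟶ (singleFunctor (ModuleCat.{u} A) 0).obj N) (h : bar t = 0) : t = 0 := by
  obtain ⟨V, g, hg, hfac⟩ := exists_trunc X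
  haveI := hg
  obtain ⟨t', rfl⟩ := hfac N t
  obtain ⟨w, rfl⟩ := (singleFunctor (ModuleCat.{u} A) 0).map_surjective t'
  have h1 : (homologyFunctor (ModuleCat.{u} A) 0).map g ≫ (canH V).hom ≫ w = 0 := by
    rw [← canH_naturality, ← Category.assoc, ← Functor.map_comp]
    exact h
  have h2 : w = 0 := by
    rw [← cancel_epi ((homologyFunctor (ModuleCat.{u} A) 0).map g ≫ (canH V).hom),
      Category.assoc, h1, comp_zero]
  rw [h2, Functor.map_zero, comp_zero]

lemma exists_bar_eq {X : Dual.D A} [X.IsLE 0] {N : ModuleCat.{u} A}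
    (w : (homologyFunctor (ModuleCat.{u} A) 0).obj X ⟶ N) :
    ∃ t : X ⟶ (singleFunctor (ModuleCat.{u} A) 0).obj N, bar t = w := by
  obtain ⟨V, g, hg, -⟩ := exists_trunc X
  haveI := hg
  refine ⟨g ≫ (singleFunctor (ModuleCat.{u} A) 0).map
    ((canH V).inv ≫ inv ((homologyFunctor (ModuleCat.{u} A) 0).map g) ≫ w), ?_⟩
  unfold bar
  rw [Functor.map_comp, Category.assoc, canH_naturality, Iso.hom_inv_id_assoc,
    IsIso.hom_inv_id_assoc]

end Bar

section Local

variable [IsLocalRing A]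

lemma exists_nonzero_functional (V : Type u) [AddCommGroup V] [Module A V]
    [Module.Finite A V] [Nontrivial V] : ∃ g : V →ₗ[A] ResidueField A, g ≠ 0 := by
  obtain ⟨N, hN⟩ : ∃ N : Submodule A V, IsCoatom N := by
    rcases eq_top_or_exists_le_coatom (⊥ : Submodule A V) with h | ⟨N, hN, -⟩
    · exact absurd h bot_ne_top
    · exact ⟨N, hN⟩
  haveI : IsSimpleModule A (V ⧸ N) := isSimpleModule_iff_isCoatom.mpr hN
  obtain ⟨e⟩ := Groth.Agent.Helper2.MatlisLen.nonempty_equiv_residueField (A := A) (V ⧸ N)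
  refine ⟨e.toLinearMap ∘ₗ N.mkQ, fun h => ?_⟩
  have hs : Function.Surjective (e.toLinearMap ∘ₗ N.mkQ) :=
    e.surjective.comp N.mkQ_surjective
  obtain ⟨v, hv⟩ := hs 1
  rw [h, LinearMap.zero_apply] at hv
  exact zero_ne_one hv

lemma exists_ne_zero_of_top (Z : Dual.D A) [Z.IsLE 0]
    [Module.Finite A (Dual.HD A Z 0)] [Nontrivial (Dual.HD A Z 0)] :
    ∃ t : Z ⟶ Dual.inD A (ResidueField A), t ≠ 0 := by
  obtain ⟨g, hg⟩ := exists_nonzero_functional (A := A) (Dual.HD A Z 0)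
  obtain ⟨t, ht⟩ := exists_bar_eq (X := Z) (N := ModuleCat.of A (ResidueField A))
    (ModuleCat.ofHom g)
  refine ⟨t, fun h => hg ?_⟩
  rw [h, bar_zero] at ht
  have h2 := congrArg ModuleCat.Hom.hom ht
  exact h2.symm

lemma exists_ne_zero_of_top_degree (Z : Dual.D A) (c : ℤ) [Z.IsLE c]
    [Module.Finite A (Dual.HD A Z c)] [Nontrivial (Dual.HD A Z c)] :
    ∃ t : Z ⟶ (Dual.inD A (ResidueField A))⟦-c⟧, t ≠ 0 := by
  haveI : (Z⟦c⟧).IsLE 0 := TStructure.t.isLE_shift Z c c 0 (by omega)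
  let e : Dual.HD A (Z⟦c⟧) 0 ≃ₗ[A] Dual.HD A Z c :=
    ((homologyShiftNatIso c 0 c (by omega)).app Z).toLinearEquiv
  haveI : Module.Finite A (Dual.HD A (Z⟦c⟧) 0) := Module.Finite.equiv e.symm
  haveI : Nontrivial (Dual.HD A (Z⟦c⟧) 0) := e.toEquiv.nontrivial
  obtain ⟨t, ht⟩ := exists_ne_zero_of_top (Z⟦c⟧)
  refine ⟨(shiftShiftNeg Z c).inv ≫ t⟦-c⟧', fun h => ht ?_⟩
  have h2 : t⟦-c⟧' = 0 := by
    rw [← cancel_epi (shiftShiftNeg Z c).inv, h, comp_zero]
  exact (shiftFunctor (Dual.D A) (-c)).map_injective (by rw [h2, Functor.map_zero])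

lemma exists_ne_zero_of_not_isZero (Z : Dual.D A) (b : ℤ) [Z.IsLE b]
    (hfin : ∀ i : ℤ, Module.Finite A (Dual.HD A Z i)) (hZ : ¬ IsZero Z) :
    ∃ (i : ℤ) (t : Z ⟶ (Dual.inD A (ResidueField A))⟦i⟧), t ≠ 0 := by
  classical
  have hex : ∃ n : ℤ, ¬ Subsingleton (Dual.HD A Z n) := by
    by_contra hcon
    push_neg at hcon
    haveI : Z.IsGE (b + 1) := isGE_of_HD Z (b + 1) (fun i _ => hcon i)
    exact hZ (TStructure.t.isZero Z b (b + 1) (by omega))
  have hbdd : ∃ B : ℤ, ∀ z : ℤ, ¬ Subsingleton (Dual.HD A Z z) → z ≤ B := ⟨b, fun z hz => by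
    by_contra hlt
    exact hz (subsingleton_HD_of_isLE Z b z (by omega))⟩
  obtain ⟨c, hc, hmax⟩ := Int.exists_greatest_of_bdd hbdd hex
  haveI : Z.IsLE c := isLE_of_HD Z c (fun i hi => by
    by_contra hns
    exact absurd (hmax i hns) (by omega))
  haveI := hfin c
  haveI : Nontrivial (Dual.HD A Z c) := not_subsingleton_iff_nontrivial.mp hc
  obtain ⟨t, ht⟩ := exists_ne_zero_of_top_degree Z c
  exact ⟨-c, t, ht⟩

lemma mem_maximalIdeal_of_smul_eq_zero (a : A) (y : ResidueField A) (hy : y ≠ 0)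
    (h : a • y = 0) : a ∈ maximalIdeal A := by
  rw [Algebra.smul_def, ResidueField.algebraMap_eq] at h
  rcases mul_eq_zero.mp h with h | h
  · exact (residue_eq_zero_iff a).mp h
  · exact absurd h hy

lemma smul_residue_eq_zero_of_mem (a : A) (ha : a ∈ maximalIdeal A) (y : ResidueField A) :
    a • y = 0 := by
  rw [Algebra.smul_def, ResidueField.algebraMap_eq, (residue_eq_zero_iff a).mpr ha, zero_mul]

lemma smul_hom_residue_eq_zero {X : Dual.D A} (a : A) (ha : a ∈ maximalIdeal A)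
    (t : X ⟶ Dual.inD A (ResidueField A)) : a • t = 0 := by
  have h1 : a • 𝟙 (ModuleCat.of A (ResidueField A)) = 0 := by
    apply ModuleCat.hom_ext
    apply LinearMap.ext
    intro y
    exact smul_residue_eq_zero_of_mem a ha y
  have h2 : a • 𝟙 (Dual.inD A (ResidueField A)) = 0 := by
    calc a • 𝟙 (Dual.inD A (ResidueField A))
        = a • (singleFunctor (ModuleCat.{u} A) 0).map (𝟙 (ModuleCat.of A (ResidueField A))) := by
          rw [CategoryTheory.Functor.map_id]
      _ = (singleFunctor (ModuleCat.{u} A) 0).map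
            (a • 𝟙 (ModuleCat.of A (ResidueField A))) := (Functor.map_smul _ _ _).symm
      _ = 0 := by rw [h1, Functor.map_zero]
  rw [← Category.comp_id t, ← Linear.comp_smul, h2, comp_zero]

lemma hom_inD_self_residue (r₀ r : Dual.inD A A ⟶ Dual.inD A (ResidueField A)) (h0 : r₀ ≠ 0) :
    ∃ a : A, r = a • r₀ := by
  obtain ⟨ρ₀, rfl⟩ := (singleFunctor (ModuleCat.{u} A) 0).map_surjective r₀
  obtain ⟨ρ, rfl⟩ := (singleFunctor (ModuleCat.{u} A) 0).map_surjective r
  have hc : ρ₀.hom (1 : A) ≠ 0 := by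
    intro hc
    apply h0
    have h2 : ρ₀ = 0 := by
      apply ModuleCat.hom_ext
      apply LinearMap.ext
      intro (x : A)
      have hx : x = x • (1 : A) := by rw [smul_eq_mul, mul_one]
      rw [hx, map_smul, hc, smul_zero]
      rfl
    rw [h2, Functor.map_zero]
  obtain ⟨a, ha⟩ := residue_surjective (ρ.hom (1 : A) / ρ₀.hom (1 : A))
  refine ⟨a, ?_⟩
  rw [← Functor.map_smul]
  congr 1
  apply ModuleCat.hom_ext
  apply LinearMap.ext
  intro (x : A)
  have hx : x = x • (1 : A) := by rw [smul_eq_mul, mul_one]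
  rw [hx, map_smul, map_smul]
  congr 1
  show ρ.hom 1 = a • ρ₀.hom 1
  rw [Algebra.smul_def, ResidueField.algebraMap_eq, ha, div_mul_cancel₀ _ hc]

lemma mem_of_smul_hom_eq_zero (r₀ : Dual.inD A A ⟶ Dual.inD A (ResidueField A)) (h0 : r₀ ≠ 0)
    (a : A) (h : a • r₀ = 0) : a ∈ maximalIdeal A := by
  obtain ⟨ρ₀, rfl⟩ := (singleFunctor (ModuleCat.{u} A) 0).map_surjective r₀
  have hne : ρ₀ ≠ 0 := fun h2 => h0 (by rw [h2, Functor.map_zero])
  obtain ⟨x, hx⟩ : ∃ x : A, ρ₀.hom x ≠ 0 := by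
    by_contra hcon
    push_neg at hcon
    exact hne (ModuleCat.hom_ext (LinearMap.ext hcon))
  have h3 : a • ρ₀ = 0 := by
    apply (singleFunctor (ModuleCat.{u} A) 0).map_injective
    rw [Functor.map_smul, h, Functor.map_zero]
  have h4 : a • ρ₀.hom x = 0 := by
    have := congrArg (fun f => f.hom x) h3
    exact this
  exact mem_maximalIdeal_of_smul_eq_zero a _ hx h4

/-- **Recognition of `A[0]`.** -/
theorem iso_inD_self_of_hom_residue [IsNoetherianRing A] (X : Dual.D A) (b : ℤ) [X.IsLE b]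
    (hfin : ∀ i : ℤ, Module.Finite A (Dual.HD A X i))
    (h1 : ∀ i : ℤ, i ≠ 0 → Subsingleton (X ⟶ (Dual.inD A (ResidueField A))⟦i⟧))
    (t₀ : X ⟶ Dual.inD A (ResidueField A)) (ht₀ : t₀ ≠ 0)
    (hgen : ∀ t : X ⟶ Dual.inD A (ResidueField A), ∃ a : A, t = a • t₀) :
    Nonempty (X ≅ Dual.inD A A) := by
  classical
  haveI iX0 : X.IsLE 0 := by
    by_contra hX
    have hex : ∃ n : ℤ, 0 < n ∧ ¬ Subsingleton (Dual.HD A X n) := by
      by_contra hcon
      push_neg at hcon
      exact hX (isLE_of_HD X 0 (fun i hi => hcon i hi))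
    have hbdd : ∃ B : ℤ, ∀ z : ℤ, (0 < z ∧ ¬ Subsingleton (Dual.HD A X z)) → z ≤ B :=
      ⟨b, fun z hz => by
        by_contra hlt
        exact hz.2 (subsingleton_HD_of_isLE X b z (by omega))⟩
    obtain ⟨c, ⟨hc0, hc⟩, hmax⟩ := Int.exists_greatest_of_bdd hbdd hex
    haveI : X.IsLE c := isLE_of_HD X c (fun i hi => by
      by_contra hns
      exact absurd (hmax i ⟨by omega, hns⟩) (by omega))
    haveI := hfin c
    haveI : Nontrivial (Dual.HD A X c) := not_subsingleton_iff_nontrivial.mp hc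
    obtain ⟨t, ht⟩ := exists_ne_zero_of_top_degree X c
    haveI := h1 (-c) (by omega)
    exact ht (Subsingleton.elim _ _)
  have hbar0 : bar t₀ ≠ 0 := fun h => ht₀ (bar_eq_zero t₀ h)
  obtain ⟨v, hv⟩ : ∃ v : Dual.HD A X 0, (bar t₀).hom v ≠ 0 := by
    by_contra hcon
    push_neg at hcon
    exact hbar0 (ModuleCat.hom_ext (LinearMap.ext hcon))
  haveI := hfin 0
  have hspan : Submodule.span A {v} = ⊤ := by
    by_contra hne
    haveI : Nontrivial (Dual.HD A X 0 ⧸ Submodule.span A {v}) :=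
      Submodule.Quotient.nontrivial_iff.mpr hne
    obtain ⟨g, hg⟩ := exists_nonzero_functional (A := A) (Dual.HD A X 0 ⧸ Submodule.span A {v})
    obtain ⟨s, hs⟩ := exists_bar_eq (X := X) (N := ModuleCat.of A (ResidueField A))
      (ModuleCat.ofHom (g ∘ₗ (Submodule.span A {v}).mkQ))
    obtain ⟨a, ha⟩ := hgen s
    have hv0 : (Submodule.span A {v}).mkQ v = 0 := by
      rw [Submodule.mkQ_apply]
      exact (Submodule.Quotient.mk_eq_zero _).mpr (Submodule.subset_span rfl)
    have hsv : (bar s).hom v = 0 := by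
      rw [hs]
      show g ((Submodule.span A {v}).mkQ v) = 0
      rw [hv0, map_zero]
    have ham : a ∈ maximalIdeal A := by
      rw [ha, bar_smul] at hsv
      exact mem_maximalIdeal_of_smul_eq_zero a _ hv hsv
    have hs0 : s = 0 := by
      rw [ha]
      exact smul_hom_residue_eq_zero a ham t₀
    apply hg
    rw [hs0, bar_zero] at hs
    have h3 : (0 : Dual.HD A X 0 →ₗ[A] ResidueField A) =
        g ∘ₗ (Submodule.span A {v}).mkQ := congrArg ModuleCat.Hom.hom hs
    apply LinearMap.ext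
    intro w
    obtain ⟨w', rfl⟩ := (Submodule.span A {v}).mkQ_surjective w
    exact (LinearMap.congr_fun h3 w').symm
  let p : ModuleCat.of A A ⟶ (homologyFunctor (ModuleCat.{u} A) 0).obj X :=
    ModuleCat.ofHom (LinearMap.toSpanSingleton A (Dual.HD A X 0) v)
  haveI hp : Epi p := by
    rw [ModuleCat.epi_iff_surjective]
    intro w
    have hw : w ∈ Submodule.span A {v} := by
      rw [hspan]
      trivial
    obtain ⟨x, rfl⟩ := Submodule.mem_span_singleton.mp hw
    exact ⟨x, rfl⟩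
  obtain ⟨α, hα⟩ := exists_single_approx_of_epi X 0 (ModuleCat.of A A) p
  let e0 : (Dual.inD A A)⟦-(0 : ℤ)⟧ ≅ Dual.inD A A :=
    (CategoryTheory.shiftFunctorZero' (Dual.D A) (-0) (by simp)).app _
  let φ : Dual.inD A A ⟶ X := e0.inv ≫ α
  have hφ : Epi ((homologyFunctor (ModuleCat.{u} A) 0).map φ) := by
    haveI := hα.2
    show Epi ((homologyFunctor (ModuleCat.{u} A) 0).map (e0.inv ≫ α))
    rw [Functor.map_comp]
    infer_instance
  obtain ⟨C, pC, q, hT⟩ := distinguished_cocone_triangle φ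
  have hrot := rot_of_distTriang _ hT
  haveI iA1' : ((Dual.inD A A)⟦(1 : ℤ)⟧).IsLE (-1) :=
    TStructure.t.isLE_shift (Dual.inD A A) 0 1 (-1) (by omega)
  haveI iA1 : ((Dual.inD A A)⟦(1 : ℤ)⟧).IsLE 0 := TStructure.t.isLE_of_le _ (-1) 0 (by omega)
  haveI iC : C.IsLE 0 := TStructure.t.isLE₂ _ hrot 0 iX0 iA1
  have hfinA1 : ∀ i : ℤ, Module.Finite A (Dual.HD A ((Dual.inD A A)⟦(1 : ℤ)⟧) i) := fun i => by
    let e : Dual.HD A ((Dual.inD A A)⟦(1 : ℤ)⟧) i ≃ₗ[A] Dual.HD A (Dual.inD A A) (1 + i) :=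
      ((homologyShiftNatIso 1 i (1 + i) rfl).app (Dual.inD A A)).toLinearEquiv
    haveI : Module.Finite A (Dual.HD A (Dual.inD A A) (1 + i)) := by
      by_cases h : 1 + i = 0
      · rw [h]
        exact Module.Finite.equiv (canH (ModuleCat.of A A)).toLinearEquiv.symm
      · haveI : Subsingleton (Dual.HD A (Dual.inD A A) (1 + i)) := by
          rcases lt_or_gt_of_ne h with h' | h'
          · exact subsingleton_HD_of_isGE _ 0 _ h'
          · exact subsingleton_HD_of_isLE _ 0 _ h'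
        infer_instance
    exact Module.Finite.equiv e.symm
  have hfinC : ∀ i : ℤ, Module.Finite A (Dual.HD A C i) := fun i => by
    haveI := hfin i
    haveI := hfinA1 i
    have hex := DerivedCategory.HomologySequence.exact₂ _ hrot i
    exact finite_of_exact_noeth ((homologyFunctor (ModuleCat.{u} A) i).map pC).hom
      ((homologyFunctor (ModuleCat.{u} A) i).map q).hom
      ((ShortComplex.ShortExact.moduleCat_exact_iff_function_exact _).mp hex)
  have hr₀ : φ ≫ t₀ ≠ 0 := by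
    intro h
    have h2 : (homologyFunctor (ModuleCat.{u} A) 0).map φ ≫ bar t₀ = 0 := by
      rw [← bar_comp, h, bar_zero]
    exact hbar0 ((cancel_epi ((homologyFunctor (ModuleCat.{u} A) 0).map φ)).mp
      (by rw [h2, comp_zero]))
  have hsurj : ∀ r : Dual.inD A A ⟶ Dual.inD A (ResidueField A),
      ∃ t : X ⟶ Dual.inD A (ResidueField A), r = φ ≫ t := by
    intro r
    obtain ⟨a, ha⟩ := hom_inD_self_residue (φ ≫ t₀) r hr₀
    exact ⟨a • t₀, by rw [ha, Linear.comp_smul]⟩
  have hvan : ∀ (i : ℤ) (s : C ⟶ (Dual.inD A (ResidueField A))⟦i⟧), s = 0 := by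
    intro i s
    by_cases hi0 : i = 0
    · subst hi0
      let zh : (Dual.inD A (ResidueField A))⟦(0 : ℤ)⟧ ⟶ Dual.inD A (ResidueField A) :=
        ((shiftFunctorZero (Dual.D A) ℤ).app (Dual.inD A (ResidueField A))).hom
      haveI : IsIso zh := by
        show IsIso ((shiftFunctorZero (Dual.D A) ℤ).app (Dual.inD A (ResidueField A))).hom
        infer_instance
      have hs0 : s ≫ zh = 0 := by
        obtain ⟨a, ha⟩ := hgen (pC ≫ s ≫ zh)
        have hφp : φ ≫ pC = 0 := comp_distTriang_mor_zero₁₂ _ hT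
        have h2 : a • (φ ≫ t₀) = 0 := by
          rw [← Linear.comp_smul, ← ha, ← Category.assoc, hφp, zero_comp]
        have ham : a ∈ maximalIdeal A := mem_of_smul_hom_eq_zero (φ ≫ t₀) hr₀ a h2
        have h3 : pC ≫ s ≫ zh = 0 := by
          rw [ha]
          exact smul_hom_residue_eq_zero a ham t₀
        obtain ⟨(s'' : (Dual.inD A A)⟦(1 : ℤ)⟧ ⟶ Dual.inD A (ResidueField A)), hs''⟩ :=
          Triangle.yoneda_exact₃ _ hT (s ≫ zh) h3
        have hs''2 : s ≫ zh = q ≫ s'' := hs''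
        have h4 : s'' = 0 :=
          TStructure.t.zero_of_isLE_of_isGE s'' (-1) 0 (by omega) iA1' inferInstance
        rw [hs''2, h4, comp_zero]
      rw [← cancel_mono zh, hs0, zero_comp]
    · have h3 : pC ≫ s = 0 := by
        haveI := h1 i hi0
        exact Subsingleton.elim _ _
      obtain ⟨(s' : (Dual.inD A A)⟦(1 : ℤ)⟧ ⟶ (Dual.inD A (ResidueField A))⟦i⟧), hs'⟩ :=
        Triangle.yoneda_exact₃ _ hT s h3
      have hs'2 : s = q ≫ s' := hs'
      by_cases hi1 : i = 1
      · subst hi1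
        obtain ⟨r, hr⟩ := (shiftFunctor (Dual.D A) (1 : ℤ)).map_surjective s'
        obtain ⟨t, ht⟩ := hsurj r
        have h5 : q ≫ (shiftFunctor (Dual.D A) (1 : ℤ)).map φ = 0 :=
          comp_distTriang_mor_zero₃₁ _ hT
        rw [hs'2, ← hr, ht, Functor.map_comp, ← Category.assoc, h5, zero_comp]
      · have h4 : s' = 0 := by
          let e := shiftHomEquiv (Dual.inD A A) (Dual.inD A (ResidueField A)) 1 (-1) i (i - 1)
            (by omega) (by omega)
          have h6 : e s' = 0 :=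
            hom_single_shift_eq_zero (ModuleCat.of A A) (ModuleCat.of A (ResidueField A))
              (i - 1) (by omega) _
          exact e.injective (h6.trans (map_zero e).symm)
        rw [hs'2, h4, comp_zero]
  have hC : IsZero C := by
    by_contra hC
    obtain ⟨i, t, ht⟩ := exists_ne_zero_of_not_isZero C 0 hfinC hC
    exact ht (hvan i t)
  haveI : IsIso φ := (Triangle.isZero₃_iff_isIso₁ _ hT).mp hC
  exact ⟨(asIso φ).symm⟩

end Local

end Groth.Agent.Helper6.DualFun
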