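import Mathlib
import Groth.Prelude.Def_DRing4
import Groth.Agent.Helper6.DualFun1
import Groth.Agent.Helper6.DualFun2
import Groth.Agent.Helper6.LD5
import Groth.Agent.Helper6.DK2

/-!
# Dualizing complexes over a Noetherian local ring are unique up to shift
-/

set_option autoImplicit false
set_option linter.style.haveILetI false
set_option linter.unusedSectionVars false

universe u
open CategoryTheory CategoryTheory.Limits CochainComplex CochainComplex.HomComplex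
  Pretriangulated DerivedCategory
attribute [local instance] HasDerivedCategory.standard

namespace Groth.Agent.Helper6.DualFun
open Groth.Agent.Helper3.DRingLib Groth.Agent.Helper6.DK Groth.Agent.Helper6.LD
  Groth.Agent.Helper6.LocExt Groth.Agent.Helper6.BiD IsLocalRing

variable {A : Type u} [CommRing A]

/-- `Hom(M[j], Y) ≃ Hom(M, Y[-j])` -/
noncomputable def shiftHomEquiv' (M Y : Dual.D A) (j : ℤ) : (M⟦j⟧ ⟶ Y) ≃ₗ[A] (M ⟶ Y⟦-j⟧) :=
  (LinearEquiv.ofBijective ((CategoryTheory.shiftFunctor (Dual.D A) (-j)).mapLinearMap A)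
      ⟨(CategoryTheory.shiftFunctor (Dual.D A) (-j)).map_injective,
       (CategoryTheory.shiftFunctor (Dual.D A) (-j)).map_surjective⟩) ≪≫ₗ
    Linear.homCongr A (shiftShiftNeg M j) (Iso.refl _)

/-- two normalized dualizing complexes over a Noetherian local ring are isomorphic -/
theorem iso_of_normalized [IsLocalRing A] [IsNoetherianRing A] (ω ω' : Dual.D A)
    (hω : Dual.IsDualizing A ω) (hω' : Dual.IsDualizing A ω')
    (hn : Dual.IsNormalized A ω) (hn' : Dual.IsNormalized A ω') : Nonempty (ω' ≅ ω) := by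
  obtain ⟨I, a, b, hv, hinj, hKI, ⟨e⟩, hend, hext⟩ := exists_dualizing_rep ω hω
  haveI := hKI
  let W₀ : DRing.Cx A := DerivedCategory.Q.objPreimage ω'
  let eW : Q.obj W₀ ≅ ω' := DerivedCategory.Q.objObjPreimageIso ω'
  have hWfin : ∀ i : ℤ, Module.Finite A (Dual.HD A (DRing.toD W₀) i) := fun i => by
    haveI := hω'.finite_cohomology i
    exact Module.Finite.equiv
      ((homologyFunctor (ModuleCat.{u} A) i).mapIso eW).toLinearEquiv.symm
  haveI hqi : QuasiIso (eta W₀ I) := quasiIso_eta I a b hv hinj hend hext W₀ hWfin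
  haveI : IsIso (Q.map (eta W₀ I)) :=
    (DerivedCategory.isIso_Q_map_iff_quasiIso (φ := eta W₀ I)).mpr hqi
  let X : Dual.D A := Q.obj (DRing.homCx W₀ I)
  have hXH : ∀ n : ℤ, Nonempty (Dual.HD A X n ≃ₗ[A] (ω' ⟶ ω⟦n⟧)) := fun n =>
    ⟨Psi' W₀ I n ≪≫ₗ Linear.homCongr A eW ((CategoryTheory.shiftFunctor (Dual.D A) n).mapIso e)⟩
  have hXfin : ∀ n : ℤ, Module.Finite A (Dual.HD A X n) := fun n => by
    obtain ⟨ψ⟩ := hXH n
    haveI : Module.Finite A (ω' ⟶ ω⟦n⟧) :=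
      Groth.Agent.Helper6.DFinExt.main ω' ω hω'.finite_cohomology hω.finite_cohomology
        ⟨a, b, I, hv, hinj, ⟨e⟩⟩ n
    exact Module.Finite.equiv ψ.symm
  obtain ⟨a', b', hab'⟩ := hω'.finite_injective_dimension
  obtain ⟨hGE', _⟩ := bounds_of_hinj ω' a' b' hab'
  haveI := hGE'
  haveI iXLE : X.IsLE (b - a') := isLE_of_HD X (b - a') (fun n hn => by
    obtain ⟨ψ⟩ := hXH n
    have hz : ∀ f : ω' ⟶ ω⟦n⟧, f = 0 := fun f => by
      have h0 := Groth.Agent.Helper6.DFinExt.vanish_high I a b hv hinj ω' a' n (by omega)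
        (f ≫ ((CategoryTheory.shiftFunctor (Dual.D A) n).mapIso e).inv)
      calc f = (f ≫ ((CategoryTheory.shiftFunctor (Dual.D A) n).mapIso e).inv) ≫
            ((CategoryTheory.shiftFunctor (Dual.D A) n).mapIso e).hom := by
            rw [Category.assoc, Iso.inv_hom_id, Category.comp_id]
        _ = 0 := by rw [h0, zero_comp]
    haveI : Subsingleton (ω' ⟶ ω⟦n⟧) := ⟨fun f g => by rw [hz f, hz g]⟩
    exact ψ.toEquiv.subsingleton)
  let κ : ModuleCat.{u} A := ModuleCat.of A (ResidueField A)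
  let S₀ : DRing.Cx A := (CochainComplex.singleFunctor (ModuleCat.{u} A) 0).obj κ
  obtain ⟨φκ⟩ := hom_residue_normalized ω hω hn
  have key : ∀ j : ℤ, Nonempty ((X ⟶ (Dual.inD A (ResidueField A))⟦-j⟧) ≃ₗ[A]
      (Dual.inD A (ResidueField A) ⟶ ω'⟦-j⟧)) := by
    intro j
    let L : DRing.Cx A := S₀⟦j⟧
    let eL : Q.obj L ≅ (Dual.inD A (ResidueField A))⟦j⟧ :=
      (Q.commShiftIso j).app S₀ ≪≫ (CategoryTheory.shiftFunctor (Dual.D A) j).mapIso
        ((singleFunctorIsoCompQ (ModuleCat.{u} A) 0).app κ).symm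
    let Y : Dual.D A := Q.obj (DRing.homCx L I)
    have hYH : ∀ n : ℤ, Nonempty (Dual.HD A Y n ≃ₗ[A]
        (Dual.inD A (ResidueField A) ⟶ ω⟦n - j⟧)) := fun n =>
      ⟨Psi' L I n ≪≫ₗ Linear.homCongr A eL ((CategoryTheory.shiftFunctor (Dual.D A) n).mapIso e) ≪≫ₗ
        shiftHomEquiv (Dual.inD A (ResidueField A)) ω j (-j) n (n - j) (by omega) (by omega)⟩
    haveI : Y.IsGE j := isGE_of_HD Y j (fun n hnj => by
      obtain ⟨ψ⟩ := hYH n
      haveI := hn (n - j) (by omega)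
      exact ψ.toEquiv.subsingleton)
    haveI : Y.IsLE j := isLE_of_HD Y j (fun n hnj => by
      obtain ⟨ψ⟩ := hYH n
      haveI := hn (n - j) (by omega)
      exact ψ.toEquiv.subsingleton)
    obtain ⟨ψj⟩ := hYH j
    let eH : Dual.HD A Y j ≃ₗ[A] ResidueField A :=
      ψj ≪≫ₗ Linear.homCongr A (Iso.refl _)
        ((CategoryTheory.shiftFunctorZero' (Dual.D A) (j - j) (by omega)).app ω) ≪≫ₗ φκ
    obtain ⟨eY0⟩ := exists_iso_single_HD Y j
    let eY : Y ≅ (Dual.inD A (ResidueField A))⟦-j⟧ :=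
      eY0 ≪≫ (CategoryTheory.shiftFunctor (Dual.D A) (-j)).mapIso
        ((DerivedCategory.singleFunctor (ModuleCat.{u} A) 0).mapIso eH.toModuleIso)
    exact ⟨Linear.homCongr A (Iso.refl X) eY.symm ≪≫ₗ (dualEquiv I W₀ L).symm ≪≫ₗ
      Linear.homCongr A eL eW ≪≫ₗ shiftHomEquiv' (Dual.inD A (ResidueField A)) ω' j⟩
  have h1 : ∀ i : ℤ, i ≠ 0 → Subsingleton (X ⟶ (Dual.inD A (ResidueField A))⟦i⟧) :=
    fun i hi => by
      obtain ⟨Θ⟩ := key (-i)
      haveI : Subsingleton (Dual.inD A (ResidueField A) ⟶ ω'⟦-(-i)⟧) := hn' (-(-i)) (by omega)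
      have h2 : Subsingleton (X ⟶ (Dual.inD A (ResidueField A))⟦-(-i)⟧) :=
        Θ.toEquiv.subsingleton
      rw [neg_neg] at h2
      exact h2
  obtain ⟨Θ0⟩ := key 0
  obtain ⟨φκ'⟩ := hom_residue_normalized ω' hω' hn'
  let z1 : (Dual.inD A (ResidueField A))⟦-(0 : ℤ)⟧ ≅ Dual.inD A (ResidueField A) :=
    (CategoryTheory.shiftFunctorZero' (Dual.D A) (-0) (by simp)).app _
  let z2 : ω'⟦-(0 : ℤ)⟧ ≅ ω' := (CategoryTheory.shiftFunctorZero' (Dual.D A) (-0) (by simp)).app _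
  let Φ : (X ⟶ Dual.inD A (ResidueField A)) ≃ₗ[A] ResidueField A :=
    Linear.homCongr A (Iso.refl X) z1.symm ≪≫ₗ Θ0 ≪≫ₗ Linear.homCongr A (Iso.refl _) z2 ≪≫ₗ φκ'
  have ht₀ : Φ.symm 1 ≠ 0 := fun h => by
    have h3 := congrArg Φ h
    rw [LinearEquiv.apply_symm_apply, map_zero] at h3
    exact one_ne_zero h3
  have hgen : ∀ t : X ⟶ Dual.inD A (ResidueField A), ∃ c : A, t = c • Φ.symm 1 := fun t => by
    obtain ⟨c, hc⟩ := residue_surjective (Φ t)
    refine ⟨c, Φ.injective ?_⟩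
    rw [map_smul, LinearEquiv.apply_symm_apply, Algebra.smul_def, mul_one,
      ResidueField.algebraMap_eq, hc]
  obtain ⟨eX⟩ := iso_inD_self_of_hom_residue X (b - a') hXfin h1 (Φ.symm 1) ht₀ hgen
  obtain ⟨d⟩ := D_iso_of_iso I (V := DRing.homCx W₀ I) (W := Sm A 0)
    (eX ≪≫ (singleFunctorIsoCompQ (ModuleCat.{u} A) 0).app (ModuleCat.of A A))
  exact ⟨eW.symm ≪≫ asIso (Q.map (eta W₀ I)) ≪≫ d ≪≫ asIso (Q.map (cm 0 I)) ≪≫
    (Q.commShiftIso (0 : ℤ)).app I ≪≫ (CategoryTheory.shiftFunctorZero (Dual.D A) ℤ).app (Q.obj I) ≪≫ e⟩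

/-- **Dualizing complexes over a Noetherian local ring are unique up to shift.** -/
theorem unique_up_to_shift [IsLocalRing A] [IsNoetherianRing A] (ω ω' : Dual.D A)
    (hω : Dual.IsDualizing A ω) (hω' : Dual.IsDualizing A ω') :
    ∃ n : ℤ, Nonempty (ω' ≅ ω⟦n⟧) := by
  obtain ⟨n₀, hn1, -⟩ := DK.main ω hω (maximalIdeal A)
  obtain ⟨n₀', hn1', -⟩ := DK.main ω' hω' (maximalIdeal A)
  have hωs := isDualizing_shift ω hω n₀
  have hωs' := isDualizing_shift ω' hω' n₀'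
  have hns : Dual.IsNormalized A (ω⟦n₀⟧) := fun i hi => by
    haveI : Subsingleton (Dual.inD A (ResidueField A) ⟶ ω⟦n₀ + i⟧) := hn1 (n₀ + i) (by omega)
    exact (homShiftShiftEquiv (Dual.inD A (ResidueField A)) _ n₀ i (n₀ + i)
      rfl).toEquiv.subsingleton
  have hns' : Dual.IsNormalized A (ω'⟦n₀'⟧) := fun i hi => by
    haveI : Subsingleton (Dual.inD A (ResidueField A) ⟶ ω'⟦n₀' + i⟧) :=
      hn1' (n₀' + i) (by omega)
    exact (homShiftShiftEquiv (Dual.inD A (ResidueField A)) _ n₀' i (n₀' + i)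
      rfl).toEquiv.subsingleton
  obtain ⟨ε⟩ := iso_of_normalized (ω⟦n₀⟧) (ω'⟦n₀'⟧) hωs hωs' hns hns'
  exact ⟨n₀ - n₀', ⟨(shiftShiftNeg ω' n₀').symm ≪≫ (CategoryTheory.shiftFunctor (Dual.D A) (-n₀')).mapIso ε ≪≫
    ((CategoryTheory.shiftFunctorAdd' (Dual.D A) n₀ (-n₀') (n₀ - n₀') (by omega)).app ω).symm⟩⟩

end Groth.Agent.Helper6.DualFun
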