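import Mathlib

/-!
# Maps into a sequential system in a pretriangulated category: the two-out-of-three lemma

For a sequential system `V 0 → V 1 → ⋯ → Vinf` in a pretriangulated category we consider, for an
object `Y`, the property that `colim_n Hom(Y, V n) → Hom(Y, Vinf)` is bijective, phrased elementwise
(`PS`: surjectivity, `PK`: injectivity), and show that it is stable under extensions.
-/

set_option autoImplicit false
set_option linter.style.haveILetI false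
set_option linter.unusedSectionVars false

universe v u'
open CategoryTheory CategoryTheory.Limits Pretriangulated

namespace Groth.Agent.Helper6.LcD

variable (C : Type u') [Category.{v} C]

/-- a sequential system with a cocone -/
structure Sys where
  /-- the objects -/
  V : ℕ → C
  /-- the transition maps -/
  s : ∀ n n' : ℕ, n ≤ n' → (V n ⟶ V n')
  s_trans : ∀ (n n' n'' : ℕ) (h : n ≤ n') (h' : n' ≤ n''), s n n' h ≫ s n' n'' h' = s n n'' (h.trans h')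
  /-- the vertex of the cocone -/
  Vinf : C
  /-- the cocone -/
  σ : ∀ n, V n ⟶ Vinf
  σ_s : ∀ (n n' : ℕ) (h : n ≤ n'), s n n' h ≫ σ n' = σ n

variable {C}

namespace Sys

variable (S : Sys C)

/-- surjectivity of `colim_n Hom(Y, V n) → Hom(Y, Vinf)` -/
def PS (Y : C) : Prop := ∀ f : Y ⟶ S.Vinf, ∃ (n : ℕ) (g : Y ⟶ S.V n), g ≫ S.σ n = f

/-- injectivity of `colim_n Hom(Y, V n) → Hom(Y, Vinf)` -/
def PK [HasZeroMorphisms C] (Y : C) : Prop :=
  ∀ (n : ℕ) (g : Y ⟶ S.V n), g ≫ S.σ n = 0 → ∃ (n' : ℕ) (h : n ≤ n'), g ≫ S.s n n' h = 0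

lemma PS_of_iso {Y Y' : C} (e : Y ≅ Y') (h : S.PS Y) : S.PS Y' := by
  intro f
  obtain ⟨n, g, hg⟩ := h (e.hom ≫ f)
  exact ⟨n, e.inv ≫ g, by rw [Category.assoc, hg, Iso.inv_hom_id_assoc]⟩

lemma PK_of_iso [HasZeroMorphisms C] {Y Y' : C} (e : Y ≅ Y') (h : S.PK Y) : S.PK Y' := by
  intro n g hg
  obtain ⟨n', hn, h0⟩ := h n (e.hom ≫ g) (by rw [Category.assoc, hg, comp_zero])
  refine ⟨n', hn, ?_⟩
  have : e.inv ≫ (e.hom ≫ g) ≫ S.s n n' hn = 0 := by rw [h0, comp_zero]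
  simpa using this

lemma PS_of_hom_eq_zero [HasZeroMorphisms C] (Y : C) (h : ∀ f : Y ⟶ S.Vinf, f = 0) : S.PS Y :=
  fun f => ⟨0, 0, by rw [zero_comp, h f]⟩

lemma PK_of_hom_eq_zero [HasZeroMorphisms C] (Y : C) (h : ∀ (n : ℕ) (g : Y ⟶ S.V n), g = 0) :
    S.PK Y :=
  fun n g _ => ⟨n, le_rfl, by rw [h n g, zero_comp]⟩

variable [HasZeroObject C] [HasShift C ℤ] [Preadditive C]
  [∀ n : ℤ, (shiftFunctor C n).Additive] [Pretriangulated C]

/-- **Two out of three.** -/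
theorem two_of_three (T : Triangle C) (hT : T ∈ distTriang C)
    (h1S : S.PS T.obj₁) (h1K : S.PK T.obj₁) (h3S : S.PS T.obj₃) (h3K : S.PK T.obj₃)
    (h3K' : S.PK (T.obj₃⟦(-1 : ℤ)⟧)) (h1S' : S.PS (T.obj₁⟦(1 : ℤ)⟧)) :
    S.PS T.obj₂ ∧ S.PK T.obj₂ := by
  have hT' : T.invRotate ∈ distTriang C := inv_rot_of_distTriang T hT
  constructor
  · intro f
    obtain ⟨n, g', hg'⟩ := h1S (T.mor₁ ≫ f)
    let r : T.obj₃⟦(-1 : ℤ)⟧ ⟶ T.obj₁ := T.invRotate.mor₁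
    have hr : r ≫ T.mor₁ = 0 := comp_distTriang_mor_zero₁₂ _ hT'
    have h00 : (r ≫ g') ≫ S.σ n = 0 := by
      rw [Category.assoc, hg', ← Category.assoc, hr, zero_comp]
    obtain ⟨n₁, hn₁, h0⟩ := h3K' n (r ≫ g') h00
    have h01 : T.invRotate.mor₁ ≫ (show T.invRotate.obj₂ ⟶ S.V n₁ from g' ≫ S.s n n₁ hn₁) = 0 := by
      rw [← Category.assoc]
      exact h0
    obtain ⟨ψ₀, hψ⟩ := Triangle.yoneda_exact₂ _ hT' _ h01
    let ψ : T.obj₂ ⟶ S.V n₁ := ψ₀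
    have hψ' : g' ≫ S.s n n₁ hn₁ = T.mor₁ ≫ ψ := hψ
    have h2 : T.mor₁ ≫ (ψ ≫ S.σ n₁ - f) = 0 := by
      rw [Preadditive.comp_sub, ← Category.assoc, ← hψ', Category.assoc, S.σ_s, hg', sub_self]
    obtain ⟨k, hk⟩ := Triangle.yoneda_exact₂ _ hT _ h2
    obtain ⟨n₂, k', hk'⟩ := h3S k
    refine ⟨max n₁ n₂, ψ ≫ S.s n₁ _ (le_max_left _ _) - T.mor₂ ≫ k' ≫ S.s n₂ _ (le_max_right _ _),
      ?_⟩
    rw [Preadditive.sub_comp, Category.assoc, Category.assoc, Category.assoc, S.σ_s, S.σ_s, hk',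
      ← hk]
    abel
  · intro n g hg
    obtain ⟨n₁, hn₁, h0⟩ := h1K n (T.mor₁ ≫ g) (by rw [Category.assoc, hg, comp_zero])
    obtain ⟨h, hh⟩ := Triangle.yoneda_exact₂ _ hT (g ≫ S.s n n₁ hn₁)
      (by rw [← Category.assoc]; exact h0)
    have h2 : T.mor₂ ≫ (h ≫ S.σ n₁) = 0 := by
      rw [← Category.assoc, ← hh, Category.assoc, S.σ_s, hg]
    obtain ⟨k, hk⟩ := Triangle.yoneda_exact₃ _ hT _ h2
    obtain ⟨n₂, k', hk'⟩ := h1S' k
    have h3 : (h ≫ S.s n₁ _ (le_max_left n₁ n₂) - T.mor₃ ≫ k' ≫ S.s n₂ _ (le_max_right n₁ n₂)) ≫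
        S.σ (max n₁ n₂) = 0 := by
      rw [Preadditive.sub_comp, Category.assoc, Category.assoc, Category.assoc, S.σ_s, S.σ_s, hk',
        ← hk, sub_self]
    obtain ⟨n₄, hn₄, h4⟩ := h3K _ _ h3
    refine ⟨n₄, hn₁.trans ((le_max_left n₁ n₂).trans hn₄), ?_⟩
    rw [Preadditive.sub_comp, sub_eq_zero, Category.assoc, Category.assoc, Category.assoc,
      S.s_trans, S.s_trans] at h4
    have h5 : g ≫ S.s n n₄ (hn₁.trans ((le_max_left n₁ n₂).trans hn₄)) =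
        (g ≫ S.s n n₁ hn₁) ≫ S.s n₁ n₄ ((le_max_left n₁ n₂).trans hn₄) := by
      rw [Category.assoc, S.s_trans]
    rw [h5, hh, Category.assoc, h4, ← Category.assoc, comp_distTriang_mor_zero₂₃ _ hT, zero_comp]

/-- the property for all shifts -/
def P (Y : C) : Prop := ∀ j : ℤ, S.PS (Y⟦j⟧) ∧ S.PK (Y⟦j⟧)

lemma P_of_iso {Y Y' : C} (e : Y ≅ Y') (h : S.P Y) : S.P Y' := fun j =>
  ⟨S.PS_of_iso ((shiftFunctor C j).mapIso e) (h j).1,
    S.PK_of_iso ((shiftFunctor C j).mapIso e) (h j).2⟩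

lemma P_shift (Y : C) (n : ℤ) (h : S.P Y) : S.P (Y⟦n⟧) := fun j =>
  ⟨S.PS_of_iso ((shiftFunctorAdd' C n j (n + j) rfl).app Y) (h (n + j)).1,
    S.PK_of_iso ((shiftFunctorAdd' C n j (n + j) rfl).app Y) (h (n + j)).2⟩

theorem P_ext (T : Triangle C) (hT : T ∈ distTriang C) (h1 : S.P T.obj₁) (h3 : S.P T.obj₃) :
    S.P T.obj₂ := by
  intro j
  have hTj := Triangle.shift_distinguished T hT j
  exact S.two_of_three _ hTj (h1 j).1 (h1 j).2 (h3 j).1 (h3 j).2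
    (S.P_shift T.obj₃ j h3 (-1)).2 (S.P_shift T.obj₁ j h1 1).1

end Sys

end Groth.Agent.Helper6.LcD
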