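import Mathlib
import Groth.Prelude.Def_DRing4
import Groth.Agent.Helper6.LcD1
import Groth.Agent.Helper6.LcD2
import Groth.Agent.Helper3.DRingDev

/-!
# Maps from a bounded complex with finite cohomology into a sequential colimit of modules
-/

set_option autoImplicit false
set_option linter.style.haveILetI false
set_option linter.unusedSectionVars false

universe u
open CategoryTheory CategoryTheory.Limits Pretriangulated DerivedCategory Abelian
attribute [local instance] HasDerivedCategory.standard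

namespace Groth.Agent.Helper6.LcD
open Groth.Agent.Helper3.DRingLib

variable {A : Type u} [CommRing A]

section phi

variable (N W : Dual.D A) (k : ℤ)

/-- `Hom(N[-k], W) → Hom(N, W[k])` -/
noncomputable def phi (g : N⟦-k⟧ ⟶ W) : N ⟶ W⟦k⟧ :=
  (shiftFunctorCompIsoId (Dual.D A) (-k) k (by omega)).inv.app N ≫ g⟦k⟧'

lemma phi_comp {W' : Dual.D A} (g : N⟦-k⟧ ⟶ W) (v : W ⟶ W') :
    phi N W' k (g ≫ v) = phi N W k g ≫ v⟦k⟧' := by
  unfold phi
  rw [Functor.map_comp, Category.assoc]

lemma phi_zero : phi N W k 0 = 0 := by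
  unfold phi
  rw [Functor.map_zero, comp_zero]

lemma phi_injective : Function.Injective (phi N W k) := by
  intro g g' h
  unfold phi at h
  exact (shiftFunctor (Dual.D A) k).map_injective ((cancel_epi _).mp h)

lemma phi_surjective (y : N ⟶ W⟦k⟧) : ∃ g, phi N W k g = y :=
  ⟨(shiftFunctor (Dual.D A) k).preimage
    ((shiftFunctorCompIsoId (Dual.D A) (-k) k (by omega)).hom.app N ≫ y), by
    unfold phi
    rw [Functor.map_preimage, Iso.inv_hom_id_app_assoc]⟩

end phi

lemma ext_comp_mk₀_hom {N X X' : ModuleCat.{u} A} {k : ℕ} (x : Ext.{u} N X k) (t : X ⟶ X') :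
    (x.comp (Ext.mk₀ t) (add_zero k)).hom =
      x.hom ≫ ((singleFunctor (ModuleCat.{u} A) 0).map t)⟦(k : ℤ)⟧' := by
  rw [Ext.comp_hom, Ext.mk₀_hom, ShiftedHom.comp_mk₀]

variable [IsNoetherianRing A] (M : MSys A)

/-- the system in `D(A)` attached to a sequential system of modules -/
noncomputable def MSys.toSys : Sys (Dual.D A) where
  V n := Dual.inD A (M.X n)
  s n n' h := (singleFunctor (ModuleCat.{u} A) 0).map (M.tM n n' h)
  s_trans n n' n'' h h' := by rw [← Functor.map_comp, M.tM_trans]
  Vinf := Dual.inD A M.Einf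
  σ n := (singleFunctor (ModuleCat.{u} A) 0).map (M.ιM n)
  σ_s n n' h := by rw [← Functor.map_comp, M.tM_ιM]

lemma hom_shift_pos_eq_zero (N X : Type u) [AddCommGroup N] [Module A N] [AddCommGroup X]
    [Module A X] (j : ℤ) (hj : 0 < j) (f : (Dual.inD A N)⟦j⟧ ⟶ Dual.inD A X) : f = 0 := by
  haveI : ((Dual.inD A N)⟦j⟧).IsLE (-j) :=
    TStructure.t.isLE_shift (Dual.inD A N) 0 j (-j) (by omega)
  exact TStructure.t.zero f (-j) 0 (by omega)

variable [Module.Injective A M.Einf]

theorem P_single (N : Type u) [AddCommGroup N] [Module A N] [Module.Finite A N] :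
    M.toSys.P (Dual.inD A N) := by
  intro j
  by_cases hj : 0 < j
  · exact ⟨M.toSys.PS_of_hom_eq_zero _ (fun f => hom_shift_pos_eq_zero N M.Einf j hj f),
      M.toSys.PK_of_hom_eq_zero _ (fun n g => hom_shift_pos_eq_zero N (M.X n) j hj g)⟩
  · obtain ⟨k, rfl⟩ : ∃ k : ℕ, j = -(k : ℤ) := ⟨(-j).toNat, by omega⟩
    constructor
    · intro f
      obtain ⟨n, x, hx⟩ := M.SE k N
        (Ext.homEquiv.symm (phi (Dual.inD A N) M.toSys.Vinf k f))
      obtain ⟨g, hg⟩ := phi_surjective (Dual.inD A N) (M.toSys.V n) k x.hom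
      refine ⟨n, g, ?_⟩
      apply phi_injective
      rw [phi_comp, hg]
      have h2 := congrArg Ext.hom hx
      rw [ext_comp_mk₀_hom] at h2
      exact h2.trans (Equiv.apply_symm_apply _ _)
    · intro n g hg
      have h1 : (Ext.homEquiv.symm (phi (Dual.inD A N) (M.toSys.V n) k g)).hom =
          phi (Dual.inD A N) (M.toSys.V n) k g := Equiv.apply_symm_apply _ _
      have hx : (Ext.homEquiv.symm (phi (Dual.inD A N) (M.toSys.V n) k g)).comp
          (Ext.mk₀ (M.ιM n)) (add_zero k) = 0 := by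
        apply Ext.ext
        rw [ext_comp_mk₀_hom, Ext.zero_hom, h1]
        have h3 := phi_comp (Dual.inD A N) (M.toSys.V n) k g (M.toSys.σ n)
        rw [hg, phi_zero] at h3
        exact h3.symm
      obtain ⟨n', hn, h0⟩ := M.KE k N n _ hx
      refine ⟨n', hn, ?_⟩
      apply phi_injective
      rw [phi_comp, phi_zero]
      have h4 := congrArg Ext.hom h0
      rw [ext_comp_mk₀_hom, Ext.zero_hom, h1] at h4
      exact h4

/-- **Commutation with the sequential colimit** for bounded complexes with finite cohomology. -/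
theorem P_of_bounded (K : Dual.D A)
    (hb : ∃ a b : ℤ, ∀ i : ℤ, (i < a ∨ b < i) → Subsingleton (Dual.HD A K i))
    (hfin : ∀ i : ℤ, Module.Finite A (Dual.HD A K i)) : M.toSys.P K :=
  devissage_homology' M.toSys.P (fun e h => M.toSys.P_of_iso e h)
    (fun K n h => M.toSys.P_shift K n h) (fun T hT h1 h3 => M.toSys.P_ext T hT h1 h3) K hb
    (fun i => by
      haveI := hfin i
      exact P_single M (Dual.HD A K i))

end Groth.Agent.Helper6.LcD
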