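import Mathlib
import Groth.Prelude.Def_DRing4
import Groth.Agent.Helper6.DualFun2
import Groth.Agent.Helper6.DualCx
import Groth.Agent.Helper3.DRingInj
import Groth.Agent.Helper3.DRingInjAmp

/-!
# Maps into an injective module placed in degree zero: `Hom_{D(A)}(Y, J[0]) = Hom_A(H^0(Y), J)`
-/

set_option autoImplicit false
set_option linter.style.haveILetI false
set_option linter.unusedSectionVars false

universe u
open CategoryTheory CategoryTheory.Limits Pretriangulated DerivedCategory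
attribute [local instance] HasDerivedCategory.standard

namespace Groth.Agent.Helper6.LcD
open Groth.Agent.Helper3.DRingLib Groth.Agent.Helper6.DualFun Groth.Agent.Helper6.DualCx

variable {A : Type u} [CommRing A]

lemma bar_add {X : Dual.D A} {N : ModuleCat.{u} A}
    (t t' : X ⟶ (singleFunctor (ModuleCat.{u} A) 0).obj N) : bar (t + t') = bar t + bar t' := by
  unfold bar
  rw [Functor.map_add, Preadditive.add_comp]

variable (J : Type u) [AddCommGroup J] [Module A J]

lemma isKInjective_sg [Module.Injective A J] : (sg (ModuleCat.of A J)).IsKInjective := by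
  apply isKInjective_of_termwiseInjective _ 0 0
  · intro i hi
    exact HomologicalComplex.isZero_single_obj_X _ _ _ _ (by omega)
  · intro i
    by_cases hi : i = 0
    · subst hi
      exact injective_of_iso'
        (HomologicalComplex.singleObjXSelf (ComplexShape.up ℤ) 0 (ModuleCat.of A J)).symm
        inferInstance
    · exact injective_of_isZero' (HomologicalComplex.isZero_single_obj_X _ _ _ _ hi)

/-- no nonzero maps from `D^{≥ 1}` to an injective module in degree zero -/
lemma hom_inD_injective_eq_zero [Module.Injective A J] (X : Dual.D A) [X.IsGE 1]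
    (ψ : X ⟶ Dual.inD A J) : ψ = 0 := by
  obtain ⟨K, hK, ⟨e⟩⟩ := X.exists_iso_Q_obj_of_isGE 1
  haveI := hK
  let L : DRing.Cx A := sg (ModuleCat.of A J)
  haveI : L.IsKInjective := isKInjective_sg J
  let c : Dual.inD A J ≅ Q.obj L := (singleFunctorIsoCompQ (ModuleCat.{u} A) 0).app _
  obtain ⟨φ, hφ⟩ := exists_Q_map_eq_inj K L (e.inv ≫ ψ ≫ c.hom)
  have h0 : φ = 0 := by
    apply HomologicalComplex.to_single_hom_ext
    exact (K.isZero_of_isStrictlyGE 1 0 (by omega)).eq_of_src _ _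
  rw [h0, Functor.map_zero] at hφ
  have h1 : ψ = e.hom ≫ (e.inv ≫ ψ ≫ c.hom) ≫ c.inv := by
    rw [Category.assoc, Category.assoc, Iso.hom_inv_id, Category.comp_id, Iso.hom_inv_id_assoc]
  rw [h1, ← hφ, zero_comp, comp_zero]

/-- `φ ↦ H^0(φ)` as a linear map -/
noncomputable def barL (Y : Dual.D A) :
    (Y ⟶ Dual.inD A J) →ₗ[A] (Dual.HD A Y 0 →ₗ[A] J) where
  toFun φ := (bar φ).hom
  map_add' φ ψ := by
    rw [bar_add]
    rfl
  map_smul' a φ := by
    rw [bar_smul]
    rfl

theorem barL_bijective [Module.Injective A J] (Y : Dual.D A) :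
    Function.Bijective (barL J Y) := by
  obtain ⟨X', Y'', hX', hY'', f, g, δ, hT⟩ := TStructure.t.exists_triangle Y 0 1 (by omega)
  haveI iX : X'.IsLE 0 := ⟨hX'⟩
  haveI iY : Y''.IsGE 1 := ⟨hY''⟩
  haveI iX' : (Triangle.mk f g δ).obj₁.IsLE 0 := iX
  haveI iY' : (Triangle.mk f g δ).obj₃.IsGE (0 + 1) := iY
  haveI hf0 : IsIso ((homologyFunctor (ModuleCat.{u} A) 0).map f) :=
    isIso_HD_mor₁ _ hT 0 0 le_rfl
  constructor
  · rw [injective_iff_map_eq_zero]
    intro φ hφ
    have hb : bar φ = 0 := by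
      apply ModuleCat.hom_ext
      exact hφ
    have h1 : f ≫ φ = 0 := by
      apply bar_eq_zero
      rw [bar_comp, hb, comp_zero]
    obtain ⟨ψ, hψ⟩ := Triangle.yoneda_exact₂ _ hT φ h1
    have h2 : ψ = 0 := hom_inD_injective_eq_zero J Y'' ψ
    rw [hψ, h2]
    exact comp_zero
  · intro w
    obtain ⟨t, ht⟩ := exists_bar_eq (X := X')
      ((homologyFunctor (ModuleCat.{u} A) 0).map f ≫ ModuleCat.ofHom w)
    have hT' := inv_rot_of_distTriang _ hT
    haveI : (Y''⟦(-1 : ℤ)⟧).IsGE 2 := TStructure.t.isGE_shift Y'' 1 (-1) 2 (by omega)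
    haveI : (Y''⟦(-1 : ℤ)⟧).IsGE 1 := TStructure.t.isGE_of_ge _ 1 2 (by omega)
    have h0 : (Triangle.mk f g δ).invRotate.mor₁ ≫
        (show (Triangle.mk f g δ).invRotate.obj₂ ⟶ Dual.inD A J from t) = 0 :=
      hom_inD_injective_eq_zero J (Y''⟦(-1 : ℤ)⟧) _
    obtain ⟨φ₀, hφ₀⟩ := Triangle.yoneda_exact₂ _ hT' _ h0
    let φ : Y ⟶ Dual.inD A J := φ₀
    have hφ : t = f ≫ φ := hφ₀
    refine ⟨φ, ?_⟩
    have h1 : (homologyFunctor (ModuleCat.{u} A) 0).map f ≫ bar φ =
        (homologyFunctor (ModuleCat.{u} A) 0).map f ≫ ModuleCat.ofHom w := by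
      rw [← bar_comp, ← hφ, ht]
    have h2 : bar φ = ModuleCat.ofHom w := (cancel_epi _).mp h1
    show (bar φ).hom = w
    rw [h2]
    rfl

/-- **`Hom_{D(A)}(Y, J[0]) ≃ Hom_A(H^0(Y), J)` for an injective module `J`.** -/
noncomputable def barEquiv [Module.Injective A J] (Y : Dual.D A) :
    (Y ⟶ Dual.inD A J) ≃ₗ[A] (Dual.HD A Y 0 →ₗ[A] J) :=
  LinearEquiv.ofBijective (barL J Y) (barL_bijective J Y)

end Groth.Agent.Helper6.LcD
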