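import Mathlib
import Groth.Prelude.Def_DRing4
import Groth.Agent.Helper6.LcD5
import Groth.Agent.Helper6.Matlis6
import Groth.Agent.S0302

/-!
# The colimit of the duals of `A/m^n` is the injective hull of the residue field
-/

set_option autoImplicit false
set_option linter.style.haveILetI false
set_option linter.unusedSectionVars false

universe u
open CategoryTheory CategoryTheory.Limits Pretriangulated DerivedCategory
attribute [local instance] HasDerivedCategory.standard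

namespace Groth.Agent.Helper6.LcD
open Groth.Agent.Helper3.DRingLib Groth.Agent.Helper6.DualFun Groth.Agent.Helper6.DualCx
  Groth.Agent.Helper6.BiD Groth.Agent.Helper6.LD Groth.Agent.Helper6.HomCxPre IsLocalRing

variable {A : Type u} [CommRing A]

section general

variable (N X X' : Type u) [AddCommGroup N] [Module A N] [AddCommGroup X] [Module A X]
  [AddCommGroup X'] [Module A X']

/-- full faithfulness of `N ↦ N[0]`, linearly -/
noncomputable def inDHomEquiv : (N →ₗ[A] X) ≃ₗ[A] (Dual.inD A N ⟶ Dual.inD A X) where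
  toFun φ := (singleFunctor (ModuleCat.{u} A) 0).map (ModuleCat.ofHom φ)
  map_add' φ ψ := by
    have : ModuleCat.ofHom (φ + ψ) = ModuleCat.ofHom φ + ModuleCat.ofHom ψ := rfl
    rw [this, Functor.map_add]
  map_smul' a φ := by
    have : ModuleCat.ofHom (a • φ) = a • ModuleCat.ofHom φ := rfl
    rw [this, Functor.map_smul]
    rfl
  invFun f := ((singleFunctor (ModuleCat.{u} A) 0).preimage f).hom
  left_inv φ := by
    show ((singleFunctor (ModuleCat.{u} A) 0).preimage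
      ((singleFunctor (ModuleCat.{u} A) 0).map (ModuleCat.ofHom φ))).hom = φ
    rw [Functor.preimage_map]
    rfl
  right_inv f := by
    show (singleFunctor (ModuleCat.{u} A) 0).map (ModuleCat.ofHom
      ((singleFunctor (ModuleCat.{u} A) 0).preimage f).hom) = f
    rw [ModuleCat.ofHom_hom, Functor.map_preimage]

lemma inDHomEquiv_apply (φ : N →ₗ[A] X) :
    inDHomEquiv N X φ = (singleFunctor (ModuleCat.{u} A) 0).map (ModuleCat.ofHom φ) := rfl

lemma inDHomEquiv_comp (φ : N →ₗ[A] X) (ψ : X →ₗ[A] X') :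
    inDHomEquiv N X' (ψ ∘ₗ φ) = inDHomEquiv N X φ ≫ inDHomEquiv X X' ψ := by
  rw [inDHomEquiv_apply, inDHomEquiv_apply, inDHomEquiv_apply, ModuleCat.ofHom_comp,
    Functor.map_comp]

/-- maps out of `A ⧸ J` into a module killed by `J` -/
noncomputable def quotHomEquiv (J : Ideal A) (W : Type u) [AddCommGroup W] [Module A W]
    (hW : ∀ a ∈ J, ∀ w : W, a • w = 0) : ((A ⧸ J) →ₗ[A] W) ≃ₗ[A] W where
  toFun ψ := ψ (Submodule.Quotient.mk (1 : A))
  map_add' _ _ := rfl
  map_smul' _ _ := rfl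
  invFun w := Submodule.liftQ J (LinearMap.toSpanSingleton A W w) (fun a ha => by
    rw [LinearMap.mem_ker, LinearMap.toSpanSingleton_apply]
    exact hW a ha w)
  left_inv ψ := by
    apply LinearMap.ext
    intro x
    obtain ⟨a, rfl⟩ := Submodule.Quotient.mk_surjective J x
    rw [Submodule.liftQ_apply, LinearMap.toSpanSingleton_apply, ← map_smul,
      ← Submodule.Quotient.mk_smul, smul_eq_mul, mul_one]
  right_inv w := by
    show Submodule.liftQ J _ _ (Submodule.Quotient.mk (1 : A)) = w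
    rw [Submodule.liftQ_apply, LinearMap.toSpanSingleton_apply, one_smul]

lemma quotHomEquiv_apply (J : Ideal A) (W : Type u) [AddCommGroup W] [Module A W]
    (hW : ∀ a ∈ J, ∀ w : W, a • w = 0) (ψ : (A ⧸ J) →ₗ[A] W) :
    quotHomEquiv J W hW ψ = ψ (Submodule.Quotient.mk (1 : A)) := rfl

end general

/-- the data of a normalized dualizing complex with a K-injective representative -/
structure Ctx (A : Type u) [CommRing A] [IsLocalRing A] [IsNoetherianRing A] where
  /-- the dualizing complex -/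
  ω : Dual.D A
  hω : Dual.IsDualizing A ω
  hn : Dual.IsNormalized A ω
  /-- the representative -/
  I : DRing.Cx A
  hK : I.IsKInjective
  /-- the comparison -/
  e : DRing.toD I ≅ ω

attribute [instance] Ctx.hK

variable [IsLocalRing A] [IsNoetherianRing A] (c : Ctx A)

/-- `A ⧸ m^n` -/
abbrev Qn (A : Type u) [CommRing A] [IsLocalRing A] (n : ℕ) : Type u := A ⧸ (maximalIdeal A ^ n)

/-- the surjections `A/m^n' → A/m^n` -/
noncomputable def πL (n n' : ℕ) (h : n ≤ n') : Qn A n' →ₗ[A] Qn A n :=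
  Submodule.mapQ (maximalIdeal A ^ n') (maximalIdeal A ^ n) LinearMap.id
    (Ideal.pow_le_pow_right h)

lemma πL_one (n n' : ℕ) (h : n ≤ n') :
    πL n n' h (Submodule.Quotient.mk (1 : A)) = Submodule.Quotient.mk (1 : A) := rfl

lemma πL_trans (n n' n'' : ℕ) (h : n ≤ n') (h' : n' ≤ n'') :
    πL (A := A) n n' h ∘ₗ πL n' n'' h' = πL n n'' (h.trans h') := by
  apply LinearMap.ext
  intro x
  obtain ⟨a, rfl⟩ := Submodule.Quotient.mk_surjective _ x
  rfl

lemma πL_refl (n : ℕ) : πL (A := A) n n le_rfl = LinearMap.id := by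
  apply LinearMap.ext
  intro x
  obtain ⟨a, rfl⟩ := Submodule.Quotient.mk_surjective _ x
  rfl

lemma Qn_killed (n : ℕ) (a : A) (ha : a ∈ maximalIdeal A ^ n) (y : Qn A n) : a • y = 0 := by
  obtain ⟨b, rfl⟩ := Submodule.Quotient.mk_surjective _ y
  rw [← Submodule.Quotient.mk_smul, Submodule.Quotient.mk_eq_zero, smul_eq_mul]
  exact Ideal.mul_mem_right _ _ ha

lemma hQ (n : ℕ) : IsFiniteLength A (Qn A n) :=
  Groth.Agent.Helper6.Matlis.isFiniteLength_quot_pow n

namespace Ctx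

/-- the duals of `A/m^n` -/
noncomputable abbrev Z (n : ℕ) : Dual.D A := DN c.I (Qn A n)

/-- the transition maps -/
noncomputable def τ (n n' : ℕ) (h : n ≤ n') : c.Z n ⟶ c.Z n' := DMap c.I (πL n n' h)

lemma τ_trans (n n' n'' : ℕ) (h : n ≤ n') (h' : n' ≤ n'') :
    c.τ n n' h ≫ c.τ n' n'' h' = c.τ n n'' (h.trans h') := by
  unfold τ
  rw [← DMap_comp, πL_trans]

lemma τ_refl (n : ℕ) : c.τ n n le_rfl = 𝟙 _ := by
  unfold τ
  rw [πL_refl, DMap_id]

/-- the modules `H^0` of the duals -/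
abbrev X (n : ℕ) : Type u := XN c.I (Qn A n)

/-- the duals are modules in degree zero -/
noncomputable def eD (N : Type u) [AddCommGroup N] [Module A N] (hN : IsFiniteLength A N) :
    DN c.I N ≅ Dual.inD A (XN c.I N) :=
  Classical.choice (nonempty_eDN c.I c.ω c.e c.hn N hN)

/-- the duals of `A/m^n` are modules in degree zero -/
noncomputable def eZ (n : ℕ) : c.Z n ≅ Dual.inD A (c.X n) := c.eD (Qn A n) (hQ n)

/-- the transition maps of modules -/
noncomputable def tX (n n' : ℕ) (h : n ≤ n') : c.X n →ₗ[A] c.X n' :=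
  (inDHomEquiv (c.X n) (c.X n')).symm ((c.eZ n).inv ≫ c.τ n n' h ≫ (c.eZ n').hom)

lemma inD_tX (n n' : ℕ) (h : n ≤ n') :
    inDHomEquiv (c.X n) (c.X n') (c.tX n n' h) = (c.eZ n).inv ≫ c.τ n n' h ≫ (c.eZ n').hom :=
  LinearEquiv.apply_symm_apply _ _

lemma tX_trans (n n' n'' : ℕ) (h : n ≤ n') (h' : n' ≤ n'') :
    c.tX n' n'' h' ∘ₗ c.tX n n' h = c.tX n n'' (h.trans h') := by
  apply (inDHomEquiv (c.X n) (c.X n'')).injective
  rw [inDHomEquiv_comp, inD_tX, inD_tX, inD_tX]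
  simp only [Category.assoc, Iso.hom_inv_id_assoc]
  rw [← c.τ_trans n n' n'' h h', Category.assoc]

lemma tX_refl (n : ℕ) : c.tX n n le_rfl = LinearMap.id := by
  apply (inDHomEquiv (c.X n) (c.X n)).injective
  rw [inD_tX, c.τ_refl, Category.id_comp, Iso.inv_hom_id, inDHomEquiv_apply, ModuleCat.ofHom_id,
    CategoryTheory.Functor.map_id]

instance : DirectedSystem c.X (fun n n' h => c.tX n n' h) where
  map_self n x := by rw [c.tX_refl]; rfl
  map_map k j i hij hjk x := LinearMap.congr_fun (c.tX_trans i j k hij hjk) x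

/-- the colimit -/
abbrev Einf : Type u := Module.DirectLimit c.X c.tX

/-- the system of modules -/
noncomputable def MS : MSys A where
  X := c.X
  t := c.tX
  t_trans n n' n'' h h' x := LinearMap.congr_fun (c.tX_trans n n' n'' h h') x
  Einf := c.Einf
  ι n := Module.DirectLimit.of A ℕ c.X c.tX n
  ι_t n n' h x := Module.DirectLimit.of_f
  surj y := Module.DirectLimit.exists_of y
  ker n x hx := Module.DirectLimit.of.zero_exact hx

lemma X_killed (n : ℕ) (a : A) (ha : a ∈ maximalIdeal A ^ n) (x : c.X n) : a • x = 0 :=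
  XN_killed c.I a (Qn_killed n a ha) x

lemma Einf_powerTorsion : LocCoh.IsPowerTorsion (maximalIdeal A) c.Einf := by
  intro y
  obtain ⟨n, x, rfl⟩ := Module.DirectLimit.exists_of y
  refine ⟨n, fun a ha => ?_⟩
  rw [← map_smul, c.X_killed n a ha x, map_zero]

section finlen

variable (N : Type u) [AddCommGroup N] [Module A N]

/-- `Hom(N, X n) ≃ Hom(N[0], Z n)` -/
noncomputable def aEq (n : ℕ) : (N →ₗ[A] c.X n) ≃ₗ[A] (Q.obj (sN N) ⟶ c.Z n) :=
  inDHomEquiv N (c.X n) ≪≫ₗ Linear.homCongr A (cN N) (c.eZ n).symm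

lemma aEq_apply (n : ℕ) (φ : N →ₗ[A] c.X n) :
    c.aEq N n φ = (cN N).inv ≫ inDHomEquiv N (c.X n) φ ≫ (c.eZ n).inv := by
  show ((cN N).inv ≫ inDHomEquiv N (c.X n) φ) ≫ (c.eZ n).inv = _
  rw [Category.assoc]

lemma aEq_compat (n n' : ℕ) (h : n ≤ n') (φ : N →ₗ[A] c.X n) :
    c.aEq N n' (c.tX n n' h ∘ₗ φ) = c.aEq N n φ ≫ c.τ n n' h := by
  rw [aEq_apply, aEq_apply, inDHomEquiv_comp, inD_tX]
  simp only [Category.assoc, Iso.hom_inv_id, Category.comp_id]

variable (hN : IsFiniteLength A N)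

/-- `Hom((A/m^n)[0], D N) ≃ Hom(A/m^n, H^0(D N))` -/
noncomputable def bEq (n : ℕ) :
    (Q.obj (sN (Qn A n)) ⟶ DN c.I N) ≃ₗ[A] (Qn A n →ₗ[A] XN c.I N) :=
  Linear.homCongr A (cN (Qn A n)).symm (c.eD N hN) ≪≫ₗ (inDHomEquiv (Qn A n) (XN c.I N)).symm

lemma bEq_compat (n n' : ℕ) (h : n ≤ n') (z : Q.obj (sN (Qn A n)) ⟶ DN c.I N) :
    c.bEq N hN n' (Q.map (sMap (πL n n' h)) ≫ z) = c.bEq N hN n z ∘ₗ πL n n' h := by
  show (inDHomEquiv (Qn A n') (XN c.I N)).symm
      (((cN (Qn A n')).hom ≫ (Q.map (sMap (πL n n' h)) ≫ z)) ≫ (c.eD N hN).hom) =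
    (inDHomEquiv (Qn A n) (XN c.I N)).symm (((cN (Qn A n)).hom ≫ z) ≫ (c.eD N hN).hom) ∘ₗ
      πL n n' h
  rw [LinearEquiv.symm_apply_eq, inDHomEquiv_comp, LinearEquiv.apply_symm_apply,
    inDHomEquiv_apply, ← Category.assoc (cN (Qn A n')).hom, ← cN_naturality]
  simp only [Category.assoc]

/-- the composite `Hom(N, X n) ≃ Hom(A/m^n, H^0(D N))` -/
noncomputable def gEq (n : ℕ) : (N →ₗ[A] c.X n) ≃ₗ[A] (Qn A n →ₗ[A] XN c.I N) :=
  c.aEq N n ≪≫ₗ (swapEquiv c.I (sN N) (sN (Qn A n))).symm ≪≫ₗ c.bEq N hN n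

lemma gEq_compat (n n' : ℕ) (h : n ≤ n') (φ : N →ₗ[A] c.X n) :
    c.gEq N hN n' (c.tX n n' h ∘ₗ φ) = c.gEq N hN n φ ∘ₗ πL n n' h := by
  show c.bEq N hN n' ((swapEquiv c.I (sN N) (sN (Qn A n'))).symm
      (c.aEq N n' (c.tX n n' h ∘ₗ φ))) =
    c.bEq N hN n ((swapEquiv c.I (sN N) (sN (Qn A n))).symm (c.aEq N n φ)) ∘ₗ πL n n' h
  rw [aEq_compat, ← bEq_compat]
  congr 1
  rw [LinearEquiv.symm_apply_eq, swap_natural, LinearEquiv.apply_symm_apply]
  rfl

variable (n₀ : ℕ) (hkill : ∀ a ∈ maximalIdeal A ^ n₀, ∀ y : N, a • y = 0)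

include hkill in
lemma XN_killed_pow (n : ℕ) (hn₀ : n₀ ≤ n) (a : A) (ha : a ∈ maximalIdeal A ^ n)
    (w : XN c.I N) : a • w = 0 :=
  XN_killed c.I a (hkill a (Ideal.pow_le_pow_right hn₀ ha)) w

/-- `Hom(N, X n) ≃ H^0(D N)` for `n` large -/
noncomputable def wEq (n : ℕ) (hn₀ : n₀ ≤ n) : (N →ₗ[A] c.X n) ≃ₗ[A] XN c.I N :=
  c.gEq N hN n ≪≫ₗ quotHomEquiv (maximalIdeal A ^ n) (XN c.I N)
    (c.XN_killed_pow N n₀ hkill n hn₀)

lemma wEq_compat (n n' : ℕ) (hn₀ : n₀ ≤ n) (h : n ≤ n') (φ : N →ₗ[A] c.X n) :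
    c.wEq N hN n₀ hkill n' (hn₀.trans h) (c.tX n n' h ∘ₗ φ) = c.wEq N hN n₀ hkill n hn₀ φ := by
  show quotHomEquiv (maximalIdeal A ^ n') (XN c.I N)
      (c.XN_killed_pow N n₀ hkill n' (hn₀.trans h)) (c.gEq N hN n' (c.tX n n' h ∘ₗ φ)) =
    quotHomEquiv (maximalIdeal A ^ n) (XN c.I N) (c.XN_killed_pow N n₀ hkill n hn₀)
      (c.gEq N hN n φ)
  rw [gEq_compat, quotHomEquiv_apply, quotHomEquiv_apply, LinearMap.comp_apply, πL_one]

/-- the comparison map `H^0(D N) → Hom(N, Einf)` -/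
noncomputable def PhiN : XN c.I N →ₗ[A] (N →ₗ[A] c.Einf) :=
  (LinearMap.compRight A (Module.DirectLimit.of A ℕ c.X c.tX n₀)) ∘ₗ
    (c.wEq N hN n₀ hkill n₀ le_rfl).symm.toLinearMap

theorem PhiN_bijective [Module.Finite A N] : Function.Bijective (c.PhiN N hN n₀ hkill) := by
  constructor
  · rw [injective_iff_map_eq_zero]
    intro w hw
    set φ := (c.wEq N hN n₀ hkill n₀ le_rfl).symm w with hφ
    have h0 : c.MS.ι n₀ ∘ₗ φ = 0 := hw
    obtain ⟨n', hn', h1⟩ := c.MS.K0 N n₀ φ h0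
    have h2 := c.wEq_compat N hN n₀ hkill n₀ n' le_rfl hn' φ
    rw [show c.tX n₀ n' hn' ∘ₗ φ = 0 from h1, map_zero, hφ, LinearEquiv.apply_symm_apply] at h2
    exact h2.symm
  · intro g
    obtain ⟨n₁, φ₁, hφ₁⟩ := c.MS.S0 N g
    -- push to a stage beyond `n₀`
    let n := max n₀ n₁
    let φ : N →ₗ[A] c.X n := c.tX n₁ n (le_max_right _ _) ∘ₗ φ₁
    have hφg : c.MS.ι n ∘ₗ φ = g := by
      rw [← hφ₁]
      apply LinearMap.ext
      intro y
      exact c.MS.ι_t n₁ n (le_max_right _ _) (φ₁ y)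
    let w := c.wEq N hN n₀ hkill n (le_max_left _ _) φ
    refine ⟨w, ?_⟩
    set φ₀ := (c.wEq N hN n₀ hkill n₀ le_rfl).symm w with hφ₀
    have h2 := c.wEq_compat N hN n₀ hkill n₀ n le_rfl (le_max_left _ _) φ₀
    rw [hφ₀, LinearEquiv.apply_symm_apply] at h2
    have h3 : c.tX n₀ n (le_max_left _ _) ∘ₗ φ₀ = φ :=
      (c.wEq N hN n₀ hkill n (le_max_left _ _)).injective h2
    show c.MS.ι n₀ ∘ₗ φ₀ = g
    rw [← hφg, ← h3]
    apply LinearMap.ext
    intro y
    exact (c.MS.ι_t n₀ n (le_max_left _ _) (φ₀ y)).symm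

/-- **`Hom(N, Einf) ≃ H^0(D N)` for `N` of finite length.** -/
noncomputable def homEinfEquiv [Module.Finite A N] : (N →ₗ[A] c.Einf) ≃ₗ[A] XN c.I N :=
  (LinearEquiv.ofBijective (c.PhiN N hN n₀ hkill) (c.PhiN_bijective N hN n₀ hkill)).symm

end finlen

/-- **The colimit is an injective hull of the residue field.** -/
theorem exists_hull : ∃ f : ResidueField A →ₗ[A] c.Einf, InjHull.IsInjectiveHull f := by
  haveI : Module.Finite A (ResidueField A) :=
    Module.Finite.of_surjective (Algebra.linearMap A (ResidueField A)) residue_surjective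
  have hκ : IsFiniteLength A (ResidueField A) :=
    Groth.Agent.Helper6.Matlis.isFiniteLength_quot_of_pow_le (maximalIdeal A) 1
      (by rw [pow_one])
  have hκkill : ∀ a ∈ maximalIdeal A ^ 1, ∀ y : ResidueField A, a • y = 0 := fun a ha y =>
    Groth.Agent.Helper6.DK.quot_killed (maximalIdeal A) a (by rwa [pow_one] at ha) y
  obtain ⟨φκ⟩ := hom_residue_normalized c.ω c.hω c.hn
  refine Groth.Agent.Helper6.Matlis.exists_isInjectiveHull_of_length c.Einf c.Einf_powerTorsion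
    ⟨c.homEinfEquiv (ResidueField A) hκ 1 hκkill ≪≫ₗ hdDN c.I c.ω c.e (ResidueField A) 0 ≪≫ₗ
      Linear.homCongr A (Iso.refl _) ((shiftFunctorZero (Dual.D A) ℤ).app c.ω) ≪≫ₗ φκ⟩
    (fun n => maximalIdeal A ^ n) (fun n => ⟨n, le_rfl⟩) (fun N => ⟨N, le_rfl⟩) (fun n => ?_)
  rw [(c.homEinfEquiv (Qn A n) (hQ n) n (Qn_killed n)).length_eq,
    length_XN c.I c.ω c.e c.hω c.hn (Qn A n) (hQ n)]

/-- the colimit is injective -/
theorem injective_Einf : Module.Injective A c.Einf := by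
  obtain ⟨f, hf⟩ := c.exists_hull
  exact hf.isInjective

/-- the colimit is isomorphic to any injective hull of the residue field -/
theorem nonempty_Einf_equiv (E : Type u) [AddCommGroup E] [Module A E]
    (f : ResidueField A →ₗ[A] E) (hf : InjHull.IsInjectiveHull f) :
    Nonempty (c.Einf ≃ₗ[A] E) := by
  obtain ⟨f', hf'⟩ := c.exists_hull
  obtain ⟨e, -⟩ := Groth.Agent.S0302.result A (ResidueField A) c.Einf E f' hf' f hf
  exact ⟨e⟩

end Ctx

end Groth.Agent.Helper6.LcD
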