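import Mathlib
import Groth.Prelude.Def_DRing4
import Groth.Prelude.Def_DualLC
import Groth.Agent.Helper6.LcD3
import Groth.Agent.Helper6.LcD4
import Groth.Agent.Helper6.LcD6
import Groth.Agent.Helper6.LcD7
import Groth.Agent.Helper6.BiD9
import Groth.Agent.Helper6.DualFun3
import Groth.Agent.Helper6.Coext4

/-!
# Local duality for complexes: `H^i_m(K) ≃ Hom_A(Ext^{-i}(K, ω), E)`
-/

set_option autoImplicit false
set_option linter.style.haveILetI false
set_option linter.unusedSectionVars false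

universe u
open CategoryTheory CategoryTheory.Limits Pretriangulated DerivedCategory
attribute [local instance] HasDerivedCategory.standard

namespace Groth.Agent.Helper6.LcD
open Groth.Agent.Helper3.DRingLib Groth.Agent.Helper6.DualFun Groth.Agent.Helper6.DualCx
  Groth.Agent.Helper6.BiD Groth.Agent.Helper6.LD Groth.Agent.Helper6.HomCxPre IsLocalRing

variable {A : Type u} [CommRing A] [IsLocalRing A] [IsNoetherianRing A]

theorem core_equiv (c : Ctx A) (a b : ℤ) (hv : DRing.VanishesOutside c.I a b)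
    (hinj : DRing.TermwiseInjective c.I)
    (hend : Function.Bijective (fun x : A => x • 𝟙 (DRing.toD c.I)))
    (hext : ∀ i : ℤ, i ≠ 0 → Subsingleton (DRing.toD c.I ⟶ (DRing.toD c.I)⟦i⟧))
    (K : Dual.D A) (i : ℤ) (P : DRing.Cx A) (eP : DRing.toD P ≅ K⟦i⟧)
    (hPfin : ∀ j : ℤ, Module.Finite A (Dual.HD A (DRing.toD P) j))
    (aP bP : ℤ) [(DRing.toD P).IsGE aP] [(DRing.toD P).IsLE bP] :
    Nonempty (Dual2.HDI A (maximalIdeal A) K i ≃ₗ[A]
      (Dual.HD A (DRing.toD (DRing.homCx P c.I)) 0 →ₗ[A] c.Einf)) := by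
  set Y₀ : DRing.Cx A := DRing.homCx P c.I with hY₀
  set Y : Dual.D A := Q.obj Y₀ with hY
  haveI hqi : QuasiIso (eta P c.I) := quasiIso_eta c.I a b hv hinj hend hext P hPfin
  haveI : IsIso (Q.map (eta P c.I)) :=
    (DerivedCategory.isIso_Q_map_iff_quasiIso (φ := eta P c.I)).mpr hqi
  let isoη : DRing.toD P ≅ Q.obj (DRing.homCx Y₀ c.I) := asIso (Q.map (eta P c.I))
  -- `Y` is bounded with finite cohomology
  haveI i1 : (DRing.toD Y₀).IsGE (a - bP) := isGE_D_of_isLE c.I a b hv hinj P bP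
  haveI i2 : (DRing.toD Y₀).IsLE (b - aP) := isLE_D_of_isGE c.I a b hv hinj P aP
  have hYb : ∃ a' b' : ℤ, ∀ j : ℤ, (j < a' ∨ b' < j) → Subsingleton (Dual.HD A Y j) := by
    refine ⟨a - bP, b - aP, fun j hj => ?_⟩
    rcases hj with hj | hj
    · exact ModuleCat.subsingleton_of_isZero ((DRing.toD Y₀).isZero_of_isGE (a - bP) j hj)
    · exact ModuleCat.subsingleton_of_isZero ((DRing.toD Y₀).isZero_of_isLE (b - aP) j hj)
  have hIfin : ∀ j : ℤ, Module.Finite A (Dual.HD A (DRing.toD c.I) j) := fun j => by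
    haveI := c.hω.finite_cohomology j
    exact Module.Finite.equiv
      ((homologyFunctor (ModuleCat.{u} A) j).mapIso c.e).toLinearEquiv.symm
  have hYfin : ∀ j : ℤ, Module.Finite A (Dual.HD A Y j) := fun j => by
    haveI : Module.Finite A (DRing.toD P ⟶ (DRing.toD c.I)⟦j⟧) :=
      Groth.Agent.Helper6.DFinExt.main (DRing.toD P) (DRing.toD c.I) hPfin hIfin
        ⟨a, b, c.I, hv, hinj, ⟨Iso.refl _⟩⟩ j
    exact Module.Finite.equiv (Psi' P c.I j).symm
  haveI : Module.Injective A c.MS.Einf := c.injective_Einf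
  haveI : Module.Injective A c.Einf := c.injective_Einf
  have hP0 := P_of_bounded c.MS Y hYb hYfin 0
  let sX : ∀ (n n' : ℕ) (_ : n ≤ n'), Dual.inD A (c.X n) ⟶ Dual.inD A (c.X n') := fun n n' h =>
    (singleFunctor (ModuleCat.{u} A) 0).map (ModuleCat.ofHom (c.tX n n' h))
  let σX : ∀ n : ℕ, Dual.inD A (c.X n) ⟶ Dual.inD A c.Einf := fun n =>
    (singleFunctor (ModuleCat.{u} A) 0).map
      (ModuleCat.ofHom (Module.DirectLimit.of A ℕ c.X c.tX n))
  have hσs : ∀ (n n' : ℕ) (h : n ≤ n'), sX n n' h ≫ σX n' = σX n := c.MS.toSys.σ_s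
  have hPS : ∀ t : Y ⟶ Dual.inD A c.Einf, ∃ (n : ℕ) (g : Y ⟶ Dual.inD A (c.X n)),
      g ≫ σX n = t :=
    c.MS.toSys.PS_of_iso ((shiftFunctorZero (Dual.D A) ℤ).app Y) hP0.1
  have hPK : ∀ (n : ℕ) (g : Y ⟶ Dual.inD A (c.X n)), g ≫ σX n = 0 →
      ∃ (n' : ℕ) (h : n ≤ n'), g ≫ sX n n' h = 0 :=
    c.MS.toSys.PK_of_iso ((shiftFunctorZero (Dual.D A) ℤ).app Y) hP0.2
  -- the comparison at finite level
  let α : ∀ n : ℕ, GH (maximalIdeal A) K i n ≃ₗ[A] (Y ⟶ c.Z n) := fun n =>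
    Linear.homCongr A (cN (Qn A n)) (eP.symm ≪≫ isoη) ≪≫ₗ swapEquiv c.I Y₀ (sN (Qn A n))
  have hα : ∀ (n n' : ℕ) (h : n ≤ n') (y : GH (maximalIdeal A) K i n),
      α n' (gmap (maximalIdeal A) K i n n' h y) = α n y ≫ c.τ n n' h := by
    intro n n' h y
    show swapEquiv c.I Y₀ (sN (Qn A n')) (((cN (Qn A n')).inv ≫
        ((singleFunctor (ModuleCat.{u} A) 0).map (ModuleCat.ofHom (πL n n' h)) ≫ y)) ≫
          (eP.symm ≪≫ isoη).hom) =
      swapEquiv c.I Y₀ (sN (Qn A n)) (((cN (Qn A n)).inv ≫ y) ≫ (eP.symm ≪≫ isoη).hom) ≫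
        Q.map (homCxPre (sMap (πL n n' h)) c.I)
    rw [← swap_natural]
    congr 1
    have h1 : (cN (Qn A n')).inv ≫
        (singleFunctor (ModuleCat.{u} A) 0).map (ModuleCat.ofHom (πL n n' h)) =
        Q.map (sMap (πL n n' h)) ≫ (cN (Qn A n)).inv := by
      rw [Iso.inv_comp_eq, ← Category.assoc, ← cN_naturality, Category.assoc, Iso.hom_inv_id,
        Category.comp_id]
    simp only [Category.assoc]
    rw [← Category.assoc (cN (Qn A n')).inv, h1, Category.assoc]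
  let ψ : ∀ n : ℕ, GH (maximalIdeal A) K i n →ₗ[A] (Y ⟶ Dual.inD A c.Einf) := fun n =>
    (Linear.rightComp A Y ((c.eZ n).hom ≫ σX n)) ∘ₗ (α n).toLinearMap
  have hψa : ∀ (n : ℕ) (y : GH (maximalIdeal A) K i n),
      ψ n y = α n y ≫ (c.eZ n).hom ≫ σX n := fun n y => rfl
  have hτ : ∀ (n n' : ℕ) (h : n ≤ n'),
      c.τ n n' h ≫ (c.eZ n').hom = (c.eZ n).hom ≫ sX n n' h := by
    intro n n' h
    have := c.inD_tX n n' h
    rw [inDHomEquiv_apply] at this
    show _ = (c.eZ n).hom ≫ (singleFunctor (ModuleCat.{u} A) 0).map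
      (ModuleCat.ofHom (c.tX n n' h))
    rw [this, Iso.hom_inv_id_assoc]
  have hψ : ∀ (n n' : ℕ) (h : n ≤ n') (y : GH (maximalIdeal A) K i n),
      ψ n' (gmap (maximalIdeal A) K i n n' h y) = ψ n y := by
    intro n n' h y
    rw [hψa, hψa, hα, Category.assoc, ← Category.assoc (c.τ n n' h), hτ, Category.assoc,
      hσs]
  have hsurj : ∀ t : Y ⟶ Dual.inD A c.Einf,
      ∃ (n : ℕ) (y : GH (maximalIdeal A) K i n), ψ n y = t := by
    intro t
    obtain ⟨n, g, hg⟩ := hPS t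
    refine ⟨n, (α n).symm (g ≫ (c.eZ n).inv), ?_⟩
    rw [hψa, LinearEquiv.apply_symm_apply, Category.assoc, Iso.inv_hom_id_assoc]
    exact hg
  have hker : ∀ (n : ℕ) (y : GH (maximalIdeal A) K i n), ψ n y = 0 →
      ∃ (n' : ℕ) (h : n ≤ n'), gmap (maximalIdeal A) K i n n' h y = 0 := by
    intro n y hy
    rw [hψa, ← Category.assoc] at hy
    obtain ⟨n', h, h0⟩ := hPK n (α n y ≫ (c.eZ n).hom) hy
    refine ⟨n', h, ?_⟩
    apply (α n').injective
    rw [hα, map_zero]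
    rw [Category.assoc, ← hτ, ← Category.assoc] at h0
    have h1 : ((α n y ≫ c.τ n n' h) ≫ (c.eZ n').hom) ≫ (c.eZ n').inv = 0 := by
      rw [h0, zero_comp]
    rwa [Category.assoc, Iso.hom_inv_id, Category.comp_id] at h1
  exact ⟨LinearEquiv.ofBijective (hdiDesc (maximalIdeal A) K i ψ hψ)
    (hdiDesc_bijective (maximalIdeal A) K i ψ hψ hsurj hker) ≪≫ₗ barEquiv c.Einf Y⟩


/-- **Local duality** for a bounded complex with finite cohomology. -/
theorem main (ω : Dual.D A) (hω : Dual.IsDualizing A ω) (hn : Dual.IsNormalized A ω)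
    (E : Type u) [AddCommGroup E] [Module A E] (f : ResidueField A →ₗ[A] E)
    (hf : InjHull.IsInjectiveHull f) (K : Dual.D A)
    (hb : ∃ a b : ℤ, ∀ j : ℤ, (j < a ∨ b < j) → Subsingleton (Dual.HD A K j))
    (hfin : ∀ j : ℤ, Module.Finite A (Dual.HD A K j)) (i : ℤ) :
    Nonempty (Dual2.HDI A (maximalIdeal A) K i ≃ₗ[A] ((K ⟶ ω⟦-i⟧) →ₗ[A] E)) := by
  obtain ⟨I, a, b, hv, hinj, hKI, ⟨e⟩, hend, hext⟩ := exists_dualizing_rep ω hω
  let c : Ctx A := ⟨ω, hω, hn, I, hKI, e⟩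
  obtain ⟨aK, bK, hab⟩ := hb
  haveI : K.IsGE aK := isGE_of_HD K aK (fun j hj => hab j (Or.inl hj))
  haveI : K.IsLE bK := isLE_of_HD K bK (fun j hj => hab j (Or.inr hj))
  haveI : (K⟦i⟧).IsGE (aK - i) := TStructure.t.isGE_shift K aK i (aK - i) (by omega)
  haveI : (K⟦i⟧).IsLE (bK - i) := TStructure.t.isLE_shift K bK i (bK - i) (by omega)
  let P : DRing.Cx A := DerivedCategory.Q.objPreimage (K⟦i⟧)
  let eP : DRing.toD P ≅ K⟦i⟧ := DerivedCategory.Q.objObjPreimageIso (K⟦i⟧)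
  haveI : (DRing.toD P).IsGE (aK - i) := TStructure.t.isGE_of_iso eP.symm (aK - i)
  haveI : (DRing.toD P).IsLE (bK - i) := TStructure.t.isLE_of_iso eP.symm (bK - i)
  have hPfin : ∀ j : ℤ, Module.Finite A (Dual.HD A (DRing.toD P) j) := fun j => by
    haveI := hfin (i + j)
    exact Module.Finite.equiv
      (((homologyFunctor (ModuleCat.{u} A) j).mapIso eP).toLinearEquiv ≪≫ₗ
        Groth.Agent.Helper6.Coext.hdShift K i j (i + j) rfl).symm
  obtain ⟨Φ⟩ := core_equiv c a b hv hinj hend hext K i P eP hPfin (aK - i) (bK - i)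
  obtain ⟨eE⟩ := c.nonempty_Einf_equiv E f hf
  let e1 : Dual.HD A (DRing.toD (DRing.homCx P c.I)) 0 ≃ₗ[A] (K ⟶ ω⟦-i⟧) :=
    Psi' P I 0 ≪≫ₗ
      Linear.homCongr A eP ((CategoryTheory.shiftFunctor (Dual.D A) (0 : ℤ)).mapIso e ≪≫
        (shiftFunctorZero (Dual.D A) ℤ).app ω) ≪≫ₗ
      shiftHomEquiv' K ω i
  exact ⟨Φ ≪≫ₗ LinearEquiv.arrowCongr e1 eE⟩

end Groth.Agent.Helper6.LcD
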