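import Mathlib
import Groth.Prelude.Def_DTen

universe u
open CategoryTheory CategoryTheory.Limits MonoidalCategory
attribute [local instance] HasDerivedCategory.standard

namespace Groth.Agent.Helper6.DTenSymm
open DTen

variable {A : Type u} [CommRing A]

/-- `braidCx` is an involution -/
theorem braidCx_invol (K L : DRing.Cx A) : (braidCx K L).hom ≫ (braidCx L K).hom = 𝟙 _ := by
  refine HomologicalComplex.hom_ext _ _ (fun n => HomologicalComplex.mapBifunctor.hom_ext (fun p q h => ?_))
  rw [HomologicalComplex.comp_f]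
  erw [ι_braidCx_hom_assoc K L p q n h]
  simp only [Linear.units_smul_comp, Category.assoc]
  erw [ι_braidCx_hom L K q p n (by dsimp at h; omega)]
  simp only [Linear.units_smul_comp, Linear.comp_units_smul, Category.assoc, smul_smul]
  rw [mul_comm q p, Int.units_mul_self, one_smul, SymmetricCategory.symmetry_assoc,
    HomologicalComplex.id_f]
  exact (Category.comp_id _).symm

variable (A) [HasLTen A]

/-- the double symmetry as an endomorphism of `LTen₂` -/
noncomputable def τ : LTen₂ A ⟶ LTen₂ A where
  app X := (symm A).app (X.2, X.1) ≫ (symm A).app X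
  naturality X Y f := by
    have h1 := (symm A).naturality f
    have h2 := (symm A).naturality (X := (X.2, X.1)) (Y := (Y.2, Y.1)) (f.2, f.1)
    have e1 : (CategoryTheory.Prod.swap _ _ ⋙ LTen₂ A).map f = (LTen₂ A).map (X := (X.2, X.1)) (Y := (Y.2, Y.1)) (f.2, f.1) := rfl
    have e2 : (CategoryTheory.Prod.swap _ _ ⋙ LTen₂ A).map (X := (X.2, X.1)) (Y := (Y.2, Y.1)) (f.2, f.1) = (LTen₂ A).map f := rfl
    rw [e1] at h1
    rw [e2] at h2
    rw [Category.assoc, ← h1, ← Category.assoc, ← Category.assoc, h2]

theorem τ_eq_id : τ A = 𝟙 _ := by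
  apply (LTen₂ A).leftDerived_ext (ε A) (qis₂ A)
  ext ⟨K, L⟩
  simp only [NatTrans.comp_app, Functor.whiskerLeft_app, NatTrans.id_app, Category.id_comp]
  show ((symm A).app (DerivedCategory.Q.obj L, DerivedCategory.Q.obj K) ≫
    (symm A).app (DerivedCategory.Q.obj K, DerivedCategory.Q.obj L)) ≫ (ε A).app (K, L) = _
  rw [Category.assoc, symm_fac A K L, ← Category.assoc, symm_fac A L K, Category.assoc, ← Functor.map_comp,
    braidCx_invol]
  erw [CategoryTheory.Functor.map_id, Category.comp_id, Category.id_comp]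

theorem main (K L : Dual.D A) : IsIso ((symm A).app (K, L)) := by
  have h1 : (symm A).app (L, K) ≫ (symm A).app (K, L) = 𝟙 _ := by
    have := congrArg (fun t => t.app (K, L)) (τ_eq_id A)
    exact this
  have h2 : (symm A).app (K, L) ≫ (symm A).app (L, K) = 𝟙 _ := by
    have := congrArg (fun t => t.app (L, K)) (τ_eq_id A)
    exact this
  exact ⟨⟨(symm A).app (L, K), h2, h1⟩⟩

end Groth.Agent.Helper6.DTenSymm
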