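import Mathlib

/-! Abstract dévissage: a natural transformation between "mid-exact" functors on a pretriangulated
category is an isomorphism on the middle term of a distinguished triangle as soon as it is on the
neighbouring terms (five lemma, via Yoneda). -/

set_option autoImplicit false
universe v₁ v₂ u₁ u₂
open CategoryTheory CategoryTheory.Limits Pretriangulated

namespace Groth.Agent.Helper6.DTenX

variable {D : Type u₁} [Category.{v₁} D] [HasZeroObject D] [HasShift D ℤ] [Preadditive D]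
  [∀ n : ℤ, (shiftFunctor D n).Additive] [Pretriangulated D]
variable {E : Type u₂} [Category.{v₂} E] [Preadditive E]

/-- `F` is mid-exact at the triangle `T` (in the Yoneda sense). -/
def MidExactAt (F : D ⥤ E) (T : Triangle D) : Prop :=
  ∀ (W : E) (g : W ⟶ F.obj T.obj₂), g ≫ F.map T.mor₂ = 0 →
    ∃ h : W ⟶ F.obj T.obj₁, h ≫ F.map T.mor₁ = g

/-- `F` is mid-exact: `Hom(W, F -)` is exact in the middle on distinguished triangles. -/
def MidExact (F : D ⥤ E) : Prop := ∀ T ∈ distTriang D, MidExactAt F T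

lemma MidExactAt.of_iso {F : D ⥤ E} {T T' : Triangle D} (e : T ≅ T') (h : MidExactAt F T') :
    MidExactAt F T := by
  intro W g hg
  have h2 : e.hom.hom₂ ≫ T'.mor₂ = T.mor₂ ≫ e.hom.hom₃ := e.hom.comm₂.symm
  have h1 : e.inv.hom₁ ≫ T.mor₁ = T'.mor₁ ≫ e.inv.hom₂ := e.inv.comm₁.symm
  obtain ⟨h', hh'⟩ := h W (g ≫ F.map e.hom.hom₂) (by
    rw [Category.assoc, ← F.map_comp, h2, F.map_comp, reassoc_of% hg, zero_comp])
  refine ⟨h' ≫ F.map e.inv.hom₁, ?_⟩
  rw [Category.assoc, ← F.map_comp, h1, F.map_comp, reassoc_of% hh',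
    ← F.map_comp]
  have : e.hom.hom₂ ≫ e.inv.hom₂ = 𝟙 _ := by
    rw [← comp_hom₂, e.hom_inv_id]; rfl
  rw [this, F.map_id, Category.comp_id]

lemma MidExactAt.of_natIso {F F' : D ⥤ E} (α : F ≅ F') {T : Triangle D} (h : MidExactAt F' T) :
    MidExactAt F T := by
  intro W g hg
  obtain ⟨h', hh'⟩ := h W (g ≫ α.hom.app _) (by
    rw [Category.assoc, ← α.hom.naturality, reassoc_of% hg, zero_comp])
  refine ⟨h' ≫ α.inv.app _, ?_⟩
  rw [Category.assoc, ← α.inv.naturality, reassoc_of% hh', Iso.hom_inv_id_app, Category.comp_id]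

lemma MidExact.of_natIso {F F' : D ⥤ E} (α : F ≅ F') (h : MidExact F') : MidExact F :=
  fun T hT => (h T hT).of_natIso α

/-- composing a mid-exact functor with a right adjoint gives a mid-exact functor -/
lemma MidExact.comp_rightAdjoint {E' : Type*} [Category E'] [Preadditive E']
    {F : D ⥤ E} (hF : MidExact F) {L : E' ⥤ E} {R : E ⥤ E'} (adj : L ⊣ R)
    [L.PreservesZeroMorphisms] : MidExact (F ⋙ R) := by
  intro T hT W g hg
  obtain ⟨h, hh⟩ := hF T hT (L.obj W) ((adj.homEquiv _ _).symm g) (by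
    rw [← Adjunction.homEquiv_naturality_right_symm]
    erw [hg]
    rw [Adjunction.homEquiv_counit, L.map_zero, zero_comp])
  refine ⟨adj.homEquiv _ _ h, ?_⟩
  erw [← Adjunction.homEquiv_naturality_right]
  rw [hh, Equiv.apply_symm_apply]

variable {F G : D ⥤ E} [F.PreservesZeroMorphisms] [G.PreservesZeroMorphisms]

/-- Five lemma. -/
theorem isIso_app_obj₂ (η : F ⟶ G) (hF : MidExact F) (hG : MidExact G)
    (T : Triangle D) (hT : T ∈ distTriang D)
    (h1 : IsIso (η.app T.obj₁)) (h3 : IsIso (η.app T.obj₃))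
    (h1' : IsIso (η.app (T.obj₁⟦(1 : ℤ)⟧))) (h3' : IsIso (η.app (T.obj₃⟦(-1 : ℤ)⟧))) :
    IsIso (η.app T.obj₂) := by
  haveI := h1
  haveI := h3
  haveI := h1'
  haveI := h3'
  have hTr : T.rotate ∈ distTriang D := rot_of_distTriang _ hT
  have hTi : T.invRotate ∈ distTriang D := inv_rot_of_distTriang _ hT
  apply isIso_of_yoneda_map_bijective
  intro W
  constructor
  · -- injectivity
    intro a₁ a₂ h12
    dsimp at h12
    have key : ∀ a : W ⟶ F.obj T.obj₂, a ≫ η.app T.obj₂ = 0 → a = 0 := by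
      intro a ha
      have e1 : a ≫ F.map T.mor₂ = 0 := by
        rw [← cancel_mono (η.app T.obj₃), Category.assoc, η.naturality, reassoc_of% ha,
          zero_comp, zero_comp]
      obtain ⟨b, hb⟩ := hF T hT W a e1
      have e2 : (b ≫ η.app T.obj₁) ≫ G.map T.mor₁ = 0 := by
        rw [Category.assoc, ← η.naturality, reassoc_of% hb, ha]
      obtain ⟨c', hc'⟩ := hG T.invRotate hTi W (b ≫ η.app T.obj₁) e2
      obtain ⟨m, hm⟩ : ∃ m : T.obj₃⟦(-1 : ℤ)⟧ ⟶ T.obj₁, m = T.invRotate.mor₁ := ⟨_, rfl⟩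
      obtain ⟨c'', hc''⟩ : ∃ c'' : W ⟶ G.obj (T.obj₃⟦(-1 : ℤ)⟧), c'' = c' := ⟨_, rfl⟩
      have hc'2 : c'' ≫ G.map m = b ≫ η.app T.obj₁ := by rw [hc'', hm]; exact hc'
      have hc : (c'' ≫ inv (η.app (T.obj₃⟦(-1 : ℤ)⟧)) ≫ F.map m) ≫ η.app T.obj₁ =
          b ≫ η.app T.obj₁ := by
        rw [Category.assoc, Category.assoc, η.naturality, IsIso.inv_hom_id_assoc]
        exact hc'2
      have hb' : b = c'' ≫ inv (η.app (T.obj₃⟦(-1 : ℤ)⟧)) ≫ F.map m :=
        ((cancel_mono (η.app T.obj₁)).mp hc).symm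
      rw [← hb, hb', Category.assoc, Category.assoc]
      have hz : m ≫ T.mor₁ = 0 := by rw [hm]; exact comp_distTriang_mor_zero₁₂ _ hTi
      rw [← F.map_comp, hz, F.map_zero, comp_zero, comp_zero]
    have := key (a₁ - a₂) (by rw [Preadditive.sub_comp, h12, sub_self])
    exact sub_eq_zero.mp this
  · -- surjectivity
    intro a'
    obtain ⟨d, hd⟩ : ∃ d : W ⟶ F.obj T.obj₃, d = a' ≫ G.map T.mor₂ ≫ inv (η.app T.obj₃) :=
      ⟨_, rfl⟩
    have e1 : d ≫ F.map T.mor₃ = 0 := by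
      rw [hd, ← cancel_mono (η.app (T.obj₁⟦(1 : ℤ)⟧)), Category.assoc, Category.assoc,
        Category.assoc,
        η.naturality, IsIso.inv_hom_id_assoc, ← G.map_comp,
        comp_distTriang_mor_zero₂₃ _ hT, G.map_zero, comp_zero, zero_comp]
    obtain ⟨a, ha2⟩ : ∃ a : W ⟶ F.obj T.obj₂, a ≫ F.map T.mor₂ = d := hF T.rotate hTr W d e1
    have e2 : (a ≫ η.app T.obj₂ - a') ≫ G.map T.mor₂ = 0 := by
      rw [Preadditive.sub_comp, Category.assoc, ← η.naturality, reassoc_of% ha2, hd,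
        Category.assoc, Category.assoc, IsIso.inv_hom_id, Category.comp_id, sub_self]
    obtain ⟨b', hb'⟩ := hG T hT W _ e2
    refine ⟨a - b' ≫ inv (η.app T.obj₁) ≫ F.map T.mor₁, ?_⟩
    dsimp
    rw [Preadditive.sub_comp, Category.assoc, Category.assoc, η.naturality,
      IsIso.inv_hom_id_assoc, hb']
    abel

/-- retract closure -/
theorem isIso_app_of_retract (η : F ⟶ G) {X Y : D} (i : X ⟶ Y) (r : Y ⟶ X) (hir : i ≫ r = 𝟙 X)
    (hY : IsIso (η.app Y)) : IsIso (η.app X) := by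
  haveI := hY
  refine ⟨⟨G.map i ≫ inv (η.app Y) ≫ F.map r, ?_, ?_⟩⟩
  · rw [← η.naturality_assoc, IsIso.hom_inv_id_assoc, ← F.map_comp, hir, F.map_id]
  · rw [Category.assoc, Category.assoc, η.naturality, IsIso.inv_hom_id_assoc, ← G.map_comp, hir,
      G.map_id]

/-- zero objects -/
theorem isIso_app_of_isZero (η : F ⟶ G) {X : D} (hX : IsZero X) : IsIso (η.app X) := by
  have hF : IsZero (F.obj X) := F.map_isZero hX
  have hG : IsZero (G.obj X) := G.map_isZero hX
  exact ⟨⟨0, hF.eq_of_src _ _, hG.eq_of_src _ _⟩⟩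

end Groth.Agent.Helper6.DTenX
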