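import Mathlib
import Groth.Prelude.Def_DDual2
import Groth.Agent.Helper6.KProjQ
import Groth.Agent.Helper6.KanCounit2

set_option autoImplicit false

/-!
# Jointly derived trifunctors are computed at triples of K-projective complexes
-/

open CategoryTheory CategoryTheory.Limits DerivedCategory

universe w v u

attribute [local instance] HasDerivedCategory.standard

namespace Groth.Agent.Helper6.ProdCounit3

variable (R₁ R₂ R₃ : Type u) [CommRing R₁] [CommRing R₂] [CommRing R₃]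

/-- the product localization functor -/
noncomputable abbrev QQQ' : DRing.Cx R₁ × (DRing.Cx R₂ × DRing.Cx R₃) ⥤
    Dual.D R₁ × (Dual.D R₂ × Dual.D R₃) :=
  DerivedCategory.Q.prod (DerivedCategory.Q.prod DerivedCategory.Q)

variable {R₁ R₂ R₃} {H : Type w} [Category.{v} H]
  [∀ J : Type u, HasColimitsOfShape (Discrete J) H]
  (F : DRing.Cx R₁ × (DRing.Cx R₂ × DRing.Cx R₃) ⥤ H)
  (LF : Dual.D R₁ × (Dual.D R₂ × Dual.D R₃) ⥤ H)
  (α : QQQ' R₁ R₂ R₃ ⋙ LF ⟶ F) [LF.IsRightKanExtension α]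

/-- homotopy invariance of a functor of triples of complexes -/
def HtpyInv₃ : Prop :=
  ∀ ⦃X Y : DRing.Cx R₁ × (DRing.Cx R₂ × DRing.Cx R₃)⦄ (f g : X ⟶ Y),
    Nonempty (Homotopy f.1 g.1) → Nonempty (Homotopy f.2.1 g.2.1) →
      Nonempty (Homotopy f.2.2 g.2.2) → F.map f = F.map g

variable (P₁ : DRing.Cx R₁) (P₂ : DRing.Cx R₂) (P₃ : DRing.Cx R₃)
  [P₁.IsKProjective] [P₂.IsKProjective] [P₃.IsKProjective]

lemma small_hom (Y : Dual.D R₁ × (Dual.D R₂ × Dual.D R₃)) :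
    Small.{u} ((QQQ' R₁ R₂ R₃).obj (P₁, (P₂, P₃)) ⟶ Y) := by
  haveI := KProjQ.small_hom P₁ Y.1
  haveI := KProjQ.small_hom P₂ Y.2.1
  haveI := KProjQ.small_hom P₃ Y.2.2
  show Small.{u} ((Q.obj P₁ ⟶ Y.1) × ((Q.obj P₂ ⟶ Y.2.1) × (Q.obj P₃ ⟶ Y.2.2)))
  infer_instance

include α in
theorem isIso_app (hF : HtpyInv₃ F) : IsIso (α.app (P₁, (P₂, P₃))) := by
  have hs := small_hom P₁ P₂ P₃
  refine Groth.Agent.Helper6.KanCounit2.isIso_app (QQQ' R₁ R₂ R₃) F LF α (P₁, (P₂, P₃))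
    (fun Y => Shrink.{u} ((QQQ' R₁ R₂ R₃).obj (P₁, (P₂, P₃)) ⟶ Y))
    (fun Y => (equivShrink _).symm) ?_ ?_
  · rintro ⟨X₁, X₂, X₃⟩ ⟨t₁, t₂, t₃⟩
    obtain ⟨f₁, hf₁⟩ := KProjQ.Q_map_surjective P₁ X₁ t₁
    obtain ⟨f₂, hf₂⟩ := KProjQ.Q_map_surjective P₂ X₂ t₂
    obtain ⟨f₃, hf₃⟩ := KProjQ.Q_map_surjective P₃ X₃ t₃
    exact ⟨(f₁, (f₂, f₃)), Prod.ext hf₁ (Prod.ext hf₂ hf₃)⟩
  · rintro ⟨X₁, X₂, X₃⟩ f g h
    have h1 : Q.map f.1 = Q.map g.1 := congrArg Prod.fst h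
    have h2 : Q.map f.2.1 = Q.map g.2.1 := congrArg (fun t => t.2.1) h
    have h3 : Q.map f.2.2 = Q.map g.2.2 := congrArg (fun t => t.2.2) h
    exact hF f g (KProjQ.homotopy_of_Q_map_eq _ _ h1) (KProjQ.homotopy_of_Q_map_eq _ _ h2)
      (KProjQ.homotopy_of_Q_map_eq _ _ h3)

end Groth.Agent.Helper6.ProdCounit3
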