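import Mathlib
import Groth.Prelude.Def_DTen4
import Groth.Agent.Helper6.TenHtpy
import Groth.Agent.Helper6.LBaseCmp
import Groth.Agent.Helper1.DCoprod

set_option autoImplicit false

/-!
# `(E ⊗^L_R A) ⊗^L_A N ⟶ E ⊗^L_R N` is an isomorphism
-/

open CategoryTheory CategoryTheory.Limits DerivedCategory MonoidalCategory

universe u

attribute [local instance] HasDerivedCategory.standard

namespace Groth.Agent.Helper6.SplitIso

open TenCx

instance hasCoprodD (A : Type u) [CommRing A] (J : Type u) :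
    HasColimitsOfShape (Discrete J) (Dual.D A) :=
  Groth.Agent.Helper1.DCoprod.hasColimitsOfShape_discrete

/-- every object of `D(A)` is the image of a K-projective, K-flat complex -/
lemma exists_kproj_Q {A : Type u} [CommRing A] (Y : Dual.D A) :
    ∃ P : DRing.Cx A, P.IsKProjective ∧ KFlat P ∧ Nonempty (Q.obj P ≅ Y) := by
  let M := Q.objPreimage Y
  let i : Q.obj M ≅ Y := Q.objObjPreimageIso Y
  obtain ⟨P, f, hP, hPf, -, hf, -⟩ := KProjRes.exists_resolution M
  haveI : IsIso (Q.map f) := by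
    rw [DerivedCategory.isIso_Q_map_iff_quasiIso]
    exact hf
  exact ⟨P, hP, hPf, ⟨asIso (Q.map f) ≪≫ i⟩⟩

section LTen

variable (A : Type u) [CommRing A] [DTen.HasLTen A]

instance : (DTen.LTen₂ A).IsRightKanExtension (DTen.ε A) := by
  have h : ((DTen.tensor₂ A).totalLeftDerived (DTen.QQ A) (DTen.qis₂ A)).IsLeftDerivedFunctor
      ((DTen.tensor₂ A).totalLeftDerivedCounit (DTen.QQ A) (DTen.qis₂ A)) (DTen.qis₂ A) :=
    inferInstance
  exact h.isRightKanExtension

/-- the derived tensor product is computed at pairs of K-projective complexes -/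
theorem isIso_ε (P P' : DRing.Cx A) [P.IsKProjective] [P'.IsKProjective] :
    IsIso ((DTen.ε A).app (P, P')) :=
  ProdCounit.isIso_app (DTen.tensor₂ A) (DTen.LTen₂ A) (DTen.ε A) P P' TenHtpy.htpyInv_tensor₂

end LTen

section Mix

variable {R A : Type u} [CommRing R] [CommRing A] (φ : R →+* A)

section

variable [DTen.HasLTenMix φ]

instance : (DTen.LTenMix φ).IsRightKanExtension (DTen.εMix φ) := by
  have h : ((DTen.mix₂ φ).totalLeftDerived (DTen.QMix R A) (DTen.qisMix R A)).IsLeftDerivedFunctor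
      ((DTen.mix₂ φ).totalLeftDerivedCounit (DTen.QMix R A) (DTen.qisMix R A)) (DTen.qisMix R A) :=
    inferInstance
  exact h.isRightKanExtension

/-- the mixed derived tensor product is computed at pairs of K-projective complexes -/
theorem isIso_εMix (P : DRing.Cx R) (P' : DRing.Cx A) [P.IsKProjective] [P'.IsKProjective] :
    IsIso ((DTen.εMix φ).app (P, P')) :=
  ProdCounit.isIso_app (DTen.mix₂ φ) (DTen.LTenMix φ) (DTen.εMix φ) P P' (TenHtpy.htpyInv_mix₂ φ)

end

variable [DTen.HasLTen A] [DTen.HasLBase φ] [DTen.HasLTenMix φ]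

theorem isIso_split_QQ (P : DRing.Cx R) (P' : DRing.Cx A) [P.IsKProjective] [P'.IsKProjective] :
    IsIso ((DTen.split φ).app ((DTen.QMix R A).obj (P, P'))) := by
  have hfac := DTen.split_fac φ (P, P')
  haveI := isIso_εMix φ P P'
  haveI : IsIso ((DTen.splitβ φ).app (P, P')) := by
    haveI := LBaseCmp.isIso_baseCmp_of_isKProjective φ P
    haveI := isIso_ε A ((DTen.extCx φ).obj P) P'
    haveI : IsIso (Prod.mkHom ((DTen.baseCmp φ).app P) (𝟙 (DerivedCategory.Q.obj P'))) :=
      (isIso_prod_iff _ _).mpr ⟨inferInstance, inferInstance⟩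
    show IsIso ((DTen.LTen₂ A).map (Prod.mkHom ((DTen.baseCmp φ).app P)
      (𝟙 (DerivedCategory.Q.obj P'))) ≫ (DTen.ε A).app ((DTen.extCx φ).obj P, P'))
    infer_instance
  have h : (DTen.split φ).app ((DTen.QMix R A).obj (P, P')) =
      (DTen.splitβ φ).app (P, P') ≫ inv ((DTen.εMix φ).app (P, P')) := by
    rw [← hfac, Category.assoc, IsIso.hom_inv_id, Category.comp_id]
  rw [h]
  infer_instance

theorem isIso_split (E : Dual.D R) (N : Dual.D A) : IsIso ((DTen.split φ).app (E, N)) := by
  obtain ⟨P, hP, -, ⟨i⟩⟩ := exists_kproj_Q E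
  obtain ⟨P', hP', -, ⟨i'⟩⟩ := exists_kproj_Q N
  haveI := hP
  haveI := hP'
  have h := isIso_split_QQ φ P P'
  exact (NatTrans.isIso_app_iff_of_iso (DTen.split φ) (Iso.prod i i')).mp h

end Mix

end Groth.Agent.Helper6.SplitIso
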