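import Mathlib
import Groth.Prelude.Def_DTen2
import Groth.Agent.Helper6.SplitIso
import Groth.Agent.Helper6.ProdCounit3

set_option autoImplicit false

/-!
# The derived tensor product is computed by K-flat complexes; the triple derived tensor product
-/

open CategoryTheory CategoryTheory.Limits DerivedCategory MonoidalCategory

universe u

attribute [local instance] HasDerivedCategory.standard

namespace Groth.Agent.Helper6.TenCompute

open TenCx SplitIso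

variable (A : Type u) [CommRing A]

section Pair

variable [DTen.HasLTen A]

/-- `KFlatComputes`: the counit `QK ⊗^L QL ⟶ Q(K ⊗ L)` is an isomorphism when `K` or `L` is K-flat -/
theorem isIso_ε_of_kflat (K L : DRing.Cx A) (h : KFlat K ∨ KFlat L) :
    IsIso ((DTen.ε A).app (K, L)) := by
  obtain ⟨P, f, hP, hPf, -, hf, -⟩ := KProjRes.exists_resolution K
  obtain ⟨P', f', hP', hPf', -, hf', -⟩ := KProjRes.exists_resolution L
  haveI := hP
  haveI := hP'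
  haveI := isIso_ε A P P'
  have hn := (DTen.ε A).naturality (Prod.mkHom f f' : (P, P') ⟶ (K, L))
  haveI : IsIso (Q.map f) := by
    rw [DerivedCategory.isIso_Q_map_iff_quasiIso]; exact hf
  haveI : IsIso (Q.map f') := by
    rw [DerivedCategory.isIso_Q_map_iff_quasiIso]; exact hf'
  haveI : IsIso ((DTen.QQ A).map (Prod.mkHom f f' : (P, P') ⟶ (K, L))) :=
    (isIso_prod_iff _ _).mpr ⟨inferInstanceAs (IsIso (Q.map f)), inferInstanceAs (IsIso (Q.map f'))⟩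
  haveI : IsIso ((DTen.QQ A ⋙ DTen.LTen₂ A).map (Prod.mkHom f f' : (P, P') ⟶ (K, L))) := by
    rw [Functor.comp_map]
    infer_instance
  haveI : IsIso ((DTen.tensor₂ A).map (Prod.mkHom f f' : (P, P') ⟶ (K, L))) := by
    show IsIso (Q.map ((DTen.tensorT A).map (Prod.mkHom f f' : (P, P') ⟶ (K, L))))
    rw [DerivedCategory.isIso_Q_map_iff_quasiIso, TenHtpy.tensorT_map]
    show QuasiIso (f ⊗ₘ f')
    rcases h with hK | hL
    · rw [MonoidalCategory.tensorHom_def]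
      haveI := quasiIso_whiskerRight hPf' f hf
      haveI := quasiIso_whiskerLeft hK f' hf'
      infer_instance
    · rw [MonoidalCategory.tensorHom_def']
      haveI := quasiIso_whiskerLeft hPf f' hf'
      haveI := quasiIso_whiskerRight hL f hf
      infer_instance
  have h2 : (DTen.ε A).app (K, L) =
      inv ((DTen.QQ A ⋙ DTen.LTen₂ A).map (Prod.mkHom f f' : (P, P') ⟶ (K, L))) ≫
        (DTen.ε A).app (P, P') ≫ (DTen.tensor₂ A).map (Prod.mkHom f f' : (P, P') ⟶ (K, L)) := by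
    rw [← hn, IsIso.inv_hom_id_assoc]
  rw [h2]
  infer_instance

end Pair

section Triple

lemma tensorT₃_map {X Y : DRing.Cx A × (DRing.Cx A × DRing.Cx A)} (f : X ⟶ Y) :
    (DTen.tensorT₃ A).map f = f.1 ⊗ₘ (f.2.1 ⊗ₘ f.2.2) := by
  dsimp [DTen.tensorT₃, DTen.tensorT]
  rw [← MonoidalCategory.tensorHom_def, ← MonoidalCategory.tensorHom_def]

lemma htpyInv_tensor₃ : ProdCounit3.HtpyInv₃ (DTen.tensor₃ A) := by
  intro X Y f g ⟨h1⟩ ⟨h2⟩ ⟨h3⟩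
  show Q.map ((DTen.tensorT₃ A).map f) = Q.map ((DTen.tensorT₃ A).map g)
  rw [tensorT₃_map, tensorT₃_map]
  exact KProjQ.Q_map_eq_of_homotopy
    (TenHtpy.tensorHomHomotopy h1 (TenHtpy.tensorHomHomotopy h2 h3))

variable [DTen.HasLTen A] [DTen.HasLTen₃ A]

instance : (DTen.LTen₃ A).IsRightKanExtension (DTen.ε₃ A) := by
  have h : ((DTen.tensor₃ A).totalLeftDerived (DTen.QQQ A) (DTen.qis₃ A)).IsLeftDerivedFunctor
      ((DTen.tensor₃ A).totalLeftDerivedCounit (DTen.QQQ A) (DTen.qis₃ A)) (DTen.qis₃ A) :=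
    inferInstance
  exact h.isRightKanExtension

theorem isIso_ε₃ (P₁ P₂ P₃ : DRing.Cx A) [P₁.IsKProjective] [P₂.IsKProjective]
    [P₃.IsKProjective] : IsIso ((DTen.ε₃ A).app (P₁, (P₂, P₃))) :=
  ProdCounit3.isIso_app (DTen.tensor₃ A) (DTen.LTen₃ A) (DTen.ε₃ A) P₁ P₂ P₃ (htpyInv_tensor₃ A)

theorem isIso_βR (P₁ P₂ P₃ : DRing.Cx A) (h₁ : KFlat P₁) (h₂ : KFlat P₂) :
    IsIso ((DTen.βR A).app (P₁, (P₂, P₃))) := by
  haveI := isIso_ε_of_kflat A P₂ P₃ (Or.inl h₂)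
  haveI := isIso_ε_of_kflat A P₁ (P₂ ⊗ P₃) (Or.inl h₁)
  haveI : IsIso (Prod.mkHom (𝟙 (DerivedCategory.Q.obj P₁)) ((DTen.ε A).app (P₂, P₃))) :=
    (isIso_prod_iff _ _).mpr ⟨inferInstance, inferInstance⟩
  show IsIso ((DTen.LTen₂ A).map (Prod.mkHom (𝟙 (DerivedCategory.Q.obj P₁))
    ((DTen.ε A).app (P₂, P₃))) ≫ (DTen.ε A).app (P₁, P₂ ⊗ P₃))
  infer_instance

theorem isIso_βL (P₁ P₂ P₃ : DRing.Cx A) (h₂ : KFlat P₂) (h₃ : KFlat P₃) :
    IsIso ((DTen.βL A).app (P₁, (P₂, P₃))) := by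
  haveI := isIso_ε_of_kflat A P₁ P₂ (Or.inr h₂)
  haveI := isIso_ε_of_kflat A (P₁ ⊗ P₂) P₃ (Or.inr h₃)
  haveI : IsIso (Prod.mkHom ((DTen.ε A).app (P₁, P₂)) (𝟙 (DerivedCategory.Q.obj P₃))) :=
    (isIso_prod_iff _ _).mpr ⟨inferInstance, inferInstance⟩
  show IsIso ((DTen.LTen₂ A).map (Prod.mkHom ((DTen.ε A).app (P₁, P₂))
    (𝟙 (DerivedCategory.Q.obj P₃))) ≫ (DTen.ε A).app (P₁ ⊗ P₂, P₃) ≫
      DerivedCategory.Q.map (α_ P₁ P₂ P₃).hom)
  infer_instance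

theorem isIso_assocR_QQQ (P₁ P₂ P₃ : DRing.Cx A) [P₁.IsKProjective] [P₂.IsKProjective]
    [P₃.IsKProjective] (h₁ : KFlat P₁) (h₂ : KFlat P₂) :
    IsIso ((DTen.assocR A).app ((DTen.QQQ A).obj (P₁, (P₂, P₃)))) := by
  have hfac := DTen.assocR_fac A (P₁, (P₂, P₃))
  haveI := isIso_ε₃ A P₁ P₂ P₃
  haveI := isIso_βR A P₁ P₂ P₃ h₁ h₂
  have h : (DTen.assocR A).app ((DTen.QQQ A).obj (P₁, (P₂, P₃))) =
      (DTen.βR A).app (P₁, (P₂, P₃)) ≫ inv ((DTen.ε₃ A).app (P₁, (P₂, P₃))) := by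
    rw [← hfac, Category.assoc, IsIso.hom_inv_id, Category.comp_id]
  rw [h]
  infer_instance

theorem isIso_assocL_QQQ (P₁ P₂ P₃ : DRing.Cx A) [P₁.IsKProjective] [P₂.IsKProjective]
    [P₃.IsKProjective] (h₂ : KFlat P₂) (h₃ : KFlat P₃) :
    IsIso ((DTen.assocL A).app ((DTen.QQQ A).obj (P₁, (P₂, P₃)))) := by
  have hfac := DTen.assocL_fac A (P₁, (P₂, P₃))
  haveI := isIso_ε₃ A P₁ P₂ P₃
  haveI := isIso_βL A P₁ P₂ P₃ h₂ h₃
  have h : (DTen.assocL A).app ((DTen.QQQ A).obj (P₁, (P₂, P₃))) =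
      (DTen.βL A).app (P₁, (P₂, P₃)) ≫ inv ((DTen.ε₃ A).app (P₁, (P₂, P₃))) := by
    rw [← hfac, Category.assoc, IsIso.hom_inv_id, Category.comp_id]
  rw [h]
  infer_instance

theorem isIso_assoc (a b c : Dual.D A) :
    IsIso ((DTen.assocL A).app (a, (b, c))) ∧ IsIso ((DTen.assocR A).app (a, (b, c))) := by
  obtain ⟨P₁, hP₁, hf₁, ⟨i₁⟩⟩ := exists_kproj_Q a
  obtain ⟨P₂, hP₂, hf₂, ⟨i₂⟩⟩ := exists_kproj_Q b
  obtain ⟨P₃, hP₃, hf₃, ⟨i₃⟩⟩ := exists_kproj_Q c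
  haveI := hP₁
  haveI := hP₂
  haveI := hP₃
  exact ⟨(NatTrans.isIso_app_iff_of_iso (DTen.assocL A) (Iso.prod i₁ (Iso.prod i₂ i₃))).mp
      (isIso_assocL_QQQ A P₁ P₂ P₃ hf₂ hf₃),
    (NatTrans.isIso_app_iff_of_iso (DTen.assocR A) (Iso.prod i₁ (Iso.prod i₂ i₃))).mp
      (isIso_assocR_QQQ A P₁ P₂ P₃ hf₁ hf₂)⟩

end Triple

end Groth.Agent.Helper6.TenCompute
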