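import Mathlib
import Groth.Prelude.Def_DTen3
import Groth.Agent.Helper6.DTenX1
import Groth.Agent.Helper6.TenCompute
import Groth.Agent.Helper6.DTenSymm

/-! Mid-exactness of the derived tensor product in each variable. -/

set_option autoImplicit false
universe u
open CategoryTheory CategoryTheory.Limits MonoidalCategory DerivedCategory Pretriangulated
attribute [local instance] HasDerivedCategory.standard

namespace Groth.Agent.Helper6.DTenX
open DTen TenCx

variable {A : Type u} [CommRing A] [HasLTen A]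

/-- the iso `QX₀ ⊗^L QL ≅ Q(X₀ ⊗ L)` for K-flat `X₀` -/
noncomputable def εIso (X₀ : DRing.Cx A) (h : KFlat X₀) (L : DRing.Cx A) :
    ((LTen A).obj (Q.obj X₀)).obj (Q.obj L) ≅ Q.obj (X₀ ⊗ L) :=
  haveI : IsIso ((ε A).app (X₀, L)) := TenCompute.isIso_ε_of_kflat A X₀ L (Or.inl h)
  asIso ((ε A).app (X₀, L))

lemma εIso_naturality (X₀ : DRing.Cx A) (h : KFlat X₀) {L L' : DRing.Cx A} (f : L ⟶ L') :
    ((LTen A).obj (Q.obj X₀)).map (Q.map f) ≫ (εIso X₀ h L').hom =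
      (εIso X₀ h L).hom ≫ Q.map (X₀ ◁ f) :=
  (εLeft A X₀).naturality f

lemma εIso_inv_naturality (X₀ : DRing.Cx A) (h : KFlat X₀) {L L' : DRing.Cx A} (f : L ⟶ L') :
    Q.map (X₀ ◁ f) ≫ (εIso X₀ h L').inv =
      (εIso X₀ h L).inv ≫ ((LTen A).obj (Q.obj X₀)).map (Q.map f) := by
  rw [Iso.comp_inv_eq, Category.assoc, εIso_naturality, Iso.inv_hom_id_assoc]

lemma exists_lift_SES (X₀ : DRing.Cx A) (h : KFlat X₀) (S : ShortComplex (DRing.Cx A))
    (hS : S.ShortExact) (σ : ∀ n, (S.map (HomologicalComplex.eval _ _ n)).Splitting)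
    (W : Dual.D A) (g : W ⟶ ((LTen A).obj (Q.obj X₀)).obj (Q.obj S.X₂))
    (hg : g ≫ ((LTen A).obj (Q.obj X₀)).map (Q.map S.g) = 0) :
    ∃ k : W ⟶ ((LTen A).obj (Q.obj X₀)).obj (Q.obj S.X₁),
      k ≫ ((LTen A).obj (Q.obj X₀)).map (Q.map S.f) = g := by
  have hS' : (tenSC X₀ S).ShortExact := tenSC_shortExact_of_split X₀ hS σ
  have hT' := DerivedCategory.triangleOfSES_distinguished hS'
  have n2 := εIso_naturality X₀ h S.g
  have n1 := εIso_inv_naturality X₀ h S.f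
  have e : (g ≫ (εIso X₀ h S.X₂).hom) ≫ (triangleOfSES hS').mor₂ = 0 := by
    show (g ≫ (εIso X₀ h S.X₂).hom) ≫ Q.map (X₀ ◁ S.g) = 0
    rw [Category.assoc, ← n2, reassoc_of% hg, zero_comp]
  obtain ⟨k, hk⟩ : ∃ k : W ⟶ Q.obj (X₀ ⊗ S.X₁),
      g ≫ (εIso X₀ h S.X₂).hom = k ≫ Q.map (X₀ ◁ S.f) :=
    Triangle.coyoneda_exact₂ _ hT' _ e
  refine ⟨k ≫ (εIso X₀ h S.X₁).inv, ?_⟩
  rw [Category.assoc, ← n1, ← reassoc_of% hk, Iso.hom_inv_id, Category.comp_id]

lemma midExactAt_rotate (X₀ : DRing.Cx A) (h : KFlat X₀) {K L : DRing.Cx A} (φ : K ⟶ L) :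
    MidExactAt ((LTen A).obj (Q.obj X₀))
      (Q.mapTriangle.obj (CochainComplex.mappingCone.triangle φ)).rotate := by
  intro W g hg
  let S := CochainComplex.mappingCone.triangleRotateShortComplex φ
  have hS : S.ShortExact := HomologicalComplex.shortExact_of_degreewise_shortExact S
    (fun n => (CochainComplex.mappingCone.triangleRotateShortComplexSplitting φ n).shortExact)
  obtain ⟨g', hg'⟩ : ∃ g' : W ⟶ ((LTen A).obj (Q.obj X₀)).obj (Q.obj S.X₂), g' = g := ⟨_, rfl⟩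
  obtain ⟨c, hc⟩ : ∃ c : Q.obj S.X₃ ≅ (Q.obj K)⟦(1 : ℤ)⟧, c = (Q.commShiftIso (1 : ℤ)).app K :=
    ⟨_, rfl⟩
  have h0 : g' ≫ ((LTen A).obj (Q.obj X₀)).map (Q.map S.g ≫ c.hom) = 0 := by
    rw [hg', hc]; exact hg
  rw [Functor.map_comp, ← Category.assoc] at h0
  have h1 : g' ≫ ((LTen A).obj (Q.obj X₀)).map (Q.map S.g) = 0 :=
    (cancel_mono _).mp (h0.trans (zero_comp).symm)
  obtain ⟨k, hk⟩ := exists_lift_SES X₀ h S hS
    (CochainComplex.mappingCone.triangleRotateShortComplexSplitting φ) W g' h1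
  exact ⟨k, hk.trans hg'⟩

theorem midExact_LTen_obj_Q (X₀ : DRing.Cx A) (h : KFlat X₀) :
    MidExact ((LTen A).obj (Q.obj X₀)) := by
  intro T hT
  have hTi := inv_rot_of_distTriang _ hT
  obtain ⟨K, L, φ, ⟨e⟩⟩ := (DerivedCategory.mem_distTriang_iff _).mp hTi
  have e' : T ≅ (Q.mapTriangle.obj (CochainComplex.mappingCone.triangle φ)).rotate :=
    ((triangleRotation (Dual.D A)).counitIso.app T).symm ≪≫ (rotate (Dual.D A)).mapIso e
  exact (midExactAt_rotate X₀ h φ).of_iso e'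

theorem midExact_LTen_obj (X : Dual.D A) : MidExact ((LTen A).obj X) := by
  obtain ⟨P, -, hPf, ⟨i⟩⟩ := SplitIso.exists_kproj_Q X
  exact (midExact_LTen_obj_Q P hPf).of_natIso ((LTen A).mapIso i.symm)

/-- the symmetry as an isomorphism of functors `X ⊗^L - ≅ - ⊗^L X` -/
noncomputable def symmIso (X : Dual.D A) : (LTen A).obj X ≅ (LTen A).flip.obj X :=
  NatIso.ofComponents (fun K => by
    haveI := DTenSymm.main A K X
    exact asIso ((symm A).app (K, X))) (by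
    intro K K' k
    have := (symm A).naturality (Prod.mkHom k (𝟙 X) : (K, X) ⟶ (K', X))
    exact this)

theorem midExact_LTen_flip_obj (X : Dual.D A) : MidExact ((LTen A).flip.obj X) :=
  (midExact_LTen_obj X).of_natIso (symmIso X).symm

end Groth.Agent.Helper6.DTenX
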