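import Mathlib
import Groth.Prelude.Def_DTen3
import Groth.Agent.Helper6.DTenX2

/-! Naturality of the associator, invertible objects, and the formal isomorphism criterion for
`evalTen`. -/

set_option autoImplicit false
universe u
open CategoryTheory CategoryTheory.Limits MonoidalCategory DerivedCategory Pretriangulated
attribute [local instance] HasDerivedCategory.standard

namespace Groth.Agent.Helper6.DTenX
open DTen TenCx

variable {A : Type u} [CommRing A] [HasLTen A]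

/-- `f ⊗^L g` -/
noncomputable abbrev T₂ {a a' b b' : Dual.D A} (f : a ⟶ a') (g : b ⟶ b') :
    (LTen₂ A).obj (a, b) ⟶ (LTen₂ A).obj (a', b') :=
  (LTen₂ A).map (Prod.mkHom f g)

@[reassoc]
lemma T₂_comp {a a' a'' b b' b'' : Dual.D A} (f : a ⟶ a') (f' : a' ⟶ a'') (g : b ⟶ b')
    (g' : b' ⟶ b'') : T₂ f g ≫ T₂ f' g' = T₂ (f ≫ f') (g ≫ g') := by
  unfold T₂
  rw [← Functor.map_comp]
  rfl

lemma T₂_id (a b : Dual.D A) : T₂ (𝟙 a) (𝟙 b) = 𝟙 ((LTen₂ A).obj (a, b)) := by
  unfold T₂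
  rw [← prod_id]
  exact (LTen₂ A).map_id (a, b)

section assoc

variable [HasLTen₃ A] [IsSymMonoidal A]

@[reassoc]
theorem associator_naturality {a a' b b' c c' : Dual.D A} (fa : a ⟶ a') (fb : b ⟶ b')
    (fc : c ⟶ c') :
    T₂ (T₂ fa fb) fc ≫ (DTen.associator a' b' c').hom =
      (DTen.associator a b c).hom ≫ T₂ fa (T₂ fb fc) := by
  have hL := (assocL A).naturality (X := (a, (b, c))) (Y := (a', (b', c')))
    (Prod.mkHom fa (Prod.mkHom fb fc))
  have hR := (assocR A).naturality (X := (a, (b, c))) (Y := (a', (b', c')))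
    (Prod.mkHom fa (Prod.mkHom fb fc))
  have e1 : (LTenL A).map (X := (a, (b, c))) (Y := (a', (b', c')))
      (Prod.mkHom fa (Prod.mkHom fb fc)) = T₂ (T₂ fa fb) fc := rfl
  have e2 : (LTenR A).map (X := (a, (b, c))) (Y := (a', (b', c')))
      (Prod.mkHom fa (Prod.mkHom fb fc)) = T₂ fa (T₂ fb fc) := rfl
  rw [e1] at hL
  rw [e2] at hR
  haveI : IsIso ((assocR A).app (a', (b', c'))) := inferInstance
  rw [← cancel_mono ((assocR A).app (a', (b', c'))), Category.assoc, associator_hom_assocR]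
  erw [hL]
  rw [Category.assoc]
  erw [hR]
  rw [← Category.assoc, associator_hom_assocR]
  rfl

@[reassoc]
theorem associator_inv_naturality {a a' b b' c c' : Dual.D A} (fa : a ⟶ a') (fb : b ⟶ b')
    (fc : c ⟶ c') :
    T₂ fa (T₂ fb fc) ≫ (DTen.associator a' b' c').inv =
      (DTen.associator a b c).inv ≫ T₂ (T₂ fa fb) fc := by
  rw [Iso.comp_inv_eq, Category.assoc, associator_naturality, Iso.inv_hom_id_assoc]

/-- if `K₁ ⊗ K₂ ≅ 1` then `K₁ ⊗ (K₂ ⊗ -) ≅ id` -/
noncomputable def invNatIso (K₁ K₂ : Dual.D A) (e : (LTen₂ A).obj (K₁, K₂) ≅ DTen.unit A) :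
    (LTen A).obj K₂ ⋙ (LTen A).obj K₁ ≅ 𝟭 (Dual.D A) :=
  NatIso.ofComponents (fun X => (DTen.associator K₁ K₂ X).symm ≪≫
    (LTen₂ A).mapIso (Iso.prod e (Iso.refl X)) ≪≫ DTen.leftUnitor X) (by
    intro X X' x
    have h1 : ((LTen A).obj K₂ ⋙ (LTen A).obj K₁).map x = T₂ (𝟙 K₁) (T₂ (𝟙 K₂) x) := rfl
    have h2 := (unitL A).naturality x
    have h3 : ((LTen A).obj (DTen.unit A)).map x = T₂ (𝟙 (DTen.unit A)) x := rfl
    rw [h3] at h2
    rw [h1]
    dsimp only [Iso.trans_hom, Iso.symm_hom, Functor.mapIso_hom, Iso.prod_hom, Iso.refl_hom,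
      Functor.id_map, DTen.leftUnitor_hom]
    rw [associator_inv_naturality_assoc, T₂_id]
    change (DTen.associator K₁ K₂ X).inv ≫ T₂ (𝟙 _) x ≫ T₂ e.hom (𝟙 X') ≫ _ = _
    rw [T₂_comp_assoc, Category.id_comp, Category.comp_id]
    have : T₂ e.hom x = T₂ e.hom (𝟙 X) ≫ T₂ (𝟙 (DTen.unit A)) x := by
      rw [T₂_comp, Category.id_comp, Category.comp_id]
    rw [this, Category.assoc]
    erw [h2]
    simp only [Category.assoc]
    rfl)

theorem isEquivalence_of_invertible (K K' : Dual.D A)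
    (e₁ : (LTen₂ A).obj (K, K') ≅ DTen.unit A) (e₂ : (LTen₂ A).obj (K', K) ≅ DTen.unit A) :
    ((LTen A).obj K).IsEquivalence :=
  (CategoryTheory.Equivalence.mk ((LTen A).obj K) ((LTen A).obj K') (invNatIso K' K e₂).symm
    (invNatIso K K' e₁)).isEquivalence_functor

section evalTen

variable [HasRHom A]

theorem evalTen_naturality_left {K K' : Dual.D A} (k : K ⟶ K') (L M : Dual.D A) :
    T₂ k (𝟙 ((RHomR A M).obj L)) ≫ evalTen K' L M =
      evalTen K L M ≫ (RHomR A M).map (T₂ k (𝟙 L)) := by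
  unfold evalTen
  have h1 := Adjunction.homEquiv_naturality_left (rhomAdj A M)
    (T₂ k (𝟙 ((RHomR A M).obj L))) (evalTenAux K' L M)
  have h2 := Adjunction.homEquiv_naturality_right (rhomAdj A M)
    (evalTenAux K L M) (T₂ k (𝟙 L))
  rw [← h1, ← h2]
  congr 1
  unfold evalTenAux
  change T₂ (T₂ k (𝟙 _)) (𝟙 M) ≫ (DTen.associator K' ((RHomR A M).obj L) M).hom ≫
    T₂ (𝟙 K') (ev M L) = ((DTen.associator K ((RHomR A M).obj L) M).hom ≫
    T₂ (𝟙 K) (ev M L)) ≫ T₂ k (𝟙 L)
  rw [associator_naturality_assoc, T₂_id, T₂_comp, Category.assoc, T₂_comp]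
  simp only [Category.id_comp, Category.comp_id]

/-- `evalTen` as a natural transformation in the first variable -/
noncomputable def evalTenNat (L M : Dual.D A) :
    (LTen A).flip.obj ((RHomR A M).obj L) ⟶ (LTen A).flip.obj L ⋙ RHomR A M where
  app K := evalTen K L M
  naturality K K' k := evalTen_naturality_left k L M

/-- formal criterion: if `K ⊗^L -` is an equivalence, `evalTen K L M` is an isomorphism -/
theorem isIso_evalTen_of_isEquivalence (K L M : Dual.D A) [((LTen A).obj K).IsEquivalence] :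
    IsIso (evalTen K L M) := by
  apply isIso_of_yoneda_map_bijective
  intro W
  let Fk := (LTen A).obj K
  let W' := Fk.objPreimage W
  let e : Fk.obj W' ≅ W := Fk.objObjPreimageIso W
  let R' := (RHomR A M).obj L
  have key : (fun x : W ⟶ (LTen₂ A).obj (K, R') => x ≫ evalTen K L M) =
      fun x => rhomHomEquiv W M _ (T₂ e.inv (𝟙 M) ≫ (DTen.associator K W' M).hom ≫
        Fk.map ((rhomHomEquiv W' M L).symm (Fk.preimage (e.hom ≫ x)))) := by
    funext x
    unfold evalTen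
    have h1 := Adjunction.homEquiv_naturality_left (rhomAdj A M) x (evalTenAux K L M)
    rw [← h1]
    congr 1
    obtain ⟨x', hx'⟩ : ∃ x' : W' ⟶ R', x' = Fk.preimage (e.hom ≫ x) := ⟨_, rfl⟩
    have hx : x = e.inv ≫ T₂ (𝟙 K) x' := by
      have : Fk.map x' = e.hom ≫ x := by rw [hx']; exact Fk.map_preimage _
      rw [show T₂ (𝟙 K) x' = Fk.map x' from rfl, this, Iso.inv_hom_id_assoc]
    rw [← hx']
    have hs : (rhomHomEquiv W' M L).symm x' = T₂ x' (𝟙 M) ≫ ev M L :=
      Adjunction.homEquiv_counit _ _ _ _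
    rw [hs]
    change T₂ x (𝟙 M) ≫ evalTenAux K L M = T₂ e.inv (𝟙 M) ≫ (DTen.associator K W' M).hom ≫
      T₂ (𝟙 K) (T₂ x' (𝟙 M) ≫ ev M L)
    unfold evalTenAux
    have e1 : T₂ x (𝟙 M) = T₂ e.inv (𝟙 M) ≫ T₂ (T₂ (𝟙 K) x') (𝟙 M) := by
      rw [T₂_comp, Category.id_comp, ← hx]
    rw [e1, Category.assoc, associator_naturality_assoc, T₂_comp, Category.id_comp]
  rw [key]
  refine (rhomHomEquiv W M _).bijective.comp ?_
  refine (Iso.homFromEquiv ((LTen₂ A).mapIso (Iso.prod e (Iso.refl M)))).bijective.comp ?_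
  refine (Iso.homFromEquiv (DTen.associator K W' M)).symm.bijective.comp ?_
  refine (Functor.FullyFaithful.ofFullyFaithful Fk).homEquiv.bijective.comp ?_
  refine (rhomHomEquiv W' M L).symm.bijective.comp ?_
  refine (Functor.FullyFaithful.ofFullyFaithful Fk).homEquiv.symm.bijective.comp ?_
  exact (Iso.homFromEquiv e).symm.bijective

end evalTen

end assoc

end Groth.Agent.Helper6.DTenX
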