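import Mathlib
import Groth.Prelude.Def_DTen3
import Groth.Agent.Helper6.DTenX3
import Groth.Agent.Helper3.DRingRestr2

/-! Shifts of the unit are invertible; induction principle for perfect complexes; `evalTen` is an
isomorphism when the tensor factor is perfect. -/

set_option autoImplicit false
universe u
open CategoryTheory CategoryTheory.Limits MonoidalCategory DerivedCategory Pretriangulated
attribute [local instance] HasDerivedCategory.standard

namespace Groth.Agent.Helper6.DTenX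
open DTen TenCx Groth.Agent.Helper3.DRingLib

variable {A : Type u} [CommRing A]

section induction

theorem perfect_induction (P : Dual.D A → Prop)
    (hiso : ∀ {K L : Dual.D A}, (K ≅ L) → P K → P L)
    (hzero : ∀ K : Dual.D A, IsZero K → P K)
    (hext : ∀ T : Triangle (Dual.D A), T ∈ distTriang _ → P T.obj₁ → P T.obj₃ → P T.obj₂)
    (hshift : ∀ (K : Dual.D A) (n : ℤ), P K → P (K⟦n⟧))
    (hretract : ∀ (K Z : Dual.D A) (i : K ⟶ Z) (r : Z ⟶ K), i ≫ r = 𝟙 K → P Z → P K)
    (hA : P ((singleFunctor (ModuleCat.{u} A) 0).obj (ModuleCat.of A A))) {K : Dual.D A}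
    (hK : DRing.IsPerfect A K) : P K := by
  obtain ⟨E, a, b, hv, hfp, ⟨e⟩⟩ := hK
  refine hiso e ?_
  refine induction_on_bounded' P hiso hzero hext E a b hv (fun i => ?_)
  obtain ⟨h1, h2⟩ := hfp i
  have hfree : ∀ n : ℕ, P ((singleFunctor (ModuleCat.{u} A) 0).obj
      (ModuleCat.of A (Fin n → A))) := by
    intro n
    exact finite_free_induction (fun M => P ((singleFunctor (ModuleCat.{u} A) 0).obj M))
      (fun e h => hiso ((singleFunctor (ModuleCat.{u} A) 0).mapIso e) h)
      (fun M hM => hzero _ (Functor.map_isZero _ hM))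
      (fun S hS h1 h3 => hext _ hS.singleTriangle_distinguished h1 h3) hA
      (ModuleCat.of A (Fin n → A))
  have hmod : P ((singleFunctor (ModuleCat.{u} A) 0).obj (E.X i)) := by
    obtain ⟨n, f, hf⟩ := Module.Finite.exists_fin' A (E.X i)
    obtain ⟨g, hg⟩ := Module.projective_lifting_property f LinearMap.id hf
    refine hretract _ _
      ((singleFunctor (ModuleCat.{u} A) 0).map (ModuleCat.ofHom g))
      ((singleFunctor (ModuleCat.{u} A) 0).map (ModuleCat.ofHom f)) ?_ (hfree n)
    rw [← Functor.map_comp, ← ModuleCat.ofHom_comp, hg]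
    erw [ModuleCat.ofHom_id]
    rw [CategoryTheory.Functor.map_id]
  exact hiso (singleShiftIso (E.X i) i) (hshift _ _ hmod)

end induction

section unit

variable (A)

/-- the unit complex -/
noncomputable abbrev U : DRing.Cx A := 𝟙_ (DRing.Cx A)

instance (n : ℤ) : Projective ((U A).X n) := by
  by_cases h : n = 0
  · subst h
    haveI : Projective (𝟙_ (ModuleCat.{u} A)) :=
      inferInstanceAs (Projective (ModuleCat.of A A))
    exact Projective.of_iso
      (HomologicalComplex.singleObjXSelf (ComplexShape.up ℤ) 0 (𝟙_ (ModuleCat.{u} A))).symm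
      inferInstance
  · exact (HomologicalComplex.isZero_single_obj_X (ComplexShape.up ℤ) 0
      (𝟙_ (ModuleCat.{u} A)) n h).projective

instance : (U A).IsKProjective := by
  haveI : CochainComplex.IsStrictlyLE (U A) 0 :=
    inferInstanceAs (CochainComplex.IsStrictlyLE
      ((HomologicalComplex.single (ModuleCat.{u} A) (ComplexShape.up ℤ) 0).obj
        (𝟙_ (ModuleCat.{u} A))) 0)
  exact CochainComplex.isKProjective_of_projective (U A) 0

variable [HasLTen A]

/-- `A[a] ⊗^L A[b] ≅ A` when `a + b = 0` -/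
noncomputable def unitShiftTensorIso (a b : ℤ) (h : b + a = 0) :
    (LTen₂ A).obj ((DTen.unit A)⟦a⟧, (DTen.unit A)⟦b⟧) ≅ DTen.unit A :=
  haveI := SplitIso.isIso_ε A ((U A)⟦a⟧) ((U A)⟦b⟧)
  (LTen₂ A).mapIso (Iso.prod ((Q.commShiftIso a).app (U A)).symm
      ((Q.commShiftIso b).app (U A)).symm) ≪≫
    (asIso ((ε A).app ((U A)⟦a⟧, (U A)⟦b⟧)) : _ ≅ Q.obj ((U A)⟦a⟧ ⊗ (U A)⟦b⟧)) ≪≫
    Q.mapIso ((CochainComplex.mapBifunctorShift₁Iso (U A) ((U A)⟦b⟧)
        (curriedTensor (ModuleCat.{u} A)) a : (U A)⟦a⟧ ⊗ (U A)⟦b⟧ ≅ ((U A) ⊗ (U A)⟦b⟧)⟦a⟧) ≪≫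
      (shiftFunctor (DRing.Cx A) a).mapIso (λ_ ((U A)⟦b⟧)) ≪≫
      (shiftFunctorCompIsoId (DRing.Cx A) b a h).app (U A))

variable [HasLTen₃ A] [IsSymMonoidal A]

instance isEquivalence_unit_shift (n : ℤ) : ((LTen A).obj ((DTen.unit A)⟦n⟧)).IsEquivalence :=
  isEquivalence_of_invertible _ ((DTen.unit A)⟦-n⟧) (unitShiftTensorIso A n (-n) (by omega))
    (unitShiftTensorIso A (-n) n (by omega))

end unit

end Groth.Agent.Helper6.DTenX
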