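import Mathlib
import Groth.Prelude.Def_DRing4
import Groth.Agent.Helper6.DTenX4
import Groth.Agent.Helper6.LocExt3

/-!
# Flat base change for morphisms in `D(A)`: the dévissage

For a flat `A`-module `B` and an `A`-linear map `m : B → Hom(W, Z)` we study
`Φ_X : B ⊗ Hom(X, W) → Hom(X, Z)`, `b ⊗ f ↦ f ≫ m b`.
-/

set_option autoImplicit false
set_option linter.style.haveILetI false
set_option linter.unusedSectionVars false

universe u
open CategoryTheory CategoryTheory.Limits Pretriangulated DerivedCategory TensorProduct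
attribute [local instance] HasDerivedCategory.standard

namespace Groth.Agent.Helper6.FBC
open Groth.Agent.Helper3.DRingLib

section Phi

variable {A : Type u} [CommRing A] (B : Type u) [CommRing B] [Algebra A B] {W Z : Dual.D A}
  (m : B →ₗ[A] (W ⟶ Z))

/-- `b ⊗ f ↦ f ≫ m b` -/
noncomputable def Phi (X : Dual.D A) : B ⊗[A] (X ⟶ W) →ₗ[A] (X ⟶ Z) :=
  TensorProduct.lift
    (LinearMap.mk₂ A (fun (b : B) (f : X ⟶ W) => f ≫ m b)
      (fun b b' f => by rw [map_add, Preadditive.comp_add])
      (fun c b f => by rw [map_smul, Linear.comp_smul])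
      (fun b f f' => by rw [Preadditive.add_comp])
      (fun c b f => by rw [Linear.smul_comp]))

lemma Phi_tmul (X : Dual.D A) (b : B) (f : X ⟶ W) : Phi B m X (b ⊗ₜ[A] f) = f ≫ m b := by
  simp [Phi]

lemma Phi_natural {X X' : Dual.D A} (u : X' ⟶ X) :
    (Phi B m X').comp (LinearMap.lTensor B (Linear.leftComp A W u)) =
      (Linear.leftComp A Z u).comp (Phi B m X) := by
  apply TensorProduct.ext'
  intro b f
  rw [LinearMap.comp_apply, LinearMap.comp_apply, LinearMap.lTensor_tmul, Phi_tmul, Phi_tmul]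
  show (u ≫ f) ≫ m b = u ≫ f ≫ m b
  rw [Category.assoc]

lemma Phi_natural_apply {X X' : Dual.D A} (u : X' ⟶ X) (t : B ⊗[A] (X ⟶ W)) :
    Phi B m X' (LinearMap.lTensor B (Linear.leftComp A W u) t) = u ≫ Phi B m X t :=
  congrArg (fun φ => φ t) (Phi_natural B m u)

lemma lTensor_bijective {M N : Type*} [AddCommGroup M] [AddCommGroup N] [Module A M]
    [Module A N] (f : M →ₗ[A] N) (hf : Function.Bijective f) :
    Function.Bijective (LinearMap.lTensor B f) :=
  ((LinearEquiv.ofBijective f hf).lTensor B).bijective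

/-- transfer of bijectivity of `Phi` along a map inducing bijections on `Hom`'s -/
lemma phi_bijective_transfer {X X' : Dual.D A} (u : X' ⟶ X)
    (hW : Function.Bijective (Linear.leftComp A W u))
    (hZ : Function.Bijective (Linear.leftComp A Z u)) :
    Function.Bijective (Phi B m X) ↔ Function.Bijective (Phi B m X') := by
  have hfun : (Phi B m X') ∘ (LinearMap.lTensor B (Linear.leftComp A W u)) =
      (Linear.leftComp A Z u) ∘ (Phi B m X) := by
    funext t
    exact Phi_natural_apply B m u t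
  have hL := lTensor_bijective B _ hW
  constructor
  · intro h
    have h1 : Function.Bijective
        ((Phi B m X') ∘ (LinearMap.lTensor B (Linear.leftComp A W u))) := by
      rw [hfun]
      exact hZ.comp h
    exact (Function.Bijective.of_comp_iff (Phi B m X') hL).mp h1
  · intro h
    have h1 : Function.Bijective ((Linear.leftComp A Z u) ∘ (Phi B m X)) := by
      rw [← hfun]
      exact h.comp hL
    exact (Function.Bijective.of_comp_iff' hZ (Phi B m X)).mp h1

lemma leftComp_bijective_of_iso {X X' : Dual.D A} (e : X' ≅ X) (Y : Dual.D A) :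
    Function.Bijective (Linear.leftComp A Y e.hom) := by
  constructor
  · intro f g h
    have h' : e.hom ≫ f = e.hom ≫ g := h
    exact (cancel_epi e.hom).mp h'
  · intro f
    exact ⟨e.inv ≫ f, by
      show e.hom ≫ e.inv ≫ f = f
      rw [Iso.hom_inv_id_assoc]⟩

lemma phi_bijective_of_iso {X X' : Dual.D A} (e : X ≅ X')
    (h : Function.Bijective (Phi B m X)) : Function.Bijective (Phi B m X') :=
  (phi_bijective_transfer B m e.inv (leftComp_bijective_of_iso e.symm W)
    (leftComp_bijective_of_iso e.symm Z)).mp h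

/-- `Phi` is bijective at all shifts of `X` -/
def PhiBij (X : Dual.D A) : Prop := ∀ k : ℤ, Function.Bijective (Phi B m (X⟦k⟧))

lemma phiBij_of_iso {X X' : Dual.D A} (e : X ≅ X') (h : PhiBij B m X) : PhiBij B m X' :=
  fun k => phi_bijective_of_iso B m ((CategoryTheory.shiftFunctor (Dual.D A) k).mapIso e) (h k)

lemma phiBij_of_isZero (X : Dual.D A) (hX : IsZero X) : PhiBij B m X := fun k => by
  have hz : IsZero (X⟦k⟧) := Functor.map_isZero _ hX
  haveI : Subsingleton (X⟦k⟧ ⟶ W) := ⟨fun f g => hz.eq_of_src f g⟩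
  haveI : Subsingleton (X⟦k⟧ ⟶ Z) := ⟨fun f g => hz.eq_of_src f g⟩
  constructor
  · intro s t _
    exact Subsingleton.elim s t
  · intro g
    exact ⟨0, Subsingleton.elim _ _⟩

lemma phiBij_shift (X : Dual.D A) (j : ℤ) (h : PhiBij B m X) : PhiBij B m (X⟦j⟧) := fun k =>
  phi_bijective_of_iso B m ((shiftFunctorAdd' (Dual.D A) j k (j + k) rfl).app X) (h (j + k))

lemma phiBij_retract (K Z' : Dual.D A) (i : K ⟶ Z') (r : Z' ⟶ K) (hir : i ≫ r = 𝟙 K)
    (h : PhiBij B m Z') : PhiBij B m K := fun k => by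
  have hk : i⟦k⟧' ≫ r⟦k⟧' = 𝟙 (K⟦k⟧) := by
    rw [← Functor.map_comp, hir, CategoryTheory.Functor.map_id]
  have hZ := h k
  have h2 : ∀ x : B ⊗[A] (K⟦k⟧ ⟶ W), (LinearMap.lTensor B (Linear.leftComp A W (i⟦k⟧')))
      ((LinearMap.lTensor B (Linear.leftComp A W (r⟦k⟧'))) x) = x := by
    intro x
    rw [← LinearMap.comp_apply, ← LinearMap.lTensor_comp]
    have hid : (Linear.leftComp A W (i⟦k⟧')).comp (Linear.leftComp A W (r⟦k⟧')) =
        LinearMap.id := by
      apply LinearMap.ext
      intro f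
      show i⟦k⟧' ≫ r⟦k⟧' ≫ f = f
      rw [← Category.assoc, hk, Category.id_comp]
    rw [hid, LinearMap.lTensor_id]
    rfl
  constructor
  · intro s t hst
    have h1 : (LinearMap.lTensor B (Linear.leftComp A W (r⟦k⟧'))) s =
        (LinearMap.lTensor B (Linear.leftComp A W (r⟦k⟧'))) t := by
      apply hZ.1
      rw [Phi_natural_apply, Phi_natural_apply, hst]
    rw [← h2 s, ← h2 t, h1]
  · intro g
    obtain ⟨s, hs⟩ := hZ.2 (r⟦k⟧' ≫ g)
    refine ⟨(LinearMap.lTensor B (Linear.leftComp A W (i⟦k⟧'))) s, ?_⟩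
    rw [Phi_natural_apply, hs, ← Category.assoc, hk, Category.id_comp]

variable [Module.Flat A B]

/-- the five lemma step -/
theorem phi_bijective_of_triangle (T : Triangle (Dual.D A)) (hT : T ∈ distTriang _)
    (h1 : Function.Bijective (Phi B m T.obj₁)) (h3 : Function.Bijective (Phi B m T.obj₃))
    (h1s : Function.Bijective (Phi B m (T.obj₁⟦(1 : ℤ)⟧)))
    (h3s : Function.Bijective (Phi B m (T.obj₃⟦(-1 : ℤ)⟧))) :
    Function.Bijective (Phi B m T.obj₂) := by
  have hTr := rot_of_distTriang _ hT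
  have hTi := inv_rot_of_distTriang _ hT
  have ex1 : ∀ Y : Dual.D A, Function.Exact (Linear.leftComp A Y T.mor₃)
      (Linear.leftComp A Y T.mor₂) := by
    intro Y y
    constructor
    · intro hy
      obtain ⟨g, hg⟩ := Triangle.yoneda_exact₂ _ hTr y hy
      exact ⟨g, hg.symm⟩
    · rintro ⟨g, rfl⟩
      show T.mor₂ ≫ T.mor₃ ≫ g = 0
      rw [← Category.assoc, comp_distTriang_mor_zero₂₃ _ hT, zero_comp]
  have ex2 : ∀ Y : Dual.D A, Function.Exact (Linear.leftComp A Y T.mor₂)
      (Linear.leftComp A Y T.mor₁) := by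
    intro Y y
    constructor
    · intro hy
      obtain ⟨g, hg⟩ := Triangle.yoneda_exact₂ _ hT y hy
      exact ⟨g, hg.symm⟩
    · rintro ⟨g, rfl⟩
      show T.mor₁ ≫ T.mor₂ ≫ g = 0
      rw [← Category.assoc, comp_distTriang_mor_zero₁₂ _ hT, zero_comp]
  have ex3 : ∀ Y : Dual.D A, Function.Exact (Linear.leftComp A Y T.mor₁)
      (Linear.leftComp A Y T.invRotate.mor₁) := by
    intro Y y
    constructor
    · intro hy
      obtain ⟨g, hg⟩ := Triangle.yoneda_exact₂ _ hTi y hy
      exact ⟨g, hg.symm⟩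
    · rintro ⟨g, rfl⟩
      show T.invRotate.mor₁ ≫ T.invRotate.mor₂ ≫ g = 0
      rw [← Category.assoc, comp_distTriang_mor_zero₁₂ _ hTi, zero_comp]
  exact LinearMap.bijective_of_surjective_of_bijective_of_bijective_of_injective
    (LinearMap.lTensor B (Linear.leftComp A W T.mor₃))
    (LinearMap.lTensor B (Linear.leftComp A W T.mor₂))
    (LinearMap.lTensor B (Linear.leftComp A W T.mor₁))
    (LinearMap.lTensor B (Linear.leftComp A W T.invRotate.mor₁))
    (Linear.leftComp A Z T.mor₃) (Linear.leftComp A Z T.mor₂) (Linear.leftComp A Z T.mor₁)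
    (Linear.leftComp A Z T.invRotate.mor₁)
    (Phi B m (T.obj₁⟦(1 : ℤ)⟧)) (Phi B m T.obj₃) (Phi B m T.obj₂) (Phi B m T.obj₁)
    (Phi B m (T.obj₃⟦(-1 : ℤ)⟧))
    (Phi_natural B m T.mor₃).symm (Phi_natural B m T.mor₂).symm (Phi_natural B m T.mor₁).symm
    (Phi_natural B m T.invRotate.mor₁).symm
    (Module.Flat.lTensor_exact B (ex1 W)) (Module.Flat.lTensor_exact B (ex2 W))
    (Module.Flat.lTensor_exact B (ex3 W))
    (ex1 Z) (ex2 Z) (ex3 Z) h1s.2 h3 h1 h3s.1

theorem phiBij_of_triangle (T : Triangle (Dual.D A)) (hT : T ∈ distTriang _)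
    (h1 : PhiBij B m T.obj₁) (h3 : PhiBij B m T.obj₃) : PhiBij B m T.obj₂ := by
  intro k
  have hTk : (Triangle.shiftFunctor (Dual.D A) k).obj T ∈ distTriang _ :=
    Triangle.shift_distinguished T hT k
  refine phi_bijective_of_triangle B m _ hTk (h1 k) (h3 k) ?_ ?_
  · exact phi_bijective_of_iso B m
      ((shiftFunctorAdd' (Dual.D A) k 1 (k + 1) rfl).app T.obj₁) (h1 (k + 1))
  · exact phi_bijective_of_iso B m
      ((shiftFunctorAdd' (Dual.D A) k (-1) (k - 1) (by omega)).app T.obj₃) (h3 (k - 1))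

/-- **dévissage**: `Phi` is bijective on perfect complexes as soon as it is on the shifts of `A` -/
theorem phiBij_of_isPerfect
    (hbase : PhiBij B m ((singleFunctor (ModuleCat.{u} A) 0).obj (ModuleCat.of A A)))
    {K : Dual.D A} (hK : DRing.IsPerfect A K) : PhiBij B m K :=
  Groth.Agent.Helper6.DTenX.perfect_induction (PhiBij B m)
    (fun e h => phiBij_of_iso B m e h) (phiBij_of_isZero B m)
    (fun T hT h1 h3 => phiBij_of_triangle B m T hT h1 h3)
    (fun K n h => phiBij_shift B m K n h)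
    (fun K Z' i r hir h => phiBij_retract B m K Z' i r hir h) hbase hK

/-- **`Phi` is bijective for pseudo-coherent `X`** and bounded below `W`, `Z`. -/
theorem phi_bijective_of_pc
    (hbase : PhiBij B m ((singleFunctor (ModuleCat.{u} A) 0).obj (ModuleCat.of A A)))
    (X : Dual.D A) (hX : ∀ n : ℤ, DRing.IsPseudoCoherent A n X) (a : ℤ) [W.IsGE a] [Z.IsGE a] :
    Function.Bijective (Phi B m X) := by
  obtain ⟨X₀, a₀, b₀, α, hbff, hα⟩ := (isPseudoCoherent_iff (a - 1) X).mp (hX (a - 1))
  obtain ⟨U, hU, hff, ⟨e⟩⟩ := hbff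
  have hperf : DRing.IsPerfect A X₀ :=
    ⟨U, a₀, b₀, hU, fun i => ⟨(hff i).1, by
      haveI := (hff i).2
      exact inferInstance⟩, ⟨e⟩⟩
  have h0 := phiBij_of_isPerfect B m hbase hperf 0
  have h0' : Function.Bijective (Phi B m X₀) :=
    phi_bijective_of_iso B m ((shiftFunctorZero (Dual.D A) ℤ).app X₀) h0
  have hW : Function.Bijective (Linear.leftComp A W α) :=
    Groth.Agent.Helper6.LocExt.precomp_bijective α a hα (Y := W)
  have hZ : Function.Bijective (Linear.leftComp A Z α) :=
    Groth.Agent.Helper6.LocExt.precomp_bijective α a hα (Y := Z)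
  exact (phi_bijective_transfer B m α hW hZ).mpr h0'

end Phi

end Groth.Agent.Helper6.FBC
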