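import Mathlib
import Groth.Prelude.Def_DRing4
import Groth.Agent.Helper6.FBC1
import Groth.Agent.Helper3.DRingDev
import Groth.Agent.Helper3.DRing1

/-!
# `A[-n]` corepresents `H^n` on `D(A)`; the base case of the dévissage
-/

set_option autoImplicit false
set_option linter.style.haveILetI false
set_option linter.unusedSectionVars false

universe u
open CategoryTheory CategoryTheory.Limits Pretriangulated DerivedCategory TensorProduct
attribute [local instance] HasDerivedCategory.standard

namespace Groth.Agent.Helper6.FBC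
open Groth.Agent.Helper3.DRingLib

section Lin

variable {A : Type u} [CommRing A] (n : ℤ)

instance linHC : Functor.Linear A
    (HomologicalComplex.homologyFunctor (ModuleCat.{u} A) (ComplexShape.up ℤ) n) where
  map_smul f a := by
    have h4 : (HomologicalComplex.shortComplexFunctor (ModuleCat.{u} A) (ComplexShape.up ℤ) n).map
        (a • f) = a • (HomologicalComplex.shortComplexFunctor _ _ n).map f := by
      ext <;> rfl
    show ShortComplex.homologyMap
      ((HomologicalComplex.shortComplexFunctor (ModuleCat.{u} A) (ComplexShape.up ℤ) n).map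
        (a • f)) = a • ShortComplex.homologyMap
      ((HomologicalComplex.shortComplexFunctor (ModuleCat.{u} A) (ComplexShape.up ℤ) n).map f)
    rw [h4, ShortComplex.homologyMap_smul]

noncomputable instance liftHD : Localization.Lifting (DerivedCategory.Q (C := ModuleCat.{u} A))
    (HomologicalComplex.quasiIso (ModuleCat.{u} A) (ComplexShape.up ℤ))
    (HomologicalComplex.homologyFunctor (ModuleCat.{u} A) (ComplexShape.up ℤ) n)
    (DerivedCategory.homologyFunctor (ModuleCat.{u} A) n) :=
  ⟨DerivedCategory.homologyFunctorFactors (ModuleCat.{u} A) n⟩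

/-- the cohomology functors on `D(A)` are `A`-linear -/
instance linHD : Functor.Linear A (DerivedCategory.homologyFunctor (ModuleCat.{u} A) n) :=
  (Localization.functor_linear_iff (DerivedCategory.Q (C := ModuleCat.{u} A))
    (HomologicalComplex.quasiIso (ModuleCat.{u} A) (ComplexShape.up ℤ)) A
    (HomologicalComplex.homologyFunctor (ModuleCat.{u} A) (ComplexShape.up ℤ) n)
    (DerivedCategory.homologyFunctor (ModuleCat.{u} A) n)).mp inferInstance

end Lin

section Ev

variable {A : Type u} [CommRing A]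

/-- `A` placed in degree `n` -/
noncomputable abbrev Gn (A : Type u) [CommRing A] (n : ℤ) : Dual.D A :=
  (singleFunctor (ModuleCat.{u} A) n).obj (ModuleCat.of A A)

/-- the canonical iso `H^n(N[-n]) ≅ N` -/
noncomputable abbrev ιH (n : ℤ) (N : ModuleCat.{u} A) :
    (homologyFunctor (ModuleCat.{u} A) n).obj ((singleFunctor (ModuleCat.{u} A) n).obj N) ≅ N :=
  (singleFunctorCompHomologyFunctorIso (ModuleCat.{u} A) n).app N

/-- the generator of `H^n(A[-n])` -/
noncomputable def un (n : ℤ) : Dual.HD A (Gn A n) n := (ιH n (ModuleCat.of A A)).inv.hom (1 : A)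

lemma ιH_un (n : ℤ) : (ιH n (ModuleCat.of A A)).hom.hom (un (A := A) n) = (1 : A) := by
  have h := congrArg (fun φ => φ.hom (1 : A)) (ιH n (ModuleCat.of A A)).inv_hom_id
  exact h

/-- evaluation at the generator -/
noncomputable def ev (W : Dual.D A) (n : ℤ) : (Gn A n ⟶ W) →ₗ[A] Dual.HD A W n where
  toFun f := ((homologyFunctor (ModuleCat.{u} A) n).map f).hom (un n)
  map_add' f g := by
    rw [Functor.map_add]
    rfl
  map_smul' a f := by
    rw [Functor.map_smul]
    rfl

lemma ev_apply (W : Dual.D A) (n : ℤ) (f : Gn A n ⟶ W) :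
    ev W n f = ((homologyFunctor (ModuleCat.{u} A) n).map f).hom (un n) := rfl

lemma ev_natural {W W' : Dual.D A} (n : ℤ) (f : Gn A n ⟶ W) (g : W ⟶ W') :
    ev W' n (f ≫ g) = ((homologyFunctor (ModuleCat.{u} A) n).map g).hom (ev W n f) := by
  rw [ev_apply, ev_apply, Functor.map_comp]
  rfl

lemma ev_single_key (n : ℤ) (N : ModuleCat.{u} A) (h : ModuleCat.of A A ⟶ N) :
    (ιH n N).hom.hom (ev _ n ((singleFunctor (ModuleCat.{u} A) n).map h)) = h.hom (1 : A) := by
  have hnat := (singleFunctorCompHomologyFunctorIso (ModuleCat.{u} A) n).hom.naturality h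
  have h2 := congrArg (fun φ => φ.hom (un (A := A) n)) hnat
  have h3 : (ιH n N).hom.hom (ev _ n ((singleFunctor (ModuleCat.{u} A) n).map h)) =
      h.hom ((ιH n (ModuleCat.of A A)).hom.hom (un (A := A) n)) := h2
  rw [h3, ιH_un]

lemma ev_single_bijective (n : ℤ) (N : ModuleCat.{u} A) :
    Function.Bijective (ev ((singleFunctor (ModuleCat.{u} A) n).obj N) n) := by
  constructor
  · intro f g hfg
    obtain ⟨h, rfl⟩ := (singleFunctor (ModuleCat.{u} A) n).map_surjective f
    obtain ⟨h', rfl⟩ := (singleFunctor (ModuleCat.{u} A) n).map_surjective g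
    have h1 : h.hom (1 : A) = h'.hom (1 : A) := by
      rw [← ev_single_key, ← ev_single_key, hfg]
    have hh : h = h' := by
      apply ModuleCat.hom_ext
      apply LinearMap.ext_ring
      exact h1
    rw [hh]
  · intro y
    let h : ModuleCat.of A A ⟶ N :=
      ModuleCat.ofHom (LinearMap.toSpanSingleton A N ((ιH n N).hom.hom y))
    refine ⟨(singleFunctor (ModuleCat.{u} A) n).map h, ?_⟩
    apply (ConcreteCategory.bijective_of_isIso (ιH n N).hom).1
    show (ιH n N).hom.hom (ev _ n ((singleFunctor (ModuleCat.{u} A) n).map h)) =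
      (ιH n N).hom.hom y
    rw [ev_single_key]
    show LinearMap.toSpanSingleton A N ((ιH n N).hom.hom y) (1 : A) = _
    rw [LinearMap.toSpanSingleton_apply, one_smul]

lemma postcomp_mor₁_bijective (T : Triangle (Dual.D A)) (hT : T ∈ distTriang _) (P : Dual.D A)
    (h3 : ∀ f : P ⟶ T.obj₃, f = 0) (h3' : ∀ f : P ⟶ T.obj₃⟦(-1 : ℤ)⟧, f = 0) :
    Function.Bijective (fun f : P ⟶ T.obj₁ => f ≫ T.mor₁) := by
  constructor
  · intro f g hfg
    have h0 : (f - g) ≫ T.mor₁ = 0 := by
      rw [Preadditive.sub_comp]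
      exact sub_eq_zero.mpr hfg
    have hTi := inv_rot_of_distTriang _ hT
    obtain ⟨x, hx⟩ := Triangle.coyoneda_exact₂ _ hTi (f - g) h0
    have hx0 : x = 0 := h3' x
    rw [hx0, zero_comp] at hx
    exact sub_eq_zero.mp hx
  · intro f₂
    obtain ⟨f₁, hf₁⟩ := Triangle.coyoneda_exact₂ _ hT f₂ (h3 _)
    exact ⟨f₁, hf₁.symm⟩

lemma postcomp_mor₂_bijective (T : Triangle (Dual.D A)) (hT : T ∈ distTriang _) (P : Dual.D A)
    (h1 : ∀ f : P ⟶ T.obj₁, f = 0) (h1' : ∀ f : P ⟶ T.obj₁⟦(1 : ℤ)⟧, f = 0) :
    Function.Bijective (fun f : P ⟶ T.obj₂ => f ≫ T.mor₂) := by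
  constructor
  · intro f g hfg
    have h0 : (f - g) ≫ T.mor₂ = 0 := by
      rw [Preadditive.sub_comp]
      exact sub_eq_zero.mpr hfg
    obtain ⟨x, hx⟩ := Triangle.coyoneda_exact₂ _ hT (f - g) h0
    rw [h1 x, zero_comp] at hx
    exact sub_eq_zero.mp hx
  · intro f₃
    obtain ⟨f₂, hf₂⟩ := Triangle.coyoneda_exact₃ _ hT f₃ (h1' _)
    exact ⟨f₂, hf₂.symm⟩

lemma ev_bijective_of_postcomp {W₁ W₂ : Dual.D A} (g : W₁ ⟶ W₂) (n : ℤ)
    (hg : Function.Bijective (fun f : Gn A n ⟶ W₁ => f ≫ g))
    (hH : IsIso ((homologyFunctor (ModuleCat.{u} A) n).map g)) :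
    Function.Bijective (ev W₁ n) ↔ Function.Bijective (ev W₂ n) := by
  have hfun : (ev W₂ n) ∘ (fun f : Gn A n ⟶ W₁ => f ≫ g) =
      ((homologyFunctor (ModuleCat.{u} A) n).map g).hom ∘ (ev W₁ n) := by
    funext f
    exact ev_natural n f g
  have hHb : Function.Bijective ((homologyFunctor (ModuleCat.{u} A) n).map g).hom :=
    ConcreteCategory.bijective_of_isIso _
  constructor
  · intro h
    have h1 : Function.Bijective ((ev W₂ n) ∘ (fun f : Gn A n ⟶ W₁ => f ≫ g)) := by
      rw [hfun]
      exact hHb.comp h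
    exact (Function.Bijective.of_comp_iff _ hg).mp h1
  · intro h
    have h1 : Function.Bijective
        (((homologyFunctor (ModuleCat.{u} A) n).map g).hom ∘ (ev W₁ n)) := by
      rw [← hfun]
      exact h.comp hg
    exact (Function.Bijective.of_comp_iff' hHb _).mp h1

/-- `A[-n]` has no maps to objects living in degrees `< n` -/
lemma Gn_hom_eq_zero (n : ℤ) (Y : Dual.D A) (k : ℤ) (hk : k < n) [Y.IsLE k] (f : Gn A n ⟶ Y) :
    f = 0 := by
  let S : DRing.Cx A := (CochainComplex.singleFunctor (ModuleCat.{u} A) n).obj (ModuleCat.of A A)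
  have hSproj : S.IsKProjective := by
    have hS : ∀ k : ℤ, Module.Projective A (S.X k) := by
      intro k
      by_cases hk : k = n
      · subst hk
        exact Module.Projective.of_equiv
          (HomologicalComplex.singleObjXSelf (ComplexShape.up ℤ) k
            (ModuleCat.of A A)).toLinearEquiv.symm
      · have hz : IsZero (S.X k) := HomologicalComplex.isZero_single_obj_X _ _ _ _ hk
        have := ModuleCat.subsingleton_of_isZero hz
        infer_instance
    exact isKProjective_of_vanishesAbove S n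
      (fun k hk => HomologicalComplex.isZero_single_obj_X _ _ _ _ (by omega)) hS
  let eS : Gn A n ≅ DRing.toD S :=
    (DerivedCategory.singleFunctorIsoCompQ (ModuleCat.{u} A) n).app (ModuleCat.of A A)
  have h0 : eS.inv ≫ f = 0 :=
    hom_eq_zero_of_isLE S n
      (fun i hi => HomologicalComplex.isZero_single_obj_X _ _ _ _ (by omega)) Y k hk _
  rw [← cancel_epi eS.inv, h0, comp_zero]

/-- **`A[-n]` corepresents `H^n`.** -/
theorem ev_bijective (W : Dual.D A) (n : ℤ) : Function.Bijective (ev W n) := by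
  -- truncate above
  obtain ⟨X', Y', hX', hY', i, p, δ, hT⟩ := TStructure.t.exists_triangle W n (n + 1) (by omega)
  haveI iX : X'.IsLE n := ⟨hX'⟩
  haveI iY : Y'.IsGE (n + 1) := ⟨hY'⟩
  have iY' : (Triangle.mk i p δ).obj₃.IsGE (n + 1) := iY
  have hA := postcomp_mor₁_bijective (Triangle.mk i p δ) hT (Gn A n)
    (fun f => TStructure.t.zero_of_isLE_of_isGE f n (n + 1) (by omega) inferInstance iY)
    (fun f => by
      have hsh : (Y'⟦(-1 : ℤ)⟧).IsGE (n + 2) := TStructure.t.isGE_shift Y' (n + 1) (-1) (n + 2) (by omega)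
      exact TStructure.t.zero_of_isLE_of_isGE f n (n + 2) (by omega) inferInstance hsh)
  have hiso : IsIso ((homologyFunctor (ModuleCat.{u} A) n).map i) :=
    isIso_HD_mor₁ (Triangle.mk i p δ) hT n n le_rfl
  refine (ev_bijective_of_postcomp i n hA hiso).mp ?_
  -- truncate below
  obtain ⟨X'', Y'', hX'', hY'', i', p', δ', hT'⟩ :=
    TStructure.t.exists_triangle X' (n - 1) n (by omega)
  haveI jX : X''.IsLE (n - 1) := ⟨hX''⟩
  haveI jY : Y''.IsGE n := ⟨hY''⟩
  have jX' : (Triangle.mk i' p' δ').obj₁.IsLE (n - 1) := jX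
  have hB := postcomp_mor₂_bijective (Triangle.mk i' p' δ') hT' (Gn A n)
    (fun f => Gn_hom_eq_zero n X'' (n - 1) (by omega) f)
    (fun f => by
      have hsh : (X''⟦(1 : ℤ)⟧).IsLE (n - 2) := TStructure.t.isLE_shift X'' (n - 1) 1 (n - 2) (by omega)
      exact @Gn_hom_eq_zero _ _ n (X''⟦(1 : ℤ)⟧) (n - 2) (by omega) hsh f)
  have hiso' : IsIso ((homologyFunctor (ModuleCat.{u} A) n).map p') :=
    isIso_HD_mor₂ (Triangle.mk i' p' δ') hT' (n - 1) n (by omega)
  refine (ev_bijective_of_postcomp p' n hB hiso').mpr ?_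
  -- concentrated in one degree
  haveI : Y''.IsLE n := isLE_of_HD Y'' n (fun j hj => by
    have hisoj : IsIso ((homologyFunctor (ModuleCat.{u} A) j).map p') :=
      isIso_HD_mor₂ (Triangle.mk i' p' δ') hT' (n - 1) j (by omega)
    haveI := subsingleton_HD_of_isLE X' n j hj
    exact (@asIso _ _ _ _ _ hisoj).toLinearEquiv.symm.toEquiv.subsingleton)
  obtain ⟨N, ⟨eY⟩⟩ := exists_iso_singleFunctor_obj_of_isGE_of_isLE Y'' n
  have hC : Function.Bijective (fun f : Gn A n ⟶ Y'' => f ≫ eY.hom) := by
    constructor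
    · intro f g hfg
      exact (cancel_mono eY.hom).mp hfg
    · intro f
      exact ⟨f ≫ eY.inv, by simp⟩
  exact (ev_bijective_of_postcomp eY.hom n hC inferInstance).mpr (ev_single_bijective n N)

end Ev

section Base

variable {A : Type u} [CommRing A] (B : Type u) [CommRing B] [Algebra A B] {W Z : Dual.D A}
  (m : B →ₗ[A] (W ⟶ Z))

/-- the map induced by `m` on cohomology -/
noncomputable def hbMap (n : ℤ) : B ⊗[A] Dual.HD A W n →ₗ[A] Dual.HD A Z n :=
  TensorProduct.lift
    (LinearMap.mk₂ A
      (fun (b : B) (y : Dual.HD A W n) => ((homologyFunctor (ModuleCat.{u} A) n).map (m b)).hom y)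
      (fun b b' y => by
        rw [map_add, Functor.map_add]
        rfl)
      (fun c b y => by
        rw [map_smul, Functor.map_smul]
        rfl)
      (fun b y y' => map_add _ y y')
      (fun c b y => map_smul _ c y))

lemma hbMap_tmul (n : ℤ) (b : B) (y : Dual.HD A W n) :
    hbMap B m n (b ⊗ₜ[A] y) = ((homologyFunctor (ModuleCat.{u} A) n).map (m b)).hom y := by
  simp [hbMap]

theorem phi_bijective_Gn (n : ℤ) (hb : Function.Bijective (hbMap B m n)) :
    Function.Bijective (Phi B m (Gn A n)) := by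
  have hsq : (ev Z n).comp (Phi B m (Gn A n)) =
      (hbMap B m n).comp (LinearMap.lTensor B (ev W n)) := by
    apply TensorProduct.ext'
    intro b f
    rw [LinearMap.comp_apply, LinearMap.comp_apply, LinearMap.lTensor_tmul, Phi_tmul, hbMap_tmul,
      ev_natural]
  have hfun : (ev Z n) ∘ (Phi B m (Gn A n)) =
      (hbMap B m n) ∘ (LinearMap.lTensor B (ev W n)) := by
    funext t
    exact congrArg (fun φ => φ t) hsq
  have h1 : Function.Bijective ((ev Z n) ∘ (Phi B m (Gn A n))) := by
    rw [hfun]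
    exact hb.comp (lTensor_bijective B _ (ev_bijective W n))
  exact (Function.Bijective.of_comp_iff' (ev_bijective Z n) _).mp h1

/-- **the base case** of the dévissage -/
theorem phiBij_base (hb : ∀ n : ℤ, Function.Bijective (hbMap B m n)) :
    PhiBij B m ((singleFunctor (ModuleCat.{u} A) 0).obj (ModuleCat.of A A)) := by
  intro k
  obtain ⟨n, rfl⟩ : ∃ n : ℤ, k = -n := ⟨-k, by omega⟩
  exact phi_bijective_of_iso B m (singleShiftIso (ModuleCat.of A A) n).symm
    (phi_bijective_Gn B m n (hb n))

end Base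

end Groth.Agent.Helper6.FBC
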