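import Mathlib
import Groth.Agent.Helper6.FlatBC

/-!
# Flat base change: cohomology of `R E X`
-/

set_option autoImplicit false
universe u
open CategoryTheory CategoryTheory.Limits DerivedCategory

attribute [local instance] HasDerivedCategory.standard

namespace Groth.Agent.Helper6.FlatBC

open Groth.Agent.Helper3.DRingLib TensorProduct

variable {A B : Type u} [CommRing A] [CommRing B] [Algebra A B] [Module.Flat A B]

/-- `T K` as a complex -/
noncomputable abbrev TCx (K : DRing.Cx A) : DRing.Cx A :=
  ((Rf A B).mapHomologicalComplex (ComplexShape.up ℤ)).obj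
    (((Ef A B).mapHomologicalComplex (ComplexShape.up ℤ)).obj K)

/-- the identity-functor automorphism of homology -/
noncomputable def αIso (K : DRing.Cx A) (i : ℤ) : K.homology i ≅ K.homology i :=
  (K.sc i).mapHomologyIso (𝟭 (ModuleCat.{u} A))

/-- homology of `T K` -/
noncomputable def homologyTIso (K : DRing.Cx A) (i : ℤ) :
    (TCx (B := B) K).homology i ≅ (Tf A B).obj (K.homology i) :=
  (K.sc i).mapHomologyIso (Tf A B) ≪≫ (Tf A B).mapIso (αIso K i).symm

/-- the comparison iso `H(T K) ≅ T (H K)` -/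
noncomputable def βIso (K : DRing.Cx A) (i : ℤ) :
    (TCx (B := B) K).homology i ≅ (Tf A B).obj (K.homology i) :=
  (K.sc i).mapHomologyIso (Tf A B)

lemma app_homology_eq (K : DRing.Cx A) (i : ℤ) :
    (uf A B).app (K.homology i) =
      (αIso K i).inv ≫ HomologicalComplex.homologyMap ((adjCx A B).unit.app K) i ≫
        (βIso (B := B) K i).hom :=
  NatTrans.app_homology (uf A B) (K.sc i)

lemma homologyMap_unit (K : DRing.Cx A) (i : ℤ) :
    HomologicalComplex.homologyMap ((adjCx A B).unit.app K) i ≫ (homologyTIso (B := B) K i).hom =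
      (uf A B).app (K.homology i) := by
  have h := app_homology_eq (B := B) K i
  have hn : (αIso K i).inv ≫ (uf A B).app (K.homology i) =
      (uf A B).app (K.homology i) ≫ (Tf A B).map (αIso K i).inv :=
    (uf A B).naturality (αIso K i).inv
  obtain ⟨g, hg⟩ : ∃ g : K.homology i ⟶ (TCx (B := B) K).homology i,
      g = HomologicalComplex.homologyMap ((adjCx A B).unit.app K) i := ⟨_, rfl⟩
  rw [← hg] at h ⊢
  have h3 : g ≫ (βIso (B := B) K i).hom = (αIso K i).hom ≫ (uf A B).app (K.homology i) := by
    rw [h, Iso.hom_inv_id_assoc]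
  have h4 : (homologyTIso (B := B) K i).hom =
      (βIso (B := B) K i).hom ≫ (Tf A B).map (αIso K i).inv := rfl
  rw [h4, ← Category.assoc, h3, Category.assoc, ← hn, Iso.hom_inv_id_assoc]

/-- `E K` as a complex -/
noncomputable abbrev ECx (K : DRing.Cx A) : DRing.Cx B :=
  ((Ef A B).mapHomologicalComplex (ComplexShape.up ℤ)).obj K

/-- `R L` as a complex -/
noncomputable abbrev RCx (L : DRing.Cx B) : DRing.Cx A :=
  ((Rf A B).mapHomologicalComplex (ComplexShape.up ℤ)).obj L

noncomputable def facE (K : DRing.Cx A) :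
    (ED A B).obj (DerivedCategory.Q.obj K) ≅ DerivedCategory.Q.obj (ECx (B := B) K) :=
  (Ef A B).mapDerivedCategoryFactors.app K

noncomputable def facR (L : DRing.Cx B) :
    (RD A B).obj (DerivedCategory.Q.obj L) ≅ DerivedCategory.Q.obj (RCx (A := A) L) :=
  (Rf A B).mapDerivedCategoryFactors.app L

noncomputable def facH (K : DRing.Cx A) (i : ℤ) :
    (DerivedCategory.homologyFunctor (ModuleCat.{u} A) i).obj (DerivedCategory.Q.obj K) ≅
      K.homology i :=
  (DerivedCategory.homologyFunctorFactors (ModuleCat.{u} A) i).app K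

lemma facH_naturality {K L : DRing.Cx A} (f : K ⟶ L) (i : ℤ) :
    (DerivedCategory.homologyFunctor (ModuleCat.{u} A) i).map (DerivedCategory.Q.map f) ≫
      (facH L i).hom = (facH K i).hom ≫ HomologicalComplex.homologyMap f i :=
  DerivedCategory.homologyFunctorFactors_hom_naturality _ _

/-- the unit of the derived adjunction on `Q.obj K` -/
lemma unit_app_Q (K : DRing.Cx A) :
    (adjD A B).unit.app (DerivedCategory.Q.obj K) ≫
      (RD A B).map (facE (B := B) K).hom ≫ (facR (A := A) (ECx (B := B) K)).hom =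
      DerivedCategory.Q.map ((adjCx A B).unit.app K) := by
  have h := Adjunction.localization_unit_app (adjCx A B) DerivedCategory.Q
    (HomologicalComplex.quasiIso (ModuleCat.{u} A) (ComplexShape.up ℤ)) DerivedCategory.Q
    (HomologicalComplex.quasiIso (ModuleCat.{u} B) (ComplexShape.up ℤ)) (ED A B) (RD A B) K
  have h' : (adjD A B).unit.app (DerivedCategory.Q.obj K) =
      DerivedCategory.Q.map ((adjCx A B).unit.app K) ≫
        (facR (A := A) (ECx (B := B) K)).inv ≫ (RD A B).map (facE (B := B) K).inv := h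
  rw [h']
  simp only [Category.assoc]
  rw [← (RD A B).map_comp_assoc, (facE (B := B) K).inv_hom_id, (RD A B).map_id, Category.id_comp,
    (facR (A := A) (ECx (B := B) K)).inv_hom_id]
  exact Category.comp_id _

/-- cohomology of `R E (Q K)` -/
noncomputable def θIso (K : DRing.Cx A) (i : ℤ) :
    (DerivedCategory.homologyFunctor (ModuleCat.{u} A) i).obj
        ((RD A B).obj ((ED A B).obj (DerivedCategory.Q.obj K))) ≅
      (TCx (B := B) K).homology i :=
  (DerivedCategory.homologyFunctor (ModuleCat.{u} A) i).mapIso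
      ((RD A B).mapIso (facE (B := B) K) ≪≫ facR (A := A) (ECx (B := B) K)) ≪≫
    facH (TCx (B := B) K) i

lemma homology_unit_Q (K : DRing.Cx A) (i : ℤ) :
    (DerivedCategory.homologyFunctor (ModuleCat.{u} A) i).map
        ((adjD A B).unit.app (DerivedCategory.Q.obj K)) ≫ (θIso (B := B) K i).hom =
      (facH K i).hom ≫ HomologicalComplex.homologyMap ((adjCx A B).unit.app K) i := by
  have h1 : (θIso (B := B) K i).hom =
      (DerivedCategory.homologyFunctor (ModuleCat.{u} A) i).map
        ((RD A B).map (facE (B := B) K).hom ≫ (facR (A := A) (ECx (B := B) K)).hom) ≫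
      (facH (TCx (B := B) K) i).hom := rfl
  rw [h1, ← Category.assoc, ← Functor.map_comp, unit_app_Q]
  exact facH_naturality _ i

/-- **the cohomology of `R E X`**, compatibly with the unit -/
theorem exists_iso_homology_unit (X : Dual.D A) (i : ℤ) :
    ∃ E : (DerivedCategory.homologyFunctor (ModuleCat.{u} A) i).obj
          ((RD A B).obj ((ED A B).obj X)) ≅
        (Tf A B).obj ((DerivedCategory.homologyFunctor (ModuleCat.{u} A) i).obj X),
      (DerivedCategory.homologyFunctor (ModuleCat.{u} A) i).map ((adjD A B).unit.app X) ≫ E.hom =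
        (uf A B).app _ := by
  let K : DRing.Cx A := DerivedCategory.Q.objPreimage X
  let e₀ : DerivedCategory.Q.obj K ≅ X := DerivedCategory.Q.objObjPreimageIso X
  let H := DerivedCategory.homologyFunctor (ModuleCat.{u} A) i
  let ι : K.homology i ≅ H.obj X :=
    (facH K i).symm ≪≫ H.mapIso e₀
  refine ⟨H.mapIso ((RD A B).mapIso ((ED A B).mapIso e₀.symm)) ≪≫ θIso (B := B) K i ≪≫
    homologyTIso (B := B) K i ≪≫ (Tf A B).mapIso ι, ?_⟩
  have hnat : (adjD A B).unit.app X ≫ (RD A B).map ((ED A B).map e₀.inv) =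
      e₀.inv ≫ (adjD A B).unit.app (DerivedCategory.Q.obj K) :=
    ((adjD A B).unit.naturality e₀.inv).symm
  simp only [Iso.trans_hom, Functor.mapIso_hom, Iso.symm_hom]
  rw [← Category.assoc, ← Functor.map_comp, hnat, Functor.map_comp, Category.assoc,
    ← Category.assoc (H.map ((adjD A B).unit.app (DerivedCategory.Q.obj K))),
    homology_unit_Q, Category.assoc, ← Category.assoc (HomologicalComplex.homologyMap _ i),
    homologyMap_unit]
  have hn2 := (uf A B).naturality ι.hom
  rw [← hn2]
  have h3 : H.map e₀.inv ≫ (facH K i).hom ≫ (𝟭 (ModuleCat.{u} A)).map ι.hom = 𝟙 _ := by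
    show H.map e₀.inv ≫ (facH K i).hom ≫ ((facH K i).inv ≫ H.map e₀.hom) = 𝟙 _
    rw [Iso.hom_inv_id_assoc, ← Functor.map_comp, e₀.inv_hom_id, CategoryTheory.Functor.map_id]
  rw [← Category.assoc, ← Category.assoc, Category.assoc (H.map e₀.inv)]
  exact (congrArg (· ≫ (uf A B).app (H.obj X)) h3).trans (Category.id_comp _)

/-- **the cohomology of `R E X`**, as a linear equivalence -/
theorem exists_HD_equiv (X : Dual.D A) (i : ℤ) :
    ∃ e : Dual.HD A ((RD A B).obj ((ED A B).obj X)) i ≃ₗ[A] B ⊗[A] Dual.HD A X i,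
      ∀ x : Dual.HD A X i,
        e (((DerivedCategory.homologyFunctor (ModuleCat.{u} A) i).map
          ((adjD A B).unit.app X)).hom x) = (1 : B) ⊗ₜ[A] x := by
  obtain ⟨E, hE⟩ := exists_iso_homology_unit (B := B) X i
  refine ⟨E.toLinearEquiv ≪≫ₗ TfEquiv (B := B) _, fun x => ?_⟩
  have := congrArg (fun φ => φ.hom x) hE
  simp only [ModuleCat.hom_comp, LinearMap.comp_apply] at this
  show TfEquiv (B := B) _ (E.hom.hom _) = _
  rw [this]
  rfl

end Groth.Agent.Helper6.FlatBC
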