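import Mathlib
import Groth.Agent.Helper6.FlatBCH
import Groth.Agent.Helper6.FBC2
import Groth.Agent.Helper6.LocExt3

/-!
# Flat base change for `Hom` in the derived category

For a flat ring map `A → B`, a pseudo-coherent `X` and a bounded below `W`, the natural map
`B ⊗ Hom(X, W) → Hom(X, R E W) = Hom(E X, E W)` is bijective.
-/

set_option autoImplicit false
set_option linter.style.haveILetI false
set_option linter.unusedSectionVars false

universe u
open CategoryTheory CategoryTheory.Limits Pretriangulated DerivedCategory TensorProduct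
attribute [local instance] HasDerivedCategory.standard

namespace Groth.Agent.Helper6.FBC
open Groth.Agent.Helper3.DRingLib Groth.Agent.Helper6.FlatBC

variable {A B : Type u} [CommRing A] [CommRing B] [Algebra A B] [Module.Flat A B]

section Semilinear

omit [Module.Flat A B] in
lemma Rf_map_smul' {X Y : ModuleCat.{u} B} (a : A) (g : X ⟶ Y) :
    (Rf A B).map ((algebraMap A B a) • g) = a • (Rf A B).map g := by
  apply ModuleCat.hom_ext
  apply LinearMap.ext
  intro x
  rfl

omit [Module.Flat A B] in
lemma RCx_map_smul_id (L : DRing.Cx B) (a : A) :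
    ((Rf A B).mapHomologicalComplex (ComplexShape.up ℤ)).map ((algebraMap A B a) • 𝟙 L) =
      a • 𝟙 (RCx (A := A) L) := by
  apply HomologicalComplex.hom_ext
  intro i
  rw [HomologicalComplex.smul_f_apply, HomologicalComplex.id_f]
  show (Rf A B).map (((algebraMap A B a) • 𝟙 L).f i) = _
  rw [HomologicalComplex.smul_f_apply, HomologicalComplex.id_f, Rf_map_smul',
    CategoryTheory.Functor.map_id]
  rfl

lemma RD_map_smul_id (Y : Dual.D B) (a : A) :
    (RD A B).map ((algebraMap A B a) • 𝟙 Y) = a • 𝟙 ((RD A B).obj Y) := by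
  let L := DerivedCategory.Q.objPreimage Y
  let e : DerivedCategory.Q.obj L ≅ Y := DerivedCategory.Q.objObjPreimageIso Y
  have h1 : (algebraMap A B a) • 𝟙 Y =
      e.inv ≫ DerivedCategory.Q.map ((algebraMap A B a) • 𝟙 L) ≫ e.hom := by
    rw [Functor.map_smul, CategoryTheory.Functor.map_id, Linear.smul_comp, Linear.comp_smul,
      Category.id_comp, e.inv_hom_id]
  have hnat : (RD A B).map (DerivedCategory.Q.map ((algebraMap A B a) • 𝟙 L)) ≫
      (facR (A := A) L).hom = (facR (A := A) L).hom ≫
        DerivedCategory.Q.map (((Rf A B).mapHomologicalComplex (ComplexShape.up ℤ)).map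
          ((algebraMap A B a) • 𝟙 L)) :=
    (Rf A B).mapDerivedCategoryFactors_hom_naturality ((algebraMap A B a) • 𝟙 L)
  have h2 : (RD A B).map (DerivedCategory.Q.map ((algebraMap A B a) • 𝟙 L)) =
      a • 𝟙 ((RD A B).obj (DerivedCategory.Q.obj L)) := by
    have h3 : (RD A B).map (DerivedCategory.Q.map ((algebraMap A B a) • 𝟙 L)) =
        (facR (A := A) L).hom ≫ DerivedCategory.Q.map
          (((Rf A B).mapHomologicalComplex (ComplexShape.up ℤ)).map ((algebraMap A B a) • 𝟙 L)) ≫
          (facR (A := A) L).inv := by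
      rw [← Category.assoc, ← hnat, Category.assoc, Iso.hom_inv_id, Category.comp_id]
    rw [h3, RCx_map_smul_id, Functor.map_smul, CategoryTheory.Functor.map_id, Linear.smul_comp,
      Linear.comp_smul, Category.id_comp, Iso.hom_inv_id]
  rw [h1, Functor.map_comp, Functor.map_comp, h2, Linear.smul_comp, Linear.comp_smul,
    Category.id_comp, ← Functor.map_comp, e.inv_hom_id, CategoryTheory.Functor.map_id]

/-- restriction of scalars is semilinear -/
lemma RD_map_smul {Y Y' : Dual.D B} (a : A) (g : Y ⟶ Y') :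
    (RD A B).map ((algebraMap A B a) • g) = a • (RD A B).map g := by
  have h1 : (algebraMap A B a) • g = ((algebraMap A B a) • 𝟙 Y) ≫ g := by
    rw [Linear.smul_comp, Category.id_comp]
  rw [h1, Functor.map_comp, RD_map_smul_id, Linear.smul_comp, Category.id_comp]

end Semilinear

section MMap

variable (B)

/-- `b ↦ η ≫ R(b • 𝟙)`, the `B`-action on `R E Y` precomposed with the unit -/
noncomputable def mMap (Y : Dual.D A) : B →ₗ[A] (Y ⟶ (RD A B).obj ((ED A B).obj Y)) where
  toFun b := (adjD A B).unit.app Y ≫ (RD A B).map (b • 𝟙 ((ED A B).obj Y))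
  map_add' b b' := by
    rw [add_smul, Functor.map_add, Preadditive.comp_add]
  map_smul' a b := by
    rw [RingHom.id_apply, Algebra.smul_def, mul_smul, RD_map_smul, Linear.comp_smul]

lemma mMap_apply (Y : Dual.D A) (b : B) :
    mMap B Y b = (adjD A B).unit.app Y ≫ (RD A B).map (b • 𝟙 ((ED A B).obj Y)) := rfl

/-- the adjunct of `b • E f` is `Φ (b ⊗ f)` -/
lemma homEquiv_smul_map {X W : Dual.D A} (b : B) (f : X ⟶ W) :
    (adjD A B).homEquiv X ((ED A B).obj W) (b • (ED A B).map f) =
      Phi B (mMap B W) X (b ⊗ₜ[A] f) := by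
  rw [Phi_tmul, mMap_apply, Adjunction.homEquiv_unit]
  have h1 : b • (ED A B).map f = (ED A B).map f ≫ (b • 𝟙 ((ED A B).obj W)) := by
    rw [Linear.comp_smul, Category.comp_id]
  have h2 : (adjD A B).unit.app X ≫ (RD A B).map ((ED A B).map f) =
      f ≫ (adjD A B).unit.app W := ((adjD A B).unit.naturality f).symm
  rw [h1, Functor.map_comp, ← Category.assoc, h2, Category.assoc]

end MMap

section Equivariant

/-- multiplication by `b` on `B ⊗ N`, as a natural endomorphism of `Tf` -/
noncomputable def βb (b : B) : Tf A B ⟶ Tf A B where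
  app N := (Rf A B).map (b • 𝟙 ((Ef A B).obj N))
  naturality N N' f := by
    show (Rf A B).map ((Ef A B).map f) ≫ (Rf A B).map (b • 𝟙 _) =
      (Rf A B).map (b • 𝟙 _) ≫ (Rf A B).map ((Ef A B).map f)
    rw [← Functor.map_comp, ← Functor.map_comp, Linear.comp_smul, Linear.smul_comp,
      Category.comp_id, Category.id_comp]

omit [Module.Flat A B] in
lemma TfEquiv_βb (N : ModuleCat.{u} A) (b : B) (w : (Tf A B).obj N) :
    TfEquiv (B := B) N (((βb (A := A) b).app N).hom w) = b • TfEquiv (B := B) N w := by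
  show extendScalarsEquiv (B := B) N (b • (show (Ef A B).obj N from w)) =
    b • extendScalarsEquiv (B := B) N w
  exact map_smul _ _ _

/-- the chain-level endomorphism `b` of `T K` -/
noncomputable abbrev bCx (K : DRing.Cx A) (b : B) : TCx (B := B) K ⟶ TCx (B := B) K :=
  ((Rf A B).mapHomologicalComplex (ComplexShape.up ℤ)).map (b • 𝟙 (ECx (B := B) K))

lemma βIso_bCx (K : DRing.Cx A) (b : B) (i : ℤ) :
    HomologicalComplex.homologyMap (bCx K b) i ≫ (βIso (B := B) K i).hom =
      (βIso (B := B) K i).hom ≫ (βb (A := A) b).app (K.homology i) := by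
  have h : (βb (A := A) b).app (K.homology i) =
      (βIso (B := B) K i).inv ≫ HomologicalComplex.homologyMap (bCx K b) i ≫
        (βIso (B := B) K i).hom :=
    NatTrans.app_homology (βb (A := A) b) (K.sc i)
  rw [h, Iso.hom_inv_id_assoc]

lemma homologyTIso_bCx (K : DRing.Cx A) (b : B) (i : ℤ) :
    HomologicalComplex.homologyMap (bCx K b) i ≫ (homologyTIso (B := B) K i).hom =
      (homologyTIso (B := B) K i).hom ≫ (βb (A := A) b).app (K.homology i) := by
  have h4 : (homologyTIso (B := B) K i).hom =
      (βIso (B := B) K i).hom ≫ (Tf A B).map (αIso K i).inv := rfl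
  have hn : (Tf A B).map (αIso K i).inv ≫ (βb (A := A) b).app (K.homology i) =
      (βb (A := A) b).app (K.homology i) ≫ (Tf A B).map (αIso K i).inv :=
    (βb (A := A) b).naturality (αIso K i).inv
  rw [h4, ← Category.assoc, βIso_bCx, Category.assoc, Category.assoc, hn]

lemma θIso_smul (K : DRing.Cx A) (b : B) (i : ℤ) :
    (DerivedCategory.homologyFunctor (ModuleCat.{u} A) i).map
        ((RD A B).map (b • 𝟙 ((ED A B).obj (DerivedCategory.Q.obj K)))) ≫
      (θIso (B := B) K i).hom =
    (θIso (B := B) K i).hom ≫ HomologicalComplex.homologyMap (bCx K b) i := by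
  have h1 : (θIso (B := B) K i).hom =
      (DerivedCategory.homologyFunctor (ModuleCat.{u} A) i).map
        ((RD A B).map (facE (B := B) K).hom ≫ (facR (A := A) (ECx (B := B) K)).hom) ≫
      (facH (TCx (B := B) K) i).hom := rfl
  have h2 : (b • 𝟙 ((ED A B).obj (DerivedCategory.Q.obj K))) ≫ (facE (B := B) K).hom =
      (facE (B := B) K).hom ≫ DerivedCategory.Q.map (b • 𝟙 (ECx (B := B) K)) := by
    rw [Functor.map_smul, CategoryTheory.Functor.map_id, Linear.smul_comp, Linear.comp_smul,
      Category.id_comp, Category.comp_id]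
  have h3 : (RD A B).map (DerivedCategory.Q.map (b • 𝟙 (ECx (B := B) K))) ≫
      (facR (A := A) (ECx (B := B) K)).hom =
      (facR (A := A) (ECx (B := B) K)).hom ≫ DerivedCategory.Q.map (bCx K b) :=
    (Rf A B).mapDerivedCategoryFactors_hom_naturality (b • 𝟙 (ECx (B := B) K))
  have h5 : (RD A B).map (b • 𝟙 ((ED A B).obj (DerivedCategory.Q.obj K))) ≫
      ((RD A B).map (facE (B := B) K).hom ≫ (facR (A := A) (ECx (B := B) K)).hom) =
      ((RD A B).map (facE (B := B) K).hom ≫ (facR (A := A) (ECx (B := B) K)).hom) ≫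
        DerivedCategory.Q.map (bCx K b) := by
    rw [← Category.assoc, ← Functor.map_comp, h2, Functor.map_comp, Category.assoc, h3,
      Category.assoc]
  rw [h1, ← Category.assoc, ← Functor.map_comp, h5, Functor.map_comp, Category.assoc,
    Category.assoc]
  congr 1
  exact facH_naturality (bCx K b) i

/-- the comparison iso `H^i(R E X) ≅ T(H^i X)` -/
noncomputable def EIso (X : Dual.D A) (i : ℤ) :
    (DerivedCategory.homologyFunctor (ModuleCat.{u} A) i).obj
          ((RD A B).obj ((ED A B).obj X)) ≅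
        (Tf A B).obj ((DerivedCategory.homologyFunctor (ModuleCat.{u} A) i).obj X) :=
  (DerivedCategory.homologyFunctor (ModuleCat.{u} A) i).mapIso
      ((RD A B).mapIso ((ED A B).mapIso (DerivedCategory.Q.objObjPreimageIso X).symm)) ≪≫
    θIso (B := B) (DerivedCategory.Q.objPreimage X) i ≪≫
    homologyTIso (B := B) (DerivedCategory.Q.objPreimage X) i ≪≫
    (Tf A B).mapIso ((facH (DerivedCategory.Q.objPreimage X) i).symm ≪≫
      (DerivedCategory.homologyFunctor (ModuleCat.{u} A) i).mapIso
        (DerivedCategory.Q.objObjPreimageIso X))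

lemma EIso_unit (X : Dual.D A) (i : ℤ) :
    (DerivedCategory.homologyFunctor (ModuleCat.{u} A) i).map ((adjD A B).unit.app X) ≫
      (EIso (B := B) X i).hom = (uf A B).app _ := by
  let K : DRing.Cx A := DerivedCategory.Q.objPreimage X
  let e₀ : DerivedCategory.Q.obj K ≅ X := DerivedCategory.Q.objObjPreimageIso X
  let H := DerivedCategory.homologyFunctor (ModuleCat.{u} A) i
  let ι : K.homology i ≅ H.obj X :=
    (facH K i).symm ≪≫ H.mapIso e₀
  have hE : (EIso (B := B) X i).hom =
      H.map ((RD A B).map ((ED A B).map e₀.inv)) ≫ (θIso (B := B) K i).hom ≫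
        (homologyTIso (B := B) K i).hom ≫ (Tf A B).map ι.hom := rfl
  have hnat : (adjD A B).unit.app X ≫ (RD A B).map ((ED A B).map e₀.inv) =
      e₀.inv ≫ (adjD A B).unit.app (DerivedCategory.Q.obj K) :=
    ((adjD A B).unit.naturality e₀.inv).symm
  rw [hE]
  rw [← Category.assoc, ← Functor.map_comp, hnat, Functor.map_comp, Category.assoc,
    ← Category.assoc (H.map ((adjD A B).unit.app (DerivedCategory.Q.obj K))),
    homology_unit_Q, Category.assoc, ← Category.assoc (HomologicalComplex.homologyMap _ i),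
    homologyMap_unit]
  have hn2 := (uf A B).naturality ι.hom
  rw [← hn2]
  have h3 : H.map e₀.inv ≫ (facH K i).hom ≫ (𝟭 (ModuleCat.{u} A)).map ι.hom = 𝟙 _ := by
    show H.map e₀.inv ≫ (facH K i).hom ≫ ((facH K i).inv ≫ H.map e₀.hom) = 𝟙 _
    rw [Iso.hom_inv_id_assoc, ← Functor.map_comp, e₀.inv_hom_id, CategoryTheory.Functor.map_id]
  rw [← Category.assoc, ← Category.assoc, Category.assoc (H.map e₀.inv)]
  exact (congrArg (· ≫ (uf A B).app (H.obj X)) h3).trans (Category.id_comp _)

lemma EIso_smul (X : Dual.D A) (b : B) (i : ℤ) :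
    (DerivedCategory.homologyFunctor (ModuleCat.{u} A) i).map
        ((RD A B).map (b • 𝟙 ((ED A B).obj X))) ≫ (EIso (B := B) X i).hom =
      (EIso (B := B) X i).hom ≫ (βb (A := A) b).app _ := by
  let K : DRing.Cx A := DerivedCategory.Q.objPreimage X
  let e₀ : DerivedCategory.Q.obj K ≅ X := DerivedCategory.Q.objObjPreimageIso X
  let H := DerivedCategory.homologyFunctor (ModuleCat.{u} A) i
  let ι : K.homology i ≅ H.obj X :=
    (facH K i).symm ≪≫ H.mapIso e₀
  have hE : (EIso (B := B) X i).hom =
      H.map ((RD A B).map ((ED A B).map e₀.inv)) ≫ (θIso (B := B) K i).hom ≫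
        (homologyTIso (B := B) K i).hom ≫ (Tf A B).map ι.hom := rfl
  have h1 : (RD A B).map (b • 𝟙 ((ED A B).obj X)) ≫ (RD A B).map ((ED A B).map e₀.inv) =
      (RD A B).map ((ED A B).map e₀.inv) ≫
        (RD A B).map (b • 𝟙 ((ED A B).obj (DerivedCategory.Q.obj K))) := by
    rw [← Functor.map_comp, ← Functor.map_comp, Linear.smul_comp, Linear.comp_smul,
      Category.id_comp, Category.comp_id]
  have hn : (Tf A B).map ι.hom ≫ (βb (A := A) b).app (H.obj X) =
      (βb (A := A) b).app (K.homology i) ≫ (Tf A B).map ι.hom :=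
    (βb (A := A) b).naturality ι.hom
  rw [hE, ← Category.assoc, ← Functor.map_comp, h1, Functor.map_comp, Category.assoc,
    ← Category.assoc (H.map ((RD A B).map (b • 𝟙 ((ED A B).obj (DerivedCategory.Q.obj K))))),
    θIso_smul, Category.assoc,
    ← Category.assoc (HomologicalComplex.homologyMap (bCx K b) i), homologyTIso_bCx]
  simp only [Category.assoc]
  rw [hn]

/-- **the cohomology of `R E X`**, equivariantly -/
theorem exists_HD_equiv' (X : Dual.D A) (i : ℤ) :
    ∃ e : Dual.HD A ((RD A B).obj ((ED A B).obj X)) i ≃ₗ[A] B ⊗[A] Dual.HD A X i,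
      (∀ x : Dual.HD A X i,
        e (((DerivedCategory.homologyFunctor (ModuleCat.{u} A) i).map
          ((adjD A B).unit.app X)).hom x) = (1 : B) ⊗ₜ[A] x) ∧
      (∀ (b : B) (z : Dual.HD A ((RD A B).obj ((ED A B).obj X)) i),
        e (((DerivedCategory.homologyFunctor (ModuleCat.{u} A) i).map
          ((RD A B).map (b • 𝟙 ((ED A B).obj X)))).hom z) = b • e z) := by
  refine ⟨(EIso (B := B) X i).toLinearEquiv ≪≫ₗ TfEquiv (B := B) _, fun x => ?_, fun b z => ?_⟩
  · have := congrArg (fun φ => φ.hom x) (EIso_unit (B := B) X i)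
    simp only [ModuleCat.hom_comp, LinearMap.comp_apply] at this
    show TfEquiv (B := B) _ ((EIso (B := B) X i).hom.hom _) = _
    rw [this]
    rfl
  · have := congrArg (fun φ => φ.hom z) (EIso_smul (B := B) X b i)
    simp only [ModuleCat.hom_comp, LinearMap.comp_apply] at this
    show TfEquiv (B := B) _ ((EIso (B := B) X i).hom.hom _) =
      b • TfEquiv (B := B) _ ((EIso (B := B) X i).hom.hom z)
    rw [this, TfEquiv_βb]

end Equivariant

section Main

variable (B)

theorem hbMap_mMap_bijective (W : Dual.D A) (n : ℤ) :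
    Function.Bijective (hbMap B (mMap B W) n) := by
  obtain ⟨e, he1, he2⟩ := exists_HD_equiv' (B := B) W n
  have hcomp : ∀ t, e (hbMap B (mMap B W) n t) = t := by
    intro t
    induction t using TensorProduct.induction_on with
    | zero => rw [map_zero, map_zero]
    | tmul b y =>
      rw [hbMap_tmul, mMap_apply, Functor.map_comp]
      show e (((DerivedCategory.homologyFunctor (ModuleCat.{u} A) n).map
        ((RD A B).map (b • 𝟙 ((ED A B).obj W)))).hom
          (((DerivedCategory.homologyFunctor (ModuleCat.{u} A) n).map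
            ((adjD A B).unit.app W)).hom y)) = _
      rw [he2, he1, TensorProduct.smul_tmul', smul_eq_mul, mul_one]
    | add x y hx hy => rw [map_add, map_add, hx, hy]
  have heq : ∀ t, hbMap B (mMap B W) n t = e.symm t := fun t => by
    rw [← hcomp t, LinearEquiv.symm_apply_apply, hcomp t]
  have : (hbMap B (mMap B W) n : _ → _) = e.symm := funext heq
  rw [this]
  exact e.symm.bijective

/-- **Flat base change for `Hom`**: for `X` pseudo-coherent and `W` bounded below, the map
`B ⊗ Hom(X, W) → Hom(X, R E W)` is bijective. -/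
theorem phi_mMap_bijective (X W : Dual.D A) (hX : ∀ n : ℤ, DRing.IsPseudoCoherent A n X) (a : ℤ)
    [W.IsGE a] : Function.Bijective (Phi B (mMap B W) X) := by
  haveI h1 : ((ED A B).obj W).IsGE a := Groth.Agent.Helper6.LocExt.bcD_isGE B W a
  haveI h2 : ((RD A B).obj ((ED A B).obj W)).IsGE a :=
    (rD_isGE_iff (algebraMap A B) ((ED A B).obj W) a).mpr h1
  exact phi_bijective_of_pc B (mMap B W)
    (phiBij_base B (mMap B W) (fun n => hbMap_mMap_bijective B W n)) X hX a

end Main

end Groth.Agent.Helper6.FBC
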