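import Mathlib
import Groth.Agent.Helper6.FBC3
import Groth.Agent.Helper6.LocExt4
import Groth.Agent.Helper3.DRingPeel2

/-!
# Dualizing complexes under flat base change

If `A → B` is flat, `B` is Noetherian and `B ⊗ ω` has finite injective dimension, then `B ⊗ ω`
is dualizing.  Also a termwise criterion for the finite injective dimension.
-/

set_option autoImplicit false
set_option linter.style.haveILetI false
set_option linter.unusedSectionVars false

universe u
open CategoryTheory CategoryTheory.Limits Pretriangulated DerivedCategory TensorProduct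
attribute [local instance] HasDerivedCategory.standard

namespace Groth.Agent.Helper6.FBC
open Groth.Agent.Helper3.DRingLib Groth.Agent.Helper6.FlatBC

variable {A : Type u} [CommRing A] (B : Type u) [CommRing B] [Algebra A B] [Module.Flat A B]

section Dualizing

/-- **flat base change of a dualizing complex** is dualizing as soon as it has finite injective
dimension -/
theorem isDualizing_bcD_of_hinj [IsNoetherianRing A] [IsNoetherianRing B]
    (ω : Dual.D A) (hω : Dual.IsDualizing A ω)
    (hinj : ∃ a b : ℤ, ∀ (M : Type u) [AddCommGroup M] [Module B M] (i : ℤ),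
      (i < a ∨ b < i) → Subsingleton (Dual.inD B M ⟶ ((bcD A B).obj ω)⟦i⟧)) :
    Dual.IsDualizing B ((bcD A B).obj ω) := by
  obtain ⟨a, b, hab⟩ := hω.finite_injective_dimension
  obtain ⟨hGE, hLE⟩ := Groth.Agent.Helper6.LocExt.bounds_of_hinj ω a b hab
  haveI := hGE
  haveI := hLE
  have hpc : ∀ m : ℤ, DRing.IsPseudoCoherent A m ω :=
    Groth.Agent.Helper6.LocExt.pc_of_finite ω b hω.finite_cohomology
  have hsh : ∀ i : ℤ, (ω⟦i⟧).IsGE (a - i) :=
    fun i => TStructure.t.isGE_shift ω a i (a - i) (by omega)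
  refine ⟨inferInstance, hinj, ?_, ?_, ?_⟩
  · intro i
    obtain ⟨e⟩ := nonempty_HD_bcD_equiv B ω i
    haveI := hω.finite_cohomology i
    haveI : Module.Finite B (B ⊗[A] (Dual.HD A ω i)) := Module.Finite.base_change A B _
    exact Module.Finite.equiv e.symm
  · -- the endomorphisms
    have hΦ : Function.Bijective (Phi B (mMap B ω) ω) := phi_mMap_bijective B ω ω hpc a
    let tA : A →ₗ[A] (ω ⟶ ω) :=
      { toFun := fun x => x • 𝟙 ω
        map_add' := fun x y => add_smul x y _
        map_smul' := fun c x => by rw [RingHom.id_apply, smul_eq_mul, mul_smul] }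
    let eA : A ≃ₗ[A] (ω ⟶ ω) := LinearEquiv.ofBijective tA hω.toEnd_bijective
    have hj : Function.Bijective (fun b : B => b ⊗ₜ[A] (𝟙 ω)) := by
      have h1 : (fun b : B => b ⊗ₜ[A] (𝟙 ω)) =
          (LinearEquiv.lTensor B eA) ∘ (TensorProduct.rid A B).symm := by
        funext b
        show b ⊗ₜ[A] (𝟙 ω) = LinearEquiv.lTensor B eA ((TensorProduct.rid A B).symm b)
        rw [TensorProduct.rid_symm_apply, LinearEquiv.lTensor_tmul]
        show b ⊗ₜ[A] (𝟙 ω) = b ⊗ₜ[A] ((1 : A) • 𝟙 ω)
        rw [one_smul]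
      rw [h1]
      exact (LinearEquiv.lTensor B eA).bijective.comp (TensorProduct.rid A B).symm.bijective
    have hcomp : ((adjD A B).homEquiv ω ((ED A B).obj ω)) ∘
        (fun b : B => b • 𝟙 ((bcD A B).obj ω)) =
        (Phi B (mMap B ω) ω) ∘ (fun b : B => b ⊗ₜ[A] (𝟙 ω)) := by
      funext b
      have h := homEquiv_smul_map B b (𝟙 ω)
      rw [CategoryTheory.Functor.map_id] at h
      exact h
    have hbij : Function.Bijective (((adjD A B).homEquiv ω ((ED A B).obj ω)) ∘
        (fun b : B => b • 𝟙 ((bcD A B).obj ω))) := by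
      rw [hcomp]
      exact hΦ.comp hj
    exact (Function.Bijective.of_comp_iff'
      ((adjD A B).homEquiv ω ((ED A B).obj ω)).bijective _).mp hbij
  · intro i hi
    haveI := hsh i
    have hΦ : Function.Bijective (Phi B (mMap B (ω⟦i⟧)) ω) :=
      phi_mMap_bijective B ω (ω⟦i⟧) hpc (a - i)
    haveI := hω.ext_self_subsingleton i hi
    have hz : ∀ g : (bcD A B).obj ω ⟶ ((bcD A B).obj ω)⟦i⟧, g = 0 := by
      intro g
      let g' : (ED A B).obj ω ⟶ (ED A B).obj (ω⟦i⟧) :=
        g ≫ (((bcD A B).commShiftIso i).app ω).inv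
      have hall : ∀ t : B ⊗[A] (ω ⟶ ω⟦i⟧), t = 0 := by
        intro t
        induction t using TensorProduct.induction_on with
        | zero => rfl
        | tmul b f => rw [Subsingleton.elim f 0, TensorProduct.tmul_zero]
        | add x y hx hy => rw [hx, hy, add_zero]
      obtain ⟨t, ht⟩ := hΦ.2 ((adjD A B).homEquiv ω ((ED A B).obj (ω⟦i⟧)) g')
      have ht0 : t = 0 := hall t
      rw [ht0, map_zero] at ht
      have h0 : (adjD A B).homEquiv ω ((ED A B).obj (ω⟦i⟧)) 0 = 0 := by
        rw [Adjunction.homEquiv_unit, Functor.map_zero, comp_zero]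
      have hg' : g' = 0 :=
        ((adjD A B).homEquiv ω ((ED A B).obj (ω⟦i⟧))).injective (ht.symm.trans h0.symm)
      have h1 : g = g' ≫ (((bcD A B).commShiftIso i).app ω).hom := by
        show g = (g ≫ (((bcD A B).commShiftIso i).app ω).inv) ≫ _
        rw [Category.assoc, Iso.inv_hom_id, Category.comp_id]
      rw [h1, hg', zero_comp]
    exact ⟨fun g₁ g₂ => by rw [hz g₁, hz g₂]⟩

end Dualizing

section Termwise

/-- vanishing of `Hom(M, K[i])` for all modules `M` and `i` outside `[a, b]` -/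
def ExtVanish (a b : ℤ) (K : Dual.D B) : Prop :=
  ∀ (M : Type u) [AddCommGroup M] [Module B M] (i : ℤ), (i < a ∨ b < i) →
    ∀ f : Dual.inD B M ⟶ K⟦i⟧, f = 0

omit [Algebra A B] [Module.Flat A B] in
lemma extVanish_of_iso (a b : ℤ) {K L : Dual.D B} (e : K ≅ L) (h : ExtVanish B a b K) :
    ExtVanish B a b L := by
  intro M _ _ i hi f
  have h1 := h M i hi (f ≫ ((shiftFunctor (Dual.D B) i).mapIso e).inv)
  calc f = (f ≫ ((shiftFunctor (Dual.D B) i).mapIso e).inv) ≫
        ((shiftFunctor (Dual.D B) i).mapIso e).hom := by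
        rw [Category.assoc, Iso.inv_hom_id, Category.comp_id]
    _ = 0 := by rw [h1, zero_comp]

omit [Algebra A B] [Module.Flat A B] in
lemma extVanish_of_isZero (a b : ℤ) (K : Dual.D B) (hK : IsZero K) : ExtVanish B a b K := by
  intro M _ _ i _ f
  exact (Functor.map_isZero (shiftFunctor (Dual.D B) i) hK).eq_of_tgt f 0

omit [Algebra A B] [Module.Flat A B] in
lemma extVanish_of_triangle (a b : ℤ) (T : Triangle (Dual.D B)) (hT : T ∈ distTriang _)
    (h1 : ExtVanish B a b T.obj₁) (h3 : ExtVanish B a b T.obj₃) : ExtVanish B a b T.obj₂ := by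
  intro M _ _ i hi f
  have hTi : (Triangle.shiftFunctor (Dual.D B) i).obj T ∈ distTriang _ :=
    Triangle.shift_distinguished T hT i
  have hf3 : f ≫ ((Triangle.shiftFunctor (Dual.D B) i).obj T).mor₂ = 0 := h3 M i hi _
  obtain ⟨g, hg⟩ := Triangle.coyoneda_exact₂ _ hTi f hf3
  have hg0 : g = 0 := h1 M i hi g
  rw [hg, hg0]
  exact zero_comp

omit [Algebra A B] [Module.Flat A B] in
/-- a shift of a complex of injective amplitude `[0, d]` -/
lemma extVanish_of_shift (C : DRing.Cx B) (d : ℤ) (hv : DRing.VanishesOutside C 0 d)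
    (hinjC : DRing.TermwiseInjective C) (K : Dual.D B) (n : ℤ)
    (e : K ≅ (DRing.toD C)⟦-n⟧) (a b : ℤ) (han : a ≤ n) (hnb : n ≤ b) :
    ExtVanish B a (b + d) K := by
  intro M _ _ i hi f
  let s := (shiftFunctorAdd' (Dual.D B) (-n) i (i - n) (by omega)).app (DRing.toD C)
  let φ : Dual.inD B M ⟶ (DRing.toD C)⟦i - n⟧ :=
    f ≫ (shiftFunctor (Dual.D B) i).map e.hom ≫ s.inv
  have hφ : φ = 0 := by
    rcases hi with hi | hi
    · exact Groth.Agent.Helper6.DFinExt.vanish_low C 0 d hv hinjC (Dual.inD B M) 0 (i - n)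
        (by omega) φ
    · exact Groth.Agent.Helper6.DFinExt.vanish_high C 0 d hv hinjC (Dual.inD B M) 0 (i - n)
        (by omega) φ
  have h1 : f = φ ≫ s.hom ≫ (shiftFunctor (Dual.D B) i).map e.inv := by
    show f = (f ≫ (shiftFunctor (Dual.D B) i).map e.hom ≫ s.inv) ≫ s.hom ≫
      (shiftFunctor (Dual.D B) i).map e.inv
    simp only [Category.assoc, Iso.inv_hom_id_assoc]
    rw [← Functor.map_comp, e.hom_inv_id, CategoryTheory.Functor.map_id, Category.comp_id]
  rw [h1, hφ, zero_comp]

/-- **termwise criterion**: if `B ⊗ E` has injective amplitude `[0, d]` for every injective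
`A`-module `E`, then `B ⊗ ω` has finite injective dimension whenever `ω` does. -/
theorem hinj_bcD_of_termwise (d : ℤ)
    (hterm : ∀ (E : Type u) [AddCommGroup E] [Module A E], Module.Injective A E →
      DRing.HasInjAmplitudeIn B 0 d (Dual.inD B (B ⊗[A] E)))
    (ω : Dual.D A) (a b : ℤ)
    (hab : ∀ (M : Type u) [AddCommGroup M] [Module A M] (i : ℤ), (i < a ∨ b < i) →
      Subsingleton (Dual.inD A M ⟶ ω⟦i⟧))
    (M : Type u) [AddCommGroup M] [Module B M] (i : ℤ) (hi : i < a ∨ b + d < i) :
    Subsingleton (Dual.inD B M ⟶ ((bcD A B).obj ω)⟦i⟧) := by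
  obtain ⟨I, hv, hinjI, ⟨e⟩⟩ := Groth.Agent.Helper6.LocExt.exists_rep_of_hinj ω a b hab
  have hK : DRing.VanishesOutside ((bcCx A B).obj I) a b :=
    fun n hn => bcCx_isZero_X B I n (hv n hn)
  have hP : ExtVanish B a (b + d) (DRing.toD ((bcCx A B).obj I)) := by
    refine induction_on_bounded' (ExtVanish B a (b + d))
      (fun e h => extVanish_of_iso B a (b + d) e h) (extVanish_of_isZero B a (b + d))
      (fun T hT h1 h3 => extVanish_of_triangle B a (b + d) T hT h1 h3)
      ((bcCx A B).obj I) a b hK (fun n => ?_)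
    by_cases hn : n < a ∨ b < n
    · exact extVanish_of_isZero B a (b + d) _ (Functor.map_isZero _ (hK n hn))
    · obtain ⟨C, hvC, hinjC, ⟨eC⟩⟩ := hterm (I.X n) (hinjI n)
      let e1 : (singleFunctor (ModuleCat.{u} B) n).obj (((bcCx A B).obj I).X n) ≅
          ((singleFunctor (ModuleCat.{u} B) 0).obj (((bcCx A B).obj I).X n))⟦-n⟧ :=
        (singleShiftIso (((bcCx A B).obj I).X n) n).symm
      let e2 : (singleFunctor (ModuleCat.{u} B) 0).obj (((bcCx A B).obj I).X n) ≅
          Dual.inD B (B ⊗[A] (I.X n)) :=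
        (singleFunctor (ModuleCat.{u} B) 0).mapIso
          (extendScalarsEquiv (B := B) (I.X n)).toModuleIso
      exact extVanish_of_shift B C d hvC hinjC _ n
        (e1 ≪≫ (shiftFunctor (Dual.D B) (-n)).mapIso (e2 ≪≫ eC.symm)) a b (by omega) (by omega)
  have hP' : ExtVanish B a (b + d) ((bcD A B).obj ω) :=
    extVanish_of_iso B a (b + d) ((bcDToD B I).symm ≪≫ (bcD A B).mapIso e) hP
  exact ⟨fun f g => by rw [hP' M i hi f, hP' M i hi g]⟩

end Termwise

end Groth.Agent.Helper6.FBC
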