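import Mathlib
import Groth.Agent.Helper6.LD1
import Groth.Agent.Helper6.Coext4
import Groth.Agent.Helper6.LocExt4

/-!
# A global form of Bass's lemma

For a Noetherian ring `R` and `K` bounded below with finite cohomology: if `Ext^i(R/𝔫, K) = 0`
for all maximal ideals `𝔫` and all `i > n`, then `Ext^i(R/J, K) = 0` for all ideals `J` and all
`i > n`; hence `K` has finite injective dimension.
-/

set_option autoImplicit false
set_option linter.style.haveILetI false
set_option linter.unusedSectionVars false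

universe u
open CategoryTheory CategoryTheory.Limits Pretriangulated DerivedCategory TensorProduct
attribute [local instance] HasDerivedCategory.standard

namespace Groth.Agent.Helper6.FBC
open Groth.Agent.Helper3.DRingLib Groth.Agent.Helper6.LD

section Ses

variable {R : Type u} [CommRing R]

/-- the ideal `(J : x)` -/
def colonI (J : Ideal R) (x : R) : Ideal R := Submodule.comap (LinearMap.mulLeft R x) J

lemma mem_colonI (J : Ideal R) (x r : R) : r ∈ colonI J x ↔ x * r ∈ J := Iff.rfl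

/-- multiplication by `x`, `R/(J:x) → R/J` -/
def ιx (J : Ideal R) (x : R) : (R ⧸ colonI J x) →ₗ[R] (R ⧸ J) :=
  Submodule.mapQ (colonI J x) J (LinearMap.mulLeft R x) le_rfl

/-- the projection `R/J → R/(J + x)` -/
def πx (J : Ideal R) (x : R) : (R ⧸ J) →ₗ[R] (R ⧸ (J ⊔ Ideal.span {x})) :=
  Submodule.mapQ J (J ⊔ Ideal.span {x}) LinearMap.id (by
    rw [Submodule.comap_id]
    exact le_sup_left)

lemma ιx_mk (J : Ideal R) (x r : R) :
    ιx J x (Submodule.Quotient.mk r) = Submodule.Quotient.mk (x * r) := rfl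

lemma πx_mk (J : Ideal R) (x r : R) :
    πx J x (Submodule.Quotient.mk r) = Submodule.Quotient.mk r := rfl

lemma ιx_injective (J : Ideal R) (x : R) : Function.Injective (ιx J x) := by
  rw [injective_iff_map_eq_zero]
  intro z hz
  obtain ⟨r, rfl⟩ := Submodule.Quotient.mk_surjective _ z
  rw [ιx_mk, Submodule.Quotient.mk_eq_zero] at hz
  exact (Submodule.Quotient.mk_eq_zero _).mpr hz

lemma πx_surjective (J : Ideal R) (x : R) : Function.Surjective (πx J x) := by
  intro z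
  obtain ⟨r, rfl⟩ := Submodule.Quotient.mk_surjective _ z
  exact ⟨Submodule.Quotient.mk r, rfl⟩

/-- exactness at `R/J` for any map onto the multiples of `x` -/
lemma exact_πx (J : Ideal R) (x : R) {N : Type u} [AddCommGroup N] [Module R N]
    (μ : N →ₗ[R] (R ⧸ J))
    (h1 : ∀ s : R, ∃ w : N, μ w = Submodule.Quotient.mk (x * s))
    (h2 : ∀ w : N, ∃ s : R, μ w = Submodule.Quotient.mk (x * s)) :
    Function.Exact μ (πx J x) := by
  intro z
  obtain ⟨r, rfl⟩ := Submodule.Quotient.mk_surjective _ z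
  constructor
  · intro hz
    rw [πx_mk, Submodule.Quotient.mk_eq_zero, Submodule.mem_sup] at hz
    obtain ⟨j, hj, y, hy, hjy⟩ := hz
    obtain ⟨s, hs⟩ := Ideal.mem_span_singleton'.mp hy
    obtain ⟨w, hw⟩ := h1 s
    refine ⟨w, ?_⟩
    rw [hw, Submodule.Quotient.eq]
    have : x * s - r = -j := by
      rw [← hjy, ← hs]
      ring
    rw [this]
    exact J.neg_mem hj
  · rintro ⟨w, hw⟩
    obtain ⟨s, hs⟩ := h2 w
    rw [← hw, hs, πx_mk, Submodule.Quotient.mk_eq_zero]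
    exact Submodule.mem_sup_right (Ideal.mem_span_singleton'.mpr ⟨s, mul_comm s x⟩)

lemma exact_ιx_πx (J : Ideal R) (x : R) : Function.Exact (ιx J x) (πx J x) :=
  exact_πx J x (ιx J x) (fun s => ⟨Submodule.Quotient.mk s, ιx_mk J x s⟩) (fun w => by
    obtain ⟨s, rfl⟩ := Submodule.Quotient.mk_surjective _ w
    exact ⟨s, ιx_mk J x s⟩)

lemma smul_id_mk (J : Ideal R) (x r : R) :
    (x • (LinearMap.id : (R ⧸ J) →ₗ[R] (R ⧸ J))) (Submodule.Quotient.mk r) =
      Submodule.Quotient.mk (x * r) := rfl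

lemma exact_smul_πx (J : Ideal R) (x : R) :
    Function.Exact (x • (LinearMap.id : (R ⧸ J) →ₗ[R] (R ⧸ J))) (πx J x) :=
  exact_πx J x _ (fun s => ⟨Submodule.Quotient.mk s, smul_id_mk J x s⟩) (fun w => by
    obtain ⟨s, rfl⟩ := Submodule.Quotient.mk_surjective _ w
    exact ⟨s, smul_id_mk J x s⟩)

lemma smul_id_injective (J : Ideal R) (hJ : J.IsPrime) (x : R) (hx : x ∉ J) :
    Function.Injective (x • (LinearMap.id : (R ⧸ J) →ₗ[R] (R ⧸ J))) := by
  rw [injective_iff_map_eq_zero]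
  intro z hz
  obtain ⟨r, rfl⟩ := Submodule.Quotient.mk_surjective _ z
  rw [smul_id_mk, Submodule.Quotient.mk_eq_zero] at hz
  exact (Submodule.Quotient.mk_eq_zero _).mpr ((hJ.mem_or_mem hz).resolve_left hx)

end Ses

section Bass

variable {R : Type u} [CommRing R]

/-- `Ext^i(R/J, K) = 0` for `i > n` -/
def QV (K : Dual.D R) (n : ℤ) (J : Ideal R) : Prop :=
  ∀ i : ℤ, n < i → ∀ f : Dual.inD R (R ⧸ J) ⟶ K⟦i⟧, f = 0

lemma qv_top (K : Dual.D R) (n : ℤ) : QV K n ⊤ := by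
  intro i _ f
  haveI : Subsingleton (R ⧸ (⊤ : Ideal R)) := Ideal.Quotient.subsingleton_iff.mpr rfl
  have hz : IsZero (ModuleCat.of R (R ⧸ (⊤ : Ideal R))) := ModuleCat.isZero_of_subsingleton _
  exact (Functor.map_isZero (singleFunctor (ModuleCat.{u} R) 0) hz).eq_of_src f 0

/-- the non-prime step -/
lemma qv_step (K : Dual.D R) (n : ℤ) (J : Ideal R) (x : R) (h1 : QV K n (colonI J x))
    (h2 : QV K n (J ⊔ Ideal.span {x})) : QV K n J := by
  intro i hi f
  have hf1 : Tmap (K⟦i⟧) (ιx J x) f = 0 := h1 i hi _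
  obtain ⟨z, hz⟩ := Tmap_exact (K⟦i⟧) (ιx J x) (πx J x) (ιx_injective J x) (πx_surjective J x)
    (exact_ιx_πx J x) f hf1
  rw [← hz, h2 i hi z, map_zero]

/-- elements of `J` kill `Ext(R/J, Y)` -/
lemma smul_eq_zero_of_mem (Y : Dual.D R) (J : Ideal R) (r : R) (hr : r ∈ J)
    (f : Dual.inD R (R ⧸ J) ⟶ Y) : r • f = 0 := by
  have h0 : (r • (LinearMap.id : (R ⧸ J) →ₗ[R] (R ⧸ J))) = 0 := by
    apply LinearMap.ext
    intro z
    obtain ⟨s, rfl⟩ := Submodule.Quotient.mk_surjective _ z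
    rw [smul_id_mk, LinearMap.zero_apply, Submodule.Quotient.mk_eq_zero]
    exact J.mul_mem_right s hr
  have h1 : Tmap Y (r • (LinearMap.id : (R ⧸ J) →ₗ[R] (R ⧸ J))) f = r • f := by
    rw [Tmap_smul, Tmap_id]
    rfl
  rw [← h1, h0, Tmap_zero]
  rfl

variable [IsNoetherianRing R]

/-- the prime, non-maximal step -/
lemma qv_prime (K : Dual.D R) (c : ℤ) (hKc : ∀ i : ℤ, i < c → Subsingleton (Dual.HD R K i))
    (hK : ∀ i : ℤ, Module.Finite R (Dual.HD R K i)) (n : ℤ) (J : Ideal R) (hJ : J.IsPrime)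
    (hJmax : ¬ J.IsMaximal) (ih : ∀ J' : Ideal R, J < J' → QV K n J') : QV K n J := by
  intro i hi f
  by_contra hf
  haveI hfin : Module.Finite R (Dual.inD R (R ⧸ J) ⟶ K⟦i⟧) :=
    Groth.Agent.Helper6.Coext.finite_hom_single (R ⧸ J) K c hKc hK i
  have hann : Module.annihilator R (Dual.inD R (R ⧸ J) ⟶ K⟦i⟧) ≠ ⊤ := by
    intro h
    apply hf
    have h1 : (1 : R) ∈ Module.annihilator R (Dual.inD R (R ⧸ J) ⟶ K⟦i⟧) := by
      rw [h]
      exact Submodule.mem_top
    have h2 := Module.mem_annihilator.mp h1 f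
    rwa [one_smul] at h2
  obtain ⟨𝔫, h𝔫, hle⟩ := Ideal.exists_le_maximal _ hann
  have hJ𝔫 : J ≤ 𝔫 := fun r hr =>
    hle (Module.mem_annihilator.mpr (fun e => smul_eq_zero_of_mem (K⟦i⟧) J r hr e))
  have hne : J ≠ 𝔫 := fun h => hJmax (h ▸ h𝔫)
  obtain ⟨x, hx𝔫, hxJ⟩ := SetLike.exists_of_lt (lt_of_le_of_ne hJ𝔫 hne)
  -- `x` acts surjectively
  have hlt : J < J ⊔ Ideal.span {x} := by
    refine lt_of_le_of_ne le_sup_left (fun h => hxJ ?_)
    rw [h]
    exact Submodule.mem_sup_right (Ideal.mem_span_singleton_self x)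
  have hV : Subsingleton (Dual.inD R (R ⧸ (J ⊔ Ideal.span {x})) ⟶ (K⟦i⟧)⟦(1 : ℤ)⟧) := by
    refine ⟨fun p q => ?_⟩
    let s := (shiftFunctorAdd' (Dual.D R) i 1 (i + 1) rfl).app K
    have h0 : ∀ p : Dual.inD R (R ⧸ (J ⊔ Ideal.span {x})) ⟶ (K⟦i⟧)⟦(1 : ℤ)⟧, p = 0 := by
      intro p
      have := ih _ hlt (i + 1) (by omega) (p ≫ s.inv)
      calc p = (p ≫ s.inv) ≫ s.hom := by rw [Category.assoc, Iso.inv_hom_id, Category.comp_id]
        _ = 0 := by rw [this, zero_comp]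
    rw [h0 p, h0 q]
  have hsurj := Tmap_surjective' (K⟦i⟧) (x • (LinearMap.id : (R ⧸ J) →ₗ[R] (R ⧸ J))) (πx J x)
    (smul_id_injective J hJ x hxJ) (πx_surjective J x) (exact_smul_πx J x) hV
  have hsurj' : ∀ e : Dual.inD R (R ⧸ J) ⟶ K⟦i⟧, ∃ e', x • e' = e := by
    intro e
    obtain ⟨e', he'⟩ := hsurj e
    refine ⟨e', ?_⟩
    rw [← he', Tmap_smul, Tmap_id]
    rfl
  obtain ⟨r, hr1, hr0⟩ := Submodule.exists_sub_one_mem_and_smul_eq_zero_of_fg_of_le_smul
    (Ideal.span {x}) (⊤ : Submodule R (Dual.inD R (R ⧸ J) ⟶ K⟦i⟧)) Module.Finite.fg_top (by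
      intro e _
      obtain ⟨e', rfl⟩ := hsurj' e
      exact Submodule.smul_mem_smul (Ideal.mem_span_singleton_self x) Submodule.mem_top)
  have hr𝔫 : r ∈ 𝔫 := hle (Module.mem_annihilator.mpr (fun e => hr0 e Submodule.mem_top))
  have hx' : r - 1 ∈ 𝔫 := (Ideal.span_singleton_le_iff_mem 𝔫).mpr hx𝔫 hr1
  have h1 : (1 : R) ∈ 𝔫 := by
    have := 𝔫.sub_mem hr𝔫 hx'
    rwa [sub_sub_cancel] at this
  exact h𝔫.ne_top ((Ideal.eq_top_iff_one _).mpr h1)

/-- **global Bass lemma** -/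
theorem qv_of_maximal (K : Dual.D R) (c : ℤ)
    (hKc : ∀ i : ℤ, i < c → Subsingleton (Dual.HD R K i))
    (hK : ∀ i : ℤ, Module.Finite R (Dual.HD R K i)) (n : ℤ)
    (hmax : ∀ 𝔫 : Ideal R, 𝔫.IsMaximal → QV K n 𝔫) (J : Ideal R) : QV K n J := by
  refine IsNoetherian.induction (P := fun J : Ideal R => QV K n J) ?_ J
  intro (J : Ideal R) ih
  by_cases htop : J = ⊤
  · rw [htop]
    exact qv_top K n
  by_cases hprime : J.IsPrime
  · by_cases hJmax : J.IsMaximal
    · exact hmax J hJmax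
    · exact qv_prime K c hKc hK n J hprime hJmax ih
  · rw [Ideal.isPrime_iff] at hprime
    push_neg at hprime
    obtain ⟨x, y, hxy, hx, hy⟩ := hprime htop
    have hlt1 : J < colonI J x := by
      refine lt_of_le_of_ne (fun r hr => (mem_colonI J x r).mpr (J.mul_mem_left x hr))
        (fun h => hy ?_)
      rw [h]
      exact (mem_colonI J x y).mpr hxy
    have hlt2 : J < J ⊔ Ideal.span {x} := by
      refine lt_of_le_of_ne le_sup_left (fun h => hx ?_)
      rw [h]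
      exact Submodule.mem_sup_right (Ideal.mem_span_singleton_self x)
    exact qv_step K n J x (ih _ hlt1) (ih _ hlt2)

/-- **finite injective dimension from the residue fields at maximal ideals** -/
theorem hinj_of_maximal (K : Dual.D R) (a b : ℤ) [K.IsGE a]
    (hK : ∀ i : ℤ, Module.Finite R (Dual.HD R K i))
    (hmax : ∀ 𝔫 : Ideal R, 𝔫.IsMaximal → ∀ i : ℤ, b < i →
      ∀ f : Dual.inD R (R ⧸ 𝔫) ⟶ K⟦i⟧, f = 0)
    (M : Type u) [AddCommGroup M] [Module R M] (i : ℤ) (hi : i < a ∨ b < i) :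
    Subsingleton (Dual.inD R M ⟶ K⟦i⟧) := by
  have hKc : ∀ i : ℤ, i < a → Subsingleton (Dual.HD R K i) :=
    fun i hi => subsingleton_HD_of_isGE K a i hi
  have h' : ∀ (J : Ideal R) (i : ℤ), (i < a ∨ b < i) →
      ∀ e : (singleFunctor (ModuleCat.{u} R) 0).obj (ModuleCat.of R (R ⧸ J)) ⟶ K⟦i⟧, e = 0 := by
    intro J i hi e
    rcases hi with hi | hi
    · haveI : (K⟦i⟧).IsGE (a - i) := TStructure.t.isGE_shift K a i (a - i) (by omega)
      haveI : ((singleFunctor (ModuleCat.{u} R) 0).obj (ModuleCat.of R (R ⧸ J))).IsLE 0 :=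
        inferInstance
      exact TStructure.t.zero_of_isLE_of_isGE e 0 (a - i) (by omega) inferInstance inferInstance
    · exact qv_of_maximal K a hKc hK b hmax J i hi e
  obtain ⟨E', hv', hinj', ⟨e'⟩⟩ := exists_injective_rep_of_ext K a b h'
  exact Groth.Agent.Helper6.LocExt.subsingleton_hom_of_rep E' a b hv' hinj' e' M i hi

end Bass

end Groth.Agent.Helper6.FBC
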