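import Mathlib
import Groth.Agent.Helper6.FBC4
import Groth.Agent.Helper6.FBC6
import Groth.Agent.Helper6.LocExt5

/-!
# Dualizing complexes under flat base change: transfer of `Ext`-vanishing, descent
-/

set_option autoImplicit false
set_option linter.style.haveILetI false
set_option linter.unusedSectionVars false

universe u
open CategoryTheory CategoryTheory.Limits Pretriangulated DerivedCategory TensorProduct
attribute [local instance] HasDerivedCategory.standard

namespace Groth.Agent.Helper6.FBC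
open Groth.Agent.Helper3.DRingLib Groth.Agent.Helper6.FlatBC Groth.Agent.Helper6.LocExt

variable {A : Type u} [CommRing A] (B : Type u) [CommRing B] [Algebra A B] [Module.Flat A B]

section Transfer

/-- `Hom(E X, E W) = 0` if `Hom(X, W) = 0` -/
lemma hom_bcD_eq_zero (X W : Dual.D A) (hX : ∀ n : ℤ, DRing.IsPseudoCoherent A n X) (a : ℤ)
    [W.IsGE a] (h : ∀ f : X ⟶ W, f = 0) (g : (bcD A B).obj X ⟶ (bcD A B).obj W) : g = 0 := by
  have hΦ : Function.Bijective (Phi B (mMap B W) X) := phi_mMap_bijective B X W hX a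
  have hall : ∀ t : B ⊗[A] (X ⟶ W), t = 0 := by
    intro t
    induction t using TensorProduct.induction_on with
    | zero => rfl
    | tmul b f => rw [h f, TensorProduct.tmul_zero]
    | add x y hx hy => rw [hx, hy, add_zero]
  obtain ⟨t, ht⟩ := hΦ.2 ((adjD A B).homEquiv X ((ED A B).obj W) g)
  rw [hall t, map_zero] at ht
  have h0 : (adjD A B).homEquiv X ((ED A B).obj W) 0 = 0 := by
    rw [Adjunction.homEquiv_unit, Functor.map_zero, comp_zero]
  exact ((adjD A B).homEquiv X ((ED A B).obj W)).injective (ht.symm.trans h0.symm)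

/-- faithfully flat descent of vanishing -/
lemma hom_eq_zero_of_bcD [Module.FaithfullyFlat A B] (X W : Dual.D A)
    (hX : ∀ n : ℤ, DRing.IsPseudoCoherent A n X) (a : ℤ) [W.IsGE a]
    (h : ∀ g : (bcD A B).obj X ⟶ (bcD A B).obj W, g = 0) (f : X ⟶ W) : f = 0 := by
  have hΦ : Function.Bijective (Phi B (mMap B W) X) := phi_mMap_bijective B X W hX a
  have hz : ∀ p : X ⟶ (RD A B).obj ((ED A B).obj W), p = 0 := by
    intro p
    have h0 := h (((adjD A B).homEquiv X ((ED A B).obj W)).symm p)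
    have h1 : p = (adjD A B).homEquiv X ((ED A B).obj W)
        (((adjD A B).homEquiv X ((ED A B).obj W)).symm p) := (Equiv.apply_symm_apply _ _).symm
    rw [h1, h0, Adjunction.homEquiv_unit, Functor.map_zero, comp_zero]
  haveI : Subsingleton (B ⊗[A] (X ⟶ W)) :=
    ⟨fun t t' => hΦ.1 ((hz _).trans (hz _).symm)⟩
  haveI : Subsingleton (X ⟶ W) :=
    (Module.FaithfullyFlat.subsingleton_tensorProduct_iff_right (R := A) (M := B)).mp inferInstance
  exact Subsingleton.elim _ _

/-- `B ⊗ A/J ≅ B/JB` in the derived category -/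
noncomputable def inDQuotIso' (J : Ideal A) :
    (bcD A B).obj (Dual.inD A (A ⧸ J)) ≅ Dual.inD B (B ⧸ J.map (algebraMap A B)) :=
  bcDInD B (A ⧸ J) ≪≫
    (DerivedCategory.singleFunctor (ModuleCat.{u} B) 0).mapIso
      (Ideal.qoutMapEquivTensorQout B (I := J)).symm.toModuleIso

lemma ext_quot_eq_zero [IsNoetherianRing A] (ω : Dual.D A) (a : ℤ) [ω.IsGE a] (J : Ideal A)
    (𝔫 : Ideal B) (h𝔫 : J.map (algebraMap A B) = 𝔫) (i : ℤ)
    (h : ∀ f : Dual.inD A (A ⧸ J) ⟶ ω⟦i⟧, f = 0)
    (g : Dual.inD B (B ⧸ 𝔫) ⟶ ((bcD A B).obj ω)⟦i⟧) : g = 0 := by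
  subst h𝔫
  haveI : (ω⟦i⟧).IsGE (a - i) := TStructure.t.isGE_shift ω a i (a - i) (by omega)
  have h0 := hom_bcD_eq_zero B (Dual.inD A (A ⧸ J)) (ω⟦i⟧) (fun m => pc_inD _ m) (a - i) h
    ((inDQuotIso' B J).hom ≫ g ≫ (((bcD A B).commShiftIso i).app ω).inv)
  have h1 : g = (inDQuotIso' B J).inv ≫ ((inDQuotIso' B J).hom ≫ g ≫
      (((bcD A B).commShiftIso i).app ω).inv) ≫ (((bcD A B).commShiftIso i).app ω).hom := by
    simp only [Category.assoc, Iso.inv_hom_id, Category.comp_id, Iso.inv_hom_id_assoc]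
  rw [h1, h0, zero_comp, comp_zero]

end Transfer

section Ascent

lemma finite_HD_bcD [IsNoetherianRing A] (ω : Dual.D A)
    (hfin : ∀ i : ℤ, Module.Finite A (Dual.HD A ω i)) (i : ℤ) :
    Module.Finite B (Dual.HD B ((bcD A B).obj ω) i) := by
  obtain ⟨e⟩ := nonempty_HD_bcD_equiv B ω i
  haveI := hfin i
  haveI : Module.Finite B (B ⊗[A] (Dual.HD A ω i)) := Module.Finite.base_change A B _
  exact Module.Finite.equiv e.symm

/-- **flat base change of a dualizing complex** when all maximal ideals of `B` are extended -/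
theorem isDualizing_bcD_of_maximal_map [IsNoetherianRing A] [IsNoetherianRing B]
    (hmaxB : ∀ 𝔫 : Ideal B, 𝔫.IsMaximal → ∃ 𝔪 : Ideal A, 𝔪.map (algebraMap A B) = 𝔫)
    (ω : Dual.D A) (hω : Dual.IsDualizing A ω) : Dual.IsDualizing B ((bcD A B).obj ω) := by
  obtain ⟨a, b, hab⟩ := hω.finite_injective_dimension
  obtain ⟨hGE, hLE⟩ := bounds_of_hinj ω a b hab
  haveI := hGE
  haveI : ((bcD A B).obj ω).IsGE a := bcD_isGE B ω a
  refine isDualizing_bcD_of_hinj B ω hω ⟨a, b, fun M _ _ i hi =>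
    hinj_of_maximal ((bcD A B).obj ω) a b (finite_HD_bcD B ω hω.finite_cohomology) ?_ M i hi⟩
  intro 𝔫 h𝔫 i hi f
  obtain ⟨𝔪, h𝔪⟩ := hmaxB 𝔫 h𝔫
  haveI := hab (A ⧸ 𝔪) i (Or.inr hi)
  exact ext_quot_eq_zero B ω a 𝔪 𝔫 h𝔪 i (fun f => Subsingleton.elim _ _) f

omit [Module.Flat A B] in
lemma exists_map_eq_of_jacobson (I : Ideal A)
    (hs : ∀ y : B, ∃ x : A, algebraMap A B x - y ∈ I.map (algebraMap A B))
    (hJ : I.map (algebraMap A B) ≤ (⊥ : Ideal B).jacobson) (𝔫 : Ideal B) (h𝔫 : 𝔫.IsMaximal) :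
    ∃ 𝔪 : Ideal A, 𝔪.map (algebraMap A B) = 𝔫 := by
  have hI𝔫 : I.map (algebraMap A B) ≤ 𝔫 := hJ.trans (sInf_le ⟨bot_le, h𝔫⟩)
  refine ⟨𝔫.comap (algebraMap A B), le_antisymm Ideal.map_comap_le ?_⟩
  intro y hy
  obtain ⟨x, hx⟩ := hs y
  have hx𝔫 : algebraMap A B x ∈ 𝔫 := by
    have := 𝔫.add_mem (hI𝔫 hx) hy
    rwa [sub_add_cancel] at this
  have hx𝔪 : x ∈ 𝔫.comap (algebraMap A B) := hx𝔫
  have hI𝔪 : I ≤ 𝔫.comap (algebraMap A B) := fun t ht => hI𝔫 (Ideal.mem_map_of_mem _ ht)
  have h1 : algebraMap A B x ∈ (𝔫.comap (algebraMap A B)).map (algebraMap A B) :=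
    Ideal.mem_map_of_mem _ hx𝔪
  have h2 : algebraMap A B x - y ∈ (𝔫.comap (algebraMap A B)).map (algebraMap A B) :=
    Ideal.map_mono hI𝔪 hx
  have := Ideal.sub_mem _ h1 h2
  rwa [sub_sub_cancel] at this

/-- normalization is preserved by flat local maps with `𝔪_A B = 𝔪_B` -/
theorem isNormalized_bcD_of_local [IsLocalRing A] [IsLocalRing B] [IsNoetherianRing A]
    (hm : (IsLocalRing.maximalIdeal A).map (algebraMap A B) = IsLocalRing.maximalIdeal B)
    (ω : Dual.D A) (a : ℤ) [ω.IsGE a] (hn : Dual.IsNormalized A ω) :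
    Dual.IsNormalized B ((bcD A B).obj ω) := by
  intro i hi
  haveI : Subsingleton (Dual.inD A (A ⧸ IsLocalRing.maximalIdeal A) ⟶ ω⟦i⟧) := hn i hi
  have hz : ∀ f : Dual.inD B (B ⧸ IsLocalRing.maximalIdeal B) ⟶ ((bcD A B).obj ω)⟦i⟧, f = 0 :=
    fun f => ext_quot_eq_zero B ω a (IsLocalRing.maximalIdeal A) (IsLocalRing.maximalIdeal B) hm i
      (fun f => Subsingleton.elim _ _) f
  exact ⟨fun p q => (hz p).trans (hz q).symm⟩

end Ascent

section Descent

/-- **faithfully flat descent of dualizing complexes** -/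
theorem isDualizing_of_bcD_faithfullyFlat [IsNoetherianRing A] [IsNoetherianRing B]
    [Module.FaithfullyFlat A B] (K : Dual.D A) (hK : Dual.IsDualizing B ((bcD A B).obj K)) :
    Dual.IsDualizing A K := by
  obtain ⟨a, b, hab⟩ := hK.finite_injective_dimension
  obtain ⟨hGE', hLE'⟩ := bounds_of_hinj ((bcD A B).obj K) a b hab
  have hfin : ∀ i : ℤ, Module.Finite A (Dual.HD A K i) := by
    intro i
    obtain ⟨e⟩ := nonempty_HD_bcD_equiv B K i
    haveI := hK.finite_cohomology i
    haveI : Module.Finite B (B ⊗[A] Dual.HD A K i) := Module.Finite.equiv e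
    exact Module.Finite.of_finite_tensorProduct_of_faithfullyFlat B
  have hsub : ∀ i : ℤ, (i < a ∨ b < i) → Subsingleton (Dual.HD A K i) := by
    intro i hi
    obtain ⟨e⟩ := nonempty_HD_bcD_equiv B K i
    haveI : Subsingleton (Dual.HD B ((bcD A B).obj K) i) := by
      rcases hi with hi | hi
      · exact subsingleton_HD_of_isGE _ a i hi
      · exact subsingleton_HD_of_isLE _ b i hi
    haveI : Subsingleton (B ⊗[A] Dual.HD A K i) := e.symm.toEquiv.subsingleton
    exact (Module.FaithfullyFlat.subsingleton_tensorProduct_iff_right (R := A) (M := B)).mp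
      inferInstance
  haveI : K.IsGE a := isGE_of_HD K a (fun i hi => hsub i (Or.inl hi))
  haveI : K.IsLE b := isLE_of_HD K b (fun i hi => hsub i (Or.inr hi))
  have hpc : ∀ m : ℤ, DRing.IsPseudoCoherent A m K := pc_of_finite K b hfin
  have hsh : ∀ i : ℤ, (K⟦i⟧).IsGE (a - i) :=
    fun i => TStructure.t.isGE_shift K a i (a - i) (by omega)
  refine ⟨inferInstance, ⟨a, b, ?_⟩, hfin, ?_, ?_⟩
  · have h' : ∀ (J : Ideal A) (i : ℤ), (i < a ∨ b < i) →
        ∀ e : (singleFunctor (ModuleCat.{u} A) 0).obj (ModuleCat.of A (A ⧸ J)) ⟶ K⟦i⟧, e = 0 := by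
      intro J i hi e
      haveI := hsh i
      refine hom_eq_zero_of_bcD B (Dual.inD A (A ⧸ J)) (K⟦i⟧) (fun m => pc_inD _ m) (a - i) ?_ e
      intro g
      haveI := hab (B ⊗[A] (A ⧸ J)) i hi
      have h0 : ((bcDInD B (A ⧸ J)).inv ≫ g ≫ (((bcD A B).commShiftIso i).app K).hom :
          Dual.inD B (B ⊗[A] (A ⧸ J)) ⟶ ((bcD A B).obj K)⟦i⟧) = 0 :=
        Subsingleton.elim _ _
      have h1 : g = (bcDInD B (A ⧸ J)).hom ≫ ((bcDInD B (A ⧸ J)).inv ≫ g ≫
          (((bcD A B).commShiftIso i).app K).hom) ≫ (((bcD A B).commShiftIso i).app K).inv := by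
        simp only [Category.assoc, Iso.hom_inv_id, Category.comp_id, Iso.hom_inv_id_assoc]
      rw [h1, h0, zero_comp, comp_zero]
    obtain ⟨E', hv', hinj', ⟨e'⟩⟩ := exists_injective_rep_of_ext K a b h'
    intro M _ _ i hi
    exact subsingleton_hom_of_rep E' a b hv' hinj' e' M i hi
  · -- the endomorphisms
    have hΦ : Function.Bijective (Phi B (mMap B K) K) := phi_mMap_bijective B K K hpc a
    let tA : A →ₗ[A] (K ⟶ K) :=
      { toFun := fun x => x • 𝟙 K
        map_add' := fun x y => add_smul x y _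
        map_smul' := fun c x => by rw [RingHom.id_apply, smul_eq_mul, mul_smul] }
    have hcomp : ((adjD A B).homEquiv K ((ED A B).obj K)) ∘
        (fun b : B => b • 𝟙 ((bcD A B).obj K)) =
        (Phi B (mMap B K) K) ∘ ((LinearMap.lTensor B tA) ∘ (TensorProduct.rid A B).symm) := by
      funext b
      have h := homEquiv_smul_map B b (𝟙 K)
      rw [CategoryTheory.Functor.map_id] at h
      show (adjD A B).homEquiv K ((ED A B).obj K) (b • 𝟙 ((bcD A B).obj K)) =
        Phi B (mMap B K) K (LinearMap.lTensor B tA ((TensorProduct.rid A B).symm b))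
      rw [TensorProduct.rid_symm_apply, LinearMap.lTensor_tmul, h]
      show _ = Phi B (mMap B K) K (b ⊗ₜ[A] ((1 : A) • 𝟙 K))
      rw [one_smul]
    have hbij : Function.Bijective ((Phi B (mMap B K) K) ∘
        ((LinearMap.lTensor B tA) ∘ (TensorProduct.rid A B).symm)) := by
      rw [← hcomp]
      exact ((adjD A B).homEquiv K ((ED A B).obj K)).bijective.comp hK.toEnd_bijective
    have h2 : Function.Bijective ((LinearMap.lTensor B tA) ∘ (TensorProduct.rid A B).symm) :=
      (Function.Bijective.of_comp_iff' hΦ _).mp hbij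
    have h3 : Function.Bijective (LinearMap.lTensor B tA) :=
      (Function.Bijective.of_comp_iff _ (TensorProduct.rid A B).symm.bijective).mp h2
    exact (Module.FaithfullyFlat.lTensor_bijective_iff_bijective (R := A) (M := B) tA).mp h3
  · intro i hi
    haveI := hsh i
    haveI := hK.ext_self_subsingleton i hi
    have hz : ∀ f : K ⟶ K⟦i⟧, f = 0 := by
      intro f
      refine hom_eq_zero_of_bcD B K (K⟦i⟧) hpc (a - i) ?_ f
      intro g
      have h0 : (g ≫ (((bcD A B).commShiftIso i).app K).hom :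
          (bcD A B).obj K ⟶ ((bcD A B).obj K)⟦i⟧) = 0 := Subsingleton.elim _ _
      have h1 : g = (g ≫ (((bcD A B).commShiftIso i).app K).hom) ≫
          (((bcD A B).commShiftIso i).app K).inv := by
        simp only [Category.assoc, Iso.hom_inv_id, Category.comp_id]
      rw [h1, h0, zero_comp]
    exact ⟨fun p q => (hz p).trans (hz q).symm⟩

end Descent

end Groth.Agent.Helper6.FBC
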