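import Mathlib
import Groth.Prelude.Def_SGA1
universe u
open CategoryTheory AlgebraicGeometry

namespace Groth.Agent.Helper6.QuotAct

theorem appLE_of_eq_id {X : Scheme.{u}} (f : X ⟶ X) (hf : f = 𝟙 X) (U : X.Opens) (e : U ≤ f ⁻¹ᵁ U) :
    f.appLE U U e = 𝟙 _ := by
  subst hf
  simp only [Scheme.Hom.appLE, Scheme.Hom.id_app]
  erw [Category.id_comp]
  exact X.presheaf.map_id _

open Pointwise in
theorem alg_core {S T : Type u} [CommRing S] [CommRing T] [Algebra S T] {G : Type u} [Group G] [Finite G]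
    [MulSemiringAction G T] [SMulCommClass G S T] [Algebra.IsInvariant S T G]
    {K L : Type u} [Field K] [Field L] [Algebra K L]
    (evx : T →+* L) (evy : S →+* K)
    (h1 : ∀ b, algebraMap K L (evy b) = evx (algebraMap S T b))
    (h2 : ∀ z : L, ∃ a s : T, evx s ≠ 0 ∧ z * evx s = evx a)
    (h3 : ∀ z : K, ∃ b t : S, evy t ≠ 0 ∧ z * evy t = evy b) :
    Normal K L ∧ ∀ τ : L ≃+* L, (∀ z : K, τ (algebraMap K L z) = algebraMap K L z) →
      ∃ g : G, (∀ a, evx (g • a) = 0 ↔ evx a = 0) ∧ ∀ a, τ (evx a) = evx (g • a) := by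
  let P : Ideal S := RingHom.ker evy
  let Q : Ideal T := RingHom.ker evx
  haveI : Q.IsPrime := RingHom.ker_isPrime evx
  haveI : P.IsPrime := RingHom.ker_isPrime evy
  haveI : Q.LiesOver P := ⟨by
    ext b
    simp only [P, Q, Ideal.under, Ideal.mem_comap, RingHom.mem_ker]
    rw [← h1, map_eq_zero_iff _ (algebraMap K L).injective]⟩
  letI : Algebra (S ⧸ P) K := (Ideal.Quotient.lift P evy (fun a ha => ha)).toAlgebra
  letI : Algebra (T ⧸ Q) L := (Ideal.Quotient.lift Q evx (fun a ha => ha)).toAlgebra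
  letI : Algebra (S ⧸ P) L := ((algebraMap K L).comp (algebraMap (S ⧸ P) K)).toAlgebra
  haveI : IsScalarTower (S ⧸ P) K L := IsScalarTower.of_algebraMap_eq (fun _ => rfl)
  have hmkT : ∀ a : T, algebraMap (T ⧸ Q) L (Ideal.Quotient.mk Q a) = evx a := fun a => rfl
  have hmkS : ∀ b : S, algebraMap (S ⧸ P) K (Ideal.Quotient.mk P b) = evy b := fun b => rfl
  haveI : IsScalarTower (S ⧸ P) (T ⧸ Q) L := IsScalarTower.of_algebraMap_eq (by
    intro b
    obtain ⟨b, rfl⟩ := Ideal.Quotient.mk_surjective b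
    rw [Ideal.Quotient.algebraMap_mk_of_liesOver, hmkT]
    exact h1 b)
  haveI : FaithfulSMul (S ⧸ P) K := (faithfulSMul_iff_algebraMap_injective _ _).mpr (by
    rw [injective_iff_map_eq_zero]
    intro b hb
    obtain ⟨b, rfl⟩ := Ideal.Quotient.mk_surjective b
    rw [hmkS] at hb
    exact Ideal.Quotient.eq_zero_iff_mem.mpr hb)
  haveI : FaithfulSMul (T ⧸ Q) L := (faithfulSMul_iff_algebraMap_injective _ _).mpr (by
    rw [injective_iff_map_eq_zero]
    intro b hb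
    obtain ⟨b, rfl⟩ := Ideal.Quotient.mk_surjective b
    rw [hmkT] at hb
    exact Ideal.Quotient.eq_zero_iff_mem.mpr hb)
  haveI : IsFractionRing (S ⧸ P) K := IsFractionRing.of_field (S ⧸ P) K (fun z => by
    obtain ⟨b, t, ht, hz⟩ := h3 z
    refine ⟨Ideal.Quotient.mk P b, Ideal.Quotient.mk P t, ?_⟩
    rw [hmkS, hmkS, eq_div_iff ht]
    exact hz)
  haveI : IsFractionRing (T ⧸ Q) L := IsFractionRing.of_field (T ⧸ Q) L (fun z => by
    obtain ⟨b, t, ht, hz⟩ := h2 z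
    refine ⟨Ideal.Quotient.mk Q b, Ideal.Quotient.mk Q t, ?_⟩
    rw [hmkT, hmkT, eq_div_iff ht]
    exact hz)
  refine ⟨Ideal.IsFractionRing.normal G P Q K L, ?_⟩
  intro τ hτ
  let σ : L ≃ₐ[K] L := AlgEquiv.ofRingEquiv (f := τ) hτ
  obtain ⟨g, hg⟩ := IsFractionRing.stabilizerHom_surjective G P Q K L σ
  refine ⟨g.1, ?_, ?_⟩
  · intro a
    have hgQ : g.1 • Q = Q := g.2
    show g.1 • a ∈ Q ↔ a ∈ Q
    have h4 : g.1 • a ∈ g.1 • Q ↔ a ∈ Q := Ideal.smul_mem_pointwise_smul_iff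
    rw [hgQ] at h4
    exact h4
  · intro a
    have := IsFractionRing.stabilizerHom_apply_apply_mk G P Q K L g a
    rw [hg] at this
    exact this


theorem frac {X : Scheme.{u}} {U : X.Opens} (hU : IsAffineOpen U) (x : X) (hx : x ∈ U)
    (z : X.residueField x) :
    ∃ a s : Γ(X, U), (X.evaluation U x hx).hom s ≠ 0 ∧
      z * (X.evaluation U x hx).hom s = (X.evaluation U x hx).hom a := by
  obtain ⟨w, rfl⟩ := IsLocalRing.residue_surjective (R := X.presheaf.stalk x) z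
  letI := X.presheaf.algebra_section_stalk ⟨x, hx⟩
  haveI := hU.isLocalization_stalk ⟨x, hx⟩
  obtain ⟨⟨a, s⟩, has⟩ := IsLocalization.surj (hU.primeIdealOf ⟨x, hx⟩).asIdeal.primeCompl w
  have hunit : IsUnit (algebraMap Γ(X, U) (X.presheaf.stalk x) s) :=
    IsLocalization.map_units (X.presheaf.stalk x) s
  refine ⟨a, s, ?_, ?_⟩
  · have : IsUnit ((X.evaluation U x hx).hom s) := hunit.map (IsLocalRing.residue _)
    exact this.ne_zero
  · have := congrArg (IsLocalRing.residue (X.presheaf.stalk x)) has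
    rw [map_mul] at this
    exact this

theorem eq_of_eval {X : Scheme.{u}} {U : X.Opens} (hU : IsAffineOpen U) (x₁ x₂ : X) (h₁ : x₁ ∈ U)
    (h₂ : x₂ ∈ U)
    (h : ∀ a : Γ(X, U), (X.evaluation U x₁ h₁).hom a = 0 ↔ (X.evaluation U x₂ h₂).hom a = 0) :
    x₁ = x₂ := by
  apply Inseparable.eq
  rw [inseparable_iff_forall_isOpen]
  intro s hs
  constructor
  · intro hx
    obtain ⟨f, hf, hxf⟩ := hU.exists_basicOpen_le (V := ⟨s, hs⟩) ⟨x₁, hx⟩ h₁
    apply hf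
    have h3 := (X.evaluation_ne_zero_iff_mem_basicOpen x₁ h₁ f).mpr hxf
    exact (X.evaluation_ne_zero_iff_mem_basicOpen x₂ h₂ f).mp (fun h0 => h3 ((h f).mpr h0))
  · intro hx
    obtain ⟨f, hf, hxf⟩ := hU.exists_basicOpen_le (V := ⟨s, hs⟩) ⟨x₂, hx⟩ h₂
    apply hf
    have h3 := (X.evaluation_ne_zero_iff_mem_basicOpen x₂ h₂ f).mpr hxf
    exact (X.evaluation_ne_zero_iff_mem_basicOpen x₁ h₁ f).mp (fun h0 => h3 ((h f).mp h0))

theorem eval_res {X : Scheme.{u}} {U W : X.Opens} (e : U ≤ W) (x : X) (hx : x ∈ U) (s : Γ(X, W)) :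
    (X.evaluation U x hx).hom ((X.presheaf.map (homOfLE e).op).hom s) =
      (X.evaluation W x (e hx)).hom s := by
  have : X.presheaf.map (homOfLE e).op ≫ X.evaluation U x hx = X.evaluation W x (e hx) := by
    unfold Scheme.evaluation
    rw [← Category.assoc, TopCat.Presheaf.germ_res]
  exact congrArg (fun φ => φ.hom s) this

theorem eval_appLE {X : Scheme.{u}} (f : X ⟶ X) (U : X.Opens) (e : U ≤ f ⁻¹ᵁ U) (x : X) (hx : x ∈ U)
    (a : Γ(X, U)) :
    (f.residueFieldMap x).hom ((X.evaluation U (f x) (e hx)).hom a) =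
      (X.evaluation U x hx).hom ((f.appLE U U e).hom a) := by
  have h1 := Scheme.evaluation_naturality_apply f (V := U) x (e hx) a
  rw [show (f.appLE U U e).hom a = (X.presheaf.map (homOfLE e).op).hom ((f.app U).hom a) from rfl,
    eval_res]
  exact h1

theorem congr_eval {X : Scheme.{u}} (U : X.Opens) (x x₂ : X) (e : x₂ = x) (hx : x ∈ U) (a : Γ(X, U)) :
    (X.residueFieldCongr e).inv.hom ((X.evaluation U x hx).hom a) =
      (X.evaluation U x₂ (e ▸ hx)).hom a := by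
  subst e
  rfl

variable {X Y : Scheme.{u}} {G : Type u} [Group G] (ρ : G →* Aut X) (p : X ⟶ Y)
  (hinv : ∀ g : G, (ρ g).hom ≫ p = p)

/-- pull back of functions on the invariant open `p⁻¹V` along `ρ g` -/
noncomputable def pb (g : G) (V : Y.Opens) : Γ(X, p ⁻¹ᵁ V) ⟶ Γ(X, p ⁻¹ᵁ V) :=
  (ρ g).hom.appLE (p ⁻¹ᵁ V) (p ⁻¹ᵁ V) (SGA1.preimage_le_of_inv ρ p hinv g V)

theorem pb_one (V : Y.Opens) : pb ρ p hinv 1 V = 𝟙 _ := by
  have h1 : (ρ 1).hom = 𝟙 X := by rw [map_one]; rfl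
  exact appLE_of_eq_id _ h1 _ _

theorem pb_mul (g h : G) (V : Y.Opens) : pb ρ p hinv (g * h) V = pb ρ p hinv g V ≫ pb ρ p hinv h V := by
  unfold pb
  rw [Scheme.Hom.appLE_comp_appLE]
  have h1 : (ρ (g * h)).hom = (ρ h).hom ≫ (ρ g).hom := by rw [map_mul]; rfl
  congr 1

/-- the action of `G` on functions on `p⁻¹V` (by pull back along the inverse) -/
@[reducible] noncomputable def act (V : Y.Opens) : MulSemiringAction G Γ(X, p ⁻¹ᵁ V) where
  smul g s := (pb ρ p hinv g⁻¹ V).hom s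
  one_smul s := by
    show (pb ρ p hinv (1 : G)⁻¹ V).hom s = s
    rw [inv_one, pb_one]; rfl
  mul_smul g h s := by
    show (pb ρ p hinv (g * h)⁻¹ V).hom s = (pb ρ p hinv g⁻¹ V).hom ((pb ρ p hinv h⁻¹ V).hom s)
    rw [mul_inv_rev, pb_mul]; rfl
  smul_zero g := map_zero _
  smul_add g s t := map_add _ s t
  smul_one g := map_one _
  smul_mul g s t := map_mul _ s t

theorem act_smul_def (V : Y.Opens) (g : G) (s : Γ(X, p ⁻¹ᵁ V)) :
    letI := act ρ p hinv V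
    g • s = (pb ρ p hinv g⁻¹ V).hom s := rfl

theorem isInvariant (hp : SGA1.IsQuot ρ p) (V : Y.Opens) :
    letI := act ρ p hp.inv V
    letI : Algebra Γ(Y, V) Γ(X, p ⁻¹ᵁ V) := (p.app V).hom.toAlgebra
    Algebra.IsInvariant Γ(Y, V) Γ(X, p ⁻¹ᵁ V) G := by
  letI := act ρ p hp.inv V
  letI : Algebra Γ(Y, V) Γ(X, p ⁻¹ᵁ V) := (p.app V).hom.toAlgebra
  refine ⟨fun s hs => ?_⟩
  have : s ∈ Set.range (p.app V).hom := by
    rw [hp.range_iff]
    intro g
    have := hs g⁻¹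
    rw [act_smul_def, inv_inv] at this
    exact this
  exact this

theorem smulComm (hp : SGA1.IsQuot ρ p) (V : Y.Opens) :
    letI := act ρ p hp.inv V
    letI : Algebra Γ(Y, V) Γ(X, p ⁻¹ᵁ V) := (p.app V).hom.toAlgebra
    SMulCommClass G Γ(Y, V) Γ(X, p ⁻¹ᵁ V) := by
  letI := act ρ p hp.inv V
  letI : Algebra Γ(Y, V) Γ(X, p ⁻¹ᵁ V) := (p.app V).hom.toAlgebra
  refine ⟨fun g b a => ?_⟩
  rw [Algebra.smul_def, Algebra.smul_def, smul_mul']
  congr 1
  have h1 : (p.app V).hom b ∈ Set.range (p.app V).hom := ⟨b, rfl⟩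
  rw [hp.range_iff] at h1
  exact h1 g⁻¹

set_option backward.isDefEq.respectTransparency false in
theorem main [Finite G] (hp : SGA1.IsQuot ρ p) (x : X) :
    (letI := (p.residueFieldMap x).hom.toAlgebra
     Normal (Y.residueField (p.base x)) (X.residueField x)) ∧
    ∀ τ : X.residueField x ≅ X.residueField x,
      p.residueFieldMap x ≫ τ.hom = p.residueFieldMap x →
      ∃ (g : G) (e : (ρ g).hom.base x = x),
        τ.hom = (X.residueFieldCongr e).inv ≫ (ρ g).hom.residueFieldMap x := by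
  obtain ⟨_, ⟨V, hV : IsAffineOpen V, rfl⟩, hpx, -⟩ :=
    Y.isBasis_affineOpens.exists_subset_of_mem_open (Set.mem_univ (p.base x)) isOpen_univ
  haveI := hp.affine
  have hU : IsAffineOpen (p ⁻¹ᵁ V) := hV.preimage p
  have hx : x ∈ p ⁻¹ᵁ V := hpx
  letI := act ρ p hp.inv V
  letI : Algebra Γ(Y, V) Γ(X, p ⁻¹ᵁ V) := (p.app V).hom.toAlgebra
  letI := (p.residueFieldMap x).hom.toAlgebra
  haveI := isInvariant ρ p hp V
  haveI := smulComm ρ p hp V
  obtain ⟨hnormal, hsurj⟩ := alg_core (G := G) (X.evaluation (p ⁻¹ᵁ V) x hx).hom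
    (Y.evaluation V (p.base x) hpx).hom
    (fun b => Scheme.evaluation_naturality_apply p x hpx b)
    (frac hU x hx) (frac hV (p.base x) hpx)
  refine ⟨hnormal, ?_⟩
  intro τ hτ
  obtain ⟨g, hgiff, hgτ⟩ := hsurj τ.commRingCatIsoToRingEquiv (fun z => by
    exact congrArg (fun φ => φ.hom z) hτ)
  have hle := SGA1.preimage_le_of_inv ρ p hp.inv g⁻¹ V
  have hx₂ : (ρ g⁻¹).hom.base x ∈ p ⁻¹ᵁ V := hle hx
  have hsm : ∀ a : Γ(X, p ⁻¹ᵁ V), g • a = ((ρ g⁻¹).hom.appLE (p ⁻¹ᵁ V) (p ⁻¹ᵁ V) hle).hom a :=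
    fun a => rfl
  have hev : ∀ a : Γ(X, p ⁻¹ᵁ V),
      ((ρ g⁻¹).hom.residueFieldMap x).hom ((X.evaluation (p ⁻¹ᵁ V) ((ρ g⁻¹).hom.base x) hx₂).hom a) =
        (X.evaluation (p ⁻¹ᵁ V) x hx).hom (g • a) := by
    intro a
    rw [hsm]
    exact eval_appLE (ρ g⁻¹).hom (p ⁻¹ᵁ V) hle x hx a
  have e : (ρ g⁻¹).hom.base x = x := by
    apply eq_of_eval hU _ _ hx₂ hx
    intro a
    rw [← hgiff a, ← hev a, map_eq_zero_iff _ ((ρ g⁻¹).hom.residueFieldMap x).hom.injective]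
  refine ⟨g⁻¹, e, ?_⟩
  have key : ∀ a : Γ(X, p ⁻¹ᵁ V), τ.hom.hom ((X.evaluation (p ⁻¹ᵁ V) x hx).hom a) =
      ((X.residueFieldCongr e).inv ≫ (ρ g⁻¹).hom.residueFieldMap x).hom
        ((X.evaluation (p ⁻¹ᵁ V) x hx).hom a) := by
    intro a
    have h1 : τ.hom.hom ((X.evaluation (p ⁻¹ᵁ V) x hx).hom a) =
        (X.evaluation (p ⁻¹ᵁ V) x hx).hom (g • a) := hgτ a
    rw [h1, CommRingCat.hom_comp, RingHom.comp_apply, congr_eval (p ⁻¹ᵁ V) x _ e hx a]
    exact (hev a).symm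
  apply CommRingCat.hom_ext
  apply RingHom.ext
  intro z
  obtain ⟨a, s, hs, hz⟩ := frac hU x hx z
  have h2 := congrArg τ.hom.hom hz
  have h3 := congrArg ((X.residueFieldCongr e).inv ≫ (ρ g⁻¹).hom.residueFieldMap x).hom hz
  rw [map_mul, key] at h2
  rw [map_mul] at h3
  have hs' : ((X.residueFieldCongr e).inv ≫ (ρ g⁻¹).hom.residueFieldMap x).hom
      ((X.evaluation (p ⁻¹ᵁ V) x hx).hom s) ≠ 0 := by
    rw [Ne, map_eq_zero_iff _ (RingHom.injective _)]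
    exact hs
  rw [key a, ← h3] at h2
  exact mul_right_cancel₀ hs' h2

end Groth.Agent.Helper6.QuotAct
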