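import Mathlib
import Groth.Prelude.Def_SGA1
import Groth.Agent.Helper6.QuotAct

universe u

namespace Groth.Agent.Helper6.QuotBasis

open CategoryTheory AlgebraicGeometry Opposite TopologicalSpace
open Groth.Agent.Helper6.QuotAct

theorem loc_inj {RY RX LY LX : Type u} [CommRing RY] [CommRing RX] [CommRing LY] [CommRing LX]
    [Algebra RY LY] [Algebra RX LX] (f : RY) (φ₀ : RY →+* RX) (φ : LY →+* LX)
    [IsLocalization.Away f LY] [IsLocalization.Away (φ₀ f) LX]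
    (hcomm : ∀ y, φ (algebraMap RY LY y) = algebraMap RX LX (φ₀ y))
    (hinj₀ : Function.Injective φ₀) : Function.Injective φ := by
  rw [injective_iff_map_eq_zero]
  intro t ht
  obtain ⟨⟨β, ⟨_, n, rfl⟩⟩, h⟩ := IsLocalization.surj (Submonoid.powers f) t
  simp only at h
  have h1 : algebraMap RX LX (φ₀ β) = 0 := by
    rw [← hcomm, ← h, map_mul, ht, zero_mul]
  obtain ⟨⟨_, m, rfl⟩, hm⟩ := (IsLocalization.map_eq_zero_iff (Submonoid.powers (φ₀ f)) LX _).mp h1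
  simp only at hm
  have h2 : f ^ m * β = 0 := by
    apply hinj₀
    rw [map_mul, map_pow, hm, map_zero]
  have hu : IsUnit (algebraMap RY LY f) := IsLocalization.Away.algebraMap_isUnit f
  have h3 : algebraMap RY LY β = 0 := by
    have := congrArg (algebraMap RY LY) h2
    rw [map_mul, map_pow, map_zero] at this
    exact ((hu.pow m).mul_right_eq_zero).mp this
  rw [h3, map_pow] at h
  exact ((hu.pow n).mul_left_eq_zero).mp h

theorem loc_range {RY RX LY LX : Type u} [CommRing RY] [CommRing RX] [CommRing LY] [CommRing LX]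
    [Algebra RY LY] [Algebra RX LX] (f : RY) (φ₀ : RY →+* RX) (φ : LY →+* LX)
    [IsLocalization.Away f LY] [IsLocalization.Away (φ₀ f) LX]
    (hcomm : ∀ y, φ (algebraMap RY LY y) = algebraMap RX LX (φ₀ y))
    {G : Type u} [Finite G] (a : G → RX →+* RX) (A : G → LX →+* LX)
    (hA : ∀ g x, A g (algebraMap RX LX x) = algebraMap RX LX (a g x))
    (ha : ∀ g y, a g (φ₀ y) = φ₀ y)
    (hrange₀ : ∀ s : RX, (∀ g, a g s = s) → s ∈ Set.range φ₀)
    (s : LX) (hs : ∀ g, A g s = s) : s ∈ Set.range φ := by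
  classical
  haveI := Fintype.ofFinite G
  obtain ⟨⟨α, ⟨_, n, rfl⟩⟩, h⟩ := IsLocalization.surj (Submonoid.powers (φ₀ f)) s
  simp only at h
  have hu : IsUnit (algebraMap RX LX (φ₀ f)) := IsLocalization.Away.algebraMap_isUnit (φ₀ f)
  have h1 : ∀ g, algebraMap RX LX (a g α) = algebraMap RX LX α := by
    intro g
    rw [← hA, ← h, map_mul, hs, hA, map_pow, ha]
  have h2 : ∀ g, ∃ m : ℕ, (φ₀ f) ^ m * a g α = (φ₀ f) ^ m * α := by
    intro g
    obtain ⟨⟨_, m, rfl⟩, hm⟩ := (IsLocalization.eq_iff_exists (Submonoid.powers (φ₀ f)) LX).mp (h1 g)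
    exact ⟨m, hm⟩
  choose mg hmg using h2
  let m := Finset.univ.sup mg
  have h3 : ∀ g, (φ₀ f) ^ m * a g α = (φ₀ f) ^ m * α := by
    intro g
    have hle : mg g ≤ m := Finset.le_sup (Finset.mem_univ g)
    obtain ⟨k, hk⟩ := Nat.exists_eq_add_of_le hle
    rw [hk, pow_add, mul_comm ((φ₀ f) ^ mg g), mul_assoc, mul_assoc, hmg g]
  obtain ⟨β, hβ⟩ := hrange₀ ((φ₀ f) ^ m * α) (by
    intro g
    rw [map_mul, map_pow, ha, h3])
  refine ⟨IsLocalization.mk' LY β (⟨f ^ (n + m), n + m, rfl⟩ : Submonoid.powers f), ?_⟩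
  have h4 : φ (IsLocalization.mk' LY β (⟨f ^ (n + m), n + m, rfl⟩ : Submonoid.powers f)) *
      algebraMap RX LX (φ₀ f) ^ (n + m) = s * algebraMap RX LX (φ₀ f) ^ (n + m) := by
    have : algebraMap RX LX (φ₀ f) ^ (n + m) = φ (algebraMap RY LY (f ^ (n + m))) := by
      rw [hcomm, map_pow, map_pow]
    rw [this, ← map_mul]
    erw [IsLocalization.mk'_spec]
    rw [← this, hcomm, hβ, map_mul, map_pow, pow_add, ← h, map_pow]
    ring
  exact (hu.pow (n + m)).mul_left_injective h4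

variable {X Y : Scheme.{u}} {G : Type u} [Group G] (ρ : G →* Aut X) (p : X ⟶ Y)
  (hinv : ∀ g : G, (ρ g).hom ≫ p = p)

/-- restriction of functions between preimages -/
noncomputable def resX {V' V : Y.Opens} (h : V' ≤ V) : Γ(X, p ⁻¹ᵁ V) ⟶ Γ(X, p ⁻¹ᵁ V') :=
  X.presheaf.map (homOfLE (p.preimage_mono h)).op

noncomputable def resY {V' V : Y.Opens} (h : V' ≤ V) : Γ(Y, V) ⟶ Γ(Y, V') :=
  Y.presheaf.map (homOfLE h).op

theorem app_pb (g : G) (V : Y.Opens) : p.app V ≫ pb ρ p hinv g V = p.app V := by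
  unfold pb
  rw [Scheme.Hom.app_eq_appLE, Scheme.Hom.appLE_comp_appLE]
  congr 1
  exact hinv g

theorem pb_res (g : G) {V' V : Y.Opens} (h : V' ≤ V) :
    pb ρ p hinv g V ≫ resX p h = resX p h ≫ pb ρ p hinv g V' := by
  unfold pb resX
  rw [Scheme.Hom.appLE_map, Scheme.Hom.map_appLE]

theorem app_res {V' V : Y.Opens} (h : V' ≤ V) :
    p.app V ≫ resX p h = resY h ≫ p.app V' := by
  unfold resX resY
  exact (p.naturality (homOfLE h).op).symm

theorem resX_resX {V'' V' V : Y.Opens} (h' : V'' ≤ V') (h : V' ≤ V) :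
    resX p h ≫ resX p h' = resX p (h'.trans h) := by
  unfold resX
  rw [← Functor.map_comp]
  rfl

theorem resY_resY {V'' V' V : Y.Opens} (h' : V'' ≤ V') (h : V' ≤ V) :
    resY h ≫ resY h' = resY (h'.trans h) := by
  unfold resY
  rw [← Functor.map_comp]
  rfl

theorem cover_of_basis (ℬ : Set Y.Opens) (hℬ : Opens.IsBasis ℬ) (U : Y.Opens) :
    U ≤ ⨆ i : {V : Y.Opens // V ∈ ℬ ∧ V ≤ U}, i.1 := by
  intro x hx
  obtain ⟨V, hV, hxV, hVU⟩ := Opens.isBasis_iff_nbhd.mp hℬ hx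
  exact Opens.mem_iSup.mpr ⟨⟨V, hV, hVU⟩, hxV⟩

theorem inj_of_basis (ℬ : Set Y.Opens) (hℬ : Opens.IsBasis ℬ)
    (hinj : ∀ V ∈ ℬ, Function.Injective (p.app V).hom) (U : Y.Opens) :
    Function.Injective (p.app U).hom := by
  intro t₁ t₂ h
  refine Y.sheaf.eq_of_locally_eq' (fun i : {V : Y.Opens // V ∈ ℬ ∧ V ≤ U} => i.1) U
    (fun i => homOfLE i.2.2) (cover_of_basis ℬ hℬ U) t₁ t₂ (fun i => ?_)
  apply hinj i.1 i.2.1
  have e := app_res p i.2.2
  have e1 := congrArg (fun φ => φ.hom t₁) e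
  have e2 := congrArg (fun φ => φ.hom t₂) e
  simp only [CommRingCat.hom_comp, RingHom.coe_comp, Function.comp_apply] at e1 e2
  show (p.app i.1).hom ((resY i.2.2).hom t₁) = (p.app i.1).hom ((resY i.2.2).hom t₂)
  rw [← e1, ← e2, h]

theorem range_of_basis (ℬ : Set Y.Opens) (hℬ : Opens.IsBasis ℬ)
    (hinj : ∀ V ∈ ℬ, Function.Injective (p.app V).hom)
    (hrange : ∀ V ∈ ℬ, ∀ s : Γ(X, p ⁻¹ᵁ V), (∀ g, (pb ρ p hinv g V).hom s = s) →
      s ∈ Set.range (p.app V).hom)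
    (U : Y.Opens) (s : Γ(X, p ⁻¹ᵁ U)) (hs : ∀ g, (pb ρ p hinv g U).hom s = s) :
    s ∈ Set.range (p.app U).hom := by
  let ι := {V : Y.Opens // V ∈ ℬ ∧ V ≤ U}
  have hloc : ∀ i : ι, ∃ t : Γ(Y, i.1), (p.app i.1).hom t = (resX p i.2.2).hom s := by
    intro i
    apply hrange i.1 i.2.1
    intro g
    have e := congrArg (fun φ => φ.hom s) (pb_res ρ p hinv g i.2.2)
    simp only [CommRingCat.hom_comp, RingHom.coe_comp, Function.comp_apply] at e
    rw [← e, hs g]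
  choose t ht using hloc
  have hcompat : TopCat.Presheaf.IsCompatible Y.sheaf.1 (fun i : ι => i.1) t := by
    intro i j
    apply inj_of_basis p ℬ hℬ hinj (i.1 ⊓ j.1)
    have hi : i.1 ⊓ j.1 ≤ i.1 := inf_le_left
    have hj : i.1 ⊓ j.1 ≤ j.1 := inf_le_right
    show (p.app (i.1 ⊓ j.1)).hom ((resY hi).hom (t i)) = (p.app (i.1 ⊓ j.1)).hom ((resY hj).hom (t j))
    have e1 := congrArg (fun φ => φ.hom (t i)) (app_res p hi)
    have e2 := congrArg (fun φ => φ.hom (t j)) (app_res p hj)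
    simp only [CommRingCat.hom_comp, RingHom.coe_comp, Function.comp_apply] at e1 e2
    rw [← e1, ← e2, ht, ht]
    have f1 := congrArg (fun φ => φ.hom s) (resX_resX p hi i.2.2)
    have f2 := congrArg (fun φ => φ.hom s) (resX_resX p hj j.2.2)
    simp only [CommRingCat.hom_comp, RingHom.coe_comp, Function.comp_apply] at f1 f2
    rw [f1, f2]
  obtain ⟨t₀', ht₀', -⟩ := Y.sheaf.existsUnique_gluing' (fun i : ι => i.1) U
    (fun i => homOfLE i.2.2) (cover_of_basis ℬ hℬ U) t hcompat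
  let t₀ : Γ(Y, U) := t₀'
  have ht₀ : ∀ i : ι, (resY i.2.2).hom t₀ = t i := ht₀'
  refine ⟨t₀, ?_⟩
  refine X.sheaf.eq_of_locally_eq' (fun i : ι => p ⁻¹ᵁ i.1) (p ⁻¹ᵁ U)
    (fun i => homOfLE (p.preimage_mono i.2.2)) ?_ _ _ (fun i => ?_)
  · intro x hx
    have hx' : p x ∈ U := hx
    obtain ⟨V, hV, hxV, hVU⟩ := Opens.isBasis_iff_nbhd.mp hℬ hx'
    exact Opens.mem_iSup.mpr ⟨⟨V, hV, hVU⟩, hxV⟩
  · show (resX p i.2.2).hom ((p.app U).hom t₀) = (resX p i.2.2).hom s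
    have e : (resX p i.2.2).hom ((p.app U).hom t₀) = (p.app i.1).hom ((resY i.2.2).hom t₀) :=
      congrArg (fun φ => φ.hom t₀) (app_res p i.2.2)
    rw [e, ← ht i, ht₀ i]

theorem isQuot_of_basis [IsAffineHom p] (ℬ : Set Y.Opens) (hℬ : Opens.IsBasis ℬ)
    (hinj : ∀ V ∈ ℬ, Function.Injective (p.app V).hom)
    (hrange : ∀ V ∈ ℬ, ∀ s : Γ(X, p ⁻¹ᵁ V), (∀ g, (pb ρ p hinv g V).hom s = s) →
      s ∈ Set.range (p.app V).hom) : SGA1.IsQuot ρ p where
  affine := inferInstance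
  inv := hinv
  injective := inj_of_basis p ℬ hℬ hinj
  range_iff U s := by
    constructor
    · rintro ⟨t, rfl⟩ g
      have e := congrArg (fun φ => φ.hom t) (app_pb ρ p hinv g U)
      simp only [CommRingCat.hom_comp, RingHom.coe_comp, Function.comp_apply] at e
      exact e
    · intro hs
      exact range_of_basis ρ p hinv ℬ hℬ hinj hrange U s hs

end Groth.Agent.Helper6.QuotBasis
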