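import Mathlib
import Groth.Prelude.Def_SGA1
import Groth.Agent.Helper6.QuotBasis

universe u

namespace Groth.Agent.Helper6.QuotSpec

open CategoryTheory AlgebraicGeometry Opposite TopologicalSpace
open Groth.Agent.Helper6.QuotAct Groth.Agent.Helper6.QuotBasis

theorem appLE_top' {X Y : Scheme.{u}} (p : X ⟶ Y) (f : X ⟶ X) (e : (p ⁻¹ᵁ ⊤) ≤ f ⁻¹ᵁ (p ⁻¹ᵁ ⊤)) :
    f.appLE (p ⁻¹ᵁ ⊤) (p ⁻¹ᵁ ⊤) e = f.appTop := by
  have h : X.presheaf.map (homOfLE e).op = 𝟙 _ := X.presheaf.map_id _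
  unfold Scheme.Hom.appLE
  rw [h]
  exact Category.comp_id _


section
variable {X Y : Scheme.{u}} {G : Type u} [Group G] (ρ : G →* Aut X) (p : X ⟶ Y)
  (hinv : ∀ g : G, (ρ g).hom ≫ p = p)

theorem isQuot_of_affine [IsAffine X] [IsAffine Y] [Finite G]
    (hinj₀ : Function.Injective (p.app ⊤).hom)
    (hrange₀ : ∀ s : Γ(X, p ⁻¹ᵁ ⊤), (∀ g, (pb ρ p hinv g ⊤).hom s = s) →
      s ∈ Set.range (p.app ⊤).hom) : SGA1.IsQuot ρ p := by
  refine isQuot_of_basis ρ p hinv (Set.range Y.basicOpen) (isBasis_basicOpen Y) ?_ ?_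
  · rintro _ ⟨f, rfl⟩
    letI : Algebra Γ(Y, ⊤) Γ(Y, Y.basicOpen f) := (resY (le_top : Y.basicOpen f ≤ ⊤)).hom.toAlgebra
    letI : Algebra Γ(X, p ⁻¹ᵁ ⊤) Γ(X, p ⁻¹ᵁ Y.basicOpen f) :=
      (resX p (le_top : Y.basicOpen f ≤ ⊤)).hom.toAlgebra
    haveI : IsLocalization.Away f Γ(Y, Y.basicOpen f) :=
      (isAffineOpen_top Y).isLocalization_of_eq_basicOpen f (homOfLE le_top) rfl
    haveI : IsLocalization.Away ((p.app ⊤).hom f) Γ(X, p ⁻¹ᵁ Y.basicOpen f) :=
      (isAffineOpen_top X).isLocalization_of_eq_basicOpen ((p.app ⊤).hom f)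
        (homOfLE (p.preimage_mono le_top)) (Scheme.preimage_basicOpen p f)
    refine loc_inj f (p.app ⊤).hom (p.app (Y.basicOpen f)).hom ?_ hinj₀
    intro y
    exact (congrArg (fun φ => φ.hom y) (app_res p (le_top : Y.basicOpen f ≤ ⊤))).symm
  · rintro _ ⟨f, rfl⟩ s hs
    letI : Algebra Γ(Y, ⊤) Γ(Y, Y.basicOpen f) := (resY (le_top : Y.basicOpen f ≤ ⊤)).hom.toAlgebra
    letI : Algebra Γ(X, p ⁻¹ᵁ ⊤) Γ(X, p ⁻¹ᵁ Y.basicOpen f) :=
      (resX p (le_top : Y.basicOpen f ≤ ⊤)).hom.toAlgebra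
    haveI : IsLocalization.Away f Γ(Y, Y.basicOpen f) :=
      (isAffineOpen_top Y).isLocalization_of_eq_basicOpen f (homOfLE le_top) rfl
    haveI : IsLocalization.Away ((p.app ⊤).hom f) Γ(X, p ⁻¹ᵁ Y.basicOpen f) :=
      (isAffineOpen_top X).isLocalization_of_eq_basicOpen ((p.app ⊤).hom f)
        (homOfLE (p.preimage_mono le_top)) (Scheme.preimage_basicOpen p f)
    refine loc_range f (p.app ⊤).hom (p.app (Y.basicOpen f)).hom ?_
      (fun g => (pb ρ p hinv g ⊤).hom) (fun g => (pb ρ p hinv g (Y.basicOpen f)).hom) ?_ ?_ hrange₀ s hs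
    · intro y
      exact (congrArg (fun φ => φ.hom y) (app_res p (le_top : Y.basicOpen f ≤ ⊤))).symm
    · intro g x
      exact (congrArg (fun φ => φ.hom x) (pb_res ρ p hinv g (le_top : Y.basicOpen f ≤ ⊤))).symm
    · intro g y
      exact congrArg (fun φ => φ.hom y) (app_pb ρ p hinv g ⊤)

end

theorem spec_main (G : Type u) [Group G] [Finite G] (A B : Type u) [CommRing A] [CommRing B]
    [Algebra B A] [MulSemiringAction G A] [SMulCommClass G B A] [Algebra.IsInvariant B A G]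
    [FaithfulSMul B A]
    (ρ : G →* Aut (Spec (CommRingCat.of A)))
    (hρ : Set.range (fun g : G => (ρ g).hom) =
      Set.range (fun g : G => Spec.map (CommRingCat.ofHom (MulSemiringAction.toRingHom G A g)))) :
    SGA1.IsQuot ρ (Spec.map (CommRingCat.ofHom (algebraMap B A))) := by
  set p := Spec.map (CommRingCat.ofHom (algebraMap B A)) with hp
  let σ : G → (CommRingCat.of A ⟶ CommRingCat.of A) := fun h =>
    CommRingCat.ofHom (MulSemiringAction.toRingHom G A h)
  have hσp : ∀ h : G, Spec.map (σ h) ≫ p = p := by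
    intro h
    rw [hp, ← Spec.map_comp]
    congr 1
    ext b
    exact smul_algebraMap h b
  have hinv : ∀ g : G, (ρ g).hom ≫ p = p := by
    intro g
    have : (ρ g).hom ∈ Set.range (fun g : G => (ρ g).hom) := ⟨g, rfl⟩
    rw [hρ] at this
    obtain ⟨h, hh⟩ := this
    rw [← hh]
    exact hσp h
  have hnat : p.appTop ≫ (Scheme.ΓSpecIso (CommRingCat.of A)).hom =
      (Scheme.ΓSpecIso (CommRingCat.of B)).hom ≫ CommRingCat.ofHom (algebraMap B A) :=
    Scheme.ΓSpecIso_naturality _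
  refine isQuot_of_affine ρ p hinv ?_ ?_
  · intro t₁ t₂ ht
    have h1 : (Scheme.ΓSpecIso (CommRingCat.of A)).hom.hom (p.appTop.hom t₁) =
        (Scheme.ΓSpecIso (CommRingCat.of A)).hom.hom (p.appTop.hom t₂) := congrArg _ ht
    have e1 := congrArg (fun φ => φ.hom t₁) hnat
    have e2 := congrArg (fun φ => φ.hom t₂) hnat
    simp only [CommRingCat.hom_comp, RingHom.coe_comp, Function.comp_apply, CommRingCat.hom_ofHom] at e1 e2
    rw [e1, e2] at h1
    have h2 := FaithfulSMul.algebraMap_injective B A h1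
    exact (ConcreteCategory.bijective_of_isIso (Scheme.ΓSpecIso (CommRingCat.of B)).hom).1 h2
  · intro s hs
    let a : A := (Scheme.ΓSpecIso (CommRingCat.of A)).hom.hom s
    have ha : ∀ h : G, h • a = a := by
      intro h
      have : Spec.map (σ h) ∈ Set.range (fun g : G => Spec.map (CommRingCat.ofHom (MulSemiringAction.toRingHom G A g))) :=
        ⟨h, rfl⟩
      rw [← hρ] at this
      obtain ⟨g, hg⟩ := this
      have h1 := hs g
      unfold pb at h1
      rw [appLE_top'] at h1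
      have hg' : (ρ g).hom = Spec.map (σ h) := hg
      rw [hg'] at h1
      let s' : Γ(Spec (CommRingCat.of A), ⊤) := s
      have e1 : (Scheme.ΓSpecIso (CommRingCat.of A)).hom.hom ((Spec.map (σ h)).appTop.hom s') =
          (σ h).hom ((Scheme.ΓSpecIso (CommRingCat.of A)).hom.hom s') :=
        congrArg (fun φ => φ.hom s') (Scheme.ΓSpecIso_naturality (σ h))
      have h1' : (Spec.map (σ h)).appTop.hom s' = s' := h1
      rw [h1'] at e1
      exact e1.symm
    obtain ⟨b, hb⟩ := Algebra.IsInvariant.isInvariant (A := B) (G := G) a ha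
    refine ⟨(Scheme.ΓSpecIso (CommRingCat.of B)).inv.hom b, ?_⟩
    apply (ConcreteCategory.bijective_of_isIso (Scheme.ΓSpecIso (CommRingCat.of A)).hom).1
    have e1 := congrArg (fun φ => φ.hom ((Scheme.ΓSpecIso (CommRingCat.of B)).inv.hom b)) hnat
    simp only [CommRingCat.hom_comp, RingHom.coe_comp, Function.comp_apply, CommRingCat.hom_ofHom] at e1
    show (Scheme.ΓSpecIso (CommRingCat.of A)).hom.hom (p.appTop.hom _) = a
    rw [e1, ← hb]
    congr 1
    exact congrArg (fun φ => φ.hom b) (Scheme.ΓSpecIso (CommRingCat.of B)).inv_hom_id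

end Groth.Agent.Helper6.QuotSpec
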