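import Groth.Prelude.Def_AlgSt5

set_option autoImplicit false
universe u
open CategoryTheory CategoryTheory.Limits MonoidalCategory CartesianMonoidalCategory MonObj GrpObj AlgebraicGeometry

namespace Groth.Agent.Helper6.QuotHom

open AlgSt

variable {S : Scheme.{u}} {G : Over S} [GrpObj G] {X : Over S} (aX : AlgGrp.Action G X)

theorem act_mul {T : Over S} (g g' : T ⟶ G) (x : T ⟶ X) :
    lift (g * g') x ≫ aX.act = lift g (lift g' x ≫ aX.act) ≫ aX.act := by
  have h := lift (lift g g') x ≫= aX.mul_act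
  rw [lift_whiskerRight_assoc, lift_lift_associator_hom_assoc, lift_whiskerLeft_assoc] at h
  rw [Hom.mul_def]
  exact h

theorem act_one {T : Over S} (x : T ⟶ X) :
    lift (1 : T ⟶ G) x ≫ aX.act = x := by
  have h := lift (toUnit T) x ≫= aX.one_act
  rw [lift_whiskerRight_assoc, lift_leftUnitor_hom] at h
  rw [Hom.one_def]
  exact h

/-- the unit section -/
noncomputable def sec (T : Over S) : T ⟶ G ⊗ T := lift (1 : T ⟶ G) (𝟙 T)

/-- the twisted map `(a, t) ↦ (a g(t), f t)` -/
noncomputable def top {T T' : Over S} (f : T ⟶ T') (g : T ⟶ G) : G ⊗ T ⟶ G ⊗ T' :=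
  lift (fst G T * (snd G T ≫ g)) (snd G T ≫ f)

theorem top_eqv {T T' : Over S} (f : T ⟶ T') (g : T ⟶ G) :
    (leftMul G T).act ≫ top f g = (G ◁ top f g) ≫ (leftMul G T').act := by
  apply CartesianMonoidalCategory.hom_ext
  · simp only [top, leftMul, Category.assoc, lift_fst, lift_snd, lift_fst_assoc, lift_snd_assoc,
      comp_lift, comp_mul, whiskerLeft_fst, whiskerLeft_snd, whiskerLeft_fst_assoc,
      whiskerLeft_snd_assoc]
    rw [_root_.mul_assoc]
  · simp only [top, leftMul, Category.assoc, lift_fst, lift_snd, lift_fst_assoc, lift_snd_assoc,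
      comp_lift, comp_mul, whiskerLeft_fst, whiskerLeft_snd, whiskerLeft_fst_assoc,
      whiskerLeft_snd_assoc]

/-- the twist automorphism `(a, t) ↦ (a g(t), t)` -/
noncomputable def tw {T : Over S} (g : T ⟶ G) : G ⊗ T ⟶ G ⊗ T :=
  lift (fst G T * (snd G T ≫ g)) (snd G T)

theorem tw_comp {T : Over S} (g g' : T ⟶ G) : tw g ≫ tw g' = tw (g * g') := by
  apply CartesianMonoidalCategory.hom_ext
  · simp only [tw, Category.assoc, lift_fst, lift_snd, lift_snd_assoc, comp_lift, comp_mul]
    rw [_root_.mul_assoc]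
  · simp only [tw, Category.assoc, lift_fst, lift_snd, lift_snd_assoc, comp_lift, comp_mul]

theorem tw_one {T : Over S} : tw (1 : T ⟶ G) = 𝟙 (G ⊗ T) := by
  apply CartesianMonoidalCategory.hom_ext
  · simp only [tw, lift_fst, Category.id_comp, comp_one, _root_.mul_one]
  · simp only [tw, lift_snd, Category.id_comp]

instance {T : Over S} (g : T ⟶ G) : IsIso (tw g) :=
  ⟨⟨tw g⁻¹, by rw [tw_comp, mul_inv_cancel, tw_one], by rw [tw_comp, inv_mul_cancel, tw_one]⟩⟩

theorem top_eq {T T' : Over S} (f : T ⟶ T') (g : T ⟶ G) : top f g = tw g ≫ (G ◁ f) := by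
  apply CartesianMonoidalCategory.hom_ext
  · simp only [top, tw, Category.assoc, lift_fst, whiskerLeft_fst]
  · simp only [top, tw, Category.assoc, lift_snd, whiskerLeft_snd, lift_snd_assoc]

theorem top_cart {T T' : Over S} (f : T ⟶ T') (g : T ⟶ G) :
    IsPullback (top f g) (snd G T) (snd G T') f := by
  have h1 : IsPullback (tw g) (snd G T) (snd G T) (𝟙 T) :=
    IsPullback.of_horiz_isIso ⟨by simp only [tw, lift_snd, Category.comp_id]⟩
  have h2 := h1.paste_horiz (isPullback_whiskerLeft (G := G) f)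
  rw [Category.id_comp, ← top_eq] at h2
  exact h2

theorem top_wφ {T T' : Over S} (f : T ⟶ T') (g : T ⟶ G) (x : T ⟶ X) (x' : T' ⟶ X)
    (hg : lift g (f ≫ x') ≫ aX.act = x) :
    top f g ≫ (G ◁ x') ≫ aX.act = (G ◁ x) ≫ aX.act := by
  have h1 : top f g ≫ (G ◁ x') = lift (fst G T * (snd G T ≫ g)) (snd G T ≫ f ≫ x') := by
    apply CartesianMonoidalCategory.hom_ext
    · simp only [top, Category.assoc, lift_fst, whiskerLeft_fst]
    · simp only [top, Category.assoc, lift_snd, whiskerLeft_snd, lift_snd_assoc]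
  rw [← Category.assoc, h1, act_mul]
  have h2 : lift (snd G T ≫ g) (snd G T ≫ f ≫ x') ≫ aX.act = snd G T ≫ x := by
    rw [← hg, ← Category.assoc (snd G T) (lift g (f ≫ x')), comp_lift]
  rw [h2]
  congr 1

/-- `(a, t) ↦ (a, (1, t))` -/
noncomputable def uu (T : Over S) : G ⊗ T ⟶ G ⊗ (G ⊗ T) := lift (fst G T) (snd G T ≫ sec T)

theorem uu_act (T : Over S) : uu T ≫ (leftMul G T).act = 𝟙 (G ⊗ T) := by
  apply CartesianMonoidalCategory.hom_ext
  · simp only [uu, sec, leftMul, Category.assoc, lift_fst, lift_snd, lift_fst_assoc, lift_snd_assoc,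
      comp_lift, comp_mul, Category.id_comp, comp_one, _root_.mul_one]
  · simp only [uu, sec, leftMul, Category.assoc, lift_fst, lift_snd, lift_fst_assoc, lift_snd_assoc,
      comp_lift, comp_mul, Category.id_comp, Category.comp_id]

theorem top_of_eqv {T T' : Over S} (f : T ⟶ T') (t : G ⊗ T ⟶ G ⊗ T')
    (heqv : (leftMul G T).act ≫ t = (G ◁ t) ≫ (leftMul G T').act)
    (hsnd : t ≫ snd G T' = snd G T ≫ f) :
    t = top f (sec T ≫ t ≫ fst G T') := by
  apply CartesianMonoidalCategory.hom_ext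
  · have h1 : t ≫ fst G T' = uu T ≫ ((leftMul G T).act ≫ t) ≫ fst G T' := by
      rw [← Category.assoc, ← Category.assoc, uu_act, Category.id_comp]
    conv_lhs => rw [h1, heqv]
    simp only [uu, top, leftMul, Category.assoc, lift_fst, lift_snd, lift_fst_assoc, lift_snd_assoc,
      comp_lift, comp_mul, whiskerLeft_fst, whiskerLeft_snd, whiskerLeft_fst_assoc,
      whiskerLeft_snd_assoc]
  · rw [hsnd]
    simp only [top, lift_snd]

theorem sec_top {T T' : Over S} (f : T ⟶ T') (g : T ⟶ G) : sec T ≫ top f g = lift g f := by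
  apply CartesianMonoidalCategory.hom_ext
  · simp only [sec, top, Category.assoc, lift_fst, lift_snd, lift_fst_assoc, lift_snd_assoc,
      comp_lift, comp_mul, Category.id_comp, _root_.one_mul]
  · simp only [sec, top, Category.assoc, lift_fst, lift_snd, lift_fst_assoc, lift_snd_assoc,
      comp_lift, comp_mul, Category.id_comp]

theorem act_of_wφ {T T' : Over S} (f : T ⟶ T') (g : T ⟶ G) (x : T ⟶ X) (x' : T' ⟶ X)
    (h : top f g ≫ (G ◁ x') ≫ aX.act = (G ◁ x) ≫ aX.act) :
    lift g (f ≫ x') ≫ aX.act = x := by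
  have h1 := sec T ≫= h
  rw [← Category.assoc, sec_top, ← Category.assoc, lift_whiskerLeft] at h1
  rw [h1, ← Category.assoc]
  have h2 : sec T ≫ (G ◁ x) = lift (1 : T ⟶ G) x := by
    simp only [sec, lift_whiskerLeft, Category.id_comp]
  rw [h2, act_one]

end Groth.Agent.Helper6.QuotHom
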