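import Mathlib
import Groth.Agent.Helper9.RadPrime
import Groth.Agent.Helper5.HtOne

/-!
# Orders of vanishing along height-one primes of a normal Noetherian domain
-/

namespace Groth.Agent.Helper6.PrinRad

universe u

variable {R : Type u} [CommRing R] [IsDomain R] [IsNoetherianRing R] [IsIntegrallyClosed R]

theorem dvr (q : Ideal R) [q.IsPrime] (hq : q.height = 1) :
    IsDiscreteValuationRing (Localization.AtPrime q) :=
  Groth.Agent.Helper9.RadPrime.dvr_of_height_le_one q (Ideal.ne_bot_of_height_eq_one hq)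
    (le_of_eq hq)

/-- The order of vanishing of `x` along the height-one prime `q`. -/
noncomputable def ord (q : Ideal R) [q.IsPrime] (hq : q.height = 1) (x : R) : ℕ∞ :=
  haveI := dvr q hq
  IsDiscreteValuationRing.addVal (Localization.AtPrime q) (algebraMap R (Localization.AtPrime q) x)

variable (q : Ideal R) [q.IsPrime] (hq : q.height = 1)

theorem ord_mul (x y : R) : ord q hq (x * y) = ord q hq x + ord q hq y := by
  haveI := dvr q hq
  simp only [ord, map_mul]
  exact IsDiscreteValuationRing.addVal_mul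

theorem ord_pow (x : R) (n : ℕ) : ord q hq (x ^ n) = n • ord q hq x := by
  haveI := dvr q hq
  simp only [ord, map_pow]
  exact IsDiscreteValuationRing.addVal_pow _ n

theorem ord_add (x y : R) : min (ord q hq x) (ord q hq y) ≤ ord q hq (x + y) := by
  haveI := dvr q hq
  simp only [ord, map_add]
  exact IsDiscreteValuationRing.addVal_add

theorem ord_neg (x : R) : ord q hq (-x) = ord q hq x := by
  haveI := dvr q hq
  simp only [ord, map_neg]
  exact AddValuation.map_neg _ _

theorem ord_sub (x y : R) : min (ord q hq x) (ord q hq y) ≤ ord q hq (x - y) := by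
  rw [sub_eq_add_neg]
  have := ord_add q hq x (-y)
  rwa [ord_neg] at this

theorem ord_eq_top_iff (x : R) : ord q hq x = ⊤ ↔ x = 0 := by
  haveI := dvr q hq
  simp only [ord]
  rw [IsDiscreteValuationRing.addVal_eq_top_iff]
  have hle : q.primeCompl ≤ nonZeroDivisors R := by
    intro y hy
    rw [mem_nonZeroDivisors_iff_ne_zero]
    rintro rfl
    exact hy (Ideal.zero_mem q)
  have hinj : Function.Injective (algebraMap R (Localization.AtPrime q)) :=
    IsLocalization.injective _ hle
  exact map_eq_zero_iff _ hinj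

theorem ord_eq_zero_iff (x : R) : ord q hq x = 0 ↔ x ∉ q := by
  haveI := dvr q hq
  simp only [ord]
  rw [IsDiscreteValuationRing.addVal_eq_zero_iff,
    IsLocalization.AtPrime.isUnit_to_map_iff (Localization.AtPrime q) q x]
  rfl

theorem one_le_ord_iff (x : R) : 1 ≤ ord q hq x ↔ x ∈ q := by
  rw [Order.one_le_iff_ne_zero, Ne, ord_eq_zero_iff, not_not]

theorem exists_ord_eq_one : ∃ a ∈ q, ord q hq a = 1 := by
  haveI := dvr q hq
  obtain ⟨ϖ, hϖ⟩ := IsDiscreteValuationRing.exists_irreducible (Localization.AtPrime q)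
  obtain ⟨⟨a, s⟩, hmk⟩ := IsLocalization.mk'_surjective q.primeCompl ϖ
  have h1 : algebraMap R (Localization.AtPrime q) a =
      ϖ * algebraMap R (Localization.AtPrime q) (s : R) := by
    rw [← hmk, IsLocalization.mk'_spec]
  have h2 : ord q hq a = 1 := by
    simp only [ord]
    rw [h1, IsDiscreteValuationRing.addVal_mul, IsDiscreteValuationRing.addVal_uniformizer hϖ]
    have h3 : IsUnit (algebraMap R (Localization.AtPrime q) (s : R)) :=
      IsLocalization.map_units _ s
    rw [IsDiscreteValuationRing.addVal_eq_zero_iff.2 h3, add_zero]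
  refine ⟨a, ?_, h2⟩
  rw [← one_le_ord_iff q hq, h2]

/-- Divisibility can be checked at the height-one primes. -/
theorem dvd_of_forall_ord_le (a b : R) (ha : a ≠ 0)
    (h : ∀ (p : Ideal R) [p.IsPrime] (hp : p.height = 1), ord p hp a ≤ ord p hp b) : a ∣ b := by
  let K := FractionRing R
  have hinj := IsFractionRing.injective R K
  have haK : algebraMap R K a ≠ 0 := by rwa [Ne, map_eq_zero_iff _ hinj]
  have hx : algebraMap R K b / algebraMap R K a ∈ Set.range (algebraMap R K) := by
    refine Groth.Agent.Helper5.HtOne.main _ ?_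
    intro p _ hp
    haveI := dvr p hp
    obtain ⟨c, hc⟩ := IsDiscreteValuationRing.addVal_le_iff_dvd.1 (h p hp)
    refine ⟨c, ?_⟩
    rw [eq_div_iff haK, IsScalarTower.algebraMap_apply R (Localization.AtPrime p) K a,
      ← map_mul, mul_comm, ← hc, ← IsScalarTower.algebraMap_apply]
  obtain ⟨r, hr⟩ := hx
  refine ⟨r, ?_⟩
  apply hinj
  rw [map_mul, hr, mul_div_cancel₀ _ haK]

/-- Criterion for a principal ideal to be radical. -/
theorem isReduced_of_forall_ord_le_one (f : R) (hf : f ≠ 0)
    (h : ∀ (p : Ideal R) [p.IsPrime] (hp : p.height = 1), ord p hp f ≤ 1) :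
    IsReduced (R ⧸ Ideal.span {f}) := by
  rw [← Ideal.isRadical_iff_quotient_reduced]
  intro x hx
  obtain ⟨n, hn⟩ := hx
  rw [Ideal.mem_span_singleton] at hn ⊢
  refine dvd_of_forall_ord_le f x hf ?_
  intro p _ hp
  by_cases h0 : ord p hp x = 0
  · obtain ⟨c, hc⟩ := hn
    have h1 : ord p hp (x ^ n) = 0 := by rw [ord_pow, h0, smul_zero]
    rw [hc, ord_mul] at h1
    have h2 : ord p hp f = 0 := (add_eq_zero.1 h1).1
    rw [h2]
    exact zero_le
  · exact (h p hp).trans (Order.one_le_iff_ne_zero.2 h0)

end Groth.Agent.Helper6.PrinRad
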