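import Mathlib
import Groth.Prelude.Def_Wider
import Groth.Agent.Helper1.LocCohLinear
import Groth.Agent.Helper1.LocCohTors

set_option autoImplicit false

/-!
# Local cohomology vanishes when an element of the ideal acts bijectively
-/

namespace Groth.Agent.Helper6.LCBij

open CategoryTheory Limits
open Groth.Agent.Helper1.LocCohDelta Groth.Agent.Helper1

universe u

variable {R : Type u} [CommRing R] (J : Ideal R)
  (M : Type u) [AddCommGroup M] [Module R M]

theorem subsingleton_of_bijective (f : R) (hf : f ∈ J)
    (hbij : Function.Bijective (fun x : M => f • x)) (q : ℕ) :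
    Subsingleton (LocCoh.H J q M) := by
  let φ : ModuleCat.of R M ⟶ ModuleCat.of R M := f • 𝟙 (ModuleCat.of R M)
  have hφ : IsIso φ := by
    rw [ConcreteCategory.isIso_iff_bijective]
    exact hbij
  have h1 : (localCohomology J q).map φ = f • 𝟙 _ := by
    have := lc_map_smul J f q (𝟙 (ModuleCat.of R M))
    rw [CategoryTheory.Functor.map_id] at this
    exact this
  have h2 : IsIso ((localCohomology J q).map φ) := inferInstance
  rw [h1] at h2
  have hinj : Function.Injective (fun x : LocCoh.H J q M => f • x) := by
    have := (ConcreteCategory.isIso_iff_bijective _).1 h2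
    exact this.1
  have hpow : ∀ k : ℕ, ∀ x : LocCoh.H J q M, f ^ k • x = 0 → x = 0 := by
    intro k
    induction k with
    | zero => intro x hx; rwa [pow_zero, one_smul] at hx
    | succ k ih =>
      intro x hx
      rw [pow_succ, mul_smul] at hx
      apply hinj
      show f • x = f • 0
      rw [smul_zero]
      exact ih _ hx
  refine ⟨fun x y => ?_⟩
  have hx : x - y = 0 := by
    obtain ⟨k, hk⟩ := LocCohTors.isPowerTorsion J q (ModuleCat.of R M) (x - y)
    exact hpow k _ (hk _ (Ideal.pow_mem_pow hf k))
  exact sub_eq_zero.1 hx

end Groth.Agent.Helper6.LCBij
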