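import Mathlib
import Groth.Prelude
import Groth.Agent.Helper1.LocCohDepth
import Groth.Agent.Helper1.LocCohExt
import Groth.Agent.Helper2.DepthLoc
import Groth.Agent.Helper2.DepthCM

/-!
# Vanishing of local cohomology below `n` for modules with Cohen–Macaulay stalks
-/

set_option autoImplicit false
universe u

open CategoryTheory Abelian RingTheory.Sequence

namespace Groth.Agent.Helper6.LCCM

open Groth.Agent.Helper1.LocCohExt Groth.Agent.Helper1.LocCohDepth

variable {A : Type u} [CommRing A] [IsNoetherianRing A] (J : Ideal A)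
  (G : Type u) [AddCommGroup G] [Module A G] [Module.Finite A G]

lemma pow_smul_top_eq_top (hJG : J • (⊤ : Submodule A G) = ⊤) (k : ℕ) :
    J ^ k • (⊤ : Submodule A G) = ⊤ := by
  induction k with
  | zero => simp
  | succ k ih => rw [pow_succ, Submodule.mul_smul, hJG, ih]

lemma ext_subsingleton_of_smul_top_eq_top (hJG : J • (⊤ : Submodule A G) = ⊤)
    (F : Type u) [AddCommGroup F] [Module A F] [Module.Finite A F]
    (hF : Module.support A F ⊆ PrimeSpectrum.zeroLocus (J : Set A)) (i : ℕ) :
    Subsingleton (Ext (ModuleCat.of A F) (ModuleCat.of A G) i) := by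
  obtain ⟨k, hk⟩ := isPowerTorsion_of_support J F hF
  obtain ⟨r, hr1, hr2⟩ := Submodule.exists_sub_one_mem_and_smul_eq_zero_of_fg_of_le_smul (J ^ k)
    (⊤ : Submodule A G) Module.Finite.fg_top (pow_smul_top_eq_top J G hJG k).ge
  have h1 : r • 𝟙 (ModuleCat.of A G) = 0 := by
    ext x
    exact hr2 x trivial
  have h2 : (r - 1) • 𝟙 (ModuleCat.of A F) = 0 := by
    ext x
    exact Module.mem_annihilator.1 (hk hr1) x
  have key : ∀ x : Ext (ModuleCat.of A F) (ModuleCat.of A G) i, x = 0 := by
    intro x
    have e1 : r • x = 0 := by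
      rw [Ext.smul_eq_comp_mk₀, h1, Ext.mk₀_zero, Ext.comp_zero]
    have e2 : (r - 1) • x = 0 := by
      have : (r - 1) • x = (Ext.mk₀ ((r - 1) • 𝟙 (ModuleCat.of A F))).comp x (zero_add i) := by
        rw [Ext.mk₀_smul, Ext.smul_comp, Ext.mk₀_id_comp]
      rw [this, h2, Ext.mk₀_zero, Ext.zero_comp]
    have : x = r • x - (r - 1) • x := by
      rw [sub_smul, one_smul]
      abel
    rw [this, e1, e2, sub_zero]
  exact ⟨fun x y => (key x).trans (key y).symm⟩

theorem main
    (hCM : ∀ p : PrimeSpectrum A, Subsingleton (LocalizedModule p.asIdeal.primeCompl G) ∨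
      LocCoh.IsCohenMacaulayModule (Localization.AtPrime p.asIdeal)
        (LocalizedModule p.asIdeal.primeCompl G)) (n : ℕ) :
    (∀ i : ℕ, i < n → Subsingleton (LocCoh.H J i G)) ↔
      ∀ p : PrimeSpectrum A, J ≤ p.asIdeal → p ∈ Module.support A G →
        (n : WithBot ℕ∞) ≤ Module.supportDim (Localization.AtPrime p.asIdeal)
          (LocalizedModule p.asIdeal.primeCompl G) := by
  have hcm : ∀ p : PrimeSpectrum A, p ∈ Module.support A G →
      Module.supportDim (Localization.AtPrime p.asIdeal)
        (LocalizedModule p.asIdeal.primeCompl G) =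
      ((LocCoh.depth (Localization.AtPrime p.asIdeal)
        (LocalizedModule p.asIdeal.primeCompl G) : ℕ∞) : WithBot ℕ∞) := by
    intro p hp
    rcases hCM p with h | h
    · rw [Module.mem_support_iff] at hp
      exact absurd h (not_subsingleton_iff_nontrivial.2 hp)
    · exact h
  by_cases hJG : J • (⊤ : Submodule A G) = ⊤
  · constructor
    · intro _ p hJp hp
      exfalso
      -- Nakayama at `p`
      obtain ⟨r, hr1, hr2⟩ := Submodule.exists_sub_one_mem_and_smul_eq_zero_of_fg_of_le_smul J
        (⊤ : Submodule A G) Module.Finite.fg_top hJG.ge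
      rw [Module.mem_support_iff_exists_annihilator] at hp
      obtain ⟨m, hm⟩ := hp
      have hrp : r ∈ p.asIdeal := hm (by
        rw [Submodule.mem_annihilator_span_singleton]
        exact hr2 m trivial)
      have h1 : (1 : A) ∈ p.asIdeal := by
        have := p.asIdeal.sub_mem hrp (hJp hr1)
        simpa using this
      exact p.2.ne_top ((Ideal.eq_top_iff_one _).2 h1)
    · intro _
      rw [lc_iff_ext_all J G n]
      intro F _ _ hfin hsupp i _
      exact ext_subsingleton_of_smul_top_eq_top J G hJG F hsupp i
  · rw [← le_idealDepth_iff_lc J G hJG n]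
    constructor
    · intro h p hJp hp
      obtain ⟨rs, hlen, hmem, hreg⟩ := (le_idealDepth_iff J G hJG n).1 h
      have h1 := Groth.Agent.Helper2.DepthLoc.length_le_depth_localized J G rs hmem hreg p hJp
      rw [hcm p hp, ← hlen]
      exact_mod_cast h1
    · intro h
      obtain ⟨rs, hreg, hmem, hmax, hlen⟩ :=
        Groth.Agent.Helper2.DepthCM.exists_length_eq_idealDepth J G hJG
      obtain ⟨p, hJp, hp⟩ :=
        Groth.Agent.Helper2.DepthLoc.exists_depth_localized_eq J G hJG rs hmem hreg hmax
      have hsupp : p ∈ Module.support A G := by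
        rw [Module.mem_support_iff]
        by_contra hnt
        rw [not_nontrivial_iff_subsingleton] at hnt
        have := Groth.Agent.Helper2.DepthLoc.depth_eq_top_of_subsingleton
          (Localization.AtPrime p.asIdeal) (LocalizedModule p.asIdeal.primeCompl G)
        rw [this] at hp
        exact ENat.top_ne_natCast _ hp
      have h2 := h p hJp hsupp
      rw [hcm p hsupp, hp] at h2
      rw [← hlen]
      exact_mod_cast h2

end Groth.Agent.Helper6.LCCM
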