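import Mathlib
import Groth.Prelude.Def_SGA4c

set_option backward.isDefEq.respectTransparency false
set_option backward.isDefEq.respectTransparency.types false

universe u

open CategoryTheory CategoryTheory.Limits Opposite

namespace Groth.Agent.Helper6.FiltShf

section Filt

variable {I : Type*} [Category I] [IsFiltered I]

/-- Finitely many arrows out of one object of a filtered category can be equalised. -/
lemma exists_wide {K : Type*} (s : Finset K) (i : I) (jk : K → I) (u : ∀ k, i ⟶ jk k) :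
    ∃ (i' : I) (w : i ⟶ i'), ∀ k ∈ s, ∃ v : jk k ⟶ i', u k ≫ v = w := by
  classical
  induction s using Finset.induction_on with
  | empty => exact ⟨i, 𝟙 i, fun k hk => absurd hk (Finset.notMem_empty k)⟩
  | insert a s ha ih =>
    obtain ⟨i', w, hv⟩ := ih
    let m := IsFiltered.max (jk a) i'
    let l : jk a ⟶ m := IsFiltered.leftToMax _ _
    let r : i' ⟶ m := IsFiltered.rightToMax _ _
    let h : m ⟶ IsFiltered.coeq (u a ≫ l) (w ≫ r) := IsFiltered.coeqHom _ _
    have hc : (u a ≫ l) ≫ h = (w ≫ r) ≫ h := IsFiltered.coeq_condition _ _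
    refine ⟨_, w ≫ r ≫ h, fun k hk => ?_⟩
    rcases Finset.mem_insert.mp hk with rfl | hk
    · exact ⟨l ≫ h, by simpa [Category.assoc] using hc⟩
    · obtain ⟨v, hv⟩ := hv k hk
      exact ⟨v ≫ r ≫ h, by rw [← Category.assoc, hv]⟩

lemma exists_wide' {K : Type*} [Finite K] (i : I) (jk : K → I) (u : ∀ k, i ⟶ jk k) :
    ∃ (i' : I) (w : i ⟶ i') (v : ∀ k, jk k ⟶ i'), ∀ k, u k ≫ v k = w := by
  classical
  haveI := Fintype.ofFinite K
  obtain ⟨i', w, h⟩ := exists_wide (Finset.univ : Finset K) i jk u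
  choose v hv using fun k => h k (Finset.mem_univ k)
  exact ⟨i', w, v, hv⟩

lemma exists_above {K : Type*} [Finite K] (ik : K → I) :
    ∃ (i : I), ∀ k, Nonempty (ik k ⟶ i) := by
  classical
  haveI := Fintype.ofFinite K
  obtain ⟨i, hi⟩ := IsFiltered.sup_objs_exists (Finset.univ.image ik)
  exact ⟨i, fun k => hi (Finset.mem_image_of_mem _ (Finset.mem_univ k))⟩

end Filt

section Main

variable {C : Type u} [SmallCategory C] {I : Type u} [SmallCategory I] [IsFiltered I]
  (G : I ⥤ Cᵒᵖ ⥤ Type u) (c : Cocone G) (hc : IsColimit c)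

/-- evaluation of the colimit cocone. -/
noncomputable def hcU (U : Cᵒᵖ) : IsColimit (((evaluation Cᵒᵖ (Type u)).obj U).mapCocone c) :=
  isColimitOfPreserves _ hc

include hc in
lemma js (U : Cᵒᵖ) (t : c.pt.obj U) : ∃ (i : I) (y : (G.obj i).obj U), (c.ι.app i).app U y = t :=
  Types.jointly_surjective_of_isColimit (hcU G c hc U) t

include hc in
lemma js₂ (U : Cᵒᵖ) (t₁ t₂ : c.pt.obj U) : ∃ (i : I) (y₁ y₂ : (G.obj i).obj U),
    (c.ι.app i).app U y₁ = t₁ ∧ (c.ι.app i).app U y₂ = t₂ :=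
  Types.FilteredColimit.jointly_surjective_of_isColimit₂ (hcU G c hc U) t₁ t₂

include hc in
lemma eqiff (U : Cᵒᵖ) {i : I} (y y' : (G.obj i).obj U) :
    (c.ι.app i).app U y = (c.ι.app i).app U y' ↔
      ∃ (j : I) (f : i ⟶ j), (G.map f).app U y = (G.map f).app U y' :=
  Types.FilteredColimit.isColimit_eq_iff' (hcU G c hc U) y y'

lemma ι_map {i j : I} (f : i ⟶ j) (U : Cᵒᵖ) (y : (G.obj i).obj U) :
    (c.ι.app j).app U ((G.map f).app U y) = (c.ι.app i).app U y := by
  have := ConcreteCategory.congr_hom (NatTrans.congr_app (c.w f) U) y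
  exact this

lemma ι_nat (i : I) {U V : Cᵒᵖ} (h : U ⟶ V) (y : (G.obj i).obj U) :
    c.pt.map h ((c.ι.app i).app U y) = (c.ι.app i).app V ((G.obj i).map h y) :=
  (NatTrans.naturality_apply (c.ι.app i) h y).symm

lemma G_nat {i j : I} (f : i ⟶ j) {U V : Cᵒᵖ} (h : U ⟶ V) (y : (G.obj i).obj U) :
    (G.obj j).map h ((G.map f).app U y) = (G.map f).app V ((G.obj i).map h y) :=
  (NatTrans.naturality_apply (G.map f) h y).symm

lemma G_comp {i j k : I} (f : i ⟶ j) (g : j ⟶ k) (U : Cᵒᵖ) (y : (G.obj i).obj U) :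
    (G.map (f ≫ g)).app U y = (G.map g).app U ((G.map f).app U y) := by
  rw [G.map_comp]; rfl

variable [HasPullbacks C]

include hc in
theorem isSeparatedFor_colimit {X : C} {n : ℕ} (V : Fin n → C) (g : ∀ k, V k ⟶ X)
    (hG : ∀ i, (Presieve.ofArrows V g).IsSeparatedFor (G.obj i))
    (t₁ t₂ : c.pt.obj (op X)) (h : ∀ k, c.pt.map (g k).op t₁ = c.pt.map (g k).op t₂) : t₁ = t₂ := by
  obtain ⟨j, s₁, s₂, rfl, rfl⟩ := js₂ G c hc (op X) t₁ t₂
  have h' : ∀ k, ∃ (jk : I) (f : j ⟶ jk), (G.map f).app _ ((G.obj j).map (g k).op s₁) =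
      (G.map f).app _ ((G.obj j).map (g k).op s₂) := by
    intro k
    have := h k
    rw [ι_nat, ι_nat] at this
    exact (eqiff G c hc _ _ _).1 this
  choose jk f hf using h'
  obtain ⟨j', w, v, hv⟩ := exists_wide' j jk f
  have key : (G.map w).app _ s₁ = (G.map w).app _ s₂ := by
    refine (hG j').ext ?_
    intro Y q hq
    cases hq with
    | mk k =>
      rw [G_nat, G_nat, ← hv k, G_comp, G_comp, hf k]
  rw [← ι_map G c w, ← ι_map G c w (op X) s₂, key]

include hc in
theorem isSheafFor_colimit {X : C} {n : ℕ} (V : Fin n → C) (g : ∀ k, V k ⟶ X)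
    (hG : ∀ i, (Presieve.ofArrows V g).IsSheafFor (G.obj i)) :
    (Presieve.ofArrows V g).IsSheafFor c.pt := by
  rw [Presieve.isSheafFor_arrows_iff_pullbacks]
  intro x hx
  -- choose representatives
  choose ik yk hyk using fun k => js G c hc (op (V k)) (x k)
  obtain ⟨i0, hi0⟩ := exists_above ik
  obtain ⟨y0, hy0⟩ : ∃ y0 : ∀ k, (G.obj i0).obj (op (V k)),
      ∀ k, (c.ι.app i0).app _ (y0 k) = x k :=
    ⟨fun k => (G.map (hi0 k).some).app _ (yk k), fun k => by
      rw [← hyk k]; exact ι_map G c (hi0 k).some _ (yk k)⟩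
  have h' : ∀ ab : Fin n × Fin n, ∃ (j : I) (f : i0 ⟶ j),
      (G.map f).app _ ((G.obj i0).map (pullback.fst (g ab.1) (g ab.2)).op (y0 ab.1)) =
      (G.map f).app _ ((G.obj i0).map (pullback.snd (g ab.1) (g ab.2)).op (y0 ab.2)) := by
    intro ab
    apply (eqiff G c hc _ _ _).1
    rw [← ι_nat, ← ι_nat, hy0, hy0]
    exact hx ab.1 ab.2
  choose jab fab hab using h'
  obtain ⟨i1, w, v, hv⟩ := exists_wide' i0 jab fab
  let z : ∀ k, (G.obj i1).obj (op (V k)) := fun k => (G.map w).app _ (y0 k)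
  have hz : Presieve.Arrows.PullbackCompatible (G.obj i1) g z := by
    intro a b
    show (G.obj i1).map (pullback.fst (g a) (g b)).op ((G.map w).app _ (y0 a)) =
      (G.obj i1).map (pullback.snd (g a) (g b)).op ((G.map w).app _ (y0 b))
    rw [G_nat, G_nat, ← hv (a, b), G_comp, G_comp]
    exact congrArg _ (hab (a, b))
  obtain ⟨t', ht', -⟩ := (Presieve.isSheafFor_arrows_iff_pullbacks _ _).1 (hG i1) z hz
  have hex : ∀ k, c.pt.map (g k).op ((c.ι.app i1).app _ t') = x k := by
    intro k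
    rw [ι_nat, ht' k, ← hy0 k]
    exact ι_map G c w _ (y0 k)
  refine ⟨(c.ι.app i1).app _ t', hex, ?_⟩
  intro t₁ ht₁
  refine isSeparatedFor_colimit G c hc V g (fun i => (hG i).isSeparatedFor) _ _ ?_
  intro k
  rw [ht₁ k, hex k]

end Main

section Sheaf

variable {C : Type u} [SmallCategory C] [HasPullbacks C] (J : GrothendieckTopology C)

lemma isSeparatedFor_of_le {X : C} (P : Cᵒᵖ ⥤ Type u) {R R' : Presieve X} (h : R ≤ R')
    (hR : Presieve.IsSeparatedFor P R) : Presieve.IsSeparatedFor P R' :=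
  fun x t₁ t₂ h₁ h₂ => hR (x.restrict h) t₁ t₂
    (Presieve.isAmalgamation_restrict h x t₁ h₁) (Presieve.isAmalgamation_restrict h x t₂ h₂)

variable {I : Type u} [SmallCategory I] [IsFiltered I]

theorem isSheaf_colimit (hJ : ∀ U : C, ToposFin.IsQCSite J U)
    (G : I ⥤ Cᵒᵖ ⥤ Type u) (hG : ∀ i, Presieve.IsSheaf J (G.obj i))
    (c : Cocone G) (hc : IsColimit c) : Presieve.IsSheaf J c.pt := by
  -- sheaf for finitely generated covering sieves
  have fin : ∀ (X : C) (n : ℕ) (V : Fin n → C) (g : ∀ k, V k ⟶ X), Sieve.ofArrows V g ∈ J X →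
      Presieve.IsSheafFor c.pt (Sieve.ofArrows V g : Presieve X) := by
    intro X n V g hg
    have : Presieve.IsSheafFor c.pt (Presieve.ofArrows V g) :=
      isSheafFor_colimit G c hc V g (fun i =>
        (Presieve.isSheafFor_iff_generate _).2 (hG i _ hg))
    exact (Presieve.isSheafFor_iff_generate _).1 this
  intro X S hS
  obtain ⟨n, V, g, hgS, hg⟩ := hJ X S hS
  have hle : (Sieve.ofArrows V g : Presieve X) ≤ (S : Presieve X) := by
    intro Y f hf
    obtain ⟨Z, a, b, hb, rfl⟩ := hf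
    cases hb with
    | mk k => exact S.downward_closed (hgS k) a
  refine Presieve.isSheafFor_subsieve_aux c.pt hle (fin X n V g hg) ?_
  intro Y f hf
  have hpb : (Sieve.ofArrows V g).pullback f ∈ J Y := J.pullback_stable f hg
  obtain ⟨n', V', g', hgS', hg'⟩ := hJ Y _ hpb
  have hle' : (Sieve.ofArrows V' g' : Presieve Y) ≤ ((Sieve.ofArrows V g).pullback f : Presieve Y) := by
    intro Z q hq
    obtain ⟨Z', a, b, hb, rfl⟩ := hq
    cases hb with
    | mk k => exact ((Sieve.ofArrows V g).pullback f).downward_closed (hgS' k) a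
  exact isSeparatedFor_of_le c.pt hle' (fin Y n' V' g' hg').isSeparatedFor

theorem preservesColimitsOfShape (hJ : ∀ U : C, ToposFin.IsQCSite J U) :
    PreservesColimitsOfShape I (sheafToPresheaf J (Type u)) := by
  constructor
  intro F
  haveI : CreatesColimit F (sheafToPresheaf J (Type u)) :=
    Sheaf.createsColimitOfIsSheaf F (fun c hc => by
      rw [isSheaf_iff_isSheaf_of_type]
      exact isSheaf_colimit J hJ (F ⋙ sheafToPresheaf J (Type u))
        (fun i => (isSheaf_iff_isSheaf_of_type _ _).1 (F.obj i).property) c hc)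
  infer_instance

end Sheaf

end Groth.Agent.Helper6.FiltShf
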