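import Mathlib

set_option backward.isDefEq.respectTransparency false
set_option backward.isDefEq.respectTransparency.types false
set_option autoImplicit false

/-!
# Ext out of a fixed object commutes with filtered colimits: the dimension-shifting engine
-/

universe u v

open CategoryTheory CategoryTheory.Limits Opposite Abelian

namespace Groth.Agent.Helper6.CF

section Emb

variable {𝒜 : Type v} [Category.{u} 𝒜] {Λ : Type u} [SmallCategory Λ] [HasProducts.{u} 𝒜]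

lemma π_congr (E : Λ → 𝒜) {μ l : Λ} {a a' : μ ⟶ l} (h : a = a') :
    Pi.π (fun p : (Σ l : Λ, (μ ⟶ l)) => E p.1) ⟨l, a⟩ =
      Pi.π (fun p : (Σ l : Λ, (μ ⟶ l)) => E p.1) ⟨l, a'⟩ := by
  subst h
  rfl

/-- `I(μ) = ∏_{λ, μ ⟶ λ} E λ` -/
noncomputable def Ifun (E : Λ → 𝒜) : Λ ⥤ 𝒜 where
  obj μ := ∏ᶜ (fun p : (Σ l : Λ, (μ ⟶ l)) => E p.1)
  map {μ μ'} b := Pi.lift (fun p' : (Σ l : Λ, (μ' ⟶ l)) =>
    Pi.π (fun p : (Σ l : Λ, (μ ⟶ l)) => E p.1) ⟨p'.1, b ≫ p'.2⟩)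
  map_id μ := by
    apply Pi.hom_ext
    rintro ⟨l, a⟩
    simp only [Pi.lift_π, Category.id_comp]
    exact π_congr E (Category.id_comp a)
  map_comp b b' := by
    apply Pi.hom_ext
    rintro ⟨l, a⟩
    simp only [Pi.lift_π, Category.assoc]
    exact π_congr E (Category.assoc b b' a)

variable (D : Λ ⥤ 𝒜) (E : Λ → 𝒜) (e : ∀ l, D.obj l ⟶ E l)

/-- the canonical map `D ⟶ Ifun E` induced by maps `D l ⟶ E l` -/
noncomputable def toIfun : D ⟶ Ifun E where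
  app μ := Pi.lift (fun p : (Σ l : Λ, (μ ⟶ l)) => D.map p.2 ≫ e p.1)
  naturality μ μ' b := by
    apply Pi.hom_ext
    rintro ⟨l, a⟩
    simp only [Ifun, Category.assoc, Pi.lift_π, Functor.map_comp]

lemma toIfun_app_π (μ : Λ) :
    (toIfun D E e).app μ ≫ Pi.π (fun p : (Σ l : Λ, (μ ⟶ l)) => E p.1) ⟨μ, 𝟙 μ⟩ = e μ := by
  simp [toIfun]

lemma mono_toIfun_app [∀ l, Mono (e l)] (μ : Λ) : Mono ((toIfun D E e).app μ) :=
  mono_of_mono_fac (toIfun_app_π D E e μ)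

end Emb

section ExtLemmas

variable {𝒜 : Type v} [Category.{u} 𝒜] [Abelian 𝒜] [HasExt.{u} 𝒜]

/-- pushforward on `Ext` -/
noncomputable def P (Z : 𝒜) {A B : 𝒜} (f : A ⟶ B) {q : ℕ} (x : Ext.{u} Z A q) : Ext.{u} Z B q :=
  x.comp (Ext.mk₀ f) (add_zero q)

lemma P_comp (Z : 𝒜) {A B B' : 𝒜} (f : A ⟶ B) (g : B ⟶ B') {q : ℕ} (x : Ext.{u} Z A q) :
    P Z g (P Z f x) = P Z (f ≫ g) x := by
  unfold P
  rw [Ext.comp_assoc_of_third_deg_zero, Ext.mk₀_comp_mk₀]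

lemma P_zero (Z : 𝒜) {A B : 𝒜} (f : A ⟶ B) {q : ℕ} : P Z f (0 : Ext.{u} Z A q) = 0 :=
  by unfold P; rw [Ext.zero_comp]

lemma P_sub (Z : 𝒜) {A B : 𝒜} (f : A ⟶ B) {q : ℕ} (x y : Ext.{u} Z A q) :
    P Z f (x - y) = P Z f x - P Z f y := by
  unfold P
  rw [sub_eq_add_neg, Ext.add_comp, Ext.neg_comp, ← sub_eq_add_neg]

lemma P_mk₀ (Z : 𝒜) {A B : 𝒜} (f : A ⟶ B) (y : Z ⟶ A) :
    P Z f (Ext.mk₀ y) = Ext.mk₀ (y ≫ f) := by
  unfold P
  rw [Ext.mk₀_comp_mk₀]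

/-- the connecting map -/
noncomputable def dl (Z : 𝒜) {S : ShortComplex 𝒜} (hS : S.ShortExact) {q : ℕ}
    (z : Ext.{u} Z S.X₃ q) : Ext.{u} Z S.X₁ (q + 1) :=
  z.comp hS.extClass rfl

lemma dl_nat (Z : 𝒜) {S S' : ShortComplex 𝒜} (hS : S.ShortExact) (hS' : S'.ShortExact)
    (φ : S ⟶ S') {q : ℕ} (z : Ext.{u} Z S.X₃ q) :
    P Z φ.τ₁ (dl Z hS z) = dl Z hS' (P Z φ.τ₃ z) := by
  unfold P dl
  rw [Ext.comp_assoc_of_third_deg_zero, ShortComplex.ShortExact.extClass_naturality hS hS' φ,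
    ← Ext.comp_assoc_of_second_deg_zero]

lemma dl_P_g (Z : 𝒜) {S : ShortComplex 𝒜} (hS : S.ShortExact) {q : ℕ} (w : Ext.{u} Z S.X₂ q) :
    dl Z hS (P Z S.g w) = 0 := by
  unfold P dl
  rw [Ext.comp_assoc_of_second_deg_zero, hS.comp_extClass, Ext.comp_zero]

lemma ex1 (Z : 𝒜) {S : ShortComplex 𝒜} (hS : S.ShortExact) {q : ℕ} (x : Ext.{u} Z S.X₁ (q + 1))
    (hx : P Z S.f x = 0) : ∃ z : Ext.{u} Z S.X₃ q, dl Z hS z = x :=
  Ext.covariant_sequence_exact₁ Z hS x hx rfl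

lemma ex3 (Z : 𝒜) {S : ShortComplex 𝒜} (hS : S.ShortExact) {q : ℕ} (z : Ext.{u} Z S.X₃ q)
    (hz : dl Z hS z = 0) : ∃ w : Ext.{u} Z S.X₂ q, P Z S.g w = z :=
  Ext.covariant_sequence_exact₃ Z hS z rfl hz

lemma P_add (Z : 𝒜) {A B : 𝒜} (f : A ⟶ B) {q : ℕ} (x y : Ext.{u} Z A q) :
    P Z f (x + y) = P Z f x + P Z f y := by
  unfold P
  rw [Ext.add_comp]

end ExtLemmas

section Engine

variable {𝒜 : Type v} [Category.{u} 𝒜] [Abelian 𝒜] [HasExt.{u} 𝒜]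
  {Λ : Type u} [SmallCategory Λ] [IsFiltered Λ] [HasColimitsOfShape Λ 𝒜]

/-- every class in `Ext^q(Z, colim D)` comes from a stage -/
def Surj (Z : 𝒜) (q : ℕ) (D : Λ ⥤ 𝒜) : Prop :=
  ∀ x : Ext.{u} Z (colimit D) q, ∃ (l : Λ) (y : Ext.{u} Z (D.obj l) q), P Z (colimit.ι D l) y = x

/-- a class at a stage dying in `Ext^q(Z, colim D)` dies at a later stage -/
def Inj (Z : 𝒜) (q : ℕ) (D : Λ ⥤ 𝒜) : Prop :=
  ∀ (l : Λ) (y : Ext.{u} Z (D.obj l) q), P Z (colimit.ι D l) y = 0 →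
    ∃ (m : Λ) (a : l ⟶ m), P Z (D.map a) y = 0

lemma base (Z : 𝒜) (D : Λ ⥤ 𝒜)
    (hs : ∀ x : Z ⟶ colimit D, ∃ (l : Λ) (y : Z ⟶ D.obj l), y ≫ colimit.ι D l = x)
    (hi : ∀ (l : Λ) (y : Z ⟶ D.obj l), y ≫ colimit.ι D l = 0 →
      ∃ (m : Λ) (a : l ⟶ m), y ≫ D.map a = 0) : Surj Z 0 D ∧ Inj Z 0 D := by
  constructor
  · intro x
    obtain ⟨f, rfl⟩ := (Ext.mk₀_bijective Z (colimit D)).2 x
    obtain ⟨l, y, hy⟩ := hs f
    exact ⟨l, Ext.mk₀ y, by rw [P_mk₀, hy]⟩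
  · intro l y hy
    obtain ⟨f, rfl⟩ := (Ext.mk₀_bijective Z (D.obj l)).2 y
    rw [P_mk₀] at hy
    have h0 : f ≫ colimit.ι D l = 0 := (Ext.mk₀_bijective _ _).1 (hy.trans (Ext.mk₀_zero _ _).symm)
    obtain ⟨m, a, ha⟩ := hi l f h0
    exact ⟨m, a, by rw [P_mk₀, ha, Ext.mk₀_zero]⟩

variable [HasExactColimitsOfShape Λ 𝒜] [EnoughInjectives 𝒜] [HasProducts.{u} 𝒜]

/-- the diagram of injectives -/
noncomputable def II (D : Λ ⥤ 𝒜) : Λ ⥤ 𝒜 := Ifun (fun l => Injective.under (D.obj l))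

/-- the embedding -/
noncomputable def αα (D : Λ ⥤ 𝒜) : D ⟶ II D := toIfun D _ (fun l => Injective.ι (D.obj l))

instance (D : Λ ⥤ 𝒜) (l : Λ) : Mono ((αα D).app l) :=
  mono_toIfun_app D _ (fun l => Injective.ι (D.obj l)) l

instance (D : Λ ⥤ 𝒜) : Mono (αα D) := NatTrans.mono_of_mono_app _

instance (D : Λ ⥤ 𝒜) (l : Λ) : Injective ((II D).obj l) := by
  dsimp [II, Ifun]; infer_instance

/-- `0 → D → I → Q → 0` -/
noncomputable def SS (D : Λ ⥤ 𝒜) : ShortComplex (Λ ⥤ 𝒜) :=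
  ShortComplex.mk (αα D) (cokernel.π (αα D)) (cokernel.condition _)

lemma hSS (D : Λ ⥤ 𝒜) : (SS D).ShortExact :=
  ShortComplex.ShortExact.mk' (ShortComplex.exact_cokernel (αα D))
    (inferInstanceAs (Mono (αα D))) (inferInstanceAs (Epi (cokernel.π (αα D))))

noncomputable def SSl (D : Λ ⥤ 𝒜) (l : Λ) : ShortComplex 𝒜 :=
  (SS D).map ((evaluation Λ 𝒜).obj l)

instance (l : Λ) : PreservesFiniteLimits ((evaluation Λ 𝒜).obj l) := ⟨fun _ _ _ => inferInstance⟩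

instance (l : Λ) : PreservesFiniteColimits ((evaluation Λ 𝒜).obj l) :=
  ⟨fun _ _ _ => inferInstance⟩

lemma hSSl (D : Λ ⥤ 𝒜) (l : Λ) : (SSl D l).ShortExact := (hSS D).map_of_exact _

noncomputable def SSc (D : Λ ⥤ 𝒜) : ShortComplex 𝒜 := (SS D).map colim

lemma hSSc (D : Λ ⥤ 𝒜) : (SSc D).ShortExact := (hSS D).map_of_exact colim

instance (D : Λ ⥤ 𝒜) (l : Λ) : Injective (SSl D l).X₂ := inferInstanceAs (Injective ((II D).obj l))

noncomputable def φc (D : Λ ⥤ 𝒜) (l : Λ) : SSl D l ⟶ SSc D :=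
  ShortComplex.homMk (colimit.ι D l) (colimit.ι (II D) l) (colimit.ι (cokernel (αα D)) l)
    (ι_colimMap (αα D) l) (ι_colimMap (cokernel.π (αα D)) l)

noncomputable def ψc (D : Λ ⥤ 𝒜) {l m : Λ} (a : l ⟶ m) : SSl D l ⟶ SSl D m :=
  ShortComplex.homMk (D.map a) ((II D).map a) ((cokernel (αα D)).map a)
    ((αα D).naturality a) ((cokernel.π (αα D)).naturality a)

theorem step (Z : 𝒜) (q : ℕ) (h : ∀ D : Λ ⥤ 𝒜, Surj Z q D ∧ Inj Z q D)
    (hv : ∀ I : Λ ⥤ 𝒜, (∀ l, Injective (I.obj l)) → ∀ x : Ext.{u} Z (colimit I) (q + 1), x = 0)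
    (D : Λ ⥤ 𝒜) : Surj Z (q + 1) D ∧ Inj Z (q + 1) D := by
  constructor
  · intro x
    have hx : P Z (SSc D).f x = 0 := hv (II D) (fun l => inferInstance) _
    obtain ⟨z, hz⟩ := ex1 Z (hSSc D) x hx
    obtain ⟨l, zl, hzl⟩ := (h (cokernel (αα D))).1 z
    refine ⟨l, dl Z (hSSl D l) zl, ?_⟩
    have h1 := dl_nat Z (hSSl D l) (hSSc D) (φc D l) zl
    exact h1.trans ((congrArg (dl Z (hSSc D)) hzl).trans hz)
  · intro l y hy
    have hy1 : P Z (SSl D l).f y = 0 := Ext.eq_zero_of_injective _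
    obtain ⟨z, hz⟩ := ex1 Z (hSSl D l) y hy1
    have h1 : dl Z (hSSc D) (P Z (φc D l).τ₃ z) = 0 := by
      rw [← dl_nat Z (hSSl D l) (hSSc D) (φc D l) z, hz]
      exact hy
    obtain ⟨w, hw⟩ := ex3 Z (hSSc D) _ h1
    obtain ⟨n, wn, hwn⟩ := (h (II D)).1 w
    obtain ⟨m, a, b, -⟩ : ∃ (m : Λ) (_ : l ⟶ m) (_ : n ⟶ m), True :=
      ⟨IsFiltered.max l n, IsFiltered.leftToMax l n, IsFiltered.rightToMax l n, trivial⟩
    obtain ⟨B, hB⟩ : ∃ B : Ext.{u} Z ((cokernel (αα D)).obj m) q,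
        B = P Z (SSl D m).g (P Z ((II D).map b) wn) := ⟨_, rfl⟩
    obtain ⟨t, ht_def⟩ : ∃ t : Ext.{u} Z ((cokernel (αα D)).obj m) q,
        t = P Z ((cokernel (αα D)).map a) z - B := ⟨_, rfl⟩
    have e1 : (cokernel (αα D)).map a ≫ colimit.ι (cokernel (αα D)) m = colimit.ι _ l :=
      colimit.w _ a
    have e2 : (II D).map b ≫ (SSl D m).g ≫ colimit.ι (cokernel (αα D)) m =
        colimit.ι (II D) n ≫ (SSc D).g := by
      show (II D).map b ≫ (cokernel.π (αα D)).app m ≫ colimit.ι _ m =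
        colimit.ι (II D) n ≫ colimMap (cokernel.π (αα D))
      rw [ι_colimMap, ← Category.assoc, (cokernel.π (αα D)).naturality b, Category.assoc,
        colimit.w]
    have ht : P Z (colimit.ι (cokernel (αα D)) m) t = 0 := by
      rw [ht_def, hB, P_sub, P_comp, P_comp, P_comp, e1, e2, ← P_comp, hwn, hw]
      exact sub_self _
    obtain ⟨m', a', ha'⟩ := (h (cokernel (αα D))).2 m t ht
    refine ⟨m', a ≫ a', ?_⟩
    have hA : P Z ((cokernel (αα D)).map a') (P Z ((cokernel (αα D)).map a) z) =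
        P Z ((cokernel (αα D)).map a') B := by
      have h5 := ha'
      rw [ht_def, P_sub, sub_eq_zero] at h5
      exact h5
    have e3 : (II D).map b ≫ (SSl D m).g ≫ (cokernel (αα D)).map a' =
        ((II D).map b ≫ (II D).map a') ≫ (SSl D m').g := by
      show (II D).map b ≫ (cokernel.π (αα D)).app m ≫ (cokernel (αα D)).map a' =
        ((II D).map b ≫ (II D).map a') ≫ (cokernel.π (αα D)).app m'
      rw [Category.assoc, (cokernel.π (αα D)).naturality a']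
    have s1 : P Z ((cokernel (αα D)).map a') (P Z (SSl D m).g (P Z ((II D).map b) wn)) =
        P Z ((SSl D m).g ≫ (cokernel (αα D)).map a') (P Z ((II D).map b) wn) := P_comp Z _ _ _
    have s2 : P Z ((SSl D m).g ≫ (cokernel (αα D)).map a') (P Z ((II D).map b) wn) =
        P Z ((II D).map b ≫ (SSl D m).g ≫ (cokernel (αα D)).map a') wn := P_comp Z _ _ _
    have s3 : P Z ((II D).map b ≫ (SSl D m).g ≫ (cokernel (αα D)).map a') wn =
        P Z (((II D).map b ≫ (II D).map a') ≫ (SSl D m').g) wn :=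
      congrArg (fun k : (II D).obj n ⟶ (cokernel (αα D)).obj m' => P Z k wn) e3
    have s4 : P Z (SSl D m').g (P Z ((II D).map b ≫ (II D).map a') wn) =
        P Z (((II D).map b ≫ (II D).map a') ≫ (SSl D m').g) wn := P_comp Z _ _ _
    have hB' : P Z ((cokernel (αα D)).map a') B =
        P Z (SSl D m').g (P Z ((II D).map b ≫ (II D).map a') wn) := by
      rw [hB]
      exact s1.trans (s2.trans (s3.trans s4.symm))
    have h2 := dl_nat Z (hSSl D l) (hSSl D m') (ψc D (a ≫ a')) z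
    rw [hz] at h2
    refine h2.trans ?_
    have e4 : (ψc D (a ≫ a')).τ₃ = (cokernel (αα D)).map a ≫ (cokernel (αα D)).map a' :=
      (cokernel (αα D)).map_comp a a'
    have s5 : P Z (ψc D (a ≫ a')).τ₃ z =
        P Z ((cokernel (αα D)).map a ≫ (cokernel (αα D)).map a') z :=
      congrArg (fun k : (cokernel (αα D)).obj l ⟶ (cokernel (αα D)).obj m' => P Z k z) e4
    have s6 : P Z ((cokernel (αα D)).map a') (P Z ((cokernel (αα D)).map a) z) =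
        P Z ((cokernel (αα D)).map a ≫ (cokernel (αα D)).map a') z := P_comp Z _ _ _
    have h3 : P Z (ψc D (a ≫ a')).τ₃ z =
        P Z (SSl D m').g (P Z ((II D).map b ≫ (II D).map a') wn) :=
      s5.trans (s6.symm.trans (hA.trans hB'))
    exact (congrArg (dl Z (hSSl D m')) h3).trans (dl_P_g Z (hSSl D m') _)

theorem all (Z : 𝒜) (h0 : ∀ D : Λ ⥤ 𝒜, Surj Z 0 D ∧ Inj Z 0 D)
    (hv : ∀ (q : ℕ) (I : Λ ⥤ 𝒜), (∀ l, Injective (I.obj l)) →
      ∀ x : Ext.{u} Z (colimit I) (q + 1), x = 0) :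
    ∀ (q : ℕ) (D : Λ ⥤ 𝒜), Surj Z q D ∧ Inj Z q D
  | 0 => h0
  | q + 1 => step Z q (all Z h0 hv q) (hv q)

omit [HasExactColimitsOfShape Λ 𝒜] [EnoughInjectives 𝒜] [HasProducts.{u} 𝒜] in
theorem preserves (Z : 𝒜) (q : ℕ) (hall : ∀ D : Λ ⥤ 𝒜, Surj Z q D ∧ Inj Z q D) :
    PreservesColimitsOfShape Λ ((extFunctor.{u} q).obj (op Z)) := by
  haveI : PreservesColimitsOfShape Λ (forget AddCommGrpCat.{u}) :=
    PreservesFilteredColimitsOfSize.preserves_filtered_colimits Λ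
  haveI : ReflectsColimitsOfShape Λ (forget AddCommGrpCat.{u}) :=
    reflectsColimitsOfShape_of_reflectsIsomorphisms
  constructor
  intro D
  refine preservesColimit_of_preserves_colimit_cocone (colimit.isColimit D) ?_
  refine isColimitOfReflects (forget AddCommGrpCat.{u}) ?_
  refine Types.FilteredColimit.isColimitOf _ _ ?_ ?_
  · intro x
    obtain ⟨l, y, hy⟩ := (hall D).1 x
    exact ⟨l, y, hy.symm⟩
  · intro i j xi xj hij
    have hij' : P Z (colimit.ι D i) xi = P Z (colimit.ι D j) xj := hij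
    obtain ⟨k₀, l, r, -⟩ : ∃ (k₀ : Λ) (_ : i ⟶ k₀) (_ : j ⟶ k₀), True :=
      ⟨IsFiltered.max i j, IsFiltered.leftToMax i j, IsFiltered.rightToMax i j, trivial⟩
    have h0 : P Z (colimit.ι D k₀) (P Z (D.map l) xi - P Z (D.map r) xj) = 0 := by
      rw [P_sub, P_comp, P_comp, colimit.w, colimit.w, hij']
      exact sub_self _
    obtain ⟨k, a, ha⟩ := (hall D).2 k₀ _ h0
    rw [P_sub, sub_eq_zero, P_comp, P_comp] at ha
    exact ⟨k, l ≫ a, r ≫ a, by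
      have e1 : D.map (l ≫ a) = D.map l ≫ D.map a := D.map_comp l a
      have e2 : D.map (r ≫ a) = D.map r ≫ D.map a := D.map_comp r a
      show P Z (D.map (l ≫ a)) xi = P Z (D.map (r ≫ a)) xj
      rw [e1, e2]
      exact ha⟩

end Engine

end Groth.Agent.Helper6.CF
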