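import Mathlib

/-!
# Helper6: (infinite) coproducts in categories of sheaves of sets are van Kampen;
a coproduct of squares is a pullback iff each summand is; functors preserving pullback squares
-/

set_option autoImplicit false
universe u
open CategoryTheory CategoryTheory.Limits

namespace Groth.Agent.Helper6.VKSh

/-- colimit cocones over discrete diagrams of types are van Kampen -/
theorem isVanKampenColimit_type {I : Type u} (F : Discrete I ⥤ Type u) (c : Cocone F)
    (hc : IsColimit c) : IsVanKampenColimit c := by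
  let X : I → Type u := fun i => F.obj ⟨i⟩
  have hF : F = Discrete.functor X :=
    Functor.hext (fun i => rfl) (by rintro ⟨i⟩ ⟨j⟩ ⟨⟨rfl : i = j⟩⟩; simp [X])
  clear_value X
  subst hF
  intro F' c' α f hcomm _
  let X' : I → Type u := fun i => F'.obj ⟨i⟩
  have hF' : F' = Discrete.functor X' :=
    Functor.hext (fun i => rfl) (by rintro ⟨i⟩ ⟨j⟩ ⟨⟨rfl : i = j⟩⟩; simp [X'])
  clear_value X'
  subst hF'
  have hα : ∀ (i : I) (z : X' i), f (Cofan.inj c' i z) = Cofan.inj c i (α.app ⟨i⟩ z) := by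
    intro i z
    have h1 : α.app ⟨i⟩ ≫ c.ι.app ⟨i⟩ = c'.ι.app ⟨i⟩ ≫ f :=
      congrArg (fun t => t.app ⟨i⟩) hcomm
    exact (ConcreteCategory.congr_hom h1 z).symm
  have c_surj := fun x => Cofan.inj_jointly_surjective_of_isColimit (c := c) hc x
  have c_inj := fun i => Cofan.inj_injective_of_isColimit (c := c) hc i
  have c_disj : ∀ {i₁ i₂ : I} (y₁ : X i₁) (y₂ : X i₂), Cofan.inj c i₁ y₁ = Cofan.inj c i₂ y₂ →
      i₁ = i₂ :=
    fun y₁ y₂ h => Cofan.eq_of_inj_apply_eq_of_isColimit (c := c) hc y₁ y₂ h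
  constructor
  · rintro ⟨hc'⟩ ⟨j⟩
    rw [Types.isPullback_iff]
    refine ⟨?_, ?_, ?_⟩
    · exact (congrArg (fun t => t.app ⟨j⟩) hcomm).symm
    · rintro z z' ⟨h1, -⟩
      exact Cofan.inj_injective_of_isColimit (c := c') hc' j h1
    · intro x' y hxy
      obtain ⟨i, z, rfl⟩ := Cofan.inj_jointly_surjective_of_isColimit (c := c') hc' x'
      have h2 : Cofan.inj c i (α.app ⟨i⟩ z) = Cofan.inj c j y := (hα i z).symm.trans hxy
      obtain rfl := c_disj _ _ h2
      exact ⟨z, rfl, c_inj _ h2⟩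
  · intro h
    rw [← Cofan.isColimit_cofanTypes_iff]
    apply CofanTypes.isColimit_mk
    · intro x'
      obtain ⟨j, y, hy⟩ := c_surj (f x')
      obtain ⟨z, hz, -⟩ := Types.exists_of_isPullback (h ⟨j⟩) x' y hy.symm
      exact ⟨j, z, hz⟩
    · intro i z z' hzz
      apply Types.ext_of_isPullback (h ⟨i⟩) hzz
      apply c_inj i
      have e1 := hα i z
      have e2 := hα i z'
      exact e1.symm.trans ((congrArg f hzz).trans e2)
    · intro i j z z' hzz
      have e1 := hα i z
      have e2 := hα j z'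
      exact c_disj _ _ (e1.symm.trans ((congrArg f hzz).trans e2))

/-- colimit cocones over discrete diagrams of presheaves of types are van Kampen -/
theorem isVanKampenColimit_presheaf {C : Type u} [SmallCategory C] {I : Type u}
    (F : Discrete I ⥤ (Cᵒᵖ ⥤ Type u)) (c : Cocone F) (hc : IsColimit c) :
    IsVanKampenColimit c :=
  isVanKampenColimit_of_evaluation F c (fun x =>
    isVanKampenColimit_type _ _ (isColimitOfPreserves ((evaluation Cᵒᵖ (Type u)).obj x) hc))

/-- colimit cocones over discrete diagrams of sheaves of types are van Kampen -/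
theorem isVanKampenColimit_sheaf {C : Type u} [SmallCategory C] (J : GrothendieckTopology C)
    {I : Type u} (F : Discrete I ⥤ Sheaf J (Type u)) (c : Cocone F) (hc : IsColimit c) :
    IsVanKampenColimit c := by
  let adj := sheafificationAdjunction J (Type u)
  apply (IsVanKampenColimit.precompose_isIso_iff
    (Functor.isoWhiskerLeft _ (asIso adj.counit) ≪≫ Functor.rightUnitor _).hom).mp
  have hpsh : IsVanKampenColimit (colimit.cocone (F ⋙ sheafToPresheaf J (Type u))) :=
    isVanKampenColimit_presheaf _ _ (colimit.isColimit _)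
  refine (hpsh.map_reflective adj).of_iso (IsColimit.uniqueUpToIso ?_ ?_)
  · exact isColimitOfPreserves _ (colimit.isColimit _)
  · exact (IsColimit.precomposeHomEquiv _ _).symm hc

section Squares

variable {𝓔 : Type*} [Category 𝓔] {I : Type*}

/-- the forward direction of the van Kampen property for cofans -/
theorem isPullback_inj {A B : I → 𝓔} {cA : Cofan A} {cB : Cofan B}
    (hB : IsVanKampenColimit cB) (hA : IsColimit cA)
    (g' : ∀ i, A i ⟶ B i) (g : cA.pt ⟶ cB.pt) (hg : ∀ i, cA.inj i ≫ g = g' i ≫ cB.inj i) (i : I) :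
    IsPullback (cA.inj i) (g' i) g (cB.inj i) :=
  (hB cA (Discrete.natTrans (fun i => g' i.as)) g
    (by ext ⟨i⟩; exact (hg i).symm) (NatTrans.Equifibered.of_discrete _)).mp ⟨hA⟩ ⟨i⟩

/-- the backward direction of the van Kampen property for cofans -/
theorem isColimit_of_isPullback_inj {A B : I → 𝓔} {cA : Cofan A} {cB : Cofan B}
    (hB : IsVanKampenColimit cB)
    (g' : ∀ i, A i ⟶ B i) (g : cA.pt ⟶ cB.pt) (hg : ∀ i, cA.inj i ≫ g = g' i ≫ cB.inj i)
    (h : ∀ i, IsPullback (cA.inj i) (g' i) g (cB.inj i)) : Nonempty (IsColimit cA) :=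
  (hB cA (Discrete.natTrans (fun i => g' i.as)) g
    (by ext ⟨i⟩; exact (hg i).symm) (NatTrans.Equifibered.of_discrete _)).mpr (fun ⟨i⟩ => h i)

variable {W X Y Z : I → 𝓔} {cW : Cofan W} {cX : Cofan X} {cY : Cofan Y} {cZ : Cofan Z}
  (p' : ∀ i, W i ⟶ X i) (q' : ∀ i, W i ⟶ Y i) (x' : ∀ i, X i ⟶ Z i) (y' : ∀ i, Y i ⟶ Z i)
  (p : cW.pt ⟶ cX.pt) (q : cW.pt ⟶ cY.pt) (x : cX.pt ⟶ cZ.pt) (y : cY.pt ⟶ cZ.pt)
  (hp : ∀ i, cW.inj i ≫ p = p' i ≫ cX.inj i) (hq : ∀ i, cW.inj i ≫ q = q' i ≫ cY.inj i)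
  (hx : ∀ i, cX.inj i ≫ x = x' i ≫ cZ.inj i) (hy : ∀ i, cY.inj i ≫ y = y' i ≫ cZ.inj i)
  (hVX : IsVanKampenColimit cX) (hVZ : IsVanKampenColimit cZ)
  (hcW : IsColimit cW) (hcY : IsColimit cY)

include hp hq hx hy hVX hVZ hcW hcY

/-- a summand of a pullback square of coproducts is a pullback square -/
theorem isPullback_summand (comm' : ∀ i, p' i ≫ x' i = q' i ≫ y' i)
    (sq : IsPullback p q x y) (i : I) : IsPullback (p' i) (q' i) (x' i) (y' i) := by
  have hW := isPullback_inj hVX hcW p' p hp i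
  have hY := isPullback_inj hVZ hcY y' y hy i
  have h1 : IsPullback (cW.inj i ≫ q) (p' i) y (cX.inj i ≫ x) := hW.paste_horiz sq.flip
  have h2 : IsPullback (q' i ≫ cY.inj i) (p' i) y (x' i ≫ cZ.inj i) := by
    rw [← hq, ← hx]; exact h1
  exact (IsPullback.of_right h2 (comm' i).symm hY).flip

/-- a coproduct of pullback squares is a pullback square -/
theorem isPullback_of_summands [HasPullbacks 𝓔] (hsq : p ≫ x = q ≫ y)
    (sq' : ∀ i, IsPullback (p' i) (q' i) (x' i) (y' i)) : IsPullback p q x y := by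
  have hY := fun i => isPullback_inj hVZ hcY y' y hy i
  have hw : ∀ i, (p' i ≫ cX.inj i) ≫ x = (q' i ≫ cY.inj i) ≫ y := by
    intro i
    rw [Category.assoc, hx, ← Category.assoc, (sq' i).w, Category.assoc, Category.assoc, hy]
  let ℓ : ∀ i, W i ⟶ pullback x y := fun i =>
    pullback.lift (p' i ≫ cX.inj i) (q' i ≫ cY.inj i) (hw i)
  have hℓ1 : ∀ i, ℓ i ≫ pullback.fst x y = p' i ≫ cX.inj i := fun i => pullback.lift_fst _ _ _
  have hℓ2 : ∀ i, ℓ i ≫ pullback.snd x y = q' i ≫ cY.inj i := fun i => pullback.lift_snd _ _ _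
  have hℓ : ∀ i, IsPullback (ℓ i) (p' i) (pullback.fst x y) (cX.inj i) := by
    intro i
    have h2 : IsPullback (q' i ≫ cY.inj i) (p' i) y (x' i ≫ cZ.inj i) :=
      (sq' i).flip.paste_horiz (hY i)
    have h3 : IsPullback (ℓ i ≫ pullback.snd x y) (p' i) y (cX.inj i ≫ x) := by
      rw [hx, hℓ2]; exact h2
    exact IsPullback.of_right h3 (hℓ1 i) (IsPullback.of_hasPullback x y).flip
  obtain ⟨hcP⟩ := isColimit_of_isPullback_inj (cA := Cofan.mk (pullback x y) ℓ) hVX p'
    (pullback.fst x y) hℓ1 hℓ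
  let κ : cW.pt ⟶ pullback x y := pullback.lift p q hsq
  have hκ : ∀ i, cW.inj i ≫ κ = ℓ i := by
    intro i
    apply pullback.hom_ext
    · rw [Category.assoc, pullback.lift_fst, hℓ1, hp]
    · rw [Category.assoc, pullback.lift_snd, hℓ2, hq]
  have hiso : IsIso κ := by
    have e : κ = (hcW.coconePointUniqueUpToIso hcP).hom := by
      apply Cofan.IsColimit.hom_ext hcW
      intro i
      rw [hκ]
      exact (IsColimit.comp_coconePointUniqueUpToIso_hom hcW hcP ⟨i⟩).symm
    rw [e]; infer_instance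
  exact IsPullback.of_iso_pullback ⟨hsq⟩ (asIso κ) (pullback.lift_fst _ _ _)
    (pullback.lift_snd _ _ _)

end Squares

section Functors

/-- the functor sends pullback squares to pullback squares -/
def PresPB {A B : Type*} [Category A] [Category B] (H : A ⥤ B) : Prop :=
  ∀ ⦃P X Y Z : A⦄ ⦃fst : P ⟶ X⦄ ⦃snd : P ⟶ Y⦄ ⦃f : X ⟶ Z⦄ ⦃g : Y ⟶ Z⦄,
    IsPullback fst snd f g → IsPullback (H.map fst) (H.map snd) (H.map f) (H.map g)

theorem presPB_of_preserves {A B : Type*} [Category A] [Category B] (H : A ⥤ B)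
    [PreservesLimitsOfShape WalkingCospan H] : PresPB H :=
  fun _ _ _ _ _ _ _ _ sq => sq.map H

theorem PresPB.preserves {A B : Type*} [Category A] [Category B] {H : A ⥤ B} (h : PresPB H) :
    PreservesLimitsOfShape WalkingCospan H :=
  preservesLimitsOfShape_walkingCospan_of_forall_isPullback (fun _ _ _ f g _ =>
    ⟨pullback f g, pullback.fst f g, pullback.snd f g, IsPullback.of_hasPullback f g,
      h (IsPullback.of_hasPullback f g)⟩)

theorem PresPB.comp {A B C : Type*} [Category A] [Category B] [Category C] {H : A ⥤ B}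
    {H' : B ⥤ C} (h : PresPB H) (h' : PresPB H') : PresPB (H ⋙ H') :=
  fun _ _ _ _ _ _ _ _ sq => h' (h sq)

theorem PresPB.of_iso {A B : Type*} [Category A] [Category B] {H H' : A ⥤ B} (h : PresPB H)
    (e : H ≅ H') : PresPB H' := by
  intro P X Y Z fst snd f g sq
  exact (h sq).of_iso (e.app P) (e.app X) (e.app Y) (e.app Z)
    (e.hom.naturality fst) (e.hom.naturality snd) (e.hom.naturality f) (e.hom.naturality g)

variable {A : Type*} [Category A] {𝓔 : Type*} [Category 𝓔] [HasPullbacks 𝓔] {I : Type*}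
  (L : A ⥤ 𝓔) (Φ : I → (A ⥤ 𝓔)) (inj : ∀ f, Φ f ⟶ L)
  (hcol : ∀ a, IsColimit (Cofan.mk (L.obj a) (fun f => (inj f).app a)))
  (hVK : ∀ a, IsVanKampenColimit (Cofan.mk (L.obj a) (fun f => (inj f).app a)))

include hcol hVK

theorem presPB_of_summands (h : ∀ f, PresPB (Φ f)) : PresPB L := by
  intro P X Y Z fst snd f g sq
  exact isPullback_of_summands
    (cW := Cofan.mk (L.obj P) (fun i => (inj i).app P))
    (cX := Cofan.mk (L.obj X) (fun i => (inj i).app X))
    (cY := Cofan.mk (L.obj Y) (fun i => (inj i).app Y))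
    (cZ := Cofan.mk (L.obj Z) (fun i => (inj i).app Z))
    (fun i => (Φ i).map fst) (fun i => (Φ i).map snd) (fun i => (Φ i).map f)
    (fun i => (Φ i).map g) (L.map fst) (L.map snd) (L.map f) (L.map g)
    (fun i => ((inj i).naturality fst).symm) (fun i => ((inj i).naturality snd).symm)
    (fun i => ((inj i).naturality f).symm) (fun i => ((inj i).naturality g).symm)
    (hVK X) (hVK Z) (hcol P) (hcol Y)
    (by rw [← L.map_comp, sq.w, L.map_comp]) (fun i => h i sq)

theorem presPB_summand (h : PresPB L) (i : I) : PresPB (Φ i) := by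
  intro P X Y Z fst snd f g sq
  exact isPullback_summand
    (cW := Cofan.mk (L.obj P) (fun i => (inj i).app P))
    (cX := Cofan.mk (L.obj X) (fun i => (inj i).app X))
    (cY := Cofan.mk (L.obj Y) (fun i => (inj i).app Y))
    (cZ := Cofan.mk (L.obj Z) (fun i => (inj i).app Z))
    (fun i => (Φ i).map fst) (fun i => (Φ i).map snd) (fun i => (Φ i).map f)
    (fun i => (Φ i).map g) (L.map fst) (L.map snd) (L.map f) (L.map g)
    (fun i => ((inj i).naturality fst).symm) (fun i => ((inj i).naturality snd).symm)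
    (fun i => ((inj i).naturality f).symm) (fun i => ((inj i).naturality g).symm)
    (hVK X) (hVK Z) (hcol P) (hcol Y)
    (fun i => by rw [← (Φ i).map_comp, sq.w, (Φ i).map_comp]) (h sq) i

end Functors

end Groth.Agent.Helper6.VKSh
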