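import Mathlib
import Groth.Prelude.Def_SGA4a
import Groth.Agent.Helper6.VKSh

/-!
# Helper6: Giraud's exactness axioms for the category of sheaves of sets on a small site
-/

set_option autoImplicit false
universe u
open CategoryTheory CategoryTheory.Limits Opposite

namespace Groth.Agent.Helper6.GiraudSh

variable {C : Type u} [SmallCategory C] (J : GrothendieckTopology C)

instance instWS : HasWeakSheafify J (Type u) := inferInstance

instance (priority := high) instCoprodSh (ι : Type u) :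
    HasColimitsOfShape (Discrete ι) (Sheaf J (Type u)) :=
  Sheaf.instHasColimitsOfShape

instance (priority := high) instInitSh : HasInitial (Sheaf J (Type u)) :=
  haveI : HasColimitsOfShape (Discrete PEmpty.{1}) (Type u) := inferInstance
  Sheaf.instHasColimitsOfShape

theorem coproductDisjoint {ι : Type u} (X : ι → Sheaf J (Type u)) : CoproductDisjoint X where
  nonempty_isInitial_of_ne {c} hc {i j} hij s hs := by
    have hvk := VKSh.isVanKampenColimit_sheaf J _ c hc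
    have hp := isPullback_initial_to_of_cofan_isVanKampen hvk ⟨i⟩ ⟨j⟩
      (fun h => hij (congrArg Discrete.as h))
    have e : s.pt ≅ ⊥_ _ := (IsPullback.of_isLimit hs).isoIsPullback _ _ hp
    exact ⟨initialIsInitial.ofIso e.symm⟩
  mono_inj {c} hc i :=
    mono_of_cofan_isVanKampen (VKSh.isVanKampenColimit_sheaf J _ c hc) ⟨i⟩

theorem hasDisjointUniversalCoproducts :
    SGA4.HasDisjointUniversalCoproducts.{u + 1, u} (Sheaf J (Type u)) := by
  intro ι X
  refine ⟨Cofan.mk (∐ X) (Sigma.ι X), coproductIsCoproduct X, coproductDisjoint J X, ?_⟩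
  exact (VKSh.isVanKampenColimit_sheaf J _ _ (coproductIsCoproduct X)).isUniversal

variable {J}

/-- sections over `U` as morphisms from the sheafified representable -/
noncomputable def elEquiv (A : Sheaf J (Type u)) (U : C) :
    ((presheafToSheaf J (Type u)).obj (yoneda.obj U) ⟶ A) ≃ A.obj.obj (op U) :=
  ((sheafificationAdjunction J (Type u)).homEquiv (yoneda.obj U) A).trans yonedaEquiv

theorem elEquiv_comp {A B : Sheaf J (Type u)} (U : C)
    (f : (presheafToSheaf J (Type u)).obj (yoneda.obj U) ⟶ A) (g : A ⟶ B) :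
    elEquiv B U (f ≫ g) = g.hom.app (op U) (elEquiv A U f) := by
  unfold elEquiv
  simp only [Equiv.trans_apply]
  rw [Adjunction.homEquiv_naturality_right]
  exact yonedaEquiv_comp _ _

section EquivRel
variable {R A : Sheaf J (Type u)} (p₁ p₂ : R ⟶ A)

/-- the relation on sections -/
def rel (U : Cᵒᵖ) (x y : A.obj.obj U) : Prop :=
  ∃ s : R.obj.obj U, p₁.hom.app U s = x ∧ p₂.hom.app U s = y

theorem rel_map {U V : Cᵒᵖ} (f : U ⟶ V) {x y : A.obj.obj U} (hxy : rel p₁ p₂ U x y) :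
    rel p₁ p₂ V (A.obj.map f x) (A.obj.map f y) := by
  obtain ⟨s, h1, h2⟩ := hxy
  refine ⟨R.obj.map f s, ?_, ?_⟩
  · rw [← h1]; exact NatTrans.naturality_apply p₁.hom f s
  · rw [← h2]; exact NatTrans.naturality_apply p₂.hom f s

/-- the presheaf quotient -/
def Q₀ : Cᵒᵖ ⥤ Type u where
  obj U := Quot (rel p₁ p₂ U)
  map {U V} f := TypeCat.ofHom (Quot.map (A.obj.map f) (fun _ _ h => rel_map p₁ p₂ f h))
  map_id U := by
    ext x
    induction x using Quot.ind with | _ a => ?_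
    change Quot.mk _ (A.obj.map (𝟙 U) a) = Quot.mk _ a
    rw [FunctorToTypes.map_id_apply]
  map_comp {U V W} f g := by
    ext x
    induction x using Quot.ind with | _ a => ?_
    change Quot.mk _ (A.obj.map (f ≫ g) a) = Quot.mk _ (A.obj.map g (A.obj.map f a))
    rw [FunctorToTypes.map_comp_apply]

/-- the quotient map of presheaves -/
def q₀ : A.obj ⟶ Q₀ p₁ p₂ where
  app U := TypeCat.ofHom (Quot.mk _)
  naturality U V f := by
    ext x
    rfl

/-- the quotient sheaf -/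
noncomputable abbrev B : Sheaf J (Type u) := (presheafToSheaf J (Type u)).obj (Q₀ p₁ p₂)

/-- the quotient map -/
noncomputable def π : A ⟶ B p₁ p₂ := ⟨q₀ p₁ p₂ ≫ toSheafify J (Q₀ p₁ p₂)⟩

theorem rel_iff (U : C) (x y : A.obj.obj (op U)) :
    rel p₁ p₂ (op U) x y ↔ ∃ f : (presheafToSheaf J (Type u)).obj (yoneda.obj U) ⟶ R,
      f ≫ p₁ = (elEquiv A U).symm x ∧ f ≫ p₂ = (elEquiv A U).symm y := by
  constructor
  · rintro ⟨s, h1, h2⟩
    refine ⟨(elEquiv R U).symm s, ?_, ?_⟩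
    · apply (elEquiv A U).injective
      rw [elEquiv_comp, Equiv.apply_symm_apply, Equiv.apply_symm_apply, h1]
    · apply (elEquiv A U).injective
      rw [elEquiv_comp, Equiv.apply_symm_apply, Equiv.apply_symm_apply, h2]
  · rintro ⟨f, h1, h2⟩
    refine ⟨elEquiv R U f, ?_, ?_⟩
    · rw [← elEquiv_comp, h1, Equiv.apply_symm_apply]
    · rw [← elEquiv_comp, h2, Equiv.apply_symm_apply]

variable (h : SGA4.IsEquivRel p₁ p₂)
include h

theorem rel_equivalence (U : Cᵒᵖ) : Equivalence (rel p₁ p₂ U) := by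
  rcases U with ⟨U⟩
  have hT := (h ((presheafToSheaf J (Type u)).obj (yoneda.obj U))).2
  constructor
  · intro x
    exact (rel_iff p₁ p₂ U x x).2 (hT.refl _)
  · intro x y hxy
    exact (rel_iff p₁ p₂ U y x).2 (hT.symm ((rel_iff p₁ p₂ U x y).1 hxy))
  · intro x y z hxy hyz
    exact (rel_iff p₁ p₂ U x z).2
      (hT.trans ((rel_iff p₁ p₂ U x y).1 hxy) ((rel_iff p₁ p₂ U y z).1 hyz))

theorem rel_inj (U : Cᵒᵖ) (s s' : R.obj.obj U) (h1 : p₁.hom.app U s = p₁.hom.app U s')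
    (h2 : p₂.hom.app U s = p₂.hom.app U s') : s = s' := by
  rcases U with ⟨U⟩
  have hT := (h ((presheafToSheaf J (Type u)).obj (yoneda.obj U))).1
  have key : (elEquiv R U).symm s = (elEquiv R U).symm s' := by
    apply hT
    refine Prod.ext ?_ ?_
    · apply (elEquiv A U).injective
      change elEquiv A U ((elEquiv R U).symm s ≫ p₁) = elEquiv A U ((elEquiv R U).symm s' ≫ p₁)
      rw [elEquiv_comp, elEquiv_comp, Equiv.apply_symm_apply, Equiv.apply_symm_apply]
      exact h1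
    · apply (elEquiv A U).injective
      change elEquiv A U ((elEquiv R U).symm s ≫ p₂) = elEquiv A U ((elEquiv R U).symm s' ≫ p₂)
      rw [elEquiv_comp, elEquiv_comp, Equiv.apply_symm_apply, Equiv.apply_symm_apply]
      exact h2
  exact (elEquiv R U).symm.injective key

theorem q₀_eq_iff (U : Cᵒᵖ) (x y : A.obj.obj U) :
    (q₀ p₁ p₂).app U x = (q₀ p₁ p₂).app U y ↔ rel p₁ p₂ U x y := by
  constructor
  · intro hxy
    have h1 : Quot.mk (rel p₁ p₂ U) x = Quot.mk (rel p₁ p₂ U) y := hxy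
    exact (rel_equivalence p₁ p₂ h U).eqvGen_iff.1 (Quot.eqvGen_exact h1)
  · intro hxy
    exact Quot.sound hxy

theorem isPullback₀ : IsPullback p₁.hom p₂.hom (q₀ p₁ p₂) (q₀ p₁ p₂) := by
  refine IsPullback.of_forall_isPullback_app fun U => ?_
  rw [Types.isPullback_iff]
  refine ⟨?_, ?_, ?_⟩
  · ext s
    exact Quot.sound ⟨s, rfl, rfl⟩
  · rintro s s' ⟨h1, h2⟩
    exact rel_inj p₁ p₂ h U s s' h1 h2
  · intro x y hxy
    obtain ⟨s, h1, h2⟩ := (q₀_eq_iff p₁ p₂ h U x y).1 hxy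
    exact ⟨s, h1, h2⟩

theorem isPullback_π : IsPullback p₁ p₂ (π p₁ p₂) (π p₁ p₂) := by
  let a := presheafToSheaf J (Type u)
  let adj := sheafificationAdjunction J (Type u)
  have h1 : IsPullback (a.map p₁.hom) (a.map p₂.hom) (a.map (q₀ p₁ p₂)) (a.map (q₀ p₁ p₂)) :=
    (isPullback₀ p₁ p₂ h).map a
  have e1 : adj.homEquiv ((sheafToPresheaf J (Type u)).obj A) (B p₁ p₂)
      (adj.counit.app A ≫ π p₁ p₂) = (π p₁ p₂).hom := by
    rw [adj.homEquiv_unit, Functor.map_comp, ← Category.assoc, adj.right_triangle_components,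
      Category.id_comp]
    rfl
  have e2 : adj.homEquiv A.obj ((presheafToSheaf J (Type u)).obj (Q₀ p₁ p₂))
      (a.map (q₀ p₁ p₂)) = q₀ p₁ p₂ ≫ adj.unit.app (Q₀ p₁ p₂) := by
    rw [adj.homEquiv_unit]
    exact (adj.unit.naturality (q₀ p₁ p₂)).symm
  have hπ : adj.counit.app A ≫ π p₁ p₂ = a.map (q₀ p₁ p₂) :=
    (adj.homEquiv A.obj ((presheafToSheaf J (Type u)).obj (Q₀ p₁ p₂))).injective (e1.trans e2.symm)
  exact h1.of_iso (asIso (adj.counit.app R)) (asIso (adj.counit.app A))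
    (asIso (adj.counit.app A)) (Iso.refl _)
    (adj.counit.naturality p₁) (adj.counit.naturality p₂)
    ((Category.comp_id _).trans hπ.symm) ((Category.comp_id _).trans hπ.symm)

theorem exists_desc {Z : Sheaf J (Type u)} (g : A ⟶ Z) (hg : p₁ ≫ g = p₂ ≫ g) :
    ∃ k : B p₁ p₂ ⟶ Z, π p₁ p₂ ≫ k = g := by
  have hg' : ∀ (U : Cᵒᵖ) (s : R.obj.obj U),
      g.hom.app U (p₁.hom.app U s) = g.hom.app U (p₂.hom.app U s) := fun U s =>
    ConcreteCategory.congr_hom (congr_app ((sheafToPresheaf J _).congr_map hg) U) s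
  let g₀ : Q₀ p₁ p₂ ⟶ Z.obj :=
    { app := fun U => TypeCat.ofHom (Quot.lift (g.hom.app U) (by
        rintro x y ⟨s, h1, h2⟩
        rw [← h1, ← h2]
        exact hg' U s))
      naturality := by
        intro U V f
        ext x
        induction x using Quot.ind with | _ a => ?_
        exact NatTrans.naturality_apply g.hom f a }
  refine ⟨⟨sheafifyLift J g₀ Z.property⟩, ?_⟩
  apply Sheaf.hom_ext
  change (q₀ p₁ p₂ ≫ toSheafify J (Q₀ p₁ p₂)) ≫ sheafifyLift J g₀ Z.property = g.hom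
  rw [Category.assoc, toSheafify_sheafifyLift]
  ext U x
  rfl

omit h in
theorem desc_unique {Z : Sheaf J (Type u)} (k k' : B p₁ p₂ ⟶ Z)
    (hk : π p₁ p₂ ≫ k = π p₁ p₂ ≫ k') : k = k' := by
  have h1 : (q₀ p₁ p₂ ≫ toSheafify J (Q₀ p₁ p₂)) ≫ k.hom =
      (q₀ p₁ p₂ ≫ toSheafify J (Q₀ p₁ p₂)) ≫ k'.hom :=
    (sheafToPresheaf J _).congr_map hk
  haveI : Epi (q₀ p₁ p₂) := by
    haveI : ∀ U, Epi ((q₀ p₁ p₂).app U) := fun U => by
      rw [epi_iff_surjective]
      exact Quot.mk_surjective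
    exact NatTrans.epi_of_epi_app _
  have h2 : q₀ p₁ p₂ ≫ (toSheafify J (Q₀ p₁ p₂) ≫ k.hom) =
      q₀ p₁ p₂ ≫ (toSheafify J (Q₀ p₁ p₂) ≫ k'.hom) :=
    (Category.assoc _ _ _).symm.trans (h1.trans (Category.assoc _ _ _))
  have h3 := (cancel_epi (q₀ p₁ p₂)).1 h2
  apply Sheaf.hom_ext
  exact sheafify_hom_ext J _ _ Z.property h3

theorem inl_eq_inr (s : PushoutCocone p₁ p₂) : s.inl = s.inr := by
  obtain ⟨Δ, hΔ1, hΔ2⟩ := (h A).2.refl (𝟙 A)
  calc s.inl = (Δ ≫ p₁) ≫ s.inl := by rw [hΔ1, Category.id_comp]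
    _ = (Δ ≫ p₂) ≫ s.inr := by rw [Category.assoc, s.condition, Category.assoc]
    _ = s.inr := by rw [hΔ2, Category.id_comp]

theorem isPushout_π : IsPushout p₁ p₂ (π p₁ p₂) (π p₁ p₂) := by
  have w : p₁ ≫ π p₁ p₂ = p₂ ≫ π p₁ p₂ := (isPullback_π p₁ p₂ h).w
  have hs : ∀ s : PushoutCocone p₁ p₂, p₁ ≫ s.inl = p₂ ≫ s.inl := fun s => by
    rw [s.condition, inl_eq_inr p₁ p₂ h s]
  refine ⟨⟨w⟩, ⟨PushoutCocone.IsColimit.mk w
    (fun s => Classical.choose (exists_desc p₁ p₂ h s.inl (hs s))) ?_ ?_ ?_⟩⟩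
  · intro s
    exact Classical.choose_spec (exists_desc p₁ p₂ h s.inl (hs s))
  · intro s
    rw [← inl_eq_inr p₁ p₂ h s]
    exact Classical.choose_spec (exists_desc p₁ p₂ h s.inl (hs s))
  · intro s m hm _
    apply desc_unique p₁ p₂
    rw [hm]
    exact (Classical.choose_spec (exists_desc p₁ p₂ h s.inl (hs s))).symm

omit h in
theorem epi_π : Epi (π p₁ p₂) := ⟨fun k k' hk => desc_unique p₁ p₂ k k' hk⟩

omit h in
theorem effectiveEpi_snd (B' : Sheaf J (Type u)) (g : B' ⟶ B p₁ p₂) :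
    EffectiveEpi (pullback.snd (π p₁ p₂) g) := by
  haveI := epi_π p₁ p₂
  haveI hπ : Sheaf.IsLocallySurjective (π p₁ p₂) :=
    (Sheaf.isLocallySurjective_iff_epi (π p₁ p₂)).2 inferInstance
  haveI : Sheaf.IsLocallySurjective (pullback.snd (π p₁ p₂) g) := by
    refine ⟨fun {U} s' => ?_⟩
    have h0 := Presheaf.imageSieve_mem J (π p₁ p₂).hom (U := op U) (g.hom.app (op U) s')
    refine J.superset_covering ?_ h0
    rintro V f ⟨t, ht⟩
    have sq : IsPullback ((pullback.fst (π p₁ p₂) g).hom.app (op V))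
        ((pullback.snd (π p₁ p₂) g).hom.app (op V)) ((π p₁ p₂).hom.app (op V))
        (g.hom.app (op V)) :=
      ((IsPullback.of_hasPullback (π p₁ p₂) g).map (sheafToPresheaf J (Type u))).app (op V)
    have heq : (π p₁ p₂).hom.app (op V) t = g.hom.app (op V) (B'.obj.map f.op s') := by
      rw [ht]
      exact (NatTrans.naturality_apply g.hom f.op s').symm
    obtain ⟨z, -, hz⟩ := Types.exists_of_isPullback sq t (B'.obj.map f.op s') heq
    exact ⟨z, hz⟩
  haveI : Epi (pullback.snd (π p₁ p₂) g) := inferInstance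
  rw [← isRegularEpi_iff_effectiveEpi]
  exact IsRegularEpiCategory.regularEpiOfEpi _

theorem isEffectiveUniversal : SGA4.IsEffectiveUniversalEquivRel p₁ p₂ :=
  ⟨B p₁ p₂, π p₁ p₂, isPullback_π p₁ p₂ h, isPushout_π p₁ p₂ h, effectiveEpi_snd p₁ p₂⟩

end EquivRel

end Groth.Agent.Helper6.GiraudSh
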