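import Mathlib
import Groth.Agent.Helper6.GiraudSh

/-!
# Helper6: the canonical topology of a sheaf topos, part 1.

`LS S` ("locally surjective sieve"), colimit presentation attached to an `LS` sieve,
limit-preserving presheaves on the topos are sheaves for `LS` sieves, `LS` sieves are
canonical coverings, jointly epimorphic sieves are `LS`.
-/

set_option backward.isDefEq.respectTransparency false
set_option backward.isDefEq.respectTransparency.types false
set_option autoImplicit false

universe w u

open CategoryTheory CategoryTheory.Limits Opposite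

namespace Groth.Agent.Helper6.CanTop

variable {C : Type u} [SmallCategory C] {J : GrothendieckTopology C}

/-- sheafified representable -/
noncomputable abbrev r (J : GrothendieckTopology C) (U : C) : Sheaf J (Type u) :=
  (presheafToSheaf J (Type u)).obj (yoneda.obj U)

noncomputable abbrev rmap (J : GrothendieckTopology C) {U V : C} (k : V ⟶ U) : r J V ⟶ r J U :=
  (presheafToSheaf J (Type u)).map (yoneda.map k)

/-- sections as morphisms from the sheafified representable -/
noncomputable def el (A : Sheaf J (Type u)) (U : C) : (r J U ⟶ A) ≃ A.obj.obj (op U) :=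
  GiraudSh.elEquiv A U

noncomputable def hat (A : Sheaf J (Type u)) {U : C} (s : A.obj.obj (op U)) : r J U ⟶ A :=
  (el A U).symm s

@[simp] lemma el_hat (A : Sheaf J (Type u)) {U : C} (s : A.obj.obj (op U)) :
    el A U (hat A s) = s := (el A U).apply_symm_apply s

@[simp] lemma hat_el (A : Sheaf J (Type u)) {U : C} (f : r J U ⟶ A) :
    hat A (el A U f) = f := (el A U).symm_apply_apply f

lemma el_comp {A B : Sheaf J (Type u)} {U : C} (f : r J U ⟶ A) (g : A ⟶ B) :
    el B U (f ≫ g) = g.hom.app (op U) (el A U f) := GiraudSh.elEquiv_comp U f g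

lemma hat_comp {A B : Sheaf J (Type u)} {U : C} (s : A.obj.obj (op U)) (g : A ⟶ B) :
    hat A s ≫ g = hat B (g.hom.app (op U) s) := by
  apply (el B U).injective
  rw [el_comp, el_hat, el_hat]

lemma el_rmap {A : Sheaf J (Type u)} {U V : C} (k : V ⟶ U) (f : r J U ⟶ A) :
    el A V (rmap J k ≫ f) = A.obj.map k.op (el A U f) := by
  unfold el GiraudSh.elEquiv
  simp only [Equiv.trans_apply]
  rw [Adjunction.homEquiv_naturality_left]
  exact (yonedaEquiv_naturality _ _).symm

lemma rmap_hat {A : Sheaf J (Type u)} {U V : C} (k : V ⟶ U) (s : A.obj.obj (op U)) :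
    rmap J k ≫ hat A s = hat A (A.obj.map k.op s) := by
  apply (el A V).injective
  rw [el_rmap, el_hat, el_hat]

lemma hat_eq (A : Sheaf J (Type u)) {U : C} (s : A.obj.obj (op U)) :
    hat A s = (presheafToSheaf J (Type u)).map (yonedaEquiv.symm s) ≫
      (sheafificationAdjunction J (Type u)).counit.app A := by
  unfold hat el GiraudSh.elEquiv
  rw [Equiv.symm_trans_apply, Adjunction.homEquiv_counit]
  rfl

/-- morphisms of sheaves agreeing on all sections are equal -/
lemma hom_ext_hat {A B : Sheaf J (Type u)} (a b : A ⟶ B)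
    (h : ∀ (U : C) (s : A.obj.obj (op U)), hat A s ≫ a = hat A s ≫ b) : a = b := by
  apply Sheaf.hom_ext
  ext U s
  have := h U.unop s
  rw [hat_comp, hat_comp] at this
  have h2 := congrArg (el B U.unop) this
  rw [el_hat, el_hat] at h2
  exact h2

section LS

variable {X : Sheaf J (Type u)}

/-- sections whose classifying morphism belongs to the sieve -/
def secSub (S : Sieve X) : Subfunctor X.obj where
  obj U := {s | S (hat X (U := U.unop) s)}
  map := by
    intro U V i s hs
    show S (hat X (U := V.unop) (X.obj.map i s))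
    have e : hat X (U := V.unop) (X.obj.map i s) = rmap J i.unop ≫ hat X (U := U.unop) s :=
      (rmap_hat i.unop s).symm
    rw [e]
    exact S.downward_closed hs _

lemma mem_secSub (S : Sieve X) {U : C} (s : X.obj.obj (op U)) :
    s ∈ (secSub S).obj (op U) ↔ S (hat X s) := Iff.rfl

/-- the sieve is locally surjective -/
def LS (S : Sieve X) : Prop :=
  ∀ (U : C) (s : X.obj.obj (op U)), (secSub S).sieveOfSection s ∈ J U

lemma LS_top : LS (⊤ : Sieve X) := by
  intro U s
  refine J.superset_covering ?_ (J.top_mem U)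
  intro V k _
  trivial

lemma LS.pullback {S : Sieve X} (h : LS S) {Y : Sheaf J (Type u)} (f : Y ⟶ X) :
    LS (S.pullback f) := by
  intro U s
  refine J.superset_covering ?_ (h U (f.hom.app (op U) s))
  intro V k hk
  show S (hat Y (Y.obj.map k.op s) ≫ f)
  rw [hat_comp]
  have e : f.hom.app (op V) (Y.obj.map k.op s) = X.obj.map k.op (f.hom.app (op U) s) :=
    NatTrans.naturality_apply f.hom k.op s
  rw [e]
  exact hk

lemma LS.mono {S S' : Sieve X} (h : LS S) (hle : S ≤ S') : LS S' := by
  intro U s
  refine J.superset_covering ?_ (h U s)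
  intro V k hk
  exact hle _ hk

end LS

section Pres

variable {X : Sheaf J (Type u)} (S : Sieve X)

/-- the presheaf of sections lying in the sieve -/
abbrev P : Cᵒᵖ ⥤ Type u := (secSub S).toFunctor

/-- the index category -/
abbrev K := CostructuredArrow yoneda (P S)

/-- the diagram of sheafified representables -/
noncomputable abbrev D : K S ⥤ Sheaf J (Type u) :=
  (CostructuredArrow.proj yoneda (P S) ⋙ yoneda) ⋙ presheafToSheaf J (Type u)

lemma W_ι (hS : LS S) : J.W (secSub S).ι := by
  haveI : Presheaf.IsLocallyInjective J (secSub S).ι :=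
    Presheaf.isLocallyInjective_of_injective J _ (fun U a b h => Subtype.ext h)
  haveI : Presheaf.IsLocallySurjective J (secSub S).ι := by
    constructor
    intro U s
    refine J.superset_covering ?_ (hS U s)
    intro V k hk
    exact ⟨⟨X.obj.map k.op s, hk⟩, rfl⟩
  exact J.W_of_isLocallyBijective _

/-- comparison isomorphism -/
noncomputable def φ (hS : LS S) : (presheafToSheaf J (Type u)).obj (P S) ≅ X :=
  haveI : IsIso ((presheafToSheaf J (Type u)).map (secSub S).ι) := (J.W_iff _).1 (W_ι S hS)
  asIso ((presheafToSheaf J (Type u)).map (secSub S).ι) ≪≫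
    asIso ((sheafificationAdjunction J (Type u)).counit.app X)

/-- the colimit cocone with point `X` -/
noncomputable def cS (hS : LS S) : Cocone (D S) :=
  ((presheafToSheaf J (Type u)).mapCocone (Presheaf.tautologicalCocone (P S))).extend (φ S hS).hom

noncomputable def isColimitCS (hS : LS S) : IsColimit (cS S hS) :=
  IsColimit.extendIso _ (isColimitOfPreserves (presheafToSheaf J (Type u))
    (Presheaf.isColimitTautologicalCocone (P S)))

lemma cS_ι (hS : LS S) (j : K S) :
    (cS S hS).ι.app j = hat X (yonedaEquiv j.hom).1 := by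
  have e : yonedaEquiv.symm ((yonedaEquiv j.hom).1) = j.hom ≫ (secSub S).ι := by
    apply yonedaEquiv.injective
    rw [Equiv.apply_symm_apply, yonedaEquiv_comp]
    rfl
  rw [hat_eq, e, Functor.map_comp, Category.assoc]
  rfl

lemma cS_mem (hS : LS S) (j : K S) : S ((cS S hS).ι.app j) := by
  rw [cS_ι]
  exact (yonedaEquiv j.hom).2

/-- the index attached to a section lying in the sieve -/
noncomputable def idx {U : C} (s : X.obj.obj (op U)) (hs : S (hat X s)) : K S :=
  CostructuredArrow.mk (Y := U) ((yonedaEquiv (X := U) (F := P S)).symm ⟨s, hs⟩)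

lemma cS_ι_idx (hS : LS S) {U : C} (s : X.obj.obj (op U)) (hs : S (hat X s)) :
    (cS S hS).ι.app (idx S s hs) = hat X s := by
  rw [cS_ι]
  show hat X ((yonedaEquiv (X := U) (F := P S))
    ((yonedaEquiv (X := U) (F := P S)).symm ⟨s, hs⟩)).1 = hat X s
  rw [Equiv.apply_symm_apply]

end Pres

section Sheaf

variable (H : (Sheaf J (Type u))ᵒᵖ ⥤ Type w) [PreservesLimitsOfSize.{u, u} H]
  {X : Sheaf J (Type u)}

include H in
/-- basic consequence of the colimit presentation -/
lemma existsUnique_of_LS (S : Sieve X) (hS : LS S)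
    (σ : ∀ j : K S, H.obj (op ((D S).obj j)))
    (hσ : ∀ {j j' : K S} (m : j ⟶ j'), H.map ((D S).map m).op (σ j') = σ j) :
    ∃! t : H.obj (op X), ∀ j, H.map ((cS S hS).ι.app j).op t = σ j := by
  have hlim : IsLimit (H.mapCone (cS S hS).op) := isLimitOfPreserves H (isColimitCS S hS).op
  have := (Types.isLimit_iff (H.mapCone (cS S hS).op)).1 ⟨hlim⟩ (fun j => σ j.unop)
    (by
      intro j j' m
      exact hσ m.unop)
  obtain ⟨t, ht, hu⟩ := this
  exact ⟨t, fun j => ht (op j), fun t' ht' => hu t' (fun j => ht' j.unop)⟩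

include H in
lemma eq_of_hat (z z' : H.obj (op X))
    (h : ∀ (U : C) (s : X.obj.obj (op U)), H.map (hat X s).op z = H.map (hat X s).op z') :
    z = z' := by
  have hS : LS (⊤ : Sieve X) := LS_top
  obtain ⟨t, -, hu⟩ := existsUnique_of_LS H (⊤ : Sieve X) hS
    (fun j => H.map ((cS ⊤ hS).ι.app j).op z)
    (by
      intro j j' m
      rw [← Functor.map_comp_apply, ← op_comp]
      exact congrArg (fun q => H.map q.op z) ((cS ⊤ hS).w m))
  rw [hu z (fun j => rfl)]
  refine (hu z' (fun j => ?_)).symm
  rw [cS_ι]
  exact (h _ _).symm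

lemma fam_congr {S : Sieve X} (x : Presieve.FamilyOfElements H S.arrows)
    {Y : Sheaf J (Type u)} {f f' : Y ⟶ X} (e : f = f') (hf : S f) (hf' : S f') :
    x f hf = x f' hf' := by
  subst e; rfl

include H in
theorem isSheafFor_of_LS (S : Sieve X) (hS : LS S) : Presieve.IsSheafFor H S.arrows := by
  intro x hx
  have hx' := (Presieve.compatible_iff_sieveCompatible x).1 hx
  obtain ⟨t, ht, hu⟩ := existsUnique_of_LS H S hS
    (fun j => x ((cS S hS).ι.app j) (cS_mem S hS j))
    (by
      intro j j' m
      rw [← hx']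
      exact fam_congr H x ((cS S hS).w m) _ _)
  refine ⟨t, ?_, ?_⟩
  · intro Y f hf
    apply eq_of_hat H
    intro U s
    have hs : S (hat X (f.hom.app (op U) s)) := by
      rw [← hat_comp]; exact S.downward_closed hf _
    rw [← Functor.map_comp_apply, ← op_comp, ← hx' f (hat Y s) hf]
    have e1 : hat Y s ≫ f = (cS S hS).ι.app (idx S _ hs) := by
      rw [cS_ι_idx, hat_comp]
    rw [fam_congr H x e1 (S.downward_closed hf _) (cS_mem S hS _), e1]
    exact ht _
  · intro t' ht'
    exact hu t' (fun j => ht' _ _)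

end Sheaf

section Canonical

variable {X : Sheaf J (Type u)}

theorem mem_canonical_of_LS {S : Sieve X} (h : LS S) :
    S ∈ Sheaf.canonicalTopology (Sheaf J (Type u)) X := by
  apply Sheaf.mem_finestTopology_of_forall_isSheafFor
  rintro P ⟨Z, rfl⟩ Y f
  exact isSheafFor_of_LS (yoneda.obj Z) _ (h.pullback f)

/-- A jointly epimorphic sieve is locally surjective. -/
theorem LS_of_jointlyEpi (S : Sieve X)
    (h : ∀ (Z : Sheaf J (Type u)) (a b : X ⟶ Z),
      (∀ ⦃Y : Sheaf J (Type u)⦄ (f : Y ⟶ X), S f → f ≫ a = f ≫ b) → a = b) : LS S := by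
  let G := (secSub S).sheafify J
  have hG : Presieve.IsSheaf J G.toFunctor :=
    Subfunctor.sheafify_isSheaf _ ((isSheaf_iff_isSheaf_of_type _ _).1 X.property)
  let X'' : Sheaf J (Type u) := ⟨G.toFunctor, (isSheaf_iff_isSheaf_of_type _ _).2 hG⟩
  let m : X'' ⟶ X := ⟨G.ι⟩
  haveI : Mono m := by
    constructor
    intro Z a b hab
    apply Sheaf.hom_ext
    have : a.hom ≫ G.ι = b.hom ≫ G.ι := (sheafToPresheaf J (Type u)).congr_map hab
    exact (cancel_mono G.ι).1 this
  haveI : Epi m := by
    constructor
    intro Z a b hab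
    apply h Z a b
    intro Y f hf
    have hr : Subfunctor.range f.hom ≤ G := by
      rintro U _ ⟨t, rfl⟩
      show (secSub S).sieveOfSection (f.hom.app U t) ∈ J U.unop
      refine J.superset_covering ?_ (J.top_mem _)
      intro V k _
      show S (hat X (X.obj.map k.op (f.hom.app U t)))
      have e : X.obj.map k.op (f.hom.app U t) = f.hom.app (op V) (Y.obj.map k.op t) :=
        (NatTrans.naturality_apply f.hom k.op t).symm
      rw [e, ← hat_comp]
      exact S.downward_closed hf _
    let f' : Y ⟶ X'' := ⟨Subfunctor.lift f.hom hr⟩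
    have ef : f = f' ≫ m := Sheaf.hom_ext (Subfunctor.lift_ι f.hom hr).symm
    rw [ef, Category.assoc, Category.assoc, hab]
  haveI : IsIso m := isIso_of_mono_of_epi m
  intro U s
  haveI : IsIso m.hom := (inferInstance : IsIso ((sheafToPresheaf J (Type u)).map m))
  haveI : IsIso (m.hom.app (op U)) := inferInstance
  have hsurj := ((isIso_iff_bijective (m.hom.app (op U))).1 inferInstance).2
  obtain ⟨s'', rfl⟩ := hsurj s
  exact s''.2

theorem LS_of_mem_canonical {S : Sieve X}
    (hS : S ∈ Sheaf.canonicalTopology (Sheaf J (Type u)) X) : LS S := by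
  apply LS_of_jointlyEpi
  intro Z a b hab
  have hsep := (Sheaf.isSheaf_yoneda_obj Z S hS).isSeparatedFor
  exact hsep.ext (fun Y f hf => hab f hf)

theorem mem_canonical_iff {S : Sieve X} :
    S ∈ Sheaf.canonicalTopology (Sheaf J (Type u)) X ↔ LS S :=
  ⟨LS_of_mem_canonical, mem_canonical_of_LS⟩

end Canonical

end Groth.Agent.Helper6.CanTop
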