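import Mathlib
import Groth.Prelude.Def_SGA4c
import Groth.Agent.Helper2.TF3
import Groth.Agent.Helper6.CanTop1
import Groth.Agent.Helper6.FiltShf

set_option backward.isDefEq.respectTransparency false
set_option backward.isDefEq.respectTransparency.types false
set_option autoImplicit false

universe u

open CategoryTheory CategoryTheory.Limits Opposite
open Groth.Agent.Helper2.TF1

namespace Groth.Agent.Helper6.FiltQC

variable {C : Type u} [SmallCategory C] {J : GrothendieckTopology C}

section Forward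

variable {I : Type u} [SmallCategory I] [IsFiltered I] (D : I ⥤ Sheaf J (Type u))

set_option synthInstance.maxHeartbeats 80000 in
/-- Two sections of a member of a filtered diagram of sheaves which agree in the colimit sheaf
agree locally at a later stage. -/
lemma locally_eventually_eq {c : Cocone D} (hc : IsColimit c) {k : I} {U : C}
    (s t : (D.obj k).obj.obj (op U))
    (h : (c.ι.app k).hom.app (op U) s = (c.ι.app k).hom.app (op U) t) :
    ∃ S ∈ J U, ∀ ⦃V : C⦄ (g : V ⟶ U), S g →
      ∃ (m : I) (α : k ⟶ m), (D.map α).hom.app (op V) ((D.obj k).obj.map g.op s) =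
        (D.map α).hom.app (op V) ((D.obj k).obj.map g.op t) := by
  let E := colimit.cocone (D ⋙ sheafToPresheaf J (Type u))
  have hE : IsColimit E := colimit.isColimit _
  let c' := Sheaf.sheafifyCocone E
  have hc' : IsColimit c' := Sheaf.isColimitSheafifyCocone E hE
  let e := hc.coconePointUniqueUpToIso hc'
  have he : c.ι.app k ≫ e.hom = c'.ι.app k := hc.comp_coconePointUniqueUpToIso_hom hc' k
  have h1 : (c'.ι.app k).hom.app (op U) s = (c'.ι.app k).hom.app (op U) t := by
    rw [← he]
    exact congrArg (e.hom.hom.app (op U)) h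
  have h2 : (c'.ι.app k).hom = E.ι.app k ≫ toSheafify J E.pt :=
    Sheaf.sheafifyCocone_ι_app_val E k
  rw [h2] at h1
  have h3 : (toSheafify J E.pt).app (op U) ((E.ι.app k).app (op U) s) =
      (toSheafify J E.pt).app (op U) ((E.ι.app k).app (op U) t) := h1
  have hinj : Presheaf.IsLocallyInjective J (toSheafify J E.pt) := inferInstance
  refine ⟨_, Presheaf.equalizerSieve_mem J (toSheafify J E.pt) (X := op U) _ _ h3, ?_⟩
  intro V g hg
  have hg' : E.pt.map g.op ((E.ι.app k).app (op U) s) =
      E.pt.map g.op ((E.ι.app k).app (op U) t) := hg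
  have n1 := NatTrans.naturality_apply (E.ι.app k) g.op s
  have n2 := NatTrans.naturality_apply (E.ι.app k) g.op t
  have hg'' := n1.trans (hg'.trans n2.symm)
  have hEV : IsColimit (((evaluation Cᵒᵖ (Type u)).obj (op V)).mapCocone E) :=
    isColimitOfPreserves _ hE
  obtain ⟨m, α, hα⟩ := (Types.FilteredColimit.isColimit_eq_iff' hEV _ _).1 hg''
  exact ⟨m, α, hα⟩

/-- universal section of the sheafified representable -/
noncomputable def ξ (V : C) : (CanTop.r J V).obj.obj (op V) := CanTop.el (CanTop.r J V) V (𝟙 _)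

lemma hat_ξ {X : Sheaf J (Type u)} {V : C} (x : X.obj.obj (op V)) :
    (CanTop.hat X x).hom.app (op V) (ξ V) = x := by
  unfold ξ
  rw [← CanTop.el_comp, Category.id_comp, CanTop.el_hat]

/-- quasi-compact objects: two maps into a stage which agree in the colimit agree at a later
stage -/
lemma exists_eq_of_isQC (X : Sheaf J (Type u)) (hX : ToposFin.IsQC X) {k : I}
    (f g : X ⟶ D.obj k) (h : f ≫ colimit.ι D k = g ≫ colimit.ι D k) :
    ∃ (m : I) (α : k ⟶ m), f ≫ D.map α = g ≫ D.map α := by
  classical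
  let T := Σ (U : C) (x : X.obj.obj (op U)) (m : I), {α : k ⟶ m //
    (D.map α).hom.app (op U) (f.hom.app (op U) x) =
      (D.map α).hom.app (op U) (g.hom.app (op U) x)}
  let F : T → Sheaf J (Type u) := fun t => CanTop.r J t.1
  let π : ∀ t : T, F t ⟶ X := fun t => CanTop.hat X t.2.1
  have hljs : LJS F π := by
    intro U x
    have hx : (colimit.ι D k).hom.app (op U) (f.hom.app (op U) x) =
        (colimit.ι D k).hom.app (op U) (g.hom.app (op U) x) :=
      congrArg (fun φ => φ.hom.app (op U) x) h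
    obtain ⟨S, hS, hS'⟩ := locally_eventually_eq D (colimit.isColimit D) (k := k) _ _ hx
    refine ⟨S, hS, ?_⟩
    intro V g' hg'
    obtain ⟨m, α, hα⟩ := hS' g' hg'
    have nf := NatTrans.naturality_apply f.hom g'.op x
    have ng := NatTrans.naturality_apply g.hom g'.op x
    refine ⟨⟨V, X.obj.map g'.op x, m, α, ?_⟩, ξ V, hat_ξ _⟩
    exact (congrArg (fun z => (D.map α).hom.app (op V) z) nf).trans
      (hα.trans (congrArg (fun z => (D.map α).hom.app (op V) z) ng).symm)
  obtain ⟨s, hs⟩ := (isQC_iff X).1 hX T F π hljs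
  obtain ⟨m, w, hw⟩ := FiltShf.exists_wide s k (fun t : T => t.2.2.1) (fun t => t.2.2.2.1)
  refine ⟨m, w, ?_⟩
  apply hs.hom_ext
  intro t
  obtain ⟨v, hv⟩ := hw t.1 t.2
  change CanTop.hat X t.1.2.1 ≫ f ≫ D.map w = CanTop.hat X t.1.2.1 ≫ g ≫ D.map w
  rw [CanTop.hat_comp, CanTop.hat_comp]
  congr 1
  rw [← hv, D.map_comp]
  exact congrArg (fun z => (D.map v).hom.app (op t.1.1) z) t.1.2.2.2.2

lemma post_ι (X : Sheaf J (Type u)) (i : I) (f : X ⟶ D.obj i) :
    colimit.post D (coyoneda.obj (op X)) (colimit.ι (D ⋙ coyoneda.obj (op X)) i f) =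
      f ≫ colimit.ι D i :=
  ConcreteCategory.congr_hom (colimit.ι_post D (coyoneda.obj (op X)) i) f

theorem injective_of_isQC (X : Sheaf J (Type u)) (hX : ToposFin.IsQC X) :
    Function.Injective (colimit.post D (coyoneda.obj (op X))) := by
  intro a b hab
  obtain ⟨i, f, rfl⟩ := Types.jointly_surjective' a
  obtain ⟨j, g, rfl⟩ := Types.jointly_surjective' b
  rw [post_ι, post_ι] at hab
  let k := IsFiltered.max i j
  let l : i ⟶ k := IsFiltered.leftToMax i j
  let r : j ⟶ k := IsFiltered.rightToMax i j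
  have h' : (f ≫ D.map l) ≫ colimit.ι D k = (g ≫ D.map r) ≫ colimit.ι D k := by
    rw [Category.assoc, Category.assoc, colimit.w, colimit.w]
    exact hab
  obtain ⟨m, α, hα⟩ := exists_eq_of_isQC D X hX _ _ h'
  rw [Types.FilteredColimit.colimit_eq_iff]
  refine ⟨m, l ≫ α, r ≫ α, ?_⟩
  change f ≫ D.map (l ≫ α) = g ≫ D.map (r ≫ α)
  rw [D.map_comp, D.map_comp, ← Category.assoc, ← Category.assoc]
  exact hα

end Forward

section Converse

variable {X : Sheaf J (Type u)} {ι : Type u} (F : ι → Sheaf J (Type u)) (π : ∀ i, F i ⟶ X)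

noncomputable abbrev σ (s : Finset ι) : (∐ fun i : s => F i) ⟶ X := Sigma.desc (fun i : s => π i)

lemma σ_cond {s t : Finset ι} (h : s ≤ t) :
    σ F π s ≫ pushout.inl (σ F π t) (σ F π t) = σ F π s ≫ pushout.inr (σ F π t) (σ F π t) := by
  apply Sigma.hom_ext
  intro i
  rw [Sigma.ι_desc_assoc, Sigma.ι_desc_assoc]
  have e : π i = Sigma.ι (fun j : t => F j) ⟨i.1, h i.2⟩ ≫ σ F π t := by
    rw [Sigma.ι_desc]
  rw [e, Category.assoc, Category.assoc, pushout.condition]

/-- the diagram of cokernel pairs of the finite subfamilies -/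
noncomputable def Dfun : Finset ι ⥤ Sheaf J (Type u) where
  obj s := pushout (σ F π s) (σ F π s)
  map {s t} h := pushout.desc (pushout.inl _ _) (pushout.inr _ _) (σ_cond F π (leOfHom h))
  map_id s := by apply pushout.hom_ext <;> simp
  map_comp f g := by apply pushout.hom_ext <;> simp

lemma epi_of_inl_eq_inr (s : Finset ι)
    (h : pushout.inl (σ F π s) (σ F π s) = pushout.inr (σ F π s) (σ F π s)) :
    Epi (σ F π s) := by
  constructor
  intro Z p q hpq
  have h1 : pushout.inl _ _ ≫ pushout.desc p q hpq = p := pushout.inl_desc _ _ _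
  have h2 : pushout.inr _ _ ≫ pushout.desc p q hpq = q := pushout.inr_desc _ _ _
  exact h1.symm.trans ((congrArg (fun z => z ≫ pushout.desc p q hpq) h).trans h2)

theorem isQC_of_injective (X : Sheaf J (Type u))
    (hinj : ∀ (I : Type u) [SmallCategory I] [IsFiltered I] (D : I ⥤ Sheaf J (Type u)),
      Function.Injective (colimit.post D (coyoneda.obj (op X)))) : ToposFin.IsQC X := by
  classical
  intro ι F π hπ
  have h := hinj (Finset ι) (Dfun F π)
  let a : X ⟶ (Dfun F π).obj ∅ := pushout.inl _ _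
  let b : X ⟶ (Dfun F π).obj ∅ := pushout.inr _ _
  have hmapa : ∀ (s : Finset ι) (e : (∅ : Finset ι) ⟶ s),
      a ≫ (Dfun F π).map e = pushout.inl (σ F π s) (σ F π s) :=
    fun s e => pushout.inl_desc _ _ _
  have hmapb : ∀ (s : Finset ι) (e : (∅ : Finset ι) ⟶ s),
      b ≫ (Dfun F π).map e = pushout.inr (σ F π s) (σ F π s) :=
    fun s e => pushout.inr_desc _ _ _
  have hab : a ≫ colimit.ι (Dfun F π) ∅ = b ≫ colimit.ι (Dfun F π) ∅ := by
    rw [← cancel_epi (Sigma.desc π)]
    apply Sigma.hom_ext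
    intro i
    rw [Sigma.ι_desc_assoc, Sigma.ι_desc_assoc]
    have e : (∅ : Finset ι) ⟶ {i} := homOfLE (Finset.empty_subset _)
    rw [← colimit.w (Dfun F π) e, ← Category.assoc a, ← Category.assoc b, hmapa, hmapb]
    have hi : π i = Sigma.ι (fun j : ({i} : Finset ι) => F j) ⟨i, Finset.mem_singleton_self i⟩ ≫
        σ F π {i} := by
      rw [Sigma.ι_desc]
    rw [hi]
    simp only [Category.assoc]
    rw [pushout.condition_assoc]
  have h2 : colimit.ι (Dfun F π ⋙ coyoneda.obj (op X)) ∅ a =
      colimit.ι (Dfun F π ⋙ coyoneda.obj (op X)) ∅ b := by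
    apply h
    rw [post_ι, post_ι]
    exact hab
  obtain ⟨s, f, g, hfg⟩ := (Types.FilteredColimit.colimit_eq_iff _).1 h2
  have hfg' : a ≫ (Dfun F π).map f = b ≫ (Dfun F π).map g := hfg
  rw [hmapa, hmapb] at hfg'
  exact ⟨s, epi_of_inl_eq_inr F π s hfg'⟩

end Converse

end Groth.Agent.Helper6.FiltQC
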