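import Mathlib
import Groth.Prelude.Def_SGA4c
import Groth.Agent.Helper2.TF9
import Groth.Agent.Helper6.FiltQC

set_option backward.isDefEq.respectTransparency false
set_option backward.isDefEq.respectTransparency.types false
set_option autoImplicit false

universe w u

open CategoryTheory CategoryTheory.Limits Opposite
open Groth.Agent.Helper2.TF1

namespace Groth.Agent.Helper6.FiltCoh

variable {C : Type u} [SmallCategory C] {J : GrothendieckTopology C}

/-- the sieve generated by a locally jointly surjective family is locally surjective -/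
lemma LS_generate_of_ljs {ι : Type w} {X : Sheaf J (Type u)} (F : ι → Sheaf J (Type u))
    (π : ∀ i, F i ⟶ X) (hπ : LJS F π) :
    CanTop.LS (Sieve.generate (Presieve.ofArrows F π)) := by
  intro U x
  obtain ⟨S, hS, hx⟩ := hπ U x
  refine J.superset_covering ?_ hS
  intro V g hg
  obtain ⟨i, y, hy⟩ := hx g hg
  show (Sieve.generate (Presieve.ofArrows F π)) (CanTop.hat X (X.obj.map g.op x))
  rw [← hy, ← CanTop.hat_comp]
  exact ⟨F i, CanTop.hat (F i) y, π i, Presieve.ofArrows.mk i, rfl⟩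

/-- locally jointly surjective families are effective epimorphic -/
lemma glue {ι : Type w} {X Z : Sheaf J (Type u)} (F : ι → Sheaf J (Type u))
    (π : ∀ i, F i ⟶ X) (hπ : LJS F π) (g : ∀ i, F i ⟶ Z)
    (hg : ∀ i j, pullback.fst (π i) (π j) ≫ g i = pullback.snd (π i) (π j) ≫ g j) :
    ∃ h : X ⟶ Z, ∀ i, π i ≫ h = g i := by
  have hS := LS_generate_of_ljs F π hπ
  have hsh := CanTop.isSheafFor_of_LS (yoneda.obj Z) _ hS
  have hsh' : Presieve.IsSheafFor (yoneda.obj Z) (Presieve.ofArrows F π) :=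
    (Presieve.isSheafFor_iff_generate _).2 hsh
  rw [Presieve.isSheafFor_arrows_iff] at hsh'
  obtain ⟨h, hh, -⟩ := hsh' g (by
    intro i j W gi gj hgij
    show gi ≫ g i = gj ≫ g j
    calc gi ≫ g i = (pullback.lift gi gj hgij ≫ pullback.fst _ _) ≫ g i := by
          rw [pullback.lift_fst]
      _ = pullback.lift gi gj hgij ≫ pullback.snd _ _ ≫ g j := by rw [Category.assoc, hg]
      _ = gj ≫ g j := by rw [← Category.assoc, pullback.lift_snd])
  exact ⟨h, hh⟩

variable {I : Type u} [SmallCategory I] [IsFiltered I] (D : I ⥤ Sheaf J (Type u))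

theorem surjective_of_coherent (hE : ToposFin.HasQCGenerators J) (X : Sheaf J (Type u))
    (hX : ToposFin.IsCoherent X) :
    Function.Surjective (colimit.post D (coyoneda.obj (op X))) := by
  classical
  intro φ
  let φ' : X ⟶ colimit D := φ
  have hι : LJS (fun i => D.obj i) (fun i => colimit.ι D i) :=
    ljs_iff_je.2 (fun Z a b hab => colimit.hom_ext hab)
  obtain ⟨σ, K, π, j, m, hπ, hK, hfac⟩ :=
    exists_qc_refinement hE φ' (fun i => colimit.ι D i) hι
  obtain ⟨s₀, hs₀⟩ := (isQC_iff X).1 hX.1 σ K π hπ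
  obtain ⟨i₀, hi₀⟩ := FiltShf.exists_above (fun s : s₀ => j s)
  let β : ∀ s : s₀, j s ⟶ i₀ := fun s => (hi₀ s).some
  obtain ⟨g, hgdef⟩ : ∃ g : ∀ s : s₀, K s ⟶ D.obj i₀, ∀ s, g s = m s ≫ D.map (β s) :=
    ⟨_, fun _ => rfl⟩
  have hg : ∀ s : s₀, π s ≫ φ' = g s ≫ colimit.ι D i₀ := by
    intro s
    rw [hgdef, hfac s, Category.assoc, colimit.w]
  have hR : ∀ p : s₀ × s₀, ∃ (mm : I) (α : i₀ ⟶ mm),
      (pullback.fst (π p.1) (π p.2) ≫ g p.1) ≫ D.map α =
        (pullback.snd (π p.1) (π p.2) ≫ g p.2) ≫ D.map α := by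
    intro p
    apply FiltQC.exists_eq_of_isQC D _ (hX.2 (K p.1) (K p.2) (π p.1) (π p.2) (hK p.1) (hK p.2))
    rw [Category.assoc, Category.assoc, ← hg, ← hg, pullback.condition_assoc]
  choose mm α hα using hR
  obtain ⟨i₁, w, v, hv⟩ := FiltShf.exists_wide' i₀ mm α
  have hcomp : ∀ s s' : s₀, pullback.fst (π s) (π s') ≫ g s ≫ D.map w =
      pullback.snd (π s) (π s') ≫ g s' ≫ D.map w := by
    intro s s'
    rw [← hv (s, s'), D.map_comp]
    have := hα (s, s')
    simp only [Category.assoc] at this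
    rw [reassoc_of% this]
  obtain ⟨h, hh⟩ := glue (fun s : s₀ => K s) (fun s : s₀ => π s) hs₀
    (fun s => g s ≫ D.map w) hcomp
  refine ⟨colimit.ι (D ⋙ coyoneda.obj (op X)) i₁ h, ?_⟩
  rw [FiltQC.post_ι]
  refine hs₀.hom_ext (h ≫ colimit.ι D i₁) φ' (fun s => ?_)
  rw [← Category.assoc, hh s, Category.assoc, colimit.w, ← hg]

theorem bijective_of_coherent (hE : ToposFin.HasQCGenerators J) (X : Sheaf J (Type u))
    (hX : ToposFin.IsCoherent X) :
    Function.Bijective (colimit.post D (coyoneda.obj (op X))) :=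
  ⟨FiltQC.injective_of_isQC D X hX.1, surjective_of_coherent D hE X hX⟩

end Groth.Agent.Helper6.FiltCoh
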