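import Mathlib
import Groth.Prelude.Def_SGA4c
import Groth.Agent.Helper6.FiltCoh
import Groth.Agent.Helper9.CechNerveRes

set_option backward.isDefEq.respectTransparency false
set_option backward.isDefEq.respectTransparency.types false
set_option autoImplicit false

/-!
# Maps out of free abelian sheaves into filtered colimits
-/

universe u

open CategoryTheory CategoryTheory.Limits Opposite
open Groth.Agent.Helper9.CechNerveRes

namespace Groth.Agent.Helper6.CF

variable {C : Type u} [SmallCategory C] (J : GrothendieckTopology C)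

/-- the forgetful functor from abelian sheaves to sheaves of sets -/
abbrev U : Sheaf J AddCommGrpCat.{u} ⥤ Sheaf J (Type u) :=
  sheafCompose J (forget AddCommGrpCat.{u})

noncomputable def natIsoU :
    (Functor.whiskeringRight Cᵒᵖ AddCommGrpCat.{u} (Type u)).obj (forget AddCommGrpCat.{u}) ⋙
      presheafToSheaf J (Type u) ≅ presheafToSheaf J AddCommGrpCat.{u} ⋙ U J :=
  sheafComposeNatIso J (forget AddCommGrpCat.{u}) (sheafificationAdjunction J AddCommGrpCat.{u})
    (sheafificationAdjunction J (Type u))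

instance presU (Λ : Type u) [SmallCategory Λ] [IsFiltered Λ] :
    PreservesColimitsOfShape Λ (U J) := by
  haveI : PreservesColimitsOfShape Λ (forget AddCommGrpCat.{u}) :=
    PreservesFilteredColimitsOfSize.preserves_filtered_colimits Λ
  haveI h1 : PreservesColimitsOfShape Λ (presheafToSheaf J AddCommGrpCat.{u} ⋙ U J) :=
    preservesColimitsOfShape_of_natIso (natIsoU J)
  constructor
  intro D
  let E := colimit.cocone (D ⋙ sheafToPresheaf J AddCommGrpCat.{u})
  have hE : IsColimit E := colimit.isColimit _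
  refine preservesColimit_of_preserves_colimit_cocone (Sheaf.isColimitSheafifyCocone E hE) ?_
  have h2 : IsColimit ((presheafToSheaf J AddCommGrpCat.{u} ⋙ U J).mapCocone E) :=
    isColimitOfPreserves _ hE
  let β := Functor.isoWhiskerLeft D
    (asIso (sheafificationAdjunction J AddCommGrpCat.{u}).counit).symm
  have h3 : IsColimit ((Cocone.precompose (Functor.isoWhiskerRight β (U J)).hom).obj
      ((U J).mapCocone ((presheafToSheaf J AddCommGrpCat.{u}).mapCocone E))) :=
    (IsColimit.precomposeHomEquiv (Functor.isoWhiskerRight β (U J)) _).symm h2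
  exact IsColimit.ofIsoColimit h3 (Functor.mapCoconePrecompose (H := U J)).symm

variable {J}

/-- `Hom(W, -)` commutes with filtered colimits of sheaves of sets (elementwise form) -/
def FH (W : Sheaf J (Type u)) : Prop :=
  ∀ (Λ : Type u) [SmallCategory Λ] [IsFiltered Λ] (D : Λ ⥤ Sheaf J (Type u)),
    (∀ x : W ⟶ colimit D, ∃ (l : Λ) (y : W ⟶ D.obj l), y ≫ colimit.ι D l = x) ∧
    (∀ (l : Λ) (y y' : W ⟶ D.obj l), y ≫ colimit.ι D l = y' ≫ colimit.ι D l →
      ∃ (m : Λ) (a : l ⟶ m), y ≫ D.map a = y' ≫ D.map a)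

/-- `Hom(ℤ[W], -)` commutes with filtered colimits of abelian sheaves (elementwise form) -/
def FHab (W : Sheaf J (Type u)) : Prop :=
  ∀ (Λ : Type u) [SmallCategory Λ] [IsFiltered Λ] (D : Λ ⥤ Sheaf J AddCommGrpCat.{u}),
    (∀ x : (Φ J).obj W ⟶ colimit D, ∃ (l : Λ) (y : (Φ J).obj W ⟶ D.obj l),
      y ≫ colimit.ι D l = x) ∧
    (∀ (l : Λ) (y y' : (Φ J).obj W ⟶ D.obj l), y ≫ colimit.ι D l = y' ≫ colimit.ι D l →
      ∃ (m : Λ) (a : l ⟶ m), y ≫ D.map a = y' ≫ D.map a)

theorem fhab_of_fh (W : Sheaf J (Type u)) (h : FH W) : FHab W := by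
  intro Λ _ _ D
  let adj := Sheaf.adjunction J AddCommGrpCat.adj.{u}
  let e := preservesColimitIso (U J) D
  have he : ∀ l, (U J).map (colimit.ι D l) ≫ e.hom = colimit.ι (D ⋙ U J) l :=
    fun l => ι_preservesColimitIso_hom (U J) D l
  constructor
  · intro x
    obtain ⟨l, y', hy'⟩ := (h Λ (D ⋙ U J)).1 (adj.homEquiv W _ x ≫ e.hom)
    refine ⟨l, (adj.homEquiv W (D.obj l)).symm y', ?_⟩
    apply (adj.homEquiv W _).injective
    rw [adj.homEquiv_naturality_right, Equiv.apply_symm_apply, ← cancel_mono e.hom, Category.assoc,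
      he]
    exact hy'
  · intro l y y' hyy
    have h1 : adj.homEquiv W _ y ≫ colimit.ι (D ⋙ U J) l =
        adj.homEquiv W _ y' ≫ colimit.ι (D ⋙ U J) l := by
      rw [← he, ← Category.assoc, ← Category.assoc, ← adj.homEquiv_naturality_right,
        ← adj.homEquiv_naturality_right, hyy]
    obtain ⟨m, a, ha⟩ := (h Λ (D ⋙ U J)).2 l _ _ h1
    refine ⟨m, a, ?_⟩
    apply (adj.homEquiv W _).injective
    rw [adj.homEquiv_naturality_right, adj.homEquiv_naturality_right]
    exact ha

theorem fh_of_coherent (hE : ToposFin.HasQCGenerators J) (W : Sheaf J (Type u))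
    (hW : ToposFin.IsCoherent W) : FH W := by
  intro Λ _ _ D
  constructor
  · intro x
    obtain ⟨a, ha⟩ := FiltCoh.surjective_of_coherent D hE W hW x
    obtain ⟨l, y, rfl⟩ := Types.jointly_surjective' a
    rw [FiltQC.post_ι] at ha
    exact ⟨l, y, ha⟩
  · intro l y y' hyy
    exact FiltQC.exists_eq_of_isQC D W hW.1 y y' hyy

end Groth.Agent.Helper6.CF
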