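import Mathlib
import Groth.Prelude.Def_CohCx
import Groth.Agent.Helper9.CechNerveCartan
import Groth.Agent.Helper9.AcycRes

set_option backward.isDefEq.respectTransparency false
set_option backward.isDefEq.respectTransparency.types false
set_option autoImplicit false

/-!
# Cartan's criterion relative to a class of objects of the topos
-/

universe u

open CategoryTheory CategoryTheory.Limits Opposite Abelian
open Groth.Agent.Helper9 Groth.Agent.Helper9.CechNerveSet Groth.Agent.Helper9.CechNerveRes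
  Groth.Agent.Helper9.CechNerveCartan

namespace Groth.Agent.Helper6.CF

variable {C : Type u} [SmallCategory C] {J : GrothendieckTopology C}

/-- an admissible class of objects: closed under isomorphisms and fibre products, and every
epimorphism onto a member is refined by a member -/
structure Adm (𝒦 : Sheaf J (Type u) → Prop) : Prop where
  iso : ∀ {X Y : Sheaf J (Type u)}, (X ≅ Y) → 𝒦 X → 𝒦 Y
  pb : ∀ {A B X : Sheaf J (Type u)} (a : A ⟶ X) (b : B ⟶ X), 𝒦 A → 𝒦 B → 𝒦 X → 𝒦 (pullback a b)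
  ref : ∀ {X P : Sheaf J (Type u)} (g : P ⟶ X), 𝒦 X → Epi g →
    ∃ (K' : Sheaf J (Type u)) (k : K' ⟶ P), 𝒦 K' ∧ Epi (k ≫ g)

section WPIso

variable {K' K : Sheaf J (Type u)} (f : K' ⟶ K)

/-- `WP f 0 ≅ K'` -/
noncomputable def wpZeroIso : WP f 0 ≅ K' where
  hom := WidePullback.π (fun _ : Fin 1 => f) 0
  inv := WidePullback.lift f (fun _ => 𝟙 K') (fun _ => Category.id_comp f)
  hom_inv_id := by
    apply WidePullback.hom_ext
    · intro j
      have hj : j = 0 := Fin.fin_one_eq_zero j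
      subst hj
      rw [Category.assoc, WidePullback.lift_π, Category.comp_id, Category.id_comp]
    · rw [Category.assoc, WidePullback.lift_base, WidePullback.π_arrow, Category.id_comp]
  inv_hom_id := by rw [WidePullback.lift_π]

/-- the comparison `WP f (n+1) ⟶ WP f n ×_K K'` -/
noncomputable def wpTo (n : ℕ) :
    WP f (n + 1) ⟶ pullback (WidePullback.base (fun _ : Fin (n + 1) => f)) f :=
  pullback.lift
    (WidePullback.lift (WidePullback.base (fun _ : Fin (n + 2) => f))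
      (fun j : Fin (n + 1) => WidePullback.π (fun _ : Fin (n + 2) => f) j.castSucc)
      (fun j => WidePullback.π_arrow _ _))
    (WidePullback.π (fun _ : Fin (n + 2) => f) (Fin.last (n + 1)))
    (by rw [WidePullback.lift_base, WidePullback.π_arrow])

/-- the comparison `WP f n ×_K K' ⟶ WP f (n+1)` -/
noncomputable def wpFrom (n : ℕ) :
    pullback (WidePullback.base (fun _ : Fin (n + 1) => f)) f ⟶ WP f (n + 1) :=
  WidePullback.lift (pullback.fst _ _ ≫ WidePullback.base (fun _ : Fin (n + 1) => f))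
    (fun i : Fin (n + 2) => Fin.lastCases (pullback.snd _ _)
      (fun j => pullback.fst _ _ ≫ WidePullback.π (fun _ : Fin (n + 1) => f) j) i)
    (by
      intro i
      refine Fin.lastCases ?_ (fun j => ?_) i
      · rw [Fin.lastCases_last]
        exact pullback.condition.symm
      · rw [Fin.lastCases_castSucc, Category.assoc, WidePullback.π_arrow])

/-- `WP f (n+1) ≅ WP f n ×_K K'` -/
noncomputable def wpSuccIso (n : ℕ) :
    WP f (n + 1) ≅ pullback (WidePullback.base (fun _ : Fin (n + 1) => f)) f where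
  hom := wpTo f n
  inv := wpFrom f n
  hom_inv_id := by
    apply WidePullback.hom_ext
    · intro i
      refine Fin.lastCases ?_ (fun j => ?_) i
      · rw [Category.assoc, Category.id_comp, wpFrom, WidePullback.lift_π, Fin.lastCases_last,
          wpTo, pullback.lift_snd]
      · rw [Category.assoc, Category.id_comp, wpFrom, WidePullback.lift_π,
          Fin.lastCases_castSucc, wpTo, pullback.lift_fst_assoc, WidePullback.lift_π]
    · rw [Category.assoc, Category.id_comp, wpFrom, WidePullback.lift_base, wpTo,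
        pullback.lift_fst_assoc, WidePullback.lift_base]
  inv_hom_id := by
    apply pullback.hom_ext
    · rw [Category.assoc, Category.id_comp, wpTo, pullback.lift_fst]
      apply WidePullback.hom_ext
      · intro j
        rw [Category.assoc, WidePullback.lift_π, wpFrom, WidePullback.lift_π,
          Fin.lastCases_castSucc]
      · rw [Category.assoc, WidePullback.lift_base, wpFrom, WidePullback.lift_base]
    · rw [Category.assoc, Category.id_comp, wpTo, pullback.lift_snd, wpFrom, WidePullback.lift_π,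
        Fin.lastCases_last]

variable {𝒦 : Sheaf J (Type u) → Prop}

lemma wp_mem (h : Adm 𝒦) (hK' : 𝒦 K') (hK : 𝒦 K) : ∀ n, 𝒦 (WP f n)
  | 0 => h.iso (wpZeroIso f).symm hK'
  | n + 1 => h.iso (wpSuccIso f n).symm (h.pb _ _ (wp_mem h hK' hK n) hK' hK)

end WPIso

variable (𝒦 : Sheaf J (Type u) → Prop)

/-- Čech cocycles of `F` for epimorphisms between members of `𝒦` are coboundaries -/
def HomAcycR (F : Sheaf J AddCommGrpCat.{u}) : Prop :=
  ∀ (K' K : Sheaf J (Type u)) (f : K' ⟶ K), 𝒦 K' → 𝒦 K → Epi f → ∀ (q : ℕ)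
    (c : (Φ J).obj (WP f (q + 1)) ⟶ F),
    dΦ f (q + 1) ≫ c = 0 → ∃ b : (Φ J).obj (WP f q) ⟶ F, dΦ f q ≫ b = c

lemma homAcycR_of_homAcyc (F : Sheaf J AddCommGrpCat.{u}) (h : HomAcyc F) : HomAcycR 𝒦 F :=
  fun K' K f _ _ hf q c hc => h K' K f hf q c hc

lemma homAcycR_of_injective (I : Sheaf J AddCommGrpCat.{u}) [Injective I] : HomAcycR 𝒦 I :=
  homAcycR_of_homAcyc 𝒦 I (homAcyc_of_injective I)

variable {𝒦}

/-- descent of a lift along a cover in `𝒦` -/
theorem exists_lift_of_cover (S : ShortComplex (Sheaf J AddCommGrpCat.{u})) (hS : S.ShortExact)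
    (hF : HomAcycR 𝒦 S.X₁) {K' K : Sheaf J (Type u)} (p : K' ⟶ K) (hK' : 𝒦 K') (hK : 𝒦 K)
    [Epi p] (s : (Φ J).obj K ⟶ S.X₃) (t' : (Φ J).obj K' ⟶ S.X₂)
    (ht' : t' ≫ S.g = (Φ J).map p ≫ s) :
    ∃ t : (Φ J).obj K ⟶ S.X₂, t ≫ S.g = s := by
  haveI : Mono S.f := hS.mono_f
  let π₀ : WP p 0 ⟶ _ := WidePullback.π (fun _ : Fin 1 => p) 0
  have haug : augΦ p = (Φ J).map π₀ ≫ (Φ J).map p := by
    rw [← Functor.map_comp, WidePullback.π_arrow]
    exact augΦ_eq p
  let t₀ : (Φ J).obj (WP p 0) ⟶ S.X₂ := (Φ J).map π₀ ≫ t'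
  have ht₀ : t₀ ≫ S.g = augΦ p ≫ s := by
    rw [haug, Category.assoc, Category.assoc, ht']
  let z : (Φ J).obj (WP p 1) ⟶ S.X₂ := dΦ p 0 ≫ t₀
  have hz : z ≫ S.g = 0 := by
    rw [Category.assoc, ht₀, ← Category.assoc, dΦ_aug, zero_comp]
  let zF : (Φ J).obj (WP p 1) ⟶ S.X₁ := hS.exact.lift z hz
  have hzF : zF ≫ S.f = z := hS.exact.lift_f z hz
  have hcoc : dΦ p 1 ≫ zF = 0 := by
    rw [← cancel_mono S.f, Category.assoc, hzF, zero_comp]
    show dΦ p 1 ≫ dΦ p 0 ≫ t₀ = 0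
    rw [← Category.assoc, dΦ_comp, zero_comp]
  obtain ⟨u, hu⟩ := hF _ K p hK' hK inferInstance 0 zF hcoc
  let t₁ : (Φ J).obj (WP p 0) ⟶ S.X₂ := t₀ - u ≫ S.f
  have ht₁ : dΦ p 0 ≫ t₁ = 0 := by
    have h' : dΦ p 0 ≫ u ≫ S.f = z := by rw [← Category.assoc, hu, hzF]
    show dΦ p 0 ≫ (t₀ - u ≫ S.f) = 0
    rw [Preadditive.comp_sub, h']
    exact sub_self _
  let tb : (Φ J).obj K ⟶ S.X₂ := (S₀'_exact p).desc t₁ ht₁
  have htb : augΦ p ≫ tb = t₁ := (S₀'_exact p).g_desc t₁ ht₁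
  refine ⟨tb, ?_⟩
  rw [← cancel_epi (augΦ p), ← Category.assoc, htb, Preadditive.sub_comp, ht₀, Category.assoc,
    S.zero, comp_zero, sub_zero]

/-- (T1) lifting of morphisms `ℤ[K]^# ⟶ X₃` for `K ∈ 𝒦` -/
theorem exists_liftR (h : Adm 𝒦) (S : ShortComplex (Sheaf J AddCommGrpCat.{u}))
    (hS : S.ShortExact) (hF : HomAcycR 𝒦 S.X₁) (K : Sheaf J (Type u)) (hK : 𝒦 K)
    (s : (Φ J).obj K ⟶ S.X₃) :
    ∃ t : (Φ J).obj K ⟶ S.X₂, t ≫ S.g = s := by
  let adj := Sheaf.adjunction J AddCommGrpCat.adj.{u}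
  haveI : Epi S.g := hS.epi_g
  haveI : Sheaf.IsLocallySurjective S.g :=
    (Sheaf.isLocallySurjective_iff_epi' (φ := S.g)).2 inferInstance
  haveI : Epi ((sheafCompose J (forget AddCommGrpCat.{u})).map S.g) := inferInstance
  let s' : K ⟶ (sheafCompose J (forget AddCommGrpCat.{u})).obj S.X₃ := adj.homEquiv K S.X₃ s
  let p : pullback s' ((sheafCompose J (forget AddCommGrpCat.{u})).map S.g) ⟶ K :=
    pullback.fst _ _
  haveI : Epi p := epi_pullback_fst _ _
  let t' : (Φ J).obj (pullback s' ((sheafCompose J (forget AddCommGrpCat.{u})).map S.g)) ⟶ S.X₂ :=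
    (adj.homEquiv _ S.X₂).symm (pullback.snd _ _)
  have ht' : t' ≫ S.g = (Φ J).map p ≫ s := by
    apply (adj.homEquiv _ S.X₃).injective
    rw [adj.homEquiv_naturality_right, adj.homEquiv_naturality_left, Equiv.apply_symm_apply]
    exact pullback.condition.symm
  obtain ⟨K', k, hK', hk⟩ := h.ref p hK inferInstance
  haveI := hk
  refine exists_lift_of_cover S hS hF (k ≫ p) hK' hK s ((Φ J).map k ≫ t') ?_
  rw [Category.assoc, ht', Functor.map_comp, Category.assoc]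

open Groth.Agent.Helper9.SieveAcyc in
/-- (T2) `H¹(K, F) = 0` for `K ∈ 𝒦` -/
lemma subsingleton_H1R (h : Adm 𝒦) (F : Sheaf J AddCommGrpCat.{u}) (hF : HomAcycR 𝒦 F)
    (K : Sheaf J (Type u)) (hK : 𝒦 K) : Subsingleton (CohCx.HK K F 1) := by
  refine subsingleton_of_forall_eq 0 ?_
  intro (x : Ext.{u} ((Φ J).obj K) F 1)
  haveI : Injective (Ssh F).X₂ := by dsimp [Ssh]; infer_instance
  have hx : x.comp (Ext.mk₀ (Ssh F).f) (add_zero 1) = 0 := Ext.eq_zero_of_injective _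
  obtain ⟨y, hy⟩ := Ext.covariant_sequence_exact₁ _ (hSsh F) x hx (zero_add 1)
  obtain ⟨s, rfl⟩ := (Ext.mk₀_bijective _ _).2 y
  obtain ⟨t, rfl⟩ := exists_liftR h (Ssh F) (hSsh F) hF K hK s
  rw [← hy, ← Ext.mk₀_comp_mk₀, Ext.comp_assoc _ _ _ (add_zero 0) (zero_add 1) (by omega),
    (hSsh F).comp_extClass, Ext.comp_zero]

/-- (T3) the quotient `I/F` is again Čech-acyclic -/
lemma homAcycR_X₃ (h : Adm 𝒦) (S : ShortComplex (Sheaf J AddCommGrpCat.{u})) (hS : S.ShortExact)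
    [Injective S.X₂] (hF : HomAcycR 𝒦 S.X₁) : HomAcycR 𝒦 S.X₃ := by
  intro K' K f hK' hK hf q c hc
  haveI : Mono S.f := hS.mono_f
  have hI : HomAcycR 𝒦 S.X₂ := homAcycR_of_injective 𝒦 _
  obtain ⟨b, hb⟩ := exists_liftR h S hS hF (WP f (q + 1)) (wp_mem f h hK' hK (q + 1)) c
  have hdb : (dΦ f (q + 1) ≫ b) ≫ S.g = 0 := by
    rw [Category.assoc, hb]
    exact hc
  let a : (Φ J).obj (WP f (q + 2)) ⟶ S.X₁ := hS.exact.lift _ hdb
  have ha : a ≫ S.f = dΦ f (q + 1) ≫ b := hS.exact.lift_f _ hdb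
  have hda : dΦ f (q + 2) ≫ a = 0 := by
    rw [← cancel_mono S.f, Category.assoc, ha, ← Category.assoc, dΦ_comp, zero_comp,
      zero_comp]
  obtain ⟨a', ha'⟩ := hF K' K f hK' hK hf (q + 1) a hda
  let b' : (Φ J).obj (WP f (q + 1)) ⟶ S.X₂ := b - a' ≫ S.f
  have hb'd : dΦ f (q + 1) ≫ b' = 0 := by
    have h' : dΦ f (q + 1) ≫ a' ≫ S.f = dΦ f (q + 1) ≫ b := by
      rw [← Category.assoc, ha', ha]
    show dΦ f (q + 1) ≫ (b - a' ≫ S.f) = 0
    rw [Preadditive.comp_sub, h']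
    exact sub_self _
  have hb'g : b' ≫ S.g = c := by
    show (b - a' ≫ S.f) ≫ S.g = c
    rw [Preadditive.sub_comp, Category.assoc, S.zero, comp_zero, sub_zero, hb]
  obtain ⟨b'', hb''⟩ := hI K' K f hK' hK hf q b' hb'd
  refine ⟨b'' ≫ S.g, ?_⟩
  rw [← Category.assoc, hb'', hb'g]

open Groth.Agent.Helper9.SieveAcyc in
lemma homAcycR_Qsh (h : Adm 𝒦) (F : Sheaf J AddCommGrpCat.{u}) (hF : HomAcycR 𝒦 F) :
    HomAcycR 𝒦 (Qsh F) := by
  haveI : Injective (Ssh F).X₂ := by dsimp [Ssh]; infer_instance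
  exact homAcycR_X₃ h (Ssh F) (hSsh F) hF

open Groth.Agent.Helper9.SieveAcyc in
/-- Cartan's criterion relative to `𝒦` -/
theorem mainR (h : Adm 𝒦) : ∀ (p : ℕ) (F : Sheaf J AddCommGrpCat.{u}), HomAcycR 𝒦 F →
    ∀ K : Sheaf J (Type u), 𝒦 K → Subsingleton (CohCx.HK K F (p + 1))
  | 0, F, hF, K, hK => subsingleton_H1R h F hF K hK
  | p + 1, F, hF, K, hK => by
    haveI := mainR h p (Qsh F) (homAcycR_Qsh h F hF) K hK
    refine subsingleton_of_forall_eq 0 ?_
    intro (x : Ext.{u} ((Φ J).obj K) F (p + 1 + 1))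
    haveI : Injective (Ssh F).X₂ := by dsimp [Ssh]; infer_instance
    have hx : x.comp (Ext.mk₀ (Ssh F).f) (add_zero (p + 1 + 1)) = 0 := Ext.eq_zero_of_injective _
    obtain ⟨y, hy⟩ := Ext.covariant_sequence_exact₁ _ (hSsh F) x hx rfl
    have hy0 : y = 0 := Subsingleton.elim (α := CohCx.HK K (Qsh F) (p + 1)) _ _
    rw [← hy, hy0, Ext.zero_comp]

/-- converse: a sheaf acyclic on `𝒦` is Čech-acyclic relative to `𝒦` -/
theorem homAcycR_of_acyc (h : Adm 𝒦) (F : Sheaf J AddCommGrpCat.{u})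
    (hF : ∀ K : Sheaf J (Type u), 𝒦 K → ∀ p : ℕ, Subsingleton (CohCx.HK K F (p + 1))) :
    HomAcycR 𝒦 F := by
  intro K' K f hK' hK hf q c hc
  haveI := hf
  have hacyc : ∀ n p, Subsingleton (Ext.{u} ((Cc f).X n) F (p + 1)) :=
    fun n p => hF _ (wp_mem f h hK' hK n) p
  have h0 : ∀ p, Subsingleton (Ext.{u} (AcycRes.W (Cc f) 0) F (p + 1)) := fun p =>
    SieveAcyc.subsingleton_ext_of_iso_left (CechNerveAcyc.isoW0 f).symm F (p + 1) (hF K hK p)
  exact AcycRes.exists_of_cocycle F (Cc f) (Cc_exact f) hacyc h0 q c hc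

end Groth.Agent.Helper6.CF
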