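import Mathlib
import Groth.Prelude.Def_SGA4c
import Groth.Prelude.Def_ToposFin2
import Groth.Agent.Helper2.TF15
import Groth.Agent.Helper6.FiltCoh
import Groth.Agent.S3074

set_option backward.isDefEq.respectTransparency false
set_option backward.isDefEq.respectTransparency.types false
set_option autoImplicit false

universe u

open CategoryTheory CategoryTheory.Limits Opposite
open Groth.Agent.Helper2.TF1

namespace Groth.Agent.Helper6.FPTopos

attribute [local instance] Cardinal.fact_isRegular_aleph0

variable {C : Type u} [SmallCategory C] {J : GrothendieckTopology C}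

/-- `ToposFin.IsFP` is Mathlib's finite presentability. -/
lemma isFP_iff (X : Sheaf J (Type u)) : ToposFin.IsFP X ↔ IsFinitelyPresentable.{u} X := by
  rw [isFinitelyPresentable_iff_preservesFilteredColimitsOfSize]
  constructor
  · intro h
    constructor
    intro I _ _
    constructor
    intro D
    haveI : IsIso (colimit.post D (coyoneda.obj (op X))) := (isIso_iff_bijective _).2 (h I D)
    exact preservesColimit_of_isIso_post (coyoneda.obj (op X)) D
  · intro h I _ _ D
    haveI := h.preserves_filtered_colimits I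
    exact (isIso_iff_bijective _).1 inferInstance

/-- the sections of a sheaf give a locally jointly surjective family -/
lemma ljs_hat (X : Sheaf J (Type u)) :
    LJS (fun p : (Σ U : C, X.obj.obj (op U)) => CanTop.r J p.1) (fun p => CanTop.hat X p.2) := by
  intro U x
  refine ⟨⊤, J.top_mem U, ?_⟩
  intro V g _
  exact ⟨⟨V, X.obj.map g.op x⟩, FiltQC.ξ V, FiltQC.hat_ξ _⟩

/-- A small generating family: data. -/
structure GenFam (J : GrothendieckTopology C) where
  A : Type u
  G : A → Sheaf J (Type u)
  gen : ∀ X : Sheaf J (Type u), ∃ (ι : Type u) (a : ι → A) (π : ∀ i, G (a i) ⟶ X),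
    LJS (fun i => G (a i)) π

/-- a generating class contains a small generating family -/
lemma exists_genFam (S : Set (Sheaf J (Type u))) (hgen : ToposFin.IsGenerating S) :
    ∃ F : GenFam J, ∀ a, F.G a ∈ S := by
  choose ιU FU πU hFU hπU using
    fun U : C => Groth.Agent.Helper2.TF15.isGenerating_ljs hgen (CanTop.r J U)
  refine ⟨⟨Σ U : C, ιU U, fun a => FU a.1 a.2, ?_⟩, fun a => hFU a.1 a.2⟩
  intro X
  refine ⟨Σ (p : Σ U : C, X.obj.obj (op U)), ιU p.1, fun q => ⟨q.1.1, q.2⟩,
    fun q => πU q.1.1 q.2 ≫ CanTop.hat X q.1.2, ?_⟩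
  exact (ljs_hat X).comp (fun p i => FU p.1 i) (fun p i => πU p.1 i) (fun p => hπU p.1)

variable (F : GenFam J)

lemma isStrongGenerator : (ObjectProperty.ofObj F.G).IsStrongGenerator := by
  rw [ObjectProperty.isStrongGenerator_iff]
  refine ⟨?_, ?_⟩
  · intro X Y f g h
    obtain ⟨ι, a, π, hπ⟩ := F.gen X
    exact hπ.hom_ext f g (fun i => h _ (ObjectProperty.ofObj_apply F.G (a i)) (π i))
  · intro X Y i _ hi
    obtain ⟨ι, a, π, hπ⟩ := F.gen Y
    have hepi : Epi i := by
      rw [epi_iff_ljs]
      choose φ hφ using fun k => hi (F.G (a k)) (ObjectProperty.ofObj_apply F.G (a k)) (π k)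
      exact hπ.of_factor _ _ (fun k => ⟨PUnit.unit, φ k, hφ k⟩)
    exact isIso_of_mono_of_epi i

/-- finitely presentable objects are the closure of the generators under finite colimits -/
theorem fp_eq_closure (hfp : ∀ a, ToposFin.IsFP (F.G a)) :
    isCardinalPresentable (Sheaf J (Type u)) Cardinal.aleph0.{u} =
      (ObjectProperty.ofObj F.G).colimitsCardinalClosure Cardinal.aleph0.{u} :=
  IsStrongGenerator.colimitsCardinalClosure_eq_isCardinalPresentable (isStrongGenerator F)
    (by
      rintro _ ⟨a⟩
      exact (isFP_iff _).1 (hfp a))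

/-- the closure of the generators is contained in any class containing them which is closed
under isomorphisms and finite colimits -/
lemma closure_le (Q : ObjectProperty (Sheaf J (Type u))) [Q.IsClosedUnderIsomorphisms]
    (hG : ∀ a, Q (F.G a))
    (hQ : ∀ (K : Type u) [SmallCategory K] [FinCategory K], Q.IsClosedUnderColimitsOfShape K) :
    (ObjectProperty.ofObj F.G).colimitsCardinalClosure Cardinal.aleph0.{u} ≤ Q := by
  apply ObjectProperty.colimitsCardinalClosure_le
  · intro K _ hK
    rw [hasCardinalLT_aleph0_iff, Arrow.finite_iff] at hK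
    obtain ⟨_⟩ := hK
    exact hQ K
  · rintro _ ⟨a⟩
    exact hG a

theorem mem_of_isFP (hfp : ∀ a, ToposFin.IsFP (F.G a))
    (Q : ObjectProperty (Sheaf J (Type u))) [Q.IsClosedUnderIsomorphisms]
    (hG : ∀ a, Q (F.G a))
    (hQ : ∀ (K : Type u) [SmallCategory K] [FinCategory K], Q.IsClosedUnderColimitsOfShape K)
    (X : Sheaf J (Type u)) (hX : ToposFin.IsFP X) : Q X := by
  apply closure_le F Q hG hQ
  rw [← fp_eq_closure F hfp]
  exact (isFP_iff X).1 hX

end Groth.Agent.Helper6.FPTopos
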