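import Mathlib
import Groth.Agent.Helper6.FPTopos

set_option backward.isDefEq.respectTransparency false
set_option backward.isDefEq.respectTransparency.types false
set_option autoImplicit false

universe u

open CategoryTheory CategoryTheory.Limits Opposite
open Groth.Agent.Helper2.TF1

namespace Groth.Agent.Helper6.FPTopos

attribute [local instance] Cardinal.fact_isRegular_aleph0

variable {C : Type u} [SmallCategory C] {J : GrothendieckTopology C}

section S5588

theorem main5588 (S : Set (Sheaf J (Type u))) (hqc : ∀ K ∈ S, ToposFin.IsQC K)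
    (hiso : ∀ ⦃K L : Sheaf J (Type u)⦄, K ∈ S → Nonempty (K ≅ L) → L ∈ S)
    (hgen : ToposFin.IsGenerating S) (hpb : ToposFin.ClosedUnderPullbacks S)
    (hcolim : ∀ (K : Type) [SmallCategory K] [FinCategory K] (D : K ⥤ Sheaf J (Type u)),
      (∀ k, D.obj k ∈ S) → colimit D ∈ S) :
    (∀ X : Sheaf J (Type u), X ∈ S ↔ ToposFin.IsCoherent X) ∧
    (∀ X : Sheaf J (Type u), ToposFin.IsFP X → ToposFin.IsCoherent X) := by
  have hcoh : ∀ X ∈ S, ToposFin.IsCoherent X := fun X hX =>
    ⟨hqc X hX, Groth.Agent.Helper2.TF15.isQS_of_mem hqc hgen hpb hX⟩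
  have hE : ToposFin.HasQCGenerators J :=
    Groth.Agent.Helper2.TF15.hasQCGenerators_of_generating hqc hgen
  have hfpcoh : ∀ X : Sheaf J (Type u), ToposFin.IsCoherent X → ToposFin.IsFP X :=
    fun X hX I _ _ D => FiltCoh.bijective_of_coherent D hE X hX
  obtain ⟨F, hF⟩ := exists_genFam S hgen
  let Q : ObjectProperty (Sheaf J (Type u)) := fun X => X ∈ S
  haveI : Q.IsClosedUnderIsomorphisms := ⟨fun e h => hiso h ⟨e⟩⟩
  have hQ0 : ∀ (K : Type) [SmallCategory K] [FinCategory K],
      Q.IsClosedUnderColimitsOfShape K := by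
    intro K _ _
    apply ObjectProperty.IsClosedUnderColimitsOfShape.mk'
    rintro _ ⟨D, hD⟩
    exact hcolim K D hD
  have hQ : ∀ (K : Type u) [SmallCategory K] [FinCategory K],
      Q.IsClosedUnderColimitsOfShape K := by
    intro K _ _
    haveI := hQ0 (FinCategory.AsType K)
    exact ObjectProperty.IsClosedUnderColimitsOfShape.of_equivalence (FinCategory.equivAsType K)
  have hmem : ∀ X : Sheaf J (Type u), ToposFin.IsFP X → X ∈ S := fun X hX =>
    mem_of_isFP F (fun a => hfpcoh _ (hcoh _ (hF a))) Q hF hQ X hX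
  exact ⟨fun X => ⟨hcoh X, fun h => hmem X (hfpcoh X h)⟩, fun X hX => hcoh X (hmem X hX)⟩

end S5588

section S5582

lemma isGenerating_coherent (hE : ToposFin.HasCoherentGenerators J) :
    ToposFin.IsGenerating {X : Sheaf J (Type u) | ToposFin.IsCoherent X} := by
  intro X
  obtain ⟨ι, F, π, hF, hπ⟩ := hE X
  exact ⟨ι, F, π, hF, (epi_sigma_iff_je π).1 hπ⟩

lemma hasQCGenerators_of_coh (hE : ToposFin.HasCoherentGenerators J) :
    ToposFin.HasQCGenerators J := fun X => by
  obtain ⟨ι, F, π, hF, hπ⟩ := hE X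
  exact ⟨ι, F, π, fun i => (hF i).1, hπ⟩

lemma isCoherent_of_iso {X Y : Sheaf J (Type u)} (e : X ≅ Y) (h : ToposFin.IsCoherent X) :
    ToposFin.IsCoherent Y :=
  ⟨Groth.Agent.Helper2.ToposQC.isQC_of_iso e.symm h.1, Groth.Agent.S3074.result.1 e.inv h.2⟩

lemma isCoherent_sigma {ι : Type u} [Finite ι] (f : ι → Sheaf J (Type u))
    (h : ∀ i, ToposFin.IsCoherent (f i)) : ToposFin.IsCoherent (∐ f) :=
  ⟨isQC_of_finite_ljs f (Sigma.ι f)
      (cofan_ljs (Cofan.mk _ (Sigma.ι f)) (coproductIsCoproduct f)) (fun i => (h i).1),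
    (Groth.Agent.S3074.result.2 f).2 (fun i => (h i).2)⟩

lemma isCoherent_of_retract {X Y : Sheaf J (Type u)} (i : X ⟶ Y) (r : Y ⟶ X) (h : i ≫ r = 𝟙 X)
    (hY : ToposFin.IsCoherent Y) : ToposFin.IsCoherent X := by
  haveI : Mono i := mono_of_mono_fac h
  haveI : Epi r := epi_of_epi_fac h
  exact ⟨isQC_of_finite_ljs (fun _ : PUnit.{1} => Y) (fun _ => r)
    ((epi_iff_ljs r).1 inferInstance) (fun _ => hY.1), Groth.Agent.S3074.result.1 i hY.2⟩

theorem main5582 (hE : ToposFin.HasCoherentGenerators J) :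
    ((∀ (X₀ X₁ : Sheaf J (Type u)) (a b : X₁ ⟶ X₀), ToposFin.IsCoherent X₀ →
        ToposFin.IsCoherent X₁ → ToposFin.IsCoherent (coequalizer a b)) ↔
      (∀ X : Sheaf J (Type u), ToposFin.IsFP X → ToposFin.IsCoherent X)) ∧
    ((∀ X : Sheaf J (Type u), ∃ (I : Type u) (_ : SmallCategory I) (_ : IsFiltered I)
        (D : I ⥤ Sheaf J (Type u)),
        (∀ i, ToposFin.IsCoherent (D.obj i)) ∧ Nonempty (X ≅ colimit D)) ↔
      (∀ X : Sheaf J (Type u), ToposFin.IsFP X → ToposFin.IsCoherent X)) := by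
  have hQC := hasQCGenerators_of_coh hE
  have hfpcoh : ∀ X : Sheaf J (Type u), ToposFin.IsCoherent X → ToposFin.IsFP X :=
    fun X hX I _ _ D => FiltCoh.bijective_of_coherent D hQC X hX
  obtain ⟨F, hF⟩ := exists_genFam _ (isGenerating_coherent hE)
  have hFfp : ∀ a, ToposFin.IsFP (F.G a) := fun a => hfpcoh _ (hF a)
  let Q : ObjectProperty (Sheaf J (Type u)) := fun X => ToposFin.IsCoherent X
  haveI : Q.IsClosedUnderIsomorphisms := ⟨fun e h => isCoherent_of_iso e h⟩
  have hS₂ : ObjectProperty.ofObj F.G ≤ isCardinalPresentable _ Cardinal.aleph0.{u} := by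
    rintro _ ⟨a⟩
    exact (isFP_iff _).1 (hFfp a)
  refine ⟨⟨?_, ?_⟩, ⟨?_, ?_⟩⟩
  · intro hco X hX
    refine mem_of_isFP F hFfp Q hF ?_ X hX
    intro K _ _
    apply ObjectProperty.IsClosedUnderColimitsOfShape.mk'
    rintro _ ⟨D, hD⟩
    let cc := colimitCoconeOfCoequalizerAndCoproduct D
    have e : colimit D ≅ cc.cocone.pt := colimit.isoColimitCocone cc
    refine isCoherent_of_iso e.symm ?_
    exact hco _ _ _ _ (isCoherent_sigma _ (fun k => hD k))
      (isCoherent_sigma _ (fun f => hD f.1.1))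
  · intro h X₀ X₁ a b h₀ h₁
    apply h
    rw [isFP_iff]
    haveI := isClosedUnderColimitsOfShape_isCardinalPresentable (Sheaf J (Type u))
      (κ := Cardinal.aleph0.{u}) (J := WalkingParallelPair)
      (by rw [hasCardinalLT_aleph0_iff]; infer_instance)
    exact ObjectProperty.prop_colimit (isCardinalPresentable (Sheaf J (Type u))
      Cardinal.aleph0.{u}) (parallelPair a b) (by
        rintro (_ | _)
        · exact (isFP_iff _).1 (hfpcoh _ h₁)
        · exact (isFP_iff _).1 (hfpcoh _ h₀))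
  · intro hfil X hX
    obtain ⟨I, hI1, hI2, D, hD, ⟨e⟩⟩ := hfil X
    letI := hI1
    haveI := hI2
    haveI : IsFinitelyPresentable.{u} X := (isFP_iff X).1 hX
    obtain ⟨j, p, hp⟩ := IsFinitelyPresentable.exists_hom_of_isColimit (colimit.isColimit D)
      (X := X) e.hom
    refine isCoherent_of_retract p (colimit.ι D j ≫ e.inv) ?_ (hD j)
    have hp' : p ≫ colimit.ι D j = e.hom := hp
    rw [← Category.assoc, hp', e.hom_inv_id]
  · intro h X
    have hS₁ := isStrongGenerator F
    haveI := hS₁.isDense_colimitsCardinalClosure_ι hS₂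
    have hgen := IsCardinalFilteredGenerator.of_isDense_ι
      ((ObjectProperty.ofObj F.G).colimitsCardinalClosure Cardinal.aleph0.{u}) Cardinal.aleph0.{u}
      ((ObjectProperty.ofObj F.G).colimitsCardinalClosure_le_isCardinalPresentable hS₂)
    obtain ⟨I, _, _, ⟨p⟩⟩ := hgen.exists_colimitsOfShape X
    haveI : IsFiltered I := isFiltered_of_isCardinalFiltered I Cardinal.aleph0.{u}
    refine ⟨I, inferInstance, inferInstance, p.diag, fun i => ?_,
      ⟨p.isColimit.coconePointUniqueUpToIso (colimit.isColimit _)⟩⟩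
    apply h
    rw [isFP_iff]
    exact ((ObjectProperty.ofObj F.G).colimitsCardinalClosure_le_isCardinalPresentable hS₂) _
      (p.prop_diag_obj i)

end S5582

end Groth.Agent.Helper6.FPTopos
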