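import Mathlib
import Groth.Prelude.Def_SGA4c
import Groth.Prelude.Def_ToposFin2
import Groth.Prelude.Def_CohCx
import Groth.Agent.Helper6.CF1
import Groth.Agent.Helper6.CF2
import Groth.Agent.Helper6.CF3
import Groth.Agent.Helper6.FPTopos2
import Groth.Agent.Helper2.TF16

set_option backward.isDefEq.respectTransparency false
set_option backward.isDefEq.respectTransparency.types false
set_option autoImplicit false

/-!
# Cohomology of coherent objects commutes with filtered colimits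
-/

universe u

open CategoryTheory CategoryTheory.Limits Opposite Abelian
open Groth.Agent.Helper9 Groth.Agent.Helper9.CechNerveSet Groth.Agent.Helper9.CechNerveRes
  Groth.Agent.Helper9.CechNerveCartan
open Groth.Agent.Helper2 Groth.Agent.Helper2.TF1 Groth.Agent.Helper2.TF15 Groth.Agent.Helper2.TF16

namespace Groth.Agent.Helper6.CF

variable {C : Type u} [SmallCategory C] {J : GrothendieckTopology C}
  {𝒦 : Sheaf J (Type u) → Prop}

theorem homAcycR_colimit (h : Adm 𝒦) (hfh : ∀ X, 𝒦 X → FHab X) {Λ : Type u} [SmallCategory Λ]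
    [IsFiltered Λ] (I : Λ ⥤ Sheaf J AddCommGrpCat.{u}) (hI : ∀ l, HomAcycR 𝒦 (I.obj l)) :
    HomAcycR 𝒦 (colimit I) := by
  intro K' K f hK' hK hf q c hc
  obtain ⟨l, cl, hcl⟩ := (hfh _ (wp_mem f h hK' hK (q + 1)) Λ I).1 c
  have h1 : (dΦ f (q + 1) ≫ cl) ≫ colimit.ι I l = 0 ≫ colimit.ι I l := by
    rw [Category.assoc, hcl, hc, zero_comp]
  obtain ⟨m, a, ha⟩ := (hfh _ (wp_mem f h hK' hK (q + 2)) Λ I).2 l _ _ h1
  obtain ⟨b, hb⟩ := hI m K' K f hK' hK hf q (cl ≫ I.map a)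
    (by rw [← Category.assoc, ha, zero_comp])
  refine ⟨b ≫ colimit.ι I m, ?_⟩
  rw [← Category.assoc, hb, Category.assoc, colimit.w, hcl]

theorem surjInj (h : Adm 𝒦) (hfh : ∀ X, 𝒦 X → FH X) (K : Sheaf J (Type u)) (hK : 𝒦 K)
    (Λ : Type u) [SmallCategory Λ] [IsFiltered Λ] :
    ∀ (q : ℕ) (D : Λ ⥤ Sheaf J AddCommGrpCat.{u}),
      Surj ((Φ J).obj K) q D ∧ Inj ((Φ J).obj K) q D := by
  have hfhab : ∀ X, 𝒦 X → FHab X := fun X hX => fhab_of_fh X (hfh X hX)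
  refine all ((Φ J).obj K) (fun D => ?_) (fun q I hI x => ?_)
  · refine base _ D (hfhab K hK Λ D).1 (fun l y hy => ?_)
    obtain ⟨m, a, ha⟩ := (hfhab K hK Λ D).2 l y 0 (by rw [hy, zero_comp])
    exact ⟨m, a, by rw [ha, zero_comp]⟩
  · haveI := mainR h q (colimit I)
      (homAcycR_colimit h hfhab I (fun l => homAcycR_of_injective 𝒦 _)) K hK
    exact Subsingleton.elim (α := CohCx.HK K (colimit I) (q + 1)) _ _

theorem preserves_HK (h : Adm 𝒦) (hfh : ∀ X, 𝒦 X → FH X) (K : Sheaf J (Type u)) (hK : 𝒦 K)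
    (Λ : Type u) [SmallCategory Λ] [IsFiltered Λ] (q : ℕ) :
    PreservesColimitsOfShape Λ ((extFunctor.{u} q).obj (op ((Φ J).obj K))) :=
  preserves _ q (surjInj h hfh K hK Λ q)

section Instances

variable {S : Set (ToposFin.Sh J)} (hqc : ∀ X ∈ S, ToposFin.IsQC X)
  (hgen : ToposFin.IsGenerating S) (hpb : ToposFin.ClosedUnderPullbacks S)

include hqc hgen hpb in
lemma isCoherent_of_mem {K : ToposFin.Sh J} (hK : K ∈ S) : ToposFin.IsCoherent K :=
  ⟨hqc K hK, isQS_of_mem hqc hgen hpb hK⟩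

include hqc hgen hpb in
lemma ref_aux {X P : Sheaf J (Type u)} (g : P ⟶ X) (hX : ToposFin.IsQC X) [Epi g] :
    ∃ (K' : Sheaf J (Type u)) (k : K' ⟶ P), ToposFin.IsCoherent K' ∧ Epi (k ≫ g) := by
  obtain ⟨ι, F, π, hF, hπ⟩ := isGenerating_ljs hgen P
  haveI : Epi (Sigma.desc π) := (epi_sigma_iff_ljs π).2 hπ
  have e1 : Sigma.desc (fun i => π i ≫ g) = Sigma.desc π ≫ g := by
    apply Sigma.hom_ext
    intro i
    rw [Sigma.ι_desc, Sigma.ι_desc_assoc]
  have hepi : Epi (Sigma.desc (fun i => π i ≫ g)) := by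
    rw [e1]
    infer_instance
  obtain ⟨s, hs⟩ := hX ι F (fun i => π i ≫ g) hepi
  refine ⟨∐ (fun i : s => F i), Sigma.desc (fun i : s => π i),
    FPTopos.isCoherent_sigma (fun i : s => F i)
      (fun i => isCoherent_of_mem hqc hgen hpb (hF i)), ?_⟩
  have e2 : Sigma.desc (fun i : s => π i) ≫ g = Sigma.desc (fun i : s => π i ≫ g) := by
    apply Sigma.hom_ext
    intro i
    rw [Sigma.ι_desc, Sigma.ι_desc_assoc]
  rw [e2]
  exact hs

include hqc hgen hpb in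
theorem adm_algebraic (heq : ToposFin.ClosedUnderEqualizers S) :
    Adm (fun X : Sheaf J (Type u) => ToposFin.IsCoherent X) where
  iso e h := FPTopos.isCoherent_of_iso e h
  pb {A B X} a b hA hB hX :=
    ⟨hX.2 _ _ a b hA.1 hB.1,
      isQS_of_isQSHom (pullback.fst a b)
        (isQSHom_of_isPullback (IsPullback.of_hasPullback a b).flip
          (isQSHom_of_isQS_source hqc hgen hpb heq b hB.2)) hA.2⟩
  ref g hX _ := ref_aux hqc hgen hpb g hX.1

include hqc hgen hpb in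
theorem adm_over :
    Adm (fun X : Sheaf J (Type u) => ToposFin.IsCoherent X ∧ ∃ K ∈ S, Nonempty (X ⟶ K)) where
  iso e h := ⟨FPTopos.isCoherent_of_iso e h.1, by
    obtain ⟨K, hK, ⟨w⟩⟩ := h.2
    exact ⟨K, hK, ⟨e.inv ≫ w⟩⟩⟩
  pb {A B X} a b hA hB hX := by
    obtain ⟨K₀, hK₀, ⟨w⟩⟩ := hX.2
    have hb : ToposFin.IsQSHom b :=
      isQSHom_of_comp b w (isQSHom_to_mem hqc hgen hpb hK₀ (b ≫ w) hB.1.2)
    refine ⟨⟨hX.1.2 _ _ a b hA.1.1 hB.1.1,
      isQS_of_isQSHom (pullback.fst a b)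
        (isQSHom_of_isPullback (IsPullback.of_hasPullback a b).flip hb) hA.1.2⟩, ?_⟩
    exact ⟨K₀, hK₀, ⟨pullback.fst a b ≫ a ≫ w⟩⟩
  ref {X P} g hX _ := by
    obtain ⟨K', k, hK', hk⟩ := ref_aux hqc hgen hpb g hX.1.1
    obtain ⟨K₀, hK₀, ⟨w⟩⟩ := hX.2
    exact ⟨K', k, ⟨hK', K₀, hK₀, ⟨k ≫ g ≫ w⟩⟩, hk⟩

end Instances

end Groth.Agent.Helper6.CF
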