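import Mathlib
import Groth.Prelude.Def_SGA4c
import Groth.Prelude.Def_ToposFin2
import Groth.Prelude.Def_CohCx
import Groth.Agent.Helper6.CF4

set_option backward.isDefEq.respectTransparency false
set_option backward.isDefEq.respectTransparency.types false
set_option autoImplicit false

/-!
# Global cohomology and cohomology with supports commute with filtered colimits
-/

universe u

open CategoryTheory CategoryTheory.Limits Opposite Abelian
open Groth.Agent.Helper9 Groth.Agent.Helper9.CechNerveSet Groth.Agent.Helper9.CechNerveRes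
  Groth.Agent.Helper9.CechNerveCartan

namespace Groth.Agent.Helper6.CF

variable {C : Type u} [SmallCategory C] (J : GrothendieckTopology C)

section Const

/-- sections of the terminal sheaf are terminal -/
noncomputable def termSect (V : Cᵒᵖ) :
    IsTerminal ((⊤_ (Sheaf J (Type u))).obj.obj V) :=
  IsTerminal.isTerminalObj (sheafToPresheaf J (Type u) ⋙ (evaluation Cᵒᵖ (Type u)).obj V) _
    terminalIsTerminal

/-- the terminal sheaf is the constant presheaf `PUnit` -/
noncomputable def termIso :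
    (⊤_ (Sheaf J (Type u))).obj ≅ (Functor.const Cᵒᵖ).obj (PUnit.{u + 1} : Type u) :=
  NatIso.ofComponents (fun V => (termSect J V).uniqueUpToIso Types.isTerminalPUnit)
    (fun _ => Types.isTerminalPUnit.hom_ext _ _)

/-- `ℤ[PUnit] ≅ ℤ` -/
noncomputable def freePUnitIso :
    AddCommGrpCat.free.{u}.obj (PUnit.{u + 1} : Type u) ≅ AddCommGrpCat.of (ULift.{u} ℤ) :=
  AddEquiv.toAddCommGrpIso (X := AddCommGrpCat.free.{u}.obj (PUnit.{u + 1} : Type u))
    (Y := AddCommGrpCat.of (ULift.{u} ℤ))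
    ((FreeAbelianGroup.uniqueEquiv (PUnit.{u + 1})).trans AddEquiv.ulift.symm)

/-- the constant sheaf `ℤ` is the free abelian sheaf on the terminal sheaf -/
noncomputable def constIso :
    (constantSheaf J AddCommGrpCat.{u}).obj (AddCommGrpCat.of (ULift.{u} ℤ)) ≅
      (Φ J).obj (⊤_ (Sheaf J (Type u))) :=
  (presheafToSheaf J AddCommGrpCat.{u}).mapIso
    ((Functor.isoWhiskerRight (termIso J) AddCommGrpCat.free.{u} ≪≫
      Functor.constComp _ _ _ ≪≫ (Functor.const Cᵒᵖ).mapIso freePUnitIso).symm)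

end Const

variable {J}

theorem preserves_functorH {𝒦 : Sheaf J (Type u) → Prop} (h : Adm 𝒦) (hfh : ∀ X, 𝒦 X → FH X)
    (hT : 𝒦 (⊤_ (Sheaf J (Type u)))) (Λ : Type u) [SmallCategory Λ] [IsFiltered Λ] (q : ℕ) :
    PreservesColimitsOfShape Λ
      (Sheaf.functorH J q : Sheaf J AddCommGrpCat.{u} ⥤ AddCommGrpCat.{u}) := by
  haveI := preserves_HK h hfh _ hT Λ q
  have h2 : PreservesColimitsOfShape Λ ((extFunctor.{u} q).obj
      (op ((constantSheaf J AddCommGrpCat.{u}).obj (AddCommGrpCat.of (ULift.{u} ℤ))))) :=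
    preservesColimitsOfShape_of_natIso ((extFunctor.{u} q).mapIso (constIso J).op)
  exact h2

section Supports

variable {𝒦 : Sheaf J (Type u) → Prop} (h : Adm 𝒦) (hfh : ∀ X, 𝒦 X → FH X)
  (U : Sheaf J (Type u)) [Mono (terminal.from U)]

instance mono_Φ_map {X Y : Sheaf J (Type u)} (f : X ⟶ Y) [Mono f] : Mono ((Φ J).map f) := by
  haveI : Mono ((sheafToPresheaf J (Type u)).map f) := inferInstance
  haveI : Mono (((Functor.whiskeringRight Cᵒᵖ _ _).obj AddCommGrpCat.free.{u}).map
      ((sheafToPresheaf J (Type u)).map f)) := by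
    rw [NatTrans.mono_iff_mono_app]
    intro V
    haveI : Mono (((sheafToPresheaf J (Type u)).map f).app V) :=
      (NatTrans.mono_iff_mono_app _).1 inferInstance V
    exact inferInstanceAs (Mono (AddCommGrpCat.free.{u}.map
      (((sheafToPresheaf J (Type u)).map f).app V)))
  exact inferInstanceAs (Mono ((presheafToSheaf J AddCommGrpCat.{u}).map
    (((Functor.whiskeringRight Cᵒᵖ _ _).obj AddCommGrpCat.free.{u}).map
      ((sheafToPresheaf J (Type u)).map f))))

/-- `0 → ℤ[U] → ℤ[e] → ℤ/ℤ_U → 0` -/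
noncomputable def Sq : ShortComplex (Sheaf J AddCommGrpCat.{u}) :=
  ShortComplex.mk ((Φ J).map (terminal.from U)) (cokernel.π ((Φ J).map (terminal.from U)))
    (cokernel.condition _)

lemma hSq : (Sq U).ShortExact :=
  ShortComplex.ShortExact.mk' (ShortComplex.exact_cokernel _)
    (inferInstanceAs (Mono ((Φ J).map (terminal.from U))))
    (inferInstanceAs (Epi (cokernel.π ((Φ J).map (terminal.from U)))))

include h hfh in
theorem surjInj_quot (hT : 𝒦 (⊤_ (Sheaf J (Type u)))) (hU : 𝒦 U)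
    (Λ : Type u) [SmallCategory Λ] [IsFiltered Λ] :
    ∀ (q : ℕ) (D : Λ ⥤ Sheaf J AddCommGrpCat.{u}),
      Surj (ToposFin.quotZ U) q D ∧ Inj (ToposFin.quotZ U) q D := by
  have hfhab : ∀ X, 𝒦 X → FHab X := fun X hX => fhab_of_fh X (hfh X hX)
  let j : (Φ J).obj U ⟶ (Φ J).obj (⊤_ (Sheaf J (Type u))) := (Φ J).map (terminal.from U)
  let π : (Φ J).obj (⊤_ (Sheaf J (Type u))) ⟶ ToposFin.quotZ U := cokernel.π j
  have hjπ : j ≫ π = 0 := cokernel.condition j
  refine all (ToposFin.quotZ U) (fun D => ?_) (fun q I hI x => ?_)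
  · refine base _ D (fun x => ?_) (fun l y hy => ?_)
    · obtain ⟨l, y, hy⟩ := (hfhab _ hT Λ D).1 (π ≫ x)
      have h1 : (j ≫ y) ≫ colimit.ι D l = 0 ≫ colimit.ι D l := by
        rw [Category.assoc, hy, ← Category.assoc, hjπ, zero_comp, zero_comp]
      obtain ⟨m, a, ha⟩ := (hfhab _ hU Λ D).2 l _ _ h1
      have h2 : j ≫ y ≫ D.map a = 0 := by
        rw [← Category.assoc, ha, zero_comp]
      refine ⟨m, cokernel.desc j (y ≫ D.map a) h2, ?_⟩
      rw [← cancel_epi π]
      show cokernel.π j ≫ cokernel.desc j (y ≫ D.map a) h2 ≫ colimit.ι D m = π ≫ x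
      rw [cokernel.π_desc_assoc, Category.assoc, colimit.w, hy]
    · have h1 : (π ≫ y) ≫ colimit.ι D l = 0 ≫ colimit.ι D l := by
        rw [Category.assoc, hy, comp_zero, zero_comp]
      obtain ⟨m, a, ha⟩ := (hfhab _ hT Λ D).2 l _ _ h1
      refine ⟨m, a, ?_⟩
      rw [← cancel_epi π, comp_zero, ← Category.assoc, ha, zero_comp]
  · have hac : HomAcycR 𝒦 (colimit I) :=
      homAcycR_colimit h hfhab I (fun l => homAcycR_of_injective 𝒦 _)
    have hx1 : (Ext.mk₀ (Sq U).g).comp x (zero_add (q + 1)) = 0 := by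
      haveI := mainR h q (colimit I) hac _ hT
      exact Subsingleton.elim (α := CohCx.HK (⊤_ (Sheaf J (Type u))) (colimit I) (q + 1)) _ _
    obtain ⟨x₁, hx₁⟩ := Ext.contravariant_sequence_exact₃ (hSq U) _ x hx1 (add_comm 1 q)
    rw [← hx₁]
    cases q with
    | zero =>
      obtain ⟨s, rfl⟩ := (Ext.mk₀_bijective _ _).2 x₁
      obtain ⟨l, sl, hsl⟩ := (hfhab _ hU Λ I).1 s
      haveI := hI l
      obtain ⟨s', hs'⟩ : ∃ s' : (Φ J).obj (⊤_ (Sheaf J (Type u))) ⟶ I.obj l, j ≫ s' = sl :=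
        ⟨Injective.factorThru sl j, Injective.comp_factorThru sl j⟩
      have hs : s = (Sq U).f ≫ (s' ≫ colimit.ι I l) := by
        rw [← hsl, ← hs', Category.assoc]
        rfl
      rw [hs, ← Ext.mk₀_comp_mk₀, ← Ext.comp_assoc _ _ _ (add_zero 1) (zero_add 0) (by omega),
        (hSq U).extClass_comp, Ext.zero_comp]
    | succ q =>
      haveI := mainR h q (colimit I) hac _ hU
      have hx0 : x₁ = 0 :=
        Subsingleton.elim (α := CohCx.HK U (colimit I) (q + 1)) _ _
      rw [hx0, Ext.comp_zero]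

include h hfh in
theorem preserves_HZ (hT : 𝒦 (⊤_ (Sheaf J (Type u)))) (hU : 𝒦 U)
    (Λ : Type u) [SmallCategory Λ] [IsFiltered Λ] (q : ℕ) :
    PreservesColimitsOfShape Λ (ToposFin.HZFunctor U q) :=
  preserves _ q (surjInj_quot h hfh U hT hU Λ q)

end Supports

end Groth.Agent.Helper6.CF
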