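import Mathlib
import Groth.Prelude.Def_SGA4c
import Groth.Prelude.Def_CohCx
import Groth.Agent.Helper6.CF5

set_option backward.isDefEq.respectTransparency false
set_option backward.isDefEq.respectTransparency.types false
set_option autoImplicit false

/-!
# A set of quasi-compact objects weakly closed under finite limits: cohomology commutes with
filtered colimits
-/

universe u

open CategoryTheory CategoryTheory.Limits Opposite Abelian
open Groth.Agent.Helper9.CechNerveCartan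
open Groth.Agent.Helper2 Groth.Agent.Helper2.TF1

namespace Groth.Agent.Helper6.CF

variable {C : Type u} [SmallCategory C] {J : GrothendieckTopology C}

lemma epi_pullback_snd' {X Y Z : Sheaf J (Type u)} (f : X ⟶ Z) (g : Y ⟶ Z) [Epi f] :
    Epi (pullback.snd f g) := by
  haveI : Epi (pullback.fst g f) := epi_pullback_fst g f
  rw [← pullbackSymmetry_hom_comp_fst]
  infer_instance

section WeakClosure

variable (S : Set (Sheaf J (Type u)))

/-- covered by a member of `S` -/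
def Dc (Y : Sheaf J (Type u)) : Prop := ∃ K ∈ S, ∃ g : K ⟶ Y, Epi g

/-- fibre products of members of `S` over `X` are covered by members of `S` -/
def Sc (X : Sheaf J (Type u)) : Prop :=
  ∀ K₁ ∈ S, ∀ K₂ ∈ S, ∀ (a : K₁ ⟶ X) (b : K₂ ⟶ X), Dc S (pullback a b)

variable {S}

lemma Dc.of_epi {Y Y' : Sheaf J (Type u)} (h : Dc S Y) (p : Y ⟶ Y') [Epi p] : Dc S Y' := by
  obtain ⟨K, hK, g, hg⟩ := h
  haveI := hg
  exact ⟨K, hK, g ≫ p, inferInstance⟩

lemma dc_of_mem {K : Sheaf J (Type u)} (hK : K ∈ S) : Dc S K := ⟨K, hK, 𝟙 K, inferInstance⟩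

variable
  (h3 : ∀ K ∈ S, ∀ K' ∈ S, ∃ (K'' : Sheaf J (Type u)) (g : K'' ⟶ K ⨯ K'), K'' ∈ S ∧ Epi g)
  (h4 : ∀ K ∈ S, ∀ K' ∈ S, ∀ (a b : K ⟶ K'), ∃ (K'' : Sheaf J (Type u))
    (g : K'' ⟶ equalizer a b), K'' ∈ S ∧ Epi g)

include h4 in
lemma dc_equalizer {T K : Sheaf J (Type u)} (hT : Dc S T) (hK : K ∈ S) (r r' : T ⟶ K) :
    Dc S (equalizer r r') := by
  obtain ⟨K₆, hK₆, g, hg⟩ := hT
  haveI := hg
  obtain ⟨K₇, g₇, hK₇, hg₇⟩ := h4 K₆ hK₆ K hK (g ≫ r) (g ≫ r')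
  haveI := hg₇
  let θ : equalizer (g ≫ r) (g ≫ r') ⟶ equalizer r r' :=
    equalizer.lift (equalizer.ι _ _ ≫ g) (by
      rw [Category.assoc, Category.assoc]
      exact equalizer.condition _ _)
  haveI : Epi (pullback.fst (equalizer.ι r r') g) := epi_pullback_fst _ _
  let l : pullback (equalizer.ι r r') g ⟶ equalizer (g ≫ r) (g ≫ r') :=
    equalizer.lift (pullback.snd _ _) (by
      rw [← Category.assoc, ← Category.assoc, ← pullback.condition, Category.assoc,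
        Category.assoc, equalizer.condition])
  have hl : l ≫ θ = pullback.fst _ _ := by
    apply equalizer.hom_ext
    rw [Category.assoc, equalizer.lift_ι, equalizer.lift_ι_assoc, pullback.condition]
  haveI : Epi (l ≫ θ) := by rw [hl]; infer_instance
  haveI : Epi θ := epi_of_epi l θ
  exact ⟨K₇, hK₇, g₇ ≫ θ, inferInstance⟩

include h3 h4 in
lemma sc_of_mem {K : Sheaf J (Type u)} (hK : K ∈ S) : Sc S K := by
  intro K₁ hK₁ K₂ hK₂ a b
  obtain ⟨K₃, g₃, hK₃, hg₃⟩ := h3 K₁ hK₁ K₂ hK₂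
  have hT : Dc S (K₁ ⨯ K₂) := ⟨K₃, hK₃, g₃, hg₃⟩
  have hE := dc_equalizer h4 hT hK (prod.fst ≫ a) (prod.snd ≫ b)
  let θ : equalizer (prod.fst ≫ a) (prod.snd ≫ b) ⟶ pullback a b :=
    pullback.lift (equalizer.ι _ _ ≫ prod.fst) (equalizer.ι _ _ ≫ prod.snd) (by
      rw [Category.assoc, Category.assoc]
      exact equalizer.condition _ _)
  let ν : pullback a b ⟶ equalizer (prod.fst ≫ a) (prod.snd ≫ b) :=
    equalizer.lift (prod.lift (pullback.fst a b) (pullback.snd a b)) (by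
      rw [prod.lift_fst_assoc, prod.lift_snd_assoc, pullback.condition])
  have hνθ : ν ≫ θ = 𝟙 _ := by
    apply pullback.hom_ext
    · rw [Category.assoc, pullback.lift_fst, equalizer.lift_ι_assoc, prod.lift_fst,
        Category.id_comp]
    · rw [Category.assoc, pullback.lift_snd, equalizer.lift_ι_assoc, prod.lift_snd,
        Category.id_comp]
  haveI : Epi θ := epi_of_epi_fac hνθ
  exact hE.of_epi θ

include h3 in
lemma sc_terminal : Sc S (⊤_ (Sheaf J (Type u))) := by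
  intro K₁ hK₁ K₂ hK₂ a b
  obtain ⟨K₃, g₃, hK₃, hg₃⟩ := h3 K₁ hK₁ K₂ hK₂
  have hT : Dc S (K₁ ⨯ K₂) := ⟨K₃, hK₃, g₃, hg₃⟩
  let θ : K₁ ⨯ K₂ ⟶ pullback a b :=
    pullback.lift prod.fst prod.snd (Subsingleton.elim _ _)
  let ν : pullback a b ⟶ K₁ ⨯ K₂ := prod.lift (pullback.fst a b) (pullback.snd a b)
  have hνθ : ν ≫ θ = 𝟙 _ := by
    apply pullback.hom_ext
    · rw [Category.assoc, pullback.lift_fst, prod.lift_fst, Category.id_comp]
    · rw [Category.assoc, pullback.lift_snd, prod.lift_snd, Category.id_comp]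
  haveI : Epi θ := epi_of_epi_fac hνθ
  exact hT.of_epi θ

lemma epi_pullback_lift {A B X A' B' : Sheaf J (Type u)} (a : A ⟶ X) (b : B ⟶ X) (gA : A' ⟶ A)
    (gB : B' ⟶ B) [Epi gA] [Epi gB] :
    Epi (pullback.lift (pullback.fst (gA ≫ a) (gB ≫ b) ≫ gA) (pullback.snd (gA ≫ a) (gB ≫ b) ≫ gB)
      (by rw [Category.assoc, Category.assoc]; exact pullback.condition) :
      pullback (gA ≫ a) (gB ≫ b) ⟶ pullback a b) := by
  obtain ⟨ρ, hρ⟩ : ∃ ρ : pullback (gA ≫ a) (gB ≫ b) ⟶ pullback a b,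
      ρ = pullback.lift (pullback.fst (gA ≫ a) (gB ≫ b) ≫ gA)
        (pullback.snd (gA ≫ a) (gB ≫ b) ≫ gB)
        (by rw [Category.assoc, Category.assoc]; exact pullback.condition) := ⟨_, rfl⟩
  rw [← hρ]
  have hρ1 : ρ ≫ pullback.fst a b = pullback.fst (gA ≫ a) (gB ≫ b) ≫ gA := by
    rw [hρ, pullback.lift_fst]
  have hρ2 : ρ ≫ pullback.snd a b = pullback.snd (gA ≫ a) (gB ≫ b) ≫ gB := by
    rw [hρ, pullback.lift_snd]
  haveI e1 : Epi (pullback.fst (pullback.fst a b) gA) := epi_pullback_fst _ _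
  haveI e2 : Epi (pullback.fst (pullback.fst (pullback.fst a b) gA ≫ pullback.snd a b) gB) :=
    epi_pullback_fst _ _
  obtain ⟨q₁, hq₁⟩ : ∃ q₁, q₁ = pullback.fst (pullback.fst a b) gA := ⟨_, rfl⟩
  obtain ⟨q₂, hq₂⟩ : ∃ q₂, q₂ = pullback.snd (pullback.fst a b) gA := ⟨_, rfl⟩
  have c1 : q₁ ≫ pullback.fst a b = q₂ ≫ gA := by rw [hq₁, hq₂]; exact pullback.condition
  rw [← hq₁] at e1 e2
  obtain ⟨s₁, hs₁⟩ : ∃ s₁, s₁ = pullback.fst (q₁ ≫ pullback.snd a b) gB := ⟨_, rfl⟩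
  obtain ⟨s₂, hs₂⟩ : ∃ s₂, s₂ = pullback.snd (q₁ ≫ pullback.snd a b) gB := ⟨_, rfl⟩
  have c2 : s₁ ≫ q₁ ≫ pullback.snd a b = s₂ ≫ gB := by rw [hs₁, hs₂]; exact pullback.condition
  rw [← hs₁] at e2
  have hcond : (s₁ ≫ q₂) ≫ gA ≫ a = s₂ ≫ gB ≫ b := by
    rw [Category.assoc, ← reassoc_of% c1, pullback.condition, reassoc_of% c2]
  let t : pullback (q₁ ≫ pullback.snd a b) gB ⟶ pullback (gA ≫ a) (gB ≫ b) :=
    pullback.lift (s₁ ≫ q₂) s₂ hcond
  have ht : t ≫ ρ = s₁ ≫ q₁ := by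
    apply pullback.hom_ext
    · rw [Category.assoc, hρ1, pullback.lift_fst_assoc, Category.assoc, Category.assoc, c1]
    · rw [Category.assoc, hρ2, pullback.lift_snd_assoc, Category.assoc, c2]
  haveI : Epi (s₁ ≫ q₁) := epi_comp _ _
  haveI : Epi (t ≫ ρ) := by rw [ht]; infer_instance
  exact epi_of_epi t ρ

lemma dc_pullback {A B X : Sheaf J (Type u)} (hX : Sc S X) (hA : Dc S A) (hB : Dc S B)
    (a : A ⟶ X) (b : B ⟶ X) : Dc S (pullback a b) := by
  obtain ⟨KA, hKA, gA, hgA⟩ := hA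
  obtain ⟨KB, hKB, gB, hgB⟩ := hB
  haveI := hgA
  haveI := hgB
  haveI := epi_pullback_lift a b gA gB
  exact (hX KA hKA KB hKB (gA ≫ a) (gB ≫ b)).of_epi
    (pullback.lift (pullback.fst (gA ≫ a) (gB ≫ b) ≫ gA) (pullback.snd (gA ≫ a) (gB ≫ b) ≫ gB)
      ((Category.assoc _ _ _).trans (pullback.condition.trans (Category.assoc _ _ _).symm)))

include h3 h4 in
lemma sc_pullback {A B X : Sheaf J (Type u)} (hA : Sc S A) (hB : Sc S B)
    (a : A ⟶ X) (b : B ⟶ X) : Sc S (pullback a b) := by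
  intro K₁ hK₁ K₂ hK₂ c d
  have hRA : Dc S (pullback (c ≫ pullback.fst a b) (d ≫ pullback.fst a b)) :=
    hA K₁ hK₁ K₂ hK₂ _ _
  have hRB : Dc S (pullback (c ≫ pullback.snd a b) (d ≫ pullback.snd a b)) :=
    hB K₁ hK₁ K₂ hK₂ _ _
  have hT := dc_pullback (sc_of_mem h3 h4 hK₁) hRA hRB
    (pullback.fst (c ≫ pullback.fst a b) (d ≫ pullback.fst a b))
    (pullback.fst (c ≫ pullback.snd a b) (d ≫ pullback.snd a b))
  obtain ⟨fA, hfA⟩ : ∃ fA, fA = pullback.fst (c ≫ pullback.fst a b) (d ≫ pullback.fst a b) :=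
    ⟨_, rfl⟩
  obtain ⟨sA, hsA⟩ : ∃ sA, sA = pullback.snd (c ≫ pullback.fst a b) (d ≫ pullback.fst a b) :=
    ⟨_, rfl⟩
  obtain ⟨fB, hfB⟩ : ∃ fB, fB = pullback.fst (c ≫ pullback.snd a b) (d ≫ pullback.snd a b) :=
    ⟨_, rfl⟩
  obtain ⟨sB, hsB⟩ : ∃ sB, sB = pullback.snd (c ≫ pullback.snd a b) (d ≫ pullback.snd a b) :=
    ⟨_, rfl⟩
  have cA : fA ≫ c ≫ pullback.fst a b = sA ≫ d ≫ pullback.fst a b := by
    rw [hfA, hsA]; exact pullback.condition
  have cB : fB ≫ c ≫ pullback.snd a b = sB ≫ d ≫ pullback.snd a b := by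
    rw [hfB, hsB]; exact pullback.condition
  rw [← hfA, ← hfB] at hT
  obtain ⟨fT, hfT⟩ : ∃ fT, fT = pullback.fst fA fB := ⟨_, rfl⟩
  obtain ⟨sT, hsT⟩ : ∃ sT, sT = pullback.snd fA fB := ⟨_, rfl⟩
  have cT : fT ≫ fA = sT ≫ fB := by rw [hfT, hsT]; exact pullback.condition
  have hE := dc_equalizer h4 hT hK₂ (fT ≫ sA) (sT ≫ sB)
  have cE : equalizer.ι (fT ≫ sA) (sT ≫ sB) ≫ fT ≫ sA =
      equalizer.ι (fT ≫ sA) (sT ≫ sB) ≫ sT ≫ sB := equalizer.condition _ _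
  have hθc : (equalizer.ι (fT ≫ sA) (sT ≫ sB) ≫ fT ≫ fA) ≫ c =
      (equalizer.ι (fT ≫ sA) (sT ≫ sB) ≫ fT ≫ sA) ≫ d := by
    apply pullback.hom_ext
    · simp only [Category.assoc]
      rw [cA]
    · simp only [Category.assoc]
      rw [reassoc_of% cT, cB, ← reassoc_of% cE]
  let θ : equalizer (fT ≫ sA) (sT ≫ sB) ⟶ pullback c d := pullback.lift _ _ hθc
  -- the section
  have p0 : pullback.fst c d ≫ c = pullback.snd c d ≫ d := pullback.condition
  let lA : pullback c d ⟶ pullback (c ≫ pullback.fst a b) (d ≫ pullback.fst a b) :=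
    pullback.lift (pullback.fst c d) (pullback.snd c d) (by rw [reassoc_of% p0])
  let lB : pullback c d ⟶ pullback (c ≫ pullback.snd a b) (d ≫ pullback.snd a b) :=
    pullback.lift (pullback.fst c d) (pullback.snd c d) (by rw [reassoc_of% p0])
  have hlA1 : lA ≫ fA = pullback.fst c d := by rw [hfA]; exact pullback.lift_fst _ _ _
  have hlA2 : lA ≫ sA = pullback.snd c d := by rw [hsA]; exact pullback.lift_snd _ _ _
  have hlB1 : lB ≫ fB = pullback.fst c d := by rw [hfB]; exact pullback.lift_fst _ _ _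
  have hlB2 : lB ≫ sB = pullback.snd c d := by rw [hsB]; exact pullback.lift_snd _ _ _
  let lT : pullback c d ⟶ pullback fA fB := pullback.lift lA lB (by rw [hlA1, hlB1])
  have hlT1 : lT ≫ fT = lA := by rw [hfT]; exact pullback.lift_fst _ _ _
  have hlT2 : lT ≫ sT = lB := by rw [hsT]; exact pullback.lift_snd _ _ _
  let ν : pullback c d ⟶ equalizer (fT ≫ sA) (sT ≫ sB) := equalizer.lift lT (by
    rw [reassoc_of% hlT1, reassoc_of% hlT2, hlA2, hlB2])
  have hνθ : ν ≫ θ = 𝟙 _ := by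
    apply pullback.hom_ext
    · rw [Category.assoc, pullback.lift_fst, equalizer.lift_ι_assoc, reassoc_of% hlT1, hlA1,
        Category.id_comp]
    · rw [Category.assoc, pullback.lift_snd, equalizer.lift_ι_assoc, reassoc_of% hlT1, hlA2,
        Category.id_comp]
  haveI : Epi θ := epi_of_epi_fac hνθ
  exact hE.of_epi θ

end WeakClosure

section Main

variable {S : Set (Sheaf J (Type u))}
  (h2 : ∀ (F : Sheaf J (Type u)) (K : Sheaf J (Type u)) (g : F ⟶ K), K ∈ S → Epi g →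
    ∃ (K' : Sheaf J (Type u)) (k : K' ⟶ F), K' ∈ S ∧ Epi (k ≫ g))
  (h3 : ∀ K ∈ S, ∀ K' ∈ S, ∃ (K'' : Sheaf J (Type u)) (g : K'' ⟶ K ⨯ K'), K'' ∈ S ∧ Epi g)
  (h4 : ∀ K ∈ S, ∀ K' ∈ S, ∀ (a b : K ⟶ K'), ∃ (K'' : Sheaf J (Type u))
    (g : K'' ⟶ equalizer a b), K'' ∈ S ∧ Epi g)
  (h5 : ∀ K ∈ S, CohCx.IsQcObject K)

lemma isQC_of_isQcObject {K : Sheaf J (Type u)} (hK : CohCx.IsQcObject K) : ToposFin.IsQC K := by
  rw [isQC_iff]
  intro ι F π hπ
  obtain ⟨t, ht⟩ := hK ι F π (fun U x => by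
    obtain ⟨T, hT, h⟩ := hπ U x
    exact ⟨T, hT, fun V g hg => h g hg⟩)
  refine ⟨t, fun U x => ?_⟩
  obtain ⟨T, hT, h⟩ := ht U x
  exact ⟨T, hT, fun V g hg => h V g hg⟩

include h2 in
lemma ref_weak {X P : Sheaf J (Type u)} (g : P ⟶ X) (hX : Dc S X) [Epi g] :
    ∃ (K' : Sheaf J (Type u)) (k : K' ⟶ P), K' ∈ S ∧ Epi (k ≫ g) := by
  obtain ⟨K, hK, gK, hgK⟩ := hX
  haveI := hgK
  haveI : Epi (pullback.snd g gK) := epi_pullback_snd' g gK
  obtain ⟨K', k', hK', hk'⟩ := h2 _ K (pullback.snd g gK) hK inferInstance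
  haveI := hk'
  refine ⟨K', k' ≫ pullback.fst g gK, hK', ?_⟩
  have e : (k' ≫ pullback.fst g gK) ≫ g = (k' ≫ pullback.snd g gK) ≫ gK := by
    rw [Category.assoc, Category.assoc, pullback.condition]
  rw [e]
  infer_instance

include h2 h3 h4 in
theorem adm_weak : Adm (fun X : Sheaf J (Type u) => Dc S X ∧ Sc S X) where
  iso {X Y} e h := by
    refine ⟨h.1.of_epi e.hom, ?_⟩
    intro K₁ hK₁ K₂ hK₂ a b
    have h1 := h.2 K₁ hK₁ K₂ hK₂ (a ≫ e.inv) (b ≫ e.inv)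
    have hc : pullback.fst (a ≫ e.inv) (b ≫ e.inv) ≫ a = pullback.snd (a ≫ e.inv) (b ≫ e.inv) ≫ b := by
      rw [← cancel_mono e.inv, Category.assoc, Category.assoc]
      exact pullback.condition
    let θ : pullback (a ≫ e.inv) (b ≫ e.inv) ⟶ pullback a b := pullback.lift _ _ hc
    let ν : pullback a b ⟶ pullback (a ≫ e.inv) (b ≫ e.inv) :=
      pullback.lift (pullback.fst a b) (pullback.snd a b) (by rw [pullback.condition_assoc])
    have hνθ : ν ≫ θ = 𝟙 _ := by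
      apply pullback.hom_ext
      · rw [Category.assoc, pullback.lift_fst, pullback.lift_fst, Category.id_comp]
      · rw [Category.assoc, pullback.lift_snd, pullback.lift_snd, Category.id_comp]
    haveI : Epi θ := epi_of_epi_fac hνθ
    exact h1.of_epi θ
  pb {A B X} a b hA hB hX := ⟨dc_pullback hX.2 hA.1 hB.1 a b, sc_pullback h3 h4 hA.2 hB.2 a b⟩
  ref {X P} g hX _ := by
    obtain ⟨K', k, hK', hk⟩ := ref_weak h2 g hX.1
    exact ⟨K', k, ⟨dc_of_mem hK', sc_of_mem h3 h4 hK'⟩, hk⟩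

include h2 h5 in
theorem fh_weak {X : Sheaf J (Type u)} (hX : Dc S X) (hX2 : Sc S X) : FH X := by
  intro Λ _ _ D
  obtain ⟨K, hK, gK, hgK⟩ := hX
  haveI := hgK
  have hKqc : ToposFin.IsQC K := isQC_of_isQcObject (h5 K hK)
  constructor
  · intro x
    have hι : LJS (fun l => D.obj l) (fun l => colimit.ι D l) :=
      ljs_iff_je.2 (fun Z a b hab => colimit.hom_ext hab)
    have hP : LJS (fun l => pullback x (colimit.ι D l)) (fun l => pullback.fst x (colimit.ι D l)) :=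
      hι.pullback x _ _ (fun l => pullback.snd x (colimit.ι D l))
        (fun l => IsPullback.of_hasPullback x (colimit.ι D l))
    have hXqc : ToposFin.IsQC X :=
      isQC_of_finite_ljs (fun _ : PUnit.{1} => K) (fun _ => gK) ((epi_iff_ljs gK).1 inferInstance)
        (fun _ => hKqc)
    obtain ⟨s, hs⟩ := (isQC_iff X).1 hXqc Λ _ _ hP
    obtain ⟨l₀, hl₀⟩ := FiltShf.exists_above (fun i : s => i.1)
    have hepi : Epi (pullback.fst x (colimit.ι D l₀)) := by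
      rw [epi_iff_ljs]
      refine hs.of_factor _ _ (fun i => ⟨PUnit.unit, ?_⟩)
      refine ⟨pullback.lift (pullback.fst x (colimit.ι D i.1))
        (pullback.snd x (colimit.ι D i.1) ≫ D.map (hl₀ i).some) ?_, pullback.lift_fst _ _ _⟩
      rw [Category.assoc, colimit.w]
      exact pullback.condition
    haveI := hepi
    obtain ⟨K', k, hK', hk⟩ := ref_weak h2 (pullback.fst x (colimit.ι D l₀)) ⟨K, hK, gK, hgK⟩
    haveI := hk
    obtain ⟨g', hg'⟩ : ∃ g' : K' ⟶ X, g' = k ≫ pullback.fst x (colimit.ι D l₀) := ⟨_, rfl⟩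
    obtain ⟨y₀, hy₀⟩ : ∃ y₀ : K' ⟶ D.obj l₀, y₀ = k ≫ pullback.snd x (colimit.ι D l₀) := ⟨_, rfl⟩
    haveI : Epi g' := by rw [hg']; infer_instance
    have hxy : g' ≫ x = y₀ ≫ colimit.ι D l₀ := by
      rw [hg', hy₀, Category.assoc, Category.assoc, pullback.condition]
    obtain ⟨K'', hK'', r, hr⟩ := hX2 K' hK' K' hK' g' g'
    haveI := hr
    have hK''qc : ToposFin.IsQC K'' := isQC_of_isQcObject (h5 K'' hK'')
    have h1 : (r ≫ pullback.fst g' g' ≫ y₀) ≫ colimit.ι D l₀ =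
        (r ≫ pullback.snd g' g' ≫ y₀) ≫ colimit.ι D l₀ := by
      simp only [Category.assoc]
      rw [← hxy, pullback.condition_assoc]
    obtain ⟨l₁, a, ha⟩ := FiltQC.exists_eq_of_isQC D K'' hK''qc _ _ h1
    have h2' : pullback.fst g' g' ≫ y₀ ≫ D.map a = pullback.snd g' g' ≫ y₀ ≫ D.map a := by
      rw [← cancel_epi r]
      simpa only [Category.assoc] using ha
    obtain ⟨y, hy⟩ := FiltCoh.glue (fun _ : PUnit.{1} => K') (fun _ => g')
      ((epi_iff_ljs g').1 inferInstance) (fun _ => y₀ ≫ D.map a) (fun _ _ => h2')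
    refine ⟨l₁, y, ?_⟩
    rw [← cancel_epi g', ← Category.assoc, hy PUnit.unit, Category.assoc, colimit.w, hxy]
  · intro l y y' hyy
    have h1 : (gK ≫ y) ≫ colimit.ι D l = (gK ≫ y') ≫ colimit.ι D l := by
      rw [Category.assoc, Category.assoc, hyy]
    obtain ⟨m, a, ha⟩ := FiltQC.exists_eq_of_isQC D K hKqc _ _ h1
    refine ⟨m, a, ?_⟩
    rw [← cancel_epi gK]
    simpa only [Category.assoc] using ha

include h2 h3 h4 h5 in
theorem preserves_functorH_weak (h1 : ∃ K ∈ S, Epi (terminal.from K))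
    (Λ : Type u) [SmallCategory Λ] [IsFiltered Λ] (p : ℕ) :
    PreservesColimitsOfShape Λ
      (Sheaf.functorH J p : Sheaf J AddCommGrpCat.{u} ⥤ AddCommGrpCat.{u}) := by
  obtain ⟨K, hK, hKe⟩ := h1
  exact preserves_functorH (adm_weak h2 h3 h4) (fun X hX => fh_weak h2 h5 hX.1 hX.2)
    ⟨⟨K, hK, terminal.from K, hKe⟩, sc_terminal h3⟩ Λ p

end Main

end Groth.Agent.Helper6.CF
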