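import Mathlib
import Groth.Agent.Helper6.HopfRey

/-!
Fundamental theorem of Hopf modules (over a commutative Hopf algebra coacting on itself).
-/

set_option autoImplicit false

namespace Groth.Agent.Helper6.HopfMod

open TensorProduct Groth.Agent.Helper6.HopfSw Groth.Agent.Helper6.HopfRey

variable {k : Type*} [CommRing k] {A : Type*} [CommRing A] [HopfAlgebra k A]
variable {M : Type*} [AddCommGroup M] [Module k M] [Module A M] [IsScalarTower k A M]
  [HopfRep.Comod k A M] [TameAct.IsHopfMod k A A M]

/-- projection to coinvariants -/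
noncomputable def P : M →ₗ[k] M := TameAct.reynolds k A A M LinearMap.id

omit [TameAct.IsHopfMod k A A M] in
theorem id_isComodHom : Hoch.IsComodHom A (LinearMap.id : A →ₗ[k] A) := by
  unfold Hoch.IsComodHom
  rw [LinearMap.rTensor_id]
  rfl

theorem P_mem (m : M) : P (k := k) (A := A) m ∈ HopfRep.fixedPts k A M :=
  coact_reynolds (B := A) LinearMap.id id_isComodHom m

omit [TameAct.IsHopfMod k A A M] in
/-- `m = Σ m₁ • P m₀` -/
theorem sum_smul_P (m : M) :
    TensorProduct.lift ((Algebra.lsmul k k M : A →ₐ[k] Module.End k M).toLinearMap.flip ∘ₗ (P (k := k) (A := A) (M := M)))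
      (HopfRep.Comod.coact (k := k) (A := A) m) = m := by
  set Q : M ⊗[k] A →ₗ[k] M :=
    TensorProduct.lift ((Algebra.lsmul k k M : A →ₐ[k] Module.End k M).toLinearMap.flip ∘ₗ (P (k := k) (A := A) (M := M)))
    with hQ
  have hQt : ∀ (m' : M) (a : A), Q (m' ⊗ₜ[k] a) = a • P (k := k) (A := A) m' := by
    intro m' a; simp [Q]
  -- Q' on (M ⊗ A) ⊗ A
  let Q' : (M ⊗[k] A) ⊗[k] A →ₗ[k] M :=
    TensorProduct.lift ((Algebra.lsmul k k M : A →ₐ[k] Module.End k M).toLinearMap.flip ∘ₗ
      (eMap (k := k) (A := A) (B := A) (M := M) LinearMap.id))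
  have hQ't : ∀ (z : M ⊗[k] A) (a : A), Q' (z ⊗ₜ[k] a) = a • eMap (k := k) (A := A) (B := A) (M := M) LinearMap.id z := by
    intro z a; simp [Q']
  have h1 : ∀ z : M ⊗[k] A, Q z = Q' ((HopfRep.Comod.coact (k := k) (A := A) (V := M)).rTensor A z) := by
    intro z
    induction z using TensorProduct.induction_on with
    | zero => simp
    | add x y hx hy => simp only [map_add, hx, hy]
    | tmul m' a =>
      rw [hQt, LinearMap.rTensor_tmul, hQ't]
      rfl
  have h2 : ∀ z : M ⊗[k] A, Q' ((TensorProduct.assoc k M A A).symm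
      ((Coalgebra.comul (R := k) (A := A)).lTensor M z)) =
      (TensorProduct.rid k M) ((Coalgebra.counit (R := k) (A := A)).lTensor M z) := by
    intro z
    induction z using TensorProduct.induction_on with
    | zero => simp
    | add x y hx hy => simp only [map_add, hx, hy]
    | tmul m' a =>
      rw [LinearMap.lTensor_tmul, LinearMap.lTensor_tmul, TensorProduct.rid_tmul]
      have sub : ∀ w : A ⊗[k] A, Q' ((TensorProduct.assoc k M A A).symm (m' ⊗ₜ[k] w)) =
          (LinearMap.mul' k A ((HopfAlgebraStruct.antipode (R := k) (A := A)).rTensor A w)) • m' := by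
        intro w
        induction w using TensorProduct.induction_on with
        | zero => simp
        | add x y hx hy => simp only [TensorProduct.tmul_add, map_add, add_smul, hx, hy]
        | tmul x y =>
          rw [TensorProduct.assoc_symm_tmul, hQ't, eMap_tmul, LinearMap.rTensor_tmul,
            LinearMap.mul'_apply, smul_smul, mul_comm]
          rfl
      rw [sub, HopfAlgebra.mul_antipode_rTensor_comul_apply, algebraMap_smul]
  rw [h1, coassoc_apply, h2, rid_counit_apply]

theorem mem_span_fixedPts (m : M) :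
    m ∈ Submodule.span A (HopfRep.fixedPts k A M : Set M) := by
  rw [← sum_smul_P (k := k) (A := A) m]
  generalize (HopfRep.Comod.coact (k := k) (A := A) m : M ⊗[k] A) = z
  induction z using TensorProduct.induction_on with
  | zero => simp
  | add x y hx hy => rw [map_add]; exact Submodule.add_mem _ hx hy
  | tmul m' a =>
    simp only [TensorProduct.lift.tmul, LinearMap.comp_apply, LinearMap.flip_apply]
    exact Submodule.smul_mem _ a (Submodule.subset_span (P_mem m'))

/-- `P (x • n) = ε x • n` for invariant `n`. -/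
theorem P_smul_fixed (x : A) (n : M) (hn : n ∈ HopfRep.fixedPts k A M) :
    P (k := k) (A := A) (x • n) = (Coalgebra.counit (R := k) x) • n := by
  have hn' : HopfRep.Comod.coact (k := k) (A := A) n = n ⊗ₜ[k] (1 : A) := hn
  unfold P
  rw [reynolds_eq, TameAct.IsHopfMod.coact_smul (k := k) (A := A) (B := A) (M := M), hn']
  have sub : ∀ w : A ⊗[k] A, eMap (k := k) (A := A) (B := A) (M := M) LinearMap.id
      (TameAct.hmSMul k A A M w (n ⊗ₜ[k] (1 : A))) =
      (LinearMap.mul' k A ((HopfAlgebraStruct.antipode (R := k) (A := A)).lTensor A w)) • n := by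
    intro w
    induction w using TensorProduct.induction_on with
    | zero => simp
    | add x y hx hy => simp only [map_add, LinearMap.add_apply, add_smul, hx, hy]
    | tmul p q =>
      rw [TameAct.hmSMul_tmul, mul_one, eMap_tmul, LinearMap.lTensor_tmul, LinearMap.mul'_apply,
        smul_smul, mul_comm]
      rfl
  have : (HopfRep.Comod.coact (k := k) (A := A) x : A ⊗[k] A) = Coalgebra.comul (R := k) x := rfl
  rw [this, sub, HopfAlgebra.mul_antipode_lTensor_comul_apply, algebraMap_smul]

/-- `ψ (a • n) = n ⊗ a` for invariant `n`, where `ψ = (P ⊗ id) ∘ ρ`. -/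
theorem psi_smul_fixed (a : A) (n : M) (hn : n ∈ HopfRep.fixedPts k A M) :
    (P (k := k) (A := A) (M := M)).rTensor A (HopfRep.Comod.coact (k := k) (A := A) (a • n)) =
      n ⊗ₜ[k] a := by
  have hn' : HopfRep.Comod.coact (k := k) (A := A) n = n ⊗ₜ[k] (1 : A) := hn
  rw [TameAct.IsHopfMod.coact_smul (k := k) (A := A) (B := A) (M := M), hn']
  have sub : ∀ w : A ⊗[k] A, (P (k := k) (A := A) (M := M)).rTensor A
      (TameAct.hmSMul k A A M w (n ⊗ₜ[k] (1 : A))) =
      n ⊗ₜ[k] ((TensorProduct.lid k A) ((Coalgebra.counit (R := k) (A := A)).rTensor A w)) := by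
    intro w
    induction w using TensorProduct.induction_on with
    | zero => simp
    | add x y hx hy => simp only [map_add, LinearMap.add_apply, TensorProduct.tmul_add, hx, hy]
    | tmul p q =>
      rw [TameAct.hmSMul_tmul, mul_one, LinearMap.rTensor_tmul, P_smul_fixed p n hn,
        LinearMap.rTensor_tmul, TensorProduct.lid_tmul, TensorProduct.smul_tmul]
  have : (HopfRep.Comod.coact (k := k) (A := A) a : A ⊗[k] A) = Coalgebra.comul (R := k) a := rfl
  rw [this, sub, Coalgebra.rTensor_counit_comul]
  simp

end Groth.Agent.Helper6.HopfMod
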