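import Mathlib
import Groth.Prelude.Def_W4bk4goldsch45
import Groth.Agent.Helper5.FFRR
import Groth.Agent.Helper5.FFGenusOne

set_option backward.isDefEq.respectTransparency false
set_option backward.isDefEq.respectTransparency.types false
set_option autoImplicit false

open FunFld Polynomial

namespace Groth.Agent.Helper6.FFZeta

open Groth.Agent.Helper5.FF hiding degHom degHom_apply

variable {k K : Type*} [Field k] [Field K] [Algebra k K]

/-- the Prelude's degree homomorphism computes the degree -/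
theorem degHom_apply' (D : Divisor k K) : FunFld.degHom k K D = D.deg := by
  unfold FunFld.degHom Divisor.deg
  rw [Finsupp.liftAddHom_apply]
  rfl

theorem card_residueField [Finite k] (hK : IsFunctionField k K) (P : Place k K) :
    Nat.card (IsLocalRing.ResidueField P.O) = Nat.card k ^ P.deg := by
  haveI := finiteDimensional_residueField hK P
  exact Module.natCard_eq_pow_finrank

theorem finite_residueField [Finite k] (hK : IsFunctionField k K) (P : Place k K) :
    Finite (IsLocalRing.ResidueField P.O) := by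
  haveI := finiteDimensional_residueField hK P
  exact Module.finite_of_finite k

/-- finitely many places of a given degree over a finite constant field -/
theorem finite_deg_eq [Finite k] (hK : IsFunctionField k K) (m : ℕ) :
    {P : Place k K | P.deg = m}.Finite := by
  rcases Nat.eq_zero_or_pos m with rfl | hm
  · convert Set.finite_empty
    ext P
    simp only [Set.mem_setOf_eq, Set.mem_empty_iff_false, iff_false]
    exact (deg_pos_place hK P).ne'
  obtain ⟨x, hx, -⟩ := hK.1
  have hq : 1 < Nat.card k := Finite.one_lt_card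
  obtain ⟨N, hN⟩ : ∃ N : ℕ, N = Nat.card k ^ m := ⟨_, rfl⟩
  have hpoly : (X ^ N - X : k[X]) ≠ 0 := by
    rw [hN]
    exact FiniteField.X_pow_card_pow_sub_X_ne_zero k hm.ne' hq
  have hy : x ^ N - x ≠ 0 := by
    intro h
    apply hx
    refine ⟨X ^ N - X, hpoly, ?_⟩
    simpa using h
  have hx0 : x ≠ 0 := by
    rintro rfl
    exact hx isAlgebraic_zero
  apply ((finite_support_ord hK (x ^ N - x)).union (finite_support_ord hK x)).subset
  intro P hP
  simp only [Set.mem_setOf_eq] at hP
  by_cases hle : P.1 x ≤ 1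
  · left
    rw [Function.mem_support]
    apply ne_of_gt
    rw [ord_pos_iff P hy]
    haveI := finite_residueField hK P
    haveI := Fintype.ofFinite (IsLocalRing.ResidueField P.O)
    have hcard : Fintype.card (IsLocalRing.ResidueField P.O) = N := by
      rw [← Nat.card_eq_fintype_card, card_residueField hK P, hP, hN]
    let a : P.O := ⟨x, hle⟩
    have h1 : IsLocalRing.residue P.O (a ^ N - a) = 0 := by
      rw [map_sub, map_pow, ← hcard, FiniteField.pow_card, sub_self]
    have h2 := (residue_eq_zero_iff P (a ^ N - a)).mp h1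
    exact h2
  · right
    rw [Function.mem_support]
    apply ne_of_lt
    rw [ord_neg_iff P hx0]
    exact not_le.mp hle

theorem term_le_deg {D : Divisor k K} (hD : 0 ≤ D) (P : Place k K) :
    D P * (P.deg : ℤ) ≤ D.deg := by
  classical
  have h0 : ∀ Q, 0 ≤ D Q := fun Q => by
    have := hD Q
    rwa [Finsupp.zero_apply] at this
  unfold Divisor.deg Finsupp.sum
  by_cases hP : P ∈ D.support
  · exact Finset.single_le_sum (f := fun Q => D Q * (Q.deg : ℤ))
      (fun Q _ => mul_nonneg (h0 Q) (Int.natCast_nonneg _)) hP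
  · rw [Finsupp.notMem_support_iff.mp hP, zero_mul]
    exact Finset.sum_nonneg fun Q _ => mul_nonneg (h0 Q) (Int.natCast_nonneg _)

/-- finitely many effective divisors of a given degree -/
theorem effective_finite [Finite k] (hK : IsFunctionField k K) (n : ℕ) :
    Finite {D : Divisor k K // 0 ≤ D ∧ D.deg = n} := by
  classical
  have hS : {P : Place k K | P.deg ≤ n}.Finite := by
    apply ((Set.finite_Iic n).biUnion fun m _ => finite_deg_eq hK m).subset
    intro P hP
    simp only [Set.mem_iUnion, Set.mem_Iic, Set.mem_setOf_eq, exists_prop]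
    exact ⟨P.deg, hP, rfl⟩
  haveI := hS.to_subtype
  let f : {D : Divisor k K // 0 ≤ D ∧ D.deg = n} →
      ({P : Place k K | P.deg ≤ n} → Fin (n + 1)) :=
    fun D P => ⟨(D.1 P.1).toNat % (n + 1), Nat.mod_lt _ (Nat.succ_pos n)⟩
  apply Finite.of_injective f
  intro D D' h
  apply Subtype.ext
  ext P
  have h0 : ∀ (E : {D : Divisor k K // 0 ≤ D ∧ D.deg = n}) (Q : Place k K), 0 ≤ E.1 Q :=
    fun E Q => by
      have := E.2.1 Q
      rwa [Finsupp.zero_apply] at this
  have hb : ∀ (E : {D : Divisor k K // 0 ≤ D ∧ D.deg = n}) (Q : Place k K),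
      E.1 Q * (Q.deg : ℤ) ≤ n := fun E Q => (term_le_deg E.2.1 Q).trans_eq E.2.2
  have hpos : ∀ Q : Place k K, (1 : ℤ) ≤ Q.deg := fun Q => by
    exact_mod_cast deg_pos_place hK Q
  have hle : ∀ (E : {D : Divisor k K // 0 ≤ D ∧ D.deg = n}) (Q : Place k K), E.1 Q ≤ n := by
    intro E Q
    nlinarith [h0 E Q, hb E Q, hpos Q]
  by_cases hP : P.deg ≤ n
  · have h1 := congrFun h ⟨P, hP⟩
    simp only [f, Fin.mk.injEq] at h1
    have e1 : (D.1 P).toNat < n + 1 := by
      have := hle D P; have := h0 D P; omega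
    have e2 : (D'.1 P).toNat < n + 1 := by
      have := hle D' P; have := h0 D' P; omega
    rw [Nat.mod_eq_of_lt e1, Nat.mod_eq_of_lt e2] at h1
    have := h0 D P
    have := h0 D' P
    omega
  · have hz : ∀ (E : {D : Divisor k K // 0 ≤ D ∧ D.deg = n}), E.1 P = 0 := by
      intro E
      by_contra hne
      have h1 : 1 ≤ E.1 P := by
        have := h0 E P; omega
      have h2 := hb E P
      have : (P.deg : ℤ) ≤ n := by nlinarith
      exact hP (by exact_mod_cast this)
    rw [hz D, hz D']

theorem div_zero' (hK : IsFunctionField k K) : FunFld.div k (0 : K) = (0 : Divisor k K) := by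
  ext P
  rw [div_apply hK, ord_zero, Finsupp.zero_apply]

theorem div_one' (hK : IsFunctionField k K) : FunFld.div k (1 : K) = (0 : Divisor k K) := by
  ext P
  rw [div_apply hK, ord_one, Finsupp.zero_apply]

/-- principal divisors are exactly the divisors of nonzero functions -/
theorem mem_prinDivs_iff (hK : IsFunctionField k K) (D : Divisor k K) :
    D ∈ prinDivs k K ↔ ∃ x : K, x ≠ 0 ∧ D = FunFld.div k x := by
  constructor
  · intro h
    unfold prinDivs at h
    induction h using AddSubgroup.closure_induction with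
    | mem D hD =>
      obtain ⟨x, rfl⟩ := hD
      by_cases hx : x = 0
      · exact ⟨1, one_ne_zero, by rw [hx, div_zero' hK, div_one' hK]⟩
      · exact ⟨x, hx, rfl⟩
    | zero => exact ⟨1, one_ne_zero, (div_one' hK).symm⟩
    | add D E _ _ hD hE =>
      obtain ⟨x, hx, rfl⟩ := hD
      obtain ⟨y, hy, rfl⟩ := hE
      exact ⟨x * y, mul_ne_zero hx hy, (div_mul hK hx hy).symm⟩
    | neg D _ hD =>
      obtain ⟨x, hx, rfl⟩ := hD
      exact ⟨x⁻¹, inv_ne_zero hx, (div_inv hK x).symm⟩
  · rintro ⟨x, -, rfl⟩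
    exact AddSubgroup.subset_closure ⟨x, rfl⟩

theorem deg_eq_of_sub_mem (hK : IsFunctionField k K) {D C : Divisor k K}
    (h : D - C ∈ prinDivs k K) : D.deg = C.deg := by
  obtain ⟨x, -, hx⟩ := (mem_prinDivs_iff hK _).mp h
  have := deg_div hK x
  rw [← hx, deg_sub] at this
  linarith

theorem linSys_finite [Finite k] (hK : IsFunctionField k K) (C : Divisor k K) :
    Finite {D : Divisor k K // 0 ≤ D ∧ D - C ∈ prinDivs k K} := by
  haveI := effective_finite hK (C.deg.toNat)
  let f : {D : Divisor k K // 0 ≤ D ∧ D - C ∈ prinDivs k K} →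
      {D : Divisor k K // 0 ≤ D ∧ D.deg = (C.deg.toNat : ℕ)} :=
    fun D => ⟨D.1, D.2.1, by
      have h1 := deg_eq_of_sub_mem hK D.2.2
      have h2 := deg_nonneg D.2.1
      rw [h1] at h2 ⊢
      exact (Int.toNat_of_nonneg h2).symm⟩
  apply Finite.of_injective f
  intro D D' h
  apply Subtype.ext
  exact congrArg (fun E => E.1) h

theorem card_nonzero_L [Finite k] (hK : IsFunctionField k K) (C : Divisor k K) :
    Nat.card {x : L C // x ≠ 0} = Nat.card k ^ ell C - 1 := by
  classical
  haveI := finiteDimensional_L hK C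
  haveI : Finite (L C) := Module.finite_of_finite k
  have h1 : Nat.card ({x : L C // x = 0} ⊕ {x : L C // ¬ x = 0}) = Nat.card (L C) :=
    Nat.card_congr (Equiv.sumCompl (· = (0 : L C)))
  rw [Nat.card_sum, Nat.card_unique] at h1
  have h2 : Nat.card (L C) = Nat.card k ^ ell C := Module.natCard_eq_pow_finrank
  have h3 : Nat.card {x : L C // x ≠ 0} = Nat.card {x : L C // ¬ x = 0} := rfl
  omega

theorem div_smul (hK : IsFunctionField k K) {c : k} (hc : c ≠ 0) (x : K) :
    FunFld.div k (c • x) = FunFld.div k x := by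
  ext P
  rw [div_apply hK, div_apply hK, Algebra.smul_def]
  by_cases hx : x = 0
  · rw [hx, mul_zero]
  · rw [ord_mul P ((map_ne_zero (algebraMap k K)).mpr hc) hx, ord_algebraMap, zero_add]

/-- the number of effective divisors linearly equivalent to `C` -/
theorem card_linSys [Finite k] (hK : IsFunctionField k K) (C : Divisor k K) :
    (Nat.card k - 1) * Nat.card {D : Divisor k K // 0 ≤ D ∧ D - C ∈ prinDivs k K} =
      Nat.card k ^ ell C - 1 := by
  classical
  rw [← card_nonzero_L hK C]
  haveI := linSys_finite hK C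
  haveI := Fintype.ofFinite {D : Divisor k K // 0 ≤ D ∧ D - C ∈ prinDivs k K}
  haveI := finiteDimensional_L hK C
  haveI : Finite (L C) := Module.finite_of_finite k
  have hne : ∀ x : {x : L C // x ≠ 0}, ((x.1 : L C) : K) ≠ 0 := fun x h => x.2 (Subtype.ext h)
  have heff : ∀ x : K, x ≠ 0 → x ∈ L C → (0 : Divisor k K) ≤ C + FunFld.div k x := by
    intro x hx hxL P
    have := (mem_L_iff_ord C hx).mp hxL P
    rw [Finsupp.zero_apply, Finsupp.add_apply, div_apply hK]
    linarith
  let π : {x : L C // x ≠ 0} → {D : Divisor k K // 0 ≤ D ∧ D - C ∈ prinDivs k K} := fun x =>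
    ⟨C + FunFld.div k ((x.1 : L C) : K), heff _ (hne x) x.1.2, by
      rw [add_sub_cancel_left]
      exact (mem_prinDivs_iff hK _).mpr ⟨_, hne x, rfl⟩⟩
  have hπ : ∀ x, (π x).1 = C + FunFld.div k ((x.1 : L C) : K) := fun x => rfl
  have hsurj : Function.Surjective π := by
    rintro ⟨D, hD0, hDC⟩
    obtain ⟨x, hx, hxD⟩ := (mem_prinDivs_iff hK _).mp hDC
    have hD : D = C + FunFld.div k x := by rw [← hxD]; abel
    have hxL : x ∈ L C := by
      rw [mem_L_iff_ord C hx]
      intro P
      have := hD0 P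
      rw [hD, Finsupp.zero_apply, Finsupp.add_apply, div_apply hK] at this
      linarith
    refine ⟨⟨⟨x, hxL⟩, fun h => hx (congrArg Subtype.val h)⟩, Subtype.ext ?_⟩
    rw [hπ]; exact hD.symm
  have hfib : ∀ D, Nat.card {x // π x = D} = Nat.card k - 1 := by
    intro D
    obtain ⟨x0, rfl⟩ := hsurj D
    rw [← Nat.card_units]
    symm
    have hmem : ∀ u : kˣ, (u : k) • ((x0.1 : L C) : K) ∈ L C := fun u => (L C).smul_mem _ x0.1.2
    have hne' : ∀ u : kˣ, (⟨(u : k) • ((x0.1 : L C) : K), hmem u⟩ : L C) ≠ 0 := by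
      intro u h
      have h1 : (u : k) • ((x0.1 : L C) : K) = 0 := congrArg Subtype.val h
      rcases smul_eq_zero.mp h1 with h2 | h2
      · exact u.ne_zero h2
      · exact hne x0 h2
    let g : kˣ → {x // π x = π x0} := fun u =>
      ⟨⟨⟨(u : k) • ((x0.1 : L C) : K), hmem u⟩, hne' u⟩, Subtype.ext (by
        rw [hπ, hπ]
        show C + FunFld.div k ((u : k) • ((x0.1 : L C) : K)) = _
        rw [div_smul hK u.ne_zero])⟩
    apply Nat.card_congr
    refine Equiv.ofBijective g ⟨?_, ?_⟩
    · intro u u' h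
      have h1 : (u : k) • ((x0.1 : L C) : K) = (u' : k) • ((x0.1 : L C) : K) :=
        congrArg (fun z : {x // π x = π x0} => ((z.1.1 : L C) : K)) h
      have h2 : (u : k) = u' := smul_left_injective k (hne x0) h1
      exact Units.ext h2
    · rintro ⟨x, hx⟩
      have h1 : FunFld.div k ((x.1 : L C) : K) = FunFld.div k ((x0.1 : L C) : K) := by
        have := congrArg Subtype.val hx
        rw [hπ, hπ] at this
        exact add_left_cancel this
      obtain ⟨c, hc⟩ := exists_eq_smul_of_ord_eq hK _ _ (hne x) (hne x0) (fun P => by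
        rw [← div_apply hK, ← div_apply hK, h1])
      have hc0 : c ≠ 0 := by
        rintro rfl
        rw [zero_smul] at hc
        exact hne x hc
      refine ⟨Units.mk0 c hc0, ?_⟩
      apply Subtype.ext; apply Subtype.ext; apply Subtype.ext
      exact hc.symm
  rw [← Nat.card_congr (Equiv.sigmaFiberEquiv π), Nat.card_sigma]
  simp only [hfib, Finset.sum_const, Finset.card_univ, smul_eq_mul, Nat.card_eq_fintype_card]
  rw [mul_comm]

variable (k K) in
/-- the degree-zero class group -/
abbrev Pic0 : Type _ :=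
  (FunFld.degHom k K).ker ⧸ (prinDivs k K).addSubgroupOf (FunFld.degHom k K).ker

theorem mk_eq_mk_iff (a b : (FunFld.degHom k K).ker) :
    (QuotientAddGroup.mk a : Pic0 k K) = QuotientAddGroup.mk b ↔
      (a.1 - b.1) ∈ prinDivs k K := by
  rw [QuotientAddGroup.eq_iff_sub_mem, AddSubgroup.mem_addSubgroupOf]
  rfl

theorem deg_ker (C : (FunFld.degHom k K).ker) : C.1.deg = 0 := by
  rw [← degHom_apply']; exact C.2

/-- the class of `D - D0` -/
noncomputable def cls (D0 : Divisor k K) (n : ℕ) (h0 : D0.deg = n) :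
    {D : Divisor k K // 0 ≤ D ∧ D.deg = n} → Pic0 k K := fun D =>
  QuotientAddGroup.mk ⟨D.1 - D0, by
    rw [AddMonoidHom.mem_ker, degHom_apply', deg_sub, D.2.2, h0, sub_self]⟩

theorem cls_eq_iff (D0 : Divisor k K) (n : ℕ) (h0 : D0.deg = n)
    (D : {D : Divisor k K // 0 ≤ D ∧ D.deg = n}) (C : (FunFld.degHom k K).ker) :
    cls D0 n h0 D = QuotientAddGroup.mk C ↔ D.1 - (D0 + C.1) ∈ prinDivs k K := by
  unfold cls
  rw [mk_eq_mk_iff, ← sub_sub]

theorem card_fiber (hK : IsFunctionField k K) (D0 : Divisor k K) (n : ℕ) (h0 : D0.deg = n)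
    (C : (FunFld.degHom k K).ker) :
    Nat.card {D : {D : Divisor k K // 0 ≤ D ∧ D.deg = n} //
        cls D0 n h0 D = QuotientAddGroup.mk C} =
      Nat.card {D : Divisor k K // 0 ≤ D ∧ D - (D0 + C.1) ∈ prinDivs k K} := by
  apply Nat.card_congr
  refine ⟨fun D => ⟨D.1.1, D.1.2.1, (cls_eq_iff D0 n h0 D.1 C).mp D.2⟩,
    fun D => ⟨⟨D.1, D.2.1, ?_⟩, ?_⟩, fun D => rfl, fun D => rfl⟩
  · rw [deg_eq_of_sub_mem hK D.2.2, deg_add, h0, deg_ker, add_zero]
  · exact (cls_eq_iff D0 n h0 _ C).mpr D.2.2

theorem finite_pic0 [Finite k] (hK : IsFunctionField k K) : Finite (Pic0 k K) := by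
  obtain ⟨P0⟩ := nonempty_place hK
  obtain ⟨g, hg⟩ : ∃ g : ℕ, g = genus k K := ⟨_, rfl⟩
  obtain ⟨n0, hn0⟩ : ∃ n0 : ℕ, n0 = (2 * g + 1) * P0.deg := ⟨_, rfl⟩
  obtain ⟨D0, hD0⟩ : ∃ D0 : Divisor k K, D0 = Finsupp.single P0 ((2 * g + 1 : ℕ) : ℤ) := ⟨_, rfl⟩
  have h0 : D0.deg = n0 := by
    rw [hD0, deg_single, hn0]; push_cast; ring
  haveI := effective_finite hK n0
  apply Finite.of_surjective (cls D0 n0 h0)
  intro c
  obtain ⟨C, rfl⟩ := QuotientAddGroup.mk_surjective c
  have hC : C.1.deg = 0 := deg_ker C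
  have hdeg : (D0 + C.1).deg = n0 := by rw [deg_add, h0, hC, add_zero]
  have hpos : 1 ≤ P0.deg := deg_pos_place hK P0
  have hn0' : 2 * g + 1 ≤ n0 := by rw [hn0]; exact Nat.le_mul_of_pos_right _ hpos
  have hell : (ell (D0 + C.1) : ℤ) = n0 + 1 - g := by
    have := ell_eq_of_deg_ge hK (D0 + C.1) (by rw [hdeg, ← hg]; omega)
    rw [hdeg, ← hg] at this
    exact this
  have hell_pos : 0 < ell (D0 + C.1) := by
    have : (0 : ℤ) < ell (D0 + C.1) := by rw [hell]; omega
    exact_mod_cast this
  obtain ⟨x, hx, hxe⟩ := (L_ne_bot_iff hK _).mp (L_ne_bot_of_ell_pos hell_pos)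
  refine ⟨⟨D0 + C.1 + FunFld.div k x, hxe, by rw [deg_add, hdeg, deg_div hK, add_zero]⟩, ?_⟩
  rw [cls_eq_iff]
  have : D0 + C.1 + FunFld.div k x - (D0 + C.1) = FunFld.div k x := by abel
  rw [this]
  exact (mem_prinDivs_iff hK _).mpr ⟨x, hx, rfl⟩

theorem main [Finite k] (hK : IsFunctionField k K) :
    Finite (Pic0 k K) ∧ ∀ n : ℕ, 2 * genus k K ≤ n + 1 →
      ((∃ D : Divisor k K, D.deg = n) →
        ((Nat.card k : ℤ) - 1) * (effDivCount k K n : ℤ) =
          (classNum k K : ℤ) * ((Nat.card k : ℤ) ^ (n + 1 - genus k K) - 1)) ∧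
      ((¬ ∃ D : Divisor k K, D.deg = n) → effDivCount k K n = 0) := by
  classical
  haveI hfin := finite_pic0 hK
  refine ⟨hfin, fun n hn => ⟨?_, ?_⟩⟩
  · rintro ⟨D0, h0⟩
    haveI := effective_finite hK n
    haveI := Fintype.ofFinite (Pic0 k K)
    have hq : 1 ≤ Nat.card k := Nat.card_pos
    have key : (Nat.card k - 1) * effDivCount k K n =
        classNum k K * (Nat.card k ^ (n + 1 - genus k K) - 1) := by
      unfold effDivCount classNum
      rw [← Nat.card_congr (Equiv.sigmaFiberEquiv (cls D0 n h0)), Nat.card_sigma,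
        Finset.mul_sum]
      have hf : ∀ c : Pic0 k K, (Nat.card k - 1) * Nat.card {D // cls D0 n h0 D = c} =
          Nat.card k ^ (n + 1 - genus k K) - 1 := by
        intro c
        obtain ⟨C, rfl⟩ := QuotientAddGroup.mk_surjective c
        rw [card_fiber hK, card_linSys hK]
        have hdeg : (D0 + C.1).deg = n := by rw [deg_add, h0, deg_ker, add_zero]
        have he : ell (D0 + C.1) = n + 1 - genus k K := by
          have := ell_eq_of_deg_ge hK (D0 + C.1) (by rw [hdeg]; omega)
          rw [hdeg] at this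
          omega
        rw [he]
      simp only [hf, Finset.sum_const, Finset.card_univ, smul_eq_mul, Nat.card_eq_fintype_card]
    have hqe : 1 ≤ Nat.card k ^ (n + 1 - genus k K) := Nat.one_le_pow _ _ hq
    have := congrArg (Nat.cast : ℕ → ℤ) key
    push_cast [Nat.cast_sub hq, Nat.cast_sub hqe] at this
    exact this
  · intro hno
    unfold effDivCount
    haveI : IsEmpty {D : Divisor k K // 0 ≤ D ∧ D.deg = n} := ⟨fun D => hno ⟨D.1, D.2.2⟩⟩
    exact Nat.card_of_isEmpty

end Groth.Agent.Helper6.FFZeta
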