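import Mathlib
import Groth.Prelude.Def_W4bk4goldsch45
import Groth.Prelude.Def_W4bk4goldsch23Ext
import Groth.Agent.Helper6.FFZeta1
import Groth.Agent.Helper5.FGResAdj
import Groth.Agent.Helper5.FGConst6
import Groth.Agent.Helper5.FGConorm
import Groth.Agent.Helper5.FFGeom6

set_option backward.isDefEq.respectTransparency false
set_option backward.isDefEq.respectTransparency.types false
set_option autoImplicit false
set_option linter.style.haveILetI false

open FunFld Polynomial TensorProduct

namespace Groth.Agent.Helper6.FFZeta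

open Groth.Agent.Helper5

universe u v

/-- two embeddings of a finite field have the same image -/
theorem range_eq_of_finite {F L : Type*} [Field F] [Finite F] [Field L] (f g : F →+* L) :
    Set.range f = Set.range g := by
  classical
  haveI := Fintype.ofFinite F
  obtain ⟨N, hN⟩ : ∃ N, N = Fintype.card F := ⟨_, rfl⟩
  have hN1 : 1 < N := hN ▸ Fintype.one_lt_card
  have hne : (X ^ N - X : L[X]) ≠ 0 := FiniteField.X_pow_card_sub_X_ne_zero L hN1
  have key : ∀ f : F →+* L, Finset.univ.image f = (X ^ N - X : L[X]).roots.toFinset := by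
    intro f
    apply Finset.eq_of_subset_of_card_le
    · intro y hy
      obtain ⟨c, -, rfl⟩ := Finset.mem_image.mp hy
      rw [Multiset.mem_toFinset, mem_roots hne, IsRoot.def, eval_sub, eval_pow, eval_X,
        ← map_pow, hN, FiniteField.pow_card, sub_self]
    · rw [Finset.card_image_of_injective _ f.injective, Finset.card_univ, ← hN]
      calc (X ^ N - X : L[X]).roots.toFinset.card ≤ Multiset.card (X ^ N - X : L[X]).roots :=
            Multiset.toFinset_card_le _
        _ ≤ (X ^ N - X : L[X]).natDegree := Polynomial.card_roots' _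
        _ = N := FiniteField.X_pow_card_sub_X_natDegree_eq L hN1
  have haux : ∀ f g : F →+* L, Set.range f ⊆ Set.range g := by
    intro f g y hy
    obtain ⟨c, rfl⟩ := hy
    have : f c ∈ Finset.univ.image g := by
      rw [key g, ← key f]; exact Finset.mem_image_of_mem _ (Finset.mem_univ _)
    obtain ⟨c', -, hc'⟩ := Finset.mem_image.mp this
    exact ⟨c', hc'⟩
  exact Set.Subset.antisymm (haux f g) (haux g f)

section
variable {k k' : Type u} {K K' : Type v} [Field k] [Field k'] [Field K] [Field K']
    [Algebra k k'] [Algebra k K] [Algebra K K'] [Algebra k' K'] [Algebra k K']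
    [IsScalarTower k k' K'] [IsScalarTower k K K']

/-- a place of `K'/k` viewed as a place of `K'/k'` -/
def toK' [FiniteDimensional k k'] (Q : Place k K') : Place k' K' :=
  ⟨Q.1, fun c => FG.gval_le_one_of_isAlgebraic Q.1 Q.2.1
      (IsAlgebraic.algebraMap (Algebra.IsAlgebraic.isAlgebraic c)), Q.2.2⟩

theorem toK'_injective [FiniteDimensional k k'] :
    Function.Injective (toK' : Place k K' → Place k' K') := by
  intro Q Q' h
  apply Subtype.ext
  exact congrArg (fun R : Place k' K' => R.1) h

theorem deg_toK' [FiniteDimensional k k'] (Q : Place k K') :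
    Module.finrank k k' * (toK' Q : Place k' K').deg = Q.deg := by
  unfold Place.deg
  letI : Algebra k (IsLocalRing.ResidueField (toK' Q : Place k' K').O) := Place.algRes Q
  haveI : IsScalarTower k k' (IsLocalRing.ResidueField (toK' Q : Place k' K').O) :=
    IsScalarTower.of_algebraMap_eq fun c => by
      show IsLocalRing.residue _ (algebraMap k Q.O c) =
        IsLocalRing.residue _ (algebraMap k' (toK' Q : Place k' K').O (algebraMap k k' c))
      congr 1
      apply Subtype.ext
      exact IsScalarTower.algebraMap_apply k k' K' c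
  exact Module.finrank_mul_finrank k k' _

theorem finrank_baseChange [FiniteDimensional k k']
    (h : Function.Bijective (Algebra.TensorProduct.productMap
      (IsScalarTower.toAlgHom k k' K') (IsScalarTower.toAlgHom k K K'))) :
    Module.finrank K K' = Module.finrank k k' := by
  let ψ : K ⊗[k] k' →ₐ[K] K' :=
    Algebra.TensorProduct.productLeftAlgHom (Algebra.ofId K K') (IsScalarTower.toAlgHom k k' K')
  have hψ : Function.Bijective ψ := by
    have : ⇑ψ = ⇑(Algebra.TensorProduct.productMap
      (IsScalarTower.toAlgHom k k' K') (IsScalarTower.toAlgHom k K K')) ∘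
        ⇑(Algebra.TensorProduct.comm k K k') := by
      ext z
      induction z using TensorProduct.induction_on with
      | zero => simp
      | tmul a b => simp [ψ, Algebra.ofId_apply, mul_comm]
      | add x y hx hy => simp only [map_add, hx, hy, Function.comp_apply]
    rw [this]
    exact h.comp (Algebra.TensorProduct.comm k K k').bijective
  rw [← (AlgEquiv.ofBijective ψ hψ).toLinearEquiv.finrank_eq, Module.finrank_baseChange]

/-- places over a place whose degree is divisible by `[k':k]` are unramified of the same degree -/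
theorem deg_eq_of_dvd [Finite k] [FiniteDimensional k k']
    (h : Function.Bijective (Algebra.TensorProduct.productMap
      (IsScalarTower.toAlgHom k k' K') (IsScalarTower.toAlgHom k K K')))
    (hK : IsFunctionField k K) (P : Place k K) (Q : Place k K')
    (hQ : IsOver Q P) (hdvd : Module.finrank k k' ∣ P.deg) :
    IsOverWith Q P 1 ∧ Q.deg = P.deg := by
  classical
  haveI : Algebra.IsSeparable k k' := Algebra.IsAlgebraic.isSeparable_of_perfectField
  haveI hfin : FiniteDimensional K K' := FF.finite_of_baseChange h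
  letI : Algebra P.O K' := ((algebraMap K K').comp P.O.subtype).toAlgebra
  haveI : IsScalarTower P.O K K' := IsScalarTower.of_algebraMap_eq fun _ => rfl
  obtain ⟨hns, he1⟩ := FG.sep_const_core h hK P
    (F := IsLocalRing.ResidueField P.O)
    { IsLocalRing.residue P.O with commutes' := fun _ => rfl }
    (FG.residue_eq_zero_iff P) Q hQ
  refine ⟨he1, ?_⟩
  haveI : P.1.HasExtension Q.1 := ⟨by
    intro x y
    show P.1 x ≤ P.1 y ↔ Q.1 (algebraMap K K' x) ≤ Q.1 (algebraMap K K' y)
    rw [he1 x, he1 y, pow_one, pow_one]⟩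
  have hk' : ∀ c : k', Q.1 (algebraMap k' K' c) ≤ 1 := fun c => (toK' Q : Place k' K').2.1 c
  have hadj := FG.residueField_eq_adjoin h hK P hns Q hk'
  have hFFK' : FG.IsFF k K' := FG.isFF_of_finite hK.1
  haveI hfdP : FiniteDimensional k (IsLocalRing.ResidueField P.O) :=
    FF.finiteDimensional_residueField hK P
  haveI hfdQ : FiniteDimensional k (IsLocalRing.ResidueField Q.O) :=
    FG.finiteDimensional_residueField hFFK' Q
  haveI : Finite (IsLocalRing.ResidueField P.O) := Module.finite_of_finite k
  haveI : Finite (IsLocalRing.ResidueField Q.O) := Module.finite_of_finite k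
  haveI : Finite k' := Module.finite_of_finite k
  obtain ⟨φ⟩ : Nonempty (k' →ₐ[k] IsLocalRing.ResidueField P.O) :=
    FiniteField.nonempty_algHom_of_finrank_dvd hdvd
  let ι₁ : k' →+* IsLocalRing.ResidueField Q.O :=
    (IsLocalRing.residue Q.O).comp ((algebraMap k' K').codRestrict Q.O hk')
  let ι₂ : k' →+* IsLocalRing.ResidueField Q.O :=
    (algebraMap (IsLocalRing.ResidueField P.O) (IsLocalRing.ResidueField Q.O)).comp φ.toRingHom
  have hrange := range_eq_of_finite ι₁ ι₂
  have hsurj : Function.Surjective
      (algebraMap (IsLocalRing.ResidueField P.O) (IsLocalRing.ResidueField Q.O)) := by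
    have hle : Algebra.adjoin (IsLocalRing.ResidueField P.O)
        (Set.range fun c : k' => IsLocalRing.residue Q.O ⟨algebraMap k' K' c, hk' c⟩) ≤ ⊥ := by
      apply Algebra.adjoin_le
      rintro _ ⟨c, rfl⟩
      have : ι₁ c ∈ Set.range ι₂ := hrange ▸ ⟨c, rfl⟩
      obtain ⟨c', hc'⟩ := this
      rw [SetLike.mem_coe, Algebra.mem_bot]
      exact ⟨φ c', hc'⟩
    rw [hadj] at hle
    intro y
    have : y ∈ (⊥ : Subalgebra (IsLocalRing.ResidueField P.O)
        (IsLocalRing.ResidueField Q.O)) := hle Algebra.mem_top
    exact Algebra.mem_bot.mp this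
  have hbij : Function.Bijective
      (algebraMap (IsLocalRing.ResidueField P.O) (IsLocalRing.ResidueField Q.O)) :=
    ⟨RingHom.injective
      (algebraMap (IsLocalRing.ResidueField P.O) (IsLocalRing.ResidueField Q.O)), hsurj⟩
  have hcard := Nat.card_eq_of_bijective _ hbij
  have h1 : Nat.card (IsLocalRing.ResidueField P.O) = Nat.card k ^ P.deg :=
    Module.natCard_eq_pow_finrank
  have h2 : Nat.card (IsLocalRing.ResidueField Q.O) = Nat.card k ^ Q.deg :=
    Module.natCard_eq_pow_finrank
  rw [h1, h2] at hcard
  exact (Nat.pow_right_injective (Finite.one_lt_card (α := k)) hcard).symm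

theorem card_isOver [Finite k] [FiniteDimensional k k']
    (h : Function.Bijective (Algebra.TensorProduct.productMap
      (IsScalarTower.toAlgHom k k' K') (IsScalarTower.toAlgHom k K K')))
    (hK : IsFunctionField k K) (P : Place k K)
    (hdvd : Module.finrank k k' ∣ P.deg) (Qs : Finset (Place k K'))
    (hQs : ∀ Q, Q ∈ Qs ↔ IsOver Q P) :
    Qs.card = Module.finrank k k' := by
  haveI hfin : FiniteDimensional K K' := FF.finite_of_baseChange h
  obtain ⟨-, hsum⟩ := FG.finite_isOver_and_sum (K' := K') hK P
  have h1 := hsum Qs hQs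
  have h2 : ∀ Q ∈ Qs, ramIdx Q P * Q.deg = P.deg := by
    intro Q hQ
    obtain ⟨he1, hdeg⟩ := deg_eq_of_dvd h hK P Q ((hQs Q).mp hQ) hdvd
    rw [FG.ramIdx_eq he1, hdeg, one_mul]
  rw [Finset.sum_congr rfl h2, Finset.sum_const, smul_eq_mul, finrank_baseChange h] at h1
  exact Nat.eq_of_mul_eq_mul_right (FF.deg_pos_place hK P) h1

theorem exists_two_over [Finite k] [FiniteDimensional k k']
    (h : Function.Bijective (Algebra.TensorProduct.productMap
      (IsScalarTower.toAlgHom k k' K') (IsScalarTower.toAlgHom k K K')))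
    (hK : IsFunctionField k K) (hr : 2 ≤ Module.finrank k k')
    (P : Place k K) (hdvd : Module.finrank k k' ∣ P.deg) :
    ∃ Q1 Q2 : Place k K', IsOver Q1 P ∧ IsOver Q2 P ∧ Q1 ≠ Q2 ∧
      Q1.deg = P.deg ∧ Q2.deg = P.deg := by
  classical
  haveI hfin : FiniteDimensional K K' := FF.finite_of_baseChange h
  obtain ⟨hfinite, -⟩ := FG.finite_isOver_and_sum (K' := K') hK P
  have hQs : ∀ Q, Q ∈ hfinite.toFinset ↔ IsOver Q P := fun Q => by simp
  have hcard := card_isOver h hK P hdvd hfinite.toFinset hQs
  have : 1 < hfinite.toFinset.card := by omega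
  obtain ⟨Q1, hQ1, Q2, hQ2, hne⟩ := Finset.one_lt_card.mp this
  exact ⟨Q1, Q2, (hQs Q1).mp hQ1, (hQs Q2).mp hQ2, hne,
    (deg_eq_of_dvd h hK P Q1 ((hQs Q1).mp hQ1) hdvd).2,
    (deg_eq_of_dvd h hK P Q2 ((hQs Q2).mp hQ2) hdvd).2⟩

/-- two disjoint degree-compatible sections of the restriction map on places -/
theorem exists_sections [Finite k] [FiniteDimensional k k']
    (h : Function.Bijective (Algebra.TensorProduct.productMap
      (IsScalarTower.toAlgHom k k' K') (IsScalarTower.toAlgHom k K K')))
    (hK : IsFunctionField k K) (hr : 2 ≤ Module.finrank k k')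
    (hall : ∀ P : Place k K, Module.finrank k k' ∣ P.deg) :
    ∃ s1 s2 : Place k K → Place k' K', Function.Injective s1 ∧ Function.Injective s2 ∧
      (∀ P P', s1 P ≠ s2 P') ∧ (∀ P, Module.finrank k k' * (s1 P).deg = P.deg) ∧
      (∀ P, Module.finrank k k' * (s2 P).deg = P.deg) := by
  choose Q1 Q2 h1 h2 hne hd1 hd2 using fun P => exists_two_over h hK hr P (hall P)
  refine ⟨fun P => toK' (Q1 P), fun P => toK' (Q2 P), ?_, ?_, ?_, ?_, ?_⟩
  · intro P P' hPP
    have e : Q1 P = Q1 P' := toK'_injective hPP
    have h' : IsOver (Q1 P) P' := by rw [e]; exact h1 P'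
    exact FG.isOver_unique (h1 P) h'
  · intro P P' hPP
    have e : Q2 P = Q2 P' := toK'_injective hPP
    have h' : IsOver (Q2 P) P' := by rw [e]; exact h2 P'
    exact FG.isOver_unique (h2 P) h'
  · intro P P' hPP
    have e : Q1 P = Q2 P' := toK'_injective hPP
    have h' : IsOver (Q1 P) P' := by rw [e]; exact h2 P'
    have hP : P = P' := FG.isOver_unique (h1 P) h'
    subst hP
    exact hne P e
  · intro P
    rw [deg_toK', hd1]
  · intro P
    rw [deg_toK', hd2]

end

end Groth.Agent.Helper6.FFZeta
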