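import Mathlib
import Groth.Agent.Helper6.FFZeta2

set_option backward.isDefEq.respectTransparency false
set_option backward.isDefEq.respectTransparency.types false
set_option autoImplicit false
set_option linter.style.haveILetI false

open FunFld Polynomial TensorProduct

namespace Groth.Agent.Helper6.FFZeta

open Groth.Agent.Helper5
open Groth.Agent.Helper5.FF hiding degHom degHom_apply

universe u v

section bounds
variable {k K : Type*} [Field k] [Field K] [Algebra k K]

theorem classNum_pos [Finite k] (hK : IsFunctionField k K) : 0 < classNum k K := by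
  haveI := finite_pic0 hK
  unfold classNum
  exact Nat.card_pos

theorem lower_bound [Finite k] (hK : IsFunctionField k K) (n : ℕ) (hn : 2 * genus k K ≤ n)
    (hex : ∃ D : Divisor k K, D.deg = n) :
    Nat.card k ^ (n - genus k K) ≤ effDivCount k K n := by
  have hmain := ((main hK).2 n (by omega)).1 hex
  have hh : (1 : ℤ) ≤ classNum k K := by exact_mod_cast classNum_pos hK
  have hq1 : 1 < Nat.card k := Finite.one_lt_card
  have hq : (2 : ℤ) ≤ Nat.card k := by exact_mod_cast hq1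
  obtain ⟨X, hX⟩ : ∃ X : ℕ, X = Nat.card k ^ (n - genus k K) := ⟨_, rfl⟩
  have hX1 : (1 : ℤ) ≤ X := by
    rw [hX]; exact_mod_cast Nat.one_le_pow _ _ (by omega)
  have hpow : (Nat.card k : ℤ) ^ (n + 1 - genus k K) = X * Nat.card k := by
    rw [hX, show n + 1 - genus k K = (n - genus k K) + 1 by omega, pow_succ]; push_cast; ring
  rw [hpow] at hmain
  rw [← hX]
  have hA : (0 : ℤ) ≤ effDivCount k K n := Int.natCast_nonneg _
  by_contra hcon
  push Not at hcon
  have hcon' : (effDivCount k K n : ℤ) + 1 ≤ X := by exact_mod_cast hcon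
  have hXq : (2 : ℤ) ≤ (X : ℤ) * Nat.card k := by
    nlinarith [mul_nonneg (show (0 : ℤ) ≤ (X : ℤ) - 1 by linarith)
      (show (0 : ℤ) ≤ (Nat.card k : ℤ) - 2 by linarith)]
  have e1 : (classNum k K : ℤ) * ((X : ℤ) * Nat.card k - 1) ≥ (X : ℤ) * Nat.card k - 1 := by
    nlinarith [mul_nonneg (show (0 : ℤ) ≤ (classNum k K : ℤ) - 1 by linarith)
      (show (0 : ℤ) ≤ (X : ℤ) * Nat.card k - 1 by linarith)]
  have e2 : ((Nat.card k : ℤ) - 1) * effDivCount k K n ≤ ((Nat.card k : ℤ) - 1) * (X - 1) :=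
    mul_le_mul_of_nonneg_left (by linarith) (by linarith)
  nlinarith

theorem upper_bound [Finite k] (hK : IsFunctionField k K) (m : ℕ)
    (hm : 2 * genus k K ≤ m + 1) :
    effDivCount k K m ≤ classNum k K * Nat.card k ^ (m + 1) := by
  by_cases hex : ∃ D : Divisor k K, D.deg = m
  · have hmain := ((main hK).2 m hm).1 hex
    have hq1 : 1 < Nat.card k := Finite.one_lt_card
    have hq : (2 : ℤ) ≤ Nat.card k := by exact_mod_cast hq1
    have hA : (0 : ℤ) ≤ effDivCount k K m := Int.natCast_nonneg _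
    have hh : (0 : ℤ) ≤ classNum k K := Int.natCast_nonneg _
    have hpow : (Nat.card k : ℤ) ^ (m + 1 - genus k K) ≤ (Nat.card k : ℤ) ^ (m + 1) :=
      pow_le_pow_right₀ (by linarith) (by omega)
    have : (effDivCount k K m : ℤ) ≤ classNum k K * (Nat.card k : ℤ) ^ (m + 1) := by
      have h1 : (effDivCount k K m : ℤ) ≤ ((Nat.card k : ℤ) - 1) * effDivCount k K m := by
        nlinarith
      have h2 : (classNum k K : ℤ) * ((Nat.card k : ℤ) ^ (m + 1 - genus k K) - 1) ≤
          classNum k K * (Nat.card k : ℤ) ^ (m + 1) := by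
        nlinarith [mul_nonneg hh (show (0 : ℤ) ≤ (Nat.card k : ℤ) ^ (m + 1) -
          (Nat.card k : ℤ) ^ (m + 1 - genus k K) + 1 by linarith)]
      linarith
    exact_mod_cast this
  · rw [((main hK).2 m hm).2 hex]; exact Nat.zero_le _

end bounds

section phi
variable {k k' K K' : Type*} [Field k] [Field k'] [Field K] [Field K']
    [Algebra k K] [Algebra k' K']
variable (s1 s2 : Place k K → Place k' K')

/-- combine two divisors of `K` into one of `K'` along two sections -/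
noncomputable def Phi (D : Divisor k K × Divisor k K) : Divisor k' K' :=
  D.1.mapDomain s1 + D.2.mapDomain s2

variable {s1 s2}

theorem Phi_apply_s1 (hs1 : Function.Injective s1) (hdisj : ∀ P P', s1 P ≠ s2 P')
    (D : Divisor k K × Divisor k K) (P : Place k K) : Phi s1 s2 D (s1 P) = D.1 P := by
  unfold Phi
  rw [Finsupp.add_apply, Finsupp.mapDomain_apply hs1, Finsupp.mapDomain_of_notMem_range,
    add_zero]
  rintro ⟨P', hP'⟩
  exact hdisj P P' hP'.symm

theorem Phi_apply_s2 (hs2 : Function.Injective s2) (hdisj : ∀ P P', s1 P ≠ s2 P')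
    (D : Divisor k K × Divisor k K) (P : Place k K) : Phi s1 s2 D (s2 P) = D.2 P := by
  unfold Phi
  rw [Finsupp.add_apply, Finsupp.mapDomain_apply hs2, Finsupp.mapDomain_of_notMem_range,
    zero_add]
  rintro ⟨P', hP'⟩
  exact hdisj P' P hP'

theorem Phi_injective (hs1 : Function.Injective s1) (hs2 : Function.Injective s2)
    (hdisj : ∀ P P', s1 P ≠ s2 P') : Function.Injective (Phi s1 s2) := by
  intro D D' h
  apply Prod.ext
  · ext P
    rw [← Phi_apply_s1 hs1 hdisj D P, h, Phi_apply_s1 hs1 hdisj D' P]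
  · ext P
    rw [← Phi_apply_s2 hs2 hdisj D P, h, Phi_apply_s2 hs2 hdisj D' P]

theorem mapDomain_nonneg {α β : Type*} {s : α → β} (hs : Function.Injective s) {D : α →₀ ℤ}
    (hD : 0 ≤ D) : 0 ≤ D.mapDomain s := by
  intro Q
  rw [Finsupp.zero_apply]
  by_cases hQ : Q ∈ Set.range s
  · obtain ⟨P, rfl⟩ := hQ
    rw [Finsupp.mapDomain_apply hs]
    have := hD P
    rwa [Finsupp.zero_apply] at this
  · rw [Finsupp.mapDomain_of_notMem_range _ _ hQ]

theorem Phi_nonneg (hs1 : Function.Injective s1) (hs2 : Function.Injective s2)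
    {D : Divisor k K × Divisor k K} (h1 : 0 ≤ D.1) (h2 : 0 ≤ D.2) : 0 ≤ Phi s1 s2 D :=
  add_nonneg (mapDomain_nonneg hs1 h1) (mapDomain_nonneg hs2 h2)

theorem deg_mapDomain (s : Place k K → Place k' K') (r : ℕ)
    (hdeg : ∀ P, r * (s P).deg = P.deg) (D : Divisor k K) :
    (r : ℤ) * Divisor.deg (D.mapDomain s : Divisor k' K') = D.deg := by
  unfold Divisor.deg
  rw [Finsupp.sum_mapDomain_index (fun _ => zero_mul _) (fun _ _ _ => add_mul _ _ _)]
  unfold Finsupp.sum
  rw [Finset.mul_sum]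
  apply Finset.sum_congr rfl
  intro P _
  show (r : ℤ) * (D P * ((s P).deg : ℤ)) = D P * (P.deg : ℤ)
  rw [← hdeg P]
  push_cast
  ring

theorem deg_Phi (r : ℕ) (hd1 : ∀ P, r * (s1 P).deg = P.deg)
    (hd2 : ∀ P, r * (s2 P).deg = P.deg) (D : Divisor k K × Divisor k K) :
    (r : ℤ) * (Phi s1 s2 D).deg = D.1.deg + D.2.deg := by
  unfold Phi
  rw [deg_add, mul_add, deg_mapDomain s1 r hd1, deg_mapDomain s2 r hd2]

theorem count_ineq [Finite k] [Finite k'] (hK : IsFunctionField k K)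
    (hK' : IsFunctionField k' K') (r : ℕ) (hr : 0 < r)
    (hs1 : Function.Injective s1) (hs2 : Function.Injective s2)
    (hdisj : ∀ P P', s1 P ≠ s2 P') (hd1 : ∀ P, r * (s1 P).deg = P.deg)
    (hd2 : ∀ P, r * (s2 P).deg = P.deg) (j0 M : ℕ) :
    ∑ j : Fin M, effDivCount k K (r * (j0 + j)) * effDivCount k K (r * (j0 + (M - 1 - j))) ≤
      effDivCount k' K' (2 * j0 + M - 1) := by
  classical
  haveI := effective_finite hK' (2 * j0 + M - 1)
  haveI : ∀ n, Finite {D : Divisor k K // 0 ≤ D ∧ D.deg = (n : ℕ)} :=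
    fun n => effective_finite hK n
  have hcardT : Nat.card (Σ j : Fin M,
      ({D : Divisor k K // 0 ≤ D ∧ D.deg = ((r * (j0 + j) : ℕ) : ℤ)} ×
        {D : Divisor k K // 0 ≤ D ∧ D.deg = ((r * (j0 + (M - 1 - j)) : ℕ) : ℤ)})) =
      ∑ j : Fin M, effDivCount k K (r * (j0 + j)) *
        effDivCount k K (r * (j0 + (M - 1 - j))) := by
    rw [Nat.card_sigma]
    apply Finset.sum_congr rfl
    intro j _
    rw [Nat.card_prod]
    rfl
  rw [← hcardT]
  have hdeg : ∀ x : (Σ j : Fin M,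
      ({D : Divisor k K // 0 ≤ D ∧ D.deg = ((r * (j0 + j) : ℕ) : ℤ)} ×
        {D : Divisor k K // 0 ≤ D ∧ D.deg = ((r * (j0 + (M - 1 - j)) : ℕ) : ℤ)})),
      (Phi s1 s2 (x.2.1.1, x.2.2.1)).deg = ((2 * j0 + M - 1 : ℕ) : ℤ) := by
    intro x
    have h1 := deg_Phi r hd1 hd2 (x.2.1.1, x.2.2.1)
    rw [x.2.1.2.2, x.2.2.2.2] at h1
    have hj : (x.1 : ℕ) < M := x.1.2
    have h2 : j0 + (x.1 : ℕ) + (j0 + (M - 1 - (x.1 : ℕ))) = 2 * j0 + M - 1 := by omega
    have h3 : (r : ℤ) * (Phi s1 s2 (x.2.1.1, x.2.2.1)).deg =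
        (r : ℤ) * ((2 * j0 + M - 1 : ℕ) : ℤ) := by
      rw [h1, ← h2]; push_cast; ring
    have hr0 : (r : ℤ) ≠ 0 := by exact_mod_cast hr.ne'
    exact mul_left_cancel₀ hr0 h3
  let Ψ : (Σ j : Fin M,
      ({D : Divisor k K // 0 ≤ D ∧ D.deg = ((r * (j0 + j) : ℕ) : ℤ)} ×
        {D : Divisor k K // 0 ≤ D ∧ D.deg = ((r * (j0 + (M - 1 - j)) : ℕ) : ℤ)})) →
      {D : Divisor k' K' // 0 ≤ D ∧ D.deg = ((2 * j0 + M - 1 : ℕ) : ℤ)} :=
    fun x => ⟨Phi s1 s2 (x.2.1.1, x.2.2.1), Phi_nonneg hs1 hs2 x.2.1.2.1 x.2.2.2.1, hdeg x⟩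
  have hΨ : Function.Injective Ψ := by
    rintro ⟨j, D1, D2⟩ ⟨j', D1', D2'⟩ hxy
    have h1 : Phi s1 s2 (D1.1, D2.1) = Phi s1 s2 (D1'.1, D2'.1) := Subtype.ext_iff.mp hxy
    have h2 := Phi_injective hs1 hs2 hdisj h1
    have h3 : D1.1 = D1'.1 := congrArg Prod.fst h2
    have h4 : D2.1 = D2'.1 := congrArg Prod.snd h2
    have hj : j = j' := by
      have e1 := D1.2.2
      have e2 := D1'.2.2
      rw [h3, e2] at e1
      have e3 : r * (j0 + j') = r * (j0 + j) := by exact_mod_cast e1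
      have := Nat.eq_of_mul_eq_mul_left hr e3
      exact Fin.ext (by omega)
    subst hj
    have h5 : D1 = D1' := Subtype.ext h3
    have h6 : D2 = D2' := Subtype.ext h4
    rw [h5, h6]
  unfold effDivCount
  exact Nat.card_le_card_of_injective Ψ hΨ

end phi

section main
variable {k k' : Type u} {K K' : Type v} [Field k] [Field k'] [Field K] [Field K']
    [Algebra k k'] [Algebra k K] [Algebra K K'] [Algebra k' K'] [Algebra k K']
    [IsScalarTower k k' K'] [IsScalarTower k K K']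

/-- the key contradiction: not all places can have degree divisible by `[k':k] ≥ 2`
when there is a divisor of degree `[k':k]` -/
theorem false_of_all_dvd [Finite k] [FiniteDimensional k k']
    (h : Function.Bijective (Algebra.TensorProduct.productMap
      (IsScalarTower.toAlgHom k k' K') (IsScalarTower.toAlgHom k K K')))
    (hK : IsFunctionField k K) (hr : 2 ≤ Module.finrank k k')
    (hall : ∀ P : Place k K, Module.finrank k k' ∣ P.deg)
    (D0 : Divisor k K) (hD0 : D0.deg = (Module.finrank k k' : ℕ)) : False := by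
  classical
  have hgeo : IsGeometric k K := FF.isGeometric_of_perfectField k K hK
  have hK' : IsFunctionField k' K' := (FF.isFunctionField_baseChange h hK hgeo).1
  haveI : Finite k' := Module.finite_of_finite k
  obtain ⟨s1, s2, hs1, hs2, hdisj, hd1, hd2⟩ := exists_sections h hK hr hall
  have hq' : Nat.card k' = Nat.card k ^ Module.finrank k k' := Module.natCard_eq_pow_finrank
  obtain ⟨r, hrdef⟩ : ∃ r, r = Module.finrank k k' := ⟨_, rfl⟩
  rw [← hrdef] at hr hD0 hd1 hd2 hq'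
  obtain ⟨g, hgdef⟩ : ∃ g, g = genus k K := ⟨_, rfl⟩
  obtain ⟨g', hg'def⟩ : ∃ g', g' = genus k' K' := ⟨_, rfl⟩
  obtain ⟨c', hc'def⟩ : ∃ c', c' = classNum k' K' := ⟨_, rfl⟩
  obtain ⟨q, hqdef⟩ : ∃ q, q = Nat.card k := ⟨_, rfl⟩
  have hq1 : 1 < q := hqdef ▸ Finite.one_lt_card
  obtain ⟨M, hMdef⟩ : ∃ M, M = c' * q ^ (2 * g + r) + 1 + 2 * g' := ⟨_, rfl⟩
  obtain ⟨m, hmdef⟩ : ∃ m, m = 2 * g + M - 1 := ⟨_, rfl⟩
  have hr0 : 0 < r := by omega
  have hcount := count_ineq hK hK' r hr0 hs1 hs2 hdisj hd1 hd2 g M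
  rw [← hmdef] at hcount
  have hupper := upper_bound hK' m (by rw [← hg'def]; omega)
  rw [← hc'def, hq', ← hqdef, ← pow_mul] at hupper
  obtain ⟨rm, hrm⟩ : ∃ rm, rm = r * m := ⟨_, rfl⟩
  have hm2g : 2 * g ≤ m := by omega
  have hrm2g : 2 * g ≤ rm := by
    rw [hrm]
    calc 2 * g ≤ m := hm2g
      _ = 1 * m := (one_mul m).symm
      _ ≤ r * m := Nat.mul_le_mul_right m hr0
  have hlower : ∀ j ∈ (Finset.univ : Finset (Fin M)), q ^ (rm - 2 * g) ≤
      effDivCount k K (r * (g + j)) * effDivCount k K (r * (g + (M - 1 - j))) := by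
    intro j _
    have hj : (j : ℕ) < M := j.2
    have hex : ∀ l : ℕ, ∃ D : Divisor k K, D.deg = ((r * l : ℕ) : ℤ) := by
      intro l
      refine ⟨l • D0, ?_⟩
      rw [deg_nsmul, hD0]; push_cast; ring
    have hge : ∀ l : ℕ, g ≤ l → 2 * g ≤ r * l := by
      intro l hl
      calc 2 * g ≤ 2 * l := by omega
        _ ≤ r * l := Nat.mul_le_mul_right l hr
    have b1 := lower_bound hK (r * (g + j)) (by rw [← hgdef]; exact hge _ (by omega))
      (hex _)
    have b2 := lower_bound hK (r * (g + (M - 1 - j))) (by rw [← hgdef]; exact hge _ (by omega))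
      (hex _)
    rw [← hgdef, ← hqdef] at b1 b2
    have hsum : r * (g + j) + r * (g + (M - 1 - j)) = rm := by
      rw [hrm, ← Nat.mul_add]; congr 1; omega
    have h1 := hge (g + j) (by omega)
    have h2 := hge (g + (M - 1 - j)) (by omega)
    calc q ^ (rm - 2 * g) = q ^ ((r * (g + j) - g) + (r * (g + (M - 1 - j)) - g)) := by
          congr 1; omega
      _ = q ^ (r * (g + j) - g) * q ^ (r * (g + (M - 1 - j)) - g) := pow_add _ _ _
      _ ≤ _ := Nat.mul_le_mul b1 b2
  have hsum := Finset.card_nsmul_le_sum _ _ _ hlower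
  rw [Finset.card_univ, Fintype.card_fin, smul_eq_mul] at hsum
  have htot : M * q ^ (rm - 2 * g) ≤ c' * q ^ (r * (m + 1)) := hsum.trans (hcount.trans hupper)
  have hexp : r * (m + 1) = (2 * g + r) + (rm - 2 * g) := by
    rw [Nat.mul_succ, ← hrm]; omega
  rw [hexp, pow_add, ← mul_assoc] at htot
  have hpos : 0 < q ^ (rm - 2 * g) := Nat.pow_pos (by omega)
  have := Nat.le_of_mul_le_mul_right htot hpos
  omega

end main

end Groth.Agent.Helper6.FFZeta
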