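import Mathlib
import Groth.Agent.Helper6.FFZeta3

set_option backward.isDefEq.respectTransparency false
set_option backward.isDefEq.respectTransparency.types false
set_option autoImplicit false
set_option linter.style.haveILetI false

open FunFld Polynomial TensorProduct
open scoped IntermediateField

namespace Groth.Agent.Helper6.FFZeta

open Groth.Agent.Helper5
open Groth.Agent.Helper5.FF hiding degHom degHom_apply

universe u v

theorem exists_irreducible_natDegree (k : Type u) [Field k] [Finite k] (n : ℕ) (hn : 0 < n) :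
    ∃ f : k[X], f.Monic ∧ Irreducible f ∧ f.natDegree = n := by
  obtain ⟨p, hp⟩ := CharP.exists k
  haveI := hp
  haveI : Fact p.Prime := ⟨CharP.char_is_prime k p⟩
  haveI : NeZero n := ⟨hn.ne'⟩
  haveI : Algebra.IsSeparable k (FiniteField.Extension k p n) :=
    Algebra.IsAlgebraic.isSeparable_of_perfectField
  obtain ⟨α, hα⟩ := Field.exists_primitive_element k (FiniteField.Extension k p n)
  have hint : IsIntegral k α := IsIntegral.of_finite k α
  refine ⟨minpoly k α, minpoly.monic hint, minpoly.irreducible hint, ?_⟩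
  rw [← IntermediateField.adjoin.finrank hint, hα, IntermediateField.finrank_top',
    FiniteField.finrank_extension]

theorem deg_zsmul {k K : Type*} [Field k] [Field K] [Algebra k K] (z : ℤ) (D : Divisor k K) :
    (z • D).deg = z * D.deg := by
  rw [← degHom_apply', map_zsmul, degHom_apply', smul_eq_mul]

section constr
variable {k : Type u} {K : Type v} [Field k] [Field K] [Algebra k K] (f : k[X])

/-- the algebra structure of `K[X]/(f)` over `k[X]/(f)` -/
@[reducible] noncomputable def algK' :
    Algebra (AdjoinRoot f) (AdjoinRoot (f.map (algebraMap k K))) :=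
  (AdjoinRoot.map (algebraMap k K) f (f.map (algebraMap k K)) dvd_rfl).toAlgebra

attribute [local instance] algK'

theorem algebraMap_K'_apply (x : AdjoinRoot f) :
    algebraMap (AdjoinRoot f) (AdjoinRoot (f.map (algebraMap k K))) x =
      AdjoinRoot.map (algebraMap k K) f (f.map (algebraMap k K)) dvd_rfl x := rfl

theorem tower_K' : IsScalarTower k (AdjoinRoot f) (AdjoinRoot (f.map (algebraMap k K))) :=
  IsScalarTower.of_algebraMap_eq fun c => by
    rw [algebraMap_K'_apply, AdjoinRoot.algebraMap_eq, AdjoinRoot.map_of,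
      AdjoinRoot.algebraMap_eq']
    rfl

attribute [local instance] tower_K'

theorem prod_bijective [Fact (Irreducible f)] [Fact (Irreducible (f.map (algebraMap k K)))] (hfd : FiniteDimensional k (AdjoinRoot f))
    (hg : IsGeometric k K) :
    Function.Bijective (Algebra.TensorProduct.productMap
      (IsScalarTower.toAlgHom k (AdjoinRoot f) (AdjoinRoot (f.map (algebraMap k K))))
      (IsScalarTower.toAlgHom k K (AdjoinRoot (f.map (algebraMap k K))))) := by
  constructor
  · have hfield : IsField (AdjoinRoot f ⊗[k] K) := hg (AdjoinRoot f) hfd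
    rw [injective_iff_map_eq_zero]
    intro z hz
    by_contra hne
    obtain ⟨w, hw⟩ := hfield.mul_inv_cancel hne
    have := congrArg (Algebra.TensorProduct.productMap
      (IsScalarTower.toAlgHom k (AdjoinRoot f) (AdjoinRoot (f.map (algebraMap k K))))
      (IsScalarTower.toAlgHom k K (AdjoinRoot (f.map (algebraMap k K))))) hw
    rw [map_mul, hz, zero_mul, map_one] at this
    exact zero_ne_one this
  · intro y
    obtain ⟨Φ, hΦ⟩ : ∃ Φ, Φ = Algebra.TensorProduct.productMap
      (IsScalarTower.toAlgHom k (AdjoinRoot f) (AdjoinRoot (f.map (algebraMap k K))))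
      (IsScalarTower.toAlgHom k K (AdjoinRoot (f.map (algebraMap k K)))) := ⟨_, rfl⟩
    rw [← hΦ]
    have hroot : AdjoinRoot.root (f.map (algebraMap k K)) ∈ Φ.range :=
      ⟨AdjoinRoot.root f ⊗ₜ 1, by
        show Φ _ = _
        rw [hΦ, Algebra.TensorProduct.productMap_apply_tmul, map_one, mul_one]
        show algebraMap (AdjoinRoot f) _ (AdjoinRoot.root f) = _
        rw [algebraMap_K'_apply, AdjoinRoot.map_root]⟩
    have hKmem : ∀ x : K, algebraMap K (AdjoinRoot (f.map (algebraMap k K))) x ∈ Φ.range :=
      fun x => ⟨1 ⊗ₜ x, by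
        show Φ _ = _
        rw [hΦ, Algebra.TensorProduct.productMap_apply_tmul, map_one, one_mul]
        rfl⟩
    suffices hy : y ∈ Φ.range from (AlgHom.mem_range Φ).mp hy
    induction y using AdjoinRoot.induction_on with
    | ih p =>
      rw [← AdjoinRoot.aeval_eq, Polynomial.aeval_eq_sum_range]
      apply Subalgebra.sum_mem
      intro i _
      rw [Algebra.smul_def]
      exact mul_mem (hKmem _) (pow_mem hroot i)

end constr

/-- F. K. Schmidt: a function field over a finite field has a divisor of degree one -/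
theorem fk_schmidt (k : Type u) (K : Type v) [Field k] [Finite k] [Field K] [Algebra k K]
    (hK : IsFunctionField k K) : Function.Surjective (Divisor.deg : Divisor k K → ℤ) := by
  classical
  obtain ⟨P0⟩ := nonempty_place hK
  have hex : ∃ n : ℕ, 0 < n ∧ ∃ D : Divisor k K, D.deg = n :=
    ⟨P0.deg, deg_pos_place hK P0, Finsupp.single P0 1, by rw [deg_single, one_mul]⟩
  obtain ⟨d, hd⟩ : ∃ d, d = Nat.find hex := ⟨_, rfl⟩
  obtain ⟨hd0, D0, hD0⟩ : 0 < d ∧ ∃ D : Divisor k K, D.deg = d := hd ▸ Nat.find_spec hex
  have hmin : ∀ n : ℕ, 0 < n → (∃ D : Divisor k K, D.deg = n) → d ≤ n :=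
    fun n hn hD => hd ▸ Nat.find_min' hex ⟨hn, hD⟩
  have hdvd : ∀ D : Divisor k K, (d : ℤ) ∣ D.deg := by
    intro D
    apply Int.dvd_of_emod_eq_zero
    by_contra hne
    have hd0' : (0 : ℤ) < d := by exact_mod_cast hd0
    obtain ⟨t, ht⟩ : ∃ t, t = D.deg % d := ⟨_, rfl⟩
    have h1 : 0 ≤ t := ht ▸ Int.emod_nonneg _ hd0'.ne'
    have h2 : t < d := ht ▸ Int.emod_lt_of_pos _ hd0'
    have h3 : (D - (D.deg / d) • D0).deg = t := by
      rw [deg_sub, deg_zsmul, hD0, ht, Int.emod_def]; ring
    rw [← ht] at hne
    have h4 := hmin t.toNat (by omega) ⟨_, by rw [h3, Int.toNat_of_nonneg h1]⟩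
    omega
  have hallP : ∀ P : Place k K, d ∣ P.deg := by
    intro P
    have := hdvd (Finsupp.single P 1)
    rw [deg_single, one_mul] at this
    exact Int.natCast_dvd_natCast.mp this
  rcases Nat.lt_or_ge d 2 with hlt | hd2
  · have hd1 : d = 1 := by omega
    subst hd1
    intro n
    refine ⟨n • D0, ?_⟩
    rw [deg_zsmul, hD0]; simp
  · exfalso
    obtain ⟨f, hmonic, hirr, hdeg⟩ := exists_irreducible_natDegree k d hd0
    haveI : Fact (Irreducible f) := ⟨hirr⟩
    haveI : Fact (Irreducible (f.map (algebraMap k K))) :=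
      ⟨FF.irreducible_map_of_algClosedIn hK.2 hmonic hirr⟩
    letI := algK' (K := K) f
    haveI := tower_K' (K := K) f
    have hf0 : f ≠ 0 := hmonic.ne_zero
    haveI hfd : FiniteDimensional k (AdjoinRoot f) := (AdjoinRoot.powerBasis hf0).finite
    have hfr : Module.finrank k (AdjoinRoot f) = d := by
      rw [(AdjoinRoot.powerBasis hf0).finrank, AdjoinRoot.powerBasis_dim, hdeg]
    have hgeo := FF.isGeometric_of_perfectField k K hK
    have hbij := prod_bijective (K := K) f hfd hgeo
    exact false_of_all_dvd (k' := AdjoinRoot f) (K' := AdjoinRoot (f.map (algebraMap k K)))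
      hbij hK (by rw [hfr]; exact hd2) (by rw [hfr]; exact hallP) D0 (by rw [hfr]; exact hD0)

end Groth.Agent.Helper6.FFZeta
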