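import Mathlib
import Groth.Agent.Helper6.FFZeta4
import Groth.Agent.Helper5.FFRiemann

set_option backward.isDefEq.respectTransparency false
set_option backward.isDefEq.respectTransparency.types false
set_option autoImplicit false
set_option linter.style.haveILetI false

open FunFld Polynomial

namespace Groth.Agent.Helper6.FFZeta

open Groth.Agent.Helper5
open Groth.Agent.Helper5.FF hiding degHom degHom_apply

variable {k K : Type*} [Field k] [Field K] [Algebra k K]

theorem ell_eq_of_sub_mem (hK : IsFunctionField k K) {D E : Divisor k K}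
    (h : D - E ∈ prinDivs k K) : ell D = ell E := by
  obtain ⟨x, hx, hxe⟩ := (mem_prinDivs_iff hK _).mp h
  have : D = E + FunFld.div k x := by rw [← hxe]; abel
  rw [this, ell_add_div hK E hx]

/-- representative divisor of a class -/
noncomputable def rep (c : Pic0 k K) : Divisor k K := (Quotient.out c).1

theorem deg_rep (c : Pic0 k K) : (rep c).deg = 0 := deg_ker _

theorem mk_out (c : Pic0 k K) : (QuotientAddGroup.mk (Quotient.out c) : Pic0 k K) = c :=
  QuotientAddGroup.out_eq' c

/-- the class sum `∑_c q^{ℓ(D + c)}` over degree zero classes -/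
noncomputable def classSum (D : Divisor k K) : ℕ :=
  ∑ᶠ c : Pic0 k K, Nat.card k ^ ell (D + rep c)

theorem classSum_add (hK : IsFunctionField k K) (D C : Divisor k K) (hC : C.deg = 0) :
    classSum (D + C) = classSum D := by
  have hCk : C ∈ (FunFld.degHom k K).ker := by
    rw [AddMonoidHom.mem_ker, degHom_apply']; exact hC
  let σ : Pic0 k K ≃ Pic0 k K := Equiv.addRight (QuotientAddGroup.mk ⟨C, hCk⟩)
  unfold classSum
  rw [← finsum_comp_equiv σ (f := fun c => Nat.card k ^ ell (D + rep c))]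
  apply finsum_congr
  intro c
  congr 1
  apply ell_eq_of_sub_mem hK
  have h1 : (QuotientAddGroup.mk (Quotient.out (σ c)) : Pic0 k K) =
      QuotientAddGroup.mk (Quotient.out c + ⟨C, hCk⟩) := by
    rw [mk_out, QuotientAddGroup.mk_add, mk_out]; rfl
  have h2 := (mk_eq_mk_iff _ _).mp h1
  have h3 : D + C + rep c - (D + rep (σ c)) =
      -((Quotient.out (σ c)).1 - (Quotient.out c + ⟨C, hCk⟩ : (FunFld.degHom k K).ker).1) := by
    show D + C + (Quotient.out c).1 - (D + (Quotient.out (σ c)).1) =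
      -((Quotient.out (σ c)).1 - ((Quotient.out c).1 + C))
    abel
  rw [h3]
  exact neg_mem h2

theorem classSum_neg (hK : IsFunctionField k K) (D : Divisor k K) :
    ∑ᶠ c : Pic0 k K, Nat.card k ^ ell (D - rep c) = classSum D := by
  unfold classSum
  rw [← finsum_comp_equiv (Equiv.neg (Pic0 k K)) (f := fun c => Nat.card k ^ ell (D + rep c))]
  apply finsum_congr
  intro c
  congr 1
  apply ell_eq_of_sub_mem hK
  have h1 : (QuotientAddGroup.mk (Quotient.out (Equiv.neg (Pic0 k K) c)) : Pic0 k K) =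
      QuotientAddGroup.mk (-(Quotient.out c)) := by
    rw [mk_out, QuotientAddGroup.mk_neg, mk_out]; rfl
  have h2 := (mk_eq_mk_iff _ _).mp h1
  have h3 : D - rep c - (D + rep (Equiv.neg (Pic0 k K) c)) =
      -((Quotient.out (Equiv.neg (Pic0 k K) c)).1 -
        (-(Quotient.out c) : (FunFld.degHom k K).ker).1) := by
    show D - (Quotient.out c).1 - (D + (Quotient.out (Equiv.neg (Pic0 k K) c)).1) =
      -((Quotient.out (Equiv.neg (Pic0 k K) c)).1 - (-(Quotient.out c).1))
    abel
  rw [h3]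
  exact neg_mem h2

theorem classSum_of_deg_neg [Finite k] (hK : IsFunctionField k K) (D : Divisor k K)
    (hD : D.deg < 0) : classSum D = classNum k K := by
  haveI := finite_pic0 hK
  haveI := Fintype.ofFinite (Pic0 k K)
  unfold classSum classNum
  rw [finsum_eq_sum_of_fintype]
  have : ∀ c : Pic0 k K, Nat.card k ^ ell (D + rep c) = 1 := by
    intro c
    have h1 : L (D + rep c) = ⊥ :=
      L_eq_bot_of_deg_neg hK _ (by rw [deg_add, deg_rep, add_zero]; exact hD)
    have h2 : ell (D + rep c) = 0 := by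
      unfold ell; rw [h1, finrank_bot]
    rw [h2, pow_zero]
  simp only [this, Finset.sum_const, Finset.card_univ, smul_eq_mul, mul_one,
    Nat.card_eq_fintype_card]

theorem card_eff_eq [Finite k] (hK : IsFunctionField k K) (n : ℕ) (D0 : Divisor k K)
    (h0 : D0.deg = n) :
    (Nat.card k - 1) * effDivCount k K n + classNum k K = classSum D0 := by
  classical
  haveI := finite_pic0 hK
  haveI := Fintype.ofFinite (Pic0 k K)
  haveI := effective_finite hK n
  have hq : 1 ≤ Nat.card k := Nat.card_pos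
  unfold effDivCount classNum classSum
  rw [finsum_eq_sum_of_fintype, ← Nat.card_congr (Equiv.sigmaFiberEquiv (cls D0 n h0)),
    Nat.card_sigma, Finset.mul_sum]
  have hf : ∀ c : Pic0 k K, (Nat.card k - 1) * Nat.card {D // cls D0 n h0 D = c} + 1 =
      Nat.card k ^ ell (D0 + rep c) := by
    intro c
    have h1 := card_fiber hK D0 n h0 (Quotient.out c)
    rw [mk_out c] at h1
    rw [h1]
    have h2 := card_linSys hK (D0 + (Quotient.out c).1)
    have h3 : 1 ≤ Nat.card k ^ ell (D0 + (Quotient.out c).1) := Nat.one_le_pow _ _ hq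
    show _ = Nat.card k ^ ell (D0 + (Quotient.out c).1)
    omega
  rw [← Finset.sum_congr rfl (fun c _ => hf c), Finset.sum_add_distrib]
  simp only [Finset.sum_const, Finset.card_univ, smul_eq_mul, mul_one, Nat.card_eq_fintype_card]

theorem classSum_rr [Finite k] (hK : IsFunctionField k K) (W : Divisor k K)
    (hW : IsCanonical k K W) (D : Divisor k K) :
    (classSum (W - D) : ℚ) =
      (Nat.card k : ℚ) ^ ((genus k K : ℤ) - 1 - D.deg) * classSum D := by
  haveI := finite_pic0 hK
  haveI := Fintype.ofFinite (Pic0 k K)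
  have hq0 : (Nat.card k : ℚ) ≠ 0 := by
    have : 0 < Nat.card k := Nat.card_pos
    exact_mod_cast this.ne'
  rw [← classSum_neg hK (W - D)]
  unfold classSum
  rw [finsum_eq_sum_of_fintype, finsum_eq_sum_of_fintype, Nat.cast_sum, Nat.cast_sum,
    Finset.mul_sum]
  apply Finset.sum_congr rfl
  intro c _
  have hrr := riemann_roch hK W hW (D + rep c)
  rw [deg_add, deg_rep, add_zero] at hrr
  have : W - (D + rep c) = W - D - rep c := by abel
  rw [this] at hrr
  push_cast
  rw [← zpow_natCast, ← zpow_natCast (Nat.card k : ℚ) (ell (D + rep c)), ← zpow_add₀ hq0]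
  congr 1
  omega

section seq
variable [Finite k] (hK : IsFunctionField k K) (D1 : Divisor k K) (h1 : D1.deg = 1)
include hK h1

theorem S_symm (n m : ℤ) (hnm : n + m = 2 * (genus k K : ℤ) - 2) :
    (classSum (m • D1) : ℚ) =
      (Nat.card k : ℚ) ^ ((genus k K : ℤ) - 1 - n) * classSum (n • D1) := by
  obtain ⟨W, hW⟩ := exists_isCanonical hK
  have hWdeg := (ell_canonical hK hW).2
  have hC : (m • D1 - (W - n • D1)).deg = 0 := by
    rw [deg_sub, deg_sub, deg_zsmul, deg_zsmul, h1, hWdeg]; linarith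
  have e1 : m • D1 = (W - n • D1) + (m • D1 - (W - n • D1)) := by abel
  rw [e1, classSum_add hK _ _ hC, classSum_rr hK W hW, deg_zsmul, h1, mul_one]

/-- the number of effective divisors, extended by zero to negative degrees -/
noncomputable def aQ (k K : Type*) [Field k] [Field K] [Algebra k K] (n : ℤ) : ℚ :=
  if 0 ≤ n then (effDivCount k K n.toNat : ℚ) else 0

theorem aQ_eq (n : ℤ) :
    ((Nat.card k : ℚ) - 1) * aQ k K n = classSum (n • D1) - classNum k K := by
  unfold aQ
  split_ifs with hn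
  · obtain ⟨m, rfl⟩ := Int.eq_ofNat_of_zero_le hn
    have h0 : ((m : ℤ) • D1).deg = m := by rw [deg_zsmul, h1, mul_one]
    have := card_eff_eq hK m _ h0
    have hq : 1 ≤ Nat.card k := Nat.card_pos
    have h2 := congrArg (Nat.cast : ℕ → ℚ) this
    push_cast [Nat.cast_sub hq] at h2
    rw [Int.toNat_natCast]
    linarith
  · have hneg : (n • D1).deg < 0 := by rw [deg_zsmul, h1, mul_one]; omega
    rw [classSum_of_deg_neg hK _ hneg]
    ring

/-- the coefficients of the numerator, extended to all integers -/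
noncomputable def Lq (k K : Type*) [Field k] [Field K] [Algebra k K] (i : ℤ) : ℚ :=
  aQ k K i - ((Nat.card k : ℚ) + 1) * aQ k K (i - 1) + (Nat.card k : ℚ) * aQ k K (i - 2)

theorem Lq_symm (i : ℤ) :
    Lq k K (2 * (genus k K : ℤ) - i) =
      (Nat.card k : ℚ) ^ ((genus k K : ℤ) - i) * Lq k K i := by
  have hq1 : 1 < Nat.card k := Finite.one_lt_card
  have hq0 : (Nat.card k : ℚ) ≠ 0 := by
    have : (0 : ℚ) < Nat.card k := by exact_mod_cast (by omega : 0 < Nat.card k)
    exact this.ne'
  have hq1' : (Nat.card k : ℚ) - 1 ≠ 0 := by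
    have : (1 : ℚ) < Nat.card k := by exact_mod_cast hq1
    linarith
  have hI := aQ_eq hK D1 h1
  have hS := S_symm hK D1 h1
  apply mul_left_cancel₀ hq1'
  unfold Lq
  generalize (Nat.card k : ℚ) = q at *
  generalize (genus k K : ℤ) = g at *
  generalize (classNum k K : ℚ) = c at *
  have a1 := hI (2 * g - i)
  have a2 := hI (2 * g - i - 1)
  have a3 := hI (2 * g - i - 2)
  have b1 := hI i
  have b2 := hI (i - 1)
  have b3 := hI (i - 2)
  have s1 := hS (i - 2) (2 * g - i) (by ring)
  have s2 := hS (i - 1) (2 * g - i - 1) (by ring)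
  have s3 := hS i (2 * g - i - 2) (by ring)
  have z1 : q ^ (g - 1 - (i - 2)) = q ^ (g - i) * q := by
    rw [show g - 1 - (i - 2) = (g - i) + 1 by ring, zpow_add_one₀ hq0]
  have z2 : q ^ (g - 1 - (i - 1)) = q ^ (g - i) := by
    rw [show g - 1 - (i - 1) = g - i by ring]
  have z3 : q ^ (g - 1 - i) * q = q ^ (g - i) := by
    rw [show g - 1 - i = (g - i) - 1 by ring, zpow_sub_one₀ hq0, mul_assoc, inv_mul_cancel₀ hq0,
      mul_one]
  rw [z1] at s1
  rw [z2] at s2
  generalize q ^ (g - i) = E at *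
  generalize q ^ (g - 1 - i) = E' at *
  linear_combination a1 - (q + 1) * a2 + q * a3 - E * b1 + E * (q + 1) * b2 - E * q * b3
    + s1 - (q + 1) * s2 + q * s3 + ((classSum (i • D1) : ℚ)) * z3

theorem aQ_of_neg (n : ℤ) (hn : n < 0) : aQ k K n = 0 := by
  unfold aQ; rw [if_neg (by omega)]

theorem Lq_of_neg (i : ℤ) (hi : i < 0) : Lq k K i = 0 := by
  unfold Lq
  rw [aQ_of_neg hK D1 h1 i hi, aQ_of_neg hK D1 h1 (i - 1) (by omega),
    aQ_of_neg hK D1 h1 (i - 2) (by omega)]
  ring

end seq

theorem coeff_numerZ (m : ℕ) : PowerSeries.coeff m (numerZ k K) =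
    (effDivCount k K m : ℤ) -
      ((Nat.card k : ℤ) + 1) * (if 1 ≤ m then (effDivCount k K (m - 1) : ℤ) else 0) +
      (Nat.card k : ℤ) * (if 2 ≤ m then (effDivCount k K (m - 2) : ℤ) else 0) := by
  unfold numerZ
  have e : (1 - PowerSeries.X) * (1 - PowerSeries.C (Nat.card k : ℤ) * PowerSeries.X) *
      zetaZ k K = zetaZ k K -
        PowerSeries.X ^ 1 * (PowerSeries.C ((Nat.card k : ℤ) + 1) * zetaZ k K) +
        PowerSeries.X ^ 2 * (PowerSeries.C (Nat.card k : ℤ) * zetaZ k K) := by
    rw [map_add, map_one]; ring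
  rw [e, map_add, map_sub, PowerSeries.coeff_X_pow_mul', PowerSeries.coeff_X_pow_mul']
  have hz : ∀ j, PowerSeries.coeff j (zetaZ k K) = (effDivCount k K j : ℤ) := fun j => by
    unfold zetaZ; rw [PowerSeries.coeff_mk]
  split_ifs <;> simp only [PowerSeries.coeff_C_mul, hz, mul_zero]

theorem coeff_numerZ_Q (m : ℕ) :
    ((PowerSeries.coeff m (numerZ k K) : ℤ) : ℚ) = Lq k K m := by
  rw [coeff_numerZ]
  unfold Lq aQ
  have h0 : (0 : ℤ) ≤ (m : ℤ) := Int.natCast_nonneg m
  rw [if_pos h0, Int.toNat_natCast]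
  by_cases h1 : 1 ≤ m
  · rw [if_pos h1, if_pos (by omega : (0 : ℤ) ≤ (m : ℤ) - 1)]
    have e1 : ((m : ℤ) - 1).toNat = m - 1 := by omega
    rw [e1]
    by_cases h2 : 2 ≤ m
    · rw [if_pos h2, if_pos (by omega : (0 : ℤ) ≤ (m : ℤ) - 2)]
      have e2 : ((m : ℤ) - 2).toNat = m - 2 := by omega
      rw [e2]
      push_cast; ring
    · rw [if_neg h2, if_neg (by omega : ¬ (0 : ℤ) ≤ (m : ℤ) - 2)]
      push_cast; ring
  · rw [if_neg h1, if_neg (by omega : ¬ (0 : ℤ) ≤ (m : ℤ) - 1), if_neg (by omega : ¬ 2 ≤ m),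
      if_neg (by omega : ¬ (0 : ℤ) ≤ (m : ℤ) - 2)]
    push_cast; ring

theorem effDivCount_zero (hK : IsFunctionField k K) : effDivCount k K 0 = 1 := by
  unfold effDivCount
  rw [Nat.card_eq_one_iff_unique]
  refine ⟨⟨fun D E => ?_⟩, ⟨⟨0, le_refl _, by rw [deg_zero]; rfl⟩⟩⟩
  have hz : ∀ D : {D : Divisor k K // 0 ≤ D ∧ D.deg = ((0 : ℕ) : ℤ)}, D.1 = 0 := by
    intro D
    by_contra hne
    have := deg_pos_of_pos hK D.2.1 hne
    rw [D.2.2] at this
    exact lt_irrefl _ this
  exact Subtype.ext ((hz D).trans (hz E).symm)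

/-- the basic facts on the numerator of the zeta function -/
theorem numerZ_facts [Finite k] (hK : IsFunctionField k K) :
    (∀ n : ℕ, 2 * genus k K < n → PowerSeries.coeff n (numerZ k K) = 0) ∧
    PowerSeries.coeff 0 (numerZ k K) = 1 ∧
    ∀ i : ℕ, i ≤ 2 * genus k K →
      (((PowerSeries.coeff (2 * genus k K - i) (numerZ k K) : ℤ)) : ℚ) =
        (Nat.card k : ℚ) ^ ((genus k K : ℤ) - i) *
          (((PowerSeries.coeff i (numerZ k K) : ℤ)) : ℚ) := by
  obtain ⟨D1, h1⟩ := fk_schmidt k K hK 1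
  refine ⟨?_, ?_, ?_⟩
  · intro n hn
    have h2 := Lq_symm hK D1 h1 (2 * (genus k K : ℤ) - n)
    rw [sub_sub_cancel, Lq_of_neg hK D1 h1 (2 * (genus k K : ℤ) - n) (by omega), mul_zero] at h2
    have h3 := coeff_numerZ_Q (k := k) (K := K) n
    rw [h2] at h3
    exact_mod_cast h3
  · rw [coeff_numerZ, if_neg (by omega), if_neg (by omega), effDivCount_zero hK]
    simp
  · intro i hi
    rw [coeff_numerZ_Q, coeff_numerZ_Q]
    have := Lq_symm hK D1 h1 (i : ℤ)
    rw [← this]
    congr 1
    push_cast [Nat.cast_sub hi]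
    ring

end Groth.Agent.Helper6.FFZeta
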