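import Mathlib
import Groth.Prelude.Def_W4bk4goldsch45
import Groth.Agent.Helper6.FFZeta1

set_option backward.isDefEq.respectTransparency false
set_option backward.isDefEq.respectTransparency.types false
set_option autoImplicit false
set_option linter.style.haveILetI false

open FunFld

namespace Groth.Agent.Helper6.FFZeta

open Groth.Agent.Helper5.FF hiding degHom degHom_apply

variable {k K : Type*} [Field k] [Field K] [Algebra k K]

/-- `N_s = ∑_{deg P ∣ s} deg P` -/
noncomputable def Ns (k K : Type*) [Field k] [Field K] [Algebra k K] (s : ℕ) : ℕ :=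
  ∑ᶠ P : Place k K, if P.deg ∣ s then P.deg else 0

theorem finite_deg_le [Finite k] (hK : IsFunctionField k K) (n : ℕ) :
    {P : Place k K | P.deg ≤ n}.Finite := by
  apply ((Set.finite_Iic n).biUnion fun m _ => finite_deg_eq hK m).subset
  intro P hP
  simp only [Set.mem_iUnion, Set.mem_Iic, Set.mem_setOf_eq, exists_prop]
  exact ⟨P.deg, hP, rfl⟩

theorem Ns_eq_sum (S : Finset (Place k K)) (n s : ℕ)
    (hS : ∀ P : Place k K, P.deg ≤ n → P ∈ S) (hs0 : 0 < s) (hsn : s ≤ n) :
    Ns k K s = ∑ P ∈ S, if P.deg ∣ s then P.deg else 0 := by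
  unfold Ns
  apply finsum_eq_sum_of_support_subset
  intro P hP
  rw [Function.mem_support] at hP
  rw [Finset.mem_coe]
  apply hS
  by_cases h : P.deg ∣ s
  · exact (Nat.le_of_dvd hs0 h).trans hsn
  · rw [if_neg h] at hP
    exact absurd rfl hP

theorem effective_setFinite [Finite k] (hK : IsFunctionField k K) (n : ℕ) :
    {D : Divisor k K | 0 ≤ D ∧ D.deg = n}.Finite :=
  Set.finite_coe_iff.mp (effective_finite hK n)

/-- the finset of effective divisors of degree `n` -/
noncomputable def Eff [Finite k] (hK : IsFunctionField k K) (n : ℕ) : Finset (Divisor k K) :=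
  (effective_setFinite hK n).toFinset

theorem mem_Eff [Finite k] (hK : IsFunctionField k K) (n : ℕ) (D : Divisor k K) :
    D ∈ Eff hK n ↔ 0 ≤ D ∧ D.deg = n := by
  unfold Eff
  rw [Set.Finite.mem_toFinset]
  rfl

theorem card_Eff [Finite k] (hK : IsFunctionField k K) (n : ℕ) :
    (Eff hK n).card = effDivCount k K n := by
  unfold Eff effDivCount
  rw [← Set.ncard_eq_toFinset_card _ (effective_setFinite hK n), ← Nat.card_coe_set_eq]
  rfl

theorem int_eq_sum_indicator (n : ℕ) (z : ℤ) (h0 : 0 ≤ z) (hn : z ≤ n) :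
    z = ∑ j ∈ Finset.range n, if ((j : ℤ) + 1 ≤ z) then (1 : ℤ) else 0 := by
  rw [Finset.sum_boole]
  have : (Finset.range n).filter (fun j : ℕ => (j : ℤ) + 1 ≤ z) = Finset.range z.toNat := by
    ext j
    simp only [Finset.mem_filter, Finset.mem_range]
    omega
  rw [this, Finset.card_range]
  exact (Int.toNat_of_nonneg h0).symm

theorem nonneg_apply {D : Divisor k K} (hD : 0 ≤ D) (Q : Place k K) : 0 ≤ D Q := by
  have := hD Q
  rwa [Finsupp.zero_apply] at this

theorem nonneg_of_apply {D : Divisor k K} (h : ∀ Q, 0 ≤ D Q) : 0 ≤ D := by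
  intro Q
  rw [Finsupp.zero_apply]
  exact h Q

theorem deg_eq_sum_of_subset (D : Divisor k K) (S : Finset (Place k K)) (hS : D.support ⊆ S) :
    D.deg = ∑ P ∈ S, D P * (P.deg : ℤ) := by
  unfold Divisor.deg
  exact Finsupp.sum_of_support_subset D hS _ (fun P _ => zero_mul _)

theorem apply_le [Finite k] (hK : IsFunctionField k K) {n : ℕ} {D : Divisor k K}
    (hD : D ∈ Eff hK n) (P : Place k K) :
    0 ≤ D P ∧ D P ≤ n ∧ D P * (P.deg : ℤ) ≤ n := by
  rw [mem_Eff] at hD
  have h0 := nonneg_apply hD.1 P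
  have h2 := term_le_deg hD.1 P
  rw [hD.2] at h2
  have hpos : (1 : ℤ) ≤ P.deg := by exact_mod_cast deg_pos_place hK P
  refine ⟨h0, ?_, h2⟩
  calc D P ≤ D P * P.deg := le_mul_of_one_le_right h0 hpos
    _ ≤ n := h2

theorem support_subset [Finite k] (hK : IsFunctionField k K) {n : ℕ} {D : Divisor k K}
    (hD : D ∈ Eff hK n) (S : Finset (Place k K)) (hS : ∀ P : Place k K, P.deg ≤ n → P ∈ S) :
    D.support ⊆ S := by
  intro P hP
  apply hS
  rw [Finsupp.mem_support_iff] at hP
  obtain ⟨h0, -, h2⟩ := apply_le hK hD P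
  have h1 : 1 ≤ D P := by omega
  have h3 : (P.deg : ℤ) ≤ D P * P.deg := le_mul_of_one_le_left (Int.natCast_nonneg _) h1
  have : (P.deg : ℤ) ≤ n := h3.trans h2
  exact_mod_cast this

open scoped Classical in
theorem card_filter_ge [Finite k] (hK : IsFunctionField k K) (n : ℕ) (P : Place k K) (j : ℕ) :
    ((Eff hK n).filter (fun D => (j : ℤ) + 1 ≤ D P)).card =
      if (j + 1) * P.deg ≤ n then effDivCount k K (n - (j + 1) * P.deg) else 0 := by
  by_cases h : (j + 1) * P.deg ≤ n
  · rw [if_pos h, ← card_Eff hK]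
    refine Finset.card_nbij' (fun D => D - Finsupp.single P ((j : ℤ) + 1))
      (fun D => D + Finsupp.single P ((j : ℤ) + 1)) ?_ ?_ ?_ ?_
    · intro D hD
      rw [Finset.mem_coe] at hD ⊢
      rw [Finset.mem_filter, mem_Eff] at hD
      obtain ⟨⟨hD0, hDn⟩, hcP⟩ := hD
      rw [mem_Eff]
      refine ⟨nonneg_of_apply fun Q => ?_, ?_⟩
      · rw [Finsupp.sub_apply, Finsupp.single_apply]
        by_cases hQ : P = Q
        · rw [if_pos hQ]
          subst hQ
          linarith
        · rw [if_neg hQ, sub_zero]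
          exact nonneg_apply hD0 Q
      · rw [deg_sub, deg_single, hDn, Nat.cast_sub h]
        push_cast
        ring
    · intro D hD
      rw [Finset.mem_coe] at hD ⊢
      rw [mem_Eff] at hD
      obtain ⟨hD0, hDn⟩ := hD
      rw [Finset.mem_filter, mem_Eff]
      refine ⟨⟨nonneg_of_apply fun Q => ?_, ?_⟩, ?_⟩
      · rw [Finsupp.add_apply, Finsupp.single_apply]
        have := nonneg_apply hD0 Q
        by_cases hQ : P = Q
        · rw [if_pos hQ]
          linarith
        · rw [if_neg hQ, add_zero]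
          exact this
      · rw [deg_add, deg_single, hDn, Nat.cast_sub h]
        push_cast
        ring
      · rw [Finsupp.add_apply, Finsupp.single_eq_same]
        have := nonneg_apply hD0 P
        linarith
    · intro D _
      exact sub_add_cancel _ _
    · intro D _
      exact add_sub_cancel_right _ _
  · rw [if_neg h, Finset.card_eq_zero, Finset.filter_eq_empty_iff]
    intro D hD hj
    apply h
    obtain ⟨h0, -, h2⟩ := apply_le hK hD P
    have h3 : ((j : ℤ) + 1) * (P.deg : ℤ) ≤ D P * P.deg :=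
      mul_le_mul_of_nonneg_right hj (Int.natCast_nonneg _)
    have : (((j + 1) * P.deg : ℕ) : ℤ) ≤ n := by
      push_cast
      exact h3.trans h2
    exact_mod_cast this

theorem reindex (a : ℕ → ℤ) (n d : ℕ) (hd : 0 < d) :
    ∑ j ∈ Finset.range n, (d : ℤ) * (if (j + 1) * d ≤ n then a (n - (j + 1) * d) else 0) =
      ∑ s ∈ Finset.range n, ((if d ∣ s + 1 then d else 0 : ℕ) : ℤ) * a (n - (s + 1)) := by
  have hL : ∀ j ∈ Finset.range n,
      (d : ℤ) * (if (j + 1) * d ≤ n then a (n - (j + 1) * d) else 0) =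
      if (j + 1) * d ≤ n then (d : ℤ) * a (n - (j + 1) * d) else 0 := by
    intro j _
    split_ifs <;> simp
  have hR : ∀ s ∈ Finset.range n,
      ((if d ∣ s + 1 then d else 0 : ℕ) : ℤ) * a (n - (s + 1)) =
      if d ∣ s + 1 then (d : ℤ) * a (n - (s + 1)) else 0 := by
    intro s _
    split_ifs <;> simp
  rw [Finset.sum_congr rfl hL, Finset.sum_congr rfl hR, ← Finset.sum_filter, ← Finset.sum_filter]
  have hpos : ∀ j : ℕ, 1 ≤ (j + 1) * d := fun j => Nat.mul_pos (Nat.succ_pos j) hd
  have hdiv : ∀ s : ℕ, d ∣ s + 1 → ∃ c : ℕ, 0 < c ∧ s + 1 = c * d ∧ (s + 1) / d = c ∧ c ≤ s + 1 := by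
    intro s ⟨c, hc⟩
    have hc0 : 0 < c := by
      rcases Nat.eq_zero_or_pos c with rfl | h
      · simp at hc
      · exact h
    refine ⟨c, hc0, by rw [hc, mul_comm], by rw [hc]; exact Nat.mul_div_cancel_left c hd, ?_⟩
    rw [hc]
    exact Nat.le_mul_of_pos_left c hd
  refine Finset.sum_nbij' (fun j => (j + 1) * d - 1) (fun s => (s + 1) / d - 1) ?_ ?_ ?_ ?_ ?_
  · intro j hj
    rw [Finset.mem_filter, Finset.mem_range] at hj ⊢
    have h1 := hpos j
    refine ⟨by omega, ?_⟩
    rw [Nat.sub_add_cancel h1]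
    exact Dvd.intro_left _ rfl
  · intro s hs
    rw [Finset.mem_filter, Finset.mem_range] at hs ⊢
    obtain ⟨c, hc0, hc, hcd, hcle⟩ := hdiv s hs.2
    rw [hcd]
    refine ⟨by omega, ?_⟩
    rw [Nat.sub_add_cancel hc0, ← hc]
    omega
  · intro j hj
    have h1 := hpos j
    show ((j + 1) * d - 1 + 1) / d - 1 = j
    rw [Nat.sub_add_cancel h1, Nat.mul_div_cancel _ hd]
    rfl
  · intro s hs
    rw [Finset.mem_filter, Finset.mem_range] at hs
    obtain ⟨c, hc0, hc, hcd, hcle⟩ := hdiv s hs.2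
    show ((s + 1) / d - 1 + 1) * d - 1 = s
    rw [hcd, Nat.sub_add_cancel hc0, ← hc]
    rfl
  · intro j hj
    have h1 := hpos j
    show (d : ℤ) * a (n - (j + 1) * d) = (d : ℤ) * a (n - ((j + 1) * d - 1 + 1))
    rw [Nat.sub_add_cancel h1]

theorem sum_apply_eq [Finite k] (hK : IsFunctionField k K) (n : ℕ) (P : Place k K) :
    ∑ D ∈ Eff hK n, D P * (P.deg : ℤ) =
      ∑ s ∈ Finset.range n, ((if P.deg ∣ s + 1 then P.deg else 0 : ℕ) : ℤ) *
        (effDivCount k K (n - (s + 1)) : ℤ) := by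
  classical
  have hd := deg_pos_place hK P
  have ha : ∀ D ∈ Eff hK n, D P * (P.deg : ℤ) =
      ∑ j ∈ Finset.range n, (if ((j : ℤ) + 1 ≤ D P) then (P.deg : ℤ) else 0) := by
    intro D hD
    obtain ⟨h0, hn, -⟩ := apply_le hK hD P
    conv_lhs => rw [int_eq_sum_indicator n (D P) h0 hn]
    rw [Finset.sum_mul]
    apply Finset.sum_congr rfl
    intro j _
    split_ifs <;> simp
  rw [Finset.sum_congr rfl ha, Finset.sum_comm]
  have hb : ∀ j ∈ Finset.range n,
      ∑ D ∈ Eff hK n, (if ((j : ℤ) + 1 ≤ D P) then (P.deg : ℤ) else 0) =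
      (P.deg : ℤ) * (if (j + 1) * P.deg ≤ n then
        (effDivCount k K (n - (j + 1) * P.deg) : ℤ) else 0) := by
    intro j _
    rw [← Finset.sum_filter, Finset.sum_const, nsmul_eq_mul, card_filter_ge hK n P j]
    split_ifs <;> simp [mul_comm]
  rw [Finset.sum_congr rfl hb]
  exact reindex (fun m => (effDivCount k K m : ℤ)) n P.deg hd

/-- the recursion `n a_n = ∑_{s=1}^n N_s a_{n-s}` -/
theorem recursion [Finite k] (hK : IsFunctionField k K) (n : ℕ) :
    (n : ℤ) * (effDivCount k K n : ℤ) =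
      ∑ s ∈ Finset.range n, (Ns k K (s + 1) : ℤ) * (effDivCount k K (n - (s + 1)) : ℤ) := by
  classical
  obtain ⟨S, hSdef⟩ : ∃ S : Finset (Place k K), S = (finite_deg_le hK n).toFinset := ⟨_, rfl⟩
  have hS : ∀ P : Place k K, P.deg ≤ n → P ∈ S := fun P hP => by
    rw [hSdef, Set.Finite.mem_toFinset]
    exact hP
  have h1 : (n : ℤ) * (effDivCount k K n : ℤ) =
      ∑ D ∈ Eff hK n, ∑ P ∈ S, D P * (P.deg : ℤ) := by
    rw [← card_Eff hK n,
      Finset.sum_congr rfl (fun D hD =>
        (deg_eq_sum_of_subset D S (support_subset hK hD S hS)).symm),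
      Finset.sum_congr rfl (fun D hD => ((mem_Eff hK n D).mp hD).2),
      Finset.sum_const, nsmul_eq_mul, mul_comm]
  rw [h1, Finset.sum_comm, Finset.sum_congr rfl (fun P _ => sum_apply_eq hK n P), Finset.sum_comm]
  apply Finset.sum_congr rfl
  intro s hs
  rw [Finset.mem_range] at hs
  rw [Ns_eq_sum S n (s + 1) hS (Nat.succ_pos s) hs, Nat.cast_sum, Finset.sum_mul]

end Groth.Agent.Helper6.FFZeta
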