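import Mathlib
import Groth.Prelude.Def_W4bk4goldsch45
import Groth.Agent.Helper6.FFZeta5
import Groth.Agent.Helper6.FFZeta9

set_option backward.isDefEq.respectTransparency false
set_option backward.isDefEq.respectTransparency.types false
set_option autoImplicit false
set_option linter.style.haveILetI false

open FunFld PowerSeries

namespace Groth.Agent.Helper6.FFZeta

open Groth.Agent.Helper5.FF hiding degHom degHom_apply

/-- `G` is a logarithmic derivative of `F`: `X F' = F G` -/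
def LDP (F G : ℂ⟦X⟧) : Prop := (X : ℂ⟦X⟧) * d⁄dX ℂ F = F * G

theorem coeff_X_mul_deriv (F : ℂ⟦X⟧) (n : ℕ) :
    coeff n ((X : ℂ⟦X⟧) * d⁄dX ℂ F) = (n : ℂ) * coeff n F := by
  cases n with
  | zero => simp
  | succ m =>
    rw [coeff_succ_X_mul, coeff_derivative]
    push_cast
    ring

theorem LDP.mul {F₁ F₂ G₁ G₂ : ℂ⟦X⟧} (h₁ : LDP F₁ G₁) (h₂ : LDP F₂ G₂) :
    LDP (F₁ * F₂) (G₁ + G₂) := by
  unfold LDP at *
  rw [Derivation.leibniz, smul_eq_mul, smul_eq_mul]
  calc (X : ℂ⟦X⟧) * (F₁ * d⁄dX ℂ F₂ + F₂ * d⁄dX ℂ F₁)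
      = F₁ * (X * d⁄dX ℂ F₂) + F₂ * (X * d⁄dX ℂ F₁) := by ring
    _ = F₁ * (F₂ * G₂) + F₂ * (F₁ * G₁) := by rw [h₁, h₂]
    _ = F₁ * F₂ * (G₁ + G₂) := by ring

theorem LDP.one : LDP 1 0 := by
  unfold LDP
  rw [derivative_one, mul_zero, mul_zero]

/-- `∑_{s ≥ 1} a^s X^s` -/
noncomputable def geo (a : ℂ) : ℂ⟦X⟧ := PowerSeries.mk fun s => if s = 0 then 0 else a ^ s

theorem coeff_geo (a : ℂ) (s : ℕ) : coeff s (geo a) = if s = 0 then 0 else a ^ s := by
  unfold geo
  rw [coeff_mk]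

theorem lin_mul_geo (a : ℂ) : (1 - C a * X) * geo a = C a * X := by
  ext n
  rw [sub_mul, one_mul, map_sub, mul_assoc, coeff_C_mul, coeff_C_mul]
  cases n with
  | zero =>
    rw [coeff_zero_X_mul, coeff_geo, if_pos rfl, coeff_zero_X]
    simp
  | succ m =>
    rw [coeff_succ_X_mul, coeff_geo, coeff_geo, if_neg (Nat.succ_ne_zero m), coeff_X]
    rcases Nat.eq_zero_or_pos m with rfl | hm
    · simp
    · rw [if_neg hm.ne', if_neg (by omega)]
      rw [pow_succ]
      ring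

theorem LDP.lin (a : ℂ) : LDP (1 - C a * X) (- geo a) := by
  unfold LDP
  have hd : d⁄dX ℂ (1 - C a * X : ℂ⟦X⟧) = - C a := by
    rw [map_sub, derivative_one, Derivation.leibniz, derivative_C, derivative_X]
    simp
  rw [hd, mul_neg, mul_neg, lin_mul_geo, mul_comm]

theorem LDP.prod {ι : Type*} (s : Finset ι) (F G : ι → ℂ⟦X⟧) (h : ∀ i ∈ s, LDP (F i) (G i)) :
    LDP (∏ i ∈ s, F i) (∑ i ∈ s, G i) := by
  classical
  induction s using Finset.induction_on with
  | empty => simpa using LDP.one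
  | insert a s ha ih =>
    rw [Finset.prod_insert ha, Finset.sum_insert ha]
    exact (h a (Finset.mem_insert_self a s)).mul
      (ih fun i hi => h i (Finset.mem_insert_of_mem hi))

theorem LDP.unique_right {F G₁ G₂ : ℂ⟦X⟧} (hF : F ≠ 0) (h₁ : LDP F G₁) (h₂ : LDP F G₂) :
    G₁ = G₂ := by
  unfold LDP at *
  exact mul_left_cancel₀ hF (h₁.symm.trans h₂)

theorem LDP.unique_left {F₁ F₂ G : ℂ⟦X⟧} (h₁ : LDP F₁ G) (h₂ : LDP F₂ G)
    (hG : coeff 0 G = 0) (h0 : coeff 0 F₁ = coeff 0 F₂) : F₁ = F₂ := by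
  unfold LDP at h₁ h₂
  have hD : (X : ℂ⟦X⟧) * d⁄dX ℂ (F₁ - F₂) = (F₁ - F₂) * G := by
    rw [map_sub, mul_sub, sub_mul, h₁, h₂]
  have key : ∀ n, coeff n (F₁ - F₂) = 0 := by
    intro n
    induction n using Nat.strong_induction_on with
    | _ n ih =>
      rcases Nat.eq_zero_or_pos n with rfl | hn
      · rw [map_sub, h0, sub_self]
      · have hc := congrArg (coeff n) hD
        rw [coeff_X_mul_deriv, coeff_mul] at hc
        have hsum : ∑ p ∈ Finset.HasAntidiagonal.antidiagonal n, coeff p.1 (F₁ - F₂) * coeff p.2 G = 0 := by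
          apply Finset.sum_eq_zero
          intro p hp
          rw [Finset.HasAntidiagonal.mem_antidiagonal] at hp
          rcases Nat.eq_zero_or_pos p.2 with h2 | h2
          · rw [h2, hG, mul_zero]
          · rw [ih p.1 (by omega), zero_mul]
        rw [hsum] at hc
        have hn' : (n : ℂ) ≠ 0 := Nat.cast_ne_zero.mpr hn.ne'
        exact (mul_eq_zero.mp hc).resolve_left hn'
  exact sub_eq_zero.mp (PowerSeries.ext fun n => by rw [key n, map_zero])

variable {k K : Type*} [Field k] [Field K] [Algebra k K]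

noncomputable def Zc (k K : Type*) [Field k] [Field K] [Algebra k K] : ℂ⟦X⟧ :=
  PowerSeries.mk fun n => (effDivCount k K n : ℂ)

noncomputable def GN (k K : Type*) [Field k] [Field K] [Algebra k K] : ℂ⟦X⟧ :=
  PowerSeries.mk fun s => if s = 0 then 0 else (Ns k K s : ℂ)

theorem ldp_Zc [Finite k] (hK : IsFunctionField k K) : LDP (Zc k K) (GN k K) := by
  unfold LDP
  ext n
  rw [coeff_X_mul_deriv, mul_comm (Zc k K), coeff_mul,
    Finset.Nat.sum_antidiagonal_eq_sum_range_succ_mk, Finset.sum_range_succ']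
  dsimp only
  have h0 : coeff 0 (GN k K) = 0 := by
    unfold GN
    rw [coeff_mk, if_pos rfl]
  rw [h0, zero_mul, add_zero]
  have hrec := congrArg (Int.cast : ℤ → ℂ) (recursion hK n)
  push_cast at hrec
  have hz : coeff n (Zc k K) = (effDivCount k K n : ℂ) := by
    unfold Zc
    rw [coeff_mk]
  rw [hz, hrec]
  apply Finset.sum_congr rfl
  intro s _
  unfold GN Zc
  rw [coeff_mk, coeff_mk, if_neg (Nat.succ_ne_zero s)]

theorem map_numerZ : PowerSeries.map (Int.castRingHom ℂ) (numerZ k K) =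
    (1 - X) * (1 - C (Nat.card k : ℂ) * X) * Zc k K := by
  unfold numerZ zetaZ Zc
  rw [map_mul, map_mul, map_sub, map_sub, map_one, map_mul, PowerSeries.map_X, PowerSeries.map_C]
  congr 1

theorem coe_prod_lin {n : ℕ} (β : Fin n → ℂ) :
    ((∏ i, (1 - Polynomial.C (β i) * Polynomial.X) : Polynomial ℂ) : ℂ⟦X⟧) =
      ∏ i, (1 - C (β i) * X) := by
  rw [← Polynomial.coeToPowerSeries.ringHom_apply, map_prod]
  apply Finset.prod_congr rfl
  intro i _
  rw [Polynomial.coeToPowerSeries.ringHom_apply]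
  simp

theorem ldp_prod_lin {n : ℕ} (β : Fin n → ℂ) :
    LDP (∏ i, (1 - C (β i) * X)) (∑ i, - geo (β i)) :=
  LDP.prod Finset.univ _ _ (fun i _ => LDP.lin (β i))

theorem coeff_zero_prod_lin {n : ℕ} (β : Fin n → ℂ) :
    coeff 0 (∏ i, (1 - C (β i) * X) : ℂ⟦X⟧) = 1 := by
  rw [coeff_zero_eq_constantCoeff_apply, map_prod]
  apply Finset.prod_eq_one
  intro i _
  simp

theorem ldp_L [Finite k] (hK : IsFunctionField k K) :
    LDP ((1 - X) * (1 - C (Nat.card k : ℂ) * X) * Zc k K)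
      (- geo 1 + - geo (Nat.card k : ℂ) + GN k K) := by
  have h1 : LDP (1 - X : ℂ⟦X⟧) (- geo 1) := by
    have := LDP.lin 1
    rwa [map_one, one_mul] at this
  exact (h1.mul (LDP.lin _)).mul (ldp_Zc hK)

theorem coeff_GN (s : ℕ) (hs : 0 < s) : coeff s (GN k K) = (Ns k K s : ℂ) := by
  unfold GN
  rw [coeff_mk, if_neg hs.ne']

/-- `N_s = 1 + q^s - ∑ α_i^s` -/
theorem Ns_formula [Finite k] (hK : IsFunctionField k K) {g : ℕ} (α : Fin g → ℂ)
    (hα : PowerSeries.map (Int.castRingHom ℂ) (numerZ k K) =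
      ((∏ i, (1 - Polynomial.C (α i) * Polynomial.X) : Polynomial ℂ) : ℂ⟦X⟧))
    (s : ℕ) (hs : 0 < s) :
    (Ns k K s : ℂ) = 1 + (Nat.card k : ℂ) ^ s - ∑ i, α i ^ s := by
  rw [map_numerZ, coe_prod_lin] at hα
  have h1 := ldp_L hK
  rw [hα] at h1
  have h2 := ldp_prod_lin α
  have hne : (∏ i, (1 - C (α i) * X) : ℂ⟦X⟧) ≠ 0 := by
    intro h
    have := coeff_zero_prod_lin α
    rw [h, map_zero] at this
    exact zero_ne_one this
  have h3 := LDP.unique_right hne h1 h2
  have h4 := congrArg (coeff s) h3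
  simp only [map_add, map_neg, map_sum, coeff_geo, if_neg hs.ne', one_pow] at h4
  rw [coeff_GN s hs, Finset.sum_neg_distrib] at h4
  linear_combination h4

theorem coeff_zero_L (hK : IsFunctionField k K) :
    coeff 0 ((1 - X) * (1 - C (Nat.card k : ℂ) * X) * Zc k K) = 1 := by
  rw [coeff_zero_eq_constantCoeff_apply, map_mul, map_mul, ← coeff_zero_eq_constantCoeff_apply (Zc k K)]
  unfold Zc
  rw [coeff_mk, effDivCount_zero hK]
  simp

/-- the numerator for `K'/k'` when `N'_s = N_{ms}` and `q' = q^m` -/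
theorem numerZ_of_Ns {k K k' K' : Type*} [Field k] [Field K] [Algebra k K] [Field k'] [Field K']
    [Algebra k' K'] [Finite k] [Finite k']
    (hK : IsFunctionField k K) (hK' : IsFunctionField k' K') (m : ℕ) (hm : 0 < m)
    (hq : Nat.card k' = Nat.card k ^ m)
    (hN : ∀ s, 0 < s → Ns k' K' s = Ns k K (m * s))
    {g : ℕ} (α : Fin g → ℂ)
    (hα : PowerSeries.map (Int.castRingHom ℂ) (numerZ k K) =
      ((∏ i, (1 - Polynomial.C (α i) * Polynomial.X) : Polynomial ℂ) : ℂ⟦X⟧)) :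
    PowerSeries.map (Int.castRingHom ℂ) (numerZ k' K') =
      ((∏ i, (1 - Polynomial.C (α i ^ m) * Polynomial.X) : Polynomial ℂ) : ℂ⟦X⟧) := by
  rw [map_numerZ, coe_prod_lin]
  have h1 := ldp_L hK'
  have h2 := ldp_prod_lin (fun i => α i ^ m)
  have hG : - geo 1 + - geo (Nat.card k' : ℂ) + GN k' K' = ∑ i, - geo (α i ^ m) := by
    ext s
    simp only [map_add, map_neg, map_sum, coeff_geo]
    rcases Nat.eq_zero_or_pos s with rfl | hs
    · simp [GN]
    · simp only [if_neg hs.ne']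
      rw [coeff_GN s hs, hN s hs, Ns_formula hK α hα (m * s) (Nat.mul_pos hm hs), hq,
        Finset.sum_neg_distrib]
      push_cast
      simp only [one_pow, ← pow_mul]
      ring
  rw [hG] at h1
  apply LDP.unique_left h1 h2
  · rw [map_sum]
    apply Finset.sum_eq_zero
    intro i _
    rw [map_neg, coeff_geo, if_pos rfl, neg_zero]
  · rw [coeff_zero_prod_lin, coeff_zero_L hK']

theorem Ns_one [Finite k] (hK : IsFunctionField k K) :
    Ns k K 1 = Nat.card {P : Place k K // P.deg = 1} := by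
  classical
  have hfin := finite_deg_eq hK 1
  have hS : ∀ P : Place k K, P.deg ≤ 1 → P ∈ hfin.toFinset := by
    intro P hP
    rw [Set.Finite.mem_toFinset]
    have := deg_pos_place hK P
    show P.deg = 1
    omega
  rw [Ns_eq_sum hfin.toFinset 1 1 hS Nat.one_pos le_rfl]
  have : ∀ P ∈ hfin.toFinset, (if P.deg ∣ 1 then P.deg else 0) = 1 := by
    intro P hP
    rw [Set.Finite.mem_toFinset] at hP
    have hP' : P.deg = 1 := hP
    rw [hP', if_pos (dvd_refl 1)]
  rw [Finset.sum_congr rfl this, Finset.sum_const, smul_eq_mul, mul_one,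
    ← Set.ncard_eq_toFinset_card _ hfin, ← Nat.card_coe_set_eq]
  rfl

theorem card_deg_one_of_Ns {k K k' K' : Type*} [Field k] [Field K] [Algebra k K] [Field k']
    [Field K'] [Algebra k' K'] [Finite k] [Finite k']
    (hK : IsFunctionField k K) (hK' : IsFunctionField k' K') (m : ℕ) (hm : 0 < m)
    (hN : ∀ s, 0 < s → Ns k' K' s = Ns k K (m * s))
    {g : ℕ} (α : Fin g → ℂ)
    (hα : PowerSeries.map (Int.castRingHom ℂ) (numerZ k K) =
      ((∏ i, (1 - Polynomial.C (α i) * Polynomial.X) : Polynomial ℂ) : ℂ⟦X⟧)) :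
    (Nat.card {P : Place k' K' // P.deg = 1} : ℂ) =
      1 + (Nat.card k : ℂ) ^ m - ∑ i, α i ^ m := by
  rw [← Ns_one hK', hN 1 Nat.one_pos, mul_one]
  exact Ns_formula hK α hα m hm

end Groth.Agent.Helper6.FFZeta
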