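import Mathlib
import Groth.Prelude.Def_W4bk4goldsch45
import Groth.Prelude.Def_W4bk4goldsch23Ext
import Groth.Agent.Helper6.FFZeta2
import Groth.Agent.Helper6.FFZeta9

set_option backward.isDefEq.respectTransparency false
set_option backward.isDefEq.respectTransparency.types false
set_option autoImplicit false
set_option linter.style.haveILetI false

open FunFld Polynomial TensorProduct

namespace Groth.Agent.Helper6.FFZeta

open Groth.Agent.Helper5

universe u v

theorem pow_card_pow_of_dvd {F : Type*} [Field F] [Finite F] (q d L : ℕ)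
    (hc : Nat.card F = q ^ d) (hdL : d ∣ L) (x : F) : x ^ q ^ L = x := by
  haveI := Fintype.ofFinite F
  obtain ⟨t, rfl⟩ := hdL
  rw [pow_mul, ← hc, Nat.card_eq_fintype_card]
  exact FiniteField.pow_card_pow t x

theorem arith1 (d m e' : ℕ) (hd : 0 < d) (hm : 0 < m) (he : m * e' = Nat.lcm d m) :
    e' = d / Nat.gcd d m := by
  have hg : 0 < Nat.gcd d m := Nat.gcd_pos_of_pos_left m hd
  have h1 := Nat.gcd_mul_lcm d m
  rw [← he] at h1
  have h2 : Nat.gcd d m * e' = d := by
    apply Nat.eq_of_mul_eq_mul_right hm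
    rw [← h1]
    ring
  symm
  exact Nat.div_eq_of_eq_mul_right hg h2.symm

theorem arith3 (d m s : ℕ) (hd : 0 < d) :
    d / Nat.gcd d m ∣ s ↔ d ∣ m * s := by
  have hg : 0 < Nat.gcd d m := Nat.gcd_pos_of_pos_left m hd
  obtain ⟨d', hd'⟩ : Nat.gcd d m ∣ d := Nat.gcd_dvd_left d m
  obtain ⟨m', hm'⟩ : Nat.gcd d m ∣ m := Nat.gcd_dvd_right d m
  have hdiv : d / Nat.gcd d m = d' := Nat.div_eq_of_eq_mul_right hg hd'
  have hcop : Nat.Coprime d' m' := by
    have := Nat.coprime_div_gcd_div_gcd hg (m := d) (n := m)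
    rwa [hdiv, Nat.div_eq_of_eq_mul_right hg hm'] at this
  rw [hdiv]
  constructor
  · rintro ⟨t, rfl⟩
    refine ⟨m' * t, ?_⟩
    calc m * (d' * t) = (Nat.gcd d m * m') * (d' * t) := by rw [← hm']
      _ = (Nat.gcd d m * d') * (m' * t) := by ring
      _ = d * (m' * t) := by rw [← hd']
  · intro hdvd
    have h1 : Nat.gcd d m * d' ∣ Nat.gcd d m * (m' * s) := by
      rw [← hd', ← mul_assoc, ← hm']
      exact hdvd
    have h2 : d' ∣ m' * s := (Nat.mul_dvd_mul_iff_left hg).mp h1
    exact hcop.dvd_of_dvd_mul_left h2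

section
variable {k k' : Type u} {K K' : Type v} [Field k] [Field k'] [Field K] [Field K']
    [Algebra k k'] [Algebra k K] [Algebra K K'] [Algebra k' K'] [Algebra k K']
    [IsScalarTower k k' K'] [IsScalarTower k K K']

theorem toK'_surjective [FiniteDimensional k k'] :
    Function.Surjective (toK' : Place k K' → Place k' K') := by
  intro Q'
  refine ⟨⟨Q'.1, fun c => ?_, Q'.2.2⟩, ?_⟩
  · rw [IsScalarTower.algebraMap_apply k k' K']
    exact Q'.2.1 _
  · apply Subtype.ext
    rfl

/-- places in a constant field extension are unramified of degree `lcm (deg P) [k':k]` -/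
theorem deg_eq_lcm [Finite k] [FiniteDimensional k k']
    (h : Function.Bijective (Algebra.TensorProduct.productMap
      (IsScalarTower.toAlgHom k k' K') (IsScalarTower.toAlgHom k K K')))
    (hK : IsFunctionField k K) (P : Place k K) (Q : Place k K')
    (hQ : IsOver Q P) :
    IsOverWith Q P 1 ∧ Q.deg = Nat.lcm P.deg (Module.finrank k k') := by
  classical
  haveI : Algebra.IsSeparable k k' := Algebra.IsAlgebraic.isSeparable_of_perfectField
  haveI hfin : FiniteDimensional K K' := FF.finite_of_baseChange h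
  letI : Algebra P.O K' := ((algebraMap K K').comp P.O.subtype).toAlgebra
  haveI : IsScalarTower P.O K K' := IsScalarTower.of_algebraMap_eq fun _ => rfl
  obtain ⟨hns, he1⟩ := FG.sep_const_core h hK P
    (F := IsLocalRing.ResidueField P.O)
    { IsLocalRing.residue P.O with commutes' := fun _ => rfl }
    (FG.residue_eq_zero_iff P) Q hQ
  refine ⟨he1, ?_⟩
  haveI : P.1.HasExtension Q.1 := ⟨by
    intro x y
    show P.1 x ≤ P.1 y ↔ Q.1 (algebraMap K K' x) ≤ Q.1 (algebraMap K K' y)
    rw [he1 x, he1 y, pow_one, pow_one]⟩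
  have hk' : ∀ c : k', Q.1 (algebraMap k' K' c) ≤ 1 := fun c => (toK' Q : Place k' K').2.1 c
  have hadj := FG.residueField_eq_adjoin h hK P hns Q hk'
  have hFFK' : FG.IsFF k K' := FG.isFF_of_finite hK.1
  haveI hfdP : FiniteDimensional k (IsLocalRing.ResidueField P.O) :=
    FF.finiteDimensional_residueField hK P
  haveI hfdQ : FiniteDimensional k (IsLocalRing.ResidueField Q.O) :=
    FG.finiteDimensional_residueField hFFK' Q
  haveI : Finite (IsLocalRing.ResidueField P.O) := Module.finite_of_finite k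
  haveI : Finite (IsLocalRing.ResidueField Q.O) := Module.finite_of_finite k
  haveI : Finite k' := Module.finite_of_finite k
  obtain ⟨q, hq⟩ : ∃ q, q = Nat.card k := ⟨_, rfl⟩
  have hq1 : 1 < q := hq ▸ Finite.one_lt_card
  obtain ⟨d, hd⟩ : ∃ d, d = P.deg := ⟨_, rfl⟩
  obtain ⟨m, hm⟩ : ∃ m, m = Module.finrank k k' := ⟨_, rfl⟩
  obtain ⟨e, he⟩ : ∃ e, e = Q.deg := ⟨_, rfl⟩
  have hcP : Nat.card (IsLocalRing.ResidueField P.O) = q ^ d := by
    rw [hq, hd]
    exact Module.natCard_eq_pow_finrank
  have hcQ : Nat.card (IsLocalRing.ResidueField Q.O) = q ^ e := by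
    rw [hq, he]
    exact Module.natCard_eq_pow_finrank
  have hck : Nat.card k' = q ^ m := by
    rw [hq, hm]
    exact Module.natCard_eq_pow_finrank
  have hde : d ∣ e := by
    have h1 : Nat.card (IsLocalRing.ResidueField Q.O) =
        Nat.card (IsLocalRing.ResidueField P.O) ^
          Module.finrank (IsLocalRing.ResidueField P.O) (IsLocalRing.ResidueField Q.O) :=
      Module.natCard_eq_pow_finrank
    rw [hcP, hcQ, ← pow_mul] at h1
    exact ⟨_, Nat.pow_right_injective hq1 h1⟩
  let ι₁ : k' →+* IsLocalRing.ResidueField Q.O :=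
    (IsLocalRing.residue Q.O).comp ((algebraMap k' K').codRestrict Q.O hk')
  have hme : m ∣ e := by
    letI : Algebra k' (IsLocalRing.ResidueField Q.O) := ι₁.toAlgebra
    have h1 : Nat.card (IsLocalRing.ResidueField Q.O) =
        Nat.card k' ^ Module.finrank k' (IsLocalRing.ResidueField Q.O) :=
      Module.natCard_eq_pow_finrank
    rw [hck, hcQ, ← pow_mul] at h1
    exact ⟨_, Nat.pow_right_injective hq1 h1⟩
  haveI := Fintype.ofFinite k
  have hqc : Fintype.card k = q := by rw [hq, Nat.card_eq_fintype_card]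
  obtain ⟨L, hL⟩ : ∃ L, L = Nat.lcm d m := ⟨_, rfl⟩
  have hdL : d ∣ L := hL ▸ Nat.dvd_lcm_left d m
  have hmL : m ∣ L := hL ▸ Nat.dvd_lcm_right d m
  obtain ⟨φ, hφ⟩ : ∃ φ, φ = FiniteField.frobeniusAlgHom k (IsLocalRing.ResidueField Q.O) :=
    ⟨_, rfl⟩
  have hφpow : ∀ (n : ℕ) (y : IsLocalRing.ResidueField Q.O), (φ ^ n) y = y ^ q ^ n := by
    intro n y
    simp only [AlgHom.coe_pow, hφ, FiniteField.coe_frobeniusAlgHom, pow_iterate, hqc]
  have hfix : ∀ y : IsLocalRing.ResidueField Q.O, y ^ q ^ L = y := by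
    intro y
    have hy : y ∈ Algebra.adjoin (IsLocalRing.ResidueField P.O)
        (Set.range fun c : k' => IsLocalRing.residue Q.O ⟨algebraMap k' K' c, hk' c⟩) := by
      rw [hadj]
      exact Algebra.mem_top
    induction hy using Algebra.adjoin_induction with
    | mem y hy =>
      obtain ⟨c, rfl⟩ := hy
      have : (ι₁ c) ^ q ^ L = ι₁ c := by
        rw [← map_pow, pow_card_pow_of_dvd q m L hck hmL c]
      exact this
    | algebraMap x =>
      rw [← map_pow, pow_card_pow_of_dvd q d L hcP hdL x]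
    | add x y _ _ hx hy =>
      rw [← hφpow L, map_add, hφpow, hφpow, hx, hy]
    | mul x y _ _ hx hy =>
      rw [mul_pow, hx, hy]
  have hone : φ ^ L = 1 := by
    apply AlgHom.ext
    intro y
    rw [hφpow, hfix, AlgHom.one_apply]
  have heL : e ∣ L := by
    have := orderOf_dvd_of_pow_eq_one hone
    rw [hφ, FiniteField.orderOf_frobeniusAlgHom] at this
    rw [he]
    exact this
  rw [← he, ← hd, ← hm, ← hL]
  exact Nat.dvd_antisymm heL (hL ▸ Nat.lcm_dvd hde hme)

theorem card_isOver_gcd [Finite k] [FiniteDimensional k k']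
    (h : Function.Bijective (Algebra.TensorProduct.productMap
      (IsScalarTower.toAlgHom k k' K') (IsScalarTower.toAlgHom k K K')))
    (hK : IsFunctionField k K) (P : Place k K) (Qs : Finset (Place k K'))
    (hQs : ∀ Q, Q ∈ Qs ↔ IsOver Q P) :
    Qs.card = Nat.gcd P.deg (Module.finrank k k') := by
  haveI hfin : FiniteDimensional K K' := FF.finite_of_baseChange h
  obtain ⟨-, hsum⟩ := FG.finite_isOver_and_sum (K' := K') hK P
  have h1 := hsum Qs hQs
  have h2 : ∀ Q ∈ Qs, ramIdx Q P * Q.deg = Nat.lcm P.deg (Module.finrank k k') := by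
    intro Q hQ
    obtain ⟨he1, hdeg⟩ := deg_eq_lcm h hK P Q ((hQs Q).mp hQ)
    rw [FG.ramIdx_eq he1, hdeg, one_mul]
  rw [Finset.sum_congr rfl h2, Finset.sum_const, smul_eq_mul, finrank_baseChange h] at h1
  have hpos : 0 < Nat.lcm P.deg (Module.finrank k k') :=
    Nat.lcm_pos (FF.deg_pos_place hK P) Module.finrank_pos
  have h3 := Nat.gcd_mul_lcm P.deg (Module.finrank k k')
  apply Nat.eq_of_mul_eq_mul_right hpos
  rw [h1, h3, mul_comm]

/-- `N_s(K'/k') = N_{ms}(K/k)` for a constant field extension of degree `m` -/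
theorem Ns_constExt_model [Finite k] [FiniteDimensional k k']
    (h : Function.Bijective (Algebra.TensorProduct.productMap
      (IsScalarTower.toAlgHom k k' K') (IsScalarTower.toAlgHom k K K')))
    (hK : IsFunctionField k K) (s : ℕ) (hs : 0 < s) :
    Ns k' K' s = Ns k K (Module.finrank k k' * s) := by
  classical
  haveI hfin : FiniteDimensional K K' := FF.finite_of_baseChange h
  obtain ⟨m, hm⟩ : ∃ m, m = Module.finrank k k' := ⟨_, rfl⟩
  have hm0 : 0 < m := hm ▸ Module.finrank_pos
  rw [← hm]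
  have step1 : Ns k' K' s = ∑ᶠ Q : Place k K',
      if (toK' Q : Place k' K').deg ∣ s then (toK' Q : Place k' K').deg else 0 := by
    unfold Ns
    exact (finsum_comp (g := fun Q' : Place k' K' => if Q'.deg ∣ s then Q'.deg else 0) toK'
      ⟨toK'_injective, toK'_surjective⟩).symm
  obtain ⟨T, hT⟩ : ∃ T : Finset (Place k K), ∀ P, P ∈ T ↔ P.deg ∣ m * s := by
    refine ⟨(finite_deg_le hK (m * s)).toFinset.filter (fun P => P.deg ∣ m * s), fun P => ?_⟩
    rw [Finset.mem_filter, Set.Finite.mem_toFinset]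
    constructor
    · exact fun h => h.2
    · exact fun h => ⟨Nat.le_of_dvd (Nat.mul_pos hm0 hs) h, h⟩
  obtain ⟨Qs, hQs⟩ : ∃ Qs : Place k K → Finset (Place k K'),
      ∀ P Q, Q ∈ Qs P ↔ IsOver Q P :=
    ⟨fun P => (FG.finite_isOver_and_sum (K' := K') hK P).1.toFinset, fun P Q => by simp⟩
  have hdegQ : ∀ (P : Place k K) (Q : Place k K'), IsOver Q P →
      (toK' Q : Place k' K').deg = P.deg / Nat.gcd P.deg m := by
    intro P Q hQP
    obtain ⟨-, hdeg⟩ := deg_eq_lcm h hK P Q hQP
    have h1 := deg_toK' (k' := k') Q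
    rw [hdeg, ← hm] at h1
    exact arith1 P.deg m _ (FF.deg_pos_place hK P) hm0 h1
  have hsupp : Function.support (fun Q : Place k K' =>
      if (toK' Q : Place k' K').deg ∣ s then (toK' Q : Place k' K').deg else 0) ⊆
      ↑(T.biUnion Qs) := by
    intro Q hQ
    rw [Function.mem_support] at hQ
    have hdvd : (toK' Q : Place k' K').deg ∣ s := by
      by_contra hn
      rw [if_neg hn] at hQ
      exact hQ rfl
    obtain ⟨P, e, he⟩ := FG.exists_isOverWith hK.1 Q
    have hQP : IsOver Q P := ⟨e, he⟩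
    rw [Finset.mem_coe, Finset.mem_biUnion]
    refine ⟨P, ?_, (hQs P Q).mpr hQP⟩
    rw [hT]
    rw [hdegQ P Q hQP] at hdvd
    exact (arith3 P.deg m s (FF.deg_pos_place hK P)).mp hdvd
  rw [step1, finsum_eq_sum_of_support_subset _ hsupp, Finset.sum_biUnion]
  · have hNs : Ns k K (m * s) = ∑ P ∈ T, P.deg := by
      unfold Ns
      rw [finsum_eq_sum_of_support_subset (s := T)]
      · apply Finset.sum_congr rfl
        intro P hP
        rw [if_pos ((hT P).mp hP)]
      · intro P hP
        rw [Function.mem_support] at hP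
        rw [Finset.mem_coe, hT]
        by_contra hn
        rw [if_neg hn] at hP
        exact hP rfl
    rw [hNs]
    apply Finset.sum_congr rfl
    intro P hP
    have hPd := (hT P).mp hP
    have hd0 := FF.deg_pos_place hK P
    have hall : ∀ Q ∈ Qs P,
        (if (toK' Q : Place k' K').deg ∣ s then (toK' Q : Place k' K').deg else 0) =
          P.deg / Nat.gcd P.deg m := by
      intro Q hQ
      have hQP := (hQs P Q).mp hQ
      rw [hdegQ P Q hQP, if_pos ((arith3 P.deg m s hd0).mpr hPd)]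
    rw [Finset.sum_congr rfl hall, Finset.sum_const, smul_eq_mul,
      card_isOver_gcd h hK P (Qs P) (hQs P), ← hm]
    exact Nat.mul_div_cancel' (Nat.gcd_dvd_left _ _)
  · intro P _ P' _ hne
    rw [Function.onFun, Finset.disjoint_left]
    intro Q hQ hQ'
    exact hne (FG.isOver_unique ((hQs P Q).mp hQ) ((hQs P' Q).mp hQ'))

end

end Groth.Agent.Helper6.FFZeta
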