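import Mathlib
import Groth.Prelude.Def_W4bk4goldsch45
import Groth.Prelude.Def_W4bk4goldsch23Ext
import Groth.Agent.Helper6.FFZeta10
import Groth.Agent.Helper6.FFZeta11

set_option backward.isDefEq.respectTransparency false
set_option backward.isDefEq.respectTransparency.types false
set_option autoImplicit false
set_option linter.style.haveILetI false

open FunFld Polynomial TensorProduct

namespace Groth.Agent.Helper6.FFZeta

open Groth.Agent.Helper5

universe u v u₁ u₂ u₃ u₄

section transport
variable {k₁ K₁ k₂ K₂ : Type*} [Field k₁] [Field K₁] [Algebra k₁ K₁] [Field k₂] [Field K₂]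
  [Algebra k₂ K₂] (σ : k₁ ≃+* k₂) (τ : K₁ ≃+* K₂)
  (hστ : ∀ c, τ (algebraMap k₁ K₁ c) = algebraMap k₂ K₂ (σ c))

include hστ in
theorem symm_compat (c : k₂) : τ.symm (algebraMap k₂ K₂ c) = algebraMap k₁ K₁ (σ.symm c) := by
  rw [RingEquiv.symm_apply_eq, hστ, RingEquiv.apply_symm_apply]

/-- transport of places along compatible isomorphisms -/
def placeMap (P : Place k₁ K₁) : Place k₂ K₂ :=
  ⟨P.1.comap (τ.symm : K₂ →+* K₁), fun c => by
      show P.1 (τ.symm (algebraMap k₂ K₂ c)) ≤ 1
      rw [symm_compat σ τ hστ c]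
      exact P.2.1 _,
    fun y => by
      obtain ⟨x, hx⟩ := P.2.2 y
      refine ⟨τ x, ?_⟩
      show P.1 (τ.symm (τ x)) = y
      rw [RingEquiv.symm_apply_apply]
      exact hx⟩

theorem placeMap_bijective : Function.Bijective (placeMap σ τ hστ) := by
  refine Function.bijective_iff_has_inverse.mpr
    ⟨placeMap σ.symm τ.symm (symm_compat σ τ hστ), ?_, ?_⟩
  · intro P
    apply Subtype.ext
    apply Valuation.ext
    intro x
    show P.1 (τ.symm (τ.symm.symm x)) = P.1 x
    rw [RingEquiv.symm_symm, RingEquiv.symm_apply_apply]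
  · intro P
    apply Subtype.ext
    apply Valuation.ext
    intro x
    show P.1 (τ.symm.symm (τ.symm x)) = P.1 x
    rw [RingEquiv.symm_symm, RingEquiv.apply_symm_apply]

theorem deg_placeMap (P : Place k₁ K₁) : (placeMap σ τ hστ P).deg = P.deg := by
  unfold Place.deg
  let e : P.O ≃+* (placeMap σ τ hστ P).O :=
    { toFun := fun x => ⟨τ x.1, by
        show P.1 (τ.symm (τ x.1)) ≤ 1
        rw [RingEquiv.symm_apply_apply]
        exact x.2⟩
      invFun := fun y => ⟨τ.symm y.1, y.2⟩
      left_inv := fun x => Subtype.ext (τ.symm_apply_apply x.1)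
      right_inv := fun y => Subtype.ext (τ.apply_symm_apply y.1)
      map_mul' := fun x y => Subtype.ext (map_mul τ x.1 y.1)
      map_add' := fun x y => Subtype.ext (map_add τ x.1 y.1) }
  symm
  apply Algebra.finrank_eq_of_equiv_equiv σ (IsLocalRing.ResidueField.mapEquiv e)
  ext c
  show IsLocalRing.residue _ (algebraMap k₂ (placeMap σ τ hστ P).O (σ c)) =
    IsLocalRing.ResidueField.map (e : P.O →+* _)
      (IsLocalRing.residue _ (algebraMap k₁ P.O c))
  rw [IsLocalRing.ResidueField.map_residue]
  congr 1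
  apply Subtype.ext
  exact (hστ c).symm

include σ τ hστ in
theorem Ns_transport (s : ℕ) : Ns k₁ K₁ s = Ns k₂ K₂ s := by
  unfold Ns
  apply finsum_eq_of_bijective (placeMap σ τ hστ) (placeMap_bijective σ τ hστ)
  intro P
  rw [deg_placeMap]

end transport

section model
variable {k k' : Type u} {K K' : Type v} [Field k] [Field k'] [Field K] [Field K']
    [Algebra k k'] [Algebra k K] [Algebra K K'] [Algebra k' K']

theorem productMap_bijective [Algebra k K'] [IsScalarTower k k' K'] [IsScalarTower k K K']
    [FiniteDimensional k k']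
    (hadj : Algebra.adjoin K (Set.range (algebraMap k' K')) = ⊤)
    (hrank : Module.finrank K K' = Module.finrank k k') :
    Function.Bijective (Algebra.TensorProduct.productMap
      (IsScalarTower.toAlgHom k k' K') (IsScalarTower.toAlgHom k K K')) := by
  have hsurj : Function.Surjective (Algebra.TensorProduct.productMap
      (IsScalarTower.toAlgHom k k' K') (IsScalarTower.toAlgHom k K K')) := by
    intro y
    have hy : y ∈ Algebra.adjoin K (Set.range (algebraMap k' K')) := by
      rw [hadj]
      exact Algebra.mem_top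
    induction hy using Algebra.adjoin_induction with
    | mem y hy =>
      obtain ⟨c, rfl⟩ := hy
      exact ⟨c ⊗ₜ 1, by simp⟩
    | algebraMap x => exact ⟨1 ⊗ₜ x, by simp⟩
    | add x y _ _ hx hy =>
      obtain ⟨a, rfl⟩ := hx
      obtain ⟨b, rfl⟩ := hy
      exact ⟨a + b, map_add _ _ _⟩
    | mul x y _ _ hx hy =>
      obtain ⟨a, rfl⟩ := hx
      obtain ⟨b, rfl⟩ := hy
      exact ⟨a * b, map_mul _ _ _⟩
  let ψ : K ⊗[k] k' →ₐ[K] K' :=
    Algebra.TensorProduct.productLeftAlgHom (Algebra.ofId K K') (IsScalarTower.toAlgHom k k' K')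
  have hψΦ : ⇑ψ = ⇑(Algebra.TensorProduct.productMap
      (IsScalarTower.toAlgHom k k' K') (IsScalarTower.toAlgHom k K K')) ∘
        ⇑(Algebra.TensorProduct.comm k K k') := by
    ext z
    induction z using TensorProduct.induction_on with
    | zero => simp
    | tmul a b => simp [ψ, Algebra.ofId_apply, mul_comm]
    | add x y hx hy => simp only [map_add, hx, hy, Function.comp_apply]
  have hψsurj : Function.Surjective ψ := by
    rw [hψΦ]
    exact hsurj.comp (Algebra.TensorProduct.comm k K k').surjective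
  have hm0 : 0 < Module.finrank k k' := Module.finrank_pos
  haveI : FiniteDimensional K K' := Module.finite_of_finrank_pos (by rw [hrank]; exact hm0)
  have hψinj : Function.Injective ψ := by
    have hdim : Module.finrank K (K ⊗[k] k') = Module.finrank K K' := by
      rw [Module.finrank_baseChange, hrank]
    exact (LinearMap.injective_iff_surjective_of_finrank_eq_finrank hdim
      (f := ψ.toLinearMap)).mpr hψsurj
  refine ⟨?_, hsurj⟩
  have : ⇑(Algebra.TensorProduct.productMap
      (IsScalarTower.toAlgHom k k' K') (IsScalarTower.toAlgHom k K K')) =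
      ⇑ψ ∘ ⇑(Algebra.TensorProduct.comm k K k').symm := by
    ext z
    rw [hψΦ]
    simp
  rw [this]
  exact hψinj.comp (Algebra.TensorProduct.comm k K k').symm.injective

theorem Ns_constExt_same [Finite k] [Finite k'] (hK : IsFunctionField k K)
    (hce : IsConstExt k K k' K') (s : ℕ) (hs : 0 < s) :
    Ns k' K' s = Ns k K (Module.finrank k k' * s) := by
  obtain ⟨hcomm, hadj, hrank⟩ := hce
  letI : Algebra k K' := ((algebraMap K K').comp (algebraMap k K)).toAlgebra
  haveI : IsScalarTower k K K' := IsScalarTower.of_algebraMap_eq fun _ => rfl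
  haveI : IsScalarTower k k' K' := IsScalarTower.of_algebraMap_eq fun c => hcomm c
  have h := productMap_bijective (k := k) (k' := k') (K := K) (K' := K') hadj hrank
  exact Ns_constExt_model h hK s hs

end model

/-- `N_s(K'/k') = N_{ms}(K/k)`, any universes -/
theorem Ns_constExt {k : Type u₁} {K : Type u₂} {k' : Type u₃} {K' : Type u₄}
    [Field k] [Finite k] [Field K] [Algebra k K] [Field k'] [Finite k'] [Field K']
    [Algebra k k'] [Algebra K K'] [Algebra k' K']
    (hK : IsFunctionField k K) (hce : IsConstExt k K k' K') (s : ℕ) (hs : 0 < s) :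
    Ns k' K' s = Ns k K (Module.finrank k k' * s) := by
  obtain ⟨hcomm, hadj, hrank⟩ := hce
  have hm0 : 0 < Module.finrank k k' := Module.finrank_pos
  haveI : FiniteDimensional K K' := Module.finite_of_finrank_pos (by rw [hrank]; exact hm0)
  haveI : Small.{u₁} k' := Countable.toSmall k'
  haveI : Small.{u₂} K' := small_map (Module.finBasis K K').equivFun.toEquiv
  let σA : k' ≃ₐ[k] Shrink.{u₁} k' := (Shrink.algEquiv k k').symm
  let τA : K' ≃ₐ[K] Shrink.{u₂} K' := (Shrink.algEquiv K K').symm
  let σ : k' ≃+* Shrink.{u₁} k' := σA.toRingEquiv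
  let τ : K' ≃+* Shrink.{u₂} K' := τA.toRingEquiv
  letI a3 : Algebra (Shrink.{u₁} k') (Shrink.{u₂} K') :=
    (τ.toRingHom.comp ((algebraMap k' K').comp σ.symm.toRingHom)).toAlgebra
  haveI : Finite (Shrink.{u₁} k') := Finite.of_equiv k' σ.toEquiv
  have hστ : ∀ c : k', τ (algebraMap k' K' c) =
      algebraMap (Shrink.{u₁} k') (Shrink.{u₂} K') (σ c) := by
    intro c
    show τ (algebraMap k' K' c) = τ (algebraMap k' K' (σ.symm (σ c)))
    rw [RingEquiv.symm_apply_apply]
  have e1 : Module.finrank K (Shrink.{u₂} K') = Module.finrank K K' :=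
    τA.toLinearEquiv.finrank_eq.symm
  have e2 : Module.finrank k (Shrink.{u₁} k') = Module.finrank k k' :=
    σA.toLinearEquiv.finrank_eq.symm
  have hce' : IsConstExt k K (Shrink.{u₁} k') (Shrink.{u₂} K') := by
    refine ⟨?_, ?_, ?_⟩
    · intro c
      rw [← τA.commutes, ← σA.commutes]
      show τ (algebraMap K K' (algebraMap k K c)) =
        τ (algebraMap k' K' (σ.symm (σ (algebraMap k k' c))))
      rw [RingEquiv.symm_apply_apply, hcomm]
    · have h1 := congrArg (Subalgebra.map τA.toAlgHom) hadj
      rw [AlgHom.map_adjoin, Algebra.map_top] at h1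
      have h2 : (τA.toAlgHom : K' →ₐ[K] _).range = ⊤ := by
        rw [AlgHom.range_eq_top]
        exact τA.surjective
      rw [h2] at h1
      rw [← h1]
      congr 1
      ext y
      constructor
      · rintro ⟨c', rfl⟩
        exact ⟨algebraMap k' K' (σ.symm c'), ⟨σ.symm c', rfl⟩, rfl⟩
      · rintro ⟨_, ⟨c, rfl⟩, rfl⟩
        exact ⟨σ c, (hστ c).symm⟩
    · exact e1.trans (hrank.trans e2.symm)
  have hmodel := Ns_constExt_same hK hce' s hs
  calc Ns k' K' s = Ns (Shrink.{u₁} k') (Shrink.{u₂} K') s := Ns_transport σ τ hστ s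
    _ = Ns k K (Module.finrank k (Shrink.{u₁} k') * s) := hmodel
    _ = Ns k K (Module.finrank k k' * s) := congrArg (fun t => Ns k K (t * s)) e2

theorem numerZ_constExt (k K k' K' : Type*) [Field k] [Finite k] [Field K] [Algebra k K]
    [Field k'] [Finite k'] [Field K'] [Algebra k k'] [Algebra K K'] [Algebra k' K']
    (hK : FunFld.IsFunctionField k K) (hK' : FunFld.IsFunctionField k' K')
    (hce : FunFld.IsConstExt k K k' K') (α : Fin (2 * FunFld.genus k K) → ℂ)
    (hα : PowerSeries.map (Int.castRingHom ℂ) (FunFld.numerZ k K) =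
      ((∏ i, (1 - Polynomial.C (α i) * Polynomial.X) : Polynomial ℂ) : PowerSeries ℂ)) :
    PowerSeries.map (Int.castRingHom ℂ) (FunFld.numerZ k' K') =
      ((∏ i, (1 - Polynomial.C (α i ^ Module.finrank k k') * Polynomial.X) : Polynomial ℂ) :
        PowerSeries ℂ) := by
  have hm0 : 0 < Module.finrank k k' := Module.finrank_pos
  have hq : Nat.card k' = Nat.card k ^ Module.finrank k k' := Module.natCard_eq_pow_finrank
  exact numerZ_of_Ns hK hK' _ hm0 hq (fun s hs => Ns_constExt hK hce s hs) α hα

theorem card_places_deg_one_constExt (k K k' K' : Type*) [Field k] [Finite k] [Field K]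
    [Algebra k K] [Field k'] [Finite k'] [Field K'] [Algebra k k'] [Algebra K K']
    [Algebra k' K'] (hK : FunFld.IsFunctionField k K) (hK' : FunFld.IsFunctionField k' K')
    (hce : FunFld.IsConstExt k K k' K') (α : Fin (2 * FunFld.genus k K) → ℂ)
    (hα : PowerSeries.map (Int.castRingHom ℂ) (FunFld.numerZ k K) =
      ((∏ i, (1 - Polynomial.C (α i) * Polynomial.X) : Polynomial ℂ) : PowerSeries ℂ)) :
    (Nat.card {P : FunFld.Place k' K' // P.deg = 1} : ℂ) =
      1 + (Nat.card k : ℂ) ^ Module.finrank k k' - ∑ i, α i ^ Module.finrank k k' := by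
  have hm0 : 0 < Module.finrank k k' := Module.finrank_pos
  exact card_deg_one_of_Ns hK hK' _ hm0 (fun s hs => Ns_constExt hK hce s hs) α hα

end Groth.Agent.Helper6.FFZeta
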