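import Mathlib
import Groth.Agent.Helper5.FGGal
import Groth.Agent.Helper5.FGExt3
import Groth.Agent.Helper5.FGWeak

set_option backward.isDefEq.respectTransparency false
set_option backward.isDefEq.respectTransparency.types false
set_option linter.style.haveILetI false
set_option autoImplicit false

open FunFld Polynomial
open Groth.Agent.Helper5

namespace Groth.Agent.Helper6.FFInertia

/-- purely algebraic step: an element whose only possible conjugates are `0` and itself. -/
theorem mem_range_of_map_eq {L F : Type*} [Field L] [Field F] [Algebra L F]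
    [Algebra.IsSeparable L F] (y : F) (p : L[X]) (a b : ℕ)
    (hp : p.map (algebraMap L F) = (X - C y) ^ a * X ^ b) (ha : a ≠ 0) :
    y ∈ Set.range (algebraMap L F) := by
  by_cases hy0 : y = 0
  · exact ⟨0, by rw [map_zero, hy0]⟩
  have hint : IsIntegral L y := Algebra.IsSeparable.isIntegral L y
  have haev : aeval y p = 0 := by
    rw [aeval_def, eval₂_eq_eval_map, hp, eval_mul, eval_pow, eval_sub, eval_X, eval_C, sub_self,
      zero_pow ha, zero_mul]
  have hdvd : minpoly L y ∣ p := minpoly.dvd L y haev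
  have hq : (minpoly L y).map (algebraMap L F) ∣ (X - C y) ^ a * X ^ b := by
    rw [← hp]; exact Polynomial.map_dvd _ hdvd
  have hc0 : ((minpoly L y).map (algebraMap L F)).coeff 0 ≠ 0 := by
    rw [coeff_map]
    intro h
    exact minpoly.coeff_zero_ne_zero hint hy0
      ((map_eq_zero_iff _ (algebraMap L F).injective).mp h)
  have hcop : IsCoprime (X : F[X]) ((minpoly L y).map (algebraMap L F)) := by
    rw [irreducible_X.coprime_iff_not_dvd, X_dvd_iff]
    exact hc0
  have hq2 : (minpoly L y).map (algebraMap L F) ∣ (X - C y) ^ a :=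
    (hcop.symm.pow_right (n := b)).dvd_of_dvd_mul_right hq
  have hsep0 : (minpoly L y).Separable := Algebra.IsSeparable.isSeparable L y
  have hsep : ((minpoly L y).map (algebraMap L F)).Separable := hsep0.map
  have hq3 : (minpoly L y).map (algebraMap L F) ∣ X - C y :=
    (hsep.squarefree.dvd_pow_iff_dvd ha).mp hq2
  have hdeg : (minpoly L y).natDegree ≤ 1 := by
    have := natDegree_le_of_dvd hq3 (X_sub_C_ne_zero y)
    rwa [natDegree_map, natDegree_X_sub_C] at this
  have hpos := minpoly.natDegree_pos hint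
  have hdeg1 : (minpoly L y).degree = 1 := by
    rw [degree_eq_natDegree (minpoly.ne_zero hint)]
    have : (minpoly L y).natDegree = 1 := le_antisymm hdeg hpos
    rw [this]; rfl
  exact minpoly.mem_range_of_degree_eq_one L y hdeg1

variable {k K K' : Type*} [Field k] [Field K] [Field K'] [Algebra k K] [Algebra K K']
  [Algebra k K'] [IsScalarTower k K K']

section Res

variable {Q : Place k K'} {P : Place k K} {e : ℕ} (he : IsOverWith Q P e)

/-- the map of residue fields. -/
noncomputable def resMap :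
    IsLocalRing.ResidueField P.O →+* IsLocalRing.ResidueField Q.O :=
  haveI := FG.isLocalHom_isOverRingHom he
  IsLocalRing.ResidueField.map (FG.isOverRingHom he)

omit [IsScalarTower k K K'] in
theorem resMap_residue (a : P.O) :
    resMap he (IsLocalRing.residue P.O a) = IsLocalRing.residue Q.O (FG.isOverRingHom he a) := by
  haveI := FG.isLocalHom_isOverRingHom he
  exact IsLocalRing.ResidueField.map_residue _ _

/-- the algebra structure of the residue field extension. -/
@[reducible] noncomputable def resAlg :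
    Algebra (IsLocalRing.ResidueField P.O) (IsLocalRing.ResidueField Q.O) :=
  (resMap he).toAlgebra

theorem resTower :
    letI := resAlg he
    IsScalarTower k (IsLocalRing.ResidueField P.O) (IsLocalRing.ResidueField Q.O) := by
  letI := resAlg he
  refine IsScalarTower.of_algebraMap_eq fun c => ?_
  show IsLocalRing.residue Q.O (algebraMap k Q.O c) =
    resMap he (IsLocalRing.residue P.O (algebraMap k P.O c))
  rw [resMap_residue]
  congr 1
  apply Subtype.ext
  show algebraMap k K' c = algebraMap K K' (algebraMap k K c)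
  exact IsScalarTower.algebraMap_apply k K K' c

omit [IsScalarTower k K K'] in
theorem smul_resMap (g : (Q.O).decompositionSubgroup K) (c : IsLocalRing.ResidueField P.O) :
    g • (resMap he c) = resMap he c := by
  obtain ⟨a, rfl⟩ := IsLocalRing.residue_surjective c
  rw [resMap_residue, ← IsLocalRing.ResidueField.residue_smul]
  congr 1
  apply Subtype.ext
  show g.1 (algebraMap K K' a.1) = algebraMap K K' a.1
  exact g.1.commutes a.1

omit [IsScalarTower k K K'] in
theorem resSMulComm :
    letI := resAlg he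
    SMulCommClass ((Q.O).decompositionSubgroup K) (IsLocalRing.ResidueField P.O)
      (IsLocalRing.ResidueField Q.O) := by
  letI := resAlg he
  refine ⟨fun g c x => ?_⟩
  rw [Algebra.smul_def, Algebra.smul_def, smul_mul']
  congr 1
  exact smul_resMap he g c

end Res

section Main

variable {Q : Place k K'} {P : Place k K} {e : ℕ}

theorem exists_lift [FiniteDimensional K K'] (hK : IsFunctionField k K)
    (he : IsOverWith Q P e) (y₀ : Q.O) :
    ∃ y : K', ∃ hy : Q.1 y ≤ 1,
      IsLocalRing.residue Q.O ⟨y, hy⟩ = IsLocalRing.residue Q.O y₀ ∧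
      ∀ Q' : Place k K', IsOver Q' P → Q' ≠ Q → Q'.1 y < 1 := by
  classical
  obtain ⟨hfin, -⟩ := FG.finite_isOver_and_sum (K' := K') hK P
  obtain ⟨y, hy⟩ := FG.weak_approx hfin.toFinset
    (fun Q' => if Q' = Q then (y₀ : K') else 0) 0
  rw [neg_zero, WithZero.exp_zero] at hy
  have hQ : Q ∈ hfin.toFinset := by rw [Set.Finite.mem_toFinset]; exact ⟨e, he⟩
  have h1 := hy Q hQ
  rw [if_pos rfl] at h1
  have hy1 : Q.1 y ≤ 1 := by
    have : y = (y - y₀) + y₀ := by ring
    rw [this]
    exact (Q.1.map_add _ _).trans (max_le h1.le y₀.2)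
  refine ⟨y, hy1, ?_, ?_⟩
  · rw [← sub_eq_zero, ← map_sub, FG.residue_eq_zero_iff]
    exact h1
  · intro Q' hQ' hne
    have h2 := hy Q' (by rw [Set.Finite.mem_toFinset]; exact hQ')
    rw [if_neg hne, sub_zero] at h2
    exact h2

theorem mem_decomp_iff (σ : K' ≃ₐ[K] K') :
    σ ∈ (Q.O).decompositionSubgroup K ↔ FF.galPlace σ Q = Q := by
  rw [← inv_mem_iff, FF.decompositionSubgroup_eq, MulAction.mem_stabilizer_iff,
    FF.smul_place_def, inv_inv]

theorem val_gal_le (he : IsOverWith Q P e) (y : K') (hy : Q.1 y ≤ 1)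
    (hy' : ∀ Q' : Place k K', IsOver Q' P → Q' ≠ Q → Q'.1 y < 1) (σ : K' ≃ₐ[K] K') :
    Q.1 (σ y) ≤ 1 := by
  by_cases h : FF.galPlace σ Q = Q
  · have h1 : Q.1 (σ y) = (FF.galPlace σ Q).1 y := rfl
    rw [h1, h]; exact hy
  · exact (hy' _ ⟨e, FF.isOverWith_galPlace σ he⟩ h).le

theorem val_gal_lt (he : IsOverWith Q P e) (y : K')
    (hy' : ∀ Q' : Place k K', IsOver Q' P → Q' ≠ Q → Q'.1 y < 1) (σ : K' ≃ₐ[K] K')
    (hσ : σ ∉ (Q.O).decompositionSubgroup K) :
    Q.1 (σ y) < 1 :=
  hy' _ ⟨e, FF.isOverWith_galPlace σ he⟩ fun h' => hσ ((mem_decomp_iff σ).mpr h')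

theorem main_mem_range [FiniteDimensional K K'] [IsGalois K K'] (hK : IsFunctionField k K)
    (he : IsOverWith Q P e) [Algebra.IsSeparable k (IsLocalRing.ResidueField Q.O)]
    (ybar : IsLocalRing.ResidueField Q.O)
    (hfix : ∀ g : (Q.O).decompositionSubgroup K, g • ybar = ybar) :
    ybar ∈ Set.range (resMap he) := by
  classical
  letI := resAlg he
  haveI := resTower he
  haveI : Algebra.IsSeparable (IsLocalRing.ResidueField P.O) (IsLocalRing.ResidueField Q.O) :=
    Algebra.isSeparable_tower_top_of_isSeparable k _ _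
  obtain ⟨y₀, rfl⟩ := IsLocalRing.residue_surjective ybar
  obtain ⟨y, hy, hres, hy'⟩ := exists_lift hK he y₀
  have hσ : ∀ σ : K' ≃ₐ[K] K', Q.1 (σ y) ≤ 1 := val_gal_le he y hy hy'
  obtain ⟨r, hr⟩ : ∃ r : (K' ≃ₐ[K] K') → IsLocalRing.ResidueField Q.O,
      r = fun σ => IsLocalRing.residue Q.O ⟨σ y, hσ σ⟩ := ⟨_, rfl⟩
  have hr1 : ∀ σ, σ ∈ (Q.O).decompositionSubgroup K → r σ = IsLocalRing.residue Q.O y₀ := by
    intro σ hσD
    have h1 : r σ = (⟨σ, hσD⟩ : (Q.O).decompositionSubgroup K) •
        IsLocalRing.residue Q.O ⟨y, hy⟩ := by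
      rw [hr]; rfl
    rw [h1, hres, hfix]
  have hr0 : ∀ σ, σ ∉ (Q.O).decompositionSubgroup K → r σ = 0 := by
    intro σ hσD
    rw [hr]
    exact (FG.residue_eq_zero_iff Q _).mpr (val_gal_lt he y hy' σ hσD)
  obtain ⟨gQ, hgQ⟩ : ∃ gQ : (Q.O)[X],
      gQ = ∏ σ : K' ≃ₐ[K] K', (X - C (⟨σ y, hσ σ⟩ : Q.O)) := ⟨_, rfl⟩
  have hA : gQ.map (Q.O).subtype = MulSemiringAction.charpoly (K' ≃ₐ[K] K') y := by
    rw [hgQ, MulSemiringAction.charpoly_eq, Polynomial.map_prod]
    refine Finset.prod_congr rfl fun σ _ => ?_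
    rw [Polynomial.map_sub, Polynomial.map_X, Polynomial.map_C]
    rfl
  have hB : gQ ∈ Polynomial.lifts (FG.isOverRingHom he) := by
    rw [Polynomial.lifts_iff_coeff_lifts]
    intro n
    have hfixn : ∀ σ : K' ≃ₐ[K] K',
        σ ((MulSemiringAction.charpoly (K' ≃ₐ[K] K') y).coeff n) =
          (MulSemiringAction.charpoly (K' ≃ₐ[K] K') y).coeff n :=
      fun σ => MulSemiringAction.smul_coeff_charpoly y n σ
    obtain ⟨c, hc⟩ := (IsGalois.mem_range_algebraMap_iff_fixed _).mpr hfixn
    have hcoe : (MulSemiringAction.charpoly (K' ≃ₐ[K] K') y).coeff n =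
        ((gQ.coeff n : Q.O) : K') := by
      rw [← hA, coeff_map]; rfl
    have hc1 : Q.1 (algebraMap K K' c) ≤ 1 := by
      rw [hc, hcoe]; exact (gQ.coeff n).2
    rw [he c] at hc1
    have hc2 : P.1 c ≤ 1 :=
      (pow_le_one_iff_of_nonneg zero_le (FG.isOverWith_pos he)).mp hc1
    refine ⟨⟨c, hc2⟩, Subtype.ext ?_⟩
    show algebraMap K K' c = _
    rw [hc, hcoe]
  obtain ⟨gP, hgP⟩ := (Polynomial.mem_lifts _).mp hB
  have hcomp : (resMap he).comp (IsLocalRing.residue P.O) =
      (IsLocalRing.residue Q.O).comp (FG.isOverRingHom he) :=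
    RingHom.ext fun a => resMap_residue he a
  have hC : (gP.map (IsLocalRing.residue P.O)).map (resMap he) =
      ∏ σ : K' ≃ₐ[K] K', (X - C (r σ)) := by
    rw [Polynomial.map_map, hcomp, ← Polynomial.map_map, hgP, hgQ, Polynomial.map_prod]
    refine Finset.prod_congr rfl fun σ _ => ?_
    rw [Polynomial.map_sub, Polynomial.map_X, Polynomial.map_C, hr]
  have hsplit : ∏ σ : K' ≃ₐ[K] K', (X - C (r σ)) =
      (X - C (IsLocalRing.residue Q.O y₀)) ^
        (Finset.univ.filter (fun σ : K' ≃ₐ[K] K' => σ ∈ (Q.O).decompositionSubgroup K)).card *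
      X ^ (Finset.univ.filter
        (fun σ : K' ≃ₐ[K] K' => ¬ σ ∈ (Q.O).decompositionSubgroup K)).card := by
    rw [← Finset.prod_filter_mul_prod_filter_not Finset.univ
      (fun σ : K' ≃ₐ[K] K' => σ ∈ (Q.O).decompositionSubgroup K)]
    congr 1
    · exact Finset.prod_eq_pow_card fun σ hσ' => by
        rw [hr1 σ (Finset.mem_filter.mp hσ').2]
    · exact Finset.prod_eq_pow_card fun σ hσ' => by
        rw [hr0 σ (Finset.mem_filter.mp hσ').2, C_0, sub_zero]
  have hne : (Finset.univ.filter
      (fun σ : K' ≃ₐ[K] K' => σ ∈ (Q.O).decompositionSubgroup K)).card ≠ 0 := by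
    rw [Finset.card_ne_zero]
    exact ⟨1, Finset.mem_filter.mpr ⟨Finset.mem_univ _, one_mem _⟩⟩
  exact mem_range_of_map_eq (IsLocalRing.residue Q.O y₀) (gP.map (IsLocalRing.residue P.O)) _ _
    (hC.trans hsplit) hne

theorem card_inertia [FiniteDimensional K K'] [IsGalois K K'] (hK : IsFunctionField k K)
    (he : IsOverWith Q P e) [Algebra.IsSeparable k (IsLocalRing.ResidueField Q.O)] :
    Nat.card ((Q.O).inertiaSubgroup K) = e := by
  classical
  letI := resAlg he
  haveI := resTower he
  haveI := resSMulComm he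
  have hK' : FG.IsFF k K' := FG.isFF_of_finite hK.1
  haveI : FiniteDimensional k (IsLocalRing.ResidueField Q.O) :=
    FG.finiteDimensional_residueField hK' Q
  haveI : FiniteDimensional (IsLocalRing.ResidueField P.O) (IsLocalRing.ResidueField Q.O) :=
    FiniteDimensional.right k _ _
  obtain ⟨ψ, hψ⟩ : ∃ ψ : (Q.O).decompositionSubgroup K →*
      (IsLocalRing.ResidueField Q.O ≃ₐ[IsLocalRing.ResidueField P.O]
        IsLocalRing.ResidueField Q.O),
      ψ = MulSemiringAction.toAlgAut ((Q.O).decompositionSubgroup K)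
        (IsLocalRing.ResidueField P.O) (IsLocalRing.ResidueField Q.O) := ⟨_, rfl⟩
  have hψa : ∀ (g : (Q.O).decompositionSubgroup K) (x : IsLocalRing.ResidueField Q.O),
      ψ g x = g • x := by
    intro g x; rw [hψ]; rfl
  have hker : (Q.O).inertiaSubgroup K = ψ.ker := by
    ext g
    rw [ValuationSubring.inertiaSubgroup, MonoidHom.mem_ker, MonoidHom.mem_ker]
    constructor
    · intro h
      apply AlgEquiv.ext
      intro x
      rw [hψa]
      exact RingEquiv.congr_fun h x
    · intro h
      apply RingEquiv.ext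
      intro x
      have := AlgEquiv.congr_fun h x
      rw [hψa] at this
      exact this
  have hfix : IntermediateField.fixedField ψ.range = ⊥ := by
    rw [eq_bot_iff]
    intro ybar hy
    rw [IntermediateField.mem_bot]
    rw [IntermediateField.mem_fixedField_iff] at hy
    have hfixD : ∀ g : (Q.O).decompositionSubgroup K, g • ybar = ybar := by
      intro g
      rw [← hψa]
      exact hy (ψ g) ⟨g, rfl⟩
    exact main_mem_range hK he ybar hfixD
  have h1 : Module.finrank (IntermediateField.fixedField ψ.range)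
      (IsLocalRing.ResidueField Q.O) = Nat.card ψ.range :=
    IntermediateField.finrank_fixedField_eq_card _
  rw [hfix, IntermediateField.finrank_bot'] at h1
  have h2 : Nat.card ψ.ker * Nat.card ψ.range = Nat.card ((Q.O).decompositionSubgroup K) := by
    rw [← Subgroup.index_ker, Subgroup.card_mul_index]
  have h3 := FG.card_decomposition_mul_deg hK Q P e he
  have h4 : Module.finrank k (IsLocalRing.ResidueField P.O) *
      Module.finrank (IsLocalRing.ResidueField P.O) (IsLocalRing.ResidueField Q.O) =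
      Module.finrank k (IsLocalRing.ResidueField Q.O) := Module.finrank_mul_finrank _ _ _
  have hpos : 0 < Module.finrank k (IsLocalRing.ResidueField Q.O) := Module.finrank_pos
  rw [hker]
  unfold Place.deg at h3
  rw [← h2, ← h4, h1] at h3
  rw [← h4, h1] at hpos
  have h5 : Nat.card ψ.ker *
      (Module.finrank k (IsLocalRing.ResidueField P.O) * Nat.card ψ.range) =
      e * (Module.finrank k (IsLocalRing.ResidueField P.O) * Nat.card ψ.range) := by
    rw [← h3]; ring
  exact Nat.eq_of_mul_eq_mul_right hpos h5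

end Main

end Groth.Agent.Helper6.FFInertia
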