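import Mathlib
import Groth.Agent.Helper6.FFZeta5

set_option backward.isDefEq.respectTransparency false
set_option backward.isDefEq.respectTransparency.types false
set_option autoImplicit false
set_option linter.style.haveILetI false

open FunFld Polynomial

namespace Groth.Agent.Helper6.FFZeta

open Groth.Agent.Helper5
open Groth.Agent.Helper5.FF hiding degHom degHom_apply

variable {k K : Type*} [Field k] [Field K] [Algebra k K]

theorem sum_coeff_numerZ (N : ℕ) :
    ∑ i ∈ Finset.range (N + 1), PowerSeries.coeff i (numerZ k K) =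
      (effDivCount k K N : ℤ) -
        (Nat.card k : ℤ) * (if 1 ≤ N then (effDivCount k K (N - 1) : ℤ) else 0) := by
  induction N with
  | zero =>
    rw [Finset.sum_range_one, coeff_numerZ]
    simp
  | succ N ih =>
    rw [Finset.sum_range_succ, ih, coeff_numerZ]
    simp only [if_pos (show 1 ≤ N + 1 by omega), Nat.add_sub_cancel]
    by_cases h : 1 ≤ N
    · rw [if_pos h, if_pos (by omega : 2 ≤ N + 1)]
      have : N + 1 - 2 = N - 1 := by omega
      rw [this]; ring
    · rw [if_neg h, if_neg (by omega : ¬ 2 ≤ N + 1)]; ring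

theorem numerZ_exists_poly [Finite k] (hK : IsFunctionField k K) :
    ∃ p : Polynomial ℤ, (p : PowerSeries ℤ) = numerZ k K := by
  obtain ⟨h1, -, -⟩ := numerZ_facts hK
  refine ⟨PowerSeries.trunc (2 * genus k K + 1) (numerZ k K), ?_⟩
  ext n
  rw [Polynomial.coeff_coe, PowerSeries.coeff_trunc]
  split_ifs with h
  · rfl
  · exact (h1 n (by omega)).symm

theorem coeff_of_coe_eq (p : Polynomial ℤ) (hp : (p : PowerSeries ℤ) = numerZ k K) (n : ℕ) :
    p.coeff n = PowerSeries.coeff n (numerZ k K) := by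
  rw [← hp, Polynomial.coeff_coe]

theorem natDegree_le_of_coe_eq [Finite k] (hK : IsFunctionField k K) (p : Polynomial ℤ)
    (hp : (p : PowerSeries ℤ) = numerZ k K) : p.natDegree ≤ 2 * genus k K := by
  obtain ⟨hvan, -, -⟩ := numerZ_facts hK
  rw [Polynomial.natDegree_le_iff_coeff_eq_zero]
  intro N hN
  rw [coeff_of_coe_eq p hp, hvan N hN]

theorem eval_one_eq [Finite k] (hK : IsFunctionField k K) (p : Polynomial ℤ)
    (hp : (p : PowerSeries ℤ) = numerZ k K) : p.eval 1 = (classNum k K : ℤ) := by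
  have hdeg := natDegree_le_of_coe_eq hK p hp
  obtain ⟨g, hg⟩ : ∃ g, g = genus k K := ⟨_, rfl⟩
  rw [← hg] at hdeg
  have hev : p.eval 1 =
      ∑ i ∈ Finset.range (2 * g + 1 + 1), PowerSeries.coeff i (numerZ k K) := by
    rw [Polynomial.eval_eq_sum_range' (show p.natDegree < 2 * g + 1 + 1 by omega)]
    apply Finset.sum_congr rfl
    intro i _
    rw [one_pow, mul_one, coeff_of_coe_eq p hp]
  rw [hev, sum_coeff_numerZ, if_pos (by omega)]
  have hex : ∀ n : ℕ, ∃ D : Divisor k K, D.deg = n := fun n => fk_schmidt k K hK n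
  have m1 := ((main hK).2 (2 * g + 1) (by rw [← hg]; omega)).1 (hex _)
  have m2 := ((main hK).2 (2 * g) (by rw [← hg]; omega)).1 (hex _)
  rw [← hg] at m1 m2
  have e1 : 2 * g + 1 + 1 - g = (g + 1) + 1 := by omega
  have e2 : 2 * g + 1 - g = g + 1 := by omega
  have e3 : 2 * g + 1 - 1 = 2 * g := by omega
  rw [e1, pow_succ] at m1
  rw [e2] at m2
  rw [e3]
  have hq1 : ((Nat.card k : ℤ) - 1) ≠ 0 := by
    have h1 : 1 < Nat.card k := Finite.one_lt_card
    have : (1 : ℤ) < Nat.card k := by exact_mod_cast h1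
    linarith
  apply mul_left_cancel₀ hq1
  linear_combination m1 - (Nat.card k : ℤ) * m2

theorem functional_equation [Finite k] (hK : IsFunctionField k K) :
    (∀ n : ℕ, 2 * genus k K < n → PowerSeries.coeff n (numerZ k K) = 0) ∧
    PowerSeries.coeff (2 * genus k K) (numerZ k K) ≠ 0 ∧
    ∀ i : ℕ, i ≤ 2 * genus k K →
      (((PowerSeries.coeff (2 * genus k K - i) (numerZ k K) : ℤ)) : ℚ) =
        (Nat.card k : ℚ) ^ ((genus k K : ℤ) - i) *
          (((PowerSeries.coeff i (numerZ k K) : ℤ)) : ℚ) := by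
  obtain ⟨h1, h2, h3⟩ := numerZ_facts hK
  refine ⟨h1, ?_, h3⟩
  have hq0 : (Nat.card k : ℚ) ≠ 0 := by
    have : 0 < Nat.card k := Nat.card_pos
    exact_mod_cast this.ne'
  have h4 := h3 0 (Nat.zero_le _)
  rw [Nat.sub_zero, h2] at h4
  intro h0
  rw [h0] at h4
  have h5 : (Nat.card k : ℚ) ^ ((genus k K : ℤ) - ((0 : ℕ) : ℤ)) ≠ 0 := zpow_ne_zero _ hq0
  apply h5
  rw [Int.cast_zero, Int.cast_one, mul_one] at h4
  exact h4.symm

end Groth.Agent.Helper6.FFZeta
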