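import Mathlib

set_option backward.isDefEq.respectTransparency false
set_option backward.isDefEq.respectTransparency.types false
set_option autoImplicit false
set_option linter.style.haveILetI false

open Polynomial

namespace Groth.Agent.Helper6.FFZeta

/-- evaluation form of the functional equation -/
def FEq (q c : ℂ) (N : ℕ) (P : ℂ[X]) : Prop :=
  ∀ x : ℂ, x ≠ 0 → (q * x) ^ N * P.eval (q * x)⁻¹ = c * P.eval x

/-- the polynomial `x ↦ (q x)^N P(1/(q x))` -/
noncomputable def Gp (q : ℂ) (N : ℕ) (P : ℂ[X]) : ℂ[X] :=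
  ∑ i ∈ Finset.range (N + 1), C (P.coeff i * q ^ (N - i)) * X ^ (N - i)

theorem eval_Gp_sum (q : ℂ) (N : ℕ) (P : ℂ[X]) (x : ℂ) :
    (Gp q N P).eval x = ∑ i ∈ Finset.range (N + 1), P.coeff i * q ^ (N - i) * x ^ (N - i) := by
  unfold Gp
  rw [Polynomial.eval_finset_sum]
  apply Finset.sum_congr rfl
  intro i _
  rw [eval_mul, eval_C, eval_pow, eval_X]

theorem eval_Gp (q : ℂ) (hq : q ≠ 0) (N : ℕ) (P : ℂ[X]) (hP : P.natDegree ≤ N) (x : ℂ)
    (hx : x ≠ 0) : (Gp q N P).eval x = (q * x) ^ N * P.eval (q * x)⁻¹ := by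
  rw [eval_Gp_sum, Polynomial.eval_eq_sum_range' (show P.natDegree < N + 1 by omega),
    Finset.mul_sum]
  apply Finset.sum_congr rfl
  intro i hi
  have hi' : i ≤ N := by have := Finset.mem_range.mp hi; omega
  have hqx : q * x ≠ 0 := mul_ne_zero hq hx
  have h1 : (q * x) ^ N = (q * x) ^ (N - i) * (q * x) ^ i := by
    rw [← pow_add, Nat.sub_add_cancel hi']
  have h2 : (q * x) ^ i ≠ 0 := pow_ne_zero _ hqx
  rw [h1, inv_pow, mul_pow q x (N - i)]
  field_simp

theorem FEq_of_cofinite (q : ℂ) (hq : q ≠ 0) (c : ℂ) (N : ℕ) (P : ℂ[X]) (hP : P.natDegree ≤ N)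
    (S : Finset ℂ)
    (h : ∀ x : ℂ, x ≠ 0 → x ∉ S → (q * x) ^ N * P.eval (q * x)⁻¹ = c * P.eval x) :
    FEq q c N P := by
  classical
  have hzero : Gp q N P - C c * P = 0 := by
    apply Polynomial.eq_zero_of_infinite_isRoot
    apply Set.Infinite.mono (s := ((insert 0 S : Finset ℂ) : Set ℂ)ᶜ)
    · intro x hx
      have hx' : x ∉ insert 0 S := hx
      rw [Finset.mem_insert, not_or] at hx'
      show IsRoot _ x
      rw [IsRoot.def, eval_sub, eval_mul, eval_C, eval_Gp q hq N P hP x hx'.1,
        h x hx'.1 hx'.2, sub_self]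
    · exact (Finset.finite_toSet _).infinite_compl
  intro x hx
  rw [← eval_Gp q hq N P hP x hx]
  have := congrArg (Polynomial.eval x) hzero
  rw [eval_sub, eval_mul, eval_C, eval_zero, sub_eq_zero] at this
  exact this

/-- the linear factor `1 - a X` -/
noncomputable def lin (a : ℂ) : ℂ[X] := 1 - C a * X

theorem eval_lin (a x : ℂ) : (lin a).eval x = 1 - a * x := by
  unfold lin; simp

theorem lin_eq (a : ℂ) : lin a = C (-a) * X + C 1 := by
  unfold lin; rw [map_neg, map_one]; ring

theorem natDegree_lin {a : ℂ} (ha : a ≠ 0) : (lin a).natDegree = 1 := by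
  rw [lin_eq, natDegree_linear (neg_ne_zero.mpr ha)]

theorem lin_ne_zero (a : ℂ) : lin a ≠ 0 := by
  intro h
  have := congrArg (Polynomial.eval 0) h
  rw [eval_lin, mul_zero, sub_zero, eval_zero] at this
  exact one_ne_zero this

theorem lin_dvd {a : ℂ} (ha : a ≠ 0) (P : ℂ[X]) (h : P.eval a⁻¹ = 0) : lin a ∣ P := by
  obtain ⟨R, hR⟩ := dvd_iff_isRoot.mpr (show IsRoot P a⁻¹ from h)
  refine ⟨C (-a⁻¹) * R, ?_⟩
  have h1 : C a * C a⁻¹ = (1 : ℂ[X]) := by rw [← C_mul, mul_inv_cancel₀ ha, C_1]
  rw [hR]
  unfold lin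
  rw [map_neg]
  linear_combination (-(X * R)) * h1

theorem pairing_aux (q : ℂ) (hq : q ≠ 0) : ∀ (m n : ℕ), n = 2 * m → ∀ P : ℂ[X],
    P.natDegree = n → P.coeff 0 = 1 → FEq q (q ^ m) n P →
    ∃ α : Fin n → ℂ, P = ∏ i, (1 - C (α i) * X) ∧ ∀ i, α i * α (Fin.rev i) = q := by
  intro m
  induction m with
  | zero =>
    intro n hn P hdeg h0 _
    obtain rfl : n = 0 := by omega
    refine ⟨fun i => i.elim0, ?_, fun i => i.elim0⟩
    rw [Polynomial.eq_C_of_natDegree_eq_zero hdeg, h0]
    simp
  | succ m ih =>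
    intro n hn P hdeg h0 hFE
    obtain rfl : n = 2 * m + 1 + 1 := by omega
    have hP0 : P ≠ 0 := by
      rintro rfl
      simp at h0
    have hdegne : P.degree ≠ 0 := by
      rw [Polynomial.degree_eq_natDegree hP0, hdeg]
      norm_cast
    obtain ⟨β, hβ⟩ := IsAlgClosed.exists_root P hdegne
    have hβ0 : β ≠ 0 := by
      rintro rfl
      rw [IsRoot.def, ← Polynomial.coeff_zero_eq_eval_zero, h0] at hβ
      exact one_ne_zero hβ
    obtain ⟨α, hα⟩ : ∃ α : ℂ, α = β⁻¹ := ⟨_, rfl⟩
    have hα0 : α ≠ 0 := hα ▸ inv_ne_zero hβ0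
    have hαβ : α * β = 1 := by rw [hα]; exact inv_mul_cancel₀ hβ0
    have hβα : β = α⁻¹ := by rw [hα, inv_inv]
    obtain ⟨P₃, hP₃⟩ : lin α ∣ P := lin_dvd hα0 P (by rw [← hβα]; exact hβ)
    have hP₃0 : P₃ ≠ 0 := by
      rintro rfl; rw [mul_zero] at hP₃; exact hP0 hP₃
    have hdeg₃ : P₃.natDegree = 2 * m + 1 := by
      have := natDegree_mul (lin_ne_zero α) hP₃0
      rw [← hP₃, hdeg, natDegree_lin hα0] at this
      omega
    obtain ⟨β', hβ'⟩ : ∃ β' : ℂ, β' = α / q := ⟨_, rfl⟩
    have hβ'0 : β' ≠ 0 := hβ' ▸ div_ne_zero hα0 hq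
    have hqβ' : q * β' = α := by rw [hβ']; field_simp
    -- β' is a root of P
    have hPβ' : P.eval β' = 0 := by
      have := hFE β' hβ'0
      rw [hqβ', ← hβα, hβ, mul_zero] at this
      have hq1 : q ^ (m + 1) ≠ 0 := pow_ne_zero _ hq
      exact (mul_eq_zero.mp this.symm).resolve_left hq1
    have key : P₃.eval β' = 0 := by
      by_cases hne : β' = β
      · -- the fixed point case
        have hαα : q = α * α := by
          have h0' : α / q = α⁻¹ := by rw [← hβ', hne, hβα]
          have h1 : α = α⁻¹ * q := (div_eq_iff hq).mp h0'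
          have h2 : α * α = α * (α⁻¹ * q) := by rw [← h1]
          rw [h2, mul_inv_cancel_left₀ hα0]
        have hFE3 : FEq q (-(q ^ (m + 1) / α)) (2 * m + 1) P₃ := by
          apply FEq_of_cofinite q hq _ _ P₃ (le_of_eq hdeg₃) {β}
          intro x hx hxβ
          rw [Finset.mem_singleton] at hxβ
          have hfe := hFE x hx
          rw [hP₃, eval_mul, eval_mul, eval_lin, eval_lin] at hfe
          have hu : 1 - α * x ≠ 0 := by
            intro h0'
            apply hxβ
            have : α * x = 1 := by linear_combination -h0'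
            rw [hβα]
            field_simp
            linear_combination this
          have hqx : q * x ≠ 0 := mul_ne_zero hq hx
          have hA : (q * x) ^ (2 * m + 1 + 1) * ((1 - α * (q * x)⁻¹) * P₃.eval (q * x)⁻¹) =
              -(α * (1 - α * x)) * ((q * x) ^ (2 * m + 1) * P₃.eval (q * x)⁻¹) := by
            rw [pow_succ]
            have : (q * x) * (1 - α * (q * x)⁻¹) = -(α * (1 - α * x)) := by
              field_simp
              rw [hαα]; ring
            linear_combination ((q * x) ^ (2 * m + 1) * P₃.eval (q * x)⁻¹) * this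
          rw [hA] at hfe
          have hαu : α * (1 - α * x) ≠ 0 := mul_ne_zero hα0 hu
          apply mul_left_cancel₀ hαu
          rw [div_eq_mul_inv]
          linear_combination (-1 : ℂ) * hfe +
            ((1 - α * x) * q ^ (m + 1) * P₃.eval x) * (mul_inv_cancel₀ hα0)
        have h3 := hFE3 β hβ0
        have hqβ : q * β = α := by rw [hβα, hαα]; field_simp
        rw [hqβ, ← hβα] at h3
        have hpow : q ^ (m + 1) / α = α ^ (2 * m + 1) := by
          rw [hαα, ← pow_two, ← pow_mul]
          field_simp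
          ring
        rw [hpow] at h3
        have hα1 : α ^ (2 * m + 1) ≠ 0 := pow_ne_zero _ hα0
        have h4 : (2 : ℂ) * α ^ (2 * m + 1) * P₃.eval β = 0 := by linear_combination h3
        rw [hne]
        exact (mul_eq_zero.mp h4).resolve_left (mul_ne_zero two_ne_zero hα1)
      · rw [hP₃, eval_mul, eval_lin] at hPβ'
        refine (mul_eq_zero.mp hPβ').resolve_left ?_
        intro h0'
        apply hne
        have : α * β' = 1 := by linear_combination -h0'
        rw [hβα]
        field_simp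
        linear_combination this
    have hqα0 : q / α ≠ 0 := div_ne_zero hq hα0
    obtain ⟨P₁, hP₁⟩ : lin (q / α) ∣ P₃ :=
      lin_dvd hqα0 P₃ (by rw [inv_div, ← hβ']; exact key)
    have hP₁0 : P₁ ≠ 0 := by
      rintro rfl; rw [mul_zero] at hP₁; exact hP₃0 hP₁
    have hdeg₁ : P₁.natDegree = 2 * m := by
      have := natDegree_mul (lin_ne_zero (q / α)) hP₁0
      rw [← hP₁, hdeg₃, natDegree_lin hqα0] at this
      omega
    have hP : P = lin α * (lin (q / α) * P₁) := by rw [hP₃, hP₁]
    have h01 : P₁.coeff 0 = 1 := by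
      have := congrArg (Polynomial.eval 0) hP
      rw [eval_mul, eval_mul, eval_lin, eval_lin, mul_zero, mul_zero, sub_zero, one_mul, one_mul,
        ← Polynomial.coeff_zero_eq_eval_zero, ← Polynomial.coeff_zero_eq_eval_zero, h0] at this
      exact this.symm
    have hFE1 : FEq q (q ^ m) (2 * m) P₁ := by
      apply FEq_of_cofinite q hq _ _ P₁ (le_of_eq hdeg₁) {α⁻¹, (q / α)⁻¹}
      intro x hx hxS
      rw [Finset.mem_insert, Finset.mem_singleton, not_or] at hxS
      have hu : 1 - α * x ≠ 0 := by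
        intro h0'
        apply hxS.1
        have : α * x = 1 := by linear_combination -h0'
        field_simp
        linear_combination this
      have hv : 1 - q / α * x ≠ 0 := by
        intro h0'
        apply hxS.2
        have : q / α * x = 1 := by linear_combination -h0'
        rw [inv_div]
        field_simp at this ⊢
        linear_combination this
      have hfe := hFE x hx
      rw [hP, eval_mul, eval_mul, eval_mul, eval_mul, eval_lin, eval_lin, eval_lin, eval_lin]
        at hfe
      have hqx : q * x ≠ 0 := mul_ne_zero hq hx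
      have hA : (q * x) ^ (2 * m + 1 + 1) *
          ((1 - α * (q * x)⁻¹) * ((1 - q / α * (q * x)⁻¹) * P₁.eval (q * x)⁻¹)) =
          q * (1 - α * x) * (1 - q / α * x) * ((q * x) ^ (2 * m) * P₁.eval (q * x)⁻¹) := by
        rw [pow_succ, pow_succ]
        have : (q * x) * (q * x) * ((1 - α * (q * x)⁻¹) * (1 - q / α * (q * x)⁻¹)) =
            q * (1 - α * x) * (1 - q / α * x) := by
          field_simp
          ring
        linear_combination ((q * x) ^ (2 * m) * P₁.eval (q * x)⁻¹) * this
      rw [hA] at hfe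
      have hquv : q * (1 - α * x) * (1 - q / α * x) ≠ 0 := mul_ne_zero (mul_ne_zero hq hu) hv
      apply mul_left_cancel₀ hquv
      rw [hfe, pow_succ]
      ring
    obtain ⟨α', hα'P, hα'q⟩ := ih (2 * m) rfl P₁ hdeg₁ h01 hFE1
    refine ⟨Fin.cons α (Fin.snoc α' (q / α)), ?_, ?_⟩
    · rw [Fin.prod_univ_succ, Fin.prod_univ_castSucc]
      simp only [Fin.cons_zero, Fin.cons_succ, Fin.snoc_castSucc, Fin.snoc_last]
      rw [hP, hα'P]
      unfold lin
      ring
    · intro i
      induction i using Fin.cases with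
      | zero =>
        rw [Fin.rev_zero, ← Fin.succ_last, Fin.cons_zero, Fin.cons_succ, Fin.snoc_last]
        field_simp
      | succ j =>
        induction j using Fin.lastCases with
        | last =>
          rw [Fin.succ_last, Fin.rev_last, Fin.cons_zero, ← Fin.succ_last, Fin.cons_succ,
            Fin.snoc_last]
          field_simp
        | cast l =>
          rw [Fin.rev_succ, Fin.rev_castSucc, Fin.castSucc_succ, Fin.cons_succ, Fin.cons_succ,
            Fin.snoc_castSucc, Fin.snoc_castSucc]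
          exact hα'q l

end Groth.Agent.Helper6.FFZeta
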