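import Mathlib
import Groth.Agent.Helper6.FFZeta6
import Groth.Agent.Helper6.FFZeta7

set_option backward.isDefEq.respectTransparency false
set_option backward.isDefEq.respectTransparency.types false
set_option autoImplicit false
set_option linter.style.haveILetI false

open FunFld Polynomial

namespace Groth.Agent.Helper6.FFZeta

variable {k K : Type*} [Field k] [Field K] [Algebra k K]

theorem exists_reciprocal_roots [Finite k] (hK : IsFunctionField k K) :
    ∃ α : Fin (2 * genus k K) → ℂ, (∀ i, IsIntegral ℤ (α i)) ∧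
      PowerSeries.map (Int.castRingHom ℂ) (numerZ k K) =
        ((∏ i, (1 - Polynomial.C (α i) * Polynomial.X) : Polynomial ℂ) : PowerSeries ℂ) ∧
      ∀ i, α i * α (Fin.rev i) = (Nat.card k : ℂ) := by
  classical
  obtain ⟨p, hp⟩ := numerZ_exists_poly hK
  obtain ⟨hvan, h0, hsym⟩ := numerZ_facts hK
  have hdegle := natDegree_le_of_coe_eq hK p hp
  have pc : ∀ n, p.coeff n = PowerSeries.coeff n (numerZ k K) := coeff_of_coe_eq p hp
  generalize genus k K = g at *
  have hq1 : 1 < Nat.card k := Finite.one_lt_card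
  have hq0 : (Nat.card k : ℚ) ≠ 0 := by
    have : 0 < Nat.card k := by omega
    exact_mod_cast this.ne'
  have hqC : (Nat.card k : ℂ) ≠ 0 := by
    have : 0 < Nat.card k := by omega
    exact_mod_cast this.ne'
  have hsymZ : ∀ i, i ≤ 2 * g →
      (Nat.card k : ℤ) ^ i * p.coeff (2 * g - i) = (Nat.card k : ℤ) ^ g * p.coeff i := by
    intro i hi
    have h := hsym i hi
    rw [← pc, ← pc] at h
    have : ((Nat.card k : ℚ)) ^ i * (p.coeff (2 * g - i) : ℚ) =
        (Nat.card k : ℚ) ^ g * (p.coeff i : ℚ) := by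
      rw [h, ← mul_assoc, ← zpow_natCast, ← zpow_natCast, ← zpow_add₀ hq0]
      congr 2
      ring
    exact_mod_cast this
  obtain ⟨P, hPdef⟩ : ∃ P : ℂ[X], P = p.map (Int.castRingHom ℂ) := ⟨_, rfl⟩
  have hPcoeff : ∀ n, P.coeff n = ((p.coeff n : ℤ) : ℂ) := fun n => by
    rw [hPdef, Polynomial.coeff_map]; rfl
  have hdegp : p.natDegree = 2 * g := by
    apply le_antisymm hdegle
    apply Polynomial.le_natDegree_of_ne_zero
    have := hsymZ 0 (Nat.zero_le _)
    rw [pow_zero, one_mul, Nat.sub_zero, pc 0, h0, mul_one] at this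
    rw [this]
    apply pow_ne_zero
    have : 0 < Nat.card k := by omega
    exact_mod_cast this.ne'
  have hdegP : P.natDegree = 2 * g := by
    rw [hPdef, Polynomial.natDegree_map_eq_of_injective
      (RingHom.injective_int (Int.castRingHom ℂ)), hdegp]
  have hFE : FEq (Nat.card k : ℂ) ((Nat.card k : ℂ) ^ g) (2 * g) P := by
    intro x hx
    rw [← eval_Gp (Nat.card k : ℂ) hqC (2 * g) P (le_of_eq hdegP) x hx, eval_Gp_sum,
      ← Finset.sum_range_reflect,
      Polynomial.eval_eq_sum_range' (show P.natDegree < 2 * g + 1 by omega), Finset.mul_sum]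
    apply Finset.sum_congr rfl
    intro j hj
    have hj' : j ≤ 2 * g := by have := Finset.mem_range.mp hj; omega
    have e1 : 2 * g + 1 - 1 - j = 2 * g - j := by omega
    have e2 : 2 * g - (2 * g - j) = j := by omega
    rw [e1, e2, hPcoeff, hPcoeff]
    have := hsymZ j hj'
    have hC : ((Nat.card k : ℂ)) ^ j * ((p.coeff (2 * g - j) : ℤ) : ℂ) =
        (Nat.card k : ℂ) ^ g * ((p.coeff j : ℤ) : ℂ) := by exact_mod_cast this
    linear_combination (x ^ j) * hC
  have h0P : P.coeff 0 = 1 := by rw [hPcoeff, pc, h0]; simp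
  obtain ⟨α, hαP, hαq⟩ := pairing_aux (Nat.card k : ℂ) hqC g (2 * g) rfl P hdegP h0P hFE
  refine ⟨α, ?_, ?_, hαq⟩
  · intro i
    have hαi : α i ≠ 0 := by
      intro h
      have := hαq i
      rw [h, zero_mul] at this
      exact hqC this.symm
    have hroot : P.eval (α i)⁻¹ = 0 := by
      rw [hαP, Polynomial.eval_prod]
      apply Finset.prod_eq_zero (Finset.mem_univ i)
      simp [hαi]
    refine ⟨p.reverse, ?_, ?_⟩
    · unfold Polynomial.Monic
      rw [Polynomial.reverse_leadingCoeff,
        Polynomial.trailingCoeff_eq_coeff_zero (by rw [pc, h0]; exact one_ne_zero), pc, h0]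
    · letI : Invertible (α i)⁻¹ := invertibleOfNonzero (inv_ne_zero hαi)
      have h1 := (Polynomial.eval₂_reverse_eq_zero_iff (Int.castRingHom ℂ) (α i)⁻¹ p).mpr
        (by rw [Polynomial.eval₂_eq_eval_map, ← hPdef]; exact hroot)
      rw [invOf_eq_inv, inv_inv] at h1
      exact h1
  · rw [← hp, ← Polynomial.polynomial_map_coe, ← hPdef, hαP]

end Groth.Agent.Helper6.FFZeta
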