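import Mathlib
import Groth.Agent.Helper6.FFInertia
import Groth.Agent.Helper5.FGTransport

set_option linter.style.haveILetI false
set_option autoImplicit false

open FunFld Polynomial
open Groth.Agent.Helper5

namespace Groth.Agent.Helper6.FFTower

section Consts

variable {k E : Type*} [Field k] [Field E] [Algebra k E]

theorem isFunctionField_consts (hE : FG.IsFF k E) :
    IsFunctionField ↥(algebraicClosure k E) E := by
  obtain ⟨x, hx, hfin⟩ := hE
  refine ⟨⟨x, ?_, ?_⟩, ?_⟩
  · intro h
    exact hx (h.restrictScalars k)
  · have hle : IntermediateField.adjoin k ({x} : Set E) ≤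
        (IntermediateField.adjoin ↥(algebraicClosure k E) ({x} : Set E)).restrictScalars k := by
      rw [IntermediateField.adjoin_le_iff]
      intro y hy
      rw [Set.mem_singleton_iff] at hy
      subst hy
      exact IntermediateField.mem_adjoin_simple_self _ _
    have h1 := FG.finiteDimensional_of_le hle hfin
    exact h1
  · intro y hy
    have hy' : IsAlgebraic k y := hy.restrictScalars k
    exact ⟨⟨y, mem_algebraicClosure_iff.mpr hy'⟩, rfl⟩

end Consts

section Transport

variable {k E L : Type*} [Field k] [Field E] [Field L] [Algebra k E] [Algebra E L]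
  [Algebra k L] [IsScalarTower k E L]

theorem isScalarTower_consts : IsScalarTower k ↥(algebraicClosure k E) L :=
  IsScalarTower.of_algebraMap_eq fun c => by
    show algebraMap k L c = algebraMap E L (algebraMap k E c)
    exact IsScalarTower.algebraMap_apply k E L c

/-- the same place, over the field of constants of `E`. -/
def placeUp (Q : Place k L) : Place ↥(algebraicClosure k E) L :=
  ⟨Q.1, fun c => by
    have h1 : IsAlgebraic k (c : E) := mem_algebraicClosure_iff.mp c.2
    have h2 : IsAlgebraic k (algebraMap E L (c : E)) := h1.algebraMap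
    exact FG.gval_le_one_of_isAlgebraic Q.1 Q.2.1 h2, Q.2.2⟩

/-- a place over the constants, seen over `k`. -/
def placeDown (P : Place ↥(algebraicClosure k E) E) : Place k E :=
  ⟨P.1, fun c => by
    rw [IsScalarTower.algebraMap_apply k ↥(algebraicClosure k E) E]
    exact P.2.1 _, P.2.2⟩

theorem transport [FiniteDimensional E L] [IsGalois E L] (hE : FG.IsFF k E) (Q : Place k L)
    [Algebra.IsSeparable k (IsLocalRing.ResidueField Q.O)] :
    ∃ (QE : Place k E) (d : ℕ), IsOverWith Q QE d ∧
      Nat.card ((Q.O).inertiaSubgroup E) = d := by
  have hK₁ : IsFunctionField ↥(algebraicClosure k E) E := isFunctionField_consts hE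
  obtain ⟨P₁, d, hd⟩ := FG.exists_isOverWith (k := ↥(algebraicClosure k E)) (K := E) (K' := L)
    hK₁.1 (placeUp Q)
  haveI hsep : Algebra.IsSeparable ↥(algebraicClosure k E)
      (IsLocalRing.ResidueField (placeUp (E := E) Q).O) := by
    letI : Algebra k (IsLocalRing.ResidueField (placeUp (E := E) Q).O) := Place.algRes Q
    haveI : IsScalarTower k ↥(algebraicClosure k E)
        (IsLocalRing.ResidueField (placeUp (E := E) Q).O) :=
      IsScalarTower.of_algebraMap_eq fun c => by
        show IsLocalRing.residue Q.O (algebraMap k Q.O c) =
          IsLocalRing.residue (placeUp (E := E) Q).O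
            (algebraMap ↥(algebraicClosure k E) (placeUp (E := E) Q).O (algebraMap k _ c))
        congr 1
        apply Subtype.ext
        show algebraMap k L c = algebraMap E L (algebraMap k E c)
        exact IsScalarTower.algebraMap_apply k E L c
    haveI : Algebra.IsSeparable k (IsLocalRing.ResidueField (placeUp (E := E) Q).O) :=
      ‹Algebra.IsSeparable k (IsLocalRing.ResidueField Q.O)›
    exact Algebra.isSeparable_tower_top_of_isSeparable k ↥(algebraicClosure k E) _
  have h := FFInertia.card_inertia (k := ↥(algebraicClosure k E)) (K := E) (K' := L) hK₁ hd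
  exact ⟨placeDown P₁, d, hd, h⟩

end Transport

end Groth.Agent.Helper6.FFTower
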