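import Mathlib

set_option autoImplicit false

namespace Groth.Agent.Helper6.Jacobi

open Matrix

theorem leibniz_prod {R A : Type*} [CommRing R] [CommRing A] [Algebra R A] (D : Derivation R A A)
    {ι : Type*} [DecidableEq ι] (s : Finset ι) (f : ι → A) :
    D (∏ i ∈ s, f i) = ∑ i ∈ s, (∏ j ∈ s.erase i, f j) * D (f i) := by
  induction s using Finset.induction_on with
  | empty => simp
  | insert a s ha ih =>
    rw [Finset.prod_insert ha, Derivation.leibniz, ih, Finset.sum_insert ha,
      Finset.erase_insert ha, smul_eq_mul, smul_eq_mul, Finset.mul_sum, add_comm]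
    congr 1
    refine Finset.sum_congr rfl fun i hi => ?_
    have hia : i ≠ a := fun h => ha (h ▸ hi)
    rw [Finset.erase_insert_of_ne hia.symm, Finset.prod_insert, mul_assoc]
    exact fun h => ha (Finset.mem_of_mem_erase h)

/-- Jacobi's formula, column form. -/
theorem derivation_det {R A : Type*} [CommRing R] [CommRing A] [Algebra R A] (D : Derivation R A A)
    {n : Type*} [Fintype n] [DecidableEq n] (N : Matrix n n A) :
    D N.det = ∑ i, (N.updateCol i (fun k => D (N k i))).det := by
  simp only [det_apply, map_sum]
  rw [Finset.sum_comm]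
  refine Finset.sum_congr rfl fun σ _ => ?_
  rw [Units.smul_def, map_zsmul, leibniz_prod, Finset.smul_sum]
  refine Finset.sum_congr rfl fun i _ => ?_
  rw [Units.smul_def]
  congr 1
  rw [← Finset.mul_prod_erase Finset.univ _ (Finset.mem_univ i), updateCol_self, mul_comm]
  congr 1
  refine Finset.prod_congr rfl fun j hj => ?_
  rw [updateCol_ne (Finset.ne_of_mem_erase hj)]

/-- Jacobi's formula: `D (det N) = tr (adj N * D N)`. -/
theorem derivation_det_eq_trace {R A : Type*} [CommRing R] [CommRing A] [Algebra R A]
    (D : Derivation R A A) {n : Type*} [Fintype n] [DecidableEq n] (N : Matrix n n A) :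
    D N.det = Matrix.trace (N.adjugate * N.map D) := by
  rw [derivation_det, Matrix.trace]
  refine Finset.sum_congr rfl fun i _ => ?_
  rw [← cramer_apply, cramer_eq_adjugate_mulVec, Matrix.diag_apply, Matrix.mul_apply]
  rfl

end Groth.Agent.Helper6.Jacobi
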