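import Mathlib
import Groth.Agent.Helper6.Jacobi

set_option autoImplicit false

namespace Groth.Agent.Helper6.CharpolyRevExp

open Matrix PowerSeries

variable {K : Type*} [CommRing K] {n : Type*} [Fintype n] [DecidableEq n]

/-- The matrix `1 - X M` over power series. -/
noncomputable def NN (M : Matrix n n K) : Matrix n n (PowerSeries K) :=
  1 - (PowerSeries.X : PowerSeries K) • M.map (PowerSeries.C)

/-- The geometric series `Σ X^m M^m`. -/
noncomputable def GG (M : Matrix n n K) : Matrix n n (PowerSeries K) :=
  Matrix.of fun i j => PowerSeries.mk fun m => (M ^ m) i j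

theorem det_NN (M : Matrix n n K) : (NN M).det = (M.charpolyRev : PowerSeries K) := by
  rw [Matrix.charpolyRev, ← Polynomial.coeToPowerSeries.ringHom_apply, RingHom.map_det]
  congr 1
  ext i j : 1
  simp only [NN, RingHom.mapMatrix_apply, Matrix.map_apply, Matrix.sub_apply, Matrix.smul_apply,
    smul_eq_mul, Polynomial.coeToPowerSeries.ringHom_apply]
  by_cases h : i = j
  · subst h; simp; exact mul_comm _ _
  · simp [Matrix.one_apply_ne h]; exact mul_comm _ _

theorem NN_mul_GG (M : Matrix n n K) : NN M * GG M = 1 := by
  ext i j : 1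
  rw [NN, Matrix.sub_mul, Matrix.one_mul, Matrix.sub_apply, Matrix.smul_mul, Matrix.smul_apply,
    smul_eq_mul]
  ext m
  rw [map_sub]
  cases m with
  | zero =>
    simp only [GG, Matrix.of_apply, PowerSeries.coeff_mk, pow_zero, PowerSeries.coeff_zero_X_mul,
      sub_zero]
    by_cases h : i = j
    · subst h; simp
    · simp [Matrix.one_apply_ne h]
  | succ m =>
    rw [PowerSeries.coeff_succ_X_mul, Matrix.mul_apply, map_sum]
    have h1 : ∀ k, PowerSeries.coeff m ((M.map (PowerSeries.C (R := K))) i k * GG M k j) =
        M i k * (M ^ m) k j := by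
      intro k
      rw [Matrix.map_apply, PowerSeries.coeff_C_mul]
      simp [GG]
    rw [Finset.sum_congr rfl fun k _ => h1 k, ← Matrix.mul_apply, ← pow_succ']
    have h2 : PowerSeries.coeff (m + 1) ((1 : Matrix n n (PowerSeries K)) i j) = 0 := by
      by_cases h : i = j
      · subst h
        rw [Matrix.one_apply_eq, PowerSeries.coeff_one, if_neg (Nat.succ_ne_zero m)]
      · rw [Matrix.one_apply_ne h, map_zero]
    rw [h2]
    simp [GG]

theorem adjugate_NN (M : Matrix n n K) : (NN M).adjugate = (NN M).det • GG M := by
  calc (NN M).adjugate = (NN M).adjugate * (NN M * GG M) := by rw [NN_mul_GG, Matrix.mul_one]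
    _ = ((NN M).adjugate * NN M) * GG M := by rw [Matrix.mul_assoc]
    _ = (NN M).det • GG M := by rw [Matrix.adjugate_mul, Matrix.smul_mul, Matrix.one_mul]

omit [Fintype n] in
theorem map_D_NN (M : Matrix n n K) :
    (NN M).map (PowerSeries.derivative K) = -M.map (PowerSeries.C) := by
  ext i j : 1
  rw [Matrix.map_apply, NN, Matrix.sub_apply, Matrix.smul_apply, Matrix.neg_apply,
    Matrix.map_apply, map_sub, smul_eq_mul, Derivation.leibniz, PowerSeries.derivative_X,
    PowerSeries.derivative_C]
  have h1 : PowerSeries.derivative K ((1 : Matrix n n (PowerSeries K)) i j) = 0 := by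
    by_cases h : i = j
    · subst h
      rw [Matrix.one_apply_eq, Derivation.map_one_eq_zero]
    · rw [Matrix.one_apply_ne h, map_zero]
  rw [h1]
  simp

theorem trace_GG_mul (M : Matrix n n K) :
    Matrix.trace (GG M * M.map (PowerSeries.C)) =
      PowerSeries.mk fun m => Matrix.trace (M ^ (m + 1)) := by
  ext m
  rw [PowerSeries.coeff_mk, Matrix.trace, Matrix.trace, map_sum]
  refine Finset.sum_congr rfl fun i _ => ?_
  rw [Matrix.diag_apply, Matrix.diag_apply, Matrix.mul_apply, map_sum, pow_succ, Matrix.mul_apply]
  refine Finset.sum_congr rfl fun k _ => ?_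
  rw [Matrix.map_apply, mul_comm, PowerSeries.coeff_C_mul, mul_comm]
  simp [GG]

theorem derivative_charpolyRev (M : Matrix n n K) :
    PowerSeries.derivative K (M.charpolyRev : PowerSeries K) =
      -((M.charpolyRev : PowerSeries K) *
        PowerSeries.mk fun m => Matrix.trace (M ^ (m + 1))) := by
  rw [← det_NN, Groth.Agent.Helper6.Jacobi.derivation_det_eq_trace, adjugate_NN, map_D_NN,
    Matrix.mul_neg, Matrix.trace_neg, Matrix.smul_mul, Matrix.trace_smul, trace_GG_mul, smul_eq_mul]


theorem eq_zero_of_derivative_eq_mul {F : Type*} [Field F] [CharZero F] (C T : PowerSeries F)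
    (hC : PowerSeries.derivative F C = C * T) (h0 : PowerSeries.constantCoeff C = 0) : C = 0 := by
  ext m
  rw [map_zero]
  induction m using Nat.strong_induction_on with
  | _ m ih =>
    cases m with
    | zero => rw [PowerSeries.coeff_zero_eq_constantCoeff_apply, h0]
    | succ m =>
      have h1 := congrArg (PowerSeries.coeff m) hC
      rw [PowerSeries.coeff_derivative, PowerSeries.coeff_mul] at h1
      have h2 : ∑ p ∈ Finset.HasAntidiagonal.antidiagonal m, PowerSeries.coeff p.1 C * PowerSeries.coeff p.2 T
          = 0 := by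
        refine Finset.sum_eq_zero fun p hp => ?_
        have : p.1 ≤ m := by
          have := Finset.HasAntidiagonal.mem_antidiagonal.1 hp
          omega
        rw [ih p.1 (by omega), zero_mul]
      rw [h2] at h1
      rcases mul_eq_zero.1 h1 with h | h
      · exact h
      · exact absurd h (Nat.cast_add_one_ne_zero m)

theorem eq_of_derivative_eq_mul {F : Type*} [Field F] [CharZero F] (A B T : PowerSeries F)
    (hA : PowerSeries.derivative F A = A * T) (hB : PowerSeries.derivative F B = B * T)
    (h0 : PowerSeries.constantCoeff A = PowerSeries.constantCoeff B) : A = B := by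
  have := eq_zero_of_derivative_eq_mul (A - B) T (by rw [map_sub, hA, hB, sub_mul])
    (by rw [map_sub, h0, sub_self])
  exact sub_eq_zero.1 this

theorem charpolyRev_eq_exp {F : Type*} [Field F] [CharZero F] (M : Matrix n n F) :
    ((M.charpolyRev : Polynomial F) : PowerSeries F) =
      PowerSeries.subst (PowerSeries.mk fun m : ℕ => -(Matrix.trace (M ^ m)) / (m : F))
        (PowerSeries.exp F) := by
  set S : PowerSeries F := PowerSeries.mk fun m : ℕ => -(Matrix.trace (M ^ m)) / (m : F) with hSdef
  have hS0 : PowerSeries.constantCoeff S = 0 := by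
    rw [← PowerSeries.coeff_zero_eq_constantCoeff_apply, hSdef, PowerSeries.coeff_mk]
    simp
  have hS : PowerSeries.HasSubst S := PowerSeries.HasSubst.of_constantCoeff_zero' hS0
  have hS' : PowerSeries.derivative F S =
      -(PowerSeries.mk fun m => Matrix.trace (M ^ (m + 1))) := by
    ext m
    rw [PowerSeries.coeff_derivative, map_neg, PowerSeries.coeff_mk, PowerSeries.coeff_mk]
    have : ((m : F) + 1) ≠ 0 := Nat.cast_add_one_ne_zero m
    push_cast
    field_simp
  refine eq_of_derivative_eq_mul _ _ (PowerSeries.derivative F S) ?_ ?_ ?_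
  · rw [derivative_charpolyRev, hS', mul_neg]
  · rw [PowerSeries.derivative_subst hS, PowerSeries.derivative_exp]
  · have h1 : PowerSeries.constantCoeff ((M.charpolyRev : Polynomial F) : PowerSeries F) = 1 := by
      rw [← PowerSeries.coeff_zero_eq_constantCoeff_apply, Polynomial.coeff_coe,
        Polynomial.coeff_zero_eq_eval_zero, Matrix.eval_charpolyRev]
    have h2 : PowerSeries.constantCoeff (PowerSeries.subst S (PowerSeries.exp F)) = 1 := by
      rw [← PowerSeries.coeff_zero_eq_constantCoeff_apply, PowerSeries.coeff_subst' hS,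
        finsum_eq_single _ 0]
      · simp
      · intro d hd
        rw [PowerSeries.coeff_zero_eq_constantCoeff_apply, map_pow, hS0, zero_pow hd, smul_zero]
    rw [h1, h2]

end Groth.Agent.Helper6.CharpolyRevExp
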