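import Mathlib

set_option autoImplicit false

namespace Groth.Agent.Helper6.LogDeriv

open PowerSeries

variable {K : Type*} [Field K] [CharZero K]

/-- `T` is a logarithmic derivative of `A`: `A' = A * T`. -/
def HasLD (A T : PowerSeries K) : Prop := PowerSeries.derivative K A = A * T

omit [CharZero K] in
theorem HasLD.one : HasLD (1 : PowerSeries K) 0 := by
  unfold HasLD
  rw [Derivation.map_one_eq_zero, mul_zero]

omit [CharZero K] in
theorem HasLD.mul {A B S T : PowerSeries K} (hA : HasLD A S) (hB : HasLD B T) :
    HasLD (A * B) (S + T) := by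
  unfold HasLD at *
  rw [Derivation.leibniz, hA, hB, smul_eq_mul, smul_eq_mul]
  ring

omit [CharZero K] in
theorem HasLD.pow {A S : PowerSeries K} (hA : HasLD A S) (k : ℕ) :
    HasLD (A ^ k) ((k : PowerSeries K) * S) := by
  induction k with
  | zero => simpa using HasLD.one
  | succ k ih =>
    rw [pow_succ]
    have := ih.mul hA
    convert this using 1
    push_cast
    ring

omit [CharZero K] in
theorem HasLD.prod {ι : Type*} (s : Finset ι) (A T : ι → PowerSeries K)
    (h : ∀ i ∈ s, HasLD (A i) (T i)) : HasLD (∏ i ∈ s, A i) (∑ i ∈ s, T i) := by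
  classical
  induction s using Finset.induction_on with
  | empty => simpa using HasLD.one
  | insert a s ha ih =>
    rw [Finset.prod_insert ha, Finset.sum_insert ha]
    exact (h a (Finset.mem_insert_self a s)).mul
      (ih fun i hi => h i (Finset.mem_insert_of_mem hi))

omit [CharZero K] in
theorem HasLD.exp_subst [Algebra ℚ K] {L : PowerSeries K} (hL : PowerSeries.constantCoeff L = 0) :
    HasLD (PowerSeries.subst L (PowerSeries.exp K)) (PowerSeries.derivative K L) := by
  unfold HasLD
  rw [PowerSeries.derivative_subst (PowerSeries.HasSubst.of_constantCoeff_zero' hL),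
    PowerSeries.derivative_exp]

omit [CharZero K] in
theorem constantCoeff_exp_subst [Algebra ℚ K] {L : PowerSeries K}
    (hL : PowerSeries.constantCoeff L = 0) :
    PowerSeries.constantCoeff (PowerSeries.subst L (PowerSeries.exp K)) = 1 := by
  rw [← PowerSeries.coeff_zero_eq_constantCoeff_apply,
    PowerSeries.coeff_subst' (PowerSeries.HasSubst.of_constantCoeff_zero' hL),
    finsum_eq_single _ 0]
  · simp
  · intro d hd
    rw [PowerSeries.coeff_zero_eq_constantCoeff_apply, map_pow, hL, zero_pow hd, smul_zero]

/-- If `C' = C * T` and the coefficients of `T` below `n` vanish, and `C₀ = 0`, then the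
coefficients of `C` up to `n` vanish. -/
theorem coeff_eq_zero_of_HasLD {C T : PowerSeries K} (hC : HasLD C T)
    (h0 : PowerSeries.constantCoeff C = 0) (n : ℕ)
    (hT : ∀ j, j < n → PowerSeries.coeff j T = 0) :
    ∀ m, m ≤ n → PowerSeries.coeff m C = 0 := by
  intro m
  induction m using Nat.strong_induction_on with
  | _ m ih =>
    intro hm
    cases m with
    | zero => rw [PowerSeries.coeff_zero_eq_constantCoeff_apply, h0]
    | succ m =>
      have h1 := congrArg (PowerSeries.coeff m) hC
      rw [PowerSeries.coeff_derivative, PowerSeries.coeff_mul] at h1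
      have h2 : ∑ p ∈ Finset.HasAntidiagonal.antidiagonal m,
          PowerSeries.coeff p.1 C * PowerSeries.coeff p.2 T = 0 := by
        refine Finset.sum_eq_zero fun p hp => ?_
        have := Finset.HasAntidiagonal.mem_antidiagonal.1 hp
        rw [hT p.2 (by omega), mul_zero]
      rw [h2] at h1
      rcases mul_eq_zero.1 h1 with h | h
      · exact h
      · exact absurd h (Nat.cast_add_one_ne_zero m)

theorem eq_of_HasLD {A B T : PowerSeries K} (hA : HasLD A T) (hB : HasLD B T)
    (h0 : PowerSeries.constantCoeff A = PowerSeries.constantCoeff B) : A = B := by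
  have hC : HasLD (A - B) T := by
    unfold HasLD at *
    rw [map_sub, hA, hB, sub_mul]
  -- use the general statement with all coefficients: strong induction as before
  ext m
  have : PowerSeries.coeff m (A - B) = 0 := by
    induction m using Nat.strong_induction_on with
    | _ m ih =>
      cases m with
      | zero => rw [PowerSeries.coeff_zero_eq_constantCoeff_apply, map_sub, h0, sub_self]
      | succ m =>
        have h1 := congrArg (PowerSeries.coeff m) hC
        rw [PowerSeries.coeff_derivative, PowerSeries.coeff_mul] at h1
        have h2 : ∑ p ∈ Finset.HasAntidiagonal.antidiagonal m,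
            PowerSeries.coeff p.1 (A - B) * PowerSeries.coeff p.2 T = 0 := by
          refine Finset.sum_eq_zero fun p hp => ?_
          have := Finset.HasAntidiagonal.mem_antidiagonal.1 hp
          rw [ih p.1 (by omega), zero_mul]
        rw [h2] at h1
        rcases mul_eq_zero.1 h1 with h | h
        · exact h
        · exact absurd h (Nat.cast_add_one_ne_zero m)
  rw [map_sub, sub_eq_zero] at this
  exact this

/-- If `W' = W T`, `W₀ = 1` and `T` vanishes below degree `n` then `W ≡ 1 mod X^{n+1}`. -/
theorem trunc_eq_one_of_HasLD {W T : PowerSeries K} (hW : HasLD W T)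
    (h0 : PowerSeries.constantCoeff W = 1) (n : ℕ)
    (hT : ∀ j, j < n → PowerSeries.coeff j T = 0) :
    PowerSeries.trunc (n + 1) W = 1 := by
  -- (W - 1)' = W T = (W - 1) T + T; instead argue directly on coefficients
  ext m
  rw [PowerSeries.coeff_trunc, Polynomial.coeff_one]
  split_ifs with h1 h2 h2
  · subst h2
    rw [PowerSeries.coeff_zero_eq_constantCoeff_apply, h0]
  · -- 0 < m ≤ n
    have hm : m ≤ n := by omega
    clear h1
    induction m using Nat.strong_induction_on with
    | _ m ih =>
      cases m with
      | zero => exact absurd rfl h2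
      | succ m =>
        have h3 := congrArg (PowerSeries.coeff m) hW
        rw [PowerSeries.coeff_derivative, PowerSeries.coeff_mul] at h3
        have h4 : ∑ p ∈ Finset.HasAntidiagonal.antidiagonal m,
            PowerSeries.coeff p.1 W * PowerSeries.coeff p.2 T = 0 := by
          refine Finset.sum_eq_zero fun p hp => ?_
          have := Finset.HasAntidiagonal.mem_antidiagonal.1 hp
          rw [hT p.2 (by omega), mul_zero]
        rw [h4] at h3
        rcases mul_eq_zero.1 h3 with h | h
        · exact h
        · exact absurd h (Nat.cast_add_one_ne_zero m)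
  · omega
  · rfl

end Groth.Agent.Helper6.LogDeriv
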