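import Groth.Agent.Helper6.TateExp
import Groth.Agent.Helper5.FFWeil

set_option autoImplicit false
set_option linter.style.haveILetI false

/-!
# The residue theorem on a function field, in commutator-trace form
-/

namespace Groth.Agent.Helper6.TateAdele

open Groth.Agent.Helper6.TateTr Groth.Agent.Helper6.TateRho Groth.Agent.Helper6.TateGlob
  Groth.Agent.Helper6.TateExp
open FunFld
open Groth.Agent.Helper5

variable {k K : Type*} [Field k] [Field K] [Algebra k K]

/-- multiplication by `x` on the adele space -/
noncomputable def M (hK : IsFunctionField k K) (x : K) : Module.End k (adele k K) where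
  toFun a := ⟨x • (a : Place k K → K), FF.smul_mem_adele hK x a a.2⟩
  map_add' a b := by
    apply Subtype.ext
    simp [smul_add]
  map_smul' c a := by
    apply Subtype.ext
    simp only [RingHom.id_apply, Submodule.coe_smul]
    exact smul_comm x c _

theorem M_apply (hK : IsFunctionField k K) (x : K) (a : adele k K) (P : Place k K) :
    ((M hK x a : adele k K) : Place k K → K) P = x * (a : Place k K → K) P := rfl

/-- componentwise projection -/
noncomputable def pA (pl : Place k K → Module.End k K)
    (hm : ∀ (P : Place k K) (x : K), P.1 (pl P x) ≤ 1) : Module.End k (adele k K) where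
  toFun a := ⟨fun P => pl P ((a : Place k K → K) P), by
    rw [FF.mem_adele_iff]
    convert Set.finite_empty
    ext P
    simp only [Set.mem_setOf_eq, Set.mem_empty_iff_false, iff_false, not_not]
    exact hm P _⟩
  map_add' a b := by
    apply Subtype.ext
    funext P
    simp
  map_smul' c a := by
    apply Subtype.ext
    funext P
    simp

theorem pA_apply (pl : Place k K → Module.End k K) (hm : ∀ (P : Place k K) (x : K), P.1 (pl P x) ≤ 1)
    (a : adele k K) (P : Place k K) :
    ((pA pl hm a : adele k K) : Place k K → K) P = pl P ((a : Place k K → K) P) := rfl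

theorem single_mem_adele [DecidableEq (Place k K)] (P : Place k K) (x : K) :
    (Pi.single P x : Place k K → K) ∈ adele k K := by
  rw [FF.mem_adele_iff]
  apply (Set.finite_singleton P).subset
  intro Q hQ
  simp only [Set.mem_setOf_eq] at hQ
  by_contra hne
  apply hQ
  rw [Pi.single_eq_of_ne hne, map_zero]
  exact zero_le_one

/-- embedding of the `P`-component -/
noncomputable def iota (P : Place k K) : K →ₗ[k] adele k K := by
  classical
  exact LinearMap.codRestrict (adele k K) (LinearMap.single k (fun _ : Place k K => K) P)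
    (single_mem_adele P)

/-- evaluation at `P` -/
noncomputable def ev (P : Place k K) : adele k K →ₗ[k] K :=
  (LinearMap.proj P) ∘ₗ (adele k K).subtype

theorem ev_apply (P : Place k K) (a : adele k K) : ev P a = (a : Place k K → K) P := rfl

open scoped Classical in
theorem iota_apply (P Q : Place k K) (x : K) :
    ((iota P x : adele k K) : Place k K → K) Q = if Q = P then x else 0 := by
  classical
  unfold iota
  simp only [LinearMap.codRestrict_apply, LinearMap.single_apply]
  rw [Pi.single_apply]

theorem ev_comp_iota (P : Place k K) : ev P ∘ₗ iota P = LinearMap.id := by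
  ext x
  simp [ev_apply, iota_apply]

/-- componentwise operators -/
def CW (X : Module.End k (adele k K)) (Xl : Place k K → Module.End k K) : Prop :=
  ∀ (a : adele k K) (P : Place k K),
    ((X a : adele k K) : Place k K → K) P = Xl P ((a : Place k K → K) P)

theorem CW.mul {X Y : Module.End k (adele k K)} {Xl Yl : Place k K → Module.End k K}
    (hX : CW X Xl) (hY : CW Y Yl) : CW (X * Y) (fun P => Xl P * Yl P) := by
  intro a P
  rw [Module.End.mul_apply, hX, hY]
  rfl

theorem CW.sub {X Y : Module.End k (adele k K)} {Xl Yl : Place k K → Module.End k K}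
    (hX : CW X Xl) (hY : CW Y Yl) : CW (X - Y) (fun P => Xl P - Yl P) := by
  intro a P
  rw [LinearMap.sub_apply, Submodule.coe_sub, Pi.sub_apply, hX, hY]
  rfl

theorem CW.one : CW (1 : Module.End k (adele k K)) (fun _ => 1) := fun _ _ => rfl

theorem CW.eq_sum {X : Module.End k (adele k K)} {Xl : Place k K → Module.End k K}
    (hX : CW X Xl) (S : Finset (Place k K)) (hS : ∀ P, P ∉ S → Xl P = 0) :
    X = ∑ P ∈ S, iota P ∘ₗ Xl P ∘ₗ ev P := by
  classical
  ext1 a
  apply Subtype.ext
  funext Q
  rw [hX, LinearMap.sum_apply, Submodule.coe_sum, Finset.sum_apply]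
  simp only [LinearMap.comp_apply, iota_apply, ev_apply]
  by_cases h : Q ∈ S
  · rw [Finset.sum_eq_single_of_mem Q h (fun P _ hP => by rw [if_neg (Ne.symm hP)]), if_pos rfl]
  · rw [Finset.sum_eq_zero (fun P hP => by rw [if_neg]; rintro rfl; exact h hP), hS Q h,
      LinearMap.zero_apply]

theorem CW.fr {X : Module.End k (adele k K)} {Xl : Place k K → Module.End k K}
    (hX : CW X Xl) (S : Finset (Place k K)) (hS : ∀ P, P ∉ S → Xl P = 0)
    (hF : ∀ P, FR (Xl P)) : FR X := by
  rw [hX.eq_sum S hS]
  exact FR.sum S _ fun P _ => ((hF P).comp_right _).comp_left _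

theorem CW.tr_eq {X : Module.End k (adele k K)} {Xl : Place k K → Module.End k K}
    (hX : CW X Xl) (S : Finset (Place k K)) (hS : ∀ P, P ∉ S → Xl P = 0)
    (hF : ∀ P, FR (Xl P)) : tr X = ∑ P ∈ S, tr (Xl P) := by
  rw [hX.eq_sum S hS, tr_sum S _ fun P _ => ((hF P).comp_right _).comp_left _]
  apply Finset.sum_congr rfl
  intro P _
  rw [tr_comm ((hF P).comp_right (ev P)) (iota P), LinearMap.comp_assoc, ev_comp_iota,
    LinearMap.comp_id]

theorem CW_M (hK : IsFunctionField k K) (x : K) : CW (M hK x) (fun _ => mulK x) :=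
  fun _ _ => rfl

theorem CW_pA (pl : Place k K → Module.End k K) (hm : ∀ (P : Place k K) (x : K), P.1 (pl P x) ≤ 1) :
    CW (pA pl hm) pl := fun _ _ => rfl

/-- the local operator vanishes where `z` is integral -/
theorem u_eq_zero_of_le {P : Place k K} {pl : Module.End k K} (hpl : pl * pl = pl)
    (hrl : LinearMap.range pl = OSub P.1 P.2.1) {z : K} (hz : P.1 z ≤ 1) :
    (1 - pl) * mulK z * pl = 0 := by
  have hm : ∀ x : K, P.1 (pl x) ≤ 1 := by
    intro x
    have : pl x ∈ OSub P.1 P.2.1 := by rw [← hrl]; exact LinearMap.mem_range_self _ x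
    exact this
  have plO : ∀ x : K, P.1 x ≤ 1 → pl x = x := by
    intro x hx
    have : x ∈ LinearMap.range pl := by rw [hrl]; exact hx
    obtain ⟨y, rfl⟩ := this
    exact LinearMap.congr_fun hpl y
  ext1 x
  simp only [Module.End.mul_apply, LinearMap.sub_apply, Module.End.one_apply,
    LinearMap.zero_apply, mulK_apply]
  rw [plO (z * pl x) (by rw [map_mul]; exact mul_le_one' hz (hm x)), sub_self]

/-- the local commutator vanishes where `u`, `v` are integral -/
theorem comm_eq_zero_of_le {P : Place k K} {pl : Module.End k K} (hpl : pl * pl = pl)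
    (hrl : LinearMap.range pl = OSub P.1 P.2.1) {u v : K} (hu : P.1 u ≤ 1) (hv : P.1 v ≤ 1) :
    TateRho.comm pl (mulK u) (mulK v) = 0 :=
  comm_eq_zero_of_stable hpl (mulK_comm u v) (u_eq_zero_of_le hpl hrl hu)
    (u_eq_zero_of_le hpl hrl hv)

/-- **Residue theorem, commutator-trace form.** -/
theorem sum_tr_eq_zero (hK : IsFunctionField k K) (pl : Place k K → Module.End k K)
    (hpl : ∀ P, pl P * pl P = pl P)
    (hrl : ∀ P, LinearMap.range (pl P) = OSub P.1 P.2.1)
    (u v : K) (S : Finset (Place k K)) (hS : ∀ P, P ∉ S → P.1 u ≤ 1 ∧ P.1 v ≤ 1)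
    (hFu : ∀ P, FR ((1 - pl P) * mulK u * pl P))
    (hFv : ∀ P, FR ((1 - pl P) * mulK v * pl P)) :
    ∑ P ∈ S, tr (TateRho.comm (pl P) (mulK u) (mulK v)) = 0 := by
  have hm : ∀ (P : Place k K) (x : K), P.1 (pl P x) ≤ 1 := by
    intro P x
    have : pl P x ∈ OSub P.1 P.2.1 := by rw [← hrl P]; exact LinearMap.mem_range_self _ x
    exact this
  have plO : ∀ (P : Place k K) (x : K), P.1 x ≤ 1 → pl P x = x := by
    intro P x hx
    have : x ∈ LinearMap.range (pl P) := by rw [hrl P]; exact hx
    obtain ⟨y, rfl⟩ := this
    exact LinearMap.congr_fun (hpl P) y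
  -- local vanishing outside S
  have hzero : ∀ (z : K) (P : Place k K), P.1 z ≤ 1 → (1 - pl P) * mulK z * pl P = 0 := by
    intro z P hz
    ext1 x
    simp only [Module.End.mul_apply, LinearMap.sub_apply, Module.End.one_apply,
      LinearMap.zero_apply, mulK_apply]
    rw [plO P (z * pl P x) (by rw [map_mul]; exact mul_le_one' hz (hm P x)), sub_self]
  have hcomm0 : ∀ P, P ∉ S → TateRho.comm (pl P) (mulK u) (mulK v) = 0 := by
    intro P hP
    exact comm_eq_zero_of_stable (hpl P) (mulK_comm u v) (hzero u P (hS P hP).1)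
      (hzero v P (hS P hP).2)
  have hcommF : ∀ P, FR (TateRho.comm (pl P) (mulK u) (mulK v)) :=
    fun P => fr_comm (hpl P) (mulK_comm u v) (hFu P) (hFv P)
  -- global objects
  have cwc : CW (TateRho.comm (pA pl hm) (M hK u) (M hK v))
      (fun P => TateRho.comm (pl P) (mulK u) (mulK v)) := by
    unfold TateRho.comm
    exact (((CW_pA pl hm).mul (CW_M hK u)).mul (CW_pA pl hm)).mul
        (((CW_pA pl hm).mul (CW_M hK v)).mul (CW_pA pl hm)) |>.sub
      ((((CW_pA pl hm).mul (CW_M hK v)).mul (CW_pA pl hm)).mul
        (((CW_pA pl hm).mul (CW_M hK u)).mul (CW_pA pl hm)))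
  have cwu : ∀ z : K, CW ((1 - pA pl hm) * M hK z * pA pl hm)
      (fun P => (1 - pl P) * mulK z * pl P) := fun z =>
    ((CW.one.sub (CW_pA pl hm)).mul (CW_M hK z)).mul (CW_pA pl hm)
  rw [← cwc.tr_eq S hcomm0 hcommF]
  -- apply the abstract theorem
  have hpA : pA pl hm * pA pl hm = pA pl hm := by
    ext1 a
    apply Subtype.ext
    funext P
    rw [Module.End.mul_apply, pA_apply, pA_apply]
    exact LinearMap.congr_fun (hpl P) _
  have hMM : M hK u * M hK v = M hK v * M hK u := by
    ext1 a
    apply Subtype.ext
    funext P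
    simp only [Module.End.mul_apply, M_apply]
    ring
  have hrA : LinearMap.range (pA pl hm) =
      Submodule.comap (adele k K).subtype (AD (0 : Divisor k K)) := by
    ext a
    constructor
    · rintro ⟨b, rfl⟩
      intro P
      simp only [Submodule.coe_subtype, pA_apply, Finsupp.coe_zero, Pi.zero_apply,
        WithZero.exp_zero]
      exact hm P _
    · intro ha
      refine ⟨a, ?_⟩
      apply Subtype.ext
      funext P
      rw [pA_apply]
      apply plO
      have := ha P
      simpa using this
  have hB : ∀ (z : K) (a : adele k K),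
      a ∈ Submodule.comap (adele k K).subtype (LinearMap.range (diag k K)) →
      M hK z a ∈ Submodule.comap (adele k K).subtype (LinearMap.range (diag k K)) := by
    rintro z a ⟨y, hy⟩
    refine ⟨z * y, ?_⟩
    funext P
    simp only [Submodule.coe_subtype] at hy ⊢
    rw [M_apply, ← hy]
    rfl
  haveI : FiniteDimensional k ↥(Submodule.comap (adele k K).subtype (AD (0 : Divisor k K)) ⊓
      Submodule.comap (adele k K).subtype (LinearMap.range (diag k K))) := by
    rw [← Submodule.comap_inf, FF.AD_inf_range_diag]
    haveI := FF.finiteDimensional_L hK (0 : Divisor k K)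
    have hle : (L (0 : Divisor k K)).map (diag k K) ≤ adele k K :=
      (LinearMap.map_le_range).trans (FF.range_diag_le_adele hK)
    exact Module.Finite.equiv (Submodule.comapSubtypeEquivOfLe hle).symm
  haveI : FiniteDimensional k (↥(adele k K) ⧸
      (Submodule.comap (adele k K).subtype (AD (0 : Divisor k K)) ⊔
        Submodule.comap (adele k K).subtype (LinearMap.range (diag k K)))) := by
    haveI := (FF.finrank_adele_quotient_ADK hK (0 : Divisor k K)).1
    have hle : ADK (0 : Divisor k K) ≤
        Submodule.comap (adele k K).subtype (AD (0 : Divisor k K)) ⊔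
        Submodule.comap (adele k K).subtype (LinearMap.range (diag k K)) := by
      intro a ha
      obtain ⟨b, hb, d, hd, hbd⟩ := Submodule.mem_sup.1 ha
      have hb' : b ∈ adele k K := FF.AD_le_adele _ hb
      have hd' : d ∈ adele k K := FF.range_diag_le_adele hK hd
      have : a = ⟨b, hb'⟩ + ⟨d, hd'⟩ := Subtype.ext hbd.symm
      rw [this]
      exact Submodule.add_mem_sup hb hd
    exact Module.Finite.of_surjective (Submodule.factor hle) (Submodule.factor_surjective hle)
  exact tr_comm_eq_zero_of_global _ _ hpA hrA hMM (fun a ha => hB u a ha) (fun a ha => hB v a ha)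
    ((cwu u).fr S (fun P hP => hzero u P (hS P hP).1) hFu)
    ((cwu v).fr S (fun P hP => hzero v P (hS P hP).2) hFv)

end Groth.Agent.Helper6.TateAdele
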