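import Groth.Agent.Helper6.TateSep
import Groth.Agent.Helper6.TateAdele
import Groth.Agent.S12579
import Groth.Agent.Helper5.FFRR

set_option autoImplicit false
set_option linter.style.haveILetI false

/-!
# The Weil differential attached to `u dv` through local residues, and its divisor
-/

namespace Groth.Agent.Helper6.TateW

open FunFld LocRes LaurentSeries HahnSeries
open Groth.Agent.Helper5 Groth.Agent.Helper6.TateLoc Groth.Agent.Helper6.TateExp
  Groth.Agent.Helper6.TateSep Groth.Agent.Helper6.TateAdele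

universe u v w

section single

variable {k : Type u} {K : Type v} [Field k] [Field K] [Algebra k K]
  {F : Type w} [Field F] [Algebra k F]

/-- `x ↦ locRes φ x v` as a linear map -/
noncomputable def resL (φ : K →ₐ[k] F⸨X⸩) (v : K) : K →ₗ[k] k :=
  (Algebra.trace k F) ∘ₗ (resOmega φ) ∘ₗ
    ((LinearMap.toSpanSingleton K (Ω[K⁄k]) (KaehlerDifferential.D k K v)).restrictScalars k)

theorem resL_apply (φ : K →ₐ[k] F⸨X⸩) (v x : K) : resL φ v x = locRes φ x v := by
  unfold resL locRes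
  simp only [LinearMap.comp_apply, LinearMap.restrictScalars_apply,
    LinearMap.toSpanSingleton_apply]
  rw [resOmega_smul_D]

theorem locRes_def (φ : K →ₐ[k] F⸨X⸩) (x v : K) :
    locRes φ x v = Algebra.trace k F ((φ x * LocRes.D F (φ v)).coeff (-1)) := rfl

theorem locRes_mul (φ : K →ₐ[k] F⸨X⸩) (y u v : K) :
    locRes φ (y * u) v = Algebra.trace k F ((φ y * (φ u * LocRes.D F (φ v))).coeff (-1)) := by
  rw [locRes_def, map_mul, mul_assoc]

theorem locRes_zero_left (φ : K →ₐ[k] F⸨X⸩) (v : K) : locRes φ 0 v = 0 := by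
  rw [← resL_apply, map_zero]

/-- vanishing of the residue when the differential is regular -/
theorem locRes_mul_eq_zero_of_val_le (φ : K →ₐ[k] F⸨X⸩) {y u v : K}
    (h : Valued.v (φ y) * Valued.v (φ u * LocRes.D F (φ v)) ≤ 1) : locRes φ (y * u) v = 0 := by
  rw [locRes_mul]
  have : IsPS (φ y * (φ u * LocRes.D F (φ v))) := by
    rw [isPS_iff_val, map_mul]
    exact h
  rw [this (-1) (by norm_num), map_zero]

theorem locRes_eq_zero_of_le (w : Valuation K (WithZero (Multiplicative ℤ)))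
    (φ : K →ₐ[k] F⸨X⸩) (hφ : IsExpansionAt w φ) {x v : K} (hx : w x ≤ 1) (hv : w v ≤ 1) :
    locRes φ x v = 0 := by
  rw [locRes_def]
  have h1 : IsPS (φ x) := (isPS_jmap_iff w φ hφ x).mpr hx
  have h2 : IsPS (LocRes.D F (φ v)) := isPS_D ((isPS_jmap_iff w φ hφ v).mpr hv)
  rw [isPS_mul h1 h2 (-1) (by norm_num), map_zero]

theorem vDiff_eq_exp (φ : K →ₐ[k] F⸨X⸩) (u v : K) (h : vDiff φ u v ≠ 0) :
    Valued.v (φ u * LocRes.D F (φ v)) = WithZero.exp (-(ordDiff φ u v)) := by
  unfold ordDiff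
  rw [neg_neg, WithZero.exp_log h]
  rfl

theorem vDiff_ne_zero (hK : IsFunctionField k K) (hg : IsGeometric k K)
    (w : Valuation K (WithZero (Multiplicative ℤ))) (φ : K →ₐ[k] F⸨X⸩)
    (hφ : IsExpansionAt w φ) {u v : K} (hu : u ≠ 0) (hv : KaehlerDifferential.D k K v ≠ 0) :
    vDiff φ u v ≠ 0 := by
  unfold vDiff
  rw [Valuation.ne_zero_iff]
  exact mul_ne_zero ((map_ne_zero φ).mpr hu) (D_exp_ne_zero hK hg w φ hφ hv)

omit [Algebra k F] in
theorem val_single_le (a : ℤ) (c : F) :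
    Valued.v (single a c : F⸨X⸩) ≤ WithZero.exp (-a) := by
  rw [LaurentSeries.valuation_le_iff_coeff_lt_eq_zero]
  intro n hn
  exact HahnSeries.coeff_single_of_ne (by omega)

/-- approximation to any order -/
theorem exists_approx_val (w : Valuation K (WithZero (Multiplicative ℤ)))
    (φ : K →ₐ[k] F⸨X⸩) (hφ : IsExpansionAt w φ) (h : F⸨X⸩) (N : ℤ) :
    ∃ y : K, Valued.v (h - φ y) ≤ WithZero.exp (-N) := by
  obtain ⟨t, ht⟩ := hφ.2.2
  have hT : Valued.v (φ t) = WithZero.exp (-1 : ℤ) := by rw [hφ.1, ht]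
  have hT0 : φ t ≠ 0 := by
    intro h0
    rw [h0, map_zero] at hT
    exact WithZero.exp_ne_zero hT.symm
  obtain ⟨y₁, hy₁⟩ := exists_approx w φ hφ ((φ t) ^ (-N) * h)
  refine ⟨t ^ N * y₁, ?_⟩
  have e : h - φ (t ^ N * y₁) = (φ t) ^ N * ((φ t) ^ (-N) * h - φ y₁) := by
    rw [map_mul, map_zpow₀, mul_sub, ← mul_assoc, ← zpow_add₀ hT0, add_neg_cancel, zpow_zero,
      one_mul]
  rw [e, map_mul, map_zpow₀, hT]
  have h1 : Valued.v ((φ t) ^ (-N) * h - φ y₁) ≤ 1 := (isPS_iff_val _).mp hy₁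
  calc WithZero.exp (-1 : ℤ) ^ N * Valued.v ((φ t) ^ (-N) * h - φ y₁)
      ≤ WithZero.exp (-1 : ℤ) ^ N * 1 := mul_le_mul' le_rfl h1
    _ = WithZero.exp (-N) := by
        rw [mul_one, ← WithZero.exp_zsmul]
        simp

/-- existence of a nonzero residue one order below the order of the differential -/
theorem exists_locRes_ne_zero [FiniteDimensional k F] (hK : IsFunctionField k K)
    (hg : IsGeometric k K) (w : Valuation K (WithZero (Multiplicative ℤ)))
    (φ : K →ₐ[k] F⸨X⸩) (hφ : IsExpansionAt w φ) {u v : K} (hu : u ≠ 0)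
    (hv : KaehlerDifferential.D k K v ≠ 0) :
    ∃ y : K, w y ≤ WithZero.exp (ordDiff φ u v + 1) ∧ locRes φ (y * u) v ≠ 0 := by
  have hne := vDiff_ne_zero hK hg w φ hφ hu hv
  have hvg := vDiff_eq_exp φ u v hne
  obtain ⟨g, hgdef⟩ : ∃ g, g = φ u * LocRes.D F (φ v) := ⟨_, rfl⟩
  obtain ⟨n, hndef⟩ : ∃ n, n = ordDiff φ u v := ⟨_, rfl⟩
  rw [← hgdef, ← hndef] at hvg
  rw [← hndef]
  have hgn : g.coeff n ≠ 0 := by
    intro h0
    have : Valued.v g ≤ WithZero.exp (-(n + 1)) := by
      rw [LaurentSeries.valuation_le_iff_coeff_lt_eq_zero]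
      intro m hm
      by_cases hmn : m = n
      · rw [hmn, h0]
      · exact (LaurentSeries.valuation_le_iff_coeff_lt_eq_zero F (D := n)).mp hvg.le m (by omega)
    rw [hvg, WithZero.exp_le_exp] at this
    omega
  obtain ⟨b, hb⟩ := exists_trace_ne_zero hK hg w φ hφ
  obtain ⟨y, hy⟩ := exists_approx_val w φ hφ (single (-n - 1) (b / g.coeff n)) (-n)
  rw [neg_neg] at hy
  refine ⟨y, ?_, ?_⟩
  · rw [← hφ.1]
    have e : φ y = single (-n - 1) (b / g.coeff n) - (single (-n - 1) (b / g.coeff n) - φ y) := by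
      abel
    rw [e]
    apply Valuation.map_sub_le
    · refine (val_single_le _ _).trans_eq ?_
      congr 1
      ring
    · exact hy.trans (WithZero.exp_le_exp.mpr (by omega))
  · rw [locRes_mul, ← hgdef]
    have e : φ y * g = single (-n - 1) (b / g.coeff n) * g -
        (single (-n - 1) (b / g.coeff n) - φ y) * g := by ring
    have h2 : IsPS ((single (-n - 1) (b / g.coeff n) - φ y) * g) := by
      rw [isPS_iff_val, map_mul, hvg]
      calc Valued.v (single (-n - 1) (b / g.coeff n) - φ y) * WithZero.exp (-n)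
          ≤ WithZero.exp n * WithZero.exp (-n) := mul_le_mul' hy le_rfl
        _ = 1 := by rw [← WithZero.exp_add]; simp
    rw [e, HahnSeries.coeff_sub, h2 (-1) (by norm_num), sub_zero, HahnSeries.coeff_single_mul]
    have : (-1 : ℤ) - (-n - 1) = n := by ring
    rw [this, div_mul_cancel₀ _ hgn]
    exact hb

end single

section global

variable {k : Type u} {K : Type v} [Field k] [Field K] [Algebra k K]
  {F : Place k K → Type w} [∀ P, Field (F P)] [∀ P, Algebra k (F P)]

theorem finite_support_locRes (hK : IsFunctionField k K)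
    (φ : ∀ P, K →ₐ[k] LaurentSeries (F P)) (hφ : ∀ P : Place k K, IsExpansionAt P.1 (φ P))
    (u v : K) (a : adele k K) :
    (Function.support fun P => locRes (φ P) ((a : Place k K → K) P * u) v).Finite := by
  have h1 := (FF.mem_adele_iff _).mp (FF.smul_mem_adele hK u a a.2)
  have h2 := (FF.mem_adele_iff _).mp (FF.range_diag_le_adele hK ⟨v, rfl⟩)
  apply (h1.union h2).subset
  intro P hP
  by_contra hcon
  rw [Set.mem_union, not_or] at hcon
  apply hP
  have hx : P.1 ((a : Place k K → K) P * u) ≤ 1 := by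
    have := not_not.mp hcon.1
    rwa [Pi.smul_apply, smul_eq_mul, mul_comm] at this
  have hv' : P.1 v ≤ 1 := not_not.mp hcon.2
  exact locRes_eq_zero_of_le P.1 (φ P) (hφ P) hx hv'

/-- the residue form `a ↦ ∑ res_P (a_P u dv)` -/
noncomputable def omega (hK : IsFunctionField k K)
    (φ : ∀ P, K →ₐ[k] LaurentSeries (F P)) (hφ : ∀ P : Place k K, IsExpansionAt P.1 (φ P))
    (u v : K) : Module.Dual k (adele k K) where
  toFun a := ∑ᶠ P, locRes (φ P) ((a : Place k K → K) P * u) v
  map_add' a b := by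
    rw [← finsum_add_distrib (finite_support_locRes hK φ hφ u v a)
      (finite_support_locRes hK φ hφ u v b)]
    congr 1
    funext P
    rw [← resL_apply, ← resL_apply, ← resL_apply, ← map_add]
    congr 1
    simp [add_mul]
  map_smul' c a := by
    rw [RingHom.id_apply, smul_finsum' c (finite_support_locRes hK φ hφ u v a)]
    congr 1
    funext P
    rw [← resL_apply, ← resL_apply, ← map_smul]
    congr 1
    simp [smul_mul_assoc]

theorem omega_apply (hK : IsFunctionField k K)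
    (φ : ∀ P, K →ₐ[k] LaurentSeries (F P)) (hφ : ∀ P : Place k K, IsExpansionAt P.1 (φ P))
    (u v : K) (a : adele k K) :
    omega hK φ hφ u v a = ∑ᶠ P, locRes (φ P) ((a : Place k K → K) P * u) v := rfl

theorem omega_iota (hK : IsFunctionField k K)
    (φ : ∀ P, K →ₐ[k] LaurentSeries (F P)) (hφ : ∀ P : Place k K, IsExpansionAt P.1 (φ P))
    (u v : K) (P : Place k K) (y : K) :
    omega hK φ hφ u v (iota P y) = locRes (φ P) (y * u) v := by
  rw [omega_apply, finsum_eq_single _ P]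
  · rw [iota_apply, if_pos rfl]
  · intro Q hQ
    rw [iota_apply, if_neg hQ, zero_mul, locRes_zero_left]

variable [∀ P, FiniteDimensional k (F P)]

theorem omega_diag (hK : IsFunctionField k K)
    (φ : ∀ P, K →ₐ[k] LaurentSeries (F P)) (hφ : ∀ P : Place k K, IsExpansionAt P.1 (φ P))
    (u v : K) (a : adele k K) (x : K) (ha : (a : Place k K → K) = diag k K x) :
    omega hK φ hφ u v a = 0 := by
  rw [omega_apply]
  simp only [ha, FF.diag_apply]
  exact (Groth.Agent.S12579.result k K hK F φ hφ (x * u) v).2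

/-- membership of the residue form in `WD E`: sufficient condition -/
theorem omega_mem_WD (hK : IsFunctionField k K) (hg : IsGeometric k K)
    (φ : ∀ P, K →ₐ[k] LaurentSeries (F P)) (hφ : ∀ P : Place k K, IsExpansionAt P.1 (φ P))
    {u v : K} (hu : u ≠ 0) (hv : KaehlerDifferential.D k K v ≠ 0) (E : Divisor k K)
    (hE : ∀ P, E P ≤ ordDiff (φ P) u v) : omega hK φ hφ u v ∈ WD E := by
  rw [FF.mem_WD_iff]
  intro a ha
  obtain ⟨b, hb, d, ⟨x, rfl⟩, hbd⟩ := Submodule.mem_sup.1 ha
  have hb' : b ∈ adele k K := FF.AD_le_adele _ hb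
  have hd' : diag k K x ∈ adele k K := FF.range_diag_le_adele hK ⟨x, rfl⟩
  have e : a = (⟨b, hb'⟩ : adele k K) + ⟨diag k K x, hd'⟩ := Subtype.ext hbd.symm
  rw [e, map_add, omega_diag hK φ hφ u v ⟨diag k K x, hd'⟩ x rfl, add_zero, omega_apply]
  apply finsum_eq_zero_of_forall_eq_zero
  intro P
  apply locRes_mul_eq_zero_of_val_le
  rw [vDiff_eq_exp (φ P) u v (vDiff_ne_zero hK hg P.1 (φ P) (hφ P) hu hv), (hφ P).1]
  calc P.1 (b P) * WithZero.exp (-(ordDiff (φ P) u v))
      ≤ WithZero.exp (E P) * WithZero.exp (-(ordDiff (φ P) u v)) := mul_le_mul' (hb P) le_rfl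
    _ ≤ 1 := by
        rw [← WithZero.exp_add, ← WithZero.exp_zero, WithZero.exp_le_exp]
        have := hE P
        omega

/-- membership of the residue form in `WD E`: necessary condition -/
theorem le_ordDiff_of_omega_mem_WD (hK : IsFunctionField k K) (hg : IsGeometric k K)
    (φ : ∀ P, K →ₐ[k] LaurentSeries (F P)) (hφ : ∀ P : Place k K, IsExpansionAt P.1 (φ P))
    {u v : K} (hu : u ≠ 0) (hv : KaehlerDifferential.D k K v ≠ 0) (E : Divisor k K)
    (hE : omega hK φ hφ u v ∈ WD E) (P : Place k K) : E P ≤ ordDiff (φ P) u v := by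
  by_contra hlt
  rw [not_le] at hlt
  obtain ⟨y, hy, hres⟩ := exists_locRes_ne_zero hK hg P.1 (φ P) (hφ P) hu hv
  apply hres
  rw [← omega_iota hK φ hφ u v P y]
  rw [FF.mem_WD_iff] at hE
  apply hE
  apply Submodule.mem_sup_left
  intro Q
  rw [iota_apply]
  split_ifs with h
  · subst h
    exact hy.trans (WithZero.exp_le_exp.mpr (by omega))
  · rw [map_zero]
    exact zero_le

theorem omega_ne_zero (hK : IsFunctionField k K) (hg : IsGeometric k K)
    (φ : ∀ P, K →ₐ[k] LaurentSeries (F P)) (hφ : ∀ P : Place k K, IsExpansionAt P.1 (φ P))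
    {u v : K} (hu : u ≠ 0) (hv : KaehlerDifferential.D k K v ≠ 0) :
    omega hK φ hφ u v ≠ 0 := by
  obtain ⟨P⟩ := FF.nonempty_place hK
  obtain ⟨y, -, hres⟩ := exists_locRes_ne_zero hK hg P.1 (φ P) (hφ P) hu hv
  intro h0
  apply hres
  rw [← omega_iota hK φ hφ u v P y, h0, LinearMap.zero_apply]

theorem ordDiff_nonneg_of_le (hK : IsFunctionField k K) (hg : IsGeometric k K)
    (φ : ∀ P, K →ₐ[k] LaurentSeries (F P)) (hφ : ∀ P : Place k K, IsExpansionAt P.1 (φ P))
    {u v : K} (hu : u ≠ 0) (hv : KaehlerDifferential.D k K v ≠ 0) (P : Place k K)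
    (h1 : P.1 u ≤ 1) (h2 : P.1 v ≤ 1) : 0 ≤ ordDiff (φ P) u v := by
  have h := vDiff_eq_exp (φ P) u v (vDiff_ne_zero hK hg P.1 (φ P) (hφ P) hu hv)
  have h3 : IsPS (φ P u * LocRes.D (F P) (φ P v)) :=
    isPS_mul ((isPS_jmap_iff P.1 (φ P) (hφ P) u).mpr h1)
      (isPS_D ((isPS_jmap_iff P.1 (φ P) (hφ P) v).mpr h2))
  rw [isPS_iff_val, h, ← WithZero.exp_zero, WithZero.exp_le_exp] at h3
  omega

theorem isWeil_omega (hK : IsFunctionField k K) (hg : IsGeometric k K)
    (φ : ∀ P, K →ₐ[k] LaurentSeries (F P)) (hφ : ∀ P : Place k K, IsExpansionAt P.1 (φ P))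
    {u v : K} (hu : u ≠ 0) (hv : KaehlerDifferential.D k K v ≠ 0) :
    IsWeil (omega hK φ hφ u v) := by
  classical
  have h1 := (FF.mem_adele_iff _).mp (FF.range_diag_le_adele hK ⟨u, rfl⟩)
  have h2 := (FF.mem_adele_iff _).mp (FF.range_diag_le_adele hK ⟨v, rfl⟩)
  obtain ⟨S, hS⟩ : ∃ S : Finset (Place k K), S = (h1.union h2).toFinset := ⟨_, rfl⟩
  refine ⟨Finsupp.onFinset S (fun P => if P ∈ S then ordDiff (φ P) u v else 0)
    (fun P hP => by by_contra h; exact hP (if_neg h)), ?_⟩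
  apply omega_mem_WD hK hg φ hφ hu hv
  intro P
  rw [Finsupp.onFinset_apply]
  split_ifs with h
  · exact le_rfl
  · rw [hS, Set.Finite.mem_toFinset, Set.mem_union, not_or] at h
    exact ordDiff_nonneg_of_le hK hg φ hφ hu hv P (not_not.mp h.1) (not_not.mp h.2)

/-- the divisor of the residue form is the divisor of the differential -/
theorem divisor_omega (hK : IsFunctionField k K) (hg : IsGeometric k K)
    (φ : ∀ P, K →ₐ[k] LaurentSeries (F P)) (hφ : ∀ P : Place k K, IsExpansionAt P.1 (φ P))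
    {u v : K} (hu : u ≠ 0) (hv : KaehlerDifferential.D k K v ≠ 0) :
    ∃ W : Divisor k K, IsDivOf (omega hK φ hφ u v) W ∧ ∀ P, W P = ordDiff (φ P) u v := by
  classical
  obtain ⟨W, hW⟩ := FF.exists_isDivOf hK _ (isWeil_omega hK hg φ hφ hu hv)
    (omega_ne_zero hK hg φ hφ hu hv)
  refine ⟨W, hW, fun P => ?_⟩
  have hle : ∀ Q, W Q ≤ ordDiff (φ Q) u v :=
    le_ordDiff_of_omega_mem_WD hK hg φ hφ hu hv W ((hW W).mpr le_rfl)
  apply le_antisymm (hle P)
  have hmem : omega hK φ hφ u v ∈ WD (W + Finsupp.single P (ordDiff (φ P) u v - W P)) := by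
    apply omega_mem_WD hK hg φ hφ hu hv
    intro Q
    rw [Finsupp.add_apply, Finsupp.single_apply]
    split_ifs with h
    · subst h; omega
    · rw [add_zero]; exact hle Q
  have := (hW _).mp hmem P
  rw [Finsupp.add_apply, Finsupp.single_apply, if_pos rfl] at this
  omega

end global

end Groth.Agent.Helper6.TateW
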