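import Groth.Agent.Helper5.FFDeg
import Groth.Agent.Helper5.FFRR
import Groth.Agent.Helper5.FFEmb2
import Groth.Agent.Helper5.FFGaps

set_option autoImplicit false
set_option linter.style.haveILetI false

/-!
# Uniqueness of a rational subfield of index two in genus at least two
-/

namespace Groth.Agent.Helper6.HyperUniq

open FunFld Polynomial
open Groth.Agent.Helper5
open scoped IntermediateField

variable {k K : Type*} [Field k] [Field K] [Algebra k K]

theorem transcendental_of_finrank_pos (hK : IsFunctionField k K) {x : K}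
    (h : 0 < Module.finrank k⟮x⟯ K) : Transcendental k x := by
  intro halg
  haveI : Module.Finite k⟮x⟯ K := Module.finite_of_finrank_pos h
  haveI : Algebra.IsAlgebraic k k⟮x⟯ :=
    IntermediateField.isAlgebraic_adjoin_simple halg.isIntegral
  haveI : Algebra.IsAlgebraic k⟮x⟯ K := Algebra.IsAlgebraic.of_finite _ _
  have : Algebra.IsAlgebraic k K := Algebra.IsAlgebraic.trans k k⟮x⟯ K
  obtain ⟨x₀, hx₀, -⟩ := hK.1
  exact hx₀ (Algebra.IsAlgebraic.isAlgebraic x₀)

theorem mem_L_poles (hK : IsFunctionField k K) {x : K} (hx0 : x ≠ 0) :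
    x ∈ L ((-(FunFld.div k x)) ⊔ 0) := by
  rw [FF.mem_L_iff_ord _ hx0]
  intro P
  rw [Finsupp.sup_apply, Finsupp.neg_apply, FF.div_apply hK, Finsupp.zero_apply]
  have := le_sup_left (a := -(P.ord x)) (b := (0 : ℤ))
  linarith

theorem pow_mem_L_nsmul {A : Divisor k K} {x : K} (hx : x ∈ L A) (i : ℕ) :
    x ^ i ∈ L (i • A) := by
  induction i with
  | zero =>
    rw [pow_zero, zero_smul]
    intro P
    simp
  | succ i ih =>
    rw [pow_succ, succ_nsmul]
    exact FF.mul_mem_L_add ih hx

theorem nsmul_le_nsmul_of_nonneg {A : Divisor k K} (hA : 0 ≤ A) {i m : ℕ} (h : i ≤ m) :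
    i • A ≤ m • A := by
  intro P
  rw [Finsupp.smul_apply, Finsupp.smul_apply, nsmul_eq_mul, nsmul_eq_mul]
  have h1 : (0 : ℤ) ≤ A P := hA P
  have h2 : (i : ℤ) ≤ m := by exact_mod_cast h
  exact mul_le_mul_of_nonneg_right h2 h1

theorem aeval_mem_L (hK : IsFunctionField k K) {x : K} (hx0 : x ≠ 0) (m : ℕ) (p : k[X])
    (hp : p ∈ degreeLT k (m + 1)) :
    aeval x p ∈ L (m • ((-(FunFld.div k x)) ⊔ 0)) := by
  have hA0 : (0 : Divisor k K) ≤ (-(FunFld.div k x)) ⊔ 0 := le_sup_right
  have hnat : p.natDegree < m + 1 := by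
    by_cases hp0 : p = 0
    · rw [hp0]; simp
    · rw [Polynomial.natDegree_lt_iff_degree_lt hp0]
      exact Polynomial.mem_degreeLT.mp hp
  rw [Polynomial.aeval_eq_sum_range' hnat]
  apply Submodule.sum_mem
  intro i hi
  apply Submodule.smul_mem
  have hi' : i ≤ m := by have := Finset.mem_range.mp hi; omega
  exact FF.L_mono (nsmul_le_nsmul_of_nonneg hA0 hi') (pow_mem_L_nsmul (mem_L_poles hK hx0) i)

theorem adjoin_eq_of_finrank_two (hK : IsFunctionField k K) (hg : 2 ≤ genus k K) (x x' : K)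
    (hx : Module.finrank k⟮x⟯ K = 2) (hx' : Module.finrank k⟮x'⟯ K = 2) : k⟮x⟯ = k⟮x'⟯ := by
  by_contra hne
  have htr := transcendental_of_finrank_pos hK (by omega : 0 < Module.finrank k⟮x⟯ K)
  have htr' := transcendental_of_finrank_pos hK (by omega : 0 < Module.finrank k⟮x'⟯ K)
  haveI := FF.finiteDimensional_adjoin hK htr
  haveI := FF.finiteDimensional_adjoin hK htr'
  have hx0 : x ≠ 0 := by rintro rfl; exact htr isAlgebraic_zero
  have hx'0 : x' ≠ 0 := by rintro rfl; exact htr' isAlgebraic_zero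
  have hx'mem : x' ∉ k⟮x⟯ := by
    intro hmem
    apply hne
    have hle : k⟮x'⟯ ≤ k⟮x⟯ := IntermediateField.adjoin_simple_le_iff.mpr hmem
    exact (IntermediateField.eq_of_le_of_finrank_eq' hle (by rw [hx, hx'])).symm
  obtain ⟨A, hA⟩ : ∃ A : Divisor k K, A = (-(FunFld.div k x)) ⊔ 0 := ⟨_, rfl⟩
  obtain ⟨B, hB⟩ : ∃ B : Divisor k K, B = (-(FunFld.div k x')) ⊔ 0 := ⟨_, rfl⟩
  have hA0 : (0 : Divisor k K) ≤ A := by rw [hA]; exact le_sup_right
  have hB0 : (0 : Divisor k K) ≤ B := by rw [hB]; exact le_sup_right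
  have hdegA : A.deg = 2 := by rw [hA, FF.deg_poles_eq hK htr, hx]; rfl
  have hdegB : B.deg = 2 := by rw [hB, FF.deg_poles_eq hK htr', hx']; rfl
  obtain ⟨m, hm⟩ : ∃ m : ℕ, m = genus k K := ⟨_, rfl⟩
  obtain ⟨D, hD⟩ : ∃ D : Divisor k K, D = m • A + B := ⟨_, rfl⟩
  have hdegD : D.deg = 2 * m + 2 := by
    rw [hD, FF.deg_add, FF.deg_nsmul, hdegA, hdegB]; ring
  have hell := FF.ell_eq_of_deg_ge hK D (by rw [hdegD, ← hm]; omega)
  haveI : FiniteDimensional k (L D) := FF.finiteDimensional_L hK D
  -- the linear map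
  let V := degreeLT k (m + 1)
  let f1 : V →ₗ[k] K := (aeval (R := k) x).toLinearMap.comp V.subtype
  let T : (V × V) →ₗ[k] K := f1.coprod ((LinearMap.mulRight k x').comp f1)
  have hT : ∀ pq : V × V, T pq = aeval x pq.1.1 + aeval x pq.2.1 * x' := fun pq => rfl
  have hmem : ∀ pq : V × V, T pq ∈ L D := by
    intro pq
    rw [hT, hD]
    apply Submodule.add_mem
    · have h1 := aeval_mem_L hK hx0 m pq.1.1 pq.1.2
      rw [← hA] at h1
      refine FF.L_mono ?_ h1
      intro P
      rw [Finsupp.add_apply]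
      have := hB0 P
      simp only [Finsupp.zero_apply] at this
      linarith
    · have h1 := aeval_mem_L hK hx0 m pq.2.1 pq.2.2
      rw [← hA] at h1
      have h2 := mem_L_poles hK hx'0
      rw [← hB] at h2
      exact FF.mul_mem_L_add h1 h2
  have hinj : Function.Injective (T.codRestrict (L D) hmem) := by
    rw [injective_iff_map_eq_zero]
    intro pq h0
    have h1 : T pq = 0 := by
      have := congrArg Subtype.val h0
      simpa using this
    rw [hT] at h1
    have hainj : Function.Injective (aeval (R := k) x) := transcendental_iff_injective.mp htr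
    have hq : pq.2.1 = 0 := by
      by_contra hq0
      have hv : aeval x pq.2.1 ≠ 0 := fun h => hq0 (hainj (by rw [h, map_zero]))
      apply hx'mem
      have h2 : x' = -(aeval x pq.1.1) / aeval x pq.2.1 := by
        field_simp
        linear_combination h1
      rw [h2]
      have hmem1 : ∀ p : k[X], aeval x p ∈ k⟮x⟯ := fun p =>
        IntermediateField.algebra_adjoin_le_adjoin k _ (Polynomial.aeval_mem_adjoin_singleton k x)
      exact div_mem (neg_mem (hmem1 _)) (hmem1 _)
    have hp : pq.1.1 = 0 := by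
      rw [hq, map_zero, zero_mul, add_zero] at h1
      exact hainj (by rw [h1, map_zero])
    apply Prod.ext
    · exact Subtype.ext hp
    · exact Subtype.ext hq
  have hfr := LinearMap.finrank_le_finrank_of_injective hinj
  have hV : Module.finrank k V = m + 1 := by
    rw [LinearEquiv.finrank_eq (Polynomial.degreeLTEquiv k (m + 1)), Module.finrank_fin_fun]
  rw [Module.finrank_prod, hV] at hfr
  have hell' : (Module.finrank k (L D) : ℤ) = D.deg + 1 - genus k K := hell
  rw [hdegD, ← hm] at hell'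
  have : ((m + 1 + (m + 1) : ℕ) : ℤ) ≤ (Module.finrank k (L D) : ℤ) := by exact_mod_cast hfr
  push_cast at this
  have hm2 : (2 : ℤ) ≤ m := by rw [hm]; exact_mod_cast hg
  omega

end Groth.Agent.Helper6.HyperUniq
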