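import Mathlib
import Groth.Agent.Helper5.FGUnram4
import Groth.Agent.Helper5.FFSep2
import Groth.Agent.Helper5.FFWeier
import Groth.Agent.Helper5.FFWeil
import Groth.Agent.Helper5.FFGeom3
import Groth.Agent.Helper5.FFWeak
import Groth.Agent.Helper6.FFZeta4
import Groth.Agent.Helper6.FFZeta1

set_option autoImplicit false
set_option linter.style.haveILetI false
set_option linter.unusedSectionVars false

namespace Groth.Agent.Helper6.SepPlaces

open FunFld Polynomial
open scoped IntermediateField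
open Groth.Agent.Helper5

universe u v

section ov

variable {k : Type*} {K K' : Type*} [Field k] [Field K] [Field K'] [Algebra k K] [Algebra K K']
  [Algebra k K'] [IsScalarTower k K K']

theorem le_one_of_over {Q : Place k K'} {P : Place k K} {e : ℕ} (he : IsOverWith Q P e) (c : K) :
    Q.1 (algebraMap K K' c) ≤ 1 ↔ P.1 c ≤ 1 := by
  have he0 := FG.isOverWith_pos he
  rw [he c]
  constructor
  · intro h
    by_contra hlt
    rw [not_le] at hlt
    exact absurd h (not_le.mpr (one_lt_pow₀ hlt he0))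
  · intro h
    exact pow_le_one₀ zero_le h

theorem lt_one_of_over {Q : Place k K'} {P : Place k K} {e : ℕ} (he : IsOverWith Q P e) (c : K) :
    Q.1 (algebraMap K K' c) < 1 ↔ P.1 c < 1 := by
  have he0 := FG.isOverWith_pos he
  rw [he c]
  constructor
  · intro h
    by_contra hge
    rw [not_lt] at hge
    exact absurd h (not_lt.mpr (one_le_pow₀ hge))
  · intro h
    exact pow_lt_one₀ zero_le h he0

end ov

variable {k : Type u} {K : Type v} [Field k] [Field K] [Algebra k K]

theorem adjoin_gen_sub_eq_top (x : K) (a₀ : k) :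
    k⟮(IntermediateField.AdjoinSimple.gen k x - algebraMap k k⟮x⟯ a₀)⟯ =
      (⊤ : IntermediateField k k⟮x⟯) := by
  apply IntermediateField.map_injective (k⟮x⟯).val
  show IntermediateField.lift _ = IntermediateField.lift _
  rw [IntermediateField.lift_adjoin_simple, IntermediateField.lift_top]
  have hz : ((IntermediateField.AdjoinSimple.gen k x - algebraMap k k⟮x⟯ a₀ : k⟮x⟯) : K) =
      x - algebraMap k K a₀ := rfl
  rw [hz]
  apply le_antisymm
  · rw [IntermediateField.adjoin_simple_le_iff]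
    exact sub_mem (IntermediateField.mem_adjoin_simple_self k x)
      (IntermediateField.algebraMap_mem _ a₀)
  · rw [IntermediateField.adjoin_simple_le_iff]
    have h := add_mem (IntermediateField.mem_adjoin_simple_self k (x - algebraMap k K a₀))
      (IntermediateField.algebraMap_mem k⟮x - algebraMap k K a₀⟯ a₀)
    rwa [sub_add_cancel] at h

theorem deg_eq_one_of_rational {x : K} (hK₀ : IsFunctionField k k⟮x⟯) (hx : Transcendental k x)
    (p : Place k k⟮x⟯) (a₀ : k)
    (hp : p.1 (IntermediateField.AdjoinSimple.gen k x - algebraMap k k⟮x⟯ a₀) < 1) :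
    p.deg = 1 := by
  have hz0 : IntermediateField.AdjoinSimple.gen k x - algebraMap k k⟮x⟯ a₀ ≠ 0 := by
    intro h0
    apply hx
    have h1 : x - algebraMap k K a₀ = 0 := congrArg (fun z : k⟮x⟯ => (z : K)) h0
    rw [sub_eq_zero] at h1
    rw [h1]
    exact isAlgebraic_algebraMap a₀
  have h1 := FF.deg_le_finrank hK₀ p hz0 hp
  rw [adjoin_gen_sub_eq_top, IntermediateField.finrank_top] at h1
  have h2 := FF.deg_pos_place hK₀ p
  omega

theorem val_aeval_of_one_lt (P : Place k K) {x : K} (hx : 1 < P.1 x) (p : k[X]) (hp : p ≠ 0) :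
    P.1 (aeval x p) = P.1 x ^ p.natDegree := by
  rw [Polynomial.aeval_eq_sum_range, Finset.sum_range_succ]
  have hx0 : P.1 x ≠ 0 := fun h => by rw [h] at hx; exact absurd hx (not_lt.mpr zero_le_one)
  have htop : P.1 (p.coeff p.natDegree • x ^ p.natDegree) = P.1 x ^ p.natDegree := by
    rw [Algebra.smul_def, map_mul, map_pow, FF.val_algebraMap P, one_mul]
    exact Polynomial.leadingCoeff_ne_zero.mpr hp
  have hlow : P.1 (∑ i ∈ Finset.range p.natDegree, p.coeff i • x ^ i) < P.1 x ^ p.natDegree := by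
    apply Valuation.map_sum_lt _ (pow_ne_zero _ hx0)
    intro i hi
    rw [Finset.mem_range] at hi
    rw [Algebra.smul_def, map_mul, map_pow]
    calc P.1 (algebraMap k K (p.coeff i)) * P.1 x ^ i ≤ 1 * P.1 x ^ i :=
          mul_le_mul' (FF.val_algebraMap_le P _) le_rfl
      _ = P.1 x ^ i := one_mul _
      _ < P.1 x ^ p.natDegree := pow_lt_pow_right₀ hx hi
  rw [add_comm, Valuation.map_add_eq_of_lt_left _ (by rw [htop]; exact hlow), htop]

theorem val_le_one_of_aeval_lt (P : Place k K) {x : K} (p : k[X]) (hp : p ≠ 0)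
    (h : P.1 (aeval x p) < 1) : P.1 x ≤ 1 := by
  by_contra hx
  rw [not_le] at hx
  rw [val_aeval_of_one_lt P hx p hp] at h
  exact absurd h (not_lt.mpr (one_le_pow₀ hx.le))

theorem false_of_coprime (P : Place k K) {x : K} (p q : k[X]) (hp : p ≠ 0) (hpq : IsCoprime p q)
    (h1 : P.1 (aeval x p) < 1) (h2 : P.1 (aeval x q) < 1) : False := by
  have hx := val_le_one_of_aeval_lt P p hp h1
  obtain ⟨a, b, hab⟩ := hpq
  have h3 := congrArg (aeval x) hab
  rw [map_add, map_mul, map_mul, map_one] at h3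
  have h4 : P.1 (aeval x a * aeval x p + aeval x b * aeval x q) < 1 := by
    apply lt_of_le_of_lt (P.1.map_add _ _)
    apply max_lt
    · rw [map_mul]
      calc P.1 (aeval x a) * P.1 (aeval x p) ≤ 1 * P.1 (aeval x p) :=
            mul_le_mul' (FF.val_aeval_le P hx a) le_rfl
        _ = _ := one_mul _
        _ < 1 := h1
    · rw [map_mul]
      calc P.1 (aeval x b) * P.1 (aeval x q) ≤ 1 * P.1 (aeval x q) :=
            mul_le_mul' (FF.val_aeval_le P hx b) le_rfl
        _ = _ := one_mul _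
        _ < 1 := h2
  rw [h3, map_one] at h4
  exact lt_irrefl _ h4

theorem isSeparable_residueField_of_good (hK : IsFunctionField k K) {x : K}
    (hx : Transcendental k x) [FiniteDimensional k⟮x⟯ K] [Algebra.IsSeparable k⟮x⟯ K]
    (B : PowerBasis k⟮x⟯ K) (a b : k⟮x⟯[X])
    (hab : a * minpoly k⟮x⟯ B.gen + b * derivative (minpoly k⟮x⟯ B.gen) = 1)
    (P : Place k K) (a₀ : k) (hP : P.1 (x - algebraMap k K a₀) < 1)
    (hgood : ∀ c : k⟮x⟯, c ≠ 0 → (c ∈ (minpoly k⟮x⟯ B.gen).coeffs ∨ c ∈ a.coeffs ∨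
      c ∈ b.coeffs ∨ c = Algebra.discr k⟮x⟯ B.basis) → P.1 (c : K) = 1) :
    Algebra.IsSeparable k (IsLocalRing.ResidueField P.O) := by
  classical
  have hK₀ : IsFunctionField k k⟮x⟯ := FF.isFunctionField_intermediateField hK k⟮x⟯
    ⟨x, IntermediateField.mem_adjoin_simple_self k x, hx⟩
  obtain ⟨p, e, he⟩ := FG.exists_isOverWith hK₀.1 P
  have hle : ∀ c : k⟮x⟯, P.1 (c : K) ≤ 1 ↔ p.1 c ≤ 1 := fun c => le_one_of_over he c
  have hlt : ∀ c : k⟮x⟯, P.1 (c : K) < 1 ↔ p.1 c < 1 := fun c => lt_one_of_over he c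
  have heq : ∀ c : k⟮x⟯, P.1 (c : K) = 1 → p.1 c = 1 := fun c hc =>
    le_antisymm ((hle c).mp hc.le) (not_lt.mp fun h => (ne_of_lt ((hlt c).mpr h)) hc)
  obtain ⟨f, hfdef⟩ : ∃ f, f = minpoly k⟮x⟯ B.gen := ⟨_, rfl⟩
  rw [← hfdef] at hab hgood
  have hcoef : ∀ (q : k⟮x⟯[X]), (∀ c, c ≠ 0 → c ∈ q.coeffs → P.1 (c : K) = 1) →
      ∀ n, p.1 (q.coeff n) ≤ 1 := by
    intro q hq n
    by_cases h0 : q.coeff n = 0
    · rw [h0, map_zero]; exact zero_le_one
    · exact (heq _ (hq _ h0 (Polynomial.coeff_mem_coeffs h0))).le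
  have hf := hcoef f (fun c hc0 hc => hgood c hc0 (Or.inl hc))
  have ha := hcoef a (fun c hc0 hc => hgood c hc0 (Or.inr (Or.inl hc)))
  have hb := hcoef b (fun c hc0 hc => hgood c hc0 (Or.inr (Or.inr (Or.inl hc))))
  have hd0 : Algebra.discr k⟮x⟯ B.basis ≠ 0 := Algebra.discr_not_zero_of_basis k⟮x⟯ B.basis
  have hd : p.1 (Algebra.discr k⟮x⟯ B.basis) = 1 :=
    heq _ (hgood _ hd0 (Or.inr (Or.inr (Or.inr rfl))))
  have hfmonic : f.Monic := by rw [hfdef]; exact minpoly.monic B.isIntegral_gen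
  obtain ⟨fO, hfO⟩ := FG.exists_lift_poly p f hf
  obtain ⟨aO, haO⟩ := FG.exists_lift_poly p a ha
  obtain ⟨bO, hbO⟩ := FG.exists_lift_poly p b hb
  have hinj : Function.Injective (algebraMap p.O k⟮x⟯) := Subtype.val_injective
  have hint : IsIntegral p.O B.gen := by
    refine ⟨fO, Polynomial.monic_of_injective hinj (by rw [hfO]; exact hfmonic), ?_⟩
    have h1 : aeval B.gen (fO.map (algebraMap p.O k⟮x⟯)) = 0 := by
      rw [hfO, hfdef]; exact minpoly.aeval _ _
    rw [Polynomial.aeval_map_algebraMap] at h1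
    exact h1
  have habO : aO * fO + bO * derivative fO = 1 := by
    apply Polynomial.map_injective _ hinj
    rw [Polynomial.map_add, Polynomial.map_mul, Polynomial.map_mul, ← Polynomial.derivative_map,
      haO, hfO, hbO, Polynomial.map_one]
    exact hab
  have hpz : p.1 (IntermediateField.AdjoinSimple.gen k x - algebraMap k k⟮x⟯ a₀) < 1 :=
    (hlt _).mp hP
  have hpdeg : p.deg = 1 := deg_eq_one_of_rational hK₀ hx p a₀ hpz
  have hconst : ∀ c : k⟮x⟯, p.1 c ≤ 1 → ∃ γ : k, P.1 ((c : K) - algebraMap k K γ) < 1 := by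
    intro c hc
    obtain ⟨γ, hγ⟩ := FF.exists_const_of_deg_one p hpdeg hc
    exact ⟨γ, (hlt (c - algebraMap k k⟮x⟯ γ)).mpr hγ⟩
  obtain ⟨j, hj⟩ : ∃ j : p.O →+* P.O, ∀ c : p.O, ((j c : P.O) : K) = ((c : k⟮x⟯) : K) :=
    ⟨(algebraMap k⟮x⟯ K).restrict p.O P.O (fun c hc => (hle c).mpr hc), fun c => rfl⟩
  obtain ⟨σ, hσdef⟩ : ∃ σ : p.O →+* IsLocalRing.ResidueField P.O,
      σ = (IsLocalRing.residue P.O).comp j := ⟨_, rfl⟩
  have hσ : ∀ c : p.O, ∃ γ : k, σ c = algebraMap k (IsLocalRing.ResidueField P.O) γ := by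
    intro c
    obtain ⟨γ, hγ⟩ := hconst c c.2
    refine ⟨γ, ?_⟩
    have h1 : IsLocalRing.residue P.O (j c - algebraMap k P.O γ) = 0 := by
      rw [FF.residue_eq_zero_iff]
      have : ((j c - algebraMap k P.O γ : P.O) : K) = ((c : k⟮x⟯) : K) - algebraMap k K γ := by
        rw [← hj c]; rfl
      rw [this]
      exact hγ
    rw [map_sub, sub_eq_zero] at h1
    rw [hσdef]
    exact h1
  obtain ⟨Fp, hFp⟩ : ∃ Fp, Fp = fO.map σ := ⟨_, rfl⟩
  have hFsep : Fp.Separable := by
    refine ⟨aO.map σ, bO.map σ, ?_⟩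
    have := congrArg (Polynomial.map σ) habO
    rw [Polynomial.map_add, Polynomial.map_mul, Polynomial.map_mul, ← Polynomial.derivative_map,
      Polynomial.map_one] at this
    rw [hFp]; exact this
  have hlifts : Fp ∈ Polynomial.lifts (algebraMap k (IsLocalRing.ResidueField P.O)) := by
    rw [Polynomial.lifts_iff_coeff_lifts]
    intro n
    rw [hFp, Polynomial.coeff_map]
    obtain ⟨γ, hγ⟩ := hσ (fO.coeff n)
    exact ⟨γ, hγ.symm⟩
  obtain ⟨F₀, hF₀⟩ := (Polynomial.mem_lifts _).mp hlifts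
  have hF₀sep : F₀.Separable := by
    rw [← Polynomial.separable_map (algebraMap k (IsLocalRing.ResidueField P.O)), hF₀]
    exact hFsep
  have hy1 : P.1 B.gen ≤ 1 := FG.val_le_one_of_isIntegral ⟨e, he⟩ hint
  obtain ⟨yO, hyO⟩ : ∃ yO : P.O, (yO : K) = B.gen := ⟨⟨B.gen, hy1⟩, rfl⟩
  have hroot : Polynomial.eval (IsLocalRing.residue P.O yO) Fp = 0 := by
    rw [hFp, Polynomial.eval_map, hσdef, ← Polynomial.hom_eval₂]
    have h0 : Polynomial.eval₂ j yO fO = 0 := by
      apply Subtype.val_injective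
      show P.O.subtype (Polynomial.eval₂ j yO fO) = 0
      rw [Polynomial.hom_eval₂]
      have hcomp : (P.O.subtype).comp j = (algebraMap k⟮x⟯ K).comp (algebraMap p.O k⟮x⟯) :=
        RingHom.ext fun c => hj c
      rw [hcomp, ← Polynomial.eval₂_map, hfO]
      show Polynomial.eval₂ (algebraMap k⟮x⟯ K) (yO : K) f = 0
      rw [hyO, hfdef, ← Polynomial.aeval_def]
      exact minpoly.aeval _ _
    rw [h0, map_zero]
  have hsepy : IsSeparable k (IsLocalRing.residue P.O yO) := by
    have h1 : Polynomial.aeval (IsLocalRing.residue P.O yO) F₀ = 0 := by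
      rw [Polynomial.aeval_def, ← Polynomial.eval_map, hF₀]; exact hroot
    exact hF₀sep.of_dvd (minpoly.dvd k _ h1)
  haveI : Algebra.IsSeparable k k⟮IsLocalRing.residue P.O yO⟯ :=
    (IntermediateField.isSeparable_adjoin_simple_iff_isSeparable k _).mpr hsepy
  refine ⟨fun ζ => ?_⟩
  apply IntermediateField.isSeparable_of_mem_isSeparable k _
    (L := k⟮IsLocalRing.residue P.O yO⟯)
  obtain ⟨z, rfl⟩ := IsLocalRing.residue_surjective ζ
  obtain ⟨hfin, -⟩ := FG.finite_isOver_and_sum (K' := K) hK₀ p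
  obtain ⟨T, hT⟩ : ∃ T : Finset (Place k K), ∀ Q, Q ∈ T ↔ IsOver Q p :=
    ⟨hfin.toFinset, fun Q => by simp⟩
  obtain ⟨z', hz'⟩ := FF.weak_approx T (fun Q => if Q = P then (z : K) else 0) 1
  have hPT : P ∈ T := (hT P).mpr ⟨e, he⟩
  have hexp : WithZero.exp (-(1 : ℤ)) < (1 : WithZero (Multiplicative ℤ)) := by
    rw [← WithZero.exp_zero, WithZero.exp_lt_exp]; omega
  have hzP : P.1 (z' - (z : K)) < 1 := by
    have := hz' P hPT
    rw [if_pos rfl] at this
    exact this.trans hexp
  have hz'1 : P.1 z' ≤ 1 := by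
    have : z' = (z' - (z : K)) + z := by ring
    rw [this]
    exact (P.1.map_add _ _).trans (max_le hzP.le z.2)
  have hz'int : IsIntegral p.O z' := by
    apply FG.isIntegral_of_forall_val_le_one hK₀.1 p
    intro Q hQ
    have h1 := hz' Q ((hT Q).mpr hQ)
    by_cases hQP : Q = P
    · rw [hQP]; exact hz'1
    · rw [if_neg hQP, sub_zero] at h1
      exact (h1.trans hexp).le
  have hcoord : ∀ i, p.1 (B.basis.repr z' i) ≤ 1 := by
    intro i
    have h1 := FG.discr_mul_repr_mem p B hint hz'int i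
    rw [map_mul, hd, one_mul] at h1
    exact h1
  have hz'sum : z' = ∑ i, algebraMap k⟮x⟯ K (B.basis.repr z' i) * B.gen ^ (i : ℕ) := by
    conv_lhs => rw [← B.basis.sum_repr z']
    apply Finset.sum_congr rfl
    intro i _
    rw [PowerBasis.coe_basis, Algebra.smul_def]
  have hzO : (⟨z', hz'1⟩ : P.O) = ∑ i, j ⟨B.basis.repr z' i, hcoord i⟩ * yO ^ (i : ℕ) := by
    apply Subtype.val_injective
    show z' = P.O.subtype (∑ i, j ⟨B.basis.repr z' i, hcoord i⟩ * yO ^ (i : ℕ))
    rw [map_sum]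
    conv_lhs => rw [hz'sum]
    apply Finset.sum_congr rfl
    intro i _
    rw [map_mul, map_pow]
    show _ = ((j ⟨B.basis.repr z' i, hcoord i⟩ : P.O) : K) * (yO : K) ^ (i : ℕ)
    rw [hj, hyO]
    rfl
  have hres : IsLocalRing.residue P.O z = IsLocalRing.residue P.O ⟨z', hz'1⟩ := by
    have h1 : IsLocalRing.residue P.O (⟨z', hz'1⟩ - z) = 0 := by
      rw [FF.residue_eq_zero_iff]
      exact hzP
    rw [map_sub, sub_eq_zero] at h1
    exact h1.symm
  rw [hres, hzO, map_sum]
  apply sum_mem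
  intro i _
  rw [map_mul, map_pow]
  apply mul_mem
  · obtain ⟨γ, hγ⟩ := hσ ⟨B.basis.repr z' i, hcoord i⟩
    rw [hσdef] at hγ
    have : IsLocalRing.residue P.O (j ⟨B.basis.repr z' i, hcoord i⟩) =
        algebraMap k (IsLocalRing.ResidueField P.O) γ := hγ
    rw [this]
    exact IntermediateField.algebraMap_mem _ γ
  · exact pow_mem (IntermediateField.mem_adjoin_simple_self k _) _

theorem exists_zero_place (hK : IsFunctionField k K) {x : K} (hx : Transcendental k x) (f : k[X])
    (hf : f.Monic) (hd : f.natDegree ≠ 0) : ∃ P : Place k K, P.1 (aeval x f) < 1 :=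
  FF.exists_place_val_lt_one hK (hx.aeval f hd (by rw [hf.leadingCoeff]; exact one_mem _))

theorem infinite_of_family (hK : IsFunctionField k K) {x : K} (hx : Transcendental k x)
    {ι : Type*} [Infinite ι] (f : ι → k[X]) (hfm : ∀ i, (f i).Monic)
    (hfd : ∀ i, (f i).natDegree ≠ 0) (hcop : ∀ i j, i ≠ j → IsCoprime (f i) (f j))
    (S : Set (Place k K)) (Bad : Set (Place k K)) (hBad : Bad.Finite)
    (hS : ∀ i (P : Place k K), P.1 (aeval x (f i)) < 1 → P ∉ Bad → P ∈ S) : S.Infinite := by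
  classical
  choose Pl hPl using fun i => exists_zero_place hK hx (f i) (hfm i) (hfd i)
  have hinj : Function.Injective Pl := by
    intro i j hij
    by_contra hne
    exact false_of_coprime (Pl i) (f i) (f j) (hfm i).ne_zero (hcop i j hne) (hPl i)
      (by rw [hij]; exact hPl j)
  have hfinpre : (Pl ⁻¹' Bad).Finite := hBad.preimage (hinj.injOn)
  have hinf : (Pl ⁻¹' Bad)ᶜ.Infinite := hfinpre.infinite_compl
  apply (hinf.image (hinj.injOn)).mono
  rintro _ ⟨i, hi, rfl⟩
  exact hS i (Pl i) (hPl i) hi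

theorem s11004 (k : Type u) (K : Type v) [Field k] [Field K] [Algebra k K]
    (hK : IsFunctionField k K) (hg : IsGeometric k K) :
    {P : Place k K | Algebra.IsSeparable k (IsLocalRing.ResidueField P.O)}.Infinite := by
  classical
  obtain ⟨x, hx, hsep⟩ := FF.exists_separating hK hg
  rcases finite_or_infinite k with hfin | hinf
  · haveI := hfin
    have hex : ∀ n : ℕ, ∃ f : k[X], f.Monic ∧ Irreducible f ∧ f.natDegree = n + 1 := fun n =>
      FFZeta.exists_irreducible_natDegree k (n + 1) (Nat.succ_pos n)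
    choose f hfm hfi hfd using hex
    apply infinite_of_family hK hx f hfm (fun n => by rw [hfd]; omega) ?_ _ ∅ Set.finite_empty
    · intro n P _ _
      haveI : Finite (IsLocalRing.ResidueField P.O) := FFZeta.finite_residueField hK P
      haveI : Algebra.IsAlgebraic k (IsLocalRing.ResidueField P.O) :=
        Algebra.IsAlgebraic.of_finite k _
      exact Algebra.IsAlgebraic.isSeparable_of_perfectField
    · intro n m hnm
      rw [(hfi n).coprime_iff_not_dvd]
      intro hdvd
      apply hnm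
      have hass := (hfi n).associated_of_dvd (hfi m) hdvd
      have := Polynomial.natDegree_eq_of_degree_eq (Polynomial.degree_eq_degree_of_associated hass)
      rw [hfd, hfd] at this
      omega
  · haveI := hinf
    haveI := hsep
    haveI := FF.finiteDimensional_adjoin hK hx
    let B := Field.powerBasisOfFiniteOfSeparable k⟮x⟯ K
    have hsepf : (minpoly k⟮x⟯ B.gen).Separable := Algebra.IsSeparable.isSeparable k⟮x⟯ B.gen
    obtain ⟨a, b, hab⟩ := hsepf
    obtain ⟨Xs, hXs⟩ : ∃ Xs : Finset k⟮x⟯, Xs = (minpoly k⟮x⟯ B.gen).coeffs ∪ a.coeffs ∪ b.coeffs ∪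
        {Algebra.discr k⟮x⟯ B.basis} := ⟨_, rfl⟩
    obtain ⟨Bad, hBaddef⟩ : ∃ Bad : Set (Place k K),
        Bad = ⋃ c ∈ Xs, {P | P.ord ((c : k⟮x⟯) : K) ≠ 0} := ⟨_, rfl⟩
    have hBad : Bad.Finite := by
      rw [hBaddef]
      exact Set.Finite.biUnion Xs.finite_toSet (fun c _ => FF.finite_support_ord hK _)
    apply infinite_of_family hK hx (fun a₀ : k => X - C a₀) (fun a₀ => Polynomial.monic_X_sub_C a₀)
      (fun a₀ => by rw [Polynomial.natDegree_X_sub_C]; exact one_ne_zero) ?_ _ Bad hBad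
    · intro a₀ P hP hPbad
      rw [map_sub, aeval_X, aeval_C] at hP
      refine isSeparable_residueField_of_good hK hx B a b hab P a₀ hP ?_
      intro c hc0 hc
      have hcX : c ∈ Xs := by
        rw [hXs]
        simp only [Finset.mem_union, Finset.mem_singleton]
        tauto
      have hord : P.ord (c : K) = 0 := by
        by_contra hne
        apply hPbad
        rw [hBaddef]
        exact Set.mem_biUnion hcX hne
      have hcK : (c : K) ≠ 0 := by
        intro h
        exact hc0 (Subtype.ext h)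
      rw [FF.val_eq_exp_neg_ord P hcK, hord, neg_zero, WithZero.exp_zero]
    · intro a₀ b₀ hne
      exact Polynomial.isCoprime_X_sub_C_of_isUnit_sub (sub_ne_zero.mpr hne).isUnit

end Groth.Agent.Helper6.SepPlaces
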