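import Mathlib
import Groth.Prelude.Def_FibCat2
import Groth.Agent.Helper3.EquivOver
import Groth.Agent.Helper3.Fp

/-!
# Helper6: tools for equivalences over the base and 2-fibre products of based categories
-/

set_option autoImplicit false
set_option linter.style.haveILetI false
universe v₇ u₇ v₆ u₆ v₅ u₅ v₄ u₄ v₃ u₃ v₂ u₂ v u

namespace Groth.Agent.Helper6.FpTools
open CategoryTheory Functor FibCat Limits
open Groth.Agent.Helper3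

variable {C : Type u} [Category.{v} C]

section EquivOver

variable {𝒳 : BasedCategory.{v₂, u₂} C} {𝒴 : BasedCategory.{v₃, u₃} C} {𝒵 : BasedCategory.{v₄, u₄} C}

theorem lift_id_transport {𝒴 : BasedCategory.{v₃, u₃} C} {S T : C} (hST : S = T) {x y : 𝒴.obj} (e : x ⟶ y)
    (h : 𝒴.p.IsHomLift (𝟙 S) e) : 𝒴.p.IsHomLift (𝟙 T) e := by
  subst hST; exact h

/-- Characterisation of equivalences over `C`. -/
theorem isEquivOver_iff (F : 𝒳 ⥤ᵇ 𝒴) :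
    IsEquivOver F ↔ F.toFunctor.Full ∧ F.toFunctor.Faithful ∧
      ∀ y : 𝒴.obj, ∃ (x : 𝒳.obj) (e : F.obj x ≅ y), 𝒴.p.IsHomLift (𝟙 (𝒴.p.obj y)) e.hom := by
  constructor
  · intro hF
    haveI := EquivOver.isEquivalence hF
    exact ⟨inferInstance, inferInstance, EquivOver.exists_iso hF⟩
  · rintro ⟨h1, h2, h3⟩
    exact EquivOver.isEquivOver_of F h3

theorem isEquivOver_id (𝒳 : BasedCategory.{v₂, u₂} C) : IsEquivOver (BasedFunctor.id 𝒳) :=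
  ⟨BasedFunctor.id 𝒳, ⟨Iso.refl _⟩, ⟨Iso.refl _⟩⟩

theorem isEquivOver_comp {F : 𝒳 ⥤ᵇ 𝒴} {G : 𝒴 ⥤ᵇ 𝒵} (hF : IsEquivOver F) (hG : IsEquivOver G) :
    IsEquivOver (BasedFunctor.comp F G) := by
  rw [isEquivOver_iff] at hF hG ⊢
  obtain ⟨hF1, hF2, hF3⟩ := hF
  obtain ⟨hG1, hG2, hG3⟩ := hG
  refine ⟨?_, ?_, ?_⟩
  · change (F.toFunctor ⋙ G.toFunctor).Full
    infer_instance
  · change (F.toFunctor ⋙ G.toFunctor).Faithful
    infer_instance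
  · intro z
    obtain ⟨y, e1, he1⟩ := hG3 z
    obtain ⟨x, e2, he2⟩ := hF3 y
    refine ⟨x, G.toFunctor.mapIso e2 ≪≫ e1, ?_⟩
    have hyz : 𝒴.p.obj y = 𝒵.p.obj z :=
      (G.w_obj y).symm.trans (IsHomLift.domain_eq 𝒵.p (𝟙 (𝒵.p.obj z)) e1.hom)
    haveI : 𝒵.p.IsHomLift (𝟙 (𝒴.p.obj y)) (G.map e2.hom) := inferInstance
    haveI : 𝒵.p.IsHomLift (𝟙 (𝒵.p.obj z)) (G.map e2.hom) := lift_id_transport hyz _ this
    have : 𝒵.p.IsHomLift (𝟙 (𝒵.p.obj z) ≫ 𝟙 (𝒵.p.obj z)) (G.map e2.hom ≫ e1.hom) := inferInstance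
    rw [Category.comp_id] at this
    exact this

/-- A based functor 2-isomorphic to an equivalence over `C` is an equivalence over `C`. -/
theorem isEquivOver_of_iso {F F' : 𝒳 ⥤ᵇ 𝒴} (e : F ≅ F') (hF : IsEquivOver F) : IsEquivOver F' := by
  rw [isEquivOver_iff] at hF ⊢
  obtain ⟨hF1, hF2, hF3⟩ := hF
  let e' : F.toFunctor ≅ F'.toFunctor := (BasedNatTrans.forgetful _ _).mapIso e
  refine ⟨Functor.Full.of_iso e', Functor.Faithful.of_iso e', ?_⟩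
  intro y
  obtain ⟨x, e1, he1⟩ := hF3 y
  refine ⟨x, (e'.app x).symm ≪≫ e1, ?_⟩
  have hxy : 𝒳.p.obj x = 𝒴.p.obj y :=
    (F.w_obj x).symm.trans (IsHomLift.domain_eq 𝒴.p (𝟙 (𝒴.p.obj y)) e1.hom)
  haveI h1 : 𝒴.p.IsHomLift (𝟙 (𝒳.p.obj x)) (e.inv.toNatTrans.app x) := inferInstance
  haveI : 𝒴.p.IsHomLift (𝟙 (𝒴.p.obj y)) (e.inv.toNatTrans.app x) := lift_id_transport hxy _ h1
  have : 𝒴.p.IsHomLift (𝟙 (𝒴.p.obj y) ≫ 𝟙 (𝒴.p.obj y)) (e.inv.toNatTrans.app x ≫ e1.hom) :=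
    inferInstance
  rw [Category.comp_id] at this
  exact this

theorem isRepresentable_of_isEquivOver {𝒳 : BasedCategory.{v₂, u₂} C} {𝒴 : BasedCategory.{v₃, u₃} C}
    (E : 𝒳 ⥤ᵇ 𝒴) (hE : IsEquivOver E) (h : IsRepresentable 𝒴) : IsRepresentable 𝒳 := by
  obtain ⟨U, F, hF⟩ := h
  exact ⟨U, BasedFunctor.comp E F, isEquivOver_comp hE hF⟩

theorem isRepresentable_iff_of_isEquivOver {𝒳 : BasedCategory.{v₂, u₂} C} {𝒴 : BasedCategory.{v₃, u₃} C}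
    (E : 𝒳 ⥤ᵇ 𝒴) (hE : IsEquivOver E) : IsRepresentable 𝒳 ↔ IsRepresentable 𝒴 := by
  refine ⟨fun h => ?_, isRepresentable_of_isEquivOver E hE⟩
  obtain ⟨G, hG, -, -⟩ := EquivOver.symm hE
  exact isRepresentable_of_isEquivOver G hG h

end EquivOver

end Groth.Agent.Helper6.FpTools
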