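import Mathlib
import Groth.Prelude.Def_FibCat2
import Groth.Agent.Helper3.EquivOver
import Groth.Agent.Helper3.Fp
import Groth.Agent.Helper6.FpTools

/-!
# Helper6: an equivalence of cospans of based categories induces an equivalence of 2-fibre products
-/

set_option autoImplicit false
set_option linter.style.haveILetI false
universe v₇ u₇ v₆ u₆ v₅ u₅ v₄ u₄ v₃ u₃ v₂ u₂ v u

namespace Groth.Agent.Helper6.FpTools
open CategoryTheory Functor FibCat Limits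
open Groth.Agent.Helper3

variable {C : Type u} [Category.{v} C]

section Aux

variable {D : Type u₂} [Category.{v₂} D]

theorem nat_aux {A A' B B' M M' N N' : D} (ya : A ⟶ A') (ti : A ⟶ M) (ti' : A' ⟶ M')
    (m : M ⟶ M') (i : M ⟶ N) (i' : M' ⟶ N') (n : N ⟶ N') (eh : N ⟶ B) (eh' : N' ⟶ B')
    (fb : B ⟶ B') (n1 : ya ≫ ti' = ti ≫ m) (n3 : m ≫ i' = i ≫ n) (n2 : n ≫ eh' = eh ≫ fb) :
    ya ≫ (ti' ≫ i' ≫ eh') = (ti ≫ i ≫ eh) ≫ fb := by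
  rw [← Category.assoc, n1, Category.assoc, ← Category.assoc m, n3]
  simp only [Category.assoc, n2]

theorem full_aux {A A' B B' M M' N N' : D} (ya : A ⟶ A') (ti : A ⟶ M) (ti' : A' ⟶ M')
    (m : M ⟶ M') (i : M ⟶ N) (i' : M' ⟶ N') (n : N ⟶ N') (eh : N ⟶ B) (eh' : N' ⟶ B')
    (fb : B ⟶ B') (_ : IsIso ti) (_ : IsIso eh') (n1 : ya ≫ ti' = ti ≫ m) (n2 : n ≫ eh' = eh ≫ fb)
    (hw : ya ≫ (ti' ≫ i' ≫ eh') = (ti ≫ i ≫ eh) ≫ fb) : m ≫ i' = i ≫ n := by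
  rw [← cancel_epi ti, ← cancel_mono eh']
  simp only [Category.assoc]
  rw [n2, ← reassoc_of% n1]
  simpa only [Category.assoc] using hw

theorem ess_aux {A M P Q R B : D} (th : M ⟶ A) (ti : A ⟶ M) (m : A ⟶ P) (ψ : P ⟶ Q) (fi : Q ⟶ R)
    (fh : R ⟶ Q) (ei : R ⟶ B) (eh : B ⟶ R) (h1 : ti ≫ th = 𝟙 A) (h2 : ei ≫ eh = 𝟙 R)
    (h3 : fi ≫ fh = 𝟙 Q) : m ≫ ψ = (ti ≫ (th ≫ m ≫ ψ ≫ fi ≫ ei) ≫ eh) ≫ fh := by
  simp only [Category.assoc, reassoc_of% h1, reassoc_of% h2, h3, Category.comp_id]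

end Aux

theorem lift_id_comp' {ℬ : BasedCategory.{v₂, u₂} C} {S : C} {a b c : ℬ.obj} (φ : a ⟶ b) (ψ : b ⟶ c)
    (h1 : ℬ.p.IsHomLift (𝟙 S) φ) (h2 : ℬ.p.IsHomLift (𝟙 S) ψ) : ℬ.p.IsHomLift (𝟙 S) (φ ≫ ψ) :=
  inferInstance

section Cospan

variable {𝒲 : BasedCategory.{v₂, u₂} C} {𝒳 : BasedCategory.{v₃, u₃} C} {𝒴 : BasedCategory.{v₄, u₄} C}
  {𝒲' : BasedCategory.{v₅, u₅} C} {𝒳' : BasedCategory.{v₆, u₆} C} {𝒴' : BasedCategory.{v₇, u₇} C}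
  (y : 𝒲 ⥤ᵇ 𝒴) (f : 𝒳 ⥤ᵇ 𝒴) (y' : 𝒲' ⥤ᵇ 𝒴') (f' : 𝒳' ⥤ᵇ 𝒴')
  (E₁ : 𝒲' ⥤ᵇ 𝒲) (E₂ : 𝒳' ⥤ᵇ 𝒳) (E₃ : 𝒴' ⥤ᵇ 𝒴)
  (θ : BasedFunctor.comp y' E₃ ≅ BasedFunctor.comp E₁ y)
  (η : BasedFunctor.comp f' E₃ ≅ BasedFunctor.comp E₂ f)

/-- Component of a 2-isomorphism of based functors, as an isomorphism. -/
def appIso {𝒜 : BasedCategory.{v₂, u₂} C} {ℬ : BasedCategory.{v₃, u₃} C} {F G : 𝒜 ⥤ᵇ ℬ} (e : F ≅ G)
    (a : 𝒜.obj) : F.obj a ≅ G.obj a :=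
  ((BasedNatTrans.forgetful _ _).mapIso e).app a

theorem appIso_hom_lift {𝒜 : BasedCategory.{v₂, u₂} C} {ℬ : BasedCategory.{v₃, u₃} C} {F G : 𝒜 ⥤ᵇ ℬ}
    (e : F ≅ G) (a : 𝒜.obj) {S : C} (hS : 𝒜.p.obj a = S) :
    ℬ.p.IsHomLift (𝟙 S) (appIso e a).hom :=
  e.hom.isHomLift hS

theorem appIso_inv_lift {𝒜 : BasedCategory.{v₂, u₂} C} {ℬ : BasedCategory.{v₃, u₃} C} {F G : 𝒜 ⥤ᵇ ℬ}
    (e : F ≅ G) (a : 𝒜.obj) {S : C} (hS : 𝒜.p.obj a = S) :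
    ℬ.p.IsHomLift (𝟙 S) (appIso e a).inv :=
  e.inv.isHomLift hS

theorem appIso_hom_naturality {𝒜 : BasedCategory.{v₂, u₂} C} {ℬ : BasedCategory.{v₃, u₃} C}
    {F G : 𝒜 ⥤ᵇ ℬ} (e : F ≅ G) {a a' : 𝒜.obj} (g : a ⟶ a') :
    F.map g ≫ (appIso e a').hom = (appIso e a).hom ≫ G.map g :=
  e.hom.toNatTrans.naturality g

theorem appIso_inv_naturality {𝒜 : BasedCategory.{v₂, u₂} C} {ℬ : BasedCategory.{v₃, u₃} C}
    {F G : 𝒜 ⥤ᵇ ℬ} (e : F ≅ G) {a a' : 𝒜.obj} (g : a ⟶ a') :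
    G.map g ≫ (appIso e a').inv = (appIso e a).inv ≫ F.map g :=
  e.inv.toNatTrans.naturality g

/-- The component of the comparison 2-isomorphism. -/
def cospanApp (x : (fp y' f').obj) :
    y.obj (E₁.obj x.obj.fst) ≅ f.obj (E₂.obj x.obj.snd) :=
  (appIso θ x.obj.fst).symm ≪≫ E₃.toFunctor.mapIso x.obj.iso ≪≫ appIso η x.obj.snd

theorem cospanApp_hom (x : (fp y' f').obj) :
    (cospanApp y f y' f' E₁ E₂ E₃ θ η x).hom =
      (appIso θ x.obj.fst).inv ≫ E₃.map x.obj.iso.hom ≫ (appIso η x.obj.snd).hom := rfl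

theorem cospanApp_lift (x : (fp y' f').obj) :
    𝒴.p.IsHomLift (𝟙 (𝒲'.p.obj x.obj.fst)) (cospanApp y f y' f' E₁ E₂ E₃ θ η x).hom := by
  haveI h1 : 𝒴.p.IsHomLift (𝟙 (𝒲'.p.obj x.obj.fst)) (appIso θ x.obj.fst).inv :=
    appIso_inv_lift θ _ rfl
  haveI h2 : 𝒴'.p.IsHomLift (𝟙 (𝒲'.p.obj x.obj.fst)) x.obj.iso.hom := x.property
  haveI h2' : 𝒴.p.IsHomLift (𝟙 (𝒲'.p.obj x.obj.fst)) (E₃.map x.obj.iso.hom) := inferInstance
  haveI h3 : 𝒴.p.IsHomLift (𝟙 (𝒲'.p.obj x.obj.fst)) (appIso η x.obj.snd).hom :=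
    appIso_hom_lift η _ (Fp.snd_obj_eq y' f' x)
  rw [cospanApp_hom]
  exact lift_id_comp' _ _ h1 (lift_id_comp' _ _ h2' h3)

theorem cospanApp_naturality {x x' : (fp y' f').obj} (g : x ⟶ x') :
    y.map (E₁.map g.hom.fst) ≫ (cospanApp y f y' f' E₁ E₂ E₃ θ η x').hom =
      (cospanApp y f y' f' E₁ E₂ E₃ θ η x).hom ≫ f.map (E₂.map g.hom.snd) := by
  rw [cospanApp_hom, cospanApp_hom]
  have n1 : y.map (E₁.map g.hom.fst) ≫ (appIso θ x'.obj.fst).inv =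
      (appIso θ x.obj.fst).inv ≫ E₃.map (y'.map g.hom.fst) := appIso_inv_naturality θ g.hom.fst
  have n2 : E₃.map (f'.map g.hom.snd) ≫ (appIso η x'.obj.snd).hom =
      (appIso η x.obj.snd).hom ≫ f.map (E₂.map g.hom.snd) := appIso_hom_naturality η g.hom.snd
  have n3 : E₃.map (y'.map g.hom.fst) ≫ E₃.map x'.obj.iso.hom =
      E₃.map x.obj.iso.hom ≫ E₃.map (f'.map g.hom.snd) := by
    rw [← E₃.toFunctor.map_comp, ← E₃.toFunctor.map_comp]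
    exact congrArg _ g.hom.w
  exact nat_aux _ _ _ _ _ _ _ _ _ _ n1 n3 n2

/-- The comparison 2-isomorphism. -/
def cospanIso :
    BasedFunctor.comp (BasedFunctor.comp (fpFst y' f') E₁) y ≅
      BasedFunctor.comp (BasedFunctor.comp (fpSnd y' f') E₂) f :=
  BasedNatIso.mkNatIso
    (NatIso.ofComponents (fun x => cospanApp y f y' f' E₁ E₂ E₃ θ η x)
      (fun {x x'} g => cospanApp_naturality y f y' f' E₁ E₂ E₃ θ η g))
    (fun x => cospanApp_lift y f y' f' E₁ E₂ E₃ θ η x)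

/-- The comparison functor between the 2-fibre products. -/
def cospanFunctor : fp y' f' ⥤ᵇ fp y f :=
  fpLift (BasedFunctor.comp (fpFst y' f') E₁) (BasedFunctor.comp (fpSnd y' f') E₂)
    (cospanIso y f y' f' E₁ E₂ E₃ θ η)

theorem cospanFunctor_comp_fpFst :
    BasedFunctor.comp (cospanFunctor y f y' f' E₁ E₂ E₃ θ η) (fpFst y f) =
      BasedFunctor.comp (fpFst y' f') E₁ := rfl

theorem cospanFunctor_comp_fpSnd :
    BasedFunctor.comp (cospanFunctor y f y' f' E₁ E₂ E₃ θ η) (fpSnd y f) =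
      BasedFunctor.comp (fpSnd y' f') E₂ := rfl

theorem cospanFunctor_obj_iso (x : (fp y' f').obj) :
    ((cospanFunctor y f y' f' E₁ E₂ E₃ θ η).obj x).obj.iso =
      cospanApp y f y' f' E₁ E₂ E₃ θ η x := by
  ext
  rfl

theorem cospanFunctor_faithful [E₁.toFunctor.Faithful] [E₂.toFunctor.Faithful] :
    (cospanFunctor y f y' f' E₁ E₂ E₃ θ η).toFunctor.Faithful := by
  refine ⟨fun {x x'} g g' h => ?_⟩
  apply ObjectProperty.hom_ext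
  apply CategoricalPullback.hom_ext
  · apply E₁.toFunctor.map_injective
    exact congrArg (fun t => t.hom.fst) h
  · apply E₂.toFunctor.map_injective
    exact congrArg (fun t => t.hom.snd) h

theorem cospanFunctor_full [E₁.toFunctor.Full] [E₂.toFunctor.Full] [E₃.toFunctor.Faithful] :
    (cospanFunctor y f y' f' E₁ E₂ E₃ θ η).toFunctor.Full := by
  refine ⟨fun {x x'} Θ => ?_⟩
  obtain ⟨a, ha⟩ : ∃ a : x.obj.fst ⟶ x'.obj.fst, E₁.map a = Θ.hom.fst :=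
    E₁.toFunctor.map_surjective Θ.hom.fst
  obtain ⟨b, hb⟩ : ∃ b : x.obj.snd ⟶ x'.obj.snd, E₂.map b = Θ.hom.snd :=
    E₂.toFunctor.map_surjective Θ.hom.snd
  have hw : y.map Θ.hom.fst ≫ (cospanApp y f y' f' E₁ E₂ E₃ θ η x').hom =
      (cospanApp y f y' f' E₁ E₂ E₃ θ η x).hom ≫ f.map Θ.hom.snd := by
    have := Θ.hom.w
    rw [cospanFunctor_obj_iso, cospanFunctor_obj_iso] at this
    exact this
  have ha' : E₁.map a = Θ.hom.fst := ha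
  have hb' : E₂.map b = Θ.hom.snd := hb
  rw [← ha', ← hb', cospanApp_hom, cospanApp_hom] at hw
  have n1 : y.map (E₁.map a) ≫ (appIso θ x'.obj.fst).inv =
      (appIso θ x.obj.fst).inv ≫ E₃.map (y'.map a) := appIso_inv_naturality θ a
  have n2 : E₃.map (f'.map b) ≫ (appIso η x'.obj.snd).hom =
      (appIso η x.obj.snd).hom ≫ f.map (E₂.map b) := appIso_hom_naturality η b
  have key : y'.map a ≫ x'.obj.iso.hom = x.obj.iso.hom ≫ f'.map b := by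
    apply E₃.toFunctor.map_injective
    rw [E₃.toFunctor.map_comp, E₃.toFunctor.map_comp]
    exact full_aux _ _ _ _ _ _ _ _ _ _ (Iso.isIso_inv (appIso θ x.obj.fst))
      (Iso.isIso_hom (appIso η x'.obj.snd)) n1 n2 hw
  refine ⟨ObjectProperty.homMk ⟨a, b, key⟩, ?_⟩
  apply ObjectProperty.hom_ext
  apply CategoricalPullback.hom_ext
  · exact ha
  · exact hb

theorem cospanFunctor_essSurj (h₁ : IsEquivOver E₁) (h₂ : IsEquivOver E₂)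
    [E₃.toFunctor.Full] [E₃.toFunctor.Faithful] (z : (fp y f).obj) :
    ∃ (x : (fp y' f').obj) (e : (cospanFunctor y f y' f' E₁ E₂ E₃ θ η).obj x ≅ z),
      (fp y f).p.IsHomLift (𝟙 ((fp y f).p.obj z)) e.hom := by
  obtain ⟨w', e₁, he₁⟩ := EquivOver.exists_iso h₁ z.obj.fst
  obtain ⟨x', e₂, he₂⟩ := EquivOver.exists_iso h₂ z.obj.snd
  -- the base object
  have hS₁ : 𝒲'.p.obj w' = 𝒲.p.obj z.obj.fst :=
    (E₁.w_obj w').symm.trans (IsHomLift.domain_eq 𝒲.p (𝟙 (𝒲.p.obj z.obj.fst)) e₁.hom)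
  have hS₂ : 𝒳.p.obj z.obj.snd = 𝒲.p.obj z.obj.fst := Fp.snd_obj_eq y f z
  have hS₃ : 𝒳'.p.obj x' = 𝒲.p.obj z.obj.fst :=
    ((E₂.w_obj x').symm.trans (IsHomLift.domain_eq 𝒳.p (𝟙 (𝒳.p.obj z.obj.snd)) e₂.hom)).trans hS₂
  have he₂' : 𝒳.p.IsHomLift (𝟙 (𝒲.p.obj z.obj.fst)) e₂.hom := lift_id_transport hS₂ _ he₂
  haveI := he₂'
  have he₂i : 𝒳.p.IsHomLift (𝟙 (𝒲.p.obj z.obj.fst)) e₂.inv := inferInstance
  -- the pieces
  have l1 : 𝒴.p.IsHomLift (𝟙 (𝒲.p.obj z.obj.fst)) (appIso θ w').hom := appIso_hom_lift θ w' hS₁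
  have l2 : 𝒴.p.IsHomLift (𝟙 (𝒲.p.obj z.obj.fst)) (y.map e₁.hom) := inferInstance
  have l3 : 𝒴.p.IsHomLift (𝟙 (𝒲.p.obj z.obj.fst)) z.obj.iso.hom := z.property
  have l4 : 𝒴.p.IsHomLift (𝟙 (𝒲.p.obj z.obj.fst)) (f.map e₂.inv) := inferInstance
  have l5 : 𝒴.p.IsHomLift (𝟙 (𝒲.p.obj z.obj.fst)) (appIso η x').inv := appIso_inv_lift η x' hS₃
  let τ : E₃.obj (y'.obj w') ≅ E₃.obj (f'.obj x') :=
    appIso θ w' ≪≫ y.toFunctor.mapIso e₁ ≪≫ z.obj.iso ≪≫ (f.toFunctor.mapIso e₂).symm ≪≫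
      (appIso η x').symm
  have hτ : τ.hom = (appIso θ w').hom ≫ y.map e₁.hom ≫ z.obj.iso.hom ≫ f.map e₂.inv ≫
      (appIso η x').inv := rfl
  have lτ : 𝒴.p.IsHomLift (𝟙 (𝒲.p.obj z.obj.fst)) τ.hom := by
    rw [hτ]
    exact lift_id_comp' _ _ l1 (lift_id_comp' _ _ l2 (lift_id_comp' _ _ l3 (lift_id_comp' _ _ l4 l5)))
  let φ : y'.obj w' ≅ f'.obj x' := E₃.toFunctor.preimageIso τ
  have hφ : E₃.map φ.hom = τ.hom := E₃.toFunctor.map_preimage τ.hom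
  have lφ : 𝒴'.p.IsHomLift (𝟙 (𝒲'.p.obj w')) φ.hom := by
    haveI : 𝒴.p.IsHomLift (𝟙 (𝒲'.p.obj w')) (E₃.map φ.hom) := by
      rw [hφ]
      exact lift_id_transport hS₁.symm _ lτ
    exact E₃.isHomLift_map (𝟙 (𝒲'.p.obj w')) φ.hom
  let x : (fp y' f').obj := ⟨⟨w', x', φ⟩, lφ⟩
  have hw : y.map e₁.hom ≫ z.obj.iso.hom =
      (cospanApp y f y' f' E₁ E₂ E₃ θ η x).hom ≫ f.map e₂.hom := by
    rw [cospanApp_hom]
    change _ = ((appIso θ w').inv ≫ E₃.map φ.hom ≫ (appIso η x').hom) ≫ f.map e₂.hom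
    rw [hφ, hτ]
    exact ess_aux _ _ _ _ _ _ _ _ (appIso θ w').inv_hom_id (appIso η x').inv_hom_id
      (f.toFunctor.mapIso e₂).inv_hom_id
  refine ⟨x, ObjectProperty.isoMk _ (CategoricalPullback.mkIso
    (x := ((cospanFunctor y f y' f' E₁ E₂ E₃ θ η).obj x).obj) (y := z.obj) e₁ e₂ ?_), ?_⟩
  · rw [cospanFunctor_obj_iso]
    exact hw
  · apply Fp.isHomLift_of_fst
    exact he₁

/-- An equivalence of cospans of categories over `C` induces an equivalence over `C` of 2-fibre products. -/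
theorem isEquivOver_cospanFunctor (h₁ : IsEquivOver E₁) (h₂ : IsEquivOver E₂) (h₃ : IsEquivOver E₃) :
    IsEquivOver (cospanFunctor y f y' f' E₁ E₂ E₃ θ η) := by
  obtain ⟨i1, i2, -⟩ := (isEquivOver_iff E₁).1 h₁
  obtain ⟨j1, j2, -⟩ := (isEquivOver_iff E₂).1 h₂
  obtain ⟨k1, k2, -⟩ := (isEquivOver_iff E₃).1 h₃
  rw [isEquivOver_iff]
  exact ⟨cospanFunctor_full y f y' f' E₁ E₂ E₃ θ η, cospanFunctor_faithful y f y' f' E₁ E₂ E₃ θ η,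
    cospanFunctor_essSurj y f y' f' E₁ E₂ E₃ θ η h₁ h₂⟩

end Cospan

end Groth.Agent.Helper6.FpTools
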