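import Mathlib
import Groth.Prelude.Def_FibCat2
import Groth.Agent.Helper3.EquivOver
import Groth.Agent.Helper3.Fp
import Groth.Agent.Helper6.FpTools
import Groth.Agent.Helper6.FpCospan

/-!
# Helper6: pasting of 2-fibre products of based categories
-/

set_option autoImplicit false
set_option linter.style.haveILetI false
universe v₇ u₇ v₆ u₆ v₅ u₅ v₄ u₄ v₃ u₃ v₂ u₂ v u

namespace Groth.Agent.Helper6.FpTools
open CategoryTheory Functor FibCat Limits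
open Groth.Agent.Helper3

variable {C : Type u} [Category.{v} C]

section Mk

variable {𝒳 : BasedCategory.{v₂, u₂} C} {𝒴 : BasedCategory.{v₃, u₃} C} {𝒮 : BasedCategory.{v₄, u₄} C}
  {F : 𝒳 ⥤ᵇ 𝒮} {G : 𝒴 ⥤ᵇ 𝒮}

/-- Constructor for isomorphisms of `fp F G`. -/
def fpMkIso {x z : (fp F G).obj} (e₁ : x.obj.fst ≅ z.obj.fst) (e₂ : x.obj.snd ≅ z.obj.snd)
    (w : F.map e₁.hom ≫ z.obj.iso.hom = x.obj.iso.hom ≫ G.map e₂.hom) : x ≅ z :=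
  ObjectProperty.isoMk _ (CategoricalPullback.mkIso (x := x.obj) (y := z.obj) e₁ e₂ w)

@[simp] theorem fpMkIso_hom_fst {x z : (fp F G).obj} (e₁ : x.obj.fst ≅ z.obj.fst)
    (e₂ : x.obj.snd ≅ z.obj.snd)
    (w : F.map e₁.hom ≫ z.obj.iso.hom = x.obj.iso.hom ≫ G.map e₂.hom) :
    (fpMkIso e₁ e₂ w).hom.hom.fst = e₁.hom := rfl

@[simp] theorem fpMkIso_hom_snd {x z : (fp F G).obj} (e₁ : x.obj.fst ≅ z.obj.fst)
    (e₂ : x.obj.snd ≅ z.obj.snd)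
    (w : F.map e₁.hom ≫ z.obj.iso.hom = x.obj.iso.hom ≫ G.map e₂.hom) :
    (fpMkIso e₁ e₂ w).hom.hom.snd = e₂.hom := rfl

theorem fpMkIso_lift {x z : (fp F G).obj} (e₁ : x.obj.fst ≅ z.obj.fst) (e₂ : x.obj.snd ≅ z.obj.snd)
    (w : F.map e₁.hom ≫ z.obj.iso.hom = x.obj.iso.hom ≫ G.map e₂.hom) {S : C}
    (h : 𝒳.p.IsHomLift (𝟙 S) e₁.hom) : (fp F G).p.IsHomLift (𝟙 S) (fpMkIso e₁ e₂ w).hom :=
  Fp.isHomLift_of_fst F G _ _ h

theorem fp_hom_ext {x z : (fp F G).obj} {g g' : x ⟶ z} (h₁ : g.hom.fst = g'.hom.fst)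
    (h₂ : g.hom.snd = g'.hom.snd) : g = g' := by
  apply ObjectProperty.hom_ext
  exact CategoricalPullback.hom_ext h₁ h₂

end Mk

section PasteLeft

variable {𝒲 : BasedCategory.{v₂, u₂} C} {𝒵 : BasedCategory.{v₃, u₃} C} {𝒳 : BasedCategory.{v₄, u₄} C}
  {𝒴 : BasedCategory.{v₅, u₅} C} (y : 𝒲 ⥤ᵇ 𝒵) (g : 𝒵 ⥤ᵇ 𝒴) (f : 𝒳 ⥤ᵇ 𝒴)

/-- The functor `𝒲 ×_𝒴 𝒳 ⟶ 𝒵 ×_𝒴 𝒳`. -/
def pasteInner : fp (BasedFunctor.comp y g) f ⥤ᵇ fp g f :=
  fpLift (BasedFunctor.comp (fpFst (BasedFunctor.comp y g) f) y) (fpSnd (BasedFunctor.comp y g) f)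
    (fpIso (BasedFunctor.comp y g) f)

/-- The pasting functor `𝒲 ×_𝒴 𝒳 ⟶ 𝒲 ×_𝒵 (𝒵 ×_𝒴 𝒳)`. -/
def pasteLeft : fp (BasedFunctor.comp y g) f ⥤ᵇ fp y (fpFst g f) :=
  fpLift (fpFst (BasedFunctor.comp y g) f) (pasteInner y g f) (Iso.refl _)

theorem pasteLeft_comp_fpFst :
    BasedFunctor.comp (pasteLeft y g f) (fpFst y (fpFst g f)) = fpFst (BasedFunctor.comp y g) f := rfl

theorem pasteLeft_comp_fpSnd :
    BasedFunctor.comp (pasteLeft y g f) (fpSnd y (fpFst g f)) = pasteInner y g f := rfl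

theorem pasteLeft_obj_iso_hom (x : (fp (BasedFunctor.comp y g) f).obj) :
    ((pasteLeft y g f).obj x).obj.iso.hom = 𝟙 (y.obj x.obj.fst) := rfl

theorem pasteInner_obj_iso_hom (x : (fp (BasedFunctor.comp y g) f).obj) :
    ((pasteInner y g f).obj x).obj.iso.hom = x.obj.iso.hom := rfl

theorem pasteLeft_faithful : (pasteLeft y g f).toFunctor.Faithful := by
  refine ⟨fun {x x'} k k' h => ?_⟩
  apply fp_hom_ext
  · exact congrArg (fun t => t.hom.fst) h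
  · exact congrArg (fun t => t.hom.snd.hom.snd) h

theorem pasteLeft_full : (pasteLeft y g f).toFunctor.Full := by
  refine ⟨fun {x x'} Θ => ?_⟩
  let a : x.obj.fst ⟶ x'.obj.fst := Θ.hom.fst
  let b : y.obj x.obj.fst ⟶ y.obj x'.obj.fst := Θ.hom.snd.hom.fst
  let c : x.obj.snd ⟶ x'.obj.snd := Θ.hom.snd.hom.snd
  have hw : y.map a ≫ 𝟙 (y.obj x'.obj.fst) = 𝟙 (y.obj x.obj.fst) ≫ b := Θ.hom.w
  rw [Category.comp_id, Category.id_comp] at hw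
  have hw2 : g.map b ≫ x'.obj.iso.hom = x.obj.iso.hom ≫ f.map c := Θ.hom.snd.hom.w
  have key : g.map (y.map a) ≫ x'.obj.iso.hom = x.obj.iso.hom ≫ f.map c := by
    rw [hw]; exact hw2
  refine ⟨ObjectProperty.homMk ⟨a, c, key⟩, ?_⟩
  apply fp_hom_ext
  · rfl
  · apply fp_hom_ext
    · exact hw
    · rfl

theorem pasteLeft_essSurj (z : (fp y (fpFst g f)).obj) :
    ∃ (x : (fp (BasedFunctor.comp y g) f).obj) (e : (pasteLeft y g f).obj x ≅ z),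
      (fp y (fpFst g f)).p.IsHomLift (𝟙 ((fp y (fpFst g f)).p.obj z)) e.hom := by
  -- components of `z`
  let u : 𝒲.obj := z.obj.fst
  let t : (fp g f).obj := z.obj.snd
  let ψ : y.obj u ≅ t.obj.fst := z.obj.iso
  have lψ : 𝒵.p.IsHomLift (𝟙 (𝒲.p.obj u)) ψ.hom := z.property
  have lφ : 𝒴.p.IsHomLift (𝟙 (𝒵.p.obj t.obj.fst)) t.obj.iso.hom := t.property
  have hS : 𝒵.p.obj t.obj.fst = 𝒲.p.obj u :=
    IsHomLift.codomain_eq 𝒵.p (𝟙 (𝒲.p.obj u)) ψ.hom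
  have lφ' : 𝒴.p.IsHomLift (𝟙 (𝒲.p.obj u)) t.obj.iso.hom := lift_id_transport hS _ lφ
  have lgψ : 𝒴.p.IsHomLift (𝟙 (𝒲.p.obj u)) (g.map ψ.hom) := inferInstance
  let χ : g.obj (y.obj u) ≅ f.obj t.obj.snd := g.toFunctor.mapIso ψ ≪≫ t.obj.iso
  have lχ : 𝒴.p.IsHomLift (𝟙 (𝒲.p.obj u)) χ.hom := lift_id_comp' _ _ lgψ lφ'
  let x : (fp (BasedFunctor.comp y g) f).obj := ⟨⟨u, t.obj.snd, χ⟩, lχ⟩
  -- the inner isomorphism
  let ι : (pasteInner y g f).obj x ≅ t :=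
    fpMkIso (x := (pasteInner y g f).obj x) (z := t) ψ (Iso.refl _) (by
      change g.map ψ.hom ≫ t.obj.iso.hom = χ.hom ≫ f.map (𝟙 _)
      rw [f.toFunctor.map_id, Category.comp_id]
      rfl)
  refine ⟨x, fpMkIso (x := (pasteLeft y g f).obj x) (z := z) (Iso.refl _) ι ?_, ?_⟩
  · change y.map (𝟙 u) ≫ ψ.hom = 𝟙 _ ≫ ψ.hom
    rw [y.toFunctor.map_id]
  · apply fpMkIso_lift
    exact IsHomLift.id rfl

/-- Pasting of 2-fibre products: `𝒲 ×_𝒴 𝒳 ⟶ 𝒲 ×_𝒵 (𝒵 ×_𝒴 𝒳)` is an equivalence over `C`. -/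
theorem isEquivOver_pasteLeft : IsEquivOver (pasteLeft y g f) := by
  rw [isEquivOver_iff]
  exact ⟨pasteLeft_full y g f, pasteLeft_faithful y g f, pasteLeft_essSurj y g f⟩

end PasteLeft

end Groth.Agent.Helper6.FpTools
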