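import Mathlib
import Groth.Prelude.Def_FibCat2
import Groth.Agent.Helper3.EquivOver
import Groth.Agent.Helper3.Fp
import Groth.Agent.Helper6.FpTools
import Groth.Agent.Helper6.FpCospan

/-!
# Helper6: formal properties of representable 1-morphisms
-/

set_option autoImplicit false
set_option linter.style.haveILetI false
universe v₇ u₇ v₆ u₆ v₅ u₅ v₄ u₄ v₃ u₃ v₂ u₂ v u

namespace Groth.Agent.Helper6.FpTools
open CategoryTheory Functor FibCat Limits
open Groth.Agent.Helper3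

variable {C : Type u} [Category.{v} C]

section Whisker

variable {𝒜 : BasedCategory.{v₂, u₂} C} {ℬ : BasedCategory.{v₃, u₃} C} {𝒟 : BasedCategory.{v₄, u₄} C}

/-- Left whiskering of a 2-isomorphism over `C`. -/
def whiskerLeftIso' (G : 𝒜 ⥤ᵇ ℬ) {F F' : ℬ ⥤ᵇ 𝒟} (e : F ≅ F') :
    BasedFunctor.comp G F ≅ BasedFunctor.comp G F' :=
  BasedNatIso.mkNatIso
    (isoWhiskerLeft G.toFunctor ((BasedNatTrans.forgetful _ _).mapIso e))
    (fun a => e.hom.isHomLift (G.w_obj a))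

/-- Right whiskering of a 2-isomorphism over `C`. -/
def whiskerRightIso' {G G' : 𝒜 ⥤ᵇ ℬ} (e : G ≅ G') (F : ℬ ⥤ᵇ 𝒟) :
    BasedFunctor.comp G F ≅ BasedFunctor.comp G' F :=
  BasedNatIso.mkNatIso
    (isoWhiskerRight ((BasedNatTrans.forgetful _ _).mapIso e) F.toFunctor)
    (fun a => by
      haveI : ℬ.p.IsHomLift (𝟙 (𝒜.p.obj a)) (e.hom.toNatTrans.app a) := e.hom.isHomLift rfl
      change 𝒟.p.IsHomLift (𝟙 (𝒜.p.obj a)) (F.map (e.hom.toNatTrans.app a))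
      infer_instance)

end Whisker

section Rep1

variable {𝒳 𝒴 𝒳' 𝒴' : BasedCategory.{v, max u v} C}

theorem isRepresentable1_of_square (f : 𝒳 ⥤ᵇ 𝒴) (f' : 𝒳' ⥤ᵇ 𝒴') (a : 𝒳' ⥤ᵇ 𝒳) (b : 𝒴' ⥤ᵇ 𝒴)
    (ha : IsEquivOver a) (hb : IsEquivOver b) (e : BasedFunctor.comp f' b ≅ BasedFunctor.comp a f)
    (hf : IsRepresentable1 f) : IsRepresentable1 f' := by
  intro U G'
  have θ : BasedFunctor.comp G' b ≅
      BasedFunctor.comp (BasedFunctor.id (overCat U)) (BasedFunctor.comp G' b) := Iso.refl _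
  exact isRepresentable_of_isEquivOver
    (cospanFunctor (BasedFunctor.comp G' b) f G' f' (BasedFunctor.id _) a b θ e)
    (isEquivOver_cospanFunctor _ _ _ _ _ _ _ θ e (isEquivOver_id _) ha hb) (hf U _)

theorem isRepresentable1_of_square' (f : 𝒳 ⥤ᵇ 𝒴) (f' : 𝒳' ⥤ᵇ 𝒴') (a : 𝒳' ⥤ᵇ 𝒳) (b : 𝒴' ⥤ᵇ 𝒴)
    (ha : IsEquivOver a) (hb : IsEquivOver b) (e : BasedFunctor.comp f' b ≅ BasedFunctor.comp a f)
    (hf' : IsRepresentable1 f') : IsRepresentable1 f := by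
  intro U G
  obtain ⟨c, hc, -, ⟨ε⟩⟩ := EquivOver.symm hb
  have θ : BasedFunctor.comp (BasedFunctor.comp G c) b ≅
      BasedFunctor.comp (BasedFunctor.id (overCat U)) G := whiskerLeftIso' G ε
  exact (isRepresentable_iff_of_isEquivOver
    (cospanFunctor G f (BasedFunctor.comp G c) f' (BasedFunctor.id _) a b θ e)
    (isEquivOver_cospanFunctor _ _ _ _ _ _ _ θ e (isEquivOver_id _) ha hb)).1 (hf' U _)

end Rep1

end Groth.Agent.Helper6.FpTools
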