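import Mathlib
import Groth.Prelude.Def_FibCat2
import Groth.Agent.Helper3.EquivOver
import Groth.Agent.Helper3.Fp
import Groth.Agent.Helper6.FpTools
import Groth.Agent.Helper6.FpCospan
import Groth.Agent.Helper6.FpRep
import Groth.Agent.Helper6.FpPaste

/-!
# Helper6: 2-fibre products and composition
-/

set_option autoImplicit false
set_option linter.style.haveILetI false
universe v₇ u₇ v₆ u₆ v₅ u₅ v₄ u₄ v₃ u₃ v₂ u₂ v u

namespace Groth.Agent.Helper6.FpTools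
open CategoryTheory Functor FibCat Limits
open Groth.Agent.Helper3

variable {C : Type u} [Category.{v} C]

section Comp

variable {𝒰 : BasedCategory.{v₂, u₂} C} {𝒵 : BasedCategory.{v₃, u₃} C} {𝒴 : BasedCategory.{v₄, u₄} C}
  {𝒳 : BasedCategory.{v₅, u₅} C} {𝒲 : BasedCategory.{v₆, u₆} C}
  (G : 𝒰 ⥤ᵇ 𝒵) (g : 𝒴 ⥤ᵇ 𝒵) (f : 𝒳 ⥤ᵇ 𝒴) (E' : 𝒲 ⥤ᵇ fp G g)

/-- The 2-isomorphism filling the composite square. -/
def compIso :
    BasedFunctor.comp (BasedFunctor.comp (fpFst (BasedFunctor.comp E' (fpSnd G g)) f)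
      (BasedFunctor.comp E' (fpFst G g))) G ≅
    BasedFunctor.comp (fpSnd (BasedFunctor.comp E' (fpSnd G g)) f) (BasedFunctor.comp f g) :=
  whiskerLeftIso' (BasedFunctor.comp (fpFst (BasedFunctor.comp E' (fpSnd G g)) f) E') (fpIso G g) ≪≫
    whiskerRightIso' (fpIso (BasedFunctor.comp E' (fpSnd G g)) f) g

/-- The comparison functor `𝒲 ×_𝒴 𝒳 ⟶ 𝒰 ×_𝒵 𝒳` for `𝒲 ≃ 𝒰 ×_𝒵 𝒴`. -/
def compFunctor : fp (BasedFunctor.comp E' (fpSnd G g)) f ⥤ᵇ fp G (BasedFunctor.comp f g) :=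
  fpLift (BasedFunctor.comp (fpFst (BasedFunctor.comp E' (fpSnd G g)) f)
      (BasedFunctor.comp E' (fpFst G g))) (fpSnd (BasedFunctor.comp E' (fpSnd G g)) f)
    (compIso G g f E')

theorem compFunctor_comp_fpFst :
    BasedFunctor.comp (compFunctor G g f E') (fpFst G (BasedFunctor.comp f g)) =
      BasedFunctor.comp (fpFst (BasedFunctor.comp E' (fpSnd G g)) f)
        (BasedFunctor.comp E' (fpFst G g)) := rfl

theorem compFunctor_obj_iso_hom (x : (fp (BasedFunctor.comp E' (fpSnd G g)) f).obj) :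
    ((compFunctor G g f E').obj x).obj.iso.hom =
      (E'.obj x.obj.fst).obj.iso.hom ≫ g.map x.obj.iso.hom := rfl

theorem compFunctor_faithful [E'.toFunctor.Faithful] : (compFunctor G g f E').toFunctor.Faithful := by
  refine ⟨fun {x x'} k k' h => ?_⟩
  have h1 : (E'.map k.hom.fst).hom.fst = (E'.map k'.hom.fst).hom.fst :=
    congrArg (fun t => t.hom.fst) h
  have h2 : k.hom.snd = k'.hom.snd := congrArg (fun t => t.hom.snd) h
  let ψ : (E'.obj x.obj.fst).obj.snd ≅ f.obj x.obj.snd := x.obj.iso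
  let ψ' : (E'.obj x'.obj.fst).obj.snd ≅ f.obj x'.obj.snd := x'.obj.iso
  apply fp_hom_ext
  · apply E'.toFunctor.map_injective
    apply fp_hom_ext h1
    have w : (E'.map k.hom.fst).hom.snd ≫ ψ'.hom = ψ.hom ≫ f.map k.hom.snd := k.hom.w
    have w' : (E'.map k'.hom.fst).hom.snd ≫ ψ'.hom = ψ.hom ≫ f.map k'.hom.snd := k'.hom.w
    change (E'.map k.hom.fst).hom.snd = (E'.map k'.hom.fst).hom.snd
    rw [← cancel_mono ψ'.hom, w, w', h2]
  · exact h2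

theorem compFunctor_full [E'.toFunctor.Full] : (compFunctor G g f E').toFunctor.Full := by
  refine ⟨fun {x x'} Θ => ?_⟩
  let ψ : (E'.obj x.obj.fst).obj.snd ≅ f.obj x.obj.snd := x.obj.iso
  let ψ' : (E'.obj x'.obj.fst).obj.snd ≅ f.obj x'.obj.snd := x'.obj.iso
  let α : (E'.obj x.obj.fst).obj.fst ⟶ (E'.obj x'.obj.fst).obj.fst := Θ.hom.fst
  let c : x.obj.snd ⟶ x'.obj.snd := Θ.hom.snd
  let β : (E'.obj x.obj.fst).obj.snd ⟶ (E'.obj x'.obj.fst).obj.snd :=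
    ψ.hom ≫ f.map c ≫ ψ'.inv
  have hw : G.map α ≫ (E'.obj x'.obj.fst).obj.iso.hom ≫ g.map ψ'.hom =
      ((E'.obj x.obj.fst).obj.iso.hom ≫ g.map ψ.hom) ≫ g.map (f.map c) := Θ.hom.w
  have hαβ : G.map α ≫ (E'.obj x'.obj.fst).obj.iso.hom =
      (E'.obj x.obj.fst).obj.iso.hom ≫ g.map β := by
    have h3 : g.map ψ'.hom ≫ g.map ψ'.inv = 𝟙 _ := (g.toFunctor.mapIso ψ').hom_inv_id
    have h4 := congrArg (fun t => t ≫ g.map ψ'.inv) hw
    simp only [Category.assoc] at h4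
    rw [h3, Category.comp_id] at h4
    rw [h4]
    change _ = _ ≫ g.toFunctor.map (ψ.hom ≫ f.map c ≫ ψ'.inv)
    rw [g.toFunctor.map_comp, g.toFunctor.map_comp]
  let Φ : E'.obj x.obj.fst ⟶ E'.obj x'.obj.fst := ObjectProperty.homMk ⟨α, β, hαβ⟩
  obtain ⟨a, ha⟩ := E'.toFunctor.map_surjective Φ
  have ha' : E'.map a = Φ := ha
  have key : (E'.map a).hom.snd ≫ ψ'.hom = ψ.hom ≫ f.map c := by
    rw [ha']
    change (ψ.hom ≫ f.map c ≫ ψ'.inv) ≫ ψ'.hom = _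
    simp only [Category.assoc, Iso.inv_hom_id, Category.comp_id]
  refine ⟨ObjectProperty.homMk ⟨a, c, key⟩, ?_⟩
  apply fp_hom_ext
  · change (E'.map a).hom.fst = α
    rw [ha']
    rfl
  · rfl

theorem compFunctor_essSurj (hE' : IsEquivOver E') (z : (fp G (BasedFunctor.comp f g)).obj) :
    ∃ (x : (fp (BasedFunctor.comp E' (fpSnd G g)) f).obj) (e : (compFunctor G g f E').obj x ≅ z),
      (fp G (BasedFunctor.comp f g)).p.IsHomLift (𝟙 ((fp G (BasedFunctor.comp f g)).p.obj z)) e.hom := by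
  let u : 𝒰.obj := z.obj.fst
  let x₀ : 𝒳.obj := z.obj.snd
  let χ : G.obj u ≅ g.obj (f.obj x₀) := z.obj.iso
  have lχ : 𝒵.p.IsHomLift (𝟙 (𝒰.p.obj u)) χ.hom := z.property
  let t : (fp G g).obj := ⟨⟨u, f.obj x₀, χ⟩, lχ⟩
  obtain ⟨v, ε, hε⟩ := EquivOver.exists_iso hE' t
  have hε' : (fp G g).p.IsHomLift (𝟙 (𝒰.p.obj u)) ε.hom := hε
  let ε₁ : (E'.obj v).obj.fst ≅ u := (fpFst G g).toFunctor.mapIso ε
  let ε₂ : (E'.obj v).obj.snd ≅ f.obj x₀ := (fpSnd G g).toFunctor.mapIso ε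
  have hε₁ : 𝒰.p.IsHomLift (𝟙 (𝒰.p.obj u)) ε₁.hom := Fp.fst_isHomLift G g _ ε.hom hε'
  have hε₂ : 𝒴.p.IsHomLift (𝟙 (𝒰.p.obj u)) ε₂.hom := Fp.snd_isHomLift G g _ ε.hom hε'
  have hvu : 𝒲.p.obj v = 𝒰.p.obj u :=
    (E'.w_obj v).symm.trans (IsHomLift.domain_eq (fp G g).p (𝟙 (𝒰.p.obj u)) ε.hom)
  have hε₂' : 𝒴.p.IsHomLift (𝟙 (𝒲.p.obj v)) ε₂.hom := lift_id_transport hvu.symm _ hε₂
  have hw : G.map ε₁.hom ≫ χ.hom = (E'.obj v).obj.iso.hom ≫ g.map ε₂.hom := ε.hom.hom.w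
  let x : (fp (BasedFunctor.comp E' (fpSnd G g)) f).obj := ⟨⟨v, x₀, ε₂⟩, hε₂'⟩
  refine ⟨x, fpMkIso (x := (compFunctor G g f E').obj x) (z := z) ε₁ (Iso.refl _) ?_, ?_⟩
  · rw [compFunctor_obj_iso_hom]
    change G.map ε₁.hom ≫ χ.hom = ((E'.obj v).obj.iso.hom ≫ g.map ε₂.hom) ≫ g.map (f.map (𝟙 x₀))
    rw [f.toFunctor.map_id, g.toFunctor.map_id, Category.comp_id]
    exact hw
  · apply fpMkIso_lift
    exact hε₁

/-- If `𝒲 ≃ 𝒰 ×_𝒵 𝒴` then `𝒲 ×_𝒴 𝒳 ≃ 𝒰 ×_𝒵 𝒳` (over `C`). -/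
theorem isEquivOver_compFunctor (hE' : IsEquivOver E') : IsEquivOver (compFunctor G g f E') := by
  obtain ⟨i1, i2, -⟩ := (isEquivOver_iff E').1 hE'
  rw [isEquivOver_iff]
  exact ⟨compFunctor_full G g f E', compFunctor_faithful G g f E', compFunctor_essSurj G g f E' hE'⟩

end Comp

end Groth.Agent.Helper6.FpTools
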