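import Mathlib
import Groth.Prelude.Def_FibCat2
import Groth.Prelude.Def_AlgSt2
import Groth.Agent.Helper3.EquivOver
import Groth.Agent.Helper3.Fp
import Groth.Agent.Helper6.FpTools
import Groth.Agent.Helper6.FpCospan
import Groth.Agent.Helper6.FpRep
import Groth.Agent.Helper6.FpPaste
import Groth.Agent.Helper6.FpComp

/-!
# Helper6: formal properties of `RepByAlgSpWith`
-/

set_option autoImplicit false
set_option linter.style.haveILetI false
universe w' v' w v u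

namespace Groth.Agent.Helper6.AlgStRep
open CategoryTheory Functor FibCat Limits AlgebraicGeometry Opposite
open Groth.Agent.Helper3 Groth.Agent.Helper6.FpTools

variable {S : Scheme.{u}}

theorem secHom_aux {D : Type*} [Category D] {X X' T U : D} (hX : T = X) (hX' : T = X') (l : X ⟶ X')
    (s : X ⟶ U) (s' : X' ⟶ U) (h1 : l ≫ s' = s) (h2 : l = eqToHom hX.symm ≫ 𝟙 T ≫ eqToHom hX') :
    eqToHom hX ≫ s = eqToHom hX' ≫ s' := by
  subst hX
  subst hX'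
  simp only [eqToHom_refl, Category.id_comp] at h2
  subst h2
  simpa using h1.symm

theorem secHom_congr {F : AlgSp.Sp S} {U : Over S} {Φ Φ' : AlgSt.ofSp F ⥤ᵇ FibCat.overCat U}
    (α : Φ ≅ Φ') (a : (AlgSt.ofSp F).obj) : AlgSt.secHom Φ a = AlgSt.secHom Φ' a := by
  let αa : Φ.obj a ⟶ Φ'.obj a := α.hom.toNatTrans.app a
  haveI hα : (FibCat.overCat U).p.IsHomLift (𝟙 ((AlgSt.ofSp F).p.obj a)) αa := α.hom.isHomLift' a
  have h1 : αa.left ≫ (Φ'.obj a).hom = (Φ.obj a).hom := Over.w αa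
  have h2 : αa.left = eqToHom (Φ.w_obj a) ≫ 𝟙 _ ≫ eqToHom (Φ'.w_obj a).symm :=
    IsHomLift.fac' (FibCat.overCat U).p (𝟙 ((AlgSt.ofSp F).p.obj a)) αa
  exact secHom_aux (Φ.w_obj a).symm (Φ'.w_obj a).symm αa.left _ _ h1 h2

/-- `spMapOfOver` only depends on the 2-isomorphism class of the functor. -/
theorem spMapOfOver_congr {F : AlgSp.Sp S} {U : Over S} {Φ Φ' : AlgSt.ofSp F ⥤ᵇ FibCat.overCat U}
    (α : Φ ≅ Φ') : AlgSt.spMapOfOver Φ = AlgSt.spMapOfOver Φ' := by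
  apply ObjectProperty.hom_ext
  ext T x
  change (⟨AlgSt.secHom Φ ⟨T.unop, x⟩⟩ : ULift _) = ⟨AlgSt.secHom Φ' ⟨T.unop, x⟩⟩
  rw [secHom_congr α]

section Transfer

variable {𝒜 : BasedCategory.{v, w} (Over S)} {ℬ : BasedCategory.{v', w'} (Over S)} {U : Over S}

/-- Transfer of a representation along an equivalence compatible with the maps to `(Sch/U)`. -/
theorem rep_transfer (P : MorphismProperty (AlgSp.Sp S)) (E : 𝒜 ⥤ᵇ ℬ) (hE : IsEquivOver E)
    (p : ℬ ⥤ᵇ FibCat.overCat U) (q : 𝒜 ⥤ᵇ FibCat.overCat U) (i : BasedFunctor.comp E p ≅ q)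
    (h : ∃ (F : AlgSp.Space S) (e : AlgSt.ofSp F.obj ⥤ᵇ 𝒜),
      IsEquivOver e ∧ P (AlgSt.spMapOfOver (BasedFunctor.comp e q))) :
    ∃ (F : AlgSp.Space S) (e : AlgSt.ofSp F.obj ⥤ᵇ ℬ),
      IsEquivOver e ∧ P (AlgSt.spMapOfOver (BasedFunctor.comp e p)) := by
  obtain ⟨F, e, he, hP⟩ := h
  refine ⟨F, BasedFunctor.comp e E, isEquivOver_comp he hE, ?_⟩
  have : AlgSt.spMapOfOver (BasedFunctor.comp (BasedFunctor.comp e E) p) =
      AlgSt.spMapOfOver (BasedFunctor.comp e q) :=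
    spMapOfOver_congr (whiskerLeftIso' e i)
  rw [this]
  exact hP

/-- Transfer of a representation backwards along an equivalence. -/
theorem rep_transfer' (P : MorphismProperty (AlgSp.Sp S)) (E : 𝒜 ⥤ᵇ ℬ) (hE : IsEquivOver E)
    (p : ℬ ⥤ᵇ FibCat.overCat U) (q : 𝒜 ⥤ᵇ FibCat.overCat U) (i : BasedFunctor.comp E p ≅ q)
    (h : ∃ (F : AlgSp.Space S) (e : AlgSt.ofSp F.obj ⥤ᵇ ℬ),
      IsEquivOver e ∧ P (AlgSt.spMapOfOver (BasedFunctor.comp e p))) :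
    ∃ (F : AlgSp.Space S) (e : AlgSt.ofSp F.obj ⥤ᵇ 𝒜),
      IsEquivOver e ∧ P (AlgSt.spMapOfOver (BasedFunctor.comp e q)) := by
  obtain ⟨K, hK, -, ⟨ε⟩⟩ := EquivOver.symm hE
  refine rep_transfer P K hK q p ?_ h
  -- `K ⋙ q ≅ K ⋙ E ⋙ p ≅ p`
  exact (whiskerLeftIso' K i).symm ≪≫ whiskerRightIso' ε p

end Transfer

end Groth.Agent.Helper6.AlgStRep
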