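import Mathlib
import Groth.Prelude.Def_FibCat2
import Groth.Agent.Helper3.EquivOver
import Groth.Agent.Helper3.Fp
import Groth.Agent.Helper3.FpDiag
import Groth.Agent.Helper6.FpTools
import Groth.Agent.Helper6.FpCospan
import Groth.Agent.Helper6.FpRep
import Groth.Agent.Helper6.FpPaste

/-!
# Helper6: the diagonal of a base change is a base change of the diagonal
-/

set_option autoImplicit false
set_option linter.style.haveILetI false
universe v₇ u₇ v₆ u₆ v₅ u₅ v₄ u₄ v₃ u₃ v₂ u₂ v u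

namespace Groth.Agent.Helper6.FpTools
open CategoryTheory Functor FibCat Limits
open Groth.Agent.Helper3

variable {C : Type u} [Category.{v} C]

section DiagBC

variable {𝒳 : BasedCategory.{v₂, u₂} C} {𝒴 : BasedCategory.{v₃, u₃} C} {𝒴' : BasedCategory.{v₄, u₄} C}
  (f : 𝒳 ⥤ᵇ 𝒴) (g : 𝒴' ⥤ᵇ 𝒴)

/-- The isomorphism component of an object of `𝒳' ×_{𝒴'} 𝒳'`, with its type unfolded. -/
def wIso (w : (fp (fpFst g f) (fpFst g f)).obj) : w.obj.fst.obj.fst ≅ w.obj.snd.obj.fst := w.obj.iso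

theorem wIso_lift (w : (fp (fpFst g f) (fpFst g f)).obj) :
    𝒴'.p.IsHomLift (𝟙 (𝒴'.p.obj w.obj.fst.obj.fst)) (wIso f g w).hom := w.property

theorem wIso_naturality {w w' : (fp (fpFst g f) (fpFst g f)).obj} (k : w ⟶ w') :
    k.hom.fst.hom.fst ≫ (wIso f g w').hom = (wIso f g w).hom ≫ k.hom.snd.hom.fst := k.hom.w

/-- The component of the 2-isomorphism defining `q`. -/
def qApp (w : (fp (fpFst g f) (fpFst g f)).obj) :
    f.obj w.obj.fst.obj.snd ≅ f.obj w.obj.snd.obj.snd :=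
  w.obj.fst.obj.iso.symm ≪≫ g.toFunctor.mapIso (wIso f g w) ≪≫ w.obj.snd.obj.iso

theorem qApp_hom (w : (fp (fpFst g f) (fpFst g f)).obj) :
    (qApp f g w).hom =
      w.obj.fst.obj.iso.inv ≫ g.map (wIso f g w).hom ≫ w.obj.snd.obj.iso.hom := rfl

theorem qApp_lift (w : (fp (fpFst g f) (fpFst g f)).obj) :
    𝒴.p.IsHomLift (𝟙 (𝒴'.p.obj w.obj.fst.obj.fst)) (qApp f g w).hom := by
  have h0 : 𝒴.p.IsHomLift (𝟙 (𝒴'.p.obj w.obj.fst.obj.fst)) w.obj.fst.obj.iso.hom :=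
    w.obj.fst.property
  haveI := h0
  have h1 : 𝒴.p.IsHomLift (𝟙 (𝒴'.p.obj w.obj.fst.obj.fst)) w.obj.fst.obj.iso.inv := inferInstance
  have h2 : 𝒴'.p.IsHomLift (𝟙 (𝒴'.p.obj w.obj.fst.obj.fst)) (wIso f g w).hom := wIso_lift f g w
  haveI := h2
  have h2' : 𝒴.p.IsHomLift (𝟙 (𝒴'.p.obj w.obj.fst.obj.fst)) (g.map (wIso f g w).hom) :=
    inferInstance
  have hS : 𝒴'.p.obj w.obj.snd.obj.fst = 𝒴'.p.obj w.obj.fst.obj.fst :=
    IsHomLift.codomain_eq 𝒴'.p (𝟙 (𝒴'.p.obj w.obj.fst.obj.fst)) (wIso f g w).hom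
  have h3 : 𝒴.p.IsHomLift (𝟙 (𝒴'.p.obj w.obj.fst.obj.fst)) w.obj.snd.obj.iso.hom :=
    lift_id_transport hS _ w.obj.snd.property
  rw [qApp_hom]
  exact lift_id_comp' _ _ h1 (lift_id_comp' _ _ h2' h3)

theorem qApp_naturality {w w' : (fp (fpFst g f) (fpFst g f)).obj} (k : w ⟶ w') :
    f.map k.hom.fst.hom.snd ≫ (qApp f g w').hom = (qApp f g w).hom ≫ f.map k.hom.snd.hom.snd := by
  rw [qApp_hom, qApp_hom]
  have n1 : f.map k.hom.fst.hom.snd ≫ w'.obj.fst.obj.iso.inv =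
      w.obj.fst.obj.iso.inv ≫ g.map k.hom.fst.hom.fst := by
    rw [Iso.comp_inv_eq, Category.assoc, Iso.eq_inv_comp]
    exact k.hom.fst.hom.w.symm
  have n2 : g.map k.hom.snd.hom.fst ≫ w'.obj.snd.obj.iso.hom =
      w.obj.snd.obj.iso.hom ≫ f.map k.hom.snd.hom.snd := k.hom.snd.hom.w
  have n3 : g.map k.hom.fst.hom.fst ≫ g.map (wIso f g w').hom =
      g.map (wIso f g w).hom ≫ g.map k.hom.snd.hom.fst := by
    rw [← g.toFunctor.map_comp, ← g.toFunctor.map_comp]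
    exact congrArg _ (wIso_naturality f g k)
  exact nat_aux _ _ _ _ _ _ _ _ _ _ n1 n3 n2

/-- The 2-isomorphism defining `q`. -/
def qIso :
    BasedFunctor.comp (BasedFunctor.comp (fpFst (fpFst g f) (fpFst g f)) (fpSnd g f)) f ≅
      BasedFunctor.comp (BasedFunctor.comp (fpSnd (fpFst g f) (fpFst g f)) (fpSnd g f)) f :=
  BasedNatIso.mkNatIso
    (NatIso.ofComponents (fun w => qApp f g w) (fun {w w'} k => qApp_naturality f g k))
    (fun w => qApp_lift f g w)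

/-- The functor `𝒳' ×_{𝒴'} 𝒳' ⟶ 𝒳 ×_𝒴 𝒳` for `𝒳' = 𝒴' ×_𝒴 𝒳`. -/
def qFunctor : fp (fpFst g f) (fpFst g f) ⥤ᵇ fp f f :=
  fpLift (BasedFunctor.comp (fpFst (fpFst g f) (fpFst g f)) (fpSnd g f))
    (BasedFunctor.comp (fpSnd (fpFst g f) (fpFst g f)) (fpSnd g f)) (qIso f g)

theorem qFunctor_obj_iso_hom (w : (fp (fpFst g f) (fpFst g f)).obj) :
    ((qFunctor f g).obj w).obj.iso.hom = (qApp f g w).hom := rfl

theorem qApp_diag (t : (fp g f).obj) : (qApp f g ((diag (fpFst g f)).obj t)).hom = 𝟙 _ := by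
  change t.obj.iso.inv ≫ g.map (𝟙 t.obj.fst) ≫ t.obj.iso.hom = 𝟙 _
  have : g.map (𝟙 t.obj.fst) = 𝟙 _ := g.toFunctor.map_id _
  rw [this, Category.id_comp, Iso.inv_hom_id]

/-- The 2-isomorphism filling the diagonal square. -/
def diagBCIso :
    BasedFunctor.comp (diag (fpFst g f)) (qFunctor f g) ≅ BasedFunctor.comp (fpSnd g f) (diag f) :=
  BasedNatIso.mkNatIso
    (NatIso.ofComponents
      (fun t => fpMkIso (x := (qFunctor f g).obj ((diag (fpFst g f)).obj t))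
        (z := (diag f).obj t.obj.snd) (Iso.refl _) (Iso.refl _) (by
          rw [qFunctor_obj_iso_hom, qApp_diag]
          change f.map (𝟙 _) ≫ 𝟙 _ = 𝟙 _ ≫ f.map (𝟙 _)
          rw [Category.comp_id, Category.id_comp]))
      (fun {t t'} k => by
        apply fp_hom_ext
        · change k.hom.snd ≫ 𝟙 _ = 𝟙 _ ≫ k.hom.snd
          rw [Category.comp_id, Category.id_comp]
        · change k.hom.snd ≫ 𝟙 _ = 𝟙 _ ≫ k.hom.snd
          rw [Category.comp_id, Category.id_comp]))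
    (fun t => by
      apply fpMkIso_lift
      exact IsHomLift.id (Fp.snd_obj_eq g f t))

/-- The comparison functor `𝒳' ⟶ (𝒳' ×_{𝒴'} 𝒳') ×_{𝒳 ×_𝒴 𝒳} 𝒳`. -/
def diagBC : fp g f ⥤ᵇ fp (qFunctor f g) (diag f) :=
  fpLift (diag (fpFst g f)) (fpSnd g f) (diagBCIso f g)

theorem diagBC_comp_fpFst :
    BasedFunctor.comp (diagBC f g) (fpFst (qFunctor f g) (diag f)) = diag (fpFst g f) := rfl

theorem diagBC_faithful : (diagBC f g).toFunctor.Faithful := by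
  refine ⟨fun {t t'} k k' h => ?_⟩
  exact congrArg (fun m => m.hom.fst.hom.fst) h

theorem diagBC_full : (diagBC f g).toFunctor.Full := by
  refine ⟨fun {t t'} Θ => ?_⟩
  let k₁ : t ⟶ t' := Θ.hom.fst.hom.fst
  let k₂ : t ⟶ t' := Θ.hom.fst.hom.snd
  let c : t.obj.snd ⟶ t'.obj.snd := Θ.hom.snd
  have h12 : k₁.hom.fst = k₂.hom.fst := by
    have := Θ.hom.fst.hom.w
    change k₁.hom.fst ≫ 𝟙 _ = 𝟙 _ ≫ k₂.hom.fst at this
    rwa [Category.comp_id, Category.id_comp] at this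
  have hw := Θ.hom.w
  have h1 : k₁.hom.snd = c := by
    have := congrArg (fun m => m.hom.fst) hw
    change k₁.hom.snd ≫ 𝟙 _ = 𝟙 _ ≫ c at this
    rwa [Category.comp_id, Category.id_comp] at this
  have h2 : k₂.hom.snd = c := by
    have := congrArg (fun m => m.hom.snd) hw
    change k₂.hom.snd ≫ 𝟙 _ = 𝟙 _ ≫ c at this
    rwa [Category.comp_id, Category.id_comp] at this
  have hk : k₁ = k₂ := fp_hom_ext h12 (h1.trans h2.symm)
  refine ⟨k₁, ?_⟩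
  apply fp_hom_ext
  · apply fp_hom_ext
    · rfl
    · exact hk
  · exact h1

theorem kappa_aux {D : Type u₂} [Category.{v₂} D] {A B P Q X : D} (a : A ≅ P) (m : A ⟶ B) (b : B ⟶ Q)
    (c₁ : P ⟶ X) (c₂ : Q ≅ X) (h : c₁ ≫ 𝟙 X = (a.inv ≫ m ≫ b) ≫ c₂.hom) :
    m ≫ b = a.hom ≫ c₁ ≫ c₂.inv := by
  rw [Category.comp_id] at h
  rw [h]
  simp

theorem diagBC_essSurj (z : (fp (qFunctor f g) (diag f)).obj) :
    ∃ (t : (fp g f).obj) (e : (diagBC f g).obj t ≅ z),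
      (fp (qFunctor f g) (diag f)).p.IsHomLift (𝟙 ((fp (qFunctor f g) (diag f)).p.obj z)) e.hom := by
  let w : (fp (fpFst g f) (fpFst g f)).obj := z.obj.fst
  let x : 𝒳.obj := z.obj.snd
  let γ₁ : w.obj.fst.obj.snd ≅ x := (fpFst f f).toFunctor.mapIso z.obj.iso
  let γ₂ : w.obj.snd.obj.snd ≅ x := (fpSnd f f).toFunctor.mapIso z.obj.iso
  have hγ : f.map γ₁.hom ≫ 𝟙 _ = (qApp f g w).hom ≫ f.map γ₂.hom := z.obj.iso.hom.hom.w
  have hκ : g.map (wIso f g w).hom ≫ w.obj.snd.obj.iso.hom =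
      w.obj.fst.obj.iso.hom ≫ f.map (γ₁.hom ≫ γ₂.inv) := by
    rw [f.toFunctor.map_comp]
    exact kappa_aux w.obj.fst.obj.iso _ _ _ (f.toFunctor.mapIso γ₂) hγ
  let κ : w.obj.fst ≅ w.obj.snd := fpMkIso (wIso f g w) (γ₁ ≪≫ γ₂.symm) hκ
  let t : (fp g f).obj := w.obj.fst
  let ι₁ : (diag (fpFst g f)).obj t ≅ w :=
    fpMkIso (x := (diag (fpFst g f)).obj t) (z := w) (Iso.refl _) κ (by
      change 𝟙 _ ≫ (wIso f g w).hom = 𝟙 _ ≫ (wIso f g w).hom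
      rfl)
  refine ⟨t, fpMkIso (x := (diagBC f g).obj t) (z := z) ι₁ γ₁ ?_, ?_⟩
  · apply fp_hom_ext
    · change 𝟙 _ ≫ γ₁.hom = 𝟙 _ ≫ γ₁.hom
      rfl
    · change (γ₁.hom ≫ γ₂.inv) ≫ γ₂.hom = 𝟙 _ ≫ γ₁.hom
      rw [Category.assoc, Iso.inv_hom_id, Category.comp_id, Category.id_comp]
  · apply fpMkIso_lift
    apply fpMkIso_lift
    exact IsHomLift.id rfl

/-- The diagonal of the base change `𝒴' ×_𝒴 𝒳 ⟶ 𝒴'` is a base change of the diagonal of `f`. -/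
theorem isEquivOver_diagBC : IsEquivOver (diagBC f g) := by
  rw [isEquivOver_iff]
  exact ⟨diagBC_full f g, diagBC_faithful f g, diagBC_essSurj f g⟩

end DiagBC

end Groth.Agent.Helper6.FpTools
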