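import Mathlib
import Groth.Prelude.Def_FibCat2
import Groth.Agent.Helper3.EquivOver
import Groth.Agent.Helper3.Fp
import Groth.Agent.Helper3.FpDiag
import Groth.Agent.Helper6.FpTools
import Groth.Agent.Helper6.FpCospan
import Groth.Agent.Helper6.FpRep
import Groth.Agent.Helper6.FpPaste
import Groth.Agent.Helper6.FpDiagBC

/-!
# Helper6: the graph of a morphism is a base change of the diagonal
-/

set_option autoImplicit false
set_option linter.style.haveILetI false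
universe v₇ u₇ v₆ u₆ v₅ u₅ v₄ u₄ v₃ u₃ v₂ u₂ v u

namespace Groth.Agent.Helper6.FpTools
open CategoryTheory Functor FibCat Limits
open Groth.Agent.Helper3

variable {C : Type u} [Category.{v} C]

section Graph

variable {𝒳 : BasedCategory.{v₂, u₂} C} {𝒴 : BasedCategory.{v₃, u₃} C} {𝒯 : BasedCategory.{v₄, u₄} C}
  (p : 𝒳 ⥤ᵇ 𝒯) (q : 𝒴 ⥤ᵇ 𝒯) (g : 𝒳 ⥤ᵇ 𝒴)
  (e : BasedFunctor.comp (BasedFunctor.id 𝒳) p ≅ BasedFunctor.comp g q)

/-- The component of `e` with unfolded type. -/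
def eApp (x : 𝒳.obj) : p.obj x ≅ q.obj (g.obj x) := appIso e x

theorem eApp_lift (x : 𝒳.obj) : 𝒯.p.IsHomLift (𝟙 (𝒳.p.obj x)) (eApp p q g e x).hom :=
  appIso_hom_lift e x rfl

theorem eApp_naturality {x x' : 𝒳.obj} (k : x ⟶ x') :
    p.map k ≫ (eApp p q g e x').hom = (eApp p q g e x).hom ≫ q.map (g.map k) :=
  appIso_hom_naturality e k

/-- The component of the 2-isomorphism defining `g × id`. -/
def gqApp (w : (fp p q).obj) : q.obj (g.obj w.obj.fst) ≅ q.obj w.obj.snd :=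
  (eApp p q g e w.obj.fst).symm ≪≫ w.obj.iso

theorem gqApp_hom (w : (fp p q).obj) :
    (gqApp p q g e w).hom = (eApp p q g e w.obj.fst).inv ≫ w.obj.iso.hom := rfl

theorem gqApp_lift (w : (fp p q).obj) :
    𝒯.p.IsHomLift (𝟙 (𝒳.p.obj w.obj.fst)) (gqApp p q g e w).hom := by
  haveI := eApp_lift p q g e w.obj.fst
  have h1 : 𝒯.p.IsHomLift (𝟙 (𝒳.p.obj w.obj.fst)) (eApp p q g e w.obj.fst).inv := inferInstance
  have h2 : 𝒯.p.IsHomLift (𝟙 (𝒳.p.obj w.obj.fst)) w.obj.iso.hom := w.property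
  rw [gqApp_hom]
  exact lift_id_comp' _ _ h1 h2

theorem gqApp_naturality {w w' : (fp p q).obj} (k : w ⟶ w') :
    q.map (g.map k.hom.fst) ≫ (gqApp p q g e w').hom = (gqApp p q g e w).hom ≫ q.map k.hom.snd := by
  rw [gqApp_hom, gqApp_hom]
  have n1 : q.map (g.map k.hom.fst) ≫ (eApp p q g e w'.obj.fst).inv =
      (eApp p q g e w.obj.fst).inv ≫ p.map k.hom.fst := by
    rw [Iso.comp_inv_eq, Category.assoc, Iso.eq_inv_comp]
    exact (eApp_naturality p q g e k.hom.fst).symm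
  have n2 : p.map k.hom.fst ≫ w'.obj.iso.hom = w.obj.iso.hom ≫ q.map k.hom.snd := k.hom.w
  rw [← Category.assoc, n1, Category.assoc, n2, Category.assoc]

/-- The 2-isomorphism defining `g × id`. -/
def gqIso :
    BasedFunctor.comp (BasedFunctor.comp (fpFst p q) g) q ≅ BasedFunctor.comp (fpSnd p q) q :=
  BasedNatIso.mkNatIso
    (NatIso.ofComponents (fun w => gqApp p q g e w) (fun {w w'} k => gqApp_naturality p q g e k))
    (fun w => gqApp_lift p q g e w)

/-- The functor `g × id : 𝒳 ×_𝒯 𝒴 ⟶ 𝒴 ×_𝒯 𝒴`. -/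
def gqFunctor : fp p q ⥤ᵇ fp q q :=
  fpLift (BasedFunctor.comp (fpFst p q) g) (fpSnd p q) (gqIso p q g e)

theorem gqFunctor_obj_iso_hom (w : (fp p q).obj) :
    ((gqFunctor p q g e).obj w).obj.iso.hom = (gqApp p q g e w).hom := rfl

/-- The graph of `g`. -/
abbrev graph : 𝒳 ⥤ᵇ fp p q := fpLift (BasedFunctor.id 𝒳) g e

theorem graph_obj_iso_hom (x : 𝒳.obj) :
    ((graph p q g e).obj x).obj.iso.hom = (eApp p q g e x).hom := rfl

theorem gqApp_graph (x : 𝒳.obj) : (gqApp p q g e ((graph p q g e).obj x)).hom = 𝟙 _ := by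
  change (eApp p q g e x).inv ≫ (eApp p q g e x).hom = 𝟙 _
  rw [Iso.inv_hom_id]

/-- The 2-isomorphism filling the graph square. -/
def graphIso :
    BasedFunctor.comp (graph p q g e) (gqFunctor p q g e) ≅ BasedFunctor.comp g (diag q) :=
  BasedNatIso.mkNatIso
    (NatIso.ofComponents
      (fun x => fpMkIso (x := (gqFunctor p q g e).obj ((graph p q g e).obj x))
        (z := (diag q).obj (g.obj x)) (Iso.refl _) (Iso.refl _) (by
          rw [gqFunctor_obj_iso_hom, gqApp_graph]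
          change q.map (𝟙 _) ≫ 𝟙 _ = 𝟙 _ ≫ q.map (𝟙 _)
          rw [Category.comp_id, Category.id_comp]))
      (fun {x x'} k => by
        apply fp_hom_ext
        · change g.map k ≫ 𝟙 _ = 𝟙 _ ≫ g.map k
          rw [Category.comp_id, Category.id_comp]
        · change g.map k ≫ 𝟙 _ = 𝟙 _ ≫ g.map k
          rw [Category.comp_id, Category.id_comp]))
    (fun x => by
      apply fpMkIso_lift
      exact IsHomLift.id (g.w_obj x))

/-- The comparison functor `𝒳 ⟶ (𝒳 ×_𝒯 𝒴) ×_{𝒴 ×_𝒯 𝒴} 𝒴`. -/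
def graphBC : 𝒳 ⥤ᵇ fp (gqFunctor p q g e) (diag q) :=
  fpLift (graph p q g e) g (graphIso p q g e)

theorem graphBC_comp_fpFst :
    BasedFunctor.comp (graphBC p q g e) (fpFst (gqFunctor p q g e) (diag q)) = graph p q g e := rfl

theorem graphBC_faithful : (graphBC p q g e).toFunctor.Faithful := by
  refine ⟨fun {x x'} k k' h => ?_⟩
  exact congrArg (fun m => m.hom.fst.hom.fst) h

theorem graphBC_full : (graphBC p q g e).toFunctor.Full := by
  refine ⟨fun {x x'} Θ => ?_⟩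
  let k : x ⟶ x' := Θ.hom.fst.hom.fst
  let l : g.obj x ⟶ g.obj x' := Θ.hom.fst.hom.snd
  let c : g.obj x ⟶ g.obj x' := Θ.hom.snd
  have hw := Θ.hom.w
  have h1 : g.map k = c := by
    have := congrArg (fun m => m.hom.fst) hw
    change g.map k ≫ 𝟙 _ = 𝟙 _ ≫ c at this
    rwa [Category.comp_id, Category.id_comp] at this
  have h2 : l = c := by
    have := congrArg (fun m => m.hom.snd) hw
    change l ≫ 𝟙 _ = 𝟙 _ ≫ c at this
    rwa [Category.comp_id, Category.id_comp] at this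
  refine ⟨k, ?_⟩
  apply fp_hom_ext
  · apply fp_hom_ext
    · rfl
    · exact h1.trans h2.symm
  · exact h1

theorem graph_aux {D : Type u₂} [Category.{v₂} D] {A P Q X : D} (a : A ≅ P) (α : A ⟶ Q)
    (c₁ : P ⟶ X) (c₂ : Q ≅ X) (h : c₁ ≫ 𝟙 X = (a.inv ≫ α) ≫ c₂.hom) :
    α = a.hom ≫ c₁ ≫ c₂.inv := by
  rw [Category.comp_id] at h
  rw [h]
  simp

theorem graphBC_essSurj (z : (fp (gqFunctor p q g e) (diag q)).obj) :
    ∃ (x : 𝒳.obj) (ε : (graphBC p q g e).obj x ≅ z),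
      (fp (gqFunctor p q g e) (diag q)).p.IsHomLift
        (𝟙 ((fp (gqFunctor p q g e) (diag q)).p.obj z)) ε.hom := by
  let w : (fp p q).obj := z.obj.fst
  let y' : 𝒴.obj := z.obj.snd
  let γ₁ : g.obj w.obj.fst ≅ y' := (fpFst q q).toFunctor.mapIso z.obj.iso
  let γ₂ : w.obj.snd ≅ y' := (fpSnd q q).toFunctor.mapIso z.obj.iso
  have hγ : q.map γ₁.hom ≫ 𝟙 _ = (gqApp p q g e w).hom ≫ q.map γ₂.hom := z.obj.iso.hom.hom.w
  let x : 𝒳.obj := w.obj.fst
  have hκ : p.map (𝟙 x) ≫ w.obj.iso.hom = (eApp p q g e x).hom ≫ q.map (γ₁.hom ≫ γ₂.inv) := by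
    rw [p.toFunctor.map_id, Category.id_comp, q.toFunctor.map_comp]
    exact graph_aux (eApp p q g e x) _ _ (q.toFunctor.mapIso γ₂) hγ
  let ι₁ : (graph p q g e).obj x ≅ w :=
    fpMkIso (x := (graph p q g e).obj x) (z := w) (Iso.refl _) (γ₁ ≪≫ γ₂.symm) hκ
  refine ⟨x, fpMkIso (x := (graphBC p q g e).obj x) (z := z) ι₁ γ₁ ?_, ?_⟩
  · apply fp_hom_ext
    · change g.map (𝟙 x) ≫ γ₁.hom = 𝟙 _ ≫ γ₁.hom
      rw [g.toFunctor.map_id]
    · change (γ₁.hom ≫ γ₂.inv) ≫ γ₂.hom = 𝟙 _ ≫ γ₁.hom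
      rw [Category.assoc, Iso.inv_hom_id, Category.comp_id, Category.id_comp]
  · apply fpMkIso_lift
    apply fpMkIso_lift
    exact IsHomLift.id rfl

/-- The graph of `g` is a base change of the diagonal of `q`. -/
theorem isEquivOver_graphBC : IsEquivOver (graphBC p q g e) := by
  rw [isEquivOver_iff]
  exact ⟨graphBC_full p q g e, graphBC_faithful p q g e, graphBC_essSurj p q g e⟩

end Graph

end Groth.Agent.Helper6.FpTools
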