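import Mathlib
import Groth.Prelude.Def_FibCat2
import Groth.Prelude.Def_AlgSt2
import Groth.Agent.Helper6.AlgStRep
import Groth.Agent.Helper6.FpDiagBC
import Groth.Agent.Helper6.FpGraph

/-!
# Helper6: `RepByAlgSpWith` passes to base changes (general form), graphs
-/

set_option autoImplicit false
set_option linter.style.haveILetI false
universe u

namespace Groth.Agent.Helper6.AlgStBC
open CategoryTheory Functor FibCat Limits AlgebraicGeometry Opposite
open Groth.Agent.Helper3 Groth.Agent.Helper6.FpTools Groth.Agent.Helper6.AlgStRep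

variable {S : Scheme.{u}}

/-- If `h` is (equivalent to) a base change of `d`, then `h` inherits `RepByAlgSpWith P` from `d`. -/
theorem repByAlgSpWith_of_baseChange (P : MorphismProperty (AlgSp.Sp S)) {𝒜 ℬ 𝒲 𝒲' : AlgSt.Cat S}
    (d : 𝒜 ⥤ᵇ ℬ) (q' : 𝒲' ⥤ᵇ ℬ) (h : 𝒲 ⥤ᵇ 𝒲') (E : 𝒲 ⥤ᵇ FibCat.fp q' d) (hE : IsEquivOver E)
    (i : BasedFunctor.comp E (FibCat.fpFst q' d) ≅ h) (hd : AlgSt.RepByAlgSpWith P d) :
    AlgSt.RepByAlgSpWith P h := by
  intro U y
  have hA := rep_transfer P (pasteLeft y q' d) (isEquivOver_pasteLeft y q' d)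
    (FibCat.fpFst y (FibCat.fpFst q' d)) (FibCat.fpFst (BasedFunctor.comp y q') d) (Iso.refl _)
    (hd U (BasedFunctor.comp y q'))
  have θ : BasedFunctor.comp y (BasedFunctor.id _) ≅
      BasedFunctor.comp (BasedFunctor.id (FibCat.overCat U)) y := Iso.refl _
  have η : BasedFunctor.comp h (BasedFunctor.id _) ≅
      BasedFunctor.comp E (FibCat.fpFst q' d) := i.symm
  exact rep_transfer' P
    (cospanFunctor y (FibCat.fpFst q' d) y h (BasedFunctor.id _) E (BasedFunctor.id _) θ η)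
    (isEquivOver_cospanFunctor _ _ _ _ _ _ _ θ η (isEquivOver_id _) hE (isEquivOver_id _))
    (FibCat.fpFst y (FibCat.fpFst q' d)) (FibCat.fpFst y h) (Iso.refl _) hA

/-- The graph of `g` inherits the properties of the diagonal of `q`. -/
theorem repByAlgSpWith_graph (P : MorphismProperty (AlgSp.Sp S)) {𝒳 𝒴 𝒯 : AlgSt.Cat S}
    (p : 𝒳 ⥤ᵇ 𝒯) (q : 𝒴 ⥤ᵇ 𝒯) (g : 𝒳 ⥤ᵇ 𝒴)
    (e : BasedFunctor.comp (BasedFunctor.id 𝒳) p ≅ BasedFunctor.comp g q)
    (hq : AlgSt.RepByAlgSpWith P (FibCat.diag q)) :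
    AlgSt.RepByAlgSpWith P (FibCat.fpLift (BasedFunctor.id 𝒳) g e) :=
  repByAlgSpWith_of_baseChange P (FibCat.diag q) (gqFunctor p q g e)
    (FibCat.fpLift (BasedFunctor.id 𝒳) g e) (graphBC p q g e) (isEquivOver_graphBC p q g e)
    (Iso.refl _) hq

end Groth.Agent.Helper6.AlgStBC
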