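import Mathlib
import Groth.Prelude.Def_FibCat2
import Groth.Agent.Helper3.EquivOver
import Groth.Agent.Helper3.Fp
import Groth.Agent.Helper3.FpDiag
import Groth.Agent.Helper6.FpTools
import Groth.Agent.Helper6.FpCospan
import Groth.Agent.Helper6.FpRep
import Groth.Agent.Helper6.FpPaste
import Groth.Agent.Helper6.FpDiagBC

/-!
# Helper6: the comparison `𝒳 ×_𝒵 𝒴 ⟶ 𝒳 ×_𝒯 𝒴` is a base change of the diagonal of `𝒵 ⟶ 𝒯`
-/

set_option autoImplicit false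
set_option linter.style.haveILetI false
universe v₇ u₇ v₆ u₆ v₅ u₅ v₄ u₄ v₃ u₃ v₂ u₂ v u

namespace Groth.Agent.Helper6.FpTools
open CategoryTheory Functor FibCat Limits
open Groth.Agent.Helper3

variable {C : Type u} [Category.{v} C]

section Compare

variable {𝒳 : BasedCategory.{v₂, u₂} C} {𝒴 : BasedCategory.{v₃, u₃} C} {𝒵 : BasedCategory.{v₄, u₄} C}
  {𝒯 : BasedCategory.{v₅, u₅} C}
  (f : 𝒳 ⥤ᵇ 𝒵) (g : 𝒴 ⥤ᵇ 𝒵) (t : 𝒵 ⥤ᵇ 𝒯)
  (e : BasedFunctor.comp (fpFst f g) (BasedFunctor.comp f t) ≅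
    BasedFunctor.comp (fpSnd f g) (BasedFunctor.comp g t))
  (he : ∀ x, e.hom.toNatTrans.app x = t.map x.obj.iso.hom)

/-- The comparison functor. -/
abbrev cmp : fp f g ⥤ᵇ fp (BasedFunctor.comp f t) (BasedFunctor.comp g t) :=
  fpLift (fpFst f g) (fpSnd f g) e

/-- The functor `𝒳 ×_𝒯 𝒴 ⟶ 𝒵 ×_𝒯 𝒵`. -/
def cmpQ : fp (BasedFunctor.comp f t) (BasedFunctor.comp g t) ⥤ᵇ fp t t :=
  fpLift (BasedFunctor.comp (fpFst (BasedFunctor.comp f t) (BasedFunctor.comp g t)) f)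
    (BasedFunctor.comp (fpSnd (BasedFunctor.comp f t) (BasedFunctor.comp g t)) g)
    (fpIso (BasedFunctor.comp f t) (BasedFunctor.comp g t))

theorem cmpQ_obj_iso_hom (w : (fp (BasedFunctor.comp f t) (BasedFunctor.comp g t)).obj) :
    ((cmpQ f g t).obj w).obj.iso.hom = w.obj.iso.hom := rfl

/-- The isomorphism of an object of `𝒳 ×_𝒵 𝒴`. -/
def zIso (w : (fp f g).obj) : f.obj w.obj.fst ≅ g.obj w.obj.snd := w.obj.iso

include he in
theorem cmp_obj_iso_hom (w : (fp f g).obj) :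
    ((cmp f g t e).obj w).obj.iso.hom = t.map (zIso f g w).hom := he w

include he in
/-- The 2-isomorphism filling the comparison square. -/
def cmpIso :
    BasedFunctor.comp (cmp f g t e) (cmpQ f g t) ≅
      BasedFunctor.comp (BasedFunctor.comp (fpFst f g) f) (diag t) :=
  BasedNatIso.mkNatIso
    (NatIso.ofComponents
      (fun w => fpMkIso (x := (cmpQ f g t).obj ((cmp f g t e).obj w))
        (z := (diag t).obj (f.obj w.obj.fst)) (Iso.refl _) (zIso f g w).symm (by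
          rw [cmpQ_obj_iso_hom, cmp_obj_iso_hom f g t e he]
          change t.map (𝟙 _) ≫ 𝟙 _ = t.map (zIso f g w).hom ≫ t.map (zIso f g w).inv
          rw [← t.toFunctor.map_comp, Iso.hom_inv_id, Category.comp_id]))
      (fun {w w'} k => by
        apply fp_hom_ext
        · change f.map k.hom.fst ≫ 𝟙 _ = 𝟙 _ ≫ f.map k.hom.fst
          rw [Category.comp_id, Category.id_comp]
        · change g.map k.hom.snd ≫ (zIso f g w').inv = (zIso f g w).inv ≫ f.map k.hom.fst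
          rw [Iso.comp_inv_eq, Category.assoc, Iso.eq_inv_comp]
          exact k.hom.w.symm))
    (fun w => by
      apply fpMkIso_lift
      exact IsHomLift.id (f.w_obj _))

/-- The comparison functor `𝒳 ×_𝒵 𝒴 ⟶ (𝒳 ×_𝒯 𝒴) ×_{𝒵 ×_𝒯 𝒵} 𝒵`. -/
def cmpBC : fp f g ⥤ᵇ fp (cmpQ f g t) (diag t) :=
  fpLift (cmp f g t e) (BasedFunctor.comp (fpFst f g) f) (cmpIso f g t e he)

theorem cmpBC_comp_fpFst :
    BasedFunctor.comp (cmpBC f g t e he) (fpFst (cmpQ f g t) (diag t)) = cmp f g t e := rfl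

theorem cmpBC_faithful : (cmpBC f g t e he).toFunctor.Faithful := by
  refine ⟨fun {w w'} k k' h => ?_⟩
  apply fp_hom_ext
  · exact congrArg (fun m => m.hom.fst.hom.fst) h
  · exact congrArg (fun m => m.hom.fst.hom.snd) h

theorem cmpBC_full : (cmpBC f g t e he).toFunctor.Full := by
  refine ⟨fun {w w'} Θ => ?_⟩
  let a : w.obj.fst ⟶ w'.obj.fst := Θ.hom.fst.hom.fst
  let b : w.obj.snd ⟶ w'.obj.snd := Θ.hom.fst.hom.snd
  let c : f.obj w.obj.fst ⟶ f.obj w'.obj.fst := Θ.hom.snd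
  have hw := Θ.hom.w
  have h1 : f.map a = c := by
    have := congrArg (fun m => m.hom.fst) hw
    change f.map a ≫ 𝟙 _ = 𝟙 _ ≫ c at this
    rwa [Category.comp_id, Category.id_comp] at this
  have h2 : g.map b ≫ (zIso f g w').inv = (zIso f g w).inv ≫ c := congrArg (fun m => m.hom.snd) hw
  have key : f.map a ≫ (zIso f g w').hom = (zIso f g w).hom ≫ g.map b := by
    rw [h1, ← Iso.inv_comp_eq, ← Category.assoc, ← h2, Category.assoc, Iso.inv_hom_id,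
      Category.comp_id]
  refine ⟨ObjectProperty.homMk ⟨a, b, key⟩, ?_⟩
  apply fp_hom_ext
  · apply fp_hom_ext
    · rfl
    · rfl
  · exact h1

theorem cmp_aux {D : Type u₂} [Category.{v₂} D] {A B X : D} (α : A ⟶ B) (c₁ : A ⟶ X) (c₂ : B ≅ X)
    (h : c₁ ≫ 𝟙 X = α ≫ c₂.hom) : α = c₁ ≫ c₂.inv := by
  rw [Category.comp_id] at h
  rw [h]
  simp

theorem cmpBC_essSurj (z : (fp (cmpQ f g t) (diag t)).obj) :
    ∃ (w : (fp f g).obj) (ε : (cmpBC f g t e he).obj w ≅ z),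
      (fp (cmpQ f g t) (diag t)).p.IsHomLift (𝟙 ((fp (cmpQ f g t) (diag t)).p.obj z)) ε.hom := by
  let w₀ : (fp (BasedFunctor.comp f t) (BasedFunctor.comp g t)).obj := z.obj.fst
  let x : 𝒳.obj := w₀.obj.fst
  let y : 𝒴.obj := w₀.obj.snd
  let α : t.obj (f.obj x) ≅ t.obj (g.obj y) := w₀.obj.iso
  let ζ : 𝒵.obj := z.obj.snd
  let γ₁ : f.obj x ≅ ζ := (fpFst t t).toFunctor.mapIso z.obj.iso
  let γ₂ : g.obj y ≅ ζ := (fpSnd t t).toFunctor.mapIso z.obj.iso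
  have hγ : t.map γ₁.hom ≫ 𝟙 _ = α.hom ≫ t.map γ₂.hom := z.obj.iso.hom.hom.w
  have lz : (fp t t).p.IsHomLift (𝟙 (𝒳.p.obj x)) z.obj.iso.hom := z.property
  have l1 : 𝒵.p.IsHomLift (𝟙 (𝒳.p.obj x)) γ₁.hom := Fp.fst_isHomLift t t _ _ lz
  have l2 : 𝒵.p.IsHomLift (𝟙 (𝒳.p.obj x)) γ₂.hom := Fp.snd_isHomLift t t _ _ lz
  haveI := l2
  have l2' : 𝒵.p.IsHomLift (𝟙 (𝒳.p.obj x)) γ₂.inv := inferInstance
  let φ : f.obj x ≅ g.obj y := γ₁ ≪≫ γ₂.symm
  have lφ : 𝒵.p.IsHomLift (𝟙 (𝒳.p.obj x)) φ.hom := lift_id_comp' _ _ l1 l2'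
  let w : (fp f g).obj := ⟨⟨x, y, φ⟩, lφ⟩
  have hα : α.hom = t.map φ.hom := by
    change α.hom = t.toFunctor.map (γ₁.hom ≫ γ₂.inv)
    rw [t.toFunctor.map_comp]
    exact cmp_aux _ _ (t.toFunctor.mapIso γ₂) hγ
  let ι₁ : (cmp f g t e).obj w ≅ w₀ :=
    fpMkIso (x := (cmp f g t e).obj w) (z := w₀) (Iso.refl _) (Iso.refl _) (by
      rw [cmp_obj_iso_hom f g t e he]
      change t.map (f.map (𝟙 x)) ≫ α.hom = t.map φ.hom ≫ t.map (g.map (𝟙 y))
      rw [f.toFunctor.map_id, g.toFunctor.map_id, t.toFunctor.map_id, t.toFunctor.map_id,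
        Category.id_comp, Category.comp_id]
      exact hα)
  refine ⟨w, fpMkIso (x := (cmpBC f g t e he).obj w) (z := z) ι₁ γ₁ ?_, ?_⟩
  · apply fp_hom_ext
    · change f.map (𝟙 x) ≫ γ₁.hom = 𝟙 _ ≫ γ₁.hom
      rw [f.toFunctor.map_id]
    · change g.map (𝟙 y) ≫ γ₂.hom = φ.inv ≫ γ₁.hom
      rw [g.toFunctor.map_id, Category.id_comp]
      change γ₂.hom = (γ₂.hom ≫ γ₁.inv) ≫ γ₁.hom
      rw [Category.assoc, Iso.inv_hom_id, Category.comp_id]
  · apply fpMkIso_lift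
    apply fpMkIso_lift
    exact IsHomLift.id rfl

/-- The comparison `𝒳 ×_𝒵 𝒴 ⟶ 𝒳 ×_𝒯 𝒴` is a base change of the diagonal of `t`. -/
theorem isEquivOver_cmpBC : IsEquivOver (cmpBC f g t e he) := by
  rw [isEquivOver_iff]
  exact ⟨cmpBC_full f g t e he, cmpBC_faithful f g t e he, cmpBC_essSurj f g t e he⟩

end Compare

end Groth.Agent.Helper6.FpTools
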