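import Mathlib
import Groth.Prelude.Def_FibCat2
import Groth.Prelude.Def_AlgSt2
import Groth.Agent.Helper6.AlgStBC
import Groth.Agent.Helper6.FpCompare

/-!
# Helper6: the comparison `𝒳 ×_𝒵 𝒴 ⟶ 𝒳 ×_𝒯 𝒴` inherits the properties of the diagonal of `𝒵 ⟶ 𝒯`
-/

set_option autoImplicit false
set_option linter.style.haveILetI false
universe u

namespace Groth.Agent.Helper6.AlgStBC
open CategoryTheory Functor FibCat Limits AlgebraicGeometry Opposite
open Groth.Agent.Helper3 Groth.Agent.Helper6.FpTools Groth.Agent.Helper6.AlgStRep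

variable {S : Scheme.{u}}

theorem repByAlgSpWith_fpComparison (P : MorphismProperty (AlgSp.Sp S)) {𝒳 𝒴 𝒵 𝒯 : AlgSt.Cat S}
    (f : 𝒳 ⥤ᵇ 𝒵) (g : 𝒴 ⥤ᵇ 𝒵) (t : 𝒵 ⥤ᵇ 𝒯)
    (e : BasedFunctor.comp (FibCat.fpFst f g) (BasedFunctor.comp f t) ≅
      BasedFunctor.comp (FibCat.fpSnd f g) (BasedFunctor.comp g t))
    (he : ∀ x, e.hom.toNatTrans.app x = t.map x.obj.iso.hom)
    (ht : AlgSt.RepByAlgSpWith P (FibCat.diag t)) :
    AlgSt.RepByAlgSpWith P (FibCat.fpLift (FibCat.fpFst f g) (FibCat.fpSnd f g) e) :=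
  repByAlgSpWith_of_baseChange P (FibCat.diag t) (cmpQ f g t)
    (FibCat.fpLift (FibCat.fpFst f g) (FibCat.fpSnd f g) e) (cmpBC f g t e he)
    (isEquivOver_cmpBC f g t e he) (Iso.refl _) ht

end Groth.Agent.Helper6.AlgStBC
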