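import Mathlib
import Groth.Prelude.Def_FibCat2
import Groth.Prelude.Def_AlgSt
import Groth.Agent.Helper3.EquivOver
import Groth.Agent.Helper3.Fp
import Groth.Agent.Helper6.FpTools
import Groth.Agent.S6439

/-!
# Helper6: invariance of the stack conditions under equivalences over the base
-/

set_option autoImplicit false
set_option linter.style.haveILetI false
universe v₄ u₄ v₃ u₃ v₂ u₂ v u

namespace Groth.Agent.Helper6.StkTools
open CategoryTheory Functor FibCat Limits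
open Groth.Agent.Helper3 Groth.Agent.Helper6.FpTools

variable {C : Type u} [Category.{v} C]

section FibGrpd

variable {𝒳 : BasedCategory.{v₂, u₂} C} {𝒴 : BasedCategory.{v₃, u₃} C}

/-- Being fibred in groupoids descends along an equivalence over `C`. -/
theorem isFibGrpd_of_isEquivOver (F : 𝒳 ⥤ᵇ 𝒴) (hF : IsEquivOver F) (h𝒴 : IsFibGrpd 𝒴.p) :
    IsFibGrpd 𝒳.p := by
  obtain ⟨i1, i2, i3⟩ := (isEquivOver_iff F).1 hF
  refine ⟨?_, ?_⟩
  · intro x V f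
    have hx : 𝒴.p.obj (F.obj x) = 𝒳.p.obj x := F.w_obj x
    obtain ⟨y, ψ, hψ⟩ := FibGrpd.exists_lift' h𝒴 hx f
    obtain ⟨x', ε, hε⟩ := i3 y
    have hyV : 𝒴.p.obj y = V := IsHomLift.domain_eq 𝒴.p f ψ
    haveI hε' : 𝒴.p.IsHomLift (𝟙 V) ε.hom := lift_id_transport hyV _ hε
    obtain ⟨φ, hφ⟩ := F.toFunctor.map_surjective (ε.hom ≫ ψ)
    refine ⟨x', φ, ?_⟩
    haveI : 𝒴.p.IsHomLift f (F.map φ) := by
      have hφ' : F.map φ = ε.hom ≫ ψ := hφ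
      rw [hφ']
      have : 𝒴.p.IsHomLift (𝟙 V ≫ f) (ε.hom ≫ ψ) := inferInstance
      rwa [Category.id_comp] at this
    exact F.isHomLift_map f φ
  · intro y x φ
    haveI : 𝒴.p.IsStronglyCartesian (𝒳.p.map φ) (F.map φ) :=
      FibGrpd.isStronglyCartesian h𝒴 (𝒳.p.map φ) (F.map φ)
    exact EquivOver.isStronglyCartesian_of_map hF (𝒳.p.map φ) φ

theorem isFibGrpd_iff_of_isEquivOver (F : 𝒳 ⥤ᵇ 𝒴) (hF : IsEquivOver F) :
    IsFibGrpd 𝒳.p ↔ IsFibGrpd 𝒴.p := by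
  obtain ⟨G, hG, -, -⟩ := EquivOver.symm hF
  exact ⟨isFibGrpd_of_isEquivOver G hG, isFibGrpd_of_isEquivOver F hF⟩

/-- Being fibred in setoids descends along an equivalence over `C`. -/
theorem isFibSetoid_of_isEquivOver (F : 𝒳 ⥤ᵇ 𝒴) (hF : IsEquivOver F) (h𝒴 : IsFibSetoid 𝒴.p) :
    IsFibSetoid 𝒳.p := by
  obtain ⟨i1, i2, -⟩ := (isEquivOver_iff F).1 hF
  refine ⟨isFibGrpd_of_isEquivOver F hF h𝒴.1, ?_⟩
  intro U a b
  refine ⟨fun φ ψ => ?_⟩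
  apply Functor.Fiber.hom_ext
  change φ.1 = ψ.1
  apply F.toFunctor.map_injective
  haveI h1 : 𝒴.p.IsHomLift (𝟙 U) (F.map φ.1) := (BasedFunctor.isHomLift_iff F (𝟙 U) φ.1).2 φ.2
  haveI h2 : 𝒴.p.IsHomLift (𝟙 U) (F.map ψ.1) := (BasedFunctor.isHomLift_iff F (𝟙 U) ψ.1).2 ψ.2
  exact FibGrpd.hom_ext_of_isFibSetoid h𝒴 (𝟙 U) (F.map φ.1) (F.map ψ.1)

theorem isFibSetoid_iff_of_isEquivOver (F : 𝒳 ⥤ᵇ 𝒴) (hF : IsEquivOver F) :
    IsFibSetoid 𝒳.p ↔ IsFibSetoid 𝒴.p := by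
  obtain ⟨G, hG, -, -⟩ := EquivOver.symm hF
  exact ⟨isFibSetoid_of_isEquivOver G hG, isFibSetoid_of_isEquivOver F hF⟩

end FibGrpd

section Stack

variable {𝒳 𝒴 : BasedCategory.{v, max u v} C}

theorem postcomp_isEquivalence (𝒜 : BasedCategory.{v, max u v} C) (F : 𝒳 ⥤ᵇ 𝒴) (hF : IsEquivOver F) :
    (Bicategory.postcomp 𝒜 (show 𝒳 ⟶ 𝒴 from F)).IsEquivalence := by
  obtain ⟨G, ⟨η⟩, ⟨ε⟩⟩ := hF
  exact Groth.Agent.S6439.postcomp_isEquivalence 𝒜 (show 𝒳 ⟶ 𝒴 from F) (show 𝒴 ⟶ 𝒳 from G) η ε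

/-- Restriction along a sieve commutes with post-composition. -/
def resSieveCompIso {U : C} (R : Sieve U) (F : 𝒳 ⥤ᵇ 𝒴) :
    Stk.resSieve R 𝒳 ⋙ Bicategory.postcomp (Stk.sieveCat R) (show 𝒳 ⟶ 𝒴 from F) ≅
      Bicategory.postcomp (FibCat.overCat U) (show 𝒳 ⟶ 𝒴 from F) ⋙ Stk.resSieve R 𝒴 :=
  NatIso.ofComponents (fun H => Iso.refl _) (fun {H H'} α => by
    dsimp only [Iso.refl_hom]
    erw [Category.comp_id, Category.id_comp]
    apply BasedNatTrans.homCategory.ext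
    rfl)

theorem isStackFor_of_isEquivOver {U : C} (R : Sieve U) (F : 𝒳 ⥤ᵇ 𝒴) (hF : IsEquivOver F)
    (h : Stk.IsStackFor R 𝒳) : Stk.IsStackFor R 𝒴 := by
  haveI : (Stk.resSieve R 𝒳).IsEquivalence := h
  haveI := postcomp_isEquivalence (Stk.sieveCat R) F hF
  haveI := postcomp_isEquivalence (FibCat.overCat U) F hF
  haveI : (Bicategory.postcomp (FibCat.overCat U) (show 𝒳 ⟶ 𝒴 from F) ⋙ Stk.resSieve R 𝒴).IsEquivalence :=
    Functor.isEquivalence_of_iso (resSieveCompIso R F)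
  exact Functor.isEquivalence_of_comp_left
    (Bicategory.postcomp (FibCat.overCat U) (show 𝒳 ⟶ 𝒴 from F)) (Stk.resSieve R 𝒴)

theorem isStackFor_iff_of_isEquivOver {U : C} (R : Sieve U) (F : 𝒳 ⥤ᵇ 𝒴) (hF : IsEquivOver F) :
    Stk.IsStackFor R 𝒳 ↔ Stk.IsStackFor R 𝒴 := by
  obtain ⟨G, hG, -, -⟩ := EquivOver.symm hF
  exact ⟨isStackFor_of_isEquivOver R F hF, isStackFor_of_isEquivOver R G hG⟩

theorem isStack_iff_of_isEquivOver (J : GrothendieckTopology C) (F : 𝒳 ⥤ᵇ 𝒴) (hF : IsEquivOver F) :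
    Stk.IsStack J 𝒳 ↔ Stk.IsStack J 𝒴 := by
  unfold Stk.IsStack
  rw [isFibGrpd_iff_of_isEquivOver F hF]
  refine and_congr Iff.rfl ?_
  refine forall_congr' fun U => forall_congr' fun R => forall_congr' fun _ => ?_
  exact isStackFor_iff_of_isEquivOver R F hF

end Stack

end Groth.Agent.Helper6.StkTools
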