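import Mathlib
import Groth.Prelude.Def_FibCat2
import Groth.Prelude.Def_AlgSt2
import Groth.Agent.Helper3.EquivOver
import Groth.Agent.Helper3.Fp
import Groth.Agent.Helper3.FpDiag
import Groth.Agent.Helper6.FpTools
import Groth.Agent.Helper6.FpCospan
import Groth.Agent.Helper6.FpRep
import Groth.Agent.Helper6.FpPaste
import Groth.Agent.Helper6.FpComp
import Groth.Agent.Helper6.AlgStRep
import Groth.Agent.Helper6.StkTools

/-!
# Helper6: invariance of algebraic-stack notions under equivalences over the base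
-/

set_option autoImplicit false
set_option linter.style.haveILetI false
universe w' v' w v u v₅ u₅ v₄ u₄ v₃ u₃ v₂ u₂ v₁ u₁

namespace Groth.Agent.Helper6.AlgStInv
open CategoryTheory Functor FibCat Limits AlgebraicGeometry Opposite
open Groth.Agent.Helper3 Groth.Agent.Helper6.FpTools Groth.Agent.Helper6.AlgStRep

section General

variable {C : Type u₁} [Category.{v₁} C]
variable {𝒳 : BasedCategory.{v₂, u₂} C} {𝒴 : BasedCategory.{v₃, u₃} C}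

/-- The structure functor of the source is the composite with the structure functor of the target. -/
def toSelfIso (F : 𝒳 ⥤ᵇ 𝒴) : toSelf 𝒳 ≅ BasedFunctor.comp F (toSelf 𝒴) :=
  BasedNatIso.mkNatIso
    (NatIso.ofComponents (fun a => eqToIso (F.w_obj a).symm) (fun {a b} g => by
      have := Functor.congr_hom F.w g
      change 𝒴.p.map (F.map g) = _ at this
      change 𝒳.p.map g ≫ eqToHom (F.w_obj b).symm = eqToHom (F.w_obj a).symm ≫ 𝒴.p.map (F.map g)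
      rw [this]
      simp))
    (fun a => IsHomLift.eqToHom_domain_lift_id (p := (selfOver C).p) (F.w_obj a).symm rfl)

theorem appIso_toSelfIso_hom (F : 𝒳 ⥤ᵇ 𝒴) (x : 𝒳.obj) :
    (appIso (toSelfIso F) x).hom = eqToHom (F.w_obj x).symm := rfl

theorem appIso_toSelfIso_inv (F : 𝒳 ⥤ᵇ 𝒴) (x : 𝒳.obj) :
    (appIso (toSelfIso F) x).inv = eqToHom (F.w_obj x) := rfl

theorem selfOver_endo_eq_id {a S : C} (φ : a ⟶ a) (h : (selfOver C).p.IsHomLift (𝟙 S) φ) :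
    φ = 𝟙 a := by
  have h1 : φ = eqToHom (IsHomLift.domain_eq (selfOver C).p (𝟙 S) φ) ≫ 𝟙 S ≫
      eqToHom (IsHomLift.codomain_eq (selfOver C).p (𝟙 S) φ).symm :=
    IsHomLift.fac' (selfOver C).p (𝟙 S) φ
  rw [h1]
  simp
  rfl

/-- The functor `𝒳 ×_C 𝒳 ⟶ 𝒴 ×_C 𝒴` induced by `F`. -/
def prodFunctor (F : 𝒳 ⥤ᵇ 𝒴) : fp (toSelf 𝒳) (toSelf 𝒳) ⥤ᵇ fp (toSelf 𝒴) (toSelf 𝒴) :=
  cospanFunctor (toSelf 𝒴) (toSelf 𝒴) (toSelf 𝒳) (toSelf 𝒳) F F (BasedFunctor.id _)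
    (toSelfIso F) (toSelfIso F)

theorem isEquivOver_prodFunctor (F : 𝒳 ⥤ᵇ 𝒴) (hF : IsEquivOver F) : IsEquivOver (prodFunctor F) :=
  isEquivOver_cospanFunctor _ _ _ _ _ _ _ _ _ hF hF (isEquivOver_id _)

/-- The diagonal square commutes up to 2-isomorphism. -/
def diagSquareIso (F : 𝒳 ⥤ᵇ 𝒴) :
    BasedFunctor.comp (diag (toSelf 𝒳)) (prodFunctor F) ≅ BasedFunctor.comp F (diag (toSelf 𝒴)) :=
  BasedNatIso.mkNatIso
    (NatIso.ofComponents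
      (fun x => fpMkIso (x := (prodFunctor F).obj ((diag (toSelf 𝒳)).obj x))
        (z := (diag (toSelf 𝒴)).obj (F.obj x)) (Iso.refl _) (Iso.refl _) (by
          change 𝒴.p.map (𝟙 (F.obj x)) ≫ 𝟙 _ =
            (cospanApp (toSelf 𝒴) (toSelf 𝒴) (toSelf 𝒳) (toSelf 𝒳) F F (BasedFunctor.id _)
              (toSelfIso F) (toSelfIso F) ((diag (toSelf 𝒳)).obj x)).hom ≫ 𝒴.p.map (𝟙 (F.obj x))
          have h := selfOver_endo_eq_id (C := C) (a := 𝒴.p.obj (F.obj x)) _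
            (cospanApp_lift (toSelf 𝒴) (toSelf 𝒴) (toSelf 𝒳) (toSelf 𝒳) F F (BasedFunctor.id _)
              (toSelfIso F) (toSelfIso F) ((diag (toSelf 𝒳)).obj x))
          rw [h]
          exact (Category.comp_id _).trans (Category.id_comp _).symm))
      (fun {x x'} g => by
        apply fp_hom_ext
        · change F.map g ≫ 𝟙 _ = 𝟙 _ ≫ F.map g
          simp
        · change F.map g ≫ 𝟙 _ = 𝟙 _ ≫ F.map g
          simp))
    (fun x => by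
      apply fpMkIso_lift
      exact IsHomLift.id (F.w_obj x))

end General

section AlgSt

variable {S : Scheme.{u}}

theorem repByAlgSp1_iff_top {𝒳 : BasedCategory.{v, w} (Over S)} {𝒴 : BasedCategory.{v', w'} (Over S)}
    (f : 𝒳 ⥤ᵇ 𝒴) : AlgSt.RepByAlgSp1 f ↔ AlgSt.RepByAlgSpWith ⊤ f := by
  constructor
  · intro h U y
    obtain ⟨F, e, he⟩ := h U y
    exact ⟨F, e, he, trivial⟩
  · intro h U y
    obtain ⟨F, e, he, -⟩ := h U y
    exact ⟨F, e, he⟩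

variable {𝒳 𝒴 𝒳' 𝒴' : AlgSt.Cat S}

theorem repByAlgSpWith_of_square (P : MorphismProperty (AlgSp.Sp S)) (f : 𝒳 ⥤ᵇ 𝒴) (f' : 𝒳' ⥤ᵇ 𝒴')
    (a : 𝒳' ⥤ᵇ 𝒳) (b : 𝒴' ⥤ᵇ 𝒴) (ha : IsEquivOver a) (hb : IsEquivOver b)
    (e : BasedFunctor.comp f' b ≅ BasedFunctor.comp a f) (hf : AlgSt.RepByAlgSpWith P f) :
    AlgSt.RepByAlgSpWith P f' := by
  intro U y'
  have θ : BasedFunctor.comp y' b ≅
      BasedFunctor.comp (BasedFunctor.id (FibCat.overCat U)) (BasedFunctor.comp y' b) := Iso.refl _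
  exact rep_transfer' P
    (cospanFunctor (BasedFunctor.comp y' b) f y' f' (BasedFunctor.id _) a b θ e)
    (isEquivOver_cospanFunctor _ _ _ _ _ _ _ θ e (isEquivOver_id _) ha hb)
    (FibCat.fpFst (BasedFunctor.comp y' b) f) (FibCat.fpFst y' f') (Iso.refl _)
    (hf U (BasedFunctor.comp y' b))

theorem repByAlgSpWith_of_square' (P : MorphismProperty (AlgSp.Sp S)) (f : 𝒳 ⥤ᵇ 𝒴) (f' : 𝒳' ⥤ᵇ 𝒴')
    (a : 𝒳' ⥤ᵇ 𝒳) (b : 𝒴' ⥤ᵇ 𝒴) (ha : IsEquivOver a) (hb : IsEquivOver b)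
    (e : BasedFunctor.comp f' b ≅ BasedFunctor.comp a f) (hf' : AlgSt.RepByAlgSpWith P f') :
    AlgSt.RepByAlgSpWith P f := by
  intro U y
  obtain ⟨c, hc, -, ⟨ε⟩⟩ := EquivOver.symm hb
  have θ : BasedFunctor.comp (BasedFunctor.comp y c) b ≅
      BasedFunctor.comp (BasedFunctor.id (FibCat.overCat U)) y := whiskerLeftIso' y ε
  exact rep_transfer P
    (cospanFunctor y f (BasedFunctor.comp y c) f' (BasedFunctor.id _) a b θ e)
    (isEquivOver_cospanFunctor _ _ _ _ _ _ _ θ e (isEquivOver_id _) ha hb)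
    (FibCat.fpFst y f) (FibCat.fpFst (BasedFunctor.comp y c) f') (Iso.refl _)
    (hf' U (BasedFunctor.comp y c))

theorem repByAlgSpWith_iff_of_square (P : MorphismProperty (AlgSp.Sp S)) (f : 𝒳 ⥤ᵇ 𝒴) (f' : 𝒳' ⥤ᵇ 𝒴')
    (a : 𝒳' ⥤ᵇ 𝒳) (b : 𝒴' ⥤ᵇ 𝒴) (ha : IsEquivOver a) (hb : IsEquivOver b)
    (e : BasedFunctor.comp f' b ≅ BasedFunctor.comp a f) :
    AlgSt.RepByAlgSpWith P f ↔ AlgSt.RepByAlgSpWith P f' :=
  ⟨repByAlgSpWith_of_square P f f' a b ha hb e, repByAlgSpWith_of_square' P f f' a b ha hb e⟩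

/-- Post-composition with an equivalence preserves `RepByAlgSpWith`. -/
theorem repByAlgSpWith_comp_equiv (P : MorphismProperty (AlgSp.Sp S)) {𝒰 : AlgSt.Cat S}
    (x : 𝒰 ⥤ᵇ 𝒳) (e : 𝒳 ⥤ᵇ 𝒴) (he : IsEquivOver e) :
    AlgSt.RepByAlgSpWith P x ↔ AlgSt.RepByAlgSpWith P (BasedFunctor.comp x e) :=
  (repByAlgSpWith_iff_of_square P (BasedFunctor.comp x e) x (BasedFunctor.id _) e
    (isEquivOver_id _) he (Iso.refl _)).symm

theorem hasAtlas_of_isEquivOver (P : MorphismProperty (AlgSp.Sp S)) (e : 𝒳 ⥤ᵇ 𝒴) (he : IsEquivOver e)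
    (h : AlgSt.HasAtlas P 𝒳) : AlgSt.HasAtlas P 𝒴 := by
  obtain ⟨U, x, h1, h2⟩ := h
  exact ⟨U, BasedFunctor.comp x e, (repByAlgSpWith_comp_equiv P x e he).1 h1,
    (repByAlgSpWith_comp_equiv _ x e he).1 h2⟩

theorem hasAtlas_iff_of_isEquivOver (P : MorphismProperty (AlgSp.Sp S)) (e : 𝒳 ⥤ᵇ 𝒴)
    (he : IsEquivOver e) : AlgSt.HasAtlas P 𝒳 ↔ AlgSt.HasAtlas P 𝒴 := by
  obtain ⟨G, hG, -, -⟩ := EquivOver.symm he
  exact ⟨hasAtlas_of_isEquivOver P e he, hasAtlas_of_isEquivOver P G hG⟩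

theorem repByAlgSpWith_diag_iff_of_isEquivOver (P : MorphismProperty (AlgSp.Sp S)) (e : 𝒳 ⥤ᵇ 𝒴)
    (he : IsEquivOver e) :
    AlgSt.RepByAlgSpWith P (FibCat.diag (FibCat.toSelf 𝒳)) ↔
      AlgSt.RepByAlgSpWith P (FibCat.diag (FibCat.toSelf 𝒴)) :=
  (repByAlgSpWith_iff_of_square P (FibCat.diag (FibCat.toSelf 𝒴)) (FibCat.diag (FibCat.toSelf 𝒳)) e
    (prodFunctor e) he (isEquivOver_prodFunctor e he) (diagSquareIso e)).symm

theorem isAlgStack_iff_of_isEquivOver (K : Precoverage Scheme.{u}) (e : 𝒳 ⥤ᵇ 𝒴) (he : IsEquivOver e) :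
    AlgSt.IsAlgStack K 𝒳 ↔ AlgSt.IsAlgStack K 𝒴 := by
  have h1 := Groth.Agent.Helper6.StkTools.isStack_iff_of_isEquivOver (QuotSh.J K S) e he
  have h2 : AlgSt.RepByAlgSp1 (FibCat.diag (FibCat.toSelf 𝒳)) ↔
      AlgSt.RepByAlgSp1 (FibCat.diag (FibCat.toSelf 𝒴)) := by
    rw [repByAlgSp1_iff_top, repByAlgSp1_iff_top]
    exact repByAlgSpWith_diag_iff_of_isEquivOver ⊤ e he
  have h3 := hasAtlas_iff_of_isEquivOver (AlgSp.LocP @Smooth) e he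
  constructor
  · rintro ⟨a, b, c⟩
    exact ⟨h1.1 a, h2.1 b, h3.1 c⟩
  · rintro ⟨a, b, c⟩
    exact ⟨h1.2 a, h2.2 b, h3.2 c⟩

theorem isDM_iff_of_isEquivOver (K : Precoverage Scheme.{u}) (e : 𝒳 ⥤ᵇ 𝒴) (he : IsEquivOver e) :
    AlgSt.IsDM K 𝒳 ↔ AlgSt.IsDM K 𝒴 := by
  unfold AlgSt.IsDM
  rw [isAlgStack_iff_of_isEquivOver K e he, hasAtlas_iff_of_isEquivOver _ e he]

end AlgSt

end Groth.Agent.Helper6.AlgStInv
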