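import Mathlib
import Groth.Prelude.Def_FibCat2
import Groth.Prelude.Def_AlgSt3
import Groth.Agent.Helper3.EquivOver
import Groth.Agent.Helper3.Fp
import Groth.Agent.Helper6.FpTools
import Groth.Agent.Helper6.FpPaste
import Groth.Agent.Helper6.FpRep
import Groth.Agent.Helper6.AlgStRep

/-!
# Helper6: equivalences over `(Sch/S)` are representable by algebraic spaces with every property
that identities of representable sheaves have
-/

set_option autoImplicit false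
set_option linter.style.haveILetI false
universe v₇ u₇ v₆ u₆ v₅ u₅ v₄ u₄ v₃ u₃ v₂ u₂ v u w v' w'

namespace Groth.Agent.Helper6.FpTools
open CategoryTheory Functor FibCat Limits
open Groth.Agent.Helper3

variable {C : Type u} [Category.{v} C]

section FstEquiv

variable {𝒳 : BasedCategory.{v₂, u₂} C} {𝒴 : BasedCategory.{v₄, u₄} C} {𝒯 : BasedCategory.{v₃, u₃} C}
  (g : 𝒴 ⥤ᵇ 𝒯) (f : 𝒳 ⥤ᵇ 𝒯)

theorem fpFst_faithful_of_faithful [f.toFunctor.Faithful] : (fpFst g f).toFunctor.Faithful := by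
  refine ⟨fun {w w'} k k' h => ?_⟩
  have h1 : k.hom.fst = k'.hom.fst := h
  refine fp_hom_ext h1 ?_
  let φ : g.obj w.obj.fst ≅ f.obj w.obj.snd := w.obj.iso
  let φ' : g.obj w'.obj.fst ≅ f.obj w'.obj.snd := w'.obj.iso
  have w1 : g.map k.hom.fst ≫ φ'.hom = φ.hom ≫ f.map k.hom.snd := k.hom.w
  have w2 : g.map k'.hom.fst ≫ φ'.hom = φ.hom ≫ f.map k'.hom.snd := k'.hom.w
  apply f.toFunctor.map_injective
  change f.map k.hom.snd = f.map k'.hom.snd
  rw [← cancel_epi φ.hom, ← w1, ← w2, h1]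

theorem fpFst_full_of_fullyFaithful [f.toFunctor.Full] [f.toFunctor.Faithful] :
    (fpFst g f).toFunctor.Full := by
  refine ⟨fun {w w'} a => ?_⟩
  let a' : w.obj.fst ⟶ w'.obj.fst := a
  let φ : g.obj w.obj.fst ≅ f.obj w.obj.snd := w.obj.iso
  let φ' : g.obj w'.obj.fst ≅ f.obj w'.obj.snd := w'.obj.iso
  let b : w.obj.snd ⟶ w'.obj.snd := f.toFunctor.preimage (φ.inv ≫ g.map a' ≫ φ'.hom)
  have hb : f.map b = φ.inv ≫ g.map a' ≫ φ'.hom := f.toFunctor.map_preimage _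
  refine ⟨ObjectProperty.homMk ⟨a', b, ?_⟩, rfl⟩
  change g.map a' ≫ φ'.hom = φ.hom ≫ f.map b
  rw [hb, Iso.hom_inv_id_assoc]

theorem fpFst_essSurj_of_isEquivOver (hf : IsEquivOver f) (y : 𝒴.obj) :
    ∃ (w : (fp g f).obj) (e : (fpFst g f).obj w ≅ y), 𝒴.p.IsHomLift (𝟙 (𝒴.p.obj y)) e.hom := by
  obtain ⟨x, e, he⟩ := ((isEquivOver_iff f).1 hf).2.2 (g.obj y)
  have hy : 𝒯.p.obj (g.obj y) = 𝒴.p.obj y := g.w_obj y
  have he' : 𝒯.p.IsHomLift (𝟙 (𝒴.p.obj y)) e.hom := lift_id_transport hy _ he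
  have he'' : 𝒯.p.IsHomLift (𝟙 (𝒴.p.obj y)) e.symm.hom := by
    haveI := he'
    change 𝒯.p.IsHomLift (𝟙 (𝒴.p.obj y)) e.inv
    infer_instance
  exact ⟨⟨⟨y, x, e.symm⟩, he''⟩, Iso.refl _, IsHomLift.id rfl⟩

/-- The base change of an equivalence over `C` is an equivalence over `C`. -/
theorem isEquivOver_fpFst_of_isEquivOver (hf : IsEquivOver f) : IsEquivOver (fpFst g f) := by
  haveI := EquivOver.isEquivalence hf
  rw [isEquivOver_iff]
  exact ⟨fpFst_full_of_fullyFaithful g f, fpFst_faithful_of_faithful g f,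
    fpFst_essSurj_of_isEquivOver g f hf⟩

end FstEquiv

end Groth.Agent.Helper6.FpTools

namespace Groth.Agent.Helper6.AlgStEquiv
open CategoryTheory Functor FibCat Limits AlgebraicGeometry Opposite
open Groth.Agent.Helper3 Groth.Agent.Helper6.FpTools Groth.Agent.Helper6.AlgStRep

variable {S : Scheme.{u}}

theorem isEquivOver_toOverCat (U : Over S) : IsEquivOver (AlgSt.toOverCat U) :=
  ⟨AlgSt.ofOverCat U, ⟨Iso.refl _⟩, ⟨Iso.refl _⟩⟩

theorem spMapOfOver_toOverCat (U : Over S) :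
    AlgSt.spMapOfOver (AlgSt.toOverCat U) = 𝟙 ((AlgSp.yon S).obj U) := by
  apply ObjectProperty.hom_ext
  ext T x
  change (⟨AlgSt.secHom (AlgSt.toOverCat U) ⟨T.unop, x⟩⟩ : ULift _) = x
  apply ULift.ext
  exact Category.id_comp x.down

/-- An equivalence over `(Sch/S)` is representable by algebraic spaces with property `P`, as soon as
identities of representable sheaves have `P`. -/
theorem repByAlgSpWith_of_isEquivOver (P : MorphismProperty (AlgSp.Sp S))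
    (hP : ∀ U : Over S, P (𝟙 ((AlgSp.yon S).obj U)))
    {𝒳 : BasedCategory.{v, w} (Over S)} {𝒵 : BasedCategory.{v', w'} (Over S)} (E : 𝒳 ⥤ᵇ 𝒵)
    (hE : IsEquivOver E) : AlgSt.RepByAlgSpWith P E := by
  intro U y
  have h1 : IsEquivOver (fpFst y E) := isEquivOver_fpFst_of_isEquivOver y E hE
  obtain ⟨G, ⟨ε₁⟩, ⟨ε₂⟩⟩ := h1
  have hG : IsEquivOver G := ⟨fpFst y E, ⟨ε₂⟩, ⟨ε₁⟩⟩
  refine ⟨⟨(AlgSp.yon S).obj U, AlgSp.IsAlgSpace.yon_obj U⟩,
    BasedFunctor.comp (AlgSt.toOverCat U) G, isEquivOver_comp (isEquivOver_toOverCat U) hG, ?_⟩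
  have h2 : AlgSt.spMapOfOver (BasedFunctor.comp (BasedFunctor.comp (AlgSt.toOverCat U) G) (fpFst y E)) =
      AlgSt.spMapOfOver (AlgSt.toOverCat U) :=
    spMapOfOver_congr (whiskerLeftIso' (AlgSt.toOverCat U) ε₂)
  rw [h2, spMapOfOver_toOverCat]
  exact hP U

end Groth.Agent.Helper6.AlgStEquiv
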