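import Mathlib
import Groth.Prelude.Def_FibCat2
import Groth.Prelude.Def_AlgSt
import Groth.Agent.Helper3.TwoYoneda

/-!
# Helper6: based functors into the category of a presheaf
-/

set_option autoImplicit false
set_option linter.style.haveILetI false
universe w v₂ u₂ v u

namespace Groth.Agent.Helper6.OfPsh
open CategoryTheory Functor FibCat Limits Opposite
open Groth.Agent.Helper3 Stk

variable {C : Type u} [Category.{v} C] (P : Cᵒᵖ ⥤ Type w)

/-- the section of an object, transported along an equality of base objects -/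
def tr (x : EltObj P) {V : C} (hx : x.base = V) : P.obj (op V) :=
  P.map (eqToHom hx.symm).op x.sec

@[simp] theorem tr_rfl (x : EltObj P) : tr P x rfl = x.sec := by
  simp [tr]

theorem tr_of_hom {x y : EltObj P} (φ : x ⟶ y) {W V : C} (f : W ⟶ V) (hx : x.base = W)
    (hy : y.base = V) [hφ : (EltObj.forget P).IsHomLift f φ] :
    P.map f.op (tr P y hy) = tr P x hx := by
  obtain ⟨xb, xs⟩ := x
  obtain ⟨yb, ys⟩ := y
  dsimp only at hx hy
  subst hx hy
  have h1 : φ.hom = f :=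
    (@IsHomLift.eq_of_isHomLift _ _ _ _ (EltObj.forget P) ⟨xb, xs⟩ ⟨yb, ys⟩ f φ hφ).symm
  rw [tr_rfl, tr_rfl, ← h1]
  exact φ.map_sec

theorem exists_hom_of_tr_eq {x y : EltObj P} {V : C} (hx : x.base = V) (hy : y.base = V)
    (h : tr P x hx = tr P y hy) : ∃ φ : x ⟶ y, (EltObj.forget P).IsHomLift (𝟙 V) φ := by
  obtain ⟨xb, xs⟩ := x
  obtain ⟨yb, ys⟩ := y
  dsimp only at hx hy
  subst hx
  subst hy
  rw [tr_rfl, tr_rfl] at h
  dsimp only at h
  subst h
  exact ⟨𝟙 _, IsHomLift.id rfl⟩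

theorem hom_ext_lift {x y : EltObj P} (φ ψ : x ⟶ y) {W V : C} (f : W ⟶ V)
    [(EltObj.forget P).IsHomLift f φ] [(EltObj.forget P).IsHomLift f ψ] : φ = ψ := by
  apply EltObj.hom_ext
  have h1 := IsHomLift.fac' (EltObj.forget P) f φ
  have h2 := IsHomLift.fac' (EltObj.forget P) f ψ
  exact h1.trans h2.symm

variable {𝒜 : BasedCategory.{v₂, u₂} C}

/-- the section of a based functor at an object -/
def sec (G : 𝒜 ⥤ᵇ ofPsh P) (a : 𝒜.obj) : P.obj (op (𝒜.p.obj a)) :=
  tr P (G.obj a) (G.w_obj a)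

theorem sec_map (G : 𝒜 ⥤ᵇ ofPsh P) {a b : 𝒜.obj} (g : a ⟶ b) :
    P.map (𝒜.p.map g).op (sec P G b) = sec P G a := by
  haveI : (EltObj.forget P).IsHomLift (𝒜.p.map g) (G.map g) :=
    @BasedFunctor.preserves_isHomLift _ _ _ _ G _ _ _ _ (𝒜.p.map g) g (IsHomLift.map 𝒜.p g)
  exact tr_of_hom P (G.map g) (𝒜.p.map g) (G.w_obj a) (G.w_obj b)

theorem sec_eq_of_natTrans {G G' : 𝒜 ⥤ᵇ ofPsh P} (α : G ⟶ G') (a : 𝒜.obj) :
    sec P G a = sec P G' a := by
  haveI : (EltObj.forget P).IsHomLift (𝟙 (𝒜.p.obj a)) (α.toNatTrans.app a) := α.isHomLift' a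
  have := tr_of_hom P (α.toNatTrans.app a) (𝟙 (𝒜.p.obj a)) (G.w_obj a) (G'.w_obj a)
  change tr P _ _ = tr P _ _
  simpa using this.symm

theorem natTrans_ext {G G' : 𝒜 ⥤ᵇ ofPsh P} (α β : G ⟶ G') : α = β := by
  apply BasedNatTrans.homCategory.ext
  apply NatTrans.ext
  funext a
  haveI : (EltObj.forget P).IsHomLift (𝟙 (𝒜.p.obj a)) (α.toNatTrans.app a) := α.isHomLift' a
  haveI : (EltObj.forget P).IsHomLift (𝟙 (𝒜.p.obj a)) (β.toNatTrans.app a) := β.isHomLift' a
  exact hom_ext_lift P _ _ (𝟙 (𝒜.p.obj a))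

instance {G G' : 𝒜 ⥤ᵇ ofPsh P} : Subsingleton (G ⟶ G') := ⟨natTrans_ext P⟩

/-- the natural transformation attached to an equality of sections -/
noncomputable def natTransOfSecEq {G G' : 𝒜 ⥤ᵇ ofPsh P} (h : ∀ a, sec P G a = sec P G' a) : G ⟶ G' where
  toNatTrans :=
    { app := fun a => (exists_hom_of_tr_eq P (G.w_obj a) (G'.w_obj a) (h a)).choose
      naturality := fun a b g => by
        haveI h1 : (EltObj.forget P).IsHomLift (𝟙 (𝒜.p.obj a))
            (exists_hom_of_tr_eq P (G.w_obj a) (G'.w_obj a) (h a)).choose :=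
          (exists_hom_of_tr_eq P (G.w_obj a) (G'.w_obj a) (h a)).choose_spec
        haveI h2 : (EltObj.forget P).IsHomLift (𝟙 (𝒜.p.obj b))
            (exists_hom_of_tr_eq P (G.w_obj b) (G'.w_obj b) (h b)).choose :=
          (exists_hom_of_tr_eq P (G.w_obj b) (G'.w_obj b) (h b)).choose_spec
        haveI h3 : (EltObj.forget P).IsHomLift (𝒜.p.map g) (G.map g) :=
          @BasedFunctor.preserves_isHomLift _ _ _ _ G _ _ _ _ (𝒜.p.map g) g (IsHomLift.map 𝒜.p g)
        haveI h4 : (EltObj.forget P).IsHomLift (𝒜.p.map g) (G'.map g) :=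
          @BasedFunctor.preserves_isHomLift _ _ _ _ G' _ _ _ _ (𝒜.p.map g) g (IsHomLift.map 𝒜.p g)
        haveI h5 : (EltObj.forget P).IsHomLift (𝒜.p.map g)
            (G.map g ≫ (exists_hom_of_tr_eq P (G.w_obj b) (G'.w_obj b) (h b)).choose) := inferInstance
        haveI h6 : (EltObj.forget P).IsHomLift (𝒜.p.map g)
            ((exists_hom_of_tr_eq P (G.w_obj a) (G'.w_obj a) (h a)).choose ≫ G'.map g) := inferInstance
        exact hom_ext_lift P _ _ (𝒜.p.map g) }
  isHomLift' := fun a => (exists_hom_of_tr_eq P (G.w_obj a) (G'.w_obj a) (h a)).choose_spec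

/-- the isomorphism attached to an equality of sections -/
noncomputable def isoOfSecEq {G G' : 𝒜 ⥤ᵇ ofPsh P} (h : ∀ a, sec P G a = sec P G' a) : G ≅ G' where
  hom := natTransOfSecEq P h
  inv := natTransOfSecEq P (fun a => (h a).symm)
  hom_inv_id := Subsingleton.elim _ _
  inv_hom_id := Subsingleton.elim _ _

section Stack

variable {U : C} (R : Sieve U)

theorem sec_res (X : FibCat.overCat U ⥤ᵇ ofPsh P) (a : (Stk.sieveCat R).obj) :
    sec P ((Stk.resSieve R (ofPsh P)).obj X) a = sec P X a.obj := rfl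

theorem sec_eq_map_id (X : FibCat.overCat U ⥤ᵇ ofPsh P) (a : (FibCat.overCat U).obj) :
    sec P X a = P.map (a : Over U).hom.op (sec P X (Over.mk (𝟙 U))) := by
  let t : a ⟶ Over.mk (𝟙 U) := Over.homMk (U := (a : Over U)) (a : Over U).hom (by simp)
  exact (sec_map P X t).symm

theorem sec_id_of_iso (X : FibCat.overCat U ⥤ᵇ ofPsh P) (x₀ : P.obj (op U))
    (ε : (FibCat.evalAtId (ofPsh P) U).obj X ≅ (⟨⟨U, x₀⟩, rfl⟩ : (ofPsh P).p.Fiber U)) :
    sec P X (Over.mk (𝟙 U)) = x₀ := by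
  have hl : (EltObj.forget P).IsHomLift (𝟙 U) ε.hom.1 := ε.hom.2
  have := @tr_of_hom _ _ P (X.obj (Over.mk (𝟙 U))) ⟨U, x₀⟩ ε.hom.1 U U (𝟙 U)
    (X.w_obj (Over.mk (𝟙 U))) rfl hl
  rw [tr_rfl] at this
  have h3 : P.map (𝟙 U).op x₀ = x₀ := by simp
  exact this.symm.trans h3

theorem isStackFor_of_isSheafFor (hsh : Presieve.IsSheafFor P R.arrows) :
    Stk.IsStackFor R (ofPsh P) := by
  haveI hev := TwoYoneda.evalAtId_isEquivalence_of_isFibGrpd (𝒳 := ofPsh P) U (isFibGrpd_ofPsh P)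
  have hfa : (Stk.resSieve R (ofPsh P)).Faithful := ⟨fun {X Y} α β _ => Subsingleton.elim _ _⟩
  suffices hfe : (Stk.resSieve R (ofPsh P)).Full ∧ (Stk.resSieve R (ofPsh P)).EssSurj from
    { faithful := hfa, full := hfe.1, essSurj := hfe.2 }
  refine ⟨⟨fun {X Y} α => ?_⟩, ⟨fun D => ?_⟩⟩
  · have h0 : sec P X (Over.mk (𝟙 U)) = sec P Y (Over.mk (𝟙 U)) := by
      apply hsh.isSeparatedFor.ext
      intro V f hf
      have e1 := sec_eq_map_id P X (Over.mk f)
      have e2 := sec_eq_map_id P Y (Over.mk f)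
      have e3 : sec P X (Over.mk f) = sec P Y (Over.mk f) :=
        sec_eq_of_natTrans P α ⟨Over.mk f, hf⟩
      exact e1.symm.trans (e3.trans e2)
    have hall : ∀ a, sec P X a = sec P Y a := fun a => by
      rw [sec_eq_map_id P X a, sec_eq_map_id P Y a, h0]
    exact ⟨natTransOfSecEq P hall, Subsingleton.elim _ _⟩
  · let x : Presieve.FamilyOfElements P R.arrows := fun V f hf => sec P D ⟨Over.mk f, hf⟩
    have hx : x.Compatible := by
      rw [Presieve.compatible_iff_sieveCompatible]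
      intro V W f g hf
      let m : (⟨Over.mk (g ≫ f), R.downward_closed hf g⟩ : (Stk.sieveCat R).obj) ⟶ ⟨Over.mk f, hf⟩ :=
        ObjectProperty.homMk (Over.homMk g rfl)
      exact (sec_map P D m).symm
    let x₀ := hsh.amalgamate x hx
    have hx₀ : ∀ ⦃V : C⦄ (f : V ⟶ U) (hf : R f), P.map f.op x₀ = x f hf :=
      fun V f hf => hsh.valid_glue hx f hf
    obtain ⟨X, ⟨ε⟩⟩ := Functor.EssSurj.mem_essImage (F := FibCat.evalAtId (ofPsh P) U)
      (⟨⟨U, x₀⟩, rfl⟩ : (ofPsh P).p.Fiber U)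
    have h0 := sec_id_of_iso P X x₀ ε
    refine ⟨X, ⟨isoOfSecEq P (fun a => ?_)⟩⟩
    change sec P X a.obj = _
    rw [sec_eq_map_id P X a.obj, h0]
    exact hx₀ a.obj.hom a.property

theorem compat_aux {x : Presieve.FamilyOfElements P R.arrows} (hx : x.SieveCompatible)
    {V W : C} (g : W ⟶ V) (f : V ⟶ U) (hf : R f) (f' : W ⟶ U) (hf' : R f') (e : g ≫ f = f') :
    P.map g.op (x f hf) = x f' hf' := by
  subst e
  exact (hx f g hf).symm

/-- the descent datum of a compatible family -/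
def famFunctor (x : Presieve.FamilyOfElements P R.arrows) (hx : x.SieveCompatible) :
    Stk.sieveCat R ⥤ᵇ ofPsh P where
  toFunctor :=
    { obj := fun a => ⟨a.obj.left, x a.obj.hom a.property⟩
      map := fun {a b} m => ⟨m.hom.left,
        compat_aux P R hx m.hom.left b.obj.hom b.property a.obj.hom a.property (Over.w m.hom)⟩
      map_id := fun a => by apply EltObj.hom_ext; rfl
      map_comp := fun m n => by apply EltObj.hom_ext; rfl }
  w := rfl

theorem sec_famFunctor (x : Presieve.FamilyOfElements P R.arrows) (hx : x.SieveCompatible)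
    (a : (Stk.sieveCat R).obj) : sec P (famFunctor P R x hx) a = x a.obj.hom a.property := by
  change tr P _ rfl = _
  rw [tr_rfl]
  rfl

theorem isSheafFor_of_isStackFor (hst : Stk.IsStackFor R (ofPsh P)) :
    Presieve.IsSheafFor P R.arrows := by
  haveI : (Stk.resSieve R (ofPsh P)).IsEquivalence := hst
  haveI hev := TwoYoneda.evalAtId_isEquivalence_of_isFibGrpd (𝒳 := ofPsh P) U (isFibGrpd_ofPsh P)
  intro x hx
  have hxs := (Presieve.compatible_iff_sieveCompatible x).1 hx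
  obtain ⟨X, ⟨iso⟩⟩ := Functor.EssSurj.mem_essImage (F := Stk.resSieve R (ofPsh P))
    (famFunctor P R x hxs)
  have hsecX : ∀ a : (Stk.sieveCat R).obj, sec P X a.obj = x a.obj.hom a.property := fun a => by
    have := sec_eq_of_natTrans P iso.hom a
    rw [sec_famFunctor] at this
    exact this
  refine ⟨sec P X (Over.mk (𝟙 U)), ?_, ?_⟩
  · intro V f hf
    have e1 := sec_eq_map_id P X (Over.mk f)
    exact e1.symm.trans (hsecX ⟨Over.mk f, hf⟩)
  · intro y hy
    obtain ⟨Xy, ⟨ε⟩⟩ := Functor.EssSurj.mem_essImage (F := FibCat.evalAtId (ofPsh P) U)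
      (⟨⟨U, y⟩, rfl⟩ : (ofPsh P).p.Fiber U)
    have h0 := sec_id_of_iso P Xy y ε
    have hsec : ∀ a, sec P ((Stk.resSieve R (ofPsh P)).obj Xy) a =
        sec P ((Stk.resSieve R (ofPsh P)).obj X) a := fun a => by
      change sec P Xy a.obj = sec P X a.obj
      rw [hsecX a, sec_eq_map_id P Xy a.obj, h0]
      exact hy a.obj.hom a.property
    let β : Xy ⟶ X := (Stk.resSieve R (ofPsh P)).preimage (natTransOfSecEq P hsec)
    have := sec_eq_of_natTrans P β (Over.mk (𝟙 U))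
    rw [h0] at this
    exact this

theorem isStackFor_iff_isSheafFor : Stk.IsStackFor R (ofPsh P) ↔ Presieve.IsSheafFor P R.arrows :=
  ⟨isSheafFor_of_isStackFor P R, isStackFor_of_isSheafFor P R⟩

end Stack

end Groth.Agent.Helper6.OfPsh
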