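import Mathlib
import Groth.Prelude.Def_FibCat2
import Groth.Prelude.Def_AlgSt
import Groth.Agent.Helper6.OfPsh
import Groth.Agent.Helper6.FpTools
import Groth.Agent.Helper6.FpRep

/-!
# Helper6: based functors between categories of presheaves are maps of presheaves
-/

set_option autoImplicit false
set_option linter.style.haveILetI false
universe w v₂ u₂ v u

namespace Groth.Agent.Helper6.OfPshHom
open CategoryTheory Functor FibCat Limits Opposite
open Groth.Agent.Helper3 Stk Groth.Agent.Helper6.OfPsh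

variable {C : Type u} [Category.{v} C] {P Q R : Cᵒᵖ ⥤ Type w}

theorem sec_ofPshMap (φ : P ⟶ Q) (a : (ofPsh P).obj) :
    sec Q (ofPshMap φ) a = φ.app (op a.base) a.sec := by
  change tr Q _ rfl = _
  rw [tr_rfl]
  rfl

/-- the map of presheaves attached to a based functor -/
def homOf (G : ofPsh P ⥤ᵇ ofPsh Q) : P ⟶ Q where
  app T := ↾fun x => sec Q G (⟨T.unop, x⟩ : EltObj P)
  naturality T T' g := by
    ext x
    have := sec_map Q G (⟨g.unop, rfl⟩ : (⟨T'.unop, P.map g x⟩ : EltObj P) ⟶ ⟨T.unop, x⟩)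
    exact this.symm

theorem homOf_app (G : ofPsh P ⥤ᵇ ofPsh Q) (a : (ofPsh P).obj) :
    (homOf G).app (op a.base) a.sec = sec Q G a := rfl

/-- every based functor is isomorphic to the one attached to its map of presheaves -/
noncomputable def isoHomOf (G : ofPsh P ⥤ᵇ ofPsh Q) : G ≅ ofPshMap (homOf G) :=
  isoOfSecEq Q (fun a => by rw [sec_ofPshMap]; rfl)

theorem homOf_ofPshMap (φ : P ⟶ Q) : homOf (ofPshMap φ) = φ := by
  ext T x
  exact sec_ofPshMap φ ⟨T.unop, x⟩

theorem homOf_congr {G G' : ofPsh P ⥤ᵇ ofPsh Q} (e : G ≅ G') : homOf G = homOf G' := by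
  ext T x
  exact sec_eq_of_natTrans Q e.hom ⟨T.unop, x⟩

theorem ofPshMap_comp (φ : P ⟶ Q) (ψ : Q ⟶ R) :
    BasedFunctor.comp (ofPshMap φ) (ofPshMap ψ) = ofPshMap (φ ≫ ψ) := rfl

theorem ofPshMap_id : ofPshMap (𝟙 P) = BasedFunctor.id (ofPsh P) := rfl

theorem homOf_comp (G : ofPsh P ⥤ᵇ ofPsh Q) (G' : ofPsh Q ⥤ᵇ ofPsh R) :
    homOf (BasedFunctor.comp G G') = homOf G ≫ homOf G' := by
  have e : BasedFunctor.comp G G' ≅ ofPshMap (homOf G ≫ homOf G') :=
    (FpTools.whiskerRightIso' (isoHomOf G) G') ≪≫ FpTools.whiskerLeftIso' _ (isoHomOf G')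
  rw [homOf_congr e, homOf_ofPshMap]

theorem homOf_id : homOf (BasedFunctor.id (ofPsh P)) = 𝟙 P := by
  rw [← ofPshMap_id, homOf_ofPshMap]

/-- an equivalence over the base between categories of presheaves is an isomorphism of presheaves -/
noncomputable def isoOfIsEquivOver (G : ofPsh P ⥤ᵇ ofPsh Q) (hG : IsEquivOver G) : P ≅ Q where
  hom := homOf G
  inv := homOf hG.choose
  hom_inv_id := by
    rw [← homOf_comp, homOf_congr hG.choose_spec.1.some, homOf_id]
  inv_hom_id := by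
    rw [← homOf_comp, homOf_congr hG.choose_spec.2.some, homOf_id]

@[simp] theorem isoOfIsEquivOver_hom (G : ofPsh P ⥤ᵇ ofPsh Q) (hG : IsEquivOver G) :
    (isoOfIsEquivOver G hG).hom = homOf G := rfl

/-- the based functor of an isomorphism of presheaves is an equivalence -/
theorem isEquivOver_ofPshMap_iso (e : P ≅ Q) : IsEquivOver (ofPshMap e.hom) :=
  ⟨ofPshMap e.inv, ⟨eqToIso (by rw [ofPshMap_comp, e.hom_inv_id, ofPshMap_id])⟩,
    ⟨eqToIso (by rw [ofPshMap_comp, e.inv_hom_id, ofPshMap_id])⟩⟩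

end Groth.Agent.Helper6.OfPshHom
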