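import Mathlib
import Groth.Prelude.Def_FibCat2
import Groth.Prelude.Def_AlgSt
import Groth.Agent.Helper3.Fp
import Groth.Agent.Helper6.OfPsh
import Groth.Agent.Helper6.OfPshHom
import Groth.Agent.Helper6.FpTools
import Groth.Agent.Helper6.FpPaste

/-!
# Helper6: the 2-fibre product of categories of presheaves is the category of the fibre product
-/

set_option autoImplicit false
set_option linter.style.haveILetI false
universe w v₂ u₂ v u

namespace Groth.Agent.Helper6.OfPshFp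
open CategoryTheory Functor FibCat Limits Opposite
open Groth.Agent.Helper3 Stk Groth.Agent.Helper6.OfPsh Groth.Agent.Helper6.OfPshHom
open Groth.Agent.Helper6.FpTools

variable {C : Type u} [Category.{v} C] {F G H Pb : Cᵒᵖ ⥤ Type w}
  {a : F ⟶ H} {b : G ⟶ H} {fst : Pb ⟶ F} {snd : Pb ⟶ G}

theorem hom_eq_of_isHomLift {P : Cᵒᵖ ⥤ Type w} {x y : EltObj P} (φ : x ⟶ y) (f : x.base ⟶ y.base)
    (h : (EltObj.forget P).IsHomLift f φ) : φ.hom = f :=
  (@IsHomLift.eq_of_isHomLift _ _ _ _ (EltObj.forget P) x y f φ h).symm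

/-- the 2-isomorphism of a commutative square of presheaves -/
def sqIso (w : fst ≫ a = snd ≫ b) :
    BasedFunctor.comp (ofPshMap fst) (ofPshMap a) ≅ BasedFunctor.comp (ofPshMap snd) (ofPshMap b) :=
  eqToIso (by rw [ofPshMap_comp, ofPshMap_comp, w])

/-- the comparison functor -/
def toFp (w : fst ≫ a = snd ≫ b) : ofPsh Pb ⥤ᵇ fp (ofPshMap a) (ofPshMap b) :=
  fpLift (ofPshMap fst) (ofPshMap snd) (sqIso w)

theorem toFp_comp_fpFst (w : fst ≫ a = snd ≫ b) :
    BasedFunctor.comp (toFp w) (fpFst _ _) = ofPshMap fst := rfl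

theorem toFp_comp_fpSnd (w : fst ≫ a = snd ≫ b) :
    BasedFunctor.comp (toFp w) (fpSnd _ _) = ofPshMap snd := rfl

theorem isPullback_app (sq : IsPullback fst snd a b) (T : Cᵒᵖ) :
    IsPullback (fst.app T) (snd.app T) (a.app T) (b.app T) :=
  sq.map ((evaluation _ _).obj T)

theorem toFp_faithful (w : fst ≫ a = snd ≫ b) : (toFp w).toFunctor.Faithful := by
  constructor
  intro x y g g' h
  apply EltObj.hom_ext
  have := congrArg (fun φ : (toFp w).obj x ⟶ (toFp w).obj y => φ.hom.fst.hom) h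
  exact this

theorem snd_hom_eq {x y : (ofPsh Pb).obj} (w : fst ≫ a = snd ≫ b)
    (φ : (toFp w).obj x ⟶ (toFp w).obj y) : φ.hom.snd.hom = φ.hom.fst.hom := by
  haveI h1 : (EltObj.forget G).IsHomLift ((fp (ofPshMap a) (ofPshMap b)).p.map φ) φ.hom.snd :=
    fp_isHomLift_snd _ _ φ
  exact hom_eq_of_isHomLift φ.hom.snd φ.hom.fst.hom h1

theorem toFp_full (sq : IsPullback fst snd a b) : (toFp sq.w).toFunctor.Full := by
  constructor
  intro x y φ
  have hs := snd_hom_eq sq.w φ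
  have h1 : F.map φ.hom.fst.hom.op (fst.app _ y.sec) = fst.app _ x.sec := φ.hom.fst.map_sec
  have h2 : G.map φ.hom.snd.hom.op (snd.app _ y.sec) = snd.app _ x.sec := φ.hom.snd.map_sec
  rw [hs] at h2
  have hp : Pb.map φ.hom.fst.hom.op y.sec = x.sec := by
    apply Types.ext_of_isPullback (isPullback_app sq (op x.base))
    · exact (NatTrans.naturality_apply fst _ _).trans h1
    · exact (NatTrans.naturality_apply snd _ _).trans h2
  refine ⟨⟨φ.hom.fst.hom, hp⟩, ?_⟩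
  apply fp_hom_ext
  · apply EltObj.hom_ext; rfl
  · apply EltObj.hom_ext; exact hs.symm

theorem toFp_essSurj (sq : IsPullback fst snd a b)
    (z : (fp (ofPshMap a) (ofPshMap b)).obj) :
    ∃ (x : (ofPsh Pb).obj) (e : (toFp sq.w).obj x ≅ z),
      (fp (ofPshMap a) (ofPshMap b)).p.IsHomLift
        (𝟙 ((fp (ofPshMap a) (ofPshMap b)).p.obj z)) e.hom := by
  have hy : z.obj.snd.base = z.obj.fst.base := Fp.snd_obj_eq _ _ z
  obtain ⟨⟨x, y, i⟩, hz⟩ := z
  obtain ⟨xb, xs⟩ := x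
  obtain ⟨yb, ys⟩ := y
  dsimp only at hy
  subst hy
  have hz' : (EltObj.forget H).IsHomLift (𝟙 yb) i.hom := hz
  have hi : i.hom.hom = 𝟙 yb :=
    hom_eq_of_isHomLift i.hom (𝟙 yb) hz'
  have hab : a.app _ xs = b.app _ ys := by
    have h5 : H.map i.hom.hom.op (b.app _ ys) = a.app _ xs := i.hom.map_sec
    rw [hi] at h5
    have h6 : H.map (𝟙 yb).op (b.app _ ys) = b.app _ ys := by
      rw [op_id, H.map_id]; rfl
    exact h5.symm.trans h6
  obtain ⟨p, hp1, hp2⟩ := Types.exists_of_isPullback (isPullback_app sq (op yb)) xs ys hab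
  subst hp1 hp2
  refine ⟨⟨yb, p⟩, fpMkIso (Iso.refl _) (Iso.refl _) ?_, ?_⟩
  · apply EltObj.hom_ext
    have h3 : (EltObj.forget H).IsHomLift (𝟙 yb) ((toFp sq.w).obj ⟨yb, p⟩).obj.iso.hom :=
      ((toFp sq.w).obj ⟨yb, p⟩).property
    have hj : ((toFp sq.w).obj ⟨yb, p⟩).obj.iso.hom.hom = 𝟙 yb :=
      hom_eq_of_isHomLift ((toFp sq.w).obj ⟨yb, p⟩).obj.iso.hom (𝟙 yb) h3
    change 𝟙 yb ≫ i.hom.hom = ((toFp sq.w).obj ⟨yb, p⟩).obj.iso.hom.hom ≫ 𝟙 yb
    rw [hi, hj]
    rfl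
  · exact fpMkIso_lift _ _ _ (IsHomLift.id rfl)

theorem isEquivOver_toFp (sq : IsPullback fst snd a b) : IsEquivOver (toFp sq.w) :=
  (isEquivOver_iff _).2 ⟨toFp_full sq, toFp_faithful sq.w, toFp_essSurj sq⟩

end Groth.Agent.Helper6.OfPshFp
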