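import Mathlib
import Groth.Prelude.Def_FibCat2
import Groth.Prelude.Def_AlgSt
import Groth.Prelude.Def_AlgSt2
import Groth.Prelude.Def_AlgSpRep
import Groth.Agent.Helper3.Fp
import Groth.Agent.Helper6.OfPsh
import Groth.Agent.Helper6.OfPshHom
import Groth.Agent.Helper6.OfPshFp
import Groth.Agent.Helper6.FpTools
import Groth.Agent.Helper6.FpCospan
import Groth.Agent.Helper6.AlgStRep
import Groth.Agent.Helper6.AlgStEquiv

/-!
# Helper6: representability by algebraic spaces of maps of presheaves, stack form versus presheaf form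
-/

set_option autoImplicit false
set_option linter.style.haveILetI false
universe u

namespace Groth.Agent.Helper6.AlgStPsh
open CategoryTheory Functor FibCat Limits Opposite AlgebraicGeometry
open Groth.Agent.Helper3 Stk Groth.Agent.Helper6.OfPsh Groth.Agent.Helper6.OfPshHom
open Groth.Agent.Helper6.FpTools Groth.Agent.Helper6.OfPshFp Groth.Agent.Helper6.AlgStRep
open Groth.Agent.Helper6.AlgStEquiv

variable {S : Scheme.{u}} {F G : AlgSp.PSp S} (a : F ⟶ G) {U : Over S}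

/-- the category of `h_U` as the category of the presheaf `pyon U` -/
abbrev toOv (U : Over S) : ofPsh ((AlgSp.pyon S).obj U) ⥤ᵇ FibCat.overCat U := AlgSt.toOverCat U

abbrev ofOv (U : Over S) : FibCat.overCat U ⥤ᵇ ofPsh ((AlgSp.pyon S).obj U) := AlgSt.ofOverCat U

/-- the section of `G` over `U` classified by `y` -/
noncomputable def xiOf (y : FibCat.overCat U ⥤ᵇ ofPsh G) : (AlgSp.pyon S).obj U ⟶ G :=
  homOf (BasedFunctor.comp (toOv U) y)

/-- the functor classified by a section -/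
def yOf (ξ : (AlgSp.pyon S).obj U ⟶ G) : FibCat.overCat U ⥤ᵇ ofPsh G :=
  BasedFunctor.comp (ofOv U) (ofPshMap ξ)

theorem xiOf_yOf (ξ : (AlgSp.pyon S).obj U ⟶ G) : xiOf (yOf ξ) = ξ :=
  homOf_ofPshMap ξ

/-- `y` is the functor of its section -/
noncomputable def thetaIso (y : FibCat.overCat U ⥤ᵇ ofPsh G) :
    BasedFunctor.comp (ofPshMap (xiOf y)) (BasedFunctor.id (ofPsh G)) ≅
      BasedFunctor.comp (toOv U) y :=
  (isoHomOf (BasedFunctor.comp (toOv U) y)).symm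

variable {a}

/-- the equivalence from the category of a fibre product presheaf to the 2-fibre product -/
noncomputable def E (y : FibCat.overCat U ⥤ᵇ ofPsh G) {F' : AlgSp.PSp S} {fst : F' ⟶ F}
    {snd : F' ⟶ (AlgSp.pyon S).obj U} (sq : IsPullback fst snd a (xiOf y)) :
    ofPsh F' ⥤ᵇ fp y (ofPshMap a) :=
  BasedFunctor.comp (toFp sq.flip.w)
    (cospanFunctor y (ofPshMap a) (ofPshMap (xiOf y)) (ofPshMap a) (toOv U)
      (BasedFunctor.id _) (BasedFunctor.id _) (thetaIso y) (Iso.refl _))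

theorem isEquivOver_E (y : FibCat.overCat U ⥤ᵇ ofPsh G) {F' : AlgSp.PSp S} {fst : F' ⟶ F}
    {snd : F' ⟶ (AlgSp.pyon S).obj U} (sq : IsPullback fst snd a (xiOf y)) :
    IsEquivOver (E y sq) :=
  isEquivOver_comp (isEquivOver_toFp sq.flip)
    (isEquivOver_cospanFunctor _ _ _ _ _ _ _ _ _ (isEquivOver_toOverCat U) (isEquivOver_id _)
      (isEquivOver_id _))

theorem E_comp_fpFst (y : FibCat.overCat U ⥤ᵇ ofPsh G) {F' : AlgSp.PSp S} {fst : F' ⟶ F}
    {snd : F' ⟶ (AlgSp.pyon S).obj U} (sq : IsPullback fst snd a (xiOf y)) :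
    BasedFunctor.comp (E y sq) (fpFst y (ofPshMap a)) =
      BasedFunctor.comp (ofPshMap snd) (toOv U) := rfl

theorem spMapOfOver_ofSpMap_toOverCat {F' : AlgSp.Sp S} (snd : F' ⟶ (AlgSp.yon S).obj U) :
    AlgSt.spMapOfOver (BasedFunctor.comp (AlgSt.ofSpMap snd) (AlgSt.toOverCat U)) = snd := by
  apply ObjectProperty.hom_ext
  ext T x
  change (⟨AlgSt.secHom (BasedFunctor.comp (AlgSt.ofSpMap snd) (AlgSt.toOverCat U)) ⟨T.unop, x⟩⟩ :
    ULift _) = snd.hom.app T x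
  apply ULift.ext
  exact Category.id_comp _

variable (a)

theorem repByAlgSp1_of_repBySp (h : AlgSp.RepBySp a) : AlgSt.RepByAlgSp1 (Stk.ofPshMap a) := by
  intro U y
  have sq := IsPullback.of_hasPullback a (xiOf y)
  obtain ⟨hsh, hA⟩ := h (xiOf y) _ _ sq
  exact ⟨⟨⟨pullback a (xiOf y), hsh⟩, hA⟩, E y sq, isEquivOver_E y sq⟩

theorem repBySp_of_repByAlgSp1 (h : AlgSt.RepByAlgSp1 (Stk.ofPshMap a)) : AlgSp.RepBySp a := by
  intro U ξ F' fst snd sq
  obtain ⟨X, e, he⟩ := h U (yOf ξ)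
  have sq' : IsPullback fst snd a (xiOf (yOf ξ)) := by rw [xiOf_yOf]; exact sq
  have hE := isEquivOver_E (yOf ξ) sq'
  obtain ⟨K, hK, -, -⟩ := EquivOver.symm hE
  have hKe : IsEquivOver (BasedFunctor.comp e K) := isEquivOver_comp he hK
  have i : X.obj.obj ≅ F' := isoOfIsEquivOver (BasedFunctor.comp e K) hKe
  exact ((AlgSp.isAlgSpaceP_obj_iff X.obj).2 X.property).of_iso i

theorem repBySp_iff_repByAlgSp1 : AlgSp.RepBySp a ↔ AlgSt.RepByAlgSp1 (Stk.ofPshMap a) :=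
  ⟨repByAlgSp1_of_repBySp a, repBySp_of_repByAlgSp1 a⟩

theorem repByAlgSpWith_of_repBySpWith (Q : MorphismProperty (AlgSp.Sp S))
    (h : AlgSp.RepBySpWith Q a) : AlgSt.RepByAlgSpWith Q (Stk.ofPshMap a) := by
  intro U y
  have sq := IsPullback.of_hasPullback a (xiOf y)
  obtain ⟨hsh, hA, hQ⟩ := h (xiOf y) _ _ sq
  refine ⟨⟨⟨pullback a (xiOf y), hsh⟩, hA⟩, E y sq, isEquivOver_E y sq, ?_⟩
  have h1 := spMapOfOver_ofSpMap_toOverCat (U := U)
    (ObjectProperty.homMk (pullback.snd a (xiOf y)) :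
      (⟨pullback a (xiOf y), hsh⟩ : AlgSp.Sp S) ⟶ (AlgSp.yon S).obj U)
  rw [← h1] at hQ
  exact hQ

theorem repBySpWith_of_repByAlgSpWith (Q : MorphismProperty (AlgSp.Sp S)) [Q.RespectsIso]
    (ha : AlgSp.RepBySp a) (h : AlgSt.RepByAlgSpWith Q (Stk.ofPshMap a)) :
    AlgSp.RepBySpWith Q a := by
  intro U ξ F' fst snd sq
  obtain ⟨hsh, hA⟩ := ha ξ fst snd sq
  refine ⟨hsh, hA, ?_⟩
  obtain ⟨X, e, he, hQ⟩ := h U (yOf ξ)
  have sq' : IsPullback fst snd a (xiOf (yOf ξ)) := by rw [xiOf_yOf]; exact sq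
  have hE := isEquivOver_E (yOf ξ) sq'
  obtain ⟨K, hK, -, ⟨ε⟩⟩ := EquivOver.symm hE
  have hKe : IsEquivOver (BasedFunctor.comp e K) := isEquivOver_comp he hK
  let i : X.obj.obj ≅ F' := isoOfIsEquivOver (BasedFunctor.comp e K) hKe
  let i' : X.obj ≅ (⟨F', hsh⟩ : AlgSp.Sp S) :=
    (fullyFaithfulSheafToPresheaf (AlgSp.J S) _).preimageIso
      (X := X.obj) (Y := (⟨F', hsh⟩ : AlgSp.Sp S)) i
  have hi' : i'.hom.hom = homOf (BasedFunctor.comp e K) := rfl
  let sndS : (⟨F', hsh⟩ : AlgSp.Sp S) ⟶ (AlgSp.yon S).obj U := ObjectProperty.homMk snd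
  have j1 : BasedFunctor.comp e (BasedFunctor.comp K (E (yOf ξ) sq')) ≅ e :=
    whiskerLeftIso' e ε
  have j2 : BasedFunctor.comp e (fpFst (yOf ξ) (ofPshMap a)) ≅
      BasedFunctor.comp (BasedFunctor.comp e K) (BasedFunctor.comp (ofPshMap snd) (toOv U)) :=
    whiskerRightIso' j1.symm (fpFst (yOf ξ) (ofPshMap a))
  have j3 : BasedFunctor.comp (BasedFunctor.comp e K) (BasedFunctor.comp (ofPshMap snd) (toOv U)) ≅
      BasedFunctor.comp (AlgSt.ofSpMap (i'.hom ≫ sndS)) (AlgSt.toOverCat U) :=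
    whiskerRightIso' (isoHomOf (BasedFunctor.comp e K)) (BasedFunctor.comp (ofPshMap snd) (toOv U))
  have h2 : AlgSt.spMapOfOver (BasedFunctor.comp e (fpFst (yOf ξ) (ofPshMap a))) = i'.hom ≫ sndS := by
    rw [spMapOfOver_congr (j2 ≪≫ j3)]
    exact spMapOfOver_ofSpMap_toOverCat _
  rw [h2] at hQ
  exact (Q.cancel_left_of_respectsIso i'.hom sndS).1 hQ

theorem repBySpWith_iff_repByAlgSpWith (Q : MorphismProperty (AlgSp.Sp S)) [Q.RespectsIso]
    (ha : AlgSp.RepBySp a) :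
    AlgSp.RepBySpWith Q a ↔ AlgSt.RepByAlgSpWith Q (Stk.ofPshMap a) :=
  ⟨repByAlgSpWith_of_repBySpWith a Q, repBySpWith_of_repByAlgSpWith a Q ha⟩

end Groth.Agent.Helper6.AlgStPsh
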