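import Mathlib
import Groth.Prelude.Def_FibCat2
import Groth.Prelude.Def_AlgSt
import Groth.Prelude.Def_AlgSt2
import Groth.Prelude.Def_AlgSpRep
import Groth.Agent.Helper4.AlgSpPB
import Groth.Agent.Helper6.AlgStPsh
import Groth.Agent.Helper6.AlgStInv

/-!
# Helper6: functors between categories of algebraic spaces are representable by algebraic spaces
-/

set_option autoImplicit false
set_option linter.style.haveILetI false
universe u

namespace Groth.Agent.Helper6.AlgStSpMap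
open CategoryTheory Functor FibCat Limits Opposite AlgebraicGeometry
open Groth.Agent.Helper3 Stk Groth.Agent.Helper6.OfPsh Groth.Agent.Helper6.OfPshHom
open Groth.Agent.Helper6.FpTools Groth.Agent.Helper6.OfPshFp Groth.Agent.Helper6.AlgStRep
open Groth.Agent.Helper6.AlgStEquiv Groth.Agent.Helper6.AlgStPsh Groth.Agent.Helper6.AlgStInv

variable {S : Scheme.{u}}

/-- a map of algebraic spaces is representable by algebraic spaces (presheaf form) -/
theorem repBySp_of_isAlgSpace {X Y : AlgSp.Sp S} (hX : AlgSp.IsAlgSpace X) (hY : AlgSp.IsAlgSpace Y)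
    (φ : X ⟶ Y) : AlgSp.RepBySp φ.hom := by
  rw [AlgSp.repBySp_hom_iff]
  intro U ξ F' fst snd sq
  exact Groth.Agent.Helper4.AlgSpPB.isAlgSpace_of_isPullback hY.diag hX (AlgSp.IsAlgSpace.yon_obj U)
    φ ξ fst snd sq

/-- `RepByAlgSpWith` is invariant under 2-isomorphism -/
theorem repByAlgSpWith_of_iso (P : MorphismProperty (AlgSp.Sp S)) {𝒳 𝒴 : AlgSt.Cat S}
    {f f' : 𝒳 ⥤ᵇ 𝒴} (e : f' ≅ f) (hf : AlgSt.RepByAlgSpWith P f) : AlgSt.RepByAlgSpWith P f' :=
  repByAlgSpWith_of_square P f f' (BasedFunctor.id _) (BasedFunctor.id _) (isEquivOver_id _)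
    (isEquivOver_id _) e hf

/-- every functor between categories of algebraic spaces is representable by algebraic spaces -/
theorem repByAlgSp1_ofSp {X Y : AlgSp.Sp S} (hX : AlgSp.IsAlgSpace X) (hY : AlgSp.IsAlgSpace Y)
    (f : AlgSt.ofSp X ⥤ᵇ AlgSt.ofSp Y) : AlgSt.RepByAlgSp1 f := by
  rw [repByAlgSp1_iff_top]
  refine repByAlgSpWith_of_iso ⊤ (isoHomOf f) ?_
  rw [← repByAlgSp1_iff_top]
  exact repByAlgSp1_of_repBySp _
    (repBySp_of_isAlgSpace hX hY (ObjectProperty.homMk (homOf f)))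

theorem repByAlgSp1_of_repByAlgSp {𝒳 𝒴 : AlgSt.Cat S} (hX : AlgSt.RepByAlgSp 𝒳)
    (hY : AlgSt.RepByAlgSp 𝒴) (f : 𝒳 ⥤ᵇ 𝒴) : AlgSt.RepByAlgSp1 f := by
  obtain ⟨X, eX, heX⟩ := hX
  obtain ⟨Y, eY, heY⟩ := hY
  obtain ⟨KY, hKY, -, ⟨ε⟩⟩ := EquivOver.symm heY
  rw [repByAlgSp1_iff_top]
  refine repByAlgSpWith_of_square' ⊤ f
    (BasedFunctor.comp (BasedFunctor.comp eX f) KY) eX eY heX heY
    (whiskerLeftIso' (BasedFunctor.comp eX f) ε) ?_
  rw [← repByAlgSp1_iff_top]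
  exact repByAlgSp1_ofSp X.property Y.property _

end Groth.Agent.Helper6.AlgStSpMap
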