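import Mathlib
import Groth.Prelude.Def_FibCat2
import Groth.Agent.Helper3.EquivOver
import Groth.Agent.Helper3.Fp
import Groth.Agent.Helper3.FpDiag
import Groth.Agent.Helper6.FpTools
import Groth.Agent.Helper6.FpPaste

/-!
# Helper6: more on 2-fibre products (universe-polymorphic versions)
-/

set_option autoImplicit false
set_option linter.style.haveILetI false
universe v₇ u₇ v₆ u₆ v₅ u₅ v₄ u₄ v₃ u₃ v₂ u₂ v u

namespace Groth.Agent.Helper6.FpTools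
open CategoryTheory Functor FibCat Limits
open Groth.Agent.Helper3

variable {C : Type u} [Category.{v} C]

/-- The 2-fibre product of categories fibred in groupoids is fibred in groupoids (any universes). -/
theorem isFibGrpd_fp {𝒳 : BasedCategory.{v₂, u₂} C} {𝒴 : BasedCategory.{v₃, u₃} C}
    {𝒮 : BasedCategory.{v₄, u₄} C} (F : 𝒳 ⥤ᵇ 𝒮) (G : 𝒴 ⥤ᵇ 𝒮) (h𝒳 : IsFibGrpd 𝒳.p)
    (h𝒴 : IsFibGrpd 𝒴.p) (h𝒮 : IsFibGrpd 𝒮.p) : IsFibGrpd (fp F G).p := by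
  refine ⟨?_, ?_⟩
  · intro x V f
    change V ⟶ 𝒳.p.obj x.obj.fst at f
    obtain ⟨a', φ₁, hφ₁⟩ := h𝒳.exists_lift (x := x.obj.fst) f
    obtain ⟨b', φ₂, hφ₂⟩ := FibGrpd.exists_lift' h𝒴 (Fp.snd_obj_eq F G x) f
    haveI := FibGrpd.isStronglyCartesian h𝒮 f (F.map φ₁)
    haveI := FibGrpd.isStronglyCartesian h𝒮 f (G.map φ₂)
    obtain ⟨x', Φ, h₁, h₂, hΦ₁, hΦ₂⟩ := Fp.exists_lift_obj F G x f φ₁ φ₂
    refine ⟨x', Φ, Fp.isHomLift_of_fst F G f Φ ?_⟩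
    rw [hΦ₁]; infer_instance
  · intro y x Φ
    haveI : 𝒳.p.IsStronglyCartesian ((fp F G).p.map Φ) Φ.hom.fst :=
      h𝒳.isStronglyCartesian Φ.hom.fst
    haveI : 𝒴.p.IsStronglyCartesian ((fp F G).p.map Φ) Φ.hom.snd :=
      FibGrpd.isStronglyCartesian h𝒴 _ Φ.hom.snd
    haveI : 𝒮.p.IsStronglyCartesian ((fp F G).p.map Φ) (G.map Φ.hom.snd) :=
      FibGrpd.isStronglyCartesian h𝒮 _ (G.map Φ.hom.snd)
    exact Fp.isStronglyCartesian_of F G _ Φ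

/-- `𝒮 ×_C 𝒮` is fibred in groupoids. -/
theorem isFibGrpd_fp_toSelf {𝒳 : BasedCategory.{v₂, u₂} C} {𝒴 : BasedCategory.{v₃, u₃} C}
    (h𝒳 : IsFibGrpd 𝒳.p) (h𝒴 : IsFibGrpd 𝒴.p) : IsFibGrpd (fp (toSelf 𝒳) (toSelf 𝒴)).p :=
  isFibGrpd_fp _ _ h𝒳 h𝒴 FibGrpd.isFibGrpd_id

end Groth.Agent.Helper6.FpTools
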