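import Mathlib
import Groth.Prelude.Def_FibCat2
import Groth.Prelude.Def_AlgSt
import Groth.Prelude.Def_AlgSt2
import Groth.Agent.Helper3.EquivOver
import Groth.Agent.Helper3.Fp
import Groth.Agent.Helper6.FpTools
import Groth.Agent.Helper6.FpPaste
import Groth.Agent.Helper6.FpRep
import Groth.Agent.Helper6.FpMore
import Groth.Agent.Helper6.FpCompare
import Groth.Agent.Helper6.AlgStCmp
import Groth.Agent.Helper6.AlgStSpMap
import Groth.Agent.Helper6.RepComp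

/-!
# Helper6: the diagonal of a composite
-/

set_option autoImplicit false
set_option linter.style.haveILetI false
set_option linter.unusedVariables false
universe v₄ u₄ v₃ u₃ v₂ u₂ v u

namespace Groth.Agent.Helper6.DiagComp
open CategoryTheory Functor FibCat Limits
open Groth.Agent.Helper3 Groth.Agent.Helper6.FpTools

section General

variable {C : Type u} [Category.{v} C]
variable {𝒳 : BasedCategory.{v₂, u₂} C} {𝒴 : BasedCategory.{v₃, u₃} C} {𝒵 : BasedCategory.{v₄, u₄} C}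
  (f : 𝒳 ⥤ᵇ 𝒴) (g : 𝒴 ⥤ᵇ 𝒵)

/-- the 2-isomorphism defining the comparison `𝒳 ×_𝒴 𝒳 ⟶ 𝒳 ×_𝒵 𝒳` -/
def selfIso : BasedFunctor.comp (fpFst f f) (BasedFunctor.comp f g) ≅
    BasedFunctor.comp (fpSnd f f) (BasedFunctor.comp f g) :=
  whiskerRightIso' (fpIso f f) g

theorem selfIso_app (x : (fp f f).obj) :
    (selfIso f g).hom.toNatTrans.app x = g.map x.obj.iso.hom := rfl

/-- the comparison `𝒳 ×_𝒴 𝒳 ⟶ 𝒳 ×_𝒵 𝒳` -/
abbrev cmpSelf : fp f f ⥤ᵇ fp (BasedFunctor.comp f g) (BasedFunctor.comp f g) :=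
  fpLift (fpFst f f) (fpSnd f f) (selfIso f g)

/-- `Δ_{g ∘ f} ≅ cmp ∘ Δ_f` -/
def diagCompIso : diag (BasedFunctor.comp f g) ≅ BasedFunctor.comp (diag f) (cmpSelf f g) :=
  BasedNatIso.mkNatIso
    (NatIso.ofComponents
      (fun x => fpMkIso (x := (diag (BasedFunctor.comp f g)).obj x)
        (z := (cmpSelf f g).obj ((diag f).obj x)) (Iso.refl _) (Iso.refl _) (by
          change g.map (f.map (𝟙 x)) ≫ g.map (𝟙 (f.obj x)) = 𝟙 _ ≫ g.map (f.map (𝟙 x))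
          have h1 : f.map (𝟙 x) = 𝟙 _ := f.toFunctor.map_id _
          have h2 : g.map (𝟙 (f.obj x)) = 𝟙 _ := g.toFunctor.map_id _
          rw [h1, h2, Category.id_comp]))
      (fun {x x'} k => by
        apply fp_hom_ext
        · change k ≫ 𝟙 _ = 𝟙 _ ≫ k
          rw [Category.comp_id, Category.id_comp]
        · change k ≫ 𝟙 _ = 𝟙 _ ≫ k
          rw [Category.comp_id, Category.id_comp]))
    (fun x => by
      apply fpMkIso_lift
      exact IsHomLift.id rfl)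

end General

section AlgSt
open AlgebraicGeometry

universe w

variable {S : Scheme.{w}} {𝒳 𝒴 𝒵 : AlgSt.Cat S}

theorem repByAlgSpWith_diag_comp (h𝒳 : IsFibGrpd 𝒳.p) (h𝒴 : IsFibGrpd 𝒴.p)
    (P : MorphismProperty (AlgSp.Sp S))
    (hPc : ∀ ⦃X Y Z : AlgSp.Sp S⦄, AlgSp.IsAlgSpace X → AlgSp.IsAlgSpace Y → AlgSp.IsAlgSpace Z →
      ∀ (a : X ⟶ Y) (b : Y ⟶ Z), P a → P b → P (a ≫ b))
    (hP : AlgSp.IsLocalOnBase AlgSp.IsFppfCover P)
    (f : 𝒳 ⥤ᵇ 𝒴) (g : 𝒴 ⥤ᵇ 𝒵) (hf : AlgSt.RepByAlgSpWith P (diag f))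
    (hg : AlgSt.RepByAlgSpWith P (diag g)) :
    AlgSt.RepByAlgSpWith P (diag (BasedFunctor.comp f g)) := by
  refine Groth.Agent.Helper6.AlgStSpMap.repByAlgSpWith_of_iso P (diagCompIso f g) ?_
  exact Groth.Agent.Helper6.RepComp.repByAlgSpWith_comp h𝒳 (isFibGrpd_fp f f h𝒳 h𝒳 h𝒴) P hPc hP
    (diag f) (cmpSelf f g) hf
    (Groth.Agent.Helper6.AlgStBC.repByAlgSpWith_fpComparison P f f g (selfIso f g)
      (selfIso_app f g) hg)

end AlgSt

end Groth.Agent.Helper6.DiagComp
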