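import Mathlib
import Groth.Prelude.Def_AlgSpCov
import Groth.Agent.S10505
import Groth.Agent.S10519
import Groth.Agent.S10520
import Groth.Agent.S10521
import Groth.Agent.S10522
import Groth.Agent.S10523
import Groth.Agent.S10524
import Groth.Agent.S10525
import Groth.Agent.S10526
import Groth.Agent.S10527
import Groth.Agent.S10528
import Groth.Agent.S10529
import Groth.Agent.S10530
import Groth.Agent.S10531
import Groth.Agent.S10532
import Groth.Agent.S10535
import Groth.Agent.S10536
import Groth.Agent.S10542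
import Groth.Agent.S10543
import Groth.Agent.S10544
import Groth.Agent.S10546

/-!
# Helper6: properties of morphisms of algebraic spaces which are fppf local on the base (from the fpqc rows)
-/

set_option autoImplicit false
universe u

namespace Groth.Agent.Helper6.LocalFppf
open CategoryTheory CategoryTheory.Limits AlgebraicGeometry Opposite AlgSp

variable {S : Scheme.{u}}

theorem fppf_of_fpqc {P : MorphismProperty (Sp S)} (h : IsLocalOnBase IsFpqcCover P) :
    IsLocalOnBase IsFppfCover P := by
  intro ι Y Yi g hY hYi hc X f hX Xi p q hXi hsq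
  exact h Yi g hY hYi
    (Groth.Agent.S10505.result (⟨Y, hY⟩ : Space S) (fun i => (⟨Yi i, hYi i⟩ : Space S))
      (fun i => ObjectProperty.homMk (g i)) hc) f hX Xi p q hXi hsq

theorem inf {τ : CovNotion S} {P Q : MorphismProperty (Sp S)} (hP : IsLocalOnBase τ P)
    (hQ : IsLocalOnBase τ Q) : IsLocalOnBase τ (P ⊓ Q) := by
  intro ι Y Yi g hY hYi hc X f hX Xi p q hXi hsq
  have h1 := hP Yi g hY hYi hc f hX Xi p q hXi hsq
  have h2 := hQ Yi g hY hYi hc f hX Xi p q hXi hsq
  constructor
  · rintro ⟨a, b⟩ i
    exact ⟨h1.1 a i, h2.1 b i⟩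
  · intro h
    exact ⟨h1.2 fun i => (h i).1, h2.2 fun i => (h i).2⟩

theorem quasiCompact : IsLocalOnBase IsFppfCover (IsQuasiCompactMor (S := S)) :=
  fppf_of_fpqc (Groth.Agent.S10519.result S)
theorem quasiSeparated : IsLocalOnBase IsFppfCover (IsQuasiSeparatedMor (S := S)) :=
  fppf_of_fpqc (Groth.Agent.S10520.result S)
theorem univClosed : IsLocalOnBase IsFppfCover (IsUnivClosedMor (S := S)) :=
  fppf_of_fpqc (Groth.Agent.S10521.result S)
theorem univOpen : IsLocalOnBase IsFppfCover (IsUnivOpenMor (S := S)) :=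
  fppf_of_fpqc (Groth.Agent.S10522.result S)
theorem univSubmersive : IsLocalOnBase IsFppfCover (IsUnivSubmersiveMor (S := S)) :=
  fppf_of_fpqc (Groth.Agent.S10523.result S)
theorem univInjective : IsLocalOnBase IsFppfCover (IsUnivInjectiveMor (S := S)) :=
  fppf_of_fpqc (Groth.Agent.S10524.result S)
theorem univHomeo : IsLocalOnBase IsFppfCover (IsUnivHomeoMor (S := S)) :=
  fppf_of_fpqc (Groth.Agent.S10525.result S)
theorem lft : IsLocalOnBase IsFppfCover (LocP (S := S) @LocallyOfFiniteType) :=
  fppf_of_fpqc (Groth.Agent.S10526.result S)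
theorem lfp : IsLocalOnBase IsFppfCover (LocP (S := S) @LocallyOfFinitePresentation) :=
  fppf_of_fpqc (Groth.Agent.S10527.result S)
theorem finiteType : IsLocalOnBase IsFppfCover (IsFiniteTypeMor (S := S)) :=
  fppf_of_fpqc (Groth.Agent.S10528.result S)
theorem finitePresentation : IsLocalOnBase IsFppfCover (IsFinitePresentationMor (S := S)) :=
  fppf_of_fpqc (Groth.Agent.S10529.result S)
theorem flat : IsLocalOnBase IsFppfCover (LocP (S := S) @Flat) :=
  fppf_of_fpqc (Groth.Agent.S10530.result S)
theorem openImm : IsLocalOnBase IsFppfCover (RepWith (S := S) @IsOpenImmersion) :=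
  fppf_of_fpqc (Groth.Agent.S10531.result S)
theorem isos : IsLocalOnBase IsFppfCover (MorphismProperty.isomorphisms (Sp S)) :=
  fppf_of_fpqc (Groth.Agent.S10532.result S)
theorem separated : IsLocalOnBase IsFppfCover (IsSeparatedMor (S := S)) :=
  fppf_of_fpqc (Groth.Agent.S10535.result S)
theorem proper : IsLocalOnBase IsFppfCover (IsProperMor (S := S)) :=
  fppf_of_fpqc (Groth.Agent.S10536.result S)
theorem smooth : IsLocalOnBase IsFppfCover (LocP (S := S) @Smooth) :=
  fppf_of_fpqc (Groth.Agent.S10542.result S)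
theorem unramified :
    IsLocalOnBase IsFppfCover (LocP (S := S) (@LocallyOfFiniteType ⊓ @FormallyUnramified)) :=
  fppf_of_fpqc (Groth.Agent.S10543.result S)
theorem etale : IsLocalOnBase IsFppfCover (IsEtaleMor (S := S)) :=
  fppf_of_fpqc (Groth.Agent.S10544.result S)
theorem monos : IsLocalOnBase IsFppfCover (MorphismProperty.monomorphisms (Sp S)) :=
  fppf_of_fpqc (Groth.Agent.S10546.result S)

end Groth.Agent.Helper6.LocalFppf
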