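import Mathlib
import Groth.Prelude.Def_AlgSp
import Groth.Prelude.Def_AlgSp2
import Groth.Prelude.Def_AlgSp3
import Groth.Prelude.Def_AlgSp4
import Groth.Prelude.Def_AlgSpCov
import Groth.Prelude.Def_AlgSpRep
import Groth.Agent.Helper4.AlgSpLocP
import Groth.Agent.Helper4.AlgSpPts

/-!
# Helper6: properties fppf local on the base are invariant under isomorphism and descend along an atlas
-/

set_option autoImplicit false
set_option linter.style.haveILetI false
set_option linter.unusedVariables false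
universe u

namespace Groth.Agent.Helper6.LocalIso
open CategoryTheory CategoryTheory.Limits AlgebraicGeometry Opposite AlgSp

variable {S : Scheme.{u}}

/-- an isomorphism has `LocP P` for any `P` containing étale morphisms -/
theorem locP_of_isIso (P : MorphismProperty Scheme.{u})
    (hEP : ∀ {A B : Scheme.{u}} (g : A ⟶ B), Etale g → P g)
    {X Y : Sp S} (e : X ⟶ Y) [IsIso e] : LocP P e := by
  intro U V a b h ha hb comm
  have h1 : RepWith @Etale (a ≫ e) := MorphismProperty.RespectsIso.postcomp _ e a ha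
  exact hEP _ (Groth.Agent.Helper4.AlgSpLocP.etale_of_comp (a ≫ e) b h h1 hb comm.symm)

theorem isFppfCover_of_isIso {X Y : Sp S} (e : X ⟶ Y) [IsIso e] :
    IsFppfCover (fun _ : PUnit.{u + 1} => X) (fun _ => e) := by
  refine ⟨fun _ => ⟨locP_of_isIso _ (fun g hg => by haveI := hg; infer_instance) e,
    locP_of_isIso _ (fun g hg => by haveI := hg; infer_instance) e⟩, fun x => ⟨PUnit.unit, ?_⟩⟩
  refine ⟨Points.map (inv e) x, ?_⟩
  rw [← Points.map_comp, IsIso.inv_hom_id, Points.map_id]

/-- fppf-local on the base implies invariant under isomorphisms of arrows of algebraic spaces -/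
theorem of_arrow_iso {P : MorphismProperty (Sp S)} (hP : IsLocalOnBase IsFppfCover P)
    {X Y X' Y' : Sp S} (hX : IsAlgSpace X) (hY : IsAlgSpace Y) (hX' : IsAlgSpace X')
    (hY' : IsAlgSpace Y') (f : X ⟶ Y) (f' : X' ⟶ Y') (eX : X ⟶ X') (eY : Y ⟶ Y') [IsIso eX]
    [IsIso eY] (w : eX ≫ f' = f ≫ eY) (hf : P f) : P f' := by
  have sq : IsPullback eX f f' eY := IsPullback.of_horiz_isIso ⟨w⟩
  exact (hP (fun _ : PUnit.{u + 1} => Y) (fun _ => eY) hY' (fun _ => hY) (isFppfCover_of_isIso eY)
    f' hX' (fun _ => X) (fun _ => f) (fun _ => eX) (fun _ => hX) (fun _ => sq)).2 (fun _ => hf)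

theorem of_isoClosure {P : MorphismProperty (Sp S)} (hP : IsLocalOnBase IsFppfCover P)
    {X Y : Sp S} (hX : IsAlgSpace X) (hY : IsAlgSpace Y) (f : X ⟶ Y) (h : P.isoClosure f) :
    P f := by
  obtain ⟨X', Y', f', hf', ⟨e⟩⟩ := h
  have hX' : IsAlgSpace X' := hX.of_iso (Arrow.leftFunc.mapIso e).symm
  have hY' : IsAlgSpace Y' := hY.of_iso (Arrow.rightFunc.mapIso e).symm
  exact of_arrow_iso hP hX' hY' hX hY f' f e.hom.left e.hom.right e.hom.w hf'

theorem isFppfCover_of_atlas {G : Sp S} {V : Over S} (p : (yon S).obj V ⟶ G)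
    (hpe : RepWith @Etale p) (hps : RepWith @Surjective p) :
    IsFppfCover (fun _ : PUnit.{u + 1} => (yon S).obj V) (fun _ => p) := by
  refine ⟨fun _ => ⟨?_, ?_⟩, fun x => ⟨PUnit.unit, ?_⟩⟩
  · exact Groth.Agent.Helper4.AlgSpLocP.locP_of_repWith @Flat @Etale
      (fun g hg => by haveI := hg; infer_instance) (fun g hg => by haveI := hg; infer_instance) p hpe
  · exact Groth.Agent.Helper4.AlgSpLocP.locP_of_repWith @LocallyOfFinitePresentation @Etale
      (fun g hg => by haveI := hg; infer_instance) (fun g hg => by haveI := hg; infer_instance) p hpe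
  · exact Groth.Agent.Helper4.AlgSpPts.isSurjectiveMor_of_repWith p hps x

/-- descending `P` along an atlas of the target -/
theorem P_of_repBySpWith {P : MorphismProperty (Sp S)} (hP : IsLocalOnBase IsFppfCover P)
    {F G : Sp S} (hF : IsAlgSpace F) (hG : IsAlgSpace G) (a : F ⟶ G)
    (h : RepBySpWith P.isoClosure a.hom) : P a := by
  obtain ⟨V, p, hpe, hps⟩ := hG.atlas
  have sq : IsPullback (pullback.fst a p) (pullback.snd a p) a p := IsPullback.of_hasPullback a p
  have sq' : IsPullback (pullback.fst a p).hom (pullback.snd a p).hom a.hom p.hom :=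
    IsPullback.map (sheafToPresheaf (J S) (Type (u + 1))) sq
  obtain ⟨hsh, hA, hQ⟩ := h p.hom _ _ sq'
  have hA' : IsAlgSpace (pullback a p) := hA
  have hQ' : P (pullback.snd a p) := of_isoClosure hP hA' (IsAlgSpace.yon_obj V) _ hQ
  exact (hP (fun _ : PUnit.{u + 1} => (yon S).obj V) (fun _ => p) hG
    (fun _ => IsAlgSpace.yon_obj V) (isFppfCover_of_atlas p hpe hps) a hF
    (fun _ => pullback a p) (fun _ => pullback.snd a p) (fun _ => pullback.fst a p)
    (fun _ => hA') (fun _ => sq)).2 (fun _ => hQ')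

end Groth.Agent.Helper6.LocalIso
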