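import Mathlib
import Groth.Prelude.Def_FibCat2
import Groth.Prelude.Def_AlgSt
import Groth.Agent.Helper3.EquivOver
import Groth.Agent.Helper3.FibGrpd
import Groth.Agent.Helper3.FibSetoid

/-!
# Helper6: the presheaf of isomorphism classes of a category fibred in setoids
-/

set_option autoImplicit false
set_option linter.style.haveILetI false
set_option linter.unusedVariables false
universe v₂ u₂ v u

namespace Groth.Agent.Helper6.IsoPsh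
open CategoryTheory Functor FibCat Opposite Groth.Agent.Helper3 Groth.Agent.Helper3.FibSetoid

variable {C : Type u} [Category.{v} C]
variable (𝒳 : BasedCategory.{v₂, u₂} C) (h𝒳 : IsFibSetoid 𝒳.p)

theorem P_unique {U V : C} (f : U ⟶ V) (ξ ξ' : Quotient (fibSetoid 𝒳 h𝒳 U))
    (η : Quotient (fibSetoid 𝒳 h𝒳 V)) (h : P 𝒳 h𝒳 f ξ η) (h' : P 𝒳 h𝒳 f ξ' η) : ξ = ξ' := by
  apply eq_of_P_id 𝒳 h𝒳
  apply P_of_comp 𝒳 h𝒳 f (𝟙 U) ξ' η ξ h'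
  rw [Category.id_comp]; exact h

/-- pullback of classes -/
noncomputable def pull {U V : C} (f : U ⟶ V) (η : Quotient (fibSetoid 𝒳 h𝒳 V)) :
    Quotient (fibSetoid 𝒳 h𝒳 U) := (exists_P 𝒳 h𝒳 f η).choose

theorem pull_spec {U V : C} (f : U ⟶ V) (η : Quotient (fibSetoid 𝒳 h𝒳 V)) :
    P 𝒳 h𝒳 f (pull 𝒳 h𝒳 f η) η := (exists_P 𝒳 h𝒳 f η).choose_spec

theorem pull_eq_iff {U V : C} (f : U ⟶ V) (ξ : Quotient (fibSetoid 𝒳 h𝒳 U))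
    (η : Quotient (fibSetoid 𝒳 h𝒳 V)) : pull 𝒳 h𝒳 f η = ξ ↔ P 𝒳 h𝒳 f ξ η :=
  ⟨fun h => h ▸ pull_spec 𝒳 h𝒳 f η, fun h => P_unique 𝒳 h𝒳 f _ _ η (pull_spec 𝒳 h𝒳 f η) h⟩

/-- the presheaf of isomorphism classes -/
noncomputable def isoPsh : Cᵒᵖ ⥤ Type u₂ where
  obj U := Quotient (fibSetoid 𝒳 h𝒳 U.unop)
  map {U V} f := ↾fun η => pull 𝒳 h𝒳 f.unop η
  map_id U := by
    ext η
    exact (pull_eq_iff 𝒳 h𝒳 _ _ _).2 (P_id 𝒳 h𝒳 η)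
  map_comp {U V W} f g := by
    ext η
    exact (pull_eq_iff 𝒳 h𝒳 _ _ _).2
      (P_comp 𝒳 h𝒳 g.unop f.unop _ _ _ (pull_spec 𝒳 h𝒳 _ _) (pull_spec 𝒳 h𝒳 _ _))

theorem isoPsh_map_eq_iff {U V : C} (f : U ⟶ V) (ξ : Quotient (fibSetoid 𝒳 h𝒳 U))
    (η : Quotient (fibSetoid 𝒳 h𝒳 V)) :
    (isoPsh 𝒳 h𝒳).map f.op η = ξ ↔ P 𝒳 h𝒳 f ξ η :=
  pull_eq_iff 𝒳 h𝒳 f ξ η

/-- the comparison functor -/
noncomputable def toPsh : 𝒳 ⥤ᵇ Stk.ofPsh (isoPsh 𝒳 h𝒳) where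
  toFunctor :=
    { obj := fun x => ⟨𝒳.p.obj x, Quotient.mk _ ⟨x, rfl⟩⟩
      map := fun {x y} φ => ⟨𝒳.p.map φ, (isoPsh_map_eq_iff 𝒳 h𝒳 _ _ _).2 ⟨φ, inferInstance⟩⟩
      map_id := fun x => Stk.EltObj.hom_ext (𝒳.p.map_id x)
      map_comp := fun φ ψ => Stk.EltObj.hom_ext (𝒳.p.map_comp φ ψ) }
  w := rfl

theorem isEquivOver_toPsh : IsEquivOver (toPsh 𝒳 h𝒳) := by
  haveI : (toPsh 𝒳 h𝒳).toFunctor.Faithful := by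
    refine ⟨fun {x y} φ ψ h => ?_⟩
    have h' : 𝒳.p.map φ = 𝒳.p.map ψ := congrArg Stk.EltObj.Hom.hom h
    haveI : 𝒳.p.IsHomLift (𝒳.p.map φ) ψ := by rw [h']; infer_instance
    exact FibGrpd.hom_ext_of_isFibSetoid h𝒳 (𝒳.p.map φ) φ ψ
  haveI : (toPsh 𝒳 h𝒳).toFunctor.Full := by
    refine ⟨fun {x y} Φ => ?_⟩
    obtain ⟨f, hf⟩ := Φ
    obtain ⟨φ, hφ⟩ := (isoPsh_map_eq_iff 𝒳 h𝒳 _ _ _).1 hf
    refine ⟨φ, ?_⟩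
    apply Stk.EltObj.hom_ext
    exact (@IsHomLift.eq_of_isHomLift _ _ _ _ 𝒳.p _ _ f φ hφ).symm
  apply EquivOver.isEquivOver_of
  rintro ⟨U, ξ⟩
  induction ξ using Quotient.ind with
  | _ a =>
  obtain ⟨a, ha⟩ := a
  change 𝒳.p.obj a = U at ha
  subst ha
  exact ⟨a, Iso.refl _, IsHomLift.id rfl⟩

end Groth.Agent.Helper6.IsoPsh
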