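import Mathlib
import Groth.Prelude.Def_FibCat2
import Groth.Prelude.Def_AlgSt
import Groth.Prelude.Def_AlgSt2
import Groth.Prelude.Def_W4stkcategoriessitesFib
import Groth.Agent.Helper3.EquivOver
import Groth.Agent.Helper3.FibGrpd
import Groth.Agent.Helper3.Fp
import Groth.Agent.Helper3.TwoYoneda
import Groth.Agent.Helper9.FibRep
import Groth.Agent.Helper6.FpTools
import Groth.Agent.Helper6.FpMore
import Groth.Agent.Helper6.FpPaste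
import Groth.Agent.S12787

/-!
# Helper6: functors representable by algebraic spaces are faithful; fibres of the source are thin when those of the
target are
-/

set_option autoImplicit false
set_option linter.style.haveILetI false
set_option linter.unusedVariables false
universe u

namespace Groth.Agent.Helper6.RepRigid
open CategoryTheory Functor FibCat Opposite AlgebraicGeometry
open Groth.Agent.Helper3 Groth.Agent.Helper6.FpTools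

variable {S : Scheme.{u}} {𝒳 𝒴 : AlgSt.Cat S}

/-- An automorphism in a fibre of the source of a functor representable by algebraic spaces which maps to the
identity is the identity. -/
theorem auto_eq_id (h𝒳 : IsFibGrpd 𝒳.p) (h𝒴 : IsFibGrpd 𝒴.p) (f : 𝒳 ⥤ᵇ 𝒴) (hf : AlgSt.RepByAlgSp1 f)
    {T : Over S} {a : 𝒳.obj} (α : a ⟶ a) (hαl : 𝒳.p.IsHomLift (𝟙 T) α) (hα : f.map α = 𝟙 _) :
    α = 𝟙 a := by
  have ha : 𝒳.p.obj a = T := IsHomLift.domain_eq 𝒳.p (𝟙 T) α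
  haveI := TwoYoneda.evalAtId_isEquivalence_of_isFibGrpd (𝒳 := 𝒴) T h𝒴
  let b : 𝒴.p.Fiber T := ⟨f.obj a, (f.w_obj a).trans ha⟩
  obtain ⟨y, ⟨θ⟩⟩ := Functor.EssSurj.mem_essImage (F := evalAtId 𝒴 T) b
  let θ' : y.obj (Over.mk (𝟙 T)) ≅ f.obj a := Functor.Fiber.fiberInclusion.mapIso θ
  have hθ' : 𝒴.p.IsHomLift (𝟙 T) θ'.hom := θ.hom.2
  let z : (fp y f).obj := ⟨⟨Over.mk (𝟙 T), a, θ'⟩, hθ'⟩
  have w : y.map (𝟙 (Over.mk (𝟙 T))) ≫ θ'.hom = θ'.hom ≫ f.map α := by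
    have h0 : y.map (𝟙 (Over.mk (𝟙 T) : (overCat T).obj)) = 𝟙 _ := y.toFunctor.map_id _
    rw [hα]
    exact (congrArg (· ≫ θ'.hom) h0).trans ((Category.id_comp _).trans (Category.comp_id _).symm)
  let Φ : z ⟶ z := ObjectProperty.homMk (⟨𝟙 _, α, w⟩ : z.obj ⟶ z.obj)
  haveI hΦ : (fp y f).p.IsHomLift (𝟙 T) Φ :=
    Fp.isHomLift_of_fst y f (𝟙 T) Φ (IsHomLift.id rfl)
  haveI h1 : (fp y f).p.IsHomLift (𝟙 T) (𝟙 z) := IsHomLift.id rfl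
  have hset : IsFibSetoid (fp y f).p :=
    Groth.Agent.S12787.result
      (isFibGrpd_fp y f (Groth.Agent.Helper9.FibRep.isFibGrpd_overCat T) h𝒳 h𝒴) (hf T y)
  have hΦ1 : Φ = 𝟙 z := FibGrpd.hom_ext_of_isFibSetoid hset (𝟙 T) Φ (𝟙 z)
  exact congrArg (fun Ψ : z ⟶ z => Ψ.hom.snd) hΦ1

/-- A functor representable by algebraic spaces is faithful. -/
theorem faithful (h𝒳 : IsFibGrpd 𝒳.p) (h𝒴 : IsFibGrpd 𝒴.p) (f : 𝒳 ⥤ᵇ 𝒴) (hf : AlgSt.RepByAlgSp1 f) :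
    f.toFunctor.Faithful := by
  refine ⟨fun {a b} φ ψ h => ?_⟩
  have hp : 𝒳.p.map φ = 𝒳.p.map ψ := by
    have h1 : 𝒴.p.IsHomLift (𝒳.p.map φ) (f.map φ) := inferInstance
    have h2 : 𝒴.p.IsHomLift (𝒳.p.map ψ) (f.map ψ) := inferInstance
    have e1 := IsHomLift.fac' 𝒴.p (𝒳.p.map φ) (f.map φ)
    have e2 := IsHomLift.fac' 𝒴.p (𝒳.p.map ψ) (f.map ψ)
    have e3 : 𝒴.p.map (f.map φ) = 𝒴.p.map (f.map ψ) := by
      rw [h]
    rw [e1, e2] at e3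
    have e4 := (cancel_epi _).1 e3
    exact (cancel_mono _).1 e4
  haveI : 𝒳.p.IsHomLift (𝒳.p.map φ) ψ := by rw [hp]; infer_instance
  haveI := h𝒳.isStronglyCartesian ψ
  haveI : 𝒳.p.IsStronglyCartesian (𝒳.p.map φ) ψ := by rw [hp]; infer_instance
  let χ := IsStronglyCartesian.map 𝒳.p (𝒳.p.map φ) ψ (Category.id_comp _).symm φ
  have hχ : χ ≫ ψ = φ := IsStronglyCartesian.fac 𝒳.p (𝒳.p.map φ) ψ _ _
  have hχl : 𝒳.p.IsHomLift (𝟙 (𝒳.p.obj a)) χ := IsStronglyCartesian.map_isHomLift 𝒳.p _ ψ _ _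
  have hfχ : f.map χ = 𝟙 _ := by
    haveI : 𝒴.p.IsHomLift (𝟙 (𝒳.p.obj a)) (f.map χ) := inferInstance
    haveI : 𝒴.p.IsHomLift (𝟙 (𝒳.p.obj a)) (𝟙 (f.obj a)) := IsHomLift.id (f.w_obj a)
    haveI : 𝒴.p.IsStronglyCartesian (𝒳.p.map φ) (f.map ψ) :=
      FibGrpd.isStronglyCartesian h𝒴 _ _
    have hh : 𝟙 (𝒳.p.obj a) ≫ 𝒳.p.map φ = 𝒳.p.map φ := Category.id_comp _
    haveI : 𝒴.p.IsHomLift (𝒳.p.map φ) (f.map φ) := inferInstance
    apply IsStronglyCartesian.ext 𝒴.p (𝒳.p.map φ) (f.map ψ) (𝟙 (𝒳.p.obj a))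
    rw [Category.id_comp]
    change f.toFunctor.map χ ≫ f.toFunctor.map ψ = f.toFunctor.map ψ
    rw [← f.toFunctor.map_comp, hχ, h]
  have := auto_eq_id h𝒳 h𝒴 f hf χ hχl hfχ
  rw [← hχ, this, Category.id_comp]

/-- If `π : 𝒲 ⟶ 𝒢` is representable by algebraic spaces and `𝒢` is fibred in setoids, so is `𝒲`. -/
theorem isFibSetoid_of_rep (h𝒳 : IsFibGrpd 𝒳.p) (h𝒴 : IsFibSetoid 𝒴.p) (f : 𝒳 ⥤ᵇ 𝒴)
    (hf : AlgSt.RepByAlgSp1 f) : IsFibSetoid 𝒳.p := by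
  haveI := faithful h𝒳 h𝒴.1 f hf
  refine ⟨h𝒳, fun U a b => ⟨fun φ ψ => ?_⟩⟩
  apply Functor.Fiber.hom_ext
  apply f.toFunctor.map_injective
  haveI : 𝒳.p.IsHomLift (𝟙 U) φ.1 := φ.2
  haveI : 𝒳.p.IsHomLift (𝟙 U) ψ.1 := ψ.2
  haveI h1 : 𝒴.p.IsHomLift (𝟙 U) (f.map φ.1) := inferInstance
  haveI h2 : 𝒴.p.IsHomLift (𝟙 U) (f.map ψ.1) := inferInstance
  exact FibGrpd.hom_ext_of_isFibSetoid h𝒴 (𝟙 U) (f.map φ.1) (f.map ψ.1)

end Groth.Agent.Helper6.RepRigid
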