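import Mathlib
import Groth.Prelude.Def_FibCat2
import Groth.Prelude.Def_AlgSt
import Groth.Prelude.Def_AlgSt2
import Groth.Prelude.Def_AlgSpRep
import Groth.Prelude.Def_AlgSpCov
import Groth.Agent.Helper3.EquivOver
import Groth.Agent.Helper6.IsoPsh
import Groth.Agent.Helper6.RepRigid
import Groth.Agent.Helper6.LocalIso
import Groth.Agent.Helper6.OfPsh
import Groth.Agent.Helper6.OfPshHom
import Groth.Agent.Helper6.AlgStPsh
import Groth.Agent.Helper6.AlgStInv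
import Groth.Agent.S10091

/-!
# Helper6: a category fibred in groupoids with a functor, representable by algebraic spaces, to an algebraic space
is an algebraic space
-/

set_option autoImplicit false
set_option linter.style.haveILetI false
set_option linter.unusedVariables false
universe u

namespace Groth.Agent.Helper6.ToSpace
open CategoryTheory Functor FibCat Opposite AlgebraicGeometry Limits
open Groth.Agent.Helper3 Stk Groth.Agent.Helper6.OfPsh Groth.Agent.Helper6.OfPshHom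
open Groth.Agent.Helper6.FpTools Groth.Agent.Helper6.AlgStPsh Groth.Agent.Helper6.AlgStInv

variable {S : Scheme.{u}}

theorem isFibSetoid_ofPsh (P : (Over S)ᵒᵖ ⥤ Type (u + 1)) : IsFibSetoid (Stk.ofPsh P).p := by
  refine ⟨inferInstance, fun U a b => ⟨fun φ ψ => ?_⟩⟩
  apply Functor.Fiber.hom_ext
  haveI : (EltObj.forget P).IsHomLift (𝟙 U) φ.1 := φ.2
  haveI : (EltObj.forget P).IsHomLift (𝟙 U) ψ.1 := ψ.2
  exact hom_ext_lift P φ.1 ψ.1 (𝟙 U)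

theorem repByAlgSpWith_mono {P Q : MorphismProperty (AlgSp.Sp S)} (hPQ : P ≤ Q) {𝒳 𝒴 : AlgSt.Cat S}
    {f : 𝒳 ⥤ᵇ 𝒴} (hf : AlgSt.RepByAlgSpWith P f) : AlgSt.RepByAlgSpWith Q f := by
  intro U y
  obtain ⟨F, e, he, hp⟩ := hf U y
  exact ⟨F, e, he, hPQ _ hp⟩

theorem repByAlgSp1_of_with {P : MorphismProperty (AlgSp.Sp S)} {𝒳 𝒴 : AlgSt.Cat S}
    {f : 𝒳 ⥤ᵇ 𝒴} (hf : AlgSt.RepByAlgSpWith P f) : AlgSt.RepByAlgSp1 f := by
  intro U y
  obtain ⟨F, e, he, -⟩ := hf U y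
  exact ⟨F, e, he⟩

/-- Theorem A. -/
theorem main (P : MorphismProperty (AlgSp.Sp S)) (hP : AlgSp.IsLocalOnBase AlgSp.IsFppfCover P)
    {𝒲 : AlgSt.Cat S} (h𝒲 : IsFibGrpd 𝒲.p) (G : AlgSp.Space S) (π : 𝒲 ⥤ᵇ AlgSt.ofSp G.obj)
    (hπ : AlgSt.RepByAlgSpWith P π) :
    ∃ (F : AlgSp.Space S) (e : AlgSt.ofSp F.obj ⥤ᵇ 𝒲) (a : F.obj ⟶ G.obj), IsEquivOver e ∧
      Nonempty (BasedFunctor.comp e π ≅ AlgSt.ofSpMap a) ∧ P a := by
  have hπ1 : AlgSt.RepByAlgSp1 π := repByAlgSp1_of_with hπ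
  have hset : IsFibSetoid 𝒲.p :=
    RepRigid.isFibSetoid_of_rep h𝒲 (isFibSetoid_ofPsh G.obj.obj) π hπ1
  let F' : AlgSp.PSp S := IsoPsh.isoPsh 𝒲 hset
  obtain ⟨e, he, -, -⟩ := EquivOver.symm (IsoPsh.isEquivOver_toPsh 𝒲 hset)
  let π' : Stk.ofPsh F' ⥤ᵇ Stk.ofPsh G.obj.obj := BasedFunctor.comp e π
  let a₀ : F' ⟶ G.obj.obj := homOf π'
  have i : π' ≅ ofPshMap a₀ := isoHomOf π'
  have hQ : AlgSt.RepByAlgSpWith P.isoClosure (ofPshMap a₀) :=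
    repByAlgSpWith_of_square P.isoClosure π (ofPshMap a₀) e (BasedFunctor.id _) he
      (isEquivOver_id _) i.symm (repByAlgSpWith_mono (P.le_isoClosure) hπ)
  have hrep : AlgSp.RepBySp a₀ := repBySp_of_repByAlgSp1 a₀ (repByAlgSp1_of_with hQ)
  have hF' : AlgSp.IsAlgSpaceP F' :=
    Groth.Agent.S10091.result S F' G.obj.obj a₀ hrep ((AlgSp.isAlgSpaceP_obj_iff G.obj).2 G.property)
  obtain ⟨hsh, hA⟩ := hF'
  let F : AlgSp.Space S := ⟨⟨F', hsh⟩, hA⟩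
  let a : F.obj ⟶ G.obj := ObjectProperty.homMk a₀
  have hW : AlgSp.RepBySpWith P.isoClosure a₀ :=
    repBySpWith_of_repByAlgSpWith a₀ P.isoClosure hrep hQ
  exact ⟨F, e, a, he, ⟨i⟩, LocalIso.P_of_repBySpWith hP hA G.property a hW⟩

/-- Theorem A without a property. -/
theorem main1 {𝒲 : AlgSt.Cat S} (h𝒲 : IsFibGrpd 𝒲.p) (G : AlgSp.Space S)
    (π : 𝒲 ⥤ᵇ AlgSt.ofSp G.obj) (hπ : AlgSt.RepByAlgSp1 π) : AlgSt.RepByAlgSp 𝒲 := by
  have hP : AlgSp.IsLocalOnBase AlgSp.IsFppfCover (⊤ : MorphismProperty (AlgSp.Sp S)) := by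
    intro ι Y Yi g hY hYi hc X f hX Xi p q hXi hsq
    exact ⟨fun _ _ => trivial, fun _ => trivial⟩
  obtain ⟨F, e, a, he, -, -⟩ := main ⊤ hP h𝒲 G π ((repByAlgSp1_iff_top π).1 hπ)
  exact ⟨F, e, he⟩

end Groth.Agent.Helper6.ToSpace
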