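import Mathlib
import Groth.Prelude.Def_FibCat2
import Groth.Prelude.Def_AlgSt
import Groth.Prelude.Def_AlgSt2
import Groth.Prelude.Def_AlgSpRep
import Groth.Prelude.Def_AlgSpCov
import Groth.Agent.Helper6.ToSpace
import Groth.Agent.Helper6.FpComp
import Groth.Agent.Helper6.FpMore
import Groth.Agent.Helper6.AlgStBC
import Groth.Agent.Helper6.AlgStRep

/-!
# Helper6: composition of functors representable by algebraic spaces with a property
-/

set_option autoImplicit false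
set_option linter.style.haveILetI false
set_option linter.unusedVariables false
universe u

namespace Groth.Agent.Helper6.RepComp
open CategoryTheory Functor FibCat Opposite AlgebraicGeometry Limits
open Groth.Agent.Helper3 Stk Groth.Agent.Helper6.FpTools Groth.Agent.Helper6.AlgStRep
open Groth.Agent.Helper6.AlgStBC

variable {S : Scheme.{u}}

theorem spMapOfOver_ofSpMap_comp {F G : AlgSp.Sp S} {U : Over S} (a : F ⟶ G)
    (Φ : AlgSt.ofSp G ⥤ᵇ FibCat.overCat U) :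
    AlgSt.spMapOfOver (BasedFunctor.comp (AlgSt.ofSpMap a) Φ) = a ≫ AlgSt.spMapOfOver Φ := by
  apply ObjectProperty.hom_ext
  ext T x
  rfl

/-- the base change of `f` to an algebraic space is a morphism of algebraic spaces with `P` -/
theorem exists_space_of_rep (P : MorphismProperty (AlgSp.Sp S))
    (hP : AlgSp.IsLocalOnBase AlgSp.IsFppfCover P) {𝒳 𝒴 : AlgSt.Cat S}
    (h𝒳 : IsFibGrpd 𝒳.p) (h𝒴 : IsFibGrpd 𝒴.p) (f : 𝒳 ⥤ᵇ 𝒴) (hf : AlgSt.RepByAlgSpWith P f)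
    (G : AlgSp.Space S) (x : AlgSt.ofSp G.obj ⥤ᵇ 𝒴) :
    ∃ (F : AlgSp.Space S) (e : AlgSt.ofSp F.obj ⥤ᵇ fp x f) (a : F.obj ⟶ G.obj), IsEquivOver e ∧
      Nonempty (BasedFunctor.comp e (fpFst x f) ≅ AlgSt.ofSpMap a) ∧ P a := by
  have h𝒲 : IsFibGrpd (fp x f).p := isFibGrpd_fp x f inferInstance h𝒳 h𝒴
  have hπ : AlgSt.RepByAlgSpWith P (fpFst x f) :=
    repByAlgSpWith_of_baseChange P f x (fpFst x f) (BasedFunctor.id _) (isEquivOver_id _)
      (Iso.refl _) hf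
  exact ToSpace.main P hP h𝒲 G (fpFst x f) hπ

theorem repByAlgSpWith_comp {𝒳 𝒴 𝒵 : AlgSt.Cat S}
    (h𝒳 : IsFibGrpd 𝒳.p) (h𝒴 : IsFibGrpd 𝒴.p)
    (P : MorphismProperty (AlgSp.Sp S))
    (hPc : ∀ ⦃X Y Z : AlgSp.Sp S⦄, AlgSp.IsAlgSpace X → AlgSp.IsAlgSpace Y → AlgSp.IsAlgSpace Z →
      ∀ (a : X ⟶ Y) (b : Y ⟶ Z), P a → P b → P (a ≫ b))
    (hP : AlgSp.IsLocalOnBase AlgSp.IsFppfCover P)
    (f : 𝒳 ⥤ᵇ 𝒴) (g : 𝒴 ⥤ᵇ 𝒵) (hf : AlgSt.RepByAlgSpWith P f) (hg : AlgSt.RepByAlgSpWith P g) :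
    AlgSt.RepByAlgSpWith P (BasedFunctor.comp f g) := by
  intro U y
  obtain ⟨G, eG, heG, hPG⟩ := hg U y
  obtain ⟨F, e, a, he, ⟨i⟩, hPa⟩ :=
    exists_space_of_rep P hP h𝒳 h𝒴 f hf G (BasedFunctor.comp eG (fpSnd y g))
  refine ⟨F, BasedFunctor.comp e (compFunctor y g f eG),
    isEquivOver_comp he (isEquivOver_compFunctor y g f eG heG), ?_⟩
  have h1 : AlgSt.spMapOfOver (BasedFunctor.comp (BasedFunctor.comp e (compFunctor y g f eG))
      (fpFst y (BasedFunctor.comp f g))) =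
      a ≫ AlgSt.spMapOfOver (BasedFunctor.comp eG (fpFst y g)) := by
    rw [← spMapOfOver_ofSpMap_comp]
    exact spMapOfOver_congr (whiskerRightIso' i (BasedFunctor.comp eG (fpFst y g)))
  rw [h1]
  exact hPc F.property G.property (AlgSp.IsAlgSpace.yon_obj U) a _ hPa hPG

end Groth.Agent.Helper6.RepComp
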