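import Mathlib
import Groth.Agent.Helper6.LocalIso
import Groth.Agent.Helper6.ToSpace
import Groth.Agent.Helper6.RepComp
import Groth.Agent.Helper6.DiagComp
import Groth.Agent.Helper4.AlgSpSrc

/-!
# Helper6: the composition results for properties local on the base for a general covering notion
-/

set_option autoImplicit false
set_option linter.style.haveILetI false
set_option linter.unusedVariables false
universe u

namespace Groth.Agent.Helper6.TauLib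
open CategoryTheory CategoryTheory.Limits AlgebraicGeometry Opposite AlgSp Functor FibCat
open Groth.Agent.Helper3 Stk Groth.Agent.Helper6.OfPsh Groth.Agent.Helper6.OfPshHom
open Groth.Agent.Helper6.FpTools Groth.Agent.Helper6.AlgStPsh Groth.Agent.Helper6.AlgStInv
open Groth.Agent.Helper6.AlgStRep Groth.Agent.Helper6.AlgStBC

variable {S : Scheme.{u}}

/-- covering notions for which isomorphisms and atlases are coverings -/
structure GoodCov (τ : CovNotion S) : Prop where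
  iso : ∀ {X Y : Sp S} (e : X ⟶ Y) [IsIso e], τ (fun _ : PUnit.{u + 1} => X) (fun _ => e)
  atlas : ∀ {G : Sp S} {V : Over S} (p : (yon S).obj V ⟶ G), RepWith @Etale p →
    RepWith @Surjective p → τ (fun _ : PUnit.{u + 1} => (yon S).obj V) (fun _ => p)

theorem goodCov_fppf : GoodCov (IsFppfCover (S := S)) where
  iso e _ := LocalIso.isFppfCover_of_isIso e
  atlas p h1 h2 := LocalIso.isFppfCover_of_atlas p h1 h2

theorem isEtaleMor_of_repWith {X Y : Sp S} (f : X ⟶ Y) (hf : RepWith @Etale f) : IsEtaleMor f := by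
  intro U φ hφ
  exact Groth.Agent.Helper4.AlgSpSrc.repWith_comp _ hφ hf

theorem goodCov_et : GoodCov (IsEtCover (S := S)) where
  iso e _ := by
    refine ⟨fun _ => ?_, fun x => ⟨PUnit.unit, Points.map (inv e) x, ?_⟩⟩
    · intro U φ hφ
      exact MorphismProperty.RespectsIso.postcomp _ e φ hφ
    · rw [← Points.map_comp, IsIso.inv_hom_id, Points.map_id]
  atlas p h1 h2 :=
    ⟨fun _ => isEtaleMor_of_repWith p h1,
      fun x => ⟨PUnit.unit, Groth.Agent.Helper4.AlgSpPts.isSurjectiveMor_of_repWith p h2 x⟩⟩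

variable {τ : CovNotion S} (hτ : GoodCov τ)

include hτ in
theorem of_arrow_iso {P : MorphismProperty (Sp S)} (hP : IsLocalOnBase τ P)
    {X Y X' Y' : Sp S} (hX : IsAlgSpace X) (hY : IsAlgSpace Y) (hX' : IsAlgSpace X')
    (hY' : IsAlgSpace Y') (f : X ⟶ Y) (f' : X' ⟶ Y') (eX : X ⟶ X') (eY : Y ⟶ Y') [IsIso eX]
    [IsIso eY] (w : eX ≫ f' = f ≫ eY) (hf : P f) : P f' := by
  have sq : IsPullback eX f f' eY := IsPullback.of_horiz_isIso ⟨w⟩
  exact (hP (fun _ : PUnit.{u + 1} => Y) (fun _ => eY) hY' (fun _ => hY) (hτ.iso eY)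
    f' hX' (fun _ => X) (fun _ => f) (fun _ => eX) (fun _ => hX) (fun _ => sq)).2 (fun _ => hf)

include hτ in
theorem of_isoClosure {P : MorphismProperty (Sp S)} (hP : IsLocalOnBase τ P)
    {X Y : Sp S} (hX : IsAlgSpace X) (hY : IsAlgSpace Y) (f : X ⟶ Y) (h : P.isoClosure f) :
    P f := by
  obtain ⟨X', Y', f', hf', ⟨e⟩⟩ := h
  have hX' : IsAlgSpace X' := hX.of_iso (Arrow.leftFunc.mapIso e).symm
  have hY' : IsAlgSpace Y' := hY.of_iso (Arrow.rightFunc.mapIso e).symm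
  exact of_arrow_iso hτ hP hX' hY' hX hY f' f e.hom.left e.hom.right e.hom.w hf'

include hτ in
theorem P_of_repBySpWith {P : MorphismProperty (Sp S)} (hP : IsLocalOnBase τ P)
    {F G : Sp S} (hF : IsAlgSpace F) (hG : IsAlgSpace G) (a : F ⟶ G)
    (h : RepBySpWith P.isoClosure a.hom) : P a := by
  obtain ⟨V, p, hpe, hps⟩ := hG.atlas
  have sq : IsPullback (pullback.fst a p) (pullback.snd a p) a p := IsPullback.of_hasPullback a p
  have sq' : IsPullback (pullback.fst a p).hom (pullback.snd a p).hom a.hom p.hom :=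
    IsPullback.map (sheafToPresheaf (J S) (Type (u + 1))) sq
  obtain ⟨hsh, hA, hQ⟩ := h p.hom _ _ sq'
  have hA' : IsAlgSpace (pullback a p) := hA
  have hQ' : P (pullback.snd a p) := of_isoClosure hτ hP hA' (IsAlgSpace.yon_obj V) _ hQ
  exact (hP (fun _ : PUnit.{u + 1} => (yon S).obj V) (fun _ => p) hG
    (fun _ => IsAlgSpace.yon_obj V) (hτ.atlas p hpe hps) a hF
    (fun _ => pullback a p) (fun _ => pullback.snd a p) (fun _ => pullback.fst a p)
    (fun _ => hA') (fun _ => sq)).2 (fun _ => hQ')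

theorem isLocalOnBase_top : IsLocalOnBase (IsFppfCover (S := S)) (⊤ : MorphismProperty (Sp S)) := by
  intro ι Y Yi g hY hYi hc X f hX Xi p q hXi hsq
  exact ⟨fun _ _ => trivial, fun _ => trivial⟩

include hτ in
/-- Theorem A for a general covering notion. -/
theorem main (P : MorphismProperty (AlgSp.Sp S)) (hP : AlgSp.IsLocalOnBase τ P)
    {𝒲 : AlgSt.Cat S} (h𝒲 : IsFibGrpd 𝒲.p) (G : AlgSp.Space S) (π : 𝒲 ⥤ᵇ AlgSt.ofSp G.obj)
    (hπ : AlgSt.RepByAlgSpWith P π) :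
    ∃ (F : AlgSp.Space S) (e : AlgSt.ofSp F.obj ⥤ᵇ 𝒲) (a : F.obj ⟶ G.obj), IsEquivOver e ∧
      Nonempty (BasedFunctor.comp e π ≅ AlgSt.ofSpMap a) ∧ P a := by
  obtain ⟨F, e, a, he, ⟨i⟩, -⟩ :=
    ToSpace.main ⊤ isLocalOnBase_top h𝒲 G π (ToSpace.repByAlgSpWith_mono le_top hπ)
  have hQ : AlgSt.RepByAlgSpWith P.isoClosure (AlgSt.ofSpMap a) :=
    repByAlgSpWith_of_square P.isoClosure π (AlgSt.ofSpMap a) e (BasedFunctor.id _) he
      (isEquivOver_id _) i.symm (ToSpace.repByAlgSpWith_mono (P.le_isoClosure) hπ)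
  have hrep := Groth.Agent.Helper6.AlgStSpMap.repBySp_of_isAlgSpace F.property G.property a
  have hW := repBySpWith_of_repByAlgSpWith a.hom P.isoClosure hrep hQ
  exact ⟨F, e, a, he, ⟨i⟩, P_of_repBySpWith hτ hP F.property G.property a hW⟩

include hτ in
theorem exists_space_of_rep (P : MorphismProperty (AlgSp.Sp S))
    (hP : AlgSp.IsLocalOnBase τ P) {𝒳 𝒴 : AlgSt.Cat S}
    (h𝒳 : IsFibGrpd 𝒳.p) (h𝒴 : IsFibGrpd 𝒴.p) (f : 𝒳 ⥤ᵇ 𝒴) (hf : AlgSt.RepByAlgSpWith P f)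
    (G : AlgSp.Space S) (x : AlgSt.ofSp G.obj ⥤ᵇ 𝒴) :
    ∃ (F : AlgSp.Space S) (e : AlgSt.ofSp F.obj ⥤ᵇ fp x f) (a : F.obj ⟶ G.obj), IsEquivOver e ∧
      Nonempty (BasedFunctor.comp e (fpFst x f) ≅ AlgSt.ofSpMap a) ∧ P a := by
  have h𝒲 : IsFibGrpd (fp x f).p := isFibGrpd_fp x f inferInstance h𝒳 h𝒴
  have hπ : AlgSt.RepByAlgSpWith P (fpFst x f) :=
    repByAlgSpWith_of_baseChange P f x (fpFst x f) (BasedFunctor.id _) (isEquivOver_id _)
      (Iso.refl _) hf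
  exact main hτ P hP h𝒲 G (fpFst x f) hπ

include hτ in
theorem repByAlgSpWith_comp {𝒳 𝒴 𝒵 : AlgSt.Cat S}
    (h𝒳 : IsFibGrpd 𝒳.p) (h𝒴 : IsFibGrpd 𝒴.p)
    (P : MorphismProperty (AlgSp.Sp S))
    (hPc : ∀ ⦃X Y Z : AlgSp.Sp S⦄, AlgSp.IsAlgSpace X → AlgSp.IsAlgSpace Y → AlgSp.IsAlgSpace Z →
      ∀ (a : X ⟶ Y) (b : Y ⟶ Z), P a → P b → P (a ≫ b))
    (hP : AlgSp.IsLocalOnBase τ P)
    (f : 𝒳 ⥤ᵇ 𝒴) (g : 𝒴 ⥤ᵇ 𝒵) (hf : AlgSt.RepByAlgSpWith P f) (hg : AlgSt.RepByAlgSpWith P g) :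
    AlgSt.RepByAlgSpWith P (BasedFunctor.comp f g) := by
  intro U y
  obtain ⟨G, eG, heG, hPG⟩ := hg U y
  obtain ⟨F, e, a, he, ⟨i⟩, hPa⟩ :=
    exists_space_of_rep hτ P hP h𝒳 h𝒴 f hf G (BasedFunctor.comp eG (fpSnd y g))
  refine ⟨F, BasedFunctor.comp e (compFunctor y g f eG),
    isEquivOver_comp he (isEquivOver_compFunctor y g f eG heG), ?_⟩
  have h1 : AlgSt.spMapOfOver (BasedFunctor.comp (BasedFunctor.comp e (compFunctor y g f eG))
      (fpFst y (BasedFunctor.comp f g))) =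
      a ≫ AlgSt.spMapOfOver (BasedFunctor.comp eG (fpFst y g)) := by
    rw [← RepComp.spMapOfOver_ofSpMap_comp]
    exact spMapOfOver_congr (whiskerRightIso' i (BasedFunctor.comp eG (fpFst y g)))
  rw [h1]
  exact hPc F.property G.property (AlgSp.IsAlgSpace.yon_obj U) a _ hPa hPG

include hτ in
theorem repByAlgSpWith_diag_comp {𝒳 𝒴 𝒵 : AlgSt.Cat S} (h𝒳 : IsFibGrpd 𝒳.p) (h𝒴 : IsFibGrpd 𝒴.p)
    (P : MorphismProperty (AlgSp.Sp S))
    (hPc : ∀ ⦃X Y Z : AlgSp.Sp S⦄, AlgSp.IsAlgSpace X → AlgSp.IsAlgSpace Y → AlgSp.IsAlgSpace Z →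
      ∀ (a : X ⟶ Y) (b : Y ⟶ Z), P a → P b → P (a ≫ b))
    (hP : AlgSp.IsLocalOnBase τ P)
    (f : 𝒳 ⥤ᵇ 𝒴) (g : 𝒴 ⥤ᵇ 𝒵) (hf : AlgSt.RepByAlgSpWith P (diag f))
    (hg : AlgSt.RepByAlgSpWith P (diag g)) :
    AlgSt.RepByAlgSpWith P (diag (BasedFunctor.comp f g)) := by
  refine Groth.Agent.Helper6.AlgStSpMap.repByAlgSpWith_of_iso P (DiagComp.diagCompIso f g) ?_
  exact repByAlgSpWith_comp hτ h𝒳 (isFibGrpd_fp f f h𝒳 h𝒳 h𝒴) P hPc hP
    (diag f) (DiagComp.cmpSelf f g) hf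
    (Groth.Agent.Helper6.AlgStBC.repByAlgSpWith_fpComparison P f f g (DiagComp.selfIso f g)
      (DiagComp.selfIso_app f g) hg)

end Groth.Agent.Helper6.TauLib
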