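import Groth.Prelude.Def_AlgSpMor5
import Groth.Agent.Helper4.AlgSpPtsDesc
import Groth.Agent.Helper4.AlgSpQC2
import Groth.Agent.Helper4.AlgSpPB
import Groth.Agent.Helper5.DvrSpec
import Groth.Agent.Lead.QcClosure
import Mathlib

/-!
# Helper6: discrete valuation rings witnessing points in the closure of the image of a
finite type morphism to a locally Noetherian algebraic space
-/

set_option autoImplicit false
universe u
open CategoryTheory CategoryTheory.Limits AlgebraicGeometry Opposite

namespace Groth.Agent.Helper6.DvrSp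

open AlgSp Groth.Agent.Helper4.AlgSpPtsDesc Groth.Agent.Helper4.AlgSpQC2

variable {S : Scheme.{u}}

set_option backward.isDefEq.respectTransparency.types false in
/-- packaging a square of schemes as a diagram of sheaves -/
theorem finish {X Y : Sp S} (f : X ⟶ Y) {W V' : Over S} (aW : (yon S).obj W ⟶ X)
    (p' : (yon S).obj V' ⟶ Y) (c : W ⟶ V') (hcomm : aW ≫ f = (yon S).map c ≫ p')
    (A : Type u) [CommRing A] [IsDomain A] [IsDiscreteValuationRing A]
    (x' : Spec (CommRingCat.of (FractionRing A)) ⟶ W.left) (y' : Spec (CommRingCat.of A) ⟶ V'.left)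
    (hxy : x' ≫ c.left = Spec.map (CommRingCat.ofHom (algebraMap A (FractionRing A))) ≫ y') :
    ∃ (a : Spec (CommRingCat.of A) ⟶ S)
      (α : (yon S).obj (Over.mk a) ⟶ Y)
      (κ : (yon S).obj (Over.mk (Spec.map (CommRingCat.ofHom (algebraMap A (FractionRing A))) ≫ a)) ⟶ X),
      κ ≫ f = (yon S).map (Over.homMk (Spec.map (CommRingCat.ofHom (algebraMap A (FractionRing A))))) ≫ α ∧
      Points.map α (Points.schemeEquiv (Over.mk a) (IsLocalRing.closedPoint A)) =
        Points.map p' (Points.schemeHomeo V' (y' (IsLocalRing.closedPoint A))) := by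
  let jA : Spec (CommRingCat.of (FractionRing A)) ⟶ Spec (CommRingCat.of A) :=
    Spec.map (CommRingCat.ofHom (algebraMap A (FractionRing A)))
  have hxw : x' ≫ W.hom = jA ≫ y' ≫ V'.hom := by
    rw [← Over.w c, ← Category.assoc, hxy, Category.assoc]
  let xo : Over.mk (jA ≫ y' ≫ V'.hom) ⟶ W := Over.homMk x' hxw
  let yo : Over.mk (y' ≫ V'.hom) ⟶ V' := Over.homMk y' rfl
  let jo : Over.mk (jA ≫ y' ≫ V'.hom) ⟶ Over.mk (y' ≫ V'.hom) := Over.homMk jA rfl
  have hxc : xo ≫ c = jo ≫ yo := by
    ext
    exact hxy
  refine ⟨y' ≫ V'.hom, (yon S).map yo ≫ p', (yon S).map xo ≫ aW, ?_, ?_⟩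
  · have h1 : (yon S).map xo ≫ (yon S).map c = (yon S).map jo ≫ (yon S).map yo := by
      rw [← Functor.map_comp, ← Functor.map_comp, hxc]
    calc ((yon S).map xo ≫ aW) ≫ f = (yon S).map xo ≫ (aW ≫ f) := by simp only [Category.assoc]
      _ = ((yon S).map xo ≫ (yon S).map c) ≫ p' := by rw [hcomm]; simp only [Category.assoc]
      _ = _ := by rw [h1]; simp only [Category.assoc]; rfl
  · change Points.map ((yon S).map yo ≫ p')
      (Points.schemeHomeo (Over.mk (y' ≫ V'.hom)) (IsLocalRing.closedPoint A)) = _
    rw [Points.map_comp, Points.map_yon_map_apply]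
    rfl

set_option backward.isDefEq.respectTransparency.types false in
/-- S10054 -/
theorem exists_dvr_diagram {X Y : Sp S} (hX : IsAlgSpace X) (hY : IsAlgSpace Y) (f : X ⟶ Y)
    (hft : IsFiniteTypeMor f) (hYn : IsLocNoethSp Y) (y : Points Y)
    (hy : y ∈ closure (Set.range (Points.map f))) :
    ∃ (A : Type u) (_ : CommRing A) (_ : IsDomain A) (_ : IsDiscreteValuationRing A)
      (a : Spec (CommRingCat.of A) ⟶ S)
      (α : (yon S).obj (Over.mk a) ⟶ Y)
      (κ : (yon S).obj (Over.mk (Spec.map (CommRingCat.ofHom (algebraMap A (FractionRing A))) ≫ a)) ⟶ X),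
      κ ≫ f = (yon S).map (Over.homMk (Spec.map (CommRingCat.ofHom (algebraMap A (FractionRing A))))) ≫ α ∧
      Points.map α (Points.schemeEquiv (Over.mk a) (IsLocalRing.closedPoint A)) = y := by
  obtain ⟨V, p, hpe, hps, hVn⟩ := hYn
  haveI : IsLocallyNoetherian V.left := hVn
  obtain ⟨r, hr⟩ := Groth.Agent.Helper4.AlgSpPts.isSurjectiveMor_of_repWith p hps y
  obtain ⟨v, rfl⟩ := (Points.schemeHomeo V).surjective r
  obtain ⟨V', hV'aff, hvV', -⟩ :=
    exists_isAffineOpen_mem_and_subset (X := V.left) (x := v) (U := ⊤) trivial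
  let V'' : Over S := opOver V V'
  let j : V'' ⟶ V := opι V V'
  haveI : IsAffine V''.left := (hV'aff : IsAffine V'.toScheme)
  haveI : IsLocallyNoetherian V''.left := isLocallyNoetherian_of_isOpenImmersion V'.ι
  let p' : (yon S).obj V'' ⟶ Y := (yon S).map j ≫ p
  have hje : RepWith @Etale ((yon S).map j) :=
    (repWith_yon_map_iff @Etale j).2 (inferInstanceAs (Etale V'.ι))
  have hp'e : RepWith @Etale p' := Groth.Agent.Helper4.AlgSpSrc.repWith_comp _ hje hpe
  have hopen : IsOpenMap (Points.map p') := isOpenMor_of_repWith_etale hY p' hp'e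
  have sq : IsPullback (pullback.fst f p') (pullback.snd f p') f p' := IsPullback.of_hasPullback _ _
  have hPqc : IsQuasiCompactSp (pullback f p') :=
    hft.2 (IsAlgSpace.yon_obj V'') (isQuasiCompactSp_yon V'') p' _ _ sq
  obtain ⟨W, a, hae, has, hWc⟩ := hPqc
  haveI : CompactSpace W.left := hWc
  obtain ⟨c, hc⟩ := (yon S).map_surjective (a ≫ pullback.snd f p')
  have hcomm : (a ≫ pullback.fst f p') ≫ f = (yon S).map c ≫ p' := by
    rw [Category.assoc, sq.w, ← Category.assoc, hc]
  have haWe : RepWith @Etale (a ≫ pullback.fst f p') := by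
    have i1 := repWith_isStableUnderBaseChange (S := S) @Etale
    exact Groth.Agent.Helper4.AlgSpSrc.repWith_comp _ hae
      (MorphismProperty.of_isPullback sq.flip hp'e)
  haveI hclft : LocallyOfFiniteType c.left := hft.1 _ _ c haWe hp'e hcomm
  haveI : QuasiCompact c.left := (HasAffineProperty.iff_of_isAffine (P := @QuasiCompact)).mpr
    (inferInstance : CompactSpace W.left)
  let v' : V''.left := (⟨v, hvV'⟩ : V')
  have hpv : Points.map p' (Points.schemeHomeo V'' v') = Points.map p (Points.schemeHomeo V v) := by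
    change Points.map ((yon S).map j ≫ p) _ = _
    rw [Points.map_comp, Points.map_yon_map_apply]
    rfl
  have hv' : v' ∈ closure (Set.range c.left.base) := by
    have h1 : Points.schemeHomeo V'' v' ∈ Points.map p' ⁻¹' closure (Set.range (Points.map f)) := by
      rw [Set.mem_preimage, hpv, hr]
      exact hy
    have h2 := hopen.preimage_closure_subset_closure_preimage h1
    have h3 : Points.map p' ⁻¹' Set.range (Points.map f) ⊆
        (Points.schemeHomeo V'') '' Set.range c.left.base := by
      rintro q ⟨x, hx⟩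
      obtain ⟨z, hz1, hz2⟩ := exists_point_of_isPullback sq x q hx
      obtain ⟨r', hr'⟩ := Groth.Agent.Helper4.AlgSpPts.isSurjectiveMor_of_repWith a has z
      obtain ⟨w, rfl⟩ := (Points.schemeHomeo W).surjective r'
      refine ⟨c.left w, ⟨w, rfl⟩, ?_⟩
      rw [← Points.map_yon_map_apply, hc, Points.map_comp, hr', hz2]
    have h4 := closure_mono h3 h2
    rw [← (Points.schemeHomeo V'').image_closure] at h4
    obtain ⟨t, ht, htt⟩ := h4
    rwa [← (Points.schemeHomeo V'').injective htt]
  obtain ⟨w, hw⟩ := Groth.Agent.Lead.QcClosure.exists_specializes_of_mem_closure_range c.left v' hv'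
  by_cases hwv : c.left w = v'
  · -- the point lies in the image: a constant family over a power series ring
    let K := W.left.residueField w
    let A := PowerSeries K
    let y' : Spec (CommRingCat.of A) ⟶ V''.left :=
      Spec.map (CommRingCat.ofHom (PowerSeries.C : K →+* PowerSeries K)) ≫
        W.left.fromSpecResidueField w ≫ c.left
    let x' : Spec (CommRingCat.of (FractionRing A)) ⟶ W.left :=
      Spec.map (CommRingCat.ofHom (algebraMap A (FractionRing A))) ≫
        Spec.map (CommRingCat.ofHom (PowerSeries.C : K →+* PowerSeries K)) ≫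
          W.left.fromSpecResidueField w
    have hxy : x' ≫ c.left = Spec.map (CommRingCat.ofHom (algebraMap A (FractionRing A))) ≫ y' := by
      simp only [x', y', Category.assoc]
    obtain ⟨a₀, α, κ, h1, h2⟩ := finish f (a ≫ pullback.fst f p') p' c hcomm A x' y' hxy
    refine ⟨A, inferInstance, inferInstance, inferInstance, a₀, α, κ, h1, ?_⟩
    rw [h2, ← hr, ← hpv]
    congr 2
    change c.left (W.left.fromSpecResidueField w _) = v'
    rw [Scheme.fromSpecResidueField_apply, hwv]
  · obtain ⟨A, h, hdvr, hcl, hh⟩ := Groth.Agent.Helper5.DvrSpec.main c.left w v' hw (Ne.symm hwv)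
    haveI := hdvr
    let e : FractionRing A ≃ₐ[A] W.left.residueField w :=
      FractionRing.algEquiv A (W.left.residueField w)
    let ε : W.left.residueField w ⟶ CommRingCat.of (FractionRing A) :=
      CommRingCat.ofHom e.symm.toAlgHom.toRingHom
    have hε : CommRingCat.ofHom A.subtype ≫ ε =
        CommRingCat.ofHom (algebraMap A (FractionRing A)) := by
      ext a
      exact e.symm.commutes a
    let x' : Spec (CommRingCat.of (FractionRing A)) ⟶ W.left :=
      Spec.map ε ≫ W.left.fromSpecResidueField w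
    have hxy : x' ≫ c.left = Spec.map (CommRingCat.ofHom (algebraMap A (FractionRing A))) ≫ h := by
      simp only [x', Category.assoc]
      rw [← hh, ← Spec.map_comp_assoc, hε]
    obtain ⟨a₀, α, κ, h1, h2⟩ := finish f (a ≫ pullback.fst f p') p' c hcomm A x' h hxy
    refine ⟨A, inferInstance, inferInstance, hdvr, a₀, α, κ, h1, ?_⟩
    rw [h2, ← hr, ← hpv, hcl]

end Groth.Agent.Helper6.DvrSp
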