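import Mathlib
import Groth.Prelude.Def_EtBase

/-! Galois-type descent for sheaves of types on the small étale site: if `π : Y ⟶ T` is
surjective and a set `Σ` of `T`-endomorphisms of `Y` acts "transitively on the fibres" (every point
of `Y ×_T Y` lies on the graph of some `σ ∈ Σ`), then `Σ`-invariant sections over `Y` descend
uniquely to `T`. -/

set_option autoImplicit false
set_option linter.style.haveILetI false
set_option linter.unusedSectionVars false
set_option linter.unusedVariables false
set_option linter.unusedSimpArgs false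

universe u w

open CategoryTheory CategoryTheory.Limits Opposite AlgebraicGeometry

namespace Groth.Agent.Helper6.GalDescA

variable {X : Scheme.{u}}

set_option backward.isDefEq.respectTransparency.types false in
/-- separatedness for jointly surjective families -/
theorem ext_of_jointly_surjective (P : X.Etaleᵒᵖ ⥤ Type w)
    (hP : Presieve.IsSheaf X.smallEtaleTopology P)
    {T : X.Etale} {μ : Type*} (O : μ → X.Etale) (ι : ∀ a, O a ⟶ T)
    (hsurj : ∀ x : T.left, ∃ (a : μ) (z : (O a).left), (ι a).left z = x)
    (s t : P.obj (op T)) (h : ∀ a, P.map (ι a).op s = P.map (ι a).op t) : s = t := by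
  have hcov : Sieve.ofArrows O ι ∈ X.smallEtaleTopology T := by
    rw [Scheme.ofArrows_mem_smallEtaleTopology_iff]
    ext x
    simp only [Set.mem_iUnion, Set.mem_range, Set.mem_univ, iff_true]
    obtain ⟨a, z, hz⟩ := hsurj x
    exact ⟨a, z, hz⟩
  apply (hP _ hcov).isSeparatedFor.ext
  rintro Y f ⟨Z, g, _, ⟨a⟩, rfl⟩
  rw [op_comp, Functor.map_comp_apply, Functor.map_comp_apply]
  exact congrArg _ (h a)

set_option backward.isDefEq.respectTransparency.types false in
theorem existsUnique_descent (P : X.Etaleᵒᵖ ⥤ Type w)
    (hP : Presieve.IsSheaf X.smallEtaleTopology P) {T Y : X.Etale} (π : Y ⟶ T)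
    (hπ : ∀ t : T.left, ∃ y : Y.left, π.left y = t)
    (S : Set (Y ⟶ Y))
    (htors : ∀ z : ↥(pullback π.left π.left), ∃ σ ∈ S,
      ∃ (s : Y.left ⟶ pullback π.left π.left) (y : Y.left),
        s ≫ pullback.fst _ _ = 𝟙 _ ∧ s ≫ pullback.snd _ _ = σ.left ∧ s y = z)
    (x : P.obj (op Y)) (hx : ∀ σ ∈ S, P.map σ.op x = x) :
    ∃! t : P.obj (op T), P.map π.op t = x := by
  have hcov : Sieve.ofArrows (fun _ : Unit => Y) (fun _ => π) ∈ X.smallEtaleTopology T := by
    rw [Scheme.ofArrows_mem_smallEtaleTopology_iff]
    ext t
    simp only [Set.mem_iUnion, Set.mem_range, Set.mem_univ, iff_true]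
    obtain ⟨y, hy⟩ := hπ t
    exact ⟨(), y, hy⟩
  have hsh : Presieve.IsSheafFor P (Presieve.ofArrows (fun _ : Unit => Y) (fun _ => π)) :=
    (Presieve.isSheafFor_iff_generate _).2 (hP _ hcov)
  have key := (Presieve.isSheafFor_arrows_iff P (fun _ : Unit => π)).1 hsh (fun _ => x) ?_
  · obtain ⟨t, ht, hu⟩ := key
    exact ⟨t, ht (), fun t' ht' => hu t' (fun _ => ht')⟩
  · intro _ _ W g1 g2 hg
    have hgl : g1.left ≫ π.left = g2.left ≫ π.left := by
      have := congrArg (fun k => k.left) hg
      exact this
    let m : W.left ⟶ pullback π.left π.left := pullback.lift g1.left g2.left hgl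
    choose σ hσ s y hs1 hs2 hs3 using fun w : W.left => htors (m w)
    have hEt : ∀ w, Etale (s w) := by
      intro w
      haveI : Etale (s w ≫ pullback.fst π.left π.left) := by rw [hs1]; infer_instance
      exact Etale.of_comp (s w) (pullback.fst π.left π.left)
    let O : W.left → X.Etale := fun w =>
      haveI := hEt w
      Scheme.Etale.mk (pullback.fst m (s w) ≫ W.hom)
    let ι : ∀ w, O w ⟶ W := fun w =>
      MorphismProperty.Over.homMk (pullback.fst m (s w)) rfl
    have hfac1 : ∀ w, pullback.fst m (s w) ≫ g1.left = pullback.snd m (s w) := by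
      intro w
      have h1 : m ≫ pullback.fst π.left π.left = g1.left := pullback.lift_fst _ _ _
      calc pullback.fst m (s w) ≫ g1.left
          = (pullback.fst m (s w) ≫ m) ≫ pullback.fst π.left π.left := by
            rw [Category.assoc, h1]
        _ = (pullback.snd m (s w) ≫ s w) ≫ pullback.fst π.left π.left := by
            rw [pullback.condition]
        _ = pullback.snd m (s w) := by rw [Category.assoc, hs1, Category.comp_id]
    have hfac2 : ∀ w, pullback.fst m (s w) ≫ g2.left = pullback.snd m (s w) ≫ (σ w).left := by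
      intro w
      have h2 : m ≫ pullback.snd π.left π.left = g2.left := pullback.lift_snd _ _ _
      calc pullback.fst m (s w) ≫ g2.left
          = (pullback.fst m (s w) ≫ m) ≫ pullback.snd π.left π.left := by
            rw [Category.assoc, h2]
        _ = (pullback.snd m (s w) ≫ s w) ≫ pullback.snd π.left π.left := by
            rw [pullback.condition]
        _ = pullback.snd m (s w) ≫ (σ w).left := by rw [Category.assoc, hs2]
    let q : ∀ w, O w ⟶ Y := fun w =>
      MorphismProperty.Over.homMk (pullback.snd m (s w)) (by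
        show pullback.snd m (s w) ≫ Y.hom = pullback.fst m (s w) ≫ W.hom
        rw [← hfac1 w, Category.assoc]
        congr 1
        exact MorphismProperty.Over.w g1)
    have e1 : ∀ w, ι w ≫ g1 = q w := fun w => MorphismProperty.Over.Hom.ext (hfac1 w)
    have e2 : ∀ w, ι w ≫ g2 = q w ≫ σ w := fun w => MorphismProperty.Over.Hom.ext (hfac2 w)
    refine ext_of_jointly_surjective P hP O ι ?_ _ _ ?_
    · intro w
      obtain ⟨z, hz1, hz2⟩ := Scheme.Pullback.exists_preimage_pullback (f := m) (g := s w) w (y w)
        (hs3 w).symm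
      exact ⟨w, z, hz1⟩
    · intro w
      rw [← Functor.map_comp_apply, ← Functor.map_comp_apply, ← op_comp, ← op_comp,
        e1, e2, op_comp, Functor.map_comp_apply, hx _ (hσ w)]

end Groth.Agent.Helper6.GalDescA
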