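import Mathlib
import Groth.Prelude.Def_EtBase
import Groth.Agent.Helper6.GalDescA

/-! Galois descent for sheaves on the small étale site of a field. -/

set_option autoImplicit false
set_option linter.style.haveILetI false
set_option linter.unusedSectionVars false
set_option linter.unusedVariables false
set_option linter.unusedSimpArgs false

universe u w

open CategoryTheory CategoryTheory.Limits Opposite AlgebraicGeometry

namespace Groth.Agent.Helper6.GalDescB

variable (K : Type u) [Field K]

/-- the structure morphism `Spec E → Spec K` -/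
noncomputable abbrev str (E : Type u) [CommRing E] [Algebra K E] :
    Spec (CommRingCat.of E) ⟶ Spec (CommRingCat.of K) :=
  Spec.map (CommRingCat.ofHom (algebraMap K E))

instance etale_str (E : Type u) [Field E] [Algebra K E] [FiniteDimensional K E]
    [Algebra.IsSeparable K E] : Etale (str K E) := by
  rw [HasRingHomProperty.Spec_iff (P := @Etale)]
  show (algebraMap K E).Etale
  rw [RingHom.etale_algebraMap]
  have h1 : Algebra.FormallyEtale K E := Algebra.FormallyEtale.of_isSeparable K E
  have h2 : Algebra.FinitePresentation K E := Algebra.FinitePresentation.of_finiteType.mp inferInstance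
  exact ⟨h1, h2⟩

section

variable (E E' E'' : Type u) [Field E] [Algebra K E] [FiniteDimensional K E]
  [Algebra.IsSeparable K E] [Field E'] [Algebra K E'] [FiniteDimensional K E']
  [Algebra.IsSeparable K E'] [Field E''] [Algebra K E''] [FiniteDimensional K E'']
  [Algebra.IsSeparable K E'']

/-- `Spec E` as an object of the small étale site of `Spec K` -/
noncomputable def sp : (Spec (CommRingCat.of K)).Etale := Scheme.Etale.mk (str K E)

variable {E E' E''}

/-- the map `Spec E' → Spec E` induced by a `K`-algebra map `E → E'` -/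
noncomputable def spMap (τ : E →ₐ[K] E') : sp K E' ⟶ sp K E :=
  MorphismProperty.Over.homMk (Spec.map (CommRingCat.ofHom τ.toRingHom)) (by
    show Spec.map _ ≫ Spec.map _ = Spec.map _
    rw [← Spec.map_comp, ← CommRingCat.ofHom_comp]
    congr 2
    exact τ.comp_algebraMap)

lemma spMap_comp (τ : E →ₐ[K] E') (τ' : E' →ₐ[K] E'') :
    spMap K (τ'.comp τ) = spMap K τ' ≫ spMap K τ := by
  apply MorphismProperty.Over.Hom.ext
  show Spec.map _ = Spec.map _ ≫ Spec.map _
  rw [← Spec.map_comp, ← CommRingCat.ofHom_comp]
  rfl

variable (E)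

/-- the map to the terminal object -/
noncomputable def toTop : sp K E ⟶ EtCoh.top (Spec (CommRingCat.of K)) :=
  MorphismProperty.Over.homMk (str K E) (Category.comp_id _)

end

section Torsor

variable (M : Type u) [Field M] [Algebra K M] [Normal K M]

theorem torsor (z : ↥(pullback (str K M) (str K M))) :
    ∃ (σ : M →ₐ[K] M) (s : Spec (CommRingCat.of M) ⟶ pullback (str K M) (str K M))
      (y : ↥(Spec (CommRingCat.of M))),
      s ≫ pullback.fst _ _ = 𝟙 _ ∧
        s ≫ pullback.snd _ _ = Spec.map (CommRingCat.ofHom σ.toRingHom) ∧ s y = z := by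
  let PB := pullback (str K M) (str K M)
  let Er := PB.residueField z
  let i : Spec Er ⟶ PB := PB.fromSpecResidueField z
  let c1 : CommRingCat.of M ⟶ Er := Spec.preimage (i ≫ pullback.fst _ _)
  let c2 : CommRingCat.of M ⟶ Er := Spec.preimage (i ≫ pullback.snd _ _)
  have h1 : Spec.map c1 = i ≫ pullback.fst _ _ := Spec.map_preimage _
  have h2 : Spec.map c2 = i ≫ pullback.snd _ _ := Spec.map_preimage _
  have hK : CommRingCat.ofHom (algebraMap K M) ≫ c1 = CommRingCat.ofHom (algebraMap K M) ≫ c2 := by
    apply Spec.map_injective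
    rw [Spec.map_comp, Spec.map_comp, h1, h2, Category.assoc, Category.assoc, pullback.condition]
  letI : Algebra K Er := (c1.hom.comp (algebraMap K M)).toAlgebra
  let a1 : M →ₐ[K] Er := { c1.hom with commutes' := fun r => rfl }
  let a2 : M →ₐ[K] Er :=
    { c2.hom with
      commutes' := fun r => by
        have := congrArg (fun t => t.hom r) hK
        exact this.symm }
  letI : Algebra M Er := a1.toRingHom.toAlgebra
  haveI : IsScalarTower K M Er := IsScalarTower.of_algebraMap_eq (fun r => (a1.commutes r).symm)
  let σ : M →ₐ[K] M := a2.restrictNormal M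
  have hσ : ∀ x, a1 (σ x) = a2 x := fun x => a2.restrictNormal_commutes M x
  have hσ' : CommRingCat.ofHom σ.toRingHom ≫ c1 = c2 := by
    ext x
    exact hσ x
  let s : Spec (CommRingCat.of M) ⟶ PB :=
    pullback.lift (𝟙 _) (Spec.map (CommRingCat.ofHom σ.toRingHom)) (by
      rw [Category.id_comp]
      show _ = Spec.map _ ≫ Spec.map _
      rw [← Spec.map_comp, ← CommRingCat.ofHom_comp]
      exact congrArg (fun t => Spec.map (CommRingCat.ofHom t)) σ.comp_algebraMap.symm)
  have hi : i = Spec.map c1 ≫ s := by
    apply pullback.hom_ext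
    · rw [Category.assoc, pullback.lift_fst, Category.comp_id, h1]
    · rw [Category.assoc, pullback.lift_snd, ← Spec.map_comp, hσ', h2]
  obtain ⟨pt⟩ : Nonempty ↥(Spec Er) := inferInstance
  refine ⟨σ, s, (Spec.map c1) pt, pullback.lift_fst _ _ _, pullback.lift_snd _ _ _, ?_⟩
  rw [← Scheme.Hom.comp_apply, ← hi]
  exact Scheme.fromSpecResidueField_apply z pt

end Torsor

section Descent

variable (M : Type u) [Field M] [Algebra K M] [FiniteDimensional K M] [Algebra.IsSeparable K M]
  [Normal K M]

set_option backward.isDefEq.respectTransparency.types false in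
theorem existsUnique_descent (P : (Spec (CommRingCat.of K)).Etaleᵒᵖ ⥤ Type w)
    (hP : Presieve.IsSheaf (Spec (CommRingCat.of K)).smallEtaleTopology P)
    (x : P.obj (op (sp K M))) (hx : ∀ σ : M →ₐ[K] M, P.map (spMap K σ).op x = x) :
    ∃! t : P.obj (op (EtCoh.top (Spec (CommRingCat.of K)))), P.map (toTop K M).op t = x := by
  refine GalDescA.existsUnique_descent P hP (toTop K M) ?_ (Set.range (fun σ : M →ₐ[K] M => spMap K σ))
    ?_ x ?_
  · intro t
    obtain ⟨y⟩ : Nonempty ↥(Spec (CommRingCat.of M)) := inferInstance
    have hsub : Subsingleton (PrimeSpectrum K) := inferInstance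
    exact ⟨y, @Subsingleton.elim (PrimeSpectrum K) hsub _ _⟩
  · intro z
    obtain ⟨σ, s, y, hs1, hs2, hs3⟩ := torsor K M z
    exact ⟨spMap K σ, ⟨σ, rfl⟩, s, y, hs1, hs2, hs3⟩
  · rintro _ ⟨σ, rfl⟩
    exact hx σ

end Descent

end Groth.Agent.Helper6.GalDescB
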