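import Mathlib
import Groth.Prelude.Def_EtBase
import Groth.Prelude.Def_EtCore
import Groth.Agent.Helper6.GalDescB

/-! The trace `F(Y) → F(Spec K)` for abelian sheaves on the small étale site of a field, built from
a finite Galois extension `M/K` and a family of maps `Spec M → Y` permuted by the Galois group. -/

set_option autoImplicit false
set_option linter.style.haveILetI false
set_option linter.unusedSectionVars false
set_option linter.unusedVariables false
set_option linter.unusedSimpArgs false

universe u w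

open CategoryTheory CategoryTheory.Limits Opposite AlgebraicGeometry

namespace Groth.Agent.Helper6.GalDescC

open Groth.Agent.Helper6.GalDescB

variable (K : Type u) [Field K] (M : Type u) [Field M] [Algebra K M] [FiniteDimensional K M]
  [Algebra.IsSeparable K M] [Normal K M]

theorem isSheaf_forget {X : Scheme.{u}} (F : EtCoh.Ab X) :
    Presieve.IsSheaf X.smallEtaleTopology (F.obj ⋙ forget AddCommGrpCat) :=
  (isSheaf_iff_isSheaf_of_type _ _).mp
    ((Presheaf.isSheaf_iff_isSheaf_forget _ _ (forget AddCommGrpCat)).mp F.property)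

/-- Galois descent for abelian sheaves -/
theorem existsUnique_ab (F : EtCoh.Ab (Spec (CommRingCat.of K))) (x : F.obj.obj (op (sp K M)))
    (hx : ∀ σ : M →ₐ[K] M, F.obj.map (spMap K σ).op x = x) :
    ∃! t : F.obj.obj (op (EtCoh.top (Spec (CommRingCat.of K)))),
      F.obj.map (toTop K M).op t = x :=
  GalDescB.existsUnique_descent K M (F.obj ⋙ forget AddCommGrpCat) (isSheaf_forget F) x hx

section Trace

variable {K M}
variable {Y : (Spec (CommRingCat.of K)).Etale} {I : Type*} [Fintype I] (e : I → (sp K M ⟶ Y))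
  (hperm : ∀ σ : M →ₐ[K] M, ∃ ρ : Equiv.Perm I, ∀ i, spMap K σ ≫ e i = e (ρ i))

/-- `Σ_i e_i^* h` -/
noncomputable def pre (F : EtCoh.Ab (Spec (CommRingCat.of K))) (h : F.obj.obj (op Y)) :
    F.obj.obj (op (sp K M)) := ∑ i, (F.obj.map (e i).op).hom h

include hperm in
lemma pre_invariant (F : EtCoh.Ab (Spec (CommRingCat.of K))) (h : F.obj.obj (op Y))
    (σ : M →ₐ[K] M) : (F.obj.map (spMap K σ).op).hom (pre e F h) = pre e F h := by
  obtain ⟨ρ, hρ⟩ := hperm σ
  unfold pre
  rw [map_sum]
  have h1 : ∀ i, (F.obj.map (spMap K σ).op).hom ((F.obj.map (e i).op).hom h) =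
      (F.obj.map (e (ρ i)).op).hom h := by
    intro i
    rw [← hρ i, op_comp, F.obj.map_comp]
    rfl
  simp only [h1]
  exact Equiv.sum_comp ρ (fun i => (F.obj.map (e i).op).hom h)

/-- the trace -/
noncomputable def tr (F : EtCoh.Ab (Spec (CommRingCat.of K))) (h : F.obj.obj (op Y)) :
    F.obj.obj (op (EtCoh.top (Spec (CommRingCat.of K)))) :=
  (existsUnique_ab K M F (pre e F h) (pre_invariant e hperm F h)).exists.choose

lemma tr_spec (F : EtCoh.Ab (Spec (CommRingCat.of K))) (h : F.obj.obj (op Y)) :
    (F.obj.map (toTop K M).op).hom (tr e hperm F h) = pre e F h :=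
  (existsUnique_ab K M F (pre e F h) (pre_invariant e hperm F h)).exists.choose_spec

lemma tr_unique (F : EtCoh.Ab (Spec (CommRingCat.of K))) (h : F.obj.obj (op Y))
    (t : F.obj.obj (op (EtCoh.top (Spec (CommRingCat.of K)))))
    (ht : (F.obj.map (toTop K M).op).hom t = pre e F h) : t = tr e hperm F h :=
  (existsUnique_ab K M F (pre e F h) (pre_invariant e hperm F h)).unique ht (tr_spec e hperm F h)

lemma tr_natural {F G : EtCoh.Ab (Spec (CommRingCat.of K))} (φ : F ⟶ G) (h : F.obj.obj (op Y)) :
    (φ.hom.app (op (EtCoh.top (Spec (CommRingCat.of K))))).hom (tr e hperm F h) =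
      tr e hperm G ((φ.hom.app (op Y)).hom h) := by
  apply tr_unique
  have n1 := NatTrans.naturality_apply φ.hom (toTop K M).op (tr e hperm F h)
  refine n1.symm.trans ?_
  have := tr_spec e hperm F h
  have h2 : (φ.hom.app (op (sp K M))).hom ((F.obj.map (toTop K M).op).hom (tr e hperm F h)) =
      (φ.hom.app (op (sp K M))).hom (pre e F h) := congrArg _ this
  refine h2.trans ?_
  unfold pre
  rw [map_sum]
  refine Finset.sum_congr rfl (fun i _ => ?_)
  exact NatTrans.naturality_apply φ.hom (e i).op h

lemma tr_res (F : EtCoh.Ab (Spec (CommRingCat.of K))) (πY : Y ⟶ EtCoh.top (Spec (CommRingCat.of K)))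
    (h0 : F.obj.obj (op (EtCoh.top (Spec (CommRingCat.of K))))) :
    tr e hperm F ((F.obj.map πY.op).hom h0) = Fintype.card I • h0 := by
  symm
  apply tr_unique
  unfold pre
  have h1 : ∀ i, (F.obj.map (e i).op).hom ((F.obj.map πY.op).hom h0) =
      (F.obj.map (toTop K M).op).hom h0 := by
    intro i
    have e1 : e i ≫ πY = toTop K M := (EtCore.topIsTerminal _).hom_ext _ _
    rw [← e1, op_comp, F.obj.map_comp]
    rfl
  simp only [h1]
  rw [Finset.sum_const, Finset.card_univ, map_nsmul]

end Trace

end Groth.Agent.Helper6.GalDescC
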