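import Mathlib
import Groth.Prelude.Def_FibCat2
import Groth.Prelude.Def_AlgSt2
import Groth.Agent.Helper6.AlgStRep
import Groth.Agent.Helper6.FpDiagBC

/-!
# Helper6: properties of the diagonal are stable under base change
-/

set_option autoImplicit false
set_option linter.style.haveILetI false
universe u

namespace Groth.Agent.Helper6.AlgStDiag
open CategoryTheory Functor FibCat Limits AlgebraicGeometry Opposite
open Groth.Agent.Helper3 Groth.Agent.Helper6.FpTools Groth.Agent.Helper6.AlgStRep

variable {S : Scheme.{u}} {𝒳 𝒴 𝒴' : AlgSt.Cat S}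

/-- If the diagonal of `f` is representable by algebraic spaces with property `P`, so is the diagonal of any
base change of `f`. -/
theorem repByAlgSpWith_diag_fpFst (P : MorphismProperty (AlgSp.Sp S)) (f : 𝒳 ⥤ᵇ 𝒴) (g : 𝒴' ⥤ᵇ 𝒴)
    (hf : AlgSt.RepByAlgSpWith P (FibCat.diag f)) :
    AlgSt.RepByAlgSpWith P (FibCat.diag (FibCat.fpFst g f)) := by
  intro U y
  -- Step A: pasting
  have hA := rep_transfer P (pasteLeft y (qFunctor f g) (FibCat.diag f))
    (isEquivOver_pasteLeft y (qFunctor f g) (FibCat.diag f))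
    (FibCat.fpFst y (FibCat.fpFst (qFunctor f g) (FibCat.diag f)))
    (FibCat.fpFst (BasedFunctor.comp y (qFunctor f g)) (FibCat.diag f)) (Iso.refl _)
    (hf U (BasedFunctor.comp y (qFunctor f g)))
  -- Step B: replace `fpFst q (diag f)` by `diag (fpFst g f)` along the equivalence `diagBC`
  have θ : BasedFunctor.comp y (BasedFunctor.id _) ≅
      BasedFunctor.comp (BasedFunctor.id (FibCat.overCat U)) y := Iso.refl _
  have η : BasedFunctor.comp (FibCat.diag (FibCat.fpFst g f)) (BasedFunctor.id _) ≅
      BasedFunctor.comp (diagBC f g) (FibCat.fpFst (qFunctor f g) (FibCat.diag f)) := Iso.refl _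
  exact rep_transfer' P
    (cospanFunctor y (FibCat.fpFst (qFunctor f g) (FibCat.diag f)) y (FibCat.diag (FibCat.fpFst g f))
      (BasedFunctor.id _) (diagBC f g) (BasedFunctor.id _) θ η)
    (isEquivOver_cospanFunctor _ _ _ _ _ _ _ θ η (isEquivOver_id _) (isEquivOver_diagBC f g)
      (isEquivOver_id _))
    (FibCat.fpFst y (FibCat.fpFst (qFunctor f g) (FibCat.diag f)))
    (FibCat.fpFst y (FibCat.diag (FibCat.fpFst g f))) (Iso.refl _) hA

end Groth.Agent.Helper6.AlgStDiag
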