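import Mathlib
import Groth.Prelude.Def_FibCat2
import Groth.Prelude.Def_W4stkcategoriessitesFib
import Groth.Agent.Helper3.EquivOver
import Groth.Agent.Helper3.Fp
import Groth.Agent.Helper3.TwoYoneda
import Groth.Agent.Helper9.FibRep
import Groth.Agent.Helper6.FpTools
import Groth.Agent.Helper6.FpPaste
import Groth.Agent.Helper6.FpRep

/-!
# Helper6: functors between slices, and fibre products of slices
-/

set_option autoImplicit false
set_option linter.style.haveILetI false
set_option linter.unusedVariables false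
universe v u

namespace Groth.Agent.Helper6.OverRep
open CategoryTheory Functor FibCat Limits
open Groth.Agent.Helper3 Groth.Agent.Helper6.FpTools Groth.Agent.Helper9.FibRep

variable {C : Type u} [Category.{v} C]

/-- composition with `f`, as a functor over `C` -/
abbrev overMapC {X Y : C} (f : X ⟶ Y) : overCat X ⥤ᵇ overCat Y := ⟨Over.map f, Over.mapForget_eq f⟩

theorem over_lift_id {X : C} {a b : Over X} (k : a ⟶ b) (T : C) (ha : a.left = T) (hb : b.left = T)
    (hk : k.left = eqToHom ha ≫ eqToHom hb.symm) : (overCat X).p.IsHomLift (𝟙 T) k :=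
  IsHomLift.of_fac (Over.forget X) (𝟙 T) k ha hb (by
    change 𝟙 T = eqToHom ha.symm ≫ k.left ≫ eqToHom hb
    rw [hk]; simp)

/-- every functor over `C` between slices is composition with a morphism (2-Yoneda) -/
theorem exists_overMap_iso {X' X : C} (H : overCat X' ⥤ᵇ overCat X) :
    ∃ f : X' ⟶ X, Nonempty (H ≅ overMapC f) := by
  let a : Over X := H.obj (Over.mk (𝟙 X'))
  have ha : a.left = X' := H.w_obj (Over.mk (𝟙 X'))
  let f : X' ⟶ X := eqToHom ha.symm ≫ a.hom
  let M : overCat X' ⥤ᵇ overCat X := overMapC f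
  have hw : eqToHom ha.symm ≫ a.hom = 𝟙 X' ≫ f := by simp [f]
  let ι : M.obj (Over.mk (𝟙 X')) ≅ a := Over.isoMk (eqToIso ha.symm) hw
  have hι : (overCat X).p.IsHomLift (𝟙 X') ι.hom :=
    IsHomLift.of_fac (Over.forget X) (𝟙 X') ι.hom rfl ha (by
      change 𝟙 _ = eqToHom rfl ≫ eqToHom ha.symm ≫ eqToHom ha
      simp)
  have hιinv : (overCat X).p.IsHomLift (𝟙 X') ι.inv := by
    have := IsHomLift.lift_id_inv_isIso (overCat X).p X' ι.hom
    rwa [IsIso.Iso.inv_hom] at this
  let ιF : (evalAtId (overCat X) X').obj M ≅ (evalAtId (overCat X) X').obj H :=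
    { hom := ⟨ι.hom, hι⟩
      inv := ⟨ι.inv, hιinv⟩
      hom_inv_id := Functor.Fiber.hom_ext ι.hom_inv_id
      inv_hom_id := Functor.Fiber.hom_ext ι.inv_hom_id }
  haveI := TwoYoneda.evalAtId_isEquivalence_of_isFibGrpd (𝒳 := overCat X) X' (isFibGrpd_overCat X)
  exact ⟨f, ⟨((evalAtId (overCat X) X').preimageIso ιF).symm⟩⟩

section Pull

variable [HasPullbacks C] {A B Y : C} (a : A ⟶ Y) (b : B ⟶ Y)

/-- the 2-isomorphism of the pullback square -/
noncomputable def pullIso : BasedFunctor.comp (overMapC (pullback.fst a b)) (overMapC a) ≅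
    BasedFunctor.comp (overMapC (pullback.snd a b)) (overMapC b) :=
  BasedNatIso.mkNatIso
    (NatIso.ofComponents
      (fun t => Over.isoMk (Iso.refl _) (by
        change 𝟙 _ ≫ ((t : Over (pullback a b)).hom ≫ pullback.snd a b) ≫ b =
          ((t : Over (pullback a b)).hom ≫ pullback.fst a b) ≫ a
        rw [Category.id_comp, Category.assoc, Category.assoc, pullback.condition]))
      (fun {t t'} k => by
        apply Over.OverMorphism.ext
        change k.left ≫ 𝟙 _ = 𝟙 _ ≫ k.left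
        rw [Category.comp_id, Category.id_comp]))
    (fun t => over_lift_id _ _ rfl rfl (by
      change 𝟙 _ = eqToHom rfl ≫ eqToHom rfl
      simp))

/-- the comparison functor `C/(A ×_Y B) ⟶ C/A ×_{C/Y} C/B` -/
noncomputable def pullE : overCat (pullback a b) ⥤ᵇ fp (overMapC a) (overMapC b) :=
  fpLift (overMapC (pullback.fst a b)) (overMapC (pullback.snd a b)) (pullIso a b)

theorem pullE_faithful : (pullE a b).toFunctor.Faithful := by
  refine ⟨fun {t t'} k k' h => ?_⟩
  have h1 : ((pullE a b).map k).hom.fst = ((pullE a b).map k').hom.fst :=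
    congrArg (fun Φ => Φ.hom.fst) h
  apply Over.OverMorphism.ext
  exact congrArg (fun m : (Over.map (pullback.fst a b)).obj t ⟶ (Over.map (pullback.fst a b)).obj t' =>
    m.left) h1

theorem pullE_full : (pullE a b).toFunctor.Full := by
  refine ⟨fun {t t'} Φ => ?_⟩
  have hw := congrArg CommaMorphism.left Φ.hom.w
  have hk : Φ.hom.fst.left = Φ.hom.snd.left := by
    change Φ.hom.fst.left ≫ 𝟙 _ = 𝟙 _ ≫ Φ.hom.snd.left at hw
    rwa [Category.comp_id, Category.id_comp] at hw
  have w1 : Φ.hom.fst.left ≫ ((t' : Over (pullback a b)).hom ≫ pullback.fst a b) =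
      (t : Over (pullback a b)).hom ≫ pullback.fst a b := Over.w Φ.hom.fst
  have w2 : Φ.hom.snd.left ≫ ((t' : Over (pullback a b)).hom ≫ pullback.snd a b) =
      (t : Over (pullback a b)).hom ≫ pullback.snd a b := Over.w Φ.hom.snd
  have hwk : Φ.hom.fst.left ≫ (t' : Over (pullback a b)).hom = (t : Over (pullback a b)).hom := by
    apply pullback.hom_ext
    · exact (Category.assoc _ _ _).trans w1
    · exact (Category.assoc _ _ _).trans ((congrArg (· ≫ _) hk).trans w2)
  refine ⟨Over.homMk Φ.hom.fst.left hwk, ?_⟩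
  apply fp_hom_ext
  · apply Over.OverMorphism.ext
    rfl
  · apply Over.OverMorphism.ext
    exact hk

theorem pullE_essSurj (z : (fp (overMapC a) (overMapC b)).obj) :
    ∃ (x : (overCat (pullback a b)).obj) (e : (pullE a b).obj x ≅ z),
      (fp (overMapC a) (overMapC b)).p.IsHomLift
        (𝟙 ((fp (overMapC a) (overMapC b)).p.obj z)) e.hom := by
  let α : Over A := z.obj.fst
  let β : Over B := z.obj.snd
  let θ : (Over.map a).obj α ≅ (Over.map b).obj β := z.obj.iso
  let m : α.left ≅ β.left := (Over.forget Y).mapIso θ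
  have hm : m.hom ≫ (β.hom ≫ b) = α.hom ≫ a := Over.w θ.hom
  let t : α.left ⟶ pullback a b := pullback.lift α.hom (m.hom ≫ β.hom) (by
    rw [Category.assoc]; exact hm.symm)
  let x : Over (pullback a b) := Over.mk t
  let e₁ : (Over.map (pullback.fst a b)).obj x ≅ α := Over.isoMk (Iso.refl _) (by
    change 𝟙 _ ≫ α.hom = t ≫ pullback.fst a b
    rw [Category.id_comp, pullback.lift_fst])
  let e₂ : (Over.map (pullback.snd a b)).obj x ≅ β := Over.isoMk m (by
    change m.hom ≫ β.hom = t ≫ pullback.snd a b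
    rw [pullback.lift_snd])
  refine ⟨x, fpMkIso (x := (pullE a b).obj x) (z := z) e₁ e₂ ?_, ?_⟩
  · apply Over.OverMorphism.ext
    change 𝟙 _ ≫ m.hom = 𝟙 _ ≫ m.hom
    rfl
  · apply fpMkIso_lift
    exact over_lift_id _ _ rfl rfl (by
      change 𝟙 _ = eqToHom rfl ≫ eqToHom rfl
      simp)

theorem isEquivOver_pullE : IsEquivOver (pullE a b) :=
  (isEquivOver_iff _).2 ⟨pullE_full a b, pullE_faithful a b, pullE_essSurj a b⟩

end Pull

section Prod

variable [HasBinaryProducts C] (V U : C)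

/-- the 2-isomorphism of the product square -/
noncomputable def prodIso :
    BasedFunctor.comp (overMapC (prod.fst : V ⨯ U ⟶ V)) (toSelf (overCat V)) ≅
      BasedFunctor.comp (overMapC (prod.snd : V ⨯ U ⟶ U)) (toSelf (overCat U)) :=
  BasedNatIso.mkNatIso
    (NatIso.ofComponents (fun t => Iso.refl _) (fun {t t'} k => by
      change k.left ≫ 𝟙 _ = 𝟙 _ ≫ k.left
      rw [Category.comp_id, Category.id_comp]))
    (fun t => IsHomLift.id rfl)

/-- the comparison functor `C/(V × U) ⟶ C/V ×_C C/U` -/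
noncomputable def prodE : overCat (V ⨯ U) ⥤ᵇ fp (toSelf (overCat V)) (toSelf (overCat U)) :=
  fpLift (overMapC (prod.fst : V ⨯ U ⟶ V)) (overMapC (prod.snd : V ⨯ U ⟶ U)) (prodIso V U)

theorem prodE_faithful : (prodE V U).toFunctor.Faithful := by
  refine ⟨fun {t t'} k k' h => ?_⟩
  have h1 : ((prodE V U).map k).hom.fst = ((prodE V U).map k').hom.fst :=
    congrArg (fun Φ => Φ.hom.fst) h
  apply Over.OverMorphism.ext
  exact congrArg (fun m : (Over.map (prod.fst : V ⨯ U ⟶ V)).obj t ⟶
    (Over.map (prod.fst : V ⨯ U ⟶ V)).obj t' => m.left) h1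

theorem prodE_full : (prodE V U).toFunctor.Full := by
  refine ⟨fun {t t'} Φ => ?_⟩
  have hw := Φ.hom.w
  have hk : Φ.hom.fst.left = Φ.hom.snd.left := by
    change Φ.hom.fst.left ≫ 𝟙 _ = 𝟙 _ ≫ Φ.hom.snd.left at hw
    rwa [Category.comp_id, Category.id_comp] at hw
  have w1 : Φ.hom.fst.left ≫ ((t' : Over (V ⨯ U)).hom ≫ prod.fst) =
      (t : Over (V ⨯ U)).hom ≫ prod.fst := Over.w Φ.hom.fst
  have w2 : Φ.hom.snd.left ≫ ((t' : Over (V ⨯ U)).hom ≫ prod.snd) =
      (t : Over (V ⨯ U)).hom ≫ prod.snd := Over.w Φ.hom.snd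
  have hwk : Φ.hom.fst.left ≫ (t' : Over (V ⨯ U)).hom = (t : Over (V ⨯ U)).hom := by
    apply Limits.prod.hom_ext
    · exact (Category.assoc _ _ _).trans w1
    · exact (Category.assoc _ _ _).trans ((congrArg (· ≫ _) hk).trans w2)
  refine ⟨Over.homMk Φ.hom.fst.left hwk, ?_⟩
  apply fp_hom_ext
  · apply Over.OverMorphism.ext
    rfl
  · apply Over.OverMorphism.ext
    exact hk

theorem prodE_essSurj (z : (fp (toSelf (overCat V)) (toSelf (overCat U))).obj) :
    ∃ (x : (overCat (V ⨯ U)).obj) (e : (prodE V U).obj x ≅ z),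
      (fp (toSelf (overCat V)) (toSelf (overCat U))).p.IsHomLift
        (𝟙 ((fp (toSelf (overCat V)) (toSelf (overCat U))).p.obj z)) e.hom := by
  let α : Over V := z.obj.fst
  let β : Over U := z.obj.snd
  let m : α.left ≅ β.left := z.obj.iso
  let t : α.left ⟶ V ⨯ U := prod.lift α.hom (m.hom ≫ β.hom)
  let x : Over (V ⨯ U) := Over.mk t
  let e₁ : (Over.map (prod.fst : V ⨯ U ⟶ V)).obj x ≅ α := Over.isoMk (Iso.refl _) (by
    change 𝟙 _ ≫ α.hom = t ≫ prod.fst
    rw [Category.id_comp, prod.lift_fst])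
  let e₂ : (Over.map (prod.snd : V ⨯ U ⟶ U)).obj x ≅ β := Over.isoMk m (by
    change m.hom ≫ β.hom = t ≫ prod.snd
    rw [prod.lift_snd])
  refine ⟨x, fpMkIso (x := (prodE V U).obj x) (z := z) e₁ e₂ ?_, ?_⟩
  · change 𝟙 _ ≫ m.hom = 𝟙 _ ≫ m.hom
    rfl
  · apply fpMkIso_lift
    exact over_lift_id _ _ rfl rfl (by
      change 𝟙 _ = eqToHom rfl ≫ eqToHom rfl
      simp)

theorem isEquivOver_prodE : IsEquivOver (prodE V U) :=
  (isEquivOver_iff _).2 ⟨prodE_full V U, prodE_faithful V U, prodE_essSurj V U⟩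

end Prod

end Groth.Agent.Helper6.OverRep
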