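import Mathlib
import Groth.Prelude.Def_FibCat2
import Groth.Agent.Helper3.EquivOver
import Groth.Agent.Helper3.Fp
import Groth.Agent.Helper6.FpTools
import Groth.Agent.Helper6.FpCospan
import Groth.Agent.Helper6.FpRep
import Groth.Agent.Helper6.FpPaste
import Groth.Agent.Helper6.FpCompare
import Groth.Agent.Helper6.AlgStInv
import Groth.Agent.Helper6.OverRep

/-!
# Helper6: representable 1-morphisms and the diagonal (categories over any base category)
-/

set_option autoImplicit false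
set_option linter.style.haveILetI false
set_option linter.unusedVariables false
universe v₇ u₇ v₆ u₆ v₅ u₅ v₄ u₄ v₃ u₃ v₂ u₂ v u

namespace Groth.Agent.Helper6.RepDiag
open CategoryTheory Functor FibCat Limits
open Groth.Agent.Helper3 Groth.Agent.Helper6.FpTools Groth.Agent.Helper6.OverRep
open Groth.Agent.Helper6.AlgStInv

variable {C : Type u} [Category.{v} C]

theorem isRepresentable_overCat (U : C) : IsRepresentable (overCat U) :=
  ⟨U, BasedFunctor.id _, isEquivOver_id _⟩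

section Congr

variable {𝒲 : BasedCategory.{v₂, u₂} C} {𝒳 : BasedCategory.{v₃, u₃} C} {𝒴 : BasedCategory.{v₄, u₄} C}
  {𝒲' : BasedCategory.{v₅, u₅} C}

/-- replacing the first leg by an isomorphic one -/
def fpCongrLeft {y y' : 𝒲 ⥤ᵇ 𝒴} (f : 𝒳 ⥤ᵇ 𝒴) (e : y' ≅ y) : fp y' f ⥤ᵇ fp y f :=
  cospanFunctor y f y' f (BasedFunctor.id _) (BasedFunctor.id _) (BasedFunctor.id _) e (Iso.refl _)

theorem isEquivOver_fpCongrLeft {y y' : 𝒲 ⥤ᵇ 𝒴} (f : 𝒳 ⥤ᵇ 𝒴) (e : y' ≅ y) :
    IsEquivOver (fpCongrLeft f e) :=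
  isEquivOver_cospanFunctor _ _ _ _ _ _ _ _ _ (isEquivOver_id _) (isEquivOver_id _) (isEquivOver_id _)

/-- precomposing the first leg with a functor -/
def fpPrecomp (E : 𝒲' ⥤ᵇ 𝒲) (y : 𝒲 ⥤ᵇ 𝒴) (f : 𝒳 ⥤ᵇ 𝒴) : fp (BasedFunctor.comp E y) f ⥤ᵇ fp y f :=
  cospanFunctor y f (BasedFunctor.comp E y) f E (BasedFunctor.id _) (BasedFunctor.id _)
    (Iso.refl _) (Iso.refl _)

theorem isEquivOver_fpPrecomp (E : 𝒲' ⥤ᵇ 𝒲) (hE : IsEquivOver E) (y : 𝒲 ⥤ᵇ 𝒴) (f : 𝒳 ⥤ᵇ 𝒴) :
    IsEquivOver (fpPrecomp E y f) :=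
  isEquivOver_cospanFunctor _ _ _ _ _ _ _ _ _ hE (isEquivOver_id _) (isEquivOver_id _)

end Congr

section OverMap

variable [HasPullbacks C]

/-- composition with a morphism of `C` is a representable 1-morphism between slices -/
theorem isRepresentable1_overMapC {X Y : C} (f : X ⟶ Y) : IsRepresentable1 (overMapC f) := by
  intro U G
  obtain ⟨u, ⟨ι⟩⟩ := exists_overMap_iso G
  refine isRepresentable_of_isEquivOver (fpCongrLeft (overMapC f) ι) (isEquivOver_fpCongrLeft _ ι) ?_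
  exact (isRepresentable_iff_of_isEquivOver (pullE u f) (isEquivOver_pullE u f)).1
    (isRepresentable_overCat _)

/-- every functor over `C` between representable categories is a representable 1-morphism -/
theorem isRepresentable1_of_isRepresentable {𝒜 ℬ : BasedCategory.{v, max u v} C}
    (h𝒜 : IsRepresentable 𝒜) (hℬ : IsRepresentable ℬ) (F : 𝒜 ⥤ᵇ ℬ) : IsRepresentable1 F := by
  obtain ⟨A, a, ha⟩ := h𝒜
  obtain ⟨B, b, hb⟩ := hℬ
  obtain ⟨a', ha', ⟨η⟩, -⟩ := EquivOver.symm ha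
  obtain ⟨g, ⟨ι⟩⟩ := exists_overMap_iso (BasedFunctor.comp a' (BasedFunctor.comp F b))
  have h1 : IsRepresentable1 (overMapC g) := isRepresentable1_overMapC g
  have h2 : IsRepresentable1 (BasedFunctor.comp a' (BasedFunctor.comp F b)) :=
    isRepresentable1_of_square' _ (overMapC g) (BasedFunctor.id _) (BasedFunctor.id _)
      (isEquivOver_id _) (isEquivOver_id _) ι.symm h1
  exact isRepresentable1_of_square (BasedFunctor.comp a' (BasedFunctor.comp F b)) F a b ha hb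
    (whiskerRightIso' η.symm (BasedFunctor.comp F b)) h2

end OverMap

section ProdEquiv

variable [HasBinaryProducts C] {𝒮 : BasedCategory.{v₂, u₂} C} {V U : C}

/-- `C/(V × U) ⟶ C/V ×_C C/U`, with the legs written through `𝒮` -/
noncomputable def prodEquiv (H : overCat V ⥤ᵇ 𝒮) (G : overCat U ⥤ᵇ 𝒮) :
    overCat (V ⨯ U) ⥤ᵇ
      fp (BasedFunctor.comp H (toSelf 𝒮)) (BasedFunctor.comp G (toSelf 𝒮)) :=
  BasedFunctor.comp (prodE V U)
    (cospanFunctor (BasedFunctor.comp H (toSelf 𝒮)) (BasedFunctor.comp G (toSelf 𝒮))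
      (toSelf (overCat V)) (toSelf (overCat U)) (BasedFunctor.id _) (BasedFunctor.id _)
      (BasedFunctor.id _) (toSelfIso H) (toSelfIso G))

theorem isEquivOver_prodEquiv (H : overCat V ⥤ᵇ 𝒮) (G : overCat U ⥤ᵇ 𝒮) :
    IsEquivOver (prodEquiv H G) :=
  isEquivOver_comp (isEquivOver_prodE V U)
    (isEquivOver_cospanFunctor _ _ _ _ _ _ _ _ _ (isEquivOver_id _) (isEquivOver_id _)
      (isEquivOver_id _))

end ProdEquiv

end Groth.Agent.Helper6.RepDiag
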