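import Mathlib
import Groth.Agent.Helper6.RepDiag

/-!
# Helper6: the diagonal of `𝒮 ⟶ C` is representable iff all functors from slices are
-/

set_option autoImplicit false
set_option linter.style.haveILetI false
set_option linter.unusedVariables false
universe v₇ u₇ v₆ u₆ v₅ u₅ v₄ u₄ v₃ u₃ v₂ u₂ v u

namespace Groth.Agent.Helper6.RepDiag
open CategoryTheory Functor FibCat Limits
open Groth.Agent.Helper3 Groth.Agent.Helper6.FpTools Groth.Agent.Helper6.OverRep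
open Groth.Agent.Helper6.AlgStInv

variable {C : Type u} [Category.{v} C]

section Whisk

variable {𝒱 : BasedCategory.{v₂, u₂} C} {𝒰 : BasedCategory.{v₃, u₃} C} {𝒮 : BasedCategory.{v₄, u₄} C}
  {𝒯 : BasedCategory.{v₅, u₅} C}

/-- the 2-isomorphism of the fibre product square, pushed forward along `t` -/
def sqIso (H : 𝒱 ⥤ᵇ 𝒮) (G : 𝒰 ⥤ᵇ 𝒮) (t : 𝒮 ⥤ᵇ 𝒯) :
    BasedFunctor.comp (fpFst H G) (BasedFunctor.comp H t) ≅
      BasedFunctor.comp (fpSnd H G) (BasedFunctor.comp G t) :=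
  whiskerRightIso' (fpIso H G) t

theorem sqIso_app (H : 𝒱 ⥤ᵇ 𝒮) (G : 𝒰 ⥤ᵇ 𝒮) (t : 𝒮 ⥤ᵇ 𝒯) (x : (fp H G).obj) :
    (sqIso H G t).hom.toNatTrans.app x = t.map x.obj.iso.hom := rfl

end Whisk


section Back

variable {𝒲 : BasedCategory.{v₂, u₂} C} {𝒮 : BasedCategory.{v₃, u₃} C} {𝒯 : BasedCategory.{v₄, u₄} C}
  (t : 𝒮 ⥤ᵇ 𝒯) (y : 𝒲 ⥤ᵇ fp t t)

/-- the graph-like section `𝒲 ⟶ 𝒲 ×_𝒯 𝒲` determined by `y : 𝒲 ⟶ 𝒮 ×_𝒯 𝒮` -/
def delta : 𝒲 ⥤ᵇ fp (BasedFunctor.comp (BasedFunctor.comp y (fpFst t t)) t)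
    (BasedFunctor.comp (BasedFunctor.comp y (fpSnd t t)) t) :=
  fpLift (BasedFunctor.id 𝒲) (BasedFunctor.id 𝒲) (whiskerLeftIso' y (fpIso t t))

/-- `y` factors through `delta` -/
def deltaIso : y ≅ BasedFunctor.comp (delta t y)
    (cmpQ (BasedFunctor.comp y (fpFst t t)) (BasedFunctor.comp y (fpSnd t t)) t) :=
  BasedNatIso.mkNatIso
    (NatIso.ofComponents
      (fun a => fpMkIso (x := y.obj a) (z := (BasedFunctor.comp (delta t y)
        (cmpQ (BasedFunctor.comp y (fpFst t t)) (BasedFunctor.comp y (fpSnd t t)) t)).obj a)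
        (Iso.refl _) (Iso.refl _) (by
          change t.map (𝟙 _) ≫ (y.obj a).obj.iso.hom = (y.obj a).obj.iso.hom ≫ t.map (𝟙 _)
          rw [t.toFunctor.map_id, t.toFunctor.map_id, Category.id_comp, Category.comp_id]))
      (fun {a a'} k => by
        apply fp_hom_ext
        · change (y.map k).hom.fst ≫ 𝟙 _ = 𝟙 _ ≫ (y.map k).hom.fst
          rw [Category.comp_id, Category.id_comp]
        · change (y.map k).hom.snd ≫ 𝟙 _ = 𝟙 _ ≫ (y.map k).hom.snd
          rw [Category.comp_id, Category.id_comp]))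
    (fun a => by
      apply fpMkIso_lift
      exact IsHomLift.id ((y.w_obj a)))

end Back

section Main

variable [HasBinaryProducts C] [HasPullbacks C] {𝒮 : BasedCategory.{v, max u v} C}

theorem forward (hΔ : IsRepresentable1 (diag (toSelf 𝒮))) (U : C) (G : overCat U ⥤ᵇ 𝒮) :
    IsRepresentable1 G := by
  intro V H
  refine isRepresentable_of_isEquivOver (cmpBC H G (toSelf 𝒮) (sqIso H G _) (sqIso_app H G _))
    (isEquivOver_cmpBC _ _ _ _ _) ?_
  refine (isRepresentable_iff_of_isEquivOver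
    (fpPrecomp (prodEquiv H G) (cmpQ H G (toSelf 𝒮)) (diag (toSelf 𝒮)))
    (isEquivOver_fpPrecomp _ (isEquivOver_prodEquiv H G) _ _)).1 ?_
  exact hΔ _ _

theorem backward (hall : ∀ (U : C) (G : overCat U ⥤ᵇ 𝒮), IsRepresentable1 G) :
    IsRepresentable1 (diag (toSelf 𝒮)) := by
  intro T y
  refine isRepresentable_of_isEquivOver (fpCongrLeft (diag (toSelf 𝒮)) (deltaIso (toSelf 𝒮) y))
    (isEquivOver_fpCongrLeft _ _) ?_
  refine isRepresentable_of_isEquivOver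
    (pasteLeft (delta (toSelf 𝒮) y)
      (cmpQ (BasedFunctor.comp y (fpFst _ _)) (BasedFunctor.comp y (fpSnd _ _)) (toSelf 𝒮))
      (diag (toSelf 𝒮))) (isEquivOver_pasteLeft _ _ _) ?_
  have hc : IsRepresentable1 (cmp (BasedFunctor.comp y (fpFst _ _)) (BasedFunctor.comp y (fpSnd _ _))
      (toSelf 𝒮) (sqIso _ _ _)) :=
    isRepresentable1_of_isRepresentable (hall T _ T _)
      ((isRepresentable_iff_of_isEquivOver (prodEquiv _ _) (isEquivOver_prodEquiv _ _)).1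
        (isRepresentable_overCat _)) _
  have h3 : IsRepresentable1 (fpFst
      (cmpQ (BasedFunctor.comp y (fpFst _ _)) (BasedFunctor.comp y (fpSnd _ _)) (toSelf 𝒮))
      (diag (toSelf 𝒮))) :=
    isRepresentable1_of_square' _ _
      (cmpBC (BasedFunctor.comp y (fpFst _ _)) (BasedFunctor.comp y (fpSnd _ _)) (toSelf 𝒮)
        (sqIso _ _ _) (sqIso_app _ _ _))
      (BasedFunctor.id _) (isEquivOver_cmpBC _ _ _ _ _) (isEquivOver_id _) (Iso.refl _) hc
  exact h3 T (delta (toSelf 𝒮) y)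

theorem main : IsRepresentable1 (diag (toSelf 𝒮)) ↔
    ∀ (U : C) (G : overCat U ⥤ᵇ 𝒮), IsRepresentable1 G :=
  ⟨forward, backward⟩

end Main

end Groth.Agent.Helper6.RepDiag
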