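import Mathlib
import Groth.Prelude.Def_AlgSt2
import Groth.Agent.Helper6.RepDiag2
import Groth.Agent.Helper6.AlgStSpMap
import Groth.Agent.Helper6.AlgStEquiv
import Groth.Agent.Helper6.AlgStInv

/-!
# Helper6: the diagonal of `𝒳 ⟶ (Sch/S)` is representable by algebraic spaces iff every `(Sch/U) ⟶ 𝒳` is
-/

set_option autoImplicit false
set_option linter.style.haveILetI false
set_option linter.unusedVariables false
universe w' v' w v u

namespace Groth.Agent.Helper6.AlgStDiagIff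
open CategoryTheory Functor FibCat Limits AlgebraicGeometry Opposite
open Groth.Agent.Helper3 Groth.Agent.Helper6.FpTools Groth.Agent.Helper6.OverRep
open Groth.Agent.Helper6.AlgStInv Groth.Agent.Helper6.RepDiag Groth.Agent.Helper6.AlgStEquiv
open Groth.Agent.Helper6.AlgStSpMap

variable {S : Scheme.{u}}

theorem repByAlgSp_of_isEquivOver {𝒳 : BasedCategory.{v, w} (Over S)}
    {𝒴 : BasedCategory.{v', w'} (Over S)} (E : 𝒳 ⥤ᵇ 𝒴) (hE : IsEquivOver E)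
    (h : AlgSt.RepByAlgSp 𝒴) : AlgSt.RepByAlgSp 𝒳 := by
  obtain ⟨F, e, he⟩ := h
  obtain ⟨E', hE', -, -⟩ := EquivOver.symm hE
  exact ⟨F, BasedFunctor.comp e E', isEquivOver_comp he hE'⟩

theorem repByAlgSp_of_isEquivOver' {𝒳 : BasedCategory.{v, w} (Over S)}
    {𝒴 : BasedCategory.{v', w'} (Over S)} (E : 𝒳 ⥤ᵇ 𝒴) (hE : IsEquivOver E)
    (h : AlgSt.RepByAlgSp 𝒳) : AlgSt.RepByAlgSp 𝒴 := by
  obtain ⟨F, e, he⟩ := h
  exact ⟨F, BasedFunctor.comp e E, isEquivOver_comp he hE⟩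

theorem repByAlgSp_overCat (U : Over S) : AlgSt.RepByAlgSp (overCat U) :=
  ⟨⟨(AlgSp.yon S).obj U, AlgSp.IsAlgSpace.yon_obj U⟩, AlgSt.toOverCat U, isEquivOver_toOverCat U⟩

variable {𝒳 : AlgSt.Cat S}

theorem forward (hΔ : AlgSt.RepByAlgSp1 (diag (toSelf 𝒳))) (U : Over S) (G : overCat U ⥤ᵇ 𝒳) :
    AlgSt.RepByAlgSp1 G := by
  intro V H
  refine repByAlgSp_of_isEquivOver (cmpBC H G (toSelf 𝒳) (sqIso H G _) (sqIso_app H G _))
    (isEquivOver_cmpBC _ _ _ _ _) ?_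
  refine repByAlgSp_of_isEquivOver'
    (fpPrecomp (prodEquiv H G) (cmpQ H G (toSelf 𝒳)) (diag (toSelf 𝒳)))
    (isEquivOver_fpPrecomp _ (isEquivOver_prodEquiv H G) _ _) ?_
  exact hΔ _ _

theorem backward (hall : ∀ (U : Over S) (G : overCat U ⥤ᵇ 𝒳), AlgSt.RepByAlgSp1 G) :
    AlgSt.RepByAlgSp1 (diag (toSelf 𝒳)) := by
  intro T y
  refine repByAlgSp_of_isEquivOver (fpCongrLeft (diag (toSelf 𝒳)) (deltaIso (toSelf 𝒳) y))
    (isEquivOver_fpCongrLeft _ _) ?_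
  refine repByAlgSp_of_isEquivOver
    (pasteLeft (delta (toSelf 𝒳) y)
      (cmpQ (BasedFunctor.comp y (fpFst _ _)) (BasedFunctor.comp y (fpSnd _ _)) (toSelf 𝒳))
      (diag (toSelf 𝒳))) (isEquivOver_pasteLeft _ _ _) ?_
  have hc : AlgSt.RepByAlgSp1 (cmp (BasedFunctor.comp y (fpFst _ _)) (BasedFunctor.comp y (fpSnd _ _))
      (toSelf 𝒳) (sqIso _ _ _)) :=
    repByAlgSp1_of_repByAlgSp (hall T _ T _)
      (repByAlgSp_of_isEquivOver' (prodEquiv _ _) (isEquivOver_prodEquiv _ _)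
        (repByAlgSp_overCat _)) _
  have h3 : AlgSt.RepByAlgSp1 (fpFst
      (cmpQ (BasedFunctor.comp y (fpFst _ _)) (BasedFunctor.comp y (fpSnd _ _)) (toSelf 𝒳))
      (diag (toSelf 𝒳))) := by
    rw [repByAlgSp1_iff_top] at hc ⊢
    exact repByAlgSpWith_of_square' ⊤ _ _
      (cmpBC (BasedFunctor.comp y (fpFst _ _)) (BasedFunctor.comp y (fpSnd _ _)) (toSelf 𝒳)
        (sqIso _ _ _) (sqIso_app _ _ _))
      (BasedFunctor.id _) (isEquivOver_cmpBC _ _ _ _ _) (isEquivOver_id _) (Iso.refl _) hc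
  exact h3 T (delta (toSelf 𝒳) y)

theorem main : AlgSt.RepByAlgSp1 (diag (toSelf 𝒳)) ↔
    ∀ (U : Over S) (G : overCat U ⥤ᵇ 𝒳), AlgSt.RepByAlgSp1 G :=
  ⟨forward, backward⟩

end Groth.Agent.Helper6.AlgStDiagIff
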