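import Mathlib
import Groth.Prelude.Def_FibCat2
import Groth.Agent.Helper3.EquivOver
import Groth.Agent.Helper3.Fp
import Groth.Agent.Helper6.FpTools
import Groth.Agent.Helper6.FpCospan
import Groth.Agent.Helper6.FpRep
import Groth.Agent.Helper6.FpPaste
import Groth.Agent.Helper6.FpDiagBC
import Groth.Agent.Helper6.RepDiag

/-!
# Helper6: base changes of the diagonal of `f` are base changes of diagonals of base changes of `f`
-/

set_option autoImplicit false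
set_option linter.style.haveILetI false
set_option linter.unusedVariables false
universe v₇ u₇ v₆ u₆ v₅ u₅ v₄ u₄ v₃ u₃ v₂ u₂ v u

namespace Groth.Agent.Helper6.DiagRed
open CategoryTheory Functor FibCat Limits
open Groth.Agent.Helper3 Groth.Agent.Helper6.FpTools Groth.Agent.Helper6.RepDiag

variable {C : Type u} [Category.{v} C]

section Aux

variable {D : Type u₂} [Category.{v₂} D]

theorem aux_a {A B : D} (φ : A ⟶ B) (m₁ : A ⟶ A) (m₂ : B ⟶ B) (m₃ : A ⟶ A) (h1 : m₁ = 𝟙 _)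
    (h2 : m₂ = 𝟙 _) (h3 : m₃ = 𝟙 _) : m₁ ≫ φ = (𝟙 A ≫ m₃ ≫ φ) ≫ m₂ := by
  subst h1 h2 h3; simp

theorem aux_b {A B : D} (t : A ≅ B) (m₁ : B ⟶ B) (m₂ : A ⟶ A) (h1 : m₁ = 𝟙 _) (h2 : m₂ = 𝟙 _) :
    m₁ ≫ 𝟙 B = (t.inv ≫ m₂ ≫ t.hom) ≫ m₁ := by
  subst h1 h2; simp

end Aux

section Lift

variable {𝒳 : BasedCategory.{v₂, u₂} C} {𝒴 : BasedCategory.{v₃, u₃} C} {𝒰 : BasedCategory.{v₄, u₄} C}
  (f : 𝒳 ⥤ᵇ 𝒴) (z : 𝒰 ⥤ᵇ fp f f)

/-- the image in `𝒴` of the first component of `z` -/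
abbrev yz : 𝒰 ⥤ᵇ 𝒴 := BasedFunctor.comp (BasedFunctor.comp z (fpFst f f)) f

/-- first section of `𝒰 ×_𝒴 𝒳 ⟶ 𝒰` -/
def s₁ : 𝒰 ⥤ᵇ fp (yz f z) f :=
  fpLift (BasedFunctor.id 𝒰) (BasedFunctor.comp z (fpFst f f)) (Iso.refl _)

/-- second section of `𝒰 ×_𝒴 𝒳 ⟶ 𝒰` -/
def s₂ : 𝒰 ⥤ᵇ fp (yz f z) f :=
  fpLift (BasedFunctor.id 𝒰) (BasedFunctor.comp z (fpSnd f f)) (whiskerLeftIso' z (fpIso f f))

/-- the lift of `z` to the self-product of the base change -/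
def zLift : 𝒰 ⥤ᵇ fp (fpFst (yz f z) f) (fpFst (yz f z) f) :=
  fpLift (s₁ f z) (s₂ f z) (Iso.refl _)

theorem zLift_comp_q_iso_hom (a : 𝒰.obj) :
    ((qFunctor f (yz f z)).obj ((zLift f z).obj a)).obj.iso.hom =
      (𝟙 _ ≫ (yz f z).map (𝟙 a) ≫ (z.obj a).obj.iso.hom) := rfl

/-- `z` factors through the lift -/
def zLiftIso : BasedFunctor.comp (zLift f z) (qFunctor f (yz f z)) ≅ z :=
  BasedNatIso.mkNatIso
    (NatIso.ofComponents
      (fun a => fpMkIso (x := (qFunctor f (yz f z)).obj ((zLift f z).obj a)) (z := z.obj a)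
        (Iso.refl _) (Iso.refl _) (by
          rw [zLift_comp_q_iso_hom]
          change f.map (𝟙 _) ≫ (z.obj a).obj.iso.hom =
            (𝟙 _ ≫ (yz f z).map (𝟙 a) ≫ (z.obj a).obj.iso.hom) ≫ f.map (𝟙 _)
          exact aux_a _ _ _ _ (f.toFunctor.map_id _) (f.toFunctor.map_id _)
            ((yz f z).toFunctor.map_id _)))
      (fun {a a'} k => by
        apply fp_hom_ext
        · change (z.map k).hom.fst ≫ 𝟙 _ = 𝟙 _ ≫ (z.map k).hom.fst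
          rw [Category.comp_id, Category.id_comp]
        · change (z.map k).hom.snd ≫ 𝟙 _ = 𝟙 _ ≫ (z.map k).hom.snd
          rw [Category.comp_id, Category.id_comp]))
    (fun a => by
      apply fpMkIso_lift
      exact IsHomLift.id (z.w_obj a))

/-- `𝒰 ×_{𝒳 ×_𝒴 𝒳} 𝒳 ⟶ 𝒰 ×_{𝒳' ×_𝒰 𝒳'} (…)`, first two steps -/
def K₁₂ : fp z (diag f) ⥤ᵇ fp (zLift f z) (fpFst (qFunctor f (yz f z)) (diag f)) :=
  BasedFunctor.comp (fpCongrLeft (diag f) (zLiftIso f z).symm)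
    (pasteLeft (zLift f z) (qFunctor f (yz f z)) (diag f))

theorem isEquivOver_K₁₂ : IsEquivOver (K₁₂ f z) :=
  isEquivOver_comp (isEquivOver_fpCongrLeft _ _) (isEquivOver_pasteLeft _ _ _)

theorem K₁₂_comp_fpFst : BasedFunctor.comp (K₁₂ f z) (fpFst _ _) = fpFst z (diag f) := rfl

/-- third step -/
def K₃ : fp (zLift f z) (diag (fpFst (yz f z) f)) ⥤ᵇ
    fp (zLift f z) (fpFst (qFunctor f (yz f z)) (diag f)) :=
  cospanFunctor (zLift f z) (fpFst (qFunctor f (yz f z)) (diag f)) (zLift f z)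
    (diag (fpFst (yz f z) f)) (BasedFunctor.id _) (diagBC f (yz f z)) (BasedFunctor.id _)
    (Iso.refl _) (Iso.refl _)

theorem isEquivOver_K₃ : IsEquivOver (K₃ f z) :=
  isEquivOver_cospanFunctor _ _ _ _ _ _ _ _ _ (isEquivOver_id _) (isEquivOver_diagBC _ _)
    (isEquivOver_id _)

theorem K₃_comp_fpFst : BasedFunctor.comp (K₃ f z) (fpFst _ _) = fpFst (zLift f z) _ := rfl

end Lift

section Square

variable {𝒳 : BasedCategory.{v₂, u₂} C} {𝒴 : BasedCategory.{v₃, u₃} C}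
  {𝒳' : BasedCategory.{v₄, u₄} C} {𝒴' : BasedCategory.{v₅, u₅} C}
  (f : 𝒳 ⥤ᵇ 𝒴) (f' : 𝒳' ⥤ᵇ 𝒴') (E₁ : 𝒳' ⥤ᵇ 𝒳) (E₃ : 𝒴' ⥤ᵇ 𝒴)
  (θ : BasedFunctor.comp f' E₃ ≅ BasedFunctor.comp E₁ f)

/-- the functor `𝒳' ×_{𝒴'} 𝒳' ⟶ 𝒳 ×_𝒴 𝒳` of a 2-commutative square -/
def prodFun : fp f' f' ⥤ᵇ fp f f := cospanFunctor f f f' f' E₁ E₁ E₃ θ θ

theorem isEquivOver_prodFun (h₁ : IsEquivOver E₁) (h₃ : IsEquivOver E₃) :
    IsEquivOver (prodFun f f' E₁ E₃ θ) :=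
  isEquivOver_cospanFunctor _ _ _ _ _ _ _ _ _ h₁ h₁ h₃

theorem prodFun_diag_iso_hom (x : 𝒳'.obj) :
    ((prodFun f f' E₁ E₃ θ).obj ((diag f').obj x)).obj.iso.hom =
      (appIso θ x).inv ≫ E₃.map (𝟙 (f'.obj x)) ≫ (appIso θ x).hom := rfl

/-- the diagonal square -/
def diagSq : BasedFunctor.comp (diag f') (prodFun f f' E₁ E₃ θ) ≅ BasedFunctor.comp E₁ (diag f) :=
  BasedNatIso.mkNatIso
    (NatIso.ofComponents
      (fun x => fpMkIso (x := (prodFun f f' E₁ E₃ θ).obj ((diag f').obj x))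
        (z := (diag f).obj (E₁.obj x)) (Iso.refl _) (Iso.refl _) (by
          rw [prodFun_diag_iso_hom]
          change f.map (𝟙 _) ≫ 𝟙 _ =
            ((appIso θ x).inv ≫ E₃.map (𝟙 (f'.obj x)) ≫ (appIso θ x).hom) ≫ f.map (𝟙 _)
          exact aux_b (appIso θ x) _ _ (f.toFunctor.map_id _) (E₃.toFunctor.map_id _)))
      (fun {x x'} g => by
        apply fp_hom_ext
        · change E₁.map g ≫ 𝟙 _ = 𝟙 _ ≫ E₁.map g
          rw [Category.comp_id, Category.id_comp]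
        · change E₁.map g ≫ 𝟙 _ = 𝟙 _ ≫ E₁.map g
          rw [Category.comp_id, Category.id_comp]))
    (fun x => by
      apply fpMkIso_lift
      exact IsHomLift.id (E₁.w_obj x))

end Square

end Groth.Agent.Helper6.DiagRed
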