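import Mathlib
import Groth.Prelude.Def_AlgSt2
import Groth.Prelude.Def_AlgSt3
import Groth.Agent.Helper6.DiagRed
import Groth.Agent.Helper6.AlgStRep
import Groth.Agent.Helper6.AlgStInv
import Groth.Agent.Helper6.AlgStPsh
import Groth.Agent.Helper6.AlgStEquiv
import Groth.Agent.Helper6.OfPshFp
import Groth.Agent.Helper4.AlgSpDiag
import Groth.Agent.Helper4.AlgSpLocP
import Groth.Agent.Helper4.SDClasses
import Groth.Agent.Helper5.AlgSpProper

/-!
# Helper6: the diagonal of a functor representable by algebraic spaces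
-/

set_option autoImplicit false
set_option linter.style.haveILetI false
set_option linter.unusedVariables false
universe w' v' w v u

namespace Groth.Agent.Helper6.DiagRep
open CategoryTheory Functor FibCat Limits AlgebraicGeometry Opposite
open Groth.Agent.Helper3 Stk Groth.Agent.Helper6.OfPsh Groth.Agent.Helper6.OfPshHom
open Groth.Agent.Helper6.FpTools Groth.Agent.Helper6.OfPshFp Groth.Agent.Helper6.AlgStRep
open Groth.Agent.Helper6.AlgStEquiv Groth.Agent.Helper6.AlgStInv Groth.Agent.Helper6.AlgStPsh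
open Groth.Agent.Helper6.DiagRed Groth.Agent.Helper6.RepDiag

section DS

variable {C : Type u} [Category.{v} C] {F G Pb : Cᵒᵖ ⥤ Type w} {a : F ⟶ G} {fst snd : Pb ⟶ F}
  (hw : fst ≫ a = snd ≫ a) (δ : F ⟶ Pb) (h₁ : δ ≫ fst = 𝟙 F) (h₂ : δ ≫ snd = 𝟙 F)

/-- equal sections give isomorphic objects -/
def eltIso {P : Cᵒᵖ ⥤ Type w} {T : C} {s s' : P.obj (op T)} (h : s = s') :
    (⟨T, s⟩ : EltObj P) ≅ ⟨T, s'⟩ where
  hom := ⟨𝟙 T, by subst h; simp⟩
  inv := ⟨𝟙 T, by subst h; simp⟩
  hom_inv_id := EltObj.hom_ext (Category.id_comp _)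
  inv_hom_id := EltObj.hom_ext (Category.id_comp _)

include h₁ in
theorem sec_fst (x : (ofPsh F).obj) : fst.app _ (δ.app _ x.sec) = x.sec := by
  have := congrArg (fun t : F ⟶ F => t.app (op x.base) x.sec) h₁
  simpa using this

include h₂ in
theorem sec_snd (x : (ofPsh F).obj) : snd.app _ (δ.app _ x.sec) = x.sec := by
  have := congrArg (fun t : F ⟶ F => t.app (op x.base) x.sec) h₂
  simpa using this

theorem toFp_iso_hom_hom (x : (ofPsh F).obj) :
    (((toFp hw).obj ((ofPshMap δ).obj x)).obj.iso.hom).hom = 𝟙 x.base :=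
  hom_eq_of_isHomLift (P := G) ((toFp hw).obj ((ofPshMap δ).obj x)).obj.iso.hom (𝟙 x.base)
    (show (EltObj.forget G).IsHomLift (𝟙 x.base) ((toFp hw).obj ((ofPshMap δ).obj x)).obj.iso.hom from
      ((toFp hw).obj ((ofPshMap δ).obj x)).property)

/-- the diagonal of `ofPshMap a` is the functor of the diagonal of `a` -/
def diagIso : BasedFunctor.comp (ofPshMap δ) (toFp hw) ≅
    BasedFunctor.comp (BasedFunctor.id _) (diag (ofPshMap a)) :=
  BasedNatIso.mkNatIso
    (NatIso.ofComponents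
      (fun x => fpMkIso (x := (toFp hw).obj ((ofPshMap δ).obj x)) (z := (diag (ofPshMap a)).obj x)
        (eltIso (sec_fst δ h₁ x)) (eltIso (sec_snd δ h₂ x)) (by
          apply EltObj.hom_ext
          change 𝟙 x.base ≫ 𝟙 x.base =
            (((toFp hw).obj ((ofPshMap δ).obj x)).obj.iso.hom).hom ≫ 𝟙 x.base
          rw [toFp_iso_hom_hom]
          rfl))
      (fun {x x'} k => by
        apply fp_hom_ext
        · apply EltObj.hom_ext
          change k.hom ≫ 𝟙 _ = 𝟙 _ ≫ k.hom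
          rw [Category.comp_id, Category.id_comp]
        · apply EltObj.hom_ext
          change k.hom ≫ 𝟙 _ = 𝟙 _ ≫ k.hom
          rw [Category.comp_id, Category.id_comp]))
    (fun x => by
      apply fpMkIso_lift
      exact IsHomLift.of_fac (EltObj.forget F) (𝟙 x.base) _ rfl rfl (by
        change 𝟙 x.base = eqToHom rfl ≫ 𝟙 x.base ≫ eqToHom rfl
        simp))

end DS

variable {S : Scheme.{u}}

section Red

variable {𝒳 : BasedCategory.{v, w} (Over S)} {𝒴 : BasedCategory.{v', w'} (Over S)}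

/-- the diagonal of `f` has `P` as soon as the diagonals of all base changes of `f` to schemes have -/
theorem diagRed (P : MorphismProperty (AlgSp.Sp S)) (f : 𝒳 ⥤ᵇ 𝒴)
    (h : ∀ (T : Over S) (y : overCat T ⥤ᵇ 𝒴), AlgSt.RepByAlgSpWith P (diag (fpFst y f))) :
    AlgSt.RepByAlgSpWith P (diag f) := by
  intro U z
  have h1 := h U (yz f z) U (zLift f z)
  have h2 := rep_transfer P (K₃ f z) (isEquivOver_K₃ f z)
    (fpFst (zLift f z) (fpFst (qFunctor f (yz f z)) (diag f)))
    (fpFst (zLift f z) (diag (fpFst (yz f z) f))) (Iso.refl _) h1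
  exact rep_transfer' P (K₁₂ f z) (isEquivOver_K₁₂ f z) (fpFst _ _) (fpFst z (diag f)) (Iso.refl _) h2

end Red

theorem exists_ofSpMap_iso {F : AlgSp.Sp S} {U : Over S} (Φ : AlgSt.ofSp F ⥤ᵇ overCat U) :
    ∃ a : F ⟶ (AlgSp.yon S).obj U,
      Nonempty (Φ ≅ BasedFunctor.comp (AlgSt.ofSpMap a) (AlgSt.toOverCat U)) := by
  let G : AlgSt.ofSp F ⥤ᵇ AlgSt.ofSch U := BasedFunctor.comp Φ (AlgSt.ofOverCat U)
  refine ⟨ObjectProperty.homMk (homOf G), ⟨?_⟩⟩
  exact whiskerRightIso' (isoHomOf G) (AlgSt.toOverCat U)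

/-- the master lemma: the diagonal of a functor representable by algebraic spaces has every property
that the base changes of diagonals of morphisms from algebraic spaces to schemes have -/
theorem master (Q : MorphismProperty (AlgSp.Sp S)) {𝒳 𝒴 : AlgSt.Cat S} (f : 𝒳 ⥤ᵇ 𝒴)
    (hf : AlgSt.RepByAlgSp1 f)
    (hQ : ∀ (F : AlgSp.Sp S), AlgSp.IsAlgSpace F → ∀ (U : Over S) (a : F ⟶ (AlgSp.yon S).obj U),
      AlgSp.RepBySpWith Q (pullback.diagonal a).hom) :
    AlgSt.RepByAlgSpWith Q (diag f) := by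
  apply diagRed
  intro T y
  obtain ⟨F, e, he⟩ := hf T y
  obtain ⟨a, ⟨θ⟩⟩ := exists_ofSpMap_iso (BasedFunctor.comp e (fpFst y f))
  have hsq : IsPullback (pullback.fst a a).hom (pullback.snd a a).hom a.hom a.hom :=
    (IsPullback.of_hasPullback a a).map (sheafToPresheaf _ _)
  have h₁ : (pullback.diagonal a).hom ≫ (pullback.fst a a).hom = 𝟙 F.obj.obj :=
    congrArg (fun t => t.hom) (pullback.diagonal_fst a)
  have h₂ : (pullback.diagonal a).hom ≫ (pullback.snd a a).hom = 𝟙 F.obj.obj :=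
    congrArg (fun t => t.hom) (pullback.diagonal_snd a)
  have h1 : AlgSt.RepByAlgSpWith Q (AlgSt.ofSpMap (pullback.diagonal a)) :=
    repByAlgSpWith_of_repBySpWith _ Q (hQ F.obj F.property T a)
  have h2 : AlgSt.RepByAlgSpWith Q (diag (AlgSt.ofSpMap a)) :=
    repByAlgSpWith_of_square' Q (diag (AlgSt.ofSpMap a)) (AlgSt.ofSpMap (pullback.diagonal a))
      (BasedFunctor.id _) (toFp hsq.w) (isEquivOver_id _) (isEquivOver_toFp hsq)
      (diagIso hsq.w (pullback.diagonal a).hom h₁ h₂) h1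
  exact (repByAlgSpWith_iff_of_square Q (diag (fpFst y f)) (diag (AlgSt.ofSpMap a)) e
    (prodFun (fpFst y f) (AlgSt.ofSpMap a) e (AlgSt.toOverCat T) θ.symm) he
    (isEquivOver_prodFun _ _ _ _ _ he (isEquivOver_toOverCat T)) (diagSq _ _ _ _ _)).2 h2

end Groth.Agent.Helper6.DiagRep
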