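import Mathlib
import Groth.Agent.Helper6.DiagRep

/-!
# Helper6: properties of the diagonal of a functor representable by algebraic spaces
-/

set_option autoImplicit false
set_option linter.style.haveILetI false
set_option linter.unusedVariables false
universe w' v' w v u

namespace Groth.Agent.Helper6.DiagRep
open CategoryTheory Functor FibCat Limits AlgebraicGeometry Opposite
open Groth.Agent.Helper3 Stk Groth.Agent.Helper6.OfPsh Groth.Agent.Helper6.OfPshHom
open Groth.Agent.Helper6.FpTools Groth.Agent.Helper6.OfPshFp Groth.Agent.Helper6.AlgStRep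
open Groth.Agent.Helper6.AlgStEquiv Groth.Agent.Helper6.AlgStInv Groth.Agent.Helper6.AlgStPsh
open Groth.Agent.Helper6.DiagRed Groth.Agent.Helper6.RepDiag
open AlgSp Groth.Agent.Helper4.SDClasses

variable {S : Scheme.{u}}

theorem fu_of_mono {X Y : Scheme.{u}} (g : X ⟶ Y) [Mono g] : FormallyUnramified g := by
  haveI : IsIso (pullback.diagonal g) := (pullback.isIso_diagonal_iff g).2 inferInstance
  infer_instance

theorem repWith_closedImmersion_of_isIso {X Y : Sp S} (f : X ⟶ Y) [IsIso f] :
    RepWith @IsClosedImmersion f := by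
  refine ⟨Functor.relativelyRepresentable.of_isIso (yon S) f, ?_⟩
  intro T E ξ c e sq
  have h1 : IsIso ((yon S).map e) := sq.isIso_snd_of_isIso
  have h2 : IsIso e := isIso_of_fully_faithful (yon S) e
  have h3 : IsIso e.left := (Over.forget S).map_isIso e
  show IsClosedImmersion e.left
  infer_instance

theorem repBySpWith_of_representable (Q : MorphismProperty (Sp S)) {X Y : Sp S} (b : X ⟶ Y)
    (hb : Representable b)
    (hQ : ∀ ⦃V : Over S⦄ (ξ : (yon S).obj V ⟶ Y) ⦃F' : Sp S⦄ (fst : F' ⟶ X)
      (snd : F' ⟶ (yon S).obj V), IsPullback fst snd b ξ → Q snd) :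
    RepBySpWith Q b.hom := by
  rw [repBySpWith_hom_iff]
  intro U ξ F' fst snd sq
  refine ⟨?_, hQ ξ fst snd sq⟩
  obtain ⟨V, snd', fst', sq'⟩ := hb ξ
  exact (IsAlgSpace.yon_obj V).of_iso (sq'.isoIsPullback _ _ sq)

/-- the source is a scheme -/
def RepSrc : MorphismProperty (Sp S) := fun A _ _ => ∃ W : Over S, Nonempty (A ≅ (yon S).obj W)

section Q

variable {F : Sp S} (hF : IsAlgSpace F) {U : Over S} (a : F ⟶ (yon S).obj U)

include hF in
theorem rep_diag : Representable (pullback.diagonal a) :=
  (Groth.Agent.Helper4.AlgSpDiag.diagonal_properties hF a).1.rep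

include hF in
theorem hQ_rep : RepBySpWith RepSrc (pullback.diagonal a).hom :=
  repBySpWith_of_representable _ _ (rep_diag hF a) (fun V ξ F' fst snd sq => by
    obtain ⟨W, snd', fst', sq'⟩ := (rep_diag hF a) ξ
    exact ⟨W, ⟨sq.isoIsPullback _ _ sq'⟩⟩)

include hF in
theorem hQ_mono : RepBySpWith (MorphismProperty.monomorphisms (Sp S)) (pullback.diagonal a).hom :=
  repBySpWith_of_representable _ _ (rep_diag hF a) (fun V ξ F' fst snd sq => by
    haveI : Mono (pullback.diagonal a) := inferInstance
    show Mono snd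
    exact sq.mono_snd_of_mono)

include hF in
theorem hQ_sep : RepBySpWith IsSeparatedMor (pullback.diagonal a).hom :=
  repBySpWith_of_representable _ _ (rep_diag hF a) (fun V ξ F' fst snd sq => by
    have hδ : IsSeparatedMor (pullback.diagonal a) := by
      haveI : IsIso (pullback.diagonal (pullback.diagonal a)) :=
        (pullback.isIso_diagonal_iff _).2 inferInstance
      exact repWith_closedImmersion_of_isIso _
    exact Groth.Agent.Helper5.AlgSpProper.isSeparatedMor_of_isPullback sq hδ)

include hF in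
theorem hQ_dm : RepBySpWith (LocP (@LocallyOfFiniteType ⊓ @FormallyUnramified))
    (pullback.diagonal a).hom :=
  repBySpWith_of_representable _ _ (rep_diag hF a) (fun V ξ F' fst snd sq => by
    obtain ⟨h1, h2, -, -⟩ := Groth.Agent.Helper4.AlgSpDiag.diagonal_properties hF a
    have i1 := repWith_isStableUnderBaseChange (S := S) @LocallyOfFiniteType
    have i2 := repWith_isStableUnderBaseChange (S := S) (MorphismProperty.monomorphisms Scheme.{u})
    have k1 : RepWith @LocallyOfFiniteType snd := MorphismProperty.of_isPullback sq h1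
    have k2 : RepWith (MorphismProperty.monomorphisms Scheme.{u}) snd :=
      MorphismProperty.of_isPullback sq h2
    have := good_unram.{u}.comp
    refine Groth.Agent.Helper4.AlgSpLocP.locP_of_repWith
      (@LocallyOfFiniteType ⊓ @FormallyUnramified : MorphismProperty Scheme.{u})
      (@LocallyOfFiniteType ⊓ MorphismProperty.monomorphisms Scheme.{u}) ?_
      (fun g hg => good_unram.etale_le g hg) snd
      ⟨k1.rep, fun U' V' g' fst' snd' sq' => ⟨k1.2 g' fst' snd' sq', k2.2 g' fst' snd' sq'⟩⟩
    intro A B g hg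
    have : Mono g := hg.2
    exact ⟨hg.1, fu_of_mono g⟩)

end Q

theorem isRepresentable1_of_repSrc {𝒳 𝒴 : AlgSt.Cat S} (g : 𝒳 ⥤ᵇ 𝒴)
    (h : AlgSt.RepByAlgSpWith RepSrc g) : IsRepresentable1 g := by
  intro U y
  obtain ⟨F, e, he, W, ⟨i⟩⟩ := h U y
  obtain ⟨e', he', -, -⟩ := EquivOver.symm he
  exact ⟨W, BasedFunctor.comp e' (BasedFunctor.comp (AlgSt.ofSpMap i.hom) (AlgSt.toOverCat W)),
    isEquivOver_comp he' (isEquivOver_comp
      (isEquivOver_ofPshMap_iso ((sheafToPresheaf _ _).mapIso i)) (isEquivOver_toOverCat W))⟩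

variable {𝒳 𝒴 : AlgSt.Cat S} (f : 𝒳 ⥤ᵇ 𝒴) (hf : AlgSt.RepByAlgSp1 f)

include hf in
theorem isRepresentable1_diag : IsRepresentable1 (diag f) :=
  isRepresentable1_of_repSrc _ (master RepSrc f hf (fun F hF U a => hQ_rep hF a))

include hf in
theorem isMono_diag : AlgSt.IsMono (diag f) :=
  master _ f hf (fun F hF U a => hQ_mono hF a)

include hf in
theorem isSeparated_diag : AlgSt.RepByAlgSpWith AlgSp.IsSeparatedMor (diag f) :=
  master _ f hf (fun F hF U a => hQ_sep hF a)

include hf in
theorem isDMMor : AlgSt.IsDMMor f :=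
  master _ f hf (fun F hF U a => hQ_dm hF a)

end Groth.Agent.Helper6.DiagRep
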