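import Mathlib
import Groth.Agent.Helper6.DiagRep2
import Groth.Agent.Helper6.AlgStDiag
import Groth.Agent.Helper6.RepComp
import Groth.Agent.Helper4.AlgSpQC
import Groth.Agent.Helper4.AlgSpUC
import Groth.Agent.Helper4.AlgSpPtsDesc
import Groth.Agent.Helper5.AlgSpFin

/-!
# Helper6: separatedness conditions for a functor representable by algebraic spaces, through its diagonal
-/

set_option autoImplicit false
set_option linter.style.haveILetI false
set_option linter.unusedVariables false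
universe w' v' w v u

namespace Groth.Agent.Helper6.DiagRep
open CategoryTheory Functor FibCat Limits AlgebraicGeometry Opposite
open Groth.Agent.Helper3 Stk Groth.Agent.Helper6.OfPsh Groth.Agent.Helper6.OfPshHom
open Groth.Agent.Helper6.FpTools Groth.Agent.Helper6.OfPshFp Groth.Agent.Helper6.AlgStRep
open Groth.Agent.Helper6.AlgStEquiv Groth.Agent.Helper6.AlgStInv Groth.Agent.Helper6.AlgStPsh
open Groth.Agent.Helper6.DiagRed Groth.Agent.Helper6.RepDiag Groth.Agent.Helper6.RepComp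
open AlgSp Groth.Agent.Helper4.SDClasses

variable {S : Scheme.{u}}

section Iso

theorem respectsIso_of_bc (Q : MorphismProperty (Sp S))
    (hbc : ∀ ⦃X Y X' Y' : Sp S⦄ ⦃f : X ⟶ Y⦄ ⦃g : Y' ⟶ Y⦄ ⦃fst : X' ⟶ X⦄ ⦃f' : X' ⟶ Y'⦄,
      IsPullback fst f' f g → Q f → Q f') : Q.RespectsIso := by
  haveI : Q.IsStableUnderBaseChange := ⟨fun sq hg => hbc sq hg⟩
  exact MorphismProperty.IsStableUnderBaseChange.respectsIso

instance respectsIso_isSeparatedMor : (IsSeparatedMor (S := S)).RespectsIso :=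
  respectsIso_of_bc _ (fun _ _ _ _ _ _ _ _ sq h =>
    Groth.Agent.Helper5.AlgSpProper.isSeparatedMor_of_isPullback sq h)

instance respectsIso_isQuasiSeparatedMor : (IsQuasiSeparatedMor (S := S)).RespectsIso :=
  respectsIso_of_bc _ (fun _ _ _ _ f _ _ _ sq h => by
    have i1 := repWith_isStableUnderBaseChange (S := S) @QuasiCompact
    have h' : (RepWith (S := S) @QuasiCompact).diagonal f := h
    exact MorphismProperty.of_isPullback (P := (RepWith (S := S) @QuasiCompact).diagonal) sq h')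

instance respectsIso_isQuasiCompactMor : (IsQuasiCompactMor (S := S)).RespectsIso :=
  respectsIso_of_bc _ (fun _ _ _ _ _ _ _ _ sq h =>
    Groth.Agent.Helper4.AlgSpQC.isQuasiCompactMor_of_isPullback sq h)

instance respectsIso_isUnivClosedMor : (IsUnivClosedMor (S := S)).RespectsIso :=
  respectsIso_of_bc _ (fun _ _ _ _ _ _ _ _ sq h =>
    Groth.Agent.Helper4.AlgSpUC.univSp_of_isPullback _ sq h)

end Iso

section General

variable {𝒳 : BasedCategory.{v, w} (Over S)} {𝒴 : BasedCategory.{v', w'} (Over S)}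

theorem rep_mono' {P P' : MorphismProperty (Sp S)} (hPP' : ∀ ⦃X Y : Sp S⦄ (g : X ⟶ Y), P g → P' g)
    (g : 𝒳 ⥤ᵇ 𝒴) (h : AlgSt.RepByAlgSpWith P g) : AlgSt.RepByAlgSpWith P' g := by
  intro U y
  obtain ⟨F, e, he, hP⟩ := h U y
  exact ⟨F, e, he, hPP' _ hP⟩

/-- independence of the representing space -/
theorem P_of_chart (P : MorphismProperty (Sp S)) [P.RespectsIso] {T : Over S}
    {𝒲 : BasedCategory.{v, w} (Over S)} (p : 𝒲 ⥤ᵇ overCat T) {F F₀ : Sp S}
    (e : AlgSt.ofSp F ⥤ᵇ 𝒲) (he : IsEquivOver e) (e₀ : AlgSt.ofSp F₀ ⥤ᵇ 𝒲) (he₀ : IsEquivOver e₀)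
    (h : P (AlgSt.spMapOfOver (BasedFunctor.comp e₀ p))) :
    P (AlgSt.spMapOfOver (BasedFunctor.comp e p)) := by
  obtain ⟨K, hK, -, ⟨ε⟩⟩ := EquivOver.symm he₀
  have hG : IsEquivOver (BasedFunctor.comp e K) := isEquivOver_comp he hK
  let i : F.obj ≅ F₀.obj := isoOfIsEquivOver (BasedFunctor.comp e K) hG
  let i' : F ≅ F₀ :=
    (fullyFaithfulSheafToPresheaf (AlgSp.J S) _).preimageIso (X := F) (Y := F₀) i
  have j1 : BasedFunctor.comp e p ≅
      BasedFunctor.comp (BasedFunctor.comp e K) (BasedFunctor.comp e₀ p) :=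
    whiskerLeftIso' e (whiskerRightIso' ε.symm p)
  have j2 : BasedFunctor.comp (BasedFunctor.comp e K) (BasedFunctor.comp e₀ p) ≅
      BasedFunctor.comp (AlgSt.ofSpMap i'.hom) (BasedFunctor.comp e₀ p) :=
    whiskerRightIso' (isoHomOf (BasedFunctor.comp e K)) (BasedFunctor.comp e₀ p)
  rw [spMapOfOver_congr (j1 ≪≫ j2), spMapOfOver_ofSpMap_comp]
  exact (P.cancel_left_of_respectsIso i'.hom _).2 h

end General

variable {𝒳 𝒴 : AlgSt.Cat S} (f : 𝒳 ⥤ᵇ 𝒴)

theorem chart_of_rep (P : MorphismProperty (Sp S)) [P.RespectsIso] (h : AlgSt.RepByAlgSpWith P f)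
    (T : Over S) (y : overCat T ⥤ᵇ 𝒴) (F : Sp S) (e : AlgSt.ofSp F ⥤ᵇ fp y f) (he : IsEquivOver e)
    (a : F ⟶ (yon S).obj T)
    (θ : BasedFunctor.comp e (fpFst y f) ≅ BasedFunctor.comp (AlgSt.ofSpMap a) (AlgSt.toOverCat T)) :
    P a := by
  obtain ⟨F₀, e₀, he₀, hP⟩ := h T y
  have h1 := P_of_chart P (fpFst y f) e he e₀ he₀ hP
  rw [spMapOfOver_congr θ, spMapOfOver_ofSpMap_toOverCat] at h1
  exact h1

theorem rep_of_charts (P : MorphismProperty (Sp S)) (hf : AlgSt.RepByAlgSp1 f)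
    (h : ∀ (T : Over S) (y : overCat T ⥤ᵇ 𝒴) (F : AlgSp.Space S) (e : AlgSt.ofSp F.obj ⥤ᵇ fp y f),
      IsEquivOver e → ∀ (a : F.obj ⟶ (yon S).obj T),
      (BasedFunctor.comp e (fpFst y f) ≅ BasedFunctor.comp (AlgSt.ofSpMap a) (AlgSt.toOverCat T)) →
      P a) : AlgSt.RepByAlgSpWith P f := by
  intro T y
  obtain ⟨F, e, he⟩ := hf T y
  obtain ⟨a, ⟨θ⟩⟩ := exists_ofSpMap_iso (BasedFunctor.comp e (fpFst y f))
  refine ⟨F, e, he, ?_⟩
  rw [spMapOfOver_congr θ, spMapOfOver_ofSpMap_toOverCat]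
  exact h T y F e he a θ

/-- the master lemma, with the hypothesis restricted to the charts of `f` -/
theorem master' (Q : MorphismProperty (Sp S)) (hf : AlgSt.RepByAlgSp1 f)
    (hQ : ∀ (T : Over S) (y : overCat T ⥤ᵇ 𝒴) (F : AlgSp.Space S) (e : AlgSt.ofSp F.obj ⥤ᵇ fp y f),
      IsEquivOver e → ∀ (a : F.obj ⟶ (yon S).obj T),
      (BasedFunctor.comp e (fpFst y f) ≅ BasedFunctor.comp (AlgSt.ofSpMap a) (AlgSt.toOverCat T)) →
      RepBySpWith Q (pullback.diagonal a).hom) :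
    AlgSt.RepByAlgSpWith Q (diag f) := by
  apply diagRed
  intro T y
  obtain ⟨F, e, he⟩ := hf T y
  obtain ⟨a, ⟨θ⟩⟩ := exists_ofSpMap_iso (BasedFunctor.comp e (fpFst y f))
  have hsq : IsPullback (pullback.fst a a).hom (pullback.snd a a).hom a.hom a.hom :=
    (IsPullback.of_hasPullback a a).map (sheafToPresheaf _ _)
  have h₁ : (pullback.diagonal a).hom ≫ (pullback.fst a a).hom = 𝟙 F.obj.obj :=
    congrArg (fun t => t.hom) (pullback.diagonal_fst a)
  have h₂ : (pullback.diagonal a).hom ≫ (pullback.snd a a).hom = 𝟙 F.obj.obj :=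
    congrArg (fun t => t.hom) (pullback.diagonal_snd a)
  have h1 : AlgSt.RepByAlgSpWith Q (AlgSt.ofSpMap (pullback.diagonal a)) :=
    repByAlgSpWith_of_repBySpWith _ Q (hQ T y F e he a θ)
  have h2 : AlgSt.RepByAlgSpWith Q (diag (AlgSt.ofSpMap a)) :=
    repByAlgSpWith_of_square' Q (diag (AlgSt.ofSpMap a)) (AlgSt.ofSpMap (pullback.diagonal a))
      (BasedFunctor.id _) (toFp hsq.w) (isEquivOver_id _) (isEquivOver_toFp hsq)
      (diagIso hsq.w (pullback.diagonal a).hom h₁ h₂) h1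
  exact (repByAlgSpWith_iff_of_square Q (diag (fpFst y f)) (diag (AlgSt.ofSpMap a)) e
    (prodFun (fpFst y f) (AlgSt.ofSpMap a) e (AlgSt.toOverCat T) θ.symm) he
    (isEquivOver_prodFun _ _ _ _ _ he (isEquivOver_toOverCat T)) (diagSq _ _ _ _ _)).2 h2

/-- the converse of the master lemma -/
theorem master_conv (Q : MorphismProperty (Sp S)) [Q.RespectsIso]
    (h : AlgSt.RepByAlgSpWith Q (diag f)) {T : Over S} (y : overCat T ⥤ᵇ 𝒴) {F : Sp S}
    (hF : IsAlgSpace F) (e : AlgSt.ofSp F ⥤ᵇ fp y f) (he : IsEquivOver e) (a : F ⟶ (yon S).obj T)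
    (θ : BasedFunctor.comp e (fpFst y f) ≅ BasedFunctor.comp (AlgSt.ofSpMap a) (AlgSt.toOverCat T)) :
    RepBySpWith Q (pullback.diagonal a).hom := by
  have h0 : AlgSt.RepByAlgSpWith Q (diag (fpFst y f)) :=
    Groth.Agent.Helper6.AlgStDiag.repByAlgSpWith_diag_fpFst Q f y h
  have hsq : IsPullback (pullback.fst a a).hom (pullback.snd a a).hom a.hom a.hom :=
    (IsPullback.of_hasPullback a a).map (sheafToPresheaf _ _)
  have h₁ : (pullback.diagonal a).hom ≫ (pullback.fst a a).hom = 𝟙 F.obj :=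
    congrArg (fun t => t.hom) (pullback.diagonal_fst a)
  have h₂ : (pullback.diagonal a).hom ≫ (pullback.snd a a).hom = 𝟙 F.obj :=
    congrArg (fun t => t.hom) (pullback.diagonal_snd a)
  have h2 : AlgSt.RepByAlgSpWith Q (diag (AlgSt.ofSpMap a)) :=
    (repByAlgSpWith_iff_of_square Q (diag (fpFst y f)) (diag (AlgSt.ofSpMap a)) e
      (prodFun (fpFst y f) (AlgSt.ofSpMap a) e (AlgSt.toOverCat T) θ.symm) he
      (isEquivOver_prodFun _ _ _ _ _ he (isEquivOver_toOverCat T)) (diagSq _ _ _ _ _)).1 h0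
  have h1 : AlgSt.RepByAlgSpWith Q (AlgSt.ofSpMap (pullback.diagonal a)) :=
    repByAlgSpWith_of_square Q (diag (AlgSt.ofSpMap a)) (AlgSt.ofSpMap (pullback.diagonal a))
      (BasedFunctor.id _) (toFp hsq.w) (isEquivOver_id _) (isEquivOver_toFp hsq)
      (diagIso hsq.w (pullback.diagonal a).hom h₁ h₂) h2
  exact repBySpWith_of_repByAlgSpWith _ Q (Representable.repBySp (rep_diag hF a)) h1

end Groth.Agent.Helper6.DiagRep
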