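import Mathlib
import Groth.Agent.Helper6.DiagRep3

/-!
# Helper6: (quasi-)separatedness of a functor representable by algebraic spaces, through its diagonal
-/

set_option autoImplicit false
set_option linter.style.haveILetI false
set_option linter.unusedVariables false
universe w' v' w v u

namespace Groth.Agent.Helper6.DiagRep
open CategoryTheory Functor FibCat Limits AlgebraicGeometry Opposite
open Groth.Agent.Helper3 Stk Groth.Agent.Helper6.OfPsh Groth.Agent.Helper6.OfPshHom
open Groth.Agent.Helper6.FpTools Groth.Agent.Helper6.OfPshFp Groth.Agent.Helper6.AlgStRep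
open Groth.Agent.Helper6.AlgStEquiv Groth.Agent.Helper6.AlgStInv Groth.Agent.Helper6.AlgStPsh
open Groth.Agent.Helper6.DiagRed Groth.Agent.Helper6.RepDiag Groth.Agent.Helper6.RepComp
open AlgSp Groth.Agent.Helper4.SDClasses

variable {S : Scheme.{u}}

theorem repWith_quasiCompact_of_isIso {X Y : Sp S} (f : X ⟶ Y) [IsIso f] :
    RepWith @QuasiCompact f := by
  refine ⟨Functor.relativelyRepresentable.of_isIso (yon S) f, ?_⟩
  intro T E ξ c e sq
  have h1 : IsIso ((yon S).map e) := sq.isIso_snd_of_isIso
  have h2 : IsIso e := isIso_of_fully_faithful (yon S) e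
  have h3 : IsIso e.left := (Over.forget S).map_isIso e
  show QuasiCompact e.left
  infer_instance

section Q

variable {F : Sp S} (hF : IsAlgSpace F) {U : Over S} (a : F ⟶ (yon S).obj U)

include hF in
theorem hQ_ft (h : RepWith @QuasiCompact (pullback.diagonal a)) :
    RepBySpWith IsFiniteTypeMor (pullback.diagonal a).hom :=
  repBySpWith_of_representable _ _ (rep_diag hF a) (fun V ξ F' fst snd sq => by
    obtain ⟨h1, -, -, -⟩ := Groth.Agent.Helper4.AlgSpDiag.diagonal_properties hF a
    have i1 := repWith_isStableUnderBaseChange (S := S) @LocallyOfFiniteType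
    have k1 : RepWith @LocallyOfFiniteType snd := MorphismProperty.of_isPullback sq h1
    have hqc : IsQuasiCompactMor (pullback.diagonal a) :=
      Groth.Agent.Helper4.AlgSpQC.isQuasiCompactMor_of_repWith _ h
    refine ⟨?_, Groth.Agent.Helper4.AlgSpQC.isQuasiCompactMor_of_isPullback sq hqc⟩
    have := good_lft.{u}.comp
    exact Groth.Agent.Helper4.AlgSpLocP.locP_of_repWith @LocallyOfFiniteType @LocallyOfFiniteType
      (fun g hg => hg) (fun g hg => good_lft.etale_le g hg) snd k1)

include hF in
theorem hQ_qcqs (h : RepWith @QuasiCompact (pullback.diagonal a)) :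
    RepBySpWith (IsQuasiCompactMor ⊓ IsQuasiSeparatedMor) (pullback.diagonal a).hom :=
  repBySpWith_of_representable _ _ (rep_diag hF a) (fun V ξ F' fst snd sq => by
    have hqc : IsQuasiCompactMor (pullback.diagonal a) :=
      Groth.Agent.Helper4.AlgSpQC.isQuasiCompactMor_of_repWith _ h
    refine ⟨Groth.Agent.Helper4.AlgSpQC.isQuasiCompactMor_of_isPullback sq hqc, ?_⟩
    haveI : Mono (pullback.diagonal a) := inferInstance
    haveI : Mono snd := sq.mono_snd_of_mono
    haveI : IsIso (pullback.diagonal snd) := (pullback.isIso_diagonal_iff _).2 inferInstance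
    exact repWith_quasiCompact_of_isIso _)

include hF in
theorem repWith_qc_of (h : RepBySpWith IsQuasiCompactMor (pullback.diagonal a).hom) :
    RepWith @QuasiCompact (pullback.diagonal a) := by
  refine ⟨rep_diag hF a, ?_⟩
  intro V W g fst snd sq
  have h1 := ((repBySpWith_hom_iff _ _).1 h g fst ((yon S).map snd) sq).2
  have h2 := Groth.Agent.Helper4.AlgSpQC.repWith_of_isQuasiCompactMor _ (representable_yon_map snd) h1
  exact (repWith_yon_map_iff @QuasiCompact snd).1 h2

include hF in
theorem hQ_ci (h : RepWith @IsClosedImmersion (pullback.diagonal a)) :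
    RepBySpWith (RepWith @IsClosedImmersion) (pullback.diagonal a).hom :=
  repBySpWith_of_representable _ _ (rep_diag hF a) (fun V ξ F' fst snd sq => by
    have i1 := repWith_isStableUnderBaseChange (S := S) @IsClosedImmersion
    exact MorphismProperty.of_isPullback sq h)

include hF in
theorem sep_of_uc (h : RepBySpWith IsUnivClosedMor (pullback.diagonal a).hom) : IsSeparatedMor a := by
  apply Groth.Agent.Helper5.AlgSpProper.isSeparatedMor_of_diagonal_univClosed hF a
  apply Groth.Agent.Helper4.AlgSpPtsDesc.isUnivClosedMor_of_repWith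
  refine ⟨rep_diag hF a, ?_⟩
  intro V W g fst snd sq
  have h1 := ((repBySpWith_hom_iff _ _).1 h g fst ((yon S).map snd) sq).2
  exact Groth.Agent.Helper5.AlgSpFin.universallyClosed_of_isUnivClosedMor_yon_map snd h1

end Q

variable {𝒳 𝒴 : AlgSt.Cat S} (f : 𝒳 ⥤ᵇ 𝒴) (hf : AlgSt.RepByAlgSp1 f)

include hf in
theorem qs_1_3 (h : AlgSt.RepByAlgSpWith AlgSp.IsQuasiSeparatedMor f) :
    AlgSt.RepByAlgSpWith AlgSp.IsFiniteTypeMor (diag f) :=
  master' f _ hf (fun T y F e he a θ =>
    hQ_ft F.property a (chart_of_rep f IsQuasiSeparatedMor h T y F.obj e he a θ))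

include hf in
theorem qs_2_1 (h : AlgSt.RepByAlgSpWith AlgSp.IsQuasiCompactMor (diag f)) :
    AlgSt.RepByAlgSpWith AlgSp.IsQuasiSeparatedMor f :=
  rep_of_charts f _ hf (fun T y F e he a θ =>
    repWith_qc_of F.property a (master_conv f IsQuasiCompactMor h y F.property e he a θ))

include hf in
theorem tfae_qs : [AlgSt.RepByAlgSpWith AlgSp.IsQuasiSeparatedMor f,
    AlgSt.RepByAlgSpWith AlgSp.IsQuasiCompactMor (diag f),
    AlgSt.RepByAlgSpWith AlgSp.IsFiniteTypeMor (diag f)].TFAE := by
  tfae_have 1 → 3 := qs_1_3 f hf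
  tfae_have 3 → 2 := rep_mono' (fun _ _ g hg => hg.2) _
  tfae_have 2 → 1 := qs_2_1 f hf
  tfae_finish

include hf in
theorem qs_iff : AlgSt.IsQuasiSeparatedMor f ↔ AlgSt.RepByAlgSpWith AlgSp.IsQuasiSeparatedMor f := by
  constructor
  · intro h
    exact qs_2_1 f hf (rep_mono' (fun _ _ g hg => hg.1) _ h)
  · intro h
    exact master' f _ hf (fun T y F e he a θ =>
      hQ_qcqs F.property a (chart_of_rep f IsQuasiSeparatedMor h T y F.obj e he a θ))

include hf in
theorem tfae_sep : [AlgSt.RepByAlgSpWith AlgSp.IsSeparatedMor f, AlgSt.IsClosedImm (diag f),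
    AlgSt.IsSeparatedMor f, AlgSt.RepByAlgSpWith AlgSp.IsUnivClosedMor (diag f)].TFAE := by
  tfae_have 1 → 2 := fun h => master' f _ hf (fun T y F e he a θ =>
    hQ_ci F.property a (chart_of_rep f IsSeparatedMor h T y F.obj e he a θ))
  tfae_have 2 → 3 := rep_mono'
    (fun _ _ g hg => Groth.Agent.Helper5.AlgSpProper.isProperMor_of_closedImmersion g hg) _
  tfae_have 3 → 4 := rep_mono' (fun _ _ g hg => hg.2.2) _
  tfae_have 4 → 1 := fun h => rep_of_charts f _ hf (fun T y F e he a θ =>
    sep_of_uc F.property a (master_conv f IsUnivClosedMor h y F.property e he a θ))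
  tfae_finish

end Groth.Agent.Helper6.DiagRep
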