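import Mathlib
import Groth.Agent.Helper6.DiagRep4
import Groth.Agent.Helper6.LocalIso
import Groth.Agent.Helper5.QuotEff5
import Groth.Agent.Helper4.AlgSpPB

/-!
# Helper6: descent of a property of a representable functor along a locally essentially surjective functor
-/

set_option autoImplicit false
set_option linter.style.haveILetI false
set_option linter.unusedVariables false
universe u

namespace Groth.Agent.Helper6.Descent1
open CategoryTheory Functor FibCat Limits AlgebraicGeometry Opposite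
open Groth.Agent.Helper3 Stk Groth.Agent.Helper6.OfPsh Groth.Agent.Helper6.OfPshHom
open Groth.Agent.Helper6.FpTools Groth.Agent.Helper6.OfPshFp Groth.Agent.Helper6.AlgStRep
open Groth.Agent.Helper6.AlgStEquiv Groth.Agent.Helper6.AlgStInv Groth.Agent.Helper6.AlgStPsh
open Groth.Agent.Helper6.DiagRed Groth.Agent.Helper6.RepDiag Groth.Agent.Helper6.RepComp
open Groth.Agent.Helper6.DiagRep
open AlgSp

variable {S : Scheme.{u}}

/-- a jointly surjective family of flat, locally finitely presented morphisms of schemes is an fppf covering -/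
theorem isFppfCover_yon_family {U : Over S} {ι : Type u} (V : ι → Over S) (h : ∀ i, V i ⟶ U)
    (hfl : ∀ i, Flat (h i).left) (hfp : ∀ i, LocallyOfFinitePresentation (h i).left)
    (hs : ∀ t : U.left, ∃ i, t ∈ Set.range (h i).left.base) :
    IsFppfCover (fun i => (yon S).obj (V i)) (fun i => (yon S).map (h i)) := by
  refine ⟨fun i => ⟨?_, ?_⟩, fun x => ?_⟩
  · exact Groth.Agent.Helper4.AlgSpLocP.locP_of_repWith @Flat @Flat (fun g hg => hg)
      (fun g hg => by haveI := hg; infer_instance) _ ((repWith_yon_map_iff @Flat (h i)).2 (hfl i))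
  · exact Groth.Agent.Helper4.AlgSpLocP.locP_of_repWith @LocallyOfFinitePresentation
      @LocallyOfFinitePresentation (fun g hg => hg)
      (fun g hg => by haveI := hg; infer_instance) _
      ((repWith_yon_map_iff @LocallyOfFinitePresentation (h i)).2 (hfp i))
  · obtain ⟨i, v, hv⟩ := hs ((Points.schemeHomeo U).symm x)
    refine ⟨i, Points.schemeHomeo (V i) v, ?_⟩
    rw [Points.map_yon_map_apply]
    have : (h i).left v = (Points.schemeHomeo U).symm x := hv
    rw [this]
    exact (Points.schemeHomeo U).apply_symm_apply x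

variable {𝒳 𝒴 𝒵 : AlgSt.Cat S}

/-- the comparison of `ofSpMap (h_h) ≫ toOverCat` with `toOverCat ≫ overMap h` -/
def overMapIso {U V : Over S} (h : V ⟶ U) :
    BasedFunctor.comp (AlgSt.ofSpMap ((yon S).map h)) (AlgSt.toOverCat U) ≅
      BasedFunctor.comp (AlgSt.toOverCat V) (AlgSt.overMap h) :=
  Iso.refl _

/-- the base change of a chart along a morphism of schemes has `P`, if the base-changed functor has -/
theorem piece (P : MorphismProperty (Sp S)) (hP : IsLocalOnBase IsFppfCover P) (f : 𝒳 ⥤ᵇ 𝒴)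
    {U V : Over S} (y : overCat U ⥤ᵇ 𝒴) (h : V ⟶ U) (F : AlgSp.Space S)
    (e : AlgSt.ofSp F.obj ⥤ᵇ fp y f) (he : IsEquivOver e) (a : F.obj ⟶ (yon S).obj U)
    (θ : BasedFunctor.comp e (fpFst y f) ≅ BasedFunctor.comp (AlgSt.ofSpMap a) (AlgSt.toOverCat U))
    (hrep : ∃ (F₁ : AlgSp.Space S) (e₁ : AlgSt.ofSp F₁.obj ⥤ᵇ fp (BasedFunctor.comp (AlgSt.overMap h) y) f),
      IsEquivOver e₁ ∧ P (AlgSt.spMapOfOver (BasedFunctor.comp e₁ (fpFst _ f)))) :
    P (pullback.snd a ((yon S).map h)) := by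
  -- C
  have hC := rep_transfer P (pasteLeft (AlgSt.overMap h) y f) (isEquivOver_pasteLeft _ _ _)
    (fpFst (AlgSt.overMap h) (fpFst y f)) (fpFst (BasedFunctor.comp (AlgSt.overMap h) y) f)
    (Iso.refl _) hrep
  -- B
  let B : fp (AlgSt.ofSpMap ((yon S).map h)) (AlgSt.ofSpMap a) ⥤ᵇ fp (AlgSt.overMap h) (fpFst y f) :=
    cospanFunctor (AlgSt.overMap h) (fpFst y f) (AlgSt.ofSpMap ((yon S).map h)) (AlgSt.ofSpMap a)
      (AlgSt.toOverCat V) e (AlgSt.toOverCat U) (overMapIso h) θ.symm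
  have hBe : IsEquivOver B :=
    isEquivOver_cospanFunctor _ _ _ _ _ _ _ _ _ (isEquivOver_toOverCat V) he (isEquivOver_toOverCat U)
  have hB := rep_transfer' P B hBe (fpFst (AlgSt.overMap h) (fpFst y f))
    (BasedFunctor.comp (fpFst (AlgSt.ofSpMap ((yon S).map h)) (AlgSt.ofSpMap a)) (AlgSt.toOverCat V))
    (Iso.refl _) hC
  -- A
  have sq : IsPullback (pullback.snd a ((yon S).map h)).hom (pullback.fst a ((yon S).map h)).hom
      ((yon S).map h).hom a.hom :=
    ((IsPullback.of_hasPullback a ((yon S).map h)).map (sheafToPresheaf _ _)).flip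
  have hA := rep_transfer' P (toFp sq.w) (isEquivOver_toFp sq)
    (BasedFunctor.comp (fpFst (AlgSt.ofSpMap ((yon S).map h)) (AlgSt.ofSpMap a)) (AlgSt.toOverCat V))
    (BasedFunctor.comp (AlgSt.ofSpMap (pullback.snd a ((yon S).map h))) (AlgSt.toOverCat V))
    (Iso.refl _) hB
  obtain ⟨F₂, e₂, he₂, hP₂⟩ := hA
  -- final: identify `F₂` with the pullback
  let i : F₂.obj.obj ≅ (pullback a ((yon S).map h)).obj := isoOfIsEquivOver e₂ he₂
  let i' : F₂.obj ≅ pullback a ((yon S).map h) :=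
    (fullyFaithfulSheafToPresheaf (AlgSp.J S) _).preimageIso (X := F₂.obj)
      (Y := pullback a ((yon S).map h)) i
  have j : BasedFunctor.comp e₂ (BasedFunctor.comp (AlgSt.ofSpMap (pullback.snd a ((yon S).map h)))
      (AlgSt.toOverCat V)) ≅
      BasedFunctor.comp (AlgSt.ofSpMap i'.hom)
        (BasedFunctor.comp (AlgSt.ofSpMap (pullback.snd a ((yon S).map h))) (AlgSt.toOverCat V)) :=
    whiskerRightIso' (isoHomOf e₂) _
  rw [spMapOfOver_congr j, spMapOfOver_ofSpMap_comp, spMapOfOver_ofSpMap_toOverCat] at hP₂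
  have hPb : IsAlgSpace (pullback a ((yon S).map h)) :=
    Groth.Agent.Helper4.AlgSpPB.isAlgSpace_of_isPullback (IsAlgSpace.yon_obj U).diag F.property
      (IsAlgSpace.yon_obj V) a ((yon S).map h) _ _ (IsPullback.of_hasPullback _ _)
  exact Groth.Agent.Helper6.LocalIso.of_arrow_iso hP F₂.property (IsAlgSpace.yon_obj V) hPb
    (IsAlgSpace.yon_obj V) (i'.hom ≫ pullback.snd a ((yon S).map h)) (pullback.snd a ((yon S).map h))
    i'.hom (𝟙 _) (by rw [Category.comp_id]) hP₂

/-- the descent lemma -/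
theorem descend (P : MorphismProperty (Sp S)) (hP : IsLocalOnBase IsFppfCover P) (f : 𝒳 ⥤ᵇ 𝒴)
    (hf : AlgSt.RepByAlgSp1 f) (g : 𝒵 ⥤ᵇ 𝒴)
    (hg : ∀ (U : Over S) (y : overCat U ⥤ᵇ 𝒴), ∃ R ∈ (QuotSh.J Scheme.fppfPrecoverage S) U,
      ∀ ⦃V : Over S⦄ (h : V ⟶ U), R.arrows h →
        ∃ z : overCat V ⥤ᵇ 𝒵, Nonempty (BasedFunctor.comp z g ≅ BasedFunctor.comp (AlgSt.overMap h) y))
    (h' : AlgSt.RepByAlgSpWith P (fpFst g f)) : AlgSt.RepByAlgSpWith P f := by
  intro U y
  obtain ⟨F, e, he⟩ := hf U y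
  obtain ⟨a, ⟨θ⟩⟩ := exists_ofSpMap_iso (BasedFunctor.comp e (fpFst y f))
  refine ⟨F, e, he, ?_⟩
  rw [spMapOfOver_congr θ, spMapOfOver_ofSpMap_toOverCat]
  obtain ⟨R, hR, hlift⟩ := hg U y
  choose V h hRh hrange hfl hfp using
    fun t : U.left => Groth.Agent.Helper5.QuotEff.exists_fppf_of_mem_J R hR t
  have hcov := isFppfCover_yon_family V h hfl hfp (fun t => ⟨t, hrange t⟩)
  refine (hP (fun t => (yon S).obj (V t)) (fun t => (yon S).map (h t)) (IsAlgSpace.yon_obj U)
    (fun t => IsAlgSpace.yon_obj (V t)) hcov a F.property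
    (fun t => pullback a ((yon S).map (h t))) (fun t => pullback.snd a ((yon S).map (h t)))
    (fun t => pullback.fst a ((yon S).map (h t)))
    (fun t => Groth.Agent.Helper4.AlgSpPB.isAlgSpace_of_isPullback (IsAlgSpace.yon_obj U).diag
      F.property (IsAlgSpace.yon_obj (V t)) a ((yon S).map (h t)) _ _ (IsPullback.of_hasPullback _ _))
    (fun t => IsPullback.of_hasPullback _ _)).2 ?_
  intro t
  obtain ⟨z, ⟨κ⟩⟩ := hlift (h t) (hRh t)
  apply piece P hP f y (h t) F e he a θ
  have hE := rep_transfer' P (pasteLeft z g f) (isEquivOver_pasteLeft _ _ _)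
    (fpFst z (fpFst g f)) (fpFst (BasedFunctor.comp z g) f) (Iso.refl _) (h' (V t) z)
  exact rep_transfer P (fpCongrLeft f κ) (isEquivOver_fpCongrLeft f κ)
    (fpFst (BasedFunctor.comp (AlgSt.overMap (h t)) y) f) (fpFst (BasedFunctor.comp z g) f)
    (Iso.refl _) hE

end Groth.Agent.Helper6.Descent1
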