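import Mathlib
import Groth.Agent.Helper6.Descent1
import Groth.Agent.Helper4.AlgSpBasic
import Groth.Agent.Helper4.AlgSpPts

/-!
# Helper6: a flat, locally finitely presented, surjective representable functor is locally essentially surjective
-/

set_option autoImplicit false
set_option linter.style.haveILetI false
set_option linter.unusedVariables false
universe u

namespace Groth.Agent.Helper6.Descent2
open CategoryTheory Functor FibCat Limits AlgebraicGeometry Opposite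
open Groth.Agent.Helper3 Stk Groth.Agent.Helper6.OfPsh Groth.Agent.Helper6.OfPshHom
open Groth.Agent.Helper6.FpTools Groth.Agent.Helper6.OfPshFp Groth.Agent.Helper6.AlgStRep
open Groth.Agent.Helper6.AlgStEquiv Groth.Agent.Helper6.AlgStInv Groth.Agent.Helper6.AlgStPsh
open Groth.Agent.Helper6.DiagRed Groth.Agent.Helper6.RepDiag Groth.Agent.Helper6.RepComp
open Groth.Agent.Helper6.DiagRep Groth.Agent.Helper6.Descent1 Groth.Agent.Helper6.OverRep
open AlgSp

variable {S : Scheme.{u}}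

section Iso

/-- independence of the representing space, for properties stable under precomposition with isomorphisms -/
theorem P_of_chart' (P : MorphismProperty (Sp S))
    (hiso : ∀ ⦃X X' Y : Sp S⦄ (i : X ≅ X') (g : X' ⟶ Y), P g → P (i.hom ≫ g)) {T : Over S}
    {𝒲 : AlgSt.Cat S} (p : 𝒲 ⥤ᵇ overCat T) {F F₀ : Sp S}
    (e : AlgSt.ofSp F ⥤ᵇ 𝒲) (he : IsEquivOver e) (e₀ : AlgSt.ofSp F₀ ⥤ᵇ 𝒲) (he₀ : IsEquivOver e₀)
    (h : P (AlgSt.spMapOfOver (BasedFunctor.comp e₀ p))) :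
    P (AlgSt.spMapOfOver (BasedFunctor.comp e p)) := by
  obtain ⟨K, hK, -, ⟨ε⟩⟩ := EquivOver.symm he₀
  have hG : IsEquivOver (BasedFunctor.comp e K) := isEquivOver_comp he hK
  let i : F.obj ≅ F₀.obj := isoOfIsEquivOver (BasedFunctor.comp e K) hG
  let i' : F ≅ F₀ :=
    (fullyFaithfulSheafToPresheaf (AlgSp.J S) _).preimageIso (X := F) (Y := F₀) i
  have j1 : BasedFunctor.comp e p ≅
      BasedFunctor.comp (BasedFunctor.comp e K) (BasedFunctor.comp e₀ p) :=
    whiskerLeftIso' e (whiskerRightIso' ε.symm p)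
  have j2 : BasedFunctor.comp (BasedFunctor.comp e K) (BasedFunctor.comp e₀ p) ≅
      BasedFunctor.comp (AlgSt.ofSpMap i'.hom) (BasedFunctor.comp e₀ p) :=
    whiskerRightIso' (isoHomOf (BasedFunctor.comp e K)) (BasedFunctor.comp e₀ p)
  rw [spMapOfOver_congr (j1 ≪≫ j2), spMapOfOver_ofSpMap_comp]
  exact hiso i' _ h

theorem locP_iso_comp (P : MorphismProperty Scheme.{u}) ⦃X X' Y : Sp S⦄ (i : X ≅ X') (g : X' ⟶ Y)
    (h : LocP P g) : LocP P (i.hom ≫ g) := by
  intro U V a b k ha hb comm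
  have h1 : RepWith @Etale (a ≫ i.hom) := MorphismProperty.RespectsIso.postcomp _ i.hom a ha
  exact h (a ≫ i.hom) b k h1 hb (by rw [Category.assoc]; exact comm)

theorem surj_iso_comp ⦃X X' Y : Sp S⦄ (i : X ≅ X') (g : X' ⟶ Y) (h : IsSurjectiveMor g) :
    IsSurjectiveMor (i.hom ≫ g) := by
  intro y
  obtain ⟨x, hx⟩ := h y
  refine ⟨Points.map i.inv x, ?_⟩
  rw [← Points.map_comp, Iso.inv_hom_id_assoc]
  exact hx

end Iso

section OverMap

/-- `overMap` is compatible with composition -/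
def overMapComp {U V W : Over S} (k : W ⟶ V) (h : V ⟶ U) :
    BasedFunctor.comp (AlgSt.overMap k) (AlgSt.overMap h) ≅ AlgSt.overMap (k ≫ h) :=
  BasedNatIso.mkNatIso
    (NatIso.ofComponents
      (fun t => Over.isoMk (Iso.refl _) (by
        change 𝟙 _ ≫ ((t : Over W).hom ≫ k ≫ h) = ((t : Over W).hom ≫ k) ≫ h
        rw [Category.id_comp, Category.assoc]))
      (fun {t t'} m => by
        apply Over.OverMorphism.ext
        change m.left ≫ 𝟙 _ = 𝟙 _ ≫ m.left
        rw [Category.comp_id, Category.id_comp]))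
    (fun t => over_lift_id _ _ rfl rfl (by
      change 𝟙 _ = eqToHom rfl ≫ eqToHom rfl
      simp))

/-- the comparison of `ofSpMap m ≫ toOverCat` with `toOverCat ≫ overMap h` when `m = h_h` -/
def overMapIso' {U V : Over S} (h : V ⟶ U) (m : (yon S).obj V ⟶ (yon S).obj U)
    (hm : m = (yon S).map h) :
    BasedFunctor.comp (AlgSt.ofSpMap m) (AlgSt.toOverCat U) ≅
      BasedFunctor.comp (AlgSt.toOverCat V) (AlgSt.overMap h) := by
  subst hm
  exact Iso.refl _

end OverMap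

variable {𝒴 𝒵 : AlgSt.Cat S}

set_option backward.isDefEq.respectTransparency.types false in
/-- local lifting along a flat, locally finitely presented, surjective functor representable by algebraic spaces -/
theorem local_lift (z : 𝒵 ⥤ᵇ 𝒴)
    (hz₁ : AlgSt.RepByAlgSpWith (AlgSp.LocP @Flat) z)
    (hz₂ : AlgSt.RepByAlgSpWith (AlgSp.LocP @LocallyOfFinitePresentation) z)
    (hz₃ : AlgSt.RepByAlgSpWith AlgSp.IsSurjectiveMor z)
    (U : Over S) (y : overCat U ⥤ᵇ 𝒴) :
    ∃ R ∈ (QuotSh.J Scheme.fppfPrecoverage S) U, ∀ ⦃V : Over S⦄ (h : V ⟶ U), R.arrows h →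
      ∃ z' : overCat V ⥤ᵇ 𝒵,
        Nonempty (BasedFunctor.comp z' z ≅ BasedFunctor.comp (AlgSt.overMap h) y) := by
  obtain ⟨W, e, he, h1⟩ := hz₁ U y
  obtain ⟨W₂, e₂, he₂, h2'⟩ := hz₂ U y
  obtain ⟨W₃, e₃, he₃, h3'⟩ := hz₃ U y
  have h2 := P_of_chart' _ (locP_iso_comp @LocallyOfFinitePresentation) (fpFst y z) e he e₂ he₂ h2'
  have h3 := P_of_chart' _ surj_iso_comp (fpFst y z) e he e₃ he₃ h3'
  obtain ⟨c, ⟨θ⟩⟩ := exists_ofSpMap_iso (BasedFunctor.comp e (fpFst y z))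
  rw [spMapOfOver_congr θ, spMapOfOver_ofSpMap_toOverCat] at h1 h2 h3
  obtain ⟨V₀, p, hpe, hps⟩ := W.property.atlas
  obtain ⟨h₀, hh⟩ := (yon S).map_surjective (p ≫ c)
  -- properties of `h₀`
  haveI hfl : Flat h₀.left := h1 p (𝟙 _) h₀ hpe (repWith_id _ U) (by rw [hh, Category.comp_id])
  haveI hfp : LocallyOfFinitePresentation h₀.left :=
    h2 p (𝟙 _) h₀ hpe (repWith_id _ U) (by rw [hh, Category.comp_id])
  haveI hsj : Surjective h₀.left := by
    refine ⟨fun t => ?_⟩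
    obtain ⟨w, hw⟩ := h3 (Points.schemeHomeo U t)
    obtain ⟨v', hv'⟩ := Groth.Agent.Helper4.AlgSpPts.isSurjectiveMor_of_repWith p hps w
    refine ⟨(Points.schemeHomeo V₀).symm v', ?_⟩
    apply (Points.schemeHomeo U).injective
    have := Points.map_yon_map_apply h₀ ((Points.schemeHomeo V₀).symm v')
    rw [Homeomorph.apply_symm_apply, hh, Points.map_comp] at this
    change Points.schemeHomeo U (h₀.left ((Points.schemeHomeo V₀).symm v')) = _
    rw [← this]
    rw [hv', hw]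
  refine ⟨Sieve.generate (Presieve.singleton h₀),
    Groth.Agent.Helper4.AlgSpBasic.generate_singleton_mem_J h₀, ?_⟩
  intro V h hR
  obtain ⟨V', k, h', ⟨⟩, rfl⟩ := hR
  -- the lift over `V₀`
  let q : overCat V₀ ⥤ᵇ fp y z :=
    BasedFunctor.comp (AlgSt.ofOverCat V₀) (BasedFunctor.comp (AlgSt.ofSpMap p) e)
  have l1 : BasedFunctor.comp q (fpFst y z) ≅
      BasedFunctor.comp (AlgSt.ofOverCat V₀)
        (BasedFunctor.comp (AlgSt.ofSpMap (p ≫ c)) (AlgSt.toOverCat U)) :=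
    whiskerLeftIso' (AlgSt.ofOverCat V₀) (whiskerLeftIso' (AlgSt.ofSpMap p) θ)
  have l2 : BasedFunctor.comp (AlgSt.ofOverCat V₀)
      (BasedFunctor.comp (AlgSt.ofSpMap (p ≫ c)) (AlgSt.toOverCat U)) ≅ AlgSt.overMap h₀ :=
    whiskerLeftIso' (AlgSt.ofOverCat V₀) (overMapIso' h₀ (p ≫ c) hh.symm)
  have κ₀ : BasedFunctor.comp (BasedFunctor.comp q (fpSnd y z)) z ≅
      BasedFunctor.comp (AlgSt.overMap h₀) y :=
    whiskerLeftIso' q (fpIso y z).symm ≪≫ whiskerRightIso' (l1 ≪≫ l2) y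
  refine ⟨BasedFunctor.comp (AlgSt.overMap k) (BasedFunctor.comp q (fpSnd y z)), ⟨?_⟩⟩
  exact whiskerLeftIso' (AlgSt.overMap k) κ₀ ≪≫ whiskerRightIso' (overMapComp k h₀) y

end Groth.Agent.Helper6.Descent2
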