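import Mathlib
import Groth.Prelude.Def_FibCat2
import Groth.Agent.Helper3.EquivOver
import Groth.Agent.Helper3.Fp
import Groth.Agent.Helper6.FpTools
import Groth.Agent.Helper6.FpPaste

/-!
# Helper6: the swap equivalence `𝒳 ×_𝒮 𝒴 ≃ 𝒴 ×_𝒮 𝒳`
-/

set_option autoImplicit false
set_option linter.style.haveILetI false
universe v₇ u₇ v₆ u₆ v₅ u₅ v₄ u₄ v₃ u₃ v₂ u₂ v u

namespace Groth.Agent.Helper6.FpTools
open CategoryTheory Functor FibCat Limits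
open Groth.Agent.Helper3

variable {C : Type u} [Category.{v} C]

section Swap

variable {𝒳 : BasedCategory.{v₂, u₂} C} {𝒴 : BasedCategory.{v₃, u₃} C} {𝒮 : BasedCategory.{v₄, u₄} C}
  (F : 𝒳 ⥤ᵇ 𝒮) (G : 𝒴 ⥤ᵇ 𝒮)

/-- The swap functor `𝒳 ×_𝒮 𝒴 ⟶ 𝒴 ×_𝒮 𝒳`. -/
def fpSwap : fp F G ⥤ᵇ fp G F :=
  fpLift (F := G) (G := F) (fpSnd F G) (fpFst F G) (fpIso F G).symm

theorem fpSwap_comp_fpFst : BasedFunctor.comp (fpSwap F G) (fpFst G F) = fpSnd F G := rfl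

theorem fpSwap_comp_fpSnd : BasedFunctor.comp (fpSwap F G) (fpSnd G F) = fpFst F G := rfl

theorem isEquivOver_fpSwap : IsEquivOver (fpSwap F G) :=
  ⟨fpSwap G F, ⟨Iso.refl _⟩, ⟨Iso.refl _⟩⟩

end Swap

end Groth.Agent.Helper6.FpTools
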