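import Mathlib
import Groth.Agent.Helper6.DiagRep4
import Groth.Agent.Helper6.DiagComp
import Groth.Agent.Helper6.TauLib
import Groth.Agent.Helper6.FpSwap
import Groth.Agent.Helper6.AlgStBC
import Groth.Agent.Helper6.LocalFppf
import Groth.Agent.Helper4.AlgSpLocPComp
import Groth.Agent.Helper3.FibGrpd

/-!
# Helper6: cancellation for properties of diagonals: `P(Δ_{g ∘ f})` and `P(Δ_{Δ_g})` give `P(Δ_f)`
-/

set_option autoImplicit false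
set_option linter.style.haveILetI false
set_option linter.unusedVariables false
universe u

namespace Groth.Agent.Helper6.OfComp
open CategoryTheory Functor FibCat Limits AlgebraicGeometry Opposite
open Groth.Agent.Helper3 Groth.Agent.Helper6.FpTools Groth.Agent.Helper6.AlgStBC
open Groth.Agent.Helper6.AlgStInv Groth.Agent.Helper6.DiagRed Groth.Agent.Helper6.DiagComp
open Groth.Agent.Helper6.DiagRep

variable {S : Scheme.{u}} {𝒳 𝒴 𝒵 : AlgSt.Cat S}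

/-- cancellation: `P(g ∘ f)` and `P(Δ_g)` give `P(f)` -/
theorem cancel (h𝒳 : IsFibGrpd 𝒳.p) (h𝒴 : IsFibGrpd 𝒴.p) (h𝒵 : IsFibGrpd 𝒵.p)
    (P : MorphismProperty (AlgSp.Sp S))
    (hPc : ∀ ⦃X Y Z : AlgSp.Sp S⦄, AlgSp.IsAlgSpace X → AlgSp.IsAlgSpace Y → AlgSp.IsAlgSpace Z →
      ∀ (a : X ⟶ Y) (b : Y ⟶ Z), P a → P b → P (a ≫ b))
    (hP : AlgSp.IsLocalOnBase AlgSp.IsFppfCover P)
    (f : 𝒳 ⥤ᵇ 𝒴) (g : 𝒴 ⥤ᵇ 𝒵)
    (hgf : AlgSt.RepByAlgSpWith P (BasedFunctor.comp f g))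
    (hΔ : AlgSt.RepByAlgSpWith P (diag g)) : AlgSt.RepByAlgSpWith P f := by
  let e : BasedFunctor.comp (BasedFunctor.id 𝒳) (BasedFunctor.comp f g) ≅ BasedFunctor.comp f g :=
    Iso.refl _
  have h1 : AlgSt.RepByAlgSpWith P (fpLift (BasedFunctor.id 𝒳) f e) :=
    repByAlgSpWith_graph P (BasedFunctor.comp f g) g f e hΔ
  have h2 : AlgSt.RepByAlgSpWith P (fpSnd (BasedFunctor.comp f g) g) :=
    repByAlgSpWith_of_baseChange P (BasedFunctor.comp f g) g (fpSnd (BasedFunctor.comp f g) g)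
      (fpSwap (BasedFunctor.comp f g) g) (isEquivOver_fpSwap _ _) (Iso.refl _) hgf
  have h3 := Groth.Agent.Helper6.RepComp.repByAlgSpWith_comp h𝒳
    (isFibGrpd_fp (BasedFunctor.comp f g) g h𝒳 h𝒴 h𝒵) P hPc hP _ _ h1 h2
  exact Groth.Agent.Helper6.AlgStSpMap.repByAlgSpWith_of_iso P
    (Iso.refl _ : f ≅ BasedFunctor.comp (fpLift (BasedFunctor.id 𝒳) f e)
      (fpSnd (BasedFunctor.comp f g) g)) h3

/-- the diagonal of the comparison `𝒳 ×_𝒴 𝒳 ⟶ 𝒳 ×_𝒵 𝒳` -/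
theorem diag_cmpSelf (P : MorphismProperty (AlgSp.Sp S)) (f : 𝒳 ⥤ᵇ 𝒴) (g : 𝒴 ⥤ᵇ 𝒵)
    (h : AlgSt.RepByAlgSpWith P (diag (diag g))) :
    AlgSt.RepByAlgSpWith P (diag (cmpSelf f g)) := by
  have h1 : AlgSt.RepByAlgSpWith P (diag (fpFst (cmpQ f f g) (diag g))) :=
    Groth.Agent.Helper6.AlgStDiag.repByAlgSpWith_diag_fpFst P (diag g) (cmpQ f f g) h
  have θ : BasedFunctor.comp (cmpSelf f g) (BasedFunctor.id _) ≅
      BasedFunctor.comp (cmpBC f f g (selfIso f g) (selfIso_app f g))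
        (fpFst (cmpQ f f g) (diag g)) := Iso.refl _
  exact (repByAlgSpWith_iff_of_square P (diag (fpFst (cmpQ f f g) (diag g))) (diag (cmpSelf f g))
    (cmpBC f f g (selfIso f g) (selfIso_app f g))
    (prodFun (fpFst (cmpQ f f g) (diag g)) (cmpSelf f g)
      (cmpBC f f g (selfIso f g) (selfIso_app f g)) (BasedFunctor.id _) θ)
    (isEquivOver_cmpBC _ _ _ _ _)
    (isEquivOver_prodFun _ _ _ _ _ (isEquivOver_cmpBC _ _ _ _ _) (isEquivOver_id _))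
    (diagSq _ _ _ _ _)).1 h1

/-- `P(Δ_{g ∘ f})` and `P(Δ_{Δ_g})` give `P(Δ_f)` -/
theorem diag_of_comp (h𝒳 : IsFibGrpd 𝒳.p) (h𝒴 : IsFibGrpd 𝒴.p) (h𝒵 : IsFibGrpd 𝒵.p)
    (P : MorphismProperty (AlgSp.Sp S))
    (hPc : ∀ ⦃X Y Z : AlgSp.Sp S⦄, AlgSp.IsAlgSpace X → AlgSp.IsAlgSpace Y → AlgSp.IsAlgSpace Z →
      ∀ (a : X ⟶ Y) (b : Y ⟶ Z), P a → P b → P (a ≫ b))
    (hP : AlgSp.IsLocalOnBase AlgSp.IsFppfCover P)
    (f : 𝒳 ⥤ᵇ 𝒴) (g : 𝒴 ⥤ᵇ 𝒵)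
    (hgf : AlgSt.RepByAlgSpWith P (diag (BasedFunctor.comp f g)))
    (hΔ : AlgSt.RepByAlgSpWith P (diag (diag g))) : AlgSt.RepByAlgSpWith P (diag f) := by
  have h1 : AlgSt.RepByAlgSpWith P (BasedFunctor.comp (diag f) (cmpSelf f g)) :=
    Groth.Agent.Helper6.AlgStSpMap.repByAlgSpWith_of_iso P (diagCompIso f g).symm hgf
  exact cancel h𝒳 (isFibGrpd_fp f f h𝒳 h𝒳 h𝒴)
    (isFibGrpd_fp (BasedFunctor.comp f g) (BasedFunctor.comp f g) h𝒳 h𝒳 h𝒵) P hPc hP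
    (diag f) (cmpSelf f g) h1 (diag_cmpSelf P f g hΔ)

/-- the relative diagonal of a functor between algebraic stacks is representable by algebraic spaces -/
theorem repByAlgSp1_diag (h𝒴 : AlgSt.IsAlgStack Scheme.fppfPrecoverage 𝒴)
    (h𝒵 : AlgSt.IsAlgStack Scheme.fppfPrecoverage 𝒵) (g : 𝒴 ⥤ᵇ 𝒵) : AlgSt.RepByAlgSp1 (diag g) := by
  have hselfO : IsFibGrpd (selfOver (Over S)).p := Groth.Agent.Helper3.FibGrpd.isFibGrpd_id
  rw [repByAlgSp1_iff_top]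
  have hd : AlgSt.RepByAlgSpWith ⊤ (diag (toSelf 𝒴)) := (repByAlgSp1_iff_top _).1 h𝒴.diag
  have θ : BasedFunctor.comp (BasedFunctor.comp g (toSelf 𝒵)) (BasedFunctor.id _) ≅
      BasedFunctor.comp (BasedFunctor.id _) (toSelf 𝒴) := (toSelfIso g).symm
  have h1 : AlgSt.RepByAlgSpWith ⊤ (diag (BasedFunctor.comp g (toSelf 𝒵))) :=
    (repByAlgSpWith_iff_of_square ⊤ (diag (toSelf 𝒴)) (diag (BasedFunctor.comp g (toSelf 𝒵)))
      (BasedFunctor.id _)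
      (prodFun (toSelf 𝒴) (BasedFunctor.comp g (toSelf 𝒵)) (BasedFunctor.id _) (BasedFunctor.id _) θ)
      (isEquivOver_id _) (isEquivOver_prodFun _ _ _ _ _ (isEquivOver_id _) (isEquivOver_id _))
      (diagSq _ _ _ _ _)).1 hd
  have h2 : AlgSt.RepByAlgSpWith ⊤ (diag (diag (toSelf 𝒵))) :=
    rep_mono' (fun _ _ _ _ => trivial) _ (isMono_diag (diag (toSelf 𝒵)) h𝒵.diag)
  exact diag_of_comp h𝒴.isStack.1 h𝒵.isStack.1 hselfO ⊤ (fun _ _ _ _ _ _ _ _ _ _ => trivial)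
    Groth.Agent.Helper6.TauLib.isLocalOnBase_top g (toSelf 𝒵) h1 h2

end Groth.Agent.Helper6.OfComp
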