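import Mathlib
import Groth.Agent.Helper6.DiagRed
import Groth.Agent.Helper6.Descent2
import Groth.Agent.Helper6.OfComp

/-!
# Helper6: lifting through `qFunctor` and descent of properties of the diagonal along fppf covers
-/

set_option autoImplicit false
set_option linter.style.haveILetI false
set_option linter.unusedVariables false
universe v₇ u₇ v₆ u₆ v₅ u₅ v₄ u₄ v₃ u₃ v₂ u₂ v u

namespace Groth.Agent.Helper6.QLift
open CategoryTheory Functor FibCat Limits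
open Groth.Agent.Helper3 Groth.Agent.Helper6.FpTools Groth.Agent.Helper6.RepDiag
open Groth.Agent.Helper6.DiagRed

section Gen

variable {C : Type u} [Category.{v} C]

section Aux

variable {D : Type u₂} [Category.{v₂} D]

theorem aux_q {A B X : D} (φ : A ⟶ B) (k : X ≅ A) (m₁ : A ⟶ A) (m₂ : B ⟶ B) (m₃ : X ⟶ X)
    (h1 : m₁ = 𝟙 _) (h2 : m₂ = 𝟙 _) (h3 : m₃ = 𝟙 _) :
    m₁ ≫ φ = (k.inv ≫ m₃ ≫ k.hom ≫ φ) ≫ m₂ := by
  subst h1 h2 h3; simp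

end Aux

variable {𝒳 : BasedCategory.{v₂, u₂} C} {𝒴 : BasedCategory.{v₃, u₃} C} {𝒰 : BasedCategory.{v₄, u₄} C}
  {𝒲 : BasedCategory.{v₅, u₅} C}
  (f : 𝒳 ⥤ᵇ 𝒴) (g : 𝒲 ⥤ᵇ 𝒴) (ζ : 𝒰 ⥤ᵇ fp f f) (w' : 𝒰 ⥤ᵇ 𝒲)
  (κ : BasedFunctor.comp w' g ≅ yz f ζ)

def t₁ : 𝒰 ⥤ᵇ fp g f := fpLift w' (BasedFunctor.comp ζ (fpFst f f)) κ

def κ₂ : BasedFunctor.comp w' g ≅ BasedFunctor.comp (BasedFunctor.comp ζ (fpSnd f f)) f :=
  κ ≪≫ whiskerLeftIso' ζ (fpIso f f)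

def t₂ : 𝒰 ⥤ᵇ fp g f := fpLift w' (BasedFunctor.comp ζ (fpSnd f f)) (κ₂ f g ζ w' κ)

def qLift : 𝒰 ⥤ᵇ fp (fpFst g f) (fpFst g f) := fpLift (t₁ f g ζ w' κ) (t₂ f g ζ w' κ) (Iso.refl _)

theorem qLift_comp_q_iso_hom (a : 𝒰.obj) :
    ((qFunctor f g).obj ((qLift f g ζ w' κ).obj a)).obj.iso.hom =
      ((appIso κ a).inv ≫ g.map (𝟙 (w'.obj a)) ≫ (appIso κ a).hom ≫ (ζ.obj a).obj.iso.hom) := rfl

/-- `ζ` factors through the lift -/
def qLiftIso : BasedFunctor.comp (qLift f g ζ w' κ) (qFunctor f g) ≅ ζ :=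
  BasedNatIso.mkNatIso
    (NatIso.ofComponents
      (fun a => fpMkIso (x := (qFunctor f g).obj ((qLift f g ζ w' κ).obj a)) (z := ζ.obj a)
        (Iso.refl _) (Iso.refl _) (by
          rw [qLift_comp_q_iso_hom]
          change f.map (𝟙 _) ≫ (ζ.obj a).obj.iso.hom =
            ((appIso κ a).inv ≫ g.map (𝟙 (w'.obj a)) ≫ (appIso κ a).hom ≫ (ζ.obj a).obj.iso.hom) ≫
              f.map (𝟙 _)
          exact aux_q _ (appIso κ a) _ _ _ (f.toFunctor.map_id _) (f.toFunctor.map_id _)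
            (g.toFunctor.map_id _)))
      (fun {a a'} k => by
        apply fp_hom_ext
        · change (ζ.map k).hom.fst ≫ 𝟙 _ = 𝟙 _ ≫ (ζ.map k).hom.fst
          rw [Category.comp_id, Category.id_comp]
        · change (ζ.map k).hom.snd ≫ 𝟙 _ = 𝟙 _ ≫ (ζ.map k).hom.snd
          rw [Category.comp_id, Category.id_comp]))
    (fun a => by
      apply fpMkIso_lift
      exact IsHomLift.id (ζ.w_obj a))

end Gen

section Desc

open AlgebraicGeometry AlgSp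

variable {S : Scheme.{u}} {𝒳 𝒴 𝒲 : AlgSt.Cat S}

theorem local_lift_q (f : 𝒳 ⥤ᵇ 𝒴) (w : 𝒲 ⥤ᵇ 𝒴)
    (hw₁ : AlgSt.RepByAlgSpWith (AlgSp.LocP @Flat) w)
    (hw₂ : AlgSt.RepByAlgSpWith (AlgSp.LocP @LocallyOfFinitePresentation) w)
    (hw₃ : AlgSt.RepByAlgSpWith AlgSp.IsSurjectiveMor w)
    (U : Over S) (y : overCat U ⥤ᵇ fp f f) :
    ∃ R ∈ (QuotSh.J Scheme.fppfPrecoverage S) U, ∀ ⦃V : Over S⦄ (h : V ⟶ U), R.arrows h →
      ∃ z' : overCat V ⥤ᵇ fp (fpFst w f) (fpFst w f),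
        Nonempty (BasedFunctor.comp z' (qFunctor f w) ≅ BasedFunctor.comp (AlgSt.overMap h) y) := by
  obtain ⟨R, hR, hl⟩ := Groth.Agent.Helper6.Descent2.local_lift w hw₁ hw₂ hw₃ U (yz f y)
  refine ⟨R, hR, fun V h hh => ?_⟩
  obtain ⟨z', ⟨κ⟩⟩ := hl h hh
  have κ' : BasedFunctor.comp z' w ≅ yz f (BasedFunctor.comp (AlgSt.overMap h) y) := κ
  exact ⟨qLift f w _ z' κ', ⟨qLiftIso f w _ z' κ'⟩⟩

/-- a property of the diagonal descends along an fppf cover of the target -/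
theorem diag_descend (P : MorphismProperty (Sp S)) (hP : IsLocalOnBase IsFppfCover P)
    (h𝒳 : AlgSt.IsAlgStack Scheme.fppfPrecoverage 𝒳) (h𝒴 : AlgSt.IsAlgStack Scheme.fppfPrecoverage 𝒴)
    (f : 𝒳 ⥤ᵇ 𝒴) (w : 𝒲 ⥤ᵇ 𝒴)
    (hw₁ : AlgSt.RepByAlgSpWith (AlgSp.LocP @Flat) w)
    (hw₂ : AlgSt.RepByAlgSpWith (AlgSp.LocP @LocallyOfFinitePresentation) w)
    (hw₃ : AlgSt.RepByAlgSpWith AlgSp.IsSurjectiveMor w)
    (h : AlgSt.RepByAlgSpWith P (diag (fpFst w f))) : AlgSt.RepByAlgSpWith P (diag f) :=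
  Groth.Agent.Helper6.Descent1.descend P hP (diag f)
    (Groth.Agent.Helper6.OfComp.repByAlgSp1_diag h𝒳 h𝒴 f) (qFunctor f w)
    (local_lift_q f w hw₁ hw₂ hw₃)
    (Groth.Agent.Helper6.AlgStInv.repByAlgSpWith_of_square' P (fpFst (qFunctor f w) (diag f))
      (diag (fpFst w f)) (diagBC f w) (BasedFunctor.id _) (isEquivOver_diagBC f w)
      (isEquivOver_id _) (Iso.refl _) h)

end Desc

end Groth.Agent.Helper6.QLift
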