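import Mathlib
import Groth.Agent.Helper6.QLift
import Groth.Agent.Helper6.FpCompare
import Groth.Agent.Helper6.DiagComp

/-!
# Helper6: lifting through `cmpQ` and descent of properties of the diagonal along fppf covers of the source
-/

set_option autoImplicit false
set_option linter.style.haveILetI false
set_option linter.unusedVariables false
universe v₇ u₇ v₆ u₆ v₅ u₅ v₄ u₄ v₃ u₃ v₂ u₂ v u

namespace Groth.Agent.Helper6.CmpLift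
open CategoryTheory Functor FibCat Limits
open Groth.Agent.Helper3 Groth.Agent.Helper6.FpTools Groth.Agent.Helper6.RepDiag
open Groth.Agent.Helper6.DiagRed Groth.Agent.Helper6.DiagComp

section Gen

variable {C : Type u} [Category.{v} C]

section Aux

variable {D : Type u₂} [Category.{v₂} D]

theorem aux_c {A B A' B' : D} (m : A' ⟶ A) (φ : A ⟶ B) (n : B ⟶ B') (n' : B' ⟶ B)
    (h : n ≫ n' = 𝟙 _) : m ≫ φ = ((m ≫ φ) ≫ n) ≫ n' := by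
  rw [Category.assoc, h, Category.comp_id]

end Aux

variable {𝒳 : BasedCategory.{v₂, u₂} C} {𝒯 : BasedCategory.{v₃, u₃} C} {𝒰 : BasedCategory.{v₄, u₄} C}
  {𝒜 : BasedCategory.{v₅, u₅} C} {ℬ : BasedCategory.{v₆, u₆} C}
  (a : 𝒜 ⥤ᵇ 𝒳) (b : ℬ ⥤ᵇ 𝒳) (t : 𝒳 ⥤ᵇ 𝒯) (ζ : 𝒰 ⥤ᵇ fp t t) (z₁ : 𝒰 ⥤ᵇ 𝒜) (z₂ : 𝒰 ⥤ᵇ ℬ)
  (κ₁ : BasedFunctor.comp z₁ a ≅ BasedFunctor.comp ζ (fpFst t t))
  (κ₂ : BasedFunctor.comp z₂ b ≅ BasedFunctor.comp ζ (fpSnd t t))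

def liftIso : BasedFunctor.comp z₁ (BasedFunctor.comp a t) ≅ BasedFunctor.comp z₂ (BasedFunctor.comp b t) :=
  (whiskerRightIso' κ₁ t ≪≫ whiskerLeftIso' ζ (fpIso t t)) ≪≫ (whiskerRightIso' κ₂ t).symm

def cLift : 𝒰 ⥤ᵇ fp (BasedFunctor.comp a t) (BasedFunctor.comp b t) :=
  fpLift z₁ z₂ (liftIso a b t ζ z₁ z₂ κ₁ κ₂)

theorem cLift_comp_iso_hom (u : 𝒰.obj) :
    ((cmpQ a b t).obj ((cLift a b t ζ z₁ z₂ κ₁ κ₂).obj u)).obj.iso.hom =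
      ((t.map (appIso κ₁ u).hom ≫ (ζ.obj u).obj.iso.hom) ≫ t.map (appIso κ₂ u).inv) := rfl

/-- `ζ` factors through the lift -/
def cLiftIso : BasedFunctor.comp (cLift a b t ζ z₁ z₂ κ₁ κ₂) (cmpQ a b t) ≅ ζ :=
  BasedNatIso.mkNatIso
    (NatIso.ofComponents
      (fun u => fpMkIso (x := (cmpQ a b t).obj ((cLift a b t ζ z₁ z₂ κ₁ κ₂).obj u)) (z := ζ.obj u)
        (appIso κ₁ u) (appIso κ₂ u) (by
          rw [cLift_comp_iso_hom]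
          exact aux_c _ _ _ _ (t.toFunctor.mapIso (appIso κ₂ u)).inv_hom_id))
      (fun {u u'} k => by
        apply fp_hom_ext
        · exact κ₁.hom.toNatTrans.naturality k
        · exact κ₂.hom.toNatTrans.naturality k))
    (fun u => by
      apply fpMkIso_lift
      exact appIso_hom_lift κ₁ u rfl)

end Gen

section Desc

open AlgebraicGeometry AlgSp

variable {S : Scheme.{u}} {𝒳 𝒯 𝒲 : AlgSt.Cat S}

theorem local_lift_cmpQ (w : 𝒲 ⥤ᵇ 𝒳) (t : 𝒳 ⥤ᵇ 𝒯)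
    (hw₁ : AlgSt.RepByAlgSpWith (AlgSp.LocP @Flat) w)
    (hw₂ : AlgSt.RepByAlgSpWith (AlgSp.LocP @LocallyOfFinitePresentation) w)
    (hw₃ : AlgSt.RepByAlgSpWith AlgSp.IsSurjectiveMor w)
    (U : Over S) (y : overCat U ⥤ᵇ fp t t) :
    ∃ R ∈ (QuotSh.J Scheme.fppfPrecoverage S) U, ∀ ⦃V : Over S⦄ (h : V ⟶ U), R.arrows h →
      ∃ z' : overCat V ⥤ᵇ fp (BasedFunctor.comp w t) (BasedFunctor.comp w t),
        Nonempty (BasedFunctor.comp z' (cmpQ w w t) ≅ BasedFunctor.comp (AlgSt.overMap h) y) := by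
  obtain ⟨R₁, hR₁, hl₁⟩ := Groth.Agent.Helper6.Descent2.local_lift w hw₁ hw₂ hw₃ U
    (BasedFunctor.comp y (fpFst t t))
  obtain ⟨R₂, hR₂, hl₂⟩ := Groth.Agent.Helper6.Descent2.local_lift w hw₁ hw₂ hw₃ U
    (BasedFunctor.comp y (fpSnd t t))
  refine ⟨R₁ ⊓ R₂, (QuotSh.J Scheme.fppfPrecoverage S).intersection_covering hR₁ hR₂,
    fun V h hh => ?_⟩
  obtain ⟨z₁, ⟨κ₁⟩⟩ := hl₁ h hh.1
  obtain ⟨z₂, ⟨κ₂⟩⟩ := hl₂ h hh.2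
  have κ₁' : BasedFunctor.comp z₁ w ≅
      BasedFunctor.comp (BasedFunctor.comp (AlgSt.overMap h) y) (fpFst t t) := κ₁
  have κ₂' : BasedFunctor.comp z₂ w ≅
      BasedFunctor.comp (BasedFunctor.comp (AlgSt.overMap h) y) (fpSnd t t) := κ₂
  exact ⟨cLift w w t _ z₁ z₂ κ₁' κ₂', ⟨cLiftIso w w t _ z₁ z₂ κ₁' κ₂'⟩⟩

/-- a property of the diagonal of `t : 𝒳 ⟶ 𝒯` can be read on `𝒲 ×_𝒳 𝒲 ⟶ 𝒲 ×_𝒯 𝒲` for an fppf cover
`𝒲 ⟶ 𝒳` -/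
theorem diag_of_cmp' (P : MorphismProperty (Sp S)) (hP : IsLocalOnBase IsFppfCover P)
    (t : 𝒳 ⥤ᵇ 𝒯) (hd : AlgSt.RepByAlgSp1 (diag t)) (w : 𝒲 ⥤ᵇ 𝒳)
    (hw₁ : AlgSt.RepByAlgSpWith (AlgSp.LocP @Flat) w)
    (hw₂ : AlgSt.RepByAlgSpWith (AlgSp.LocP @LocallyOfFinitePresentation) w)
    (hw₃ : AlgSt.RepByAlgSpWith AlgSp.IsSurjectiveMor w)
    (h : AlgSt.RepByAlgSpWith P (cmpSelf w t)) : AlgSt.RepByAlgSpWith P (diag t) :=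
  Groth.Agent.Helper6.Descent1.descend P hP (diag t) hd (cmpQ w w t)
    (local_lift_cmpQ w t hw₁ hw₂ hw₃)
    (Groth.Agent.Helper6.AlgStInv.repByAlgSpWith_of_square' P (fpFst (cmpQ w w t) (diag t))
      (cmpSelf w t) (cmpBC w w t (selfIso w t) (selfIso_app w t)) (BasedFunctor.id _)
      (isEquivOver_cmpBC w w t (selfIso w t) (selfIso_app w t))
      (isEquivOver_id _) (Iso.refl _) h)

theorem diag_of_cmp (P : MorphismProperty (Sp S)) (hP : IsLocalOnBase IsFppfCover P)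
    (h𝒳 : AlgSt.IsAlgStack Scheme.fppfPrecoverage 𝒳) (h𝒯 : AlgSt.IsAlgStack Scheme.fppfPrecoverage 𝒯)
    (t : 𝒳 ⥤ᵇ 𝒯) (w : 𝒲 ⥤ᵇ 𝒳)
    (hw₁ : AlgSt.RepByAlgSpWith (AlgSp.LocP @Flat) w)
    (hw₂ : AlgSt.RepByAlgSpWith (AlgSp.LocP @LocallyOfFinitePresentation) w)
    (hw₃ : AlgSt.RepByAlgSpWith AlgSp.IsSurjectiveMor w)
    (h : AlgSt.RepByAlgSpWith P (cmpSelf w t)) : AlgSt.RepByAlgSpWith P (diag t) :=
  diag_of_cmp' P hP t (Groth.Agent.Helper6.OfComp.repByAlgSp1_diag h𝒳 h𝒯 t) w hw₁ hw₂ hw₃ h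

end Desc

end Groth.Agent.Helper6.CmpLift
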