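import Mathlib
import Groth.Agent.Helper6.CmpLift
import Groth.Agent.Helper6.AlgStDiagIff
import Groth.Agent.Helper6.AlgStDiag
import Groth.Agent.Helper6.ToSpace
import Groth.Agent.Helper5.SrcEt
import Groth.Agent.Helper9.FibRep

/-!
# Helper6: the diagonal of an algebraic stack is locally of finite type
-/

set_option autoImplicit false
set_option linter.style.haveILetI false
set_option linter.unusedVariables false
universe u

namespace Groth.Agent.Helper6.DiagLft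
open CategoryTheory Functor FibCat Limits AlgebraicGeometry Opposite
open Groth.Agent.Helper3 Groth.Agent.Helper6.FpTools Groth.Agent.Helper6.AlgStBC
open Groth.Agent.Helper6.AlgStInv Groth.Agent.Helper6.DiagRed Groth.Agent.Helper6.DiagComp
open Groth.Agent.Helper6.DiagRep Groth.Agent.Helper6.RepDiag Groth.Agent.Helper6.AlgStDiagIff
open Groth.Agent.Helper6.ToSpace Groth.Agent.Helper4.SDClasses

variable {S : Scheme.{u}} {𝒳 : AlgSt.Cat S}

theorem repByAlgSp1_comp_toSelf {U₀ : Over S} (u : overCat U₀ ⥤ᵇ 𝒳) :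
    AlgSt.RepByAlgSp1 (BasedFunctor.comp u (toSelf 𝒳)) := by
  intro T y
  exact repByAlgSp_of_isEquivOver' (prodEquiv y (BasedFunctor.comp u (toSelf 𝒳)))
    (isEquivOver_prodEquiv _ _) (repByAlgSp_overCat _)

theorem locP_lft_comp : ∀ ⦃X Y Z : AlgSp.Sp S⦄, AlgSp.IsAlgSpace X → AlgSp.IsAlgSpace Y →
    AlgSp.IsAlgSpace Z → ∀ (a : X ⟶ Y) (b : Y ⟶ Z), AlgSp.LocP @LocallyOfFiniteType a →
      AlgSp.LocP @LocallyOfFiniteType b → AlgSp.LocP @LocallyOfFiniteType (a ≫ b) :=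
  fun X Y Z hX hY hZ a b ha hb =>
    Groth.Agent.Helper4.AlgSpLocPComp.locP_comp _ good_lft hY a b ha hb

theorem unram_le_lft : (AlgSp.LocP (@LocallyOfFiniteType ⊓ @FormallyUnramified) :
    MorphismProperty (AlgSp.Sp S)) ≤ AlgSp.LocP @LocallyOfFiniteType :=
  fun X Y f hf => Groth.Agent.Helper5.SrcEt.locP_mono (fun g hg => hg.1) f hf

theorem lft_cmpSelf_atlas (h𝒳 : AlgSt.IsAlgStack Scheme.fppfPrecoverage 𝒳) {U₀ : Over S}
    (u : overCat U₀ ⥤ᵇ 𝒳) (hu : AlgSt.RepByAlgSpWith (AlgSp.LocP @LocallyOfFiniteType) u) :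
    AlgSt.RepByAlgSpWith (AlgSp.LocP @LocallyOfFiniteType) (cmpSelf u (toSelf 𝒳)) := by
  have hX : IsFibGrpd 𝒳.p := h𝒳.isStack.1
  have hU : IsFibGrpd (overCat U₀).p := Groth.Agent.Helper9.FibRep.isFibGrpd_overCat U₀
  have hselfO : IsFibGrpd (selfOver (Over S)).p := Groth.Agent.Helper3.FibGrpd.isFibGrpd_id
  have hut : AlgSt.RepByAlgSp1 (BasedFunctor.comp u (toSelf 𝒳)) := repByAlgSp1_comp_toSelf u
  have h1 : AlgSt.RepByAlgSpWith (AlgSp.LocP @LocallyOfFiniteType)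
      (diag (BasedFunctor.comp u (toSelf 𝒳))) :=
    repByAlgSpWith_mono unram_le_lft (isDMMor _ hut)
  have h2 : AlgSt.RepByAlgSpWith (AlgSp.LocP @LocallyOfFiniteType)
      (diag (fpFst (BasedFunctor.comp u (toSelf 𝒳)) (BasedFunctor.comp u (toSelf 𝒳)))) :=
    Groth.Agent.Helper6.AlgStDiag.repByAlgSpWith_diag_fpFst _ _ _ h1
  have h3 : AlgSt.RepByAlgSpWith (AlgSp.LocP @LocallyOfFiniteType) (fpFst u u) :=
    repByAlgSpWith_of_baseChange _ u u (fpFst u u) (BasedFunctor.id _) (isEquivOver_id _)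
      (Iso.refl _) hu
  exact Groth.Agent.Helper6.OfComp.cancel (isFibGrpd_fp u u hU hU hX)
    (isFibGrpd_fp (BasedFunctor.comp u (toSelf 𝒳)) (BasedFunctor.comp u (toSelf 𝒳)) hU hU hselfO) hU
    (AlgSp.LocP @LocallyOfFiniteType) locP_lft_comp Groth.Agent.Helper6.LocalFppf.lft
    (cmpSelf u (toSelf 𝒳))
    (fpFst (BasedFunctor.comp u (toSelf 𝒳)) (BasedFunctor.comp u (toSelf 𝒳))) h3 h2

theorem smooth_le_flat : (AlgSp.LocP @Smooth : MorphismProperty (AlgSp.Sp S)) ≤ AlgSp.LocP @Flat :=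
  fun X Y f hf => Groth.Agent.Helper5.SrcEt.locP_mono
    (fun g hg => by have : Smooth g := hg; infer_instance) f hf

theorem smooth_le_lfp : (AlgSp.LocP @Smooth : MorphismProperty (AlgSp.Sp S)) ≤
    AlgSp.LocP @LocallyOfFinitePresentation :=
  fun X Y f hf => Groth.Agent.Helper5.SrcEt.locP_mono
    (fun g hg => by have : Smooth g := hg; infer_instance) f hf

theorem smooth_le_lft : (AlgSp.LocP @Smooth : MorphismProperty (AlgSp.Sp S)) ≤
    AlgSp.LocP @LocallyOfFiniteType :=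
  fun X Y f hf => Groth.Agent.Helper5.SrcEt.locP_mono
    (fun g hg => by have : Smooth g := hg; infer_instance) f hf

/-- S12938 -/
theorem lft_diag_toSelf (h𝒳 : AlgSt.IsAlgStack Scheme.fppfPrecoverage 𝒳) :
    AlgSt.RepByAlgSpWith (AlgSp.LocP @LocallyOfFiniteType) (diag (toSelf 𝒳)) := by
  obtain ⟨U₀, u, hu₁, hu₂⟩ := h𝒳.atlas
  exact Groth.Agent.Helper6.CmpLift.diag_of_cmp' _ Groth.Agent.Helper6.LocalFppf.lft (toSelf 𝒳)
    h𝒳.diag u (repByAlgSpWith_mono smooth_le_flat hu₁) (repByAlgSpWith_mono smooth_le_lfp hu₁) hu₂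
    (lft_cmpSelf_atlas h𝒳 u (repByAlgSpWith_mono smooth_le_lft hu₁))

/-- S12939 -/
theorem lft_diag {𝒴 : AlgSt.Cat S} (h𝒳 : AlgSt.IsAlgStack Scheme.fppfPrecoverage 𝒳)
    (h𝒴 : AlgSt.IsAlgStack Scheme.fppfPrecoverage 𝒴) (f : 𝒳 ⥤ᵇ 𝒴) :
    AlgSt.RepByAlgSpWith (AlgSp.LocP @LocallyOfFiniteType) (diag f) := by
  have hselfO : IsFibGrpd (selfOver (Over S)).p := Groth.Agent.Helper3.FibGrpd.isFibGrpd_id
  have θ : BasedFunctor.comp (BasedFunctor.comp f (toSelf 𝒴)) (BasedFunctor.id _) ≅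
      BasedFunctor.comp (BasedFunctor.id _) (toSelf 𝒳) := (toSelfIso f).symm
  have h1 : AlgSt.RepByAlgSpWith (AlgSp.LocP @LocallyOfFiniteType)
      (diag (BasedFunctor.comp f (toSelf 𝒴))) :=
    (repByAlgSpWith_iff_of_square _ (diag (toSelf 𝒳)) (diag (BasedFunctor.comp f (toSelf 𝒴)))
      (BasedFunctor.id _)
      (prodFun (toSelf 𝒳) (BasedFunctor.comp f (toSelf 𝒴)) (BasedFunctor.id _) (BasedFunctor.id _) θ)
      (isEquivOver_id _)
      (isEquivOver_prodFun _ _ _ _ _ (isEquivOver_id _) (isEquivOver_id _))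
      (diagSq _ _ _ _ _)).1 (lft_diag_toSelf h𝒳)
  have h2 : AlgSt.RepByAlgSpWith (AlgSp.LocP @LocallyOfFiniteType) (diag (diag (toSelf 𝒴))) :=
    repByAlgSpWith_mono unram_le_lft (isDMMor _ h𝒴.diag)
  exact Groth.Agent.Helper6.OfComp.diag_of_comp h𝒳.isStack.1 h𝒴.isStack.1 hselfO _ locP_lft_comp
    Groth.Agent.Helper6.LocalFppf.lft f (toSelf 𝒴) h1 h2

end Groth.Agent.Helper6.DiagLft
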