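import Groth.Agent.S10548
import Groth.Agent.S10505
import Groth.Agent.Helper5.SmST
import Groth.Agent.Helper5.FppfFpqc
import Groth.Agent.Helper6.LocalFppf
import Groth.Agent.Helper6.DiagLft
import Groth.Agent.Helper4.AlgSpLocPComp
import Groth.Agent.Helper4.SDClasses

set_option autoImplicit false
universe u
open CategoryTheory CategoryTheory.Limits AlgebraicGeometry
open AlgSp

namespace Groth.Agent.Helper6.FlatST

variable {S : Scheme.{u}}

open Groth.Agent.Helper6.DiagLft

theorem fppf_of_sm {ι : Type u} {X : Sp S} (Y : ι → Sp S) (g : ∀ i, Y i ⟶ X)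
    (h : IsSmCover Y g) : IsFppfCover Y g :=
  ⟨fun i => ⟨smooth_le_flat _ (h.1 i), smooth_le_lfp _ (h.1 i)⟩, h.2⟩

theorem fpqc_of_sm {ι : Type u} {X : Sp S} (hX : IsAlgSpace X) (Y : ι → Sp S)
    (hY : ∀ i, IsAlgSpace (Y i)) (g : ∀ i, Y i ⟶ X)
    (h : IsSmCover Y g) : IsFpqcCover Y g :=
  Groth.Agent.Helper5.FppfFpqc.isFpqcCover_of_isFppfCover hX Y hY g (fppf_of_sm Y g h)

theorem localSource_flat : IsLocalOnSource (IsSmCover (S := S)) (LocP @Flat) := by
  intro ι X Xi g hX hXi hcov Y f hY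
  exact Groth.Agent.S10548.result S Xi g hX hXi (fpqc_of_sm hX Xi hXi g hcov) f hY

theorem localBase_flat : IsLocalOnBase (IsSmCover (S := S)) (LocP @Flat) := by
  intro ι Y Yi g hY hYi hcov X f hX Xi p q hXi sq
  exact Groth.Agent.Helper6.LocalFppf.flat Yi g hY hYi (fppf_of_sm Yi g hcov) f hX Xi p q hXi sq

theorem post_flat : Groth.Agent.Helper5.SmST.Post (LocP @Smooth) (LocP (S := S) @Flat) := by
  intro X Y Z hX hY hZ f g hf hg
  exact Groth.Agent.Helper4.AlgSpLocPComp.locP_comp _ Groth.Agent.Helper4.SDClasses.good_flat hY f g hf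
    (smooth_le_flat _ hg)

theorem isSmoothLocalST_flat : IsSmoothLocalST (LocP (S := S) @Flat) :=
  Groth.Agent.Helper5.SmST.isSmoothLocalST_of_local _ localSource_flat localBase_flat post_flat

end Groth.Agent.Helper6.FlatST
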