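import Mathlib
import Groth.Agent.Helper4.SchemeSD

/-!
# Helper6: descent of "locally of finite type" along smooth surjections on the source
(adapted from Helper4's étale version)
-/

set_option autoImplicit false
universe u
open TensorProduct AlgebraicGeometry CategoryTheory CategoryTheory.Limits

namespace Groth.Agent.Helper6.SmoothSD

set_option synthInstance.maxHeartbeats 400000 in
set_option maxHeartbeats 1000000 in
/-- Finite type descends along a faithfully flat smooth map on the source side. -/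
theorem finiteType_of_smooth_faithfullyFlat (R B B' : Type u) [CommRing R] [CommRing B]
    [CommRing B'] [Algebra R B] [Algebra B B'] [Algebra R B'] [IsScalarTower R B B']
    [Algebra.Smooth B B'] [Module.FaithfullyFlat B B'] [Algebra.FiniteType R B'] :
    Algebra.FiniteType R B := by
  classical
  obtain ⟨B₀, B'₀, _, _, hB₀, hét, ⟨φ⟩⟩ := Algebra.Smooth.exists_subalgebra_fg R B B'
  have hsurj : Function.Surjective (PrimeSpectrum.comap (algebraMap B (B ⊗[B₀] B'₀))) := by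
    intro 𝔭
    obtain ⟨𝔮, h𝔮⟩ := PrimeSpectrum.comap_surjective_of_faithfullyFlat (A := B) (B := B') 𝔭
    refine ⟨PrimeSpectrum.comap φ.symm.toAlgHom.toRingHom 𝔮, ?_⟩
    rw [← h𝔮, ← PrimeSpectrum.comap_comp_apply]
    congr 1
    ext b
    exact φ.symm.commutes b
  obtain ⟨s, hs⟩ := (Algebra.FiniteType.out : (⊤ : Subalgebra R B').FG)
  have hdec : ∀ x : B ⊗[B₀] B'₀, ∃ S : Finset (B × B'₀), x = S.sum fun i => i.1 ⊗ₜ[B₀] i.2 :=
    TensorProduct.exists_finset
  choose Sx hSx using hdec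
  let G : Finset B := s.biUnion fun b' => (Sx (φ b')).image Prod.fst
  let A' : Subalgebra B₀ B := Algebra.adjoin B₀ (G : Set B)
  obtain ⟨A₁, hA'le, hA₁fg, hff⟩ := Groth.Agent.Helper4.EtaleSD.exists_fg_subalgebra_faithfullyFlat B₀ B B'₀ hsurj A'
    (Subalgebra.fg_adjoin_finset _)
  let ι₁ : A₁ ⊗[B₀] B'₀ →ₐ[B₀] B ⊗[B₀] B'₀ :=
    Algebra.TensorProduct.map A₁.val (AlgHom.id B₀ B'₀)
  have hι₁ : Function.Surjective ι₁ := by
    have hmem : ∀ b' ∈ s, φ b' ∈ ι₁.range := by
      intro b' hb'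
      rw [hSx (φ b')]
      refine Subalgebra.sum_mem _ fun i hi => ?_
      have hi1 : i.1 ∈ A₁ := hA'le (Algebra.subset_adjoin (Finset.mem_coe.2
        (Finset.mem_biUnion.2 ⟨b', hb', Finset.mem_image_of_mem _ hi⟩)))
      refine ⟨(⟨i.1, hi1⟩ : A₁) ⊗ₜ i.2, ?_⟩
      show (Algebra.TensorProduct.map A₁.val (AlgHom.id B₀ B'₀)) _ = _
      rw [Algebra.TensorProduct.map_tmul]
      rfl
    have htop : (⊤ : Subalgebra R (B ⊗[B₀] B'₀)) ≤ ι₁.range.restrictScalars R := by
      have h1 : (⊤ : Subalgebra R (B ⊗[B₀] B'₀)) =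
          (⊤ : Subalgebra R B').map (φ.restrictScalars R).toAlgHom := by
        rw [Algebra.map_top]
        exact ((AlgHom.range_eq_top _).2 (φ.restrictScalars R).surjective).symm
      rw [h1, ← hs, AlgHom.map_adjoin]
      apply Algebra.adjoin_le
      rintro _ ⟨b', hb', rfl⟩
      exact hmem b' hb'
    intro x
    exact htop (Algebra.mem_top : x ∈ ⊤)
  have hval : Function.Surjective (algebraMap A₁ B) := by
    apply Module.FaithfullyFlat.surjective_of_tensorProduct (R := A₁) (S := A₁ ⊗[B₀] B'₀) (T := B)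
    let ψ' : (A₁ ⊗[B₀] B'₀) ⊗[A₁] B ≃ₐ[A₁] B ⊗[B₀] B'₀ :=
      (Algebra.TensorProduct.comm A₁ (A₁ ⊗[B₀] B'₀) B).trans
        (Algebra.TensorProduct.cancelBaseChange B₀ A₁ A₁ B B'₀)
    have key : ∀ c₁ : A₁ ⊗[B₀] B'₀, ψ' (c₁ ⊗ₜ 1) = ι₁ c₁ := by
      intro c₁
      induction c₁ using TensorProduct.induction_on with
      | zero => rw [TensorProduct.zero_tmul, map_zero, map_zero]
      | tmul a c =>
        show (Algebra.TensorProduct.cancelBaseChange B₀ A₁ A₁ B B'₀)
          ((Algebra.TensorProduct.comm A₁ (A₁ ⊗[B₀] B'₀) B) ((a ⊗ₜ[B₀] c) ⊗ₜ[A₁] (1 : B))) = _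
        rw [Algebra.TensorProduct.comm_tmul, Algebra.TensorProduct.cancelBaseChange_tmul]
        show _ = (Algebra.TensorProduct.map A₁.val (AlgHom.id B₀ B'₀)) (a ⊗ₜ[B₀] c)
        rw [Algebra.TensorProduct.map_tmul]
        simp [Algebra.smul_def]
      | add x y hx hy => rw [TensorProduct.add_tmul, map_add, map_add, hx, hy]
    intro y
    obtain ⟨c₁, hc₁⟩ := hι₁ (ψ' y)
    refine ⟨c₁, ?_⟩
    apply ψ'.injective
    rw [← hc₁, ← key]
    rfl
  have hA₁top : A₁ = ⊤ := by
    rw [eq_top_iff]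
    intro b _
    obtain ⟨a, rfl⟩ := hval b
    exact a.2
  have hft : Algebra.FiniteType B₀ B := ⟨hA₁top ▸ hA₁fg⟩
  have hft₀ : Algebra.FiniteType R B₀ := (Subalgebra.fg_iff_finiteType B₀).1 hB₀
  exact Algebra.FiniteType.trans hft₀ hft


/-- Reduction of smooth descent on the source to the case of affine schemes. -/
theorem sd_of_affine (P : MorphismProperty Scheme.{u}) [IsZariskiLocalAtSource P]
    [IsZariskiLocalAtTarget P] [P.RespectsRight @IsOpenImmersion]
    (hAff : ∀ {A B C : Scheme.{u}} [IsAffine A] [IsAffine B] [IsAffine C] (e : A ⟶ B)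
      (h : B ⟶ C), Smooth e → Surjective e → P (e ≫ h) → P h)
    {A B C : Scheme.{u}} (e : A ⟶ B) (h : B ⟶ C) [Smooth e] [Surjective e] (hP : P (e ≫ h)) :
    P h := by
  rw [IsZariskiLocalAtSource.iff_exists_resLE (P := P)]
  intro b
  obtain ⟨a, rfl⟩ := e.surjective b
  -- affine neighbourhoods
  obtain ⟨U, hU, hbU, -⟩ := TopologicalSpace.Opens.isBasis_iff_nbhd.mp C.isBasis_affineOpens
    (TopologicalSpace.Opens.mem_top (h (e a)))
  obtain ⟨V₁, hV₁, hbV₁, hV₁U⟩ := TopologicalSpace.Opens.isBasis_iff_nbhd.mp B.isBasis_affineOpens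
    (show e a ∈ h ⁻¹ᵁ U from hbU)
  obtain ⟨W₁, hW₁, haW₁, hW₁V₁⟩ := TopologicalSpace.Opens.isBasis_iff_nbhd.mp A.isBasis_affineOpens
    (show a ∈ e ⁻¹ᵁ V₁ from hbV₁)
  -- the image of W₁ is open
  let O : B.Opens := ⟨e '' (W₁ : Set A), e.isOpenMap _ W₁.2⟩
  have hbO : e a ∈ O := ⟨a, haW₁, rfl⟩
  obtain ⟨g, hgle, hbg⟩ := hV₁.exists_basicOpen_le (V := O) ⟨e a, hbO⟩ hbV₁
  have hVaff : IsAffineOpen (B.basicOpen g) := hV₁.basicOpen g
  have hWaff : IsAffineOpen (A.basicOpen (e.appLE V₁ W₁ hW₁V₁ g)) := hW₁.basicOpen _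
  have hWmem : ∀ x, x ∈ A.basicOpen (e.appLE V₁ W₁ hW₁V₁ g) ↔ x ∈ W₁ ∧ e x ∈ B.basicOpen g := by
    intro x
    simp [Scheme.Hom.appLE, ← Scheme.preimage_basicOpen]
  have hVU : B.basicOpen g ≤ h ⁻¹ᵁ U := (B.basicOpen_le g).trans hV₁U
  have hWV : A.basicOpen (e.appLE V₁ W₁ hW₁V₁ g) ≤ e ⁻¹ᵁ (B.basicOpen g) := fun x hx =>
    ((hWmem x).1 hx).2
  have i1 : IsAffine (B.basicOpen g : Scheme.{u}) := hVaff
  have i2 : IsAffine (A.basicOpen (e.appLE V₁ W₁ hW₁V₁ g) : Scheme.{u}) := hWaff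
  have i3 : IsAffine ((U : C.Opens) : Scheme.{u}) := hU
  have hsurj : Surjective (e.resLE (B.basicOpen g) (A.basicOpen (e.appLE V₁ W₁ hW₁V₁ g)) hWV) := by
    refine ⟨fun v => ?_⟩
    obtain ⟨w, hw, hwv⟩ := hgle v.2
    have hwW : w ∈ A.basicOpen (e.appLE V₁ W₁ hW₁V₁ g) := (hWmem w).2 ⟨hw, by rw [hwv]; exact v.2⟩
    refine ⟨⟨w, hwW⟩, ?_⟩
    apply Subtype.ext
    rw [Scheme.Hom.coe_resLE_apply]
    exact hwv
  have hPres : P (e.resLE (B.basicOpen g) (A.basicOpen (e.appLE V₁ W₁ hW₁V₁ g)) hWV ≫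
      h.resLE U (B.basicOpen g) hVU) := by
    rw [Scheme.Hom.resLE_comp_resLE]
    exact IsZariskiLocalAtSource.resLE _ hP
  exact ⟨U, B.basicOpen g, hbg, hVU, hAff _ _ inferInstance hsurj hPres⟩

/-- Smooth descent on the source for a property induced by a ring hom property satisfying the
corresponding ring-theoretic descent. -/
theorem sd_of_ringHom (P : MorphismProperty Scheme.{u})
    {Q : ∀ {R S : Type u} [CommRing R] [CommRing S], (R →+* S) → Prop}
    [HasRingHomProperty P Q] [P.RespectsRight @IsOpenImmersion]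
    (hQ : ∀ {R B B' : Type u} [CommRing R] [CommRing B] [CommRing B'] (f : R →+* B)
      (g : B →+* B'), g.Smooth → g.FaithfullyFlat → Q (g.comp f) → Q f)
    {A B C : Scheme.{u}} (e : A ⟶ B) (h : B ⟶ C) [Smooth e] [Surjective e] (hP : P (e ≫ h)) :
    P h := by
  refine sd_of_affine P ?_ e h hP
  intro A B C _ _ _ e h he hes hP
  rw [HasRingHomProperty.iff_of_isAffine (P := P)] at hP ⊢
  have h1 : Q (e.appTop.hom.comp h.appTop.hom) := by
    have : (e ≫ h).appTop.hom = e.appTop.hom.comp h.appTop.hom := by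
      rw [Scheme.Hom.comp_appTop]; rfl
    rw [← this]; exact hP
  have h2 : e.appTop.hom.Smooth := HasRingHomProperty.appTop (P := @Smooth) e he
  have h3 : e.appTop.hom.FaithfullyFlat :=
    (Flat.flat_and_surjective_iff_faithfullyFlat_of_isAffine e).1 ⟨inferInstance, hes⟩
  exact hQ _ _ h2 h3 h1

/-- Ring-hom form of finite type descent. -/
theorem ringHom_finiteType_of_comp {R B B' : Type u} [CommRing R] [CommRing B] [CommRing B']
    (f : R →+* B) (g : B →+* B') (hg : g.Smooth) (hgf : g.FaithfullyFlat)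
    (h : (g.comp f).FiniteType) : f.FiniteType := by
  algebraize [f, g, g.comp f]
  exact finiteType_of_smooth_faithfullyFlat R B B'

/-- Locally of finite type descends along smooth surjections on the source. -/
theorem locallyOfFiniteType_of_comp_smooth_surjective {A B C : Scheme.{u}} (e : A ⟶ B) (h : B ⟶ C)
    [Smooth e] [Surjective e] [LocallyOfFiniteType (e ≫ h)] : LocallyOfFiniteType h := by
  have : MorphismProperty.RespectsRight @LocallyOfFiniteType @IsOpenImmersion :=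
    ⟨fun i hi f hf => by
      have : IsOpenImmersion i := hi
      have : LocallyOfFiniteType f := hf
      show LocallyOfFiniteType (f ≫ i)
      infer_instance⟩
  exact sd_of_ringHom @LocallyOfFiniteType
    (fun f g hg hgf h => ringHom_finiteType_of_comp f g hg hgf h) e h inferInstance


end Groth.Agent.Helper6.SmoothSD
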