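import Groth.Agent.Helper5.SrcFlat
import Groth.Agent.Helper5.SmST
import Groth.Agent.Helper6.SmoothSD
import Groth.Agent.Helper6.FlatST
import Mathlib

/-!
# Helper6: `LocP @LocallyOfFiniteType` is smooth local on the source; `IsSmoothLocalST` for it
-/

set_option autoImplicit false
universe u
open CategoryTheory CategoryTheory.Limits AlgebraicGeometry Opposite

namespace Groth.Agent.Helper6.LftST

open AlgSp Groth.Agent.Helper4.SDClasses Groth.Agent.Helper5.FpqcRef
open Groth.Agent.Helper4.AlgSpPtsDesc Groth.Agent.Helper6.DiagLft Groth.Agent.Helper6.FlatST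

variable {S : Scheme.{u}}

set_option backward.isDefEq.respectTransparency.types false in
/-- local finite type can be checked after precomposing with a jointly surjective family of smooth maps -/
theorem lft_of_family {U V : Scheme.{u}} (k : U ⟶ V)
    (H : ∀ u : U, ∃ (A : Scheme.{u}) (e : A ⟶ U) (a : A), Smooth e ∧ e a = u ∧
      LocallyOfFiniteType (e ≫ k)) :
    LocallyOfFiniteType k := by
  choose A e a he hea hek using H
  haveI : ∀ u, Smooth (e u) := he
  haveI : ∀ u, LocallyOfFiniteType (e u ≫ k) := hek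
  haveI : Smooth (Sigma.desc e) :=
    IsZariskiLocalAtSource.sigmaDesc (P := @Smooth) (fun u => inferInstance)
  haveI : Surjective (Sigma.desc e) := by
    refine ⟨fun u => ⟨(Sigma.ι A u) (a u), ?_⟩⟩
    rw [← Scheme.Hom.comp_apply, Sigma.ι_desc]
    exact hea u
  haveI : LocallyOfFiniteType (Sigma.desc e ≫ k) := by
    have h1 : Sigma.desc e ≫ k = Sigma.desc (fun u => e u ≫ k) := by
      apply Sigma.hom_ext
      intro u
      rw [Sigma.ι_desc_assoc, Sigma.ι_desc]
    rw [h1]
    exact IsZariskiLocalAtSource.sigmaDesc (P := @LocallyOfFiniteType) (fun u => inferInstance)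
  exact Groth.Agent.Helper6.SmoothSD.locallyOfFiniteType_of_comp_smooth_surjective (Sigma.desc e) k

set_option backward.isDefEq.respectTransparency.types false in
/-- a smooth chart of the base change of a smooth morphism through a given point -/
theorem exists_smooth_chart {X Y : Sp S} (hX : IsAlgSpace X) (hY : IsAlgSpace Y) (f : Y ⟶ X)
    (hf1 : LocP @Smooth f) (Z : Over S) (h : (yon S).obj Z ⟶ X) (z : ↥Z.left) (y : Points Y)
    (hy : Points.map f y = Points.map h (Points.schemeHomeo Z z)) :
    ∃ (V : Over S) (c : V ⟶ Z) (l : (yon S).obj V ⟶ Y) (v : ↥V.left),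
      Smooth c.left ∧ c.left v = z ∧ l ≫ f = (yon S).map c ≫ h ∧
      (RepWith @Etale h → RepWith @Etale l) := by
  have sq : IsPullback (pullback.fst f h) (pullback.snd f h) f h := IsPullback.of_hasPullback _ _
  have hF : IsAlgSpace (pullback f h) :=
    Groth.Agent.Helper4.AlgSpPB.isAlgSpace_of_isPullback hX.diag hY (IsAlgSpace.yon_obj Z)
      f h _ _ sq
  obtain ⟨w, hw1, hw2⟩ := exists_point_of_isPullback sq y _ hy
  obtain ⟨A, a, hae, has⟩ := hF.atlas
  obtain ⟨r, hr⟩ := Groth.Agent.Helper4.AlgSpPts.isSurjectiveMor_of_repWith a has w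
  obtain ⟨v, rfl⟩ := (Points.schemeHomeo A).surjective r
  obtain ⟨c, hc⟩ := (yon S).map_surjective (a ≫ pullback.snd f h)
  have hide : RepWith @Etale (𝟙 ((yon S).obj Z)) := repWith_id _ _
  have hcomm : a ≫ pullback.snd f h = (yon S).map c ≫ 𝟙 _ := by
    rw [hc, Category.comp_id]
  have hG1 : Good (@Smooth : MorphismProperty Scheme.{u}) := good_smooth
  have hs1 : LocP @Smooth (pullback.snd f h) := by
    have := hG1.bc
    have := hG1.comp
    exact Groth.Agent.Helper4.AlgSpLocPBC.locP_of_isPullback @Smooth hG1.etale_le hG1.sd hY hX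
      f h _ _ sq hf1
  refine ⟨A, c, a ≫ pullback.fst f h, v, hs1 _ _ c hae hide hcomm, ?_, ?_, fun hh => ?_⟩
  · apply (Points.schemeHomeo Z).injective
    rw [← Points.map_yon_map_apply, hc, Points.map_comp, hr, hw2]
  · rw [Category.assoc, sq.w, ← Category.assoc, hc]
  · have i1 := repWith_isStableUnderBaseChange (S := S) @Etale
    have hfst : RepWith @Etale (pullback.fst f h) := MorphismProperty.of_isPullback sq.flip hh
    exact Groth.Agent.Helper4.AlgSpSrc.repWith_comp _ hae hfst


set_option backward.isDefEq.respectTransparency.types false in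
theorem isLocalOnSource_sm_locP_lft :
    IsLocalOnSource (IsSmCover (S := S)) (LocP @LocallyOfFiniteType) := by
  intro ι X Xi g hX hXi hcov Y f hY
  constructor
  · intro hf i
    exact Groth.Agent.Helper4.AlgSpLocPComp.locP_comp @LocallyOfFiniteType good_lft hX (g i) f
      (smooth_le_lft _ (hcov.1 i)) hf
  · intro hgf U V a b k hae hbe hcomm
    refine lft_of_family k.left fun u => ?_
    obtain ⟨i, xi, hxi⟩ := hcov.2 (Points.map a (Points.schemeHomeo U u))
    obtain ⟨A, e, l, v, hef, hev, hl, hle⟩ :=
      exists_smooth_chart hX (hXi i) (g i) (hcov.1 i) U a u xi hxi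
    refine ⟨A.left, e.left, v, hef, hev, ?_⟩
    have : l ≫ (g i ≫ f) = (yon S).map (e ≫ k) ≫ b := by
      rw [← Category.assoc, hl, Category.assoc, hcomm, Functor.map_comp, Category.assoc]
    exact hgf i l b (e ≫ k) (hle hae) hbe this

theorem localBase_lft : IsLocalOnBase (IsSmCover (S := S)) (LocP @LocallyOfFiniteType) := by
  intro ι Y Yi g hY hYi hcov X f hX Xi p q hXi sq
  exact Groth.Agent.Helper6.LocalFppf.lft Yi g hY hYi (fppf_of_sm Yi g hcov) f hX Xi p q hXi sq

theorem post_lft :
    Groth.Agent.Helper5.SmST.Post (LocP @Smooth) (LocP (S := S) @LocallyOfFiniteType) := by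
  intro X Y Z hX hY hZ f g hf hg
  exact Groth.Agent.Helper4.AlgSpLocPComp.locP_comp _ good_lft hY f g hf (smooth_le_lft _ hg)

theorem isSmoothLocalST_lft : IsSmoothLocalST (LocP (S := S) @LocallyOfFiniteType) :=
  Groth.Agent.Helper5.SmST.isSmoothLocalST_of_local _ isLocalOnSource_sm_locP_lft localBase_lft
    post_lft

end Groth.Agent.Helper6.LftST
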