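import Mathlib
import Groth.Agent.Helper6.DiagLft
import Groth.Agent.Helper6.RepComp
import Groth.Agent.Helper6.TauLib

/-!
# Helper6: the etale atlas of an algebraic space as a functor; fppf covers by spaces refine to covers by schemes
-/

set_option autoImplicit false
set_option linter.style.haveILetI false
set_option linter.unusedVariables false
universe u

namespace Groth.Agent.Helper6.SpAtlas
open CategoryTheory Functor FibCat Limits AlgebraicGeometry Opposite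
open Groth.Agent.Helper3 Groth.Agent.Helper6.FpTools Groth.Agent.Helper6.AlgStBC
open Groth.Agent.Helper6.AlgStInv Groth.Agent.Helper6.DiagRed Groth.Agent.Helper6.DiagComp
open Groth.Agent.Helper6.DiagRep Groth.Agent.Helper6.RepDiag Groth.Agent.Helper6.AlgStDiagIff
open Groth.Agent.Helper6.ToSpace Groth.Agent.Helper4.SDClasses AlgSp

variable {S : Scheme.{u}}

theorem isEquivOver_ofOverCat (U : Over S) : IsEquivOver (AlgSt.ofOverCat U) :=
  ⟨AlgSt.toOverCat U, ⟨Iso.refl _⟩, ⟨Iso.refl _⟩⟩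

theorem surj_localOnBase : IsLocalOnBase IsFppfCover (IsSurjectiveMor (S := S)) := by
  intro ι Y Yi g hY hYi hcov X f hX Xi p q hXi hsq
  constructor
  · intro hf i
    exact Groth.Agent.Helper4.AlgSpPts.isSurjectiveMor_of_isPullback (hsq i) hf
  · intro h y
    obtain ⟨i, yi, hyi⟩ := hcov.2 y
    obtain ⟨xi, hxi⟩ := h i yi
    refine ⟨Points.map (q i) xi, ?_⟩
    rw [← Points.map_comp, (hsq i).w, Points.map_comp, hxi, hyi]

theorem surj_comp : ∀ ⦃X Y Z : AlgSp.Sp S⦄, AlgSp.IsAlgSpace X → AlgSp.IsAlgSpace Y →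
    AlgSp.IsAlgSpace Z → ∀ (a : X ⟶ Y) (b : Y ⟶ Z), IsSurjectiveMor a → IsSurjectiveMor b →
      IsSurjectiveMor (a ≫ b) := by
  intro X Y Z _ _ _ a b ha hb z
  obtain ⟨y, hy⟩ := hb z
  obtain ⟨x, hx⟩ := ha y
  exact ⟨x, by rw [Points.map_comp, hx, hy]⟩

theorem locP_comp' (Q : MorphismProperty Scheme.{u}) (hG : Good Q) :
    ∀ ⦃X Y Z : AlgSp.Sp S⦄, AlgSp.IsAlgSpace X → AlgSp.IsAlgSpace Y →
    AlgSp.IsAlgSpace Z → ∀ (a : X ⟶ Y) (b : Y ⟶ Z), AlgSp.LocP Q a →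
      AlgSp.LocP Q b → AlgSp.LocP Q (a ≫ b) :=
  fun X Y Z hX hY hZ a b ha hb =>
    Groth.Agent.Helper4.AlgSpLocPComp.locP_comp _ hG hY a b ha hb

/-- transfer along the atlas functor -/
theorem rep_atlasFunctor (Q : MorphismProperty (Sp S)) {V₀ : Over S} {W : Sp S}
    (p : (yon S).obj V₀ ⟶ W) (hrep : Representable p)
    (hQ : ∀ ⦃V : Over S⦄ (ξ : (yon S).obj V ⟶ W) ⦃F' : Sp S⦄ (fst : F' ⟶ (yon S).obj V₀)
      (snd : F' ⟶ (yon S).obj V), IsPullback fst snd p ξ → Q snd) :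
    AlgSt.RepByAlgSpWith Q (BasedFunctor.comp (AlgSt.ofOverCat V₀) (AlgSt.ofSpMap p)) :=
  repByAlgSpWith_of_square Q (AlgSt.ofSpMap p) _ (AlgSt.ofOverCat V₀) (BasedFunctor.id _)
    (isEquivOver_ofOverCat V₀) (isEquivOver_id _) (Iso.refl _)
    (Groth.Agent.Helper6.AlgStPsh.repByAlgSpWith_of_repBySpWith _ Q
      (repBySpWith_of_representable Q p hrep hQ))

/-- the etale atlas of an algebraic space, as a functor over `(Sch/S)` -/
theorem exists_etale_atlas (W : Sp S) (hW : IsAlgSpace W) :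
    ∃ (V₀ : Over S) (u : overCat V₀ ⥤ᵇ AlgSt.ofSp W),
      AlgSt.RepByAlgSpWith IsEtaleMor u ∧ AlgSt.RepByAlgSpWith IsSurjectiveMor u ∧
      (∀ (Q : MorphismProperty Scheme.{u}), Q.IsStableUnderComposition →
        (∀ {A B : Scheme.{u}} (g : A ⟶ B), Etale g → Q g) → AlgSt.RepByAlgSpWith (LocP Q) u) := by
  obtain ⟨V₀, p, hpe, hps⟩ := hW.atlas
  have i1 := repWith_isStableUnderBaseChange (S := S) @Etale
  have i2 := repWith_isStableUnderBaseChange (S := S) @Surjective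
  refine ⟨V₀, BasedFunctor.comp (AlgSt.ofOverCat V₀) (AlgSt.ofSpMap p), ?_, ?_, ?_⟩
  · exact rep_atlasFunctor _ p hpe.rep (fun V ξ F' fst snd sq =>
      Groth.Agent.Helper6.TauLib.isEtaleMor_of_repWith snd (MorphismProperty.of_isPullback sq hpe))
  · exact rep_atlasFunctor _ p hpe.rep (fun V ξ F' fst snd sq =>
      Groth.Agent.Helper4.AlgSpPts.isSurjectiveMor_of_repWith snd
        (MorphismProperty.of_isPullback sq hps))
  · intro Q hQc hQ
    haveI := hQc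
    exact rep_atlasFunctor _ p hpe.rep (fun V ξ F' fst snd sq =>
      Groth.Agent.Helper4.AlgSpLocP.locP_of_repWith Q @Etale (fun g hg => hQ g hg)
        (fun g hg => hQ g hg) snd (MorphismProperty.of_isPullback sq hpe))

variable {𝒳 : AlgSt.Cat S}

/-- general form of `DiagLft.lft_cmpSelf_atlas` -/
theorem cmpSelf_atlas (P : MorphismProperty (Sp S))
    (hPc : ∀ ⦃X Y Z : AlgSp.Sp S⦄, AlgSp.IsAlgSpace X → AlgSp.IsAlgSpace Y → AlgSp.IsAlgSpace Z →
      ∀ (a : X ⟶ Y) (b : Y ⟶ Z), P a → P b → P (a ≫ b))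
    (hP : IsLocalOnBase IsFppfCover P)
    (hle : (AlgSp.LocP (@LocallyOfFiniteType ⊓ @FormallyUnramified) :
      MorphismProperty (AlgSp.Sp S)) ≤ P)
    (hX : IsFibGrpd 𝒳.p) {U₀ : Over S}
    (u : overCat U₀ ⥤ᵇ 𝒳) (hu : AlgSt.RepByAlgSpWith P u) :
    AlgSt.RepByAlgSpWith P (cmpSelf u (toSelf 𝒳)) := by
  have hU : IsFibGrpd (overCat U₀).p := Groth.Agent.Helper9.FibRep.isFibGrpd_overCat U₀
  have hselfO : IsFibGrpd (selfOver (Over S)).p := Groth.Agent.Helper3.FibGrpd.isFibGrpd_id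
  have hut : AlgSt.RepByAlgSp1 (BasedFunctor.comp u (toSelf 𝒳)) :=
    Groth.Agent.Helper6.DiagLft.repByAlgSp1_comp_toSelf u
  have h1 : AlgSt.RepByAlgSpWith P (diag (BasedFunctor.comp u (toSelf 𝒳))) :=
    repByAlgSpWith_mono hle (isDMMor _ hut)
  have h2 : AlgSt.RepByAlgSpWith P
      (diag (fpFst (BasedFunctor.comp u (toSelf 𝒳)) (BasedFunctor.comp u (toSelf 𝒳)))) :=
    Groth.Agent.Helper6.AlgStDiag.repByAlgSpWith_diag_fpFst _ _ _ h1
  have h3 : AlgSt.RepByAlgSpWith P (fpFst u u) :=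
    repByAlgSpWith_of_baseChange _ u u (fpFst u u) (BasedFunctor.id _) (isEquivOver_id _)
      (Iso.refl _) hu
  exact Groth.Agent.Helper6.OfComp.cancel (isFibGrpd_fp u u hU hU hX)
    (isFibGrpd_fp (BasedFunctor.comp u (toSelf 𝒳)) (BasedFunctor.comp u (toSelf 𝒳)) hU hU hselfO) hU
    P hPc hP (cmpSelf u (toSelf 𝒳))
    (fpFst (BasedFunctor.comp u (toSelf 𝒳)) (BasedFunctor.comp u (toSelf 𝒳))) h3 h2

/-- a property of the absolute diagonal read on an fppf cover by a scheme -/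
theorem diag_toSelf_of_scheme_cover (P : MorphismProperty (Sp S))
    (hPc : ∀ ⦃X Y Z : AlgSp.Sp S⦄, AlgSp.IsAlgSpace X → AlgSp.IsAlgSpace Y → AlgSp.IsAlgSpace Z →
      ∀ (a : X ⟶ Y) (b : Y ⟶ Z), P a → P b → P (a ≫ b))
    (hP : IsLocalOnBase IsFppfCover P)
    (hle : (AlgSp.LocP (@LocallyOfFiniteType ⊓ @FormallyUnramified) :
      MorphismProperty (AlgSp.Sp S)) ≤ P)
    (h𝒳 : AlgSt.IsAlgStack Scheme.fppfPrecoverage 𝒳) {U₀ : Over S} (u : overCat U₀ ⥤ᵇ 𝒳)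
    (hu₁ : AlgSt.RepByAlgSpWith (AlgSp.LocP @Flat) u)
    (hu₂ : AlgSt.RepByAlgSpWith (AlgSp.LocP @LocallyOfFinitePresentation) u)
    (hu₃ : AlgSt.RepByAlgSpWith AlgSp.IsSurjectiveMor u)
    (hu : AlgSt.RepByAlgSpWith P u) : AlgSt.RepByAlgSpWith P (diag (toSelf 𝒳)) :=
  Groth.Agent.Helper6.CmpLift.diag_of_cmp' P hP (toSelf 𝒳) h𝒳.diag u hu₁ hu₂ hu₃
    (cmpSelf_atlas P hPc hP hle h𝒳.isStack.1 u hu)

/-- a property of the absolute diagonal read on an fppf cover by an algebraic space -/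
theorem diag_toSelf_of_space_cover (Q : MorphismProperty Scheme.{u}) (hG : Good Q)
    (hP : IsLocalOnBase IsFppfCover (LocP (S := S) Q))
    (hle : (AlgSp.LocP (@LocallyOfFiniteType ⊓ @FormallyUnramified) :
      MorphismProperty (AlgSp.Sp S)) ≤ LocP Q)
    (h𝒳 : AlgSt.IsAlgStack Scheme.fppfPrecoverage 𝒳) (W : AlgSp.Space S)
    (w : AlgSt.ofSp W.obj ⥤ᵇ 𝒳)
    (hw₁ : AlgSt.RepByAlgSpWith (AlgSp.LocP @Flat) w)
    (hw₂ : AlgSt.RepByAlgSpWith (AlgSp.LocP @LocallyOfFinitePresentation) w)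
    (hw₃ : AlgSt.RepByAlgSpWith AlgSp.IsSurjectiveMor w)
    (hw : AlgSt.RepByAlgSpWith (LocP Q) w) : AlgSt.RepByAlgSpWith (LocP Q) (diag (toSelf 𝒳)) := by
  obtain ⟨V₀, u, -, hus, huQ⟩ := exists_etale_atlas W.obj W.property
  have hV : IsFibGrpd (overCat V₀).p := Groth.Agent.Helper9.FibRep.isFibGrpd_overCat V₀
  have hWg : IsFibGrpd (AlgSt.ofSp W.obj).p := (isFibSetoid_ofPsh _).1
  refine diag_toSelf_of_scheme_cover (LocP Q) (locP_comp' Q hG) hP hle h𝒳 (BasedFunctor.comp u w)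
    ?_ ?_ ?_ ?_
  · exact Groth.Agent.Helper6.RepComp.repByAlgSpWith_comp hV hWg _ (locP_comp' _ good_flat)
      Groth.Agent.Helper6.LocalFppf.flat u w (huQ _ good_flat.comp good_flat.etale_le) hw₁
  · exact Groth.Agent.Helper6.RepComp.repByAlgSpWith_comp hV hWg _ (locP_comp' _ good_lfp)
      Groth.Agent.Helper6.LocalFppf.lfp u w (huQ _ good_lfp.comp good_lfp.etale_le) hw₂
  · exact Groth.Agent.Helper6.RepComp.repByAlgSpWith_comp hV hWg _ surj_comp
      surj_localOnBase u w hus hw₃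
  · exact Groth.Agent.Helper6.RepComp.repByAlgSpWith_comp hV hWg _ (locP_comp' Q hG)
      hP u w (huQ _ hG.comp hG.etale_le) hw

end Groth.Agent.Helper6.SpAtlas
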