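import Mathlib
import Groth.Agent.Helper6.SpAtlas
import Groth.Agent.Helper6.OverRep

/-!
# Helper6: smooth surjective charts of the source over a smooth surjective chart of the target
-/

set_option autoImplicit false
set_option linter.style.haveILetI false
set_option linter.unusedVariables false
universe u

namespace Groth.Agent.Helper6.ChartOver
open CategoryTheory Functor FibCat Limits AlgebraicGeometry Opposite
open Groth.Agent.Helper3 Groth.Agent.Helper6.FpTools Groth.Agent.Helper6.AlgStBC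
open Groth.Agent.Helper6.AlgStInv Groth.Agent.Helper6.SpAtlas
open Groth.Agent.Helper6.ToSpace Groth.Agent.Helper4.SDClasses AlgSp

variable {S : Scheme.{u}} {𝒳 𝒴 : AlgSt.Cat S}

/-- precomposition with an equivalence -/
theorem rep_equiv_comp (P : MorphismProperty (Sp S)) {𝒲 𝒲' : AlgSt.Cat S} (e : 𝒲' ⥤ᵇ 𝒲)
    (he : IsEquivOver e) (p : 𝒲 ⥤ᵇ 𝒴) (hp : AlgSt.RepByAlgSpWith P p) :
    AlgSt.RepByAlgSpWith P (BasedFunctor.comp e p) :=
  repByAlgSpWith_of_square P p _ e (BasedFunctor.id _) he (isEquivOver_id _) (Iso.refl _) hp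

/-- S12773 with an arbitrary composition-stable, fppf-local property in place of smooth -/
theorem exists_chart_over (h𝒳 : AlgSt.IsAlgStack Scheme.fppfPrecoverage 𝒳)
    (h𝒴 : IsFibGrpd 𝒴.p)
    (f : 𝒳 ⥤ᵇ 𝒴) (V : Over S) (y : overCat V ⥤ᵇ 𝒴)
    (hy : AlgSt.RepByAlgSpWith (AlgSp.LocP @Smooth) y)
    (hy' : AlgSt.RepByAlgSpWith AlgSp.IsSurjectiveMor y) :
    ∃ (U : Over S) (a : U ⟶ V) (x : overCat U ⥤ᵇ 𝒳),
      AlgSt.RepByAlgSpWith (AlgSp.LocP @Smooth) x ∧ AlgSt.RepByAlgSpWith AlgSp.IsSurjectiveMor x ∧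
        Nonempty (BasedFunctor.comp x f ≅ BasedFunctor.comp (AlgSt.overMap a) y) := by
  obtain ⟨U₀, u, hu₁, hu₂⟩ := h𝒳.atlas
  have hX : IsFibGrpd 𝒳.p := h𝒳.isStack.1
  have hU₀ : IsFibGrpd (overCat U₀).p := Groth.Agent.Helper9.FibRep.isFibGrpd_overCat U₀
  have hVg : IsFibGrpd (overCat V).p := Groth.Agent.Helper9.FibRep.isFibGrpd_overCat V
  let g : overCat U₀ ⥤ᵇ 𝒴 := BasedFunctor.comp u f
  obtain ⟨F, e, he, -⟩ := hy U₀ g
  have hfp : IsFibGrpd (fp g y).p := isFibGrpd_fp g y hU₀ hVg h𝒴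
  have hF : IsFibGrpd (AlgSt.ofSp F.obj).p := (isFibSetoid_ofPsh _).1
  -- the projection to `U₀`
  have hp₁ : AlgSt.RepByAlgSpWith (AlgSp.LocP @Smooth) (fpFst g y) :=
    repByAlgSpWith_of_baseChange _ y g (fpFst g y) (BasedFunctor.id _) (isEquivOver_id _)
      (Iso.refl _) hy
  have hp₂ : AlgSt.RepByAlgSpWith AlgSp.IsSurjectiveMor (fpFst g y) :=
    repByAlgSpWith_of_baseChange _ y g (fpFst g y) (BasedFunctor.id _) (isEquivOver_id _)
      (Iso.refl _) hy'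
  obtain ⟨U, v, -, hvs, hvQ⟩ := exists_etale_atlas F.obj F.property
  have hUg : IsFibGrpd (overCat U).p := Groth.Agent.Helper9.FibRep.isFibGrpd_overCat U
  have hv₁ : AlgSt.RepByAlgSpWith (AlgSp.LocP @Smooth) v :=
    hvQ _ good_smooth.comp good_smooth.etale_le
  let q : overCat U ⥤ᵇ fp g y := BasedFunctor.comp v e
  have hq₁ : AlgSt.RepByAlgSpWith (AlgSp.LocP @Smooth) (BasedFunctor.comp q (fpFst g y)) :=
    Groth.Agent.Helper6.RepComp.repByAlgSpWith_comp hUg hF _ (locP_comp' _ good_smooth)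
      Groth.Agent.Helper6.LocalFppf.smooth v (BasedFunctor.comp e (fpFst g y)) hv₁
      (rep_equiv_comp _ e he _ hp₁)
  have hq₂ : AlgSt.RepByAlgSpWith AlgSp.IsSurjectiveMor (BasedFunctor.comp q (fpFst g y)) :=
    Groth.Agent.Helper6.RepComp.repByAlgSpWith_comp hUg hF _ surj_comp
      surj_localOnBase v (BasedFunctor.comp e (fpFst g y)) hvs
      (rep_equiv_comp _ e he _ hp₂)
  obtain ⟨a, ⟨ι⟩⟩ := Groth.Agent.Helper6.OverRep.exists_overMap_iso
    (BasedFunctor.comp q (fpSnd g y))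
  have ι' : BasedFunctor.comp q (fpSnd g y) ≅ AlgSt.overMap a := ι
  refine ⟨U, a, BasedFunctor.comp (BasedFunctor.comp q (fpFst g y)) u, ?_, ?_, ⟨?_⟩⟩
  · exact Groth.Agent.Helper6.RepComp.repByAlgSpWith_comp hUg hU₀ _ (locP_comp' _ good_smooth)
      Groth.Agent.Helper6.LocalFppf.smooth _ u hq₁ hu₁
  · exact Groth.Agent.Helper6.RepComp.repByAlgSpWith_comp hUg hU₀ _ surj_comp
      surj_localOnBase _ u hq₂ hu₂
  · exact whiskerLeftIso' q (fpIso g y) ≪≫ whiskerRightIso' ι' y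

end Groth.Agent.Helper6.ChartOver
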