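import Mathlib
import Groth.Prelude.Def_FibCat2
import Groth.Prelude.Def_AlgSt
import Groth.Agent.Helper3.EquivOver
import Groth.Agent.Helper3.Fp
import Groth.Agent.Helper6.FpTools
import Groth.Agent.Helper6.FpPaste
import Groth.Agent.Helper6.FpRep
import Groth.Agent.Helper6.FpMore

/-!
# Helper6: the 2-fibre product of stacks is a stack
-/

set_option autoImplicit false
set_option linter.style.haveILetI false
universe v₇ u₇ v₆ u₆ v₅ u₅ v₄ u₄ v₃ u₃ v₂ u₂ v u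

namespace Groth.Agent.Helper6.StkFp
open CategoryTheory Functor FibCat Limits
open Groth.Agent.Helper3 Groth.Agent.Helper6.FpTools

variable {C : Type u} [Category.{v} C]

section General

variable {𝒜 : BasedCategory.{v₅, u₅} C} {ℬ : BasedCategory.{v₆, u₆} C}
  {𝒳 : BasedCategory.{v₂, u₂} C} {𝒴 : BasedCategory.{v₃, u₃} C} {𝒮 : BasedCategory.{v₄, u₄} C}
  (ι : 𝒜 ⥤ᵇ ℬ) (F : 𝒳 ⥤ᵇ 𝒮) (G : 𝒴 ⥤ᵇ 𝒮)

/-- A 2-morphism into the 2-fibre product from its two components. -/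
def fpNatTrans {𝒲 : BasedCategory.{v₇, u₇} C} (H H' : 𝒲 ⥤ᵇ fp F G)
    (α₁ : BasedFunctor.comp H (fpFst F G) ⟶ BasedFunctor.comp H' (fpFst F G))
    (α₂ : BasedFunctor.comp H (fpSnd F G) ⟶ BasedFunctor.comp H' (fpSnd F G))
    (hw : ∀ w : 𝒲.obj, F.map (α₁.toNatTrans.app w) ≫ (H'.obj w).obj.iso.hom =
      (H.obj w).obj.iso.hom ≫ G.map (α₂.toNatTrans.app w)) : H ⟶ H' where
  toNatTrans :=
    { app := fun w => ObjectProperty.homMk ⟨α₁.toNatTrans.app w, α₂.toNatTrans.app w, hw w⟩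
      naturality := fun w w' k => by
        apply fp_hom_ext
        · exact α₁.toNatTrans.naturality k
        · exact α₂.toNatTrans.naturality k }
  isHomLift' := fun w => Fp.isHomLift_of_fst F G _ _ (α₁.isHomLift' w)

theorem fp_natTrans_ext {𝒲 : BasedCategory.{v₇, u₇} C} {H H' : 𝒲 ⥤ᵇ fp F G} (α β : H ⟶ H')
    (h₁ : ∀ w, (α.toNatTrans.app w).hom.fst = (β.toNatTrans.app w).hom.fst)
    (h₂ : ∀ w, (α.toNatTrans.app w).hom.snd = (β.toNatTrans.app w).hom.snd) : α = β := by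
  apply BasedNatTrans.homCategory.ext
  apply NatTrans.ext
  funext w
  exact fp_hom_ext (h₁ w) (h₂ w)

theorem restr_fp_faithful [(Stk.restr ι 𝒳).Faithful] [(Stk.restr ι 𝒴).Faithful] :
    (Stk.restr ι (fp F G)).Faithful := by
  refine ⟨fun {H H'} α β h => ?_⟩
  have h' : ∀ a : 𝒜.obj, α.toNatTrans.app (ι.obj a) = β.toNatTrans.app (ι.obj a) := fun a =>
    congrArg (fun t : BasedFunctor.comp ι H ⟶ BasedFunctor.comp ι H' => t.toNatTrans.app a) h
  have e₁ : BasedCategory.whiskerRight α (fpFst F G) = BasedCategory.whiskerRight β (fpFst F G) := by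
    apply (Stk.restr ι 𝒳).map_injective
    apply BasedNatTrans.homCategory.ext
    ext a
    exact congrArg (fun t => t.hom.fst) (h' a)
  have e₂ : BasedCategory.whiskerRight α (fpSnd F G) = BasedCategory.whiskerRight β (fpSnd F G) := by
    apply (Stk.restr ι 𝒴).map_injective
    apply BasedNatTrans.homCategory.ext
    ext a
    exact congrArg (fun t => t.hom.snd) (h' a)
  apply fp_natTrans_ext
  · intro w
    exact congrArg (fun t : BasedFunctor.comp H (fpFst F G) ⟶ BasedFunctor.comp H' (fpFst F G) =>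
      t.toNatTrans.app w) e₁
  · intro w
    exact congrArg (fun t : BasedFunctor.comp H (fpSnd F G) ⟶ BasedFunctor.comp H' (fpSnd F G) =>
      t.toNatTrans.app w) e₂

theorem restr_fp_full [(Stk.restr ι 𝒳).Full] [(Stk.restr ι 𝒴).Full] [(Stk.restr ι 𝒮).Faithful] :
    (Stk.restr ι (fp F G)).Full := by
  refine ⟨fun {H H'} γ => ?_⟩
  change BasedFunctor.comp ι H ⟶ BasedFunctor.comp ι H' at γ
  -- components
  let γ₁ : (Stk.restr ι 𝒳).obj (BasedFunctor.comp H (fpFst F G)) ⟶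
      (Stk.restr ι 𝒳).obj (BasedFunctor.comp H' (fpFst F G)) :=
    BasedCategory.whiskerRight γ (fpFst F G)
  let γ₂ : (Stk.restr ι 𝒴).obj (BasedFunctor.comp H (fpSnd F G)) ⟶
      (Stk.restr ι 𝒴).obj (BasedFunctor.comp H' (fpSnd F G)) :=
    BasedCategory.whiskerRight γ (fpSnd F G)
  obtain ⟨α₁, hα₁⟩ := (Stk.restr ι 𝒳).map_surjective γ₁
  obtain ⟨α₂, hα₂⟩ := (Stk.restr ι 𝒴).map_surjective γ₂
  have hα₁' : ∀ a : 𝒜.obj, α₁.toNatTrans.app (ι.obj a) = (γ.toNatTrans.app a).hom.fst := fun a =>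
    congrArg (fun t : (Stk.restr ι 𝒳).obj (BasedFunctor.comp H (fpFst F G)) ⟶
      (Stk.restr ι 𝒳).obj (BasedFunctor.comp H' (fpFst F G)) => t.toNatTrans.app a) hα₁
  have hα₂' : ∀ a : 𝒜.obj, α₂.toNatTrans.app (ι.obj a) = (γ.toNatTrans.app a).hom.snd := fun a =>
    congrArg (fun t : (Stk.restr ι 𝒴).obj (BasedFunctor.comp H (fpSnd F G)) ⟶
      (Stk.restr ι 𝒴).obj (BasedFunctor.comp H' (fpSnd F G)) => t.toNatTrans.app a) hα₂
  -- the two 2-morphisms `H ⋙ fpFst ⋙ F ⟶ H' ⋙ fpSnd ⋙ G`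
  let Λ₁ : BasedFunctor.comp (BasedFunctor.comp H (fpFst F G)) F ⟶
      BasedFunctor.comp (BasedFunctor.comp H' (fpSnd F G)) G :=
    BasedCategory.whiskerRight α₁ F ≫ BasedCategory.whiskerLeft H' (fpIso F G).hom
  let Λ₂ : BasedFunctor.comp (BasedFunctor.comp H (fpFst F G)) F ⟶
      BasedFunctor.comp (BasedFunctor.comp H' (fpSnd F G)) G :=
    BasedCategory.whiskerLeft H (fpIso F G).hom ≫ BasedCategory.whiskerRight α₂ G
  have hΛ : Λ₁ = Λ₂ := by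
    apply (Stk.restr ι 𝒮).map_injective
    apply BasedNatTrans.homCategory.ext
    ext a
    change F.map (α₁.toNatTrans.app (ι.obj a)) ≫ (H'.obj (ι.obj a)).obj.iso.hom =
      (H.obj (ι.obj a)).obj.iso.hom ≫ G.map (α₂.toNatTrans.app (ι.obj a))
    rw [hα₁', hα₂']
    exact (γ.toNatTrans.app a).hom.w
  have hw : ∀ w : ℬ.obj, F.map (α₁.toNatTrans.app w) ≫ (H'.obj w).obj.iso.hom =
      (H.obj w).obj.iso.hom ≫ G.map (α₂.toNatTrans.app w) := fun w =>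
    congrArg (fun t : BasedFunctor.comp (BasedFunctor.comp H (fpFst F G)) F ⟶
      BasedFunctor.comp (BasedFunctor.comp H' (fpSnd F G)) G => t.toNatTrans.app w) hΛ
  refine ⟨fpNatTrans F G H H' α₁ α₂ hw, ?_⟩
  apply fp_natTrans_ext
  · intro a
    exact hα₁' a
  · intro a
    exact hα₂' a

theorem compat_aux {D : Type*} [Category D] {A B E E' : D} (f : A ⟶ B) (i : B ⟶ E) (g' : E ⟶ E')
    (g : E' ⟶ E) (x : A ⟶ E') (hx : x = f ≫ i ≫ g') (hg : g' ≫ g = 𝟙 _) : f ≫ i = x ≫ g := by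
  rw [hx, Category.assoc, Category.assoc, hg, Category.comp_id]

theorem restr_fp_essSurj [(Stk.restr ι 𝒳).EssSurj] [(Stk.restr ι 𝒴).EssSurj] [(Stk.restr ι 𝒮).Full]
    [(Stk.restr ι 𝒮).Faithful] : (Stk.restr ι (fp F G)).EssSurj := by
  refine ⟨fun K => ?_⟩
  change 𝒜 ⥤ᵇ fp F G at K
  let K₁ : 𝒜 ⥤ᵇ 𝒳 := BasedFunctor.comp K (fpFst F G)
  let K₂ : 𝒜 ⥤ᵇ 𝒴 := BasedFunctor.comp K (fpSnd F G)
  let a : ℬ ⥤ᵇ 𝒳 := (Stk.restr ι 𝒳).objPreimage K₁
  let θ₁ : BasedFunctor.comp ι a ≅ K₁ := (Stk.restr ι 𝒳).objObjPreimageIso K₁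
  let b : ℬ ⥤ᵇ 𝒴 := (Stk.restr ι 𝒴).objPreimage K₂
  let θ₂ : BasedFunctor.comp ι b ≅ K₂ := (Stk.restr ι 𝒴).objObjPreimageIso K₂
  let ε : (Stk.restr ι 𝒮).obj (BasedFunctor.comp a F) ≅ (Stk.restr ι 𝒮).obj (BasedFunctor.comp b G) :=
    whiskerRightIso' θ₁ F ≪≫ whiskerLeftIso' K (fpIso F G) ≪≫ (whiskerRightIso' θ₂ G).symm
  let e : BasedFunctor.comp a F ≅ BasedFunctor.comp b G := (Stk.restr ι 𝒮).preimageIso ε
  have he : (Stk.restr ι 𝒮).map e.hom = ε.hom := (Stk.restr ι 𝒮).map_preimage ε.hom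
  let H : ℬ ⥤ᵇ fp F G := fpLift a b e
  have key : ∀ w : 𝒜.obj, e.hom.toNatTrans.app (ι.obj w) =
      F.map (θ₁.hom.toNatTrans.app w) ≫ (K.obj w).obj.iso.hom ≫ G.map (θ₂.inv.toNatTrans.app w) :=
    fun w => congrArg (fun t : (Stk.restr ι 𝒮).obj (BasedFunctor.comp a F) ⟶
      (Stk.restr ι 𝒮).obj (BasedFunctor.comp b G) => t.toNatTrans.app w) he
  -- the components
  let c₁ : ∀ w : 𝒜.obj, a.obj (ι.obj w) ≅ (K.obj w).obj.fst := fun w =>
    ((BasedNatTrans.forgetful _ _).mapIso θ₁).app w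
  let c₂ : ∀ w : 𝒜.obj, b.obj (ι.obj w) ≅ (K.obj w).obj.snd := fun w =>
    ((BasedNatTrans.forgetful _ _).mapIso θ₂).app w
  have hc₂ : ∀ w : 𝒜.obj, G.map (θ₂.inv.toNatTrans.app w) ≫ G.map (c₂ w).hom = 𝟙 _ := by
    intro w
    change G.toFunctor.map (c₂ w).inv ≫ G.toFunctor.map (c₂ w).hom = 𝟙 _
    rw [← Functor.map_comp, Iso.inv_hom_id]
    exact G.toFunctor.map_id _
  have hcompat : ∀ w : 𝒜.obj, F.map (c₁ w).hom ≫ (K.obj w).obj.iso.hom =
      (H.obj (ι.obj w)).obj.iso.hom ≫ G.map (c₂ w).hom := by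
    intro w
    exact compat_aux (F.map (θ₁.hom.toNatTrans.app w)) (K.obj w).obj.iso.hom
      (G.map (θ₂.inv.toNatTrans.app w)) (G.map (c₂ w).hom) (e.hom.toNatTrans.app (ι.obj w)) (key w)
      (hc₂ w)
  let comp : ∀ w : 𝒜.obj, (BasedFunctor.comp ι H).obj w ≅ K.obj w := fun w =>
    fpMkIso (x := H.obj (ι.obj w)) (z := K.obj w) (c₁ w) (c₂ w) (hcompat w)
  refine ⟨H, ⟨BasedNatIso.mkNatIso (NatIso.ofComponents comp ?_) ?_⟩⟩
  · intro w w' k
    apply fp_hom_ext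
    · exact θ₁.hom.toNatTrans.naturality k
    · exact θ₂.hom.toNatTrans.naturality k
  · intro w
    exact fpMkIso_lift (x := H.obj (ι.obj w)) (z := K.obj w) (c₁ w) (c₂ w) (hcompat w)
      (θ₁.hom.isHomLift' w)

/-- Gluing for the 2-fibre product. -/
theorem restr_fp_isEquivalence [(Stk.restr ι 𝒳).IsEquivalence] [(Stk.restr ι 𝒴).IsEquivalence]
    [(Stk.restr ι 𝒮).Full] [(Stk.restr ι 𝒮).Faithful] : (Stk.restr ι (fp F G)).IsEquivalence :=
  { faithful := restr_fp_faithful ι F G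
    full := restr_fp_full ι F G
    essSurj := restr_fp_essSurj ι F G }

end General

end Groth.Agent.Helper6.StkFp
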