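import Mathlib
import Groth.Agent.Helper6.ChartOver
import Groth.Agent.Helper6.StkFp
import Groth.Agent.Helper6.FpSwap
import Groth.Agent.S12792

/-!
# Helper6: 2-fibre products of algebraic stacks are algebraic stacks
-/

set_option autoImplicit false
set_option linter.style.haveILetI false
set_option linter.unusedVariables false
universe u

namespace Groth.Agent.Helper6.FpAlg
open CategoryTheory Functor FibCat Limits AlgebraicGeometry Opposite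
open Groth.Agent.Helper3 Groth.Agent.Helper6.FpTools Groth.Agent.Helper6.AlgStBC
open Groth.Agent.Helper6.AlgStInv Groth.Agent.Helper6.SpAtlas Groth.Agent.Helper6.ChartOver
open Groth.Agent.Helper6.ToSpace Groth.Agent.Helper4.SDClasses AlgSp
open Groth.Agent.Helper6.DiagRed Groth.Agent.Helper6.DiagComp Groth.Agent.Helper6.DiagRep
open Groth.Agent.Helper6.OfComp

variable {S : Scheme.{u}} {𝒳 𝒴 𝒵 : AlgSt.Cat S}

/-- `OfComp.repByAlgSp1_diag` with the hypotheses actually used -/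
theorem repByAlgSp1_diag' (h𝒴 : IsFibGrpd 𝒴.p) (h𝒵 : IsFibGrpd 𝒵.p)
    (hΔ𝒴 : AlgSt.RepByAlgSp1 (diag (toSelf 𝒴))) (hΔ𝒵 : AlgSt.RepByAlgSp1 (diag (toSelf 𝒵)))
    (g : 𝒴 ⥤ᵇ 𝒵) : AlgSt.RepByAlgSp1 (diag g) := by
  have hselfO : IsFibGrpd (selfOver (Over S)).p := Groth.Agent.Helper3.FibGrpd.isFibGrpd_id
  rw [repByAlgSp1_iff_top]
  have hd : AlgSt.RepByAlgSpWith ⊤ (diag (toSelf 𝒴)) := (repByAlgSp1_iff_top _).1 hΔ𝒴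
  have θ : BasedFunctor.comp (BasedFunctor.comp g (toSelf 𝒵)) (BasedFunctor.id _) ≅
      BasedFunctor.comp (BasedFunctor.id _) (toSelf 𝒴) := (toSelfIso g).symm
  have h1 : AlgSt.RepByAlgSpWith ⊤ (diag (BasedFunctor.comp g (toSelf 𝒵))) :=
    (repByAlgSpWith_iff_of_square ⊤ (diag (toSelf 𝒴)) (diag (BasedFunctor.comp g (toSelf 𝒵)))
      (BasedFunctor.id _)
      (prodFun (toSelf 𝒴) (BasedFunctor.comp g (toSelf 𝒵)) (BasedFunctor.id _) (BasedFunctor.id _) θ)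
      (isEquivOver_id _) (isEquivOver_prodFun _ _ _ _ _ (isEquivOver_id _) (isEquivOver_id _))
      (diagSq _ _ _ _ _)).1 hd
  have h2 : AlgSt.RepByAlgSpWith ⊤ (diag (diag (toSelf 𝒵))) :=
    rep_mono' (fun _ _ _ _ => trivial) _ (isMono_diag (diag (toSelf 𝒵)) hΔ𝒵)
  exact diag_of_comp h𝒴 h𝒵 hselfO ⊤ (fun _ _ _ _ _ _ _ _ _ _ => trivial)
    Groth.Agent.Helper6.TauLib.isLocalOnBase_top g (toSelf 𝒵) h1 h2

/-- the diagonal of a 2-fibre product is representable by algebraic spaces -/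
theorem repByAlgSp1_diag_fp (h𝒳 : IsFibGrpd 𝒳.p) (h𝒴 : IsFibGrpd 𝒴.p) (h𝒵 : IsFibGrpd 𝒵.p)
    (hΔ𝒳 : AlgSt.RepByAlgSp1 (diag (toSelf 𝒳)))
    (hΔ𝒴 : AlgSt.RepByAlgSp1 (diag (toSelf 𝒴))) (hΔ𝒵 : AlgSt.RepByAlgSp1 (diag (toSelf 𝒵)))
    (f : 𝒳 ⥤ᵇ 𝒵) (g : 𝒴 ⥤ᵇ 𝒵) : AlgSt.RepByAlgSp1 (diag (toSelf (fp f g))) := by
  apply Groth.Agent.Helper6.AlgStDiagIff.backward
  intro U G
  have hU : IsFibGrpd (overCat U).p := Groth.Agent.Helper9.FibRep.isFibGrpd_overCat U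
  rw [repByAlgSp1_iff_top]
  have h1 : AlgSt.RepByAlgSpWith ⊤ (BasedFunctor.comp G (fpFst f g)) :=
    (repByAlgSp1_iff_top _).1 (Groth.Agent.Helper6.AlgStDiagIff.forward hΔ𝒳 U _)
  have h2 : AlgSt.RepByAlgSpWith ⊤ (diag (fpFst f g)) :=
    Groth.Agent.Helper6.AlgStDiag.repByAlgSpWith_diag_fpFst ⊤ g f
      ((repByAlgSp1_iff_top _).1 (repByAlgSp1_diag' h𝒴 h𝒵 hΔ𝒴 hΔ𝒵 g))
  exact cancel hU (isFibGrpd_fp f g h𝒳 h𝒴 h𝒵) h𝒳 ⊤ (fun _ _ _ _ _ _ _ _ _ _ => trivial)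
    Groth.Agent.Helper6.TauLib.isLocalOnBase_top G (fpFst f g) h1 h2

section Atlas

variable {𝒰 𝒱 : AlgSt.Cat S}

/-- base change on the left leg -/
theorem rep_pasteInner (P : MorphismProperty (Sp S)) (u : 𝒰 ⥤ᵇ 𝒳) (f : 𝒳 ⥤ᵇ 𝒵) (h : 𝒴 ⥤ᵇ 𝒵)
    (hu : AlgSt.RepByAlgSpWith P u) : AlgSt.RepByAlgSpWith P (pasteInner u f h) := by
  have h1 : AlgSt.RepByAlgSpWith P (fpSnd u (fpFst f h)) :=
    repByAlgSpWith_of_baseChange P u (fpFst f h) (fpSnd u (fpFst f h)) (fpSwap u (fpFst f h))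
      (isEquivOver_fpSwap _ _) (Iso.refl _) hu
  exact repByAlgSpWith_of_square P (fpSnd u (fpFst f h)) (pasteInner u f h) (pasteLeft u f h)
    (BasedFunctor.id _) (isEquivOver_pasteLeft u f h) (isEquivOver_id _) (Iso.refl _) h1

/-- `𝒳 ×_𝒵 𝒱 ⟶ 𝒳 ×_𝒵 𝒴` -/
def rightMap (f : 𝒳 ⥤ᵇ 𝒵) (h : 𝒴 ⥤ᵇ 𝒵) (v : 𝒱 ⥤ᵇ 𝒴) : fp f (BasedFunctor.comp v h) ⥤ᵇ fp f h :=
  BasedFunctor.comp (fpSwap f (BasedFunctor.comp v h))
    (BasedFunctor.comp (pasteInner v h f) (fpSwap h f))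

theorem rep_rightMap (P : MorphismProperty (Sp S)) (f : 𝒳 ⥤ᵇ 𝒵) (h : 𝒴 ⥤ᵇ 𝒵) (v : 𝒱 ⥤ᵇ 𝒴)
    (hv : AlgSt.RepByAlgSpWith P v) : AlgSt.RepByAlgSpWith P (rightMap f h v) :=
  rep_equiv_comp P _ (isEquivOver_fpSwap _ _) _
    ((repByAlgSpWith_comp_equiv P _ (fpSwap h f) (isEquivOver_fpSwap _ _)).1
      (rep_pasteInner P v h f hv))

theorem hasAtlas_fp (h𝒳 : AlgSt.IsAlgStack Scheme.fppfPrecoverage 𝒳)
    (h𝒴 : AlgSt.IsAlgStack Scheme.fppfPrecoverage 𝒴) (h𝒵 : IsFibGrpd 𝒵.p)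
    (hΔ𝒵 : AlgSt.RepByAlgSp1 (diag (toSelf 𝒵))) (f : 𝒳 ⥤ᵇ 𝒵) (g : 𝒴 ⥤ᵇ 𝒵) :
    AlgSt.HasAtlas (LocP @Smooth) (fp f g) := by
  obtain ⟨U₀, u, hu₁, hu₂⟩ := h𝒳.atlas
  obtain ⟨V₀, v, hv₁, hv₂⟩ := h𝒴.atlas
  have hX : IsFibGrpd 𝒳.p := h𝒳.isStack.1
  have hY : IsFibGrpd 𝒴.p := h𝒴.isStack.1
  have hU₀ : IsFibGrpd (overCat U₀).p := Groth.Agent.Helper9.FibRep.isFibGrpd_overCat U₀
  have hV₀ : IsFibGrpd (overCat V₀).p := Groth.Agent.Helper9.FibRep.isFibGrpd_overCat V₀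
  let Ψ : fp (BasedFunctor.comp u f) (BasedFunctor.comp v g) ⥤ᵇ fp f g :=
    BasedFunctor.comp (pasteInner u f (BasedFunctor.comp v g)) (rightMap f g v)
  have hW1 : IsFibGrpd (fp (BasedFunctor.comp u f) (BasedFunctor.comp v g)).p :=
    isFibGrpd_fp _ _ hU₀ hV₀ h𝒵
  have hW2 : IsFibGrpd (fp f (BasedFunctor.comp v g)).p := isFibGrpd_fp _ _ hX hV₀ h𝒵
  have hΨ₁ : AlgSt.RepByAlgSpWith (LocP @Smooth) Ψ :=
    Groth.Agent.Helper6.RepComp.repByAlgSpWith_comp hW1 hW2 _ (locP_comp' _ good_smooth)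
      Groth.Agent.Helper6.LocalFppf.smooth _ _ (rep_pasteInner _ u f _ hu₁) (rep_rightMap _ f g v hv₁)
  have hΨ₂ : AlgSt.RepByAlgSpWith IsSurjectiveMor Ψ :=
    Groth.Agent.Helper6.RepComp.repByAlgSpWith_comp hW1 hW2 _ surj_comp
      surj_localOnBase _ _ (rep_pasteInner _ u f _ hu₂) (rep_rightMap _ f g v hv₂)
  obtain ⟨W, e, he⟩ := (Groth.Agent.Helper6.AlgStDiagIff.forward hΔ𝒵 V₀ (BasedFunctor.comp v g))
    U₀ (BasedFunctor.comp u f)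
  obtain ⟨T, a, -, has, haQ⟩ := exists_etale_atlas W.obj W.property
  have hT : IsFibGrpd (overCat T).p := Groth.Agent.Helper9.FibRep.isFibGrpd_overCat T
  have hWg : IsFibGrpd (AlgSt.ofSp W.obj).p := (isFibSetoid_ofPsh _).1
  refine ⟨T, BasedFunctor.comp a (BasedFunctor.comp e Ψ), ?_, ?_⟩
  · exact Groth.Agent.Helper6.RepComp.repByAlgSpWith_comp hT hWg _ (locP_comp' _ good_smooth)
      Groth.Agent.Helper6.LocalFppf.smooth a _ (haQ _ good_smooth.comp good_smooth.etale_le)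
      (rep_equiv_comp _ e he Ψ hΨ₁)
  · exact Groth.Agent.Helper6.RepComp.repByAlgSpWith_comp hT hWg _ surj_comp
      surj_localOnBase a _ has (rep_equiv_comp _ e he Ψ hΨ₂)

end Atlas

theorem isPrestack_of_isStack {C : Type*} [Category C] (J : GrothendieckTopology C)
    {𝒳 : BasedCategory C} (h : Stk.IsStack J 𝒳) : Stk.IsPrestack J 𝒳 := by
  refine ⟨h.1, fun U R hR => ?_⟩
  haveI : (Stk.resSieve R 𝒳).IsEquivalence := h.2 R hR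
  exact ⟨inferInstance, inferInstance⟩

/-- S12763 -/
theorem isAlgStack_fp (h𝒵 : Stk.IsStack (QuotSh.J Scheme.fppfPrecoverage S) 𝒵)
    (hΔ : AlgSt.RepByAlgSp1 (diag (toSelf 𝒵)))
    (h𝒳 : AlgSt.IsAlgStack Scheme.fppfPrecoverage 𝒳) (h𝒴 : AlgSt.IsAlgStack Scheme.fppfPrecoverage 𝒴)
    (f : 𝒳 ⥤ᵇ 𝒵) (g : 𝒴 ⥤ᵇ 𝒵) : AlgSt.IsAlgStack Scheme.fppfPrecoverage (fp f g) :=
  ⟨Groth.Agent.S12792.result _ f g h𝒳.isStack h𝒴.isStack (isPrestack_of_isStack _ h𝒵),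
    repByAlgSp1_diag_fp h𝒳.isStack.1 h𝒴.isStack.1 h𝒵.1 h𝒳.diag h𝒴.diag hΔ f g,
    hasAtlas_fp h𝒳 h𝒴 h𝒵.1 hΔ f g⟩

end Groth.Agent.Helper6.FpAlg
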