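import Mathlib
import Groth.Agent.Helper6.FpPaste
import Groth.Agent.Helper6.FpRep

/-!
# Helper6: 2-isomorphisms between functors into a 2-fibre product
-/

set_option autoImplicit false
set_option linter.style.haveILetI false
universe v₇ u₇ v₆ u₆ v₅ u₅ v₄ u₄ v₃ u₃ v₂ u₂ v u

namespace Groth.Agent.Helper6.FpTools
open CategoryTheory Functor FibCat Limits
open Groth.Agent.Helper3

variable {C : Type u} [Category.{v} C]

section LiftIso

variable {𝒳 : BasedCategory.{v₂, u₂} C} {𝒴 : BasedCategory.{v₃, u₃} C} {𝒮 : BasedCategory.{v₄, u₄} C}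
  {𝒲 : BasedCategory.{v₅, u₅} C} {F : 𝒳 ⥤ᵇ 𝒮} {G : 𝒴 ⥤ᵇ 𝒮}

/-- isomorphic data give isomorphic lifts to the 2-fibre product -/
def fpLiftIso {a a' : 𝒲 ⥤ᵇ 𝒳} {b b' : 𝒲 ⥤ᵇ 𝒴}
    (e : BasedFunctor.comp a F ≅ BasedFunctor.comp b G)
    (e' : BasedFunctor.comp a' F ≅ BasedFunctor.comp b' G)
    (ia : a ≅ a') (ib : b ≅ b')
    (hc : ∀ w : 𝒲.obj, F.map (appIso ia w).hom ≫ (appIso e' w).hom =
      (appIso e w).hom ≫ G.map (appIso ib w).hom) :
    fpLift a b e ≅ fpLift a' b' e' :=
  BasedNatIso.mkNatIso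
    (NatIso.ofComponents
      (fun w => fpMkIso (x := (fpLift a b e).obj w) (z := (fpLift a' b' e').obj w)
        (appIso ia w) (appIso ib w) (hc w))
      (fun {w w'} k => by
        apply fp_hom_ext
        · exact appIso_hom_naturality ia k
        · exact appIso_hom_naturality ib k))
    (fun w => fpMkIso_lift _ _ _ (appIso_hom_lift ia w rfl))

/-- every functor to a 2-fibre product is the lift of its components -/
def fpLiftEta (u : 𝒲 ⥤ᵇ fp F G) :
    u ≅ fpLift (BasedFunctor.comp u (fpFst F G)) (BasedFunctor.comp u (fpSnd F G))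
      (whiskerLeftIso' u (fpIso F G)) :=
  BasedNatIso.mkNatIso
    (NatIso.ofComponents
      (fun w => fpMkIso (x := u.obj w)
        (z := (fpLift (BasedFunctor.comp u (fpFst F G)) (BasedFunctor.comp u (fpSnd F G))
          (whiskerLeftIso' u (fpIso F G))).obj w)
        (Iso.refl _) (Iso.refl _) (by
          change F.map (𝟙 _) ≫ (u.obj w).obj.iso.hom = (u.obj w).obj.iso.hom ≫ G.map (𝟙 _)
          rw [F.toFunctor.map_id, G.toFunctor.map_id, Category.id_comp, Category.comp_id]))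
      (fun {w w'} k => by
        apply fp_hom_ext
        · change (u.map k).hom.fst ≫ 𝟙 _ = 𝟙 _ ≫ (u.map k).hom.fst
          rw [Category.comp_id, Category.id_comp]
        · change (u.map k).hom.snd ≫ 𝟙 _ = 𝟙 _ ≫ (u.map k).hom.snd
          rw [Category.comp_id, Category.id_comp]))
    (fun w => fpMkIso_lift _ _ _ (IsHomLift.id (u.w_obj w)))

end LiftIso

end Groth.Agent.Helper6.FpTools
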