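import Mathlib
import Groth.Agent.Helper6.ChartOver
import Groth.Agent.Helper6.FpSwap

/-!
# Helper6: comparing two charts of a stack on a common scheme refinement
-/

set_option autoImplicit false
set_option linter.style.haveILetI false
set_option linter.unusedVariables false
universe u

namespace Groth.Agent.Helper6.ChartCmp
open CategoryTheory Functor FibCat Limits AlgebraicGeometry Opposite
open Groth.Agent.Helper3 Stk Groth.Agent.Helper6.OfPsh Groth.Agent.Helper6.OfPshHom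
open Groth.Agent.Helper6.FpTools Groth.Agent.Helper6.OfPshFp Groth.Agent.Helper6.AlgStRep
open Groth.Agent.Helper6.AlgStEquiv Groth.Agent.Helper6.AlgStInv Groth.Agent.Helper6.AlgStPsh
open Groth.Agent.Helper6.DiagRed Groth.Agent.Helper6.RepDiag Groth.Agent.Helper6.RepComp
open Groth.Agent.Helper6.DiagRep Groth.Agent.Helper6.Descent1 Groth.Agent.Helper6.OverRep
open Groth.Agent.Helper6.Descent2
open AlgSp

variable {S : Scheme.{u}} {𝒳 : AlgSt.Cat S}

set_option backward.isDefEq.respectTransparency.types false in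
/-- two charts `x`, `x'` of `𝒳` compared on a scheme `V` etale over `U' ×_𝒳 U` -/
theorem compare (Q₁ Q₂ : MorphismProperty Scheme.{u}) {U U' : Over S}
    (x : overCat U ⥤ᵇ 𝒳) (x' : overCat U' ⥤ᵇ 𝒳)
    (hx : AlgSt.RepByAlgSpWith (LocP Q₁) x) (hx' : AlgSt.RepByAlgSpWith (LocP Q₂) x') :
    ∃ (V : Over S) (h₁ : V ⟶ U') (h₂ : V ⟶ U), Q₁ h₁.left ∧ Q₂ h₂.left ∧
      (AlgSt.RepByAlgSpWith IsSurjectiveMor x → Function.Surjective h₁.left) ∧
      Nonempty (BasedFunctor.comp (AlgSt.overMap h₁) x' ≅ BasedFunctor.comp (AlgSt.overMap h₂) x) := by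
  obtain ⟨F, e, he, h1⟩ := hx U' x'
  obtain ⟨F₂, e₂, he₂, h2'⟩ := hx' U x
  have hes : IsEquivOver (BasedFunctor.comp e (fpSwap x' x)) :=
    isEquivOver_comp he (isEquivOver_fpSwap x' x)
  have h2 := P_of_chart' _ (locP_iso_comp Q₂) (fpFst x x') (BasedFunctor.comp e (fpSwap x' x)) hes
    e₂ he₂ h2'
  obtain ⟨c₁, ⟨θ₁⟩⟩ := exists_ofSpMap_iso (BasedFunctor.comp e (fpFst x' x))
  obtain ⟨c₂, ⟨θ₂⟩⟩ := exists_ofSpMap_iso
    (BasedFunctor.comp (BasedFunctor.comp e (fpSwap x' x)) (fpFst x x'))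
  rw [spMapOfOver_congr θ₁, spMapOfOver_ofSpMap_toOverCat] at h1
  rw [spMapOfOver_congr θ₂, spMapOfOver_ofSpMap_toOverCat] at h2
  obtain ⟨V, p, hpe, hps⟩ := F.property.atlas
  obtain ⟨h₁, hh₁⟩ := (yon S).map_surjective (p ≫ c₁)
  obtain ⟨h₂, hh₂⟩ := (yon S).map_surjective (p ≫ c₂)
  have k1 : Q₁ h₁.left := h1 p (𝟙 _) h₁ hpe (repWith_id _ U') (by rw [hh₁, Category.comp_id])
  have k2 : Q₂ h₂.left := h2 p (𝟙 _) h₂ hpe (repWith_id _ U) (by rw [hh₂, Category.comp_id])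
  refine ⟨V, h₁, h₂, k1, k2, ?_, ⟨?_⟩⟩
  · intro hxs t
    obtain ⟨F₃, e₃, he₃, h3'⟩ := hxs U' x'
    have h3 := P_of_chart' _ surj_iso_comp (fpFst x' x) e he e₃ he₃ h3'
    rw [spMapOfOver_congr θ₁, spMapOfOver_ofSpMap_toOverCat] at h3
    obtain ⟨w, hw⟩ := h3 (Points.schemeHomeo U' t)
    obtain ⟨v', hv'⟩ := Groth.Agent.Helper4.AlgSpPts.isSurjectiveMor_of_repWith p hps w
    refine ⟨(Points.schemeHomeo V).symm v', ?_⟩
    apply (Points.schemeHomeo U').injective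
    have := Points.map_yon_map_apply h₁ ((Points.schemeHomeo V).symm v')
    rw [Homeomorph.apply_symm_apply, hh₁, Points.map_comp] at this
    change Points.schemeHomeo U' (h₁.left ((Points.schemeHomeo V).symm v')) = _
    rw [← this]
    rw [hv', hw]
  · let q : overCat V ⥤ᵇ fp x' x :=
      BasedFunctor.comp (AlgSt.ofOverCat V) (BasedFunctor.comp (AlgSt.ofSpMap p) e)
    have l1 : BasedFunctor.comp q (fpFst x' x) ≅
        BasedFunctor.comp (AlgSt.ofOverCat V)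
          (BasedFunctor.comp (AlgSt.ofSpMap (p ≫ c₁)) (AlgSt.toOverCat U')) :=
      whiskerLeftIso' (AlgSt.ofOverCat V) (whiskerLeftIso' (AlgSt.ofSpMap p) θ₁)
    have l2 : BasedFunctor.comp (AlgSt.ofOverCat V)
        (BasedFunctor.comp (AlgSt.ofSpMap (p ≫ c₁)) (AlgSt.toOverCat U')) ≅ AlgSt.overMap h₁ :=
      whiskerLeftIso' (AlgSt.ofOverCat V) (overMapIso' h₁ (p ≫ c₁) hh₁.symm)
    have m1 : BasedFunctor.comp q (fpSnd x' x) ≅
        BasedFunctor.comp (AlgSt.ofOverCat V)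
          (BasedFunctor.comp (AlgSt.ofSpMap (p ≫ c₂)) (AlgSt.toOverCat U)) :=
      whiskerLeftIso' (AlgSt.ofOverCat V) (whiskerLeftIso' (AlgSt.ofSpMap p) θ₂)
    have m2 : BasedFunctor.comp (AlgSt.ofOverCat V)
        (BasedFunctor.comp (AlgSt.ofSpMap (p ≫ c₂)) (AlgSt.toOverCat U)) ≅ AlgSt.overMap h₂ :=
      whiskerLeftIso' (AlgSt.ofOverCat V) (overMapIso' h₂ (p ≫ c₂) hh₂.symm)
    exact (whiskerRightIso' (l1 ≪≫ l2) x').symm ≪≫ whiskerLeftIso' q (fpIso x' x) ≪≫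
      whiskerRightIso' (m1 ≪≫ m2) x

end Groth.Agent.Helper6.ChartCmp
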