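import Mathlib
import Groth.Agent.Helper6.ChartCmp
import Groth.Agent.S12846

/-!
# Helper6: smooth-local properties of stacks via scheme and space charts
-/

set_option autoImplicit false
set_option linter.style.haveILetI false
set_option linter.unusedVariables false
universe u

namespace Groth.Agent.Helper6.SmLoc
open CategoryTheory Functor FibCat Limits AlgebraicGeometry Opposite
open Groth.Agent.Helper3 Groth.Agent.Helper6.FpTools Groth.Agent.Helper6.AlgStBC
open Groth.Agent.Helper6.AlgStInv Groth.Agent.Helper6.SpAtlas Groth.Agent.Helper6.ChartOver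
open Groth.Agent.Helper6.ToSpace Groth.Agent.Helper4.SDClasses AlgSp
open Groth.Agent.S12846

variable {S : Scheme.{u}} {𝒳 : AlgSt.Cat S}

/-- the local condition on `P` -/
def LocalSm (P : Scheme.{u} → Prop) : Prop :=
  ∀ (U : Scheme.{u}) (R : Presieve U), R ∈ Scheme.precoverage @Smooth U →
    (P U ↔ ∀ ⦃V : Scheme.{u}⦄ (g : V ⟶ U), R g → P V)

theorem smoothLocally_of_chart (P : Scheme.{u} → Prop) (hP : LocalSm P) {U : Over S}
    (x : overCat U ⥤ᵇ 𝒳) (hx₁ : AlgSt.RepByAlgSpWith (AlgSp.LocP @Smooth) x)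
    (hx₂ : AlgSt.RepByAlgSpWith AlgSp.IsSurjectiveMor x) (hPU : P U.left) :
    AlgSt.SmoothLocally P 𝒳 := by
  intro U' x' hx'
  obtain ⟨V, h₁, h₂, k1, k2, ks, -⟩ :=
    Groth.Agent.Helper6.ChartCmp.compare @Smooth @Smooth x x' hx₁ hx'
  exact pass_up P hP h₁.left k1 (ks hx₂) (pass_down P hP h₂.left k2 hPU)

/-- the chart of an algebraic space given by an etale map from a scheme -/
noncomputable abbrev atlasChart {V₀ : Over S} {W : Sp S} (p : (yon S).obj V₀ ⟶ W) :
    overCat V₀ ⥤ᵇ AlgSt.ofSp W :=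
  BasedFunctor.comp (AlgSt.ofOverCat V₀) (AlgSt.ofSpMap p)

theorem atlasChart_smooth {V₀ : Over S} {W : Sp S} (p : (yon S).obj V₀ ⟶ W)
    (hpe : RepWith @Etale p) : AlgSt.RepByAlgSpWith (LocP @Smooth) (atlasChart p) := by
  have i1 := repWith_isStableUnderBaseChange (S := S) @Etale
  haveI := good_smooth.{u}.comp
  exact rep_atlasFunctor _ p hpe.rep (fun V ξ F' fst snd sq =>
    Groth.Agent.Helper4.AlgSpLocP.locP_of_repWith @Smooth @Etale
      (fun g hg => good_smooth.etale_le g hg) (fun g hg => good_smooth.etale_le g hg) snd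
      (MorphismProperty.of_isPullback sq hpe))

theorem atlasChart_surj {V₀ : Over S} {W : Sp S} (p : (yon S).obj V₀ ⟶ W)
    (hpe : RepWith @Etale p) (hps : RepWith @Surjective p) :
    AlgSt.RepByAlgSpWith IsSurjectiveMor (atlasChart p) := by
  have i2 := repWith_isStableUnderBaseChange (S := S) @Surjective
  exact rep_atlasFunctor _ p hpe.rep (fun V ξ F' fst snd sq =>
    Groth.Agent.Helper4.AlgSpPts.isSurjectiveMor_of_repWith snd
      (MorphismProperty.of_isPullback sq hps))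

set_option backward.isDefEq.respectTransparency.types false in
theorem etaleLocally_yon_iff (P : Scheme.{u} → Prop) (hP : LocalSm P) (U : Over S) :
    EtaleLocally P ((yon S).obj U) ↔ P U.left := by
  constructor
  · rintro ⟨V, p, hpe, hps, hPV⟩
    obtain ⟨h, rfl⟩ := (yon S).map_surjective p
    have h1 : Etale h.left := (repWith_yon_map_iff @Etale h).1 hpe
    have h2 : Surjective h.left := (repWith_yon_map_iff @Surjective h).1 hps
    exact pass_up P hP h.left (by infer_instance) h2.surj hPV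
  · intro h
    exact ⟨U, 𝟙 _, repWith_id _ U, repWith_id _ U, h⟩

theorem smoothLocally_ofSp_iff (P : Scheme.{u} → Prop) (hP : LocalSm P) (X : Sp S)
    (hX : IsAlgSpace X) : AlgSt.SmoothLocally P (AlgSt.ofSp X) ↔ EtaleLocally P X := by
  constructor
  · intro h
    obtain ⟨V₀, p, hpe, hps⟩ := hX.atlas
    exact ⟨V₀, p, hpe, hps, h V₀ (atlasChart p) (atlasChart_smooth p hpe)⟩
  · rintro ⟨U, p, hpe, hps, hPU⟩
    exact smoothLocally_of_chart P hP (atlasChart p) (atlasChart_smooth p hpe)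
      (atlasChart_surj p hpe hps) hPU

theorem comp_atlasChart_smooth (h𝒳 : IsFibGrpd 𝒳.p) {V₀ : Over S} (W : AlgSp.Space S)
    (p : (yon S).obj V₀ ⟶ W.obj)
    (hpe : RepWith @Etale p) (x : AlgSt.ofSp W.obj ⥤ᵇ 𝒳)
    (hx : AlgSt.RepByAlgSpWith (LocP @Smooth) x) :
    AlgSt.RepByAlgSpWith (LocP @Smooth) (BasedFunctor.comp (atlasChart p) x) :=
  Groth.Agent.Helper6.RepComp.repByAlgSpWith_comp
    (Groth.Agent.Helper9.FibRep.isFibGrpd_overCat V₀) (isFibSetoid_ofPsh _).1 _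
    (locP_comp' _ good_smooth) Groth.Agent.Helper6.LocalFppf.smooth (atlasChart p) x
    (atlasChart_smooth p hpe) hx

theorem comp_atlasChart_surj (h𝒳 : IsFibGrpd 𝒳.p) {V₀ : Over S} (W : AlgSp.Space S)
    (p : (yon S).obj V₀ ⟶ W.obj)
    (hpe : RepWith @Etale p) (hps : RepWith @Surjective p) (x : AlgSt.ofSp W.obj ⥤ᵇ 𝒳)
    (hx : AlgSt.RepByAlgSpWith IsSurjectiveMor x) :
    AlgSt.RepByAlgSpWith IsSurjectiveMor (BasedFunctor.comp (atlasChart p) x) :=
  Groth.Agent.Helper6.RepComp.repByAlgSpWith_comp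
    (Groth.Agent.Helper9.FibRep.isFibGrpd_overCat V₀) (isFibSetoid_ofPsh _).1 _
    surj_comp surj_localOnBase (atlasChart p) x (atlasChart_surj p hpe hps) hx

theorem smoothLocally_iff_space_charts (h𝒳 : IsFibGrpd 𝒳.p) (P : Scheme.{u} → Prop)
    (hP : LocalSm P) :
    AlgSt.SmoothLocally P 𝒳 ↔
      ∀ (U : AlgSp.Space S) (x : AlgSt.ofSp U.obj ⥤ᵇ 𝒳),
        AlgSt.RepByAlgSpWith (AlgSp.LocP @Smooth) x → AlgSp.EtaleLocally P U.obj := by
  constructor
  · intro h U x hx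
    obtain ⟨V₀, p, hpe, hps⟩ := U.property.atlas
    exact ⟨V₀, p, hpe, hps, h V₀ _ (comp_atlasChart_smooth h𝒳 U p hpe x hx)⟩
  · intro h U' x' hx'
    have := h ⟨(yon S).obj U', IsAlgSpace.yon_obj U'⟩ (BasedFunctor.comp (AlgSt.toOverCat U') x')
      (rep_equiv_comp _ (AlgSt.toOverCat U')
        (Groth.Agent.Helper6.AlgStEquiv.isEquivOver_toOverCat U') x' hx')
    exact (etaleLocally_yon_iff P hP U').1 this

theorem smoothLocally_iff_exists_space_chart (h𝒳 : AlgSt.IsAlgStack Scheme.fppfPrecoverage 𝒳)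
    (P : Scheme.{u} → Prop) (hP : LocalSm P) :
    AlgSt.SmoothLocally P 𝒳 ↔
      ∃ (U : AlgSp.Space S) (x : AlgSt.ofSp U.obj ⥤ᵇ 𝒳),
        AlgSt.RepByAlgSpWith (AlgSp.LocP @Smooth) x ∧ AlgSt.RepByAlgSpWith AlgSp.IsSurjectiveMor x ∧
          AlgSp.EtaleLocally P U.obj := by
  constructor
  · intro h
    obtain ⟨U₀, u, hu₁, hu₂⟩ := h𝒳.atlas
    exact ⟨⟨(yon S).obj U₀, IsAlgSpace.yon_obj U₀⟩, BasedFunctor.comp (AlgSt.toOverCat U₀) u,
      rep_equiv_comp _ _ (Groth.Agent.Helper6.AlgStEquiv.isEquivOver_toOverCat U₀) u hu₁,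
      rep_equiv_comp _ _ (Groth.Agent.Helper6.AlgStEquiv.isEquivOver_toOverCat U₀) u hu₂,
      (etaleLocally_yon_iff P hP U₀).2 (h U₀ u hu₁)⟩
  · rintro ⟨U, x, hx₁, hx₂, V₀, p, hpe, hps, hPV⟩
    exact smoothLocally_of_chart P hP _ (comp_atlasChart_smooth h𝒳.isStack.1 U p hpe x hx₁)
      (comp_atlasChart_surj h𝒳.isStack.1 U p hpe hps x hx₂) hPV

end Groth.Agent.Helper6.SmLoc
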