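import Mathlib
import Groth.Agent.Helper6.SmLoc

/-!
# Helper6: quasi-compact stacks via compact scheme charts and quasi-compact space charts
-/

set_option autoImplicit false
set_option linter.style.haveILetI false
set_option linter.unusedVariables false
universe u

namespace Groth.Agent.Helper6.QcChart
open CategoryTheory Functor FibCat Limits AlgebraicGeometry Opposite
open Groth.Agent.Helper3 Groth.Agent.Helper6.FpTools Groth.Agent.Helper6.AlgStBC
open Groth.Agent.Helper6.AlgStInv Groth.Agent.Helper6.SpAtlas Groth.Agent.Helper6.ChartOver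
open Groth.Agent.Helper6.ToSpace Groth.Agent.Helper4.SDClasses AlgSp
open Groth.Agent.Helper6.SmLoc Groth.Agent.Helper6.Descent1

variable {S : Scheme.{u}} {𝒳 : AlgSt.Cat S}

/-- `overMap c` as the atlas chart of `h_c` -/
def overMapAtlasIso {U' U : Over S} (c : U' ⟶ U) :
    BasedFunctor.comp (atlasChart ((yon S).map c)) (AlgSt.toOverCat U) ≅ AlgSt.overMap c :=
  whiskerLeftIso' (AlgSt.ofOverCat U') (overMapIso c)

set_option backward.isDefEq.respectTransparency.types false in
theorem overMap_smooth {U' U : Over S} (c : U' ⟶ U) (hc : Etale c.left) :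
    AlgSt.RepByAlgSpWith (LocP @Smooth) (AlgSt.overMap c) :=
  Groth.Agent.Helper6.AlgStSpMap.repByAlgSpWith_of_iso _ (overMapAtlasIso c).symm
    ((repByAlgSpWith_comp_equiv _ _ (AlgSt.toOverCat U)
      (Groth.Agent.Helper6.AlgStEquiv.isEquivOver_toOverCat U)).1
      (atlasChart_smooth _ ((repWith_yon_map_iff @Etale c).2 hc)))

set_option backward.isDefEq.respectTransparency.types false in
theorem overMap_surj {U' U : Over S} (c : U' ⟶ U) (hc : Etale c.left) (hs : Surjective c.left) :
    AlgSt.RepByAlgSpWith IsSurjectiveMor (AlgSt.overMap c) :=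
  Groth.Agent.Helper6.AlgStSpMap.repByAlgSpWith_of_iso _ (overMapAtlasIso c).symm
    ((repByAlgSpWith_comp_equiv _ _ (AlgSt.toOverCat U)
      (Groth.Agent.Helper6.AlgStEquiv.isEquivOver_toOverCat U)).1
      (atlasChart_surj _ ((repWith_yon_map_iff @Etale c).2 hc)
        ((repWith_yon_map_iff @Surjective c).2 hs)))

set_option backward.isDefEq.respectTransparency.types false in
theorem isQuasiCompact_of_compact_chart (h𝒳 : IsFibGrpd 𝒳.p) {U : Over S} (x : overCat U ⥤ᵇ 𝒳)
    (hU : CompactSpace ↥U.left)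
    (hx₁ : AlgSt.RepByAlgSpWith (AlgSp.LocP @Smooth) x)
    (hx₂ : AlgSt.RepByAlgSpWith AlgSp.IsSurjectiveMor x) : AlgSt.IsQuasiCompact 𝒳 := by
  obtain ⟨Y, p, hs, he, hY⟩ := U.left.exists_hom_isAffine_of_isZariskiLocalAtSource @Etale
  let U' : Over S := Over.mk (p ≫ U.hom)
  let c : U' ⟶ U := Over.homMk p rfl
  have hU' : IsFibGrpd (overCat U').p := Groth.Agent.Helper9.FibRep.isFibGrpd_overCat U'
  have hUg : IsFibGrpd (overCat U).p := Groth.Agent.Helper9.FibRep.isFibGrpd_overCat U
  refine ⟨U', BasedFunctor.comp (AlgSt.overMap c) x, hY, ?_, ?_⟩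
  · exact Groth.Agent.Helper6.RepComp.repByAlgSpWith_comp hU' hUg _ (locP_comp' _ good_smooth)
      Groth.Agent.Helper6.LocalFppf.smooth _ x (overMap_smooth c he) hx₁
  · exact Groth.Agent.Helper6.RepComp.repByAlgSpWith_comp hU' hUg _ surj_comp
      surj_localOnBase _ x (overMap_surj c he hs) hx₂

end Groth.Agent.Helper6.QcChart
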