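import Mathlib
import Groth.Agent.Helper6.QcChart
import Groth.Agent.Helper6.FpAlg
import Groth.Agent.Helper6.FpSwap
import Groth.Prelude.Def_AlgSt4

/-!
# Helper6: quasi-compact morphisms of algebraic stacks — basic tools
-/

set_option autoImplicit false
set_option linter.style.haveILetI false
set_option linter.unusedVariables false
universe u

namespace Groth.Agent.Helper6.QcMor
open CategoryTheory Functor FibCat Limits AlgebraicGeometry Opposite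
open Groth.Agent.Helper3 Groth.Agent.Helper6.FpTools Groth.Agent.Helper6.AlgStBC
open Groth.Agent.Helper6.AlgStInv AlgSp

variable {S : Scheme.{u}} {𝒳 𝒴 𝒵 𝒲 : AlgSt.Cat S}

theorem isEquivOver_symm {E : 𝒳 ⥤ᵇ 𝒴} (hE : IsEquivOver E) :
    ∃ G : 𝒴 ⥤ᵇ 𝒳, IsEquivOver G := by
  obtain ⟨G, h1, h2⟩ := hE
  exact ⟨G, E, h2, h1⟩

theorem isQuasiCompact_of_isEquivOver (E : 𝒳 ⥤ᵇ 𝒴) (hE : IsEquivOver E)
    (h : AlgSt.IsQuasiCompact 𝒳) : AlgSt.IsQuasiCompact 𝒴 := by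
  obtain ⟨U, x, hU, hx₁, hx₂⟩ := h
  exact ⟨U, BasedFunctor.comp x E, hU, (repByAlgSpWith_comp_equiv _ x E hE).1 hx₁,
    (repByAlgSpWith_comp_equiv _ x E hE).1 hx₂⟩

theorem isQuasiCompact_of_isEquivOver' (E : 𝒳 ⥤ᵇ 𝒴) (hE : IsEquivOver E)
    (h : AlgSt.IsQuasiCompact 𝒴) : AlgSt.IsQuasiCompact 𝒳 := by
  obtain ⟨G, hG⟩ := isEquivOver_symm hE
  exact isQuasiCompact_of_isEquivOver G hG h

/-- `𝒲 ×_𝒵 𝒳 ≃ (𝒴 ×_𝒵 𝒲) ×_𝒴 𝒳` for `𝒳 -f→ 𝒴 -g→ 𝒵 ←h- 𝒲`. -/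
def fpAssoc (f : 𝒳 ⥤ᵇ 𝒴) (g : 𝒴 ⥤ᵇ 𝒵) (h : 𝒲 ⥤ᵇ 𝒵) :
    fp h (BasedFunctor.comp f g) ⥤ᵇ fp (fpFst g h) f :=
  BasedFunctor.comp (fpSwap h (BasedFunctor.comp f g))
    (BasedFunctor.comp (pasteLeft f g h) (fpSwap f (fpFst g h)))

theorem isEquivOver_fpAssoc (f : 𝒳 ⥤ᵇ 𝒴) (g : 𝒴 ⥤ᵇ 𝒵) (h : 𝒲 ⥤ᵇ 𝒵) :
    IsEquivOver (fpAssoc f g h) :=
  isEquivOver_comp (isEquivOver_fpSwap _ _)
    (isEquivOver_comp (isEquivOver_pasteLeft _ _ _) (isEquivOver_fpSwap _ _))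

/-- composition of quasi-compact morphisms (S12983) -/
theorem isQuasiCompactMor_comp
    (h𝒳 : AlgSt.IsAlgStack Scheme.fppfPrecoverage 𝒳)
    (h𝒴 : AlgSt.IsAlgStack Scheme.fppfPrecoverage 𝒴)
    (h𝒵 : AlgSt.IsAlgStack Scheme.fppfPrecoverage 𝒵)
    (f : 𝒳 ⥤ᵇ 𝒴) (g : 𝒴 ⥤ᵇ 𝒵)
    (hf : AlgSt.IsQuasiCompactMor Scheme.fppfPrecoverage f)
    (hg : AlgSt.IsQuasiCompactMor Scheme.fppfPrecoverage g) :
    AlgSt.IsQuasiCompactMor Scheme.fppfPrecoverage (BasedFunctor.comp f g) := by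
  intro 𝒲 h𝒲 hq h
  have h1 : AlgSt.IsAlgStack Scheme.fppfPrecoverage (fp g h) :=
    Groth.Agent.Helper6.FpAlg.isAlgStack_fp h𝒵.isStack h𝒵.diag h𝒴 h𝒲 g h
  have h2 : AlgSt.IsQuasiCompact (fp g h) :=
    isQuasiCompact_of_isEquivOver (fpSwap h g) (isEquivOver_fpSwap h g) (hg 𝒲 h𝒲 hq h)
  have h3 := hf (fp g h) h1 h2 (fpFst g h)
  exact isQuasiCompact_of_isEquivOver' (fpAssoc f g h) (isEquivOver_fpAssoc f g h) h3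

end Groth.Agent.Helper6.QcMor
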