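import Mathlib
import Groth.Agent.Helper6.QcMor
import Groth.Agent.Helper6.Descent2
import Groth.Agent.Helper4.AlgSpQC2
import Groth.Agent.Helper5.Restr2
import Groth.Agent.S12856
import Groth.Agent.S12772

/-!
# Helper6: quasi-compact morphisms of algebraic stacks vs. of algebraic spaces
-/

set_option autoImplicit false
set_option linter.style.haveILetI false
set_option linter.unusedVariables false
universe u

namespace Groth.Agent.Helper6.QcMor2
open CategoryTheory Functor FibCat Limits AlgebraicGeometry Opposite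
open Groth.Agent.Helper3 Stk Groth.Agent.Helper6.OfPsh Groth.Agent.Helper6.OfPshHom
open Groth.Agent.Helper6.FpTools Groth.Agent.Helper6.OfPshFp Groth.Agent.Helper6.AlgStRep
open Groth.Agent.Helper6.AlgStEquiv Groth.Agent.Helper6.AlgStInv Groth.Agent.Helper6.AlgStPsh
open Groth.Agent.Helper6.DiagRed Groth.Agent.Helper6.RepDiag Groth.Agent.Helper6.RepComp
open Groth.Agent.Helper6.DiagRep Groth.Agent.Helper6.Descent1 Groth.Agent.Helper6.Descent2
open Groth.Agent.Helper6.QcMor Groth.Agent.Helper6.SmLoc Groth.Agent.Helper6.ChartOver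
open AlgSp

variable {S : Scheme.{u}}

instance surj_respectsIso : (IsSurjectiveMor (S := S)).RespectsIso := by
  apply MorphismProperty.RespectsIso.mk
  · intro X Y Z e f hf
    exact surj_iso_comp e f hf
  · intro X Y Z e f hf
    exact Groth.Agent.Helper5.Restr1.isSurjectiveMor_comp f e.hom hf
      (fun z => ⟨Points.map e.inv z, by rw [← Points.map_comp, Iso.inv_hom_id, Points.map_id]⟩)

/-- Lemma A: a map of algebraic spaces which is surjective as a functor of stacks is surjective -/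
theorem isSurjectiveMor_of_rep {X Y : Sp S} (hX : IsAlgSpace X) (hY : IsAlgSpace Y) (w : X ⟶ Y)
    (h : AlgSt.RepByAlgSpWith IsSurjectiveMor (AlgSt.ofSpMap w)) : IsSurjectiveMor w := by
  have h1 : RepBySpWith IsSurjectiveMor w.hom :=
    repBySpWith_of_repByAlgSpWith _ _ (Groth.Agent.Helper6.AlgStSpMap.repBySp_of_isAlgSpace hX hY w) h
  rw [repBySpWith_hom_iff] at h1
  obtain ⟨U₀, p, hpe, hps⟩ := hY.atlas
  have sq := IsPullback.of_hasPullback w p
  obtain ⟨-, h2⟩ := h1 p _ _ sq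
  have h3 : IsSurjectiveMor (pullback.snd w p ≫ p) :=
    Groth.Agent.Helper5.Restr1.isSurjectiveMor_comp _ _ h2
      (Groth.Agent.Helper4.AlgSpPts.isSurjectiveMor_of_repWith p hps)
  rw [← sq.w] at h3
  intro y
  obtain ⟨x, hx⟩ := h3 y
  exact ⟨Points.map (pullback.fst w p) x, by rw [← Points.map_comp]; exact hx⟩


/-- Lemma C: an algebraic space which is quasi-compact as a stack is a quasi-compact space -/
theorem isQuasiCompactSp_of_isQuasiCompact (P : AlgSp.Space S)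
    (h : AlgSt.IsQuasiCompact (AlgSt.ofSp P.obj)) : IsQuasiCompactSp P.obj := by
  obtain ⟨V, v, hV, -, hv⟩ := h
  let v' : AlgSt.ofSp ((yon S).obj V) ⥤ᵇ AlgSt.ofSp P.obj := BasedFunctor.comp (AlgSt.toOverCat V) v
  have hv' : AlgSt.RepByAlgSpWith IsSurjectiveMor v' :=
    rep_equiv_comp _ _ (isEquivOver_toOverCat V) v hv
  let w : (yon S).obj V ⟶ P.obj := ObjectProperty.homMk (homOf v')
  have hw : AlgSt.RepByAlgSpWith IsSurjectiveMor (AlgSt.ofSpMap w) :=
    Groth.Agent.Helper6.AlgStSpMap.repByAlgSpWith_of_iso _ (isoHomOf v').symm hv'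
  haveI : IsAffine V.left := hV
  exact Groth.Agent.Helper4.AlgSpQC2.isQuasiCompactSp_of_surjective P.property w
    (isSurjectiveMor_of_rep (IsAlgSpace.yon_obj V) P.property w hw)
    (Groth.Agent.Helper4.AlgSpQC2.isQuasiCompactSp_yon V)

theorem isQuasiCompact_ofSp (P : AlgSp.Space S) (h : IsQuasiCompactSp P.obj) :
    AlgSt.IsQuasiCompact (AlgSt.ofSp P.obj) := by
  obtain ⟨V, p, hpe, hps, hV⟩ := h
  exact Groth.Agent.Helper6.QcChart.isQuasiCompact_of_compact_chart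
    (Groth.Agent.Helper6.ToSpace.isFibSetoid_ofPsh _).1 (atlasChart p) hV (atlasChart_smooth p hpe)
    (atlasChart_surj p hpe hps)

theorem isQuasiCompact_ofSp_iff (P : AlgSp.Space S) :
    AlgSt.IsQuasiCompact (AlgSt.ofSp P.obj) ↔ IsQuasiCompactSp P.obj :=
  ⟨isQuasiCompactSp_of_isQuasiCompact P, isQuasiCompact_ofSp P⟩

theorem isAlgStack_overCat (Z : Over S) :
    AlgSt.IsAlgStack Scheme.fppfPrecoverage (overCat Z) :=
  (isAlgStack_iff_of_isEquivOver _ (AlgSt.toOverCat Z) (isEquivOver_toOverCat Z)).1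
    (Groth.Agent.S12772.isDM_ofSp ⟨(yon S).obj Z, IsAlgSpace.yon_obj Z⟩).1

theorem isQuasiCompact_overCat (Z : Over S) [CompactSpace ↥Z.left] :
    AlgSt.IsQuasiCompact (overCat Z) :=
  isQuasiCompact_of_isEquivOver (AlgSt.toOverCat Z) (isEquivOver_toOverCat Z)
    (isQuasiCompact_ofSp ⟨(yon S).obj Z, IsAlgSpace.yon_obj Z⟩
      (Groth.Agent.Helper4.AlgSpQC2.isQuasiCompactSp_yon Z))

variable {𝒳 𝒴 : AlgSt.Cat S}

/-- Lemma B: the base change of a representing space along a morphism of schemes represents the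
base-changed fibre product -/
theorem pbEquiv (f : 𝒳 ⥤ᵇ 𝒴) {U Z : Over S} (y : overCat U ⥤ᵇ 𝒴) (c : Z ⟶ U)
    (F : AlgSp.Space S) (e : AlgSt.ofSp F.obj ⥤ᵇ fp y f) (he : IsEquivOver e)
    (a : F.obj ⟶ (yon S).obj U)
    (θ : BasedFunctor.comp e (fpFst y f) ≅ BasedFunctor.comp (AlgSt.ofSpMap a) (AlgSt.toOverCat U))
    {P : Sp S} (fst : P ⟶ F.obj) (snd : P ⟶ (yon S).obj Z)
    (sq : IsPullback fst snd a ((yon S).map c)) :
    ∃ E : AlgSt.ofSp P ⥤ᵇ fp (BasedFunctor.comp (AlgSt.overMap c) y) f, IsEquivOver E ∧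
      Nonempty (BasedFunctor.comp E (fpFst _ f) ≅
        BasedFunctor.comp (AlgSt.ofSpMap snd) (AlgSt.toOverCat Z)) := by
  let B : fp (AlgSt.ofSpMap ((yon S).map c)) (AlgSt.ofSpMap a) ⥤ᵇ fp (AlgSt.overMap c) (fpFst y f) :=
    cospanFunctor (AlgSt.overMap c) (fpFst y f) (AlgSt.ofSpMap ((yon S).map c)) (AlgSt.ofSpMap a)
      (AlgSt.toOverCat Z) e (AlgSt.toOverCat U) (overMapIso c) θ.symm
  have hBe : IsEquivOver B :=
    isEquivOver_cospanFunctor _ _ _ _ _ _ _ _ _ (isEquivOver_toOverCat Z) he (isEquivOver_toOverCat U)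
  have sq' : IsPullback snd.hom fst.hom ((yon S).map c).hom a.hom :=
    (sq.map (sheafToPresheaf _ _)).flip
  have hA := isEquivOver_toFp sq'
  obtain ⟨K, hK, -, ⟨ε⟩⟩ := EquivOver.symm (isEquivOver_pasteLeft (AlgSt.overMap c) y f)
  refine ⟨BasedFunctor.comp (BasedFunctor.comp (toFp sq'.w) B) K,
    isEquivOver_comp (isEquivOver_comp hA hBe) hK, ⟨?_⟩⟩
  exact whiskerLeftIso' (BasedFunctor.comp (toFp sq'.w) B)
    (whiskerRightIso' ε (fpFst (AlgSt.overMap c) (fpFst y f)))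


set_option backward.isDefEq.respectTransparency.types false in
/-- S12981 -/
theorem repWith_qc_iff (h𝒳 : AlgSt.IsAlgStack Scheme.fppfPrecoverage 𝒳)
    (h𝒴 : AlgSt.IsAlgStack Scheme.fppfPrecoverage 𝒴) (f : 𝒳 ⥤ᵇ 𝒴) (hf : AlgSt.RepByAlgSp1 f) :
    AlgSt.RepByAlgSpWith AlgSp.IsQuasiCompactMor f ↔
      AlgSt.IsQuasiCompactMor Scheme.fppfPrecoverage f := by
  constructor
  · intro hR 𝒵 h𝒵 hq g
    obtain ⟨U, z, hU, hz₁, hz₂⟩ := hq
    have hA : AlgSt.IsAlgStack Scheme.fppfPrecoverage (fp g f) :=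
      Groth.Agent.Helper6.FpAlg.isAlgStack_fp h𝒴.isStack h𝒴.diag h𝒵 h𝒳 g f
    obtain ⟨F, e, he, hm⟩ := hR U (BasedFunctor.comp z g)
    haveI : IsAffine U.left := hU
    have hF : IsQuasiCompactSp F.obj :=
      hm (IsAlgSpace.yon_obj U) (Groth.Agent.Helper4.AlgSpQC2.isQuasiCompactSp_yon U) (𝟙 _) (𝟙 _) _
        (IsPullback.id_horiz _)
    exact (Groth.Agent.S12856.result hA).2 ⟨F, BasedFunctor.comp e (pasteInner z g f), hF,
      rep_equiv_comp _ e he _ (Groth.Agent.Helper6.FpAlg.rep_pasteInner _ z g f hz₁),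
      rep_equiv_comp _ e he _ (Groth.Agent.Helper6.FpAlg.rep_pasteInner _ z g f hz₂)⟩
  · intro hQ U y
    obtain ⟨F, e, he⟩ := hf U y
    obtain ⟨a, ⟨θ⟩⟩ := exists_ofSpMap_iso (BasedFunctor.comp e (fpFst y f))
    refine ⟨F, e, he, ?_⟩
    rw [spMapOfOver_congr θ, spMapOfOver_ofSpMap_toOverCat]
    rw [Groth.Agent.Helper4.AlgSpQC.isQuasiCompactMor_iff_affine]
    intro Z hZ k P fst snd sq
    obtain ⟨c, rfl⟩ := (yon S).map_surjective k
    obtain ⟨E, hE, -⟩ := pbEquiv f y c F e he a θ fst snd sq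
    have hPalg : IsAlgSpace P :=
      Groth.Agent.Helper4.AlgSpPB.isAlgSpace_of_isPullback (IsAlgSpace.yon_obj U).diag F.property
        (IsAlgSpace.yon_obj Z) a _ fst snd sq
    haveI : IsAffine Z.left := hZ
    exact isQuasiCompactSp_of_isQuasiCompact ⟨P, hPalg⟩ (isQuasiCompact_of_isEquivOver' E hE
      (hQ (overCat Z) (isAlgStack_overCat Z) (isQuasiCompact_overCat Z) _))

end Groth.Agent.Helper6.QcMor2
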