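import Mathlib
import Groth.Agent.Helper6.FpAlg

/-!
# Helper6: the base category over itself is a stack; products of algebraic stacks
-/

set_option autoImplicit false
set_option linter.style.haveILetI false
set_option linter.unusedVariables false
universe v₂ u₂ v u

namespace Groth.Agent.Helper6.SelfStack
open CategoryTheory Functor FibCat Limits
open Groth.Agent.Helper3 Groth.Agent.Helper6.FpTools Groth.Agent.Helper6.AlgStInv

section Gen

variable {C : Type u} [Category.{v} C] {𝒜 : BasedCategory.{v₂, u₂} C}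

theorem selfOver_hom_ext {a b S : C} (φ ψ : a ⟶ b) (hφ : (selfOver C).p.IsHomLift (𝟙 S) φ)
    (hψ : (selfOver C).p.IsHomLift (𝟙 S) ψ) : φ = ψ := by
  have h1 : φ = eqToHom (IsHomLift.domain_eq (selfOver C).p (𝟙 S) φ) ≫ 𝟙 S ≫
      eqToHom (IsHomLift.codomain_eq (selfOver C).p (𝟙 S) φ).symm :=
    IsHomLift.fac' (selfOver C).p (𝟙 S) φ
  have h2 : ψ = eqToHom (IsHomLift.domain_eq (selfOver C).p (𝟙 S) ψ) ≫ 𝟙 S ≫
      eqToHom (IsHomLift.codomain_eq (selfOver C).p (𝟙 S) ψ).symm :=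
    IsHomLift.fac' (selfOver C).p (𝟙 S) ψ
  rw [h1, h2]

instance (F G : 𝒜 ⥤ᵇ selfOver C) : Subsingleton (F ⟶ G) := by
  refine ⟨fun α β => ?_⟩
  apply BasedNatTrans.ext
  apply NatTrans.ext
  funext a
  exact selfOver_hom_ext _ _ (α.isHomLift rfl) (β.isHomLift rfl)

/-- any two functors over `C` into `C` over itself are isomorphic -/
def selfIso (F G : 𝒜 ⥤ᵇ selfOver C) : F ≅ G :=
  (toSelfIso F).symm ≪≫ toSelfIso G

theorem isStack_selfOver (J : GrothendieckTopology C) : Stk.IsStack J (selfOver C) := by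
  refine ⟨Groth.Agent.Helper3.FibGrpd.isFibGrpd_id, fun U R hR => ?_⟩
  exact { faithful := ⟨fun {F G} α β h => Subsingleton.elim _ _⟩
          full := ⟨fun {F G} β => ⟨(selfIso F G).hom, Subsingleton.elim _ _⟩⟩
          essSurj := ⟨fun H => ⟨toSelf (overCat U), ⟨selfIso _ _⟩⟩⟩ }

end Gen

section AlgSt

open AlgebraicGeometry

universe w

variable {S : Scheme.{w}}

theorem repByAlgSp1_diag_selfOver :
    AlgSt.RepByAlgSp1 (diag (toSelf (selfOver (Over S)))) := by
  apply Groth.Agent.Helper6.AlgStDiagIff.backward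
  intro U G
  exact Groth.Agent.Helper6.DiagLft.repByAlgSp1_comp_toSelf (𝒳 := selfOver (Over S)) G

/-- S12764 -/
theorem isAlgStack_prod {𝒳 𝒴 : AlgSt.Cat S} (h𝒳 : AlgSt.IsAlgStack Scheme.fppfPrecoverage 𝒳)
    (h𝒴 : AlgSt.IsAlgStack Scheme.fppfPrecoverage 𝒴) :
    AlgSt.IsAlgStack Scheme.fppfPrecoverage (fp (toSelf 𝒳) (toSelf 𝒴)) :=
  Groth.Agent.Helper6.FpAlg.isAlgStack_fp (isStack_selfOver _) repByAlgSp1_diag_selfOver h𝒳 h𝒴 _ _

end AlgSt

end Groth.Agent.Helper6.SelfStack
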