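import Mathlib
import Groth.Agent.Helper6.QcMor2
import Groth.Agent.S12982
import Groth.Agent.S12954
import Groth.Agent.S12955
import Groth.Agent.S12959
import Groth.Agent.Helper6.SelfStack

/-!
# Helper6: quasi-compact morphisms of algebraic stacks — cancellation
-/

set_option autoImplicit false
set_option linter.style.haveILetI false
set_option linter.unusedVariables false
universe u

namespace Groth.Agent.Helper6.QcMor3
open CategoryTheory Functor FibCat Limits AlgebraicGeometry Opposite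
open Groth.Agent.Helper3 Groth.Agent.Helper6.FpTools Groth.Agent.Helper6.AlgStBC
open Groth.Agent.Helper6.AlgStInv Groth.Agent.Helper6.QcMor Groth.Agent.Helper6.QcMor2
open Groth.Agent.Helper6.ToSpace AlgSp Groth.Agent.Helper6.DiagRed Groth.Agent.Helper6.FpAlg
open Groth.Agent.Helper6.RepDiag Groth.Agent.Helper6.SpAtlas Groth.Agent.Helper4.SDClasses
open Groth.Agent.Helper6.ChartOver

variable {S : Scheme.{u}} {𝒳 𝒴 𝒵 𝒲 : AlgSt.Cat S}

/-- S12986 -/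
theorem isQuasiCompactMor_of_comp
    (h𝒳 : AlgSt.IsAlgStack Scheme.fppfPrecoverage 𝒳)
    (h𝒴 : AlgSt.IsAlgStack Scheme.fppfPrecoverage 𝒴)
    (h𝒵 : AlgSt.IsAlgStack Scheme.fppfPrecoverage 𝒵)
    (f : 𝒳 ⥤ᵇ 𝒴) (g : 𝒴 ⥤ᵇ 𝒵)
    (hfg : AlgSt.IsQuasiCompactMor Scheme.fppfPrecoverage (BasedFunctor.comp f g))
    (hg : AlgSt.IsQuasiSeparatedMor g) :
    AlgSt.IsQuasiCompactMor Scheme.fppfPrecoverage f := by
  have e : BasedFunctor.comp (BasedFunctor.id 𝒳) (BasedFunctor.comp f g) ≅ BasedFunctor.comp f g :=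
    Iso.refl _
  have hΓ := repByAlgSpWith_graph _ (BasedFunctor.comp f g) g f e hg
  have hΓ' : AlgSt.RepByAlgSpWith AlgSp.IsQuasiCompactMor
      (BasedFunctor.comp (fpLift (BasedFunctor.id 𝒳) f e) (fpSwap (BasedFunctor.comp f g) g)) :=
    (repByAlgSpWith_comp_equiv _ _ _ (isEquivOver_fpSwap _ g)).1
      (repByAlgSpWith_mono inf_le_left hΓ)
  have hA : AlgSt.IsAlgStack Scheme.fppfPrecoverage (fp g (BasedFunctor.comp f g)) :=
    Groth.Agent.Helper6.FpAlg.isAlgStack_fp h𝒵.isStack h𝒵.diag h𝒴 h𝒳 g _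
  have h1 := (repWith_qc_iff h𝒳 hA _ (repByAlgSp1_of_with hΓ')).1 hΓ'
  have h2 := Groth.Agent.S12982.result S 𝒳 𝒵 𝒴 h𝒳 h𝒵 h𝒴 (BasedFunctor.comp f g) g hfg
  exact isQuasiCompactMor_comp h𝒳 hA h𝒴 _ _ h1 h2


/-- `(Sch/S)` over itself is the slice over the terminal object -/
theorem isEquivOver_toSelf_terminal :
    IsEquivOver (toSelf (overCat (Over.mk (𝟙 S) : Over S))) := by
  rw [isEquivOver_iff]
  refine ⟨⟨fun {X Y} φ => ⟨Over.homMk φ (Over.mkIdTerminal.hom_ext _ _), rfl⟩⟩, ?_, ?_⟩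
  · exact Over.forget_faithful
  · intro y
    exact ⟨Over.mk (Over.mkIdTerminal.from y), Iso.refl _, IsHomLift.id rfl⟩

theorem isAlgStack_selfOver :
    AlgSt.IsAlgStack Scheme.fppfPrecoverage (selfOver (Over S)) :=
  (isAlgStack_iff_of_isEquivOver _ _ isEquivOver_toSelf_terminal).1 (isAlgStack_overCat _)


/-- invariance of properties of the diagonal under 2-isomorphism -/
theorem diag_iff_of_iso (P : MorphismProperty (Sp S)) {f f' : 𝒳 ⥤ᵇ 𝒴} (θ : f' ≅ f) :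
    AlgSt.RepByAlgSpWith P (diag f) ↔ AlgSt.RepByAlgSpWith P (diag f') := by
  have θ' : BasedFunctor.comp f' (BasedFunctor.id _) ≅ BasedFunctor.comp (BasedFunctor.id _) f := θ
  exact repByAlgSpWith_iff_of_square P (diag f) (diag f') (BasedFunctor.id _)
    (prodFun f f' (BasedFunctor.id _) (BasedFunctor.id _) θ') (isEquivOver_id _)
    (isEquivOver_prodFun _ _ _ _ _ (isEquivOver_id _) (isEquivOver_id _)) (diagSq _ _ _ _ _)

theorem isQuasiSeparatedMor_of_iso {f f' : 𝒳 ⥤ᵇ 𝒴} (θ : f' ≅ f)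
    (h : AlgSt.IsQuasiSeparatedMor f) : AlgSt.IsQuasiSeparatedMor f' :=
  (diag_iff_of_iso _ θ).1 h

/-- invariance of quasi-compactness under 2-isomorphism -/
theorem isQuasiCompactMor_of_iso {f f' : 𝒳 ⥤ᵇ 𝒴} (θ : f' ≅ f)
    (h : AlgSt.IsQuasiCompactMor Scheme.fppfPrecoverage f) :
    AlgSt.IsQuasiCompactMor Scheme.fppfPrecoverage f' := by
  intro 𝒵 h𝒵 hq g
  have θ₀ : BasedFunctor.comp g (BasedFunctor.id _) ≅ BasedFunctor.comp (BasedFunctor.id _) g :=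
    Iso.refl _
  have η : BasedFunctor.comp f' (BasedFunctor.id _) ≅ BasedFunctor.comp (BasedFunctor.id _) f := θ
  exact isQuasiCompact_of_isEquivOver'
    (cospanFunctor g f g f' (BasedFunctor.id _) (BasedFunctor.id _) (BasedFunctor.id _) θ₀ η)
    (isEquivOver_cospanFunctor _ _ _ _ _ _ _ θ₀ η (isEquivOver_id _) (isEquivOver_id _)
      (isEquivOver_id _)) (h 𝒵 h𝒵 hq g)

variable {𝒰 𝒱 : AlgSt.Cat S}

/-- the product of two charts is a chart of the fibre product -/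
theorem rep_fpChart (P : MorphismProperty (Sp S))
    (hPc : ∀ ⦃X Y Z : AlgSp.Sp S⦄, AlgSp.IsAlgSpace X → AlgSp.IsAlgSpace Y → AlgSp.IsAlgSpace Z →
      ∀ (a : X ⟶ Y) (b : Y ⟶ Z), P a → P b → P (a ≫ b))
    (hP : AlgSp.IsLocalOnBase AlgSp.IsFppfCover P)
    (h𝒰 : IsFibGrpd 𝒰.p) (h𝒱 : IsFibGrpd 𝒱.p) (hX : IsFibGrpd 𝒳.p) (hZ : IsFibGrpd 𝒵.p)
    (f : 𝒳 ⥤ᵇ 𝒵) (g : 𝒴 ⥤ᵇ 𝒵) (u : 𝒰 ⥤ᵇ 𝒳) (v : 𝒱 ⥤ᵇ 𝒴)
    (hu : AlgSt.RepByAlgSpWith P u) (hv : AlgSt.RepByAlgSpWith P v) :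
    AlgSt.RepByAlgSpWith P
      (BasedFunctor.comp (pasteInner u f (BasedFunctor.comp v g)) (rightMap f g v)) :=
  Groth.Agent.Helper6.RepComp.repByAlgSpWith_comp
    (Groth.Agent.Helper6.FpTools.isFibGrpd_fp _ _ h𝒰 h𝒱 hZ)
    (Groth.Agent.Helper6.FpTools.isFibGrpd_fp _ _ hX h𝒱 hZ) _ hPc hP _ _
    (rep_pasteInner _ u f _ hu) (rep_rightMap _ f g v hv)


theorem compactSpace_prod [QuasiSeparatedSpace S] (U V : Over S) [CompactSpace ↥U.left]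
    [CompactSpace ↥V.left] : CompactSpace ↥(U ⨯ V).left := by
  haveI : QuasiCompact U.hom := inferInstance
  haveI : CompactSpace ↥(pullback U.hom V.hom) := inferInstance
  exact QuasiCompact.compactSpace_of_compactSpace (Over.prodLeftIsoPullback U V).hom

set_option backward.isDefEq.respectTransparency.types false in
/-- a quasi-compact algebraic stack over a quasi-separated base is quasi-compact over the base -/
theorem isQuasiCompactMor_toSelf [QuasiSeparatedSpace S]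
    (h𝒳 : AlgSt.IsAlgStack Scheme.fppfPrecoverage 𝒳) (hq : AlgSt.IsQuasiCompact 𝒳) :
    AlgSt.IsQuasiCompactMor Scheme.fppfPrecoverage (toSelf 𝒳) := by
  intro 𝒵 h𝒵 hqz g
  obtain ⟨U, z, hU, hz₁, hz₂⟩ := hqz
  obtain ⟨V, x, hV, hx₁, hx₂⟩ := hq
  have hselfO : IsFibGrpd (selfOver (Over S)).p := Groth.Agent.Helper3.FibGrpd.isFibGrpd_id
  have hUg : IsFibGrpd (overCat U).p := Groth.Agent.Helper9.FibRep.isFibGrpd_overCat U
  have hVg : IsFibGrpd (overCat V).p := Groth.Agent.Helper9.FibRep.isFibGrpd_overCat V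
  have hA : AlgSt.IsAlgStack Scheme.fppfPrecoverage (fp g (toSelf 𝒳)) :=
    isAlgStack_fp (Groth.Agent.Helper6.SelfStack.isStack_selfOver _)
      Groth.Agent.Helper6.SelfStack.repByAlgSp1_diag_selfOver h𝒵 h𝒳 g _
  haveI : IsAffine U.left := hU
  haveI : IsAffine V.left := hV
  have hc : CompactSpace ↥(U ⨯ V).left := compactSpace_prod U V
  have hE := isEquivOver_prodEquiv (𝒮 := selfOver (Over S)) (BasedFunctor.comp z g)
    (BasedFunctor.comp x (toSelf 𝒳))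
  refine Groth.Agent.Helper6.QcChart.isQuasiCompact_of_compact_chart hA.isStack.1
    (BasedFunctor.comp (prodEquiv (𝒮 := selfOver (Over S)) (BasedFunctor.comp z g)
      (BasedFunctor.comp x (toSelf 𝒳)))
      (BasedFunctor.comp (pasteInner z g (BasedFunctor.comp x (toSelf 𝒳))) (rightMap g (toSelf 𝒳) x)))
    hc ?_ ?_
  · exact rep_equiv_comp _ _ hE _ (rep_fpChart _ (locP_comp' _ good_smooth)
      Groth.Agent.Helper6.LocalFppf.smooth hUg hVg h𝒵.isStack.1 hselfO g (toSelf 𝒳) z x hz₁ hx₁)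
  · exact rep_equiv_comp _ _ hE _ (rep_fpChart _ surj_comp surj_localOnBase hUg hVg h𝒵.isStack.1
      hselfO g (toSelf 𝒳) z x hz₂ hx₂)

/-- S12987 -/
theorem isQuasiCompactMor_of_isQuasiCompact [QuasiSeparatedSpace S]
    (h𝒳 : AlgSt.IsAlgStack Scheme.fppfPrecoverage 𝒳)
    (h𝒴 : AlgSt.IsAlgStack Scheme.fppfPrecoverage 𝒴) (f : 𝒳 ⥤ᵇ 𝒴)
    (hq : AlgSt.IsQuasiCompact 𝒳) (hs : AlgSt.IsQuasiSeparatedOver 𝒴) :
    AlgSt.IsQuasiCompactMor Scheme.fppfPrecoverage f :=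
  isQuasiCompactMor_of_comp h𝒳 h𝒴 isAlgStack_selfOver f (toSelf 𝒴)
    (isQuasiCompactMor_of_iso (toSelfIso f).symm (isQuasiCompactMor_toSelf h𝒳 hq)) hs

/-- S12988 -/
theorem qcqs_fp [QuasiSeparatedSpace S]
    (h𝒳 : AlgSt.IsAlgStack Scheme.fppfPrecoverage 𝒳)
    (h𝒴 : AlgSt.IsAlgStack Scheme.fppfPrecoverage 𝒴)
    (h𝒵 : AlgSt.IsAlgStack Scheme.fppfPrecoverage 𝒵)
    (a : 𝒳 ⥤ᵇ 𝒴) (b : 𝒵 ⥤ᵇ 𝒴)
    (hX₁ : AlgSt.IsQuasiCompact 𝒳) (hX₂ : AlgSt.IsQuasiSeparatedOver 𝒳)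
    (hY₁ : AlgSt.IsQuasiCompact 𝒴) (hY₂ : AlgSt.IsQuasiSeparatedOver 𝒴)
    (hZ₁ : AlgSt.IsQuasiCompact 𝒵) (hZ₂ : AlgSt.IsQuasiSeparatedOver 𝒵) :
    AlgSt.IsQuasiCompact (fp a b) ∧ AlgSt.IsQuasiSeparatedOver (fp a b) := by
  have hA : AlgSt.IsAlgStack Scheme.fppfPrecoverage (fp a b) :=
    isAlgStack_fp h𝒴.isStack h𝒴.diag h𝒳 h𝒵 a b
  refine ⟨isQuasiCompactMor_of_isQuasiCompact h𝒵 h𝒴 b hZ₁ hY₂ 𝒳 h𝒳 hX₁ a, ?_⟩
  have hb : AlgSt.IsQuasiSeparatedMor b :=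
    Groth.Agent.S12959.result S 𝒵 𝒴 _ h𝒵 h𝒴 isAlgStack_selfOver b (toSelf 𝒴)
      (isQuasiSeparatedMor_of_iso (toSelfIso b).symm hZ₂)
      (repByAlgSpWith_mono inf_le_right hY₂)
  have h1 : AlgSt.IsQuasiSeparatedMor (fpFst a b) :=
    Groth.Agent.S12954.result S 𝒵 𝒴 𝒳 h𝒵 h𝒴 h𝒳 b a hb
  have h2 := Groth.Agent.S12955.result S _ 𝒳 _ hA h𝒳 isAlgStack_selfOver (fpFst a b) (toSelf 𝒳)
    h1 hX₂
  exact isQuasiSeparatedMor_of_iso (toSelfIso (fpFst a b)) h2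

end Groth.Agent.Helper6.QcMor3
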