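import Mathlib
import Groth.Prelude.Def_FibCat2
import Groth.Prelude.Def_AlgSt4
import Groth.Agent.Helper3.FibGrpd
import Groth.Agent.Helper3.EquivOver
import Groth.Agent.Helper6.FpTools
import Groth.Agent.Helper6.FpPaste

/-!
# Helper6: field-valued points of categories fibred in groupoids over `(Sch/S)`
-/

set_option autoImplicit false
set_option linter.style.haveILetI false
universe v₃ u₃ v₂ u₂ v u w v' w'

namespace Groth.Agent.Helper6.AlgStPts
open CategoryTheory Functor FibCat Limits AlgebraicGeometry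
open Groth.Agent.Helper3 Groth.Agent.Helper6.FpTools

section General

variable {C : Type u} [Category.{v} C] {𝒳 : BasedCategory.{v₂, u₂} C}

/-- The base morphism of `a : x ⟶ y` with prescribed endpoints. -/
def baseHom {x y : 𝒳.obj} (a : x ⟶ y) {X Y : C} (hx : 𝒳.p.obj x = X) (hy : 𝒳.p.obj y = Y) : X ⟶ Y :=
  eqToHom hx.symm ≫ 𝒳.p.map a ≫ eqToHom hy

instance baseHom_isHomLift {x y : 𝒳.obj} (a : x ⟶ y) {X Y : C} (hx : 𝒳.p.obj x = X)
    (hy : 𝒳.p.obj y = Y) : 𝒳.p.IsHomLift (baseHom a hx hy) a := by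
  unfold baseHom
  infer_instance

/-- Filling in a morphism over `k` between two morphisms with the same target. -/
theorem exists_fill (h : IsFibGrpd 𝒳.p) {U V W : C} (f : U ⟶ W) (g : V ⟶ W) (k : U ⟶ V)
    (hk : k ≫ g = f) {x y z : 𝒳.obj} (a : x ⟶ z) (c : y ⟶ z) (ha : 𝒳.p.IsHomLift f a)
    (hc : 𝒳.p.IsHomLift g c) : ∃ χ : x ⟶ y, 𝒳.p.IsHomLift k χ ∧ χ ≫ c = a := by
  haveI := ha
  haveI := hc
  haveI := FibGrpd.isStronglyCartesian h g c
  exact ⟨IsStronglyCartesian.map 𝒳.p g c hk.symm a, inferInstance,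
    IsStronglyCartesian.fac 𝒳.p g c hk.symm a⟩

end General

variable {S : Scheme.{u}}

section Rel

variable {𝒳 : BasedCategory.{v, w} (Over S)}

theorem rel_refl (p : AlgSt.FPt 𝒳) : AlgSt.FPt.Rel p p := ⟨p, 𝟙 _, 𝟙 _, trivial⟩

theorem rel_symm {p q : AlgSt.FPt 𝒳} (h : AlgSt.FPt.Rel p q) : AlgSt.FPt.Rel q p := by
  obtain ⟨r, a, b, -⟩ := h
  exact ⟨r, b, a, trivial⟩

theorem rel_trans (h : IsFibGrpd 𝒳.p) {p q s : AlgSt.FPt 𝒳} (h1 : AlgSt.FPt.Rel p q)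
    (h2 : AlgSt.FPt.Rel q s) : AlgSt.FPt.Rel p s := by
  obtain ⟨r, a, b, -⟩ := h1
  obtain ⟨r', c, d, -⟩ := h2
  let βo : Over.mk r.str ⟶ Over.mk q.str := baseHom b r.lies q.lies
  let γo : Over.mk r'.str ⟶ Over.mk q.str := baseHom c r'.lies q.lies
  have hb : 𝒳.p.IsHomLift βo b := inferInstance
  have hc : 𝒳.p.IsHomLift γo c := inferInstance
  let β : Spec (CommRingCat.of r.K) ⟶ Spec (CommRingCat.of q.K) := βo.left
  let γ : Spec (CommRingCat.of r'.K) ⟶ Spec (CommRingCat.of q.K) := γo.left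
  have wβ : β ≫ q.str = r.str := Over.w βo
  have wγ : γ ≫ q.str = r'.str := Over.w γo
  obtain ⟨x₀⟩ : Nonempty (Spec (CommRingCat.of r.K)) := inferInstance
  obtain ⟨y₀⟩ : Nonempty (Spec (CommRingCat.of r'.K)) := inferInstance
  obtain ⟨t, -, -⟩ := Scheme.Pullback.exists_preimage_pullback (f := β) (g := γ) x₀ y₀
    (Subsingleton.elim _ _)
  let P : Scheme.{u} := pullback β γ
  let μ : Spec (P.residueField t) ⟶ P := P.fromSpecResidueField t
  let φ₁ : Spec (P.residueField t) ⟶ Spec (CommRingCat.of r.K) := μ ≫ pullback.fst β γ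
  let φ₂ : Spec (P.residueField t) ⟶ Spec (CommRingCat.of r'.K) := μ ≫ pullback.snd β γ
  have hφ : φ₁ ≫ β = φ₂ ≫ γ := by
    simp only [φ₁, φ₂, Category.assoc, pullback.condition]
  let V : Over S := Over.mk (φ₁ ≫ r.str)
  let k₁ : V ⟶ Over.mk r.str := Over.homMk φ₁ rfl
  have hk₂ : φ₂ ≫ r'.str = φ₁ ≫ r.str := by
    rw [← wγ, ← wβ, ← Category.assoc, ← Category.assoc, hφ]
  let k₂ : V ⟶ Over.mk r'.str := Over.homMk φ₂ hk₂
  obtain ⟨r₁, e₁, he₁⟩ := FibGrpd.exists_lift' h r.lies k₁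
  haveI := he₁
  have he₁b : 𝒳.p.IsHomLift (k₁ ≫ βo) (e₁ ≫ b) := inferInstance
  have hkk : k₂ ≫ γo = k₁ ≫ βo := by
    apply Over.OverMorphism.ext
    exact hφ.symm
  obtain ⟨χ, -, -⟩ := exists_fill h (k₁ ≫ βo) γo k₂ hkk (e₁ ≫ b) c he₁b hc
  let R : AlgSt.FPt 𝒳 :=
    { K := ↥(P.residueField t)
      str := φ₁ ≫ r.str
      obj := r₁
      lies := IsHomLift.domain_eq 𝒳.p k₁ e₁ }
  exact ⟨R, e₁ ≫ a, χ ≫ d, trivial⟩

theorem rel_equivalence (h : IsFibGrpd 𝒳.p) : _root_.Equivalence (AlgSt.FPt.Rel (𝒳 := 𝒳)) :=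
  ⟨rel_refl, rel_symm, rel_trans h⟩

/-- Equality of points is the relation, for categories fibred in groupoids. -/
theorem mk_eq_mk_iff (h : IsFibGrpd 𝒳.p) (p q : AlgSt.FPt 𝒳) :
    AlgSt.Points.mk p = AlgSt.Points.mk q ↔ AlgSt.FPt.Rel p q := by
  constructor
  · intro hpq
    have := Quot.eqvGen_exact hpq
    exact (rel_equivalence h).eqvGen_iff.1 this
  · exact AlgSt.Points.sound

end Rel

end Groth.Agent.Helper6.AlgStPts
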