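import Mathlib
import Groth.Prelude.Def_FibCat2
import Groth.Prelude.Def_AlgSt4
import Groth.Agent.Helper3.FibGrpd
import Groth.Agent.Helper3.EquivOver
import Groth.Agent.Helper6.FpTools
import Groth.Agent.Helper6.FpPaste
import Groth.Agent.Helper6.AlgStPts

/-!
# Helper6: maps on points of categories fibred in groupoids over `(Sch/S)`
-/

set_option autoImplicit false
set_option linter.style.haveILetI false
universe v₃ u₃ v₂ u₂ v u w v' w' v'' w''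

namespace Groth.Agent.Helper6.AlgStPts
open CategoryTheory Functor FibCat Limits AlgebraicGeometry
open Groth.Agent.Helper3 Groth.Agent.Helper6.FpTools

variable {S : Scheme.{u}}

section Maps

variable {𝒳 : BasedCategory.{v, w} (Over S)} {𝒴 : BasedCategory.{v', w'} (Over S)}
  {𝒵 : BasedCategory.{v'', w''} (Over S)}

theorem points_map_comp (f : 𝒳 ⥤ᵇ 𝒴) (g : 𝒴 ⥤ᵇ 𝒵) (P : AlgSt.Points 𝒳) :
    AlgSt.Points.map (BasedFunctor.comp f g) P = AlgSt.Points.map g (AlgSt.Points.map f P) := by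
  obtain ⟨p, rfl⟩ := AlgSt.Points.mk_surjective P
  rfl

/-- A full functor between categories fibred in groupoids is injective on points. -/
theorem points_map_injective_of_full (h𝒳 : IsFibGrpd 𝒳.p) (h𝒴 : IsFibGrpd 𝒴.p) (f : 𝒳 ⥤ᵇ 𝒴)
    [f.toFunctor.Full] : Function.Injective (AlgSt.Points.map f) := by
  intro P Q hPQ
  obtain ⟨p, rfl⟩ := AlgSt.Points.mk_surjective P
  obtain ⟨q, rfl⟩ := AlgSt.Points.mk_surjective Q
  rw [AlgSt.Points.map_mk, AlgSt.Points.map_mk, mk_eq_mk_iff h𝒴] at hPQ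
  obtain ⟨r, a, b, -⟩ := hPQ
  let αo : Over.mk r.str ⟶ Over.mk p.str := baseHom a r.lies (p.map f).lies
  have ha : 𝒴.p.IsHomLift αo a := baseHom_isHomLift a r.lies _
  obtain ⟨p', e, he⟩ := FibGrpd.exists_lift' h𝒳 p.lies αo
  haveI := he
  have hfe : 𝒴.p.IsHomLift αo (f.map e) := inferInstance
  obtain ⟨χ, -, -⟩ := exists_fill h𝒴 αo αo (𝟙 _) (Category.id_comp _) (f.map e) a hfe ha
  let b' : f.obj p' ⟶ f.obj q.obj := χ ≫ b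
  obtain ⟨ψ, -⟩ := f.toFunctor.map_surjective b'
  apply AlgSt.Points.sound
  exact ⟨⟨r.K, r.str, p', IsHomLift.domain_eq 𝒳.p αo e⟩, e, ψ, trivial⟩

/-- An equivalence over `(Sch/S)` is surjective on points. -/
theorem points_map_surjective_of_isEquivOver (E : 𝒳 ⥤ᵇ 𝒴) (hE : IsEquivOver E) :
    Function.Surjective (AlgSt.Points.map E) := by
  intro Q
  obtain ⟨q, rfl⟩ := AlgSt.Points.mk_surjective Q
  obtain ⟨x, e, he⟩ := ((isEquivOver_iff E).1 hE).2.2 q.obj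
  have hx : 𝒳.p.obj x = Over.mk q.str := by
    rw [← E.w_obj x, IsHomLift.domain_eq 𝒴.p (𝟙 (𝒴.p.obj q.obj)) e.hom, q.lies]
  let p : AlgSt.FPt 𝒳 := ⟨q.K, q.str, x, hx⟩
  refine ⟨AlgSt.Points.mk p, ?_⟩
  rw [AlgSt.Points.map_mk]
  apply AlgSt.Points.sound
  exact ⟨p.map E, 𝟙 _, e.hom, trivial⟩

end Maps

section Fp

variable {𝒳 𝒴 𝒵 : BasedCategory.{v, w} (Over S)}

/-- `|𝒵 ×_𝒴 𝒳| → |𝒵| ×_{|𝒴|} |𝒳|` is surjective. -/
theorem exists_points_fp (h𝒳 : IsFibGrpd 𝒳.p) (h𝒴 : IsFibGrpd 𝒴.p) (h𝒵 : IsFibGrpd 𝒵.p)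
    (f : 𝒳 ⥤ᵇ 𝒴) (g : 𝒵 ⥤ᵇ 𝒴) (z : AlgSt.Points 𝒵) (x : AlgSt.Points 𝒳)
    (h : AlgSt.Points.map g z = AlgSt.Points.map f x) :
    ∃ w : AlgSt.Points (FibCat.fp g f),
      AlgSt.Points.map (FibCat.fpFst g f) w = z ∧ AlgSt.Points.map (FibCat.fpSnd g f) w = x := by
  obtain ⟨p, rfl⟩ := AlgSt.Points.mk_surjective z
  obtain ⟨q, rfl⟩ := AlgSt.Points.mk_surjective x
  rw [AlgSt.Points.map_mk, AlgSt.Points.map_mk, mk_eq_mk_iff h𝒴] at h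
  obtain ⟨r, a, b, -⟩ := h
  let αo : Over.mk r.str ⟶ Over.mk p.str := baseHom a r.lies (p.map g).lies
  let βo : Over.mk r.str ⟶ Over.mk q.str := baseHom b r.lies (q.map f).lies
  have ha : 𝒴.p.IsHomLift αo a := baseHom_isHomLift a r.lies _
  have hb : 𝒴.p.IsHomLift βo b := baseHom_isHomLift b r.lies _
  obtain ⟨p', e₁, he₁⟩ := FibGrpd.exists_lift' h𝒵 p.lies αo
  obtain ⟨q', e₂, he₂⟩ := FibGrpd.exists_lift' h𝒳 q.lies βo
  haveI := he₁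
  haveI := he₂
  have hge : 𝒴.p.IsHomLift αo (g.map e₁) := inferInstance
  have hfe : 𝒴.p.IsHomLift βo (f.map e₂) := inferInstance
  obtain ⟨χ₁, hχ₁, -⟩ := exists_fill h𝒴 αo αo (𝟙 _) (Category.id_comp _) (g.map e₁) a hge ha
  obtain ⟨χ₂, hχ₂, -⟩ := exists_fill h𝒴 βo βo (𝟙 _) (Category.id_comp _) (f.map e₂) b hfe hb
  haveI := hχ₁
  haveI := hχ₂
  haveI : IsIso χ₁ := FibGrpd.isIso_of_lift_id h𝒴 (U := Over.mk r.str) χ₁
  haveI : IsIso χ₂ := FibGrpd.isIso_of_lift_id h𝒴 (U := Over.mk r.str) χ₂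
  let ι₁ : g.obj p' ≅ r.obj := asIso χ₁
  let ι₂ : f.obj q' ≅ r.obj := asIso χ₂
  haveI l₁ : 𝒴.p.IsHomLift (𝟙 (Over.mk r.str)) ι₁.hom := hχ₁
  haveI l₂ : 𝒴.p.IsHomLift (𝟙 (Over.mk r.str)) ι₂.hom := hχ₂
  have l₂' : 𝒴.p.IsHomLift (𝟙 (Over.mk r.str)) ι₂.inv := inferInstance
  let ι : g.obj p' ≅ f.obj q' := ι₁ ≪≫ ι₂.symm
  have lι : 𝒴.p.IsHomLift (𝟙 (Over.mk r.str)) ι.hom := lift_id_comp' _ _ l₁ l₂'
  have hp' : 𝒵.p.obj p' = Over.mk r.str := IsHomLift.domain_eq 𝒵.p αo e₁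
  have lι' : 𝒴.p.IsHomLift (𝟙 (𝒵.p.obj p')) ι.hom := lift_id_transport hp'.symm _ lι
  let W : (FibCat.fp g f).obj := ⟨⟨p', q', ι⟩, lι'⟩
  let P : AlgSt.FPt (FibCat.fp g f) := ⟨r.K, r.str, W, hp'⟩
  refine ⟨AlgSt.Points.mk P, ?_, ?_⟩
  · rw [AlgSt.Points.map_mk]
    apply AlgSt.Points.sound
    exact ⟨P.map (FibCat.fpFst g f), 𝟙 _, e₁, trivial⟩
  · rw [AlgSt.Points.map_mk]
    apply AlgSt.Points.sound
    exact ⟨P.map (FibCat.fpSnd g f), 𝟙 _, e₂, trivial⟩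

/-- Base change of a surjective functor is surjective on points. -/
theorem isSurjective_fpFst (h𝒳 : IsFibGrpd 𝒳.p) (h𝒴 : IsFibGrpd 𝒴.p) (h𝒵 : IsFibGrpd 𝒵.p)
    (f : 𝒳 ⥤ᵇ 𝒴) (g : 𝒵 ⥤ᵇ 𝒴) (hf : AlgSt.IsSurjective f) :
    AlgSt.IsSurjective (FibCat.fpFst g f) := by
  intro z
  obtain ⟨x, hx⟩ := hf (AlgSt.Points.map g z)
  obtain ⟨w, hw, -⟩ := exists_points_fp h𝒳 h𝒴 h𝒵 f g z x hx.symm
  exact ⟨w, hw⟩

end Fp

end Groth.Agent.Helper6.AlgStPts
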