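import Mathlib
import Groth.Agent.Helper6.AlgStPts2
import Groth.Agent.Helper6.QcMor2
import Groth.Agent.Helper3.TwoYoneda

/-!
# Helper6: points of algebraic stacks vs. points of sheaves and schemes (set level)
-/

set_option autoImplicit false
set_option linter.style.haveILetI false
set_option linter.unusedVariables false
universe u

namespace Groth.Agent.Helper6.StPts
open CategoryTheory Functor FibCat Limits AlgebraicGeometry Opposite
open Groth.Agent.Helper3 Stk Groth.Agent.Helper6.OfPsh Groth.Agent.Helper6.OfPshHom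
open Groth.Agent.Helper6.FpTools Groth.Agent.Helper6.AlgStRep
open Groth.Agent.Helper6.AlgStEquiv Groth.Agent.Helper6.AlgStInv Groth.Agent.Helper6.AlgStPsh
open Groth.Agent.Helper6.DiagRep Groth.Agent.Helper6.AlgStPts
open AlgSp

variable {S : Scheme.{u}} {𝒳 𝒴 𝒵 : AlgSt.Cat S}

theorem points_map_congr {f f' : 𝒳 ⥤ᵇ 𝒴} (θ : f ≅ f') (x : AlgSt.Points 𝒳) :
    AlgSt.Points.map f x = AlgSt.Points.map f' x := by
  obtain ⟨p, rfl⟩ := AlgSt.Points.mk_surjective x
  rw [AlgSt.Points.map_mk, AlgSt.Points.map_mk]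
  exact AlgSt.Points.sound ⟨p.map f, 𝟙 _, (appIso θ p.obj).hom, trivial⟩

theorem points_map_id (x : AlgSt.Points 𝒳) : AlgSt.Points.map (BasedFunctor.id 𝒳) x = x := by
  obtain ⟨p, rfl⟩ := AlgSt.Points.mk_surjective x
  rfl

theorem points_map_bijective_of_isEquivOver (h𝒳 : IsFibGrpd 𝒳.p) (h𝒴 : IsFibGrpd 𝒴.p)
    (E : 𝒳 ⥤ᵇ 𝒴) (hE : IsEquivOver E) : Function.Bijective (AlgSt.Points.map E) := by
  haveI := ((isEquivOver_iff E).1 hE).1
  exact ⟨points_map_injective_of_full h𝒳 h𝒴 E, points_map_surjective_of_isEquivOver E hE⟩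

/-! ### points of a sheaf -/

/-- a field-valued point of a sheaf as a field-valued point of its category -/
noncomputable def sigmaFPt (F : Sp S) (p : AlgSp.FieldPt F) : AlgSt.FPt (AlgSt.ofSp F) :=
  { K := p.K, str := p.str, obj := ⟨Over.mk p.str, p.val⟩, lies := rfl }

theorem sigma_rel_iff {F : Sp S} (p q : AlgSp.FieldPt F) :
    AlgSt.FPt.Rel (sigmaFPt F p) (sigmaFPt F q) ↔ AlgSp.FieldPt.Rel p q := by
  constructor
  · rintro ⟨r, α, β, -⟩
    obtain ⟨K, str, ⟨T, s⟩, lies⟩ := r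
    change T = Over.mk str at lies
    subst lies
    exact ⟨K, inferInstance, str, α.hom, β.hom, α.map_sec.trans β.map_sec.symm⟩
  · rintro ⟨Ω, _, w, a, b, h⟩
    exact ⟨⟨Ω, w, ⟨Over.mk w, F.obj.map a.op p.val⟩, rfl⟩, ⟨a, rfl⟩, ⟨b, h.symm⟩, trivial⟩

/-- the comparison of the two sets of points of a sheaf -/
noncomputable def sigma (F : Sp S) : AlgSp.Points F → AlgSt.Points (AlgSt.ofSp F) :=
  Quotient.lift (fun p => AlgSt.Points.mk (sigmaFPt F p))
    (fun p q h => AlgSt.Points.sound ((sigma_rel_iff p q).2 h))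

theorem sigma_mk {F : Sp S} (p : AlgSp.FieldPt F) :
    sigma F (AlgSp.Points.mk p) = AlgSt.Points.mk (sigmaFPt F p) := rfl

theorem isFibGrpd_ofSp (F : Sp S) : IsFibGrpd (AlgSt.ofSp F).p :=
  (Groth.Agent.Helper6.ToSpace.isFibSetoid_ofPsh _).1

theorem sigma_injective (F : Sp S) : Function.Injective (sigma F) := by
  intro x y h
  induction x using AlgSp.Points.ind with
  | h p =>
    induction y using AlgSp.Points.ind with
    | h q =>
      rw [sigma_mk, sigma_mk, mk_eq_mk_iff (isFibGrpd_ofSp F)] at h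
      exact AlgSp.Points.sound ((sigma_rel_iff p q).1 h)

theorem sigma_surjective (F : Sp S) : Function.Surjective (sigma F) := by
  intro Q
  obtain ⟨q, rfl⟩ := AlgSt.Points.mk_surjective Q
  obtain ⟨K, str, ⟨T, s⟩, lies⟩ := q
  change T = Over.mk str at lies
  subst lies
  exact ⟨AlgSp.Points.mk ⟨K, str, s⟩, rfl⟩

theorem sigma_bijective (F : Sp S) : Function.Bijective (sigma F) :=
  ⟨sigma_injective F, sigma_surjective F⟩

theorem sigma_map {F G : Sp S} (m : F ⟶ G) (x : AlgSp.Points F) :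
    sigma G (AlgSp.Points.map m x) = AlgSt.Points.map (AlgSt.ofSpMap m) (sigma F x) := by
  induction x using AlgSp.Points.ind with
  | h p => rfl


/-! ### points of a scheme -/

/-- the point of `(Sch/U)` defined by a point of `U` -/
noncomputable def chartPt (U : Over S) (t : ↥U.left) : AlgSt.Points (overCat U) :=
  AlgSt.Points.ofChart (BasedFunctor.id _) t

theorem ofChart_eq {U : Over S} (x : overCat U ⥤ᵇ 𝒳) (t : ↥U.left) :
    AlgSt.Points.ofChart x t = AlgSt.Points.map x (chartPt U t) := rfl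

theorem chartPt_eq (U : Over S) (t : ↥U.left) :
    chartPt U t = AlgSt.Points.map (AlgSt.toOverCat U)
      (sigma ((yon S).obj U) (AlgSp.Points.ofScheme U t)) := rfl

theorem isFibGrpd_overCat (U : Over S) : IsFibGrpd (overCat U).p :=
  Groth.Agent.Helper9.FibRep.isFibGrpd_overCat U

theorem points_map_toOverCat_bijective (U : Over S) :
    Function.Bijective (AlgSt.Points.map (AlgSt.toOverCat U)) :=
  points_map_bijective_of_isEquivOver (isFibGrpd_ofSp _) (isFibGrpd_overCat U) _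
    (isEquivOver_toOverCat U)

theorem chartPt_bijective (U : Over S) : Function.Bijective (chartPt U) := by
  have h : chartPt U = AlgSt.Points.map (AlgSt.toOverCat U) ∘ sigma ((yon S).obj U) ∘
      AlgSp.Points.schemeEquiv U := rfl
  rw [h]
  exact (points_map_toOverCat_bijective U).comp
    ((sigma_bijective _).comp (AlgSp.Points.schemeEquiv U).bijective)

/-- surjectivity on points of a functor from a sheaf to a scheme -/
theorem surj_iff_spMapOfOver {F : Sp S} {U : Over S} (Φ : AlgSt.ofSp F ⥤ᵇ overCat U) :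
    Function.Surjective (AlgSt.Points.map Φ) ↔ AlgSp.IsSurjectiveMor (AlgSt.spMapOfOver Φ) := by
  obtain ⟨a, ⟨θ⟩⟩ := exists_ofSpMap_iso Φ
  rw [spMapOfOver_congr θ, spMapOfOver_ofSpMap_toOverCat]
  have e1 : AlgSt.Points.map Φ ∘ sigma F =
      (AlgSt.Points.map (AlgSt.toOverCat U) ∘ sigma ((yon S).obj U)) ∘ AlgSp.Points.map a := by
    funext x
    change AlgSt.Points.map Φ (sigma F x) =
      AlgSt.Points.map (AlgSt.toOverCat U) (sigma _ (AlgSp.Points.map a x))
    rw [sigma_map, points_map_congr θ, points_map_comp]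
  have hb : Function.Bijective (AlgSt.Points.map (AlgSt.toOverCat U) ∘ sigma ((yon S).obj U)) :=
    (points_map_toOverCat_bijective U).comp (sigma_bijective _)
  rw [← Function.Surjective.of_comp_iff _ (sigma_surjective F), e1,
    Function.Surjective.of_comp_iff' hb]
  rfl

/-- S12819, (⇒) -/
theorem rep_surj_of_isSurjective (h𝒳 : IsFibGrpd 𝒳.p) (h𝒴 : IsFibGrpd 𝒴.p) (f : 𝒳 ⥤ᵇ 𝒴)
    (hf : AlgSt.RepByAlgSp1 f) (hs : AlgSt.IsSurjective f) :
    AlgSt.RepByAlgSpWith IsSurjectiveMor f := by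
  intro U y
  obtain ⟨F, e, he⟩ := hf U y
  refine ⟨F, e, he, ?_⟩
  rw [← surj_iff_spMapOfOver]
  intro z
  obtain ⟨w, hw⟩ := isSurjective_fpFst h𝒳 h𝒴 (isFibGrpd_overCat U) f y hs z
  obtain ⟨v, hv⟩ := points_map_surjective_of_isEquivOver e he w
  exact ⟨v, by rw [points_map_comp, hv, hw]⟩

/-- S12819, (⇐) -/
theorem isSurjective_of_rep_surj (h𝒳 : IsFibGrpd 𝒳.p) (h𝒴 : IsFibGrpd 𝒴.p) (f : 𝒳 ⥤ᵇ 𝒴)
    (h : AlgSt.RepByAlgSpWith IsSurjectiveMor f) : AlgSt.IsSurjective f := by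
  intro Q
  obtain ⟨q, rfl⟩ := AlgSt.Points.mk_surjective Q
  haveI := TwoYoneda.evalAtId_isEquivalence_of_isFibGrpd (𝒳 := 𝒴) (Over.mk q.str) h𝒴
  obtain ⟨y, ⟨j⟩⟩ := Functor.EssSurj.mem_essImage (F := FibCat.evalAtId 𝒴 (Over.mk q.str))
    ⟨q.obj, q.lies⟩
  obtain ⟨F, e, he, hm⟩ := h _ y
  rw [← surj_iff_spMapOfOver] at hm
  let t₀ : AlgSt.FPt (overCat (Over.mk q.str)) := ⟨q.K, q.str, Over.mk (𝟙 (Over.mk q.str)), rfl⟩
  obtain ⟨v, hv⟩ := hm (AlgSt.Points.mk t₀)
  refine ⟨AlgSt.Points.map (BasedFunctor.comp e (fpSnd y f)) v, ?_⟩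
  have θ : BasedFunctor.comp (BasedFunctor.comp e (fpSnd y f)) f ≅
      BasedFunctor.comp (BasedFunctor.comp e (fpFst y f)) y :=
    whiskerLeftIso' e (fpIso y f).symm
  rw [← points_map_comp, points_map_congr θ, points_map_comp, hv, AlgSt.Points.map_mk]
  exact AlgSt.Points.sound ⟨t₀.map y, 𝟙 _, j.hom.1, trivial⟩

end Groth.Agent.Helper6.StPts
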