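import Mathlib
import Groth.Agent.Helper6.StPts
import Groth.Agent.Helper6.OverRep
import Groth.Agent.Helper4.AlgSpPtsDesc
import Groth.Agent.Helper5.SrcOpen
import Groth.Agent.Helper6.Descent2

/-!
# Helper6: the topology on the points of an algebraic stack
-/

set_option autoImplicit false
set_option linter.style.haveILetI false
set_option linter.unusedVariables false
universe u

namespace Groth.Agent.Helper6.StTop
open CategoryTheory Functor FibCat Limits AlgebraicGeometry Opposite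
open Groth.Agent.Helper3 Stk Groth.Agent.Helper6.OfPsh Groth.Agent.Helper6.OfPshHom
open Groth.Agent.Helper6.FpTools Groth.Agent.Helper6.AlgStRep
open Groth.Agent.Helper6.AlgStEquiv Groth.Agent.Helper6.AlgStInv Groth.Agent.Helper6.AlgStPsh
open Groth.Agent.Helper6.DiagRep Groth.Agent.Helper6.AlgStPts Groth.Agent.Helper6.StPts
open Groth.Agent.Helper6.SmLoc Groth.Agent.Helper6.ChartOver
open AlgSp

variable {S : Scheme.{u}} {𝒳 𝒴 𝒵 : AlgSt.Cat S}

/-! ### charts of sheaves -/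

theorem ofChart_atlasChart {F : Sp S} {V : Over S} (p : (yon S).obj V ⟶ F) (t : ↥V.left) :
    AlgSt.Points.ofChart (atlasChart p) t = sigma F (AlgSp.Points.ofPt p t) := by
  rw [AlgSp.Points.ofPt_eq_map_ofScheme, sigma_map]
  rfl

/-- every chart of a sheaf is, up to 2-isomorphism, the chart of a map of sheaves -/
theorem exists_atlasChart_iso {F : Sp S} {U : Over S} (x : overCat U ⥤ᵇ AlgSt.ofSp F) :
    ∃ g : (yon S).obj U ⟶ F, Nonempty (x ≅ atlasChart g) := by
  refine ⟨ObjectProperty.homMk (homOf (BasedFunctor.comp (AlgSt.toOverCat U) x)), ⟨?_⟩⟩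
  exact whiskerLeftIso' (AlgSt.ofOverCat U) (isoHomOf (BasedFunctor.comp (AlgSt.toOverCat U) x))

theorem sigma_isOpen_iff {F : Sp S} (hF : IsAlgSpace F) (W : Set (AlgSt.Points (AlgSt.ofSp F))) :
    IsOpen W ↔ IsOpen (sigma F ⁻¹' W) := by
  constructor
  · intro hW
    obtain ⟨V, p, hpe, hps⟩ := hF.atlas
    apply Groth.Agent.Helper4.AlgSpPtsDesc.isOpen_of_isOpen_preimage p hpe hps
    rw [← (AlgSp.Points.schemeHomeo V).isOpen_preimage]
    have h1 : (AlgSp.Points.schemeHomeo V) ⁻¹' (AlgSp.Points.map p ⁻¹' (sigma F ⁻¹' W)) =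
        AlgSt.Points.ofChart (atlasChart p) ⁻¹' W := by
      ext t
      simp only [Set.mem_preimage]
      rw [ofChart_atlasChart, AlgSp.Points.ofPt_eq_map_ofScheme]
      rfl
    rw [h1]
    exact (AlgSt.Points.isOpen_iff.1 hW) V (atlasChart p) (atlasChart_smooth p hpe)
  · intro hW
    rw [AlgSt.Points.isOpen_iff]
    intro U x hx
    obtain ⟨g, ⟨θ⟩⟩ := exists_atlasChart_iso x
    have h1 : AlgSt.Points.ofChart x ⁻¹' W = AlgSp.Points.ofPt g ⁻¹' (sigma F ⁻¹' W) := by
      ext t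
      simp only [Set.mem_preimage]
      rw [ofChart_eq, points_map_congr θ, ← ofChart_eq, ofChart_atlasChart]
    rw [h1]
    exact (AlgSp.Points.isOpen_iff.1 hW) U g

theorem sigma_continuous {F : Sp S} (hF : IsAlgSpace F) : Continuous (sigma F) :=
  continuous_def.2 fun W hW => (sigma_isOpen_iff hF W).1 hW

theorem sigma_isOpenMap {F : Sp S} (hF : IsAlgSpace F) : IsOpenMap (sigma F) := by
  intro A hA
  rw [sigma_isOpen_iff hF, Set.preimage_image_eq _ (sigma_injective F)]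
  exact hA


/-! ### points of schemes -/

set_option backward.isDefEq.respectTransparency.types false in
theorem smooth_id_overCat (U : Over S) :
    AlgSt.RepByAlgSpWith (LocP @Smooth) (BasedFunctor.id (overCat U)) :=
  (repByAlgSpWith_comp_equiv _ _ (AlgSt.toOverCat U) (isEquivOver_toOverCat U)).1
    (atlasChart_smooth (𝟙 ((yon S).obj U)) (repWith_id _ U))

theorem points_map_overMap {U' U : Over S} (c : U' ⟶ U) (t : ↥U'.left) :
    AlgSt.Points.map (AlgSt.overMap c) (chartPt U' t) = chartPt U (c.left t) := by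
  rw [chartPt_eq, chartPt_eq, ← points_map_comp,
    points_map_congr (Groth.Agent.Helper6.Descent1.overMapIso c).symm, points_map_comp, ← sigma_map]
  exact congrArg (fun z => AlgSt.Points.map (AlgSt.toOverCat U) (sigma _ z))
    (AlgSp.Points.map_yon_map_apply c t)

theorem chartPt_isOpen_iff (U : Over S) (B : Set (AlgSt.Points (overCat U))) :
    IsOpen B ↔ IsOpen (chartPt U ⁻¹' B) := by
  constructor
  · intro hB
    exact (AlgSt.Points.isOpen_iff.1 hB) U (BasedFunctor.id _) (smooth_id_overCat U)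
  · intro hB
    rw [AlgSt.Points.isOpen_iff]
    intro U' x hx
    obtain ⟨c, ⟨θ⟩⟩ := Groth.Agent.Helper6.OverRep.exists_overMap_iso x
    have h1 : AlgSt.Points.ofChart x ⁻¹' B = (fun t => c.left t) ⁻¹' (chartPt U ⁻¹' B) := by
      ext t
      simp only [Set.mem_preimage]
      rw [ofChart_eq, points_map_congr θ]
      exact Iff.of_eq (congrArg (fun z => z ∈ B) (points_map_overMap c t))
    rw [h1]
    exact hB.preimage c.left.continuous

theorem chartPt_continuous (U : Over S) : Continuous (chartPt U) :=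
  continuous_def.2 fun B hB => (chartPt_isOpen_iff U B).1 hB

theorem chartPt_isOpenMap (U : Over S) : IsOpenMap (chartPt U) := by
  intro A hA
  rw [chartPt_isOpen_iff, Set.preimage_image_eq _ (chartPt_bijective U).1]
  exact hA

/-- the homeomorphism between a scheme and the points of its slice category -/
noncomputable def chartHomeo (U : Over S) : ↥U.left ≃ₜ AlgSt.Points (overCat U) :=
  (Equiv.ofBijective _ (chartPt_bijective U)).toHomeomorphOfContinuousOpen (chartPt_continuous U) (chartPt_isOpenMap U)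


/-- the homeomorphism between the two spaces of points of an algebraic space -/
noncomputable def sigmaHomeo {F : Sp S} (hF : IsAlgSpace F) :
    AlgSp.Points F ≃ₜ AlgSt.Points (AlgSt.ofSp F) :=
  (Equiv.ofBijective _ (sigma_bijective F)).toHomeomorphOfContinuousOpen (sigma_continuous hF)
    (sigma_isOpenMap hF)

/-! ### functors from sheaves -/

theorem points_map_toOver_sigma {F : Sp S} {U : Over S} (Φ : AlgSt.ofSp F ⥤ᵇ overCat U)
    (z : AlgSp.Points F) :
    AlgSt.Points.map Φ (sigma F z) =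
      chartPt U (AlgSp.Points.toScheme U (AlgSp.Points.map (AlgSt.spMapOfOver Φ) z)) := by
  obtain ⟨a, ⟨θ⟩⟩ := exists_ofSpMap_iso Φ
  rw [spMapOfOver_congr θ, spMapOfOver_ofSpMap_toOverCat, points_map_congr θ, points_map_comp,
    ← sigma_map, chartPt_eq, AlgSp.Points.ofScheme_toScheme]

theorem points_map_toOver_eq {F : Sp S} (hF : IsAlgSpace F) {U : Over S}
    (Φ : AlgSt.ofSp F ⥤ᵇ overCat U) :
    AlgSt.Points.map Φ = chartHomeo U ∘ (AlgSp.Points.schemeHomeo U).symm ∘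
      AlgSp.Points.map (AlgSt.spMapOfOver Φ) ∘ (sigmaHomeo hF).symm := by
  funext w
  obtain ⟨z, rfl⟩ := (sigmaHomeo hF).surjective w
  simp only [Function.comp_apply, Homeomorph.symm_apply_apply]
  exact points_map_toOver_sigma Φ z

theorem continuous_map_toOver {F : Sp S} (hF : IsAlgSpace F) {U : Over S}
    (Φ : AlgSt.ofSp F ⥤ᵇ overCat U) : Continuous (AlgSt.Points.map Φ) := by
  rw [points_map_toOver_eq hF Φ]
  exact (chartHomeo U).continuous.comp ((AlgSp.Points.schemeHomeo U).symm.continuous.comp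
    ((AlgSp.Points.continuous_map _).comp (sigmaHomeo hF).symm.continuous))

theorem isOpenMap_map_toOver {F : Sp S} (hF : IsAlgSpace F) {U : Over S}
    (Φ : AlgSt.ofSp F ⥤ᵇ overCat U) (h : IsOpenMap (AlgSp.Points.map (AlgSt.spMapOfOver Φ))) :
    IsOpenMap (AlgSt.Points.map Φ) := by
  rw [points_map_toOver_eq hF Φ]
  exact (chartHomeo U).isOpenMap.comp ((AlgSp.Points.schemeHomeo U).symm.isOpenMap.comp
    (h.comp (sigmaHomeo hF).symm.isOpenMap))

theorem isClosedMap_map_toOver {F : Sp S} (hF : IsAlgSpace F) {U : Over S}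
    (Φ : AlgSt.ofSp F ⥤ᵇ overCat U) (h : IsClosedMap (AlgSp.Points.map (AlgSt.spMapOfOver Φ))) :
    IsClosedMap (AlgSt.Points.map Φ) := by
  rw [points_map_toOver_eq hF Φ]
  exact (chartHomeo U).isClosedMap.comp ((AlgSp.Points.schemeHomeo U).symm.isClosedMap.comp
    (h.comp (sigmaHomeo hF).symm.isClosedMap))

theorem points_map_ofSp_sigma {F G : Sp S} (Ψ : AlgSt.ofSp F ⥤ᵇ AlgSt.ofSp G) (z : AlgSp.Points F) :
    AlgSt.Points.map Ψ (sigma F z) =
      sigma G (AlgSp.Points.map (ObjectProperty.homMk (homOf Ψ) : F ⟶ G) z) := by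
  rw [points_map_congr (isoHomOf Ψ), sigma_map]
  rfl

theorem continuous_map_ofSp {F G : Sp S} (hF : IsAlgSpace F) (hG : IsAlgSpace G)
    (Ψ : AlgSt.ofSp F ⥤ᵇ AlgSt.ofSp G) : Continuous (AlgSt.Points.map Ψ) := by
  have h : AlgSt.Points.map Ψ = sigmaHomeo hG ∘
      AlgSp.Points.map (ObjectProperty.homMk (homOf Ψ) : F ⟶ G) ∘ (sigmaHomeo hF).symm := by
    funext w
    obtain ⟨z, rfl⟩ := (sigmaHomeo hF).surjective w
    simp only [Function.comp_apply, Homeomorph.symm_apply_apply]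
    exact points_map_ofSp_sigma Ψ z
  rw [h]
  exact (sigmaHomeo hG).continuous.comp ((AlgSp.Points.continuous_map _).comp
    (sigmaHomeo hF).symm.continuous)

/-! ### points of fibre products -/

variable {𝒜 ℬ 𝒲 : AlgSt.Cat S}

theorem fp_points_comm (ξ : 𝒜 ⥤ᵇ 𝒴) (y : ℬ ⥤ᵇ 𝒴) (e : 𝒲 ⥤ᵇ fp ξ y) (z : AlgSt.Points 𝒲) :
    AlgSt.Points.map ξ (AlgSt.Points.map (BasedFunctor.comp e (fpFst ξ y)) z) =
      AlgSt.Points.map y (AlgSt.Points.map (BasedFunctor.comp e (fpSnd ξ y)) z) := by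
  have θ : BasedFunctor.comp (BasedFunctor.comp e (fpFst ξ y)) ξ ≅
      BasedFunctor.comp (BasedFunctor.comp e (fpSnd ξ y)) y := whiskerLeftIso' e (fpIso ξ y)
  rw [← points_map_comp, ← points_map_comp, points_map_congr θ]

theorem fp_points_exists (h𝒜 : IsFibGrpd 𝒜.p) (hℬ : IsFibGrpd ℬ.p) (h𝒴 : IsFibGrpd 𝒴.p)
    (ξ : 𝒜 ⥤ᵇ 𝒴) (y : ℬ ⥤ᵇ 𝒴) (e : 𝒲 ⥤ᵇ fp ξ y) (he : IsEquivOver e)
    (a : AlgSt.Points 𝒜) (b : AlgSt.Points ℬ)
    (h : AlgSt.Points.map ξ a = AlgSt.Points.map y b) :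
    ∃ z : AlgSt.Points 𝒲, AlgSt.Points.map (BasedFunctor.comp e (fpFst ξ y)) z = a ∧
      AlgSt.Points.map (BasedFunctor.comp e (fpSnd ξ y)) z = b := by
  obtain ⟨w, hw1, hw2⟩ := exists_points_fp hℬ h𝒴 h𝒜 y ξ a b h
  obtain ⟨z, rfl⟩ := points_map_surjective_of_isEquivOver e he w
  exact ⟨z, by rw [points_map_comp, hw1], by rw [points_map_comp, hw2]⟩

/-- the image of the fibre product -/
theorem preimage_image_eq_fp (h𝒜 : IsFibGrpd 𝒜.p) (hℬ : IsFibGrpd ℬ.p) (h𝒴 : IsFibGrpd 𝒴.p)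
    (ξ : 𝒜 ⥤ᵇ 𝒴) (y : ℬ ⥤ᵇ 𝒴) (e : 𝒲 ⥤ᵇ fp ξ y) (he : IsEquivOver e)
    (B : Set (AlgSt.Points ℬ)) :
    AlgSt.Points.map ξ ⁻¹' (AlgSt.Points.map y '' B) =
      AlgSt.Points.map (BasedFunctor.comp e (fpFst ξ y)) ''
        (AlgSt.Points.map (BasedFunctor.comp e (fpSnd ξ y)) ⁻¹' B) := by
  ext a
  simp only [Set.mem_preimage, Set.mem_image]
  constructor
  · rintro ⟨b, hb, hab⟩
    obtain ⟨z, hz1, hz2⟩ := fp_points_exists h𝒜 hℬ h𝒴 ξ y e he a b hab.symm
    exact ⟨z, by rw [hz2]; exact hb, hz1⟩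
  · rintro ⟨z, hz, rfl⟩
    exact ⟨_, hz, (fp_points_comm ξ y e z).symm⟩

end Groth.Agent.Helper6.StTop
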