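import Mathlib
import Groth.Agent.Helper6.StTop
import Groth.Agent.Helper6.QcChart

/-!
# Helper6: continuity and openness of maps on points of algebraic stacks
-/

set_option autoImplicit false
set_option linter.style.haveILetI false
set_option linter.unusedVariables false
universe u

namespace Groth.Agent.Helper6.StTop
open CategoryTheory Functor FibCat Limits AlgebraicGeometry Opposite
open Groth.Agent.Helper3 Stk Groth.Agent.Helper6.OfPsh Groth.Agent.Helper6.OfPshHom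
open Groth.Agent.Helper6.FpTools Groth.Agent.Helper6.AlgStRep
open Groth.Agent.Helper6.AlgStEquiv Groth.Agent.Helper6.AlgStInv Groth.Agent.Helper6.AlgStPsh
open Groth.Agent.Helper6.DiagRep Groth.Agent.Helper6.AlgStPts Groth.Agent.Helper6.StPts
open Groth.Agent.Helper6.SmLoc Groth.Agent.Helper6.ChartOver Groth.Agent.Helper6.Descent2
open Groth.Agent.Helper6.DiagLft Groth.Agent.Helper6.ToSpace
open AlgSp

variable {S : Scheme.{u}} {𝒳 𝒴 𝒵 : AlgSt.Cat S}

/-- Thm A (S12821): flat, locally finitely presented functors from algebraic spaces are open on points -/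
theorem isOpenMap_points_map_of_flat_lfp (h𝒳 : IsFibGrpd 𝒳.p) (U : AlgSp.Space S)
    (u : AlgSt.ofSp U.obj ⥤ᵇ 𝒳)
    (hu₁ : AlgSt.RepByAlgSpWith (AlgSp.LocP @Flat) u)
    (hu₂ : AlgSt.RepByAlgSpWith (AlgSp.LocP @LocallyOfFinitePresentation) u) :
    IsOpenMap (AlgSt.Points.map u) := by
  intro A hA
  rw [AlgSt.Points.isOpen_iff]
  intro V x hx
  obtain ⟨F, e, he, hfl⟩ := hu₁ V x
  have hlfp : LocP @LocallyOfFinitePresentation
      (AlgSt.spMapOfOver (BasedFunctor.comp e (fpFst x u))) := by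
    obtain ⟨F₀, e₀, he₀, h₀⟩ := hu₂ V x
    exact P_of_chart' _ (locP_iso_comp _) (fpFst x u) e he e₀ he₀ h₀
  have hΦo : IsOpenMap (AlgSt.Points.map (BasedFunctor.comp e (fpFst x u))) :=
    isOpenMap_map_toOver F.property _
      (Groth.Agent.Helper5.SrcOpen.isOpenMor_of_flat_lfp F.property (IsAlgSpace.yon_obj V) _ hfl hlfp)
  have hΨc : Continuous (AlgSt.Points.map (BasedFunctor.comp e (fpSnd x u))) :=
    continuous_map_ofSp F.property U.property _
  have key : AlgSt.Points.ofChart x ⁻¹' (AlgSt.Points.map u '' A) =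
      chartPt V ⁻¹' (AlgSt.Points.map x ⁻¹' (AlgSt.Points.map u '' A)) := rfl
  rw [key, preimage_image_eq_fp (isFibGrpd_overCat V) (isFibGrpd_ofSp _) h𝒳 x u e he A]
  exact (hΦo _ (hΨc.isOpen_preimage _ hA)).preimage (chartPt_continuous V)

/-- Thm B (S12820): functors between algebraic stacks are continuous on points -/
theorem continuous_points_map (h𝒳 : IsFibGrpd 𝒳.p)
    (h𝒴 : AlgSt.IsAlgStack Scheme.fppfPrecoverage 𝒴) (f : 𝒳 ⥤ᵇ 𝒴) :
    Continuous (AlgSt.Points.map f) := by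
  rw [continuous_def]
  intro W hW
  rw [AlgSt.Points.isOpen_iff]
  intro U x hx
  obtain ⟨V, y, hy₁, hy₂⟩ := h𝒴.atlas
  have hY : IsFibGrpd 𝒴.p := h𝒴.isStack.1
  obtain ⟨F, e, he, hsm⟩ := hy₁ U (BasedFunctor.comp x f)
  have hΦo : IsOpenMap (AlgSt.Points.map (BasedFunctor.comp e (fpFst (BasedFunctor.comp x f) y))) :=
    isOpenMap_map_toOver F.property _
      (Groth.Agent.Helper5.SrcOpen.isOpenMor_of_flat_lfp F.property (IsAlgSpace.yon_obj U) _
        (smooth_le_flat _ hsm) (smooth_le_lfp _ hsm))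
  have hΨc : Continuous (AlgSt.Points.map (BasedFunctor.comp e (fpSnd (BasedFunctor.comp x f) y))) :=
    continuous_map_toOver F.property _
  have hys : AlgSt.IsSurjective y :=
    isSurjective_of_rep_surj (isFibGrpd_overCat V) hY y hy₂
  have hB : IsOpen (AlgSt.Points.map y ⁻¹' W) := by
    rw [chartPt_isOpen_iff]
    exact (AlgSt.Points.isOpen_iff.1 hW) V y hy₁
  have key : AlgSt.Points.ofChart x ⁻¹' (AlgSt.Points.map f ⁻¹' W) =
      chartPt U ⁻¹' (AlgSt.Points.map (BasedFunctor.comp x f) ⁻¹'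
        (AlgSt.Points.map y '' (AlgSt.Points.map y ⁻¹' W))) := by
    rw [Set.image_preimage_eq _ hys]
    rfl
  rw [key, preimage_image_eq_fp (isFibGrpd_overCat U) (isFibGrpd_overCat V) hY _ y e he]
  exact (hΦo _ (hΨc.isOpen_preimage _ hB)).preimage (chartPt_continuous U)


theorem ofChart_eq' {U : Over S} (x : overCat U ⥤ᵇ 𝒳) :
    AlgSt.Points.ofChart x = AlgSt.Points.map (BasedFunctor.comp (AlgSt.toOverCat U) x) ∘
      sigma ((yon S).obj U) ∘ AlgSp.Points.schemeHomeo U := by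
  funext t
  rw [ofChart_eq, chartPt_eq, ← points_map_comp]
  rfl

/-- S12822 -/
theorem ofChart_continuous_isOpenMap (h𝒳 : AlgSt.IsAlgStack Scheme.fppfPrecoverage 𝒳) (U : Over S)
    (x : overCat U ⥤ᵇ 𝒳)
    (hx₁ : AlgSt.RepByAlgSpWith (AlgSp.LocP @Flat) x)
    (hx₂ : AlgSt.RepByAlgSpWith (AlgSp.LocP @LocallyOfFinitePresentation) x) :
    Continuous (AlgSt.Points.ofChart x) ∧ IsOpenMap (AlgSt.Points.ofChart x) := by
  refine ⟨(continuous_points_map (isFibGrpd_overCat U) h𝒳 x).comp (chartPt_continuous U), ?_⟩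
  rw [ofChart_eq']
  exact (isOpenMap_points_map_of_flat_lfp h𝒳.isStack.1 ⟨(yon S).obj U, IsAlgSpace.yon_obj U⟩ _
    (rep_equiv_comp _ _ (isEquivOver_toOverCat U) x hx₁)
    (rep_equiv_comp _ _ (isEquivOver_toOverCat U) x hx₂)).comp
    ((sigma_isOpenMap (IsAlgSpace.yon_obj U)).comp (AlgSp.Points.schemeHomeo U).isOpenMap)

theorem ofChart_surjective (h𝒳 : IsFibGrpd 𝒳.p) {U : Over S} (x : overCat U ⥤ᵇ 𝒳)
    (hx : AlgSt.RepByAlgSpWith AlgSp.IsSurjectiveMor x) :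
    Function.Surjective (AlgSt.Points.ofChart x) :=
  (isSurjective_of_rep_surj (isFibGrpd_overCat U) h𝒳 x hx).comp (chartPt_bijective U).2

/-- S12823 -/
theorem isOpen_iff_preimage_fppf (h𝒳 : AlgSt.IsAlgStack Scheme.fppfPrecoverage 𝒳) (U : AlgSp.Space S)
    (p : AlgSt.ofSp U.obj ⥤ᵇ 𝒳)
    (hp₁ : AlgSt.RepByAlgSpWith (AlgSp.LocP @Flat) p)
    (hp₂ : AlgSt.RepByAlgSpWith (AlgSp.LocP @LocallyOfFinitePresentation) p)
    (hp₃ : AlgSt.RepByAlgSpWith AlgSp.IsSurjectiveMor p) (W : Set (AlgSt.Points 𝒳)) :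
    IsOpen W ↔ IsOpen (AlgSt.Points.map p ⁻¹' W) := by
  constructor
  · exact fun hW => (continuous_points_map (isFibGrpd_ofSp _) h𝒳 p).isOpen_preimage _ hW
  · intro hW
    have hs : AlgSt.IsSurjective p := isSurjective_of_rep_surj (isFibGrpd_ofSp _) h𝒳.isStack.1 p hp₃
    rw [← Set.image_preimage_eq W hs]
    exact isOpenMap_points_map_of_flat_lfp h𝒳.isStack.1 U p hp₁ hp₂ _ hW

/-- S12824 -/
theorem exists_isOpen_isCompact_nhd (h𝒳 : AlgSt.IsAlgStack Scheme.fppfPrecoverage 𝒳)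
    (x₀ : AlgSt.Points 𝒳) (W : Set (AlgSt.Points 𝒳)) (hW : IsOpen W) (hx : x₀ ∈ W) :
    ∃ V : Set (AlgSt.Points 𝒳), IsOpen V ∧ IsCompact V ∧ x₀ ∈ V ∧ V ⊆ W := by
  obtain ⟨U, a, ha₁, ha₂⟩ := h𝒳.atlas
  obtain ⟨t, rfl⟩ := ofChart_surjective h𝒳.isStack.1 a ha₂ x₀
  obtain ⟨hc, ho⟩ := ofChart_continuous_isOpenMap h𝒳 U a (repByAlgSpWith_mono smooth_le_flat ha₁)
    (repByAlgSpWith_mono smooth_le_lfp ha₁)
  have hO : IsOpen (AlgSt.Points.ofChart a ⁻¹' W) := hc.isOpen_preimage _ hW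
  have hx' : t ∈ (⟨_, hO⟩ : TopologicalSpace.Opens U.left) := hx
  obtain ⟨O', hO'mem, htO', hle⟩ :=
    (TopologicalSpace.Opens.isBasis_iff_nbhd.1 U.left.isBasis_affineOpens) hx'
  refine ⟨AlgSt.Points.ofChart a '' (O' : Set U.left), ho _ O'.isOpen,
    (IsAffineOpen.isCompact hO'mem).image hc, ⟨t, htO', rfl⟩, ?_⟩
  rintro _ ⟨s, hs, rfl⟩
  exact hle hs

end Groth.Agent.Helper6.StTop
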