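import Mathlib
import Groth.Agent.Helper6.StTop2
import Groth.Agent.Helper6.QcMor3

/-!
# Helper6: quasi-compact algebraic stacks and compactness of the space of points
-/

set_option autoImplicit false
set_option linter.style.haveILetI false
set_option linter.unusedVariables false
universe u

namespace Groth.Agent.Helper6.StTop
open CategoryTheory Functor FibCat Limits AlgebraicGeometry Opposite
open Groth.Agent.Helper3 Stk Groth.Agent.Helper6.OfPsh Groth.Agent.Helper6.OfPshHom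
open Groth.Agent.Helper6.FpTools Groth.Agent.Helper6.AlgStRep
open Groth.Agent.Helper6.AlgStEquiv Groth.Agent.Helper6.AlgStInv Groth.Agent.Helper6.AlgStPsh
open Groth.Agent.Helper6.DiagRep Groth.Agent.Helper6.AlgStPts Groth.Agent.Helper6.StPts
open Groth.Agent.Helper6.SmLoc Groth.Agent.Helper6.ChartOver Groth.Agent.Helper6.Descent2
open Groth.Agent.Helper6.DiagLft Groth.Agent.Helper6.ToSpace Groth.Agent.Helper6.QcChart
open Groth.Agent.Helper6.SpAtlas Groth.Agent.Helper4.SDClasses Groth.Agent.Helper6.QcMor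
open Groth.Agent.Helper6.QcMor2 Groth.Agent.Helper6.QcMor3 Groth.Agent.Helper6.AlgStBC
open Groth.Agent.Helper6.FpAlg
open AlgSp

variable {S : Scheme.{u}} {𝒳 𝒴 𝒵 : AlgSt.Cat S}

/-- compact refinement of a flat, locally finitely presented, surjective chart -/
theorem exists_compact_open_chart (h𝒵 : AlgSt.IsAlgStack Scheme.fppfPrecoverage 𝒵)
    [CompactSpace (AlgSt.Points 𝒵)] {V : Over S} (c : overCat V ⥤ᵇ 𝒵)
    (hc₁ : AlgSt.RepByAlgSpWith (AlgSp.LocP @Flat) c)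
    (hc₂ : AlgSt.RepByAlgSpWith (AlgSp.LocP @LocallyOfFinitePresentation) c)
    (hc₃ : AlgSt.RepByAlgSpWith AlgSp.IsSurjectiveMor c) :
    ∃ (V' : Over S) (ι : V' ⟶ V), IsOpenImmersion ι.left ∧ CompactSpace ↥V'.left ∧
      AlgSt.IsSurjective (BasedFunctor.comp (AlgSt.overMap ι) c) := by
  obtain ⟨hc, ho⟩ := ofChart_continuous_isOpenMap h𝒵 V c hc₁ hc₂
  have hs := ofChart_surjective h𝒵.isStack.1 c hc₃
  have hex : ∀ t : V.left, ∃ O : V.left.Opens, O ∈ V.left.affineOpens ∧ t ∈ O := fun t => by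
    obtain ⟨O, hO, ht, -⟩ :=
      (TopologicalSpace.Opens.isBasis_iff_nbhd.1 V.left.isBasis_affineOpens)
        (show t ∈ (⊤ : TopologicalSpace.Opens V.left) from trivial)
    exact ⟨O, hO, ht⟩
  choose O hOaff htO using hex
  obtain ⟨s, hs'⟩ := isCompact_univ.elim_finite_subcover
    (fun t => AlgSt.Points.ofChart c '' (O t : Set V.left)) (fun t => ho _ (O t).isOpen)
    (fun z _ => by
      obtain ⟨t, rfl⟩ := hs z
      exact Set.mem_iUnion.2 ⟨t, t, htO t, rfl⟩)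
  let O' : V.left.Opens := ⟨⋃ t ∈ s, (O t : Set V.left), isOpen_biUnion (fun t _ => (O t).isOpen)⟩
  have hcpt : IsCompact (O' : Set V.left) := s.isCompact_biUnion (fun t _ => (hOaff t).isCompact)
  let V' : Over S := Over.mk (O'.ι ≫ V.hom)
  let ι : V' ⟶ V := Over.homMk O'.ι rfl
  refine ⟨V', ι, (inferInstance : IsOpenImmersion O'.ι), isCompact_iff_compactSpace.1 hcpt, ?_⟩
  intro z
  have hz := hs' (Set.mem_univ z)
  simp only [Set.mem_iUnion] at hz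
  obtain ⟨t, ht, r, hr, rfl⟩ := hz
  have hrO : r ∈ (O' : Set V.left) := Set.mem_biUnion ht hr
  let r' : ↥V'.left := (show ↥O' from ⟨r, hrO⟩)
  refine ⟨chartPt V' r', ?_⟩
  rw [points_map_comp]
  exact (congrArg (AlgSt.Points.map c) (points_map_overMap ι r')).trans rfl

/-- S12847 -/
theorem isQuasiCompact_iff_compactSpace (h𝒳 : AlgSt.IsAlgStack Scheme.fppfPrecoverage 𝒳) :
    AlgSt.IsQuasiCompact 𝒳 ↔ CompactSpace (AlgSt.Points 𝒳) := by
  constructor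
  · rintro ⟨U, x, hU, hx₁, hx₂⟩
    haveI : IsAffine U.left := hU
    obtain ⟨hc, -⟩ := ofChart_continuous_isOpenMap h𝒳 U x (repByAlgSpWith_mono smooth_le_flat hx₁)
      (repByAlgSpWith_mono smooth_le_lfp hx₁)
    have hs := ofChart_surjective h𝒳.isStack.1 x hx₂
    exact ⟨by rw [← hs.range_eq]; exact isCompact_range hc⟩
  · intro hK
    obtain ⟨U, a, ha₁, ha₂⟩ := h𝒳.atlas
    obtain ⟨V', ι, hι, hV', hsurj⟩ := exists_compact_open_chart h𝒳 a
      (repByAlgSpWith_mono smooth_le_flat ha₁) (repByAlgSpWith_mono smooth_le_lfp ha₁) ha₂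
    have hsm : AlgSt.RepByAlgSpWith (LocP @Smooth) (BasedFunctor.comp (AlgSt.overMap ι) a) :=
      Groth.Agent.Helper6.RepComp.repByAlgSpWith_comp (isFibGrpd_overCat V') (isFibGrpd_overCat U) _
        (locP_comp' _ good_smooth) Groth.Agent.Helper6.LocalFppf.smooth _ a
        (overMap_smooth ι inferInstance) ha₁
    exact isQuasiCompact_of_compact_chart h𝒳.isStack.1 _ hV' hsm
      (rep_surj_of_isSurjective (isFibGrpd_overCat V') h𝒳.isStack.1 _ (repByAlgSp1_of_with hsm) hsurj)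

/-- S12858 -/
theorem isQuasiCompact_of_isSurjective {𝒰 : AlgSt.Cat S}
    (h𝒰 : AlgSt.IsAlgStack Scheme.fppfPrecoverage 𝒰)
    (h𝒳 : AlgSt.IsAlgStack Scheme.fppfPrecoverage 𝒳) (f : 𝒰 ⥤ᵇ 𝒳) (hf : AlgSt.IsSurjective f)
    (hq : AlgSt.IsQuasiCompact 𝒰) : AlgSt.IsQuasiCompact 𝒳 := by
  rw [isQuasiCompact_iff_compactSpace h𝒳]
  haveI := (isQuasiCompact_iff_compactSpace h𝒰).1 hq
  have hc := continuous_points_map h𝒰.isStack.1 h𝒳 f
  exact ⟨by rw [← Function.Surjective.range_eq hf]; exact isCompact_range hc⟩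


theorem isSurjective_fpSnd (h𝒳 : IsFibGrpd 𝒳.p) (h𝒴 : IsFibGrpd 𝒴.p) (h𝒵 : IsFibGrpd 𝒵.p)
    (f : 𝒳 ⥤ᵇ 𝒴) (g : 𝒵 ⥤ᵇ 𝒴) (hg : AlgSt.IsSurjective g) :
    AlgSt.IsSurjective (fpSnd g f) := by
  have h1 : AlgSt.IsSurjective (fpFst f g) := isSurjective_fpFst h𝒵 h𝒴 h𝒳 g f hg
  have h2 := points_map_surjective_of_isEquivOver (fpSwap g f) (isEquivOver_fpSwap g f)
  intro x
  obtain ⟨w, rfl⟩ := h1 x
  obtain ⟨v, rfl⟩ := h2 w
  exact ⟨v, points_map_comp (fpSwap g f) (fpFst f g) v⟩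

/-- S12985 -/
theorem isQuasiCompactMor_of_triangle
    (h𝒳 : AlgSt.IsAlgStack Scheme.fppfPrecoverage 𝒳)
    (h𝒴 : AlgSt.IsAlgStack Scheme.fppfPrecoverage 𝒴)
    (h𝒵 : AlgSt.IsAlgStack Scheme.fppfPrecoverage 𝒵)
    (f : 𝒳 ⥤ᵇ 𝒴) (p : 𝒳 ⥤ᵇ 𝒵) (q : 𝒴 ⥤ᵇ 𝒵) (e : BasedFunctor.comp f q ≅ p)
    (hf : AlgSt.IsSurjective f) (hp : AlgSt.IsQuasiCompactMor Scheme.fppfPrecoverage p) :
    AlgSt.IsQuasiCompactMor Scheme.fppfPrecoverage q := by
  intro 𝒲 h𝒲 hqc h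
  have hp' := isQuasiCompactMor_of_iso e hp
  have h1 := hp' 𝒲 h𝒲 hqc h
  have h2 : AlgSt.IsQuasiCompact (fp (fpFst q h) f) :=
    isQuasiCompact_of_isEquivOver (fpAssoc f q h) (isEquivOver_fpAssoc f q h) h1
  have hA : AlgSt.IsAlgStack Scheme.fppfPrecoverage (fp q h) :=
    isAlgStack_fp h𝒵.isStack h𝒵.diag h𝒴 h𝒲 q h
  have hB : AlgSt.IsAlgStack Scheme.fppfPrecoverage (fp (fpFst q h) f) :=
    isAlgStack_fp h𝒴.isStack h𝒴.diag hA h𝒳 _ f
  have h3 : AlgSt.IsSurjective (fpFst (fpFst q h) f) :=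
    isSurjective_fpFst h𝒳.isStack.1 h𝒴.isStack.1 hA.isStack.1 f (fpFst q h) hf
  have h4 := isQuasiCompact_of_isSurjective hB hA _ h3 h2
  exact isQuasiCompact_of_isEquivOver (fpSwap q h) (isEquivOver_fpSwap q h) h4

theorem rep_fpFst (P : MorphismProperty (Sp S)) {𝒲 : AlgSt.Cat S} (g : 𝒵 ⥤ᵇ 𝒴) (w : 𝒲 ⥤ᵇ 𝒴)
    (hw : AlgSt.RepByAlgSpWith P w) : AlgSt.RepByAlgSpWith P (fpFst g w) :=
  repByAlgSpWith_of_baseChange P w g (fpFst g w) (BasedFunctor.id _) (isEquivOver_id _)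
    (Iso.refl _) hw

set_option backward.isDefEq.respectTransparency.types false in
/-- S12989 -/
theorem isQuasiCompactMor_of_fpFst_fppf_cover
    (h𝒳 : AlgSt.IsAlgStack Scheme.fppfPrecoverage 𝒳)
    (h𝒴 : AlgSt.IsAlgStack Scheme.fppfPrecoverage 𝒴) (f : 𝒳 ⥤ᵇ 𝒴)
    (W : AlgSp.Space S) (w : AlgSt.ofSp W.obj ⥤ᵇ 𝒴)
    (hw₁ : AlgSt.RepByAlgSpWith (AlgSp.LocP @Flat) w)
    (hw₂ : AlgSt.RepByAlgSpWith (AlgSp.LocP @LocallyOfFinitePresentation) w)
    (hw₃ : AlgSt.RepByAlgSpWith AlgSp.IsSurjectiveMor w)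
    (h : AlgSt.IsQuasiCompactMor Scheme.fppfPrecoverage (fpFst w f)) :
    AlgSt.IsQuasiCompactMor Scheme.fppfPrecoverage f := by
  intro 𝒵 h𝒵 hqc g
  have hW : AlgSt.IsAlgStack Scheme.fppfPrecoverage (AlgSt.ofSp W.obj) :=
    (Groth.Agent.S12772.isDM_ofSp W).1
  have hZ' : AlgSt.IsAlgStack Scheme.fppfPrecoverage (fp g w) :=
    isAlgStack_fp h𝒴.isStack h𝒴.diag h𝒵 hW g w
  obtain ⟨V, v, hv₁, hv₂⟩ := hZ'.atlas
  have hVg := isFibGrpd_overCat V
  have hZ'g := hZ'.isStack.1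
  have hc₁ : AlgSt.RepByAlgSpWith (LocP @Flat) (BasedFunctor.comp v (fpFst g w)) :=
    Groth.Agent.Helper6.RepComp.repByAlgSpWith_comp hVg hZ'g _ (locP_comp' _ good_flat)
      Groth.Agent.Helper6.LocalFppf.flat v _ (repByAlgSpWith_mono smooth_le_flat hv₁)
      (rep_fpFst _ g w hw₁)
  have hc₂ : AlgSt.RepByAlgSpWith (LocP @LocallyOfFinitePresentation)
      (BasedFunctor.comp v (fpFst g w)) :=
    Groth.Agent.Helper6.RepComp.repByAlgSpWith_comp hVg hZ'g _ (locP_comp' _ good_lfp)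
      Groth.Agent.Helper6.LocalFppf.lfp v _ (repByAlgSpWith_mono smooth_le_lfp hv₁)
      (rep_fpFst _ g w hw₂)
  have hc₃ : AlgSt.RepByAlgSpWith IsSurjectiveMor (BasedFunctor.comp v (fpFst g w)) :=
    Groth.Agent.Helper6.RepComp.repByAlgSpWith_comp hVg hZ'g _ surj_comp surj_localOnBase v _ hv₂
      (rep_fpFst _ g w hw₃)
  haveI := (isQuasiCompact_iff_compactSpace h𝒵).1 hqc
  obtain ⟨V', ι, hι, hV', hsurj⟩ :=
    exists_compact_open_chart h𝒵 (BasedFunctor.comp v (fpFst g w)) hc₁ hc₂ hc₃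
  haveI := hV'
  have hV'a := isAlgStack_overCat V'
  let c' : overCat V' ⥤ᵇ 𝒵 := BasedFunctor.comp (AlgSt.overMap ι) (BasedFunctor.comp v (fpFst g w))
  let k : overCat V' ⥤ᵇ AlgSt.ofSp W.obj :=
    BasedFunctor.comp (AlgSt.overMap ι) (BasedFunctor.comp v (fpSnd g w))
  have h1 : AlgSt.IsQuasiCompact (fp k (fpFst w f)) :=
    h (overCat V') hV'a (isQuasiCompact_overCat V') k
  have h2 : AlgSt.IsQuasiCompact (fp (BasedFunctor.comp k w) f) :=
    isQuasiCompact_of_isEquivOver' (pasteLeft k w f) (isEquivOver_pasteLeft k w f) h1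
  have θ : BasedFunctor.comp c' g ≅ BasedFunctor.comp k w :=
    whiskerLeftIso' (BasedFunctor.comp (AlgSt.overMap ι) v) (fpIso g w)
  have h3 : AlgSt.IsQuasiCompact (fp (BasedFunctor.comp c' g) f) :=
    isQuasiCompact_of_isEquivOver' (Groth.Agent.Helper6.RepDiag.fpCongrLeft f θ)
      (Groth.Agent.Helper6.RepDiag.isEquivOver_fpCongrLeft f θ) h2
  have hA : AlgSt.IsAlgStack Scheme.fppfPrecoverage (fp g f) :=
    isAlgStack_fp h𝒴.isStack h𝒴.diag h𝒵 h𝒳 g f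
  have hB : AlgSt.IsAlgStack Scheme.fppfPrecoverage (fp (BasedFunctor.comp c' g) f) :=
    isAlgStack_fp h𝒴.isStack h𝒴.diag hV'a h𝒳 _ f
  have h4 : AlgSt.IsSurjective (pasteInner c' g f) := by
    have h5 : AlgSt.IsSurjective (fpSnd c' (fpFst g f)) :=
      isSurjective_fpSnd hA.isStack.1 h𝒵.isStack.1 (isFibGrpd_overCat V') (fpFst g f) c' hsurj
    have h6 := points_map_surjective_of_isEquivOver (pasteLeft c' g f) (isEquivOver_pasteLeft c' g f)
    intro x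
    obtain ⟨y, rfl⟩ := h5 x
    obtain ⟨z, rfl⟩ := h6 y
    exact ⟨z, points_map_comp (pasteLeft c' g f) (fpSnd c' (fpFst g f)) z⟩
  exact isQuasiCompact_of_isSurjective hB hA _ h4 h3

end Groth.Agent.Helper6.StTop
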