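import Mathlib
import Groth.Agent.Helper6.StTop3
import Groth.Agent.Helper6.QcMor3
import Groth.Agent.Helper5.SmST
import Groth.Agent.Helper4.AlgSpLocP2
import Groth.Agent.Helper4.AlgSpLocPBC

/-!
# Helper6: `LocQ` — basic tools (maps of algebraic spaces versus functors of stacks)
-/

set_option autoImplicit false
set_option linter.style.haveILetI false
set_option linter.unusedVariables false
universe u

namespace Groth.Agent.Helper6.LocQ0
open CategoryTheory Functor FibCat Limits AlgebraicGeometry Opposite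
open Groth.Agent.Helper3 Stk Groth.Agent.Helper6.OfPsh Groth.Agent.Helper6.OfPshHom
open Groth.Agent.Helper6.FpTools Groth.Agent.Helper6.AlgStRep
open Groth.Agent.Helper6.AlgStEquiv Groth.Agent.Helper6.AlgStInv Groth.Agent.Helper6.AlgStPsh
open Groth.Agent.Helper6.DiagRep Groth.Agent.Helper6.AlgStPts Groth.Agent.Helper6.StPts
open Groth.Agent.Helper6.SmLoc Groth.Agent.Helper6.ChartOver Groth.Agent.Helper6.StTop
open Groth.Agent.Helper6.QcMor2 Groth.Agent.Helper6.SpAtlas Groth.Agent.Helper4.SDClasses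
open Groth.Agent.Helper6.Descent1 Groth.Agent.Helper6.Descent2
open AlgSp

variable {S : Scheme.{u}} {𝒳 𝒴 𝒵 : AlgSt.Cat S}

instance locP_respectsIso (Q : MorphismProperty Scheme.{u}) :
    (LocP (S := S) Q).RespectsIso := by
  apply MorphismProperty.RespectsIso.mk
  · intro X Y Z e f hf
    exact locP_iso_comp Q e f hf
  · intro X Y Z e f hf U V a b h ha hb comm
    have i1 := repWith_isStableUnderBaseChange (S := S) @Etale
    have hb' : RepWith @Etale (b ≫ e.inv) :=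
      (MorphismProperty.cancel_right_of_respectsIso (RepWith @Etale) b e.inv).2 hb
    refine hf a (b ≫ e.inv) h ha hb' ?_
    rw [← Category.assoc, ← comm, Category.assoc, Category.assoc, e.hom_inv_id, Category.comp_id]

/-- a map of algebraic spaces which has `LocP Q` as a functor of stacks has `LocP Q` -/
theorem locP_of_rep (Q : MorphismProperty Scheme.{u})
    [Q.DescendsAlong (@Surjective ⊓ @Flat ⊓ @LocallyOfFinitePresentation)]
    {X Y : Sp S} (hX : IsAlgSpace X) (hY : IsAlgSpace Y) (w : X ⟶ Y)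
    (h : AlgSt.RepByAlgSpWith (LocP Q) (AlgSt.ofSpMap w)) : LocP Q w := by
  have h1 : RepBySpWith (LocP Q) w.hom :=
    repBySpWith_of_repByAlgSpWith _ _ (Groth.Agent.Helper6.AlgStSpMap.repBySp_of_isAlgSpace hX hY w) h
  rw [repBySpWith_hom_iff] at h1
  obtain ⟨U₀, p, hpe, hps⟩ := hY.atlas
  have sq := IsPullback.of_hasPullback w p
  obtain ⟨-, h2⟩ := h1 p _ _ sq
  exact Groth.Agent.Helper4.AlgSpLocP2.locP_of_target_cover Q w p hpe hps _ _ sq h2

/-- a map of algebraic spaces with a base-change-stable property has it as a functor of stacks -/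
theorem rep_ofSpMap (P : MorphismProperty (Sp S))
    (hPb : ∀ ⦃X₁ Y₁ X₂ Y₂ : Sp S⦄, IsAlgSpace X₁ → IsAlgSpace Y₁ → IsAlgSpace X₂ →
      IsAlgSpace Y₂ → ∀ (a : X₁ ⟶ Y₁) (b : Y₂ ⟶ Y₁) (a' : X₂ ⟶ Y₂) (b' : X₂ ⟶ X₁),
      IsPullback b' a' a b → P a → P a')
    {X Y : Sp S} (hX : IsAlgSpace X) (hY : IsAlgSpace Y) (w : X ⟶ Y) (hw : P w) :
    AlgSt.RepByAlgSpWith P (AlgSt.ofSpMap w) := by
  apply repByAlgSpWith_of_repBySpWith
  rw [repBySpWith_hom_iff]
  intro U ξ F' fst snd sq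
  have hF' : IsAlgSpace F' := Groth.Agent.Helper4.AlgSpPB.isAlgSpace_of_isPullback hY.diag hX
    (IsAlgSpace.yon_obj U) w ξ fst snd sq
  exact ⟨hF', hPb hX hY hF' (IsAlgSpace.yon_obj U) w ξ snd fst sq hw⟩

theorem rep_of_atlasChart (P : MorphismProperty (Sp S)) {U : Over S} {F : Sp S}
    (p : (yon S).obj U ⟶ F) (h : AlgSt.RepByAlgSpWith P (atlasChart p)) :
    AlgSt.RepByAlgSpWith P (AlgSt.ofSpMap p) :=
  rep_equiv_comp P (AlgSt.toOverCat U) (isEquivOver_toOverCat U) (atlasChart p) h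

theorem atlasChart_of_rep (P : MorphismProperty (Sp S)) {U : Over S} {F : Sp S}
    (p : (yon S).obj U ⟶ F) (h : AlgSt.RepByAlgSpWith P (AlgSt.ofSpMap p)) :
    AlgSt.RepByAlgSpWith P (atlasChart p) :=
  rep_equiv_comp P (AlgSt.ofOverCat U) (isEquivOver_ofOverCat U) (AlgSt.ofSpMap p) h

theorem comm_of_iso {U V : Over S} {F G : Sp S} (p : (yon S).obj U ⟶ F) (q : (yon S).obj V ⟶ G)
    (a : F ⟶ G) (h : U ⟶ V)
    (α : BasedFunctor.comp (atlasChart p) (AlgSt.ofSpMap a) ≅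
      BasedFunctor.comp (AlgSt.overMap h) (atlasChart q)) :
    p ≫ a = (yon S).map h ≫ q := by
  have e : AlgSt.ofSpMap (p ≫ a) ≅ AlgSt.ofSpMap ((yon S).map h ≫ q) :=
    whiskerLeftIso' (AlgSt.toOverCat U) α
  have := homOf_congr e
  erw [homOf_ofPshMap, homOf_ofPshMap] at this
  exact ObjectProperty.hom_ext _ this

theorem locP_smooth_of_etale {X Y : Sp S} (q : X ⟶ Y) (hq : RepWith @Etale q) :
    LocP @Smooth q := by
  haveI := good_smooth.{u}.comp
  exact Groth.Agent.Helper4.AlgSpLocP.locP_of_repWith @Smooth @Etale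
    (fun g hg => good_smooth.etale_le g hg) (fun g hg => good_smooth.etale_le g hg) q hq

theorem smooth_bc : ∀ ⦃X₁ Y₁ X₂ Y₂ : Sp S⦄, IsAlgSpace X₁ → IsAlgSpace Y₁ → IsAlgSpace X₂ →
      IsAlgSpace Y₂ → ∀ (a : X₁ ⟶ Y₁) (b : Y₂ ⟶ Y₁) (a' : X₂ ⟶ Y₂) (b' : X₂ ⟶ X₁),
      IsPullback b' a' a b → LocP @Smooth a → LocP @Smooth a' :=
  fun X₁ Y₁ X₂ Y₂ h1 h2 h3 h4 a b a' b' sq ha =>
    Groth.Agent.Helper5.SmST.locP_smooth_of_isPullback h1 h2 a b b' a' sq ha

theorem surj_bc : ∀ ⦃X₁ Y₁ X₂ Y₂ : Sp S⦄, IsAlgSpace X₁ → IsAlgSpace Y₁ → IsAlgSpace X₂ →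
      IsAlgSpace Y₂ → ∀ (a : X₁ ⟶ Y₁) (b : Y₂ ⟶ Y₁) (a' : X₂ ⟶ Y₂) (b' : X₂ ⟶ X₁),
      IsPullback b' a' a b → IsSurjectiveMor a → IsSurjectiveMor a' :=
  fun X₁ Y₁ X₂ Y₂ h1 h2 h3 h4 a b a' b' sq ha =>
    Groth.Agent.Helper4.AlgSpPts.isSurjectiveMor_of_isPullback sq ha

set_option backward.isDefEq.respectTransparency.types false in
/-- S12992 -/
theorem locQ_ofSpMap_iff (P : MorphismProperty (Sp S)) (hP : IsSmoothLocalST P)
    (F G : AlgSp.Space S) (a : F ⟶ G) :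
    AlgSt.LocQ P (AlgSt.ofSpMap a.hom) ↔ P a.hom := by
  constructor
  · rintro ⟨U, V, x, y, h, α, hx₁, hx₂, hy, hPh⟩
    obtain ⟨p, ⟨θx⟩⟩ := exists_atlasChart_iso x
    obtain ⟨q, ⟨θy⟩⟩ := exists_atlasChart_iso y
    have hp₁ : LocP @Smooth p := locP_of_rep @Smooth (IsAlgSpace.yon_obj U) F.property p
      (rep_of_atlasChart _ p (Groth.Agent.Helper6.AlgStSpMap.repByAlgSpWith_of_iso _ θx.symm hx₁))
    have hp₂ : IsSurjectiveMor p := isSurjectiveMor_of_rep (IsAlgSpace.yon_obj U) F.property p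
      (rep_of_atlasChart _ p (Groth.Agent.Helper6.AlgStSpMap.repByAlgSpWith_of_iso _ θx.symm hx₂))
    have hq : LocP @Smooth q := locP_of_rep @Smooth (IsAlgSpace.yon_obj V) G.property q
      (rep_of_atlasChart _ q (Groth.Agent.Helper6.AlgStSpMap.repByAlgSpWith_of_iso _ θy.symm hy))
    have comm : p ≫ a.hom = (yon S).map h ≫ q := comm_of_iso p q a.hom h
      (whiskerRightIso' θx.symm _ ≪≫ α ≪≫ whiskerLeftIso' _ θy)
    refine (hP.locality F.property G.property a.hom).2 fun x₀ => ?_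
    obtain ⟨v, hv⟩ := hp₂ x₀
    exact ⟨_, _, p, q, (yon S).map h, v, IsAlgSpace.yon_obj U, IsAlgSpace.yon_obj V, hp₁, hq,
      comm, hv, hPh⟩
  · intro hPa
    obtain ⟨V, q, hqe, hqs⟩ := G.property.atlas
    have sq := IsPullback.of_hasPullback a.hom q
    have hF' : IsAlgSpace (pullback a.hom q) :=
      Groth.Agent.Helper4.AlgSpPB.isAlgSpace_of_isPullback G.property.diag F.property
        (IsAlgSpace.yon_obj V) a.hom q _ _ sq
    have hq_sm : LocP @Smooth q := locP_smooth_of_etale q hqe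
    have hq_surj : IsSurjectiveMor q := Groth.Agent.Helper4.AlgSpPts.isSurjectiveMor_of_repWith q hqs
    have hPa' : P (pullback.snd a.hom q) :=
      hP.baseChange F.property G.property hF' (IsAlgSpace.yon_obj V) a.hom q _ _ sq hq_sm hPa
    have hfst_sm : LocP @Smooth (pullback.fst a.hom q) :=
      smooth_bc (IsAlgSpace.yon_obj V) G.property hF' F.property q a.hom _ _ sq.flip hq_sm
    have hfst_surj : IsSurjectiveMor (pullback.fst a.hom q) :=
      surj_bc (IsAlgSpace.yon_obj V) G.property hF' F.property q a.hom _ _ sq.flip hq_surj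
    obtain ⟨U, p', hpe, hps⟩ := hF'.atlas
    obtain ⟨h, hh⟩ := (yon S).map_surjective (p' ≫ pullback.snd a.hom q)
    have key : (p' ≫ pullback.fst a.hom q) ≫ a.hom = (yon S).map h ≫ q := by
      rw [hh, Category.assoc, Category.assoc, sq.w]
    have hPh : P ((yon S).map h) := by
      rw [hh]
      exact hP.precomp (IsAlgSpace.yon_obj U) hF' (IsAlgSpace.yon_obj V) p' _
        (locP_smooth_of_etale p' hpe) hPa'
    refine ⟨U, V, BasedFunctor.comp (atlasChart p') (AlgSt.ofSpMap (pullback.fst a.hom q)),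
      atlasChart q, h, ?_, ?_, ?_, atlasChart_smooth q hqe, hPh⟩
    · exact whiskerLeftIso' (AlgSt.ofOverCat U) (eqToIso (congrArg AlgSt.ofSpMap key))
    · exact comp_atlasChart_smooth (isFibGrpd_ofSp _) ⟨_, hF'⟩ p' hpe _
        (rep_ofSpMap _ smooth_bc hF' F.property _ hfst_sm)
    · exact comp_atlasChart_surj (isFibGrpd_ofSp _) ⟨_, hF'⟩ p' hpe hps _
        (rep_ofSpMap _ surj_bc hF' F.property _ hfst_surj)

end Groth.Agent.Helper6.LocQ0
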