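import Mathlib
import Groth.Agent.Helper6.LocQ0

/-!
# Helper6: `LocQ` — space chart squares
-/

set_option autoImplicit false
set_option linter.style.haveILetI false
set_option linter.unusedVariables false
universe u

namespace Groth.Agent.Helper6.LocQ1
open CategoryTheory Functor FibCat Limits AlgebraicGeometry Opposite
open Groth.Agent.Helper3 Stk Groth.Agent.Helper6.OfPsh Groth.Agent.Helper6.OfPshHom
open Groth.Agent.Helper6.FpTools Groth.Agent.Helper6.AlgStRep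
open Groth.Agent.Helper6.AlgStEquiv Groth.Agent.Helper6.AlgStInv Groth.Agent.Helper6.AlgStPsh
open Groth.Agent.Helper6.DiagRep Groth.Agent.Helper6.AlgStPts Groth.Agent.Helper6.StPts
open Groth.Agent.Helper6.SmLoc Groth.Agent.Helper6.ChartOver Groth.Agent.Helper6.StTop
open Groth.Agent.Helper6.QcMor2 Groth.Agent.Helper6.SpAtlas Groth.Agent.Helper4.SDClasses
open Groth.Agent.Helper6.Descent1 Groth.Agent.Helper6.Descent2 Groth.Agent.Helper6.LocQ0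
open AlgSp

variable {S : Scheme.{u}} {𝒳 𝒴 𝒵 : AlgSt.Cat S}

theorem smooth_comp (h𝒳 : IsFibGrpd 𝒳.p) (h𝒴 : IsFibGrpd 𝒴.p) (f : 𝒳 ⥤ᵇ 𝒴) (g : 𝒴 ⥤ᵇ 𝒵)
    (hf : AlgSt.RepByAlgSpWith (LocP @Smooth) f) (hg : AlgSt.RepByAlgSpWith (LocP @Smooth) g) :
    AlgSt.RepByAlgSpWith (LocP @Smooth) (BasedFunctor.comp f g) :=
  Groth.Agent.Helper6.RepComp.repByAlgSpWith_comp h𝒳 h𝒴 _
    (locP_comp' _ good_smooth) Groth.Agent.Helper6.LocalFppf.smooth f g hf hg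

theorem surj_comp' (h𝒳 : IsFibGrpd 𝒳.p) (h𝒴 : IsFibGrpd 𝒴.p) (f : 𝒳 ⥤ᵇ 𝒴) (g : 𝒴 ⥤ᵇ 𝒵)
    (hf : AlgSt.RepByAlgSpWith IsSurjectiveMor f) (hg : AlgSt.RepByAlgSpWith IsSurjectiveMor g) :
    AlgSt.RepByAlgSpWith IsSurjectiveMor (BasedFunctor.comp f g) :=
  Groth.Agent.Helper6.RepComp.repByAlgSpWith_comp h𝒳 h𝒴 _
    surj_comp surj_localOnBase f g hf hg

set_option backward.isDefEq.respectTransparency.types false in
/-- from a space chart square to a scheme chart square -/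
theorem locQ_of_space_square (P : MorphismProperty (Sp S)) (hP : IsSmoothLocalST P)
    (h𝒳 : IsFibGrpd 𝒳.p) (h𝒴 : IsFibGrpd 𝒴.p) (f : 𝒳 ⥤ᵇ 𝒴)
    (U V : AlgSp.Space S) (x : AlgSt.ofSp U.obj ⥤ᵇ 𝒳) (y : AlgSt.ofSp V.obj ⥤ᵇ 𝒴) (h : U ⟶ V)
    (α : BasedFunctor.comp x f ≅ BasedFunctor.comp (AlgSt.ofSpMap h.hom) y)
    (hx₁ : AlgSt.RepByAlgSpWith (LocP @Smooth) x) (hx₂ : AlgSt.RepByAlgSpWith IsSurjectiveMor x)
    (hy : AlgSt.RepByAlgSpWith (LocP @Smooth) y) (hPh : P h.hom) : AlgSt.LocQ P f := by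
  obtain ⟨V₀, q, hqe, hqs⟩ := V.property.atlas
  have sq := IsPullback.of_hasPullback h.hom q
  have hF' : IsAlgSpace (pullback h.hom q) :=
    Groth.Agent.Helper4.AlgSpPB.isAlgSpace_of_isPullback V.property.diag U.property
      (IsAlgSpace.yon_obj V₀) h.hom q _ _ sq
  have hq_sm : LocP @Smooth q := locP_smooth_of_etale q hqe
  have hq_surj : IsSurjectiveMor q := Groth.Agent.Helper4.AlgSpPts.isSurjectiveMor_of_repWith q hqs
  have hPa' : P (pullback.snd h.hom q) :=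
    hP.baseChange U.property V.property hF' (IsAlgSpace.yon_obj V₀) h.hom q _ _ sq hq_sm hPh
  have hfst_sm : LocP @Smooth (pullback.fst h.hom q) :=
    smooth_bc (IsAlgSpace.yon_obj V₀) V.property hF' U.property q h.hom _ _ sq.flip hq_sm
  have hfst_surj : IsSurjectiveMor (pullback.fst h.hom q) :=
    surj_bc (IsAlgSpace.yon_obj V₀) V.property hF' U.property q h.hom _ _ sq.flip hq_surj
  obtain ⟨U₀, p', hpe, hps⟩ := hF'.atlas
  obtain ⟨h₀, hh⟩ := (yon S).map_surjective (p' ≫ pullback.snd h.hom q)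
  have key : (p' ≫ pullback.fst h.hom q) ≫ h.hom = (yon S).map h₀ ≫ q := by
    rw [hh, Category.assoc, Category.assoc, sq.w]
  have hPh₀ : P ((yon S).map h₀) := by
    rw [hh]
    exact hP.precomp (IsAlgSpace.yon_obj U₀) hF' (IsAlgSpace.yon_obj V₀) p' _
      (locP_smooth_of_etale p' hpe) hPa'
  refine ⟨U₀, V₀, BasedFunctor.comp (atlasChart p')
      (BasedFunctor.comp (AlgSt.ofSpMap (pullback.fst h.hom q)) x),
    BasedFunctor.comp (atlasChart q) y, h₀, ?_, ?_, ?_, comp_atlasChart_smooth h𝒴 V q hqe y hy, hPh₀⟩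
  · exact whiskerLeftIso' (BasedFunctor.comp (atlasChart p') (AlgSt.ofSpMap (pullback.fst h.hom q))) α
      ≪≫ whiskerRightIso' (whiskerLeftIso' (AlgSt.ofOverCat U₀)
        (eqToIso (congrArg AlgSt.ofSpMap key))) y
  · exact comp_atlasChart_smooth h𝒳 ⟨_, hF'⟩ p' hpe _
      (smooth_comp (isFibGrpd_ofSp _) (isFibGrpd_ofSp _) _ x
        (rep_ofSpMap _ smooth_bc hF' U.property _ hfst_sm) hx₁)
  · exact comp_atlasChart_surj h𝒳 ⟨_, hF'⟩ p' hpe hps _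
      (surj_comp' (isFibGrpd_ofSp _) (isFibGrpd_ofSp _) _ x
        (rep_ofSpMap _ surj_bc hF' U.property _ hfst_surj) hx₂)

set_option backward.isDefEq.respectTransparency.types false in
/-- S12991 -/
theorem locQ_iff_space_square (P : MorphismProperty (Sp S)) (hP : IsSmoothLocalST P)
    (h𝒳 : IsFibGrpd 𝒳.p) (h𝒴 : IsFibGrpd 𝒴.p) (f : 𝒳 ⥤ᵇ 𝒴) :
    AlgSt.LocQ P f ↔
      ∃ (U V : AlgSp.Space S) (x : AlgSt.ofSp U.obj ⥤ᵇ 𝒳) (y : AlgSt.ofSp V.obj ⥤ᵇ 𝒴) (h : U ⟶ V)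
        (_ : BasedFunctor.comp x f ≅ BasedFunctor.comp (AlgSt.ofSpMap h.hom) y),
        AlgSt.RepByAlgSpWith (AlgSp.LocP @Smooth) x ∧ AlgSt.RepByAlgSpWith AlgSp.IsSurjectiveMor x ∧
        AlgSt.RepByAlgSpWith (AlgSp.LocP @Smooth) y ∧ P h.hom := by
  constructor
  · rintro ⟨U, V, x, y, h, α, hx₁, hx₂, hy, hPh⟩
    refine ⟨⟨(yon S).obj U, IsAlgSpace.yon_obj U⟩, ⟨(yon S).obj V, IsAlgSpace.yon_obj V⟩,
      BasedFunctor.comp (AlgSt.toOverCat U) x, BasedFunctor.comp (AlgSt.toOverCat V) y,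
      ObjectProperty.homMk ((yon S).map h), whiskerLeftIso' (AlgSt.toOverCat U) α,
      rep_equiv_comp _ _ (isEquivOver_toOverCat U) x hx₁,
      rep_equiv_comp _ _ (isEquivOver_toOverCat U) x hx₂,
      rep_equiv_comp _ _ (isEquivOver_toOverCat V) y hy, hPh⟩
  · rintro ⟨U, V, x, y, h, α, hx₁, hx₂, hy, hPh⟩
    exact locQ_of_space_square P hP h𝒳 h𝒴 f U V x y h α hx₁ hx₂ hy hPh

end Groth.Agent.Helper6.LocQ1
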