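import Mathlib
import Groth.Agent.Helper6.LocQ1
import Groth.Agent.Helper5.NoethDesc

/-!
# Helper6: `LocQ` — immersions, locally Noetherian stacks
-/

set_option autoImplicit false
set_option linter.style.haveILetI false
set_option linter.unusedVariables false
universe u

namespace Groth.Agent.Helper6.LocQ2
open CategoryTheory Functor FibCat Limits AlgebraicGeometry Opposite
open Groth.Agent.Helper3 Stk Groth.Agent.Helper6.OfPsh Groth.Agent.Helper6.OfPshHom
open Groth.Agent.Helper6.FpTools Groth.Agent.Helper6.AlgStRep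
open Groth.Agent.Helper6.AlgStEquiv Groth.Agent.Helper6.AlgStInv Groth.Agent.Helper6.AlgStPsh
open Groth.Agent.Helper6.DiagRep Groth.Agent.Helper6.AlgStPts Groth.Agent.Helper6.StPts
open Groth.Agent.Helper6.SmLoc Groth.Agent.Helper6.ChartOver Groth.Agent.Helper6.StTop
open Groth.Agent.Helper6.QcMor2 Groth.Agent.Helper6.SpAtlas Groth.Agent.Helper4.SDClasses
open Groth.Agent.Helper6.Descent1 Groth.Agent.Helper6.Descent2 Groth.Agent.Helper6.LocQ0
open Groth.Agent.Helper6.LocQ1 Groth.Agent.Helper6.AlgStBC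
open AlgSp

variable {S : Scheme.{u}} {𝒳 𝒴 𝒵 : AlgSt.Cat S}

theorem rep_fpSnd (P : MorphismProperty (Sp S)) (y : 𝒵 ⥤ᵇ 𝒴) (f : 𝒳 ⥤ᵇ 𝒴)
    (hy : AlgSt.RepByAlgSpWith P y) : AlgSt.RepByAlgSpWith P (fpSnd y f) :=
  repByAlgSpWith_of_baseChange P y f (fpSnd y f) (fpSwap y f) (isEquivOver_fpSwap y f)
    (Iso.refl _) hy

theorem locP_yon_of (P : MorphismProperty Scheme.{u}) (hG : Good P) {U V : Over S} (h : U ⟶ V)
    (hh : P h.left) : LocP P ((yon S).map h) := by
  haveI := hG.comp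
  haveI := hG.bc
  exact Groth.Agent.Helper4.AlgSpLocP.locP_of_repWith P P (fun g hg => hg)
    (fun g hg => hG.etale_le g hg) _ ((repWith_yon_map_iff P h).2 hh)

set_option backward.isDefEq.respectTransparency.types false in
theorem localSm_locNoeth : LocalSm (fun T : Scheme.{u} => IsLocallyNoetherian T) := by
  intro U R hR
  constructor
  · intro hU V g hg
    haveI : Smooth g := hR.2 hg
    haveI := hU
    exact LocallyOfFiniteType.isLocallyNoetherian g
  · intro h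
    have hjs := (Presieve.mem_comap_jointlySurjectivePrecoverage_iff Scheme.forget).1 hR.1
    choose V g hg hx using hjs
    haveI : ∀ x, Smooth (g x) := fun x => hR.2 (hg x)
    haveI : Smooth (Sigma.desc g) :=
      IsZariskiLocalAtSource.sigmaDesc (P := @Smooth) (fun x => inferInstance)
    haveI : Surjective (Sigma.desc g) := by
      refine ⟨fun x => ?_⟩
      obtain ⟨v, hv⟩ := hx x
      refine ⟨(Sigma.ι V x) v, ?_⟩
      rw [← Scheme.Hom.comp_apply, Sigma.ι_desc]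
      exact hv
    haveI : IsLocallyNoetherian (∐ V) := by
      rw [isLocallyNoetherian_iff_openCover (sigmaOpenCover V)]
      intro x
      exact h (g x) (hg x)
    exact Groth.Agent.Helper5.NoethDesc.isLocallyNoetherian_of_flat_lfp_surjective (Sigma.desc g)

/-- S12998 -/
theorem smoothLocally_locNoeth_of_locQ_lft (f : 𝒳 ⥤ᵇ 𝒴)
    (hf : AlgSt.LocQ (LocP @LocallyOfFiniteType) f)
    (hN : AlgSt.SmoothLocally (fun T ↦ IsLocallyNoetherian T) 𝒴) :
    AlgSt.SmoothLocally (fun T ↦ IsLocallyNoetherian T) 𝒳 := by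
  obtain ⟨U, V, x, y, h, α, hx₁, hx₂, hy, hPh⟩ := hf
  haveI hV : IsLocallyNoetherian V.left := hN V y hy
  haveI hh : LocallyOfFiniteType h.left := locP_yon_map hPh
  have hU : IsLocallyNoetherian U.left := LocallyOfFiniteType.isLocallyNoetherian h.left
  exact smoothLocally_of_chart _ localSm_locNoeth x hx₁ hx₂ hU

/-- S12999 -/
theorem locQ_lfp_of_locNoeth (f : 𝒳 ⥤ᵇ 𝒴)
    (hN : AlgSt.SmoothLocally (fun T ↦ IsLocallyNoetherian T) 𝒴)
    (hf : AlgSt.LocQ (LocP @LocallyOfFiniteType) f) :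
    AlgSt.LocQ (LocP @LocallyOfFinitePresentation) f := by
  obtain ⟨U, V, x, y, h, α, hx₁, hx₂, hy, hPh⟩ := hf
  haveI hV : IsLocallyNoetherian V.left := hN V y hy
  haveI hh : LocallyOfFiniteType h.left := locP_yon_map hPh
  have hh' : LocallyOfFinitePresentation h.left :=
    LocallyOfFinitePresentation.iff_locallyOfFiniteType.2 hh
  exact ⟨U, V, x, y, h, α, hx₁, hx₂, hy, locP_yon_of _ good_lfp h hh'⟩

set_option backward.isDefEq.respectTransparency.types false in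
/-- a functor representable by schemes with `Q` has `LocQ P` as soon as `Q ⇒ P` on schemes -/
theorem locQ_of_repWith (Q : MorphismProperty Scheme.{u}) (P : MorphismProperty (Sp S))
    (hQP : ∀ {U V : Over S} (h : U ⟶ V), Q h.left → P ((yon S).map h))
    (h𝒴 : AlgSt.IsAlgStack Scheme.fppfPrecoverage 𝒴) (f : 𝒳 ⥤ᵇ 𝒴)
    (hf : AlgSt.RepByAlgSpWith (RepWith Q) f) : AlgSt.LocQ P f := by
  obtain ⟨V, y, hy₁, hy₂⟩ := h𝒴.atlas
  obtain ⟨F, e, he, ha⟩ := hf V y
  obtain ⟨c, ⟨θ⟩⟩ := exists_ofSpMap_iso (BasedFunctor.comp e (fpFst y f))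
  rw [spMapOfOver_congr θ, spMapOfOver_ofSpMap_toOverCat] at ha
  have hr := ha.rep
  have sq := hr.isPullback (𝟙 ((yon S).obj V))
  haveI hw : IsIso (hr.fst (𝟙 ((yon S).obj V))) := sq.isIso_fst_of_isIso
  have hQ : Q (hr.snd (𝟙 ((yon S).obj V))).left :=
    ((repWith_iff Q c).1 ha).2 (𝟙 _) _ _ sq
  have hwe : IsEquivOver (AlgSt.ofSpMap (hr.fst (𝟙 ((yon S).obj V)))) :=
    isEquivOver_ofPshMap_iso
      ((sheafToPresheaf _ _).mapIso (asIso (hr.fst (𝟙 ((yon S).obj V)))))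
  have hE : IsEquivOver (BasedFunctor.comp (atlasChart (hr.fst (𝟙 ((yon S).obj V)))) e) :=
    isEquivOver_comp (isEquivOver_comp (isEquivOver_ofOverCat _) hwe) he
  have key : hr.fst (𝟙 ((yon S).obj V)) ≫ c = (yon S).map (hr.snd (𝟙 ((yon S).obj V))) := by
    rw [sq.w, Category.comp_id]
  refine ⟨hr.pullback (𝟙 ((yon S).obj V)), V,
    BasedFunctor.comp (BasedFunctor.comp (atlasChart (hr.fst (𝟙 ((yon S).obj V)))) e) (fpSnd y f),
    y, hr.snd (𝟙 ((yon S).obj V)), ?_, ?_, ?_, hy₁, hQP _ hQ⟩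
  · refine whiskerLeftIso' (BasedFunctor.comp (atlasChart (hr.fst (𝟙 ((yon S).obj V)))) e)
      (fpIso y f).symm ≪≫ ?_
    refine whiskerRightIso' (?_ : BasedFunctor.comp
      (BasedFunctor.comp (atlasChart (hr.fst (𝟙 ((yon S).obj V)))) e) (fpFst y f) ≅
        AlgSt.overMap (hr.snd (𝟙 ((yon S).obj V)))) y
    refine whiskerLeftIso' (atlasChart (hr.fst (𝟙 ((yon S).obj V)))) θ ≪≫ ?_
    exact whiskerLeftIso' (AlgSt.ofOverCat _)
      (whiskerRightIso' (eqToIso (congrArg AlgSt.ofSpMap key)) (AlgSt.toOverCat V))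
  · exact rep_equiv_comp _ _ hE _ (rep_fpSnd _ y f hy₁)
  · exact rep_equiv_comp _ _ hE _ (rep_fpSnd _ y f hy₂)

/-- S12996 -/
theorem locQ_lft_of_isImm (h𝒴 : AlgSt.IsAlgStack Scheme.fppfPrecoverage 𝒴) (f : 𝒳 ⥤ᵇ 𝒴)
    (hf : AlgSt.IsImm f) : AlgSt.LocQ (LocP @LocallyOfFiniteType) f :=
  locQ_of_repWith @IsImmersion _
    (fun h hh => locP_yon_of _ good_lft h (by haveI := hh; infer_instance)) h𝒴 f hf

/-- S12997 -/
theorem locQ_lfp_of_isOpenImm (h𝒴 : AlgSt.IsAlgStack Scheme.fppfPrecoverage 𝒴) (f : 𝒳 ⥤ᵇ 𝒴)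
    (hf : AlgSt.IsOpenImm f) : AlgSt.LocQ (LocP @LocallyOfFinitePresentation) f :=
  locQ_of_repWith @IsOpenImmersion _
    (fun h hh => locP_yon_of _ good_lfp h (by haveI := hh; infer_instance)) h𝒴 f hf

end Groth.Agent.Helper6.LocQ2
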