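import Mathlib
import Groth.Agent.Helper6.LocQ2
import Groth.Agent.Helper6.FpLiftIso
import Groth.Agent.Helper6.FpAlg

/-!
# Helper6: `LocQ` — independence of the smooth chart square
-/

set_option autoImplicit false
set_option linter.style.haveILetI false
set_option linter.unusedVariables false
universe u

namespace Groth.Agent.Helper6.LocQ3
open CategoryTheory Functor FibCat Limits AlgebraicGeometry Opposite
open Groth.Agent.Helper3 Stk Groth.Agent.Helper6.OfPsh Groth.Agent.Helper6.OfPshHom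
open Groth.Agent.Helper6.FpTools Groth.Agent.Helper6.OfPshFp Groth.Agent.Helper6.AlgStRep
open Groth.Agent.Helper6.AlgStEquiv Groth.Agent.Helper6.AlgStInv Groth.Agent.Helper6.AlgStPsh
open Groth.Agent.Helper6.DiagRed Groth.Agent.Helper6.RepDiag Groth.Agent.Helper6.RepComp
open Groth.Agent.Helper6.DiagRep Groth.Agent.Helper6.AlgStPts Groth.Agent.Helper6.StPts
open Groth.Agent.Helper6.SmLoc Groth.Agent.Helper6.ChartOver Groth.Agent.Helper6.StTop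
open Groth.Agent.Helper6.QcMor2 Groth.Agent.Helper6.SpAtlas Groth.Agent.Helper4.SDClasses
open Groth.Agent.Helper6.Descent1 Groth.Agent.Helper6.Descent2 Groth.Agent.Helper6.LocQ0
open Groth.Agent.Helper6.LocQ1 Groth.Agent.Helper6.LocQ2 Groth.Agent.Helper6.AlgStBC
open Groth.Agent.Helper6.OverRep
open AlgSp

variable {S : Scheme.{u}} {𝒳 𝒴 𝒵 : AlgSt.Cat S}

/-- Lemma B with both projections -/
theorem pbEquiv2 (f : 𝒳 ⥤ᵇ 𝒴) {U Z : Over S} (y : overCat U ⥤ᵇ 𝒴) (c : Z ⟶ U)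
    (F : AlgSp.Space S) (e : AlgSt.ofSp F.obj ⥤ᵇ fp y f) (he : IsEquivOver e)
    (a : F.obj ⟶ (yon S).obj U)
    (θ : BasedFunctor.comp e (fpFst y f) ≅ BasedFunctor.comp (AlgSt.ofSpMap a) (AlgSt.toOverCat U))
    {P : Sp S} (fst : P ⟶ F.obj) (snd : P ⟶ (yon S).obj Z)
    (sq : IsPullback fst snd a ((yon S).map c)) :
    ∃ E : AlgSt.ofSp P ⥤ᵇ fp (BasedFunctor.comp (AlgSt.overMap c) y) f, IsEquivOver E ∧
      Nonempty (BasedFunctor.comp E (fpFst _ f) ≅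
        BasedFunctor.comp (AlgSt.ofSpMap snd) (AlgSt.toOverCat Z)) ∧
      Nonempty (BasedFunctor.comp E (pasteInner (AlgSt.overMap c) y f) ≅
        BasedFunctor.comp (AlgSt.ofSpMap fst) e) := by
  let B : fp (AlgSt.ofSpMap ((yon S).map c)) (AlgSt.ofSpMap a) ⥤ᵇ fp (AlgSt.overMap c) (fpFst y f) :=
    cospanFunctor (AlgSt.overMap c) (fpFst y f) (AlgSt.ofSpMap ((yon S).map c)) (AlgSt.ofSpMap a)
      (AlgSt.toOverCat Z) e (AlgSt.toOverCat U) (overMapIso c) θ.symm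
  have hBe : IsEquivOver B :=
    isEquivOver_cospanFunctor _ _ _ _ _ _ _ _ _ (isEquivOver_toOverCat Z) he (isEquivOver_toOverCat U)
  have sq' : IsPullback snd.hom fst.hom ((yon S).map c).hom a.hom :=
    (sq.map (sheafToPresheaf _ _)).flip
  have hA := isEquivOver_toFp sq'
  obtain ⟨K, hK, -, ⟨ε⟩⟩ := EquivOver.symm (isEquivOver_pasteLeft (AlgSt.overMap c) y f)
  refine ⟨BasedFunctor.comp (BasedFunctor.comp (toFp sq'.w) B) K,
    isEquivOver_comp (isEquivOver_comp hA hBe) hK, ⟨?_⟩, ⟨?_⟩⟩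
  · exact whiskerLeftIso' (BasedFunctor.comp (toFp sq'.w) B)
      (whiskerRightIso' ε (fpFst (AlgSt.overMap c) (fpFst y f)))
  · exact whiskerLeftIso' (BasedFunctor.comp (toFp sq'.w) B)
      (whiskerRightIso' ε (fpSnd (AlgSt.overMap c) (fpFst y f)))

/-- a space representing the fibre product of two charts, with both projections -/
theorem exists_chart_fp (Q₁ Q₂ Q₂' : MorphismProperty (Sp S))
    (hQ₂ : ∀ ⦃X X' Y : Sp S⦄ (i : X ≅ X') (g : X' ⟶ Y), Q₂ g → Q₂ (i.hom ≫ g))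
    (hQ₂' : ∀ ⦃X X' Y : Sp S⦄ (i : X ≅ X') (g : X' ⟶ Y), Q₂' g → Q₂' (i.hom ≫ g))
    {U U' : Over S} (x : overCat U ⥤ᵇ 𝒳) (x' : overCat U' ⥤ᵇ 𝒳)
    (hx : AlgSt.RepByAlgSpWith Q₁ x) (hx' : AlgSt.RepByAlgSpWith Q₂ x')
    (hx'' : AlgSt.RepByAlgSpWith Q₂' x') :
    ∃ (F : AlgSp.Space S) (e : AlgSt.ofSp F.obj ⥤ᵇ fp x' x) (c₁ : F.obj ⟶ (yon S).obj U')
      (c₂ : F.obj ⟶ (yon S).obj U), IsEquivOver e ∧
      Nonempty (BasedFunctor.comp e (fpFst x' x) ≅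
        BasedFunctor.comp (AlgSt.ofSpMap c₁) (AlgSt.toOverCat U')) ∧
      Nonempty (BasedFunctor.comp e (fpSnd x' x) ≅
        BasedFunctor.comp (AlgSt.ofSpMap c₂) (AlgSt.toOverCat U)) ∧ Q₁ c₁ ∧ Q₂ c₂ ∧ Q₂' c₂ := by
  obtain ⟨F, e, he, h1⟩ := hx U' x'
  obtain ⟨F₂, e₂, he₂, h2'⟩ := hx' U x
  obtain ⟨F₃, e₃, he₃, h3'⟩ := hx'' U x
  have hes : IsEquivOver (BasedFunctor.comp e (fpSwap x' x)) :=
    isEquivOver_comp he (isEquivOver_fpSwap x' x)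
  have h2 := P_of_chart' _ hQ₂ (fpFst x x') (BasedFunctor.comp e (fpSwap x' x)) hes e₂ he₂ h2'
  have h3 := P_of_chart' _ hQ₂' (fpFst x x') (BasedFunctor.comp e (fpSwap x' x)) hes e₃ he₃ h3'
  obtain ⟨c₁, ⟨θ₁⟩⟩ := exists_ofSpMap_iso (BasedFunctor.comp e (fpFst x' x))
  obtain ⟨c₂, ⟨θ₂⟩⟩ := exists_ofSpMap_iso
    (BasedFunctor.comp (BasedFunctor.comp e (fpSwap x' x)) (fpFst x x'))
  rw [spMapOfOver_congr θ₁, spMapOfOver_ofSpMap_toOverCat] at h1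
  rw [spMapOfOver_congr θ₂, spMapOfOver_ofSpMap_toOverCat] at h2 h3
  exact ⟨F, e, c₁, c₂, he, ⟨θ₁⟩, ⟨θ₂⟩, h1, h2, h3⟩

set_option backward.isDefEq.respectTransparency.types false in
/-- the key lemma: from one `P`-square to every square whose induced map to the fibre product is smooth -/
theorem P_of_lsmooth (P : MorphismProperty (Sp S)) (hP : IsSmoothLocalST P) (f : 𝒳 ⥤ᵇ 𝒴)
    {U₀ V₀ : Over S} (x₀ : overCat U₀ ⥤ᵇ 𝒳) (y₀ : overCat V₀ ⥤ᵇ 𝒴) (h₀ : U₀ ⟶ V₀)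
    (α₀ : BasedFunctor.comp x₀ f ≅ BasedFunctor.comp (AlgSt.overMap h₀) y₀)
    (hx₀₁ : AlgSt.RepByAlgSpWith (LocP @Smooth) x₀)
    (hx₀₂ : AlgSt.RepByAlgSpWith IsSurjectiveMor x₀)
    (hy₀ : AlgSt.RepByAlgSpWith (LocP @Smooth) y₀) (hP₀ : P ((yon S).map h₀))
    {U V : Over S} (y : overCat V ⥤ᵇ 𝒴) (hy : AlgSt.RepByAlgSpWith (LocP @Smooth) y)
    (ℓ : overCat U ⥤ᵇ fp f y) (hℓ : AlgSt.RepByAlgSpWith (LocP @Smooth) ℓ)
    (hx : AlgSt.RepByAlgSpWith (LocP @Smooth) (BasedFunctor.comp ℓ (fpFst f y)))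
    (h : U ⟶ V) (ι : BasedFunctor.comp ℓ (fpSnd f y) ≅ AlgSt.overMap h) :
    P ((yon S).map h) := by
  -- the space `B = V₀ ×_𝒴 V`
  obtain ⟨B, eB, b₀, b, heB, ⟨θb₀⟩, ⟨θb⟩, hb₀, hb, -⟩ :=
    exists_chart_fp (LocP @Smooth) (LocP @Smooth) (LocP @Smooth) (locP_iso_comp @Smooth)
      (locP_iso_comp @Smooth) y y₀ hy hy₀ hy₀
  -- the space `A = U₀ ×_𝒳 U`
  obtain ⟨A, eA, a₀, a, heA, -, ⟨θa⟩, -, ha₁, ha₂⟩ :=
    exists_chart_fp (LocP @Smooth) (LocP @Smooth) IsSurjectiveMor (locP_iso_comp @Smooth)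
      surj_iso_comp (BasedFunctor.comp ℓ (fpFst f y)) x₀ hx hx₀₁ hx₀₂
  -- the space `A₁ = B ×_{V₀} U₀`
  have sq₁ := IsPullback.of_hasPullback b₀ ((yon S).map h₀)
  have hA₁ : IsAlgSpace (pullback b₀ ((yon S).map h₀)) :=
    Groth.Agent.Helper4.AlgSpPB.isAlgSpace_of_isPullback (IsAlgSpace.yon_obj V₀).diag B.property
      (IsAlgSpace.yon_obj U₀) b₀ ((yon S).map h₀) _ _ sq₁
  have hPfst : P (pullback.fst b₀ ((yon S).map h₀)) :=
    hP.baseChange (IsAlgSpace.yon_obj U₀) (IsAlgSpace.yon_obj V₀) hA₁ B.property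
      ((yon S).map h₀) b₀ _ _ sq₁.flip hb₀ hP₀
  obtain ⟨E₁, hE₁, -, ⟨i₂⟩⟩ := pbEquiv2 y y₀ h₀ B eB heB b₀ θb₀ _ _ sq₁
  -- the stack `𝒲' = (𝒳 ×_𝒴 V) ×_𝒳 U₀` and the comparison `G`
  let G : fp (BasedFunctor.comp (AlgSt.overMap h₀) y₀) y ⥤ᵇ fp (fpFst f y) x₀ :=
    BasedFunctor.comp (fpCongrLeft y α₀.symm)
      (BasedFunctor.comp (pasteLeft x₀ f y) (fpSwap x₀ (fpFst f y)))
  have hG : IsEquivOver G :=
    isEquivOver_comp (isEquivOver_fpCongrLeft y α₀.symm)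
      (isEquivOver_comp (isEquivOver_pasteLeft x₀ f y) (isEquivOver_fpSwap x₀ (fpFst f y)))
  -- the base change square for `ℓ`
  let E : fp x₀ (BasedFunctor.comp ℓ (fpFst f y)) ⥤ᵇ fp (fpFst (fpFst f y) x₀) ℓ :=
    BasedFunctor.comp (fpSwap x₀ (BasedFunctor.comp ℓ (fpFst f y)))
      (BasedFunctor.comp (pasteLeft ℓ (fpFst f y) x₀) (fpSwap ℓ (fpFst (fpFst f y) x₀)))
  have hE : IsEquivOver E :=
    isEquivOver_comp (isEquivOver_fpSwap _ _)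
      (isEquivOver_comp (isEquivOver_pasteLeft ℓ (fpFst f y) x₀) (isEquivOver_fpSwap _ _))
  have hh' : AlgSt.RepByAlgSpWith (LocP @Smooth)
      (BasedFunctor.comp E (fpFst (fpFst (fpFst f y) x₀) ℓ)) :=
    repByAlgSpWith_of_baseChange _ ℓ (fpFst (fpFst f y) x₀) _ E hE (Iso.refl _) hℓ
  -- the map `k₁ : A ⟶ A₁`
  have hΨ : IsEquivOver (BasedFunctor.comp E₁ G) := isEquivOver_comp hE₁ hG
  obtain ⟨J, hJ, -, ⟨ε⟩⟩ := EquivOver.symm hΨ
  let Φ : AlgSt.ofSp A.obj ⥤ᵇ fp (fpFst f y) x₀ :=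
    BasedFunctor.comp eA (BasedFunctor.comp E (fpFst (fpFst (fpFst f y) x₀) ℓ))
  let k₁ : A.obj ⟶ pullback b₀ ((yon S).map h₀) :=
    ObjectProperty.homMk (homOf (BasedFunctor.comp Φ J))
  have κ₁ : BasedFunctor.comp (AlgSt.ofSpMap k₁) (BasedFunctor.comp E₁ G) ≅
      BasedFunctor.comp (BasedFunctor.comp Φ J) (BasedFunctor.comp E₁ G) :=
    whiskerRightIso' (isoHomOf (BasedFunctor.comp Φ J)).symm (BasedFunctor.comp E₁ G)
  have κ₂ : BasedFunctor.comp (BasedFunctor.comp Φ J) (BasedFunctor.comp E₁ G) ≅ Φ :=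
    whiskerLeftIso' Φ ε
  have κ : BasedFunctor.comp (AlgSt.ofSpMap k₁) (BasedFunctor.comp E₁ G) ≅ Φ := κ₁ ≪≫ κ₂
  have hk₁rep : AlgSt.RepByAlgSpWith (LocP @Smooth) (AlgSt.ofSpMap k₁) :=
    repByAlgSpWith_of_square _ (BasedFunctor.comp E (fpFst (fpFst (fpFst f y) x₀) ℓ))
      (AlgSt.ofSpMap k₁) eA (BasedFunctor.comp E₁ G) heA hΨ κ hh'
  have hk₁ : LocP @Smooth k₁ := locP_of_rep @Smooth A.property hA₁ k₁ hk₁rep
  -- commutativity
  have comm : a ≫ (yon S).map h = (k₁ ≫ pullback.fst b₀ ((yon S).map h₀)) ≫ b := by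
    have l1 : BasedFunctor.comp (AlgSt.ofSpMap (a ≫ (yon S).map h)) (AlgSt.toOverCat V) ≅
        BasedFunctor.comp (BasedFunctor.comp eA (fpSnd x₀ (BasedFunctor.comp ℓ (fpFst f y))))
          (AlgSt.overMap h) :=
      whiskerRightIso' θa.symm (AlgSt.overMap h)
    have r1 : BasedFunctor.comp
        (AlgSt.ofSpMap ((k₁ ≫ pullback.fst b₀ ((yon S).map h₀)) ≫ b)) (AlgSt.toOverCat V) ≅
        BasedFunctor.comp (BasedFunctor.comp (AlgSt.ofSpMap k₁)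
          (AlgSt.ofSpMap (pullback.fst b₀ ((yon S).map h₀))))
          (BasedFunctor.comp eB (fpSnd y₀ y)) :=
      whiskerLeftIso' (BasedFunctor.comp (AlgSt.ofSpMap k₁)
          (AlgSt.ofSpMap (pullback.fst b₀ ((yon S).map h₀)))) θb.symm
    have r2 : BasedFunctor.comp (BasedFunctor.comp (AlgSt.ofSpMap k₁)
          (AlgSt.ofSpMap (pullback.fst b₀ ((yon S).map h₀))))
          (BasedFunctor.comp eB (fpSnd y₀ y)) ≅
        BasedFunctor.comp (BasedFunctor.comp (AlgSt.ofSpMap k₁)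
          (BasedFunctor.comp E₁ (pasteInner (AlgSt.overMap h₀) y₀ y))) (fpSnd y₀ y) :=
      whiskerRightIso' (whiskerLeftIso' (AlgSt.ofSpMap k₁) i₂.symm) (fpSnd y₀ y)
    have r3 : BasedFunctor.comp (BasedFunctor.comp (AlgSt.ofSpMap k₁) (BasedFunctor.comp E₁ G))
          (BasedFunctor.comp (fpFst (fpFst f y) x₀) (fpSnd f y)) ≅
        BasedFunctor.comp Φ (BasedFunctor.comp (fpFst (fpFst f y) x₀) (fpSnd f y)) :=
      whiskerRightIso' κ (BasedFunctor.comp (fpFst (fpFst f y) x₀) (fpSnd f y))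
    have r4 : BasedFunctor.comp (BasedFunctor.comp eA E)
          (BasedFunctor.comp (BasedFunctor.comp (fpFst (fpFst (fpFst f y) x₀) ℓ)
            (fpFst (fpFst f y) x₀)) (fpSnd f y)) ≅
        BasedFunctor.comp (BasedFunctor.comp eA E)
          (BasedFunctor.comp (BasedFunctor.comp (fpSnd (fpFst (fpFst f y) x₀) ℓ) ℓ) (fpSnd f y)) :=
      whiskerLeftIso' (BasedFunctor.comp eA E)
        (whiskerRightIso' (fpIso (fpFst (fpFst f y) x₀) ℓ) (fpSnd f y))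
    have r5 : BasedFunctor.comp (BasedFunctor.comp eA (fpSnd x₀ (BasedFunctor.comp ℓ (fpFst f y))))
          (BasedFunctor.comp ℓ (fpSnd f y)) ≅
        BasedFunctor.comp (BasedFunctor.comp eA (fpSnd x₀ (BasedFunctor.comp ℓ (fpFst f y))))
          (AlgSt.overMap h) :=
      whiskerLeftIso' _ ι
    have m1 : BasedFunctor.comp (BasedFunctor.comp (AlgSt.ofSpMap k₁)
          (BasedFunctor.comp E₁ (pasteInner (AlgSt.overMap h₀) y₀ y))) (fpSnd y₀ y) ≅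
        BasedFunctor.comp (BasedFunctor.comp (AlgSt.ofSpMap k₁) (BasedFunctor.comp E₁ G))
          (BasedFunctor.comp (fpFst (fpFst f y) x₀) (fpSnd f y)) := Iso.refl _
    have m2 : BasedFunctor.comp Φ (BasedFunctor.comp (fpFst (fpFst f y) x₀) (fpSnd f y)) ≅
        BasedFunctor.comp (BasedFunctor.comp eA E)
          (BasedFunctor.comp (BasedFunctor.comp (fpFst (fpFst (fpFst f y) x₀) ℓ)
            (fpFst (fpFst f y) x₀)) (fpSnd f y)) := Iso.refl _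
    have m3 : BasedFunctor.comp (BasedFunctor.comp eA E)
          (BasedFunctor.comp (BasedFunctor.comp (fpSnd (fpFst (fpFst f y) x₀) ℓ) ℓ) (fpSnd f y)) ≅
        BasedFunctor.comp (BasedFunctor.comp eA (fpSnd x₀ (BasedFunctor.comp ℓ (fpFst f y))))
          (BasedFunctor.comp ℓ (fpSnd f y)) := Iso.refl _
    have tot := l1 ≪≫ r5.symm ≪≫ m3.symm ≪≫ r4.symm ≪≫ m2.symm ≪≫ r3.symm ≪≫ m1.symm ≪≫
      r2.symm ≪≫ r1.symm
    have := spMapOfOver_congr tot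
    rwa [spMapOfOver_ofSpMap_toOverCat, spMapOfOver_ofSpMap_toOverCat] at this
  -- conclusion
  refine (hP.locality (IsAlgSpace.yon_obj U) (IsAlgSpace.yon_obj V) ((yon S).map h)).2 fun pt => ?_
  obtain ⟨v, hv⟩ := ha₂ pt
  exact ⟨A.obj, B.obj, a, b, k₁ ≫ pullback.fst b₀ ((yon S).map h₀), v, A.property, B.property,
    ha₁, hb, comm, hv,
    hP.precomp A.property hA₁ B.property k₁ _ hk₁ hPfst⟩

set_option backward.isDefEq.respectTransparency.types false in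
/-- over every smooth chart of the target there is a chart square whose induced map to the fibre
product is smooth and surjective -/
theorem exists_lsmooth_square (h𝒳 : AlgSt.IsAlgStack Scheme.fppfPrecoverage 𝒳)
    (h𝒴 : AlgSt.IsAlgStack Scheme.fppfPrecoverage 𝒴) (f : 𝒳 ⥤ᵇ 𝒴) {V : Over S}
    (y : overCat V ⥤ᵇ 𝒴) (hy : AlgSt.RepByAlgSpWith (LocP @Smooth) y) :
    ∃ (U : Over S) (x : overCat U ⥤ᵇ 𝒳) (h : U ⟶ V)
      (α : BasedFunctor.comp x f ≅ BasedFunctor.comp (AlgSt.overMap h) y),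
      AlgSt.RepByAlgSpWith (LocP @Smooth) x ∧
      AlgSt.RepByAlgSpWith (LocP @Smooth) (fpLift x (AlgSt.overMap h) α) ∧
      AlgSt.RepByAlgSpWith IsSurjectiveMor (fpLift x (AlgSt.overMap h) α) ∧
      (AlgSt.RepByAlgSpWith IsSurjectiveMor y → AlgSt.RepByAlgSpWith IsSurjectiveMor x) := by
  have hA : AlgSt.IsAlgStack Scheme.fppfPrecoverage (fp f y) :=
    Groth.Agent.Helper6.FpAlg.isAlgStack_fp h𝒴.isStack h𝒴.diag h𝒳 (isAlgStack_overCat V) f y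
  obtain ⟨U, u, hu₁, hu₂⟩ := hA.atlas
  obtain ⟨h, ⟨ι⟩⟩ := exists_overMap_iso (BasedFunctor.comp u (fpSnd f y))
  let α : BasedFunctor.comp (BasedFunctor.comp u (fpFst f y)) f ≅
      BasedFunctor.comp (AlgSt.overMap h) y :=
    whiskerLeftIso' u (fpIso f y) ≪≫ whiskerRightIso' ι y
  have θ : u ≅ fpLift (BasedFunctor.comp u (fpFst f y)) (AlgSt.overMap h) α :=
    fpLiftEta u ≪≫ fpLiftIso _ α (Iso.refl _) ι (fun w => by
      change f.map (𝟙 _) ≫ _ = _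
      rw [f.toFunctor.map_id, Category.id_comp]
      rfl)
  refine ⟨U, BasedFunctor.comp u (fpFst f y), h, α, ?_, ?_, ?_, fun hy₂ => ?_⟩
  · exact Groth.Agent.Helper6.LocQ1.smooth_comp (Groth.Agent.Helper9.FibRep.isFibGrpd_overCat U) hA.isStack.1 u (fpFst f y)
      hu₁ (Groth.Agent.Helper6.StTop.rep_fpFst _ f y hy)
  · exact Groth.Agent.Helper6.AlgStSpMap.repByAlgSpWith_of_iso _ θ.symm hu₁
  · exact Groth.Agent.Helper6.AlgStSpMap.repByAlgSpWith_of_iso _ θ.symm hu₂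
  · exact surj_comp' (Groth.Agent.Helper9.FibRep.isFibGrpd_overCat U) hA.isStack.1 u (fpFst f y)
      hu₂ (Groth.Agent.Helper6.StTop.rep_fpFst _ f y hy₂)

set_option backward.isDefEq.respectTransparency.types false in
/-- S12990 -/
theorem locQ_iff_all (P : MorphismProperty (Sp S)) (hP : IsSmoothLocalST P)
    (h𝒳 : AlgSt.IsAlgStack Scheme.fppfPrecoverage 𝒳)
    (h𝒴 : AlgSt.IsAlgStack Scheme.fppfPrecoverage 𝒴) (f : 𝒳 ⥤ᵇ 𝒴) :
    AlgSt.LocQ P f ↔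
      ∀ (U V : Over S) (x : FibCat.overCat U ⥤ᵇ 𝒳) (y : FibCat.overCat V ⥤ᵇ 𝒴) (h : U ⟶ V)
        (α : BasedFunctor.comp x f ≅ BasedFunctor.comp (AlgSt.overMap h) y),
        AlgSt.RepByAlgSpWith (AlgSp.LocP @Smooth) x → AlgSt.RepByAlgSpWith (AlgSp.LocP @Smooth) y →
        AlgSt.RepByAlgSpWith (AlgSp.LocP @Smooth) (FibCat.fpLift x (AlgSt.overMap h) α) →
          P ((AlgSp.yon S).map h) := by
  constructor
  · rintro ⟨U₀, V₀, x₀, y₀, h₀, α₀, hx₀₁, hx₀₂, hy₀, hP₀⟩ U V x y h α hx hy hℓ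
    exact P_of_lsmooth P hP f x₀ y₀ h₀ α₀ hx₀₁ hx₀₂ hy₀ hP₀ y hy (fpLift x (AlgSt.overMap h) α) hℓ
      hx h (Iso.refl _)
  · intro H
    obtain ⟨V, y, hy₁, hy₂⟩ := h𝒴.atlas
    obtain ⟨U, x, h, α, hx, hℓ₁, hℓ₂, hxs⟩ := exists_lsmooth_square h𝒳 h𝒴 f y hy₁
    exact ⟨U, V, x, y, h, α, hx, hxs hy₂, hy₁, H U V x y h α hx hy₁ hℓ₁⟩

end Groth.Agent.Helper6.LocQ3
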