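import Mathlib
import Groth.Agent.Helper6.LocQ3

/-!
# Helper6: `LocQ` — base change, composition, representable morphisms
-/

set_option autoImplicit false
set_option linter.style.haveILetI false
set_option linter.unusedVariables false
universe u

namespace Groth.Agent.Helper6.LocQ4
open CategoryTheory Functor FibCat Limits AlgebraicGeometry Opposite
open Groth.Agent.Helper3 Stk Groth.Agent.Helper6.OfPsh Groth.Agent.Helper6.OfPshHom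
open Groth.Agent.Helper6.FpTools Groth.Agent.Helper6.OfPshFp Groth.Agent.Helper6.AlgStRep
open Groth.Agent.Helper6.AlgStEquiv Groth.Agent.Helper6.AlgStInv Groth.Agent.Helper6.AlgStPsh
open Groth.Agent.Helper6.DiagRed Groth.Agent.Helper6.RepDiag Groth.Agent.Helper6.RepComp
open Groth.Agent.Helper6.DiagRep Groth.Agent.Helper6.AlgStPts Groth.Agent.Helper6.StPts
open Groth.Agent.Helper6.SmLoc Groth.Agent.Helper6.ChartOver Groth.Agent.Helper6.StTop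
open Groth.Agent.Helper6.QcMor2 Groth.Agent.Helper6.SpAtlas Groth.Agent.Helper4.SDClasses
open Groth.Agent.Helper6.Descent1 Groth.Agent.Helper6.Descent2 Groth.Agent.Helper6.LocQ0
open Groth.Agent.Helper6.LocQ1 Groth.Agent.Helper6.LocQ2 Groth.Agent.Helper6.AlgStBC
open Groth.Agent.Helper6.OverRep Groth.Agent.Helper6.LocQ3
open AlgSp

variable {S : Scheme.{u}} {𝒳 𝒴 𝒵 : AlgSt.Cat S}

/-- a space representing the fibre product of two charts, one-sided version -/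
theorem exists_chart_fp' (Q₂ Q₂' : MorphismProperty (Sp S))
    (hQ₂' : ∀ ⦃X X' Y : Sp S⦄ (i : X ≅ X') (g : X' ⟶ Y), Q₂' g → Q₂' (i.hom ≫ g))
    {U U' : Over S} (x : overCat U ⥤ᵇ 𝒳) (x' : overCat U' ⥤ᵇ 𝒳)
    (hx' : AlgSt.RepByAlgSpWith Q₂ x') (hx'' : AlgSt.RepByAlgSpWith Q₂' x') :
    ∃ (F : AlgSp.Space S) (e : AlgSt.ofSp F.obj ⥤ᵇ fp x' x) (c₁ : F.obj ⟶ (yon S).obj U')
      (c₂ : F.obj ⟶ (yon S).obj U), IsEquivOver e ∧
      Nonempty (BasedFunctor.comp e (fpFst x' x) ≅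
        BasedFunctor.comp (AlgSt.ofSpMap c₁) (AlgSt.toOverCat U')) ∧
      Nonempty (BasedFunctor.comp e (fpSnd x' x) ≅
        BasedFunctor.comp (AlgSt.ofSpMap c₂) (AlgSt.toOverCat U)) ∧ Q₂ c₂ ∧ Q₂' c₂ := by
  obtain ⟨F₂, e₂, he₂, h2⟩ := hx' U x
  obtain ⟨F₃, e₃, he₃, h3'⟩ := hx'' U x
  have h3 := P_of_chart' _ hQ₂' (fpFst x x') e₂ he₂ e₃ he₃ h3'
  have hes : IsEquivOver (BasedFunctor.comp e₂ (fpSwap x x')) :=
    isEquivOver_comp he₂ (isEquivOver_fpSwap x x')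
  obtain ⟨c₁, ⟨θ₁⟩⟩ := exists_ofSpMap_iso
    (BasedFunctor.comp (BasedFunctor.comp e₂ (fpSwap x x')) (fpFst x' x))
  obtain ⟨c₂, ⟨θ₂⟩⟩ := exists_ofSpMap_iso (BasedFunctor.comp e₂ (fpFst x x'))
  rw [spMapOfOver_congr θ₂, spMapOfOver_ofSpMap_toOverCat] at h2 h3
  exact ⟨F₂, BasedFunctor.comp e₂ (fpSwap x x'), c₁, c₂, hes, ⟨θ₁⟩, ⟨θ₂⟩, h2, h3⟩

set_option backward.isDefEq.respectTransparency.types false in
/-- the key lemma, with the base change step as a hypothesis -/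
theorem P_of_lsmooth_core (P : MorphismProperty (Sp S)) (hP : IsSmoothLocalST P) (f : 𝒳 ⥤ᵇ 𝒴)
    {U₀ V₀ : Over S} (x₀ : overCat U₀ ⥤ᵇ 𝒳) (y₀ : overCat V₀ ⥤ᵇ 𝒴) (h₀ : U₀ ⟶ V₀)
    (α₀ : BasedFunctor.comp x₀ f ≅ BasedFunctor.comp (AlgSt.overMap h₀) y₀)
    (hx₀₁ : AlgSt.RepByAlgSpWith (LocP @Smooth) x₀)
    (hx₀₂ : AlgSt.RepByAlgSpWith IsSurjectiveMor x₀)
    (hy₀ : AlgSt.RepByAlgSpWith (LocP @Smooth) y₀)
    {U V : Over S} (y : overCat V ⥤ᵇ 𝒴)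
    (hbc : ∀ (B : AlgSp.Space S) (eB : AlgSt.ofSp B.obj ⥤ᵇ fp y₀ y) (b₀ : B.obj ⟶ (yon S).obj V₀),
      IsEquivOver eB → Nonempty (BasedFunctor.comp eB (fpFst y₀ y) ≅
        BasedFunctor.comp (AlgSt.ofSpMap b₀) (AlgSt.toOverCat V₀)) →
        P (pullback.fst b₀ ((yon S).map h₀)))
    (ℓ : overCat U ⥤ᵇ fp f y) (hℓ : AlgSt.RepByAlgSpWith (LocP @Smooth) ℓ)
    (h : U ⟶ V) (ι : BasedFunctor.comp ℓ (fpSnd f y) ≅ AlgSt.overMap h) :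
    P ((yon S).map h) := by
  -- the space `B = V₀ ×_𝒴 V`
  obtain ⟨B, eB, b₀, b, heB, ⟨θb₀⟩, ⟨θb⟩, hb, -⟩ :=
    exists_chart_fp' (LocP @Smooth) (LocP @Smooth) (locP_iso_comp @Smooth) y y₀ hy₀ hy₀
  -- the space `A = U₀ ×_𝒳 U`
  obtain ⟨A, eA, a₀, a, heA, -, ⟨θa⟩, ha₁, ha₂⟩ :=
    exists_chart_fp' (LocP @Smooth) IsSurjectiveMor
      surj_iso_comp (BasedFunctor.comp ℓ (fpFst f y)) x₀ hx₀₁ hx₀₂
  -- the space `A₁ = B ×_{V₀} U₀`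
  have sq₁ := IsPullback.of_hasPullback b₀ ((yon S).map h₀)
  have hA₁ : IsAlgSpace (pullback b₀ ((yon S).map h₀)) :=
    Groth.Agent.Helper4.AlgSpPB.isAlgSpace_of_isPullback (IsAlgSpace.yon_obj V₀).diag B.property
      (IsAlgSpace.yon_obj U₀) b₀ ((yon S).map h₀) _ _ sq₁
  have hPfst : P (pullback.fst b₀ ((yon S).map h₀)) := hbc B eB b₀ heB ⟨θb₀⟩
  obtain ⟨E₁, hE₁, -, ⟨i₂⟩⟩ := pbEquiv2 y y₀ h₀ B eB heB b₀ θb₀ _ _ sq₁
  -- the stack `𝒲' = (𝒳 ×_𝒴 V) ×_𝒳 U₀` and the comparison `G`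
  let G : fp (BasedFunctor.comp (AlgSt.overMap h₀) y₀) y ⥤ᵇ fp (fpFst f y) x₀ :=
    BasedFunctor.comp (fpCongrLeft y α₀.symm)
      (BasedFunctor.comp (pasteLeft x₀ f y) (fpSwap x₀ (fpFst f y)))
  have hG : IsEquivOver G :=
    isEquivOver_comp (isEquivOver_fpCongrLeft y α₀.symm)
      (isEquivOver_comp (isEquivOver_pasteLeft x₀ f y) (isEquivOver_fpSwap x₀ (fpFst f y)))
  -- the base change square for `ℓ`
  let E : fp x₀ (BasedFunctor.comp ℓ (fpFst f y)) ⥤ᵇ fp (fpFst (fpFst f y) x₀) ℓ :=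
    BasedFunctor.comp (fpSwap x₀ (BasedFunctor.comp ℓ (fpFst f y)))
      (BasedFunctor.comp (pasteLeft ℓ (fpFst f y) x₀) (fpSwap ℓ (fpFst (fpFst f y) x₀)))
  have hE : IsEquivOver E :=
    isEquivOver_comp (isEquivOver_fpSwap _ _)
      (isEquivOver_comp (isEquivOver_pasteLeft ℓ (fpFst f y) x₀) (isEquivOver_fpSwap _ _))
  have hh' : AlgSt.RepByAlgSpWith (LocP @Smooth)
      (BasedFunctor.comp E (fpFst (fpFst (fpFst f y) x₀) ℓ)) :=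
    repByAlgSpWith_of_baseChange _ ℓ (fpFst (fpFst f y) x₀) _ E hE (Iso.refl _) hℓ
  -- the map `k₁ : A ⟶ A₁`
  have hΨ : IsEquivOver (BasedFunctor.comp E₁ G) := isEquivOver_comp hE₁ hG
  obtain ⟨J, hJ, -, ⟨ε⟩⟩ := EquivOver.symm hΨ
  let Φ : AlgSt.ofSp A.obj ⥤ᵇ fp (fpFst f y) x₀ :=
    BasedFunctor.comp eA (BasedFunctor.comp E (fpFst (fpFst (fpFst f y) x₀) ℓ))
  let k₁ : A.obj ⟶ pullback b₀ ((yon S).map h₀) :=
    ObjectProperty.homMk (homOf (BasedFunctor.comp Φ J))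
  have κ₁ : BasedFunctor.comp (AlgSt.ofSpMap k₁) (BasedFunctor.comp E₁ G) ≅
      BasedFunctor.comp (BasedFunctor.comp Φ J) (BasedFunctor.comp E₁ G) :=
    whiskerRightIso' (isoHomOf (BasedFunctor.comp Φ J)).symm (BasedFunctor.comp E₁ G)
  have κ₂ : BasedFunctor.comp (BasedFunctor.comp Φ J) (BasedFunctor.comp E₁ G) ≅ Φ :=
    whiskerLeftIso' Φ ε
  have κ : BasedFunctor.comp (AlgSt.ofSpMap k₁) (BasedFunctor.comp E₁ G) ≅ Φ := κ₁ ≪≫ κ₂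
  have hk₁rep : AlgSt.RepByAlgSpWith (LocP @Smooth) (AlgSt.ofSpMap k₁) :=
    repByAlgSpWith_of_square _ (BasedFunctor.comp E (fpFst (fpFst (fpFst f y) x₀) ℓ))
      (AlgSt.ofSpMap k₁) eA (BasedFunctor.comp E₁ G) heA hΨ κ hh'
  have hk₁ : LocP @Smooth k₁ := locP_of_rep @Smooth A.property hA₁ k₁ hk₁rep
  -- commutativity
  have comm : a ≫ (yon S).map h = (k₁ ≫ pullback.fst b₀ ((yon S).map h₀)) ≫ b := by
    have l1 : BasedFunctor.comp (AlgSt.ofSpMap (a ≫ (yon S).map h)) (AlgSt.toOverCat V) ≅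
        BasedFunctor.comp (BasedFunctor.comp eA (fpSnd x₀ (BasedFunctor.comp ℓ (fpFst f y))))
          (AlgSt.overMap h) :=
      whiskerRightIso' θa.symm (AlgSt.overMap h)
    have r1 : BasedFunctor.comp
        (AlgSt.ofSpMap ((k₁ ≫ pullback.fst b₀ ((yon S).map h₀)) ≫ b)) (AlgSt.toOverCat V) ≅
        BasedFunctor.comp (BasedFunctor.comp (AlgSt.ofSpMap k₁)
          (AlgSt.ofSpMap (pullback.fst b₀ ((yon S).map h₀))))
          (BasedFunctor.comp eB (fpSnd y₀ y)) :=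
      whiskerLeftIso' (BasedFunctor.comp (AlgSt.ofSpMap k₁)
          (AlgSt.ofSpMap (pullback.fst b₀ ((yon S).map h₀)))) θb.symm
    have r2 : BasedFunctor.comp (BasedFunctor.comp (AlgSt.ofSpMap k₁)
          (AlgSt.ofSpMap (pullback.fst b₀ ((yon S).map h₀))))
          (BasedFunctor.comp eB (fpSnd y₀ y)) ≅
        BasedFunctor.comp (BasedFunctor.comp (AlgSt.ofSpMap k₁)
          (BasedFunctor.comp E₁ (pasteInner (AlgSt.overMap h₀) y₀ y))) (fpSnd y₀ y) :=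
      whiskerRightIso' (whiskerLeftIso' (AlgSt.ofSpMap k₁) i₂.symm) (fpSnd y₀ y)
    have r3 : BasedFunctor.comp (BasedFunctor.comp (AlgSt.ofSpMap k₁) (BasedFunctor.comp E₁ G))
          (BasedFunctor.comp (fpFst (fpFst f y) x₀) (fpSnd f y)) ≅
        BasedFunctor.comp Φ (BasedFunctor.comp (fpFst (fpFst f y) x₀) (fpSnd f y)) :=
      whiskerRightIso' κ (BasedFunctor.comp (fpFst (fpFst f y) x₀) (fpSnd f y))
    have r4 : BasedFunctor.comp (BasedFunctor.comp eA E)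
          (BasedFunctor.comp (BasedFunctor.comp (fpFst (fpFst (fpFst f y) x₀) ℓ)
            (fpFst (fpFst f y) x₀)) (fpSnd f y)) ≅
        BasedFunctor.comp (BasedFunctor.comp eA E)
          (BasedFunctor.comp (BasedFunctor.comp (fpSnd (fpFst (fpFst f y) x₀) ℓ) ℓ) (fpSnd f y)) :=
      whiskerLeftIso' (BasedFunctor.comp eA E)
        (whiskerRightIso' (fpIso (fpFst (fpFst f y) x₀) ℓ) (fpSnd f y))
    have r5 : BasedFunctor.comp (BasedFunctor.comp eA (fpSnd x₀ (BasedFunctor.comp ℓ (fpFst f y))))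
          (BasedFunctor.comp ℓ (fpSnd f y)) ≅
        BasedFunctor.comp (BasedFunctor.comp eA (fpSnd x₀ (BasedFunctor.comp ℓ (fpFst f y))))
          (AlgSt.overMap h) :=
      whiskerLeftIso' _ ι
    have m1 : BasedFunctor.comp (BasedFunctor.comp (AlgSt.ofSpMap k₁)
          (BasedFunctor.comp E₁ (pasteInner (AlgSt.overMap h₀) y₀ y))) (fpSnd y₀ y) ≅
        BasedFunctor.comp (BasedFunctor.comp (AlgSt.ofSpMap k₁) (BasedFunctor.comp E₁ G))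
          (BasedFunctor.comp (fpFst (fpFst f y) x₀) (fpSnd f y)) := Iso.refl _
    have m2 : BasedFunctor.comp Φ (BasedFunctor.comp (fpFst (fpFst f y) x₀) (fpSnd f y)) ≅
        BasedFunctor.comp (BasedFunctor.comp eA E)
          (BasedFunctor.comp (BasedFunctor.comp (fpFst (fpFst (fpFst f y) x₀) ℓ)
            (fpFst (fpFst f y) x₀)) (fpSnd f y)) := Iso.refl _
    have m3 : BasedFunctor.comp (BasedFunctor.comp eA E)
          (BasedFunctor.comp (BasedFunctor.comp (fpSnd (fpFst (fpFst f y) x₀) ℓ) ℓ) (fpSnd f y)) ≅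
        BasedFunctor.comp (BasedFunctor.comp eA (fpSnd x₀ (BasedFunctor.comp ℓ (fpFst f y))))
          (BasedFunctor.comp ℓ (fpSnd f y)) := Iso.refl _
    have tot := l1 ≪≫ r5.symm ≪≫ m3.symm ≪≫ r4.symm ≪≫ m2.symm ≪≫ r3.symm ≪≫ m1.symm ≪≫
      r2.symm ≪≫ r1.symm
    have := spMapOfOver_congr tot
    rwa [spMapOfOver_ofSpMap_toOverCat, spMapOfOver_ofSpMap_toOverCat] at this
  -- conclusion
  refine (hP.locality (IsAlgSpace.yon_obj U) (IsAlgSpace.yon_obj V) ((yon S).map h)).2 fun pt => ?_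
  obtain ⟨v, hv⟩ := ha₂ pt
  exact ⟨A.obj, B.obj, a, b, k₁ ≫ pullback.fst b₀ ((yon S).map h₀), v, A.property, B.property,
    ha₁, hb, comm, hv,
    hP.precomp A.property hA₁ B.property k₁ _ hk₁ hPfst⟩

/-- the key lemma for properties stable under arbitrary base change: the chart `y` of the target
need not be smooth -/
theorem P_of_lsmooth_bc (P : MorphismProperty (Sp S)) (hP : IsSmoothLocalST P)
    (hPb : ∀ ⦃X₁ Y₁ X₂ Y₂ : AlgSp.Sp S⦄, AlgSp.IsAlgSpace X₁ → AlgSp.IsAlgSpace Y₁ →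
      AlgSp.IsAlgSpace X₂ → AlgSp.IsAlgSpace Y₂ → ∀ (a : X₁ ⟶ Y₁) (b : Y₂ ⟶ Y₁) (a' : X₂ ⟶ Y₂)
      (b' : X₂ ⟶ X₁), IsPullback b' a' a b → P a → P a')
    (f : 𝒳 ⥤ᵇ 𝒴)
    {U₀ V₀ : Over S} (x₀ : overCat U₀ ⥤ᵇ 𝒳) (y₀ : overCat V₀ ⥤ᵇ 𝒴) (h₀ : U₀ ⟶ V₀)
    (α₀ : BasedFunctor.comp x₀ f ≅ BasedFunctor.comp (AlgSt.overMap h₀) y₀)
    (hx₀₁ : AlgSt.RepByAlgSpWith (LocP @Smooth) x₀)
    (hx₀₂ : AlgSt.RepByAlgSpWith IsSurjectiveMor x₀)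
    (hy₀ : AlgSt.RepByAlgSpWith (LocP @Smooth) y₀) (hP₀ : P ((yon S).map h₀))
    {U V : Over S} (y : overCat V ⥤ᵇ 𝒴)
    (ℓ : overCat U ⥤ᵇ fp f y) (hℓ : AlgSt.RepByAlgSpWith (LocP @Smooth) ℓ)
    (h : U ⟶ V) (ι : BasedFunctor.comp ℓ (fpSnd f y) ≅ AlgSt.overMap h) :
    P ((yon S).map h) := by
  refine P_of_lsmooth_core P hP f x₀ y₀ h₀ α₀ hx₀₁ hx₀₂ hy₀ y (fun B eB b₀ heB _ => ?_) ℓ hℓ h ι
  have sq₁ := IsPullback.of_hasPullback b₀ ((yon S).map h₀)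
  have hA₁ : IsAlgSpace (pullback b₀ ((yon S).map h₀)) :=
    Groth.Agent.Helper4.AlgSpPB.isAlgSpace_of_isPullback (IsAlgSpace.yon_obj V₀).diag B.property
      (IsAlgSpace.yon_obj U₀) b₀ ((yon S).map h₀) _ _ sq₁
  exact hPb (IsAlgSpace.yon_obj U₀) (IsAlgSpace.yon_obj V₀) hA₁ B.property
    ((yon S).map h₀) b₀ _ _ sq₁.flip hP₀

set_option backward.isDefEq.respectTransparency.types false in
/-- S13038 -/
theorem locQ_comp (P : MorphismProperty (Sp S)) (hP : IsSmoothLocalST P)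
    (hPc : ∀ ⦃X₁ Y₁ Z₁ : AlgSp.Sp S⦄, AlgSp.IsAlgSpace X₁ → AlgSp.IsAlgSpace Y₁ →
      AlgSp.IsAlgSpace Z₁ → ∀ (a : X₁ ⟶ Y₁) (b : Y₁ ⟶ Z₁), P a → P b → P (a ≫ b))
    (h𝒳 : AlgSt.IsAlgStack Scheme.fppfPrecoverage 𝒳)
    (h𝒴 : AlgSt.IsAlgStack Scheme.fppfPrecoverage 𝒴)
    (f : 𝒳 ⥤ᵇ 𝒴) (g : 𝒴 ⥤ᵇ 𝒵) (hf : AlgSt.LocQ P f) (hg : AlgSt.LocQ P g) :
    AlgSt.LocQ P (BasedFunctor.comp f g) := by
  obtain ⟨V, W, y, z, hg₀, β, hy₁, hy₂, hz, hPg⟩ := hg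
  obtain ⟨U, x, h, α, hx, hℓ₁, hℓ₂, hxs⟩ := exists_lsmooth_square h𝒳 h𝒴 f y hy₁
  have hPh : P ((yon S).map h) := ((locQ_iff_all P hP h𝒳 h𝒴 f).1 hf) U V x y h α hx hy₁ hℓ₁
  refine ⟨U, W, x, z, h ≫ hg₀, ?_, hx, hxs hy₂, hz, ?_⟩
  · exact whiskerRightIso' α g ≪≫ whiskerLeftIso' (AlgSt.overMap h) β ≪≫
      whiskerRightIso' (overMapComp h hg₀) z
  · rw [(yon S).map_comp]
    exact hPc (IsAlgSpace.yon_obj U) (IsAlgSpace.yon_obj V) (IsAlgSpace.yon_obj W) _ _ hPh hPg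

set_option backward.isDefEq.respectTransparency.types false in
/-- S13039 -/
theorem locQ_fpFst {𝒴' : AlgSt.Cat S} (P : MorphismProperty (Sp S)) (hP : IsSmoothLocalST P)
    (hPb : ∀ ⦃X₁ Y₁ X₂ Y₂ : AlgSp.Sp S⦄, AlgSp.IsAlgSpace X₁ → AlgSp.IsAlgSpace Y₁ →
      AlgSp.IsAlgSpace X₂ → AlgSp.IsAlgSpace Y₂ → ∀ (a : X₁ ⟶ Y₁) (b : Y₂ ⟶ Y₁) (a' : X₂ ⟶ Y₂)
      (b' : X₂ ⟶ X₁), IsPullback b' a' a b → P a → P a')
    (h𝒳 : AlgSt.IsAlgStack Scheme.fppfPrecoverage 𝒳)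
    (h𝒴 : AlgSt.IsAlgStack Scheme.fppfPrecoverage 𝒴)
    (h𝒴' : AlgSt.IsAlgStack Scheme.fppfPrecoverage 𝒴')
    (f : 𝒳 ⥤ᵇ 𝒴) (g : 𝒴' ⥤ᵇ 𝒴) (hf : AlgSt.LocQ P f) : AlgSt.LocQ P (fpFst g f) := by
  obtain ⟨U₀, V₀, x₀, y₀, h₀, α₀, hx₀₁, hx₀₂, hy₀, hP₀⟩ := hf
  have hA : AlgSt.IsAlgStack Scheme.fppfPrecoverage (fp g f) :=
    Groth.Agent.Helper6.FpAlg.isAlgStack_fp h𝒴.isStack h𝒴.diag h𝒴' h𝒳 g f
  obtain ⟨V', y', hy'₁, hy'₂⟩ := h𝒴'.atlas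
  obtain ⟨U, x, h, α, hx, hℓ₁, hℓ₂, hxs⟩ := exists_lsmooth_square hA h𝒴' (fpFst g f) y' hy'₁
  let Θ : fp f (BasedFunctor.comp y' g) ⥤ᵇ fp (fpFst g f) y' :=
    BasedFunctor.comp (fpSwap f (BasedFunctor.comp y' g))
      (BasedFunctor.comp (pasteLeft y' g f) (fpSwap y' (fpFst g f)))
  have hΘ : IsEquivOver Θ :=
    isEquivOver_comp (isEquivOver_fpSwap _ _)
      (isEquivOver_comp (isEquivOver_pasteLeft y' g f) (isEquivOver_fpSwap _ _))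
  obtain ⟨K, hK, -, ⟨ε⟩⟩ := EquivOver.symm hΘ
  have hℓ : AlgSt.RepByAlgSpWith (LocP @Smooth)
      (BasedFunctor.comp (fpLift x (AlgSt.overMap h) α) K) :=
    (repByAlgSpWith_comp_equiv _ (fpLift x (AlgSt.overMap h) α) K hK).1 hℓ₁
  have ι : BasedFunctor.comp (BasedFunctor.comp (fpLift x (AlgSt.overMap h) α) K)
      (fpSnd f (BasedFunctor.comp y' g)) ≅ AlgSt.overMap h :=
    whiskerLeftIso' (fpLift x (AlgSt.overMap h) α) (whiskerRightIso' ε (fpSnd (fpFst g f) y'))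
  have hPh := P_of_lsmooth_bc P hP hPb f x₀ y₀ h₀ α₀ hx₀₁ hx₀₂ hy₀ hP₀ (BasedFunctor.comp y' g)
    (BasedFunctor.comp (fpLift x (AlgSt.overMap h) α) K) hℓ h ι
  exact ⟨U, V', x, y', h, α, hx, hxs hy'₂, hy'₁, hPh⟩

set_option backward.isDefEq.respectTransparency.types false in
/-- S12993 -/
theorem locQ_iff_rep (P : MorphismProperty (Sp S)) (hP : IsSmoothLocalST P)
    (hPb : ∀ ⦃X₁ Y₁ X₂ Y₂ : AlgSp.Sp S⦄, AlgSp.IsAlgSpace X₁ → AlgSp.IsAlgSpace Y₁ →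
      AlgSp.IsAlgSpace X₂ → AlgSp.IsAlgSpace Y₂ → ∀ (a : X₁ ⟶ Y₁) (b : Y₂ ⟶ Y₁) (a' : X₂ ⟶ Y₂)
      (b' : X₂ ⟶ X₁), IsPullback b' a' a b → P a → P a')
    (h𝒳 : AlgSt.IsAlgStack Scheme.fppfPrecoverage 𝒳)
    (h𝒴 : AlgSt.IsAlgStack Scheme.fppfPrecoverage 𝒴)
    (f : 𝒳 ⥤ᵇ 𝒴) (hf : AlgSt.RepByAlgSp1 f) :
    AlgSt.LocQ P f ↔ AlgSt.RepByAlgSpWith P f := by
  constructor
  · rintro ⟨U₀, V₀, x₀, y₀, h₀, α₀, hx₀₁, hx₀₂, hy₀, hP₀⟩ T t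
    obtain ⟨F, e, he⟩ := hf T t
    refine ⟨F, e, he, ?_⟩
    obtain ⟨c, ⟨θ⟩⟩ := exists_ofSpMap_iso (BasedFunctor.comp e (fpFst t f))
    rw [spMapOfOver_congr θ, spMapOfOver_ofSpMap_toOverCat]
    obtain ⟨U, p, hpe, hps⟩ := F.property.atlas
    obtain ⟨h, hh⟩ := (yon S).map_surjective (p ≫ c)
    have hes : IsEquivOver (BasedFunctor.comp e (fpSwap t f)) :=
      isEquivOver_comp he (isEquivOver_fpSwap t f)
    have hℓ : AlgSt.RepByAlgSpWith (LocP @Smooth)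
        (BasedFunctor.comp (atlasChart p) (BasedFunctor.comp e (fpSwap t f))) :=
      (repByAlgSpWith_comp_equiv _ (atlasChart p) _ hes).1 (atlasChart_smooth p hpe)
    have ι : BasedFunctor.comp (BasedFunctor.comp (atlasChart p) (BasedFunctor.comp e (fpSwap t f)))
        (fpSnd f t) ≅ AlgSt.overMap h :=
      whiskerLeftIso' (atlasChart p) θ ≪≫ whiskerLeftIso' (AlgSt.ofOverCat U)
        (whiskerRightIso' (eqToIso (congrArg AlgSt.ofSpMap hh.symm)) (AlgSt.toOverCat T))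
    have hPh := P_of_lsmooth_bc P hP hPb f x₀ y₀ h₀ α₀ hx₀₁ hx₀₂ hy₀ hP₀ t _ hℓ h ι
    refine (Groth.Agent.Helper5.SmST.local_source hP (fun _ : PUnit.{u + 1} => (yon S).obj U)
      (fun _ => p) F.property (fun _ => IsAlgSpace.yon_obj U)
      ⟨fun _ => locP_smooth_of_etale p hpe, fun pt => ⟨⟨⟩,
        Groth.Agent.Helper4.AlgSpPts.isSurjectiveMor_of_repWith p hps pt⟩⟩ c
      (IsAlgSpace.yon_obj T)).2 (fun _ => ?_)
    rw [← hh]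
    exact hPh
  · intro hR
    obtain ⟨V, y, hy₁, hy₂⟩ := h𝒴.atlas
    obtain ⟨F, e, he, hPa⟩ := hR V y
    obtain ⟨c, ⟨θ⟩⟩ := exists_ofSpMap_iso (BasedFunctor.comp e (fpFst y f))
    rw [spMapOfOver_congr θ, spMapOfOver_ofSpMap_toOverCat] at hPa
    refine locQ_of_space_square P hP h𝒳.isStack.1 h𝒴.isStack.1 f F
      ⟨(yon S).obj V, IsAlgSpace.yon_obj V⟩ (BasedFunctor.comp e (fpSnd y f))
      (BasedFunctor.comp (AlgSt.toOverCat V) y) (ObjectProperty.homMk c) ?_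
      (rep_equiv_comp _ e he _ (rep_fpSnd _ y f hy₁))
      (rep_equiv_comp _ e he _ (rep_fpSnd _ y f hy₂))
      (rep_equiv_comp _ _ (isEquivOver_toOverCat V) y hy₁) hPa
    exact whiskerLeftIso' e (fpIso y f).symm ≪≫ whiskerRightIso' θ y

end Groth.Agent.Helper6.LocQ4
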