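import Mathlib
import Groth.Agent.Helper6.LocQ4
import Groth.Agent.Helper6.FlatST

/-!
# Helper6: `LocQ` — the comparison diagram of chart squares; flat + lfp ⇒ open
-/

set_option autoImplicit false
set_option linter.style.haveILetI false
set_option linter.unusedVariables false
universe u

namespace Groth.Agent.Helper6.LocQ5
open CategoryTheory Functor FibCat Limits AlgebraicGeometry Opposite
open Groth.Agent.Helper3 Stk Groth.Agent.Helper6.OfPsh Groth.Agent.Helper6.OfPshHom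
open Groth.Agent.Helper6.FpTools Groth.Agent.Helper6.OfPshFp Groth.Agent.Helper6.AlgStRep
open Groth.Agent.Helper6.AlgStEquiv Groth.Agent.Helper6.AlgStInv Groth.Agent.Helper6.AlgStPsh
open Groth.Agent.Helper6.DiagRed Groth.Agent.Helper6.RepDiag Groth.Agent.Helper6.RepComp
open Groth.Agent.Helper6.DiagRep Groth.Agent.Helper6.AlgStPts Groth.Agent.Helper6.StPts
open Groth.Agent.Helper6.SmLoc Groth.Agent.Helper6.ChartOver Groth.Agent.Helper6.StTop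
open Groth.Agent.Helper6.QcMor2 Groth.Agent.Helper6.SpAtlas Groth.Agent.Helper4.SDClasses
open Groth.Agent.Helper6.Descent1 Groth.Agent.Helper6.Descent2 Groth.Agent.Helper6.LocQ0
open Groth.Agent.Helper6.LocQ1 Groth.Agent.Helper6.LocQ2 Groth.Agent.Helper6.AlgStBC
open Groth.Agent.Helper6.OverRep Groth.Agent.Helper6.LocQ3 Groth.Agent.Helper6.LocQ4
open Groth.Agent.Helper6.FlatST Groth.Agent.Helper6.DiagLft Groth.Agent.Helper6.ToSpace
open AlgSp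

variable {S : Scheme.{u}} {𝒳 𝒴 𝒵 : AlgSt.Cat S}

theorem good_bc (Q : MorphismProperty Scheme.{u}) (hG : Good Q) :
    ∀ ⦃X₁ Y₁ X₂ Y₂ : Sp S⦄, IsAlgSpace X₁ → IsAlgSpace Y₁ → IsAlgSpace X₂ →
      IsAlgSpace Y₂ → ∀ (a : X₁ ⟶ Y₁) (b : Y₂ ⟶ Y₁) (a' : X₂ ⟶ Y₂) (b' : X₂ ⟶ X₁),
      IsPullback b' a' a b → LocP Q a → LocP Q a' := by
  intro X₁ Y₁ X₂ Y₂ h1 h2 h3 h4 a b a' b' sq ha
  haveI := hG.bc
  haveI := hG.comp
  exact Groth.Agent.Helper4.AlgSpLocPBC.locP_of_isPullback Q (fun g hg => hG.etale_le g hg)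
    (fun e h he hs hP => hG.sd e h he hs hP) h1 h2 a b b' a' sq ha

theorem good_rep_comp (Q : MorphismProperty Scheme.{u}) (hG : Good Q)
    (hL : IsLocalOnBase IsFppfCover (LocP (S := S) Q))
    (h𝒳 : IsFibGrpd 𝒳.p) (h𝒴 : IsFibGrpd 𝒴.p) (f : 𝒳 ⥤ᵇ 𝒴) (g : 𝒴 ⥤ᵇ 𝒵)
    (hf : AlgSt.RepByAlgSpWith (LocP Q) f) (hg : AlgSt.RepByAlgSpWith (LocP Q) g) :
    AlgSt.RepByAlgSpWith (LocP Q) (BasedFunctor.comp f g) :=
  Groth.Agent.Helper6.RepComp.repByAlgSpWith_comp h𝒳 h𝒴 _ (locP_comp' _ hG) hL f g hf hg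

set_option backward.isDefEq.respectTransparency.types false in
/-- the comparison diagram between a chart square and an `ℓ`-smooth square -/
theorem lsmooth_diagram (f : 𝒳 ⥤ᵇ 𝒴)
    {U₀ V₀ : Over S} (x₀ : overCat U₀ ⥤ᵇ 𝒳) (y₀ : overCat V₀ ⥤ᵇ 𝒴) (h₀ : U₀ ⟶ V₀)
    (α₀ : BasedFunctor.comp x₀ f ≅ BasedFunctor.comp (AlgSt.overMap h₀) y₀)
    (hx₀₁ : AlgSt.RepByAlgSpWith (LocP @Smooth) x₀)
    (hx₀₂ : AlgSt.RepByAlgSpWith IsSurjectiveMor x₀)
    (hy₀ : AlgSt.RepByAlgSpWith (LocP @Smooth) y₀)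
    {U V : Over S} (y : overCat V ⥤ᵇ 𝒴)
    (ℓ : overCat U ⥤ᵇ fp f y) (hℓ : AlgSt.RepByAlgSpWith (LocP @Smooth) ℓ)
    (h : U ⟶ V) (ι : BasedFunctor.comp ℓ (fpSnd f y) ≅ AlgSt.overMap h) :
    ∃ (A B : AlgSp.Space S) (a : A.obj ⟶ (yon S).obj U) (b : B.obj ⟶ (yon S).obj V)
      (b₀ : B.obj ⟶ (yon S).obj V₀) (k₁ : A.obj ⟶ pullback b₀ ((yon S).map h₀)),
      LocP @Smooth a ∧ IsSurjectiveMor a ∧ LocP @Smooth b ∧ LocP @Smooth k₁ ∧
      IsAlgSpace (pullback b₀ ((yon S).map h₀)) ∧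
      a ≫ (yon S).map h = (k₁ ≫ pullback.fst b₀ ((yon S).map h₀)) ≫ b := by
  -- the space `B = V₀ ×_𝒴 V`
  obtain ⟨B, eB, b₀, b, heB, ⟨θb₀⟩, ⟨θb⟩, hb, -⟩ :=
    exists_chart_fp' (LocP @Smooth) (LocP @Smooth) (locP_iso_comp @Smooth) y y₀ hy₀ hy₀
  -- the space `A = U₀ ×_𝒳 U`
  obtain ⟨A, eA, a₀, a, heA, -, ⟨θa⟩, ha₁, ha₂⟩ :=
    exists_chart_fp' (LocP @Smooth) IsSurjectiveMor
      surj_iso_comp (BasedFunctor.comp ℓ (fpFst f y)) x₀ hx₀₁ hx₀₂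
  -- the space `A₁ = B ×_{V₀} U₀`
  have sq₁ := IsPullback.of_hasPullback b₀ ((yon S).map h₀)
  have hA₁ : IsAlgSpace (pullback b₀ ((yon S).map h₀)) :=
    Groth.Agent.Helper4.AlgSpPB.isAlgSpace_of_isPullback (IsAlgSpace.yon_obj V₀).diag B.property
      (IsAlgSpace.yon_obj U₀) b₀ ((yon S).map h₀) _ _ sq₁
  obtain ⟨E₁, hE₁, -, ⟨i₂⟩⟩ := pbEquiv2 y y₀ h₀ B eB heB b₀ θb₀ _ _ sq₁
  -- the stack `𝒲' = (𝒳 ×_𝒴 V) ×_𝒳 U₀` and the comparison `G`
  let G : fp (BasedFunctor.comp (AlgSt.overMap h₀) y₀) y ⥤ᵇ fp (fpFst f y) x₀ :=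
    BasedFunctor.comp (fpCongrLeft y α₀.symm)
      (BasedFunctor.comp (pasteLeft x₀ f y) (fpSwap x₀ (fpFst f y)))
  have hG : IsEquivOver G :=
    isEquivOver_comp (isEquivOver_fpCongrLeft y α₀.symm)
      (isEquivOver_comp (isEquivOver_pasteLeft x₀ f y) (isEquivOver_fpSwap x₀ (fpFst f y)))
  -- the base change square for `ℓ`
  let E : fp x₀ (BasedFunctor.comp ℓ (fpFst f y)) ⥤ᵇ fp (fpFst (fpFst f y) x₀) ℓ :=
    BasedFunctor.comp (fpSwap x₀ (BasedFunctor.comp ℓ (fpFst f y)))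
      (BasedFunctor.comp (pasteLeft ℓ (fpFst f y) x₀) (fpSwap ℓ (fpFst (fpFst f y) x₀)))
  have hE : IsEquivOver E :=
    isEquivOver_comp (isEquivOver_fpSwap _ _)
      (isEquivOver_comp (isEquivOver_pasteLeft ℓ (fpFst f y) x₀) (isEquivOver_fpSwap _ _))
  have hh' : AlgSt.RepByAlgSpWith (LocP @Smooth)
      (BasedFunctor.comp E (fpFst (fpFst (fpFst f y) x₀) ℓ)) :=
    repByAlgSpWith_of_baseChange _ ℓ (fpFst (fpFst f y) x₀) _ E hE (Iso.refl _) hℓ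
  -- the map `k₁ : A ⟶ A₁`
  have hΨ : IsEquivOver (BasedFunctor.comp E₁ G) := isEquivOver_comp hE₁ hG
  obtain ⟨J, hJ, -, ⟨ε⟩⟩ := EquivOver.symm hΨ
  let Φ : AlgSt.ofSp A.obj ⥤ᵇ fp (fpFst f y) x₀ :=
    BasedFunctor.comp eA (BasedFunctor.comp E (fpFst (fpFst (fpFst f y) x₀) ℓ))
  let k₁ : A.obj ⟶ pullback b₀ ((yon S).map h₀) :=
    ObjectProperty.homMk (homOf (BasedFunctor.comp Φ J))
  have κ₁ : BasedFunctor.comp (AlgSt.ofSpMap k₁) (BasedFunctor.comp E₁ G) ≅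
      BasedFunctor.comp (BasedFunctor.comp Φ J) (BasedFunctor.comp E₁ G) :=
    whiskerRightIso' (isoHomOf (BasedFunctor.comp Φ J)).symm (BasedFunctor.comp E₁ G)
  have κ₂ : BasedFunctor.comp (BasedFunctor.comp Φ J) (BasedFunctor.comp E₁ G) ≅ Φ :=
    whiskerLeftIso' Φ ε
  have κ : BasedFunctor.comp (AlgSt.ofSpMap k₁) (BasedFunctor.comp E₁ G) ≅ Φ := κ₁ ≪≫ κ₂
  have hk₁rep : AlgSt.RepByAlgSpWith (LocP @Smooth) (AlgSt.ofSpMap k₁) :=
    repByAlgSpWith_of_square _ (BasedFunctor.comp E (fpFst (fpFst (fpFst f y) x₀) ℓ))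
      (AlgSt.ofSpMap k₁) eA (BasedFunctor.comp E₁ G) heA hΨ κ hh'
  have hk₁ : LocP @Smooth k₁ := locP_of_rep @Smooth A.property hA₁ k₁ hk₁rep
  -- commutativity
  have comm : a ≫ (yon S).map h = (k₁ ≫ pullback.fst b₀ ((yon S).map h₀)) ≫ b := by
    have l1 : BasedFunctor.comp (AlgSt.ofSpMap (a ≫ (yon S).map h)) (AlgSt.toOverCat V) ≅
        BasedFunctor.comp (BasedFunctor.comp eA (fpSnd x₀ (BasedFunctor.comp ℓ (fpFst f y))))
          (AlgSt.overMap h) :=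
      whiskerRightIso' θa.symm (AlgSt.overMap h)
    have r1 : BasedFunctor.comp
        (AlgSt.ofSpMap ((k₁ ≫ pullback.fst b₀ ((yon S).map h₀)) ≫ b)) (AlgSt.toOverCat V) ≅
        BasedFunctor.comp (BasedFunctor.comp (AlgSt.ofSpMap k₁)
          (AlgSt.ofSpMap (pullback.fst b₀ ((yon S).map h₀))))
          (BasedFunctor.comp eB (fpSnd y₀ y)) :=
      whiskerLeftIso' (BasedFunctor.comp (AlgSt.ofSpMap k₁)
          (AlgSt.ofSpMap (pullback.fst b₀ ((yon S).map h₀)))) θb.symm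
    have r2 : BasedFunctor.comp (BasedFunctor.comp (AlgSt.ofSpMap k₁)
          (AlgSt.ofSpMap (pullback.fst b₀ ((yon S).map h₀))))
          (BasedFunctor.comp eB (fpSnd y₀ y)) ≅
        BasedFunctor.comp (BasedFunctor.comp (AlgSt.ofSpMap k₁)
          (BasedFunctor.comp E₁ (pasteInner (AlgSt.overMap h₀) y₀ y))) (fpSnd y₀ y) :=
      whiskerRightIso' (whiskerLeftIso' (AlgSt.ofSpMap k₁) i₂.symm) (fpSnd y₀ y)
    have r3 : BasedFunctor.comp (BasedFunctor.comp (AlgSt.ofSpMap k₁) (BasedFunctor.comp E₁ G))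
          (BasedFunctor.comp (fpFst (fpFst f y) x₀) (fpSnd f y)) ≅
        BasedFunctor.comp Φ (BasedFunctor.comp (fpFst (fpFst f y) x₀) (fpSnd f y)) :=
      whiskerRightIso' κ (BasedFunctor.comp (fpFst (fpFst f y) x₀) (fpSnd f y))
    have r4 : BasedFunctor.comp (BasedFunctor.comp eA E)
          (BasedFunctor.comp (BasedFunctor.comp (fpFst (fpFst (fpFst f y) x₀) ℓ)
            (fpFst (fpFst f y) x₀)) (fpSnd f y)) ≅
        BasedFunctor.comp (BasedFunctor.comp eA E)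
          (BasedFunctor.comp (BasedFunctor.comp (fpSnd (fpFst (fpFst f y) x₀) ℓ) ℓ) (fpSnd f y)) :=
      whiskerLeftIso' (BasedFunctor.comp eA E)
        (whiskerRightIso' (fpIso (fpFst (fpFst f y) x₀) ℓ) (fpSnd f y))
    have r5 : BasedFunctor.comp (BasedFunctor.comp eA (fpSnd x₀ (BasedFunctor.comp ℓ (fpFst f y))))
          (BasedFunctor.comp ℓ (fpSnd f y)) ≅
        BasedFunctor.comp (BasedFunctor.comp eA (fpSnd x₀ (BasedFunctor.comp ℓ (fpFst f y))))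
          (AlgSt.overMap h) :=
      whiskerLeftIso' _ ι
    have m1 : BasedFunctor.comp (BasedFunctor.comp (AlgSt.ofSpMap k₁)
          (BasedFunctor.comp E₁ (pasteInner (AlgSt.overMap h₀) y₀ y))) (fpSnd y₀ y) ≅
        BasedFunctor.comp (BasedFunctor.comp (AlgSt.ofSpMap k₁) (BasedFunctor.comp E₁ G))
          (BasedFunctor.comp (fpFst (fpFst f y) x₀) (fpSnd f y)) := Iso.refl _
    have m2 : BasedFunctor.comp Φ (BasedFunctor.comp (fpFst (fpFst f y) x₀) (fpSnd f y)) ≅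
        BasedFunctor.comp (BasedFunctor.comp eA E)
          (BasedFunctor.comp (BasedFunctor.comp (fpFst (fpFst (fpFst f y) x₀) ℓ)
            (fpFst (fpFst f y) x₀)) (fpSnd f y)) := Iso.refl _
    have m3 : BasedFunctor.comp (BasedFunctor.comp eA E)
          (BasedFunctor.comp (BasedFunctor.comp (fpSnd (fpFst (fpFst f y) x₀) ℓ) ℓ) (fpSnd f y)) ≅
        BasedFunctor.comp (BasedFunctor.comp eA (fpSnd x₀ (BasedFunctor.comp ℓ (fpFst f y))))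
          (BasedFunctor.comp ℓ (fpSnd f y)) := Iso.refl _
    have tot := l1 ≪≫ r5.symm ≪≫ m3.symm ≪≫ r4.symm ≪≫ m2.symm ≪≫ r3.symm ≪≫ m1.symm ≪≫
      r2.symm ≪≫ r1.symm
    have := spMapOfOver_congr tot
    rwa [spMapOfOver_ofSpMap_toOverCat, spMapOfOver_ofSpMap_toOverCat] at this
  exact ⟨A, B, a, b, b₀, k₁, ha₁, ha₂, hb, hk₁, hA₁, comm⟩

set_option backward.isDefEq.respectTransparency.types false in
/-- S13008 -/
theorem isOpenMor_of_locQ_flat_lfp (h𝒳 : AlgSt.IsAlgStack Scheme.fppfPrecoverage 𝒳)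
    (h𝒴 : AlgSt.IsAlgStack Scheme.fppfPrecoverage 𝒴) (f : 𝒳 ⥤ᵇ 𝒴)
    (hfl : AlgSt.LocQ (LocP @Flat) f) (hlfp : AlgSt.LocQ (LocP @LocallyOfFinitePresentation) f) :
    AlgSt.IsOpenMor f := by
  obtain ⟨U₀, V₀, x₀, y₀, h₀, α₀, hx₀₁, hx₀₂, hy₀, hP₀⟩ := hlfp
  obtain ⟨V, y, hy₁, hy₂⟩ := h𝒴.atlas
  obtain ⟨U, x, h, α, hx, hℓ₁, hℓ₂, hxs⟩ := exists_lsmooth_square h𝒳 h𝒴 f y hy₁
  have hflat : LocP @Flat ((yon S).map h) :=
    ((locQ_iff_all _ isSmoothLocalST_flat h𝒳 h𝒴 f).1 hfl) U V x y h α hx hy₁ hℓ₁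
  obtain ⟨A, B, a, b, b₀, k₁, ha₁, ha₂, hb, hk₁, hA₁, comm⟩ :=
    lsmooth_diagram f x₀ y₀ h₀ α₀ hx₀₁ hx₀₂ hy₀ y (fpLift x (AlgSt.overMap h) α) hℓ₁ h (Iso.refl _)
  have hc_flat : LocP @Flat (a ≫ (yon S).map h) :=
    isSmoothLocalST_flat.precomp A.property (IsAlgSpace.yon_obj U) (IsAlgSpace.yon_obj V) a _ ha₁ hflat
  have hfst : LocP @LocallyOfFinitePresentation (pullback.fst b₀ ((yon S).map h₀)) :=
    good_bc _ good_lfp (IsAlgSpace.yon_obj U₀) (IsAlgSpace.yon_obj V₀) hA₁ B.property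
      ((yon S).map h₀) b₀ _ _ (IsPullback.of_hasPullback b₀ ((yon S).map h₀)).flip hP₀
  have hc_lfp : LocP @LocallyOfFinitePresentation (a ≫ (yon S).map h) := by
    rw [comm]
    exact locP_comp' _ good_lfp A.property B.property (IsAlgSpace.yon_obj V) _ b
      (locP_comp' _ good_lfp A.property hA₁ B.property k₁ _ (smooth_le_lfp _ hk₁) hfst)
      (smooth_le_lfp _ hb)
  -- the stack maps
  have hu₁ : AlgSt.RepByAlgSpWith (LocP @Smooth)
      (BasedFunctor.comp (AlgSt.ofSpMap a) (BasedFunctor.comp (AlgSt.toOverCat U) x)) :=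
    smooth_comp (isFibGrpd_ofSp _) (isFibGrpd_ofSp _) _ _
      (rep_ofSpMap _ smooth_bc A.property (IsAlgSpace.yon_obj U) a ha₁)
      (rep_equiv_comp _ _ (isEquivOver_toOverCat U) x hx)
  have hu₂ : AlgSt.RepByAlgSpWith IsSurjectiveMor
      (BasedFunctor.comp (AlgSt.ofSpMap a) (BasedFunctor.comp (AlgSt.toOverCat U) x)) :=
    surj_comp' (isFibGrpd_ofSp _) (isFibGrpd_ofSp _) _ _
      (rep_ofSpMap _ surj_bc A.property (IsAlgSpace.yon_obj U) a ha₂)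
      (rep_equiv_comp _ _ (isEquivOver_toOverCat U) x (hxs hy₂))
  have hw₁ : AlgSt.RepByAlgSpWith (LocP @Flat)
      (BasedFunctor.comp (AlgSt.ofSpMap (a ≫ (yon S).map h))
        (BasedFunctor.comp (AlgSt.toOverCat V) y)) :=
    good_rep_comp _ good_flat Groth.Agent.Helper6.LocalFppf.flat (isFibGrpd_ofSp _)
      (isFibGrpd_ofSp _) _ _
      (rep_ofSpMap _ (good_bc _ good_flat) A.property (IsAlgSpace.yon_obj V) _ hc_flat)
      (rep_equiv_comp _ _ (isEquivOver_toOverCat V) y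
        (repByAlgSpWith_mono smooth_le_flat hy₁))
  have hw₂ : AlgSt.RepByAlgSpWith (LocP @LocallyOfFinitePresentation)
      (BasedFunctor.comp (AlgSt.ofSpMap (a ≫ (yon S).map h))
        (BasedFunctor.comp (AlgSt.toOverCat V) y)) :=
    good_rep_comp _ good_lfp Groth.Agent.Helper6.LocalFppf.lfp (isFibGrpd_ofSp _)
      (isFibGrpd_ofSp _) _ _
      (rep_ofSpMap _ (good_bc _ good_lfp) A.property (IsAlgSpace.yon_obj V) _ hc_lfp)
      (rep_equiv_comp _ _ (isEquivOver_toOverCat V) y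
        (repByAlgSpWith_mono smooth_le_lfp hy₁))
  have θ : BasedFunctor.comp
      (BasedFunctor.comp (AlgSt.ofSpMap a) (BasedFunctor.comp (AlgSt.toOverCat U) x)) f ≅
      BasedFunctor.comp (AlgSt.ofSpMap (a ≫ (yon S).map h))
        (BasedFunctor.comp (AlgSt.toOverCat V) y) :=
    whiskerLeftIso' (BasedFunctor.comp (AlgSt.ofSpMap a) (AlgSt.toOverCat U)) α
  have hw_open := isOpenMap_points_map_of_flat_lfp h𝒴.isStack.1 A _ hw₁ hw₂
  have hu_cont := continuous_points_map (isFibGrpd_ofSp A.obj) h𝒳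
    (BasedFunctor.comp (AlgSt.ofSpMap a) (BasedFunctor.comp (AlgSt.toOverCat U) x))
  have hu_surj := isSurjective_of_rep_surj (isFibGrpd_ofSp A.obj) h𝒳.isStack.1 _ hu₂
  intro W hW
  have key : AlgSt.Points.map f '' W =
      AlgSt.Points.map (BasedFunctor.comp (AlgSt.ofSpMap (a ≫ (yon S).map h))
        (BasedFunctor.comp (AlgSt.toOverCat V) y)) ''
        (AlgSt.Points.map (BasedFunctor.comp (AlgSt.ofSpMap a)
          (BasedFunctor.comp (AlgSt.toOverCat U) x)) ⁻¹' W) := by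
    ext q
    constructor
    · rintro ⟨p, hp, rfl⟩
      obtain ⟨r, rfl⟩ := hu_surj p
      exact ⟨r, hp, ((points_map_comp _ f r).symm.trans (points_map_congr θ r)).symm⟩
    · rintro ⟨r, hr, rfl⟩
      exact ⟨_, hr, (points_map_comp _ f r).symm.trans (points_map_congr θ r)⟩
  rw [key]
  exact hw_open _ (hu_cont.isOpen_preimage _ hW)

end Groth.Agent.Helper6.LocQ5
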