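import Mathlib
import Groth.Agent.Helper6.LocQ5
import Groth.Agent.Helper6.StTop3
import Groth.Agent.Helper5.SrcFlat

/-!
# Helper6: `LocQ` — flat descent along flat surjective morphisms
-/

set_option autoImplicit false
set_option linter.style.haveILetI false
set_option linter.unusedVariables false
universe u

namespace Groth.Agent.Helper6.LocQ6
open CategoryTheory Functor FibCat Limits AlgebraicGeometry Opposite
open Groth.Agent.Helper3 Stk Groth.Agent.Helper6.OfPsh Groth.Agent.Helper6.OfPshHom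
open Groth.Agent.Helper6.FpTools Groth.Agent.Helper6.OfPshFp Groth.Agent.Helper6.AlgStRep
open Groth.Agent.Helper6.AlgStEquiv Groth.Agent.Helper6.AlgStInv Groth.Agent.Helper6.AlgStPsh
open Groth.Agent.Helper6.DiagRed Groth.Agent.Helper6.RepDiag Groth.Agent.Helper6.RepComp
open Groth.Agent.Helper6.DiagRep Groth.Agent.Helper6.AlgStPts Groth.Agent.Helper6.StPts
open Groth.Agent.Helper6.SmLoc Groth.Agent.Helper6.ChartOver Groth.Agent.Helper6.StTop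
open Groth.Agent.Helper6.QcMor2 Groth.Agent.Helper6.SpAtlas Groth.Agent.Helper4.SDClasses
open Groth.Agent.Helper6.Descent1 Groth.Agent.Helper6.Descent2 Groth.Agent.Helper6.LocQ0
open Groth.Agent.Helper6.LocQ1 Groth.Agent.Helper6.LocQ2 Groth.Agent.Helper6.AlgStBC
open Groth.Agent.Helper6.OverRep Groth.Agent.Helper6.LocQ3 Groth.Agent.Helper6.LocQ4
open Groth.Agent.Helper6.FlatST Groth.Agent.Helper6.DiagLft Groth.Agent.Helper6.ToSpace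
open Groth.Agent.Helper6.LocQ5
open AlgSp

variable {S : Scheme.{u}} {𝒳 𝒴 𝒵 : AlgSt.Cat S}

theorem locQ_congr (P : MorphismProperty (Sp S)) {φ ψ : 𝒳 ⥤ᵇ 𝒴} (e : φ ≅ ψ)
    (h : AlgSt.LocQ P φ) : AlgSt.LocQ P ψ := by
  obtain ⟨U, V, x, y, h, α, hx₁, hx₂, hy, hP⟩ := h
  exact ⟨U, V, x, y, h, (whiskerLeftIso' x e).symm ≪≫ α, hx₁, hx₂, hy, hP⟩

theorem locQ_of_equiv_comp (P : MorphismProperty (Sp S)) {𝒜' : AlgSt.Cat S} (E : 𝒜' ⥤ᵇ 𝒳)
    (hE : IsEquivOver E) (φ : 𝒳 ⥤ᵇ 𝒴) (h : AlgSt.LocQ P (BasedFunctor.comp E φ)) :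
    AlgSt.LocQ P φ := by
  obtain ⟨U, V, x, y, h, α, hx₁, hx₂, hy, hP⟩ := h
  exact ⟨U, V, BasedFunctor.comp x E, y, h, α, (repByAlgSpWith_comp_equiv _ x E hE).1 hx₁,
    (repByAlgSpWith_comp_equiv _ x E hE).1 hx₂, hy, hP⟩

theorem locQ_equiv_comp (P : MorphismProperty (Sp S)) {𝒜' : AlgSt.Cat S} (E : 𝒜' ⥤ᵇ 𝒳)
    (hE : IsEquivOver E) (φ : 𝒳 ⥤ᵇ 𝒴) (h : AlgSt.LocQ P φ) :
    AlgSt.LocQ P (BasedFunctor.comp E φ) := by
  obtain ⟨U, V, x, y, h, α, hx₁, hx₂, hy, hP⟩ := h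
  obtain ⟨K, hK, -, ⟨ε⟩⟩ := EquivOver.symm hE
  have e1 : BasedFunctor.comp (BasedFunctor.comp x K) (BasedFunctor.comp E φ) ≅
      BasedFunctor.comp x φ := whiskerRightIso' (whiskerLeftIso' x ε) φ
  exact ⟨U, V, BasedFunctor.comp x K, y, h, e1 ≪≫ α, (repByAlgSpWith_comp_equiv _ x K hK).1 hx₁,
    (repByAlgSpWith_comp_equiv _ x K hK).1 hx₂, hy, hP⟩

set_option backward.isDefEq.respectTransparency.types false in
/-- for a morphism to a scheme, `P` can be read on every smooth chart of the source -/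
theorem locQ_to_scheme (P : MorphismProperty (Sp S)) (hP : IsSmoothLocalST P) {W : Over S}
    (φ : 𝒳 ⥤ᵇ overCat W) (hφ : AlgSt.LocQ P φ) {U : Over S} (x : overCat U ⥤ᵇ 𝒳)
    (hx : AlgSt.RepByAlgSpWith (LocP @Smooth) x) (h : U ⟶ W)
    (ι : BasedFunctor.comp x φ ≅ AlgSt.overMap h) : P ((yon S).map h) := by
  obtain ⟨U₀, V₀, x₀, y₀, h₀, α₀, hx₀₁, hx₀₂, hy₀, hP₀⟩ := hφ
  have α : BasedFunctor.comp x φ ≅
      BasedFunctor.comp (AlgSt.overMap h) (BasedFunctor.id (overCat W)) := ι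
  have hℓ : AlgSt.RepByAlgSpWith (LocP @Smooth) (fpLift x (AlgSt.overMap h) α) :=
    (repByAlgSpWith_comp_equiv _ (fpLift x (AlgSt.overMap h) α) (fpFst φ (BasedFunctor.id _))
      (isEquivOver_fpFst_of_isEquivOver φ (BasedFunctor.id _) (isEquivOver_id _))).2 hx
  exact P_of_lsmooth P hP φ x₀ y₀ h₀ α₀ hx₀₁ hx₀₂ hy₀ hP₀ (BasedFunctor.id _) (smooth_id_overCat W)
    (fpLift x (AlgSt.overMap h) α) hℓ hx h (Iso.refl _)

theorem surjective_of_overMap {U V : Over S} (h : U ⟶ V)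
    (hs : AlgSt.IsSurjective (AlgSt.overMap h)) : Function.Surjective h.left := by
  intro t
  obtain ⟨q, hq⟩ := hs (chartPt V t)
  obtain ⟨s, rfl⟩ := (chartPt_bijective U).2 q
  rw [points_map_overMap] at hq
  exact ⟨s, (chartPt_bijective V).1 hq⟩

set_option backward.isDefEq.respectTransparency.types false in
/-- S13004 -/
theorem locQ_flat_of_comp (h𝒳 : AlgSt.IsAlgStack Scheme.fppfPrecoverage 𝒳)
    (h𝒴 : AlgSt.IsAlgStack Scheme.fppfPrecoverage 𝒴)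
    (h𝒵 : AlgSt.IsAlgStack Scheme.fppfPrecoverage 𝒵)
    (f : 𝒳 ⥤ᵇ 𝒴) (g : 𝒴 ⥤ᵇ 𝒵)
    (hf₁ : AlgSt.LocQ (LocP @Flat) f) (hf₂ : AlgSt.IsSurjective f)
    (hgf : AlgSt.LocQ (LocP @Flat) (BasedFunctor.comp f g)) : AlgSt.LocQ (LocP @Flat) g := by
  obtain ⟨W, z, hz₁, hz₂⟩ := h𝒵.atlas
  have h𝒴W : AlgSt.IsAlgStack Scheme.fppfPrecoverage (fp g z) :=
    Groth.Agent.Helper6.FpAlg.isAlgStack_fp h𝒵.isStack h𝒵.diag h𝒴 (isAlgStack_overCat W) g z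
  have h𝒳W : AlgSt.IsAlgStack Scheme.fppfPrecoverage (fp f (fpFst g z)) :=
    Groth.Agent.Helper6.FpAlg.isAlgStack_fp h𝒴.isStack h𝒴.diag h𝒳 h𝒴W f (fpFst g z)
  obtain ⟨V, v, hv₁, hv₂⟩ := h𝒴W.atlas
  obtain ⟨U, x', hf', α', hx', hℓ₁, hℓ₂, hxs⟩ :=
    exists_lsmooth_square h𝒳W h𝒴W (fpSnd f (fpFst g z)) v hv₁
  -- `f_W` is flat
  have hfW : AlgSt.LocQ (LocP @Flat) (fpSnd f (fpFst g z)) :=
    locQ_equiv_comp _ (fpSwap f (fpFst g z)) (isEquivOver_fpSwap _ _) _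
      (locQ_fpFst _ isSmoothLocalST_flat (good_bc _ good_flat) h𝒳 h𝒴 h𝒴W f (fpFst g z) hf₁)
  have hflat_f : LocP @Flat ((yon S).map hf') :=
    ((locQ_iff_all _ isSmoothLocalST_flat h𝒳W h𝒴W _).1 hfW) U V x' v hf' α' hx' hv₁ hℓ₁
  -- `hf'` is surjective
  have hfWs : AlgSt.IsSurjective (fpSnd f (fpFst g z)) :=
    isSurjective_fpSnd h𝒴W.isStack.1 h𝒴.isStack.1 h𝒳.isStack.1 (fpFst g z) f hf₂
  have hsnd : AlgSt.IsSurjective (fpSnd (fpSnd f (fpFst g z)) v) :=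
    isSurjective_fpSnd (isFibGrpd_overCat V) h𝒴W.isStack.1 h𝒳W.isStack.1 v _ hfWs
  have hA : AlgSt.IsAlgStack Scheme.fppfPrecoverage (fp (fpSnd f (fpFst g z)) v) :=
    Groth.Agent.Helper6.FpAlg.isAlgStack_fp h𝒴W.isStack h𝒴W.diag h𝒳W (isAlgStack_overCat V) _ v
  have hℓs : AlgSt.IsSurjective (fpLift x' (AlgSt.overMap hf') α') :=
    isSurjective_of_rep_surj (isFibGrpd_overCat U) hA.isStack.1 _ hℓ₂
  have hfs : Function.Surjective hf'.left := by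
    apply surjective_of_overMap
    intro q
    obtain ⟨r, hr⟩ := hsnd q
    obtain ⟨s, hs⟩ := hℓs r
    exact ⟨s, by rw [← hr, ← hs, ← points_map_comp]; rfl⟩
  -- the map `hg : V ⟶ W`
  obtain ⟨hg, ⟨ιg⟩⟩ := exists_overMap_iso (BasedFunctor.comp v (fpSnd g z))
  -- `hf' ≫ hg` is flat
  have hcomp : AlgSt.LocQ (LocP @Flat)
      (BasedFunctor.comp (fpSnd f (fpFst g z)) (fpSnd g z)) := by
    have h1 : AlgSt.LocQ (LocP @Flat) (fpFst z (BasedFunctor.comp f g)) :=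
      locQ_fpFst _ isSmoothLocalST_flat (good_bc _ good_flat) h𝒳 h𝒵 (isAlgStack_overCat W)
        (BasedFunctor.comp f g) z hgf
    have h2 : AlgSt.LocQ (LocP @Flat) (fpSnd (BasedFunctor.comp f g) z) :=
      locQ_equiv_comp _ (fpSwap (BasedFunctor.comp f g) z) (isEquivOver_fpSwap _ _) _ h1
    exact locQ_of_equiv_comp _ (pasteLeft f g z) (isEquivOver_pasteLeft f g z) _ h2
  have ιc : BasedFunctor.comp x' (BasedFunctor.comp (fpSnd f (fpFst g z)) (fpSnd g z)) ≅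
      AlgSt.overMap (hf' ≫ hg) :=
    whiskerRightIso' α' (fpSnd g z) ≪≫ whiskerLeftIso' (AlgSt.overMap hf') ιg ≪≫ overMapComp hf' hg
  have hflat_c : LocP @Flat ((yon S).map (hf' ≫ hg)) :=
    locQ_to_scheme _ isSmoothLocalST_flat _ hcomp x' hx' (hf' ≫ hg) ιc
  -- `hg` is flat
  haveI h1 : Flat hf'.left := locP_yon_map hflat_f
  have h2 : Flat (hf'.left ≫ hg.left) := locP_yon_map hflat_c
  have hflat_g : Flat hg.left := by
    apply Groth.Agent.Helper5.SrcFlat.flat_of_family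
    intro t
    obtain ⟨s, hs⟩ := hfs t
    exact ⟨U.left, hf'.left, s, h1, hs, h2⟩
  -- the chart square for `g`
  have hp₁ : AlgSt.RepByAlgSpWith (LocP @Smooth) (fpFst g z) := rep_fpFst _ g z hz₁
  have hp₂ : AlgSt.RepByAlgSpWith IsSurjectiveMor (fpFst g z) := rep_fpFst _ g z hz₂
  refine ⟨V, W, BasedFunctor.comp v (fpFst g z), z, hg, ?_,
    smooth_comp (isFibGrpd_overCat V) h𝒴W.isStack.1 v _ hv₁ hp₁,
    surj_comp' (isFibGrpd_overCat V) h𝒴W.isStack.1 v _ hv₂ hp₂, hz₁,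
    locP_yon_of _ good_flat hg hflat_g⟩
  exact whiskerLeftIso' v (fpIso g z) ≪≫ whiskerRightIso' ιg z

set_option backward.isDefEq.respectTransparency.types false in
/-- S13003 -/
theorem locQ_flat_of_fpFst (h𝒳 : AlgSt.IsAlgStack Scheme.fppfPrecoverage 𝒳)
    (h𝒴 : AlgSt.IsAlgStack Scheme.fppfPrecoverage 𝒴) (f : 𝒳 ⥤ᵇ 𝒴)
    (h𝒵 : AlgSt.IsAlgStack Scheme.fppfPrecoverage 𝒵) (z : 𝒵 ⥤ᵇ 𝒴)
    (hz₁ : AlgSt.LocQ (LocP @Flat) z) (hz₂ : AlgSt.IsSurjective z)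
    (h : AlgSt.LocQ (LocP @Flat) (fpFst z f)) : AlgSt.LocQ (LocP @Flat) f := by
  have hA : AlgSt.IsAlgStack Scheme.fppfPrecoverage (fp z f) :=
    Groth.Agent.Helper6.FpAlg.isAlgStack_fp h𝒴.isStack h𝒴.diag h𝒵 h𝒳 z f
  have hpr_flat : AlgSt.LocQ (LocP @Flat) (fpSnd z f) :=
    locQ_equiv_comp _ (fpSwap z f) (isEquivOver_fpSwap _ _) _
      (locQ_fpFst _ isSmoothLocalST_flat (good_bc _ good_flat) h𝒵 h𝒴 h𝒳 z f hz₁)
  have hpr_surj : AlgSt.IsSurjective (fpSnd z f) :=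
    isSurjective_fpSnd h𝒳.isStack.1 h𝒴.isStack.1 h𝒵.isStack.1 f z hz₂
  have hcomp : AlgSt.LocQ (LocP @Flat) (BasedFunctor.comp (fpSnd z f) f) :=
    locQ_congr _ (fpIso z f)
      (locQ_comp _ isSmoothLocalST_flat (locP_comp' _ good_flat) hA h𝒵 (fpFst z f) z h hz₁)
  exact locQ_flat_of_comp hA h𝒳 h𝒴 (fpSnd z f) f hpr_flat hpr_surj hcomp

end Groth.Agent.Helper6.LocQ6
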