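import Mathlib
import Groth.Agent.Helper6.LocQ6

/-!
# Helper6: fppf-local lifting along flat, locally finitely presented morphisms of algebraic stacks
-/

set_option autoImplicit false
set_option linter.style.haveILetI false
set_option linter.unusedVariables false
universe u

namespace Groth.Agent.Helper6.LocQ7
open CategoryTheory Functor FibCat Limits AlgebraicGeometry Opposite
open Groth.Agent.Helper3 Stk Groth.Agent.Helper6.OfPsh Groth.Agent.Helper6.OfPshHom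
open Groth.Agent.Helper6.FpTools Groth.Agent.Helper6.OfPshFp Groth.Agent.Helper6.AlgStRep
open Groth.Agent.Helper6.AlgStEquiv Groth.Agent.Helper6.AlgStInv Groth.Agent.Helper6.AlgStPsh
open Groth.Agent.Helper6.DiagRed Groth.Agent.Helper6.RepDiag Groth.Agent.Helper6.RepComp
open Groth.Agent.Helper6.DiagRep Groth.Agent.Helper6.AlgStPts Groth.Agent.Helper6.StPts
open Groth.Agent.Helper6.SmLoc Groth.Agent.Helper6.ChartOver Groth.Agent.Helper6.StTop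
open Groth.Agent.Helper6.QcMor2 Groth.Agent.Helper6.SpAtlas Groth.Agent.Helper4.SDClasses
open Groth.Agent.Helper6.Descent1 Groth.Agent.Helper6.Descent2 Groth.Agent.Helper6.LocQ0
open Groth.Agent.Helper6.LocQ1 Groth.Agent.Helper6.LocQ2 Groth.Agent.Helper6.AlgStBC
open Groth.Agent.Helper6.OverRep Groth.Agent.Helper6.LocQ3 Groth.Agent.Helper6.LocQ4
open Groth.Agent.Helper6.FlatST Groth.Agent.Helper6.DiagLft Groth.Agent.Helper6.ToSpace
open Groth.Agent.Helper6.LocQ5 Groth.Agent.Helper6.LocQ6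
open AlgSp

variable {S : Scheme.{u}} {𝒳 𝒴 𝒵 : AlgSt.Cat S}

set_option backward.isDefEq.respectTransparency.types false in
/-- a smooth surjective scheme chart of `𝒵 ×_𝒴 U` which is flat and locally finitely presented
over `U`, for `z : 𝒵 ⟶ 𝒴` flat and locally of finite presentation and ANY `y : U ⟶ 𝒴` -/
theorem exists_fppf_chart_fp (h𝒵 : AlgSt.IsAlgStack Scheme.fppfPrecoverage 𝒵)
    (h𝒴 : AlgSt.IsAlgStack Scheme.fppfPrecoverage 𝒴) (z : 𝒵 ⥤ᵇ 𝒴)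
    (hz₁ : AlgSt.LocQ (LocP @Flat) z) (hz₂ : AlgSt.LocQ (LocP @LocallyOfFinitePresentation) z)
    (U : Over S) (y : overCat U ⥤ᵇ 𝒴) :
    ∃ (V₀ : Over S) (h₀ : V₀ ⟶ U) (m : overCat V₀ ⥤ᵇ fp z y),
      Flat h₀.left ∧ LocallyOfFinitePresentation h₀.left ∧
      AlgSt.RepByAlgSpWith (LocP @Smooth) m ∧ AlgSt.RepByAlgSpWith IsSurjectiveMor m ∧
      Nonempty (BasedFunctor.comp m (fpSnd z y) ≅ AlgSt.overMap h₀) := by
  have hA : AlgSt.IsAlgStack Scheme.fppfPrecoverage (fp z y) :=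
    Groth.Agent.Helper6.FpAlg.isAlgStack_fp h𝒴.isStack h𝒴.diag h𝒵 (isAlgStack_overCat U) z y
  obtain ⟨T, ℓ, hℓ₁, hℓ₂⟩ := hA.atlas
  obtain ⟨h, ⟨ι⟩⟩ := exists_overMap_iso (BasedFunctor.comp ℓ (fpSnd z y))
  -- flatness
  have hflat : LocP @Flat ((yon S).map h) := by
    obtain ⟨U₁, V₁, x₁, y₁, h₁, α₁, hx₁₁, hx₁₂, hy₁, hP₁⟩ := hz₁
    exact P_of_lsmooth_bc _ isSmoothLocalST_flat (good_bc _ good_flat) z x₁ y₁ h₁ α₁ hx₁₁ hx₁₂ hy₁ hP₁
      y ℓ hℓ₁ h ι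
  -- local finite presentation after a smooth cover
  obtain ⟨U₀, V₀', x₀, y₀, h₀', α₀, hx₀₁, hx₀₂, hy₀, hP₀⟩ := hz₂
  obtain ⟨A, B, a, b, b₀, k₁, ha₁, ha₂, hb, hk₁, hA₁, comm⟩ :=
    lsmooth_diagram z x₀ y₀ h₀' α₀ hx₀₁ hx₀₂ hy₀ y ℓ hℓ₁ h ι
  have hc_flat : LocP @Flat (a ≫ (yon S).map h) :=
    isSmoothLocalST_flat.precomp A.property (IsAlgSpace.yon_obj T) (IsAlgSpace.yon_obj U) a _ ha₁ hflat
  have hfst : LocP @LocallyOfFinitePresentation (pullback.fst b₀ ((yon S).map h₀')) :=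
    good_bc _ good_lfp (IsAlgSpace.yon_obj U₀) (IsAlgSpace.yon_obj V₀') hA₁ B.property
      ((yon S).map h₀') b₀ _ _ (IsPullback.of_hasPullback b₀ ((yon S).map h₀')).flip hP₀
  have hc_lfp : LocP @LocallyOfFinitePresentation (a ≫ (yon S).map h) := by
    rw [comm]
    exact locP_comp' _ good_lfp A.property B.property (IsAlgSpace.yon_obj U) _ b
      (locP_comp' _ good_lfp A.property hA₁ B.property k₁ _ (smooth_le_lfp _ hk₁) hfst)
      (smooth_le_lfp _ hb)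
  -- a scheme atlas of `A`
  obtain ⟨V₀, p, hpe, hps⟩ := A.property.atlas
  obtain ⟨h₀, hh⟩ := (yon S).map_surjective (p ≫ a ≫ (yon S).map h)
  have hp_sm : LocP @Smooth p := locP_smooth_of_etale p hpe
  have h₀_flat : LocP @Flat ((yon S).map h₀) := by
    rw [hh]
    exact isSmoothLocalST_flat.precomp (IsAlgSpace.yon_obj V₀) A.property (IsAlgSpace.yon_obj U) p _
      hp_sm hc_flat
  have h₀_lfp : LocP @LocallyOfFinitePresentation ((yon S).map h₀) := by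
    rw [hh]
    exact locP_comp' _ good_lfp (IsAlgSpace.yon_obj V₀) A.property (IsAlgSpace.yon_obj U) p _
      (smooth_le_lfp _ hp_sm) hc_lfp
  -- the chart
  have hm₁ : AlgSt.RepByAlgSpWith (LocP @Smooth)
      (BasedFunctor.comp (AlgSt.ofSpMap a) (BasedFunctor.comp (AlgSt.toOverCat T) ℓ)) :=
    smooth_comp (isFibGrpd_ofSp _) (isFibGrpd_ofSp _) _ _
      (rep_ofSpMap _ smooth_bc A.property (IsAlgSpace.yon_obj T) a ha₁)
      (rep_equiv_comp _ _ (isEquivOver_toOverCat T) ℓ hℓ₁)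
  have hm₂ : AlgSt.RepByAlgSpWith IsSurjectiveMor
      (BasedFunctor.comp (AlgSt.ofSpMap a) (BasedFunctor.comp (AlgSt.toOverCat T) ℓ)) :=
    surj_comp' (isFibGrpd_ofSp _) (isFibGrpd_ofSp _) _ _
      (rep_ofSpMap _ surj_bc A.property (IsAlgSpace.yon_obj T) a ha₂)
      (rep_equiv_comp _ _ (isEquivOver_toOverCat T) ℓ hℓ₂)
  refine ⟨V₀, h₀, BasedFunctor.comp (atlasChart p)
      (BasedFunctor.comp (AlgSt.ofSpMap a) (BasedFunctor.comp (AlgSt.toOverCat T) ℓ)),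
    locP_yon_map h₀_flat, locP_yon_map h₀_lfp,
    comp_atlasChart_smooth hA.isStack.1 A p hpe _ hm₁,
    comp_atlasChart_surj hA.isStack.1 A p hpe hps _ hm₂, ⟨?_⟩⟩
  have l1 : BasedFunctor.comp (BasedFunctor.comp (atlasChart p)
      (BasedFunctor.comp (AlgSt.ofSpMap a) (BasedFunctor.comp (AlgSt.toOverCat T) ℓ))) (fpSnd z y) ≅
      BasedFunctor.comp (AlgSt.ofOverCat V₀)
        (BasedFunctor.comp (AlgSt.ofSpMap (p ≫ a ≫ (yon S).map h)) (AlgSt.toOverCat U)) :=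
    whiskerLeftIso' (BasedFunctor.comp (atlasChart p)
      (BasedFunctor.comp (AlgSt.ofSpMap a) (AlgSt.toOverCat T))) ι
  have l2 : BasedFunctor.comp (AlgSt.ofOverCat V₀)
      (BasedFunctor.comp (AlgSt.ofSpMap (p ≫ a ≫ (yon S).map h)) (AlgSt.toOverCat U)) ≅
      AlgSt.overMap h₀ :=
    whiskerLeftIso' (AlgSt.ofOverCat V₀) (overMapIso' h₀ (p ≫ a ≫ (yon S).map h) hh.symm)
  exact l1 ≪≫ l2

/-- the image of a surjective chart of `𝒵 ×_𝒴 U` in `U` -/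
theorem mem_range_of_chart (h𝒵 : IsFibGrpd 𝒵.p) (h𝒴 : IsFibGrpd 𝒴.p) (z : 𝒵 ⥤ᵇ 𝒴) {U : Over S}
    (y : overCat U ⥤ᵇ 𝒴) (hA : IsFibGrpd (fp z y).p)
    {V₀ : Over S} (h₀ : V₀ ⟶ U) (m : overCat V₀ ⥤ᵇ fp z y)
    (hm : AlgSt.RepByAlgSpWith IsSurjectiveMor m)
    (ι : BasedFunctor.comp m (fpSnd z y) ≅ AlgSt.overMap h₀) (u : U.left)
    (hu : AlgSt.Points.ofChart y u ∈ Set.range (AlgSt.Points.map z)) :
    u ∈ Set.range h₀.left := by
  obtain ⟨p', hp'⟩ := hu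
  obtain ⟨w, hw1, hw2⟩ := fp_points_exists h𝒵 (isFibGrpd_overCat U) h𝒴 z y (BasedFunctor.id _)
    (isEquivOver_id _) p' (chartPt U u) hp'
  obtain ⟨v', hv'⟩ := isSurjective_of_rep_surj (isFibGrpd_overCat V₀) hA m hm w
  obtain ⟨v, rfl⟩ := (chartPt_bijective V₀).2 v'
  refine ⟨v, (chartPt_bijective U).1 ?_⟩
  rw [← points_map_overMap, ← points_map_congr ι, points_map_comp, hv']
  exact hw2

set_option backward.isDefEq.respectTransparency.types false in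
/-- fppf-local lifting along a flat, locally finitely presented, surjective morphism of algebraic stacks -/
theorem local_lift_locQ (h𝒵 : AlgSt.IsAlgStack Scheme.fppfPrecoverage 𝒵)
    (h𝒴 : AlgSt.IsAlgStack Scheme.fppfPrecoverage 𝒴) (z : 𝒵 ⥤ᵇ 𝒴)
    (hz₁ : AlgSt.LocQ (LocP @Flat) z) (hz₂ : AlgSt.LocQ (LocP @LocallyOfFinitePresentation) z)
    (hz₃ : AlgSt.IsSurjective z) (U : Over S) (y : overCat U ⥤ᵇ 𝒴) :
    ∃ R ∈ (QuotSh.J Scheme.fppfPrecoverage S) U, ∀ ⦃V : Over S⦄ (h : V ⟶ U), R.arrows h →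
      ∃ z' : overCat V ⥤ᵇ 𝒵,
        Nonempty (BasedFunctor.comp z' z ≅ BasedFunctor.comp (AlgSt.overMap h) y) := by
  obtain ⟨V₀, h₀, m, hfl, hfp, hm₁, hm₂, ⟨ι⟩⟩ := exists_fppf_chart_fp h𝒵 h𝒴 z hz₁ hz₂ U y
  have hA : AlgSt.IsAlgStack Scheme.fppfPrecoverage (fp z y) :=
    Groth.Agent.Helper6.FpAlg.isAlgStack_fp h𝒴.isStack h𝒴.diag h𝒵 (isAlgStack_overCat U) z y
  haveI := hfl
  haveI := hfp
  haveI hsj : Surjective h₀.left :=
    ⟨fun u => mem_range_of_chart h𝒵.isStack.1 h𝒴.isStack.1 z y hA.isStack.1 h₀ m hm₂ ι u (hz₃ _)⟩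
  refine ⟨Sieve.generate (Presieve.singleton h₀),
    Groth.Agent.Helper4.AlgSpBasic.generate_singleton_mem_J h₀, ?_⟩
  intro V h hR
  obtain ⟨V', k, h', ⟨⟩, rfl⟩ := hR
  refine ⟨BasedFunctor.comp (AlgSt.overMap k) (BasedFunctor.comp m (fpFst z y)), ⟨?_⟩⟩
  have κ₀ : BasedFunctor.comp (BasedFunctor.comp m (fpFst z y)) z ≅
      BasedFunctor.comp (AlgSt.overMap h₀) y :=
    whiskerLeftIso' m (fpIso z y) ≪≫ whiskerRightIso' ι y
  exact whiskerLeftIso' (AlgSt.overMap k) κ₀ ≪≫ whiskerRightIso' (overMapComp k h₀) y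

set_option backward.isDefEq.respectTransparency.types false in
/-- S12995 -/
theorem repByAlgSpWith_iff_fpFst_of_fppf (P : MorphismProperty (Sp S))
    (hP₂ : IsLocalOnBase IsFppfCover P)
    (h𝒳 : AlgSt.IsAlgStack Scheme.fppfPrecoverage 𝒳)
    (h𝒴 : AlgSt.IsAlgStack Scheme.fppfPrecoverage 𝒴)
    (f : 𝒳 ⥤ᵇ 𝒴) (hf : AlgSt.RepByAlgSp1 f)
    (h𝒵 : AlgSt.IsAlgStack Scheme.fppfPrecoverage 𝒵) (z : 𝒵 ⥤ᵇ 𝒴)
    (hz₁ : AlgSt.LocQ (LocP @Flat) z) (hz₂ : AlgSt.LocQ (LocP @LocallyOfFinitePresentation) z)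
    (hz₃ : AlgSt.IsSurjective z) :
    AlgSt.RepByAlgSpWith P f ↔ AlgSt.RepByAlgSpWith P (fpFst z f) :=
  ⟨fun h => rep_fpFst P z f h,
    fun h => descend P hP₂ f hf z (local_lift_locQ h𝒵 h𝒴 z hz₁ hz₂ hz₃) h⟩

set_option backward.isDefEq.respectTransparency.types false in
/-- S13022 -/
theorem exists_fppf_cover_lifting (h𝒳 : AlgSt.IsAlgStack Scheme.fppfPrecoverage 𝒳)
    (J : Type u) (𝒳' : J → AlgSt.Cat S)
    (h𝒳' : ∀ j, AlgSt.IsAlgStack Scheme.fppfPrecoverage (𝒳' j)) (f : ∀ j, 𝒳' j ⥤ᵇ 𝒳)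
    (hf₁ : ∀ j, AlgSt.LocQ (LocP @Flat) (f j))
    (hf₂ : ∀ j, AlgSt.LocQ (LocP @LocallyOfFinitePresentation) (f j))
    (hf₃ : ∀ p : AlgSt.Points 𝒳, ∃ j, p ∈ Set.range (AlgSt.Points.map (f j)))
    (U : Over S) (x : overCat U ⥤ᵇ 𝒳) :
    ∃ (ι : Type u) (V : ι → Over S) (g : ∀ i, V i ⟶ U) (c : ι → J),
      (Presieve.ofArrows (fun i ↦ (V i).left) fun i ↦ (g i).left) ∈
        Scheme.fppfPrecoverage U.left ∧
      ∀ i, ∃ x' : overCat (V i) ⥤ᵇ 𝒳' (c i),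
        Nonempty (BasedFunctor.comp x' (f (c i)) ≅ BasedFunctor.comp (AlgSt.overMap (g i)) x) := by
  choose j hj using fun u : U.left => hf₃ (AlgSt.Points.ofChart x u)
  choose V₀ h₀ m hfl hfp hm₁ hm₂ hι using fun u : U.left =>
    exists_fppf_chart_fp (h𝒳' (j u)) h𝒳 (f (j u)) (hf₁ _) (hf₂ _) U x
  refine ⟨U.left, V₀, h₀, j, ?_, fun u => ?_⟩
  · rw [Scheme.fppfPrecoverage, Scheme.ofArrows_mem_precoverage_iff]
    refine ⟨fun u => ⟨u, ?_⟩, fun u => ⟨hfl u, hfp u⟩⟩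
    obtain ⟨ι⟩ := hι u
    have hA : AlgSt.IsAlgStack Scheme.fppfPrecoverage (fp (f (j u)) x) :=
      Groth.Agent.Helper6.FpAlg.isAlgStack_fp h𝒳.isStack h𝒳.diag (h𝒳' (j u)) (isAlgStack_overCat U) _ x
    exact mem_range_of_chart (h𝒳' (j u)).isStack.1 h𝒳.isStack.1 (f (j u)) x hA.isStack.1 (h₀ u) (m u)
      (hm₂ u) ι u (hj u)
  · obtain ⟨ι⟩ := hι u
    exact ⟨BasedFunctor.comp (m u) (fpFst (f (j u)) x),
      ⟨whiskerLeftIso' (m u) (fpIso (f (j u)) x) ≪≫ whiskerRightIso' ι x⟩⟩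

end Groth.Agent.Helper6.LocQ7
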