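import Mathlib
import Groth.Agent.Helper6.LocQ7

/-!
# Helper6: quasi-compactness descends along flat, locally finitely presented, surjective morphisms
-/

set_option autoImplicit false
set_option linter.style.haveILetI false
set_option linter.unusedVariables false
universe u

namespace Groth.Agent.Helper6.LocQ8
open CategoryTheory Functor FibCat Limits AlgebraicGeometry Opposite
open Groth.Agent.Helper3 Stk Groth.Agent.Helper6.OfPsh Groth.Agent.Helper6.OfPshHom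
open Groth.Agent.Helper6.FpTools Groth.Agent.Helper6.OfPshFp Groth.Agent.Helper6.AlgStRep
open Groth.Agent.Helper6.AlgStEquiv Groth.Agent.Helper6.AlgStInv Groth.Agent.Helper6.AlgStPsh
open Groth.Agent.Helper6.DiagRed Groth.Agent.Helper6.RepDiag Groth.Agent.Helper6.RepComp
open Groth.Agent.Helper6.DiagRep Groth.Agent.Helper6.AlgStPts Groth.Agent.Helper6.StPts
open Groth.Agent.Helper6.SmLoc Groth.Agent.Helper6.ChartOver Groth.Agent.Helper6.StTop
open Groth.Agent.Helper6.QcMor2 Groth.Agent.Helper6.SpAtlas Groth.Agent.Helper4.SDClasses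
open Groth.Agent.Helper6.Descent1 Groth.Agent.Helper6.Descent2 Groth.Agent.Helper6.LocQ0
open Groth.Agent.Helper6.LocQ1 Groth.Agent.Helper6.LocQ2 Groth.Agent.Helper6.AlgStBC
open Groth.Agent.Helper6.OverRep Groth.Agent.Helper6.LocQ3 Groth.Agent.Helper6.LocQ4
open Groth.Agent.Helper6.FlatST Groth.Agent.Helper6.DiagLft Groth.Agent.Helper6.ToSpace
open Groth.Agent.Helper6.LocQ5 Groth.Agent.Helper6.LocQ6 Groth.Agent.Helper6.LocQ7
open Groth.Agent.Helper6.QcChart Groth.Agent.Helper6.QcMor Groth.Agent.Helper6.QcMor3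
open AlgSp

variable {S : Scheme.{u}} {𝒳 𝒴 𝒵 : AlgSt.Cat S}

set_option backward.isDefEq.respectTransparency.types false in
theorem overMap_rep (P : MorphismProperty (Sp S))
    (hPb : ∀ ⦃X₁ Y₁ X₂ Y₂ : Sp S⦄, IsAlgSpace X₁ → IsAlgSpace Y₁ → IsAlgSpace X₂ →
      IsAlgSpace Y₂ → ∀ (a : X₁ ⟶ Y₁) (b : Y₂ ⟶ Y₁) (a' : X₂ ⟶ Y₂) (b' : X₂ ⟶ X₁),
      IsPullback b' a' a b → P a → P a')
    {U' U : Over S} (c : U' ⟶ U) (hc : P ((yon S).map c)) :
    AlgSt.RepByAlgSpWith P (AlgSt.overMap c) :=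
  repByAlgSpWith_of_square' P (AlgSt.overMap c) (AlgSt.ofSpMap ((yon S).map c))
    (AlgSt.toOverCat U') (AlgSt.toOverCat U) (isEquivOver_toOverCat U') (isEquivOver_toOverCat U)
    (overMapIso c) (rep_ofSpMap P hPb (IsAlgSpace.yon_obj U') (IsAlgSpace.yon_obj U) _ hc)

theorem isSurjective_comp {𝒲 : AlgSt.Cat S} (a : 𝒲 ⥤ᵇ 𝒳) (b : 𝒳 ⥤ᵇ 𝒴) (ha : AlgSt.IsSurjective a)
    (hb : AlgSt.IsSurjective b) : AlgSt.IsSurjective (BasedFunctor.comp a b) := by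
  intro q
  obtain ⟨p, rfl⟩ := hb q
  obtain ⟨r, rfl⟩ := ha p
  exact ⟨r, points_map_comp a b r⟩

set_option backward.isDefEq.respectTransparency.types false in
/-- S13009 -/
theorem isQuasiCompactMor_of_fpFst_of_fppf
    (h𝒳 : AlgSt.IsAlgStack Scheme.fppfPrecoverage 𝒳)
    (h𝒴 : AlgSt.IsAlgStack Scheme.fppfPrecoverage 𝒴) (f : 𝒳 ⥤ᵇ 𝒴)
    (h𝒵 : AlgSt.IsAlgStack Scheme.fppfPrecoverage 𝒵) (z : 𝒵 ⥤ᵇ 𝒴)
    (hz₁ : AlgSt.LocQ (LocP @Flat) z) (hz₂ : AlgSt.LocQ (LocP @LocallyOfFinitePresentation) z)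
    (hz₃ : AlgSt.IsSurjective z)
    (h : AlgSt.IsQuasiCompactMor Scheme.fppfPrecoverage (fpFst z f)) :
    AlgSt.IsQuasiCompactMor Scheme.fppfPrecoverage f := by
  intro 𝒯 h𝒯 hqc g
  obtain ⟨U₁, x₁, hU₁, hx₁₁, hx₁₂⟩ := hqc
  haveI : IsAffine U₁.left := hU₁
  obtain ⟨V₀, h₀, m, hfl, hfp, hm₁, hm₂, ⟨ι⟩⟩ :=
    exists_fppf_chart_fp h𝒵 h𝒴 z hz₁ hz₂ U₁ (BasedFunctor.comp x₁ g)
  have hA₀ : AlgSt.IsAlgStack Scheme.fppfPrecoverage (fp z (BasedFunctor.comp x₁ g)) :=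
    Groth.Agent.Helper6.FpAlg.isAlgStack_fp h𝒴.isStack h𝒴.diag h𝒵 (isAlgStack_overCat U₁) z _
  haveI hsj : Surjective h₀.left :=
    ⟨fun u => mem_range_of_chart h𝒵.isStack.1 h𝒴.isStack.1 z _ hA₀.isStack.1 h₀ m hm₂ ι u (hz₃ _)⟩
  haveI : CompactSpace (AlgSt.Points (overCat U₁)) :=
    (isQuasiCompact_iff_compactSpace (isAlgStack_overCat U₁)).1 (isQuasiCompact_overCat U₁)
  obtain ⟨V', ι', hι', hV', hsurj⟩ := exists_compact_open_chart (isAlgStack_overCat U₁)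
    (AlgSt.overMap h₀)
    (overMap_rep _ (good_bc _ good_flat) h₀ (locP_yon_of _ good_flat h₀ hfl))
    (overMap_rep _ (good_bc _ good_lfp) h₀ (locP_yon_of _ good_lfp h₀ hfp))
    (overMap_rep _ surj_bc h₀ (Groth.Agent.Helper4.AlgSpPts.isSurjectiveMor_of_repWith _
      ((repWith_yon_map_iff @Surjective h₀).2 hsj)))
  haveI := hV'
  have hV'a := isAlgStack_overCat V'
  let c' : overCat V' ⥤ᵇ 𝒯 :=
    BasedFunctor.comp (BasedFunctor.comp (AlgSt.overMap ι') (AlgSt.overMap h₀)) x₁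
  let k : overCat V' ⥤ᵇ 𝒵 :=
    BasedFunctor.comp (AlgSt.overMap ι') (BasedFunctor.comp m (fpFst z (BasedFunctor.comp x₁ g)))
  have hc's : AlgSt.IsSurjective c' :=
    isSurjective_comp _ x₁ hsurj
      (isSurjective_of_rep_surj (isFibGrpd_overCat U₁) h𝒯.isStack.1 x₁ hx₁₂)
  have h1 : AlgSt.IsQuasiCompact (fp k (fpFst z f)) :=
    h (overCat V') hV'a (isQuasiCompact_overCat V') k
  have h2 : AlgSt.IsQuasiCompact (fp (BasedFunctor.comp k z) f) :=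
    isQuasiCompact_of_isEquivOver' (pasteLeft k z f) (isEquivOver_pasteLeft k z f) h1
  have θ : BasedFunctor.comp c' g ≅ BasedFunctor.comp k z :=
    (whiskerLeftIso' (AlgSt.overMap ι')
      (whiskerLeftIso' m (fpIso z (BasedFunctor.comp x₁ g)) ≪≫
        whiskerRightIso' ι (BasedFunctor.comp x₁ g))).symm
  have h3 : AlgSt.IsQuasiCompact (fp (BasedFunctor.comp c' g) f) :=
    isQuasiCompact_of_isEquivOver' (Groth.Agent.Helper6.RepDiag.fpCongrLeft f θ)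
      (Groth.Agent.Helper6.RepDiag.isEquivOver_fpCongrLeft f θ) h2
  have hA : AlgSt.IsAlgStack Scheme.fppfPrecoverage (fp g f) :=
    Groth.Agent.Helper6.FpAlg.isAlgStack_fp h𝒴.isStack h𝒴.diag h𝒯 h𝒳 g f
  have hB : AlgSt.IsAlgStack Scheme.fppfPrecoverage (fp (BasedFunctor.comp c' g) f) :=
    Groth.Agent.Helper6.FpAlg.isAlgStack_fp h𝒴.isStack h𝒴.diag hV'a h𝒳 _ f
  have h4 : AlgSt.IsSurjective (pasteInner c' g f) := by
    have h5 : AlgSt.IsSurjective (fpSnd c' (fpFst g f)) :=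
      isSurjective_fpSnd hA.isStack.1 h𝒯.isStack.1 (isFibGrpd_overCat V') (fpFst g f) c' hc's
    have h6 := points_map_surjective_of_isEquivOver (pasteLeft c' g f) (isEquivOver_pasteLeft c' g f)
    intro x
    obtain ⟨y, rfl⟩ := h5 x
    obtain ⟨w, rfl⟩ := h6 y
    exact ⟨w, points_map_comp (pasteLeft c' g f) (fpSnd c' (fpFst g f)) w⟩
  exact isQuasiCompact_of_isSurjective hB hA _ h4 h3

end Groth.Agent.Helper6.LocQ8
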