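import Mathlib
import Groth.Agent.Helper6.LocQ8
import Groth.Agent.Helper6.LftST

/-!
# Helper6: `LocQ` for locally of finite type morphisms (smooth local on source-and-target)
-/

set_option autoImplicit false
set_option linter.style.haveILetI false
set_option linter.unusedVariables false
universe u

namespace Groth.Agent.Helper6.LocQ9
open CategoryTheory Functor FibCat Limits AlgebraicGeometry Opposite
open Groth.Agent.Helper3 Stk Groth.Agent.Helper6.OfPsh Groth.Agent.Helper6.OfPshHom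
open Groth.Agent.Helper6.FpTools Groth.Agent.Helper6.OfPshFp Groth.Agent.Helper6.AlgStRep
open Groth.Agent.Helper6.AlgStEquiv Groth.Agent.Helper6.AlgStInv Groth.Agent.Helper6.AlgStPsh
open Groth.Agent.Helper6.DiagRed Groth.Agent.Helper6.RepDiag Groth.Agent.Helper6.RepComp
open Groth.Agent.Helper6.DiagRep Groth.Agent.Helper6.AlgStPts Groth.Agent.Helper6.StPts
open Groth.Agent.Helper6.SmLoc Groth.Agent.Helper6.ChartOver Groth.Agent.Helper6.StTop
open Groth.Agent.Helper6.QcMor2 Groth.Agent.Helper6.SpAtlas Groth.Agent.Helper4.SDClasses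
open Groth.Agent.Helper6.Descent1 Groth.Agent.Helper6.Descent2 Groth.Agent.Helper6.LocQ0
open Groth.Agent.Helper6.LocQ1 Groth.Agent.Helper6.LocQ2 Groth.Agent.Helper6.AlgStBC
open Groth.Agent.Helper6.OverRep Groth.Agent.Helper6.LocQ3 Groth.Agent.Helper6.LocQ4
open Groth.Agent.Helper6.FlatST Groth.Agent.Helper6.DiagLft Groth.Agent.Helper6.ToSpace
open Groth.Agent.Helper6.LocQ5 Groth.Agent.Helper6.LocQ6 Groth.Agent.Helper6.LocQ7
open Groth.Agent.Helper6.LocQ8 Groth.Agent.Helper6.LftST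
open AlgSp

variable {S : Scheme.{u}} {𝒳 𝒴 𝒵 : AlgSt.Cat S}

set_option backward.isDefEq.respectTransparency.types false in
/-- S13002 -/
theorem locQ_lft_of_comp (h𝒳 : AlgSt.IsAlgStack Scheme.fppfPrecoverage 𝒳)
    (h𝒴 : AlgSt.IsAlgStack Scheme.fppfPrecoverage 𝒴)
    (h𝒵 : AlgSt.IsAlgStack Scheme.fppfPrecoverage 𝒵)
    (f : 𝒳 ⥤ᵇ 𝒴) (g : 𝒴 ⥤ᵇ 𝒵)
    (hgf : AlgSt.LocQ (LocP @LocallyOfFiniteType) (BasedFunctor.comp f g)) :
    AlgSt.LocQ (LocP @LocallyOfFiniteType) f := by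
  obtain ⟨W, z, hz₁, hz₂⟩ := h𝒵.atlas
  have h𝒴W : AlgSt.IsAlgStack Scheme.fppfPrecoverage (fp g z) :=
    Groth.Agent.Helper6.FpAlg.isAlgStack_fp h𝒵.isStack h𝒵.diag h𝒴 (isAlgStack_overCat W) g z
  have h𝒳W : AlgSt.IsAlgStack Scheme.fppfPrecoverage (fp f (fpFst g z)) :=
    Groth.Agent.Helper6.FpAlg.isAlgStack_fp h𝒴.isStack h𝒴.diag h𝒳 h𝒴W f (fpFst g z)
  obtain ⟨V, v, hv₁, hv₂⟩ := h𝒴W.atlas
  obtain ⟨U, x', hf', α', hx', hℓ₁, hℓ₂, hxs⟩ :=
    exists_lsmooth_square h𝒳W h𝒴W (fpSnd f (fpFst g z)) v hv₁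
  obtain ⟨hg, ⟨ιg⟩⟩ := exists_overMap_iso (BasedFunctor.comp v (fpSnd g z))
  have hcomp : AlgSt.LocQ (LocP @LocallyOfFiniteType)
      (BasedFunctor.comp (fpSnd f (fpFst g z)) (fpSnd g z)) := by
    have h1 : AlgSt.LocQ (LocP @LocallyOfFiniteType) (fpFst z (BasedFunctor.comp f g)) :=
      locQ_fpFst _ isSmoothLocalST_lft (good_bc _ good_lft) h𝒳 h𝒵 (isAlgStack_overCat W)
        (BasedFunctor.comp f g) z hgf
    have h2 : AlgSt.LocQ (LocP @LocallyOfFiniteType) (fpSnd (BasedFunctor.comp f g) z) :=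
      locQ_equiv_comp _ (fpSwap (BasedFunctor.comp f g) z) (isEquivOver_fpSwap _ _) _ h1
    exact locQ_of_equiv_comp _ (pasteLeft f g z) (isEquivOver_pasteLeft f g z) _ h2
  have ιc : BasedFunctor.comp x' (BasedFunctor.comp (fpSnd f (fpFst g z)) (fpSnd g z)) ≅
      AlgSt.overMap (hf' ≫ hg) :=
    whiskerRightIso' α' (fpSnd g z) ≪≫ whiskerLeftIso' (AlgSt.overMap hf') ιg ≪≫ overMapComp hf' hg
  have hlft_c : LocP @LocallyOfFiniteType ((yon S).map (hf' ≫ hg)) :=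
    locQ_to_scheme _ isSmoothLocalST_lft _ hcomp x' hx' (hf' ≫ hg) ιc
  haveI h2 : LocallyOfFiniteType (hf'.left ≫ hg.left) := locP_yon_map hlft_c
  have h1 : LocallyOfFiniteType hf'.left := locallyOfFiniteType_of_comp hf'.left hg.left
  have hp₁ : AlgSt.RepByAlgSpWith (LocP @Smooth) (fpFst g z) := rep_fpFst _ g z hz₁
  have hp₂ : AlgSt.RepByAlgSpWith IsSurjectiveMor (fpFst g z) := rep_fpFst _ g z hz₂
  have hq₁ : AlgSt.RepByAlgSpWith (LocP @Smooth) (fpFst f (fpFst g z)) := rep_fpFst _ f _ hp₁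
  have hq₂ : AlgSt.RepByAlgSpWith IsSurjectiveMor (fpFst f (fpFst g z)) := rep_fpFst _ f _ hp₂
  refine ⟨U, V, BasedFunctor.comp x' (fpFst f (fpFst g z)), BasedFunctor.comp v (fpFst g z), hf', ?_,
    smooth_comp (isFibGrpd_overCat U) h𝒳W.isStack.1 x' _ hx' hq₁,
    surj_comp' (isFibGrpd_overCat U) h𝒳W.isStack.1 x' _ (hxs hv₂) hq₂,
    smooth_comp (isFibGrpd_overCat V) h𝒴W.isStack.1 v _ hv₁ hp₁,
    locP_yon_of _ good_lft hf' h1⟩
  exact whiskerLeftIso' x' (fpIso f (fpFst g z)) ≪≫ whiskerRightIso' α' (fpFst g z)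

end Groth.Agent.Helper6.LocQ9
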