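import Mathlib
import Groth.Agent.Helper6.LocQ9

/-!
# Helper6: `LocQ` descends along flat, locally finitely presented, surjective base change
-/

set_option autoImplicit false
set_option linter.style.haveILetI false
set_option linter.unusedVariables false
universe u

namespace Groth.Agent.Helper6.LocQ10
open CategoryTheory Functor FibCat Limits AlgebraicGeometry Opposite
open Groth.Agent.Helper3 Stk Groth.Agent.Helper6.OfPsh Groth.Agent.Helper6.OfPshHom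
open Groth.Agent.Helper6.FpTools Groth.Agent.Helper6.OfPshFp Groth.Agent.Helper6.AlgStRep
open Groth.Agent.Helper6.AlgStEquiv Groth.Agent.Helper6.AlgStInv Groth.Agent.Helper6.AlgStPsh
open Groth.Agent.Helper6.DiagRed Groth.Agent.Helper6.RepDiag Groth.Agent.Helper6.RepComp
open Groth.Agent.Helper6.DiagRep Groth.Agent.Helper6.AlgStPts Groth.Agent.Helper6.StPts
open Groth.Agent.Helper6.SmLoc Groth.Agent.Helper6.ChartOver Groth.Agent.Helper6.StTop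
open Groth.Agent.Helper6.QcMor2 Groth.Agent.Helper6.SpAtlas Groth.Agent.Helper4.SDClasses
open Groth.Agent.Helper6.Descent1 Groth.Agent.Helper6.Descent2 Groth.Agent.Helper6.LocQ0
open Groth.Agent.Helper6.LocQ1 Groth.Agent.Helper6.LocQ2 Groth.Agent.Helper6.AlgStBC
open Groth.Agent.Helper6.OverRep Groth.Agent.Helper6.LocQ3 Groth.Agent.Helper6.LocQ4
open Groth.Agent.Helper6.FlatST Groth.Agent.Helper6.DiagLft Groth.Agent.Helper6.ToSpace
open Groth.Agent.Helper6.LocQ5 Groth.Agent.Helper6.LocQ6 Groth.Agent.Helper6.LocQ7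
open Groth.Agent.Helper6.LocQ8 Groth.Agent.Helper6.LftST Groth.Agent.Helper6.LocQ9
open Groth.Agent.Helper6.AlgStSpMap
open AlgSp

variable {S : Scheme.{u}} {𝒳 𝒴 𝒵 : AlgSt.Cat S}

set_option backward.isDefEq.respectTransparency.types false in
/-- smooth base change for `LocQ` -/
theorem locQ_fpFst_smooth {𝒴' : AlgSt.Cat S} (P : MorphismProperty (Sp S)) (hP : IsSmoothLocalST P)
    (h𝒳 : AlgSt.IsAlgStack Scheme.fppfPrecoverage 𝒳)
    (h𝒴 : AlgSt.IsAlgStack Scheme.fppfPrecoverage 𝒴)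
    (h𝒴' : AlgSt.IsAlgStack Scheme.fppfPrecoverage 𝒴')
    (f : 𝒳 ⥤ᵇ 𝒴) (g : 𝒴' ⥤ᵇ 𝒴) (hg : AlgSt.RepByAlgSpWith (LocP @Smooth) g)
    (hf : AlgSt.LocQ P f) : AlgSt.LocQ P (fpFst g f) := by
  obtain ⟨U₀, V₀, x₀, y₀, h₀, α₀, hx₀₁, hx₀₂, hy₀, hP₀⟩ := hf
  have hA : AlgSt.IsAlgStack Scheme.fppfPrecoverage (fp g f) :=
    Groth.Agent.Helper6.FpAlg.isAlgStack_fp h𝒴.isStack h𝒴.diag h𝒴' h𝒳 g f
  obtain ⟨V', y', hy'₁, hy'₂⟩ := h𝒴'.atlas
  obtain ⟨U, x, h, α, hx, hℓ₁, hℓ₂, hxs⟩ := exists_lsmooth_square hA h𝒴' (fpFst g f) y' hy'₁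
  let Θ : fp f (BasedFunctor.comp y' g) ⥤ᵇ fp (fpFst g f) y' :=
    BasedFunctor.comp (fpSwap f (BasedFunctor.comp y' g))
      (BasedFunctor.comp (pasteLeft y' g f) (fpSwap y' (fpFst g f)))
  have hΘ : IsEquivOver Θ :=
    isEquivOver_comp (isEquivOver_fpSwap _ _)
      (isEquivOver_comp (isEquivOver_pasteLeft y' g f) (isEquivOver_fpSwap _ _))
  obtain ⟨K, hK, -, ⟨ε⟩⟩ := EquivOver.symm hΘ
  have hℓ : AlgSt.RepByAlgSpWith (LocP @Smooth)
      (BasedFunctor.comp (fpLift x (AlgSt.overMap h) α) K) :=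
    (repByAlgSpWith_comp_equiv _ (fpLift x (AlgSt.overMap h) α) K hK).1 hℓ₁
  have ι : BasedFunctor.comp (BasedFunctor.comp (fpLift x (AlgSt.overMap h) α) K)
      (fpSnd f (BasedFunctor.comp y' g)) ≅ AlgSt.overMap h :=
    whiskerLeftIso' (fpLift x (AlgSt.overMap h) α) (whiskerRightIso' ε (fpSnd (fpFst g f) y'))
  have hy : AlgSt.RepByAlgSpWith (LocP @Smooth) (BasedFunctor.comp y' g) :=
    smooth_comp (isFibGrpd_overCat V') h𝒴'.isStack.1 y' g hy'₁ hg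
  have e1 : BasedFunctor.comp (BasedFunctor.comp (fpLift x (AlgSt.overMap h) α) K)
      (fpFst f (BasedFunctor.comp y' g)) ≅ BasedFunctor.comp x (fpSnd g f) :=
    whiskerLeftIso' (fpLift x (AlgSt.overMap h) α)
      (whiskerRightIso' ε (BasedFunctor.comp (fpFst (fpFst g f) y') (fpSnd g f)))
  have hxK : AlgSt.RepByAlgSpWith (LocP @Smooth)
      (BasedFunctor.comp (BasedFunctor.comp (fpLift x (AlgSt.overMap h) α) K)
        (fpFst f (BasedFunctor.comp y' g))) :=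
    repByAlgSpWith_of_iso _ e1
      (smooth_comp (isFibGrpd_overCat U) hA.isStack.1 x _ hx (rep_fpSnd _ g f hg))
  have hPh := P_of_lsmooth P hP f x₀ y₀ h₀ α₀ hx₀₁ hx₀₂ hy₀ hP₀ (BasedFunctor.comp y' g) hy
    (BasedFunctor.comp (fpLift x (AlgSt.overMap h) α) K) hℓ hxK h ι
  exact ⟨U, V', x, y', h, α, hx, hxs hy'₂, hy'₁, hPh⟩

set_option backward.isDefEq.respectTransparency.types false in
/-- for a morphism to a scheme, `P` can be read on every smooth chart of the source by an algebraic space -/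
theorem locQ_to_scheme_space (P : MorphismProperty (Sp S)) (hP : IsSmoothLocalST P) {W : Over S}
    (h𝒳 : IsFibGrpd 𝒳.p) (φ : 𝒳 ⥤ᵇ overCat W) (hφ : AlgSt.LocQ P φ) (X : AlgSp.Space S)
    (x : AlgSt.ofSp X.obj ⥤ᵇ 𝒳) (hx : AlgSt.RepByAlgSpWith (LocP @Smooth) x)
    (c : X.obj ⟶ (yon S).obj W)
    (ι : BasedFunctor.comp x φ ≅ BasedFunctor.comp (AlgSt.ofSpMap c) (AlgSt.toOverCat W)) :
    P c := by
  obtain ⟨T, p, hpe, hps⟩ := X.property.atlas
  obtain ⟨h, hh⟩ := (yon S).map_surjective (p ≫ c)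
  have l1 : BasedFunctor.comp (BasedFunctor.comp (atlasChart p) x) φ ≅
      BasedFunctor.comp (AlgSt.ofOverCat T)
        (BasedFunctor.comp (AlgSt.ofSpMap (p ≫ c)) (AlgSt.toOverCat W)) :=
    whiskerLeftIso' (atlasChart p) ι
  have l2 : BasedFunctor.comp (AlgSt.ofOverCat T)
      (BasedFunctor.comp (AlgSt.ofSpMap (p ≫ c)) (AlgSt.toOverCat W)) ≅ AlgSt.overMap h :=
    whiskerLeftIso' (AlgSt.ofOverCat T) (overMapIso' h (p ≫ c) hh.symm)
  have h1 : P ((yon S).map h) :=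
    locQ_to_scheme P hP φ hφ (BasedFunctor.comp (atlasChart p) x)
      (comp_atlasChart_smooth h𝒳 X p hpe x hx) h (l1 ≪≫ l2)
  rw [hh] at h1
  refine (hP.locality X.property (IsAlgSpace.yon_obj W) c).2 fun pt => ?_
  obtain ⟨v, hv⟩ := Groth.Agent.Helper4.AlgSpPts.isSurjectiveMor_of_repWith p hps pt
  exact ⟨(yon S).obj T, (yon S).obj W, p, 𝟙 _, p ≫ c, v, IsAlgSpace.yon_obj T, IsAlgSpace.yon_obj W,
    locP_smooth_of_etale p hpe, Groth.Agent.Helper5.SmST.locP_smooth_id _, by simp, hv, h1⟩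

set_option backward.isDefEq.respectTransparency.types false in
/-- S12994 -/
theorem locQ_of_locQ_fpFst_of_fppf (P : MorphismProperty (Sp S)) (hP : IsSmoothLocalST P)
    (hP₂ : IsLocalOnBase IsFppfCover P)
    (h𝒳 : AlgSt.IsAlgStack Scheme.fppfPrecoverage 𝒳)
    (h𝒴 : AlgSt.IsAlgStack Scheme.fppfPrecoverage 𝒴) (f : 𝒳 ⥤ᵇ 𝒴)
    (h𝒵 : AlgSt.IsAlgStack Scheme.fppfPrecoverage 𝒵) (z : 𝒵 ⥤ᵇ 𝒴)
    (hz₁ : AlgSt.LocQ (LocP @Flat) z) (hz₂ : AlgSt.LocQ (LocP @LocallyOfFinitePresentation) z)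
    (hz₃ : AlgSt.IsSurjective z) (hφ : AlgSt.LocQ P (fpFst z f)) : AlgSt.LocQ P f := by
  obtain ⟨V, y, hy₁, hy₂⟩ := h𝒴.atlas
  obtain ⟨U, x, h, α, hx, hℓ₁, hℓ₂, hxs⟩ := exists_lsmooth_square h𝒳 h𝒴 f y hy₁
  refine ⟨U, V, x, y, h, α, hx, hxs hy₂, hy₁, ?_⟩
  obtain ⟨V₀, h₀, m, hfl, hfp, hm₁, hm₂, ⟨ι₀⟩⟩ := exists_fppf_chart_fp h𝒵 h𝒴 z hz₁ hz₂ V y
  have hA₀ : AlgSt.IsAlgStack Scheme.fppfPrecoverage (fp z y) :=
    Groth.Agent.Helper6.FpAlg.isAlgStack_fp h𝒴.isStack h𝒴.diag h𝒵 (isAlgStack_overCat V) z y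
  have hsj : ∀ t : V.left, ∃ i : PUnit.{u + 1}, t ∈ Set.range (h₀.left.base) := fun t =>
    ⟨⟨⟩, mem_range_of_chart h𝒵.isStack.1 h𝒴.isStack.1 z y hA₀.isStack.1 h₀ m hm₂ ι₀ t (hz₃ _)⟩
  have hcov := isFppfCover_yon_family (fun _ : PUnit.{u + 1} => V₀) (fun _ => h₀) (fun _ => hfl)
    (fun _ => hfp) hsj
  have sq := IsPullback.of_hasPullback ((yon S).map h) ((yon S).map h₀)
  have hX' : IsAlgSpace (pullback ((yon S).map h) ((yon S).map h₀)) :=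
    Groth.Agent.Helper4.AlgSpPB.isAlgSpace_of_isPullback (IsAlgSpace.yon_obj V).diag
      (IsAlgSpace.yon_obj U) (IsAlgSpace.yon_obj V₀) _ _ _ _ sq
  refine (hP₂ (fun _ : PUnit.{u + 1} => (yon S).obj V₀) (fun _ => (yon S).map h₀)
    (IsAlgSpace.yon_obj V) (fun _ => IsAlgSpace.yon_obj V₀) hcov ((yon S).map h)
    (IsAlgSpace.yon_obj U) (fun _ => pullback ((yon S).map h) ((yon S).map h₀))
    (fun _ => pullback.snd ((yon S).map h) ((yon S).map h₀))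
    (fun _ => pullback.fst ((yon S).map h) ((yon S).map h₀)) (fun _ => hX') (fun _ => sq)).2
    fun _ => ?_
  -- the smooth chart `t` of `𝒵`
  have ht : AlgSt.RepByAlgSpWith (LocP @Smooth) (BasedFunctor.comp m (fpFst z y)) :=
    smooth_comp (isFibGrpd_overCat V₀) hA₀.isStack.1 m _ hm₁ (rep_fpFst _ z y hy₁)
  have κ : BasedFunctor.comp (BasedFunctor.comp m (fpFst z y)) z ≅
      BasedFunctor.comp (AlgSt.overMap h₀) y :=
    whiskerLeftIso' m (fpIso z y) ≪≫ whiskerRightIso' ι₀ y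
  have hW : AlgSt.IsAlgStack Scheme.fppfPrecoverage (fp z f) :=
    Groth.Agent.Helper6.FpAlg.isAlgStack_fp h𝒴.isStack h𝒴.diag h𝒵 h𝒳 z f
  have h𝒜' : AlgSt.IsAlgStack Scheme.fppfPrecoverage (fp y f) :=
    Groth.Agent.Helper6.FpAlg.isAlgStack_fp h𝒴.isStack h𝒴.diag (isAlgStack_overCat V) h𝒳 y f
  have h𝒩 : AlgSt.IsAlgStack Scheme.fppfPrecoverage (fp (fpFst y f) (AlgSt.overMap h₀)) :=
    Groth.Agent.Helper6.FpAlg.isAlgStack_fp (isAlgStack_overCat V).isStack (isAlgStack_overCat V).diag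
      h𝒜' (isAlgStack_overCat V₀) _ _
  -- the chain for `LocQ`
  have c1 : AlgSt.LocQ P (fpFst (BasedFunctor.comp m (fpFst z y)) (fpFst z f)) :=
    locQ_fpFst_smooth P hP hW h𝒵 (isAlgStack_overCat V₀) (fpFst z f) _ ht hφ
  have c2 : AlgSt.LocQ P (fpFst (BasedFunctor.comp (BasedFunctor.comp m (fpFst z y)) z) f) :=
    locQ_equiv_comp _ (pasteLeft (BasedFunctor.comp m (fpFst z y)) z f)
      (isEquivOver_pasteLeft _ z f) _ c1
  have c3 : AlgSt.LocQ P (fpFst (BasedFunctor.comp (AlgSt.overMap h₀) y) f) :=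
    locQ_equiv_comp _ (Groth.Agent.Helper6.RepDiag.fpCongrLeft f κ.symm)
      (Groth.Agent.Helper6.RepDiag.isEquivOver_fpCongrLeft f κ.symm) _ c2
  have c4 : AlgSt.LocQ P (fpFst (AlgSt.overMap h₀) (fpFst y f)) :=
    locQ_of_equiv_comp _ (pasteLeft (AlgSt.overMap h₀) y f) (isEquivOver_pasteLeft _ y f) _ c3
  have c5 : AlgSt.LocQ P (fpSnd (fpFst y f) (AlgSt.overMap h₀)) :=
    locQ_equiv_comp _ (fpSwap (fpFst y f) (AlgSt.overMap h₀)) (isEquivOver_fpSwap _ _) _ c4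
  -- the chart
  have hℓ' : AlgSt.RepByAlgSpWith (LocP @Smooth)
      (BasedFunctor.comp (fpLift x (AlgSt.overMap h) α) (fpSwap f y)) :=
    (repByAlgSpWith_comp_equiv _ _ (fpSwap f y) (isEquivOver_fpSwap f y)).1 hℓ₁
  let E : fp (AlgSt.overMap h₀) (AlgSt.overMap h) ⥤ᵇ
      fp (fpFst (fpFst y f) (AlgSt.overMap h₀))
        (BasedFunctor.comp (fpLift x (AlgSt.overMap h) α) (fpSwap f y)) :=
    BasedFunctor.comp (fpSwap (AlgSt.overMap h₀) (AlgSt.overMap h))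
      (BasedFunctor.comp
        (pasteLeft (BasedFunctor.comp (fpLift x (AlgSt.overMap h) α) (fpSwap f y)) (fpFst y f)
          (AlgSt.overMap h₀))
        (fpSwap (BasedFunctor.comp (fpLift x (AlgSt.overMap h) α) (fpSwap f y))
          (fpFst (fpFst y f) (AlgSt.overMap h₀))))
  have hE : IsEquivOver E :=
    isEquivOver_comp (isEquivOver_fpSwap _ _)
      (isEquivOver_comp (isEquivOver_pasteLeft _ (fpFst y f) (AlgSt.overMap h₀))
        (isEquivOver_fpSwap _ _))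
  have sq' : IsPullback (pullback.snd ((yon S).map h) ((yon S).map h₀)).hom
      (pullback.fst ((yon S).map h) ((yon S).map h₀)).hom ((yon S).map h₀).hom ((yon S).map h).hom :=
    (sq.map (sheafToPresheaf _ _)).flip
  let B : fp (AlgSt.ofSpMap ((yon S).map h₀)) (AlgSt.ofSpMap ((yon S).map h)) ⥤ᵇ
      fp (AlgSt.overMap h₀) (AlgSt.overMap h) :=
    cospanFunctor (AlgSt.overMap h₀) (AlgSt.overMap h) (AlgSt.ofSpMap ((yon S).map h₀))
      (AlgSt.ofSpMap ((yon S).map h)) (AlgSt.toOverCat V₀) (AlgSt.toOverCat U) (AlgSt.toOverCat V)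
      (overMapIso h₀) (overMapIso h)
  have hB : IsEquivOver B :=
    isEquivOver_cospanFunctor _ _ _ _ _ _ _ _ _ (isEquivOver_toOverCat V₀) (isEquivOver_toOverCat U)
      (isEquivOver_toOverCat V)
  have hΨ : IsEquivOver (BasedFunctor.comp (BasedFunctor.comp (toFp sq'.w) B) E) :=
    isEquivOver_comp (isEquivOver_comp (isEquivOver_toFp sq') hB) hE
  have hsm : AlgSt.RepByAlgSpWith (LocP @Smooth)
      (BasedFunctor.comp (BasedFunctor.comp (BasedFunctor.comp (toFp sq'.w) B) E)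
        (fpFst (fpFst (fpFst y f) (AlgSt.overMap h₀))
          (BasedFunctor.comp (fpLift x (AlgSt.overMap h) α) (fpSwap f y)))) :=
    rep_equiv_comp _ _ hΨ _ (rep_fpFst _ (fpFst (fpFst y f) (AlgSt.overMap h₀)) _ hℓ')
  exact locQ_to_scheme_space P hP h𝒩.isStack.1 (fpSnd (fpFst y f) (AlgSt.overMap h₀)) c5
    ⟨_, hX'⟩ _ hsm (pullback.snd ((yon S).map h) ((yon S).map h₀)) (Iso.refl _)

set_option backward.isDefEq.respectTransparency.types false in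
/-- from a space chart square to a scheme chart square, with only the needed stability hypotheses -/
theorem locQ_of_space_square' (P : MorphismProperty (Sp S))
    (hpre : ∀ ⦃X Y Z : Sp S⦄, IsAlgSpace X → IsAlgSpace Y → IsAlgSpace Z →
      ∀ (f : X ⟶ Y) (g : Y ⟶ Z), LocP @Smooth f → P g → P (f ≫ g))
    (hbc : ∀ ⦃X Y X' Y' : Sp S⦄, IsAlgSpace X → IsAlgSpace Y → IsAlgSpace X' → IsAlgSpace Y' →
      ∀ (f : X ⟶ Y) (g : Y' ⟶ Y) (f' : X' ⟶ Y') (g' : X' ⟶ X),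
        IsPullback g' f' f g → LocP @Smooth g → P f → P f')
    (h𝒳 : IsFibGrpd 𝒳.p) (h𝒴 : IsFibGrpd 𝒴.p) (f : 𝒳 ⥤ᵇ 𝒴)
    (U V : AlgSp.Space S) (x : AlgSt.ofSp U.obj ⥤ᵇ 𝒳) (y : AlgSt.ofSp V.obj ⥤ᵇ 𝒴) (h : U ⟶ V)
    (α : BasedFunctor.comp x f ≅ BasedFunctor.comp (AlgSt.ofSpMap h.hom) y)
    (hx₁ : AlgSt.RepByAlgSpWith (LocP @Smooth) x) (hx₂ : AlgSt.RepByAlgSpWith IsSurjectiveMor x)
    (hy : AlgSt.RepByAlgSpWith (LocP @Smooth) y) (hPh : P h.hom) : AlgSt.LocQ P f := by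
  obtain ⟨V₀, q, hqe, hqs⟩ := V.property.atlas
  have sq := IsPullback.of_hasPullback h.hom q
  have hF' : IsAlgSpace (pullback h.hom q) :=
    Groth.Agent.Helper4.AlgSpPB.isAlgSpace_of_isPullback V.property.diag U.property
      (IsAlgSpace.yon_obj V₀) h.hom q _ _ sq
  have hq_sm : LocP @Smooth q := locP_smooth_of_etale q hqe
  have hq_surj : IsSurjectiveMor q := Groth.Agent.Helper4.AlgSpPts.isSurjectiveMor_of_repWith q hqs
  have hPa' : P (pullback.snd h.hom q) :=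
    hbc U.property V.property hF' (IsAlgSpace.yon_obj V₀) h.hom q _ _ sq hq_sm hPh
  have hfst_sm : LocP @Smooth (pullback.fst h.hom q) :=
    smooth_bc (IsAlgSpace.yon_obj V₀) V.property hF' U.property q h.hom _ _ sq.flip hq_sm
  have hfst_surj : IsSurjectiveMor (pullback.fst h.hom q) :=
    surj_bc (IsAlgSpace.yon_obj V₀) V.property hF' U.property q h.hom _ _ sq.flip hq_surj
  obtain ⟨U₀, p', hpe, hps⟩ := hF'.atlas
  obtain ⟨h₀, hh⟩ := (yon S).map_surjective (p' ≫ pullback.snd h.hom q)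
  have key : (p' ≫ pullback.fst h.hom q) ≫ h.hom = (yon S).map h₀ ≫ q := by
    rw [hh, Category.assoc, Category.assoc, sq.w]
  have hPh₀ : P ((yon S).map h₀) := by
    rw [hh]
    exact hpre (IsAlgSpace.yon_obj U₀) hF' (IsAlgSpace.yon_obj V₀) p' _
      (locP_smooth_of_etale p' hpe) hPa'
  refine ⟨U₀, V₀, BasedFunctor.comp (atlasChart p')
      (BasedFunctor.comp (AlgSt.ofSpMap (pullback.fst h.hom q)) x),
    BasedFunctor.comp (atlasChart q) y, h₀, ?_, ?_, ?_, comp_atlasChart_smooth h𝒴 V q hqe y hy, hPh₀⟩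
  · exact whiskerLeftIso' (BasedFunctor.comp (atlasChart p') (AlgSt.ofSpMap (pullback.fst h.hom q))) α
      ≪≫ whiskerRightIso' (whiskerLeftIso' (AlgSt.ofOverCat U₀)
        (eqToIso (congrArg AlgSt.ofSpMap key))) y
  · exact comp_atlasChart_smooth h𝒳 ⟨_, hF'⟩ p' hpe _
      (smooth_comp (isFibGrpd_ofSp _) (isFibGrpd_ofSp _) _ x
        (rep_ofSpMap _ smooth_bc hF' U.property _ hfst_sm) hx₁)
  · exact comp_atlasChart_surj h𝒳 ⟨_, hF'⟩ p' hpe hps _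
      (surj_comp' (isFibGrpd_ofSp _) (isFibGrpd_ofSp _) _ x
        (rep_ofSpMap _ surj_bc hF' U.property _ hfst_surj) hx₂)

set_option backward.isDefEq.respectTransparency.types false in
/-- a representable morphism with `P` has `LocQ P` -/
theorem locQ_of_rep' (P : MorphismProperty (Sp S))
    (hpre : ∀ ⦃X Y Z : Sp S⦄, IsAlgSpace X → IsAlgSpace Y → IsAlgSpace Z →
      ∀ (f : X ⟶ Y) (g : Y ⟶ Z), LocP @Smooth f → P g → P (f ≫ g))
    (hbc : ∀ ⦃X Y X' Y' : Sp S⦄, IsAlgSpace X → IsAlgSpace Y → IsAlgSpace X' → IsAlgSpace Y' →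
      ∀ (f : X ⟶ Y) (g : Y' ⟶ Y) (f' : X' ⟶ Y') (g' : X' ⟶ X),
        IsPullback g' f' f g → LocP @Smooth g → P f → P f')
    (h𝒳 : AlgSt.IsAlgStack Scheme.fppfPrecoverage 𝒳)
    (h𝒴 : AlgSt.IsAlgStack Scheme.fppfPrecoverage 𝒴)
    (f : 𝒳 ⥤ᵇ 𝒴) (hR : AlgSt.RepByAlgSpWith P f) : AlgSt.LocQ P f := by
  obtain ⟨V, y, hy₁, hy₂⟩ := h𝒴.atlas
  obtain ⟨F, e, he, hPa⟩ := hR V y
  obtain ⟨c, ⟨θ⟩⟩ := exists_ofSpMap_iso (BasedFunctor.comp e (fpFst y f))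
  rw [spMapOfOver_congr θ, spMapOfOver_ofSpMap_toOverCat] at hPa
  refine locQ_of_space_square' P hpre hbc h𝒳.isStack.1 h𝒴.isStack.1 f F
    ⟨(yon S).obj V, IsAlgSpace.yon_obj V⟩ (BasedFunctor.comp e (fpSnd y f))
    (BasedFunctor.comp (AlgSt.toOverCat V) y) (ObjectProperty.homMk c) ?_
    (rep_equiv_comp _ e he _ (rep_fpSnd _ y f hy₁))
    (rep_equiv_comp _ e he _ (rep_fpSnd _ y f hy₂))
    (rep_equiv_comp _ _ (isEquivOver_toOverCat V) y hy₁) hPa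
  exact whiskerLeftIso' e (fpIso y f).symm ≪≫ whiskerRightIso' θ y

theorem locQ_of_rep_good (Q : MorphismProperty Scheme.{u}) (hG : Good Q)
    (hQ : ∀ {A B : Scheme.{u}} (g : A ⟶ B), Smooth g → Q g)
    (h𝒳 : AlgSt.IsAlgStack Scheme.fppfPrecoverage 𝒳)
    (h𝒴 : AlgSt.IsAlgStack Scheme.fppfPrecoverage 𝒴)
    (f : 𝒳 ⥤ᵇ 𝒴) (hR : AlgSt.RepByAlgSpWith (LocP Q) f) : AlgSt.LocQ (LocP Q) f :=
  locQ_of_rep' _
    (fun X Y Z hX hY hZ f g hf hg => locP_comp' _ hG hX hY hZ f g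
      (Groth.Agent.Helper5.SrcEt.locP_mono (fun g hg => hQ g hg) f hf) hg)
    (fun X Y X' Y' hX hY hX' hY' f g f' g' sq _ hf => good_bc _ hG hX hY hX' hY' f g f' g' sq hf)
    h𝒳 h𝒴 f hR

set_option backward.isDefEq.respectTransparency.types false in
/-- S13000 -/
theorem locQ_lft_of_fpFst_fppf_cover (h𝒳 : AlgSt.IsAlgStack Scheme.fppfPrecoverage 𝒳)
    (h𝒴 : AlgSt.IsAlgStack Scheme.fppfPrecoverage 𝒴) (f : 𝒳 ⥤ᵇ 𝒴)
    (W : AlgSp.Space S) (w : AlgSt.ofSp W.obj ⥤ᵇ 𝒴)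
    (hw₁ : AlgSt.RepByAlgSpWith (LocP @Flat) w)
    (hw₂ : AlgSt.RepByAlgSpWith (LocP @LocallyOfFinitePresentation) w)
    (hw₃ : AlgSt.RepByAlgSpWith IsSurjectiveMor w)
    (h : AlgSt.LocQ (LocP @LocallyOfFiniteType) (fpFst w f)) :
    AlgSt.LocQ (LocP @LocallyOfFiniteType) f := by
  have hW : AlgSt.IsAlgStack Scheme.fppfPrecoverage (AlgSt.ofSp W.obj) :=
    (Groth.Agent.S12772.isDM_ofSp W).1
  exact locQ_of_locQ_fpFst_of_fppf _ isSmoothLocalST_lft Groth.Agent.Helper6.LocalFppf.lft h𝒳 h𝒴 f hW w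
    (locQ_of_rep_good _ good_flat (fun g hg => by haveI : Smooth g := hg; infer_instance) hW h𝒴 w hw₁)
    (locQ_of_rep_good _ good_lfp (fun g hg => by haveI : Smooth g := hg; infer_instance) hW h𝒴 w hw₂)
    (isSurjective_of_rep_surj (isFibGrpd_ofSp _) h𝒴.isStack.1 w hw₃) h

end Groth.Agent.Helper6.LocQ10
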