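import Mathlib
import Groth.Agent.Helper6.LocQ10

/-!
# Helper6: open substacks I — open immersions are open on points; finite subcovers
-/

set_option autoImplicit false
set_option linter.style.haveILetI false
set_option linter.unusedVariables false
universe u

namespace Groth.Agent.Helper6.OpenSub1
open CategoryTheory Functor FibCat Limits AlgebraicGeometry Opposite
open Groth.Agent.Helper3 Stk Groth.Agent.Helper6.OfPsh Groth.Agent.Helper6.OfPshHom
open Groth.Agent.Helper6.FpTools Groth.Agent.Helper6.OfPshFp Groth.Agent.Helper6.AlgStRep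
open Groth.Agent.Helper6.AlgStEquiv Groth.Agent.Helper6.AlgStInv Groth.Agent.Helper6.AlgStPsh
open Groth.Agent.Helper6.DiagRed Groth.Agent.Helper6.RepDiag Groth.Agent.Helper6.RepComp
open Groth.Agent.Helper6.DiagRep Groth.Agent.Helper6.AlgStPts Groth.Agent.Helper6.StPts
open Groth.Agent.Helper6.SmLoc Groth.Agent.Helper6.ChartOver Groth.Agent.Helper6.StTop
open Groth.Agent.Helper6.QcMor2 Groth.Agent.Helper6.SpAtlas Groth.Agent.Helper4.SDClasses
open Groth.Agent.Helper6.Descent1 Groth.Agent.Helper6.Descent2 Groth.Agent.Helper6.LocQ0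
open Groth.Agent.Helper6.LocQ1 Groth.Agent.Helper6.LocQ2 Groth.Agent.Helper6.AlgStBC
open Groth.Agent.Helper6.OverRep Groth.Agent.Helper6.LocQ3 Groth.Agent.Helper6.LocQ4
open Groth.Agent.Helper6.FlatST Groth.Agent.Helper6.DiagLft Groth.Agent.Helper6.ToSpace
open Groth.Agent.Helper6.LocQ5
open AlgSp


variable {S : Scheme.{u}} {𝒳 𝒴 𝒵 : AlgSt.Cat S}

/-- open immersions of algebraic stacks are open on points -/
theorem isOpenMap_of_isOpenImm (h𝒳 : AlgSt.IsAlgStack Scheme.fppfPrecoverage 𝒳)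
    (h𝒴 : AlgSt.IsAlgStack Scheme.fppfPrecoverage 𝒴) (f : 𝒳 ⥤ᵇ 𝒴) (hf : AlgSt.IsOpenImm f) :
    IsOpenMap (AlgSt.Points.map f) :=
  isOpenMor_of_locQ_flat_lfp h𝒳 h𝒴 f
    (locQ_of_repWith @IsOpenImmersion _
      (fun h hh => locP_yon_of _ good_flat h (by haveI := hh; infer_instance)) h𝒴 f hf)
    (locQ_lfp_of_isOpenImm h𝒴 f hf)

/-- the set of points of an open substack is open -/
theorem isOpen_range_of_isOpenSubstack (h𝒳 : AlgSt.IsAlgStack Scheme.fppfPrecoverage 𝒳)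
    (Q : 𝒳.obj → Prop) (hQ : AlgSt.IsOpenSubstack 𝒳 Q Scheme.fppfPrecoverage) :
    IsOpen (Set.range (AlgSt.Points.map (AlgSt.subIncl 𝒳 Q))) :=
  (isOpenMap_of_isOpenImm hQ.2.1 h𝒳 _ hQ.2.2).isOpen_range

/-- S12862 -/
theorem exists_finset_subcover {ι : Type*} (h𝒳 : AlgSt.IsAlgStack Scheme.fppfPrecoverage 𝒳)
    (Q' : 𝒳.obj → Prop) (hQ' : AlgSt.IsOpenSubstack 𝒳 Q' Scheme.fppfPrecoverage)
    (hqc : AlgSt.IsQuasiCompact (AlgSt.fullSub 𝒳 Q'))
    (Q : ι → 𝒳.obj → Prop) (hQ : ∀ i, AlgSt.IsOpenSubstack 𝒳 (Q i) Scheme.fppfPrecoverage)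
    (hcov : Set.range (AlgSt.Points.map (AlgSt.subIncl 𝒳 Q')) ⊆
      ⋃ i, Set.range (AlgSt.Points.map (AlgSt.subIncl 𝒳 (Q i)))) :
    ∃ I' : Finset ι, Set.range (AlgSt.Points.map (AlgSt.subIncl 𝒳 Q')) ⊆
      ⋃ i ∈ I', Set.range (AlgSt.Points.map (AlgSt.subIncl 𝒳 (Q i))) := by
  haveI : CompactSpace (AlgSt.Points (AlgSt.fullSub 𝒳 Q')) :=
    (isQuasiCompact_iff_compactSpace hQ'.2.1).1 hqc
  have hc : IsCompact (Set.range (AlgSt.Points.map (AlgSt.subIncl 𝒳 Q'))) :=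
    isCompact_range (continuous_points_map hQ'.2.1.isStack.1 h𝒳 _)
  exact hc.elim_finite_subcover _ (fun i => isOpen_range_of_isOpenSubstack h𝒳 (Q i) (hQ i)) hcov

end Groth.Agent.Helper6.OpenSub1
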