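import Mathlib
import Groth.Prelude.Def_FibCat2
import Groth.Prelude.Def_AlgSt
import Groth.Agent.Helper3.EquivOver

/-!
# Helper6: lifting a based functor through a fully faithful based functor
-/

set_option autoImplicit false
set_option linter.style.haveILetI false
universe v₄ u₄ v₃ u₃ v₂ u₂ v u

namespace Groth.Agent.Helper6.StkLift
open CategoryTheory Functor FibCat Limits

variable {C : Type u} [Category.{v} C]
variable {𝒜 : BasedCategory.{v₄, u₄} C} {𝒳 : BasedCategory.{v₂, u₂} C} {𝒴 : BasedCategory.{v₃, u₃} C}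
variable (F : 𝒳 ⥤ᵇ 𝒴) [F.toFunctor.Full] [F.toFunctor.Faithful] (G : 𝒜 ⥤ᵇ 𝒴)
  (H : ∀ a : 𝒜.obj, ∃ (x : 𝒳.obj) (e : F.obj x ≅ G.obj a), 𝒴.p.IsHomLift (𝟙 (𝒜.p.obj a)) e.hom)

/-- the lifted functor -/
noncomputable def liftFunctor : 𝒜.obj ⥤ 𝒳.obj where
  obj a := (H a).choose
  map {a a'} g := F.toFunctor.preimage ((H a).choose_spec.choose.hom ≫ G.map g ≫
    (H a').choose_spec.choose.inv)
  map_id a := F.toFunctor.map_injective (by simp)
  map_comp g g' := F.toFunctor.map_injective (by simp)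

/-- chosen iso -/
noncomputable def liftIso (a : 𝒜.obj) : F.obj ((liftFunctor F G H).obj a) ≅ G.obj a :=
  (H a).choose_spec.choose

instance liftIso_lift (a : 𝒜.obj) : 𝒴.p.IsHomLift (𝟙 (𝒜.p.obj a)) (liftIso F G H a).hom :=
  (H a).choose_spec.choose_spec

instance liftIso_inv_lift (a : 𝒜.obj) : 𝒴.p.IsHomLift (𝟙 (𝒜.p.obj a)) (liftIso F G H a).inv :=
  IsHomLift.lift_id_inv 𝒴.p (𝒜.p.obj a) (liftIso F G H a)

theorem map_liftFunctor_map {a a' : 𝒜.obj} (g : a ⟶ a') :
    F.map ((liftFunctor F G H).map g) = (liftIso F G H a).hom ≫ G.map g ≫ (liftIso F G H a').inv :=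
  F.toFunctor.map_preimage _

theorem liftFunctor_map_lift {a a' : 𝒜.obj} (g : a ⟶ a') :
    𝒳.p.IsHomLift (𝒜.p.map g) ((liftFunctor F G H).map g) := by
  haveI : 𝒴.p.IsHomLift (𝒜.p.map g) (F.map ((liftFunctor F G H).map g)) := by
    rw [map_liftFunctor_map]
    haveI : 𝒴.p.IsHomLift (𝒜.p.map g) (G.map g) := inferInstance
    haveI : 𝒴.p.IsHomLift (𝒜.p.map g) (G.map g ≫ (liftIso F G H a').inv) := inferInstance
    infer_instance
  exact F.isHomLift_map _ _

/-- the lifted based functor -/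
noncomputable def liftBased : 𝒜 ⥤ᵇ 𝒳 where
  toFunctor := liftFunctor F G H
  w := by
    refine CategoryTheory.Functor.ext (fun a => ?_) (fun a a' g => ?_)
    · exact (F.w_obj _).symm.trans (IsHomLift.domain_eq 𝒴.p (𝟙 (𝒜.p.obj a)) (liftIso F G H a).hom)
    · haveI := liftFunctor_map_lift F G H g
      exact IsHomLift.fac' 𝒳.p (𝒜.p.map g) ((liftFunctor F G H).map g)

/-- the comparison isomorphism -/
noncomputable def liftBasedIso : BasedFunctor.comp (liftBased F G H) F ≅ G :=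
  BasedNatIso.mkNatIso
    (NatIso.ofComponents (fun a => liftIso F G H a) (fun {a a'} g => by
      change F.map ((liftFunctor F G H).map g) ≫ (liftIso F G H a').hom = (liftIso F G H a).hom ≫ G.map g
      rw [map_liftFunctor_map]
      simp))
    (fun a => liftIso_lift F G H a)

end Groth.Agent.Helper6.StkLift
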