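import Mathlib
import Groth.Prelude.Def_FibCat2
import Groth.Prelude.Def_AlgSt
import Groth.Agent.Helper6.StkTools
import Groth.Agent.Helper6.StkLift

/-!
# Helper6: post-composition with a fully faithful based functor, and restriction to sieves
-/

set_option autoImplicit false
set_option linter.style.haveILetI false
universe v u

namespace Groth.Agent.Helper6.StkPost
open CategoryTheory Functor FibCat Limits

variable {C : Type u} [Category.{v} C]
variable {𝒜 𝒳' 𝒳 : BasedCategory.{v, max u v} C} (I : 𝒳' ⥤ᵇ 𝒳)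

theorem postcomp_map_app {X Y : 𝒜 ⥤ᵇ 𝒳'} (α : X ⟶ Y) (a : 𝒜.obj) :
    ((Bicategory.postcomp 𝒜 (show 𝒳' ⟶ 𝒳 from I)).map (show (show 𝒜 ⟶ 𝒳' from X) ⟶ Y from α)).toNatTrans.app a =
      I.map (α.toNatTrans.app a) := rfl

instance postcomp_faithful [I.toFunctor.Faithful] :
    (Bicategory.postcomp 𝒜 (show 𝒳' ⟶ 𝒳 from I)).Faithful := by
  refine ⟨fun {X Y} α β h => ?_⟩
  apply BasedNatTrans.homCategory.ext
  apply NatTrans.ext
  funext a
  apply I.toFunctor.map_injective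
  have := congrArg (fun (γ : BasedNatTrans _ _) => γ.toNatTrans.app a) h
  exact this

instance postcomp_full [I.toFunctor.Full] [I.toFunctor.Faithful] :
    (Bicategory.postcomp 𝒜 (show 𝒳' ⟶ 𝒳 from I)).Full := by
  refine ⟨fun {X Y} α => ?_⟩
  let X' : 𝒜 ⥤ᵇ 𝒳' := X
  let Y' : 𝒜 ⥤ᵇ 𝒳' := Y
  let α' : BasedFunctor.comp X' I ⟶ BasedFunctor.comp Y' I := α
  let ap : ∀ a : 𝒜.obj, I.obj (X'.obj a) ⟶ I.obj (Y'.obj a) := fun a => α'.toNatTrans.app a
  let pre : ∀ a : 𝒜.obj, X'.obj a ⟶ Y'.obj a := fun a => I.toFunctor.preimage (ap a)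
  have hpre : ∀ a, I.map (pre a) = ap a := fun a => I.toFunctor.map_preimage (ap a)
  let β : X' ⟶ Y' :=
    { toNatTrans :=
        { app := pre
          naturality := fun a b g => by
            apply I.toFunctor.map_injective
            change I.map (X'.map g ≫ pre b) = I.map (pre a ≫ Y'.map g)
            rw [I.map_comp, I.map_comp, hpre, hpre]
            exact α'.toNatTrans.naturality g }
      isHomLift' := fun a => by
        haveI : 𝒳.p.IsHomLift (𝟙 (𝒜.p.obj a)) (I.map (pre a)) := by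
          rw [hpre]
          exact α'.isHomLift' a
        exact I.isHomLift_map _ _ }
  refine ⟨β, ?_⟩
  apply BasedNatTrans.homCategory.ext
  apply NatTrans.ext
  funext a
  exact hpre a

/-- Restriction to a sieve is fully faithful for the source of a fully faithful based functor when it
is for the target. -/
theorem resSieve_full_faithful [I.toFunctor.Full] [I.toFunctor.Faithful] {U : C} (R : Sieve U)
    [(Stk.resSieve R 𝒳).Full] [(Stk.resSieve R 𝒳).Faithful] :
    (Stk.resSieve R 𝒳').Full ∧ (Stk.resSieve R 𝒳').Faithful := by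
  haveI : (Bicategory.postcomp (FibCat.overCat U) (show 𝒳' ⟶ 𝒳 from I) ⋙ Stk.resSieve R 𝒳).Full :=
    inferInstance
  haveI : (Bicategory.postcomp (FibCat.overCat U) (show 𝒳' ⟶ 𝒳 from I) ⋙ Stk.resSieve R 𝒳).Faithful :=
    inferInstance
  haveI : (Stk.resSieve R 𝒳' ⋙ Bicategory.postcomp (Stk.sieveCat R) (show 𝒳' ⟶ 𝒳 from I)).Full :=
    Functor.Full.of_iso (Groth.Agent.Helper6.StkTools.resSieveCompIso R I).symm
  haveI : (Stk.resSieve R 𝒳' ⋙ Bicategory.postcomp (Stk.sieveCat R) (show 𝒳' ⟶ 𝒳 from I)).Faithful :=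
    Functor.Faithful.of_iso (Groth.Agent.Helper6.StkTools.resSieveCompIso R I).symm
  haveI hpf : (Bicategory.postcomp (Stk.sieveCat R) (show 𝒳' ⟶ 𝒳 from I)).Faithful :=
    postcomp_faithful (𝒜 := Stk.sieveCat R) I
  exact ⟨Functor.Full.of_comp_faithful (Stk.resSieve R 𝒳')
      (Bicategory.postcomp (Stk.sieveCat R) (show 𝒳' ⟶ 𝒳 from I)),
    Functor.Faithful.of_comp (Stk.resSieve R 𝒳')
      (Bicategory.postcomp (Stk.sieveCat R) (show 𝒳' ⟶ 𝒳 from I))⟩

/-- A fully faithful based functor reflects strongly cartesian morphisms. -/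
theorem isStronglyCartesian_of_map {𝒳' 𝒳 : BasedCategory.{v, max u v} C} (I : 𝒳' ⥤ᵇ 𝒳)
    [I.toFunctor.Full] [I.toFunctor.Faithful] {R S : C} (f : R ⟶ S)
    {a b : 𝒳'.obj} (φ : a ⟶ b) [h : 𝒳.p.IsStronglyCartesian f (I.map φ)] :
    𝒳'.p.IsStronglyCartesian f φ := by
  haveI : 𝒳.p.IsHomLift f (I.map φ) := h.toIsHomLift
  refine { toIsHomLift := I.isHomLift_map f φ, universal_property' := ?_ }
  intro a' g φ' hφ'
  haveI := hφ'
  haveI : 𝒳.p.IsHomLift (g ≫ f) (I.map φ') := inferInstance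
  have e0 : g ≫ f = g ≫ f := rfl
  let χ₀ : I.obj a' ⟶ I.obj a := IsStronglyCartesian.map 𝒳.p f (I.map φ) e0 (I.map φ')
  have hχ₀ : χ₀ ≫ I.map φ = I.map φ' := IsStronglyCartesian.fac 𝒳.p f (I.map φ) e0 (I.map φ')
  haveI lχ₀ : 𝒳.p.IsHomLift g χ₀ := IsStronglyCartesian.map_isHomLift 𝒳.p f (I.map φ) e0 (I.map φ')
  have hpre : I.map (I.toFunctor.preimage χ₀) = χ₀ := I.toFunctor.map_preimage χ₀
  refine ⟨I.toFunctor.preimage χ₀, ⟨?_, ?_⟩, ?_⟩
  · haveI : 𝒳.p.IsHomLift g (I.map (I.toFunctor.preimage χ₀)) := by rw [hpre]; exact lχ₀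
    exact I.isHomLift_map _ _
  · apply I.toFunctor.map_injective
    change I.map (I.toFunctor.preimage χ₀ ≫ φ) = I.map φ'
    rw [I.map_comp, hpre, hχ₀]
  · rintro χ' ⟨hχ'l, hχ'⟩
    haveI := hχ'l
    apply I.toFunctor.map_injective
    change I.map χ' = I.map (I.toFunctor.preimage χ₀)
    rw [hpre]
    haveI : 𝒳.p.IsHomLift g (I.map χ') := inferInstance
    exact IsStronglyCartesian.map_uniq 𝒳.p f (I.map φ) e0 (I.map φ') (I.map χ')
      (by rw [← I.map_comp, hχ'])

end Groth.Agent.Helper6.StkPost
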