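import Mathlib
import Groth.Agent.Helper6.FpCompare
import Groth.Agent.Helper6.StkPost
import Groth.Agent.Helper6.AlgStRep
import Groth.Prelude.Def_AlgSt3

/-!
# Helper6: open substacks II — full subcategories: comparison of 2-fibre products, lifting functors
-/

set_option autoImplicit false
set_option linter.style.haveILetI false
set_option linter.unusedVariables false
universe v₇ u₇ v₆ u₆ v₅ u₅ v₄ u₄ v₃ u₃ v₂ u₂ v u

namespace Groth.Agent.Helper6.OpenSub2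
open CategoryTheory Functor FibCat Limits
open Groth.Agent.Helper3 Groth.Agent.Helper6.FpTools

section General

variable {C : Type u} [Category.{v} C]
variable {𝒳 : BasedCategory.{v₂, u₂} C} {𝒴 : BasedCategory.{v₃, u₃} C} {𝒵 : BasedCategory.{v₄, u₄} C}
  {𝒯 : BasedCategory.{v₅, u₅} C}
  (f : 𝒳 ⥤ᵇ 𝒵) (g : 𝒴 ⥤ᵇ 𝒵) (t : 𝒵 ⥤ᵇ 𝒯)

/-- the canonical 2-isomorphism for the comparison functor -/
def cmpE : BasedFunctor.comp (fpFst f g) (BasedFunctor.comp f t) ≅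
    BasedFunctor.comp (fpSnd f g) (BasedFunctor.comp g t) :=
  whiskerRightIso' (fpIso f g) t

theorem cmpE_app (x : (fp f g).obj) : (cmpE f g t).hom.toNatTrans.app x = t.map x.obj.iso.hom := rfl

/-- the comparison functor `𝒳 ×_𝒵 𝒴 ⟶ 𝒳 ×_𝒯 𝒴` -/
abbrev cmp' : fp f g ⥤ᵇ fp (BasedFunctor.comp f t) (BasedFunctor.comp g t) :=
  cmp f g t (cmpE f g t)

theorem cmp'_comp_fpFst : BasedFunctor.comp (cmp' f g t) (fpFst _ _) = fpFst f g := rfl

theorem cmp'_comp_fpSnd : BasedFunctor.comp (cmp' f g t) (fpSnd _ _) = fpSnd f g := rfl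

theorem cmp'_faithful : (cmp' f g t).toFunctor.Faithful := by
  refine ⟨fun {w w'} k k' h => ?_⟩
  apply fp_hom_ext
  · exact congrArg (fun m => m.hom.fst) h
  · exact congrArg (fun m => m.hom.snd) h

theorem cmp'_full [t.toFunctor.Faithful] : (cmp' f g t).toFunctor.Full := by
  refine ⟨fun {w w'} Θ => ?_⟩
  let a : w.obj.fst ⟶ w'.obj.fst := Θ.hom.fst
  let b : w.obj.snd ⟶ w'.obj.snd := Θ.hom.snd
  have hw : t.map (f.map a) ≫ t.map w'.obj.iso.hom = t.map w.obj.iso.hom ≫ t.map (g.map b) :=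
    Θ.hom.w
  have key : f.map a ≫ w'.obj.iso.hom = w.obj.iso.hom ≫ g.map b := by
    apply t.toFunctor.map_injective
    rw [t.map_comp, t.map_comp]
    exact hw
  refine ⟨ObjectProperty.homMk ⟨a, b, key⟩, ?_⟩
  apply fp_hom_ext
  · rfl
  · rfl

theorem cmp'_essSurj [t.toFunctor.Full] [t.toFunctor.Faithful]
    (z : (fp (BasedFunctor.comp f t) (BasedFunctor.comp g t)).obj) :
    ∃ (w : (fp f g).obj) (e : (cmp' f g t).obj w ≅ z),
      (fp (BasedFunctor.comp f t) (BasedFunctor.comp g t)).p.IsHomLift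
        (𝟙 ((fp (BasedFunctor.comp f t) (BasedFunctor.comp g t)).p.obj z)) e.hom := by
  let ι : t.obj (f.obj z.obj.fst) ≅ t.obj (g.obj z.obj.snd) := z.obj.iso
  let ι' : f.obj z.obj.fst ≅ g.obj z.obj.snd := t.toFunctor.preimageIso ι
  have hι' : t.map ι'.hom = ι.hom := t.toFunctor.map_preimage ι.hom
  have hz : 𝒯.p.IsHomLift (𝟙 (𝒳.p.obj z.obj.fst)) ι.hom := z.property
  have hl : 𝒵.p.IsHomLift (𝟙 (𝒳.p.obj z.obj.fst)) ι'.hom := by
    haveI : 𝒯.p.IsHomLift (𝟙 (𝒳.p.obj z.obj.fst)) (t.map ι'.hom) := by rw [hι']; exact hz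
    exact t.isHomLift_map _ _
  let w : (fp f g).obj := ⟨⟨z.obj.fst, z.obj.snd, ι'⟩, hl⟩
  refine ⟨w, fpMkIso (Iso.refl _) (Iso.refl _) ?_, ?_⟩
  · change t.map (f.map (𝟙 _)) ≫ ι.hom = t.map ι'.hom ≫ t.map (g.map (𝟙 _))
    rw [hι']
    simp
  · apply fpMkIso_lift
    exact IsHomLift.id rfl

/-- for fully faithful `t`, `𝒳 ×_𝒵 𝒴 ⟶ 𝒳 ×_𝒯 𝒴` is an equivalence -/
theorem isEquivOver_cmp' [t.toFunctor.Full] [t.toFunctor.Faithful] : IsEquivOver (cmp' f g t) := by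
  rw [isEquivOver_iff]
  exact ⟨cmp'_full f g t, cmp'_faithful f g t, cmp'_essSurj f g t⟩

end General

section Sub

open AlgebraicGeometry

variable {S : Scheme.{u}} {𝒳 𝒜 ℬ : AlgSt.Cat S} (Q : 𝒳.obj → Prop)

instance subIncl_full : (AlgSt.subIncl 𝒳 Q).toFunctor.Full :=
  inferInstanceAs (ObjectProperty.ι Q).Full

instance subIncl_faithful : (AlgSt.subIncl 𝒳 Q).toFunctor.Faithful :=
  inferInstanceAs (ObjectProperty.ι Q).Faithful

/-- a functor all of whose values satisfy `Q` factors through the full subcategory -/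
def liftSub (G : 𝒜 ⥤ᵇ 𝒳) (hG : ∀ a, Q (G.obj a)) : 𝒜 ⥤ᵇ AlgSt.fullSub 𝒳 Q where
  toFunctor := ObjectProperty.lift Q G.toFunctor hG
  w := G.w

theorem liftSub_comp (G : 𝒜 ⥤ᵇ 𝒳) (hG : ∀ a, Q (G.obj a)) :
    BasedFunctor.comp (liftSub Q G hG) (AlgSt.subIncl 𝒳 Q) = G := rfl

/-- `RepByAlgSpWith P` can be tested after composing with a fully faithful functor -/
theorem rep_of_comp_fullyFaithful (P : MorphismProperty (AlgSp.Sp S)) {𝒴 𝒴' 𝒲 : AlgSt.Cat S}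
    (I : 𝒴' ⥤ᵇ 𝒴) [I.toFunctor.Full] [I.toFunctor.Faithful] (g : 𝒲 ⥤ᵇ 𝒴')
    (h : AlgSt.RepByAlgSpWith P (BasedFunctor.comp g I)) : AlgSt.RepByAlgSpWith P g := by
  intro U y
  obtain ⟨F, e, he, hP⟩ := h U (BasedFunctor.comp y I)
  obtain ⟨K, hK, -, ⟨ε⟩⟩ := EquivOver.symm (isEquivOver_cmp' y g I)
  refine ⟨F, BasedFunctor.comp e K, isEquivOver_comp he hK, ?_⟩
  have j : BasedFunctor.comp (BasedFunctor.comp e K) (fpFst y g) ≅
      BasedFunctor.comp e (fpFst (BasedFunctor.comp y I) (BasedFunctor.comp g I)) :=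
    whiskerLeftIso' e (whiskerRightIso' ε (fpFst (BasedFunctor.comp y I) (BasedFunctor.comp g I)))
  rw [Groth.Agent.Helper6.AlgStRep.spMapOfOver_congr j]
  exact hP

end Sub

end Groth.Agent.Helper6.OpenSub2
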