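import Mathlib
import Groth.Prelude.Def_FibCat2
import Groth.Agent.Helper3.EquivOver
import Groth.Agent.Helper3.Fp
import Groth.Agent.Helper6.FpTools
import Groth.Agent.Helper6.FpPaste

/-!
# Helper6: miscellaneous equivalences of 2-fibre products
-/

set_option autoImplicit false
set_option linter.style.haveILetI false
universe v₇ u₇ v₆ u₆ v₅ u₅ v₄ u₄ v₃ u₃ v₂ u₂ v u

namespace Groth.Agent.Helper6.FpTools
open CategoryTheory Functor FibCat Limits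
open Groth.Agent.Helper3

variable {C : Type u} [Category.{v} C]

section SndId

variable {𝒳 : BasedCategory.{v₂, u₂} C} {𝒯 : BasedCategory.{v₃, u₃} C} (f : 𝒳 ⥤ᵇ 𝒯)

theorem fpSnd_id_faithful : (fpSnd (BasedFunctor.id 𝒯) f).toFunctor.Faithful := by
  refine ⟨fun {w w'} k k' h => ?_⟩
  have h2 : k.hom.snd = k'.hom.snd := h
  refine fp_hom_ext ?_ h2
  let φ : w.obj.fst ≅ f.obj w.obj.snd := w.obj.iso
  let φ' : w'.obj.fst ≅ f.obj w'.obj.snd := w'.obj.iso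
  have w1 : k.hom.fst ≫ φ'.hom = φ.hom ≫ f.map k.hom.snd := k.hom.w
  have w2 : k'.hom.fst ≫ φ'.hom = φ.hom ≫ f.map k'.hom.snd := k'.hom.w
  rw [← cancel_mono φ'.hom, w1, w2, h2]

theorem fpSnd_id_full : (fpSnd (BasedFunctor.id 𝒯) f).toFunctor.Full := by
  refine ⟨fun {w w'} b => ?_⟩
  let b' : w.obj.snd ⟶ w'.obj.snd := b
  let φ : w.obj.fst ≅ f.obj w.obj.snd := w.obj.iso
  let φ' : w'.obj.fst ≅ f.obj w'.obj.snd := w'.obj.iso
  refine ⟨ObjectProperty.homMk ⟨φ.hom ≫ f.map b' ≫ φ'.inv, b', ?_⟩, rfl⟩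
  change (φ.hom ≫ f.map b' ≫ φ'.inv) ≫ φ'.hom = φ.hom ≫ f.map b'
  simp only [Category.assoc, Iso.inv_hom_id, Category.comp_id]

theorem fpSnd_id_essSurj (x : 𝒳.obj) :
    ∃ (w : (fp (BasedFunctor.id 𝒯) f).obj) (e : (fpSnd (BasedFunctor.id 𝒯) f).obj w ≅ x),
      𝒳.p.IsHomLift (𝟙 (𝒳.p.obj x)) e.hom := by
  have h : 𝒯.p.IsHomLift (𝟙 (𝒯.p.obj (f.obj x))) (Iso.refl (f.obj x)).hom := IsHomLift.id rfl
  exact ⟨⟨⟨f.obj x, x, Iso.refl _⟩, h⟩, Iso.refl _, IsHomLift.id rfl⟩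

/-- `𝒯 ×_𝒯 𝒳 ⟶ 𝒳` is an equivalence over `C`. -/
theorem isEquivOver_fpSnd_id : IsEquivOver (fpSnd (BasedFunctor.id 𝒯) f) := by
  rw [isEquivOver_iff]
  exact ⟨fpSnd_id_full f, fpSnd_id_faithful f, fpSnd_id_essSurj f⟩

end SndId

end Groth.Agent.Helper6.FpTools
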