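import Mathlib
import Groth.Agent.Helper6.LocQ10
import Groth.Agent.Helper6.FpDiagBC
import Groth.Agent.Helper6.FpMisc

/-!
# Helper6: universally injective morphisms of algebraic stacks
-/

set_option autoImplicit false
set_option linter.style.haveILetI false
set_option linter.unusedVariables false
universe u

namespace Groth.Agent.Helper6.UnivInj
open CategoryTheory Functor FibCat Limits AlgebraicGeometry Opposite
open Groth.Agent.Helper3 Stk Groth.Agent.Helper6.OfPsh Groth.Agent.Helper6.OfPshHom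
open Groth.Agent.Helper6.FpTools Groth.Agent.Helper6.OfPshFp Groth.Agent.Helper6.AlgStRep
open Groth.Agent.Helper6.AlgStEquiv Groth.Agent.Helper6.AlgStInv Groth.Agent.Helper6.AlgStPsh
open Groth.Agent.Helper6.DiagRed Groth.Agent.Helper6.RepDiag Groth.Agent.Helper6.RepComp
open Groth.Agent.Helper6.DiagRep Groth.Agent.Helper6.AlgStPts Groth.Agent.Helper6.StPts
open Groth.Agent.Helper6.SmLoc Groth.Agent.Helper6.ChartOver Groth.Agent.Helper6.StTop
open Groth.Agent.Helper6.QcMor2 Groth.Agent.Helper6.SpAtlas Groth.Agent.Helper4.SDClasses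
open Groth.Agent.Helper6.Descent1 Groth.Agent.Helper6.Descent2 Groth.Agent.Helper6.LocQ0
open Groth.Agent.Helper6.LocQ1 Groth.Agent.Helper6.LocQ2 Groth.Agent.Helper6.AlgStBC
open Groth.Agent.Helper6.OverRep Groth.Agent.Helper6.LocQ3 Groth.Agent.Helper6.LocQ4
open Groth.Agent.Helper6.FlatST Groth.Agent.Helper6.DiagLft Groth.Agent.Helper6.ToSpace
open AlgSp

variable {S : Scheme.{u}} {𝒳 𝒴 𝒵 : AlgSt.Cat S}

/-- every field-valued point comes from a chart of its spectrum -/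
theorem exists_chart_fpt (h𝒴 : IsFibGrpd 𝒴.p) (q : AlgSt.FPt 𝒴) :
    ∃ y : overCat (Over.mk q.str) ⥤ᵇ 𝒴,
      AlgSt.Points.map y (AlgSt.Points.mk
        (⟨q.K, q.str, Over.mk (𝟙 (Over.mk q.str)), rfl⟩ : AlgSt.FPt (overCat (Over.mk q.str)))) =
        AlgSt.Points.mk q := by
  haveI := TwoYoneda.evalAtId_isEquivalence_of_isFibGrpd (𝒳 := 𝒴) (Over.mk q.str) h𝒴
  obtain ⟨y, ⟨j⟩⟩ := Functor.EssSurj.mem_essImage (F := FibCat.evalAtId 𝒴 (Over.mk q.str))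
    ⟨q.obj, q.lies⟩
  refine ⟨y, ?_⟩
  rw [AlgSt.Points.map_mk]
  exact AlgSt.Points.sound ⟨_, 𝟙 _, j.hom.1, trivial⟩

/-- injectivity on points from surjectivity of the diagonal -/
theorem injective_of_isSurjective_diag (h𝒳 : IsFibGrpd 𝒳.p) (h𝒴 : IsFibGrpd 𝒴.p) (φ : 𝒳 ⥤ᵇ 𝒴)
    (h : AlgSt.IsSurjective (diag φ)) : Function.Injective (AlgSt.Points.map φ) := by
  intro p q hpq
  obtain ⟨w, hw1, hw2⟩ := exists_points_fp h𝒳 h𝒴 h𝒳 φ φ p q hpq
  obtain ⟨s, rfl⟩ := h w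
  have e1 : AlgSt.Points.map (fpFst φ φ) (AlgSt.Points.map (diag φ) s) = s :=
    (points_map_comp (diag φ) (fpFst φ φ) s).symm.trans (points_map_id s)
  have e2 : AlgSt.Points.map (fpSnd φ φ) (AlgSt.Points.map (diag φ) s) = s :=
    (points_map_comp (diag φ) (fpSnd φ φ) s).symm.trans (points_map_id s)
  rw [← hw1, ← hw2, e1, e2]

/-- S12831 -/
theorem isUnivInjective_iff_isSurjective_diag (h𝒳 : AlgSt.IsAlgStack Scheme.fppfPrecoverage 𝒳)
    (h𝒴 : AlgSt.IsAlgStack Scheme.fppfPrecoverage 𝒴) (f : 𝒳 ⥤ᵇ 𝒴) :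
    AlgSt.IsUnivInjective Scheme.fppfPrecoverage f ↔ AlgSt.IsSurjective (diag f) := by
  constructor
  · intro h p
    have hinj := h 𝒳 h𝒳 f
    refine ⟨AlgSt.Points.map (fpFst f f) p, hinj ?_⟩
    exact (points_map_comp (diag f) (fpFst f f) _).symm.trans (points_map_id _)
  · intro h 𝒵 h𝒵 g
    have hA : AlgSt.IsAlgStack Scheme.fppfPrecoverage (fp g f) :=
      Groth.Agent.Helper6.FpAlg.isAlgStack_fp h𝒴.isStack h𝒴.diag h𝒵 h𝒳 g f
    have hB : AlgSt.IsAlgStack Scheme.fppfPrecoverage (fp f f) :=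
      Groth.Agent.Helper6.FpAlg.isAlgStack_fp h𝒴.isStack h𝒴.diag h𝒳 h𝒳 f f
    have hC : AlgSt.IsAlgStack Scheme.fppfPrecoverage (fp (fpFst g f) (fpFst g f)) :=
      Groth.Agent.Helper6.FpAlg.isAlgStack_fp h𝒵.isStack h𝒵.diag hA hA _ _
    apply injective_of_isSurjective_diag hA.isStack.1 h𝒵.isStack.1
    have h1 : AlgSt.IsSurjective (fpFst (qFunctor f g) (diag f)) :=
      isSurjective_fpFst h𝒳.isStack.1 hB.isStack.1 hC.isStack.1 (diag f) (qFunctor f g) h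
    have h2 := points_map_surjective_of_isEquivOver (diagBC f g) (isEquivOver_diagBC f g)
    intro w
    obtain ⟨v, rfl⟩ := h1 w
    obtain ⟨t, rfl⟩ := h2 v
    exact ⟨t, points_map_comp (diagBC f g) (fpFst (qFunctor f g) (diag f)) t⟩

/-- S13568 -/
theorem isUnivInjective_comp (h𝒳 : AlgSt.IsAlgStack Scheme.fppfPrecoverage 𝒳)
    (h𝒴 : AlgSt.IsAlgStack Scheme.fppfPrecoverage 𝒴)
    (h𝒵 : AlgSt.IsAlgStack Scheme.fppfPrecoverage 𝒵)
    (f : 𝒳 ⥤ᵇ 𝒴) (g : 𝒴 ⥤ᵇ 𝒵) (hf : AlgSt.IsUnivInjective Scheme.fppfPrecoverage f)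
    (hg : AlgSt.IsUnivInjective Scheme.fppfPrecoverage g) :
    AlgSt.IsUnivInjective Scheme.fppfPrecoverage (BasedFunctor.comp f g) := by
  intro 𝒯 h𝒯 k
  have hA : AlgSt.IsAlgStack Scheme.fppfPrecoverage (fp g k) :=
    Groth.Agent.Helper6.FpAlg.isAlgStack_fp h𝒵.isStack h𝒵.diag h𝒴 h𝒯 g k
  have hB : AlgSt.IsAlgStack Scheme.fppfPrecoverage (fp k (BasedFunctor.comp f g)) :=
    Groth.Agent.Helper6.FpAlg.isAlgStack_fp h𝒵.isStack h𝒵.diag h𝒯 h𝒳 k _
  have hC : AlgSt.IsAlgStack Scheme.fppfPrecoverage (fp (fpFst g k) f) :=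
    Groth.Agent.Helper6.FpAlg.isAlgStack_fp h𝒴.isStack h𝒴.diag hA h𝒳 _ f
  have hD : AlgSt.IsAlgStack Scheme.fppfPrecoverage (fp k g) :=
    Groth.Agent.Helper6.FpAlg.isAlgStack_fp h𝒵.isStack h𝒵.diag h𝒯 h𝒴 k g
  -- the equivalence `𝒯 ×_𝒵 𝒳 ≃ (𝒴 ×_𝒵 𝒯) ×_𝒴 𝒳`
  let E : fp k (BasedFunctor.comp f g) ⥤ᵇ fp (fpFst g k) f :=
    BasedFunctor.comp (fpSwap k (BasedFunctor.comp f g))
      (BasedFunctor.comp (pasteLeft f g k) (fpSwap f (fpFst g k)))
  have hE : IsEquivOver E :=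
    isEquivOver_comp (isEquivOver_fpSwap _ _)
      (isEquivOver_comp (isEquivOver_pasteLeft f g k) (isEquivOver_fpSwap _ _))
  have h1 : Function.Injective (AlgSt.Points.map E) :=
    (points_map_bijective_of_isEquivOver hB.isStack.1 hC.isStack.1 E hE).1
  have h2 : Function.Injective (AlgSt.Points.map (fpFst (fpFst g k) f)) := hf _ hA (fpFst g k)
  have h3 : Function.Injective (AlgSt.Points.map (fpSwap g k)) :=
    (points_map_bijective_of_isEquivOver hA.isStack.1 hD.isStack.1 _ (isEquivOver_fpSwap g k)).1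
  have h4 : Function.Injective (AlgSt.Points.map (fpFst k g)) := hg _ h𝒯 k
  have key : ∀ p, AlgSt.Points.map (fpFst k (BasedFunctor.comp f g)) p =
      AlgSt.Points.map (fpFst k g) (AlgSt.Points.map (fpSwap g k)
        (AlgSt.Points.map (fpFst (fpFst g k) f) (AlgSt.Points.map E p))) := by
    intro p
    rw [← points_map_comp, ← points_map_comp, ← points_map_comp]
    rfl
  intro p q hpq
  rw [key, key] at hpq
  exact h1 (h2 (h3 (h4 hpq)))

set_option backward.isDefEq.respectTransparency.types false in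
/-- S13569 -/
theorem isUnivInjective_of_forall_affine (h𝒳 : AlgSt.IsAlgStack Scheme.fppfPrecoverage 𝒳)
    (h𝒴 : AlgSt.IsAlgStack Scheme.fppfPrecoverage 𝒴) (f : 𝒳 ⥤ᵇ 𝒴)
    (h : ∀ (Z : Over S) [IsAffine Z.left] (z : overCat Z ⥤ᵇ 𝒴),
      AlgSt.IsUnivInjective Scheme.fppfPrecoverage (fpFst z f)) :
    AlgSt.IsUnivInjective Scheme.fppfPrecoverage f := by
  intro 𝒵 h𝒵 g p q hpq
  obtain ⟨ρ, hρ⟩ := AlgSt.Points.mk_surjective (AlgSt.Points.map (fpFst g f) p)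
  obtain ⟨z₀, hz₀⟩ := exists_chart_fpt h𝒵.isStack.1 ρ
  haveI : IsAffine (Over.mk ρ.str).left := by
    change IsAffine (Spec (CommRingCat.of ρ.K))
    infer_instance
  have hA : AlgSt.IsAlgStack Scheme.fppfPrecoverage (fp g f) :=
    Groth.Agent.Helper6.FpAlg.isAlgStack_fp h𝒴.isStack h𝒴.diag h𝒵 h𝒳 g f
  have hZ := isAlgStack_overCat (Over.mk ρ.str)
  have hB : AlgSt.IsAlgStack Scheme.fppfPrecoverage (fp (BasedFunctor.comp z₀ g) f) :=
    Groth.Agent.Helper6.FpAlg.isAlgStack_fp h𝒴.isStack h𝒴.diag hZ h𝒳 _ f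
  have hinj := h (Over.mk ρ.str) (BasedFunctor.comp z₀ g) (overCat (Over.mk ρ.str)) hZ
    (BasedFunctor.id _)
  -- injectivity of `|fp (z₀ ≫ g) f| → |Z|`
  have hinj' : Function.Injective (AlgSt.Points.map (fpFst (BasedFunctor.comp z₀ g) f)) := by
    intro a b hab
    obtain ⟨a', rfl⟩ := points_map_surjective_of_isEquivOver _
      (isEquivOver_fpSnd_id (fpFst (BasedFunctor.comp z₀ g) f)) a
    obtain ⟨b', rfl⟩ := points_map_surjective_of_isEquivOver _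
      (isEquivOver_fpSnd_id (fpFst (BasedFunctor.comp z₀ g) f)) b
    have e : ∀ c, AlgSt.Points.map (fpFst (BasedFunctor.id _) (fpFst (BasedFunctor.comp z₀ g) f)) c =
        AlgSt.Points.map (fpFst (BasedFunctor.comp z₀ g) f)
          (AlgSt.Points.map (fpSnd (BasedFunctor.id _) (fpFst (BasedFunctor.comp z₀ g) f)) c) := by
      intro c
      rw [← points_map_comp]
      exact points_map_congr (fpIso (BasedFunctor.id _) (fpFst (BasedFunctor.comp z₀ g) f)) c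
    rw [hinj ((e a').trans (hab.trans (e b').symm))]
  -- lifts of `p`, `q`
  obtain ⟨p', hp'1, hp'2⟩ := exists_points_fp hA.isStack.1 h𝒵.isStack.1 (isFibGrpd_overCat _)
    (fpFst g f) z₀ _ p (hz₀.trans hρ)
  obtain ⟨q', hq'1, hq'2⟩ := exists_points_fp hA.isStack.1 h𝒵.isStack.1 (isFibGrpd_overCat _)
    (fpFst g f) z₀ _ q (hz₀.trans (hρ.trans hpq))
  obtain ⟨p'', rfl⟩ := points_map_surjective_of_isEquivOver (pasteLeft z₀ g f)
    (isEquivOver_pasteLeft z₀ g f) p'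
  obtain ⟨q'', rfl⟩ := points_map_surjective_of_isEquivOver (pasteLeft z₀ g f)
    (isEquivOver_pasteLeft z₀ g f) q'
  have e1 : ∀ c, AlgSt.Points.map (fpFst z₀ (fpFst g f)) (AlgSt.Points.map (pasteLeft z₀ g f) c) =
      AlgSt.Points.map (fpFst (BasedFunctor.comp z₀ g) f) c := fun c =>
    (points_map_comp (pasteLeft z₀ g f) (fpFst z₀ (fpFst g f)) c).symm
  have : p'' = q'' := hinj' (by rw [← e1, ← e1, hp'1, hq'1])
  rw [← hp'2, ← hq'2, this]

set_option backward.isDefEq.respectTransparency.types false in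
/-- S13570 -/
theorem isUnivInjective_of_fpFst_fppf_cover (h𝒳 : AlgSt.IsAlgStack Scheme.fppfPrecoverage 𝒳)
    (h𝒴 : AlgSt.IsAlgStack Scheme.fppfPrecoverage 𝒴) (f : 𝒳 ⥤ᵇ 𝒴)
    (h𝒲 : AlgSt.IsAlgStack Scheme.fppfPrecoverage 𝒵) (w : 𝒵 ⥤ᵇ 𝒴)
    (hw₃ : AlgSt.IsSurjective w)
    (h : AlgSt.IsUnivInjective Scheme.fppfPrecoverage (fpFst w f)) :
    AlgSt.IsUnivInjective Scheme.fppfPrecoverage f := by
  intro 𝒯 h𝒯 g p q hpq
  have hA : AlgSt.IsAlgStack Scheme.fppfPrecoverage (fp g f) :=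
    Groth.Agent.Helper6.FpAlg.isAlgStack_fp h𝒴.isStack h𝒴.diag h𝒯 h𝒳 g f
  have hT' : AlgSt.IsAlgStack Scheme.fppfPrecoverage (fp g w) :=
    Groth.Agent.Helper6.FpAlg.isAlgStack_fp h𝒴.isStack h𝒴.diag h𝒯 h𝒲 g w
  have hs : AlgSt.IsSurjective (fpFst g w) :=
    isSurjective_fpFst h𝒲.isStack.1 h𝒴.isStack.1 h𝒯.isStack.1 w g hw₃
  obtain ⟨r', hr'⟩ := hs (AlgSt.Points.map (fpFst g f) p)
  have hinj := h _ hT' (fpSnd g w)
  have hB1 : AlgSt.IsAlgStack Scheme.fppfPrecoverage (fp (BasedFunctor.comp (fpFst g w) g) f) :=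
    Groth.Agent.Helper6.FpAlg.isAlgStack_fp h𝒴.isStack h𝒴.diag hT' h𝒳 _ f
  have hB2 : AlgSt.IsAlgStack Scheme.fppfPrecoverage (fp (BasedFunctor.comp (fpSnd g w) w) f) :=
    Groth.Agent.Helper6.FpAlg.isAlgStack_fp h𝒴.isStack h𝒴.diag hT' h𝒳 _ f
  have hW : AlgSt.IsAlgStack Scheme.fppfPrecoverage (fp w f) :=
    Groth.Agent.Helper6.FpAlg.isAlgStack_fp h𝒴.isStack h𝒴.diag h𝒲 h𝒳 w f
  have hB3 : AlgSt.IsAlgStack Scheme.fppfPrecoverage (fp (fpSnd g w) (fpFst w f)) :=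
    Groth.Agent.Helper6.FpAlg.isAlgStack_fp h𝒲.isStack h𝒲.diag hT' hW _ _
  obtain ⟨p', hp'1, hp'2⟩ := exists_points_fp hA.isStack.1 h𝒯.isStack.1 hT'.isStack.1
    (fpFst g f) (fpFst g w) r' p hr'
  obtain ⟨q', hq'1, hq'2⟩ := exists_points_fp hA.isStack.1 h𝒯.isStack.1 hT'.isStack.1
    (fpFst g f) (fpFst g w) r' q (hr'.trans hpq)
  obtain ⟨p'', rfl⟩ := points_map_surjective_of_isEquivOver (pasteLeft (fpFst g w) g f)
    (isEquivOver_pasteLeft _ g f) p'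
  obtain ⟨q'', rfl⟩ := points_map_surjective_of_isEquivOver (pasteLeft (fpFst g w) g f)
    (isEquivOver_pasteLeft _ g f) q'
  -- transport to `fp (fpSnd g w) (fpFst w f)`
  let Bc := Groth.Agent.Helper6.RepDiag.fpCongrLeft f (fpIso g w)
  have hBc : IsEquivOver Bc := Groth.Agent.Helper6.RepDiag.isEquivOver_fpCongrLeft f (fpIso g w)
  let Cc := pasteLeft (fpSnd g w) w f
  have hCc : IsEquivOver Cc := isEquivOver_pasteLeft (fpSnd g w) w f
  have key : ∀ c, AlgSt.Points.map (fpFst (fpSnd g w) (fpFst w f))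
      (AlgSt.Points.map Cc (AlgSt.Points.map Bc c)) =
      AlgSt.Points.map (fpFst (fpFst g w) (fpFst g f))
        (AlgSt.Points.map (pasteLeft (fpFst g w) g f) c) := by
    intro c
    rw [← points_map_comp, ← points_map_comp, ← points_map_comp]
    rfl
  have e : AlgSt.Points.map Cc (AlgSt.Points.map Bc p'') =
      AlgSt.Points.map Cc (AlgSt.Points.map Bc q'') :=
    hinj (by rw [key, key, hp'1, hq'1])
  have : p'' = q'' :=
    (points_map_bijective_of_isEquivOver hB1.isStack.1 hB2.isStack.1 Bc hBc).1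
      ((points_map_bijective_of_isEquivOver hB2.isStack.1 hB3.isStack.1 Cc hCc).1 e)
  rw [← hp'2, ← hq'2, this]

end Groth.Agent.Helper6.UnivInj
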