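import Mathlib
import Groth.Agent.Helper6.OpenSub1
import Groth.Agent.Helper6.OpenSub2
import Groth.Agent.Helper6.UnivInj
import Groth.Agent.S12795
import Groth.Agent.Helper4.AlgSpOpenImage

/-!
# Helper6: open substacks III — the substack of objects whose points lie in a set `T`
-/

set_option autoImplicit false
set_option linter.style.haveILetI false
set_option linter.unusedVariables false
universe u

namespace Groth.Agent.Helper6.OpenSub3
open CategoryTheory Functor FibCat Limits AlgebraicGeometry Opposite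
open Groth.Agent.Helper3 Stk Groth.Agent.Helper6.OfPsh Groth.Agent.Helper6.OfPshHom
open Groth.Agent.Helper6.FpTools Groth.Agent.Helper6.OfPshFp Groth.Agent.Helper6.AlgStRep
open Groth.Agent.Helper6.AlgStEquiv Groth.Agent.Helper6.AlgStInv Groth.Agent.Helper6.AlgStPsh
open Groth.Agent.Helper6.DiagRed Groth.Agent.Helper6.RepDiag Groth.Agent.Helper6.RepComp
open Groth.Agent.Helper6.DiagRep Groth.Agent.Helper6.AlgStPts Groth.Agent.Helper6.StPts
open Groth.Agent.Helper6.SmLoc Groth.Agent.Helper6.ChartOver Groth.Agent.Helper6.StTop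
open Groth.Agent.Helper6.QcMor2 Groth.Agent.Helper6.SpAtlas Groth.Agent.Helper4.SDClasses
open Groth.Agent.Helper6.Descent1 Groth.Agent.Helper6.Descent2 Groth.Agent.Helper6.LocQ0
open Groth.Agent.Helper6.LocQ1 Groth.Agent.Helper6.LocQ2 Groth.Agent.Helper6.AlgStBC
open Groth.Agent.Helper6.OverRep Groth.Agent.Helper6.LocQ3 Groth.Agent.Helper6.LocQ4
open Groth.Agent.Helper6.FlatST Groth.Agent.Helper6.DiagLft Groth.Agent.Helper6.ToSpace
open Groth.Agent.Helper6.LocQ5 Groth.Agent.Helper6.OpenSub1 Groth.Agent.Helper6.OpenSub2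
open AlgSp


variable {S : Scheme.{u}} {𝒳 𝒴 𝒜 : AlgSt.Cat S}

/-- the objects all of whose field-valued points lie in `T` -/
def QT (T : Set (AlgSt.Points 𝒳)) : 𝒳.obj → Prop :=
  fun x => ∀ p : AlgSt.FPt 𝒳, Nonempty (p.obj ⟶ x) → AlgSt.Points.mk p ∈ T

variable (T : Set (AlgSt.Points 𝒳))

theorem QT_of_hom {y x : 𝒳.obj} (φ : y ⟶ x) (hx : QT T x) : QT T y :=
  fun p ⟨ψ⟩ => hx p ⟨ψ ≫ φ⟩

theorem QT_closedUnderIso : ObjectProperty.IsClosedUnderIsomorphisms (QT T) :=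
  ⟨fun e h => QT_of_hom T e.inv h⟩

theorem QT_mono {T T' : Set (AlgSt.Points 𝒳)} (h : T ⊆ T') {x : 𝒳.obj} (hx : QT T x) : QT T' x :=
  fun p hp => h (hx p hp)

/-- the field-valued points of an object of `QT T` lie in `T` -/
theorem QT_fpt (p : AlgSt.FPt 𝒳) (h : QT T p.obj) : AlgSt.Points.mk p ∈ T := h p ⟨𝟙 _⟩

/-- a field-valued point in `T` satisfies `QT T` -/
theorem QT_of_mem (p : AlgSt.FPt 𝒳) (h : AlgSt.Points.mk p ∈ T) : QT T p.obj := by
  intro p' ⟨φ⟩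
  have : AlgSt.Points.mk p' = AlgSt.Points.mk p := AlgSt.Points.sound ⟨p', 𝟙 _, φ, trivial⟩
  rw [this]
  exact h

/-- a functor lands in `QT T` iff it maps all points into `T` -/
theorem QT_obj_iff (h𝒜 : IsFibGrpd 𝒜.p) (h𝒳 : IsFibGrpd 𝒳.p) (G : 𝒜 ⥤ᵇ 𝒳) :
    (∀ a, QT T (G.obj a)) ↔ ∀ q : AlgSt.Points 𝒜, AlgSt.Points.map G q ∈ T := by
  constructor
  · intro h q
    obtain ⟨p', rfl⟩ := AlgSt.Points.mk_surjective q
    exact h p'.obj (p'.map G) ⟨𝟙 _⟩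
  · intro h a p ⟨φ⟩
    let σ : Over.mk p.str ⟶ 𝒜.p.obj a := baseHom φ p.lies (G.w_obj a)
    have hφ : 𝒳.p.IsHomLift σ φ := inferInstance
    obtain ⟨a', ψ, hψ⟩ := FibGrpd.exists_lift' h𝒜 (rfl : 𝒜.p.obj a = 𝒜.p.obj a) σ
    haveI := hψ
    let p' : AlgSt.FPt 𝒜 :=
      { K := p.K, str := p.str, obj := a', lies := IsHomLift.domain_eq 𝒜.p σ ψ }
    have hGψ : 𝒳.p.IsHomLift σ (G.map ψ) := inferInstance
    obtain ⟨χ, -, -⟩ := exists_fill h𝒳 σ σ (𝟙 _) (Category.id_comp _) φ (G.map ψ) hφ hGψ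
    have e : AlgSt.Points.mk p = AlgSt.Points.map G (AlgSt.Points.mk p') :=
      AlgSt.Points.sound ⟨p, 𝟙 _, χ, trivial⟩
    rw [e]
    exact h _

/-- the points of the full subcategory on `QT T` are exactly `T` -/
theorem range_subIncl_QT :
    Set.range (AlgSt.Points.map (AlgSt.subIncl 𝒳 (QT T))) = T := by
  apply Set.eq_of_subset_of_subset
  · rintro _ ⟨q, rfl⟩
    obtain ⟨p', rfl⟩ := AlgSt.Points.mk_surjective q
    exact QT_fpt T (p'.map (AlgSt.subIncl 𝒳 (QT T))) p'.obj.property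
  · intro t ht
    obtain ⟨p, rfl⟩ := AlgSt.Points.mk_surjective t
    let p' : AlgSt.FPt (AlgSt.fullSub 𝒳 (QT T)) :=
      { K := p.K, str := p.str, obj := ⟨p.obj, QT_of_mem T p ht⟩, lies := p.lies }
    exact ⟨AlgSt.Points.mk p', rfl⟩

/-- `QT T` is local for the fppf topology -/
theorem QT_local (h𝒳 : IsFibGrpd 𝒳.p) {U : Over S} (R : Sieve U)
    (hR : R ∈ QuotSh.J Scheme.fppfPrecoverage S U) (x : 𝒳.obj) (hx : 𝒳.p.obj x = U)
    (h : ∀ ⦃V : Over S⦄ (f : V ⟶ U), R f → ∀ (y : 𝒳.obj) (φ : y ⟶ x), 𝒳.p.IsHomLift f φ → QT T y) :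
    QT T x := by
  intro p ⟨φ⟩
  let σ : Over.mk p.str ⟶ U := baseHom φ p.lies hx
  have hφ : 𝒳.p.IsHomLift σ φ := inferInstance
  obtain ⟨x₀⟩ : Nonempty (Spec (CommRingCat.of p.K)) := inferInstance
  obtain ⟨T', g, hg, t', ht'⟩ :=
    Groth.Agent.Helper4.AlgSpOpenImage.exists_mem_range_of_mem_J R hR (σ.left x₀)
  obtain ⟨z, -, -⟩ := Scheme.Pullback.exists_preimage_pullback (f := σ.left) (g := g.left) x₀ t'
    ht'.symm
  let P : Scheme.{u} := pullback σ.left g.left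
  let μ : Spec (P.residueField z) ⟶ P := P.fromSpecResidueField z
  let ρ₁ : Spec (P.residueField z) ⟶ Spec (CommRingCat.of p.K) := μ ≫ pullback.fst σ.left g.left
  let ρ₂ : Spec (P.residueField z) ⟶ T'.left := μ ≫ pullback.snd σ.left g.left
  have hρ : ρ₁ ≫ σ.left = ρ₂ ≫ g.left := by
    simp only [ρ₁, ρ₂, Category.assoc, pullback.condition]
  have wσ : σ.left ≫ U.hom = p.str := Over.w σ
  have wg : g.left ≫ U.hom = T'.hom := Over.w g
  let V : Over S := Over.mk (ρ₁ ≫ p.str)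
  let k₁ : V ⟶ Over.mk p.str := Over.homMk ρ₁ rfl
  have hk₂ : ρ₂ ≫ T'.hom = ρ₁ ≫ p.str := by
    rw [← wg, ← wσ, ← Category.assoc, ← Category.assoc, hρ]
  let k₂ : V ⟶ T' := Over.homMk ρ₂ hk₂
  have hk : k₂ ≫ g = k₁ ≫ σ := by
    apply Over.OverMorphism.ext
    exact hρ.symm
  obtain ⟨r₁, e₁, he₁⟩ := FibGrpd.exists_lift' h𝒳 p.lies k₁
  haveI := he₁
  have hl : 𝒳.p.IsHomLift (k₂ ≫ g) (e₁ ≫ φ) := by
    rw [hk]
    infer_instance
  have hQ : QT T r₁ := h (k₂ ≫ g) (R.downward_closed hg k₂) r₁ (e₁ ≫ φ) hl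
  let p'' : AlgSt.FPt 𝒳 :=
    { K := ↥(P.residueField z)
      str := ρ₁ ≫ p.str
      obj := r₁
      lies := IsHomLift.domain_eq 𝒳.p k₁ e₁ }
  have e : AlgSt.Points.mk p = AlgSt.Points.mk p'' :=
    AlgSt.Points.sound ⟨p'', e₁, 𝟙 _, trivial⟩
  rw [e]
  exact QT_fpt T p'' hQ

/-- the full subcategory on `QT T` is a stack -/
theorem isStack_fullSub_QT (h𝒳 : Stk.IsStack (QuotSh.J Scheme.fppfPrecoverage S) 𝒳) :
    Stk.IsStack (QuotSh.J Scheme.fppfPrecoverage S) (AlgSt.fullSub 𝒳 (QT T)) := by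
  refine Groth.Agent.S12795.result _ h𝒳 (QT T)
    (fun y x φ hx => ⟨y, Iso.refl _, QT_of_hom T φ hx, IsHomLift.id rfl⟩) ?_
  intro U R hR x hx h
  refine ⟨x, Iso.refl _, ?_, IsHomLift.id hx⟩
  refine QT_local T h𝒳.1 R hR x hx (fun V f hf y φ hφ => ?_)
  obtain ⟨y', e, hy', -⟩ := h f hf y φ hφ
  exact QT_of_hom T e.hom hy'

/-- the diagonal of a full subcategory of a category with representable diagonal is representable -/
theorem diag_fullSub (Q : 𝒳.obj → Prop) (hΔ : AlgSt.RepByAlgSp1 (diag (toSelf 𝒳))) :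
    AlgSt.RepByAlgSp1 (diag (toSelf (AlgSt.fullSub 𝒳 Q))) := by
  apply Groth.Agent.Helper6.AlgStDiagIff.backward
  intro U G
  rw [repByAlgSp1_iff_top]
  apply rep_of_comp_fullyFaithful ⊤ (AlgSt.subIncl 𝒳 Q) G
  exact (repByAlgSp1_iff_top _).1
    (Groth.Agent.Helper6.AlgStDiagIff.forward hΔ U (BasedFunctor.comp G (AlgSt.subIncl 𝒳 Q)))

/-- the open subscheme of a chart lying over `T` -/
noncomputable def chartOpen (h𝒳 : AlgSt.IsAlgStack Scheme.fppfPrecoverage 𝒳) (hT : IsOpen T)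
    {V : Over S} (y : overCat V ⥤ᵇ 𝒳) : V.left.Opens :=
  ⟨AlgSt.Points.ofChart y ⁻¹' T,
    ((continuous_points_map (isFibGrpd_overCat V) h𝒳 y).comp (chartPt_continuous V)).isOpen_preimage
      _ hT⟩

/-- the open subscheme as a scheme over `S` -/
noncomputable def chartOver (h𝒳 : AlgSt.IsAlgStack Scheme.fppfPrecoverage 𝒳) (hT : IsOpen T)
    {V : Over S} (y : overCat V ⥤ᵇ 𝒳) : Over S :=
  Over.mk ((chartOpen T h𝒳 hT y).ι ≫ V.hom)

/-- its inclusion -/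
noncomputable def chartIncl (h𝒳 : AlgSt.IsAlgStack Scheme.fppfPrecoverage 𝒳) (hT : IsOpen T)
    {V : Over S} (y : overCat V ⥤ᵇ 𝒳) : chartOver T h𝒳 hT y ⟶ V :=
  Over.homMk (chartOpen T h𝒳 hT y).ι rfl

theorem chartIncl_mem (h𝒳 : AlgSt.IsAlgStack Scheme.fppfPrecoverage 𝒳) (hT : IsOpen T)
    {V : Over S} (y : overCat V ⥤ᵇ 𝒳) (t : ↥(chartOver T h𝒳 hT y).left) :
    AlgSt.Points.ofChart y ((chartIncl T h𝒳 hT y).left t) ∈ T :=
  t.2

/-- the restricted chart lands in `QT T` -/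
theorem chart_lands (h𝒳 : AlgSt.IsAlgStack Scheme.fppfPrecoverage 𝒳) (hT : IsOpen T)
    {V : Over S} (y : overCat V ⥤ᵇ 𝒳) (a : (overCat (chartOver T h𝒳 hT y)).obj) :
    QT T ((BasedFunctor.comp (AlgSt.overMap (chartIncl T h𝒳 hT y)) y).obj a) := by
  refine (QT_obj_iff T (isFibGrpd_overCat _) h𝒳.isStack.1 _).2 (fun q => ?_) a
  obtain ⟨t, rfl⟩ := (chartPt_bijective _).2 q
  rw [points_map_comp, points_map_overMap]
  exact chartIncl_mem T h𝒳 hT y t

/-- the restricted chart, as a functor to the full subcategory -/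
noncomputable def chartSub (h𝒳 : AlgSt.IsAlgStack Scheme.fppfPrecoverage 𝒳) (hT : IsOpen T)
    {V : Over S} (y : overCat V ⥤ᵇ 𝒳) :
    overCat (chartOver T h𝒳 hT y) ⥤ᵇ AlgSt.fullSub 𝒳 (QT T) :=
  liftSub (QT T) (BasedFunctor.comp (AlgSt.overMap (chartIncl T h𝒳 hT y)) y) (chart_lands T h𝒳 hT y)

set_option backward.isDefEq.respectTransparency.types false in
theorem hasAtlas_fullSub_QT (h𝒳 : AlgSt.IsAlgStack Scheme.fppfPrecoverage 𝒳) (hT : IsOpen T) :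
    AlgSt.HasAtlas (LocP @Smooth) (AlgSt.fullSub 𝒳 (QT T)) := by
  obtain ⟨U₀, u, hu₁, hu₂⟩ := h𝒳.atlas
  have hfull : IsFibGrpd (AlgSt.fullSub 𝒳 (QT T)).p := (isStack_fullSub_QT T h𝒳.isStack).1
  have hX : IsFibGrpd 𝒳.p := h𝒳.isStack.1
  let c := chartIncl T h𝒳 hT u
  haveI : IsOpenImmersion c.left := by
    change IsOpenImmersion (chartOpen T h𝒳 hT u).ι
    infer_instance
  have hsm : AlgSt.RepByAlgSpWith (LocP @Smooth) (chartSub T h𝒳 hT u) := by
    apply rep_of_comp_fullyFaithful (LocP @Smooth) (AlgSt.subIncl 𝒳 (QT T))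
    exact Groth.Agent.Helper6.RepComp.repByAlgSpWith_comp (isFibGrpd_overCat _) (isFibGrpd_overCat U₀)
      _ (locP_comp' _ good_smooth) Groth.Agent.Helper6.LocalFppf.smooth _ u
      (Groth.Agent.Helper6.QcChart.overMap_smooth c inferInstance) hu₁
  refine ⟨chartOver T h𝒳 hT u, chartSub T h𝒳 hT u, hsm, ?_⟩
  refine rep_surj_of_isSurjective (isFibGrpd_overCat _) hfull _ (repByAlgSp1_of_with hsm) ?_
  intro q
  have hq : AlgSt.Points.map (AlgSt.subIncl 𝒳 (QT T)) q ∈ T :=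
    (range_subIncl_QT T).le ⟨q, rfl⟩
  obtain ⟨t, ht⟩ := ofChart_surjective hX u hu₂ (AlgSt.Points.map (AlgSt.subIncl 𝒳 (QT T)) q)
  have htW : t ∈ chartOpen T h𝒳 hT u := by
    change AlgSt.Points.ofChart u t ∈ T
    rw [ht]
    exact hq
  refine ⟨chartPt _ (show ↥(chartOpen T h𝒳 hT u) from ⟨t, htW⟩), ?_⟩
  apply points_map_injective_of_full hfull hX (AlgSt.subIncl 𝒳 (QT T))
  rw [← points_map_comp (chartSub T h𝒳 hT u) (AlgSt.subIncl 𝒳 (QT T))]
  change AlgSt.Points.map (BasedFunctor.comp (AlgSt.overMap c) u) _ = _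
  rw [points_map_comp, points_map_overMap]
  exact ht

end Groth.Agent.Helper6.OpenSub3
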