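import Mathlib
import Groth.Agent.Helper6.OpenSub3

/-!
# Helper6: open substacks IV — the inclusion of `QT T` is an open immersion; `QT T` is an open substack
-/

set_option autoImplicit false
set_option linter.style.haveILetI false
set_option linter.unusedVariables false
universe u

namespace Groth.Agent.Helper6.OpenSub4
open CategoryTheory Functor FibCat Limits AlgebraicGeometry Opposite
open Groth.Agent.Helper3 Stk Groth.Agent.Helper6.OfPsh Groth.Agent.Helper6.OfPshHom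
open Groth.Agent.Helper6.FpTools Groth.Agent.Helper6.OfPshFp Groth.Agent.Helper6.AlgStRep
open Groth.Agent.Helper6.AlgStEquiv Groth.Agent.Helper6.AlgStInv Groth.Agent.Helper6.AlgStPsh
open Groth.Agent.Helper6.DiagRed Groth.Agent.Helper6.RepDiag Groth.Agent.Helper6.RepComp
open Groth.Agent.Helper6.DiagRep Groth.Agent.Helper6.AlgStPts Groth.Agent.Helper6.StPts
open Groth.Agent.Helper6.SmLoc Groth.Agent.Helper6.ChartOver Groth.Agent.Helper6.StTop
open Groth.Agent.Helper6.QcMor2 Groth.Agent.Helper6.SpAtlas Groth.Agent.Helper4.SDClasses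
open Groth.Agent.Helper6.Descent1 Groth.Agent.Helper6.Descent2 Groth.Agent.Helper6.LocQ0
open Groth.Agent.Helper6.LocQ1 Groth.Agent.Helper6.LocQ2 Groth.Agent.Helper6.AlgStBC
open Groth.Agent.Helper6.OverRep Groth.Agent.Helper6.LocQ3 Groth.Agent.Helper6.LocQ4
open Groth.Agent.Helper6.FlatST Groth.Agent.Helper6.DiagLft Groth.Agent.Helper6.ToSpace
open Groth.Agent.Helper6.LocQ5 Groth.Agent.Helper6.OpenSub1 Groth.Agent.Helper6.OpenSub2
open Groth.Agent.Helper6.OpenSub3
open AlgSp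


variable {S : Scheme.{u}} {𝒳 : AlgSt.Cat S} (T : Set (AlgSt.Points 𝒳))
  (h𝒳 : AlgSt.IsAlgStack Scheme.fppfPrecoverage 𝒳) (hT : IsOpen T)
  {V : Over S} (y : overCat V ⥤ᵇ 𝒳)

/-- the comparison functor from the open subscheme of a chart to the fibre product with the
substack -/
noncomputable def chartE :
    overCat (chartOver T h𝒳 hT y) ⥤ᵇ fp y (AlgSt.subIncl 𝒳 (QT T)) :=
  fpLift (AlgSt.overMap (chartIncl T h𝒳 hT y)) (chartSub T h𝒳 hT y) (Iso.refl _)

theorem chartE_comp_fpFst :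
    BasedFunctor.comp (chartE T h𝒳 hT y) (fpFst y (AlgSt.subIncl 𝒳 (QT T))) =
      AlgSt.overMap (chartIncl T h𝒳 hT y) := rfl

instance mono_chartIncl : Mono (chartIncl T h𝒳 hT y) := by
  haveI : Mono (chartIncl T h𝒳 hT y).left := by
    change Mono (chartOpen T h𝒳 hT y).ι
    infer_instance
  exact Over.mono_of_mono_left _

theorem chartE_faithful : (chartE T h𝒳 hT y).toFunctor.Faithful := by
  refine ⟨fun {a a'} k k' h => ?_⟩
  apply Over.OverMorphism.ext
  exact congrArg (fun m => m.hom.fst.left) h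

theorem chartE_full : (chartE T h𝒳 hT y).toFunctor.Full := by
  refine ⟨fun {a a'} Θ => ?_⟩
  let m : (Over.map (chartIncl T h𝒳 hT y)).obj a ⟶ (Over.map (chartIncl T h𝒳 hT y)).obj a' :=
    Θ.hom.fst
  have hm : m.left ≫ (a'.hom ≫ chartIncl T h𝒳 hT y) = a.hom ≫ chartIncl T h𝒳 hT y := Over.w m
  have hm' : m.left ≫ a'.hom = a.hom := by
    rw [← cancel_mono (chartIncl T h𝒳 hT y), Category.assoc]
    exact hm
  let k : a ⟶ a' := Over.homMk m.left hm'
  refine ⟨k, ?_⟩
  have h1 : ((chartE T h𝒳 hT y).map k).hom.fst = Θ.hom.fst := by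
    apply Over.OverMorphism.ext
    rfl
  apply fp_hom_ext h1
  apply (AlgSt.subIncl 𝒳 (QT T)).toFunctor.map_injective
  have hw := Θ.hom.w
  change y.map Θ.hom.fst ≫ 𝟙 _ = 𝟙 _ ≫ (AlgSt.subIncl 𝒳 (QT T)).map Θ.hom.snd at hw
  rw [Category.comp_id, Category.id_comp] at hw
  change y.map ((AlgSt.overMap (chartIncl T h𝒳 hT y)).map k) = _
  rw [← hw]
  exact congrArg (fun t => y.map t) h1

/-- an object of the chart whose image satisfies `QT T` factors through the open subscheme -/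
theorem range_subset_of_QT (b : Over V) (hb : QT T (y.obj b)) :
    Set.range b.hom.left ⊆ Set.range (chartOpen T h𝒳 hT y).ι := by
  rw [Scheme.Opens.range_ι]
  rintro _ ⟨t, rfl⟩
  have hland : ∀ a', QT T ((BasedFunctor.comp (AlgSt.overMap b.hom) y).obj a') := fun a' =>
    QT_of_hom T (y.map (Over.homMk a'.hom rfl : (Over.map b.hom).obj a' ⟶ b)) hb
  have := (QT_obj_iff T (isFibGrpd_overCat b.left) h𝒳.isStack.1 _).1 hland (chartPt b.left t)
  rw [points_map_comp, points_map_overMap] at this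
  exact this

theorem chartE_essSurj (z : (fp y (AlgSt.subIncl 𝒳 (QT T))).obj) :
    ∃ (a : (overCat (chartOver T h𝒳 hT y)).obj) (e : (chartE T h𝒳 hT y).obj a ≅ z),
      (fp y (AlgSt.subIncl 𝒳 (QT T))).p.IsHomLift
        (𝟙 ((fp y (AlgSt.subIncl 𝒳 (QT T))).p.obj z)) e.hom := by
  let b : Over V := z.obj.fst
  let x' : (AlgSt.fullSub 𝒳 (QT T)).obj := z.obj.snd
  let ι : y.obj b ≅ x'.obj := z.obj.iso
  have hb : QT T (y.obj b) := QT_of_hom T ι.hom x'.property
  let l : b.left.left ⟶ (chartOpen T h𝒳 hT y).toScheme :=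
    IsOpenImmersion.lift (chartOpen T h𝒳 hT y).ι b.hom.left (range_subset_of_QT T h𝒳 hT y b hb)
  have hl : l ≫ (chartOpen T h𝒳 hT y).ι = b.hom.left := IsOpenImmersion.lift_fac _ _ _
  have hl2 : l ≫ (chartOver T h𝒳 hT y).hom = b.left.hom := by
    change l ≫ (chartOpen T h𝒳 hT y).ι ≫ V.hom = b.left.hom
    rw [← Category.assoc, hl]
    exact Over.w b.hom
  let l' : b.left ⟶ chartOver T h𝒳 hT y := Over.homMk l hl2
  have hl' : l' ≫ chartIncl T h𝒳 hT y = b.hom := by
    apply Over.OverMorphism.ext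
    exact hl
  let a : Over (chartOver T h𝒳 hT y) := Over.mk l'
  let e₁ : (AlgSt.overMap (chartIncl T h𝒳 hT y)).obj a ≅ b :=
    Over.isoMk (Iso.refl _) (by
      change 𝟙 _ ≫ b.hom = l' ≫ chartIncl T h𝒳 hT y
      rw [Category.id_comp, hl'])
  let e₂ : (chartSub T h𝒳 hT y).obj a ≅ x' :=
    (AlgSt.subIncl 𝒳 (QT T)).toFunctor.preimageIso (y.toFunctor.mapIso e₁ ≪≫ ι)
  have he₂ : (AlgSt.subIncl 𝒳 (QT T)).map e₂.hom = y.map e₁.hom ≫ ι.hom :=
    (AlgSt.subIncl 𝒳 (QT T)).toFunctor.map_preimage _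
  refine ⟨a, fpMkIso (x := (chartE T h𝒳 hT y).obj a) (z := z) e₁ e₂ ?_, ?_⟩
  · change y.map e₁.hom ≫ ι.hom = 𝟙 _ ≫ (AlgSt.subIncl 𝒳 (QT T)).map e₂.hom
    rw [Category.id_comp, he₂]
  · apply fpMkIso_lift
    have : (Over.forget V).IsHomLift ((Over.forget V).map e₁.hom) e₁.hom :=
      Functor.IsHomLift.map (p := Over.forget V) e₁.hom
    exact this

theorem isEquivOver_chartE : IsEquivOver (chartE T h𝒳 hT y) := by
  rw [isEquivOver_iff]
  exact ⟨chartE_full T h𝒳 hT y, chartE_faithful T h𝒳 hT y, chartE_essSurj T h𝒳 hT y⟩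

include h𝒳 hT in
set_option backward.isDefEq.respectTransparency.types false in
/-- the inclusion of `QT T` is an open immersion -/
theorem isOpenImm_subIncl_QT : AlgSt.IsOpenImm (AlgSt.subIncl 𝒳 (QT T)) := by
  intro V y
  let c := chartIncl T h𝒳 hT y
  refine ⟨⟨(yon S).obj (chartOver T h𝒳 hT y), IsAlgSpace.yon_obj _⟩,
    BasedFunctor.comp (AlgSt.toOverCat _) (chartE T h𝒳 hT y),
    isEquivOver_comp (isEquivOver_toOverCat _) (isEquivOver_chartE T h𝒳 hT y), ?_⟩
  have j : BasedFunctor.comp (BasedFunctor.comp (AlgSt.toOverCat _) (chartE T h𝒳 hT y))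
      (fpFst y (AlgSt.subIncl 𝒳 (QT T))) ≅
      BasedFunctor.comp (AlgSt.ofSpMap ((yon S).map c)) (AlgSt.toOverCat V) :=
    (overMapIso c).symm
  rw [spMapOfOver_congr j, spMapOfOver_ofSpMap_toOverCat]
  haveI : IsOpenImmersion c.left := by
    change IsOpenImmersion (chartOpen T h𝒳 hT y).ι
    infer_instance
  exact (repWith_yon_map_iff _ c).2 inferInstance

include h𝒳 hT in
/-- `QT T` is an open substack for open `T` -/
theorem isOpenSubstack_QT : AlgSt.IsOpenSubstack 𝒳 (QT T) Scheme.fppfPrecoverage :=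
  ⟨QT_closedUnderIso T,
    ⟨isStack_fullSub_QT T h𝒳.isStack, diag_fullSub (QT T) h𝒳.diag, hasAtlas_fullSub_QT T h𝒳 hT⟩,
    isOpenImm_subIncl_QT T h𝒳 hT⟩

end Groth.Agent.Helper6.OpenSub4
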