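import Mathlib
import Groth.Agent.Helper6.FpAlg
import Groth.Agent.Helper6.LocalFppf

/-!
# Helper6: 2-fibre products of algebraic / Deligne-Mumford stacks, for any topology
-/

set_option autoImplicit false
set_option linter.style.haveILetI false
set_option linter.unusedVariables false
universe u

namespace Groth.Agent.Helper6.FpAlgEt
open CategoryTheory Functor FibCat Limits AlgebraicGeometry Opposite
open Groth.Agent.Helper3 Groth.Agent.Helper6.FpTools Groth.Agent.Helper6.AlgStBC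
open Groth.Agent.Helper6.AlgStInv Groth.Agent.Helper6.SpAtlas Groth.Agent.Helper6.ChartOver
open Groth.Agent.Helper6.ToSpace Groth.Agent.Helper4.SDClasses AlgSp
open Groth.Agent.Helper6.DiagRed Groth.Agent.Helper6.DiagComp Groth.Agent.Helper6.DiagRep
open Groth.Agent.Helper6.OfComp Groth.Agent.Helper6.FpAlg

variable {S : Scheme.{u}} {𝒳 𝒴 𝒵 : AlgSt.Cat S}

/-- atlases of a class `C` (stable under composition, fppf local on the base, containing the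
etale atlases of algebraic spaces) pass to 2-fibre products -/
theorem hasAtlas_fp_gen (C : MorphismProperty (Sp S))
    (hCc : ∀ ⦃X Y Z : AlgSp.Sp S⦄, AlgSp.IsAlgSpace X → AlgSp.IsAlgSpace Y → AlgSp.IsAlgSpace Z →
      ∀ (a : X ⟶ Y) (b : Y ⟶ Z), C a → C b → C (a ≫ b))
    (hCl : AlgSp.IsLocalOnBase AlgSp.IsFppfCover C)
    (hCe : ∀ (W : Sp S), IsAlgSpace W → ∃ (V₀ : Over S) (u : overCat V₀ ⥤ᵇ AlgSt.ofSp W),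
      AlgSt.RepByAlgSpWith C u ∧ AlgSt.RepByAlgSpWith IsSurjectiveMor u)
    (hX : IsFibGrpd 𝒳.p) (hY : IsFibGrpd 𝒴.p) (h𝒵 : IsFibGrpd 𝒵.p)
    (hΔ𝒵 : AlgSt.RepByAlgSp1 (diag (toSelf 𝒵)))
    (hAX : AlgSt.HasAtlas C 𝒳) (hAY : AlgSt.HasAtlas C 𝒴) (f : 𝒳 ⥤ᵇ 𝒵) (g : 𝒴 ⥤ᵇ 𝒵) :
    AlgSt.HasAtlas C (fp f g) := by
  obtain ⟨U₀, u, hu₁, hu₂⟩ := hAX
  obtain ⟨V₀, v, hv₁, hv₂⟩ := hAY
  have hU₀ : IsFibGrpd (overCat U₀).p := Groth.Agent.Helper9.FibRep.isFibGrpd_overCat U₀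
  have hV₀ : IsFibGrpd (overCat V₀).p := Groth.Agent.Helper9.FibRep.isFibGrpd_overCat V₀
  let Ψ : fp (BasedFunctor.comp u f) (BasedFunctor.comp v g) ⥤ᵇ fp f g :=
    BasedFunctor.comp (pasteInner u f (BasedFunctor.comp v g)) (rightMap f g v)
  have hW1 : IsFibGrpd (fp (BasedFunctor.comp u f) (BasedFunctor.comp v g)).p :=
    isFibGrpd_fp _ _ hU₀ hV₀ h𝒵
  have hW2 : IsFibGrpd (fp f (BasedFunctor.comp v g)).p := isFibGrpd_fp _ _ hX hV₀ h𝒵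
  have hΨ₁ : AlgSt.RepByAlgSpWith C Ψ :=
    Groth.Agent.Helper6.RepComp.repByAlgSpWith_comp hW1 hW2 _ hCc
      hCl _ _ (rep_pasteInner _ u f _ hu₁) (rep_rightMap _ f g v hv₁)
  have hΨ₂ : AlgSt.RepByAlgSpWith IsSurjectiveMor Ψ :=
    Groth.Agent.Helper6.RepComp.repByAlgSpWith_comp hW1 hW2 _ surj_comp
      surj_localOnBase _ _ (rep_pasteInner _ u f _ hu₂) (rep_rightMap _ f g v hv₂)
  obtain ⟨W, e, he⟩ := (Groth.Agent.Helper6.AlgStDiagIff.forward hΔ𝒵 V₀ (BasedFunctor.comp v g))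
    U₀ (BasedFunctor.comp u f)
  obtain ⟨T, a, haC, has⟩ := hCe W.obj W.property
  have hT : IsFibGrpd (overCat T).p := Groth.Agent.Helper9.FibRep.isFibGrpd_overCat T
  have hWg : IsFibGrpd (AlgSt.ofSp W.obj).p := (isFibSetoid_ofPsh _).1
  refine ⟨T, BasedFunctor.comp a (BasedFunctor.comp e Ψ), ?_, ?_⟩
  · exact Groth.Agent.Helper6.RepComp.repByAlgSpWith_comp hT hWg _ hCc
      hCl a _ haC (rep_equiv_comp _ e he Ψ hΨ₁)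
  · exact Groth.Agent.Helper6.RepComp.repByAlgSpWith_comp hT hWg _ surj_comp
      surj_localOnBase a _ has (rep_equiv_comp _ e he Ψ hΨ₂)

theorem hasAtlas_fp_smooth (hX : IsFibGrpd 𝒳.p) (hY : IsFibGrpd 𝒴.p) (h𝒵 : IsFibGrpd 𝒵.p)
    (hΔ𝒵 : AlgSt.RepByAlgSp1 (diag (toSelf 𝒵)))
    (hAX : AlgSt.HasAtlas (LocP @Smooth) 𝒳) (hAY : AlgSt.HasAtlas (LocP @Smooth) 𝒴)
    (f : 𝒳 ⥤ᵇ 𝒵) (g : 𝒴 ⥤ᵇ 𝒵) : AlgSt.HasAtlas (LocP @Smooth) (fp f g) :=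
  hasAtlas_fp_gen (LocP @Smooth) (locP_comp' _ good_smooth) Groth.Agent.Helper6.LocalFppf.smooth
    (fun W hW => by
      obtain ⟨T, a, -, has, haQ⟩ := exists_etale_atlas W hW
      exact ⟨T, a, haQ _ good_smooth.comp good_smooth.etale_le, has⟩)
    hX hY h𝒵 hΔ𝒵 hAX hAY f g

theorem hasAtlas_fp_etale (hX : IsFibGrpd 𝒳.p) (hY : IsFibGrpd 𝒴.p) (h𝒵 : IsFibGrpd 𝒵.p)
    (hΔ𝒵 : AlgSt.RepByAlgSp1 (diag (toSelf 𝒵)))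
    (hAX : AlgSt.HasAtlas IsEtaleMor 𝒳) (hAY : AlgSt.HasAtlas IsEtaleMor 𝒴)
    (f : 𝒳 ⥤ᵇ 𝒵) (g : 𝒴 ⥤ᵇ 𝒵) : AlgSt.HasAtlas IsEtaleMor (fp f g) :=
  hasAtlas_fp_gen IsEtaleMor
    (fun X Y Z _ _ _ a b ha hb U φ hφ => by
      rw [← Category.assoc]
      exact hb _ (ha φ hφ))
    Groth.Agent.Helper6.LocalFppf.etale
    (fun W hW => by
      obtain ⟨T, a, hae, has, -⟩ := exists_etale_atlas W hW
      exact ⟨T, a, hae, has⟩)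
    hX hY h𝒵 hΔ𝒵 hAX hAY f g

/-- `isAlgStack_fp` for any precoverage -/
theorem isAlgStack_fp_gen (K : Precoverage Scheme.{u})
    (h𝒳 : AlgSt.IsAlgStack K 𝒳) (h𝒴 : AlgSt.IsAlgStack K 𝒴) (h𝒵 : AlgSt.IsAlgStack K 𝒵)
    (f : 𝒳 ⥤ᵇ 𝒵) (g : 𝒴 ⥤ᵇ 𝒵) : AlgSt.IsAlgStack K (fp f g) :=
  ⟨Groth.Agent.S12792.result _ f g h𝒳.isStack h𝒴.isStack (isPrestack_of_isStack _ h𝒵.isStack),
    repByAlgSp1_diag_fp h𝒳.isStack.1 h𝒴.isStack.1 h𝒵.isStack.1 h𝒳.diag h𝒴.diag h𝒵.diag f g,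
    hasAtlas_fp_smooth h𝒳.isStack.1 h𝒴.isStack.1 h𝒵.isStack.1 h𝒵.diag h𝒳.atlas h𝒴.atlas f g⟩

/-- `isDM_fp` for any precoverage -/
theorem isDM_fp_gen (K : Precoverage Scheme.{u})
    (h𝒳 : AlgSt.IsDM K 𝒳) (h𝒴 : AlgSt.IsDM K 𝒴) (h𝒵 : AlgSt.IsDM K 𝒵)
    (f : 𝒳 ⥤ᵇ 𝒵) (g : 𝒴 ⥤ᵇ 𝒵) : AlgSt.IsDM K (fp f g) :=
  ⟨isAlgStack_fp_gen K h𝒳.1 h𝒴.1 h𝒵.1 f g,
    hasAtlas_fp_etale h𝒳.1.isStack.1 h𝒴.1.isStack.1 h𝒵.1.isStack.1 h𝒵.1.diag h𝒳.2 h𝒴.2 f g⟩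

end Groth.Agent.Helper6.FpAlgEt
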