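import Mathlib

/-!
# Helper6: a retract of a smooth algebra is smooth
-/

set_option autoImplicit false
universe u

namespace Groth.Agent.Helper6.SmRetract

open Algebra

/-- the kernel of a retraction `π : P → S` (with section `ι`) of a finite type algebra is finitely
generated -/
theorem ker_fg_of_retract (R S P : Type u) [CommRing R] [CommRing S] [CommRing P] [Algebra R S]
    [Algebra R P] [Algebra.FiniteType R P] (ι : S →ₐ[R] P) (π : P →ₐ[R] S)
    (h : π.comp ι = AlgHom.id R S) : (RingHom.ker π.toRingHom).FG := by
  classical
  obtain ⟨s, hs⟩ := (Algebra.FiniteType.out : (⊤ : Subalgebra R P).FG)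
  have hπι : ∀ x : S, π (ι x) = x := fun x => DFunLike.congr_fun h x
  let J : Ideal P := Ideal.span ((fun x => x - ι (π x)) '' (s : Set P))
  have key : ∀ p : P, p - ι (π p) ∈ J := by
    intro p
    have hp : p ∈ Algebra.adjoin R (s : Set P) := by rw [hs]; exact Algebra.mem_top
    induction hp using Algebra.adjoin_induction with
    | mem x hx => exact Ideal.subset_span ⟨x, hx, rfl⟩
    | algebraMap r =>
      rw [AlgHom.commutes, AlgHom.commutes, sub_self]
      exact J.zero_mem
    | add x y _ _ hx hy =>
      have : x + y - ι (π (x + y)) = (x - ι (π x)) + (y - ι (π y)) := by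
        rw [map_add, map_add]; ring
      rw [this]
      exact J.add_mem hx hy
    | mul x y _ _ hx hy =>
      have : x * y - ι (π (x * y)) = x * (y - ι (π y)) + (x - ι (π x)) * ι (π y) := by
        rw [map_mul, map_mul]; ring
      rw [this]
      exact J.add_mem (J.mul_mem_left _ hy) (J.mul_mem_right _ hx)
  have hJ : RingHom.ker π.toRingHom = J := by
    apply le_antisymm
    · intro p hp
      have hp' : π p = 0 := hp
      have := key p
      rwa [hp', map_zero, sub_zero] at this
    · refine Ideal.span_le.2 ?_
      rintro _ ⟨x, -, rfl⟩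
      change π (x - ι (π x)) = 0
      rw [map_sub, hπι, sub_self]
  rw [hJ]
  exact Submodule.fg_span (s.finite_toSet.image _)

/-- a retract of a smooth algebra is smooth -/
theorem smooth_of_retract (R S P : Type u) [CommRing R] [CommRing S] [CommRing P] [Algebra R S]
    [Algebra R P] [Algebra.Smooth R P] (ι : S →ₐ[R] P) (π : P →ₐ[R] S)
    (h : π.comp ι = AlgHom.id R S) : Algebra.Smooth R S := by
  have hπι : ∀ x : S, π (ι x) = x := fun x => DFunLike.congr_fun h x
  have hsurj : Function.Surjective π := fun x => ⟨ι x, hπι x⟩
  haveI : Algebra.FinitePresentation R P := Algebra.Smooth.finitePresentation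
  haveI : Algebra.FormallySmooth R P := Algebra.Smooth.formallySmooth
  refine ⟨?_, ?_⟩
  · refine Algebra.FormallySmooth.of_split π ((Ideal.Quotient.mkₐ R _).comp ι) ?_
    ext x
    change π.kerSquareLift (Ideal.Quotient.mk _ (ι x)) = x
    exact hπι x
  · exact Algebra.FinitePresentation.of_surjective hsurj (ker_fg_of_retract R S P ι π h)

/-- ring hom version -/
theorem ringHom_smooth_of_retract {R S P : Type u} [CommRing R] [CommRing S] [CommRing P]
    (φ : R →+* S) (ι : S →+* P) (π : P →+* S) (h : π.comp ι = RingHom.id S)
    (hs : (ι.comp φ).Smooth) : φ.Smooth := by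
  letI := φ.toAlgebra
  letI : Algebra R P := (ι.comp φ).toAlgebra
  haveI : Algebra.Smooth R P := hs
  let ι' : S →ₐ[R] P := { ι with commutes' := fun r => rfl }
  let π' : P →ₐ[R] S := { π with commutes' := fun r => DFunLike.congr_fun h (φ r) }
  have h' : π'.comp ι' = AlgHom.id R S := by
    ext x
    exact DFunLike.congr_fun h x
  exact smooth_of_retract R S P ι' π' h'

end Groth.Agent.Helper6.SmRetract
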