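import Mathlib
import Groth.Agent.Helper6.SmRetract

/-!
# Helper6: scheme-level retract lemma for smoothness
-/

set_option autoImplicit false
universe u
open CategoryTheory CategoryTheory.Limits AlgebraicGeometry Opposite TopologicalSpace

namespace Groth.Agent.Helper6.SmRetractSch

theorem appLE_of_eq_id {B : Scheme.{u}} (V : B.Opens) (f : B ⟶ B) (hf : f = 𝟙 B)
    (e : V ≤ f ⁻¹ᵁ V) : f.appLE V V e = 𝟙 _ := by
  subst hf
  rw [Scheme.Hom.appLE, Scheme.Hom.id_app]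
  exact (Category.id_comp _).trans (B.presheaf.map_id (op V))

/-- If `σ ≫ e = 𝟙` and `e ≫ h` is smooth then `h` is smooth. -/
theorem smooth_of_retract {A B C : Scheme.{u}} (σ : B ⟶ A) (e : A ⟶ B) (h : B ⟶ C)
    (hσ : σ ≫ e = 𝟙 B) (hs : Smooth (e ≫ h)) : Smooth h := by
  rw [HasRingHomProperty.iff_exists_appLE (P := @Smooth)
    (RingHom.Smooth.stableUnderComposition.stableUnderCompositionWithLocalizationAway
      RingHom.Smooth.holdsForLocalizationAway).left]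
  intro b
  have heσ : ∀ x : B, e (σ x) = x := by
    intro x
    have := congrArg (fun f : B ⟶ B => f x) hσ
    simpa using this
  obtain ⟨U, hU, hbU, -⟩ := Opens.isBasis_iff_nbhd.mp C.isBasis_affineOpens
    (Opens.mem_top (h b))
  obtain ⟨V₀, hV₀, hbV₀, hV₀U⟩ := Opens.isBasis_iff_nbhd.mp B.isBasis_affineOpens
    (show b ∈ h ⁻¹ᵁ U from hbU)
  obtain ⟨W₀, hW₀, haW₀, hW₀V₀⟩ := Opens.isBasis_iff_nbhd.mp A.isBasis_affineOpens
    (show σ b ∈ e ⁻¹ᵁ V₀ from by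
      show e (σ b) ∈ V₀
      rw [heσ]; exact hbV₀)
  obtain ⟨s, hsle, hbs⟩ := hV₀.exists_basicOpen_le (V := σ ⁻¹ᵁ W₀) ⟨b, haW₀⟩ hbV₀
  have hVaff : IsAffineOpen (B.basicOpen s) := hV₀.basicOpen s
  have hWaff : IsAffineOpen (A.basicOpen (e.appLE V₀ W₀ hW₀V₀ s)) := hW₀.basicOpen _
  have hWmem : ∀ x, x ∈ A.basicOpen (e.appLE V₀ W₀ hW₀V₀ s) ↔ x ∈ W₀ ∧ e x ∈ B.basicOpen s := by
    intro x
    simp [Scheme.Hom.appLE, ← Scheme.preimage_basicOpen]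
  have hVU : B.basicOpen s ≤ h ⁻¹ᵁ U := (B.basicOpen_le s).trans hV₀U
  have hWV : A.basicOpen (e.appLE V₀ W₀ hW₀V₀ s) ≤ e ⁻¹ᵁ (B.basicOpen s) := fun x hx =>
    ((hWmem x).1 hx).2
  have hVW : B.basicOpen s ≤ σ ⁻¹ᵁ (A.basicOpen (e.appLE V₀ W₀ hW₀V₀ s)) := fun x hx =>
    (hWmem (σ x)).2 ⟨hsle hx, by rw [heσ]; exact hx⟩
  refine ⟨⟨U, hU⟩, ⟨B.basicOpen s, hVaff⟩, hbs, hVU, ?_⟩
  have h1 := HasRingHomProperty.appLE (P := @Smooth) _ hs ⟨U, hU⟩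
    ⟨A.basicOpen (e.appLE V₀ W₀ hW₀V₀ s), hWaff⟩
    (hWV.trans ((Opens.map e.base).map (homOfLE hVU)).le)
  rw [← Scheme.Hom.appLE_comp_appLE e h U (B.basicOpen s) _ hVU hWV] at h1
  have h2 : e.appLE (B.basicOpen s) _ hWV ≫ σ.appLE _ (B.basicOpen s) hVW = 𝟙 _ := by
    rw [Scheme.Hom.appLE_comp_appLE]
    exact appLE_of_eq_id _ _ hσ _
  refine SmRetract.ringHom_smooth_of_retract (h.appLE U (B.basicOpen s) hVU).hom
    (e.appLE (B.basicOpen s) _ hWV).hom (σ.appLE _ (B.basicOpen s) hVW).hom ?_ ?_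
  · have := congrArg CommRingCat.Hom.hom h2
    simpa using this
  · simpa using h1

end Groth.Agent.Helper6.SmRetractSch
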