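import Mathlib
import Groth.Agent.Helper6.SmRetractSch
import Groth.Agent.Helper3.SmoothEtSec
import Groth.Agent.Helper4.SchemeSD2

/-!
# Helper6: smoothness descends along smooth surjections on the source
-/

set_option autoImplicit false
universe u
open CategoryTheory CategoryTheory.Limits AlgebraicGeometry Opposite TopologicalSpace

namespace Groth.Agent.Helper6.SmSD

set_option backward.isDefEq.respectTransparency.types false in
/-- smoothness descends along smooth surjections on the source -/
theorem smooth_of_comp_smooth_surjective {A B C : Scheme.{u}} (e : A ⟶ B)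
    (h : B ⟶ C) [Smooth e] [Surjective e] [Smooth (e ≫ h)] : Smooth h := by
  refine Groth.Agent.Helper4.SchemeSD.of_forall_comp_etale_family @Smooth
    (fun e' h' he' hs' hP => ?_) h (fun b => ?_)
  · haveI := he'
    haveI := hs'
    haveI : Smooth (e' ≫ h') := hP
    exact Groth.Agent.Helper4.SchemeSD.smooth_of_comp_etale_surjective e' h'
  · obtain ⟨S', g, s', hg, hgs, k, hk⟩ :=
      Groth.Agent.Helper3.SmoothEtSec.main e b (e.surjective b)
    refine ⟨S', g, hg, ⟨s', hgs⟩, ?_⟩
    haveI := hg
    let σ : S' ⟶ pullback e g := pullback.lift k (𝟙 S') (by rw [hk, Category.id_comp])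
    have hσ : σ ≫ pullback.snd e g = 𝟙 S' := pullback.lift_snd _ _ _
    refine SmRetractSch.smooth_of_retract σ (pullback.snd e g) (g ≫ h) hσ ?_
    have h1 : pullback.snd e g ≫ g ≫ h = pullback.fst e g ≫ (e ≫ h) := by
      rw [← Category.assoc, ← pullback.condition, Category.assoc]
    rw [h1]
    haveI : Etale (pullback.fst e g) := inferInstance
    haveI : Smooth (pullback.fst e g) := inferInstance
    infer_instance

set_option backward.isDefEq.respectTransparency.types false in
/-- smoothness can be checked after precomposing with a jointly surjective family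
of smooth maps -/
theorem smooth_of_family {U V : Scheme.{u}} (k : U ⟶ V)
    (H : ∀ u : U, ∃ (A : Scheme.{u}) (e : A ⟶ U) (a : A), Smooth e ∧ e a = u ∧
      Smooth (e ≫ k)) :
    Smooth k := by
  choose A e a he hea hek using H
  haveI : ∀ u, Smooth (e u) := he
  haveI : ∀ u, Smooth (e u ≫ k) := hek
  haveI : Smooth (Sigma.desc e) :=
    IsZariskiLocalAtSource.sigmaDesc (P := @Smooth) (fun u => inferInstance)
  haveI : Surjective (Sigma.desc e) := by
    refine ⟨fun u => ⟨(Sigma.ι A u) (a u), ?_⟩⟩
    rw [← Scheme.Hom.comp_apply, Sigma.ι_desc]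
    exact hea u
  haveI : Smooth (Sigma.desc e ≫ k) := by
    have h1 : Sigma.desc e ≫ k = Sigma.desc (fun u => e u ≫ k) := by
      apply Sigma.hom_ext
      intro u
      rw [Sigma.ι_desc_assoc, Sigma.ι_desc]
    rw [h1]
    exact IsZariskiLocalAtSource.sigmaDesc (P := @Smooth)
      (fun u => inferInstance)
  exact smooth_of_comp_smooth_surjective (Sigma.desc e) k

end Groth.Agent.Helper6.SmSD
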