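import Groth.Agent.Helper6.LfpST
import Groth.Agent.Helper6.SmSD
import Mathlib

/-!
# Helper6: `LocP @Smooth` is smooth local on the source; `IsSmoothLocalST` for it

Scheme-level input: smooth morphisms have sections étale locally (helper3's `SmoothEtSec.main`),
which reduces descent along smooth surjections to descent along étale surjections.
-/

set_option autoImplicit false
universe u
open CategoryTheory CategoryTheory.Limits AlgebraicGeometry Opposite

namespace Groth.Agent.Helper6.SmST6

open AlgSp Groth.Agent.Helper4.SDClasses Groth.Agent.Helper5.FpqcRef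
open Groth.Agent.Helper4.AlgSpPtsDesc Groth.Agent.Helper6.DiagLft Groth.Agent.Helper6.FlatST
open Groth.Agent.Helper6.LftST

variable {S : Scheme.{u}}

set_option backward.isDefEq.respectTransparency.types false in
theorem isLocalOnSource_sm_locP_smooth :
    IsLocalOnSource (IsSmCover (S := S)) (LocP @Smooth) := by
  intro ι X Xi g hX hXi hcov Y f hY
  constructor
  · intro hf i
    exact Groth.Agent.Helper4.AlgSpLocPComp.locP_comp @Smooth good_smooth hX
      (g i) f (hcov.1 i) hf
  · intro hgf U V a b k hae hbe hcomm
    refine Groth.Agent.Helper6.SmSD.smooth_of_family k.left fun u => ?_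
    obtain ⟨i, xi, hxi⟩ := hcov.2 (Points.map a (Points.schemeHomeo U u))
    obtain ⟨A, e, l, v, hef, hev, hl, hle⟩ :=
      exists_smooth_chart hX (hXi i) (g i) (hcov.1 i) U a u xi hxi
    refine ⟨A.left, e.left, v, hef, hev, ?_⟩
    have : l ≫ (g i ≫ f) = (yon S).map (e ≫ k) ≫ b := by
      rw [← Category.assoc, hl, Category.assoc, hcomm, Functor.map_comp, Category.assoc]
    exact hgf i l b (e ≫ k) (hle hae) hbe this

theorem localBase_smooth :
    IsLocalOnBase (IsSmCover (S := S)) (LocP @Smooth) := by
  intro ι Y Yi g hY hYi hcov X f hX Xi p q hXi sq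
  exact Groth.Agent.Helper6.LocalFppf.smooth Yi g hY hYi (fppf_of_sm Yi g hcov) f hX Xi p q hXi sq

theorem post_smooth :
    Groth.Agent.Helper5.SmST.Post (LocP @Smooth)
      (LocP (S := S) @Smooth) := by
  intro X Y Z hX hY hZ f g hf hg
  exact Groth.Agent.Helper4.AlgSpLocPComp.locP_comp _ good_smooth hY f g hf hg

theorem isSmoothLocalST_smooth : IsSmoothLocalST (LocP (S := S) @Smooth) :=
  Groth.Agent.Helper5.SmST.isSmoothLocalST_of_local _ isLocalOnSource_sm_locP_smooth
    localBase_smooth post_smooth

end Groth.Agent.Helper6.SmST6
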