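import Groth.Prelude.Def_AlgSpMor5
import Groth.Agent.Helper4.AlgSpPtsDesc
import Groth.Agent.Helper4.AlgSpQC2
import Groth.Agent.Helper4.AlgSpPB
import Groth.Agent.Helper5.AlgSpProper
import Groth.Agent.S2121
import Mathlib

/-!
# Helper6: valuative criteria for morphisms of algebraic spaces
-/

set_option autoImplicit false
universe u
open CategoryTheory CategoryTheory.Limits AlgebraicGeometry Opposite

namespace Groth.Agent.Helper6.ValCrit

open AlgSp Groth.Agent.Helper4.AlgSpPtsDesc Groth.Agent.Helper4.AlgSpQC2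

variable {S : Scheme.{u}}

set_option backward.isDefEq.respectTransparency.types false in
/-- a quasi-compact morphism satisfying the existence part of the valuative criterion is
universally closed -/
theorem isUnivClosedMor_of_qc_existVC {X Y : Sp S} (hX : IsAlgSpace X) (hY : IsAlgSpace Y)
    (f : X ⟶ Y) (hq : IsQuasiCompactMor f) (he : ExistVC f) : IsUnivClosedMor f := by
  apply univClosed_of_affine
  intro Z hZ g P fst snd sq C hC
  haveI : IsAffine Z.left := hZ
  have hPqc : IsQuasiCompactSp P :=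
    hq (IsAlgSpace.yon_obj Z) (isQuasiCompactSp_yon Z) g fst snd sq
  obtain ⟨W, a, hae, has, hWc⟩ := hPqc
  haveI : CompactSpace W.left := hWc
  obtain ⟨c, hc⟩ := (yon S).map_surjective (a ≫ snd)
  -- the closed subset of `W`
  let CW : Set W.left := (Points.schemeHomeo W) ⁻¹' (Points.map a ⁻¹' C)
  have hCW : IsClosed CW :=
    (hC.preimage (Points.continuous_map a)).preimage (Points.schemeHomeo W).continuous
  let I := Scheme.IdealSheafData.vanishingIdeal ⟨CW, hCW⟩
  let i : I.subscheme ⟶ W.left := I.subschemeι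
  have hri : Set.range i = CW := by
    rw [I.range_subschemeι]
    exact Scheme.IdealSheafData.coe_support_vanishingIdeal _
  haveI : QuasiCompact c.left := (HasAffineProperty.iff_of_isAffine (P := @QuasiCompact)).mpr
    (inferInstance : CompactSpace W.left)
  haveI : QuasiCompact (i ≫ c.left) := inferInstance
  rw [← closure_subset_iff_isClosed]
  intro yb hyb
  obtain ⟨y, rfl⟩ := (Points.schemeHomeo Z).surjective yb
  have himg : Points.map snd '' C ⊆ (Points.schemeHomeo Z) '' (Set.range (i ≫ c.left).base) := by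
    rintro _ ⟨p, hp, rfl⟩
    obtain ⟨r, hr⟩ := Groth.Agent.Helper4.AlgSpPts.isSurjectiveMor_of_repWith a has p
    obtain ⟨w, rfl⟩ := (Points.schemeHomeo W).surjective r
    have hw : w ∈ CW := by
      change Points.map a (Points.schemeHomeo W w) ∈ C
      rw [hr]
      exact hp
    rw [← hri] at hw
    obtain ⟨w', rfl⟩ := hw
    refine ⟨c.left (i w'), ⟨w', rfl⟩, ?_⟩
    rw [← Points.map_yon_map_apply, hc, Points.map_comp, hr]
  have hy : y ∈ closure (Set.range (i ≫ c.left).base) := by
    have h1 := closure_mono himg hyb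
    rw [← (Points.schemeHomeo Z).image_closure] at h1
    obtain ⟨y', hy', hyy'⟩ := h1
    rwa [← (Points.schemeHomeo Z).injective hyy']
  obtain ⟨A, i1, i2, i3, x', y', hxy, hy'⟩ := Groth.Agent.S2121.aux (i ≫ c.left) y hy
  let jA : Spec (CommRingCat.of (FractionRing A)) ⟶ Spec (CommRingCat.of A) :=
    Spec.map (CommRingCat.ofHom (algebraMap A (FractionRing A)))
  have hxw : (x' ≫ i) ≫ W.hom = jA ≫ y' ≫ Z.hom := by
    rw [← Over.w c, ← Category.assoc, Category.assoc x' i, hxy, Category.assoc]
  let xo : Over.mk (jA ≫ y' ≫ Z.hom) ⟶ W := Over.homMk (x' ≫ i) hxw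
  let yo : Over.mk (y' ≫ Z.hom) ⟶ Z := Over.homMk y' rfl
  let jo : Over.mk (jA ≫ y' ≫ Z.hom) ⟶ Over.mk (y' ≫ Z.hom) := Over.homMk jA rfl
  have hxc : xo ≫ c = jo ≫ yo := by
    ext
    change (x' ≫ i) ≫ c.left = jA ≫ y'
    rw [Category.assoc]
    exact hxy
  let sq' : ValSq f :=
    { A := A, K := FractionRing A, str := y' ≫ Z.hom, top := (yon S).map xo ≫ a ≫ fst,
      bot := (yon S).map yo ≫ g,
      comm := by
        have h1 : (yon S).map xo ≫ (yon S).map c = (yon S).map jo ≫ (yon S).map yo := by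
          rw [← Functor.map_comp, ← Functor.map_comp, hxc]
        calc ((yon S).map xo ≫ a ≫ fst) ≫ f = (yon S).map xo ≫ a ≫ (fst ≫ f) := by
              simp only [Category.assoc]
          _ = (yon S).map xo ≫ (a ≫ snd) ≫ g := by rw [sq.w]; simp only [Category.assoc]
          _ = ((yon S).map xo ≫ (yon S).map c) ≫ g := by rw [hc]; simp only [Category.assoc]
          _ = _ := by rw [h1]; simp only [Category.assoc]; rfl }
  obtain ⟨e, l, hl₁, hl₂⟩ := he sq'
  let φo : e.ptA' ⟶ sq'.ptA := Over.homMk (Spec.map (CommRingCat.ofHom e.φ)) rfl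
  have hlift : l ≫ f = ((yon S).map (φo ≫ yo)) ≫ g := by
    rw [hl₂, Functor.map_comp, Category.assoc]
  let m := sq.lift l ((yon S).map (φo ≫ yo)) hlift
  have hm1 : m ≫ fst = l := sq.lift_fst _ _ _
  have hm2 : m ≫ snd = (yon S).map (φo ≫ yo) := sq.lift_snd _ _ _
  let κ : e.ptK' ⟶ e.ptA' :=
    Over.homMk (Spec.map (CommRingCat.ofHom (algebraMap e.A' e.K'))) rfl
  have hcomm' : Spec.map (CommRingCat.ofHom (algebraMap e.A' e.K')) ≫
      Spec.map (CommRingCat.ofHom e.φ) = Spec.map (CommRingCat.ofHom e.ψ) ≫ jA := by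
    rw [← Spec.map_comp, ← Spec.map_comp, ← CommRingCat.ofHom_comp, ← CommRingCat.ofHom_comp,
      e.comm]
  let ψo : e.ptK' ⟶ sq'.ptK := Over.homMk (Spec.map (CommRingCat.ofHom e.ψ)) (by
    change Spec.map _ ≫ jA ≫ _ = Spec.map _ ≫ Spec.map _ ≫ _
    rw [← Category.assoc, ← hcomm', Category.assoc])
  have hκφ : κ ≫ φo = ψo ≫ jo := by
    ext
    exact hcomm'
  have hκ : (yon S).map κ ≫ m = (yon S).map (ψo ≫ xo) ≫ a := by
    apply sq.hom_ext
    · rw [Category.assoc, hm1, hl₁, Category.assoc, Functor.map_comp, Category.assoc]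
    · rw [Category.assoc, hm2, Category.assoc, ← hc, ← Functor.map_comp, ← Functor.map_comp,
        Category.assoc, hxc, ← Category.assoc, hκφ, Category.assoc]
  let pt : e.ptK'.left := IsLocalRing.closedPoint e.K'
  have h1 : Points.map m (Points.schemeHomeo e.ptA' (κ.left pt)) ∈ C := by
    rw [← Points.map_yon_map_apply, ← Points.map_comp, hκ, Points.map_comp,
      Points.map_yon_map_apply]
    have : (ψo ≫ xo).left pt ∈ CW := by
      rw [← hri]
      exact ⟨x' (ψo.left pt), rfl⟩
    exact this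
  have h2 : Points.map m (Points.schemeHomeo e.ptA' (IsLocalRing.closedPoint e.A')) ∈ C := by
    have hD : IsClosed ((Points.schemeHomeo e.ptA') ⁻¹' (Points.map m ⁻¹' C)) :=
      (hC.preimage (Points.continuous_map m)).preimage (Points.schemeHomeo _).continuous
    exact (IsLocalRing.specializes_closedPoint (R := e.A') (κ.left pt)).mem_closed hD h1
  refine ⟨_, h2, ?_⟩
  rw [← Points.map_comp, hm2, Points.map_yon_map_apply]
  congr 1
  change y' (Spec.map (CommRingCat.ofHom e.φ) (IsLocalRing.closedPoint e.A')) = y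
  rw [show Spec.map (CommRingCat.ofHom e.φ) (IsLocalRing.closedPoint e.A') =
    IsLocalRing.closedPoint A from
      (IsLocalRing.isLocalHom_iff_comap_closedPoint e.φ).mp e.isLocalHom, hy']

/-- a lift without extension gives a lift after the trivial extension -/
theorem hasLiftExt_of_hasLift {F G : Sp S} {f : F ⟶ G} (sq : ValSq f) (h : sq.HasLift) :
    sq.HasLiftExt := by
  obtain ⟨l, hl₁, hl₂⟩ := h
  let e : sq.DomExt :=
    { A' := sq.A, K' := sq.K, φ := RingHom.id _, ψ := RingHom.id _, comm := rfl,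
      isLocalHom := inferInstance }
  refine ⟨e, (yon S).map (Over.homMk (Spec.map (CommRingCat.ofHom e.φ)) rfl : e.ptA' ⟶ sq.ptA) ≫ l,
    ?_, ?_⟩
  · rw [← hl₁, ← Category.assoc, ← Category.assoc, ← Functor.map_comp, ← Functor.map_comp]
    congr 2
    ext
    change Spec.map (CommRingCat.ofHom (algebraMap sq.A sq.K)) ≫
        Spec.map (CommRingCat.ofHom (RingHom.id sq.A)) =
      Spec.map (CommRingCat.ofHom (RingHom.id sq.K)) ≫
        Spec.map (CommRingCat.ofHom (algebraMap sq.A sq.K))
    rw [← Spec.map_comp, ← Spec.map_comp, ← CommRingCat.ofHom_comp, ← CommRingCat.ofHom_comp,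
      RingHom.comp_id, RingHom.id_comp]
  · rw [Category.assoc, hl₂]

/-- uniqueness in the valuative criterion for `f` gives existence for the diagonal of `f` -/
theorem existVC_diagonal_of_uniqVC {X Y : Sp S} (f : X ⟶ Y) (hu : UniqVC f) :
    ExistVC (pullback.diagonal f) := by
  intro sq
  apply hasLiftExt_of_hasLift
  let l₁ := sq.bot ≫ pullback.fst f f
  let l₂ := sq.bot ≫ pullback.snd f f
  have h₁ : (yon S).map sq.j ≫ l₁ = sq.top := by
    rw [← Category.assoc, ← sq.comm, Category.assoc, pullback.diagonal_fst, Category.comp_id]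
  have h₂ : (yon S).map sq.j ≫ l₂ = sq.top := by
    rw [← Category.assoc, ← sq.comm, Category.assoc, pullback.diagonal_snd, Category.comp_id]
  let sqf : ValSq f :=
    { A := sq.A, K := sq.K, str := sq.str, top := sq.top, bot := l₁ ≫ f,
      comm := by rw [← Category.assoc, h₁] }
  have h12 : l₁ = l₂ := hu sqf l₁ l₂ h₁ rfl h₂ (by
    change (sq.bot ≫ pullback.snd f f) ≫ f = (sq.bot ≫ pullback.fst f f) ≫ f
    rw [Category.assoc, Category.assoc, pullback.condition])
  refine ⟨l₁, h₁, ?_⟩
  apply pullback.hom_ext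
  · rw [Category.assoc, pullback.diagonal_fst, Category.comp_id]
  · rw [Category.assoc, pullback.diagonal_snd, Category.comp_id]
    exact h12

/-- S10291 -/
theorem isSeparatedMor_of_qs_uniqVC {X Y : Sp S} (hX : IsAlgSpace X) (hY : IsAlgSpace Y)
    (f : X ⟶ Y) (hqs : IsQuasiSeparatedMor f) (hu : UniqVC f) : IsSeparatedMor f := by
  apply Groth.Agent.Helper5.AlgSpProper.isSeparatedMor_of_diagonal_univClosed hX f
  have hPB : IsAlgSpace (pullback f f) :=
    Groth.Agent.Helper4.AlgSpPB.isAlgSpace_of_isPullback hY.diag hX hX f f _ _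
      (IsPullback.of_hasPullback f f)
  exact isUnivClosedMor_of_qc_existVC hX hPB _
    (Groth.Agent.Helper4.AlgSpQC.isQuasiCompactMor_of_repWith _ hqs)
    (existVC_diagonal_of_uniqVC f hu)

end Groth.Agent.Helper6.ValCrit
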