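import Mathlib
import Groth.Prelude
import Groth.Agent.Helper9.ReflKer
import Groth.Agent.Helper9.DepthKer

/-!
# `Hom(M, N)` as a kernel of a map `N^n → N^m`, its localization, and Serre's condition
-/

set_option autoImplicit false
universe u v

namespace Groth.Agent.Helper6.HomKer

open LocCoh

variable {B : Type u} [CommRing B]

/-- For a finitely presented module `M` (here: finite over Noetherian), `Hom(M, N)` is the
kernel of a map `N^n → N^m`. -/
theorem exists_hom_ker_presentation [IsNoetherianRing B] (M : Type v) [AddCommGroup M] [Module B M]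
    [Module.Finite B M] (N : Type v) [AddCommGroup N] [Module B N] :
    ∃ (n m : ℕ) (ι : (M →ₗ[B] N) →ₗ[B] (Fin n → N)) (u : (Fin n → N) →ₗ[B] (Fin m → N)),
      Function.Injective ι ∧ Function.Exact ι u := by
  classical
  obtain ⟨n, π, hπ⟩ := Module.Finite.exists_fin' B M
  have : IsNoetherian B (Fin n → B) := inferInstance
  obtain ⟨m, ρ, hρ⟩ := Module.Finite.exists_fin' B (LinearMap.ker π)
  let ρ' : (Fin m → B) →ₗ[B] (Fin n → B) := (LinearMap.ker π).subtype ∘ₗ ρ
  have hρ'ker : ∀ d, π (ρ' d) = 0 := fun d => (ρ d).2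
  have hρ'surj : ∀ c, π c = 0 → ∃ d, ρ' d = c := by
    intro c hc
    obtain ⟨d, hd⟩ := hρ ⟨c, hc⟩
    exact ⟨d, congrArg Subtype.val hd⟩
  let φ : Fin n → M := fun i => π (Pi.single i 1)
  have hπc : ∀ c : Fin n → B, π c = ∑ i, c i • φ i := by
    intro c
    have : c = ∑ i, c i • (Pi.single i 1 : Fin n → B) := by
      ext j
      simp [Finset.sum_apply, Pi.single_apply]
    conv_lhs => rw [this]
    simp only [map_sum, map_smul, φ]
  let ι : (M →ₗ[B] N) →ₗ[B] (Fin n → N) :=
    LinearMap.pi fun i => LinearMap.applyₗ (φ i)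
  have hι : ∀ f i, ι f i = f (φ i) := fun f i => rfl
  let u : (Fin n → N) →ₗ[B] (Fin m → N) :=
    LinearMap.pi fun j => ∑ i, (ρ' (Pi.single j 1) i) • (LinearMap.proj i : (Fin n → N) →ₗ[B] N)
  have hu : ∀ v j, u v j = ∑ i, ρ' (Pi.single j 1) i • v i := by
    intro v j
    simp [u, LinearMap.pi_apply, LinearMap.sum_apply]
  have hρ'd : ∀ d : Fin m → B, ρ' d = ∑ j, d j • ρ' (Pi.single j 1) := by
    intro d
    have : d = ∑ j, d j • (Pi.single j 1 : Fin m → B) := by
      ext j
      simp [Finset.sum_apply, Pi.single_apply]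
    conv_lhs => rw [this]
    simp only [map_sum, map_smul]
  have hinj : Function.Injective ι := by
    rw [injective_iff_map_eq_zero]
    intro g hg
    ext x
    obtain ⟨c, rfl⟩ := hπ x
    rw [LinearMap.zero_apply, hπc, map_sum]
    refine Finset.sum_eq_zero fun i _ => ?_
    rw [map_smul]
    have : g (φ i) = 0 := congrFun hg i
    rw [this, smul_zero]
  have hex : Function.Exact ι u := by
    intro v
    constructor
    · intro hv
      let ℓ : (Fin n → B) →ₗ[B] N :=
        ∑ i, (LinearMap.toSpanSingleton B N (v i)) ∘ₗ (LinearMap.proj i : (Fin n → B) →ₗ[B] B)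
      have hℓ : ∀ c, ℓ c = ∑ i, c i • v i := by
        intro c
        simp [ℓ, LinearMap.sum_apply]
      have hker : LinearMap.ker π ≤ LinearMap.ker ℓ := by
        intro c hc
        obtain ⟨d, rfl⟩ := hρ'surj c hc
        rw [LinearMap.mem_ker, hρ'd, map_sum]
        refine Finset.sum_eq_zero fun j _ => ?_
        rw [map_smul, hℓ]
        have := congrFun hv j
        rw [hu] at this
        rw [this]
        simp
      let ξ : M →ₗ[B] N :=
        ((LinearMap.ker π).liftQ ℓ hker) ∘ₗ (π.quotKerEquivOfSurjective hπ).symm.toLinearMap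
      have hξ : ∀ c, ξ (π c) = ℓ c := by
        intro c
        simp only [ξ, LinearMap.comp_apply, LinearEquiv.coe_coe]
        have : (π.quotKerEquivOfSurjective hπ).symm (π c) = Submodule.Quotient.mk c := by
          rw [LinearEquiv.symm_apply_eq]
          rfl
        rw [this, Submodule.liftQ_apply]
      refine ⟨ξ, ?_⟩
      ext i
      rw [hι]
      have h1 : ξ (φ i) = ℓ (Pi.single i 1) := hξ _
      rw [h1, hℓ]
      simp [Pi.single_apply]
    · rintro ⟨g, rfl⟩
      ext j
      rw [hu, Pi.zero_apply]
      have h1 := hρ'ker (Pi.single j 1)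
      rw [hπc] at h1
      have h2 := congrArg g h1
      rw [map_sum, map_zero] at h2
      rw [← h2]
      refine Finset.sum_congr rfl fun i _ => ?_
      rw [map_smul, hι]
  exact ⟨n, m, ι, u, hinj, hex⟩

/-- Localizing a kernel presentation at a prime. -/
theorem exists_loc_ker_equiv {G N : Type v} [AddCommGroup G] [Module B G] [AddCommGroup N]
    [Module B N] (p : Ideal B) [p.IsPrime]
    {n m : ℕ} (ι : G →ₗ[B] (Fin n → N)) (u : (Fin n → N) →ₗ[B] (Fin m → N))
    (hι : Function.Injective ι) (hex : Function.Exact ι u) :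
    ∃ u' : (Fin n → LocalizedModule p.primeCompl N) →ₗ[Localization.AtPrime p]
        (Fin m → LocalizedModule p.primeCompl N),
      Nonempty (LocalizedModule p.primeCompl G ≃ₗ[Localization.AtPrime p] LinearMap.ker u') := by
  let S := p.primeCompl
  let f₀ := LocalizedModule.mkLinearMap S G
  let f₁ : (Fin n → N) →ₗ[B] (Fin n → LocalizedModule S N) :=
    LinearMap.pi fun i => (LocalizedModule.mkLinearMap S N) ∘ₗ LinearMap.proj i
  let f₂ : (Fin m → N) →ₗ[B] (Fin m → LocalizedModule S N) :=
    LinearMap.pi fun i => (LocalizedModule.mkLinearMap S N) ∘ₗ LinearMap.proj i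
  have h₁ : IsLocalizedModule S f₁ :=
    IsLocalizedModule.pi S (fun _ : Fin n => LocalizedModule.mkLinearMap S N)
  have h₂ : IsLocalizedModule S f₂ :=
    IsLocalizedModule.pi S (fun _ : Fin m => LocalizedModule.mkLinearMap S N)
  let ι' : LocalizedModule S G →ₗ[Localization.AtPrime p] (Fin n → LocalizedModule S N) :=
    IsLocalizedModule.mapExtendScalars S f₀ f₁ (Localization.AtPrime p) ι
  let u' : (Fin n → LocalizedModule S N) →ₗ[Localization.AtPrime p]
      (Fin m → LocalizedModule S N) :=
    IsLocalizedModule.mapExtendScalars S f₁ f₂ (Localization.AtPrime p) u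
  have hinj : Function.Injective ι' := IsLocalizedModule.map_injective S f₀ f₁ ι hι
  have hex' : Function.Exact ι' u' := IsLocalizedModule.map_exact S f₀ f₁ f₂ ι u hex
  have hrange : LinearMap.range ι' = LinearMap.ker u' := (LinearMap.exact_iff.mp hex').symm
  exact ⟨u', ⟨(LinearEquiv.ofInjective ι' hinj).trans (LinearEquiv.ofEq _ _ hrange)⟩⟩

/-- the support of a finite power is contained in the support. -/
theorem supportDim_pi_le (X : Type v) [AddCommGroup X] [Module B X] (n : ℕ) :
    Module.supportDim B (Fin n → X) ≤ Module.supportDim B X := by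
  classical
  have hsub : Module.support B (Fin n → X) ⊆ Module.support B X := by
    intro q hq
    by_contra hq'
    revert hq
    rw [imp_false, Module.notMem_support_iff'] at *
    intro v
    choose r hr hrv using fun i => hq' (v i)
    refine ⟨∏ i, r i, ?_, ?_⟩
    · have : ∏ i, r i ∈ q.asIdeal.primeCompl := prod_mem fun i _ => hr i
      exact this
    · ext i
      rw [Pi.smul_apply, Pi.zero_apply, ← Finset.prod_erase_mul _ _ (Finset.mem_univ i), mul_smul,
        hrv i, smul_zero]
  exact Order.krullDim_le_of_strictMono (fun a => ⟨a.1, hsub a.2⟩) (fun {_ _} h => h)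

end Groth.Agent.Helper6.HomKer
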