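import Mathlib
import Groth.Prelude.Def_FibCat2
import Groth.Prelude.Def_AlgSt
import Groth.Agent.Helper3.EquivOver
import Groth.Agent.Helper3.TwoYoneda

/-!
# Helper6: morphisms of a prestack are determined locally
-/

set_option autoImplicit false
set_option linter.style.haveILetI false
universe v u

namespace Groth.Agent.Helper6.StkLocal
open CategoryTheory Functor FibCat Limits
open Groth.Agent.Helper3

variable {C : Type u} [Category.{v} C]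

theorem fiber_hom_ext_of_locally {𝒯 : BasedCategory.{v, max u v} C} (h𝒯 : IsFibGrpd 𝒯.p) {V : C}
    (R : Sieve V) [hR : (Stk.resSieve R 𝒯).Faithful] (a₀ a₁ : 𝒯.p.Fiber V) (γ₀ δ₀ : a₀ ⟶ a₁)
    (h : ∀ ⦃V' : C⦄ (f : V' ⟶ V), R f → ∀ (s : 𝒯.obj) (ψ : s ⟶ a₀.1), 𝒯.p.IsHomLift f ψ →
      ψ ≫ γ₀.1 = ψ ≫ δ₀.1) : γ₀ = δ₀ := by
  haveI := TwoYoneda.evalAtId_isEquivalence_of_isFibGrpd (𝒳 := 𝒯) V h𝒯
  obtain ⟨T, ⟨ε⟩⟩ := Functor.EssSurj.mem_essImage (F := FibCat.evalAtId 𝒯 V) a₀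
  obtain ⟨T', ⟨ε'⟩⟩ := Functor.EssSurj.mem_essImage (F := FibCat.evalAtId 𝒯 V) a₁
  let Γ : T ⟶ T' := (FibCat.evalAtId 𝒯 V).preimage (ε.hom ≫ γ₀ ≫ ε'.inv)
  let Δ : T ⟶ T' := (FibCat.evalAtId 𝒯 V).preimage (ε.hom ≫ δ₀ ≫ ε'.inv)
  have hΓ : (FibCat.evalAtId 𝒯 V).map Γ = ε.hom ≫ γ₀ ≫ ε'.inv := Functor.map_preimage _ _
  have hΔ : (FibCat.evalAtId 𝒯 V).map Δ = ε.hom ≫ δ₀ ≫ ε'.inv := Functor.map_preimage _ _
  let e₁ : T.obj (Over.mk (𝟙 V)) ⟶ a₀.1 := ε.hom.1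
  let e₂ : a₁.1 ⟶ T'.obj (Over.mk (𝟙 V)) := ε'.inv.1
  have hΓ1 : Γ.toNatTrans.app (Over.mk (𝟙 V)) = e₁ ≫ γ₀.1 ≫ e₂ :=
    congrArg Subtype.val hΓ
  have hΔ1 : Δ.toNatTrans.app (Over.mk (𝟙 V)) = e₁ ≫ δ₀.1 ≫ e₂ :=
    congrArg Subtype.val hΔ
  have key : (Stk.resSieve R 𝒯).map Γ = (Stk.resSieve R 𝒯).map Δ := by
    apply BasedNatTrans.homCategory.ext
    apply NatTrans.ext
    funext a
    change Γ.toNatTrans.app a.obj = Δ.toNatTrans.app a.obj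
    let ta : a.obj ⟶ Over.mk (𝟙 V) := Over.homMk a.obj.hom (by simp)
    haveI hl0 : (FibCat.overCat V).p.IsHomLift a.obj.hom ta :=
      Functor.IsHomLift.map (p := (FibCat.overCat V).p) ta
    haveI hl1 : 𝒯.p.IsHomLift a.obj.hom (T'.map ta) :=
      @BasedFunctor.preserves_isHomLift _ _ _ _ T' _ _ _ _ a.obj.hom ta hl0
    haveI hl2 : 𝒯.p.IsHomLift a.obj.hom (T.map ta) :=
      @BasedFunctor.preserves_isHomLift _ _ _ _ T _ _ _ _ a.obj.hom ta hl0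
    haveI := FibGrpd.isStronglyCartesian h𝒯 a.obj.hom (T'.map ta)
    haveI h1 : 𝒯.p.IsHomLift (𝟙 a.obj.left) (Γ.toNatTrans.app a.obj) := Γ.isHomLift' a.obj
    haveI h2 : 𝒯.p.IsHomLift (𝟙 a.obj.left) (Δ.toNatTrans.app a.obj) := Δ.isHomLift' a.obj
    apply IsStronglyCartesian.ext 𝒯.p a.obj.hom (T'.map ta) (𝟙 a.obj.left)
    have n1 := Γ.toNatTrans.naturality ta
    have n2 := Δ.toNatTrans.naturality ta
    rw [← n1, ← n2, hΓ1, hΔ1]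
    haveI hε : 𝒯.p.IsHomLift (𝟙 V) e₁ := ε.hom.2
    have hψ : 𝒯.p.IsHomLift a.obj.hom (T.map ta ≫ e₁) :=
      @IsHomLift.comp_lift_id_right _ _ _ _ 𝒯.p _ _ _ _ _ a.obj.hom (T.map ta) hl2 e₁ hε
    have := h a.obj.hom a.property _ (T.map ta ≫ e₁) hψ
    calc T.map ta ≫ e₁ ≫ γ₀.1 ≫ e₂ = ((T.map ta ≫ e₁) ≫ γ₀.1) ≫ e₂ := by
          simp only [Category.assoc]
      _ = ((T.map ta ≫ e₁) ≫ δ₀.1) ≫ e₂ := by rw [this]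
      _ = T.map ta ≫ e₁ ≫ δ₀.1 ≫ e₂ := by simp only [Category.assoc]
  have hΓΔ : Γ = Δ := (Stk.resSieve R 𝒯).map_injective key
  have e1 : ε.hom ≫ γ₀ ≫ ε'.inv = ε.hom ≫ δ₀ ≫ ε'.inv := by rw [← hΓ, ← hΔ, hΓΔ]
  have e3 : ε.inv ≫ (ε.hom ≫ γ₀ ≫ ε'.inv) ≫ ε'.hom = ε.inv ≫ (ε.hom ≫ δ₀ ≫ ε'.inv) ≫ ε'.hom := by
    rw [e1]
  have k : ∀ ζ : a₀ ⟶ a₁, ε.inv ≫ (ε.hom ≫ ζ ≫ ε'.inv) ≫ ε'.hom = ζ := by
    intro ζ
    rw [Category.assoc, Category.assoc, Iso.inv_hom_id, Category.comp_id, Iso.inv_hom_id_assoc]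
  rw [k, k] at e3
  exact e3

/-- In a category fibred in groupoids for which restriction to the sieve `R` is faithful, two
morphisms over the identity that agree after precomposition with every morphism lying over an
arrow of `R` are equal. -/
theorem hom_ext_of_locally {𝒯 : BasedCategory.{v, max u v} C} (h𝒯 : IsFibGrpd 𝒯.p) {V : C} (R : Sieve V)
    [hR : (Stk.resSieve R 𝒯).Faithful] {t t' : 𝒯.obj} (ht : 𝒯.p.obj t = V)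
    (γ δ : t ⟶ t') [hγ : 𝒯.p.IsHomLift (𝟙 V) γ] [hδ : 𝒯.p.IsHomLift (𝟙 V) δ]
    (h : ∀ ⦃V' : C⦄ (f : V' ⟶ V), R f → ∀ (s : 𝒯.obj) (ψ : s ⟶ t), 𝒯.p.IsHomLift f ψ →
      ψ ≫ γ = ψ ≫ δ) : γ = δ := by
  have ht' : 𝒯.p.obj t' = V := IsHomLift.codomain_eq 𝒯.p (𝟙 V) γ
  have := fiber_hom_ext_of_locally h𝒯 R (⟨t, ht⟩ : 𝒯.p.Fiber V) ⟨t', ht'⟩ ⟨γ, hγ⟩ ⟨δ, hδ⟩ h
  exact congrArg Subtype.val this

end Groth.Agent.Helper6.StkLocal
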