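import Mathlib
import Groth.Agent.Helper6.OpenSub4

/-!
# Helper6: open substacks V — open substacks correspond to open sets of points
-/

set_option autoImplicit false
set_option linter.style.haveILetI false
set_option linter.unusedVariables false
universe u

namespace Groth.Agent.Helper6.OpenSub5
open CategoryTheory Functor FibCat Limits AlgebraicGeometry Opposite
open Groth.Agent.Helper3 Stk Groth.Agent.Helper6.OfPsh Groth.Agent.Helper6.OfPshHom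
open Groth.Agent.Helper6.FpTools Groth.Agent.Helper6.OfPshFp Groth.Agent.Helper6.AlgStRep
open Groth.Agent.Helper6.AlgStEquiv Groth.Agent.Helper6.AlgStInv Groth.Agent.Helper6.AlgStPsh
open Groth.Agent.Helper6.DiagRed Groth.Agent.Helper6.RepDiag Groth.Agent.Helper6.RepComp
open Groth.Agent.Helper6.DiagRep Groth.Agent.Helper6.AlgStPts Groth.Agent.Helper6.StPts
open Groth.Agent.Helper6.SmLoc Groth.Agent.Helper6.ChartOver Groth.Agent.Helper6.StTop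
open Groth.Agent.Helper6.QcMor2 Groth.Agent.Helper6.SpAtlas Groth.Agent.Helper4.SDClasses
open Groth.Agent.Helper6.Descent1 Groth.Agent.Helper6.Descent2 Groth.Agent.Helper6.LocQ0
open Groth.Agent.Helper6.LocQ1 Groth.Agent.Helper6.LocQ2 Groth.Agent.Helper6.AlgStBC
open Groth.Agent.Helper6.OverRep Groth.Agent.Helper6.LocQ3 Groth.Agent.Helper6.LocQ4
open Groth.Agent.Helper6.FlatST Groth.Agent.Helper6.DiagLft Groth.Agent.Helper6.ToSpace
open Groth.Agent.Helper6.LocQ5 Groth.Agent.Helper6.OpenSub1 Groth.Agent.Helper6.OpenSub2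
open Groth.Agent.Helper6.OpenSub3 Groth.Agent.Helper6.OpenSub4
open AlgSp


variable {S : Scheme.{u}} {𝒳 𝒴 : AlgSt.Cat S}

set_option backward.isDefEq.respectTransparency.types false in
/-- a functor representable by schemes with `Q`: its base change to a scheme chart is a scheme -/
theorem rep_scheme_chart (Q : MorphismProperty Scheme.{u}) (f : 𝒳 ⥤ᵇ 𝒴)
    (hf : AlgSt.RepByAlgSpWith (RepWith Q) f) {V : Over S} (y : overCat V ⥤ᵇ 𝒴) :
    ∃ (V' : Over S) (c' : V' ⟶ V) (E : overCat V' ⥤ᵇ fp y f), IsEquivOver E ∧ Q c'.left ∧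
      Nonempty (BasedFunctor.comp E (fpFst y f) ≅ AlgSt.overMap c') := by
  obtain ⟨F, e, he, ha⟩ := hf V y
  obtain ⟨c, ⟨θ⟩⟩ := exists_ofSpMap_iso (BasedFunctor.comp e (fpFst y f))
  rw [spMapOfOver_congr θ, spMapOfOver_ofSpMap_toOverCat] at ha
  have hr := ha.rep
  have sq := hr.isPullback (𝟙 ((yon S).obj V))
  haveI hw : IsIso (hr.fst (𝟙 ((yon S).obj V))) := sq.isIso_fst_of_isIso
  have hQ : Q (hr.snd (𝟙 ((yon S).obj V))).left :=
    ((repWith_iff Q c).1 ha).2 (𝟙 _) _ _ sq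
  have hwe : IsEquivOver (AlgSt.ofSpMap (hr.fst (𝟙 ((yon S).obj V)))) :=
    isEquivOver_ofPshMap_iso
      ((sheafToPresheaf _ _).mapIso (asIso (hr.fst (𝟙 ((yon S).obj V)))))
  have hE : IsEquivOver (BasedFunctor.comp (atlasChart (hr.fst (𝟙 ((yon S).obj V)))) e) :=
    isEquivOver_comp (isEquivOver_comp (isEquivOver_ofOverCat _) hwe) he
  have key : hr.fst (𝟙 ((yon S).obj V)) ≫ c = (yon S).map (hr.snd (𝟙 ((yon S).obj V))) := by
    rw [sq.w, Category.comp_id]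
  refine ⟨hr.pullback (𝟙 ((yon S).obj V)), hr.snd (𝟙 ((yon S).obj V)),
    BasedFunctor.comp (atlasChart (hr.fst (𝟙 ((yon S).obj V)))) e, hE, hQ, ⟨?_⟩⟩
  refine whiskerLeftIso' (atlasChart (hr.fst (𝟙 ((yon S).obj V)))) θ ≪≫ ?_
  exact whiskerLeftIso' (AlgSt.ofOverCat _)
    (whiskerRightIso' (eqToIso (congrArg AlgSt.ofSpMap key)) (AlgSt.toOverCat V))

/-- the objects of an open substack have their points in its set of points -/
theorem QT_range_of_Q (h𝒳 : AlgSt.IsAlgStack Scheme.fppfPrecoverage 𝒳) (Q : 𝒳.obj → Prop)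
    (hQ : AlgSt.IsOpenSubstack 𝒳 Q Scheme.fppfPrecoverage) (x : 𝒳.obj) (hx : Q x) :
    QT (Set.range (AlgSt.Points.map (AlgSt.subIncl 𝒳 Q))) x :=
  (QT_obj_iff (Set.range (AlgSt.Points.map (AlgSt.subIncl 𝒳 Q))) hQ.2.1.isStack.1 h𝒳.isStack.1
    (AlgSt.subIncl 𝒳 Q)).2 (fun q => ⟨q, rfl⟩)
    (⟨x, hx⟩ : (AlgSt.fullSub 𝒳 Q).obj)

/-- S12861 -/
theorem exists_isOpenSubstack_union (h𝒳 : AlgSt.IsAlgStack Scheme.fppfPrecoverage 𝒳) {ι : Type*}
    (Q : ι → 𝒳.obj → Prop) (hQ : ∀ i, AlgSt.IsOpenSubstack 𝒳 (Q i) Scheme.fppfPrecoverage) :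
    ∃ Q' : 𝒳.obj → Prop, AlgSt.IsOpenSubstack 𝒳 Q' Scheme.fppfPrecoverage ∧ (∀ i y, Q i y → Q' y) ∧
      Set.range (AlgSt.Points.map (AlgSt.subIncl 𝒳 Q')) =
        ⋃ i, Set.range (AlgSt.Points.map (AlgSt.subIncl 𝒳 (Q i))) := by
  refine ⟨QT (⋃ i, Set.range (AlgSt.Points.map (AlgSt.subIncl 𝒳 (Q i)))),
    isOpenSubstack_QT _ h𝒳
      (isOpen_iUnion fun i => isOpen_range_of_isOpenSubstack h𝒳 (Q i) (hQ i)),
    fun i y hy => QT_mono (Set.subset_iUnion _ i) (QT_range_of_Q h𝒳 (Q i) (hQ i) y hy),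
    range_subIncl_QT _⟩

set_option backward.isDefEq.respectTransparency.types false in
/-- an object whose points lie in the set of points of an open substack belongs to it -/
theorem Q_of_QT_range (h𝒳 : AlgSt.IsAlgStack Scheme.fppfPrecoverage 𝒳) (Q : 𝒳.obj → Prop)
    (hQ : AlgSt.IsOpenSubstack 𝒳 Q Scheme.fppfPrecoverage) (x : 𝒳.obj)
    (hx : QT (Set.range (AlgSt.Points.map (AlgSt.subIncl 𝒳 Q))) x) : Q x := by
  have hX : IsFibGrpd 𝒳.p := h𝒳.isStack.1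
  have hfull : IsFibGrpd (AlgSt.fullSub 𝒳 Q).p := hQ.2.1.isStack.1
  let U : Over S := 𝒳.p.obj x
  haveI := TwoYoneda.evalAtId_isEquivalence_of_isFibGrpd (𝒳 := 𝒳) U hX
  obtain ⟨X, ⟨j⟩⟩ := Functor.EssSurj.mem_essImage (F := FibCat.evalAtId 𝒳 U) ⟨x, rfl⟩
  let j' : X.obj (Over.mk (𝟙 U)) ≅ x := (Functor.Fiber.fiberInclusion).mapIso j
  obtain ⟨U', c', E, hE, hc', ⟨κ⟩⟩ :=
    rep_scheme_chart @IsOpenImmersion (AlgSt.subIncl 𝒳 Q) hQ.2.2 X
  haveI : IsOpenImmersion c'.left := hc'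
  have hXQ : ∀ a, QT (Set.range (AlgSt.Points.map (AlgSt.subIncl 𝒳 Q))) (X.obj a) := fun a =>
    QT_of_hom _ (X.map (Over.homMk a.hom (by simp) : a ⟶ Over.mk (𝟙 U)) ≫ j'.hom) hx
  have hpts := (QT_obj_iff _ (isFibGrpd_overCat U) hX X).1 hXQ
  have hsurj : Function.Surjective c'.left := by
    intro t
    obtain ⟨r, hr⟩ := hpts (chartPt U t)
    obtain ⟨w, hw1, -⟩ := exists_points_fp hfull hX (isFibGrpd_overCat U) (AlgSt.subIncl 𝒳 Q) X
      (chartPt U t) r hr.symm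
    obtain ⟨w', rfl⟩ := points_map_surjective_of_isEquivOver E hE w
    obtain ⟨t', rfl⟩ := (chartPt_bijective U').2 w'
    refine ⟨t', (chartPt_bijective U).1 ?_⟩
    rw [← hw1, ← points_map_overMap, ← points_map_comp, points_map_congr κ]
  haveI : IsIso c'.left := by
    rw [isIso_iff_isOpenImmersion_and_epi_base]
    refine ⟨inferInstance, ?_⟩
    rw [TopCat.epi_iff_surjective]
    exact hsurj
  -- the section
  have hs : inv c'.left ≫ U'.hom = U.hom := by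
    rw [IsIso.inv_comp_eq]
    exact (Over.w c').symm
  let s : U ⟶ U' := Over.homMk (inv c'.left) hs
  have hsc : s ≫ c' = 𝟙 U := by
    apply Over.OverMorphism.ext
    exact IsIso.inv_hom_id c'.left
  let a₀ : Over U' := (AlgSt.overMap s).obj (Over.mk (𝟙 U))
  let x'' : (AlgSt.fullSub 𝒳 Q).obj := (fpSnd X (AlgSt.subIncl 𝒳 Q)).obj (E.obj a₀)
  have i1 : X.obj ((fpFst X (AlgSt.subIncl 𝒳 Q)).obj (E.obj a₀)) ≅ x''.obj :=
    appIso (fpIso X (AlgSt.subIncl 𝒳 Q)) (E.obj a₀)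
  have i2 : (fpFst X (AlgSt.subIncl 𝒳 Q)).obj (E.obj a₀) ≅ (AlgSt.overMap c').obj a₀ :=
    appIso κ a₀
  have i3 : (AlgSt.overMap c').obj a₀ ≅ Over.mk (𝟙 U) :=
    Over.isoMk (Iso.refl _) (by
      change 𝟙 _ ≫ 𝟙 U = (𝟙 U ≫ s) ≫ c'
      rw [Category.id_comp, Category.id_comp, hsc])
  have i : x''.obj ≅ x := i1.symm ≪≫ X.toFunctor.mapIso (i2 ≪≫ i3) ≪≫ j'
  haveI := hQ.1
  exact ObjectProperty.prop_of_iso Q i x''.property

/-- an open substack is determined by its set of points -/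
theorem Q_iff_QT_range (h𝒳 : AlgSt.IsAlgStack Scheme.fppfPrecoverage 𝒳) (Q : 𝒳.obj → Prop)
    (hQ : AlgSt.IsOpenSubstack 𝒳 Q Scheme.fppfPrecoverage) (x : 𝒳.obj) :
    Q x ↔ QT (Set.range (AlgSt.Points.map (AlgSt.subIncl 𝒳 Q))) x :=
  ⟨QT_range_of_Q h𝒳 Q hQ x, Q_of_QT_range h𝒳 Q hQ x⟩

theorem range_mono (Q Q' : 𝒳.obj → Prop) (h : ∀ y, Q y → Q' y) :
    Set.range (AlgSt.Points.map (AlgSt.subIncl 𝒳 Q)) ⊆
      Set.range (AlgSt.Points.map (AlgSt.subIncl 𝒳 Q')) := by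
  rintro _ ⟨q, rfl⟩
  obtain ⟨p', rfl⟩ := AlgSt.Points.mk_surjective q
  let p'' : AlgSt.FPt (AlgSt.fullSub 𝒳 Q') :=
    { K := p'.K, str := p'.str, obj := ⟨p'.obj.obj, h _ p'.obj.property⟩, lies := p'.lies }
  exact ⟨AlgSt.Points.mk p'', rfl⟩

/-- S12859 -/
theorem bijOn_isOpen_points (h𝒳 : AlgSt.IsAlgStack Scheme.fppfPrecoverage 𝒳) :
    Set.BijOn (fun Q : 𝒳.obj → Prop => Set.range (AlgSt.Points.map (AlgSt.subIncl 𝒳 Q)))
        {Q | AlgSt.IsOpenSubstack 𝒳 Q Scheme.fppfPrecoverage} {T | IsOpen T} ∧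
      ∀ (Q Q' : 𝒳.obj → Prop), AlgSt.IsOpenSubstack 𝒳 Q Scheme.fppfPrecoverage →
        AlgSt.IsOpenSubstack 𝒳 Q' Scheme.fppfPrecoverage →
        ((∀ y, Q y → Q' y) ↔ Set.range (AlgSt.Points.map (AlgSt.subIncl 𝒳 Q)) ⊆
          Set.range (AlgSt.Points.map (AlgSt.subIncl 𝒳 Q'))) := by
  refine ⟨⟨fun Q hQ => isOpen_range_of_isOpenSubstack h𝒳 Q hQ, ?_, ?_⟩, ?_⟩
  · intro Q hQ Q' hQ' heq
    funext x
    apply propext
    rw [Q_iff_QT_range h𝒳 Q hQ x, Q_iff_QT_range h𝒳 Q' hQ' x]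
    have heq' : Set.range (AlgSt.Points.map (AlgSt.subIncl 𝒳 Q)) =
        Set.range (AlgSt.Points.map (AlgSt.subIncl 𝒳 Q')) := heq
    rw [heq']
  · intro T hT
    exact ⟨QT T, isOpenSubstack_QT T h𝒳 hT, range_subIncl_QT T⟩
  · intro Q Q' hQ hQ'
    constructor
    · exact range_mono Q Q'
    · intro h y hy
      exact Q_of_QT_range h𝒳 Q' hQ' y (QT_mono h (QT_range_of_Q h𝒳 Q hQ y hy))

end Groth.Agent.Helper6.OpenSub5
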