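import Mathlib

/-!
# Helper6: lifting a valuation ring along a flat morphism after a local extension
-/

set_option autoImplicit false
universe u
open CategoryTheory CategoryTheory.Limits AlgebraicGeometry Opposite IsLocalRing

namespace Groth.Agent.Helper6.ValLift

set_option backward.isDefEq.respectTransparency.types false in
/-- a flat morphism to the spectrum of a valuation ring whose image contains the closed point
admits a section after an injective local extension of valuation rings -/
theorem exists_valuationRing_lift {W : Scheme.{u}} (A : Type u) [CommRing A] [IsDomain A]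
    [ValuationRing A] (p : W ⟶ Spec (CommRingCat.of A)) [Flat p] (w : W)
    (hw : p w = closedPoint A) :
    ∃ (A' : Type u) (_ : CommRing A') (_ : IsDomain A') (_ : ValuationRing A') (φ : A →+* A'),
      Function.Injective φ ∧ IsLocalHom φ ∧
      ∃ l : Spec (CommRingCat.of A') ⟶ W, l ≫ p = Spec.map (CommRingCat.ofHom φ) ∧
        l (closedPoint A') = w := by
  let η : Spec (CommRingCat.of A) := (⟨⊥, Ideal.isPrime_bot⟩ : PrimeSpectrum A)
  have hη : η ⤳ p w := (PrimeSpectrum.le_iff_specializes (R := A) _ _).mp (bot_le (α := Ideal A))
  obtain ⟨w', hw'w, hw'⟩ := Flat.generalizingMap p hη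
  let ψ : W.presheaf.stalk w ⟶ W.residueField w' :=
    W.presheaf.stalkSpecializes hw'w ≫ W.residue w'
  obtain ⟨B, hB, hB_local⟩ := exists_factor_valuationRing ψ.hom
  let ψB : W.presheaf.stalk w ⟶ .of B := CommRingCat.ofHom (ψ.hom.codRestrict _ hB)
  let l : Spec (.of B) ⟶ W := Spec.map ψB ≫ W.fromSpecStalk w
  have hl_closed : l (closedPoint B) = w := by
    simp only [l, Scheme.Hom.comp_base, TopCat.coe_comp, Function.comp_apply]
    have : Spec.map ψB (closedPoint B) = closedPoint (W.presheaf.stalk w) :=
      comap_closedPoint (S := B) (ψ.hom.codRestrict B.toSubring hB)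
    rw [this, W.fromSpecStalk_closedPoint]
  have hgen : Spec.map (CommRingCat.ofHom (algebraMap B (W.residueField w'))) ≫ l =
      W.fromSpecResidueField w' := by
    rw [Scheme.fromSpecResidueField, ← Scheme.SpecMap_stalkSpecializes_fromSpecStalk hw'w]
    simp only [l]
    simp_rw [← Spec.map_comp_assoc]
    rfl
  let φc : CommRingCat.of A ⟶ CommRingCat.of B := Spec.preimage (l ≫ p)
  have hφc : Spec.map φc = l ≫ p := Spec.map_preimage _
  refine ⟨B, inferInstance, inferInstance, inferInstance, φc.hom, ?_, ?_, l, ?_, hl_closed⟩
  · rw [injective_iff_map_eq_zero]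
    intro a ha
    let pt : Spec (W.residueField w') := closedPoint (W.residueField w')
    have h1 : (Spec.map (CommRingCat.ofHom (algebraMap B (W.residueField w'))) ≫ Spec.map φc) pt
        = η := by
      rw [hφc, ← Category.assoc, hgen, Scheme.Hom.comp_apply, Scheme.fromSpecResidueField_apply,
        hw']
    have h2 : a ∈ ((Spec.map (CommRingCat.ofHom (algebraMap B (W.residueField w'))) ≫
        Spec.map φc) pt).asIdeal := by
      change algebraMap B (W.residueField w') (φc.hom a) ∈ pt.asIdeal
      rw [ha, map_zero]
      exact zero_mem _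
    rw [h1] at h2
    exact Ideal.mem_bot.mp h2
  · have : (Spec.map φc) (closedPoint B) = closedPoint A := by
      rw [hφc, Scheme.Hom.comp_apply, hl_closed, hw]
    exact (isLocalHom_iff_comap_closedPoint φc.hom).mpr this
  · exact hφc.symm

end Groth.Agent.Helper6.ValLift
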