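import Mathlib
import Groth.Agent.Helper6.HyperUniq
import Groth.Agent.Helper5.FFAut

set_option autoImplicit false
set_option linter.style.haveILetI false
set_option linter.unusedSectionVars false

/-!
# The genus of a hyperelliptic function field in characteristic different from two
-/

namespace Groth.Agent.Helper6.HypGenus

open FunFld Polynomial
open Groth.Agent.Helper5
open scoped IntermediateField

section quad

variable {F E : Type*} [Field F] [Field E] [Algebra F E]

theorem isSeparable_of_finrank_two (h2 : (2 : F) ≠ 0) (hdeg : Module.finrank F E = 2) :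
    Algebra.IsSeparable F E := by
  haveI : FiniteDimensional F E := Module.finite_of_finrank_pos (by rw [hdeg]; norm_num)
  refine ⟨fun z => ?_⟩
  have hint : IsIntegral F z := IsIntegral.of_finite F z
  show (minpoly F z).Separable
  rw [Polynomial.separable_iff_derivative_ne_zero (minpoly.irreducible hint)]
  intro h0
  have hn1 : 1 ≤ (minpoly F z).natDegree := minpoly.natDegree_pos hint
  have hn2 : (minpoly F z).natDegree ≤ 2 := by rw [← hdeg]; exact minpoly.natDegree_le z
  have hc : (derivative (minpoly F z)).coeff ((minpoly F z).natDegree - 1) = 0 := by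
    rw [h0, coeff_zero]
  rw [coeff_derivative, show (minpoly F z).natDegree - 1 + 1 = (minpoly F z).natDegree by omega,
    (minpoly.monic hint).coeff_natDegree, one_mul] at hc
  rcases (by omega : (minpoly F z).natDegree = 1 ∨ (minpoly F z).natDegree = 2) with h | h
  · rw [h] at hc; simp at hc
  · rw [h] at hc
    apply h2
    have : ((2 - 1 : ℕ) : F) + 1 = 2 := by norm_num
    rw [← this]; exact hc

theorem linearIndependent_one {y : E} (hy : y ∉ Set.range (algebraMap F E)) :
    LinearIndependent F ![(1 : E), y] := by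
  rw [LinearIndependent.pair_iff]
  intro s t hst
  have ht : t = 0 := by
    by_contra ht
    apply hy
    refine ⟨-(s / t), ?_⟩
    rw [Algebra.smul_def, Algebra.smul_def, mul_one] at hst
    have ht' : algebraMap F E t ≠ 0 := (_root_.map_ne_zero _).mpr ht
    rw [map_neg, map_div₀]
    field_simp
    linear_combination -hst
  subst ht
  rw [zero_smul, add_zero, Algebra.smul_def, mul_one, map_eq_zero] at hst
  exact ⟨hst, rfl⟩

theorem exists_repr (hdeg : Module.finrank F E = 2) {y : E}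
    (hy : y ∉ Set.range (algebraMap F E)) (z : E) :
    ∃ a b : F, z = algebraMap F E a + algebraMap F E b * y := by
  haveI : FiniteDimensional F E := Module.finite_of_finrank_pos (by rw [hdeg]; norm_num)
  have hli := linearIndependent_one hy
  obtain ⟨b, hb⟩ : ∃ b : Module.Basis (Fin 2) F E, ∀ i, b i = ![(1 : E), y] i :=
    ⟨basisOfLinearIndependentOfCardEqFinrank hli (by rw [hdeg]; rfl),
      fun i => by rw [coe_basisOfLinearIndependentOfCardEqFinrank]⟩
  refine ⟨b.repr z 0, b.repr z 1, ?_⟩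
  have h := (b.sum_repr z).symm
  rw [Fin.sum_univ_two, hb, hb, Algebra.smul_def, Algebra.smul_def] at h
  simpa using h

theorem exists_conj (h2 : (2 : F) ≠ 0) (hdeg : Module.finrank F E = 2) {y : E}
    (hy : y ∉ Set.range (algebraMap F E)) {c : F} (hyy : y ^ 2 = algebraMap F E c) :
    ∃ σ : E ≃ₐ[F] E, σ y = -y := by
  haveI : FiniteDimensional F E := Module.finite_of_finrank_pos (by rw [hdeg]; norm_num)
  haveI : Algebra.IsQuadraticExtension F E := { finrank_eq_two' := hdeg }
  haveI := isSeparable_of_finrank_two h2 hdeg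
  have hcard : Nat.card (E ≃ₐ[F] E) = 2 := by rw [IsGalois.card_aut_eq_finrank, hdeg]
  haveI : Nontrivial (E ≃ₐ[F] E) := by
    rw [← Finite.one_lt_card_iff_nontrivial, hcard]; norm_num
  obtain ⟨σ, hσ⟩ := exists_ne (1 : E ≃ₐ[F] E)
  refine ⟨σ, ?_⟩
  have hsq : σ y ^ 2 = y ^ 2 := by rw [← map_pow, hyy, σ.commutes]
  rcases sq_eq_sq_iff_eq_or_eq_neg.mp hsq with h | h
  · exfalso
    apply hσ
    ext z
    obtain ⟨a, b, rfl⟩ := exists_repr hdeg hy z
    rw [map_add, map_mul, σ.commutes, σ.commutes, h]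
    rfl
  · exact h

end quad

section ff

variable {k K : Type*} [Field k] [Field K] [Algebra k K]

theorem val_aeval_le_one (P : Place k K) {x : K} (hx : P.1 x ≤ 1) (p : k[X]) :
    P.1 (aeval x p) ≤ 1 := by
  rw [aeval_eq_sum_range]
  refine P.1.map_sum_le (fun i _ => ?_)
  rw [Algebra.smul_def, map_mul, map_pow]
  exact mul_le_one' (P.2.1 _) (pow_le_one' hx i)

theorem val_aeval_of_one_lt (P : Place k K) {x : K} (hx : 1 < P.1 x) {p : k[X]} (hp : p ≠ 0) :
    P.1 (aeval x p) = P.1 x ^ p.natDegree := by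
  have hx0 : P.1 x ≠ 0 := ne_of_gt (lt_trans zero_lt_one hx)
  rw [aeval_eq_sum_range, Finset.sum_range_succ]
  have h1 : P.1 (p.coeff p.natDegree • x ^ p.natDegree) = P.1 x ^ p.natDegree := by
    rw [Algebra.smul_def, map_mul, map_pow,
      FF.val_algebraMap P (show p.coeff p.natDegree ≠ 0 from leadingCoeff_ne_zero.mpr hp), one_mul]
  have h2 : P.1 (∑ i ∈ Finset.range p.natDegree, p.coeff i • x ^ i) < P.1 x ^ p.natDegree := by
    refine P.1.map_sum_lt (pow_ne_zero _ hx0) (fun i hi => ?_)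
    rw [Algebra.smul_def, map_mul, map_pow]
    calc P.1 (algebraMap k K (p.coeff i)) * P.1 x ^ i ≤ 1 * P.1 x ^ i :=
          mul_le_mul' (P.2.1 _) le_rfl
      _ = P.1 x ^ i := one_mul _
      _ < P.1 x ^ p.natDegree := pow_lt_pow_right₀ hx (Finset.mem_range.mp hi)
  rw [Valuation.map_add_eq_of_lt_right _ (by rw [h1]; exact h2), h1]

theorem mem_L_poles_iff (hK : IsFunctionField k K) {x : K} (hx0 : x ≠ 0) (m : ℕ) (w : K) :
    w ∈ L (m • ((-(FunFld.div k x)) ⊔ 0)) ↔
      ∀ P : Place k K, (P.1 x ≤ 1 → P.1 w ≤ 1) ∧ (1 < P.1 x → P.1 w ≤ P.1 x ^ m) := by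
  have hA : ∀ P : Place k K,
      (m • ((-(FunFld.div k x)) ⊔ 0)) P = m * max (-(P.ord x)) 0 := by
    intro P
    rw [Finsupp.smul_apply, Finsupp.sup_apply, Finsupp.neg_apply, FF.div_apply hK,
      Finsupp.zero_apply, nsmul_eq_mul]
  constructor
  · intro hw P
    have h : P.1 w ≤ WithZero.exp ((m • ((-(FunFld.div k x)) ⊔ 0)) P) := hw P
    rw [hA P] at h
    constructor
    · intro hx1
      have h0 : 0 ≤ P.ord x := (FF.ord_nonneg_iff P hx0).2 hx1
      rwa [max_eq_right (by omega), mul_zero, WithZero.exp_zero] at h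
    · intro hx1
      have h0 : P.ord x < 0 := (FF.ord_neg_iff P hx0).2 hx1
      rw [max_eq_left (by omega)] at h
      rw [FF.val_eq_exp_neg_ord P hx0, ← WithZero.exp_nsmul, nsmul_eq_mul]
      exact h
  · intro hw P
    show P.1 w ≤ WithZero.exp ((m • ((-(FunFld.div k x)) ⊔ 0)) P)
    rw [hA P]
    by_cases hx1 : P.1 x ≤ 1
    · have h0 : 0 ≤ P.ord x := (FF.ord_nonneg_iff P hx0).2 hx1
      rw [max_eq_right (by omega), mul_zero, WithZero.exp_zero]
      exact (hw P).1 hx1
    · rw [not_le] at hx1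
      have h0 : P.ord x < 0 := (FF.ord_neg_iff P hx0).2 hx1
      have h := (hw P).2 hx1
      rw [FF.val_eq_exp_neg_ord P hx0, ← WithZero.exp_nsmul, nsmul_eq_mul] at h
      rw [max_eq_left (by omega)]
      exact h

theorem aeval_mem_adjoin (x : K) (p : k[X]) : aeval x p ∈ k⟮x⟯ :=
  IntermediateField.algebra_adjoin_le_adjoin k _ (Polynomial.aeval_mem_adjoin_singleton k x)

theorem exists_coprime_repr {x : K} (hx : Transcendental k x) {w : K} (hw : w ∈ k⟮x⟯) :
    ∃ u v : k[X], v ≠ 0 ∧ IsCoprime u v ∧ w = aeval x u / aeval x v := by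
  classical
  have hinj : Function.Injective (aeval (R := k) x) := transcendental_iff_injective.mp hx
  obtain ⟨r, s, rfl⟩ := (IntermediateField.mem_adjoin_simple_iff k w).1 hw
  by_cases hs : s = 0
  · exact ⟨0, 1, one_ne_zero, isCoprime_zero_left.mpr isUnit_one, by rw [hs]; simp⟩
  obtain ⟨g, hgdef⟩ : ∃ g, g = EuclideanDomain.gcd r s := ⟨_, rfl⟩
  obtain ⟨r', hr'⟩ : g ∣ r := hgdef ▸ EuclideanDomain.gcd_dvd_left r s
  obtain ⟨s', hs'⟩ : g ∣ s := hgdef ▸ EuclideanDomain.gcd_dvd_right r s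
  have hg0 : g ≠ 0 := by rintro rfl; rw [zero_mul] at hs'; exact hs hs'
  have hs'0 : s' ≠ 0 := by rintro rfl; rw [mul_zero] at hs'; exact hs hs'
  refine ⟨r', s', hs'0, ⟨EuclideanDomain.gcdA r s, EuclideanDomain.gcdB r s, ?_⟩, ?_⟩
  · have h := EuclideanDomain.gcd_eq_gcd_ab r s
    rw [← hgdef] at h
    apply mul_left_cancel₀ hg0
    calc g * (EuclideanDomain.gcdA r s * r' + EuclideanDomain.gcdB r s * s')
        = (g * r') * EuclideanDomain.gcdA r s + (g * s') * EuclideanDomain.gcdB r s := by ring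
      _ = r * EuclideanDomain.gcdA r s + s * EuclideanDomain.gcdB r s := by rw [← hr', ← hs']
      _ = g * 1 := by rw [mul_one]; exact h.symm
  · have hgx : aeval x g ≠ 0 := fun h => hg0 (hinj (by rw [h, map_zero]))
    have e1 : aeval x r = aeval x g * aeval x r' := by rw [← map_mul, ← hr']
    have e2 : aeval x s = aeval x g * aeval x s' := by rw [← map_mul, ← hs']
    rw [e1, e2, mul_div_mul_left _ _ hgx]

/-- a rational function of `x` without poles away from the poles of `x`, and of pole order at most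
`m` times that of `x` there, is a polynomial in `x` of degree at most `m` -/
theorem exists_poly (hK : IsFunctionField k K) {x : K} (hx : Transcendental k x) (m : ℕ)
    {w : K} (hw : w ∈ k⟮x⟯)
    (hL : ∀ P : Place k K, (P.1 x ≤ 1 → P.1 w ≤ 1) ∧ (1 < P.1 x → P.1 w ≤ P.1 x ^ m)) :
    ∃ p : k[X], p.natDegree ≤ m ∧ w = aeval x p := by
  have hinj : Function.Injective (aeval (R := k) x) := transcendental_iff_injective.mp hx
  obtain ⟨u, v, hv0, ⟨A, B, hAB⟩, rfl⟩ := exists_coprime_repr hx hw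
  have hvx0 : aeval x v ≠ 0 := fun h => hv0 (hinj (by rw [h, map_zero]))
  have hvdeg : v.natDegree = 0 := by
    by_contra hdeg
    have htr : Transcendental k (aeval x v) :=
      hx.aeval v hdeg (mem_nonZeroDivisors_of_ne_zero (leadingCoeff_ne_zero.mpr hv0))
    obtain ⟨P, hP⟩ := FF.exists_place_val_lt_one hK htr
    have hx1 : P.1 x ≤ 1 := by
      by_contra h
      rw [not_le] at h
      rw [val_aeval_of_one_lt P h hv0] at hP
      exact absurd hP (not_lt.mpr (one_le_pow₀ h.le))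
    have h1 : P.1 (aeval x u) < 1 := by
      have h := (hL P).1 hx1
      rw [map_div₀, div_le_iff₀ (FF.val_pos P hvx0), one_mul] at h
      exact lt_of_le_of_lt h hP
    have h2 : P.1 (1 : K) < 1 := by
      have e : (1 : K) = aeval x A * aeval x u + aeval x B * aeval x v := by
        rw [← map_mul, ← map_mul, ← map_add, hAB, map_one]
      rw [e]
      refine lt_of_le_of_lt (P.1.map_add _ _) (max_lt ?_ ?_)
      · rw [map_mul]; exact mul_lt_of_le_one_of_lt (val_aeval_le_one P hx1 A) h1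
      · rw [map_mul]; exact mul_lt_of_le_one_of_lt (val_aeval_le_one P hx1 B) hP
    rw [map_one] at h2
    exact lt_irrefl _ h2
  obtain ⟨c, hc⟩ := natDegree_eq_zero.mp hvdeg
  have hc0 : c ≠ 0 := by rintro rfl; rw [map_zero] at hc; exact hv0 hc.symm
  obtain ⟨p, hp⟩ : ∃ p : k[X], p = C c⁻¹ * u := ⟨_, rfl⟩
  have hwp : aeval x u / aeval x v = aeval x p := by
    rw [hp, ← hc, map_mul, aeval_C, aeval_C, map_inv₀, div_eq_inv_mul]
  refine ⟨p, ?_, hwp⟩
  by_contra hdeg
  rw [not_le] at hdeg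
  have hp0 : p ≠ 0 := by rintro rfl; simp at hdeg
  obtain ⟨Q, hQ⟩ := FF.exists_place_one_lt_val hK hx
  have h := (hL Q).2 hQ
  rw [hwp, val_aeval_of_one_lt Q hQ hp0] at h
  exact absurd ((pow_le_pow_iff_right₀ hQ).mp h) (not_le.mpr hdeg)

theorem algEquiv_fix {x : K} (σ : K ≃ₐ[k] K) (hσx : σ x = x) {a : K} (ha : a ∈ k⟮x⟯) :
    σ a = a := by
  obtain ⟨r, s, rfl⟩ := (IntermediateField.mem_adjoin_simple_iff k a).1 ha
  have h : ∀ p : k[X], σ (aeval x p) = aeval x p := fun p => by
    have h1 := Polynomial.aeval_algHom_apply (σ : K →ₐ[k] K) x p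
    have h2 : (σ : K →ₐ[k] K) x = x := hσx
    rw [h2] at h1
    exact h1.symm
  rw [map_div₀, h, h]

theorem genus_core (hK : IsFunctionField k K) {x y : K} (hx : Transcendental k x)
    (h2 : (2 : k) ≠ 0) (hdeg2 : Module.finrank k⟮x⟯ K = 2) (hy : y ∉ k⟮x⟯)
    (hrep : ∀ z : K, ∃ a ∈ k⟮x⟯, ∃ b ∈ k⟮x⟯, z = a + b * y)
    (σ : K ≃ₐ[k] K) (hσx : σ x = x) (hσy : σ y = -y)
    (f : k[X]) (hf : Squarefree f) (hd : 1 ≤ f.natDegree) (heq : y ^ 2 = aeval x f) :
    genus k K = (f.natDegree - 1) / 2 := by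
  classical
  have hinj : Function.Injective (aeval (R := k) x) := transcendental_iff_injective.mp hx
  have hx0 : x ≠ 0 := by rintro rfl; exact hx isAlgebraic_zero
  have hf0 : f ≠ 0 := by rintro rfl; simp at hd
  have h2K : (2 : K) ≠ 0 := by
    have : (2 : K) = algebraMap k K 2 := (map_ofNat _ 2).symm
    rw [this]; exact (_root_.map_ne_zero _).mpr h2
  obtain ⟨d, hd_def⟩ : ∃ d, d = f.natDegree := ⟨_, rfl⟩
  obtain ⟨c, hc_def⟩ : ∃ c : ℕ, c = (d + 1) / 2 := ⟨_, rfl⟩
  obtain ⟨g, hg_def⟩ : ∃ g, g = genus k K := ⟨_, rfl⟩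
  obtain ⟨n, hn_def⟩ : ∃ n, n = c + g := ⟨_, rfl⟩
  have hcn : c ≤ n := by omega
  obtain ⟨A, hA⟩ : ∃ A : Divisor k K, A = (-(FunFld.div k x)) ⊔ 0 := ⟨_, rfl⟩
  have hdegA : A.deg = 2 := by rw [hA, FF.deg_poles_eq hK hx, hdeg2]; rfl
  obtain ⟨D, hD⟩ : ∃ D : Divisor k K, D = n • A := ⟨_, rfl⟩
  have hdegD : D.deg = 2 * n := by rw [hD, FF.deg_nsmul, hdegA]; ring
  have hell := FF.ell_eq_of_deg_ge hK D (by rw [hdegD, ← hg_def, hn_def]; push_cast; omega)
  haveI : FiniteDimensional k (L D) := FF.finiteDimensional_L hK D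
  have hLiff : ∀ (m : ℕ) (w : K), w ∈ L (m • A) ↔
      ∀ P : Place k K, (P.1 x ≤ 1 → P.1 w ≤ 1) ∧ (1 < P.1 x → P.1 w ≤ P.1 x ^ m) := by
    intro m w; rw [hA]; exact mem_L_poles_iff hK hx0 m w
  have hy_le : ∀ P : Place k K, P.1 x ≤ 1 → P.1 y ≤ 1 := by
    intro P hx1
    have h : P.1 y ^ 2 ≤ 1 := by rw [← map_pow, heq]; exact val_aeval_le_one P hx1 f
    exact (pow_le_one_iff_of_nonneg zero_le two_ne_zero).mp h
  have hy_inf : ∀ P : Place k K, 1 < P.1 x → P.1 y ^ 2 = P.1 x ^ d := by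
    intro P hx1
    rw [← map_pow, heq, val_aeval_of_one_lt P hx1 hf0, hd_def]
  let V1 := degreeLT k (n + 1)
  let V2 := degreeLT k (n - c + 1)
  let f1 : V1 →ₗ[k] K := (aeval (R := k) x).toLinearMap.comp V1.subtype
  let f2 : V2 →ₗ[k] K := (aeval (R := k) x).toLinearMap.comp V2.subtype
  let T : (V1 × V2) →ₗ[k] K := f1.coprod ((LinearMap.mulRight k y).comp f2)
  have hT : ∀ pq : V1 × V2, T pq = aeval x pq.1.1 + aeval x pq.2.1 * y := fun pq => rfl
  have hmem : ∀ pq : V1 × V2, T pq ∈ L D := by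
    intro pq
    rw [hT, hD]
    apply Submodule.add_mem
    · have h1 := HyperUniq.aeval_mem_L hK hx0 n pq.1.1 pq.1.2
      rw [← hA] at h1; exact h1
    · rw [hLiff]
      intro P
      have hr := pq.2.2
      constructor
      · intro hx1
        rw [map_mul]
        exact mul_le_one' (val_aeval_le_one P hx1 _) (hy_le P hx1)
      · intro hx1
        by_cases hr0 : pq.2.1 = 0
        · rw [hr0, map_zero, zero_mul, map_zero]; exact zero_le
        have hnat : pq.2.1.natDegree < n - c + 1 := by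
          rw [Polynomial.natDegree_lt_iff_degree_lt hr0]; exact Polynomial.mem_degreeLT.mp hr
        refine (pow_le_pow_iff_left₀ zero_le zero_le (two_ne_zero (α := ℕ))).mp ?_
        have e1 : (P.1 (aeval x pq.2.1 * y)) ^ 2 = P.1 x ^ (pq.2.1.natDegree * 2 + d) := by
          rw [map_mul, mul_pow, hy_inf P hx1, val_aeval_of_one_lt P hx1 hr0, ← pow_mul, ← pow_add]
        have e2 : (P.1 x ^ n) ^ 2 = P.1 x ^ (n * 2) := (pow_mul _ _ _).symm
        rw [e1, e2]
        exact pow_le_pow_right₀ hx1.le (by omega)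
  have hinjT : Function.Injective (T.codRestrict (L D) hmem) := by
    rw [injective_iff_map_eq_zero]
    intro pq h0
    have h1 : T pq = 0 := by
      have := congrArg Subtype.val h0
      simpa using this
    rw [hT] at h1
    have hq : pq.2.1 = 0 := by
      by_contra hq0
      have hv : aeval x pq.2.1 ≠ 0 := fun h => hq0 (hinj (by rw [h, map_zero]))
      apply hy
      have h2' : y = -(aeval x pq.1.1) / aeval x pq.2.1 := by
        field_simp
        linear_combination h1
      rw [h2']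
      exact div_mem (neg_mem (aeval_mem_adjoin x _)) (aeval_mem_adjoin x _)
    have hp : pq.1.1 = 0 := by
      rw [hq, map_zero, zero_mul, add_zero] at h1
      exact hinj (by rw [h1, map_zero])
    apply Prod.ext
    · exact Subtype.ext hp
    · exact Subtype.ext hq
  have hsurjT : Function.Surjective (T.codRestrict (L D) hmem) := by
    rintro ⟨z, hz⟩
    have hzL : z ∈ L (n • A) := hD ▸ hz
    have hzv := (hLiff n z).1 hzL
    have hσv : ∀ P : Place k K,
        (P.1 x ≤ 1 → P.1 (σ z) ≤ 1) ∧ (1 < P.1 x → P.1 (σ z) ≤ P.1 x ^ n) := by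
      intro P
      have h := hzv (FF.comapPlace σ P)
      rw [FF.comapPlace_val, FF.comapPlace_val, hσx] at h
      exact h
    have hσL : σ z ∈ L (n • A) := (hLiff n _).2 hσv
    obtain ⟨a, ha, b, hb, hzab⟩ := hrep z
    have hσz : σ z = a - b * y := by
      rw [hzab, map_add, map_mul, algEquiv_fix σ hσx ha, algEquiv_fix σ hσx hb, hσy]; ring
    have haL : a ∈ L (n • A) := by
      have e : a = (2⁻¹ : k) • (z + σ z) := by
        rw [hσz, hzab, Algebra.smul_def, map_inv₀, map_ofNat]; field_simp; ring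
      rw [e]; exact Submodule.smul_mem _ _ (Submodule.add_mem _ hzL hσL)
    have hbyL : b * y ∈ L (n • A) := by
      have e : b * y = (2⁻¹ : k) • (z - σ z) := by
        rw [hσz, hzab, Algebra.smul_def, map_inv₀, map_ofNat]; field_simp; ring
      rw [e]; exact Submodule.smul_mem _ _ (Submodule.sub_mem _ hzL hσL)
    obtain ⟨p, hpdeg, hpa⟩ := exists_poly hK hx n ha ((hLiff n a).1 haL)
    have hbyv := (hLiff n _).1 hbyL
    have hb2v : ∀ P : Place k K, (P.1 x ≤ 1 → P.1 (b ^ 2 * aeval x f) ≤ 1) ∧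
        (1 < P.1 x → P.1 (b ^ 2 * aeval x f) ≤ P.1 x ^ (2 * n)) := by
      intro P
      have e : b ^ 2 * aeval x f = (b * y) ^ 2 := by rw [mul_pow, heq]
      rw [e, map_pow]
      constructor
      · intro hx1; exact pow_le_one' ((hbyv P).1 hx1) 2
      · intro hx1
        rw [mul_comm 2 n, pow_mul]
        exact pow_le_pow_left' ((hbyv P).2 hx1) 2
    have hb2mem : b ^ 2 * aeval x f ∈ k⟮x⟯ := mul_mem (pow_mem hb 2) (aeval_mem_adjoin x f)
    obtain ⟨q, hqdeg, hq⟩ := exists_poly hK hx (2 * n) hb2mem hb2v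
    obtain ⟨u, v, hv0, hcop, hbuv⟩ := exists_coprime_repr hx hb
    have hvx0 : aeval x v ≠ 0 := fun h => hv0 (hinj (by rw [h, map_zero]))
    have hpoly : u ^ 2 * f = q * v ^ 2 := by
      apply hinj
      rw [map_mul, map_mul, map_pow, map_pow, ← hq, hbuv]
      field_simp
    have hvunit : IsUnit v := by
      apply hf v
      have h1 : v ^ 2 ∣ u ^ 2 * f := ⟨q, by rw [hpoly]; ring⟩
      have h2' : IsCoprime (v ^ 2) (u ^ 2) := hcop.symm.pow
      rw [← sq]
      exact h2'.dvd_of_dvd_mul_left h1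
    obtain ⟨c', hc'u, hc'⟩ := Polynomial.isUnit_iff.mp hvunit
    have hc'0 : c' ≠ 0 := hc'u.ne_zero
    obtain ⟨r, hr⟩ : ∃ r : k[X], r = C c'⁻¹ * u := ⟨_, rfl⟩
    have hbr : b = aeval x r := by
      rw [hbuv, hr, ← hc', map_mul, aeval_C, aeval_C, map_inv₀, div_eq_inv_mul]
    have hr2 : r ^ 2 * f = q := by
      apply hinj
      rw [map_mul, map_pow, ← hbr, hq]
    have hrdeg : r = 0 ∨ r.natDegree * 2 + d ≤ 2 * n := by
      by_cases hr0 : r = 0
      · exact Or.inl hr0
      · right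
        have h3 : (r ^ 2 * f).natDegree = r.natDegree * 2 + d := by
          rw [natDegree_mul (pow_ne_zero 2 hr0) hf0, natDegree_pow, hd_def, mul_comm 2]
        rw [hr2] at h3
        omega
    have hpV : p ∈ degreeLT k (n + 1) := by
      rw [Polynomial.mem_degreeLT]
      refine lt_of_le_of_lt Polynomial.degree_le_natDegree ?_
      have : p.natDegree < n + 1 := by omega
      exact_mod_cast this
    have hrV : r ∈ degreeLT k (n - c + 1) := by
      rcases hrdeg with h | h
      · rw [h]; exact Submodule.zero_mem _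
      · rw [Polynomial.mem_degreeLT]
        refine lt_of_le_of_lt Polynomial.degree_le_natDegree ?_
        have : r.natDegree < n - c + 1 := by omega
        exact_mod_cast this
    refine ⟨(⟨p, hpV⟩, ⟨r, hrV⟩), Subtype.ext ?_⟩
    show T (⟨p, hpV⟩, ⟨r, hrV⟩) = z
    rw [hT, hzab, hpa, hbr]
  have hfr : Module.finrank k (L D) = (n + 1) + (n - c + 1) := by
    have e := LinearEquiv.ofBijective (T.codRestrict (L D) hmem) ⟨hinjT, hsurjT⟩
    rw [← e.finrank_eq, Module.finrank_prod]
    have hV : ∀ m, Module.finrank k (degreeLT k m) = m := fun m => by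
      rw [LinearEquiv.finrank_eq (Polynomial.degreeLTEquiv k m), Module.finrank_fin_fun]
    rw [hV, hV]
  have hell' : (Module.finrank k (L D) : ℤ) = D.deg + 1 - genus k K := hell
  rw [hfr, hdegD, ← hg_def] at hell'
  rw [← hg_def, ← hd_def]
  have hd1 : 1 ≤ d := hd_def ▸ hd
  omega

theorem s11014 (k K : Type*) [Field k] [Field K] [Algebra k K]
    (hK : FunFld.IsFunctionField k K) (h2 : ringChar k ≠ 2) (x y : K) (hx : Transcendental k x)
    (hxy : IntermediateField.adjoin k ({x, y} : Set K) = ⊤)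
    (f : Polynomial k) (hf : Squarefree f) (hd : 1 ≤ f.natDegree)
    (heq : y ^ 2 = Polynomial.aeval x f) :
    FunFld.genus k K = (f.natDegree - 1) / 2 := by
  classical
  have h20 : (2 : k) ≠ 0 := Ring.two_ne_zero h2
  have hinj : Function.Injective (aeval (R := k) x) := transcendental_iff_injective.mp hx
  have hf0 : f ≠ 0 := by rintro rfl; simp at hd
  -- `y ∉ k(x)`
  have hy : y ∉ k⟮x⟯ := by
    intro hyF
    obtain ⟨u, v, hv0, hcop, huv⟩ := exists_coprime_repr hx hyF
    have hvx0 : aeval x v ≠ 0 := fun h => hv0 (hinj (by rw [h, map_zero]))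
    have hpoly : u ^ 2 = f * v ^ 2 := by
      apply hinj
      rw [map_pow, map_mul, map_pow, ← heq, huv]
      field_simp
    have hvunit : IsUnit (v ^ 2) := by
      have h1 : v ^ 2 ∣ 1 * u ^ 2 := ⟨f, by rw [one_mul, hpoly]; ring⟩
      exact isUnit_of_dvd_one ((hcop.symm.pow (m := 2) (n := 2)).dvd_of_dvd_mul_right h1)
    have huu : u * u ∣ f := by
      have h3 : u * u ∣ f * v ^ 2 := ⟨1, by rw [mul_one, ← hpoly, sq]⟩
      exact (hvunit.dvd_mul_right).mp h3
    have huunit := hf u huu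
    have hvunit' : IsUnit v := (isUnit_pow_iff two_ne_zero).mp hvunit
    have h3 := congrArg natDegree hpoly
    rw [natDegree_pow, natDegree_mul hf0 (pow_ne_zero 2 hv0), natDegree_pow,
      natDegree_eq_zero_of_isUnit huunit, natDegree_eq_zero_of_isUnit hvunit'] at h3
    omega
  obtain ⟨φF, hφF⟩ : ∃ φF : k⟮x⟯, (φF : K) = aeval x f := ⟨⟨aeval x f, aeval_mem_adjoin x f⟩, rfl⟩
  have htop : k⟮x⟯⟮y⟯ = ⊤ := by
    have h1 := IntermediateField.adjoin_adjoin_left k ({x} : Set K) ({y} : Set K)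
    have h3 : ({x} ∪ {y} : Set K) = {x, y} := rfl
    rw [h3, hxy] at h1
    rw [eq_top_iff]
    intro z _
    have : z ∈ (⊤ : IntermediateField k K) := trivial
    rw [← h1] at this
    exact this
  have hyint : IsIntegral k⟮x⟯ y := by
    refine ⟨X ^ 2 - C φF, monic_X_pow_sub_C _ (by norm_num), ?_⟩
    rw [eval₂_sub, eval₂_pow, eval₂_X, eval₂_C, heq, ← hφF]
    exact sub_self _
  have hyy : y * y = (φF : K) := by rw [← sq, heq, hφF]
  have hrep0 : ∀ z : K, ∃ a b : k⟮x⟯, z = (a : K) + (b : K) * y := by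
    intro z
    have hz : z ∈ k⟮x⟯⟮y⟯.toSubalgebra := by rw [htop]; trivial
    rw [IntermediateField.adjoin_simple_toSubalgebra_of_isAlgebraic hyint.isAlgebraic] at hz
    induction hz using Algebra.adjoin_induction with
    | mem u hu =>
      rw [Set.mem_singleton_iff] at hu
      subst hu
      exact ⟨0, 1, by simp⟩
    | algebraMap r => exact ⟨r, 0, by simp⟩
    | add u v _ _ hu hv =>
      obtain ⟨a, b, rfl⟩ := hu
      obtain ⟨c, d, rfl⟩ := hv
      exact ⟨a + c, b + d, by push_cast; ring⟩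
    | mul u v _ _ hu hv =>
      obtain ⟨a, b, rfl⟩ := hu
      obtain ⟨c, d, rfl⟩ := hv
      refine ⟨a * c + b * d * φF, a * d + b * c, ?_⟩
      push_cast
      linear_combination (b : K) * d * hyy
  have hyF' : y ∉ Set.range (algebraMap k⟮x⟯ K) := by
    rintro ⟨w, hw⟩
    exact hy (hw ▸ w.2)
  have hli := linearIndependent_one hyF'
  have hsp : ⊤ ≤ Submodule.span k⟮x⟯ (Set.range ![(1 : K), y]) := by
    intro z _
    obtain ⟨a, b, rfl⟩ := hrep0 z
    refine Submodule.add_mem _ ?_ ?_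
    · have e : (a : K) = a • (1 : K) := by rw [Algebra.smul_def, mul_one]; rfl
      rw [e]; exact Submodule.smul_mem _ _ (Submodule.subset_span ⟨0, rfl⟩)
    · have e : (b : K) * y = b • y := by rw [Algebra.smul_def]; rfl
      rw [e]; exact Submodule.smul_mem _ _ (Submodule.subset_span ⟨1, rfl⟩)
  have hdeg2 : Module.finrank k⟮x⟯ K = 2 := by
    rw [Module.finrank_eq_card_basis (Module.Basis.mk hli hsp)]; rfl
  have h2F : (2 : k⟮x⟯) ≠ 0 := by
    intro h
    apply h20
    have h3 : algebraMap k k⟮x⟯ 2 = 0 := by rw [map_ofNat]; exact h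
    exact (map_eq_zero _).mp h3
  obtain ⟨σ₀, hσ₀⟩ := exists_conj (F := k⟮x⟯) (E := K) h2F hdeg2 hyF' (c := φF)
    (by rw [heq, ← hφF]; rfl)
  obtain ⟨σ, hσ⟩ : ∃ σ : K ≃ₐ[k] K, ∀ z, σ z = σ₀ z := ⟨σ₀.restrictScalars k, fun z => rfl⟩
  have hσx : σ x = x := by
    rw [hσ]
    exact σ₀.commutes (⟨x, IntermediateField.mem_adjoin_simple_self k x⟩ : k⟮x⟯)
  have hσy : σ y = -y := by rw [hσ]; exact hσ₀
  have hrep : ∀ z : K, ∃ a ∈ k⟮x⟯, ∃ b ∈ k⟮x⟯, z = a + b * y := fun z => by
    obtain ⟨a, b, h⟩ := hrep0 z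
    exact ⟨a, a.2, b, b.2, h⟩
  exact genus_core hK hx h20 hdeg2 hy hrep σ hσx hσy f hf hd heq

end ff

end Groth.Agent.Helper6.HypGenus
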