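import Mathlib
import Groth.Agent.Helper6.HypGenus
import Groth.Agent.Helper5.FGAS
import Groth.Agent.Helper5.FGAS2
import Groth.Agent.Helper5.FGExt2
import Groth.Agent.Helper5.FFAut
import Groth.Agent.Helper5.FFWeil

set_option autoImplicit false
set_option linter.style.haveILetI false
set_option linter.unusedSectionVars false

/-!
# The genus of an Artin–Schreier double cover of the line in characteristic two
-/

namespace Groth.Agent.Helper6.ASGenus

open FunFld Polynomial
open Groth.Agent.Helper5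
open scoped IntermediateField

section quad

variable {F E : Type*} [Field F] [Field E] [Algebra F E]

/-- the non-trivial automorphism of an Artin–Schreier quadratic extension -/
theorem exists_sigma (h2F : (2 : F) = 0) (hdeg : Module.finrank F E = 2) {y : E}
    (hy : y ∉ Set.range (algebraMap F E)) {c : F} (heq : y ^ 2 + y = algebraMap F E c) :
    ∃ σ : E ≃ₐ[F] E, σ y = y + 1 := by
  haveI : FiniteDimensional F E := Module.finite_of_finrank_pos (by rw [hdeg]; norm_num)
  haveI : Algebra.IsQuadraticExtension F E := { finrank_eq_two' := hdeg }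
  have h2E : (2 : E) = 0 := by rw [← map_ofNat (algebraMap F E) 2, h2F, map_zero]
  have hprime : Nat.Prime (Module.finrank F E) := by rw [hdeg]; exact Nat.prime_two
  haveI := IntermediateField.isSimpleOrder_of_finrank_prime F E hprime
  have htop : F⟮y⟯ = ⊤ := (eq_bot_or_eq_top _).resolve_left (by
    rw [IntermediateField.adjoin_simple_eq_bot_iff]
    exact fun h => hy (IntermediateField.mem_bot.mp h))
  have hint : IsIntegral F y := Algebra.IsIntegral.isIntegral y
  have hsep_y : IsSeparable F y := by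
    have hroot : aeval y (X ^ 2 + X - C c : F[X]) = 0 := by simp [heq]
    have hdvd := minpoly.dvd F y hroot
    have hder : derivative (X ^ 2 + X - C c : F[X]) = 1 := by
      rw [derivative_sub, derivative_C, sub_zero, derivative_add, derivative_X_pow, derivative_X]
      simp [h2F]
    have hsep : (X ^ 2 + X - C c : F[X]).Separable := by
      rw [Polynomial.separable_def, hder]; exact isCoprime_one_right
    exact hsep.of_dvd hdvd
  haveI hsep : Algebra.IsSeparable F E := by
    haveI h1 : Algebra.IsSeparable F F⟮y⟯ :=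
      (IntermediateField.isSeparable_adjoin_simple_iff_isSeparable F E).mpr hsep_y
    exact AlgEquiv.Algebra.isSeparable
      ((IntermediateField.equivOfEq htop).trans IntermediateField.topEquiv)
  have hcard : Nat.card (E ≃ₐ[F] E) = 2 := by rw [IsGalois.card_aut_eq_finrank, hdeg]
  haveI : Nontrivial (E ≃ₐ[F] E) := by
    rw [← Finite.one_lt_card_iff_nontrivial, hcard]; norm_num
  obtain ⟨σ, hσ⟩ := exists_ne (1 : E ≃ₐ[F] E)
  refine ⟨σ, ?_⟩
  have hroot : σ y ^ 2 + σ y = y ^ 2 + y := by rw [← map_pow, ← map_add, heq, σ.commutes]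
  have hu : (σ y - y) * (σ y - y - 1) = 0 := by
    linear_combination hroot + (y ^ 2 + y - σ y - σ y * y) * h2E
  rcases mul_eq_zero.mp hu with h | h
  · exfalso
    apply hσ
    have h' : σ y = y := sub_eq_zero.mp h
    ext z
    obtain ⟨a, b, rfl⟩ := HypGenus.exists_repr hdeg hy z
    rw [map_add, map_mul, σ.commutes, σ.commutes, h']
    rfl
  · linear_combination h

end quad

section ext

variable {k K K' : Type*} [Field k] [Field K] [Field K'] [Algebra k K] [Algebra K K']
  [Algebra k K'] [IsScalarTower k K K']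

theorem exists_isOver [FiniteDimensional K K'] (hK : IsFunctionField k K) (P : Place k K) :
    ∃ Q : Place k K', IsOver Q P := by
  classical
  obtain ⟨hfin, hsum⟩ := FG.finite_isOver_and_sum (K' := K') hK P
  have h := hsum hfin.toFinset (fun Q => by rw [Set.Finite.mem_toFinset]; rfl)
  by_contra hne
  push Not at hne
  have hempty : hfin.toFinset = ∅ := by
    rw [Finset.eq_empty_iff_forall_notMem]
    intro Q hQ
    rw [Set.Finite.mem_toFinset] at hQ
    exact hne Q hQ
  rw [hempty, Finset.sum_empty] at h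
  have h1 : 0 < Module.finrank K K' := Module.finrank_pos
  have h2 := FF.deg_pos_place hK P
  have := Nat.mul_pos h1 h2
  omega

theorem val_le_iff_of_isOverWith {Q : Place k K'} {P : Place k K} {e : ℕ}
    (he : IsOverWith Q P e) (r : K) (c : ℤ) :
    Q.1 (algebraMap K K' r) ≤ WithZero.exp ((e : ℤ) * c) ↔ P.1 r ≤ WithZero.exp c := by
  have he0 := FG.isOverWith_pos he
  have e1 : (WithZero.exp ((e : ℤ) * c) : WithZero (Multiplicative ℤ)) = WithZero.exp c ^ e := by
    rw [← WithZero.exp_nsmul, nsmul_eq_mul]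
  rw [he r, e1]
  exact pow_le_pow_iff_left₀ zero_le zero_le he0

theorem ord_of_isOverWith {Q : Place k K'} {P : Place k K} {e : ℕ}
    (he : IsOverWith Q P e) {r : K} (hr : r ≠ 0) :
    Q.ord (algebraMap K K' r) = (e : ℤ) * P.ord r := by
  have hr' : algebraMap K K' r ≠ 0 := (_root_.map_ne_zero _).mpr hr
  have h := he r
  rw [FF.val_eq_exp_neg_ord Q hr', FF.val_eq_exp_neg_ord P hr, ← WithZero.exp_nsmul,
    nsmul_eq_mul] at h
  have h' := WithZero.exp_injective h
  linarith

theorem nsmul_poles_apply (hK : IsFunctionField k K) (x : K) (n : ℕ) (P : Place k K) :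
    (n • ((-(FunFld.div k x)) ⊔ 0)) P = n * max (-(P.ord x)) 0 := by
  rw [Finsupp.smul_apply, Finsupp.sup_apply, Finsupp.neg_apply, FF.div_apply hK,
    Finsupp.zero_apply, nsmul_eq_mul]

end ext

section main

universe u v

variable {k : Type u} {K : Type v} [Field k] [Field K] [Algebra k K] [Algebra (RatFunc k) K]
  [IsScalarTower k (RatFunc k) K]

local notation "ι" => algebraMap (RatFunc k) K

theorem core (h2 : ringChar k = 2) (hK : IsFunctionField k K)
    (hdeg : Module.finrank (RatFunc k) K = 2) {y : K} (hy : y ∉ Set.range ι)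
    {f : RatFunc k} (heq : y ^ 2 + y = ι f)
    (hodd : ∀ P : Place k (RatFunc k), P.ord f < 0 → Odd (P.ord f))
    (B : Divisor k (RatFunc k))
    (hB : ∀ P : Place k (RatFunc k), B P = if P.ord f < 0 then (1 - P.ord f) / 2 else 0) :
    (genus k K : ℤ) = B.deg - 1 := by
  classical
  have hK₀ : IsFunctionField k (RatFunc k) := FF.isFunctionField_ratFunc
  haveI hfd : FiniteDimensional (RatFunc k) K :=
    Module.finite_of_finrank_pos (by rw [hdeg]; norm_num)
  have h2k : (2 : k) = 0 := by
    have := ringChar.spec k 2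
    have h3 : ((2 : ℕ) : k) = 0 := this.mpr (by rw [h2])
    exact_mod_cast h3
  have h2F : (2 : RatFunc k) = 0 := by
    rw [← map_ofNat (algebraMap k (RatFunc k)) 2, h2k, map_zero]
  have hy0 : y ≠ 0 := by rintro rfl; exact hy ⟨0, map_zero _⟩
  have hX0 : (RatFunc.X : RatFunc k) ≠ 0 := RatFunc.X_ne_zero
  have hxtr : Transcendental k (ι RatFunc.X) :=
    FG.transcendental_algebraMap FG.transcendental_X
  -- the automorphism
  obtain ⟨σ₀, hσ₀⟩ := exists_sigma h2F hdeg hy heq
  obtain ⟨σ, hσ⟩ : ∃ σ : K ≃ₐ[k] K, ∀ z, σ z = σ₀ z := ⟨σ₀.restrictScalars k, fun z => rfl⟩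
  have hσι : ∀ r : RatFunc k, σ (ι r) = ι r := fun r => by rw [hσ]; exact σ₀.commutes r
  have hσy : σ y = y + 1 := by rw [hσ]; exact hσ₀
  -- the divisors
  obtain ⟨A, hA⟩ : ∃ A : Divisor k K, A = (-(FunFld.div k (ι RatFunc.X))) ⊔ 0 := ⟨_, rfl⟩
  obtain ⟨A₀, hA₀⟩ : ∃ A₀ : Divisor k (RatFunc k),
      A₀ = (-(FunFld.div k (RatFunc.X : RatFunc k))) ⊔ 0 := ⟨_, rfl⟩
  have hdegA : A.deg = 2 := by
    rw [hA, FF.deg_poles_eq hK hxtr, FG.finrank_adjoin_algebraMap, RatFunc.adjoin_X,
      IntermediateField.finrank_top, hdeg]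
    norm_num
  have hdegA₀ : A₀.deg = 1 := by
    rw [hA₀, FF.deg_poles_eq hK₀ FG.transcendental_X, RatFunc.adjoin_X,
      IntermediateField.finrank_top]
    norm_num
  have hAQ : ∀ (n : ℕ) (Q : Place k K),
      (n • A) Q = n * max (-(Q.ord (ι RatFunc.X))) 0 := by
    intro n Q; rw [hA]; exact nsmul_poles_apply hK _ n Q
  have hAP : ∀ (n : ℕ) (P : Place k (RatFunc k)),
      (n • A₀) P = n * max (-(P.ord (RatFunc.X : RatFunc k))) 0 := by
    intro n P; rw [hA₀]; exact nsmul_poles_apply hK₀ _ n P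
  have hR : ∀ (n : ℕ) (Q : Place k K) (P₀ : Place k (RatFunc k)) (e : ℕ), IsOverWith Q P₀ e →
      (n • A) Q = e * (n • A₀) P₀ := by
    intro n Q P₀ e he
    rw [hAQ, hAP, ord_of_isOverWith he hX0]
    have : max (-((e : ℤ) * P₀.ord (RatFunc.X : RatFunc k))) 0 =
        (e : ℤ) * max (-(P₀.ord (RatFunc.X : RatFunc k))) 0 := by
      rw [mul_max_of_nonneg _ _ (Int.natCast_nonneg e), mul_zero, mul_neg]
    rw [this]; ring
  -- the behaviour of `y`
  have hY : ∀ Q : Place k K, (Q.1 (ι f) ≤ 1 → Q.1 y ≤ 1) ∧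
      (1 < Q.1 (ι f) → Q.1 y ^ 2 = Q.1 (ι f)) := by
    intro Q
    have key : 1 < Q.1 y → Q.1 (ι f) = Q.1 y ^ 2 ∧ 1 < Q.1 y ^ 2 := by
      intro hy1
      have hlt : Q.1 y < Q.1 (y ^ 2) := by
        rw [map_pow, pow_two]
        calc Q.1 y = 1 * Q.1 y := (one_mul _).symm
          _ < Q.1 y * Q.1 y := mul_lt_mul_of_pos_right hy1 (lt_trans zero_lt_one hy1)
      rw [← heq, Valuation.map_add_eq_of_lt_left _ hlt, map_pow]
      exact ⟨rfl, one_lt_pow₀ hy1 two_ne_zero⟩
    constructor
    · intro hf1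
      by_contra hy1
      rw [not_le] at hy1
      obtain ⟨e1, e2⟩ := key hy1
      rw [e1] at hf1
      exact absurd e2 (not_lt.mpr hf1)
    · intro hf1
      have hy1 : 1 < Q.1 y := by
        by_contra hle
        rw [not_lt] at hle
        have : Q.1 (ι f) ≤ 1 := by
          rw [← heq]
          refine (Q.1.map_add _ _).trans (max_le ?_ hle)
          rw [map_pow]; exact pow_le_one₀ zero_le hle
        exact absurd hf1 (not_lt.mpr this)
      exact (key hy1).1.symm
  have hnonpole : ∀ (P₀ : Place k (RatFunc k)) (Q : Place k K) (e : ℕ), ¬ P₀.ord f < 0 →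
      IsOverWith Q P₀ e → Q.1 y ≤ 1 := by
    intro P₀ Q e hneg he
    have hf1 : P₀.1 f ≤ 1 := by
      by_cases hf0 : f = 0
      · rw [hf0, map_zero]; exact zero_le
      · exact (FF.ord_nonneg_iff P₀ hf0).1 (not_lt.mp hneg)
    have hQf : Q.1 (ι f) ≤ 1 := by rw [he f]; exact pow_le_one₀ zero_le hf1
    exact (hY Q).1 hQf
  have hpole : ∀ (P₀ : Place k (RatFunc k)) (Q : Place k K), P₀.ord f < 0 → IsOver Q P₀ →
      f ≠ 0 ∧ IsOverWith Q P₀ 2 ∧ Q.1 y = P₀.1 f := by
    intro P₀ Q hneg hQ
    have hf0 : f ≠ 0 := by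
      rintro rfl
      rw [FF.ord_zero] at hneg
      exact lt_irrefl _ hneg
    have hram := (FG.artin_schreier_ramification h2 hdeg y hy f heq P₀).1 ⟨hneg, hodd P₀ hneg⟩
    have he2 := (hram.2 Q hQ).1
    refine ⟨hf0, he2, ?_⟩
    have hf1 : 1 < P₀.1 f := (FF.ord_neg_iff P₀ hf0).1 hneg
    have hQf : Q.1 (ι f) = P₀.1 f ^ 2 := he2 f
    have h1 : 1 < Q.1 (ι f) := by rw [hQf]; exact one_lt_pow₀ hf1 two_ne_zero
    have h3 := (hY Q).2 h1
    rw [hQf] at h3
    exact (pow_left_inj₀ zero_le zero_le two_ne_zero).1 h3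
  -- the dimension count
  have hcount : ∀ n : ℕ, Module.finrank k (L (n • A)) =
      Module.finrank k (L (n • A₀)) + Module.finrank k (L (n • A₀ - B)) := by
    intro n
    haveI : FiniteDimensional k (L (n • A₀)) := FF.finiteDimensional_L hK₀ _
    haveI : FiniteDimensional k (L (n • A₀ - B)) := FF.finiteDimensional_L hK₀ _
    let ιl : RatFunc k →ₗ[k] K := (IsScalarTower.toAlgHom k (RatFunc k) K).toLinearMap
    let f1 : L (n • A₀) →ₗ[k] K := ιl.comp (L (n • A₀)).subtype
    let f2 : L (n • A₀ - B) →ₗ[k] K :=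
      (LinearMap.mulRight k y).comp (ιl.comp (L (n • A₀ - B)).subtype)
    let T : (L (n • A₀) × L (n • A₀ - B)) →ₗ[k] K := f1.coprod f2
    have hT : ∀ pq : L (n • A₀) × L (n • A₀ - B), T pq = ι pq.1.1 + ι pq.2.1 * y :=
      fun pq => rfl
    have hmem : ∀ pq : L (n • A₀) × L (n • A₀ - B), T pq ∈ L (n • A) := by
      intro pq
      rw [hT]
      apply Submodule.add_mem
      · refine (FF.mem_L_iff _ _).2 fun Q => ?_
        obtain ⟨P₀, e, he⟩ := FG.exists_isOverWith hK₀.1 Q
        rw [hR n Q P₀ e he, val_le_iff_of_isOverWith he]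
        exact pq.1.2 P₀
      · refine (FF.mem_L_iff _ _).2 fun Q => ?_
        obtain ⟨P₀, e, he⟩ := FG.exists_isOverWith hK₀.1 Q
        have hb : P₀.1 pq.2.1 ≤ WithZero.exp ((n • A₀ - B) P₀) := pq.2.2 P₀
        rw [Finsupp.sub_apply, hB] at hb
        by_cases hneg : P₀.ord f < 0
        · obtain ⟨hf0, he2, hQy⟩ := hpole P₀ Q hneg ⟨e, he⟩
          rw [if_pos hneg] at hb
          by_cases hb0 : pq.2.1 = 0
          · rw [hb0, map_zero, zero_mul, map_zero]; exact zero_le
          rw [FF.val_le_exp_iff P₀ hb0] at hb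
          obtain ⟨t, ht⟩ := hodd P₀ hneg
          rw [map_mul, he2 pq.2.1, hQy, FF.val_eq_exp_neg_ord P₀ hb0,
            FF.val_eq_exp_neg_ord P₀ hf0, ← WithZero.exp_nsmul, ← WithZero.exp_add,
            WithZero.exp_le_exp, hR n Q P₀ 2 he2]
          simp only [nsmul_eq_mul, Nat.cast_ofNat]
          omega
        · rw [if_neg hneg, sub_zero] at hb
          have hy1 := hnonpole P₀ Q e hneg he
          rw [map_mul]
          refine (mul_le_mul' le_rfl hy1).trans ?_
          rw [mul_one, hR n Q P₀ e he, val_le_iff_of_isOverWith he]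
          exact hb
    have hinjT : Function.Injective (T.codRestrict (L (n • A)) hmem) := by
      rw [injective_iff_map_eq_zero]
      intro pq h0
      have h1 : T pq = 0 := by
        have := congrArg Subtype.val h0
        simpa using this
      rw [hT] at h1
      have hli := HypGenus.linearIndependent_one hy
      rw [LinearIndependent.pair_iff] at hli
      obtain ⟨ha0, hb0⟩ := hli pq.1.1 pq.2.1 (by
        rw [Algebra.smul_def, Algebra.smul_def, mul_one]; exact h1)
      apply Prod.ext
      · exact Subtype.ext ha0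
      · exact Subtype.ext hb0
    have hsurjT : Function.Surjective (T.codRestrict (L (n • A)) hmem) := by
      rintro ⟨z, hz⟩
      obtain ⟨a, b, rfl⟩ := HypGenus.exists_repr hdeg hy z
      have hzv : ∀ Q : Place k K, Q.1 (ι a + ι b * y) ≤ WithZero.exp ((n • A) Q) := hz
      have hσz : σ (ι a + ι b * y) = ι a + ι b * y + ι b := by
        rw [map_add, map_mul, hσι, hσι, hσy]; ring
      have hbv : ∀ Q : Place k K, Q.1 (ι b) ≤ WithZero.exp ((n • A) Q) := by
        intro Q
        have h1 := hzv (FF.comapPlace σ Q)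
        have hAeq : (n • A) (FF.comapPlace σ Q) = (n • A) Q := by
          rw [hAQ, hAQ, FF.comapPlace_ord, hσι]
        rw [FF.comapPlace_val, hAeq, hσz] at h1
        have e : ι b = (ι a + ι b * y + ι b) - (ι a + ι b * y) := by ring
        rw [e]
        exact (Valuation.map_sub _ _ _).trans (max_le h1 (hzv Q))
      have hab : ∀ P₀ : Place k (RatFunc k), P₀.1 a ≤ WithZero.exp ((n • A₀) P₀) ∧
          P₀.1 b ≤ WithZero.exp ((n • A₀ - B) P₀) := by
        intro P₀
        obtain ⟨Q, e, he⟩ := exists_isOver (K' := K) hK₀ P₀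
        have hzQ := hzv Q
        have hbQ := hbv Q
        rw [Finsupp.sub_apply, hB]
        by_cases hneg : P₀.ord f < 0
        · obtain ⟨hf0, he2, hQy⟩ := hpole P₀ Q hneg ⟨e, he⟩
          rw [if_pos hneg]
          obtain ⟨t, ht⟩ := hodd P₀ hneg
          have hbound : ∀ b' : RatFunc k, Q.1 (ι b' * y) ≤ WithZero.exp ((n • A) Q) →
              P₀.1 b' ≤ WithZero.exp ((n • A₀) P₀ - (1 - P₀.ord f) / 2) := by
            intro b' h
            by_cases hb0 : b' = 0
            · rw [hb0, map_zero]; exact zero_le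
            rw [FF.val_le_exp_iff P₀ hb0]
            rw [map_mul, he2 b', hQy, FF.val_eq_exp_neg_ord P₀ hb0,
              FF.val_eq_exp_neg_ord P₀ hf0, ← WithZero.exp_nsmul, ← WithZero.exp_add,
              WithZero.exp_le_exp, hR n Q P₀ 2 he2] at h
            simp only [nsmul_eq_mul, Nat.cast_ofNat] at h
            omega
          have hpar : Q.1 (ι a) ≠ Q.1 (ι b * y) ∨ (a = 0 ∧ b = 0) := by
            by_cases ha0 : a = 0
            · by_cases hb0 : b = 0
              · exact Or.inr ⟨ha0, hb0⟩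
              · left
                rw [ha0, map_zero, map_zero]
                exact (FF.val_pos Q (mul_ne_zero ((_root_.map_ne_zero _).mpr hb0) hy0)).ne
            · by_cases hb0 : b = 0
              · left
                rw [hb0, map_zero, zero_mul, map_zero]
                exact (FF.val_pos Q ((_root_.map_ne_zero _).mpr ha0)).ne'
              · left
                intro heq'
                rw [map_mul, he2 a, he2 b, hQy, FF.val_eq_exp_neg_ord P₀ ha0,
                  FF.val_eq_exp_neg_ord P₀ hb0, FF.val_eq_exp_neg_ord P₀ hf0,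
                  ← WithZero.exp_nsmul, ← WithZero.exp_nsmul, ← WithZero.exp_add] at heq'
                have h3 := WithZero.exp_injective heq'
                simp only [nsmul_eq_mul, Nat.cast_ofNat] at h3
                omega
          rcases hpar with hne | ⟨ha0, hb0⟩
          · rw [Valuation.map_add_of_distinct_val _ hne, max_le_iff] at hzQ
            refine ⟨?_, hbound b hzQ.2⟩
            have h1 := hzQ.1
            rw [hR n Q P₀ 2 he2, val_le_iff_of_isOverWith he2] at h1
            exact h1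
          · rw [ha0, hb0, map_zero]
            exact ⟨zero_le, zero_le⟩
        · rw [if_neg hneg, sub_zero]
          have hy1 := hnonpole P₀ Q e hneg he
          have hb' : P₀.1 b ≤ WithZero.exp ((n • A₀) P₀) := by
            rw [hR n Q P₀ e he, val_le_iff_of_isOverWith he] at hbQ
            exact hbQ
          refine ⟨?_, hb'⟩
          have hby : Q.1 (ι b * y) ≤ WithZero.exp ((n • A) Q) := by
            rw [map_mul]
            exact (mul_le_mul' le_rfl hy1).trans (by rw [mul_one]; exact hbQ)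
          have e' : ι a = (ι a + ι b * y) - ι b * y := by ring
          have h1 : Q.1 (ι a) ≤ WithZero.exp ((n • A) Q) := by
            rw [e']; exact (Valuation.map_sub _ _ _).trans (max_le hzQ hby)
          rw [hR n Q P₀ e he, val_le_iff_of_isOverWith he] at h1
          exact h1
      refine ⟨(⟨a, fun P => (hab P).1⟩, ⟨b, fun P => (hab P).2⟩), Subtype.ext ?_⟩
      show T (⟨a, _⟩, ⟨b, _⟩) = ι a + ι b * y
      rw [hT]
    have e := LinearEquiv.ofBijective (T.codRestrict (L (n • A)) hmem) ⟨hinjT, hsurjT⟩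
    rw [← e.finrank_eq, Module.finrank_prod]
  -- conclusion
  obtain ⟨g, hg_def⟩ : ∃ g, g = genus k K := ⟨_, rfl⟩
  obtain ⟨d, hd⟩ : ∃ d : ℕ, B.deg ≤ (d : ℤ) := ⟨B.deg.toNat, Int.self_le_toNat _⟩
  obtain ⟨n, hn_def⟩ : ∃ n : ℕ, n = g + d := ⟨_, rfl⟩
  have hell := FF.ell_eq_of_deg_ge hK (n • A) (by
    rw [FF.deg_nsmul, hdegA, ← hg_def, hn_def]; push_cast; omega)
  have hell1 := FF.ell_eq_of_deg_ge hK₀ (n • A₀) (by
    rw [FG.genus_ratFunc, FF.deg_nsmul, hdegA₀]; push_cast; omega)
  have hell2 := FF.ell_eq_of_deg_ge hK₀ (n • A₀ - B) (by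
    rw [FG.genus_ratFunc, FF.deg_sub, FF.deg_nsmul, hdegA₀, hn_def]; push_cast; omega)
  have h := hcount n
  have hell' : (Module.finrank k (L (n • A)) : ℤ) = (n • A).deg + 1 - genus k K := hell
  have hell1' : (Module.finrank k (L (n • A₀)) : ℤ) =
      (n • A₀).deg + 1 - genus k (RatFunc k) := hell1
  have hell2' : (Module.finrank k (L (n • A₀ - B)) : ℤ) =
      (n • A₀ - B).deg + 1 - genus k (RatFunc k) := hell2
  rw [FF.deg_nsmul, hdegA, ← hg_def] at hell'
  rw [FF.deg_nsmul, hdegA₀, FG.genus_ratFunc] at hell1'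
  rw [FF.deg_sub, FF.deg_nsmul, hdegA₀, FG.genus_ratFunc] at hell2'
  rw [← hg_def]
  have h' : (Module.finrank k (L (n • A)) : ℤ) =
      Module.finrank k (L (n • A₀)) + Module.finrank k (L (n • A₀ - B)) := by exact_mod_cast h
  push_cast at hell1' hell2'
  omega

theorem s11028 (k K : Type*) [Field k] [Field K] [PerfectField k] (h2 : ringChar k = 2)
    [Algebra k K] [Algebra (RatFunc k) K] [IsScalarTower k (RatFunc k) K]
    (hK : FunFld.IsFunctionField k K)
    (hdeg : Module.finrank (RatFunc k) K = 2) (y : K)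
    (hy : y ∉ Set.range (algebraMap (RatFunc k) K))
    (f : RatFunc k) (heq : y ^ 2 + y = algebraMap (RatFunc k) K f)
    (hodd : ∀ P : FunFld.Place k (RatFunc k), FunFld.div k f P < 0 → Odd (FunFld.div k f P)) :
    (FunFld.genus k K : ℤ) = -1 + ∑ P ∈ (FunFld.div k f).support with FunFld.div k f P < 0,
      (1 - FunFld.div k f P) / 2 * (P.deg : ℤ) := by
  classical
  have hK₀ : IsFunctionField k (RatFunc k) := FF.isFunctionField_ratFunc
  obtain ⟨g, hg⟩ : ∃ g : ℤ → ℤ, g = fun n => if n < 0 then (1 - n) / 2 else 0 := ⟨_, rfl⟩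
  have hg0 : g 0 = 0 := by rw [hg]; simp
  obtain ⟨B, hB⟩ : ∃ B : Divisor k (RatFunc k), B = (FunFld.div k f).mapRange g hg0 :=
    ⟨_, rfl⟩
  have hBP : ∀ P : Place k (RatFunc k),
      B P = if P.ord f < 0 then (1 - P.ord f) / 2 else 0 := by
    intro P
    rw [hB, Finsupp.mapRange_apply, FF.div_apply hK₀, hg]
  have hdegB : B.deg = ∑ P ∈ (FunFld.div k f).support with FunFld.div k f P < 0,
      (1 - FunFld.div k f P) / 2 * (P.deg : ℤ) := by
    rw [hB]
    unfold Divisor.deg
    rw [Finsupp.sum_mapRange_index (by intro P; simp), Finsupp.sum, Finset.sum_filter]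
    refine Finset.sum_congr rfl fun P _ => ?_
    rw [hg]
    simp only
    split_ifs <;> simp
  have h := core h2 hK hdeg hy heq (fun P hP => by
    have := hodd P (by rwa [FF.div_apply hK₀])
    rwa [FF.div_apply hK₀] at this) B hBP
  rw [h, hdegB]
  ring

end main

end Groth.Agent.Helper6.ASGenus
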