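import Groth.Agent.Helper6.TateRho

set_option autoImplicit false
set_option linter.style.haveILetI false

/-!
# Intertwining and the abstract global vanishing theorem
-/

namespace Groth.Agent.Helper6.TateGlob

open Groth.Agent.Helper6.TateTr Groth.Agent.Helper6.TateRho

variable {k : Type*} [Field k] {V : Type*} [AddCommGroup V] [Module k V]

/-- transport along an injective intertwining map whose image contains a complement -/
theorem tr_comm_intertwine {V' : Type*} [AddCommGroup V'] [Module k V'] (j : V' →ₗ[k] V)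
    (hj : Function.Injective j)
    {p f g : Module.End k V} {p' f' g' : Module.End k V'}
    (hp : p * p = p) (hfg : f * g = g * f)
    (ip : p ∘ₗ j = j ∘ₗ p') (jf : f ∘ₗ j = j ∘ₗ f') (jg : g ∘ₗ j = j ∘ₗ g')
    (hker : ∀ x, x - p x ∈ LinearMap.range j)
    (hu : FR ((1 - p) * f * p)) (hv : FR ((1 - p) * g * p)) :
    tr (comm p' f' g') = tr (comm p f g) := by
  have I_mul : ∀ (X Y : Module.End k V) (X' Y' : Module.End k V'), X ∘ₗ j = j ∘ₗ X' →
      Y ∘ₗ j = j ∘ₗ Y' → (X * Y) ∘ₗ j = j ∘ₗ (X' * Y') := by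
    intro X Y X' Y' hX hY
    rw [Module.End.mul_eq_comp, Module.End.mul_eq_comp, LinearMap.comp_assoc, hY,
      ← LinearMap.comp_assoc, hX, LinearMap.comp_assoc]
  have I_sub : ∀ (X Y : Module.End k V) (X' Y' : Module.End k V'), X ∘ₗ j = j ∘ₗ X' →
      Y ∘ₗ j = j ∘ₗ Y' → (X - Y) ∘ₗ j = j ∘ₗ (X' - Y') := by
    intro X Y X' Y' hX hY
    rw [LinearMap.sub_comp, LinearMap.comp_sub, hX, hY]
  have IT : comm p f g ∘ₗ j = j ∘ₗ comm p' f' g' := by
    unfold TateRho.comm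
    exact I_sub _ _ _ _
      (I_mul _ _ _ _ (I_mul _ _ _ _ (I_mul _ _ _ _ ip jf) ip)
        (I_mul _ _ _ _ (I_mul _ _ _ _ ip jg) ip))
      (I_mul _ _ _ _ (I_mul _ _ _ _ (I_mul _ _ _ _ ip jg) ip)
        (I_mul _ _ _ _ (I_mul _ _ _ _ ip jf) ip))
  have key : ∀ (X : Module.End k V) (X' : Module.End k V'), X ∘ₗ j = j ∘ₗ X' →
      ∀ y ∈ LinearMap.range j, X y ∈ LinearMap.range j := by
    rintro X X' hX _ ⟨y, rfl⟩
    exact ⟨X' y, (LinearMap.congr_fun hX y).symm⟩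
  have hT : ∀ x, comm p f g x ∈ LinearMap.range j := by
    intro x
    rw [comm_eq_of_commute hp hfg]
    simp only [LinearMap.sub_apply, Module.End.mul_apply, Module.End.one_apply]
    refine Submodule.sub_mem _ ?_ ?_
    · exact key p p' ip _ (key g g' jg _ (hker _))
    · exact key p p' ip _ (key f f' jf _ (hker _))
  obtain ⟨lam, hlam⟩ := LinearMap.exists_leftInverse_of_injective j (LinearMap.ker_eq_bot.2 hj)
  have hc := fr_comm hp hfg hu hv
  have hΨ : FR (lam ∘ₗ comm p f g) := hc.comp_left lam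
  have e1 : j ∘ₗ (lam ∘ₗ comm p f g) = comm p f g := by
    ext x
    obtain ⟨y, hy⟩ := hT x
    simp only [LinearMap.comp_apply]
    rw [← hy]
    congr 1
    exact LinearMap.congr_fun hlam y
  have e2 : (lam ∘ₗ comm p f g) ∘ₗ j = comm p' f' g' := by
    rw [LinearMap.comp_assoc, IT, ← LinearMap.comp_assoc, hlam, LinearMap.id_comp]
  rw [← e2, ← tr_comm hΨ j, e1]

/-- abstract residue theorem: `A ∩ B` and `V/(A+B)` finite-dimensional, `B` stable. -/
theorem tr_comm_eq_zero_of_global {p f g : Module.End k V} (A B : Submodule k V)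
    (hp : p * p = p) (hpA : LinearMap.range p = A) (hfg : f * g = g * f)
    (hfB : ∀ x ∈ B, f x ∈ B) (hgB : ∀ x ∈ B, g x ∈ B)
    [FiniteDimensional k ↥(A ⊓ B)] [FiniteDimensional k (V ⧸ (A ⊔ B))]
    (hu : FR ((1 - p) * f * p)) (hv : FR ((1 - p) * g * p)) :
    tr (comm p f g) = 0 := by
  obtain ⟨Zc, hZc⟩ := Submodule.exists_isCompl (A ⊓ B)
  obtain ⟨H', hH'⟩ := Submodule.exists_isCompl (A ⊔ B)
  haveI : FiniteDimensional k H' :=
    Module.Finite.equiv (Submodule.quotientEquivOfIsCompl (A ⊔ B) H' hH')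
  have hB1 : (A ⊓ B) ⊔ (B ⊓ Zc) = B := by
    have := sup_inf_assoc_of_le Zc (inf_le_right : A ⊓ B ≤ B)
    rw [hZc.sup_eq_top, top_inf_eq] at this
    rw [inf_comm B Zc, ← this]
  have hA1 : (A ⊓ B) ⊔ (A ⊓ Zc) = A := by
    have := sup_inf_assoc_of_le Zc (inf_le_left : A ⊓ B ≤ A)
    rw [hZc.sup_eq_top, top_inf_eq] at this
    rw [inf_comm A Zc, ← this]
  have dAB' : Disjoint A (B ⊓ Zc) := by
    rw [disjoint_iff, ← inf_assoc]
    exact hZc.inf_eq_bot
  have dBA' : Disjoint B (A ⊓ Zc) := by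
    rw [disjoint_iff, ← inf_assoc, inf_comm B A]
    exact hZc.inf_eq_bot
  have hAc : IsCompl A ((B ⊓ Zc) ⊔ H') := by
    refine ⟨dAB'.disjoint_sup_right_of_disjoint_sup_left
      (hH'.disjoint.mono_left (sup_le_sup_left inf_le_left A)), ?_⟩
    rw [codisjoint_iff, ← sup_assoc]
    have : A ⊔ B ⊓ Zc = A ⊔ B := by
      apply le_antisymm (sup_le_sup_left inf_le_left A)
      calc A ⊔ B = A ⊔ ((A ⊓ B) ⊔ (B ⊓ Zc)) := by rw [hB1]
        _ ≤ A ⊔ B ⊓ Zc :=
          sup_le le_sup_left (sup_le (inf_le_left.trans le_sup_left) le_sup_right)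
    rw [this, hH'.sup_eq_top]
  have hBc : IsCompl B ((A ⊓ Zc) ⊔ H') := by
    refine ⟨dBA'.disjoint_sup_right_of_disjoint_sup_left
      (hH'.disjoint.mono_left (by rw [sup_comm A B]; exact sup_le_sup_left inf_le_left B)), ?_⟩
    rw [codisjoint_iff, ← sup_assoc]
    have : B ⊔ A ⊓ Zc = A ⊔ B := by
      apply le_antisymm (by rw [sup_comm A B]; exact sup_le_sup_left inf_le_left B)
      calc A ⊔ B = ((A ⊓ B) ⊔ (A ⊓ Zc)) ⊔ B := by rw [hA1]
        _ ≤ B ⊔ A ⊓ Zc :=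
          sup_le (sup_le (inf_le_right.trans le_sup_left) le_sup_right) le_sup_left
    rw [this, hH'.sup_eq_top]
  obtain ⟨p₁, hp₁⟩ : ∃ p₁ : Module.End k V, p₁ = A.projection _ hAc := ⟨_, rfl⟩
  obtain ⟨q₁, hq₁⟩ : ∃ q₁ : Module.End k V, q₁ = B.projection _ hBc := ⟨_, rfl⟩
  have p₁A : ∀ x ∈ A, p₁ x = x := fun x hx => by
    rw [hp₁]; exact Submodule.projection_apply_of_mem_left hAc hx
  have p₁0 : ∀ x ∈ (B ⊓ Zc) ⊔ H', p₁ x = 0 := fun x hx => by
    rw [hp₁]; exact Submodule.projection_apply_of_mem_right hAc hx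
  have p₁m : ∀ x, p₁ x ∈ A := fun x => by
    rw [hp₁]; exact Submodule.projection_apply_mem hAc x
  have q₁B : ∀ x ∈ B, q₁ x = x := fun x hx => by
    rw [hq₁]; exact Submodule.projection_apply_of_mem_left hBc hx
  have q₁0 : ∀ x ∈ (A ⊓ Zc) ⊔ H', q₁ x = 0 := fun x hx => by
    rw [hq₁]; exact Submodule.projection_apply_of_mem_right hBc hx
  have q₁m : ∀ x, q₁ x ∈ B := fun x => by
    rw [hq₁]; exact Submodule.projection_apply_mem hBc x
  have pA : ∀ x ∈ A, p x = x := by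
    intro x hx
    rw [← hpA] at hx
    obtain ⟨y, rfl⟩ := hx
    exact LinearMap.congr_fun hp y
  have pm : ∀ x, p x ∈ A := fun x => by rw [← hpA]; exact LinearMap.mem_range_self p x
  have hpp₁ : p₁ * p₁ = p₁ := by
    ext x; exact p₁A _ (p₁m x)
  have hqq₁ : q₁ * q₁ = q₁ := by
    ext x; exact q₁B _ (q₁m x)
  have h1 : p₁ * p = p := by
    ext x; exact p₁A _ (pm x)
  have h2 : p * p₁ = p₁ := by
    ext x; exact pA _ (p₁m x)
  obtain ⟨hu₁, hv₁, e1⟩ := tr_comm_indep hp hpp₁ h1 h2 hfg hu hv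
  obtain ⟨hc₂, e2⟩ := tr_comm_compl hpp₁ hfg hu₁ hv₁
  have hε : FR (q₁ - (1 - p₁)) := by
    refine FR.of_le ((A ⊓ B) ⊔ H') ?_
    rintro _ ⟨x, rfl⟩
    obtain ⟨a, ha, c, hc, rfl⟩ := Submodule.mem_sup.1
      (show x ∈ A ⊔ ((B ⊓ Zc) ⊔ H') by rw [hAc.sup_eq_top]; exact Submodule.mem_top)
    obtain ⟨b', hb', h, hh, rfl⟩ := Submodule.mem_sup.1 hc
    obtain ⟨z, hz, a', ha', rfl⟩ := Submodule.mem_sup.1
      (show a ∈ (A ⊓ B) ⊔ (A ⊓ Zc) by rw [hA1]; exact ha)
    have e₁ : p₁ (z + a' + (b' + h)) = z + a' := by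
      rw [map_add, p₁A _ ha, p₁0 _ hc, add_zero]
    have e₂ : q₁ (z + a' + (b' + h)) = z + b' := by
      rw [map_add, map_add, map_add, q₁B z hz.2, q₁0 a' (Submodule.mem_sup_left ha'),
        q₁B b' hb'.1, q₁0 h (Submodule.mem_sup_right hh)]
      abel
    have : (q₁ - (1 - p₁)) (z + a' + (b' + h)) = z - h := by
      simp only [LinearMap.sub_apply, Module.End.one_apply, e₁, e₂]
      abel
    rw [this]
    exact Submodule.sub_mem _ (Submodule.mem_sup_left hz) (Submodule.mem_sup_right hh)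
  obtain ⟨-, e3⟩ := tr_comm_perturb (p := 1 - p₁) (q := q₁) (f := f) (g := g) hε hc₂
  have e4 : comm q₁ f g = 0 := by
    apply comm_eq_zero_of_stable hqq₁ hfg
    · ext x
      simp only [Module.End.mul_apply, LinearMap.sub_apply, Module.End.one_apply,
        LinearMap.zero_apply]
      rw [q₁B _ (hfB _ (q₁m x)), sub_self]
    · ext x
      simp only [Module.End.mul_apply, LinearMap.sub_apply, Module.End.one_apply,
        LinearMap.zero_apply]
      rw [q₁B _ (hgB _ (q₁m x)), sub_self]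
  rw [← e1, ← neg_neg (tr (comm p₁ f g)), ← e2, ← e3, e4, tr_zero, neg_zero]

end Groth.Agent.Helper6.TateGlob
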