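import Groth.Agent.Helper6.TateLoc
import Groth.Agent.Helper6.TateGlob

set_option autoImplicit false
set_option linter.style.haveILetI false

/-!
# The commutator trace on a valued field with an expansion is the local residue
-/

namespace Groth.Agent.Helper6.TateExp

open Groth.Agent.Helper6.TateTr Groth.Agent.Helper6.TateRho Groth.Agent.Helper6.TateLoc
  Groth.Agent.Helper6.TateGlob
open LaurentSeries HahnSeries

variable {k : Type*} [Field k] {K : Type*} [Field K] [Algebra k K]
  {F : Type*} [Field F] [Algebra k F]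

/-- the expansion as a `k`-linear map for the coefficientwise module structure -/
noncomputable def jmap (φ : K →ₐ[k] F⸨X⸩) : K →ₗ[k] F⸨X⸩ where
  toFun := φ
  map_add' := map_add φ
  map_smul' c x := by
    simp only [RingHom.id_apply]
    rw [Algebra.smul_def, map_mul, LocRes.map_algebraMap, HahnSeries.C_mul_eq_smul,
      algebraMap_smul]

theorem jmap_apply (φ : K →ₐ[k] F⸨X⸩) (x : K) : jmap φ x = φ x := rfl

theorem jmap_injective (φ : K →ₐ[k] F⸨X⸩) : Function.Injective (jmap φ) :=
  φ.toRingHom.injective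

/-- the valuation ring as a `k`-subspace -/
def OSub (w : Valuation K (WithZero (Multiplicative ℤ)))
    (hw : ∀ c : k, w (algebraMap k K c) ≤ 1) : Submodule k K where
  carrier := {x | w x ≤ 1}
  add_mem' ha hb := (w.map_add _ _).trans (max_le ha hb)
  zero_mem' := by simp
  smul_mem' c x hx := by
    rw [Set.mem_setOf_eq, Algebra.smul_def, map_mul]
    exact mul_le_one' (hw c) hx

theorem mem_OSub (w : Valuation K (WithZero (Multiplicative ℤ)))
    (hw : ∀ c : k, w (algebraMap k K c) ≤ 1) (x : K) : x ∈ OSub w hw ↔ w x ≤ 1 := Iff.rfl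

/-- multiplication operator on `K` -/
noncomputable def mulK (u : K) : Module.End k K := LinearMap.mulLeft k u

theorem mulK_apply (u x : K) : mulK (k := k) u x = u * x := rfl

theorem mulK_comm (u v : K) : mulK (k := k) u * mulK v = mulK v * mulK u := by
  ext x; simp [mulK_apply, mul_left_comm]

theorem FR.of_comp_injective {V W U : Type*} [AddCommGroup V] [Module k V] [AddCommGroup W]
    [Module k W] [AddCommGroup U] [Module k U] (j : W →ₗ[k] U) (hj : Function.Injective j)
    {θ : V →ₗ[k] W} (h : FR (j ∘ₗ θ)) : FR θ := by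
  unfold FR at *
  rw [LinearMap.range_comp] at h
  exact Module.Finite.equiv (Submodule.equivMapOfInjective j hj (LinearMap.range θ)).symm

section
variable (w : Valuation K (WithZero (Multiplicative ℤ))) (φ : K →ₐ[k] F⸨X⸩)
  (hφ : LocRes.IsExpansionAt w φ)
include hφ

theorem isPS_jmap_iff (x : K) : IsPS (jmap φ x) ↔ w x ≤ 1 := by
  rw [isPS_iff_val, jmap_apply, hφ.1]

theorem exists_approx (h : F⸨X⸩) : ∃ y : K, IsPS (h - jmap φ y) := by
  obtain ⟨N, hN⟩ := exists_nat_val_le h
  induction N generalizing h with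
  | zero =>
    refine ⟨0, ?_⟩
    rw [map_zero, sub_zero, isPS_iff_val]
    simpa using hN
  | succ N ih =>
    obtain ⟨t, ht⟩ := hφ.2.2
    have hT : Valued.v (φ t) = WithZero.exp (-1 : ℤ) := by rw [hφ.1, ht]
    have hP : Valued.v (φ t ^ (N + 1)) = WithZero.exp (-((N + 1 : ℕ) : ℤ)) := by
      rw [map_pow, hT, ← WithZero.exp_nsmul]
      congr 1
      simp
    have hP0 : φ t ^ (N + 1) ≠ 0 := by
      intro h0
      rw [h0, map_zero] at hP
      exact WithZero.exp_ne_zero hP.symm
    have hs : IsPS (φ t ^ (N + 1) * h) := by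
      rw [isPS_iff_val, map_mul, hP]
      calc WithZero.exp (-((N + 1 : ℕ) : ℤ)) * Valued.v h
          ≤ WithZero.exp (-((N + 1 : ℕ) : ℤ)) * WithZero.exp ((N + 1 : ℕ) : ℤ) :=
            mul_le_mul' le_rfl hN
        _ = 1 := by rw [← WithZero.exp_add]; simp
    obtain ⟨f₀, hf₀, hfa⟩ := hφ.2.1 ((φ t ^ (N + 1) * h).coeff 0)
    have hf₀' : IsPS (φ f₀) := (isPS_jmap_iff w φ hφ f₀).mpr hf₀
    have hd : Valued.v (φ t ^ (N + 1) * h - φ f₀) ≤ WithZero.exp (-1 : ℤ) := by
      rw [LaurentSeries.valuation_le_iff_coeff_lt_eq_zero]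
      intro n hn
      rw [HahnSeries.coeff_sub]
      by_cases h0 : n = 0
      · subst h0
        rw [hfa, sub_self]
      · have hn' : n < 0 := by omega
        rw [hs n hn', hf₀' n hn', sub_zero]
    have hy₀ : h - φ (f₀ * (t ^ (N + 1))⁻¹) =
        (φ t ^ (N + 1))⁻¹ * (φ t ^ (N + 1) * h - φ f₀) := by
      rw [map_mul, map_inv₀, map_pow, mul_sub, inv_mul_cancel_left₀ hP0, mul_comm]
    have hv : Valued.v (h - jmap φ (f₀ * (t ^ (N + 1))⁻¹)) ≤ WithZero.exp (N : ℤ) := by
      rw [jmap_apply, hy₀, map_mul, map_inv₀, hP]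
      calc (WithZero.exp (-((N + 1 : ℕ) : ℤ)))⁻¹ * Valued.v (φ t ^ (N + 1) * h - φ f₀)
          ≤ (WithZero.exp (-((N + 1 : ℕ) : ℤ)))⁻¹ * WithZero.exp (-1 : ℤ) :=
            mul_le_mul' le_rfl hd
        _ = WithZero.exp (N : ℤ) := by
            rw [← WithZero.exp_neg, ← WithZero.exp_add]
            congr 1
            push_cast
            ring
    obtain ⟨y₁, hy₁⟩ := ih _ hv
    refine ⟨f₀ * (t ^ (N + 1))⁻¹ + y₁, ?_⟩
    rw [map_add, ← sub_sub]
    exact hy₁

end

variable [FiniteDimensional k F]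

/-- **Local theorem**: commutator trace on `K` equals the local residue. -/
theorem local_main (w : Valuation K (WithZero (Multiplicative ℤ)))
    (hw : ∀ c : k, w (algebraMap k K c) ≤ 1) (φ : K →ₐ[k] F⸨X⸩)
    (hφ : LocRes.IsExpansionAt w φ) (p' : Module.End k K) (hp' : p' * p' = p')
    (hr : LinearMap.range p' = OSub w hw) (u v : K) :
    FR ((1 - p') * mulK u * p') ∧
      tr (TateRho.comm p' (mulK u) (mulK v)) = LocRes.locRes φ u v := by
  have hjinj := jmap_injective φ
  -- the complement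
  have p'O : ∀ x, w x ≤ 1 → p' x = x := by
    intro x hx
    have : x ∈ LinearMap.range p' := by rw [hr]; exact hx
    obtain ⟨y, rfl⟩ := this
    exact LinearMap.congr_fun hp' y
  have p'm : ∀ x, w (p' x) ≤ 1 := by
    intro x
    have : p' x ∈ OSub w hw := by rw [← hr]; exact LinearMap.mem_range_self p' x
    exact this
  have hpLr : ∀ x : F⸨X⸩, x ∈ LinearMap.range (pL (k := k) (F := F)) ↔ IsPS x := by
    intro x
    constructor
    · rintro ⟨y, rfl⟩
      exact isPS_pL y
    · intro hx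
      exact ⟨x, pL_of_isPS hx⟩
  have hC : IsCompl (LinearMap.range (pL (k := k) (F := F)))
      ((LinearMap.ker p').map (jmap φ)) := by
    constructor
    · rw [Submodule.disjoint_def]
      rintro x hx ⟨c, hc, rfl⟩
      rw [hpLr, isPS_jmap_iff w φ hφ] at hx
      have h0 : p' c = 0 := hc
      rw [p'O c hx] at h0
      rw [h0, map_zero]
    · rw [codisjoint_iff, eq_top_iff]
      intro h _
      obtain ⟨y, hy⟩ := exists_approx w φ hφ h
      have e : h = (h - jmap φ y + jmap φ (p' y)) + jmap φ (y - p' y) := by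
        rw [map_sub]; abel
      rw [e]
      refine Submodule.add_mem_sup (Submodule.add_mem _ ((hpLr _).mpr hy)
        ((hpLr _).mpr ((isPS_jmap_iff w φ hφ _).mpr (p'm y)))) ?_
      refine ⟨y - p' y, ?_, rfl⟩
      show p' (y - p' y) = 0
      rw [map_sub, ← Module.End.mul_apply, hp', sub_self]
  obtain ⟨p₂, hp₂def⟩ : ∃ p₂ : Module.End k F⸨X⸩,
      p₂ = (LinearMap.range (pL (k := k) (F := F))).projection _ hC := ⟨_, rfl⟩
  have p₂A : ∀ x, IsPS x → p₂ x = x := fun x hx => by
    rw [hp₂def]; exact Submodule.projection_apply_of_mem_left hC ((hpLr x).mpr hx)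
  have p₂0 : ∀ c, p' c = 0 → p₂ (jmap φ c) = 0 := fun c hc => by
    rw [hp₂def]; exact Submodule.projection_apply_of_mem_right hC ⟨c, hc, rfl⟩
  have p₂m : ∀ x, IsPS (p₂ x) := fun x => by
    rw [← hpLr, hp₂def]; exact Submodule.projection_apply_mem hC x
  have hp₂ : p₂ * p₂ = p₂ := by
    ext1 x; exact p₂A _ (p₂m x)
  have h1 : p₂ * pL = pL := by
    ext1 x; exact p₂A _ (isPS_pL x)
  have h2 : pL * p₂ = p₂ := by
    ext1 x; exact pL_of_isPS (p₂m x)
  obtain ⟨hu₂, hv₂, e1⟩ := tr_comm_indep (pL_idem (k := k) (F := F)) hp₂ h1 h2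
    (mulL_comm (φ u) (φ v)) (fr_u (φ u)) (fr_u (φ v))
  have ip : p₂ ∘ₗ jmap φ = jmap φ ∘ₗ p' := by
    ext1 y
    simp only [LinearMap.comp_apply]
    have e : jmap φ y = jmap φ (p' y) + jmap φ (y - p' y) := by
      rw [map_sub]; abel
    rw [e, map_add, p₂A _ ((isPS_jmap_iff w φ hφ _).mpr (p'm y)), p₂0, add_zero]
    rw [map_sub, ← Module.End.mul_apply, hp', sub_self]
  have jf : ∀ z : K, mulL (k := k) (φ z) ∘ₗ jmap φ = jmap φ ∘ₗ mulK z := by
    intro z
    ext1 y
    simp only [LinearMap.comp_apply, mulL_apply, jmap_apply, mulK_apply, map_mul]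
  have hker : ∀ x, x - p₂ x ∈ LinearMap.range (jmap φ) := by
    intro x
    have : x - p₂ x ∈ (LinearMap.ker p').map (jmap φ) := by
      rw [hp₂def, ← Submodule.projection_eq_self_sub_projection hC]
      exact Submodule.projection_apply_mem hC.symm x
    obtain ⟨c, _, hc⟩ := this
    exact ⟨c, hc⟩
  have e2 := tr_comm_intertwine (jmap φ) hjinj (p := p₂) (p' := p') (f := mulL (φ u))
    (g := mulL (φ v)) (f' := mulK u) (g' := mulK v) hp₂ (mulL_comm _ _) ip (jf u) (jf v) hker
    hu₂ hv₂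
  refine ⟨?_, ?_⟩
  · apply FR.of_comp_injective (jmap φ) hjinj
    have ipa : ∀ z, p₂ (jmap φ z) = jmap φ (p' z) := fun z => LinearMap.congr_fun ip z
    have jfa : ∀ z y, mulL (k := k) (φ z) (jmap φ y) = jmap φ (mulK z y) :=
      fun z y => LinearMap.congr_fun (jf z) y
    have : jmap φ ∘ₗ ((1 - p') * mulK u * p') = ((1 - p₂) * mulL (φ u) * p₂) ∘ₗ jmap φ := by
      ext1 y
      simp only [LinearMap.comp_apply, Module.End.mul_apply, LinearMap.sub_apply,
        Module.End.one_apply]
      rw [ipa, jfa, ipa, map_sub]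
    rw [this]
    exact hu₂.comp_right _
  · rw [e2, e1, rho_eq]
    rfl

end Groth.Agent.Helper6.TateExp
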