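import Groth.Agent.Helper6.TateGlob

set_option autoImplicit false
set_option linter.style.haveILetI false
set_option linter.unusedSectionVars false

/-!
# Tate's additivity of residues for `A ∩ B` (when `A + B = V`) and block traces
-/

namespace Groth.Agent.Helper6.TateSum

open Groth.Agent.Helper6.TateTr Groth.Agent.Helper6.TateRho

variable {k : Type*} [Field k] {V : Type*} [AddCommGroup V] [Module k V]

theorem comm_expand {a b c f g : Module.End k V} (haa : a * a = a) (hbb : b * b = b)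
    (hcc : c * c = c) (hsum : a + b + c = 1) (hfg : f * g = g * f) :
    comm a f g = - ((a * f * b) * (b * g * a) - (a * g * b) * (b * f * a))
      - ((a * f * c) * (c * g * a) - (a * g * c) * (c * f * a)) := by
  have haa' : ∀ x : Module.End k V, a * (a * x) = a * x := fun x => by rw [← mul_assoc, haa]
  have hbb' : ∀ x : Module.End k V, b * (b * x) = b * x := fun x => by rw [← mul_assoc, hbb]
  have hcc' : ∀ x : Module.End k V, c * (c * x) = c * x := fun x => by rw [← mul_assoc, hcc]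
  have he : a = 1 - b - c := by rw [← hsum]; abel
  have K : ∀ x y : Module.End k V, x * (a * y) = x * y - x * (b * y) - x * (c * y) :=
    fun x y => by rw [he]; noncomm_ring
  have e1 : (a * f * a) * (a * g * a) = a * f * (a * (g * a)) := by simp only [mul_assoc, haa']
  have e2 : (a * g * a) * (a * f * a) = a * g * (a * (f * a)) := by simp only [mul_assoc, haa']
  have e3 : (a * f * b) * (b * g * a) = a * f * (b * (g * a)) := by simp only [mul_assoc, hbb']
  have e4 : (a * g * b) * (b * f * a) = a * g * (b * (f * a)) := by simp only [mul_assoc, hbb']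
  have e5 : (a * f * c) * (c * g * a) = a * f * (c * (g * a)) := by simp only [mul_assoc, hcc']
  have e6 : (a * g * c) * (c * f * a) = a * g * (c * (f * a)) := by simp only [mul_assoc, hcc']
  have e7 : a * f * (g * a) = a * g * (f * a) := by
    have h1 : a * f * (g * a) = a * (f * g) * a := by noncomm_ring
    have h2 : a * g * (f * a) = a * (g * f) * a := by noncomm_ring
    rw [h1, h2, hfg]
  unfold TateRho.comm
  rw [e1, e2, e3, e4, e5, e6, K (a * f) (g * a), K (a * g) (f * a), e7]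
  abel

/-- three orthogonal idempotents summing to one -/
theorem three_idem {e₁ e₂ e₃ f g : Module.End k V}
    (h11 : e₁ * e₁ = e₁) (h22 : e₂ * e₂ = e₂) (h33 : e₃ * e₃ = e₃)
    (hsum : e₁ + e₂ + e₃ = 1) (hfg : f * g = g * f)
    (f21 : FR (e₂ * f * e₁)) (f31 : FR (e₃ * f * e₁)) (f23 : FR (e₂ * f * e₃))
    (f32 : FR (e₃ * f * e₂))
    (g21 : FR (e₂ * g * e₁)) (g31 : FR (e₃ * g * e₁)) (g23 : FR (e₂ * g * e₃))
    (g32 : FR (e₃ * g * e₂)) :
    tr (comm e₁ f g) + tr (comm e₂ f g) + tr (comm e₃ f g) = 0 := by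
  have hs2 : e₂ + e₁ + e₃ = 1 := by rw [add_comm e₂ e₁]; exact hsum
  have hs3 : e₃ + e₁ + e₂ = 1 := by rw [← hsum]; abel
  rw [comm_expand h11 h22 h33 hsum hfg, comm_expand h22 h11 h33 hs2 hfg,
    comm_expand h33 h11 h22 hs3 hfg]
  -- finite rank of all cross terms
  have t12 : FR ((e₁ * f * e₂) * (e₂ * g * e₁)) := g21.mul_left _
  have t12' : FR ((e₁ * g * e₂) * (e₂ * f * e₁)) := f21.mul_left _
  have t13 : FR ((e₁ * f * e₃) * (e₃ * g * e₁)) := g31.mul_left _
  have t13' : FR ((e₁ * g * e₃) * (e₃ * f * e₁)) := f31.mul_left _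
  have t21 : FR ((e₂ * f * e₁) * (e₁ * g * e₂)) := f21.mul_right _
  have t21' : FR ((e₂ * g * e₁) * (e₁ * f * e₂)) := g21.mul_right _
  have t23 : FR ((e₂ * f * e₃) * (e₃ * g * e₂)) := f23.mul_right _
  have t23' : FR ((e₂ * g * e₃) * (e₃ * f * e₂)) := g23.mul_right _
  have t31 : FR ((e₃ * f * e₁) * (e₁ * g * e₃)) := f31.mul_right _
  have t31' : FR ((e₃ * g * e₁) * (e₁ * f * e₃)) := g31.mul_right _
  have t32 : FR ((e₃ * f * e₂) * (e₂ * g * e₃)) := f32.mul_right _
  have t32' : FR ((e₃ * g * e₂) * (e₂ * f * e₃)) := g32.mul_right _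
  rw [tr_sub (t12.sub t12').neg (t13.sub t13'), tr_neg (t12.sub t12'), tr_sub t12 t12',
    tr_sub t13 t13',
    tr_sub (t21.sub t21').neg (t23.sub t23'), tr_neg (t21.sub t21'), tr_sub t21 t21',
    tr_sub t23 t23',
    tr_sub (t31.sub t31').neg (t32.sub t32'), tr_neg (t31.sub t31'), tr_sub t31 t31',
    tr_sub t32 t32']
  -- cyclicity
  have c1 : tr ((e₁ * f * e₂) * (e₂ * g * e₁)) = tr ((e₂ * g * e₁) * (e₁ * f * e₂)) :=
    tr_mul_comm g21 _
  have c2 : tr ((e₁ * g * e₂) * (e₂ * f * e₁)) = tr ((e₂ * f * e₁) * (e₁ * g * e₂)) :=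
    tr_mul_comm f21 _
  have c3 : tr ((e₁ * f * e₃) * (e₃ * g * e₁)) = tr ((e₃ * g * e₁) * (e₁ * f * e₃)) :=
    tr_mul_comm g31 _
  have c4 : tr ((e₁ * g * e₃) * (e₃ * f * e₁)) = tr ((e₃ * f * e₁) * (e₁ * g * e₃)) :=
    tr_mul_comm f31 _
  have c5 : tr ((e₂ * f * e₃) * (e₃ * g * e₂)) = tr ((e₃ * g * e₂) * (e₂ * f * e₃)) :=
    tr_mul_comm g32 _
  have c6 : tr ((e₂ * g * e₃) * (e₃ * f * e₂)) = tr ((e₃ * f * e₂) * (e₂ * g * e₃)) :=
    tr_mul_comm f32 _
  rw [c1, c2, c3, c4, c5, c6]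
  ring

theorem exists_proj (A : Submodule k V) :
    ∃ p : Module.End k V, p * p = p ∧ LinearMap.range p = A := by
  obtain ⟨C, hC⟩ := Submodule.exists_isCompl A
  refine ⟨A.projection C hC, ?_, ?_⟩
  · ext x
    exact Submodule.projection_apply_of_mem_left hC (Submodule.projection_apply_mem hC x)
  · apply le_antisymm
    · rintro _ ⟨x, rfl⟩
      exact Submodule.projection_apply_mem hC x
    · intro x hx
      exact ⟨x, Submodule.projection_apply_of_mem_left hC hx⟩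

theorem proj_fix {p : Module.End k V} {A : Submodule k V} (hp : p * p = p)
    (hr : LinearMap.range p = A) {x : V} (hx : x ∈ A) : p x = x := by
  rw [← hr] at hx
  obtain ⟨y, rfl⟩ := hx
  exact LinearMap.congr_fun hp y

theorem proj_mem {p : Module.End k V} {A : Submodule k V}
    (hr : LinearMap.range p = A) (x : V) : p x ∈ A := by
  rw [← hr]; exact LinearMap.mem_range_self p x

/-- Tate's additivity: `A + B = V` gives `res_{A ∩ B} = res_A + res_B`. -/
theorem tr_comm_inter (A B : Submodule k V) (hAB : A ⊔ B = ⊤)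
    {pA pB pC f g : Module.End k V}
    (hpA : pA * pA = pA) (hrA : LinearMap.range pA = A)
    (hpB : pB * pB = pB) (hrB : LinearMap.range pB = B)
    (hpC : pC * pC = pC) (hrC : LinearMap.range pC = A ⊓ B)
    (hfg : f * g = g * f)
    (huA : FR ((1 - pA) * f * pA)) (hvA : FR ((1 - pA) * g * pA))
    (huB : FR ((1 - pB) * f * pB)) (hvB : FR ((1 - pB) * g * pB)) :
    FR ((1 - pC) * f * pC) ∧ FR ((1 - pC) * g * pC) ∧
      tr (comm pC f g) = tr (comm pA f g) + tr (comm pB f g) := by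
  obtain ⟨Zc, hZc⟩ := Submodule.exists_isCompl (A ⊓ B)
  have hB1 : (A ⊓ B) ⊔ (B ⊓ Zc) = B := by
    have := sup_inf_assoc_of_le Zc (inf_le_right : A ⊓ B ≤ B)
    rw [hZc.sup_eq_top, top_inf_eq] at this
    rw [inf_comm B Zc, ← this]
  have hA1 : (A ⊓ B) ⊔ (A ⊓ Zc) = A := by
    have := sup_inf_assoc_of_le Zc (inf_le_left : A ⊓ B ≤ A)
    rw [hZc.sup_eq_top, top_inf_eq] at this
    rw [inf_comm A Zc, ← this]
  have dAB' : Disjoint A (B ⊓ Zc) := by
    rw [disjoint_iff, ← inf_assoc]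
    exact hZc.inf_eq_bot
  have dBA' : Disjoint B (A ⊓ Zc) := by
    rw [disjoint_iff, ← inf_assoc, inf_comm B A]
    exact hZc.inf_eq_bot
  have hAc : IsCompl A (B ⊓ Zc) := by
    refine ⟨dAB', ?_⟩
    rw [codisjoint_iff]
    have : A ⊔ B ⊓ Zc = A ⊔ B := by
      apply le_antisymm (sup_le_sup_left inf_le_left A)
      calc A ⊔ B = A ⊔ ((A ⊓ B) ⊔ (B ⊓ Zc)) := by rw [hB1]
        _ ≤ A ⊔ B ⊓ Zc :=
          sup_le le_sup_left (sup_le (inf_le_left.trans le_sup_left) le_sup_right)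
    rw [this, hAB]
  have hBc : IsCompl B (A ⊓ Zc) := by
    refine ⟨dBA', ?_⟩
    rw [codisjoint_iff]
    have : B ⊔ A ⊓ Zc = A ⊔ B := by
      apply le_antisymm (by rw [sup_comm A B]; exact sup_le_sup_left inf_le_left B)
      calc A ⊔ B = ((A ⊓ B) ⊔ (A ⊓ Zc)) ⊔ B := by rw [hA1]
        _ ≤ B ⊔ A ⊓ Zc :=
          sup_le (sup_le (inf_le_right.trans le_sup_left) le_sup_right) le_sup_left
    rw [this, hAB]
  obtain ⟨p₁, hp₁⟩ : ∃ p₁ : Module.End k V, p₁ = A.projection _ hAc := ⟨_, rfl⟩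
  obtain ⟨q₁, hq₁⟩ : ∃ q₁ : Module.End k V, q₁ = B.projection _ hBc := ⟨_, rfl⟩
  have p₁A : ∀ x ∈ A, p₁ x = x := fun x hx => by
    rw [hp₁]; exact Submodule.projection_apply_of_mem_left hAc hx
  have p₁0 : ∀ x ∈ B ⊓ Zc, p₁ x = 0 := fun x hx => by
    rw [hp₁]; exact Submodule.projection_apply_of_mem_right hAc hx
  have p₁m : ∀ x, p₁ x ∈ A := fun x => by
    rw [hp₁]; exact Submodule.projection_apply_mem hAc x
  have q₁B : ∀ x ∈ B, q₁ x = x := fun x hx => by
    rw [hq₁]; exact Submodule.projection_apply_of_mem_left hBc hx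
  have q₁0 : ∀ x ∈ A ⊓ Zc, q₁ x = 0 := fun x hx => by
    rw [hq₁]; exact Submodule.projection_apply_of_mem_right hBc hx
  have q₁m : ∀ x, q₁ x ∈ B := fun x => by
    rw [hq₁]; exact Submodule.projection_apply_mem hBc x
  have hdec : ∀ x : V, ∃ z a' b', z ∈ A ⊓ B ∧ a' ∈ A ⊓ Zc ∧ b' ∈ B ⊓ Zc ∧ x = z + a' + b' := by
    intro x
    obtain ⟨a, ha, b', hb', rfl⟩ := Submodule.mem_sup.1
      (show x ∈ A ⊔ (B ⊓ Zc) by rw [hAc.sup_eq_top]; exact Submodule.mem_top)
    obtain ⟨z, hz, a', ha', rfl⟩ := Submodule.mem_sup.1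
      (show a ∈ (A ⊓ B) ⊔ (A ⊓ Zc) by rw [hA1]; exact ha)
    exact ⟨z, a', b', hz, ha', hb', rfl⟩
  have hp₁x : ∀ z a' b', z ∈ A ⊓ B → a' ∈ A ⊓ Zc → b' ∈ B ⊓ Zc → p₁ (z + a' + b') = z + a' := by
    intro z a' b' hz ha' hb'
    rw [map_add, p₁A _ (A.add_mem hz.1 ha'.1), p₁0 _ hb', add_zero]
  have hq₁x : ∀ z a' b', z ∈ A ⊓ B → a' ∈ A ⊓ Zc → b' ∈ B ⊓ Zc → q₁ (z + a' + b') = z + b' := by
    intro z a' b' hz ha' hb'
    rw [map_add, map_add, q₁B z hz.2, q₁0 a' ha', q₁B b' hb'.1, add_zero]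
  have hpq : ∀ z a' b', z ∈ A ⊓ B → a' ∈ A ⊓ Zc → b' ∈ B ⊓ Zc →
      p₁ (q₁ (z + a' + b')) = z := by
    intro z a' b' hz ha' hb'
    rw [hq₁x z a' b' hz ha' hb', map_add, p₁A z hz.1, p₁0 b' hb', add_zero]
  have hqp : ∀ z a' b', z ∈ A ⊓ B → a' ∈ A ⊓ Zc → b' ∈ B ⊓ Zc →
      q₁ (p₁ (z + a' + b')) = z := by
    intro z a' b' hz ha' hb'
    rw [hp₁x z a' b' hz ha' hb', map_add, q₁B z hz.2, q₁0 a' ha', add_zero]
  have hcomm : p₁ * q₁ = q₁ * p₁ := by
    ext x
    obtain ⟨z, a', b', hz, ha', hb', rfl⟩ := hdec x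
    rw [Module.End.mul_apply, Module.End.mul_apply, hpq z a' b' hz ha' hb',
      hqp z a' b' hz ha' hb']
  have hone : p₁ + q₁ - p₁ * q₁ = 1 := by
    ext x
    obtain ⟨z, a', b', hz, ha', hb', rfl⟩ := hdec x
    rw [LinearMap.sub_apply, LinearMap.add_apply, Module.End.mul_apply, hpq z a' b' hz ha' hb',
      hp₁x z a' b' hz ha' hb', hq₁x z a' b' hz ha' hb', Module.End.one_apply]
    abel
  have hpp₁ : p₁ * p₁ = p₁ := by
    ext x; exact p₁A _ (p₁m x)
  have hqq₁ : q₁ * q₁ = q₁ := by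
    ext x; exact q₁B _ (q₁m x)
  -- transfer from pA, pB
  have h1A : p₁ * pA = pA := by
    ext x; exact p₁A _ (proj_mem hrA x)
  have h2A : pA * p₁ = p₁ := by
    ext x; exact proj_fix hpA hrA (p₁m x)
  have h1B : q₁ * pB = pB := by
    ext x; exact q₁B _ (proj_mem hrB x)
  have h2B : pB * q₁ = q₁ := by
    ext x; exact proj_fix hpB hrB (q₁m x)
  obtain ⟨hu₁, hv₁, eA⟩ := tr_comm_indep hpA hpp₁ h1A h2A hfg huA hvA
  obtain ⟨hu₂, hv₂, eB⟩ := tr_comm_indep hpB hqq₁ h1B h2B hfg huB hvB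
  -- the three idempotents
  have h11 : (p₁ * q₁) * (p₁ * q₁) = p₁ * q₁ := by
    calc p₁ * q₁ * (p₁ * q₁) = p₁ * (q₁ * p₁) * q₁ := by noncomm_ring
      _ = p₁ * (p₁ * q₁) * q₁ := by rw [hcomm]
      _ = (p₁ * p₁) * (q₁ * q₁) := by noncomm_ring
      _ = p₁ * q₁ := by rw [hpp₁, hqq₁]
  have h22 : (1 - q₁) * (1 - q₁) = 1 - q₁ := by
    rw [mul_sub, sub_mul, sub_mul, hqq₁]; simp
  have h33 : (1 - p₁) * (1 - p₁) = 1 - p₁ := by
    rw [mul_sub, sub_mul, sub_mul, hpp₁]; simp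
  have hsum : p₁ * q₁ + (1 - q₁) + (1 - p₁) = 1 := by
    have : p₁ * q₁ + (1 - q₁) + (1 - p₁) = 1 + (1 - (p₁ + q₁ - p₁ * q₁)) := by abel
    rw [this, hone, sub_self, add_zero]
  have he₂ : 1 - q₁ = p₁ - p₁ * q₁ := by
    rw [← hone]; abel
  have he₃ : 1 - p₁ = q₁ - q₁ * p₁ := by
    rw [← hcomm, ← hone]; abel
  have F31 : ∀ h : Module.End k V, FR ((1 - p₁) * h * p₁) → FR ((1 - p₁) * h * (p₁ * q₁)) := by
    intro h hh
    have : (1 - p₁) * h * (p₁ * q₁) = ((1 - p₁) * h * p₁) * q₁ := by noncomm_ring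
    rw [this]; exact hh.mul_right _
  have F32 : ∀ h : Module.End k V, FR ((1 - p₁) * h * p₁) → FR ((1 - p₁) * h * (1 - q₁)) := by
    intro h hh
    have : (1 - p₁) * h * (1 - q₁) = ((1 - p₁) * h * p₁) * (1 - q₁) := by
      conv_lhs => rw [he₂]
      noncomm_ring
    rw [this]; exact hh.mul_right _
  have F21 : ∀ h : Module.End k V, FR ((1 - q₁) * h * q₁) → FR ((1 - q₁) * h * (p₁ * q₁)) := by
    intro h hh
    have : (1 - q₁) * h * (p₁ * q₁) = ((1 - q₁) * h * q₁) * p₁ := by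
      rw [hcomm]; noncomm_ring
    rw [this]; exact hh.mul_right _
  have F23 : ∀ h : Module.End k V, FR ((1 - q₁) * h * q₁) → FR ((1 - q₁) * h * (1 - p₁)) := by
    intro h hh
    have : (1 - q₁) * h * (1 - p₁) = ((1 - q₁) * h * q₁) * (1 - p₁) := by
      conv_lhs => rw [he₃]
      noncomm_ring
    rw [this]; exact hh.mul_right _
  have T := three_idem h11 h22 h33 hsum hfg (F21 f hu₂) (F31 f hu₁) (F23 f hu₂) (F32 f hu₁)
    (F21 g hv₂) (F31 g hv₁) (F23 g hv₂) (F32 g hv₁)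
  obtain ⟨-, c3⟩ := tr_comm_compl hpp₁ hfg hu₁ hv₁
  obtain ⟨-, c2⟩ := tr_comm_compl hqq₁ hfg hu₂ hv₂
  have he₁ : tr (comm (p₁ * q₁) f g) = tr (comm pA f g) + tr (comm pB f g) := by
    rw [c2, c3, eA, eB] at T
    linear_combination T
  -- transfer to pC
  have h1e : 1 - p₁ * q₁ = (1 - q₁) + (1 - p₁) := by
    calc 1 - p₁ * q₁ = (p₁ * q₁ + (1 - q₁) + (1 - p₁)) - p₁ * q₁ := by rw [hsum]
      _ = (1 - q₁) + (1 - p₁) := by abel
  have hue : ∀ h : Module.End k V, FR ((1 - p₁) * h * p₁) → FR ((1 - q₁) * h * q₁) →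
      FR ((1 - p₁ * q₁) * h * (p₁ * q₁)) := by
    intro h hh1 hh2
    rw [h1e, add_mul, add_mul]
    exact (F21 h hh2).add (F31 h hh1)
  have e₁mem : ∀ x, (p₁ * q₁) x ∈ A ⊓ B := by
    intro x
    refine ⟨p₁m _, ?_⟩
    rw [hcomm]
    exact q₁m _
  have e₁fix : ∀ x ∈ A ⊓ B, (p₁ * q₁) x = x := by
    intro x hx
    rw [Module.End.mul_apply, q₁B x hx.2, p₁A x hx.1]
  have h1C : pC * (p₁ * q₁) = p₁ * q₁ := by
    ext x; exact proj_fix hpC hrC (e₁mem x)
  have h2C : (p₁ * q₁) * pC = pC := by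
    ext x; exact e₁fix _ (proj_mem hrC x)
  obtain ⟨huC, hvC, eC⟩ := tr_comm_indep h11 hpC h1C h2C hfg (hue f hu₁ hu₂) (hue g hv₁ hv₂)
  exact ⟨huC, hvC, eC.trans he₁⟩

/-- induction over a finite family of subspaces in "general position" -/
theorem tr_comm_iInf {ι : Type*} [DecidableEq ι] (O : ι → Submodule k V)
    (pO : ι → Module.End k V) {f g : Module.End k V} (hfg : f * g = g * f)
    (hsup : ∀ (t : Finset ι) (i : ι), i ∉ t → O i ⊔ ⨅ j ∈ t, O j = ⊤) :
    ∀ s : Finset ι, (∀ i ∈ s, pO i * pO i = pO i ∧ LinearMap.range (pO i) = O i ∧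
      FR ((1 - pO i) * f * pO i) ∧ FR ((1 - pO i) * g * pO i)) →
    ∀ p : Module.End k V, p * p = p → LinearMap.range p = ⨅ i ∈ s, O i →
      FR ((1 - p) * f * p) ∧ FR ((1 - p) * g * p) ∧
        tr (comm p f g) = ∑ i ∈ s, tr (comm (pO i) f g) := by
  intro s
  induction s using Finset.induction_on with
  | empty =>
    intro _ p hp hr
    have hp1 : p = 1 := by
      ext x
      have hx : x ∈ ⨅ i ∈ (∅ : Finset ι), O i := by simp
      exact proj_fix hp hr hx
    subst hp1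
    refine ⟨?_, ?_, ?_⟩
    · rw [sub_self, zero_mul, zero_mul]; exact FR.zero
    · rw [sub_self, zero_mul, zero_mul]; exact FR.zero
    · have : comm (1 : Module.End k V) f g = 0 := by
        unfold TateRho.comm
        simp only [one_mul, mul_one]
        rw [hfg, sub_self]
      rw [this, tr_zero, Finset.sum_empty]
  | insert i t hit ih =>
    intro hs p hp hr
    obtain ⟨hpi, hri, hui, hvi⟩ := hs i (Finset.mem_insert_self i t)
    obtain ⟨pT, hpT, hrT⟩ := exists_proj (⨅ j ∈ t, O j)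
    obtain ⟨huT, hvT, eT⟩ := ih (fun j hj => hs j (Finset.mem_insert_of_mem hj)) pT hpT hrT
    rw [Finset.iInf_insert] at hr
    obtain ⟨hu, hv, e⟩ := tr_comm_inter (O i) (⨅ j ∈ t, O j) (hsup t i hit) hpi hri hpT hrT hp hr
      hfg hui hvi huT hvT
    refine ⟨hu, hv, ?_⟩
    rw [e, eT, Finset.sum_insert hit]

section block

variable {V' : Type*} [AddCommGroup V'] [Module k V'] {ι : Type*} [Fintype ι] [DecidableEq ι]
  (inj : ι → V →ₗ[k] V') (prj : ι → V' →ₗ[k] V)

/-- the block operator attached to a matrix of endomorphisms -/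
noncomputable def Psi (M : Matrix ι ι (Module.End k V)) : Module.End k V' :=
  ∑ a, ∑ b, inj a ∘ₗ M a b ∘ₗ prj b

theorem Psi_apply (M : Matrix ι ι (Module.End k V)) (x : V') :
    Psi inj prj M x = ∑ a, ∑ b, inj a (M a b (prj b x)) := by
  unfold Psi
  simp only [LinearMap.sum_apply, LinearMap.comp_apply]

theorem Psi_sub (M N : Matrix ι ι (Module.End k V)) :
    Psi inj prj (M - N) = Psi inj prj M - Psi inj prj N := by
  ext x
  rw [LinearMap.sub_apply, Psi_apply, Psi_apply, Psi_apply, ← Finset.sum_sub_distrib]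
  refine Finset.sum_congr rfl fun a _ => ?_
  rw [← Finset.sum_sub_distrib]
  refine Finset.sum_congr rfl fun b _ => ?_
  rw [Matrix.sub_apply, LinearMap.sub_apply, map_sub]

variable (h1 : ∀ i j, prj i ∘ₗ inj j = if i = j then LinearMap.id else 0)
  (h2 : ∑ i, inj i ∘ₗ prj i = LinearMap.id)

include h1 in
theorem prj_inj (b c : ι) (v : V) : prj b (inj c v) = if b = c then v else 0 := by
  have := LinearMap.congr_fun (h1 b c) v
  rw [LinearMap.comp_apply] at this
  rw [this]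
  split_ifs <;> rfl

include h1 in
theorem prj_Psi (M : Matrix ι ι (Module.End k V)) (x : V') (c : ι) :
    prj c (Psi inj prj M x) = ∑ b, M c b (prj b x) := by
  rw [Psi_apply]
  simp only [map_sum, prj_inj inj prj h1]
  rw [Finset.sum_eq_single c (fun a _ hac => ?_) (fun h => absurd (Finset.mem_univ c) h)]
  · exact Finset.sum_congr rfl fun b _ => if_pos rfl
  · exact Finset.sum_eq_zero fun b _ => if_neg (Ne.symm hac)

include h1 in
theorem Psi_mul (M N : Matrix ι ι (Module.End k V)) :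
    Psi inj prj (M * N) = Psi inj prj M * Psi inj prj N := by
  ext x
  rw [Module.End.mul_apply, Psi_apply, Psi_apply]
  refine Finset.sum_congr rfl fun a _ => ?_
  simp only [prj_Psi inj prj h1, Matrix.mul_apply, LinearMap.sum_apply, Module.End.mul_apply,
    map_sum]
  exact Finset.sum_comm

include h2 in
theorem sum_inj_prj (v : V') : ∑ i, inj i (prj i v) = v := by
  have := LinearMap.congr_fun h2 v
  simpa only [LinearMap.sum_apply, LinearMap.comp_apply, LinearMap.id_apply] using this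

include h2 in
theorem Psi_one : Psi inj prj (1 : Matrix ι ι (Module.End k V)) = 1 := by
  ext x
  rw [Psi_apply, Module.End.one_apply]
  conv_rhs => rw [← sum_inj_prj inj prj h2 x]
  refine Finset.sum_congr rfl fun a _ => ?_
  rw [Finset.sum_eq_single a (fun b _ hba => ?_) (fun h => absurd (Finset.mem_univ a) h)]
  · rw [Matrix.one_apply_eq, Module.End.one_apply]
  · rw [Matrix.one_apply_ne (Ne.symm hba), LinearMap.zero_apply, map_zero]

include h2 in
theorem Psi_blk (T : Module.End k V') :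
    Psi inj prj (fun a b => prj a ∘ₗ T ∘ₗ inj b) = T := by
  ext x
  rw [Psi_apply]
  simp only [LinearMap.comp_apply]
  have : ∀ a, ∑ b, inj a (prj a (T (inj b (prj b x)))) = inj a (prj a (T x)) := by
    intro a
    rw [← map_sum, ← map_sum, ← map_sum, sum_inj_prj inj prj h2 x]
  rw [Finset.sum_congr rfl fun a _ => this a, sum_inj_prj inj prj h2 (T x)]

theorem fr_Psi (M : Matrix ι ι (Module.End k V)) (hM : ∀ a b, FR (M a b)) :
    FR (Psi inj prj M) := by
  unfold Psi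
  refine FR.sum _ _ fun a _ => FR.sum _ _ fun b _ => ?_
  exact ((hM a b).comp_right (prj b)).comp_left (inj a)

include h1 in
theorem tr_Psi (M : Matrix ι ι (Module.End k V)) (hM : ∀ a b, FR (M a b)) :
    tr (Psi inj prj M) = ∑ a, tr (M a a) := by
  unfold Psi
  have hF : ∀ a b, FR (inj a ∘ₗ M a b ∘ₗ prj b) := fun a b =>
    ((hM a b).comp_right (prj b)).comp_left (inj a)
  rw [tr_sum _ _ fun a _ => FR.sum _ _ fun b _ => hF a b]
  refine Finset.sum_congr rfl fun a _ => ?_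
  rw [tr_sum _ _ fun b _ => hF a b]
  have hterm : ∀ b, tr (inj a ∘ₗ M a b ∘ₗ prj b) = if b = a then tr (M a b) else 0 := by
    intro b
    rw [tr_comm ((hM a b).comp_right (prj b)) (inj a), LinearMap.comp_assoc, h1 b a]
    split_ifs with hba
    · rw [LinearMap.comp_id]
    · rw [LinearMap.comp_zero, tr_zero]
  rw [Finset.sum_congr rfl fun b _ => hterm b, Finset.sum_ite_eq' Finset.univ a,
    if_pos (Finset.mem_univ a)]

include h1 h2 in
/-- block computation of the commutator trace -/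
theorem block_main {p₀ X : Module.End k V} {Y : Matrix ι ι (Module.End k V)}
    (hp₀ : p₀ * p₀ = p₀) (hYX : ∀ a b, Y a b * X = X * Y a b)
    (hu : ∀ a b, FR ((1 - p₀) * Y a b * p₀)) (hv : FR ((1 - p₀) * X * p₀)) :
    Psi inj prj (Matrix.diagonal fun _ => p₀) * Psi inj prj (Matrix.diagonal fun _ => p₀) =
        Psi inj prj (Matrix.diagonal fun _ => p₀) ∧
      FR ((1 - Psi inj prj (Matrix.diagonal fun _ => p₀)) * Psi inj prj Y *
        Psi inj prj (Matrix.diagonal fun _ => p₀)) ∧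
      FR ((1 - Psi inj prj (Matrix.diagonal fun _ => p₀)) *
        Psi inj prj (Matrix.diagonal fun _ => X) *
        Psi inj prj (Matrix.diagonal fun _ => p₀)) ∧
      tr (comm (Psi inj prj (Matrix.diagonal fun _ => p₀)) (Psi inj prj Y)
        (Psi inj prj (Matrix.diagonal fun _ => X))) = ∑ a, tr (comm p₀ (Y a a) X) := by
  obtain ⟨D, hD⟩ : ∃ D : Matrix ι ι (Module.End k V), D = Matrix.diagonal fun _ => p₀ :=
    ⟨_, rfl⟩
  obtain ⟨Xd, hXd⟩ : ∃ Xd : Matrix ι ι (Module.End k V), Xd = Matrix.diagonal fun _ => X :=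
    ⟨_, rfl⟩
  rw [← hD, ← hXd]
  have hDD : D * D = D := by
    rw [hD, Matrix.diagonal_mul_diagonal, hp₀]
  have h1D : (1 : Matrix ι ι (Module.End k V)) - D = Matrix.diagonal fun _ => 1 - p₀ := by
    rw [hD, ← Matrix.diagonal_one, Matrix.diagonal_sub]
  have hmul := Psi_mul inj prj h1
  have hone := Psi_one inj prj h2
  have hsub := Psi_sub inj prj
  refine ⟨?_, ?_, ?_, ?_⟩
  · rw [← hmul, hDD]
  · rw [← hone, ← hsub, ← hmul, ← hmul]
    apply fr_Psi
    intro a b
    rw [h1D, hD, Matrix.mul_diagonal, Matrix.diagonal_mul]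
    exact hu a b
  · rw [← hone, ← hsub, ← hmul, ← hmul]
    apply fr_Psi
    intro a b
    rw [h1D, hD, hXd, Matrix.diagonal_mul_diagonal, Matrix.diagonal_mul_diagonal,
      Matrix.diagonal_apply]
    split_ifs
    · exact hv
    · exact FR.zero
  · have hDXD : D * Xd * D = Matrix.diagonal fun _ => p₀ * X * p₀ := by
      rw [hD, hXd, Matrix.diagonal_mul_diagonal, Matrix.diagonal_mul_diagonal]
    have hDYD : ∀ a b, (D * Y * D) a b = p₀ * Y a b * p₀ := by
      intro a b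
      rw [hD, Matrix.mul_diagonal, Matrix.diagonal_mul]
    have hC : comm (Psi inj prj D) (Psi inj prj Y) (Psi inj prj Xd) =
        Psi inj prj (fun a b => comm p₀ (Y a b) X) := by
      unfold TateRho.comm
      rw [← hmul, ← hmul, ← hmul, ← hmul, ← hmul, ← hmul, ← hsub]
      congr 1
      ext a b
      rw [Matrix.sub_apply, hDXD, Matrix.mul_diagonal, Matrix.diagonal_mul, hDYD]
    rw [hC]
    exact tr_Psi inj prj h1 _ fun a b => fr_comm hp₀ (hYX a b) (hu a b) hv

end block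

end Groth.Agent.Helper6.TateSum
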