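import Mathlib
import Groth.Agent.Helper6.TateSum
import Groth.Agent.Helper6.TateExp
import Groth.Agent.Helper5.FGInt
import Groth.Agent.Helper5.FGWeak
import Groth.Agent.Helper5.FGOrd

set_option autoImplicit false
set_option linter.style.haveILetI false
set_option linter.unusedSectionVars false

/-!
# The trace formula for local residues (Tate's proof)
-/

namespace Groth.Agent.Helper6.TrRes

open FunFld
open Groth.Agent.Helper5
open Groth.Agent.Helper6.TateTr Groth.Agent.Helper6.TateRho Groth.Agent.Helper6.TateSum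
  Groth.Agent.Helper6.TateExp

universe u v w u₁ u₂ u₃

section basis

variable {k : Type u₁} {K : Type u₂} {K' : Type u₃} [Field k] [Field K] [Field K'] [Algebra k K] [Algebra K K']
  [Algebra k K'] [IsScalarTower k K K']

theorem isPrincipalIdealRing_O (P : Place k K) : IsPrincipalIdealRing P.O := by
  classical
  refine ⟨fun I => ?_⟩
  by_cases hI : I = ⊥
  · rw [hI]; infer_instance
  · obtain ⟨a, haI, ha0⟩ := Submodule.exists_mem_ne_zero_of_ne_bot hI
    have hex : ∃ n : ℕ, ∃ a ∈ I, a ≠ 0 ∧ P.ord (a : K) = n := by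
      have ha0' : (a : K) ≠ 0 := fun h => ha0 (Subtype.ext h)
      have hn : 0 ≤ P.ord (a : K) := (FG.ord_nonneg_iff P ha0').2 a.2
      exact ⟨(P.ord (a : K)).toNat, a, haI, ha0, (Int.toNat_of_nonneg hn).symm⟩
    obtain ⟨a₀, ha₀I, ha₀0, ha₀v⟩ := Nat.find_spec hex
    have ha₀0' : (a₀ : K) ≠ 0 := fun h => ha₀0 (Subtype.ext h)
    refine ⟨⟨a₀, le_antisymm (fun b hb => ?_) ?_⟩⟩
    · rw [Submodule.mem_span_singleton]
      by_cases hb0 : b = 0
      · exact ⟨0, by rw [hb0, zero_smul]⟩
      · have hb0' : (b : K) ≠ 0 := fun h => hb0 (Subtype.ext h)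
        have hn : 0 ≤ P.ord (b : K) := (FG.ord_nonneg_iff P hb0').2 b.2
        have hmin : Nat.find hex ≤ (P.ord (b : K)).toNat :=
          Nat.find_min' hex ⟨b, hb, hb0, (Int.toNat_of_nonneg hn).symm⟩
        have hle : P.ord (a₀ : K) ≤ P.ord (b : K) := by
          rw [ha₀v]
          have := Int.toNat_of_nonneg hn
          omega
        have hval : P.1 ((b : K) / a₀) ≤ 1 := by
          rw [← FG.ord_nonneg_iff P (div_ne_zero hb0' ha₀0'), div_eq_mul_inv,
            FG.ord_mul P hb0' (inv_ne_zero ha₀0'), FG.ord_inv]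
          omega
        refine ⟨⟨(b : K) / a₀, hval⟩, Subtype.ext ?_⟩
        show (b : K) / a₀ * a₀ = b
        exact div_mul_cancel₀ _ ha₀0'
    · exact (Submodule.span_singleton_le_iff_mem _ _).2 ha₀I

theorem exists_integral_basis [FiniteDimensional K K'] [Algebra.IsSeparable K K']
    (hK : FG.IsFF k K) (P : Place k K) :
    ∃ (ι : Type u₃) (_ : Fintype ι) (b : Module.Basis ι K K'),
      ∀ z : K', (∀ Q : Place k K', IsOver Q P → Q.1 z ≤ 1) ↔ ∀ i, P.1 (b.repr z i) ≤ 1 := by
  haveI := isPrincipalIdealRing_O P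
  haveI : Module.IsTorsionFree P.O K' := Module.IsTorsionFree.trans_faithfulSMul P.O K K'
  haveI : IsNoetherian P.O (integralClosure P.O K') :=
    IsIntegralClosure.isNoetherian P.O K K' (integralClosure P.O K')
  haveI : Module.Free P.O (integralClosure P.O K') :=
    IsIntegralClosure.module_free P.O K K' (integralClosure P.O K')
  haveI : IsLocalization (Algebra.algebraMapSubmonoid (integralClosure P.O K')
      (nonZeroDivisors P.O)) K' :=
    IsIntegralClosure.isLocalization P.O K K' (integralClosure P.O K')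
  obtain ⟨b₀, -⟩ : ∃ b₀ : Module.Basis
      (Module.Free.ChooseBasisIndex P.O (integralClosure P.O K')) P.O (integralClosure P.O K'),
      b₀ = Module.Free.chooseBasis P.O (integralClosure P.O K') := ⟨_, rfl⟩
  obtain ⟨b, hb⟩ : ∃ b : Module.Basis
      (Module.Free.ChooseBasisIndex P.O (integralClosure P.O K')) K K',
      b = b₀.localizationLocalization K (nonZeroDivisors P.O) K' := ⟨_, rfl⟩
  refine ⟨_, inferInstance, b, fun z => ⟨fun h i => ?_, fun h Q hQ => ?_⟩⟩
  · have hz : IsIntegral P.O z := FG.isIntegral_of_forall_val_le_one hK P h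
    have e : b.repr (algebraMap (integralClosure P.O K') K' ⟨z, hz⟩) i =
        algebraMap P.O K (b₀.repr ⟨z, hz⟩ i) := by
      rw [hb, Module.Basis.localizationLocalization_repr_algebraMap]
    have e' : algebraMap (integralClosure P.O K') K' ⟨z, hz⟩ = z := rfl
    rw [e'] at e
    rw [e]
    exact (b₀.repr ⟨z, hz⟩ i).2
  · have hz : IsIntegral P.O z := by
      rw [← b.sum_repr z]
      refine IsIntegral.sum _ fun i _ => ?_
      rw [Algebra.smul_def]
      refine IsIntegral.mul ?_ ?_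
      · have : algebraMap K K' (b.repr z i) = algebraMap P.O K' ⟨b.repr z i, h i⟩ := by
          rw [IsScalarTower.algebraMap_apply P.O K K']; rfl
        rw [this]; exact isIntegral_algebraMap
      · rw [hb, Module.Basis.localizationLocalization_apply]
        exact (b₀ i).2
    exact FG.val_le_one_of_isIntegral hQ hz

end basis

theorem locRes_sum {k : Type u} {K : Type v} {F : Type w} [CommRing k] [CommRing K] [Field F]
    [Algebra k K] [Algebra k F] (φ : K →ₐ[k] LaurentSeries F) {ι : Type*} (s : Finset ι)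
    (c : ι → K) (x : K) :
    LocRes.locRes φ (∑ i ∈ s, c i) x = ∑ i ∈ s, LocRes.locRes φ (c i) x := by
  unfold LocRes.locRes LocRes.resExp
  rw [map_sum, Finset.sum_mul, map_sum, map_sum]

section psi

variable {k : Type*} [Field k] {V : Type*} [AddCommGroup V] [Module k V]
  {V' : Type*} [AddCommGroup V'] [Module k V'] {ι : Type*} [Fintype ι] [DecidableEq ι]
  (inj : ι → V →ₗ[k] V') (prj : ι → V' →ₗ[k] V)

theorem Psi_diagonal_apply (d : ι → Module.End k V) (x : V') :
    Psi inj prj (Matrix.diagonal d) x = ∑ a, inj a (d a (prj a x)) := by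
  rw [Psi_apply]
  refine Finset.sum_congr rfl fun a _ => ?_
  rw [Finset.sum_eq_single a (fun c _ hca => ?_) (fun h => absurd (Finset.mem_univ a) h)]
  · rw [Matrix.diagonal_apply_eq]
  · rw [Matrix.diagonal_apply_ne _ (Ne.symm hca), LinearMap.zero_apply, map_zero]

end psi

theorem s12578 (k : Type u) (K K' : Type v) [Field k] [Field K] [Field K'] [Algebra k K]
    [Algebra K K'] [Algebra k K'] [IsScalarTower k K K'] [FiniteDimensional K K']
    [Algebra.IsSeparable K K']
    (hK : FunFld.IsFunctionField k K) (P : FunFld.Place k K)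
    (F : Type w) [Field F] [Algebra k F] [FiniteDimensional k F]
    (φ : K →ₐ[k] LaurentSeries F) (hφ : LocRes.IsExpansionAt P.1 φ)
    (Qs : Finset (FunFld.Place k K')) (hQs : ∀ Q, Q ∈ Qs ↔ FunFld.IsOver Q P)
    (F' : FunFld.Place k K' → Type w) [∀ Q, Field (F' Q)] [∀ Q, Algebra k (F' Q)]
    [∀ Q, FiniteDimensional k (F' Q)]
    (ψ : ∀ Q, K' →ₐ[k] LaurentSeries (F' Q)) (hψ : ∀ Q ∈ Qs, LocRes.IsExpansionAt Q.1 (ψ Q))
    (y : K') (x : K) :
    LocRes.locRes φ (Algebra.trace K K' y) x =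
      ∑ Q ∈ Qs, LocRes.locRes (ψ Q) y (algebraMap K K' x) := by
  classical
  obtain ⟨ι, _, b, hb⟩ := exists_integral_basis (K' := K') hK.1 P
  -- projections
  obtain ⟨p₀, hp₀, hr₀⟩ := exists_proj (OSub (k := k) P.1 P.2.1)
  have hloc₀ := fun u v => local_main P.1 P.2.1 φ hφ p₀ hp₀ hr₀ u v
  choose pQ hpQ hrQ using fun Q : Place k K' => exists_proj (OSub (k := k) Q.1 Q.2.1)
  have hlocQ := fun Q (hQ : Q ∈ Qs) u v =>
    local_main Q.1 Q.2.1 (ψ Q) (hψ Q hQ) (pQ Q) (hpQ Q) (hrQ Q) u v
  obtain ⟨f, hf⟩ : ∃ f : Module.End k K', f = mulK y := ⟨_, rfl⟩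
  obtain ⟨g, hg⟩ : ∃ g : Module.End k K', g = mulK (algebraMap K K' x) := ⟨_, rfl⟩
  have hfg : f * g = g * f := by rw [hf, hg]; exact mulK_comm _ _
  -- general position
  have hsup : ∀ (t : Finset (Place k K')) (Q : Place k K'), Q ∉ t →
      OSub (k := k) Q.1 Q.2.1 ⊔ ⨅ j ∈ t, OSub (k := k) j.1 j.2.1 = ⊤ := by
    intro t Q hQt
    rw [eq_top_iff]
    intro z _
    obtain ⟨a, ha⟩ := FG.weak_approx (insert Q t) (fun R => if R = Q then z else 0) 0
    have hz : z = (z - a) + a := by ring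
    rw [hz]
    refine Submodule.add_mem_sup ?_ ?_
    · show Q.1 (z - a) ≤ 1
      have := ha Q (Finset.mem_insert_self Q t)
      rw [if_pos rfl, neg_zero, WithZero.exp_zero] at this
      rw [Valuation.map_sub_swap]
      exact this.le
    · rw [Submodule.mem_iInf]
      intro j
      rw [Submodule.mem_iInf]
      intro hj
      show j.1 a ≤ 1
      have hjQ : j ≠ Q := fun h => hQt (h ▸ hj)
      have := ha j (Finset.mem_insert_of_mem hj)
      rw [if_neg hjQ, sub_zero, neg_zero, WithZero.exp_zero] at this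
      exact this.le
  have hT := tr_comm_iInf (fun Q : Place k K' => OSub (k := k) Q.1 Q.2.1) pQ hfg hsup Qs
    (fun Q hQ => ⟨hpQ Q, hrQ Q, by rw [hf]; exact (hlocQ Q hQ y 0).1,
      by rw [hg]; exact (hlocQ Q hQ (algebraMap K K' x) 0).1⟩)
  -- block structure
  obtain ⟨inj, hinj⟩ : ∃ inj : ι → K →ₗ[k] K',
      inj = fun i => (LinearMap.toSpanSingleton K K' (b i)).restrictScalars k := ⟨_, rfl⟩
  obtain ⟨prj, hprj⟩ : ∃ prj : ι → K' →ₗ[k] K,
      prj = fun i => (b.coord i).restrictScalars k := ⟨_, rfl⟩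
  have inj_apply : ∀ i z, inj i z = z • b i := fun i z => by rw [hinj]; rfl
  have prj_apply : ∀ i z, prj i z = b.repr z i := fun i z => by rw [hprj]; rfl
  have h1 : ∀ i j, prj i ∘ₗ inj j = if i = j then LinearMap.id else 0 := by
    intro i j
    ext z
    rw [LinearMap.comp_apply, inj_apply, prj_apply, map_smul, Module.Basis.repr_self,
      Finsupp.smul_apply, smul_eq_mul, Finsupp.single_apply]
    by_cases hij : i = j
    · rw [if_pos hij.symm, if_pos hij, mul_one]; rfl
    · rw [if_neg (Ne.symm hij), if_neg hij, mul_zero]; rfl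
  have h2 : ∑ i, inj i ∘ₗ prj i = LinearMap.id := by
    ext z
    rw [LinearMap.sum_apply]
    simp only [LinearMap.comp_apply, inj_apply, prj_apply, LinearMap.id_apply]
    exact b.sum_repr z
  obtain ⟨M, hM⟩ : ∃ M : Matrix ι ι K, M = Algebra.leftMulMatrix b y := ⟨_, rfl⟩
  obtain ⟨Y, hY⟩ : ∃ Y : Matrix ι ι (Module.End k K), Y = fun a c => mulK (M a c) := ⟨_, rfl⟩
  have hYf : Psi inj prj Y = f := by
    rw [← Psi_blk inj prj h2 f]
    congr 1
    ext a c z
    rw [hY, hf]
    show M a c * z = prj a (y * inj c z)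
    rw [inj_apply, prj_apply, mul_smul_comm, map_smul, Finsupp.smul_apply, smul_eq_mul, hM,
      Algebra.leftMulMatrix_eq_repr_mul, mul_comm]
  have hXg : Psi inj prj (Matrix.diagonal fun _ => mulK (k := k) x) = g := by
    rw [← Psi_blk inj prj h2 g]
    congr 1
    ext a c z
    rw [Matrix.diagonal_apply, hg]
    show (if a = c then mulK (k := k) x else 0) z = prj a (algebraMap K K' x * inj c z)
    rw [inj_apply, prj_apply, ← Algebra.smul_def, smul_smul, map_smul, Module.Basis.repr_self,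
      Finsupp.smul_apply, Finsupp.single_apply, smul_eq_mul]
    by_cases hac : a = c
    · rw [if_pos hac, if_pos hac.symm, mul_one]; rfl
    · rw [if_neg hac, if_neg (Ne.symm hac), mul_zero]; rfl
  have hYX : ∀ a c, Y a c * mulK (k := k) x = mulK x * Y a c := fun a c => by
    rw [hY]; exact mulK_comm _ _
  obtain ⟨hpp, -, -, etr⟩ := block_main inj prj h1 h2 hp₀ hYX
    (fun a c => by rw [hY]; exact (hloc₀ (M a c) 0).1) (hloc₀ x 0).1
  rw [hYf, hXg] at etr
  obtain ⟨p', hp'⟩ : ∃ p' : Module.End k K', p' = Psi inj prj (Matrix.diagonal fun _ => p₀) :=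
    ⟨_, rfl⟩
  rw [← hp'] at hpp etr
  have hp'apply : ∀ z, p' z = ∑ a, (p₀ (b.repr z a)) • b a := by
    intro z
    rw [hp', Psi_diagonal_apply]
    refine Finset.sum_congr rfl fun a _ => ?_
    rw [inj_apply, prj_apply]
  have hrange : LinearMap.range p' = ⨅ Q ∈ Qs, OSub (k := k) Q.1 Q.2.1 := by
    apply le_antisymm
    · rintro _ ⟨z, rfl⟩
      rw [Submodule.mem_iInf]
      intro Q
      rw [Submodule.mem_iInf]
      intro hQ
      show Q.1 (p' z) ≤ 1
      refine (hb (p' z)).2 (fun i => ?_) Q ((hQs Q).1 hQ)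
      rw [hp'apply, Module.Basis.repr_sum_self]
      exact proj_mem hr₀ _
    · intro z hz
      have hz' : ∀ Q, IsOver Q P → Q.1 z ≤ 1 := fun Q hQ => by
        have := (Submodule.mem_iInf _).1 ((Submodule.mem_iInf _).1 hz Q) ((hQs Q).2 hQ)
        exact this
      have hc := (hb z).1 hz'
      refine ⟨z, ?_⟩
      rw [hp'apply]
      conv_rhs => rw [← b.sum_repr z]
      refine Finset.sum_congr rfl fun a _ => ?_
      rw [proj_fix hp₀ hr₀ (hc a)]
  obtain ⟨-, -, eQ⟩ := hT p' hpp hrange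
  have e1 : Algebra.trace K K' y = ∑ a, M a a := by
    rw [Algebra.trace_eq_matrix_trace b y, hM]; rfl
  rw [e1, locRes_sum]
  have e2 : ∀ a, LocRes.locRes φ (M a a) x = tr (comm p₀ (Y a a) (mulK x)) := fun a => by
    rw [hY]; exact ((hloc₀ (M a a) x).2).symm
  rw [Finset.sum_congr rfl fun a _ => e2 a, ← etr, eQ]
  refine Finset.sum_congr rfl fun Q hQ => ?_
  rw [hf, hg]
  exact (hlocQ Q hQ y (algebraMap K K' x)).2

end Groth.Agent.Helper6.TrRes
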