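import Mathlib
import Groth.Agent.Helper6.TrRes
import Groth.Agent.Helper5.FGExt2
import Groth.Agent.Helper5.FGLocInd
import Groth.Agent.Helper5.FFUnif

set_option autoImplicit false
set_option linter.style.haveILetI false
set_option linter.unusedSectionVars false

/-!
# Finite-rank conditions at arbitrary places and the abstract trace formula
-/

namespace Groth.Agent.Helper6.TateFR

open FunFld
open Groth.Agent.Helper5
open Groth.Agent.Helper6.TateTr Groth.Agent.Helper6.TateRho Groth.Agent.Helper6.TateSum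
  Groth.Agent.Helper6.TateExp Groth.Agent.Helper6.TrRes

universe u v w

section local_

variable {k : Type*} {K : Type*} [Field k] [Field K] [Algebra k K]

theorem mulK_mul (a c : K) : mulK (k := k) (a * c) = mulK a * mulK c := by
  ext z
  rw [Module.End.mul_apply, mulK_apply, mulK_apply, mulK_apply, mul_assoc]

theorem mulK_one : mulK (k := k) (1 : K) = 1 := by
  ext z
  rw [mulK_apply, one_mul, Module.End.one_apply]

theorem mulK_pow (a : K) (n : ℕ) : mulK (k := k) (a ^ n) = mulK a ^ n := by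
  induction n with
  | zero => rw [pow_zero, pow_zero, mulK_one]
  | succ n ih => rw [pow_succ, pow_succ, mulK_mul, ih]

theorem mulK_sum {ι : Type*} (s : Finset ι) (c : ι → K) :
    mulK (k := k) (∑ i ∈ s, c i) = ∑ i ∈ s, mulK (c i) := by
  ext z
  rw [LinearMap.sum_apply, mulK_apply, Finset.sum_mul]
  rfl

theorem comm_sum_left {V : Type*} [AddCommGroup V] [Module k V] {ι : Type*} (s : Finset ι)
    (p : Module.End k V) (G : ι → Module.End k V) (g : Module.End k V) :
    comm p (∑ i ∈ s, G i) g = ∑ i ∈ s, comm p (G i) g := by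
  unfold TateRho.comm
  simp only [Finset.mul_sum, Finset.sum_mul, Finset.sum_sub_distrib]

theorem stable_mulK (w : Valuation K (WithZero (Multiplicative ℤ)))
    (hw : ∀ c : k, w (algebraMap k K c) ≤ 1) {p : Module.End k K} (hp : p * p = p)
    (hr : LinearMap.range p = OSub w hw) {v : K} (hv : w v ≤ 1) :
    (1 - p) * mulK v * p = 0 := by
  ext z
  simp only [Module.End.mul_apply, LinearMap.sub_apply, Module.End.one_apply,
    LinearMap.zero_apply, mulK_apply]
  have h1 : w (p z) ≤ 1 := proj_mem hr z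
  have h2 : v * p z ∈ OSub w hw := by
    show w (v * p z) ≤ 1
    rw [map_mul]; exact mul_le_one' hv h1
  rw [proj_fix hp hr h2, sub_self]

theorem fr_tinv (hK : FG.IsFF k K) (R : Place k K) {p : Module.End k K} (hp : p * p = p)
    (hr : LinearMap.range p = OSub R.1 R.2.1) {t : K} (ht : R.1 t = WithZero.exp (-1 : ℤ)) :
    FR ((1 - p) * mulK t⁻¹ * p) := by
  haveI := FG.finiteDimensional_residueField hK R
  obtain ⟨σ, hσ⟩ := LinearMap.exists_rightInverse_of_surjective (FF.resLin R)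
    (LinearMap.range_eq_top.mpr IsLocalRing.residue_surjective)
  obtain ⟨μ, hμ⟩ : ∃ μ : IsLocalRing.ResidueField R.O →ₗ[k] K,
      μ = (mulK (k := k) t⁻¹) ∘ₗ (FF.valLin R) ∘ₗ σ := ⟨_, rfl⟩
  haveI : FiniteDimensional k (LinearMap.range μ) := inferInstance
  refine FR.of_le ((LinearMap.range μ).map ((1 : Module.End k K) - p)) ?_
  rintro _ ⟨z, rfl⟩
  have ha : R.1 (p z) ≤ 1 := proj_mem hr z
  obtain ⟨a, haz⟩ : ∃ a : R.O, (a : K) = p z := ⟨⟨p z, ha⟩, rfl⟩
  obtain ⟨a'', ha''⟩ : ∃ a'' : R.O, a'' = a - σ (FF.resLin R a) := ⟨_, rfl⟩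
  have hres : FF.resLin R a'' = 0 := by
    rw [ha'', map_sub, ← LinearMap.comp_apply, hσ, LinearMap.id_apply, sub_self]
  have hlt : R.1 (a'' : K) < 1 := (FG.residue_eq_zero_iff R a'').mp hres
  have hcoe : (a'' : K) = p z - FF.valLin R (σ (FF.resLin R a)) := by
    have h1 : FF.valLin R a'' = FF.valLin R a - FF.valLin R (σ (FF.resLin R a)) := by
      rw [ha'', map_sub]
    rw [← haz]
    exact h1
  have hsplit : t⁻¹ * p z = μ (FF.resLin R a) + t⁻¹ * (a'' : K) := by
    rw [hcoe, hμ, LinearMap.comp_apply, LinearMap.comp_apply, mulK_apply]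
    ring
  have h0 : ((1 : Module.End k K) - p) (t⁻¹ * (a'' : K)) = 0 := by
    have hmem : t⁻¹ * (a'' : K) ∈ OSub R.1 R.2.1 := by
      show R.1 (t⁻¹ * (a'' : K)) ≤ 1
      rw [map_mul, map_inv₀, ht]
      have h2 : R.1 (a'' : K) ≤ WithZero.exp (-1 : ℤ) := (FF.lt_one_iff_le_exp_neg_one' _).mp hlt
      calc (WithZero.exp (-1 : ℤ))⁻¹ * R.1 (a'' : K)
          ≤ (WithZero.exp (-1 : ℤ))⁻¹ * WithZero.exp (-1 : ℤ) := mul_le_mul' le_rfl h2
        _ = 1 := inv_mul_cancel₀ WithZero.exp_ne_zero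
    rw [LinearMap.sub_apply, Module.End.one_apply, proj_fix hp hr hmem, sub_self]
  simp only [Module.End.mul_apply, mulK_apply]
  rw [hsplit, map_add, h0, add_zero]
  exact Submodule.mem_map_of_mem (LinearMap.mem_range_self μ _)

theorem fr_mulK (hK : FG.IsFF k K) (R : Place k K) {p : Module.End k K} (hp : p * p = p)
    (hr : LinearMap.range p = OSub R.1 R.2.1) (u : K) : FR ((1 - p) * mulK u * p) := by
  by_cases hu1 : R.1 u ≤ 1
  · rw [stable_mulK R.1 R.2.1 hp hr hu1]; exact FR.zero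
  · rw [not_le] at hu1
    have hu0 : u ≠ 0 := by
      rintro rfl
      rw [map_zero] at hu1
      exact absurd hu1 (not_lt.mpr zero_le)
    obtain ⟨t, ht⟩ := FG.exists_uniformizer R
    have ht0 : t ≠ 0 := FG.ne_zero_of_val_eq_exp R ht
    have hpow : ∀ n : ℕ, FR ((1 - p) * (mulK (k := k) t⁻¹) ^ n * p) := by
      intro n
      induction n with
      | zero =>
        rw [pow_zero, mul_one, sub_mul, one_mul, hp, sub_self]; exact FR.zero
      | succ n ih =>
        rw [pow_succ]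
        exact fr_u_mul ih (fr_tinv hK R hp hr ht)
    obtain ⟨m, hm⟩ : ∃ m : ℕ, R.1 u = WithZero.exp (m : ℤ) := by
      refine ⟨(-R.ord u).toNat, ?_⟩
      rw [FG.val_eq_exp_neg_ord R hu0]
      congr 1
      have : 0 ≤ -R.ord u := by
        rw [FG.val_eq_exp_neg_ord R hu0, ← WithZero.exp_zero, WithZero.exp_lt_exp] at hu1
        omega
      omega
    have hv : R.1 (u * t ^ m) ≤ 1 := by
      rw [map_mul, map_pow, hm, ht, ← WithZero.exp_nsmul, ← WithZero.exp_add,
        show ((m : ℤ) + m • (-1 : ℤ)) = 0 by simp, WithZero.exp_zero]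
    have hu_eq : mulK (k := k) u = (mulK t⁻¹) ^ m * mulK (u * t ^ m) := by
      rw [← mulK_pow, ← mulK_mul]
      congr 1
      rw [inv_pow, mul_comm u, ← mul_assoc, inv_mul_cancel₀ (pow_ne_zero m ht0), one_mul]
    rw [hu_eq]
    refine fr_u_mul (hpow m) ?_
    rw [stable_mulK R.1 R.2.1 hp hr hv]; exact FR.zero

end local_

/-- the abstract trace formula for Tate residues -/
theorem atf (k : Type u) (K K' : Type v) [Field k] [Field K] [Field K'] [Algebra k K]
    [Algebra K K'] [Algebra k K'] [IsScalarTower k K K'] [FiniteDimensional K K']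
    [Algebra.IsSeparable K K']
    (hK : FG.IsFF k K) (P : FunFld.Place k K)
    (Qs : Finset (FunFld.Place k K')) (hQs : ∀ Q, Q ∈ Qs ↔ FunFld.IsOver Q P)
    {p₀ : Module.End k K} (hp₀ : p₀ * p₀ = p₀)
    (hr₀ : LinearMap.range p₀ = OSub (k := k) P.1 P.2.1)
    (pQ : FunFld.Place k K' → Module.End k K') (hpQ : ∀ Q, pQ Q * pQ Q = pQ Q)
    (hrQ : ∀ Q, LinearMap.range (pQ Q) = OSub (k := k) Q.1 Q.2.1)
    (y : K') (x : K) :
    tr (comm p₀ (mulK (Algebra.trace K K' y)) (mulK x)) =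
      ∑ Q ∈ Qs, tr (comm (pQ Q) (mulK y) (mulK (algebraMap K K' x))) := by
  classical
  have hK' : FG.IsFF k K' := FG.isFF_of_finite hK
  obtain ⟨ι, _, b, hb⟩ := exists_integral_basis (K' := K') hK P
  have hloc₀ := fun u => fr_mulK hK P hp₀ hr₀ u
  have hlocQ := fun Q u => fr_mulK hK' Q (hpQ Q) (hrQ Q) u
  obtain ⟨f, hf⟩ : ∃ f : Module.End k K', f = mulK y := ⟨_, rfl⟩
  obtain ⟨g, hg⟩ : ∃ g : Module.End k K', g = mulK (algebraMap K K' x) := ⟨_, rfl⟩
  have hfg : f * g = g * f := by rw [hf, hg]; exact mulK_comm _ _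
  have hsup : ∀ (t : Finset (Place k K')) (Q : Place k K'), Q ∉ t →
      OSub (k := k) Q.1 Q.2.1 ⊔ ⨅ j ∈ t, OSub (k := k) j.1 j.2.1 = ⊤ := by
    intro t Q hQt
    rw [eq_top_iff]
    intro z _
    obtain ⟨a, ha⟩ := FG.weak_approx (insert Q t) (fun R => if R = Q then z else 0) 0
    have hz : z = (z - a) + a := by ring
    rw [hz]
    refine Submodule.add_mem_sup ?_ ?_
    · show Q.1 (z - a) ≤ 1
      have := ha Q (Finset.mem_insert_self Q t)
      rw [if_pos rfl, neg_zero, WithZero.exp_zero] at this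
      rw [Valuation.map_sub_swap]
      exact this.le
    · rw [Submodule.mem_iInf]
      intro j
      rw [Submodule.mem_iInf]
      intro hj
      show j.1 a ≤ 1
      have hjQ : j ≠ Q := fun h => hQt (h ▸ hj)
      have := ha j (Finset.mem_insert_of_mem hj)
      rw [if_neg hjQ, sub_zero, neg_zero, WithZero.exp_zero] at this
      exact this.le
  have hT := tr_comm_iInf (fun Q : Place k K' => OSub (k := k) Q.1 Q.2.1) pQ hfg hsup Qs
    (fun Q _ => ⟨hpQ Q, hrQ Q, by rw [hf]; exact hlocQ Q y,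
      by rw [hg]; exact hlocQ Q (algebraMap K K' x)⟩)
  obtain ⟨inj, hinj⟩ : ∃ inj : ι → K →ₗ[k] K',
      inj = fun i => (LinearMap.toSpanSingleton K K' (b i)).restrictScalars k := ⟨_, rfl⟩
  obtain ⟨prj, hprj⟩ : ∃ prj : ι → K' →ₗ[k] K,
      prj = fun i => (b.coord i).restrictScalars k := ⟨_, rfl⟩
  have inj_apply : ∀ i z, inj i z = z • b i := fun i z => by rw [hinj]; rfl
  have prj_apply : ∀ i z, prj i z = b.repr z i := fun i z => by rw [hprj]; rfl
  have h1 : ∀ i j, prj i ∘ₗ inj j = if i = j then LinearMap.id else 0 := by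
    intro i j
    ext z
    rw [LinearMap.comp_apply, inj_apply, prj_apply, map_smul, Module.Basis.repr_self,
      Finsupp.smul_apply, smul_eq_mul, Finsupp.single_apply]
    by_cases hij : i = j
    · rw [if_pos hij.symm, if_pos hij, mul_one]; rfl
    · rw [if_neg (Ne.symm hij), if_neg hij, mul_zero]; rfl
  have h2 : ∑ i, inj i ∘ₗ prj i = LinearMap.id := by
    ext z
    rw [LinearMap.sum_apply]
    simp only [LinearMap.comp_apply, inj_apply, prj_apply, LinearMap.id_apply]
    exact b.sum_repr z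
  obtain ⟨M, hM⟩ : ∃ M : Matrix ι ι K, M = Algebra.leftMulMatrix b y := ⟨_, rfl⟩
  obtain ⟨Y, hY⟩ : ∃ Y : Matrix ι ι (Module.End k K), Y = fun a c => mulK (M a c) := ⟨_, rfl⟩
  have hYf : Psi inj prj Y = f := by
    rw [← Psi_blk inj prj h2 f]
    congr 1
    ext a c z
    rw [hY, hf]
    show M a c * z = prj a (y * inj c z)
    rw [inj_apply, prj_apply, mul_smul_comm, map_smul, Finsupp.smul_apply, smul_eq_mul, hM,
      Algebra.leftMulMatrix_eq_repr_mul, mul_comm]
  have hXg : Psi inj prj (Matrix.diagonal fun _ => mulK (k := k) x) = g := by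
    rw [← Psi_blk inj prj h2 g]
    congr 1
    ext a c z
    rw [Matrix.diagonal_apply, hg]
    show (if a = c then mulK (k := k) x else 0) z = prj a (algebraMap K K' x * inj c z)
    rw [inj_apply, prj_apply, ← Algebra.smul_def, smul_smul, map_smul, Module.Basis.repr_self,
      Finsupp.smul_apply, Finsupp.single_apply, smul_eq_mul]
    by_cases hac : a = c
    · rw [if_pos hac, if_pos hac.symm, mul_one]; rfl
    · rw [if_neg hac, if_neg (Ne.symm hac), mul_zero]; rfl
  have hYX : ∀ a c, Y a c * mulK (k := k) x = mulK x * Y a c := fun a c => by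
    rw [hY]; exact mulK_comm _ _
  have huY : ∀ a c, FR ((1 - p₀) * Y a c * p₀) := fun a c => by rw [hY]; exact hloc₀ (M a c)
  obtain ⟨hpp, -, -, etr⟩ := block_main inj prj h1 h2 hp₀ hYX huY (hloc₀ x)
  rw [hYf, hXg] at etr
  obtain ⟨p', hp'⟩ : ∃ p' : Module.End k K', p' = Psi inj prj (Matrix.diagonal fun _ => p₀) :=
    ⟨_, rfl⟩
  rw [← hp'] at hpp etr
  have hp'apply : ∀ z, p' z = ∑ a, (p₀ (b.repr z a)) • b a := by
    intro z
    rw [hp', Psi_diagonal_apply]
    refine Finset.sum_congr rfl fun a _ => ?_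
    rw [inj_apply, prj_apply]
  have hrange : LinearMap.range p' = ⨅ Q ∈ Qs, OSub (k := k) Q.1 Q.2.1 := by
    apply le_antisymm
    · rintro _ ⟨z, rfl⟩
      rw [Submodule.mem_iInf]
      intro Q
      rw [Submodule.mem_iInf]
      intro hQ
      show Q.1 (p' z) ≤ 1
      refine (hb (p' z)).2 (fun i => ?_) Q ((hQs Q).1 hQ)
      rw [hp'apply, Module.Basis.repr_sum_self]
      exact proj_mem hr₀ _
    · intro z hz
      have hz' : ∀ Q, IsOver Q P → Q.1 z ≤ 1 := fun Q hQ => by
        have := (Submodule.mem_iInf _).1 ((Submodule.mem_iInf _).1 hz Q) ((hQs Q).2 hQ)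
        exact this
      have hc := (hb z).1 hz'
      refine ⟨z, ?_⟩
      rw [hp'apply]
      conv_rhs => rw [← b.sum_repr z]
      refine Finset.sum_congr rfl fun a _ => ?_
      rw [proj_fix hp₀ hr₀ (hc a)]
  obtain ⟨-, -, eQ⟩ := hT p' hpp hrange
  have e1 : Algebra.trace K K' y = ∑ a, M a a := by
    rw [Algebra.trace_eq_matrix_trace b y, hM]; rfl
  have e2 : mulK (k := k) (∑ a, M a a) = ∑ a, Y a a := by
    rw [mulK_sum, hY]
  rw [e1, e2, comm_sum_left, tr_sum _ _ fun a _ => fr_comm hp₀ (hYX a a) (huY a a) (hloc₀ x),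
    ← etr, eQ, hf, hg]

/-- the trace formula when only one place above carries an expansion and the differential is
integral at the others -/
theorem tf1 (k : Type u) (K K' : Type v) [Field k] [Field K] [Field K'] [Algebra k K]
    [Algebra K K'] [Algebra k K'] [IsScalarTower k K K'] [FiniteDimensional K K']
    [Algebra.IsSeparable K K']
    (hK : FunFld.IsFunctionField k K) (P : FunFld.Place k K) (Q : FunFld.Place k K')
    (hQ : FunFld.IsOver Q P)
    (F F' : Type w) [Field F] [Algebra k F] [Field F'] [Algebra k F'] [FiniteDimensional k F]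
    [FiniteDimensional k F']
    (φ : K →ₐ[k] LaurentSeries F) (hφ : LocRes.IsExpansionAt P.1 φ)
    (ψ : K' →ₐ[k] LaurentSeries F') (hψ : LocRes.IsExpansionAt Q.1 ψ)
    (y : K') (x : K) (hx : P.1 x ≤ 1)
    (hy : ∀ Q' : FunFld.Place k K', FunFld.IsOver Q' P → Q' ≠ Q → Q'.1 y ≤ 1) :
    LocRes.locRes φ (Algebra.trace K K' y) x = LocRes.locRes ψ y (algebraMap K K' x) := by
  classical
  obtain ⟨hfin, -⟩ := FG.finite_isOver_and_sum (K' := K') hK P
  obtain ⟨Qs, hQs⟩ : ∃ Qs : Finset (Place k K'), ∀ Q', Q' ∈ Qs ↔ IsOver Q' P :=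
    ⟨hfin.toFinset, fun Q' => by rw [Set.Finite.mem_toFinset]; rfl⟩
  obtain ⟨p₀, hp₀, hr₀⟩ := exists_proj (OSub (k := k) P.1 P.2.1)
  choose pQ hpQ hrQ using fun Q : Place k K' => exists_proj (OSub (k := k) Q.1 Q.2.1)
  have h := atf k K K' hK.1 P Qs hQs hp₀ hr₀ pQ hpQ hrQ y x
  rw [(local_main P.1 P.2.1 φ hφ p₀ hp₀ hr₀ (Algebra.trace K K' y) x).2] at h
  rw [h, Finset.sum_eq_single Q]
  · exact (local_main Q.1 Q.2.1 ψ hψ (pQ Q) (hpQ Q) (hrQ Q) y (algebraMap K K' x)).2
  · intro Q' hQ' hne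
    obtain ⟨e', he'⟩ := (hQs Q').1 hQ'
    have h1 : (1 - pQ Q') * mulK (k := k) y * pQ Q' = 0 :=
      stable_mulK Q'.1 Q'.2.1 (hpQ Q') (hrQ Q') (hy Q' ((hQs Q').1 hQ') hne)
    have h2 : (1 - pQ Q') * mulK (k := k) (algebraMap K K' x) * pQ Q' = 0 :=
      stable_mulK Q'.1 Q'.2.1 (hpQ Q') (hrQ Q') (FG.val_algebraMap_le_one he' hx)
    rw [comm_eq_zero_of_stable (hpQ Q') (mulK_comm _ _) h1 h2, tr_zero]
  · intro hQn
    exact absurd ((hQs Q).2 hQ) hQn

end Groth.Agent.Helper6.TateFR
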