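import Groth.Agent.Helper5.DiffExp
import Groth.Agent.Helper6.TateExp

set_option autoImplicit false
set_option linter.style.haveILetI false

/-!
# Separability of the coefficient field of an expansion of a geometric function field
-/

namespace Groth.Agent.Helper6.TateSep

open FunFld LocRes LaurentSeries HahnSeries
open Groth.Agent.Helper5 Groth.Agent.Helper6.TateLoc Groth.Agent.Helper6.TateExp

universe u v w
variable {k : Type u} {K : Type v} [Field k] [Field K] [Algebra k K]
  {F : Type w} [Field F] [Algebra k F]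

/-- coefficientwise application of a derivation -/
noncomputable def cw (δ : Derivation k F F) (h : F⸨X⸩) : F⸨X⸩ := h.map δ

theorem coeff_cw (δ : Derivation k F F) (h : F⸨X⸩) (n : ℤ) :
    (cw δ h).coeff n = δ (h.coeff n) := rfl

theorem cw_add (δ : Derivation k F F) (x y : F⸨X⸩) : cw δ (x + y) = cw δ x + cw δ y := by
  ext n
  simp [coeff_cw]

theorem support_cw_subset (δ : Derivation k F F) (x : F⸨X⸩) :
    (cw δ x).support ⊆ x.support := by
  intro n hn
  rw [HahnSeries.mem_support] at *
  intro h0
  apply hn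
  rw [coeff_cw, h0, map_zero]

theorem cw_mul (δ : Derivation k F F) (x y : F⸨X⸩) :
    cw δ (x * y) = x * cw δ y + cw δ x * y := by
  ext a
  rw [coeff_cw, HahnSeries.coeff_add, HahnSeries.coeff_mul,
    HahnSeries.coeff_mul_right' y.isPWO_support (support_cw_subset δ y),
    HahnSeries.coeff_mul_left' x.isPWO_support (support_cw_subset δ x), map_sum,
    ← Finset.sum_add_distrib]
  apply Finset.sum_congr rfl
  intro ij _
  rw [coeff_cw, coeff_cw, Derivation.leibniz, smul_eq_mul, smul_eq_mul]
  ring

theorem cw_C (δ : Derivation k F F) (r : F) :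
    cw δ (HahnSeries.C r : F⸨X⸩) = HahnSeries.C (δ r) := by
  ext n
  rw [coeff_cw, HahnSeries.C_apply, HahnSeries.C_apply]
  by_cases hn : n = 0
  · subst hn; simp
  · rw [HahnSeries.coeff_single_of_ne hn, HahnSeries.coeff_single_of_ne hn, map_zero]

/-- the `k`-derivation `a ↦ δ(φ a)` (coefficientwise) of `K` into Laurent series -/
noncomputable def dExp' (φ : K →ₐ[k] F⸨X⸩) (δ : Derivation k F F) :
    letI := φ.toRingHom.toAlgebra
    Derivation k K F⸨X⸩ :=
  letI := φ.toRingHom.toAlgebra
  { toFun := fun a => cw δ (φ a)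
    map_add' := fun a b => show cw δ (φ (a + b)) = cw δ (φ a) + cw δ (φ b) by
      rw [map_add, cw_add]
    map_smul' := fun c a => show cw δ (φ (c • a)) = c • cw δ (φ a) by
      rw [Algebra.smul_def, map_mul, cw_mul, LocRes.map_algebraMap, cw_C,
        Derivation.map_algebraMap, map_zero, zero_mul, add_zero, HahnSeries.C_mul_eq_smul,
        algebraMap_smul]
    map_one_eq_zero' := show cw δ (φ 1) = 0 by
      rw [map_one, ← HahnSeries.C_one, cw_C, Derivation.map_one_eq_zero, map_zero]
    leibniz' := fun a b => show cw δ (φ (a * b)) = φ a * cw δ (φ b) + φ b * cw δ (φ a) by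
      rw [map_mul, cw_mul]
      ring }

theorem cw_exp_of_kaehler (φ : K →ₐ[k] F⸨X⸩) (δ : Derivation k F F) {x x' c : K}
    (h : KaehlerDifferential.D k K x' = c • KaehlerDifferential.D k K x) :
    cw δ (φ x') = φ c * cw δ (φ x) := by
  let _i := φ.toRingHom.toAlgebra
  have _t : IsScalarTower k K F⸨X⸩ := isScalarTower_exp φ
  have h1 := congrArg (dExp' φ δ).liftKaehlerDifferential h
  rw [map_smul, Derivation.liftKaehlerDifferential_comp_D,
    Derivation.liftKaehlerDifferential_comp_D] at h1
  exact h1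

omit [Algebra k F] in
theorem isPS_D {f : F⸨X⸩} (hf : IsPS f) : IsPS (LocRes.D F f) := by
  intro n hn
  rw [LocRes.D_coeff]
  by_cases h1 : n = -1
  · subst h1; simp
  · rw [hf (n + 1) (by omega), smul_zero]

omit [Algebra k F] in
/-- the derivative of a series of order one has order zero -/
theorem val_D_of_val_eq {f : F⸨X⸩} (hf : Valued.v f = WithZero.exp (-1 : ℤ)) :
    Valued.v (LocRes.D F f) = 1 := by
  have hps : IsPS f := by
    rw [isPS_iff_val, hf]
    exact WithZero.exp_le_exp.mpr (by norm_num) |>.trans_eq WithZero.exp_zero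
  have h1 : f.coeff 1 ≠ 0 := by
    intro h0
    have : Valued.v f ≤ WithZero.exp (-2 : ℤ) := by
      rw [LaurentSeries.valuation_le_iff_coeff_lt_eq_zero]
      intro n hn
      by_cases hn1 : n = 1
      · rw [hn1, h0]
      · exact (LaurentSeries.valuation_le_iff_coeff_lt_eq_zero F (D := 1)).mp hf.le n (by omega)
    rw [hf, WithZero.exp_le_exp] at this
    omega
  apply le_antisymm ((isPS_iff_val _).mp (isPS_D hps))
  by_contra hlt
  rw [not_le] at hlt
  have h2 := (LaurentSeries.valuation_le_iff_coeff_lt_eq_zero F (D := 1)).mp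
    (FF.le_exp_neg_one_of_lt_one hlt) 0 (by norm_num)
  rw [LocRes.D_coeff] at h2
  simp at h2
  exact h1 h2

/-- `dv ≠ 0` implies that the expansion of `v` has nonzero derivative. -/
theorem D_exp_ne_zero (hK : IsFunctionField k K) (hg : IsGeometric k K)
    (w : Valuation K (WithZero (Multiplicative ℤ))) (φ : K →ₐ[k] F⸨X⸩)
    (hφ : IsExpansionAt w φ) {v : K} (hv : KaehlerDifferential.D k K v ≠ 0) :
    LocRes.D F (φ v) ≠ 0 := by
  intro h0
  obtain ⟨t, ht⟩ := hφ.2.2
  obtain ⟨c, hc⟩ := DiffExp.exists_smul_D hK hg hv t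
  have h1 := DiffExp.D_exp_of_kaehler φ hc
  rw [h0, mul_zero] at h1
  have h2 := val_D_of_val_eq (F := F) (f := φ t) (by rw [hφ.1, ht])
  rw [h1, map_zero] at h2
  exact zero_ne_one h2

/-- every `k`-derivation of the coefficient field of an expansion vanishes -/
theorem derivation_eq_zero (hK : IsFunctionField k K) (hg : IsGeometric k K)
    (w : Valuation K (WithZero (Multiplicative ℤ))) (φ : K →ₐ[k] F⸨X⸩)
    (hφ : IsExpansionAt w φ) (δ : Derivation k F F) : δ = 0 := by
  ext a
  rw [Derivation.zero_apply]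
  obtain ⟨t, ht⟩ := hφ.2.2
  obtain ⟨f, hf, hfa⟩ := hφ.2.1 a
  have hvt : Valued.v (φ t) = WithZero.exp (-1 : ℤ) := by rw [hφ.1, ht]
  have hDt := val_D_of_val_eq (F := F) hvt
  have hdt : KaehlerDifferential.D k K t ≠ 0 := by
    apply DiffExp.D_ne_zero_of_vDiff_ne_zero φ
    rw [DiffExp.vDiff_one_eq, hDt]
    exact one_ne_zero
  obtain ⟨c, hc⟩ := DiffExp.exists_smul_D hK hg hdt f
  have h1 := DiffExp.D_exp_of_kaehler φ hc
  have h2 := cw_exp_of_kaehler φ δ hc
  have hc1 : Valued.v (φ c) ≤ 1 := by
    have := congrArg Valued.v h1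
    rw [map_mul, hDt, mul_one] at this
    rw [← this]
    exact (isPS_iff_val _).mp (isPS_D ((isPS_jmap_iff w φ hφ f).mpr hf))
  have h3 : Valued.v (cw δ (φ t)) ≤ WithZero.exp (-1 : ℤ) := by
    rw [LaurentSeries.valuation_le_iff_coeff_lt_eq_zero]
    intro n hn
    rw [coeff_cw, (LaurentSeries.valuation_le_iff_coeff_lt_eq_zero F (D := 1)).mp hvt.le n hn,
      map_zero]
  have h4 : Valued.v (cw δ (φ f)) ≤ WithZero.exp (-1 : ℤ) := by
    rw [h2, map_mul]
    calc Valued.v (φ c) * Valued.v (cw δ (φ t)) ≤ 1 * WithZero.exp (-1 : ℤ) :=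
          mul_le_mul' hc1 h3
      _ = WithZero.exp (-1 : ℤ) := one_mul _
  have h5 := (LaurentSeries.valuation_le_iff_coeff_lt_eq_zero F (D := 1)).mp h4 0 (by norm_num)
  rw [coeff_cw, hfa] at h5
  exact h5

/-- **Separability** of the coefficient field of an expansion of a geometric function field. -/
theorem isSeparable_of_expansion [FiniteDimensional k F] (hK : IsFunctionField k K)
    (hg : IsGeometric k K) (w : Valuation K (WithZero (Multiplicative ℤ))) (φ : K →ₐ[k] F⸨X⸩)
    (hφ : IsExpansionAt w φ) : Algebra.IsSeparable k F := by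
  haveI : Algebra.FormallyUnramified k F := by
    constructor
    constructor
    intro x y
    rw [← sub_eq_zero, ← Module.forall_dual_apply_eq_zero_iff F]
    intro lam
    have h0 := derivation_eq_zero hK hg w φ hφ
      (KaehlerDifferential.linearMapEquivDerivation k F lam)
    have : lam = 0 := by
      rw [← (KaehlerDifferential.linearMapEquivDerivation k F).map_eq_zero_iff]
      exact h0
    rw [this, LinearMap.zero_apply]
  exact Algebra.FormallyUnramified.isSeparable k F

/-- the trace form of the coefficient field is not identically zero -/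
theorem exists_trace_ne_zero [FiniteDimensional k F] (hK : IsFunctionField k K)
    (hg : IsGeometric k K) (w : Valuation K (WithZero (Multiplicative ℤ))) (φ : K →ₐ[k] F⸨X⸩)
    (hφ : IsExpansionAt w φ) : ∃ b : F, Algebra.trace k F b ≠ 0 := by
  haveI := isSeparable_of_expansion hK hg w φ hφ
  obtain ⟨b, hb⟩ := Algebra.trace_surjective k F 1
  exact ⟨b, by rw [hb]; exact one_ne_zero⟩

end Groth.Agent.Helper6.TateSep
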