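import Mathlib
import Groth.Agent.Helper6.TateFR
import Groth.Agent.Helper6.TateSep
import Groth.Agent.Helper6.SepPlaces
import Groth.Agent.Helper5.WrWeier
import Groth.Agent.Helper5.DiffExp

set_option autoImplicit false
set_option linter.style.haveILetI false
set_option linter.unusedSectionVars false

/-!
# Local duality for residues read through an expansion
-/

namespace Groth.Agent.Helper6.LocDual

open FunFld LocRes
open LaurentSeries HahnSeries
open Groth.Agent.Helper5
open Groth.Agent.Helper6.TateExp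

universe u v w

theorem coeff_zero_mul {F : Type*} [Field F] (f g : LaurentSeries F) (hf : Valued.v f ≤ 1)
    (hg : Valued.v g ≤ 1) : (f * g).coeff 0 = f.coeff 0 * g.coeff 0 := by
  obtain ⟨f₀, rfl⟩ := (LaurentSeries.val_le_one_iff_eq_coe F f).1 hf
  obtain ⟨g₀, rfl⟩ := (LaurentSeries.val_le_one_iff_eq_coe F g).1 hg
  rw [← PowerSeries.coe_mul]
  simp only [PowerSeries.coeff_coe]
  simp

section exp

variable {k : Type u} {K : Type v} {F : Type w} [Field k] [Field K] [Field F] [Algebra k K]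
  [Algebra k F]

theorem vDiff_eq (w : Valuation K (WithZero (Multiplicative ℤ))) (φ : K →ₐ[k] F⸨X⸩)
    (hφ : IsExpansionAt w φ) (u x : K) : vDiff φ u x = w u * vDiff φ 1 x := by
  unfold vDiff
  rw [map_one, one_mul, map_mul, hφ.1]

theorem locRes_eq_zero_of_vDiff_le_one (φ : K →ₐ[k] F⸨X⸩) (u x : K) (h : vDiff φ u x ≤ 1) :
    locRes φ u x = 0 := by
  unfold locRes resExp
  have h1 : Valued.v (φ u * D F (φ x)) ≤ WithZero.exp (-(0 : ℤ)) := by
    rw [neg_zero, WithZero.exp_zero]; exact h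
  have : res F (φ u * D F (φ x)) = 0 := by
    rw [res_apply]
    exact (LaurentSeries.valuation_le_iff_coeff_lt_eq_zero F (D := 0)).mp h1 (-1) (by norm_num)
  rw [this, map_zero]

theorem locRes_add_left (φ : K →ₐ[k] F⸨X⸩) (u u' x : K) :
    locRes φ (u + u') x = locRes φ u x + locRes φ u' x := by
  unfold locRes resExp
  rw [map_add, add_mul, map_add, map_add]

theorem coeff_zero_eq_zero_of_lt (w : Valuation K (WithZero (Multiplicative ℤ)))
    (φ : K →ₐ[k] F⸨X⸩) (hφ : IsExpansionAt w φ) {x : K} (hx : w x < 1) :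
    (φ x).coeff 0 = 0 := by
  have h2 : Valued.v (φ x) ≤ WithZero.exp (-(1 : ℤ)) := by
    rw [hφ.1]; exact (FF.lt_one_iff_le_exp_neg_one' _).mp hx
  exact (LaurentSeries.valuation_le_iff_coeff_lt_eq_zero F (D := 1)).mp h2 0 (by norm_num)

theorem lt_one_of_coeff_zero (w : Valuation K (WithZero (Multiplicative ℤ)))
    (φ : K →ₐ[k] F⸨X⸩) (hφ : IsExpansionAt w φ) {x : K} (hx : w x ≤ 1)
    (h0 : (φ x).coeff 0 = 0) : w x < 1 := by
  have h1 : Valued.v (φ x) ≤ WithZero.exp (-(0 : ℤ)) := by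
    rw [neg_zero, WithZero.exp_zero, hφ.1]; exact hx
  have h2 := (LaurentSeries.valuation_le_iff_coeff_lt_eq_zero F (D := 0)).mp h1
  have h3 : Valued.v (φ x) ≤ WithZero.exp (-(1 : ℤ)) := by
    rw [LaurentSeries.valuation_le_iff_coeff_lt_eq_zero]
    intro n hn
    rcases lt_or_eq_of_le (show n ≤ 0 by omega) with h | h
    · exact h2 n h
    · rw [h]; exact h0
  rw [hφ.1] at h3
  exact (FF.lt_one_iff_le_exp_neg_one' _).mpr h3

/-- the residue pairing detects simple poles -/
theorem exists_locRes_ne_zero [FiniteDimensional k F] [Algebra.IsSeparable k F]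
    (w : Valuation K (WithZero (Multiplicative ℤ))) (φ : K →ₐ[k] F⸨X⸩)
    (hφ : IsExpansionAt w φ) (u x : K) (h : vDiff φ u x = WithZero.exp (1 : ℤ)) :
    ∃ c : K, w c ≤ 1 ∧ locRes φ (u * c) x ≠ 0 := by
  obtain ⟨hh, hh_def⟩ : ∃ hh : F⸨X⸩, hh = φ u * D F (φ x) := ⟨_, rfl⟩
  have hv : Valued.v hh = WithZero.exp (1 : ℤ) := by rw [hh_def]; exact h
  have hθ : hh.coeff (-1) ≠ 0 := by
    intro h0
    have h1 : ∀ n : ℤ, n < -1 → hh.coeff n = 0 :=
      (LaurentSeries.valuation_le_iff_coeff_lt_eq_zero F (D := -1)).mp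
        (by rw [neg_neg]; exact hv.le)
    have h2 : Valued.v hh ≤ WithZero.exp (-(0 : ℤ)) := by
      rw [LaurentSeries.valuation_le_iff_coeff_lt_eq_zero]
      intro n hn
      rcases lt_or_eq_of_le (show n ≤ -1 by omega) with h | h
      · exact h1 n h
      · rw [h]; exact h0
    rw [hv, neg_zero, WithZero.exp_le_exp] at h2
    omega
  obtain ⟨a₀, ha₀⟩ := Algebra.trace_surjective k F 1
  obtain ⟨c, hc1, hc2⟩ := hφ.2.1 (a₀ / hh.coeff (-1))
  refine ⟨c, hc1, ?_⟩
  have key : resExp φ (u * c) x = (φ c).coeff 0 * hh.coeff (-1) := by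
    unfold resExp
    rw [res_apply, map_mul]
    have e1 : φ u * φ c * D F (φ x) = φ c * hh := by rw [hh_def]; ring
    rw [e1]
    have e2 : (φ c * hh).coeff (-1) = (single (1 : ℤ) (1 : F) * (φ c * hh)).coeff 0 := by
      rw [HahnSeries.coeff_single_mul, one_mul]; norm_num
    have hv2 : Valued.v (single (1 : ℤ) (1 : F) * hh) ≤ 1 := by
      rw [TateLoc.val_xp_mul, hv, ← WithZero.exp_add]
      norm_num
    rw [e2, mul_left_comm, coeff_zero_mul _ _ (by rw [hφ.1]; exact hc1) hv2,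
      HahnSeries.coeff_single_mul, one_mul]
    norm_num
  unfold locRes
  rw [key, hc2, div_mul_cancel₀ _ hθ, ha₀]
  exact one_ne_zero

end exp

section fin

variable {k : Type*} {K : Type*} [Field k] [Field K] [Algebra k K]
  {F : Type*} [Field F] [Algebra k F]

theorem finiteDimensional_of_expansion' (hK : FG.IsFF k K) (P : Place k K)
    (φ : K →ₐ[k] LaurentSeries F) (hφ : IsExpansionAt P.1 φ) : FiniteDimensional k F := by
  haveI := FG.finiteDimensional_residueField hK P
  let lam : P.O →ₗ[k] F := (TateLoc.cf 0) ∘ₗ (TateExp.jmap φ) ∘ₗ (FF.valLin P)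
  have hlam : ∀ x : P.O, lam x = (φ (x : K)).coeff 0 := fun x => rfl
  have hker : ∀ x : P.O, FF.resLin P x = 0 → lam x = 0 := by
    intro x hx
    have h1 : P.1 (x : K) < 1 := (FF.residue_eq_zero_iff P x).mp hx
    rw [hlam]
    exact coeff_zero_eq_zero_of_lt P.1 φ hφ h1
  obtain ⟨s, hs⟩ := LinearMap.exists_rightInverse_of_surjective (FF.resLin P)
    (LinearMap.range_eq_top.mpr IsLocalRing.residue_surjective)
  apply Module.Finite.of_surjective (lam ∘ₗ s)
  intro a
  obtain ⟨f, hf, hfa⟩ := hφ.2.1 a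
  refine ⟨FF.resLin P ⟨f, hf⟩, ?_⟩
  have h3 : FF.resLin P (s (FF.resLin P ⟨f, hf⟩) - ⟨f, hf⟩) = 0 := by
    rw [map_sub, ← LinearMap.comp_apply, hs, LinearMap.id_apply, sub_self]
  have h4 := hker _ h3
  rw [map_sub, sub_eq_zero] at h4
  rw [LinearMap.comp_apply, h4, hlam]
  exact hfa

end fin

section rho

variable {k : Type u} {K : Type v} {F : Type w} [Field k] [Field K] [Field F] [Algebra k K]
  [Algebra k F]

/-- the valuation ring as a `k`-subalgebra -/
def OAlg (w : Valuation K (WithZero (Multiplicative ℤ)))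
    (hw : ∀ c : k, w (algebraMap k K c) ≤ 1) : Subalgebra k K where
  carrier := {x | w x ≤ 1}
  mul_mem' ha hb := by
    rw [Set.mem_setOf_eq, map_mul]; exact mul_le_one' ha hb
  one_mem' := by rw [Set.mem_setOf_eq, map_one]
  add_mem' ha hb := (w.map_add _ _).trans (max_le ha hb)
  zero_mem' := by rw [Set.mem_setOf_eq, map_zero]; exact zero_le
  algebraMap_mem' c := hw c

/-- constant coefficient of the expansion, as an algebra hom on the valuation ring -/
noncomputable def rho (w : Valuation K (WithZero (Multiplicative ℤ)))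
    (hw : ∀ c : k, w (algebraMap k K c) ≤ 1) (φ : K →ₐ[k] F⸨X⸩) (hφ : IsExpansionAt w φ) :
    OAlg w hw →ₐ[k] F where
  toFun x := (φ (x : K)).coeff 0
  map_one' := by
    show (φ (1 : K)).coeff 0 = 1
    rw [map_one]; simp
  map_mul' x y := by
    show (φ ((x : K) * (y : K))).coeff 0 = _
    rw [map_mul, coeff_zero_mul _ _ (by rw [hφ.1]; exact x.2) (by rw [hφ.1]; exact y.2)]
  map_zero' := by
    show (φ (0 : K)).coeff 0 = 0
    rw [map_zero]; rfl
  map_add' x y := by
    show (φ ((x : K) + (y : K))).coeff 0 = _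
    rw [map_add]; rfl
  commutes' c := by
    show (φ (algebraMap k K c)).coeff 0 = _
    rw [LocRes.map_algebraMap]
    simp

theorem rho_apply (w : Valuation K (WithZero (Multiplicative ℤ)))
    (hw : ∀ c : k, w (algebraMap k K c) ≤ 1) (φ : K →ₐ[k] F⸨X⸩) (hφ : IsExpansionAt w φ)
    (x : OAlg w hw) : rho w hw φ hφ x = (φ (x : K)).coeff 0 := rfl

theorem coeff_zero_aeval (w : Valuation K (WithZero (Multiplicative ℤ)))
    (hw : ∀ c : k, w (algebraMap k K c) ≤ 1) (φ : K →ₐ[k] F⸨X⸩) (hφ : IsExpansionAt w φ)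
    {x : K} (hx : w x ≤ 1) (g : Polynomial k) :
    w (Polynomial.aeval x g) ≤ 1 ∧
      (φ (Polynomial.aeval x g)).coeff 0 = Polynomial.aeval ((φ x).coeff 0) g := by
  have h1 : ((Polynomial.aeval (⟨x, hx⟩ : OAlg w hw) g : OAlg w hw) : K) =
      Polynomial.aeval x g := by
    have := Polynomial.aeval_algHom_apply (OAlg w hw).val (⟨x, hx⟩ : OAlg w hw) g
    exact this.symm
  have h2 := Polynomial.aeval_algHom_apply (rho w hw φ hφ) (⟨x, hx⟩ : OAlg w hw) g
  rw [rho_apply, rho_apply, h1] at h2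
  refine ⟨?_, h2.symm⟩
  rw [← h1]
  exact (Polynomial.aeval (⟨x, hx⟩ : OAlg w hw) g).2

end rho

section sep

variable {k : Type u} {K K' : Type v} [Field k] [Field K] [Field K'] [Algebra k K]
  [Algebra K K'] [Algebra k K'] [IsScalarTower k K K']
  {F F' : Type w} [Field F] [Algebra k F] [Field F'] [Algebra k F']

/-- separability of the coefficient field transfers along a residually trivial extension -/
theorem isSeparable_of_residue_surjective {P : Place k K} {Q : Place k K'} {e : ℕ}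
    (he : IsOverWith Q P e)
    (φ : K →ₐ[k] LaurentSeries F) (hφ : IsExpansionAt P.1 φ)
    (ψ : K' →ₐ[k] LaurentSeries F') (hψ : IsExpansionAt Q.1 ψ)
    [Algebra.IsSeparable k F]
    (hsurj : ∀ z : K', Q.1 z ≤ 1 → ∃ z₀ : K, P.1 z₀ ≤ 1 ∧ Q.1 (z - algebraMap K K' z₀) < 1) :
    Algebra.IsSeparable k F' := by
  refine ⟨fun a' => ?_⟩
  obtain ⟨z, hz1, hz2⟩ := hψ.2.1 a'
  obtain ⟨z₀, hz₀, hlt⟩ := hsurj z hz1
  have ha' : (ψ (algebraMap K K' z₀)).coeff 0 = a' := by
    have h0 := coeff_zero_eq_zero_of_lt Q.1 ψ hψ hlt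
    rw [map_sub, HahnSeries.coeff_sub, sub_eq_zero] at h0
    rw [← h0]; exact hz2
  obtain ⟨a, ha⟩ : ∃ a : F, a = (φ z₀).coeff 0 := ⟨_, rfl⟩
  have hsep : (minpoly k a).Separable := Algebra.IsSeparable.isSeparable k a
  have h1 := coeff_zero_aeval P.1 P.2.1 φ hφ hz₀ (minpoly k a)
  rw [← ha, minpoly.aeval] at h1
  have h2 : P.1 (Polynomial.aeval z₀ (minpoly k a)) < 1 :=
    lt_one_of_coeff_zero P.1 φ hφ h1.1 h1.2
  have h3 : Q.1 (Polynomial.aeval (algebraMap K K' z₀) (minpoly k a)) < 1 := by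
    rw [Polynomial.aeval_algebraMap_apply]
    exact (SepPlaces.lt_one_of_over he _).mpr h2
  have hz₀' : Q.1 (algebraMap K K' z₀) ≤ 1 := (SepPlaces.le_one_of_over he _).mpr hz₀
  have h4 := coeff_zero_aeval Q.1 Q.2.1 ψ hψ hz₀' (minpoly k a)
  rw [coeff_zero_eq_zero_of_lt Q.1 ψ hψ h3, ha'] at h4
  exact hsep.of_dvd (minpoly.dvd k a' h4.2.symm)

end sep

end Groth.Agent.Helper6.LocDual
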