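import Groth.Agent.Helper6.TateW
import Groth.Agent.Helper5.FFWeil2

set_option autoImplicit false
set_option linter.style.haveILetI false

/-!
# Every Weil differential is a residue form; differentials with bounded divisor
-/

namespace Groth.Agent.Helper6.TateW2

open FunFld LocRes LaurentSeries HahnSeries
open Groth.Agent.Helper5 Groth.Agent.Helper6.TateLoc Groth.Agent.Helper6.TateExp
  Groth.Agent.Helper6.TateSep Groth.Agent.Helper6.TateAdele Groth.Agent.Helper6.TateW

universe u v w

variable {k : Type u} {K : Type v} [Field k] [Field K] [Algebra k K]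
  {F : Place k K → Type w} [∀ P, Field (F P)] [∀ P, Algebra k (F P)]

theorem omega_add (hK : IsFunctionField k K)
    (φ : ∀ P, K →ₐ[k] LaurentSeries (F P)) (hφ : ∀ P : Place k K, IsExpansionAt P.1 (φ P))
    (u u' v : K) : omega hK φ hφ (u + u') v = omega hK φ hφ u v + omega hK φ hφ u' v := by
  ext a
  rw [LinearMap.add_apply, omega_apply, omega_apply, omega_apply,
    ← finsum_add_distrib (finite_support_locRes hK φ hφ u v a)
      (finite_support_locRes hK φ hφ u' v a)]
  congr 1
  funext P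
  rw [← resL_apply, ← resL_apply, ← resL_apply, ← map_add, mul_add]

theorem omega_smul (hK : IsFunctionField k K)
    (φ : ∀ P, K →ₐ[k] LaurentSeries (F P)) (hφ : ∀ P : Place k K, IsExpansionAt P.1 (φ P))
    (c : k) (u v : K) : omega hK φ hφ (c • u) v = c • omega hK φ hφ u v := by
  ext a
  rw [LinearMap.smul_apply, omega_apply, omega_apply,
    smul_finsum' c (finite_support_locRes hK φ hφ u v a)]
  congr 1
  funext P
  rw [← resL_apply, ← resL_apply, ← map_smul, mul_smul_comm]

/-- `u ↦ omega u v` as a linear map -/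
noncomputable def omegaL (hK : IsFunctionField k K)
    (φ : ∀ P, K →ₐ[k] LaurentSeries (F P)) (hφ : ∀ P : Place k K, IsExpansionAt P.1 (φ P))
    (v : K) : K →ₗ[k] Module.Dual k (adele k K) where
  toFun u := omega hK φ hφ u v
  map_add' u u' := omega_add hK φ hφ u u' v
  map_smul' c u := omega_smul hK φ hφ c u v

theorem omegaL_apply (hK : IsFunctionField k K)
    (φ : ∀ P, K →ₐ[k] LaurentSeries (F P)) (hφ : ∀ P : Place k K, IsExpansionAt P.1 (φ P))
    (v u : K) : omegaL hK φ hφ v u = omega hK φ hφ u v := rfl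

theorem mulW_omega (hK : IsFunctionField k K)
    (φ : ∀ P, K →ₐ[k] LaurentSeries (F P)) (hφ : ∀ P : Place k K, IsExpansionAt P.1 (φ P))
    (x u v : K) :
    mulW x (FF.smul_mem_adele hK x) (omega hK φ hφ u v) = omega hK φ hφ (x * u) v := by
  ext a
  rw [FF.mulW_apply, omega_apply, omega_apply]
  congr 1
  funext P
  simp only [Pi.smul_apply, smul_eq_mul]
  congr 1
  ring

variable [∀ P, FiniteDimensional k (F P)]

theorem omegaL_injective (hK : IsFunctionField k K) (hg : IsGeometric k K)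
    (φ : ∀ P, K →ₐ[k] LaurentSeries (F P)) (hφ : ∀ P : Place k K, IsExpansionAt P.1 (φ P))
    {v : K} (hv : KaehlerDifferential.D k K v ≠ 0) :
    Function.Injective (omegaL hK φ hφ v) := by
  rw [injective_iff_map_eq_zero]
  intro u hu
  by_contra h0
  exact omega_ne_zero hK hg φ hφ h0 hv hu

/-- every Weil differential is the residue form of a unique `u dv` -/
theorem exists_omega_eq (hK : IsFunctionField k K) (hg : IsGeometric k K)
    (φ : ∀ P, K →ₐ[k] LaurentSeries (F P)) (hφ : ∀ P : Place k K, IsExpansionAt P.1 (φ P))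
    {v : K} (hv : KaehlerDifferential.D k K v ≠ 0) (ω : Module.Dual k (adele k K))
    (hω : IsWeil ω) : ∃ u : K, ω = omega hK φ hφ u v := by
  obtain ⟨x, hx⟩ := FF.exists_mulW_eq hK (FF.smul_mem_adele hK) (omega hK φ hφ 1 v) ω
    (isWeil_omega hK hg φ hφ one_ne_zero hv) (omega_ne_zero hK hg φ hφ one_ne_zero hv) hω
  refine ⟨x, ?_⟩
  rw [← hx, mulW_omega, mul_one]

/-- the divisor of `u dv` is canonical -/
theorem isCanonical_ordDiff (hK : IsFunctionField k K) (hg : IsGeometric k K)
    (φ : ∀ P, K →ₐ[k] LaurentSeries (F P)) (hφ : ∀ P : Place k K, IsExpansionAt P.1 (φ P))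
    {u v : K} (hu : u ≠ 0) (hv : KaehlerDifferential.D k K v ≠ 0) (W : Divisor k K)
    (hW : ∀ P, W P = ordDiff (φ P) u v) : IsCanonical k K W := by
  obtain ⟨W', hW', hWP⟩ := divisor_omega hK hg φ hφ hu hv
  have : W = W' := Finsupp.ext (fun P => by rw [hW P, hWP P])
  rw [this]
  exact ⟨_, omega_ne_zero hK hg φ hφ hu hv, hW'⟩

/-- differentials `y dv` with divisor at least `D` -/
def OmD (φ : ∀ P, K →ₐ[k] LaurentSeries (F P)) (v : K) (D : Divisor k K) : Submodule k K where
  carrier := {y | ∀ P, vDiff (φ P) y v ≤ WithZero.exp (-(D P))}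
  add_mem' {y y'} hy hy' P := by
    unfold vDiff at *
    rw [map_add, add_mul]
    exact (Valuation.map_add _ _ _).trans (max_le (hy P) (hy' P))
  zero_mem' P := by
    unfold vDiff
    rw [map_zero, zero_mul, map_zero]
    exact zero_le
  smul_mem' c y hy P := by
    have h1 : Valued.v (φ P (algebraMap k K c)) ≤ 1 := by
      rw [LocRes.map_algebraMap, ← isPS_iff_val]
      exact isPS_C _
    unfold vDiff at *
    rw [Algebra.smul_def, map_mul (φ P), mul_assoc, map_mul]
    calc Valued.v (φ P (algebraMap k K c)) * Valued.v (φ P y * LocRes.D (F P) (φ P v))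
        ≤ 1 * WithZero.exp (-(D P)) := mul_le_mul' h1 (hy P)
      _ = WithZero.exp (-(D P)) := one_mul _

omit [∀ P, FiniteDimensional k (F P)] in
theorem mem_OmD (φ : ∀ P, K →ₐ[k] LaurentSeries (F P)) (v : K) (D : Divisor k K) (y : K) :
    y ∈ OmD φ v D ↔ ∀ P, vDiff (φ P) y v ≤ WithZero.exp (-(D P)) := Iff.rfl

theorem mem_OmD_iff (hK : IsFunctionField k K) (hg : IsGeometric k K)
    (φ : ∀ P, K →ₐ[k] LaurentSeries (F P)) (hφ : ∀ P : Place k K, IsExpansionAt P.1 (φ P))
    {v : K} (hv : KaehlerDifferential.D k K v ≠ 0) (D : Divisor k K) {y : K} (hy : y ≠ 0) :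
    y ∈ OmD φ v D ↔ ∀ P, D P ≤ ordDiff (φ P) y v := by
  rw [mem_OmD]
  apply forall_congr'
  intro P
  have h := vDiff_eq_exp (φ P) y v (vDiff_ne_zero hK hg P.1 (φ P) (hφ P) hy hv)
  unfold vDiff
  rw [h, WithZero.exp_le_exp]
  omega

/-- the linear equivalence between differentials with divisor `≥ D` and `WD D` -/
theorem exists_equiv_WD (hK : IsFunctionField k K) (hg : IsGeometric k K)
    (φ : ∀ P, K →ₐ[k] LaurentSeries (F P)) (hφ : ∀ P : Place k K, IsExpansionAt P.1 (φ P))
    {v : K} (hv : KaehlerDifferential.D k K v ≠ 0) (D : Divisor k K) :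
    Nonempty (OmD φ v D ≃ₗ[k] WD D) := by
  have hmem : ∀ y : OmD φ v D, omegaL hK φ hφ v y.1 ∈ WD D := by
    intro y
    by_cases h0 : y.1 = 0
    · rw [h0, map_zero]; exact Submodule.zero_mem _
    · exact omega_mem_WD hK hg φ hφ h0 hv D ((mem_OmD_iff hK hg φ hφ hv D h0).mp y.2)
  let f : OmD φ v D →ₗ[k] WD D :=
    ((omegaL hK φ hφ v) ∘ₗ (OmD φ v D).subtype).codRestrict (WD D) hmem
  refine ⟨LinearEquiv.ofBijective f ⟨?_, ?_⟩⟩
  · intro y y' h
    have := congrArg Subtype.val h
    exact Subtype.ext (omegaL_injective hK hg φ hφ hv this)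
  · intro ω
    obtain ⟨u, hu⟩ := exists_omega_eq hK hg φ hφ hv ω.1 ⟨D, ω.2⟩
    have hmu : u ∈ OmD φ v D := by
      by_cases h0 : u = 0
      · rw [h0]; exact Submodule.zero_mem _
      · rw [mem_OmD_iff hK hg φ hφ hv D h0]
        apply le_ordDiff_of_omega_mem_WD hK hg φ hφ h0 hv D
        rw [← hu]
        exact ω.2
    exact ⟨⟨u, hmu⟩, Subtype.ext hu.symm⟩

end Groth.Agent.Helper6.TateW2
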