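import Groth.Agent.Helper6.GeoSep
import Groth.Agent.Helper6.TateW2
import Groth.Agent.Helper6.FFZeta11
import Groth.Agent.Helper5.FGConorm
import Groth.Agent.Helper5.DiffExp
import Groth.Agent.Helper5.FFRR
import Groth.Agent.Helper5.FFUnif

set_option autoImplicit false
set_option linter.style.haveILetI false
set_option linter.unusedSectionVars false

namespace Groth.Agent.Helper6.RHurwitz

open FunFld LocRes
open Groth.Agent.Helper5

universe u v w

theorem D_ne_zero_of_vDiff {k : Type*} {K : Type*} [Field k] [Field K] [Algebra k K]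
    {F : Type*} [Field F] [Algebra k F] (Ψ : K →ₐ[k] LaurentSeries F) {x : K}
    (h : vDiff Ψ 1 x ≠ 0) : KaehlerDifferential.D k K x ≠ 0 := by
  intro h0
  have h1 := DiffExp.D_exp_of_kaehler Ψ (x := 0) (x' := x) (c := 0) (by rw [h0, zero_smul])
  rw [map_zero, zero_mul] at h1
  apply h
  unfold vDiff
  rw [h1, mul_zero, map_zero]

theorem finiteDimensional_of_expansion {k : Type*} {K : Type*} [Field k] [Field K] [Algebra k K]
    {F : Type*} [Field F] [Algebra k F] (hK : IsFunctionField k K) (P : Place k K)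
    (φ : K →ₐ[k] LaurentSeries F) (hφ : IsExpansionAt P.1 φ) : FiniteDimensional k F := by
  haveI := FF.finiteDimensional_residueField hK P
  let lam : P.O →ₗ[k] F := (TateLoc.cf 0) ∘ₗ (TateExp.jmap φ) ∘ₗ (FF.valLin P)
  have hlam : ∀ x : P.O, lam x = (φ (x : K)).coeff 0 := fun x => rfl
  have hker : ∀ x : P.O, FF.resLin P x = 0 → lam x = 0 := by
    intro x hx
    have h1 : P.1 (x : K) < 1 := (FF.residue_eq_zero_iff P x).mp hx
    have h2 : Valued.v (φ (x : K)) ≤ WithZero.exp (-1 : ℤ) := by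
      rw [hφ.1]; exact (FF.lt_one_iff_le_exp_neg_one' _).mp h1
    rw [hlam]
    exact (LaurentSeries.valuation_le_iff_coeff_lt_eq_zero F (D := 1)).mp h2 0 (by norm_num)
  obtain ⟨s, hs⟩ := LinearMap.exists_rightInverse_of_surjective (FF.resLin P)
    (LinearMap.range_eq_top.mpr IsLocalRing.residue_surjective)
  apply Module.Finite.of_surjective (lam ∘ₗ s)
  intro a
  obtain ⟨f, hf, hfa⟩ := hφ.2.1 a
  refine ⟨FF.resLin P ⟨f, hf⟩, ?_⟩
  have h3 : FF.resLin P (s (FF.resLin P ⟨f, hf⟩) - ⟨f, hf⟩) = 0 := by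
    rw [map_sub, ← LinearMap.comp_apply, hs, LinearMap.id_apply, sub_self]
  have h4 := hker _ h3
  rw [map_sub, sub_eq_zero] at h4
  rw [LinearMap.comp_apply, h4, hlam]
  exact hfa

theorem finsum_deg {k : Type*} {K : Type*} [Field k] [Field K] [Algebra k K] (D : Divisor k K) :
    ∑ᶠ P, D P * (P.deg : ℤ) = D.deg := by
  unfold Divisor.deg Finsupp.sum
  apply finsum_eq_sum_of_support_subset
  intro P hP
  rw [Function.mem_support] at hP
  rw [Finset.mem_coe, Finsupp.mem_support_iff]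
  intro h0
  apply hP
  rw [h0, zero_mul]

theorem s12576 (k k' : Type u) (K K' : Type v) [Field k] [Field k'] [Field K] [Field K']
    [Algebra k k'] [Algebra k K] [Algebra K K'] [Algebra k' K'] [Algebra k K']
    [IsScalarTower k k' K'] [IsScalarTower k K K'] [FiniteDimensional k k'] [FiniteDimensional K K']
    [Algebra.IsSeparable K K']
    (hK : FunFld.IsFunctionField k K) (hg : FunFld.IsGeometric k K) (hK' : FunFld.IsFunctionField k' K')
    (F : FunFld.Place k K → Type w) [∀ P, Field (F P)] [∀ P, Algebra k (F P)]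
    (φ : ∀ P, K →ₐ[k] LaurentSeries (F P)) (hφ : ∀ P, LocRes.IsExpansionAt P.1 (φ P))
    (F' : FunFld.Place k' K' → Type w) [∀ Q, Field (F' Q)] [∀ Q, Algebra k' (F' Q)]
    (ψ : ∀ Q, K' →ₐ[k'] LaurentSeries (F' Q)) (hψ : ∀ Q, LocRes.IsExpansionAt Q.1 (ψ Q))
    (below : FunFld.Place k' K' → FunFld.Place k K) (e : FunFld.Place k' K' → ℕ)
    (he : ∀ Q (z : K), Q.1 (algebraMap K K' z) = (below Q).1 z ^ e Q)
    (x : K) (hx : ∀ P, LocRes.vDiff (φ P) 1 x ≠ 0)
    (hx' : ∀ Q, LocRes.vDiff (ψ Q) 1 (algebraMap K K' x) ≠ 0) :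
    (Function.support fun Q => LocRes.diffExp (φ (below Q)) (ψ Q) (e Q) x).Finite ∧
    (Module.finrank k k' : ℤ) * (2 * (FunFld.genus k' K' : ℤ) - 2) =
      (Module.finrank K K' : ℤ) * (2 * (FunFld.genus k K : ℤ) - 2) +
      (Module.finrank k k' : ℤ) *
        ∑ᶠ Q, LocRes.diffExp (φ (below Q)) (ψ Q) (e Q) x * (Q.deg : ℤ) := by
  classical
  have hg' : IsGeometric k' K' := GeoSep.s11010 k k' K K' hK hg hK'
  obtain ⟨P₀⟩ := FF.nonempty_place hK
  obtain ⟨Q₀⟩ := FF.nonempty_place hK'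
  have hDx : KaehlerDifferential.D k K x ≠ 0 := D_ne_zero_of_vDiff (φ P₀) (hx P₀)
  have hDx' : KaehlerDifferential.D k' K' (algebraMap K K' x) ≠ 0 :=
    D_ne_zero_of_vDiff (ψ Q₀) (hx' Q₀)
  haveI : ∀ P, FiniteDimensional k (F P) := fun P => finiteDimensional_of_expansion hK P (φ P) (hφ P)
  haveI : ∀ Q, FiniteDimensional k' (F' Q) :=
    fun Q => finiteDimensional_of_expansion hK' Q (ψ Q) (hψ Q)
  obtain ⟨W, -, hW⟩ := TateW.divisor_omega hK hg φ hφ one_ne_zero hDx
  obtain ⟨W', -, hW'⟩ := TateW.divisor_omega hK' hg' ψ hψ one_ne_zero hDx'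
  have hdegW : W.deg = 2 * (genus k K : ℤ) - 2 :=
    (FF.ell_canonical hK (TateW2.isCanonical_ordDiff hK hg φ hφ one_ne_zero hDx W hW)).2
  have hdegW' : W'.deg = 2 * (genus k' K' : ℤ) - 2 :=
    (FF.ell_canonical hK' (TateW2.isCanonical_ordDiff hK' hg' ψ hψ one_ne_zero hDx' W' hW')).2
  obtain ⟨tE, htE⟩ : ∃ tE : Place k K' ≃ Place k' K', ∀ Q, tE Q = FFZeta.toK' Q :=
    ⟨Equiv.ofBijective _ ⟨FFZeta.toK'_injective, FFZeta.toK'_surjective⟩, fun _ => rfl⟩
  obtain ⟨C, hCdef⟩ : ∃ C : Divisor k K', C = FunFld.conorm K' W := ⟨_, rfl⟩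
  have hC : ∀ Q' : Place k K', C Q' = (e (tE Q') : ℤ) * W (below (tE Q')) := by
    intro Q'
    rw [hCdef]
    refine FG.conorm_apply hK W (Q := Q') (P := below (tE Q')) (e := e (tE Q')) ?_
    intro z
    rw [htE]
    exact he (FFZeta.toK' Q') z
  have hCdeg : C.deg = (Module.finrank K K' : ℤ) * W.deg := by
    rw [hCdef]; exact FG.conorm_deg hK W
  have hf : ∀ Q, LocRes.diffExp (φ (below Q)) (ψ Q) (e Q) x =
      W' Q - C (tE.symm Q) := by
    intro Q
    unfold LocRes.diffExp
    rw [← hW' Q, ← hW (below Q), hC, Equiv.apply_symm_apply]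
  have hfin1 : (Function.support fun Q : Place k' K' => W' Q * (Q.deg : ℤ)).Finite := by
    apply W'.support.finite_toSet.subset
    intro Q hQ
    rw [Function.mem_support] at hQ
    rw [Finset.mem_coe, Finsupp.mem_support_iff]
    intro h0
    apply hQ
    rw [h0, zero_mul]
  have hsub2 : ∀ (u : Place k' K' → ℤ),
      (Function.support fun Q : Place k' K' => C (tE.symm Q) * u Q) ⊆
        tE '' (C.support : Set (Place k K')) := by
    intro u Q hQ
    rw [Function.mem_support] at hQ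
    refine ⟨tE.symm Q, ?_, Equiv.apply_symm_apply _ _⟩
    rw [Finset.mem_coe, Finsupp.mem_support_iff]
    intro h0
    apply hQ
    rw [h0, zero_mul]
  have hfinC : (tE '' (C.support : Set (Place k K'))).Finite := C.support.finite_toSet.image _
  have hfin2 : (Function.support fun Q : Place k' K' => C (tE.symm Q) * (Q.deg : ℤ)).Finite :=
    hfinC.subset (hsub2 _)
  constructor
  · apply (W'.support.finite_toSet.union hfinC).subset
    intro Q hQ
    rw [Function.mem_support, hf] at hQ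
    by_contra hcon
    rw [Set.mem_union, not_or] at hcon
    apply hQ
    have h1 : W' Q = 0 := by
      by_contra h
      exact hcon.1 (by rw [Finset.mem_coe, Finsupp.mem_support_iff]; exact h)
    have h2 : C (tE.symm Q) = 0 := by
      by_contra h
      apply hcon.2
      refine ⟨tE.symm Q, ?_, Equiv.apply_symm_apply _ _⟩
      rw [Finset.mem_coe, Finsupp.mem_support_iff]; exact h
    rw [h1, h2, sub_zero]
  · have hS : ∑ᶠ Q, LocRes.diffExp (φ (below Q)) (ψ Q) (e Q) x * (Q.deg : ℤ) =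
        W'.deg - ∑ᶠ Q : Place k' K', C (tE.symm Q) * (Q.deg : ℤ) := by
      rw [← finsum_deg W', ← finsum_sub_distrib hfin1 hfin2]
      apply finsum_congr
      intro Q
      rw [hf, sub_mul]
    have hS2 : (Module.finrank k k' : ℤ) * ∑ᶠ Q : Place k' K', C (tE.symm Q) * (Q.deg : ℤ) =
        C.deg := by
      rw [mul_finsum, ← finsum_deg C, ← finsum_comp_equiv tE]
      apply finsum_congr
      intro Q'
      rw [Equiv.symm_apply_apply, htE]
      have := FFZeta.deg_toK' (k := k) (k' := k') (K' := K') Q'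
      rw [← this]
      push_cast
      ring
    have key : (Module.finrank k k' : ℤ) *
        ∑ᶠ Q, LocRes.diffExp (φ (below Q)) (ψ Q) (e Q) x * (Q.deg : ℤ) =
        (Module.finrank k k' : ℤ) * W'.deg - C.deg := by
      rw [hS, mul_sub, hS2]
    rw [key, hCdeg, hdegW, hdegW']
    ring

end Groth.Agent.Helper6.RHurwitz
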