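import Mathlib
import Groth.Agent.Helper6.LocDual
import Groth.Agent.Helper6.RHurwitz

set_option autoImplicit false
set_option linter.style.haveILetI false
set_option linter.unusedSectionVars false

/-!
# The trace dual of the integral closure has valuation `exp (diffExp)` at a residually trivial place
-/

namespace Groth.Agent.Helper6.TrDual

open FunFld LocRes
open Groth.Agent.Helper5
open Groth.Agent.Helper6.LocDual

universe u v w

theorem exists_nat_le (a : WithZero (Multiplicative ℤ)) : ∃ n : ℕ, a ≤ WithZero.exp (n : ℤ) := by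
  by_cases ha : a = 0
  · exact ⟨0, by rw [ha]; exact zero_le⟩
  · refine ⟨(WithZero.log a).toNat, ?_⟩
    rw [← WithZero.exp_log ha, WithZero.exp_le_exp, WithZero.log_exp]
    exact Int.self_le_toNat _

theorem exists_nat_bound {α : Type*} [DecidableEq α] (s : Finset α)
    (f : α → WithZero (Multiplicative ℤ)) :
    ∃ N : ℕ, ∀ i ∈ s, f i ≤ WithZero.exp (N : ℤ) := by
  induction s using Finset.induction_on with
  | empty => exact ⟨0, fun i hi => absurd hi (Finset.notMem_empty i)⟩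
  | insert a s _ ih =>
    obtain ⟨N₀, hN₀⟩ := ih
    obtain ⟨n₁, hn₁⟩ := exists_nat_le (f a)
    refine ⟨N₀ + n₁, fun i hi => ?_⟩
    rcases Finset.mem_insert.1 hi with rfl | hi
    · exact hn₁.trans (WithZero.exp_le_exp.mpr (by push_cast; omega))
    · exact (hN₀ i hi).trans (WithZero.exp_le_exp.mpr (by push_cast; omega))

theorem s12574 (k : Type u) (K K' : Type v) [Field k] [Field K] [Field K'] [Algebra k K]
    [Algebra K K'] [Algebra k K'] [IsScalarTower k K K'] [FiniteDimensional K K']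
    [Algebra.IsSeparable K K']
    (hK : FunFld.IsFunctionField k K) (hg : FunFld.IsGeometric k K)
    (F F' : Type w) [Field F] [Algebra k F] [Field F'] [Algebra k F']
    (P : FunFld.Place k K) (Q : FunFld.Place k K') (e : ℕ) (he : FunFld.IsOverWith Q P e)
    (φ : K →ₐ[k] LaurentSeries F) (hφ : LocRes.IsExpansionAt P.1 φ)
    (ψ : K' →ₐ[k] LaurentSeries F') (hψ : LocRes.IsExpansionAt Q.1 ψ)
    (x : K) (hx : LocRes.vDiff φ 1 x ≠ 0) (hx' : LocRes.vDiff ψ 1 (algebraMap K K' x) ≠ 0)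
    [P.1.HasExtension Q.1]
    (hf : Function.Surjective (algebraMap (IsLocalRing.ResidueField P.O)
      (IsLocalRing.ResidueField Q.O)))
    [Algebra P.O K'] [IsScalarTower P.O K K'] :
    (∀ y : K', (∀ z : K', IsIntegral P.O z → P.1 (Algebra.trace K K' (y * z)) ≤ 1) →
      Q.1 y ≤ WithZero.exp (LocRes.diffExp φ ψ e x)) ∧
    ∃ y : K', (∀ z : K', IsIntegral P.O z → P.1 (Algebra.trace K K' (y * z)) ≤ 1) ∧
      Q.1 y = WithZero.exp (LocRes.diffExp φ ψ e x) := by
  classical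
  have hK' : FG.IsFF k K' := FG.isFF_of_finite hK.1
  haveI : FiniteDimensional k F := RHurwitz.finiteDimensional_of_expansion hK P φ hφ
  haveI : FiniteDimensional k F' := finiteDimensional_of_expansion' hK' Q ψ hψ
  haveI : Algebra.IsSeparable k F := TateSep.isSeparable_of_expansion hK hg P.1 φ hφ
  have hsurj : ∀ z : K', Q.1 z ≤ 1 →
      ∃ z₀ : K, P.1 z₀ ≤ 1 ∧ Q.1 (z - algebraMap K K' z₀) < 1 := by
    intro z hz
    obtain ⟨r, hr⟩ := hf (IsLocalRing.residue Q.O ⟨z, hz⟩)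
    obtain ⟨z₀, rfl⟩ := IsLocalRing.residue_surjective r
    rw [Valuation.HasExtension.algebraMap_residue_eq_residue_algebraMap] at hr
    have h0 : IsLocalRing.residue Q.O (⟨z, hz⟩ - algebraMap P.O Q.O z₀) = 0 := by
      rw [map_sub, hr, sub_self]
    rw [FG.residue_eq_zero_iff] at h0
    exact ⟨z₀, z₀.2, h0⟩
  haveI : Algebra.IsSeparable k F' := isSeparable_of_residue_surjective he φ hφ ψ hψ hsurj
  obtain ⟨t, ht⟩ := FG.exists_uniformizer P
  have hDt : Valued.v (LocRes.D F (φ t)) = 1 := Wr.val_D_of_val_eq F (φ t) (by rw [hφ.1, ht])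
  have hvt : vDiff φ 1 t = 1 := by rw [DiffExp.vDiff_one_eq]; exact hDt
  have hdt : diffExp φ ψ e x = diffExp φ ψ e t :=
    DiffExp.diffExp_eq_diffExp hK hg P Q e he φ hφ ψ hψ x hx hx' t (by rw [hvt]; exact one_ne_zero)
  have hδ0 : vDiff ψ 1 (algebraMap K K' t) ≠ 0 := by
    have hDx : KaehlerDifferential.D k K x ≠ 0 := DiffExp.D_ne_zero_of_vDiff_ne_zero φ hx
    obtain ⟨c, hc⟩ := DiffExp.exists_smul_D hK hg hDx t
    have h1 := DiffExp.D_exp_of_kaehler φ hc
    have h2 := DiffExp.D_exp_of_kaehler_ext ψ hc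
    have hc0 : c ≠ 0 := by
      rintro rfl
      rw [map_zero, zero_mul] at h1
      rw [h1, map_zero] at hDt
      exact zero_ne_one hDt
    rw [DiffExp.vDiff_one_eq, h2, map_mul]
    rw [DiffExp.vDiff_one_eq] at hx'
    refine mul_ne_zero ?_ hx'
    rw [hψ.1]
    exact Q.1.ne_zero_iff.mpr (by
      intro h0
      exact hc0 ((algebraMap K K').injective (h0.trans (map_zero _).symm)))
  obtain ⟨d, hd⟩ : ∃ d : ℤ, d = diffExp φ ψ e x := ⟨_, rfl⟩
  have hδ : vDiff ψ 1 (algebraMap K K' t) = WithZero.exp (-d) := by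
    rw [hd, hdt]
    unfold diffExp ordDiff
    rw [hvt, WithZero.log_one, neg_zero, mul_zero, sub_zero, neg_neg, WithZero.exp_log hδ0]
  rw [← hd]
  have hPt : P.1 t ≤ 1 := by rw [ht]; exact FG.exp_neg_one_lt_one.le
  have vφ : ∀ u, vDiff φ u t = P.1 u := fun u => by rw [vDiff_eq P.1 φ hφ, hvt, mul_one]
  have vψ : ∀ u, vDiff ψ u (algebraMap K K' t) = Q.1 u * WithZero.exp (-d) := fun u => by
    rw [vDiff_eq Q.1 ψ hψ, hδ]
  have hQP : IsOver Q P := ⟨e, he⟩
  have hint : ∀ z : K', IsIntegral P.O z → ∀ Q' : Place k K', IsOver Q' P → Q'.1 z ≤ 1 :=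
    fun z hz Q' hQ' => FG.val_le_one_of_isIntegral hQ' hz
  have hint' : ∀ z : K', (∀ Q' : Place k K', IsOver Q' P → Q'.1 z ≤ 1) → IsIntegral P.O z :=
    fun z h => FG.isIntegral_of_forall_val_le_one hK.1 P h
  obtain ⟨hfin, -⟩ := FG.finite_isOver_and_sum (K' := K') hK P
  obtain ⟨Qs, hQs⟩ : ∃ Qs : Finset (Place k K'), ∀ Q', Q' ∈ Qs ↔ IsOver Q' P :=
    ⟨hfin.toFinset, fun Q' => by rw [Set.Finite.mem_toFinset]; rfl⟩
  have hQmem : Q ∈ Qs := (hQs Q).2 hQP
  refine ⟨?_, ?_⟩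
  · intro y hy
    by_contra hlt
    rw [not_le] at hlt
    have hQy0 : Q.1 y ≠ 0 := ne_of_gt (lt_of_le_of_lt zero_le hlt)
    obtain ⟨m, hm⟩ : ∃ m : ℤ, Q.1 y = WithZero.exp m := ⟨_, (WithZero.exp_log hQy0).symm⟩
    have hdm : d < m := by rwa [hm, WithZero.exp_lt_exp] at hlt
    obtain ⟨z₀, hz₀⟩ := Q.2.2 (WithZero.exp (d + 1 - m))
    have hz₀1 : Q.1 z₀ ≤ 1 := by
      rw [hz₀, ← WithZero.exp_zero, WithZero.exp_le_exp]; omega
    have h1 : vDiff ψ (y * z₀) (algebraMap K K' t) = WithZero.exp (1 : ℤ) := by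
      rw [vψ, map_mul, hm, hz₀, ← WithZero.exp_add, ← WithZero.exp_add]
      congr 1
      ring
    obtain ⟨c, hc1, hc2⟩ := exists_locRes_ne_zero Q.1 ψ hψ (y * z₀) (algebraMap K K' t) h1
    obtain ⟨N₀, hN₀⟩ := exists_nat_bound Qs (fun Q' => Q'.1 y)
    obtain ⟨N, hN⟩ : ∃ N : ℕ, N = N₀ + (m - d).toNat := ⟨_, rfl⟩
    have hNy : ∀ Q' ∈ Qs, Q'.1 y ≤ WithZero.exp (N : ℤ) := fun Q' h =>
      (hN₀ Q' h).trans (WithZero.exp_le_exp.mpr (by rw [hN]; push_cast; omega))
    have hNm : m - d ≤ N := by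
      have := Int.self_le_toNat (m - d)
      rw [hN]; push_cast; omega
    obtain ⟨z, hz⟩ := FG.weak_approx Qs (fun R => if R = Q then z₀ * c else 0) N
    have hzQ : Q.1 (z - z₀ * c) < WithZero.exp (-(N : ℤ)) := by
      have := hz Q hQmem
      rwa [if_pos rfl] at this
    have hzQ' : ∀ Q' ∈ Qs, Q' ≠ Q → Q'.1 z < WithZero.exp (-(N : ℤ)) := by
      intro Q' hQ' hne
      have := hz Q' hQ'
      rwa [if_neg hne, sub_zero] at this
    have hexpN : WithZero.exp (-(N : ℤ)) ≤ 1 := by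
      rw [← WithZero.exp_zero, WithZero.exp_le_exp]; omega
    have hzval : ∀ Q' : Place k K', IsOver Q' P → Q'.1 z ≤ 1 := by
      intro Q' hQ'
      by_cases hQQ : Q' = Q
      · subst hQQ
        have e1 : z = (z - z₀ * c) + z₀ * c := by ring
        rw [e1]
        refine (Q'.1.map_add _ _).trans (max_le (hzQ.le.trans hexpN) ?_)
        rw [map_mul]; exact mul_le_one' hz₀1 hc1
      · exact (hzQ' Q' ((hQs Q').2 hQ') hQQ).le.trans hexpN
    have hTr := hy z (hint' z hzval)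
    have E := TateFR.tf1 k K K' hK P Q hQP F F' φ hφ ψ hψ (y * z) t hPt (fun Q' hQ' hne => by
      rw [map_mul]
      calc Q'.1 y * Q'.1 z ≤ WithZero.exp (N : ℤ) * WithZero.exp (-(N : ℤ)) :=
            mul_le_mul' (hNy Q' ((hQs Q').2 hQ')) (hzQ' Q' ((hQs Q').2 hQ') hne).le
        _ = 1 := by rw [← WithZero.exp_add, add_neg_cancel, WithZero.exp_zero])
    have hL : locRes φ (Algebra.trace K K' (y * z)) t = 0 :=
      locRes_eq_zero_of_vDiff_le_one φ _ _ (by rw [vφ]; exact hTr)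
    have hsplit : y * z = y * (z₀ * c) + y * (z - z₀ * c) := by ring
    have hR2 : locRes ψ (y * (z - z₀ * c)) (algebraMap K K' t) = 0 := by
      apply locRes_eq_zero_of_vDiff_le_one
      rw [vψ, map_mul, hm]
      calc WithZero.exp m * Q.1 (z - z₀ * c) * WithZero.exp (-d)
          ≤ WithZero.exp m * WithZero.exp (-(N : ℤ)) * WithZero.exp (-d) :=
            mul_le_mul' (mul_le_mul' le_rfl hzQ.le) le_rfl
        _ = WithZero.exp (m + -(N : ℤ) + -d) := by rw [WithZero.exp_add, WithZero.exp_add]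
        _ ≤ 1 := by rw [← WithZero.exp_zero, WithZero.exp_le_exp]; omega
    rw [hL, hsplit, locRes_add_left, hR2, add_zero] at E
    rw [mul_assoc] at hc2
    exact hc2 E.symm
  · obtain ⟨y₀, hy₀⟩ := Q.2.2 (WithZero.exp d)
    obtain ⟨r, hr⟩ : ∃ r : ℤ, r = max 0 (-d) := ⟨_, rfl⟩
    have hr1 : WithZero.exp (-r) ≤ 1 := by
      rw [← WithZero.exp_zero, WithZero.exp_le_exp, hr]
      have := le_max_left (0 : ℤ) (-d)
      omega
    have hr2 : WithZero.exp (-r) ≤ WithZero.exp d := by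
      rw [WithZero.exp_le_exp, hr]
      have := le_max_right (0 : ℤ) (-d)
      omega
    obtain ⟨y, hyw⟩ := FG.weak_approx Qs (fun R => if R = Q then y₀ else 0) r
    have hyQ : Q.1 (y - y₀) < WithZero.exp (-r) := by
      have := hyw Q hQmem
      rwa [if_pos rfl] at this
    have hQy : Q.1 y = WithZero.exp d := by
      have e1 : y = y₀ + (y - y₀) := by ring
      rw [e1, Valuation.map_add_eq_of_lt_left, hy₀]
      rw [hy₀]; exact hyQ.trans_le hr2
    have hyQ' : ∀ Q' : Place k K', IsOver Q' P → Q' ≠ Q → Q'.1 y ≤ 1 := by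
      intro Q' hQ' hne
      have := hyw Q' ((hQs Q').2 hQ')
      rw [if_neg hne, sub_zero] at this
      exact this.le.trans hr1
    refine ⟨y, ?_, hQy⟩
    intro z hz
    by_contra hgt
    rw [not_le] at hgt
    obtain ⟨wv, hwv⟩ : ∃ wv : K, wv = Algebra.trace K K' (y * z) := ⟨_, rfl⟩
    rw [← hwv] at hgt
    have hw0 : P.1 wv ≠ 0 := ne_of_gt (lt_of_le_of_lt zero_le hgt)
    obtain ⟨n, hn⟩ : ∃ n : ℤ, P.1 wv = WithZero.exp n := ⟨_, (WithZero.exp_log hw0).symm⟩
    have hn1 : 0 < n := by rwa [hn, ← WithZero.exp_zero, WithZero.exp_lt_exp] at hgt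
    obtain ⟨m', hm'⟩ : ∃ m' : ℕ, (m' : ℤ) = n - 1 :=
      ⟨(n - 1).toNat, Int.toNat_of_nonneg (by omega)⟩
    have hu : vDiff φ (wv * t ^ m') t = WithZero.exp (1 : ℤ) := by
      rw [vφ, map_mul, map_pow, hn, ht, ← WithZero.exp_nsmul, ← WithZero.exp_add]
      congr 1
      rw [nsmul_eq_mul]
      omega
    obtain ⟨c, hc1, hc2⟩ := exists_locRes_ne_zero P.1 φ hφ (wv * t ^ m') t hu
    obtain ⟨c', hc'⟩ : ∃ c' : K, c' = t ^ m' * c := ⟨_, rfl⟩
    have hc'1 : P.1 c' ≤ 1 := by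
      rw [hc', map_mul, map_pow]
      exact mul_le_one' (pow_le_one₀ zero_le hPt) hc1
    have huc : wv * t ^ m' * c = wv * c' := by rw [hc']; ring
    have hty' : Algebra.trace K K' (y * z * algebraMap K K' c') = wv * c' := by
      have e1 : y * z * algebraMap K K' c' = c' • (y * z) := by
        rw [Algebra.smul_def, mul_comm]
      rw [e1, map_smul, smul_eq_mul, hwv, mul_comm]
    have E := TateFR.tf1 k K K' hK P Q hQP F F' φ hφ ψ hψ (y * z * algebraMap K K' c') t hPt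
      (fun Q' hQ' hne => by
        obtain ⟨e', he'⟩ := hQ'
        rw [map_mul, map_mul]
        exact mul_le_one' (mul_le_one' (hyQ' Q' ⟨e', he'⟩ hne) (hint z hz Q' ⟨e', he'⟩))
          (FG.val_algebraMap_le_one he' hc'1))
    have hR : locRes ψ (y * z * algebraMap K K' c') (algebraMap K K' t) = 0 := by
      apply locRes_eq_zero_of_vDiff_le_one
      rw [vψ, map_mul, map_mul, hQy]
      calc WithZero.exp d * Q.1 z * Q.1 (algebraMap K K' c') * WithZero.exp (-d)
          ≤ WithZero.exp d * 1 * 1 * WithZero.exp (-d) :=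
            mul_le_mul' (mul_le_mul' (mul_le_mul' le_rfl (hint z hz Q hQP))
              (FG.val_algebraMap_le_one he hc'1)) le_rfl
        _ = 1 := by rw [mul_one, mul_one, ← WithZero.exp_add, add_neg_cancel, WithZero.exp_zero]
    rw [hty', ← huc] at E
    exact hc2 (E.trans hR)

end Groth.Agent.Helper6.TrDual
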