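import Mathlib
import Groth.Agent.Helper6.TrDual

set_option autoImplicit false
set_option linter.style.haveILetI false
set_option linter.unusedSectionVars false

/-!
# The different exponent and the derivative of a minimal polynomial
-/

namespace Groth.Agent.Helper6.TrDual2

open FunFld LocRes Polynomial
open Groth.Agent.Helper5
open Groth.Agent.Helper6.LocDual Groth.Agent.Helper6.TrDual

universe u v w

section euler

variable {k : Type u} {K K' : Type v} [Field k] [Field K] [Field K'] [Algebra k K]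
  [Algebra K K'] [Algebra k K'] [IsScalarTower k K K'] [FiniteDimensional K K']
  [Algebra.IsSeparable K K']

/-- Euler's lemma: elements of the trace dual of the integral closure, multiplied by `g'(y)`,
lie in `O_P[y]`. -/
theorem mul_mem_adjoin (P : Place k K) [Algebra P.O K'] [IsScalarTower P.O K K']
    {y : K'} (hy : IntermediateField.adjoin K ({y} : Set K') = ⊤) (hyi : IsIntegral P.O y)
    {c : K'} (hc : ∀ z : K', IsIntegral P.O z → P.1 (Algebra.trace K K' (c * z)) ≤ 1) :
    aeval y (derivative (minpoly K y)) * c ∈ Algebra.adjoin P.O ({y} : Set K') := by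
  have hsepy : (minpoly K y).Separable := Algebra.IsSeparable.isSeparable K y
  have hγ0 : aeval y (derivative (minpoly K y)) ≠ 0 :=
    hsepy.aeval_derivative_ne_zero (minpoly.aeval K y)
  have hadj : Algebra.adjoin K ({y} : Set K') = ⊤ := by
    rw [← IntermediateField.adjoin_simple_toSubalgebra_of_isAlgebraic
      (Algebra.IsAlgebraic.isAlgebraic y), hy, IntermediateField.top_toSubalgebra]
  have hdual := traceForm_dualSubmodule_adjoin P.O K hadj hyi
  have hA_int : ∀ a ∈ Algebra.adjoin P.O ({y} : Set K'), IsIntegral P.O a := fun a ha =>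
    (_root_.adjoin_le_integralClosure hyi) ha
  have h1 : c ∈ (Algebra.traceForm K K').dualSubmodule
      (Subalgebra.toSubmodule (Algebra.adjoin P.O ({y} : Set K'))) := by
    rw [LinearMap.BilinForm.mem_dualSubmodule]
    intro a ha
    rw [Algebra.traceForm_apply, Submodule.mem_one]
    exact ⟨⟨_, hc a (hA_int a ha)⟩, rfl⟩
  rw [hdual, Submodule.mem_smul_iff_inv_mul_mem (inv_ne_zero hγ0), inv_inv] at h1
  exact h1

end euler

theorem s12575 (k : Type u) (K K' : Type v) [Field k] [Field K] [Field K'] [Algebra k K]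
    [Algebra K K'] [Algebra k K'] [IsScalarTower k K K'] [FiniteDimensional K K']
    [Algebra.IsSeparable K K']
    (hK : FunFld.IsFunctionField k K) (hg : FunFld.IsGeometric k K)
    (F F' : Type w) [Field F] [Algebra k F] [Field F'] [Algebra k F']
    (P : FunFld.Place k K) (Q : FunFld.Place k K') (e : ℕ) (he : FunFld.IsOverWith Q P e)
    (φ : K →ₐ[k] LaurentSeries F) (hφ : LocRes.IsExpansionAt P.1 φ)
    (ψ : K' →ₐ[k] LaurentSeries F') (hψ : LocRes.IsExpansionAt Q.1 ψ)
    (x : K) (hx : LocRes.vDiff φ 1 x ≠ 0) (hx' : LocRes.vDiff ψ 1 (algebraMap K K' x) ≠ 0)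
    [P.1.HasExtension Q.1]
    (hf : Function.Surjective (algebraMap (IsLocalRing.ResidueField P.O)
      (IsLocalRing.ResidueField Q.O)))
    [Algebra P.O K'] [IsScalarTower P.O K K']
    (y : K') (hy : IntermediateField.adjoin K ({y} : Set K') = ⊤) (hyi : IsIntegral P.O y) :
    LocRes.diffExp φ ψ e x ≤ Q.ord (Polynomial.aeval y (Polynomial.derivative (minpoly K y))) ∧
    (Q.ord (Polynomial.aeval y (Polynomial.derivative (minpoly K y))) = LocRes.diffExp φ ψ e x →
      ∀ z : K', Q.1 z ≤ 1 → ∃ a ∈ Algebra.adjoin P.O ({y} : Set K'),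
        ∃ b ∈ Algebra.adjoin P.O ({y} : Set K'), Q.1 b = 1 ∧ z * b = a) := by
  classical
  obtain ⟨-, y₀, hy₀C, hy₀Q⟩ := s12574 k K K' hK hg F F' P Q e he φ hφ ψ hψ x hx hx' hf
  obtain ⟨d, hd⟩ : ∃ d : ℤ, d = diffExp φ ψ e x := ⟨_, rfl⟩
  rw [← hd] at hy₀Q ⊢
  obtain ⟨γ, hγ⟩ : ∃ γ : K', γ = aeval y (derivative (minpoly K y)) := ⟨_, rfl⟩
  rw [← hγ]
  have hsepy : (minpoly K y).Separable := Algebra.IsSeparable.isSeparable K y
  have hγ0 : γ ≠ 0 := by rw [hγ]; exact hsepy.aeval_derivative_ne_zero (minpoly.aeval K y)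
  have hA_int : ∀ a ∈ Algebra.adjoin P.O ({y} : Set K'), IsIntegral P.O a := fun a ha =>
    (_root_.adjoin_le_integralClosure hyi) ha
  have hC : ∀ c : K', (∀ z : K', IsIntegral P.O z → P.1 (Algebra.trace K K' (c * z)) ≤ 1) →
      γ * c ∈ Algebra.adjoin P.O ({y} : Set K') := fun c hc => by
    rw [hγ]; exact mul_mem_adjoin P hy hyi hc
  have hCmul : ∀ c v : K', (∀ z, IsIntegral P.O z → P.1 (Algebra.trace K K' (c * z)) ≤ 1) →
      IsIntegral P.O v → ∀ z, IsIntegral P.O z → P.1 (Algebra.trace K K' (c * v * z)) ≤ 1 :=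
    fun c v hc hv z hz => by
      rw [mul_assoc]; exact hc _ (hv.mul hz)
  have hb₀ := hC y₀ hy₀C
  have hQP : IsOver Q P := ⟨e, he⟩
  have h1 : Q.1 (γ * y₀) ≤ 1 := FG.val_le_one_of_isIntegral hQP (hA_int _ hb₀)
  rw [map_mul, hy₀Q] at h1
  have hγle : Q.1 γ ≤ WithZero.exp (-d) := by
    calc Q.1 γ = Q.1 γ * WithZero.exp d * WithZero.exp (-d) := by
          rw [mul_assoc, ← WithZero.exp_add, add_neg_cancel, WithZero.exp_zero, mul_one]
      _ ≤ 1 * WithZero.exp (-d) := mul_le_mul' h1 le_rfl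
      _ = WithZero.exp (-d) := one_mul _
  refine ⟨?_, ?_⟩
  · have := (FG.val_le_exp_iff Q hγ0 (-d)).1 hγle
    omega
  · intro hord z hz
    have hQγ : Q.1 γ = WithZero.exp (-d) := by rw [FG.val_eq_exp_neg_ord Q hγ0, hord]
    obtain ⟨hfin, -⟩ := FG.finite_isOver_and_sum (K' := K') hK P
    obtain ⟨Qs, hQs⟩ : ∃ Qs : Finset (Place k K'), ∀ Q', Q' ∈ Qs ↔ IsOver Q' P :=
      ⟨hfin.toFinset, fun Q' => by rw [Set.Finite.mem_toFinset]; rfl⟩
    have hQmem : Q ∈ Qs := (hQs Q).2 hQP
    obtain ⟨N, hN⟩ := exists_nat_bound Qs (fun Q' => Q'.1 z)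
    obtain ⟨u, hu⟩ := FG.weak_approx Qs (fun R => if R = Q then 1 else 0) N
    have hexpN : WithZero.exp (-(N : ℤ)) ≤ 1 := by
      rw [← WithZero.exp_zero, WithZero.exp_le_exp]; omega
    have huQ : Q.1 (u - 1) < 1 := by
      have := hu Q hQmem
      rw [if_pos rfl] at this
      exact this.trans_le hexpN
    have huQ1 : Q.1 u = 1 := by
      have e1 : u = 1 + (u - 1) := by ring
      rw [e1, Valuation.map_add_eq_of_lt_left, map_one]
      rw [map_one]; exact huQ
    have huQ' : ∀ Q' : Place k K', IsOver Q' P → Q' ≠ Q → Q'.1 u < WithZero.exp (-(N : ℤ)) := by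
      intro Q' hQ' hne
      have := hu Q' ((hQs Q').2 hQ')
      rwa [if_neg hne, sub_zero] at this
    have hu_int : IsIntegral P.O u := by
      refine FG.isIntegral_of_forall_val_le_one hK.1 P fun Q' hQ' => ?_
      by_cases hQQ : Q' = Q
      · rw [hQQ, huQ1]
      · exact (huQ' Q' hQ' hQQ).le.trans hexpN
    have huz_int : IsIntegral P.O (u * z) := by
      refine FG.isIntegral_of_forall_val_le_one hK.1 P fun Q' hQ' => ?_
      rw [map_mul]
      by_cases hQQ : Q' = Q
      · rw [hQQ, huQ1, one_mul]; exact hz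
      · calc Q'.1 u * Q'.1 z ≤ WithZero.exp (-(N : ℤ)) * WithZero.exp (N : ℤ) :=
              mul_le_mul' (huQ' Q' hQ' hQQ).le (hN Q' ((hQs Q').2 hQ'))
          _ = 1 := by rw [← WithZero.exp_add, neg_add_cancel, WithZero.exp_zero]
    refine ⟨γ * (y₀ * (u * z)), hC _ (hCmul y₀ (u * z) hy₀C huz_int),
      γ * (y₀ * u), hC _ (hCmul y₀ u hy₀C hu_int), ?_, ?_⟩
    · rw [map_mul, map_mul, hQγ, hy₀Q, huQ1, mul_one, ← WithZero.exp_add, neg_add_cancel,
        WithZero.exp_zero]
    · ring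

end Groth.Agent.Helper6.TrDual2
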