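import Mathlib
import Groth.Agent.Helper6.TrDual2

set_option autoImplicit false
set_option linter.style.haveILetI false
set_option linter.unusedSectionVars false

/-!
# Totally ramified places: the different exponent is `ord g'(s)` for a uniformizer `s`
-/

namespace Groth.Agent.Helper6.TotRam

open FunFld LocRes Polynomial
open Groth.Agent.Helper5
open Groth.Agent.Helper6.LocDual Groth.Agent.Helper6.TrDual Groth.Agent.Helper6.TrDual2

universe u v w

section core

variable {k : Type u} {K K' : Type v} [Field k] [Field K] [Field K'] [Algebra k K]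
  [Algebra K K'] [Algebra k K'] [IsScalarTower k K K']

theorem val_term (P : Place k K) (Q : Place k K') {e : ℕ} (he : IsOverWith Q P e)
    {s : K'} (hs : Q.1 s = WithZero.exp (-1)) (a : K) (i : ℕ) :
    Q.1 (algebraMap K K' a * s ^ i) = P.1 a ^ e * WithZero.exp (-(i : ℤ)) := by
  rw [map_mul, map_pow, he a, hs, ← WithZero.exp_nsmul]
  congr 2
  simp

/-- each term of `∑_{i<e} a_i s^i` is bounded by the whole sum (distinct valuations). -/
theorem term_le_sum (P : Place k K) (Q : Place k K') {e : ℕ} (he : IsOverWith Q P e)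
    {s : K'} (hs : Q.1 s = WithZero.exp (-1)) (a : Fin e → K) (j : Fin e) :
    Q.1 (algebraMap K K' (a j) * s ^ (j : ℕ)) ≤
      Q.1 (∑ i : Fin e, algebraMap K K' (a i) * s ^ (i : ℕ)) := by
  classical
  obtain ⟨j₀, -, hmax⟩ := Finset.exists_max_image (Finset.univ : Finset (Fin e))
    (fun i => Q.1 (algebraMap K K' (a i) * s ^ (i : ℕ))) ⟨j, Finset.mem_univ _⟩
  by_cases hz : Q.1 (algebraMap K K' (a j₀) * s ^ (j₀ : ℕ)) = 0
  · have h1 := hmax j (Finset.mem_univ _)
    rw [hz] at h1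
    exact h1.trans zero_le'
  have key : Q.1 (∑ i : Fin e, algebraMap K K' (a i) * s ^ (i : ℕ)) =
      Q.1 (algebraMap K K' (a j₀) * s ^ (j₀ : ℕ)) := by
    refine Valuation.map_sum_eq_of_lt Q.1 (Finset.mem_univ j₀) fun i hi => ?_
    rw [Finset.mem_sdiff, Finset.mem_singleton] at hi
    refine lt_of_le_of_ne (hmax i hi.1) fun heq => hi.2 ?_
    have hTi : Q.1 (algebraMap K K' (a i) * s ^ (i : ℕ)) ≠ 0 := by rw [heq]; exact hz
    rw [val_term P Q he hs] at hTi hz
    rw [val_term P Q he hs, val_term P Q he hs] at heq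
    have hai : P.1 (a i) ^ e ≠ 0 := left_ne_zero_of_mul hTi
    have haj : P.1 (a j₀) ^ e ≠ 0 := left_ne_zero_of_mul hz
    have hlog := congrArg WithZero.log heq
    rw [WithZero.log_mul hai WithZero.exp_ne_zero, WithZero.log_mul haj WithZero.exp_ne_zero,
      WithZero.log_pow, WithZero.log_pow, WithZero.log_exp, WithZero.log_exp,
      nsmul_eq_mul, nsmul_eq_mul] at hlog
    have hdvd : (e : ℤ) ∣ ((i : ℕ) : ℤ) - ((j₀ : ℕ) : ℤ) :=
      ⟨WithZero.log (P.1 (a i)) - WithZero.log (P.1 (a j₀)), by rw [mul_sub]; linarith⟩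
    have hi2 := i.2
    have hj2 := j₀.2
    have habs : |((i : ℕ) : ℤ) - ((j₀ : ℕ) : ℤ)| < (e : ℤ) := by
      rw [abs_lt]; constructor <;> omega
    have h0 := Int.eq_zero_of_abs_lt_dvd hdvd habs
    exact Fin.ext (by omega)
  rw [key]
  exact hmax j (Finset.mem_univ _)

theorem coeff_le_one (P : Place k K) (Q : Place k K') {e : ℕ} (he : IsOverWith Q P e)
    {s : K'} (hs : Q.1 s = WithZero.exp (-1)) (a : Fin e → K)
    (h : Q.1 (∑ i : Fin e, algebraMap K K' (a i) * s ^ (i : ℕ)) ≤ 1) (j : Fin e) :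
    P.1 (a j) ≤ 1 := by
  have h1 := (term_le_sum P Q he hs a j).trans h
  rw [val_term P Q he hs] at h1
  by_contra hgt
  rw [not_le] at hgt
  have hne : P.1 (a j) ≠ 0 := (lt_trans zero_lt_one hgt).ne'
  obtain ⟨m, hm⟩ : ∃ m : ℤ, P.1 (a j) = WithZero.exp m := ⟨_, (WithZero.exp_log hne).symm⟩
  rw [hm, ← WithZero.exp_nsmul, ← WithZero.exp_add, ← WithZero.exp_zero, WithZero.exp_le_exp,
    nsmul_eq_mul] at h1
  rw [hm, ← WithZero.exp_zero, WithZero.exp_lt_exp] at hgt
  have hj : ((j : ℕ) : ℤ) < e := by exact_mod_cast j.2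
  have h2 : (e : ℤ) * 1 ≤ e * m := mul_le_mul_of_nonneg_left (by omega) (by omega)
  linarith

end core

theorem s12573 (k : Type u) (K K' : Type v) [Field k] [Field K] [Field K'] [Algebra k K]
    [Algebra K K'] [Algebra k K'] [IsScalarTower k K K'] [FiniteDimensional K K']
    [Algebra.IsSeparable K K']
    (hK : FunFld.IsFunctionField k K) (hg : FunFld.IsGeometric k K)
    (F F' : Type w) [Field F] [Algebra k F] [Field F'] [Algebra k F']
    (P : FunFld.Place k K) (Q : FunFld.Place k K') (e : ℕ) (he : FunFld.IsOverWith Q P e)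
    (φ : K →ₐ[k] LaurentSeries F) (hφ : LocRes.IsExpansionAt P.1 φ)
    (ψ : K' →ₐ[k] LaurentSeries F') (hψ : LocRes.IsExpansionAt Q.1 ψ)
    (x : K) (hx : LocRes.vDiff φ 1 x ≠ 0) (hx' : LocRes.vDiff ψ 1 (algebraMap K K' x) ≠ 0)
    (hn : e = Module.finrank K K') (s : K') (hs : Q.1 s = WithZero.exp (-1)) :
    Q.ord (Polynomial.aeval s (Polynomial.derivative (minpoly K s))) =
      LocRes.diffExp φ ψ e x := by
  classical
  have hepos : 0 < e := by rw [hn]; exact Module.finrank_pos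
  have hs0 : s ≠ 0 := fun h => by
    rw [h, map_zero] at hs; exact WithZero.exp_ne_zero hs.symm
  haveI : P.1.HasExtension Q.1 := ⟨by
    intro a b
    show P.1 a ≤ P.1 b ↔ Q.1 (algebraMap K K' a) ≤ Q.1 (algebraMap K K' b)
    rw [he a, he b]
    exact (pow_le_pow_iff_left₀ zero_le' zero_le' hepos.ne').symm⟩
  have hli : LinearIndependent K (fun i : Fin e => s ^ (i : ℕ)) := by
    rw [Fintype.linearIndependent_iff]
    intro g hg i
    have h1 := term_le_sum P Q he hs g i
    have h2 : ∑ i : Fin e, algebraMap K K' (g i) * s ^ (i : ℕ) = 0 := by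
      rw [← hg]; exact Finset.sum_congr rfl fun i _ => (Algebra.smul_def _ _).symm
    rw [h2, map_zero, le_zero_iff, map_eq_zero] at h1
    have h3 := (mul_eq_zero.1 h1).resolve_right (pow_ne_zero _ hs0)
    exact (map_eq_zero (algebraMap K K')).1 h3
  have hspan : ∀ z : K', ∃ c : Fin e → K,
      ∑ i : Fin e, algebraMap K K' (c i) * s ^ (i : ℕ) = z := by
    intro z
    have htop := hli.span_eq_top_of_card_eq_finrank' (by rw [Fintype.card_fin, hn])
    have hz : z ∈ Submodule.span K (Set.range fun i : Fin e => s ^ (i : ℕ)) := by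
      rw [htop]; trivial
    obtain ⟨c, hc⟩ := (Submodule.mem_span_range_iff_exists_fun K).1 hz
    exact ⟨c, by rw [← hc]; exact Finset.sum_congr rfl fun i _ => (Algebra.smul_def _ _).symm⟩
  have hadj : IntermediateField.adjoin K ({s} : Set K') = ⊤ := by
    refine eq_top_iff.2 fun z _ => ?_
    obtain ⟨c, rfl⟩ := hspan z
    refine IntermediateField.sum_mem _ fun i _ => IntermediateField.mul_mem _
      (IntermediateField.algebraMap_mem _ _)
      (pow_mem (IntermediateField.mem_adjoin_simple_self K s) _)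
  have hmemO : ∀ (c : Fin e → K), (∀ i, P.1 (c i) ≤ 1) →
      ∑ i : Fin e, algebraMap K K' (c i) * s ^ (i : ℕ) ∈ Algebra.adjoin P.O ({s} : Set K') := by
    intro c hc
    have hs_mem : s ∈ Algebra.adjoin P.O ({s} : Set K') :=
      Algebra.subset_adjoin (Set.mem_singleton s)
    refine Subalgebra.sum_mem _ fun i _ => ?_
    have h1 : algebraMap K K' (c i) = algebraMap P.O K' ⟨c i, hc i⟩ := by
      rw [IsScalarTower.algebraMap_apply P.O K K']; rfl
    rw [h1]
    exact Subalgebra.mul_mem _ (Subalgebra.algebraMap_mem _ _) (Subalgebra.pow_mem _ hs_mem _)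
  have hmem : ∀ z : K', Q.1 z ≤ 1 → z ∈ Algebra.adjoin P.O ({s} : Set K') := by
    intro z hz
    obtain ⟨c, rfl⟩ := hspan z
    exact hmemO c (coeff_le_one P Q he hs c hz)
  have hsi : IsIntegral P.O s := by
    obtain ⟨c, hc⟩ := hspan (s ^ e)
    have hcle : ∀ i, P.1 (c i) ≤ 1 := by
      refine coeff_le_one P Q he hs c ?_
      rw [hc, map_pow, hs, ← WithZero.exp_nsmul, ← WithZero.exp_zero, WithZero.exp_le_exp]
      simp
    refine ⟨X ^ e - ∑ i : Fin e, C (⟨c i, hcle i⟩ : P.O) * X ^ (i : ℕ),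
      monic_X_pow_sub (degree_sum_fin_lt _), ?_⟩
    rw [eval₂_sub, eval₂_X_pow, eval₂_finset_sum, sub_eq_zero, ← hc]
    refine Finset.sum_congr rfl fun i _ => ?_
    rw [eval₂_mul, eval₂_C, eval₂_X_pow, IsScalarTower.algebraMap_apply P.O K K']
    rfl
  have hf : Function.Surjective (algebraMap (IsLocalRing.ResidueField P.O)
      (IsLocalRing.ResidueField Q.O)) := by
    intro zbar
    obtain ⟨z, rfl⟩ := IsLocalRing.residue_surjective zbar
    obtain ⟨c, hc⟩ := hspan (z : K')
    have hz : Q.1 (z : K') ≤ 1 := z.2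
    have hcle : ∀ i, P.1 (c i) ≤ 1 := coeff_le_one P Q he hs c (by rw [hc]; exact hz)
    refine ⟨IsLocalRing.residue P.O ⟨c ⟨0, hepos⟩, hcle _⟩, ?_⟩
    rw [Valuation.HasExtension.algebraMap_residue_eq_residue_algebraMap, ← sub_eq_zero,
      ← map_sub, FG.residue_eq_zero_iff]
    show Q.1 (algebraMap K K' (c ⟨0, hepos⟩) - (z : K')) < 1
    have hsplit := Finset.add_sum_erase Finset.univ
      (fun i : Fin e => algebraMap K K' (c i) * s ^ (i : ℕ))
      (Finset.mem_univ (⟨0, hepos⟩ : Fin e))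
    simp only [pow_zero, mul_one] at hsplit
    rw [hc] at hsplit
    rw [← hsplit, sub_add_cancel_left, Valuation.map_neg]
    refine Valuation.map_sum_lt Q.1 one_ne_zero fun i hi => ?_
    rw [val_term P Q he hs]
    have hi0 : (i : ℕ) ≠ 0 := fun h => (Finset.ne_of_mem_erase hi) (Fin.ext h)
    calc P.1 (c i) ^ e * WithZero.exp (-((i : ℕ) : ℤ))
        ≤ 1 * WithZero.exp (-((i : ℕ) : ℤ)) := mul_le_mul' (pow_le_one' (hcle i) e) le_rfl
      _ < 1 := by rw [one_mul, ← WithZero.exp_zero, WithZero.exp_lt_exp]; omega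
  obtain ⟨hA, -⟩ := s12574 k K K' hK hg F F' P Q e he φ hφ ψ hψ x hx hx' hf
  obtain ⟨hle, -⟩ := s12575 k K K' hK hg F F' P Q e he φ hφ ψ hψ x hx hx' hf s hadj hsi
  refine le_antisymm ?_ hle
  obtain ⟨γ, hγ⟩ : ∃ γ : K', γ = aeval s (derivative (minpoly K s)) := ⟨_, rfl⟩
  rw [← hγ]
  have hsep : (minpoly K s).Separable := Algebra.IsSeparable.isSeparable K s
  have hγ0 : γ ≠ 0 := by rw [hγ]; exact hsep.aeval_derivative_ne_zero (minpoly.aeval K s)
  have hAdj : Algebra.adjoin K ({s} : Set K') = ⊤ := by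
    rw [← IntermediateField.adjoin_simple_toSubalgebra_of_isAlgebraic
      (Algebra.IsAlgebraic.isAlgebraic s), hadj, IntermediateField.top_toSubalgebra]
  have hdual := traceForm_dualSubmodule_adjoin P.O K hAdj hsi
  have hmemd : γ⁻¹ ∈ (Algebra.traceForm K K').dualSubmodule
      (Subalgebra.toSubmodule (Algebra.adjoin P.O ({s} : Set K'))) := by
    rw [hdual, ← hγ, Submodule.mem_smul_iff_inv_mul_mem (inv_ne_zero hγ0), inv_inv,
      mul_inv_cancel₀ hγ0]
    exact (Subalgebra.mem_toSubmodule _).2 (Subalgebra.one_mem _)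
  rw [LinearMap.BilinForm.mem_dualSubmodule] at hmemd
  have hC : ∀ z : K', IsIntegral P.O z → P.1 (Algebra.trace K K' (γ⁻¹ * z)) ≤ 1 := by
    intro z hz
    have hzQ : Q.1 z ≤ 1 := FG.val_le_one_of_isIntegral ⟨e, he⟩ hz
    have h1 := hmemd z (hmem z hzQ)
    rw [Algebra.traceForm_apply, Submodule.mem_one] at h1
    obtain ⟨r, hr⟩ := h1
    rw [← hr]
    exact r.2
  have h1 := hA γ⁻¹ hC
  have h2 := (FG.val_le_exp_iff Q (inv_ne_zero hγ0) _).1 h1
  rw [FG.ord_inv] at h2
  omega

end Groth.Agent.Helper6.TotRam
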