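import Mathlib
import Groth.Agent.Helper6.TotRam
import Groth.Agent.Helper5.FGAS
import Groth.Agent.Helper5.FFGeom3
import Groth.Agent.Helper5.FGTransport

set_option autoImplicit false
set_option linter.style.haveILetI false
set_option linter.unusedSectionVars false

/-!
# Different exponent of an Artin–Schreier extension in characteristic two
(with a general transport of the base field into the top field, to align universes)
-/

namespace Groth.Agent.Helper6.ASDiff

open FunFld LocRes Polynomial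
open Groth.Agent.Helper5

universe u v w u'

section transport

variable {k : Type u} {K₁ : Type u'} {K : Type v} [Field k] [Field K₁] [Field K] [Algebra k K₁]
  [Algebra K₁ K] [Algebra k K] [IsScalarTower k K₁ K]

/-- the image of the base field inside the top field -/
noncomputable abbrev baseImg (k : Type u) (K₁ : Type u') (K : Type v) [Field k] [Field K₁] [Field K]
    [Algebra k K₁] [Algebra K₁ K] [Algebra k K] [IsScalarTower k K₁ K] : IntermediateField k K :=
  (IsScalarTower.toAlgHom k K₁ K).fieldRange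

/-- the base field is isomorphic to its image -/
noncomputable def baseEquiv (k : Type u) (K₁ : Type u') (K : Type v) [Field k] [Field K₁] [Field K]
    [Algebra k K₁] [Algebra K₁ K] [Algebra k K] [IsScalarTower k K₁ K] :
    K₁ ≃ₐ[k] baseImg k K₁ K :=
  (IsScalarTower.toAlgHom k K₁ K).equivFieldRange

theorem baseEquiv_coe (r : K₁) : ((baseEquiv k K₁ K r : baseImg k K₁ K) : K) = algebraMap K₁ K r :=
  rfl

theorem algebraMap_baseImg (x : baseImg k K₁ K) :
    algebraMap (baseImg k K₁ K) K x = algebraMap K₁ K ((baseEquiv k K₁ K).symm x) := by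
  have h := baseEquiv_coe (k := k) (K := K) ((baseEquiv k K₁ K).symm x)
  rw [AlgEquiv.apply_symm_apply] at h
  exact h

theorem comp_eq :
    (algebraMap (baseImg k K₁ K) K).comp ((baseEquiv k K₁ K).toRingEquiv : K₁ →+* baseImg k K₁ K) =
      ((RingEquiv.refl K : K ≃+* K) : K →+* K).comp (algebraMap K₁ K) := by
  ext r
  rfl

theorem finrank_baseImg : Module.finrank (baseImg k K₁ K) K = Module.finrank K₁ K :=
  (Algebra.finrank_eq_of_equiv_equiv (baseEquiv k K₁ K).toRingEquiv (RingEquiv.refl K)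
    comp_eq).symm

theorem finite_baseImg [FiniteDimensional K₁ K] : FiniteDimensional (baseImg k K₁ K) K :=
  Module.Finite.of_equiv_equiv (baseEquiv k K₁ K).toRingEquiv (RingEquiv.refl K) comp_eq

theorem separable_baseImg [Algebra.IsSeparable K₁ K] : Algebra.IsSeparable (baseImg k K₁ K) K :=
  Algebra.IsSeparable.of_equiv_equiv (baseEquiv k K₁ K).toRingEquiv (RingEquiv.refl K) comp_eq

/-- the transported place -/
noncomputable def basePlace (p : Place k K₁) : Place k (baseImg k K₁ K) :=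
  FG.comapPlaceEquiv (baseEquiv k K₁ K).symm p

theorem basePlace_val (p : Place k K₁) (x : baseImg k K₁ K) :
    (basePlace (K := K) p).1 x = p.1 ((baseEquiv k K₁ K).symm x) := rfl

theorem isOverWith_basePlace {P : Place k K} {p : Place k K₁} {e : ℕ} (he : IsOverWith P p e) :
    IsOverWith P (basePlace (K := K) p) e := by
  intro x
  rw [algebraMap_baseImg, he, basePlace_val]

/-- the transported expansion -/
noncomputable def baseExp {F : Type w} [Field F] [Algebra k F] (φ : K₁ →ₐ[k] LaurentSeries F) :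
    baseImg k K₁ K →ₐ[k] LaurentSeries F :=
  φ.comp ((baseEquiv k K₁ K).symm : baseImg k K₁ K →ₐ[k] K₁)

theorem baseExp_apply {F : Type w} [Field F] [Algebra k F] (φ : K₁ →ₐ[k] LaurentSeries F)
    (x : baseImg k K₁ K) : baseExp (K := K) φ x = φ ((baseEquiv k K₁ K).symm x) := rfl

theorem isExpansionAt_baseExp {F : Type w} [Field F] [Algebra k F] (p : Place k K₁)
    (φ : K₁ →ₐ[k] LaurentSeries F) (hφ : IsExpansionAt p.1 φ) :
    IsExpansionAt (basePlace (K := K) p).1 (baseExp (K := K) φ) := by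
  obtain ⟨h1, h2, t, ht⟩ := hφ
  refine ⟨fun x => ?_, fun a => ?_, baseEquiv k K₁ K t, ?_⟩
  · rw [baseExp_apply, h1, basePlace_val]
  · obtain ⟨r, hr1, hr2⟩ := h2 a
    refine ⟨baseEquiv k K₁ K r, ?_, ?_⟩
    · rw [basePlace_val, AlgEquiv.symm_apply_apply]; exact hr1
    · rw [baseExp_apply, AlgEquiv.symm_apply_apply]; exact hr2
  · rw [basePlace_val, AlgEquiv.symm_apply_apply]; exact ht

theorem vDiff_baseExp {F : Type w} [Field F] [Algebra k F] (φ : K₁ →ₐ[k] LaurentSeries F)
    (z : K₁) : vDiff (baseExp (K := K) φ) 1 (baseEquiv k K₁ K z) = vDiff φ 1 z := by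
  unfold vDiff
  simp only [baseExp_apply, AlgEquiv.symm_apply_apply, map_one]

theorem diffExp_baseExp {F F' : Type w} [Field F] [Algebra k F] [Field F'] [Algebra k F']
    (φ : K₁ →ₐ[k] LaurentSeries F) (ψ : K →ₐ[k] LaurentSeries F') (e : ℕ) (z : K₁) :
    diffExp (baseExp (K := K) φ) ψ e (baseEquiv k K₁ K z) = diffExp φ ψ e z := by
  unfold diffExp ordDiff
  rw [vDiff_baseExp]
  rfl

theorem isFunctionField_baseImg (hK : IsFunctionField k K) (hK₁ : IsFunctionField k K₁) :
    IsFunctionField k (baseImg k K₁ K) := by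
  obtain ⟨x, hx, -⟩ := hK₁.1
  refine FF.isFunctionField_intermediateField hK _ ⟨algebraMap K₁ K x, ⟨x, rfl⟩, ?_⟩
  intro h
  exact hx ((isAlgebraic_algHom_iff (IsScalarTower.toAlgHom k K₁ K)
    (algebraMap K₁ K).injective).1 h)

end transport

theorem s12588 (k : Type u) (K : Type v) [Field k] [Field K] [Algebra k K]
    [Algebra (RatFunc k) K] [IsScalarTower k (RatFunc k) K]
    (hK : FunFld.IsFunctionField k K) (hdeg : Module.finrank (RatFunc k) K = 2) [PerfectField k]
    (h2 : ringChar k = 2) [Algebra.IsSeparable (RatFunc k) K]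
    (y : K) (hy : y ∉ Set.range (algebraMap (RatFunc k) K)) (f : RatFunc k)
    (heq : y ^ 2 + y = algebraMap (RatFunc k) K f)
    (p : FunFld.Place k (RatFunc k)) (hp : 1 < p.1 f) (hodd : Odd (p.ord f))
    (P : FunFld.Place k K) (e : ℕ) (he : FunFld.IsOverWith P p e)
    (F F' : Type w) [Field F] [Algebra k F] [Field F'] [Algebra k F']
    (φ : RatFunc k →ₐ[k] LaurentSeries F) (hφ : LocRes.IsExpansionAt p.1 φ)
    (ψ : K →ₐ[k] LaurentSeries F') (hψ : LocRes.IsExpansionAt P.1 ψ)
    (z : RatFunc k) (hz : LocRes.vDiff φ 1 z ≠ 0)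
    (hz' : LocRes.vDiff ψ 1 (algebraMap (RatFunc k) K z) ≠ 0) :
    LocRes.diffExp φ ψ e z = 1 - p.ord f := by
  classical
  have hK₁ : IsFunctionField k (RatFunc k) := FF.isFunctionField_ratFunc
  haveI hfd : FiniteDimensional (RatFunc k) K :=
    Module.finite_of_finrank_pos (by rw [hdeg]; norm_num)
  have hf0 : f ≠ 0 := by
    rintro rfl
    rw [map_zero] at hp
    exact absurd hp (not_lt.2 zero_le)
  have hneg : p.ord f < 0 := (FG.ord_neg_iff p hf0).2 hp
  have hram := (FG.artin_schreier_ramification h2 hdeg y hy f heq p).1 ⟨hneg, hodd⟩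
  have he2 : IsOverWith P p 2 := (hram.2 P ⟨e, he⟩).1
  have hee : e = 2 := FG.isOverWith_unique he he2
  subst hee
  obtain ⟨a, ha⟩ : ∃ a : ℕ, (a : ℤ) * 2 = 1 - p.ord f := by
    obtain ⟨c, hc⟩ := hodd
    refine ⟨(-c).toNat, ?_⟩
    have h0 : 0 ≤ -c := by omega
    rw [Int.toNat_of_nonneg h0]; omega
  obtain ⟨t, ht⟩ := FG.exists_uniformizer p
  have ht0 : t ≠ 0 := FG.ne_zero_of_val_eq_exp p ht
  have hy0 : y ≠ 0 := by rintro rfl; exact hy ⟨0, map_zero _⟩
  have hPf : P.1 (algebraMap (RatFunc k) K f) = WithZero.exp (2 * -(p.ord f)) := by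
    rw [he2 f, FG.val_eq_exp_neg_ord p hf0, ← WithZero.exp_nsmul]
    congr 1
  obtain ⟨m, hm⟩ : ∃ m : ℤ, P.1 y = WithZero.exp m :=
    ⟨_, (WithZero.exp_log (P.1.ne_zero_iff.mpr hy0)).symm⟩
  have hm0 : 0 < m := by
    by_contra hle
    rw [not_lt] at hle
    have h1 : P.1 y ≤ 1 := by rw [hm, ← WithZero.exp_zero, WithZero.exp_le_exp]; exact hle
    have h3 : P.1 (y ^ 2 + y) ≤ 1 :=
      (P.1.map_add _ _).trans (max_le (by rw [map_pow]; exact pow_le_one' h1 2) h1)
    rw [heq, hPf, ← WithZero.exp_zero, WithZero.exp_le_exp] at h3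
    omega
  have hmf : m = -(p.ord f) := by
    have h1 : P.1 (y ^ 2 + y) = P.1 (y ^ 2) := by
      apply Valuation.map_add_eq_of_lt_left
      rw [map_pow, hm, ← WithZero.exp_nsmul, WithZero.exp_lt_exp]
      simp only [nsmul_eq_mul, Nat.cast_ofNat]
      omega
    rw [heq, hPf, map_pow, hm, ← WithZero.exp_nsmul, WithZero.exp_inj] at h1
    simp only [nsmul_eq_mul, Nat.cast_ofNat] at h1
    omega
  -- the uniformizer
  obtain ⟨s, hs_def⟩ : ∃ s : K, s = algebraMap (RatFunc k) K t ^ a * y := ⟨_, rfl⟩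
  have hPt : P.1 (algebraMap (RatFunc k) K t) = WithZero.exp (-2 : ℤ) := by
    rw [he2 t, ht, ← WithZero.exp_nsmul]; congr 1
  have hs : P.1 s = WithZero.exp (-1) := by
    rw [hs_def, map_mul, map_pow, hPt, hm, ← WithZero.exp_nsmul, ← WithZero.exp_add]
    congr 1
    simp only [nsmul_eq_mul]
    omega
  -- transport to the image of the base field
  have hK₀ : IsFunctionField k (baseImg k (RatFunc k) K) := isFunctionField_baseImg hK hK₁
  have hg₀ : IsGeometric k (baseImg k (RatFunc k) K) :=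
    FF.isGeometric_of_perfectField k _ hK₀
  haveI := finite_baseImg (k := k) (K₁ := RatFunc k) (K := K)
  haveI := separable_baseImg (k := k) (K₁ := RatFunc k) (K := K)
  have hmain := TotRam.s12573 k (baseImg k (RatFunc k) K) K hK₀ hg₀ F F'
    (basePlace p) P 2 (isOverWith_basePlace he2)
    (baseExp φ) (isExpansionAt_baseExp p φ hφ) ψ hψ (baseEquiv k (RatFunc k) K z)
    (by rw [vDiff_baseExp]; exact hz) (by rw [algebraMap_baseImg, AlgEquiv.symm_apply_apply]; exact hz')
    (by rw [finrank_baseImg, hdeg]) s hs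
  rw [diffExp_baseExp] at hmain
  rw [← hmain]
  -- the minimal polynomial of `s`
  obtain ⟨τ, hτ⟩ : ∃ τ : baseImg k (RatFunc k) K, τ = baseEquiv k (RatFunc k) K t := ⟨_, rfl⟩
  obtain ⟨fτ, hfτ⟩ : ∃ fτ : baseImg k (RatFunc k) K, fτ = baseEquiv k (RatFunc k) K f := ⟨_, rfl⟩
  have hτK : (τ : K) = algebraMap (RatFunc k) K t := by rw [hτ]; rfl
  have hfK : (fτ : K) = algebraMap (RatFunc k) K f := by rw [hfτ]; rfl
  haveI : CharP k 2 := by rw [← h2]; exact ringChar.charP k
  haveI : CharP K 2 := charP_of_injective_algebraMap (algebraMap k K).injective 2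
  haveI : CharP (baseImg k (RatFunc k) K) 2 :=
    charP_of_injective_algebraMap (algebraMap k (baseImg k (RatFunc k) K)).injective 2
  obtain ⟨q, hq⟩ : ∃ q : (baseImg k (RatFunc k) K)[X],
      q = X ^ 2 + C (τ ^ a) * X - C (τ ^ (2 * a) * fτ) := ⟨_, rfl⟩
  have hτ0 : (τ : K) ≠ 0 := by
    rw [hτK]; exact (_root_.map_ne_zero (algebraMap (RatFunc k) K)).2 ht0
  have hqs : aeval s q = 0 := by
    rw [hq, map_sub, map_add, map_pow, aeval_X, map_mul, aeval_C, aeval_C, aeval_X]
    show s ^ 2 + ((τ ^ a : baseImg k (RatFunc k) K) : K) * s -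
      ((τ ^ (2 * a) * fτ : baseImg k (RatFunc k) K) : K) = 0
    push_cast
    rw [hfK, ← heq, hs_def, ← hτK]
    ring
  have hlow : degree (C (τ ^ a) * X - C (τ ^ (2 * a) * fτ) : (baseImg k (RatFunc k) K)[X]) <
      ((2 : ℕ) : WithBot ℕ) := by
    refine lt_of_le_of_lt (degree_sub_le _ _) (max_lt ?_ ?_)
    · exact lt_of_le_of_lt (degree_C_mul_X_le _) (by exact_mod_cast one_lt_two)
    · exact lt_of_le_of_lt degree_C_le (by exact_mod_cast zero_lt_two)
  have hq1 : q = X ^ 2 + (C (τ ^ a) * X - C (τ ^ (2 * a) * fτ)) := by rw [hq]; ring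
  have hqm : q.Monic := by
    rw [hq1]; exact monic_X_pow_add hlow
  have hqd : q.natDegree = 2 := by
    rw [hq1, natDegree_add_eq_left_of_degree_lt (by rw [degree_X_pow]; exact hlow),
      natDegree_X_pow]
  have hsint : IsIntegral (baseImg k (RatFunc k) K) s := Algebra.IsIntegral.isIntegral s
  have hsnot : s ∉ (algebraMap (baseImg k (RatFunc k) K) K).range := by
    rintro ⟨r, hr⟩
    apply hy
    refine ⟨(baseEquiv k (RatFunc k) K).symm r / t ^ a, ?_⟩
    have ht0' : algebraMap (RatFunc k) K t ≠ 0 := (_root_.map_ne_zero _).2 ht0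
    rw [map_div₀, map_pow, ← algebraMap_baseImg, hr, hs_def]
    exact mul_div_cancel_left₀ y (pow_ne_zero a ht0')
  have h2le : 2 ≤ (minpoly (baseImg k (RatFunc k) K) s).natDegree :=
    (minpoly.two_le_natDegree_iff hsint).2 hsnot
  have hmin : minpoly (baseImg k (RatFunc k) K) s = q := by
    exact (Polynomial.eq_of_monic_of_dvd_of_natDegree_le (minpoly.monic hsint) hqm
      (minpoly.dvd _ _ hqs) (by rw [hqd]; exact h2le)).symm
  rw [hmin, hq]
  have hder : derivative (X ^ 2 + C (τ ^ a) * X - C (τ ^ (2 * a) * fτ) :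
      (baseImg k (RatFunc k) K)[X]) = C (τ ^ a) := by
    rw [derivative_sub, derivative_add, Polynomial.derivative_C, derivative_X_pow, derivative_C_mul,
      derivative_X, mul_one, sub_zero]
    have : (C ((2 : ℕ) : baseImg k (RatFunc k) K) : (baseImg k (RatFunc k) K)[X]) = 0 := by
      rw [CharP.cast_eq_zero, C_0]
    simp only [Nat.cast_ofNat] at this ⊢
    rw [this, zero_mul, zero_add]
  rw [hder, aeval_C]
  show P.ord (((τ ^ a : baseImg k (RatFunc k) K) : K)) = _
  push_cast
  rw [hτK, FG.ord_pow, FG.ord_algebraMap_eq he2, ← ha]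
  have : p.ord t = 1 := by
    unfold Place.ord; rw [ht, WithZero.log_exp]; ring
  rw [this]; push_cast; ring

end Groth.Agent.Helper6.ASDiff
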