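import Mathlib
import Groth.Agent.Helper5.FFGeom2
import Groth.Agent.Helper5.FFSep2

set_option autoImplicit false
set_option linter.style.haveILetI false
set_option linter.unusedSectionVars false

open FunFld TensorProduct
open scoped IntermediateField

namespace Groth.Agent.Helper6.GeoSep

open Groth.Agent.Helper5

universe u v

theorem isReduced_of_surjective {L T R : Type*} [CommRing L] (hL : IsField L) [CommRing T]
    [Algebra L T] [Algebra.FormallyUnramified L T] [Module.Finite L T] [CommRing R]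
    (f : T →+* R) (hf : Function.Surjective f) : IsReduced R := by
  letI := hL.toField
  haveI : IsReduced (T ⧸ RingHom.ker f) :=
    Algebra.FormallyUnramified.isReduced_of_field L (T ⧸ RingHom.ker f)
  exact isReduced_of_injective (RingHom.quotientKerEquivOfSurjective hf).symm.toRingHom
    (RingHom.quotientKerEquivOfSurjective hf).symm.injective

theorem isReduced_of_surjective_tensor {k K K' k₂ R : Type*} [Field k] [Field K] [Field K']
    [Field k₂] [Algebra k K] [Algebra K K'] [Algebra k K'] [IsScalarTower k K K'] [Algebra k k₂]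
    [FiniteDimensional K K'] [Algebra.IsSeparable K K'] (hL : IsField (K ⊗[k] k₂))
    [CommRing R] (g : K' ⊗[k] k₂ →+* R) (hg : Function.Surjective g) : IsReduced R := by
  haveI : Algebra.FormallyUnramified K K' := Algebra.FormallyUnramified.of_isSeparable K K'
  let e1 : (K ⊗[k] k₂) ⊗[K] K' ≃ₐ[K] K' ⊗[K] (K ⊗[k] k₂) := Algebra.TensorProduct.comm K _ _
  let e2 : K' ⊗[K] (K ⊗[k] k₂) ≃ₐ[K] K' ⊗[k] k₂ :=
    Algebra.TensorProduct.cancelBaseChange k K K K' k₂
  exact isReduced_of_surjective hL (T := (K ⊗[k] k₂) ⊗[K] K')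
    (g.comp (e1.trans e2).toRingEquiv.toRingHom)
    (hg.comp (e1.trans e2).surjective)

section consts

variable {k k' : Type u} {K K' : Type v} [Field k] [Field k'] [Field K] [Field K']
  [Algebra k k'] [Algebra k K] [Algebra K K'] [Algebra k' K'] [Algebra k K']
  [IsScalarTower k k' K'] [IsScalarTower k K K'] [FiniteDimensional K K']

theorem isAlgebraic_consts (hK : IsFunctionField k K) (hK' : IsFunctionField k' K') :
    Algebra.IsAlgebraic k k' := by
  have h1 : Algebra.trdeg k K = 1 := FF.trdeg_eq_one hK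
  have h1' : Algebra.trdeg k' K' = 1 := FF.trdeg_eq_one hK'
  have h2 : Algebra.trdeg K K' = 0 := trdeg_eq_zero
  have h3 : Algebra.trdeg k K + Algebra.trdeg K K' = Algebra.trdeg k K' := trdeg_add_eq k K
  have h4 := lift_trdeg_add_eq k k' K'
  rw [h1, h2, add_zero] at h3
  rw [h1', ← h3] at h4
  simp only [Cardinal.lift_one] at h4
  have h5 : Cardinal.lift.{v} (Algebra.trdeg k k') = 0 :=
    Cardinal.eq_of_add_eq_add_right (by rw [h4, zero_add]) Cardinal.one_lt_aleph0
  rw [Cardinal.lift_eq_zero] at h5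
  exact trdeg_eq_zero_iff.mp h5

theorem finrank_le_of_isGeometric (hg : IsGeometric k K) (E : IntermediateField k k')
    [FiniteDimensional k E] : Module.finrank k E ≤ Module.finrank K K' := by
  have hF : IsField (K ⊗[k] E) :=
    MulEquiv.isField (hg E inferInstance) (Algebra.TensorProduct.comm k K E).toMulEquiv
  let g : E →ₐ[k] K' := (IsScalarTower.toAlgHom k k' K').comp E.val
  let ψ : K ⊗[k] E →ₐ[K] K' :=
    Algebra.TensorProduct.lift (Algebra.ofId K K') g (fun _ _ => Commute.all _ _)
  have hinj : Function.Injective ψ := by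
    have hF' : @IsField (K ⊗[k] E) Ring.toSemiring := hF
    letI := hF'.toField
    exact RingHom.injective ψ.toRingHom
  have := LinearMap.finrank_le_finrank_of_injective (f := ψ.toLinearMap) hinj
  rwa [Module.finrank_baseChange] at this

theorem finiteDimensional_consts (hK : IsFunctionField k K) (hg : IsGeometric k K)
    (hK' : IsFunctionField k' K') : FiniteDimensional k k' := by
  haveI := isAlgebraic_consts (K := K) (K' := K') hK hK'
  obtain ⟨S, hS⟩ : ∃ S : Set ℕ, S = {d | ∃ E : IntermediateField k k',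
      FiniteDimensional k E ∧ Module.finrank k E = d} := ⟨_, rfl⟩
  have hne : S.Nonempty := by
    rw [hS]
    exact ⟨_, ⊥, inferInstance, rfl⟩
  have hbdd : BddAbove S := by
    refine ⟨Module.finrank K K', ?_⟩
    rw [hS]
    rintro d ⟨E, hE, rfl⟩
    exact finrank_le_of_isGeometric hg E
  have hmem := Nat.sSup_mem hne hbdd
  rw [hS] at hmem
  obtain ⟨E₀, hE₀, hd⟩ := hmem
  have hmax : ∀ E : IntermediateField k k', FiniteDimensional k E →
      Module.finrank k E ≤ Module.finrank k E₀ := by
    intro E hE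
    rw [hd, ← hS]
    apply le_csSup hbdd
    rw [hS]
    exact ⟨E, hE, rfl⟩
  have htop : E₀ = ⊤ := by
    rw [eq_top_iff]
    intro c _
    haveI : FiniteDimensional k k⟮c⟯ :=
      IntermediateField.adjoin.finiteDimensional (Algebra.IsIntegral.isIntegral c)
    haveI : FiniteDimensional k ↥(E₀ ⊔ k⟮c⟯) := IntermediateField.finiteDimensional_sup E₀ k⟮c⟯
    have hle : E₀ ≤ E₀ ⊔ k⟮c⟯ := le_sup_left
    have heq : E₀ = E₀ ⊔ k⟮c⟯ :=
      IntermediateField.eq_of_le_of_finrank_le hle (hmax _ inferInstance)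
    rw [heq]
    exact (le_sup_right : k⟮c⟯ ≤ E₀ ⊔ k⟮c⟯) (IntermediateField.mem_adjoin_simple_self k c)
  rw [htop] at hE₀
  exact Module.Finite.equiv (IntermediateField.topEquiv (F := k) (E := k')).toLinearEquiv

end consts

theorem isField_tensor_of_isReduced {k' K' k₂ : Type*} [Field k'] [Field K'] [Field k₂]
    [Algebra k' K'] [Algebra k' k₂] [FiniteDimensional k' k₂]
    (hK2 : ∀ y : K', IsAlgebraic k' y → y ∈ Set.range (algebraMap k' K'))
    [IsReduced (K' ⊗[k'] k₂)] : IsField (K' ⊗[k'] k₂) := by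
  obtain ⟨q, hq⟩ := ExpChar.exists k'
  haveI := hq
  obtain ⟨ks, hks⟩ : ∃ ks : IntermediateField k' k₂, ks = separableClosure k' k₂ := ⟨_, rfl⟩
  haveI : IsPurelyInseparable ks k₂ := by
    rw [hks]; exact separableClosure.isPurelyInseparable k' k₂
  haveI : Algebra.IsSeparable k' ks := by
    rw [hks]; infer_instance
  haveI : ExpChar ks q := expChar_of_injective_algebraMap (algebraMap k' ks).injective q
  have hpow := (isPurelyInseparable_iff_pow_mem ks q).mp (inferInstance : IsPurelyInseparable ks k₂)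
  let ι : K' ⊗[k'] ks →ₐ[K'] K' ⊗[k'] k₂ := Algebra.TensorProduct.map (AlgHom.id K' K') ks.val
  have hdom : IsDomain (ks ⊗[k'] K') := FF.isDomain_tensor_of_separable hK2
  haveI : IsDomain (K' ⊗[k'] ks) :=
    MulEquiv.isDomain _ (Algebra.TensorProduct.comm k' K' ks).toMulEquiv
  have hAs' : @IsField (K' ⊗[k'] ks) CommRing.toCommSemiring.toSemiring :=
    isField_of_isIntegral_of_isField' (R := K') (Field.toIsField K')
  have hAs : IsField (K' ⊗[k'] ks) := hAs'
  haveI : Nontrivial (K' ⊗[k'] k₂) := by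
    apply Module.nontrivial_of_finrank_pos (R := K')
    rw [Module.finrank_baseChange]
    exact Module.finrank_pos
  haveI : ExpChar (K' ⊗[k'] k₂) q :=
    expChar_of_injective_algebraMap (algebraMap k' (K' ⊗[k'] k₂)).injective q
  have key : ∀ z : K' ⊗[k'] k₂, ∃ N : ℕ, z ^ q ^ N ∈ ι.range := by
    intro z
    induction z using TensorProduct.induction_on with
    | zero =>
      exact ⟨0, by rw [pow_zero, pow_one]; exact Subalgebra.zero_mem _⟩
    | tmul a c =>
      obtain ⟨n, c₀, hc₀⟩ := hpow c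
      refine ⟨n, (a ^ q ^ n) ⊗ₜ[k'] c₀, ?_⟩
      rw [Algebra.TensorProduct.tmul_pow, ← hc₀]
      rfl
    | add z₁ z₂ h₁ h₂ =>
      obtain ⟨N₁, h₁⟩ := h₁
      obtain ⟨N₂, h₂⟩ := h₂
      refine ⟨N₁ + N₂, ?_⟩
      rw [add_pow_expChar_pow]
      refine Subalgebra.add_mem _ ?_ ?_
      · rw [pow_add, pow_mul]; exact Subalgebra.pow_mem _ h₁ _
      · rw [add_comm N₁ N₂, pow_add, pow_mul]; exact Subalgebra.pow_mem _ h₂ _
  refine ⟨exists_pair_ne _, mul_comm, ?_⟩
  intro z hz
  obtain ⟨N, w, hw0'⟩ := key z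
  have hw : ι w = z ^ q ^ N := hw0'
  have hzN : z ^ q ^ N ≠ 0 := by
    intro h0
    exact hz (IsReduced.eq_zero z ⟨q ^ N, h0⟩)
  have hw0 : w ≠ 0 := by
    rintro rfl
    rw [map_zero] at hw
    exact hzN hw.symm
  obtain ⟨b, hb⟩ := hAs.mul_inv_cancel hw0
  have hpos : 0 < q ^ N := expChar_pow_pos k' q N
  obtain ⟨m, hm⟩ : ∃ m, q ^ N = m + 1 := ⟨q ^ N - 1, by omega⟩
  refine ⟨z ^ m * ι b, ?_⟩
  have h1 : ι w * ι b = 1 :=
    (ι.toRingHom.map_mul w b).symm.trans ((congrArg ι.toRingHom hb).trans ι.toRingHom.map_one)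
  calc z * (z ^ m * ι b) = z ^ (m + 1) * ι b := by rw [pow_succ', mul_assoc]
    _ = ι w * ι b := by rw [← hm, hw]
    _ = 1 := h1

theorem s11010 (k k' : Type u) (K K' : Type v) [Field k] [Field k'] [Field K] [Field K']
    [Algebra k k'] [Algebra k K] [Algebra K K'] [Algebra k' K'] [Algebra k K']
    [IsScalarTower k k' K'] [IsScalarTower k K K'] [FiniteDimensional K K']
    [Algebra.IsSeparable K K']
    (hK : FunFld.IsFunctionField k K) (hg : FunFld.IsGeometric k K)
    (hK' : FunFld.IsFunctionField k' K') : FunFld.IsGeometric k' K' := by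
  intro k₂ _ _ hfd₂
  haveI := hfd₂
  haveI : FiniteDimensional k k' := finiteDimensional_consts hK hg hK'
  letI : Algebra k k₂ := ((algebraMap k' k₂).comp (algebraMap k k')).toAlgebra
  haveI : IsScalarTower k k' k₂ := IsScalarTower.of_algebraMap_eq fun _ => rfl
  haveI : FiniteDimensional k k₂ := FiniteDimensional.trans k k' k₂
  have hL : IsField (K ⊗[k] k₂) :=
    MulEquiv.isField (hg k₂ inferInstance) (Algebra.TensorProduct.comm k K k₂).toMulEquiv
  haveI hred : IsReduced (K' ⊗[k'] k₂) :=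
    isReduced_of_surjective_tensor (K := K) hL
      (Algebra.TensorProduct.mapOfCompatibleSMul k' k K' K' k₂).toRingHom
      (Algebra.TensorProduct.mapOfCompatibleSMul_surjective k' k K' K' k₂)
  exact MulEquiv.isField (isField_tensor_of_isReduced hK'.2)
    (Algebra.TensorProduct.comm k' k₂ K').toMulEquiv

end Groth.Agent.Helper6.GeoSep
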