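import Mathlib
import Groth.Agent.Helper6.HypGenus
import Groth.Agent.Helper6.GeoSep
import Groth.Agent.Helper6.ASDiff
import Groth.Agent.Helper6.TateW2
import Groth.Agent.Helper6.TateSep
import Groth.Agent.Helper6.RHurwitz
import Groth.Agent.Helper5.FGHyperInf
import Groth.Agent.Helper5.FFHyper
import Groth.Agent.Helper5.DiffExp

set_option autoImplicit false
set_option linter.style.haveILetI false
set_option linter.unusedSectionVars false

/-!
# Regular differentials of a hyperelliptic function field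
-/

namespace Groth.Agent.Helper6.HypDiff

open FunFld Polynomial
open Groth.Agent.Helper5
open scoped IntermediateField TensorProduct

universe u v w

section geom

theorem isDomain_tensor_ratFunc (k : Type*) (k₂ : Type*) [Field k] [Field k₂] [Algebra k k₂] :
    IsDomain (k₂ ⊗[k] RatFunc k) := by
  classical
  obtain ⟨g, hg⟩ : ∃ g : k[X] →ₐ[k] RatFunc k, ∀ p, g p = algebraMap k[X] (RatFunc k) p :=
    ⟨IsScalarTower.toAlgHom k k[X] (RatFunc k), fun p => rfl⟩
  obtain ⟨ι, hι_def⟩ : ∃ ι : k₂ ⊗[k] k[X] →ₐ[k₂] k₂ ⊗[k] RatFunc k,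
      ∀ (c : k₂) (p : k[X]), ι (c ⊗ₜ p) = c ⊗ₜ algebraMap k[X] (RatFunc k) p :=
    ⟨Algebra.TensorProduct.map (AlgHom.id k₂ k₂) g, fun c p => by
      rw [Algebra.TensorProduct.map_tmul, hg]; rfl⟩
  have hιinj : Function.Injective ι := by
    have h := Module.Flat.lTensor_preserves_injective_linearMap (M := k₂) g.toLinearMap
      (by
        intro a b hab
        exact RatFunc.algebraMap_injective k (by rw [← hg, ← hg]; exact hab))
    have e : ∀ t, ι t = LinearMap.lTensor k₂ g.toLinearMap t := by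
      intro t
      induction t using TensorProduct.induction_on with
      | zero => rw [map_zero, map_zero]
      | tmul c p =>
        rw [hι_def, LinearMap.lTensor_tmul]
        congr 1
        exact (hg p).symm
      | add a b ha hb => rw [map_add, map_add, ha, hb]
    intro a b hab
    apply h
    rw [← e, ← e, hab]
  haveI : IsDomain (k₂ ⊗[k] k[X]) :=
    MulEquiv.isDomain k₂[X] (polyEquivTensor k k₂).symm.toMulEquiv
  obtain ⟨w, hw⟩ : ∃ w : k[X] → k₂ ⊗[k] RatFunc k,
      ∀ q, w q = (1 : k₂) ⊗ₜ[k] algebraMap k[X] (RatFunc k) q := ⟨_, fun q => rfl⟩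
  have hw_mul : ∀ q₁ q₂, w (q₁ * q₂) = w q₁ * w q₂ := by
    intro q₁ q₂
    rw [hw, hw, hw, Algebra.TensorProduct.tmul_mul_tmul, one_mul, map_mul]
  have hw_unit : ∀ q, q ≠ 0 → ∀ t : k₂ ⊗[k] RatFunc k, t * w q = 0 → t = 0 := by
    intro q hq t ht
    have hq' : algebraMap k[X] (RatFunc k) q ≠ 0 := by
      rwa [Ne, map_eq_zero_iff _ (RatFunc.algebraMap_injective k)]
    have h1 : w q * ((1 : k₂) ⊗ₜ[k] (algebraMap k[X] (RatFunc k) q)⁻¹) = 1 := by
      rw [hw, Algebra.TensorProduct.tmul_mul_tmul, one_mul, mul_inv_cancel₀ hq']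
      rfl
    calc t = t * (w q * ((1 : k₂) ⊗ₜ[k] (algebraMap k[X] (RatFunc k) q)⁻¹)) := by
          rw [h1, mul_one]
      _ = (t * w q) * ((1 : k₂) ⊗ₜ[k] (algebraMap k[X] (RatFunc k) q)⁻¹) := by rw [mul_assoc]
      _ = 0 := by rw [ht, zero_mul]
  have hιw : ∀ q, ι ((1 : k₂) ⊗ₜ[k] q) = w q := fun q => by rw [hι_def, hw]
  have key : ∀ t : k₂ ⊗[k] RatFunc k, ∃ q : k[X], q ≠ 0 ∧ ∃ s : k₂ ⊗[k] k[X],
      t * w q = ι s := by
    intro t
    induction t using TensorProduct.induction_on with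
    | zero => exact ⟨1, one_ne_zero, 0, by rw [zero_mul, map_zero]⟩
    | tmul c r =>
      refine ⟨r.denom, RatFunc.denom_ne_zero r, c ⊗ₜ r.num, ?_⟩
      have hd' : algebraMap k[X] (RatFunc k) r.denom ≠ 0 := by
        rw [Ne, map_eq_zero_iff _ (RatFunc.algebraMap_injective k)]
        exact RatFunc.denom_ne_zero r
      have h := (div_eq_iff hd').mp (RatFunc.num_div_denom r)
      rw [hw, hι_def, Algebra.TensorProduct.tmul_mul_tmul, mul_one, h]
    | add t₁ t₂ h₁ h₂ =>
      obtain ⟨q₁, hq₁, s₁, e₁⟩ := h₁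
      obtain ⟨q₂, hq₂, s₂, e₂⟩ := h₂
      refine ⟨q₁ * q₂, mul_ne_zero hq₁ hq₂,
        s₁ * ((1 : k₂) ⊗ₜ[k] q₂) + s₂ * ((1 : k₂) ⊗ₜ[k] q₁), ?_⟩
      rw [map_add, map_mul, map_mul, ← e₁, ← e₂, hιw, hιw, hw_mul]
      ring
  haveI : Nontrivial (k₂ ⊗[k] RatFunc k) := by
    refine ⟨⟨0, 1, fun h => ?_⟩⟩
    have h1 : ι 0 = ι 1 := by rw [map_zero, map_one]; exact h
    exact zero_ne_one (hιinj h1)
  haveI : NoZeroDivisors (k₂ ⊗[k] RatFunc k) := by
    refine ⟨fun {t t'} htt => ?_⟩
    obtain ⟨q, hq, s, e⟩ := key t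
    obtain ⟨q', hq', s', e'⟩ := key t'
    have h1 : ι (s * s') = 0 := by
      rw [map_mul, ← e, ← e']
      calc t * w q * (t' * w q') = (t * t') * (w q * w q') := by ring
        _ = 0 := by rw [htt, zero_mul]
    have h2 : s * s' = 0 := hιinj (by rw [h1, map_zero])
    rcases mul_eq_zero.mp h2 with h | h
    · left; exact hw_unit q hq t (by rw [e, h, map_zero])
    · right; exact hw_unit q' hq' t' (by rw [e', h, map_zero])
  exact NoZeroDivisors.to_isDomain _

theorem isGeometric_ratFunc (k : Type u) [Field k] : IsGeometric k (RatFunc k) := by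
  intro k' _ _ hfd
  haveI := hfd
  haveI := isDomain_tensor_ratFunc k k'
  exact Algebra.TensorProduct.isField_of_isAlgebraic k k' (RatFunc k) (Or.inl inferInstance)

end geom

section setup

variable {k : Type u} {K : Type v} [Field k] [Field K] [Algebra k K] [Algebra (RatFunc k) K]
  [IsScalarTower k (RatFunc k) K]

theorem transcendental_x : Transcendental k (algebraMap (RatFunc k) K RatFunc.X) := by
  intro h
  exact FG.transcendental_X ((isAlgebraic_algHom_iff (IsScalarTower.toAlgHom k (RatFunc k) K)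
    (algebraMap (RatFunc k) K).injective).1 h)

theorem aeval_x (p : k[X]) : aeval (algebraMap (RatFunc k) K RatFunc.X) p =
    algebraMap (RatFunc k) K (algebraMap k[X] (RatFunc k) p) := by
  have h := Polynomial.aeval_algHom_apply (IsScalarTower.toAlgHom k (RatFunc k) K) RatFunc.X p
  rw [RatFunc.aeval_X_left_eq_algebraMap] at h
  exact h

theorem y_not_mem_range {y : K} (f : k[X]) (hf : Squarefree f) (hd : 1 ≤ f.natDegree)
    (heq : y ^ 2 = algebraMap (RatFunc k) K (algebraMap k[X] (RatFunc k) f)) :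
    y ∉ Set.range (algebraMap (RatFunc k) K) := by
  rintro ⟨b, rfl⟩
  have hf0 : f ≠ 0 := by rintro rfl; simp at hd
  have hb2 : b ^ 2 = algebraMap k[X] (RatFunc k) f :=
    (algebraMap (RatFunc k) K).injective (by rw [map_pow]; exact heq)
  have hfF0 : algebraMap k[X] (RatFunc k) f ≠ 0 := by
    rwa [Ne, map_eq_zero_iff _ (RatFunc.algebraMap_injective k)]
  have hb0 : b ≠ 0 := by
    rintro rfl
    rw [zero_pow two_ne_zero] at hb2
    exact hfF0 hb2.symm
  have h := FF.ratFunc_sq_mul_ne f hf hd b⁻¹ 1 (by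
    rw [← hb2, inv_pow, inv_mul_cancel₀ (pow_ne_zero 2 hb0), map_one])
  exact inv_ne_zero hb0 h

theorem adjoin_eq_top (hdeg : Module.finrank (RatFunc k) K = 2) {y : K}
    (hy : y ∉ Set.range (algebraMap (RatFunc k) K)) :
    IntermediateField.adjoin k ({algebraMap (RatFunc k) K RatFunc.X, y} : Set K) = ⊤ := by
  rw [eq_top_iff]
  intro z _
  obtain ⟨a, b, rfl⟩ := HypGenus.exists_repr hdeg hy z
  have hp : ∀ p : k[X], algebraMap (RatFunc k) K (algebraMap k[X] (RatFunc k) p) ∈
      IntermediateField.adjoin k ({algebraMap (RatFunc k) K RatFunc.X, y} : Set K) := by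
    intro p
    rw [← aeval_x]
    apply IntermediateField.algebra_adjoin_le_adjoin k _
    exact Algebra.adjoin_mono (by simp) (Polynomial.aeval_mem_adjoin_singleton k _)
  have hr : ∀ r : RatFunc k, algebraMap (RatFunc k) K r ∈
      IntermediateField.adjoin k ({algebraMap (RatFunc k) K RatFunc.X, y} : Set K) := by
    intro r
    have e : algebraMap (RatFunc k) K r = algebraMap (RatFunc k) K (algebraMap k[X] _ r.num) /
        algebraMap (RatFunc k) K (algebraMap k[X] _ r.denom) := by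
      rw [← map_div₀, RatFunc.num_div_denom]
    rw [e]
    exact div_mem (hp _) (hp _)
  exact add_mem (hr a) (mul_mem (hr b) (IntermediateField.subset_adjoin k _ (by simp)))

theorem genus_eq (hK : IsFunctionField k K) (hdeg : Module.finrank (RatFunc k) K = 2)
    (h2 : ringChar k ≠ 2) (y : K) (f : k[X]) (hf : Squarefree f) (hd : 1 ≤ f.natDegree)
    (heq : y ^ 2 = algebraMap (RatFunc k) K (algebraMap k[X] (RatFunc k) f)) :
    genus k K = (f.natDegree - 1) / 2 :=
  HypGenus.s11014 k K hK h2 _ y transcendental_x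
    (adjoin_eq_top hdeg (y_not_mem_range f hf hd heq)) f hf hd (by rw [aeval_x]; exact heq)

theorem isGeometric (hK : IsFunctionField k K) (hdeg : Module.finrank (RatFunc k) K = 2)
    (h2 : ringChar k ≠ 2) : IsGeometric k K := by
  have hK₁ : IsFunctionField k (RatFunc k) := FF.isFunctionField_ratFunc
  have h2F : (2 : RatFunc k) ≠ 0 := by
    have h20 : (2 : k) ≠ 0 := Ring.two_ne_zero h2
    intro h
    apply h20
    have h3 : algebraMap k (RatFunc k) 2 = 0 := by rw [map_ofNat]; exact h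
    exact (map_eq_zero _).mp h3
  haveI : FiniteDimensional (RatFunc k) K :=
    Module.finite_of_finrank_pos (by rw [hdeg]; norm_num)
  haveI : Algebra.IsSeparable (RatFunc k) K := HypGenus.isSeparable_of_finrank_two h2F hdeg
  have hK₀ : IsFunctionField k (ASDiff.baseImg k (RatFunc k) K) :=
    ASDiff.isFunctionField_baseImg hK hK₁
  have hg₀ : IsGeometric k (ASDiff.baseImg k (RatFunc k) K) := by
    intro k' _ _ hfd
    have h := isGeometric_ratFunc k k' hfd
    exact MulEquiv.isField h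
      (Algebra.TensorProduct.congr (AlgEquiv.refl : k' ≃ₐ[k] k')
        (ASDiff.baseEquiv k (RatFunc k) K).symm).toMulEquiv
  haveI := ASDiff.finite_baseImg (k := k) (K₁ := RatFunc k) (K := K)
  haveI := ASDiff.separable_baseImg (k := k) (K₁ := RatFunc k) (K := K)
  exact GeoSep.s11010 k k (ASDiff.baseImg k (RatFunc k) K) K hK₀ hg₀ hK

end setup

section loc

variable {F : Type*} [Field F]

theorem val_D_le (f : LaurentSeries F) (n : ℤ) (h : Valued.v f ≤ WithZero.exp (-n)) :
    Valued.v (LocRes.D F f) ≤ WithZero.exp (-(n - 1)) := by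
  rw [LaurentSeries.valuation_le_iff_coeff_lt_eq_zero F] at h ⊢
  intro m hm
  rw [LocRes.D_coeff, h (m + 1) (by omega), smul_zero]

theorem val_D_le_one (f : LaurentSeries F) (h : Valued.v f ≤ 1) :
    Valued.v (LocRes.D F f) ≤ 1 := by
  have h' : Valued.v f ≤ WithZero.exp (-(0 : ℤ)) := by
    rw [neg_zero, WithZero.exp_zero]; exact h
  have key : Valued.v (LocRes.D F f) ≤ WithZero.exp (-(0 : ℤ)) := by
    rw [LaurentSeries.valuation_le_iff_coeff_lt_eq_zero F] at h' ⊢
    intro m hm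
    rw [LocRes.D_coeff]
    by_cases h1 : m + 1 < 0
    · rw [h' (m + 1) h1, smul_zero]
    · have : m + 1 = 0 := by omega
      rw [this, zero_smul]
  rwa [neg_zero, WithZero.exp_zero] at key

end loc

section cases

variable {k : Type u} {K : Type v} [Field k] [Field K] [Algebra k K] [Algebra (RatFunc k) K]
  [IsScalarTower k (RatFunc k) K] {F : Type w} [Field F] [Algebra k F]

theorem y_ne_zero {y : K} (f : k[X]) (hd : 1 ≤ f.natDegree)
    (heq : y ^ 2 = algebraMap (RatFunc k) K (algebraMap k[X] (RatFunc k) f)) : y ≠ 0 := by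
  rintro rfl
  have hf0 : f ≠ 0 := by rintro rfl; simp at hd
  rw [zero_pow two_ne_zero] at heq
  have h1 : algebraMap k[X] (RatFunc k) f = 0 :=
    (algebraMap (RatFunc k) K).injective (heq.symm.trans (map_zero _).symm)
  exact hf0 (RatFunc.algebraMap_injective k (h1.trans (map_zero _).symm))

/-- at a zero of `y` (a finite ramified place) `y` is a uniformizer and `dx` vanishes to first
order -/
theorem val_D_x_of_y_lt (hdeg : Module.finrank (RatFunc k) K = 2) (h2 : ringChar k ≠ 2)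
    (y : K) (f : k[X]) (hf : Squarefree f) (hd : 1 ≤ f.natDegree)
    (heq : y ^ 2 = algebraMap (RatFunc k) K (algebraMap k[X] (RatFunc k) f))
    (P : Place k K) (φ : K →ₐ[k] LaurentSeries F) (hφ : LocRes.IsExpansionAt P.1 φ)
    (hyP : P.1 y < 1) :
    P.1 y = WithZero.exp (-1 : ℤ) ∧
      Valued.v (LocRes.D F (φ (algebraMap (RatFunc k) K RatFunc.X))) = WithZero.exp (-1 : ℤ) := by
  classical
  obtain ⟨x, hx_def⟩ : ∃ x : K, x = algebraMap (RatFunc k) K RatFunc.X := ⟨_, rfl⟩
  rw [← hx_def]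
  have h20 : (2 : k) ≠ 0 := Ring.two_ne_zero h2
  have hf0 : f ≠ 0 := by rintro rfl; simp at hd
  have hfK : algebraMap (RatFunc k) K (algebraMap k[X] (RatFunc k) f) = aeval x f := by
    rw [hx_def, aeval_x]
  have hy0 : y ≠ 0 := y_ne_zero f hd heq
  have hord := FG.hyperelliptic_ord_y hdeg y f hf heq P
  have hpos : 0 < P.ord y := (FF.ord_pos_iff P hy0).2 hyP
  have hy1 : P.1 y = WithZero.exp (-1 : ℤ) := by
    rw [FF.val_eq_exp_neg_ord P hy0, hord.1 hpos]
  obtain ⟨P₀, hover, hX, hfpos⟩ := hord.2.1 hpos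
  have hfF0 : algebraMap k[X] (RatFunc k) f ≠ 0 := by
    rwa [Ne, map_eq_zero_iff _ (RatFunc.algebraMap_injective k)]
  obtain ⟨p, hp, hpf, hP₀⟩ := FG.exists_irreducible_factor_val_lt_one P₀ f hf0
    ((FG.ord_pos_iff P₀ hfF0).1 hfpos)
  have he2 : IsOverWith P P₀ 2 :=
    ((FG.hyperelliptic_ramified hdeg y f hf heq p hp hpf P₀ hP₀).2 P hover).1
  have hx1 : P.1 x ≤ 1 := by
    rw [hx_def, he2]
    exact pow_le_one₀ zero_le ((FG.ord_nonneg_iff P₀ RatFunc.X_ne_zero).1 hX)
  have hK1 : KaehlerDifferential.D k K (y ^ 2) = (2 * y) • KaehlerDifferential.D k K y := by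
    rw [sq, Derivation.leibniz, ← add_smul, ← two_mul]
  have hK2 : KaehlerDifferential.D k K (aeval x f) =
      aeval x (derivative f) • KaehlerDifferential.D k K x :=
    Derivation.map_aeval _ f x
  have E1 := DiffExp.D_exp_of_kaehler φ hK1
  have E2 := DiffExp.D_exp_of_kaehler φ hK2
  rw [heq, hfK] at E1
  rw [E1] at E2
  have hv := congrArg Valued.v E2
  have h2K : P.1 (2 : K) = 1 := by
    have e : (2 : K) = algebraMap k K 2 := (map_ofNat _ 2).symm
    rw [e]; exact FF.val_algebraMap P h20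
  have hDy : Valued.v (LocRes.D F (φ y)) = 1 :=
    Wr.val_D_of_val_eq F (φ y) (by rw [hφ.1]; exact hy1)
  rw [Valuation.map_mul, Valuation.map_mul, hφ.1, hφ.1, Valuation.map_mul, h2K, one_mul, hy1, hDy,
    mul_one] at hv
  -- the value of `f'(x)` is an even power
  obtain ⟨a, ha⟩ : ∃ a, a = P₀.1 (algebraMap k[X] (RatFunc k) (derivative f)) := ⟨_, rfl⟩
  have hfx' : P.1 (aeval x (derivative f)) = a ^ 2 := by
    rw [hx_def, aeval_x, he2, ha]
  obtain ⟨dx, hdx⟩ : ∃ dx, dx = Valued.v (LocRes.D F (φ x)) := ⟨_, rfl⟩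
  rw [hfx', ← hdx] at hv
  have hdx1 : dx ≤ 1 := by
    rw [hdx]
    exact val_D_le_one _ (by rw [hφ.1]; exact hx1)
  have ha1 : a ≤ 1 := by
    have h : a ^ 2 ≤ 1 := by rw [← hfx']; exact HypGenus.val_aeval_le_one P hx1 _
    exact (pow_le_one_iff_of_nonneg zero_le two_ne_zero).mp h
  have ha0 : a ≠ 0 := by
    rintro rfl
    rw [zero_pow two_ne_zero, zero_mul] at hv
    exact WithZero.exp_ne_zero hv
  have hdx0 : dx ≠ 0 := by
    rintro rfl
    rw [mul_zero] at hv
    exact WithZero.exp_ne_zero hv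
  have ea := (WithZero.exp_log ha0).symm
  have ed := (WithZero.exp_log hdx0).symm
  have hla : WithZero.log a ≤ 0 := by
    rw [ea, ← WithZero.exp_zero, WithZero.exp_le_exp] at ha1; exact ha1
  have hld : WithZero.log dx ≤ 0 := by
    rw [ed, ← WithZero.exp_zero, WithZero.exp_le_exp] at hdx1; exact hdx1
  rw [ea, ed, ← WithZero.exp_nsmul, ← WithZero.exp_add] at hv
  have hsum := WithZero.exp_injective hv
  simp only [nsmul_eq_mul, Nat.cast_ofNat] at hsum
  refine ⟨hy1, ?_⟩
  rw [← hdx, ed]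
  congr 1
  omega

/-- at a pole of `x`: the ramification index, the values of `x` and `y`, and a bound for `dx` -/
theorem val_at_inf (hdeg : Module.finrank (RatFunc k) K = 2) (h2 : ringChar k ≠ 2)
    (y : K) (f : k[X]) (hf : Squarefree f) (hd : 1 ≤ f.natDegree)
    (heq : y ^ 2 = algebraMap (RatFunc k) K (algebraMap k[X] (RatFunc k) f))
    (P : Place k K) (φ : K →ₐ[k] LaurentSeries F) (hφ : LocRes.IsExpansionAt P.1 φ)
    (hxP : 1 < P.1 (algebraMap (RatFunc k) K RatFunc.X)) :
    ∃ e : ℕ, (Odd f.natDegree → e = 2) ∧ (Even f.natDegree → e = 1) ∧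
      P.1 (algebraMap (RatFunc k) K RatFunc.X) = WithZero.exp (e : ℤ) ∧
      P.1 y ^ 2 = WithZero.exp ((e : ℤ) * f.natDegree) ∧
      Valued.v (LocRes.D F (φ (algebraMap (RatFunc k) K RatFunc.X))) ≤
        WithZero.exp ((e : ℤ) + 1) := by
  classical
  obtain ⟨x, hx_def⟩ : ∃ x : K, x = algebraMap (RatFunc k) K RatFunc.X := ⟨_, rfl⟩
  rw [← hx_def] at hxP ⊢
  have hK₀ : IsFunctionField k (RatFunc k) := FF.isFunctionField_ratFunc
  haveI : FiniteDimensional (RatFunc k) K :=
    Module.finite_of_finrank_pos (by rw [hdeg]; norm_num)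
  have hf0 : f ≠ 0 := by rintro rfl; simp at hd
  obtain ⟨P₀, e, he⟩ := FG.exists_isOverWith hK₀.1 P
  have he0 : e ≠ 0 := FG.isOverWith_pos he
  have hX0 : (RatFunc.X : RatFunc k) ≠ 0 := RatFunc.X_ne_zero
  have hinf : P₀.ord (RatFunc.X : RatFunc k) < 0 := by
    rw [FG.ord_neg_iff P₀ hX0]
    by_contra h
    rw [not_lt] at h
    rw [hx_def, he] at hxP
    exact absurd hxP (not_lt.mpr (pow_le_one₀ zero_le h))
  obtain ⟨hordX, -⟩ := FG.ord_X_inf P₀ hinf
  have hvX : P₀.1 (RatFunc.X : RatFunc k) = WithZero.exp (1 : ℤ) := by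
    rw [FG.val_eq_exp_neg_ord P₀ hX0, hordX]; rfl
  have hxval : P.1 x = WithZero.exp (e : ℤ) := by
    rw [hx_def, he, hvX, ← WithZero.exp_nsmul]
    congr 1
    simp
  have hinfo := FG.hyperelliptic_infinite h2 hdeg y f hf hd heq P₀ hinf
  refine ⟨e, fun hodd => ?_, fun heven => ?_, hxval, ?_, ?_⟩
  · exact FG.isOverWith_unique he ((hinfo.1 hodd).2 P ⟨e, he⟩).1
  · exact FG.isOverWith_unique he ((hinfo.2 heven).2 P ⟨e, he⟩)
  · rw [← map_pow, heq, he, FG.val_polynomial_inf P₀ hinf hf0, ← WithZero.exp_nsmul]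
    congr 1
  · obtain ⟨u, hu⟩ : ∃ u : K, u = x⁻¹ := ⟨_, rfl⟩
    have hKd : KaehlerDifferential.D k K x = (-(x ^ 2)) • KaehlerDifferential.D k K u := by
      have h := Derivation.leibniz_inv (KaehlerDifferential.D k K) u
      rw [hu, inv_inv] at h
      rw [hu]
      exact h
    have E := DiffExp.D_exp_of_kaehler φ hKd
    have hu_val : Valued.v (φ u) ≤ WithZero.exp (-(e : ℤ)) := by
      rw [hφ.1, hu, map_inv₀, hxval, ← WithZero.exp_neg]
    have hDu := val_D_le (φ u) e hu_val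
    rw [E, map_mul, hφ.1, Valuation.map_neg, map_pow, hxval]
    calc WithZero.exp (e : ℤ) ^ 2 * Valued.v (LocRes.D F (φ u))
        ≤ WithZero.exp (e : ℤ) ^ 2 * WithZero.exp (-((e : ℤ) - 1)) := mul_le_mul' le_rfl hDu
      _ = WithZero.exp ((e : ℤ) + 1) := by
        rw [← WithZero.exp_nsmul, ← WithZero.exp_add]
        congr 1
        simp only [nsmul_eq_mul, Nat.cast_ofNat]
        ring

theorem s12584 (k : Type u) (K : Type v) [Field k] [Field K] [Algebra k K]
    [Algebra (RatFunc k) K] [IsScalarTower k (RatFunc k) K]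
    (hK : FunFld.IsFunctionField k K) (hdeg : Module.finrank (RatFunc k) K = 2)
    (h2 : ringChar k ≠ 2)
    (y : K) (f : Polynomial k) (hf : Squarefree f) (hd : 1 ≤ f.natDegree)
    (heq : y ^ 2 = algebraMap (RatFunc k) K (algebraMap (Polynomial k) (RatFunc k) f))
    (F : FunFld.Place k K → Type w) [∀ P, Field (F P)] [∀ P, Algebra k (F P)]
    [∀ P, FiniteDimensional k (F P)]
    (φ : ∀ P, K →ₐ[k] LaurentSeries (F P)) (hφ : ∀ P, LocRes.IsExpansionAt P.1 (φ P)) :
    (∀ i : ℕ, i < FunFld.genus k K → ∀ P,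
      LocRes.vDiff (φ P) (algebraMap (RatFunc k) K RatFunc.X ^ i / y)
        (algebraMap (RatFunc k) K RatFunc.X) ≤ 1) ∧
    ∀ z : K, (∀ P, LocRes.vDiff (φ P) z (algebraMap (RatFunc k) K RatFunc.X) ≤ 1) →
      ∃ a : Polynomial k, a.degree < (FunFld.genus k K : WithBot ℕ) ∧
        z = algebraMap (RatFunc k) K (algebraMap (Polynomial k) (RatFunc k) a) / y := by
  classical
  obtain ⟨x, hx_def⟩ : ∃ x : K, x = algebraMap (RatFunc k) K RatFunc.X := ⟨_, rfl⟩
  rw [← hx_def]
  have hgeo := isGeometric hK hdeg h2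
  have hgen := genus_eq hK hdeg h2 y f hf hd heq
  have hxtr : Transcendental k x := hx_def ▸ transcendental_x
  have hinj : Function.Injective (aeval (R := k) x) := transcendental_iff_injective.mp hxtr
  have hy0 : y ≠ 0 := y_ne_zero f hd heq
  have hf0 : f ≠ 0 := by rintro rfl; simp at hd
  have hfK : y ^ 2 = aeval x f := by rw [heq, hx_def, aeval_x]
  have hy_le : ∀ P : Place k K, P.1 x ≤ 1 → P.1 y ≤ 1 := by
    intro P hx1
    have h : P.1 y ^ 2 ≤ 1 := by rw [← map_pow, hfK]; exact HypGenus.val_aeval_le_one P hx1 f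
    exact (pow_le_one_iff_of_nonneg zero_le two_ne_zero).mp h
  obtain ⟨d, hd_def⟩ : ∃ d, d = f.natDegree := ⟨_, rfl⟩
  obtain ⟨g, hg_def⟩ : ∃ g, g = genus k K := ⟨_, rfl⟩
  rw [← hg_def]
  rw [← hg_def, ← hd_def] at hgen
  have hd1 : 1 ≤ d := hd_def ▸ hd
  have claim1 : ∀ i : ℕ, i < g → ∀ P, LocRes.vDiff (φ P) (x ^ i / y) x ≤ 1 := by
    intro i hi P
    unfold LocRes.vDiff
    rw [Valuation.map_mul, (hφ P).1, map_div₀, map_pow]
    by_cases hx1 : P.1 x ≤ 1
    · by_cases hy1 : P.1 y < 1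
      · obtain ⟨hyv, hdx⟩ := val_D_x_of_y_lt hdeg h2 y f hf hd heq P (φ P) (hφ P) hy1
        rw [← hx_def] at hdx
        rw [hdx, hyv, div_mul_cancel₀ _ WithZero.exp_ne_zero]
        exact pow_le_one' hx1 i
      · have hy1' : P.1 y = 1 := le_antisymm (hy_le P hx1) (not_lt.mp hy1)
        rw [hy1', div_one]
        exact mul_le_one' (pow_le_one' hx1 i)
          (val_D_le_one _ (by rw [(hφ P).1]; exact hx1))
    · rw [not_le] at hx1
      obtain ⟨e, hodd, heven, hxv, hyv, hdx⟩ :=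
        val_at_inf hdeg h2 y f hf hd heq P (φ P) (hφ P) (hx_def ▸ hx1)
      rw [← hx_def] at hxv hdx
      rw [← hd_def] at hodd heven hyv
      have hypos : 0 < P.1 y := FF.val_pos P hy0
      rw [div_mul_eq_mul_div, div_le_one₀ hypos]
      refine (pow_le_pow_iff_left₀ zero_le zero_le (two_ne_zero (α := ℕ))).mp ?_
      rw [hyv, mul_pow, hxv]
      calc (WithZero.exp (e : ℤ) ^ i) ^ 2 * Valued.v (LocRes.D (F P) ((φ P) x)) ^ 2
          ≤ (WithZero.exp (e : ℤ) ^ i) ^ 2 * WithZero.exp ((e : ℤ) + 1) ^ 2 :=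
            mul_le_mul' le_rfl (pow_le_pow_left' hdx 2)
        _ = WithZero.exp (2 * (e : ℤ) * i + 2 * e + 2) := by
            simp only [← WithZero.exp_nsmul, ← WithZero.exp_add]
            congr 1
            simp only [nsmul_eq_mul, Nat.cast_ofNat]
            ring
        _ ≤ WithZero.exp ((e : ℤ) * d) := by
            rw [WithZero.exp_le_exp]
            rcases Nat.even_or_odd d with hev | hod
            · have he1 := heven hev
              obtain ⟨m, hm⟩ := hev
              subst he1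
              push_cast
              omega
            · have he2 := hodd hod
              obtain ⟨m, hm⟩ := hod
              subst he2
              push_cast
              omega
  refine ⟨claim1, ?_⟩
  intro z hz
  -- `dx ≠ 0`
  have hytr : Transcendental k y := by
    intro halg
    obtain ⟨c, hc⟩ := hK.2 y halg
    have h1 : aeval x f = aeval x (C (c ^ 2)) := by
      rw [← hfK, aeval_C, map_pow, hc]
    have h3 := hinj h1
    rw [h3, natDegree_C] at hd
    omega
  have hDx : KaehlerDifferential.D k K x ≠ 0 := by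
    obtain ⟨P, hP⟩ := FF.exists_place_val_lt_one hK hytr
    obtain ⟨-, hdx⟩ := val_D_x_of_y_lt hdeg h2 y f hf hd heq P (φ P) (hφ P) hP
    apply RHurwitz.D_ne_zero_of_vDiff (φ P)
    rw [DiffExp.vDiff_one_eq, hx_def, hdx]
    exact WithZero.exp_ne_zero
  obtain ⟨W, hW⟩ : ∃ W : Submodule k K, W = TateW2.OmD φ x 0 := ⟨_, rfl⟩
  have hmemW : ∀ w : K, w ∈ W ↔ ∀ P, LocRes.vDiff (φ P) w x ≤ 1 := by
    intro w
    rw [hW, TateW2.mem_OmD]
    simp only [Finsupp.coe_zero, Pi.zero_apply, neg_zero, WithZero.exp_zero]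
  obtain ⟨eW⟩ := TateW2.exists_equiv_WD hK hgeo φ hφ hDx (0 : Divisor k K)
  rw [← hW] at eW
  obtain ⟨hWDfin, hWDrank⟩ := FF.finrank_WD hK (0 : Divisor k K)
  haveI : FiniteDimensional k W := Module.Finite.equiv eW.symm
  have hWrank : Module.finrank k W = g := by
    rw [eW.finrank_eq]
    rw [FF.ell_zero hK, FF.deg_zero] at hWDrank
    have h3 : (Module.finrank k (WD (0 : Divisor k K)) : ℤ) = genus k K := by
      rw [hWDrank]; push_cast; ring
    rw [hg_def]
    exact_mod_cast h3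
  obtain ⟨Ψ₀, hΨ₀⟩ : ∃ Ψ₀ : degreeLT k g →ₗ[k] K, ∀ a, Ψ₀ a = aeval x a.1 / y :=
    ⟨(LinearMap.mulRight k y⁻¹).comp ((aeval (R := k) x).toLinearMap.comp (degreeLT k g).subtype),
      fun a => (div_eq_mul_inv _ _).symm⟩
  have hmemΨ : ∀ a : degreeLT k g, Ψ₀ a ∈ W := by
    intro a
    rw [hΨ₀]
    by_cases ha0 : a.1 = 0
    · rw [ha0, map_zero, zero_div]; exact Submodule.zero_mem _
    have hlt : a.1.natDegree < g := by
      rw [Polynomial.natDegree_lt_iff_degree_lt ha0]; exact Polynomial.mem_degreeLT.mp a.2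
    have e : aeval x a.1 / y = ∑ i ∈ Finset.range g, a.1.coeff i • (x ^ i / y) := by
      rw [Polynomial.aeval_eq_sum_range' hlt, Finset.sum_div]
      refine Finset.sum_congr rfl fun i _ => ?_
      rw [smul_div_assoc]
    rw [e]
    exact Submodule.sum_mem _ fun i hi =>
      Submodule.smul_mem _ _ ((hmemW _).2 (claim1 i (Finset.mem_range.mp hi)))
  have hΨinj : Function.Injective (Ψ₀.codRestrict W hmemΨ) := by
    rw [injective_iff_map_eq_zero]
    intro a h0
    have h1 : Ψ₀ a = 0 := by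
      have := congrArg Subtype.val h0
      simpa using this
    rw [hΨ₀, div_eq_zero_iff] at h1
    rcases h1 with h1 | h1
    · exact Subtype.ext (hinj (by rw [h1]; exact (map_zero (aeval (R := k) x)).symm))
    · exact absurd h1 hy0
  have hVrank : Module.finrank k (degreeLT k g) = Module.finrank k W := by
    rw [hWrank, LinearEquiv.finrank_eq (Polynomial.degreeLTEquiv k g), Module.finrank_fin_fun]
  have hΨsurj := (LinearMap.injective_iff_surjective_of_finrank_eq_finrank hVrank).mp hΨinj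
  obtain ⟨a, ha⟩ := hΨsurj ⟨z, (hmemW z).2 hz⟩
  refine ⟨a.1, Polynomial.mem_degreeLT.mp a.2, ?_⟩
  have h1 : Ψ₀ a = z := congrArg Subtype.val ha
  rw [← h1, hΨ₀, hx_def, aeval_x]

end cases

end Groth.Agent.Helper6.HypDiff
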