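import Mathlib
import Groth.Agent.Helper6.ASGenus
import Groth.Agent.Helper6.HypDiff

set_option autoImplicit false
set_option linter.style.haveILetI false
set_option linter.unusedSectionVars false

/-!
# Regular differentials of an Artin–Schreier double cover of the line in characteristic two
-/

namespace Groth.Agent.Helper6.ASReg

open FunFld Polynomial
open Groth.Agent.Helper5
open scoped IntermediateField

universe u v w

section loc

variable {k : Type u} {K : Type v} [Field k] [Field K] [Algebra k K] {F : Type w} [Field F]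
  [Algebra k F]

/-- if `u² + Q(ξ) u = H(ξ)` in characteristic two with `u` a uniformizer, `ξ` integral and `H'(ξ)` a
unit, then `dξ` vanishes exactly as much as `Q(ξ)` -/
theorem local_key (h2K : (2 : K) = 0) (P : Place k K) (ψ : K →ₐ[k] LaurentSeries F)
    (hψ : LocRes.IsExpansionAt P.1 ψ) (ξ u : K) (Q H : k[X])
    (hrel : u ^ 2 + aeval ξ Q * u = aeval ξ H) (hξ : P.1 ξ ≤ 1)
    (hu : P.1 u = WithZero.exp (-1 : ℤ))
    (hH : P.1 (aeval ξ (derivative H)) = 1) :
    Valued.v (LocRes.D F (ψ ξ)) = P.1 (aeval ξ Q) := by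
  have hKQ : KaehlerDifferential.D k K (aeval ξ Q) =
      aeval ξ (derivative Q) • KaehlerDifferential.D k K ξ := Derivation.map_aeval _ Q ξ
  have hKH : KaehlerDifferential.D k K (aeval ξ H) =
      aeval ξ (derivative H) • KaehlerDifferential.D k K ξ := Derivation.map_aeval _ H ξ
  have hK1 : KaehlerDifferential.D k K (u ^ 2) = 0 := by
    rw [sq, Derivation.leibniz, ← add_smul, ← two_mul, h2K, zero_mul, zero_smul]
  obtain ⟨b, hb⟩ : ∃ b : K, b = aeval ξ (derivative H) - u * aeval ξ (derivative Q) := ⟨_, rfl⟩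
  have hrel' := congrArg (KaehlerDifferential.D k K) hrel
  rw [map_add, hK1, zero_add, Derivation.leibniz, hKQ, hKH] at hrel'
  have key : aeval ξ Q • KaehlerDifferential.D k K u = b • KaehlerDifferential.D k K ξ := by
    rw [hb, sub_smul, mul_smul, ← hrel', add_sub_cancel_right]
  have huQ : P.1 (u * aeval ξ (derivative Q)) < 1 := by
    rw [map_mul, hu]
    calc WithZero.exp (-1 : ℤ) * P.1 (aeval ξ (derivative Q))
        ≤ WithZero.exp (-1 : ℤ) * 1 := mul_le_mul' le_rfl (HypGenus.val_aeval_le_one P hξ _)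
      _ = WithZero.exp (-1 : ℤ) := mul_one _
      _ < 1 := by rw [← WithZero.exp_zero, WithZero.exp_lt_exp]; norm_num
  have hb1 : P.1 b = 1 := by
    rw [hb, Valuation.map_sub_eq_of_lt_left _ (by rw [hH]; exact huQ), hH]
  have hb0 : b ≠ 0 := by
    rintro h
    rw [h, map_zero] at hb1
    exact zero_ne_one hb1
  have hD : KaehlerDifferential.D k K ξ = (aeval ξ Q / b) • KaehlerDifferential.D k K u := by
    rw [div_eq_inv_mul, mul_smul, key, smul_smul, inv_mul_cancel₀ hb0, one_smul]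
  have E := DiffExp.D_exp_of_kaehler ψ hD
  have hDu : Valued.v (LocRes.D F (ψ u)) = 1 :=
    Wr.val_D_of_val_eq F (ψ u) (by rw [hψ.1]; exact hu)
  rw [E, map_mul, hψ.1, map_div₀, hb1, div_one, hDu, mul_one]

end loc

section rat

variable {k : Type u} [Field k]

theorem inf_unique (p p' : Place k (RatFunc k)) (hp : 1 < p.1 RatFunc.X)
    (hp' : 1 < p'.1 RatFunc.X) : p = p' := by
  have hX0 : (RatFunc.X : RatFunc k) ≠ 0 := RatFunc.X_ne_zero
  have hi := (FF.ord_neg_iff p hX0).2 hp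
  have hi' := (FF.ord_neg_iff p' hX0).2 hp'
  have hpoly : ∀ a : k[X], p.1 (algebraMap k[X] (RatFunc k) a) =
      p'.1 (algebraMap k[X] (RatFunc k) a) := by
    intro a
    by_cases ha : a = 0
    · rw [ha, map_zero, map_zero, map_zero]
    · rw [FG.val_polynomial_inf p hi ha, FG.val_polynomial_inf p' hi' ha]
  apply Subtype.ext
  ext r
  rw [← RatFunc.num_div_denom r, map_div₀, map_div₀, hpoly, hpoly]

theorem val_derivative_eq_one [PerfectField k] (p : Place k (RatFunc k)) (H : k[X])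
    (hH : p.1 (algebraMap k[X] (RatFunc k) H) = WithZero.exp (-1 : ℤ)) :
    p.1 (algebraMap k[X] (RatFunc k) (derivative H)) = 1 := by
  have hH0 : H ≠ 0 := by
    rintro rfl
    rw [map_zero, map_zero] at hH
    exact WithZero.exp_ne_zero hH.symm
  have hlt1 : (WithZero.exp (-1 : ℤ) : WithZero (Multiplicative ℤ)) < 1 := by
    rw [← WithZero.exp_zero, WithZero.exp_lt_exp]; norm_num
  have hlt : p.1 (algebraMap k[X] (RatFunc k) H) < 1 := by rw [hH]; exact hlt1
  obtain ⟨π, hirr, ⟨c, hc⟩, hπ⟩ := FG.exists_irreducible_factor_val_lt_one p H hH0 hlt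
  have hπ0 := hirr.ne_zero
  have hπv := FF.val_irreducible_eq p hirr hπ
  have hcv : p.1 (algebraMap k[X] (RatFunc k) c) = 1 := by
    rw [hc, map_mul, map_mul, hπv] at hH
    exact mul_left_cancel₀ WithZero.exp_ne_zero (hH.trans (mul_one _).symm)
  have hsep : π.Separable := PerfectField.separable_of_irreducible hirr
  have hπ' : p.1 (algebraMap k[X] (RatFunc k) (derivative π)) = 1 :=
    FF.val_eq_one_of_isCoprime p hπ0 hπ hsep
  have hc' : p.1 (algebraMap k[X] (RatFunc k) (derivative c)) ≤ 1 :=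
    FF.val_polynomial_le_one p hπ0 hπ _
  have h1 : p.1 (algebraMap k[X] (RatFunc k) (derivative π * c)) = 1 := by
    rw [map_mul, map_mul, hπ', hcv, one_mul]
  have h2 : p.1 (algebraMap k[X] (RatFunc k) (π * derivative c)) < 1 := by
    rw [map_mul, map_mul, hπv]
    calc WithZero.exp (-1 : ℤ) * p.1 (algebraMap k[X] (RatFunc k) (derivative c))
        ≤ WithZero.exp (-1 : ℤ) * 1 := mul_le_mul' le_rfl hc'
      _ = WithZero.exp (-1 : ℤ) := mul_one _
      _ < 1 := hlt1
  rw [hc, derivative_mul, map_add, Valuation.map_add_eq_of_lt_left _ (by rw [h1]; exact h2), h1]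

end rat

section main

variable {k : Type u} {K : Type v} [Field k] [Field K] [Algebra k K] [Algebra (RatFunc k) K]
  [IsScalarTower k (RatFunc k) K]

local notation "ι" => algebraMap (RatFunc k) K
local notation "alg" => algebraMap (Polynomial k) (RatFunc k)

theorem val_y {y : K} {f : RatFunc k} (heq : y ^ 2 + y = ι f) (Q : Place k K) :
    (Q.1 (ι f) ≤ 1 → Q.1 y ≤ 1) ∧ (1 < Q.1 (ι f) → Q.1 y ^ 2 = Q.1 (ι f)) := by
  have key : 1 < Q.1 y → Q.1 (ι f) = Q.1 y ^ 2 ∧ 1 < Q.1 y ^ 2 := by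
    intro hy1
    have hlt : Q.1 y < Q.1 (y ^ 2) := by
      rw [map_pow, pow_two]
      calc Q.1 y = 1 * Q.1 y := (one_mul _).symm
        _ < Q.1 y * Q.1 y := mul_lt_mul_of_pos_right hy1 (lt_trans zero_lt_one hy1)
    rw [← heq, Valuation.map_add_eq_of_lt_left _ hlt, map_pow]
    exact ⟨rfl, one_lt_pow₀ hy1 two_ne_zero⟩
  constructor
  · intro hf1
    by_contra hy1
    rw [not_le] at hy1
    obtain ⟨e1, e2⟩ := key hy1
    rw [e1] at hf1
    exact absurd e2 (not_lt.mpr hf1)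
  · intro hf1
    have hy1 : 1 < Q.1 y := by
      by_contra hle
      rw [not_lt] at hle
      have : Q.1 (ι f) ≤ 1 := by
        rw [← heq]
        refine (Q.1.map_add _ _).trans (max_le ?_ hle)
        rw [map_pow]; exact pow_le_one₀ zero_le hle
      exact absurd hf1 (not_lt.mpr this)
    exact (key hy1).1.symm

theorem val_y_pole (h2 : ringChar k = 2) (hdeg : Module.finrank (RatFunc k) K = 2) {y : K}
    (hy : y ∉ Set.range ι) {f : RatFunc k} (heq : y ^ 2 + y = ι f)
    (p : Place k (RatFunc k)) (hneg : p.ord f < 0) (hodd : Odd (p.ord f)) (Q : Place k K)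
    (hQ : IsOver Q p) : f ≠ 0 ∧ IsOverWith Q p 2 ∧ Q.1 y = p.1 f := by
  have hf0 : f ≠ 0 := by
    rintro rfl
    rw [FF.ord_zero] at hneg
    exact lt_irrefl _ hneg
  have hram := (FG.artin_schreier_ramification h2 hdeg y hy f heq p).1 ⟨hneg, hodd⟩
  have he2 := (hram.2 Q hQ).1
  refine ⟨hf0, he2, ?_⟩
  have hf1 : 1 < p.1 f := (FF.ord_neg_iff p hf0).1 hneg
  have hQf : Q.1 (ι f) = p.1 f ^ 2 := he2 f
  have h1 : 1 < Q.1 (ι f) := by rw [hQf]; exact one_lt_pow₀ hf1 two_ne_zero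
  have h3 := (val_y heq Q).2 h1
  rw [hQf] at h3
  exact (pow_left_inj₀ zero_le zero_le two_ne_zero).1 h3

theorem two_eq_zero (h2 : ringChar k = 2) : (2 : K) = 0 := by
  have h2k : (2 : k) = 0 := by
    have := ringChar.spec k 2
    have h3 : ((2 : ℕ) : k) = 0 := this.mpr (by rw [h2])
    exact_mod_cast h3
  rw [← map_ofNat (algebraMap k K) 2, h2k, map_zero]

theorem D_x_ne_zero [Algebra.IsSeparable (RatFunc k) K] :
    KaehlerDifferential.D k K (ι RatFunc.X) ≠ 0 := by
  haveI : Algebra.FormallyEtale (RatFunc k) K :=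
    Algebra.FormallyEtale.of_isSeparable (RatFunc k) K
  intro h0
  have h1 := KaehlerDifferential.tensorKaehlerEquivOfFormallyEtale_symm_D_algebraMap k
    (RatFunc k) K RatFunc.X
  rw [h0, map_zero] at h1
  have h2 : KaehlerDifferential.D k (RatFunc k) RatFunc.X = 0 := by
    have hinj := Module.Flat.tensorProduct_mk_injective (R := RatFunc k) (S := K)
      (M := KaehlerDifferential k (RatFunc k))
    apply hinj
    rw [map_zero]
    exact h1.symm
  exact FF.D_X_ne_zero k h2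

/-- at a ramified place over a finite pole of `f`, `dx` vanishes like `q(x)` -/
theorem val_D_x_finite_pole [PerfectField k] {F : Type w} [Field F] [Algebra k F]
    (h2 : ringChar k = 2) (hdeg : Module.finrank (RatFunc k) K = 2) {y : K}
    (hy : y ∉ Set.range ι) {f : RatFunc k} (heq : y ^ 2 + y = ι f)
    (q H : k[X]) (hHq : alg H = alg q ^ 2 * f)
    (p : Place k (RatFunc k)) (hp : 1 < p.1 f) (hodd : Odd (p.ord f))
    (hqp : p.ord (alg q) = (1 - p.ord f) / 2) (hpX : p.1 RatFunc.X ≤ 1)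
    (P : Place k K) (e : ℕ) (he : IsOverWith P p e)
    (ψ : K →ₐ[k] LaurentSeries F) (hψ : LocRes.IsExpansionAt P.1 ψ) :
    Valued.v (LocRes.D F (ψ (ι RatFunc.X))) = P.1 (ι (alg q)) := by
  have hf0 : f ≠ 0 := by
    rintro rfl
    rw [map_zero] at hp
    exact absurd hp (not_lt.2 zero_le)
  have hneg : p.ord f < 0 := (FF.ord_neg_iff p hf0).2 hp
  obtain ⟨-, he2, hPy⟩ := val_y_pole h2 hdeg hy heq p hneg hodd P ⟨e, he⟩
  obtain ⟨t, ht⟩ := hodd
  have hq'0 : alg q ≠ 0 := by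
    intro h0
    rw [h0, FF.ord_zero] at hqp
    omega
  have h2K : (2 : K) = 0 := two_eq_zero h2
  have hvq : p.1 (alg q) = WithZero.exp (-((1 - p.ord f) / 2)) := by
    rw [FF.val_eq_exp_neg_ord p hq'0, hqp]
  have hvf : p.1 f = WithZero.exp (-(p.ord f)) := FF.val_eq_exp_neg_ord p hf0
  have hvH : p.1 (alg H) = WithZero.exp (-1 : ℤ) := by
    rw [hHq, map_mul, map_pow, hvq, hvf, ← WithZero.exp_nsmul, ← WithZero.exp_add]
    congr 1
    simp only [nsmul_eq_mul, Nat.cast_ofNat]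
    omega
  have hrel : (y * ι (alg q)) ^ 2 + aeval (ι RatFunc.X) q * (y * ι (alg q)) =
      aeval (ι RatFunc.X) H := by
    rw [HypDiff.aeval_x, HypDiff.aeval_x, hHq, map_mul, map_pow, ← heq]
    ring
  have hξ : P.1 (ι RatFunc.X) ≤ 1 := by rw [he2 RatFunc.X]; exact pow_le_one₀ zero_le hpX
  have hu : P.1 (y * ι (alg q)) = WithZero.exp (-1 : ℤ) := by
    rw [map_mul, hPy, he2 (alg q), hvq, hvf, ← WithZero.exp_nsmul, ← WithZero.exp_add]
    congr 1
    simp only [nsmul_eq_mul, Nat.cast_ofNat]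
    omega
  have hH' : P.1 (aeval (ι RatFunc.X) (derivative H)) = 1 := by
    rw [HypDiff.aeval_x, he2, val_derivative_eq_one p H hvH, one_pow]
  have h := local_key h2K P ψ hψ (ι RatFunc.X) (y * ι (alg q)) q H hrel hξ hu hH'
  rw [h, HypDiff.aeval_x]

/-- at the ramified place over infinity when `f` has an odd pole there -/
theorem val_D_x_inf_pole {F : Type w} [Field F] [Algebra k F]
    (h2 : ringChar k = 2) (hdeg : Module.finrank (RatFunc k) K = 2) {y : K}
    (hy : y ∉ Set.range ι) {f : RatFunc k} (heq : y ^ 2 + y = ι f)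
    (p : Place k (RatFunc k)) (hpX : 1 < p.1 RatFunc.X) (hp : 1 < p.1 f) (hodd : Odd (p.ord f))
    (P : Place k K) (hP : IsOver P p)
    (ψ : K →ₐ[k] LaurentSeries F) (hψ : LocRes.IsExpansionAt P.1 ψ) :
    IsOverWith P p 2 ∧ P.1 (ι RatFunc.X) = WithZero.exp (2 : ℤ) ∧
      Valued.v (LocRes.D F (ψ (ι RatFunc.X))) = WithZero.exp (3 + p.ord f) := by
  have hX0 : (RatFunc.X : RatFunc k) ≠ 0 := RatFunc.X_ne_zero
  have hf0 : f ≠ 0 := by
    rintro rfl
    rw [map_zero] at hp
    exact absurd hp (not_lt.2 zero_le)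
  have hneg : p.ord f < 0 := (FF.ord_neg_iff p hf0).2 hp
  obtain ⟨-, he2, hPy⟩ := val_y_pole h2 hdeg hy heq p hneg hodd P hP
  have hinf : p.ord (RatFunc.X : RatFunc k) < 0 := (FF.ord_neg_iff p hX0).2 hpX
  obtain ⟨hordX, -⟩ := FG.ord_X_inf p hinf
  have hvX : p.1 (RatFunc.X : RatFunc k) = WithZero.exp (1 : ℤ) := by
    rw [FF.val_eq_exp_neg_ord p hX0, hordX]; rfl
  have hxv : P.1 (ι RatFunc.X) = WithZero.exp (2 : ℤ) := by
    rw [he2 RatFunc.X, hvX, ← WithZero.exp_nsmul]; rfl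
  refine ⟨he2, hxv, ?_⟩
  have h2K : (2 : K) = 0 := two_eq_zero h2
  obtain ⟨N, M, hN0, hM0, hfNM⟩ : ∃ N M : k[X], N ≠ 0 ∧ M ≠ 0 ∧ f = alg N / alg M :=
    ⟨f.num, f.denom, RatFunc.num_ne_zero hf0, f.denom_ne_zero, (RatFunc.num_div_denom f).symm⟩
  have hvN := FG.val_polynomial_inf p hinf hN0
  have hvM := FG.val_polynomial_inf p hinf hM0
  have hford : p.ord f = -((N.natDegree : ℤ) - M.natDegree) := by
    apply FF.ord_eq_of_val_eq
    rw [hfNM, map_div₀, hvN, hvM, WithZero.exp_sub]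
  obtain ⟨t, ht⟩ := hodd
  obtain ⟨s, hs⟩ : ∃ s : ℕ, (s : ℤ) = -t := ⟨(-t).toNat, Int.toNat_of_nonneg (by omega)⟩
  have hNM : N.natDegree + 1 = M.natDegree + 2 * s := by omega
  have hx0 : ι RatFunc.X ≠ 0 := (_root_.map_ne_zero _).mpr hX0
  obtain ⟨ξ, hξ_def⟩ : ∃ ξ : K, ξ = (ι RatFunc.X)⁻¹ := ⟨_, rfl⟩
  have hξx : ξ * ι RatFunc.X = 1 := by rw [hξ_def]; exact inv_mul_cancel₀ hx0
  have hξv : P.1 ξ = WithZero.exp (-2 : ℤ) := by
    rw [hξ_def, map_inv₀, hxv, ← WithZero.exp_neg]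
  have hξlt : P.1 ξ < 1 := by
    rw [hξv, ← WithZero.exp_zero, WithZero.exp_lt_exp]; norm_num
  have hιpoly : ∀ a : k[X], ι (alg a) = ι RatFunc.X ^ a.natDegree * aeval ξ a.reverse := by
    intro a
    have h := Polynomial.aeval_algHom_apply (IsScalarTower.toAlgHom k (RatFunc k) K)
      (RatFunc.X : RatFunc k)⁻¹ a.reverse
    have h' : (IsScalarTower.toAlgHom k (RatFunc k) K) (RatFunc.X : RatFunc k)⁻¹ = ξ := by
      rw [hξ_def]; exact map_inv₀ (algebraMap (RatFunc k) K) _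
    rw [h'] at h
    rw [FG.algebraMap_eq_X_pow_mul_reverse a, map_mul, map_pow]
    exact congrArg (fun w => ι RatFunc.X ^ a.natDegree * w) h.symm
  obtain ⟨Nr, hNr⟩ : ∃ Nr : K, Nr = aeval ξ N.reverse := ⟨_, rfl⟩
  obtain ⟨Mr, hMr⟩ : ∃ Mr : K, Mr = aeval ξ M.reverse := ⟨_, rfl⟩
  have hMr1 : P.1 Mr = 1 := by
    rw [hMr]
    exact FF.val_aeval_eq_one P hξlt (by
      rw [coeff_zero_reverse]; exact leadingCoeff_ne_zero.mpr hM0)
  have hMr0 : Mr ≠ 0 := by
    rintro h
    rw [h, map_zero] at hMr1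
    exact zero_ne_one hMr1
  have hιf : ι f * (ι RatFunc.X ^ M.natDegree * Mr) = ι RatFunc.X ^ N.natDegree * Nr := by
    rw [hfNM, map_div₀, hιpoly N, hιpoly M, ← hNr, ← hMr]
    exact div_mul_cancel₀ _ (mul_ne_zero (pow_ne_zero _ hx0) hMr0)
  have hpow : ι RatFunc.X ^ N.natDegree =
      ι RatFunc.X ^ M.natDegree * ι RatFunc.X ^ (2 * s) * ξ := by
    have h1 : ι RatFunc.X ^ (N.natDegree + 1) = ι RatFunc.X ^ (M.natDegree + 2 * s) := by
      rw [hNM]
    rw [pow_succ, pow_add] at h1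
    rw [← h1, mul_assoc, mul_comm (ι RatFunc.X) ξ, hξx, mul_one]
  have e1 : ξ ^ (2 * s) * ι RatFunc.X ^ (2 * s) = 1 := by rw [← mul_pow, hξx, one_pow]
  obtain ⟨u, hu_def⟩ : ∃ u : K, u = y * ξ ^ s * Mr := ⟨_, rfl⟩
  have hQξ : aeval ξ (X ^ s * M.reverse) = ξ ^ s * Mr := by
    rw [map_mul, map_pow, aeval_X, hMr]
  have hHξ : aeval ξ (X * (M.reverse * N.reverse)) = ξ * (Mr * Nr) := by
    rw [map_mul, map_mul, aeval_X, hMr, hNr]
  have hrel : u ^ 2 + aeval ξ (X ^ s * M.reverse) * u =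
      aeval ξ (X * (M.reverse * N.reverse)) := by
    rw [hQξ, hHξ, hu_def]
    have h3 : (y * ξ ^ s * Mr) ^ 2 + ξ ^ s * Mr * (y * ξ ^ s * Mr) = (ξ ^ s * Mr) ^ 2 * ι f := by
      rw [← heq]; ring
    rw [h3]
    apply mul_right_cancel₀ (mul_ne_zero (pow_ne_zero M.natDegree hx0) hMr0)
    calc (ξ ^ s * Mr) ^ 2 * ι f * (ι RatFunc.X ^ M.natDegree * Mr)
        = (ξ ^ s * Mr) ^ 2 * (ι f * (ι RatFunc.X ^ M.natDegree * Mr)) := by ring
      _ = (ξ ^ s * Mr) ^ 2 *
          (ι RatFunc.X ^ M.natDegree * ι RatFunc.X ^ (2 * s) * ξ * Nr) := by rw [hιf, hpow]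
      _ = (ξ ^ (2 * s) * ι RatFunc.X ^ (2 * s)) *
          (ξ * (Mr * Nr) * (ι RatFunc.X ^ M.natDegree * Mr)) := by ring
      _ = ξ * (Mr * Nr) * (ι RatFunc.X ^ M.natDegree * Mr) := by rw [e1, one_mul]
  have hu : P.1 u = WithZero.exp (-1 : ℤ) := by
    rw [hu_def, map_mul, map_mul, map_pow, hPy, hξv, hMr1, mul_one,
      FF.val_eq_exp_neg_ord p hf0, ← WithZero.exp_nsmul, ← WithZero.exp_add]
    congr 1
    simp only [nsmul_eq_mul]
    omega
  have hH' : P.1 (aeval ξ (derivative (X * (M.reverse * N.reverse)))) = 1 := by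
    apply FF.val_aeval_eq_one P hξlt
    rw [derivative_mul, derivative_X, one_mul, coeff_add, coeff_X_mul_zero, add_zero,
      mul_coeff_zero, coeff_zero_reverse, coeff_zero_reverse]
    exact mul_ne_zero (leadingCoeff_ne_zero.mpr hM0) (leadingCoeff_ne_zero.mpr hN0)
  have hL := local_key h2K P ψ hψ ξ u (X ^ s * M.reverse) (X * (M.reverse * N.reverse)) hrel
    hξlt.le hu hH'
  rw [hQξ, map_mul, map_pow, hξv, hMr1, mul_one] at hL
  have hKd : KaehlerDifferential.D k K (ι RatFunc.X) =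
      (-(ι RatFunc.X ^ 2)) • KaehlerDifferential.D k K ξ := by
    have h := Derivation.leibniz_inv (KaehlerDifferential.D k K) ξ
    rw [hξ_def, inv_inv] at h
    rw [hξ_def]
    exact h
  have E := DiffExp.D_exp_of_kaehler ψ hKd
  rw [E, map_mul, hψ.1, Valuation.map_neg, map_pow, hxv, hL, ← WithZero.exp_nsmul,
    ← WithZero.exp_nsmul, ← WithZero.exp_add]
  congr 1
  simp only [nsmul_eq_mul, Nat.cast_ofNat]
  omega

theorem s12587
    (hK : FunFld.IsFunctionField k K) (hdeg : Module.finrank (RatFunc k) K = 2) [PerfectField k]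
    (h2 : ringChar k = 2) [Algebra.IsSeparable (RatFunc k) K]
    (y : K) (hy : y ∉ Set.range (algebraMap (RatFunc k) K)) (f : RatFunc k)
    (heq : y ^ 2 + y = algebraMap (RatFunc k) K f)
    (hodd : ∀ p : FunFld.Place k (RatFunc k), 1 < p.1 f → Odd (p.ord f))
    (q : Polynomial k) (hq0 : q ≠ 0)
    (hq : ∀ p : FunFld.Place k (RatFunc k), p.1 RatFunc.X ≤ 1 →
      p.ord (algebraMap (Polynomial k) (RatFunc k) q) =
        if 1 < p.1 f then (1 - p.ord f) / 2 else 0)
    (F : FunFld.Place k K → Type w) [∀ P, Field (F P)] [∀ P, Algebra k (F P)]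
    [∀ P, FiniteDimensional k (F P)]
    (φ : ∀ P, K →ₐ[k] LaurentSeries (F P)) (hφ : ∀ P, LocRes.IsExpansionAt P.1 (φ P)) :
    (∀ i : ℕ, i < FunFld.genus k K → ∀ P,
      LocRes.vDiff (φ P) (algebraMap (RatFunc k) K
        (RatFunc.X ^ i / algebraMap (Polynomial k) (RatFunc k) q))
        (algebraMap (RatFunc k) K RatFunc.X) ≤ 1) ∧
    ∀ z : K, (∀ P, LocRes.vDiff (φ P) z (algebraMap (RatFunc k) K RatFunc.X) ≤ 1) →
      ∃ a : Polynomial k, a.degree < (FunFld.genus k K : WithBot ℕ) ∧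
        z = algebraMap (RatFunc k) K (algebraMap (Polynomial k) (RatFunc k) a /
          algebraMap (Polynomial k) (RatFunc k) q) := by
  classical
  have hK₀ : IsFunctionField k (RatFunc k) := FF.isFunctionField_ratFunc
  haveI hfd : FiniteDimensional (RatFunc k) K :=
    Module.finite_of_finrank_pos (by rw [hdeg]; norm_num)
  have hX0 : (RatFunc.X : RatFunc k) ≠ 0 := RatFunc.X_ne_zero
  have hgeo : IsGeometric k K := FF.isGeometric_of_perfectField k K hK
  have hq'0 : alg q ≠ 0 := by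
    rwa [Ne, map_eq_zero_iff _ (RatFunc.algebraMap_injective k)]
  have hQx0 : ι (alg q) ≠ 0 := (_root_.map_ne_zero _).mpr hq'0
  have hcond : ∀ p : Place k (RatFunc k), p.ord f < 0 ↔ 1 < p.1 f := by
    intro p
    by_cases hf0 : f = 0
    · rw [hf0, FF.ord_zero, map_zero]
      exact ⟨fun h => absurd h (lt_irrefl _), fun h => absurd h (not_lt.2 zero_le)⟩
    · exact FF.ord_neg_iff p hf0
  -- the infinite place
  obtain ⟨pinf, hpinf⟩ := FF.exists_place_one_lt_val hK₀ FG.transcendental_X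
  have huniq : ∀ p : Place k (RatFunc k), 1 < p.1 RatFunc.X → p = pinf :=
    fun p hp => inf_unique p pinf hp hpinf
  have hinf : pinf.ord (RatFunc.X : RatFunc k) < 0 := (FF.ord_neg_iff pinf hX0).2 hpinf
  obtain ⟨hordX, hdeginf⟩ := FG.ord_X_inf pinf hinf
  have hvX : pinf.1 (RatFunc.X : RatFunc k) = WithZero.exp (1 : ℤ) := by
    rw [FF.val_eq_exp_neg_ord pinf hX0, hordX]; rfl
  have hvq : pinf.1 (alg q) = WithZero.exp (q.natDegree : ℤ) :=
    FG.val_polynomial_inf pinf hinf hq0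
  -- the genus
  obtain ⟨sinf, hsinf⟩ : ∃ s : ℤ, s = if 1 < pinf.1 f then (1 - pinf.ord f) / 2 else 0 := ⟨_, rfl⟩
  obtain ⟨B, hBdef⟩ : ∃ B : Divisor k (RatFunc k),
      B = FunFld.div k (alg q) + Finsupp.single pinf ((q.natDegree : ℤ) + sinf) := ⟨_, rfl⟩
  have hB : ∀ P : Place k (RatFunc k),
      B P = if P.ord f < 0 then (1 - P.ord f) / 2 else 0 := by
    intro P
    rw [hBdef, Finsupp.add_apply, FF.div_apply hK₀, Finsupp.single_apply]
    by_cases hP : pinf = P
    · rw [if_pos hP, ← hP, FF.ord_eq_of_val_eq pinf hvq, hsinf]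
      by_cases hc : 1 < pinf.1 f
      · rw [if_pos hc, if_pos ((hcond pinf).2 hc)]; ring
      · rw [if_neg hc, if_neg (fun h => hc ((hcond pinf).1 h))]; ring
    · rw [if_neg hP, add_zero]
      have hPX : P.1 RatFunc.X ≤ 1 := by
        by_contra h
        exact hP (huniq P (not_le.mp h)).symm
      rw [hq P hPX]
      by_cases hc : 1 < P.1 f
      · rw [if_pos hc, if_pos ((hcond P).2 hc)]
      · rw [if_neg hc, if_neg (fun h => hc ((hcond P).1 h))]
  have hg := ASGenus.core h2 hK hdeg hy heq (fun P hP => hodd P ((hcond P).1 hP)) B hB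
  have hdegB : B.deg = q.natDegree + sinf := by
    rw [hBdef, FF.deg_add, FF.deg_div hK₀, FF.deg_single, hdeginf]
    push_cast
    ring
  rw [hdegB] at hg
  -- the polynomial `q² f`
  obtain ⟨H, hH⟩ : ∃ H : k[X], alg H = alg q ^ 2 * f := by
    have hfin : ∀ p : Place k (RatFunc k), p.1 RatFunc.X ≤ 1 → p.1 (alg q ^ 2 * f) ≤ 1 := by
      intro p hpX
      have hqp := hq p hpX
      rw [map_mul, map_pow]
      by_cases hc : 1 < p.1 f
      · rw [if_pos hc] at hqp
        have hf0 : f ≠ 0 := by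
          rintro rfl
          rw [map_zero] at hc
          exact absurd hc (not_lt.2 zero_le)
        obtain ⟨t, ht⟩ := hodd p hc
        rw [FF.val_eq_exp_neg_ord p hq'0, FF.val_eq_exp_neg_ord p hf0, hqp,
          ← WithZero.exp_nsmul, ← WithZero.exp_add, ← WithZero.exp_zero, WithZero.exp_le_exp]
        simp only [nsmul_eq_mul, Nat.cast_ofNat]
        omega
      · rw [not_lt] at hc
        have h1 : p.1 (alg q) ≤ 1 := by
          rw [← RatFunc.aeval_X_left_eq_algebraMap]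
          exact HypGenus.val_aeval_le_one p hpX q
        exact mul_le_one' (pow_le_one' h1 2) hc
    obtain ⟨m, hm⟩ : ∃ m : ℕ, pinf.1 (alg q ^ 2 * f) ≤ pinf.1 RatFunc.X ^ m := by
      by_cases hw0 : alg q ^ 2 * f = 0
      · exact ⟨0, by rw [hw0, map_zero]; exact zero_le⟩
      · refine ⟨(-(pinf.ord (alg q ^ 2 * f))).toNat, ?_⟩
        rw [hvX, FF.val_eq_exp_neg_ord pinf hw0, ← WithZero.exp_nsmul, WithZero.exp_le_exp]
        simp only [nsmul_eq_mul, mul_one]
        exact Int.self_le_toNat _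
    have hw : alg q ^ 2 * f ∈ k⟮(RatFunc.X : RatFunc k)⟯ := by
      rw [RatFunc.adjoin_X]; exact IntermediateField.mem_top
    obtain ⟨H, -, hH⟩ := HypGenus.exists_poly hK₀ FG.transcendental_X m hw
      (fun p => ⟨hfin p, fun hpX => by rw [huniq p hpX]; exact hm⟩)
    exact ⟨H, by rw [hH, RatFunc.aeval_X_left_eq_algebraMap]⟩
  have claim1 : ∀ i : ℕ, i < genus k K → ∀ P,
      LocRes.vDiff (φ P) (ι (RatFunc.X ^ i / alg q)) (ι RatFunc.X) ≤ 1 := by
    intro i hi P
    obtain ⟨p, e, he⟩ := FG.exists_isOverWith hK₀.1 P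
    unfold LocRes.vDiff
    rw [Valuation.map_mul, (hφ P).1, map_div₀, map_pow, map_div₀, map_pow]
    have hQP0 : P.1 (ι (alg q)) ≠ 0 := (Valuation.ne_zero_iff _).mpr hQx0
    by_cases hpX : p.1 RatFunc.X ≤ 1
    · have hxP : P.1 (ι RatFunc.X) ≤ 1 := by
        rw [he RatFunc.X]; exact pow_le_one₀ zero_le hpX
      have hqp := hq p hpX
      by_cases hc : 1 < p.1 f
      · rw [if_pos hc] at hqp
        have hD := val_D_x_finite_pole h2 hdeg hy heq q H hH p hc (hodd p hc) hqp hpX P e he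
          (φ P) (hφ P)
        rw [hD, div_mul_cancel₀ _ hQP0]
        exact pow_le_one' hxP i
      · rw [if_neg hc] at hqp
        have hq1 : p.1 (alg q) = 1 := by
          rw [FF.val_eq_exp_neg_ord p hq'0, hqp, neg_zero, WithZero.exp_zero]
        rw [he (alg q), hq1, one_pow, div_one]
        exact mul_le_one' (pow_le_one' hxP i)
          (HypDiff.val_D_le_one _ (by rw [(hφ P).1]; exact hxP))
    · rw [not_le] at hpX
      have hpp : p = pinf := huniq p hpX
      rw [hpp] at he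
      by_cases hc : 1 < pinf.1 f
      · obtain ⟨he2, hxv, hD⟩ := val_D_x_inf_pole h2 hdeg hy heq pinf hpinf hc (hodd pinf hc) P
          ⟨e, he⟩ (φ P) (hφ P)
        rw [if_pos hc] at hsinf
        obtain ⟨t, ht⟩ := hodd pinf hc
        rw [hxv, hD, he2 (alg q), hvq, ← WithZero.exp_nsmul, ← WithZero.exp_nsmul,
          div_eq_mul_inv, ← WithZero.exp_neg, ← WithZero.exp_add, ← WithZero.exp_add,
          ← WithZero.exp_zero, WithZero.exp_le_exp]
        simp only [nsmul_eq_mul, Nat.cast_ofNat]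
        omega
      · rw [if_neg hc] at hsinf
        have h0 : 0 ≤ pinf.ord f := not_lt.mp (fun h => hc ((hcond pinf).1 h))
        have he1 : IsOverWith P pinf 1 :=
          (FG.artin_schreier_ramification h2 hdeg y hy f heq pinf).2 h0 P ⟨e, he⟩
        have hxv : P.1 (ι RatFunc.X) = WithZero.exp (1 : ℤ) := by
          rw [he1 RatFunc.X, hvX, pow_one]
        have h1 : Valued.v ((φ P) (ι RatFunc.X)) ≤ WithZero.exp (-(-1 : ℤ)) := by
          rw [(hφ P).1, hxv, neg_neg]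
        have h2' := HypDiff.val_D_le _ _ h1
        rw [hxv, he1 (alg q), hvq, pow_one]
        refine (mul_le_mul' le_rfl h2').trans ?_
        rw [← WithZero.exp_nsmul, div_eq_mul_inv, ← WithZero.exp_neg, ← WithZero.exp_add,
          ← WithZero.exp_add, ← WithZero.exp_zero, WithZero.exp_le_exp]
        simp only [nsmul_eq_mul]
        omega
  refine ⟨claim1, ?_⟩
  intro z hz
  have hDx : KaehlerDifferential.D k K (ι RatFunc.X) ≠ 0 := D_x_ne_zero
  obtain ⟨g, hg_def⟩ : ∃ g, g = genus k K := ⟨_, rfl⟩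
  rw [← hg_def] at claim1 ⊢
  obtain ⟨W, hW⟩ : ∃ W : Submodule k K, W = TateW2.OmD φ (ι RatFunc.X) 0 := ⟨_, rfl⟩
  have hmemW : ∀ w : K, w ∈ W ↔ ∀ P, LocRes.vDiff (φ P) w (ι RatFunc.X) ≤ 1 := by
    intro w
    rw [hW, TateW2.mem_OmD]
    simp only [Finsupp.coe_zero, Pi.zero_apply, neg_zero, WithZero.exp_zero]
  obtain ⟨eW⟩ := TateW2.exists_equiv_WD hK hgeo φ hφ hDx (0 : Divisor k K)
  rw [← hW] at eW
  obtain ⟨hWDfin, hWDrank⟩ := FF.finrank_WD hK (0 : Divisor k K)
  haveI : FiniteDimensional k W := Module.Finite.equiv eW.symm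
  have hWrank : Module.finrank k W = g := by
    rw [eW.finrank_eq]
    rw [FF.ell_zero hK, FF.deg_zero] at hWDrank
    have h3 : (Module.finrank k (WD (0 : Divisor k K)) : ℤ) = genus k K := by
      rw [hWDrank]; push_cast; ring
    rw [hg_def]
    exact_mod_cast h3
  have hxtr : Transcendental k (ι RatFunc.X) := HypDiff.transcendental_x
  have hinj : Function.Injective (aeval (R := k) (ι RatFunc.X)) :=
    transcendental_iff_injective.mp hxtr
  obtain ⟨Ψ₀, hΨ₀⟩ : ∃ Ψ₀ : degreeLT k g →ₗ[k] K,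
      ∀ a, Ψ₀ a = aeval (ι RatFunc.X) a.1 / ι (alg q) :=
    ⟨(LinearMap.mulRight k (ι (alg q))⁻¹).comp
      ((aeval (R := k) (ι RatFunc.X)).toLinearMap.comp (degreeLT k g).subtype),
      fun a => (div_eq_mul_inv _ _).symm⟩
  have hmemΨ : ∀ a : degreeLT k g, Ψ₀ a ∈ W := by
    intro a
    rw [hΨ₀]
    by_cases ha0 : a.1 = 0
    · rw [ha0, map_zero, zero_div]; exact Submodule.zero_mem _
    have hlt : a.1.natDegree < g := by
      rw [Polynomial.natDegree_lt_iff_degree_lt ha0]; exact Polynomial.mem_degreeLT.mp a.2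
    have e : aeval (ι RatFunc.X) a.1 / ι (alg q) =
        ∑ i ∈ Finset.range g, a.1.coeff i • (ι RatFunc.X ^ i / ι (alg q)) := by
      rw [Polynomial.aeval_eq_sum_range' hlt, Finset.sum_div]
      refine Finset.sum_congr rfl fun i _ => ?_
      rw [smul_div_assoc]
    rw [e]
    refine Submodule.sum_mem _ fun i hi => Submodule.smul_mem _ _ ((hmemW _).2 ?_)
    intro P
    have h := claim1 i (Finset.mem_range.mp hi) P
    rwa [map_div₀, map_pow] at h
  have hΨinj : Function.Injective (Ψ₀.codRestrict W hmemΨ) := by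
    rw [injective_iff_map_eq_zero]
    intro a h0
    have h1 : Ψ₀ a = 0 := by
      have := congrArg Subtype.val h0
      simpa using this
    rw [hΨ₀, div_eq_zero_iff] at h1
    rcases h1 with h1 | h1
    · exact Subtype.ext (hinj (by rw [h1]; exact (map_zero (aeval (R := k) (ι RatFunc.X))).symm))
    · exact absurd h1 hQx0
  have hVrank : Module.finrank k (degreeLT k g) = Module.finrank k W := by
    rw [hWrank, LinearEquiv.finrank_eq (Polynomial.degreeLTEquiv k g), Module.finrank_fin_fun]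
  have hΨsurj := (LinearMap.injective_iff_surjective_of_finrank_eq_finrank hVrank).mp hΨinj
  obtain ⟨a, ha⟩ := hΨsurj ⟨z, (hmemW z).2 hz⟩
  refine ⟨a.1, Polynomial.mem_degreeLT.mp a.2, ?_⟩
  have h1 : Ψ₀ a = z := congrArg Subtype.val ha
  rw [← h1, hΨ₀, HypDiff.aeval_x, map_div₀]

end main

end Groth.Agent.Helper6.ASReg
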