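import Mathlib
import Groth.Agent.Helper6.ASReg

set_option autoImplicit false
set_option linter.style.haveILetI false
set_option linter.unusedSectionVars false

/-!
# Local behaviour of an Artin–Schreier double cover `y² + y = f` with prescribed odd poles
-/

namespace Groth.Agent.Helper6.AS2Loc

open FunFld Polynomial
open Groth.Agent.Helper5
open scoped IntermediateField

universe u v w

section

variable {k : Type u} {K : Type v} [Field k] [Field K] [Algebra k K] [Algebra (RatFunc k) K]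
  [IsScalarTower k (RatFunc k) K]

local notation "ι" => algebraMap (RatFunc k) K

theorem map_X_sub_C (α : k) :
    ι (RatFunc.X - RatFunc.C α) = ι RatFunc.X - algebraMap k K α := by
  rw [map_sub, ← RatFunc.algebraMap_eq_C, ← IsScalarTower.algebraMap_apply]

theorem val_X_sub_C_of_lt (p : Place k (RatFunc k)) (α : k)
    (h : p.1 (RatFunc.X - RatFunc.C α) < 1) :
    p.1 (RatFunc.X - RatFunc.C α) = WithZero.exp (-1 : ℤ) := by
  have e : (RatFunc.X - RatFunc.C α : RatFunc k) = algebraMap k[X] (RatFunc k) (X - C α) := by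
    rw [map_sub, RatFunc.algebraMap_X, RatFunc.algebraMap_C]
  rw [e] at h ⊢
  exact FF.val_irreducible_eq p (irreducible_X_sub_C α) h

theorem val_C_le (p : Place k (RatFunc k)) (α : k) : p.1 (RatFunc.C α) ≤ 1 := by
  rw [← RatFunc.algebraMap_eq_C]; exact p.2.1 α

/-- at the infinite place every `X - α` has a pole -/
theorem val_X_sub_C_of_inf (p : Place k (RatFunc k)) (hpX : 1 < p.1 RatFunc.X) (α : k) :
    p.1 (RatFunc.X - RatFunc.C α) = p.1 RatFunc.X :=
  Valuation.map_sub_eq_of_lt_left _ (lt_of_le_of_lt (val_C_le p α) hpX)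

theorem val_sub_of_isOverWith {P : Place k K} {p : Place k (RatFunc k)} {e : ℕ}
    (he : IsOverWith P p e) (α : k) :
    P.1 (ι RatFunc.X - algebraMap k K α) = p.1 (RatFunc.X - RatFunc.C α) ^ e := by
  rw [← map_X_sub_C, he]

/-- the data at a place over a pole `X = α` of odd order `n` -/
theorem at_pole (h2 : ringChar k = 2) (hdeg : Module.finrank (RatFunc k) K = 2) {y : K}
    (hy : y ∉ Set.range ι) {f : RatFunc k} (heq : y ^ 2 + y = ι f) (α : k) (n : ℕ) (hn : Odd n)
    (p : Place k (RatFunc k)) (hp : p.1 (RatFunc.X - RatFunc.C α) < 1)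
    (hpf : p.ord f = -(n : ℤ)) (P : Place k K) (hP : IsOver P p) :
    IsOverWith P p 2 ∧ P.1 y = WithZero.exp (n : ℤ) ∧
      P.1 (ι RatFunc.X - algebraMap k K α) = WithZero.exp (-2 : ℤ) := by
  obtain ⟨t, ht⟩ := hn
  have hneg : p.ord f < 0 := by rw [hpf]; omega
  have hodd : Odd (p.ord f) := ⟨-t - 1, by rw [hpf, ht]; push_cast; ring⟩
  obtain ⟨hf0, he2, hPy⟩ := ASReg.val_y_pole h2 hdeg hy heq p hneg hodd P hP
  refine ⟨he2, ?_, ?_⟩
  · rw [hPy, FF.val_eq_exp_neg_ord p hf0, hpf, neg_neg]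
  · rw [val_sub_of_isOverWith he2, val_X_sub_C_of_lt p α hp, ← WithZero.exp_nsmul]
    rfl

/-- the data at a place over infinity when `f` is regular there -/
theorem at_inf (h2 : ringChar k = 2) (hdeg : Module.finrank (RatFunc k) K = 2) {y : K}
    (hy : y ∉ Set.range ι) {f : RatFunc k} (heq : y ^ 2 + y = ι f)
    (p : Place k (RatFunc k)) (hpX : 1 < p.1 RatFunc.X) (hpf : p.1 f ≤ 1)
    (P : Place k K) (hP : IsOver P p) :
    IsOverWith P p 1 ∧ P.1 (ι RatFunc.X) = WithZero.exp (1 : ℤ) ∧ P.1 y ≤ 1 ∧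
      ∀ α : k, P.1 (ι RatFunc.X - algebraMap k K α) = WithZero.exp (1 : ℤ) := by
  have hX0 : (RatFunc.X : RatFunc k) ≠ 0 := RatFunc.X_ne_zero
  have h0 : 0 ≤ p.ord f := by
    by_cases hf0 : f = 0
    · rw [hf0, FF.ord_zero]
    · exact (FF.ord_nonneg_iff p hf0).2 hpf
  have he1 : IsOverWith P p 1 :=
    (FG.artin_schreier_ramification h2 hdeg y hy f heq p).2 h0 P hP
  have hinf : p.ord (RatFunc.X : RatFunc k) < 0 := (FF.ord_neg_iff p hX0).2 hpX
  obtain ⟨hordX, -⟩ := FG.ord_X_inf p hinf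
  have hvX : p.1 (RatFunc.X : RatFunc k) = WithZero.exp (1 : ℤ) := by
    rw [FF.val_eq_exp_neg_ord p hX0, hordX]; rfl
  have hxv : P.1 (ι RatFunc.X) = WithZero.exp (1 : ℤ) := by rw [he1 RatFunc.X, hvX, pow_one]
  refine ⟨he1, hxv, ?_, ?_⟩
  · apply (ASReg.val_y heq P).1
    rw [he1 f, pow_one]; exact hpf
  · intro α
    rw [val_sub_of_isOverWith he1, pow_one, val_X_sub_C_of_inf p hpX, hvX]

end

section main

variable {k : Type u} {K : Type v} [Field k] [Field K] [Algebra k K] [Algebra (RatFunc k) K]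
  [IsScalarTower k (RatFunc k) K]

local notation "ι" => algebraMap (RatFunc k) K

theorem s19045 (h2 : ringChar k = 2)
    (hK : FunFld.IsFunctionField k K) (hdeg : Module.finrank (RatFunc k) K = 2)
    (y : K) (hy : y ∉ Set.range (algebraMap (RatFunc k) K)) (f : RatFunc k)
    (heq : y ^ 2 + y = algebraMap (RatFunc k) K f)
    (B : Finset k) (d : k → ℕ) (hd : ∀ β ∈ B, Odd (d β))
    (hpole : ∀ (p : FunFld.Place k (RatFunc k)) (β : k), β ∈ B →
      p.1 ((RatFunc.X : RatFunc k) - RatFunc.C β) < 1 → p.ord f = -(d β : ℤ))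
    (hint : ∀ p : FunFld.Place k (RatFunc k),
      (∀ β ∈ B, 1 ≤ p.1 ((RatFunc.X : RatFunc k) - RatFunc.C β)) → p.1 f ≤ 1) :
    (∀ P : FunFld.Place k K, 1 < P.1 (algebraMap (RatFunc k) K RatFunc.X) → 0 ≤ P.ord y) ∧
    (∃ P : FunFld.Place k K, 1 < P.1 (algebraMap (RatFunc k) K RatFunc.X) ∧ P.ord y = 0) ∧
    ∀ (α : k), α ∈ B → ∀ (j : ℤ) (P : FunFld.Place k K),
      (P.1 ((algebraMap (RatFunc k) K RatFunc.X) - (algebraMap k K α)) < 1 →
        max (-(P.ord (y * ((algebraMap (RatFunc k) K RatFunc.X) - (algebraMap k K α)) ^ j))) 0 =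
          max ((d α : ℤ) - 2 * j) 0) ∧
      (∀ β : k, β ∈ B → β ≠ α →
        P.1 ((algebraMap (RatFunc k) K RatFunc.X) - (algebraMap k K β)) < 1 →
        P.ord (y * ((algebraMap (RatFunc k) K RatFunc.X) - (algebraMap k K α)) ^ j) =
          -(d β : ℤ)) ∧
      (1 < P.1 (algebraMap (RatFunc k) K RatFunc.X) →
        max (-(P.ord (y * ((algebraMap (RatFunc k) K RatFunc.X) - (algebraMap k K α)) ^ j))) 0 =
          max (j - P.ord y) 0) ∧
      (P.1 (algebraMap (RatFunc k) K RatFunc.X) ≤ 1 →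
        (∀ β : k, β ∈ B → 1 ≤ P.1 ((algebraMap (RatFunc k) K RatFunc.X) - (algebraMap k K β))) →
        0 ≤ P.ord (y * ((algebraMap (RatFunc k) K RatFunc.X) - (algebraMap k K α)) ^ j)) := by
  classical
  have hK₀ : IsFunctionField k (RatFunc k) := FF.isFunctionField_ratFunc
  haveI hfd : FiniteDimensional (RatFunc k) K :=
    Module.finite_of_finrank_pos (by rw [hdeg]; norm_num)
  have hy0 : y ≠ 0 := by rintro rfl; exact hy ⟨0, map_zero _⟩
  have hinfint : ∀ p : Place k (RatFunc k), 1 < p.1 RatFunc.X → p.1 f ≤ 1 := by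
    intro p hpX
    apply hint p
    intro β _
    rw [val_X_sub_C_of_inf p hpX]
    exact hpX.le
  have hbelow_inf : ∀ (P : Place k K) (p : Place k (RatFunc k)) (e : ℕ), IsOverWith P p e →
      1 < P.1 (ι RatFunc.X) → 1 < p.1 RatFunc.X := by
    intro P p e he hx
    rw [he RatFunc.X] at hx
    exact (one_lt_pow_iff_of_nonneg zero_le (FG.isOverWith_pos he)).1 hx
  refine ⟨?_, ?_, ?_⟩
  · intro P hP
    obtain ⟨p, e, he⟩ := FG.exists_isOverWith hK₀.1 P
    have hpX := hbelow_inf P p e he hP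
    obtain ⟨-, -, hy1, -⟩ := at_inf h2 hdeg hy heq p hpX (hinfint p hpX) P ⟨e, he⟩
    exact (FF.ord_nonneg_iff P hy0).2 hy1
  · obtain ⟨p, hpX⟩ := FF.exists_place_one_lt_val hK₀ FG.transcendental_X
    obtain ⟨Q, hQ⟩ := ASGenus.exists_isOver (K' := K) hK₀ p
    obtain ⟨-, hxv, hy1, -⟩ := at_inf h2 hdeg hy heq p hpX (hinfint p hpX) Q hQ
    have hlt : (1 : WithZero (Multiplicative ℤ)) < WithZero.exp (1 : ℤ) := by
      rw [← WithZero.exp_zero, WithZero.exp_lt_exp]; norm_num
    by_cases hQy : Q.1 y = 1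
    · refine ⟨Q, by rw [hxv]; exact hlt, ?_⟩
      have := FF.ord_eq_of_val_eq Q (n := 0) (by rw [hQy, WithZero.exp_zero])
      rw [this, neg_zero]
    · have hQy' : Q.1 y < 1 := lt_of_le_of_ne hy1 hQy
      have h2F : (2 : RatFunc k) = 0 := by
        have h2k : (2 : k) = 0 := by
          have := ringChar.spec k 2
          have h3 : ((2 : ℕ) : k) = 0 := this.mpr (by rw [h2])
          exact_mod_cast h3
        rw [← map_ofNat (algebraMap k (RatFunc k)) 2, h2k, map_zero]
      obtain ⟨σ₀, hσ₀⟩ := ASGenus.exists_sigma h2F hdeg hy heq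
      obtain ⟨σ, hσ⟩ : ∃ σ : K ≃ₐ[k] K, ∀ z, σ z = σ₀ z :=
        ⟨σ₀.restrictScalars k, fun z => rfl⟩
      refine ⟨FF.comapPlace σ Q, ?_, ?_⟩
      · rw [FF.comapPlace_val, hσ, σ₀.commutes, hxv]; exact hlt
      · have hv : (FF.comapPlace σ Q).1 y = WithZero.exp (0 : ℤ) := by
          rw [FF.comapPlace_val, hσ, hσ₀, WithZero.exp_zero,
            Valuation.map_add_eq_of_lt_right _ (by rw [map_one]; exact hQy'), map_one]
        have := FF.ord_eq_of_val_eq _ hv
        rw [this, neg_zero]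
  · intro α hα j P
    obtain ⟨p, e, he⟩ := FG.exists_isOverWith hK₀.1 P
    have he0 := FG.isOverWith_pos he
    refine ⟨?_, ?_, ?_, ?_⟩
    · intro hlt
      rw [val_sub_of_isOverWith he] at hlt
      have hp := (pow_lt_one_iff_of_nonneg zero_le he0).1 hlt
      obtain ⟨-, hPy, hPx⟩ := at_pole h2 hdeg hy heq α (d α) (hd α hα) p hp (hpole p α hα hp) P
        ⟨e, he⟩
      have hord : P.ord (y * (ι RatFunc.X - algebraMap k K α) ^ j) = -((d α : ℤ) - 2 * j) := by
        apply FF.ord_eq_of_val_eq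
        rw [map_mul, map_zpow₀, hPy, hPx, ← WithZero.exp_zsmul, ← WithZero.exp_add]
        congr 1
        rw [smul_eq_mul]; ring
      rw [hord, neg_neg]
    · intro β hβ hne hlt
      rw [val_sub_of_isOverWith he] at hlt
      have hp := (pow_lt_one_iff_of_nonneg zero_le he0).1 hlt
      obtain ⟨-, hPy, hPx⟩ := at_pole h2 hdeg hy heq β (d β) (hd β hβ) p hp (hpole p β hβ hp) P
        ⟨e, he⟩
      have hc : P.1 (algebraMap k K (β - α)) = 1 :=
        FF.val_algebraMap P (sub_ne_zero.mpr hne)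
      have hxα : P.1 (ι RatFunc.X - algebraMap k K α) = 1 := by
        have e1 : ι RatFunc.X - algebraMap k K α =
            (ι RatFunc.X - algebraMap k K β) + algebraMap k K (β - α) := by
          rw [map_sub]; ring
        rw [e1, Valuation.map_add_eq_of_lt_right _ (by
          rw [hc, hPx, ← WithZero.exp_zero, WithZero.exp_lt_exp]; norm_num), hc]
      apply FF.ord_eq_of_val_eq
      rw [map_mul, map_zpow₀, hPy, hxα, one_zpow, mul_one]
    · intro hx
      have hpX := hbelow_inf P p e he hx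
      obtain ⟨-, -, -, hPx⟩ := at_inf h2 hdeg hy heq p hpX (hinfint p hpX) P ⟨e, he⟩
      have hord : P.ord (y * (ι RatFunc.X - algebraMap k K α) ^ j) = -(j - P.ord y) := by
        apply FF.ord_eq_of_val_eq
        rw [map_mul, map_zpow₀, hPx α, FF.val_eq_exp_neg_ord P hy0, ← WithZero.exp_zsmul,
          ← WithZero.exp_add]
        congr 1
        rw [smul_eq_mul]; ring
      rw [hord, neg_neg]
    · intro hx1 hall
      have hpf : p.1 f ≤ 1 := by
        apply hint p
        intro β hβ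
        have h := hall β hβ
        rw [val_sub_of_isOverWith he] at h
        exact (one_le_pow_iff_of_nonneg zero_le he0).1 h
      have hy1 : P.1 y ≤ 1 := by
        apply (ASReg.val_y heq P).1
        rw [he f]; exact pow_le_one₀ zero_le hpf
      have hxα : P.1 (ι RatFunc.X - algebraMap k K α) = 1 := by
        apply le_antisymm _ (hall α hα)
        exact (Valuation.map_sub _ _ _).trans (max_le hx1 (P.2.1 α))
      have hxα0 : ι RatFunc.X - algebraMap k K α ≠ 0 := by
        intro h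
        rw [h, map_zero] at hxα
        exact zero_ne_one hxα
      rw [FF.ord_nonneg_iff P (mul_ne_zero hy0 (zpow_ne_zero j hxα0)), map_mul, map_zpow₀, hxα,
        one_zpow, mul_one]
      exact hy1

end main

end Groth.Agent.Helper6.AS2Loc
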