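import Mathlib
import Groth.Agent.Helper6.AS2Loc
import Groth.Agent.Helper5.FFAdele3

set_option autoImplicit false
set_option linter.style.haveILetI false
set_option linter.unusedSectionVars false

/-!
# Repartitions concentrated at a ramified place of an Artin–Schreier double cover
-/

namespace Groth.Agent.Helper6.AS2Adele

open FunFld Polynomial
open Groth.Agent.Helper5
open scoped IntermediateField
open Classical

universe u v w

section gen

variable {k : Type u} {K : Type v} [Field k] [Field K] [Algebra k K]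

theorem adele_le_of_genus_zero (hK : IsFunctionField k K) (hg : genus k K = 0) :
    adele k K ≤ AD (0 : Divisor k K) ⊔ LinearMap.range (diag k K) := by
  obtain ⟨hfin, hrank⟩ := FF.finrank_adele_quotient_ADK hK (0 : Divisor k K)
  rw [FF.ell_zero hK, FF.deg_zero, hg] at hrank
  have h0 : Module.finrank k (↥(adele k K) ⧸ ADK (0 : Divisor k K)) = 0 := by
    have : (Module.finrank k (↥(adele k K) ⧸ ADK (0 : Divisor k K)) : ℤ) = 0 := by
      rw [hrank]; norm_num
    exact_mod_cast this
  haveI := hfin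
  have hsub : Subsingleton (↥(adele k K) ⧸ ADK (0 : Divisor k K)) :=
    Module.finrank_zero_iff.mp h0
  have htop : ADK (0 : Divisor k K) = ⊤ := Submodule.Quotient.subsingleton_iff.mp hsub
  intro a ha
  have : (⟨a, ha⟩ : adele k K) ∈ ADK (0 : Divisor k K) := by rw [htop]; trivial
  exact this

theorem single_mem_adele (P : Place k K) (z : K) :
    (Pi.single P z : Place k K → K) ∈ adele k K := by
  classical
  rw [FF.mem_adele_iff]
  apply (Set.finite_singleton P).subset
  intro Q hQ
  have hQ' : ¬ Q.1 ((Pi.single P z : Place k K → K) Q) ≤ 1 := hQ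
  rw [Set.mem_singleton_iff]
  by_contra hne
  apply hQ'
  rw [Pi.single_eq_of_ne hne, map_zero]
  exact zero_le

end gen

section approx

variable {k : Type u} [Field k]

theorem exists_approx (p : Place k (RatFunc k)) (r : RatFunc k) :
    ∃ r₀ : RatFunc k, p.1 (r - r₀) ≤ 1 ∧ ∀ p' : Place k (RatFunc k), p' ≠ p → p'.1 r₀ ≤ 1 := by
  classical
  have hK₀ : IsFunctionField k (RatFunc k) := FF.isFunctionField_ratFunc
  have ha : (Pi.single p r : Place k (RatFunc k) → RatFunc k) ∈ adele k (RatFunc k) :=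
    single_mem_adele p r
  have h := adele_le_of_genus_zero hK₀ FG.genus_ratFunc ha
  obtain ⟨b, hb, c, ⟨r₀, rfl⟩, hbc⟩ := Submodule.mem_sup.mp h
  refine ⟨r₀, ?_, ?_⟩
  · have h1 := congrFun hbc p
    rw [Pi.add_apply, FF.diag_apply, Pi.single_eq_same] at h1
    have e : r - r₀ = b p := by rw [← h1]; ring
    rw [e]
    have := hb p
    rwa [Finsupp.zero_apply, WithZero.exp_zero] at this
  · intro p' hp'
    have h1 := congrFun hbc p'
    rw [Pi.add_apply, FF.diag_apply, Pi.single_eq_of_ne hp'] at h1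
    have e : r₀ = -(b p') := by linear_combination h1
    rw [e, Valuation.map_neg]
    have := hb p'
    rwa [Finsupp.zero_apply, WithZero.exp_zero] at this

end approx

section main

variable {k : Type u} {K : Type v} [Field k] [Field K] [Algebra k K] [Algebra (RatFunc k) K]
  [IsScalarTower k (RatFunc k) K]

local notation "ι" => algebraMap (RatFunc k) K

/-- a repartition concentrated at the only place over `p` with a component from `k(x)` is trivial in
`H¹` -/
theorem single_mem_ADK [FiniteDimensional (RatFunc k) K] (P : Place k K)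
    (p : Place k (RatFunc k)) (e : ℕ) (he : IsOverWith P p e)
    (huniq : ∀ Q : Place k K, IsOver Q p → Q = P) (r : RatFunc k) :
    (Pi.single P (ι r) : Place k K → K) ∈
      AD (0 : Divisor k K) ⊔ LinearMap.range (diag k K) := by
  classical
  have hK₀ : IsFunctionField k (RatFunc k) := FF.isFunctionField_ratFunc
  obtain ⟨r₀, h1, h2⟩ := exists_approx p r
  refine Submodule.mem_sup.mpr ⟨fun Q => if Q = P then ι (r - r₀) else -ι r₀, ?_,
    diag k K (ι r₀), ⟨_, rfl⟩, ?_⟩
  · intro Q
    show Q.1 (if Q = P then ι (r - r₀) else -ι r₀) ≤ WithZero.exp ((0 : Divisor k K) Q)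
    rw [Finsupp.zero_apply, WithZero.exp_zero]
    by_cases hQ : Q = P
    · rw [if_pos hQ, hQ, he]; exact pow_le_one₀ zero_le h1
    · rw [if_neg hQ, Valuation.map_neg]
      obtain ⟨p', e', he'⟩ := FG.exists_isOverWith hK₀.1 Q
      have hp' : p' ≠ p := by
        rintro rfl
        exact hQ (huniq Q ⟨e', he'⟩)
      rw [he']; exact pow_le_one₀ zero_le (h2 p' hp')
  · funext Q
    rw [Pi.add_apply, FF.diag_apply]
    by_cases hQ : Q = P
    · rw [if_pos hQ, hQ, Pi.single_eq_same, map_sub]; ring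
    · rw [if_neg hQ, Pi.single_eq_of_ne hQ]; ring

/-- the data at the distinguished place over `X = α` -/
theorem pole_data (h2 : ringChar k = 2)
    (hdeg : Module.finrank (RatFunc k) K = 2) {y : K} (hy : y ∉ Set.range ι) {f : RatFunc k}
    (heq : y ^ 2 + y = ι f) (α : k) (n : ℕ) (hn : Odd n)
    (hpole : ∀ p : Place k (RatFunc k), p.1 (RatFunc.X - RatFunc.C α) < 1 → p.ord f = -(n : ℤ))
    (P : Place k K) (hP : P.1 (ι RatFunc.X - algebraMap k K α) < 1) :
    ∃ p : Place k (RatFunc k), p.1 (RatFunc.X - RatFunc.C α) < 1 ∧ IsOverWith P p 2 ∧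
      (∀ Q : Place k K, IsOver Q p → Q = P) ∧ P.1 y = WithZero.exp (n : ℤ) ∧
      P.1 (ι RatFunc.X - algebraMap k K α) = WithZero.exp (-2 : ℤ) := by
  have hK₀ : IsFunctionField k (RatFunc k) := FF.isFunctionField_ratFunc
  haveI hfd : FiniteDimensional (RatFunc k) K :=
    Module.finite_of_finrank_pos (by rw [hdeg]; norm_num)
  obtain ⟨p, e, he⟩ := FG.exists_isOverWith hK₀.1 P
  have he0 := FG.isOverWith_pos he
  rw [AS2Loc.val_sub_of_isOverWith he] at hP
  have hp := (pow_lt_one_iff_of_nonneg zero_le he0).1 hP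
  have hpf := hpole p hp
  obtain ⟨he2, hPy, hPx⟩ := AS2Loc.at_pole h2 hdeg hy heq α n hn p hp hpf P ⟨e, he⟩
  refine ⟨p, hp, he2, ?_, hPy, hPx⟩
  intro Q hQ
  obtain ⟨t', ht'⟩ := hn
  have hneg : p.ord f < 0 := by rw [hpf]; omega
  have hodd : Odd (p.ord f) := ⟨-t' - 1, by rw [hpf, ht']; push_cast; ring⟩
  have hram := (FG.artin_schreier_ramification h2 hdeg y hy f heq p).1 ⟨hneg, hodd⟩
  exact hram.1.unique hQ ⟨e, he⟩

theorem s19047 (h2 : ringChar k = 2)
    (hK : FunFld.IsFunctionField k K) (hdeg : Module.finrank (RatFunc k) K = 2)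
    (y : K) (hy : y ∉ Set.range (algebraMap (RatFunc k) K)) (f : RatFunc k)
    (heq : y ^ 2 + y = algebraMap (RatFunc k) K f)
    (B : Finset k) (d : k → ℕ) (hd : ∀ β ∈ B, Odd (d β))
    (hpole : ∀ (p : FunFld.Place k (RatFunc k)) (β : k), β ∈ B →
      p.1 ((RatFunc.X : RatFunc k) - RatFunc.C β) < 1 → p.ord f = -(d β : ℤ))
    (Pl : k → FunFld.Place k K)
    (hPl : ∀ β ∈ B, (Pl β).1 ((algebraMap (RatFunc k) K RatFunc.X) - (algebraMap k K β)) < 1)
    (α : k) (hα : α ∈ B) (j : ℕ) :
    (4 * j + 1 ≤ d α →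
      (Pi.single (Pl α) ((y * ((algebraMap (RatFunc k) K RatFunc.X) - (algebraMap k K α)) ^ j) ^ 2) :
          FunFld.Place k K → K) -
        (Pi.single (Pl α) (y * ((algebraMap (RatFunc k) K RatFunc.X) - (algebraMap k K α)) ^ (2 * j)) :
          FunFld.Place k K → K) ∈
        (FunFld.AD (0 : FunFld.Divisor k K) ⊔ LinearMap.range (FunFld.diag k K))) ∧
    (d α < 4 * j + 1 →
      (Pi.single (Pl α) ((y * ((algebraMap (RatFunc k) K RatFunc.X) - (algebraMap k K α)) ^ j) ^ 2) :
          FunFld.Place k K → K) ∈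
        (FunFld.AD (0 : FunFld.Divisor k K) ⊔ LinearMap.range (FunFld.diag k K))) := by
  classical
  haveI hfd : FiniteDimensional (RatFunc k) K :=
    Module.finite_of_finrank_pos (by rw [hdeg]; norm_num)
  obtain ⟨p, hp, he2, huniq, hPy, hPx⟩ := pole_data h2 hdeg hy heq α (d α) (hd α hα)
    (fun p hp => hpole p α hα hp) (Pl α) (hPl α hα)
  have h2K : (2 : K) = 0 := ASReg.two_eq_zero h2
  obtain ⟨t, ht_def⟩ : ∃ t : K, t = ι RatFunc.X - algebraMap k K α := ⟨_, rfl⟩
  rw [← ht_def] at hPx ⊢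
  have hsq : (y * t ^ j) ^ 2 =
      y * t ^ (2 * j) + ι (f * (RatFunc.X - RatFunc.C α) ^ (2 * j)) := by
    rw [map_mul, map_pow, AS2Loc.map_X_sub_C, ← ht_def, ← heq]
    have e1 : (y * t ^ j) ^ 2 = y ^ 2 * t ^ (2 * j) := by rw [mul_pow, ← pow_mul, mul_comm j 2]
    rw [e1]
    linear_combination (-(y * t ^ (2 * j))) * h2K
  have hC := single_mem_ADK (Pl α) p 2 he2 huniq (f * (RatFunc.X - RatFunc.C α) ^ (2 * j))
  constructor
  · intro _
    rw [← Pi.single_sub, hsq, add_sub_cancel_left]
    exact hC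
  · intro hlt'
    rw [hsq, Pi.single_add]
    refine Submodule.add_mem _ (Submodule.mem_sup_left ?_) hC
    intro Q
    show Q.1 ((Pi.single (Pl α) (y * t ^ (2 * j)) : Place k K → K) Q) ≤
      WithZero.exp ((0 : Divisor k K) Q)
    rw [Finsupp.zero_apply, WithZero.exp_zero]
    by_cases hQ : Q = Pl α
    · rw [hQ, Pi.single_eq_same, map_mul, map_pow, hPy, hPx, ← WithZero.exp_nsmul,
        ← WithZero.exp_add, ← WithZero.exp_zero, WithZero.exp_le_exp]
      simp only [nsmul_eq_mul]
      push_cast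
      omega
    · rw [Pi.single_eq_of_ne hQ, map_zero]; exact zero_le

end main

end Groth.Agent.Helper6.AS2Adele
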