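import Mathlib
import Groth.Agent.Helper6.AS2Adele

set_option autoImplicit false
set_option linter.style.haveILetI false
set_option linter.unusedSectionVars false

/-!
# The index set of the standard bases for an Artin–Schreier curve `y² + y = f` with odd poles
-/

namespace Groth.Agent.Helper6.AS2Idx

open FunFld Polynomial
open Groth.Agent.Helper5
open scoped IntermediateField
open Classical

universe u v w

section idx

variable {k : Type u} [Field k] (B : Finset k) (d : k → ℕ)

abbrev S₁ : Type u := {a : ↥B × ℕ // 1 ≤ a.2 ∧ 2 * a.2 + 1 ≤ d (a.1 : k)}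
abbrev S₂ : Type u := {b : ↥B // (b : k) ≠ 0}
abbrev I : Type u := S₁ B d ⊕ S₂ B

def idx : I B d → k := Sum.elim (fun a => (a.1.1 : k)) (fun b => (b.1 : k))
def ex : I B d → ℕ := Sum.elim (fun a => a.1.2) (fun _ => 0)

variable {B d}

theorem idx_mem (i : I B d) : idx B d i ∈ B := by
  rcases i with a | b
  · exact a.1.1.2
  · exact b.1.2

theorem ex_bound (hd : ∀ β ∈ B, Odd (d β)) (i : I B d) : 2 * ex B d i + 1 ≤ d (idx B d i) := by
  rcases i with a | b
  · exact a.2.2
  · obtain ⟨t, ht⟩ := hd _ b.1.2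
    show 2 * 0 + 1 ≤ d (b.1 : k)
    omega

theorem idx_ex_injective (i i' : I B d) (h1 : idx B d i = idx B d i') (h2 : ex B d i = ex B d i') :
    i = i' := by
  rcases i with a | b <;> rcases i' with a' | b'
  · congr 1
    apply Subtype.ext
    apply Prod.ext
    · exact Subtype.ext h1
    · exact h2
  · exfalso
    have := a.2.1
    have h3 : a.1.2 = 0 := h2
    omega
  · exfalso
    have := a'.2.1
    have h3 : 0 = a'.1.2 := h2
    omega
  · congr 1
    apply Subtype.ext
    exact Subtype.ext h1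

theorem one_le_ex_of_idx_zero (i : I B d) (h : idx B d i = 0) : 1 ≤ ex B d i := by
  rcases i with a | b
  · exact a.2.1
  · exact absurd h b.2

theorem card_index [Fintype (I B d)] (hd : ∀ β ∈ B, Odd (d β)) (h0 : (0 : k) ∈ B) :
    Fintype.card (I B d) + 1 = ∑ α ∈ B, (d α + 1) / 2 := by
  let e₁ : S₁ B d ≃ Σ α : ↥B, Fin ((d (α : k) - 1) / 2) :=
    { toFun := fun a => ⟨a.1.1, ⟨a.1.2 - 1, by have := a.2; omega⟩⟩
      invFun := fun s => ⟨(s.1, s.2.1 + 1), by
        have := s.2.2
        constructor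
        · show 1 ≤ s.2.1 + 1; omega
        · show 2 * (s.2.1 + 1) + 1 ≤ d (s.1 : k); omega⟩
      left_inv := fun a => by
        apply Subtype.ext
        apply Prod.ext
        · rfl
        · have := a.2.1
          show a.1.2 - 1 + 1 = a.1.2
          omega
      right_inv := fun s => by
        rcases s with ⟨α, i, hi⟩
        rfl }
  let e₂ : S₂ B ≃ ↥(B.erase 0) :=
    { toFun := fun b => ⟨b.1.1, Finset.mem_erase.2 ⟨b.2, b.1.2⟩⟩
      invFun := fun c => ⟨⟨c.1, Finset.mem_of_mem_erase c.2⟩, Finset.ne_of_mem_erase c.2⟩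
      left_inv := fun b => rfl
      right_inv := fun c => rfl }
  have h1 : Nat.card (S₁ B d) = ∑ α ∈ B, (d α - 1) / 2 := by
    rw [Nat.card_congr e₁, Nat.card_eq_fintype_card, Fintype.card_sigma]
    simp only [Fintype.card_fin]
    exact Finset.sum_coe_sort B (fun α => (d α - 1) / 2)
  have h2 : Nat.card (S₂ B) = B.card - 1 := by
    rw [Nat.card_congr e₂, Nat.card_eq_fintype_card, Fintype.card_coe,
      Finset.card_erase_of_mem h0]
  haveI : Finite (S₁ B d) := Finite.of_equiv _ e₁.symm
  haveI : Finite (S₂ B) := Finite.of_equiv _ e₂.symm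
  have h3 : Fintype.card (I B d) = Nat.card (S₁ B d) + Nat.card (S₂ B) := by
    rw [← Nat.card_eq_fintype_card, Nat.card_sum]
  have h4 : ∑ α ∈ B, (d α + 1) / 2 = ∑ α ∈ B, (d α - 1) / 2 + B.card := by
    rw [Finset.card_eq_sum_ones, ← Finset.sum_add_distrib]
    refine Finset.sum_congr rfl fun α hα => ?_
    obtain ⟨t, ht⟩ := hd α hα
    omega
  have h5 : 1 ≤ B.card := Finset.card_pos.mpr ⟨0, h0⟩
  rw [h3, h1, h2, h4]
  omega

theorem finite_index (hd : ∀ β ∈ B, Odd (d β)) : Finite (I B d) := by
  let e₁ : S₁ B d → ↥B × Fin (B.sup d + 1) :=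
    fun a => (a.1.1, ⟨a.1.2, by
      have h1 := a.2.2
      have h2 : d (a.1.1 : k) ≤ B.sup d := Finset.le_sup (f := d) a.1.1.2
      omega⟩)
  have hinj : Function.Injective e₁ := by
    intro a a' h
    apply Subtype.ext
    apply Prod.ext
    · have h1 : (e₁ a).1 = (e₁ a').1 := congrArg Prod.fst h
      exact h1
    · have h2 : ((e₁ a).2 : ℕ) = ((e₁ a').2 : ℕ) := congrArg (fun z => (z.2 : ℕ)) h
      exact h2
  haveI : Finite (S₁ B d) := Finite.of_injective e₁ hinj
  infer_instance

variable [Fintype (I B d)]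

/-- the polynomial collecting the coefficients attached to `α` -/
noncomputable def G (g : I B d → k) (α : k) : k[X] :=
  ∑ i, if idx B d i = α then C (g i) * X ^ ex B d i else 0

theorem G_coeff (g : I B d → k) (i₀ : I B d) :
    (G g (idx B d i₀)).coeff (ex B d i₀) = g i₀ := by
  unfold G
  rw [Polynomial.finsetSum_coeff, Finset.sum_eq_single i₀]
  · rw [if_pos rfl, coeff_C_mul, coeff_X_pow, if_pos rfl, mul_one]
  · intro i _ hne
    by_cases h1 : idx B d i = idx B d i₀
    · rw [if_pos h1, coeff_C_mul, coeff_X_pow, if_neg, mul_zero]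
      intro h2
      exact hne (idx_ex_injective i i₀ h1 h2.symm)
    · rw [if_neg h1, coeff_zero]
  · intro h
    exact absurd (Finset.mem_univ _) h

theorem G_natDegree_le (hd : ∀ β ∈ B, Odd (d β)) (g : I B d → k) (α : k) :
    2 * (G g α).natDegree + 1 ≤ d α ∨ G g α = 0 := by
  by_cases h0 : G g α = 0
  · exact Or.inr h0
  left
  have hle : (G g α).natDegree ≤ (d α - 1) / 2 := by
    unfold G
    apply Polynomial.natDegree_sum_le_of_forall_le
    intro i _
    by_cases h1 : idx B d i = α
    · rw [if_pos h1]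
      refine (Polynomial.natDegree_C_mul_X_pow_le _ _).trans ?_
      have := ex_bound hd i
      rw [h1] at this
      omega
    · rw [if_neg h1, natDegree_zero]; exact Nat.zero_le _
  -- some index contributes, so `d α ≥ 1`
  have hex : ∃ i, idx B d i = α := by
    by_contra hne
    push Not at hne
    apply h0
    unfold G
    exact Finset.sum_eq_zero fun i _ => by rw [if_neg (hne i)]
  obtain ⟨i, hi⟩ := hex
  have := ex_bound hd i
  rw [hi] at this
  omega

theorem G_coeff_zero (g : I B d → k) : (G g (0 : k)).coeff 0 = 0 := by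
  unfold G
  rw [Polynomial.finsetSum_coeff]
  apply Finset.sum_eq_zero
  intro i _
  by_cases h1 : idx B d i = 0
  · rw [if_pos h1, coeff_C_mul, coeff_X_pow, if_neg, mul_zero]
    have := one_le_ex_of_idx_zero i h1
    omega
  · rw [if_neg h1, coeff_zero]

theorem eq_zero_of_G (g : I B d → k) (h : ∀ α ∈ B, G g α = 0) : ∀ i, g i = 0 := by
  intro i
  rw [← G_coeff g i, h _ (idx_mem i), coeff_zero]

end idx

end Groth.Agent.Helper6.AS2Idx
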