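import Mathlib
import Groth.Agent.Helper6.AS2Idx
import Groth.Agent.Helper5.FFGaps2

set_option autoImplicit false
set_option linter.style.haveILetI false
set_option linter.unusedSectionVars false

/-!
# The places `X = α` of the rational function field and the genus of `y² + y = f`
-/

namespace Groth.Agent.Helper6.AS2Pl

open FunFld Polynomial
open Groth.Agent.Helper5
open scoped IntermediateField
open Classical

universe u v w

section rat

variable {k : Type u} [Field k]

theorem transcendental_X_sub_C (α : k) :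
    Transcendental k (RatFunc.X - RatFunc.C α : RatFunc k) := by
  intro h
  apply FG.transcendental_X (k := k)
  have h1 : IsAlgebraic k (RatFunc.C α : RatFunc k) := by
    rw [← RatFunc.algebraMap_eq_C]; exact isAlgebraic_algebraMap α
  have := h.add h1
  rwa [sub_add_cancel] at this

theorem exists_place_at (α : k) :
    ∃ p : Place k (RatFunc k), p.1 (RatFunc.X - RatFunc.C α) < 1 :=
  FF.exists_place_val_lt_one FF.isFunctionField_ratFunc (transcendental_X_sub_C α)

theorem val_poly_at (p : Place k (RatFunc k)) (α : k)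
    (hp : p.1 (RatFunc.X - RatFunc.C α) < 1) (a : k[X]) (ha : a ≠ 0) :
    p.1 (algebraMap k[X] (RatFunc k) a) = WithZero.exp (-1 : ℤ) ^ (a.rootMultiplicity α) := by
  obtain ⟨a₁, ha₁, hnd⟩ := Polynomial.exists_eq_pow_rootMultiplicity_mul_and_not_dvd a ha α
  have hpπ : p.1 (algebraMap k[X] (RatFunc k) (X - C α)) < 1 := by
    rw [map_sub, RatFunc.algebraMap_X, RatFunc.algebraMap_C]; exact hp
  have hcop : IsCoprime (X - C α) a₁ := (irreducible_X_sub_C α).coprime_iff_not_dvd.2 hnd
  have h1 := FF.val_eq_one_of_isCoprime p (X_sub_C_ne_zero α) hpπ hcop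
  have h2 := FF.val_irreducible_eq p (irreducible_X_sub_C α) hpπ
  conv_lhs => rw [ha₁]
  rw [map_mul, map_pow, map_mul, map_pow, h1, h2, mul_one]

theorem place_at_unique (p p' : Place k (RatFunc k)) (α : k)
    (hp : p.1 (RatFunc.X - RatFunc.C α) < 1) (hp' : p'.1 (RatFunc.X - RatFunc.C α) < 1) :
    p = p' := by
  have hpoly : ∀ a : k[X], p.1 (algebraMap k[X] (RatFunc k) a) =
      p'.1 (algebraMap k[X] (RatFunc k) a) := by
    intro a
    by_cases ha : a = 0
    · rw [ha, map_zero, map_zero, map_zero]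
    · rw [val_poly_at p α hp a ha, val_poly_at p' α hp' a ha]
  apply Subtype.ext
  ext r
  rw [← RatFunc.num_div_denom r, map_div₀, map_div₀, hpoly, hpoly]

theorem val_C_eq_one (p : Place k (RatFunc k)) {c : k} (hc : c ≠ 0) :
    p.1 (RatFunc.C c) = 1 := by
  rw [← RatFunc.algebraMap_eq_C]; exact FF.val_algebraMap p hc

theorem eq_of_val_lt (p : Place k (RatFunc k)) (α β : k)
    (hα : p.1 (RatFunc.X - RatFunc.C α) < 1) (hβ : p.1 (RatFunc.X - RatFunc.C β) < 1) :
    α = β := by
  by_contra hne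
  have h1 : p.1 (RatFunc.C (α - β)) = 1 := val_C_eq_one p (sub_ne_zero.mpr hne)
  have e : (RatFunc.C (α - β) : RatFunc k) =
      (RatFunc.X - RatFunc.C β) - (RatFunc.X - RatFunc.C α) := by rw [map_sub]; ring
  rw [e] at h1
  have h2 : p.1 ((RatFunc.X - RatFunc.C β) - (RatFunc.X - RatFunc.C α)) < 1 :=
    lt_of_le_of_lt (Valuation.map_sub _ _ _) (max_lt hβ hα)
  rw [h1] at h2
  exact lt_irrefl _ h2

theorem val_other (p : Place k (RatFunc k)) (α β : k)
    (hα : p.1 (RatFunc.X - RatFunc.C α) < 1) (hne : β ≠ α) :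
    p.1 (RatFunc.X - RatFunc.C β) = 1 := by
  have e : (RatFunc.X - RatFunc.C β : RatFunc k) =
      (RatFunc.X - RatFunc.C α) + RatFunc.C (α - β) := by rw [map_sub]; ring
  have h1 : p.1 (RatFunc.C (α - β)) = 1 := val_C_eq_one p (sub_ne_zero.mpr (Ne.symm hne))
  rw [e, Valuation.map_add_eq_of_lt_right _ (by rw [h1]; exact hα), h1]

end rat

section genus

variable {k : Type u} {K : Type v} [Field k] [Field K] [Algebra k K] [Algebra (RatFunc k) K]
  [IsScalarTower k (RatFunc k) K]

local notation "ι" => algebraMap (RatFunc k) K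

/-- `f` has a pole at `p` exactly when `p` is one of the places `X = α`, `α ∈ B` -/
theorem pole_iff (f : RatFunc k) (B : Finset k) (d : k → ℕ) (hd : ∀ β ∈ B, Odd (d β))
    (hpole : ∀ (p : Place k (RatFunc k)) (β : k), β ∈ B →
      p.1 ((RatFunc.X : RatFunc k) - RatFunc.C β) < 1 → p.ord f = -(d β : ℤ))
    (hint : ∀ p : Place k (RatFunc k),
      (∀ β ∈ B, 1 ≤ p.1 ((RatFunc.X : RatFunc k) - RatFunc.C β)) → p.1 f ≤ 1)
    (p : Place k (RatFunc k)) :
    p.ord f < 0 ↔ ∃ α ∈ B, p.1 (RatFunc.X - RatFunc.C α) < 1 := by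
  constructor
  · intro hneg
    by_contra hex
    push Not at hex
    have hpf := hint p hex
    have hf0 : f ≠ 0 := by
      rintro rfl
      rw [FF.ord_zero] at hneg
      exact lt_irrefl _ hneg
    exact absurd ((FF.ord_neg_iff p hf0).1 hneg) (not_lt.mpr hpf)
  · rintro ⟨α, hα, hp⟩
    rw [hpole p α hα hp]
    obtain ⟨t, ht⟩ := hd α hα
    omega

theorem genus_eq [IsAlgClosed k] (h2 : ringChar k = 2) (hK : IsFunctionField k K)
    (hdeg : Module.finrank (RatFunc k) K = 2) {y : K} (hy : y ∉ Set.range ι) {f : RatFunc k}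
    (heq : y ^ 2 + y = ι f) (B : Finset k) (d : k → ℕ) (hd : ∀ β ∈ B, Odd (d β))
    (hpole : ∀ (p : Place k (RatFunc k)) (β : k), β ∈ B →
      p.1 ((RatFunc.X : RatFunc k) - RatFunc.C β) < 1 → p.ord f = -(d β : ℤ))
    (hint : ∀ p : Place k (RatFunc k),
      (∀ β ∈ B, 1 ≤ p.1 ((RatFunc.X : RatFunc k) - RatFunc.C β)) → p.1 f ≤ 1) :
    genus k K + 1 = ∑ α ∈ B, (d α + 1) / 2 := by
  have hK₀ : IsFunctionField k (RatFunc k) := FF.isFunctionField_ratFunc
  choose pl hpl using (exists_place_at (k := k))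
  obtain ⟨Bd, hBd⟩ : ∃ Bd : Divisor k (RatFunc k),
      Bd = ∑ α ∈ B, Finsupp.single (pl α) (((d α + 1) / 2 : ℕ) : ℤ) := ⟨_, rfl⟩
  have hB : ∀ P : Place k (RatFunc k),
      Bd P = if P.ord f < 0 then (1 - P.ord f) / 2 else 0 := by
    intro P
    rw [hBd, Finsupp.finset_sum_apply]
    by_cases hex : ∃ α ∈ B, P.1 (RatFunc.X - RatFunc.C α) < 1
    · rw [if_pos ((pole_iff f B d hd hpole hint P).2 hex)]
      obtain ⟨α, hα, hPα⟩ := hex
      have hP : pl α = P := place_at_unique _ _ α (hpl α) hPα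
      rw [Finset.sum_eq_single α]
      · rw [Finsupp.single_apply, if_pos hP, hpole P α hα hPα]
        obtain ⟨t, ht⟩ := hd α hα
        omega
      · intro β _ hne
        rw [Finsupp.single_apply, if_neg]
        intro h
        apply hne
        have := hpl β
        rw [h] at this
        exact eq_of_val_lt P β α this hPα
      · intro h
        exact absurd hα h
    · rw [if_neg (fun h => hex ((pole_iff f B d hd hpole hint P).1 h))]
      push Not at hex
      apply Finset.sum_eq_zero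
      intro β hβ
      rw [Finsupp.single_apply, if_neg]
      intro h
      have := hpl β
      rw [h] at this
      exact absurd this (not_lt.mpr (hex β hβ))
  have hodd' : ∀ P : Place k (RatFunc k), P.ord f < 0 → Odd (P.ord f) := by
    intro P hneg
    obtain ⟨α, hα, hPα⟩ := (pole_iff f B d hd hpole hint P).1 hneg
    rw [hpole P α hα hPα]
    obtain ⟨t, ht⟩ := hd α hα
    exact ⟨-t - 1, by rw [ht]; push_cast; ring⟩
  have hg := ASGenus.core h2 hK hdeg hy heq hodd' Bd hB
  have hdegB : Bd.deg = ∑ α ∈ B, (((d α + 1) / 2 : ℕ) : ℤ) := by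
    rw [hBd, ← FF.degHom_apply, map_sum]
    refine Finset.sum_congr rfl fun α _ => ?_
    rw [FF.degHom_apply, FF.deg_single, FF.deg_eq_one_of_isAlgClosed hK₀ (pl α)]
    push_cast
    ring
  rw [hdegB] at hg
  have : ((genus k K + 1 : ℕ) : ℤ) = ((∑ α ∈ B, (d α + 1) / 2 : ℕ) : ℤ) := by
    push_cast
    rw [hg]
    push_cast
    ring
  exact_mod_cast this

end genus

end Groth.Agent.Helper6.AS2Pl
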