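import Mathlib
import Groth.Agent.Helper6.AS2Pl

set_option autoImplicit false
set_option linter.style.haveILetI false
set_option linter.unusedSectionVars false

/-!
# The standard basis of `H¹(X, O)` for the curve `y² + y = f` in characteristic two
-/

namespace Groth.Agent.Helper6.AS2H1

open FunFld Polynomial
open Groth.Agent.Helper5
open Groth.Agent.Helper6.AS2Idx
open scoped IntermediateField
open Classical

universe u v w

section rat

variable {k : Type u} [Field k]

theorem val_aeval_at (p : Place k (RatFunc k)) (α : k)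
    (hp : p.1 (RatFunc.X - RatFunc.C α) < 1) (H : k[X]) (hH : H ≠ 0) :
    ∃ m : ℕ, m ≤ H.natDegree ∧
      p.1 (aeval (RatFunc.X - RatFunc.C α : RatFunc k) H) = WithZero.exp (-1 : ℤ) ^ m := by
  obtain ⟨H₁, hH₁, hnd⟩ := Polynomial.exists_eq_pow_rootMultiplicity_mul_and_not_dvd H hH 0
  rw [C_0, sub_zero] at hH₁ hnd
  obtain ⟨m, hm⟩ : ∃ m, m = H.rootMultiplicity 0 := ⟨_, rfl⟩
  rw [← hm] at hH₁
  have hH₁0 : H₁ ≠ 0 := by
    rintro rfl
    rw [mul_zero] at hH₁
    exact hH hH₁
  have hc : H₁.coeff 0 ≠ 0 := fun h => hnd (X_dvd_iff.2 h)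
  refine ⟨m, ?_, ?_⟩
  · have h1 : H.natDegree = m + H₁.natDegree := by
      rw [hH₁, natDegree_mul (pow_ne_zero _ X_ne_zero) hH₁0, natDegree_X_pow]
    omega
  · have h1 : aeval (RatFunc.X - RatFunc.C α : RatFunc k) H =
        (RatFunc.X - RatFunc.C α) ^ m * aeval (RatFunc.X - RatFunc.C α : RatFunc k) H₁ := by
      rw [hH₁, map_mul, map_pow, aeval_X]
    rw [h1, map_mul, map_pow, AS2Loc.val_X_sub_C_of_lt p α hp, FF.val_aeval_eq_one p hp hc,
      mul_one]

end rat

section main

variable {k : Type u} {K : Type v} [Field k] [Field K] [Algebra k K] [Algebra (RatFunc k) K]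
  [IsScalarTower k (RatFunc k) K]

local notation "ι" => algebraMap (RatFunc k) K

/-- the family of the statement -/
noncomputable def vfam (B : Finset k) (d : k → ℕ) (y : K) (Pl : k → Place k K) :
    I B d → (Place k K → K) :=
  Sum.elim
    (fun a : {a : ↥B × ℕ // 1 ≤ a.2 ∧ 2 * a.2 + 1 ≤ d (a.1 : k)} =>
      (Pi.single (Pl (a.1.1 : k)) (y * ((algebraMap (RatFunc k) K RatFunc.X) -
        (algebraMap k K (a.1.1 : k))) ^ a.1.2) : FunFld.Place k K → K))
    (fun b : {b : ↥B // (b : k) ≠ 0} => (Pi.single (Pl (b.1 : k)) y : FunFld.Place k K → K))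

theorem vfam_eq (B : Finset k) (d : k → ℕ) (y : K) (Pl : k → Place k K) (i : I B d) :
    vfam B d y Pl i = Pi.single (Pl (idx B d i))
      (y * (ι RatFunc.X - algebraMap k K (idx B d i)) ^ ex B d i) := by
  rcases i with a | b
  · rfl
  · show (Pi.single (Pl (b.1 : k)) y : Place k K → K) =
      Pi.single (Pl (b.1 : k)) (y * (ι RatFunc.X - algebraMap k K (b.1 : k)) ^ 0)
    rw [pow_zero, mul_one]

/-- the parity argument at a pole place -/
theorem loc (h2 : ringChar k = 2) (hdeg : Module.finrank (RatFunc k) K = 2) {y : K}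
    (hy : y ∉ Set.range ι) {f : RatFunc k} (heq : y ^ 2 + y = ι f) (α : k) (n : ℕ) (hn : Odd n)
    (hpole : ∀ p : Place k (RatFunc k), p.1 (RatFunc.X - RatFunc.C α) < 1 → p.ord f = -(n : ℤ))
    (P : Place k K) (hP : P.1 (ι RatFunc.X - algebraMap k K α) < 1) (a s : RatFunc k)
    (h : P.1 (ι s * y - ι a) ≤ 1) :
    ∃ p : Place k (RatFunc k), p.1 (RatFunc.X - RatFunc.C α) < 1 ∧
      p.1 s ^ 2 * WithZero.exp (n : ℤ) ≤ 1 := by
  obtain ⟨p, hp, he2, -, hPy, -⟩ := AS2Adele.pole_data h2 hdeg hy heq α n hn hpole P hP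
  refine ⟨p, hp, ?_⟩
  have hval : P.1 (ι s * y) = p.1 s ^ 2 * WithZero.exp (n : ℤ) := by
    rw [map_mul, he2 s, hPy]
  rw [← hval]
  by_cases ha0 : a = 0
  · rw [ha0, map_zero, sub_zero] at h
    exact h
  by_cases hs0 : s = 0
  · rw [hs0, map_zero, zero_mul, map_zero]
    exact zero_le
  have hne : P.1 (ι s * y) ≠ P.1 (-(ι a)) := by
    intro heq'
    rw [Valuation.map_neg, hval, he2 a, FF.val_eq_exp_neg_ord p hs0,
      FF.val_eq_exp_neg_ord p ha0, ← WithZero.exp_nsmul, ← WithZero.exp_nsmul,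
      ← WithZero.exp_add] at heq'
    have h3 := WithZero.exp_injective heq'
    simp only [nsmul_eq_mul, Nat.cast_ofNat] at h3
    obtain ⟨t, ht⟩ := hn
    omega
  rw [sub_eq_add_neg, Valuation.map_add_of_distinct_val _ hne, max_le_iff] at h
  exact h.1

/-- a combination of the family lying in `A(0) + K` is trivial -/
theorem core2 (h2 : ringChar k = 2)
    (hdeg : Module.finrank (RatFunc k) K = 2) {y : K} (hy : y ∉ Set.range ι) {f : RatFunc k}
    (heq : y ^ 2 + y = ι f) (B : Finset k) (h0 : (0 : k) ∈ B) (d : k → ℕ)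
    (hd : ∀ β ∈ B, Odd (d β))
    (hpole : ∀ (p : Place k (RatFunc k)) (β : k), β ∈ B →
      p.1 ((RatFunc.X : RatFunc k) - RatFunc.C β) < 1 → p.ord f = -(d β : ℤ))
    (Pl : k → Place k K)
    (hPl : ∀ β ∈ B, (Pl β).1 (ι RatFunc.X - algebraMap k K β) < 1)
    [Fintype (I B d)] (gc : I B d → k)
    (hmem : ∑ i, gc i • vfam B d y Pl i ∈ AD (0 : Divisor k K) ⊔ LinearMap.range (diag k K)) :
    ∀ i, gc i = 0 := by
  have hK₀ : IsFunctionField k (RatFunc k) := FF.isFunctionField_ratFunc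
  haveI hfd : FiniteDimensional (RatFunc k) K :=
    Module.finite_of_finrank_pos (by rw [hdeg]; norm_num)
  have h2k : (2 : k) = 0 := by
    have := ringChar.spec k 2
    have h3 : ((2 : ℕ) : k) = 0 := this.mpr (by rw [h2])
    exact_mod_cast h3
  have h2F : (2 : RatFunc k) = 0 := by
    rw [← map_ofNat (algebraMap k (RatFunc k)) 2, h2k, map_zero]
  -- the automorphism
  obtain ⟨σ₀, hσ₀⟩ := ASGenus.exists_sigma h2F hdeg hy heq
  obtain ⟨σ, hσ⟩ : ∃ σ : K ≃ₐ[k] K, ∀ z, σ z = σ₀ z := ⟨σ₀.restrictScalars k, fun z => rfl⟩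
  have hσι : ∀ r : RatFunc k, σ (ι r) = ι r := fun r => by rw [hσ]; exact σ₀.commutes r
  have hσy : σ y = y + 1 := by rw [hσ]; exact hσ₀
  have hσt : ∀ α : k, σ (ι RatFunc.X - algebraMap k K α) = ι RatFunc.X - algebraMap k K α := by
    intro α
    rw [map_sub, hσι, σ.commutes]
  -- injectivity of `Pl` on `B`
  have hPlinj : ∀ α ∈ B, ∀ β ∈ B, Pl α = Pl β → α = β := by
    intro α hα β hβ h
    by_contra hne
    have h1 : (Pl α).1 (algebraMap k K (α - β)) = 1 :=
      FF.val_algebraMap (Pl α) (sub_ne_zero.mpr hne)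
    have e : algebraMap k K (α - β) =
        (ι RatFunc.X - algebraMap k K β) - (ι RatFunc.X - algebraMap k K α) := by
      rw [map_sub]; ring
    have hβ' := hPl β hβ
    rw [← h] at hβ'
    have h3 : (Pl α).1 (algebraMap k K (α - β)) < 1 := by
      rw [e]
      exact lt_of_le_of_lt (Valuation.map_sub _ _ _) (max_lt hβ' (hPl α hα))
    rw [h1] at h3
    exact lt_irrefl _ h3
  -- unpack the hypothesis
  obtain ⟨b, hb, c, ⟨w, rfl⟩, hbc⟩ := Submodule.mem_sup.mp hmem
  obtain ⟨A, hA⟩ : ∃ A : Place k K → K, A = ∑ i, gc i • vfam B d y Pl i := ⟨_, rfl⟩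
  rw [← hA] at hbc
  have hAw : ∀ Q : Place k K, Q.1 (A Q - w) ≤ 1 := by
    intro Q
    have h1 := congrFun hbc Q
    rw [Pi.add_apply, FF.diag_apply] at h1
    have e : A Q - w = b Q := by rw [← h1]; ring
    rw [e]
    have := hb Q
    rwa [Finsupp.zero_apply, WithZero.exp_zero] at this
  have hAi : ∀ Q : Place k K, A Q = ∑ i, gc i • (Pi.single (Pl (idx B d i))
      (y * (ι RatFunc.X - algebraMap k K (idx B d i)) ^ ex B d i) : Place k K → K) Q := by
    intro Q
    rw [hA, Finset.sum_apply]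
    refine Finset.sum_congr rfl fun i _ => ?_
    rw [Pi.smul_apply, vfam_eq]
  have hAoff : ∀ Q : Place k K, (∀ α ∈ B, Q ≠ Pl α) → A Q = 0 := by
    intro Q hQ
    rw [hAi]
    apply Finset.sum_eq_zero
    intro i _
    rw [Pi.single_eq_of_ne (hQ _ (idx_mem i)), smul_zero]
  have hAon : ∀ α ∈ B, A (Pl α) = y * aeval (ι RatFunc.X - algebraMap k K α) (G gc α) := by
    intro α hα
    rw [hAi, G, map_sum, Finset.mul_sum]
    refine Finset.sum_congr rfl fun i _ => ?_
    by_cases hi : idx B d i = α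
    · rw [if_pos hi, hi, Pi.single_eq_same, map_mul, aeval_C, map_pow, aeval_X,
        Algebra.smul_def]
      ring
    · rw [if_neg hi, map_zero, mul_zero, Pi.single_eq_of_ne, smul_zero]
      intro h
      exact hi (hPlinj α hα _ (idx_mem i) h).symm
  -- the representation of `w`
  obtain ⟨a, r, hw⟩ := HypGenus.exists_repr hdeg hy w
  have hσw : σ w = w + ι r := by
    rw [hw, map_add, map_mul, hσι, hσι, hσy]; ring
  have hoffw : ∀ Q : Place k K,
      (∀ α ∈ B, 1 ≤ Q.1 (ι RatFunc.X - algebraMap k K α)) → Q.1 w ≤ 1 := by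
    intro Q hQ
    have hne : ∀ α ∈ B, Q ≠ Pl α := by
      rintro α hα rfl
      exact absurd (hPl α hα) (not_lt.mpr (hQ α hα))
    have h1 := hAw Q
    rw [hAoff Q hne, zero_sub, Valuation.map_neg] at h1
    exact h1
  have hoffr : ∀ Q : Place k K,
      (∀ α ∈ B, 1 ≤ Q.1 (ι RatFunc.X - algebraMap k K α)) → Q.1 (ι r) ≤ 1 := by
    intro Q hQ
    have h1 := hoffw Q hQ
    have h2' : (FF.comapPlace σ Q).1 w ≤ 1 := by
      apply hoffw
      intro α hα
      rw [FF.comapPlace_val, hσt]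
      exact hQ α hα
    rw [FF.comapPlace_val, hσw] at h2'
    have e : ι r = (w + ι r) - w := by ring
    rw [e]
    exact (Valuation.map_sub _ _ _).trans (max_le h2' h1)
  have hroff : ∀ p : Place k (RatFunc k),
      (∀ α ∈ B, 1 ≤ p.1 (RatFunc.X - RatFunc.C α)) → p.1 r ≤ 1 := by
    intro p hp
    obtain ⟨Q, e, he⟩ := ASGenus.exists_isOver (K' := K) hK₀ p
    have he0 := FG.isOverWith_pos he
    have h1 : Q.1 (ι r) ≤ 1 := by
      apply hoffr
      intro α hα
      rw [AS2Loc.val_sub_of_isOverWith he α]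
      exact one_le_pow₀ (hp α hα)
    rw [he r] at h1
    exact (pow_le_one_iff_of_nonneg zero_le he0).1 h1
  -- the local analysis at the pole places
  have hloc : ∀ α ∈ B, ∃ p : Place k (RatFunc k), p.1 (RatFunc.X - RatFunc.C α) < 1 ∧
      p.1 (aeval (RatFunc.X - RatFunc.C α : RatFunc k) (G gc α) - r) ^ 2 *
        WithZero.exp (d α : ℤ) ≤ 1 := by
    intro α hα
    have h1 := hAw (Pl α)
    rw [hAon α hα, hw] at h1
    have e : y * aeval (ι RatFunc.X - algebraMap k K α) (G gc α) - (ι a + ι r * y) =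
        ι (aeval (RatFunc.X - RatFunc.C α : RatFunc k) (G gc α) - r) * y - ι a := by
      rw [map_sub, ← Polynomial.aeval_algebraMap_apply, AS2Loc.map_X_sub_C]
      ring
    rw [e] at h1
    exact loc h2 hdeg hy heq α (d α) (hd α hα) (fun p hp => hpole p α hα hp) (Pl α)
      (hPl α hα) a _ h1
  have hrpole : ∀ α ∈ B, ∀ p : Place k (RatFunc k),
      p.1 (RatFunc.X - RatFunc.C α) < 1 → p.1 r ≤ 1 := by
    intro α hα p' hp'
    obtain ⟨p, hp, hle⟩ := hloc α hα
    have hpp : p = p' := AS2Pl.place_at_unique p p' α hp hp'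
    rw [← hpp]
    obtain ⟨s, hs⟩ : ∃ s : RatFunc k,
        s = aeval (RatFunc.X - RatFunc.C α : RatFunc k) (G gc α) - r := ⟨_, rfl⟩
    rw [← hs] at hle
    have hs1 : p.1 s ≤ 1 := by
      by_contra hlt
      rw [not_le] at hlt
      have h1 : 1 < p.1 s ^ 2 := one_lt_pow₀ hlt two_ne_zero
      have h3 : (1 : WithZero (Multiplicative ℤ)) ≤ WithZero.exp (d α : ℤ) := by
        rw [← WithZero.exp_zero, WithZero.exp_le_exp]; exact Int.natCast_nonneg _
      have h4 : 1 < p.1 s ^ 2 * WithZero.exp (d α : ℤ) := by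
        calc (1 : WithZero (Multiplicative ℤ)) < p.1 s ^ 2 := h1
          _ = p.1 s ^ 2 * 1 := (mul_one _).symm
          _ ≤ p.1 s ^ 2 * WithZero.exp (d α : ℤ) := mul_le_mul' le_rfl h3
      exact absurd h4 (not_lt.mpr hle)
    have hT : p.1 (aeval (RatFunc.X - RatFunc.C α : RatFunc k) (G gc α)) ≤ 1 :=
      HypGenus.val_aeval_le_one p hp.le _
    have e : r = aeval (RatFunc.X - RatFunc.C α : RatFunc k) (G gc α) - s := by rw [hs]; ring
    rw [e]
    exact (Valuation.map_sub _ _ _).trans (max_le hT hs1)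
  have hrall : ∀ p : Place k (RatFunc k), p.1 r ≤ 1 := by
    intro p
    by_cases hex : ∃ α ∈ B, p.1 (RatFunc.X - RatFunc.C α) < 1
    · obtain ⟨α, hα, hp⟩ := hex
      exact hrpole α hα p hp
    · push Not at hex
      exact hroff p hex
  obtain ⟨c, hc⟩ := FF.mem_range_of_forall_val_le_one hK₀ hrall
  -- the polynomials are constant
  have hG : ∀ α ∈ B, G gc α = C c := by
    intro α hα
    obtain ⟨p, hp, hle⟩ := hloc α hα
    by_contra hne
    have hH : G gc α - C c ≠ 0 := sub_ne_zero.mpr hne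
    obtain ⟨m, hm, hval⟩ := val_aeval_at p α hp (G gc α - C c) hH
    have e : aeval (RatFunc.X - RatFunc.C α : RatFunc k) (G gc α) - r =
        aeval (RatFunc.X - RatFunc.C α : RatFunc k) (G gc α - C c) := by
      rw [map_sub, aeval_C, hc]
    rw [e, hval] at hle
    have hdegH : 2 * (G gc α - C c).natDegree + 1 ≤ d α := by
      have h1 : (G gc α - C c).natDegree ≤ (G gc α).natDegree := by
        refine (natDegree_sub_le _ _).trans ?_
        rw [natDegree_C, max_eq_left (Nat.zero_le _)]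
      rcases G_natDegree_le hd gc α with h3 | h3
      · omega
      · have h4 : (G gc α).natDegree = 0 := by rw [h3, natDegree_zero]
        obtain ⟨t, ht⟩ := hd α hα
        omega
    rw [← pow_mul, ← WithZero.exp_nsmul, ← WithZero.exp_add, ← WithZero.exp_zero,
      WithZero.exp_le_exp] at hle
    simp only [nsmul_eq_mul] at hle
    push_cast at hle
    omega
  have hc0 : c = 0 := by
    have h1 := G_coeff_zero gc
    rw [hG 0 h0, coeff_C_zero] at h1
    exact h1
  apply eq_zero_of_G gc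
  intro α hα
  rw [hG α hα, hc0, C_0]

theorem s19046 [IsAlgClosed k] (h2 : ringChar k = 2)
    (hK : FunFld.IsFunctionField k K) (hdeg : Module.finrank (RatFunc k) K = 2)
    (y : K) (hy : y ∉ Set.range (algebraMap (RatFunc k) K)) (f : RatFunc k)
    (heq : y ^ 2 + y = algebraMap (RatFunc k) K f)
    (B : Finset k) (h0 : (0 : k) ∈ B) (d : k → ℕ) (hd : ∀ β ∈ B, Odd (d β))
    (hpole : ∀ (p : FunFld.Place k (RatFunc k)) (β : k), β ∈ B →
      p.1 ((RatFunc.X : RatFunc k) - RatFunc.C β) < 1 → p.ord f = -(d β : ℤ))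
    (hint : ∀ p : FunFld.Place k (RatFunc k),
      (∀ β ∈ B, 1 ≤ p.1 ((RatFunc.X : RatFunc k) - RatFunc.C β)) → p.1 f ≤ 1)
    (Pl : k → FunFld.Place k K)
    (hPl : ∀ β ∈ B, (Pl β).1 ((algebraMap (RatFunc k) K RatFunc.X) - (algebraMap k K β)) < 1) :
    (∀ i, vfam B d y Pl i ∈ FunFld.adele k K) ∧
    LinearIndependent k (fun i => Submodule.mkQ
      (FunFld.AD (0 : FunFld.Divisor k K) ⊔ LinearMap.range (FunFld.diag k K))
        (vfam B d y Pl i)) ∧
    ∀ a : FunFld.Place k K → K, a ∈ FunFld.adele k K →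
      a ∈ (FunFld.AD (0 : FunFld.Divisor k K) ⊔ LinearMap.range (FunFld.diag k K)) ⊔
        Submodule.span k (Set.range (vfam B d y Pl)) := by
  haveI : Finite (I B d) := finite_index hd
  haveI : Fintype (I B d) := Fintype.ofFinite _
  have hmemA : ∀ i, vfam B d y Pl i ∈ adele k K := by
    intro i
    rw [vfam_eq]
    exact AS2Adele.single_mem_adele _ _
  have hcore := core2 h2 hdeg hy heq B h0 d hd hpole Pl hPl
  refine ⟨hmemA, ?_, ?_⟩
  · rw [Fintype.linearIndependent_iff]
    intro gc hsum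
    apply hcore gc
    have h1 : Submodule.mkQ (AD (0 : Divisor k K) ⊔ LinearMap.range (diag k K))
        (∑ i, gc i • vfam B d y Pl i) = 0 := by
      rw [map_sum]
      refine Eq.trans (Finset.sum_congr rfl fun i _ => ?_) hsum
      rw [map_smul]
    rw [Submodule.mkQ_apply, Submodule.Quotient.mk_eq_zero] at h1
    exact h1
  · intro a ha
    obtain ⟨hfin, hrank⟩ := FF.finrank_adele_quotient_ADK hK (0 : Divisor k K)
    haveI := hfin
    have hrk : Module.finrank k (↥(adele k K) ⧸ ADK (0 : Divisor k K)) = genus k K := by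
      rw [FF.ell_zero hK, FF.deg_zero] at hrank
      have h3 : (Module.finrank k (↥(adele k K) ⧸ ADK (0 : Divisor k K)) : ℤ) =
          (genus k K : ℤ) := by
        rw [hrank]; push_cast; ring
      exact_mod_cast h3
    obtain ⟨u, hu⟩ : ∃ u : I B d → ↥(adele k K),
        ∀ i, ((u i : ↥(adele k K)) : Place k K → K) = vfam B d y Pl i :=
      ⟨fun i => ⟨vfam B d y Pl i, hmemA i⟩, fun i => rfl⟩
    have hcoe : ∀ gc : I B d → k, ((∑ i, gc i • u i : ↥(adele k K)) : Place k K → K) =
        ∑ i, gc i • vfam B d y Pl i := by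
      intro gc
      rw [Submodule.coe_sum]
      refine Finset.sum_congr rfl fun i _ => ?_
      rw [Submodule.coe_smul, hu]
    have hli : LinearIndependent k
        (fun i => Submodule.mkQ (ADK (0 : Divisor k K)) (u i)) := by
      rw [Fintype.linearIndependent_iff]
      intro gc hsum
      apply hcore gc
      have h1 : Submodule.mkQ (ADK (0 : Divisor k K)) (∑ i, gc i • u i) = 0 := by
        rw [map_sum]
        refine Eq.trans (Finset.sum_congr rfl fun i _ => ?_) hsum
        rw [map_smul]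
      rw [Submodule.mkQ_apply, Submodule.Quotient.mk_eq_zero] at h1
      rw [← hcoe gc]
      exact h1
    have hcard : Fintype.card (I B d) =
        Module.finrank k (↥(adele k K) ⧸ ADK (0 : Divisor k K)) := by
      have h1 := card_index (B := B) (d := d) hd h0
      have h2' := AS2Pl.genus_eq h2 hK hdeg hy heq B d hd hpole hint
      rw [hrk]
      omega
    have hspan := hli.span_eq_top_of_card_eq_finrank' hcard
    have hz : Submodule.mkQ (ADK (0 : Divisor k K)) (⟨a, ha⟩ : ↥(adele k K)) ∈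
        Submodule.span k (Set.range fun i => Submodule.mkQ (ADK (0 : Divisor k K)) (u i)) := by
      rw [hspan]; trivial
    obtain ⟨c, hc⟩ := (Submodule.mem_span_range_iff_exists_fun k).mp hz
    have h1 : Submodule.mkQ (ADK (0 : Divisor k K))
        ((⟨a, ha⟩ : ↥(adele k K)) - ∑ i, c i • u i) = 0 := by
      rw [map_sub, map_sum, sub_eq_zero]
      refine Eq.trans hc.symm (Finset.sum_congr rfl fun i _ => ?_)
      rw [map_smul]
    rw [Submodule.mkQ_apply, Submodule.Quotient.mk_eq_zero] at h1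
    have h1' : (((⟨a, ha⟩ : ↥(adele k K)) - ∑ i, c i • u i : ↥(adele k K)) : Place k K → K) ∈
        AD (0 : Divisor k K) ⊔ LinearMap.range (diag k K) := h1
    rw [Submodule.coe_sub, hcoe c] at h1'
    have hsp : ∑ i, c i • vfam B d y Pl i ∈ Submodule.span k (Set.range (vfam B d y Pl)) :=
      Submodule.sum_mem _ fun i _ => Submodule.smul_mem _ _ (Submodule.subset_span ⟨i, rfl⟩)
    have h5 := Submodule.add_mem_sup h1' hsp
    rw [sub_add_cancel] at h5
    exact h5

end main

end Groth.Agent.Helper6.AS2H1
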