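import Mathlib
import Groth.Agent.Helper6.AS2Pl

set_option autoImplicit false
set_option linter.style.haveILetI false
set_option linter.unusedSectionVars false

/-!
# The partial fraction basis of the regular differentials of `y² + y = f`
-/

namespace Groth.Agent.Helper6.AS2Reg

open FunFld Polynomial
open Groth.Agent.Helper5
open Groth.Agent.Helper6.AS2Idx
open scoped IntermediateField
open Classical

universe u v w

section fam

variable {k : Type u} [Field k] (B : Finset k) (d : k → ℕ)

/-- the partial fractions -/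
noncomputable def rfam : I B d → RatFunc k :=
  Sum.elim (fun a => ((RatFunc.X : RatFunc k) - RatFunc.C (a.1.1 : k))⁻¹ ^ (a.1.2 + 1))
    (fun b => RatFunc.C (b.1 : k) / ((RatFunc.X : RatFunc k) * ((RatFunc.X : RatFunc k) -
      RatFunc.C (b.1 : k))))

noncomputable def eps : I B d → RatFunc k := Sum.elim (fun _ => 0) (fun _ => 1)

variable {B d}

theorem X_sub_C_ne_zero' (α : k) : (RatFunc.X - RatFunc.C α : RatFunc k) ≠ 0 := by
  intro h
  apply AS2Pl.transcendental_X_sub_C α
  rw [h]
  exact isAlgebraic_zero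

theorem rfam_eq (i : I B d) :
    rfam B d i = ((RatFunc.X - RatFunc.C (idx B d i))⁻¹) ^ (ex B d i + 1) -
      eps B d i * (RatFunc.X : RatFunc k)⁻¹ := by
  rcases i with a | b
  · show _ = _ - 0 * _
    rw [zero_mul, sub_zero]
    rfl
  · show RatFunc.C (b.1 : k) / ((RatFunc.X : RatFunc k) * ((RatFunc.X : RatFunc k) -
      RatFunc.C (b.1 : k))) = ((RatFunc.X - RatFunc.C (b.1 : k))⁻¹) ^ (0 + 1) -
        1 * (RatFunc.X : RatFunc k)⁻¹
    have hX : (RatFunc.X : RatFunc k) ≠ 0 := RatFunc.X_ne_zero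
    have hβ := X_sub_C_ne_zero' (b.1 : k)
    rw [zero_add, pow_one, one_mul, div_eq_iff (mul_ne_zero hX hβ)]
    have e1 : (RatFunc.X - RatFunc.C (b.1 : k))⁻¹ *
        (RatFunc.X * (RatFunc.X - RatFunc.C (b.1 : k))) = RatFunc.X := by
      rw [mul_comm RatFunc.X, ← mul_assoc, inv_mul_cancel₀ hβ, one_mul]
    have e2 : (RatFunc.X : RatFunc k)⁻¹ * (RatFunc.X * (RatFunc.X - RatFunc.C (b.1 : k))) =
        RatFunc.X - RatFunc.C (b.1 : k) := by
      rw [← mul_assoc, inv_mul_cancel₀ hX, one_mul]
    rw [sub_mul, e1, e2]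
    ring

theorem val_eps_le (p : Place k (RatFunc k)) (i : I B d) : p.1 (eps B d i) ≤ 1 := by
  rcases i with a | b
  · show p.1 0 ≤ 1
    rw [map_zero]; exact zero_le
  · show p.1 1 ≤ 1
    rw [map_one]

theorem eps_eq_zero_of_idx (i : I B d) (h : idx B d i = 0) : eps B d i = 0 := by
  rcases i with a | b
  · rfl
  · exact absurd h b.2

end fam

section main

variable {k : Type u} {K : Type v} [Field k] [Field K] [Algebra k K] [Algebra (RatFunc k) K]
  [IsScalarTower k (RatFunc k) K]

local notation "ι" => algebraMap (RatFunc k) K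
local notation "alg" => algebraMap (Polynomial k) (RatFunc k)

/-- the family of the statement -/
noncomputable def fam (B : Finset k) (d : k → ℕ) : I B d → K :=
  Sum.elim
    (fun a : {a : ↥B × ℕ // 1 ≤ a.2 ∧ 2 * a.2 + 1 ≤ d (a.1 : k)} =>
      algebraMap (RatFunc k) K (((RatFunc.X : RatFunc k) - RatFunc.C (a.1.1 : k))⁻¹ ^ (a.1.2 + 1)))
    (fun b : {b : ↥B // (b : k) ≠ 0} =>
      algebraMap (RatFunc k) K (RatFunc.C (b.1 : k) / ((RatFunc.X : RatFunc k) *
        ((RatFunc.X : RatFunc k) - RatFunc.C (b.1 : k)))))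

theorem fam_eq (B : Finset k) (d : k → ℕ) (i : I B d) :
    fam (K := K) B d i = ι (rfam B d i) := by
  rcases i with a | b <;> rfl

/-- linear independence of the partial fractions -/
theorem linearIndependent_rfam (B : Finset k) (d : k → ℕ) [Fintype (I B d)] :
    LinearIndependent k (rfam (k := k) B d) := by
  rw [Fintype.linearIndependent_iff]
  intro gc hsum
  choose pl hpl using (AS2Pl.exists_place_at (k := k))
  -- the key vanishing lemma
  have key : ∀ α : k, (∀ i, (pl α).1 (gc i • (rfam B d i -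
      (if idx B d i = α then ((RatFunc.X - RatFunc.C α : RatFunc k)⁻¹) ^ (ex B d i + 1) else 0)))
        ≤ 1) → G gc α = 0 := by
    intro α hreg
    by_contra hG0
    obtain ⟨t, ht_def⟩ : ∃ t : RatFunc k, t = RatFunc.X - RatFunc.C α := ⟨_, rfl⟩
    rw [← ht_def] at hreg
    have htv : (pl α).1 t = WithZero.exp (-1 : ℤ) := by
      rw [ht_def]; exact AS2Loc.val_X_sub_C_of_lt (pl α) α (hpl α)
    have htinv : (pl α).1 t⁻¹ = WithZero.exp (1 : ℤ) := by
      rw [map_inv₀, htv, ← WithZero.exp_neg, neg_neg]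
    have hlt : (1 : WithZero (Multiplicative ℤ)) < (pl α).1 t⁻¹ := by
      rw [htinv, ← WithZero.exp_zero, WithZero.exp_lt_exp]; norm_num
    have hM : aeval t⁻¹ (X * G gc α) =
        ∑ i, if idx B d i = α then gc i • (t⁻¹) ^ (ex B d i + 1) else 0 := by
      rw [map_mul, aeval_X, G, map_sum, Finset.mul_sum]
      refine Finset.sum_congr rfl fun i _ => ?_
      split_ifs
      · rw [map_mul, aeval_C, map_pow, aeval_X, Algebra.smul_def, pow_succ]
        ring
      · rw [map_zero, mul_zero]
    have hsplit : aeval t⁻¹ (X * G gc α) = -∑ i, gc i • (rfam B d i -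
        (if idx B d i = α then (t⁻¹) ^ (ex B d i + 1) else 0)) := by
      have h3 : ∑ i, ((if idx B d i = α then gc i • (t⁻¹) ^ (ex B d i + 1) else 0) +
          gc i • (rfam B d i - (if idx B d i = α then (t⁻¹) ^ (ex B d i + 1) else 0))) =
          ∑ i, gc i • rfam B d i := by
        refine Finset.sum_congr rfl fun i _ => ?_
        split_ifs
        · rw [smul_sub, add_sub_cancel]
        · rw [sub_zero, zero_add]
      rw [hM, eq_neg_iff_add_eq_zero, ← Finset.sum_add_distrib, h3, hsum]
    have hle : (pl α).1 (aeval t⁻¹ (X * G gc α)) ≤ 1 := by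
      rw [hsplit, Valuation.map_neg]
      exact Valuation.map_sum_le _ fun i _ => hreg i
    have hXG : X * G gc α ≠ 0 := mul_ne_zero X_ne_zero hG0
    rw [HypGenus.val_aeval_of_one_lt (pl α) hlt hXG, natDegree_X_mul hG0] at hle
    exact absurd (one_lt_pow₀ hlt (Nat.succ_ne_zero _)) (not_lt.mpr hle)
  have hvsmul : ∀ (p : Place k (RatFunc k)) (c : k) (w : RatFunc k), p.1 w ≤ 1 →
      p.1 (c • w) ≤ 1 := by
    intro p c w hw
    rw [Algebra.smul_def, map_mul]
    exact mul_le_one' (p.2.1 c) hw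
  -- step A
  have hA : ∀ α ∈ B, α ≠ 0 → G gc α = 0 := by
    intro α _ hα0
    apply key
    intro i
    apply hvsmul
    have hX1 : (pl α).1 (RatFunc.X : RatFunc k) = 1 := by
      have := AS2Pl.val_other (pl α) α 0 (hpl α) (Ne.symm hα0)
      rwa [map_zero, sub_zero] at this
    have hXinv : (pl α).1 (eps B d i * (RatFunc.X : RatFunc k)⁻¹) ≤ 1 := by
      rw [map_mul, map_inv₀, hX1, inv_one, mul_one]
      exact val_eps_le _ i
    rw [rfam_eq]
    by_cases hi : idx B d i = α
    · rw [if_pos hi, hi, sub_sub_cancel_left, Valuation.map_neg]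
      exact hXinv
    · rw [if_neg hi, sub_zero]
      refine (Valuation.map_sub _ _ _).trans (max_le ?_ hXinv)
      rw [map_pow, map_inv₀, AS2Pl.val_other (pl α) α _ (hpl α) hi, inv_one, one_pow]
  have hB : ∀ i, idx B d i ≠ 0 → gc i = 0 := by
    intro i hi
    rw [← G_coeff gc i, hA _ (idx_mem i) hi, coeff_zero]
  have hC : G gc 0 = 0 := by
    apply key
    intro i
    by_cases hi : idx B d i = 0
    · rw [if_pos hi, rfam_eq, eps_eq_zero_of_idx i hi, zero_mul, sub_zero, hi, sub_self,
        smul_zero, map_zero]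
      exact zero_le
    · rw [hB i hi, zero_smul, map_zero]
      exact zero_le
  apply eq_zero_of_G gc
  intro α hα
  by_cases hα0 : α = 0
  · rw [hα0]; exact hC
  · exact hA α hα hα0

theorem s19044 [IsAlgClosed k] (h2 : ringChar k = 2)
    (hK : FunFld.IsFunctionField k K) (hdeg : Module.finrank (RatFunc k) K = 2)
    [Algebra.IsSeparable (RatFunc k) K]
    (y : K) (hy : y ∉ Set.range (algebraMap (RatFunc k) K)) (f : RatFunc k)
    (heq : y ^ 2 + y = algebraMap (RatFunc k) K f)
    (B : Finset k) (h0 : (0 : k) ∈ B) (d : k → ℕ) (hd : ∀ α ∈ B, Odd (d α))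
    (hpole : ∀ (p : FunFld.Place k (RatFunc k)) (α : k), α ∈ B →
      p.1 ((RatFunc.X : RatFunc k) - RatFunc.C α) < 1 → p.ord f = -(d α : ℤ))
    (hint : ∀ p : FunFld.Place k (RatFunc k),
      (∀ α ∈ B, 1 ≤ p.1 ((RatFunc.X : RatFunc k) - RatFunc.C α)) → p.1 f ≤ 1)
    (F : FunFld.Place k K → Type w) [∀ P, Field (F P)] [∀ P, Algebra k (F P)]
    [∀ P, FiniteDimensional k (F P)]
    (φ : ∀ P, K →ₐ[k] LaurentSeries (F P)) (hφ : ∀ P, LocRes.IsExpansionAt P.1 (φ P)) :
    (∀ i P, LocRes.vDiff (φ P) (fam (K := K) B d i) (algebraMap (RatFunc k) K RatFunc.X) ≤ 1) ∧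
    LinearIndependent k (fam (K := K) B d) ∧
    ∀ z : K, (∀ P, LocRes.vDiff (φ P) z (algebraMap (RatFunc k) K RatFunc.X) ≤ 1) →
      z ∈ Submodule.span k (Set.range (fam (K := K) B d)) := by
  have hK₀ : IsFunctionField k (RatFunc k) := FF.isFunctionField_ratFunc
  haveI hfd : FiniteDimensional (RatFunc k) K :=
    Module.finite_of_finrank_pos (by rw [hdeg]; norm_num)
  haveI : Finite (I B d) := finite_index hd
  haveI : Fintype (I B d) := Fintype.ofFinite _
  have hgeo : IsGeometric k K := FF.isGeometric_of_perfectField k K hK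
  -- the polynomial `q`
  obtain ⟨s, hs⟩ : ∃ s : k → ℕ, ∀ α, s α = (d α + 1) / 2 :=
    ⟨fun α => (d α + 1) / 2, fun α => rfl⟩
  obtain ⟨q, hq_def⟩ : ∃ q : k[X], q = ∏ α ∈ B, (X - C α) ^ s α := ⟨_, rfl⟩
  have hq0 : q ≠ 0 := by
    rw [hq_def]
    exact Finset.prod_ne_zero_iff.mpr fun α _ => pow_ne_zero _ (X_sub_C_ne_zero α)
  have hq'0 : alg q ≠ 0 := by
    rwa [Ne, map_eq_zero_iff _ (RatFunc.algebraMap_injective k)]
  have hqdeg : q.natDegree = ∑ α ∈ B, s α := by
    rw [hq_def, natDegree_prod_of_monic _ _ (fun α _ => (monic_X_sub_C α).pow _)]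
    refine Finset.sum_congr rfl fun α _ => ?_
    rw [natDegree_pow, natDegree_X_sub_C, mul_one]
  have hgen : genus k K + 1 = q.natDegree := by
    rw [hqdeg, AS2Pl.genus_eq h2 hK hdeg hy heq B d hd hpole hint]
    exact Finset.sum_congr rfl fun α _ => (hs α).symm
  have hs1 : ∀ α ∈ B, 1 ≤ s α := by
    intro α hα
    obtain ⟨t, ht⟩ := hd α hα
    rw [hs]
    omega
  have hqalg : alg q = ∏ α ∈ B, (RatFunc.X - RatFunc.C α) ^ s α := by
    rw [hq_def, map_prod]
    refine Finset.prod_congr rfl fun α _ => ?_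
    rw [map_pow, map_sub, RatFunc.algebraMap_X, RatFunc.algebraMap_C]
  have hodd' : ∀ p : Place k (RatFunc k), 1 < p.1 f → Odd (p.ord f) := by
    intro p hp
    have hf0 : f ≠ 0 := by
      rintro rfl
      rw [map_zero] at hp
      exact absurd hp (not_lt.2 zero_le)
    have hneg := (FF.ord_neg_iff p hf0).2 hp
    obtain ⟨α, hα, hPα⟩ := (AS2Pl.pole_iff f B d hd hpole hint p).1 hneg
    rw [hpole p α hα hPα]
    obtain ⟨t, ht⟩ := hd α hα
    exact ⟨-t - 1, by rw [ht]; push_cast; ring⟩
  have hqord : ∀ p : Place k (RatFunc k), p.1 RatFunc.X ≤ 1 →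
      p.ord (alg q) = if 1 < p.1 f then (1 - p.ord f) / 2 else 0 := by
    intro p hpX
    by_cases hex : ∃ α ∈ B, p.1 (RatFunc.X - RatFunc.C α) < 1
    · have hneg : p.ord f < 0 := (AS2Pl.pole_iff f B d hd hpole hint p).2 hex
      obtain ⟨α, hα, hPα⟩ := hex
      have hf0 : f ≠ 0 := by
        rintro rfl
        rw [FF.ord_zero] at hneg
        exact lt_irrefl _ hneg
      rw [if_pos ((FF.ord_neg_iff p hf0).1 hneg), hpole p α hα hPα]
      have hv : p.1 (alg q) = WithZero.exp (-(s α : ℤ)) := by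
        rw [hqalg, map_prod, Finset.prod_eq_single α]
        · rw [map_pow, AS2Loc.val_X_sub_C_of_lt p α hPα, ← WithZero.exp_nsmul]
          congr 1
          rw [nsmul_eq_mul, mul_neg, mul_one]
        · intro β _ hne
          rw [map_pow, AS2Pl.val_other p α β hPα hne, one_pow]
        · intro h
          exact absurd hα h
      rw [FF.ord_eq_of_val_eq p hv, neg_neg, hs]
      obtain ⟨t, ht⟩ := hd α hα
      omega
    · have hnn : ¬ p.ord f < 0 := fun h => hex ((AS2Pl.pole_iff f B d hd hpole hint p).1 h)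
      have hle : ¬ 1 < p.1 f := by
        intro h
        have hf0 : f ≠ 0 := by
          rintro rfl
          rw [map_zero] at h
          exact absurd h (not_lt.2 zero_le)
        exact hnn ((FF.ord_neg_iff p hf0).2 h)
      rw [if_neg hle]
      push Not at hex
      have hv : p.1 (alg q) = WithZero.exp (-(0 : ℤ)) := by
        rw [neg_zero, WithZero.exp_zero, hqalg, map_prod]
        apply Finset.prod_eq_one
        intro β hβ
        rw [map_pow]
        have h1 : p.1 (RatFunc.X - RatFunc.C β) ≤ 1 :=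
          (Valuation.map_sub _ _ _).trans (max_le hpX (AS2Loc.val_C_le p β))
        rw [le_antisymm h1 (hex β hβ), one_pow]
      rw [FF.ord_eq_of_val_eq p hv, neg_neg]
  obtain ⟨partA, partB⟩ := ASReg.s12587 hK hdeg h2 y hy f heq hodd' q hq0 hqord F φ hφ
  obtain ⟨g, hg_def⟩ : ∃ g, g = genus k K := ⟨_, rfl⟩
  rw [← hg_def] at partA partB hgen
  obtain ⟨W, hW⟩ : ∃ W : Submodule k K, W = TateW2.OmD φ (ι RatFunc.X) 0 := ⟨_, rfl⟩
  have hmemW : ∀ w : K, w ∈ W ↔ ∀ P, LocRes.vDiff (φ P) w (ι RatFunc.X) ≤ 1 := by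
    intro w
    rw [hW, TateW2.mem_OmD]
    simp only [Finsupp.coe_zero, Pi.zero_apply, neg_zero, WithZero.exp_zero]
  have hWpoly : ∀ a : k[X], a.natDegree < g → ι (alg a / alg q) ∈ W := by
    intro a hlt
    have e : ι (alg a / alg q) =
        ∑ i ∈ Finset.range g, a.coeff i • ι (RatFunc.X ^ i / alg q) := by
      rw [map_div₀, ← HypDiff.aeval_x, Polynomial.aeval_eq_sum_range' hlt, Finset.sum_div]
      refine Finset.sum_congr rfl fun i _ => ?_
      rw [map_div₀, map_pow, smul_div_assoc]
    rw [e]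
    exact Submodule.sum_mem _ fun i hi =>
      Submodule.smul_mem _ _ ((hmemW _).2 (partA i (Finset.mem_range.mp hi)))
  have hWdvd : ∀ b c : k[X], b ∣ q → c.natDegree + q.natDegree < b.natDegree + g →
      ι (alg c / alg b) ∈ W := by
    rintro b c ⟨a', ha'⟩ hlt
    have hb0 : b ≠ 0 := by
      rintro rfl
      rw [zero_mul] at ha'
      exact hq0 ha'
    have ha'0 : a' ≠ 0 := by
      rintro rfl
      rw [mul_zero] at ha'
      exact hq0 ha'
    have hdeg' : q.natDegree = b.natDegree + a'.natDegree := by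
      rw [ha', natDegree_mul hb0 ha'0]
    have ha'alg : alg a' ≠ 0 := by
      rwa [Ne, map_eq_zero_iff _ (RatFunc.algebraMap_injective k)]
    have e : alg c / alg b = alg (c * a') / alg q := by
      rw [ha', map_mul, map_mul, mul_div_mul_right _ _ ha'alg]
    rw [e]
    apply hWpoly
    exact lt_of_le_of_lt natDegree_mul_le (by omega)
  have hfamW : ∀ i, fam (K := K) B d i ∈ W := by
    intro i
    rcases i with a | b
    · have e : fam (K := K) B d (Sum.inl a) =
          ι (alg 1 / alg ((X - C (a.1.1 : k)) ^ (a.1.2 + 1))) := by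
        show ι (((RatFunc.X : RatFunc k) - RatFunc.C (a.1.1 : k))⁻¹ ^ (a.1.2 + 1)) = _
        have hb : alg ((X - C (a.1.1 : k)) ^ (a.1.2 + 1)) =
            ((RatFunc.X : RatFunc k) - RatFunc.C (a.1.1 : k)) ^ (a.1.2 + 1) := by
          rw [map_pow, map_sub, RatFunc.algebraMap_X, RatFunc.algebraMap_C]
        rw [hb, map_one, one_div, inv_pow]
      rw [e]
      apply hWdvd
      · have h1 : (X - C (a.1.1 : k)) ^ (a.1.2 + 1) ∣ (X - C (a.1.1 : k)) ^ s (a.1.1 : k) :=
          pow_dvd_pow _ (by rw [hs]; have := a.2.2; omega)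
        rw [hq_def]
        exact h1.trans (Finset.dvd_prod_of_mem (fun α => (X - C α) ^ s α) a.1.1.2)
      · rw [natDegree_one, natDegree_pow, natDegree_X_sub_C, ← hgen]
        have := a.2.1
        omega
    · have e : fam (K := K) B d (Sum.inr b) =
          ι (alg (C (b.1 : k)) / alg (X * (X - C (b.1 : k)))) := by
        show ι (RatFunc.C (b.1 : k) / ((RatFunc.X : RatFunc k) * ((RatFunc.X : RatFunc k) -
          RatFunc.C (b.1 : k)))) = _
        have hb : alg (X * (X - C (b.1 : k))) =
            (RatFunc.X : RatFunc k) * ((RatFunc.X : RatFunc k) - RatFunc.C (b.1 : k)) := by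
          rw [map_mul, map_sub, RatFunc.algebraMap_X, RatFunc.algebraMap_C]
        rw [hb, RatFunc.algebraMap_C]
      rw [e]
      apply hWdvd
      · have hX : (X : k[X]) ∣ q := by
          have h1 : (X : k[X]) ∣ (X - C (0 : k)) ^ s 0 := by
            rw [C_0, sub_zero]
            exact dvd_pow_self _ (by have := hs1 0 h0; omega)
          rw [hq_def]
          exact h1.trans (Finset.dvd_prod_of_mem (fun α => (X - C α) ^ s α) h0)
        have hXβ : (X - C (b.1 : k)) ∣ q := by
          have h1 : (X - C (b.1 : k)) ∣ (X - C (b.1 : k)) ^ s (b.1 : k) :=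
            dvd_pow_self _ (by have := hs1 _ b.1.2; omega)
          rw [hq_def]
          exact h1.trans (Finset.dvd_prod_of_mem (fun α => (X - C α) ^ s α) b.1.2)
        have hcop : IsCoprime (X : k[X]) (X - C (b.1 : k)) := by
          have := Polynomial.isCoprime_X_sub_C_of_isUnit_sub (R := k) (a := 0) (b := (b.1 : k))
            (by rw [zero_sub]; exact (neg_ne_zero.mpr b.2).isUnit)
          rwa [C_0, sub_zero] at this
        exact hcop.mul_dvd hX hXβ
      · rw [natDegree_C, natDegree_mul X_ne_zero (X_sub_C_ne_zero _), natDegree_X,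
          natDegree_X_sub_C, ← hgen]
        omega
  -- independence
  have hli : LinearIndependent k (fam (K := K) B d) := by
    have h1 := (linearIndependent_rfam (k := k) B d).map'
      (IsScalarTower.toAlgHom k (RatFunc k) K).toLinearMap
      (LinearMap.ker_eq_bot.2 (algebraMap (RatFunc k) K).injective)
    have e : fam (K := K) B d =
        (IsScalarTower.toAlgHom k (RatFunc k) K).toLinearMap ∘ rfam B d := by
      funext i
      exact fam_eq B d i
    rw [e]
    exact h1
  refine ⟨fun i P => (hmemW _).1 (hfamW i) P, hli, ?_⟩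
  -- spanning
  intro z hz
  have hDx : KaehlerDifferential.D k K (ι RatFunc.X) ≠ 0 := ASReg.D_x_ne_zero
  obtain ⟨eW⟩ := TateW2.exists_equiv_WD hK hgeo φ hφ hDx (0 : Divisor k K)
  rw [← hW] at eW
  obtain ⟨hWDfin, hWDrank⟩ := FF.finrank_WD hK (0 : Divisor k K)
  haveI : FiniteDimensional k W := Module.Finite.equiv eW.symm
  have hWrank : Module.finrank k W = g := by
    rw [eW.finrank_eq]
    rw [FF.ell_zero hK, FF.deg_zero] at hWDrank
    have h3 : (Module.finrank k (WD (0 : Divisor k K)) : ℤ) = genus k K := by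
      rw [hWDrank]; push_cast; ring
    rw [hg_def]
    exact_mod_cast h3
  have hcard : Fintype.card (I B d) = Module.finrank k W := by
    have h1 := card_index (B := B) (d := d) hd h0
    have h2' := AS2Pl.genus_eq h2 hK hdeg hy heq B d hd hpole hint
    rw [hWrank, hg_def]
    omega
  obtain ⟨u', hu'⟩ : ∃ u' : I B d → W, ∀ i, (u' i : K) = fam (K := K) B d i :=
    ⟨fun i => ⟨fam (K := K) B d i, hfamW i⟩, fun i => rfl⟩
  have hli' : LinearIndependent k u' := by
    apply LinearIndependent.of_comp W.subtype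
    have e : W.subtype ∘ u' = fam (K := K) B d := by
      funext i
      exact hu' i
    rw [e]
    exact hli
  have hspan := hli'.span_eq_top_of_card_eq_finrank' hcard
  have hz' : (⟨z, (hmemW z).2 hz⟩ : W) ∈ Submodule.span k (Set.range u') := by
    rw [hspan]; trivial
  have h3 := Submodule.mem_map_of_mem (f := W.subtype) hz'
  rw [Submodule.map_span, ← Set.range_comp] at h3
  have e : W.subtype ∘ u' = fam (K := K) B d := by
    funext i
    exact hu' i
  rw [e] at h3
  exact h3

end main

end Groth.Agent.Helper6.AS2Reg
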