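import Mathlib

set_option autoImplicit false

namespace Groth.Agent.Helper6.ASC

open PowerSeries Finset

variable {k : Type*} [Field k]

lemma hasSubst_Xu (u : PowerSeries k) : HasSubst (X * u) :=
  HasSubst.of_constantCoeff_zero' (by simp)

/-- the substitution `t ↦ t·u` as an algebra endomorphism of `k⟦t⟧` -/
noncomputable def S (u : PowerSeries k) : PowerSeries k →ₐ[k] PowerSeries k :=
  substAlgHom (hasSubst_Xu u)

lemma S_apply (u f : PowerSeries k) : S u f = subst (X * u) f := by
  unfold S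
  rw [coe_substAlgHom]

lemma S_X (u : PowerSeries k) : S u X = X * u := by
  rw [S_apply, subst_X (hasSubst_Xu u)]

lemma S_C (u : PowerSeries k) (c : k) : S u (C c) = C c := by
  have : (C c : PowerSeries k) = algebraMap k (PowerSeries k) c := rfl
  rw [this, AlgHom.commutes]

lemma constantCoeff_S (u f : PowerSeries k) : constantCoeff (S u f) = constantCoeff f := by
  conv_lhs => rw [eq_X_mul_shift_add_const f]
  rw [map_add, map_mul, S_X, S_C, map_add, map_mul, map_mul]
  simp


/-- units congruent to `1` modulo `d` form a subgroup -/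
def congSubgroup {R : Type*} [CommRing R] (d : R) : Subgroup Rˣ where
  carrier := {W | d ∣ (W : R) - 1}
  one_mem' := by simp
  mul_mem' := by
    intro x y hx hy
    have : ((x * y : Rˣ) : R) - 1 = (x : R) * ((y : R) - 1) + ((x : R) - 1) := by
      rw [Units.val_mul]; ring
    show d ∣ ((x * y : Rˣ) : R) - 1
    rw [this]
    exact dvd_add (Dvd.dvd.mul_left hy _) hx
  inv_mem' := by
    intro x hx
    have : ((x⁻¹ : Rˣ) : R) - 1 = -((x⁻¹ : Rˣ) : R) * ((x : R) - 1) := by
      rw [mul_sub, mul_one, neg_mul, Units.inv_mul]; ring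
    show d ∣ ((x⁻¹ : Rˣ) : R) - 1
    rw [this]
    exact Dvd.dvd.mul_left hx _

lemma dvd_zpow_sub_one {R : Type*} [CommRing R] (d : R) (W : Rˣ) (h : d ∣ (W : R) - 1) (z : ℤ) :
    d ∣ ((W ^ z : Rˣ) : R) - 1 :=
  (congSubgroup d).zpow_mem h z

section roots

variable {n : ℕ} (hn : (n : k) ≠ 0)
include hn

lemma isUnit_geom (y : PowerSeries k) (hy : constantCoeff y = 1) :
    IsUnit (∑ i ∈ range n, y ^ i) := by
  rw [isUnit_iff_constantCoeff, map_sum]
  simp only [map_pow, hy, one_pow, sum_const, card_range, nsmul_eq_mul, mul_one]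
  exact isUnit_iff_ne_zero.2 hn

lemma dvd_sub_one_of_dvd_pow_sub_one (y d : PowerSeries k) (hy : constantCoeff y = 1)
    (h : d ∣ y ^ n - 1) : d ∣ y - 1 := by
  rw [← geom_sum_mul] at h
  exact ((isUnit_geom hn y hy).dvd_mul_left).1 h

lemma eq_one_of_pow_eq_one (y : PowerSeries k) (hy : constantCoeff y = 1) (h : y ^ n = 1) :
    y = 1 := by
  have h0 : (0 : PowerSeries k) ∣ y - 1 :=
    dvd_sub_one_of_dvd_pow_sub_one hn y 0 hy (by rw [h, sub_self])
  rw [zero_dvd_iff, sub_eq_zero] at h0
  exact h0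

end roots

/-- `u_j = σ^j(t)/t` -/
noncomputable def useq (u : PowerSeries k) : ℕ → PowerSeries k
  | 0 => 1
  | j + 1 => u * S u (useq u j)

lemma useq_zero (u : PowerSeries k) : useq u 0 = 1 := rfl
lemma useq_succ (u : PowerSeries k) (j : ℕ) : useq u (j + 1) = u * S u (useq u j) := rfl

lemma constantCoeff_useq {u : PowerSeries k} (hu1 : constantCoeff u = 1) (j : ℕ) :
    constantCoeff (useq u j) = 1 := by
  induction j with
  | zero => simp [useq_zero]
  | succ j ih => rw [useq_succ, map_mul, constantCoeff_S, ih, hu1, one_mul]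

lemma useq_pow {u : PowerSeries k} {n : ℕ} (hun : u ^ n * (1 + X ^ n) = 1) (j : ℕ) :
    useq u j ^ n * (1 + (j : PowerSeries k) * X ^ n) = 1 := by
  induction j with
  | zero => simp [useq_zero]
  | succ j ih =>
    have h2 := congrArg (S u) ih
    rw [map_mul, map_pow, map_add, map_one, map_mul, map_natCast, map_pow, S_X,
      mul_pow] at h2
    rw [useq_succ, mul_pow]
    push_cast
    linear_combination (S u (useq u j)) ^ n * hun + h2

lemma dvd_useq_sub_one {u : PowerSeries k} {n : ℕ} (hn : (n : k) ≠ 0)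
    (hu1 : constantCoeff u = 1) (hun : u ^ n * (1 + X ^ n) = 1) (j : ℕ) :
    (X : PowerSeries k) ^ n ∣ useq u j - 1 := by
  apply dvd_sub_one_of_dvd_pow_sub_one hn _ _ (constantCoeff_useq hu1 j)
  have h := useq_pow hun j
  refine ⟨-(useq u j ^ n * (j : PowerSeries k)), ?_⟩
  linear_combination h

variable (p : ℕ) [Fact p.Prime] [CharP k p]

omit [Fact p.Prime] in
lemma natCast_p_eq_zero : ((p : ℕ) : PowerSeries k) = 0 := by
  rw [← map_natCast (C (R := k)), CharP.cast_eq_zero, map_zero]

omit [Fact p.Prime] in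
lemma useq_p {u : PowerSeries k} {n : ℕ} (hn : (n : k) ≠ 0)
    (hu1 : constantCoeff u = 1) (hun : u ^ n * (1 + X ^ n) = 1) : useq u p = 1 := by
  apply eq_one_of_pow_eq_one hn _ (constantCoeff_useq hu1 p)
  have h := useq_pow hun p
  rwa [natCast_p_eq_zero, zero_mul, add_zero, mul_one] at h

/-- the "norm" of `t` divided by `t^p` -/
noncomputable def Uprod (u : PowerSeries k) : PowerSeries k := ∏ j ∈ range p, useq u j

omit [Fact p.Prime] [CharP k p] in
lemma constantCoeff_Uprod {u : PowerSeries k} (hu1 : constantCoeff u = 1) :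
    constantCoeff (Uprod p u) = 1 := by
  unfold Uprod
  rw [map_prod]
  exact prod_eq_one fun j _ => constantCoeff_useq hu1 j

omit [Fact p.Prime] in
lemma Uprod_eq {u : PowerSeries k} {n : ℕ} (hn : (n : k) ≠ 0)
    (hu1 : constantCoeff u = 1) (hun : u ^ n * (1 + X ^ n) = 1) :
    u ^ p * S u (Uprod p u) = Uprod p u := by
  have h1 : ∏ j ∈ range p, useq u (j + 1) = u ^ p * S u (Uprod p u) := by
    simp only [useq_succ]
    rw [prod_mul_distrib, prod_const, card_range, Uprod, map_prod]
  have h2 : (∏ j ∈ range p, useq u (j + 1)) * useq u 0 = (∏ j ∈ range p, useq u j) * useq u p := by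
    rw [← prod_range_succ', prod_range_succ]
  rw [useq_zero, useq_p p hn hu1 hun, mul_one, mul_one] at h2
  rw [← h1, h2, Uprod]

omit [Fact p.Prime] [CharP k p] in
lemma dvd_Uprod_sub_one {u : PowerSeries k} {n : ℕ} (hn : (n : k) ≠ 0)
    (hu1 : constantCoeff u = 1) (hun : u ^ n * (1 + X ^ n) = 1) :
    (X : PowerSeries k) ^ n ∣ Uprod p u - 1 := by
  unfold Uprod
  induction (range p) using Finset.induction_on with
  | empty => simp
  | insert a s ha ih =>
    rw [prod_insert ha]
    have : useq u a * ∏ j ∈ s, useq u j - 1 =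
        useq u a * (∏ j ∈ s, useq u j - 1) + (useq u a - 1) := by ring
    rw [this]
    exact dvd_add (Dvd.dvd.mul_left ih _) (dvd_useq_sub_one hn hu1 hun a)


/-- vanishing of the class of `t^i` for `p ∣ i` (transported form) -/
theorem exists_h {n : ℕ} (hpn : ¬ p ∣ n)
    (u : PowerSeries k) (hu1 : constantCoeff u = 1)
    (hun : u ^ n * (1 + X ^ n) = 1) (hu : IsUnit u) (a : ℤ) (m : ℕ)
    (hmn : m ≤ n) (hdvd : (p : ℤ) ∣ a - m) (c : PowerSeries k)
    (hc : X ^ m * c = ((hu.unit ^ (a - m) : (PowerSeries k)ˣ) : PowerSeries k) - 1) :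
    ∃ h : PowerSeries k,
      ((hu.unit ^ a : (PowerSeries k)ˣ) : PowerSeries k) * subst (X * u) h - h = c := by
  have hnk : (n : k) ≠ 0 := fun h0 => hpn ((CharP.cast_eq_zero_iff k p n).1 h0)
  have hUunit : IsUnit (Uprod p u) := by
    rw [isUnit_iff_constantCoeff, constantCoeff_Uprod p hu1]; exact isUnit_one
  set UU : (PowerSeries k)ˣ := hUunit.unit with hUU
  set uu : (PowerSeries k)ˣ := hu.unit with huu
  have huuv : (uu : PowerSeries k) = u := hu.unit_spec
  have hUUv : (UU : PowerSeries k) = Uprod p u := hUunit.unit_spec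
  obtain ⟨i', hi'⟩ := hdvd
  set V : (PowerSeries k)ˣ := UU ^ i' with hV
  -- the invariance relation at the level of units
  have hrelU : uu ^ p * Units.map (S u).toMonoidHom UU = UU := by
    apply Units.ext
    rw [Units.val_mul, Units.val_pow_eq_pow_val, Units.coe_map, huuv, hUUv]
    exact Uprod_eq p hnk hu1 hun
  have hrelV : uu ^ (a - m) * Units.map (S u).toMonoidHom V = V := by
    have := congrArg (· ^ i') hrelU
    simp only [mul_zpow] at this
    rw [← zpow_natCast, ← zpow_mul, ← map_zpow] at this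
    rw [hi']
    exact this
  have hrel : ((uu ^ (a - m) : (PowerSeries k)ˣ) : PowerSeries k) * S u (V : PowerSeries k) =
      (V : PowerSeries k) := by
    have := congrArg Units.val hrelV
    rwa [Units.val_mul, Units.coe_map] at this
  -- divisibility
  have hdvdV : (X : PowerSeries k) ^ n ∣ (V : PowerSeries k) - 1 := by
    apply dvd_zpow_sub_one
    rw [hUUv]
    exact dvd_Uprod_sub_one p hnk hu1 hun
  obtain ⟨h', hh'⟩ := dvd_trans (pow_dvd_pow X hmn) hdvdV
  refine ⟨-h', ?_⟩
  apply mul_left_cancel₀ (pow_ne_zero m (X_ne_zero (R := k)))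
  rw [hc, ← S_apply]
  have hA : ((uu ^ a : (PowerSeries k)ˣ) : PowerSeries k) =
      ((uu ^ (a - m) : (PowerSeries k)ˣ) : PowerSeries k) * u ^ m := by
    have : a = (a - m) + (m : ℤ) := by ring
    conv_lhs => rw [this, zpow_add, zpow_natCast, Units.val_mul, Units.val_pow_eq_pow_val, huuv]
  have hS : (X * u) ^ m * S u (-h') = 1 - S u (V : PowerSeries k) := by
    have : S u (X ^ m * (-h')) = S u (1 - (V : PowerSeries k)) := by
      congr 1
      rw [mul_neg, ← hh']; ring
    rwa [map_mul, map_pow, S_X, map_sub, map_one] at this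
  rw [mul_pow] at hS
  rw [hA]
  linear_combination ((uu ^ (a - m) : (PowerSeries k)ˣ) : PowerSeries k) * hS - hrel - hh'

end Groth.Agent.Helper6.ASC
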