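import Mathlib
import Groth.Agent.Helper6.ASC

set_option autoImplicit false

namespace Groth.Agent.Helper6.ASC

open PowerSeries Finset

variable {k : Type*} [Field k]

lemma dvd_u_sub_one {u : PowerSeries k} {n : ℕ} (hn : (n : k) ≠ 0)
    (hu1 : constantCoeff u = 1) (hun : u ^ n * (1 + X ^ n) = 1) :
    (X : PowerSeries k) ^ n ∣ u - 1 := by
  have := dvd_useq_sub_one hn hu1 hun 1
  rwa [useq_succ, useq_zero, map_one, mul_one] at this

lemma coeff_of_dvd_sub_one {n : ℕ} {w : PowerSeries k} (h : (X : PowerSeries k) ^ n ∣ w - 1)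
    {e : ℕ} (he : e < n) : coeff e w = if e = 0 then 1 else 0 := by
  have := (X_pow_dvd_iff.1 h) e he
  rw [map_sub, sub_eq_zero] at this
  rw [this, coeff_one]

/-- `S` is the identity modulo `t^(n+1)` -/
lemma coeff_S {u : PowerSeries k} {n : ℕ} (hn : 0 < n) (hdvd : (X : PowerSeries k) ^ n ∣ u - 1)
    (g : PowerSeries k) {d : ℕ} (hd : d ≤ n) : coeff d (S u g) = coeff d g := by
  rw [S_apply, coeff_subst' (hasSubst_Xu u)]
  have key : ∀ l : ℕ, coeff d ((X * u) ^ l) = if l = d then (1 : k) else 0 := by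
    intro l
    rw [mul_pow, coeff_X_pow_mul']
    have hl : (X : PowerSeries k) ^ n ∣ u ^ l - 1 := by
      have := sub_dvd_pow_sub_pow u 1 l
      rw [one_pow] at this
      exact dvd_trans hdvd this
    by_cases hld : l ≤ d
    · rw [if_pos hld]
      by_cases hlt : d - l < n
      · rw [coeff_of_dvd_sub_one hl hlt]
        by_cases h0 : d - l = 0
        · rw [if_pos h0, if_pos (by omega)]
        · rw [if_neg h0, if_neg (by omega)]
      · have hl0 : l = 0 := by omega
        have hdn : d = n := by omega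
        subst hl0
        rw [pow_zero, coeff_one, if_neg (by omega), if_neg (by omega)]
    · rw [if_neg hld, if_neg (by omega)]
  simp_rw [key]
  rw [finsum_eq_single _ d]
  · simp
  · intro l hl
    rw [if_neg hl, smul_zero]

/-- decomposition modulo `t^(n+1)` -/
lemma exists_decomp {n : ℕ} (w : PowerSeries k) (h : (X : PowerSeries k) ^ n ∣ w - 1) :
    ∃ w' : PowerSeries k, w = 1 + C (coeff n (w - 1)) * X ^ n + X ^ (n + 1) * w' := by
  have : (X : PowerSeries k) ^ (n + 1) ∣ w - 1 - C (coeff n (w - 1)) * X ^ n := by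
    rw [X_pow_dvd_iff]
    intro d hd
    rw [map_sub, coeff_C_mul, coeff_X_pow]
    by_cases hdn : d = n
    · subst hdn; simp
    · rw [if_neg hdn, mul_zero, sub_zero]
      exact (X_pow_dvd_iff.1 h) d (by omega)
  obtain ⟨w', hw'⟩ := this
  exact ⟨w', by rw [← hw']; ring⟩

lemma coeff_mul_of_dvd {n : ℕ} (hn : 0 < n) (w1 w2 : PowerSeries k)
    (h1 : (X : PowerSeries k) ^ n ∣ w1 - 1) (h2 : (X : PowerSeries k) ^ n ∣ w2 - 1) :
    coeff n (w1 * w2 - 1) = coeff n (w1 - 1) + coeff n (w2 - 1) := by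
  obtain ⟨a1, ha1⟩ := h1
  obtain ⟨a2, ha2⟩ := h2
  have : w1 * w2 - 1 = (w1 - 1) + (w2 - 1) + X ^ (n + 1) * (X ^ (n - 1) * (a1 * a2)) := by
    have e : (X : PowerSeries k) ^ (n + 1) * X ^ (n - 1) = X ^ n * X ^ n := by
      rw [← pow_add, ← pow_add]; congr 1; omega
    calc w1 * w2 - 1 = (w1 - 1) + (w2 - 1) + (w1 - 1) * (w2 - 1) := by ring
      _ = (w1 - 1) + (w2 - 1) + X ^ n * X ^ n * (a1 * a2) := by rw [ha1, ha2]; ring
      _ = _ := by rw [← e]; ring
  rw [this, map_add, map_add, coeff_X_pow_mul', if_neg (by omega), add_zero]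

/-- the `n`-th coefficient as a homomorphism on units congruent to 1 mod `t^n` -/
noncomputable def coeffHom (n : ℕ) (hn : 0 < n) :
    ↥(congSubgroup ((X : PowerSeries k) ^ n)) →* Multiplicative k where
  toFun W := Multiplicative.ofAdd (coeff n (((W : (PowerSeries k)ˣ) : PowerSeries k) - 1))
  map_one' := by simp
  map_mul' := by
    intro W1 W2
    rw [← ofAdd_add]
    congr 1
    exact coeff_mul_of_dvd hn _ _ W1.2 W2.2

lemma coeff_zpow {n : ℕ} (hn : 0 < n) (W : (PowerSeries k)ˣ)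
    (hW : (X : PowerSeries k) ^ n ∣ (W : PowerSeries k) - 1) (z : ℤ) :
    coeff n (((W ^ z : (PowerSeries k)ˣ) : PowerSeries k) - 1) =
      (z : k) * coeff n ((W : PowerSeries k) - 1) := by
  have h := map_zpow (coeffHom (k := k) n hn) ⟨W, hW⟩ z
  have h2 := congrArg Multiplicative.toAdd h
  rw [toAdd_zpow] at h2
  simp only [coeffHom, MonoidHom.coe_mk, OneHom.coe_mk, toAdd_ofAdd, zsmul_eq_mul] at h2
  exact h2

variable (p : ℕ) [Fact p.Prime] [CharP k p]

omit [Fact p.Prime] in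
lemma coeff_u {u : PowerSeries k} {n : ℕ} (hn : 0 < n) (hnk : (n : k) ≠ 0)
    (hu1 : constantCoeff u = 1) (hun : u ^ n * (1 + X ^ n) = 1) (hu : IsUnit u) :
    (n : k) * coeff n (u - 1) = -1 := by
  have hd := dvd_u_sub_one hnk hu1 hun
  have h1 := coeff_zpow hn hu.unit (by rw [hu.unit_spec]; exact hd) (n : ℤ)
  rw [zpow_natCast, Units.val_pow_eq_pow_val, hu.unit_spec, Int.cast_natCast] at h1
  rw [← h1]
  have h2 : u ^ n - 1 = -(u ^ n * X ^ n) := by linear_combination hun
  rw [h2, map_neg, mul_comm, coeff_X_pow_mul', if_pos le_rfl, Nat.sub_self,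
    coeff_zero_eq_constantCoeff_apply, map_pow, hu1, one_pow]

omit [Fact p.Prime] in
/-- an invariant element with nonzero constant term forces `p ∣ e` -/
theorem p_dvd_of_invariant {u : PowerSeries k} {n : ℕ} (hn : 0 < n) (hpn : ¬ p ∣ n)
    (hu1 : constantCoeff u = 1) (hun : u ^ n * (1 + X ^ n) = 1) (hu : IsUnit u) (e : ℤ)
    (g : PowerSeries k) (hg0 : constantCoeff g ≠ 0)
    (hinv : ((hu.unit ^ e : (PowerSeries k)ˣ) : PowerSeries k) * S u g = g) : (p : ℤ) ∣ e := by
  have hnk : (n : k) ≠ 0 := fun h0 => hpn ((CharP.cast_eq_zero_iff k p n).1 h0)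
  have hd := dvd_u_sub_one hnk hu1 hun
  have hW : (X : PowerSeries k) ^ n ∣ ((hu.unit ^ e : (PowerSeries k)ˣ) : PowerSeries k) - 1 := by
    apply dvd_zpow_sub_one
    rw [hu.unit_spec]; exact hd
  obtain ⟨w', hw'⟩ := exists_decomp _ hW
  -- S g = g + X^(n+1) * g'
  have hSg : (X : PowerSeries k) ^ (n + 1) ∣ S u g - g := by
    rw [X_pow_dvd_iff]
    intro d hdlt
    rw [map_sub, coeff_S hn hd g (by omega), sub_self]
  obtain ⟨g', hg'⟩ := hSg
  have hSg' : S u g = g + X ^ (n + 1) * g' := by rw [← hg']; ring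
  set ω := coeff n (((hu.unit ^ e : (PowerSeries k)ˣ) : PowerSeries k) - 1) with hω
  have hωe : ω = (e : k) * coeff n (u - 1) := by
    rw [hω, coeff_zpow hn hu.unit (by rw [hu.unit_spec]; exact hd) e, hu.unit_spec]
  -- take the n-th coefficient of the invariance equation
  have h3 : C ω * X ^ n * g + X ^ (n + 1) * (w' * (g + X ^ (n + 1) * g') +
      (1 + C ω * X ^ n) * g') = 0 := by
    have := hinv
    rw [hw', hSg'] at this
    linear_combination this
  have h4 := congrArg (coeff n) h3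
  rw [map_add, coeff_X_pow_mul', if_neg (by omega), add_zero, mul_assoc, coeff_C_mul,
    coeff_X_pow_mul', if_pos le_rfl, Nat.sub_self, coeff_zero_eq_constantCoeff_apply, map_zero] at h4
  have hω0 : ω = 0 := (mul_eq_zero.1 h4).resolve_right hg0
  rw [hωe] at hω0
  have hcu := coeff_u hn hnk hu1 hun hu
  have hcne : coeff n (u - 1) ≠ 0 := by
    intro h0
    rw [h0, mul_zero] at hcu
    exact absurd hcu (by simp)
  have he0 : (e : k) = 0 := (mul_eq_zero.1 hω0).resolve_right hcne
  exact (CharP.intCast_eq_zero_iff k p e).1 he0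


omit [Fact p.Prime] in
/-- linear independence of the classes `c_m`, `p ∤ a - m` -/
theorem lin_indep {n : ℕ} (hn : 0 < n) (hpn : ¬ p ∣ n)
    (u : PowerSeries k) (hu1 : constantCoeff u = 1)
    (hun : u ^ n * (1 + X ^ n) = 1) (hu : IsUnit u) (a : ℤ)
    (c : ℕ → PowerSeries k)
    (hc : ∀ m : ℕ, 1 ≤ m → m ≤ n →
      X ^ m * c m = ((hu.unit ^ (a - m) : (PowerSeries k)ˣ) : PowerSeries k) - 1)
    (coef : ℕ → k) (h : PowerSeries k)
    (hh : ((hu.unit ^ a : (PowerSeries k)ˣ) : PowerSeries k) * subst (X * u) h - h =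
      ∑ m ∈ (Finset.Icc 1 n).filter (fun m : ℕ => ¬ (p : ℤ) ∣ a - (m : ℤ)), coef m • c m) :
    ∀ m ∈ (Finset.Icc 1 n).filter (fun m : ℕ => ¬ (p : ℤ) ∣ a - (m : ℤ)), coef m = 0 := by
  classical
  set F := (Finset.Icc 1 n).filter (fun m : ℕ => ¬ (p : ℤ) ∣ a - (m : ℤ)) with hF
  by_contra hcon
  push Not at hcon
  obtain ⟨m1, hm1F, hm1⟩ := hcon
  set F' := F.filter (fun m => coef m ≠ 0) with hF'
  have hne : F'.Nonempty := ⟨m1, by rw [hF', mem_filter]; exact ⟨hm1F, hm1⟩⟩
  set m0 := F'.max' hne with hm0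
  have hm0F' : m0 ∈ F' := F'.max'_mem hne
  have hm0F : m0 ∈ F := (mem_filter.1 hm0F').1
  have hm0c : coef m0 ≠ 0 := (mem_filter.1 hm0F').2
  have hmax : ∀ m ∈ F, m0 < m → coef m = 0 := by
    intro m hm hlt
    by_contra hne0
    have : m ∈ F' := by rw [hF', mem_filter]; exact ⟨hm, hne0⟩
    have := F'.le_max' m this
    omega
  have hm0I : 1 ≤ m0 ∧ m0 ≤ n := by
    have := (mem_filter.1 hm0F).1
    rwa [mem_Icc] at this
  have hm0p : ¬ (p : ℤ) ∣ a - (m0 : ℤ) := (mem_filter.1 hm0F).2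
  set uu : (PowerSeries k)ˣ := hu.unit with huu
  have huuv : (uu : PowerSeries k) = u := hu.unit_spec
  set A0 : PowerSeries k := ((uu ^ (a - m0) : (PowerSeries k)ˣ) : PowerSeries k) with hA0
  -- the terms
  set T : ℕ → PowerSeries k := fun m => C (coef m) * X ^ (m0 - m) with hT
  have hterm : ∀ m ∈ F, X ^ m0 * (coef m • c m) = A0 * S u (T m) - T m := by
    intro m hm
    have hmI : 1 ≤ m ∧ m ≤ n := by
      have := (mem_filter.1 hm).1
      rwa [mem_Icc] at this
    by_cases hle : m ≤ m0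
    · have hcm := hc m hmI.1 hmI.2
      have hsplit : ((uu ^ (a - m) : (PowerSeries k)ˣ) : PowerSeries k) = A0 * u ^ (m0 - m) := by
        have : a - (m : ℤ) = (a - m0) + ((m0 - m : ℕ) : ℤ) := by
          rw [Nat.cast_sub hle]; ring
        rw [this, zpow_add, zpow_natCast, Units.val_mul, Units.val_pow_eq_pow_val, huuv]
      have hST : S u (T m) = C (coef m) * (X ^ (m0 - m) * u ^ (m0 - m)) := by
        rw [hT]
        simp only
        rw [map_mul, S_C, map_pow, S_X, mul_pow]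
      have hX : (X : PowerSeries k) ^ m0 = X ^ (m0 - m) * X ^ m := by
        rw [← pow_add]; congr 1; omega
      rw [hST, hX, smul_eq_C_mul]
      calc X ^ (m0 - m) * X ^ m * (C (coef m) * c m)
          = C (coef m) * X ^ (m0 - m) * (X ^ m * c m) := by ring
        _ = C (coef m) * X ^ (m0 - m) * (A0 * u ^ (m0 - m) - 1) := by rw [hcm, hsplit]
        _ = A0 * (C (coef m) * (X ^ (m0 - m) * u ^ (m0 - m))) - T m := by rw [hT]; ring
    · have h0 := hmax m hm (by omega)
      rw [hT]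
      simp only
      rw [h0, zero_smul, map_zero, zero_mul, map_zero, mul_zero, mul_zero, sub_zero]
  set P : PowerSeries k := ∑ m ∈ F, T m with hP
  have hRHS : X ^ m0 * ∑ m ∈ F, coef m • c m = A0 * S u P - P := by
    rw [mul_sum, sum_congr rfl hterm, sum_sub_distrib, ← mul_sum, hP, map_sum]
  have hAa : ((uu ^ a : (PowerSeries k)ˣ) : PowerSeries k) = A0 * u ^ m0 := by
    have : a = (a - m0) + ((m0 : ℕ) : ℤ) := by ring
    conv_lhs => rw [this, zpow_add, zpow_natCast, Units.val_mul, Units.val_pow_eq_pow_val, huuv]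
  have hLHS : X ^ m0 * (((uu ^ a : (PowerSeries k)ˣ) : PowerSeries k) * subst (X * u) h - h) =
      A0 * S u (X ^ m0 * h) - X ^ m0 * h := by
    rw [← S_apply, hAa, map_mul, map_pow, S_X, mul_pow]; ring
  have hinv : A0 * S u (P - X ^ m0 * h) = P - X ^ m0 * h := by
    have := congrArg (fun z => X ^ m0 * z) hh
    beta_reduce at this
    rw [hLHS, hRHS] at this
    rw [map_sub, mul_sub]
    linear_combination -this
  have hg0 : constantCoeff (P - X ^ m0 * h) ≠ 0 := by
    rw [map_sub, map_mul, map_pow, constantCoeff_X, zero_pow (by omega), zero_mul, sub_zero, hP,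
      map_sum, sum_eq_single m0]
    · rw [hT]; simpa using hm0c
    · intro m hm hne0
      rw [hT]
      simp only
      rcases lt_or_gt_of_ne hne0 with hlt | hgt
      · rw [map_mul, map_pow, constantCoeff_X, zero_pow (by omega), mul_zero]
      · rw [hmax m hm hgt, map_zero, zero_mul, map_zero]
    · intro h0; exact absurd hm0F h0
  exact hm0p (p_dvd_of_invariant p hn hpn hu1 hun hu (a - m0) _ hg0 hinv)

end Groth.Agent.Helper6.ASC
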