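import Mathlib
import Groth.Agent.Helper6.ASC2

set_option autoImplicit false
set_option linter.style.haveILetI false
set_option linter.unusedSectionVars false

namespace Groth.Agent.Helper6.ASC

open PowerSeries Finset

variable {k : Type*} [Field k]

section general

variable (p : ℕ) [Fact p.Prime] [CharP k p]

lemma geom_sum_eq_sub_one_pow {E : Type*} [Ring E] [Algebra k E] (x : E) :
    ∑ i ∈ range p, x ^ i = (x - 1) ^ (p - 1) := by
  have hpoly : (∑ i ∈ range p, (Polynomial.X : Polynomial k) ^ i) =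
      (Polynomial.X - 1) ^ (p - 1) := by
    have h1 : (∑ i ∈ range p, (Polynomial.X : Polynomial k) ^ i) * (Polynomial.X - 1) =
        (Polynomial.X - 1) ^ (p - 1) * (Polynomial.X - 1) := by
      rw [geom_sum_mul, ← pow_succ, Nat.sub_add_cancel (Fact.out : p.Prime).one_le,
        sub_pow_char, one_pow]
    have hne : (Polynomial.X - 1 : Polynomial k) ≠ 0 := by
      have := Polynomial.X_sub_C_ne_zero (1 : k)
      rwa [map_one] at this
    exact mul_right_cancel₀ hne h1
  have := congrArg (Polynomial.aeval x) hpoly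
  simpa using this

lemma sub_one_pow_char' {E : Type*} [Ring E] [Algebra k E] (x : E) :
    (x - 1) ^ p = x ^ p - 1 := by
  have hpoly : ((Polynomial.X : Polynomial k) - 1) ^ p = Polynomial.X ^ p - 1 := by
    rw [sub_pow_char, one_pow]
  have := congrArg (Polynomial.aeval x) hpoly
  simpa using this

end general

section ops

variable {u : PowerSeries k} (hu : IsUnit u)

/-- `u^e` for integer `e` -/
noncomputable def U (e : ℤ) : PowerSeries k :=
  ((hu.unit ^ e : (PowerSeries k)ˣ) : PowerSeries k)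

lemma U_add (e e' : ℤ) : U hu (e + e') = U hu e * U hu e' := by
  unfold U; rw [zpow_add, Units.val_mul]

lemma U_zero : U hu 0 = 1 := by unfold U; simp

lemma U_natCast (i : ℕ) : U hu (i : ℤ) = u ^ i := by
  unfold U; rw [zpow_natCast, Units.val_pow_eq_pow_val, hu.unit_spec]

/-- the twisted operator `h ↦ u^e · h(tu)` -/
noncomputable def T (e : ℤ) : PowerSeries k →ₗ[k] PowerSeries k :=
  (LinearMap.mulLeft k (U hu e)) ∘ₗ (S u).toLinearMap

lemma T_apply (e : ℤ) (h : PowerSeries k) : T hu e h = U hu e * S u h := rfl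

/-- `D = T - 1` -/
noncomputable def D (e : ℤ) : PowerSeries k →ₗ[k] PowerSeries k := T hu e - 1

lemma D_apply (e : ℤ) (h : PowerSeries k) : D hu e h = U hu e * S u h - h := rfl

lemma T_X_pow_mul (e : ℤ) (i : ℕ) (h : PowerSeries k) :
    T hu e (X ^ i * h) = X ^ i * T hu (e + i) h := by
  rw [T_apply, T_apply, map_mul, map_pow, S_X, U_add, U_natCast, mul_pow]; ring

lemma D_X_pow_mul (e : ℤ) (i : ℕ) (h : PowerSeries k) :
    D hu e (X ^ i * h) = X ^ i * D hu (e + i) h := by
  rw [D_apply, D_apply, ← T_apply, T_X_pow_mul, T_apply]; ring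

lemma D_pow_X_pow_mul (e : ℤ) (i j : ℕ) (h : PowerSeries k) :
    ((D hu e) ^ j) (X ^ i * h) = X ^ i * ((D hu (e + i)) ^ j) h := by
  induction j generalizing h with
  | zero => simp
  | succ j ih =>
    rw [pow_succ, Module.End.mul_apply, D_X_pow_mul, ih, pow_succ, Module.End.mul_apply]

lemma T_one (e : ℤ) : T hu e 1 = U hu e := by
  rw [T_apply, map_one, mul_one]

lemma D_X_pow (e : ℤ) (i : ℕ) : D hu e (X ^ i) = X ^ i * (U hu (e + i) - 1) := by
  have := D_X_pow_mul hu e i 1
  rw [mul_one] at this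
  rw [this, D_apply, map_one, mul_one]

lemma S_pow_apply (j : ℕ) (f : PowerSeries k) :
    ((S u).toLinearMap ^ j) f = subst (X * useq u j) f := by
  induction j with
  | zero => simp [useq_zero, X_subst]
  | succ j ih =>
    rw [pow_succ', Module.End.mul_apply, ih, AlgHom.toLinearMap_apply, S_apply,
      subst_comp_subst_apply (hasSubst_Xu _) (hasSubst_Xu u), ← S_apply, map_mul, S_X,
      useq_succ, mul_assoc]

variable (hu1 : constantCoeff u = 1)

/-- `useq` as units -/
noncomputable def W (j : ℕ) : (PowerSeries k)ˣ :=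
  (isUnit_iff_constantCoeff.2
    (by rw [constantCoeff_useq hu1 j]; exact isUnit_one) : IsUnit (useq u j)).unit

lemma W_val (j : ℕ) : ((W hu1 j : (PowerSeries k)ˣ) : PowerSeries k) = useq u j :=
  IsUnit.unit_spec _

lemma W_succ (j : ℕ) : W hu1 (j + 1) = hu.unit * Units.map (S u).toMonoidHom (W hu1 j) := by
  apply Units.ext
  rw [Units.val_mul, Units.coe_map, W_val, W_val, hu.unit_spec, useq_succ]
  rfl

lemma T_pow_apply (e : ℤ) (j : ℕ) (h : PowerSeries k) :
    ((T hu e) ^ j) h =
      ((W hu1 j ^ e : (PowerSeries k)ˣ) : PowerSeries k) * ((S u).toLinearMap ^ j) h := by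
  induction j with
  | zero =>
    have : W hu1 0 = 1 := Units.ext (by rw [W_val, useq_zero]; rfl)
    rw [this]; simp
  | succ j ih =>
    rw [pow_succ', Module.End.mul_apply, ih, T_apply, map_mul, pow_succ' (S u).toLinearMap,
      Module.End.mul_apply, AlgHom.toLinearMap_apply, W_succ hu hu1, mul_zpow, Units.val_mul,
      ← map_zpow, Units.coe_map]
    unfold U
    rw [mul_assoc]
    rfl

end ops

section main

variable (p : ℕ) [Fact p.Prime] [CharP k p]
variable {u : PowerSeries k} (hu : IsUnit u) {n : ℕ} (hn : 0 < n) (hnk : (n : k) ≠ 0)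
  (hu1 : constantCoeff u = 1) (hun : u ^ n * (1 + X ^ n) = 1)

include hnk hu1 hun in
lemma T_pow_p (e : ℤ) : (T hu e) ^ p = 1 := by
  apply LinearMap.ext
  intro h
  rw [T_pow_apply hu hu1, S_pow_apply, useq_p p hnk hu1 hun, mul_one, X_subst]
  have : W hu1 p = 1 := Units.ext (by rw [W_val, useq_p p hnk hu1 hun]; rfl)
  rw [this, one_zpow, Units.val_one, one_mul]
  rfl

include hnk hu1 hun in
lemma D_pow_p (e : ℤ) : (D hu e) ^ p = 0 := by
  unfold D
  rw [sub_one_pow_char' (k := k) p, T_pow_p p hu hnk hu1 hun, sub_self]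

include hnk hu1 hun in
lemma U_dvd (e : ℤ) : (X : PowerSeries k) ^ n ∣ U hu e - 1 := by
  apply dvd_zpow_sub_one; rw [hu.unit_spec]; exact dvd_u_sub_one hnk hu1 hun

include hn hnk hu1 hun in
lemma coeff_U (e : ℤ) : coeff n (U hu e - 1) = (e : k) * coeff n (u - 1) := by
  have := coeff_zpow hn hu.unit (by rw [hu.unit_spec]; exact dvd_u_sub_one hnk hu1 hun) e
  rwa [hu.unit_spec] at this

include hn hnk hu1 hun in
lemma D_lead (e : ℤ) (h : PowerSeries k) :
    ∃ w, D hu e h = X ^ n * w ∧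
      constantCoeff w = (e : k) * coeff n (u - 1) * constantCoeff h := by
  obtain ⟨q, hq⟩ := U_dvd hu hnk hu1 hun e
  have hq0 : constantCoeff q = (e : k) * coeff n (u - 1) := by
    rw [← coeff_U hu hn hnk hu1 hun e, hq, coeff_X_pow_mul', if_pos le_rfl, Nat.sub_self,
      coeff_zero_eq_constantCoeff_apply]
  have hSg : (X : PowerSeries k) ^ (n + 1) ∣ S u h - h := by
    rw [X_pow_dvd_iff]; intro d hd
    rw [map_sub, coeff_S hn (dvd_u_sub_one hnk hu1 hun) h (by omega), sub_self]
  obtain ⟨g', hg'⟩ := hSg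
  refine ⟨q * S u h + X * g', ?_, ?_⟩
  · rw [D_apply]; linear_combination (S u h) * hq + hg'
  · simp [hq0, constantCoeff_S]

include hn hnk hu1 hun in
lemma D_lead_pow (e : ℤ) (r : ℕ) (h : PowerSeries k) (hr : X ^ r ∣ h) :
    ∃ w, D hu e h = X ^ (r + n) * w ∧
      constantCoeff w = ((e + r : ℤ) : k) * coeff n (u - 1) * coeff r h := by
  obtain ⟨h', rfl⟩ := hr
  obtain ⟨w, hw, hw0⟩ := D_lead hu hn hnk hu1 hun (e + r) h'
  refine ⟨w, ?_, ?_⟩
  · rw [D_X_pow_mul, hw, pow_add, mul_assoc]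
  · rw [hw0, coeff_X_pow_mul', if_pos le_rfl, Nat.sub_self, coeff_zero_eq_constantCoeff_apply]

include hn hnk hu1 hun in
lemma D_pow_lead (e : ℤ) (r : ℕ) (h : PowerSeries k) (hr : X ^ r ∣ h) (j : ℕ) :
    ∃ w, ((D hu e) ^ j) h = X ^ (r + j * n) * w ∧
      constantCoeff w =
        (∏ i ∈ range j, ((e + r + i * n : ℤ) : k) * coeff n (u - 1)) * coeff r h := by
  induction j with
  | zero =>
    obtain ⟨h', rfl⟩ := hr
    refine ⟨h', by simp, ?_⟩
    rw [coeff_X_pow_mul', if_pos le_rfl, Nat.sub_self, coeff_zero_eq_constantCoeff_apply]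
    simp
  | succ j ih =>
    obtain ⟨w, hw, hw0⟩ := ih
    obtain ⟨w', hw', hw0'⟩ := D_lead_pow hu hn hnk hu1 hun e (r + j * n) _
      (Dvd.intro w hw.symm)
    refine ⟨w', ?_, ?_⟩
    · rw [pow_succ', Module.End.mul_apply, hw']
      congr 2; ring
    · rw [hw0', hw, coeff_X_pow_mul', if_pos le_rfl, Nat.sub_self,
        coeff_zero_eq_constantCoeff_apply, hw0, prod_range_succ]
      push_cast
      ring

end main

end Groth.Agent.Helper6.ASC
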