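import Mathlib
import Groth.Agent.Helper6.ASC3

set_option autoImplicit false
set_option linter.style.haveILetI false
set_option linter.unusedSectionVars false

namespace Groth.Agent.Helper6.ASC

open PowerSeries Finset

variable {k : Type*} [Field k]

variable (p : ℕ) [Fact p.Prime] [CharP k p]
variable {u : PowerSeries k} (hu : IsUnit u) {n : ℕ} (hn : 0 < n) (hpn : ¬ p ∣ n)
  (hu1 : constantCoeff u = 1) (hun : u ^ n * (1 + X ^ n) = 1)

omit [Fact p.Prime] in
include hpn in
lemma hnk_of : (n : k) ≠ 0 := fun h0 => hpn ((CharP.cast_eq_zero_iff k p n).1 h0)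

omit [Fact p.Prime] in
include hn hpn hu1 hun hu in
lemma nu_ne_zero : coeff n (u - 1) ≠ 0 := by
  have hcu := coeff_u hn (hnk_of p hpn) hu1 hun hu
  intro h0
  rw [h0, mul_zero] at hcu
  exact absurd hcu (by simp)

include hn hpn hu1 hun in
lemma not_dvd_of_norm_zero (a : ℤ) (r : ℕ) (h : PowerSeries k) (hr : X ^ r ∣ h)
    (hc : coeff r h ≠ 0) (hN : ((D hu a) ^ (p - 1)) h = 0) : ¬ (p : ℤ) ∣ a - n + r := by
  have hnk := hnk_of (k := k) p hpn
  obtain ⟨w, hw, hw0⟩ := D_pow_lead hu hn hnk hu1 hun a r h hr (p - 1)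
  rw [hN] at hw
  have hw' : w = 0 := (mul_eq_zero.1 hw.symm).resolve_left (pow_ne_zero _ X_ne_zero)
  rw [hw', map_zero] at hw0
  have hprod := (mul_eq_zero.1 hw0.symm).resolve_right hc
  obtain ⟨i, hi, hi0⟩ := Finset.prod_eq_zero_iff.1 hprod
  have hi1 : ((a + r + i * n : ℤ) : k) = 0 :=
    (mul_eq_zero.1 hi0).resolve_right (nu_ne_zero p hu hn hpn hu1 hun)
  have hd1 : (p : ℤ) ∣ a + r + i * n := (CharP.intCast_eq_zero_iff k p _).1 hi1
  intro hd2
  have hd3 : (p : ℤ) ∣ ((i + 1) * n : ℕ) := by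
    have : (((i + 1) * n : ℕ) : ℤ) = (a + r + i * n) - (a - n + r) := by push_cast; ring
    rw [this]; exact dvd_sub hd1 hd2
  have hd4 : p ∣ (i + 1) * n := Int.natCast_dvd_natCast.1 hd3
  rcases (Fact.out : p.Prime).dvd_mul.1 hd4 with h5 | h5
  · have := Nat.le_of_dvd (by omega) h5
    have := Finset.mem_range.1 hi
    omega
  · exact hpn h5

include hn hpn hu1 hun in
theorem exists_preimage (a : ℤ) (h : PowerSeries k) (hN : ((D hu a) ^ (p - 1)) h = 0) :
    ∃ g', D hu (a - n) g' = X ^ n * h := by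
  classical
  have hnk := hnk_of (k := k) p hpn
  have hνne := nu_ne_zero p hu hn hpn hu1 hun
  have hw : ∀ r : ℕ, ∃ w, D hu (a - n) (X ^ r) = X ^ n * w ∧ X ^ r ∣ w ∧
      coeff r w = ((a - n + r : ℤ) : k) * coeff n (u - 1) := by
    intro r
    rw [D_X_pow]
    obtain ⟨q, hq⟩ := U_dvd hu hnk hu1 hun (a - n + r)
    refine ⟨X ^ r * q, by rw [hq]; ring, Dvd.intro _ rfl, ?_⟩
    rw [coeff_X_pow_mul', if_pos le_rfl, Nat.sub_self, coeff_zero_eq_constantCoeff_apply,
      ← coeff_U hu hn hnk hu1 hun, hq, coeff_X_pow_mul', if_pos le_rfl, Nat.sub_self,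
      coeff_zero_eq_constantCoeff_apply]
  choose w hw1 hw2 hw3 using hw
  have hp1 : p - 1 + 1 = p := Nat.sub_add_cancel (Fact.out : p.Prime).one_le
  have hNw : ∀ r, ((D hu a) ^ (p - 1)) (w r) = 0 := by
    intro r
    have h1 : X ^ n * ((D hu a) ^ (p - 1)) (w r) = 0 := by
      have := D_pow_X_pow_mul hu (a - n) n (p - 1) (w r)
      rw [show a - n + (n : ℤ) = a by ring] at this
      rw [← this, ← hw1, ← Module.End.mul_apply, ← pow_succ, hp1, D_pow_p p hu hnk hu1 hun,
        LinearMap.zero_apply]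
    exact (mul_eq_zero.1 h1).resolve_left (pow_ne_zero _ X_ne_zero)
  obtain ⟨lam, hlam⟩ : ∃ lam : ℕ → k, ∀ r, lam r = ((a - n + r : ℤ) : k) * coeff n (u - 1) :=
    ⟨_, fun r => rfl⟩
  obtain ⟨hs, hs0, hsS⟩ : ∃ hs : ℕ → PowerSeries k, hs 0 = h ∧
      ∀ r, hs (r + 1) = hs r - C (coeff r (hs r) / lam r) * w r :=
    ⟨fun r => Nat.rec h (fun r hr => hr - C (coeff r hr / lam r) * w r) r, rfl, fun r => rfl⟩
  have hI1 : ∀ r, X ^ r ∣ hs r ∧ ((D hu a) ^ (p - 1)) (hs r) = 0 := by
    intro r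
    induction r with
    | zero => exact ⟨by simp, by rw [hs0]; exact hN⟩
    | succ r ih =>
      obtain ⟨ih1, ih2⟩ := ih
      constructor
      · rw [X_pow_dvd_iff]
        intro m hm
        rw [hsS, map_sub, coeff_C_mul]
        by_cases hmr : m < r
        · rw [(X_pow_dvd_iff.1 ih1) m hmr, (X_pow_dvd_iff.1 (hw2 r)) m hmr, mul_zero, sub_zero]
        · have hmr' : m = r := by omega
          subst hmr'
          rw [hw3, ← hlam]
          by_cases hc : coeff m (hs m) = 0
          · rw [hc]; simp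
          · have hl : lam m ≠ 0 := by
              have hnd := not_dvd_of_norm_zero p hu hn hpn hu1 hun a m (hs m) ih1 hc ih2
              rw [hlam]
              refine mul_ne_zero ?_ hνne
              intro h0
              exact hnd ((CharP.intCast_eq_zero_iff k p _).1 h0)
            rw [div_mul_cancel₀ _ hl, sub_self]
      · rw [hsS, map_sub, ih2, ← smul_eq_C_mul, map_smul, hNw, smul_zero, sub_zero]
  have hI3 : ∀ r, X ^ n * hs r =
      X ^ n * h - D hu (a - n) (∑ i ∈ range r, C (coeff i (hs i) / lam i) * X ^ i) := by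
    intro r
    induction r with
    | zero => simp [hs0]
    | succ r ih =>
      rw [hsS, mul_sub, ih, sum_range_succ, map_add, ← smul_eq_C_mul (f := X ^ r), map_smul, hw1 r,
        smul_eq_C_mul]
      ring
  refine ⟨PowerSeries.mk fun i => coeff i (hs i) / lam i, ?_⟩
  ext d
  have hdec : X ^ (d + 1) ∣ PowerSeries.mk (fun i => coeff i (hs i) / lam i) -
      ∑ i ∈ range (d + 1), C (coeff i (hs i) / lam i) * X ^ i := by
    rw [X_pow_dvd_iff]; intro m hm
    rw [map_sub, coeff_mk, map_sum]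
    simp_rw [coeff_C_mul, coeff_X_pow]
    rw [Finset.sum_eq_single m]
    · simp
    · intro b _ hb
      rw [if_neg (Ne.symm hb), mul_zero]
    · intro hm'
      exact absurd (Finset.mem_range.2 hm) hm'
  obtain ⟨g'', hg''⟩ := hdec
  have e1 : PowerSeries.mk (fun i => coeff i (hs i) / lam i) =
      ∑ i ∈ range (d + 1), C (coeff i (hs i) / lam i) * X ^ i + X ^ (d + 1) * g'' := by
    rw [← hg'']; ring
  have e2 : D hu (a - n) (∑ i ∈ range (d + 1), C (coeff i (hs i) / lam i) * X ^ i) =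
      X ^ n * h - X ^ n * hs (d + 1) := by rw [hI3]; ring
  obtain ⟨h', hh'⟩ := (hI1 (d + 1)).1
  rw [e1, map_add, D_X_pow_mul, e2, hh', map_add, map_sub]
  have z1 : coeff d (X ^ n * (X ^ (d + 1) * h')) = 0 := by
    rw [← mul_assoc, ← pow_add, coeff_X_pow_mul', if_neg (by omega)]
  have z2 : coeff d (X ^ (d + 1) * D hu (a - n + ((d + 1 : ℕ) : ℤ)) g'') = 0 := by
    rw [coeff_X_pow_mul', if_neg (by omega)]
  rw [z1, z2, sub_zero, add_zero]

include hn hpn hu1 hun in
theorem span_cocycles (a : ℤ) (c : ℕ → PowerSeries k)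
    (hc : ∀ m : ℕ, 1 ≤ m → m ≤ n → X ^ m * c m = U hu (a - m) - 1)
    (h : PowerSeries k) (hN : ((D hu a) ^ (p - 1)) h = 0) :
    ∃ (coef : ℕ → k) (x : PowerSeries k),
      h = ∑ m ∈ (Icc 1 n).filter (fun m : ℕ => ¬ (p : ℤ) ∣ a - (m : ℤ)), coef m • c m +
        D hu a x := by
  classical
  obtain ⟨g', hg'⟩ := exists_preimage p hu hn hpn hu1 hun a h hN
  have hdec : X ^ n ∣ g' - ∑ i ∈ range n, C (coeff i g') * X ^ i := by
    rw [X_pow_dvd_iff]; intro m hm
    rw [map_sub, map_sum]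
    simp_rw [coeff_C_mul, coeff_X_pow]
    rw [Finset.sum_eq_single m]
    · simp
    · intro b _ hb
      rw [if_neg (Ne.symm hb), mul_zero]
    · intro hm'
      exact absurd (Finset.mem_range.2 hm) hm'
  obtain ⟨g'', hg''⟩ := hdec
  have e1 : g' = ∑ i ∈ range n, C (coeff i g') * X ^ i + X ^ n * g'' := by
    rw [← hg'']; ring
  have e2 : ∀ i ∈ range n, D hu (a - n) (C (coeff i g') * X ^ i) =
      X ^ n * (coeff i g' • c (n - i)) := by
    intro i hi
    have hi' := Finset.mem_range.1 hi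
    rw [← smul_eq_C_mul, map_smul, D_X_pow, mul_smul_comm]
    congr 1
    have hcm := hc (n - i) (by omega) (by omega)
    have hcast : a - ((n - i : ℕ) : ℤ) = a - n + i := by
      rw [Nat.cast_sub hi'.le]; ring
    rw [hcast] at hcm
    rw [← hcm, ← mul_assoc, ← pow_add]
    congr 2
    omega
  have e3 : X ^ n * h = X ^ n * (∑ i ∈ range n, coeff i g' • c (n - i) + D hu a g'') := by
    rw [← hg']
    conv_lhs => rw [e1]
    rw [map_add, map_sum, Finset.sum_congr rfl e2, D_X_pow_mul,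
      show a - n + (n : ℤ) = a by ring, ← Finset.mul_sum, mul_add]
  have e4 : h = ∑ i ∈ range n, coeff i g' • c (n - i) + D hu a g'' :=
    mul_left_cancel₀ (pow_ne_zero n X_ne_zero) e3
  have e5 : ∑ i ∈ range n, coeff i g' • c (n - i) =
      ∑ m ∈ Icc 1 n, coeff (n - m) g' • c m := by
    refine Finset.sum_nbij' (fun i => n - i) (fun m => n - m) ?_ ?_ ?_ ?_ ?_
    · intro i hi
      have := Finset.mem_range.1 hi
      rw [Finset.mem_Icc]; omega
    · intro m hm
      have := Finset.mem_Icc.1 hm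
      rw [Finset.mem_range]; omega
    · intro i hi
      have := Finset.mem_range.1 hi
      show n - (n - i) = i
      omega
    · intro m hm
      have := Finset.mem_Icc.1 hm
      show n - (n - m) = m
      omega
    · intro i hi
      have := Finset.mem_range.1 hi
      have : n - (n - i) = i := by omega
      rw [this]
  have hcob : ∀ m ∈ (Icc 1 n).filter (fun m : ℕ => ¬ ¬ (p : ℤ) ∣ a - (m : ℤ)),
      ∃ x, D hu a x = c m := by
    intro m hm
    rw [Finset.mem_filter, Finset.mem_Icc, not_not] at hm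
    obtain ⟨x, hx⟩ := exists_h p hpn u hu1 hun hu a m hm.1.2 hm.2 (c m) (hc m hm.1.1 hm.1.2)
    exact ⟨x, by rw [D_apply, S_apply]; exact hx⟩
  choose! x hx using hcob
  refine ⟨fun m => coeff (n - m) g',
    ∑ m ∈ (Icc 1 n).filter (fun m : ℕ => ¬ ¬ (p : ℤ) ∣ a - (m : ℤ)), coeff (n - m) g' • x m + g'',
    ?_⟩
  rw [e4, e5, ← Finset.sum_filter_add_sum_filter_not (Icc 1 n) (fun m : ℕ => ¬ (p : ℤ) ∣ a - (m : ℤ)),
    map_add, map_sum, add_assoc]
  congr 2
  refine Finset.sum_congr rfl fun m hm => ?_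
  rw [map_smul, hx m hm]

end Groth.Agent.Helper6.ASC
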