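import Mathlib

set_option autoImplicit false
set_option linter.style.haveILetI false
set_option linter.unusedSectionVars false

namespace Groth.Agent.Helper6.CycH1

open groupCohomology Finset

universe u

variable {k G : Type u} [CommRing k] [Group G] (A : Rep k G) (g : G)

/-- partial norm sums `∑_{i<j} g^i • h` -/
noncomputable def psum (j : ℕ) (h : A.V) : A.V := ∑ i ∈ range j, A.ρ (g ^ i) h

lemma psum_zero (h : A.V) : psum A g 0 h = 0 := by simp [psum]

lemma psum_succ (j : ℕ) (h : A.V) : psum A g (j + 1) h = psum A g j h + A.ρ (g ^ j) h := by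
  simp [psum, sum_range_succ]

lemma psum_add (j j' : ℕ) (h : A.V) :
    psum A g (j + j') h = psum A g j h + A.ρ (g ^ j) (psum A g j' h) := by
  induction j' with
  | zero => simp [psum_zero]
  | succ j' ih =>
    rw [← add_assoc, psum_succ, ih, psum_succ, map_add, add_assoc]
    congr 2
    rw [pow_add, map_mul]; rfl

lemma cocycle_pow (f : cocycles₁ A) (j : ℕ) : f (g ^ j) = psum A g j (f g) := by
  induction j with
  | zero => simp [psum_zero]
  | succ j ih =>
    rw [pow_succ, (mem_cocycles₁_iff f).1 f.2 (g ^ j) g, ih, psum_succ, add_comm]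

/-- evaluation at `g` as a linear map -/
noncomputable def evg : cocycles₁ A →ₗ[k] A.V :=
  (LinearMap.proj g) ∘ₗ (cocycles₁ A).subtype

lemma evg_apply (f : cocycles₁ A) : evg A g f = f g := rfl

variable {A g}

lemma exists_pow (hg : ∀ x, x ∈ Subgroup.zpowers g) {p : ℕ} (hp : 0 < p) (hgp : g ^ p = 1)
    (x : G) : ∃ j : ℕ, g ^ j = x := by
  obtain ⟨z, hz⟩ := Subgroup.mem_zpowers_iff.1 (hg x)
  refine ⟨(z % p).toNat, ?_⟩
  have h1 : (0 : ℤ) ≤ z % p := Int.emod_nonneg _ (by exact_mod_cast hp.ne')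
  rw [← zpow_natCast, Int.toNat_of_nonneg h1, ← hz]
  conv_rhs => rw [← Int.emod_add_mul_ediv z p]
  rw [zpow_add, zpow_mul, zpow_natCast, hgp, one_zpow, mul_one]

lemma cocycle_ext (hg : ∀ x, x ∈ Subgroup.zpowers g) {p : ℕ} (hp : 0 < p) (hgp : g ^ p = 1)
    (f f' : cocycles₁ A) (h : f g = f' g) : f = f' := by
  apply cocycles₁_ext
  intro x
  obtain ⟨j, rfl⟩ := exists_pow hg hp hgp x
  rw [cocycle_pow, cocycle_pow, h]

lemma psum_p_cocycle {p : ℕ} (hgp : g ^ p = 1) (f : cocycles₁ A) : psum A g p (f g) = 0 := by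
  rw [← cocycle_pow, hgp, cocycles₁_map_one]

/-- the coboundary cocycle of `x` -/
noncomputable def dcoc (x : A.V) : cocycles₁ A := ⟨d₀₁ A x, d₀₁_apply_mem_cocycles₁ x⟩

lemma dcoc_apply (x : A.V) (y : G) : dcoc (A := A) x y = A.ρ y x - x := rfl

lemma coboundary_iff (hg : ∀ x, x ∈ Subgroup.zpowers g) {p : ℕ} (hp : 0 < p) (hgp : g ^ p = 1)
    (f : cocycles₁ A) :
    ⇑f ∈ coboundaries₁ A ↔ ∃ x : A.V, f g = A.ρ g x - x := by
  constructor
  · rintro ⟨x, hx⟩
    refine ⟨x, ?_⟩
    have := congrFun hx g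
    rw [← this]; rfl
  · rintro ⟨x, hx⟩
    have : f = dcoc x := cocycle_ext hg hp hgp _ _ (by rw [hx, dcoc_apply])
    rw [this]
    exact ⟨x, rfl⟩

lemma psum_add_mul {p : ℕ} (h : A.V) (hN : psum A g p h = 0) (j m : ℕ) :
    psum A g (j + m * p) h = psum A g j h := by
  induction m with
  | zero => simp
  | succ m ih =>
    rw [Nat.succ_mul, ← add_assoc, psum_add, ih, hN, map_zero, add_zero]

lemma psum_congr {p : ℕ} (h : A.V) (hN : psum A g p h = 0) {j j' : ℕ}
    (hjj : j ≡ j' [MOD p]) : psum A g j h = psum A g j' h := by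
  have e1 : ∀ j : ℕ, psum A g j h = psum A g (j % p) h := by
    intro j
    conv_lhs => rw [← Nat.mod_add_div j p, mul_comm]
    exact psum_add_mul h hN _ _
  rw [e1 j, e1 j', show j % p = j' % p from hjj]

theorem exists_cocycle (hg : ∀ x, x ∈ Subgroup.zpowers g) {p : ℕ} (hp : 0 < p)
    (horder : orderOf g = p) (h : A.V) (hN : psum A g p h = 0) :
    ∃ f : cocycles₁ A, f g = h := by
  have hgp : g ^ p = 1 := by rw [← horder]; exact pow_orderOf_eq_one g
  choose J hJ using exists_pow hg hp hgp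
  have key : ∀ (x : G) (j : ℕ), g ^ j = x → psum A g (J x) h = psum A g j h := by
    intro x j hj
    apply psum_congr h hN
    have : g ^ (J x) = g ^ j := by rw [hJ x, hj]
    rw [pow_eq_pow_iff_modEq, horder] at this
    exact this
  refine ⟨⟨fun x => psum A g (J x) h, ?_⟩, ?_⟩
  · rw [mem_cocycles₁_iff]
    intro x y
    have hxy : g ^ (J x + J y) = x * y := by rw [pow_add, hJ, hJ]
    rw [key (x * y) _ hxy, psum_add, hJ x, add_comm]
  · show psum A g (J g) h = h
    rw [key g 1 (pow_one g), psum_succ, psum_zero, zero_add, pow_zero, map_one]; rfl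

theorem H1_basis_data (hg : ∀ x, x ∈ Subgroup.zpowers g) {p : ℕ} (hp : 0 < p)
    (horder : orderOf g = p)
    {ι : Type} [Fintype ι] (c : ι → A.V) (hc : ∀ i, psum A g p (c i) = 0)
    (hspan : ∀ h : A.V, psum A g p h = 0 →
      ∃ (coef : ι → k) (x : A.V), h = ∑ i, coef i • c i + (A.ρ g x - x))
    (hind : ∀ (coef : ι → k) (x : A.V), ∑ i, coef i • c i = A.ρ g x - x → ∀ i, coef i = 0) :
    ∃ b : Module.Basis ι k (H1 A), ∀ i, ∃ f : cocycles₁ A, f g = c i ∧ b i = H1π A f := by
  have hgp : g ^ p = 1 := by rw [← horder]; exact pow_orderOf_eq_one g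
  choose f hf using fun i => exists_cocycle hg hp horder (c i) (hc i)
  have hev : ∀ coef : ι → k, (∑ i, coef i • f i : cocycles₁ A) g = ∑ i, coef i • c i := by
    intro coef
    rw [← evg_apply, map_sum]
    refine Finset.sum_congr rfl fun i _ => ?_
    rw [map_smul, evg_apply, hf]
  have hli : LinearIndependent k (fun i => H1π A (f i)) := by
    rw [Fintype.linearIndependent_iff]
    intro coef hsum
    have h1 : H1π A (∑ i, coef i • f i) = 0 := by
      rw [map_sum]; simp_rw [map_smul]; exact hsum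
    rw [H1π_eq_zero_iff, coboundary_iff hg hp hgp] at h1
    obtain ⟨x, hx⟩ := h1
    apply hind coef x
    rw [← hx, hev]
  have hsp : ⊤ ≤ Submodule.span k (Set.range fun i => H1π A (f i)) := by
    intro y _
    induction y using H1_induction_on with
    | h f0 =>
      obtain ⟨coef, x, hx⟩ := hspan (f0 g) (psum_p_cocycle hgp f0)
      have h2 : H1π A (f0 - ∑ i, coef i • f i) = 0 := by
        rw [H1π_eq_zero_iff, coboundary_iff hg hp hgp]
        refine ⟨x, ?_⟩
        rw [← evg_apply, map_sub, evg_apply, evg_apply, hev, hx]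
        abel
      have : H1π A f0 = ∑ i, coef i • H1π A (f i) := by
        rw [map_sub, map_sum, sub_eq_zero] at h2
        rw [h2]
        refine Finset.sum_congr rfl fun i _ => ?_
        rw [map_smul]
      rw [this]
      exact Submodule.sum_mem _ fun i _ =>
        Submodule.smul_mem _ _ (Submodule.subset_span ⟨i, rfl⟩)
  refine ⟨Module.Basis.mk hli hsp, fun i => ⟨f i, hf i, ?_⟩⟩
  rw [Module.Basis.mk_apply]

end Groth.Agent.Helper6.CycH1
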