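import Mathlib
import Groth.Agent.Helper6.ASC4
import Groth.Agent.Helper6.CycH1

set_option autoImplicit false
set_option linter.style.haveILetI false
set_option linter.unusedSectionVars false

namespace Groth.Agent.Helper6.ASC

open PowerSeries Finset groupCohomology

section counting

lemma ediv_sub_ediv_pred (p : ℤ) (hp : 0 < p) (x : ℤ) :
    x / p - (x - 1) / p = if p ∣ x then 1 else 0 := by
  have hx : x % p + p * (x / p) = x := Int.emod_add_mul_ediv x p
  have h0 : 0 ≤ x % p := Int.emod_nonneg _ hp.ne'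
  have h1 : x % p < p := Int.emod_lt_of_pos _ hp
  split_ifs with hd
  · have hr : x % p = 0 := Int.emod_eq_zero_of_dvd hd
    have := ((Int.ediv_emod_unique hp).2
      ⟨(by rw [hr] at hx; linarith : (p - 1) + p * (x / p - 1) = x - 1), by omega, by omega⟩).1
    rw [this]; ring
  · have hr : x % p ≠ 0 := fun h => hd (Int.dvd_of_emod_eq_zero h)
    have := ((Int.ediv_emod_unique hp).2
      ⟨(by linarith : (x % p - 1) + p * (x / p) = x - 1), by omega, by omega⟩).1
    rw [this]; ring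

lemma card_filter_dvd (p : ℕ) (hp : 0 < p) (a : ℤ) (n : ℕ) :
    (((Icc 1 n).filter (fun m : ℕ => (p : ℤ) ∣ a - (m : ℤ))).card : ℤ) =
      (a - 1) / (p : ℤ) - (a - 1 - n) / (p : ℤ) := by
  induction n with
  | zero => simp
  | succ n ih =>
    rw [← Finset.insert_Icc_right_eq_Icc_add_one (by omega : 1 ≤ n + 1), Finset.filter_insert]
    have hp' : (0 : ℤ) < p := by exact_mod_cast hp
    have key := ediv_sub_ediv_pred p hp' (a - 1 - n)
    have e1 : a - 1 - (n : ℤ) - 1 = a - 1 - ((n + 1 : ℕ) : ℤ) := by push_cast; ring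
    have e2 : a - 1 - (n : ℤ) = a - ((n + 1 : ℕ) : ℤ) := by push_cast; ring
    rw [e1] at key
    split_ifs with hd
    · rw [Finset.card_insert_of_notMem (by simp), Nat.cast_add, ih, Nat.cast_one]
      rw [if_pos (by rw [e2]; exact hd)] at key
      linarith
    · rw [ih]
      rw [if_neg (by rw [e2]; exact hd)] at key
      linarith

lemma card_filter_not_dvd (p : ℕ) (hp : 0 < p) (a : ℤ) (n : ℕ) :
    (((Icc 1 n).filter (fun m : ℕ => ¬ (p : ℤ) ∣ a - (m : ℤ))).card : ℤ) =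
      n - (a - 1) / (p : ℤ) + (a - 1 - n) / (p : ℤ) := by
  have h := Finset.card_filter_add_card_filter_not (s := Icc 1 n) (fun m : ℕ => (p : ℤ) ∣ a - (m : ℤ))
  rw [Nat.card_Icc, Nat.add_sub_cancel] at h
  have h2 := card_filter_dvd p hp a n
  have h3 : ((((Icc 1 n).filter (fun m : ℕ => (p : ℤ) ∣ a - (m : ℤ))).card : ℕ) : ℤ) +
      ((((Icc 1 n).filter (fun m : ℕ => ¬ (p : ℤ) ∣ a - (m : ℤ))).card : ℕ) : ℤ) = n := by
    exact_mod_cast h
  linarith

end counting

universe u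

variable {k : Type u} [Field k] (p : ℕ) [Fact p.Prime] [CharP k p]
variable {u : PowerSeries k} (hu : IsUnit u) {n : ℕ} (hn : 0 < n) (hpn : ¬ p ∣ n)
  (hu1 : constantCoeff u = 1) (hun : u ^ n * (1 + X ^ n) = 1)

section rep

variable {G : Type u} [Group G] (g : G) (ρ : Representation k G (PowerSeries k)) (a : ℤ)
  (hρ : ∀ h : PowerSeries k, ρ g h = U hu a * subst (X * u) h)

include hρ in
lemma rho_eq_T : ρ g = T hu a := by
  apply LinearMap.ext
  intro h
  rw [hρ, T_apply, S_apply]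

include hρ in
lemma psum_eq (h : PowerSeries k) :
    CycH1.psum (Rep.of ρ) g p h = ((D hu a) ^ (p - 1)) h := by
  unfold CycH1.psum D
  rw [← geom_sum_eq_sub_one_pow (k := k) p, LinearMap.sum_apply]
  refine Finset.sum_congr rfl fun i _ => ?_
  show ρ (g ^ i) h = _
  rw [map_pow, rho_eq_T hu g ρ a hρ]

include hρ in
lemma rho_sub (x : PowerSeries k) : (Rep.of ρ).ρ g x - x = D hu a x := by
  show ρ g x - x = _
  rw [rho_eq_T hu g ρ a hρ]; rfl

end rep

include hn hpn hu1 hun in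
/-- the classes `c_m` are killed by the norm -/
lemma norm_c (a : ℤ) (m : ℕ) (c : PowerSeries k) (hc : X ^ m * c = U hu (a - m) - 1) :
    ((D hu a) ^ (p - 1)) c = 0 := by
  have hnk := hnk_of (k := k) p hpn
  have hp1 : p - 1 + 1 = p := Nat.sub_add_cancel (Fact.out : p.Prime).one_le
  have h1 : X ^ m * ((D hu a) ^ (p - 1)) c = 0 := by
    have := D_pow_X_pow_mul hu (a - m) m (p - 1) c
    rw [show a - m + (m : ℤ) = a by ring] at this
    have hD1 : D hu (a - m) 1 = U hu (a - m) - 1 := by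
      rw [D_apply, map_one, mul_one]
    rw [← this, hc, ← hD1, ← Module.End.mul_apply, ← pow_succ, hp1, D_pow_p p hu hnk hu1 hun,
      LinearMap.zero_apply]
  exact (mul_eq_zero.1 h1).resolve_left (pow_ne_zero _ X_ne_zero)

include hn hpn hu1 hun in
lemma exists_c (a : ℤ) : ∃ c : ℕ → PowerSeries k,
    ∀ m : ℕ, 1 ≤ m → m ≤ n → X ^ m * c m = U hu (a - m) - 1 := by
  have hnk := hnk_of (k := k) p hpn
  have : ∀ m : ℕ, ∃ c : PowerSeries k, m ≤ n → X ^ m * c = U hu (a - m) - 1 := by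
    intro m
    by_cases hm : m ≤ n
    · obtain ⟨c, hc⟩ := dvd_trans (pow_dvd_pow X hm) (U_dvd hu hnk hu1 hun (a - m))
      exact ⟨c, fun _ => hc.symm⟩
    · exact ⟨0, fun h => absurd h hm⟩
  choose c hc using this
  exact ⟨c, fun m _ hm => hc m hm⟩

include hn hpn hu1 hun in
theorem H1_basis {G : Type u} [Group G] [Finite G] (g : G) (hG : Nat.card G = p)
    (hg : ∀ x : G, x ∈ Subgroup.zpowers g)
    (ρ : Representation k G (PowerSeries k)) (a : ℤ)
    (hρ : ∀ h : PowerSeries k, ρ g h = U hu a * subst (X * u) h)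
    (c : ℕ → PowerSeries k)
    (hc : ∀ m : ℕ, 1 ≤ m → m ≤ n → X ^ m * c m = U hu (a - m) - 1) :
    ∃ b : Module.Basis {m // m ∈ (Icc 1 n).filter (fun m : ℕ => ¬ (p : ℤ) ∣ a - (m : ℤ))} k
        (H1 (Rep.of ρ)),
      ∀ i, ∃ f : cocycles₁ (Rep.of ρ), f g = c i.1 ∧ b i = H1π (Rep.of ρ) f := by
  classical
  have hp0 : 0 < p := (Fact.out : p.Prime).pos
  have horder : orderOf g = p := by rw [orderOf_eq_card_of_forall_mem_zpowers hg, hG]
  refine CycH1.H1_basis_data (A := Rep.of ρ) hg hp0 horder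
    (fun i : {m // m ∈ (Icc 1 n).filter (fun m : ℕ => ¬ (p : ℤ) ∣ a - (m : ℤ))} => c i.1) ?_ ?_ ?_
  · intro i
    have hi := Finset.mem_filter.1 i.2
    have hi' := Finset.mem_Icc.1 hi.1
    rw [psum_eq p hu g ρ a hρ]
    exact norm_c p hu hn hpn hu1 hun a i.1 (c i.1) (hc i.1 hi'.1 hi'.2)
  · intro h hN
    rw [psum_eq p hu g ρ a hρ] at hN
    obtain ⟨coef, x, hx⟩ := span_cocycles p hu hn hpn hu1 hun a c hc h hN
    refine ⟨fun i => coef i.1, x, ?_⟩
    rw [rho_sub hu g ρ a hρ, hx]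
    congr 1
    exact (Finset.sum_coe_sort _ (fun m => coef m • c m)).symm
  · intro coef x hsum
    rw [rho_sub hu g ρ a hρ] at hsum
    obtain ⟨coefE, hcoefE⟩ : ∃ coefE : ℕ → k, ∀ m, coefE m =
        if hm : m ∈ (Icc 1 n).filter (fun m : ℕ => ¬ (p : ℤ) ∣ a - (m : ℤ)) then coef ⟨m, hm⟩ else 0 :=
      ⟨_, fun m => rfl⟩
    have hsum' : U hu a * subst (X * u) x - x =
        ∑ m ∈ (Icc 1 n).filter (fun m : ℕ => ¬ (p : ℤ) ∣ a - (m : ℤ)), coefE m • c m := by
      rw [← Finset.sum_coe_sort, ← S_apply, ← D_apply, ← hsum]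
      refine Finset.sum_congr rfl fun i _ => ?_
      rw [hcoefE, dif_pos i.2]
    have := lin_indep p hn hpn u hu1 hun hu a c hc coefE x hsum'
    intro i
    have h2 := this i.1 i.2
    rw [hcoefE, dif_pos i.2] at h2
    exact h2

include hn hpn hu1 hun in
theorem finrank_H1 {G : Type u} [Group G] [Finite G] (g : G) (hG : Nat.card G = p)
    (hg : ∀ x : G, x ∈ Subgroup.zpowers g)
    (ρ : Representation k G (PowerSeries k)) (a : ℤ)
    (hρ : ∀ h : PowerSeries k, ρ g h =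
      ((hu.unit ^ a : (PowerSeries k)ˣ) : PowerSeries k) * PowerSeries.subst (PowerSeries.X * u) h) :
    Module.Finite k (groupCohomology.H1 (Rep.of ρ)) ∧
      (Module.finrank k (groupCohomology.H1 (Rep.of ρ)) : ℤ) =
        n - (a - 1) / (p : ℤ) + (a - 1 - n) / (p : ℤ) := by
  obtain ⟨c, hc⟩ := exists_c p hu hn hpn hu1 hun a
  obtain ⟨b, -⟩ := H1_basis p hu hn hpn hu1 hun g hG hg ρ a hρ c hc
  refine ⟨Module.Finite.of_basis b, ?_⟩
  rw [Module.finrank_eq_card_basis b, Fintype.card_coe]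
  exact card_filter_not_dvd p (Fact.out : p.Prime).pos a n

end Groth.Agent.Helper6.ASC
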