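import Mathlib
import Groth.Agent.Helper6.CycH1

set_option autoImplicit false
set_option linter.style.haveILetI false
set_option linter.unusedSectionVars false

namespace Groth.Agent.Helper6.CycH1

open groupCohomology Finset

universe u

variable {k G : Type u} [Field k] [Group G] {A B : Rep k G} {g : G}

lemma map_H1π (φ : A ⟶ B) (f : cocycles₁ A) :
    (groupCohomology.map (MonoidHom.id G) φ 1) (H1π A f) =
      H1π B (mapCocycles₁ (MonoidHom.id G) φ f) :=
  H1π_comp_map_apply (MonoidHom.id G) φ f

lemma mapCocycles₁_apply (φ : A ⟶ B) (f : cocycles₁ A) (x : G) :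
    (mapCocycles₁ (MonoidHom.id G) φ f) x = φ.hom (f x) := rfl

theorem range_finrank (hg : ∀ x, x ∈ Subgroup.zpowers g) {p : ℕ} (hp : 0 < p)
    (horder : orderOf g = p) (φ : A ⟶ B)
    {ι κ : Type} [Fintype ι] [Fintype κ] (cA : ι → A.V) (bA : Module.Basis ι k (H1 A))
    (hbA : ∀ i, ∃ f : cocycles₁ A, f g = cA i ∧ bA i = H1π A f)
    (d : κ → B.V) (hd : ∀ j, psum B g p (d j) = 0)
    (hind : ∀ (coef : κ → k) (x : B.V), ∑ j, coef j • d j = B.ρ g x - x → ∀ j, coef j = 0)
    (e : κ → ι) (s : κ → k) (hs : ∀ j, s j ≠ 0) (he : ∀ j, φ.hom (cA (e j)) = s j • d j)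
    (hne : ∀ i, (¬ ∃ j, e j = i) → ∃ x, φ.hom (cA i) = B.ρ g x - x) :
    Module.Finite k (LinearMap.range (groupCohomology.map (MonoidHom.id G) φ 1).hom) ∧
      Module.finrank k (LinearMap.range (groupCohomology.map (MonoidHom.id G) φ 1).hom) =
        Fintype.card κ := by
  classical
  have hgp : g ^ p = 1 := by rw [← horder]; exact pow_orderOf_eq_one g
  choose fA hfA hbA' using hbA
  choose fd hfd using fun j => exists_cocycle hg hp horder (d j) (hd j)
  have hev : ∀ coef : κ → k, (∑ j, coef j • fd j : cocycles₁ B) g = ∑ j, coef j • d j := by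
    intro coef
    rw [← evg_apply, map_sum]
    refine Finset.sum_congr rfl fun j _ => ?_
    rw [map_smul, evg_apply, hfd]
  have hli : LinearIndependent k (fun j => H1π B (fd j)) := by
    rw [Fintype.linearIndependent_iff]
    intro coef hsum
    have h1 : H1π B (∑ j, coef j • fd j) = 0 := by
      rw [map_sum]; simp_rw [map_smul]; exact hsum
    rw [H1π_eq_zero_iff, coboundary_iff hg hp hgp] at h1
    obtain ⟨x, hx⟩ := h1
    apply hind coef x
    rw [← hx, hev]
  -- images of the basis
  have himg1 : ∀ j, (groupCohomology.map (MonoidHom.id G) φ 1).hom (bA (e j)) =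
      s j • H1π B (fd j) := by
    intro j
    rw [hbA']
    have h1 := map_H1π φ (fA (e j))
    have h2 : mapCocycles₁ (MonoidHom.id G) φ (fA (e j)) = s j • fd j := by
      apply cocycle_ext hg hp hgp
      rw [mapCocycles₁_apply, hfA, he, ← evg_apply B g (s j • fd j), map_smul, evg_apply, hfd]
    rw [h2, map_smul] at h1
    exact h1
  have himg0 : ∀ i, (¬ ∃ j, e j = i) →
      (groupCohomology.map (MonoidHom.id G) φ 1).hom (bA i) = 0 := by
    intro i hi
    obtain ⟨x, hx⟩ := hne i hi
    rw [hbA']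
    have h1 := map_H1π φ (fA i)
    have h2 : H1π B (mapCocycles₁ (MonoidHom.id G) φ (fA i)) = 0 := by
      rw [H1π_eq_zero_iff, coboundary_iff hg hp hgp]
      exact ⟨x, by rw [mapCocycles₁_apply, hfA, hx]⟩
    rw [h2] at h1
    exact h1
  have hrange : LinearMap.range (groupCohomology.map (MonoidHom.id G) φ 1).hom =
      Submodule.span k (Set.range fun j => H1π B (fd j)) := by
    rw [LinearMap.range_eq_map, ← bA.span_eq, Submodule.map_span]
    apply le_antisymm
    · rw [Submodule.span_le]
      rintro _ ⟨_, ⟨i, rfl⟩, rfl⟩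
      by_cases hi : ∃ j, e j = i
      · obtain ⟨j, rfl⟩ := hi
        rw [himg1]
        exact Submodule.smul_mem _ _ (Submodule.subset_span ⟨j, rfl⟩)
      · rw [himg0 i hi]
        exact Submodule.zero_mem _
    · rw [Submodule.span_le]
      rintro _ ⟨j, rfl⟩
      have : H1π B (fd j) = (s j)⁻¹ • (groupCohomology.map (MonoidHom.id G) φ 1).hom (bA (e j)) := by
        rw [himg1, smul_smul, inv_mul_cancel₀ (hs j), one_smul]
      beta_reduce
      rw [this]
      exact Submodule.smul_mem _ _ (Submodule.subset_span ⟨_, ⟨e j, rfl⟩, rfl⟩)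
  rw [hrange]
  exact ⟨FiniteDimensional.span_of_finite k (Set.finite_range _), finrank_span_eq_card hli⟩

end Groth.Agent.Helper6.CycH1
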