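import Mathlib
import Groth.Agent.Helper6.ASC5
import Groth.Agent.Helper6.CycH1b

set_option autoImplicit false
set_option linter.style.haveILetI false
set_option linter.unusedSectionVars false

namespace Groth.Agent.Helper6.ASC

open PowerSeries Finset groupCohomology

section counting2

lemma card_filter_not_and_not (s : Finset ℕ) (P Q : ℕ → Prop) [DecidablePred P] [DecidablePred Q]
    (hPQ : ∀ x ∈ s, P x → Q x → False) :
    (s.filter (fun x => ¬ P x ∧ ¬ Q x)).card + (s.filter P).card + (s.filter Q).card = s.card := by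
  have h1 := Finset.card_filter_add_card_filter_not (s := s) P
  have h2 := Finset.card_filter_add_card_filter_not (s := s.filter (fun x => ¬ P x)) Q
  have h3 : (s.filter (fun x => ¬ P x)).filter Q = s.filter Q := by
    rw [Finset.filter_filter]
    apply Finset.filter_congr
    intro x hx
    exact ⟨fun h => h.2, fun h => ⟨fun hp => hPQ x hx hp h, h⟩⟩
  have h4 : (s.filter (fun x => ¬ P x)).filter (fun x => ¬ Q x) =
      s.filter (fun x => ¬ P x ∧ ¬ Q x) := by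
    rw [Finset.filter_filter]
  rw [h3, h4] at h2
  omega

lemma count_identity (p n : ℕ) (hp : 0 < p) (hpn : ¬ p ∣ n) :
    (n : ℤ) - (n : ℤ) / (p : ℤ) + (-(n : ℤ)) / (p : ℤ) =
      ((n + 1) * (p - 1) : ℤ) / p - 1 - (n - 1 : ℤ) / p := by
  have hp' : (0 : ℤ) < p := by exact_mod_cast hp
  have hx : (n : ℤ) % p + p * ((n : ℤ) / p) = n := Int.emod_add_mul_ediv _ _
  have h0 : 0 ≤ (n : ℤ) % p := Int.emod_nonneg _ hp'.ne'
  have h1 : (n : ℤ) % p < p := Int.emod_lt_of_pos _ hp'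
  have hr : (n : ℤ) % p ≠ 0 := by
    intro h
    exact hpn (Int.natCast_dvd_natCast.1 (Int.dvd_of_emod_eq_zero h))
  obtain ⟨q, hq⟩ : ∃ q : ℤ, q = (n : ℤ) / p := ⟨_, rfl⟩
  obtain ⟨r, hr'⟩ : ∃ r : ℤ, r = (n : ℤ) % p := ⟨_, rfl⟩
  rw [← hq, ← hr'] at hx
  rw [← hr'] at h0 h1 hr
  have e1 : (-(n : ℤ)) / p = -q - 1 :=
    ((Int.ediv_emod_unique hp').2 ⟨(by linarith : (p - r) + p * (-q - 1) = -(n : ℤ)),
      by omega, by omega⟩).1
  have e2 : ((n : ℤ) - 1) / p = q :=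
    ((Int.ediv_emod_unique hp').2 ⟨(by linarith : (r - 1) + p * q = (n : ℤ) - 1),
      by omega, by omega⟩).1
  have e3 : (((n : ℤ) + 1) * (p - 1)) / p = q * (p - 1) + r :=
    ((Int.ediv_emod_unique hp').2 ⟨(by linear_combination ((p : ℤ) - 1) * hx :
      (p - r - 1) + p * (q * (p - 1) + r) = ((n : ℤ) + 1) * (p - 1)), by omega, by omega⟩).1
  rw [e1, e2, e3, ← hq]
  linear_combination (-1 : ℤ) * hx

end counting2

universe u

variable {k : Type u} [Field k] (p : ℕ) [Fact p.Prime] [CharP k p]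
variable {u : PowerSeries k} (hu : IsUnit u) {n : ℕ} (hn : 0 < n) (hpn : ¬ p ∣ n)
  (hu1 : constantCoeff u = 1) (hun : u ^ n * (1 + X ^ n) = 1)

section deriv

variable (hE2 : X * derivative k u = u ^ (n + 1) - u)

include hE2 in
lemma X_mul_deriv_u_pow (m : ℕ) :
    X * derivative k (u ^ m) = (m : PowerSeries k) * u ^ m * (u ^ n - 1) := by
  induction m with
  | zero => simp
  | succ m ih =>
    rw [pow_succ, Derivation.leibniz, smul_eq_mul, smul_eq_mul]
    push_cast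
    linear_combination u ^ m * hE2 + u * ih

lemma X_mul_deriv_X_pow (m : ℕ) :
    X * derivative k ((X : PowerSeries k) ^ m) = (m : PowerSeries k) * X ^ m := by
  induction m with
  | zero => simp
  | succ m ih =>
    rw [pow_succ, Derivation.leibniz, smul_eq_mul, smul_eq_mul, derivative_X]
    push_cast
    linear_combination X * ih

include hE2 in
lemma deriv_c {m : ℕ} (hm : m ≤ n) (c : PowerSeries k)
    (hc : X ^ m * c = U hu (-(m : ℤ)) - 1) :
    X ^ (m + 1) * derivative k c = (m : PowerSeries k) * (1 - u ^ (n - m)) := by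
  have hUU : U hu (-(m : ℤ)) * u ^ m = 1 := by
    rw [← U_natCast hu m, ← U_add, neg_add_cancel, U_zero]
  have E1 : u ^ m * (X ^ m * c) = 1 - u ^ m := by
    rw [hc]; linear_combination hUU
  have H0 := congrArg (derivative k) E1
  rw [Derivation.leibniz, Derivation.leibniz, map_sub, Derivation.map_one_eq_zero, zero_sub,
    smul_eq_mul, smul_eq_mul, smul_eq_mul, smul_eq_mul] at H0
  have P1 := X_mul_deriv_u_pow hE2 m
  have P2 := X_mul_deriv_X_pow (k := k) m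
  have Eu : u ^ n = u ^ m * u ^ (n - m) := by
    rw [← pow_add]; congr 1; omega
  have key : u ^ m * (X ^ (m + 1) * derivative k c) =
      u ^ m * ((m : PowerSeries k) * (1 - u ^ (n - m))) := by
    linear_combination X * H0 - u ^ m * c * P2 - (X ^ m * c + 1) * P1 -
      (m : PowerSeries k) * u ^ n * E1 - (m : PowerSeries k) * Eu
  exact mul_left_cancel₀ (pow_ne_zero m hu.ne_zero) key

end deriv

include hn hpn hu1 hun in
theorem finrank_range {G : Type u} [Group G] [Finite G] (g : G) (hG : Nat.card G = p)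
    (hg : ∀ x : G, x ∈ Subgroup.zpowers g)
    (ρ₀ ρ₁ : Representation k G (PowerSeries k))
    (hρ₀ : ∀ h : PowerSeries k, ρ₀ g h = PowerSeries.subst (PowerSeries.X * u) h)
    (hρ₁ : ∀ h : PowerSeries k, ρ₁ g h = u ^ (n + 1) * PowerSeries.subst (PowerSeries.X * u) h)
    (φ : Rep.of ρ₀ ⟶ Rep.of ρ₁) (hφ : ∀ h : PowerSeries k, φ.hom h = PowerSeries.derivative k h) :
    Module.Finite k (LinearMap.range ((groupCohomology.functor k G 1).map φ).hom) ∧
      (Module.finrank k (LinearMap.range ((groupCohomology.functor k G 1).map φ).hom) : ℤ) =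
        ((n + 1) * (p - 1) : ℤ) / p - 1 - (n - 1 : ℤ) / p := by
  classical
  have hu : IsUnit u := isUnit_iff_constantCoeff.2 (by rw [hu1]; exact isUnit_one)
  have hp0 : 0 < p := (Fact.out : p.Prime).pos
  have horder : orderOf g = p := by rw [orderOf_eq_card_of_forall_mem_zpowers hg, hG]
  have hρ₀' : ∀ h : PowerSeries k, ρ₀ g h = U hu 0 * subst (X * u) h := by
    intro h; rw [hρ₀, U_zero, one_mul]
  have hρ₁' : ∀ h : PowerSeries k, ρ₁ g h = U hu ((n + 1 : ℕ) : ℤ) * subst (X * u) h := by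
    intro h; rw [hρ₁, U_natCast]
  -- E2 from equivariance
  have hE2 : X * derivative k u = u ^ (n + 1) - u := by
    have h1 := Rep.hom_comm_apply φ g (X : PowerSeries k)
    have h2 : (Rep.of ρ₀).ρ g X = X * u := by
      show ρ₀ g X = _
      rw [hρ₀, subst_X (hasSubst_Xu u)]
    have h3 : (Rep.of ρ₁).ρ g (φ.hom X) = u ^ (n + 1) := by
      show ρ₁ g (φ.hom X) = _
      rw [hρ₁, hφ, derivative_X, ← S_apply, map_one, mul_one]
    rw [h2, h3, hφ, Derivation.leibniz, derivative_X, smul_eq_mul, smul_eq_mul, mul_one] at h1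
    linear_combination h1
  obtain ⟨c0, hc0⟩ := exists_c p hu hn hpn hu1 hun 0
  obtain ⟨c1, hc1⟩ := exists_c p hu hn hpn hu1 hun ((n + 1 : ℕ) : ℤ)
  obtain ⟨b0, hb0⟩ := H1_basis p hu hn hpn hu1 hun g hG hg ρ₀ 0 hρ₀' c0 hc0
  -- derivative of c0
  have hder : ∀ m : ℕ, 1 ≤ m → m < n → derivative k (c0 m) = (-(m : k)) • c1 (m + 1) := by
    intro m hm1 hmn
    have h1 := deriv_c hu hE2 hmn.le (c0 m) (by rw [hc0 m hm1 hmn.le, zero_sub])
    have h2 := hc1 (m + 1) (by omega) (by omega)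
    have h3 : ((n + 1 : ℕ) : ℤ) - ((m + 1 : ℕ) : ℤ) = ((n - m : ℕ) : ℤ) := by
      rw [Nat.cast_sub hmn.le]; push_cast; ring
    rw [h3, U_natCast] at h2
    apply mul_left_cancel₀ (pow_ne_zero (m + 1) (X_ne_zero (R := k)))
    rw [h1, smul_eq_C_mul, map_neg, map_natCast]
    linear_combination (m : PowerSeries k) * h2
  have hdern : derivative k (c0 n) = 0 := by
    have h1 := deriv_c hu hE2 le_rfl (c0 n) (by rw [hc0 n hn le_rfl, zero_sub])
    rw [Nat.sub_self, pow_zero, sub_self, mul_zero] at h1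
    exact (mul_eq_zero.1 h1).resolve_left (pow_ne_zero _ X_ne_zero)
  obtain ⟨K, hK⟩ : ∃ K : Finset ℕ, K = (Icc 1 n).filter (fun m' : ℕ =>
      ¬ (p : ℤ) ∣ ((n + 1 : ℕ) : ℤ) - (m' : ℤ) ∧ ¬ (p : ℤ) ∣ (1 : ℤ) - (m' : ℤ)) := ⟨_, rfl⟩
  have hKmem : ∀ m' ∈ K, (1 ≤ m' ∧ m' ≤ n) ∧ ¬ (p : ℤ) ∣ ((n + 1 : ℕ) : ℤ) - (m' : ℤ) ∧
      ¬ (p : ℤ) ∣ (1 : ℤ) - (m' : ℤ) := by
    intro m' hm'
    rw [hK, Finset.mem_filter, Finset.mem_Icc] at hm'
    exact hm'
  have hK2 : ∀ m' ∈ K, 2 ≤ m' := by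
    intro m' hm'
    obtain ⟨⟨h1, _⟩, _, h3⟩ := hKmem m' hm'
    by_contra hlt
    have : m' = 1 := by omega
    subst this
    exact h3 (by simp)
  have hF0 : ∀ m' ∈ K, m' - 1 ∈ (Icc 1 n).filter (fun m : ℕ => ¬ (p : ℤ) ∣ (0 : ℤ) - (m : ℤ)) := by
    intro m' hm'
    obtain ⟨⟨h1, h2⟩, _, h3⟩ := hKmem m' hm'
    have h4 := hK2 m' hm'
    rw [Finset.mem_filter, Finset.mem_Icc]
    refine ⟨⟨by omega, by omega⟩, ?_⟩
    have : (0 : ℤ) - ((m' - 1 : ℕ) : ℤ) = 1 - (m' : ℤ) := by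
      rw [Nat.cast_sub h1]; push_cast; ring
    rw [this]; exact h3
  have hres := CycH1.range_finrank (A := Rep.of ρ₀) (B := Rep.of ρ₁) hg hp0 horder φ
    (fun i : {m // m ∈ (Icc 1 n).filter (fun m : ℕ => ¬ (p : ℤ) ∣ (0 : ℤ) - (m : ℤ))} => c0 i.1)
    b0 hb0 (fun j : {m' // m' ∈ K} => c1 j.1) ?_ ?_
    (fun j => ⟨j.1 - 1, hF0 j.1 j.2⟩) (fun j => -((j.1 - 1 : ℕ) : k)) ?_ ?_ ?_
  · obtain ⟨hfin, hrank⟩ := hres
    refine ⟨hfin, ?_⟩
    have hrank' : Module.finrank k (LinearMap.range ((groupCohomology.functor k G 1).map φ).hom) =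
        K.card := by
      rw [← Fintype.card_coe K]; exact hrank
    rw [hrank']
    -- counting
    have hcnt := card_filter_not_and_not (Icc 1 n)
      (fun m' : ℕ => (p : ℤ) ∣ ((n + 1 : ℕ) : ℤ) - (m' : ℤ))
      (fun m' : ℕ => (p : ℤ) ∣ (1 : ℤ) - (m' : ℤ)) (by
        intro x _ h1 h2
        have : (p : ℤ) ∣ (n : ℤ) := by
          have := dvd_sub h1 h2
          have e : ((n + 1 : ℕ) : ℤ) - (x : ℤ) - ((1 : ℤ) - (x : ℤ)) = n := by push_cast; ring
          rwa [e] at this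
        exact hpn (Int.natCast_dvd_natCast.1 this))
    rw [← hK, Nat.card_Icc, Nat.add_sub_cancel] at hcnt
    have hA := card_filter_dvd p hp0 ((n + 1 : ℕ) : ℤ) n
    have hB := card_filter_dvd p hp0 1 n
    have hid := count_identity p n hp0 hpn
    have e1 : (((n + 1 : ℕ) : ℤ) - 1) = n := by push_cast; ring
    have e2 : (((n + 1 : ℕ) : ℤ) - 1 - n) = 0 := by push_cast; ring
    rw [e2, e1, Int.zero_ediv, sub_zero] at hA
    rw [sub_self, Int.zero_ediv, zero_sub, zero_sub] at hB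
    have hcnt' : (K.card : ℤ) +
        ((((Icc 1 n).filter (fun m' : ℕ => (p : ℤ) ∣ ((n + 1 : ℕ) : ℤ) - (m' : ℤ))).card : ℕ) : ℤ) +
        ((((Icc 1 n).filter (fun m' : ℕ => (p : ℤ) ∣ (1 : ℤ) - (m' : ℤ))).card : ℕ) : ℤ) = n := by
      rw [← Nat.cast_add, ← Nat.cast_add, hcnt]
    rw [← hid]
    linarith
  · -- hd
    intro j
    obtain ⟨⟨h1, h2⟩, _, _⟩ := hKmem j.1 j.2
    rw [psum_eq p hu g ρ₁ _ hρ₁']
    exact norm_c p hu hn hpn hu1 hun _ j.1 (c1 j.1) (hc1 j.1 h1 h2)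
  · -- hind
    intro coef x hsum
    rw [rho_sub hu g ρ₁ _ hρ₁'] at hsum
    obtain ⟨coefE, hcoefE⟩ : ∃ coefE : ℕ → k, ∀ m, coefE m =
        if hm : m ∈ K then coef ⟨m, hm⟩ else 0 := ⟨_, fun m => rfl⟩
    have hKsub : K ⊆ (Icc 1 n).filter (fun m : ℕ => ¬ (p : ℤ) ∣ ((n + 1 : ℕ) : ℤ) - (m : ℤ)) := by
      intro m' hm'
      obtain ⟨⟨h1, h2⟩, h3, _⟩ := hKmem m' hm'
      rw [Finset.mem_filter, Finset.mem_Icc]
      exact ⟨⟨h1, h2⟩, h3⟩
    have hsum' : U hu ((n + 1 : ℕ) : ℤ) * subst (X * u) x - x =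
        ∑ m ∈ (Icc 1 n).filter (fun m : ℕ => ¬ (p : ℤ) ∣ ((n + 1 : ℕ) : ℤ) - (m : ℤ)),
          coefE m • c1 m := by
      rw [← Finset.sum_subset hKsub (fun m _ hm => by rw [hcoefE, dif_neg hm, zero_smul]),
        ← Finset.sum_coe_sort, ← S_apply, ← D_apply, ← hsum]
      refine Finset.sum_congr rfl fun i _ => ?_
      rw [hcoefE, dif_pos i.2]
    have := lin_indep p hn hpn u hu1 hun hu _ c1 hc1 coefE x hsum'
    intro j
    have h2 := this j.1 (hKsub j.2)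
    rw [hcoefE, dif_pos j.2] at h2
    exact h2
  · -- hs
    intro j
    obtain ⟨⟨h1, h2⟩, _, h3⟩ := hKmem j.1 j.2
    rw [neg_ne_zero]
    intro h0
    rw [CharP.cast_eq_zero_iff k p] at h0
    apply h3
    have : (1 : ℤ) - (j.1 : ℤ) = -((j.1 - 1 : ℕ) : ℤ) := by
      rw [Nat.cast_sub h1]; push_cast; ring
    rw [this, dvd_neg]
    exact Int.natCast_dvd_natCast.2 h0
  · -- he
    intro j
    obtain ⟨⟨h1, h2⟩, _, _⟩ := hKmem j.1 j.2
    have h4 := hK2 j.1 j.2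
    show φ.hom (c0 (j.1 - 1)) = _
    rw [hφ, hder (j.1 - 1) (by omega) (by omega)]
    have : j.1 - 1 + 1 = j.1 := by omega
    rw [this]
  · -- hne
    intro i hi
    have hi' := Finset.mem_filter.1 i.2
    have hi'' := Finset.mem_Icc.1 hi'.1
    show ∃ x, φ.hom (c0 i.1) = (Rep.of ρ₁).ρ g x - x
    by_cases hin : i.1 = n
    · refine ⟨0, ?_⟩
      rw [hφ, hin, hdern, map_zero, sub_zero]
    · have hlt : i.1 < n := by omega
      have hnotK : i.1 + 1 ∉ K := by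
        intro hmem
        apply hi
        refine ⟨⟨i.1 + 1, hmem⟩, ?_⟩
        apply Subtype.ext
        show i.1 + 1 - 1 = i.1
        omega
      have hdvd : (p : ℤ) ∣ ((n + 1 : ℕ) : ℤ) - ((i.1 + 1 : ℕ) : ℤ) := by
        by_contra hnd
        apply hnotK
        rw [hK, Finset.mem_filter, Finset.mem_Icc]
        refine ⟨⟨by omega, by omega⟩, hnd, ?_⟩
        have : (1 : ℤ) - ((i.1 + 1 : ℕ) : ℤ) = 0 - (i.1 : ℤ) := by push_cast; ring
        rw [this]; exact hi'.2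
      obtain ⟨x, hx⟩ := exists_h p hpn u hu1 hun hu _ (i.1 + 1) (by omega) hdvd (c1 (i.1 + 1))
        (hc1 (i.1 + 1) (by omega) (by omega))
      refine ⟨(-(i.1 : k)) • x, ?_⟩
      rw [hφ, hder i.1 hi''.1 hlt, rho_sub hu g ρ₁ _ hρ₁', map_smul, D_apply, S_apply]
      congr 1
      exact hx.symm

end Groth.Agent.Helper6.ASC
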