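import Mathlib

/-!
# Lang's lemma for `p`-linear maps

Let `k` be a separably closed field of characteristic `p`, `V` a finite dimensional `k`-vector
space and `φ : V → V` an additive map with `φ (c • v) = c ^ p • φ v`.  Then `φ - 1` is surjective.
-/

set_option autoImplicit false
set_option linter.style.haveILetI false
set_option linter.unusedSectionVars false
set_option linter.unusedVariables false
set_option linter.unusedSimpArgs false

namespace Groth.Agent.Helper6.LangA

open Polynomial

variable {k : Type*} [Field k] (p : ℕ) [hp : Fact p.Prime] [CharP k p]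

/-- the polynomials giving the coefficients of a solution -/
noncomputable def Cpoly (a : ℕ → k) : ℕ → k[X]
  | 0 => C (a 0) * X ^ p - 1
  | (i + 1) => (Cpoly a i) ^ p + C (a (i + 1)) * X ^ p

lemma Cpoly_zero (a : ℕ → k) : Cpoly p a 0 = C (a 0) * X ^ p - 1 := rfl

lemma Cpoly_succ (a : ℕ → k) (i : ℕ) :
    Cpoly p a (i + 1) = (Cpoly p a i) ^ p + C (a (i + 1)) * X ^ p := rfl

lemma derivative_Cpoly (a : ℕ → k) (i : ℕ) : derivative (Cpoly p a i) = 0 := by
  have h0 : C ((p : ℕ) : k) = 0 := by rw [CharP.cast_eq_zero k p, C_0]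
  cases i with
  | zero =>
    rw [Cpoly_zero, derivative_sub, derivative_one, sub_zero, derivative_C_mul,
      derivative_X_pow, h0, zero_mul, mul_zero]
  | succ i =>
    rw [Cpoly_succ, derivative_add, derivative_pow, derivative_C_mul, derivative_X_pow, h0,
      zero_mul, zero_mul, zero_mul, mul_zero, add_zero]

lemma exists_root [IsSepClosed k] (a : ℕ → k) (m : ℕ) :
    ∃ t : k, (Cpoly p a m).eval t = t := by
  have hd : derivative (Cpoly p a m - X) = -1 := by
    rw [derivative_sub, derivative_Cpoly, derivative_X, zero_sub]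
  have hsep : (Cpoly p a m - X).Separable := by
    rw [separable_def, hd]
    exact isCoprime_one_right.neg_right
  have hdeg : (Cpoly p a m - X).degree ≠ 0 := by
    intro h
    have h1 := eq_C_of_degree_eq_zero h
    rw [h1, derivative_C] at hd
    exact one_ne_zero (neg_eq_zero.1 hd.symm)
  obtain ⟨t, ht⟩ := IsSepClosed.exists_root _ hdeg hsep
  refine ⟨t, ?_⟩
  have h2 : (Cpoly p a m - X).eval t = 0 := ht
  rw [eval_sub, eval_X, sub_eq_zero] at h2
  exact h2

variable {V : Type*} [AddCommGroup V] [Module k V]

/-- a solution from a dependence relation among the iterates -/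
lemma exists_of_relation [IsSepClosed k] (φ : V →+ V)
    (hφ : ∀ (c : k) (v : V), φ (c • v) = c ^ p • φ v) (w : ℕ → V)
    (hw : ∀ i, w (i + 1) = φ (w i)) (m : ℕ) (a : ℕ → k)
    (hm : w m = ∑ i ∈ Finset.range m, a i • w i) : ∃ x : V, φ x - x = w 0 := by
  cases m with
  | zero =>
    refine ⟨0, ?_⟩
    rw [hm, Finset.range_zero, Finset.sum_empty, map_zero, sub_zero]
  | succ m' =>
    obtain ⟨t, ht⟩ := exists_root p a m'
    let c : ℕ → k := fun i => (Cpoly p a i).eval t
    have hc0 : c 0 = a 0 * t ^ p - 1 := by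
      show (Cpoly p a 0).eval t = _
      rw [Cpoly_zero, eval_sub, eval_mul, eval_C, eval_pow, eval_X, eval_one]
    have hcs : ∀ i, c (i + 1) = (c i) ^ p + a (i + 1) * t ^ p := by
      intro i
      show (Cpoly p a (i + 1)).eval t = _
      rw [Cpoly_succ, eval_add, eval_pow, eval_mul, eval_C, eval_pow, eval_X]
    have hcm : c m' = t := ht
    refine ⟨∑ i ∈ Finset.range (m' + 1), c i • w i, ?_⟩
    have hφx : φ (∑ i ∈ Finset.range (m' + 1), c i • w i) =
        ∑ i ∈ Finset.range (m' + 1), (c i) ^ p • w (i + 1) := by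
      rw [map_sum]
      refine Finset.sum_congr rfl (fun i _ => ?_)
      rw [hφ, hw]
    rw [hφx, Finset.sum_range_succ, hcm, hm, Finset.sum_range_succ' (fun i => a i • w i),
      Finset.sum_range_succ' (fun i => c i • w i), hc0]
    have key : ∑ i ∈ Finset.range m', (c i) ^ p • w (i + 1) +
        t ^ p • ∑ i ∈ Finset.range m', a (i + 1) • w (i + 1) -
        ∑ i ∈ Finset.range m', c (i + 1) • w (i + 1) = 0 := by
      rw [Finset.smul_sum, ← Finset.sum_add_distrib, ← Finset.sum_sub_distrib]
      refine Finset.sum_eq_zero (fun i _ => ?_)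
      rw [hcs i, smul_smul, ← add_smul, ← sub_smul]
      have : c i ^ p + t ^ p * a (i + 1) - (c i ^ p + a (i + 1) * t ^ p) = 0 := by ring
      rw [this, zero_smul]
    have fin : ∀ (A B D : V), A + t ^ p • D - B = 0 →
        A + t ^ p • (D + a 0 • w 0) - (B + (a 0 * t ^ p - 1) • w 0) = w 0 := by
      intro A B D h
      have h' : A + t ^ p • (D + a 0 • w 0) - (B + (a 0 * t ^ p - 1) • w 0) =
          (A + t ^ p • D - B) + w 0 := by
        rw [smul_add, smul_smul, sub_smul, one_smul, mul_comm (t ^ p) (a 0)]
        abel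
      rw [h', h, zero_add]
    exact fin _ _ _ key

/-- **Lang's lemma**: `φ - 1` is surjective for a `p`-linear endomorphism of a finite dimensional
vector space over a separably closed field of characteristic `p` -/
theorem lang [IsSepClosed k] [Module.Finite k V] (φ : V →+ V)
    (hφ : ∀ (c : k) (v : V), φ (c • v) = c ^ p • φ v) (v : V) : ∃ x : V, φ x - x = v := by
  let w : ℕ → V := fun i => φ^[i] v
  have hw : ∀ i, w (i + 1) = φ (w i) := fun i => Function.iterate_succ_apply' φ i v
  let W : ℕ →o Submodule k V :=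
    { toFun := fun m => Submodule.span k (Set.range (fun i : Fin m => w i))
      monotone' := by
        intro m m' h
        apply Submodule.span_mono
        rintro _ ⟨i, rfl⟩
        exact ⟨Fin.castLE h i, rfl⟩ }
  haveI : IsNoetherian k V := isNoetherian_of_isNoetherianRing_of_finite k V
  obtain ⟨n, hn⟩ := monotone_stabilizes_iff_noetherian.2 (inferInstance : IsNoetherian k V) W
  have h1 : w n ∈ W (n + 1) := Submodule.subset_span ⟨Fin.last n, rfl⟩
  rw [← hn (n + 1) (Nat.le_succ n)] at h1
  obtain ⟨c, hc⟩ := (Submodule.mem_span_range_iff_exists_fun k).1 h1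
  let a : ℕ → k := fun i => if h : i < n then c ⟨i, h⟩ else 0
  have ha : w n = ∑ i ∈ Finset.range n, a i • w i := by
    rw [← hc, Finset.sum_range]
    refine Finset.sum_congr rfl (fun i _ => ?_)
    show c i • w i = (if h : (i : ℕ) < n then c ⟨i, h⟩ else 0) • w i
    rw [dif_pos i.2]
  exact exists_of_relation p φ hφ w hw n a ha

end Groth.Agent.Helper6.LangA
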