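import Mathlib
import Groth.Prelude.Def_EtCech
import Groth.Agent.Helper4.CechGenD
import Groth.Agent.Helper1.CechInjA

/-!
# Cartan's criterion at a terminal object, universe-general

Let `(C, J)` be a site (any universes), `B` a class of objects containing a terminal object `T`,
`Cov` a class of covering families over members of `B`, stable under finite fibre products,
such that every section of the quotient of a short exact sequence of sheaves over a member of
`B` lifts along some family of `Cov`.  An abelian sheaf which is Čech-acyclic for all families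
of `Cov` has vanishing cohomology `H^p(F)`, `p > 0`.
-/

set_option autoImplicit false
set_option linter.style.haveILetI false
set_option linter.unusedSectionVars false
set_option linter.unusedVariables false
set_option linter.unusedSimpArgs false

universe w' w v u

open CategoryTheory CategoryTheory.Limits Opposite CategoryTheory.Abelian

namespace Groth.Agent.Helper6.CartanGenA

open Groth.Agent.Helper1.Cech Groth.Agent.Helper4.CechGenA Groth.Agent.Helper4.CechGenB
  Groth.Agent.Helper4.CechGenC

variable {C : Type u} [Category.{v} C] {J : GrothendieckTopology C}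
  [HasSheafify J AddCommGrpCat.{w}] [J.HasSheafCompose (forget AddCommGrpCat.{w})]
  [∀ V : C, HasFiniteProducts (Over V)]
  (B : Set C) (Cov : ∀ (V : C) (ι : Type w), (ι → Over V) → Prop)
  (h1 : ∀ (V : C) (ι : Type w) (Y : ι → Over V), Cov V ι Y → V ∈ B ∧
      Sieve.ofArrows (fun i => (Y i).left) (fun i => (Y i).hom) ∈ J V ∧
      ∀ (p : ℕ) (a : Fin (p + 1) → ι), (∏ᶜ fun k => Y (a k)).left ∈ B)
  (h2 : ∀ V ∈ B, ∀ (S : ShortComplex (Sheaf J AddCommGrpCat.{w})), S.ShortExact →
      ∀ s : S.X₃.obj.obj (op V), ∃ (ι : Type w) (Y : ι → Over V), Cov V ι Y ∧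
        ∀ i, (Presheaf.imageSieve S.g.hom s).arrows (Y i).hom)

include h1 h2 in
/-- sections of `F → F''` are surjective over members of `B` when `F'` is Čech-acyclic -/
theorem surj_of_acyc (S : ShortComplex (Sheaf J AddCommGrpCat.{w})) (hS : S.ShortExact)
    (hF : CechAcyc Cov S.X₁) (V : C) (hV : V ∈ B) :
    Function.Surjective (S.g.hom.app (op V)) := by
  intro s
  obtain ⟨ι, Y, hY, hYT⟩ := h2 V hV S hS s
  choose t ht using hYT
  exact main Y S hS (h1 V ι Y hY).2.1 (hF V ι Y hY 0) s t ht

include h1 h2 in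
/-- the quotient of Čech-acyclic sheaves is Čech-acyclic -/
theorem acyc_X₃ (S : ShortComplex (Sheaf J AddCommGrpCat.{w})) (hS : S.ShortExact)
    (hF₁ : CechAcyc Cov S.X₁) (hF₂ : CechAcyc Cov S.X₂) : CechAcyc Cov S.X₃ := by
  intro V ι Y hY p
  let G : Sheaf J AddCommGrpCat.{w} ⥤ ((Over V)ᵒᵖ ⥤ AddCommGrpCat.{w}) :=
    sheafToPresheaf J AddCommGrpCat.{w} ⋙ Groth.Agent.Helper1.CechDelta.W
  have hsw : SectionwiseExact Y (S.map G) := by
    intro n x
    apply shortExact_ab
    · exact (sections_exact S hS _).1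
    · exact (sections_exact S hS _).2
    · exact surj_of_acyc B Cov h1 h2 S hS hF₁ _ ((h1 V ι Y hY).2.2 n x)
  have hSE := shortExact_map_cech hsw
  have hex := hSE.homology_exact₃ (p + 1) (p + 2) rfl
  have hz2 : IsZero (EtCech.cechH Y S.X₂.obj (p + 1)) := hF₂ V ι Y hY p
  have hz1 : IsZero (EtCech.cechH Y S.X₁.obj (p + 1 + 1)) := hF₁ V ι Y hY (p + 1)
  exact hex.isZero_of_both_zeros (hz2.eq_of_src _ _) (hz1.eq_of_tgt _ _)

/-- injective sheaves are Čech-acyclic for every family -/
theorem acyc_of_injective [LocallySmall.{w} C] (I : Sheaf J AddCommGrpCat.{w}) [Injective I] :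
    CechAcyc Cov I := by
  intro V ι Y hY p
  haveI : Injective ((sheafToPresheaf J AddCommGrpCat.{w}).obj I) :=
    Injective.injective_of_adjoint (sheafificationAdjunction J AddCommGrpCat.{w}) _
  haveI : Injective I.obj := this
  apply Groth.Agent.Helper1.Cech.isZero_homology_of_exists
  intro c hc
  exact Groth.Agent.Helper1.CechInj.exists_of_cocycle_over Y _ p c hc

section Main

variable [HasExt.{w'} (Sheaf J AddCommGrpCat.{w})] [EnoughInjectives (Sheaf J AddCommGrpCat.{w})]
  [LocallySmall.{w} C]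

/-- the short exact sequence `0 → F → I → I/F → 0` -/
noncomputable def Ssh (F : Sheaf J AddCommGrpCat.{w}) :
    ShortComplex (Sheaf J AddCommGrpCat.{w}) :=
  ShortComplex.mk (Injective.ι F) (cokernel.π (Injective.ι F)) (cokernel.condition _)

lemma hSsh (F : Sheaf J AddCommGrpCat.{w}) : (Ssh F).ShortExact :=
  { exact := ShortComplex.exact_cokernel _
    mono_f := by dsimp [Ssh]; infer_instance
    epi_g := by dsimp [Ssh]; infer_instance }

include h1 h2 in
/-- **Cartan's criterion** at a terminal object. -/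
theorem main {T : C} (hT : IsTerminal T) (hTB : T ∈ B) :
    ∀ (p : ℕ) (F : Sheaf J AddCommGrpCat.{w}), CechAcyc Cov F →
      Subsingleton (Sheaf.H.{w'} F (p + 1))
  | 0, F, hF => by
    refine subsingleton_of_forall_eq 0 ?_
    intro x
    haveI : Injective (Ssh F).X₂ := by dsimp [Ssh]; infer_instance
    have hx : x.comp (Ext.mk₀ (Ssh F).f) (add_zero 1) = 0 := Ext.eq_zero_of_injective _
    obtain ⟨y, hy⟩ := Ext.covariant_sequence_exact₁ _ (hSsh F) x hx (zero_add 1)
    obtain ⟨q, rfl⟩ := (Sheaf.H.equiv₀ (Ssh F).X₃ hT).symm.surjective y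
    obtain ⟨i, rfl⟩ := surj_of_acyc B Cov h1 h2 (Ssh F) (hSsh F) hF T hTB q
    have hn := Sheaf.H.equiv₀_symm_naturality hT (Ssh F).g i
    rw [← hy, ← hn, Sheaf.H.map_apply,
      Ext.comp_assoc _ _ _ (add_zero 0) (zero_add 1) (by omega), (hSsh F).comp_extClass,
      Ext.comp_zero]
    rfl
  | p + 1, F, hF => by
    haveI : Injective (Ssh F).X₂ := by dsimp [Ssh]; infer_instance
    haveI := main hT hTB p (Ssh F).X₃
      (acyc_X₃ B Cov h1 h2 (Ssh F) (hSsh F) hF (acyc_of_injective Cov (Ssh F).X₂))
    refine subsingleton_of_forall_eq 0 ?_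
    intro x
    have hx : x.comp (Ext.mk₀ (Ssh F).f) (add_zero (p + 1 + 1)) = 0 := Ext.eq_zero_of_injective _
    obtain ⟨y, hy⟩ := Ext.covariant_sequence_exact₁ _ (hSsh F) x hx rfl
    have hy0 : y = 0 := Subsingleton.elim (α := Sheaf.H.{w'} (Ssh F).X₃ (p + 1)) _ _
    rw [← hy, hy0, Ext.zero_comp]
    rfl

end Main

end Groth.Agent.Helper6.CartanGenA
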