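import Mathlib
import Groth.Agent.Helper6.CartanGenA
import Groth.Agent.Helper8.CechED

/-!
# Cartan's criterion for one-member coverings, and transport of Čech exactness along a functor

* `transport`: exactness in components of the Čech complex of a single object is transported
  along a functor preserving finite products.
* `main1`: Cartan's criterion at a terminal object for a class of one-member coverings.
-/

set_option autoImplicit false
set_option linter.style.haveILetI false
set_option linter.unusedSectionVars false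
set_option linter.unusedVariables false
set_option linter.unusedSimpArgs false

universe w' w v v' u u'

open CategoryTheory CategoryTheory.Limits Opposite CategoryTheory.Abelian

namespace Groth.Agent.Helper6.CartanGenB

open Groth.Agent.Helper8.CechED

section Transport

variable {D : Type u} [Category.{v} D] [HasFiniteProducts D]
  {D' : Type u'} [Category.{v'} D'] [HasFiniteProducts D']
  (Φ : D ⥤ D') [PreservesFiniteProducts Φ]
  {X : D} {X' : D'} (e : Φ.obj X ≅ X')

/-- the image of a power is the power of the image -/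
noncomputable def theta (n : ℕ) : Φ.obj (T X n) ≅ T X' n :=
  PreservesProduct.iso Φ (fun _ : Fin (n + 1) => X) ≪≫ Pi.mapIso (fun _ => e)

@[reassoc]
lemma theta_hom_π (n : ℕ) (k : Fin (n + 1)) :
    (theta Φ e n).hom ≫ Pi.π (fun _ : Fin (n + 1) => X') k =
      Φ.map (Pi.π (fun _ : Fin (n + 1) => X) k) ≫ e.hom := by
  simp [theta]

lemma theta_fc (n : ℕ) (j : Fin (n + 2)) :
    Φ.map (fc X n j) ≫ (theta Φ e n).hom = (theta Φ e (n + 1)).hom ≫ fc X' n j := by
  apply Pi.hom_ext
  intro k
  rw [Category.assoc, Category.assoc, theta_hom_π, fc_π, theta_hom_π, ← Φ.map_comp_assoc, fc_π]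

lemma theta_inv_fc (n : ℕ) (j : Fin (n + 2)) :
    (theta Φ e (n + 1)).inv ≫ Φ.map (fc X n j) = fc X' n j ≫ (theta Φ e n).inv := by
  rw [Iso.inv_comp_eq, ← Category.assoc, Iso.eq_comp_inv, theta_fc]

variable {P : Dᵒᵖ ⥤ AddCommGrpCat.{w}} {P' : D'ᵒᵖ ⥤ AddCommGrpCat.{w}} (η : P ≅ Φ.op ⋙ P')

/-- the comparison of the terms of the two Čech complexes -/
noncomputable def psi (n : ℕ) : P.obj (op (T X n)) →+ P'.obj (op (T X' n)) :=
  (P'.map (theta Φ e n).inv.op).hom.comp (η.hom.app (op (T X n))).hom

lemma psi_apply (n : ℕ) (y : P.obj (op (T X n))) :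
    psi Φ e η n y = P'.map (theta Φ e n).inv.op (η.hom.app (op (T X n)) y) := rfl

lemma psi_bijective (n : ℕ) : Function.Bijective (psi Φ e η n) := by
  have h1 : Function.Bijective (η.hom.app (op (T X n))) :=
    ConcreteCategory.bijective_of_isIso _
  have h2 : Function.Bijective (P'.map (theta Φ e n).inv.op) :=
    ConcreteCategory.bijective_of_isIso _
  exact h2.comp h1

lemma psi_map (n : ℕ) (j : Fin (n + 2)) (y : P.obj (op (T X n))) :
    psi Φ e η (n + 1) (P.map (fc X n j).op y) = P'.map (fc X' n j).op (psi Φ e η n y) := by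
  rw [psi_apply, psi_apply]
  have h1 := NatTrans.naturality_apply η.hom (fc X n j).op y
  rw [h1]
  change P'.map (theta Φ e (n + 1)).inv.op (P'.map (Φ.map (fc X n j)).op
    (η.hom.app (op (T X n)) y)) = _
  rw [map_map_apply, map_map_apply, theta_inv_fc]

lemma psi_dC (n : ℕ) (y : P.obj (op (T X n))) :
    psi Φ e η (n + 1) (dC P n y) = dC P' n (psi Φ e η n y) := by
  rw [dC_apply, dC_apply, map_sum]
  refine Finset.sum_congr rfl (fun j _ => ?_)
  rw [map_zsmul, psi_map]

include Φ e η in
/-- transport of exactness in components of the Čech complex of a single object along a functor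
preserving finite products -/
theorem transport (n : ℕ)
    (h : ∀ c₀ : P'.obj (op (T X' (n + 1))), dC P' (n + 1) c₀ = 0 → ∃ b₀, dC P' n b₀ = c₀) :
    ∀ c₀ : P.obj (op (T X (n + 1))), dC P (n + 1) c₀ = 0 → ∃ b₀, dC P n b₀ = c₀ := by
  intro c hc
  have h1 : dC P' (n + 1) (psi Φ e η (n + 1) c) = 0 := by
    rw [← psi_dC, hc, map_zero]
  obtain ⟨b', hb'⟩ := h _ h1
  obtain ⟨b, rfl⟩ := (psi_bijective Φ e η n).2 b'
  refine ⟨b, (psi_bijective Φ e η (n + 1)).1 ?_⟩
  rw [psi_dC, hb']

end Transport

section Cartan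

variable {C : Type u} [Category.{v} C] [∀ V : C, HasFiniteProducts (Over V)]

/-- the class of one-member families with a good member -/
inductive Cov1 (Good : ∀ V : C, Over V → Prop) : ∀ (V : C) (ι : Type w), (ι → Over V) → Prop
  | mk (V : C) (X : Over V) (h : Good V X) : Cov1 Good V PUnit.{w + 1} (fun _ => X)

variable {J : GrothendieckTopology C}
  [HasSheafify J AddCommGrpCat.{w}] [J.HasSheafCompose (forget AddCommGrpCat.{w})]
  [HasExt.{w'} (Sheaf J AddCommGrpCat.{w})] [EnoughInjectives (Sheaf J AddCommGrpCat.{w})]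
  [LocallySmall.{w} C]

/-- **Cartan's criterion** at a terminal object for a class of one-member coverings. -/
theorem main1 (B : Set C) (Good : ∀ V : C, Over V → Prop)
    (hBiso : ∀ {A A' : C}, (A ≅ A') → A ∈ B → A' ∈ B)
    (hBprod : ∀ V ∈ B, ∀ A A' : Over V, A.left ∈ B → A'.left ∈ B → (A ⨯ A').left ∈ B)
    (g1 : ∀ (V : C) (X : Over V), Good V X → V ∈ B ∧ X.left ∈ B ∧
      Sieve.ofArrows (fun _ : PUnit.{w + 1} => X.left) (fun _ => X.hom) ∈ J V)
    (g2 : ∀ V ∈ B, ∀ (S : ShortComplex (Sheaf J AddCommGrpCat.{w})), S.ShortExact →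
      ∀ s : S.X₃.obj.obj (op V), ∃ X : Over V, Good V X ∧
        (Presheaf.imageSieve S.g.hom s).arrows X.hom)
    {T₀ : C} (hT : IsTerminal T₀) (hTB : T₀ ∈ B) (F : Sheaf J AddCommGrpCat.{w})
    (g3 : ∀ (V : C) (X : Over V), Good V X → ∀ (n : ℕ)
      (c₀ : ((Over.forget V).op ⋙ F.obj).obj (op (T X (n + 1)))),
      dC ((Over.forget V).op ⋙ F.obj) (n + 1) c₀ = 0 →
        ∃ b₀, dC ((Over.forget V).op ⋙ F.obj) n b₀ = c₀)
    (p : ℕ) : Subsingleton (Sheaf.H.{w'} F (p + 1)) := by
  refine CartanGenA.main B (Cov1.{w} Good) ?_ ?_ hT hTB p F ?_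
  · intro V ι Y hY
    cases hY with
    | mk X h =>
      obtain ⟨hV, hX, hcov⟩ := g1 V X h
      refine ⟨hV, hcov, fun p a => ?_⟩
      exact prop_T X (fun A => A.left ∈ B)
        (fun i hA => hBiso ((Over.forget V).mapIso i) hA) hX
        (fun A hA => hBprod V hV X A hX hA) p
  · intro V hV S hS s
    obtain ⟨X, hX, hs⟩ := g2 V hV S hS s
    exact ⟨PUnit.{w + 1}, fun _ => X, Cov1.mk V X hX, fun _ => hs⟩
  · intro V ι Y hY p
    cases hY with
    | mk X h =>
      have := exactAt_of_comp (X := X) ((Over.forget V).op ⋙ F.obj) p (g3 V X h p)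
      rw [HomologicalComplex.exactAt_iff_isZero_homology] at this
      exact this

end Cartan

end Groth.Agent.Helper6.CartanGenB
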