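import Mathlib
import Groth.Prelude.Def_EtBase
import Groth.Agent.Helper4.EtGeom

/-!
# Geometry of the small étale site used in Cartan's criterion

Finite coproducts in the small étale site, gluing of sections of sheaves along them, and lifting
of sections of a quotient sheaf over an affine object along a single affine étale covering.
-/

set_option autoImplicit false
set_option linter.style.haveILetI false
set_option linter.unusedSectionVars false
set_option linter.unusedVariables false
set_option linter.unusedSimpArgs false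

universe u

open CategoryTheory CategoryTheory.Limits Opposite AlgebraicGeometry

namespace Groth.Agent.Helper6.CartanGenE

open Groth.Agent.Helper4.EtGeom

variable {S : Scheme.{u}}

/-- sections of an étale sheaf of sets over an empty object form a subsingleton -/
theorem subsingleton_of_isEmpty (F : Sheaf S.smallEtaleTopology (Type (u + 1))) (Z : S.Etale)
    [IsEmpty Z.left] : Subsingleton (F.obj.obj (op Z)) := by
  have hbot : (⊥ : Sieve Z) ∈ S.smallEtaleTopology Z :=
    (mem_iff Z ⊥).2 (fun x => isEmptyElim x)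
  have hsh : Presieve.IsSheaf S.smallEtaleTopology F.obj :=
    (isSheaf_iff_isSheaf_of_type _ _).1 F.property
  refine ⟨fun a b => ?_⟩
  exact (hsh _ hbot).isSeparatedFor.ext fun Y f hf => hf.elim

section Sigma

variable {ι : Type u} (W : ι → S.Etale)

instance etale_sigmaDesc : Etale (Sigma.desc (fun j => ((W j).hom : (W j).left ⟶ S))) :=
  IsZariskiLocalAtSource.sigmaDesc (fun j => inferInstance)

/-- the coproduct of a family of étale `S`-schemes -/
noncomputable def sigmaEt : S.Etale :=
  Scheme.Etale.mk (Sigma.desc (fun j => ((W j).hom : (W j).left ⟶ S)))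

/-- the coproduct inclusions -/
noncomputable def sigmaιEt (j : ι) : W j ⟶ sigmaEt W :=
  MorphismProperty.Over.homMk (Sigma.ι (fun j => (W j).left) j)
    (Sigma.ι_desc (fun j => ((W j).hom : (W j).left ⟶ S)) j) trivial

lemma sigmaιEt_left (j : ι) : (sigmaιEt W j).left = Sigma.ι (fun j => (W j).left) j := rfl

theorem sigma_mem : Sieve.ofArrows W (sigmaιEt W) ∈ S.smallEtaleTopology (sigmaEt W) := by
  refine ofArrows_mem W (sigmaιEt W) (fun x => ?_)
  obtain ⟨y, hy⟩ := (sigmaOpenCover (fun j => (W j).left)).covers x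
  exact ⟨_, y, hy⟩

/-- gluing sections of a sheaf along a coproduct decomposition -/
theorem existsUnique_section (F : Sheaf S.smallEtaleTopology (Type (u + 1)))
    (x : ∀ j, F.obj.obj (op (W j))) :
    ∃! t : F.obj.obj (op (sigmaEt W)), ∀ j, F.obj.map (sigmaιEt W j).op t = x j := by
  have hsh : Presieve.IsSheaf S.smallEtaleTopology F.obj :=
    (isSheaf_iff_isSheaf_of_type _ _).1 F.property
  have h1 := hsh _ (sigma_mem W)
  have h2 : (Presieve.ofArrows W (sigmaιEt W)).IsSheafFor F.obj :=
    (Presieve.isSheafFor_iff_generate _).2 h1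
  rw [Presieve.isSheafFor_arrows_iff] at h2
  refine h2 x ?_
  intro i j Z gi gj hcomm
  by_cases hij : i = j
  · subst hij
    have h4 : gi.left ≫ Sigma.ι (fun j => (W j).left) i =
        gj.left ≫ Sigma.ι (fun j => (W j).left) i :=
      congrArg (fun t => t.left) hcomm
    have h3 : gi.left = gj.left := (cancel_mono _).1 h4
    have h5 : gi = gj := MorphismProperty.Over.Hom.ext h3
    rw [h5]
  · have h4 : gi.left ≫ Sigma.ι (fun j => (W j).left) i =
        gj.left ≫ Sigma.ι (fun j => (W j).left) j :=
      congrArg (fun t => t.left) hcomm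
    have : IsEmpty Z.left := isEmpty_of_commSq_sigmaι_of_ne ⟨h4⟩ hij
    exact (subsingleton_of_isEmpty F Z).elim _ _

variable (V : S.Etale) (c : ∀ j, W j ⟶ V)

/-- the morphism from the coproduct -/
noncomputable def sigmaDescEt : sigmaEt W ⟶ V :=
  MorphismProperty.Over.homMk (Sigma.desc (fun j => (c j).left)) (by
    apply Sigma.hom_ext
    intro j
    have h1 : Sigma.ι (fun j => (W j).left) j ≫ Sigma.desc (fun j => (c j).left) = (c j).left :=
      Sigma.ι_desc _ j
    have h2 : Sigma.ι (fun j => (W j).left) j ≫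
        Sigma.desc (fun j => ((W j).hom : (W j).left ⟶ S)) = (W j).hom := Sigma.ι_desc _ j
    have h3 : (c j).left ≫ (V.hom : V.left ⟶ S) = (W j).hom := MorphismProperty.Over.w (c j)
    exact (Category.assoc _ _ _).symm.trans
      ((congrArg (fun m => m ≫ (V.hom : V.left ⟶ S)) h1).trans (h3.trans h2.symm))) trivial

lemma sigmaDescEt_left : (sigmaDescEt W V c).left = Sigma.desc (fun j => (c j).left) := rfl

lemma sigmaιEt_sigmaDescEt (j : ι) : sigmaιEt W j ≫ sigmaDescEt W V c = c j := by
  apply MorphismProperty.Over.Hom.ext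
  exact Sigma.ι_desc _ j

end Sigma

/-- the sheaf of sets underlying an abelian sheaf -/
noncomputable abbrev und (F : Sheaf S.smallEtaleTopology AddCommGrpCat.{u + 1}) :
    Sheaf S.smallEtaleTopology (Type (u + 1)) :=
  (sheafCompose S.smallEtaleTopology (forget AddCommGrpCat.{u + 1})).obj F

/-- sections of the quotient in a short exact sequence of abelian sheaves over an affine object
of the small étale site lift along a single affine surjective covering -/
theorem exists_single_cover (V : S.Etale) [IsAffine V.left]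
    (Sx : ShortComplex (Sheaf S.smallEtaleTopology AddCommGrpCat.{u + 1})) (hS : Sx.ShortExact)
    (s : Sx.X₃.obj.obj (op V)) :
    ∃ X : Over V, IsAffine X.left.left ∧ Surjective X.hom.left ∧
      (Presheaf.imageSieve Sx.g.hom s).arrows X.hom := by
  haveI : Epi Sx.g := hS.epi_g
  haveI : Sheaf.IsLocallySurjective Sx.g :=
    (Sheaf.isLocallySurjective_iff_epi' (φ := Sx.g)).2 inferInstance
  obtain ⟨W₀, g₀, hgT, hWa, hcov⟩ := exists_affine_refinement V
    (Presheaf.imageSieve Sx.g.hom s) (Presheaf.imageSieve_mem S.smallEtaleTopology Sx.g.hom s)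
  obtain ⟨n, σ, hσ⟩ := exists_finite_subfamily W₀ g₀ (fun x => ⟨x, hcov x⟩)
  let W : ULift.{u} (Fin n) → S.Etale := fun j => W₀ (σ j.down)
  let c : ∀ j, W j ⟶ V := fun j => g₀ (σ j.down)
  have hcT : ∀ j, ∃ t : Sx.X₂.obj.obj (op (W j)),
      Sx.g.hom.app (op (W j)) t = Sx.X₃.obj.map (c j).op s := fun j => hgT (σ j.down)
  choose t ht using hcT
  obtain ⟨τ, hτ, -⟩ := existsUnique_section W (und Sx.X₂) t
  refine ⟨Over.mk (sigmaDescEt W V c), ?_, ?_, ?_⟩
  · haveI : ∀ j, IsAffine (W j).left := fun j => hWa _
    show IsAffine (∐ fun j => (W j).left)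
    infer_instance
  · show Surjective (Sigma.desc (fun j => (c j).left))
    refine ⟨fun x => ?_⟩
    obtain ⟨j, w, hw⟩ := hσ x
    refine ⟨Sigma.ι (fun j => (W j).left) ⟨j⟩ w, ?_⟩
    rw [← Scheme.Hom.comp_apply, Sigma.ι_desc]
    exact hw
  · refine ⟨τ, ?_⟩
    show Sx.g.hom.app (op (sigmaEt W)) τ = Sx.X₃.obj.map (sigmaDescEt W V c).op s
    have hu := existsUnique_section W (und Sx.X₃) (fun j => Sx.X₃.obj.map (c j).op s)
    refine hu.unique (fun j => ?_) (fun j => ?_)
    · show Sx.X₃.obj.map (sigmaιEt W j).op (Sx.g.hom.app (op (sigmaEt W)) τ) = _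
      rw [← NatTrans.naturality_apply]
      have h1 : Sx.X₂.obj.map (sigmaιEt W j).op τ = t j := hτ j
      rw [h1]
      exact ht j
    · show Sx.X₃.obj.map (sigmaιEt W j).op (Sx.X₃.obj.map (sigmaDescEt W V c).op s) = _
      rw [← ConcreteCategory.comp_apply, ← Sx.X₃.obj.map_comp, ← op_comp, sigmaιEt_sigmaDescEt]

end Groth.Agent.Helper6.CartanGenE
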