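import Mathlib
import Groth.Prelude.Def_EtGm
import Groth.Agent.Helper6.CartanGenB
import Groth.Agent.Helper6.CartanGenE
import Groth.Agent.Helper8.CechFF

/-!
# Vanishing of the higher étale cohomology of `G_a` on an affine scheme
-/

set_option autoImplicit false
set_option linter.style.haveILetI false
set_option linter.unusedSectionVars false
set_option linter.unusedVariables false
set_option linter.unusedSimpArgs false

universe u

open CategoryTheory CategoryTheory.Limits Opposite AlgebraicGeometry TensorProduct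

namespace Groth.Agent.Helper6.CartanGenF

open Groth.Agent.Helper8.CechED Groth.Agent.Helper8.CechFF
open Groth.Agent.Helper6.CartanGenB Groth.Agent.Helper4.EtGeom

section Ring

variable (R : CommRingCat.{u})

/-- `R` as a module one universe up -/
noncomputable abbrev NU : ModuleCat.{u + 1} R := ModuleCat.of R (ULift.{u + 1} R)

/-- global functions, as a presheaf of abelian groups on schemes over `Spec R` -/
noncomputable abbrev QG : (Over (Spec R))ᵒᵖ ⥤ AddCommGrpCat.{u + 1} :=
  (Over.forget (Spec R)).op ⋙ EtCoh.ΓAdd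

variable {R}

/-- `A ⊗ R ≃ A`, one universe up -/
noncomputable def eU (W : Over (Spec R)) : Gam0 W ⊗[R] ULift.{u + 1} R ≃ₗ[R] ULift.{u + 1} (Gam0 W) :=
  (TensorProduct.congr (LinearEquiv.refl R (Gam0 W)) ULift.moduleEquiv).trans
    ((TensorProduct.rid R (Gam0 W)).trans ULift.moduleEquiv.symm)

lemma eU_tmul (W : Over (Spec R)) (a : Gam0 W) (x : ULift.{u + 1} R) :
    eU W (a ⊗ₜ x) = ULift.up (x.down • a) := by
  simp [eU]
  rfl

lemma eU_natural {W W' : Over (Spec R)} (g : W' ⟶ W) (z : Gam0 W ⊗[R] ULift.{u + 1} R) :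
    eU W' ((pbA g).toLinearMap.rTensor (ULift.{u + 1} R) z) =
      ULift.up (pbA g (eU W z).down) := by
  induction z using TensorProduct.induction_on with
  | zero =>
    apply ULift.ext
    simp
  | tmul a x =>
    rw [LinearMap.rTensor_tmul, eU_tmul, eU_tmul]
    simp
  | add z z' h h' =>
    rw [map_add, map_add, h, h', map_add]
    apply ULift.ext
    simp

/-- the comparison `Γ(-) ⊗ R → Γ(-)` -/
noncomputable def ThetaN : GN (NU R) ⟶ QG R where
  app W := AddCommGrpCat.ofHom (eU W.unop).toLinearMap.toAddMonoidHom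
  naturality W W' g := by
    ext z
    exact eU_natural g.unop z

lemma ThetaN_bijective (W : (Over (Spec R))ᵒᵖ) : Function.Bijective ((ThetaN (R := R)).app W) :=
  (eU W.unop).bijective

end Ring

variable {S : Scheme.{u}} (V : S.Etale)

/-- the ring of functions of `V` -/
noncomputable abbrev Rg : CommRingCat.{u} := Γ(V.left, ⊤)

/-- the comparison functor `Over V ⥤ Over (Spec Γ(V))` -/
noncomputable abbrev PhiE [IsAffine V.left] : Over V ⥤ Over (Spec (Rg V)) :=
  Over.post (Scheme.Etale.forget S) ⋙
    (Over.iteratedSliceEquiv ((Scheme.Etale.forget S).obj V)).functor ⋙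
      Over.map V.left.isoSpec.hom

/-- the two functors to schemes agree -/
noncomputable def zeta [IsAffine V.left] :
    PhiE V ⋙ Over.forget (Spec (Rg V)) ≅
      Over.forget V ⋙ Scheme.Etale.forget S ⋙ Over.forget S :=
  NatIso.ofComponents (fun W => Iso.refl _) (by
    intro W W' f
    exact (Category.comp_id _).trans (Category.id_comp _).symm)

/-- the comparison of presheaves -/
noncomputable def eta [IsAffine V.left] :
    (Over.forget V).op ⋙ (EtCoh.Ga S).obj ≅ (PhiE V).op ⋙ QG (Rg V) :=
  Functor.isoWhiskerRight (NatIso.op (zeta V)) EtCoh.ΓAdd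

variable (X : Over V)

/-- the algebra of functions of a member of a covering -/
@[instance_reducible]
noncomputable def algX : Algebra (Rg V) Γ(X.left.left, ⊤) := X.hom.left.appTop.hom.toAlgebra

/-- the image of the covering in schemes over `Spec Γ(V)` -/
noncomputable def eX [IsAffine V.left] [IsAffine X.left.left] :
    letI := algX V X
    (PhiE V).obj X ≅ XB (R := Rg V) Γ(X.left.left, ⊤) :=
  letI := algX V X
  Over.isoMk X.left.left.isoSpec (by
    have h := Scheme.isoSpec_hom_naturality X.hom.left
    simp [Over.iteratedSliceEquiv, Over.iteratedSliceForward]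
    exact h)

/-- Čech exactness of `G_a` for an affine étale surjective covering of an affine object -/
theorem compExact [IsAffine V.left] [IsAffine X.left.left] (hsurj : Surjective X.hom.left) (n : ℕ)
    (c₀ : ((Over.forget V).op ⋙ (EtCoh.Ga S).obj).obj (op (T X (n + 1))))
    (hc : dC ((Over.forget V).op ⋙ (EtCoh.Ga S).obj) (n + 1) c₀ = 0) :
    ∃ b₀, dC ((Over.forget V).op ⋙ (EtCoh.Ga S).obj) n b₀ = c₀ := by
  letI := algX V X
  haveI : Module.FaithfullyFlat (Rg V) Γ(X.left.left, ⊤) :=
    (Flat.flat_and_surjective_iff_faithfullyFlat_of_isAffine (f := X.hom.left)).1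
      ⟨inferInstance, hsurj⟩
  have h' := transfer (X := XB (R := Rg V) Γ(X.left.left, ⊤)) (ThetaN (R := Rg V))
    (fun k => ThetaN_bijective _) n
    (compExact_GN Γ(X.left.left, ⊤) (NU (Rg V)) n)
  exact transport (PhiE V) (eX V X) (eta V) n h' c₀ hc

/-- the higher étale cohomology of `G_a` on an affine scheme vanishes -/
theorem main [IsAffine S] (p : ℕ) : Subsingleton (EtCoh.H S (EtCoh.Ga S) (p + 1)) := by
  refine main1 (C := S.Etale) (J := S.smallEtaleTopology) {V | IsAffine V.left}
    (fun V X => IsAffine V.left ∧ IsAffine X.left.left ∧ Surjective X.hom.left)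
    ?_ ?_ ?_ ?_ (T₀ := MorphismProperty.Over.mk ⊤ (𝟙 S) (MorphismProperty.id_mem _ S))
    (MorphismProperty.Over.mkIdTerminal _ S) ?_ (EtCoh.Ga S) ?_ p
  · intro A A' i hA
    haveI : IsAffine A.left := hA
    have e : A.left ≅ A'.left := (sch S).mapIso i
    exact IsAffine.of_isIso e.inv
  · intro V hV A A' hA hA'
    haveI : IsAffine V.left := hV
    haveI : IsAffine A.left.left := hA
    haveI : IsAffine A'.left.left := hA'
    have sq : IsPullback (prod.fst : A ⨯ A' ⟶ A).left.left (prod.snd : A ⨯ A' ⟶ A').left.left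
        A.hom.left A'.hom.left :=
      (Over.isPullback_of_binaryFan_isLimit _ (limit.isLimit (pair A A'))).map (sch S)
    exact IsAffine.of_isIso sq.isoPullback.hom
  · rintro V X ⟨hV, hX, hsurj⟩
    refine ⟨hV, hX, ?_⟩
    exact ofArrows_mem (fun _ : PUnit => X.left) (fun _ => X.hom)
      (fun x => ⟨PUnit.unit, hsurj.surj x⟩)
  · intro V hV S' hS' s
    haveI : IsAffine V.left := hV
    obtain ⟨X, h1, h2, h3⟩ := CartanGenE.exists_single_cover V S' hS' s
    exact ⟨X, ⟨hV, h1, h2⟩, h3⟩
  · show IsAffine S
    infer_instance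
  · rintro V X ⟨hV, hX, hsurj⟩ n c₀ hc
    haveI : IsAffine V.left := hV
    haveI : IsAffine X.left.left := hX
    exact compExact V X hsurj n c₀ hc

end Groth.Agent.Helper6.CartanGenF
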