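import Mathlib
import Groth.Prelude.Def_EtZar
import Groth.Agent.Helper6.CartanGenA
import Groth.Agent.Helper1.ExtLES

/-!
# Zariski cohomology does not depend on the universe of the coefficients

For a scheme `X : Scheme.{u}` and a sheaf `F` of abelian groups in `Type u` on the opens of `X`,
the cohomology of the lifted sheaf `U ↦ ULift (F U)` (with values in `Type (u+1)`) is the
cohomology of `F`.
-/

set_option autoImplicit false
set_option linter.style.haveILetI false
set_option linter.unusedSectionVars false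
set_option linter.unusedVariables false
set_option linter.unusedSimpArgs false

universe u

open CategoryTheory CategoryTheory.Limits Opposite AlgebraicGeometry TopologicalSpace
  CategoryTheory.Abelian

namespace Groth.Agent.Helper6.UnivZarA

open Groth.Agent.Helper1.Cech Groth.Agent.Helper1.DeltaCmp Groth.Agent.Helper4.CechGenC

section Transfer

variable {D : Type u} [Category.{u} D] [HasFiniteProducts D] {ι₀ : Type u} (U₀ : ι₀ → D)
  (Q : Dᵒᵖ ⥤ AddCommGrpCat.{u})

/-- the family reindexed by the lifted index type -/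
abbrev UL : ULift.{u + 1} ι₀ → D := fun i => U₀ i.down

/-- the lifted presheaf -/
abbrev QL : Dᵒᵖ ⥤ AddCommGrpCat.{u + 1} := Q ⋙ AddCommGrpCat.uliftFunctor.{u + 1, u}

/-- lowering a cochain -/
noncomputable def lower (n : ℕ) (c : (cx (UL U₀) (QL Q)).X n) : (cx U₀ Q).X n :=
  mk (fun x => ULift.down (comp (UL U₀) (QL Q) n (fun k => ULift.up (x k)) c))

/-- lifting a cochain -/
noncomputable def lift (n : ℕ) (b : (cx U₀ Q).X n) : (cx (UL U₀) (QL Q)).X n :=
  mk (fun y => ULift.up (comp U₀ Q n (fun k => (y k).down) b))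

lemma comp_lower (n : ℕ) (c : (cx (UL U₀) (QL Q)).X n) (x : Fin (n + 1) → ι₀) :
    comp U₀ Q n x (lower U₀ Q n c) =
      ULift.down (comp (UL U₀) (QL Q) n (fun k => ULift.up (x k)) c) :=
  comp_mk _ x

lemma comp_lift (n : ℕ) (b : (cx U₀ Q).X n) (y : Fin (n + 1) → ULift.{u + 1} ι₀) :
    comp (UL U₀) (QL Q) n y (lift U₀ Q n b) =
      ULift.up (comp U₀ Q n (fun k => (y k).down) b) :=
  comp_mk _ y

lemma lift_lower (n : ℕ) (c : (cx (UL U₀) (QL Q)).X n) : lift U₀ Q n (lower U₀ Q n c) = c := by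
  apply ext
  intro y
  rw [comp_lift, comp_lower]
  rfl

lemma lower_zero (n : ℕ) : lower U₀ Q n 0 = 0 := by
  apply ext
  intro x
  rw [comp_lower, map_zero, map_zero]
  rfl

lemma lower_d (n : ℕ) (c : (cx (UL U₀) (QL Q)).X n) :
    lower U₀ Q (n + 1) ((cx (UL U₀) (QL Q)).d n (n + 1) c) =
      (cx U₀ Q).d n (n + 1) (lower U₀ Q n c) := by
  apply ext
  intro x
  rw [comp_lower, comp_d, comp_d]
  have key : ∀ j : Fin (n + 2),
      AddEquiv.ulift ((-1 : ℤ) ^ (j : ℕ) • (QL Q).map
        (face (UL U₀) j (fun k => ULift.up (x k))).op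
          (comp (UL U₀) (QL Q) n ((fun k => ULift.up (x k)) ∘ j.succAbove) c)) =
        (-1 : ℤ) ^ (j : ℕ) • Q.map (face U₀ j x).op
          (comp U₀ Q n (x ∘ j.succAbove) (lower U₀ Q n c)) := by
    intro j
    refine (map_zsmul AddEquiv.ulift _ _).trans ?_
    congr 1
    rw [comp_lower]
    rfl
  refine Eq.trans ?_ (Finset.sum_congr rfl (fun j _ => key j))
  exact map_sum AddEquiv.ulift _ _

lemma lift_d (n : ℕ) (b : (cx U₀ Q).X n) :
    (cx (UL U₀) (QL Q)).d n (n + 1) (lift U₀ Q n b) =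
      lift U₀ Q (n + 1) ((cx U₀ Q).d n (n + 1) b) := by
  apply ext
  intro y
  rw [comp_lift, comp_d, comp_d]
  have key : ∀ j : Fin (n + 2),
      AddEquiv.ulift ((-1 : ℤ) ^ (j : ℕ) • (QL Q).map (face (UL U₀) j y).op
          (comp (UL U₀) (QL Q) n (y ∘ j.succAbove) (lift U₀ Q n b))) =
        (-1 : ℤ) ^ (j : ℕ) • Q.map (face U₀ j (fun k => (y k).down)).op
          (comp U₀ Q n ((fun k => (y k).down) ∘ j.succAbove) b) := by
    intro j
    refine (map_zsmul AddEquiv.ulift _ _).trans ?_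
    congr 1
    rw [comp_lift]
    rfl
  apply AddEquiv.ulift.injective
  refine Eq.trans (map_sum AddEquiv.ulift _ _) ?_
  exact Finset.sum_congr rfl (fun j _ => key j)

/-- exactness of the Čech complex is inherited by the universe lift -/
theorem transfer (p : ℕ)
    (h : ∀ c : (cx U₀ Q).X (p + 1), (cx U₀ Q).d (p + 1) (p + 2) c = 0 →
      ∃ b : (cx U₀ Q).X p, (cx U₀ Q).d p (p + 1) b = c)
    (c : (cx (UL U₀) (QL Q)).X (p + 1))
    (hc : (cx (UL U₀) (QL Q)).d (p + 1) (p + 2) c = 0) :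
    ∃ b : (cx (UL U₀) (QL Q)).X p, (cx (UL U₀) (QL Q)).d p (p + 1) b = c := by
  have h0 : (cx U₀ Q).d (p + 1) (p + 2) (lower U₀ Q (p + 1) c) = 0 := by
    rw [← lower_d, hc, lower_zero]
  obtain ⟨b, hb⟩ := h _ h0
  exact ⟨lift U₀ Q p b, by rw [lift_d, hb, lift_lower]⟩

end Transfer

variable (X : Scheme.{u})

/-- sheaves of small abelian groups on the opens of `X` -/
abbrev Shu : Type (u + 1) := Sheaf (Opens.grothendieckTopology X) AddCommGrpCat.{u}

/-- the universe lift of abelian sheaves -/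
noncomputable abbrev Lam : Shu X ⥤ EtZar.Ab X :=
  sheafCompose (Opens.grothendieckTopology X) AddCommGrpCat.uliftFunctor.{u + 1, u}

instance presLam : PreservesFiniteLimits (Lam X) := by
  constructor
  intro K _ _
  haveI : PreservesLimitsOfShape K (Lam X ⋙ sheafToPresheaf _ _) := by
    show PreservesLimitsOfShape K (sheafToPresheaf _ _ ⋙
      (Functor.whiskeringRight _ _ _).obj AddCommGrpCat.uliftFunctor.{u + 1, u})
    infer_instance
  exact preservesLimitsOfShape_of_reflects_of_preserves (Lam X) (sheafToPresheaf _ _)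

instance addLam : (Lam X).Additive := Functor.additive_of_preserves_binary_products _

instance wlb : (Opens.grothendieckTopology X).WEqualsLocallyBijective AddCommGrpCat.{u + 1} :=
  GrothendieckTopology.WEqualsLocallyBijective.ofEssentiallySmall.{u, u + 1, u, u + 2, u + 1, u + 1, u + 1} _

theorem epi_Lam {F G : Shu X} (f : F ⟶ G) [Epi f] : Epi ((Lam X).map f) := by
  refine (Sheaf.isLocallySurjective_iff_epi' _ _).1 ?_
  have hls : Presheaf.IsLocallySurjective (Opens.grothendieckTopology X) f.hom :=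
    (Sheaf.isLocallySurjective_iff_epi' _ f).2 inferInstance
  refine ⟨fun {U} s => ?_⟩
  intro x hx
  obtain ⟨V, g, ⟨t, ht⟩, hxV⟩ := hls.imageSieve_mem (ULift.down s) x hx
  exact ⟨V, g, ⟨ULift.up t, congrArg ULift.up ht⟩, hxV⟩

theorem shortExact_Lam {S : ShortComplex (Shu X)} (hS : S.ShortExact) :
    (S.map (Lam X)).ShortExact := by
  haveI : Mono S.f := hS.mono_f
  haveI : Epi S.g := hS.epi_g
  exact
    { exact := hS.exact.map_of_mono_of_preservesKernel _ hS.mono_f inferInstance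
      mono_f := (inferInstance : Mono ((Lam X).map S.f))
      epi_g := epi_Lam X S.g }

/-- small coverings, indexed by lifted types -/
inductive CovU : ∀ (V : X.Opens) (ι : Type (u + 1)), (ι → Over V) → Prop
  | mk (V : X.Opens) (ι₀ : Type u) (Y₀ : ι₀ → Over V) (h : V ≤ ⨆ i, (Y₀ i).left) :
      CovU V (ULift.{u + 1} ι₀) (fun i => Y₀ i.down)

lemma covU_h1 (V : X.Opens) (ι : Type (u + 1)) (Y : ι → Over V) (hY : CovU X V ι Y) :
    V ∈ (Set.univ : Set X.Opens) ∧
      Sieve.ofArrows (fun i => (Y i).left) (fun i => (Y i).hom) ∈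
        Opens.grothendieckTopology X V ∧
      ∀ (p : ℕ) (a : Fin (p + 1) → ι), (∏ᶜ fun k => Y (a k)).left ∈ (Set.univ : Set X.Opens) := by
  cases hY with
  | mk ι₀ Y₀ h =>
    refine ⟨trivial, ?_, fun _ _ => trivial⟩
    intro x hx
    obtain ⟨i, hi⟩ := Opens.mem_iSup.1 (h hx)
    exact ⟨(Y₀ i).left, (Y₀ i).hom, Sieve.ofArrows_mk _ _ (ULift.up i), hi⟩

lemma covU_h2 (V : X.Opens) (hV : V ∈ (Set.univ : Set X.Opens))
    (S : ShortComplex (EtZar.Ab X)) (hS : S.ShortExact) (s : S.X₃.obj.obj (op V)) :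
    ∃ (ι : Type (u + 1)) (Y : ι → Over V), CovU X V ι Y ∧
      ∀ i, (Presheaf.imageSieve S.g.hom s).arrows (Y i).hom := by
  haveI : Epi S.g := hS.epi_g
  have hls : Presheaf.IsLocallySurjective (Opens.grothendieckTopology X) S.g.hom :=
    (Sheaf.isLocallySurjective_iff_epi' _ S.g).2 inferInstance
  have hT : Presheaf.imageSieve S.g.hom s ∈ Opens.grothendieckTopology X V :=
    hls.imageSieve_mem s
  let ι₀ : Type u :=
    {W : X.Opens // ∃ h : W ≤ V, (Presheaf.imageSieve S.g.hom s).arrows (homOfLE h)}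
  refine ⟨ULift.{u + 1} ι₀, fun i => Over.mk (homOfLE i.down.2.choose),
    CovU.mk V ι₀ (fun W => Over.mk (homOfLE W.2.choose)) ?_, fun i => i.down.2.choose_spec⟩
  intro x hx
  obtain ⟨U, f, hf, hxU⟩ := hT x hx
  refine Opens.mem_iSup.2 ⟨⟨U, leOfHom f, ?_⟩, hxU⟩
  have : homOfLE (leOfHom f) = f := Subsingleton.elim _ _
  rw [this]
  exact hf

/-- the lift of an injective sheaf is Čech-acyclic for small coverings -/
theorem cechAcyc (I : Shu X) [Injective I] : CechAcyc (CovU X) ((Lam X).obj I) := by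
  intro V ι Y hY p
  cases hY with
  | mk ι₀ Y₀ h =>
    haveI : Injective ((sheafToPresheaf (Opens.grothendieckTopology X) AddCommGrpCat.{u}).obj I) :=
      Injective.injective_of_adjoint (sheafificationAdjunction _ AddCommGrpCat.{u}) _
    haveI : Injective I.obj := this
    apply isZero_homology_of_exists
    intro c hc
    exact transfer Y₀ ((Over.forget V).op ⋙ I.obj) p
      (Groth.Agent.Helper1.CechInj.exists_of_cocycle_over Y₀ I.obj p) c hc

/-- the lift of an injective sheaf is acyclic -/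
theorem subsingleton_H_Lam (I : Shu X) [Injective I] (p : ℕ) :
    Subsingleton (Sheaf.H.{u + 1} ((Lam X).obj I) (p + 1)) :=
  CartanGenA.main (Set.univ : Set X.Opens) (CovU X) (covU_h1 X) (covU_h2 X)
    (isTerminalTop : IsTerminal (⊤ : X.Opens)) trivial p _ (cechAcyc X I)

section LES

universe w v₁ v₂ v₃ u₁ u₂ u₃

variable {A : Type u₁} [Category.{v₁} A] [Abelian A] {B : Type u₂} [Category.{v₂} B] [Abelian B]
  {B' : Type u₃} [Category.{v₃} B'] [Abelian B']

lemma hasLES_of_shortExact' [HasExt.{w} B] (G : A ⥤ B) [G.Additive] (P : B) (S₁ : ShortComplex A)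
    (hS' : (S₁.map G).ShortExact) : HasLES (extSeq G P) S₁ := by
  intro n
  obtain ⟨w₁, h₁⟩ := exists_of_exact (Ext.covariant_sequence_exact₃' P hS' n (n + 1) rfl)
  obtain ⟨w₂, h₂⟩ := exists_of_exact (Ext.covariant_sequence_exact₁' P hS' n (n + 1) rfl)
  exact ⟨AddCommGrpCat.ofHom (hS'.extClass.postcomp P rfl), w₁, w₂, h₁, h₂⟩

lemma hasLES_comp (T : ℕ → A ⥤ B) (G : B ⥤ B') [G.Additive] [PreservesFiniteLimits G]
    [PreservesFiniteColimits G] (S₁ : ShortComplex A) (h : HasLES T S₁) :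
    HasLES (fun n => T n ⋙ G) S₁ := by
  intro n
  obtain ⟨δ, w₁, w₂, h₁, h₂⟩ := h n
  refine ⟨G.map δ, ?_, ?_, ?_, ?_⟩
  · show G.map ((T n).map S₁.g) ≫ G.map δ = 0
    rw [← G.map_comp, w₁, G.map_zero]
  · show G.map δ ≫ G.map ((T (n + 1)).map S₁.f) = 0
    rw [← G.map_comp, w₂, G.map_zero]
  · exact h₁.map G
  · exact h₂.map G

end LES

/-- the constant sheaf `ℤ`, small version -/
noncomputable abbrev Zu : Shu X :=
  (constantSheaf (Opens.grothendieckTopology X) AddCommGrpCat.{u}).obj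
    (AddCommGrpCat.of (ULift ℤ))

/-- the constant sheaf `ℤ`, large version -/
noncomputable abbrev Zv : EtZar.Ab X :=
  (constantSheaf (Opens.grothendieckTopology X) AddCommGrpCat.{u + 1}).obj
    (AddCommGrpCat.of (ULift ℤ))

/-- `F ↦ ULift (H^n(F))` -/
noncomputable abbrev T (n : ℕ) : Shu X ⥤ AddCommGrpCat.{u + 1} :=
  extSeq (𝟭 (Shu X)) (Zu X) n ⋙ AddCommGrpCat.uliftFunctor.{u + 1, u}

/-- `F ↦ H^n(ΛF)` -/
noncomputable abbrev T' (n : ℕ) : Shu X ⥤ AddCommGrpCat.{u + 1} :=
  extSeq (Lam X) (Zv X) n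

/-- global sections -/
noncomputable abbrev Γu : Shu X ⥤ AddCommGrpCat.{u} :=
  sheafToPresheaf (Opens.grothendieckTopology X) AddCommGrpCat.{u} ⋙
    (evaluation X.Opensᵒᵖ AddCommGrpCat.{u}).obj (op ⊤)

noncomputable def e₀u : extSeq (𝟭 (Shu X)) (Zu X) 0 ≅ Γu X :=
  NatIso.ofComponents
    (fun F => (Sheaf.H.equiv₀ F (isTerminalTop : IsTerminal (⊤ : X.Opens))).toAddCommGrpIso)
    (by
      intro F G φ
      apply AddCommGrpCat.hom_ext
      apply AddMonoidHom.ext
      intro x
      exact (Sheaf.H.equiv₀_naturality (isTerminalTop : IsTerminal (⊤ : X.Opens)) φ x).symm)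

noncomputable def eT : T X 0 ≅ Γu X ⋙ AddCommGrpCat.uliftFunctor.{u + 1, u} :=
  Functor.isoWhiskerRight (e₀u X) _

noncomputable def eT' : T' X 0 ≅ Γu X ⋙ AddCommGrpCat.uliftFunctor.{u + 1, u} :=
  NatIso.ofComponents
    (fun F => (Sheaf.H.equiv₀ ((Lam X).obj F)
      (isTerminalTop : IsTerminal (⊤ : X.Opens))).toAddCommGrpIso)
    (by
      intro F G φ
      apply AddCommGrpCat.hom_ext
      apply AddMonoidHom.ext
      intro x
      exact (Sheaf.H.equiv₀_naturality (isTerminalTop : IsTerminal (⊤ : X.Opens))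
        ((Lam X).map φ) x).symm)

theorem nonempty_iso (n : ℕ) (F : Shu X) :
    Nonempty ((T X n).obj F ≅ (T' X n).obj F) := by
  refine Groth.Agent.Helper1.DeltaCmp.nonempty_iso (T := T X) (T' := T' X) (fun _ => True)
    ((eT X).trans (eT' X).symm) ?_ n F trivial
  intro F _
  let S' : ShortComplex (Shu X) :=
    ShortComplex.mk (Injective.ι F) (cokernel.π (Injective.ι F)) (cokernel.condition _)
  have hS : S'.ShortExact :=
    { exact := ShortComplex.exact_cokernel _
      mono_f := by dsimp [S']; infer_instance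
      epi_g := by dsimp [S']; infer_instance }
  haveI : Injective S'.X₂ := by dsimp [S']; infer_instance
  refine ⟨{ S := S', iso := rfl, mem := trivial, zero := ?_, zero' := ?_,
            les := hasLES_comp _ _ S' (hasLES_extSeq _ _ S' hS),
            les' := hasLES_of_shortExact' _ _ S' (shortExact_Lam X hS) }⟩
  · intro n
    have : Subsingleton (Ext.{u} (Zu X) S'.X₂ (n + 1)) :=
      subsingleton_of_forall_eq 0 fun x => Ext.eq_zero_of_injective x
    have : Subsingleton ((T X (n + 1)).obj S'.X₂) :=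
      (inferInstance : Subsingleton (ULift.{u + 1} (Ext.{u} (Zu X) S'.X₂ (n + 1))))
    exact AddCommGrpCat.isZero_of_subsingleton _
  · intro n
    have : Subsingleton ((T' X (n + 1)).obj S'.X₂) := subsingleton_H_Lam X S'.X₂ n
    exact AddCommGrpCat.isZero_of_subsingleton _

/-- Zariski cohomology does not depend on the universe of the coefficients -/
theorem main (F : Shu X) (n : ℕ) :
    Nonempty (EtZar.H ((Lam X).obj F) n ≃+ Sheaf.H.{u} F n) := by
  obtain ⟨i⟩ := nonempty_iso X n F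
  exact ⟨i.symm.addCommGroupIsoToAddEquiv.trans AddEquiv.ulift⟩

end Groth.Agent.Helper6.UnivZarA
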