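import Mathlib
import Groth.Prelude.Def_EtZar
import Groth.Prelude.Def_EtCore

set_option autoImplicit false
set_option linter.style.haveILetI false
set_option linter.unusedSectionVars false
set_option linter.unusedVariables false

/-!
# The morphism of sites from the small étale site to the Zariski site: exactness of the inverse
image and preservation of injectives by `EtZar.resZar`.
-/

open CategoryTheory CategoryTheory.Limits Opposite AlgebraicGeometry

universe u

namespace Groth.Agent.Helper6.ZarEpsA

abbrev A := AddCommGrpCat.{u + 1}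

section Lan

instance : HasFilteredColimitsOfSize.{u, u} A.{u} where
  HasColimitsOfShape _ _ _ := inferInstance

instance ab5 : AB5OfSize.{u, u} A.{u} := AB5OfSize_of_univLE.{u, u, u+1, u+1} _

variable {C : Type u} [Category.{u} C] {D : Type (u + 1)} [Category.{u} D]

set_option backward.defeqAttrib.useBackward true in
set_option backward.isDefEq.respectTransparency false in
noncomputable def lanEvaluationIsoColim (F : C ⥤ D) (X : D) :
    (F.lan : (C ⥤ A.{u}) ⥤ (D ⥤ A.{u})) ⋙ (evaluation D A.{u}).obj X ≅
      (Functor.whiskeringLeft _ _ A.{u}).obj (CostructuredArrow.proj F X) ⋙ colim :=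
  NatIso.ofComponents (fun G =>
    IsColimit.coconePointUniqueUpToIso
    (Functor.isPointwiseLeftKanExtensionLeftKanExtensionUnit F G X)
    (colimit.isColimit _)) (fun {G₁ G₂} φ => by
      apply (Functor.isPointwiseLeftKanExtensionLeftKanExtensionUnit F G₁ X).hom_ext
      intro T
      have h₁ := fun (G : C ⥤ A.{u}) => IsColimit.comp_coconePointUniqueUpToIso_hom
        (Functor.isPointwiseLeftKanExtensionLeftKanExtensionUnit F G X) (colimit.isColimit _) T
      have h₂ := congr_app (F.lanUnit.naturality φ) T.left
      dsimp at h₁ h₂ ⊢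
      simp only [Category.assoc] at h₁ ⊢
      simp only [Functor.lan, Functor.lanUnit] at h₂ ⊢
      rw [reassoc_of% h₁, NatTrans.naturality_assoc, ← reassoc_of% h₂, h₁,
        ι_colimMap, Functor.whiskerLeft_app]
      rfl)

noncomputable instance lan_preservesFiniteLimits_of_flat (F : C ⥤ D) [RepresentablyFlat F] :
    PreservesFiniteLimits (F.op.lan : (Cᵒᵖ ⥤ A.{u}) ⥤ (Dᵒᵖ ⥤ A.{u})) := by
  apply preservesFiniteLimits_of_preservesFiniteLimitsOfSize.{0}
  intro J _ _
  apply preservesLimitsOfShape_of_evaluation (F.op.lan : (Cᵒᵖ ⥤ A.{u}) ⥤ Dᵒᵖ ⥤ A.{u}) J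
  intro K
  have : IsFiltered (CostructuredArrow F.op K) :=
    IsFiltered.of_equivalence (structuredArrowOpEquivalence F (unop K))
  exact preservesLimitsOfShape_of_natIso (lanEvaluationIsoColim F.op K).symm

theorem sheafPullback_preservesFiniteLimits (G : C ⥤ D) [RepresentablyFlat G]
    (J : GrothendieckTopology C) (K : GrothendieckTopology D) [G.IsContinuous J K]
    [HasSheafify K A.{u}] [HasSheafify J A.{u}] :
    PreservesFiniteLimits (G.sheafPullback A.{u} J K) :=
  Functor.sheafPullbackConstruction.preservesFiniteLimits G A.{u} J K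

end Lan

section Flat

variable (X : Scheme.{u})

lemma hom_ext_open {T : X.Etale} {U : X.Opens} (f g : T ⟶ (EtZar.zarToEt X).obj U) : f = g := by
  apply MorphismProperty.Over.Hom.ext
  have hf : f.left ≫ U.ι = T.hom := MorphismProperty.Over.w f
  have hg : g.left ≫ U.ι = T.hom := MorphismProperty.Over.w g
  exact (cancel_mono U.ι).1 (hf.trans hg.symm)

/-- a morphism from an étale `X`-scheme whose image lies in `U` to the open `U` -/
noncomputable def liftOpen (T : X.Etale) (U : X.Opens)
    (h : Set.range T.hom.base ⊆ (U : Set X)) : T.left ⟶ (U : Scheme.{u}) :=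
  IsOpenImmersion.lift U.ι (T.hom : T.left ⟶ X) (h.trans (Scheme.Opens.range_ι U).symm.subset)

lemma liftOpen_fac (T : X.Etale) (U : X.Opens)
    (h : Set.range T.hom.base ⊆ (U : Set X)) : liftOpen X T U h ≫ U.ι = T.hom :=
  IsOpenImmersion.lift_fac _ _ _

/-- a morphism from an étale `X`-scheme whose image lies in `U` to the open `U` -/
noncomputable def toOpen (T : X.Etale) (U : X.Opens)
    (h : Set.range T.hom.base ⊆ (U : Set X)) : T ⟶ (EtZar.zarToEt X).obj U :=
  MorphismProperty.Over.homMk (liftOpen X T U h) (liftOpen_fac X T U h)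

lemma range_subset {T : X.Etale} {U : X.Opens} (f : T ⟶ (EtZar.zarToEt X).obj U) :
    Set.range T.hom.base ⊆ (U : Set X) := by
  have hf : f.left ≫ U.ι = T.hom := MorphismProperty.Over.w f
  rintro _ ⟨t, rfl⟩
  have h1 : T.hom.base t = U.ι.base (f.left.base t) := by
    rw [← hf]
    rfl
  rw [h1]
  exact (f.left.base t).2

instance (T : X.Etale) : IsCofiltered (StructuredArrow T (EtZar.zarToEt X)) where
  cone_objs a b := by
    have ha := range_subset X a.hom
    have hb := range_subset X b.hom
    refine ⟨StructuredArrow.mk (toOpen X T (a.right ⊓ b.right) (Set.subset_inter ha hb)),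
      StructuredArrow.homMk (homOfLE inf_le_left) (hom_ext_open X _ _),
      StructuredArrow.homMk (homOfLE inf_le_right) (hom_ext_open X _ _), trivial⟩
  cone_maps a b f g := by
    refine ⟨a, 𝟙 a, ?_⟩
    congr 1
    exact StructuredArrow.hom_ext _ _ (Subsingleton.elim _ _)
  nonempty := ⟨StructuredArrow.mk (toOpen X T ⊤ (Set.subset_univ _))⟩

instance flat_zarToEt : RepresentablyFlat (EtZar.zarToEt X) where
  cofiltered T := inferInstance

variable [EtZar.ZarCont X]

instance preservesFiniteLimits_pullback :
    PreservesFiniteLimits ((EtZar.zarToEt X).sheafPullback A.{u}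
      (Opens.grothendieckTopology X) X.smallEtaleTopology) :=
  sheafPullback_preservesFiniteLimits _ _ _

theorem injective_resZar (I : EtCoh.Ab X) [Injective I] :
    Injective ((EtZar.resZar X).obj I) :=
  Injective.injective_of_adjoint ((EtZar.zarToEt X).sheafAdjunctionContinuous A.{u}
    (Opens.grothendieckTopology X) X.smallEtaleTopology) I

end Flat

end Groth.Agent.Helper6.ZarEpsA
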