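import Mathlib
import Groth.Prelude.Def_EtZar
import Groth.Prelude.Def_EtCore
import Groth.Agent.Helper9.EtPushInj
import Groth.Agent.Helper9.EtShriekOpen

set_option autoImplicit false
set_option linter.style.haveILetI false
set_option linter.unusedSectionVars false
set_option linter.unusedVariables false

/-!
# Sheaves acyclic on affine étale schemes: sections and dimension shifting
-/

open CategoryTheory CategoryTheory.Limits Opposite AlgebraicGeometry Abelian

universe w' w v u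

namespace Groth.Agent.Helper6.ZarEpsB

section Gen

variable {𝒜 : Type u} [Category.{v} 𝒜] [Abelian 𝒜] [HasExt.{w} 𝒜]

lemma ext_X₁_eq_zero {S : ShortComplex 𝒜} (hS : S.ShortExact) (X : 𝒜) (n : ℕ)
    (h2 : ∀ x₂ : Ext.{w} X S.X₂ (n + 1), x₂ = 0)
    (h3 : ∀ x₃ : Ext.{w} X S.X₃ n, ∃ x₂ : Ext.{w} X S.X₂ n,
      x₂.comp (Ext.mk₀ S.g) (add_zero n) = x₃)
    (x₁ : Ext.{w} X S.X₁ (n + 1)) : x₁ = 0 := by
  obtain ⟨x₃, rfl⟩ := Ext.covariant_sequence_exact₁ X hS x₁ (h2 _) rfl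
  obtain ⟨x₂, rfl⟩ := h3 x₃
  rw [Ext.comp_assoc_of_second_deg_zero, ShortComplex.ShortExact.comp_extClass, Ext.comp_zero]

lemma ext_X₃_eq_zero {S : ShortComplex 𝒜} (hS : S.ShortExact) (X : 𝒜) (n : ℕ)
    (h2 : ∀ x₂ : Ext.{w} X S.X₂ n, x₂ = 0) (h1 : ∀ x₁ : Ext.{w} X S.X₁ (n + 1), x₁ = 0)
    (x₃ : Ext.{w} X S.X₃ n) : x₃ = 0 := by
  obtain ⟨x₂, rfl⟩ := Ext.covariant_sequence_exact₃ X hS x₃ rfl (h1 _)
  rw [h2 x₂, Ext.zero_comp]

end Gen

section Sh

variable {C : Type u} [Category.{v} C] {J : GrothendieckTopology C}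
  [HasSheafify J AddCommGrpCat.{w}] [HasExt.{w'} (Sheaf J AddCommGrpCat.{w})]
  {T : C} (hT : IsTerminal T)

include hT in
lemma surjective_of_H1 {S : ShortComplex (Sheaf J AddCommGrpCat.{w})} (hS : S.ShortExact)
    (h : ∀ x : Sheaf.H.{w'} S.X₁ 1, x = 0) : Function.Surjective (S.g.hom.app (op T)) := by
  intro s
  obtain ⟨x₂, hx₂⟩ := Ext.covariant_sequence_exact₃ _ hS
    ((Sheaf.H.equiv₀ S.X₃ hT).symm s) rfl (h _)
  refine ⟨Sheaf.H.equiv₀ S.X₂ hT x₂, ?_⟩
  rw [Sheaf.H.equiv₀_naturality hT S.g x₂]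
  have h1 : Sheaf.H.map S.g 0 x₂ = (Sheaf.H.equiv₀ S.X₃ hT).symm s := hx₂
  rw [h1, AddEquiv.apply_symm_apply]

include hT in
lemma exists_lift_H0 {S : ShortComplex (Sheaf J AddCommGrpCat.{w})}
    (hsurj : Function.Surjective (S.g.hom.app (op T))) (x₃ : Sheaf.H.{w'} S.X₃ 0) :
    ∃ x₂ : Sheaf.H.{w'} S.X₂ 0, x₂.comp (Ext.mk₀ S.g) (add_zero 0) = x₃ := by
  obtain ⟨a, ha⟩ := hsurj (Sheaf.H.equiv₀ S.X₃ hT x₃)
  refine ⟨(Sheaf.H.equiv₀ S.X₂ hT).symm a, ?_⟩
  have h1 := Sheaf.H.equiv₀_symm_naturality hT S.g a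
  rw [ha, AddEquiv.symm_apply_apply] at h1
  exact h1

end Sh

section Et

universe u₀

variable {X : Scheme.{u₀}}

/-- acyclic on all affine objects of the small étale site -/
def Acyc (G : EtCoh.Ab X) : Prop :=
  ∀ T : X.Etale, IsAffine T.left → ∀ i : ℕ, 1 ≤ i →
    Subsingleton (EtCoh.H T.left ((EtCoh.pull T.hom).obj G) i)

/-- an object of the small étale site is the image of the terminal object of its own site -/
noncomputable def isoW (W : X.Etale) :
    haveI : Etale W.hom := W.prop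
    (EtShriek.compEtale W.hom).obj (EtCoh.top W.left) ≅ W :=
  haveI : Etale W.hom := W.prop
  MorphismProperty.Over.isoMk (Iso.refl _)
    ((Category.id_comp W.hom).trans (Category.id_comp W.hom).symm)

/-- sections over the terminal object -/
noncomputable abbrev Γtop (Y : Scheme.{u₀}) : EtCoh.Ab Y ⥤ AddCommGrpCat.{u₀ + 1} :=
  sheafToPresheaf Y.smallEtaleTopology AddCommGrpCat.{u₀ + 1} ⋙
    (evaluation Y.Etaleᵒᵖ AddCommGrpCat.{u₀ + 1}).obj (op (EtCoh.top Y))

/-- sections over `T` -/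
noncomputable abbrev Γat (T : X.Etale) : EtCoh.Ab X ⥤ AddCommGrpCat.{u₀ + 1} :=
  sheafToPresheaf X.smallEtaleTopology AddCommGrpCat.{u₀ + 1} ⋙
    (evaluation X.Etaleᵒᵖ AddCommGrpCat.{u₀ + 1}).obj (op T)

noncomputable def restrIso (T : X.Etale) :
    haveI : Etale T.hom := T.prop
    EtShriek.restrAlong T.hom ⋙ Γtop T.left ≅ Γat T :=
  haveI : Etale T.hom := T.prop
  NatIso.ofComponents (fun F => (F.obj.mapIso (isoW T).op).symm) (by
    intro F G f
    exact (f.hom.naturality (isoW T).op.inv).symm)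

noncomputable def secIso (T : X.Etale) : EtCoh.pull T.hom ⋙ Γtop T.left ≅ Γat T :=
  haveI : Etale T.hom := T.prop
  Functor.isoWhiskerRight (Groth.Agent.Helper9.EtShriekOpen.pullIsoRestr T.hom) (Γtop T.left) ≪≫
    restrIso T

instance (T : X.Etale) : PreservesFiniteColimits (EtCoh.pull T.hom) :=
  have : PreservesColimitsOfSize.{0, 0} (EtCoh.pull T.hom) :=
    (EtCoh.pullPushAdj T.hom).leftAdjoint_preservesColimits
  PreservesColimitsOfSize.preservesFiniteColimits _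

theorem surj (T : X.Etale) {S : ShortComplex (EtCoh.Ab X)} (hS : S.ShortExact)
    (h : Subsingleton (EtCoh.H T.left ((EtCoh.pull T.hom).obj S.X₁) 1)) :
    Function.Surjective (S.g.hom.app (op T)) := by
  haveI : Etale T.hom := T.prop
  have hp : (S.map (EtCoh.pull T.hom)).ShortExact := hS.map_of_exact (EtCoh.pull T.hom)
  have h1 := surjective_of_H1 (EtCore.topIsTerminal T.left) hp
    (fun x => @Subsingleton.elim _ h x 0)
  have h2 : Epi ((EtCoh.pull T.hom ⋙ Γtop T.left).map S.g) :=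
    (AddCommGrpCat.epi_iff_surjective _).2 h1
  have h3 : Epi ((Γat T).map S.g) := by
    have hn := (secIso T).hom.naturality S.g
    have h4 : (Γat T).map S.g = (secIso T).inv.app S.X₂ ≫
        (EtCoh.pull T.hom ⋙ Γtop T.left).map S.g ≫ (secIso T).hom.app S.X₃ := by
      rw [hn, Iso.inv_hom_id_app_assoc]
      rfl
    rw [h4]
    infer_instance
  exact (AddCommGrpCat.epi_iff_surjective _).1 h3

theorem acyc_X₃ {S : ShortComplex (EtCoh.Ab X)} (hS : S.ShortExact) [Injective S.X₂]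
    (h : Acyc S.X₁) : Acyc S.X₃ := by
  intro T hT i hi
  haveI : Etale T.hom := T.prop
  have hp : (S.map (EtCoh.pull T.hom)).ShortExact := hS.map_of_exact (EtCoh.pull T.hom)
  haveI : Injective (S.map (EtCoh.pull T.hom)).X₂ :=
    Groth.Agent.Helper9.EtPushInj.injective_pull_of_etale T.hom S.X₂
  obtain ⟨n, rfl⟩ : ∃ n, i = n + 1 := ⟨i - 1, by omega⟩
  refine subsingleton_of_forall_eq 0 (fun x => ?_)
  exact ext_X₃_eq_zero hp _ (n + 1) (fun x₂ => Ext.eq_zero_of_injective x₂)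
    (fun x₁ => @Subsingleton.elim _ (h T hT (n + 1 + 1) (by omega)) x₁ 0) x

end Et

end Groth.Agent.Helper6.ZarEpsB
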