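import Mathlib
import Groth.Prelude.Def_EtZar
import Groth.Prelude.Def_EtCore
import Groth.Agent.Helper6.ZarEpsA
import Groth.Agent.Helper6.ZarEpsB

set_option autoImplicit false
set_option linter.style.haveILetI false
set_option linter.unusedSectionVars false
set_option linter.unusedVariables false

/-!
# Zariski cohomology of the restriction of an étale sheaf acyclic on affines
-/

open CategoryTheory CategoryTheory.Limits Opposite AlgebraicGeometry Abelian

universe u

namespace Groth.Agent.Helper6.ZarEpsC

open Groth.Agent.Helper6.ZarEpsA Groth.Agent.Helper6.ZarEpsB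

variable (X : Scheme.{u}) [EtZar.ZarCont X]

instance : (EtZar.resZar X).IsRightAdjoint :=
  ((EtZar.zarToEt X).sheafAdjunctionContinuous A.{u}
    (Opens.grothendieckTopology X) X.smallEtaleTopology).isRightAdjoint

instance : PreservesFiniteLimits (EtZar.resZar X) :=
  have : PreservesLimitsOfSize.{0, 0} (EtZar.resZar X) :=
    ((EtZar.zarToEt X).sheafAdjunctionContinuous A.{u}
      (Opens.grothendieckTopology X) X.smallEtaleTopology).rightAdjoint_preservesLimits
  PreservesLimitsOfSize.preservesFiniteLimits _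

instance : (EtZar.resZar X).Additive := Functor.additive_of_preserves_binary_products _

instance : (Opens.grothendieckTopology X).WEqualsLocallyBijective A.{u} :=
  GrothendieckTopology.WEqualsLocallyBijective.ofEssentiallySmall.{u, u + 1, u, u + 2, u + 1, u + 1, u + 1} _

theorem epi_resZar {S : ShortComplex (EtCoh.Ab X)} (hS : S.ShortExact) (h : Acyc S.X₁) :
    Epi ((EtZar.resZar X).map S.g) := by
  refine (Sheaf.isLocallySurjective_iff_epi' _ _).1 ?_
  refine ⟨fun {U} s => ?_⟩
  intro x hx
  obtain ⟨V, hV, hxV, hVU⟩ := TopologicalSpace.Opens.isBasis_iff_nbhd.mp X.isBasis_affineOpens hx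
  refine ⟨V, homOfLE hVU, ?_, hxV⟩
  have haff : IsAffine ((EtZar.zarToEt X).obj V).left := hV
  obtain ⟨t, ht⟩ := surj ((EtZar.zarToEt X).obj V) hS (h _ haff 1 le_rfl)
    (S.X₃.obj.map ((EtZar.zarToEt X).map (homOfLE hVU)).op s)
  exact ⟨t, ht⟩

theorem shortExact_resZar {S : ShortComplex (EtCoh.Ab X)} (hS : S.ShortExact) (h : Acyc S.X₁) :
    (S.map (EtZar.resZar X)).ShortExact := by
  haveI : Mono S.f := hS.mono_f
  exact
    { exact := hS.exact.map_of_mono_of_preservesKernel _ hS.mono_f inferInstance
      mono_f := (inferInstance : Mono ((EtZar.resZar X).map S.f))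
      epi_g := epi_resZar X hS h }

theorem vanish [IsAffine X] (n : ℕ) : ∀ G : EtCoh.Ab X, Acyc G →
    ∀ x : EtZar.H ((EtZar.resZar X).obj G) (n + 1), x = 0 := by
  induction n with
  | zero =>
    intro G hG x
    let S : ShortComplex (EtCoh.Ab X) :=
      ShortComplex.mk (Injective.ι G) (cokernel.π (Injective.ι G)) (cokernel.condition _)
    have hS : S.ShortExact :=
      { exact := ShortComplex.exact_cokernel _
        mono_f := by dsimp [S]; infer_instance
        epi_g := by dsimp [S]; infer_instance }
    haveI : Injective S.X₂ := by dsimp [S]; infer_instance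
    have hZ := shortExact_resZar X hS hG
    haveI : Injective (S.map (EtZar.resZar X)).X₂ := injective_resZar X S.X₂
    have hsurj : Function.Surjective ((S.map (EtZar.resZar X)).g.hom.app (op (⊤ : X.Opens))) :=
      surj ((EtZar.zarToEt X).obj ⊤) hS
        (hG ((EtZar.zarToEt X).obj ⊤)
          (show IsAffine ((⊤ : X.Opens) : Scheme.{u}) from isAffineOpen_top X) 1 le_rfl)
    exact ext_X₁_eq_zero hZ _ 0 (fun x₂ => Ext.eq_zero_of_injective x₂)
      (fun x₃ => exists_lift_H0 isTerminalTop hsurj x₃) x
  | succ m ih =>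
    intro G hG x
    let S : ShortComplex (EtCoh.Ab X) :=
      ShortComplex.mk (Injective.ι G) (cokernel.π (Injective.ι G)) (cokernel.condition _)
    have hS : S.ShortExact :=
      { exact := ShortComplex.exact_cokernel _
        mono_f := by dsimp [S]; infer_instance
        epi_g := by dsimp [S]; infer_instance }
    haveI : Injective S.X₂ := by dsimp [S]; infer_instance
    have hZ := shortExact_resZar X hS hG
    haveI : Injective (S.map (EtZar.resZar X)).X₂ := injective_resZar X S.X₂
    have hQ : Acyc S.X₃ := acyc_X₃ hS hG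
    exact ext_X₁_eq_zero hZ _ (m + 1) (fun x₂ => Ext.eq_zero_of_injective x₂)
      (fun x₃ => ⟨0, by rw [Ext.zero_comp]; exact (ih S.X₃ hQ x₃).symm⟩) x

theorem main [IsAffine X] (G : EtCoh.Ab X)
    (hG : ∀ (T : X.Etale), IsAffine T.left → ∀ i : ℕ, 1 ≤ i →
      Subsingleton (EtCoh.H T.left ((EtCoh.pull T.hom).obj G) i))
    (i : ℕ) (hi : 1 ≤ i) :
    Subsingleton (EtZar.H ((EtZar.resZar X).obj G) i) := by
  obtain ⟨n, rfl⟩ : ∃ n, i = n + 1 := ⟨i - 1, by omega⟩
  exact subsingleton_of_forall_eq 0 (fun x => vanish X n G hG x)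

end Groth.Agent.Helper6.ZarEpsC
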