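import Mathlib
import Groth.Prelude.Def_EtZar
import Groth.Prelude.Def_EtCore
import Groth.Prelude.Def_EtGm
import Groth.Prelude.Def_Coh
import Groth.Agent.Helper6.UnivZarA
import Groth.Agent.Helper6.ZarEpsC
import Groth.Agent.Helper6.CartanGenF
import Groth.Agent.Helper9.ZarEtCoh
import Groth.Agent.Helper4.EtGeom
import Groth.Agent.Helper9.EtJCont

/-!
# Étale cohomology of `G_a` is Zariski cohomology of the structure sheaf
-/

set_option autoImplicit false
set_option linter.style.haveILetI false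
set_option linter.unusedSectionVars false
set_option linter.unusedVariables false
set_option linter.unusedSimpArgs false

universe w' w v u₁ u

open CategoryTheory CategoryTheory.Limits Opposite AlgebraicGeometry TopologicalSpace
  CategoryTheory.Abelian

namespace Groth.Agent.Helper6.UnivZarB

open Groth.Agent.Helper1.DeltaCmp Groth.Agent.Helper6.ZarEpsB

section Gen

variable {C : Type u₁} [Category.{v} C] {J : GrothendieckTopology C}
  [HasSheafify J AddCommGrpCat.{w}] [HasExt.{w'} (Sheaf J AddCommGrpCat.{w})]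

/-- cohomology of isomorphic sheaves -/
noncomputable def HCongr {F G : Sheaf J AddCommGrpCat.{w}} (e : F ≅ G) (n : ℕ) :
    Sheaf.H.{w'} F n ≃+ Sheaf.H.{w'} G n :=
  ((extFunctorObj ((constantSheaf J AddCommGrpCat.{w}).obj (AddCommGrpCat.of (ULift ℤ))) n).mapIso
    e).addCommGroupIsoToAddEquiv

end Gen

/-- open coverings are étale coverings -/
instance zarCont (X : Scheme.{u}) : EtZar.ZarCont X := by
  refine (Functor.isContinuous_iff_coverPreserving ..).2 ⟨?_⟩
  intro U S hS
  rw [Groth.Agent.Helper4.EtGeom.mem_iff]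
  rintro ⟨x1, hx1⟩
  obtain ⟨V, f, hf, hxV⟩ := hS x1 hx1
  refine ⟨(EtZar.zarToEt X).obj V, (EtZar.zarToEt X).map f, ⟨x1, hxV⟩, ?_, ?_⟩
  · exact ⟨V, f, 𝟙 _, hf, (Category.id_comp _).symm⟩
  · exact Scheme.homOfLE_apply' f.le x1 hxV

variable (X : Scheme.{u})

/-- the constant sheaf `ℤ` on the small étale site -/
noncomputable abbrev ZE : EtCoh.Ab X :=
  (constantSheaf X.smallEtaleTopology AddCommGrpCat.{u + 1}).obj (AddCommGrpCat.of (ULift ℤ))

/-- `F ↦ H^n(X_et, F)` -/
noncomputable abbrev T (n : ℕ) : EtCoh.Ab X ⥤ AddCommGrpCat.{u + 1} :=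
  extSeq (𝟭 (EtCoh.Ab X)) (ZE X) n

/-- `F ↦ H^n(X_zar, F|)` -/
noncomputable abbrev T' (n : ℕ) : EtCoh.Ab X ⥤ AddCommGrpCat.{u + 1} :=
  extSeq (EtZar.resZar X) (UnivZarA.Zv X) n

/-- global sections -/
noncomputable abbrev Γ : EtCoh.Ab X ⥤ AddCommGrpCat.{u + 1} :=
  sheafToPresheaf X.smallEtaleTopology AddCommGrpCat.{u + 1} ⋙
    (evaluation X.Etaleᵒᵖ AddCommGrpCat.{u + 1}).obj (op ((EtZar.zarToEt X).obj ⊤))

noncomputable def e₀ : T X 0 ≅ Γ X :=
  NatIso.ofComponents
    (fun F => (Sheaf.H.equiv₀ F (Groth.Agent.Helper9.ZarEtCoh.isTerminalZarTop X)).toAddCommGrpIso)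
    (by
      intro F G φ
      apply AddCommGrpCat.hom_ext
      apply AddMonoidHom.ext
      intro x
      exact (Sheaf.H.equiv₀_naturality (Groth.Agent.Helper9.ZarEtCoh.isTerminalZarTop X) φ x).symm)

noncomputable def e₀' : T' X 0 ≅ Γ X :=
  NatIso.ofComponents
    (fun F => (Sheaf.H.equiv₀ ((EtZar.resZar X).obj F)
      (isTerminalTop : IsTerminal (⊤ : X.Opens))).toAddCommGrpIso)
    (by
      intro F G φ
      apply AddCommGrpCat.hom_ext
      apply AddMonoidHom.ext
      intro x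
      exact (Sheaf.H.equiv₀_naturality (isTerminalTop : IsTerminal (⊤ : X.Opens))
        ((EtZar.resZar X).map φ) x).symm)

theorem nonempty_iso (n : ℕ) (F : EtCoh.Ab X) (hF : Acyc F) :
    Nonempty ((T X n).obj F ≅ (T' X n).obj F) := by
  refine Groth.Agent.Helper1.DeltaCmp.nonempty_iso (T := T X) (T' := T' X) Acyc
    ((e₀ X).trans (e₀' X).symm) ?_ n F hF
  intro F hF
  let S' : ShortComplex (EtCoh.Ab X) :=
    ShortComplex.mk (Injective.ι F) (cokernel.π (Injective.ι F)) (cokernel.condition _)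
  have hS : S'.ShortExact :=
    { exact := ShortComplex.exact_cokernel _
      mono_f := by dsimp [S']; infer_instance
      epi_g := by dsimp [S']; infer_instance }
  haveI : Injective S'.X₂ := by dsimp [S']; infer_instance
  haveI : Injective ((EtZar.resZar X).obj S'.X₂) :=
    Groth.Agent.Helper6.ZarEpsA.injective_resZar X S'.X₂
  refine ⟨{ S := S', iso := rfl, mem := acyc_X₃ hS hF, zero := ?_, zero' := ?_,
            les := hasLES_extSeq _ _ S' hS,
            les' := UnivZarA.hasLES_of_shortExact' _ _ S'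
              (Groth.Agent.Helper6.ZarEpsC.shortExact_resZar X hS hF) }⟩
  · intro n
    have : Subsingleton ((T X (n + 1)).obj S'.X₂) :=
      subsingleton_of_forall_eq 0 fun (x : Ext.{u + 1} (ZE X) S'.X₂ (n + 1)) =>
        Ext.eq_zero_of_injective x
    exact AddCommGrpCat.isZero_of_subsingleton _
  · intro n
    have : Subsingleton ((T' X (n + 1)).obj S'.X₂) :=
      subsingleton_of_forall_eq 0
        fun (x : Ext.{u + 1} (UnivZarA.Zv X) ((EtZar.resZar X).obj S'.X₂) (n + 1)) =>
          Ext.eq_zero_of_injective x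
    exact AddCommGrpCat.isZero_of_subsingleton _

/-- étale cohomology of a sheaf acyclic on affine étale schemes is the Zariski cohomology of
its restriction -/
theorem main1 (F : EtCoh.Ab X) (hF : Acyc F) (p : ℕ) :
    Nonempty (EtCoh.H X F p ≃+ EtZar.H ((EtZar.resZar X).obj F) p) := by
  obtain ⟨i⟩ := nonempty_iso X p F hF
  exact ⟨i.addCommGroupIsoToAddEquiv⟩

section Ga

variable {U : Scheme.{u}} {X} (j : U ⟶ X) [Etale j]

/-- the restriction of `G_a` along an étale morphism is `G_a` -/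
noncomputable def restrGaIso : (EtShriek.restrAlong j).obj (EtCoh.Ga X) ≅ EtCoh.Ga U :=
  (fullyFaithfulSheafToPresheaf _ _).preimageIso
    (Iso.refl _ : ((EtShriek.restrAlong j).obj (EtCoh.Ga X)).obj ≅ (EtCoh.Ga U).obj)

end Ga

theorem acyc_Ga : Acyc (EtCoh.Ga X) := by
  intro T hT i hi
  haveI : Etale T.hom := T.prop
  haveI : IsAffine T.left := hT
  obtain ⟨p, rfl⟩ : ∃ p, i = p + 1 := ⟨i - 1, by omega⟩
  have e : (EtCoh.pull T.hom).obj (EtCoh.Ga X) ≅ EtCoh.Ga T.left :=
    (Groth.Agent.Helper9.EtShriekOpen.pullIsoRestr T.hom).app _ ≪≫ restrGaIso T.hom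
  haveI : Subsingleton (EtCoh.H T.left (EtCoh.Ga T.left) (p + 1)) :=
    Groth.Agent.Helper6.CartanGenF.main (S := T.left) p
  exact (HCongr e (p + 1)).toEquiv.subsingleton

/-- the additive group functor on commutative rings -/
noncomputable abbrev AA : CommRingCat.{u} ⥤ AddCommGrpCat.{u} :=
  forget₂ CommRingCat RingCat ⋙ forget₂ RingCat AddCommGrpCat

lemma topIso_nat {U V : X.Opensᵒᵖ} (i : U ⟶ V) :
    (X.homOfLE i.unop.le).appTop ≫ (Scheme.Opens.topIso V.unop).hom =
      (Scheme.Opens.topIso U.unop).hom ≫ X.presheaf.map i := by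
  have hle : (V.unop).ι ''ᵁ ⊤ ≤ (U.unop).ι ''ᵁ ⊤ := by
    rw [Scheme.Opens.ι_image_top, Scheme.Opens.ι_image_top]
    exact i.unop.le
  have h1 : (X.homOfLE i.unop.le).appTop = X.presheaf.map (homOfLE hle).op :=
    X.homOfLE_appTop i.unop.le
  have h2 : (X.presheaf.map (homOfLE hle).op :
        X.presheaf.obj (op ((U.unop).ι ''ᵁ ⊤)) ⟶ X.presheaf.obj (op ((V.unop).ι ''ᵁ ⊤))) ≫
      (X.presheaf.map (eqToHom (V.unop).ι_image_top.symm).op :
        X.presheaf.obj (op ((V.unop).ι ''ᵁ ⊤)) ⟶ X.presheaf.obj (op V.unop)) =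
      (X.presheaf.map (eqToHom (U.unop).ι_image_top.symm).op :
        X.presheaf.obj (op ((U.unop).ι ''ᵁ ⊤)) ⟶ X.presheaf.obj (op U.unop)) ≫
        X.presheaf.map i := by
    rw [← Functor.map_comp, ← Functor.map_comp]
    congr 1
  rw [h1]
  exact h2

/-- the Zariski restriction of `G_a` is the lift of the structure sheaf, on presheaves -/
noncomputable def presIso : ((EtZar.resZar X).obj (EtCoh.Ga X)).obj ≅
    ((UnivZarA.Lam X).obj (Coh.toAb (Coh.structureModule X))).obj :=
  NatIso.ofComponents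
    (fun U => (AA ⋙ AddCommGrpCat.uliftFunctor.{u + 1, u}).mapIso (Scheme.Opens.topIso U.unop))
    (by
      intro U V i
      show (AA ⋙ AddCommGrpCat.uliftFunctor.{u + 1, u}).map
          ((X.homOfLE i.unop.le).appTop) ≫
          (AA ⋙ AddCommGrpCat.uliftFunctor.{u + 1, u}).map (Scheme.Opens.topIso V.unop).hom =
        (AA ⋙ AddCommGrpCat.uliftFunctor.{u + 1, u}).map (Scheme.Opens.topIso U.unop).hom ≫
          (AA ⋙ AddCommGrpCat.uliftFunctor.{u + 1, u}).map (X.presheaf.map i)
      rw [← Functor.map_comp, ← Functor.map_comp]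
      congr 1
      exact topIso_nat X i)

/-- the Zariski restriction of `G_a` is the lift of the structure sheaf -/
noncomputable def resGaIso : (EtZar.resZar X).obj (EtCoh.Ga X) ≅
    (UnivZarA.Lam X).obj (Coh.toAb (Coh.structureModule X)) :=
  (fullyFaithfulSheafToPresheaf _ _).preimageIso (presIso X)

/-- étale cohomology of `G_a` is Zariski cohomology of the structure sheaf -/
theorem main (p : ℕ) :
    Nonempty (EtCoh.H X (EtCoh.Ga X) p ≃+ Coh.HH X (Coh.structureModule X) p) := by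
  obtain ⟨e1⟩ := main1 X (EtCoh.Ga X) (acyc_Ga X) p
  obtain ⟨e2⟩ := UnivZarA.main X (Coh.toAb (Coh.structureModule X)) p
  exact ⟨e1.trans ((HCongr (resGaIso X) p).trans e2)⟩

end Groth.Agent.Helper6.UnivZarB
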