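import Mathlib

/-!
# Natural comparison of two effaceable cohomological δ-functors with values in abelian groups

`T, T' : ℕ → A ⥤ Ab` two sequences of functors, `τ n : T n ⟶ T' n` natural transformations,
`𝒜` a class of objects.  If `τ 0` is bijective on all objects and every object `F` of `𝒜` sits in
a short complex `F → I → Q` with `Q` in `𝒜`, on which `T` and `T'` vanish at `I` in positive
degrees and have compatible connecting maps with the usual exactness, then `τ n` is bijective
on all objects of `𝒜`.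
-/

set_option autoImplicit false
set_option linter.style.haveILetI false
set_option linter.unusedSectionVars false
set_option linter.unusedVariables false

namespace Groth.Agent.Helper6.DeltaNat

open CategoryTheory

universe w v u

variable {A : Type u} [Category.{v} A] [Limits.HasZeroMorphisms A]
  (T T' : ℕ → A ⥤ AddCommGrpCat.{w}) (τ : ∀ n, T n ⟶ T' n)

/-- effacement data for a natural comparison -/
structure Eff (𝒜 : A → Prop) (F : A) where
  /-- the short complex `F → I → Q` -/
  S : ShortComplex A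
  iso : S.X₁ = F
  mem : 𝒜 S.X₃
  zero : ∀ n, Subsingleton ((T (n + 1)).obj S.X₂)
  zero' : ∀ n, Subsingleton ((T' (n + 1)).obj S.X₂)
  /-- connecting maps of `T` -/
  δ : ∀ n, (T n).obj S.X₃ →+ (T (n + 1)).obj S.X₁
  /-- connecting maps of `T'` -/
  δ' : ∀ n, (T' n).obj S.X₃ →+ (T' (n + 1)).obj S.X₁
  w : ∀ n z, δ n ((T n).map S.g z) = 0
  surj : ∀ n (x : (T (n + 1)).obj S.X₁), (T (n + 1)).map S.f x = 0 → ∃ y, δ n y = x
  surj' : ∀ n (x : (T' (n + 1)).obj S.X₁), (T' (n + 1)).map S.f x = 0 → ∃ y, δ' n y = x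
  ex' : ∀ n (y : (T' n).obj S.X₃), δ' n y = 0 → ∃ z, (T' n).map S.g z = y
  compat : ∀ n y, (τ (n + 1)).app S.X₁ (δ n y) = δ' n ((τ n).app S.X₃ y)

variable {T T' τ}

theorem bijective (𝒜 : A → Prop) (h0 : ∀ F, Function.Bijective ((τ 0).app F))
    (hE : ∀ F, 𝒜 F → Nonempty (Eff T T' τ 𝒜 F)) :
    ∀ (n : ℕ) (F : A), 𝒜 F → Function.Bijective ((τ n).app F)
  | 0, F, _ => h0 F
  | n + 1, F, hF => by
    obtain ⟨E⟩ := hE F hF
    obtain ⟨S, rfl, mem, zero, zero', δ, δ', w, surj, surj', ex', compat⟩ := E
    have ih := bijective 𝒜 h0 hE n S.X₃ mem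
    have hsurj2 : Function.Surjective ((τ n).app S.X₂) := by
      cases n with
      | zero => exact (h0 S.X₂).2
      | succ m =>
        intro z
        exact ⟨0, @Subsingleton.elim _ (zero' m) _ _⟩
    constructor
    · refine (injective_iff_map_eq_zero ((τ (n + 1)).app S.X₁).hom).2 ?_
      intro x hx
      obtain ⟨y, rfl⟩ := surj n x (@Subsingleton.elim _ (zero n) _ _)
      have h1 : δ' n ((τ n).app S.X₃ y) = 0 := by
        rw [← compat]
        exact hx
      obtain ⟨z', hz'⟩ := ex' n _ h1
      obtain ⟨z, rfl⟩ := hsurj2 z'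
      have h2 : (τ n).app S.X₃ ((T n).map S.g z) = (τ n).app S.X₃ y := by
        rw [← hz']
        exact NatTrans.naturality_apply (τ n) S.g z
      have h3 := ih.1 h2
      rw [← h3, w]
    · intro x'
      obtain ⟨y', rfl⟩ := surj' n x' (@Subsingleton.elim _ (zero' n) _ _)
      obtain ⟨y, rfl⟩ := ih.2 y'
      exact ⟨δ n y, compat n y⟩

end Groth.Agent.Helper6.DeltaNat
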