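import Mathlib
import Groth.Agent.Helper6.UnivZarA
import Groth.Agent.Helper6.DeltaNat

/-!
# The natural comparison between Zariski cohomology in two universes

`theta X n F : ULift (H^n(F)) → H^n(ΛF)` is natural in `F` and bijective.
-/

set_option autoImplicit false
set_option linter.style.haveILetI false
set_option linter.unusedSectionVars false
set_option linter.unusedVariables false
set_option linter.unusedSimpArgs false

universe u

open CategoryTheory CategoryTheory.Limits Opposite AlgebraicGeometry TopologicalSpace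
  CategoryTheory.Abelian

namespace Groth.Agent.Helper6.UnivZarC

open Groth.Agent.Helper6.UnivZarA Groth.Agent.Helper6.DeltaNat Groth.Agent.Helper1.DeltaCmp

section ExtLES

universe w v₁ v₂ u₁ u₂

variable {A : Type u₁} [Category.{v₁} A] [Abelian A] {B : Type u₂} [Category.{v₂} B] [Abelian B]
  [HasExt.{w} B] (G : A ⥤ B) [G.Additive] (P : B) (S : ShortComplex A)
  (hS' : (S.map G).ShortExact)

/-- the connecting map of `Ext(P, G -)` -/
noncomputable def del (n : ℕ) : (extSeq G P n).obj S.X₃ →+ (extSeq G P (n + 1)).obj S.X₁ :=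
  hS'.extClass.postcomp P rfl

lemma del_apply (n : ℕ) (y : Ext P (G.obj S.X₃) n) :
    del G P S hS' n y = y.comp hS'.extClass rfl := rfl

lemma extSeq_map_apply {F F' : A} (φ : F ⟶ F') (n : ℕ) (x : Ext P (G.obj F) n) :
    (extSeq G P n).map φ x = x.comp (Ext.mk₀ (G.map φ)) (add_zero n) := rfl

lemma del_w (n : ℕ) (z : (extSeq G P n).obj S.X₂) :
    del G P S hS' n ((extSeq G P n).map S.g z) = 0 := by
  have hz : ∀ z' : Ext P (S.map G).X₂ n,
      (z'.comp (Ext.mk₀ (S.map G).g) (add_zero n)).comp hS'.extClass rfl = 0 := by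
    intro z'
    rw [Ext.comp_assoc _ _ _ (add_zero n) (zero_add 1) (by omega), hS'.comp_extClass,
      Ext.comp_zero]
  exact hz z

lemma del_surj (n : ℕ) (x : (extSeq G P (n + 1)).obj S.X₁)
    (h : (extSeq G P (n + 1)).map S.f x = 0) : ∃ y, del G P S hS' n y = x :=
  Ext.covariant_sequence_exact₁ P hS' x h rfl

lemma del_ex (n : ℕ) (y : (extSeq G P n).obj S.X₃) (h : del G P S hS' n y = 0) :
    ∃ z, (extSeq G P n).map S.g z = y :=
  Ext.covariant_sequence_exact₃ P hS' y rfl h

end ExtLES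

section Plain

universe w v₂ u₂

variable {B : Type u₂} [Category.{v₂} B] [Abelian B] [HasExt.{w} B] (P : B)
  {S : ShortComplex B} (hS : S.ShortExact)

/-- the connecting map of `Ext(P, -)` -/
noncomputable def del0 (n : ℕ) : Ext P S.X₃ n →+ Ext P S.X₁ (n + 1) :=
  hS.extClass.postcomp P rfl

lemma del0_apply (n : ℕ) (y : Ext P S.X₃ n) : del0 P hS n y = y.comp hS.extClass rfl := rfl

lemma del0_w (n : ℕ) (z : Ext P S.X₂ n) :
    del0 P hS n (z.comp (Ext.mk₀ S.g) (add_zero n)) = 0 := by
  rw [del0_apply, Ext.comp_assoc _ _ _ (add_zero n) (zero_add 1) (by omega), hS.comp_extClass,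
    Ext.comp_zero]

lemma del0_surj (n : ℕ) (x : Ext P S.X₁ (n + 1))
    (h : x.comp (Ext.mk₀ S.f) (add_zero (n + 1)) = 0) : ∃ y, del0 P hS n y = x :=
  Ext.covariant_sequence_exact₁ P hS x h rfl

lemma del0_ex (n : ℕ) (y : Ext P S.X₃ n) (h : del0 P hS n y = 0) :
    ∃ z : Ext P S.X₂ n, z.comp (Ext.mk₀ S.g) (add_zero n) = y :=
  Ext.covariant_sequence_exact₃ P hS y rfl h

end Plain

variable (X : Scheme.{u})

instance presSheafification : (Opens.grothendieckTopology X).PreservesSheafification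
    AddCommGrpCat.uliftFunctor.{u + 1, u} where
  le := by
    intro P₁ P₂ f hf
    rw [MorphismProperty.inverseImage_iff]
    rw [GrothendieckTopology.W_iff_isLocallyBijective] at hf ⊢
    obtain ⟨hi, hs⟩ := hf
    constructor
    · refine ⟨fun {U} s t h => ?_⟩
      have h' : f.app U (ULift.down s) = f.app U (ULift.down t) := congrArg ULift.down h
      refine (Opens.grothendieckTopology X).superset_covering ?_
        (hi.equalizerSieve_mem (ULift.down s) (ULift.down t) h')
      intro V g hg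
      exact congrArg ULift.up hg
    · refine ⟨fun {U} s => ?_⟩
      refine (Opens.grothendieckTopology X).superset_covering ?_
        (hs.imageSieve_mem (ULift.down s))
      rintro V g ⟨t, ht⟩
      exact ⟨ULift.up t, congrArg ULift.up ht⟩

instance pfcLam : PreservesFiniteColimits (Lam X) :=
  ((Lam X).preservesFiniteColimits_iff_forall_exact_map_and_epi).2
    (fun S hS => ⟨(shortExact_Lam X hS).exact, (shortExact_Lam X hS).epi_g⟩)

/-- the lift of the small constant sheaf `ℤ` is the large constant sheaf `ℤ` -/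
noncomputable def iota : (Lam X).obj (Zu X) ≅ Zv X :=
  (constantCommuteCompose (Opens.grothendieckTopology X)
      AddCommGrpCat.uliftFunctor.{u + 1, u}).app (AddCommGrpCat.of (ULift.{u} ℤ)) ≪≫
    (constantSheaf (Opens.grothendieckTopology X) AddCommGrpCat.{u + 1}).mapIso
      ((AddEquiv.ulift.trans (AddEquiv.ulift.trans AddEquiv.ulift.symm)).toAddCommGrpIso)

/-- the comparison map, as an additive map -/
noncomputable def tauHom (n : ℕ) (F : Shu X) :
    ULift.{u + 1} (Ext.{u} (Zu X) F n) →+ Ext.{u + 1} (Zv X) ((Lam X).obj F) n :=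
  ((Ext.mk₀ (iota X).inv).precomp ((Lam X).obj F) (zero_add n)).comp
    (((Lam X).mapExtAddHom (Zu X) F n).comp AddEquiv.ulift.toAddMonoidHom)

lemma tauHom_apply (n : ℕ) (F : Shu X) (x : ULift.{u + 1} (Ext.{u} (Zu X) F n)) :
    tauHom X n F x =
      (Ext.mk₀ (iota X).inv).comp ((ULift.down x).mapExactFunctor (Lam X)) (zero_add n) := rfl

/-- the comparison map, as a natural transformation -/
noncomputable def tau (n : ℕ) : T X n ⟶ T' X n where
  app F := AddCommGrpCat.ofHom (tauHom X n F)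
  naturality F G φ := by
    ext x
    show tauHom X n G (ULift.up ((ULift.down x).comp (Ext.mk₀ φ) (add_zero n))) =
      (tauHom X n F x).comp (Ext.mk₀ ((Lam X).map φ)) (add_zero n)
    rw [tauHom_apply, tauHom_apply, Ext.mapExactFunctor_comp, Ext.mapExactFunctor_mk₀]
    exact (Ext.comp_assoc _ _ _ (zero_add n) (add_zero n) (by omega)).symm

lemma tau_app_apply (n : ℕ) (F : Shu X) (x : ULift.{u + 1} (Ext.{u} (Zu X) F n)) :
    (tau X n).app F x = tauHom X n F x := rfl

lemma tau0_bijective (F : Shu X) : Function.Bijective ((tau X 0).app F) := by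
  constructor
  · intro x x' h
    have h' : tauHom X 0 F x = tauHom X 0 F x' := h
    obtain ⟨f, hf⟩ := (Ext.mk₀_bijective _ _).2 (ULift.down x)
    obtain ⟨f', hf'⟩ := (Ext.mk₀_bijective _ _).2 (ULift.down x')
    rw [tauHom_apply, tauHom_apply, ← hf, ← hf', Ext.mapExactFunctor_mk₀,
      Ext.mapExactFunctor_mk₀, Ext.mk₀_comp_mk₀, Ext.mk₀_comp_mk₀] at h'
    have h2 := (Ext.mk₀_bijective _ _).1 h'
    have h3 : (Lam X).map f = (Lam X).map f' := (cancel_epi (iota X).inv).1 h2
    have h4 := (Lam X).map_injective h3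
    apply ULift.ext
    rw [← hf, ← hf', h4]
  · intro y
    obtain ⟨g, rfl⟩ := (Ext.mk₀_bijective _ _).2 y
    obtain ⟨f, hf⟩ := (Lam X).map_surjective ((iota X).hom ≫ g)
    refine ⟨ULift.up (Ext.mk₀ f), ?_⟩
    show tauHom X 0 F _ = _
    rw [tauHom_apply, Ext.mapExactFunctor_mk₀, Ext.mk₀_comp_mk₀, hf, Iso.inv_hom_id_assoc]

lemma compat_aux (n : ℕ) {S' : ShortComplex (Shu X)} (hS : S'.ShortExact)
    (hS2 : (S'.map (Lam X)).ShortExact) (y : Ext.{u} (Zu X) S'.X₃ n) :
    (Ext.mk₀ (iota X).inv).comp ((y.comp hS.extClass rfl).mapExactFunctor (Lam X))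
        (zero_add (n + 1)) =
      ((Ext.mk₀ (iota X).inv).comp (y.mapExactFunctor (Lam X)) (zero_add n)).comp
        hS2.extClass rfl := by
  rw [Ext.mapExactFunctor_comp, Ext.mapExactFunctor_extClass (Lam X) hS]
  exact (Ext.comp_assoc _ _ _ (zero_add n) rfl (by omega)).symm

/-- the connecting map of the small side -/
noncomputable def delT {S' : ShortComplex (Shu X)} (hS : S'.ShortExact) (n : ℕ) :
    (T X n).obj S'.X₃ →+ (T X (n + 1)).obj S'.X₁ :=
  (AddEquiv.ulift.symm.toAddMonoidHom.comp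
    ((del0 (Zu X) hS n).comp AddEquiv.ulift.toAddMonoidHom) :
      ULift.{u + 1} (Ext.{u} (Zu X) S'.X₃ n) →+ ULift.{u + 1} (Ext.{u} (Zu X) S'.X₁ (n + 1)))

lemma delT_apply {S' : ShortComplex (Shu X)} (hS : S'.ShortExact) (n : ℕ)
    (y : ULift.{u + 1} (Ext.{u} (Zu X) S'.X₃ n)) :
    delT X hS n y = ULift.up ((ULift.down y).comp hS.extClass rfl) := rfl

lemma T_map_apply {F G : Shu X} (φ : F ⟶ G) (n : ℕ) (x : ULift.{u + 1} (Ext.{u} (Zu X) F n)) :
    (T X n).map φ x = ULift.up ((ULift.down x).comp (Ext.mk₀ φ) (add_zero n)) := rfl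

lemma delT_w {S' : ShortComplex (Shu X)} (hS : S'.ShortExact) (n : ℕ)
    (z : (T X n).obj S'.X₂) : delT X hS n ((T X n).map S'.g z) = 0 := by
  have hz : ∀ z' : ULift.{u + 1} (Ext.{u} (Zu X) S'.X₂ n),
      delT X hS n ((T X n).map S'.g z') = 0 := by
    intro z'
    rw [T_map_apply, delT_apply]
    exact congrArg ULift.up (del0_w (Zu X) hS n (ULift.down z'))
  exact hz z

lemma delT_surj {S' : ShortComplex (Shu X)} (hS : S'.ShortExact) (n : ℕ)
    (x : (T X (n + 1)).obj S'.X₁) (h : (T X (n + 1)).map S'.f x = 0) :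
    ∃ y, delT X hS n y = x := by
  have hx : ∀ x' : ULift.{u + 1} (Ext.{u} (Zu X) S'.X₁ (n + 1)),
      (T X (n + 1)).map S'.f x' = 0 → ∃ y, delT X hS n y = x' := by
    intro x' h'
    rw [T_map_apply] at h'
    obtain ⟨y, hy⟩ := del0_surj (Zu X) hS n (ULift.down x') (congrArg ULift.down h')
    exact ⟨ULift.up y, congrArg ULift.up hy⟩
  exact hx x h

lemma compat_T {S' : ShortComplex (Shu X)} (hS : S'.ShortExact)
    (hS2 : (S'.map (Lam X)).ShortExact) (n : ℕ) (y : (T X n).obj S'.X₃) :
    (tau X (n + 1)).app S'.X₁ (delT X hS n y) =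
      del (Lam X) (Zv X) S' hS2 n ((tau X n).app S'.X₃ y) := by
  have hy : ∀ y' : ULift.{u + 1} (Ext.{u} (Zu X) S'.X₃ n),
      tauHom X (n + 1) S'.X₁ (delT X hS n y') =
        (tauHom X n S'.X₃ y').comp hS2.extClass rfl := by
    intro y'
    rw [delT_apply, tauHom_apply, tauHom_apply]
    exact compat_aux X n hS hS2 (ULift.down y')
  exact hy y

/-- the effacement data -/
noncomputable def eff (F : Shu X) : Eff (T X) (T' X) (tau X) (fun _ => True) F :=
  haveI : Injective (CartanGenA.Ssh F).X₂ := by dsimp [CartanGenA.Ssh]; infer_instance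
  have hS := CartanGenA.hSsh F
  have hS2 : ((CartanGenA.Ssh F).map (Lam X)).ShortExact := hS.map_of_exact _
  { S := CartanGenA.Ssh F
    iso := rfl
    mem := trivial
    zero := fun n =>
      haveI : Subsingleton (Ext.{u} (Zu X) (CartanGenA.Ssh F).X₂ (n + 1)) :=
        subsingleton_of_forall_eq 0 fun x => Ext.eq_zero_of_injective x
      (inferInstance :
        Subsingleton (ULift.{u + 1} (Ext.{u} (Zu X) (CartanGenA.Ssh F).X₂ (n + 1))))
    zero' := fun n => subsingleton_H_Lam X (CartanGenA.Ssh F).X₂ n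
    δ := delT X hS
    δ' := del (Lam X) (Zv X) _ hS2
    w := delT_w X hS
    surj := delT_surj X hS
    surj' := del_surj (Lam X) (Zv X) _ hS2
    ex' := del_ex (Lam X) (Zv X) _ hS2
    compat := compat_T X hS hS2 }

/-- the comparison map is bijective -/
theorem tau_bijective (n : ℕ) (F : Shu X) : Function.Bijective ((tau X n).app F) :=
  DeltaNat.bijective (fun _ => True) (tau0_bijective X) (fun F _ => ⟨eff X F⟩) n F trivial

end Groth.Agent.Helper6.UnivZarC
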