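import Mathlib
import Groth.Agent.Helper6.UnivZarB
import Groth.Agent.Helper6.UnivZarC

/-!
# The natural comparison from Zariski cohomology of the restriction to étale cohomology

`cHom X n F : H^n(X_zar, F|) → H^n(X_et, F)` is natural in `F`, and bijective when `F` is
acyclic on affine étale schemes.
-/

set_option autoImplicit false
set_option linter.style.haveILetI false
set_option linter.unusedSectionVars false
set_option linter.unusedVariables false
set_option linter.unusedSimpArgs false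

universe u

open CategoryTheory CategoryTheory.Limits Opposite AlgebraicGeometry TopologicalSpace
  CategoryTheory.Abelian

namespace Groth.Agent.Helper6.UnivZarD

open Groth.Agent.Helper6.UnivZarA Groth.Agent.Helper6.UnivZarB Groth.Agent.Helper6.UnivZarC
  Groth.Agent.Helper6.DeltaNat Groth.Agent.Helper1.DeltaCmp Groth.Agent.Helper6.ZarEpsB

section Gen

universe w w' v₁ v₂ u₁ u₂

variable {C : Type u₁} [Category.{v₁} C] [Abelian C] [HasExt.{w} C]
  {D : Type u₂} [Category.{v₂} D] [Abelian D] [HasExt.{w'} D]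
  (L : C ⥤ D) [L.Additive] [PreservesFiniteLimits L] [PreservesFiniteColimits L]

lemma compat_gen {P A₃ A₁ : C} {P' B₃ B₁ : D} (k : Ext.{w'} P' (L.obj P) 0)
    (E : Ext.{w} A₃ A₁ 1) (E' : Ext.{w'} B₃ B₁ 1) (c₃ : L.obj A₃ ⟶ B₃) (c₁ : L.obj A₁ ⟶ B₁)
    (h : (E.mapExactFunctor L).comp (Ext.mk₀ c₁) (add_zero 1) =
      (Ext.mk₀ c₃).comp E' (zero_add 1))
    (n : ℕ) (y : Ext.{w} P A₃ n) :
    k.comp (((y.comp E rfl).mapExactFunctor L).comp (Ext.mk₀ c₁) (add_zero (n + 1)))
        (zero_add (n + 1)) =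
      (k.comp ((y.mapExactFunctor L).comp (Ext.mk₀ c₃) (add_zero n)) (zero_add n)).comp
        E' rfl := by
  rw [Ext.mapExactFunctor_comp, Ext.comp_assoc_of_third_deg_zero, h,
    ← Ext.comp_assoc _ _ _ (add_zero n) (zero_add 1) (by omega)]
  exact (Ext.comp_assoc _ _ _ (zero_add n) rfl (by omega)).symm

end Gen

variable (X : Scheme.{u})

/-- the inverse image from the Zariski site to the small étale site -/
noncomputable abbrev epsPull : EtZar.Ab X ⥤ EtCoh.Ab X :=
  (EtZar.zarToEt X).sheafPullback AddCommGrpCat.{u + 1} (Opens.grothendieckTopology X)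
    X.smallEtaleTopology

/-- the adjunction between inverse image and restriction -/
noncomputable abbrev epsAdj : epsPull X ⊣ EtZar.resZar X :=
  (EtZar.zarToEt X).sheafAdjunctionContinuous AddCommGrpCat.{u + 1}
    (Opens.grothendieckTopology X) X.smallEtaleTopology

instance pflEps : PreservesFiniteLimits (epsPull X) :=
  Groth.Agent.Helper6.ZarEpsA.preservesFiniteLimits_pullback X

instance pfcEps : PreservesFiniteColimits (epsPull X) :=
  have : PreservesColimitsOfSize.{0, 0} (epsPull X) := (epsAdj X).leftAdjoint_preservesColimits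
  PreservesColimitsOfSize.preservesFiniteColimits _

instance addEps : (epsPull X).Additive := Functor.additive_of_preserves_binary_products _

/-- sections over the top open of the restriction are sections over `X` -/
noncomputable def secIso :
    EtZar.resZar X ⋙ (sheafSections (Opens.grothendieckTopology X) AddCommGrpCat.{u + 1}).obj
        (op (⊤ : X.Opens)) ≅
      (sheafSections X.smallEtaleTopology AddCommGrpCat.{u + 1}).obj
        (op ((EtZar.zarToEt X).obj ⊤)) :=
  NatIso.ofComponents (fun F => Iso.refl _) (by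
    intro F G φ
    exact (Category.comp_id _).trans (Category.id_comp _).symm)

/-- the inverse image of the constant sheaf `ℤ` is the constant sheaf `ℤ` -/
noncomputable def kappa : ZE X ≅ (epsPull X).obj (Zv X) :=
  ((constantSheafAdj X.smallEtaleTopology AddCommGrpCat.{u + 1}
      (Groth.Agent.Helper9.ZarEtCoh.isTerminalZarTop X)).leftAdjointUniq
    (((constantSheafAdj (Opens.grothendieckTopology X) AddCommGrpCat.{u + 1}
      (isTerminalTop : IsTerminal (⊤ : X.Opens))).comp (epsAdj X)).ofNatIsoRight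
        (secIso X))).app (AddCommGrpCat.of (ULift ℤ))

/-- the comparison map -/
noncomputable def cHom (n : ℕ) (F : EtCoh.Ab X) :
    Ext.{u + 1} (Zv X) ((EtZar.resZar X).obj F) n →+ Ext.{u + 1} (ZE X) F n :=
  ((Ext.mk₀ (kappa X).hom).precomp F (zero_add n)).comp
    (((Ext.mk₀ ((epsAdj X).counit.app F)).postcomp ((epsPull X).obj (Zv X)) (add_zero n)).comp
      ((epsPull X).mapExtAddHom (Zv X) ((EtZar.resZar X).obj F) n))

lemma cHom_apply (n : ℕ) (F : EtCoh.Ab X) (x : Ext.{u + 1} (Zv X) ((EtZar.resZar X).obj F) n) :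
    cHom X n F x = (Ext.mk₀ (kappa X).hom).comp
      ((x.mapExactFunctor (epsPull X)).comp (Ext.mk₀ ((epsAdj X).counit.app F)) (add_zero n))
      (zero_add n) := rfl

lemma cHom_natural (n : ℕ) {F G : EtCoh.Ab X} (φ : F ⟶ G)
    (x : Ext.{u + 1} (Zv X) ((EtZar.resZar X).obj F) n) :
    cHom X n G (x.comp (Ext.mk₀ ((EtZar.resZar X).map φ)) (add_zero n)) =
      (cHom X n F x).comp (Ext.mk₀ φ) (add_zero n) := by
  have hc : (epsPull X).map ((EtZar.resZar X).map φ) ≫ (epsAdj X).counit.app G =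
      (epsAdj X).counit.app F ≫ φ := (epsAdj X).counit.naturality φ
  have hL : cHom X n G (x.comp (Ext.mk₀ ((EtZar.resZar X).map φ)) (add_zero n)) =
      (Ext.mk₀ (kappa X).hom).comp ((x.mapExactFunctor (epsPull X)).comp
        (Ext.mk₀ ((epsAdj X).counit.app F ≫ φ)) (add_zero n)) (zero_add n) := by
    rw [cHom_apply, Ext.mapExactFunctor_comp, Ext.mapExactFunctor_mk₀,
      Ext.comp_assoc_of_third_deg_zero, Ext.mk₀_comp_mk₀, hc]
  have hR : (cHom X n F x).comp (Ext.mk₀ φ) (add_zero n) =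
      (Ext.mk₀ (kappa X).hom).comp ((x.mapExactFunctor (epsPull X)).comp
        (Ext.mk₀ ((epsAdj X).counit.app F ≫ φ)) (add_zero n)) (zero_add n) := by
    rw [cHom_apply, Ext.comp_assoc_of_third_deg_zero, Ext.comp_assoc_of_third_deg_zero,
      Ext.mk₀_comp_mk₀]
  exact hL.trans hR.symm

lemma cHom0_bijective (F : EtCoh.Ab X) : Function.Bijective (cHom X 0 F) := by
  have key : ∀ f : Zv X ⟶ (EtZar.resZar X).obj F, cHom X 0 F (Ext.mk₀ f) =
      Ext.mk₀ ((kappa X).hom ≫ ((epsAdj X).homEquiv _ _).symm f) := by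
    intro f
    rw [cHom_apply, Ext.mapExactFunctor_mk₀, Ext.mk₀_comp_mk₀, Ext.mk₀_comp_mk₀,
      Adjunction.homEquiv_counit]
  constructor
  · intro x x' h
    obtain ⟨f, rfl⟩ := (Ext.mk₀_bijective _ _).2 x
    obtain ⟨f', rfl⟩ := (Ext.mk₀_bijective _ _).2 x'
    rw [key, key] at h
    have h2 := (Ext.mk₀_bijective _ _).1 h
    have h3 := (cancel_epi (kappa X).hom).1 h2
    rw [((epsAdj X).homEquiv _ _).symm.injective h3]
  · intro y
    obtain ⟨g, rfl⟩ := (Ext.mk₀_bijective _ _).2 y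
    refine ⟨Ext.mk₀ ((epsAdj X).homEquiv _ _ ((kappa X).inv ≫ g)), ?_⟩
    rw [key, Equiv.symm_apply_apply, Iso.hom_inv_id_assoc]

/-- the functors `F ↦ H^n(X_zar, F|)` -/
noncomputable abbrev Tz (n : ℕ) : EtCoh.Ab X ⥤ AddCommGrpCat.{u + 1} :=
  extSeq (EtZar.resZar X) (Zv X) n

/-- the functors `F ↦ H^n(X_et, F)` -/
noncomputable abbrev Te (n : ℕ) : EtCoh.Ab X ⥤ AddCommGrpCat.{u + 1} :=
  extSeq (𝟭 (EtCoh.Ab X)) (ZE X) n

lemma Te_map_apply {F G : EtCoh.Ab X} (φ : F ⟶ G) (n : ℕ) (x : Ext.{u + 1} (ZE X) F n) :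
    (Te X n).map φ x = x.comp (Ext.mk₀ φ) (add_zero n) := rfl

lemma Tz_map_apply {F G : EtCoh.Ab X} (φ : F ⟶ G) (n : ℕ)
    (x : Ext.{u + 1} (Zv X) ((EtZar.resZar X).obj F) n) :
    (Tz X n).map φ x = x.comp (Ext.mk₀ ((EtZar.resZar X).map φ)) (add_zero n) := rfl

/-- the comparison map as a natural transformation -/
noncomputable def tauC (n : ℕ) : Tz X n ⟶ Te X n where
  app F := AddCommGrpCat.ofHom (cHom X n F)
  naturality F G φ := by
    ext x
    exact cHom_natural X n φ x

/-- the connecting map of the étale side -/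
noncomputable def delE {S' : ShortComplex (EtCoh.Ab X)} (hS : S'.ShortExact) (n : ℕ) :
    (Te X n).obj S'.X₃ →+ (Te X (n + 1)).obj S'.X₁ :=
  (del0 (ZE X) hS n : Ext.{u + 1} (ZE X) S'.X₃ n →+ Ext.{u + 1} (ZE X) S'.X₁ (n + 1))

lemma delE_surj {S' : ShortComplex (EtCoh.Ab X)} (hS : S'.ShortExact) (n : ℕ)
    (x : (Te X (n + 1)).obj S'.X₁) (h : (Te X (n + 1)).map S'.f x = 0) :
    ∃ y, delE X hS n y = x := by
  have hx : ∀ x' : Ext.{u + 1} (ZE X) S'.X₁ (n + 1),
      (Te X (n + 1)).map S'.f x' = 0 → ∃ y, delE X hS n y = x' := by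
    intro x' h'
    rw [Te_map_apply] at h'
    exact del0_surj (ZE X) hS n x' h'
  exact hx x h

lemma delE_ex {S' : ShortComplex (EtCoh.Ab X)} (hS : S'.ShortExact) (n : ℕ)
    (y : (Te X n).obj S'.X₃) (h : delE X hS n y = 0) :
    ∃ z, (Te X n).map S'.g z = y := by
  have hy : ∀ y' : Ext.{u + 1} (ZE X) S'.X₃ n,
      delE X hS n y' = 0 → ∃ z : Ext.{u + 1} (ZE X) S'.X₂ n, (Te X n).map S'.g z = y' := by
    intro y' h'
    obtain ⟨z, hz⟩ := del0_ex (ZE X) hS n y' h'
    exact ⟨z, hz⟩
  exact hy y h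

/-- the counit morphism of short complexes -/
noncomputable def counitHom (S' : ShortComplex (EtCoh.Ab X)) :
    (S'.map (EtZar.resZar X)).map (epsPull X) ⟶ S' where
  τ₁ := (epsAdj X).counit.app S'.X₁
  τ₂ := (epsAdj X).counit.app S'.X₂
  τ₃ := (epsAdj X).counit.app S'.X₃
  comm₁₂ := ((epsAdj X).counit.naturality S'.f).symm
  comm₂₃ := ((epsAdj X).counit.naturality S'.g).symm

lemma compat_aux {S' : ShortComplex (EtCoh.Ab X)} (hS : S'.ShortExact)
    (hZ : (S'.map (EtZar.resZar X)).ShortExact) (n : ℕ)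
    (y : Ext.{u + 1} (Zv X) ((EtZar.resZar X).obj S'.X₃) n) :
    cHom X (n + 1) S'.X₁ (y.comp hZ.extClass rfl) = (cHom X n S'.X₃ y).comp hS.extClass rfl := by
  have hnat := ShortComplex.ShortExact.extClass_naturality (hZ.map_of_exact (epsPull X)) hS
    (counitHom X S')
  have hnat' : (hZ.map_of_exact (epsPull X)).extClass.comp
      (Ext.mk₀ ((epsAdj X).counit.app S'.X₁)) (add_zero 1) =
      (Ext.mk₀ ((epsAdj X).counit.app S'.X₃)).comp hS.extClass (zero_add 1) := hnat
  have h2 : hZ.extClass.mapExactFunctor (epsPull X) = (hZ.map_of_exact (epsPull X)).extClass :=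
    Ext.mapExactFunctor_extClass (epsPull X) hZ
  exact compat_gen (epsPull X) (Ext.mk₀ (kappa X).hom) hZ.extClass hS.extClass
    ((epsAdj X).counit.app S'.X₃) ((epsAdj X).counit.app S'.X₁)
    ((congrArg (fun t => t.comp (Ext.mk₀ ((epsAdj X).counit.app S'.X₁)) (add_zero 1)) h2).trans
      hnat') n y

lemma compat_C {S' : ShortComplex (EtCoh.Ab X)} (hS : S'.ShortExact)
    (hZ : (S'.map (EtZar.resZar X)).ShortExact) (n : ℕ) (y : (Tz X n).obj S'.X₃) :
    (tauC X (n + 1)).app S'.X₁ (del (EtZar.resZar X) (Zv X) S' hZ n y) =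
      delE X hS n ((tauC X n).app S'.X₃ y) :=
  compat_aux X hS hZ n y

/-- the injective effacement -/
noncomputable abbrev Sinj (F : EtCoh.Ab X) : ShortComplex (EtCoh.Ab X) :=
  ShortComplex.mk (Injective.ι F) (cokernel.π (Injective.ι F)) (cokernel.condition _)

lemma hSinj (F : EtCoh.Ab X) : (Sinj X F).ShortExact :=
  { exact := ShortComplex.exact_cokernel _
    mono_f := by dsimp [Sinj]; infer_instance
    epi_g := by dsimp [Sinj]; infer_instance }

instance (F : EtCoh.Ab X) : Injective (Sinj X F).X₂ := by dsimp [Sinj]; infer_instance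

/-- the effacement data -/
noncomputable def eff (F : EtCoh.Ab X) (hF : Acyc F) : Eff (Tz X) (Te X) (tauC X) Acyc F :=
  have hS := hSinj X F
  have hZ : ((Sinj X F).map (EtZar.resZar X)).ShortExact :=
    Groth.Agent.Helper6.ZarEpsC.shortExact_resZar X hS hF
  haveI : Injective ((EtZar.resZar X).obj (Sinj X F).X₂) :=
    Groth.Agent.Helper6.ZarEpsA.injective_resZar X (Sinj X F).X₂
  { S := Sinj X F
    iso := rfl
    mem := acyc_X₃ hS hF
    zero := fun n =>
      (subsingleton_of_forall_eq 0 fun x => Ext.eq_zero_of_injective x :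
        Subsingleton (Ext.{u + 1} (Zv X) ((EtZar.resZar X).obj (Sinj X F).X₂) (n + 1)))
    zero' := fun n =>
      (subsingleton_of_forall_eq 0 fun x => Ext.eq_zero_of_injective x :
        Subsingleton (Ext.{u + 1} (ZE X) (Sinj X F).X₂ (n + 1)))
    δ := del (EtZar.resZar X) (Zv X) _ hZ
    δ' := delE X hS
    w := del_w (EtZar.resZar X) (Zv X) _ hZ
    surj := del_surj (EtZar.resZar X) (Zv X) _ hZ
    surj' := delE_surj X hS
    ex' := delE_ex X hS
    compat := compat_C X hS hZ }

/-- the comparison map is bijective on sheaves acyclic on affine étale schemes -/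
theorem cHom_bijective (n : ℕ) (F : EtCoh.Ab X) (hF : Acyc F) :
    Function.Bijective (cHom X n F) :=
  DeltaNat.bijective (τ := tauC X) Acyc (cHom0_bijective X) (fun F hF => ⟨eff X F hF⟩) n F hF

end Groth.Agent.Helper6.UnivZarD
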