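import Mathlib
import Groth.Prelude.Def_W4c5etcohweilstudentAS
import Groth.Agent.Helper6.UnivZarD

/-!
# The comparison `H^n(X_et, G_a) ≃ H^n(X, O_X)`, compatible with endomorphisms
-/

set_option autoImplicit false
set_option linter.style.haveILetI false
set_option linter.unusedSectionVars false
set_option linter.unusedVariables false
set_option linter.unusedSimpArgs false

universe u

open CategoryTheory CategoryTheory.Limits Opposite AlgebraicGeometry TopologicalSpace
  CategoryTheory.Abelian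

namespace Groth.Agent.Helper6.UnivZarE

open Groth.Agent.Helper6.UnivZarA Groth.Agent.Helper6.UnivZarB Groth.Agent.Helper6.UnivZarC
  Groth.Agent.Helper6.UnivZarD

variable (X : Scheme.{u})

/-- the structure sheaf as a small abelian sheaf -/
noncomputable abbrev OX : Shu X := Coh.toAb (Coh.structureModule X)

lemma tauHom_natural (n : ℕ) {F G : Shu X} (φ : F ⟶ G) (z : Ext.{u} (Zu X) F n) :
    tauHom X n G (ULift.up (z.comp (Ext.mk₀ φ) (add_zero n))) =
      (tauHom X n F (ULift.up z)).comp (Ext.mk₀ ((Lam X).map φ)) (add_zero n) := by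
  show (Ext.mk₀ (iota X).inv).comp ((z.comp (Ext.mk₀ φ) (add_zero n)).mapExactFunctor (Lam X))
      (zero_add n) =
    ((Ext.mk₀ (iota X).inv).comp (z.mapExactFunctor (Lam X)) (zero_add n)).comp
      (Ext.mk₀ ((Lam X).map φ)) (add_zero n)
  rw [Ext.mapExactFunctor_comp, Ext.mapExactFunctor_mk₀]
  exact (Ext.comp_assoc _ _ _ (zero_add n) (add_zero n) (by omega)).symm

/-- the inverse comparison map -/
noncomputable def Psi (n : ℕ) :
    Coh.HH X (Coh.structureModule X) n →+ EtCoh.H X (EtCoh.Ga X) n :=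
  (cHom X n (EtCoh.Ga X)).comp
    (((Ext.mk₀ (resGaIso X).inv).postcomp (Zv X) (add_zero n)).comp
      ((tauHom X n (OX X)).comp AddEquiv.ulift.symm.toAddMonoidHom))

lemma Psi_apply (n : ℕ) (z : Ext.{u} (Zu X) (OX X) n) :
    Psi X n z = cHom X n (EtCoh.Ga X)
      ((tauHom X n (OX X) (ULift.up z)).comp (Ext.mk₀ (resGaIso X).inv) (add_zero n)) := rfl

lemma Psi_bijective (n : ℕ) : Function.Bijective (Psi X n) := by
  have h1 := cHom_bijective X n _ (acyc_Ga X)
  have h2 : Function.Bijective (fun w : Ext.{u + 1} (Zv X) ((Lam X).obj (OX X)) n =>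
      w.comp (Ext.mk₀ (resGaIso X).inv) (add_zero n)) := by
    refine Function.bijective_iff_has_inverse.2
      ⟨fun w => w.comp (Ext.mk₀ (resGaIso X).hom) (add_zero n), ?_, ?_⟩
    · intro w
      show (w.comp (Ext.mk₀ (resGaIso X).inv) (add_zero n)).comp
        (Ext.mk₀ (resGaIso X).hom) (add_zero n) = w
      rw [Ext.comp_assoc_of_third_deg_zero, Ext.mk₀_comp_mk₀, Iso.inv_hom_id, Ext.comp_mk₀_id]
    · intro w
      show (w.comp (Ext.mk₀ (resGaIso X).hom) (add_zero n)).comp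
        (Ext.mk₀ (resGaIso X).inv) (add_zero n) = w
      rw [Ext.comp_assoc_of_third_deg_zero, Ext.mk₀_comp_mk₀, Iso.hom_inv_id, Ext.comp_mk₀_id]
  have h3 : Function.Bijective (tauHom X n (OX X)) := tau_bijective X n (OX X)
  have h4 : Function.Bijective
      (ULift.up : Ext.{u} (Zu X) (OX X) n → ULift.{u + 1} (Ext.{u} (Zu X) (OX X) n)) :=
    Equiv.ulift.symm.bijective
  exact h1.comp (h2.comp (h3.comp h4))

lemma Psi_natural (n : ℕ) (a : EtCoh.Ga X ⟶ EtCoh.Ga X) (b : OX X ⟶ OX X)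
    (hab : (Lam X).map b ≫ (resGaIso X).inv = (resGaIso X).inv ≫ (EtZar.resZar X).map a)
    (z : Ext.{u} (Zu X) (OX X) n) :
    Psi X n (z.comp (Ext.mk₀ b) (add_zero n)) = (Psi X n z).comp (Ext.mk₀ a) (add_zero n) := by
  rw [Psi_apply, Psi_apply, ← cHom_natural, tauHom_natural,
    Ext.comp_assoc_of_third_deg_zero, Ext.comp_assoc_of_third_deg_zero, Ext.mk₀_comp_mk₀,
    Ext.mk₀_comp_mk₀, hab]

/-- the comparison isomorphism -/
noncomputable def Phi (n : ℕ) :
    EtCoh.H X (EtCoh.Ga X) n ≃+ Coh.HH X (Coh.structureModule X) n :=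
  (AddEquiv.ofBijective (Psi X n) (Psi_bijective X n)).symm

lemma Phi_symm_apply (n : ℕ) (z : Coh.HH X (Coh.structureModule X) n) :
    (Phi X n).symm z = Psi X n z := rfl

/-- the comparison isomorphism is compatible with corresponding endomorphisms -/
theorem Phi_natural (n : ℕ) (a : EtCoh.Ga X ⟶ EtCoh.Ga X) (b : OX X ⟶ OX X)
    (hab : (EtZar.resZar X).map a ≫ (resGaIso X).hom = (resGaIso X).hom ≫ (Lam X).map b)
    (x : EtCoh.H X (EtCoh.Ga X) n) :
    Phi X n (Sheaf.H.map a n x) = Sheaf.H.map b n (Phi X n x) := by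
  have hab' : (Lam X).map b ≫ (resGaIso X).inv = (resGaIso X).inv ≫ (EtZar.resZar X).map a := by
    rw [Iso.comp_inv_eq, Category.assoc, hab, Iso.inv_hom_id_assoc]
  obtain ⟨z, rfl⟩ := (Phi X n).symm.surjective x
  rw [AddEquiv.apply_symm_apply]
  apply (Phi X n).symm.injective
  rw [AddEquiv.symm_apply_apply]
  exact (Psi_natural X n a b hab' z).symm

section Endo

variable {X}

/-- pullback of global functions to an étale scheme -/
noncomputable def rU (U : X.Etale) : Γ(X, ⊤) →+* Γ(U.left, ⊤) := U.hom.appTop.hom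

lemma rU_nat {U V : X.Etale} (g : V ⟶ U) (r : Γ(X, ⊤)) :
    g.left.appTop.hom (rU U r) = rU V r := by
  have h : g.left ≫ U.hom = V.hom := MorphismProperty.Over.w g
  have h2 : V.hom.appTop = U.hom.appTop ≫ g.left.appTop := by
    rw [← h, Scheme.Hom.comp_appTop]
  unfold rU
  rw [h2]
  rfl

lemma smul_nat {U V : X.Etale} (g : V ⟶ U) (r : Γ(X, ⊤)) (x : Γ(U.left, ⊤)) :
    rU V r * g.left.appTop.hom x = g.left.appTop.hom (rU U r * x) := by
  rw [map_mul, rU_nat]

/-- multiplication by a global function on `G_a` -/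
noncomputable def smulGa (r : Γ(X, ⊤)) : EtCoh.Ga X ⟶ EtCoh.Ga X :=
  ⟨{ app := fun U => AddCommGrpCat.uliftFunctor.{u + 1}.map
        (AddCommGrpCat.ofHom (AddMonoidHom.mulLeft (rU U.unop r)))
     naturality := by
       intro U V g
       ext ⟨x⟩
       exact congrArg ULift.up (smul_nat g.unop r x) }⟩

lemma smulGa_app (r : Γ(X, ⊤)) (U : X.Etale) (x : Γ(U.left, ⊤)) :
    (smulGa r).hom.app (op U) (ULift.up x : ULift.{u + 1} Γ(U.left, ⊤)) =
      (ULift.up (rU U r * x) : ULift.{u + 1} Γ(U.left, ⊤)) := rfl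

/-- the `p`-th power map of a ring of characteristic `p`, as an additive map -/
def frobHom (R : Type*) [CommRing R] (p : ℕ) (hp : p.Prime) (h0 : (p : R) = 0) : R →+ R where
  toFun x := x ^ p
  map_zero' := zero_pow hp.ne_zero
  map_add' := W4c5etcohweilstudent.add_pow_prime_of_natCast_eq_zero p hp h0

lemma frob_nat {U V : X.Etale} (g : V ⟶ U) (p : ℕ) (x : Γ(U.left, ⊤)) :
    (g.left.appTop.hom x) ^ p = g.left.appTop.hom (x ^ p) := (map_pow _ _ _).symm

/-- the Frobenius endomorphism of `G_a` -/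
noncomputable def frobGa (p : ℕ) (hp : p.Prime) (h0 : (p : Γ(X, ⊤)) = 0) :
    EtCoh.Ga X ⟶ EtCoh.Ga X :=
  ⟨{ app := fun U => AddCommGrpCat.uliftFunctor.{u + 1}.map
        (AddCommGrpCat.ofHom (frobHom Γ(U.unop.left, ⊤) p hp
          (W4c5etcohweilstudent.natCast_eq_zero_etale p h0 U.unop)))
     naturality := by
       intro U V g
       ext ⟨x⟩
       exact congrArg ULift.up (frob_nat g.unop p x) }⟩

lemma frobGa_app (p : ℕ) (hp : p.Prime) (h0 : (p : Γ(X, ⊤)) = 0) (U : X.Etale)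
    (x : Γ(U.left, ⊤)) :
    (frobGa p hp h0).hom.app (op U) (ULift.up x : ULift.{u + 1} Γ(U.left, ⊤)) =
      (ULift.up (x ^ p) : ULift.{u + 1} Γ(U.left, ⊤)) := rfl

lemma as_add {R : Type*} [CommRing R] (p : ℕ) (x : R) : x ^ p = x ^ p - x + x :=
  (sub_add_cancel _ _).symm

lemma frobGa_eq (p : ℕ) (hp : p.Prime) (h0 : (p : Γ(X, ⊤)) = 0) :
    frobGa p hp h0 = W4c5etcohweilstudent.artinSchreierEndo X p hp h0 + 𝟙 (EtCoh.Ga X) := by
  apply Sheaf.hom_ext
  apply NatTrans.ext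
  funext U
  ext ⟨x⟩
  exact congrArg ULift.up (as_add (R := Γ(U.unop.left, ⊤)) p x)

lemma mul_pow_aux {U : X.Etale} (p : ℕ) (r : Γ(X, ⊤)) (x : Γ(U.left, ⊤)) :
    (rU U r * x) ^ p = rU U (r ^ p) * x ^ p := by
  rw [mul_pow, map_pow]

lemma smulGa_frobGa (p : ℕ) (hp : p.Prime) (h0 : (p : Γ(X, ⊤)) = 0) (r : Γ(X, ⊤)) :
    smulGa r ≫ frobGa p hp h0 = frobGa p hp h0 ≫ smulGa (r ^ p) := by
  apply Sheaf.hom_ext
  apply NatTrans.ext
  funext U
  ext ⟨x⟩
  exact congrArg ULift.up (mul_pow_aux (U := U.unop) p r x)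

end Endo

section Compat

lemma ι_topIso (V : X.Opens) :
    V.ι.appTop ≫ (Scheme.Opens.topIso V).hom = X.presheaf.map (homOfLE (le_top : V ≤ ⊤)).op := by
  have h2 : (X.presheaf.map (homOfLE (le_top : V.ι ''ᵁ ⊤ ≤ ⊤)).op :
        X.presheaf.obj (op ⊤) ⟶ X.presheaf.obj (op (V.ι ''ᵁ ⊤))) ≫
      (X.presheaf.map (eqToHom V.ι_image_top.symm).op :
        X.presheaf.obj (op (V.ι ''ᵁ ⊤)) ⟶ X.presheaf.obj (op V)) =
      X.presheaf.map (homOfLE (le_top : V ≤ ⊤)).op := by
    rw [← Functor.map_comp]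
    congr 1
  exact h2

/-- restriction of global functions to an open subscheme -/
noncomputable def rV (V : X.Opens) : Γ(X, ⊤) →+* Γ(V, ⊤) := V.ι.appTop.hom

lemma key_compat (V : X.Opens) (r : Γ(X, ⊤)) (s : Γ(V, ⊤)) :
    (Scheme.Opens.topIso V).hom.hom (rV X V r * s) =
      (X.presheaf.map (homOfLE (le_top : V ≤ ⊤)).op).hom r *
        (Scheme.Opens.topIso V).hom.hom s := by
  rw [map_mul]
  congr 1
  have h := congrArg (fun f => f.hom r) (ι_topIso X V)
  exact h

lemma smul_compat (r : Γ(X, ⊤)) :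
    (EtZar.resZar X).map (smulGa r) ≫ (resGaIso X).hom =
      (resGaIso X).hom ≫ (Lam X).map (Coh.smulAb (Coh.structureModule X) r) := by
  apply Sheaf.hom_ext
  apply NatTrans.ext
  funext U
  ext ⟨s⟩
  exact congrArg ULift.up (key_compat X U.unop r s)

end Compat

end Groth.Agent.Helper6.UnivZarE
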