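import Mathlib
import Groth.Agent.Helper6.UnivZarE
import Groth.Agent.Helper6.LangA
import Groth.Agent.S0002
import Groth.Agent.Helper1.Dev4

/-!
# Surjectivity of the Artin–Schreier map on `H^q(X, G_a)` for `X` proper over a separably closed
field of characteristic `p`
-/

set_option autoImplicit false
set_option linter.style.haveILetI false
set_option linter.unusedSectionVars false
set_option linter.unusedVariables false
set_option linter.unusedSimpArgs false

universe u

open CategoryTheory CategoryTheory.Limits Opposite AlgebraicGeometry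

namespace Groth.Agent.Helper6.ASFinA

open Groth.Agent.Helper6.UnivZarA Groth.Agent.Helper6.UnivZarB Groth.Agent.Helper6.UnivZarC
  Groth.Agent.Helper6.UnivZarE

section Abs

variable (X : Scheme.{u})

lemma Phi_smulGa (q : ℕ) (r : Γ(X, ⊤)) (x : EtCoh.H X (EtCoh.Ga X) q) :
    Phi X q (Sheaf.H.map (smulGa r) q x) =
      Sheaf.H.map (Coh.smulAb (Coh.structureModule X) r) q (Phi X q x) :=
  Phi_natural X q (smulGa r) (Coh.smulAb (Coh.structureModule X) r) (smul_compat X r) x

variable (p : ℕ) (hp : p.Prime) (h0 : (p : Γ(X, ⊤)) = 0)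

/-- Frobenius transported to coherent cohomology -/
noncomputable def phiW (q : ℕ) :
    Coh.HH X (Coh.structureModule X) q →+ Coh.HH X (Coh.structureModule X) q :=
  (Phi X q).toAddMonoidHom.comp
    ((Sheaf.H.map (frobGa p hp h0) q).comp (Phi X q).symm.toAddMonoidHom)

lemma phiW_apply (q : ℕ) (w : Coh.HH X (Coh.structureModule X) q) :
    phiW X p hp h0 q w = Phi X q (Sheaf.H.map (frobGa p hp h0) q ((Phi X q).symm w)) := rfl

lemma frob_smul (q : ℕ) (r : Γ(X, ⊤)) (x : EtCoh.H X (EtCoh.Ga X) q) :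
    Sheaf.H.map (frobGa p hp h0) q (Sheaf.H.map (smulGa r) q x) =
      Sheaf.H.map (smulGa (r ^ p)) q (Sheaf.H.map (frobGa p hp h0) q x) := by
  rw [← Sheaf.H.map_comp_apply, ← Sheaf.H.map_comp_apply, smulGa_frobGa]

end Abs

variable {k : Type u} [Field k] (X : Scheme.{u}) [X.Over (Spec (CommRingCat.of k))]

/-- the global function of a scalar -/
noncomputable def gl (c : k) : Γ(X, ⊤) := Coh.toGlobal (X ↘ Spec (CommRingCat.of k)) c

lemma gl_pow (c : k) (n : ℕ) : gl X (c ^ n) = gl X c ^ n :=
  map_pow (Coh.toGlobal (X ↘ Spec (CommRingCat.of k))) c n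

lemma smul_eq (q : ℕ) (c : k) (w : Coh.HH X (Coh.structureModule X) q) :
    c • w = Sheaf.H.map (Coh.smulAb (Coh.structureModule X) (gl X c)) q w := rfl

variable (p : ℕ) (hp : p.Prime) (h0 : (p : Γ(X, ⊤)) = 0)

lemma phiW_smul (q : ℕ) (c : k) (w : Coh.HH X (Coh.structureModule X) q) :
    phiW X p hp h0 q (c • w) = c ^ p • phiW X p hp h0 q w := by
  have h1 : (Phi X q).symm (c • w) = Sheaf.H.map (smulGa (gl X c)) q ((Phi X q).symm w) := by
    apply (Phi X q).injective
    rw [AddEquiv.apply_symm_apply, Phi_smulGa, AddEquiv.apply_symm_apply, smul_eq]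
  rw [phiW_apply, h1, frob_smul, Phi_smulGa, ← gl_pow, ← smul_eq, phiW_apply]

theorem surjective_AS [IsSepClosed k] (p : ℕ) [hp : Fact p.Prime] [CharP k p]
    [IsProper (X ↘ Spec (CommRingCat.of k))] (h0 : (p : Γ(X, ⊤)) = 0) (q : ℕ) :
    Function.Surjective
      (Sheaf.H.map (W4c5etcohweilstudent.artinSchreierEndo X p hp.out h0) q) := by
  intro v
  haveI : Module.Finite k (Coh.HH X (Coh.structureModule X) q) :=
    Groth.Agent.S0002.result k X (Coh.structureModule X)
      (Groth.Agent.Helper1.Dev.isCoh_structureModule X) q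
  obtain ⟨x, hx⟩ := Groth.Agent.Helper6.LangA.lang p (phiW X p hp.out h0 q)
    (phiW_smul (k := k) X p hp.out h0 q) (Phi X q v)
  refine ⟨(Phi X q).symm x, ?_⟩
  apply (Phi X q).injective
  rw [← hx, phiW_apply]
  have h2 : Sheaf.H.map (frobGa p hp.out h0) q ((Phi X q).symm x) =
      Sheaf.H.map (W4c5etcohweilstudent.artinSchreierEndo X p hp.out h0) q ((Phi X q).symm x) +
        (Phi X q).symm x := by
    rw [frobGa_eq, Sheaf.H.map_add_apply, Sheaf.H.map_id_apply]
  rw [h2, map_add, AddEquiv.apply_symm_apply, add_sub_cancel_right]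

end Groth.Agent.Helper6.ASFinA
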