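import Mathlib

/-!
# Elements fixed by Frobenius are locally constant

In a commutative ring `A` receiving `ZMod p`, `∏_b (x - b) = x ^ p - x`.  On a scheme `Y` with
`ZMod p → Γ(Y, ⊤)`, a global function `x` with `x ^ p = x` is, locally on `Y`, the image of an
element of `ZMod p`.
-/

set_option autoImplicit false
set_option linter.style.haveILetI false
set_option linter.unusedSectionVars false
set_option linter.unusedVariables false
set_option linter.unusedSimpArgs false

universe u

open CategoryTheory AlgebraicGeometry Polynomial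

namespace Groth.Agent.Helper6.ASKerA

section Alg

variable (p : ℕ) [hp : Fact p.Prime]

lemma prod_X_sub_C : ∏ b : ZMod p, (X - C b : (ZMod p)[X]) = X ^ p - X := by
  have h1 : (1 : ℕ) < p := hp.out.one_lt
  have hm : (X ^ p - X : (ZMod p)[X]).Monic := by
    apply monic_X_pow_sub
    rw [degree_X]
    exact_mod_cast h1
  have hr : (X ^ p - X : (ZMod p)[X]).roots = Finset.univ.val := by
    have := FiniteField.roots_X_pow_card_sub_X (ZMod p)
    rwa [ZMod.card] at this
  have hc : Multiset.card (X ^ p - X : (ZMod p)[X]).roots =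
      (X ^ p - X : (ZMod p)[X]).natDegree := by
    rw [hr, FiniteField.X_pow_card_sub_X_natDegree_eq _ h1]
    simp [ZMod.card]
  have := prod_multiset_X_sub_C_of_monic_of_roots_card_eq hm hc
  rw [hr] at this
  exact this

variable {A : Type*} [CommRing A] (θ : ZMod p →+* A)

lemma prod_sub (x : A) : ∏ b : ZMod p, (x - θ b) = x ^ p - x := by
  have h := congrArg (eval₂ θ x) (prod_X_sub_C p)
  rw [eval₂_finsetProd] at h
  simpa using h

lemma exists_eq_of_field {κ : Type*} [Field κ] (ev : A →+* κ) (x : A) (hx : x ^ p - x = 0) :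
    ∃ a : ZMod p, ev x = ev (θ a) := by
  have h := congrArg ev (prod_sub p θ x)
  rw [hx, map_zero, map_prod] at h
  obtain ⟨a, -, ha⟩ := Finset.prod_eq_zero_iff.1 h
  exact ⟨a, by rwa [map_sub, sub_eq_zero] at ha⟩

/-- the complementary product -/
noncomputable def compl (x : A) (a : ZMod p) : A := ∏ b ∈ Finset.univ.erase a, (x - θ b)

lemma sub_mul_compl (x : A) (a : ZMod p) (hx : x ^ p - x = 0) :
    (x - θ a) * compl p θ x a = 0 := by
  rw [compl, Finset.mul_prod_erase Finset.univ (fun b => x - θ b) (Finset.mem_univ a), prod_sub, hx]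

lemma ev_compl_ne_zero {κ : Type*} [Field κ] (ev : A →+* κ) (x : A) (a : ZMod p)
    (ha : ev x = ev (θ a)) : ev (compl p θ x a) ≠ 0 := by
  rw [compl, map_prod, Finset.prod_ne_zero_iff]
  intro b hb
  have hba : b ≠ a := Finset.ne_of_mem_erase hb
  rw [map_sub, ha, ← map_sub, ← map_sub]
  have hu : IsUnit (a - b) := (sub_ne_zero.2 hba.symm).isUnit
  exact ((hu.map θ).map ev).ne_zero

end Alg

lemma isUnit_appTop_of_forall_mem {Y X : Scheme.{u}} (g : Y ⟶ X) (f : Γ(X, ⊤))
    (h : ∀ y : Y, g y ∈ X.basicOpen f) : IsUnit (g.appTop.hom f) := by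
  apply Y.toRingedSpace.isUnit_of_isUnit_germ ⊤
  intro y hy
  have hmem : y ∈ Y.basicOpen (g.appTop.hom f) := by
    rw [← Scheme.preimage_basicOpen_top]
    exact h y
  exact (Y.mem_basicOpen _ y hy).1 hmem

theorem exists_open_eq (p : ℕ) [hp : Fact p.Prime] {Y : Scheme.{u}} (θ : ZMod p →+* Γ(Y, ⊤))
    (x : Γ(Y, ⊤)) (hx : x ^ p - x = 0) (y : Y) :
    ∃ (V : Y.Opens) (a : ZMod p), y ∈ V ∧ V.ι.appTop.hom x = V.ι.appTop.hom (θ a) := by
  obtain ⟨a, ha⟩ := exists_eq_of_field p θ (Y.Γevaluation y).hom x hx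
  have hne := ev_compl_ne_zero p θ (Y.Γevaluation y).hom x a ha
  have hy : y ∈ Y.basicOpen (compl p θ x a) :=
    (Y.evaluation_ne_zero_iff_mem_basicOpen (U := ⊤) y (TopologicalSpace.Opens.mem_top y)
      (compl p θ x a)).1 hne
  refine ⟨Y.basicOpen (compl p θ x a), a, hy, ?_⟩
  have hu : IsUnit ((Y.basicOpen (compl p θ x a)).ι.appTop.hom (compl p θ x a)) :=
    isUnit_appTop_of_forall_mem _ _ (fun z => z.2)
  have h0 := congrArg (Y.basicOpen (compl p θ x a)).ι.appTop.hom (sub_mul_compl p θ x a hx)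
  rw [map_mul, map_zero] at h0
  have h1 := (hu.mul_left_eq_zero).1 h0
  rwa [map_sub, sub_eq_zero] at h1

end Groth.Agent.Helper6.ASKerA
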