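import Mathlib
import Groth.Prelude.Def_EtBase
import Groth.Prelude.Def_EtGm
import Groth.Prelude.Def_W4c5etcohweilstudentAS
import Groth.Agent.Helper6.ASKerA
import Groth.Agent.Helper6.CartanGenF
import Groth.Agent.Helper6.ZarEpsB
import Groth.Agent.Helper9.ArtinSchreierEpi

/-!
# The Artin–Schreier sequence `0 → ℤ/p → G_a → G_a → 0` on the small étale site and the vanishing
of `H^q(S, ℤ/p)`, `q ≥ 2`, for affine `S` of characteristic `p`
-/

set_option autoImplicit false
set_option linter.style.haveILetI false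
set_option linter.unusedSectionVars false
set_option linter.unusedVariables false
set_option linter.unusedSimpArgs false

universe u

open CategoryTheory CategoryTheory.Limits Opposite AlgebraicGeometry Abelian

namespace Groth.Agent.Helper6.ASKerB

open Groth.Agent.Helper4.EtGeom

variable {S : Scheme.{u}} (p : ℕ) [hp : Fact p.Prime] [hc : CharP Γ(S, ⊤) p]

/-- the group `ℤ/p`, one universe up -/
abbrev Mp : AddCommGrpCat.{u + 1} := AddCommGrpCat.of (ULift.{u + 1} (ZMod p))

/-- `ℤ/p → Γ(U)` -/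
noncomputable def thetaU (U : S.Etale) : ZMod p →+* Γ(U.left, ⊤) :=
  (U.hom.appTop).hom.comp (ZMod.castHom (dvd_refl p) Γ(S, ⊤))

lemma thetaU_natural {U V : S.Etale} (g : V ⟶ U) (a : ZMod p) :
    g.left.appTop.hom (thetaU p U a) = thetaU p V a := by
  have h : g.left ≫ U.hom = V.hom := MorphismProperty.Over.w g
  have h2 : V.hom.appTop = U.hom.appTop ≫ g.left.appTop := by
    rw [← h, Scheme.Hom.comp_appTop]
  unfold thetaU
  rw [RingHom.comp_apply, RingHom.comp_apply, h2]
  rfl

lemma natCast_eq_zero : (p : Γ(S, ⊤)) = 0 := CharP.cast_eq_zero _ p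

/-- the Artin–Schreier endomorphism -/
noncomputable abbrev AS : EtCoh.Ga S ⟶ EtCoh.Ga S :=
  W4c5etcohweilstudent.artinSchreierEndo S p hp.out (natCast_eq_zero p)

lemma AS_app (U : S.Etale) (x : Γ(U.left, ⊤)) :
    (AS (S := S) p).hom.app (op U) (ULift.up x : ULift.{u + 1} Γ(U.left, ⊤)) =
      (ULift.up (x ^ p - x) : ULift.{u + 1} Γ(U.left, ⊤)) := rfl

lemma Ga_map {U V : S.Etale} (g : V ⟶ U) (x : Γ(U.left, ⊤)) :
    (EtCoh.Ga S).obj.map g.op (ULift.up x : ULift.{u + 1} Γ(U.left, ⊤)) =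
      (ULift.up (g.left.appTop.hom x) : ULift.{u + 1} Γ(V.left, ⊤)) := rfl

/-- the presheaf map `ℤ/p → G_a` -/
noncomputable def phi0 : (Functor.const S.Etaleᵒᵖ).obj (Mp.{u} p) ⟶ (EtCoh.Ga S).obj where
  app U := AddCommGrpCat.ofHom
    ({ toFun := fun a => (ULift.up (thetaU p U.unop a.down) : ULift.{u + 1} Γ(U.unop.left, ⊤))
       map_zero' := by
        apply ULift.ext
        simp
       map_add' := by
        intro a b
        apply ULift.ext
        simp } : ULift.{u + 1} (ZMod p) →+ ULift.{u + 1} Γ(U.unop.left, ⊤))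
  naturality := by
    intro U V g
    ext a
    exact congrArg ULift.up (thetaU_natural p g.unop a.down).symm

lemma phi0_app (U : S.Etale) (a : ULift.{u + 1} (ZMod p)) :
    (phi0 (S := S) p).app (op U) a =
      (ULift.up (thetaU p U a.down) : ULift.{u + 1} Γ(U.left, ⊤)) := rfl

/-- the map `ℤ/p → G_a` of sheaves -/
noncomputable def cMap : EtCoh.const S (ZMod p) ⟶ EtCoh.Ga S :=
  ((sheafificationAdjunction S.smallEtaleTopology AddCommGrpCat.{u + 1}).homEquiv
    ((Functor.const S.Etaleᵒᵖ).obj (Mp.{u} p)) (EtCoh.Ga S)).symm (phi0 p)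

lemma toSheafify_cMap :
    toSheafify S.smallEtaleTopology ((Functor.const S.Etaleᵒᵖ).obj (Mp.{u} p)) ≫
      (cMap (S := S) p).hom = phi0 p := by
  have h := ((sheafificationAdjunction S.smallEtaleTopology AddCommGrpCat.{u + 1}).homEquiv
    ((Functor.const S.Etaleᵒᵖ).obj (Mp.{u} p)) (EtCoh.Ga S)).apply_symm_apply (phi0 p)
  rw [Adjunction.homEquiv_unit] at h
  exact h

lemma phi0_AS : phi0 (S := S) p ≫ (AS (S := S) p).hom = 0 := by
  ext U a
  change (AS (S := S) p).hom.app U ((phi0 (S := S) p).app U a) = 0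
  obtain ⟨U⟩ := U
  rw [phi0_app, AS_app]
  apply ULift.ext
  change thetaU p U a.down ^ p - thetaU p U a.down = 0
  rw [← map_pow, ZMod.pow_card, sub_self]

lemma toSheafify_cMap_AS :
    toSheafify S.smallEtaleTopology ((Functor.const S.Etaleᵒᵖ).obj (Mp.{u} p)) ≫
      (cMap (S := S) p ≫ AS (S := S) p).hom = 0 :=
  (Category.assoc _ _ _).symm.trans
    ((congrArg (fun m => m ≫ (AS (S := S) p).hom) (toSheafify_cMap p)).trans (phi0_AS p))

lemma cMap_AS : cMap (S := S) p ≫ AS (S := S) p = 0 := by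
  apply ((sheafificationAdjunction S.smallEtaleTopology AddCommGrpCat.{u + 1}).homEquiv
    ((Functor.const S.Etaleᵒᵖ).obj (Mp.{u} p)) (EtCoh.Ga S)).injective
  rw [Adjunction.homEquiv_unit, Adjunction.homEquiv_unit]
  exact (toSheafify_cMap_AS p).trans (comp_zero (f := toSheafify S.smallEtaleTopology
    ((Functor.const S.Etaleᵒᵖ).obj (Mp.{u} p))) (Z := (EtCoh.Ga S).obj)).symm

lemma isEmpty_of_one_eq_zero (Y : Scheme.{u}) (h : (1 : Γ(Y, ⊤)) = 0) : IsEmpty Y := by
  have h1 : Y.basicOpen (1 : Γ(Y, ⊤)) = ⊤ := Y.basicOpen_of_isUnit isUnit_one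
  have h2 : Y.basicOpen (0 : Γ(Y, ⊤)) = ⊥ := Y.basicOpen_zero ⊤
  rw [h] at h1
  rw [h1] at h2
  refine ⟨fun y => ?_⟩
  have hy : y ∈ (⊤ : Y.Opens) := trivial
  rw [h2] at hy
  exact hy

lemma mem_of_isEmpty (U : S.Etale) [IsEmpty U.left] (T : Sieve U) :
    T ∈ S.smallEtaleTopology U :=
  (mem_iff U T).2 (fun x => isEmptyElim x)

instance isLocallyInjective_phi0 :
    Presheaf.IsLocallyInjective S.smallEtaleTopology (phi0 (S := S) p) where
  equalizerSieve_mem {U} a b h := by
    by_cases hab : a = b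
    · subst hab
      rw [Presheaf.equalizerSieve_self_eq_top]
      exact S.smallEtaleTopology.top_mem _
    · obtain ⟨U⟩ := U
      have h1 : thetaU p U a.down = thetaU p U b.down := congrArg ULift.down h
      have hne : a.down - b.down ≠ 0 := fun h0 => hab (ULift.ext _ _ (sub_eq_zero.1 h0))
      have hu : IsUnit (thetaU p U (a.down - b.down)) := (hne.isUnit).map _
      rw [map_sub, h1, sub_self] at hu
      have h10 : (1 : Γ(U.left, ⊤)) = 0 := (isUnit_zero_iff.1 hu).symm
      haveI := isEmpty_of_one_eq_zero U.left h10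
      exact mem_of_isEmpty U _

/-- a presheaf map `ℤ/p → K` lifting `phi0` through a sectionwise injective map to `G_a` killed
by Artin–Schreier is locally surjective -/
theorem imageSieve_mem_of_fac (K : Sheaf S.smallEtaleTopology AddCommGrpCat.{u + 1})
    (κ : K ⟶ EtCoh.Ga S) (hκ : κ ≫ AS (S := S) p = 0)
    (hinj : ∀ U, Function.Injective (κ.hom.app U))
    (φ₁ : (Functor.const S.Etaleᵒᵖ).obj (Mp.{u} p) ⟶ K.obj) (hφ : φ₁ ≫ κ.hom = phi0 p)
    (U : S.Etale) (s : K.obj.obj (op U)) :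
    Presheaf.imageSieve φ₁ s ∈ S.smallEtaleTopology U := by
  obtain ⟨x, hx⟩ : ∃ x : Γ(U.left, ⊤), κ.hom.app (op U) s =
      (ULift.up x : ULift.{u + 1} Γ(U.left, ⊤)) := ⟨(κ.hom.app (op U) s).down, rfl⟩
  have hx0 : x ^ p - x = 0 := by
    have h1 : (AS (S := S) p).hom.app (op U) (κ.hom.app (op U) s) = 0 := by
      have h2 := ConcreteCategory.congr_hom
        (congrArg (fun m => m.hom.app (op U)) hκ) s
      exact h2
    rw [hx, AS_app] at h1
    exact congrArg ULift.down h1
  rw [mem_iff]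
  intro u
  obtain ⟨V, a, huV, hVa⟩ := ASKerA.exists_open_eq p (thetaU p U) x hx0 u
  let W : S.Etale := Scheme.Etale.mk (V.ι ≫ U.hom)
  let j : W ⟶ U := MorphismProperty.Over.homMk V.ι rfl trivial
  refine ⟨W, j, ⟨u, huV⟩, ?_, rfl⟩
  refine ⟨(ULift.up a : ULift.{u + 1} (ZMod p)), ?_⟩
  apply hinj (op W)
  have e1 : κ.hom.app (op W) (φ₁.app (op W) (ULift.up a : ULift.{u + 1} (ZMod p))) =
      (ULift.up (thetaU p W a) : ULift.{u + 1} Γ(W.left, ⊤)) :=
    ConcreteCategory.congr_hom (NatTrans.congr_app hφ (op W))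
      (ULift.up a : ULift.{u + 1} (ZMod p))
  have e2 : κ.hom.app (op W) (K.obj.map j.op s) =
      (ULift.up (thetaU p W a) : ULift.{u + 1} Γ(W.left, ⊤)) := by
    rw [NatTrans.naturality_apply κ.hom j.op s, hx, Ga_map]
    have h3 : j.left.appTop.hom x = thetaU p W a :=
      hVa.trans (thetaU_natural p j a)
    rw [h3]
  exact e1.trans e2.symm

theorem isLocallySurjective_of_fac (K : Sheaf S.smallEtaleTopology AddCommGrpCat.{u + 1})
    (κ : K ⟶ EtCoh.Ga S) (hκ : κ ≫ AS (S := S) p = 0)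
    (hinj : ∀ U, Function.Injective (κ.hom.app U))
    (φ₁ : (Functor.const S.Etaleᵒᵖ).obj (Mp.{u} p) ⟶ K.obj) (hφ : φ₁ ≫ κ.hom = phi0 p) :
    Presheaf.IsLocallySurjective S.smallEtaleTopology φ₁ where
  imageSieve_mem {U} s := imageSieve_mem_of_fac p K κ hκ hinj φ₁ hφ U s

/-- the Artin–Schreier short complex -/
noncomputable abbrev SK : ShortComplex (Sheaf S.smallEtaleTopology AddCommGrpCat.{u + 1}) :=
  ShortComplex.mk (kernel.ι (AS (S := S) p)) (AS (S := S) p) (kernel.condition _)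

lemma hSK : (SK (S := S) p).ShortExact :=
  { exact := ShortComplex.exact_kernel _
    mono_f := by dsimp [SK]; infer_instance
    epi_g := Groth.Agent.Helper9.ArtinSchreierEpi.main p hp.out (natCast_eq_zero p) }

/-- the comparison `ℤ/p → ker(F - 1)` -/
noncomputable abbrev psi : EtCoh.const S (ZMod p) ⟶ kernel (AS (S := S) p) :=
  kernel.lift (AS (S := S) p) (cMap p) (cMap_AS p)

/-- the underlying presheaf map of `cMap`, with source the sheafification -/
noncomputable def cHom : sheafify S.smallEtaleTopology ((Functor.const S.Etaleᵒᵖ).obj (Mp.{u} p)) ⟶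
    (EtCoh.Ga S).obj := (cMap (S := S) p).hom

lemma toSheafify_cHom :
    toSheafify S.smallEtaleTopology ((Functor.const S.Etaleᵒᵖ).obj (Mp.{u} p)) ≫
      cHom (S := S) p = phi0 p := toSheafify_cMap p

instance mono_cMap : Mono (cMap (S := S) p) := by
  have h1 : Presheaf.IsLocallyInjective S.smallEtaleTopology (cHom (S := S) p) :=
    Presheaf.isLocallyInjective_of_isLocallyInjective_of_isLocallySurjective_fac
      S.smallEtaleTopology (phi0 p) (toSheafify_cHom p)
  haveI : Presheaf.IsLocallyInjective S.smallEtaleTopology (cMap (S := S) p).hom := h1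
  exact Sheaf.mono_of_isLocallyInjective (cMap (S := S) p)

/-- the underlying presheaf map of `psi`, with source the sheafification -/
noncomputable def psiHom :
    sheafify S.smallEtaleTopology ((Functor.const S.Etaleᵒᵖ).obj (Mp.{u} p)) ⟶
      (kernel (AS (S := S) p)).obj := (psi (S := S) p).hom

lemma psiHom_ι : psiHom (S := S) p ≫ (kernel.ι (AS (S := S) p)).hom = cHom p :=
  congrArg (fun m : EtCoh.const S (ZMod p) ⟶ EtCoh.Ga S => m.hom)
    (kernel.lift_ι (AS (S := S) p) (cMap p) (cMap_AS p))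

instance isIso_psi : IsIso (psi (S := S) p) := by
  haveI : Mono (psi (S := S) p) := mono_of_mono_fac (kernel.lift_ι _ _ _)
  haveI : Epi (psi (S := S) p) := by
    have hfac : (toSheafify S.smallEtaleTopology ((Functor.const S.Etaleᵒᵖ).obj (Mp.{u} p)) ≫
        psiHom (S := S) p) ≫ (kernel.ι (AS (S := S) p)).hom = phi0 p := by
      rw [Category.assoc, psiHom_ι, toSheafify_cHom]
    haveI := isLocallySurjective_of_fac p (kernel (AS (S := S) p)) (kernel.ι _)
      (kernel.condition _)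
      (fun U => (Groth.Agent.Helper4.CechGenB.sections_exact (SK (S := S) p) (hSK p) U).1)
      _ hfac
    have h2 : Presheaf.IsLocallySurjective S.smallEtaleTopology (psiHom (S := S) p) :=
      Presheaf.isLocallySurjective_of_isLocallySurjective_fac S.smallEtaleTopology
        (f₁ := toSheafify S.smallEtaleTopology ((Functor.const S.Etaleᵒᵖ).obj (Mp.{u} p))) rfl
    haveI : Presheaf.IsLocallySurjective S.smallEtaleTopology (psi (S := S) p).hom := h2
    exact Sheaf.epi_of_isLocallySurjective (psi (S := S) p)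
  exact isIso_of_mono_of_epi _

/-- `H^q(S, ℤ/p) = 0` for `q ≥ 2` and `S` affine of characteristic `p` -/
theorem main [IsAffine S] (m : ℕ) :
    Subsingleton (EtCoh.H S (EtCoh.const S (ZMod p)) (m + 2)) := by
  haveI h1 := CartanGenF.main (S := S) m
  haveI h2 := CartanGenF.main (S := S) (m + 1)
  have hK : ∀ x : Sheaf.H (kernel (AS (S := S) p)) (m + 1 + 1), x = 0 := fun x =>
    Groth.Agent.Helper6.ZarEpsB.ext_X₁_eq_zero (hSK (S := S) p) _ (m + 1)
      (fun x₂ => @Subsingleton.elim _ h2 x₂ 0)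
      (fun x₃ => ⟨0, by rw [Ext.zero_comp]; exact @Subsingleton.elim _ h1 _ _⟩) x
  refine subsingleton_of_forall_eq 0 (fun x => ?_)
  have e1 : x = Sheaf.H.map (inv (psi (S := S) p)) (m + 2)
      (Sheaf.H.map (psi (S := S) p) (m + 2) x) := by
    rw [← Sheaf.H.map_comp_apply, IsIso.hom_inv_id, Sheaf.H.map_id_apply]
  rw [e1, hK (Sheaf.H.map (psi (S := S) p) (m + 2) x), map_zero]

end Groth.Agent.Helper6.ASKerB
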