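import Mathlib

/-!
# Fixed points of a `p`-linear endomorphism

Let `k` be a field, `V` a finite dimensional `k`-vector space and `φ : V → V` an additive map with
`φ (c • v) = c ^ p • φ v` (`1 < p`).  Then `φ` has at most `p ^ dim V` fixed points.
-/

set_option autoImplicit false
set_option linter.style.haveILetI false
set_option linter.unusedSectionVars false
set_option linter.unusedVariables false
set_option linter.unusedSimpArgs false

namespace Groth.Agent.Helper6.LangB

open Polynomial

variable {k : Type*} [Field k] (p : ℕ) (hp : 1 < p)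

/-- the scalars fixed by `c ↦ c ^ p` -/
def R : Set k := {c | c ^ p = c}

include hp in
open scoped Classical in
lemma R_subset : R (k := k) p ⊆ ↑((X ^ p - X : k[X]).roots.toFinset) := by
  intro c hc
  have hne : (X ^ p - X : k[X]) ≠ 0 := FiniteField.X_pow_card_sub_X_ne_zero k hp
  rw [Finset.mem_coe, Multiset.mem_toFinset, mem_roots hne, IsRoot.def, eval_sub, eval_pow,
    eval_X, sub_eq_zero]
  exact hc

include hp in
lemma R_finite : (R (k := k) p).Finite := by
  classical
  exact (Finset.finite_toSet _).subset (R_subset p hp)

include hp in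
lemma R_ncard_le : (R (k := k) p).ncard ≤ p := by
  classical
  calc (R (k := k) p).ncard ≤ ((X ^ p - X : k[X]).roots.toFinset : Set k).ncard :=
        Set.ncard_le_ncard (R_subset p hp) (Finset.finite_toSet _)
    _ = (X ^ p - X : k[X]).roots.toFinset.card := Set.ncard_coe_finset _
    _ ≤ Multiset.card (X ^ p - X : k[X]).roots := Multiset.toFinset_card_le _
    _ ≤ (X ^ p - X : k[X]).natDegree := card_roots' _
    _ = p := FiniteField.X_pow_card_sub_X_natDegree_eq k hp

variable {V : Type*} [AddCommGroup V] [Module k V]

include hp in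
/-- a `p`-linear endomorphism of a finite dimensional vector space has at most `p ^ dim` fixed
points -/
theorem card_fixed_le [Module.Finite k V] (φ : V →+ V)
    (hφ : ∀ (c : k) (v : V), φ (c • v) = c ^ p • φ v) :
    Finite {v : V // φ v = v} ∧ Nat.card {v : V // φ v = v} ≤ p ^ Module.finrank k V := by
  classical
  obtain ⟨b, hbU, hspan, hb⟩ := exists_linearIndependent k {v : V | φ v = v}
  haveI : Finite b := hb.finite
  haveI : Fintype b := Fintype.ofFinite b
  haveI : Finite (R (k := k) p) := (R_finite p hp).to_subtype
  have hmem : ∀ u : {v : V // φ v = v}, ∃ g : b → R (k := k) p,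
      u.1 = ∑ i : b, (g i : k) • (i : V) := by
    rintro ⟨u, hu⟩
    have h1 : u ∈ Submodule.span k (Set.range ((↑) : b → V)) := by
      rw [Subtype.range_coe, hspan]
      exact Submodule.subset_span hu
    obtain ⟨c, hc⟩ := (Submodule.mem_span_range_iff_exists_fun k).1 h1
    have h3 : φ u = ∑ i : b, (c i ^ p) • (i : V) := by
      rw [← hc, map_sum]
      refine Finset.sum_congr rfl (fun i _ => ?_)
      rw [hφ, show φ (i : V) = i from hbU i.2]
    have h2 : ∑ i : b, (c i ^ p - c i) • (i : V) = 0 := by
      have h4 : ∑ i : b, (c i ^ p - c i) • (i : V) = φ u - u := by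
        rw [h3]
        conv_rhs => rw [← hc]
        rw [← Finset.sum_sub_distrib]
        exact Finset.sum_congr rfl (fun i _ => sub_smul _ _ _)
      rw [h4, hu, sub_self]
    have h5 : ∀ i : b, c i ^ p = c i := fun i =>
      sub_eq_zero.1 (Fintype.linearIndependent_iff.1 hb (fun i => c i ^ p - c i) h2 i)
    exact ⟨fun i => ⟨c i, h5 i⟩, hc.symm⟩
  choose F hF using hmem
  have hinj : Function.Injective F := by
    intro u u' h
    apply Subtype.ext
    rw [hF u, hF u', h]
  refine ⟨Finite.of_injective F hinj, ?_⟩
  calc Nat.card {v : V // φ v = v} ≤ Nat.card (b → R (k := k) p) :=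
        Nat.card_le_card_of_injective F hinj
    _ = Nat.card (R (k := k) p) ^ Nat.card b := Nat.card_fun
    _ ≤ p ^ Nat.card b :=
        Nat.pow_le_pow_left (by rw [Nat.card_coe_set_eq]; exact R_ncard_le p hp) _
    _ ≤ p ^ Module.finrank k V :=
        Nat.pow_le_pow_right (by omega)
          (by rw [Nat.card_eq_fintype_card]; exact hb.fintype_card_le_finrank)

end Groth.Agent.Helper6.LangB
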