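import Mathlib
import Groth.Agent.Helper6.ASFinA
import Groth.Agent.Helper6.ASKerB
import Groth.Agent.Helper6.LangB
import Groth.Agent.Helper4.GV7

/-!
# Étale cohomology with `ℤ/p` coefficients of a proper scheme over a separably closed field of
characteristic `p`: vanishing above the dimension, finiteness and the bound by `p ^ h^i(O_X)`
-/

set_option autoImplicit false
set_option linter.style.haveILetI false
set_option linter.unusedSectionVars false
set_option linter.unusedVariables false
set_option linter.unusedSimpArgs false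

universe w v u

open CategoryTheory CategoryTheory.Limits Opposite AlgebraicGeometry Abelian

namespace Groth.Agent.Helper6.ASFinB

open Groth.Agent.Helper6.UnivZarA Groth.Agent.Helper6.UnivZarB Groth.Agent.Helper6.UnivZarC
  Groth.Agent.Helper6.UnivZarE Groth.Agent.Helper6.ASFinA Groth.Agent.Helper6.ASKerB

section Gen

variable {𝒜 : Type u} [Category.{v} 𝒜] [Abelian 𝒜] [HasExt.{w} 𝒜]

lemma postcomp_f_injective {S : ShortComplex 𝒜} (hS : S.ShortExact) (X : 𝒜) (n : ℕ)
    (h3 : ∀ m, m + 1 = n → ∀ x₃ : Ext.{w} X S.X₃ m, ∃ x₂ : Ext.{w} X S.X₂ m,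
      x₂.comp (Ext.mk₀ S.g) (add_zero m) = x₃) :
    Function.Injective ((Ext.mk₀ S.f).postcomp X (add_zero n)) := by
  cases n with
  | zero =>
    haveI := hS.mono_f
    exact Ext.postcomp_mk₀_injective_of_mono X S.f
  | succ m =>
    rw [injective_iff_map_eq_zero]
    intro x₁ hx
    have hx' : x₁.comp (Ext.mk₀ S.f) (add_zero (m + 1)) = 0 := hx
    obtain ⟨x₃, rfl⟩ := Ext.covariant_sequence_exact₁ X hS x₁ hx' rfl
    obtain ⟨x₂, rfl⟩ := h3 m rfl x₃
    rw [Ext.comp_assoc_of_second_deg_zero, ShortComplex.ShortExact.comp_extClass, Ext.comp_zero]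

lemma ext_eq_zero_of_isZero {X F : 𝒜} (hF : IsZero F) (n : ℕ) (x : Ext.{w} X F n) : x = 0 := by
  have h : x = x.comp (Ext.mk₀ (𝟙 F)) (add_zero n) := (Ext.comp_mk₀_id x).symm
  rw [h, hF.eq_of_src (𝟙 F) 0, Ext.mk₀_zero, Ext.comp_zero]

end Gen

section Empty

lemma isZero_of_isEmpty (X : Scheme.{u}) [IsEmpty X] (F : EtCoh.Ab X) : IsZero F := by
  rw [IsZero.iff_id_eq_zero]
  apply Sheaf.hom_ext
  apply NatTrans.ext
  funext U
  haveI : IsEmpty U.unop.left := ⟨fun z => @IsEmpty.false X _ (U.unop.hom.base z)⟩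
  haveI : Subsingleton ↑(F.obj.obj U) :=
    Groth.Agent.Helper6.CartanGenE.subsingleton_of_isEmpty
      (Groth.Agent.Helper6.CartanGenE.und F) U.unop
  ext x
  exact Subsingleton.elim _ _

lemma subsingleton_H_of_isEmpty (X : Scheme.{u}) [IsEmpty X] (F : EtCoh.Ab X) (n : ℕ) :
    Subsingleton (EtCoh.H X F n) :=
  ⟨fun a b => (ext_eq_zero_of_isZero (isZero_of_isEmpty X F) n a).trans
    (ext_eq_zero_of_isZero (isZero_of_isEmpty X F) n b).symm⟩

end Empty

section General

variable {S : Scheme.{u}} (p : ℕ) [hp : Fact p.Prime] [hc : CharP Γ(S, ⊤) p]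

lemma map_inv_psi (n : ℕ) (z : EtCoh.H S (EtCoh.const S (ZMod p)) n) :
    Sheaf.H.map (inv (psi (S := S) p)) n (Sheaf.H.map (psi (S := S) p) n z) = z := by
  rw [← Sheaf.H.map_comp_apply, IsIso.hom_inv_id, Sheaf.H.map_id_apply]

lemma subsingleton_const (n : ℕ) (hK : ∀ x : Sheaf.H (kernel (AS (S := S) p)) n, x = 0) :
    Subsingleton (EtCoh.H S (EtCoh.const S (ZMod p)) n) := by
  refine subsingleton_of_forall_eq 0 (fun x => ?_)
  rw [← map_inv_psi p n x, hK (Sheaf.H.map (psi (S := S) p) n x), map_zero]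

lemma injective_ι (n : ℕ)
    (hsurj : ∀ m, m + 1 = n → Function.Surjective (Sheaf.H.map (AS (S := S) p) m)) :
    Function.Injective (Sheaf.H.map (kernel.ι (AS (S := S) p)) n) :=
  postcomp_f_injective (hSK (S := S) p) _ n (fun m hm x₃ => hsurj m hm x₃)

lemma injective_cMap (n : ℕ)
    (hsurj : ∀ m, m + 1 = n → Function.Surjective (Sheaf.H.map (AS (S := S) p) m)) :
    Function.Injective (Sheaf.H.map (cMap (S := S) p) n) := by
  have h1 : cMap (S := S) p = psi p ≫ kernel.ι (AS p) := (kernel.lift_ι _ _ _).symm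
  intro x y hxy
  rw [h1, Sheaf.H.map_comp_apply, Sheaf.H.map_comp_apply] at hxy
  have h2 := injective_ι p n hsurj hxy
  rw [← map_inv_psi p n x, ← map_inv_psi p n y, h2]

lemma map_AS_cMap (n : ℕ) (x : EtCoh.H S (EtCoh.const S (ZMod p)) n) :
    Sheaf.H.map (AS (S := S) p) n (Sheaf.H.map (cMap (S := S) p) n x) = 0 := by
  rw [← Sheaf.H.map_comp_apply, cMap_AS]
  show x.comp (Ext.mk₀ 0) (add_zero n) = 0
  rw [Ext.mk₀_zero, Ext.comp_zero]

end General

section Proper

variable (k : Type u) [Field k] (p : ℕ) [hp : Fact p.Prime] [CharP k p]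
  (X : Scheme.{u}) [X.Over (Spec (CommRingCat.of k))]

include k in
lemma charP_global [Nonempty X] : CharP Γ(X, ⊤) p := by
  haveI : Nonempty (⊤ : X.Opens) := ⟨⟨Classical.arbitrary X, trivial⟩⟩
  haveI : Nontrivial Γ(X, ⊤) := Scheme.component_nontrivial X ⊤
  let f : k →+* Γ(X, ⊤) := Coh.toGlobal (X ↘ Spec (CommRingCat.of k))
  exact charP_of_injective_ringHom f.injective p

variable [IsSepClosed k] [IsProper (X ↘ Spec (CommRingCat.of k))]

include k in
lemma isNoetherian : IsNoetherian X := by
  haveI : CompactSpace X :=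
    QuasiCompact.compactSpace_of_compactSpace (X ↘ Spec (CommRingCat.of k))
  exact { __ := LocallyOfFiniteType.isLocallyNoetherian (X ↘ Spec (CommRingCat.of k)) }

include k in
theorem vanish (d : ℕ) (hd : topologicalKrullDim X = d) (q : ℕ) (hq : d + 1 ≤ q) :
    Subsingleton (EtCoh.H X (EtCoh.const X (ZMod p)) q) := by
  obtain ⟨n, rfl⟩ : ∃ n, q = n + 1 := ⟨q - 1, by omega⟩
  haveI : Nonempty X := by
    by_contra h
    rw [not_nonempty_iff] at h
    have h1 : topologicalKrullDim X = ⊥ := by
      unfold topologicalKrullDim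
      haveI : IsEmpty (TopologicalSpace.IrreducibleCloseds X) :=
        ⟨fun T => h.elim T.isIrreducible'.1.some⟩
      exact Order.krullDim_eq_bot
    rw [h1] at hd
    exact absurd hd (by simp)
  haveI hc : CharP Γ(X, ⊤) p := charP_global k p X
  haveI : IsNoetherian X := isNoetherian k X
  haveI : TopologicalSpace.NoetherianSpace ↑X.toTopCat :=
    (inferInstance : TopologicalSpace.NoetherianSpace X)
  haveI hG : Subsingleton (Coh.HH X (Coh.structureModule X) (n + 1)) :=
    Groth.Agent.Helper4.GV.grothendieck_vanishing (X := X.toTopCat) d hd.le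
      (Coh.toAb (Coh.structureModule X)) (n + 1) (by omega)
  apply subsingleton_const p (n + 1)
  intro x
  exact Groth.Agent.Helper6.ZarEpsB.ext_X₁_eq_zero (hSK (S := X) p) _ n
      (fun x₂ => (Phi X (n + 1)).injective (Subsingleton.elim _ _))
      (fun x₃ => surjective_AS (k := k) X p (natCast_eq_zero p) n x₃) x

theorem card_le (i : ℕ) :
    Finite (EtCoh.H X (EtCoh.const X (ZMod p)) i) ∧
      Nat.card (EtCoh.H X (EtCoh.const X (ZMod p)) i) ≤
        p ^ Module.finrank k (Coh.HH X (Coh.structureModule X) i) := by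
  rcases isEmpty_or_nonempty X with hE | hN
  · haveI := subsingleton_H_of_isEmpty X (EtCoh.const X (ZMod p)) i
    refine ⟨inferInstance, ?_⟩
    rw [Nat.card_unique]
    exact Nat.one_le_pow _ _ hp.out.pos
  · haveI hc : CharP Γ(X, ⊤) p := charP_global k p X
    haveI : Module.Finite k (Coh.HH X (Coh.structureModule X) i) :=
      Groth.Agent.S0002.result k X (Coh.structureModule X)
        (Groth.Agent.Helper1.Dev.isCoh_structureModule X) i
    obtain ⟨hfin, hcard⟩ := Groth.Agent.Helper6.LangB.card_fixed_le p hp.out.one_lt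
      (phiW X p hp.out (natCast_eq_zero p) i)
      (phiW_smul (k := k) X p hp.out (natCast_eq_zero p) i)
    have hfix : ∀ x : EtCoh.H X (EtCoh.const X (ZMod p)) i,
        phiW X p hp.out (natCast_eq_zero p) i (Phi X i (Sheaf.H.map (cMap (S := X) p) i x)) =
          Phi X i (Sheaf.H.map (cMap (S := X) p) i x) := by
      intro x
      rw [phiW_apply, AddEquiv.symm_apply_apply, frobGa_eq, Sheaf.H.map_add_apply,
        Sheaf.H.map_id_apply]
      have h0 := map_AS_cMap (S := X) p i x
      rw [show Sheaf.H.map (W4c5etcohweilstudent.artinSchreierEndo X p hp.out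
        (natCast_eq_zero p)) i (Sheaf.H.map (cMap (S := X) p) i x) = 0 from h0, zero_add]
    let G : EtCoh.H X (EtCoh.const X (ZMod p)) i →
        {w : Coh.HH X (Coh.structureModule X) i //
          phiW X p hp.out (natCast_eq_zero p) i w = w} :=
      fun x => ⟨Phi X i (Sheaf.H.map (cMap (S := X) p) i x), hfix x⟩
    have hG : Function.Injective G := by
      intro x y hxy
      have h1 : Phi X i (Sheaf.H.map (cMap (S := X) p) i x) =
          Phi X i (Sheaf.H.map (cMap (S := X) p) i y) := congrArg Subtype.val hxy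
      exact injective_cMap (S := X) p i
        (fun m _ => surjective_AS (k := k) X p (natCast_eq_zero p) m) ((Phi X i).injective h1)
    haveI := hfin
    exact ⟨Finite.of_injective G hG, (Nat.card_le_card_of_injective G hG).trans hcard⟩

end Proper

end Groth.Agent.Helper6.ASFinB
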