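import Mathlib

/-!
# Elementwise homology of cochain complexes of abelian groups
-/

set_option autoImplicit false
set_option linter.style.haveILetI false
set_option linter.unusedSectionVars false
set_option linter.unusedVariables false

namespace Groth.Agent.Helper6.AbH

open CategoryTheory CategoryTheory.Limits

universe u

variable (C : CochainComplex AddCommGrpCat.{u} ℤ) (i j k : ℤ)

theorem comp_app {X Y Z : AddCommGrpCat.{u}} (f : X ⟶ Y) (g : Y ⟶ Z) (x : X) :
    (f ≫ g) x = g (f x) := rfl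

theorem zero_app {X Y : AddCommGrpCat.{u}} (x : X) : (0 : X ⟶ Y) x = 0 := rfl

theorem exact_iCycles_d (hjk : j + 1 = k) :
    (ShortComplex.mk (C.iCycles j) (C.d j k) (C.iCycles_d j k)).Exact :=
  ShortComplex.exact_of_f_is_kernel _
    (C.cyclesIsKernel j k (by rw [CochainComplex.next]; exact hjk))

theorem exists_cycle (hjk : j + 1 = k) (x : C.X j) (hx : (C.d j k) x = 0) :
    ∃ z : C.cycles j, (C.iCycles j) z = x :=
  (ShortComplex.ab_exact_iff _).1 (exact_iCycles_d C j k hjk) x hx

theorem iCycles_d_apply (z : C.cycles j) : (C.d j k) ((C.iCycles j) z) = 0 := by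
  rw [← comp_app, C.iCycles_d]; rfl

theorem iCycles_injective : Function.Injective (C.iCycles j) :=
  (AddCommGrpCat.mono_iff_injective _).1 inferInstance

theorem homologyπ_surjective : Function.Surjective (C.homologyπ j) :=
  (AddCommGrpCat.epi_iff_surjective _).1 inferInstance

theorem exact_toCycles_homologyπ (hij : i + 1 = j) :
    (ShortComplex.mk (C.toCycles i j) (C.homologyπ j) (C.toCycles_comp_homologyπ _ _)).Exact :=
  ShortComplex.exact_of_g_is_cokernel _
    (C.homologyIsCokernel i j (by rw [CochainComplex.prev]; omega))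

theorem homologyπ_eq_zero_iff (hij : i + 1 = j) (z : C.cycles j) :
    (C.homologyπ j) z = 0 ↔ ∃ y : C.X i, (C.d i j) y = (C.iCycles j) z := by
  constructor
  · intro h
    obtain ⟨y, hy⟩ := (ShortComplex.ab_exact_iff _).1 (exact_toCycles_homologyπ C i j hij) z h
    refine ⟨y, ?_⟩
    have : (C.toCycles i j) y = z := hy
    rw [← this, ← comp_app, C.toCycles_i]
  · rintro ⟨y, hy⟩
    have : (C.toCycles i j) y = z := by
      apply iCycles_injective C j
      rw [← comp_app, C.toCycles_i, hy]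
    rw [← this, ← comp_app, C.toCycles_comp_homologyπ]; rfl

/-- the homology class of a cocycle -/
noncomputable def cls (hjk : j + 1 = k) (x : C.X j) (hx : (C.d j k) x = 0) : C.homology j :=
  (C.homologyπ j) (exists_cycle C j k hjk x hx).choose

theorem cls_eq (hjk : j + 1 = k) {x : C.X j} (hx : (C.d j k) x = 0)
    (z : C.cycles j) (hz : (C.iCycles j) z = x) :
    cls C j k hjk x hx = (C.homologyπ j) z := by
  have : (exists_cycle C j k hjk x hx).choose = z := by
    apply iCycles_injective C j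
    rw [(exists_cycle C j k hjk x hx).choose_spec, hz]
  rw [cls, this]

theorem exists_cls (hjk : j + 1 = k) (h : C.homology j) :
    ∃ (x : C.X j) (hx : (C.d j k) x = 0), cls C j k hjk x hx = h := by
  obtain ⟨z, rfl⟩ := homologyπ_surjective C j h
  exact ⟨(C.iCycles j) z, iCycles_d_apply C j k z, cls_eq C j k hjk _ z rfl⟩

theorem cls_eq_zero_iff (hij : i + 1 = j) (hjk : j + 1 = k) {x : C.X j}
    (hx : (C.d j k) x = 0) :
    cls C j k hjk x hx = 0 ↔ ∃ y : C.X i, (C.d i j) y = x := by
  obtain ⟨z, hz⟩ := exists_cycle C j k hjk x hx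
  rw [cls_eq C j k hjk hx z hz, homologyπ_eq_zero_iff C i j hij, hz]

theorem cls_congr (hjk : j + 1 = k) {x x' : C.X j} (hx : (C.d j k) x = 0) (h : x = x') :
    cls C j k hjk x hx = cls C j k hjk x' (h ▸ hx) := by
  subst h; rfl

theorem cls_sub (hjk : j + 1 = k) {x x' : C.X j} (hx : (C.d j k) x = 0)
    (hx' : (C.d j k) x' = 0) :
    cls C j k hjk x hx - cls C j k hjk x' hx' =
      cls C j k hjk (x - x') (by rw [map_sub, hx, hx', sub_self]) := by
  obtain ⟨z, hz⟩ := exists_cycle C j k hjk x hx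
  obtain ⟨z', hz'⟩ := exists_cycle C j k hjk x' hx'
  rw [cls_eq C j k hjk hx z hz, cls_eq C j k hjk hx' z' hz',
    cls_eq C j k hjk _ (z - z') (by rw [map_sub, hz, hz']), map_sub]

theorem cls_add (hjk : j + 1 = k) {x x' : C.X j} (hx : (C.d j k) x = 0)
    (hx' : (C.d j k) x' = 0) :
    cls C j k hjk x hx + cls C j k hjk x' hx' =
      cls C j k hjk (x + x') (by rw [map_add, hx, hx', add_zero]) := by
  obtain ⟨z, hz⟩ := exists_cycle C j k hjk x hx
  obtain ⟨z', hz'⟩ := exists_cycle C j k hjk x' hx'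
  rw [cls_eq C j k hjk hx z hz, cls_eq C j k hjk hx' z' hz',
    cls_eq C j k hjk _ (z + z') (by rw [map_add, hz, hz']), map_add]

theorem cls_zero (hjk : j + 1 = k) : cls C j k hjk 0 (map_zero _) = 0 := by
  rw [cls_eq C j k hjk _ 0 (map_zero _), map_zero]

theorem cls_neg (hjk : j + 1 = k) {x : C.X j} (hx : (C.d j k) x = 0) :
    - cls C j k hjk x hx = cls C j k hjk (-x) (by rw [map_neg, hx, neg_zero]) := by
  obtain ⟨z, hz⟩ := exists_cycle C j k hjk x hx
  rw [cls_eq C j k hjk hx z hz, cls_eq C j k hjk _ (-z) (by rw [map_neg, hz]), map_neg]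

theorem cls_eq_cls_iff (hij : i + 1 = j) (hjk : j + 1 = k) {x x' : C.X j}
    (hx : (C.d j k) x = 0) (hx' : (C.d j k) x' = 0) :
    cls C j k hjk x hx = cls C j k hjk x' hx' ↔ ∃ y : C.X i, (C.d i j) y = x - x' := by
  rw [← sub_eq_zero, cls_sub, cls_eq_zero_iff C i j k hij hjk]

theorem d_d_apply (x : C.X i) : (C.d j k) ((C.d i j) x) = 0 := by
  rw [← comp_app, C.d_comp_d]; rfl

variable {C} {D : CochainComplex AddCommGrpCat.{u} ℤ}

theorem f_d_apply (φ : C ⟶ D) (x : C.X j) :
    (D.d j k) ((φ.f j) x) = (φ.f k) ((C.d j k) x) := by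
  rw [← comp_app, ← comp_app, φ.comm]

theorem homologyMap_cls (hjk : j + 1 = k) (φ : C ⟶ D) {x : C.X j} (hx : (C.d j k) x = 0) :
    (HomologicalComplex.homologyMap φ j) (cls C j k hjk x hx) =
      cls D j k hjk ((φ.f j) x) (by rw [f_d_apply, hx, map_zero]) := by
  obtain ⟨z, hz⟩ := exists_cycle C j k hjk x hx
  rw [cls_eq C j k hjk hx z hz, ← comp_app, HomologicalComplex.homologyπ_naturality, comp_app]
  symm
  apply cls_eq
  rw [← comp_app, HomologicalComplex.cyclesMap_i, comp_app, hz]

end Groth.Agent.Helper6.AbH
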