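import Mathlib
import Groth.Prelude.Def_EtLim
import Groth.Agent.Helper9.HpullComp

set_option autoImplicit false
set_option linter.style.haveILetI false
set_option linter.unusedSectionVars false
set_option linter.unusedVariables false

/-!
# Compatibility of `H^q(Y, f_* F) → H^q(X, F)` with pullback along a commutative square
-/

namespace Groth.Agent.Helper6.HofPushBC

open CategoryTheory CategoryTheory.Limits CategoryTheory.Adjunction AlgebraicGeometry Opposite Abelian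

universe u

section Abstract

universe v₁ v₂ v₃ v₄ u₁ u₂ u₃ u₄

variable {𝒳 : Type u₁} [Category.{v₁} 𝒳] {𝒴 : Type u₂} [Category.{v₂} 𝒴]
  {𝒳' : Type u₃} [Category.{v₃} 𝒳'] {𝒴' : Type u₄} [Category.{v₄} 𝒴']
  {Fs : 𝒴 ⥤ 𝒳} {Fp : 𝒳 ⥤ 𝒴} (af : Fs ⊣ Fp)
  {Gs : 𝒴 ⥤ 𝒴'} {Gp : 𝒴' ⥤ 𝒴} (ag : Gs ⊣ Gp)
  {Fs' : 𝒴' ⥤ 𝒳'} {Fp' : 𝒳' ⥤ 𝒴'} (af' : Fs' ⊣ Fp')
  {Gs' : 𝒳 ⥤ 𝒳'} {Gp' : 𝒳' ⥤ 𝒳} (ag' : Gs' ⊣ Gp')
  {Hs : 𝒴 ⥤ 𝒳'} {Hp : 𝒳' ⥤ 𝒴} (ah : Hs ⊣ Hp)
  {Hs' : 𝒴 ⥤ 𝒳'} {Hp' : 𝒳' ⥤ 𝒴} (ah' : Hs' ⊣ Hp')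
  (c₁ : Gp' ⋙ Fp ≅ Hp) (c₂ : Fp' ⋙ Gp ≅ Hp') (e : Hp ≅ Hp') (ε : Hs ≅ Hs')
  (hε : ∀ M, ah.unit.app M ≫ Hp.map (ε.hom.app M) = ah'.unit.app M ≫ e.inv.app (Hs'.obj M))

include hε in
theorem mate_bc0 (F : 𝒳) :
    (leftAdjointUniq ah ((af.comp ag').ofNatIsoRight c₁)).hom.app (Fp.obj F) ≫
        Gs'.map (af.counit.app F) =
      ε.hom.app (Fp.obj F) ≫
        (leftAdjointUniq ah' ((ag.comp af').ofNatIsoRight c₂)).hom.app (Fp.obj F) ≫
        Fs'.map ((ag.homEquiv _ _).symm (Fp.map (ag'.unit.app F) ≫ c₁.hom.app _ ≫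
          e.hom.app _ ≫ c₂.inv.app _)) ≫
        af'.counit.app (Gs'.obj F) := by
  set M := Fp.obj F with hM
  set p₁ := (leftAdjointUniq ah ((af.comp ag').ofNatIsoRight c₁)).hom.app M with hp₁
  set p₂ := (leftAdjointUniq ah' ((ag.comp af').ofNatIsoRight c₂)).hom.app M with hp₂
  set β := (ag.homEquiv _ _).symm (Fp.map (ag'.unit.app F) ≫ c₁.hom.app _ ≫
          e.hom.app _ ≫ c₂.inv.app _) with hβ
  apply (ah.homEquiv _ _).injective
  rw [Adjunction.homEquiv_unit, Adjunction.homEquiv_unit]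
  -- left side
  have hL1 : ah.unit.app M ≫ Hp.map p₁ =
      af.unit.app M ≫ Fp.map (ag'.unit.app (Fs.obj M)) ≫ c₁.hom.app (Gs'.obj (Fs.obj M)) := by
    rw [hp₁, unit_leftAdjointUniq_hom_app, Groth.Agent.Helper9.AdjCoh.ofNatIsoRight_unit_app,
      Adjunction.comp_unit_app, Category.assoc]
    rfl
  have hL2 : c₁.hom.app (Gs'.obj (Fs.obj M)) ≫ Hp.map (Gs'.map (af.counit.app F)) =
      Fp.map (Gp'.map (Gs'.map (af.counit.app F))) ≫ c₁.hom.app (Gs'.obj F) :=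
    (c₁.hom.naturality (Gs'.map (af.counit.app F))).symm
  have hL3 : Fp.map (ag'.unit.app (Fs.obj M)) ≫ Fp.map (Gp'.map (Gs'.map (af.counit.app F))) =
      Fp.map (af.counit.app F) ≫ Fp.map (ag'.unit.app F) := by
    rw [← Fp.map_comp, ← Fp.map_comp]
    exact congrArg Fp.map (ag'.unit.naturality (af.counit.app F)).symm
  have hL4 : af.unit.app M ≫ Fp.map (af.counit.app F) = 𝟙 _ := af.right_triangle_components F
  have hL : ah.unit.app M ≫ Hp.map (p₁ ≫ Gs'.map (af.counit.app F)) =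
      Fp.map (ag'.unit.app F) ≫ c₁.hom.app (Gs'.obj F) := by
    rw [Hp.map_comp, reassoc_of% hL1, hL2, reassoc_of% hL3, reassoc_of% hL4]
  -- right side
  have hR1 : ah'.unit.app M ≫ Hp'.map p₂ =
      ag.unit.app M ≫ Gp.map (af'.unit.app (Gs.obj M)) ≫ c₂.hom.app (Fs'.obj (Gs.obj M)) := by
    rw [hp₂, unit_leftAdjointUniq_hom_app, Groth.Agent.Helper9.AdjCoh.ofNatIsoRight_unit_app,
      Adjunction.comp_unit_app, Category.assoc]
    rfl
  have hR2 : ∀ {A B : 𝒳'} (φ : A ⟶ B), c₂.hom.app A ≫ Hp'.map φ =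
      Gp.map (Fp'.map φ) ≫ c₂.hom.app B := fun φ => (c₂.hom.naturality φ).symm
  have hR3 : af'.unit.app (Gs.obj M) ≫ Fp'.map (Fs'.map β ≫ af'.counit.app (Gs'.obj F)) = β := by
    rw [Fp'.map_comp, ← Category.assoc]
    have h1 := af'.unit.naturality β
    have h1' : af'.unit.app (Gs.obj M) ≫ Fp'.map (Fs'.map β) =
        β ≫ af'.unit.app (Fp'.obj (Gs'.obj F)) := h1.symm
    rw [h1', Category.assoc, af'.right_triangle_components, Category.comp_id]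
  have hR4 : ag.unit.app M ≫ Gp.map β =
      Fp.map (ag'.unit.app F) ≫ c₁.hom.app _ ≫ e.hom.app _ ≫ c₂.inv.app _ :=
    (Adjunction.homEquiv_unit (adj := ag) (f := β)).symm.trans (Equiv.apply_symm_apply _ _)
  have hR5 : ∀ {A B : 𝒳'} (φ : A ⟶ B), e.inv.app A ≫ Hp.map φ = Hp'.map φ ≫ e.inv.app B :=
    fun φ => (e.inv.naturality φ).symm
  have hR : ah.unit.app M ≫ Hp.map (ε.hom.app M ≫ p₂ ≫ Fs'.map β ≫ af'.counit.app (Gs'.obj F)) =
      Fp.map (ag'.unit.app F) ≫ c₁.hom.app (Gs'.obj F) := by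
    set rest := Fs'.map β ≫ af'.counit.app (Gs'.obj F) with hrest
    calc ah.unit.app M ≫ Hp.map (ε.hom.app M ≫ p₂ ≫ rest)
        = (ah.unit.app M ≫ Hp.map (ε.hom.app M)) ≫ Hp.map (p₂ ≫ rest) := by
          rw [Hp.map_comp, Category.assoc]
      _ = (ah'.unit.app M ≫ e.inv.app (Hs'.obj M)) ≫ Hp.map (p₂ ≫ rest) := by rw [hε M]
      _ = ah'.unit.app M ≫ Hp'.map (p₂ ≫ rest) ≫ e.inv.app _ := by rw [Category.assoc, hR5]
      _ = (ah'.unit.app M ≫ Hp'.map p₂) ≫ Hp'.map rest ≫ e.inv.app _ := by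
          rw [Hp'.map_comp, Category.assoc, Category.assoc]
      _ = (ag.unit.app M ≫ Gp.map (af'.unit.app (Gs.obj M)) ≫ c₂.hom.app _) ≫
            Hp'.map rest ≫ e.inv.app _ := by rw [hR1]
      _ = ag.unit.app M ≫ Gp.map (af'.unit.app (Gs.obj M)) ≫ Gp.map (Fp'.map rest) ≫
            c₂.hom.app _ ≫ e.inv.app _ := by
          simp only [Category.assoc]
          rw [reassoc_of% hR2]
      _ = ag.unit.app M ≫ Gp.map β ≫ c₂.hom.app _ ≫ e.inv.app _ := by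
          rw [← Gp.map_comp_assoc, hR3]
          rfl
      _ = _ := by
          rw [reassoc_of% hR4]
          simp
  exact hL.trans hR.symm

end Abstract

section Concrete

variable {X Y X' Y' : Scheme.{u}}

lemma pullbackCongr_rfl_hom_app (f : X ⟶ Y) (V : Y.Etale) :
    (MorphismProperty.Over.pullbackCongr (P := EtCoh.etaleMP) (Q := ⊤) (rfl : f = f)).hom.app V =
      𝟙 _ := by
  ext
  apply pullback.hom_ext
  · refine (MorphismProperty.Over.pullbackCongr_hom_app_left_fst (P := EtCoh.etaleMP) (Q := ⊤)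
      (rfl : f = f) V).trans ?_
    exact (Category.id_comp _).symm
  · simp only [MorphismProperty.Over.pullbackCongr, NatIso.ofComponents_hom_app,
      MorphismProperty.Over.isoMk_hom_left, pullback.congrHom_hom]
    exact (pullback.lift_snd _ _ _).trans ((Category.comp_id _).trans (Category.id_comp _).symm)

lemma pushCongr_rfl_inv_app (f : X ⟶ Y) (N : EtCoh.Ab X) :
    (EtCoh.pushCongr (rfl : f = f)).inv.app N = 𝟙 _ := by
  ext V : 3
  simp only [EtCoh.pushCongr, Functor.sheafPushforwardContinuousIso_inv,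
    Functor.sheafPushforwardContinuousNatTrans_app_hom, Functor.whiskerRight_app, NatTrans.op_app]
  refine Eq.trans (congrArg (fun t => N.obj.map (Quiver.Hom.op t))
    (pullbackCongr_rfl_hom_app f V.unop)) ?_
  exact N.obj.map_id _

lemma unit_congr {h₁ h₂ : X ⟶ Y} (w : h₁ = h₂) (M : EtCoh.Ab Y) :
    (EtCoh.pullPushAdj h₁).unit.app M ≫ (EtCoh.push h₁).map ((EtCore.pullCongr w).hom.app M) =
      (EtCoh.pullPushAdj h₂).unit.app M ≫
        (EtCoh.pushCongr w).inv.app ((EtCoh.pull h₂).obj M) := by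
  subst w
  rw [pushCongr_rfl_inv_app]
  simp [EtCore.pullCongr]

lemma sheaf_identity (f : X ⟶ Y) (g : Y' ⟶ Y) (f' : X' ⟶ Y') (g' : X' ⟶ X)
    (w : g' ≫ f = f' ≫ g) (F : EtCoh.Ab X) :
    (EtCore.pullComp g' f).hom.app ((EtCoh.push f).obj F) ≫
        (EtCoh.pull g').map ((EtCoh.pullPushAdj f).counit.app F) =
      (EtCore.pullCongr w).hom.app ((EtCoh.push f).obj F) ≫
        (EtCore.pullComp f' g).hom.app ((EtCoh.push f).obj F) ≫
        (EtCoh.pull f').map (EtCoh.baseChange0 f g f' g' w F) ≫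
        (EtCoh.pullPushAdj f').counit.app ((EtCoh.pull g').obj F) :=
  mate_bc0 (EtCoh.pullPushAdj f) (EtCoh.pullPushAdj g) (EtCoh.pullPushAdj f')
    (EtCoh.pullPushAdj g') (EtCoh.pullPushAdj (g' ≫ f)) (EtCoh.pullPushAdj (f' ≫ g))
    (EtCoh.pushComp f g') (EtCoh.pushComp g f') (EtCoh.pushCongr w) (EtCore.pullCongr w)
    (unit_congr w) F

end Concrete

end Groth.Agent.Helper6.HofPushBC
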