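import Mathlib
import Groth.Agent.Helper6.HofPushBC

set_option autoImplicit false
set_option linter.style.haveILetI false
set_option linter.unusedSectionVars false
set_option linter.unusedVariables false

/-!
# Compatibility of `H^q(Y, f_* F) → H^q(X, F)` with pullback along a commutative square (cohomology part)
-/

namespace Groth.Agent.Helper6.HofPushBC

open CategoryTheory CategoryTheory.Limits CategoryTheory.Adjunction AlgebraicGeometry Opposite Abelian

universe u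

variable {X Y X' Y' : Scheme.{u}}

lemma Hpull_natural (f : X ⟶ Y) [PreservesFiniteLimits (EtCoh.pull f)] {M N : EtCoh.Ab Y}
    (φ : M ⟶ N) (n : ℕ) (x : EtCoh.H Y M n) :
    EtCore.Hpull f N n (Sheaf.H.map φ n x) =
      Sheaf.H.map ((EtCoh.pull f).map φ) n (EtCore.Hpull f M n x) := by
  simp only [EtCore.Hpull, AddMonoidHom.coe_comp, AddMonoidHom.mk'_apply, Function.comp_apply,
    Functor.mapExtAddHom_apply, Sheaf.H.map_apply, Ext.mapExactFunctor_comp,
    Ext.mapExactFunctor_mk₀]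
  rw [Ext.comp_assoc_of_third_deg_zero]

lemma Hpull_congr {h₁ h₂ : X ⟶ Y} (w : h₁ = h₂) [PreservesFiniteLimits (EtCoh.pull h₁)]
    [PreservesFiniteLimits (EtCoh.pull h₂)] (G : EtCoh.Ab Y) (n : ℕ) (x : EtCoh.H Y G n) :
    EtCore.Hpull h₁ G n x =
      Sheaf.H.map ((EtCore.pullCongr w).inv.app G) n (EtCore.Hpull h₂ G n x) := by
  subst w
  have h : (EtCore.pullCongr (rfl : h₁ = h₁)).inv.app G = 𝟙 _ := by simp [EtCore.pullCongr]
  rw [h, Sheaf.H.map_id_apply]

lemma Hpull_comp' {Z : Scheme.{u}} (f : X ⟶ Y) (g : Y ⟶ Z) [PreservesFiniteLimits (EtCoh.pull f)]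
    [PreservesFiniteLimits (EtCoh.pull g)] [PreservesFiniteLimits (EtCoh.pull (f ≫ g))]
    (G : EtCoh.Ab Z) (n : ℕ) (x : EtCoh.H Z G n) :
    EtCore.Hpull f ((EtCoh.pull g).obj G) n (EtCore.Hpull g G n x) =
      Sheaf.H.map ((EtCore.pullComp f g).hom.app G) n (EtCore.Hpull (f ≫ g) G n x) := by
  have hc := Groth.Agent.Helper9.HpullComp.Hpull_comp f g G n x
  have h1 := congrArg (fun t => Sheaf.H.map ((EtCore.pullComp f g).hom.app G) n t) hc
  have h2 : ∀ y, Sheaf.H.map ((EtCore.pullComp f g).hom.app G) n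
      (Sheaf.H.map ((EtCore.pullComp f g).inv.app G) n y) = y := fun y =>
    (Sheaf.H.map_comp_apply _ _ _).symm.trans
      ((congrArg (fun φ => Sheaf.H.map φ n y) (Iso.inv_hom_id_app _ _)).trans
        (Sheaf.H.map_id_apply _))
  exact (h1.trans (h2 _)).symm

lemma HF_map_hom {M N : EtCoh.Ab Y} (φ : M ⟶ N) (n : ℕ) (x : EtCoh.H Y M n) :
    ((EtCoh.HF Y n).map φ).hom x = Sheaf.H.map φ n x := rfl

lemma HofPush_apply (f : X ⟶ Y) [PreservesFiniteLimits (EtCoh.pull f)] (F : EtCoh.Ab X) (n : ℕ)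
    (ζ : EtCoh.H Y ((EtCoh.push f).obj F) n) :
    EtLim.HofPush f F n ζ = Sheaf.H.map ((EtCoh.pullPushAdj f).counit.app F) n
      (EtCore.Hpull f ((EtCoh.push f).obj F) n ζ) := rfl

lemma main_left (f : X ⟶ Y) (g' : X' ⟶ X) (F : EtCoh.Ab X) (q : ℕ)
    [PreservesFiniteLimits (EtCoh.pull f)] [PreservesFiniteLimits (EtCoh.pull g')]
    [PreservesFiniteLimits (EtCoh.pull (g' ≫ f))]
    (ζ : EtCoh.H Y ((EtCoh.push f).obj F) q) :
    EtCore.Hpull g' F q (EtLim.HofPush f F q ζ) =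
      Sheaf.H.map ((EtCore.pullComp g' f).hom.app ((EtCoh.push f).obj F) ≫
        (EtCoh.pull g').map ((EtCoh.pullPushAdj f).counit.app F)) q
        (EtCore.Hpull (g' ≫ f) ((EtCoh.push f).obj F) q ζ) := by
  rw [HofPush_apply, Hpull_natural]
  exact (congrArg (fun t => Sheaf.H.map ((EtCoh.pull g').map
    ((EtCoh.pullPushAdj f).counit.app F)) q t)
    (Hpull_comp' g' f ((EtCoh.push f).obj F) q ζ)).trans (Sheaf.H.map_comp_apply _ _ _).symm

lemma main_right (f : X ⟶ Y) (g : Y' ⟶ Y) (f' : X' ⟶ Y') (g' : X' ⟶ X) (w : g' ≫ f = f' ≫ g)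
    (F : EtCoh.Ab X) (q : ℕ)
    [PreservesFiniteLimits (EtCoh.pull g)] [PreservesFiniteLimits (EtCoh.pull f')]
    [PreservesFiniteLimits (EtCoh.pull (f' ≫ g))]
    (ζ : EtCoh.H Y ((EtCoh.push f).obj F) q) :
    EtLim.HofPush f' ((EtCoh.pull g').obj F) q
        (((EtCoh.HF Y' q).map (EtCoh.baseChange0 f g f' g' w F)).hom
          (EtCore.Hpull g ((EtCoh.push f).obj F) q ζ)) =
      Sheaf.H.map ((EtCore.pullComp f' g).hom.app ((EtCoh.push f).obj F) ≫
        (EtCoh.pull f').map (EtCoh.baseChange0 f g f' g' w F) ≫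
        (EtCoh.pullPushAdj f').counit.app ((EtCoh.pull g').obj F)) q
        (EtCore.Hpull (f' ≫ g) ((EtCoh.push f).obj F) q ζ) := by
  rw [HofPush_apply, HF_map_hom, Hpull_natural]
  refine (congrArg (fun t => Sheaf.H.map ((EtCoh.pullPushAdj f').counit.app
    ((EtCoh.pull g').obj F)) q (Sheaf.H.map ((EtCoh.pull f').map
      (EtCoh.baseChange0 f g f' g' w F)) q t))
    (Hpull_comp' f' g ((EtCoh.push f).obj F) q ζ)).trans ?_
  rw [← Sheaf.H.map_comp_apply, ← Sheaf.H.map_comp_apply]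

lemma sheaf_identity' (f : X ⟶ Y) (g : Y' ⟶ Y) (f' : X' ⟶ Y') (g' : X' ⟶ X)
    (w : g' ≫ f = f' ≫ g) (F : EtCoh.Ab X) :
    (EtCore.pullCongr w).inv.app ((EtCoh.push f).obj F) ≫
      (EtCore.pullComp g' f).hom.app ((EtCoh.push f).obj F) ≫
        (EtCoh.pull g').map ((EtCoh.pullPushAdj f).counit.app F) =
      (EtCore.pullComp f' g).hom.app ((EtCoh.push f).obj F) ≫
        (EtCoh.pull f').map (EtCoh.baseChange0 f g f' g' w F) ≫
        (EtCoh.pullPushAdj f').counit.app ((EtCoh.pull g').obj F) := by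
  rw [sheaf_identity f g f' g' w F, Iso.inv_hom_id_app_assoc]

theorem main (f : X ⟶ Y) (g : Y' ⟶ Y) (f' : X' ⟶ Y') (g' : X' ⟶ X) (w : g' ≫ f = f' ≫ g)
    (F : EtCoh.Ab X) (q : ℕ)
    [PreservesFiniteLimits (EtCoh.pull f)] [PreservesFiniteLimits (EtCoh.pull g)]
    [PreservesFiniteLimits (EtCoh.pull f')] [PreservesFiniteLimits (EtCoh.pull g')]
    (ζ : EtCoh.H Y ((EtCoh.push f).obj F) q) :
    EtCore.Hpull g' F q (EtLim.HofPush f F q ζ) =
      EtLim.HofPush f' ((EtCoh.pull g').obj F) q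
        (((EtCoh.HF Y' q).map (EtCoh.baseChange0 f g f' g' w F)).hom
          (EtCore.Hpull g ((EtCoh.push f).obj F) q ζ)) := by
  haveI : PreservesFiniteLimits (EtCoh.pull f ⋙ EtCoh.pull g') := comp_preservesFiniteLimits _ _
  haveI : PreservesFiniteLimits (EtCoh.pull g ⋙ EtCoh.pull f') := comp_preservesFiniteLimits _ _
  haveI : PreservesFiniteLimits (EtCoh.pull (g' ≫ f)) :=
    preservesFiniteLimits_of_natIso (EtCore.pullComp g' f).symm
  haveI : PreservesFiniteLimits (EtCoh.pull (f' ≫ g)) :=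
    preservesFiniteLimits_of_natIso (EtCore.pullComp f' g).symm
  refine (main_left f g' F q ζ).trans (Eq.trans ?_ (main_right f g f' g' w F q ζ).symm)
  refine (congrArg (fun t => Sheaf.H.map ((EtCore.pullComp g' f).hom.app ((EtCoh.push f).obj F) ≫
    (EtCoh.pull g').map ((EtCoh.pullPushAdj f).counit.app F)) q t)
    (Hpull_congr w ((EtCoh.push f).obj F) q ζ)).trans ?_
  refine (Sheaf.H.map_comp_apply _ _ _).symm.trans ?_
  refine congrArg (fun φ => Sheaf.H.map φ q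
    (EtCore.Hpull (f' ≫ g) ((EtCoh.push f).obj F) q ζ)) ?_
  exact sheaf_identity' f g f' g' w F

end Groth.Agent.Helper6.HofPushBC
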