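import Mathlib
import Groth.Prelude.Def_EtAcyc
import Groth.Agent.Helper9.HpullComp
import Groth.Agent.Helper9.EtRetr
import Groth.Agent.Helper9.EtPushInj
import Groth.Agent.Helper9.AdjCoh
import Groth.Agent.Helper6.HofPushBC2
import Groth.Agent.Helper4.LTorsB

set_option autoImplicit false
set_option linter.style.haveILetI false
set_option linter.unusedSectionVars false
set_option linter.unusedVariables false

/-!
# Acyclic morphisms and composition (abelian form and sheaves of sets)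
-/

namespace Groth.Agent.Helper6.AcycComp

open CategoryTheory CategoryTheory.Limits CategoryTheory.Adjunction AlgebraicGeometry Opposite Abelian

universe w w' u u' v v'

section AbstractExt

variable {C : Type u} [Category.{v} C] [Abelian C] [HasExt.{w} C]

lemma precomp_cancel {Z₁ Z₂ G : C} (f : Z₁ ⟶ Z₂) [IsIso f] {n : ℕ} (a b : Ext.{w} Z₂ G n)
    (h : (Ext.mk₀ f).comp a (zero_add n) = (Ext.mk₀ f).comp b (zero_add n)) : a = b := by
  have h1 := congrArg (fun t => (Ext.mk₀ (inv f)).comp t (zero_add n)) h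
  simp only [Ext.mk₀_comp_mk₀_assoc, IsIso.inv_hom_id, Ext.mk₀_id_comp] at h1
  exact h1

lemma postcomp_cancel {Z G₁ G₂ : C} (f : G₁ ⟶ G₂) [IsIso f] {n : ℕ} (a b : Ext.{w} Z G₁ n)
    (h : a.comp (Ext.mk₀ f) (add_zero n) = b.comp (Ext.mk₀ f) (add_zero n)) : a = b := by
  have h1 := congrArg (fun t => t.comp (Ext.mk₀ (inv f)) (add_zero n)) h
  simp only [Ext.comp_assoc_of_third_deg_zero, Ext.mk₀_comp_mk₀, IsIso.hom_inv_id,
    Ext.comp_mk₀_id] at h1
  exact h1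

variable [EnoughInjectives C]
variable {D : Type u'} [Category.{v'} D] [Abelian D] [HasExt.{w'} D]
variable (Φ : C ⥤ D) [Φ.Additive] [PreservesFiniteLimits Φ] [PreservesFiniteColimits Φ]
  (Ψ : D ⥤ C) [Ψ.Additive] [PreservesFiniteLimits Ψ] [PreservesFiniteColimits Ψ]
  (α : Φ ⋙ Ψ ≅ 𝟭 C) {Z : C} {Z' : D} (c : Z' ≅ Φ.obj Z) (G : C) (n : ℕ)

include α c in
open Groth.Agent.Helper9 in
theorem mapExt_surjective (x₀ : Ext.{w} (Ψ.obj Z') (Ψ.obj (Φ.obj G)) n) :
    ∃ y : Ext.{w'} Z' (Φ.obj G) n, y.mapExactFunctor Ψ = x₀ := by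
  haveI : IsIso (α.inv.app Z ≫ Ψ.map c.inv) := inferInstance
  haveI : IsIso (α.hom.app G) := inferInstance
  let x : Ext.{w} Z G n :=
    (Ext.mk₀ (α.inv.app Z ≫ Ψ.map c.inv)).comp (x₀.comp (Ext.mk₀ (α.hom.app G)) (add_zero n))
      (zero_add n)
  refine ⟨ExtRetr.ι Φ c G n x, ?_⟩
  have h : (Ext.mk₀ (α.inv.app Z ≫ Ψ.map c.inv)).comp
      (((ExtRetr.ι Φ c G n x).mapExactFunctor Ψ).comp (Ext.mk₀ (α.hom.app G)) (add_zero n))
      (zero_add n) = x :=
    (ExtRetr.ρ_apply Φ Ψ α c G n _).symm.trans (ExtRetr.ρ_ι Φ Ψ α c G n x)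
  exact postcomp_cancel (α.hom.app G) _ _ (precomp_cancel (α.inv.app Z ≫ Ψ.map c.inv) _ _ h)

end AbstractExt

section AbstractUnit

universe a₁ a₂ b₁ b₂ c₁ c₂

variable {𝒜 : Type a₁} [Category.{a₂} 𝒜] {ℬ : Type b₁} [Category.{b₂} ℬ]
  {𝒞 : Type c₁} [Category.{c₂} 𝒞]
  {Lb : 𝒜 ⥤ ℬ} {Rb : ℬ ⥤ 𝒜} (adjb : Lb ⊣ Rb)
  {La : ℬ ⥤ 𝒞} {Ra : 𝒞 ⥤ ℬ} (adja : La ⊣ Ra)
  {Lc : 𝒜 ⥤ 𝒞} {Rc : 𝒞 ⥤ 𝒜} (adjc : Lc ⊣ Rc) (κ : Ra ⋙ Rb ≅ Rc)

include κ in
theorem isIso_unit_comp_iff (F : 𝒜) (ha : IsIso (adja.unit.app (Lb.obj F))) :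
    IsIso (adjc.unit.app F) ↔ IsIso (adjb.unit.app F) := by
  haveI := ha
  let θ := leftAdjointUniq adjc ((adjb.comp adja).ofNatIsoRight κ)
  have h : adjc.unit.app F ≫ Rc.map (θ.hom.app F) =
      (adjb.unit.app F ≫ Rb.map (adja.unit.app (Lb.obj F))) ≫ κ.hom.app _ := by
    rw [unit_leftAdjointUniq_hom_app, Groth.Agent.Helper9.AdjCoh.ofNatIsoRight_unit_app,
      Adjunction.comp_unit_app]
    rfl
  constructor
  · intro hc
    haveI := hc
    have e : adjb.unit.app F = (adjc.unit.app F ≫ Rc.map (θ.hom.app F)) ≫ κ.inv.app _ ≫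
        Rb.map (inv (adja.unit.app (Lb.obj F))) := by
      rw [h]
      simp only [Category.assoc, Iso.hom_inv_id_app_assoc, Functor.comp_obj]
      rw [← Functor.map_comp, IsIso.hom_inv_id, CategoryTheory.Functor.map_id, Category.comp_id]
    rw [e]
    infer_instance
  · intro hb
    haveI := hb
    have e : adjc.unit.app F = ((adjb.unit.app F ≫ Rb.map (adja.unit.app (Lb.obj F))) ≫
        κ.hom.app _) ≫ inv (Rc.map (θ.hom.app F)) := by
      rw [← h, Category.assoc, IsIso.hom_inv_id, Category.comp_id]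
    rw [e]
    infer_instance

end AbstractUnit

section Et

universe u₀

open Groth.Agent.Helper9 Groth.Agent.Helper6.HofPushBC

lemma Hmap_bijective {X : Scheme.{u₀}} {M N : EtCoh.Ab X} (e : M ≅ N) (n : ℕ) :
    Function.Bijective (Sheaf.H.map e.hom n) := by
  refine Function.bijective_iff_has_inverse.2 ⟨Sheaf.H.map e.inv n, fun x => ?_, fun y => ?_⟩
  · exact (Sheaf.H.map_comp_apply e.hom e.inv x).symm.trans
      ((congrArg (fun φ => Sheaf.H.map φ n x) e.hom_inv_id).trans (Sheaf.H.map_id_apply x))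
  · exact (Sheaf.H.map_comp_apply e.inv e.hom y).symm.trans
      ((congrArg (fun φ => Sheaf.H.map φ n y) e.inv_hom_id).trans (Sheaf.H.map_id_apply y))

section Iso

variable {A B : Scheme.{u₀}} (e : A ≅ B)

lemma Hpull_injective_of_iso (N : EtCoh.Ab B) (n : ℕ) :
    Function.Injective (EtCore.Hpull e.hom N n) := by
  intro x y hxy
  have hx := ExtRetr.ρ_ι (EtCoh.pull e.hom) (EtCoh.pull e.inv)
    (EtRetr.α e.hom e.inv e.inv_hom_id) (EtCore.pullConst e.hom ℤ).symm N n x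
  have hy := ExtRetr.ρ_ι (EtCoh.pull e.hom) (EtCoh.pull e.inv)
    (EtRetr.α e.hom e.inv e.inv_hom_id) (EtCore.pullConst e.hom ℤ).symm N n y
  have hxy' : ExtRetr.ι (EtCoh.pull e.hom) (EtCore.pullConst e.hom ℤ).symm N n x =
      ExtRetr.ι (EtCoh.pull e.hom) (EtCore.pullConst e.hom ℤ).symm N n y := hxy
  rw [← hx, ← hy, hxy']

lemma Hpull_surjective_aux (M : EtCoh.Ab A) (n : ℕ) :
    Function.Surjective (EtCore.Hpull e.hom ((EtCoh.pull e.inv).obj M) n) := by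
  intro y
  obtain ⟨y', hy'⟩ := mapExt_surjective (EtCoh.pull e.inv) (EtCoh.pull e.hom)
    (EtRetr.α e.inv e.hom e.hom_inv_id) (EtCore.pullConst e.inv ℤ).symm M n
    ((Ext.mk₀ (EtCore.pullConst e.hom ℤ).hom).comp y (zero_add n))
  refine ⟨y', ?_⟩
  have h1 : EtCore.Hpull e.hom ((EtCoh.pull e.inv).obj M) n y' =
      (Ext.mk₀ (EtCore.pullConst e.hom ℤ).inv).comp (y'.mapExactFunctor (EtCoh.pull e.hom))
        (zero_add n) := rfl
  rw [h1, hy', Ext.mk₀_comp_mk₀_assoc, Iso.inv_hom_id, Ext.mk₀_id_comp]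

lemma Hpull_surjective_of_iso (N : EtCoh.Ab B) (n : ℕ) :
    Function.Surjective (EtCore.Hpull e.hom N n) := by
  let φ : (EtCoh.pull e.inv).obj ((EtCoh.pull e.hom).obj N) ≅ N :=
    (EtRetr.α e.hom e.inv e.inv_hom_id).app N
  intro y
  obtain ⟨x₁, hx₁⟩ := Hpull_surjective_aux e ((EtCoh.pull e.hom).obj N) n
    (Sheaf.H.map ((EtCoh.pull e.hom).map φ.inv) n y)
  refine ⟨Sheaf.H.map φ.hom n x₁, ?_⟩
  rw [Hpull_natural, hx₁, ← Sheaf.H.map_comp_apply, ← Functor.map_comp, Iso.inv_hom_id,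
    CategoryTheory.Functor.map_id, Sheaf.H.map_id_apply]

theorem compN_of_iso (L : Set ℕ) (n : ℕ) : EtAcyc.CompN e.hom L n := by
  intro F hF inst
  exact ⟨fun q hq => ⟨Hpull_injective_of_iso e F q, Hpull_surjective_of_iso e F q⟩,
    Hpull_injective_of_iso e F (n + 1)⟩

end Iso

lemma section_killed {X : Scheme.{u₀}} (G : EtCoh.Ab X) (a : ℕ) (h : a • 𝟙 G = 0) (W : X.Etale)
    (t : G.obj.obj (op W)) : a • t = 0 := by
  let Φ : EtCoh.Ab X ⥤ AddCommGrpCat.{u₀ + 1} :=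
    sheafToPresheaf X.smallEtaleTopology AddCommGrpCat.{u₀ + 1} ⋙ (evaluation _ _).obj (op W)
  haveI : Φ.Additive := by
    dsimp only [Φ]
    infer_instance
  have h1 : Φ.map (a • 𝟙 G) = 0 := by rw [h, Functor.map_zero]
  rw [Functor.map_nsmul, CategoryTheory.Functor.map_id] at h1
  have h2 : (a • 𝟙 (Φ.obj G)) t = (0 : Φ.obj G ⟶ Φ.obj G) t := by rw [h1]
  simpa using h2

open Groth.Agent.Helper4.LTors in
theorem isLTorsion_pull {X Y : Scheme.{u₀}} (f : X ⟶ Y) (L : Set ℕ) (F : EtCoh.Ab Y)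
    (hF : EtAcyc.IsLTorsion L F) : EtAcyc.IsLTorsion L ((EtCoh.pull f).obj F) := by
  haveI := isIso_φ L F hF
  refine isLTorsion_of_iso ((EtCoh.pull f).mapIso (asIso (φ L F))) ?_
  haveI : PreservesColimitsOfSize.{u₀ + 1, u₀ + 1} (EtCoh.pull f) :=
    (EtCoh.pullPushAdj f).leftAdjoint_preservesColimits
  have hc : IsColimit ((EtCoh.pull f).mapCocone (colimit.cocone (D L F))) :=
    isColimitOfPreserves (EtCoh.pull f) (colimit.isColimit (D L F))
  intro U s x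
  obtain ⟨S, hS, hS'⟩ := Groth.Agent.Helper4.SecLoc.loc_surj (D L F ⋙ EtCoh.pull f) hc s
  obtain ⟨V, g, v, hg, hv⟩ := (Groth.Agent.Helper4.EtGeom.mem_iff U S).1 hS x
  obtain ⟨l, y, hy⟩ := hS' g hg
  refine ⟨V, g, (AsSmall.down.obj l).val, ⟨v, hv⟩, (AsSmall.down.obj l).mem, ?_⟩
  have hy' : (((EtCoh.pull f).mapCocone (colimit.cocone (D L F))).ι.app l).hom.app (op V) y =
      ((EtCoh.pull f).obj (T L F)).obj.map g.op s := hy
  rw [← hy', ← map_nsmul]
  have hk : (AsSmall.down.obj l).val •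
      𝟙 ((EtCoh.pull f).obj (K L F (AsSmall.down.obj l))) = 0 := by
    rw [← CategoryTheory.Functor.map_id, ← Functor.map_nsmul, K_killed, Functor.map_zero]
  have h0 : (AsSmall.down.obj l).val • y = 0 := section_killed _ _ hk V y
  rw [h0, map_zero]

theorem compN_comp {Q P T : Scheme.{u₀}} (a : Q ⟶ P) (b : P ⟶ T) (L : Set ℕ) (n : ℕ)
    (ha : EtAcyc.CompN a L n) : EtAcyc.CompN b L n ↔ EtAcyc.CompN (a ≫ b) L n := by
  have key : ∀ (F : EtCoh.Ab T) (q : ℕ), ⇑(EtCore.Hpull (a ≫ b) F q) =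
      (⇑(Sheaf.H.map ((EtCore.pullComp a b).inv.app F) q) ∘
        ⇑(EtCore.Hpull a ((EtCoh.pull b).obj F) q)) ∘ ⇑(EtCore.Hpull b F q) :=
    fun F q => funext fun x => HpullComp.Hpull_comp a b F q x
  have hm : ∀ (F : EtCoh.Ab T) (q : ℕ),
      Function.Bijective (Sheaf.H.map ((EtCore.pullComp a b).inv.app F) q) :=
    fun F q => Hmap_bijective ((EtCore.pullComp a b).symm.app F) q
  constructor
  · intro hb F hF inst
    obtain ⟨hb1, hb2⟩ := hb F hF
    obtain ⟨ha1, ha2⟩ := ha ((EtCoh.pull b).obj F) (isLTorsion_pull b L F hF)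
    refine ⟨fun q hq => ?_, ?_⟩
    · have := ((hm F q).comp (ha1 q hq)).comp (hb1 q hq)
      rw [← key F q] at this
      exact this
    · have := ((hm F (n + 1)).injective.comp ha2).comp hb2
      rw [← key F (n + 1)] at this
      exact this
  · intro hab F hF inst
    obtain ⟨hab1, hab2⟩ := hab F hF
    obtain ⟨ha1, ha2⟩ := ha ((EtCoh.pull b).obj F) (isLTorsion_pull b L F hF)
    refine ⟨fun q hq => ?_, ?_⟩
    · have h1 := hab1 q hq
      rw [key F q] at h1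
      exact (((hm F q).comp (ha1 q hq)).of_comp_iff' _).1 h1
    · have h1 := hab2
      rw [key F (n + 1)] at h1
      exact (((hm F (n + 1)).injective.comp ha2).of_comp_iff _).1 h1

/-! ### sheaves of sets -/

/-- all units of `f^* ⊣ f_*` on sheaves of sets are isomorphisms -/
def UnitIso {P T : Scheme.{u₀}} (f : P ⟶ T) : Prop :=
  ∀ F : EtDesc.Sh T, IsIso ((EtDesc.adjSh f).unit.app F)

theorem unitIso_comp {Q P T : Scheme.{u₀}} (a : Q ⟶ P) (b : P ⟶ T) (ha : UnitIso a) :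
    UnitIso b ↔ UnitIso (a ≫ b) :=
  forall_congr' fun F => (isIso_unit_comp_iff (EtDesc.adjSh b) (EtDesc.adjSh a)
    (EtDesc.adjSh (a ≫ b)) (EtDesc.pushCompSh b a) F (ha _)).symm

set_option backward.isDefEq.respectTransparency.types false in
noncomputable def pushIdSh (T : Scheme.{u₀}) : EtDesc.pushSh (𝟙 T) ≅ 𝟭 (EtDesc.Sh T) :=
  Functor.sheafPushforwardContinuousId' (EtRetr.bcId T) (Type (u₀ + 1)) T.smallEtaleTopology

noncomputable def pushCongrSh {P T : Scheme.{u₀}} {f f' : P ⟶ T} (h : f = f') :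
    EtDesc.pushSh f ≅ EtDesc.pushSh f' :=
  eqToIso (by rw [h])

noncomputable def pushShEquiv {A B : Scheme.{u₀}} (e : A ≅ B) : EtDesc.Sh A ≌ EtDesc.Sh B :=
  CategoryTheory.Equivalence.mk (EtDesc.pushSh e.hom) (EtDesc.pushSh e.inv)
    ((pushIdSh A).symm ≪≫ pushCongrSh e.hom_inv_id.symm ≪≫ (EtDesc.pushCompSh e.inv e.hom).symm)
    (EtDesc.pushCompSh e.hom e.inv ≪≫ pushCongrSh e.inv_hom_id ≪≫ pushIdSh B)

theorem unitIso_of_iso {A B : Scheme.{u₀}} (e : A ≅ B) : UnitIso e.hom := by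
  intro F
  haveI : (EtDesc.pushSh e.hom).IsEquivalence := (pushShEquiv e).isEquivalence_functor
  haveI : IsIso (EtDesc.adjSh e.hom).unit := inferInstance
  infer_instance

/-! ### the statement -/

variable {X Y Z : Scheme.{u₀}} (g : X ⟶ Y) (h : Y ⟶ Z)

lemma prj_comp_eq (V : Z.Etale) :
    EtAcyc.prj (g ≫ h) V = (pullbackLeftPullbackSndIso V.hom h g).inv ≫
      ((pullback.fst (pullback.snd V.hom h) g) ≫ pullback.fst V.hom h) :=
  (pullbackLeftPullbackSndIso_inv_fst V.hom h g).symm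

theorem compN_prj_iff (L : Set ℕ) (n : ℕ) (hg : EtAcyc.IsAcyclicN g L n) (V : Z.Etale) :
    EtAcyc.CompN (EtAcyc.prj h V) L n ↔ EtAcyc.CompN (EtAcyc.prj (g ≫ h) V) L n := by
  rw [prj_comp_eq g h V]
  exact (compN_comp (pullback.fst (pullback.snd V.hom h) g) (pullback.fst V.hom h) L n
    (hg ((EtCoh.bc h).obj V))).trans
    (compN_comp (pullbackLeftPullbackSndIso V.hom h g).inv _ L n
      (compN_of_iso (pullbackLeftPullbackSndIso V.hom h g).symm L n))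

theorem unitIso_prj_iff (hg : EtAcyc.IsZeroAcyclic g) (V : Z.Etale) :
    UnitIso (EtAcyc.prj h V) ↔ UnitIso (EtAcyc.prj (g ≫ h) V) := by
  rw [prj_comp_eq g h V]
  exact (unitIso_comp (pullback.fst (pullback.snd V.hom h) g) (pullback.fst V.hom h)
    (hg ((EtCoh.bc h).obj V))).trans
    (unitIso_comp (pullbackLeftPullbackSndIso V.hom h g).inv _
      (unitIso_of_iso (pullbackLeftPullbackSndIso V.hom h g).symm))

theorem main (L : Set ℕ) (n : ℕ) :
    (EtAcyc.IsAcyclicN g L n → (EtAcyc.IsAcyclicN h L n ↔ EtAcyc.IsAcyclicN (g ≫ h) L n)) ∧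
      (EtAcyc.IsZeroAcyclic g → (EtAcyc.IsZeroAcyclic h ↔ EtAcyc.IsZeroAcyclic (g ≫ h))) :=
  ⟨fun hg => forall_congr' fun V => compN_prj_iff g h L n hg V,
    fun hg => forall_congr' fun V => unitIso_prj_iff g h hg V⟩

end Et

end Groth.Agent.Helper6.AcycComp
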