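import Mathlib
import Groth.Prelude.Def_CAlg
import Groth.Agent.Helper6.DepthLemma

/-!
# The acyclicity lemma of Peskine–Szpiro (abstract module form)
-/

set_option autoImplicit false
universe u

namespace Groth.Agent.Helper6.AcycLemma

open CategoryTheory Abelian IsLocalRing
open Groth.Agent.Helper6.DepthLemma Groth.Agent.Helper2.DepthRees

variable {R : Type u} [CommRing R] [IsNoetherianRing R]

section General
variable (I : Ideal R)

omit [IsNoetherianRing R] in
lemma extVan_mono {M : Type u} [AddCommGroup M] [Module R M] {n n' : ℕ} (h : n' ≤ n)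
    (hM : ExtVan I M n) : ExtVan I M n' :=
  fun i hi => hM i (lt_of_lt_of_le hi h)

omit [IsNoetherianRing R] in
lemma extVan_of_subsingleton (M : Type u) [AddCommGroup M] [Module R M] [Subsingleton M] (n : ℕ) :
    ExtVan I M n := by
  haveI : Module.Finite R M := Module.Finite.of_finite
  exact extVan_of_smul_top_eq_top I M (Subsingleton.elim _ _) n

omit [IsNoetherianRing R] in
lemma extVan_of_equiv {M N : Type u} [AddCommGroup M] [Module R M] [AddCommGroup N] [Module R N]
    (e : M ≃ₗ[R] N) (n : ℕ) (h : ExtVan I M n) : ExtVan I N n := by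
  refine extVan_mid I (e : M →ₗ[R] N) (0 : N →ₗ[R] PUnit.{u+1}) e.injective
    (fun _ => ⟨0, Subsingleton.elim _ _⟩) ?_ n h (extVan_of_subsingleton I PUnit n)
  intro y
  exact ⟨fun _ => ⟨e.symm y, by simp⟩, fun _ => rfl⟩

omit [IsNoetherianRing R] in
lemma extVan_prod {M N : Type u} [AddCommGroup M] [Module R M] [AddCommGroup N] [Module R N]
    (n : ℕ) (hM : ExtVan I M n) (hN : ExtVan I N n) : ExtVan I (M × N) n := by
  refine extVan_mid I (LinearMap.inl R M N) (LinearMap.snd R M N) LinearMap.inl_injective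
    LinearMap.snd_surjective ?_ n hM hN
  intro y
  constructor
  · intro h
    refine ⟨y.1, ?_⟩
    ext
    · rfl
    · exact h.symm
  · rintro ⟨x, rfl⟩
    rfl

omit [IsNoetherianRing R] in
lemma extVan_pi_fin (M : Type u) [AddCommGroup M] [Module R M] (n : ℕ) (hM : ExtVan I M n) :
    ∀ k : ℕ, ExtVan I (Fin k → M) n
  | 0 => extVan_of_subsingleton I _ n
  | k + 1 => extVan_of_equiv I (Fin.consLinearEquiv R (fun _ : Fin (k + 1) => M)) n
      (extVan_prod I n hM (extVan_pi_fin M n hM k))

end General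

section Socle
variable [IsLocalRing R] {F : Type u} [AddCommGroup F] [Module R F]

/-- socle element -/
lemma exists_socle (B : Submodule R F) (z : F) (hz : z ∉ B)
    (hloc : ∀ (p : Ideal R) [p.IsPrime], p ≠ maximalIdeal R → ∃ s : R, s ∉ p ∧ s • z ∈ B) :
    ∃ r : R, r • z ∉ B ∧ ∀ t ∈ maximalIdeal R, t • (r • z) ∈ B := by
  let a : Ideal R := B.comap (LinearMap.toSpanSingleton R F z)
  have ha : ∀ r, r ∈ a ↔ r • z ∈ B := by
    intro r
    simp [a, Submodule.mem_comap, LinearMap.toSpanSingleton_apply]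
  have hrad : maximalIdeal R ≤ a.radical := by
    rw [Ideal.radical_eq_sInf]
    refine le_sInf ?_
    rintro p ⟨hap, hp⟩
    by_cases hpm : p = maximalIdeal R
    · rw [hpm]
    · exfalso
      obtain ⟨s, hs, hsz⟩ := hloc p hpm
      exact hs (hap ((ha s).2 hsz))
  have hex : ∃ k, maximalIdeal R ^ k ≤ a :=
    Ideal.exists_pow_le_of_le_radical_of_fg hrad (IsNoetherian.noetherian _)
  classical
  have hk0 : maximalIdeal R ^ (Nat.find hex) ≤ a := Nat.find_spec hex
  have hk0pos : Nat.find hex ≠ 0 := by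
    intro h0
    rw [h0, pow_zero] at hk0
    apply hz
    have : (1 : R) ∈ a := hk0 (by simp)
    simpa using (ha 1).1 this
  obtain ⟨j, hj⟩ := Nat.exists_eq_succ_of_ne_zero hk0pos
  have hnot : ¬ maximalIdeal R ^ j ≤ a := Nat.find_min hex (by omega)
  obtain ⟨r, hr, hra⟩ := SetLike.not_le_iff_exists.1 hnot
  refine ⟨r, fun h => hra ((ha r).2 h), ?_⟩
  intro t ht
  rw [smul_smul]
  apply (ha _).1
  apply hk0
  rw [hj, pow_succ']
  exact Ideal.mul_mem_mul ht hr

end Socle

section Main
variable [IsLocalRing R] (e : ℕ)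
  (F : ℕ → Type u) [∀ i, AddCommGroup (F i)] [∀ i, Module R (F i)]
  (d : ∀ i, F (i + 1) →ₗ[R] F i)

omit [IsNoetherianRing R] in
lemma nonzero_hom_contra {M : Type u} [AddCommGroup M] [Module R M] (x : M) (hx : x ≠ 0)
    (hm : ∀ t ∈ maximalIdeal R, t • x = 0) (h : ExtVan (maximalIdeal R) M 1) : False := by
  have hsub : Subsingleton (Ext (Q (maximalIdeal R)) (ModuleCat.of R M) 0) := h 0 (by omega)
  have hker : maximalIdeal R ≤ LinearMap.ker (LinearMap.toSpanSingleton R M x) := by
    intro t ht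
    rw [LinearMap.mem_ker, LinearMap.toSpanSingleton_apply]
    exact hm t ht
  let φ : (R ⧸ maximalIdeal R) →ₗ[R] M :=
    Submodule.liftQ (maximalIdeal R) (LinearMap.toSpanSingleton R M x) hker
  have hφ : φ (Submodule.Quotient.mk 1) = x := by
    show Submodule.liftQ _ _ _ (Submodule.Quotient.mk 1) = x
    rw [Submodule.liftQ_apply, LinearMap.toSpanSingleton_apply, one_smul]
  have h0 : (ModuleCat.ofHom φ : Q (maximalIdeal R) ⟶ ModuleCat.of R M) = 0 := by
    have := (Ext.addEquiv₀ (X := Q (maximalIdeal R)) (Y := ModuleCat.of R M)).symm.injective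
    apply this
    exact Subsingleton.elim _ _
  have h1 : φ = 0 := by
    have := congrArg ModuleCat.Hom.hom h0
    simpa using this
  apply hx
  rw [← hφ, h1]
  rfl

variable (hdd : ∀ i, (d i).comp (d (i + 1)) = 0)
  (hF : ∀ i, ExtVan (maximalIdeal R) (F i) 1)
  (hloc : ∀ i, i + 1 ≤ e → ∀ z ∈ LinearMap.ker (d i), ∀ (p : Ideal R) [p.IsPrime],
    p ≠ maximalIdeal R → ∃ s : R, s ∉ p ∧ s • z ∈ LinearMap.range (d (i + 1)))

include hdd hF hloc in
lemma exact_of_depth (i : ℕ) (hi : i + 1 ≤ e)
    (hB : ExtVan (maximalIdeal R) ↥(LinearMap.range (d (i + 1))) 2) :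
    LinearMap.ker (d i) = LinearMap.range (d (i + 1)) := by
  have hBZ : LinearMap.range (d (i + 1)) ≤ LinearMap.ker (d i) := by
    rintro _ ⟨w, rfl⟩
    rw [LinearMap.mem_ker]
    exact LinearMap.congr_fun (hdd i) w
  refine le_antisymm ?_ hBZ
  by_contra hne
  obtain ⟨z, hzker, hz⟩ := SetLike.not_le_iff_exists.1 hne
  obtain ⟨r, hr1, hr2⟩ := exists_socle (LinearMap.range (d (i + 1))) z hz
    (fun p _ hp => hloc i hi z hzker p hp)
  have hy : r • z ∈ LinearMap.ker (d i) := Submodule.smul_mem _ _ hzker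
  set Z := LinearMap.ker (d i) with hZ
  set B := LinearMap.range (d (i + 1)) with hBdef
  -- Z has depth ≥ 1
  have hZ1 : ExtVan (maximalIdeal R) ↥Z 1 := by
    refine extVan_left (maximalIdeal R) Z.subtype Z.mkQ Subtype.val_injective
      (Submodule.mkQ_surjective _) ?_ 1 (hF (i + 1)) ?_
    · intro y
      rw [Submodule.mkQ_apply, Submodule.Quotient.mk_eq_zero]
      simp
    · intro j hj
      omega
  have hM3 : ExtVan (maximalIdeal R) (↥Z ⧸ (B.comap Z.subtype)) 1 := by
    refine extVan_right (maximalIdeal R) (Submodule.inclusion hBZ) (B.comap Z.subtype).mkQ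
      (Submodule.inclusion_injective hBZ) (Submodule.mkQ_surjective _) ?_ 1 hZ1 hB
    intro y
    rw [Submodule.mkQ_apply, Submodule.Quotient.mk_eq_zero, Submodule.mem_comap]
    constructor
    · intro h
      exact ⟨⟨y.1, h⟩, rfl⟩
    · rintro ⟨b, rfl⟩
      exact b.2
  refine nonzero_hom_contra ((B.comap Z.subtype).mkQ ⟨r • z, hy⟩) ?_ ?_ hM3
  · rw [Submodule.mkQ_apply, Ne, Submodule.Quotient.mk_eq_zero, Submodule.mem_comap]
    exact hr1
  · intro t ht
    rw [← map_smul, Submodule.mkQ_apply, Submodule.Quotient.mk_eq_zero, Submodule.mem_comap]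
    exact hr2 t ht

variable (hFe : ∀ i, ExtVan (maximalIdeal R) (F i) e) (hd0 : ∀ j, e ≤ j → d j = 0)

omit [IsNoetherianRing R] in
include hFe in
lemma depth_step (i : ℕ) (hi : i + 2 ≤ e)
    (hex : LinearMap.ker (d (i + 1)) = LinearMap.range (d (i + 2)))
    (hB : ExtVan (maximalIdeal R) ↥(LinearMap.range (d (i + 2))) (i + 3)) :
    ExtVan (maximalIdeal R) ↥(LinearMap.range (d (i + 1))) (i + 2) := by
  have hK : ExtVan (maximalIdeal R) ↥(LinearMap.ker (d (i + 1))) (i + 3) := hex ▸ hB
  refine extVan_right (maximalIdeal R) (LinearMap.ker (d (i + 1))).subtype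
    (d (i + 1)).rangeRestrict Subtype.val_injective (LinearMap.surjective_rangeRestrict _) ?_
    (i + 2) (extVan_mono _ hi (hFe (i + 2))) hK
  intro y
  rw [Subtype.ext_iff]
  constructor
  · intro h
    exact ⟨⟨y, h⟩, rfl⟩
  · rintro ⟨w, rfl⟩
    exact w.2

include hdd hloc hFe hd0 in
theorem main (he : 1 ≤ e) : ∀ i, i + 1 ≤ e →
    LinearMap.ker (d i) = LinearMap.range (d (i + 1)) := by
  have hF1 : ∀ i, ExtVan (maximalIdeal R) (F i) 1 := fun i => extVan_mono _ he (hFe i)
  have key : ∀ k i, i + 1 + k = e →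
      ExtVan (maximalIdeal R) ↥(LinearMap.range (d (i + 1))) (i + 2) ∧
        LinearMap.ker (d i) = LinearMap.range (d (i + 1)) := by
    intro k
    induction k with
    | zero =>
      intro i hi
      have h0 : LinearMap.range (d (i + 1)) = ⊥ := by
        rw [hd0 (i + 1) (by omega), LinearMap.range_zero]
      have hB : ExtVan (maximalIdeal R) ↥(LinearMap.range (d (i + 1))) (i + 2) := by
        rw [h0]
        exact extVan_of_subsingleton _ _ _
      exact ⟨hB, exact_of_depth e F d hdd hF1 hloc i (by omega) (extVan_mono _ (by omega) hB)⟩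
    | succ k ih =>
      intro i hi
      obtain ⟨hB', hex'⟩ := ih (i + 1) (by omega)
      have hB := depth_step e F d hFe i (by omega) hex' hB'
      exact ⟨hB, exact_of_depth e F d hdd hF1 hloc i (by omega) (extVan_mono _ (by omega) hB)⟩
  intro i hi
  exact (key (e - (i + 1)) i (by omega)).2

end Main

end Groth.Agent.Helper6.AcycLemma
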