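import Mathlib
import Groth.Prelude.Def_CAlg
import Groth.Agent.Helper6.AcycLemma
import Groth.Agent.Helper1.LocCohDepth

/-!
# The acyclicity lemma for complexes of matrices
-/

set_option autoImplicit false
universe u

namespace Groth.Agent.Helper6.AcycMatrix

open IsLocalRing Groth.Agent.Helper6.DepthLemma Groth.Agent.Helper6.AcycLemma

variable {R : Type u} [CommRing R]

section Loc
variable (p : Ideal R) [p.IsPrime]

lemma exists_smul_eq_zero {k : ℕ} (v : Fin k → R)
    (hv : ∀ j, algebraMap R (Localization.AtPrime p) (v j) = 0) :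
    ∃ t : R, t ∉ p ∧ t • v = 0 := by
  classical
  have h1 : ∀ j, ∃ m : p.primeCompl, (m : R) * v j = 0 := fun j =>
    (IsLocalization.map_eq_zero_iff p.primeCompl (Localization.AtPrime p) (v j)).1 (hv j)
  choose t ht using h1
  refine ⟨∏ j, (t j : R), ?_, ?_⟩
  · have : (∏ j, (t j : R)) ∈ p.primeCompl := Submonoid.prod_mem _ (fun j _ => (t j).2)
    exact this
  · ext j
    simp only [Pi.smul_apply, smul_eq_mul, Pi.zero_apply]
    rw [← Finset.prod_erase_mul _ _ (Finset.mem_univ j), mul_assoc, ht j, mul_zero]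

lemma exists_clear_denom {k : ℕ} (w : Fin k → Localization.AtPrime p) :
    ∃ (s : R) (w' : Fin k → R), s ∉ p ∧
      ∀ j, algebraMap R (Localization.AtPrime p) (w' j) =
        algebraMap R (Localization.AtPrime p) s * w j := by
  obtain ⟨b, hb⟩ := IsLocalization.exist_integer_multiples_of_finite p.primeCompl w
  choose w' hw' using hb
  refine ⟨b, w', b.2, fun j => ?_⟩
  rw [hw' j, Algebra.smul_def]

end Loc

section Main
variable [IsLocalRing R] [IsNoetherianRing R]

lemma extVan_ring_of_regular (rs : List R) (hmem : ∀ x ∈ rs, x ∈ maximalIdeal R)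
    (hreg : RingTheory.Sequence.IsRegular R rs) :
    ExtVan (maximalIdeal R) R rs.length := by
  have hIM : maximalIdeal R • (⊤ : Submodule R R) ≠ ⊤ := by
    simpa using (Ideal.IsPrime.ne_top (inferInstance : (maximalIdeal R).IsPrime))
  rw [← le_idealDepth_iff_extVan, Groth.Agent.Helper1.LocCohDepth.le_idealDepth_iff _ _ hIM]
  exact ⟨rs, rfl, hmem, hreg.toIsWeaklyRegular⟩

variable (e : ℕ) (n : ℕ → ℕ) (A : (i : ℕ) → Matrix (Fin (n i)) (Fin (n (i + 1))) R)

/-- the differentials, truncated above `e` -/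
noncomputable def dd (i : ℕ) : (Fin (n (i + 1)) → R) →ₗ[R] (Fin (n i) → R) :=
  if i < e then (A i).mulVecLin else 0

omit [IsLocalRing R] [IsNoetherianRing R] in
lemma dd_lt {i : ℕ} (h : i < e) : dd e n A i = (A i).mulVecLin := if_pos h

omit [IsLocalRing R] [IsNoetherianRing R] in
lemma dd_ge {i : ℕ} (h : e ≤ i) : dd e n A i = 0 := if_neg (not_lt.2 h)

omit [IsLocalRing R] [IsNoetherianRing R] in
lemma map_comp_mem_ker (p : Ideal R) [p.IsPrime] {a b : ℕ} (M : Matrix (Fin a) (Fin b) R)
    (z : Fin b → R) (hz : z ∈ LinearMap.ker M.mulVecLin) :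
    (algebraMap R (Localization.AtPrime p)) ∘ z ∈
      LinearMap.ker (M.map (algebraMap R (Localization.AtPrime p))).mulVecLin := by
  rw [LinearMap.mem_ker, Matrix.mulVecLin_apply] at hz ⊢
  ext j
  rw [← RingHom.map_mulVec, hz]
  simp

theorem main (he : 1 ≤ e)
    (hA : ∀ i, i + 2 ≤ e → A i * A (i + 1) = 0)
    (rs : List R) (hlen : rs.length = e) (hmem : ∀ x ∈ rs, x ∈ IsLocalRing.maximalIdeal R)
    (hreg : RingTheory.Sequence.IsRegular R rs)
    (hloc : ∀ (p : Ideal R) [p.IsPrime], p ≠ IsLocalRing.maximalIdeal R →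
      LinearMap.ker ((A (e - 1)).map (algebraMap R (Localization.AtPrime p))).mulVecLin = ⊥ ∧
        ∀ i, i + 2 ≤ e →
          LinearMap.ker ((A i).map (algebraMap R (Localization.AtPrime p))).mulVecLin =
            LinearMap.range ((A (i + 1)).map (algebraMap R (Localization.AtPrime p))).mulVecLin) :
    LinearMap.ker (A (e - 1)).mulVecLin = ⊥ ∧
      ∀ i, i + 2 ≤ e → LinearMap.ker (A i).mulVecLin = LinearMap.range (A (i + 1)).mulVecLin := by
  have hR : ExtVan (maximalIdeal R) R e := hlen ▸ extVan_ring_of_regular rs hmem hreg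
  have hFe : ∀ i, ExtVan (maximalIdeal R) (Fin (n i) → R) e := fun i =>
    extVan_pi_fin _ R e hR (n i)
  have hdd : ∀ i, (dd e n A i).comp (dd e n A (i + 1)) = 0 := by
    intro i
    by_cases hi : i + 2 ≤ e
    · rw [dd_lt e n A (by omega : i < e), dd_lt e n A (by omega : i + 1 < e),
        ← Matrix.mulVecLin_mul, hA i hi]
      simp
    · rw [dd_ge e n A (by omega : e ≤ i + 1), LinearMap.comp_zero]
  have hloc' : ∀ i, i + 1 ≤ e → ∀ z ∈ LinearMap.ker (dd e n A i), ∀ (p : Ideal R) [p.IsPrime],
      p ≠ maximalIdeal R → ∃ s : R, s ∉ p ∧ s • z ∈ LinearMap.range (dd e n A (i + 1)) := by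
    intro i hi z hz p _ hp
    rw [dd_lt e n A (by omega : i < e)] at hz
    have hzp := map_comp_mem_ker p (A i) z hz
    by_cases hi2 : i + 2 ≤ e
    · rw [dd_lt e n A (by omega : i + 1 < e)]
      rw [(hloc p hp).2 i hi2] at hzp
      obtain ⟨w, hw⟩ := hzp
      obtain ⟨s, w', hs, hw'⟩ := exists_clear_denom p w
      have hzero : ∀ j, algebraMap R (Localization.AtPrime p)
          (((A (i + 1)).mulVec w' - s • z) j) = 0 := by
        intro j
        rw [Pi.sub_apply, map_sub, RingHom.map_mulVec]
        have h1 : (algebraMap R (Localization.AtPrime p)) ∘ w' =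
            algebraMap R (Localization.AtPrime p) s • w := by
          ext j
          simp [hw' j]
        rw [h1, Matrix.mulVec_smul]
        rw [Matrix.mulVecLin_apply] at hw
        rw [hw]
        simp
      obtain ⟨t, ht, htz⟩ := exists_smul_eq_zero p _ hzero
      refine ⟨t * s, fun h => (Ideal.IsPrime.mem_or_mem inferInstance h).elim ht hs, ?_⟩
      refine ⟨t • w', ?_⟩
      rw [Matrix.mulVecLin_apply, Matrix.mulVec_smul, mul_smul]
      rw [smul_sub, sub_eq_zero] at htz
      exact htz
    · have hie : i = e - 1 := by omega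
      rw [dd_ge e n A (by omega : e ≤ i + 1), LinearMap.range_zero]
      have h1 := (hloc p hp).1
      rw [← hie] at h1
      rw [h1, Submodule.mem_bot] at hzp
      obtain ⟨t, ht, htz⟩ := exists_smul_eq_zero p z (fun j => congrFun hzp j)
      exact ⟨t, ht, by rw [htz]; exact Submodule.zero_mem _⟩
  have key := Groth.Agent.Helper6.AcycLemma.main e (fun i => Fin (n i) → R) (dd e n A) hdd hloc' hFe
    (fun j hj => dd_ge e n A hj) he
  constructor
  · have := key (e - 1) (by omega)
    rw [dd_lt e n A (by omega : e - 1 < e), dd_ge e n A (by omega : e ≤ e - 1 + 1),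
      LinearMap.range_zero] at this
    exact this
  · intro i hi
    have := key i (by omega)
    rw [dd_lt e n A (by omega : i < e), dd_lt e n A (by omega : i + 1 < e)] at this
    exact this

end Main

end Groth.Agent.Helper6.AcycMatrix
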