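import Mathlib
import Groth.Prelude.Def_AdFn
import Groth.Agent.Helper5.FFStrong
import Groth.Agent.Helper5.FFAdele3

set_option autoImplicit false
set_option linter.style.haveILetI false
set_option linter.unusedSectionVars false

/-!
# `K / (O_P + A_P)` has dimension the genus
-/

namespace Groth.Agent.Helper6.AdGenus

open FunFld
open Groth.Agent.Helper5

universe u
variable {k K : Type u} [Field k] [Field K] [Algebra k K]

/-- the repartition with a single nonzero component. -/
noncomputable def singleAdele (P : Place k K) : K →ₗ[k] adele k K where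
  toFun z := ⟨fun Q => @ite K (Q = P) (Classical.propDecidable _) z 0, by
    rw [FF.mem_adele_iff]
    apply Set.Finite.subset (Set.finite_singleton P)
    intro Q hQ
    by_contra hne
    apply hQ
    have hne' : ¬ Q = P := hne
    show Q.1 (@ite K (Q = P) (Classical.propDecidable _) z 0) ≤ 1
    rw [if_neg hne', map_zero]
    exact zero_le⟩
  map_add' a b := by
    apply Subtype.ext
    funext Q
    show @ite K (Q = P) (Classical.propDecidable _) (a + b) 0 =
      @ite K (Q = P) (Classical.propDecidable _) a 0 +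
        @ite K (Q = P) (Classical.propDecidable _) b 0
    by_cases h : Q = P
    · rw [if_pos h, if_pos h, if_pos h]
    · rw [if_neg h, if_neg h, if_neg h, add_zero]
  map_smul' c a := by
    apply Subtype.ext
    funext Q
    show @ite K (Q = P) (Classical.propDecidable _) (c • a) 0 =
      c • @ite K (Q = P) (Classical.propDecidable _) a 0
    by_cases h : Q = P
    · rw [if_pos h, if_pos h]
    · rw [if_neg h, if_neg h, smul_zero]

theorem singleAdele_same (P : Place k K) (z : K) : (singleAdele P z : Place k K → K) P = z := by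
  show @ite K (P = P) (Classical.propDecidable _) z 0 = z
  rw [if_pos rfl]

theorem singleAdele_ne (P : Place k K) (z : K) {Q : Place k K} (h : Q ≠ P) :
    (singleAdele P z : Place k K → K) Q = 0 := by
  show @ite K (Q = P) (Classical.propDecidable _) z 0 = 0
  rw [if_neg h]

/-- the map `K → adele / (A(0) + K)`, `z ↦ [z at P]`. -/
noncomputable def psi (P : Place k K) : K →ₗ[k] (adele k K ⧸ ADK (0 : Divisor k K)) :=
  (ADK (0 : Divisor k K)).mkQ.comp (singleAdele P)

theorem mem_ADK_zero_iff (a : adele k K) :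
    a ∈ ADK (0 : Divisor k K) ↔ ∃ w : K, ∀ Q : Place k K, Q.1 ((a : Place k K → K) Q - w) ≤ 1 := by
  show (a : Place k K → K) ∈ AD (0 : Divisor k K) ⊔ LinearMap.range (diag k K) ↔ _
  rw [Submodule.mem_sup]
  constructor
  · rintro ⟨b, hb, c, ⟨w, rfl⟩, hbc⟩
    refine ⟨w, fun Q => ?_⟩
    have h1 : (a : Place k K → K) Q = b Q + w := by rw [← hbc]; rfl
    rw [h1, add_sub_cancel_right]
    have := (FF.mem_AD_iff _ _).mp hb Q
    rwa [Finsupp.zero_apply, WithZero.exp_zero] at this
  · rintro ⟨w, hw⟩
    refine ⟨fun Q => (a : Place k K → K) Q - w, ?_, diag k K w, ⟨w, rfl⟩, ?_⟩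
    · rw [FF.mem_AD_iff]
      intro Q
      rw [Finsupp.zero_apply, WithZero.exp_zero]
      exact hw Q
    · funext Q
      show (a : Place k K → K) Q - w + w = _
      rw [sub_add_cancel]

theorem ker_psi (P : Place k K) :
    LinearMap.ker (psi P) =
      Subalgebra.toSubmodule (AdFn.SInt ({P} : Set (Place k K))) ⊔
        Subalgebra.toSubmodule (AdFn.SInt (({P} : Set (Place k K))ᶜ)) := by
  ext z
  rw [LinearMap.mem_ker]
  show (ADK (0 : Divisor k K)).mkQ (singleAdele P z) = 0 ↔ _
  rw [Submodule.mkQ_apply, Submodule.Quotient.mk_eq_zero, mem_ADK_zero_iff, Submodule.mem_sup]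
  constructor
  · rintro ⟨w, hw⟩
    refine ⟨w, ?_, z - w, ?_, by ring⟩
    · show w ∈ AdFn.SInt ({P} : Set (Place k K))
      rw [AdFn.mem_SInt]
      intro v hv
      have hvP : v ≠ P := hv
      have := hw v
      rw [singleAdele_ne P z hvP, zero_sub, Valuation.map_neg] at this
      exact this
    · show z - w ∈ AdFn.SInt (({P} : Set (Place k K))ᶜ)
      rw [AdFn.mem_SInt]
      intro v hv
      have hvP : v = P := by
        by_contra hne
        exact hv hne
      subst hvP
      have := hw v
      rwa [singleAdele_same] at this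
  · rintro ⟨w, hw, y, hy, rfl⟩
    have hw' := (AdFn.mem_SInt _ _).mp hw
    have hy' := (AdFn.mem_SInt _ _).mp hy
    refine ⟨w, fun Q => ?_⟩
    by_cases hQ : Q = P
    · subst hQ
      rw [singleAdele_same, add_sub_cancel_left]
      exact hy' Q (fun h => h rfl)
    · rw [singleAdele_ne P _ hQ, zero_sub, Valuation.map_neg]
      exact hw' Q hQ

theorem psi_surjective (hK : IsFunctionField k K) (P : Place k K) :
    Function.Surjective (psi P) := by
  classical
  intro q
  obtain ⟨a, rfl⟩ := Submodule.Quotient.mk_surjective _ q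
  have hfin : {Q : Place k K | ¬ Q.1 ((a : Place k K → K) Q) ≤ 1}.Finite :=
    (FF.mem_adele_iff _).mp a.2
  obtain ⟨T, hT⟩ : ∃ T : Finset (Place k K), T = hfin.toFinset.erase P := ⟨_, rfl⟩
  have hTmem : ∀ Q, Q ∈ T ↔ Q ≠ P ∧ ¬ Q.1 ((a : Place k K → K) Q) ≤ 1 := by
    intro Q
    rw [hT, Finset.mem_erase, Set.Finite.mem_toFinset]
    rfl
  let e := T.equivFin
  obtain ⟨w, hw1, hw2⟩ := FF.strong_approx_le hK P T.card (fun i => ((e.symm i : T) : Place k K))
    (Subtype.val_injective.comp e.symm.injective)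
    (by
      rintro ⟨i, hi⟩
      have h1 : ((e.symm i : T) : Place k K) ∈ T := (e.symm i).2
      have hi' : ((e.symm i : T) : Place k K) = P := hi
      rw [hi'] at h1
      exact ((hTmem P).mp h1).1 rfl)
    (fun i => (a : Place k K → K) ((e.symm i : T) : Place k K)) (fun _ => 0)
  have hwT : ∀ Q ∈ T, Q.1 (w - (a : Place k K → K) Q) ≤ 1 := by
    intro Q hQ
    have := hw1 (e ⟨Q, hQ⟩)
    rw [Equiv.symm_apply_apply] at this
    simpa using this
  have hwN : ∀ Q, Q ≠ P → Q ∉ T → Q.1 w ≤ 1 := by
    intro Q hQP hQT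
    apply hw2 Q hQP
    rintro ⟨i, hi⟩
    apply hQT
    rw [← hi]
    exact (e.symm i).2
  refine ⟨(a : Place k K → K) P - w, ?_⟩
  show (ADK (0 : Divisor k K)).mkQ (singleAdele P ((a : Place k K → K) P - w)) =
    Submodule.Quotient.mk a
  rw [Submodule.mkQ_apply, Submodule.Quotient.eq, mem_ADK_zero_iff]
  refine ⟨-w, fun Q => ?_⟩
  show Q.1 ((singleAdele P ((a : Place k K → K) P - w) : Place k K → K) Q -
    (a : Place k K → K) Q - -w) ≤ 1
  by_cases hQ : Q = P
  · subst hQ
    rw [singleAdele_same]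
    have e0 : (a : Place k K → K) Q - w - (a : Place k K → K) Q - -w = 0 := by ring
    rw [e0, map_zero]
    exact zero_le
  · rw [singleAdele_ne P _ hQ]
    have e0 : (0 : K) - (a : Place k K → K) Q - -w = w - (a : Place k K → K) Q := by ring
    rw [e0]
    by_cases hQT : Q ∈ T
    · exact hwT Q hQT
    · have h1 : Q.1 ((a : Place k K → K) Q) ≤ 1 := by
        by_contra hne
        exact hQT ((hTmem Q).mpr ⟨hQ, hne⟩)
      exact (Valuation.map_sub _ _ _).trans (max_le (hwN Q hQ hQT) h1)

/-- the quotient `K / (A_P + O_P)` is the adelic `H¹(O)`. -/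
noncomputable def quotEquiv (hK : IsFunctionField k K) (P : Place k K) :
    (K ⧸ (Subalgebra.toSubmodule (AdFn.SInt ({P} : Set (Place k K))) ⊔
        Subalgebra.toSubmodule (AdFn.SInt (({P} : Set (Place k K))ᶜ)))) ≃ₗ[k]
      (adele k K ⧸ ADK (0 : Divisor k K)) :=
  (Submodule.quotEquivOfEq _ _ (ker_psi P).symm).trans
    ((psi P).quotKerEquivOfSurjective (psi_surjective hK P))

theorem s16099 (hK : IsFunctionField k K) (P : Place k K) :
    FiniteDimensional k (K ⧸ (Subalgebra.toSubmodule (AdFn.SInt ({P} : Set (Place k K))) ⊔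
        Subalgebra.toSubmodule (AdFn.SInt (({P} : Set (Place k K))ᶜ)))) ∧
    Module.finrank k (K ⧸ (Subalgebra.toSubmodule (AdFn.SInt ({P} : Set (Place k K))) ⊔
        Subalgebra.toSubmodule (AdFn.SInt (({P} : Set (Place k K))ᶜ)))) = genus k K := by
  obtain ⟨h1, h2⟩ := FF.finrank_adele_quotient_ADK hK (0 : Divisor k K)
  rw [FF.deg_zero, FF.ell_zero hK] at h2
  haveI := h1
  refine ⟨Module.Finite.equiv (quotEquiv hK P).symm, ?_⟩
  rw [(quotEquiv hK P).finrank_eq]
  have h3 : (Module.finrank k (adele k K ⧸ ADK (0 : Divisor k K)) : ℤ) = genus k K := by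
    rw [h2]; simp
  exact_mod_cast h3

end Groth.Agent.Helper6.AdGenus
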