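import Mathlib
import Groth.Agent.Helper6.AdGenus

set_option autoImplicit false
set_option linter.style.haveILetI false
set_option linter.unusedSectionVars false

/-!
# `K_P / (A_P + Ô_P)` has dimension the genus
-/

namespace Groth.Agent.Helper6.AdGenus

open FunFld
open Groth.Agent.Helper5

universe u
variable {k K : Type u} [Field k] [Field K] [Algebra k K]

theorem denseRange_toKv (P : Place k K) : DenseRange (AdFn.toKv P) := by
  have e : (AdFn.toKv P : K → AdFn.Kv P) =
      ((↑) : WithVal P.1 → P.1.Completion) ∘ WithVal.toVal P.1 := by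
    funext x; exact AdFn.toKv_apply P x
  unfold DenseRange
  rw [e, (WithVal.toVal_surjective P.1).range_comp]
  exact UniformSpace.Completion.denseRange_coe

theorem exists_sub_mem_Ov (P : Place k K) (x : AdFn.Kv P) :
    ∃ z : K, x - AdFn.toKv P z ∈ AdFn.Ov P := by
  have hopen : IsOpen {w : AdFn.Kv P | x - w ∈ AdFn.Ov P} := by
    have hc : Continuous fun w : AdFn.Kv P => x - w := continuous_const.sub continuous_id
    exact (AdFn.isOpen_Ov P).preimage hc
  have hne : {w : AdFn.Kv P | x - w ∈ AdFn.Ov P}.Nonempty :=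
    ⟨x, by
      show x - x ∈ AdFn.Ov P
      rw [sub_self]; exact zero_mem _⟩
  obtain ⟨z, hz⟩ := (denseRange_toKv P).exists_mem_open hopen hne
  exact ⟨z, hz⟩

theorem mem_Ov_of_mem_span (P : Place k K) {o : AdFn.Kv P}
    (ho : o ∈ Submodule.span k (AdFn.Ov P : Set (AdFn.Kv P))) : o ∈ AdFn.Ov P := by
  induction ho using Submodule.span_induction with
  | mem x hx => exact hx
  | zero => exact zero_mem _
  | add x y _ _ hx hy => exact add_mem hx hy
  | smul c x _ hx =>
    rw [Algebra.smul_def]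
    refine mul_mem ?_ hx
    rw [IsScalarTower.algebraMap_apply k K (AdFn.Kv P)]
    exact (AdFn.toKv_mem_Ov P _).mpr (P.2.1 c)

/-- the submodule `A_P + Ô_P` of the completion. -/
noncomputable abbrev Nsub (P : Place k K) : Submodule k (AdFn.Kv P) :=
  Subalgebra.toSubmodule ((AdFn.SInt ({P} : Set (Place k K))).map
      (IsScalarTower.toAlgHom k K (AdFn.Kv P))) ⊔
    Submodule.span k (AdFn.Ov P : Set (AdFn.Kv P))

/-- the map `K → K_P / (A_P + Ô_P)`. -/
noncomputable def chi (P : Place k K) : K →ₗ[k] (AdFn.Kv P ⧸ Nsub P) :=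
  (Nsub P).mkQ.comp (IsScalarTower.toAlgHom k K (AdFn.Kv P)).toLinearMap

theorem chi_apply (P : Place k K) (z : K) :
    chi P z = Submodule.Quotient.mk (AdFn.toKv P z) := rfl

theorem chi_surjective (P : Place k K) : Function.Surjective (chi P) := by
  intro q
  obtain ⟨x, rfl⟩ := Submodule.Quotient.mk_surjective _ q
  obtain ⟨z, hz⟩ := exists_sub_mem_Ov P x
  refine ⟨z, ?_⟩
  rw [chi_apply, Submodule.Quotient.eq]
  have h1 : AdFn.toKv P z - x ∈ AdFn.Ov P := by
    have := neg_mem hz
    rwa [neg_sub] at this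
  exact Submodule.mem_sup_right (Submodule.subset_span h1)

theorem ker_chi (P : Place k K) :
    LinearMap.ker (chi P) =
      Subalgebra.toSubmodule (AdFn.SInt ({P} : Set (Place k K))) ⊔
        Subalgebra.toSubmodule (AdFn.SInt (({P} : Set (Place k K))ᶜ)) := by
  ext z
  rw [LinearMap.mem_ker, chi_apply, Submodule.Quotient.mk_eq_zero, Submodule.mem_sup,
    Submodule.mem_sup]
  constructor
  · rintro ⟨m1, hm1, o, ho, hsum⟩
    obtain ⟨w, hw, rfl⟩ : ∃ w ∈ AdFn.SInt ({P} : Set (Place k K)),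
        (IsScalarTower.toAlgHom k K (AdFn.Kv P)) w = m1 := Subalgebra.mem_map.mp hm1
    have ho' := mem_Ov_of_mem_span P ho
    have e : o = AdFn.toKv P (z - w) := by
      rw [map_sub, ← hsum]
      show o = (IsScalarTower.toAlgHom k K (AdFn.Kv P)) w + o -
        (IsScalarTower.toAlgHom k K (AdFn.Kv P)) w
      ring
    rw [e, AdFn.toKv_mem_Ov] at ho'
    refine ⟨w, hw, z - w, ?_, by ring⟩
    show z - w ∈ AdFn.SInt (({P} : Set (Place k K))ᶜ)
    rw [AdFn.mem_SInt]
    intro v hv
    have hvP : v = P := by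
      by_contra hne
      exact hv hne
    subst hvP
    exact ho'
  · rintro ⟨w, hw, y, hy, rfl⟩
    have hy' := (AdFn.mem_SInt _ _).mp hy P (fun h => h rfl)
    refine ⟨AdFn.toKv P w, Subalgebra.mem_map.mpr ⟨w, hw, rfl⟩, AdFn.toKv P y,
      Submodule.subset_span ((AdFn.toKv_mem_Ov P y).mpr hy'), ?_⟩
    rw [map_add]

noncomputable def quotEquiv2 (hK : IsFunctionField k K) (P : Place k K) :
    (K ⧸ (Subalgebra.toSubmodule (AdFn.SInt ({P} : Set (Place k K))) ⊔
        Subalgebra.toSubmodule (AdFn.SInt (({P} : Set (Place k K))ᶜ)))) ≃ₗ[k]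
      (AdFn.Kv P ⧸ Nsub P) :=
  (Submodule.quotEquivOfEq _ _ (ker_chi P).symm).trans
    ((chi P).quotKerEquivOfSurjective (chi_surjective P))

theorem s16100 (hK : IsFunctionField k K) (P : Place k K) :
    FiniteDimensional k (AdFn.Kv P ⧸
        (Subalgebra.toSubmodule ((AdFn.SInt ({P} : Set (Place k K))).map
            (IsScalarTower.toAlgHom k K (AdFn.Kv P))) ⊔
          Submodule.span k (AdFn.Ov P : Set (AdFn.Kv P)))) ∧
    Module.finrank k (AdFn.Kv P ⧸
        (Subalgebra.toSubmodule ((AdFn.SInt ({P} : Set (Place k K))).map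
            (IsScalarTower.toAlgHom k K (AdFn.Kv P))) ⊔
          Submodule.span k (AdFn.Ov P : Set (AdFn.Kv P)))) = genus k K := by
  obtain ⟨h1, h2⟩ := s16099 hK P
  haveI := h1
  refine ⟨Module.Finite.equiv (quotEquiv2 hK P), ?_⟩
  rw [← (quotEquiv2 hK P).finrank_eq, h2]

end Groth.Agent.Helper6.AdGenus
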