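import Mathlib
import Groth.Agent.Helper6.AdGenus2

set_option autoImplicit false
set_option linter.style.haveILetI false
set_option linter.unusedSectionVars false

/-!
# Strong approximation in the adele ring
-/

namespace Groth.Agent.Helper6.AdGenus

open FunFld
open Groth.Agent.Helper5

universe u
variable {k K : Type u} [Field k] [Field K] [Algebra k K]

theorem s16098 (hK : IsFunctionField k K) [AdFn.HasFinitePoles k K]
    (S : Set (Place k K)) (hS : S.Nonempty) :
    (∀ a : AdFn.AdeleRing k K, ∃ f : K, ∀ v : Place k K, v ∉ S →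
        AdFn.AdeleRing.proj v (a - AdFn.AdeleRing.diag f) ∈ AdFn.Ov v) ∧
    (∀ b : AdFn.AdeleRing k K, (∀ v : Place k K, v ∉ S → AdFn.AdeleRing.proj v b = 0) →
        ((∃ f : K, ∀ v : Place k K,
            AdFn.AdeleRing.proj v (b - AdFn.AdeleRing.diag f) ∈ AdFn.Ov v) ↔
          ∃ f ∈ AdFn.SInt S, ∀ v ∈ S,
            AdFn.AdeleRing.proj v b - AdFn.toKv v f ∈ AdFn.Ov v)) := by
  classical
  obtain ⟨P₀, hP₀⟩ := hS
  have hproj : ∀ (a : AdFn.AdeleRing k K) (f : K) (v : Place k K),
      AdFn.AdeleRing.proj v (a - AdFn.AdeleRing.diag f) =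
        AdFn.AdeleRing.proj v a - AdFn.toKv v f := by
    intro a f v
    rw [map_sub, AdFn.AdeleRing.proj_diag]
  constructor
  · intro a
    have hfin : {v : Place k K | ¬ (AdFn.AdeleRing.proj v a ∈ AdFn.Ov v)}.Finite :=
      Filter.eventually_cofinite.mp a.2
    obtain ⟨T, hT⟩ : ∃ T : Finset (Place k K), T = hfin.toFinset.erase P₀ := ⟨_, rfl⟩
    have hTmem : ∀ Q, Q ∈ T ↔ Q ≠ P₀ ∧ ¬ (AdFn.AdeleRing.proj Q a ∈ AdFn.Ov Q) := by
      intro Q
      rw [hT, Finset.mem_erase, Set.Finite.mem_toFinset]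
      rfl
    choose x hx using fun v : Place k K => exists_sub_mem_Ov v (AdFn.AdeleRing.proj v a)
    let e := T.equivFin
    obtain ⟨f, hf1, hf2⟩ := FF.strong_approx_le hK P₀ T.card
      (fun i => ((e.symm i : T) : Place k K))
      (Subtype.val_injective.comp e.symm.injective)
      (by
        rintro ⟨i, hi⟩
        have h1 : ((e.symm i : T) : Place k K) ∈ T := (e.symm i).2
        have hi' : ((e.symm i : T) : Place k K) = P₀ := hi
        rw [hi'] at h1
        exact ((hTmem P₀).mp h1).1 rfl)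
      (fun i => x ((e.symm i : T) : Place k K)) (fun _ => 0)
    have hfT : ∀ Q ∈ T, Q.1 (f - x Q) ≤ 1 := by
      intro Q hQ
      have := hf1 (e ⟨Q, hQ⟩)
      rw [Equiv.symm_apply_apply] at this
      simpa using this
    have hfN : ∀ Q, Q ≠ P₀ → Q ∉ T → Q.1 f ≤ 1 := by
      intro Q hQP hQT
      apply hf2 Q hQP
      rintro ⟨i, hi⟩
      apply hQT
      rw [← hi]
      exact (e.symm i).2
    refine ⟨f, fun v hv => ?_⟩
    have hvP : v ≠ P₀ := fun h => hv (h ▸ hP₀)
    rw [hproj]
    by_cases hvT : v ∈ T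
    · have h1 : v.1 (f - x v) ≤ 1 := hfT v hvT
      have e1 : AdFn.AdeleRing.proj v a - AdFn.toKv v f =
          (AdFn.AdeleRing.proj v a - AdFn.toKv v (x v)) - AdFn.toKv v (f - x v) := by
        rw [map_sub]; ring
      rw [e1]
      exact sub_mem (hx v) ((AdFn.toKv_mem_Ov v _).mpr h1)
    · have h1 : AdFn.AdeleRing.proj v a ∈ AdFn.Ov v := by
        by_contra hne
        exact hvT ((hTmem v).mpr ⟨hvP, hne⟩)
      exact sub_mem h1 ((AdFn.toKv_mem_Ov v f).mpr (hfN v hvP hvT))
  · intro b hb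
    constructor
    · rintro ⟨f, hf⟩
      refine ⟨f, ?_, fun v _ => ?_⟩
      · rw [AdFn.mem_SInt]
        intro v hv
        have h1 := hf v
        rw [hproj, hb v hv, zero_sub] at h1
        have h2 := neg_mem h1
        rw [neg_neg] at h2
        exact (AdFn.toKv_mem_Ov v f).mp h2
      · have h1 := hf v
        rwa [hproj] at h1
    · rintro ⟨f, hfS, hf⟩
      refine ⟨f, fun v => ?_⟩
      rw [hproj]
      by_cases hv : v ∈ S
      · exact hf v hv
      · rw [hb v hv, zero_sub]
        exact neg_mem ((AdFn.toKv_mem_Ov v f).mpr ((AdFn.mem_SInt S f).mp hfS v hv))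

end Groth.Agent.Helper6.AdGenus
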