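import Mathlib

/-!
# Modules with isomorphic truncations have isomorphic completions
-/

set_option autoImplicit false
universe u

namespace Groth.Agent.Helper6.AdicIso

open Submodule

variable {A : Type u} [CommRing A]

section basic

variable {E E' : Type u} [AddCommGroup E] [Module A E] [AddCommGroup E'] [Module A E']

lemma map_mem_smul_top (J : Ideal A) (f : E →ₗ[A] E') {x : E}
    (hx : x ∈ (J • ⊤ : Submodule A E)) : f x ∈ (J • ⊤ : Submodule A E') := by
  have h := Submodule.mem_map_of_mem (f := f) hx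
  rw [Submodule.map_smul''] at h
  exact (smul_mono_right J (le_top : Submodule.map f ⊤ ≤ ⊤)) h

lemma pi_mem_smul_top (J : Ideal A) {r : ℕ} (v : Fin r → E)
    (hv : ∀ i, v i ∈ (J • ⊤ : Submodule A E)) : v ∈ (J • ⊤ : Submodule A (Fin r → E)) := by
  have h1 : v = ∑ i, (LinearMap.single A (fun _ : Fin r => E) i) (v i) := by
    funext j
    simp [Finset.sum_apply, Pi.single_apply]
  rw [h1]
  exact Submodule.sum_mem _ (fun i _ => map_mem_smul_top J _ (hv i))

end basic

section lift

variable [IsNoetherianRing A] (I : Ideal A)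
  (M N : Type u) [AddCommGroup M] [Module A M] [Module.Finite A M]
  [AddCommGroup N] [Module A N] [Module.Finite A N]

/-- the linear combination map -/
noncomputable abbrev gmap {s : ℕ} (x : Fin s → N) : (Fin s → A) →ₗ[A] N :=
  Fintype.linearCombination A x

/-- **lifting homomorphisms of truncations modulo `I`** (Artin–Rees) -/
theorem exists_lift_mod : ∃ c : ℕ,
    ∀ φ : (M ⧸ (I ^ (c + 1) • ⊤ : Submodule A M)) →ₗ[A] (N ⧸ (I ^ (c + 1) • ⊤ : Submodule A N)),
      ∃ ψ : M →ₗ[A] N, ∀ m : M, ∃ y : N,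
        φ (Submodule.Quotient.mk m) = Submodule.Quotient.mk y ∧
          ψ m - y ∈ (I • ⊤ : Submodule A N) := by
  obtain ⟨s, π, hπ⟩ := Module.Finite.exists_fin' A M
  have hK : (LinearMap.ker π).FG := IsNoetherian.noetherian _
  obtain ⟨r, k, hk⟩ := Submodule.fg_iff_exists_fin_generating_family.mp hK
  let T : (Fin s → N) →ₗ[A] (Fin r → N) :=
    LinearMap.pi (fun i => ∑ j, (k i j) • (LinearMap.proj j : (Fin s → N) →ₗ[A] N))
  have hT : ∀ (x : Fin s → N) (i : Fin r), T x i = gmap N x (k i) := by
    intro x i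
    simp [T, gmap, Fintype.linearCombination_apply]
  obtain ⟨c, hc⟩ := Ideal.exists_pow_inf_eq_pow_smul I (LinearMap.range T)
  refine ⟨c, fun φ => ?_⟩
  have hsurj : ∀ j : Fin s, ∃ xj : N, (Submodule.Quotient.mk xj :
      N ⧸ (I ^ (c + 1) • ⊤ : Submodule A N)) =
        φ (Submodule.Quotient.mk (π (fun j' => if j = j' then 1 else 0))) :=
    fun j => Submodule.Quotient.mk_surjective _ _
  choose x hx using hsurj
  -- (F1)
  have F1 : ∀ p : Fin s → A, (Submodule.Quotient.mk (gmap N x p) :
      N ⧸ (I ^ (c + 1) • ⊤ : Submodule A N)) = φ (Submodule.Quotient.mk (π p)) := by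
    intro p
    rw [LinearMap.pi_apply_eq_sum_univ π p]
    simp only [gmap, Fintype.linearCombination_apply, ← Submodule.mkQ_apply, map_sum, map_smul]
    refine Finset.sum_congr rfl (fun j _ => ?_)
    rw [Submodule.mkQ_apply, Submodule.mkQ_apply, hx]
  -- (F3)
  have F3 : T x ∈ (I ^ (c + 1) • ⊤ : Submodule A (Fin r → N)) := by
    apply pi_mem_smul_top
    intro i
    rw [hT, ← Submodule.Quotient.mk_eq_zero, F1]
    have : π (k i) = 0 := by
      have : k i ∈ LinearMap.ker π := by
        rw [← hk]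
        exact Submodule.subset_span ⟨i, rfl⟩
      exact this
    rw [this, Submodule.Quotient.mk_zero, map_zero]
  -- (F4)
  have F4 : T x ∈ Submodule.map T (I • ⊤ : Submodule A (Fin s → N)) := by
    have h1 : T x ∈ (I ^ (c + 1) • ⊤ ⊓ LinearMap.range T : Submodule A (Fin r → N)) :=
      ⟨F3, ⟨x, rfl⟩⟩
    rw [hc (c + 1) (by omega)] at h1
    have h2 : c + 1 - c = 1 := by omega
    rw [h2, pow_one] at h1
    have h3 : (I • (I ^ c • ⊤ ⊓ LinearMap.range T) : Submodule A (Fin r → N)) ≤
        I • LinearMap.range T := smul_mono_right _ inf_le_right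
    have h4 := h3 h1
    rw [Submodule.map_smul'', Submodule.map_top]
    exact h4
  obtain ⟨y, hyI, hy⟩ := F4
  -- (F5)
  have F5 : LinearMap.ker π ≤ LinearMap.ker (gmap N (x - y)) := by
    rw [← hk, Submodule.span_le]
    rintro _ ⟨i, rfl⟩
    show gmap N (x - y) (k i) = 0
    rw [← hT, map_sub, hy, sub_self]
    rfl
  let ψ : M →ₗ[A] N := ((LinearMap.ker π).liftQ (gmap N (x - y)) F5) ∘ₗ
    (π.quotKerEquivOfSurjective hπ).symm.toLinearMap
  have hψ : ∀ p, ψ (π p) = gmap N (x - y) p := by
    intro p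
    have : (π.quotKerEquivOfSurjective hπ).symm (π p) = Submodule.Quotient.mk p := by
      rw [LinearEquiv.symm_apply_eq]
      rfl
    show (LinearMap.ker π).liftQ (gmap N (x - y)) F5 ((π.quotKerEquivOfSurjective hπ).symm (π p)) = _
    rw [this]
    rfl
  refine ⟨ψ, fun m => ?_⟩
  obtain ⟨p, rfl⟩ := hπ m
  refine ⟨gmap N x p, (F1 p).symm, ?_⟩
  rw [hψ]
  have : gmap N (x - y) p - gmap N x p = - gmap N y p := by
    simp only [gmap, Fintype.linearCombination_apply, Pi.sub_apply, smul_sub, Finset.sum_sub_distrib]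
    abel
  rw [this]
  apply Submodule.neg_mem
  rw [Fintype.linearCombination_apply]
  refine Submodule.sum_mem _ (fun j _ => Submodule.smul_mem _ _ ?_)
  exact map_mem_smul_top I (LinearMap.proj j : (Fin s → N) →ₗ[A] N) hyI

end lift

section surj

variable [IsNoetherianRing A] (I : Ideal A)
  {M N : Type u} [AddCommGroup M] [Module A M]
  [AddCommGroup N] [Module A N] [Module.Finite A N]

lemma pow_smul_top_eq_top {C : Type u} [AddCommGroup C] [Module A C]
    (h : (I • ⊤ : Submodule A C) = ⊤) (n : ℕ) : (I ^ n • ⊤ : Submodule A C) = ⊤ := by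
  induction n with
  | zero => rw [pow_zero, Ideal.one_eq_top, Submodule.top_smul]
  | succ n ih => rw [pow_succ, Submodule.mul_smul, h, ih]

lemma subsingleton_adicCompletion {C : Type u} [AddCommGroup C] [Module A C]
    (h : (I • ⊤ : Submodule A C) = ⊤) : Subsingleton (AdicCompletion I C) := by
  refine ⟨fun x y => AdicCompletion.ext (fun n => ?_)⟩
  haveI : Subsingleton (C ⧸ (I ^ n • ⊤ : Submodule A C)) :=
    Submodule.Quotient.subsingleton_iff.mpr (pow_smul_top_eq_top I h n)
  exact Subsingleton.elim _ _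

/-- a map which is surjective modulo `I` is surjective on completions -/
theorem map_surjective_of_sup_eq_top (ψ : M →ₗ[A] N)
    (h : LinearMap.range ψ ⊔ (I • ⊤ : Submodule A N) = ⊤) :
    Function.Surjective (AdicCompletion.map I ψ) := by
  let R : Submodule A N := LinearMap.range ψ
  have hC : (I • ⊤ : Submodule A (N ⧸ R)) = ⊤ := by
    rw [eq_top_iff]
    rintro c -
    obtain ⟨n, rfl⟩ := Submodule.Quotient.mk_surjective _ c
    have hn : n ∈ (LinearMap.range ψ ⊔ (I • ⊤ : Submodule A N)) := by rw [h]; trivial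
    obtain ⟨a, ha, b, hb, rfl⟩ := Submodule.mem_sup.mp hn
    have h1 : (Submodule.Quotient.mk (a + b) : N ⧸ R) = R.mkQ b := by
      rw [Submodule.Quotient.mk_add, (Submodule.Quotient.mk_eq_zero R).mpr ha, zero_add]
      rfl
    rw [h1]
    exact map_mem_smul_top I R.mkQ hb
  haveI := subsingleton_adicCompletion I hC
  have hex := AdicCompletion.map_exact (I := I) (f := R.subtype) (g := R.mkQ)
    (Submodule.injective_subtype R) (LinearMap.exact_subtype_mkQ R) (Submodule.mkQ_surjective R)
  have hs1 : Function.Surjective (AdicCompletion.map I R.subtype) := by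
    intro y
    exact (hex y).mp (Subsingleton.elim _ _)
  have hs2 : Function.Surjective (AdicCompletion.map I ψ.rangeRestrict) :=
    AdicCompletion.map_surjective I (LinearMap.surjective_rangeRestrict ψ)
  have hcomp : AdicCompletion.map I ψ =
      AdicCompletion.map I R.subtype ∘ₗ AdicCompletion.map I ψ.rangeRestrict := by
    rw [AdicCompletion.map_comp]
    rfl
  rw [hcomp]
  exact hs1.comp hs2

end surj

section main

variable [IsNoetherianRing A] (I : Ideal A)
  (M N : Type u) [AddCommGroup M] [Module A M] [Module.Finite A M]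
  [AddCommGroup N] [Module A N] [Module.Finite A N]

instance finite_adicCompletion : Module.Finite (AdicCompletion I A) (AdicCompletion I M) :=
  Module.Finite.of_surjective (AdicCompletion.ofTensorProduct I M)
    (AdicCompletion.ofTensorProduct_surjective_of_finite I M)

/-- from an isomorphism of deep enough truncations, a map which is surjective on completions -/
theorem exists_map_surjective
    (h : ∀ n : ℕ, Nonempty ((M ⧸ (I ^ n • ⊤ : Submodule A M)) ≃ₗ[A]
      (N ⧸ (I ^ n • ⊤ : Submodule A N)))) :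
    ∃ ψ : M →ₗ[A] N, Function.Surjective (AdicCompletion.map I ψ) := by
  obtain ⟨c, hc⟩ := exists_lift_mod I M N
  obtain ⟨e⟩ := h (c + 1)
  obtain ⟨ψ, hψ⟩ := hc e.toLinearMap
  refine ⟨ψ, map_surjective_of_sup_eq_top I ψ ?_⟩
  rw [eq_top_iff]
  rintro n -
  obtain ⟨m', hm'⟩ := e.surjective (Submodule.Quotient.mk n)
  obtain ⟨m, rfl⟩ := Submodule.Quotient.mk_surjective _ m'
  obtain ⟨y, hy1, hy2⟩ := hψ m
  have h1 : (Submodule.Quotient.mk n : N ⧸ (I ^ (c + 1) • ⊤ : Submodule A N)) =
      Submodule.Quotient.mk y := hm'.symm.trans hy1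
  have h2 : n - y ∈ (I ^ (c + 1) • ⊤ : Submodule A N) := (Submodule.Quotient.eq _).mp h1
  have h3 : n - y ∈ (I • ⊤ : Submodule A N) := by
    refine Submodule.smul_mono_left ?_ h2
    calc I ^ (c + 1) ≤ I ^ 1 := Ideal.pow_le_pow_right (by omega)
      _ = I := pow_one I
  have h4 : n = ψ m + ((n - y) - (ψ m - y)) := by abel
  rw [h4]
  exact Submodule.add_mem_sup ⟨m, rfl⟩ (Submodule.sub_mem _ h3 hy2)

/-- **finite modules with isomorphic truncations have isomorphic completions** -/
theorem nonempty_adicCompletion_equiv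
    (h : ∀ n : ℕ, Nonempty ((M ⧸ (I ^ n • ⊤ : Submodule A M)) ≃ₗ[A]
      (N ⧸ (I ^ n • ⊤ : Submodule A N)))) :
    Nonempty (AdicCompletion I M ≃ₗ[AdicCompletion I A] AdicCompletion I N) := by
  obtain ⟨ψ, hψ⟩ := exists_map_surjective I M N h
  obtain ⟨ψ', hψ'⟩ := exists_map_surjective I N M (fun n => (h n).map LinearEquiv.symm)
  have hinj : Function.Injective (AdicCompletion.map I ψ' ∘ₗ AdicCompletion.map I ψ) :=
    OrzechProperty.injective_of_surjective_endomorphism _ (hψ'.comp hψ)
  have hinj' : Function.Injective (AdicCompletion.map I ψ) := by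
    intro x y hxy
    apply hinj
    simp only [LinearMap.comp_apply, hxy]
  exact ⟨LinearEquiv.ofBijective (AdicCompletion.map I ψ) ⟨hinj', hψ⟩⟩

end main

end Groth.Agent.Helper6.AdicIso
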