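import Mathlib
import Groth.Prelude.Def_DerCA
import Groth.Agent.Helper1.LocCohArtinian

set_option autoImplicit false

/-!
# An inverse system of Artinian modules whose limit is Artinian is essentially constant
-/

namespace Groth.Agent.Helper6.EssConstArt
open CategoryTheory Limits Opposite

universe u

variable {A : Type u} [CommRing A] (X : ℕᵒᵖ ⥤ ModuleCat.{u} A)

/-- transition maps as linear maps -/
def T {n m : ℕ} (h : n ≤ m) : X.obj (op m) →ₗ[A] X.obj (op n) := (X.map (homOfLE h).op).hom

lemma T_comp {n m l : ℕ} (h : n ≤ m) (h' : m ≤ l) (x : X.obj (op l)) :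
    T X h (T X h' x) = T X (h.trans h') x := by
  have h1 : X.map (homOfLE (h.trans h')).op = X.map (homOfLE h').op ≫ X.map (homOfLE h).op := by
    rw [← X.map_comp]
    exact congrArg X.map (Subsingleton.elim _ _)
  have h2 := congrArg (fun t => t.hom x) h1
  exact h2.symm

lemma T_refl {n : ℕ} (h : n ≤ n) (x : X.obj (op n)) : T X h x = x := by
  have h1 : X.map (homOfLE h).op = 𝟙 _ := by
    rw [← X.map_id]
    exact congrArg X.map (Subsingleton.elim _ _)
  exact congrArg (fun t => t.hom x) h1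

lemma range_T_anti {n m l : ℕ} (h : n ≤ m) (h' : m ≤ l) :
    LinearMap.range (T X (h.trans h')) ≤ LinearMap.range (T X h) := by
  rintro _ ⟨x, rfl⟩
  exact ⟨T X h' x, T_comp X h h' x⟩

variable (hX : ∀ n : ℕ, IsArtinian A (X.obj (op n)))

include hX in
/-- Mittag-Leffler -/
lemma exists_stable (n : ℕ) : ∃ r : ℕ, ∀ (m : ℕ) (h : n ≤ m), n + r ≤ m →
    LinearMap.range (T X h) = LinearMap.range (T X (Nat.le_add_right n r)) := by
  have := hX n
  let f : ℕ →o (Submodule A (X.obj (op n)))ᵒᵈ :=
    { toFun := fun s => OrderDual.toDual (LinearMap.range (T X (Nat.le_add_right n s)))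
      monotone' := fun s s' hss =>
        range_T_anti X (Nat.le_add_right n s) (show n + s ≤ n + s' by omega) }
  obtain ⟨r, hr⟩ := IsArtinian.monotone_stabilizes f
  refine ⟨r, fun m h hm => ?_⟩
  obtain ⟨s, rfl⟩ := Nat.exists_eq_add_of_le h
  exact (congrArg OrderDual.ofDual (hr s (by omega))).symm


section lift

variable (r : ℕ → ℕ) (hr : ∀ (n m : ℕ) (h : n ≤ m), n + r n ≤ m →
    LinearMap.range (T X h) = LinearMap.range (T X (Nat.le_add_right n (r n))))

/-- the stable image -/
def E (n : ℕ) : Submodule A (X.obj (op n)) := LinearMap.range (T X (Nat.le_add_right n (r n)))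

include hr in
lemma step_surj (n : ℕ) (e : X.obj (op n)) (he : e ∈ E X r n) :
    ∃ e' : X.obj (op (n + 1)), e' ∈ E X r (n + 1) ∧ T X (Nat.le_succ n) e' = e := by
  let m := max (n + r n) (n + 1 + r (n + 1))
  have h : n ≤ m := le_trans (Nat.le_add_right n (r n)) (le_max_left _ _)
  have h' : n + 1 ≤ m := le_trans (Nat.le_add_right (n + 1) (r (n + 1))) (le_max_right _ _)
  have he' : e ∈ LinearMap.range (T X h) := by
    rw [hr n m h (le_max_left _ _)]
    exact he
  obtain ⟨x, rfl⟩ := he'
  refine ⟨T X h' x, ?_, ?_⟩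
  · show T X h' x ∈ LinearMap.range (T X (Nat.le_add_right (n + 1) (r (n + 1))))
    rw [← hr (n + 1) m h' (le_max_right _ _)]
    exact ⟨x, rfl⟩
  · exact T_comp X (Nat.le_succ n) h' x

include hr in
lemma lift_family (n : ℕ) (e : X.obj (op n)) (he : e ∈ E X r n) :
    ∃ y : ∀ m : ℕ, X.obj (op m), (∀ (a b : ℕ) (h : a ≤ b), T X h (y b) = y a) ∧ y n = e := by
  have hstep := step_surj X r hr
  choose! g hg1 hg2 using hstep
  let z : ∀ j : ℕ, X.obj (op (n + j)) := fun j => Nat.rec (motive := fun j => X.obj (op (n + j)))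
    e (fun j zj => g (n + j) zj) j
  have hz0 : z 0 = e := rfl
  have hzs : ∀ j, z (j + 1) = g (n + j) (z j) := fun j => rfl
  have hz_mem : ∀ j, z j ∈ E X r (n + j) := by
    intro j
    induction j with
    | zero => exact he
    | succ j ih => rw [hzs]; exact hg1 (n + j) (z j) ih
  have hz_step : ∀ j, T X (Nat.le_succ (n + j)) (z (j + 1)) = z j := by
    intro j
    rw [hzs]
    exact hg2 (n + j) (z j) (hz_mem j)
  have chain : ∀ (j k : ℕ) (h : j ≤ k), T X (Nat.add_le_add_left h n) (z k) = z j := by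
    intro j k h
    induction h with
    | refl => exact T_refl X _ _
    | @step k h ih =>
      have h1 := T_comp X (Nat.add_le_add_left h n) (Nat.le_succ (n + k)) (z (k + 1))
      rw [hz_step k] at h1
      rw [← ih, h1]
  refine ⟨fun m => T X (Nat.le_add_left m n) (z m), ?_, ?_⟩
  · intro a b h
    show T X h (T X (Nat.le_add_left b n) (z b)) = T X (Nat.le_add_left a n) (z a)
    rw [T_comp, ← chain a b h, T_comp]
  · show T X (Nat.le_add_left n n) (z n) = e
    have := chain 0 n (Nat.zero_le n)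
    rw [hz0] at this
    exact this

end lift


include hX in
theorem essConst (H : ModuleCat.{u} A) [IsArtinian A H] (c : (Functor.const ℕᵒᵖ).obj H ⟶ X)
    (hinj : ∀ x : H, (∀ n : ℕᵒᵖ, (c.app n) x = 0) → x = 0)
    (hsurj : ∀ y : (∀ n : ℕ, X.obj (op n)),
      (∀ (n m : ℕ) (h : n ≤ m), (X.map (homOfLE h).op) (y m) = y n) →
      ∃ x : H, ∀ n : ℕ, (c.app (op n)) x = y n) :
    DerCA.IsEssConstant X H c := by
  obtain ⟨r, hr⟩ : ∃ r : ℕ → ℕ, ∀ (n m : ℕ) (h : n ≤ m), n + r n ≤ m →
      LinearMap.range (T X h) = LinearMap.range (T X (Nat.le_add_right n (r n))) := by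
    choose r hr using exists_stable X hX
    exact ⟨r, hr⟩
  let cc : ∀ n : ℕ, H →ₗ[A] X.obj (op n) := fun n => (c.app (op n)).hom
  have hc_nat : ∀ (n m : ℕ) (h : n ≤ m) (x : H), T X h (cc m x) = cc n x := by
    intro n m h x
    have h1 := c.naturality (homOfLE h).op
    have h2 := congrArg (fun t => t.hom x) h1
    exact h2.symm
  have hE : ∀ (n : ℕ) (e : X.obj (op n)), e ∈ E X r n → ∃ x : H, cc n x = e := by
    intro n e he
    obtain ⟨y, hy1, hy2⟩ := lift_family X r hr n e he
    obtain ⟨x, hx⟩ := hsurj y (fun a b h => hy1 a b h)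
    exact ⟨x, (hx n).trans hy2⟩
  let K : ℕ →o (Submodule A H)ᵒᵈ :=
    { toFun := fun n => OrderDual.toDual (LinearMap.ker (cc n))
      monotone' := by
        intro n m h x hx
        have hx' : cc m x = 0 := hx
        show cc n x = 0
        rw [← hc_nat n m h x, hx', map_zero] }
  obtain ⟨n₀, hn₀⟩ := IsArtinian.monotone_stabilizes K
  have hK0 : ∀ x : H, cc n₀ x = 0 → x = 0 := by
    intro x hx
    apply hinj
    rintro ⟨m⟩
    rcases le_total m n₀ with h | h
    · show cc m x = 0
      rw [← hc_nat m n₀ h x, hx, map_zero]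
    · have h1 : LinearMap.ker (cc n₀) = LinearMap.ker (cc m) :=
        congrArg OrderDual.ofDual (hn₀ m h)
      have h2 : x ∈ LinearMap.ker (cc m) := by
        rw [← h1]
        exact hx
      exact h2
  have hinj0 : Function.Injective (cc n₀) := (injective_iff_map_eq_zero _).2 hK0
  let i := n₀ + r n₀
  have hi : n₀ ≤ i := Nat.le_add_right _ _
  have hrange : ∀ x : X.obj (op i), ∃ h : H, cc n₀ h = T X hi x := fun x => hE n₀ _ ⟨x, rfl⟩
  choose sfun hsfun using hrange
  let s : X.obj (op i) →ₗ[A] H :=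
    { toFun := sfun
      map_add' := by
        intro x y
        apply hinj0
        rw [map_add, hsfun, hsfun, hsfun, map_add]
      map_smul' := by
        intro a x
        apply hinj0
        rw [RingHom.id_apply, map_smul, hsfun, hsfun, map_smul] }
  have hs : ∀ x, cc n₀ (s x) = T X hi x := hsfun
  refine ⟨i, ModuleCat.ofHom s, ?_, ?_⟩
  · apply ModuleCat.hom_ext
    apply LinearMap.ext
    intro x
    show s (cc i x) = x
    apply hinj0
    rw [hs, hc_nat]
  · intro j
    have hij' : i ≤ max i j := le_max_left _ _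
    have hjj' : j ≤ max i j := le_max_right _ _
    have hj'k : max i j ≤ max i j + r (max i j) := Nat.le_add_right _ _
    refine ⟨max i j + r (max i j), hij'.trans hj'k, hjj'.trans hj'k, ?_⟩
    apply ModuleCat.hom_ext
    apply LinearMap.ext
    intro x
    show T X (hjj'.trans hj'k) x = cc j (s (T X (hij'.trans hj'k) x))
    obtain ⟨h', hh'⟩ := hE (max i j) (T X hj'k x) ⟨x, rfl⟩
    have h1 : s (T X (hij'.trans hj'k) x) = h' := by
      apply hinj0
      rw [hs, T_comp, ← hc_nat n₀ (max i j) (hi.trans hij') h', hh', T_comp]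
    rw [h1, ← hc_nat j (max i j) hjj' h', hh', T_comp]

theorem main [IsNoetherianRing A] [IsLocalRing A] (Msys : ℕᵒᵖ ⥤ ModuleCat.{u} A)
    (hfin : ∀ n : ℕᵒᵖ, Module.Finite A (Msys.obj n)) (M : Type u) [AddCommGroup M] [Module A M]
    [Module.Finite A M] (i : ℕ)
    (Hc : (Functor.const ℕᵒᵖ).obj ((localCohomology (IsLocalRing.maximalIdeal A) i).obj
      (ModuleCat.of A M)) ⟶ Msys ⋙ localCohomology (IsLocalRing.maximalIdeal A) i)
    (hinj : ∀ x : (localCohomology (IsLocalRing.maximalIdeal A) i).obj (ModuleCat.of A M),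
      (∀ n : ℕᵒᵖ, (Hc.app n) x = 0) → x = 0)
    (hsurj : ∀ y : (∀ n : ℕ, (localCohomology (IsLocalRing.maximalIdeal A) i).obj
        (Msys.obj (op n))),
      (∀ (n m : ℕ) (h : n ≤ m), ((localCohomology (IsLocalRing.maximalIdeal A) i).map
        (Msys.map (homOfLE h).op)) (y m) = y n) →
      ∃ x : (localCohomology (IsLocalRing.maximalIdeal A) i).obj (ModuleCat.of A M),
        ∀ n : ℕ, (Hc.app (op n)) x = y n) :
    DerCA.IsEssConstant (Msys ⋙ localCohomology (IsLocalRing.maximalIdeal A) i)
      ((localCohomology (IsLocalRing.maximalIdeal A) i).obj (ModuleCat.of A M)) Hc := by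
  have hart : IsArtinian A ((localCohomology (IsLocalRing.maximalIdeal A) i).obj
      (ModuleCat.of A M)) := Groth.Agent.Helper1.LocCohArtinian.isArtinian_lc i M
  refine essConst (Msys ⋙ localCohomology (IsLocalRing.maximalIdeal A) i) ?_ _ Hc hinj hsurj
  intro n
  have := hfin (op n)
  exact Groth.Agent.Helper1.LocCohArtinian.isArtinian_lc i (Msys.obj (op n))

end Groth.Agent.Helper6.EssConstArt
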