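import Mathlib
import Groth.Prelude.Def_LocRes

set_option autoImplicit false
set_option linter.style.haveILetI false

/-!
# Existence of the total Hasse derivative with respect to a separating element
-/

namespace Groth.Agent.Helper6.HasseBuild

open scoped IntermediateField
open IntermediateField

variable {k K : Type*} [Field k] [Field K] [Algebra k K]

/-- the polynomial substitution `p ↦ p(s + T)` -/
noncomputable def polyShift (s : K) : Polynomial k →ₐ[k] PowerSeries K :=
  Polynomial.aeval (PowerSeries.C s + PowerSeries.X)

theorem constantCoeff_polyShift (s : K) (p : Polynomial k) :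
    PowerSeries.constantCoeff (polyShift s p) = Polynomial.aeval s p := by
  have h1 : (PowerSeries.constantCoeff (R := K)).comp (algebraMap k (PowerSeries K)) =
      algebraMap k K := by
    ext c
    simp [PowerSeries.algebraMap_apply]
  have h2 : PowerSeries.constantCoeff (PowerSeries.C s + PowerSeries.X : PowerSeries K) = s := by
    simp
  unfold polyShift
  rw [Polynomial.aeval_def, Polynomial.hom_eval₂, h1, h2, Polynomial.aeval_def]

theorem isUnit_polyShift (s : K) (hs : Transcendental k s) (p : nonZeroDivisors (Polynomial k)) :
    IsUnit (polyShift s (p : Polynomial k)) := by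
  rw [PowerSeries.isUnit_iff_constantCoeff, constantCoeff_polyShift, isUnit_iff_ne_zero]
  intro h0
  exact nonZeroDivisors.ne_zero p.2 ((transcendental_iff.mp hs) _ h0)

/-- the substitution extended to rational functions -/
noncomputable def ratShift (s : K) (hs : Transcendental k s) : RatFunc k →ₐ[k] PowerSeries K :=
  IsLocalization.liftAlgHom (M := nonZeroDivisors (Polynomial k)) (f := polyShift s)
    (isUnit_polyShift s hs)

theorem ratShift_algebraMap (s : K) (hs : Transcendental k s) (p : Polynomial k) :
    ratShift s hs (algebraMap (Polynomial k) (RatFunc k) p) = polyShift s p := by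
  unfold ratShift
  rw [IsLocalization.liftAlgHom_apply, IsLocalization.lift_eq]
  rfl

/-- the substitution on `k(s)` -/
noncomputable def baseShift (s : K) (hs : Transcendental k s) : k⟮s⟯ →ₐ[k] PowerSeries K :=
  (ratShift s hs).comp (RatFunc.algEquivOfTranscendental s hs).symm.toAlgHom

theorem baseShift_gen (s : K) (hs : Transcendental k s) :
    baseShift s hs (AdjoinSimple.gen k s) = PowerSeries.C s + PowerSeries.X := by
  unfold baseShift
  rw [AlgHom.comp_apply]
  have h1 : (RatFunc.algEquivOfTranscendental s hs).symm.toAlgHom (AdjoinSimple.gen k s) =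
      (RatFunc.X : RatFunc k) := RatFunc.algEquivOfTranscendental_symm_gen s hs
  rw [h1, ← RatFunc.algebraMap_X, ratShift_algebraMap]
  unfold polyShift
  rw [Polynomial.aeval_X]

theorem constantCoeff_baseShift (s : K) (hs : Transcendental k s) (c : k⟮s⟯) :
    PowerSeries.constantCoeff (baseShift s hs c) = (c : K) := by
  have key : (PowerSeries.constantCoeff (R := K)).comp (ratShift s hs).toRingHom =
      (algebraMap k⟮s⟯ K).comp (RatFunc.algEquivOfTranscendental s hs).toAlgHom.toRingHom := by
    apply IsLocalization.ringHom_ext (nonZeroDivisors (Polynomial k))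
    ext p
    · simp only [RingHom.comp_apply]
      show PowerSeries.constantCoeff (ratShift s hs (algebraMap (Polynomial k) (RatFunc k)
        (Polynomial.C p))) = algebraMap k⟮s⟯ K (RatFunc.algEquivOfTranscendental s hs
          (algebraMap (Polynomial k) (RatFunc k) (Polynomial.C p)))
      rw [ratShift_algebraMap, constantCoeff_polyShift,
        RatFunc.algEquivOfTranscendental_algebraMap, ← Polynomial.aeval_algebraMap_apply,
        AdjoinSimple.algebraMap_gen]
    · simp only [RingHom.comp_apply]
      show PowerSeries.constantCoeff (ratShift s hs (algebraMap (Polynomial k) (RatFunc k)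
        Polynomial.X)) = algebraMap k⟮s⟯ K (RatFunc.algEquivOfTranscendental s hs
          (algebraMap (Polynomial k) (RatFunc k) Polynomial.X))
      rw [ratShift_algebraMap, constantCoeff_polyShift,
        RatFunc.algEquivOfTranscendental_algebraMap, ← Polynomial.aeval_algebraMap_apply,
        AdjoinSimple.algebraMap_gen]
  obtain ⟨r, rfl⟩ := (RatFunc.algEquivOfTranscendental s hs).surjective c
  have := RingHom.congr_fun key r
  simp only [RingHom.comp_apply] at this
  unfold baseShift
  rw [AlgHom.comp_apply]
  have h2 : (RatFunc.algEquivOfTranscendental s hs).symm.toAlgHom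
      (RatFunc.algEquivOfTranscendental s hs r) = r :=
    (RatFunc.algEquivOfTranscendental s hs).symm_apply_apply r
  rw [h2]
  exact this

/-- a copy of the power series ring, to carry the algebra structure over `k(s)` -/
def PSw (k K : Type*) [Field k] [Field K] [Algebra k K] : Type _ := PowerSeries K

noncomputable instance : CommRing (PSw k K) := inferInstanceAs (CommRing (PowerSeries K))

noncomputable instance : Algebra k (PSw k K) := inferInstanceAs (Algebra k (PowerSeries K))

/-- the variable of the copy -/
noncomputable def wX (k K : Type*) [Field k] [Field K] [Algebra k K] : PSw k K :=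
  (PowerSeries.X : PowerSeries K)

instance : IsAdicComplete (Ideal.span {wX k K}) (PSw k K) :=
  inferInstanceAs (IsAdicComplete (Ideal.span {(PowerSeries.X : PowerSeries K)}) (PowerSeries K))

/-- the identity to the copy -/
noncomputable def toW : PowerSeries K ≃ₐ[k] PSw k K := AlgEquiv.refl

theorem toW_X : (toW (k := k) (PowerSeries.X : PowerSeries K)) = wX k K := rfl

theorem toW_sub_mem_iff (a b : PowerSeries K) :
    toW (k := k) a - toW (k := k) b ∈ Ideal.span {wX k K} ↔
      PowerSeries.constantCoeff a = PowerSeries.constantCoeff b := by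
  rw [Ideal.mem_span_singleton, ← toW_X (k := k), ← map_sub, map_dvd_iff, PowerSeries.X_dvd_iff,
    map_sub, sub_eq_zero]

/-- a separating transcendental element admits a total Hasse derivative -/
theorem exists_isHasseFamily (s : K) (hs : Transcendental k s) [Algebra.IsSeparable k⟮s⟯ K]
    [FiniteDimensional k⟮s⟯ K] :
    ∃ H : K →ₐ[k] PowerSeries K, LocRes.IsHasseFamily s H := by
  let bW : k⟮s⟯ →ₐ[k] PSw k K := (toW (k := k) (K := K)).toAlgHom.comp (baseShift s hs)
  letI : Algebra k⟮s⟯ (PSw k K) := bW.toRingHom.toAlgebra
  haveI : IsScalarTower k k⟮s⟯ (PSw k K) :=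
    IsScalarTower.of_algebraMap_eq fun c => (bW.commutes c).symm
  haveI : Algebra.FormallyEtale k⟮s⟯ K := Algebra.FormallyEtale.of_isSeparable _ _
  let f : K →ₐ[k⟮s⟯] PSw k K ⧸ (Ideal.span {wX k K}) :=
    { toRingHom := (Ideal.Quotient.mk _).comp
        ((toW (k := k) (K := K)).toAlgHom.toRingHom.comp (PowerSeries.C (R := K)))
      commutes' := fun c => by
        show Ideal.Quotient.mk _ (toW (k := k) (PowerSeries.C (algebraMap k⟮s⟯ K c))) =
          Ideal.Quotient.mk _ (toW (k := k) (baseShift s hs c))
        rw [Ideal.Quotient.eq, toW_sub_mem_iff, PowerSeries.constantCoeff_C,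
          constantCoeff_baseShift]
        rfl }
  obtain ⟨g, hg⟩ := Algebra.FormallySmooth.exists_mkₐ_comp_eq_of_isAdicComplete
    (I := Ideal.span {wX k K}) f
  refine ⟨(toW (k := k) (K := K)).symm.toAlgHom.comp (g.restrictScalars k), ?_, ?_⟩
  · have h1 : g (algebraMap k⟮s⟯ K (AdjoinSimple.gen k s)) =
        toW (k := k) (baseShift s hs (AdjoinSimple.gen k s)) := g.commutes _
    rw [AdjoinSimple.algebraMap_gen, baseShift_gen] at h1
    show (toW (k := k) (K := K)).symm (g s) = _
    rw [h1]
    exact (toW (k := k) (K := K)).symm_apply_apply _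
  · intro y
    have h1 := AlgHom.congr_fun hg y
    have h2 : Ideal.Quotient.mk (Ideal.span {wX k K}) (g y) =
        Ideal.Quotient.mk _ (toW (k := k) (PowerSeries.C y)) := h1
    obtain ⟨z, hz⟩ : ∃ z : PowerSeries K, toW (k := k) z = g y :=
      (toW (k := k) (K := K)).surjective _
    rw [← hz, Ideal.Quotient.eq, toW_sub_mem_iff, PowerSeries.constantCoeff_C] at h2
    show PowerSeries.constantCoeff ((toW (k := k) (K := K)).symm (g y)) = y
    rw [← hz, (toW (k := k) (K := K)).symm_apply_apply, h2]

end Groth.Agent.Helper6.HasseBuild
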