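import Groth.Agent.Helper6.CoordChange
import Groth.Agent.Helper6.HasseBuild
import Groth.Agent.Helper6.TateW
import Groth.Agent.Helper5.WrInvar2
import Groth.Agent.Helper5.DiffExp
import Groth.Agent.Helper5.FFKp2
import Groth.Agent.Helper5.FFDeg

set_option autoImplicit false
set_option linter.style.haveILetI false
set_option linter.unusedSectionVars false

namespace Groth.Agent.Helper6.AdjCoord

open FunFld LocRes
open Groth.Agent.Helper5
open scoped IntermediateField

universe u v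
variable {k : Type u} {K : Type v} [Field k] [Field K] [Algebra k K]

theorem ord_zero (P : Place k K) : P.ord (0 : K) = 0 := by
  unfold Place.ord
  rw [map_zero, WithZero.log_zero, neg_zero]

theorem mapDiv_eq_of_char (hK : IsFunctionField k K) {ι : Type*} [Fintype ι] [Nonempty ι]
    (w : ι → K) (i₀ : ι) (h1 : w i₀ = 1) (P : Place k K) (n : ℤ)
    (hle : ∀ i, P.1 (w i) ≤ WithZero.exp n) (heq : ∃ i, P.1 (w i) = WithZero.exp n) :
    mapDiv k w P = n := by
  rw [FG.mapDiv_apply hK.1]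
  have hn : 0 ≤ n := by
    have h2 : WithZero.exp (0 : ℤ) ≤ WithZero.exp n := by
      rw [WithZero.exp_zero]
      have := hle i₀
      rwa [h1, map_one] at this
    exact WithZero.exp_le_exp.mp h2
  have key : Finset.univ.inf' Finset.univ_nonempty (fun i => P.ord (w i)) = -n := by
    apply le_antisymm
    · obtain ⟨i, hi⟩ := heq
      have hwi : w i ≠ 0 := by
        intro h0
        rw [h0, map_zero] at hi
        exact WithZero.exp_ne_zero hi.symm
      rw [FF.val_eq_exp_neg_ord P hwi, WithZero.exp_inj] at hi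
      calc _ ≤ P.ord (w i) := Finset.inf'_le _ (Finset.mem_univ i)
        _ = -n := by omega
    · rw [Finset.le_inf'_iff]
      intro i _
      by_cases hwi : w i = 0
      · rw [hwi, ord_zero]; omega
      · have := hle i
        rw [FF.val_eq_exp_neg_ord P hwi, WithZero.exp_le_exp] at this
        omega
  rw [key, neg_neg]

theorem exists_char {ι : Type*} [Fintype ι] [Nonempty ι] (w : ι → K) (i₀ : ι) (h1 : w i₀ = 1)
    (P : Place k K) :
    ∃ n : ℤ, (∀ i, P.1 (w i) ≤ WithZero.exp n) ∧ ∃ i, P.1 (w i) = WithZero.exp n := by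
  obtain ⟨i₁, -, hi₁⟩ := Finset.exists_max_image Finset.univ (fun i => P.1 (w i))
    Finset.univ_nonempty
  have hne : w i₁ ≠ 0 := by
    intro h0
    have := hi₁ i₀ (Finset.mem_univ _)
    simp only [h0, h1, map_zero, map_one] at this
    exact one_ne_zero (le_zero_iff.mp this)
  refine ⟨-(P.ord (w i₁)), fun i => ?_, i₁, FF.val_eq_exp_neg_ord P hne⟩
  rw [← FF.val_eq_exp_neg_ord P hne]
  exact hi₁ i (Finset.mem_univ _)

theorem mapDiv_coord (hK : IsFunctionField k K) {ι : Type*} [Fintype ι] [DecidableEq ι]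
    [Nonempty ι] (w w' : ι → K) (i₀ j₀ : ι) (h1 : w i₀ = 1) (h1' : w' j₀ = 1)
    (A : Matrix ι ι k) (hA : A.det ≠ 0) (u₀ : K) (hu₀ : u₀ ≠ 0)
    (hw : ∀ i, w i = ∑ j, algebraMap k K (A i j) * (u₀ * w' j)) (P : Place k K) :
    mapDiv k w P = mapDiv k w' P - P.ord u₀ := by
  obtain ⟨n', hle', i₁, hi₁⟩ := exists_char w' j₀ h1' P
  rw [mapDiv_eq_of_char hK w' j₀ h1' P n' hle' ⟨i₁, hi₁⟩]
  have hcoef : ∀ c : k, P.1 (algebraMap k K c) ≤ 1 := fun c => FF.val_algebraMap_le P c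
  have hvu : P.1 u₀ = WithZero.exp (-(P.ord u₀)) := FF.val_eq_exp_neg_ord P hu₀
  have hexp : WithZero.exp (n' - P.ord u₀) = P.1 u₀ * WithZero.exp n' := by
    rw [hvu, ← WithZero.exp_add]; congr 1; ring
  have hle : ∀ i, P.1 (w i) ≤ WithZero.exp (n' - P.ord u₀) := by
    intro i
    rw [hw i, hexp]
    apply Valuation.map_sum_le
    intro j _
    rw [map_mul, map_mul]
    calc P.1 (algebraMap k K (A i j)) * (P.1 u₀ * P.1 (w' j))
        ≤ 1 * (P.1 u₀ * WithZero.exp n') :=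
          mul_le_mul' (hcoef _) (mul_le_mul' le_rfl (hle' j))
      _ = _ := one_mul _
  apply mapDiv_eq_of_char hK w i₀ h1 P _ hle
  by_contra hne
  push Not at hne
  have hlt : ∀ i, P.1 (w i) < P.1 u₀ * WithZero.exp n' := fun i => by
    rw [← hexp]; exact lt_of_le_of_ne (hle i) (hne i)
  have hAv : (A.map (algebraMap k K)).mulVec (fun j => u₀ * w' j) = w := funext fun i => by
    rw [hw i]; rfl
  have hBA : (A⁻¹).map (algebraMap k K) * A.map (algebraMap k K) = 1 := by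
    rw [← Matrix.map_mul, Matrix.nonsing_inv_mul A (isUnit_iff_ne_zero.mpr hA),
      Matrix.map_one _ (map_zero _) (map_one _)]
  have hu' : (fun j => u₀ * w' j) = ((A⁻¹).map (algebraMap k K)).mulVec w := by
    rw [← hAv, Matrix.mulVec_mulVec, hBA, Matrix.one_mulVec]
  have h2 : u₀ * w' i₁ = ∑ i, algebraMap k K (A⁻¹ i₁ i) * w i := congrFun hu' i₁
  have h3 : P.1 (u₀ * w' i₁) < P.1 u₀ * WithZero.exp n' := by
    rw [h2]
    apply Valuation.map_sum_lt _ (mul_ne_zero ((P.1.ne_zero_iff).mpr hu₀) WithZero.exp_ne_zero)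
    intro i _
    rw [map_mul]
    calc P.1 (algebraMap k K (A⁻¹ i₁ i)) * P.1 (w i) ≤ 1 * P.1 (w i) :=
          mul_le_mul' (hcoef _) le_rfl
      _ = P.1 (w i) := one_mul _
      _ < _ := hlt i
  rw [map_mul, hi₁] at h3
  exact lt_irrefl _ h3

theorem divDiff_apply [IsAlgClosed k] (hK : IsFunctionField k K)
    (Φ : Place k K → (K →ₐ[k] LaurentSeries k)) (hΦ : ∀ P : Place k K, IsExpansionAt P.1 (Φ P))
    {a v : K} (ha : a ≠ 0) (hv : KaehlerDifferential.D k K v ≠ 0) (P : Place k K) :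
    divDiff Φ a v P = ordDiff (Φ P) a v := by
  classical
  have hg := FF.isGeometric_of_perfectField k K hK
  have htr : Transcendental k v := by
    intro halg
    obtain ⟨c, rfl⟩ := hK.2 v halg
    exact hv (Derivation.map_algebraMap _ c)
  haveI := FF.isSeparable_of_D_ne_zero hK hg hv
  haveI := FF.finiteDimensional_adjoin hK htr
  obtain ⟨H, hH⟩ := HasseBuild.exists_isHasseFamily v htr
  have hsplit : ∀ Q : Place k K, ordDiff (Φ Q) a v = Q.ord a + ordDiff (Φ Q) 1 v := by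
    intro Q
    have hD := TateSep.D_exp_ne_zero hK hg Q.1 (Φ Q) (hΦ Q) hv
    unfold ordDiff vDiff Place.ord
    rw [map_one, one_mul, map_mul, (hΦ Q).1,
      WithZero.log_mul ((Q.1.ne_zero_iff).mpr ha) ((Valuation.ne_zero_iff _).mpr hD)]
    ring
  have hfin : (Function.support fun Q : Place k K => ordDiff (Φ Q) a v).Finite := by
    apply ((FF.finite_support_ord hK a).union (Wr.finite_support_ordDiff hK hH Φ hΦ)).subset
    intro Q hQ
    by_contra hcon
    rw [Set.mem_union, not_or, Function.mem_support, Function.mem_support, not_not, not_not] at hcon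
    apply hQ
    show ordDiff (Φ Q) a v = 0
    rw [hsplit Q, hcon.1, hcon.2, add_zero]
  unfold divDiff
  rw [dif_pos hfin]
  rfl

theorem adj_eq [IsAlgClosed k] (hK : IsFunctionField k K)
    (Φ : Place k K → (K →ₐ[k] LaurentSeries k)) (hΦ : ∀ P : Place k K, IsExpansionAt P.1 (Φ P))
    (w w' : Fin 3 → K) (hw0 : w 0 = 1) (hw0' : w' 0 = 1)
    (A : Matrix (Fin 3) (Fin 3) k) (hA : A.det ≠ 0) (u₀ : K) (hu₀ : u₀ ≠ 0)
    (hw : ∀ i, w i = ∑ j, algebraMap k K (A i j) * (u₀ * w' j))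
    (a a' x x' : K) (c : k) (hc : c ≠ 0) (e : ℕ) (ha : a ≠ 0) (ha' : a' ≠ 0)
    (hx : KaehlerDifferential.D k K x ≠ 0)
    (hrel : a • KaehlerDifferential.D k K x =
      (algebraMap k K c * u₀⁻¹ ^ ((e : ℤ) - 3) * a') • KaehlerDifferential.D k K x')
    (he : (mapDiv k w).deg = e) :
    ((mapDiv k w).deg - 3) • mapDiv k w - divDiff Φ a x =
      ((mapDiv k w').deg - 3) • mapDiv k w' - divDiff Φ a' x' := by
  classical
  have hg := FF.isGeometric_of_perfectField k K hK
  have hD : mapDiv k w = mapDiv k w' - FunFld.div k u₀ := by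
    ext P
    rw [Finsupp.sub_apply, FF.div_apply hK, mapDiv_coord hK w w' 0 0 hw0 hw0' A hA u₀ hu₀ hw P]
  have hdeg : (mapDiv k w').deg = e := by
    have := congrArg Divisor.deg hD
    rw [FF.deg_sub, FF.deg_div hK, sub_zero] at this
    rw [← this, he]
  have hx' : KaehlerDifferential.D k K x' ≠ 0 := by
    intro h0
    rw [h0, smul_zero] at hrel
    rcases smul_eq_zero.mp hrel with h | h
    · exact ha h
    · exact hx h
  have hb : algebraMap k K c * u₀⁻¹ ^ ((e : ℤ) - 3) * a' ≠ 0 :=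
    mul_ne_zero (mul_ne_zero ((map_ne_zero _).mpr hc) (zpow_ne_zero _ (inv_ne_zero hu₀))) ha'
  have hrel' : KaehlerDifferential.D k K x =
      (a⁻¹ * (algebraMap k K c * u₀⁻¹ ^ ((e : ℤ) - 3) * a')) • KaehlerDifferential.D k K x' := by
    rw [← smul_smul, ← hrel, smul_smul, inv_mul_cancel₀ ha, one_smul]
  ext P
  have hord : ordDiff (Φ P) a x = -(((e : ℤ) - 3) * P.ord u₀) + ordDiff (Φ P) a' x' := by
    have h1 := DiffExp.D_exp_of_kaehler (Φ P) hrel'
    have hD' := TateSep.D_exp_ne_zero hK hg P.1 (Φ P) (hΦ P) hx'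
    have h2 : (Φ P) a * LocRes.D k ((Φ P) x) =
        (Φ P) (algebraMap k K c * u₀⁻¹ ^ ((e : ℤ) - 3)) * ((Φ P) a' * LocRes.D k ((Φ P) x')) := by
      rw [h1]
      calc (Φ P) a * ((Φ P) (a⁻¹ * (algebraMap k K c * u₀⁻¹ ^ ((e : ℤ) - 3) * a')) *
            LocRes.D k ((Φ P) x'))
          = (Φ P) (a * (a⁻¹ * (algebraMap k K c * u₀⁻¹ ^ ((e : ℤ) - 3) * a'))) *
              LocRes.D k ((Φ P) x') := by
            rw [map_mul (Φ P) a]; exact (mul_assoc _ _ _).symm
        _ = _ := by rw [mul_inv_cancel_left₀ ha, map_mul (Φ P) _ a']; exact mul_assoc _ _ _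
    unfold ordDiff vDiff
    rw [h2, map_mul, (hΦ P).1, WithZero.log_mul
      ((P.1.ne_zero_iff).mpr (mul_ne_zero ((map_ne_zero _).mpr hc)
        (zpow_ne_zero _ (inv_ne_zero hu₀))))
      ((Valuation.ne_zero_iff _).mpr (mul_ne_zero ((map_ne_zero _).mpr ha') hD'))]
    rw [map_mul, FF.val_algebraMap P hc, one_mul, map_zpow₀, map_inv₀,
      FF.val_eq_exp_neg_ord P hu₀, ← WithZero.exp_neg, neg_neg, ← WithZero.exp_zsmul,
      WithZero.log_exp, smul_eq_mul]
    ring
  rw [Finsupp.sub_apply, Finsupp.sub_apply, Finsupp.smul_apply, Finsupp.smul_apply,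
    divDiff_apply hK Φ hΦ ha hx, divDiff_apply hK Φ hΦ ha' hx', he, hdeg, hD, Finsupp.sub_apply,
    FF.div_apply hK, hord, smul_eq_mul, smul_eq_mul]
  ring

theorem s12616 (k : Type u) (K : Type v) [Field k] [IsAlgClosed k] [Field K] [Algebra k K]
    (hK : FunFld.IsFunctionField k K) (f : MvPolynomial (Fin 3) k) (e : ℕ) (hf : f.IsHomogeneous e)
    (x y : K) (hfxy : MvPolynomial.aeval ![(1 : K), x, y] f = 0)
    (hdx : KaehlerDifferential.D k K x ≠ 0)
    (he : (FunFld.mapDiv k ![(1 : K), x, y]).deg = e)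
    (A : Matrix (Fin 3) (Fin 3) k) (hA : A.det ≠ 0)
    (u : Fin 3 → K) (hu : ∀ i, ∑ j, algebraMap k K (A i j) * u j = ![(1 : K), x, y] i)
    (hu0 : u 0 ≠ 0)
    (hfy : (MvPolynomial.aeval ![(1 : K), x, y] (MvPolynomial.pderiv 2 f)) ≠ 0)
    (hfy' : (MvPolynomial.aeval ![(1 : K), u 1 / u 0, u 2 / u 0] (MvPolynomial.pderiv 2 (MvPolynomial.aeval (fun i : Fin 3 => ∑ j, MvPolynomial.C (A i j) * MvPolynomial.X j) f))) ≠ 0)
    (Φ : FunFld.Place k K → (K →ₐ[k] LaurentSeries k))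
    (hΦ : ∀ P : FunFld.Place k K, LocRes.IsExpansionAt P.1 (Φ P)) :
    ((FunFld.mapDiv k ![(1 : K), x, y]).deg - 3) • FunFld.mapDiv k ![(1 : K), x, y] -
        FunFld.divDiff Φ (MvPolynomial.aeval ![(1 : K), x, y] (MvPolynomial.pderiv 2 f))⁻¹ x =
      ((FunFld.mapDiv k ![(1 : K), u 1 / u 0, u 2 / u 0]).deg - 3) •
          FunFld.mapDiv k ![(1 : K), u 1 / u 0, u 2 / u 0] -
        FunFld.divDiff Φ (MvPolynomial.aeval ![(1 : K), u 1 / u 0, u 2 / u 0] (MvPolynomial.pderiv 2 (MvPolynomial.aeval (fun i : Fin 3 => ∑ j, MvPolynomial.C (A i j) * MvPolynomial.X j) f)))⁻¹ (u 1 / u 0) := by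
  have hrel := CoordChange.main k K f e hf x y hfxy A hA u hu hu0 hfy hfy'
  refine adj_eq hK Φ hΦ ![1, x, y] ![1, u 1 / u 0, u 2 / u 0] rfl rfl A hA (u 0) hu0 (fun i => ?_)
    _ _ x (u 1 / u 0) A.det hA e (inv_ne_zero hfy) (inv_ne_zero hfy') hdx hrel he
  rw [← hu i]
  apply Finset.sum_congr rfl
  intro j _
  congr 1
  fin_cases j
  · simp
  · simp only [Fin.mk_one, Fin.isValue, Matrix.cons_val_one, Matrix.cons_val_zero]
    field_simp
  · simp only [Fin.reduceFinMk, Fin.isValue, Matrix.cons_val_two, Matrix.tail_cons,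
      Matrix.head_cons]
    field_simp

end Groth.Agent.Helper6.AdjCoord
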