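import Mathlib

/-!
# Helper6: the left adjoint of a product of right adjoints is the coproduct of the left adjoints
-/

set_option autoImplicit false
universe w v₁ u₁ v₂ u₂
open CategoryTheory CategoryTheory.Limits

namespace Groth.Agent.Helper6.AdjCoprod

variable {A : Type u₁} [Category.{v₁} A] {B : Type u₂} [Category.{v₂} B]
  {L : A ⥤ B} {R : B ⥤ A} (adj : L ⊣ R) {I : Type w} {Lf : I → (A ⥤ B)} {Rf : I → (B ⥤ A)}
  (adjf : ∀ f, Lf f ⊣ Rf f) (π : ∀ f, R ⟶ Rf f)

/-- the injections -/
def inj (a : A) (f : I) : (Lf f).obj a ⟶ L.obj a :=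
  ((adjf f).homEquiv a (L.obj a)).symm (adj.unit.app a ≫ (π f).app (L.obj a))

theorem homEquiv_inj_comp (a : A) (f : I) {b : B} (m : L.obj a ⟶ b) :
    (adjf f).homEquiv a b (inj adj adjf π a f ≫ m) = adj.homEquiv a b m ≫ (π f).app b := by
  rw [Adjunction.homEquiv_naturality_right, inj, Equiv.apply_symm_apply, Category.assoc,
    ← (π f).naturality m, adj.homEquiv_unit, Category.assoc]

variable (hlim : ∀ b, IsLimit (Fan.mk (R.obj b) (fun f => (π f).app b)))

/-- the cofan of injections is a coproduct -/
def isColimitCofan (a : A) :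
    IsColimit (Cofan.mk (L.obj a) (fun f => inj adj adjf π a f)) :=
  Cofan.IsColimit.mk _
    (fun s => (adj.homEquiv a s.pt).symm
      (Fan.IsLimit.lift (hlim s.pt) (fun f => (adjf f).homEquiv a s.pt (s.inj f))))
    (fun s f => by
      apply ((adjf f).homEquiv a s.pt).injective
      change (adjf f).homEquiv a s.pt (inj adj adjf π a f ≫ _) = _
      rw [homEquiv_inj_comp, Equiv.apply_symm_apply]
      exact Fan.IsLimit.fac (hlim s.pt) _ f)
    (fun s m hm => by
      apply (adj.homEquiv a s.pt).injective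
      rw [Equiv.apply_symm_apply]
      apply Fan.IsLimit.hom_ext (hlim s.pt)
      intro f
      have h1 : (adj.homEquiv a s.pt m) ≫ (π f).app s.pt =
          (adjf f).homEquiv a s.pt (s.inj f) := by
        rw [← homEquiv_inj_comp adj adjf π a f m]
        congr 1
        exact hm f
      have h2 := Fan.IsLimit.fac (hlim s.pt) (fun f => (adjf f).homEquiv a s.pt (s.inj f)) f
      exact h1.trans h2.symm)

end Groth.Agent.Helper6.AdjCoprod
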