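import Mathlib

namespace Groth.Agent.Helper6.CoordChange

open MvPolynomial KaehlerDifferential

section chain
variable {k K M : Type*} [CommRing k] [CommRing K] [Algebra k K] [AddCommGroup M] [Module K M]
  [Module k M] [IsScalarTower k K M] {σ : Type*} [Fintype σ]

theorem deriv_aeval (d : Derivation k K M) (w : σ → K) (f : MvPolynomial σ k) :
    d (aeval w f) = ∑ i, aeval w (pderiv i f) • d (w i) := by
  classical
  induction f using MvPolynomial.induction_on with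
  | C a => simp
  | add p q hp hq => simp only [map_add, add_smul, Finset.sum_add_distrib, hp, hq]
  | mul_X p n hp =>
    rw [map_mul, aeval_X, Derivation.leibniz, hp]
    simp only [pderiv_mul, pderiv_X, map_add, map_mul, aeval_X, add_smul]
    rw [Finset.sum_add_distrib, Finset.smul_sum]
    have h1 : ∑ i, ((aeval w) p * (aeval w) (Pi.single (M := fun _ => MvPolynomial σ k) i 1 n)) • d (w i) =
        (aeval w) p • d (w n) := by
      rw [Finset.sum_eq_single n]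
      · simp
      · intro b _ hb
        rw [Pi.single_eq_of_ne hb.symm]; simp
      · intro h; exact absurd (Finset.mem_univ n) h
    rw [h1, add_comm]
    congr 1
    refine Finset.sum_congr rfl (fun i _ => ?_)
    rw [smul_smul, mul_comm]

end chain

section cross
variable {K M : Type*} [Field K] [AddCommGroup M] [Module K M]

/-- the key multilinear identity. -/
theorem cross_identity (a : Fin 3 → Fin 3 → K) (u : Fin 3 → K) (du : Fin 3 → M) :
    (a 0 0 * a 1 1 * a 2 2 - a 0 0 * a 1 2 * a 2 1 - a 0 1 * a 1 0 * a 2 2 + a 0 1 * a 1 2 * a 2 0 +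
      a 0 2 * a 1 0 * a 2 1 - a 0 2 * a 1 1 * a 2 0) • (u 0 • du 1 - u 1 • du 0) =
    a 0 2 • ((a 1 0 * u 0 + a 1 1 * u 1 + a 1 2 * u 2) • (a 2 0 • du 0 + a 2 1 • du 1 + a 2 2 • du 2) -
        (a 2 0 * u 0 + a 2 1 * u 1 + a 2 2 * u 2) • (a 1 0 • du 0 + a 1 1 • du 1 + a 1 2 • du 2)) +
    a 1 2 • ((a 2 0 * u 0 + a 2 1 * u 1 + a 2 2 * u 2) • (a 0 0 • du 0 + a 0 1 • du 1 + a 0 2 • du 2) -
        (a 0 0 * u 0 + a 0 1 * u 1 + a 0 2 * u 2) • (a 2 0 • du 0 + a 2 1 • du 1 + a 2 2 • du 2)) +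
    a 2 2 • ((a 0 0 * u 0 + a 0 1 * u 1 + a 0 2 * u 2) • (a 1 0 • du 0 + a 1 1 • du 1 + a 1 2 • du 2) -
        (a 1 0 * u 0 + a 1 1 * u 1 + a 1 2 * u 2) • (a 0 0 • du 0 + a 0 1 • du 1 + a 0 2 • du 2)) := by
  module

end cross

section homog
variable {k K : Type*} [Field k] [Field K] [Algebra k K]

theorem aeval_smul_of_isHomogeneous {σ : Type*} [Fintype σ] {g : MvPolynomial σ k} {d : ℕ}
    (hg : g.IsHomogeneous d) (x : σ → K) (c : K) :
    MvPolynomial.aeval (fun i => c * x i) g = c ^ d * MvPolynomial.aeval x g := by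
  rw [MvPolynomial.aeval_def, MvPolynomial.eval₂_eq', MvPolynomial.aeval_def, MvPolynomial.eval₂_eq',
    Finset.mul_sum]
  apply Finset.sum_congr rfl
  intro m hm
  have h1 := hg (MvPolynomial.mem_support_iff.mp hm)
  have h2 : ∑ i, m i = d := by
    rw [← h1, ← Finsupp.degree_eq_sum]
    exact DFunLike.congr_fun Finsupp.degree_eq_weight_one m
  simp_rw [mul_pow]
  rw [Finset.prod_mul_distrib, Finset.prod_pow_eq_pow_sum, h2]
  ring

end homog

section main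
variable (k K : Type*) [Field k] [Field K] [Algebra k K]

theorem main_aux
    (f : MvPolynomial (Fin 3) k) (e : ℕ) (hf : f.IsHomogeneous e)
    (x y : K) (w : Fin 3 → K) (hw0 : w 0 = 1) (hw1 : w 1 = x) (hw2 : w 2 = y)
    (hfxy : MvPolynomial.aeval w f = 0)
    (A : Matrix (Fin 3) (Fin 3) k)
    (u : Fin 3 → K) (hu : ∀ i, ∑ j, algebraMap k K (A i j) * u j = w i)
    (hu0 : u 0 ≠ 0)
    (w' : Fin 3 → K) (hw'0 : w' 0 = 1) (hw'1 : w' 1 = u 1 / u 0) (hw'2 : w' 2 = u 2 / u 0)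
    (φ : Fin 3 → MvPolynomial (Fin 3) k)
    (hφ : φ = fun i : Fin 3 => ∑ j, MvPolynomial.C (A i j) * MvPolynomial.X j)
    (hfy : MvPolynomial.aeval w (MvPolynomial.pderiv 2 f) ≠ 0)
    (hfy' : MvPolynomial.aeval w' (MvPolynomial.pderiv 2 (MvPolynomial.aeval φ f)) ≠ 0) :
    (MvPolynomial.aeval w (MvPolynomial.pderiv 2 f))⁻¹ • KaehlerDifferential.D k K x =
      (algebraMap k K A.det * (u 0)⁻¹ ^ ((e : ℤ) - 3) *
        (MvPolynomial.aeval w' (MvPolynomial.pderiv 2 (MvPolynomial.aeval φ f)))⁻¹) •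
        KaehlerDifferential.D k K (u 1 / u 0) := by
  -- e ≥ 1
  have he : 1 ≤ e := by
    by_contra h
    have h0 : e = 0 := by omega
    subst h0
    rw [← totalDegree_zero_iff_isHomogeneous, totalDegree_eq_zero_iff_eq_C] at hf
    apply hfy
    rw [hf, pderiv_C, map_zero]
  have hφu : ∀ i, aeval u (φ i) = w i := by
    intro i
    rw [← hu i, hφ]
    simp [map_sum]
  have hcomp : ∀ h : MvPolynomial (Fin 3) k, aeval u (aeval φ h) = aeval w h := by
    intro h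
    have h1 := comp_aeval (R := k) φ (aeval u : MvPolynomial (Fin 3) k →ₐ[k] K)
    have h2 := congrArg (fun F => F h) h1
    simp only [AlgHom.comp_apply] at h2
    rw [h2]
    congr 2
    funext i
    exact hφu i
  have hpdφ : ∀ i, pderiv (2 : Fin 3) (φ i) = C (A i 2) := by
    intro i
    rw [hφ]
    simp only [Fin.sum_univ_three]
    rw [map_add, map_add, pderiv_C_mul, pderiv_C_mul, pderiv_C_mul,
      pderiv_X_of_ne (show (0 : Fin 3) ≠ 2 by decide),
      pderiv_X_of_ne (show (1 : Fin 3) ≠ 2 by decide), pderiv_X_self]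
    simp
  have hpd : pderiv 2 (aeval φ f) = ∑ i, aeval φ (pderiv i f) * C (A i 2) := by
    have h1 := deriv_aeval (pderiv (2 : Fin 3) :
      Derivation k (MvPolynomial (Fin 3) k) (MvPolynomial (Fin 3) k)) φ f
    rw [h1]
    refine Finset.sum_congr rfl (fun i _ => ?_)
    rw [smul_eq_mul, hpdφ]
  have hg2u : aeval u (pderiv 2 (aeval φ f)) =
      ∑ i, aeval w (pderiv i f) * algebraMap k K (A i 2) := by
    rw [hpd, map_sum]
    refine Finset.sum_congr rfl (fun i _ => ?_)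
    rw [map_mul, hcomp, aeval_C]
  have hφhom : ∀ i, (φ i).IsHomogeneous 1 := by
    intro i
    rw [hφ]
    refine IsHomogeneous.sum _ _ _ (fun j _ => ?_)
    have := (isHomogeneous_C (Fin 3) (A i j)).mul (isHomogeneous_X k j)
    simpa using this
  have hghom : (aeval φ f).IsHomogeneous e := by
    have := hf.aeval (S := k) φ hφhom
    simpa using this
  have hg2hom : (pderiv 2 (aeval φ f)).IsHomogeneous (e - 1) := hghom.pderiv
  have hu_eq : u = fun i => u 0 * w' i := by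
    funext i
    have h3 : ∀ i : Fin 3, i = 0 ∨ i = 1 ∨ i = 2 := by decide
    rcases h3 i with rfl | rfl | rfl
    · rw [hw'0, mul_one]
    · rw [hw'1]; field_simp
    · rw [hw'2]; field_simp
  have hg2scale : aeval u (pderiv 2 (aeval φ f)) =
      u 0 ^ (e - 1) * aeval w' (pderiv 2 (aeval φ f)) := by
    conv_lhs => rw [hu_eq]
    exact aeval_smul_of_isHomogeneous hg2hom w' (u 0)
  -- differentials
  have hDw : ∀ i, KaehlerDifferential.D k K (w i) =
      ∑ j, algebraMap k K (A i j) • KaehlerDifferential.D k K (u j) := by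
    intro i
    have h1 : w i = ∑ j, algebraMap k K (A i j) * u j := by rw [hu i]
    rw [h1, map_sum]
    refine Finset.sum_congr rfl (fun j _ => ?_)
    rw [Derivation.leibniz, Derivation.map_algebraMap, smul_zero, add_zero]
  have hF5 : aeval w (pderiv 1 f) • KaehlerDifferential.D k K x +
      aeval w (pderiv 2 f) • KaehlerDifferential.D k K y = 0 := by
    have h1 := deriv_aeval (KaehlerDifferential.D k K) w f
    rw [hfxy, map_zero, Fin.sum_univ_three, hw0, hw1, hw2] at h1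
    have h2 : KaehlerDifferential.D k K (1 : K) = 0 := Derivation.map_one_eq_zero _
    rw [h2, smul_zero, zero_add] at h1
    exact h1.symm
  have hF6 : aeval w (pderiv 0 f) + x * aeval w (pderiv 1 f) + y * aeval w (pderiv 2 f) = 0 := by
    have h1 := congrArg (aeval w) hf.sum_X_mul_pderiv
    rw [map_sum, Fin.sum_univ_three] at h1
    simp only [map_mul, aeval_X, hw0, hw1, hw2, one_mul, map_nsmul] at h1
    rw [hfxy, smul_zero] at h1
    exact h1
  -- abbreviations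
  obtain ⟨F0, hF0⟩ : ∃ F0, F0 = aeval w (pderiv 0 f) := ⟨_, rfl⟩
  obtain ⟨F1, hF1⟩ : ∃ F1, F1 = aeval w (pderiv 1 f) := ⟨_, rfl⟩
  obtain ⟨F2, hF2⟩ : ∃ F2, F2 = aeval w (pderiv 2 f) := ⟨_, rfl⟩
  obtain ⟨G, hG⟩ : ∃ G, G = aeval w' (pderiv 2 (aeval φ f)) := ⟨_, rfl⟩
  obtain ⟨a, ha⟩ : ∃ a : Fin 3 → Fin 3 → K, a = fun i j => algebraMap k K (A i j) := ⟨_, rfl⟩
  obtain ⟨du, hdu⟩ : ∃ du : Fin 3 → Ω[K⁄k], du = fun j => KaehlerDifferential.D k K (u j) :=
    ⟨_, rfl⟩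
  obtain ⟨Dx, hDx⟩ : ∃ Dx, Dx = KaehlerDifferential.D k K x := ⟨_, rfl⟩
  obtain ⟨Dy, hDy⟩ : ∃ Dy, Dy = KaehlerDifferential.D k K y := ⟨_, rfl⟩
  rw [← hF0, ← hF1, ← hF2] at hF6
  rw [← hF1, ← hF2, ← hDx, ← hDy] at hF5
  rw [← hF2] at hfy ⊢
  rw [← hG] at hfy' hg2scale ⊢
  rw [← hDx]
  have haij : ∀ i j, algebraMap k K (A i j) = a i j := fun i j => by rw [ha]
  have hduj : ∀ j, KaehlerDifferential.D k K (u j) = du j := fun j => by rw [hdu]
  have hu' : ∀ i, a i 0 * u 0 + a i 1 * u 1 + a i 2 * u 2 = w i := by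
    intro i
    rw [← hu i, Fin.sum_univ_three, haij, haij, haij]
  have hDw' : ∀ i, a i 0 • du 0 + a i 1 • du 1 + a i 2 • du 2 = KaehlerDifferential.D k K (w i) := by
    intro i
    rw [hDw i, Fin.sum_univ_three, haij, haij, haij, hduj, hduj, hduj]
  have hD1 : KaehlerDifferential.D k K (1 : K) = 0 := Derivation.map_one_eq_zero _
  -- key identity
  have hK1 : algebraMap k K A.det • (u 0 • du 1 - u 1 • du 0) =
      a 0 2 • (x • Dy - y • Dx) + a 1 2 • (-Dy) + a 2 2 • Dx := by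
    have h1 := cross_identity a u du
    rw [hu' 0, hu' 1, hu' 2, hDw' 0, hDw' 1, hDw' 2, hw0, hw1, hw2, hD1, ← hDx, ← hDy] at h1
    rw [Matrix.det_fin_three]
    simp only [map_add, map_sub, map_mul, haij]
    rw [h1]
    module
  have hDy' : F2 • Dy = -(F1 • Dx) := eq_neg_of_add_eq_zero_right hF5
  have hF0' : F0 = -(x * F1) - y * F2 := by linear_combination hF6
  have hS2 : F2 • (a 0 2 • (x • Dy - y • Dx) + a 1 2 • (-Dy) + a 2 2 • Dx) =
      (F0 * a 0 2 + F1 * a 1 2 + F2 * a 2 2) • Dx := by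
    have h1 : F2 • (a 0 2 • (x • Dy - y • Dx) + a 1 2 • (-Dy) + a 2 2 • Dx) =
        (a 0 2 * x - a 1 2) • (F2 • Dy) + (-(a 0 2 * y * F2) + a 2 2 * F2) • Dx := by module
    rw [h1, hDy', hF0']
    module
  have hS3 : F2 • (algebraMap k K A.det • (u 0 • du 1 - u 1 • du 0)) = (u 0 ^ (e - 1) * G) • Dx := by
    rw [hK1, hS2, ← hg2scale, hg2u, Fin.sum_univ_three, haij, haij, haij, ← hF0, ← hF1, ← hF2]
  have hS4 : KaehlerDifferential.D k K (u 1 / u 0) = (u 0)⁻¹ ^ 2 • (u 0 • du 1 - u 1 • du 0) := by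
    rw [Derivation.leibniz_div, hduj, hduj]
  have hS3' : algebraMap k K A.det • (u 0 • du 1 - u 1 • du 0) =
      (F2⁻¹ * (u 0 ^ (e - 1) * G)) • Dx := by
    rw [mul_smul, ← hS3, smul_smul, inv_mul_cancel₀ hfy, one_smul]
  have hpow : (u 0)⁻¹ ^ ((e : ℤ) - 3) * (u 0)⁻¹ ^ 2 * u 0 ^ (e - 1) = 1 := by
    obtain ⟨n, rfl⟩ : ∃ n, e = n + 1 := ⟨e - 1, by omega⟩
    have h1 : ((n + 1 : ℕ) : ℤ) - 3 = (n : ℤ) - 2 := by push_cast; ring
    rw [h1, Nat.add_sub_cancel, ← zpow_natCast ((u 0)⁻¹) 2, ← zpow_add₀ (inv_ne_zero hu0)]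
    have h2 : (n : ℤ) - 2 + ((2 : ℕ) : ℤ) = (n : ℤ) := by push_cast; ring
    rw [h2, zpow_natCast, inv_pow, inv_mul_cancel₀ (pow_ne_zero _ hu0)]
  rw [hS4, smul_smul]
  have h5 : (algebraMap k K A.det * (u 0)⁻¹ ^ ((e : ℤ) - 3) * G⁻¹ * (u 0)⁻¹ ^ 2) •
      (u 0 • du 1 - u 1 • du 0) =
      ((u 0)⁻¹ ^ ((e : ℤ) - 3) * G⁻¹ * (u 0)⁻¹ ^ 2) •
        (algebraMap k K A.det • (u 0 • du 1 - u 1 • du 0)) := by
    rw [smul_smul]
    congr 1
    ring
  rw [h5, hS3', smul_smul]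
  congr 1
  have h6 : (u 0)⁻¹ ^ ((e : ℤ) - 3) * G⁻¹ * (u 0)⁻¹ ^ 2 * (F2⁻¹ * (u 0 ^ (e - 1) * G)) =
      F2⁻¹ * ((u 0)⁻¹ ^ ((e : ℤ) - 3) * (u 0)⁻¹ ^ 2 * u 0 ^ (e - 1)) * (G⁻¹ * G) := by ring
  rw [h6, hpow, inv_mul_cancel₀ hfy', mul_one, mul_one]

theorem main
    (f : MvPolynomial (Fin 3) k) (e : ℕ) (hf : f.IsHomogeneous e)
    (x y : K) (hfxy : MvPolynomial.aeval ![(1 : K), x, y] f = 0)
    (A : Matrix (Fin 3) (Fin 3) k) (hA : A.det ≠ 0)
    (u : Fin 3 → K) (hu : ∀ i, ∑ j, algebraMap k K (A i j) * u j = ![(1 : K), x, y] i)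
    (hu0 : u 0 ≠ 0)
    (hfy : MvPolynomial.aeval ![(1 : K), x, y] (MvPolynomial.pderiv 2 f) ≠ 0)
    (hfy' : MvPolynomial.aeval ![(1 : K), u 1 / u 0, u 2 / u 0]
      (MvPolynomial.pderiv 2
        (MvPolynomial.aeval (fun i : Fin 3 => ∑ j, MvPolynomial.C (A i j) * MvPolynomial.X j) f)) ≠ 0) :
    (MvPolynomial.aeval ![(1 : K), x, y] (MvPolynomial.pderiv 2 f))⁻¹ • KaehlerDifferential.D k K x =
      (algebraMap k K A.det * (u 0)⁻¹ ^ ((e : ℤ) - 3) *
        (MvPolynomial.aeval ![(1 : K), u 1 / u 0, u 2 / u 0]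
          (MvPolynomial.pderiv 2
            (MvPolynomial.aeval (fun i : Fin 3 => ∑ j, MvPolynomial.C (A i j) * MvPolynomial.X j) f)))⁻¹) •
        KaehlerDifferential.D k K (u 1 / u 0) :=
  main_aux k K f e hf x y ![(1 : K), x, y] rfl rfl rfl hfxy A u hu hu0
    ![(1 : K), u 1 / u 0, u 2 / u 0] rfl rfl rfl _ rfl hfy hfy'

end main

end Groth.Agent.Helper6.CoordChange
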