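import Groth.Agent.Helper5.FFEmb3
import Groth.Agent.Helper5.FGMapDiv

set_option autoImplicit false
set_option linter.style.haveILetI false

/-!
# The genus bound `2g ≤ (d-1)(d-2)` for a plane model of degree `d`
-/

namespace Groth.Agent.Helper6.PlaneGenus

open FunFld
open Groth.Agent.Helper5
open scoped IntermediateField

universe u v
variable {k : Type u} {K : Type v} [Field k] [Field K] [Algebra k K]

theorem val_le_exp_mapDiv (hK : IsFunctionField k K) {ι : Type*} [Fintype ι] [Nonempty ι]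
    (φ : ι → K) (P : Place k K) (i : ι) : P.1 (φ i) ≤ WithZero.exp (mapDiv k φ P) := by
  by_cases h0 : φ i = 0
  · rw [h0, map_zero]; exact zero_le'
  · rw [FF.val_le_exp_iff P h0, FG.mapDiv_apply hK.1, neg_neg]
    exact Finset.inf'_le _ (Finset.mem_univ i)

theorem exists_val_eq_exp_mapDiv (hK : IsFunctionField k K) {ι : Type*} [Fintype ι] [Nonempty ι]
    (φ : ι → K) (i₀ : ι) (h₀ : φ i₀ = 1) (P : Place k K) :
    ∃ i, P.1 (φ i) = WithZero.exp (mapDiv k φ P) := by
  obtain ⟨i, -, hi⟩ := Finset.exists_mem_eq_inf' Finset.univ_nonempty (fun i => P.ord (φ i))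
  rw [FG.mapDiv_apply hK.1, hi]
  by_cases h0 : φ i = 0
  · refine ⟨i₀, ?_⟩
    rw [h0, FF.ord_zero, neg_zero, WithZero.exp_zero, h₀, map_one]
  · exact ⟨i, FF.val_eq_exp_neg_ord P h0⟩

theorem linearIndependent_pow_nat {x : K} (hx : Transcendental k x) :
    LinearIndependent k fun a : ℕ => (IntermediateField.AdjoinSimple.gen k x) ^ a := by
  have h1 : LinearIndependent k fun i : ℕ => (Polynomial.monomial i (1 : k) : Polynomial k) := by
    have := (Polynomial.basisMonomials k).linearIndependent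
    rwa [Polynomial.coe_basisMonomials] at this
  have hinj : Function.Injective (Polynomial.aeval (R := k) x) :=
    transcendental_iff_injective.mp hx
  have h2 := h1.map' (Polynomial.aeval (R := k) x).toLinearMap (LinearMap.ker_eq_bot.mpr hinj)
  apply LinearIndependent.of_comp (IsScalarTower.toAlgHom k k⟮x⟯ K).toLinearMap
  have h3 : ((IsScalarTower.toAlgHom k k⟮x⟯ K).toLinearMap ∘
      fun a : ℕ => (IntermediateField.AdjoinSimple.gen k x) ^ a) =
      ((Polynomial.aeval (R := k) x).toLinearMap ∘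
        fun i : ℕ => (Polynomial.monomial i (1 : k) : Polynomial k)) := by
    funext i
    simp [IntermediateField.AdjoinSimple.algebraMap_gen]
  rw [h3]
  exact h2

theorem two_mul_genus_le [IsAlgClosed k] (hK : IsFunctionField k K) (x y : K)
    (hxy : IntermediateField.adjoin k ({x, y} : Set K) = ⊤) :
    2 * (genus k K : ℤ) ≤
      ((mapDiv k ![(1 : K), x, y]).deg - 1) * ((mapDiv k ![(1 : K), x, y]).deg - 2) := by
  classical
  obtain ⟨D, hD⟩ : ∃ D : Divisor k K, D = mapDiv k ![(1 : K), x, y] := ⟨_, rfl⟩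
  rw [← hD]
  have hle : ∀ (P : Place k K) (i : Fin 3), P.1 (![(1 : K), x, y] i) ≤ WithZero.exp (D P) := by
    intro P i; rw [hD]; exact val_le_exp_mapDiv hK _ P i
  have hx_le : ∀ P : Place k K, P.1 x ≤ WithZero.exp (D P) := fun P => hle P 1
  have hy_le : ∀ P : Place k K, P.1 y ≤ WithZero.exp (D P) := fun P => hle P 2
  have h1_le : ∀ P : Place k K, (1 : WithZero (Multiplicative ℤ)) ≤ WithZero.exp (D P) := by
    intro P
    have h := hle P 0
    have e : ![(1 : K), x, y] 0 = 1 := rfl
    rwa [e, map_one] at h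
  have hD0 : ∀ P, 0 ≤ D P := fun P => by
    have := h1_le P
    rwa [← WithZero.exp_zero, WithZero.exp_le_exp] at this
  have hatt : ∀ P : Place k K, ∃ i, P.1 (![(1 : K), x, y] i) = WithZero.exp (D P) := by
    intro P; rw [hD]; exact exists_val_eq_exp_mapDiv hK _ 0 rfl P
  have hbad : ∀ P ∈ D.support,
      {c : k | P.1 (x - algebraMap k K c * y) < WithZero.exp (D P)}.Subsingleton := by
    intro P hP c₁ hc₁ c₂ hc₂
    by_contra hne
    rw [Set.mem_setOf_eq] at hc₁ hc₂
    have hm : 0 < D P := lt_of_le_of_ne (hD0 P) (Ne.symm (Finsupp.mem_support_iff.mp hP))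
    have h1lt : (1 : WithZero (Multiplicative ℤ)) < WithZero.exp (D P) := by
      rw [← WithZero.exp_zero, WithZero.exp_lt_exp]; exact hm
    have hcy : P.1 (algebraMap k K (c₁ - c₂) * y) < WithZero.exp (D P) := by
      have e : algebraMap k K (c₁ - c₂) * y =
          (x - algebraMap k K c₂ * y) - (x - algebraMap k K c₁ * y) := by
        rw [map_sub]; ring
      rw [e]
      exact lt_of_le_of_lt (Valuation.map_sub _ _ _) (max_lt hc₂ hc₁)
    have hc0 : c₁ - c₂ ≠ 0 := sub_ne_zero.mpr hne
    have hylt : P.1 y < WithZero.exp (D P) := by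
      rwa [map_mul, FF.val_algebraMap P hc0, one_mul] at hcy
    have hxlt : P.1 x < WithZero.exp (D P) := by
      have e : x = (x - algebraMap k K c₁ * y) + algebraMap k K c₁ * y := by ring
      rw [e]
      refine lt_of_le_of_lt (Valuation.map_add _ _ _) (max_lt hc₁ ?_)
      rw [map_mul]
      calc P.1 (algebraMap k K c₁) * P.1 y ≤ 1 * P.1 y := mul_le_mul' (P.2.1 _) le_rfl
        _ = P.1 y := one_mul _
        _ < _ := hylt
    obtain ⟨i, hi⟩ := hatt P
    have : P.1 (![(1 : K), x, y] i) < WithZero.exp (D P) := by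
      fin_cases i
      · show P.1 (1 : K) < _
        rw [map_one]; exact h1lt
      · exact hxlt
      · exact hylt
    exact absurd hi (ne_of_lt this)
  have hfin : (⋃ P ∈ (↑D.support : Set (Place k K)),
      {c : k | P.1 (x - algebraMap k K c * y) < WithZero.exp (D P)}).Finite :=
    Set.Finite.biUnion D.support.finite_toSet
      (fun P hP => (hbad P (Finset.mem_coe.mp hP)).finite)
  obtain ⟨c, hc⟩ := hfin.infinite_compl.nonempty
  have hc' : ∀ P ∈ D.support, ¬ P.1 (x - algebraMap k K c * y) < WithZero.exp (D P) := by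
    intro P hP hlt
    apply hc
    rw [Set.mem_iUnion₂]
    exact ⟨P, Finset.mem_coe.mpr hP, hlt⟩
  obtain ⟨x', hx'⟩ : ∃ x' : K, x' = x - algebraMap k K c * y := ⟨_, rfl⟩
  have hcy_le : ∀ P : Place k K, P.1 (algebraMap k K c * y) ≤ WithZero.exp (D P) := by
    intro P
    rw [map_mul]
    calc P.1 (algebraMap k K c) * P.1 y ≤ 1 * P.1 y := mul_le_mul' (P.2.1 _) le_rfl
      _ = P.1 y := one_mul _
      _ ≤ _ := hy_le P
  have hx'le : ∀ P : Place k K, P.1 x' ≤ WithZero.exp (D P) := by
    intro P; rw [hx']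
    exact (Valuation.map_sub _ _ _).trans (max_le (hx_le P) (hcy_le P))
  have hx'eq : ∀ P ∈ D.support, P.1 x' = WithZero.exp (D P) := fun P hP =>
    le_antisymm (hx'le P) (not_lt.mp (by rw [hx']; exact hc' P hP))
  have hKne : ∃ z : K, z ∉ Set.range (algebraMap k K) := by
    obtain ⟨z, hz, -⟩ := hK.1
    refine ⟨z, ?_⟩
    rintro ⟨a, rfl⟩
    exact hz (isAlgebraic_algebraMap a)
  have htr : Transcendental k x' := by
    apply FF.transcendental_of_not_mem_range hK
    rintro ⟨a, ha⟩
    have hsupp : D.support = ∅ := by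
      by_contra hne
      obtain ⟨P, hP⟩ := Finset.nonempty_iff_ne_empty.mpr hne
      have h1 := hx'eq P hP
      rw [← ha] at h1
      have h2 := P.2.1 a
      have hm : 0 < D P := lt_of_le_of_ne (hD0 P) (Ne.symm (Finsupp.mem_support_iff.mp hP))
      rw [h1, ← WithZero.exp_zero, WithZero.exp_le_exp] at h2
      omega
    have hD0' : ∀ P, D P = 0 := fun P =>
      Finsupp.notMem_support_iff.mp (by rw [hsupp]; exact Finset.notMem_empty P)
    have hxk : x ∈ Set.range (algebraMap k K) :=
      FF.mem_range_of_forall_val_le_one hK (fun P => by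
        have := hx_le P; rwa [hD0' P, WithZero.exp_zero] at this)
    have hyk : y ∈ Set.range (algebraMap k K) :=
      FF.mem_range_of_forall_val_le_one hK (fun P => by
        have := hy_le P; rwa [hD0' P, WithZero.exp_zero] at this)
    obtain ⟨z, hz⟩ := hKne
    have hzmem : z ∈ IntermediateField.adjoin k ({x, y} : Set K) := by rw [hxy]; trivial
    have hbot : IntermediateField.adjoin k ({x, y} : Set K) ≤ ⊥ := by
      rw [IntermediateField.adjoin_le_iff]
      intro w hw
      rcases hw with hw | hw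
      · rw [hw]; exact IntermediateField.mem_bot.mpr hxk
      · rw [hw]; exact IntermediateField.mem_bot.mpr hyk
    exact hz (IntermediateField.mem_bot.mp (hbot hzmem))
  have hx'0 : x' ≠ 0 := by
    intro h
    exact htr (h ▸ isAlgebraic_zero)
  have hpole : (-(FunFld.div k x')) ⊔ 0 = D := by
    ext P
    rw [Finsupp.sup_apply, Finsupp.neg_apply, Finsupp.zero_apply, FF.div_apply hK]
    by_cases hP : P ∈ D.support
    · have h2 := FF.ord_eq_of_val_eq P (hx'eq P hP)
      rw [h2, neg_neg]
      exact sup_eq_left.mpr (hD0 P)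
    · have hDP : D P = 0 := Finsupp.notMem_support_iff.mp hP
      have h1 := hx'le P
      rw [hDP, WithZero.exp_zero] at h1
      have h2 := (FF.ord_nonneg_iff P hx'0).mpr h1
      rw [hDP]
      exact sup_eq_right.mpr (by omega)
  have hdeg : D.deg = Module.finrank k⟮x'⟯ K := by
    rw [← hpole]; exact FF.deg_poles_eq hK htr
  haveI : FiniteDimensional k⟮x'⟯ K := FF.finiteDimensional_adjoin hK htr
  have hgen : IntermediateField.adjoin k⟮x'⟯ ({y} : Set K) = ⊤ := by
    rw [eq_top_iff]
    intro z _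
    have hyE : y ∈ IntermediateField.adjoin k⟮x'⟯ ({y} : Set K) :=
      IntermediateField.mem_adjoin_simple_self _ y
    have hx'E : x' ∈ IntermediateField.adjoin k⟮x'⟯ ({y} : Set K) := by
      have e : x' = algebraMap k⟮x'⟯ K (IntermediateField.AdjoinSimple.gen k x') :=
        (IntermediateField.AdjoinSimple.algebraMap_gen k x').symm
      rw [e]
      exact IntermediateField.algebraMap_mem _ _
    have hcE : algebraMap k K c ∈ IntermediateField.adjoin k⟮x'⟯ ({y} : Set K) := by
      rw [IsScalarTower.algebraMap_apply k k⟮x'⟯ K]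
      exact IntermediateField.algebraMap_mem _ _
    have hle' : IntermediateField.adjoin k ({x, y} : Set K) ≤
        (IntermediateField.adjoin k⟮x'⟯ ({y} : Set K)).restrictScalars k := by
      rw [IntermediateField.adjoin_le_iff]
      intro w hw
      show w ∈ IntermediateField.adjoin k⟮x'⟯ ({y} : Set K)
      rcases hw with hw | hw
      · rw [hw]
        have e : x = x' + algebraMap k K c * y := by rw [hx']; ring
        rw [e]
        exact add_mem hx'E (mul_mem hcE hyE)
      · rw [hw]; exact hyE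
    have hz : z ∈ IntermediateField.adjoin k ({x, y} : Set K) := by rw [hxy]; trivial
    exact hle' hz
  have hyint : IsIntegral k⟮x'⟯ y := Algebra.IsIntegral.isIntegral y
  have hnat : (minpoly k⟮x'⟯ y).natDegree = Module.finrank k⟮x'⟯ K := by
    rw [← IntermediateField.adjoin.finrank hyint, hgen, IntermediateField.finrank_top']
  obtain ⟨d, hd⟩ : ∃ d : ℕ, (minpoly k⟮x'⟯ y).natDegree = d := ⟨_, rfl⟩
  have hliy := linearIndependent_pow (K := k⟮x'⟯) y
  rw [hd] at hliy
  have hdK : Module.finrank k⟮x'⟯ K = d := by rw [← hnat, hd]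
  have hd1 : 1 ≤ d := by rw [← hdK]; exact Module.finrank_pos
  have hprod := linearIndependent_smul (linearIndependent_pow_nat htr) hliy
  -- choose n
  obtain ⟨g, hg⟩ : ∃ g : ℕ, g = genus k K := ⟨_, rfl⟩
  obtain ⟨n, hn⟩ : ∃ n : ℕ, n = 2 * g + d := ⟨_, rfl⟩
  have hmem : ∀ a b : ℕ, a + b ≤ n → x' ^ a * y ^ b ∈ L (n • D) := by
    intro a b hab
    rw [FF.mem_L_iff]
    intro P
    rw [map_mul, map_pow, map_pow, FF.nsmul_apply']
    calc P.1 x' ^ a * P.1 y ^ b ≤ WithZero.exp (D P) ^ a * WithZero.exp (D P) ^ b :=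
          mul_le_mul' (pow_le_pow_left' (hx'le P) a) (pow_le_pow_left' (hy_le P) b)
      _ = WithZero.exp ((a + b) • D P) := by rw [WithZero.exp_nsmul, pow_add]
      _ ≤ WithZero.exp ((n : ℤ) * D P) := by
          rw [WithZero.exp_le_exp, nsmul_eq_mul]
          exact mul_le_mul_of_nonneg_right (by exact_mod_cast hab) (hD0 P)
  let ι := (b : Fin d) × Fin (n + 1 - b)
  let e : ι → ℕ × Fin d := fun i => ((i.2 : ℕ), i.1)
  have he : Function.Injective e := by
    rintro ⟨b, a⟩ ⟨b', a'⟩ h
    simp only [e, Prod.mk.injEq] at h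
    obtain ⟨h1, h2⟩ := h
    subst h2
    congr 1
    exact Fin.ext h1
  have hidx : ∀ i : ι, (i.2 : ℕ) + (i.1 : ℕ) ≤ n := by
    rintro ⟨b, a⟩
    have := a.2
    have := b.2
    show (a : ℕ) + (b : ℕ) ≤ n
    omega
  let v : ι → L (n • D) := fun i => ⟨x' ^ (i.2 : ℕ) * y ^ (i.1 : ℕ), hmem _ _ (hidx i)⟩
  have hv : LinearIndependent k v := by
    apply LinearIndependent.of_comp (L (n • D)).subtype
    have := hprod.comp e he
    convert this using 1
    funext i
    simp only [Function.comp_apply, v, e, Submodule.subtype_apply, Algebra.smul_def, map_pow,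
      IntermediateField.AdjoinSimple.algebraMap_gen]
  haveI := FF.finiteDimensional_L hK (n • D)
  have hcard := hv.fintype_card_le_finrank
  have hcardι : Fintype.card ι = ∑ b : Fin d, (n + 1 - (b : ℕ)) := by
    simp [ι, Fintype.card_sigma]
  have hsum1 : ∑ b : Fin d, (n + 1 - (b : ℕ)) + ∑ b : Fin d, (b : ℕ) = d * (n + 1) := by
    rw [← Finset.sum_add_distrib]
    have : ∀ b ∈ (Finset.univ : Finset (Fin d)), (n + 1 - (b : ℕ)) + (b : ℕ) = n + 1 := by
      intro b _
      have := b.2
      omega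
    rw [Finset.sum_congr rfl this]
    simp
  have hsum2 : (∑ b : Fin d, (b : ℕ)) * 2 = d * (d - 1) := by
    rw [Fin.sum_univ_eq_sum_range (fun i => i) d]
    exact Finset.sum_range_id_mul_two d
  have hdegn : (n • D).deg = (n : ℤ) * d := by
    rw [FF.deg_nsmul, hdeg, hdK]
  have hbig : 2 * (genus k K : ℤ) - 1 ≤ (n • D).deg := by
    rw [hdegn, ← hg, hn]
    have : (1 : ℤ) ≤ d := by exact_mod_cast hd1
    push_cast
    nlinarith
  have hell := FF.ell_eq_of_deg_ge hK (n • D) hbig
  rw [hdegn, ← hg] at hell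
  unfold ell at hell
  rw [hdeg, hdK, ← hg]
  obtain ⟨S, hS⟩ : ∃ S : ℕ, S = ∑ b : Fin d, (n + 1 - (b : ℕ)) := ⟨_, rfl⟩
  obtain ⟨T, hT⟩ : ∃ T : ℕ, T = ∑ b : Fin d, (b : ℕ) := ⟨_, rfl⟩
  rw [← hS, ← hT] at hsum1
  rw [← hT] at hsum2
  rw [hcardι, ← hS] at hcard
  have h1 : (S : ℤ) + T = d * (n + 1) := by exact_mod_cast hsum1
  have h2 : (T : ℤ) * 2 = d * (d - 1) := by
    have : ((d - 1 : ℕ) : ℤ) = (d : ℤ) - 1 := by rw [Nat.cast_sub hd1]; simp
    rw [← this]
    exact_mod_cast hsum2
  have h3 : (S : ℤ) ≤ (n : ℤ) * d + 1 - g := by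
    rw [← hell]
    exact_mod_cast hcard
  nlinarith

end Groth.Agent.Helper6.PlaneGenus
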