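import Mathlib
import Groth.Agent.Helper6.PlaneGenus
import Groth.Agent.Helper5.FFEmb4
import Groth.Agent.Helper5.FFCoord0
import Groth.Agent.Helper5.FFExist

set_option autoImplicit false
set_option linter.style.haveILetI false

/-!
# Plane models: generic coordinates and the monomial family
-/

namespace Groth.Agent.Helper6.PlaneSetup

open FunFld
open Groth.Agent.Helper5
open Groth.Agent.Helper6.PlaneGenus
open scoped IntermediateField

universe u v
variable {k : Type u} {K : Type v} [Field k] [Field K] [Algebra k K]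

/-- generic coordinates for a plane model `(1 : x : y)` with `D = mapDiv (1,x,y)`. -/
structure Gen (x y x' : K) (c : k) (D : Divisor k K) (d : ℕ) : Prop where
  hx' : x' = x - algebraMap k K c * y
  hx_le : ∀ P : Place k K, P.1 x ≤ WithZero.exp (D P)
  hy_le : ∀ P : Place k K, P.1 y ≤ WithZero.exp (D P)
  hD0 : ∀ P : Place k K, 0 ≤ D P
  hatt : ∀ P : Place k K, ∃ i, P.1 (![(1 : K), x, y] i) = WithZero.exp (D P)
  hle : ∀ (P : Place k K) (i : Fin 3), P.1 (![(1 : K), x, y] i) ≤ WithZero.exp (D P)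
  hx'le : ∀ P : Place k K, P.1 x' ≤ WithZero.exp (D P)
  hx'eq : ∀ P ∈ D.support, P.1 x' = WithZero.exp (D P)
  htr : Transcendental k x'
  hdeg : D.deg = (d : ℤ)
  hdK : Module.finrank k⟮x'⟯ K = d
  hgen : IntermediateField.adjoin k⟮x'⟯ ({y} : Set K) = ⊤
  hxy' : IntermediateField.adjoin k ({x', y} : Set K) = ⊤
  hd1 : 1 ≤ d

theorem exists_gen [IsAlgClosed k] (hK : IsFunctionField k K) (x y : K)
    (hxy : IntermediateField.adjoin k ({x, y} : Set K) = ⊤) :
    ∃ (x' : K) (c : k) (d : ℕ), Gen x y x' c (mapDiv k ![(1 : K), x, y]) d := by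
  classical
  obtain ⟨D, hD⟩ : ∃ D : Divisor k K, D = mapDiv k ![(1 : K), x, y] := ⟨_, rfl⟩
  rw [← hD]
  have hle : ∀ (P : Place k K) (i : Fin 3), P.1 (![(1 : K), x, y] i) ≤ WithZero.exp (D P) := by
    intro P i; rw [hD]; exact val_le_exp_mapDiv hK _ P i
  have hx_le : ∀ P : Place k K, P.1 x ≤ WithZero.exp (D P) := fun P => hle P 1
  have hy_le : ∀ P : Place k K, P.1 y ≤ WithZero.exp (D P) := fun P => hle P 2
  have h1_le : ∀ P : Place k K, (1 : WithZero (Multiplicative ℤ)) ≤ WithZero.exp (D P) := by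
    intro P
    have h := hle P 0
    have e : ![(1 : K), x, y] 0 = 1 := rfl
    rwa [e, map_one] at h
  have hD0 : ∀ P, 0 ≤ D P := fun P => by
    have := h1_le P
    rwa [← WithZero.exp_zero, WithZero.exp_le_exp] at this
  have hatt : ∀ P : Place k K, ∃ i, P.1 (![(1 : K), x, y] i) = WithZero.exp (D P) := by
    intro P; rw [hD]; exact exists_val_eq_exp_mapDiv hK _ 0 rfl P
  have hbad : ∀ P ∈ D.support,
      {c : k | P.1 (x - algebraMap k K c * y) < WithZero.exp (D P)}.Subsingleton := by
    intro P hP c₁ hc₁ c₂ hc₂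
    by_contra hne
    rw [Set.mem_setOf_eq] at hc₁ hc₂
    have hm : 0 < D P := lt_of_le_of_ne (hD0 P) (Ne.symm (Finsupp.mem_support_iff.mp hP))
    have h1lt : (1 : WithZero (Multiplicative ℤ)) < WithZero.exp (D P) := by
      rw [← WithZero.exp_zero, WithZero.exp_lt_exp]; exact hm
    have hcy : P.1 (algebraMap k K (c₁ - c₂) * y) < WithZero.exp (D P) := by
      have e : algebraMap k K (c₁ - c₂) * y =
          (x - algebraMap k K c₂ * y) - (x - algebraMap k K c₁ * y) := by
        rw [map_sub]; ring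
      rw [e]
      exact lt_of_le_of_lt (Valuation.map_sub _ _ _) (max_lt hc₂ hc₁)
    have hc0 : c₁ - c₂ ≠ 0 := sub_ne_zero.mpr hne
    have hylt : P.1 y < WithZero.exp (D P) := by
      rwa [map_mul, FF.val_algebraMap P hc0, one_mul] at hcy
    have hxlt : P.1 x < WithZero.exp (D P) := by
      have e : x = (x - algebraMap k K c₁ * y) + algebraMap k K c₁ * y := by ring
      rw [e]
      refine lt_of_le_of_lt (Valuation.map_add _ _ _) (max_lt hc₁ ?_)
      rw [map_mul]
      calc P.1 (algebraMap k K c₁) * P.1 y ≤ 1 * P.1 y := mul_le_mul' (P.2.1 _) le_rfl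
        _ = P.1 y := one_mul _
        _ < _ := hylt
    obtain ⟨i, hi⟩ := hatt P
    have : P.1 (![(1 : K), x, y] i) < WithZero.exp (D P) := by
      fin_cases i
      · show P.1 (1 : K) < _
        rw [map_one]; exact h1lt
      · exact hxlt
      · exact hylt
    exact absurd hi (ne_of_lt this)
  have hfin : (⋃ P ∈ (↑D.support : Set (Place k K)),
      {c : k | P.1 (x - algebraMap k K c * y) < WithZero.exp (D P)}).Finite :=
    Set.Finite.biUnion D.support.finite_toSet
      (fun P hP => (hbad P (Finset.mem_coe.mp hP)).finite)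
  obtain ⟨c, hc⟩ := hfin.infinite_compl.nonempty
  have hc' : ∀ P ∈ D.support, ¬ P.1 (x - algebraMap k K c * y) < WithZero.exp (D P) := by
    intro P hP hlt
    apply hc
    rw [Set.mem_iUnion₂]
    exact ⟨P, Finset.mem_coe.mpr hP, hlt⟩
  obtain ⟨x', hx'⟩ : ∃ x' : K, x' = x - algebraMap k K c * y := ⟨_, rfl⟩
  have hcy_le : ∀ P : Place k K, P.1 (algebraMap k K c * y) ≤ WithZero.exp (D P) := by
    intro P
    rw [map_mul]
    calc P.1 (algebraMap k K c) * P.1 y ≤ 1 * P.1 y := mul_le_mul' (P.2.1 _) le_rfl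
      _ = P.1 y := one_mul _
      _ ≤ _ := hy_le P
  have hx'le : ∀ P : Place k K, P.1 x' ≤ WithZero.exp (D P) := by
    intro P; rw [hx']
    exact (Valuation.map_sub _ _ _).trans (max_le (hx_le P) (hcy_le P))
  have hx'eq : ∀ P ∈ D.support, P.1 x' = WithZero.exp (D P) := fun P hP =>
    le_antisymm (hx'le P) (not_lt.mp (by rw [hx']; exact hc' P hP))
  have hKne : ∃ z : K, z ∉ Set.range (algebraMap k K) := by
    obtain ⟨z, hz, -⟩ := hK.1
    refine ⟨z, ?_⟩
    rintro ⟨a, rfl⟩
    exact hz (isAlgebraic_algebraMap a)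
  have htr : Transcendental k x' := by
    apply FF.transcendental_of_not_mem_range hK
    rintro ⟨a, ha⟩
    have hsupp : D.support = ∅ := by
      by_contra hne
      obtain ⟨P, hP⟩ := Finset.nonempty_iff_ne_empty.mpr hne
      have h1 := hx'eq P hP
      rw [← ha] at h1
      have h2 := P.2.1 a
      have hm : 0 < D P := lt_of_le_of_ne (hD0 P) (Ne.symm (Finsupp.mem_support_iff.mp hP))
      rw [h1, ← WithZero.exp_zero, WithZero.exp_le_exp] at h2
      omega
    have hD0' : ∀ P, D P = 0 := fun P =>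
      Finsupp.notMem_support_iff.mp (by rw [hsupp]; exact Finset.notMem_empty P)
    have hxk : x ∈ Set.range (algebraMap k K) :=
      FF.mem_range_of_forall_val_le_one hK (fun P => by
        have := hx_le P; rwa [hD0' P, WithZero.exp_zero] at this)
    have hyk : y ∈ Set.range (algebraMap k K) :=
      FF.mem_range_of_forall_val_le_one hK (fun P => by
        have := hy_le P; rwa [hD0' P, WithZero.exp_zero] at this)
    obtain ⟨z, hz⟩ := hKne
    have hzmem : z ∈ IntermediateField.adjoin k ({x, y} : Set K) := by rw [hxy]; trivial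
    have hbot : IntermediateField.adjoin k ({x, y} : Set K) ≤ ⊥ := by
      rw [IntermediateField.adjoin_le_iff]
      intro w hw
      rcases hw with hw | hw
      · rw [hw]; exact IntermediateField.mem_bot.mpr hxk
      · rw [hw]; exact IntermediateField.mem_bot.mpr hyk
    exact hz (IntermediateField.mem_bot.mp (hbot hzmem))
  have hx'0 : x' ≠ 0 := by
    intro h
    exact htr (h ▸ isAlgebraic_zero)
  have hpole : (-(FunFld.div k x')) ⊔ 0 = D := by
    ext P
    rw [Finsupp.sup_apply, Finsupp.neg_apply, Finsupp.zero_apply, FF.div_apply hK]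
    by_cases hP : P ∈ D.support
    · have h2 := FF.ord_eq_of_val_eq P (hx'eq P hP)
      rw [h2, neg_neg]
      exact sup_eq_left.mpr (hD0 P)
    · have hDP : D P = 0 := Finsupp.notMem_support_iff.mp hP
      have h1 := hx'le P
      rw [hDP, WithZero.exp_zero] at h1
      have h2 := (FF.ord_nonneg_iff P hx'0).mpr h1
      rw [hDP]
      exact sup_eq_right.mpr (by omega)
  have hdeg : D.deg = Module.finrank k⟮x'⟯ K := by
    rw [← hpole]; exact FF.deg_poles_eq hK htr
  haveI : FiniteDimensional k⟮x'⟯ K := FF.finiteDimensional_adjoin hK htr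
  have hgen : IntermediateField.adjoin k⟮x'⟯ ({y} : Set K) = ⊤ := by
    rw [eq_top_iff]
    intro z _
    have hyE : y ∈ IntermediateField.adjoin k⟮x'⟯ ({y} : Set K) :=
      IntermediateField.mem_adjoin_simple_self _ y
    have hx'E : x' ∈ IntermediateField.adjoin k⟮x'⟯ ({y} : Set K) := by
      have e : x' = algebraMap k⟮x'⟯ K (IntermediateField.AdjoinSimple.gen k x') :=
        (IntermediateField.AdjoinSimple.algebraMap_gen k x').symm
      rw [e]
      exact IntermediateField.algebraMap_mem _ _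
    have hcE : algebraMap k K c ∈ IntermediateField.adjoin k⟮x'⟯ ({y} : Set K) := by
      rw [IsScalarTower.algebraMap_apply k k⟮x'⟯ K]
      exact IntermediateField.algebraMap_mem _ _
    have hle' : IntermediateField.adjoin k ({x, y} : Set K) ≤
        (IntermediateField.adjoin k⟮x'⟯ ({y} : Set K)).restrictScalars k := by
      rw [IntermediateField.adjoin_le_iff]
      intro w hw
      show w ∈ IntermediateField.adjoin k⟮x'⟯ ({y} : Set K)
      rcases hw with hw | hw
      · rw [hw]
        have e : x = x' + algebraMap k K c * y := by rw [hx']; ring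
        rw [e]
        exact add_mem hx'E (mul_mem hcE hyE)
      · rw [hw]; exact hyE
    have hz : z ∈ IntermediateField.adjoin k ({x, y} : Set K) := by rw [hxy]; trivial
    exact hle' hz
  have hxy' : IntermediateField.adjoin k ({x', y} : Set K) = ⊤ := by
    rw [eq_top_iff, ← hxy, IntermediateField.adjoin_le_iff]
    intro w hw
    have hx'm : x' ∈ IntermediateField.adjoin k ({x', y} : Set K) :=
      IntermediateField.subset_adjoin k _ (by simp)
    have hym : y ∈ IntermediateField.adjoin k ({x', y} : Set K) :=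
      IntermediateField.subset_adjoin k _ (by simp)
    rcases hw with hw | hw
    · rw [hw]
      have e : x = x' + algebraMap k K c * y := by rw [hx']; ring
      rw [e]
      exact add_mem hx'm (mul_mem (IntermediateField.algebraMap_mem _ c) hym)
    · rw [hw]; exact hym
  have hd1 : 1 ≤ Module.finrank k⟮x'⟯ K := Module.finrank_pos
  exact ⟨x', c, Module.finrank k⟮x'⟯ K,
    { hx' := hx', hx_le := hx_le, hy_le := hy_le, hD0 := hD0, hatt := hatt, hle := hle,
      hx'le := hx'le, hx'eq := hx'eq, htr := htr, hdeg := hdeg, hdK := rfl, hgen := hgen,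
      hxy' := hxy', hd1 := hd1 }⟩

section

variable {x y x' : K} {c : k} {D : Divisor k K} {d : ℕ}

theorem Gen.x'_ne_zero (G : Gen x y x' c D d) : x' ≠ 0 := by
  intro h
  exact G.htr (h ▸ isAlgebraic_zero)

theorem Gen.x_eq (G : Gen x y x' c D d) : x = x' + algebraMap k K c * y := by
  rw [G.hx']; ring

theorem Gen.D_eq_zero_of_le (G : Gen x y x' c D d) (P : Place k K) (h : P.1 x' ≤ 1) :
    D P = 0 := by
  by_contra hne
  have hP : P ∈ D.support := Finsupp.mem_support_iff.mpr hne
  have h1 := G.hx'eq P hP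
  rw [h1, ← WithZero.exp_zero, WithZero.exp_le_exp] at h
  have := G.hD0 P
  omega

theorem Gen.val_eq_of_inv_le (G : Gen x y x' c D d) (P : Place k K) (h : P.1 x'⁻¹ ≤ 1) :
    P.1 x' = WithZero.exp (D P) := by
  by_cases hP : P ∈ D.support
  · exact G.hx'eq P hP
  · have hDP : D P = 0 := Finsupp.notMem_support_iff.mp hP
    have h1 := G.hx'le P
    rw [hDP, WithZero.exp_zero] at h1 ⊢
    have h2 : 1 ≤ P.1 x' := by
      rw [map_inv₀] at h
      exact (inv_le_one₀ (zero_lt_iff.mpr ((Valuation.ne_zero_iff _).mpr G.x'_ne_zero))).mp h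
    exact le_antisymm h1 h2

theorem Gen.exists_pole (G : Gen x y x' c D d) : ∃ P : Place k K, 0 < D P := by
  by_contra hno
  push Not at hno
  have hD : D = 0 := by
    ext P
    have h1 := hno P
    have h2 := G.hD0 P
    rw [Finsupp.zero_apply]
    omega
  have h1 := G.hdeg
  rw [hD, FF.deg_zero] at h1
  have := G.hd1
  omega

theorem Gen.mono_mem (G : Gen x y x' c D d) (n : ℕ) {a b : ℕ} (hab : a + b ≤ n) :
    x' ^ a * y ^ b ∈ L (n • D) := by
  rw [FF.mem_L_iff]
  intro P
  rw [map_mul, map_pow, map_pow, FF.nsmul_apply']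
  calc P.1 x' ^ a * P.1 y ^ b ≤ WithZero.exp (D P) ^ a * WithZero.exp (D P) ^ b :=
        mul_le_mul' (pow_le_pow_left' (G.hx'le P) a) (pow_le_pow_left' (G.hy_le P) b)
    _ = WithZero.exp ((a + b) • D P) := by rw [WithZero.exp_nsmul, pow_add]
    _ ≤ WithZero.exp ((n : ℤ) * D P) := by
        rw [WithZero.exp_le_exp, nsmul_eq_mul]
        exact mul_le_mul_of_nonneg_right (by exact_mod_cast hab) (G.hD0 P)

theorem Gen.li_pow (hK : IsFunctionField k K) (G : Gen x y x' c D d) :
    LinearIndependent k⟮x'⟯ fun b : Fin d => y ^ (b : ℕ) := by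
  haveI : FiniteDimensional k⟮x'⟯ K := FF.finiteDimensional_adjoin hK G.htr
  have hyint : IsIntegral k⟮x'⟯ y := Algebra.IsIntegral.isIntegral y
  have hnat : (minpoly k⟮x'⟯ y).natDegree = d := by
    rw [← IntermediateField.adjoin.finrank hyint, G.hgen, IntermediateField.finrank_top', G.hdK]
  have hliy := linearIndependent_pow (K := k⟮x'⟯) y
  rw [hnat] at hliy
  exact hliy

/-- the index set of the monomials `x'^a y^b`, `b < d`, `a + b ≤ n`. -/
abbrev Idx (d n : ℕ) : Type := (b : Fin d) × Fin (n + 1 - (b : ℕ))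

/-- the monomial family. -/
def mono (x' y : K) (d n : ℕ) : Idx d n → K := fun i => x' ^ (i.2 : ℕ) * y ^ (i.1 : ℕ)

theorem mono_mem_range (x' y : K) {d n a b : ℕ} (hb : b < d) (hab : a + b ≤ n) :
    x' ^ a * y ^ b ∈ Set.range (mono x' y d n) :=
  ⟨⟨⟨b, hb⟩, ⟨a, by show a < n + 1 - b; omega⟩⟩, rfl⟩

theorem idx_le {d n : ℕ} (i : Idx d n) : (i.2 : ℕ) + (i.1 : ℕ) ≤ n := by
  obtain ⟨b, a⟩ := i
  have := a.2
  show (a : ℕ) + (b : ℕ) ≤ n
  omega

theorem Gen.mono_li (hK : IsFunctionField k K) (G : Gen x y x' c D d) (n : ℕ) :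
    LinearIndependent k (mono x' y d n) := by
  have hprod := linearIndependent_smul (linearIndependent_pow_nat G.htr) (G.li_pow hK)
  let e : Idx d n → ℕ × Fin d := fun i => ((i.2 : ℕ), i.1)
  have he : Function.Injective e := by
    rintro ⟨b, a⟩ ⟨b', a'⟩ h
    simp only [e, Prod.mk.injEq] at h
    obtain ⟨h1, h2⟩ := h
    subst h2
    congr 1
    exact Fin.ext h1
  have := hprod.comp e he
  convert this using 1
  funext i
  simp only [Function.comp_apply, mono, e, Algebra.smul_def, map_pow,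
    IntermediateField.AdjoinSimple.algebraMap_gen]

theorem card_idx (d n : ℕ) (hdn : d ≤ n + 1) :
    (Fintype.card (Idx d n) : ℤ) * 2 = 2 * d * (n + 1) - d * (d - 1) := by
  have hcardι : Fintype.card (Idx d n) = ∑ b : Fin d, (n + 1 - (b : ℕ)) := by
    simp [Idx, Fintype.card_sigma]
  have hsum1 : ∑ b : Fin d, (n + 1 - (b : ℕ)) + ∑ b : Fin d, (b : ℕ) = d * (n + 1) := by
    rw [← Finset.sum_add_distrib]
    have : ∀ b ∈ (Finset.univ : Finset (Fin d)), (n + 1 - (b : ℕ)) + (b : ℕ) = n + 1 := by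
      intro b _
      have := b.2
      omega
    rw [Finset.sum_congr rfl this]
    simp
  have hsum2 : (∑ b : Fin d, (b : ℕ)) * 2 = d * (d - 1) := by
    rw [Fin.sum_univ_eq_sum_range (fun i => i) d]
    exact Finset.sum_range_id_mul_two d
  obtain ⟨S, hS⟩ : ∃ S : ℕ, S = ∑ b : Fin d, (n + 1 - (b : ℕ)) := ⟨_, rfl⟩
  obtain ⟨T, hT⟩ : ∃ T : ℕ, T = ∑ b : Fin d, (b : ℕ) := ⟨_, rfl⟩
  rw [← hS, ← hT] at hsum1
  rw [← hT] at hsum2
  rw [hcardι, ← hS]
  have h1 : (S : ℤ) + T = d * (n + 1) := by exact_mod_cast hsum1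
  have h2 : (T : ℤ) * 2 = d * (d - 1) := by
    rcases Nat.eq_zero_or_pos d with h0 | hpos
    · subst h0
      simp at hsum2 ⊢
      exact hsum2
    · have : ((d - 1 : ℕ) : ℤ) = (d : ℤ) - 1 := by rw [Nat.cast_sub hpos]; simp
      rw [← this]
      exact_mod_cast hsum2
  linarith

theorem Gen.ell_nD (hK : IsFunctionField k K) (G : Gen x y x' c D d) (n : ℕ)
    (hn : 2 * (genus k K : ℤ) - 1 ≤ n * d) :
    (Module.finrank k (L (n • D)) : ℤ) = n * d + 1 - genus k K := by
  have hdegn : (n • D).deg = (n : ℤ) * d := by rw [FF.deg_nsmul, G.hdeg]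
  have hell := FF.ell_eq_of_deg_ge hK (n • D) (by rw [hdegn]; exact hn)
  rw [hdegn] at hell
  exact hell

theorem Gen.span_mono_le (G : Gen x y x' c D d) (n : ℕ) :
    Submodule.span k (Set.range (mono x' y d n)) ≤ L (n • D) := by
  rw [Submodule.span_le]
  rintro _ ⟨i, rfl⟩
  exact G.mono_mem n (idx_le i)

theorem Gen.span_mono_eq (hK : IsFunctionField k K) (G : Gen x y x' c D d)
    (heq : 2 * (genus k K : ℤ) = ((d : ℤ) - 1) * ((d : ℤ) - 2)) (n : ℕ)
    (hn : 2 * (genus k K : ℤ) - 1 ≤ n * d) (hdn : d ≤ n + 1) :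
    Submodule.span k (Set.range (mono x' y d n)) = L (n • D) := by
  haveI := FF.finiteDimensional_L hK (n • D)
  apply Submodule.eq_of_le_of_finrank_eq (G.span_mono_le n)
  rw [finrank_span_eq_card (G.mono_li hK n)]
  have h1 := card_idx d n hdn
  have h2 := G.ell_nD hK n hn
  have h3 : (Fintype.card (Idx d n) : ℤ) = (Module.finrank k (L (n • D)) : ℤ) := by
    rw [h2]
    linarith
  exact_mod_cast h3

theorem Gen.two_mul_genus_ge (hK : IsFunctionField k K) (G : Gen x y x' c D d) (n : ℕ)
    (hn : 2 * (genus k K : ℤ) - 1 ≤ n * d) (hdn : d ≤ n + 1)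
    (hsub : L (n • D) ≤ Submodule.span k (Set.range (mono x' y d n))) :
    ((d : ℤ) - 1) * ((d : ℤ) - 2) ≤ 2 * (genus k K : ℤ) := by
  haveI : FiniteDimensional k (Submodule.span k (Set.range (mono x' y d n))) :=
    FiniteDimensional.span_of_finite k (Set.finite_range _)
  have h0 : Module.finrank k (L (n • D)) ≤
      Module.finrank k (Submodule.span k (Set.range (mono x' y d n))) :=
    Submodule.finrank_mono hsub
  have h0' : Module.finrank k (Submodule.span k (Set.range (mono x' y d n))) ≤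
      Fintype.card (Idx d n) := finrank_range_le_card (R := k) (mono x' y d n)
  have h1 := card_idx d n hdn
  have h2 := G.ell_nD hK n hn
  have h3 : (Module.finrank k (L (n • D)) : ℤ) ≤ (Fintype.card (Idx d n) : ℤ) := by
    exact_mod_cast h0.trans h0'
  rw [h2] at h3
  linarith

end

end Groth.Agent.Helper6.PlaneSetup
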