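import Mathlib
import Groth.Agent.Helper6.PlaneSetup

set_option autoImplicit false
set_option linter.style.haveILetI false

/-!
# Plane models: algebraic lemmas (transfer of local rings, normality, integral bases)
-/

namespace Groth.Agent.Helper6.PlaneAlg

open FunFld
open Groth.Agent.Helper5
open scoped IntermediateField

universe u v
variable {k : Type u} {K : Type v} [Field k] [Field K] [Algebra k K]

/-- transfer of a local-ring presentation to another chart. -/
theorem transfer {ι : Type*} (ψ : ι → K) (P : Place k K) (B : Subalgebra k K) (δ : K)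
    (j : ι) (hδ : δ ≠ 0) (hj0 : ψ j ≠ 0) (hB : ∀ i, ψ i / δ ∈ B) (hunit : P.1 (ψ j) = P.1 δ)
    {u w z : K} (hu : u ∈ Algebra.adjoin k (Set.range fun i => ψ i / ψ j))
    (hw : w ∈ Algebra.adjoin k (Set.range fun i => ψ i / ψ j)) (hw1 : P.1 w = 1)
    (hzw : z * w = u) :
    ∃ U ∈ B, ∃ W ∈ B, P.1 W = 1 ∧ z * W = U := by
  obtain ⟨μ, hμ⟩ : ∃ μ : K, μ = ψ j / δ := ⟨_, rfl⟩
  have hμB : μ ∈ B := by rw [hμ]; exact hB j
  have hμ1 : P.1 μ = 1 := by
    rw [hμ, map_div₀, hunit, div_self]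
    exact (Valuation.ne_zero_iff _).mpr hδ
  have key : ∀ a ∈ Algebra.adjoin k (Set.range fun i => ψ i / ψ j), ∃ r : ℕ, a * μ ^ r ∈ B := by
    intro a ha
    induction ha using Algebra.adjoin_induction with
    | mem a ha =>
      obtain ⟨i, rfl⟩ := ha
      refine ⟨1, ?_⟩
      have e : ψ i / ψ j * μ ^ 1 = ψ i / δ := by
        rw [pow_one, hμ, div_mul_div_comm, mul_comm (ψ i), mul_div_mul_left _ _ hj0]
      rw [e]; exact hB i
    | algebraMap c => exact ⟨0, by rw [pow_zero, mul_one]; exact B.algebraMap_mem c⟩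
    | add a b _ _ iha ihb =>
      obtain ⟨r, hr⟩ := iha
      obtain ⟨s, hs⟩ := ihb
      refine ⟨r + s, ?_⟩
      have e : (a + b) * μ ^ (r + s) = a * μ ^ r * μ ^ s + b * μ ^ s * μ ^ r := by
        rw [pow_add]; ring
      rw [e]
      exact B.add_mem (B.mul_mem hr (B.pow_mem hμB s)) (B.mul_mem hs (B.pow_mem hμB r))
    | mul a b _ _ iha ihb =>
      obtain ⟨r, hr⟩ := iha
      obtain ⟨s, hs⟩ := ihb
      refine ⟨r + s, ?_⟩
      have e : (a * b) * μ ^ (r + s) = (a * μ ^ r) * (b * μ ^ s) := by rw [pow_add]; ring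
      rw [e]
      exact B.mul_mem hr hs
  obtain ⟨r, hr⟩ := key u hu
  obtain ⟨s, hs⟩ := key w hw
  refine ⟨u * μ ^ r * μ ^ s, B.mul_mem hr (B.pow_mem hμB s), w * μ ^ s * μ ^ r,
    B.mul_mem hs (B.pow_mem hμB r), ?_, ?_⟩
  · rw [map_mul, map_mul, map_pow, map_pow, hw1, hμ1, one_pow, one_pow, mul_one, mul_one]
  · rw [← hzw]; ring

/-- the conductor-type ideal `{r ∈ R | r z ∈ R}`. -/
def condIdeal (R : Subalgebra k K) (z : K) : Ideal R.toSubring where
  carrier := {r | (r : K) * z ∈ R}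
  zero_mem' := by
    show ((0 : R.toSubring) : K) * z ∈ R
    rw [ZeroMemClass.coe_zero, zero_mul]; exact R.zero_mem
  add_mem' := by
    intro a b ha hb
    show ((a + b : R.toSubring) : K) * z ∈ R
    rw [Subring.coe_add, add_mul]
    exact R.add_mem ha hb
  smul_mem' := by
    intro c a ha
    show ((c • a : R.toSubring) : K) * z ∈ R
    rw [smul_eq_mul, Subring.coe_mul, mul_assoc]
    exact R.mul_mem c.2 ha

theorem mem_condIdeal (R : Subalgebra k K) (z : K) (r : R.toSubring) :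
    r ∈ condIdeal R z ↔ (r : K) * z ∈ R := Iff.rfl

/-- normality: a function regular on the affine chart `(u, v)` lies in `k[u, v]`, provided the local
rings of the chart are the full valuation rings. -/
theorem mem_adjoin_of_regular (hK : IsFunctionField k K) (u v : K)
    (huv : IntermediateField.adjoin k ({u, v} : Set K) = ⊤)
    (hloc : ∀ P : Place k K, P.1 u ≤ 1 → P.1 v ≤ 1 → ∀ z : K, P.1 z ≤ 1 →
      ∃ U ∈ Algebra.adjoin k ({u, v} : Set K), ∃ W ∈ Algebra.adjoin k ({u, v} : Set K),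
        P.1 W = 1 ∧ z * W = U)
    (z : K) (hz : ∀ P : Place k K, P.1 u ≤ 1 → P.1 v ≤ 1 → P.1 z ≤ 1) :
    z ∈ Algebra.adjoin k ({u, v} : Set K) := by
  classical
  by_contra hzR
  have hzK : z ∈ IntermediateField.adjoin k ({u, v} : Set K) := by rw [huv]; trivial
  obtain ⟨a, ha, b, hb, hab⟩ := IntermediateField.mem_adjoin_iff_div.mp hzK
  obtain ⟨R, hR⟩ : ∃ R : Subalgebra k K, R = Algebra.adjoin k ({u, v} : Set K) := ⟨_, rfl⟩
  rw [← hR] at hzR hloc ha hb
  have huR : u ∈ R := by rw [hR]; exact Algebra.subset_adjoin (by simp)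
  have hvR : v ∈ R := by rw [hR]; exact Algebra.subset_adjoin (by simp)
  have hI : condIdeal R z ≠ ⊤ := by
    intro h
    have h1 : (1 : R.toSubring) ∈ condIdeal R z := by rw [h]; trivial
    rw [mem_condIdeal, OneMemClass.coe_one, one_mul] at h1
    exact hzR h1
  obtain ⟨B, hAB, hIB⟩ := Ideal.image_subset_nonunits_valuationSubring (condIdeal R z) hI
  have hmemI : ∀ r : K, r ∈ R → r * z ∈ R → B.valuation r < 1 := by
    intro r hr hrz
    have h1 : r ∈ B.nonunits := hIB ⟨⟨r, hr⟩, hrz, rfl⟩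
    exact B.mem_nonunits_iff.mp h1
  have hRB : ∀ r : K, r ∈ R → r ∈ B := fun r hr => hAB hr
  have hb0 : b ≠ 0 := by
    rintro rfl
    rw [div_zero] at hab
    exact hzR (hab ▸ R.zero_mem)
  have hbI : b * z ∈ R := by
    rw [hab, mul_div_cancel₀ _ hb0]; exact ha
  have hbv := hmemI b hb hbI
  obtain ⟨P, hP1, hP2⟩ := FF.exists_place_of_valuationSubring hK B
    (fun c => hRB _ (R.algebraMap_mem c)) hb0 hbv
  have hPu : P.1 u ≤ 1 := hP1 u (hRB u huR)
  have hPv : P.1 v ≤ 1 := hP1 v (hRB v hvR)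
  obtain ⟨U, hU, W, hW, hW1, hzW⟩ := hloc P hPu hPv z (hz P hPu hPv)
  have hWI : W * z ∈ R := by rw [mul_comm, hzW]; exact hU
  have := hP2 W (hmemI W hW hWI)
  rw [hW1] at this
  exact lt_irrefl _ this

/-- `k(u)(v) = K` once `k(u, v) = K`. -/
theorem adjoin_adjoin_eq_top (u v : K)
    (huv : IntermediateField.adjoin k ({u, v} : Set K) = ⊤) :
    IntermediateField.adjoin k⟮u⟯ ({v} : Set K) = ⊤ := by
  rw [eq_top_iff]
  intro z _
  have hvE : v ∈ IntermediateField.adjoin k⟮u⟯ ({v} : Set K) :=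
    IntermediateField.mem_adjoin_simple_self _ v
  have huE : u ∈ IntermediateField.adjoin k⟮u⟯ ({v} : Set K) := by
    have e : u = algebraMap k⟮u⟯ K (IntermediateField.AdjoinSimple.gen k u) :=
      (IntermediateField.AdjoinSimple.algebraMap_gen k u).symm
    rw [e]
    exact IntermediateField.algebraMap_mem _ _
  have hle' : IntermediateField.adjoin k ({u, v} : Set K) ≤
      (IntermediateField.adjoin k⟮u⟯ ({v} : Set K)).restrictScalars k := by
    rw [IntermediateField.adjoin_le_iff]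
    intro w hw
    show w ∈ IntermediateField.adjoin k⟮u⟯ ({v} : Set K)
    rcases hw with hw | hw
    · rw [hw]; exact huE
    · rw [hw]; exact hvE
  have hz : z ∈ IntermediateField.adjoin k ({u, v} : Set K) := by rw [huv]; trivial
  exact hle' hz

open scoped IntermediateField.algebraAdjoinAdjoin in
/-- integral basis: if the poles of `v` are among the poles of `u`, every element of `k[u, v]` is a
`k[u]`-combination of `1, v, …, v^(d-1)`, `d = [K : k(u)]`. -/
theorem exists_poly_expansion (hK : IsFunctionField k K) (u v : K) (d : ℕ)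
    (htr : Transcendental k u)
    (hpole : ∀ P : Place k K, P.1 u ≤ 1 → P.1 v ≤ 1)
    (huv : IntermediateField.adjoin k ({u, v} : Set K) = ⊤)
    (hd : Module.finrank k⟮u⟯ K = d)
    (z : K) (hz : z ∈ Algebra.adjoin k ({u, v} : Set K)) :
    ∃ p : Fin d → Polynomial k, z = ∑ b : Fin d, Polynomial.aeval u (p b) * v ^ (b : ℕ) := by
  classical
  have hgen := adjoin_adjoin_eq_top u v huv
  haveI : FiniteDimensional k⟮u⟯ K := FF.finiteDimensional_adjoin hK htr
  haveI hic : IsIntegrallyClosed (Algebra.adjoin k ({u} : Set K)) :=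
    IsIntegrallyClosed.of_equiv (Polynomial.algEquivOfTranscendental k u htr).toRingEquiv
  -- integrality of `v` over `k[u]`
  have hint : IsIntegral (Algebra.adjoin k ({u} : Set K)) v := by
    by_contra hv
    have hv' : v ∉ (integralClosure (Algebra.adjoin k ({u} : Set K)) K).toSubring := hv
    obtain ⟨V, hV1, hV2⟩ := Subring.exists_le_valuationSubring_of_isIntegrallyClosedIn hv'
    have hv0 : v ≠ 0 := by rintro rfl; exact hV2 V.zero_mem
    have hvinv : V.valuation v⁻¹ < 1 := by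
      have h1 : ¬ V.valuation v ≤ 1 := fun h => hV2 ((V.valuation_le_one_iff v).mp h)
      rw [map_inv₀]
      exact inv_lt_one_of_one_lt₀ (not_le.mp h1)
    have hRV : ∀ r ∈ Algebra.adjoin k ({u} : Set K), r ∈ V := by
      intro r hr
      apply hV1
      show IsIntegral (Algebra.adjoin k ({u} : Set K)) r
      exact isIntegral_algebraMap (R := Algebra.adjoin k ({u} : Set K)) (x := ⟨r, hr⟩)
    obtain ⟨P, hP1, hP2⟩ := FF.exists_place_of_valuationSubring hK V
      (fun c => hRV _ (Subalgebra.algebraMap_mem _ c)) (inv_ne_zero hv0) hvinv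
    have h1 := hP1 u (hRV u (Algebra.self_mem_adjoin_singleton k u))
    have h2 := hpole P h1
    have h3 := hP2 v⁻¹ hvinv
    rw [map_inv₀] at h3
    have hPv0 : P.1 v ≠ 0 := (Valuation.ne_zero_iff _).mpr hv0
    have h4 : 1 < P.1 v := (inv_lt_one₀ (zero_lt_iff.mpr hPv0)).mp h3
    exact absurd h2 (not_le.mpr h4)
  have hmin : minpoly k⟮u⟯ v = (minpoly (Algebra.adjoin k ({u} : Set K)) v).map
      (algebraMap (Algebra.adjoin k ({u} : Set K)) k⟮u⟯) :=
    minpoly.isIntegrallyClosed_eq_field_fractions' k⟮u⟯ hint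
  have hyint : IsIntegral k⟮u⟯ v := Algebra.IsIntegral.isIntegral v
  have hnat : (minpoly k⟮u⟯ v).natDegree = d := by
    rw [← IntermediateField.adjoin.finrank hyint, hgen, IntermediateField.finrank_top', hd]
  have hnatR : (minpoly (Algebra.adjoin k ({u} : Set K)) v).natDegree = d := by
    rw [← hnat, hmin, (minpoly.monic hint).natDegree_map]
  have hz' : z ∈ Algebra.adjoin (Algebra.adjoin k ({u} : Set K)) ({v} : Set K) := by
    have e : ({u, v} : Set K) = {u} ∪ {v} := Set.insert_eq u {v}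
    rw [e, Algebra.adjoin_union_eq_adjoin_adjoin] at hz
    exact hz
  rw [Algebra.adjoin_singleton_eq_range_aeval (Algebra.adjoin k ({u} : Set K)) v] at hz'
  obtain ⟨f, hf⟩ := hz'
  have hspan := IsIntegral.mem_span_pow hint ⟨f, hf.symm⟩
  obtain ⟨m, hm⟩ : ∃ m, m = (minpoly (Algebra.adjoin k ({u} : Set K)) v).natDegree := ⟨_, rfl⟩
  rw [← hm] at hspan
  have hmd : m = d := hm.trans hnatR
  subst hmd
  obtain ⟨c, hc⟩ := (Submodule.mem_span_range_iff_exists_fun _).mp hspan
  have hcp : ∀ b : Fin m, ∃ p : Polynomial k, Polynomial.aeval u p = (c b : K) := by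
    intro b
    have h : ∀ w : K, w ∈ Algebra.adjoin k ({u} : Set K) →
        ∃ p : Polynomial k, Polynomial.aeval u p = w := by
      intro w hw
      rw [Algebra.adjoin_singleton_eq_range_aeval k u] at hw
      exact hw
    exact h _ (c b).2
  choose p hp using hcp
  refine ⟨p, ?_⟩
  rw [← hc]
  apply Finset.sum_congr rfl
  intro b _
  rw [hp b]
  rfl

/-- uniqueness of the coefficients of an expansion in powers of `y` over an intermediate field. -/
theorem coeff_unique (F : IntermediateField k K) {d : ℕ} {y : K}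
    (hli : LinearIndependent F fun b : Fin d => y ^ (b : ℕ))
    (α β : Fin d → K) (hα : ∀ b, α b ∈ F) (hβ : ∀ b, β b ∈ F)
    (h : ∑ b : Fin d, α b * y ^ (b : ℕ) = ∑ b : Fin d, β b * y ^ (b : ℕ)) :
    ∀ b, α b = β b := by
  intro b
  have h0 : ∑ b : Fin d, (⟨α b - β b, sub_mem (hα b) (hβ b)⟩ : F) • y ^ (b : ℕ) = 0 := by
    have e : ∀ b : Fin d, (⟨α b - β b, sub_mem (hα b) (hβ b)⟩ : F) • y ^ (b : ℕ) =
        α b * y ^ (b : ℕ) - β b * y ^ (b : ℕ) := by
      intro b
      rw [← sub_mul]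
      rfl
    rw [Finset.sum_congr rfl (fun b _ => e b), Finset.sum_sub_distrib, h, sub_self]
  have h1 := Fintype.linearIndependent_iff.mp hli
    (fun b => (⟨α b - β b, sub_mem (hα b) (hβ b)⟩ : F)) h0 b
  have h2 : α b - β b = 0 := congrArg Subtype.val h1
  exact sub_eq_zero.mp h2

/-- a bound on exponents in the value group. -/
theorem pow_bound {m : ℤ} (hm : 0 < m) {N b n : ℕ} {w : WithZero (Multiplicative ℤ)}
    (hw : w ≤ 1)
    (h : WithZero.exp m ^ N = WithZero.exp m ^ n * w * (WithZero.exp m)⁻¹ ^ b) :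
    N + b ≤ n := by
  have h0 : WithZero.exp m ≠ 0 := WithZero.exp_ne_zero
  have h1 : WithZero.exp m ^ (N + b) ≤ WithZero.exp m ^ n := by
    rw [pow_add, h]
    have e : WithZero.exp m ^ n * w * (WithZero.exp m)⁻¹ ^ b * WithZero.exp m ^ b =
        WithZero.exp m ^ n * w := by
      rw [mul_assoc, ← mul_pow, inv_mul_cancel₀ h0, one_pow, mul_one]
    rw [e]
    calc WithZero.exp m ^ n * w ≤ WithZero.exp m ^ n * 1 := mul_le_mul' le_rfl hw
      _ = _ := mul_one _
  rw [← WithZero.exp_nsmul, ← WithZero.exp_nsmul, WithZero.exp_le_exp, nsmul_eq_mul,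
    nsmul_eq_mul] at h1
  have h2 := le_of_mul_le_mul_right h1 hm
  exact_mod_cast h2

theorem inv_pow_mul_mono (t X Y : K) (ht : t ≠ 0) (A B C : ℕ) :
    (t ^ (A + B + C))⁻¹ * (X ^ A * Y ^ B) = (X / t) ^ A * (Y / t) ^ B * (1 / t) ^ C := by
  rw [pow_add, pow_add, div_pow, div_pow, div_pow, one_pow]
  field_simp

end Groth.Agent.Helper6.PlaneAlg
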