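import Mathlib
import Groth.Agent.Helper6.PlaneAlg

set_option autoImplicit false
set_option linter.style.haveILetI false

/-!
# Plane models: `2g = (d-1)(d-2)` iff the model is nonsingular
-/

namespace Groth.Agent.Helper6.PlaneMain

open FunFld
open Groth.Agent.Helper5
open Groth.Agent.Helper6.PlaneGenus Groth.Agent.Helper6.PlaneSetup Groth.Agent.Helper6.PlaneAlg
open scoped IntermediateField

universe u v
variable {k : Type u} {K : Type v} [Field k] [Field K] [Algebra k K]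

theorem mono_div_mem {φ : Fin 3 → K} {x y x' : K} {c : k} (h0 : φ 0 = 1) (h1 : φ 1 = x)
    (h2 : φ 2 = y) (hx' : x' = x - algebraMap k K c * y) (j : Fin 3) (hj0 : φ j ≠ 0)
    (n A B : ℕ) (hAB : A + B ≤ n) :
    (φ j ^ n)⁻¹ * (x' ^ A * y ^ B) ∈ Algebra.adjoin k (Set.range fun i => φ i / φ j) := by
  obtain ⟨C, rfl⟩ := Nat.exists_eq_add_of_le hAB
  rw [inv_pow_mul_mono _ _ _ hj0]
  have m0 : 1 / φ j ∈ Algebra.adjoin k (Set.range fun i => φ i / φ j) := by
    have : φ 0 / φ j ∈ Algebra.adjoin k (Set.range fun i => φ i / φ j) :=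
      Algebra.subset_adjoin ⟨0, rfl⟩
    rwa [h0] at this
  have m1 : x / φ j ∈ Algebra.adjoin k (Set.range fun i => φ i / φ j) := by
    have : φ 1 / φ j ∈ Algebra.adjoin k (Set.range fun i => φ i / φ j) :=
      Algebra.subset_adjoin ⟨1, rfl⟩
    rwa [h1] at this
  have m2 : y / φ j ∈ Algebra.adjoin k (Set.range fun i => φ i / φ j) := by
    have : φ 2 / φ j ∈ Algebra.adjoin k (Set.range fun i => φ i / φ j) :=
      Algebra.subset_adjoin ⟨2, rfl⟩
    rwa [h2] at this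
  have m1' : x' / φ j ∈ Algebra.adjoin k (Set.range fun i => φ i / φ j) := by
    have e : x' / φ j = x / φ j - algebraMap k K c * (y / φ j) := by
      rw [hx', sub_div, mul_div_assoc]
    rw [e]
    exact Subalgebra.sub_mem _ m1 (Subalgebra.mul_mem _ (Subalgebra.algebraMap_mem _ c) m2)
  exact Subalgebra.mul_mem _ (Subalgebra.mul_mem _ (Subalgebra.pow_mem _ m1' A)
    (Subalgebra.pow_mem _ m2 B)) (Subalgebra.pow_mem _ m0 C)

section

variable {x y x' : K} {c : k} {D : Divisor k K} {d : ℕ}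

theorem val_max (G : Gen x y x' c D d) (P : Place k K) (j : Fin 3)
    (hj : ∀ i, P.1 (![(1 : K), x, y] i) ≤ P.1 (![(1 : K), x, y] j)) :
    P.1 (![(1 : K), x, y] j) = WithZero.exp (D P) := by
  obtain ⟨i, hi⟩ := G.hatt P
  refine le_antisymm (G.hle P j) ?_
  rw [← hi]; exact hj i

theorem chart1_loc (G : Gen x y x' c D d)
    (hns : ∀ P : Place k K, IsNonsingularAt ![(1 : K), x, y] P)
    (P : Place k K) (hu : P.1 x' ≤ 1) (z : K) (hz : P.1 z ≤ 1) :
    ∃ U ∈ Algebra.adjoin k ({x', y} : Set K), ∃ W ∈ Algebra.adjoin k ({x', y} : Set K),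
      P.1 W = 1 ∧ z * W = U := by
  obtain ⟨j, hj0, hjmax, u, hu', w, hw, hw1, hzw⟩ := hns P z hz
  have hDP := G.D_eq_zero_of_le P hu
  have hval := val_max G P j hjmax
  rw [hDP, WithZero.exp_zero] at hval
  refine transfer ![(1 : K), x, y] P (Algebra.adjoin k ({x', y} : Set K)) 1 j one_ne_zero hj0 ?_
    (by rw [hval, map_one]) hu' hw hw1 hzw
  intro i
  rw [div_one]
  have hx'm : x' ∈ Algebra.adjoin k ({x', y} : Set K) := Algebra.subset_adjoin (by simp)
  have hym : y ∈ Algebra.adjoin k ({x', y} : Set K) := Algebra.subset_adjoin (by simp)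
  fin_cases i
  · exact Subalgebra.one_mem _
  · show x ∈ _
    rw [G.x_eq]
    exact Subalgebra.add_mem _ hx'm (Subalgebra.mul_mem _ (Subalgebra.algebraMap_mem _ c) hym)
  · exact hym

theorem chart2_loc (G : Gen x y x' c D d)
    (hns : ∀ P : Place k K, IsNonsingularAt ![(1 : K), x, y] P)
    (P : Place k K) (hu : P.1 x'⁻¹ ≤ 1) (z : K) (hz : P.1 z ≤ 1) :
    ∃ U ∈ Algebra.adjoin k ({x'⁻¹, y * x'⁻¹} : Set K),
      ∃ W ∈ Algebra.adjoin k ({x'⁻¹, y * x'⁻¹} : Set K), P.1 W = 1 ∧ z * W = U := by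
  obtain ⟨j, hj0, hjmax, u, hu', w, hw, hw1, hzw⟩ := hns P z hz
  have hval := val_max G P j hjmax
  have hx'v := G.val_eq_of_inv_le P hu
  refine transfer ![(1 : K), x, y] P _ x' j G.x'_ne_zero hj0 ?_ (by rw [hval, hx'v])
    hu' hw hw1 hzw
  intro i
  have hsm : x'⁻¹ ∈ Algebra.adjoin k ({x'⁻¹, y * x'⁻¹} : Set K) :=
    Algebra.subset_adjoin (by simp)
  have htm : y * x'⁻¹ ∈ Algebra.adjoin k ({x'⁻¹, y * x'⁻¹} : Set K) :=
    Algebra.subset_adjoin (by simp)
  fin_cases i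
  · show (1 : K) / x' ∈ _
    rw [one_div]; exact hsm
  · show x / x' ∈ _
    have e : x / x' = 1 + algebraMap k K c * (y * x'⁻¹) := by
      rw [G.x_eq, add_div, div_self G.x'_ne_zero, div_eq_mul_inv, mul_assoc]
    rw [e]
    exact Subalgebra.add_mem _ (Subalgebra.one_mem _)
      (Subalgebra.mul_mem _ (Subalgebra.algebraMap_mem _ c) htm)
  · show y / x' ∈ _
    rw [div_eq_mul_inv]; exact htm

/-- the core of `⇐`: on a nonsingular plane model, `L(nD)` is spanned by the monomials. -/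
theorem mem_span_of_mem_L (hK : IsFunctionField k K) (G : Gen x y x' c D d)
    (hns : ∀ P : Place k K, IsNonsingularAt ![(1 : K), x, y] P) (n : ℕ) (z : K)
    (hz : z ∈ L (n • D)) :
    z ∈ Submodule.span k (Set.range (mono x' y d n)) := by
  classical
  have hx'0 := G.x'_ne_zero
  have hzP : ∀ P : Place k K, P.1 z ≤ WithZero.exp ((n : ℤ) * D P) := by
    intro P
    have := (FF.mem_L_iff _ _).mp hz P
    rwa [FF.nsmul_apply'] at this
  -- chart 1
  have h1 : z ∈ Algebra.adjoin k ({x', y} : Set K) := by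
    apply mem_adjoin_of_regular hK x' y G.hxy'
    · intro P hu _ z' hz'
      exact chart1_loc G hns P hu z' hz'
    · intro P hu _
      have := hzP P
      rwa [G.D_eq_zero_of_le P hu, mul_zero, WithZero.exp_zero] at this
  have hpole1 : ∀ P : Place k K, P.1 x' ≤ 1 → P.1 y ≤ 1 := by
    intro P hu
    have := G.hy_le P
    rwa [G.D_eq_zero_of_le P hu, WithZero.exp_zero] at this
  obtain ⟨p, hp⟩ := exists_poly_expansion hK x' y d G.htr hpole1 G.hxy' G.hdK z h1
  -- chart 2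
  obtain ⟨s, hs⟩ : ∃ s : K, s = x'⁻¹ := ⟨_, rfl⟩
  obtain ⟨t, ht⟩ : ∃ t : K, t = y * x'⁻¹ := ⟨_, rfl⟩
  have hsval : ∀ P : Place k K, P.1 s ≤ 1 → P.1 x' = WithZero.exp (D P) := by
    intro P h; rw [hs] at h; exact G.val_eq_of_inv_le P h
  have hst : IntermediateField.adjoin k ({s, t} : Set K) = ⊤ := by
    rw [eq_top_iff, ← G.hxy', IntermediateField.adjoin_le_iff]
    intro w hw
    have hsm : s ∈ IntermediateField.adjoin k ({s, t} : Set K) :=
      IntermediateField.subset_adjoin k _ (by simp)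
    have htm : t ∈ IntermediateField.adjoin k ({s, t} : Set K) :=
      IntermediateField.subset_adjoin k _ (by simp)
    rcases hw with hw | hw
    · rw [hw]
      have e : x' = s⁻¹ := by rw [hs, inv_inv]
      rw [e]; exact inv_mem hsm
    · rw [hw]
      have e : y = t * s⁻¹ := by
        rw [ht, hs, inv_inv, mul_assoc, inv_mul_cancel₀ hx'0, mul_one]
      rw [e]; exact mul_mem htm (inv_mem hsm)
  have h2 : z * s ^ n ∈ Algebra.adjoin k ({s, t} : Set K) := by
    apply mem_adjoin_of_regular hK s t hst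
    · intro P hu _ z' hz'
      have := chart2_loc G hns P (by rw [← hs]; exact hu) z' hz'
      rw [← ht, ← hs] at this
      exact this
    · intro P hu _
      have hx'v := hsval P hu
      have h1 := hzP P
      rw [map_mul, map_pow, hs, map_inv₀, hx'v]
      calc P.1 z * (WithZero.exp (D P))⁻¹ ^ n
          ≤ WithZero.exp ((n : ℤ) * D P) * (WithZero.exp (D P))⁻¹ ^ n := mul_le_mul' h1 le_rfl
        _ = 1 := by
          rw [← WithZero.exp_neg, ← WithZero.exp_nsmul, ← WithZero.exp_add, nsmul_eq_mul,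
            mul_neg, add_neg_cancel, WithZero.exp_zero]
  have htr_s : Transcendental k s := by
    intro h
    apply G.htr
    have := h.inv
    rwa [hs, inv_inv] at this
  have hpole2 : ∀ P : Place k K, P.1 s ≤ 1 → P.1 t ≤ 1 := by
    intro P hu
    have hx'v := hsval P hu
    rw [ht, map_mul, map_inv₀, hx'v]
    calc P.1 y * (WithZero.exp (D P))⁻¹
        ≤ WithZero.exp (D P) * (WithZero.exp (D P))⁻¹ := mul_le_mul' (G.hy_le P) le_rfl
      _ = 1 := mul_inv_cancel₀ WithZero.exp_ne_zero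
  have hdK_s : Module.finrank k⟮s⟯ K = d := by
    rw [hs, FF.finrank_congr (FF.adjoin_inv_eq x')]; exact G.hdK
  obtain ⟨q, hq⟩ := exists_poly_expansion hK s t d htr_s hpole2 hst hdK_s _ h2
  -- compare the two expansions
  have hFx' : x' ∈ k⟮x'⟯ := IntermediateField.mem_adjoin_simple_self k x'
  have hFs : s ∈ k⟮x'⟯ := by rw [hs]; exact inv_mem hFx'
  have haevalF : ∀ w : K, w ∈ k⟮x'⟯ → ∀ r : Polynomial k, Polynomial.aeval w r ∈ k⟮x'⟯ := by
    intro w hw r
    have h1 : Algebra.adjoin k ({w} : Set K) ≤ k⟮x'⟯.toSubalgebra :=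
      Algebra.adjoin_le (by simpa using hw)
    exact h1 (Polynomial.aeval_mem_adjoin_singleton k w)
  have hsum : ∑ b : Fin d, (x' ^ n * Polynomial.aeval s (q b) * s ^ (b : ℕ)) * y ^ (b : ℕ) = z := by
    have e : ∀ b : Fin d, (x' ^ n * Polynomial.aeval s (q b) * s ^ (b : ℕ)) * y ^ (b : ℕ) =
        x' ^ n * (Polynomial.aeval s (q b) * t ^ (b : ℕ)) := by
      intro b; rw [ht, ← hs, mul_pow]; ring
    rw [Finset.sum_congr rfl (fun b _ => e b), ← Finset.mul_sum, ← hq, hs, inv_pow, mul_comm z,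
      ← mul_assoc, mul_inv_cancel₀ (pow_ne_zero n hx'0), one_mul]
  have hcmp : ∀ b : Fin d, Polynomial.aeval x' (p b) =
      x' ^ n * Polynomial.aeval s (q b) * s ^ (b : ℕ) :=
    coeff_unique k⟮x'⟯ (G.li_pow hK)
      (fun b => Polynomial.aeval x' (p b))
      (fun b => x' ^ n * Polynomial.aeval s (q b) * s ^ (b : ℕ))
      (fun b => haevalF x' hFx' (p b))
      (fun b => mul_mem (mul_mem (pow_mem hFx' n) (haevalF s hFs (q b))) (pow_mem hFs _))
      (by
        show ∑ b : Fin d, Polynomial.aeval x' (p b) * y ^ (b : ℕ) =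
          ∑ b : Fin d, (x' ^ n * Polynomial.aeval s (q b) * s ^ (b : ℕ)) * y ^ (b : ℕ)
        rw [← hp, hsum])
  -- degree bound via a pole of `x'`
  obtain ⟨P₀, hP₀⟩ := G.exists_pole
  have hP₀supp : P₀ ∈ D.support := Finsupp.mem_support_iff.mpr (ne_of_gt hP₀)
  have hx'P₀ : P₀.1 x' = WithZero.exp (D P₀) := G.hx'eq P₀ hP₀supp
  have hx'gt : 1 < P₀.1 x' := by
    rw [hx'P₀, ← WithZero.exp_zero, WithZero.exp_lt_exp]; exact hP₀
  have hsP₀ : P₀.1 s = (WithZero.exp (D P₀))⁻¹ := by rw [hs, map_inv₀, hx'P₀]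
  have hsle : P₀.1 s ≤ 1 := by
    rw [hsP₀]; exact inv_le_one_of_one_le₀ (by rw [← hx'P₀]; exact hx'gt.le)
  have hdegb : ∀ b : Fin d, p b ≠ 0 → (p b).natDegree + (b : ℕ) ≤ n := by
    intro b hb0
    have hval : P₀.1 (Polynomial.aeval x' (p b)) =
        P₀.1 (x' ^ n * Polynomial.aeval s (q b) * s ^ (b : ℕ)) := by rw [hcmp b]
    rw [FF.val_aeval_of_pole P₀ hx'gt hb0, map_mul, map_mul, map_pow, map_pow, hx'P₀,
      hsP₀] at hval
    exact pow_bound hP₀ (FF.val_aeval_le P₀ hsle (q b)) hval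
  -- conclude
  rw [hp]
  refine Submodule.sum_mem _ fun b _ => ?_
  by_cases hb0 : p b = 0
  · rw [hb0, map_zero, zero_mul]; exact Submodule.zero_mem _
  · rw [Polynomial.aeval_eq_sum_range, Finset.sum_mul]
    refine Submodule.sum_mem _ fun a ha => ?_
    rw [smul_mul_assoc]
    refine Submodule.smul_mem _ _ (Submodule.subset_span ?_)
    have h3 := Finset.mem_range.mp ha
    have h4 := hdegb b hb0
    exact mono_mem_range x' y b.2 (by omega)

end

theorem two_mul_genus_ge_of_nonsingular [IsAlgClosed k] (hK : IsFunctionField k K) (x y : K)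
    (hxy : IntermediateField.adjoin k ({x, y} : Set K) = ⊤)
    (hns : ∀ P : Place k K, IsNonsingularAt ![(1 : K), x, y] P) :
    ((mapDiv k ![(1 : K), x, y]).deg - 1) * ((mapDiv k ![(1 : K), x, y]).deg - 2) ≤
      2 * (genus k K : ℤ) := by
  classical
  obtain ⟨x', c, d, G⟩ := exists_gen hK x y hxy
  obtain ⟨D, hD⟩ : ∃ D : Divisor k K, D = mapDiv k ![(1 : K), x, y] := ⟨_, rfl⟩
  rw [← hD] at G ⊢
  rw [G.hdeg]
  obtain ⟨g, hg⟩ : ∃ g : ℕ, g = genus k K := ⟨_, rfl⟩
  obtain ⟨n, hn⟩ : ∃ n : ℕ, n = 2 * g + d := ⟨_, rfl⟩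
  have hd1 := G.hd1
  have hnd : 2 * (genus k K : ℤ) - 1 ≤ n * d := by
    rw [← hg, hn]
    have : (1 : ℤ) ≤ d := by exact_mod_cast hd1
    push_cast
    nlinarith
  have hdn : d ≤ n + 1 := by omega
  apply G.two_mul_genus_ge hK n hnd hdn
  intro z hz
  exact mem_span_of_mem_L hK G hns n z hz

theorem nonsingular_of_eq [IsAlgClosed k] (hK : IsFunctionField k K) (x y : K)
    (hxy : IntermediateField.adjoin k ({x, y} : Set K) = ⊤)
    (heq : 2 * (genus k K : ℤ) =
      ((mapDiv k ![(1 : K), x, y]).deg - 1) * ((mapDiv k ![(1 : K), x, y]).deg - 2))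
    (P : Place k K) : IsNonsingularAt ![(1 : K), x, y] P := by
  classical
  obtain ⟨x', c, d, G⟩ := exists_gen hK x y hxy
  obtain ⟨D, hD⟩ : ∃ D : Divisor k K, D = mapDiv k ![(1 : K), x, y] := ⟨_, rfl⟩
  rw [← hD] at G heq
  rw [G.hdeg] at heq
  intro z hz
  obtain ⟨j, hj⟩ := G.hatt P
  have hle := G.hle
  obtain ⟨φ, hφ⟩ : ∃ φ : Fin 3 → K, φ = ![(1 : K), x, y] := ⟨_, rfl⟩
  rw [← hφ] at hj hle ⊢
  have h0 : φ 0 = 1 := by rw [hφ]; rfl
  have h1 : φ 1 = x := by rw [hφ]; rfl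
  have h2 : φ 2 = y := by rw [hφ]; rfl
  have hj0 : φ j ≠ 0 := by
    intro h
    rw [h, map_zero] at hj
    exact WithZero.exp_ne_zero hj.symm
  obtain ⟨g, hg⟩ : ∃ g : ℕ, g = genus k K := ⟨_, rfl⟩
  obtain ⟨n, hn⟩ : ∃ n : ℕ, n = 2 * g + d + 1 := ⟨_, rfl⟩
  have hd1 := G.hd1
  have hnd : 2 * (genus k K : ℤ) + 1 ≤ n * d := by
    rw [← hg, hn]
    have : (1 : ℤ) ≤ d := by exact_mod_cast hd1
    push_cast
    nlinarith
  have hdn : d ≤ n + 1 := by omega
  obtain ⟨E, hE⟩ : ∃ E : Divisor k K, E = n • D + FunFld.div k (φ j ^ n) := ⟨_, rfl⟩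
  have hjn0 : φ j ^ n ≠ 0 := pow_ne_zero _ hj0
  have hordj : ∀ Q : Place k K, -(D Q) ≤ Q.ord (φ j) := fun Q =>
    (FF.val_le_exp_iff Q hj0 _).mp (hle Q j)
  have hE0 : 0 ≤ E := by
    intro Q
    rw [hE, Finsupp.add_apply, FF.div_apply hK, FF.ord_pow, FF.nsmul_apply', Finsupp.zero_apply]
    have h3 := hordj Q
    have h4 : (0 : ℤ) ≤ n := Nat.cast_nonneg n
    nlinarith
  have hEP : E P = 0 := by
    rw [hE, Finsupp.add_apply, FF.div_apply hK, FF.ord_pow, FF.nsmul_apply',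
      FF.ord_eq_of_val_eq P hj]
    ring
  have hEdeg : E.deg = n * d := by
    rw [hE, FF.deg_add, FF.deg_div hK, add_zero, FF.deg_nsmul, G.hdeg]
  obtain ⟨u, hu, w, hw, hw1, hzw⟩ :=
    FF.inLocRing_of_deg_ge hK P E hE0 hEP (by rw [hEdeg]; exact hnd) z hz
  have hspan := G.span_mono_eq hK heq n (by linarith) hdn
  have key : ∀ m ∈ Submodule.span k (Set.range (mono x' y d n)),
      (φ j ^ n)⁻¹ * m ∈ Algebra.adjoin k (Set.range fun i => φ i / φ j) := by
    intro m hm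
    induction hm using Submodule.span_induction with
    | mem m hm =>
      obtain ⟨i, rfl⟩ := hm
      exact mono_div_mem h0 h1 h2 G.hx' j hj0 n _ _ (idx_le i)
    | zero => rw [mul_zero]; exact Subalgebra.zero_mem _
    | add m₁ m₂ _ _ h₁ h₂ => rw [mul_add]; exact Subalgebra.add_mem _ h₁ h₂
    | smul a m _ hm => rw [mul_smul_comm]; exact Subalgebra.smul_mem _ hm a
  have hsub : Algebra.adjoin k (L E : Set K) ≤
      Algebra.adjoin k (Set.range fun i => φ i / φ j) := by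
    apply Algebra.adjoin_le
    intro f hf
    have hf' : φ j ^ n * f ∈ L (n • D) := by
      rw [FF.mul_mem_L_iff hK _ _ _ hjn0, ← hE]; exact hf
    rw [← hspan] at hf'
    have h3 := key _ hf'
    rwa [inv_mul_cancel_left₀ hjn0] at h3
  exact ⟨j, hj0, fun i => by rw [hj]; exact hle P i, u, hsub hu, w, hsub hw, hw1, hzw⟩

theorem s11059 [IsAlgClosed k] (hK : IsFunctionField k K) (x y : K)
    (hxy : IntermediateField.adjoin k ({x, y} : Set K) = ⊤) :
    2 * (genus k K : ℤ) =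
        ((mapDiv k ![(1 : K), x, y]).deg - 1) * ((mapDiv k ![(1 : K), x, y]).deg - 2) ↔
      ∀ P : Place k K, IsNonsingularAt ![(1 : K), x, y] P := by
  constructor
  · intro h P
    exact nonsingular_of_eq hK x y hxy h P
  · intro h
    exact le_antisymm (two_mul_genus_le hK x y hxy)
      (two_mul_genus_ge_of_nonsingular hK x y hxy h)

theorem s11060 [IsAlgClosed k] (hK : IsFunctionField k K)
    (h : ∃ x y : K, IntermediateField.adjoin k ({x, y} : Set K) = ⊤ ∧
      ∀ P : Place k K, IsNonsingularAt ![(1 : K), x, y] P) :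
    ∃ m : ℕ, 2 * genus k K = m * (m + 1) := by
  obtain ⟨x, y, hxy, hns⟩ := h
  have heq := (s11059 hK x y hxy).mpr hns
  obtain ⟨x', c, d, G⟩ := exists_gen hK x y hxy
  rw [G.hdeg] at heq
  have hd1 := G.hd1
  rcases Nat.lt_or_ge d 2 with hlt | hge
  · have hd : d = 1 := by omega
    subst hd
    refine ⟨0, ?_⟩
    have : 2 * (genus k K : ℤ) = 0 := by rw [heq]; simp
    omega
  · obtain ⟨m, rfl⟩ := Nat.exists_eq_add_of_le hge
    refine ⟨m, ?_⟩
    have h3 : 2 * (genus k K : ℤ) = (m : ℤ) * ((m : ℤ) + 1) := by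
      rw [heq]; push_cast; ring
    exact_mod_cast h3

end Groth.Agent.Helper6.PlaneMain
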