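import Mathlib
import Groth.Agent.Helper6.PlaneMain

set_option autoImplicit false
set_option linter.style.haveILetI false

/-!
# Plane models: the degree of the model is the total degree of its equation
-/

namespace Groth.Agent.Helper6.PlaneDeg

open FunFld
open Groth.Agent.Helper5
open Groth.Agent.Helper6.PlaneGenus Groth.Agent.Helper6.PlaneSetup Groth.Agent.Helper6.PlaneAlg
open scoped IntermediateField
open Polynomial
open scoped Polynomial.Bivariate

universe u v
variable {k : Type u} {K : Type v} [Field k] [Field K] [Algebra k K]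

section

variable {x y x' : K} {c : k} {D : Divisor k K} {d : ℕ}

/-- an element of both chart rings, with the pole bound of `L(nD)` encoded in the second chart,
is a combination of the monomials `x'^a y^b`, `b < d`, `a + b ≤ n`. -/
theorem mem_span_of_charts (hK : IsFunctionField k K) (G : Gen x y x' c D d) (n : ℕ) (z s t : K)
    (hs : s = x'⁻¹) (ht : t = y * x'⁻¹)
    (h1 : z ∈ Algebra.adjoin k ({x', y} : Set K))
    (h2 : z * s ^ n ∈ Algebra.adjoin k ({s, t} : Set K)) :
    z ∈ Submodule.span k (Set.range (mono x' y d n)) := by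
  classical
  have hx'0 := G.x'_ne_zero
  have hpole1 : ∀ P : Place k K, P.1 x' ≤ 1 → P.1 y ≤ 1 := by
    intro P hu
    have := G.hy_le P
    rwa [G.D_eq_zero_of_le P hu, WithZero.exp_zero] at this
  obtain ⟨p, hp⟩ := exists_poly_expansion hK x' y d G.htr hpole1 G.hxy' G.hdK z h1
  have hsval : ∀ P : Place k K, P.1 s ≤ 1 → P.1 x' = WithZero.exp (D P) := by
    intro P h; rw [hs] at h; exact G.val_eq_of_inv_le P h
  have hst : IntermediateField.adjoin k ({s, t} : Set K) = ⊤ := by
    rw [eq_top_iff, ← G.hxy', IntermediateField.adjoin_le_iff]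
    intro w hw
    have hsm : s ∈ IntermediateField.adjoin k ({s, t} : Set K) :=
      IntermediateField.subset_adjoin k _ (by simp)
    have htm : t ∈ IntermediateField.adjoin k ({s, t} : Set K) :=
      IntermediateField.subset_adjoin k _ (by simp)
    rcases hw with hw | hw
    · rw [hw]
      have e : x' = s⁻¹ := by rw [hs, inv_inv]
      rw [e]; exact inv_mem hsm
    · rw [hw]
      have e : y = t * s⁻¹ := by
        rw [ht, hs, inv_inv, mul_assoc, inv_mul_cancel₀ hx'0, mul_one]
      rw [e]; exact mul_mem htm (inv_mem hsm)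
  have htr_s : Transcendental k s := by
    intro h
    apply G.htr
    have := h.inv
    rwa [hs, inv_inv] at this
  have hpole2 : ∀ P : Place k K, P.1 s ≤ 1 → P.1 t ≤ 1 := by
    intro P hu
    have hx'v := hsval P hu
    rw [ht, map_mul, map_inv₀, hx'v]
    calc P.1 y * (WithZero.exp (D P))⁻¹
        ≤ WithZero.exp (D P) * (WithZero.exp (D P))⁻¹ := mul_le_mul' (G.hy_le P) le_rfl
      _ = 1 := mul_inv_cancel₀ WithZero.exp_ne_zero
  have hdK_s : Module.finrank k⟮s⟯ K = d := by
    rw [hs, FF.finrank_congr (FF.adjoin_inv_eq x')]; exact G.hdK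
  obtain ⟨q, hq⟩ := exists_poly_expansion hK s t d htr_s hpole2 hst hdK_s _ h2
  -- compare the two expansions
  have hFx' : x' ∈ k⟮x'⟯ := IntermediateField.mem_adjoin_simple_self k x'
  have hFs : s ∈ k⟮x'⟯ := by rw [hs]; exact inv_mem hFx'
  have haevalF : ∀ w : K, w ∈ k⟮x'⟯ → ∀ r : Polynomial k, Polynomial.aeval w r ∈ k⟮x'⟯ := by
    intro w hw r
    have h1 : Algebra.adjoin k ({w} : Set K) ≤ k⟮x'⟯.toSubalgebra :=
      Algebra.adjoin_le (by simpa using hw)
    exact h1 (Polynomial.aeval_mem_adjoin_singleton k w)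
  have hsum : ∑ b : Fin d, (x' ^ n * Polynomial.aeval s (q b) * s ^ (b : ℕ)) * y ^ (b : ℕ) = z := by
    have e : ∀ b : Fin d, (x' ^ n * Polynomial.aeval s (q b) * s ^ (b : ℕ)) * y ^ (b : ℕ) =
        x' ^ n * (Polynomial.aeval s (q b) * t ^ (b : ℕ)) := by
      intro b; rw [ht, ← hs, mul_pow]; ring
    rw [Finset.sum_congr rfl (fun b _ => e b), ← Finset.mul_sum, ← hq, hs, inv_pow, mul_comm z,
      ← mul_assoc, mul_inv_cancel₀ (pow_ne_zero n hx'0), one_mul]
  have hcmp : ∀ b : Fin d, Polynomial.aeval x' (p b) =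
      x' ^ n * Polynomial.aeval s (q b) * s ^ (b : ℕ) :=
    coeff_unique k⟮x'⟯ (G.li_pow hK)
      (fun b => Polynomial.aeval x' (p b))
      (fun b => x' ^ n * Polynomial.aeval s (q b) * s ^ (b : ℕ))
      (fun b => haevalF x' hFx' (p b))
      (fun b => mul_mem (mul_mem (pow_mem hFx' n) (haevalF s hFs (q b))) (pow_mem hFs _))
      (by
        show ∑ b : Fin d, Polynomial.aeval x' (p b) * y ^ (b : ℕ) =
          ∑ b : Fin d, (x' ^ n * Polynomial.aeval s (q b) * s ^ (b : ℕ)) * y ^ (b : ℕ)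
        rw [← hp, hsum])
  -- degree bound via a pole of `x'`
  obtain ⟨P₀, hP₀⟩ := G.exists_pole
  have hP₀supp : P₀ ∈ D.support := Finsupp.mem_support_iff.mpr (ne_of_gt hP₀)
  have hx'P₀ : P₀.1 x' = WithZero.exp (D P₀) := G.hx'eq P₀ hP₀supp
  have hx'gt : 1 < P₀.1 x' := by
    rw [hx'P₀, ← WithZero.exp_zero, WithZero.exp_lt_exp]; exact hP₀
  have hsP₀ : P₀.1 s = (WithZero.exp (D P₀))⁻¹ := by rw [hs, map_inv₀, hx'P₀]
  have hsle : P₀.1 s ≤ 1 := by
    rw [hsP₀]; exact inv_le_one_of_one_le₀ (by rw [← hx'P₀]; exact hx'gt.le)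
  have hdegb : ∀ b : Fin d, p b ≠ 0 → (p b).natDegree + (b : ℕ) ≤ n := by
    intro b hb0
    have hval : P₀.1 (Polynomial.aeval x' (p b)) =
        P₀.1 (x' ^ n * Polynomial.aeval s (q b) * s ^ (b : ℕ)) := by rw [hcmp b]
    rw [FF.val_aeval_of_pole P₀ hx'gt hb0, map_mul, map_mul, map_pow, map_pow, hx'P₀,
      hsP₀] at hval
    exact pow_bound hP₀ (FF.val_aeval_le P₀ hsle (q b)) hval
  -- conclude
  rw [hp]
  refine Submodule.sum_mem _ fun b _ => ?_
  by_cases hb0 : p b = 0
  · rw [hb0, map_zero, zero_mul]; exact Submodule.zero_mem _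
  · rw [Polynomial.aeval_eq_sum_range, Finset.sum_mul]
    refine Submodule.sum_mem _ fun a ha => ?_
    rw [smul_mul_assoc]
    refine Submodule.smul_mem _ _ (Submodule.subset_span ?_)
    have h3 := Finset.mem_range.mp ha
    have h4 := hdegb b hb0
    exact mono_mem_range x' y b.2 (by omega)

/-- the monic relation of `y` over `k[x']`, of total degree at most `d`. -/
theorem exists_relation (hK : IsFunctionField k K) (G : Gen x y x' c D d) :
    ∃ a : Idx d d → k, y ^ d = ∑ i : Idx d d, a i • mono x' y d d i := by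
  have h1 : y ^ d ∈ Algebra.adjoin k ({x', y} : Set K) :=
    pow_mem (Algebra.subset_adjoin (by simp)) d
  have h2 : y ^ d * (x'⁻¹) ^ d ∈ Algebra.adjoin k ({x'⁻¹, y * x'⁻¹} : Set K) := by
    rw [← mul_pow]
    exact pow_mem (Algebra.subset_adjoin (by simp)) d
  have h3 := mem_span_of_charts hK G d (y ^ d) _ _ rfl rfl h1 h2
  obtain ⟨a, ha⟩ := (Submodule.mem_span_range_iff_exists_fun k).mp h3
  exact ⟨a, ha.symm⟩

end

/-! ### the linear change of coordinates -/

/-- the coordinate change `x = x' + c y` as an isomorphism onto the bivariate polynomial ring. -/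
noncomputable def Φ (c : k) : MvPolynomial (Fin 2) k ≃ₐ[k] k[X][Y] :=
  AlgEquiv.ofAlgHom
    (MvPolynomial.aeval (![C X + C (C c) * Y, Y] : Fin 2 → k[X][Y]))
    (Polynomial.aevalAeval
      (MvPolynomial.X 0 - MvPolynomial.C c * MvPolynomial.X 1 : MvPolynomial (Fin 2) k)
      (MvPolynomial.X 1))
    (by ext <;> simp)
    (by ext i; fin_cases i <;> simp)

theorem Φ_apply (c : k) (H : MvPolynomial (Fin 2) k) :
    Φ c H = MvPolynomial.aeval (![C X + C (C c) * Y, Y] : Fin 2 → k[X][Y]) H := rfl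

theorem Φ_symm_apply (c : k) (P : k[X][Y]) :
    (Φ c).symm P = Polynomial.aevalAeval
      (MvPolynomial.X 0 - MvPolynomial.C c * MvPolynomial.X 1 : MvPolynomial (Fin 2) k)
      (MvPolynomial.X 1) P := rfl

theorem natDegree_Φ_le (c : k) (H : MvPolynomial (Fin 2) k) :
    (Φ c H).natDegree ≤ H.totalDegree := by
  rw [Φ_apply, MvPolynomial.aeval_def, MvPolynomial.eval₂_eq']
  apply Polynomial.natDegree_sum_le_of_forall_le
  intro m hm
  have hm' := MvPolynomial.le_totalDegree hm
  rw [Finsupp.sum_fintype _ _ (fun _ => rfl), Fin.sum_univ_two] at hm'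
  rw [Fin.prod_univ_two]
  have e0 : (![C X + C (C c) * Y, Y] : Fin 2 → k[X][Y]) 0 = C X + C (C c) * Y := rfl
  have e1 : (![C X + C (C c) * Y, Y] : Fin 2 → k[X][Y]) 1 = Y := rfl
  rw [e0, e1]
  have hg0 : (C X + C (C c) * Y : k[X][Y]).natDegree ≤ 1 := by
    refine (natDegree_add_le _ _).trans (max_le ?_ ?_)
    · rw [natDegree_C]; exact Nat.zero_le _
    · exact (natDegree_C_mul_le _ _).trans natDegree_X_le
  have hA : (algebraMap k k[X][Y] (MvPolynomial.coeff m H)).natDegree = 0 := by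
    show (C (C (MvPolynomial.coeff m H)) : k[X][Y]).natDegree = 0
    exact natDegree_C _
  have h1 := natDegree_mul_le (p := algebraMap k k[X][Y] (MvPolynomial.coeff m H))
    (q := (C X + C (C c) * Y : k[X][Y]) ^ m 0 * Y ^ m 1)
  have h2 := natDegree_mul_le (p := (C X + C (C c) * Y : k[X][Y]) ^ m 0)
    (q := (Y : k[X][Y]) ^ m 1)
  have h3 : ((C X + C (C c) * Y : k[X][Y]) ^ m 0).natDegree ≤ m 0 :=
    natDegree_pow_le.trans ((Nat.mul_le_mul_left (m 0) hg0).trans (le_of_eq (mul_one _)))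
  have h4 : ((Y : k[X][Y]) ^ m 1).natDegree ≤ m 1 := natDegree_X_pow_le _
  omega

section

variable {x y x' : K} {c : k} {D : Divisor k K} {d : ℕ}

theorem ev_Φ (G : Gen x y x' c D d) (H : MvPolynomial (Fin 2) k) :
    Polynomial.aevalAeval x' y (Φ c H) = MvPolynomial.aeval ![x, y] H := by
  have e : (fun i => Polynomial.aevalAeval x' y
      ((![C X + C (C c) * Y, Y] : Fin 2 → k[X][Y]) i)) = ![x, y] := by
    funext i
    fin_cases i
    · show Polynomial.aevalAeval x' y (C X + C (C c) * Y) = x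
      rw [map_add, map_mul, Polynomial.aevalAeval_X, Polynomial.aevalAeval_C, Polynomial.aeval_C,
        Polynomial.aevalAeval_Y, G.x_eq]
    · show Polynomial.aevalAeval x' y Y = y
      exact Polynomial.aevalAeval_Y x' y
  rw [Φ_apply, MvPolynomial.comp_aeval_apply, e]

/-- a bivariate polynomial vanishing at `(x', y)` is divisible by the monic relation of degree `d`. -/
theorem dvd_of_ev_eq_zero (hK : IsFunctionField k K) (G : Gen x y x' c D d) {M : k[X][Y]}
    (hM : M.Monic) (hMd : M.natDegree = d) (hM0 : Polynomial.aevalAeval x' y M = 0)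
    (H : k[X][Y]) (hH : Polynomial.aevalAeval x' y H = 0) : M ∣ H := by
  classical
  have hM1 : M ≠ 1 := by
    intro h
    rw [h, natDegree_one] at hMd
    have := G.hd1
    omega
  obtain ⟨R, hR⟩ : ∃ R, R = H %ₘ M := ⟨_, rfl⟩
  have hdiv := Polynomial.modByMonic_add_div H M
  rw [← hR] at hdiv
  have hRdeg : R.natDegree < d := by
    rw [hR, ← hMd]; exact Polynomial.natDegree_modByMonic_lt H hM hM1
  have hRev : Polynomial.aevalAeval x' y R = 0 := by
    have := congrArg (Polynomial.aevalAeval x' y) hdiv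
    rw [map_add, map_mul, hM0, zero_mul, add_zero, hH] at this
    exact this
  have haevalF : ∀ r : Polynomial k, Polynomial.aeval x' r ∈ k⟮x'⟯ := by
    intro r
    have h1 : Algebra.adjoin k ({x'} : Set K) ≤ k⟮x'⟯.toSubalgebra :=
      Algebra.adjoin_le (by simpa using IntermediateField.mem_adjoin_simple_self k x')
    exact h1 (Polynomial.aeval_mem_adjoin_singleton k x')
  have hR0 : R = 0 := by
    have hsum : R = ∑ b ∈ Finset.range d, C (R.coeff b) * Y ^ b := by
      conv_lhs => rw [Polynomial.as_sum_range' R d hRdeg]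
      exact Finset.sum_congr rfl (fun b _ => (Polynomial.C_mul_X_pow_eq_monomial).symm)
    have hev : ∑ b : Fin d, Polynomial.aeval x' (R.coeff (b : ℕ)) * y ^ (b : ℕ) = 0 := by
      rw [Fin.sum_univ_eq_sum_range (fun b => Polynomial.aeval x' (R.coeff b) * y ^ b) d, ← hRev]
      conv_rhs => rw [hsum]
      rw [map_sum]
      apply Finset.sum_congr rfl
      intro b _
      rw [map_mul, map_pow, Polynomial.aevalAeval_C, Polynomial.aevalAeval_Y]
    have hcoef := coeff_unique k⟮x'⟯ (G.li_pow hK)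
      (fun b => Polynomial.aeval x' (R.coeff (b : ℕ))) (fun _ => 0)
      (fun b => haevalF _) (fun _ => zero_mem _)
      (by
        show ∑ b : Fin d, Polynomial.aeval x' (R.coeff (b : ℕ)) * y ^ (b : ℕ) =
          ∑ b : Fin d, (0 : K) * y ^ (b : ℕ)
        rw [hev]; simp)
    apply Polynomial.ext
    intro b
    rw [Polynomial.coeff_zero]
    by_cases hb : b < d
    · have h := hcoef ⟨b, hb⟩
      exact transcendental_iff.mp G.htr _ h
    · exact Polynomial.coeff_eq_zero_of_natDegree_lt (by omega)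
  rw [← hdiv, hR0, zero_add]
  exact dvd_mul_right _ _

end

theorem deg_eq_totalDegree [IsAlgClosed k] (hK : IsFunctionField k K) (x y : K)
    (hxy : IntermediateField.adjoin k ({x, y} : Set K) = ⊤) (f : MvPolynomial (Fin 2) k)
    (hf : Irreducible f) (hfxy : MvPolynomial.aeval ![x, y] f = 0) :
    (mapDiv k ![(1 : K), x, y]).deg = f.totalDegree := by
  classical
  obtain ⟨x', c, d, G⟩ := exists_gen hK x y hxy
  rw [G.hdeg]
  obtain ⟨a, ha⟩ := exists_relation hK G
  obtain ⟨T, hT⟩ : ∃ T : k[X][Y],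
      T = ∑ i : Idx d d, C (C (a i) * X ^ (i.2 : ℕ)) * Y ^ (i.1 : ℕ) := ⟨_, rfl⟩
  have hTdeg : T.degree < (d : WithBot ℕ) := by
    rw [hT]
    refine lt_of_le_of_lt (Polynomial.degree_sum_le _ _) ?_
    refine (Finset.sup_lt_iff (WithBot.bot_lt_coe d)).mpr ?_
    intro i _
    exact lt_of_le_of_lt (Polynomial.degree_C_mul_X_pow_le _ _) (Nat.cast_lt.mpr i.1.2)
  obtain ⟨M, hM⟩ : ∃ M : k[X][Y], M = Y ^ d - T := ⟨_, rfl⟩
  have hMmonic : M.Monic := by rw [hM]; exact Polynomial.monic_X_pow_sub hTdeg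
  have hMdeg : M.degree = (d : WithBot ℕ) := by
    rw [hM, degree_sub_eq_left_of_degree_lt (by rw [degree_X_pow]; exact hTdeg), degree_X_pow]
  have hMnat : M.natDegree = d := natDegree_eq_of_degree_eq_some hMdeg
  have hevT : Polynomial.aevalAeval x' y T = y ^ d := by
    rw [hT, map_sum, ha]
    apply Finset.sum_congr rfl
    intro i _
    rw [map_mul, map_pow, Polynomial.aevalAeval_C, Polynomial.aevalAeval_Y, map_mul, map_pow,
      Polynomial.aeval_C, Polynomial.aeval_X, Algebra.smul_def]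
    show _ = algebraMap k K (a i) * (x' ^ (i.2 : ℕ) * y ^ (i.1 : ℕ))
    rw [mul_assoc]
  have hevM : Polynomial.aevalAeval x' y M = 0 := by
    rw [hM, map_sub, map_pow, Polynomial.aevalAeval_Y, hevT, sub_self]
  have hΦf : Polynomial.aevalAeval x' y (Φ c f) = 0 := by rw [ev_Φ G, hfxy]
  have hdvd : M ∣ Φ c f := dvd_of_ev_eq_zero hK G hMmonic hMnat hevM _ hΦf
  have hΦf0 : Φ c f ≠ 0 := (EmbeddingLike.map_ne_zero_iff).mpr hf.ne_zero
  have hge : d ≤ f.totalDegree := by
    calc d = M.natDegree := hMnat.symm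
      _ ≤ (Φ c f).natDegree := Polynomial.natDegree_le_of_dvd hdvd hΦf0
      _ ≤ f.totalDegree := natDegree_Φ_le c f
  have hirr : Irreducible (Φ c f) := (MulEquiv.irreducible_iff (Φ c)).mpr hf
  obtain ⟨Q, hQ⟩ := hdvd
  have hMnu : ¬ IsUnit M := by
    intro h
    have h1 := Polynomial.natDegree_eq_zero_of_isUnit h
    rw [hMnat] at h1
    have := G.hd1
    omega
  have hQu : IsUnit Q := (hirr.isUnit_or_isUnit hQ).resolve_left hMnu
  have hdvd' : Φ c f ∣ M := by
    rw [hQ]; exact hQu.mul_right_dvd.mpr dvd_rfl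
  have hdvd'' : f ∣ (Φ c).symm M := by
    have := map_dvd (Φ c).symm hdvd'
    rwa [AlgEquiv.symm_apply_apply] at this
  have hM0 : (Φ c).symm M ≠ 0 := (EmbeddingLike.map_ne_zero_iff).mpr hMmonic.ne_zero
  have hle1 : f.totalDegree ≤ ((Φ c).symm M).totalDegree :=
    MvPolynomial.totalDegree_le_of_dvd_of_isDomain hdvd'' hM0
  have hℓ : (MvPolynomial.X 0 - MvPolynomial.C c * MvPolynomial.X 1 :
      MvPolynomial (Fin 2) k).totalDegree ≤ 1 := by
    refine (MvPolynomial.totalDegree_sub _ _).trans (max_le ?_ ?_)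
    · rw [MvPolynomial.totalDegree_X]
    · refine (MvPolynomial.totalDegree_mul _ _).trans ?_
      rw [MvPolynomial.totalDegree_C, MvPolynomial.totalDegree_X]
  have hle2 : ((Φ c).symm M).totalDegree ≤ d := by
    rw [hM, map_sub, map_pow, hT, map_sum]
    refine (MvPolynomial.totalDegree_sub _ _).trans (max_le ?_ ?_)
    · rw [Φ_symm_apply, Polynomial.aevalAeval_Y]
      exact (MvPolynomial.totalDegree_pow _ _).trans
        (by rw [MvPolynomial.totalDegree_X, mul_one])
    · apply MvPolynomial.totalDegree_finsetSum_le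
      intro i _
      rw [Φ_symm_apply, map_mul, map_pow, Polynomial.aevalAeval_C, Polynomial.aevalAeval_Y,
        map_mul, map_pow, Polynomial.aeval_C, Polynomial.aeval_X, MvPolynomial.algebraMap_eq]
      have h1 := MvPolynomial.totalDegree_mul
        (MvPolynomial.C (a i) * (MvPolynomial.X 0 - MvPolynomial.C c * MvPolynomial.X 1 :
          MvPolynomial (Fin 2) k) ^ (i.2 : ℕ)) ((MvPolynomial.X 1) ^ (i.1 : ℕ))
      have h2 := MvPolynomial.totalDegree_mul (MvPolynomial.C (a i))
        ((MvPolynomial.X 0 - MvPolynomial.C c * MvPolynomial.X 1 :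
          MvPolynomial (Fin 2) k) ^ (i.2 : ℕ))
      have h3 := MvPolynomial.totalDegree_pow
        (MvPolynomial.X 0 - MvPolynomial.C c * MvPolynomial.X 1 : MvPolynomial (Fin 2) k)
        (i.2 : ℕ)
      have h4 : ((MvPolynomial.X 1 : MvPolynomial (Fin 2) k) ^ (i.1 : ℕ)).totalDegree
          = (i.1 : ℕ) := MvPolynomial.totalDegree_X_pow _ _
      have h5 : (MvPolynomial.C (a i) : MvPolynomial (Fin 2) k).totalDegree = 0 :=
        MvPolynomial.totalDegree_C _
      have h6 : (i.2 : ℕ) * (MvPolynomial.X 0 - MvPolynomial.C c * MvPolynomial.X 1 :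
          MvPolynomial (Fin 2) k).totalDegree ≤ (i.2 : ℕ) :=
        (Nat.mul_le_mul_left _ hℓ).trans (le_of_eq (mul_one _))
      have h7 := idx_le i
      omega
  have hfin : f.totalDegree = d := le_antisymm (hle1.trans hle2) hge
  exact_mod_cast hfin.symm

end Groth.Agent.Helper6.PlaneDeg
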