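import Mathlib
import Groth.Agent.Helper6.PlaneDeg
import Groth.Agent.Helper6.CoordChange

set_option autoImplicit false
set_option linter.style.haveILetI false
set_option linter.unusedSectionVars false

/-!
# Plane models: generic coordinates avoiding a finite set, the monic model and its derivative
-/

namespace Groth.Agent.Helper6.AdjGen

open FunFld
open Groth.Agent.Helper5
open Groth.Agent.Helper6.PlaneGenus Groth.Agent.Helper6.PlaneSetup Groth.Agent.Helper6.PlaneAlg
open Groth.Agent.Helper6.PlaneDeg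
open scoped IntermediateField
open Polynomial
open scoped Polynomial.Bivariate

universe u v
variable {k : Type u} {K : Type v} [Field k] [Field K] [Algebra k K]

theorem exists_gen_avoid [IsAlgClosed k] (hK : IsFunctionField k K) (x y : K)
    (hxy : IntermediateField.adjoin k ({x, y} : Set K) = ⊤) (S : Set k) (hS : S.Finite) :
    ∃ (x' : K) (c : k) (d : ℕ), c ∉ S ∧ Gen x y x' c (mapDiv k ![(1 : K), x, y]) d := by
  classical
  obtain ⟨D, hD⟩ : ∃ D : Divisor k K, D = mapDiv k ![(1 : K), x, y] := ⟨_, rfl⟩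
  rw [← hD]
  have hle : ∀ (P : Place k K) (i : Fin 3), P.1 (![(1 : K), x, y] i) ≤ WithZero.exp (D P) := by
    intro P i; rw [hD]; exact val_le_exp_mapDiv hK _ P i
  have hx_le : ∀ P : Place k K, P.1 x ≤ WithZero.exp (D P) := fun P => hle P 1
  have hy_le : ∀ P : Place k K, P.1 y ≤ WithZero.exp (D P) := fun P => hle P 2
  have h1_le : ∀ P : Place k K, (1 : WithZero (Multiplicative ℤ)) ≤ WithZero.exp (D P) := by
    intro P
    have h := hle P 0
    have e : ![(1 : K), x, y] 0 = 1 := rfl
    rwa [e, map_one] at h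
  have hD0 : ∀ P, 0 ≤ D P := fun P => by
    have := h1_le P
    rwa [← WithZero.exp_zero, WithZero.exp_le_exp] at this
  have hatt : ∀ P : Place k K, ∃ i, P.1 (![(1 : K), x, y] i) = WithZero.exp (D P) := by
    intro P; rw [hD]; exact exists_val_eq_exp_mapDiv hK _ 0 rfl P
  have hbad : ∀ P ∈ D.support,
      {c : k | P.1 (x - algebraMap k K c * y) < WithZero.exp (D P)}.Subsingleton := by
    intro P hP c₁ hc₁ c₂ hc₂
    by_contra hne
    rw [Set.mem_setOf_eq] at hc₁ hc₂
    have hm : 0 < D P := lt_of_le_of_ne (hD0 P) (Ne.symm (Finsupp.mem_support_iff.mp hP))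
    have h1lt : (1 : WithZero (Multiplicative ℤ)) < WithZero.exp (D P) := by
      rw [← WithZero.exp_zero, WithZero.exp_lt_exp]; exact hm
    have hcy : P.1 (algebraMap k K (c₁ - c₂) * y) < WithZero.exp (D P) := by
      have e : algebraMap k K (c₁ - c₂) * y =
          (x - algebraMap k K c₂ * y) - (x - algebraMap k K c₁ * y) := by
        rw [map_sub]; ring
      rw [e]
      exact lt_of_le_of_lt (Valuation.map_sub _ _ _) (max_lt hc₂ hc₁)
    have hc0 : c₁ - c₂ ≠ 0 := sub_ne_zero.mpr hne
    have hylt : P.1 y < WithZero.exp (D P) := by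
      rwa [map_mul, FF.val_algebraMap P hc0, one_mul] at hcy
    have hxlt : P.1 x < WithZero.exp (D P) := by
      have e : x = (x - algebraMap k K c₁ * y) + algebraMap k K c₁ * y := by ring
      rw [e]
      refine lt_of_le_of_lt (Valuation.map_add _ _ _) (max_lt hc₁ ?_)
      rw [map_mul]
      calc P.1 (algebraMap k K c₁) * P.1 y ≤ 1 * P.1 y := mul_le_mul' (P.2.1 _) le_rfl
        _ = P.1 y := one_mul _
        _ < _ := hylt
    obtain ⟨i, hi⟩ := hatt P
    have : P.1 (![(1 : K), x, y] i) < WithZero.exp (D P) := by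
      fin_cases i
      · show P.1 (1 : K) < _
        rw [map_one]; exact h1lt
      · exact hxlt
      · exact hylt
    exact absurd hi (ne_of_lt this)
  have hfin : (⋃ P ∈ (↑D.support : Set (Place k K)),
      {c : k | P.1 (x - algebraMap k K c * y) < WithZero.exp (D P)}).Finite :=
    Set.Finite.biUnion D.support.finite_toSet
      (fun P hP => (hbad P (Finset.mem_coe.mp hP)).finite)
  obtain ⟨c, hc0⟩ := (hfin.union hS).infinite_compl.nonempty
  have hc : c ∉ (⋃ P ∈ (↑D.support : Set (Place k K)),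
      {c : k | P.1 (x - algebraMap k K c * y) < WithZero.exp (D P)}) := fun h => hc0 (Or.inl h)
  have hcS : c ∉ S := fun h => hc0 (Or.inr h)
  have hc' : ∀ P ∈ D.support, ¬ P.1 (x - algebraMap k K c * y) < WithZero.exp (D P) := by
    intro P hP hlt
    apply hc
    rw [Set.mem_iUnion₂]
    exact ⟨P, Finset.mem_coe.mpr hP, hlt⟩
  obtain ⟨x', hx'⟩ : ∃ x' : K, x' = x - algebraMap k K c * y := ⟨_, rfl⟩
  have hcy_le : ∀ P : Place k K, P.1 (algebraMap k K c * y) ≤ WithZero.exp (D P) := by
    intro P
    rw [map_mul]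
    calc P.1 (algebraMap k K c) * P.1 y ≤ 1 * P.1 y := mul_le_mul' (P.2.1 _) le_rfl
      _ = P.1 y := one_mul _
      _ ≤ _ := hy_le P
  have hx'le : ∀ P : Place k K, P.1 x' ≤ WithZero.exp (D P) := by
    intro P; rw [hx']
    exact (Valuation.map_sub _ _ _).trans (max_le (hx_le P) (hcy_le P))
  have hx'eq : ∀ P ∈ D.support, P.1 x' = WithZero.exp (D P) := fun P hP =>
    le_antisymm (hx'le P) (not_lt.mp (by rw [hx']; exact hc' P hP))
  have hKne : ∃ z : K, z ∉ Set.range (algebraMap k K) := by
    obtain ⟨z, hz, -⟩ := hK.1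
    refine ⟨z, ?_⟩
    rintro ⟨a, rfl⟩
    exact hz (isAlgebraic_algebraMap a)
  have htr : Transcendental k x' := by
    apply FF.transcendental_of_not_mem_range hK
    rintro ⟨a, ha⟩
    have hsupp : D.support = ∅ := by
      by_contra hne
      obtain ⟨P, hP⟩ := Finset.nonempty_iff_ne_empty.mpr hne
      have h1 := hx'eq P hP
      rw [← ha] at h1
      have h2 := P.2.1 a
      have hm : 0 < D P := lt_of_le_of_ne (hD0 P) (Ne.symm (Finsupp.mem_support_iff.mp hP))
      rw [h1, ← WithZero.exp_zero, WithZero.exp_le_exp] at h2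
      omega
    have hD0' : ∀ P, D P = 0 := fun P =>
      Finsupp.notMem_support_iff.mp (by rw [hsupp]; exact Finset.notMem_empty P)
    have hxk : x ∈ Set.range (algebraMap k K) :=
      FF.mem_range_of_forall_val_le_one hK (fun P => by
        have := hx_le P; rwa [hD0' P, WithZero.exp_zero] at this)
    have hyk : y ∈ Set.range (algebraMap k K) :=
      FF.mem_range_of_forall_val_le_one hK (fun P => by
        have := hy_le P; rwa [hD0' P, WithZero.exp_zero] at this)
    obtain ⟨z, hz⟩ := hKne
    have hzmem : z ∈ IntermediateField.adjoin k ({x, y} : Set K) := by rw [hxy]; trivial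
    have hbot : IntermediateField.adjoin k ({x, y} : Set K) ≤ ⊥ := by
      rw [IntermediateField.adjoin_le_iff]
      intro w hw
      rcases hw with hw | hw
      · rw [hw]; exact IntermediateField.mem_bot.mpr hxk
      · rw [hw]; exact IntermediateField.mem_bot.mpr hyk
    exact hz (IntermediateField.mem_bot.mp (hbot hzmem))
  have hx'0 : x' ≠ 0 := by
    intro h
    exact htr (h ▸ isAlgebraic_zero)
  have hpole : (-(FunFld.div k x')) ⊔ 0 = D := by
    ext P
    rw [Finsupp.sup_apply, Finsupp.neg_apply, Finsupp.zero_apply, FF.div_apply hK]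
    by_cases hP : P ∈ D.support
    · have h2 := FF.ord_eq_of_val_eq P (hx'eq P hP)
      rw [h2, neg_neg]
      exact sup_eq_left.mpr (hD0 P)
    · have hDP : D P = 0 := Finsupp.notMem_support_iff.mp hP
      have h1 := hx'le P
      rw [hDP, WithZero.exp_zero] at h1
      have h2 := (FF.ord_nonneg_iff P hx'0).mpr h1
      rw [hDP]
      exact sup_eq_right.mpr (by omega)
  have hdeg : D.deg = Module.finrank k⟮x'⟯ K := by
    rw [← hpole]; exact FF.deg_poles_eq hK htr
  haveI : FiniteDimensional k⟮x'⟯ K := FF.finiteDimensional_adjoin hK htr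
  have hgen : IntermediateField.adjoin k⟮x'⟯ ({y} : Set K) = ⊤ := by
    rw [eq_top_iff]
    intro z _
    have hyE : y ∈ IntermediateField.adjoin k⟮x'⟯ ({y} : Set K) :=
      IntermediateField.mem_adjoin_simple_self _ y
    have hx'E : x' ∈ IntermediateField.adjoin k⟮x'⟯ ({y} : Set K) := by
      have e : x' = algebraMap k⟮x'⟯ K (IntermediateField.AdjoinSimple.gen k x') :=
        (IntermediateField.AdjoinSimple.algebraMap_gen k x').symm
      rw [e]
      exact IntermediateField.algebraMap_mem _ _
    have hcE : algebraMap k K c ∈ IntermediateField.adjoin k⟮x'⟯ ({y} : Set K) := by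
      rw [IsScalarTower.algebraMap_apply k k⟮x'⟯ K]
      exact IntermediateField.algebraMap_mem _ _
    have hle' : IntermediateField.adjoin k ({x, y} : Set K) ≤
        (IntermediateField.adjoin k⟮x'⟯ ({y} : Set K)).restrictScalars k := by
      rw [IntermediateField.adjoin_le_iff]
      intro w hw
      show w ∈ IntermediateField.adjoin k⟮x'⟯ ({y} : Set K)
      rcases hw with hw | hw
      · rw [hw]
        have e : x = x' + algebraMap k K c * y := by rw [hx']; ring
        rw [e]
        exact add_mem hx'E (mul_mem hcE hyE)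
      · rw [hw]; exact hyE
    have hz : z ∈ IntermediateField.adjoin k ({x, y} : Set K) := by rw [hxy]; trivial
    exact hle' hz
  have hxy' : IntermediateField.adjoin k ({x', y} : Set K) = ⊤ := by
    rw [eq_top_iff, ← hxy, IntermediateField.adjoin_le_iff]
    intro w hw
    have hx'm : x' ∈ IntermediateField.adjoin k ({x', y} : Set K) :=
      IntermediateField.subset_adjoin k _ (by simp)
    have hym : y ∈ IntermediateField.adjoin k ({x', y} : Set K) :=
      IntermediateField.subset_adjoin k _ (by simp)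
    rcases hw with hw | hw
    · rw [hw]
      have e : x = x' + algebraMap k K c * y := by rw [hx']; ring
      rw [e]
      exact add_mem hx'm (mul_mem (IntermediateField.algebraMap_mem _ c) hym)
    · rw [hw]; exact hym
  have hd1 : 1 ≤ Module.finrank k⟮x'⟯ K := Module.finrank_pos
  exact ⟨x', c, Module.finrank k⟮x'⟯ K, hcS,
    { hx' := hx', hx_le := hx_le, hy_le := hy_le, hD0 := hD0, hatt := hatt, hle := hle,
      hx'le := hx'le, hx'eq := hx'eq, htr := htr, hdeg := hdeg, hdK := rfl, hgen := hgen,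
      hxy' := hxy', hd1 := hd1 }⟩


section

variable {x y x' : K} {c : k} {D : Divisor k K} {d : ℕ}

/-- the chain rule for the linear change of coordinates `x = x' + c y`. -/
theorem chain_Φ (G : Gen x y x' c D d) (H : MvPolynomial (Fin 2) k) :
    Polynomial.aevalAeval x' y (derivative (Φ c H)) =
      algebraMap k K c * MvPolynomial.aeval ![x, y] (MvPolynomial.pderiv 0 H) +
        MvPolynomial.aeval ![x, y] (MvPolynomial.pderiv 1 H) := by
  have v0 : (![x, y] : Fin 2 → K) 0 = x := rfl
  have v1 : (![x, y] : Fin 2 → K) 1 = y := rfl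
  induction H using MvPolynomial.induction_on with
  | C a =>
    have e : Φ c (MvPolynomial.C a) = C (C a) := by
      rw [Φ_apply, MvPolynomial.aeval_C]; rfl
    rw [e, derivative_C, map_zero, MvPolynomial.pderiv_C, MvPolynomial.pderiv_C, map_zero,
      mul_zero, add_zero]
  | add p q hp hq =>
    simp only [map_add, hp, hq]
    ring
  | mul_X p i hp =>
    have hi : i = 0 ∨ i = 1 := by fin_cases i <;> simp
    have hL : Polynomial.aevalAeval x' y (derivative (Φ c (p * MvPolynomial.X i))) =
        (algebraMap k K c * MvPolynomial.aeval ![x, y] (MvPolynomial.pderiv 0 p) +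
          MvPolynomial.aeval ![x, y] (MvPolynomial.pderiv 1 p)) * ![x, y] i +
        MvPolynomial.aeval ![x, y] p *
          Polynomial.aevalAeval x' y (derivative (Φ c (MvPolynomial.X i))) := by
      rw [map_mul, derivative_mul, map_add, map_mul, map_mul, hp, ev_Φ G, ev_Φ G,
        MvPolynomial.aeval_X]
    rw [hL]
    rcases hi with rfl | rfl
    · have e1 : Φ c (MvPolynomial.X 0) = C X + C (C c) * Y := by
        rw [Φ_apply, MvPolynomial.aeval_X]; rfl
      have e2 : Polynomial.aevalAeval x' y (derivative (Φ c (MvPolynomial.X 0))) =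
          algebraMap k K c := by
        rw [e1, derivative_add, derivative_C, zero_add, derivative_C_mul, derivative_X, mul_one,
          Polynomial.aevalAeval_C, Polynomial.aeval_C]
      rw [e2]
      simp only [MvPolynomial.pderiv_mul, MvPolynomial.pderiv_X_self,
        MvPolynomial.pderiv_X_of_ne (show (0 : Fin 2) ≠ 1 by decide), map_add, map_mul, map_one,
        map_zero, MvPolynomial.aeval_X, mul_one, mul_zero, add_zero, v0]
      ring
    · have e1 : Φ c (MvPolynomial.X 1) = Y := by
        rw [Φ_apply, MvPolynomial.aeval_X]; rfl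
      have e2 : Polynomial.aevalAeval x' y (derivative (Φ c (MvPolynomial.X 1))) = 1 := by
        rw [e1, derivative_X, map_one]
      rw [e2]
      simp only [MvPolynomial.pderiv_mul, MvPolynomial.pderiv_X_self,
        MvPolynomial.pderiv_X_of_ne (show (1 : Fin 2) ≠ 0 by decide), map_add, map_mul, map_one,
        map_zero, MvPolynomial.aeval_X, mul_one, mul_zero, add_zero, v1]
      ring

/-- the monic model `M` of degree `d` in `Y` over `k[X]`, with `Φ c f = r M`. -/
theorem exists_model (hK : IsFunctionField k K) (G : Gen x y x' c D d)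
    (f : MvPolynomial (Fin 2) k) (hf : Irreducible f)
    (hfxy : MvPolynomial.aeval ![x, y] f = 0) :
    ∃ (M : k[X][Y]) (r : k), M.Monic ∧ M.natDegree = d ∧ Polynomial.aevalAeval x' y M = 0 ∧
      (∀ j, (M.coeff j).natDegree ≤ d - j) ∧ r ≠ 0 ∧ Φ c f = M * C (C r) := by
  classical
  obtain ⟨a, ha⟩ := exists_relation hK G
  obtain ⟨T, hT⟩ : ∃ T : k[X][Y],
      T = ∑ i : Idx d d, C (C (a i) * X ^ (i.2 : ℕ)) * Y ^ (i.1 : ℕ) := ⟨_, rfl⟩
  have hTdeg : T.degree < (d : WithBot ℕ) := by
    rw [hT]
    refine lt_of_le_of_lt (Polynomial.degree_sum_le _ _) ?_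
    refine (Finset.sup_lt_iff (WithBot.bot_lt_coe d)).mpr ?_
    intro i _
    exact lt_of_le_of_lt (Polynomial.degree_C_mul_X_pow_le _ _) (Nat.cast_lt.mpr i.1.2)
  obtain ⟨M, hM⟩ : ∃ M : k[X][Y], M = Y ^ d - T := ⟨_, rfl⟩
  have hMmonic : M.Monic := by rw [hM]; exact Polynomial.monic_X_pow_sub hTdeg
  have hMdeg : M.degree = (d : WithBot ℕ) := by
    rw [hM, degree_sub_eq_left_of_degree_lt (by rw [degree_X_pow]; exact hTdeg), degree_X_pow]
  have hMnat : M.natDegree = d := natDegree_eq_of_degree_eq_some hMdeg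
  have hevT : Polynomial.aevalAeval x' y T = y ^ d := by
    rw [hT, map_sum, ha]
    apply Finset.sum_congr rfl
    intro i _
    rw [map_mul, map_pow, Polynomial.aevalAeval_C, Polynomial.aevalAeval_Y, map_mul, map_pow,
      Polynomial.aeval_C, Polynomial.aeval_X, Algebra.smul_def]
    show _ = algebraMap k K (a i) * (x' ^ (i.2 : ℕ) * y ^ (i.1 : ℕ))
    rw [mul_assoc]
  have hevM : Polynomial.aevalAeval x' y M = 0 := by
    rw [hM, map_sub, map_pow, Polynomial.aevalAeval_Y, hevT, sub_self]
  have hΦf : Polynomial.aevalAeval x' y (Φ c f) = 0 := by rw [ev_Φ G, hfxy]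
  have hdvd : M ∣ Φ c f := dvd_of_ev_eq_zero hK G hMmonic hMnat hevM _ hΦf
  have hirr : Irreducible (Φ c f) := (MulEquiv.irreducible_iff (Φ c)).mpr hf
  obtain ⟨Q, hQ⟩ := hdvd
  have hMnu : ¬ IsUnit M := by
    intro h
    have h1 := Polynomial.natDegree_eq_zero_of_isUnit h
    rw [hMnat] at h1
    have := G.hd1
    omega
  have hQu : IsUnit Q := (hirr.isUnit_or_isUnit hQ).resolve_left hMnu
  obtain ⟨q', hq'u, hq'⟩ := Polynomial.isUnit_iff.mp hQu
  obtain ⟨r, hru, hr⟩ := Polynomial.isUnit_iff.mp hq'u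
  refine ⟨M, r, hMmonic, hMnat, hevM, ?_, hru.ne_zero, by rw [hQ, ← hq', ← hr]⟩
  intro j
  rw [hM, coeff_sub, hT, finset_sum_coeff]
  refine (natDegree_sub_le _ _).trans (max_le ?_ ?_)
  · rw [coeff_X_pow]
    split_ifs
    · rw [natDegree_one]; exact Nat.zero_le _
    · rw [natDegree_zero]; exact Nat.zero_le _
  · apply natDegree_sum_le_of_forall_le
    intro i _
    rw [coeff_C_mul_X_pow]
    split_ifs with h
    · refine (natDegree_C_mul_X_pow_le _ _).trans ?_
      have := idx_le i
      omega
    · rw [natDegree_zero]; exact Nat.zero_le _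

end

/-- evaluating the image in `K₀[Y]` of a bivariate polynomial. -/
theorem aeval_map_eq (K₀ : IntermediateField k K) (ξ : K₀) (y : K) (N : k[X][Y]) :
    aeval y (N.map ((aeval ξ : k[X] →ₐ[k] K₀) : k[X] →+* K₀)) =
      Polynomial.aevalAeval (ξ : K) y N := by
  induction N using Polynomial.induction_on' with
  | add p q hp hq => rw [Polynomial.map_add, map_add, map_add, hp, hq]
  | monomial n a =>
    rw [Polynomial.map_monomial, aeval_monomial, ← C_mul_X_pow_eq_monomial, map_mul, map_pow,
      Polynomial.aevalAeval_C, Polynomial.aevalAeval_Y]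
    congr 1
    exact (Polynomial.aeval_algebraMap_apply K ξ a).symm

/-- every element of `k(x')` is a quotient of polynomials in the generator. -/
theorem hrat_gen (x' : K) (r : k⟮x'⟯) :
    ∃ p₁ p₂ : k[X], aeval (IntermediateField.AdjoinSimple.gen k x') p₂ ≠ 0 ∧
      r = aeval (IntermediateField.AdjoinSimple.gen k x') p₁ /
        aeval (IntermediateField.AdjoinSimple.gen k x') p₂ := by
  obtain ⟨p₁, p₂, h⟩ := (IntermediateField.mem_adjoin_simple_iff k (r : K)).mp r.2
  have hcoe : ∀ p : k[X],
      ((aeval (IntermediateField.AdjoinSimple.gen k x') p : k⟮x'⟯) : K) = aeval x' p := by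
    intro p
    have := Polynomial.aeval_algebraMap_apply K (IntermediateField.AdjoinSimple.gen k x') p
    rw [IntermediateField.AdjoinSimple.algebraMap_gen] at this
    exact this.symm
  by_cases h2 : aeval x' p₂ = 0
  · refine ⟨0, 1, by rw [map_one]; exact one_ne_zero, ?_⟩
    rw [map_zero, zero_div]
    apply Subtype.ext
    rw [h, h2, div_zero]; rfl
  · refine ⟨p₁, p₂, ?_, ?_⟩
    · intro h0; apply h2; rw [← hcoe, h0]; rfl
    · apply Subtype.ext
      rw [h, IntermediateField.coe_div, hcoe, hcoe]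

section rev

variable {K₀ : Type v} [Field K₀] [Algebra k K₀]

theorem exists_rev (ξ : K₀) (hξ : ξ ≠ 0) (p : k[X]) (n : ℕ) (hn : p.natDegree ≤ n) :
    ∃ q : k[X], aeval ξ⁻¹ q = aeval ξ p * ξ⁻¹ ^ n := by
  letI : Invertible ξ := invertibleOfNonzero hξ
  have h := Polynomial.eval₂_reverse_mul_pow (algebraMap k K₀) ξ p
  rw [invOf_eq_inv] at h
  refine ⟨p.reverse * X ^ (n - p.natDegree), ?_⟩
  obtain ⟨m, rfl⟩ := Nat.exists_eq_add_of_le hn
  have h1 : ξ ^ p.natDegree * ξ⁻¹ ^ p.natDegree = 1 := by
    rw [← mul_pow, mul_inv_cancel₀ hξ, one_pow]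
  rw [map_mul, map_pow, aeval_X, Nat.add_sub_cancel_left, aeval_def, aeval_def, ← h, pow_add,
    mul_assoc, ← mul_assoc (ξ ^ p.natDegree), h1, one_mul]

theorem hrat_inv (ξ : K₀) (hξ : ξ ≠ 0)
    (hrat : ∀ r : K₀, ∃ p₁ p₂ : k[X], aeval ξ p₂ ≠ 0 ∧ r = aeval ξ p₁ / aeval ξ p₂) (r : K₀) :
    ∃ p₁ p₂ : k[X], aeval ξ⁻¹ p₂ ≠ 0 ∧ r = aeval ξ⁻¹ p₁ / aeval ξ⁻¹ p₂ := by
  obtain ⟨p₁, p₂, h2, rfl⟩ := hrat r
  obtain ⟨n, hn⟩ : ∃ n, n = max p₁.natDegree p₂.natDegree := ⟨_, rfl⟩
  obtain ⟨q₁, hq₁⟩ := exists_rev ξ hξ p₁ n (by rw [hn]; exact le_max_left _ _)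
  obtain ⟨q₂, hq₂⟩ := exists_rev ξ hξ p₂ n (by rw [hn]; exact le_max_right _ _)
  have hz : ξ⁻¹ ^ n ≠ 0 := pow_ne_zero _ (inv_ne_zero hξ)
  refine ⟨q₁, q₂, by rw [hq₂]; exact mul_ne_zero h2 hz, ?_⟩
  rw [hq₁, hq₂, mul_div_mul_right _ _ hz]

end rev

theorem aeval_derivative_scaleRoots {R A : Type*} [CommRing R] [CommRing A] [Algebra R A]
    (p : R[X]) (r : R) (a : A) :
    aeval (algebraMap R A r * a) (derivative (scaleRoots p r)) =
      algebraMap R A r ^ (p.natDegree - 1) * aeval a (derivative p) := by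
  have h1 : (derivative (scaleRoots p r)).natDegree < p.natDegree + 1 := by
    have := natDegree_derivative_le (scaleRoots p r)
    rw [natDegree_scaleRoots] at this
    omega
  have h2 : (derivative p).natDegree < p.natDegree + 1 := by
    have := natDegree_derivative_le p
    omega
  rw [aeval_eq_sum_range' h1, aeval_eq_sum_range' h2, Finset.mul_sum]
  apply Finset.sum_congr rfl
  intro i _
  rw [coeff_derivative, coeff_derivative, coeff_scaleRoots, Algebra.smul_def, Algebra.smul_def]
  by_cases hi : i + 1 ≤ p.natDegree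
  · obtain ⟨m, hm⟩ := Nat.exists_eq_add_of_le hi
    have e1 : p.natDegree - (i + 1) = m := by omega
    have e2 : p.natDegree - 1 = i + m := by omega
    rw [e1, e2, map_mul, map_mul, map_mul, map_pow, mul_pow, pow_add]
    ring
  · rw [coeff_eq_zero_of_natDegree_lt (by omega)]
    simp

section kaehler

theorem kaehler_rel (x y : K) (f : MvPolynomial (Fin 2) k)
    (hfxy : MvPolynomial.aeval ![x, y] f = 0) :
    MvPolynomial.aeval ![x, y] (MvPolynomial.pderiv 0 f) • KaehlerDifferential.D k K x +
      MvPolynomial.aeval ![x, y] (MvPolynomial.pderiv 1 f) • KaehlerDifferential.D k K y = 0 := by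
  have h := CoordChange.deriv_aeval (KaehlerDifferential.D k K) ![x, y] f
  rw [hfxy, map_zero, Fin.sum_univ_two] at h
  exact h.symm

theorem kaehler_x' {x y x' : K} {c : k} (hx' : x' = x - algebraMap k K c * y) (fx γ₀ : K)
    (h : fx • KaehlerDifferential.D k K x + γ₀ • KaehlerDifferential.D k K y = 0) :
    γ₀ • KaehlerDifferential.D k K x' =
      (algebraMap k K c * fx + γ₀) • KaehlerDifferential.D k K x := by
  have h1 : KaehlerDifferential.D k K x' =
      KaehlerDifferential.D k K x - algebraMap k K c • KaehlerDifferential.D k K y := by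
    rw [hx', map_sub, Derivation.leibniz, Derivation.map_algebraMap, smul_zero, add_zero]
  have h2 : γ₀ • KaehlerDifferential.D k K y = -(fx • KaehlerDifferential.D k K x) :=
    eq_neg_of_add_eq_zero_right h
  rw [h1, smul_sub, smul_comm γ₀ (algebraMap k K c), h2]
  module

end kaehler

end Groth.Agent.Helper6.AdjGen
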