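import Mathlib
import Groth.Agent.Helper6.TrDual2
import Groth.Agent.Helper6.SepPlaces
import Groth.Agent.Helper5.FFGaps2
import Groth.Agent.Helper5.FFExpand2
import Groth.Agent.Helper5.FFWeier
import Groth.Agent.Helper5.FFGeom3
import Groth.Agent.Helper5.FGExt
import Groth.Agent.Helper5.FGIntFin

set_option autoImplicit false
set_option linter.style.haveILetI false
set_option linter.unusedSectionVars false

/-!
# The local adjoint condition: `ord (dξ / m'(η)) ≤ 0` with equality iff `k[ξ,η]` is locally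
the valuation ring
-/

namespace Groth.Agent.Helper6.AdjLoc

open FunFld LocRes Polynomial
open Groth.Agent.Helper5
open Groth.Agent.Helper6.LocDual Groth.Agent.Helper6.TrDual Groth.Agent.Helper6.TrDual2
open scoped IntermediateField

universe u v w

section rational

variable {k : Type u} {K₀ : Type v} [Field k] [Field K₀] [Algebra k K₀]

theorem val_aeval_le_one (P : Place k K₀) {ζ : K₀} (hζ : P.1 ζ ≤ 1) (p : k[X]) :
    P.1 (aeval ζ p) ≤ 1 := by
  rw [aeval_eq_sum_range]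
  refine Valuation.map_sum_le _ fun i _ => ?_
  rw [Algebra.smul_def, map_mul, map_pow]
  exact mul_le_one' (P.2.1 _) (pow_le_one' hζ i)

theorem val_aeval_eq_one (P : Place k K₀) {ζ : K₀} {c : k}
    (hc : P.1 (ζ - algebraMap k K₀ c) < 1) (q : k[X]) (hq : q.eval c ≠ 0) :
    P.1 (aeval ζ q) = 1 := by
  have hζ : P.1 ζ ≤ 1 := by
    have e : ζ = (ζ - algebraMap k K₀ c) + algebraMap k K₀ c := by ring
    rw [e]
    exact (P.1.map_add _ _).trans (max_le hc.le (P.2.1 c))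
  obtain ⟨q', hq'⟩ := Polynomial.X_sub_C_dvd_sub_C_eval (a := c) (p := q)
  have e1 : aeval ζ q = algebraMap k K₀ (q.eval c) + (ζ - algebraMap k K₀ c) * aeval ζ q' := by
    have h := congrArg (aeval ζ) hq'
    rw [map_sub, aeval_C, map_mul, map_sub, aeval_X, aeval_C] at h
    rw [← h]; ring
  rw [e1, Valuation.map_add_eq_of_lt_left]
  · exact FF.val_algebraMap P hq
  · rw [FF.val_algebraMap P hq, map_mul]
    calc P.1 (ζ - algebraMap k K₀ c) * P.1 (aeval ζ q')
        ≤ P.1 (ζ - algebraMap k K₀ c) * 1 := mul_le_mul' le_rfl (val_aeval_le_one P hζ q')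
      _ < 1 := by rw [mul_one]; exact hc

theorem exists_decomp (P : Place k K₀) {ζ : K₀} {c : k}
    (hc : P.1 (ζ - algebraMap k K₀ c) < 1) (p : k[X]) (hp : p ≠ 0) :
    ∃ (n : ℕ) (q : k[X]), P.1 (aeval ζ q) = 1 ∧
      aeval ζ p = (ζ - algebraMap k K₀ c) ^ n * aeval ζ q := by
  obtain ⟨q, hq1, hq2⟩ := Polynomial.exists_eq_pow_rootMultiplicity_mul_and_not_dvd p hp c
  refine ⟨p.rootMultiplicity c, q, val_aeval_eq_one P hc q ?_, ?_⟩
  · intro h0; exact hq2 (dvd_iff_isRoot.2 h0)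
  · conv_lhs => rw [hq1]
    rw [map_mul, map_pow, map_sub, aeval_X, aeval_C]

/-- structure of the valuation ring of a rational place of a rational function field -/
theorem rational_place (P : Place k K₀) {ζ : K₀} {c : k}
    (hc : P.1 (ζ - algebraMap k K₀ c) < 1) (hζc : ζ - algebraMap k K₀ c ≠ 0)
    (hrat : ∀ r : K₀, ∃ p₁ p₂ : k[X], aeval ζ p₂ ≠ 0 ∧ r = aeval ζ p₁ / aeval ζ p₂) :
    P.1 (ζ - algebraMap k K₀ c) = WithZero.exp (-1) ∧
    ∀ r : K₀, P.1 r ≤ 1 → ∃ a b : k[X], P.1 (aeval ζ b) = 1 ∧ r * aeval ζ b = aeval ζ a := by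
  obtain ⟨j, hj⟩ : ∃ j : ℤ, P.1 (ζ - algebraMap k K₀ c) = WithZero.exp (-j) :=
    ⟨-WithZero.log (P.1 (ζ - algebraMap k K₀ c)), by
      rw [neg_neg, WithZero.exp_log (P.1.ne_zero_iff.mpr hζc)]⟩
  have hj1 : 1 ≤ j := by
    rw [hj, ← WithZero.exp_zero, WithZero.exp_lt_exp] at hc; omega
  have key : ∀ r : K₀, r ≠ 0 → ∃ (n₁ n₂ : ℕ) (q₁ q₂ : k[X]), P.1 (aeval ζ q₁) = 1 ∧
      P.1 (aeval ζ q₂) = 1 ∧
      r * ((ζ - algebraMap k K₀ c) ^ n₂ * aeval ζ q₂) =
        (ζ - algebraMap k K₀ c) ^ n₁ * aeval ζ q₁ := by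
    intro r hr
    obtain ⟨p₁, p₂, hp2, rfl⟩ := hrat r
    have hp1 : aeval ζ p₁ ≠ 0 := fun h => hr (by rw [h, zero_div])
    have hp1' : p₁ ≠ 0 := fun h => hp1 (by rw [h, map_zero])
    have hp2' : p₂ ≠ 0 := fun h => hp2 (by rw [h, map_zero])
    obtain ⟨n₁, q₁, hq₁, e₁⟩ := exists_decomp P hc p₁ hp1'
    obtain ⟨n₂, q₂, hq₂, e₂⟩ := exists_decomp P hc p₂ hp2'
    refine ⟨n₁, n₂, q₁, q₂, hq₁, hq₂, ?_⟩
    rw [← e₁, ← e₂, div_mul_cancel₀ _ hp2]
  have hval : ∀ (r : K₀) (n₁ n₂ : ℕ) (q₁ q₂ : k[X]), P.1 (aeval ζ q₁) = 1 →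
      P.1 (aeval ζ q₂) = 1 →
      r * ((ζ - algebraMap k K₀ c) ^ n₂ * aeval ζ q₂) =
        (ζ - algebraMap k K₀ c) ^ n₁ * aeval ζ q₁ →
      P.1 r * WithZero.exp (-(j * n₂)) = WithZero.exp (-(j * n₁)) := by
    intro r n₁ n₂ q₁ q₂ h1 h2 e
    have h := congrArg P.1 e
    rw [map_mul, map_mul, map_mul, map_pow, map_pow, h1, h2, hj, mul_one, mul_one,
      ← WithZero.exp_nsmul, ← WithZero.exp_nsmul] at h
    have e1 : ∀ n : ℕ, n • (-j) = -(j * n) := fun n => by rw [nsmul_eq_mul]; ring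
    rw [e1, e1] at h
    exact h
  have hj' : j = 1 := by
    obtain ⟨r, hr⟩ := P.2.2 (WithZero.exp (-1))
    have hr0 : r ≠ 0 := FG.ne_zero_of_val_eq_exp P hr
    obtain ⟨n₁, n₂, q₁, q₂, h1, h2, e⟩ := key r hr0
    have h := hval r n₁ n₂ q₁ q₂ h1 h2 e
    rw [hr, ← WithZero.exp_add, WithZero.exp_inj] at h
    have h3 : j * ((n₁ : ℤ) - n₂) = 1 := by linarith
    exact Int.eq_one_of_mul_eq_one_right (by omega) h3
  refine ⟨by rw [hj, hj'], ?_⟩
  intro r hr
  by_cases hr0 : r = 0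
  · exact ⟨0, 1, by rw [map_one, map_one], by rw [hr0, zero_mul, map_zero]⟩
  obtain ⟨n₁, n₂, q₁, q₂, h1, h2, e⟩ := key r hr0
  have h := hval r n₁ n₂ q₁ q₂ h1 h2 e
  rw [hj', one_mul, one_mul] at h
  have hle : n₂ ≤ n₁ := by
    have hrn : P.1 r ≠ 0 := P.1.ne_zero_iff.mpr hr0
    obtain ⟨a, ha⟩ : ∃ a : ℤ, P.1 r = WithZero.exp a := ⟨_, (WithZero.exp_log hrn).symm⟩
    rw [ha, ← WithZero.exp_add, WithZero.exp_inj] at h
    rw [ha, ← WithZero.exp_zero, WithZero.exp_le_exp] at hr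
    omega
  obtain ⟨d, rfl⟩ := Nat.exists_eq_add_of_le hle
  refine ⟨(X - C c) ^ d * q₁, q₂, h2, ?_⟩
  have hpow : (ζ - algebraMap k K₀ c) ^ n₂ ≠ 0 := pow_ne_zero _ hζc
  rw [map_mul, map_pow, map_sub, aeval_X, aeval_C]
  apply mul_left_cancel₀ hpow
  calc (ζ - algebraMap k K₀ c) ^ n₂ * (r * aeval ζ q₂)
      = r * ((ζ - algebraMap k K₀ c) ^ n₂ * aeval ζ q₂) := by ring
    _ = (ζ - algebraMap k K₀ c) ^ (n₂ + d) * aeval ζ q₁ := e
    _ = (ζ - algebraMap k K₀ c) ^ n₂ * ((ζ - algebraMap k K₀ c) ^ d * aeval ζ q₁) := by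
        rw [pow_add]; ring

end rational

section conductor

variable {k : Type u} {K K' : Type v} [Field k] [Field K] [Field K'] [Algebra k K]
  [Algebra K K'] [Algebra k K'] [IsScalarTower k K K'] [FiniteDimensional K K']
  [Algebra.IsSeparable K K']

/-- if `O_P[y]` generates the valuation ring of `Q` locally, then `ord g'(y)` is at most the
different exponent. -/
theorem ord_le_of_loc (hK : FunFld.IsFunctionField k K) (hg : FunFld.IsGeometric k K)
    (F F' : Type w) [Field F] [Algebra k F] [Field F'] [Algebra k F']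
    (P : FunFld.Place k K) (Q : FunFld.Place k K') (e : ℕ) (he : FunFld.IsOverWith Q P e)
    (φ : K →ₐ[k] LaurentSeries F) (hφ : LocRes.IsExpansionAt P.1 φ)
    (ψ : K' →ₐ[k] LaurentSeries F') (hψ : LocRes.IsExpansionAt Q.1 ψ)
    (x : K) (hx : LocRes.vDiff φ 1 x ≠ 0) (hx' : LocRes.vDiff ψ 1 (algebraMap K K' x) ≠ 0)
    [P.1.HasExtension Q.1]
    (hf : Function.Surjective (algebraMap (IsLocalRing.ResidueField P.O)
      (IsLocalRing.ResidueField Q.O)))
    [Algebra P.O K'] [IsScalarTower P.O K K']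
    (y : K') (hy : IntermediateField.adjoin K ({y} : Set K') = ⊤) (hyi : IsIntegral P.O y)
    (hloc : ∀ z : K', IsIntegral P.O z → ∃ a ∈ Algebra.adjoin P.O ({y} : Set K'),
      ∃ b ∈ Algebra.adjoin P.O ({y} : Set K'), Q.1 b = 1 ∧ z * b = a) :
    Q.ord (aeval y (derivative (minpoly K y))) ≤ LocRes.diffExp φ ψ e x := by
  classical
  haveI hfin := FG.integralClosure_finite (K' := K') hK P
  obtain ⟨S, hS⟩ := (Module.finite_def.1 hfin : (⊤ : Submodule P.O (integralClosure P.O K')).FG)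
  choose! a ha b hb hb1 hab using hloc
  obtain ⟨A, hA⟩ : ∃ A : Subalgebra P.O K', A = Algebra.adjoin P.O ({y} : Set K') := ⟨_, rfl⟩
  rw [← hA] at ha hb
  obtain ⟨B, hB⟩ : ∃ B : K', B = ∏ z ∈ S, b (z : K') := ⟨_, rfl⟩
  have hBA : B ∈ A := by rw [hB]; exact Subalgebra.prod_mem _ fun z _ => hb _ z.2
  have hQB : Q.1 B = 1 := by
    rw [hB, map_prod]; exact Finset.prod_eq_one fun z _ => hb1 _ z.2
  have hcond : ∀ z : K', IsIntegral P.O z → B * z ∈ A := by
    intro z hz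
    have h1 : (⟨z, hz⟩ : integralClosure P.O K') ∈
        Submodule.span P.O (S : Set (integralClosure P.O K')) := by rw [hS]; trivial
    have key : ∀ w : integralClosure P.O K',
        w ∈ Submodule.span P.O (S : Set (integralClosure P.O K')) → B * (w : K') ∈ A := by
      intro w hw
      induction hw using Submodule.span_induction with
      | mem x hx =>
        have hxS : x ∈ S := hx
        have e1 : B * (x : K') =
            (∏ z ∈ S.erase x, b (z : K')) * ((x : K') * b (x : K')) := by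
          rw [hB, ← Finset.mul_prod_erase S _ hxS]; ring
        rw [e1, hab _ x.2]
        exact Subalgebra.mul_mem _ (Subalgebra.prod_mem _ fun z _ => hb _ z.2) (ha _ x.2)
      | zero =>
        show B * ((0 : integralClosure P.O K') : K') ∈ A
        rw [ZeroMemClass.coe_zero, mul_zero]; exact Subalgebra.zero_mem _
      | add x y _ _ hx hy =>
        show B * ((x + y : integralClosure P.O K') : K') ∈ A
        rw [Subalgebra.coe_add, mul_add]; exact Subalgebra.add_mem _ hx hy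
      | smul r x _ hx =>
        show B * ((r • x : integralClosure P.O K') : K') ∈ A
        rw [Subalgebra.coe_smul, mul_smul_comm]; exact Subalgebra.smul_mem _ hx r
    exact key _ h1
  obtain ⟨hAA, -⟩ := s12574 k K K' hK hg F F' P Q e he φ hφ ψ hψ x hx hx' hf
  obtain ⟨γ, hγ⟩ : ∃ γ : K', γ = aeval y (derivative (minpoly K y)) := ⟨_, rfl⟩
  rw [← hγ]
  have hsep : (minpoly K y).Separable := Algebra.IsSeparable.isSeparable K y
  have hγ0 : γ ≠ 0 := by rw [hγ]; exact hsep.aeval_derivative_ne_zero (minpoly.aeval K y)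
  have hAdj : Algebra.adjoin K ({y} : Set K') = ⊤ := by
    rw [← IntermediateField.adjoin_simple_toSubalgebra_of_isAlgebraic
      (Algebra.IsAlgebraic.isAlgebraic y), hy, IntermediateField.top_toSubalgebra]
  have hdual := traceForm_dualSubmodule_adjoin P.O K hAdj hyi
  have hmemd : γ⁻¹ ∈ (Algebra.traceForm K K').dualSubmodule
      (Subalgebra.toSubmodule (Algebra.adjoin P.O ({y} : Set K'))) := by
    rw [hdual, ← hγ, Submodule.mem_smul_iff_inv_mul_mem (inv_ne_zero hγ0), inv_inv,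
      mul_inv_cancel₀ hγ0]
    exact (Subalgebra.mem_toSubmodule _).2 (Subalgebra.one_mem _)
  rw [LinearMap.BilinForm.mem_dualSubmodule] at hmemd
  have hC : ∀ z : K', IsIntegral P.O z → P.1 (Algebra.trace K K' (γ⁻¹ * B * z)) ≤ 1 := by
    intro z hz
    have h1 := hmemd (B * z) ((Subalgebra.mem_toSubmodule _).2 (by rw [← hA]; exact hcond z hz))
    rw [Algebra.traceForm_apply, Submodule.mem_one] at h1
    obtain ⟨r, hr⟩ := h1
    rw [mul_assoc, ← hr]
    exact r.2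
  have h1 := hAA (γ⁻¹ * B) hC
  rw [map_mul, hQB, mul_one] at h1
  have h2 := (FG.val_le_exp_iff Q (inv_ne_zero hγ0) _).1 h1
  rw [FG.ord_inv] at h2
  omega

end conductor

section main

variable {k : Type u} {K : Type v} [Field k] [Field K] [Algebra k K]

/-- the local adjoint condition in a chart `(ξ, η)` with `η` integral over `k[ξ]`. -/
theorem local_adjoint [IsAlgClosed k] (hK : IsFunctionField k K) (K₀ : IntermediateField k K)
    (ζ : K₀) (htr : Transcendental k (ζ : K))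
    (hrat : ∀ r : K₀, ∃ p₁ p₂ : k[X], aeval ζ p₂ ≠ 0 ∧ r = aeval ζ p₁ / aeval ζ p₂)
    [FiniteDimensional K₀ K]
    (η : K) (hgen : IntermediateField.adjoin K₀ ({η} : Set K) = ⊤)
    (m : K₀[X]) (hm : m.Monic) (hmd : m.natDegree = Module.finrank K₀ K) (hmη : aeval η m = 0)
    (P : Place k K₀) (Q : Place k K) (e : ℕ) (he : IsOverWith Q P e)
    (hPζ : P.1 ζ ≤ 1) (hmc : ∀ j, P.1 (m.coeff j) ≤ 1)
    (ΦQ : K →ₐ[k] LaurentSeries k) (hΦQ : IsExpansionAt Q.1 ΦQ)
    (hne : vDiff ΦQ (aeval η (derivative m))⁻¹ (ζ : K) ≠ 0) :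
    ordDiff ΦQ (aeval η (derivative m))⁻¹ (ζ : K) ≤ 0 ∧
    (ordDiff ΦQ (aeval η (derivative m))⁻¹ (ζ : K) = 0 ↔
      ∀ z : K, Q.1 z ≤ 1 → ∃ U ∈ Algebra.adjoin k ({(ζ : K), η} : Set K),
        ∃ W ∈ Algebra.adjoin k ({(ζ : K), η} : Set K), Q.1 W = 1 ∧ z * W = U) := by
  classical
  have hK₀ : IsFunctionField k K₀ := FF.isFunctionField_intermediateField hK K₀ ⟨ζ, ζ.2, htr⟩
  have hg₀ : IsGeometric k K₀ := FF.isGeometric_of_perfectField k K₀ hK₀
  have hQP : IsOver Q P := ⟨e, he⟩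
  have hPdeg : P.deg = 1 := FF.deg_eq_one_of_isAlgClosed hK₀ P
  have hQdeg : Q.deg = 1 := FF.deg_eq_one_of_isAlgClosed hK Q
  have hepos : e ≠ 0 := FG.isOverWith_pos he
  have hint : IsIntegral K₀ η := Algebra.IsIntegral.isIntegral η
  have hmin : minpoly K₀ η = m := by
    have h1 : (minpoly K₀ η).natDegree = Module.finrank K₀ K := by
      rw [← IntermediateField.adjoin.finrank hint, hgen, IntermediateField.finrank_top']
    exact (eq_of_monic_of_dvd_of_natDegree_le (minpoly.monic hint) hm (minpoly.dvd _ _ hmη)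
      (by rw [hmd, h1])).symm
  obtain ⟨γ, hγ⟩ : ∃ γ : K, γ = aeval η (derivative m) := ⟨_, rfl⟩
  rw [← hγ] at hne ⊢
  have hv := vDiff_eq Q.1 ΦQ hΦQ γ⁻¹ (ζ : K)
  have hγ0 : γ ≠ 0 := by
    intro h0
    rw [h0] at hv hne
    rw [hv, inv_zero, map_zero, zero_mul] at hne
    exact hne rfl
  have hξ1 : vDiff ΦQ 1 (ζ : K) ≠ 0 := by
    intro h
    rw [hv, h, mul_zero] at hne
    exact hne rfl
  have hsepη : IsSeparable K₀ η := by
    show (minpoly K₀ η).Separable
    rw [separable_iff_derivative_ne_zero (minpoly.irreducible hint), hmin]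
    intro h0
    rw [h0, map_zero] at hγ
    exact hγ0 hγ
  haveI : Algebra.IsSeparable K₀ K := by
    haveI h1 : Algebra.IsSeparable K₀ (IntermediateField.adjoin K₀ ({η} : Set K)) :=
      (IntermediateField.isSeparable_adjoin_simple_iff_isSeparable K₀ K).mpr hsepη
    refine ⟨fun z => ?_⟩
    apply IntermediateField.isSeparable_of_mem_isSeparable K₀ K
      (L := IntermediateField.adjoin K₀ ({η} : Set K))
    rw [hgen]; trivial
  -- the rational place below
  obtain ⟨c, hc⟩ := FF.exists_const_of_deg_one P hPdeg hPζ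
  have hζc : ζ - algebraMap k K₀ c ≠ 0 := by
    intro h0
    apply htr
    have h1 : (ζ : K) = algebraMap k K c := by
      have := congrArg (fun z : K₀ => (z : K)) (sub_eq_zero.1 h0)
      exact this
    rw [h1]; exact isAlgebraic_algebraMap c
  obtain ⟨ht, hPO⟩ := rational_place P hc hζc hrat
  obtain ⟨t, ht_def⟩ : ∃ t : K₀, t = ζ - algebraMap k K₀ c := ⟨_, rfl⟩
  rw [← ht_def] at ht
  obtain ⟨φ₀, hφ₀_def⟩ : ∃ φ₀ : K₀ →ₐ[k] LaurentSeries k, φ₀ = Ex.Φ P hPdeg ht := ⟨_, rfl⟩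
  have hφ₀ : IsExpansionAt P.1 φ₀ := by rw [hφ₀_def]; exact Ex.isExpansionAt_Φ P hPdeg ht
  have hDζ : LocRes.D k (φ₀ ζ) = LocRes.D k (φ₀ t) := by
    have e1 : ζ = t + algebraMap k K₀ c := by rw [ht_def]; ring
    conv_lhs => rw [e1]
    rw [map_add, map_add, AlgHom.commutes, Derivation.map_algebraMap, add_zero]
  have hvζ : vDiff φ₀ 1 ζ = 1 := by
    rw [DiffExp.vDiff_one_eq, hDζ]
    exact Wr.val_D_of_val_eq k (φ₀ t) (by rw [hφ₀.1, ht])
  -- extension data
  haveI : P.1.HasExtension Q.1 := ⟨by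
    intro a b
    show P.1 a ≤ P.1 b ↔ Q.1 (algebraMap K₀ K a) ≤ Q.1 (algebraMap K₀ K b)
    rw [he a, he b]
    exact (pow_le_pow_iff_left₀ zero_le zero_le hepos).symm⟩
  have hf : Function.Surjective (algebraMap (IsLocalRing.ResidueField P.O)
      (IsLocalRing.ResidueField Q.O)) := by
    intro zbar
    obtain ⟨z, rfl⟩ := IsLocalRing.residue_surjective zbar
    obtain ⟨c', hc'⟩ := FF.exists_const_of_deg_one Q hQdeg z.2
    refine ⟨IsLocalRing.residue P.O (algebraMap k P.O c'), ?_⟩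
    rw [Valuation.HasExtension.algebraMap_residue_eq_residue_algebraMap, ← sub_eq_zero,
      ← map_sub, FG.residue_eq_zero_iff]
    show Q.1 (algebraMap K₀ K (algebraMap k K₀ c') - (z : K)) < 1
    rw [← IsScalarTower.algebraMap_apply, Valuation.map_sub_swap]
    exact hc'
  have hηi : IsIntegral P.O η := by
    have hlift : m ∈ Polynomial.lifts (algebraMap P.O K₀) := by
      rw [Polynomial.lifts_iff_coeff_lifts]
      intro j
      exact ⟨⟨m.coeff j, hmc j⟩, rfl⟩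
    obtain ⟨q, hq1, -, hq3⟩ := Polynomial.lifts_and_degree_eq_and_monic hlift hm
    refine ⟨q, hq3, ?_⟩
    rw [IsScalarTower.algebraMap_eq P.O K₀ K, ← Polynomial.eval₂_map, hq1]
    exact hmη
  have hx' : vDiff ΦQ 1 (algebraMap K₀ K ζ) ≠ 0 := hξ1
  obtain ⟨hle, hloc1⟩ := s12575 k K₀ K hK₀ hg₀ k k P Q e he φ₀ hφ₀ ΦQ hΦQ ζ
    (by rw [hvζ]; exact one_ne_zero) hx' hf η hgen hηi
  rw [hmin, ← hγ] at hle hloc1
  -- the order computation
  have hdE : diffExp φ₀ ΦQ e ζ = ordDiff ΦQ 1 (ζ : K) := by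
    unfold diffExp ordDiff
    rw [hvζ, WithZero.log_one, neg_zero, mul_zero, sub_zero]
    rfl
  have hord : ordDiff ΦQ γ⁻¹ (ζ : K) = diffExp φ₀ ΦQ e ζ - Q.ord γ := by
    rw [hdE]
    unfold ordDiff Place.ord
    rw [hv, WithZero.log_mul (Q.1.ne_zero_iff.mpr (inv_ne_zero hγ0)) hξ1, map_inv₀,
      WithZero.log_inv]
    ring
  have hRle : ∀ u ∈ Algebra.adjoin k ({(ζ : K), η} : Set K),
      u ∈ Algebra.adjoin P.O ({η} : Set K) := by
    intro u hu
    induction hu using Algebra.adjoin_induction with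
    | mem x hx =>
      rcases hx with hx | hx
      · rw [hx]
        have : (ζ : K) = algebraMap P.O K ⟨ζ, hPζ⟩ := rfl
        rw [this]; exact Subalgebra.algebraMap_mem _ _
      · rw [Set.mem_singleton_iff] at hx
        rw [hx]; exact Algebra.subset_adjoin (Set.mem_singleton η)
    | algebraMap r =>
      have : algebraMap k K r = algebraMap P.O K (algebraMap k P.O r) := rfl
      rw [this]; exact Subalgebra.algebraMap_mem _ _
    | add x y _ _ hx hy => exact Subalgebra.add_mem _ hx hy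
    | mul x y _ _ hx hy => exact Subalgebra.mul_mem _ hx hy
  have hclear : ∀ a ∈ Algebra.adjoin P.O ({η} : Set K),
      ∃ v ∈ Algebra.adjoin k ({(ζ : K), η} : Set K), Q.1 v = 1 ∧
        v * a ∈ Algebra.adjoin k ({(ζ : K), η} : Set K) := by
    have hζmem : ∀ p : k[X], aeval (ζ : K) p ∈ Algebra.adjoin k ({(ζ : K), η} : Set K) := by
      intro p
      have h1 : Algebra.adjoin k ({(ζ : K)} : Set K) ≤ Algebra.adjoin k ({(ζ : K), η} : Set K) :=
        Algebra.adjoin_mono (by simp)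
      exact h1 (Polynomial.aeval_mem_adjoin_singleton k (ζ : K))
    have hcoe : ∀ p : k[X], algebraMap K₀ K (aeval ζ p) = aeval (ζ : K) p := fun p =>
      (Polynomial.aeval_algebraMap_apply K ζ p).symm
    intro a ha
    induction ha using Algebra.adjoin_induction with
    | mem x hx =>
      rw [Set.mem_singleton_iff] at hx
      refine ⟨1, Subalgebra.one_mem _, map_one _, ?_⟩
      rw [one_mul, hx]; exact Algebra.subset_adjoin (by simp)
    | algebraMap r =>
      obtain ⟨a', b', hb', hab'⟩ := hPO (r : K₀) r.2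
      refine ⟨aeval (ζ : K) b', hζmem b', ?_, ?_⟩
      · rw [← hcoe, he, hb', one_pow]
      · have h1 : algebraMap P.O K r = algebraMap K₀ K (r : K₀) := rfl
        rw [h1, ← hcoe, ← map_mul, mul_comm, hab', hcoe]
        exact hζmem a'
    | add x y _ _ hx hy =>
      obtain ⟨v₁, hv₁, hv₁1, hv₁a⟩ := hx
      obtain ⟨v₂, hv₂, hv₂1, hv₂a⟩ := hy
      refine ⟨v₁ * v₂, Subalgebra.mul_mem _ hv₁ hv₂, by rw [map_mul, hv₁1, hv₂1, one_mul], ?_⟩
      have e1 : v₁ * v₂ * (x + y) = v₂ * (v₁ * x) + v₁ * (v₂ * y) := by ring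
      rw [e1]
      exact Subalgebra.add_mem _ (Subalgebra.mul_mem _ hv₂ hv₁a) (Subalgebra.mul_mem _ hv₁ hv₂a)
    | mul x y _ _ hx hy =>
      obtain ⟨v₁, hv₁, hv₁1, hv₁a⟩ := hx
      obtain ⟨v₂, hv₂, hv₂1, hv₂a⟩ := hy
      refine ⟨v₁ * v₂, Subalgebra.mul_mem _ hv₁ hv₂, by rw [map_mul, hv₁1, hv₂1, one_mul], ?_⟩
      have e1 : v₁ * v₂ * (x * y) = (v₁ * x) * (v₂ * y) := by ring
      rw [e1]
      exact Subalgebra.mul_mem _ hv₁a hv₂a
  refine ⟨by rw [hord]; omega, ?_⟩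
  constructor
  · intro h0
    have hordeq : Q.ord γ = diffExp φ₀ ΦQ e ζ := by rw [hord] at h0; omega
    intro z hz
    obtain ⟨a, ha, b, hb, hb1, hzb⟩ := hloc1 hordeq z hz
    obtain ⟨va, hva, hva1, hvaa⟩ := hclear a ha
    obtain ⟨vb, hvb, hvb1, hvbb⟩ := hclear b hb
    refine ⟨vb * (va * a), Subalgebra.mul_mem _ hvb hvaa, va * (vb * b),
      Subalgebra.mul_mem _ hva hvbb, ?_, ?_⟩
    · rw [map_mul, map_mul, hva1, hvb1, hb1, one_mul, one_mul]
    · rw [← hzb]; ring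
  · intro hloc
    have hloc' : ∀ z : K, IsIntegral P.O z → ∃ a ∈ Algebra.adjoin P.O ({η} : Set K),
        ∃ b ∈ Algebra.adjoin P.O ({η} : Set K), Q.1 b = 1 ∧ z * b = a := by
      intro z hz
      obtain ⟨U, hU, W, hW, hW1, hzW⟩ := hloc z (FG.val_le_one_of_isIntegral hQP hz)
      exact ⟨U, hRle U hU, W, hRle W hW, hW1, hzW⟩
    have hge := ord_le_of_loc hK₀ hg₀ k k P Q e he φ₀ hφ₀ ΦQ hΦQ ζ
      (by rw [hvζ]; exact one_ne_zero) hx' hf η hgen hηi hloc'
    rw [hmin, ← hγ] at hge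
    rw [hord]; omega

end main

end Groth.Agent.Helper6.AdjLoc
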