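import Mathlib
import Groth.Agent.Helper6.AdjGen
import Groth.Agent.Helper6.AdjLoc

set_option autoImplicit false
set_option linter.style.haveILetI false
set_option linter.unusedSectionVars false

/-!
# The adjoint condition at a place of a plane model
-/

namespace Groth.Agent.Helper6.AdjMain

open FunFld LocRes
open Groth.Agent.Helper5
open Groth.Agent.Helper6.PlaneGenus Groth.Agent.Helper6.PlaneSetup Groth.Agent.Helper6.PlaneAlg
open Groth.Agent.Helper6.PlaneDeg Groth.Agent.Helper6.AdjGen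
open scoped IntermediateField
open Polynomial
open scoped Polynomial.Bivariate

universe u v
variable {k : Type u} {K : Type v} [Field k] [Field K] [Algebra k K]

section charts

variable {x y x' : K} {c : k} {D : Divisor k K} {d : ℕ}

theorem loc_of_ns_A (G : Gen x y x' c D d) (P : Place k K)
    (hns : IsNonsingularAt ![(1 : K), x, y] P) (hu : P.1 x' ≤ 1) (z : K) (hz : P.1 z ≤ 1) :
    ∃ U ∈ Algebra.adjoin k ({x', y} : Set K), ∃ W ∈ Algebra.adjoin k ({x', y} : Set K),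
      P.1 W = 1 ∧ z * W = U := by
  obtain ⟨j, hj0, hjmax, u, hu', w, hw, hw1, hzw⟩ := hns z hz
  have hDP := G.D_eq_zero_of_le P hu
  have hval := PlaneMain.val_max G P j hjmax
  rw [hDP, WithZero.exp_zero] at hval
  refine transfer ![(1 : K), x, y] P (Algebra.adjoin k ({x', y} : Set K)) 1 j one_ne_zero hj0 ?_
    (by rw [hval, map_one]) hu' hw hw1 hzw
  intro i
  rw [div_one]
  have hx'm : x' ∈ Algebra.adjoin k ({x', y} : Set K) := Algebra.subset_adjoin (by simp)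
  have hym : y ∈ Algebra.adjoin k ({x', y} : Set K) := Algebra.subset_adjoin (by simp)
  fin_cases i
  · exact Subalgebra.one_mem _
  · show x ∈ _
    rw [G.x_eq]
    exact Subalgebra.add_mem _ hx'm (Subalgebra.mul_mem _ (Subalgebra.algebraMap_mem _ c) hym)
  · exact hym

theorem loc_of_ns_B (G : Gen x y x' c D d) (P : Place k K)
    (hns : IsNonsingularAt ![(1 : K), x, y] P) (hu : P.1 x'⁻¹ ≤ 1) (z : K) (hz : P.1 z ≤ 1) :
    ∃ U ∈ Algebra.adjoin k ({x'⁻¹, x'⁻¹ * y} : Set K),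
      ∃ W ∈ Algebra.adjoin k ({x'⁻¹, x'⁻¹ * y} : Set K), P.1 W = 1 ∧ z * W = U := by
  obtain ⟨j, hj0, hjmax, u, hu', w, hw, hw1, hzw⟩ := hns z hz
  have hval := PlaneMain.val_max G P j hjmax
  have hx'v := G.val_eq_of_inv_le P hu
  refine transfer ![(1 : K), x, y] P _ x' j G.x'_ne_zero hj0 ?_ (by rw [hval, hx'v])
    hu' hw hw1 hzw
  intro i
  have hsm : x'⁻¹ ∈ Algebra.adjoin k ({x'⁻¹, x'⁻¹ * y} : Set K) :=
    Algebra.subset_adjoin (by simp)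
  have htm : x'⁻¹ * y ∈ Algebra.adjoin k ({x'⁻¹, x'⁻¹ * y} : Set K) :=
    Algebra.subset_adjoin (by simp)
  fin_cases i
  · show (1 : K) / x' ∈ _
    rw [one_div]; exact hsm
  · show x / x' ∈ _
    have e : x / x' = 1 + algebraMap k K c * (x'⁻¹ * y) := by
      rw [G.x_eq, add_div, div_self G.x'_ne_zero, div_eq_mul_inv, mul_assoc, mul_comm y]
    rw [e]
    exact Subalgebra.add_mem _ (Subalgebra.one_mem _)
      (Subalgebra.mul_mem _ (Subalgebra.algebraMap_mem _ c) htm)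
  · show y / x' ∈ _
    rw [div_eq_mul_inv, mul_comm y]; exact htm

theorem ns_of_loc_A (G : Gen x y x' c D d) (P : Place k K) (hu : P.1 x' ≤ 1)
    (hloc : ∀ z : K, P.1 z ≤ 1 → ∃ U ∈ Algebra.adjoin k ({x', y} : Set K),
      ∃ W ∈ Algebra.adjoin k ({x', y} : Set K), P.1 W = 1 ∧ z * W = U) :
    IsNonsingularAt ![(1 : K), x, y] P := by
  intro z hz
  obtain ⟨U, hU, W, hW, hW1, hzW⟩ := hloc z hz
  have hDP := G.D_eq_zero_of_le P hu
  obtain ⟨φ, hφ⟩ : ∃ φ : Fin 3 → K, φ = ![(1 : K), x, y] := ⟨_, rfl⟩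
  rw [← hφ]
  have h0 : φ 0 = 1 := by rw [hφ]; rfl
  have h1 : φ 1 = x := by rw [hφ]; rfl
  have h2 : φ 2 = y := by rw [hφ]; rfl
  have hxm : x ∈ Algebra.adjoin k (Set.range fun i => φ i / φ 0) := by
    have e : φ 1 / φ 0 = x := by rw [h0, h1, div_one]
    rw [← e]
    exact Algebra.subset_adjoin ⟨1, rfl⟩
  have hym : y ∈ Algebra.adjoin k (Set.range fun i => φ i / φ 0) := by
    have e : φ 2 / φ 0 = y := by rw [h0, h2, div_one]
    rw [← e]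
    exact Algebra.subset_adjoin ⟨2, rfl⟩
  have hsub : Algebra.adjoin k ({x', y} : Set K) ≤
      Algebra.adjoin k (Set.range fun i => φ i / φ 0) := by
    apply Algebra.adjoin_le
    intro w hw
    rcases hw with hw | hw
    · rw [hw, G.hx']
      exact Subalgebra.sub_mem _ hxm
        (Subalgebra.mul_mem _ (Subalgebra.algebraMap_mem _ c) hym)
    · rw [Set.mem_singleton_iff] at hw
      rw [hw]; exact hym
  refine ⟨0, by rw [h0]; exact one_ne_zero, ?_, U, hsub hU, W, hsub hW, hW1, hzW⟩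
  intro i
  have := G.hle P i
  rw [hDP, WithZero.exp_zero, ← hφ] at this
  rw [h0, map_one]; exact this

theorem ns_of_loc_B (G : Gen x y x' c D d) (P : Place k K) (hu : P.1 x'⁻¹ ≤ 1)
    (hloc : ∀ z : K, P.1 z ≤ 1 → ∃ U ∈ Algebra.adjoin k ({x'⁻¹, x'⁻¹ * y} : Set K),
      ∃ W ∈ Algebra.adjoin k ({x'⁻¹, x'⁻¹ * y} : Set K), P.1 W = 1 ∧ z * W = U) :
    IsNonsingularAt ![(1 : K), x, y] P := by
  intro z hz
  obtain ⟨U, hU, W, hW, hW1, hzW⟩ := hloc z hz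
  obtain ⟨j, hj⟩ := G.hatt P
  have hx'v := G.val_eq_of_inv_le P hu
  have hle := G.hle P
  obtain ⟨φ, hφ⟩ : ∃ φ : Fin 3 → K, φ = ![(1 : K), x, y] := ⟨_, rfl⟩
  rw [← hφ] at hj hle ⊢
  have h0 : φ 0 = 1 := by rw [hφ]; rfl
  have h1 : φ 1 = x := by rw [hφ]; rfl
  have h2 : φ 2 = y := by rw [hφ]; rfl
  have hj0 : φ j ≠ 0 := by
    intro h
    rw [h, map_zero] at hj
    exact WithZero.exp_ne_zero hj.symm
  obtain ⟨ψ, hψ⟩ : ∃ ψ : Fin 3 → K, ψ = ![(1 : K), x', y] := ⟨_, rfl⟩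
  have g0 : ψ 0 = 1 := by rw [hψ]; rfl
  have g1 : ψ 1 = x' := by rw [hψ]; rfl
  have g2 : ψ 2 = y := by rw [hψ]; rfl
  have hsub : Algebra.adjoin k ({x'⁻¹, x'⁻¹ * y} : Set K) ≤
      Algebra.adjoin k (Set.range fun i => ψ i / ψ 1) := by
    apply Algebra.adjoin_le
    intro w hw
    rcases hw with hw | hw
    · rw [hw]
      have e : ψ 0 / ψ 1 = x'⁻¹ := by rw [g0, g1, one_div]
      rw [← e]
      exact Algebra.subset_adjoin ⟨0, rfl⟩
    · rw [Set.mem_singleton_iff] at hw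
      rw [hw]
      have e : ψ 2 / ψ 1 = x'⁻¹ * y := by rw [g1, g2, div_eq_mul_inv, mul_comm]
      rw [← e]
      exact Algebra.subset_adjoin ⟨2, rfl⟩
  have m0 : 1 / φ j ∈ Algebra.adjoin k (Set.range fun i => φ i / φ j) := by
    have : φ 0 / φ j ∈ Algebra.adjoin k (Set.range fun i => φ i / φ j) :=
      Algebra.subset_adjoin ⟨0, rfl⟩
    rwa [h0] at this
  have m1 : x / φ j ∈ Algebra.adjoin k (Set.range fun i => φ i / φ j) := by
    have : φ 1 / φ j ∈ Algebra.adjoin k (Set.range fun i => φ i / φ j) :=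
      Algebra.subset_adjoin ⟨1, rfl⟩
    rwa [h1] at this
  have m2 : y / φ j ∈ Algebra.adjoin k (Set.range fun i => φ i / φ j) := by
    have : φ 2 / φ j ∈ Algebra.adjoin k (Set.range fun i => φ i / φ j) :=
      Algebra.subset_adjoin ⟨2, rfl⟩
    rwa [h2] at this
  have hB : ∀ i, ψ i / φ j ∈ Algebra.adjoin k (Set.range fun i => φ i / φ j) := by
    intro i
    fin_cases i
    · show ψ 0 / φ j ∈ _
      rw [g0]; exact m0
    · show ψ 1 / φ j ∈ _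
      rw [g1, G.hx', sub_div, mul_div_assoc]
      exact Subalgebra.sub_mem _ m1 (Subalgebra.mul_mem _ (Subalgebra.algebraMap_mem _ c) m2)
    · show ψ 2 / φ j ∈ _
      rw [g2]; exact m2
  obtain ⟨U', hU', W', hW', hW'1, hzW'⟩ := transfer ψ P
    (Algebra.adjoin k (Set.range fun i => φ i / φ j)) (φ j) 1 hj0
    (by rw [g1]; exact G.x'_ne_zero) hB (by rw [g1, hx'v, hj]) (hsub hU) (hsub hW) hW1 hzW
  exact ⟨j, hj0, fun i => by rw [hj]; exact hle i, U', hU', W', hW', hW'1, hzW'⟩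

end charts

section vdiff

theorem vDiff_of_kaehler (Q : Place k K) (ΦQ : K →ₐ[k] LaurentSeries k)
    (hΦQ : IsExpansionAt Q.1 ΦQ) {u v c₁ : K}
    (h : KaehlerDifferential.D k K v = c₁ • KaehlerDifferential.D k K u) :
    vDiff ΦQ 1 v = Q.1 c₁ * vDiff ΦQ 1 u := by
  rw [DiffExp.vDiff_one_eq, DiffExp.D_exp_of_kaehler ΦQ h, map_mul, hΦQ.1,
    ← DiffExp.vDiff_one_eq]

theorem ordDiff_eq (Q : Place k K) (ΦQ : K →ₐ[k] LaurentSeries k)
    (hΦQ : IsExpansionAt Q.1 ΦQ) {a v : K} (ha : a ≠ 0) (hv : vDiff ΦQ 1 v ≠ 0) :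
    ordDiff ΦQ a⁻¹ v = WithZero.log (Q.1 a) - WithZero.log (vDiff ΦQ 1 v) := by
  unfold ordDiff
  rw [LocDual.vDiff_eq Q.1 ΦQ hΦQ a⁻¹ v,
    WithZero.log_mul (Q.1.ne_zero_iff.mpr (inv_ne_zero ha)) hv, map_inv₀, WithZero.log_inv]
  ring

end vdiff

theorem s12613 (k : Type u) (K : Type v) [Field k] [IsAlgClosed k] [Field K] [Algebra k K]
    (hK : IsFunctionField k K) (x y : K)
    (hxy : IntermediateField.adjoin k ({x, y} : Set K) = ⊤)
    (f : MvPolynomial (Fin 2) k) (hf : Irreducible f)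
    (hfxy : MvPolynomial.aeval ![x, y] f = 0)
    (Q : Place k K) (ΦQ : K →ₐ[k] LaurentSeries k) (hΦQ : IsExpansionAt Q.1 ΦQ)
    (hne : vDiff ΦQ (MvPolynomial.aeval ![x, y] (MvPolynomial.pderiv 1 f))⁻¹ x ≠ 0) :
    0 ≤ ((mapDiv k ![(1 : K), x, y]).deg - 3) * mapDiv k ![(1 : K), x, y] Q -
        ordDiff ΦQ (MvPolynomial.aeval ![x, y] (MvPolynomial.pderiv 1 f))⁻¹ x ∧
    (((mapDiv k ![(1 : K), x, y]).deg - 3) * mapDiv k ![(1 : K), x, y] Q -
        ordDiff ΦQ (MvPolynomial.aeval ![x, y] (MvPolynomial.pderiv 1 f))⁻¹ x = 0 ↔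
      IsNonsingularAt ![(1 : K), x, y] Q) := by
  classical
  obtain ⟨γ₀, hγ₀⟩ : ∃ γ₀ : K, γ₀ = MvPolynomial.aeval ![x, y] (MvPolynomial.pderiv 1 f) :=
    ⟨_, rfl⟩
  obtain ⟨fx, hfx⟩ : ∃ fx : K, fx = MvPolynomial.aeval ![x, y] (MvPolynomial.pderiv 0 f) :=
    ⟨_, rfl⟩
  rw [← hγ₀] at hne ⊢
  have hv := LocDual.vDiff_eq Q.1 ΦQ hΦQ γ₀⁻¹ x
  have hγ₀0 : γ₀ ≠ 0 := by
    intro h0
    rw [hv, h0, inv_zero, map_zero, zero_mul] at hne
    exact hne rfl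
  have hx1 : vDiff ΦQ 1 x ≠ 0 := by
    intro h
    rw [hv, h, mul_zero] at hne
    exact hne rfl
  have hrel : fx • KaehlerDifferential.D k K x + γ₀ • KaehlerDifferential.D k K y = 0 := by
    rw [hfx, hγ₀]; exact kaehler_rel x y f hfxy
  -- the finite set to avoid
  have hS : {c : k | algebraMap k K c * fx + γ₀ = 0}.Subsingleton := by
    intro c₁ h₁ c₂ h₂
    rw [Set.mem_setOf_eq] at h₁ h₂
    by_contra hcc
    have h3 : algebraMap k K c₁ * fx = algebraMap k K c₂ * fx :=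
      add_right_cancel (h₁.trans h₂.symm)
    have h4 : algebraMap k K (c₁ - c₂) * fx = 0 := by
      rw [map_sub, sub_mul, h3, sub_self]
    have h5 : algebraMap k K (c₁ - c₂) ≠ 0 :=
      (_root_.map_ne_zero (algebraMap k K)).mpr (sub_ne_zero.mpr hcc)
    have h6 : fx = 0 := (mul_eq_zero.mp h4).resolve_left h5
    rw [h6, mul_zero, zero_add] at h₁
    exact hγ₀0 h₁
  obtain ⟨x', c, d, hcS, G⟩ := exists_gen_avoid hK x y hxy _ hS.finite
  obtain ⟨D, hD⟩ : ∃ D : Divisor k K, D = mapDiv k ![(1 : K), x, y] := ⟨_, rfl⟩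
  rw [← hD] at G ⊢
  rw [G.hdeg]
  have hcne : algebraMap k K c * fx + γ₀ ≠ 0 := hcS
  obtain ⟨M, r, hMmonic, hMnat, hevM, hMcoeff, hr0, hΦf⟩ := exists_model hK G f hf hfxy
  obtain ⟨γA, hγA⟩ : ∃ γA : K, γA = Polynomial.aevalAeval x' y (derivative M) := ⟨_, rfl⟩
  have hchain : algebraMap k K c * fx + γ₀ = γA * algebraMap k K r := by
    have h1 := chain_Φ G f
    rw [hΦf, Polynomial.derivative_mul, Polynomial.derivative_C, mul_zero, add_zero, map_mul,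
      Polynomial.aevalAeval_C, Polynomial.aeval_C, ← hγA, ← hfx, ← hγ₀] at h1
    exact h1.symm
  have hγA0 : γA ≠ 0 := by
    intro h0
    rw [h0, zero_mul] at hchain
    exact hcne hchain
  have hQγ₀ : Q.1 γ₀ ≠ 0 := Q.1.ne_zero_iff.mpr hγ₀0
  have hQγA : Q.1 γA ≠ 0 := Q.1.ne_zero_iff.mpr hγA0
  -- Kähler relations
  have hk1 := kaehler_x' G.hx' fx γ₀ hrel
  have hk2 : KaehlerDifferential.D k K x' =
      (γ₀⁻¹ * (γA * algebraMap k K r)) • KaehlerDifferential.D k K x := by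
    rw [mul_smul, ← hchain, ← hk1, smul_smul, inv_mul_cancel₀ hγ₀0, one_smul]
  have hx'1 : vDiff ΦQ 1 x' = (Q.1 γ₀)⁻¹ * Q.1 γA * vDiff ΦQ 1 x := by
    rw [vDiff_of_kaehler Q ΦQ hΦQ hk2, map_mul, map_mul, map_inv₀, FF.val_algebraMap Q hr0,
      mul_one]
  have hx'1ne : vDiff ΦQ 1 x' ≠ 0 := by
    rw [hx'1]; exact mul_ne_zero (mul_ne_zero (inv_ne_zero hQγ₀) hQγA) hx1
  have hL1 : WithZero.log (vDiff ΦQ 1 x') =
      -WithZero.log (Q.1 γ₀) + WithZero.log (Q.1 γA) + WithZero.log (vDiff ΦQ 1 x) := by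
    rw [hx'1, WithZero.log_mul (mul_ne_zero (inv_ne_zero hQγ₀) hQγA) hx1,
      WithZero.log_mul (inv_ne_zero hQγ₀) hQγA, WithZero.log_inv]
  have hord0 := ordDiff_eq Q ΦQ hΦQ hγ₀0 hx1
  have hordA : ordDiff ΦQ γA⁻¹ x' = ordDiff ΦQ γ₀⁻¹ x := by
    rw [ordDiff_eq Q ΦQ hΦQ hγA0 hx'1ne, hord0, hL1]; ring
  have hneA : vDiff ΦQ γA⁻¹ x' ≠ 0 := by
    rw [LocDual.vDiff_eq Q.1 ΦQ hΦQ γA⁻¹ x']
    exact mul_ne_zero (Q.1.ne_zero_iff.mpr (inv_ne_zero hγA0)) hx'1ne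
  -- the rational subfield
  haveI : FiniteDimensional k⟮x'⟯ K := FF.finiteDimensional_adjoin hK G.htr
  obtain ⟨ξ₀, hξ₀⟩ : ∃ ξ₀ : k⟮x'⟯, ξ₀ = IntermediateField.AdjoinSimple.gen k x' := ⟨_, rfl⟩
  have hξc : (ξ₀ : K) = x' := by rw [hξ₀]; rfl
  have hK₀ : IsFunctionField k k⟮x'⟯ := FF.isFunctionField_intermediateField hK k⟮x'⟯
    ⟨x', IntermediateField.mem_adjoin_simple_self k x', G.htr⟩
  obtain ⟨P, e, he⟩ := FG.exists_isOverWith hK₀.1 Q
  obtain ⟨mA, hmA⟩ : ∃ mA : k⟮x'⟯[X],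
      mA = M.map ((aeval ξ₀ : k[X] →ₐ[k] k⟮x'⟯) : k[X] →+* k⟮x'⟯) := ⟨_, rfl⟩
  have hmAmonic : mA.Monic := by rw [hmA]; exact hMmonic.map _
  have hmAnat : mA.natDegree = d := by rw [hmA, hMmonic.natDegree_map, hMnat]
  have hmAy : aeval y mA = 0 := by rw [hmA, aeval_map_eq, hξc, hevM]
  have hmAder : aeval y (derivative mA) = γA := by
    rw [hmA, Polynomial.derivative_map, aeval_map_eq, hξc, hγA]
  have hmAcoeff : ∀ j, mA.coeff j = aeval ξ₀ (M.coeff j) := by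
    intro j; rw [hmA, coeff_map]; rfl
  have hratξ : ∀ r : k⟮x'⟯, ∃ p₁ p₂ : k[X], aeval ξ₀ p₂ ≠ 0 ∧
      r = aeval ξ₀ p₁ / aeval ξ₀ p₂ := by
    rw [hξ₀]; exact hrat_gen x'
  rcases le_or_gt (Q.1 x') 1 with hA | hB
  · -- the affine chart
    have hDQ := G.D_eq_zero_of_le Q hA
    have hPξ : P.1 ξ₀ ≤ 1 := (SepPlaces.le_one_of_over he ξ₀).mp (by
      show Q.1 (ξ₀ : K) ≤ 1
      rw [hξc]; exact hA)
    have hmc : ∀ j, P.1 (mA.coeff j) ≤ 1 := fun j => by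
      rw [hmAcoeff]; exact AdjLoc.val_aeval_le_one P hPξ _
    obtain ⟨h1, h2⟩ := AdjLoc.local_adjoint hK k⟮x'⟯ ξ₀ (by rw [hξc]; exact G.htr) hratξ y
      G.hgen mA hmAmonic (by rw [hmAnat, G.hdK]) hmAy P Q e he hPξ hmc ΦQ hΦQ
      (by rw [hmAder, hξc]; exact hneA)
    rw [hmAder, hξc, hordA] at h1 h2
    rw [hDQ, mul_zero, zero_sub]
    refine ⟨by omega, ?_⟩
    rw [neg_eq_zero, h2]
    constructor
    · intro hloc; exact ns_of_loc_A G Q hA hloc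
    · intro hns z hz; exact loc_of_ns_A G Q hns hA z hz
  · -- the chart at infinity
    have hx'0 := G.x'_ne_zero
    have hsle : Q.1 x'⁻¹ ≤ 1 := by
      rw [map_inv₀]; exact inv_le_one_of_one_le₀ hB.le
    have hx'v := G.val_eq_of_inv_le Q hsle
    have hξ0 : ξ₀ ≠ 0 := by
      intro h
      apply hx'0
      rw [← hξc, h]; rfl
    obtain ⟨ζ, hζ⟩ : ∃ ζ : k⟮x'⟯, ζ = ξ₀⁻¹ := ⟨_, rfl⟩
    have hζc : (ζ : K) = x'⁻¹ := by rw [hζ, IntermediateField.coe_inv, hξc]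
    have hPζ : P.1 ζ ≤ 1 := (SepPlaces.le_one_of_over he ζ).mp (by
      show Q.1 (ζ : K) ≤ 1
      rw [hζc]; exact hsle)
    obtain ⟨mB, hmB⟩ : ∃ mB : k⟮x'⟯[X], mB = scaleRoots mA ζ := ⟨_, rfl⟩
    have hmBmonic : mB.Monic := by rw [hmB]; exact (monic_scaleRoots_iff ζ).mpr hmAmonic
    have hmBnat : mB.natDegree = d := by rw [hmB, natDegree_scaleRoots, hmAnat]
    have hηdef : algebraMap k⟮x'⟯ K ζ * y = x'⁻¹ * y := by
      show (ζ : K) * y = _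
      rw [hζc]
    have hmBη : aeval (x'⁻¹ * y) mB = 0 := by
      rw [hmB, ← hηdef]; exact scaleRoots_aeval_eq_zero hmAy
    obtain ⟨γB, hγB⟩ : ∃ γB : K, γB = x'⁻¹ ^ (d - 1) * γA := ⟨_, rfl⟩
    have hmBder : aeval (x'⁻¹ * y) (derivative mB) = γB := by
      rw [hmB, ← hηdef, aeval_derivative_scaleRoots, hmAnat, hmAder, hγB]
      show (ζ : K) ^ (d - 1) * γA = _
      rw [hζc]
    have hmc : ∀ j, P.1 (mB.coeff j) ≤ 1 := by
      intro j
      rw [hmB, coeff_scaleRoots, hmAnat, hmAcoeff, hζ]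
      obtain ⟨q, hq⟩ := exists_rev ξ₀ hξ0 (M.coeff j) (d - j) (hMcoeff j)
      rw [← hq]
      exact AdjLoc.val_aeval_le_one P (by rw [← hζ]; exact hPζ) q
    have hgenB : IntermediateField.adjoin k⟮x'⟯ ({x'⁻¹ * y} : Set K) = ⊤ := by
      rw [eq_top_iff, ← G.hgen, IntermediateField.adjoin_le_iff]
      intro w hw
      rw [Set.mem_singleton_iff] at hw
      rw [hw]
      have e1 : algebraMap k⟮x'⟯ K ξ₀ * (x'⁻¹ * y) = y := by
        show (ξ₀ : K) * _ = y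
        rw [hξc, ← mul_assoc, mul_inv_cancel₀ hx'0, one_mul]
      have hmem : algebraMap k⟮x'⟯ K ξ₀ * (x'⁻¹ * y) ∈
          IntermediateField.adjoin k⟮x'⟯ ({x'⁻¹ * y} : Set K) :=
        mul_mem (IntermediateField.algebraMap_mem _ _)
          (IntermediateField.mem_adjoin_simple_self _ _)
      rwa [e1] at hmem
    have htrζ : Transcendental k (ζ : K) := by
      rw [hζc]
      intro h
      apply G.htr
      have := h.inv
      rwa [inv_inv] at this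
    have hratζ : ∀ r : k⟮x'⟯, ∃ p₁ p₂ : k[X], aeval ζ p₂ ≠ 0 ∧
        r = aeval ζ p₁ / aeval ζ p₂ := by
      rw [hζ]; exact hrat_inv ξ₀ hξ0 hratξ
    -- differentials
    have hk3 := Derivation.leibniz_inv (KaehlerDifferential.D k K) x'
    have hQs : Q.1 x'⁻¹ ≠ 0 := Q.1.ne_zero_iff.mpr (inv_ne_zero hx'0)
    have hs1 : vDiff ΦQ 1 x'⁻¹ = Q.1 x'⁻¹ ^ 2 * vDiff ΦQ 1 x' := by
      rw [vDiff_of_kaehler Q ΦQ hΦQ hk3, Valuation.map_neg, map_pow]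
    have hs1ne : vDiff ΦQ 1 x'⁻¹ ≠ 0 := by
      rw [hs1]; exact mul_ne_zero (pow_ne_zero _ hQs) hx'1ne
    have hγB0 : γB ≠ 0 := by
      rw [hγB]; exact mul_ne_zero (pow_ne_zero _ (inv_ne_zero hx'0)) hγA0
    have hlogs : WithZero.log (Q.1 x'⁻¹) = -D Q := by
      rw [map_inv₀, WithZero.log_inv, hx'v, WithZero.log_exp]
    have hd1 := G.hd1
    have hcast : ((d - 1 : ℕ) : ℤ) = (d : ℤ) - 1 := by
      rw [Nat.cast_sub hd1]; simp
    have hordB : ordDiff ΦQ γB⁻¹ x'⁻¹ =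
        -(((d : ℤ) - 3) * D Q) + ordDiff ΦQ γ₀⁻¹ x := by
      rw [ordDiff_eq Q ΦQ hΦQ hγB0 hs1ne, hord0, hs1,
        WithZero.log_mul (pow_ne_zero _ hQs) hx'1ne, hL1, hγB, map_mul, map_pow,
        WithZero.log_mul (pow_ne_zero _ hQs) hQγA, WithZero.log_pow, WithZero.log_pow, hlogs,
        nsmul_eq_mul, nsmul_eq_mul, hcast]
      push_cast
      ring
    have hneB : vDiff ΦQ γB⁻¹ x'⁻¹ ≠ 0 := by
      rw [LocDual.vDiff_eq Q.1 ΦQ hΦQ γB⁻¹ x'⁻¹]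
      exact mul_ne_zero (Q.1.ne_zero_iff.mpr (inv_ne_zero hγB0)) hs1ne
    obtain ⟨h1, h2⟩ := AdjLoc.local_adjoint hK k⟮x'⟯ ζ htrζ hratζ (x'⁻¹ * y) hgenB mB hmBmonic
      (by rw [hmBnat, G.hdK]) hmBη P Q e he hPζ hmc ΦQ hΦQ
      (by rw [hmBder, hζc]; exact hneB)
    rw [hmBder, hζc] at h1 h2
    obtain ⟨t, ht⟩ : ∃ t : ℤ, t = ((d : ℤ) - 3) * D Q := ⟨_, rfl⟩
    rw [← ht] at hordB ⊢
    refine ⟨by omega, ?_⟩
    have e2 : t - ordDiff ΦQ γ₀⁻¹ x = 0 ↔ ordDiff ΦQ γB⁻¹ x'⁻¹ = 0 := by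
      rw [hordB]; omega
    rw [e2, h2]
    constructor
    · intro hloc; exact ns_of_loc_B G Q hsle hloc
    · intro hns z hz; exact loc_of_ns_B G Q hns hsle z hz

end Groth.Agent.Helper6.AdjMain
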