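import Mathlib
import Groth.Agent.Helper6.LocQ10

/-!
# Helper6: cancelling a covering functor on the right of `RepByAlgSpWith P`
-/

set_option autoImplicit false
set_option linter.style.haveILetI false
set_option linter.unusedVariables false
universe u

namespace Groth.Agent.Helper6.RepCancel
open CategoryTheory Functor FibCat Limits AlgebraicGeometry Opposite
open Groth.Agent.Helper3 Stk Groth.Agent.Helper6.OfPsh Groth.Agent.Helper6.OfPshHom
open Groth.Agent.Helper6.FpTools Groth.Agent.Helper6.OfPshFp Groth.Agent.Helper6.AlgStRep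
open Groth.Agent.Helper6.AlgStEquiv Groth.Agent.Helper6.AlgStInv Groth.Agent.Helper6.AlgStPsh
open Groth.Agent.Helper6.DiagRed Groth.Agent.Helper6.RepDiag Groth.Agent.Helper6.RepComp
open Groth.Agent.Helper6.DiagRep Groth.Agent.Helper6.AlgStPts Groth.Agent.Helper6.StPts
open Groth.Agent.Helper6.SmLoc Groth.Agent.Helper6.ChartOver Groth.Agent.Helper6.StTop
open Groth.Agent.Helper6.QcMor2 Groth.Agent.Helper6.SpAtlas Groth.Agent.Helper4.SDClasses
open Groth.Agent.Helper6.Descent1 Groth.Agent.Helper6.Descent2 Groth.Agent.Helper6.LocQ0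
open Groth.Agent.Helper6.LocQ1 Groth.Agent.Helper6.LocQ2 Groth.Agent.Helper6.AlgStBC
open Groth.Agent.Helper6.OverRep Groth.Agent.Helper6.LocQ3 Groth.Agent.Helper6.LocQ4
open Groth.Agent.Helper6.FlatST Groth.Agent.Helper6.DiagLft Groth.Agent.Helper6.ToSpace
open AlgSp


variable {S : Scheme.{u}} {𝒳 𝒴 𝒵 : AlgSt.Cat S}

set_option backward.isDefEq.respectTransparency.types false in
/-- generic cancellation: if `x ≫ y` has `P`, `y` is representable and `P` can be tested after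
precomposing with any base change of `x` to an algebraic space, then `y` has `P` -/
theorem rep_of_comp_of_cancel (P : MorphismProperty (Sp S))
    (x : 𝒳 ⥤ᵇ 𝒴) (y : 𝒴 ⥤ᵇ 𝒵) (hy : AlgSt.RepByAlgSp1 y)
    (h : AlgSt.RepByAlgSpWith P (BasedFunctor.comp x y))
    (hcancel : ∀ (F G : AlgSp.Space S) (c : F.obj ⟶ G.obj) (w : AlgSt.ofSp G.obj ⥤ᵇ 𝒴)
      (e' : AlgSt.ofSp F.obj ⥤ᵇ fp w x), IsEquivOver e' →
      (BasedFunctor.comp e' (fpFst w x) ≅ AlgSt.ofSpMap c) →
      ∀ (U : Over S) (g : G.obj ⟶ (yon S).obj U), P (c ≫ g) → P g) :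
    AlgSt.RepByAlgSpWith P y := by
  intro U t
  obtain ⟨G, eG, heG⟩ := hy U t
  obtain ⟨F, eF, heF, hPF⟩ := h U t
  obtain ⟨K, hK, -, ⟨ε⟩⟩ := EquivOver.symm (isEquivOver_compFunctor t y x eG heG)
  let w : AlgSt.ofSp G.obj ⥤ᵇ 𝒴 := BasedFunctor.comp eG (fpSnd t y)
  let e' : AlgSt.ofSp F.obj ⥤ᵇ fp w x := BasedFunctor.comp eF K
  let c : F.obj ⟶ G.obj := ObjectProperty.homMk (homOf (BasedFunctor.comp e' (fpFst w x)))
  have i : BasedFunctor.comp e' (fpFst w x) ≅ AlgSt.ofSpMap c :=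
    isoHomOf (BasedFunctor.comp e' (fpFst w x))
  refine ⟨G, eG, heG, hcancel F G c w e' (isEquivOver_comp heF hK) i U _ ?_⟩
  rw [← spMapOfOver_ofSpMap_comp]
  have j1 : BasedFunctor.comp (AlgSt.ofSpMap c) (BasedFunctor.comp eG (fpFst t y)) ≅
      BasedFunctor.comp (BasedFunctor.comp e' (fpFst w x)) (BasedFunctor.comp eG (fpFst t y)) :=
    whiskerRightIso' i.symm _
  have j2 : BasedFunctor.comp (BasedFunctor.comp e' (fpFst w x))
      (BasedFunctor.comp eG (fpFst t y)) ≅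
      BasedFunctor.comp (BasedFunctor.comp eF (BasedFunctor.comp K (compFunctor t y x eG)))
        (fpFst t (BasedFunctor.comp x y)) := Iso.refl _
  have j3 : BasedFunctor.comp (BasedFunctor.comp eF (BasedFunctor.comp K (compFunctor t y x eG)))
        (fpFst t (BasedFunctor.comp x y)) ≅
      BasedFunctor.comp (BasedFunctor.comp eF (BasedFunctor.id _))
        (fpFst t (BasedFunctor.comp x y)) :=
    whiskerRightIso' (whiskerLeftIso' eF ε) _
  have j4 : BasedFunctor.comp (BasedFunctor.comp eF (BasedFunctor.id _))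
        (fpFst t (BasedFunctor.comp x y)) ≅
      BasedFunctor.comp eF (fpFst t (BasedFunctor.comp x y)) := Iso.refl _
  rw [spMapOfOver_congr (j1 ≪≫ j2 ≪≫ j3 ≪≫ j4)]
  exact hPF

/-- cancellation from a covering class `C` for which `P` is local on the source -/
theorem rep_of_comp_cover (P C : MorphismProperty (Sp S))
    (hP' : AlgSp.IsLocalOnSource (fun _ _ Y g => AlgSp.IsCover C Y g) P)
    (x : 𝒳 ⥤ᵇ 𝒴) (y : 𝒴 ⥤ᵇ 𝒵) (hy : AlgSt.RepByAlgSp1 y)
    (hC : ∀ (F G : AlgSp.Space S) (c : F.obj ⟶ G.obj) (w : AlgSt.ofSp G.obj ⥤ᵇ 𝒴)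
      (e' : AlgSt.ofSp F.obj ⥤ᵇ fp w x), IsEquivOver e' →
      (BasedFunctor.comp e' (fpFst w x) ≅ AlgSt.ofSpMap c) → C c)
    (hx₂ : AlgSt.RepByAlgSpWith AlgSp.IsSurjectiveMor x)
    (h : AlgSt.RepByAlgSpWith P (BasedFunctor.comp x y)) : AlgSt.RepByAlgSpWith P y := by
  refine rep_of_comp_of_cancel P x y hy h ?_
  intro F G c w e' he' i U g hPg
  have hCc : C c := hC F G c w e' he' i
  have hs : IsSurjectiveMor c :=
    isSurjectiveMor_of_rep F.property G.property c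
      (repByAlgSpWith_of_baseChange IsSurjectiveMor x w (AlgSt.ofSpMap c) e' he' i hx₂)
  have := hP' (ι := PUnit.{u + 1}) (X := G.obj) (fun _ => F.obj) (fun _ => c) G.property
    (fun _ => F.property) ⟨fun _ => hCc, fun pt => ⟨PUnit.unit, hs pt⟩⟩ g
    (IsAlgSpace.yon_obj U)
  exact this.2 fun _ => hPg

set_option backward.isDefEq.respectTransparency.types false in
/-- S12849 -/
theorem rep_of_comp_smooth_surjective (P : MorphismProperty (Sp S))
    (hP' : AlgSp.IsLocalOnSource AlgSp.IsSmCover P)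
    (x : 𝒳 ⥤ᵇ 𝒴) (y : 𝒴 ⥤ᵇ 𝒵) (hy : AlgSt.RepByAlgSp1 y)
    (hx₁ : AlgSt.RepByAlgSpWith (AlgSp.LocP @Smooth) x)
    (hx₂ : AlgSt.RepByAlgSpWith AlgSp.IsSurjectiveMor x)
    (h : AlgSt.RepByAlgSpWith P (BasedFunctor.comp x y)) : AlgSt.RepByAlgSpWith P y :=
  rep_of_comp_cover P (LocP @Smooth) hP' x y hy
    (fun F G c w e' he' i => locP_of_rep @Smooth F.property G.property c
      (repByAlgSpWith_of_baseChange _ x w (AlgSt.ofSpMap c) e' he' i hx₁)) hx₂ h

set_option backward.isDefEq.respectTransparency.types false in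
/-- S12850 -/
theorem rep_of_comp_etale_surjective (P : MorphismProperty (Sp S))
    (hP' : AlgSp.IsLocalOnSource AlgSp.IsEtCover P)
    (x : 𝒳 ⥤ᵇ 𝒴) (y : 𝒴 ⥤ᵇ 𝒵) (hy : AlgSt.RepByAlgSp1 y)
    (hx₁ : AlgSt.RepByAlgSpWith AlgSp.IsEtaleMor x)
    (hx₂ : AlgSt.RepByAlgSpWith AlgSp.IsSurjectiveMor x)
    (h : AlgSt.RepByAlgSpWith P (BasedFunctor.comp x y)) : AlgSt.RepByAlgSpWith P y :=
  rep_of_comp_cover P IsEtaleMor hP' x y hy
    (fun F G c w e' he' i =>
      Groth.Agent.Helper5.AlgSpEt.isEtaleMor_of_locP_etale F.property G.property c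
        (locP_of_rep @Etale F.property G.property c
          (repByAlgSpWith_of_baseChange _ x w (AlgSt.ofSpMap c) e' he' i
            (repByAlgSpWith_mono
              (fun _ _ f hf => Groth.Agent.Helper5.AlgSpEt.locP_etale_of_isEtaleMor f hf) hx₁))))
    hx₂ h

set_option backward.isDefEq.respectTransparency.types false in
/-- S12851 -/
theorem rep_of_comp_fppf_surjective (P : MorphismProperty (Sp S))
    (hP' : AlgSp.IsLocalOnSource AlgSp.IsFppfCover P)
    (x : 𝒳 ⥤ᵇ 𝒴) (y : 𝒴 ⥤ᵇ 𝒵) (hy : AlgSt.RepByAlgSp1 y)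
    (hx₁ : AlgSt.RepByAlgSpWith (AlgSp.LocP @Flat) x)
    (hx₂ : AlgSt.RepByAlgSpWith (AlgSp.LocP @LocallyOfFinitePresentation) x)
    (hx₃ : AlgSt.RepByAlgSpWith AlgSp.IsSurjectiveMor x)
    (h : AlgSt.RepByAlgSpWith P (BasedFunctor.comp x y)) : AlgSt.RepByAlgSpWith P y :=
  rep_of_comp_cover P (fun _ _ f => LocP @Flat f ∧ LocP @LocallyOfFinitePresentation f) hP' x y hy
    (fun F G c w e' he' i =>
      ⟨locP_of_rep @Flat F.property G.property c
        (repByAlgSpWith_of_baseChange _ x w (AlgSt.ofSpMap c) e' he' i hx₁),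
       locP_of_rep @LocallyOfFinitePresentation F.property G.property c
        (repByAlgSpWith_of_baseChange _ x w (AlgSt.ofSpMap c) e' he' i hx₂)⟩) hx₃ h

end Groth.Agent.Helper6.RepCancel
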