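import Mathlib
import Groth.Agent.Helper6.RepCancel

/-!
# Helper6: pullback squares of sheaves from 2-cartesian squares of their categories
-/

set_option autoImplicit false
set_option linter.style.haveILetI false
set_option linter.unusedVariables false
universe u

namespace Groth.Agent.Helper6.SpSquare
open CategoryTheory Functor FibCat Limits AlgebraicGeometry Opposite
open Groth.Agent.Helper3 Stk Groth.Agent.Helper6.OfPsh Groth.Agent.Helper6.OfPshHom
open Groth.Agent.Helper6.FpTools Groth.Agent.Helper6.OfPshFp Groth.Agent.Helper6.AlgStRep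
open Groth.Agent.Helper6.AlgStEquiv Groth.Agent.Helper6.AlgStInv Groth.Agent.Helper6.AlgStPsh
open Groth.Agent.Helper6.DiagRed Groth.Agent.Helper6.RepDiag Groth.Agent.Helper6.RepComp
open Groth.Agent.Helper6.DiagRep Groth.Agent.Helper6.AlgStPts Groth.Agent.Helper6.StPts
open Groth.Agent.Helper6.SmLoc Groth.Agent.Helper6.ChartOver Groth.Agent.Helper6.StTop
open Groth.Agent.Helper6.QcMor2 Groth.Agent.Helper6.SpAtlas Groth.Agent.Helper4.SDClasses
open Groth.Agent.Helper6.Descent1 Groth.Agent.Helper6.Descent2 Groth.Agent.Helper6.LocQ0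
open Groth.Agent.Helper6.LocQ1 Groth.Agent.Helper6.LocQ2 Groth.Agent.Helper6.AlgStBC
open Groth.Agent.Helper6.OverRep Groth.Agent.Helper6.LocQ3 Groth.Agent.Helper6.LocQ4
open Groth.Agent.Helper6.FlatST Groth.Agent.Helper6.DiagLft Groth.Agent.Helper6.ToSpace
open AlgSp



variable {S : Scheme.{u}} {𝒳 𝒴 𝒵 : AlgSt.Cat S}

set_option backward.isDefEq.respectTransparency.types false in
/-- a 2-cartesian square of categories of sheaves is a pullback square of sheaves -/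
theorem isPullback_of_isEquivOver {A B C' X : Sp S} (a : A ⟶ C') (b : B ⟶ C') (p₁ : X ⟶ A)
    (p₂ : X ⟶ B) (E : AlgSt.ofSp X ⥤ᵇ fp (AlgSt.ofSpMap a) (AlgSt.ofSpMap b)) (hE : IsEquivOver E)
    (i₁ : BasedFunctor.comp E (fpFst _ _) ≅ AlgSt.ofSpMap p₁)
    (i₂ : BasedFunctor.comp E (fpSnd _ _) ≅ AlgSt.ofSpMap p₂) : IsPullback p₁ p₂ a b := by
  have sq : IsPullback (pullback.fst a b) (pullback.snd a b) a b := IsPullback.of_hasPullback a b
  have sqP : IsPullback (pullback.fst a b).hom (pullback.snd a b).hom a.hom b.hom :=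
    sq.map (sheafToPresheaf (AlgSp.J S) (Type (u + 1)))
  have hT := isEquivOver_toFp sqP
  obtain ⟨K, hK, -, ⟨ε⟩⟩ := EquivOver.symm hT
  let Θ : AlgSt.ofSp X ⥤ᵇ AlgSt.ofSp (pullback a b) := BasedFunctor.comp E K
  have hΘ : IsEquivOver Θ := isEquivOver_comp hE hK
  let θ : X.obj ≅ (pullback a b).obj := isoOfIsEquivOver Θ hΘ
  let θ' : X ≅ pullback a b :=
    (fullyFaithfulSheafToPresheaf (AlgSp.J S) _).preimageIso (X := X) (Y := pullback a b) θ
  have hθ' : θ'.hom.hom = homOf Θ := rfl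
  have h1 : θ'.hom ≫ pullback.fst a b = p₁ := by
    apply ObjectProperty.hom_ext
    change homOf Θ ≫ (pullback.fst a b).hom = p₁.hom
    have j : BasedFunctor.comp Θ (ofPshMap (pullback.fst a b).hom) ≅ ofPshMap p₁.hom :=
      (Iso.refl _ : BasedFunctor.comp Θ (ofPshMap (pullback.fst a b).hom) ≅
        BasedFunctor.comp E (BasedFunctor.comp (BasedFunctor.comp K (toFp sqP.w)) (fpFst _ _))) ≪≫
      whiskerLeftIso' E (whiskerRightIso' ε (fpFst _ _)) ≪≫ i₁
    have := homOf_congr j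
    rw [homOf_comp, homOf_ofPshMap, homOf_ofPshMap] at this
    exact this
  have h2 : θ'.hom ≫ pullback.snd a b = p₂ := by
    apply ObjectProperty.hom_ext
    change homOf Θ ≫ (pullback.snd a b).hom = p₂.hom
    have j : BasedFunctor.comp Θ (ofPshMap (pullback.snd a b).hom) ≅ ofPshMap p₂.hom :=
      (Iso.refl _ : BasedFunctor.comp Θ (ofPshMap (pullback.snd a b).hom) ≅
        BasedFunctor.comp E (BasedFunctor.comp (BasedFunctor.comp K (toFp sqP.w)) (fpSnd _ _))) ≪≫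
      whiskerLeftIso' E (whiskerRightIso' ε (fpSnd _ _)) ≪≫ i₂
    have := homOf_congr j
    rw [homOf_comp, homOf_ofPshMap, homOf_ofPshMap] at this
    exact this
  exact IsPullback.of_iso sq θ'.symm (Iso.refl _) (Iso.refl _) (Iso.refl _)
    (by rw [Iso.refl_hom, Category.comp_id, Iso.symm_hom, ← h1, Iso.inv_hom_id_assoc])
    (by rw [Iso.refl_hom, Category.comp_id, Iso.symm_hom, ← h2, Iso.inv_hom_id_assoc])
    (by simp) (by simp)

set_option backward.isDefEq.respectTransparency.types false in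
/-- base changes of `f` to two charts from sheaves, one factoring through the other, form a pullback
square of sheaves -/
theorem exists_isPullback_of_charts (f : 𝒳 ⥤ᵇ 𝒴) {G G₁ F F₁ : Sp S}
    (w : AlgSt.ofSp G ⥤ᵇ 𝒴) (h : G₁ ⟶ G) (w₁ : AlgSt.ofSp G₁ ⥤ᵇ 𝒴)
    (κ : BasedFunctor.comp (AlgSt.ofSpMap h) w ≅ w₁)
    (e : AlgSt.ofSp F ⥤ᵇ fp w f) (he : IsEquivOver e) (c : F ⟶ G)
    (i : BasedFunctor.comp e (fpFst w f) ≅ AlgSt.ofSpMap c)
    (e₁ : AlgSt.ofSp F₁ ⥤ᵇ fp w₁ f) (he₁ : IsEquivOver e₁) (c₁ : F₁ ⟶ G₁)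
    (i₁ : BasedFunctor.comp e₁ (fpFst w₁ f) ≅ AlgSt.ofSpMap c₁) :
    ∃ d : F₁ ⟶ F, IsPullback d c₁ c h ∧
      Nonempty (BasedFunctor.comp (AlgSt.ofSpMap d) (BasedFunctor.comp e (fpSnd w f)) ≅
        BasedFunctor.comp e₁ (fpSnd w₁ f)) := by
  have θA : BasedFunctor.comp w₁ (BasedFunctor.id _) ≅
      BasedFunctor.comp (BasedFunctor.id _) (BasedFunctor.comp (AlgSt.ofSpMap h) w) := κ.symm
  have ηA : BasedFunctor.comp f (BasedFunctor.id _) ≅ BasedFunctor.comp (BasedFunctor.id _) f :=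
    Iso.refl _
  let A : fp w₁ f ⥤ᵇ fp (BasedFunctor.comp (AlgSt.ofSpMap h) w) f :=
    cospanFunctor (BasedFunctor.comp (AlgSt.ofSpMap h) w) f w₁ f (BasedFunctor.id _)
      (BasedFunctor.id _) (BasedFunctor.id _) θA ηA
  have hA : IsEquivOver A :=
    isEquivOver_cospanFunctor _ _ _ _ _ _ _ θA ηA (isEquivOver_id _) (isEquivOver_id _)
      (isEquivOver_id _)
  let B := pasteLeft (AlgSt.ofSpMap h) w f
  have hB : IsEquivOver B := isEquivOver_pasteLeft (AlgSt.ofSpMap h) w f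
  let L : AlgSt.ofSp F₁ ⥤ᵇ fp (AlgSt.ofSpMap h) (fpFst w f) :=
    BasedFunctor.comp e₁ (BasedFunctor.comp A B)
  have hL : IsEquivOver L := isEquivOver_comp he₁ (isEquivOver_comp hA hB)
  have θR : BasedFunctor.comp (AlgSt.ofSpMap h) (BasedFunctor.id _) ≅
      BasedFunctor.comp (BasedFunctor.id _) (AlgSt.ofSpMap h) := Iso.refl _
  have ηR : BasedFunctor.comp (AlgSt.ofSpMap c) (BasedFunctor.id _) ≅
      BasedFunctor.comp e (fpFst w f) := i.symm
  let R : fp (AlgSt.ofSpMap h) (AlgSt.ofSpMap c) ⥤ᵇ fp (AlgSt.ofSpMap h) (fpFst w f) :=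
    cospanFunctor (AlgSt.ofSpMap h) (fpFst w f) (AlgSt.ofSpMap h) (AlgSt.ofSpMap c)
      (BasedFunctor.id _) e (BasedFunctor.id _) θR ηR
  have hR : IsEquivOver R :=
    isEquivOver_cospanFunctor _ _ _ _ _ _ _ θR ηR (isEquivOver_id _) he (isEquivOver_id _)
  obtain ⟨KR, hKR, -, ⟨ε⟩⟩ := EquivOver.symm hR
  let E : AlgSt.ofSp F₁ ⥤ᵇ fp (AlgSt.ofSpMap c) (AlgSt.ofSpMap h) :=
    BasedFunctor.comp L (BasedFunctor.comp KR (fpSwap (AlgSt.ofSpMap h) (AlgSt.ofSpMap c)))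
  have hE : IsEquivOver E :=
    isEquivOver_comp hL (isEquivOver_comp hKR (isEquivOver_fpSwap _ _))
  let d : F₁ ⟶ F := ObjectProperty.homMk (homOf (BasedFunctor.comp E (fpFst _ _)))
  have id₁ : BasedFunctor.comp E (fpFst _ _) ≅ AlgSt.ofSpMap d :=
    isoHomOf (BasedFunctor.comp E (fpFst _ _))
  have i₂ : BasedFunctor.comp E (fpSnd _ _) ≅ AlgSt.ofSpMap c₁ :=
    (Iso.refl _ : BasedFunctor.comp E (fpSnd _ _) ≅
      BasedFunctor.comp L (BasedFunctor.comp (BasedFunctor.comp KR R) (fpFst _ _))) ≪≫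
    whiskerLeftIso' L (whiskerRightIso' ε (fpFst _ _)) ≪≫
    (Iso.refl _ : BasedFunctor.comp L (BasedFunctor.comp (BasedFunctor.id _) (fpFst _ _)) ≅
      BasedFunctor.comp e₁ (fpFst w₁ f)) ≪≫ i₁
  refine ⟨d, isPullback_of_isEquivOver c h d c₁ E hE id₁ i₂, ⟨?_⟩⟩
  exact whiskerRightIso' id₁.symm (BasedFunctor.comp e (fpSnd w f)) ≪≫
    (Iso.refl _ : BasedFunctor.comp (BasedFunctor.comp E (fpFst _ _))
        (BasedFunctor.comp e (fpSnd w f)) ≅
      BasedFunctor.comp L (BasedFunctor.comp (BasedFunctor.comp KR R)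
        (BasedFunctor.comp (fpSnd _ _) (fpSnd w f)))) ≪≫
    whiskerLeftIso' L (whiskerRightIso' ε (BasedFunctor.comp (fpSnd _ _) (fpSnd w f))) ≪≫
    (Iso.refl _ : BasedFunctor.comp L (BasedFunctor.comp (BasedFunctor.id _)
        (BasedFunctor.comp (fpSnd _ _) (fpSnd w f))) ≅ BasedFunctor.comp e₁ (fpSnd w₁ f))

end Groth.Agent.Helper6.SpSquare
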