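import Mathlib
import Groth.Agent.Helper6.SpSquare
import Groth.Agent.Helper6.TauLib

/-!
# Helper6: composition of functors with a property tested on affine charts (affine, integral, finite)
-/

set_option autoImplicit false
set_option linter.style.haveILetI false
set_option linter.unusedVariables false
universe u

namespace Groth.Agent.Helper6.AffComp
open CategoryTheory Functor FibCat Limits AlgebraicGeometry Opposite
open Groth.Agent.Helper3 Stk Groth.Agent.Helper6.OfPsh Groth.Agent.Helper6.OfPshHom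
open Groth.Agent.Helper6.FpTools Groth.Agent.Helper6.OfPshFp Groth.Agent.Helper6.AlgStRep
open Groth.Agent.Helper6.AlgStEquiv Groth.Agent.Helper6.AlgStInv Groth.Agent.Helper6.AlgStPsh
open Groth.Agent.Helper6.DiagRed Groth.Agent.Helper6.RepDiag Groth.Agent.Helper6.RepComp
open Groth.Agent.Helper6.DiagRep Groth.Agent.Helper6.AlgStPts Groth.Agent.Helper6.StPts
open Groth.Agent.Helper6.SmLoc Groth.Agent.Helper6.ChartOver Groth.Agent.Helper6.StTop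
open Groth.Agent.Helper6.QcMor2 Groth.Agent.Helper6.SpAtlas Groth.Agent.Helper4.SDClasses
open Groth.Agent.Helper6.Descent1 Groth.Agent.Helper6.Descent2 Groth.Agent.Helper6.LocQ0
open Groth.Agent.Helper6.LocQ1 Groth.Agent.Helper6.LocQ2 Groth.Agent.Helper6.AlgStBC
open Groth.Agent.Helper6.OverRep Groth.Agent.Helper6.LocQ3 Groth.Agent.Helper6.LocQ4
open Groth.Agent.Helper6.FlatST Groth.Agent.Helper6.DiagLft Groth.Agent.Helper6.ToSpace
open Groth.Agent.Helper6.SpSquare AlgSp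



variable {S : Scheme.{u}} {𝒳 𝒴 𝒵 : AlgSt.Cat S}

/-- properties of maps of sheaves tested on the pullbacks to affine schemes -/
def AffP (𝒜 : ∀ ⦃W Z : Over S⦄, (W ⟶ Z) → Prop) : MorphismProperty (Sp S) := fun F G f =>
  ∀ ⦃Z : Over S⦄, IsAffine Z.left → ∀ (g : (yon S).obj Z ⟶ G),
    ∃ (W : Over S) (i : W ⟶ Z) (fst : (yon S).obj W ⟶ F),
      IsPullback fst ((yon S).map i) f g ∧ 𝒜 i

set_option backward.isDefEq.respectTransparency.types false in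
/-- composition of functors with a property tested on affine charts -/
theorem affP_comp_stack (𝒜 : ∀ ⦃W Z : Over S⦄, (W ⟶ Z) → Prop)
    (haff : ∀ ⦃W Z : Over S⦄ (i : W ⟶ Z), 𝒜 i → IsAffine W.left)
    (hcomp : ∀ ⦃W₂ W₁ Z : Over S⦄ (i₂ : W₂ ⟶ W₁) (i₁ : W₁ ⟶ Z), 𝒜 i₂ → 𝒜 i₁ → 𝒜 (i₂ ≫ i₁))
    (h𝒳 : IsFibGrpd 𝒳.p) (h𝒴 : IsFibGrpd 𝒴.p) (f : 𝒳 ⥤ᵇ 𝒴) (g : 𝒴 ⥤ᵇ 𝒵)
    (hf : AlgSt.RepByAlgSpWith (AffP 𝒜) f) (hg : AlgSt.RepByAlgSpWith (AffP 𝒜) g) :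
    AlgSt.RepByAlgSpWith (AffP 𝒜) (BasedFunctor.comp f g) := by
  intro U t
  obtain ⟨G, eG, heG, hAG⟩ := hg U t
  let w : AlgSt.ofSp G.obj ⥤ᵇ 𝒴 := BasedFunctor.comp eG (fpSnd t g)
  have hftop : AlgSt.RepByAlgSpWith ⊤ f := repByAlgSpWith_mono le_top hf
  obtain ⟨F, e, c, he, ⟨i⟩, -⟩ := Groth.Agent.Helper6.RepComp.exists_space_of_rep ⊤
    Groth.Agent.Helper6.TauLib.isLocalOnBase_top h𝒳 h𝒴 f hftop G w
  refine ⟨F, BasedFunctor.comp e (compFunctor t g f eG),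
    isEquivOver_comp he (isEquivOver_compFunctor t g f eG heG), ?_⟩
  have h1 : AlgSt.spMapOfOver (BasedFunctor.comp (BasedFunctor.comp e (compFunctor t g f eG))
      (fpFst t (BasedFunctor.comp f g))) =
      c ≫ AlgSt.spMapOfOver (BasedFunctor.comp eG (fpFst t g)) := by
    rw [← spMapOfOver_ofSpMap_comp]
    exact spMapOfOver_congr (whiskerRightIso' i (BasedFunctor.comp eG (fpFst t g)))
  rw [h1]
  intro Z hZ ζ
  obtain ⟨W₁, i₁, fst₁, sq₁, hA₁⟩ := hAG hZ ζ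
  have hW₁ : IsAffine W₁.left := haff i₁ hA₁
  let w₁ : AlgSt.ofSp ((yon S).obj W₁) ⥤ᵇ 𝒴 := BasedFunctor.comp (AlgSt.ofSpMap fst₁) w
  let y₁ : overCat W₁ ⥤ᵇ 𝒴 := BasedFunctor.comp (AlgSt.ofOverCat W₁) w₁
  obtain ⟨F₁, e₁', he₁', hAF₁⟩ := hf W₁ y₁
  obtain ⟨W₂, i₂, fst₂, sq₂, hA₂⟩ := hAF₁ hW₁ (𝟙 _)
  have θ : BasedFunctor.comp y₁ (BasedFunctor.id _) ≅
      BasedFunctor.comp (AlgSt.ofOverCat W₁) w₁ := Iso.refl _
  have η : BasedFunctor.comp f (BasedFunctor.id _) ≅ BasedFunctor.comp (BasedFunctor.id _) f :=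
    Iso.refl _
  let e₁ : AlgSt.ofSp F₁.obj ⥤ᵇ fp w₁ f :=
    BasedFunctor.comp e₁' (cospanFunctor w₁ f y₁ f (AlgSt.ofOverCat W₁) (BasedFunctor.id _)
      (BasedFunctor.id _) θ η)
  have he₁ : IsEquivOver e₁ :=
    isEquivOver_comp he₁' (isEquivOver_cospanFunctor _ _ _ _ _ _ _ θ η (isEquivOver_ofOverCat W₁)
      (isEquivOver_id _) (isEquivOver_id _))
  obtain ⟨c', ⟨κ'⟩⟩ := exists_ofSpMap_iso (BasedFunctor.comp e₁' (fpFst y₁ f))
  have hc' : AlgSt.spMapOfOver (BasedFunctor.comp e₁' (fpFst y₁ f)) = c' := by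
    rw [spMapOfOver_congr κ', spMapOfOver_ofSpMap_toOverCat]
  rw [hc'] at sq₂
  have i₁' : BasedFunctor.comp e₁ (fpFst w₁ f) ≅ AlgSt.ofSpMap c' :=
    (Iso.refl _ : BasedFunctor.comp e₁ (fpFst w₁ f) ≅
      BasedFunctor.comp (BasedFunctor.comp e₁' (fpFst y₁ f)) (AlgSt.ofOverCat W₁)) ≪≫
    whiskerRightIso' κ' (AlgSt.ofOverCat W₁)
  obtain ⟨d, sqd, -⟩ := exists_isPullback_of_charts f w fst₁ w₁ (Iso.refl _) e he c i e₁ he₁ c' i₁'
  refine ⟨W₂, i₂ ≫ i₁, fst₂ ≫ d, ?_, hcomp i₂ i₁ hA₂ hA₁⟩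
  have top : IsPullback (fst₂ ≫ d) ((yon S).map i₂) c fst₁ := by
    have := IsPullback.paste_horiz sq₂ sqd
    rwa [Category.id_comp] at this
  rw [Functor.map_comp]
  exact IsPullback.paste_vert top sq₁

end Groth.Agent.Helper6.AffComp
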