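import Mathlib
import Groth.Agent.Helper6.AffComp
import Groth.Agent.Helper6.OfComp

/-!
# Helper6: cancellation for properties tested on affine charts
-/

set_option autoImplicit false
set_option linter.style.haveILetI false
set_option linter.unusedVariables false
universe u

namespace Groth.Agent.Helper6.AffCancel
open CategoryTheory Functor FibCat Limits AlgebraicGeometry Opposite
open Groth.Agent.Helper3 Stk Groth.Agent.Helper6.OfPsh Groth.Agent.Helper6.OfPshHom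
open Groth.Agent.Helper6.FpTools Groth.Agent.Helper6.OfPshFp Groth.Agent.Helper6.AlgStRep
open Groth.Agent.Helper6.AlgStEquiv Groth.Agent.Helper6.AlgStInv Groth.Agent.Helper6.AlgStPsh
open Groth.Agent.Helper6.DiagRed Groth.Agent.Helper6.RepDiag Groth.Agent.Helper6.RepComp
open Groth.Agent.Helper6.DiagRep Groth.Agent.Helper6.AlgStPts Groth.Agent.Helper6.StPts
open Groth.Agent.Helper6.SmLoc Groth.Agent.Helper6.ChartOver Groth.Agent.Helper6.StTop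
open Groth.Agent.Helper6.QcMor2 Groth.Agent.Helper6.SpAtlas Groth.Agent.Helper4.SDClasses
open Groth.Agent.Helper6.Descent1 Groth.Agent.Helper6.Descent2 Groth.Agent.Helper6.LocQ0
open Groth.Agent.Helper6.LocQ1 Groth.Agent.Helper6.LocQ2 Groth.Agent.Helper6.AlgStBC
open Groth.Agent.Helper6.OverRep Groth.Agent.Helper6.LocQ3 Groth.Agent.Helper6.LocQ4
open Groth.Agent.Helper6.FlatST Groth.Agent.Helper6.DiagLft Groth.Agent.Helper6.ToSpace
open Groth.Agent.Helper6.SpSquare Groth.Agent.Helper6.AffComp AlgSp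




variable {S : Scheme.{u}} {𝒳 𝒴 𝒵 : AlgSt.Cat S}

set_option backward.isDefEq.respectTransparency.types false in
/-- cancellation: if `a ≅ f ≫ b` and the diagonal of `b` have a property tested on affine charts,
so does `f` -/
theorem affP_cancel (𝒜 : ∀ ⦃W Z : Over S⦄, (W ⟶ Z) → Prop)
    (haff : ∀ ⦃W Z : Over S⦄ (i : W ⟶ Z), 𝒜 i → IsAffine W.left)
    (hcomp : ∀ ⦃W₂ W₁ Z : Over S⦄ (i₂ : W₂ ⟶ W₁) (i₁ : W₁ ⟶ Z), 𝒜 i₂ → 𝒜 i₁ → 𝒜 (i₂ ≫ i₁))
    (h𝒳 : IsFibGrpd 𝒳.p) (h𝒴 : IsFibGrpd 𝒴.p) (h𝒵 : IsFibGrpd 𝒵.p)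
    (f : 𝒳 ⥤ᵇ 𝒴) (a : 𝒳 ⥤ᵇ 𝒵) (b : 𝒴 ⥤ᵇ 𝒵) (e : BasedFunctor.comp f b ≅ a)
    (ha : AlgSt.RepByAlgSpWith (AffP 𝒜) a) (hΔ : AlgSt.RepByAlgSpWith (AffP 𝒜) (diag b)) :
    AlgSt.RepByAlgSpWith (AffP 𝒜) f := by
  have hfb : AlgSt.RepByAlgSpWith (AffP 𝒜) (BasedFunctor.comp f b) :=
    Groth.Agent.Helper6.AlgStSpMap.repByAlgSpWith_of_iso _ e ha
  let e' : BasedFunctor.comp (BasedFunctor.id 𝒳) (BasedFunctor.comp f b) ≅ BasedFunctor.comp f b :=
    Iso.refl _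
  have h1 : AlgSt.RepByAlgSpWith (AffP 𝒜) (fpLift (BasedFunctor.id 𝒳) f e') :=
    repByAlgSpWith_graph _ (BasedFunctor.comp f b) b f e' hΔ
  have h2 : AlgSt.RepByAlgSpWith (AffP 𝒜) (fpSnd (BasedFunctor.comp f b) b) :=
    repByAlgSpWith_of_baseChange _ (BasedFunctor.comp f b) b (fpSnd (BasedFunctor.comp f b) b)
      (fpSwap (BasedFunctor.comp f b) b) (isEquivOver_fpSwap _ _) (Iso.refl _) hfb
  have h3 := affP_comp_stack 𝒜 haff hcomp h𝒳
    (isFibGrpd_fp (BasedFunctor.comp f b) b h𝒳 h𝒴 h𝒵) _ _ h1 h2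
  exact Groth.Agent.Helper6.AlgStSpMap.repByAlgSpWith_of_iso _
    (Iso.refl _ : f ≅ BasedFunctor.comp (fpLift (BasedFunctor.id 𝒳) f e')
      (fpSnd (BasedFunctor.comp f b) b)) h3

end Groth.Agent.Helper6.AffCancel
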