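import Mathlib

/-!
# Bijectivity can be checked after a jointly faithfully flat family of base changes
-/

open TensorProduct

namespace Groth.Agent.Helper6.FlatFamily

universe u

/-- If `A'` is a flat `A`-algebra with a prime `𝔮` containing the image of the annihilator of
`m`, then `m ⊗ 1 ≠ 0` in `M ⊗ A'`. -/
theorem tmul_one_ne_zero {A : Type*} [CommRing A] {M : Type*} [AddCommGroup M] [Module A M] (m : M)
    {A' : Type*} [CommRing A'] [Algebra A A'] [Module.Flat A A'] (𝔮 : Ideal A') [h𝔮 : 𝔮.IsPrime]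
    (h : ∀ r : A, r • m = 0 → algebraMap A A' r ∈ 𝔮) :
    m ⊗ₜ[A] (1 : A') ≠ 0 := by
  intro h0
  let I : Ideal A := LinearMap.ker (LinearMap.toSpanSingleton A M m)
  let ι : A ⧸ I →ₗ[A] M := Submodule.liftQ I (LinearMap.toSpanSingleton A M m) le_rfl
  have hι : Function.Injective ι := by
    rw [← LinearMap.ker_eq_bot]
    exact Submodule.ker_liftQ_eq_bot _ _ _ le_rfl
  have hflat := Module.Flat.rTensor_preserves_injective_linearMap (M := A') ι hι
  have h1 : (ι.rTensor A') ((Submodule.Quotient.mk (1 : A)) ⊗ₜ[A] (1 : A')) = m ⊗ₜ[A] (1 : A') := by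
    rw [LinearMap.rTensor_tmul]
    congr 1
    show (LinearMap.toSpanSingleton A M m) 1 = m
    simp
  have h2 : ((Submodule.Quotient.mk (1 : A) : A ⧸ I)) ⊗ₜ[A] (1 : A') = 0 := by
    apply hflat
    rw [h1, h0, map_zero]
  have hI : ∀ a : A, a ∈ I → (Algebra.ofId A (A' ⧸ 𝔮)) a = 0 := by
    intro a ha
    have ha' : a • m = 0 := by
      have : (LinearMap.toSpanSingleton A M m) a = 0 := ha
      simpa using this
    have := h a ha'
    show algebraMap A (A' ⧸ 𝔮) a = 0
    rw [IsScalarTower.algebraMap_apply A A' (A' ⧸ 𝔮)]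
    exact Ideal.Quotient.eq_zero_iff_mem.2 this
  let ρ : (A ⧸ I) ⊗[A] A' →ₐ[A] A' ⧸ 𝔮 :=
    Algebra.TensorProduct.productMap (Ideal.Quotient.liftₐ I (Algebra.ofId A (A' ⧸ 𝔮)) hI)
      (Ideal.Quotient.mkₐ A 𝔮)
  have h3 : ρ (((Submodule.Quotient.mk (1 : A) : A ⧸ I)) ⊗ₜ[A] (1 : A')) = 1 := by
    show ρ ((1 : A ⧸ I) ⊗ₜ[A] (1 : A')) = 1
    rw [Algebra.TensorProduct.productMap_apply_tmul, map_one, map_one, mul_one]
  rw [h2, map_zero] at h3
  have : (1 : A') ∈ 𝔮 := by
    rw [← Ideal.Quotient.eq_zero_iff_mem]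
    exact h3.symm
  exact h𝔮.ne_top ((Ideal.eq_top_iff_one _).2 this)

/-- Bijectivity of `A → B` can be checked after base change to a family of flat `A`-algebras
that jointly see all maximal ideals. -/
theorem bijective_of_flat_family {A B : Type u} [CommRing A] [CommRing B] [Algebra A B]
    (H : ∀ 𝔪 : Ideal A, 𝔪.IsMaximal → ∃ (A' : Type u) (_ : CommRing A') (_ : Algebra A A'),
      Module.Flat A A' ∧ (∃ 𝔮 : Ideal A', 𝔮.IsPrime ∧ 𝔪 ≤ 𝔮.comap (algebraMap A A')) ∧
        Function.Bijective (Algebra.TensorProduct.includeRight : A' →ₐ[A] B ⊗[A] A')) :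
    Function.Bijective (algebraMap A B) := by
  constructor
  · rw [injective_iff_map_eq_zero]
    intro a ha
    by_contra hne
    let I : Ideal A := LinearMap.ker (LinearMap.toSpanSingleton A A a)
    have hI : I ≠ ⊤ := by
      intro htop
      have : (1 : A) ∈ I := htop ▸ Submodule.mem_top
      have h1 : (LinearMap.toSpanSingleton A A a) 1 = 0 := this
      simp at h1
      exact hne h1
    obtain ⟨𝔪, h𝔪, hI𝔪⟩ := Ideal.exists_le_maximal I hI
    obtain ⟨A', _, _, hflat, ⟨𝔮, h𝔮, h𝔪𝔮⟩, hbij⟩ := H 𝔪 h𝔪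
    haveI := hflat
    haveI := h𝔮
    refine tmul_one_ne_zero (A := A) (M := A) a (A' := A') 𝔮 ?_ ?_
    · intro r hr
      have : r ∈ I := by
        show (LinearMap.toSpanSingleton A A a) r = 0
        simpa using hr
      exact h𝔪𝔮 (hI𝔪 this)
    · apply (TensorProduct.lid A A').injective
      rw [map_zero, TensorProduct.lid_tmul]
      apply hbij.1
      rw [map_zero]
      show (1 : B) ⊗ₜ[A] (a • (1 : A')) = 0
      rw [← TensorProduct.smul_tmul, Algebra.smul_def, mul_one, ha, TensorProduct.zero_tmul]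
  · intro b
    by_contra hb
    let N : Submodule A B := LinearMap.range (Algebra.linearMap A B)
    have hbN : b ∉ N := by
      rintro ⟨a, ha⟩
      exact hb ⟨a, ha⟩
    let m : B ⧸ N := N.mkQ b
    have hm : m ≠ 0 := by
      intro h0
      exact hbN ((Submodule.Quotient.mk_eq_zero N).1 h0)
    let I : Ideal A := LinearMap.ker (LinearMap.toSpanSingleton A (B ⧸ N) m)
    have hI : I ≠ ⊤ := by
      intro htop
      have : (1 : A) ∈ I := htop ▸ Submodule.mem_top
      have h1 : (LinearMap.toSpanSingleton A (B ⧸ N) m) 1 = 0 := this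
      simp at h1
      exact hm h1
    obtain ⟨𝔪, h𝔪, hI𝔪⟩ := Ideal.exists_le_maximal I hI
    obtain ⟨A', _, _, hflat, ⟨𝔮, h𝔮, h𝔪𝔮⟩, hbij⟩ := H 𝔪 h𝔪
    haveI := hflat
    haveI := h𝔮
    refine tmul_one_ne_zero (A := A) (M := B ⧸ N) m (A' := A') 𝔮 ?_ ?_
    · intro r hr
      have : r ∈ I := by
        show (LinearMap.toSpanSingleton A (B ⧸ N) m) r = 0
        simpa using hr
      exact h𝔪𝔮 (hI𝔪 this)
    · obtain ⟨c, hc⟩ := hbij.2 (b ⊗ₜ[A] (1 : A'))
      have hc' : (1 : B) ⊗ₜ[A] c = b ⊗ₜ[A] (1 : A') := hc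
      have h1 : m ⊗ₜ[A] (1 : A') = (N.mkQ.rTensor A') (b ⊗ₜ[A] (1 : A')) := by
        rw [LinearMap.rTensor_tmul]
      rw [h1, ← hc', LinearMap.rTensor_tmul]
      have h2 : N.mkQ (1 : B) = 0 := by
        rw [Submodule.mkQ_apply, Submodule.Quotient.mk_eq_zero]
        exact ⟨1, by simp⟩
      rw [h2, TensorProduct.zero_tmul]

end Groth.Agent.Helper6.FlatFamily
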