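import Mathlib
import Groth.Agent.Helper6.FlatFamily
import Groth.Agent.S13709

/-!
# Isomorphisms descend along flat surjective base change, for quasi-compact morphisms
-/

open CategoryTheory CategoryTheory.Limits AlgebraicGeometry TensorProduct

namespace Groth.Agent.Helper6.IsoDesc

universe u

/-- a pushout square of commutative rings whose right vertical map is an isomorphism gives
bijectivity of `includeRight`. -/
theorem includeRight_bijective_of_isPushout {A B A' B' : CommRingCat.{u}} (φ : A ⟶ B) (ψ : A ⟶ A')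
    (ψ' : B ⟶ B') (φ' : A' ⟶ B') (h : IsPushout φ ψ ψ' φ') [IsIso φ'] :
    Function.Bijective (@Algebra.TensorProduct.includeRight A B A' _ _ φ.hom.toAlgebra _
      ψ.hom.toAlgebra) := by
  letI := φ.hom.toAlgebra
  letI := ψ.hom.toAlgebra
  have h0 : IsPushout φ ψ
      (CommRingCat.ofHom (S := B ⊗[A] A') <| Algebra.TensorProduct.includeLeftRingHom)
      (CommRingCat.ofHom (S := B ⊗[A] A') <| Algebra.TensorProduct.includeRight.toRingHom) :=
    CommRingCat.isPushout_tensorProduct A B A'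
  let e := h0.isoIsPushout _ _ h
  have he : (CommRingCat.ofHom (S := B ⊗[A] A') <|
      (Algebra.TensorProduct.includeRight : A' →ₐ[A] B ⊗[A] A').toRingHom) = φ' ≫ e.inv := by
    rw [Iso.eq_comp_inv]
    exact h0.inr_isoIsPushout_hom _ _ h
  have hiso : IsIso (CommRingCat.ofHom (S := B ⊗[A] A') <|
      (Algebra.TensorProduct.includeRight : A' →ₐ[A] B ⊗[A] A').toRingHom) := by
    rw [he]; infer_instance
  exact (ConcreteCategory.isIso_iff_bijective _).1 hiso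

theorem isIso_appLE_of_isIso {X Y : Scheme.{u}} (φ : X ⟶ Y) [IsIso φ] (V : Y.Opens) (U : X.Opens)
    (hU : U = φ ⁻¹ᵁ V) (e : U ≤ φ ⁻¹ᵁ V) : IsIso (φ.appLE V U e) := by
  subst hU
  rw [Scheme.Hom.appLE_eq_app]
  infer_instance

theorem isIso_appLE_of_affine {X Y Y' : Scheme.{u}} (f : X ⟶ Y) (g : Y' ⟶ Y) [Flat g] [Surjective g]
    [IsIso (pullback.snd f g)] (W : Y.Opens) (hW : IsAffineOpen W)
    (hU : IsAffineOpen (f ⁻¹ᵁ W)) :
    IsIso (f.appLE W (f ⁻¹ᵁ W) le_rfl) := by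
  letI algB : Algebra Γ(Y, W) Γ(X, f ⁻¹ᵁ W) := (f.appLE W (f ⁻¹ᵁ W) le_rfl).hom.toAlgebra
  rw [ConcreteCategory.isIso_iff_bijective]
  show Function.Bijective (algebraMap Γ(Y, W) Γ(X, f ⁻¹ᵁ W))
  apply Groth.Agent.Helper6.FlatFamily.bijective_of_flat_family
  intro 𝔪 h𝔪
  -- the point of `W` attached to `𝔪`
  let 𝔭 : Spec Γ(Y, W) := (⟨𝔪, h𝔪.isPrime⟩ : PrimeSpectrum Γ(Y, W))
  let x₀ : (W : Scheme.{u}) := hW.isoSpec.inv 𝔭
  have hx₀ : hW.primeIdealOf x₀ = 𝔭 := by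
    show hW.isoSpec.hom (hW.isoSpec.inv 𝔭) = 𝔭
    simp
  obtain ⟨y', hy'⟩ := g.surjective x₀.1
  have hy'W : y' ∈ g ⁻¹ᵁ W := by
    show g y' ∈ W
    rw [hy']
    exact x₀.2
  obtain ⟨V', hV', hy'V', hV'W⟩ :=
    (TopologicalSpace.Opens.isBasis_iff_nbhd.1 Y'.isBasis_affineOpens) hy'W
  have hV'aff : IsAffineOpen V' := hV'
  have hflat : (g.appLE W V' hV'W).hom.Flat :=
    (HasRingHomProperty.iff_appLE (P := @Flat)).1 inferInstance ⟨W, hW⟩ ⟨V', hV'aff⟩ hV'W
  letI algA' : Algebra Γ(Y, W) Γ(Y', V') := (g.appLE W V' hV'W).hom.toAlgebra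
  refine ⟨Γ(Y', V'), inferInstance, algA', hflat,
    ⟨(hV'aff.primeIdealOf ⟨y', hy'V'⟩).asIdeal, inferInstance, ?_⟩, ?_⟩
  · have h1 := IsAffineOpen.comap_primeIdealOf_appLE (f := g) (x := y') W hW V' hV'aff hV'W hy'V'
    have h2 : hW.primeIdealOf ⟨g y', hV'W hy'V'⟩ = 𝔭 := by
      rw [← hx₀]
      congr 1
      exact Subtype.ext hy'
    rw [h2] at h1
    have h3 := congrArg PrimeSpectrum.asIdeal h1
    exact le_of_eq h3.symm
  · -- the pushout square
    have H : IsPullback (pullback.fst f g) (pullback.snd f g) f g := IsPullback.of_hasPullback f g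
    have hiso1 := isIso_pushoutSection_of_isAffineOpen H (US := W) (UT := V') (UX := f ⁻¹ᵁ W)
      hV'W le_rfl (UY := pullback.fst f g ⁻¹ᵁ (f ⁻¹ᵁ W) ⊓ pullback.snd f g ⁻¹ᵁ V') rfl hW hV'aff hU
    have hpo := (isIso_pushoutSection_iff H hV'W le_rfl rfl).1 hiso1
    have hUY : pullback.fst f g ⁻¹ᵁ (f ⁻¹ᵁ W) ⊓ pullback.snd f g ⁻¹ᵁ V' =
        pullback.snd f g ⁻¹ᵁ V' := by
      apply inf_eq_right.2
      intro z hz
      show f (pullback.fst f g z) ∈ W
      have hc : f (pullback.fst f g z) = g (pullback.snd f g z) := by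
        have := pullback.condition (f := f) (g := g)
        have h2 := congrArg (fun φ : pullback f g ⟶ Y => φ z) this
        simpa using h2
      rw [hc]
      exact hV'W hz
    haveI := isIso_appLE_of_isIso (pullback.snd f g) V' _ hUY
      (show pullback.fst f g ⁻¹ᵁ (f ⁻¹ᵁ W) ⊓ pullback.snd f g ⁻¹ᵁ V' ≤ pullback.snd f g ⁻¹ᵁ V' from
        inf_le_right)
    exact includeRight_bijective_of_isPushout _ _ _ _ hpo

set_option backward.isDefEq.respectTransparency false in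
theorem isIso_of_affine_cover {X Y : Scheme.{u}} (f : X ⟶ Y) {ι : Type u} (U : ι → Y.affineOpens)
    (hU : ⨆ i, (U i : Y.Opens) = ⊤)
    (h : ∀ i, IsAffine (f ⁻¹ᵁ (U i).1) ∧ IsIso (f ∣_ (U i).1).appTop) : IsIso f := by
  rw [← MorphismProperty.isomorphisms.iff,
    HasAffineProperty.iff_of_iSup_eq_top (P := MorphismProperty.isomorphisms Scheme.{u}) U hU]
  exact h

theorem isIso_comp_eqToHom {C : Type*} [Category C] {A B B' : C} (φ : A ⟶ B) (h : B = B')
    (hφ : IsIso φ) : IsIso (φ ≫ eqToHom h) := by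
  subst h
  simpa using hφ

/-- the main descent statement -/
theorem isIso_of_isIso_baseChange {X Y Y' : Scheme.{u}} (f : X ⟶ Y) (g : Y' ⟶ Y) [Flat g]
    [Surjective g] [QuasiCompact f] [IsIso (pullback.snd f g)] : IsIso f := by
  have hhomeo : IsHomeomorph f.base :=
    Groth.Agent.S13709.result f g (pullback.snd f g).homeomorph.isHomeomorph
  have key : ∀ y : Y, ∃ W : Y.affineOpens, y ∈ W.1 ∧ IsAffineOpen (f ⁻¹ᵁ W.1) := by
    intro y
    obtain ⟨x, rfl⟩ := hhomeo.surjective y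
    obtain ⟨V, hV, hxV, -⟩ := (TopologicalSpace.Opens.isBasis_iff_nbhd.1 Y.isBasis_affineOpens)
      (show f x ∈ (⊤ : Y.Opens) from trivial)
    have hVaff : IsAffineOpen V := hV
    obtain ⟨W₀, hW₀, hxW₀, hW₀V⟩ := (TopologicalSpace.Opens.isBasis_iff_nbhd.1 X.isBasis_affineOpens)
      (show x ∈ f ⁻¹ᵁ V from hxV)
    have hW₀aff : IsAffineOpen W₀ := hW₀
    have hopen : IsOpen (f '' (W₀ : Set X)) := hhomeo.isOpenMap _ W₀.isOpen
    obtain ⟨s, hs1, hs2⟩ := hVaff.exists_basicOpen_le (V := ⟨f '' (W₀ : Set X), hopen⟩)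
      ⟨f x, ⟨x, hxW₀, rfl⟩⟩ hxV
    refine ⟨⟨Y.basicOpen s, hVaff.basicOpen s⟩, hs2, ?_⟩
    have hpre : f ⁻¹ᵁ Y.basicOpen s = X.basicOpen (X.presheaf.map (homOfLE hW₀V).op (f.app V s)) := by
      rw [Scheme.basicOpen_res, ← Scheme.preimage_basicOpen]
      apply (inf_eq_right.2 _).symm
      intro z hz
      obtain ⟨w, hw, hwz⟩ := hs1 hz
      have : w = z := hhomeo.injective hwz
      rw [← this]
      exact hw
    show IsAffineOpen (f ⁻¹ᵁ Y.basicOpen s)
    rw [hpre]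
    exact hW₀aff.basicOpen _
  choose W hyW hWaff using key
  have hcov : ⨆ y, ((W y : Y.affineOpens) : Y.Opens) = ⊤ := by
    rw [eq_top_iff]
    intro y _
    exact TopologicalSpace.Opens.mem_iSup.2 ⟨y, hyW y⟩
  apply isIso_of_affine_cover f W hcov
  intro y
  refine ⟨hWaff y, ?_⟩
  rw [morphismRestrict_appTop]
  have h1 := isIso_appLE_of_affine f g (W y).1 (W y).2 (hWaff y)
  rw [Scheme.Hom.appLE_eq_app] at h1
  have h2 : ∀ (U₁ U₂ : Y.Opens), U₁ = U₂ → IsIso (f.app U₂) → IsIso (f.app U₁) := by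
    intro U₁ U₂ h
    subst h
    exact id
  have h3 := h2 _ _ (Scheme.Opens.ι_image_top (W y).1) h1
  rw [eqToHom_op, eqToHom_map]
  exact isIso_comp_eqToHom _ _ h3

end Groth.Agent.Helper6.IsoDesc
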