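import Mathlib
import Groth.Agent.Helper6.IsoDesc
universe u
open CategoryTheory Limits MorphismProperty AlgebraicGeometry

namespace Groth.Agent.Helper6.AffDesc

theorem isIso_snd_congr {X Z W : Scheme.{u}} (φ : X ⟶ Z) {g g' : W ⟶ Z} (h : g = g')
    (hg : IsIso (pullback.snd φ g)) : IsIso (pullback.snd φ g') := by
  subst h; exact hg

/-- family version of `IsoDesc.isIso_of_isIso_baseChange` -/
theorem isIso_of_isIso_baseChange_family {X Z : Scheme.{u}} (φ : X ⟶ Z) [QuasiCompact φ]
    {J : Type u} (W : J → Scheme.{u}) (g : ∀ j, W j ⟶ Z) [∀ j, Flat (g j)]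
    (hsurj : ∀ z : Z, ∃ j, z ∈ Set.range (g j))
    (hiso : ∀ j, IsIso (pullback.snd φ (g j))) : IsIso φ := by
  let G : (∐ W) ⟶ Z := Sigma.desc g
  have hG : Surjective G := by
    refine ⟨fun z => ?_⟩
    obtain ⟨j, w, rfl⟩ := hsurj z
    refine ⟨Sigma.ι W j w, ?_⟩
    rw [← Scheme.Hom.comp_apply, Sigma.ι_desc]
  have hflat : Flat G := inferInstance
  have hisoG : IsIso (pullback.snd φ G) := by
    rw [← MorphismProperty.isomorphisms.iff,
      IsZariskiLocalAtTarget.iff_of_openCover (P := MorphismProperty.isomorphisms Scheme.{u})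
        (AlgebraicGeometry.sigmaOpenCover W)]
    intro (j : J)
    show IsIso (pullback.snd (pullback.snd φ G) (Sigma.ι W j))
    have h1 : IsIso (pullback.snd φ (Sigma.ι W j ≫ G)) :=
      isIso_snd_congr φ (Sigma.ι_desc g j).symm (hiso j)
    have h2 : pullback.snd (pullback.snd φ G) (Sigma.ι W j) =
        (pullbackLeftPullbackSndIso φ G (Sigma.ι W j)).hom ≫ pullback.snd φ (Sigma.ι W j ≫ G) := by
      simp
    rw [h2]
    infer_instance
  exact Groth.Agent.Helper6.IsoDesc.isIso_of_isIso_baseChange φ G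


lemma appLE_top_top {X Y : Scheme.{u}} (f : X ⟶ Y) (e : (⊤ : X.Opens) ≤ f ⁻¹ᵁ ⊤) :
    f.appLE ⊤ ⊤ e = f.appTop := Scheme.Hom.appLE_eq_app f (U := ⊤)

set_option backward.isDefEq.respectTransparency.types false in
/-- adapted from `Groth.Agent.Lead.SchDescent2.isAffine_of_isPullback`, without surjectivity. -/
theorem isPullback_toSpecΓ {X Y' S₀ T : Scheme.{u}} {f : T ⟶ S₀} {g' : Y' ⟶ X} {iX : X ⟶ S₀}
    {iY : Y' ⟶ T} (H : IsPullback g' iY iX f) [IsAffine S₀] [IsAffine T]
    [Flat f] [CompactSpace X] [QuasiSeparatedSpace X] :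
    IsPullback Y'.toSpecΓ g' (Spec.map g'.appTop) X.toSpecΓ ∧
    IsPullback (Spec.map iY.appTop) (Spec.map g'.appTop) (Spec.map f.appTop)
      (Spec.map iX.appTop) := by
  have hiso : IsIso (pushoutSection H (US := ⊤) (UT := ⊤) (UX := ⊤) (UY := ⊤)
      (by simp) (by simp) (by simp)) := by
    apply isIso_pushoutSection_of_isQuasiSeparated_of_flat_right
    · exact isAffineOpen_top S₀
    · exact isAffineOpen_top T
    · exact isCompact_univ
    · exact isQuasiSeparated_univ
  have hpo := (isIso_pushoutSection_iff H _ _ _).mp hiso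
  simp only [appLE_top_top] at hpo
  have t : IsPullback (Spec.map iY.appTop) (Spec.map g'.appTop) (Spec.map f.appTop)
      (Spec.map iX.appTop) := by
    have := hpo.op.map Scheme.Spec
    exact this
  have s0 : IsPullback g' (iY ≫ T.toSpecΓ) (iX ≫ S₀.toSpecΓ) (Spec.map f.appTop) := by
    refine IsPullback.of_iso H (Iso.refl _) (Iso.refl _) (asIso T.toSpecΓ) (asIso S₀.toSpecΓ)
      (by simp) (by simp) (by simp) ?_
    simp [Scheme.toSpecΓ_naturality]
  have s1 : IsPullback (Y'.toSpecΓ ≫ Spec.map iY.appTop) g' (Spec.map f.appTop)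
      (X.toSpecΓ ≫ Spec.map iX.appTop) := by
    rw [← Scheme.toSpecΓ_naturality, ← Scheme.toSpecΓ_naturality]
    exact s0.flip
  exact ⟨IsPullback.of_right s1 (Scheme.toSpecΓ_naturality g').symm t, t⟩

set_option backward.isDefEq.respectTransparency.types false in
/-- affineness descends along a jointly surjective family of flat maps from affines. -/
theorem isAffine_of_family {X S₀ : Scheme.{u}} (iX : X ⟶ S₀) [IsAffine S₀] [CompactSpace X]
    [QuasiSeparatedSpace X] {J : Type u} (T Y' : J → Scheme.{u}) (f : ∀ j, T j ⟶ S₀)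
    (g' : ∀ j, Y' j ⟶ X) (iY : ∀ j, Y' j ⟶ T j) (H : ∀ j, IsPullback (g' j) (iY j) iX (f j))
    [∀ j, IsAffine (T j)] [∀ j, IsAffine (Y' j)] [∀ j, Flat (f j)]
    (hsurj : ∀ s : S₀, ∃ j, s ∈ Set.range (f j)) : IsAffine X := by
  have hqc : QuasiCompact X.toSpecΓ := by
    rw [HasAffineProperty.iff_of_isAffine (P := @QuasiCompact)]
    infer_instance
  have hA := fun j => isPullback_toSpecΓ (H j)
  have hflat : ∀ j, Flat (Spec.map (g' j).appTop) := by
    intro j
    have h0 : Flat (Spec.map (f j).appTop) := by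
      rw [Flat.SpecMap_iff]
      exact Scheme.Hom.flat_appTop (f j)
    exact MorphismProperty.of_isPullback (P := @Flat) (hA j).2 h0
  have : IsIso X.toSpecΓ := by
    refine isIso_of_isIso_baseChange_family X.toSpecΓ (fun j => Spec Γ(Y' j, ⊤))
      (fun j => Spec.map (g' j).appTop) ?_ ?_
    · intro z
      obtain ⟨s, hs⟩ := (S₀.isoSpec.hom.homeomorph).surjective (Spec.map iX.appTop z)
      obtain ⟨j, t, rfl⟩ := hsurj s
      refine ⟨j, ?_⟩
      have h1 : Spec.map (f j).appTop ((T j).toSpecΓ t) = Spec.map iX.appTop z := by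
        rw [← hs, ← Scheme.Hom.comp_apply, ← Scheme.toSpecΓ_naturality]
        rfl
      obtain ⟨p, -, hp⟩ := Scheme.exists_preimage_of_isPullback (hA j).2 _ _ h1
      exact ⟨p, hp⟩
    · intro j
      have h2 : pullback.snd X.toSpecΓ (Spec.map (g' j).appTop) =
          (hA j).1.flip.isoPullback.inv ≫ (Y' j).toSpecΓ := by
        rw [Iso.eq_inv_comp]
        exact (hA j).1.flip.isoPullback_hom_snd
      rw [h2]
      infer_instance
  exact ⟨this⟩

end Groth.Agent.Helper6.AffDesc
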