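import Groth.Agent.Helper6.AffDim1

/-!
# The affine dimension theorem, part 2
-/

set_option autoImplicit false
universe u

namespace Groth.Agent.Helper6.AffDim

open MvPolynomial

variable (k : Type u) [Field k] (N : ℕ) {B : Type u} [CommRing B] [Algebra k B]
  (π : MvPolynomial (Fin N) k →ₐ[k] B)

section Setup

variable (𝔮 : Ideal (MvPolynomial (Fin N) k)) (φ : B →+* MvPolynomial (Fin N) k ⧸ 𝔮)
  (hφ : ∀ r, φ (π r) = Ideal.Quotient.mk 𝔮 r)

/-- coordinates of the generic point -/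
noncomputable def xbar : Fin N → B := fun i => π (X i)

/-- the inclusion `k[x] → B[x]` -/
noncomputable def ι : MvPolynomial (Fin N) k →+* MvPolynomial (Fin N) B :=
  MvPolynomial.map (algebraMap k B)

theorem ι_C (c : k) : ι k N (B := B) (C c) = C (algebraMap k B c) := by
  rw [ι, map_C]

theorem ι_X (i : Fin N) : ι k N (B := B) (X i) = X i := by
  rw [ι, map_X]

theorem π_C (c : k) : π (C c) = algebraMap k B c := by
  rw [← MvPolynomial.algebraMap_eq, AlgHom.commutes]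

/-- the diagonal map -/
noncomputable def δ : MvPolynomial (Fin N) B →+* MvPolynomial (Fin N) k ⧸ 𝔮 :=
  eval₂Hom φ (fun i => Ideal.Quotient.mk 𝔮 (X i))

include hφ in
theorem δ_ι (r : MvPolynomial (Fin N) k) : δ k N 𝔮 φ (ι k N r) = Ideal.Quotient.mk 𝔮 r := by
  have : (δ k N 𝔮 φ).comp (ι k N) = Ideal.Quotient.mk 𝔮 := by
    apply MvPolynomial.ringHom_ext
    · intro c
      rw [RingHom.comp_apply, ι_C, δ, coe_eval₂Hom, eval₂_C, ← π_C k N π, hφ]
    · intro i
      rw [RingHom.comp_apply, ι_X, δ, coe_eval₂Hom, eval₂_X]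
  exact RingHom.congr_fun this r

include hφ in
theorem δ_surjective : Function.Surjective (δ k N 𝔮 φ) := by
  intro y
  obtain ⟨r, rfl⟩ := Ideal.Quotient.mk_surjective y
  exact ⟨ι k N r, δ_ι k N π 𝔮 φ hφ r⟩

theorem eval_ι (r : MvPolynomial (Fin N) k) : eval (xbar k N π) (ι k N r) = π r := by
  have : (eval (xbar k N π)).comp (ι k N) = (π : MvPolynomial (Fin N) k →+* B) := by
    apply MvPolynomial.ringHom_ext
    · intro c
      rw [RingHom.comp_apply, ι_C, eval_C]
      exact (π_C k N π c).symm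
    · intro i
      rw [RingHom.comp_apply, ι_X, eval_X]
      rfl
  exact RingHom.congr_fun this r

theorem ι_sub_C_mem (r : MvPolynomial (Fin N) k) :
    ι k N r - C (π r) ∈ ptIdeal (xbar k N π) := by
  have := sub_C_eval_mem (xbar k N π) (ι k N r)
  rwa [eval_ι] at this

include hφ in
theorem ptIdeal_le_ker : ptIdeal (xbar k N π) ≤ RingHom.ker (δ k N 𝔮 φ) := by
  rw [ptIdeal, Ideal.span_le]
  rintro _ ⟨i, rfl⟩
  rw [SetLike.mem_coe, RingHom.mem_ker, map_sub, δ, coe_eval₂Hom, eval₂_X, eval₂_C, xbar, hφ,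
    sub_self]

include hφ in
theorem comap_ker : (RingHom.ker (δ k N 𝔮 φ)).comap (ι k N) = 𝔮 := by
  ext r
  rw [Ideal.mem_comap, RingHom.mem_ker, δ_ι k N π 𝔮 φ hφ, Ideal.Quotient.eq_zero_iff_mem]

end Setup

section Minimal

variable (P Q 𝔮 : Ideal (MvPolynomial (Fin N) k)) (h𝔮 : 𝔮 ∈ (P ⊔ Q).minimalPrimes)
  (hQ : ∀ r, r ∈ Q → π r = 0) (hπ : Function.Surjective π)
  (φ : B →+* MvPolynomial (Fin N) k ⧸ 𝔮) (hφ : ∀ r, φ (π r) = Ideal.Quotient.mk 𝔮 r)

include h𝔮 hQ hπ hφ in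
theorem ker_mem_minimalPrimes :
    RingHom.ker (δ k N 𝔮 φ) ∈
      (P.map (ι k N (B := B)) ⊔ ptIdeal (xbar k N π)).minimalPrimes := by
  haveI h𝔮prime : 𝔮.IsPrime := h𝔮.1.1
  have hP𝔮 : P ≤ 𝔮 := le_sup_left.trans h𝔮.1.2
  haveI hkerprime : (RingHom.ker (δ k N 𝔮 φ)).IsPrime := RingHom.ker_isPrime _
  refine ⟨⟨hkerprime, sup_le ?_ (ptIdeal_le_ker k N π 𝔮 φ hφ)⟩, ?_⟩
  · rw [Ideal.map_le_iff_le_comap, comap_ker k N π 𝔮 φ hφ]
    exact hP𝔮
  · rintro 𝔔' ⟨h𝔔'prime, h𝔔'le⟩ hle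
    have hΔ : ptIdeal (xbar k N π) ≤ 𝔔' := le_sup_right.trans h𝔔'le
    -- the contraction of `𝔔'` is `𝔮`
    have hcomap : 𝔔'.comap (ι k N) = 𝔮 := by
      apply le_antisymm
      · rw [← comap_ker k N π 𝔮 φ hφ]
        exact Ideal.comap_mono hle
      · apply h𝔮.2 ⟨Ideal.comap_isPrime _ _, ?_⟩
        · rw [← comap_ker k N π 𝔮 φ hφ]
          exact Ideal.comap_mono hle
        · refine sup_le ?_ ?_
          · rw [← Ideal.map_le_iff_le_comap]
            exact le_sup_left.trans h𝔔'le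
          · intro r hr
            rw [Ideal.mem_comap]
            have h1 := ι_sub_C_mem k N π r
            rw [hQ r hr, map_zero, sub_zero] at h1
            exact hΔ h1
    intro s hs
    obtain ⟨r, hr⟩ := hπ (eval (xbar k N π) s)
    have h1 := sub_C_eval_mem (xbar k N π) s
    have h2 := ι_sub_C_mem k N π r
    rw [hr] at h2
    -- `s ≡ ι r` modulo the point ideal
    have h3 : s - ι k N r ∈ ptIdeal (xbar k N π) := by
      have : s - ι k N r = (s - C (eval (xbar k N π) s)) -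
          (ι k N r - C (eval (xbar k N π) s)) := by ring
      rw [this]
      exact sub_mem h1 h2
    have h4 : ι k N r ∈ RingHom.ker (δ k N 𝔮 φ) := by
      have : ι k N r = s - (s - ι k N r) := by ring
      rw [this]
      exact sub_mem hs (ptIdeal_le_ker k N π 𝔮 φ hφ h3)
    have h5 : r ∈ 𝔮 := by
      rw [← comap_ker k N π 𝔮 φ hφ]
      exact h4
    have h6 : ι k N r ∈ 𝔔' := by
      rw [← hcomap] at h5
      exact h5
    have : s = (s - ι k N r) + ι k N r := by ring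
    rw [this]
    exact add_mem (hΔ h3) h6

end Minimal

end Groth.Agent.Helper6.AffDim
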