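import Mathlib
import Groth.Agent.Helper6.PlaneAlg
import Groth.Agent.Helper5.FGExist

set_option autoImplicit false
set_option linter.style.haveILetI false
set_option linter.unusedSectionVars false

/-!
# The affine coordinate ring `k[x, y]` as an intersection of the rings `O_P[y]`
-/

namespace Groth.Agent.Helper6.AffInter

open FunFld
open Groth.Agent.Helper5
open Groth.Agent.Helper6.PlaneAlg
open scoped IntermediateField
open Polynomial

universe u v
variable {k : Type u} {K : Type v} [Field k] [Field K] [Algebra k K]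

/-! ### integrality and valuations -/

theorem val_adjoin_le (P : Place k K) {x : K} (hx : P.1 x ≤ 1) {a : K}
    (ha : a ∈ Algebra.adjoin k ({x} : Set K)) : P.1 a ≤ 1 := by
  rw [Algebra.adjoin_singleton_eq_range_aeval k x] at ha
  obtain ⟨q, rfl⟩ := ha
  exact FF.val_aeval_le P hx q

theorem val_le_one_of_isIntegral (P : Place k K) {x y : K} (hx : P.1 x ≤ 1)
    (hy : IsIntegral (Algebra.adjoin k ({x} : Set K)) y) : P.1 y ≤ 1 := by
  by_contra h
  push Not at h
  obtain ⟨f, hfm, hf0⟩ := hy
  rw [Polynomial.eval₂_eq_sum_range, Finset.sum_range_succ, hfm.coeff_natDegree, map_one,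
    one_mul] at hf0
  have hy0 : P.1 y ≠ 0 := (zero_lt_one.trans h).ne'
  have hlt : P.1 (∑ i ∈ Finset.range f.natDegree,
      algebraMap (Algebra.adjoin k ({x} : Set K)) K (f.coeff i) * y ^ i) <
        P.1 y ^ f.natDegree := by
    apply Valuation.map_sum_lt _ (pow_ne_zero _ hy0)
    intro i hi
    rw [map_mul, map_pow]
    have h1 : P.1 (algebraMap (Algebra.adjoin k ({x} : Set K)) K (f.coeff i)) ≤ 1 :=
      val_adjoin_le P hx (f.coeff i).2
    calc P.1 (algebraMap (Algebra.adjoin k ({x} : Set K)) K (f.coeff i)) * P.1 y ^ i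
        ≤ 1 * P.1 y ^ i := mul_le_mul' h1 le_rfl
      _ = P.1 y ^ i := one_mul _
      _ < P.1 y ^ f.natDegree := pow_lt_pow_right₀ h (Finset.mem_range.mp hi)
  have e : y ^ f.natDegree = -(∑ i ∈ Finset.range f.natDegree,
      algebraMap (Algebra.adjoin k ({x} : Set K)) K (f.coeff i) * y ^ i) :=
    eq_neg_of_add_eq_zero_right hf0
  rw [← map_pow, e, Valuation.map_neg] at hlt
  exact lt_irrefl _ hlt

/-! ### the rational function field `k(x)` -/

section Rational

variable {x : K}

theorem coe_aeval_gen (x : K) (p : k[X]) :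
    ((aeval (IntermediateField.AdjoinSimple.gen k x) p : k⟮x⟯) : K) = aeval x p := by
  have h := Polynomial.aeval_algHom_apply (k⟮x⟯.val) (IntermediateField.AdjoinSimple.gen k x) p
  exact h.symm

theorem transcendental_gen (hx : Transcendental k x) :
    Transcendental k (IntermediateField.AdjoinSimple.gen k x) := by
  intro h
  exact hx ((isAlgebraic_algHom_iff (k⟮x⟯.val) Subtype.val_injective).mpr h)

theorem aeval_gen_mem (x : K) (p : k[X]) :
    aeval (IntermediateField.AdjoinSimple.gen k x) p ∈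
      k⟮IntermediateField.AdjoinSimple.gen k x⟯ := by
  have h1 : Algebra.adjoin k ({IntermediateField.AdjoinSimple.gen k x} : Set k⟮x⟯) ≤
      k⟮IntermediateField.AdjoinSimple.gen k x⟯.toSubalgebra :=
    Algebra.adjoin_le (by simpa using IntermediateField.mem_adjoin_simple_self k _)
  exact h1 (Polynomial.aeval_mem_adjoin_singleton k _)

theorem adjoin_gen_eq_top (x : K) :
    k⟮IntermediateField.AdjoinSimple.gen k x⟯ = (⊤ : IntermediateField k k⟮x⟯) := by
  rw [eq_top_iff]
  rintro ⟨z, hz⟩ -
  obtain ⟨r, s, hrs⟩ := (IntermediateField.mem_adjoin_simple_iff k z).mp hz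
  have e : (⟨z, hz⟩ : k⟮x⟯) = aeval (IntermediateField.AdjoinSimple.gen k x) r /
      aeval (IntermediateField.AdjoinSimple.gen k x) s := by
    apply Subtype.ext
    rw [IntermediateField.coe_div, coe_aeval_gen, coe_aeval_gen]
    exact hrs
  rw [e]
  exact div_mem (aeval_gen_mem x r) (aeval_gen_mem x s)

theorem finite_of_eq_top {F : Type*} [Field F] [Algebra k F] (E : IntermediateField k F)
    (h : E = ⊤) : FiniteDimensional E F := by
  subst h
  exact Module.Finite.of_surjective (Algebra.linearMap (⊤ : IntermediateField k F) F)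
    (fun z => ⟨⟨z, IntermediateField.mem_top⟩, rfl⟩)

theorem isFF_adjoin (hx : Transcendental k x) : FG.IsFF k k⟮x⟯ :=
  ⟨IntermediateField.AdjoinSimple.gen k x, transcendental_gen hx,
    finite_of_eq_top _ (adjoin_gen_eq_top x)⟩

/-- a rational function regular at all finite places is a polynomial. -/
theorem exists_aeval_eq_of_regular [IsAlgClosed k] (hx : Transcendental k x) (c : k⟮x⟯)
    (hc : ∀ P : Place k k⟮x⟯, P.1 (IntermediateField.AdjoinSimple.gen k x) ≤ 1 → P.1 c ≤ 1) :
    ∃ q : k[X], aeval (IntermediateField.AdjoinSimple.gen k x) q = c := by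
  have hmem : c ∈ k⟮IntermediateField.AdjoinSimple.gen k x⟯ := by
    rw [adjoin_gen_eq_top]; exact IntermediateField.mem_top
  obtain ⟨g, hg⟩ : ∃ g : k⟮x⟯, g = IntermediateField.AdjoinSimple.gen k x := ⟨_, rfl⟩
  rw [← hg] at hc hmem ⊢
  have htr : Transcendental k g := by rw [hg]; exact transcendental_gen hx
  have hFF : FG.IsFF k k⟮x⟯ := isFF_adjoin hx
  have key : ∀ n : ℕ, ∀ r s : k[X], s.natDegree = n → c = aeval g r / aeval g s →
      ∃ q : k[X], aeval g q = c := by
    intro n
    induction n with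
    | zero =>
      intro r s hs hcs
      rw [Polynomial.eq_C_of_natDegree_eq_zero hs] at hcs
      refine ⟨C (s.coeff 0)⁻¹ * r, ?_⟩
      rw [hcs, map_mul, aeval_C, aeval_C, map_inv₀, div_eq_inv_mul]
    | succ n ih =>
      intro r s hs hcs
      have hs0 : s ≠ 0 := by rintro rfl; simp at hs
      have hsdeg : s.degree ≠ 0 := by
        rw [Polynomial.degree_eq_natDegree hs0, hs]
        exact_mod_cast (Nat.succ_ne_zero n)
      obtain ⟨a, ha⟩ := IsAlgClosed.exists_root s hsdeg
      have htr_a : Transcendental k (g - algebraMap k k⟮x⟯ a) := by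
        intro h
        apply htr
        have := h.add (isAlgebraic_algebraMap (R := k) (A := k⟮x⟯) a)
        rwa [sub_add_cancel] at this
      have hga0 : g - algebraMap k k⟮x⟯ a ≠ 0 := by
        intro h; exact htr_a (h ▸ isAlgebraic_zero)
      obtain ⟨P, hP⟩ := FG.exists_place_val_lt_one hFF htr_a
      have hPg : P.1 g ≤ 1 := by
        have e : g = (g - algebraMap k k⟮x⟯ a) + algebraMap k k⟮x⟯ a := by ring
        rw [e]
        exact (P.1.map_add _ _).trans (max_le hP.le (P.2.1 a))
      have hPc := hc P hPg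
      obtain ⟨s₁, hs₁⟩ : ∃ s₁, s₁ = s /ₘ (X - C a) := ⟨_, rfl⟩
      have hsf : (X - C a) * s₁ = s := by
        rw [hs₁]; exact Polynomial.mul_divByMonic_eq_iff_isRoot.mpr ha
      have hs₁deg : s₁.natDegree = n := by
        have h := Polynomial.natDegree_divByMonic s (Polynomial.monic_X_sub_C a)
        rw [hs, Polynomial.natDegree_X_sub_C] at h
        rw [hs₁]; exact h
      have hevs : aeval g s = (g - algebraMap k k⟮x⟯ a) * aeval g s₁ := by
        rw [← hsf, map_mul, map_sub, aeval_X, aeval_C]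
      have hs_ne : aeval g s ≠ 0 := fun h => hs0 (transcendental_iff.mp htr s h)
      have hvs : P.1 (aeval g s) < 1 := by
        rw [hevs, map_mul]
        calc P.1 (g - algebraMap k k⟮x⟯ a) * P.1 (aeval g s₁)
            ≤ P.1 (g - algebraMap k k⟮x⟯ a) * 1 :=
              mul_le_mul' le_rfl (FF.val_aeval_le P hPg s₁)
          _ = P.1 (g - algebraMap k k⟮x⟯ a) := mul_one _
          _ < 1 := hP
      have hcr : aeval g r = c * aeval g s := by rw [hcs, div_mul_cancel₀ _ hs_ne]
      have hvr : P.1 (aeval g r) < 1 := by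
        rw [hcr, map_mul]
        calc P.1 c * P.1 (aeval g s) ≤ 1 * P.1 (aeval g s) := mul_le_mul' hPc le_rfl
          _ = P.1 (aeval g s) := one_mul _
          _ < 1 := hvs
      obtain ⟨r₁, hr₁⟩ : ∃ r₁, r₁ = r /ₘ (X - C a) := ⟨_, rfl⟩
      have hrf : C (r.eval a) + (X - C a) * r₁ = r := by
        have := Polynomial.modByMonic_add_div r (X - C a)
        rwa [Polynomial.modByMonic_X_sub_C_eq_C_eval, ← hr₁] at this
      have hevr : aeval g r = algebraMap k k⟮x⟯ (r.eval a) +
          (g - algebraMap k k⟮x⟯ a) * aeval g r₁ := by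
        conv_lhs => rw [← hrf]
        rw [map_add, map_mul, map_sub, aeval_X, aeval_C, aeval_C]
      have h3 : P.1 ((g - algebraMap k k⟮x⟯ a) * aeval g r₁) < 1 := by
        rw [map_mul]
        calc P.1 (g - algebraMap k k⟮x⟯ a) * P.1 (aeval g r₁)
            ≤ P.1 (g - algebraMap k k⟮x⟯ a) * 1 :=
              mul_le_mul' le_rfl (FF.val_aeval_le P hPg r₁)
          _ = P.1 (g - algebraMap k k⟮x⟯ a) := mul_one _
          _ < 1 := hP
      have hra : r.eval a = 0 := by
        by_contra hne
        have h1 : P.1 (algebraMap k k⟮x⟯ (r.eval a)) = 1 := FF.val_algebraMap P hne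
        have h2 : algebraMap k k⟮x⟯ (r.eval a) =
            aeval g r - (g - algebraMap k k⟮x⟯ a) * aeval g r₁ := by rw [hevr]; ring
        rw [h2] at h1
        have h4 := (Valuation.map_sub P.1 _ _).trans_lt (max_lt hvr h3)
        rw [h1] at h4
        exact lt_irrefl _ h4
      have hevr' : aeval g r = (g - algebraMap k k⟮x⟯ a) * aeval g r₁ := by
        rw [hevr, hra, map_zero, zero_add]
      apply ih r₁ s₁ hs₁deg
      rw [hcs, hevr', hevs, mul_div_mul_left _ _ hga0]
  obtain ⟨r, s, hrs⟩ := (IntermediateField.mem_adjoin_simple_iff k c).mp hmem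
  exact key _ r s rfl hrs

end Rational

/-! ### elements with `P`-integral coordinates in the basis `1, y, …, y^(d-1)` -/

section Coord

variable {F : IntermediateField k K}

/-- `w` has `P`-integral coordinates with respect to the powers of `y`. -/
def HasCoord (P : Place k F) (y : K) (d : ℕ) (w : K) : Prop :=
  ∃ c : Fin d → F, (∀ b, P.1 (c b) ≤ 1) ∧ w = ∑ b : Fin d, (c b : K) * y ^ (b : ℕ)

variable {P : Place k F} {y : K} {d : ℕ}

theorem HasCoord.zero : HasCoord P y d 0 :=
  ⟨fun _ => 0, fun _ => by simp, by simp⟩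

theorem HasCoord.add {w w' : K} (h : HasCoord P y d w) (h' : HasCoord P y d w') :
    HasCoord P y d (w + w') := by
  obtain ⟨c, hc, rfl⟩ := h
  obtain ⟨c', hc', rfl⟩ := h'
  refine ⟨fun b => c b + c' b, fun b => (P.1.map_add _ _).trans (max_le (hc b) (hc' b)), ?_⟩
  rw [← Finset.sum_add_distrib]
  apply Finset.sum_congr rfl
  intro b _
  push_cast
  ring

theorem HasCoord.neg {w : K} (h : HasCoord P y d w) : HasCoord P y d (-w) := by
  obtain ⟨c, hc, rfl⟩ := h
  refine ⟨fun b => -c b, fun b => by rw [Valuation.map_neg]; exact hc b, ?_⟩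
  rw [← Finset.sum_neg_distrib]
  apply Finset.sum_congr rfl
  intro b _
  push_cast
  ring

theorem HasCoord.smul {w : K} {a : F} (ha : P.1 a ≤ 1) (h : HasCoord P y d w) :
    HasCoord P y d ((a : K) * w) := by
  obtain ⟨c, hc, rfl⟩ := h
  refine ⟨fun b => a * c b, fun b => by rw [map_mul]; exact mul_le_one' ha (hc b), ?_⟩
  rw [Finset.mul_sum]
  apply Finset.sum_congr rfl
  intro b _
  push_cast
  ring

theorem HasCoord.sum {ι : Type*} (s : Finset ι) (f : ι → K)
    (h : ∀ i ∈ s, HasCoord P y d (f i)) : HasCoord P y d (∑ i ∈ s, f i) :=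
  Finset.sum_induction f (HasCoord P y d) (fun _ _ => HasCoord.add) HasCoord.zero h

theorem HasCoord.single {n : ℕ} (hn : n < d) {a : F} (ha : P.1 a ≤ 1) :
    HasCoord P y d ((a : K) * y ^ n) := by
  classical
  refine ⟨fun b => if (b : ℕ) = n then a else 0, fun b => ?_, ?_⟩
  · show P.1 (if (b : ℕ) = n then a else 0) ≤ 1
    split_ifs
    · exact ha
    · simp
  · rw [Finset.sum_eq_single (⟨n, hn⟩ : Fin d)]
    · simp
    · intro b _ hb
      have : (b : ℕ) ≠ n := fun h => hb (Fin.ext h)
      simp [this]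
    · intro h; exact absurd (Finset.mem_univ _) h

theorem HasCoord.one (hd : 0 < d) : HasCoord P y d 1 := by
  have := HasCoord.single (P := P) (y := y) hd (a := 1) (by simp)
  simpa using this

section Rel

variable {m : Fin d → F} (hm : ∀ b, P.1 (m b) ≤ 1)
  (hrel : y ^ d = ∑ b : Fin d, (m b : K) * y ^ (b : ℕ))

include hm hrel

theorem HasCoord.top {a : F} (ha : P.1 a ≤ 1) : HasCoord P y d ((a : K) * y ^ d) := by
  rw [hrel]
  exact HasCoord.smul ha ⟨m, hm, rfl⟩

theorem HasCoord.y_mul {w : K} (h : HasCoord P y d w) : HasCoord P y d (y * w) := by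
  obtain ⟨c, hc, rfl⟩ := h
  rw [Finset.mul_sum]
  apply HasCoord.sum
  intro b _
  have e : y * ((c b : K) * y ^ (b : ℕ)) = (c b : K) * y ^ ((b : ℕ) + 1) := by
    rw [pow_succ]; ring
  rw [e]
  by_cases hb : (b : ℕ) + 1 < d
  · exact HasCoord.single hb (hc b)
  · have hbd : (b : ℕ) + 1 = d := by have := b.2; omega
    rw [hbd]
    exact HasCoord.top hm hrel (hc b)

theorem HasCoord.pow_mul (n : ℕ) {w : K} (h : HasCoord P y d w) :
    HasCoord P y d (y ^ n * w) := by
  induction n with
  | zero => rwa [pow_zero, one_mul]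
  | succ n ih => rw [pow_succ', mul_assoc]; exact HasCoord.y_mul hm hrel ih

theorem HasCoord.mul {w w' : K} (h : HasCoord P y d w) (h' : HasCoord P y d w') :
    HasCoord P y d (w * w') := by
  obtain ⟨c, hc, rfl⟩ := h
  rw [Finset.sum_mul]
  apply HasCoord.sum
  intro b _
  rw [mul_assoc]
  exact HasCoord.smul (hc b) (HasCoord.pow_mul hm hrel _ h')

theorem hasCoord_of_mem_closure (hd : 0 < d) {w : K}
    (hw : w ∈ Subring.closure ((algebraMap F K '' (P.O : Set F)) ∪ {y})) :
    HasCoord P y d w := by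
  induction hw using Subring.closure_induction with
  | mem w hw =>
    rcases hw with ⟨a, ha, rfl⟩ | hw
    · have h1 := HasCoord.smul (show P.1 a ≤ 1 from ha) (HasCoord.one (P := P) (y := y) hd)
      rw [mul_one] at h1
      exact h1
    · rw [Set.mem_singleton_iff] at hw
      rw [hw]
      have h1 := HasCoord.y_mul hm hrel (HasCoord.one (P := P) (y := y) hd)
      rw [mul_one] at h1
      exact h1
  | zero => exact HasCoord.zero
  | one => exact HasCoord.one hd
  | add _ _ _ _ h1 h2 => exact h1.add h2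
  | neg _ _ h => exact h.neg
  | mul _ _ _ _ h1 h2 => exact HasCoord.mul hm hrel h1 h2

end Rel

end Coord

/-! ### the main statement -/

theorem s11067 [IsAlgClosed k] (hK : IsFunctionField k K) (x y : K) (hx : Transcendental k x)
    (hxy : IntermediateField.adjoin k ({x, y} : Set K) = ⊤)
    (hy : IsIntegral (Algebra.adjoin k ({x} : Set K)) y) :
    (Algebra.adjoin k ({x, y} : Set K) : Set K) =
      ⋂ (P : Place k (IntermediateField.adjoin k ({x} : Set K)))
        (_ : P.1 ⟨x, IntermediateField.mem_adjoin_simple_self k x⟩ ≤ 1),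
        (Subring.closure
          ((algebraMap (IntermediateField.adjoin k ({x} : Set K)) K '' (P.O : Set _)) ∪ {y}) :
          Set K) := by
  classical
  apply Set.Subset.antisymm
  · intro z hz
    rw [Set.mem_iInter₂]
    intro P hP
    rw [SetLike.mem_coe] at hz ⊢
    induction hz using Algebra.adjoin_induction with
    | mem w hw =>
      rcases hw with rfl | hw
      · exact Subring.subset_closure
          (Or.inl ⟨IntermediateField.AdjoinSimple.gen k w, hP, rfl⟩)
      · exact Subring.subset_closure (Or.inr hw)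
    | algebraMap c =>
      refine Subring.subset_closure (Or.inl ⟨algebraMap k k⟮x⟯ c, P.2.1 c, ?_⟩)
      exact (IsScalarTower.algebraMap_apply k k⟮x⟯ K c).symm
    | add _ _ _ _ h1 h2 => exact add_mem h1 h2
    | mul _ _ _ _ h1 h2 => exact mul_mem h1 h2
  · intro z hz
    rw [Set.mem_iInter₂] at hz
    rw [SetLike.mem_coe]
    haveI : FiniteDimensional k⟮x⟯ K := FF.finiteDimensional_adjoin hK hx
    obtain ⟨d, hd⟩ : ∃ d, Module.finrank k⟮x⟯ K = d := ⟨_, rfl⟩
    have hd0 : 0 < d := by rw [← hd]; exact Module.finrank_pos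
    have hgen := adjoin_adjoin_eq_top x y hxy
    have hyint : IsIntegral k⟮x⟯ y := Algebra.IsIntegral.isIntegral y
    have hnat : (minpoly k⟮x⟯ y).natDegree = d := by
      rw [← IntermediateField.adjoin.finrank hyint, hgen, IntermediateField.finrank_top', hd]
    have hli : LinearIndependent k⟮x⟯ fun b : Fin d => y ^ (b : ℕ) := by
      have h := linearIndependent_pow (K := k⟮x⟯) y
      rw [hnat] at h
      exact h
    have hpole : ∀ P : Place k K, P.1 x ≤ 1 → P.1 y ≤ 1 :=
      fun P hP => val_le_one_of_isIntegral P hP hy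
    obtain ⟨p, hp⟩ := exists_poly_expansion hK x y d hx hpole hxy hd (y ^ d)
      (pow_mem (Algebra.subset_adjoin (by simp)) d)
    obtain ⟨m, hm⟩ : ∃ m : Fin d → k⟮x⟯,
        m = fun b => aeval (IntermediateField.AdjoinSimple.gen k x) (p b) := ⟨_, rfl⟩
    have hmK : ∀ b, ((m b : k⟮x⟯) : K) = aeval x (p b) := by
      intro b; rw [hm]; exact coe_aeval_gen x (p b)
    have hrel : y ^ d = ∑ b : Fin d, ((m b : k⟮x⟯) : K) * y ^ (b : ℕ) := by
      rw [hp]; exact Finset.sum_congr rfl (fun b _ => by rw [hmK b])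
    have hFF : FG.IsFF k k⟮x⟯ := isFF_adjoin hx
    have hcoordP : ∀ P : Place k k⟮x⟯, P.1 (IntermediateField.AdjoinSimple.gen k x) ≤ 1 →
        HasCoord P y d z := by
      intro P hP
      exact hasCoord_of_mem_closure
        (fun b => by rw [hm]; exact FF.val_aeval_le P hP (p b)) hrel hd0 (hz P hP)
    obtain ⟨P₀, hP₀⟩ := FG.exists_place_val_lt_one hFF (transcendental_gen hx)
    obtain ⟨c, hc, hzc⟩ := hcoordP P₀ hP₀.le
    have hcP : ∀ P : Place k k⟮x⟯, P.1 (IntermediateField.AdjoinSimple.gen k x) ≤ 1 →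
        ∀ b, P.1 (c b) ≤ 1 := by
      intro P hP b
      obtain ⟨c', hc', hzc'⟩ := hcoordP P hP
      have h1 := coeff_unique k⟮x⟯ hli (fun b => (c b : K)) (fun b => (c' b : K))
        (fun b => (c b).2) (fun b => (c' b).2)
        (by
          show ∑ b : Fin d, (c b : K) * y ^ (b : ℕ) = ∑ b : Fin d, (c' b : K) * y ^ (b : ℕ)
          rw [← hzc, ← hzc']) b
      have e : c b = c' b := Subtype.ext h1
      rw [e]; exact hc' b
    have hq : ∀ b, ∃ q : k[X], aeval (IntermediateField.AdjoinSimple.gen k x) q = c b :=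
      fun b => exists_aeval_eq_of_regular hx (c b) (fun P hP => hcP P hP b)
    choose q hq using hq
    rw [hzc]
    refine Subalgebra.sum_mem _ fun b _ => ?_
    refine Subalgebra.mul_mem _ ?_ (Subalgebra.pow_mem _ (Algebra.subset_adjoin (by simp)) _)
    rw [← hq b, coe_aeval_gen]
    exact Algebra.adjoin_mono (by simp) (Polynomial.aeval_mem_adjoin_singleton k x)

end Groth.Agent.Helper6.AffInter
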