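import Mathlib

universe u

open CategoryTheory CategoryTheory.Limits AlgebraicGeometry MvPolynomial

namespace Groth.Agent.Helper6.AffUnit

open AffineSpace

variable (n : Type u)

/-- zero section -/
noncomputable def zeroSec (S : Scheme.{u}) : S ⟶ 𝔸(n; S) := homOfVector (𝟙 S) (fun _ => 0)

lemma zeroSec_over (S : Scheme.{u}) : zeroSec n S ≫ 𝔸(n; S) ↘ S = 𝟙 S := by
  unfold zeroSec
  simp

lemma zeroSec_nat {S T : Scheme.{u}} (f : S ⟶ T) :
    f ≫ zeroSec n T = zeroSec n S ≫ map n f := by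
  apply AffineSpace.hom_ext
  · rw [Category.assoc, zeroSec_over, Category.comp_id, Category.assoc, map_over,
      ← Category.assoc, zeroSec_over, Category.id_comp]
  · intro i
    rw [Scheme.Hom.comp_appTop, Scheme.Hom.comp_appTop, CommRingCat.comp_apply,
      CommRingCat.comp_apply, map_appTop_coord]
    unfold zeroSec
    rw [homOfVector_appTop_coord, homOfVector_appTop_coord, map_zero]

set_option backward.isDefEq.respectTransparency false in
lemma isIso_appTop_of_isIso {X Y : Scheme.{u}} (f : X ⟶ Y) [IsIso f] : IsIso f.appTop := by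
  unfold Scheme.Hom.appTop
  infer_instance

/-- affine case -/
theorem affine_case [Finite n] (S : Scheme.{u}) [IsAffine S] [IsReduced S]
    (w : Γ(𝔸(n; S), ⊤)) (hw : IsUnit w) :
    ∃ r : Γ(S, ⊤), IsUnit r ∧ (𝔸(n; S) ↘ S).appTop r = w := by
  let ev : MvPolynomial n Γ(S, ⊤) →+* Γ(𝔸(n; S), ⊤) :=
    eval₂Hom ((𝔸(n; S) ↘ S).appTop).hom (coord S)
  have hiso : IsIso (CommRingCat.ofHom ev) := by
    have h1 := isoOfIsAffine_hom_appTop (n := n) (S := S)
    have h2 : CommRingCat.ofHom ev =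
        (Scheme.ΓSpecIso _).inv ≫ (isoOfIsAffine n S).hom.appTop := by
      rw [h1, Iso.inv_hom_id_assoc]
    rw [h2]
    haveI : IsIso (Scheme.Hom.appTop (isoOfIsAffine n S).hom) := isIso_appTop_of_isIso _
    infer_instance
  have hbij : Function.Bijective ev := by
    have := (ConcreteCategory.isIso_iff_bijective (CommRingCat.ofHom ev)).mp hiso
    exact this
  obtain ⟨P, hP⟩ := hbij.2 w
  have hPunit : IsUnit P := by
    let e : MvPolynomial n Γ(S, ⊤) ≃+* Γ(𝔸(n; S), ⊤) := RingEquiv.ofBijective ev hbij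
    have : e P = w := hP
    have h3 : IsUnit (e P) := this ▸ hw
    exact (isUnit_map_iff e P).mp h3
  haveI : _root_.IsReduced Γ(S, ⊤) := inferInstance
  obtain ⟨r, hr, hPr⟩ := MvPolynomial.isUnit_iff_eq_C_of_isReduced.mp hPunit
  refine ⟨r, hr, ?_⟩
  rw [← hP, hPr]
  show _ = eval₂Hom ((𝔸(n; S) ↘ S).appTop).hom (coord S) (C r)
  rw [eval₂Hom_C]

/-- on affine reduced base, `π^* σ^* w = w` for units `w` -/
theorem affine_fix [Finite n] (S : Scheme.{u}) [IsAffine S] [IsReduced S]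
    (w : Γ(𝔸(n; S), ⊤)) (hw : IsUnit w) :
    (𝔸(n; S) ↘ S).appTop ((zeroSec n S).appTop w) = w := by
  obtain ⟨r, -, hr⟩ := affine_case n S w hw
  rw [← hr]
  congr 1
  rw [← CommRingCat.comp_apply, ← Scheme.Hom.comp_appTop, zeroSec_over]
  simp

theorem main [Finite n] (X : Scheme.{u}) [IsReduced X]
    (w : Γ(𝔸(n; X), ⊤)) (hw : IsUnit w) :
    ∃ v : Γ(X, ⊤), IsUnit v ∧ (𝔸(n; X) ↘ X).appTop v = w := by
  refine ⟨(zeroSec n X).appTop w, hw.map _, ?_⟩
  let 𝒰 := X.affineCover.pullback₁ (𝔸(n; X) ↘ X)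
  refine Scheme.OpenCover.ext_elem _ _ 𝒰 fun (i : X.affineCover.I₀) => ?_
  have hpb := isPullback_map (n := n) (X.affineCover.f i)
  have hfst : 𝒰.f i = hpb.isoPullback.inv ≫ map n (X.affineCover.f i) :=
    (hpb.isoPullback_inv_fst).symm
  haveI : IsReduced (X.affineCover.X i) := isReduced_of_isOpenImmersion (X.affineCover.f i)
  have key : (map n (X.affineCover.f i)).appTop
      ((𝔸(n; X) ↘ X).appTop ((zeroSec n X).appTop w)) =
      (map n (X.affineCover.f i)).appTop w := by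
    have hfix := affine_fix n (X.affineCover.X i) ((map n (X.affineCover.f i)).appTop w) (hw.map _)
    rw [← hfix]
    simp only [← CommRingCat.comp_apply, ← Scheme.Hom.comp_appTop]
    congr 2
    rw [map_over_assoc, zeroSec_nat]
  show (𝒰.f i).appTop _ = (𝒰.f i).appTop _
  rw [hfst, Scheme.Hom.comp_appTop]
  exact congrArg (Scheme.Hom.appTop hpb.isoPullback.inv) key

end Groth.Agent.Helper6.AffUnit
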