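import Mathlib
import Groth.Agent.Helper6.FpAlgEt
import Groth.Agent.Helper6.LocQ2

/-!
# Helper6: a stack over an algebraic stack all of whose base changes to schemes are algebraic
-/

set_option autoImplicit false
set_option linter.style.haveILetI false
set_option linter.unusedVariables false
universe u

namespace Groth.Agent.Helper6.AlgOfFp
open CategoryTheory Functor FibCat Limits AlgebraicGeometry Opposite
open Groth.Agent.Helper3 Groth.Agent.Helper6.FpTools Groth.Agent.Helper6.AlgStBC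
open Groth.Agent.Helper6.AlgStInv Groth.Agent.Helper6.SpAtlas Groth.Agent.Helper6.ChartOver
open Groth.Agent.Helper6.ToSpace Groth.Agent.Helper4.SDClasses AlgSp
open Groth.Agent.Helper6.DiagRed Groth.Agent.Helper6.DiagComp Groth.Agent.Helper6.DiagRep
open Groth.Agent.Helper6.OfComp Groth.Agent.Helper6.FpAlg Groth.Agent.Helper6.AlgStDiagIff
open Groth.Agent.Helper6.LocQ2 Groth.Agent.Helper6.RepDiag

variable {S : Scheme.{u}} {𝒳 𝒴 : AlgSt.Cat S}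

/-- the diagonal of `𝒳` is representable as soon as that of `𝒴` and of all base changes of `𝒳` to
schemes over `𝒴` are -/
theorem diag_of_forall_fp (h𝒳 : IsFibGrpd 𝒳.p) (h𝒴 : IsFibGrpd 𝒴.p)
    (hΔ𝒴 : AlgSt.RepByAlgSp1 (diag (toSelf 𝒴))) (f : 𝒳 ⥤ᵇ 𝒴)
    (hf : ∀ (U : Over S) (g : overCat U ⥤ᵇ 𝒴), AlgSt.RepByAlgSp1 (diag (toSelf (fp g f)))) :
    AlgSt.RepByAlgSp1 (diag (toSelf 𝒳)) := by
  apply Groth.Agent.Helper6.AlgStDiagIff.backward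
  intro U G V x'
  have hU : IsFibGrpd (overCat U).p := Groth.Agent.Helper9.FibRep.isFibGrpd_overCat U
  have hV : IsFibGrpd (overCat V).p := Groth.Agent.Helper9.FibRep.isFibGrpd_overCat V
  let g : overCat V ⥤ᵇ 𝒴 := BasedFunctor.comp x' f
  have hgf : IsFibGrpd (fp g f).p := isFibGrpd_fp g f hV h𝒳 h𝒴
  let s : overCat V ⥤ᵇ fp g f := fpLift (BasedFunctor.id _) x' (Iso.refl _)
  let π : fp (fpSnd g f) G ⥤ᵇ fp g f := fpFst (fpSnd g f) G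
  have h𝒲 : IsFibGrpd (fp (fpSnd g f) G).p := isFibGrpd_fp _ _ hgf hU h𝒳
  -- `𝒲 = fp (fpSnd g f) G` is an algebraic space
  have hg1 : AlgSt.RepByAlgSp1 g := Groth.Agent.Helper6.AlgStDiagIff.forward hΔ𝒴 V g
  have hsnd : AlgSt.RepByAlgSp1 (fpSnd g f) :=
    (repByAlgSp1_iff_top _).2 (rep_fpSnd ⊤ g f ((repByAlgSp1_iff_top _).1 hg1))
  have hW : AlgSt.RepByAlgSp (fp (fpSnd g f) G) :=
    repByAlgSp_of_isEquivOver (fpSwap (fpSnd g f) G) (isEquivOver_fpSwap _ _) (hsnd U G)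
  obtain ⟨Wsp, eW, heW⟩ := hW
  obtain ⟨K, hK, -, -⟩ := EquivOver.symm heW
  -- `s` is representable
  have hs : AlgSt.RepByAlgSp1 s := Groth.Agent.Helper6.AlgStDiagIff.forward (hf V g) V s
  have hπs : AlgSt.RepByAlgSpWith ⊤ (fpFst π s) :=
    repByAlgSpWith_of_baseChange ⊤ s π (fpFst π s) (BasedFunctor.id _) (isEquivOver_id _)
      (Iso.refl _) ((repByAlgSp1_iff_top _).1 hs)
  have hπs' : AlgSt.RepByAlgSp1 (BasedFunctor.comp (fpFst π s) K) :=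
    (repByAlgSp1_iff_top _).2 ((repByAlgSpWith_comp_equiv ⊤ (fpFst π s) K hK).1 hπs)
  have h1 : AlgSt.RepByAlgSp (fp π s) :=
    main1 (isFibGrpd_fp π s h𝒲 hV hgf) Wsp _ hπs'
  have h2 : AlgSt.RepByAlgSp (fp s π) :=
    repByAlgSp_of_isEquivOver (fpSwap s π) (isEquivOver_fpSwap _ _) h1
  have h3 : AlgSt.RepByAlgSp (fp (BasedFunctor.comp s (fpSnd g f)) G) :=
    repByAlgSp_of_isEquivOver (pasteLeft s (fpSnd g f) G) (isEquivOver_pasteLeft _ _ _) h2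
  exact h3

/-- atlases of class `C` for `𝒳` from those of `𝒴` and of the base change -/
theorem hasAtlas_of_fp (C : MorphismProperty (Sp S))
    (hCc : ∀ ⦃X Y Z : AlgSp.Sp S⦄, AlgSp.IsAlgSpace X → AlgSp.IsAlgSpace Y → AlgSp.IsAlgSpace Z →
      ∀ (a : X ⟶ Y) (b : Y ⟶ Z), C a → C b → C (a ≫ b))
    (hCl : AlgSp.IsLocalOnBase AlgSp.IsFppfCover C)
    (h𝒳 : IsFibGrpd 𝒳.p) (h𝒴 : IsFibGrpd 𝒴.p) (f : 𝒳 ⥤ᵇ 𝒴)
    (hA𝒴 : AlgSt.HasAtlas C 𝒴)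
    (hf : ∀ (U : Over S) (g : overCat U ⥤ᵇ 𝒴), AlgSt.HasAtlas C (fp g f)) :
    AlgSt.HasAtlas C 𝒳 := by
  obtain ⟨V₀, v, hv₁, hv₂⟩ := hA𝒴
  obtain ⟨W₀, w, hw₁, hw₂⟩ := hf V₀ v
  have hV₀ : IsFibGrpd (overCat V₀).p := Groth.Agent.Helper9.FibRep.isFibGrpd_overCat V₀
  have hW₀ : IsFibGrpd (overCat W₀).p := Groth.Agent.Helper9.FibRep.isFibGrpd_overCat W₀
  have hvf : IsFibGrpd (fp v f).p := isFibGrpd_fp v f hV₀ h𝒳 h𝒴
  refine ⟨W₀, BasedFunctor.comp w (fpSnd v f), ?_, ?_⟩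
  · exact Groth.Agent.Helper6.RepComp.repByAlgSpWith_comp hW₀ hvf _ hCc hCl w _ hw₁
      (rep_fpSnd C v f hv₁)
  · exact Groth.Agent.Helper6.RepComp.repByAlgSpWith_comp hW₀ hvf _ surj_comp surj_localOnBase w _
      hw₂ (rep_fpSnd _ v f hv₂)

/-- S15250, for any precoverage -/
theorem isAlgStack_of_forall_fp (K : Precoverage Scheme.{u})
    (h𝒳 : Stk.IsStack (QuotSh.J K S) 𝒳) (h𝒴 : AlgSt.IsAlgStack K 𝒴) (f : 𝒳 ⥤ᵇ 𝒴)
    (hf : ∀ (U : Over S) (g : overCat U ⥤ᵇ 𝒴), AlgSt.IsAlgStack K (fp g f)) :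
    AlgSt.IsAlgStack K 𝒳 :=
  ⟨h𝒳, diag_of_forall_fp h𝒳.1 h𝒴.isStack.1 h𝒴.diag f (fun U g => (hf U g).diag),
    hasAtlas_of_fp (LocP @Smooth) (locP_comp' _ good_smooth) Groth.Agent.Helper6.LocalFppf.smooth
      h𝒳.1 h𝒴.isStack.1 f h𝒴.atlas (fun U g => (hf U g).atlas)⟩

/-- S15251, for any precoverage -/
theorem isDM_of_forall_fp (K : Precoverage Scheme.{u})
    (h𝒳 : Stk.IsStack (QuotSh.J K S) 𝒳) (h𝒴 : AlgSt.IsDM K 𝒴) (f : 𝒳 ⥤ᵇ 𝒴)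
    (hf : ∀ (U : Over S) (g : overCat U ⥤ᵇ 𝒴), AlgSt.IsDM K (fp g f)) :
    AlgSt.IsDM K 𝒳 :=
  ⟨isAlgStack_of_forall_fp K h𝒳 h𝒴.1 f (fun U g => (hf U g).1),
    hasAtlas_of_fp IsEtaleMor
      (fun X Y Z _ _ _ a b ha hb U φ hφ => by
        rw [← Category.assoc]
        exact hb _ (ha φ hφ))
      Groth.Agent.Helper6.LocalFppf.etale h𝒳.1 h𝒴.1.isStack.1 f h𝒴.2 (fun U g => (hf U g).2)⟩

end Groth.Agent.Helper6.AlgOfFp
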