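import Mathlib
import Groth.Prelude.Def_FibCat2
import Groth.Prelude.Def_AlgSt3
import Groth.Agent.Helper3.TwoYoneda
import Groth.Agent.Helper4.AlgSpOpenImage
import Groth.Agent.Helper6.FpPaste
import Groth.Agent.S12776

/-!
# Helper6: monomorphisms of categories over `(Sch/S)` are fully faithful
-/

set_option autoImplicit false
set_option linter.style.haveILetI false
universe u

namespace Groth.Agent.Helper6.AlgStMono
open CategoryTheory Functor FibCat Limits AlgebraicGeometry Opposite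
open Groth.Agent.Helper3 Groth.Agent.Helper6.FpTools

variable {S : Scheme.{u}}

section Sec

variable {F : AlgSp.Sp S} {U : Over S} (Φ : AlgSt.ofSp F ⥤ᵇ FibCat.overCat U)

theorem isIso_hom_of_iso_mk_id {C : Type*} [Category C] {U : C} (X : Over U)
    (i : X ≅ Over.mk (𝟙 U)) : IsIso X.hom := by
  have h1 : i.hom.left ≫ 𝟙 U = X.hom := Over.w i.hom
  haveI : IsIso i.hom.left := (Over.forget U).map_isIso i.hom
  have h2 : X.hom = i.hom.left := by rw [← h1]; exact Category.comp_id _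
  rw [h2]
  infer_instance

theorem isIso_eqToHom_comp {C : Type*} [Category C] {X Y Z : C} (h : X = Y) (f : Y ⟶ Z)
    (hf : IsIso f) : IsIso (eqToHom h ≫ f) := by
  subst h
  simpa using hf

theorem isIso_secHom_of_iso (α : (AlgSt.ofSp F).obj) (i : (Φ.obj α : Over U) ≅ Over.mk (𝟙 U)) :
    IsIso (AlgSt.secHom Φ α) := by
  have h2 : AlgSt.secHom Φ α = eqToHom (Φ.w_obj α).symm ≫ (Φ.obj α : Over U).hom := rfl
  haveI h3 : IsIso (Φ.obj α : Over U).hom := isIso_hom_of_iso_mk_id (U := U) (Φ.obj α) i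
  rw [h2]
  exact isIso_eqToHom_comp _ _ h3

/-- If `F ⟶ h_U` is a monomorphism, two objects whose images are isomorphic to the final object are
connected by a morphism. -/
theorem exists_hom_of_mono (hm : Mono (AlgSt.spMapOfOver Φ)) (α β : (AlgSt.ofSp F).obj)
    (i : (Φ.obj α : Over U) ≅ Over.mk (𝟙 U)) (i' : (Φ.obj β : Over U) ≅ Over.mk (𝟙 U)) :
    Nonempty (α ⟶ β) := by
  haveI := isIso_secHom_of_iso Φ α i
  haveI := isIso_secHom_of_iso Φ β i'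
  let θ : α.base ⟶ β.base := AlgSt.secHom Φ α ≫ inv (AlgSt.secHom Φ β)
  let s' : F.obj.obj (op α.base) := F.obj.map θ.op β.sec
  let β' : (AlgSt.ofSp F).obj := ⟨α.base, s'⟩
  let κ' : β' ⟶ β := ⟨θ, rfl⟩
  have h1 : AlgSt.secHom Φ β' = AlgSt.secHom Φ α := by
    have := AlgSt.secHom_comp Φ κ'
    rw [← this]
    change (AlgSt.secHom Φ α ≫ inv (AlgSt.secHom Φ β)) ≫ AlgSt.secHom Φ β = _
    rw [Category.assoc, IsIso.inv_hom_id, Category.comp_id]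
  have h2 : (AlgSt.spMapOfOver Φ).hom.app (op α.base) α.sec =
      (AlgSt.spMapOfOver Φ).hom.app (op α.base) s' := by
    rw [AlgSt.spMapOfOver_app, AlgSt.spMapOfOver_app]
    exact congrArg ULift.up h1.symm
  have h3 : α.sec = s' :=
    Groth.Agent.Helper4.AlgSpOpenImage.injective_app_of_mono (AlgSt.spMapOfOver Φ) (op α.base) h2
  exact ⟨⟨θ, h3.symm⟩⟩

end Sec

theorem over_endo_eq_id {C : Type*} [Category C] {U : C} (a : Over.mk (𝟙 U) ⟶ Over.mk (𝟙 U)) :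
    a = 𝟙 _ := by
  apply Over.OverMorphism.ext
  have := Over.w a
  simpa using this

variable {𝒳 𝒴 : AlgSt.Cat S}

theorem full_of_isMono (h𝒳 : IsFibGrpd 𝒳.p) (h𝒴 : IsFibGrpd 𝒴.p) (j : 𝒳 ⥤ᵇ 𝒴) (hj : AlgSt.IsMono j) :
    j.toFunctor.Full := by
  apply FibGrpd.full_of_fiber j h𝒳 h𝒴
  intro U
  refine ⟨fun {a b} ψ => ?_⟩
  haveI := TwoYoneda.evalAtId_isEquivalence_of_isFibGrpd U h𝒴
  obtain ⟨ŷ, ⟨j₀⟩⟩ := Functor.EssSurj.mem_essImage (F := FibCat.evalAtId 𝒴 U)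
    ((FibCat.fiberFunctor j U).obj b)
  let j' : ŷ.obj (Over.mk (𝟙 U)) ≅ j.obj b.1 := Functor.Fiber.fiberInclusion.mapIso j₀
  have lj : 𝒴.p.IsHomLift (𝟙 U) j'.hom := j₀.hom.2
  let ψ₀ : j.obj a.1 ⟶ j.obj b.1 := ψ.1
  haveI hψl : 𝒴.p.IsHomLift (𝟙 U) ψ₀ := ψ.2
  haveI : IsIso ψ₀ := FibGrpd.isIso_of_lift_id h𝒴 (U := U) ψ₀
  let ψi : j.obj a.1 ≅ j.obj b.1 := asIso ψ₀
  haveI : 𝒴.p.IsHomLift (𝟙 U) ψi.hom := hψl
  have lψi : 𝒴.p.IsHomLift (𝟙 U) ψi.inv := inferInstance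
  let i : ŷ.obj (Over.mk (𝟙 U)) ≅ j.obj a.1 := j' ≪≫ ψi.symm
  have li : 𝒴.p.IsHomLift (𝟙 U) i.hom := lift_id_comp' _ _ lj lψi
  let A : (FibCat.fp ŷ j).obj := ⟨⟨Over.mk (𝟙 U), a.1, i⟩, li⟩
  let B : (FibCat.fp ŷ j).obj := ⟨⟨Over.mk (𝟙 U), b.1, j'⟩, lj⟩
  obtain ⟨F, e, he, hm⟩ := hj U ŷ
  haveI := EquivOver.isEquivalence he
  obtain ⟨α, ⟨εA⟩⟩ := Functor.EssSurj.mem_essImage (F := e.toFunctor) A
  obtain ⟨β, ⟨εB⟩⟩ := Functor.EssSurj.mem_essImage (F := e.toFunctor) B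
  let Φ := BasedFunctor.comp e (FibCat.fpFst ŷ j)
  have iA : (Φ.obj α : Over U) ≅ Over.mk (𝟙 U) := (FibCat.fpFst ŷ j).toFunctor.mapIso εA
  have iB : (Φ.obj β : Over U) ≅ Over.mk (𝟙 U) := (FibCat.fpFst ŷ j).toFunctor.mapIso εB
  obtain ⟨κ⟩ := exists_hom_of_mono Φ hm α β iA iB
  let Θ : A ⟶ B := εA.inv ≫ e.map κ ≫ εB.hom
  have hΘ1 : Θ.hom.fst = 𝟙 _ := over_endo_eq_id _
  let φ : a.1 ⟶ b.1 := Θ.hom.snd
  have hw : ŷ.map Θ.hom.fst ≫ j'.hom = i.hom ≫ j.map φ := Θ.hom.w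
  have hjφ : j.map φ = ψ₀ := by
    rw [hΘ1] at hw
    have h3 : ŷ.map (𝟙 (Over.mk (𝟙 U))) = 𝟙 _ := ŷ.toFunctor.map_id _
    have hw' : ŷ.map (𝟙 (Over.mk (𝟙 U))) ≫ j'.hom = (j'.hom ≫ ψi.inv) ≫ j.map φ := hw
    rw [h3, Category.id_comp] at hw'
    replace hw := hw' 
    rw [Category.assoc] at hw
    have h4 : 𝟙 _ = ψi.inv ≫ j.map φ := by
      apply (cancel_epi j'.hom).1
      rw [Category.comp_id]
      exact hw
    have h5 : ψi.hom = j.map φ := by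
      have := congrArg (fun t => ψi.hom ≫ t) h4
      simp only [Category.comp_id, Iso.hom_inv_id_assoc] at this
      exact this
    exact h5.symm
  haveI : 𝒴.p.IsHomLift (𝟙 U) (j.map φ) := by rw [hjφ]; exact hψl
  have lφ : 𝒳.p.IsHomLift (𝟙 U) φ := j.isHomLift_map (𝟙 U) φ
  refine ⟨⟨φ, lφ⟩, ?_⟩
  apply Functor.Fiber.hom_ext
  exact hjφ

end Groth.Agent.Helper6.AlgStMono
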