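import Mathlib
import Groth.Prelude.Def_FibCat2
import Groth.Prelude.Def_AlgSt2
import Groth.Agent.Helper6.AlgStBC
import Groth.Agent.Helper6.AlgStInv
import Groth.Agent.Helper6.FpMisc

/-!
# Helper6: sections inherit the properties of the diagonal
-/

set_option autoImplicit false
set_option linter.style.haveILetI false
universe u

namespace Groth.Agent.Helper6.AlgStBC
open CategoryTheory Functor FibCat Limits AlgebraicGeometry Opposite
open Groth.Agent.Helper3 Groth.Agent.Helper6.FpTools Groth.Agent.Helper6.AlgStRep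
open Groth.Agent.Helper6.AlgStInv

variable {S : Scheme.{u}}

/-- A section of `f` inherits the properties of the diagonal of `f`. -/
theorem repByAlgSpWith_section (P : MorphismProperty (AlgSp.Sp S)) {𝒳 𝒯 : AlgSt.Cat S}
    (f : 𝒳 ⥤ᵇ 𝒯) (s : 𝒯 ⥤ᵇ 𝒳) (e : BasedFunctor.comp s f ≅ BasedFunctor.id 𝒯)
    (hf : AlgSt.RepByAlgSpWith P (FibCat.diag f)) : AlgSt.RepByAlgSpWith P s := by
  have e' : BasedFunctor.comp (BasedFunctor.id 𝒯) (BasedFunctor.id 𝒯) ≅ BasedFunctor.comp s f :=
    e.symm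
  have h1 := repByAlgSpWith_graph P (BasedFunctor.id 𝒯) f s e' hf
  exact (repByAlgSpWith_comp_equiv P (FibCat.fpLift (BasedFunctor.id 𝒯) s e')
    (FibCat.fpSnd (BasedFunctor.id 𝒯) f) (isEquivOver_fpSnd_id f)).1 h1

end Groth.Agent.Helper6.AlgStBC
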