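import Mathlib
import Groth.Prelude.Def_BigSite

set_option backward.isDefEq.respectTransparency false
set_option backward.isDefEq.respectTransparency.types false
set_option autoImplicit false

/-! Almost cocontinuous functors: `u^p` commutes with sheafification on presheaves that are
singletons on sheaf-theoretically empty objects, and `u^s` commutes with connected colimits. -/

namespace Groth.Agent.Helper6.AlmCocont

open CategoryTheory CategoryTheory.Limits Opposite

universe u

variable {C D : Type u} [SmallCategory C] [SmallCategory D]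
  (J : GrothendieckTopology C) (K : GrothendieckTopology D) (u : C ⥤ D)

lemma subsingleton_of_bot_mem (F : Sheaf K (Type u)) (V : D) (h : (⊥ : Sieve V) ∈ K V) :
    Subsingleton (F.obj.obj (op V)) := by
  constructor
  intro a b
  exact (((isSheaf_iff_isSheaf_of_type K F.obj).1 F.property).isSeparated _ h).ext
    (fun Y f hf => False.elim (by simp at hf))

lemma nonempty_of_bot_mem (F : Sheaf K (Type u)) (V : D) (h : (⊥ : Sieve V) ∈ K V) :
    Nonempty (F.obj.obj (op V)) := by
  have hs := ((isSheaf_iff_isSheaf_of_type K F.obj).1 F.property) _ h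
  let x : Presieve.FamilyOfElements F.obj (⊥ : Sieve V).arrows :=
    fun Y f hf => False.elim (by simp at hf)
  have hx : x.Compatible := by
    intro Y₁ Y₂ Z g₁ g₂ f₁ f₂ h₁ h₂ _
    exact False.elim (by simp at h₁)
  obtain ⟨t, _, _⟩ := hs x hx
  exact ⟨t⟩

lemma unique_of_bot_mem (F : Sheaf K (Type u)) (V : D) (h : (⊥ : Sieve V) ∈ K V) :
    Nonempty (Unique (F.obj.obj (op V))) := by
  obtain ⟨t⟩ := nonempty_of_bot_mem K F V h
  haveI := subsingleton_of_bot_mem K F V h
  exact ⟨⟨⟨t⟩, fun _ => Subsingleton.elim _ _⟩⟩

lemma W_whiskerLeft (hu : BigSite.IsAlmostCocontinuous u J K) (G : Dᵒᵖ ⥤ Type u)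
    (hG : ∀ V : D, (⊥ : Sieve V) ∈ K V → Nonempty (Unique (G.obj (op V)))) :
    J.W (Functor.whiskerLeft u.op (toSheafify K G)) := by
  haveI : Presheaf.IsLocallyInjective J (Functor.whiskerLeft u.op (toSheafify K G)) := by
    constructor
    intro X x y h
    have hR : Presheaf.equalizerSieve (F := G) (X := op (u.obj X.unop)) x y ∈ K (u.obj X.unop) :=
      Presheaf.equalizerSieve_mem K (toSheafify K G) (X := op (u.obj X.unop)) x y h
    obtain ⟨R', hR', hR'2⟩ := hu X.unop _ hR
    refine J.superset_covering ?_ hR'
    intro V g hg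
    rcases hR'2 g hg with h0 | h1
    · obtain ⟨inst⟩ := hG _ h0
      exact Subsingleton.elim (α := G.obj (op (u.obj V))) _ _
    · exact h1
  haveI : Presheaf.IsLocallySurjective J (Functor.whiskerLeft u.op (toSheafify K G)) := by
    constructor
    intro U s
    have hR : Presheaf.imageSieve (toSheafify K G) (U := u.obj U) s ∈ K (u.obj U) :=
      Presheaf.imageSieve_mem K (toSheafify K G) (U := op (u.obj U)) s
    obtain ⟨R', hR', hR'2⟩ := hu U _ hR
    refine J.superset_covering ?_ hR'
    intro V g hg
    rcases hR'2 g hg with h0 | h1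
    · obtain ⟨inst⟩ := hG _ h0
      refine ⟨(default : G.obj (op (u.obj V))), ?_⟩
      haveI := subsingleton_of_bot_mem K ((presheafToSheaf K (Type u)).obj G) _ h0
      exact Subsingleton.elim (α := ((presheafToSheaf K (Type u)).obj G).obj.obj (op (u.obj V))) _ _
    · exact h1
  exact J.W_of_isLocallyBijective _

variable [u.IsContinuous J K]

theorem isIso_comparison (hu : BigSite.IsAlmostCocontinuous u J K) (G : Dᵒᵖ ⥤ Type u)
    (hG : ∀ V : D, (⊥ : Sieve V) ∈ K V → Nonempty (Unique (G.obj (op V)))) :
    IsIso (((sheafificationAdjunction J (Type u)).homEquiv (u.op ⋙ G)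
      ((u.sheafPushforwardContinuous (Type u) J K).obj ((presheafToSheaf K (Type u)).obj G))).symm
        (Functor.whiskerLeft u.op (toSheafify K G))) := by
  rw [Adjunction.homEquiv_counit]
  haveI : IsIso ((presheafToSheaf J (Type u)).map (Functor.whiskerLeft u.op (toSheafify K G))) :=
    (J.W_iff _).1 (W_whiskerLeft J K u hu G hG)
  infer_instance

/-- A colimit of singletons over a connected category is a singleton. -/
lemma unique_pt_of_connected {I : Type} [SmallCategory I] [IsConnected I] {Dg : I ⥤ Type u}
    (c : Cocone Dg) (hc : IsColimit c) (hD : ∀ i, Nonempty (Unique (Dg.obj i))) :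
    Nonempty (Unique c.pt) := by
  classical
  have inst : ∀ i, Unique (Dg.obj i) := fun i => (hD i).some
  let f : I → c.pt := fun i => c.ι.app i (inst i).default
  have hf : ∀ i j, f i = f j := by
    apply constant_of_preserves_morphisms
    intro i j a
    have h1 : c.ι.app j (Dg.map a (inst i).default) = c.ι.app i (inst i).default := by
      exact ConcreteCategory.congr_hom (c.w a) (inst i).default
    have h2 : Dg.map a (inst i).default = (inst j).default := (inst j).uniq _
    show c.ι.app i (inst i).default = c.ι.app j (inst j).default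
    rw [← h1, h2]
  obtain ⟨i₀⟩ := (inferInstance : Nonempty I)
  refine ⟨⟨⟨f i₀⟩, ?_⟩⟩
  intro t
  obtain ⟨j, y, rfl⟩ := Types.jointly_surjective_of_isColimit hc t
  have : y = (inst j).default := (inst j).uniq _
  rw [this]
  exact hf j i₀

end Groth.Agent.Helper6.AlmCocont
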