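import Groth.Agent.Helper6.AlmCocont

set_option backward.isDefEq.respectTransparency false
set_option backward.isDefEq.respectTransparency.types false
set_option autoImplicit false

namespace Groth.Agent.Helper6.AlmCocont

open CategoryTheory CategoryTheory.Limits Opposite

universe u

variable {C D : Type u} [SmallCategory C] [SmallCategory D]
  (J : GrothendieckTopology C) (K : GrothendieckTopology D) (u : C ⥤ D) [u.IsContinuous J K]

theorem preservesColimitsOfShape (hu : BigSite.IsAlmostCocontinuous u J K)
    (I : Type) [SmallCategory I] [FinCategory I] [IsConnected I] :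
    PreservesColimitsOfShape I (u.sheafPushforwardContinuous (Type u) J K) := by
  constructor
  intro F
  let Φ := u.sheafPushforwardContinuous (Type u) J K
  let E : Cocone (F ⋙ sheafToPresheaf K (Type u)) := colimit.cocone _
  have hE : IsColimit E := colimit.isColimit _
  let c : Cocone F := Sheaf.sheafifyCocone E
  have hc : IsColimit c := Sheaf.isColimitSheafifyCocone E hE
  let W := (Functor.whiskeringLeft Cᵒᵖ Dᵒᵖ (Type u)).obj u.op
  let E' : Cocone ((F ⋙ Φ) ⋙ sheafToPresheaf J (Type u)) := W.mapCocone E
  have hE' : IsColimit E' := isColimitOfPreserves W hE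
  let c' : Cocone (F ⋙ Φ) := Sheaf.sheafifyCocone E'
  have hc' : IsColimit c' := Sheaf.isColimitSheafifyCocone E' hE'
  have hG : ∀ V : D, (⊥ : Sieve V) ∈ K V → Nonempty (Unique (E.pt.obj (op V))) := by
    intro V hV
    have h1 := isColimitOfPreserves ((evaluation Dᵒᵖ (Type u)).obj (op V)) hE
    exact unique_pt_of_connected _ h1 (fun i => unique_of_bot_mem K (F.obj i) V hV)
  let κ : c'.pt ⟶ (Φ.mapCocone c).pt :=
    ((sheafificationAdjunction J (Type u)).homEquiv (u.op ⋙ E.pt)
      (Φ.obj ((presheafToSheaf K (Type u)).obj E.pt))).symm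
        (Functor.whiskerLeft u.op (toSheafify K E.pt))
  have hκ : IsIso κ := isIso_comparison J K u hu E.pt hG
  have hκ2 : toSheafify J (u.op ⋙ E.pt) ≫ κ.hom =
      Functor.whiskerLeft u.op (toSheafify K E.pt) :=
    toSheafify_sheafifyLift J _ _
  have hdesc : hc'.desc (Φ.mapCocone c) = κ := by
    apply hc'.hom_ext
    intro i
    rw [hc'.fac]
    have e1 : ((Φ.mapCocone c).ι.app i).hom =
        Functor.whiskerLeft u.op (E.ι.app i ≫ toSheafify K E.pt) := by
      show Functor.whiskerLeft u.op (c.ι.app i).hom = _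
      rw [Sheaf.sheafifyCocone_ι_app_val]
    have e2 : (c'.ι.app i ≫ κ).hom =
        Functor.whiskerLeft u.op (E.ι.app i ≫ toSheafify K E.pt) := by
      show (c'.ι.app i).hom ≫ κ.hom = _
      rw [Sheaf.sheafifyCocone_ι_app_val, Category.assoc]
      erw [hκ2]
      rfl
    apply Sheaf.hom_ext
    rw [e1, e2]
  apply preservesColimit_of_preserves_colimit_cocone hc
  haveI : IsIso (hc'.desc (Φ.mapCocone c)) := hdesc ▸ hκ
  exact IsColimit.ofPointIso hc'

end Groth.Agent.Helper6.AlmCocont
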