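import Mathlib
import Groth.Prelude.Def_CGrpSh
import Groth.Prelude.Def_W4c1extbt15Mult
import Groth.Agent.Helper6.EpiLift

namespace Groth.Agent.Helper6.EpiAlt

open CategoryTheory AlgebraicGeometry Opposite MonObj MonoidalCategory CartesianMonoidalCategory

universe u v

section gen
variable {C : Type u} [Category.{v} C] [CartesianMonoidalCategory C] [BraidedCategory C]

theorem comp_tuple {M T T' : C} (f : T' ⟶ T) : ∀ {n : ℕ} (x : Fin n → (T ⟶ M)),
    f ≫ MultSch.tuple x = MultSch.tuple (fun l => f ≫ x l)
  | 0, _ => toUnit_unique _ _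
  | n + 1, x => by
    show f ≫ lift (x 0) (MultSch.tuple fun i => x i.succ) =
      lift (f ≫ x 0) (MultSch.tuple fun i => f ≫ x i.succ)
    rw [comp_lift, comp_tuple f (fun i => x i.succ)]

/-- finite intersection of sieves -/
def allSieve {I : Type*} {T : C} (R : I → Sieve T) (s : Finset I) : Sieve T where
  arrows T' f := ∀ l ∈ s, R l f
  downward_closed := by
    intro V W f hf g l hl
    exact (R l).downward_closed (hf l hl) g

theorem allSieve_mem (J : GrothendieckTopology C) {I : Type*} [DecidableEq I] {T : C}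
    (R : I → Sieve T) (hR : ∀ l, R l ∈ J T) (s : Finset I) : allSieve R s ∈ J T := by
  induction s using Finset.induction_on with
  | empty =>
    refine J.superset_covering ?_ (J.top_mem T)
    intro V f _ l hl
    simp at hl
  | insert a s _ ih =>
    refine J.superset_covering ?_ (J.intersection_covering (hR a) ih)
    rintro V f ⟨h1, h2⟩ l hl
    rw [Finset.mem_insert] at hl
    rcases hl with rfl | hl
    · exact h1
    · exact h2 l hl

end gen

theorem main
    {S : Scheme.{u}} {M M'' H : Over S}
    [GrpObj M] [IsCommMonObj M] [GrpObj M''] [IsCommMonObj M''] [GrpObj H] [IsCommMonObj H]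
    (π : M ⟶ M'') [IsMonHom π] (hπ : Epi (CGrpSh.ptsMap Scheme.fppfPrecoverage π))
    {r : ℕ} (φ : MultSch.pow M'' r ⟶ H)
    (halt : ∀ (T : Over S) (x : Fin r → (T ⟶ M)) (i j : Fin r), i ≠ j → x i = x j →
      MultSch.tuple (fun l => x l ≫ π) ≫ φ = 1) :
    MultSch.IsAlternating φ := by
  classical
  intro T y i j hij hy
  have hcov := allSieve_mem (QuotSh.J Scheme.fppfPrecoverage S)
    (fun l : Fin r => EpiLift.liftSieve π (y l))
    (fun l => EpiLift.liftSieve_mem Scheme.fppfPrecoverage π hπ (y l)) Finset.univ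
  have hsh : Presieve.IsSheaf (QuotSh.J Scheme.fppfPrecoverage S) (yoneda.obj H) :=
    GrothendieckTopology.Subcanonical.isSheaf_of_isRepresentable
      (J := QuotSh.J Scheme.fppfPrecoverage S) (yoneda.obj H)
  refine (hsh _ hcov).isSeparatedFor.ext ?_
  intro T' f hf
  show f ≫ (MultSch.tuple y ≫ φ) = f ≫ 1
  have hx : ∀ l : Fin r, ∃ x : T' ⟶ M, x ≫ π = f ≫ y l := fun l => hf l (Finset.mem_univ l)
  choose x hx using hx
  have hx' : ∀ l, Function.update x j (x i) l ≫ π = f ≫ y l := by
    intro l
    by_cases hl : l = j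
    · subst hl
      rw [Function.update_self, hx i, hy]
    · rw [Function.update_of_ne hl, hx l]
  have h1 := halt T' (Function.update x j (x i)) i j hij (by
    rw [Function.update_self, Function.update_of_ne hij])
  rw [funext hx'] at h1
  rw [← Category.assoc, comp_tuple, h1, MonObj.comp_one]

end Groth.Agent.Helper6.EpiAlt
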