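import Mathlib
import Groth.Prelude.Def_CGrpSh
import Groth.Prelude.Def_W4c1extbt15Mult
import Groth.Agent.Helper6.EpiAlt

namespace Groth.Agent.Helper6.AltDesc

open CategoryTheory CategoryTheory.Limits Opposite MonObj MonoidalCategory
  CartesianMonoidalCategory

universe u v

section cart
variable {C : Type u} [Category.{v} C] [CartesianMonoidalCategory C] [BraidedCategory C]

/-- coordinate projections of a power -/
def proj (M : C) : ∀ {n : ℕ}, Fin n → (MultSch.pow M n ⟶ M)
  | 0, i => i.elim0
  | _ + 1, i => Fin.cases (fst _ _) (fun i' => snd _ _ ≫ proj M i') i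

theorem proj_zero (M : C) (n : ℕ) :
    proj M (0 : Fin (n + 1)) = fst M (MultSch.pow M n) := rfl

theorem proj_succ (M : C) (n : ℕ) (i : Fin n) :
    proj M i.succ = snd M (MultSch.pow M n) ≫ proj M i := rfl

theorem tuple_succ {M T : C} {n : ℕ} (x : Fin (n + 1) → (T ⟶ M)) :
    MultSch.tuple x = lift (x 0) (MultSch.tuple fun i => x i.succ) := rfl

theorem tuple_proj {M T : C} : ∀ {n : ℕ} (x : Fin n → (T ⟶ M)) (l : Fin n),
    MultSch.tuple x ≫ proj M l = x l
  | 0, _, l => l.elim0
  | n + 1, x, l => by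
    refine Fin.cases ?_ (fun l' => ?_) l
    · exact lift_fst (x 0) (MultSch.tuple fun i => x i.succ)
    · exact (lift_snd_assoc (x 0) (MultSch.tuple fun i => x i.succ) (proj M l')).trans
        (tuple_proj (fun i => x i.succ) l')

theorem tuple_eta {M T : C} : ∀ {n : ℕ} (a : T ⟶ MultSch.pow M n),
    MultSch.tuple (fun l => a ≫ proj M l) = a
  | 0, a => toUnit_unique _ _
  | n + 1, a => by
    have h1 : MultSch.tuple (fun l => a ≫ proj M l) ≫ fst M (MultSch.pow M n) =
        a ≫ fst M (MultSch.pow M n) :=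
      lift_fst (a ≫ proj M 0) (MultSch.tuple fun i : Fin n => a ≫ proj M i.succ)
    have h2 : MultSch.tuple (fun l => a ≫ proj M l) ≫ snd M (MultSch.pow M n) =
        a ≫ snd M (MultSch.pow M n) := by
      refine (lift_snd (a ≫ proj M 0) (MultSch.tuple fun i : Fin n => a ≫ proj M i.succ)).trans ?_
      have := tuple_eta (a ≫ snd M (MultSch.pow M n))
      refine Eq.trans ?_ this
      congr 1
      funext i
      exact (Category.assoc _ _ _).symm
    exact CartesianMonoidalCategory.hom_ext _ _ h1 h2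

theorem tuple_ext {M T : C} {n : ℕ} (a b : T ⟶ MultSch.pow M n)
    (h : ∀ l, a ≫ proj M l = b ≫ proj M l) : a = b := by
  rw [← tuple_eta a, ← tuple_eta b]
  congr 1
  funext l
  exact h l

/-- the power of a morphism -/
def powMap {M M'' : C} (π : M ⟶ M'') (n : ℕ) : MultSch.pow M n ⟶ MultSch.pow M'' n :=
  MultSch.tuple (fun l => proj M l ≫ π)

theorem tuple_powMap {M M'' T : C} (π : M ⟶ M'') {n : ℕ} (x : Fin n → (T ⟶ M)) :
    MultSch.tuple x ≫ powMap π n = MultSch.tuple (fun l => x l ≫ π) := by
  rw [powMap, EpiAlt.comp_tuple]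
  congr 1
  funext l
  rw [← Category.assoc, tuple_proj]

theorem comp_update {M T T' : C} {n : ℕ} (f : T' ⟶ T) (x : Fin n → (T ⟶ M)) (i : Fin n)
    (y : T ⟶ M) :
    (fun l => f ≫ Function.update x i y l) = Function.update (fun l => f ≫ x l) i (f ≫ y) := by
  funext l
  exact Function.apply_update (fun _ g => f ≫ g) x i y l

theorem update_comp {M M'' T : C} {n : ℕ} (π : M ⟶ M'') (x : Fin n → (T ⟶ M)) (i : Fin n)
    (y : T ⟶ M) :
    (fun l => Function.update x i y l ≫ π) = Function.update (fun l => x l ≫ π) i (y ≫ π) := by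
  funext l
  exact Function.apply_update (fun _ g => g ≫ π) x i y l

end cart

end Groth.Agent.Helper6.AltDesc
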