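import Mathlib
import Groth.Prelude.Def_CGrpSh
import Groth.Agent.Helper6.EpiLift
import Groth.Agent.Helper6.KerLift

namespace Groth.Agent.Helper6.Descent

open CategoryTheory CategoryTheory.Limits AlgebraicGeometry Opposite MonObj MonoidalCategory
  CartesianMonoidalCategory

universe u

variable {S : Scheme.{u}} (K : Precoverage Scheme.{u}) [(QuotSh.J K S).Subcanonical]

section ker
variable {M' M M'' : Over S} [GrpObj M'] [IsCommMonObj M'] [GrpObj M] [IsCommMonObj M]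
  [GrpObj M''] [IsCommMonObj M'']

/-- the sieve of morphisms along which a point of `M` comes from `M'` -/
def kerSieve (j : M' ⟶ M) {T : Over S} (y : T ⟶ M) : Sieve T where
  arrows T' f := ∃ y' : T' ⟶ M', y' ≫ j = f ≫ y
  downward_closed := by
    rintro V W f ⟨x, hx⟩ g
    exact ⟨g ≫ x, by rw [Category.assoc, hx, Category.assoc]⟩

theorem kerSieve_mem (j : M' ⟶ M) (π : M ⟶ M'') [IsMonHom j] [IsMonHom π] (w : j ≫ π = 1)
    (hex : (CGrpSh.seq K j π w).Exact) {T : Over S} (y : T ⟶ M) (hy : y ≫ π = 1) :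
    kerSieve j y ∈ QuotSh.J K S T := by
  have h := KerLift.exact_locally K (CGrpSh.seq K j π w) hex T (ULift.up (Additive.ofMul y))
    (by
      apply ULift.ext
      show Additive.ofMul (y ≫ π) = 0
      rw [hy]
      rfl)
  refine GrothendieckTopology.superset_covering _ ?_ h
  rintro T' f ⟨t, ht⟩
  refine ⟨t.down.toMul, ?_⟩
  have := congrArg (fun z => (ULift.down z).toMul) ht
  exact this

end ker

section sep

/-- separatedness of representables -/
theorem hom_ext_of_mem {N T : Over S} (R : Sieve T) (hR : R ∈ QuotSh.J K S T) (a b : T ⟶ N)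
    (h : ∀ ⦃T' : Over S⦄ (f : T' ⟶ T), R f → f ≫ a = f ≫ b) : a = b := by
  have hsh : Presieve.IsSheaf (QuotSh.J K S) (yoneda.obj N) :=
    GrothendieckTopology.Subcanonical.isSheaf_of_isRepresentable
      (J := QuotSh.J K S) (yoneda.obj N)
  refine (hsh _ hR).isSeparatedFor.ext ?_
  intro T' f hf
  exact h f hf

/-- Descent of a morphism along a locally surjective morphism, when it is constant on fibres. -/
theorem descent {A X N : Over S} (u : A ⟶ X) (ψ : A ⟶ N)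
    (R : Sieve X) (hR : R ∈ QuotSh.J K S X)
    (hlift : ∀ ⦃T : Over S⦄ (f : T ⟶ X), R f → ∃ a : T ⟶ A, a ≫ u = f)
    (hconst : ∀ (T : Over S) (a₁ a₂ : T ⟶ A), a₁ ≫ u = a₂ ≫ u → a₁ ≫ ψ = a₂ ≫ ψ) :
    ∃ ψ' : X ⟶ N, u ≫ ψ' = ψ ∧ ∀ ψ'' : X ⟶ N, u ≫ ψ'' = ψ → ψ'' = ψ' := by
  have hsh : Presieve.IsSheaf (QuotSh.J K S) (yoneda.obj N) :=
    GrothendieckTopology.Subcanonical.isSheaf_of_isRepresentable
      (J := QuotSh.J K S) (yoneda.obj N)
  choose a ha using hlift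
  let fam : Presieve.FamilyOfElements (yoneda.obj N) R.arrows := fun T f hf => a f hf ≫ ψ
  have hcompat : fam.Compatible := by
    intro T₁ T₂ Z g₁ g₂ f₁ f₂ h₁ h₂ hcomm
    show g₁ ≫ a f₁ h₁ ≫ ψ = g₂ ≫ a f₂ h₂ ≫ ψ
    rw [← Category.assoc, ← Category.assoc]
    apply hconst
    rw [Category.assoc, Category.assoc, ha, ha, hcomm]
  obtain ⟨ψ', hψ', -⟩ := hsh _ hR fam hcompat
  have hψ'' : ∀ ⦃T : Over S⦄ (f : T ⟶ X) (hf : R f), f ≫ ψ' = a f hf ≫ ψ := fun T f hf => hψ' f hf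
  have key : ∀ ψ'' : X ⟶ N, u ≫ ψ'' = ψ → ∀ ⦃T : Over S⦄ (f : T ⟶ X) (hf : R f),
      f ≫ ψ'' = a f hf ≫ ψ := by
    intro ψ'' h T f hf
    rw [← h, ← Category.assoc, ha]
  have huψ' : u ≫ ψ' = ψ := by
    refine hom_ext_of_mem K (R.pullback u) ((QuotSh.J K S).pullback_stable u hR) _ _ ?_
    intro T f hf
    rw [← Category.assoc, hψ'' (f ≫ u) hf]
    apply hconst
    exact ha (f ≫ u) hf
  refine ⟨ψ', huψ', fun ψ'' h => ?_⟩
  refine hom_ext_of_mem K R hR _ _ ?_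
  intro T f hf
  rw [key ψ'' h f hf, hψ'' f hf]

end sep

end Groth.Agent.Helper6.Descent
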