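import Mathlib
import Groth.Prelude.Def_CGrpSh
import Groth.Prelude.Def_W4c1extbt15Mult
import Groth.Agent.Helper6.EpiLift
import Groth.Agent.Helper6.KerLift
import Groth.Agent.Helper6.Descent

namespace Groth.Agent.Helper6.OneSlot

open CategoryTheory CategoryTheory.Limits AlgebraicGeometry Opposite MonObj MonoidalCategory
  CartesianMonoidalCategory

universe u w

section cart
variable {C : Type*} [Category C] [CartesianMonoidalCategory C]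

theorem comp_lift3 {T T' P M Q : C} (f : T' ⟶ T) (p : T ⟶ P) (y : T ⟶ M) (q : T ⟶ Q) :
    f ≫ lift p (lift y q) = lift (f ≫ p) (lift (f ≫ y) (f ≫ q)) := by
  rw [comp_lift, comp_lift]

theorem lift3_whisker {T P M M'' Q : C} (π : M ⟶ M'') (p : T ⟶ P) (y : T ⟶ M) (q : T ⟶ Q) :
    lift p (lift y q) ≫ (P ◁ (π ▷ Q)) = lift p (lift (y ≫ π) q) := by
  rw [lift_whiskerLeft, lift_whiskerRight]

theorem eq_lift3 {T P M Q : C} (a : T ⟶ P ⊗ (M ⊗ Q)) :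
    a = lift (a ≫ fst _ _) (lift (a ≫ snd _ _ ≫ fst _ _) (a ≫ snd _ _ ≫ snd _ _)) := by
  apply CartesianMonoidalCategory.hom_ext
  · simp
  · apply CartesianMonoidalCategory.hom_ext <;> simp

end cart

variable {S : Scheme.{u}} {R : Type w} [CommRing R] {P Q M' M M'' N : Over S}
    [GrpObj M'] [IsCommMonObj M'] [GrpObj M] [IsCommMonObj M] [GrpObj M''] [IsCommMonObj M'']
    [GrpObj N] [IsCommMonObj N]

/-- composition with a homomorphism, as a monoid hom -/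
def compHom {T : Over S} (π : M ⟶ M'') [IsMonHom π] : (T ⟶ M) →* (T ⟶ M'') where
  toFun x := x ≫ π
  map_one' := MonObj.one_comp _
  map_mul' x y := MonObj.mul_comp _ _ _

theorem main
    (ρ : MultSch.RMod R M) (ρ'' : MultSch.RMod R M'') (ρN : MultSch.RMod R N)
    (j : M' ⟶ M) (π : M ⟶ M'') [IsMonHom j] [IsMonHom π]
    (hπ : ∀ a : R, π ≫ ρ''.act a = ρ.act a ≫ π)
    (w : j ≫ π = 1) (hex : (CGrpSh.seq Scheme.fppfPrecoverage j π w).Exact)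
    (hepi : Epi (CGrpSh.ptsMap Scheme.fppfPrecoverage π))
    (ψ : P ⊗ (M ⊗ Q) ⟶ N)
    (hadd : ∀ (T : Over S) (p : T ⟶ P) (q : T ⟶ Q) (y z : T ⟶ M),
      lift p (lift (y * z) q) ≫ ψ = (lift p (lift y q) ≫ ψ) * (lift p (lift z q) ≫ ψ))
    (hlin : ∀ (T : Over S) (p : T ⟶ P) (q : T ⟶ Q) (y : T ⟶ M) (a : R),
      lift p (lift (y ≫ ρ.act a) q) ≫ ψ = (lift p (lift y q) ≫ ψ) ≫ ρN.act a)
    (hvan : ∀ (T : Over S) (p : T ⟶ P) (q : T ⟶ Q) (y' : T ⟶ M'),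
      lift p (lift (y' ≫ j) q) ≫ ψ = 1) :
    ∃ ψ' : P ⊗ (M'' ⊗ Q) ⟶ N,
      (P ◁ (π ▷ Q)) ≫ ψ' = ψ ∧
      (∀ (T : Over S) (p : T ⟶ P) (q : T ⟶ Q) (y z : T ⟶ M''),
        lift p (lift (y * z) q) ≫ ψ' = (lift p (lift y q) ≫ ψ') * (lift p (lift z q) ≫ ψ')) ∧
      (∀ (T : Over S) (p : T ⟶ P) (q : T ⟶ Q) (y : T ⟶ M'') (a : R),
        lift p (lift (y ≫ ρ''.act a) q) ≫ ψ' = (lift p (lift y q) ≫ ψ') ≫ ρN.act a) ∧
      ∀ ψ'' : P ⊗ (M'' ⊗ Q) ⟶ N, (P ◁ (π ▷ Q)) ≫ ψ'' = ψ → ψ'' = ψ' := by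
  set K := Scheme.fppfPrecoverage.{u} with hK
  -- constancy on fibres
  have hconst : ∀ (T : Over S) (a₁ a₂ : T ⟶ P ⊗ (M ⊗ Q)),
      a₁ ≫ (P ◁ (π ▷ Q)) = a₂ ≫ (P ◁ (π ▷ Q)) → a₁ ≫ ψ = a₂ ≫ ψ := by
    intro T a₁ a₂ h
    have hp : a₁ ≫ fst _ _ = a₂ ≫ fst _ _ := by
      have := congrArg (fun g => g ≫ fst _ _) h
      simpa using this
    have hy : (a₁ ≫ snd _ _ ≫ fst _ _) ≫ π = (a₂ ≫ snd _ _ ≫ fst _ _) ≫ π := by
      have := congrArg (fun g => g ≫ snd _ _ ≫ fst _ _) h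
      simpa using this
    have hq : a₁ ≫ snd _ _ ≫ snd _ _ = a₂ ≫ snd _ _ ≫ snd _ _ := by
      have := congrArg (fun g => g ≫ snd _ _ ≫ snd _ _) h
      simpa using this
    set p := a₂ ≫ fst _ _ with hp2
    set q := a₂ ≫ snd _ _ ≫ snd _ _ with hq2
    set y₁ := a₁ ≫ snd _ _ ≫ fst _ _ with hy1
    set y₂ := a₂ ≫ snd _ _ ≫ fst _ _ with hy2
    have e₁ : a₁ = lift p (lift y₁ q) := by
      conv_lhs => rw [eq_lift3 a₁]
      rw [hp, hq]
    have e₂ : a₂ = lift p (lift y₂ q) := eq_lift3 a₂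
    set d : T ⟶ M := y₂⁻¹ * y₁ with hd
    have hdπ : d ≫ π = 1 := by
      have h1 : compHom (T := T) π d = (compHom π y₂)⁻¹ * compHom π y₁ := by
        rw [hd, map_mul, map_inv]
      have h2 : compHom (T := T) π y₁ = compHom π y₂ := hy
      rw [h2, inv_mul_cancel] at h1
      exact h1
    have hy₁ : y₁ = y₂ * d := by rw [hd, mul_inv_cancel_left]
    refine Descent.hom_ext_of_mem K _ (Descent.kerSieve_mem K j π w hex d hdπ) _ _ ?_
    rintro T' f ⟨y', hy'⟩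
    rw [e₁, e₂, ← Category.assoc, ← Category.assoc, comp_lift3, comp_lift3, hy₁, MonObj.comp_mul,
      ← hy', hadd, hvan, _root_.mul_one]
  -- local lifting
  set X : Over S := P ⊗ (M'' ⊗ Q) with hX
  set yX : X ⟶ M'' := snd _ _ ≫ fst _ _ with hyX
  have hcov := EpiLift.liftSieve_mem K π hepi yX
  obtain ⟨ψ', hψ', huniq⟩ := Descent.descent K (P ◁ (π ▷ Q)) ψ (EpiLift.liftSieve π yX) hcov
    (by
      rintro T f ⟨x, hx⟩
      refine ⟨lift (f ≫ fst _ _) (lift x (f ≫ snd _ _ ≫ snd _ _)), ?_⟩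
      rw [lift3_whisker, hx]
      conv_rhs => rw [eq_lift3 f])
    hconst
  have hu : ∀ (T : Over S) (p : T ⟶ P) (x : T ⟶ M) (q : T ⟶ Q),
      lift p (lift (x ≫ π) q) ≫ ψ' = lift p (lift x q) ≫ ψ := by
    intro T p x q
    rw [← lift3_whisker, Category.assoc, hψ']
  refine ⟨ψ', hψ', ?_, ?_, huniq⟩
  · intro T p q y z
    refine Descent.hom_ext_of_mem K _ ((QuotSh.J K S).intersection_covering
      (EpiLift.liftSieve_mem K π hepi y) (EpiLift.liftSieve_mem K π hepi z)) _ _ ?_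
    rintro T' f ⟨⟨y', hy'⟩, ⟨z', hz'⟩⟩
    rw [MonObj.comp_mul, ← Category.assoc, ← Category.assoc, ← Category.assoc, comp_lift3,
      comp_lift3, comp_lift3, MonObj.comp_mul, ← hy', ← hz', ← MonObj.mul_comp, hu, hu, hu, hadd]
  · intro T p q y a
    refine Descent.hom_ext_of_mem K _ (EpiLift.liftSieve_mem K π hepi y) _ _ ?_
    rintro T' f ⟨y', hy'⟩
    rw [← Category.assoc, ← Category.assoc, ← Category.assoc, comp_lift3, comp_lift3,
      ← Category.assoc, ← hy', Category.assoc y', hπ, ← Category.assoc, hu, hu, hlin]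

end Groth.Agent.Helper6.OneSlot
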