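import Mathlib
import Groth.Prelude.Def_CGrpSh
import Groth.Prelude.Def_W4c1extbt15Mult
import Groth.Agent.Helper6.EpiAlt
import Groth.Agent.Helper6.Descent
import Groth.Agent.Helper6.OneSlot
import Groth.Agent.Helper6.AltDesc1

namespace Groth.Agent.Helper6.AltDesc

open CategoryTheory CategoryTheory.Limits AlgebraicGeometry Opposite MonObj MonoidalCategory
  CartesianMonoidalCategory

universe u w

variable {S : Scheme.{u}} {M₁ M₂ M₃ N : Over S}
    [GrpObj M₁] [IsCommMonObj M₁] [GrpObj M₂] [IsCommMonObj M₂] [GrpObj M₃] [IsCommMonObj M₃]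
    [GrpObj N] [IsCommMonObj N]
    (j : M₁ ⟶ M₂) (π : M₂ ⟶ M₃) [IsMonHom j] [IsMonHom π]
    {n : ℕ} (φ : MultSch.pow M₂ n ⟶ N)

theorem van_l (hmult : MultSch.IsMultilinear φ) (halt : MultSch.IsAlternating φ) (hn : 1 ≤ n)
    (hvan : ∀ (T : Over S) (y : T ⟶ M₁) (x : Fin n → (T ⟶ M₂)), x ⟨0, hn⟩ = y ≫ j →
      MultSch.tuple x ≫ φ = 1)
    (T : Over S) (x : Fin n → (T ⟶ M₂)) (l : Fin n) (y' : T ⟶ M₁) (h : x l = y' ≫ j) :
    MultSch.tuple x ≫ φ = 1 := by
  classical
  set o : Fin n := ⟨0, hn⟩ with ho
  by_cases hl : l = o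
  · subst hl
    exact hvan T y' x h
  have hol : o ≠ l := fun e => hl e.symm
  set a := x o with ha
  set c := x l with hc
  set w := Function.update x o (a * c) with hw
  have hwl : w l = c := by rw [hw, Function.update_of_ne hl]
  have hz : MultSch.tuple (Function.update w l (a * c)) ≫ φ = 1 := by
    refine halt T _ o l hol ?_
    rw [Function.update_self, Function.update_of_ne hol, hw, Function.update_self]
  rw [hmult T w l a c] at hz
  have h1 : MultSch.tuple (Function.update w l c) ≫ φ = MultSch.tuple x ≫ φ := by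
    have e1 : Function.update w l c = w := by rw [← hwl, Function.update_eq_self]
    rw [e1, hw, hmult T x o a c]
    have e2 : Function.update x o a = x := by rw [ha, Function.update_eq_self]
    rw [e2, hvan T y' (Function.update x o c) (by rw [Function.update_self]; exact h),
      _root_.mul_one]
  have h2 : MultSch.tuple (Function.update w l a) ≫ φ = 1 := by
    rw [hw, Function.update_comm hol, hmult T (Function.update x l a) o a c]
    have e3 : MultSch.tuple (Function.update (Function.update x l a) o a) ≫ φ = 1 := by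
      refine halt T _ o l hol ?_
      rw [Function.update_self, Function.update_of_ne hl, Function.update_self]
    rw [e3, hvan T y' (Function.update (Function.update x l a) o c)
      (by rw [Function.update_self]; exact h), _root_.mul_one]
  rw [h1, h2, _root_.one_mul] at hz
  exact hz

theorem one_coord (w : j ≫ π = 1) (hex : (CGrpSh.seq Scheme.fppfPrecoverage j π w).Exact)
    (hmult : MultSch.IsMultilinear φ) (halt : MultSch.IsAlternating φ) (hn : 1 ≤ n)
    (hvan : ∀ (T : Over S) (y : T ⟶ M₁) (x : Fin n → (T ⟶ M₂)), x ⟨0, hn⟩ = y ≫ j →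
      MultSch.tuple x ≫ φ = 1)
    (T : Over S) (x : Fin n → (T ⟶ M₂)) (l : Fin n) (y : T ⟶ M₂) (hy : y ≫ π = x l ≫ π) :
    MultSch.tuple (Function.update x l y) ≫ φ = MultSch.tuple x ≫ φ := by
  classical
  set d : T ⟶ M₂ := (x l)⁻¹ * y with hd
  have hdπ : d ≫ π = 1 := by
    have h1 : OneSlot.compHom (T := T) π d =
        (OneSlot.compHom π (x l))⁻¹ * OneSlot.compHom π y := by
      rw [hd, map_mul, map_inv]
    have h2 : OneSlot.compHom (T := T) π y = OneSlot.compHom π (x l) := hy
    rw [h2, inv_mul_cancel] at h1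
    exact h1
  have hy' : y = x l * d := by rw [hd, mul_inv_cancel_left]
  refine Descent.hom_ext_of_mem Scheme.fppfPrecoverage _
    (Descent.kerSieve_mem Scheme.fppfPrecoverage j π w hex d hdπ) _ _ ?_
  rintro T' f ⟨y', hy''⟩
  rw [← Category.assoc, ← Category.assoc, EpiAlt.comp_tuple, EpiAlt.comp_tuple, comp_update,
    hy', MonObj.comp_mul, ← hy'', hmult T' (fun l => f ≫ x l) l (f ≫ x l) (y' ≫ j)]
  have e1 : Function.update (fun l => f ≫ x l) l (f ≫ x l) = fun l => f ≫ x l :=
    Function.update_eq_self l (fun l => f ≫ x l)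
  rw [e1, van_l j φ hmult halt hn hvan T' (Function.update (fun l => f ≫ x l) l (y' ≫ j)) l y'
    (Function.update_self _ _ _), _root_.mul_one]

theorem all_coord (w : j ≫ π = 1) (hex : (CGrpSh.seq Scheme.fppfPrecoverage j π w).Exact)
    (hmult : MultSch.IsMultilinear φ) (halt : MultSch.IsAlternating φ) (hn : 1 ≤ n)
    (hvan : ∀ (T : Over S) (y : T ⟶ M₁) (x : Fin n → (T ⟶ M₂)), x ⟨0, hn⟩ = y ≫ j →
      MultSch.tuple x ≫ φ = 1)
    (T : Over S) (x x' : Fin n → (T ⟶ M₂)) (h : ∀ l, x' l ≫ π = x l ≫ π) :
    MultSch.tuple x' ≫ φ = MultSch.tuple x ≫ φ := by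
  classical
  have key : ∀ s : Finset (Fin n),
      MultSch.tuple (fun l => if l ∈ s then x' l else x l) ≫ φ = MultSch.tuple x ≫ φ := by
    intro s
    induction s using Finset.induction_on with
    | empty => simp
    | insert a s has ih =>
      have e : (fun l => if l ∈ insert a s then x' l else x l) =
          Function.update (fun l => if l ∈ s then x' l else x l) a (x' a) := by
        funext l
        by_cases hla : l = a
        · subst hla
          simp
        · rw [Function.update_of_ne hla]
          simp [Finset.mem_insert, hla]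
      rw [e, one_coord j π φ w hex hmult halt hn hvan T _ a (x' a) (by simp [has, h a]), ih]
  have := key Finset.univ
  simpa using this

end Groth.Agent.Helper6.AltDesc
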