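import Mathlib
import Groth.Prelude.Def_CGrpSh
import Groth.Prelude.Def_W4c1extbt15Mult
import Groth.Agent.Helper6.EpiAlt
import Groth.Agent.Helper6.Descent
import Groth.Agent.Helper6.OneSlot
import Groth.Agent.Helper6.AltDesc1
import Groth.Agent.Helper6.AltDesc2

namespace Groth.Agent.Helper6.AltDesc

open CategoryTheory CategoryTheory.Limits AlgebraicGeometry Opposite MonObj MonoidalCategory
  CartesianMonoidalCategory

universe u w

variable {S : Scheme.{u}} {M₁ M₂ M₃ N : Over S}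
    [GrpObj M₁] [IsCommMonObj M₁] [GrpObj M₂] [IsCommMonObj M₂] [GrpObj M₃] [IsCommMonObj M₃]
    [GrpObj N] [IsCommMonObj N]
    (j : M₁ ⟶ M₂) (π : M₂ ⟶ M₃) [IsMonHom j] [IsMonHom π]
    {n : ℕ} (φ : MultSch.pow M₂ n ⟶ N)

theorem tuple_proj_id (M : Over S) (n : ℕ) :
    MultSch.tuple (fun l : Fin n => proj M l) = 𝟙 (MultSch.pow M n) := by
  have := tuple_eta (𝟙 (MultSch.pow M n))
  simpa using this

theorem main {R : Type w} [CommRing R]
    (ρ₂ : MultSch.RMod R M₂) (ρ₃ : MultSch.RMod R M₃) (ρN : MultSch.RMod R N)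
    (hπ : ∀ a : R, π ≫ ρ₃.act a = ρ₂.act a ≫ π)
    (w : j ≫ π = 1) (hex : (CGrpSh.seq Scheme.fppfPrecoverage j π w).Exact)
    (hepi : Epi (CGrpSh.ptsMap Scheme.fppfPrecoverage π))
    (hn : 1 ≤ n)
    (hmult : MultSch.IsMultilinear φ) (hlin : MultSch.IsRLinear ρ₂ ρN φ)
    (halt : MultSch.IsAlternating φ)
    (hvan : ∀ (T : Over S) (y : T ⟶ M₁) (x : Fin n → (T ⟶ M₂)), x ⟨0, hn⟩ = y ≫ j →
      MultSch.tuple x ≫ φ = 1) :
    ∃ φ' : MultSch.pow M₃ n ⟶ N,
      (∀ (T : Over S) (x : Fin n → (T ⟶ M₂)),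
        MultSch.tuple x ≫ φ = MultSch.tuple (fun l => x l ≫ π) ≫ φ') ∧
      MultSch.IsMultilinear φ' ∧ MultSch.IsRLinear ρ₃ ρN φ' ∧ MultSch.IsAlternating φ' ∧
      ∀ φ'' : MultSch.pow M₃ n ⟶ N,
        (∀ (T : Over S) (x : Fin n → (T ⟶ M₂)),
          MultSch.tuple x ≫ φ = MultSch.tuple (fun l => x l ≫ π) ≫ φ'') → φ'' = φ' := by
  classical
  set K := Scheme.fppfPrecoverage.{u} with hK
  have hconst : ∀ (T : Over S) (a₁ a₂ : T ⟶ MultSch.pow M₂ n),
      a₁ ≫ powMap π n = a₂ ≫ powMap π n → a₁ ≫ φ = a₂ ≫ φ := by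
    intro T a₁ a₂ h
    rw [← tuple_eta a₁, ← tuple_eta a₂] at h ⊢
    rw [tuple_powMap, tuple_powMap] at h
    refine all_coord j π φ w hex hmult halt hn hvan T _ _ (fun l => ?_)
    have := congrArg (fun g => g ≫ proj M₃ l) h
    simp only [tuple_proj] at this
    exact this
  have hcovAll : ∀ {T : Over S} (x : Fin n → (T ⟶ M₃)),
      EpiAlt.allSieve (fun l : Fin n => EpiLift.liftSieve π (x l)) Finset.univ ∈ QuotSh.J K S T :=
    fun x => EpiAlt.allSieve_mem (QuotSh.J K S) _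
      (fun l => EpiLift.liftSieve_mem K π hepi (x l)) Finset.univ
  obtain ⟨φ', hφ', huniq⟩ := Descent.descent K (powMap π n) φ _ (hcovAll (proj M₃))
    (by
      intro T f hf
      have hx : ∀ l : Fin n, ∃ x : T ⟶ M₂, x ≫ π = f ≫ proj M₃ l :=
        fun l => hf l (Finset.mem_univ l)
      choose x hx using hx
      refine ⟨MultSch.tuple x, ?_⟩
      rw [tuple_powMap, funext hx, tuple_eta])
    hconst
  have hfac : ∀ (T : Over S) (x : Fin n → (T ⟶ M₂)),
      MultSch.tuple x ≫ φ = MultSch.tuple (fun l => x l ≫ π) ≫ φ' := by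
    intro T x
    rw [← hφ', ← Category.assoc, tuple_powMap]
  have hloc : ∀ {T T' : Over S} (f : T' ⟶ T) (x : Fin n → (T ⟶ M₃)) (x' : Fin n → (T' ⟶ M₂))
      (_ : ∀ l, x' l ≫ π = f ≫ x l) (i : Fin n) (y : T ⟶ M₃) (y' : T' ⟶ M₂)
      (_ : y' ≫ π = f ≫ y),
      f ≫ MultSch.tuple (Function.update x i y) ≫ φ' =
        MultSch.tuple (Function.update x' i y') ≫ φ := by
    intro T T' f x x' hx i y y' hy
    rw [← Category.assoc, EpiAlt.comp_tuple, comp_update, hfac, update_comp, funext hx, hy]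
  have hloc0 : ∀ {T T' : Over S} (f : T' ⟶ T) (x : Fin n → (T ⟶ M₃)) (x' : Fin n → (T' ⟶ M₂))
      (_ : ∀ l, x' l ≫ π = f ≫ x l),
      f ≫ MultSch.tuple x ≫ φ' = MultSch.tuple x' ≫ φ := by
    intro T T' f x x' hx
    rw [← Category.assoc, EpiAlt.comp_tuple, hfac, funext hx]
  refine ⟨φ', hfac, ?_, ?_, ?_, ?_⟩
  · intro T x i y z
    refine Descent.hom_ext_of_mem K _ ((QuotSh.J K S).intersection_covering (hcovAll x)
      ((QuotSh.J K S).intersection_covering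
        (EpiLift.liftSieve_mem K π hepi y) (EpiLift.liftSieve_mem K π hepi z))) _ _ ?_
    rintro T' f ⟨hf, ⟨y', hy'⟩, ⟨z', hz'⟩⟩
    have hx : ∀ l : Fin n, ∃ x' : T' ⟶ M₂, x' ≫ π = f ≫ x l :=
      fun l => hf l (Finset.mem_univ l)
    choose x' hx using hx
    rw [MonObj.comp_mul, hloc f x x' hx i y y' hy', hloc f x x' hx i z z' hz',
      hloc f x x' hx i (y * z) (y' * z') (by rw [MonObj.mul_comp, hy', hz', MonObj.comp_mul]),
      hmult]
  · intro T x i a
    refine Descent.hom_ext_of_mem K _ (hcovAll x) _ _ ?_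
    intro T' f hf
    have hx : ∀ l : Fin n, ∃ x' : T' ⟶ M₂, x' ≫ π = f ≫ x l :=
      fun l => hf l (Finset.mem_univ l)
    choose x' hx using hx
    rw [hloc f x x' hx i (x i ≫ ρ₃.act a) (x' i ≫ ρ₂.act a)
      (by rw [Category.assoc, ← hπ, ← Category.assoc, hx, Category.assoc]),
      ← Category.assoc, ← Category.assoc, Category.assoc f, hloc0 f x x' hx, hlin]
  · exact EpiAlt.main π hepi φ' (fun T x i j hij hx => by
      rw [← hfac]
      exact halt T x i j hij hx)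
  · intro φ'' h
    refine huniq φ'' ?_
    have := h (MultSch.pow M₂ n) (fun l => proj M₂ l)
    rw [tuple_proj_id, Category.id_comp] at this
    rw [this]
    rfl

end Groth.Agent.Helper6.AltDesc
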