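import Mathlib

set_option autoImplicit false
set_option linter.style.haveILetI false
set_option linter.unusedSectionVars false

/-!
# Bi-alternants `det (x_i^{p_j} y_i^{q_j})` span the alternating polynomials and are independent
-/

namespace Groth.Agent.Helper6.Alternants

open MvPolynomial

variable {k : Type*} [Field k] {n : ℕ}

/-- the monomial `x_i^a y_i^b` -/
noncomputable def mm (k : Type*) [Field k] {n : ℕ} (i : Fin n) (c : ℕ × ℕ) :
    MvPolynomial (Fin n × Fin 2) k :=
  X (i, 0) ^ c.1 * X (i, 1) ^ c.2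

/-- the bi-alternant -/
noncomputable def D (k : Type*) [Field k] {n : ℕ} (p : Fin n → ℕ × ℕ) :
    MvPolynomial (Fin n × Fin 2) k :=
  (Matrix.of fun i j : Fin n => mm k i (p j)).det

/-- the diagonal permutation action -/
noncomputable def rho (k : Type*) [Field k] {n : ℕ} (σ : Equiv.Perm (Fin n)) :
    MvPolynomial (Fin n × Fin 2) k →ₐ[k] MvPolynomial (Fin n × Fin 2) k :=
  rename (fun v : Fin n × Fin 2 => (σ v.1, v.2))

theorem rho_mm (σ : Equiv.Perm (Fin n)) (i : Fin n) (c : ℕ × ℕ) :
    rho k σ (mm k i c) = mm k (σ i) c := by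
  simp only [rho, mm, map_mul, map_pow, rename_X]

theorem rho_D (σ : Equiv.Perm (Fin n)) (p : Fin n → ℕ × ℕ) :
    rho k σ (D k p) = ((Equiv.Perm.sign σ : ℤˣ) : ℤ) • D k p := by
  rw [D, AlgHom.map_det]
  have h1 : (rho k σ).mapMatrix (Matrix.of fun i j : Fin n => mm k i (p j)) =
      (Matrix.of fun i j : Fin n => mm k i (p j)).submatrix σ id := by
    ext i j
    simp only [AlgHom.mapMatrix_apply, Matrix.map_apply, Matrix.of_apply, Matrix.submatrix_apply,
      id_eq, rho_mm]
  rw [h1, Matrix.det_permute, zsmul_eq_mul]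

theorem D_eq_sum (p : Fin n → ℕ × ℕ) :
    D k p = ∑ σ : Equiv.Perm (Fin n), Equiv.Perm.sign σ • ∏ i, mm k i (p (σ i)) := by
  rw [D, ← Matrix.det_transpose, Matrix.det_apply]
  rfl

theorem sum_rho_mon (q : Fin n → ℕ × ℕ) :
    ∑ σ : Equiv.Perm (Fin n), Equiv.Perm.sign σ • rho k σ (∏ i, mm k i (q i)) = D k q := by
  rw [D, Matrix.det_apply]
  refine Finset.sum_congr rfl fun σ _ => ?_
  rw [map_prod]
  simp only [rho_mm, Matrix.of_apply]

/-- exponent vector -/
noncomputable def E (q : Fin n → ℕ × ℕ) : (Fin n × Fin 2) →₀ ℕ :=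
  Finsupp.equivFunOnFinite.symm (fun v => if v.2 = 0 then (q v.1).1 else (q v.1).2)

theorem E_apply_zero (q : Fin n → ℕ × ℕ) (i : Fin n) : E q (i, 0) = (q i).1 := by
  show (if (0 : Fin 2) = 0 then (q i).1 else (q i).2) = (q i).1
  rw [if_pos rfl]

theorem E_apply_one (q : Fin n → ℕ × ℕ) (i : Fin n) : E q (i, 1) = (q i).2 := by
  show (if (1 : Fin 2) = 0 then (q i).1 else (q i).2) = (q i).2
  rw [if_neg (by decide)]

theorem E_injective : Function.Injective (E (n := n)) := by
  intro q q' h
  funext i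
  exact Prod.ext (by rw [← E_apply_zero q, h, E_apply_zero])
    (by rw [← E_apply_one q, h, E_apply_one])

theorem prod_mm (q : Fin n → ℕ × ℕ) : ∏ i, mm k i (q i) = monomial (E q) (1 : k) := by
  rw [monomial_eq, C_1, one_mul, Finsupp.prod_fintype _ _ (fun _ => pow_zero _),
    Fintype.prod_prod_type]
  refine Finset.prod_congr rfl fun i _ => ?_
  rw [Fin.prod_univ_two, E_apply_zero, E_apply_one, mm]

/-- the pair of exponents of `x_i, y_i` in an exponent vector -/
def pOf (d : (Fin n × Fin 2) →₀ ℕ) : Fin n → ℕ × ℕ := fun i => (d (i, 0), d (i, 1))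

theorem E_pOf (d : (Fin n × Fin 2) →₀ ℕ) : E (pOf d) = d := by
  ext ⟨i, j⟩
  fin_cases j
  · exact E_apply_zero _ i
  · exact E_apply_one _ i

/-- antisymmetrization -/
noncomputable def A (f : MvPolynomial (Fin n × Fin 2) k) : MvPolynomial (Fin n × Fin 2) k :=
  ∑ σ : Equiv.Perm (Fin n), Equiv.Perm.sign σ • rho k σ f

theorem A_add (f g : MvPolynomial (Fin n × Fin 2) k) : A (f + g) = A f + A g := by
  simp only [A, map_add, smul_add, Finset.sum_add_distrib]

theorem A_smul (a : k) (f : MvPolynomial (Fin n × Fin 2) k) : A (a • f) = a • A f := by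
  simp only [A, map_smul, Finset.smul_sum]
  refine Finset.sum_congr rfl fun σ _ => ?_
  rw [smul_comm]

theorem A_mem (f : MvPolynomial (Fin n × Fin 2) k) :
    A f ∈ Submodule.span k (Set.range (D k (n := n))) := by
  induction f using MvPolynomial.induction_on' with
  | monomial d a =>
    have h1 : monomial d a = a • ∏ i, mm k i (pOf d i) := by
      rw [prod_mm, E_pOf, smul_monomial, smul_eq_mul, mul_one]
    rw [h1, A_smul]
    apply Submodule.smul_mem
    apply Submodule.subset_span
    exact ⟨pOf d, (sum_rho_mon (pOf d)).symm⟩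
  | add p q hp hq =>
    rw [A_add]
    exact Submodule.add_mem _ hp hq

theorem A_of_alt {f : MvPolynomial (Fin n × Fin 2) k}
    (hf : ∀ σ : Equiv.Perm (Fin n), rho k σ f = ((Equiv.Perm.sign σ : ℤˣ) : ℤ) • f) :
    A f = (n.factorial : k) • f := by
  have h1 : ∀ σ : Equiv.Perm (Fin n), Equiv.Perm.sign σ • rho k σ f = f := by
    intro σ
    rw [hf σ, Units.smul_def, smul_smul, Int.units_coe_mul_self, one_smul]
  simp only [A, h1]
  rw [Finset.sum_const, Finset.card_univ, Fintype.card_perm, Fintype.card_fin,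
    Nat.cast_smul_eq_nsmul]

theorem part1 [CharZero k] (f : MvPolynomial (Fin n × Fin 2) k) :
    (∀ σ : Equiv.Perm (Fin n), rho k σ f = ((Equiv.Perm.sign σ : ℤˣ) : ℤ) • f) ↔
      f ∈ Submodule.span k (Set.range (D k (n := n))) := by
  constructor
  · intro hf
    have h1 := A_mem (k := k) f
    rw [A_of_alt hf] at h1
    have h2 : ((n.factorial : k))⁻¹ • ((n.factorial : k) • f) ∈
        Submodule.span k (Set.range (D k (n := n))) := Submodule.smul_mem _ _ h1
    rwa [inv_smul_smul₀ (Nat.cast_ne_zero.mpr (Nat.factorial_ne_zero n))] at h2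
  · intro hf σ
    induction hf using Submodule.span_induction with
    | mem x hx =>
      obtain ⟨p, rfl⟩ := hx
      exact rho_D σ p
    | zero => rw [map_zero, smul_zero]
    | add x y _ _ hx hy => rw [map_add, hx, hy, smul_add]
    | smul a x _ hx => rw [map_smul, hx, smul_comm]

theorem coeff_units_smul (d : (Fin n × Fin 2) →₀ ℕ) (u : ℤˣ)
    (x : MvPolynomial (Fin n × Fin 2) k) : coeff d (u • x) = (u : ℤ) • coeff d x := by
  rw [Units.smul_def]
  exact map_zsmul (coeffAddMonoidHom d) _ _

theorem coeff_D_of_strictMono {p p₀ : Fin n → ℕ ×ₗ ℕ} (hp : StrictMono p) (hp₀ : StrictMono p₀) :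
    coeff (E (fun j => ofLex (p₀ j))) (D k (fun j => ofLex (p j))) = if p = p₀ then 1 else 0 := by
  classical
  rw [D_eq_sum, coeff_sum]
  simp only [coeff_units_smul, prod_mm, coeff_monomial]
  by_cases hpp : p = p₀
  · rw [if_pos hpp, Finset.sum_eq_single (1 : Equiv.Perm (Fin n))]
    · rw [if_pos, Equiv.Perm.sign_one]
      · simp
      · rw [hpp]
        rfl
    · intro σ _ hσ
      rw [if_neg, smul_zero]
      intro hE
      apply hσ
      have h1 := E_injective hE
      ext i
      have h2 := congrFun h1 i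
      have h3 : p (σ i) = p i := (ofLex.injective h2).trans (by rw [hpp])
      rw [hp.injective h3]
      rfl
    · intro h
      exact absurd (Finset.mem_univ _) h
  · rw [if_neg hpp]
    refine Finset.sum_eq_zero fun σ _ => ?_
    rw [if_neg, smul_zero]
    intro hE
    apply hpp
    have h1 := E_injective hE
    have h4 : ∀ i, p (σ i) = p₀ i := fun i => ofLex.injective (congrFun h1 i)
    apply (hp.range_inj hp₀).mp
    ext c
    constructor
    · rintro ⟨i, rfl⟩
      exact ⟨σ.symm i, by rw [← h4, Equiv.apply_symm_apply]⟩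
    · rintro ⟨i, rfl⟩
      exact ⟨σ i, h4 i⟩

theorem part2 : LinearIndependent k (fun p : {p : Fin n → ℕ ×ₗ ℕ // StrictMono p} =>
    D k (fun j => ofLex (p.1 j))) := by
  classical
  rw [linearIndependent_iff']
  intro s g hg p hp
  have h1 := congrArg (coeff (E (fun j => ofLex (p.1 j)))) hg
  rw [coeff_sum, coeff_zero] at h1
  simp only [coeff_smul, coeff_D_of_strictMono (Subtype.property _) p.2] at h1
  rw [Finset.sum_eq_single p] at h1
  · rw [if_pos rfl, smul_eq_mul, mul_one] at h1
    exact h1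
  · intro q _ hq
    rw [if_neg, smul_zero]
    intro h
    exact hq (Subtype.ext h)
  · intro h
    exact absurd hp h

theorem main (k : Type*) [Field k] [CharZero k] (n : ℕ) :
    (∀ f : MvPolynomial (Fin n × Fin 2) k,
      (∀ σ : Equiv.Perm (Fin n),
          MvPolynomial.rename (fun v : Fin n × Fin 2 => (σ v.1, v.2)) f =
            ((Equiv.Perm.sign σ : ℤˣ) : ℤ) • f) ↔
        f ∈ Submodule.span k (Set.range fun p : Fin n → ℕ × ℕ =>
          (Matrix.of fun i j : Fin n =>
            (MvPolynomial.X (i, 0) : MvPolynomial (Fin n × Fin 2) k) ^ (p j).1 *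
              MvPolynomial.X (i, 1) ^ (p j).2).det)) ∧
    LinearIndependent k (fun p : {p : Fin n → ℕ ×ₗ ℕ // StrictMono p} =>
      (Matrix.of fun i j : Fin n =>
        (MvPolynomial.X (i, 0) : MvPolynomial (Fin n × Fin 2) k) ^ (ofLex (p.1 j)).1 *
          MvPolynomial.X (i, 1) ^ (ofLex (p.1 j)).2).det) :=
  ⟨fun f => part1 f, part2⟩

end Groth.Agent.Helper6.Alternants
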