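import Mathlib

/-!
# Helper6: exactness of the Amitsur complex `M ⊗ R' → M ⊗ R'^{⊗2} → M ⊗ R'^{⊗3}` in degree one
-/

set_option autoImplicit false
universe u

open TensorProduct

namespace Groth.Agent.Helper6.Amitsur1

variable (R R' : Type u) [CommRing R] [CommRing R'] [Algebra R R'] (M : Type u) [AddCommGroup M]
  [Module R M]

/-- `δ¹` -/
noncomputable def d1 : M ⊗[R] R' →ₗ[R] M ⊗[R] (R' ⊗[R] R') :=
  LinearMap.lTensor M (Algebra.TensorProduct.includeRight : R' →ₐ[R] R' ⊗[R] R').toLinearMap -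
    LinearMap.lTensor M (Algebra.TensorProduct.includeLeft : R' →ₐ[R] R' ⊗[R] R').toLinearMap

/-- `δ²` -/
noncomputable def d2 : M ⊗[R] (R' ⊗[R] R') →ₗ[R] M ⊗[R] (R' ⊗[R] (R' ⊗[R] R')) :=
  LinearMap.lTensor M
      (Algebra.TensorProduct.includeRight : R' ⊗[R] R' →ₐ[R] R' ⊗[R] (R' ⊗[R] R')).toLinearMap -
    LinearMap.lTensor M
      (Algebra.TensorProduct.map (AlgHom.id R R')
        (Algebra.TensorProduct.includeRight : R' →ₐ[R] R' ⊗[R] R')).toLinearMap +
    LinearMap.lTensor M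
      (Algebra.TensorProduct.map (AlgHom.id R R')
        (Algebra.TensorProduct.includeLeft : R' →ₐ[R] R' ⊗[R] R')).toLinearMap

/-- `c ⊗ (a ⊗ x) ↦ ca ⊗ x` -/
noncomputable def mulFirst (X : Type u) [AddCommGroup X] [Module R X] :
    R' ⊗[R] (R' ⊗[R] X) →ₗ[R] R' ⊗[R] X :=
  LinearMap.rTensor X (LinearMap.mul' R R') ∘ₗ (TensorProduct.assoc R R' R' X).symm.toLinearMap

@[simp] lemma mulFirst_tmul (X : Type u) [AddCommGroup X] [Module R X] (c a : R') (x : X) :
    mulFirst R R' X (c ⊗ₜ (a ⊗ₜ x)) = (c * a) ⊗ₜ x := by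
  simp [mulFirst]

/-- the contraction `R' ⊗ (M ⊗ (R' ⊗ X)) → R' ⊗ (M ⊗ X)`, `c ⊗ m ⊗ (a ⊗ x) ↦ ca ⊗ m ⊗ x` -/
noncomputable def s (X : Type u) [AddCommGroup X] [Module R X] :
    R' ⊗[R] (M ⊗[R] (R' ⊗[R] X)) →ₗ[R] R' ⊗[R] (M ⊗[R] X) :=
  (TensorProduct.leftComm R M R' X).toLinearMap ∘ₗ
    LinearMap.lTensor M (mulFirst R R' X) ∘ₗ (TensorProduct.leftComm R R' M (R' ⊗[R] X)).toLinearMap

@[simp] lemma s_tmul (X : Type u) [AddCommGroup X] [Module R X] (c a : R') (m : M) (x : X) :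
    s R R' M X (c ⊗ₜ (m ⊗ₜ (a ⊗ₜ x))) = (c * a) ⊗ₜ (m ⊗ₜ x) := by
  simp [s]

lemma d2_comp_d1 : d2 R R' M ∘ₗ d1 R R' M = 0 := by
  apply TensorProduct.ext'
  intro m r
  simp [d1, d2, TensorProduct.tmul_sub, TensorProduct.tmul_add]

lemma homotopy :
    (d1 R R' M).lTensor R' ∘ₗ s R R' M R' + s R R' M (R' ⊗[R] R') ∘ₗ (d2 R R' M).lTensor R' =
      LinearMap.id := by
  apply TensorProduct.ext'
  intro c y
  induction y using TensorProduct.induction_on with
  | zero => simp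
  | add y₁ y₂ h₁ h₂ =>
    rw [TensorProduct.tmul_add, map_add, h₁, h₂, map_add]
  | tmul m x =>
    induction x using TensorProduct.induction_on with
    | zero => simp
    | add x₁ x₂ h₁ h₂ =>
      rw [TensorProduct.tmul_add, TensorProduct.tmul_add, map_add, h₁, h₂, map_add]
    | tmul a b =>
      simp [d1, d2, TensorProduct.tmul_sub, TensorProduct.tmul_add]

theorem exact [Module.FaithfullyFlat R R'] : Function.Exact (d1 R R' M) (d2 R R' M) := by
  apply Module.FaithfullyFlat.lTensor_reflects_exact R R'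
  intro z
  constructor
  · intro hz
    refine ⟨s R R' M R' z, ?_⟩
    have := congrArg (fun φ => φ z) (homotopy R R' M)
    simp only [LinearMap.comp_apply, LinearMap.add_apply, LinearMap.id_apply] at this
    rw [hz, map_zero, add_zero] at this
    exact this
  · rintro ⟨w, rfl⟩
    rw [← LinearMap.comp_apply, ← LinearMap.lTensor_comp, d2_comp_d1, LinearMap.lTensor_zero,
      LinearMap.zero_apply]

end Groth.Agent.Helper6.Amitsur1
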