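import Mathlib

set_option backward.isDefEq.respectTransparency false
set_option backward.isDefEq.respectTransparency.types false

open CategoryTheory Limits TensorProduct Simplicial

namespace Groth.Agent.Helper6.AmitsurCo

universe u
variable (R A : Type u) [CommRing R] [CommRing A] [Algebra R A]

/-- the arrow `R ⟶ A`. -/
noncomputable abbrev fA : Arrow CommRingCat.{u} := Arrow.mk (CommRingCat.ofHom (algebraMap R A))

/-- the Čech conerve. -/
noncomputable abbrev X : CosimplicialObject CommRingCat.{u} := (fA R A).cechConerve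

/-- the `n`-th ring of the conerve. -/
noncomputable abbrev Xn (n : ℕ) : CommRingCat.{u} :=
  widePushout (fA R A).left (fun _ : Fin (n + 1) => (fA R A).right) (fun _ => (fA R A).hom)

noncomputable abbrev hd (n : ℕ) : CommRingCat.of R ⟶ Xn R A n :=
  WidePushout.head (fun _ : Fin (n + 1) => (fA R A).hom)

noncomputable abbrev inj (n : ℕ) (j : Fin (n + 1)) : CommRingCat.of A ⟶ Xn R A n :=
  WidePushout.ι (fun _ : Fin (n + 1) => (fA R A).hom) j

/-- the cosimplicial maps with explicit types. -/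
noncomputable abbrev mapX {m n : ℕ} (g : (⦋m⦌ : SimplexCategory) ⟶ ⦋n⦌) :
    Xn R A m ⟶ Xn R A n := (X R A).map g

noncomputable abbrev δX {n : ℕ} (i : Fin (n + 2)) : Xn R A n ⟶ Xn R A (n + 1) :=
  mapX R A (SimplexCategory.δ i)

lemma f_inj (n : ℕ) (j : Fin (n + 1)) : (fA R A).hom ≫ inj R A n j = hd R A n :=
  WidePushout.arrow_ι (fun _ : Fin (n + 1) => (fA R A).hom) j

lemma hd_map {m n : ℕ} (g : (⦋m⦌ : SimplexCategory) ⟶ ⦋n⦌) :
    hd R A m ≫ mapX R A g = hd R A n :=
  WidePushout.head_desc _ _ _ _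

lemma inj_map {m n : ℕ} (g : (⦋m⦌ : SimplexCategory) ⟶ ⦋n⦌) (j : Fin (m + 1)) :
    inj R A m j ≫ mapX R A g = inj R A n (g.toOrderHom j) :=
  WidePushout.ι_desc _ _ _ _ j

noncomputable instance algX (n : ℕ) : Algebra R (Xn R A n) := (hd R A n).hom.toAlgebra

lemma algebraMap_X (n : ℕ) (r : R) : algebraMap R (Xn R A n) r = (hd R A n).hom r := rfl

/-- the coface maps as algebra maps. -/
noncomputable def δA {n : ℕ} (i : Fin (n + 2)) : Xn R A n →ₐ[R] Xn R A (n + 1) :=
  { (δX R A i).hom with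
    commutes' := fun r => by
      have := ConcreteCategory.congr_hom (hd_map R A (SimplexCategory.δ i)) r
      exact this }

lemma δA_apply {n : ℕ} (i : Fin (n + 2)) (x : Xn R A n) :
    δA R A i x = (δX R A i).hom x := rfl

/-- the family used for `σ`. -/
noncomputable def σfam (n : ℕ) (j : Fin (n + 2)) :
    CommRingCat.of A ⟶ CommRingCat.of (A ⊗[R] Xn R A n) :=
  Fin.cases (motive := fun _ => CommRingCat.of A ⟶ CommRingCat.of (A ⊗[R] Xn R A n))
    (CommRingCat.ofHom
      (Algebra.TensorProduct.includeLeft : A →ₐ[R] A ⊗[R] Xn R A n).toRingHom)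
    (fun k => inj R A n k ≫ CommRingCat.ofHom
      (Algebra.TensorProduct.includeRight : Xn R A n →ₐ[R] A ⊗[R] Xn R A n).toRingHom) j

lemma σfam_zero (n : ℕ) : σfam R A n 0 = CommRingCat.ofHom
      (Algebra.TensorProduct.includeLeft : A →ₐ[R] A ⊗[R] Xn R A n).toRingHom := rfl

lemma σfam_succ (n : ℕ) (k : Fin (n + 1)) : σfam R A n k.succ = inj R A n k ≫ CommRingCat.ofHom
      (Algebra.TensorProduct.includeRight : Xn R A n →ₐ[R] A ⊗[R] Xn R A n).toRingHom := by
  unfold σfam
  rw [Fin.cases_succ]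

lemma σfam_w (n : ℕ) (j : Fin (n + 2)) : (fA R A).hom ≫ σfam R A n j =
    CommRingCat.ofHom (algebraMap R (A ⊗[R] Xn R A n)) := by
  refine Fin.cases ?_ (fun k => ?_) j
  · rw [σfam_zero]
    ext r
    exact (Algebra.TensorProduct.includeLeft : A →ₐ[R] A ⊗[R] Xn R A n).commutes r
  · rw [σfam_succ, ← Category.assoc, f_inj]
    ext r
    exact (Algebra.TensorProduct.includeRight :
      Xn R A n →ₐ[R] A ⊗[R] Xn R A n).commutes r

/-- the "multiply the zeroth factor into `A`" ring map. -/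
noncomputable def σ (n : ℕ) : Xn R A (n + 1) ⟶ CommRingCat.of (A ⊗[R] Xn R A n) :=
  WidePushout.desc (CommRingCat.ofHom (algebraMap R (A ⊗[R] Xn R A n)))
    (σfam R A n) (σfam_w R A n)

lemma hd_σ (n : ℕ) : hd R A (n + 1) ≫ σ R A n =
    CommRingCat.ofHom (algebraMap R (A ⊗[R] Xn R A n)) :=
  WidePushout.head_desc _ _ _ _

lemma inj_zero_σ (n : ℕ) : inj R A (n + 1) 0 ≫ σ R A n =
    CommRingCat.ofHom
      (Algebra.TensorProduct.includeLeft : A →ₐ[R] A ⊗[R] Xn R A n).toRingHom :=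
  (WidePushout.ι_desc _ _ _ _ 0).trans (σfam_zero R A n)

lemma inj_succ_σ (n : ℕ) (k : Fin (n + 1)) : inj R A (n + 1) k.succ ≫ σ R A n =
    inj R A n k ≫ CommRingCat.ofHom
      (Algebra.TensorProduct.includeRight : Xn R A n →ₐ[R] A ⊗[R] Xn R A n).toRingHom :=
  (WidePushout.ι_desc _ _ _ _ k.succ).trans (σfam_succ R A n k)

/-- `σ` as an algebra map. -/
noncomputable def σA (n : ℕ) : Xn R A (n + 1) →ₐ[R] A ⊗[R] Xn R A n :=
  { (σ R A n).hom with
    commutes' := fun r => by
      have := ConcreteCategory.congr_hom (hd_σ R A n) r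
      exact this }

lemma σA_apply (n : ℕ) (x : Xn R A (n + 1)) : σA R A n x = (σ R A n).hom x := rfl

/-- the contracting homotopy (a ring map). -/
noncomputable def h (n : ℕ) : A ⊗[R] Xn R A (n + 1) →ₐ[R] A ⊗[R] Xn R A n :=
  Algebra.TensorProduct.productMap Algebra.TensorProduct.includeLeft (σA R A n)

/-- `1 ⊗ δ_i`. -/
noncomputable def tδ {n : ℕ} (i : Fin (n + 2)) : A ⊗[R] Xn R A n →ₐ[R] A ⊗[R] Xn R A (n + 1) :=
  Algebra.TensorProduct.map (AlgHom.id R A) (δA R A i)

lemma tδ_tmul {n : ℕ} (i : Fin (n + 2)) (a : A) (x : Xn R A n) :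
    tδ R A i (a ⊗ₜ[R] x) = a ⊗ₜ[R] δA R A i x := by
  simp [tδ]

lemma σ_δ_zero (n : ℕ) : δX R A 0 ≫ σ R A n =
    CommRingCat.ofHom
      (Algebra.TensorProduct.includeRight : Xn R A n →ₐ[R] A ⊗[R] Xn R A n).toRingHom := by
  refine WidePushout.hom_ext _ _ _ (fun j => ?_) ?_
  · have e1 : inj R A n j ≫ δX R A 0 = inj R A (n + 1) j.succ := by
      rw [inj_map R A (SimplexCategory.δ (0 : Fin (n + 2))) j]
      congr 1
    rw [← Category.assoc]
    exact (congrArg (· ≫ σ R A n) e1).trans (inj_succ_σ R A n j)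
  · rw [← Category.assoc]
    have e1 : hd R A n ≫ δX R A 0 = hd R A (n + 1) :=
      hd_map R A (SimplexCategory.δ (0 : Fin (n + 2)))
    refine (congrArg (· ≫ σ R A n) e1).trans ((hd_σ R A n).trans ?_)
    ext r
    exact ((Algebra.TensorProduct.includeRight :
          Xn R A n →ₐ[R] A ⊗[R] Xn R A n).commutes r).symm

lemma σ_δ_succ (n : ℕ) (i : Fin (n + 2)) : δX R A i.succ ≫ σ R A (n + 1) =
    σ R A n ≫ CommRingCat.ofHom (tδ R A i).toRingHom := by
  refine WidePushout.hom_ext _ _ _ (fun j => ?_) ?_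
  · refine Fin.cases ?_ (fun k => ?_) j
    · have e1 : inj R A (n + 1) 0 ≫ δX R A i.succ = inj R A (n + 2) 0 := by
        rw [inj_map R A (SimplexCategory.δ (i.succ : Fin (n + 3))) 0]
        congr 1
      rw [← Category.assoc, ← Category.assoc]
      refine (congrArg (· ≫ σ R A (n + 1)) e1).trans ((inj_zero_σ R A (n + 1)).trans ?_)
      rw [inj_zero_σ]
      ext a
      change a ⊗ₜ[R] (1 : Xn R A (n + 1)) = tδ R A i (a ⊗ₜ[R] (1 : Xn R A n))
      rw [tδ_tmul, map_one]
    · have e1 : inj R A (n + 1) k.succ ≫ δX R A i.succ =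
          inj R A (n + 2) (i.succAbove k).succ := by
        rw [inj_map R A (SimplexCategory.δ (i.succ : Fin (n + 3))) k.succ]
        congr 1
        exact Fin.succ_succAbove_succ i k
      have e2 : inj R A n k ≫ δX R A i = inj R A (n + 1) (i.succAbove k) := by
        rw [inj_map R A (SimplexCategory.δ (i : Fin (n + 2))) k]
        congr 1
      rw [← Category.assoc, ← Category.assoc]
      refine (congrArg (· ≫ σ R A (n + 1)) e1).trans ((inj_succ_σ R A (n + 1) _).trans ?_)
      rw [inj_succ_σ, ← e2, Category.assoc, Category.assoc]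
      congr 1
  · rw [← Category.assoc, ← Category.assoc]
    have e1 : hd R A (n + 1) ≫ δX R A i.succ = hd R A (n + 2) :=
      hd_map R A (SimplexCategory.δ (i.succ : Fin (n + 3)))
    refine (congrArg (· ≫ σ R A (n + 1)) e1).trans ((hd_σ R A (n + 1)).trans ?_)
    rw [hd_σ]
    ext r
    exact ((tδ R A i).commutes r).symm

lemma h_tmul (n : ℕ) (a : A) (x : Xn R A (n + 1)) :
    h R A n (a ⊗ₜ[R] x) = (a ⊗ₜ[R] (1 : Xn R A n)) * σA R A n x := by
  simp [h]

lemma h_tδ_zero (n : ℕ) (y : A ⊗[R] Xn R A n) : h R A n (tδ R A 0 y) = y := by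
  have : (h R A n).comp (tδ R A 0) = AlgHom.id R _ := by
    refine Algebra.TensorProduct.ext' (fun a x => ?_)
    have e := ConcreteCategory.congr_hom (σ_δ_zero R A n) x
    have e' : σA R A n (δA R A 0 x) = (1 : A) ⊗ₜ[R] x := e
    rw [AlgHom.comp_apply, tδ_tmul, h_tmul, e', Algebra.TensorProduct.tmul_mul_tmul, mul_one,
      one_mul, AlgHom.id_apply]
  exact DFunLike.congr_fun this y

lemma h_tδ_succ (n : ℕ) (i : Fin (n + 2)) (y : A ⊗[R] Xn R A (n + 1)) :
    h R A (n + 1) (tδ R A i.succ y) = tδ R A i (h R A n y) := by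
  have : (h R A (n + 1)).comp (tδ R A i.succ) = (tδ R A i).comp (h R A n) := by
    refine Algebra.TensorProduct.ext' (fun a x => ?_)
    have e := ConcreteCategory.congr_hom (σ_δ_succ R A n i) x
    have e' : σA R A (n + 1) (δA R A i.succ x) = tδ R A i (σA R A n x) := e
    rw [AlgHom.comp_apply, AlgHom.comp_apply, tδ_tmul, h_tmul, h_tmul, e', map_mul, tδ_tmul,
      map_one]
  exact DFunLike.congr_fun this y

/-- the differential, as a linear map. -/
noncomputable def dl (n : ℕ) : Xn R A n →ₗ[R] Xn R A (n + 1) :=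
  ∑ i : Fin (n + 2), ((-1 : ℤ) ^ (i : ℕ)) • (δA R A i).toLinearMap

lemma dl_apply (n : ℕ) (x : Xn R A n) :
    dl R A n x = ∑ i : Fin (n + 2), ((-1 : ℤ) ^ (i : ℕ)) • (δX R A i).hom x := by
  simp only [dl, LinearMap.sum_apply, LinearMap.smul_apply, AlgHom.toLinearMap_apply, δA_apply]

lemma lTensor_dl (n : ℕ) (y : A ⊗[R] Xn R A n) :
    (dl R A n).lTensor A y = ∑ i : Fin (n + 2), ((-1 : ℤ) ^ (i : ℕ)) • tδ R A i y := by
  have : (dl R A n).lTensor A =
      ∑ i : Fin (n + 2), ((-1 : ℤ) ^ (i : ℕ)) • (tδ R A i).toLinearMap := by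
    refine TensorProduct.ext' (fun a x => ?_)
    simp only [LinearMap.lTensor_tmul, dl, LinearMap.sum_apply, LinearMap.smul_apply,
      AlgHom.toLinearMap_apply, tδ_tmul, TensorProduct.tmul_sum, TensorProduct.tmul_smul]
  rw [this]
  simp only [LinearMap.sum_apply, LinearMap.smul_apply, AlgHom.toLinearMap_apply]

lemma homotopy (n : ℕ) (y : A ⊗[R] Xn R A (n + 1)) :
    h R A (n + 1) ((dl R A (n + 1)).lTensor A y) + (dl R A n).lTensor A (h R A n y) = y := by
  rw [lTensor_dl, lTensor_dl, map_sum, Fin.sum_univ_succ]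
  have e1 : ∀ i : Fin (n + 2),
      h R A (n + 1) (((-1 : ℤ) ^ ((i.succ : Fin (n + 3)) : ℕ)) • tδ R A i.succ y) =
        - (((-1 : ℤ) ^ (i : ℕ)) • tδ R A i (h R A n y)) := by
    intro i
    rw [map_zsmul, h_tδ_succ, Fin.val_succ, pow_succ, mul_neg_one, neg_smul]
  rw [Finset.sum_congr rfl (fun i _ => e1 i), Finset.sum_neg_distrib, map_zsmul, h_tδ_zero,
    Fin.val_zero, pow_zero, one_smul]
  abel

/-- the cosimplicial abelian group of the statement. -/
noncomputable abbrev Y : CosimplicialObject AddCommGrpCat.{u} :=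
  (Arrow.mk (CommRingCat.ofHom (algebraMap R A))).cechConerve ⋙ forget₂ CommRingCat RingCat ⋙
      forget₂ RingCat AddCommGrpCat

/-- the complex of the statement. -/
noncomputable abbrev K : CochainComplex AddCommGrpCat.{u} ℕ :=
  AlgebraicTopology.AlternatingCofaceMapComplex.obj (Y R A)

lemma ab_sum_apply {M N : AddCommGrpCat.{u}} {ι : Type*} (s : Finset ι) (f : ι → (M ⟶ N))
    (x : M) : (∑ i ∈ s, f i).hom x = ∑ i ∈ s, (f i).hom x := by
  have := DFunLike.congr_fun (map_sum (AddCommGrpCat.homAddEquiv (M := M) (N := N)) f s) x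
  rw [AddMonoidHom.finsetSum_apply] at this
  exact this

lemma d_apply' (n : ℕ) (x : (K R A).X n) :
    ((K R A).d n (n + 1)).hom x = ∑ i : Fin (n + 2), ((-1 : ℤ) ^ (i : ℕ)) • ((Y R A).δ i).hom x := by
  have e : (K R A).d n (n + 1) = AlgebraicTopology.AlternatingCofaceMapComplex.objD
      (Y R A) n := by
    dsimp only [K, AlgebraicTopology.AlternatingCofaceMapComplex.obj]
    exact CochainComplex.of_d _ _ n
  rw [e]
  unfold AlgebraicTopology.AlternatingCofaceMapComplex.objD
  rw [ab_sum_apply]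
  rfl

lemma d_apply (n : ℕ) (x : Xn R A n) :
    ((K R A).d n (n + 1)).hom x = dl R A n x :=
  (d_apply' R A n x).trans (dl_apply R A n x).symm

lemma dl_comp (n : ℕ) (x : Xn R A n) : dl R A (n + 1) (dl R A n x) = 0 := by
  rw [← d_apply, ← d_apply]
  have := ConcreteCategory.congr_hom ((K R A).d_comp_d n (n + 1) (n + 2)) x
  exact this

theorem exact_tensor (n : ℕ) :
    Function.Exact ((dl R A n).lTensor A) ((dl R A (n + 1)).lTensor A) := by
  intro y
  constructor
  · intro hy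
    refine ⟨h R A n y, ?_⟩
    have := homotopy R A n y
    rw [hy, map_zero, zero_add] at this
    exact this
  · rintro ⟨w, rfl⟩
    have : (dl R A (n + 1)).lTensor A ∘ₗ (dl R A n).lTensor A = 0 := by
      rw [← LinearMap.lTensor_comp]
      have : dl R A (n + 1) ∘ₗ dl R A n = 0 := LinearMap.ext (fun x => dl_comp R A n x)
      rw [this, LinearMap.lTensor_zero]
    exact DFunLike.congr_fun this w

theorem main [Module.FaithfullyFlat R A] (n : ℕ) (hn : 0 < n) : (K R A).ExactAt n := by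
  obtain ⟨m, rfl⟩ : ∃ m, n = m + 1 := ⟨n - 1, by omega⟩
  rw [HomologicalComplex.exactAt_iff' _ m (m + 1) (m + 1 + 1) (by simp) (by simp),
    ShortComplex.ab_exact_iff]
  intro x hx
  have hex : Function.Exact (dl R A m) (dl R A (m + 1)) :=
    Module.FaithfullyFlat.lTensor_reflects_exact R A _ _ (exact_tensor R A m)
  obtain ⟨w, hw⟩ := (hex x).1 ((d_apply R A (m + 1) x).symm.trans hx)
  exact ⟨w, (d_apply R A m w).trans hw⟩

end Groth.Agent.Helper6.AmitsurCo
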