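import Mathlib
import Groth.Prelude.Def_W4c1arstab1appArSing

set_option autoImplicit false
set_option linter.style.haveILetI false
set_option linter.unusedSectionVars false

namespace Groth.Agent.Helper6.ArS

universe u

variable (k : Type u) [Field k] (r : ℕ)

attribute [-instance] PowerSeries.algebraPowerSeries MvPowerSeries.algebraMvPowerSeries

/-- The distinguished polynomial `Y^2 - x^(r+1)` over `k[[x]]`. -/
noncomputable def gpoly : Polynomial (PowerSeries k) :=
  Polynomial.X ^ 2 - Polynomial.C ((PowerSeries.X : PowerSeries k) ^ (r + 1))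

theorem gpoly_monic : (gpoly k r).Monic := Polynomial.monic_X_pow_sub_C _ (by norm_num)

theorem gpoly_natDegree : (gpoly k r).natDegree = 2 := Polynomial.natDegree_X_pow_sub_C

theorem gpoly_degree : (gpoly k r).degree = 2 := by
  rw [Polynomial.degree_eq_natDegree (gpoly_monic k r).ne_zero, gpoly_natDegree]
  rfl

theorem gpoly_dist :
    (gpoly k r).IsDistinguishedAt (Ideal.span {(PowerSeries.X : PowerSeries k)}) where
  mem := by
    intro n hn
    rw [gpoly_natDegree] at hn
    unfold gpoly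
    rw [Polynomial.coeff_sub, Polynomial.coeff_X_pow, Polynomial.coeff_C]
    interval_cases n
    · rw [if_neg (by norm_num), if_pos rfl, zero_sub, neg_mem_iff, pow_succ]
      exact Ideal.mul_mem_left _ _ (Ideal.subset_span rfl)
    · rw [if_neg (by norm_num), if_neg (by norm_num), sub_zero]
      exact zero_mem _
  monic := gpoly_monic k r

/-- Reindexing: `y` (index `1`) becomes the outer variable. -/
def e2 : Fin 2 ≃ Option Unit where
  toFun i := if i = 1 then none else some ()
  invFun o := match o with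
    | none => 1
    | some _ => 0
  left_inv i := by fin_cases i <;> rfl
  right_inv o := by rcases o with _ | ⟨⟩ <;> rfl

/-- `k[[x, y]] ≃ k[[x]][[y]]`. -/
noncomputable def Psi : MvPowerSeries (Fin 2) k ≃ₐ[k] PowerSeries (PowerSeries k) :=
  (MvPowerSeries.renameEquiv k e2).trans (MvPowerSeries.optionEquivLeft Unit k)

theorem Psi_X0 :
    Psi k (MvPowerSeries.X 0) = PowerSeries.C (PowerSeries.X : PowerSeries k) := by
  have hre : ∀ p, MvPowerSeries.renameEquiv k e2 p = MvPowerSeries.rename e2 p := fun p => rfl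
  rw [Psi, AlgEquiv.trans_apply, hre, MvPowerSeries.rename_X]
  have h0 : e2 0 = some () := rfl
  rw [h0]
  exact MvPowerSeries.optionEquivLeft_X_some ()

theorem Psi_X1 : Psi k (MvPowerSeries.X 1) = (PowerSeries.X : PowerSeries (PowerSeries k)) := by
  have hre : ∀ p, MvPowerSeries.renameEquiv k e2 p = MvPowerSeries.rename e2 p := fun p => rfl
  rw [Psi, AlgEquiv.trans_apply, hre, MvPowerSeries.rename_X]
  have h0 : e2 1 = none := rfl
  rw [h0]
  exact MvPowerSeries.optionEquivLeft_X_none

theorem Psi_eqn : Psi k (ArSing.eqn k r) =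
    ((gpoly k r : Polynomial (PowerSeries k)) : PowerSeries (PowerSeries k)) := by
  unfold ArSing.eqn gpoly
  rw [map_sub, map_pow, map_pow, Psi_X0, Psi_X1]
  simp [Polynomial.coe_sub, Polynomial.coe_pow, Polynomial.coe_X, Polynomial.coe_C]

/-- The quotient `k[[x]][Y]/(Y^2 - x^(r+1))`. -/
abbrev T : Type u := Polynomial (PowerSeries k) ⧸ Ideal.span {gpoly k r}

/-- First step: transport along `Psi`. -/
noncomputable def Phi1 : ArSing.ring k r ≃ₐ[k]
    (PowerSeries (PowerSeries k) ⧸
      Ideal.span {((gpoly k r : Polynomial (PowerSeries k)) : PowerSeries (PowerSeries k))}) :=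
  Ideal.quotientEquivAlg _ _ (Psi k) (by
    rw [Ideal.map_span, Set.image_singleton]
    congr 2
    exact (Psi_eqn k r).symm)

theorem Phi1_mk (a : MvPowerSeries (Fin 2) k) :
    Phi1 k r (Ideal.Quotient.mk _ a) = Ideal.Quotient.mk _ (Psi k a) := rfl

/-- The total equivalence. -/
noncomputable def Theta : T k r ≃+* ArSing.ring k r :=
  ((gpoly_dist k r).algEquivQuotient.toRingEquiv).trans (Phi1 k r).symm.toRingEquiv

theorem Theta_mk (P : Polynomial (PowerSeries k)) :
    Phi1 k r (Theta k r (Ideal.Quotient.mk _ P)) =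
      Ideal.Quotient.mk _ ((P : Polynomial (PowerSeries k)) : PowerSeries (PowerSeries k)) := by
  unfold Theta
  simp only [RingEquiv.trans_apply, AlgEquiv.coe_ringEquiv, AlgEquiv.apply_symm_apply]
  rfl

theorem Theta_X : Theta k r (Ideal.Quotient.mk _ Polynomial.X) = ArSing.y k r := by
  apply (Phi1 k r).injective
  rw [Theta_mk, Polynomial.coe_X]
  show _ = Phi1 k r (Ideal.Quotient.mk _ (MvPowerSeries.X 1))
  rw [Phi1_mk, Psi_X1]

theorem Theta_C_X : Theta k r (Ideal.Quotient.mk _ (Polynomial.C PowerSeries.X)) =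
    ArSing.x k r := by
  apply (Phi1 k r).injective
  rw [Theta_mk, Polynomial.coe_C]
  show _ = Phi1 k r (Ideal.Quotient.mk _ (MvPowerSeries.X 0))
  rw [Phi1_mk, Psi_X0]
/-- The coordinate embedding `k[[x]] → A_r` as a ring hom. -/
noncomputable def iotaR : PowerSeries k →+* ArSing.ring k r :=
  (Theta k r : T k r →+* ArSing.ring k r).comp ((Ideal.Quotient.mk _).comp Polynomial.C)

theorem iotaR_apply (p : PowerSeries k) :
    iotaR k r p = Theta k r (Ideal.Quotient.mk _ (Polynomial.C p)) := rfl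

theorem iotaR_X : iotaR k r PowerSeries.X = ArSing.x k r := Theta_C_X k r

theorem iotaR_C (c : k) :
    iotaR k r (PowerSeries.C c) = algebraMap k (ArSing.ring k r) c := by
  apply (Phi1 k r).injective
  rw [iotaR_apply, Theta_mk, Polynomial.coe_C, AlgEquiv.commutes, ← Ideal.Quotient.mk_algebraMap,
    PowerSeries.algebraMap_apply, PowerSeries.algebraMap_apply]
  rfl

/-- The coordinate embedding as an algebra hom. -/
noncomputable def iota : PowerSeries k →ₐ[k] ArSing.ring k r :=
  { iotaR k r with commutes' := fun c => iotaR_C k r c }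

theorem iota_apply (p : PowerSeries k) :
    iota k r p = Theta k r (Ideal.Quotient.mk _ (Polynomial.C p)) := rfl

theorem iota_X : iota k r PowerSeries.X = ArSing.x k r := Theta_C_X k r

theorem y_sq : ArSing.y k r * ArSing.y k r = ArSing.x k r ^ (r + 1) := by
  have h := Ideal.Quotient.eq_zero_iff_mem.2
    (Ideal.subset_span (Set.mem_singleton (ArSing.eqn k r)))
  have h2 : Ideal.Quotient.mk (Ideal.span {ArSing.eqn k r})
      (MvPowerSeries.X 1 ^ 2 - MvPowerSeries.X 0 ^ (r + 1)) = 0 := h
  rw [map_sub, map_pow, map_pow, sub_eq_zero] at h2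
  rw [← pow_two]
  exact h2

theorem y_sq' : ArSing.y k r * ArSing.y k r = iota k r (PowerSeries.X ^ (r + 1)) := by
  rw [map_pow, iota_X, y_sq]

theorem exists_repr' (a : ArSing.ring k r) :
    ∃ p q : PowerSeries k, a = iota k r p + iota k r q * ArSing.y k r := by
  obtain ⟨t, rfl⟩ := (Theta k r).surjective a
  obtain ⟨P, rfl⟩ := Ideal.Quotient.mk_surjective t
  obtain ⟨R, hRdef⟩ : ∃ R, R = P %ₘ gpoly k r := ⟨_, rfl⟩
  have hne1 : gpoly k r ≠ 1 := by
    intro h
    have := gpoly_natDegree k r
    rw [h, Polynomial.natDegree_one] at this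
    omega
  have hdeg : R.natDegree ≤ 1 := by
    have := Polynomial.natDegree_modByMonic_lt P (gpoly_monic k r) hne1
    rw [gpoly_natDegree, ← hRdef] at this
    omega
  have hR := Polynomial.eq_X_add_C_of_natDegree_le_one hdeg
  have hmk : Ideal.Quotient.mk (Ideal.span {gpoly k r}) P = Ideal.Quotient.mk _ R := by
    rw [Ideal.Quotient.mk_eq_mk_iff_sub_mem, Ideal.mem_span_singleton]
    refine ⟨P /ₘ gpoly k r, ?_⟩
    have := Polynomial.modByMonic_add_div P (gpoly k r)
    rw [hRdef]
    linear_combination -this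
  refine ⟨R.coeff 0, R.coeff 1, ?_⟩
  rw [hmk]
  conv_lhs => rw [hR]
  rw [map_add, map_mul, map_add, map_mul, iota_apply, iota_apply, Theta_X]
  ring

theorem repr_zero' {p q : PowerSeries k}
    (h : iota k r p + iota k r q * ArSing.y k r = 0) : p = 0 ∧ q = 0 := by
  have h1 : Theta k r (Ideal.Quotient.mk _
      (Polynomial.C q * Polynomial.X + Polynomial.C p)) = 0 := by
    rw [map_add, map_mul, map_add, map_mul, Theta_X, ← iota_apply, ← iota_apply]
    rw [← h]
    ring
  rw [RingEquiv.map_eq_zero_iff, Ideal.Quotient.eq_zero_iff_mem, Ideal.mem_span_singleton] at h1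
  have hlt : (Polynomial.C q * Polynomial.X + Polynomial.C p).degree < (gpoly k r).degree := by
    rw [gpoly_degree]
    exact lt_of_le_of_lt Polynomial.degree_linear_le (by norm_num)
  have h0 := Polynomial.eq_zero_of_dvd_of_degree_lt h1 hlt
  constructor
  · have := congrArg (fun P => Polynomial.coeff P 0) h0
    simpa using this
  · have := congrArg (fun P => Polynomial.coeff P 1) h0
    simpa using this

theorem repr_unique' {p q p' q' : PowerSeries k}
    (h : iota k r p + iota k r q * ArSing.y k r = iota k r p' + iota k r q' * ArSing.y k r) :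
    p = p' ∧ q = q' := by
  have h0 : iota k r (p - p') + iota k r (q - q') * ArSing.y k r = 0 := by
    rw [map_sub, map_sub]
    linear_combination h
  obtain ⟨h1, h2⟩ := repr_zero' k r h0
  exact ⟨sub_eq_zero.1 h1, sub_eq_zero.1 h2⟩

theorem hausdorff (a : ArSing.ring k r)
    (h : ∀ n : ℕ, ∃ b, a = ArSing.x k r ^ n * b) : a = 0 := by
  obtain ⟨p, q, rfl⟩ := exists_repr' k r a
  have hpq : ∀ n : ℕ, (PowerSeries.X : PowerSeries k) ^ n ∣ p ∧ PowerSeries.X ^ n ∣ q := by
    intro n
    obtain ⟨b, hb⟩ := h n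
    obtain ⟨p', q', rfl⟩ := exists_repr' k r b
    have h1 : iota k r p + iota k r q * ArSing.y k r =
        iota k r (PowerSeries.X ^ n * p') + iota k r (PowerSeries.X ^ n * q') * ArSing.y k r := by
      rw [hb, map_mul, map_mul, map_pow, iota_X]
      ring
    obtain ⟨e1, e2⟩ := repr_unique' k r h1
    exact ⟨⟨p', e1⟩, ⟨q', e2⟩⟩
  have hz : ∀ s : PowerSeries k, (∀ n : ℕ, (PowerSeries.X : PowerSeries k) ^ n ∣ s) → s = 0 := by
    intro s hs
    ext m
    rw [map_zero]
    exact (PowerSeries.X_pow_dvd_iff.1 (hs (m + 1))) m (Nat.lt_succ_self m)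
  rw [hz p (fun n => (hpq n).1), hz q (fun n => (hpq n).2)]
  simp

theorem ringHom_coe_poly_mul {B : Type*} [CommRing B] (e : B)
    (ψ₁ ψ₂ : PowerSeries k →+* B)
    (hC : ∀ c : k, ψ₁ (PowerSeries.C c) = ψ₂ (PowerSeries.C c))
    (h : e * ψ₁ PowerSeries.X = e * ψ₂ PowerSeries.X)
    (P : Polynomial k) : e * ψ₁ (P : PowerSeries k) = e * ψ₂ (P : PowerSeries k) := by
  have hpow : ∀ n : ℕ, e * ψ₁ PowerSeries.X ^ n = e * ψ₂ PowerSeries.X ^ n := by
    intro n
    induction n with
    | zero => simp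
    | succ n ih =>
      calc e * ψ₁ PowerSeries.X ^ (n + 1) = (e * ψ₁ PowerSeries.X ^ n) * ψ₁ PowerSeries.X := by ring
        _ = ψ₂ PowerSeries.X ^ n * (e * ψ₁ PowerSeries.X) := by rw [ih]; ring
        _ = e * ψ₂ PowerSeries.X ^ (n + 1) := by rw [h]; ring
  induction P using Polynomial.induction_on' with
  | add p q hp hq => rw [Polynomial.coe_add, map_add, map_add, mul_add, mul_add, hp, hq]
  | monomial n c =>
    rw [← Polynomial.C_mul_X_pow_eq_monomial, Polynomial.coe_mul, Polynomial.coe_C,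
      Polynomial.coe_pow, Polynomial.coe_X, map_mul, map_mul, map_pow, map_pow, hC]
    calc e * (ψ₂ (PowerSeries.C c) * ψ₁ PowerSeries.X ^ n)
        = ψ₂ (PowerSeries.C c) * (e * ψ₁ PowerSeries.X ^ n) := by ring
      _ = e * (ψ₂ (PowerSeries.C c) * ψ₂ PowerSeries.X ^ n) := by rw [hpow]; ring

/-- Two ring maps `k[[t]] → A_r` which agree on constants and, after multiplication by `e`,
on `t`, agree after multiplication by `e` (provided `t` goes to topologically nilpotent
elements). -/
theorem ringHom_ext_mul (e : ArSing.ring k r) (ψ₁ ψ₂ : PowerSeries k →+* ArSing.ring k r)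
    (hC : ∀ c : k, ψ₁ (PowerSeries.C c) = ψ₂ (PowerSeries.C c))
    (h : e * ψ₁ PowerSeries.X = e * ψ₂ PowerSeries.X)
    (hx1 : ∃ c, ψ₁ PowerSeries.X ^ 2 = ArSing.x k r * c)
    (hx2 : ∃ c, ψ₂ PowerSeries.X ^ 2 = ArSing.x k r * c) (p : PowerSeries k) :
    e * ψ₁ p = e * ψ₂ p := by
  obtain ⟨c1, hc1⟩ := hx1
  obtain ⟨c2, hc2⟩ := hx2
  rw [← sub_eq_zero]
  apply hausdorff
  intro n
  have hdvd : (PowerSeries.X : PowerSeries k) ^ (2 * n) ∣
      p - (PowerSeries.trunc (2 * n) p : PowerSeries k) := by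
    rw [PowerSeries.X_pow_dvd_iff]
    intro m hm
    rw [map_sub, Polynomial.coeff_coe, PowerSeries.coeff_trunc, if_pos hm, sub_self]
  obtain ⟨s, hs⟩ := hdvd
  have hp : p = (PowerSeries.trunc (2 * n) p : PowerSeries k) + PowerSeries.X ^ (2 * n) * s := by
    rw [← hs]
    ring
  refine ⟨e * (c1 ^ n * ψ₁ s - c2 ^ n * ψ₂ s), ?_⟩
  have e1 : ψ₁ PowerSeries.X ^ (2 * n) = ArSing.x k r ^ n * c1 ^ n := by
    rw [pow_mul, hc1, mul_pow]
  have e2 : ψ₂ PowerSeries.X ^ (2 * n) = ArSing.x k r ^ n * c2 ^ n := by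
    rw [pow_mul, hc2, mul_pow]
  conv_lhs => rw [hp]
  rw [map_add, map_add, map_mul, map_mul, map_pow, map_pow, e1, e2, mul_add, mul_add,
    ringHom_coe_poly_mul k e ψ₁ ψ₂ hC h]
  ring

theorem ringHom_ext (ψ₁ ψ₂ : PowerSeries k →+* ArSing.ring k r)
    (hC : ∀ c : k, ψ₁ (PowerSeries.C c) = ψ₂ (PowerSeries.C c))
    (h : ψ₁ PowerSeries.X = ψ₂ PowerSeries.X)
    (hx : ∃ c, ψ₁ PowerSeries.X ^ 2 = ArSing.x k r * c) : ψ₁ = ψ₂ := by
  apply RingHom.ext
  intro p
  have := ringHom_ext_mul k r 1 ψ₁ ψ₂ hC (by rw [h]) hx (by rw [← h]; exact hx) p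
  simpa using this

theorem algHom_ext (ψ₁ ψ₂ : PowerSeries k →ₐ[k] ArSing.ring k r)
    (h : ψ₁ PowerSeries.X = ψ₂ PowerSeries.X)
    (hx : ∃ c, ψ₁ PowerSeries.X ^ 2 = ArSing.x k r * c) : ψ₁ = ψ₂ := by
  have hr : (ψ₁ : PowerSeries k →+* ArSing.ring k r) = (ψ₂ : PowerSeries k →+* ArSing.ring k r) := by
    apply ringHom_ext k r
    · intro c
      have hc : (PowerSeries.C c : PowerSeries k) = algebraMap k (PowerSeries k) c := rfl
      rw [hc]
      show ψ₁ _ = ψ₂ _
      rw [AlgHom.commutes, AlgHom.commutes]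
    · exact h
    · exact hx
  apply AlgHom.ext
  intro p
  exact DFunLike.congr_fun hr p

theorem xMap_X : ArSing.xMap k r PowerSeries.X = ArSing.x k r := by
  unfold ArSing.xMap
  rw [AlgHom.comp_apply, PowerSeries.coe_substAlgHom, PowerSeries.subst_X
    (PowerSeries.HasSubst.of_constantCoeff_zero (MvPowerSeries.constantCoeff_X 0))]
  rfl

theorem iota_eq : iota k r = ArSing.xMap k r := by
  apply algHom_ext
  · rw [iota_X, xMap_X]
  · exact ⟨ArSing.x k r, by rw [iota_X, pow_two]⟩

theorem xMap_C (c : k) :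
    ArSing.xMap k r (PowerSeries.C c) = algebraMap k (ArSing.ring k r) c := by
  have hc : (PowerSeries.C c : PowerSeries k) = algebraMap k (PowerSeries k) c := rfl
  rw [hc, AlgHom.commutes]

theorem y_sq_xMap :
    ArSing.y k r * ArSing.y k r = ArSing.xMap k r (PowerSeries.X ^ (r + 1)) := by
  rw [← iota_eq]
  exact y_sq' k r

theorem exists_repr (a : ArSing.ring k r) :
    ∃ p q : PowerSeries k, a = ArSing.xMap k r p + ArSing.xMap k r q * ArSing.y k r := by
  rw [← iota_eq]
  exact exists_repr' k r a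

theorem repr_zero {p q : PowerSeries k}
    (h : ArSing.xMap k r p + ArSing.xMap k r q * ArSing.y k r = 0) : p = 0 ∧ q = 0 := by
  rw [← iota_eq] at h
  exact repr_zero' k r h

theorem repr_unique {p q p' q' : PowerSeries k}
    (h : ArSing.xMap k r p + ArSing.xMap k r q * ArSing.y k r =
      ArSing.xMap k r p' + ArSing.xMap k r q' * ArSing.y k r) : p = p' ∧ q = q' := by
  rw [← iota_eq] at h
  exact repr_unique' k r h

theorem xMap_injective : Function.Injective (ArSing.xMap k r) := by
  intro p p' h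
  have h' : ArSing.xMap k r p + ArSing.xMap k r 0 * ArSing.y k r =
      ArSing.xMap k r p' + ArSing.xMap k r 0 * ArSing.y k r := by rw [h]
  exact (repr_unique k r h').1

theorem mul_repr (p q p' q' : PowerSeries k) :
    (ArSing.xMap k r p + ArSing.xMap k r q * ArSing.y k r) *
      (ArSing.xMap k r p' + ArSing.xMap k r q' * ArSing.y k r) =
    ArSing.xMap k r (p * p' + q * q' * PowerSeries.X ^ (r + 1)) +
      ArSing.xMap k r (p * q' + q * p') * ArSing.y k r := by
  simp only [map_add, map_mul]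
  rw [← y_sq_xMap]
  ring

theorem mul_y_repr (p q : PowerSeries k) :
    (ArSing.xMap k r p + ArSing.xMap k r q * ArSing.y k r) * ArSing.y k r =
    ArSing.xMap k r (q * PowerSeries.X ^ (r + 1)) + ArSing.xMap k r p * ArSing.y k r := by
  simp only [map_mul]
  rw [← y_sq_xMap]
  ring

theorem x_mul_repr (p q : PowerSeries k) :
    ArSing.x k r * (ArSing.xMap k r p + ArSing.xMap k r q * ArSing.y k r) =
    ArSing.xMap k r (PowerSeries.X * p) + ArSing.xMap k r (PowerSeries.X * q) * ArSing.y k r := by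
  simp only [map_mul, xMap_X]
  ring

/-! ### The augmentation -/

/-- The augmentation `A_r → k` (constant coefficient). -/
noncomputable def eps : ArSing.ring k r →+* k :=
  Ideal.Quotient.lift (Ideal.span {ArSing.eqn k r})
    (MvPowerSeries.constantCoeff : MvPowerSeries (Fin 2) k →+* k) (by
    intro a ha
    rw [Ideal.mem_span_singleton] at ha
    obtain ⟨b, rfl⟩ := ha
    rw [map_mul]
    have : MvPowerSeries.constantCoeff (ArSing.eqn k r) = 0 := by
      unfold ArSing.eqn
      rw [map_sub, map_pow, map_pow, MvPowerSeries.constantCoeff_X,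
        MvPowerSeries.constantCoeff_X]
      simp
    rw [this, zero_mul])

theorem eps_mk (a : MvPowerSeries (Fin 2) k) :
    eps k r (Ideal.Quotient.mk _ a) = MvPowerSeries.constantCoeff a := rfl

theorem eps_x : eps k r (ArSing.x k r) = 0 := by
  show eps k r (Ideal.Quotient.mk _ _) = 0
  rw [eps_mk, MvPowerSeries.constantCoeff_X]

theorem eps_y : eps k r (ArSing.y k r) = 0 := by
  show eps k r (Ideal.Quotient.mk _ _) = 0
  rw [eps_mk, MvPowerSeries.constantCoeff_X]

theorem eps_algebraMap (c : k) : eps k r (algebraMap k (ArSing.ring k r) c) = c := by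
  rw [← Ideal.Quotient.mk_algebraMap, eps_mk, MvPowerSeries.algebraMap_apply,
    MvPowerSeries.constantCoeff_C]
  rfl

theorem eps_xMap (p : PowerSeries k) :
    eps k r (ArSing.xMap k r p) = PowerSeries.constantCoeff p := by
  conv_lhs => rw [PowerSeries.eq_X_mul_shift_add_const p]
  rw [map_add, map_mul, xMap_X, xMap_C, map_add, map_mul, eps_x, zero_mul, zero_add,
    eps_algebraMap]

theorem eps_repr (p q : PowerSeries k) :
    eps k r (ArSing.xMap k r p + ArSing.xMap k r q * ArSing.y k r) =
      PowerSeries.constantCoeff p := by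
  rw [map_add, map_mul, eps_y, mul_zero, add_zero, eps_xMap]

theorem eps_surjective : Function.Surjective (eps k r) :=
  fun c => ⟨algebraMap k _ c, eps_algebraMap k r c⟩

theorem isUnit_iff (a : ArSing.ring k r) : IsUnit a ↔ eps k r a ≠ 0 := by
  constructor
  · intro h
    exact (h.map (eps k r)).ne_zero
  · intro h
    obtain ⟨p, q, rfl⟩ := exists_repr k r a
    rw [eps_repr] at h
    have hN : IsUnit (p * p + q * (-q) * PowerSeries.X ^ (r + 1)) := by
      rw [PowerSeries.isUnit_iff_constantCoeff, isUnit_iff_ne_zero]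
      simp only [map_add, map_mul, map_pow, PowerSeries.constantCoeff_X, map_neg]
      rw [zero_pow (Nat.succ_ne_zero r), mul_zero, add_zero]
      exact mul_ne_zero h h
    have hmul : (ArSing.xMap k r p + ArSing.xMap k r q * ArSing.y k r) *
        (ArSing.xMap k r p + ArSing.xMap k r (-q) * ArSing.y k r) =
        ArSing.xMap k r (p * p + q * (-q) * PowerSeries.X ^ (r + 1)) := by
      rw [mul_repr]
      have : p * -q + q * p = 0 := by ring
      rw [this, map_zero, zero_mul, add_zero]
    have hU : IsUnit ((ArSing.xMap k r p + ArSing.xMap k r q * ArSing.y k r) *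
        (ArSing.xMap k r p + ArSing.xMap k r (-q) * ArSing.y k r)) := by
      rw [hmul]
      exact hN.map (ArSing.xMap k r)
    exact isUnit_of_mul_isUnit_left hU

theorem not_isUnit_x : ¬ IsUnit (ArSing.x k r) := by
  rw [isUnit_iff, eps_x]
  exact fun h => h rfl

theorem mem_ker_eps_iff (a : ArSing.ring k r) :
    eps k r a = 0 ↔ a ∈ Ideal.span {ArSing.x k r, ArSing.y k r} := by
  constructor
  · intro h
    obtain ⟨p, q, rfl⟩ := exists_repr k r a
    rw [eps_repr] at h
    obtain ⟨p', rfl⟩ := PowerSeries.X_dvd_iff.2 h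
    rw [map_mul, xMap_X]
    exact add_mem (Ideal.mul_mem_right _ _ (Ideal.subset_span (by simp)))
      (Ideal.mul_mem_left _ _ (Ideal.subset_span (by simp)))
  · intro h
    have hle : Ideal.span {ArSing.x k r, ArSing.y k r} ≤ RingHom.ker (eps k r) := by
      rw [Ideal.span_le]
      intro b hb
      rcases hb with rfl | rfl
      · exact eps_x k r
      · exact eps_y k r
    exact hle h

/-! ### General lemmas -/

theorem flat_of_basis2 {R S : Type*} [CommRing R] [CommRing S] (f : R →+* S) (b1 b2 : S)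
    (hex : ∀ a : S, ∃ p q : R, a = f p * b1 + f q * b2)
    (huniq : ∀ p q : R, f p * b1 + f q * b2 = 0 → p = 0 ∧ q = 0) : f.Flat := by
  letI := f.toAlgebra
  show Module.Flat R S
  let L : (R × R) →ₗ[R] S :=
    { toFun := fun pq => f pq.1 * b1 + f pq.2 * b2
      map_add' := by
        intro a b
        simp only [Prod.fst_add, Prod.snd_add, map_add]
        ring
      map_smul' := by
        intro c pq
        simp only [Prod.smul_fst, Prod.smul_snd, smul_eq_mul, map_mul, RingHom.id_apply]
        rw [Algebra.smul_def, RingHom.algebraMap_toAlgebra]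
        ring }
  have hinj : Function.Injective L := by
    rw [← LinearMap.ker_eq_bot, LinearMap.ker_eq_bot']
    intro pq h
    obtain ⟨h1, h2⟩ := huniq pq.1 pq.2 h
    exact Prod.ext h1 h2
  have hsurj : Function.Surjective L := by
    intro a
    obtain ⟨p, q, rfl⟩ := hex a
    exact ⟨(p, q), rfl⟩
  exact Module.Flat.of_linearEquiv (LinearEquiv.ofBijective L ⟨hinj, hsurj⟩).symm

theorem length_quot_eq {R A : Type*} [CommRing R] [CommRing A] (f : R →+* A) (I : Ideal A)
    (J : Ideal R) (hsurj : ∀ a : A, ∃ p : R, a - f p ∈ I) (hker : ∀ p : R, f p ∈ I ↔ p ∈ J) :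
    Module.length A (A ⧸ I) = Module.length R (R ⧸ J) := by
  let g : R →+* A ⧸ I := (Ideal.Quotient.mk I).comp f
  have hg : Function.Surjective g := by
    intro b
    obtain ⟨a, rfl⟩ := Ideal.Quotient.mk_surjective b
    obtain ⟨p, hp⟩ := hsurj a
    exact ⟨p, ((Ideal.Quotient.mk_eq_mk_iff_sub_mem _ _).2 hp).symm⟩
  letI := g.toAlgebra
  have h1 : Module.length A (A ⧸ I) = Module.length (A ⧸ I) (A ⧸ I) :=
    Module.length_eq_of_surjective Ideal.Quotient.mk_surjective
  have h2 : Module.length R (A ⧸ I) = Module.length (A ⧸ I) (A ⧸ I) :=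
    Module.length_eq_of_surjective hg
  rw [h1, ← h2]
  let L : R →ₗ[R] (A ⧸ I) := Algebra.linearMap R (A ⧸ I)
  have hL : Function.Surjective L := hg
  have hkerL : LinearMap.ker L = J := by
    ext p
    rw [LinearMap.mem_ker]
    show g p = 0 ↔ _
    rw [← hker p]
    exact Ideal.Quotient.eq_zero_iff_mem
  exact ((Submodule.quotEquivOfEq _ _ hkerL.symm).trans
    (L.quotKerEquivOfSurjective hL)).length_eq.symm

end Groth.Agent.Helper6.ArS
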