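import Mathlib
import Groth.Agent.Helper6.ArS1

set_option autoImplicit false
set_option linter.style.haveILetI false
set_option linter.unusedSectionVars false

namespace Groth.Agent.Helper6.ArS

universe u

variable (k : Type u) [Field k] (r : ℕ)

attribute [-instance] PowerSeries.algebraPowerSeries MvPowerSeries.algebraMvPowerSeries

theorem two_ne_zero_ps (h2 : (2 : k) ≠ 0) : (2 : PowerSeries k) ≠ 0 := by
  intro h
  apply h2
  have := congrArg PowerSeries.constantCoeff h
  rw [map_ofNat, map_zero] at this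
  exact this

theorem half_mul_two (h2 : (2 : k) ≠ 0) :
    algebraMap k (ArSing.ring k r) (2⁻¹) * 2 = 1 := by
  rw [← map_ofNat (algebraMap k (ArSing.ring k r)) 2, ← map_mul, inv_mul_cancel₀ h2, map_one]

theorem map_maximalIdeal_ne_top :
    Ideal.map (ArSing.xMap k r) (IsLocalRing.maximalIdeal (PowerSeries k)) ≠ ⊤ := by
  rw [PowerSeries.maximalIdeal_eq_span_X, Ideal.map_span, Set.image_singleton, xMap_X, Ne,
    Ideal.span_singleton_eq_top]
  exact not_isUnit_x k r

theorem xMap_flat : (ArSing.xMap k r).toRingHom.Flat := by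
  apply flat_of_basis2 _ 1 (ArSing.y k r)
  · intro a
    obtain ⟨p, q, rfl⟩ := exists_repr k r a
    exact ⟨p, q, by rw [mul_one]; rfl⟩
  · intro p q h
    rw [mul_one] at h
    exact repr_zero k r h

theorem y_mem_nonZeroDivisors : ArSing.y k r ∈ nonZeroDivisors (ArSing.ring k r) := by
  rw [mem_nonZeroDivisors_iff_right]
  intro a ha
  obtain ⟨p, q, rfl⟩ := exists_repr k r a
  rw [mul_y_repr] at ha
  obtain ⟨h1, h2⟩ := repr_zero k r ha
  have hq : q = 0 := by
    rcases mul_eq_zero.1 h1 with h | h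
    · exact h
    · exact absurd h (pow_ne_zero _ PowerSeries.X_ne_zero)
  rw [h2, hq]
  simp

section NegY

variable (σ : ArSing.ring k r ≃ₐ[k] ArSing.ring k r)
  (hx : σ (ArSing.x k r) = ArSing.x k r) (hy : σ (ArSing.y k r) = -ArSing.y k r)

include hx in
theorem negy_xMap (p : PowerSeries k) : σ (ArSing.xMap k r p) = ArSing.xMap k r p := by
  have h : (σ : ArSing.ring k r →ₐ[k] ArSing.ring k r).comp (ArSing.xMap k r) =
      ArSing.xMap k r := by
    apply algHom_ext
    · simp only [AlgHom.comp_apply, AlgEquiv.coe_toAlgHom, xMap_X, hx]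
    · refine ⟨ArSing.x k r, ?_⟩
      simp only [AlgHom.comp_apply, AlgEquiv.coe_toAlgHom, xMap_X, hx, pow_two]
  exact DFunLike.congr_fun h p

include hx hy in
theorem negy_repr (p q : PowerSeries k) :
    σ (ArSing.xMap k r p + ArSing.xMap k r q * ArSing.y k r) =
      ArSing.xMap k r p - ArSing.xMap k r q * ArSing.y k r := by
  rw [map_add, map_mul, negy_xMap k r σ hx, negy_xMap k r σ hx, hy]
  ring

include hx hy in
theorem negy_fixed (h2 : (2 : k) ≠ 0) (a : ArSing.ring k r) :
    σ a = a ↔ a ∈ (ArSing.xMap k r).range := by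
  constructor
  · intro h
    obtain ⟨p, q, rfl⟩ := exists_repr k r a
    rw [negy_repr k r σ hx hy] at h
    have h' : ArSing.xMap k r p + ArSing.xMap k r (-q) * ArSing.y k r =
        ArSing.xMap k r p + ArSing.xMap k r q * ArSing.y k r := by
      rw [map_neg]
      linear_combination h
    obtain ⟨-, hq⟩ := repr_unique k r h'
    have hq0 : q = 0 := by
      have : (2 : PowerSeries k) * q = 0 := by linear_combination -hq
      exact (mul_eq_zero.1 this).resolve_left (two_ne_zero_ps k h2)
    rw [hq0, map_zero, zero_mul, add_zero]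
    exact (AlgHom.mem_range _).2 ⟨p, rfl⟩
  · intro h
    obtain ⟨p, rfl⟩ := (AlgHom.mem_range _).1 h
    exact negy_xMap k r σ hx p

include hx hy in
theorem negy_ideal (h2 : (2 : k) ≠ 0) :
    Ideal.span (Set.range fun a : ArSing.ring k r => σ a - a) = Ideal.span {ArSing.y k r} := by
  apply le_antisymm
  · rw [Ideal.span_le]
    rintro _ ⟨a, rfl⟩
    obtain ⟨p, q, rfl⟩ := exists_repr k r a
    show σ _ - _ ∈ _
    rw [negy_repr k r σ hx hy, SetLike.mem_coe, Ideal.mem_span_singleton]
    exact ⟨-2 * ArSing.xMap k r q, by ring⟩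
  · rw [Ideal.span_le, Set.singleton_subset_iff, SetLike.mem_coe]
    have h2A := half_mul_two k r h2
    have : ArSing.y k r = (-(algebraMap k (ArSing.ring k r) (2⁻¹))) *
        (σ (ArSing.y k r) - ArSing.y k r) := by
      rw [hy]
      linear_combination (-(ArSing.y k r)) * h2A
    rw [this]
    exact Ideal.mul_mem_left _ _ (Ideal.subset_span ⟨ArSing.y k r, rfl⟩)

theorem length_quot_y :
    Module.length (ArSing.ring k r) (ArSing.ring k r ⧸ Ideal.span {ArSing.y k r}) = r + 1 := by
  rw [length_quot_eq (ArSing.xMap k r).toRingHom (Ideal.span {ArSing.y k r})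
    (IsLocalRing.maximalIdeal (PowerSeries k) ^ (r + 1))]
  · rw [IsDiscreteValuationRing.length_quotient_pow_maximalIdeal]
    push_cast
    rfl
  · intro a
    obtain ⟨p, q, rfl⟩ := exists_repr k r a
    refine ⟨p, ?_⟩
    rw [Ideal.mem_span_singleton]
    refine ⟨ArSing.xMap k r q, ?_⟩
    show _ - ArSing.xMap k r p = _
    ring
  · intro p
    rw [PowerSeries.maximalIdeal_eq_span_X, Ideal.span_singleton_pow, Ideal.mem_span_singleton,
      Ideal.mem_span_singleton]
    constructor
    · rintro ⟨a, ha⟩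
      obtain ⟨p', q', rfl⟩ := exists_repr k r a
      rw [mul_comm, mul_y_repr] at ha
      have ha' : ArSing.xMap k r p + ArSing.xMap k r 0 * ArSing.y k r =
          ArSing.xMap k r (q' * PowerSeries.X ^ (r + 1)) +
            ArSing.xMap k r p' * ArSing.y k r := by
        rw [map_zero, zero_mul, add_zero]
        exact ha
      obtain ⟨e1, -⟩ := repr_unique k r ha'
      exact ⟨q', by rw [e1]; ring⟩
    · rintro ⟨s, rfl⟩
      refine ⟨ArSing.xMap k r s * ArSing.y k r, ?_⟩
      show ArSing.xMap k r (PowerSeries.X ^ (r + 1) * s) = _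
      rw [map_mul, ← y_sq_xMap]
      ring

include hx hy in
theorem negy_main (h2 : (2 : k) ≠ 0) :
    (∀ a : ArSing.ring k r, σ a = a ↔ a ∈ (ArSing.xMap k r).range) ∧
    ((ArSing.xMap k r).toRingHom.Flat ∧
      Ideal.map (ArSing.xMap k r) (IsLocalRing.maximalIdeal (PowerSeries k)) ≠ ⊤) ∧
    (∃ g : ArSing.ring k r, g ∈ nonZeroDivisors (ArSing.ring k r) ∧
      Ideal.span (Set.range fun a : ArSing.ring k r => σ a - a) = Ideal.span {g}) ∧
    Module.length (ArSing.ring k r)
      (ArSing.ring k r ⧸ Ideal.span (Set.range fun a : ArSing.ring k r => σ a - a)) = r + 1 := by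
  refine ⟨negy_fixed k r σ hx hy h2, ⟨xMap_flat k r, map_maximalIdeal_ne_top k r⟩,
    ⟨ArSing.y k r, y_mem_nonZeroDivisors k r, negy_ideal k r σ hx hy h2⟩, ?_⟩
  rw [negy_ideal k r σ hx hy h2]
  exact length_quot_y k r

end NegY

end Groth.Agent.Helper6.ArS
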