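import Mathlib
import Groth.Agent.Helper6.ArS2

set_option autoImplicit false
set_option linter.style.haveILetI false
set_option linter.unusedSectionVars false

namespace Groth.Agent.Helper6.ArS

universe u

variable (k : Type u) [Field k] (r : ℕ)

attribute [-instance] PowerSeries.algebraPowerSeries MvPowerSeries.algebraMvPowerSeries

/-! ### Even and odd power series -/

/-- `p(X) ↦ p(-X)`. -/
noncomputable abbrev NN : PowerSeries k →+* PowerSeries k := PowerSeries.rescale (-1 : k)

/-- `p(X) ↦ p(X^2)`. -/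
noncomputable abbrev EE : PowerSeries k →ₐ[k] PowerSeries k := PowerSeries.expand 2 two_ne_zero

theorem NN_C (c : k) : NN k (PowerSeries.C c) = PowerSeries.C c := by
  ext n
  rw [PowerSeries.coeff_rescale, PowerSeries.coeff_C]
  split_ifs with h
  · subst h
    simp
  · simp

theorem NN_X : NN k PowerSeries.X = -PowerSeries.X := PowerSeries.rescale_neg_one_X

theorem EE_X : EE k PowerSeries.X = PowerSeries.X ^ 2 := PowerSeries.expand_X 2 two_ne_zero

theorem constantCoeff_NN (p : PowerSeries k) :
    PowerSeries.constantCoeff (NN k p) = PowerSeries.constantCoeff p := by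
  rw [← PowerSeries.coeff_zero_eq_constantCoeff_apply, PowerSeries.coeff_rescale, pow_zero,
    one_mul, PowerSeries.coeff_zero_eq_constantCoeff_apply]

theorem constantCoeff_EE (p : PowerSeries k) :
    PowerSeries.constantCoeff (EE k p) = PowerSeries.constantCoeff p :=
  PowerSeries.constantCoeff_expand 2 two_ne_zero p

theorem even_of_NN_eq (h2 : (2 : k) ≠ 0) (p : PowerSeries k) (h : NN k p = p) :
    ∃ P, p = EE k P := by
  refine ⟨PowerSeries.mk fun n => PowerSeries.coeff (2 * n) p, ?_⟩
  ext n
  rw [PowerSeries.coeff_expand]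
  split_ifs with hn
  · rw [PowerSeries.coeff_mk, Nat.mul_div_cancel' hn]
  · have h1 := congrArg (PowerSeries.coeff n) h
    rw [PowerSeries.coeff_rescale] at h1
    have hodd : Odd n := Nat.not_even_iff_odd.1 (fun he => hn (even_iff_two_dvd.1 he))
    rw [hodd.neg_one_pow] at h1
    have : (2 : k) * PowerSeries.coeff n p = 0 := by linear_combination -h1
    exact (mul_eq_zero.1 this).resolve_left h2

theorem odd_of_NN_eq_neg (h2 : (2 : k) ≠ 0) (q : PowerSeries k) (h : NN k q = -q) :
    ∃ Q, q = PowerSeries.X * EE k Q := by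
  refine ⟨PowerSeries.mk fun n => PowerSeries.coeff (2 * n + 1) q, ?_⟩
  ext n
  have h1 := congrArg (PowerSeries.coeff n) h
  rw [PowerSeries.coeff_rescale, map_neg] at h1
  cases n with
  | zero =>
    rw [PowerSeries.coeff_zero_X_mul]
    rw [pow_zero, one_mul] at h1
    have : (2 : k) * PowerSeries.coeff 0 q = 0 := by linear_combination h1
    exact (mul_eq_zero.1 this).resolve_left h2
  | succ n =>
    rw [PowerSeries.coeff_succ_X_mul, PowerSeries.coeff_expand]
    split_ifs with hn
    · rw [PowerSeries.coeff_mk, Nat.mul_div_cancel' hn]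
    · have hodd : Odd n := Nat.not_even_iff_odd.1 (fun he => hn (even_iff_two_dvd.1 he))
      have heven : Even (n + 1) := hodd.add_one
      rw [heven.neg_one_pow, one_mul] at h1
      have : (2 : k) * PowerSeries.coeff (n + 1) q = 0 := by linear_combination h1
      exact (mul_eq_zero.1 this).resolve_left h2

theorem even_odd_decomp (p : PowerSeries k) :
    ∃ P Q, p = EE k P + PowerSeries.X * EE k Q := by
  refine ⟨PowerSeries.mk fun n => PowerSeries.coeff (2 * n) p,
    PowerSeries.mk fun n => PowerSeries.coeff (2 * n + 1) p, ?_⟩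
  ext n
  rw [map_add]
  cases n with
  | zero =>
    rw [PowerSeries.coeff_zero_X_mul, add_zero, PowerSeries.coeff_expand, if_pos (dvd_zero 2),
      PowerSeries.coeff_mk]
  | succ n =>
    rw [PowerSeries.coeff_succ_X_mul, PowerSeries.coeff_expand, PowerSeries.coeff_expand]
    by_cases hn : 2 ∣ n
    · have hn1 : ¬ 2 ∣ n + 1 := by omega
      rw [if_neg hn1, if_pos hn, zero_add, PowerSeries.coeff_mk, Nat.mul_div_cancel' hn]
    · have hn1 : 2 ∣ n + 1 := by omega
      have e : 2 * ((n + 1) / 2) = n + 1 := by omega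
      rw [if_pos hn1, if_neg hn, add_zero, PowerSeries.coeff_mk, e]

theorem even_odd_zero (P Q : PowerSeries k) (h : EE k P + PowerSeries.X * EE k Q = 0) :
    P = 0 ∧ Q = 0 := by
  constructor
  · ext n
    have h1 := congrArg (PowerSeries.coeff (2 * n)) h
    rw [map_add, map_zero, PowerSeries.coeff_expand_mul] at h1
    have h2 : PowerSeries.coeff (2 * n) (PowerSeries.X * EE k Q) = 0 := by
      rcases Nat.eq_zero_or_pos n with rfl | hpos
      · simp
      · obtain ⟨j, hj⟩ : ∃ j, 2 * n = j + 1 := ⟨2 * n - 1, by omega⟩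
        have hnd : ¬ 2 ∣ j := by omega
        rw [hj, PowerSeries.coeff_succ_X_mul,
          PowerSeries.coeff_expand_of_not_dvd 2 two_ne_zero _ hnd]
    rw [h2, add_zero] at h1
    rw [h1, map_zero]
  · ext n
    have h1 := congrArg (PowerSeries.coeff (2 * n + 1)) h
    have hnd : ¬ 2 ∣ 2 * n + 1 := by omega
    rw [map_add, map_zero, PowerSeries.coeff_succ_X_mul, PowerSeries.coeff_expand_mul,
      PowerSeries.coeff_expand_of_not_dvd 2 two_ne_zero _ hnd, zero_add] at h1
    rw [h1, map_zero]

theorem EE_injective : Function.Injective (EE k) := by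
  rw [injective_iff_map_eq_zero]
  intro P hP
  have h : EE k P + PowerSeries.X * EE k 0 = 0 := by rw [hP, map_zero, mul_zero, add_zero]
  exact (even_odd_zero k P 0 h).1

theorem NN_EE (P : PowerSeries k) : NN k (EE k P) = EE k P := by
  ext n
  rw [PowerSeries.coeff_rescale, PowerSeries.coeff_expand]
  split_ifs with hn
  · rw [(even_iff_two_dvd.2 hn).neg_one_pow, one_mul]
  · rw [mul_zero]

theorem X_dvd_NN_sub (p : PowerSeries k) : PowerSeries.X ∣ NN k p - p := by
  rw [PowerSeries.X_dvd_iff, map_sub, constantCoeff_NN, sub_self]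

/-! ### The second coordinate embedding -/

/-- The `k`-algebra map `k[[t]] → A_r` sending `t` to `y`. -/
noncomputable def yMap : PowerSeries k →ₐ[k] ArSing.ring k r :=
  (Ideal.Quotient.mkₐ k (Ideal.span {ArSing.eqn k r})).comp
    (PowerSeries.substAlgHom
      (PowerSeries.HasSubst.of_constantCoeff_zero
        (MvPowerSeries.constantCoeff_X (1 : Fin 2) : MvPowerSeries.constantCoeff
          (MvPowerSeries.X (1 : Fin 2) : MvPowerSeries (Fin 2) k) = 0)))

theorem yMap_X : yMap k r PowerSeries.X = ArSing.y k r := by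
  unfold yMap
  rw [AlgHom.comp_apply, PowerSeries.coe_substAlgHom, PowerSeries.subst_X
    (PowerSeries.HasSubst.of_constantCoeff_zero (MvPowerSeries.constantCoeff_X 1))]
  rfl

theorem yMap_C (c : k) :
    yMap k r (PowerSeries.C c) = algebraMap k (ArSing.ring k r) c := by
  have hc : (PowerSeries.C c : PowerSeries k) = algebraMap k (PowerSeries k) c := rfl
  rw [hc, AlgHom.commutes]

/-! ### The ideal `(x)` -/

theorem x_mem_nonZeroDivisors : ArSing.x k r ∈ nonZeroDivisors (ArSing.ring k r) := by
  rw [mem_nonZeroDivisors_iff_left]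
  intro a ha
  obtain ⟨p, q, rfl⟩ := exists_repr k r a
  rw [x_mul_repr] at ha
  obtain ⟨h1, h2⟩ := repr_zero k r ha
  have hp : p = 0 := (mul_eq_zero.1 h1).resolve_left PowerSeries.X_ne_zero
  have hq : q = 0 := (mul_eq_zero.1 h2).resolve_left PowerSeries.X_ne_zero
  rw [hp, hq]
  simp

theorem x_ne_zero : ArSing.x k r ≠ 0 := by
  intro h
  rw [← xMap_X, ← map_zero (ArSing.xMap k r)] at h
  exact PowerSeries.X_ne_zero (xMap_injective k r h)

instance : Nontrivial (ArSing.ring k r) := ⟨⟨ArSing.x k r, 0, x_ne_zero k r⟩⟩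

theorem ps_split (p : PowerSeries k) :
    ∃ (c : k) (s : PowerSeries k), p = PowerSeries.X * s + PowerSeries.C c :=
  ⟨_, _, PowerSeries.eq_X_mul_shift_add_const p⟩

theorem length_quot_x :
    Module.length (ArSing.ring k r) (ArSing.ring k r ⧸ Ideal.span {ArSing.x k r}) = 2 := by
  rw [length_quot_eq (yMap k r).toRingHom (Ideal.span {ArSing.x k r})
    (IsLocalRing.maximalIdeal (PowerSeries k) ^ 2)]
  · rw [IsDiscreteValuationRing.length_quotient_pow_maximalIdeal]
    rfl
  · intro a
    obtain ⟨p, q, rfl⟩ := exists_repr k r a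
    obtain ⟨c0, s0, rfl⟩ := ps_split k p
    obtain ⟨c1, s1, rfl⟩ := ps_split k q
    refine ⟨PowerSeries.C c0 + PowerSeries.C c1 * PowerSeries.X, ?_⟩
    rw [Ideal.mem_span_singleton]
    refine ⟨ArSing.xMap k r s0 + ArSing.xMap k r s1 * ArSing.y k r, ?_⟩
    show _ - yMap k r _ = _
    simp only [map_add, map_mul, xMap_X, xMap_C, yMap_X, yMap_C]
    ring
  · intro p
    rw [PowerSeries.maximalIdeal_eq_span_X, Ideal.span_singleton_pow, Ideal.mem_span_singleton,
      Ideal.mem_span_singleton]
    constructor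
    · rintro ⟨a, ha⟩
      obtain ⟨c0, s1, rfl⟩ := ps_split k p
      obtain ⟨c1, s2, rfl⟩ := ps_split k s1
      have hyp : (yMap k r).toRingHom (PowerSeries.X * (PowerSeries.X * s2 + PowerSeries.C c1) +
          PowerSeries.C c0) = algebraMap k _ c0 + algebraMap k _ c1 * ArSing.y k r +
          ArSing.x k r * (ArSing.x k r ^ r * yMap k r s2) := by
        show yMap k r _ = _
        simp only [map_add, map_mul, yMap_X, yMap_C]
        have := y_sq k r
        rw [pow_succ] at this
        linear_combination (yMap k r s2) * this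
      obtain ⟨p', q', hpq⟩ := exists_repr k r (a - ArSing.x k r ^ r * yMap k r s2)
      have h3 : ArSing.xMap k r (PowerSeries.C c0) + ArSing.xMap k r (PowerSeries.C c1) *
          ArSing.y k r = ArSing.xMap k r (PowerSeries.X * p') +
            ArSing.xMap k r (PowerSeries.X * q') * ArSing.y k r := by
        rw [← x_mul_repr, ← hpq, xMap_C, xMap_C]
        linear_combination ha - hyp
      obtain ⟨e0, e1⟩ := repr_unique k r h3
      have hc0z : c0 = 0 := by
        have := congrArg PowerSeries.constantCoeff e0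
        simpa using this
      have hc1z : c1 = 0 := by
        have := congrArg PowerSeries.constantCoeff e1
        simpa using this
      refine ⟨s2, ?_⟩
      rw [hc0z, hc1z, map_zero]
      ring
    · rintro ⟨s, rfl⟩
      refine ⟨ArSing.x k r ^ r * yMap k r s, ?_⟩
      show yMap k r (PowerSeries.X ^ 2 * s) = _
      rw [map_mul, map_pow, yMap_X, pow_two, y_sq, pow_succ]
      ring

/-! ### Maps `x ↦ -x` and `x ↦ x^2` -/

theorem negx_xMap (σ : ArSing.ring k r ≃ₐ[k] ArSing.ring k r)
    (hx : σ (ArSing.x k r) = -ArSing.x k r) (p : PowerSeries k) :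
    σ (ArSing.xMap k r p) = ArSing.xMap k r (NN k p) := by
  have h : ((σ : ArSing.ring k r →ₐ[k] ArSing.ring k r) : ArSing.ring k r →+* ArSing.ring k r).comp
      (ArSing.xMap k r : PowerSeries k →+* ArSing.ring k r) =
      (ArSing.xMap k r : PowerSeries k →+* ArSing.ring k r).comp (NN k) := by
    apply ringHom_ext
    · intro c
      simp only [RingHom.comp_apply, RingHom.coe_coe, AlgEquiv.coe_toAlgHom, xMap_C,
        AlgEquiv.commutes, NN_C]
    · simp only [RingHom.comp_apply, RingHom.coe_coe, AlgEquiv.coe_toAlgHom, xMap_X, hx, NN_X,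
        map_neg]
    · refine ⟨ArSing.x k r, ?_⟩
      simp only [RingHom.comp_apply, RingHom.coe_coe, AlgEquiv.coe_toAlgHom, xMap_X, hx]
      ring
  exact DFunLike.congr_fun h p

theorem sq_xMap (r' : ℕ) (φ : ArSing.ring k r' →ₐ[k] ArSing.ring k r)
    (hφx : φ (ArSing.x k r') = ArSing.x k r ^ 2) (P : PowerSeries k) :
    φ (ArSing.xMap k r' P) = ArSing.xMap k r (EE k P) := by
  have h : φ.comp (ArSing.xMap k r') = (ArSing.xMap k r).comp (EE k) := by
    apply algHom_ext
    · simp only [AlgHom.comp_apply, xMap_X, hφx, EE_X, map_pow]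
    · refine ⟨ArSing.x k r ^ 3, ?_⟩
      simp only [AlgHom.comp_apply, xMap_X, hφx]
      ring
  exact DFunLike.congr_fun h P

theorem map_ne_top_of_eps (r' : ℕ) (φ : ArSing.ring k r' →ₐ[k] ArSing.ring k r)
    (hε : ∀ b, eps k r (φ b) = eps k r' b) (I : Ideal (ArSing.ring k r')) (hI : I.IsMaximal) :
    Ideal.map φ I ≠ ⊤ := by
  intro htop
  have hle : Ideal.map φ I ≤ RingHom.ker (eps k r) := by
    rw [Ideal.map_le_iff_le_comap]
    intro b hb
    rw [Ideal.mem_comap, RingHom.mem_ker, hε]
    by_contra hne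
    have hu : IsUnit b := (isUnit_iff k r' b).2 hne
    exact hI.ne_top (Ideal.eq_top_of_isUnit_mem _ hb hu)
  rw [htop] at hle
  have : (1 : ArSing.ring k r) ∈ RingHom.ker (eps k r) := hle Submodule.mem_top
  rw [RingHom.mem_ker, map_one] at this
  exact one_ne_zero this

end Groth.Agent.Helper6.ArS
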