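import Mathlib
import Groth.Agent.Helper6.ArS3

set_option autoImplicit false
set_option linter.style.haveILetI false
set_option linter.unusedSectionVars false

namespace Groth.Agent.Helper6.ArS

universe u

variable (k : Type u) [Field k] (r r' : ℕ)

attribute [-instance] PowerSeries.algebraPowerSeries MvPowerSeries.algebraMvPowerSeries

section NegX

variable (σ : ArSing.ring k r ≃ₐ[k] ArSing.ring k r)
  (hx : σ (ArSing.x k r) = -ArSing.x k r) (hy : σ (ArSing.y k r) = ArSing.y k r)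
  (φ : ArSing.ring k r' →ₐ[k] ArSing.ring k r)
  (hφx : φ (ArSing.x k r') = ArSing.x k r ^ 2)
  (hφy : φ (ArSing.y k r') = ArSing.y k r)

include hφx hφy in
theorem negx_phi_repr (P Q : PowerSeries k) :
    φ (ArSing.xMap k r' P + ArSing.xMap k r' Q * ArSing.y k r') =
      ArSing.xMap k r (EE k P) + ArSing.xMap k r (EE k Q) * ArSing.y k r := by
  rw [map_add, map_mul, sq_xMap k r r' φ hφx, sq_xMap k r r' φ hφx, hφy]

include hx hy in
theorem negx_sigma_repr (p q : PowerSeries k) :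
    σ (ArSing.xMap k r p + ArSing.xMap k r q * ArSing.y k r) =
      ArSing.xMap k r (NN k p) + ArSing.xMap k r (NN k q) * ArSing.y k r := by
  rw [map_add, map_mul, negx_xMap k r σ hx, negx_xMap k r σ hx, hy]

include hx hy hφx hφy in
theorem negx_fixed (h2 : (2 : k) ≠ 0) (a : ArSing.ring k r) : σ a = a ↔ a ∈ φ.range := by
  constructor
  · intro h
    obtain ⟨p, q, rfl⟩ := exists_repr k r a
    rw [negx_sigma_repr k r σ hx hy] at h
    obtain ⟨hp, hq⟩ := repr_unique k r h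
    obtain ⟨P, rfl⟩ := even_of_NN_eq k h2 p hp
    obtain ⟨Q, rfl⟩ := even_of_NN_eq k h2 q hq
    refine (AlgHom.mem_range _).2
      ⟨ArSing.xMap k r' P + ArSing.xMap k r' Q * ArSing.y k r', ?_⟩
    rw [negx_phi_repr k r r' φ hφx hφy]
  · intro h
    obtain ⟨b, rfl⟩ := (AlgHom.mem_range _).1 h
    obtain ⟨P, Q, rfl⟩ := exists_repr k r' b
    rw [negx_phi_repr k r r' φ hφx hφy, negx_sigma_repr k r σ hx hy, NN_EE, NN_EE]

include hφx hφy in
theorem negx_flat : φ.toRingHom.Flat := by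
  apply flat_of_basis2 _ 1 (ArSing.x k r)
  · intro a
    obtain ⟨p, q, rfl⟩ := exists_repr k r a
    obtain ⟨P1, P2, rfl⟩ := even_odd_decomp k p
    obtain ⟨Q1, Q2, rfl⟩ := even_odd_decomp k q
    refine ⟨ArSing.xMap k r' P1 + ArSing.xMap k r' Q1 * ArSing.y k r',
      ArSing.xMap k r' P2 + ArSing.xMap k r' Q2 * ArSing.y k r', ?_⟩
    show _ = φ _ * 1 + φ _ * ArSing.x k r
    rw [negx_phi_repr k r r' φ hφx hφy, negx_phi_repr k r r' φ hφx hφy]
    simp only [map_add, map_mul, xMap_X]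
    ring
  · intro b1 b2 h
    obtain ⟨P1, Q1, rfl⟩ := exists_repr k r' b1
    obtain ⟨P2, Q2, rfl⟩ := exists_repr k r' b2
    have h' : φ (ArSing.xMap k r' P1 + ArSing.xMap k r' Q1 * ArSing.y k r') * 1 +
        φ (ArSing.xMap k r' P2 + ArSing.xMap k r' Q2 * ArSing.y k r') * ArSing.x k r = 0 := h
    rw [negx_phi_repr k r r' φ hφx hφy, negx_phi_repr k r r' φ hφx hφy] at h'
    have h'' : ArSing.xMap k r (EE k P1 + PowerSeries.X * EE k P2) +
        ArSing.xMap k r (EE k Q1 + PowerSeries.X * EE k Q2) * ArSing.y k r = 0 := by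
      simp only [map_add, map_mul, xMap_X]
      linear_combination h'
    obtain ⟨e1, e2⟩ := repr_zero k r h''
    obtain ⟨hP1, hP2⟩ := even_odd_zero k P1 P2 e1
    obtain ⟨hQ1, hQ2⟩ := even_odd_zero k Q1 Q2 e2
    rw [hP1, hP2, hQ1, hQ2]
    simp

include hφx hφy in
theorem negx_max (I : Ideal (ArSing.ring k r')) (hI : I.IsMaximal) : Ideal.map φ I ≠ ⊤ := by
  apply map_ne_top_of_eps k r r' φ _ I hI
  intro b
  obtain ⟨P, Q, rfl⟩ := exists_repr k r' b
  rw [negx_phi_repr k r r' φ hφx hφy, eps_repr, eps_repr, constantCoeff_EE]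

include hx hy in
theorem negx_ideal (h2 : (2 : k) ≠ 0) :
    Ideal.span (Set.range fun a : ArSing.ring k r => σ a - a) = Ideal.span {ArSing.x k r} := by
  apply le_antisymm
  · rw [Ideal.span_le]
    rintro _ ⟨a, rfl⟩
    obtain ⟨p, q, rfl⟩ := exists_repr k r a
    show σ _ - _ ∈ _
    rw [negx_sigma_repr k r σ hx hy, SetLike.mem_coe, Ideal.mem_span_singleton]
    obtain ⟨s, hs⟩ := X_dvd_NN_sub k p
    obtain ⟨t, ht⟩ := X_dvd_NN_sub k q
    refine ⟨ArSing.xMap k r s + ArSing.xMap k r t * ArSing.y k r, ?_⟩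
    rw [x_mul_repr, ← hs, ← ht, map_sub, map_sub]
    ring
  · rw [Ideal.span_le, Set.singleton_subset_iff, SetLike.mem_coe]
    have h2A := half_mul_two k r h2
    have : ArSing.x k r = (-(algebraMap k (ArSing.ring k r) (2⁻¹))) *
        (σ (ArSing.x k r) - ArSing.x k r) := by
      rw [hx]
      linear_combination (-(ArSing.x k r)) * h2A
    rw [this]
    exact Ideal.mul_mem_left _ _ (Ideal.subset_span ⟨ArSing.x k r, rfl⟩)

include hx hy hφx hφy in
theorem negx_main (h2 : (2 : k) ≠ 0) :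
    (∀ a : ArSing.ring k r, σ a = a ↔ a ∈ φ.range) ∧
    (φ.toRingHom.Flat ∧
      ∀ I : Ideal (ArSing.ring k r'), I.IsMaximal → Ideal.map φ I ≠ ⊤) ∧
    (∃ g : ArSing.ring k r, g ∈ nonZeroDivisors (ArSing.ring k r) ∧
      Ideal.span (Set.range fun a : ArSing.ring k r => σ a - a) = Ideal.span {g}) ∧
    Module.length (ArSing.ring k r)
      (ArSing.ring k r ⧸ Ideal.span (Set.range fun a : ArSing.ring k r => σ a - a)) = 2 := by
  refine ⟨negx_fixed k r r' σ hx hy φ hφx hφy h2,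
    ⟨negx_flat k r r' φ hφx hφy, negx_max k r r' φ hφx hφy⟩,
    ⟨ArSing.x k r, x_mem_nonZeroDivisors k r, negx_ideal k r σ hx hy h2⟩, ?_⟩
  rw [negx_ideal k r σ hx hy h2]
  exact length_quot_x k r

end NegX

end Groth.Agent.Helper6.ArS
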