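import Mathlib
import Groth.Agent.Helper6.ArS4

set_option autoImplicit false
set_option linter.style.haveILetI false
set_option linter.unusedSectionVars false

namespace Groth.Agent.Helper6.ArS

universe u

variable (k : Type u) [Field k] (r r' : ℕ)

attribute [-instance] PowerSeries.algebraPowerSeries MvPowerSeries.algebraMvPowerSeries

theorem ker_eps_eq : RingHom.ker (eps k r) = Ideal.span {ArSing.x k r, ArSing.y k r} := by
  ext a
  rw [RingHom.mem_ker]
  exact mem_ker_eps_iff k r a

theorem length_quot_xy :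
    Module.length (ArSing.ring k r)
      (ArSing.ring k r ⧸ Ideal.span {ArSing.x k r, ArSing.y k r}) = 1 := by
  rw [Module.length_eq_one_iff, isSimpleModule_iff_isCoatom, ← Ideal.isMaximal_def, ← ker_eps_eq]
  exact RingHom.ker_isMaximal_of_surjective (eps k r) (eps_surjective k r)

theorem eps_eq_zero_of_y_mul_eq (a0 a1 : ArSing.ring k r)
    (h : ArSing.y k r * a0 + (-ArSing.x k r) * a1 = 0) : eps k r a0 = 0 := by
  obtain ⟨P0, Q0, rfl⟩ := exists_repr k r a0
  obtain ⟨P1, Q1, rfl⟩ := exists_repr k r a1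
  have h' : ArSing.xMap k r (Q0 * PowerSeries.X ^ (r + 1)) + ArSing.xMap k r P0 * ArSing.y k r =
      ArSing.xMap k r (PowerSeries.X * P1) + ArSing.xMap k r (PowerSeries.X * Q1) * ArSing.y k r := by
    rw [← mul_y_repr, ← x_mul_repr]
    linear_combination h
  obtain ⟨-, e⟩ := repr_unique k r h'
  rw [eps_repr, e, map_mul, PowerSeries.constantCoeff_X, zero_mul]

/-- The maximal ideal `(x, y)` of `A_r` is not principal when `r ≥ 1`. -/
theorem span_xy_not_principal (hr : r ≠ 0) (g : ArSing.ring k r)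
    (hg : Ideal.span {ArSing.x k r, ArSing.y k r} = Ideal.span {g}) : False := by
  have hgm : g ∈ Ideal.span {ArSing.x k r, ArSing.y k r} := by
    rw [hg]
    exact Ideal.subset_span rfl
  have hxm : ArSing.x k r ∈ Ideal.span {g} := by
    rw [← hg]
    exact Ideal.subset_span (by simp)
  have hym : ArSing.y k r ∈ Ideal.span {g} := by
    rw [← hg]
    exact Ideal.subset_span (by simp)
  rw [← mem_ker_eps_iff] at hgm
  rw [Ideal.mem_span_singleton] at hxm hym
  obtain ⟨u, hu⟩ := hxm
  obtain ⟨v, hv⟩ := hym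
  obtain ⟨P, Q, rfl⟩ := exists_repr k r g
  obtain ⟨U, V, rfl⟩ := exists_repr k r u
  obtain ⟨U', V', rfl⟩ := exists_repr k r v
  rw [eps_repr] at hgm
  obtain ⟨P', rfl⟩ := PowerSeries.X_dvd_iff.2 hgm
  rw [mul_repr] at hu hv
  have hu' : ArSing.xMap k r PowerSeries.X + ArSing.xMap k r 0 * ArSing.y k r =
      ArSing.xMap k r (PowerSeries.X * P' * U + Q * V * PowerSeries.X ^ (r + 1)) +
        ArSing.xMap k r (PowerSeries.X * P' * V + Q * U) * ArSing.y k r := by
    rw [← hu, map_zero, zero_mul, add_zero, xMap_X]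
  have hv' : ArSing.xMap k r 0 + ArSing.xMap k r 1 * ArSing.y k r =
      ArSing.xMap k r (PowerSeries.X * P' * U' + Q * V' * PowerSeries.X ^ (r + 1)) +
        ArSing.xMap k r (PowerSeries.X * P' * V' + Q * U') * ArSing.y k r := by
    rw [← hv, map_zero, zero_add, map_one, one_mul]
  obtain ⟨e1, e2⟩ := repr_unique k r hu'
  obtain ⟨-, e4⟩ := repr_unique k r hv'
  have e1' : (1 : PowerSeries k) = P' * U + Q * V * PowerSeries.X ^ r := by
    apply mul_left_cancel₀ (PowerSeries.X_ne_zero (R := k))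
    rw [pow_succ] at e1
    linear_combination e1
  have c1 := congrArg PowerSeries.constantCoeff e1'
  have c2 := congrArg PowerSeries.constantCoeff e2
  have c4 := congrArg PowerSeries.constantCoeff e4
  simp only [map_add, map_mul, map_pow, map_one, map_zero, PowerSeries.constantCoeff_X,
    zero_mul, zero_add, zero_pow hr, mul_zero, add_zero] at c1 c2 c4
  have hU : PowerSeries.constantCoeff U ≠ 0 := by
    intro h
    rw [h, mul_zero] at c1
    exact one_ne_zero c1
  have hQ : PowerSeries.constantCoeff Q = 0 := by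
    rcases mul_eq_zero.1 c2.symm with h | h
    · exact h
    · exact absurd h hU
  rw [hQ, zero_mul] at c4
  exact one_ne_zero c4

section NegXY

variable (σ : ArSing.ring k r ≃ₐ[k] ArSing.ring k r)
  (hx : σ (ArSing.x k r) = -ArSing.x k r) (hy : σ (ArSing.y k r) = -ArSing.y k r)
  (φ : ArSing.ring k r' →ₐ[k] ArSing.ring k r)
  (hφx : φ (ArSing.x k r') = ArSing.x k r ^ 2)
  (hφy : φ (ArSing.y k r') = ArSing.x k r * ArSing.y k r)

include hφx hφy in
theorem negxy_phi_repr (P Q : PowerSeries k) :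
    φ (ArSing.xMap k r' P + ArSing.xMap k r' Q * ArSing.y k r') =
      ArSing.xMap k r (EE k P) + ArSing.xMap k r (PowerSeries.X * EE k Q) * ArSing.y k r := by
  rw [map_add, map_mul, sq_xMap k r r' φ hφx, sq_xMap k r r' φ hφx, hφy, map_mul, xMap_X]
  ring

include hx hy in
theorem negxy_sigma_repr (p q : PowerSeries k) :
    σ (ArSing.xMap k r p + ArSing.xMap k r q * ArSing.y k r) =
      ArSing.xMap k r (NN k p) + ArSing.xMap k r (-NN k q) * ArSing.y k r := by
  rw [map_add, map_mul, negx_xMap k r σ hx, negx_xMap k r σ hx, hy, map_neg]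
  ring

include hx hy hφx hφy in
theorem negxy_fixed (h2 : (2 : k) ≠ 0) (a : ArSing.ring k r) : σ a = a ↔ a ∈ φ.range := by
  constructor
  · intro h
    obtain ⟨p, q, rfl⟩ := exists_repr k r a
    rw [negxy_sigma_repr k r σ hx hy] at h
    obtain ⟨hp, hq⟩ := repr_unique k r h
    have hq' : NN k q = -q := neg_eq_iff_eq_neg.1 hq
    obtain ⟨P, rfl⟩ := even_of_NN_eq k h2 p hp
    obtain ⟨Q, rfl⟩ := odd_of_NN_eq_neg k h2 q hq'
    refine (AlgHom.mem_range _).2
      ⟨ArSing.xMap k r' P + ArSing.xMap k r' Q * ArSing.y k r', ?_⟩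
    rw [negxy_phi_repr k r r' φ hφx hφy]
  · intro h
    obtain ⟨b, rfl⟩ := (AlgHom.mem_range _).1 h
    obtain ⟨P, Q, rfl⟩ := exists_repr k r' b
    rw [negxy_phi_repr k r r' φ hφx hφy, negxy_sigma_repr k r σ hx hy, NN_EE, map_mul, NN_EE,
      NN_X]
    congr 3
    ring

include hφx hφy in
theorem negxy_injective : Function.Injective φ := by
  rw [injective_iff_map_eq_zero]
  intro b hb
  obtain ⟨P, Q, rfl⟩ := exists_repr k r' b
  rw [negxy_phi_repr k r r' φ hφx hφy] at hb
  obtain ⟨e1, e2⟩ := repr_zero k r hb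
  have hP : P = 0 := EE_injective k (by rw [e1, map_zero])
  have hQ : Q = 0 := by
    have := (mul_eq_zero.1 e2).resolve_left PowerSeries.X_ne_zero
    exact EE_injective k (by rw [this, map_zero])
  rw [hP, hQ]
  simp

include hφx hφy in
theorem negxy_phi_eq_x_mul (b : ArSing.ring k r') (hb : eps k r' b = 0) :
    ∃ c, eps k r c = 0 ∧ φ b = ArSing.x k r * c := by
  obtain ⟨P, Q, rfl⟩ := exists_repr k r' b
  rw [eps_repr] at hb
  obtain ⟨P', rfl⟩ := PowerSeries.X_dvd_iff.2 hb
  refine ⟨ArSing.xMap k r (PowerSeries.X * EE k P') + ArSing.xMap k r (EE k Q) * ArSing.y k r,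
    ?_, ?_⟩
  · rw [eps_repr, map_mul, PowerSeries.constantCoeff_X, zero_mul]
  · rw [negxy_phi_repr k r r' φ hφx hφy, x_mul_repr, map_mul, EE_X]
    congr 2
    ring

include hφx hφy in
theorem negxy_not_flat : ¬ φ.toRingHom.Flat := by
  intro hflat
  letI := φ.toRingHom.toAlgebra
  have hF : Module.Flat (ArSing.ring k r') (ArSing.ring k r) := hflat
  have hsm : ∀ (b : ArSing.ring k r') (z : ArSing.ring k r), b • z = φ b * z := by
    intro b z
    rw [Algebra.smul_def, RingHom.algebraMap_toAlgebra]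
    rfl
  have hrel : ∑ i : Fin 2, (![ArSing.y k r', -ArSing.x k r'] i) •
      (![ArSing.x k r, ArSing.y k r] i) = 0 := by
    rw [Fin.sum_univ_two]
    simp only [Matrix.cons_val_zero, Matrix.cons_val_one]
    rw [hsm, hsm, map_neg, hφx, hφy]
    ring
  have htr := Module.Flat.isTrivialRelation_of_sum_smul_eq_zero (R := ArSing.ring k r')
    (M := ArSing.ring k r) hrel
  obtain ⟨n, a, z, hxz, hrel'⟩ := htr
  have h0 := hxz 0
  simp only [Matrix.cons_val_zero] at h0
  simp only [hsm] at h0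
  have key : ∀ j, ∃ c, eps k r c = 0 ∧ φ (a 0 j) * z j = ArSing.x k r * c := by
    intro j
    have hj := hrel' j
    rw [Fin.sum_univ_two] at hj
    simp only [Matrix.cons_val_zero, Matrix.cons_val_one] at hj
    have he := eps_eq_zero_of_y_mul_eq k r' (a 0 j) (a 1 j) hj
    obtain ⟨c, hc1, hc2⟩ := negxy_phi_eq_x_mul k r r' φ hφx hφy (a 0 j) he
    refine ⟨c * z j, ?_, ?_⟩
    · rw [map_mul, hc1, zero_mul]
    · rw [hc2, mul_assoc]
  choose c hc1 hc2 using key
  have hx' : ArSing.x k r = ArSing.x k r * ∑ j, c j := by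
    rw [Finset.mul_sum]
    simp_rw [← hc2]
    exact h0
  have hu : IsUnit (1 - ∑ j, c j) := by
    rw [isUnit_iff, map_sub, map_one, map_sum]
    simp [hc1]
  have hz : ArSing.x k r * (1 - ∑ j, c j) = 0 := by linear_combination hx'
  exact x_ne_zero k r (hu.mul_left_eq_zero.1 hz)

include hx hy in
theorem negxy_ideal (h2 : (2 : k) ≠ 0) :
    Ideal.span (Set.range fun a : ArSing.ring k r => σ a - a) =
      Ideal.span {ArSing.x k r, ArSing.y k r} := by
  apply le_antisymm
  · rw [Ideal.span_le]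
    rintro _ ⟨a, rfl⟩
    obtain ⟨p, q, rfl⟩ := exists_repr k r a
    show σ _ - _ ∈ _
    rw [negxy_sigma_repr k r σ hx hy, SetLike.mem_coe, ← mem_ker_eps_iff, map_sub, eps_repr,
      eps_repr, constantCoeff_NN, sub_self]
  · rw [Ideal.span_le]
    have h2A := half_mul_two k r h2
    intro b hb
    rcases hb with rfl | rfl
    · have : ArSing.x k r = (-(algebraMap k (ArSing.ring k r) (2⁻¹))) *
          (σ (ArSing.x k r) - ArSing.x k r) := by
        rw [hx]
        linear_combination (-(ArSing.x k r)) * h2A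
      rw [this]
      exact Ideal.mul_mem_left _ _ (Ideal.subset_span ⟨ArSing.x k r, rfl⟩)
    · have : ArSing.y k r = (-(algebraMap k (ArSing.ring k r) (2⁻¹))) *
          (σ (ArSing.y k r) - ArSing.y k r) := by
        rw [hy]
        linear_combination (-(ArSing.y k r)) * h2A
      rw [this]
      exact Ideal.mul_mem_left _ _ (Ideal.subset_span ⟨ArSing.y k r, rfl⟩)

include hx hy hφx hφy in
theorem negxy_main (h2 : (2 : k) ≠ 0) (hr : r ≠ 0) :
    (∀ a : ArSing.ring k r, σ a = a ↔ a ∈ φ.range) ∧ Function.Injective φ ∧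
    ¬ φ.toRingHom.Flat ∧
    Module.length (ArSing.ring k r)
      (ArSing.ring k r ⧸ Ideal.span (Set.range fun a : ArSing.ring k r => σ a - a)) = 1 ∧
    ¬ (∃ g : ArSing.ring k r, g ∈ nonZeroDivisors (ArSing.ring k r) ∧
      Ideal.span (Set.range fun a : ArSing.ring k r => σ a - a) = Ideal.span {g}) := by
  refine ⟨negxy_fixed k r r' σ hx hy φ hφx hφy h2, negxy_injective k r r' φ hφx hφy,
    negxy_not_flat k r r' φ hφx hφy, ?_, ?_⟩
  · rw [negxy_ideal k r σ hx hy h2]
    exact length_quot_xy k r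
  · rintro ⟨g, -, hg⟩
    rw [negxy_ideal k r σ hx hy h2] at hg
    exact span_xy_not_principal k r hr g hg

end NegXY

end Groth.Agent.Helper6.ArS
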