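import Mathlib
import Groth.Agent.Helper6.ArS5

set_option autoImplicit false
set_option linter.style.haveILetI false
set_option linter.unusedSectionVars false

namespace Groth.Agent.Helper6.ArS

universe u

variable (k : Type u) [Field k] (r : ℕ)

attribute [-instance] PowerSeries.algebraPowerSeries MvPowerSeries.algebraMvPowerSeries

/-! ### General substitution maps and a flatness obstruction -/

/-- The `k`-algebra map `k[[t]] → A_r` sending `t` to the class of `g`. -/
noncomputable def substMap (g : MvPowerSeries (Fin 2) k)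
    (hg : MvPowerSeries.constantCoeff g = 0) : PowerSeries k →ₐ[k] ArSing.ring k r :=
  (Ideal.Quotient.mkₐ k (Ideal.span {ArSing.eqn k r})).comp
    (PowerSeries.substAlgHom (PowerSeries.HasSubst.of_constantCoeff_zero hg))

theorem substMap_X (g : MvPowerSeries (Fin 2) k) (hg : MvPowerSeries.constantCoeff g = 0) :
    substMap k r g hg PowerSeries.X = Ideal.Quotient.mk _ g := by
  unfold substMap
  rw [AlgHom.comp_apply, PowerSeries.coe_substAlgHom, PowerSeries.subst_X
    (PowerSeries.HasSubst.of_constantCoeff_zero hg)]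
  rfl

theorem algHom_C {B : Type*} [CommRing B] [Algebra k B] (ψ : PowerSeries k →ₐ[k] B) (c : k) :
    ψ (PowerSeries.C c) = algebraMap k B c := by
  have hc : (PowerSeries.C c : PowerSeries k) = algebraMap k (PowerSeries k) c := rfl
  rw [hc, AlgHom.commutes]

theorem rescale_C (a c : k) : PowerSeries.rescale a (PowerSeries.C c) = PowerSeries.C c := by
  ext n
  rw [PowerSeries.coeff_rescale, PowerSeries.coeff_C]
  split_ifs with h
  · subst h
    simp
  · simp

theorem rescale_inv (a b : k) (hab : a * b = 1) (f : PowerSeries k) :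
    PowerSeries.rescale b (PowerSeries.rescale a f) = f := by
  rw [PowerSeries.rescale_rescale, hab, PowerSeries.rescale_one]
  rfl

theorem mul_hom_eq (e u : ArSing.ring k r) (ψ : PowerSeries k →ₐ[k] ArSing.ring k r) (a : k)
    (hψ : ψ PowerSeries.X = u)
    (h : e * ArSing.x k r = e * (algebraMap k _ a * u))
    (hu : ∃ c, u ^ 2 = ArSing.x k r * c) (γ : PowerSeries k) :
    e * ArSing.xMap k r γ = e * ψ (PowerSeries.rescale a γ) := by
  have hX : ψ (PowerSeries.rescale a PowerSeries.X) = algebraMap k _ a * u := by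
    rw [PowerSeries.rescale_X, map_mul, hψ, algHom_C]
  obtain ⟨c, hc⟩ := hu
  exact ringHom_ext_mul k r e (ArSing.xMap k r : PowerSeries k →+* ArSing.ring k r)
    ((ψ : PowerSeries k →+* ArSing.ring k r).comp (PowerSeries.rescale a))
    (by
      intro c'
      simp only [RingHom.comp_apply, RingHom.coe_coe, rescale_C, algHom_C])
    (by
      simp only [RingHom.comp_apply, RingHom.coe_coe, xMap_X, hX]
      exact h)
    ⟨ArSing.x k r, by simp only [RingHom.coe_coe, xMap_X]; ring⟩
    ⟨algebraMap k _ a ^ 2 * c, by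
      simp only [RingHom.comp_apply, RingHom.coe_coe, hX]
      rw [mul_pow, hc]
      ring⟩ γ

theorem not_flat_of_relation {R S : Type*} [CommRing R] [CommRing S] (f : R →+* S) (u : R) (v : S)
    (huv : f u * v = 0)
    (hcontra : ∀ (n : ℕ) (a : Fin n → R) (z : Fin n → S), (∀ j, u * a j = 0) →
      v = ∑ j, f (a j) * z j → False) : ¬ f.Flat := by
  intro hflat
  letI := f.toAlgebra
  have hF : Module.Flat R S := hflat
  have hsm : ∀ (b : R) (z : S), b • z = f b * z := by
    intro b z
    rw [Algebra.smul_def, RingHom.algebraMap_toAlgebra]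
  have hrel : ∑ i : Fin 1, (![u] i) • (![v] i) = 0 := by
    rw [Fin.sum_univ_one]
    simp only [Matrix.cons_val_zero]
    rw [hsm]
    exact huv
  have htr := Module.Flat.isTrivialRelation_of_sum_smul_eq_zero (R := R) (M := S) hrel
  obtain ⟨n, a, z, hxz, hrel'⟩ := htr
  have h0 := hxz 0
  simp only [Matrix.cons_val_zero] at h0
  simp only [hsm] at h0
  refine hcontra n (a 0) z ?_ h0
  intro j
  have hj := hrel' j
  rw [Fin.sum_univ_one] at hj
  simpa using hj

/-! ### The node `A_1`: coordinates `s = x + y`, `t = y - x` -/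

/-- `s = x + y`. -/
noncomputable def sEl : ArSing.ring k 1 := ArSing.x k 1 + ArSing.y k 1

/-- `t = y - x`. -/
noncomputable def tEl : ArSing.ring k 1 := ArSing.y k 1 - ArSing.x k 1

/-- `k[[t]] → A_1`, `t ↦ s`. -/
noncomputable def SMap : PowerSeries k →ₐ[k] ArSing.ring k 1 :=
  substMap k 1 (MvPowerSeries.X 0 + MvPowerSeries.X 1) (by simp)

/-- `k[[t]] → A_1`, `t ↦ t`. -/
noncomputable def TMap : PowerSeries k →ₐ[k] ArSing.ring k 1 :=
  substMap k 1 (MvPowerSeries.X 1 - MvPowerSeries.X 0) (by simp)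

theorem SMap_X : SMap k PowerSeries.X = sEl k := by
  unfold SMap
  rw [substMap_X, map_add]
  rfl

theorem TMap_X : TMap k PowerSeries.X = tEl k := by
  unfold TMap
  rw [substMap_X, map_sub]
  rfl

theorem SMap_C (c : k) : SMap k (PowerSeries.C c) = algebraMap k _ c := algHom_C k _ c

theorem TMap_C (c : k) : TMap k (PowerSeries.C c) = algebraMap k _ c := algHom_C k _ c

theorem st_zero : sEl k * tEl k = 0 := by
  unfold sEl tEl
  linear_combination y_sq k 1

theorem ss_eq : sEl k * sEl k = 2 * ArSing.x k 1 * sEl k := by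
  unfold sEl
  linear_combination y_sq k 1

theorem tt_eq : tEl k * tEl k = -2 * ArSing.x k 1 * tEl k := by
  unfold tEl
  linear_combination y_sq k 1

theorem eps_s : eps k 1 (sEl k) = 0 := by
  unfold sEl
  rw [map_add, eps_x, eps_y, add_zero]

theorem eps_t : eps k 1 (tEl k) = 0 := by
  unfold tEl
  rw [map_sub, eps_x, eps_y, sub_zero]

theorem s_mul_xMap (h2 : (2 : k) ≠ 0) (γ : PowerSeries k) :
    sEl k * ArSing.xMap k 1 γ = sEl k * SMap k (PowerSeries.rescale (2⁻¹ : k) γ) := by
  have H := half_mul_two k 1 h2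
  apply mul_hom_eq k 1 (sEl k) (sEl k) (SMap k) (2⁻¹ : k) (SMap_X k)
  · linear_combination (-(algebraMap k (ArSing.ring k 1) (2⁻¹ : k))) * ss_eq k -
      (ArSing.x k 1 * sEl k) * H
  · exact ⟨2 * sEl k, by linear_combination ss_eq k⟩

theorem t_mul_xMap (h2 : (2 : k) ≠ 0) (γ : PowerSeries k) :
    tEl k * ArSing.xMap k 1 γ = tEl k * TMap k (PowerSeries.rescale (-2⁻¹ : k) γ) := by
  have H := half_mul_two k 1 h2
  apply mul_hom_eq k 1 (tEl k) (tEl k) (TMap k) (-2⁻¹ : k) (TMap_X k)
  · rw [map_neg]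
    linear_combination (algebraMap k (ArSing.ring k 1) (2⁻¹ : k)) * tt_eq k -
      (ArSing.x k 1 * tEl k) * H
  · exact ⟨-2 * tEl k, by linear_combination tt_eq k⟩

theorem exists_st_repr (h2 : (2 : k) ≠ 0) (a : ArSing.ring k 1) :
    ∃ α β : PowerSeries k, a = SMap k α + tEl k * TMap k β := by
  obtain ⟨p, q, rfl⟩ := exists_repr k 1 a
  obtain ⟨c, p', rfl⟩ := ps_split k p
  have H := half_mul_two k 1 h2
  have e1 := s_mul_xMap k h2 (PowerSeries.C (2⁻¹ : k) * (p' + q))
  have e2 := t_mul_xMap k h2 (PowerSeries.C (2⁻¹ : k) * (q - p'))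
  refine ⟨PowerSeries.C c + PowerSeries.X *
    PowerSeries.rescale (2⁻¹ : k) (PowerSeries.C (2⁻¹ : k) * (p' + q)),
    PowerSeries.rescale (-2⁻¹ : k) (PowerSeries.C (2⁻¹ : k) * (q - p')), ?_⟩
  rw [map_add (SMap k), map_mul (SMap k), SMap_X, SMap_C, ← e1, ← e2]
  simp only [map_add, map_sub, map_mul, xMap_X, xMap_C]
  unfold sEl tEl
  linear_combination (-(ArSing.x k 1 * ArSing.xMap k 1 p' + ArSing.y k 1 * ArSing.xMap k 1 q)) * H

theorem st_repr_zero (h2 : (2 : k) ≠ 0) (α β : PowerSeries k)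
    (h : SMap k α + tEl k * TMap k β = 0) : α = 0 ∧ β = 0 := by
  obtain ⟨c, α', rfl⟩ := ps_split k α
  have i2 : (2 : k) * 2⁻¹ = 1 := mul_inv_cancel₀ h2
  have i2' : (-2 : k) * (-2⁻¹) = 1 := by
    rw [neg_mul_neg]
    exact i2
  have e1 := s_mul_xMap k h2 (PowerSeries.rescale (2 : k) α')
  rw [rescale_inv k 2 2⁻¹ i2] at e1
  have e2 := t_mul_xMap k h2 (PowerSeries.rescale (-2 : k) β)
  rw [rescale_inv k (-2) (-2⁻¹) i2'] at e2
  have h' : ArSing.xMap k 1 (PowerSeries.C c + PowerSeries.X *
        (PowerSeries.rescale (2 : k) α' - PowerSeries.rescale (-2 : k) β)) +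
      ArSing.xMap k 1 (PowerSeries.rescale (2 : k) α' + PowerSeries.rescale (-2 : k) β) *
        ArSing.y k 1 = 0 := by
    rw [map_add (SMap k), map_mul (SMap k), SMap_X, SMap_C, ← e1, ← e2] at h
    simp only [map_add, map_sub, map_mul, xMap_X, xMap_C]
    unfold sEl tEl at h
    linear_combination h
  obtain ⟨h1, h2'⟩ := repr_zero k 1 h'
  have hc : c = 0 := by
    have := congrArg PowerSeries.constantCoeff h1
    simpa using this
  rw [hc, map_zero, zero_add] at h1
  have h3 : PowerSeries.rescale (2 : k) α' - PowerSeries.rescale (-2 : k) β = 0 :=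
    (mul_eq_zero.1 h1).resolve_left PowerSeries.X_ne_zero
  have hA : PowerSeries.rescale (2 : k) α' = 0 := by
    have : (2 : PowerSeries k) * PowerSeries.rescale (2 : k) α' = 0 := by
      linear_combination h3 + h2'
    exact (mul_eq_zero.1 this).resolve_left (two_ne_zero_ps k h2)
  have hB : PowerSeries.rescale (-2 : k) β = 0 := by
    rw [hA, zero_sub, neg_eq_zero] at h3
    exact h3
  have hα' : α' = 0 := by rw [← rescale_inv k 2 2⁻¹ i2 α', hA, map_zero]
  have hβ : β = 0 := by rw [← rescale_inv k (-2) (-2⁻¹) i2' β, hB, map_zero]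
  refine ⟨?_, hβ⟩
  rw [hα', hc]
  simp

theorem st_repr_unique (h2 : (2 : k) ≠ 0) {α β α' β' : PowerSeries k}
    (h : SMap k α + tEl k * TMap k β = SMap k α' + tEl k * TMap k β') : α = α' ∧ β = β' := by
  have h0 : SMap k (α - α') + tEl k * TMap k (β - β') = 0 := by
    rw [map_sub, map_sub]
    linear_combination h
  obtain ⟨e1, e2⟩ := st_repr_zero k h2 _ _ h0
  exact ⟨sub_eq_zero.1 e1, sub_eq_zero.1 e2⟩

theorem t_mul_SMap (α : PowerSeries k) :
    tEl k * SMap k α = tEl k * algebraMap k _ (PowerSeries.constantCoeff α) := by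
  obtain ⟨c, α', rfl⟩ := ps_split k α
  rw [map_add, map_mul, SMap_X, SMap_C]
  simp only [map_add, map_mul, PowerSeries.constantCoeff_X, zero_mul, zero_add,
    PowerSeries.constantCoeff_C]
  linear_combination (SMap k α') * st_zero k

theorem s_mul_repr (α β : PowerSeries k) :
    sEl k * (SMap k α + tEl k * TMap k β) = SMap k (PowerSeries.X * α) := by
  rw [map_mul, SMap_X]
  linear_combination (TMap k β) * st_zero k

theorem t_mul_repr (α β : PowerSeries k) :
    tEl k * (SMap k α + tEl k * TMap k β) =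
      SMap k 0 + tEl k * TMap k (PowerSeries.C (PowerSeries.constantCoeff α) +
        PowerSeries.X * β) := by
  rw [map_zero, zero_add, map_add, map_mul, TMap_X, TMap_C]
  linear_combination t_mul_SMap k α

theorem st_mul_repr (α β α' β' : PowerSeries k) :
    (SMap k α + tEl k * TMap k β) * (SMap k α' + tEl k * TMap k β') =
      SMap k (α * α') + tEl k * TMap k (PowerSeries.C (PowerSeries.constantCoeff α') * β +
        PowerSeries.C (PowerSeries.constantCoeff α) * β' + PowerSeries.X * β * β') := by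
  simp only [map_add, map_mul, TMap_X, TMap_C]
  linear_combination (TMap k β') * t_mul_SMap k α + (TMap k β) * t_mul_SMap k α'

theorem mem_span_t_iff (h2 : (2 : k) ≠ 0) (α β : PowerSeries k) :
    SMap k α + tEl k * TMap k β ∈ Ideal.span {tEl k} ↔ α = 0 := by
  rw [Ideal.mem_span_singleton]
  constructor
  · rintro ⟨b, hb⟩
    obtain ⟨α', β', rfl⟩ := exists_st_repr k h2 b
    rw [t_mul_repr] at hb
    exact (st_repr_unique k h2 hb).1
  · rintro rfl
    exact ⟨TMap k β, by rw [map_zero, zero_add]⟩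

theorem s_ne_zero : sEl k ≠ 0 := by
  intro h
  have h' : ArSing.xMap k 1 PowerSeries.X + ArSing.xMap k 1 1 * ArSing.y k 1 = 0 := by
    rw [xMap_X, map_one, one_mul]
    exact h
  exact one_ne_zero (repr_zero k 1 h').2

theorem t_ne_zero : tEl k ≠ 0 := by
  intro h
  have h' : ArSing.xMap k 1 (-PowerSeries.X) + ArSing.xMap k 1 1 * ArSing.y k 1 = 0 := by
    rw [map_neg, xMap_X, map_one, one_mul]
    unfold tEl at h
    linear_combination h
  exact one_ne_zero (repr_zero k 1 h').2

theorem t_not_nzd : tEl k ∉ nonZeroDivisors (ArSing.ring k 1) := by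
  intro h
  rw [mem_nonZeroDivisors_iff_right] at h
  exact s_ne_zero k (h _ (st_zero k))

theorem span_t_minimal (h2 : (2 : k) ≠ 0) :
    Ideal.span {tEl k} ∈ minimalPrimes (ArSing.ring k 1) := by
  have hprime : (Ideal.span {tEl k}).IsPrime := by
    refine ⟨?_, ?_⟩
    · rw [Ne, Ideal.span_singleton_eq_top, isUnit_iff, eps_t]
      exact fun h => h rfl
    · intro a b hab
      obtain ⟨α, β, rfl⟩ := exists_st_repr k h2 a
      obtain ⟨α', β', rfl⟩ := exists_st_repr k h2 b
      rw [st_mul_repr, mem_span_t_iff k h2] at hab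
      rcases mul_eq_zero.1 hab with h | h
      · left
        exact (mem_span_t_iff k h2 _ _).2 h
      · right
        exact (mem_span_t_iff k h2 _ _).2 h
  rw [minimalPrimes_eq_minimals]
  refine ⟨hprime, ?_⟩
  intro q hq hle
  rw [Ideal.span_le, Set.singleton_subset_iff, SetLike.mem_coe]
  have hst : sEl k * tEl k ∈ q := by
    rw [st_zero]
    exact zero_mem _
  rcases hq.mem_or_mem hst with h | h
  · exfalso
    have hs : sEl k ∈ Ideal.span {tEl k} := hle h
    have hs' : SMap k PowerSeries.X + tEl k * TMap k 0 ∈ Ideal.span {tEl k} := by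
      rw [map_zero, mul_zero, add_zero, SMap_X]
      exact hs
    exact PowerSeries.X_ne_zero ((mem_span_t_iff k h2 _ _).1 hs')
  · exact h

section Swap

variable (σ : ArSing.ring k 1 ≃ₐ[k] ArSing.ring k 1)
  (hx : σ (ArSing.x k 1) = ArSing.y k 1) (hy : σ (ArSing.y k 1) = ArSing.x k 1)
  (φ : ArSing.ring k 1 →ₐ[k] ArSing.ring k 1)
  (hφu : φ (ArSing.x k 1 + ArSing.y k 1) = ArSing.x k 1 + ArSing.y k 1)
  (hφv : φ (ArSing.y k 1 - ArSing.x k 1) = (ArSing.y k 1 - ArSing.x k 1) ^ 2)

include hx hy in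
theorem swap_s : σ (sEl k) = sEl k := by
  unfold sEl
  rw [map_add, hx, hy]
  ring

include hx hy in
theorem swap_t : σ (tEl k) = -tEl k := by
  unfold tEl
  rw [map_sub, hx, hy]
  ring

include hx hy in
theorem swap_SMap (α : PowerSeries k) : σ (SMap k α) = SMap k α := by
  have h : (σ : ArSing.ring k 1 →ₐ[k] ArSing.ring k 1).comp (SMap k) = SMap k := by
    apply algHom_ext
    · simp only [AlgHom.comp_apply, AlgEquiv.coe_toAlgHom, SMap_X, swap_s k σ hx hy]
    · refine ⟨2 * sEl k, ?_⟩
      simp only [AlgHom.comp_apply, AlgEquiv.coe_toAlgHom, SMap_X, swap_s k σ hx hy]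
      linear_combination ss_eq k
  exact DFunLike.congr_fun h α

include hx hy in
theorem swap_TMap (β : PowerSeries k) : σ (TMap k β) = TMap k (NN k β) := by
  have h : ((σ : ArSing.ring k 1 →ₐ[k] ArSing.ring k 1) :
      ArSing.ring k 1 →+* ArSing.ring k 1).comp
      (TMap k : PowerSeries k →+* ArSing.ring k 1) =
      (TMap k : PowerSeries k →+* ArSing.ring k 1).comp (NN k) := by
    apply ringHom_ext
    · intro c
      simp only [RingHom.comp_apply, RingHom.coe_coe, AlgEquiv.coe_toAlgHom, TMap_C,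
        AlgEquiv.commutes, NN_C]
    · simp only [RingHom.comp_apply, RingHom.coe_coe, AlgEquiv.coe_toAlgHom, TMap_X,
        swap_t k σ hx hy, NN_X, map_neg]
    · refine ⟨-2 * tEl k, ?_⟩
      simp only [RingHom.comp_apply, RingHom.coe_coe, AlgEquiv.coe_toAlgHom, TMap_X,
        swap_t k σ hx hy]
      linear_combination tt_eq k
  exact DFunLike.congr_fun h β

include hx hy in
theorem swap_repr (α β : PowerSeries k) :
    σ (SMap k α + tEl k * TMap k β) = SMap k α + tEl k * TMap k (-(NN k β)) := by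
  rw [map_add, map_mul, swap_SMap k σ hx hy, swap_TMap k σ hx hy, swap_t k σ hx hy, map_neg]
  ring

include hφu in
theorem phi_s : φ (sEl k) = sEl k := hφu

include hφv in
theorem phi_t : φ (tEl k) = tEl k ^ 2 := hφv

include hφu in
theorem phi_SMap (α : PowerSeries k) : φ (SMap k α) = SMap k α := by
  have h : φ.comp (SMap k) = SMap k := by
    apply algHom_ext
    · simp only [AlgHom.comp_apply, SMap_X, phi_s k φ hφu]
    · refine ⟨2 * sEl k, ?_⟩
      simp only [AlgHom.comp_apply, SMap_X, phi_s k φ hφu]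
      linear_combination ss_eq k
  exact DFunLike.congr_fun h α

include hφv in
theorem phi_TMap (β : PowerSeries k) : φ (TMap k β) = TMap k (EE k β) := by
  have h : φ.comp (TMap k) = (TMap k).comp (EE k) := by
    apply algHom_ext
    · simp only [AlgHom.comp_apply, TMap_X, phi_t k φ hφv, EE_X, map_pow]
    · refine ⟨4 * ArSing.x k 1 * tEl k ^ 2, ?_⟩
      simp only [AlgHom.comp_apply, TMap_X, phi_t k φ hφv]
      linear_combination (tEl k ^ 2 + (-2) * ArSing.x k 1 * tEl k) * tt_eq k
  exact DFunLike.congr_fun h β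

include hφu hφv in
theorem phi_repr (α β : PowerSeries k) :
    φ (SMap k α + tEl k * TMap k β) =
      SMap k α + tEl k * TMap k (PowerSeries.X * EE k β) := by
  rw [map_add, map_mul, phi_SMap k φ hφu, phi_TMap k φ hφv, phi_t k φ hφv, map_mul, TMap_X]
  ring

include hx hy hφu hφv in
theorem swap_fixed (h2 : (2 : k) ≠ 0) (a : ArSing.ring k 1) : σ a = a ↔ a ∈ φ.range := by
  constructor
  · intro h
    obtain ⟨α, β, rfl⟩ := exists_st_repr k h2 a
    rw [swap_repr k σ hx hy] at h
    obtain ⟨-, hβ⟩ := st_repr_unique k h2 h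
    obtain ⟨B, rfl⟩ := odd_of_NN_eq_neg k h2 β (neg_eq_iff_eq_neg.1 hβ)
    exact (AlgHom.mem_range _).2 ⟨SMap k α + tEl k * TMap k B, phi_repr k φ hφu hφv α B⟩
  · intro h
    obtain ⟨b, rfl⟩ := (AlgHom.mem_range _).1 h
    obtain ⟨α, B, rfl⟩ := exists_st_repr k h2 b
    rw [phi_repr k φ hφu hφv, swap_repr k σ hx hy, map_mul, NN_X, NN_EE]
    congr 3
    ring

include hφu hφv in
theorem swap_phi_injective (h2 : (2 : k) ≠ 0) : Function.Injective φ := by
  rw [injective_iff_map_eq_zero]
  intro b hb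
  obtain ⟨α, β, rfl⟩ := exists_st_repr k h2 b
  rw [phi_repr k φ hφu hφv] at hb
  obtain ⟨hα, hβ⟩ := st_repr_zero k h2 _ _ hb
  have hE : EE k β = 0 := (mul_eq_zero.1 hβ).resolve_left PowerSeries.X_ne_zero
  have hβ' : β = 0 := EE_injective k (by rw [hE, map_zero])
  rw [hα, hβ']
  simp

include hx hy in
theorem swap_ideal (h2 : (2 : k) ≠ 0) :
    Ideal.span (Set.range fun a : ArSing.ring k 1 => σ a - a) = Ideal.span {tEl k} := by
  apply le_antisymm
  · rw [Ideal.span_le]
    rintro _ ⟨a, rfl⟩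
    obtain ⟨α, β, rfl⟩ := exists_st_repr k h2 a
    show σ _ - _ ∈ _
    rw [swap_repr k σ hx hy, SetLike.mem_coe, Ideal.mem_span_singleton]
    exact ⟨TMap k (-(NN k β)) - TMap k β, by ring⟩
  · rw [Ideal.span_le, Set.singleton_subset_iff, SetLike.mem_coe]
    have h2A := half_mul_two k 1 h2
    have : tEl k = (-(algebraMap k (ArSing.ring k 1) (2⁻¹))) * (σ (tEl k) - tEl k) := by
      rw [swap_t k σ hx hy]
      linear_combination (-(tEl k)) * h2A
    rw [this]
    exact Ideal.mul_mem_left _ _ (Ideal.subset_span ⟨tEl k, rfl⟩)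

include hφu hφv in
theorem swap_not_flat (h2 : (2 : k) ≠ 0) : ¬ φ.toRingHom.Flat := by
  apply not_flat_of_relation φ.toRingHom (sEl k) (tEl k)
  · show φ (sEl k) * tEl k = 0
    rw [phi_s k φ hφu, st_zero]
  · intro n a z ha hz
    have key : ∀ j, ∃ c, φ (a j) * z j = tEl k * (tEl k * c) := by
      intro j
      obtain ⟨α, β, hab⟩ := exists_st_repr k h2 (a j)
      have h1 := ha j
      rw [hab, s_mul_repr] at h1
      have h1' : SMap k (PowerSeries.X * α) + tEl k * TMap k 0 = 0 := by
        rw [map_zero (TMap k), mul_zero, add_zero]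
        exact h1
      obtain ⟨hα, -⟩ := st_repr_zero k h2 _ _ h1'
      have hα0 : α = 0 := (mul_eq_zero.1 hα).resolve_left PowerSeries.X_ne_zero
      refine ⟨TMap k (EE k β) * z j, ?_⟩
      rw [hab, phi_repr k φ hφu hφv, hα0, map_zero, zero_add, map_mul, TMap_X]
      ring
    choose c hc using key
    have hz' : tEl k = tEl k * (tEl k * ∑ j, c j) := by
      rw [Finset.mul_sum, Finset.mul_sum]
      simp_rw [← hc]
      exact hz
    have hu : IsUnit (1 - tEl k * ∑ j, c j) := by
      rw [isUnit_iff, map_sub, map_one, map_mul, eps_t, zero_mul, sub_zero]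
      exact one_ne_zero
    have h0 : tEl k * (1 - tEl k * ∑ j, c j) = 0 := by linear_combination hz'
    exact t_ne_zero k (hu.mul_left_eq_zero.1 h0)

include hx hy hφu hφv in
theorem swap_main (h2 : (2 : k) ≠ 0) :
    (∀ a : ArSing.ring k 1, σ a = a ↔ a ∈ φ.range) ∧ Function.Injective φ ∧
    Ideal.span (Set.range fun a : ArSing.ring k 1 => σ a - a) =
      Ideal.span {ArSing.y k 1 - ArSing.x k 1} ∧
    (ArSing.y k 1 - ArSing.x k 1) ∉ nonZeroDivisors (ArSing.ring k 1) ∧
    Ideal.span {ArSing.y k 1 - ArSing.x k 1} ∈ minimalPrimes (ArSing.ring k 1) ∧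
    ¬ φ.toRingHom.Flat :=
  ⟨swap_fixed k σ hx hy φ hφu hφv h2, swap_phi_injective k φ hφu hφv h2,
    swap_ideal k σ hx hy h2, t_not_nzd k, span_t_minimal k h2, swap_not_flat k φ hφu hφv h2⟩

end Swap

end Groth.Agent.Helper6.ArS
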