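import Mathlib
import Groth.Agent.Helper6.ArS6
import Groth.Agent.Helper8.PSInvol

set_option autoImplicit false
set_option linter.style.haveILetI false
set_option linter.unusedSectionVars false

namespace Groth.Agent.Helper6.ArS

universe u

variable (k : Type u) [Field k]

attribute [-instance] PowerSeries.algebraPowerSeries MvPowerSeries.algebraMvPowerSeries

/-! ### Extensionality for algebra maps out of `A_r` -/

theorem eps_algHom (r r' : ℕ) (ψ : ArSing.ring k r →ₐ[k] ArSing.ring k r') (a : ArSing.ring k r) :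
    eps k r' (ψ a) = eps k r a := by
  by_contra h
  have hu : IsUnit (a - algebraMap k _ (eps k r' (ψ a))) := by
    rw [isUnit_iff, map_sub, eps_algebraMap]
    intro h0
    exact h (sub_eq_zero.1 h0).symm
  have hu' := hu.map ψ
  rw [isUnit_iff, map_sub, AlgHom.commutes, map_sub, eps_algebraMap, sub_self] at hu'
  exact hu' rfl

theorem sq_mem_x_mul (r : ℕ) (z : ArSing.ring k r) (hz : eps k r z = 0) :
    ∃ c, z ^ 2 = ArSing.x k r * c := by
  rw [mem_ker_eps_iff, Ideal.mem_span_pair] at hz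
  obtain ⟨u, v, rfl⟩ := hz
  refine ⟨ArSing.x k r * u ^ 2 + 2 * ArSing.y k r * u * v + ArSing.x k r ^ r * v ^ 2, ?_⟩
  have := y_sq k r
  rw [pow_succ] at this
  linear_combination (v ^ 2) * this

theorem algHom_ext_A (r r' : ℕ) (ψ₁ ψ₂ : ArSing.ring k r →ₐ[k] ArSing.ring k r')
    (hx : ψ₁ (ArSing.x k r) = ψ₂ (ArSing.x k r)) (hy : ψ₁ (ArSing.y k r) = ψ₂ (ArSing.y k r)) :
    ψ₁ = ψ₂ := by
  have h : ψ₁.comp (ArSing.xMap k r) = ψ₂.comp (ArSing.xMap k r) := by
    apply algHom_ext
    · simp only [AlgHom.comp_apply, xMap_X, hx]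
    · simp only [AlgHom.comp_apply, xMap_X]
      apply sq_mem_x_mul
      rw [eps_algHom, eps_x]
  apply AlgHom.ext
  intro a
  obtain ⟨p, q, rfl⟩ := exists_repr k r a
  have hp := DFunLike.congr_fun h p
  have hq := DFunLike.congr_fun h q
  simp only [AlgHom.comp_apply] at hp hq
  rw [map_add, map_add, map_mul, map_mul, hp, hq, hy]

/-! ### Power series facts -/

theorem cc_algHom (φ : PowerSeries k →ₐ[k] PowerSeries k) (f : PowerSeries k) :
    PowerSeries.constantCoeff (φ f) = PowerSeries.constantCoeff f := by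
  obtain ⟨c, f', rfl⟩ := ps_split k f
  rw [map_add, map_mul, algHom_C, map_add, map_mul, Groth.Agent.Helper8.PSInvol.constantCoeff_algHom_X]
  simp

/-- `f(X) ↦ f(-X)` as an algebra automorphism. -/
noncomputable def NNa : PowerSeries k →ₐ[k] PowerSeries k :=
  { NN k with commutes' := fun c => NN_C k c }

theorem NNa_apply (f : PowerSeries k) : NNa k f = NN k f := rfl

theorem NN_NN (f : PowerSeries k) : NN k (NN k f) = f := by
  rw [PowerSeries.rescale_rescale]
  simp

/-- `f(X) ↦ f(-X)` as an algebra automorphism. -/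
noncomputable def NNe : PowerSeries k ≃ₐ[k] PowerSeries k :=
  AlgEquiv.ofAlgHom (NNa k) (NNa k)
    (by ext f : 1; exact NN_NN k f) (by ext f : 1; exact NN_NN k f)

theorem NNe_apply (f : PowerSeries k) : NNe k f = NN k f := rfl

theorem NNe_symm_apply (f : PowerSeries k) : (NNe k).symm f = NN k f := rfl

/-! ### The two branches of the node -/

section Node

variable (h2 : (2 : k) ≠ 0)

theorem eps_SMap (α : PowerSeries k) : eps k 1 (SMap k α) = PowerSeries.constantCoeff α := by
  obtain ⟨c, α', rfl⟩ := ps_split k α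
  rw [map_add, map_mul, SMap_X, SMap_C, map_add, map_mul, eps_s, zero_mul, zero_add,
    eps_algebraMap]
  simp

theorem eps_st_repr (α β : PowerSeries k) :
    eps k 1 (SMap k α + tEl k * TMap k β) = PowerSeries.constantCoeff α := by
  rw [map_add, map_mul, eps_t, zero_mul, add_zero, eps_SMap]

include h2 in
theorem exists_st_pair (a : ArSing.ring k 1) :
    ∃ αβ : PowerSeries k × PowerSeries k, a = SMap k αβ.1 + tEl k * TMap k αβ.2 := by
  obtain ⟨α, β, h⟩ := exists_st_repr k h2 a
  exact ⟨(α, β), h⟩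

/-- The coordinates `(α, β)` of `a = S α + t · T β`. -/
noncomputable def comps (a : ArSing.ring k 1) : PowerSeries k × PowerSeries k :=
  Classical.choose (exists_st_pair k h2 a)

theorem comps_spec (a : ArSing.ring k 1) :
    a = SMap k (comps k h2 a).1 + tEl k * TMap k (comps k h2 a).2 :=
  Classical.choose_spec (exists_st_pair k h2 a)

theorem comps_eq {a : ArSing.ring k 1} {α β : PowerSeries k}
    (h : a = SMap k α + tEl k * TMap k β) : comps k h2 a = (α, β) := by
  obtain ⟨e1, e2⟩ := st_repr_unique k h2 (h.symm.trans (comps_spec k h2 a))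
  exact Prod.ext e1.symm e2.symm

/-- Projection to the branch `t = 0`. -/
noncomputable def pi1 : ArSing.ring k 1 →ₐ[k] PowerSeries k where
  toFun a := (comps k h2 a).1
  map_one' := by
    show (comps k h2 1).1 = 1
    rw [comps_eq k h2 (α := 1) (β := 0) (by simp)]
  map_mul' a b := by
    show (comps k h2 (a * b)).1 = (comps k h2 a).1 * (comps k h2 b).1
    obtain ⟨α, β, rfl⟩ := exists_st_repr k h2 a
    obtain ⟨α', β', rfl⟩ := exists_st_repr k h2 b
    rw [comps_eq k h2 (st_mul_repr k α β α' β'), comps_eq k h2 rfl, comps_eq k h2 rfl]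
  map_zero' := by
    show (comps k h2 0).1 = 0
    rw [comps_eq k h2 (α := 0) (β := 0) (by simp)]
  map_add' a b := by
    show (comps k h2 (a + b)).1 = (comps k h2 a).1 + (comps k h2 b).1
    obtain ⟨α, β, rfl⟩ := exists_st_repr k h2 a
    obtain ⟨α', β', rfl⟩ := exists_st_repr k h2 b
    have : (SMap k α + tEl k * TMap k β) + (SMap k α' + tEl k * TMap k β') =
        SMap k (α + α') + tEl k * TMap k (β + β') := by
      rw [map_add, map_add]
      ring
    rw [comps_eq k h2 this, comps_eq k h2 rfl, comps_eq k h2 rfl]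
  commutes' c := by
    show (comps k h2 (algebraMap k _ c)).1 = algebraMap k _ c
    have : algebraMap k (ArSing.ring k 1) c = SMap k (PowerSeries.C c) + tEl k * TMap k 0 := by
      rw [SMap_C, map_zero, mul_zero, add_zero]
    rw [comps_eq k h2 this]
    rfl

/-- Projection to the branch `s = 0`. -/
noncomputable def pi2 : ArSing.ring k 1 →ₐ[k] PowerSeries k where
  toFun a := PowerSeries.C (PowerSeries.constantCoeff (comps k h2 a).1) +
    PowerSeries.X * (comps k h2 a).2
  map_one' := by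
    show PowerSeries.C (PowerSeries.constantCoeff (comps k h2 1).1) +
      PowerSeries.X * (comps k h2 1).2 = 1
    rw [comps_eq k h2 (α := 1) (β := 0) (by simp)]
    simp
  map_mul' a b := by
    show PowerSeries.C (PowerSeries.constantCoeff (comps k h2 (a * b)).1) +
        PowerSeries.X * (comps k h2 (a * b)).2 =
      (PowerSeries.C (PowerSeries.constantCoeff (comps k h2 a).1) +
        PowerSeries.X * (comps k h2 a).2) *
      (PowerSeries.C (PowerSeries.constantCoeff (comps k h2 b).1) +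
        PowerSeries.X * (comps k h2 b).2)
    obtain ⟨α, β, rfl⟩ := exists_st_repr k h2 a
    obtain ⟨α', β', rfl⟩ := exists_st_repr k h2 b
    rw [comps_eq k h2 (st_mul_repr k α β α' β'), comps_eq k h2 rfl, comps_eq k h2 rfl]
    simp only [map_mul]
    ring
  map_zero' := by
    show PowerSeries.C (PowerSeries.constantCoeff (comps k h2 0).1) +
      PowerSeries.X * (comps k h2 0).2 = 0
    rw [comps_eq k h2 (α := 0) (β := 0) (by simp)]
    simp
  map_add' a b := by
    show PowerSeries.C (PowerSeries.constantCoeff (comps k h2 (a + b)).1) +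
        PowerSeries.X * (comps k h2 (a + b)).2 =
      (PowerSeries.C (PowerSeries.constantCoeff (comps k h2 a).1) +
        PowerSeries.X * (comps k h2 a).2) +
      (PowerSeries.C (PowerSeries.constantCoeff (comps k h2 b).1) +
        PowerSeries.X * (comps k h2 b).2)
    obtain ⟨α, β, rfl⟩ := exists_st_repr k h2 a
    obtain ⟨α', β', rfl⟩ := exists_st_repr k h2 b
    have : (SMap k α + tEl k * TMap k β) + (SMap k α' + tEl k * TMap k β') =
        SMap k (α + α') + tEl k * TMap k (β + β') := by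
      rw [map_add, map_add]
      ring
    rw [comps_eq k h2 this, comps_eq k h2 rfl, comps_eq k h2 rfl]
    simp only [map_add]
    ring
  commutes' c := by
    show PowerSeries.C (PowerSeries.constantCoeff (comps k h2 (algebraMap k _ c)).1) +
      PowerSeries.X * (comps k h2 (algebraMap k _ c)).2 = algebraMap k _ c
    have : algebraMap k (ArSing.ring k 1) c = SMap k (PowerSeries.C c) + tEl k * TMap k 0 := by
      rw [SMap_C, map_zero, mul_zero, add_zero]
    rw [comps_eq k h2 this]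
    simp

theorem pi1_repr (α β : PowerSeries k) : pi1 k h2 (SMap k α + tEl k * TMap k β) = α := by
  show (comps k h2 _).1 = α
  rw [comps_eq k h2 rfl]

theorem pi2_repr (α β : PowerSeries k) :
    pi2 k h2 (SMap k α + tEl k * TMap k β) =
      PowerSeries.C (PowerSeries.constantCoeff α) + PowerSeries.X * β := by
  show PowerSeries.C (PowerSeries.constantCoeff (comps k h2 _).1) +
    PowerSeries.X * (comps k h2 _).2 = _
  rw [comps_eq k h2 rfl]

theorem pi_ext {a b : ArSing.ring k 1} (e1 : pi1 k h2 a = pi1 k h2 b)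
    (e2 : pi2 k h2 a = pi2 k h2 b) : a = b := by
  obtain ⟨α, β, rfl⟩ := exists_st_repr k h2 a
  obtain ⟨α', β', rfl⟩ := exists_st_repr k h2 b
  rw [pi1_repr, pi1_repr] at e1
  rw [pi2_repr, pi2_repr, e1] at e2
  have : β = β' := mul_left_cancel₀ PowerSeries.X_ne_zero (add_left_cancel e2)
  rw [e1, this]

theorem cc_pi1 (a : ArSing.ring k 1) :
    PowerSeries.constantCoeff (pi1 k h2 a) = eps k 1 a := by
  obtain ⟨α, β, rfl⟩ := exists_st_repr k h2 a
  rw [pi1_repr, eps_st_repr]

theorem cc_pi2 (a : ArSing.ring k 1) :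
    PowerSeries.constantCoeff (pi2 k h2 a) = eps k 1 a := by
  obtain ⟨α, β, rfl⟩ := exists_st_repr k h2 a
  rw [pi2_repr, eps_st_repr]
  simp

theorem pi1_S (α : PowerSeries k) : pi1 k h2 (SMap k α) = α := by
  have := pi1_repr k h2 α 0
  rwa [map_zero, mul_zero, add_zero] at this

theorem pi2_S (α : PowerSeries k) :
    pi2 k h2 (SMap k α) = PowerSeries.C (PowerSeries.constantCoeff α) := by
  have := pi2_repr k h2 α 0
  rwa [map_zero, mul_zero, add_zero, mul_zero, add_zero] at this

theorem TMap_eq (β : PowerSeries k) : ∃ β', β = PowerSeries.X * β' +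
    PowerSeries.C (PowerSeries.constantCoeff β) ∧
    TMap k β = SMap k (PowerSeries.C (PowerSeries.constantCoeff β)) + tEl k * TMap k β' := by
  refine ⟨_, PowerSeries.eq_X_mul_shift_add_const β, ?_⟩
  conv_lhs => rw [PowerSeries.eq_X_mul_shift_add_const β]
  rw [map_add, map_mul, TMap_X, TMap_C, SMap_C]
  ring

theorem pi1_T (β : PowerSeries k) :
    pi1 k h2 (TMap k β) = PowerSeries.C (PowerSeries.constantCoeff β) := by
  obtain ⟨β', -, h⟩ := TMap_eq k β
  rw [h, pi1_repr]

theorem pi2_T (β : PowerSeries k) : pi2 k h2 (TMap k β) = β := by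
  obtain ⟨β', h1, h⟩ := TMap_eq k β
  rw [h, pi2_repr]
  conv_rhs => rw [h1]
  simp
  ring

theorem pi1_s : pi1 k h2 (sEl k) = PowerSeries.X := by
  rw [← SMap_X, pi1_S]

theorem pi2_s : pi2 k h2 (sEl k) = 0 := by
  rw [← SMap_X, pi2_S]
  simp

theorem pi1_t : pi1 k h2 (tEl k) = 0 := by
  rw [← TMap_X, pi1_T]
  simp

theorem pi2_t : pi2 k h2 (tEl k) = PowerSeries.X := by
  rw [← TMap_X, pi2_T]

include h2 in
theorem x_eq_st : ArSing.x k 1 = algebraMap k _ (2⁻¹ : k) * (sEl k - tEl k) := by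
  have H := half_mul_two k 1 h2
  unfold sEl tEl
  linear_combination (-(ArSing.x k 1)) * H

include h2 in
theorem y_eq_st : ArSing.y k 1 = algebraMap k _ (2⁻¹ : k) * (sEl k + tEl k) := by
  have H := half_mul_two k 1 h2
  unfold sEl tEl
  linear_combination (-(ArSing.y k 1)) * H

theorem pi1_x : pi1 k h2 (ArSing.x k 1) = PowerSeries.C (2⁻¹ : k) * PowerSeries.X := by
  conv_lhs => rw [x_eq_st k h2]
  rw [map_mul, AlgHom.commutes, map_sub, pi1_s, pi1_t, sub_zero]
  rfl

theorem pi2_x : pi2 k h2 (ArSing.x k 1) = -(PowerSeries.C (2⁻¹ : k) * PowerSeries.X) := by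
  conv_lhs => rw [x_eq_st k h2]
  rw [map_mul, AlgHom.commutes, map_sub, pi2_s, pi2_t, zero_sub, mul_neg]
  rfl

theorem pi1_y : pi1 k h2 (ArSing.y k 1) = PowerSeries.C (2⁻¹ : k) * PowerSeries.X := by
  conv_lhs => rw [y_eq_st k h2]
  rw [map_mul, AlgHom.commutes, map_add, pi1_s, pi1_t, add_zero]
  rfl

theorem pi2_y : pi2 k h2 (ArSing.y k 1) = PowerSeries.C (2⁻¹ : k) * PowerSeries.X := by
  conv_lhs => rw [y_eq_st k h2]
  rw [map_mul, AlgHom.commutes, map_add, pi2_s, pi2_t, zero_add]
  rfl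

/-- Glue an element from its two branch components. -/
noncomputable def glue (α β : PowerSeries k) : ArSing.ring k 1 :=
  SMap k α + TMap k β - algebraMap k _ (PowerSeries.constantCoeff β)

theorem pi1_glue (α β : PowerSeries k) : pi1 k h2 (glue k α β) = α := by
  unfold glue
  rw [map_sub, map_add, pi1_S, pi1_T, AlgHom.commutes]
  have : algebraMap k (PowerSeries k) (PowerSeries.constantCoeff β) =
      PowerSeries.C (PowerSeries.constantCoeff β) := rfl
  rw [this]
  ring

theorem pi2_glue (α β : PowerSeries k)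
    (h : PowerSeries.constantCoeff α = PowerSeries.constantCoeff β) :
    pi2 k h2 (glue k α β) = β := by
  unfold glue
  rw [map_sub, map_add, pi2_S, pi2_T, AlgHom.commutes, h]
  have : algebraMap k (PowerSeries k) (PowerSeries.constantCoeff β) =
      PowerSeries.C (PowerSeries.constantCoeff β) := rfl
  rw [this]
  ring

theorem cc_projHom (ρ : ArSing.ring k 1 →ₐ[k] PowerSeries k) (a : ArSing.ring k 1) :
    PowerSeries.constantCoeff (ρ a) = eps k 1 a := by
  rw [← eps_SMap k (ρ a)]
  show eps k 1 (((SMap k).comp ρ) a) = _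
  rw [eps_algHom]

/-- A pair of algebra maps on the branches, possibly crossing, gives an algebra endomorphism. -/
noncomputable def genHom (ρ₁ ρ₂ : ArSing.ring k 1 →ₐ[k] PowerSeries k) :
    ArSing.ring k 1 →ₐ[k] ArSing.ring k 1 :=
  have hcc : ∀ a, PowerSeries.constantCoeff (ρ₁ a) = PowerSeries.constantCoeff (ρ₂ a) := by
    intro a
    rw [cc_projHom, cc_projHom]
  have p1 : ∀ a, pi1 k h2 (glue k (ρ₁ a) (ρ₂ a)) = ρ₁ a := fun a => pi1_glue k h2 _ _
  have p2 : ∀ a, pi2 k h2 (glue k (ρ₁ a) (ρ₂ a)) = ρ₂ a := fun a => pi2_glue k h2 _ _ (hcc a)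
  { toFun := fun a => glue k (ρ₁ a) (ρ₂ a)
    map_one' := by
      apply pi_ext k h2
      · rw [p1, map_one, map_one]
      · rw [p2, map_one, map_one]
    map_mul' := by
      intro a b
      apply pi_ext k h2
      · rw [p1, map_mul, map_mul, p1, p1]
      · rw [p2, map_mul, map_mul, p2, p2]
    map_zero' := by
      apply pi_ext k h2
      · rw [p1, map_zero, map_zero]
      · rw [p2, map_zero, map_zero]
    map_add' := by
      intro a b
      apply pi_ext k h2
      · rw [p1, map_add, map_add, p1, p1]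
      · rw [p2, map_add, map_add, p2, p2]
    commutes' := by
      intro c
      apply pi_ext k h2
      · rw [p1, AlgHom.commutes, AlgHom.commutes]
      · rw [p2, AlgHom.commutes, AlgHom.commutes] }

theorem pi1_genHom (ρ₁ ρ₂ : ArSing.ring k 1 →ₐ[k] PowerSeries k) (a : ArSing.ring k 1) :
    pi1 k h2 (genHom k h2 ρ₁ ρ₂ a) = ρ₁ a := pi1_glue k h2 _ _

theorem pi2_genHom (ρ₁ ρ₂ : ArSing.ring k 1 →ₐ[k] PowerSeries k) (a : ArSing.ring k 1) :
    pi2 k h2 (genHom k h2 ρ₁ ρ₂ a) = ρ₂ a :=
  pi2_glue k h2 _ _ (by rw [cc_projHom, cc_projHom])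

/-- A pair of automorphisms of the branches gives an automorphism of the node. -/
noncomputable def pairEquiv (φ₁ φ₂ : PowerSeries k ≃ₐ[k] PowerSeries k) :
    ArSing.ring k 1 ≃ₐ[k] ArSing.ring k 1 :=
  AlgEquiv.ofAlgHom
    (genHom k h2 ((φ₁ : PowerSeries k →ₐ[k] PowerSeries k).comp (pi1 k h2))
      ((φ₂ : PowerSeries k →ₐ[k] PowerSeries k).comp (pi2 k h2)))
    (genHom k h2 ((φ₁.symm : PowerSeries k →ₐ[k] PowerSeries k).comp (pi1 k h2))
      ((φ₂.symm : PowerSeries k →ₐ[k] PowerSeries k).comp (pi2 k h2)))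
    (by
      apply AlgHom.ext
      intro a
      apply pi_ext k h2
      · simp only [AlgHom.comp_apply, pi1_genHom, AlgEquiv.coe_toAlgHom, AlgHom.id_apply,
          AlgEquiv.apply_symm_apply]
      · simp only [AlgHom.comp_apply, pi2_genHom, AlgEquiv.coe_toAlgHom, AlgHom.id_apply,
          AlgEquiv.apply_symm_apply])
    (by
      apply AlgHom.ext
      intro a
      apply pi_ext k h2
      · simp only [AlgHom.comp_apply, pi1_genHom, AlgEquiv.coe_toAlgHom, AlgHom.id_apply,
          AlgEquiv.symm_apply_apply]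
      · simp only [AlgHom.comp_apply, pi2_genHom, AlgEquiv.coe_toAlgHom, AlgHom.id_apply,
          AlgEquiv.symm_apply_apply])

theorem pi1_pairEquiv (φ₁ φ₂ : PowerSeries k ≃ₐ[k] PowerSeries k) (a : ArSing.ring k 1) :
    pi1 k h2 (pairEquiv k h2 φ₁ φ₂ a) = φ₁ (pi1 k h2 a) := by
  show pi1 k h2 (genHom k h2 _ _ a) = _
  rw [pi1_genHom]
  rfl

theorem pi2_pairEquiv (φ₁ φ₂ : PowerSeries k ≃ₐ[k] PowerSeries k) (a : ArSing.ring k 1) :
    pi2 k h2 (pairEquiv k h2 φ₁ φ₂ a) = φ₂ (pi2 k h2 a) := by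
  show pi2 k h2 (genHom k h2 _ _ a) = _
  rw [pi2_genHom]
  rfl

theorem pi1_pairEquiv_symm (φ₁ φ₂ : PowerSeries k ≃ₐ[k] PowerSeries k) (a : ArSing.ring k 1) :
    pi1 k h2 ((pairEquiv k h2 φ₁ φ₂).symm a) = φ₁.symm (pi1 k h2 a) := by
  show pi1 k h2 (genHom k h2 _ _ a) = _
  rw [pi1_genHom]
  rfl

theorem pi2_pairEquiv_symm (φ₁ φ₂ : PowerSeries k ≃ₐ[k] PowerSeries k) (a : ArSing.ring k 1) :
    pi2 k h2 ((pairEquiv k h2 φ₁ φ₂).symm a) = φ₂.symm (pi2 k h2 a) := by
  show pi2 k h2 (genHom k h2 _ _ a) = _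
  rw [pi2_genHom]
  rfl

/-- The automorphism exchanging the two branches. -/
noncomputable def swapEquiv : ArSing.ring k 1 ≃ₐ[k] ArSing.ring k 1 :=
  AlgEquiv.ofAlgHom (genHom k h2 (pi2 k h2) (pi1 k h2)) (genHom k h2 (pi2 k h2) (pi1 k h2))
    (by
      apply AlgHom.ext
      intro a
      apply pi_ext k h2
      · simp only [AlgHom.comp_apply, pi1_genHom, pi2_genHom, AlgHom.id_apply]
      · simp only [AlgHom.comp_apply, pi1_genHom, pi2_genHom, AlgHom.id_apply])
    (by
      apply AlgHom.ext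
      intro a
      apply pi_ext k h2
      · simp only [AlgHom.comp_apply, pi1_genHom, pi2_genHom, AlgHom.id_apply]
      · simp only [AlgHom.comp_apply, pi1_genHom, pi2_genHom, AlgHom.id_apply])

theorem pi1_swapEquiv (a : ArSing.ring k 1) :
    pi1 k h2 (swapEquiv k h2 a) = pi2 k h2 a := pi1_genHom k h2 _ _ a

theorem pi2_swapEquiv (a : ArSing.ring k 1) :
    pi2 k h2 (swapEquiv k h2 a) = pi1 k h2 a := pi2_genHom k h2 _ _ a

theorem pi1_swapEquiv_symm (a : ArSing.ring k 1) :
    pi1 k h2 ((swapEquiv k h2).symm a) = pi2 k h2 a := pi1_genHom k h2 _ _ a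

theorem pi2_swapEquiv_symm (a : ArSing.ring k 1) :
    pi2 k h2 ((swapEquiv k h2).symm a) = pi1 k h2 a := pi2_genHom k h2 _ _ a

include h2 in
theorem algHom_ext_st (r' : ℕ) (ψ₁ ψ₂ : ArSing.ring k 1 →ₐ[k] ArSing.ring k r')
    (hs : ψ₁ (sEl k) = ψ₂ (sEl k)) (ht : ψ₁ (tEl k) = ψ₂ (tEl k)) : ψ₁ = ψ₂ := by
  apply algHom_ext_A
  · rw [x_eq_st k h2, map_mul, map_mul, map_sub, map_sub, hs, ht, AlgHom.commutes,
      AlgHom.commutes]
  · rw [y_eq_st k h2, map_mul, map_mul, map_add, map_add, hs, ht, AlgHom.commutes,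
      AlgHom.commutes]

include h2 in
theorem projHom_ext (ρ₁ ρ₂ : ArSing.ring k 1 →ₐ[k] PowerSeries k)
    (hs : ρ₁ (sEl k) = ρ₂ (sEl k)) (ht : ρ₁ (tEl k) = ρ₂ (tEl k)) : ρ₁ = ρ₂ := by
  have h : (SMap k).comp ρ₁ = (SMap k).comp ρ₂ :=
    algHom_ext_st k h2 1 _ _ (by simp only [AlgHom.comp_apply, hs])
      (by simp only [AlgHom.comp_apply, ht])
  apply AlgHom.ext
  intro a
  have := DFunLike.congr_fun h a
  simp only [AlgHom.comp_apply] at this
  have h' := congrArg (pi1 k h2) this
  rwa [pi1_S, pi1_S] at h'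

end Node

end Groth.Agent.Helper6.ArS
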