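import Mathlib
import Groth.Agent.Helper6.ArS7

set_option autoImplicit false
set_option linter.style.haveILetI false
set_option linter.unusedSectionVars false

namespace Groth.Agent.Helper6.ArS

universe u

variable (k : Type u) [Field k]

attribute [-instance] PowerSeries.algebraPowerSeries MvPowerSeries.algebraMvPowerSeries

theorem rescale_half_X (c : k) :
    PowerSeries.rescale c (PowerSeries.C (2⁻¹ : k) * PowerSeries.X) =
      PowerSeries.C c * (PowerSeries.C (2⁻¹ : k) * PowerSeries.X) := by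
  rw [map_mul, rescale_C, PowerSeries.rescale_X]
  ring

theorem NN_half_X :
    NN k (PowerSeries.C (2⁻¹ : k) * PowerSeries.X) =
      -(PowerSeries.C (2⁻¹ : k) * PowerSeries.X) := by
  rw [map_mul, NN_C, NN_X]
  ring

section Invol

variable (h2 : (2 : k) ≠ 0) (σ : ArSing.ring k 1 ≃ₐ[k] ArSing.ring k 1)
  (hσ : ∀ a, σ (σ a) = a)

include hσ in
theorem node_case_split :
    (pi2 k h2 (σ (sEl k)) = 0 ∧ pi1 k h2 (σ (tEl k)) = 0) ∨
    (pi1 k h2 (σ (sEl k)) = 0 ∧ pi2 k h2 (σ (tEl k)) = 0) := by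
  have hprod : σ (sEl k) * σ (tEl k) = 0 := by rw [← map_mul, st_zero, map_zero]
  have h1 : pi1 k h2 (σ (sEl k)) * pi1 k h2 (σ (tEl k)) = 0 := by
    rw [← map_mul, hprod, map_zero]
  have h2' : pi2 k h2 (σ (sEl k)) * pi2 k h2 (σ (tEl k)) = 0 := by
    rw [← map_mul, hprod, map_zero]
  have hs : σ (sEl k) ≠ 0 := by
    intro h
    apply s_ne_zero k
    rw [← hσ (sEl k), h, map_zero]
  have ht : σ (tEl k) ≠ 0 := by
    intro h
    apply t_ne_zero k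
    rw [← hσ (tEl k), h, map_zero]
  have hs' : ¬ (pi1 k h2 (σ (sEl k)) = 0 ∧ pi2 k h2 (σ (sEl k)) = 0) := fun ⟨e1, e2⟩ =>
    hs (pi_ext k h2 (by rw [e1, map_zero]) (by rw [e2, map_zero]))
  have ht' : ¬ (pi1 k h2 (σ (tEl k)) = 0 ∧ pi2 k h2 (σ (tEl k)) = 0) := fun ⟨e1, e2⟩ =>
    ht (pi_ext k h2 (by rw [e1, map_zero]) (by rw [e2, map_zero]))
  rcases mul_eq_zero.1 h1 with a1 | b1 <;> rcases mul_eq_zero.1 h2' with a2 | b2
  · exact absurd ⟨a1, a2⟩ hs'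
  · right
    exact ⟨a1, b2⟩
  · left
    exact ⟨a2, b1⟩
  · exact absurd ⟨b1, b2⟩ ht'

include hσ in
theorem node_caseA (hne : σ ≠ AlgEquiv.refl) (hA1 : pi2 k h2 (σ (sEl k)) = 0)
    (hA2 : pi1 k h2 (σ (tEl k)) = 0) :
    ∃ φ : ArSing.ring k 1 ≃ₐ[k] ArSing.ring k 1,
      (φ.symm (σ (φ (ArSing.x k 1))) = -ArSing.x k 1 ∧
        φ.symm (σ (φ (ArSing.y k 1))) = -ArSing.y k 1) ∨
      (φ.symm (σ (φ (ArSing.x k 1))) = ArSing.y k 1 ∧
        φ.symm (σ (φ (ArSing.y k 1))) = ArSing.x k 1) := by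
  obtain ⟨F, hFdef⟩ : ∃ F : PowerSeries k →ₐ[k] PowerSeries k,
      F = (pi1 k h2).comp ((σ : ArSing.ring k 1 →ₐ[k] ArSing.ring k 1).comp (SMap k)) :=
    ⟨_, rfl⟩
  obtain ⟨G, hGdef⟩ : ∃ G : PowerSeries k →ₐ[k] PowerSeries k,
      G = (pi2 k h2).comp ((σ : ArSing.ring k 1 →ₐ[k] ArSing.ring k 1).comp (TMap k)) :=
    ⟨_, rfl⟩
  have hF1 : ∀ a, pi1 k h2 (σ a) = F (pi1 k h2 a) := by
    have : (pi1 k h2).comp (σ : ArSing.ring k 1 →ₐ[k] ArSing.ring k 1) =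
        F.comp (pi1 k h2) := by
      apply projHom_ext k h2
      · simp only [AlgHom.comp_apply, AlgEquiv.coe_toAlgHom, pi1_s, hFdef, SMap_X]
      · simp only [AlgHom.comp_apply, AlgEquiv.coe_toAlgHom, pi1_t, hA2, map_zero]
    intro a
    exact DFunLike.congr_fun this a
  have hG1 : ∀ a, pi2 k h2 (σ a) = G (pi2 k h2 a) := by
    have : (pi2 k h2).comp (σ : ArSing.ring k 1 →ₐ[k] ArSing.ring k 1) =
        G.comp (pi2 k h2) := by
      apply projHom_ext k h2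
      · simp only [AlgHom.comp_apply, AlgEquiv.coe_toAlgHom, pi2_s, hA1, map_zero]
      · simp only [AlgHom.comp_apply, AlgEquiv.coe_toAlgHom, pi2_t, hGdef, TMap_X]
    intro a
    exact DFunLike.congr_fun this a
  have hFF : ∀ f, F (F f) = f := by
    intro f
    have e : F (F (pi1 k h2 (SMap k f))) = pi1 k h2 (SMap k f) := by
      rw [← hF1, ← hF1, hσ]
    rwa [pi1_S] at e
  have hGG : ∀ f, G (G f) = f := by
    intro f
    have e : G (G (pi2 k h2 (TMap k f))) = pi2 k h2 (TMap k f) := by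
      rw [← hG1, ← hG1, hσ]
    rwa [pi2_T] at e
  obtain ⟨Fe, hFe⟩ : ∃ Fe : PowerSeries k ≃ₐ[k] PowerSeries k, ∀ f, Fe f = F f :=
    ⟨AlgEquiv.ofAlgHom F F (AlgHom.ext hFF) (AlgHom.ext hFF), fun f => rfl⟩
  obtain ⟨Ge, hGe⟩ : ∃ Ge : PowerSeries k ≃ₐ[k] PowerSeries k, ∀ f, Ge f = G f :=
    ⟨AlgEquiv.ofAlgHom G G (AlgHom.ext hGG) (AlgHom.ext hGG), fun f => rfl⟩
  obtain ⟨hc1, φ₁, -, hφ₁⟩ := Groth.Agent.Helper8.PSInvol.main h2 Fe
    (fun f => by rw [hFe, hFe, hFF])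
  obtain ⟨hc2, φ₂, -, hφ₂⟩ := Groth.Agent.Helper8.PSInvol.main h2 Ge
    (fun f => by rw [hGe, hGe, hGG])
  obtain ⟨c₁, hc₁def⟩ : ∃ c₁, c₁ = PowerSeries.coeff 1 (Fe PowerSeries.X) := ⟨_, rfl⟩
  obtain ⟨c₂, hc₂def⟩ : ∃ c₂, c₂ = PowerSeries.coeff 1 (Ge PowerSeries.X) := ⟨_, rfl⟩
  rw [← hc₁def] at hc1 hφ₁
  rw [← hc₂def] at hc2 hφ₂
  obtain ⟨Φ, hΦdef⟩ : ∃ Φ, Φ = pairEquiv k h2 φ₁ φ₂ := ⟨_, rfl⟩
  have hθ1 : ∀ a, pi1 k h2 (Φ.symm (σ (Φ a))) = PowerSeries.rescale c₁ (pi1 k h2 a) := by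
    intro a
    rw [hΦdef, pi1_pairEquiv_symm, hF1, pi1_pairEquiv, ← hFe]
    exact hφ₁ _
  have hθ2 : ∀ a, pi2 k h2 (Φ.symm (σ (Φ a))) = PowerSeries.rescale c₂ (pi2 k h2 a) := by
    intro a
    rw [hΦdef, pi2_pairEquiv_symm, hG1, pi2_pairEquiv, ← hGe]
    exact hφ₂ _
  have hc1' : c₁ = 1 ∨ c₁ = -1 := mul_self_eq_one_iff.1 (by rw [← pow_two]; exact hc1)
  have hc2' : c₂ = 1 ∨ c₂ = -1 := mul_self_eq_one_iff.1 (by rw [← pow_two]; exact hc2)
  rcases hc1' with e1 | e1 <;> rcases hc2' with e2 | e2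
  · -- (1, 1): σ is the identity
    exfalso
    apply hne
    have hx : Φ.symm (σ (Φ (ArSing.x k 1))) = ArSing.x k 1 := by
      apply pi_ext k h2
      · rw [hθ1, pi1_x, rescale_half_X, e1, map_one, one_mul]
      · rw [hθ2, pi2_x, map_neg, rescale_half_X, e2, map_one, one_mul]
    have hy : Φ.symm (σ (Φ (ArSing.y k 1))) = ArSing.y k 1 := by
      apply pi_ext k h2
      · rw [hθ1, pi1_y, rescale_half_X, e1, map_one, one_mul]
      · rw [hθ2, pi2_y, rescale_half_X, e2, map_one, one_mul]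
    have hcomp : (σ : ArSing.ring k 1 →ₐ[k] ArSing.ring k 1).comp
        (Φ : ArSing.ring k 1 →ₐ[k] ArSing.ring k 1) =
        (Φ : ArSing.ring k 1 →ₐ[k] ArSing.ring k 1) := by
      apply algHom_ext_A
      · simp only [AlgHom.comp_apply, AlgEquiv.coe_toAlgHom]
        have := congrArg Φ hx
        rwa [AlgEquiv.apply_symm_apply] at this
      · simp only [AlgHom.comp_apply, AlgEquiv.coe_toAlgHom]
        have := congrArg Φ hy
        rwa [AlgEquiv.apply_symm_apply] at this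
    apply AlgEquiv.ext
    intro b
    have := DFunLike.congr_fun hcomp (Φ.symm b)
    simp only [AlgHom.comp_apply, AlgEquiv.coe_toAlgHom, AlgEquiv.apply_symm_apply] at this
    exact this
  · -- (1, -1): the swap
    refine ⟨Φ, Or.inr ⟨?_, ?_⟩⟩
    · apply pi_ext k h2
      · rw [hθ1, pi1_x, pi1_y, rescale_half_X, e1, map_one, one_mul]
      · rw [hθ2, pi2_x, pi2_y, map_neg, rescale_half_X, e2, map_neg, map_one]
        ring
    · apply pi_ext k h2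
      · rw [hθ1, pi1_x, pi1_y, rescale_half_X, e1, map_one, one_mul]
      · rw [hθ2, pi2_x, pi2_y, rescale_half_X, e2, map_neg, map_one]
        ring
  · -- (-1, 1): the swap after exchanging the branches
    refine ⟨(swapEquiv k h2).trans Φ, Or.inr ⟨?_, ?_⟩⟩
    · rw [AlgEquiv.trans_apply, AlgEquiv.symm_trans_apply]
      apply pi_ext k h2
      · rw [pi1_swapEquiv_symm, hθ2, pi2_swapEquiv, pi1_x, pi1_y, rescale_half_X, e2, map_one,
          one_mul]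
      · rw [pi2_swapEquiv_symm, hθ1, pi1_swapEquiv, pi2_x, pi2_y, map_neg, rescale_half_X, e1,
          map_neg, map_one]
        ring
    · rw [AlgEquiv.trans_apply, AlgEquiv.symm_trans_apply]
      apply pi_ext k h2
      · rw [pi1_swapEquiv_symm, hθ2, pi2_swapEquiv, pi1_x, pi1_y, rescale_half_X, e2, map_one,
          one_mul]
      · rw [pi2_swapEquiv_symm, hθ1, pi1_swapEquiv, pi2_x, pi2_y, rescale_half_X, e1,
          map_neg, map_one]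
        ring
  · -- (-1, -1)
    refine ⟨Φ, Or.inl ⟨?_, ?_⟩⟩
    · apply pi_ext k h2
      · rw [hθ1, map_neg, pi1_x, rescale_half_X, e1, map_neg, map_one]
        ring
      · rw [hθ2, map_neg, pi2_x, map_neg, rescale_half_X, e2, map_neg, map_one]
        ring
    · apply pi_ext k h2
      · rw [hθ1, map_neg, pi1_y, rescale_half_X, e1, map_neg, map_one]
        ring
      · rw [hθ2, map_neg, pi2_y, rescale_half_X, e2, map_neg, map_one]
        ring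

include hσ in
theorem node_caseB (hB1 : pi1 k h2 (σ (sEl k)) = 0) (hB2 : pi2 k h2 (σ (tEl k)) = 0) :
    ∃ φ : ArSing.ring k 1 ≃ₐ[k] ArSing.ring k 1,
      φ.symm (σ (φ (ArSing.x k 1))) = ArSing.x k 1 ∧
        φ.symm (σ (φ (ArSing.y k 1))) = -ArSing.y k 1 := by
  obtain ⟨F, hFdef⟩ : ∃ F : PowerSeries k →ₐ[k] PowerSeries k,
      F = (pi2 k h2).comp ((σ : ArSing.ring k 1 →ₐ[k] ArSing.ring k 1).comp (SMap k)) :=
    ⟨_, rfl⟩
  obtain ⟨G, hGdef⟩ : ∃ G : PowerSeries k →ₐ[k] PowerSeries k,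
      G = (pi1 k h2).comp ((σ : ArSing.ring k 1 →ₐ[k] ArSing.ring k 1).comp (TMap k)) :=
    ⟨_, rfl⟩
  have hF1 : ∀ a, pi2 k h2 (σ a) = F (pi1 k h2 a) := by
    have : (pi2 k h2).comp (σ : ArSing.ring k 1 →ₐ[k] ArSing.ring k 1) =
        F.comp (pi1 k h2) := by
      apply projHom_ext k h2
      · simp only [AlgHom.comp_apply, AlgEquiv.coe_toAlgHom, pi1_s, hFdef, SMap_X]
      · simp only [AlgHom.comp_apply, AlgEquiv.coe_toAlgHom, pi1_t, hB2, map_zero]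
    intro a
    exact DFunLike.congr_fun this a
  have hG1 : ∀ a, pi1 k h2 (σ a) = G (pi2 k h2 a) := by
    have : (pi1 k h2).comp (σ : ArSing.ring k 1 →ₐ[k] ArSing.ring k 1) =
        G.comp (pi2 k h2) := by
      apply projHom_ext k h2
      · simp only [AlgHom.comp_apply, AlgEquiv.coe_toAlgHom, pi2_s, hB1, map_zero]
      · simp only [AlgHom.comp_apply, AlgEquiv.coe_toAlgHom, pi2_t, hGdef, TMap_X]
    intro a
    exact DFunLike.congr_fun this a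
  have hGF : ∀ f, G (F f) = f := by
    intro f
    have e : G (F (pi1 k h2 (SMap k f))) = pi1 k h2 (SMap k f) := by
      rw [← hF1, ← hG1, hσ]
    rwa [pi1_S] at e
  have hFG : ∀ f, F (G f) = f := by
    intro f
    have e : F (G (pi2 k h2 (TMap k f))) = pi2 k h2 (TMap k f) := by
      rw [← hG1, ← hF1, hσ]
    rwa [pi2_T] at e
  obtain ⟨Fe, hFe, hFes⟩ : ∃ Fe : PowerSeries k ≃ₐ[k] PowerSeries k,
      (∀ f, Fe f = F f) ∧ ∀ f, Fe.symm f = G f :=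
    ⟨AlgEquiv.ofAlgHom F G (AlgHom.ext hFG) (AlgHom.ext hGF), fun f => rfl, fun f => rfl⟩
  obtain ⟨Φ, hΦdef⟩ : ∃ Φ, Φ = pairEquiv k h2 AlgEquiv.refl Fe := ⟨_, rfl⟩
  obtain ⟨κ, hκdef⟩ : ∃ κ, κ = pairEquiv k h2 AlgEquiv.refl (NNe k) := ⟨_, rfl⟩
  have hθ1 : ∀ a, pi1 k h2 (κ.symm (Φ.symm (σ (Φ (κ a))))) = NN k (pi2 k h2 a) := by
    intro a
    rw [hκdef, pi1_pairEquiv_symm, AlgEquiv.refl_symm, AlgEquiv.coe_refl, id, hΦdef,
      pi1_pairEquiv_symm, AlgEquiv.refl_symm, AlgEquiv.coe_refl, id, hG1, pi2_pairEquiv, hFe,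
      hGF, pi2_pairEquiv, NNe_apply]
  have hθ2 : ∀ a, pi2 k h2 (κ.symm (Φ.symm (σ (Φ (κ a))))) = NN k (pi1 k h2 a) := by
    intro a
    rw [hκdef, pi2_pairEquiv_symm, NNe_symm_apply, hΦdef, pi2_pairEquiv_symm, hFes, hF1,
      pi1_pairEquiv, AlgEquiv.coe_refl, id, hGF, pi1_pairEquiv, AlgEquiv.coe_refl, id]
  refine ⟨κ.trans Φ, ?_, ?_⟩
  · rw [AlgEquiv.trans_apply, AlgEquiv.symm_trans_apply]
    apply pi_ext k h2
    · rw [hθ1, pi2_x, pi1_x, map_neg, NN_half_X, neg_neg]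
    · rw [hθ2, pi1_x, pi2_x, NN_half_X]
  · rw [AlgEquiv.trans_apply, AlgEquiv.symm_trans_apply]
    apply pi_ext k h2
    · rw [hθ1, map_neg, pi2_y, pi1_y, NN_half_X]
    · rw [hθ2, map_neg, pi1_y, pi2_y, NN_half_X]

include h2 hσ in
theorem node_main (hne : σ ≠ AlgEquiv.refl) :
    ∃ φ : ArSing.ring k 1 ≃ₐ[k] ArSing.ring k 1,
      (φ.symm (σ (φ (ArSing.x k 1))) = ArSing.x k 1 ∧
        φ.symm (σ (φ (ArSing.y k 1))) = -ArSing.y k 1) ∨
      (φ.symm (σ (φ (ArSing.x k 1))) = -ArSing.x k 1 ∧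
        φ.symm (σ (φ (ArSing.y k 1))) = -ArSing.y k 1) ∨
      (φ.symm (σ (φ (ArSing.x k 1))) = ArSing.y k 1 ∧
        φ.symm (σ (φ (ArSing.y k 1))) = ArSing.x k 1) := by
  rcases node_case_split k h2 σ hσ with ⟨hA1, hA2⟩ | ⟨hB1, hB2⟩
  · obtain ⟨φ, h | h⟩ := node_caseA k h2 σ hσ hne hA1 hA2
    · exact ⟨φ, Or.inr (Or.inl h)⟩
    · exact ⟨φ, Or.inr (Or.inr h)⟩
  · obtain ⟨φ, h⟩ := node_caseB k h2 σ hσ hB1 hB2
    exact ⟨φ, Or.inl h⟩

end Invol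

end Groth.Agent.Helper6.ArS
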