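import Mathlib
import Groth.Agent.Helper6.ArS8

set_option autoImplicit false
set_option linter.style.haveILetI false
set_option linter.unusedSectionVars false

namespace Groth.Agent.Helper6.ArS

universe u

variable (k : Type u) [Field k] (r : ℕ)

attribute [-instance] PowerSeries.algebraPowerSeries MvPowerSeries.algebraMvPowerSeries

/-! ### Normal form coordinates -/

theorem exists_pq (a : ArSing.ring k r) :
    ∃ pq : PowerSeries k × PowerSeries k,
      a = ArSing.xMap k r pq.1 + ArSing.xMap k r pq.2 * ArSing.y k r := by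
  obtain ⟨p, q, h⟩ := exists_repr k r a
  exact ⟨(p, q), h⟩

/-- The coordinates `(p, q)` of `a = p(x) + q(x) y`. -/
noncomputable def pq (a : ArSing.ring k r) : PowerSeries k × PowerSeries k :=
  Classical.choose (exists_pq k r a)

theorem pq_spec (a : ArSing.ring k r) :
    a = ArSing.xMap k r (pq k r a).1 + ArSing.xMap k r (pq k r a).2 * ArSing.y k r :=
  Classical.choose_spec (exists_pq k r a)

theorem pq_eq {a : ArSing.ring k r} {p q : PowerSeries k}
    (h : a = ArSing.xMap k r p + ArSing.xMap k r q * ArSing.y k r) : pq k r a = (p, q) := by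
  obtain ⟨e1, e2⟩ := repr_unique k r (h.symm.trans (pq_spec k r a))
  exact Prod.ext e1.symm e2.symm

theorem pq_repr (p q : PowerSeries k) :
    pq k r (ArSing.xMap k r p + ArSing.xMap k r q * ArSing.y k r) = (p, q) := pq_eq k r rfl

theorem pq_one : pq k r 1 = (1, 0) := pq_eq k r (by simp)

theorem pq_zero : pq k r 0 = (0, 0) := pq_eq k r (by simp)

theorem pq_algebraMap (c : k) : pq k r (algebraMap k _ c) = (PowerSeries.C c, 0) :=
  pq_eq k r (by rw [xMap_C, map_zero, zero_mul, add_zero])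

theorem pq_add (a b : ArSing.ring k r) : pq k r (a + b) = pq k r a + pq k r b := by
  obtain ⟨p, q, rfl⟩ := exists_repr k r a
  obtain ⟨p', q', rfl⟩ := exists_repr k r b
  have : (ArSing.xMap k r p + ArSing.xMap k r q * ArSing.y k r) +
      (ArSing.xMap k r p' + ArSing.xMap k r q' * ArSing.y k r) =
      ArSing.xMap k r (p + p') + ArSing.xMap k r (q + q') * ArSing.y k r := by
    rw [map_add, map_add]
    ring
  rw [pq_eq k r this, pq_repr, pq_repr]
  rfl

theorem pq_mul (a b : ArSing.ring k r) :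
    pq k r (a * b) = ((pq k r a).1 * (pq k r b).1 +
        (pq k r a).2 * (pq k r b).2 * PowerSeries.X ^ (r + 1),
      (pq k r a).1 * (pq k r b).2 + (pq k r a).2 * (pq k r b).1) := by
  obtain ⟨p, q, rfl⟩ := exists_repr k r a
  obtain ⟨p', q', rfl⟩ := exists_repr k r b
  rw [pq_eq k r (mul_repr k r p q p' q'), pq_repr, pq_repr]

/-- Algebra maps `A_r → k[[t]]` are determined by the images of `x` and `y`. -/
theorem projHom_ext_xy (ρ₁ ρ₂ : ArSing.ring k r →ₐ[k] PowerSeries k)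
    (hx : ρ₁ (ArSing.x k r) = ρ₂ (ArSing.x k r)) (hy : ρ₁ (ArSing.y k r) = ρ₂ (ArSing.y k r)) :
    ρ₁ = ρ₂ := by
  have h : (ArSing.xMap k r).comp ρ₁ = (ArSing.xMap k r).comp ρ₂ :=
    algHom_ext_A k r r _ _ (by simp only [AlgHom.comp_apply, hx])
      (by simp only [AlgHom.comp_apply, hy])
  apply AlgHom.ext
  intro a
  have := DFunLike.congr_fun h a
  simp only [AlgHom.comp_apply] at this
  exact xMap_injective k r this

theorem cc_projHom_xy (ρ : ArSing.ring k r →ₐ[k] PowerSeries k) (a : ArSing.ring k r) :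
    PowerSeries.constantCoeff (ρ a) = eps k r a := by
  rw [← eps_xMap k r (ρ a)]
  show eps k r (((ArSing.xMap k r).comp ρ) a) = _
  rw [eps_algHom]

/-! ### Congruences of power series endomorphisms -/

theorem X_dvd_algHom_X (ψ : PowerSeries k →ₐ[k] PowerSeries k) :
    PowerSeries.X ∣ ψ PowerSeries.X :=
  PowerSeries.X_dvd_iff.2 (Groth.Agent.Helper8.PSInvol.constantCoeff_algHom_X ψ)

theorem X_pow_dvd_algHom (ψ : PowerSeries k →ₐ[k] PowerSeries k) (m : ℕ) (f : PowerSeries k)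
    (h : PowerSeries.X ^ m ∣ f) : PowerSeries.X ^ m ∣ ψ f := by
  obtain ⟨g, rfl⟩ := h
  rw [map_mul, map_pow]
  exact Dvd.dvd.mul_right (pow_dvd_pow_of_dvd (X_dvd_algHom_X k ψ) m) _

theorem X_pow_dvd_of_algEquiv (φ : PowerSeries k ≃ₐ[k] PowerSeries k) (m : ℕ) (f : PowerSeries k)
    (h : PowerSeries.X ^ m ∣ φ f) : PowerSeries.X ^ m ∣ f := by
  have := X_pow_dvd_algHom k (φ.symm : PowerSeries k →ₐ[k] PowerSeries k) m _ h
  simpa using this

theorem ps_congr (ψ₁ ψ₂ : PowerSeries k →ₐ[k] PowerSeries k) (m : ℕ)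
    (h : PowerSeries.X ^ m ∣ ψ₁ PowerSeries.X - ψ₂ PowerSeries.X) (f : PowerSeries k) :
    PowerSeries.X ^ m ∣ ψ₁ f - ψ₂ f := by
  have hpoly : ∀ P : Polynomial k, PowerSeries.X ^ m ∣
      ψ₁ (P : PowerSeries k) - ψ₂ (P : PowerSeries k) := by
    intro P
    induction P using Polynomial.induction_on' with
    | add p q hp hq =>
      rw [Polynomial.coe_add, map_add, map_add]
      have : ψ₁ (p : PowerSeries k) + ψ₁ (q : PowerSeries k) -
          (ψ₂ (p : PowerSeries k) + ψ₂ (q : PowerSeries k)) =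
          (ψ₁ (p : PowerSeries k) - ψ₂ (p : PowerSeries k)) +
          (ψ₁ (q : PowerSeries k) - ψ₂ (q : PowerSeries k)) := by ring
      rw [this]
      exact dvd_add hp hq
    | monomial n c =>
      rw [← Polynomial.C_mul_X_pow_eq_monomial, Polynomial.coe_mul, Polynomial.coe_C,
        Polynomial.coe_pow, Polynomial.coe_X, map_mul, map_mul, map_pow, map_pow, algHom_C,
        algHom_C, ← mul_sub]
      exact Dvd.dvd.mul_left (dvd_trans h (sub_dvd_pow_sub_pow _ _ n)) _
  have hdvd : (PowerSeries.X : PowerSeries k) ^ m ∣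
      f - (PowerSeries.trunc m f : PowerSeries k) := by
    rw [PowerSeries.X_pow_dvd_iff]
    intro j hj
    rw [map_sub, Polynomial.coeff_coe, PowerSeries.coeff_trunc, if_pos hj, sub_self]
  have h1 := X_pow_dvd_algHom k ψ₁ m _ hdvd
  have h2 := X_pow_dvd_algHom k ψ₂ m _ hdvd
  rw [map_sub] at h1 h2
  have : ψ₁ f - ψ₂ f = (ψ₁ f - ψ₁ (PowerSeries.trunc m f : PowerSeries k)) -
      (ψ₂ f - ψ₂ (PowerSeries.trunc m f : PowerSeries k)) +
      (ψ₁ (PowerSeries.trunc m f : PowerSeries k) -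
        ψ₂ (PowerSeries.trunc m f : PowerSeries k)) := by ring
  rw [this]
  exact dvd_add (dvd_sub h1 h2) (hpoly _)

theorem compat_of_X (φ₁ φ₂ : PowerSeries k ≃ₐ[k] PowerSeries k) (m : ℕ)
    (h : PowerSeries.X ^ m ∣ φ₁ PowerSeries.X - φ₂ PowerSeries.X) :
    (∀ f g, PowerSeries.X ^ m ∣ f - g → PowerSeries.X ^ m ∣ φ₁ f - φ₂ g) ∧
    (∀ f g, PowerSeries.X ^ m ∣ f - g → PowerSeries.X ^ m ∣ φ₁.symm f - φ₂.symm g) := by
  have key : ∀ (ψ₁ ψ₂ : PowerSeries k ≃ₐ[k] PowerSeries k),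
      PowerSeries.X ^ m ∣ ψ₁ PowerSeries.X - ψ₂ PowerSeries.X →
      ∀ f g, PowerSeries.X ^ m ∣ f - g → PowerSeries.X ^ m ∣ ψ₁ f - ψ₂ g := by
    intro ψ₁ ψ₂ hψ f g hfg
    have e : ψ₁ f - ψ₂ g = (ψ₁ f - ψ₂ f) + ψ₂ (f - g) := by
      rw [map_sub]
      ring
    rw [e]
    exact dvd_add (ps_congr k (ψ₁ : PowerSeries k →ₐ[k] PowerSeries k)
      (ψ₂ : PowerSeries k →ₐ[k] PowerSeries k) m hψ f)
      (X_pow_dvd_algHom k (ψ₂ : PowerSeries k →ₐ[k] PowerSeries k) m _ hfg)
  refine ⟨key φ₁ φ₂ h, key φ₁.symm φ₂.symm ?_⟩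
  apply X_pow_dvd_of_algEquiv k φ₁
  rw [map_sub, AlgEquiv.apply_symm_apply]
  have h' := ps_congr k (φ₂ : PowerSeries k →ₐ[k] PowerSeries k)
    (φ₁ : PowerSeries k →ₐ[k] PowerSeries k) m
    (by
      have : (φ₂ : PowerSeries k →ₐ[k] PowerSeries k) PowerSeries.X -
          (φ₁ : PowerSeries k →ₐ[k] PowerSeries k) PowerSeries.X =
          -(φ₁ PowerSeries.X - φ₂ PowerSeries.X) := by
        simp only [AlgEquiv.coe_toAlgHom]
        ring
      rw [this]
      exact (dvd_neg).2 h) (φ₂.symm PowerSeries.X)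
  simpa using h'

/-- `f(X) ↦ f(cX)` for `c^2 = 1`, as an algebra automorphism. -/
noncomputable def rescaleEquiv (c : k) (hc : c * c = 1) : PowerSeries k ≃ₐ[k] PowerSeries k :=
  AlgEquiv.ofAlgHom
    ({ PowerSeries.rescale c with commutes' := fun a => rescale_C k c a } :
      PowerSeries k →ₐ[k] PowerSeries k)
    ({ PowerSeries.rescale c with commutes' := fun a => rescale_C k c a } :
      PowerSeries k →ₐ[k] PowerSeries k)
    (by ext f : 1; exact rescale_inv k c c hc f) (by ext f : 1; exact rescale_inv k c c hc f)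

theorem rescaleEquiv_apply (c : k) (hc : c * c = 1) (f : PowerSeries k) :
    rescaleEquiv k c hc f = PowerSeries.rescale c f := rfl

theorem rescaleEquiv_symm_apply (c : k) (hc : c * c = 1) (f : PowerSeries k) :
    (rescaleEquiv k c hc).symm f = PowerSeries.rescale c f := rfl

/-! ### The two tangent branches for odd `r` -/

section Odd

variable (m : ℕ) (hrm : r + 1 = 2 * m) (h2 : (2 : k) ≠ 0)

include hrm in
theorem X_pow_r : (PowerSeries.X : PowerSeries k) ^ (r + 1) =
    PowerSeries.X ^ m * PowerSeries.X ^ m := by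
  rw [hrm, two_mul, pow_add]

/-- The branch `y = x^m`. -/
noncomputable def piP : ArSing.ring k r →ₐ[k] PowerSeries k where
  toFun a := (pq k r a).1 + PowerSeries.X ^ m * (pq k r a).2
  map_one' := by
    show (pq k r 1).1 + PowerSeries.X ^ m * (pq k r 1).2 = 1
    rw [pq_one]
    simp
  map_mul' a b := by
    show (pq k r (a * b)).1 + PowerSeries.X ^ m * (pq k r (a * b)).2 =
      ((pq k r a).1 + PowerSeries.X ^ m * (pq k r a).2) *
      ((pq k r b).1 + PowerSeries.X ^ m * (pq k r b).2)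
    rw [pq_mul, X_pow_r k r m hrm]
    ring
  map_zero' := by
    show (pq k r 0).1 + PowerSeries.X ^ m * (pq k r 0).2 = 0
    rw [pq_zero]
    simp
  map_add' a b := by
    show (pq k r (a + b)).1 + PowerSeries.X ^ m * (pq k r (a + b)).2 =
      ((pq k r a).1 + PowerSeries.X ^ m * (pq k r a).2) +
      ((pq k r b).1 + PowerSeries.X ^ m * (pq k r b).2)
    rw [pq_add]
    simp only [Prod.fst_add, Prod.snd_add]
    ring
  commutes' c := by
    show (pq k r (algebraMap k _ c)).1 + PowerSeries.X ^ m * (pq k r (algebraMap k _ c)).2 =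
      algebraMap k _ c
    rw [pq_algebraMap]
    simp

/-- The branch `y = -x^m`. -/
noncomputable def piM : ArSing.ring k r →ₐ[k] PowerSeries k where
  toFun a := (pq k r a).1 - PowerSeries.X ^ m * (pq k r a).2
  map_one' := by
    show (pq k r 1).1 - PowerSeries.X ^ m * (pq k r 1).2 = 1
    rw [pq_one]
    simp
  map_mul' a b := by
    show (pq k r (a * b)).1 - PowerSeries.X ^ m * (pq k r (a * b)).2 =
      ((pq k r a).1 - PowerSeries.X ^ m * (pq k r a).2) *
      ((pq k r b).1 - PowerSeries.X ^ m * (pq k r b).2)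
    rw [pq_mul, X_pow_r k r m hrm]
    ring
  map_zero' := by
    show (pq k r 0).1 - PowerSeries.X ^ m * (pq k r 0).2 = 0
    rw [pq_zero]
    simp
  map_add' a b := by
    show (pq k r (a + b)).1 - PowerSeries.X ^ m * (pq k r (a + b)).2 =
      ((pq k r a).1 - PowerSeries.X ^ m * (pq k r a).2) +
      ((pq k r b).1 - PowerSeries.X ^ m * (pq k r b).2)
    rw [pq_add]
    simp only [Prod.fst_add, Prod.snd_add]
    ring
  commutes' c := by
    show (pq k r (algebraMap k _ c)).1 - PowerSeries.X ^ m * (pq k r (algebraMap k _ c)).2 =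
      algebraMap k _ c
    rw [pq_algebraMap]
    simp

theorem piP_repr (p q : PowerSeries k) :
    piP k r m hrm (ArSing.xMap k r p + ArSing.xMap k r q * ArSing.y k r) =
      p + PowerSeries.X ^ m * q := by
  show (pq k r _).1 + PowerSeries.X ^ m * (pq k r _).2 = _
  rw [pq_repr]

theorem piM_repr (p q : PowerSeries k) :
    piM k r m hrm (ArSing.xMap k r p + ArSing.xMap k r q * ArSing.y k r) =
      p - PowerSeries.X ^ m * q := by
  show (pq k r _).1 - PowerSeries.X ^ m * (pq k r _).2 = _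
  rw [pq_repr]

theorem piP_xMap (f : PowerSeries k) : piP k r m hrm (ArSing.xMap k r f) = f := by
  have := piP_repr k r m hrm f 0
  rwa [map_zero, zero_mul, add_zero, mul_zero, add_zero] at this

theorem piM_xMap (f : PowerSeries k) : piM k r m hrm (ArSing.xMap k r f) = f := by
  have := piM_repr k r m hrm f 0
  rwa [map_zero, zero_mul, add_zero, mul_zero, sub_zero] at this

theorem piP_x : piP k r m hrm (ArSing.x k r) = PowerSeries.X := by
  rw [← xMap_X, piP_xMap]

theorem piM_x : piM k r m hrm (ArSing.x k r) = PowerSeries.X := by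
  rw [← xMap_X, piM_xMap]

theorem piP_y : piP k r m hrm (ArSing.y k r) = PowerSeries.X ^ m := by
  have := piP_repr k r m hrm 0 1
  rwa [map_zero, zero_add, map_one, one_mul, mul_one, zero_add] at this

theorem piM_y : piM k r m hrm (ArSing.y k r) = -PowerSeries.X ^ m := by
  have := piM_repr k r m hrm 0 1
  rwa [map_zero, zero_add, map_one, one_mul, mul_one, zero_sub] at this

include h2 in
theorem piPM_ext {a b : ArSing.ring k r} (e1 : piP k r m hrm a = piP k r m hrm b)
    (e2 : piM k r m hrm a = piM k r m hrm b) : a = b := by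
  obtain ⟨p, q, rfl⟩ := exists_repr k r a
  obtain ⟨p', q', rfl⟩ := exists_repr k r b
  rw [piP_repr, piP_repr] at e1
  rw [piM_repr, piM_repr] at e2
  have h2' := two_ne_zero_ps k h2
  have hp : p = p' := by
    have : (2 : PowerSeries k) * p = 2 * p' := by linear_combination e1 + e2
    exact mul_left_cancel₀ h2' this
  have hq : q = q' := by
    have : (2 : PowerSeries k) * (PowerSeries.X ^ m * q) = 2 * (PowerSeries.X ^ m * q') := by
      linear_combination e1 - e2
    exact mul_left_cancel₀ (pow_ne_zero m PowerSeries.X_ne_zero) (mul_left_cancel₀ h2' this)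
  rw [hp, hq]

theorem piPM_compat (a : ArSing.ring k r) :
    PowerSeries.X ^ m ∣ piP k r m hrm a - piM k r m hrm a := by
  obtain ⟨p, q, rfl⟩ := exists_repr k r a
  rw [piP_repr, piM_repr]
  exact ⟨2 * q, by ring⟩

open Classical in
/-- Glue an element from its two branch components. -/
noncomputable def gluePM (f g : PowerSeries k) : ArSing.ring k r :=
  if h : PowerSeries.X ^ m ∣ f - g then
    ArSing.xMap k r (PowerSeries.C (2⁻¹ : k) * (f + g)) +
      ArSing.xMap k r (PowerSeries.C (2⁻¹ : k) * Classical.choose h) * ArSing.y k r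
  else 0

include h2 in
theorem piP_gluePM (f g : PowerSeries k) (h : PowerSeries.X ^ m ∣ f - g) :
    piP k r m hrm (gluePM k r m f g) = f := by
  have hs := Classical.choose_spec h
  unfold gluePM
  rw [dif_pos h, piP_repr]
  have hC : (PowerSeries.C (2⁻¹ : k) : PowerSeries k) * 2 = 1 := by
    rw [← map_ofNat (PowerSeries.C (R := k)) 2, ← map_mul, inv_mul_cancel₀ h2, map_one]
  linear_combination (-(PowerSeries.C (2⁻¹ : k) : PowerSeries k)) * hs + f * hC

include h2 in
theorem piM_gluePM (f g : PowerSeries k) (h : PowerSeries.X ^ m ∣ f - g) :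
    piM k r m hrm (gluePM k r m f g) = g := by
  have hs := Classical.choose_spec h
  unfold gluePM
  rw [dif_pos h, piM_repr]
  have hC : (PowerSeries.C (2⁻¹ : k) : PowerSeries k) * 2 = 1 := by
    rw [← map_ofNat (PowerSeries.C (R := k)) 2, ← map_mul, inv_mul_cancel₀ h2, map_one]
  linear_combination (PowerSeries.C (2⁻¹ : k) : PowerSeries k) * hs + g * hC

/-- A compatible pair of algebra maps to the branches gives an algebra endomorphism. -/
noncomputable def genHomPM (ρ₁ ρ₂ : ArSing.ring k r →ₐ[k] PowerSeries k)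
    (hc : ∀ a, PowerSeries.X ^ m ∣ ρ₁ a - ρ₂ a) :
    ArSing.ring k r →ₐ[k] ArSing.ring k r :=
  have p1 : ∀ a, piP k r m hrm (gluePM k r m (ρ₁ a) (ρ₂ a)) = ρ₁ a :=
    fun a => piP_gluePM k r m hrm h2 _ _ (hc a)
  have p2 : ∀ a, piM k r m hrm (gluePM k r m (ρ₁ a) (ρ₂ a)) = ρ₂ a :=
    fun a => piM_gluePM k r m hrm h2 _ _ (hc a)
  { toFun := fun a => gluePM k r m (ρ₁ a) (ρ₂ a)
    map_one' := by
      apply piPM_ext k r m hrm h2
      · rw [p1, map_one, map_one]
      · rw [p2, map_one, map_one]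
    map_mul' := by
      intro a b
      apply piPM_ext k r m hrm h2
      · rw [p1, map_mul, map_mul, p1, p1]
      · rw [p2, map_mul, map_mul, p2, p2]
    map_zero' := by
      apply piPM_ext k r m hrm h2
      · rw [p1, map_zero, map_zero]
      · rw [p2, map_zero, map_zero]
    map_add' := by
      intro a b
      apply piPM_ext k r m hrm h2
      · rw [p1, map_add, map_add, p1, p1]
      · rw [p2, map_add, map_add, p2, p2]
    commutes' := by
      intro c
      apply piPM_ext k r m hrm h2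
      · rw [p1, AlgHom.commutes, AlgHom.commutes]
      · rw [p2, AlgHom.commutes, AlgHom.commutes] }

theorem piP_genHomPM (ρ₁ ρ₂ : ArSing.ring k r →ₐ[k] PowerSeries k)
    (hc : ∀ a, PowerSeries.X ^ m ∣ ρ₁ a - ρ₂ a) (a : ArSing.ring k r) :
    piP k r m hrm (genHomPM k r m hrm h2 ρ₁ ρ₂ hc a) = ρ₁ a :=
  piP_gluePM k r m hrm h2 _ _ (hc a)

theorem piM_genHomPM (ρ₁ ρ₂ : ArSing.ring k r →ₐ[k] PowerSeries k)
    (hc : ∀ a, PowerSeries.X ^ m ∣ ρ₁ a - ρ₂ a) (a : ArSing.ring k r) :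
    piM k r m hrm (genHomPM k r m hrm h2 ρ₁ ρ₂ hc a) = ρ₂ a :=
  piM_gluePM k r m hrm h2 _ _ (hc a)

/-- A congruent pair of automorphisms of the branches gives an endomorphism of `A_r`. -/
noncomputable def pairHomPM (φ₁ φ₂ : PowerSeries k ≃ₐ[k] PowerSeries k)
    (h : PowerSeries.X ^ m ∣ φ₁ PowerSeries.X - φ₂ PowerSeries.X) :
    ArSing.ring k r →ₐ[k] ArSing.ring k r :=
  genHomPM k r m hrm h2 ((φ₁ : PowerSeries k →ₐ[k] PowerSeries k).comp (piP k r m hrm))
    ((φ₂ : PowerSeries k →ₐ[k] PowerSeries k).comp (piM k r m hrm))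
    (fun a => (compat_of_X k φ₁ φ₂ m h).1 _ _ (piPM_compat k r m hrm a))

theorem piP_pairHomPM (φ₁ φ₂ : PowerSeries k ≃ₐ[k] PowerSeries k)
    (h : PowerSeries.X ^ m ∣ φ₁ PowerSeries.X - φ₂ PowerSeries.X) (a : ArSing.ring k r) :
    piP k r m hrm (pairHomPM k r m hrm h2 φ₁ φ₂ h a) = φ₁ (piP k r m hrm a) := by
  unfold pairHomPM
  exact piP_genHomPM k r m hrm h2 _ _ _ a

theorem piM_pairHomPM (φ₁ φ₂ : PowerSeries k ≃ₐ[k] PowerSeries k)
    (h : PowerSeries.X ^ m ∣ φ₁ PowerSeries.X - φ₂ PowerSeries.X) (a : ArSing.ring k r) :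
    piM k r m hrm (pairHomPM k r m hrm h2 φ₁ φ₂ h a) = φ₂ (piM k r m hrm a) := by
  unfold pairHomPM
  exact piM_genHomPM k r m hrm h2 _ _ _ a

theorem symm_congr (φ₁ φ₂ : PowerSeries k ≃ₐ[k] PowerSeries k)
    (h : PowerSeries.X ^ m ∣ φ₁ PowerSeries.X - φ₂ PowerSeries.X) :
    PowerSeries.X ^ m ∣ φ₁.symm PowerSeries.X - φ₂.symm PowerSeries.X :=
  (compat_of_X k φ₁ φ₂ m h).2 _ _ (by rw [sub_self]; exact dvd_zero _)

/-- A congruent pair of automorphisms of the branches gives an automorphism of `A_r`. -/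
noncomputable def pairEquivPM (φ₁ φ₂ : PowerSeries k ≃ₐ[k] PowerSeries k)
    (h : PowerSeries.X ^ m ∣ φ₁ PowerSeries.X - φ₂ PowerSeries.X) :
    ArSing.ring k r ≃ₐ[k] ArSing.ring k r :=
  AlgEquiv.ofAlgHom (pairHomPM k r m hrm h2 φ₁ φ₂ h)
    (pairHomPM k r m hrm h2 φ₁.symm φ₂.symm (symm_congr k m φ₁ φ₂ h))
    (by
      apply AlgHom.ext
      intro a
      apply piPM_ext k r m hrm h2
      · rw [AlgHom.comp_apply, piP_pairHomPM, piP_pairHomPM]
        exact φ₁.apply_symm_apply _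
      · rw [AlgHom.comp_apply, piM_pairHomPM, piM_pairHomPM]
        exact φ₂.apply_symm_apply _)
    (by
      apply AlgHom.ext
      intro a
      apply piPM_ext k r m hrm h2
      · rw [AlgHom.comp_apply, piP_pairHomPM, piP_pairHomPM]
        exact φ₁.symm_apply_apply _
      · rw [AlgHom.comp_apply, piM_pairHomPM, piM_pairHomPM]
        exact φ₂.symm_apply_apply _)

theorem piP_pairEquivPM (φ₁ φ₂ : PowerSeries k ≃ₐ[k] PowerSeries k)
    (h : PowerSeries.X ^ m ∣ φ₁ PowerSeries.X - φ₂ PowerSeries.X) (a : ArSing.ring k r) :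
    piP k r m hrm (pairEquivPM k r m hrm h2 φ₁ φ₂ h a) = φ₁ (piP k r m hrm a) :=
  piP_pairHomPM k r m hrm h2 φ₁ φ₂ h a

theorem piM_pairEquivPM (φ₁ φ₂ : PowerSeries k ≃ₐ[k] PowerSeries k)
    (h : PowerSeries.X ^ m ∣ φ₁ PowerSeries.X - φ₂ PowerSeries.X) (a : ArSing.ring k r) :
    piM k r m hrm (pairEquivPM k r m hrm h2 φ₁ φ₂ h a) = φ₂ (piM k r m hrm a) :=
  piM_pairHomPM k r m hrm h2 φ₁ φ₂ h a

theorem piP_pairEquivPM_symm (φ₁ φ₂ : PowerSeries k ≃ₐ[k] PowerSeries k)
    (h : PowerSeries.X ^ m ∣ φ₁ PowerSeries.X - φ₂ PowerSeries.X) (a : ArSing.ring k r) :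
    piP k r m hrm ((pairEquivPM k r m hrm h2 φ₁ φ₂ h).symm a) = φ₁.symm (piP k r m hrm a) :=
  piP_pairHomPM k r m hrm h2 φ₁.symm φ₂.symm (symm_congr k m φ₁ φ₂ h) a

theorem piM_pairEquivPM_symm (φ₁ φ₂ : PowerSeries k ≃ₐ[k] PowerSeries k)
    (h : PowerSeries.X ^ m ∣ φ₁ PowerSeries.X - φ₂ PowerSeries.X) (a : ArSing.ring k r) :
    piM k r m hrm ((pairEquivPM k r m hrm h2 φ₁ φ₂ h).symm a) = φ₂.symm (piM k r m hrm a) :=
  piM_pairHomPM k r m hrm h2 φ₁.symm φ₂.symm (symm_congr k m φ₁ φ₂ h) a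

end Odd

end Groth.Agent.Helper6.ArS
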