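import Mathlib
import Groth.Agent.Helper6.ArS9

set_option autoImplicit false
set_option linter.style.haveILetI false
set_option linter.unusedSectionVars false

namespace Groth.Agent.Helper6.ArS

universe u

variable (k : Type u) [Field k] (r : ℕ)

attribute [-instance] PowerSeries.algebraPowerSeries MvPowerSeries.algebraMvPowerSeries

theorem eq_refl_of_conj_fix (σ Φ : ArSing.ring k r ≃ₐ[k] ArSing.ring k r)
    (hx : Φ.symm (σ (Φ (ArSing.x k r))) = ArSing.x k r)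
    (hy : Φ.symm (σ (Φ (ArSing.y k r))) = ArSing.y k r) : σ = AlgEquiv.refl := by
  have hcomp : (σ : ArSing.ring k r →ₐ[k] ArSing.ring k r).comp
      (Φ : ArSing.ring k r →ₐ[k] ArSing.ring k r) =
      (Φ : ArSing.ring k r →ₐ[k] ArSing.ring k r) := by
    apply algHom_ext_A
    · simp only [AlgHom.comp_apply, AlgEquiv.coe_toAlgHom]
      have := congrArg Φ hx
      rwa [AlgEquiv.apply_symm_apply] at this
    · simp only [AlgHom.comp_apply, AlgEquiv.coe_toAlgHom]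
      have := congrArg Φ hy
      rwa [AlgEquiv.apply_symm_apply] at this
  apply AlgEquiv.ext
  intro b
  have := DFunLike.congr_fun hcomp (Φ.symm b)
  simp only [AlgHom.comp_apply, AlgEquiv.coe_toAlgHom, AlgEquiv.apply_symm_apply] at this
  exact this

theorem coeff_one_eq_of_dvd (m : ℕ) (hm : 2 ≤ m) (f g : PowerSeries k)
    (h : PowerSeries.X ^ m ∣ f - g) : PowerSeries.coeff 1 f = PowerSeries.coeff 1 g := by
  have := (PowerSeries.X_pow_dvd_iff.1 h) 1 (by omega)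
  rw [map_sub] at this
  exact sub_eq_zero.1 this

section OddInvol

variable (m : ℕ) (hrm : r + 1 = 2 * m) (h2 : (2 : k) ≠ 0) (hm : 2 ≤ m)
  (σ : ArSing.ring k r ≃ₐ[k] ArSing.ring k r) (hσ : ∀ a, σ (σ a) = a)

include hrm in
theorem upm_zero : (ArSing.y k r - ArSing.x k r ^ m) * (ArSing.y k r + ArSing.x k r ^ m) = 0 := by
  have := y_sq k r
  rw [hrm, two_mul, pow_add] at this
  linear_combination this

include hrm h2 hσ in
theorem odd_case_split :
    (piP k r m hrm (σ (ArSing.y k r)) = piP k r m hrm (σ (ArSing.x k r)) ^ m ∧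
      piM k r m hrm (σ (ArSing.y k r)) = -piM k r m hrm (σ (ArSing.x k r)) ^ m) ∨
    (piP k r m hrm (σ (ArSing.y k r)) = -piP k r m hrm (σ (ArSing.x k r)) ^ m ∧
      piM k r m hrm (σ (ArSing.y k r)) = piM k r m hrm (σ (ArSing.x k r)) ^ m) := by
  obtain ⟨up, hup⟩ : ∃ up, up = ArSing.y k r - ArSing.x k r ^ m := ⟨_, rfl⟩
  obtain ⟨um, hum⟩ : ∃ um, um = ArSing.y k r + ArSing.x k r ^ m := ⟨_, rfl⟩
  have hprod : σ up * σ um = 0 := by
    rw [← map_mul, hup, hum, upm_zero k r m hrm, map_zero]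
  have h1 : piP k r m hrm (σ up) * piP k r m hrm (σ um) = 0 := by
    rw [← map_mul, hprod, map_zero]
  have h2' : piM k r m hrm (σ up) * piM k r m hrm (σ um) = 0 := by
    rw [← map_mul, hprod, map_zero]
  have hXm : (2 : PowerSeries k) * PowerSeries.X ^ m ≠ 0 :=
    mul_ne_zero (two_ne_zero_ps k h2) (pow_ne_zero m PowerSeries.X_ne_zero)
  have hupne : up ≠ 0 := by
    intro h
    have := congrArg (piM k r m hrm) h
    rw [hup, map_sub, map_pow, piM_y, piM_x, map_zero] at this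
    apply hXm
    linear_combination -this
  have humne : um ≠ 0 := by
    intro h
    have := congrArg (piP k r m hrm) h
    rw [hum, map_add, map_pow, piP_y, piP_x, map_zero] at this
    apply hXm
    linear_combination this
  have hs : σ up ≠ 0 := by
    intro h
    apply hupne
    rw [← hσ up, h, map_zero]
  have ht : σ um ≠ 0 := by
    intro h
    apply humne
    rw [← hσ um, h, map_zero]
  have hs' : ¬ (piP k r m hrm (σ up) = 0 ∧ piM k r m hrm (σ up) = 0) := fun ⟨e1, e2⟩ =>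
    hs (piPM_ext k r m hrm h2 (by rw [e1, map_zero]) (by rw [e2, map_zero]))
  have ht' : ¬ (piP k r m hrm (σ um) = 0 ∧ piM k r m hrm (σ um) = 0) := fun ⟨e1, e2⟩ =>
    ht (piPM_ext k r m hrm h2 (by rw [e1, map_zero]) (by rw [e2, map_zero]))
  have eP1 : piP k r m hrm (σ up) =
      piP k r m hrm (σ (ArSing.y k r)) - piP k r m hrm (σ (ArSing.x k r)) ^ m := by
    rw [hup, map_sub, map_sub, map_pow, map_pow]
  have eP2 : piP k r m hrm (σ um) =
      piP k r m hrm (σ (ArSing.y k r)) + piP k r m hrm (σ (ArSing.x k r)) ^ m := by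
    rw [hum, map_add, map_add, map_pow, map_pow]
  have eM1 : piM k r m hrm (σ up) =
      piM k r m hrm (σ (ArSing.y k r)) - piM k r m hrm (σ (ArSing.x k r)) ^ m := by
    rw [hup, map_sub, map_sub, map_pow, map_pow]
  have eM2 : piM k r m hrm (σ um) =
      piM k r m hrm (σ (ArSing.y k r)) + piM k r m hrm (σ (ArSing.x k r)) ^ m := by
    rw [hum, map_add, map_add, map_pow, map_pow]
  rcases mul_eq_zero.1 h1 with a1 | b1 <;> rcases mul_eq_zero.1 h2' with a2 | b2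
  · exact absurd ⟨a1, a2⟩ hs'
  · left
    rw [eP1] at a1
    rw [eM2] at b2
    exact ⟨sub_eq_zero.1 a1, eq_neg_of_add_eq_zero_left b2⟩
  · right
    rw [eP2] at b1
    rw [eM1] at a2
    exact ⟨eq_neg_of_add_eq_zero_left b1, sub_eq_zero.1 a2⟩
  · exact absurd ⟨b1, b2⟩ ht'

include hσ hm h2 in
theorem odd_caseA (hne : σ ≠ AlgEquiv.refl)
    (hA1 : piP k r m hrm (σ (ArSing.y k r)) = piP k r m hrm (σ (ArSing.x k r)) ^ m)
    (hA2 : piM k r m hrm (σ (ArSing.y k r)) = -piM k r m hrm (σ (ArSing.x k r)) ^ m) :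
    ∃ φ : ArSing.ring k r ≃ₐ[k] ArSing.ring k r,
      (φ.symm (σ (φ (ArSing.x k r))) = -ArSing.x k r ∧
        φ.symm (σ (φ (ArSing.y k r))) = ArSing.y k r) ∨
      (φ.symm (σ (φ (ArSing.x k r))) = -ArSing.x k r ∧
        φ.symm (σ (φ (ArSing.y k r))) = -ArSing.y k r) := by
  obtain ⟨F, hFdef⟩ : ∃ F : PowerSeries k →ₐ[k] PowerSeries k,
      F = (piP k r m hrm).comp
        ((σ : ArSing.ring k r →ₐ[k] ArSing.ring k r).comp (ArSing.xMap k r)) := ⟨_, rfl⟩
  obtain ⟨G, hGdef⟩ : ∃ G : PowerSeries k →ₐ[k] PowerSeries k,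
      G = (piM k r m hrm).comp
        ((σ : ArSing.ring k r →ₐ[k] ArSing.ring k r).comp (ArSing.xMap k r)) := ⟨_, rfl⟩
  have hFX : F PowerSeries.X = piP k r m hrm (σ (ArSing.x k r)) := by
    rw [hFdef]
    simp only [AlgHom.comp_apply, AlgEquiv.coe_toAlgHom, xMap_X]
  have hGX : G PowerSeries.X = piM k r m hrm (σ (ArSing.x k r)) := by
    rw [hGdef]
    simp only [AlgHom.comp_apply, AlgEquiv.coe_toAlgHom, xMap_X]
  have hFf : ∀ f, F f = piP k r m hrm (σ (ArSing.xMap k r f)) := by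
    intro f
    rw [hFdef]
    rfl
  have hGf : ∀ f, G f = piM k r m hrm (σ (ArSing.xMap k r f)) := by
    intro f
    rw [hGdef]
    rfl
  have hP : ∀ a, piP k r m hrm (σ a) = F (piP k r m hrm a) := by
    have : (piP k r m hrm).comp (σ : ArSing.ring k r →ₐ[k] ArSing.ring k r) =
        F.comp (piP k r m hrm) := by
      apply projHom_ext_xy
      · simp only [AlgHom.comp_apply, AlgEquiv.coe_toAlgHom, piP_x, hFX]
      · simp only [AlgHom.comp_apply, AlgEquiv.coe_toAlgHom, piP_y, map_pow, hFX, hA1]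
    intro a
    exact DFunLike.congr_fun this a
  have hM : ∀ a, piM k r m hrm (σ a) = G (piM k r m hrm a) := by
    have : (piM k r m hrm).comp (σ : ArSing.ring k r →ₐ[k] ArSing.ring k r) =
        G.comp (piM k r m hrm) := by
      apply projHom_ext_xy
      · simp only [AlgHom.comp_apply, AlgEquiv.coe_toAlgHom, piM_x, hGX]
      · simp only [AlgHom.comp_apply, AlgEquiv.coe_toAlgHom, piM_y, map_neg, map_pow, hGX, hA2]
    intro a
    exact DFunLike.congr_fun this a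
  have hFF : ∀ f, F (F f) = f := by
    intro f
    have e : F (F (piP k r m hrm (ArSing.xMap k r f))) = piP k r m hrm (ArSing.xMap k r f) := by
      rw [← hP, ← hP, hσ]
    rwa [piP_xMap] at e
  have hGG : ∀ f, G (G f) = f := by
    intro f
    have e : G (G (piM k r m hrm (ArSing.xMap k r f))) = piM k r m hrm (ArSing.xMap k r f) := by
      rw [← hM, ← hM, hσ]
    rwa [piM_xMap] at e
  have hcong : PowerSeries.X ^ m ∣ F PowerSeries.X - G PowerSeries.X := by
    rw [hFX, hGX]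
    exact piPM_compat k r m hrm _
  obtain ⟨Fe, hFe⟩ : ∃ Fe : PowerSeries k ≃ₐ[k] PowerSeries k, ∀ f, Fe f = F f :=
    ⟨AlgEquiv.ofAlgHom F F (AlgHom.ext hFF) (AlgHom.ext hFF), fun f => rfl⟩
  obtain ⟨Ge, hGe⟩ : ∃ Ge : PowerSeries k ≃ₐ[k] PowerSeries k, ∀ f, Ge f = G f :=
    ⟨AlgEquiv.ofAlgHom G G (AlgHom.ext hGG) (AlgHom.ext hGG), fun f => rfl⟩
  obtain ⟨hc1, φ₁, hφ₁X, hφ₁⟩ := Groth.Agent.Helper8.PSInvol.main h2 Fe
    (fun f => by rw [hFe, hFe, hFF])
  obtain ⟨hc2, φ₂, hφ₂X, hφ₂⟩ := Groth.Agent.Helper8.PSInvol.main h2 Ge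
    (fun f => by rw [hGe, hGe, hGG])
  have hcc : PowerSeries.coeff 1 (Ge PowerSeries.X) = PowerSeries.coeff 1 (Fe PowerSeries.X) := by
    rw [hFe, hGe]
    exact (coeff_one_eq_of_dvd k m hm _ _ hcong).symm
  rw [hcc] at hc2 hφ₂X hφ₂
  obtain ⟨c, hcdef⟩ : ∃ c, c = PowerSeries.coeff 1 (Fe PowerSeries.X) := ⟨_, rfl⟩
  rw [← hcdef] at hc1 hφ₁ hφ₁X hφ₂ hφ₂X
  have hΦ : PowerSeries.X ^ m ∣ φ₁ PowerSeries.X - φ₂ PowerSeries.X := by
    rw [hφ₁X, hφ₂X, hFe, hGe]
    obtain ⟨w, hw⟩ := hcong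
    refine ⟨PowerSeries.C (2⁻¹ : k) * PowerSeries.C c * w, ?_⟩
    linear_combination (PowerSeries.C (2⁻¹ : k) * PowerSeries.C c) * hw
  obtain ⟨Φ, hΦdef⟩ : ∃ Φ, Φ = pairEquivPM k r m hrm h2 φ₁ φ₂ hΦ := ⟨_, rfl⟩
  have hθ1 : ∀ a, piP k r m hrm (Φ.symm (σ (Φ a))) =
      PowerSeries.rescale c (piP k r m hrm a) := by
    intro a
    rw [hΦdef, piP_pairEquivPM_symm, hP, piP_pairEquivPM, ← hFe]
    exact hφ₁ _
  have hθ2 : ∀ a, piM k r m hrm (Φ.symm (σ (Φ a))) =
      PowerSeries.rescale c (piM k r m hrm a) := by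
    intro a
    rw [hΦdef, piM_pairEquivPM_symm, hM, piM_pairEquivPM, ← hGe]
    exact hφ₂ _
  have hc' : c = 1 ∨ c = -1 := mul_self_eq_one_iff.1 (by rw [← pow_two]; exact hc1)
  rcases hc' with e1 | e1
  · exfalso
    apply hne
    apply eq_refl_of_conj_fix k r σ Φ
    · apply piPM_ext k r m hrm h2
      · rw [hθ1, e1, PowerSeries.rescale_one, RingHom.id_apply]
      · rw [hθ2, e1, PowerSeries.rescale_one, RingHom.id_apply]
    · apply piPM_ext k r m hrm h2
      · rw [hθ1, e1, PowerSeries.rescale_one, RingHom.id_apply]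
      · rw [hθ2, e1, PowerSeries.rescale_one, RingHom.id_apply]
  · have hx : Φ.symm (σ (Φ (ArSing.x k r))) = -ArSing.x k r := by
      apply piPM_ext k r m hrm h2
      · rw [hθ1, e1, map_neg, piP_x]
        exact NN_X k
      · rw [hθ2, e1, map_neg, piM_x]
        exact NN_X k
    rcases Nat.even_or_odd m with hev | hod
    · refine ⟨Φ, Or.inl ⟨hx, ?_⟩⟩
      apply piPM_ext k r m hrm h2
      · rw [hθ1, e1, piP_y, map_pow]
        show (NN k PowerSeries.X) ^ m = _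
        rw [NN_X, hev.neg_pow]
      · rw [hθ2, e1, piM_y, map_neg, map_pow]
        show -(NN k PowerSeries.X) ^ m = _
        rw [NN_X, hev.neg_pow]
    · refine ⟨Φ, Or.inr ⟨hx, ?_⟩⟩
      apply piPM_ext k r m hrm h2
      · rw [hθ1, e1, map_neg, piP_y, map_pow]
        show (NN k PowerSeries.X) ^ m = _
        rw [NN_X, hod.neg_pow]
      · rw [hθ2, e1, map_neg, piM_y, map_neg, map_pow]
        show -(NN k PowerSeries.X) ^ m = _
        rw [NN_X, hod.neg_pow]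

theorem algHom_C' (ψ : PowerSeries k →ₐ[k] PowerSeries k) (c : k) :
    ψ (PowerSeries.C c) = PowerSeries.C c := by
  rw [algHom_C]
  rfl

include hσ hm h2 in
theorem odd_caseB
    (hB1 : piP k r m hrm (σ (ArSing.y k r)) = -piP k r m hrm (σ (ArSing.x k r)) ^ m)
    (hB2 : piM k r m hrm (σ (ArSing.y k r)) = piM k r m hrm (σ (ArSing.x k r)) ^ m) :
    ∃ φ : ArSing.ring k r ≃ₐ[k] ArSing.ring k r,
      (φ.symm (σ (φ (ArSing.x k r))) = ArSing.x k r ∧
        φ.symm (σ (φ (ArSing.y k r))) = -ArSing.y k r) ∨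
      (φ.symm (σ (φ (ArSing.x k r))) = -ArSing.x k r ∧
        φ.symm (σ (φ (ArSing.y k r))) = ArSing.y k r) ∨
      (φ.symm (σ (φ (ArSing.x k r))) = -ArSing.x k r ∧
        φ.symm (σ (φ (ArSing.y k r))) = -ArSing.y k r) := by
  obtain ⟨F, hFdef⟩ : ∃ F : PowerSeries k →ₐ[k] PowerSeries k,
      F = (piM k r m hrm).comp
        ((σ : ArSing.ring k r →ₐ[k] ArSing.ring k r).comp (ArSing.xMap k r)) := ⟨_, rfl⟩
  obtain ⟨G, hGdef⟩ : ∃ G : PowerSeries k →ₐ[k] PowerSeries k,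
      G = (piP k r m hrm).comp
        ((σ : ArSing.ring k r →ₐ[k] ArSing.ring k r).comp (ArSing.xMap k r)) := ⟨_, rfl⟩
  have hFX : F PowerSeries.X = piM k r m hrm (σ (ArSing.x k r)) := by
    rw [hFdef]
    simp only [AlgHom.comp_apply, AlgEquiv.coe_toAlgHom, xMap_X]
  have hGX : G PowerSeries.X = piP k r m hrm (σ (ArSing.x k r)) := by
    rw [hGdef]
    simp only [AlgHom.comp_apply, AlgEquiv.coe_toAlgHom, xMap_X]
  have hFf : ∀ f, F f = piM k r m hrm (σ (ArSing.xMap k r f)) := by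
    intro f
    rw [hFdef]
    rfl
  have hGf : ∀ f, G f = piP k r m hrm (σ (ArSing.xMap k r f)) := by
    intro f
    rw [hGdef]
    rfl
  have hM : ∀ a, piM k r m hrm (σ a) = F (piP k r m hrm a) := by
    have : (piM k r m hrm).comp (σ : ArSing.ring k r →ₐ[k] ArSing.ring k r) =
        F.comp (piP k r m hrm) := by
      apply projHom_ext_xy
      · simp only [AlgHom.comp_apply, AlgEquiv.coe_toAlgHom, piP_x, hFX]
      · simp only [AlgHom.comp_apply, AlgEquiv.coe_toAlgHom, piP_y, map_pow, hFX, hB2]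
    intro a
    exact DFunLike.congr_fun this a
  have hP : ∀ a, piP k r m hrm (σ a) = G (piM k r m hrm a) := by
    have : (piP k r m hrm).comp (σ : ArSing.ring k r →ₐ[k] ArSing.ring k r) =
        G.comp (piM k r m hrm) := by
      apply projHom_ext_xy
      · simp only [AlgHom.comp_apply, AlgEquiv.coe_toAlgHom, piM_x, hGX]
      · simp only [AlgHom.comp_apply, AlgEquiv.coe_toAlgHom, piM_y, map_neg, map_pow, hGX, hB1]
    intro a
    exact DFunLike.congr_fun this a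
  have hGF : ∀ f, G (F f) = f := by
    intro f
    have e : G (F (piP k r m hrm (ArSing.xMap k r f))) = piP k r m hrm (ArSing.xMap k r f) := by
      rw [← hM, ← hP, hσ]
    rwa [piP_xMap] at e
  have hFG : ∀ f, F (G f) = f := by
    intro f
    have e : F (G (piM k r m hrm (ArSing.xMap k r f))) = piM k r m hrm (ArSing.xMap k r f) := by
      rw [← hP, ← hM, hσ]
    rwa [piM_xMap] at e
  have hcong : ∀ f, PowerSeries.X ^ m ∣ G f - F f := by
    intro f
    rw [hGf, hFf]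
    exact piPM_compat k r m hrm _
  obtain ⟨Fe, hFe, hFes⟩ : ∃ Fe : PowerSeries k ≃ₐ[k] PowerSeries k,
      (∀ f, Fe f = F f) ∧ ∀ f, Fe.symm f = G f :=
    ⟨AlgEquiv.ofAlgHom F G (AlgHom.ext hFG) (AlgHom.ext hGF), fun f => rfl, fun f => rfl⟩
  obtain ⟨c, hcdef⟩ : ∃ c, c = PowerSeries.coeff 1 (F PowerSeries.X) := ⟨_, rfl⟩
  have hFFX : PowerSeries.X ^ m ∣ F (F PowerSeries.X) - PowerSeries.X := by
    have e : F (F PowerSeries.X) - PowerSeries.X = F (F PowerSeries.X - G PowerSeries.X) := by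
      rw [map_sub, hFG]
    rw [e]
    apply X_pow_dvd_algHom
    have := hcong PowerSeries.X
    rw [← neg_sub]
    exact (dvd_neg).2 this
  have hc : c * c = 1 := by
    have e1 : PowerSeries.coeff 1 (F (F PowerSeries.X)) = c * c := by
      rw [Groth.Agent.Helper8.PSInvol.algHom_eq_subst F (F PowerSeries.X),
        Groth.Agent.Helper8.PSInvol.coeff_one_subst _ _
          (Groth.Agent.Helper8.PSInvol.constantCoeff_algHom_X F), ← hcdef]
    have e2 := coeff_one_eq_of_dvd k m hm _ _ hFFX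
    rw [e1, PowerSeries.coeff_one_X] at e2
    exact e2
  obtain ⟨u, hudef⟩ : ∃ u, u = PowerSeries.C (2⁻¹ : k) *
      (PowerSeries.X + PowerSeries.C c * F PowerSeries.X) := ⟨_, rfl⟩
  have hu0 : PowerSeries.constantCoeff u = 0 := by
    rw [hudef]
    simp [Groth.Agent.Helper8.PSInvol.constantCoeff_algHom_X]
  have hu1 : PowerSeries.coeff 1 u = 1 := by
    rw [hudef, PowerSeries.coeff_C_mul, map_add, PowerSeries.coeff_one_X, PowerSeries.coeff_C_mul,
      ← hcdef, hc, show (1 : k) + 1 = 2 by norm_num]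
    exact inv_mul_cancel₀ h2
  obtain ⟨φ₁, hφ₁def⟩ : ∃ φ₁, φ₁ = Groth.Agent.Helper8.PSInvol.substEquiv u hu0
      (by rw [hu1]; exact isUnit_one) := ⟨_, rfl⟩
  have hφ₁X : φ₁ PowerSeries.X = u := by
    rw [hφ₁def, Groth.Agent.Helper8.PSInvol.substEquiv_apply,
      PowerSeries.subst_X (PowerSeries.HasSubst.of_constantCoeff_zero' hu0)]
  obtain ⟨R, hRdef⟩ : ∃ R, R = rescaleEquiv k c hc := ⟨_, rfl⟩
  obtain ⟨φ₂, hφ₂def⟩ : ∃ φ₂, φ₂ = R.trans (φ₁.trans Fe) := ⟨_, rfl⟩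
  have hφ₂ : ∀ f, φ₂ f = F (φ₁ (PowerSeries.rescale c f)) := by
    intro f
    rw [hφ₂def, AlgEquiv.trans_apply, AlgEquiv.trans_apply, hFe, hRdef, rescaleEquiv_apply]
  have hφ₂s : ∀ z, φ₂.symm z = PowerSeries.rescale c (φ₁.symm (G z)) := by
    intro z
    rw [hφ₂def, AlgEquiv.symm_trans_apply, AlgEquiv.symm_trans_apply, hFes, hRdef,
      rescaleEquiv_symm_apply]
  have hφ₁C : ∀ a : k, φ₁ (PowerSeries.C a) = PowerSeries.C a := fun a =>
    algHom_C' k (φ₁ : PowerSeries k →ₐ[k] PowerSeries k) a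
  have hφ₂X : φ₂ PowerSeries.X = PowerSeries.C c * F u := by
    rw [hφ₂, PowerSeries.rescale_X, map_mul, map_mul, hφ₁X, hφ₁C, algHom_C']
  have hCC : PowerSeries.C c * PowerSeries.C c = (1 : PowerSeries k) := by
    rw [← map_mul, hc, map_one]
  have hΦ : PowerSeries.X ^ m ∣ φ₁ PowerSeries.X - φ₂ PowerSeries.X := by
    rw [hφ₁X, hφ₂X]
    have e : u - PowerSeries.C c * F u =
        PowerSeries.C (2⁻¹ : k) * (-(F (F PowerSeries.X) - PowerSeries.X)) := by
      rw [hudef]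
      simp only [map_mul, map_add, algHom_C']
      linear_combination (-(PowerSeries.C (2⁻¹ : k) * F (F PowerSeries.X))) * hCC
    rw [e]
    exact Dvd.dvd.mul_left ((dvd_neg).2 hFFX) _
  obtain ⟨Φ, hΦdef⟩ : ∃ Φ, Φ = pairEquivPM k r m hrm h2 φ₁ φ₂ hΦ := ⟨_, rfl⟩
  have hθ1 : ∀ a, piP k r m hrm (Φ.symm (σ (Φ a))) =
      PowerSeries.rescale c (piM k r m hrm a) := by
    intro a
    rw [hΦdef, piP_pairEquivPM_symm, hP, piM_pairEquivPM, hφ₂, hGF, AlgEquiv.symm_apply_apply]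
  have hθ2 : ∀ a, piM k r m hrm (Φ.symm (σ (Φ a))) =
      PowerSeries.rescale c (piP k r m hrm a) := by
    intro a
    rw [hΦdef, piM_pairEquivPM_symm, hM, piP_pairEquivPM, hφ₂s, hGF, AlgEquiv.symm_apply_apply]
  rcases mul_self_eq_one_iff.1 hc with e1 | e1
  · refine ⟨Φ, Or.inl ⟨?_, ?_⟩⟩
    · apply piPM_ext k r m hrm h2
      · rw [hθ1, e1, PowerSeries.rescale_one, RingHom.id_apply, piM_x, piP_x]
      · rw [hθ2, e1, PowerSeries.rescale_one, RingHom.id_apply, piP_x, piM_x]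
    · apply piPM_ext k r m hrm h2
      · rw [hθ1, e1, PowerSeries.rescale_one, RingHom.id_apply, piM_y, map_neg, piP_y]
      · rw [hθ2, e1, PowerSeries.rescale_one, RingHom.id_apply, piP_y, map_neg, piM_y, neg_neg]
  · have hx : Φ.symm (σ (Φ (ArSing.x k r))) = -ArSing.x k r := by
      apply piPM_ext k r m hrm h2
      · rw [hθ1, e1, piM_x, map_neg, piP_x]
        exact NN_X k
      · rw [hθ2, e1, piP_x, map_neg, piM_x]
        exact NN_X k
    have hNX : ∀ n : ℕ, PowerSeries.rescale (-1 : k) (PowerSeries.X ^ n) =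
        (-PowerSeries.X) ^ n := by
      intro n
      rw [map_pow]
      show (NN k PowerSeries.X) ^ n = _
      rw [NN_X]
    rcases Nat.even_or_odd m with hev | hod
    · refine ⟨Φ, Or.inr (Or.inr ⟨hx, ?_⟩)⟩
      apply piPM_ext k r m hrm h2
      · rw [hθ1, e1, piM_y, map_neg, hNX, map_neg, piP_y, hev.neg_pow]
      · rw [hθ2, e1, piP_y, hNX, map_neg, piM_y, neg_neg, hev.neg_pow]
    · refine ⟨Φ, Or.inr (Or.inl ⟨hx, ?_⟩)⟩
      apply piPM_ext k r m hrm h2
      · rw [hθ1, e1, piM_y, map_neg, hNX, piP_y, hod.neg_pow, neg_neg]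
      · rw [hθ2, e1, piP_y, hNX, piM_y, hod.neg_pow]

end OddInvol

theorem odd_main (h2 : (2 : k) ≠ 0) (hodd : Odd r) (h3 : 3 ≤ r)
    (σ : ArSing.ring k r ≃ₐ[k] ArSing.ring k r) (hσ : ∀ a, σ (σ a) = a)
    (hne : σ ≠ AlgEquiv.refl) :
    ∃ φ : ArSing.ring k r ≃ₐ[k] ArSing.ring k r,
      (φ.symm (σ (φ (ArSing.x k r))) = ArSing.x k r ∧
        φ.symm (σ (φ (ArSing.y k r))) = -ArSing.y k r) ∨
      (φ.symm (σ (φ (ArSing.x k r))) = -ArSing.x k r ∧
        φ.symm (σ (φ (ArSing.y k r))) = ArSing.y k r) ∨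
      (φ.symm (σ (φ (ArSing.x k r))) = -ArSing.x k r ∧
        φ.symm (σ (φ (ArSing.y k r))) = -ArSing.y k r) := by
  obtain ⟨j, hj⟩ := hodd
  have hrm : r + 1 = 2 * (j + 1) := by omega
  have hm : 2 ≤ j + 1 := by omega
  rcases odd_case_split k r (j + 1) hrm h2 σ hσ with ⟨hA1, hA2⟩ | ⟨hB1, hB2⟩
  · obtain ⟨φ, h | h⟩ := odd_caseA k r (j + 1) hrm h2 hm σ hσ hne hA1 hA2
    · exact ⟨φ, Or.inr (Or.inl h)⟩
    · exact ⟨φ, Or.inr (Or.inr h)⟩
  · exact odd_caseB k r (j + 1) hrm h2 hm σ hσ hB1 hB2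

end Groth.Agent.Helper6.ArS
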