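import Mathlib
import Groth.Agent.Helper6.ArS10

set_option autoImplicit false
set_option linter.style.haveILetI false
set_option linter.unusedSectionVars false

namespace Groth.Agent.Helper6.ArS

universe u

variable (k : Type u) [Field k] (r : ℕ)

attribute [-instance] PowerSeries.algebraPowerSeries MvPowerSeries.algebraMvPowerSeries

/-! ### The normalization of the unibranch singularity `A_{2n}` -/

section Even

variable (n : ℕ) (hrn : r = 2 * n)

include hrn in
theorem EE_X_pow_r : ((PowerSeries.X : PowerSeries k) ^ 2) ^ (r + 1) =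
    PowerSeries.X ^ (2 * n + 1) * PowerSeries.X ^ (2 * n + 1) := by
  rw [hrn]
  ring

theorem X_odd_EE (q : PowerSeries k) :
    (PowerSeries.X : PowerSeries k) ^ (2 * n + 1) * EE k q =
      PowerSeries.X * EE k (PowerSeries.X ^ n * q) := by
  rw [map_mul, map_pow, EE_X]
  ring

/-- The normalization map `A_{2n} → k[[τ]]`, `x ↦ τ^2`, `y ↦ τ^(2n+1)`. -/
noncomputable def nu : ArSing.ring k r →ₐ[k] PowerSeries k where
  toFun a := EE k (pq k r a).1 + PowerSeries.X ^ (2 * n + 1) * EE k (pq k r a).2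
  map_one' := by
    show EE k (pq k r 1).1 + PowerSeries.X ^ (2 * n + 1) * EE k (pq k r 1).2 = 1
    rw [pq_one]
    simp
  map_mul' a b := by
    show EE k (pq k r (a * b)).1 + PowerSeries.X ^ (2 * n + 1) * EE k (pq k r (a * b)).2 =
      (EE k (pq k r a).1 + PowerSeries.X ^ (2 * n + 1) * EE k (pq k r a).2) *
      (EE k (pq k r b).1 + PowerSeries.X ^ (2 * n + 1) * EE k (pq k r b).2)
    rw [pq_mul]
    simp only [map_add, map_mul, map_pow, EE_X]
    rw [EE_X_pow_r k r n hrn]
    ring
  map_zero' := by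
    show EE k (pq k r 0).1 + PowerSeries.X ^ (2 * n + 1) * EE k (pq k r 0).2 = 0
    rw [pq_zero]
    simp
  map_add' a b := by
    show EE k (pq k r (a + b)).1 + PowerSeries.X ^ (2 * n + 1) * EE k (pq k r (a + b)).2 =
      (EE k (pq k r a).1 + PowerSeries.X ^ (2 * n + 1) * EE k (pq k r a).2) +
      (EE k (pq k r b).1 + PowerSeries.X ^ (2 * n + 1) * EE k (pq k r b).2)
    rw [pq_add]
    simp only [Prod.fst_add, Prod.snd_add, map_add]
    ring
  commutes' c := by
    show EE k (pq k r (algebraMap k _ c)).1 +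
      PowerSeries.X ^ (2 * n + 1) * EE k (pq k r (algebraMap k _ c)).2 = algebraMap k _ c
    rw [pq_algebraMap, algHom_C' k (EE k)]
    simp

theorem nu_repr (p q : PowerSeries k) :
    nu k r n hrn (ArSing.xMap k r p + ArSing.xMap k r q * ArSing.y k r) =
      EE k p + PowerSeries.X ^ (2 * n + 1) * EE k q := by
  show EE k (pq k r _).1 + PowerSeries.X ^ (2 * n + 1) * EE k (pq k r _).2 = _
  rw [pq_repr]

theorem nu_xMap (f : PowerSeries k) : nu k r n hrn (ArSing.xMap k r f) = EE k f := by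
  have := nu_repr k r n hrn f 0
  rwa [map_zero, zero_mul, add_zero, map_zero, mul_zero, add_zero] at this

theorem nu_x : nu k r n hrn (ArSing.x k r) = PowerSeries.X ^ 2 := by
  rw [← xMap_X, nu_xMap, EE_X]

theorem nu_y : nu k r n hrn (ArSing.y k r) = PowerSeries.X ^ (2 * n + 1) := by
  have := nu_repr k r n hrn 0 1
  rwa [map_zero, zero_add, map_one, one_mul, map_one, mul_one, map_zero, zero_add] at this

theorem nu_injective : Function.Injective (nu k r n hrn) := by
  rw [injective_iff_map_eq_zero]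
  intro a ha
  obtain ⟨p, q, rfl⟩ := exists_repr k r a
  rw [nu_repr, X_odd_EE] at ha
  obtain ⟨hp, hq⟩ := even_odd_zero k _ _ ha
  have hq' : q = 0 :=
    (mul_eq_zero.1 hq).resolve_left (pow_ne_zero n PowerSeries.X_ne_zero)
  rw [hp, hq']
  simp

theorem nu_inB (a : ArSing.ring k r) :
    PowerSeries.X ^ (2 * n) ∣ nu k r n hrn a - NN k (nu k r n hrn a) := by
  obtain ⟨p, q, rfl⟩ := exists_repr k r a
  rw [nu_repr, map_add, map_mul, map_pow, NN_EE, NN_EE, NN_X]
  refine ⟨2 * PowerSeries.X * EE k q, ?_⟩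
  rw [Odd.neg_pow ⟨n, rfl⟩]
  ring

include hrn in
theorem exists_nu_eq (h2 : (2 : k) ≠ 0) (f : PowerSeries k)
    (h : PowerSeries.X ^ (2 * n) ∣ f - NN k f) : ∃ a, nu k r n hrn a = f := by
  obtain ⟨P, Q, rfl⟩ := even_odd_decomp k f
  have hQ : PowerSeries.X ^ n ∣ Q := by
    rw [PowerSeries.X_pow_dvd_iff]
    intro i hi
    have h1 := (PowerSeries.X_pow_dvd_iff.1 h) (2 * i + 1) (by omega)
    rw [map_add, map_mul, NN_EE, NN_EE, NN_X] at h1
    have e : EE k P + PowerSeries.X * EE k Q - (EE k P + -PowerSeries.X * EE k Q) =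
        PowerSeries.C (2 : k) * (PowerSeries.X * EE k Q) := by
      rw [map_ofNat]
      ring
    rw [e, PowerSeries.coeff_C_mul, PowerSeries.coeff_succ_X_mul,
      PowerSeries.coeff_expand_mul] at h1
    exact (mul_eq_zero.1 h1).resolve_left h2
  obtain ⟨q, rfl⟩ := hQ
  refine ⟨ArSing.xMap k r P + ArSing.xMap k r q * ArSing.y k r, ?_⟩
  rw [nu_repr, X_odd_EE]

/-- Lift an endomorphism of `k[[τ]]` preserving the image of the normalization map. -/
noncomputable def liftNu (ψ : PowerSeries k →ₐ[k] PowerSeries k)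
    (hψ : ∀ a, ∃ b, nu k r n hrn b = ψ (nu k r n hrn a)) :
    ArSing.ring k r →ₐ[k] ArSing.ring k r :=
  have sp : ∀ a, nu k r n hrn (Classical.choose (hψ a)) = ψ (nu k r n hrn a) :=
    fun a => Classical.choose_spec (hψ a)
  { toFun := fun a => Classical.choose (hψ a)
    map_one' := by
      apply nu_injective k r n hrn
      rw [sp, map_one, map_one]
    map_mul' := by
      intro a b
      apply nu_injective k r n hrn
      rw [sp, map_mul, map_mul, map_mul, sp, sp]
    map_zero' := by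
      apply nu_injective k r n hrn
      rw [sp, map_zero, map_zero]
    map_add' := by
      intro a b
      apply nu_injective k r n hrn
      rw [sp, map_add, map_add, map_add, sp, sp]
    commutes' := by
      intro c
      apply nu_injective k r n hrn
      rw [sp, AlgHom.commutes, AlgHom.commutes] }

theorem nu_liftNu (ψ : PowerSeries k →ₐ[k] PowerSeries k)
    (hψ : ∀ a, ∃ b, nu k r n hrn b = ψ (nu k r n hrn a)) (a : ArSing.ring k r) :
    nu k r n hrn (liftNu k r n hrn ψ hψ a) = ψ (nu k r n hrn a) :=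
  Classical.choose_spec (hψ a)

/-- Lift an automorphism of `k[[τ]]` preserving the image of the normalization map. -/
noncomputable def liftNuEquiv (ψ : PowerSeries k ≃ₐ[k] PowerSeries k)
    (h1 : ∀ a, ∃ b, nu k r n hrn b = (ψ : PowerSeries k →ₐ[k] PowerSeries k) (nu k r n hrn a))
    (h2 : ∀ a, ∃ b, nu k r n hrn b =
      (ψ.symm : PowerSeries k →ₐ[k] PowerSeries k) (nu k r n hrn a)) :
    ArSing.ring k r ≃ₐ[k] ArSing.ring k r :=
  AlgEquiv.ofAlgHom (liftNu k r n hrn (ψ : PowerSeries k →ₐ[k] PowerSeries k) h1)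
    (liftNu k r n hrn (ψ.symm : PowerSeries k →ₐ[k] PowerSeries k) h2)
    (by
      apply AlgHom.ext
      intro a
      apply nu_injective k r n hrn
      rw [AlgHom.comp_apply, nu_liftNu, nu_liftNu]
      exact ψ.apply_symm_apply _)
    (by
      apply AlgHom.ext
      intro a
      apply nu_injective k r n hrn
      rw [AlgHom.comp_apply, nu_liftNu, nu_liftNu]
      exact ψ.symm_apply_apply _)

theorem nu_liftNuEquiv (ψ : PowerSeries k ≃ₐ[k] PowerSeries k)
    (h1 : ∀ a, ∃ b, nu k r n hrn b = (ψ : PowerSeries k →ₐ[k] PowerSeries k) (nu k r n hrn a))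
    (h2 : ∀ a, ∃ b, nu k r n hrn b =
      (ψ.symm : PowerSeries k →ₐ[k] PowerSeries k) (nu k r n hrn a)) (a : ArSing.ring k r) :
    nu k r n hrn (liftNuEquiv k r n hrn ψ h1 h2 a) = ψ (nu k r n hrn a) :=
  nu_liftNu k r n hrn _ h1 a

theorem nu_liftNuEquiv_symm (ψ : PowerSeries k ≃ₐ[k] PowerSeries k)
    (h1 : ∀ a, ∃ b, nu k r n hrn b = (ψ : PowerSeries k →ₐ[k] PowerSeries k) (nu k r n hrn a))
    (h2 : ∀ a, ∃ b, nu k r n hrn b =
      (ψ.symm : PowerSeries k →ₐ[k] PowerSeries k) (nu k r n hrn a)) (a : ArSing.ring k r) :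
    nu k r n hrn ((liftNuEquiv k r n hrn ψ h1 h2).symm a) = ψ.symm (nu k r n hrn a) :=
  nu_liftNu k r n hrn _ h2 a

end Even

end Groth.Agent.Helper6.ArS
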