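import Mathlib
import Groth.Agent.Helper6.ArS11

set_option autoImplicit false
set_option linter.style.haveILetI false
set_option linter.unusedSectionVars false

namespace Groth.Agent.Helper6.ArS

universe u

variable (k : Type u) [Field k] (r : ℕ)

attribute [-instance] PowerSeries.algebraPowerSeries MvPowerSeries.algebraMvPowerSeries

/-! ### Involutions of the unibranch singularity `A_{2n}` -/

theorem ab_eq (n a b : ℕ) (ha : 1 ≤ a) (hb : 1 ≤ b) (h : 2 * b = a * (2 * n + 1))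
    (h1 : a ≤ 2 ∨ b ≤ 2) (h2 : a ≤ 2 * n + 1 ∨ b ≤ 2 * n + 1) : a = 2 ∧ b = 2 * n + 1 := by
  rcases Nat.eq_zero_or_pos n with rfl | hn
  · have h' : 2 * b = a := by
      rw [h]
      ring
    omega
  · obtain ⟨t, ht⟩ : ∃ t, t = a * n := ⟨_, rfl⟩
    have h' : 2 * b = 2 * t + a := by
      rw [h, ht]
      ring
    have htn : a ≤ t := by
      rw [ht]
      exact Nat.le_mul_of_pos_right a hn
    have ha2 : a ≤ 2 := by omega
    interval_cases a
    · omega
    · omega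

theorem exists_X_pow_mul_unit (f : PowerSeries k) (hf : f ≠ 0) :
    ∃ (a : ℕ) (u : PowerSeries k), IsUnit u ∧ f = PowerSeries.X ^ a * u :=
  ⟨f.order.toNat, f.divXPowOrder, PowerSeries.isUnit_divided_by_X_pow_order hf,
    PowerSeries.X_pow_order_mul_divXPowOrder.symm⟩

theorem order_X_pow_mul_unit (p : ℕ) (u : PowerSeries k) (hu : IsUnit u) :
    (PowerSeries.X ^ p * u).order = (p : ℕ∞) := by
  rw [PowerSeries.order_mul, PowerSeries.order_X_pow, PowerSeries.order_zero_of_unit hu, add_zero]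

theorem le_of_dvd_comb (a b m : ℕ) (w v A B : PowerSeries k)
    (hw : PowerSeries.X ^ a ∣ w) (hv : PowerSeries.X ^ b ∣ v)
    (h : (PowerSeries.X : PowerSeries k) ^ m = A * w + B * v) : a ≤ m ∨ b ≤ m := by
  by_contra hcon
  push Not at hcon
  obtain ⟨h1, h2⟩ := hcon
  have hd : (PowerSeries.X : PowerSeries k) ^ (m + 1) ∣ PowerSeries.X ^ m := by
    conv_rhs => rw [h]
    exact dvd_add (Dvd.dvd.mul_left ((pow_dvd_pow _ (by omega)).trans hw) _)
      (Dvd.dvd.mul_left ((pow_dvd_pow _ (by omega)).trans hv) _)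
  have := (PowerSeries.X_pow_dvd_iff.1 hd) m (by omega)
  rw [PowerSeries.coeff_X_pow_self] at this
  exact one_ne_zero this

theorem coeff_one_decomp (P Q : PowerSeries k) :
    PowerSeries.coeff 1 (EE k P + PowerSeries.X * EE k Q) = PowerSeries.constantCoeff Q := by
  rw [map_add, PowerSeries.coeff_expand, if_neg (by decide)]
  show 0 + PowerSeries.coeff (0 + 1) (PowerSeries.X * EE k Q) = _
  rw [PowerSeries.coeff_succ_X_mul, zero_add, PowerSeries.coeff_zero_eq_constantCoeff_apply,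
    constantCoeff_EE]

theorem even_part_dvd (h2 : (2 : k) ≠ 0) (n : ℕ) (P Q : PowerSeries k)
    (hQ : PowerSeries.constantCoeff Q ≠ 0)
    (h : PowerSeries.X ^ (2 * n) ∣ (EE k P + PowerSeries.X * EE k Q) ^ 2 -
      (NN k (EE k P + PowerSeries.X * EE k Q)) ^ 2) :
    PowerSeries.X ^ (2 * n) ∣ EE k P := by
  rw [map_add, map_mul, NN_EE, NN_EE, NN_X] at h
  have e : (EE k P + PowerSeries.X * EE k Q) ^ 2 - (EE k P + -PowerSeries.X * EE k Q) ^ 2 =
      (PowerSeries.C (4 : k) * EE k Q) * (PowerSeries.X * EE k P) := by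
    rw [map_ofNat]
    ring
  rw [e] at h
  have h4 : (4 : k) ≠ 0 := by
    have : (4 : k) = 2 * 2 := by norm_num
    rw [this]
    exact mul_ne_zero h2 h2
  have hu : IsUnit (PowerSeries.C (4 : k) * EE k Q) := by
    apply IsUnit.mul
    · exact (isUnit_iff_ne_zero.2 h4).map (PowerSeries.C : k →+* PowerSeries k)
    · exact (PowerSeries.isUnit_iff_constantCoeff.2 (isUnit_iff_ne_zero.2 hQ)).map (EE k)
  have h' := (IsUnit.dvd_mul_left hu).1 h
  rw [PowerSeries.X_pow_dvd_iff] at h' ⊢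
  intro i hi
  by_cases hev : 2 ∣ i
  · have := h' (i + 1) (by omega)
    rwa [PowerSeries.coeff_succ_X_mul] at this
  · rw [PowerSeries.coeff_expand, if_neg hev]

section Even2

variable (n : ℕ) (hrn : r = 2 * n)
  (σ : ArSing.ring k r ≃ₐ[k] ArSing.ring k r) (hσ : ∀ a, σ (σ a) = a)

include hσ in
theorem exists_theta : ∃ θ : PowerSeries k, PowerSeries.constantCoeff θ = 0 ∧
    PowerSeries.coeff 1 θ ≠ 0 ∧
    θ ^ 2 = nu k r n hrn (σ (ArSing.x k r)) ∧
    θ ^ (2 * n + 1) = nu k r n hrn (σ (ArSing.y k r)) := by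
  obtain ⟨w, hw⟩ : ∃ w, w = nu k r n hrn (σ (ArSing.x k r)) := ⟨_, rfl⟩
  obtain ⟨v, hv⟩ : ∃ v, v = nu k r n hrn (σ (ArSing.y k r)) := ⟨_, rfl⟩
  rw [← hw, ← hv]
  have hr1 : r + 1 = 2 * n + 1 := by omega
  have hvw : v * v = w ^ (2 * n + 1) := by
    rw [hv, hw, ← map_mul, ← map_mul, y_sq, map_pow, map_pow, hr1]
  have hw0 : w ≠ 0 := by
    rw [hw]
    intro h
    have h' := (map_eq_zero_iff (nu k r n hrn) (nu_injective k r n hrn)).1 h
    exact x_ne_zero k r ((map_eq_zero_iff σ σ.injective).1 h')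
  have hv0 : v ≠ 0 := by
    intro h
    rw [h, mul_zero] at hvw
    exact hw0 ((pow_eq_zero_iff (by omega)).1 hvw.symm)
  obtain ⟨a, w₀, hw₀u, hwa⟩ := exists_X_pow_mul_unit k w hw0
  obtain ⟨b, v₀, hv₀u, hvb⟩ := exists_X_pow_mul_unit k v hv0
  have hex : eps k r (σ (ArSing.x k r)) = 0 :=
    (eps_algHom k r r (σ : ArSing.ring k r →ₐ[k] ArSing.ring k r) _).trans (eps_x k r)
  have hey : eps k r (σ (ArSing.y k r)) = 0 :=
    (eps_algHom k r r (σ : ArSing.ring k r →ₐ[k] ArSing.ring k r) _).trans (eps_y k r)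
  have hcw : PowerSeries.constantCoeff w = 0 := by rw [hw, cc_projHom_xy, hex]
  have hcv : PowerSeries.constantCoeff v = 0 := by rw [hv, cc_projHom_xy, hey]
  have ha1 : 1 ≤ a := by
    rcases Nat.eq_zero_or_pos a with h | h
    · exfalso
      rw [hwa, h, pow_zero, one_mul] at hcw
      exact (PowerSeries.isUnit_iff_constantCoeff.1 hw₀u).ne_zero hcw
    · exact h
  have hb1 : 1 ≤ b := by
    rcases Nat.eq_zero_or_pos b with h | h
    · exfalso
      rw [hvb, h, pow_zero, one_mul] at hcv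
      exact (PowerSeries.isUnit_iff_constantCoeff.1 hv₀u).ne_zero hcv
    · exact h
  have e : (PowerSeries.X : PowerSeries k) ^ (2 * b) * (v₀ * v₀) =
      PowerSeries.X ^ (a * (2 * n + 1)) * w₀ ^ (2 * n + 1) := by
    calc (PowerSeries.X : PowerSeries k) ^ (2 * b) * (v₀ * v₀)
        = (PowerSeries.X ^ b * v₀) * (PowerSeries.X ^ b * v₀) := by ring
      _ = v * v := by rw [← hvb]
      _ = w ^ (2 * n + 1) := hvw
      _ = (PowerSeries.X ^ a * w₀) ^ (2 * n + 1) := by rw [← hwa]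
      _ = _ := by ring
  have hab : 2 * b = a * (2 * n + 1) := by
    have := congrArg PowerSeries.order e
    rw [order_X_pow_mul_unit k _ _ (hv₀u.mul hv₀u),
      order_X_pow_mul_unit k _ _ (hw₀u.pow _)] at this
    exact_mod_cast this
  have hv0' : v₀ * v₀ = w₀ ^ (2 * n + 1) := by
    rw [hab] at e
    exact mul_left_cancel₀ (pow_ne_zero _ PowerSeries.X_ne_zero) e
  obtain ⟨c1, d1, hcd1⟩ := Ideal.mem_span_pair.1 ((mem_ker_eps_iff k r _).1 hex)
  obtain ⟨c2, d2, hcd2⟩ := Ideal.mem_span_pair.1 ((mem_ker_eps_iff k r _).1 hey)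
  have eX : (PowerSeries.X : PowerSeries k) ^ 2 =
      nu k r n hrn (σ c1) * w + nu k r n hrn (σ d1) * v := by
    have ex := congrArg σ hcd1
    rw [map_add, map_mul, map_mul, hσ] at ex
    have := congrArg (nu k r n hrn) ex
    rw [nu_x, map_add, map_mul, map_mul, ← hw, ← hv] at this
    exact this.symm
  have eY : (PowerSeries.X : PowerSeries k) ^ (2 * n + 1) =
      nu k r n hrn (σ c2) * w + nu k r n hrn (σ d2) * v := by
    have ey := congrArg σ hcd2
    rw [map_add, map_mul, map_mul, hσ] at ey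
    have := congrArg (nu k r n hrn) ey
    rw [nu_y, map_add, map_mul, map_mul, ← hw, ← hv] at this
    exact this.symm
  have h1 : a ≤ 2 ∨ b ≤ 2 := le_of_dvd_comb k a b 2 w v _ _ ⟨w₀, hwa⟩ ⟨v₀, hvb⟩ eX
  have h2' : a ≤ 2 * n + 1 ∨ b ≤ 2 * n + 1 :=
    le_of_dvd_comb k a b (2 * n + 1) w v _ _ ⟨w₀, hwa⟩ ⟨v₀, hvb⟩ eY
  obtain ⟨ha2, hb2⟩ := ab_eq n a b ha1 hb1 hab h1 h2'
  subst ha2 hb2
  obtain ⟨w₁, hw1⟩ := hw₀u.exists_right_inv
  obtain ⟨g, hg⟩ : ∃ g, g = v₀ * w₁ ^ n := ⟨_, rfl⟩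
  have hg2 : g * g = w₀ := by
    calc g * g = (v₀ * v₀) * (w₁ ^ n * w₁ ^ n) := by
          rw [hg]
          ring
      _ = w₀ ^ (2 * n + 1) * (w₁ ^ n * w₁ ^ n) := by rw [hv0']
      _ = w₀ * (w₀ * w₁) ^ (2 * n) := by ring
      _ = w₀ := by rw [hw1, one_pow, mul_one]
  have hg3 : g ^ (2 * n + 1) = v₀ := by
    calc g ^ (2 * n + 1) = v₀ * (v₀ * v₀) ^ n * (w₁ ^ n) ^ (2 * n + 1) := by
          rw [hg]
          ring
      _ = v₀ * (w₀ ^ (2 * n + 1)) ^ n * (w₁ ^ n) ^ (2 * n + 1) := by rw [hv0']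
      _ = v₀ * (w₀ * w₁) ^ (n * (2 * n + 1)) := by ring
      _ = v₀ := by rw [hw1, one_pow, mul_one]
  have hgu : IsUnit g := by
    apply isUnit_of_mul_isUnit_left (y := g)
    rw [hg2]
    exact hw₀u
  refine ⟨PowerSeries.X * g, ?_, ?_, ?_, ?_⟩
  · rw [map_mul, PowerSeries.constantCoeff_X, zero_mul]
  · show PowerSeries.coeff (0 + 1) (PowerSeries.X * g) ≠ 0
    rw [PowerSeries.coeff_succ_X_mul, PowerSeries.coeff_zero_eq_constantCoeff_apply]
    exact (PowerSeries.isUnit_iff_constantCoeff.1 hgu).ne_zero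
  · rw [hwa, ← hg2]
    ring
  · rw [hvb, mul_pow, hg3]

include hσ in
theorem exists_sigmaTilde (h2 : (2 : k) ≠ 0) : ∃ τ : PowerSeries k ≃ₐ[k] PowerSeries k,
    (∀ a, nu k r n hrn (σ a) = τ (nu k r n hrn a)) ∧ (∀ f, τ (τ f) = f) := by
  obtain ⟨θ, hθ0, hθ1, hθ2, hθ3⟩ := exists_theta k r n hrn σ hσ
  obtain ⟨τ, hτdef⟩ : ∃ τ, τ = Groth.Agent.Helper8.PSInvol.substEquiv θ hθ0
    (isUnit_iff_ne_zero.2 hθ1) := ⟨_, rfl⟩
  have hτX : τ PowerSeries.X = θ := by
    rw [hτdef, Groth.Agent.Helper8.PSInvol.substEquiv_apply,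
      PowerSeries.subst_X (PowerSeries.HasSubst.of_constantCoeff_zero' hθ0)]
  have hx : ((nu k r n hrn).comp (σ : ArSing.ring k r →ₐ[k] ArSing.ring k r)) (ArSing.x k r) =
      ((τ : PowerSeries k →ₐ[k] PowerSeries k).comp (nu k r n hrn)) (ArSing.x k r) := by
    show nu k r n hrn (σ (ArSing.x k r)) = τ (nu k r n hrn (ArSing.x k r))
    rw [nu_x, map_pow, hτX, hθ2]
  have hy : ((nu k r n hrn).comp (σ : ArSing.ring k r →ₐ[k] ArSing.ring k r)) (ArSing.y k r) =
      ((τ : PowerSeries k →ₐ[k] PowerSeries k).comp (nu k r n hrn)) (ArSing.y k r) := by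
    show nu k r n hrn (σ (ArSing.y k r)) = τ (nu k r n hrn (ArSing.y k r))
    rw [nu_y, map_pow, hτX, hθ3]
  have hν : ∀ a, nu k r n hrn (σ a) = τ (nu k r n hrn a) := by
    intro a
    exact DFunLike.congr_fun (projHom_ext_xy k r _ _ hx hy) a
  have hinv : ∀ a, τ (τ (nu k r n hrn a)) = nu k r n hrn a := by
    intro a
    rw [← hν, ← hν, hσ]
  obtain ⟨t, ht⟩ : ∃ t, t = τ (τ PowerSeries.X) := ⟨_, rfl⟩
  have ht2 : t ^ 2 = PowerSeries.X ^ 2 := by
    have := hinv (ArSing.x k r)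
    rw [nu_x, map_pow, map_pow] at this
    rw [ht]
    exact this
  have ht3 : t ^ (2 * n + 1) = PowerSeries.X ^ (2 * n + 1) := by
    have := hinv (ArSing.y k r)
    rw [nu_y, map_pow, map_pow] at this
    rw [ht]
    exact this
  have htX : t = PowerSeries.X := by
    have h0 : (t - PowerSeries.X) * (t + PowerSeries.X) = 0 := by linear_combination ht2
    rcases mul_eq_zero.1 h0 with h | h
    · exact sub_eq_zero.1 h
    · exfalso
      have hneg : t = -PowerSeries.X := eq_neg_of_add_eq_zero_left h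
      rw [hneg, Odd.neg_pow ⟨n, rfl⟩] at ht3
      have := congrArg (PowerSeries.coeff (2 * n + 1)) ht3
      rw [map_neg, PowerSeries.coeff_X_pow_self] at this
      exact h2 (by linear_combination (-1 : k) * this)
  refine ⟨τ, hν, ?_⟩
  intro f
  have e1 : τ (τ f) = PowerSeries.subst (τ (τ PowerSeries.X)) f :=
    Groth.Agent.Helper8.PSInvol.algHom_eq_subst
      ((τ : PowerSeries k →ₐ[k] PowerSeries k).comp (τ : PowerSeries k →ₐ[k] PowerSeries k)) f
  have e2 : f = PowerSeries.subst PowerSeries.X f :=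
    Groth.Agent.Helper8.PSInvol.algHom_eq_subst (AlgHom.id k (PowerSeries k)) f
  rw [e1, ← ht, htX]
  exact e2.symm

include hrn hσ in
theorem even_main_aux (h2 : (2 : k) ≠ 0) (hne : σ ≠ AlgEquiv.refl) :
    ∃ φ : ArSing.ring k r ≃ₐ[k] ArSing.ring k r,
      φ.symm (σ (φ (ArSing.x k r))) = ArSing.x k r ∧
      φ.symm (σ (φ (ArSing.y k r))) = -ArSing.y k r := by
  obtain ⟨τ, hν, hτ⟩ := exists_sigmaTilde k r n hrn σ hσ h2
  obtain ⟨hc2, ψ, hψX, hψ⟩ := Groth.Agent.Helper8.PSInvol.main h2 τ hτ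
  obtain ⟨θ, hθ⟩ : ∃ θ, θ = τ PowerSeries.X := ⟨_, rfl⟩
  rw [← hθ] at hc2 hψX hψ
  obtain ⟨c, hc⟩ : ∃ c, c = PowerSeries.coeff 1 θ := ⟨_, rfl⟩
  rw [← hc] at hc2 hψX hψ
  have hc' : c = 1 ∨ c = -1 := by
    rw [pow_two] at hc2
    exact mul_self_eq_one_iff.1 hc2
  rcases hc' with h1 | h1
  · exfalso
    apply hne
    have hfix : ∀ f, τ f = f := by
      intro f
      have := hψ (ψ.symm f)
      rw [h1, PowerSeries.rescale_one, RingHom.id_apply, AlgEquiv.apply_symm_apply] at this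
      exact ψ.symm.injective this
    apply AlgEquiv.ext
    intro a
    apply nu_injective k r n hrn
    show nu k r n hrn (σ a) = nu k r n hrn a
    rw [hν, hfix]
  · obtain ⟨P, Q, hPQ⟩ := even_odd_decomp k θ
    have hQ : PowerSeries.constantCoeff Q ≠ 0 := by
      have : PowerSeries.coeff 1 θ = PowerSeries.constantCoeff Q := by
        rw [hPQ, coeff_one_decomp]
      rw [← this, ← hc, h1]
      exact neg_ne_zero.2 one_ne_zero
    have hw : nu k r n hrn (σ (ArSing.x k r)) = θ ^ 2 := by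
      rw [hν, nu_x, map_pow, ← hθ]
    have hdvd : PowerSeries.X ^ (2 * n) ∣ EE k P := by
      apply even_part_dvd k h2 n P Q hQ
      have := nu_inB k r n hrn (σ (ArSing.x k r))
      rw [hw, map_pow, hPQ] at this
      exact this
    obtain ⟨ψ', hψ'⟩ : ∃ ψ' : PowerSeries k ≃ₐ[k] PowerSeries k,
      ψ' = (NNe k).trans (ψ.trans (NNe k)) := ⟨_, rfl⟩
    have hψ'a : ∀ f, ψ' f = NN k (ψ (NN k f)) := by
      intro f
      rw [hψ']
      rfl
    have hψ's : ∀ f, ψ'.symm f = NN k (ψ.symm (NN k f)) := by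
      intro f
      rw [AlgEquiv.symm_apply_eq, hψ'a, NN_NN, AlgEquiv.apply_symm_apply, NN_NN]
    have hdiff : ψ PowerSeries.X - ψ' PowerSeries.X = -(EE k P) := by
      have h21 : (PowerSeries.C (2⁻¹ : k) : PowerSeries k) * PowerSeries.C (2 : k) = 1 := by
        rw [← map_mul, inv_mul_cancel₀ h2, map_one]
      rw [map_ofNat] at h21
      rw [hψ'a, NN_X, map_neg, map_neg, hψX, h1, hPQ]
      simp only [map_mul, map_add, map_neg, map_one, NN_C, NN_X, NN_EE]
      linear_combination (-(EE k P)) * h21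
    have hXdvd : PowerSeries.X ^ (2 * n) ∣ ψ PowerSeries.X - ψ' PowerSeries.X := by
      rw [hdiff]
      exact (dvd_neg).2 hdvd
    obtain ⟨hcomp1, hcomp2⟩ := compat_of_X k ψ ψ' (2 * n) hXdvd
    have hl1 : ∀ a, ∃ b, nu k r n hrn b =
        (ψ : PowerSeries k →ₐ[k] PowerSeries k) (nu k r n hrn a) := by
      intro a
      apply exists_nu_eq k r n hrn h2
      show PowerSeries.X ^ (2 * n) ∣ ψ (nu k r n hrn a) - NN k (ψ (nu k r n hrn a))
      have := hcomp1 (nu k r n hrn a) (NN k (nu k r n hrn a)) (nu_inB k r n hrn a)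
      rw [hψ'a, NN_NN] at this
      exact this
    have hl2 : ∀ a, ∃ b, nu k r n hrn b =
        (ψ.symm : PowerSeries k →ₐ[k] PowerSeries k) (nu k r n hrn a) := by
      intro a
      apply exists_nu_eq k r n hrn h2
      show PowerSeries.X ^ (2 * n) ∣ ψ.symm (nu k r n hrn a) - NN k (ψ.symm (nu k r n hrn a))
      have := hcomp2 (nu k r n hrn a) (NN k (nu k r n hrn a)) (nu_inB k r n hrn a)
      rw [hψ's, NN_NN] at this
      exact this
    obtain ⟨Φ, hΦ⟩ : ∃ Φ, Φ = liftNuEquiv k r n hrn ψ hl1 hl2 := ⟨_, rfl⟩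
    have hΦ1 : ∀ a, nu k r n hrn (Φ a) = ψ (nu k r n hrn a) := by
      intro a
      rw [hΦ]
      exact nu_liftNuEquiv k r n hrn ψ hl1 hl2 a
    have hΦ2 : ∀ a, nu k r n hrn (Φ.symm a) = ψ.symm (nu k r n hrn a) := by
      intro a
      rw [hΦ]
      exact nu_liftNuEquiv_symm k r n hrn ψ hl1 hl2 a
    have key : ∀ a, nu k r n hrn (Φ.symm (σ (Φ a))) = NN k (nu k r n hrn a) := by
      intro a
      rw [hΦ2, hν, hΦ1, hψ, h1]
    refine ⟨Φ, ?_, ?_⟩
    · apply nu_injective k r n hrn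
      rw [key, nu_x, map_pow, NN_X, neg_sq]
    · apply nu_injective k r n hrn
      rw [key, map_neg, nu_y, map_pow, NN_X, Odd.neg_pow ⟨n, rfl⟩]

end Even2

theorem even_main (h2 : (2 : k) ≠ 0) (hev : Even r)
    (σ : ArSing.ring k r ≃ₐ[k] ArSing.ring k r) (hσ : ∀ a, σ (σ a) = a)
    (hne : σ ≠ AlgEquiv.refl) :
    ∃ φ : ArSing.ring k r ≃ₐ[k] ArSing.ring k r,
      φ.symm (σ (φ (ArSing.x k r))) = ArSing.x k r ∧
      φ.symm (σ (φ (ArSing.y k r))) = -ArSing.y k r := by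
  obtain ⟨n, hn⟩ := hev
  exact even_main_aux k r n (by omega) σ hσ h2 hne

end Groth.Agent.Helper6.ArS
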