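import Groth.Prelude.Def_ArtFun3
import Mathlib.RingTheory.Length
import Mathlib.RingTheory.Artinian.Ring
import Mathlib.RingTheory.HopkinsLevitzki
import Mathlib.RingTheory.Jacobson.Ideal
import Mathlib.Tactic

set_option autoImplicit false
universe u v
open CategoryTheory

namespace Groth.Agent.Helper6

open ArtFun ArtFun.Art

variable {Λ : Type u} {k : Type u} [CommRing Λ] [Field k] [Algebra Λ k]

/-- A bijective morphism in `Art Λ k` is an isomorphism. -/
theorem isIso_of_bijective {A B : Art Λ k} (f : B ⟶ A) (hf : Function.Bijective f) : IsIso f := by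
  let e : B ≃ₐ[Λ] A := AlgEquiv.ofBijective f.toAlgHom hf
  have he : ∀ b, e b = f b := fun b => rfl
  refine ⟨⟨⟨(e.symm : A →ₐ[Λ] B), ?_⟩, ?_, ?_⟩⟩
  · apply AlgHom.ext
    intro a
    obtain ⟨b, rfl⟩ := hf.2 a
    change B.res (e.symm (e b)) = A.res (f b)
    rw [e.symm_apply_apply, Art.res_app]
  · apply Art.hom_ext
    apply AlgHom.ext
    intro b
    change e.symm (e b) = b
    exact e.symm_apply_apply b
  · apply Art.hom_ext
    apply AlgHom.ext
    intro a
    change e (e.symm a) = a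
    exact e.apply_symm_apply a

/-- The kernel of a morphism is contained in the maximal ideal. -/
theorem ker_le_maximalIdeal {A B : Art Λ k} (f : B ⟶ A) :
    RingHom.ker f.toAlgHom ≤ IsLocalRing.maximalIdeal B := by
  intro x hx
  rw [Art.mem_maximalIdeal_iff, ← Art.res_app f]
  have : f x = 0 := hx
  rw [this, map_zero]

/-- The maximal ideal of an Artinian local ring is nilpotent. -/
theorem exists_maximalIdeal_pow_eq_bot (B : Art Λ k) : ∃ n : ℕ, IsLocalRing.maximalIdeal B ^ n = ⊥ := by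
  have h := IsArtinianRing.isNilpotent_jacobson_bot (R := B)
  rw [IsLocalRing.jacobson_eq_maximalIdeal ⊥ bot_ne_top] at h
  obtain ⟨n, hn⟩ := h
  exact ⟨n, by simpa using hn⟩

/-- In a nonzero ideal of an Artinian local ring there is a nonzero element killed by the maximal ideal. -/
theorem exists_socle_elt (B : Art Λ k) (I : Ideal B) (hI : I ≠ ⊥) :
    ∃ x ∈ I, x ≠ 0 ∧ ∀ a ∈ IsLocalRing.maximalIdeal B, a * x = 0 := by
  classical
  obtain ⟨n, hn⟩ := exists_maximalIdeal_pow_eq_bot B
  have hex : ∃ j : ℕ, IsLocalRing.maximalIdeal B ^ j * I = ⊥ := ⟨n, by rw [hn, Ideal.bot_mul]⟩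
  obtain ⟨j, hj, hmin⟩ : ∃ j : ℕ, IsLocalRing.maximalIdeal B ^ j * I = ⊥ ∧
      ∀ i < j, ¬ (IsLocalRing.maximalIdeal B ^ i * I = ⊥) :=
    ⟨Nat.find hex, Nat.find_spec hex, fun i hi => Nat.find_min hex hi⟩
  have hj0 : j ≠ 0 := by
    intro h0
    rw [h0, pow_zero, one_mul] at hj
    exact hI hj
  obtain ⟨j', rfl⟩ := Nat.exists_eq_succ_of_ne_zero hj0
  have hmin' := hmin j' (Nat.lt_succ_self j')
  obtain ⟨x, hx, hx0⟩ : ∃ x ∈ IsLocalRing.maximalIdeal B ^ j' * I, x ≠ 0 := by
    by_contra hcon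
    push Not at hcon
    exact hmin' (eq_bot_iff.2 fun x hx => (Submodule.mem_bot B).2 (hcon x hx))
  have hxI : x ∈ I := (Ideal.mul_le_right : IsLocalRing.maximalIdeal B ^ j' * I ≤ I) hx
  refine ⟨x, hxI, hx0, ?_⟩
  intro a ha
  have : a * x ∈ IsLocalRing.maximalIdeal B ^ (j' + 1) * I := by
    rw [pow_succ', mul_assoc]
    exact Ideal.mul_mem_mul ha hx
  rw [hj] at this
  exact (Submodule.mem_bot B).1 this

theorem ker_quotMk (C : Art Λ k) (K : Ideal C) (hK : K ≤ IsLocalRing.maximalIdeal C) :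
    RingHom.ker (quotMk C K hK).toAlgHom = K := by
  ext x
  rw [RingHom.mem_ker]
  change Ideal.Quotient.mk K x = 0 ↔ x ∈ K
  exact Ideal.Quotient.eq_zero_iff_mem

theorem length_quot_lt (C : Art Λ k) (K : Ideal C) (hK : K ≤ IsLocalRing.maximalIdeal C) (hK0 : K ≠ ⊥) :
    Module.length (quot C K hK) (quot C K hK) < Module.length C C := by
  have h1 : Module.length C (C ⧸ K) = Module.length (C ⧸ K) (C ⧸ K) :=
    Module.length_eq_of_surjective (S := C) (R := C ⧸ K) (M := C ⧸ K) Ideal.Quotient.mk_surjective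
  have h2 : Module.length C (C ⧸ K) < Module.length C C := Submodule.length_quotient_lt K hK0
  change Module.length (C ⧸ K) (C ⧸ K) < Module.length C C
  rw [← h1]
  exact h2

/-- Induction principle: every surjection in `Art Λ k` is a composite of small extensions. -/
theorem surjective_induction_smallExt
    (P : ∀ ⦃A B : ArtFun.Art Λ k⦄, (B ⟶ A) → Prop)
    (hiso : ∀ ⦃A B : ArtFun.Art Λ k⦄ (e : B ⟶ A), IsIso e → P e)
    (hsmall : ∀ ⦃A B : ArtFun.Art Λ k⦄ (p : B ⟶ A), ArtFun.Art.IsSmallExt p → P p)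
    (hcomp : ∀ ⦃A B C : ArtFun.Art Λ k⦄ (p : C ⟶ B) (q : B ⟶ A), P p → P q → P (p ≫ q))
    ⦃A B : ArtFun.Art Λ k⦄ (f : B ⟶ A) (hf : Function.Surjective f) : P f := by
  suffices H : ∀ (n : ℕ∞) ⦃A B : Art Λ k⦄ (f : B ⟶ A), Module.length B B = n →
      Function.Surjective f → P f from H _ f rfl hf
  intro n
  induction n using WellFoundedLT.induction with
  | ind n ih =>
    intro A B f hn hf
    by_cases hker : RingHom.ker f.toAlgHom = ⊥
    · apply hiso
      apply isIso_of_bijective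
      refine ⟨?_, hf⟩
      exact (RingHom.injective_iff_ker_eq_bot (f.toAlgHom : B →+* A)).2 hker
    · obtain ⟨x, hxker, hx0, hmx⟩ := exists_socle_elt B _ hker
      have hKker : Ideal.span {x} ≤ RingHom.ker f.toAlgHom := (Ideal.span_singleton_le_iff_mem _).2 hxker
      have hK : Ideal.span {x} ≤ IsLocalRing.maximalIdeal B := hKker.trans (ker_le_maximalIdeal f)
      have hK0 : Ideal.span {x} ≠ ⊥ := by
        rw [Ne, Ideal.span_singleton_eq_bot]; exact hx0
      rw [← quotMk_quotFactor hK f hKker]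
      apply hcomp
      · apply hsmall
        refine ⟨quotMk_surjective B _ hK, ?_, ?_, ?_⟩
        · rw [ker_quotMk]; exact hK0
        · rw [ker_quotMk]; exact ⟨⟨x, rfl⟩⟩
        · rw [ker_quotMk, eq_bot_iff, Ideal.mul_le]
          intro a ha b hb
          obtain ⟨c, rfl⟩ := Ideal.mem_span_singleton'.1 hb
          rw [Submodule.mem_bot, mul_left_comm, hmx a ha, mul_zero]
      · refine ih _ ?_ _ rfl ?_
        · rw [← hn]; exact length_quot_lt B _ hK hK0
        · intro a
          obtain ⟨b, rfl⟩ := hf a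
          exact ⟨quotMk B _ hK b, rfl⟩

end Groth.Agent.Helper6
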