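import Groth.Agent.Helper6.ArtFunTorsor

set_option autoImplicit false
universe u v
open CategoryTheory

namespace Groth.Agent.Helper6

open ArtFun ArtFun.Art IsLocalRing

variable {Λ : Type u} {k : Type u} [CommRing Λ] [Field k] [Algebra Λ k]

/-- `ε` as an element of the object `k[ε]`. -/
def dualEps : (dual Λ k : Art Λ k) := (TrivSqZeroExt.inr (1 : k) : DualNumber k)

theorem ker_toBase_dual_eq (x : (dual Λ k : Art Λ k)) :
    x ∈ RingHom.ker (toBase (dual Λ k)).toAlgHom ↔ TrivSqZeroExt.fst (show DualNumber k from x) = 0 := by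
  rw [RingHom.mem_ker]
  rfl

theorem dual_mul_eq_zero (a b : (dual Λ k : Art Λ k)) (ha : TrivSqZeroExt.fst (show DualNumber k from a) = 0)
    (hb : TrivSqZeroExt.fst (show DualNumber k from b) = 0) : a * b = 0 := by
  change ((show DualNumber k from a) * (show DualNumber k from b) : DualNumber k) = 0
  apply TrivSqZeroExt.ext
  · rw [TrivSqZeroExt.fst_mul, ha, zero_mul, TrivSqZeroExt.fst_zero]
  · rw [TrivSqZeroExt.snd_mul, ha, hb, zero_smul, TrivSqZeroExt.snd_zero]
    simp

theorem dual_eq_mul_eps (x : (dual Λ k : Art Λ k)) (hx : TrivSqZeroExt.fst (show DualNumber k from x) = 0) :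
    ∃ a : (dual Λ k : Art Λ k), a * dualEps = x := by
  refine ⟨(TrivSqZeroExt.inl (TrivSqZeroExt.snd (show DualNumber k from x)) : DualNumber k), ?_⟩
  change ((TrivSqZeroExt.inl (TrivSqZeroExt.snd (show DualNumber k from x)) : DualNumber k) *
    (TrivSqZeroExt.inr (1 : k) : DualNumber k) : DualNumber k) = (show DualNumber k from x)
  apply TrivSqZeroExt.ext
  · rw [TrivSqZeroExt.fst_mul, TrivSqZeroExt.fst_inr, mul_zero, hx]
  · rw [TrivSqZeroExt.snd_mul, TrivSqZeroExt.fst_inl, TrivSqZeroExt.snd_inr, TrivSqZeroExt.fst_inr]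
    simp

/-- The augmentation `k[ε] → k` is a small extension. -/
theorem isSmallExt_toBase_dual : IsSmallExt (toBase (dual Λ k)) := by
  have hε : (dualEps : (dual Λ k : Art Λ k)) ∈ RingHom.ker (toBase (dual Λ k)).toAlgHom := by
    rw [ker_toBase_dual_eq]
    exact TrivSqZeroExt.fst_inr k (1 : k)
  refine ⟨dual_toBase_surjective, ?_, ?_, ?_⟩
  · intro h
    rw [h, Ideal.mem_bot] at hε
    have := congrArg (fun t : (dual Λ k : Art Λ k) => TrivSqZeroExt.snd (show DualNumber k from t)) hε
    exact one_ne_zero this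
  · refine ⟨⟨(dualEps : (dual Λ k : Art Λ k)), ?_⟩⟩
    apply le_antisymm
    · intro x hx
      change x ∈ RingHom.ker (toBase (dual Λ k)).toAlgHom at hx
      rw [ker_toBase_dual_eq] at hx
      change x ∈ Ideal.span _
      rw [Ideal.mem_span_singleton']
      exact dual_eq_mul_eps x hx
    · change Ideal.span _ ≤ _
      rw [Ideal.span_le]
      intro x hx
      rw [Set.mem_singleton_iff] at hx
      rw [hx]
      exact hε
  · rw [← le_bot_iff, Ideal.mul_le]
    intro a ha b hb
    rw [Ideal.mem_bot]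
    apply dual_mul_eq_zero
    · exact (Art.mem_maximalIdeal_iff (dual Λ k) a).1 ha
    · exact (ker_toBase_dual_eq b).1 hb

end Groth.Agent.Helper6
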