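import Groth.Agent.Helper6.ArtFunBasic
import Groth.Prelude.Def_ArtFun2

set_option autoImplicit false
universe u v
open CategoryTheory

namespace Groth.Agent.Helper6

open ArtFun ArtFun.Art

variable {Λ : Type u} {k : Type u} [CommRing Λ] [Field k] [Algebra Λ k]

section Lift

variable {R : Type u} [CommRing R] [Algebra Λ R]
variable {B A A' A'' : Art Λ k} {p' : B ⟶ A'} {p'' : B ⟶ A''} {f' : A' ⟶ A} {f'' : A'' ⟶ A}

/-- Algebra maps into the corner of a fibre-product square. -/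
theorem IsFibreProd.exists_algHom_lift (h : IsFibreProd p' p'' f' f'')
    (φ' : R →ₐ[Λ] A') (φ'' : R →ₐ[Λ] A'') (hc : ∀ r, f' (φ' r) = f'' (φ'' r)) :
    ∃ χ : R →ₐ[Λ] B, (∀ r, p' (χ r) = φ' r) ∧ (∀ r, p'' (χ r) = φ'' r) := by
  choose g hg1 hg2 using fun r => h.surj (φ' r) (φ'' r) (hc r)
  have hg1' : ∀ r, p'.toAlgHom (g r) = φ' r := hg1
  have hg2' : ∀ r, p''.toAlgHom (g r) = φ'' r := hg2
  have inj : ∀ b₁ b₂ : B, p'.toAlgHom b₁ = p'.toAlgHom b₂ → p''.toAlgHom b₁ = p''.toAlgHom b₂ → b₁ = b₂ :=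
    h.inj
  refine ⟨{ toFun := g, map_one' := ?_, map_mul' := ?_, map_zero' := ?_, map_add' := ?_, commutes' := ?_ },
    hg1, hg2⟩
  · apply inj <;> simp [hg1', hg2']
  · intro x y; apply inj <;> simp [hg1', hg2']
  · apply inj <;> simp [hg1', hg2']
  · intro x y; apply inj <;> simp [hg1', hg2']
  · intro r; apply inj <;> simp [hg1', hg2']

/-- Elements of `h_R` lift to the corner of a fibre-product square. -/
theorem IsFibreProd.exists_homSet_lift {resR : R →ₐ[Λ] k} (h : IsFibreProd p' p'' f' f'')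
    (φ' : HomSet R resR A') (φ'' : HomSet R resR A'')
    (hc : HomSet.map f' φ' = HomSet.map f'' φ'') :
    ∃ χ : HomSet R resR B, HomSet.map p' χ = φ' ∧ HomSet.map p'' χ = φ'' := by
  have hc' : ∀ r, f' (φ'.1 r) = f'' (φ''.1 r) := fun r => congrArg (fun t => t.1 r) hc
  obtain ⟨χ, h1, h2⟩ := IsFibreProd.exists_algHom_lift h φ'.1 φ''.1 hc'
  refine ⟨⟨χ, ?_⟩, Subtype.ext (AlgHom.ext h1), Subtype.ext (AlgHom.ext h2)⟩
  apply AlgHom.ext
  intro r
  change B.res (χ r) = resR r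
  rw [← Art.res_app p', h1 r]
  exact congrArg (fun t : R →ₐ[Λ] k => t r) φ'.2

/-- Two elements of `h_R(B)` with the same projections agree. -/
theorem IsFibreProd.homSet_ext {resR : R →ₐ[Λ] k} (h : IsFibreProd p' p'' f' f'')
    (χ₁ χ₂ : HomSet R resR B) (h1 : HomSet.map p' χ₁ = HomSet.map p' χ₂)
    (h2 : HomSet.map p'' χ₁ = HomSet.map p'' χ₂) : χ₁ = χ₂ := by
  apply Subtype.ext
  apply AlgHom.ext
  intro r
  exact h.inj _ _ (congrArg (fun t => t.1 r) h1) (congrArg (fun t => t.1 r) h2)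

/-- The first projection of a fibre product square is surjective when the second structure map is. -/
theorem IsFibreProd.surjective_fst (h : IsFibreProd p' p'' f' f'') (hf'' : Function.Surjective f'') :
    Function.Surjective p' := by
  intro a'
  obtain ⟨a'', ha''⟩ := hf'' (f' a')
  obtain ⟨b, hb, _⟩ := h.surj a' a'' ha''.symm
  exact ⟨b, hb⟩

end Lift

end Groth.Agent.Helper6

namespace Groth.Agent.Helper6

open ArtFun ArtFun.Art

variable {Λ : Type u} {k : Type u} [CommRing Λ] [Field k] [Algebra Λ k]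

section Versal

variable {R : Type u} [CommRing R] [Algebra Λ R] {resR : R →ₐ[Λ] k} {F : Art Λ k ⥤ Type v}

/-- The unique element of `h_R(k)`. -/
def basePt (R : Type u) [CommRing R] [Algebra Λ R] (resR : R →ₐ[Λ] k) : HomSet R resR (base Λ k) :=
  ⟨resR, AlgHom.id_comp _⟩

theorem homSet_base_eq (φ : HomSet R resR (base Λ k)) : φ = basePt R resR :=
  Subtype.ext ((AlgHom.id_comp _).symm.trans φ.2)

/-- A versal family of a functor with `F(k)` a point is surjective on every object. -/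
theorem surjective_app_of_isVersal (ξ : Family R resR F) (hξ : IsVersal ξ) (h0 : H0 F) (A : Art Λ k) :
    Function.Surjective (ξ.app A) := by
  intro a
  have := h0.2
  have hsurj : Function.Surjective (toBase A) := A.res_surjective
  obtain ⟨ψ, _, hψ⟩ := hξ (toBase A) hsurj (basePt R resR) a (Subsingleton.elim _ _)
  exact ⟨ψ, hψ⟩

/-- A strongly surjective versal family forces `(S1)`. -/
theorem s1_of_isVersal_of_surjective (ξ : Family R resR F) (hξ : IsVersal ξ)
    (hsurj : ∀ A : Art Λ k, Function.Surjective (ξ.app A)) : S1 F := by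
  intro B A A' A'' p' p'' f' f'' h hf'' y
  obtain ⟨⟨a', a''⟩, hy⟩ := y
  have hy' : F.map f' a' = F.map f'' a'' := hy
  obtain ⟨φ', rfl⟩ := hsurj A' a'
  have h1 : F.map f'' a'' = ξ.app A (HomSet.map f' φ') := by
    rw [← hy', ξ.natural]
  obtain ⟨ψ'', hψ1, hψ2⟩ := hξ f'' hf'' (HomSet.map f' φ') a'' h1
  obtain ⟨χ, hχ1, hχ2⟩ := IsFibreProd.exists_homSet_lift h φ' ψ'' hψ1.symm
  refine ⟨ξ.app B χ, Subtype.ext (Prod.ext ?_ ?_)⟩
  · change F.map p' (ξ.app B χ) = ξ.app A' φ'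
    rw [← ξ.natural, hχ1]
  · change F.map p'' (ξ.app B χ) = a''
    rw [← ξ.natural, hχ2, hψ2]

end Versal

end Groth.Agent.Helper6

namespace Groth.Agent.Helper6

open ArtFun ArtFun.Art

variable {Λ : Type u} {k : Type u} [CommRing Λ] [Field k] [Algebra Λ k]

section HomLift

variable {B A A' A'' : Art Λ k} {p' : B ⟶ A'} {p'' : B ⟶ A''} {f' : A' ⟶ A} {f'' : A'' ⟶ A}

/-- The universal property of a fibre-product square for morphisms of `Art Λ k`. -/
theorem IsFibreProd.exists_hom_lift (h : IsFibreProd p' p'' f' f'') {C : Art Λ k}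
    (g' : C ⟶ A') (g'' : C ⟶ A'') (hc : g' ≫ f' = g'' ≫ f'') :
    ∃ l : C ⟶ B, l ≫ p' = g' ∧ l ≫ p'' = g'' := by
  have hc' : ∀ r, f' (g'.toAlgHom r) = f'' (g''.toAlgHom r) := fun r =>
    congrArg (fun t : C ⟶ A => t.toAlgHom r) hc
  obtain ⟨χ, h1, h2⟩ := IsFibreProd.exists_algHom_lift h g'.toAlgHom g''.toAlgHom hc'
  refine ⟨⟨χ, ?_⟩, Art.hom_ext (AlgHom.ext h1), Art.hom_ext (AlgHom.ext h2)⟩
  apply AlgHom.ext
  intro r
  change B.res (χ r) = C.res r
  rw [← Art.res_app p', h1 r]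
  exact Art.res_app g' r

theorem surjective_of_isIso {A B : Art Λ k} (e : B ⟶ A) [IsIso e] : Function.Surjective e := by
  intro a
  refine ⟨(inv e) a, ?_⟩
  have : (inv e ≫ e) a = a := by rw [IsIso.inv_hom_id]; rfl
  exact this

theorem surjective_comp {A B C : Art Λ k} (p : C ⟶ B) (q : B ⟶ A) (hp : Function.Surjective p)
    (hq : Function.Surjective q) : Function.Surjective (p ≫ q) := by
  intro a
  obtain ⟨b, rfl⟩ := hq a
  obtain ⟨c, rfl⟩ := hp b
  exact ⟨c, rfl⟩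

end HomLift

end Groth.Agent.Helper6

namespace Groth.Agent.Helper6

open ArtFun ArtFun.Art

variable {Λ : Type u} {k : Type u} [CommRing Λ] [Field k] [Algebra Λ k]

theorem IsFibreProd.hom_ext {B A A' A'' : Art Λ k} {p' : B ⟶ A'} {p'' : B ⟶ A''} {f' : A' ⟶ A}
    {f'' : A'' ⟶ A} (h : IsFibreProd p' p'' f' f'') {C : Art Λ k} (l₁ l₂ : C ⟶ B)
    (h1 : l₁ ≫ p' = l₂ ≫ p') (h2 : l₁ ≫ p'' = l₂ ≫ p'') : l₁ = l₂ := by
  apply Art.hom_ext
  apply AlgHom.ext
  intro c
  exact h.inj _ _ (congrArg (fun t : C ⟶ A' => t.toAlgHom c) h1)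
    (congrArg (fun t : C ⟶ A'' => t.toAlgHom c) h2)

end Groth.Agent.Helper6
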