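import Groth.Agent.Helper6.ArtFunFibre
import Groth.Prelude.Def_ArtFun5
import Mathlib.RingTheory.AdicCompletion.RingHom

set_option autoImplicit false
universe u v
open CategoryTheory

namespace Groth.Agent.Helper6

open ArtFun ArtFun.Art IsLocalRing

variable {Λ : Type u} {k : Type u} [CommRing Λ] [Field k] [Algebra Λ k]

theorem truncMap_surjective (R : CRing Λ k) (n : ℕ) : Function.Surjective (R.truncMap n) := by
  intro x
  obtain ⟨a, rfl⟩ := Ideal.Quotient.mk_surjective x
  exact ⟨Ideal.Quotient.mk _ a, rfl⟩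

/-- Two elements of a complete local ring which agree modulo every power of the maximal ideal are equal. -/
theorem CRing.eq_of_forall_mk_eq (S : CRing Λ k) (x y : S.carrier)
    (h : ∀ n : ℕ, Ideal.Quotient.mk (S.mpow n) x = Ideal.Quotient.mk (S.mpow n) y) : x = y := by
  have hH := S.isAdicComplete.toIsHausdorff
  have := hH.haus' (x - y) (by
    intro n
    rw [SModEq.zero, smul_eq_mul, Ideal.mul_top]
    have := h n
    rw [Ideal.Quotient.eq] at this
    exact Ideal.pow_le_pow_right (Nat.le_succ n) this)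
  exact sub_eq_zero.1 this

/-- A compatible system of algebra maps into the truncations of a complete local ring lifts to the ring. -/
theorem CRing.exists_algHom_lift (S : CRing Λ k) {A : Type u} [CommRing A] [Algebra Λ A]
    (φ : ∀ n : ℕ, A →ₐ[Λ] (S.trunc n))
    (hφ : ∀ n, (S.truncMap n).toAlgHom.comp (φ (n + 1)) = φ n) :
    ∃ g : A →ₐ[Λ] S.carrier, ∀ n, (S.truncHom n).1.comp g = φ n := by
  have := S.isAdicComplete
  have ha : StrictMono (fun n : ℕ => n + 1) := fun a b h => Nat.succ_lt_succ h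
  let f : ∀ n : ℕ, A →+* S.carrier ⧸ (maximalIdeal S.carrier) ^ (n + 1) := fun n => (φ n).toRingHom
  have hf : ∀ {m : ℕ}, (Ideal.Quotient.factorPow (maximalIdeal S.carrier) (ha.monotone m.le_succ)).comp (f (m + 1)) = f m := by
    intro m
    apply RingHom.ext
    intro a
    have h1 : (S.truncMap m).toAlgHom (φ (m + 1) a) = φ m a :=
      congrArg (fun t : A →ₐ[Λ] (S.trunc m) => t a) (hφ m)
    change Ideal.Quotient.factorPow (maximalIdeal S.carrier) (ha.monotone m.le_succ) (φ (m + 1) a) = φ m a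
    rw [← h1]
    generalize φ (m + 1) a = y
    obtain ⟨s, rfl⟩ := Ideal.Quotient.mk_surjective y
    rfl
  let g₀ : A →+* S.carrier := IsAdicComplete.StrictMono.liftRingHom (maximalIdeal S.carrier) ha f hf
  have hg₀ : ∀ (n : ℕ) (a : A), Ideal.Quotient.mk (S.mpow n) (g₀ a) = φ n a := fun n a =>
    IsAdicComplete.StrictMono.mk_liftRingHom (maximalIdeal S.carrier) ha f hf a
  have hcomm : ∀ r : Λ, g₀ (algebraMap Λ A r) = algebraMap Λ S.carrier r := by
    intro r
    apply CRing.eq_of_forall_mk_eq S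
    intro n
    rw [hg₀, (φ n).commutes]
    rfl
  refine ⟨{ g₀ with commutes' := hcomm }, ?_⟩
  intro n
  apply AlgHom.ext
  intro a
  exact hg₀ n a

end Groth.Agent.Helper6

namespace Groth.Agent.Helper6

open ArtFun ArtFun.Art IsLocalRing

variable {Λ : Type u} {k : Type u} [CommRing Λ] [Field k] [Algebra Λ k]

/-- Every formal element is induced from a versal family which is surjective on objects. -/
theorem exists_along_toFormalElt_eq {F : Art Λ k ⥤ Type v} (R : CRing Λ k) (ξ : Family R.carrier R.res F)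
    (hξ : IsVersal ξ) (hsurj0 : ∀ A : Art Λ k, Function.Surjective (ξ.app A))
    (S : CRing Λ k) (η : FormalElt F S) :
    ∃ (g : R.carrier →ₐ[Λ] S.carrier) (hg : S.res.comp g = R.res), (ξ.along g hg).toFormalElt = η := by
  classical
  have hstep : ∀ (n : ℕ) (prev : {φ : HomSet R.carrier R.res (S.trunc n) // ξ.app _ φ = η.elt n}),
      ∃ ψ : HomSet R.carrier R.res (S.trunc (n + 1)),
        ξ.app _ ψ = η.elt (n + 1) ∧ HomSet.map (S.truncMap n) ψ = prev.1 := by
    intro n prev
    have hc : F.map (S.truncMap n) (η.elt (n + 1)) = ξ.app _ prev.1 := (η.compat n).trans prev.2.symm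
    obtain ⟨ψ, h1, h2⟩ := hξ (S.truncMap n) (truncMap_surjective S n) prev.1 (η.elt (n + 1)) hc
    exact ⟨ψ, h2, h1⟩
  let seq : ∀ n : ℕ, {φ : HomSet R.carrier R.res (S.trunc n) // ξ.app _ φ = η.elt n} := fun n =>
    Nat.rec (motive := fun n => {φ : HomSet R.carrier R.res (S.trunc n) // ξ.app _ φ = η.elt n})
      ⟨Classical.choose (hsurj0 _ (η.elt 0)), Classical.choose_spec (hsurj0 _ (η.elt 0))⟩
      (fun n prev => ⟨Classical.choose (hstep n prev), (Classical.choose_spec (hstep n prev)).1⟩) n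
  have hseq : ∀ n, HomSet.map (S.truncMap n) (seq (n + 1)).1 = (seq n).1 := fun n =>
    (Classical.choose_spec (hstep n (seq n))).2
  obtain ⟨g, hg⟩ := CRing.exists_algHom_lift S (fun n => (seq n).1.1)
    (fun n => congrArg Subtype.val (hseq n))
  have hres : S.res.comp g = R.res := by
    have h1 : S.res = (S.trunc 0).res.comp (S.truncHom 0).1 := (S.truncHom 0).2.symm
    rw [h1, AlgHom.comp_assoc, hg 0]
    exact (seq 0).1.2
  refine ⟨g, hres, ?_⟩
  apply FormalElt.ext'
  intro n
  change ξ.app _ ⟨(S.truncHom n).1.comp g, _⟩ = η.elt n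
  rw [← (seq n).2]
  congr 1
  exact Subtype.ext (hg n)

/-- Every element of `h_R(A)` factors through a truncation of `R`. -/
theorem exists_trunc_factor (R : CRing Λ k) {A : Art Λ k} (u : HomSet R.carrier R.res A) :
    ∃ (n : ℕ) (ū : R.trunc n ⟶ A), HomSet.map ū (R.truncHom n) = u := by
  obtain ⟨N, hN⟩ := exists_maximalIdeal_pow_eq_bot A
  have hN' : maximalIdeal A ^ (N + 1) = ⊥ := by
    rw [pow_succ, hN, Ideal.bot_mul]
  have hle : maximalIdeal R.carrier ≤ (maximalIdeal A).comap u.1 := by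
    intro a ha
    rw [Ideal.mem_comap, Art.mem_maximalIdeal_iff]
    rw [CRing.mem_maximalIdeal_iff] at ha
    have : A.res (u.1 a) = R.res a := congrArg (fun t : R.carrier →ₐ[Λ] k => t a) u.2
    rw [this, ha]
  have hker : ∀ a ∈ R.mpow N, u.1 a = 0 := by
    intro a ha
    have h1 : Ideal.map u.1 (R.mpow N) ≤ maximalIdeal A ^ (N + 1) := by
      change Ideal.map u.1 (maximalIdeal R.carrier ^ (N + 1)) ≤ _
      rw [Ideal.map_pow]
      exact Ideal.pow_right_mono (Ideal.map_le_iff_le_comap.2 hle) _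
    have h2 := h1 (Ideal.mem_map_of_mem u.1 ha)
    rw [hN'] at h2
    exact (Submodule.mem_bot _).1 h2
  refine ⟨N, ⟨Ideal.Quotient.liftₐ (R.mpow N) u.1 hker, ?_⟩, ?_⟩
  · apply AlgHom.ext
    intro x
    obtain ⟨a, rfl⟩ := Ideal.Quotient.mk_surjective x
    exact congrArg (fun t : R.carrier →ₐ[Λ] k => t a) u.2
  · apply Subtype.ext
    apply AlgHom.ext
    intro a
    rfl

end Groth.Agent.Helper6
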