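import Groth.Agent.Helper6.ArtFunTorsor

set_option autoImplicit false
universe u v
open CategoryTheory

namespace Groth.Agent.Helper6

open ArtFun ArtFun.Art IsLocalRing

variable {Λ : Type u} {k : Type u} [CommRing Λ] [Field k] [Algebra Λ k]

/-- Injectivity half of (RS). -/
def RSInj (F : Art Λ k ⥤ Type v) : Prop :=
  ∀ ⦃B A A' A'' : Art Λ k⦄ (p' : B ⟶ A') (p'' : B ⟶ A'') (f' : A' ⟶ A) (f'' : A'' ⟶ A)
    (h : IsFibreProd p' p'' f' f''), Function.Surjective f'' → Function.Injective (cmp F h)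

/-- Injectivity propagates along small extensions for a morphism of functors which is injective on
tangent spaces; the source only needs `(S1)` and `(S2)`, the target the injectivity half of `(RS)`. -/
theorem injective_app_of_smallExt' {F G : Art Λ k ⥤ Type v} (hF1 : S1 F) (hF2 : Heps F) (hG : RSInj G)
    (φ : F ⟶ G) (hd : Function.Injective (TangentSpace.map φ))
    {B A : Art Λ k} (μ : B ⟶ A) (hμ : IsSmallExt μ) (hA : Function.Injective (φ.app A)) :
    Function.Injective (φ.app B) := by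
  intro f₁ f₂ h12
  obtain ⟨D, pr₁, pr₂, α, hD1, hD2, hα⟩ := exists_torsor_square μ hμ
  have hfib : F.map μ f₁ = F.map μ f₂ := by
    apply hA
    rw [NatTrans.naturality_apply φ μ f₁, NatTrans.naturality_apply φ μ f₂, h12]
  obtain ⟨dF, hdF⟩ := hF1 pr₁ α μ μ hD2 hμ.1 ⟨(f₁, f₂), hfib⟩
  have hdF1 : F.map pr₁ dF = f₁ := congrArg (fun t => t.1.1) hdF
  have hdF2 : F.map α dF = f₂ := congrArg (fun t => t.1.2) hdF
  obtain ⟨σ, hσ1, hσ2⟩ := IsFibreProd.exists_hom_lift hD1 (𝟙 B) (toBase B ≫ baseToDual)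
    (by rw [eq_toBase (𝟙 B ≫ toBase B), eq_toBase ((toBase B ≫ baseToDual) ≫ toBase _)])
  have hσ3 : σ ≫ α = 𝟙 B := by
    apply Art.hom_ext
    apply AlgHom.ext
    intro b
    have h1 : pr₁ (σ b) = b := congrArg (fun t : B ⟶ B => t.toAlgHom b) hσ1
    have h2 : pr₂ (σ b) = (toBase B ≫ baseToDual) b := congrArg (fun t : B ⟶ dual Λ k => t.toAlgHom b) hσ2
    have h3 : TrivSqZeroExt.snd (show DualNumber k from pr₂ (σ b)) = 0 := by
      rw [h2]
      rfl
    have := hα (σ b) h3
    change α (σ b) = b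
    rw [this, h1]
  have hφd : φ.app D dF = G.map σ (φ.app B f₁) := by
    apply hG pr₁ α μ μ hD2 hμ.1
    apply Subtype.ext
    apply Prod.ext
    · change G.map pr₁ (φ.app D dF) = G.map pr₁ (G.map σ (φ.app B f₁))
      rw [← Functor.map_comp_apply G σ pr₁, hσ1, Functor.map_id_apply, ← hdF1]
      exact (NatTrans.naturality_apply φ pr₁ dF).symm
    · change G.map α (φ.app D dF) = G.map α (G.map σ (φ.app B f₁))
      rw [← Functor.map_comp_apply G σ α, hσ3, Functor.map_id_apply, h12, ← hdF2]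
      exact (NatTrans.naturality_apply φ α dF).symm
  have hw : F.map pr₂ dF = F.map pr₂ (F.map σ f₁) := by
    apply hd
    change φ.app (dual Λ k) (F.map pr₂ dF) = φ.app (dual Λ k) (F.map pr₂ (F.map σ f₁))
    rw [NatTrans.naturality_apply φ pr₂ dF, hφd, NatTrans.naturality_apply φ pr₂ (F.map σ f₁),
      NatTrans.naturality_apply φ σ f₁]
  have hdFσ : dF = F.map σ f₁ := by
    apply (hF2 pr₁ pr₂ hD1).1
    apply Subtype.ext
    apply Prod.ext
    · change F.map pr₁ dF = F.map pr₁ (F.map σ f₁)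
      rw [hdF1, ← Functor.map_comp_apply F σ pr₁, hσ1, Functor.map_id_apply]
    · exact hw
  rw [← hdF2, hdFσ, ← Functor.map_comp_apply F σ α, hσ3, Functor.map_id_apply]

/-- A morphism of functors which is injective on tangent spaces is injective on every object
(source: `H0`, `(S1)`, `(S2)`; target: injectivity half of `(RS)`). -/
theorem injective_app_of_tangent_injective'
    {F G : Art Λ k ⥤ Type v} (hF0 : H0 F) (hF1 : S1 F) (hF2 : Heps F) (hG : RSInj G)
    (φ : F ⟶ G) (hd : Function.Injective (TangentSpace.map φ)) (A : Art Λ k) :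
    Function.Injective (φ.app A) := by
  have key := surjective_induction_smallExt
    (fun (A B : Art Λ k) (_ : B ⟶ A) => Function.Injective (φ.app A) → Function.Injective (φ.app B))
    ?_ ?_ ?_ (toBase A) A.res_surjective
  · apply key
    intro a b _
    have := hF0.2
    exact Subsingleton.elim _ _
  · intro A B e he hA f₁ f₂ h12
    have h1 : F.map e f₁ = F.map e f₂ := by
      apply hA
      rw [NatTrans.naturality_apply φ e f₁, NatTrans.naturality_apply φ e f₂, h12]
    have e1 : F.map (inv e) (F.map e f₁) = f₁ := by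
      rw [← Functor.map_comp_apply F e (inv e), IsIso.hom_inv_id, Functor.map_id_apply]
    have e2 : F.map (inv e) (F.map e f₂) = f₂ := by
      rw [← Functor.map_comp_apply F e (inv e), IsIso.hom_inv_id, Functor.map_id_apply]
    rw [← e1, ← e2, h1]
  · intro A B μ hμ hA
    exact injective_app_of_smallExt' hF1 hF2 hG φ hd μ hμ hA
  · intro A B C p q hp hq hA
    exact hp (hq hA)

/-- Smooth morphisms compose. -/
theorem isSmooth_comp {F G H : Art Λ k ⥤ Type v} (φ : F ⟶ G) (ψ : G ⟶ H) (hφ : IsSmooth φ)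
    (hψ : IsSmooth ψ) : IsSmooth (φ ≫ ψ) := by
  intro B A μ hμ y
  obtain ⟨⟨x, h⟩, hy⟩ := y
  have hy' : ψ.app A (φ.app A x) = H.map μ h := hy
  obtain ⟨g, hg⟩ := hψ μ hμ ⟨(φ.app A x, h), hy'⟩
  have hg1 : G.map μ g = φ.app A x := congrArg (fun t => t.1.1) hg
  have hg2 : ψ.app B g = h := congrArg (fun t => t.1.2) hg
  obtain ⟨f, hf⟩ := hφ μ hμ ⟨(x, g), hg1.symm⟩
  have hf1 : F.map μ f = x := congrArg (fun t => t.1.1) hf
  have hf2 : φ.app B f = g := congrArg (fun t => t.1.2) hf
  refine ⟨f, Subtype.ext (Prod.ext hf1 ?_)⟩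
  change ψ.app B (φ.app B f) = h
  rw [hf2, hg2]

/-- A smooth morphism between functors with one-point `F(k)`, `G(k)` is surjective on every object. -/
theorem surjective_app_of_isSmooth {F G : Art Λ k ⥤ Type v} (η : F ⟶ G) (hη : IsSmooth η)
    (hF : H0 F) (hG : H0 G) (A : Art Λ k) : Function.Surjective (η.app A) := by
  intro g
  obtain ⟨x0⟩ := hF.1
  have hx0 : η.app _ x0 = G.map (toBase A) g := hG.2.elim _ _
  obtain ⟨f, hf⟩ := hη (toBase A) A.res_surjective ⟨(x0, g), hx0⟩
  exact ⟨f, congrArg (fun t => t.1.2) hf⟩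

end Groth.Agent.Helper6
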