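import Mathlib
import Groth.Agent.Helper6.ArtFunBasic
import Groth.Agent.Helper6.ArtFunFibre

set_option autoImplicit false
universe u v
open CategoryTheory

namespace Groth.Agent.Helper6

open ArtFun ArtFun.Art IsLocalRing

variable {Λ : Type u} {k : Type u} [CommRing Λ] [Field k] [Algebra Λ k]

section Compl

/-- complements of ideals inside an ideal killed by the maximal ideal. -/
theorem exists_ideal_compl {B : Type u} [CommRing B] [IsLocalRing B] (K : Ideal B)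
    (hK : maximalIdeal B * K = ⊥) (N : Ideal B) (hN : N ≤ K) :
    ∃ C : Ideal B, C ≤ K ∧ C ⊓ N = ⊥ ∧ C ⊔ N = K := by
  have htors : Module.IsTorsionBySet B ↥K (maximalIdeal B : Set B) := by
    intro x a
    apply Subtype.ext
    have : (a : B) * (x : B) ∈ maximalIdeal B * K := Ideal.mul_mem_mul a.2 x.2
    rw [hK] at this
    exact this
  letI := htors.module
  letI : Field (B ⧸ maximalIdeal B) := Ideal.Quotient.field _
  haveI : IsSemisimpleModule (B ⧸ maximalIdeal B) ↥K := inferInstance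
  haveI : IsSemisimpleModule B ↥K := htors.isSemisimpleModule_iff.1 inferInstance
  obtain ⟨C', hC'⟩ := exists_isCompl (Submodule.comap K.subtype N)
  refine ⟨Submodule.map K.subtype C', ?_, ?_, ?_⟩
  · rintro _ ⟨c, -, rfl⟩
    exact c.2
  · rw [eq_bot_iff]
    rintro _ ⟨⟨c, hc, rfl⟩, hcN⟩
    have h1 : c ∈ Submodule.comap K.subtype N ⊓ C' := ⟨hcN, hc⟩
    rw [hC'.inf_eq_bot] at h1
    have : c = 0 := h1
    rw [this]
    exact zero_mem _
  · apply le_antisymm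
    · refine sup_le ?_ hN
      rintro _ ⟨c, -, rfl⟩
      exact c.2
    · intro x hx
      have h1 : (⟨x, hx⟩ : ↥K) ∈ Submodule.comap K.subtype N ⊔ C' := by
        rw [hC'.sup_eq_top]; trivial
      obtain ⟨n, hn, c, hc, hnc⟩ := Submodule.mem_sup.1 h1
      have : x = (c : B) + (n : B) := by
        have := congrArg Subtype.val hnc
        simp only [Submodule.coe_add] at this
        rw [← this, add_comm]
      rw [this]
      exact Submodule.add_mem_sup ⟨c, hc, rfl⟩ hn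

end Compl

section Least

variable {F : Art Λ k ⥤ Type v} {B A : Art Λ k} (p : B ⟶ A)

/-- `x` lifts to `B/J`. -/
def LiftsTo (x : F.obj A) (J : Ideal B) : Prop :=
  ∃ (hJ : J ≤ RingHom.ker p.toAlgHom) (hJ' : J ≤ maximalIdeal B),
    ∃ y : F.obj (Art.quot B J hJ'), F.map (Art.quotFactor hJ' p hJ) y = x

/-- the transition map `B/J → B/J'`. -/
noncomputable def quotTrans {J J' : Ideal B} (hJ : J ≤ maximalIdeal B) (hJ' : J' ≤ maximalIdeal B)
    (hle : J ≤ J') : Art.quot B J hJ ⟶ Art.quot B J' hJ' :=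
  Art.quotFactor hJ (Art.quotMk B J' hJ') (by
    intro b hb
    rw [RingHom.mem_ker]
    show Ideal.Quotient.mk J' b = 0
    exact Ideal.Quotient.eq_zero_iff_mem.2 (hle hb))

theorem quotTrans_mk {J J' : Ideal B} (hJ : J ≤ maximalIdeal B) (hJ' : J' ≤ maximalIdeal B)
    (hle : J ≤ J') (b : B) :
    quotTrans hJ hJ' hle (Ideal.Quotient.mk J b) = Ideal.Quotient.mk J' b := rfl

theorem quotFactor_mk {J : Ideal B} (hJ : J ≤ maximalIdeal B)
    (hJk : J ≤ RingHom.ker p.toAlgHom) (b : B) :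
    Art.quotFactor hJ p hJk (Ideal.Quotient.mk J b) = p b := rfl

theorem quotTrans_quotFactor {J J' : Ideal B} (hJ : J ≤ maximalIdeal B) (hJ' : J' ≤ maximalIdeal B)
    (hle : J ≤ J') (hJk : J ≤ RingHom.ker p.toAlgHom) (hJk' : J' ≤ RingHom.ker p.toAlgHom) :
    quotTrans hJ hJ' hle ≫ Art.quotFactor hJ' p hJk' = Art.quotFactor hJ p hJk := by
  apply Art.hom_ext
  apply AlgHom.ext
  intro z
  obtain ⟨b, rfl⟩ := Ideal.Quotient.mk_surjective z
  rfl

theorem LiftsTo.mono {x : F.obj A} {J J' : Ideal B} (h : LiftsTo p x J) (hle : J ≤ J')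
    (hJ' : J' ≤ RingHom.ker p.toAlgHom) : LiftsTo p x J' := by
  obtain ⟨hJk, hJm, y, hy⟩ := h
  have hJ'm : J' ≤ maximalIdeal B := hJ'.trans (ker_le_maximalIdeal p)
  refine ⟨hJ', hJ'm, F.map (quotTrans hJm hJ'm hle) y, ?_⟩
  rw [← FunctorToTypes.map_comp_apply, quotTrans_quotFactor p hJm hJ'm hle hJk hJ', hy]

theorem liftsTo_ker (hp : Function.Surjective p) (x : F.obj A) :
    LiftsTo p x (RingHom.ker p.toAlgHom) := by
  have hm := ker_le_maximalIdeal p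
  refine ⟨le_rfl, hm, ?_⟩
  have hbij : Function.Bijective (Art.quotFactor hm p le_rfl) := by
    constructor
    · intro z z' h
      obtain ⟨b, rfl⟩ := Ideal.Quotient.mk_surjective z
      obtain ⟨b', rfl⟩ := Ideal.Quotient.mk_surjective z'
      rw [quotFactor_mk, quotFactor_mk] at h
      refine Ideal.Quotient.eq.2 ?_
      rw [RingHom.mem_ker, map_sub]
      exact sub_eq_zero.2 h
    · intro a
      obtain ⟨b, rfl⟩ := hp a
      exact ⟨Ideal.Quotient.mk _ b, rfl⟩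
  haveI := isIso_of_bijective _ hbij
  refine ⟨F.map (inv (Art.quotFactor hm p le_rfl)) x, ?_⟩
  rw [← FunctorToTypes.map_comp_apply, IsIso.inv_hom_id, FunctorToTypes.map_id_apply]

theorem isFibreProd_inf {J₁ J₂ : Ideal B} (h₁ : J₁ ≤ RingHom.ker p.toAlgHom)
    (h₂ : J₂ ≤ RingHom.ker p.toAlgHom) (hsup : J₁ ⊔ J₂ = RingHom.ker p.toAlgHom)
    (hm₁ : J₁ ≤ maximalIdeal B) (hm₂ : J₂ ≤ maximalIdeal B) (hm : J₁ ⊓ J₂ ≤ maximalIdeal B) :
    IsFibreProd (quotTrans hm hm₁ inf_le_left) (quotTrans hm hm₂ inf_le_right)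
      (Art.quotFactor hm₁ p h₁) (Art.quotFactor hm₂ p h₂) where
  w := by
    rw [quotTrans_quotFactor p hm hm₁ inf_le_left (inf_le_left.trans h₁) h₁,
      quotTrans_quotFactor p hm hm₂ inf_le_right (inf_le_left.trans h₁) h₂]
  inj := by
    intro z z' e₁ e₂
    obtain ⟨b, rfl⟩ := Ideal.Quotient.mk_surjective z
    obtain ⟨b', rfl⟩ := Ideal.Quotient.mk_surjective z'
    rw [quotTrans_mk, quotTrans_mk] at e₁ e₂
    exact Ideal.Quotient.eq.2 ⟨Ideal.Quotient.eq.1 e₁, Ideal.Quotient.eq.1 e₂⟩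
  surj := by
    intro a' a'' h
    obtain ⟨b', rfl⟩ := Ideal.Quotient.mk_surjective a'
    obtain ⟨b'', rfl⟩ := Ideal.Quotient.mk_surjective a''
    rw [quotFactor_mk, quotFactor_mk] at h
    have hk : b' - b'' ∈ J₁ ⊔ J₂ := by
      rw [hsup, RingHom.mem_ker, map_sub]
      exact sub_eq_zero.2 h
    obtain ⟨j₁, hj₁, j₂, hj₂, hj⟩ := Submodule.mem_sup.1 hk
    refine ⟨Ideal.Quotient.mk _ (b' - j₁), ?_, ?_⟩
    · rw [quotTrans_mk]
      refine Ideal.Quotient.eq.2 ?_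
      have : b' - j₁ - b' = -j₁ := by ring
      rw [this]
      exact neg_mem hj₁
    · rw [quotTrans_mk]
      refine Ideal.Quotient.eq.2 ?_
      have : b' - j₁ - b'' = j₂ := by
        have : b' = j₁ + j₂ + b'' := by rw [hj]; ring
        rw [this]; ring
      rw [this]
      exact hj₂

theorem quotFactor_surjective (hp : Function.Surjective p) {J : Ideal B} (hJ : J ≤ maximalIdeal B)
    (hJk : J ≤ RingHom.ker p.toAlgHom) : Function.Surjective (Art.quotFactor hJ p hJk) := by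
  intro a
  obtain ⟨b, rfl⟩ := hp a
  exact ⟨Ideal.Quotient.mk _ b, rfl⟩

theorem LiftsTo.inf_of_sup (h1 : S1 F) (hp : Function.Surjective p) {x : F.obj A} {J₁ J₂ : Ideal B}
    (hl₁ : LiftsTo p x J₁) (hl₂ : LiftsTo p x J₂) (hsup : J₁ ⊔ J₂ = RingHom.ker p.toAlgHom) :
    LiftsTo p x (J₁ ⊓ J₂) := by
  obtain ⟨h₁, hm₁, y₁, hy₁⟩ := hl₁
  obtain ⟨h₂, hm₂, y₂, hy₂⟩ := hl₂
  have hm : J₁ ⊓ J₂ ≤ maximalIdeal B := inf_le_left.trans hm₁
  have hfp := isFibreProd_inf p h₁ h₂ hsup hm₁ hm₂ hm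
  have hs := h1 _ _ _ _ hfp (quotFactor_surjective p hp hm₂ h₂)
  obtain ⟨z, hz⟩ := hs ⟨(y₁, y₂), by rw [hy₁, hy₂]⟩
  have hz1 : F.map (quotTrans hm hm₁ inf_le_left) z = y₁ := congrArg (fun w => w.1.1) hz
  refine ⟨inf_le_left.trans h₁, hm, z, ?_⟩
  rw [← quotTrans_quotFactor p hm hm₁ inf_le_left (inf_le_left.trans h₁) h₁,
    FunctorToTypes.map_comp_apply, hz1, hy₁]

theorem LiftsTo.inf (h1 : S1 F) (hp : IsSemismallExt p) {x : F.obj A} {J₁ J₂ : Ideal B}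
    (hl₁ : LiftsTo p x J₁) (hl₂ : LiftsTo p x J₂) : LiftsTo p x (J₁ ⊓ J₂) := by
  have h₁ := hl₁.1
  have h₂ := hl₂.1
  obtain ⟨C, hCK, hCinf, hCsup⟩ := exists_ideal_compl (RingHom.ker p.toAlgHom) hp.2 (J₁ ⊔ J₂)
    (sup_le h₁ h₂)
  have hl₂' : LiftsTo p x (J₂ ⊔ C) := hl₂.mono p le_sup_left (sup_le h₂ hCK)
  have hsup : J₁ ⊔ (J₂ ⊔ C) = RingHom.ker p.toAlgHom := by
    rw [← sup_assoc, sup_comm, hCsup]
  have hinf : J₁ ⊓ (J₂ ⊔ C) = J₁ ⊓ J₂ := by
    apply le_antisymm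
    · rintro b ⟨hb₁, hb₂⟩
      obtain ⟨j₂, hj₂, c, hc, hjc⟩ := Submodule.mem_sup.1 hb₂
      have hc0 : c ∈ C ⊓ (J₁ ⊔ J₂) := by
        refine ⟨hc, ?_⟩
        have : c = b - j₂ := by rw [← hjc]; ring
        rw [this]
        exact sub_mem (Ideal.mem_sup_left hb₁) (Ideal.mem_sup_right hj₂)
      rw [hCinf] at hc0
      have hc0' : c = 0 := hc0
      rw [hc0', add_zero] at hjc
      rw [← hjc]
      exact ⟨by rw [hjc]; exact hb₁, hj₂⟩
    · exact inf_le_inf_left _ le_sup_left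
  have := LiftsTo.inf_of_sup p h1 hp.1 hl₁ hl₂' hsup
  rwa [hinf] at this

theorem exists_least (h1 : S1 F) (hp : IsSemismallExt p) (x : F.obj A) :
    ∃ (J₀ : Ideal B) (hJ₀ : J₀ ≤ RingHom.ker p.toAlgHom) (hJ₀' : J₀ ≤ IsLocalRing.maximalIdeal B),
      (∃ y : F.obj (ArtFun.Art.quot B J₀ hJ₀'), F.map (ArtFun.Art.quotFactor hJ₀' p hJ₀) y = x) ∧
      ∀ (J : Ideal B) (hJ : J ≤ RingHom.ker p.toAlgHom) (hJ' : J ≤ IsLocalRing.maximalIdeal B),
        (∃ y : F.obj (ArtFun.Art.quot B J hJ'), F.map (ArtFun.Art.quotFactor hJ' p hJ) y = x) → J₀ ≤ J := by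
  have hne : {J : Ideal B | LiftsTo p x J}.Nonempty := ⟨_, liftsTo_ker p hp.1 x⟩
  haveI : IsArtinian B B := inferInstance
  obtain ⟨J₀, hJ₀mem, hmin⟩ := IsArtinian.set_has_minimal _ hne
  obtain ⟨hJ₀, hJ₀', y, hy⟩ := id hJ₀mem
  refine ⟨J₀, hJ₀, hJ₀', ⟨y, hy⟩, ?_⟩
  intro J hJ hJ' ⟨y', hy'⟩
  have hl : LiftsTo p x J := ⟨hJ, hJ', y', hy'⟩
  have hinf : LiftsTo p x (J₀ ⊓ J) := LiftsTo.inf p h1 hp hJ₀mem hl
  have hnlt := hmin _ hinf
  have : J₀ ⊓ J = J₀ := by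
    by_contra hne'
    exact hnlt (lt_of_le_of_ne inf_le_left hne')
  rw [← this]
  exact inf_le_right

end Least

end Groth.Agent.Helper6
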