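import Groth.Prelude.Def_ArtFun5
import Groth.Prelude.Def_W4sfdMinVersal
import Mathlib.RingTheory.Nakayama
import Mathlib.RingTheory.AdicCompletion.Functoriality
import Mathlib.RingTheory.Jacobson.Ideal
import Mathlib.Tactic

set_option autoImplicit false
universe u v
open CategoryTheory

namespace Groth.Agent.Helper6

open ArtFun IsLocalRing

variable {Λ : Type u} {k : Type u} [CommRing Λ] [Field k] [Algebra Λ k]

theorem CRing.map_maximalIdeal_le {R S : CRing Λ k} (f : R.carrier →ₐ[Λ] S.carrier) (hf : S.res.comp f = R.res) :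
    Ideal.map f (maximalIdeal R.carrier) ≤ maximalIdeal S.carrier :=
  Ideal.map_le_iff_le_comap.2 (CRing.maximalIdeal_le_comap f hf)

theorem CRing.map_maximalIdeal_eq_of_surjective {R S : CRing Λ k} (f : R.carrier →ₐ[Λ] S.carrier)
    (hf : S.res.comp f = R.res) (hs : Function.Surjective f) :
    Ideal.map f (maximalIdeal R.carrier) = maximalIdeal S.carrier := by
  apply le_antisymm (CRing.map_maximalIdeal_le f hf)
  intro y hy
  obtain ⟨x, rfl⟩ := hs y
  apply Ideal.mem_map_of_mem
  rw [CRing.mem_maximalIdeal_iff] at hy ⊢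
  rw [← CRing.res_comp_apply f hf]
  exact hy

/-- Complete Nakayama: a morphism of coefficient rings which is surjective on cotangent spaces is surjective. -/
theorem CRing.surjective_of_map_maximalIdeal_sup_sq {R S : CRing Λ k} (f : R.carrier →ₐ[Λ] S.carrier)
    (hf : S.res.comp f = R.res)
    (h : Ideal.map f (maximalIdeal R.carrier) ⊔ maximalIdeal S.carrier ^ 2 = maximalIdeal S.carrier) :
    Function.Surjective f := by
  have ha : maximalIdeal S.carrier ≤ Ideal.map f (maximalIdeal R.carrier) := by
    apply Submodule.le_of_le_smul_of_le_jacobson_bot (I := maximalIdeal S.carrier)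
      (IsNoetherian.noetherian (maximalIdeal S.carrier))
    · rw [jacobson_eq_maximalIdeal ⊥ bot_ne_top]
    · rw [smul_eq_mul, ← pow_two, h]
  have ha' : Ideal.map f (maximalIdeal R.carrier) = maximalIdeal S.carrier :=
    le_antisymm (CRing.map_maximalIdeal_le f hf) ha
  have hR := R.isAdicComplete
  have hS := S.isAdicComplete
  have hpre : IsPrecomplete (maximalIdeal R.carrier) R.carrier := hR.toIsPrecomplete
  have hhaus : IsHausdorff ((maximalIdeal R.carrier).map (f : R.carrier →+* S.carrier)) S.carrier := by
    have : (maximalIdeal R.carrier).map (f : R.carrier →+* S.carrier) = maximalIdeal S.carrier := ha'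
    rw [this]
    exact hS.toIsHausdorff
  apply surjective_of_mk_map_comp_surjective (I := maximalIdeal R.carrier) (f : R.carrier →+* S.carrier)
  intro y
  obtain ⟨s, rfl⟩ := Ideal.Quotient.mk_surjective y
  obtain ⟨r, hr⟩ := R.res_surjective (S.res s)
  refine ⟨r, ?_⟩
  change Ideal.Quotient.mk _ (f r) = Ideal.Quotient.mk _ s
  rw [Ideal.Quotient.eq]
  have : (maximalIdeal R.carrier).map (f : R.carrier →+* S.carrier) = maximalIdeal S.carrier := ha'
  rw [this, CRing.mem_maximalIdeal_iff, map_sub, CRing.res_comp_apply f hf, hr, sub_self]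

end Groth.Agent.Helper6
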