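import Mathlib.RingTheory.Derivation.Basic
import Mathlib.RingTheory.LocalRing.MaximalIdeal.Basic
import Mathlib.RingTheory.Ideal.Quotient.Operations
import Mathlib.LinearAlgebra.Dual.Lemmas
import Mathlib.Tactic

set_option autoImplicit false
universe u v

namespace Groth.Agent.Helper6

open IsLocalRing

section

variable {Λ : Type u} {k : Type u} [CommRing Λ] [Field k] [Algebra Λ k]
variable {R : Type u} [CommRing R] [Algebra Λ R]
variable {S : Type u} [CommRing S] [Algebra Λ S] [IsLocalRing S] [Algebra S k] [IsScalarTower Λ S k]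

theorem mem_maximalIdeal_iff_algebraMap_eq_zero (hres : Function.Surjective (algebraMap S k)) (a : S) :
    a ∈ maximalIdeal S ↔ algebraMap S k a = 0 := by
  have hmax : (RingHom.ker (algebraMap S k)).IsMaximal :=
    RingHom.ker_isMaximal_of_surjective (algebraMap S k) hres
  rw [← IsLocalRing.eq_maximalIdeal hmax, RingHom.mem_ker]

/-- If the image of `R` together with `m_S²` does not generate `m_S`, there is a nonzero `Λ`-derivation `S → k`
vanishing on the image of `R`. -/
theorem exists_derivation_vanishing_on_range (hres : Function.Surjective (algebraMap S k))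
    (f : R →ₐ[Λ] S) (hρ : Function.Surjective fun r => algebraMap S k (f r))
    (hJ : Ideal.map f (RingHom.ker ((algebraMap S k).comp (f : R →+* S))) ⊔ maximalIdeal S ^ 2 ≠ maximalIdeal S) :
    ∃ D : Derivation Λ S k, D ≠ 0 ∧ ∀ r, D (f r) = 0 := by
  classical
  set ρ : R →+* k := (algebraMap S k).comp (f : R →+* S) with hρdef
  have hρ' : Function.Surjective ρ := hρ
  set J : Ideal S := Ideal.map f (RingHom.ker ρ) ⊔ maximalIdeal S ^ 2 with hJdef
  have hmem := mem_maximalIdeal_iff_algebraMap_eq_zero (S := S) (k := k) hres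
  have hJle : J ≤ maximalIdeal S := by
    apply sup_le
    · rw [Ideal.map_le_iff_le_comap]
      intro r hr
      rw [Ideal.mem_comap, hmem]
      exact hr
    · exact Ideal.pow_le_self two_ne_zero
  -- an element of m_S outside J
  obtain ⟨x₀, hx₀m, hx₀J⟩ : ∃ x₀, x₀ ∈ maximalIdeal S ∧ x₀ ∉ J := by
    by_contra hcon
    push Not at hcon
    exact hJ (le_antisymm hJle hcon)
  -- the quotient
  let π : S →+* S ⧸ J := Ideal.Quotient.mk J
  have hπ0 : ∀ s, s ∈ J → π s = 0 := fun s hs => Ideal.Quotient.eq_zero_iff_mem.2 hs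
  let resbar : S ⧸ J →+* k := Ideal.Quotient.lift J (algebraMap S k) (fun a ha => (hmem a).1 (hJle ha))
  have hresbar : ∀ s, resbar (π s) = algebraMap S k s := fun s => rfl
  -- the copy of k inside the quotient
  have hker : ∀ r, r ∈ RingHom.ker ρ → (π.comp (f : R →+* S)) r = 0 := by
    intro r hr
    apply hπ0
    exact Ideal.mem_sup_left (Ideal.mem_map_of_mem f hr)
  let ι₀ : R ⧸ RingHom.ker ρ →+* S ⧸ J := Ideal.Quotient.lift (RingHom.ker ρ) (π.comp (f : R →+* S)) hker
  let e : R ⧸ RingHom.ker ρ ≃+* k := RingHom.quotientKerEquivOfSurjective hρ'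
  let ι : k →+* S ⧸ J := ι₀.comp (e.symm : k →+* R ⧸ RingHom.ker ρ)
  have hι : ∀ r, ι (ρ r) = π (f r) := by
    intro r
    have h1 : e (Ideal.Quotient.mk _ r) = ρ r := rfl
    have h2 : e.symm (ρ r) = Ideal.Quotient.mk _ r := by rw [← h1, e.symm_apply_apply]
    change ι₀ (e.symm (ρ r)) = π (f r)
    rw [h2]
    rfl
  have hresι : ∀ c, resbar (ι c) = c := by
    intro c
    obtain ⟨r, rfl⟩ := hρ' c
    rw [hι, hresbar]
    rfl
  let algk : Algebra k (S ⧸ J) := ι.toAlgebra
  have hsmul : ∀ (c : k) (x : S ⧸ J), c • x = ι c * x := fun c x => rfl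
  have hx₀ne : π x₀ ≠ 0 := fun h => hx₀J (Ideal.Quotient.eq_zero_iff_mem.1 h)
  -- the functional
  have hnotmem : π x₀ ∉ Submodule.span k {(1 : S ⧸ J)} := by
    intro hmem'
    obtain ⟨c, hc⟩ := Submodule.mem_span_singleton.1 hmem'
    rw [hsmul, mul_one] at hc
    have h1 : resbar (ι c) = resbar (π x₀) := by rw [hc]
    rw [hresι, hresbar, (hmem x₀).1 hx₀m] at h1
    rw [h1, map_zero] at hc
    exact hx₀ne hc.symm
  obtain ⟨l, hl1, hl2⟩ := Submodule.exists_dual_map_eq_bot_of_notMem hnotmem inferInstance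
  have hl1' : l 1 = 0 := by
    have : l 1 ∈ (Submodule.span k {(1 : S ⧸ J)}).map l :=
      Submodule.mem_map_of_mem (Submodule.subset_span rfl)
    rw [hl2] at this
    exact (Submodule.mem_bot k).1 this
  have hlι : ∀ c, l (ι c) = 0 := by
    intro c
    have : ι c = c • (1 : S ⧸ J) := by rw [hsmul, mul_one]
    rw [this, map_smul, hl1', smul_zero]
  have hlιmul : ∀ c x, l (ι c * x) = c * l x := by
    intro c x
    rw [← hsmul, map_smul, smul_eq_mul]
  -- nilpotent parts multiply to zero
  have hnil : ∀ s t : S, s ∈ maximalIdeal S → t ∈ maximalIdeal S → π s * π t = 0 := by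
    intro s t hs ht
    rw [← map_mul]
    apply hπ0
    apply Ideal.mem_sup_right
    rw [pow_two]
    exact Ideal.mul_mem_mul hs ht
  -- the key formula
  have hkey : ∀ s t : S, l (π (s * t)) = algebraMap S k s * l (π t) + algebraMap S k t * l (π s) := by
    intro s t
    obtain ⟨r, hr⟩ := hρ' (algebraMap S k s)
    obtain ⟨r', hr'⟩ := hρ' (algebraMap S k t)
    have hs : s - f r ∈ maximalIdeal S := by
      rw [hmem, map_sub, sub_eq_zero]; exact hr.symm
    have ht : t - f r' ∈ maximalIdeal S := by
      rw [hmem, map_sub, sub_eq_zero]; exact hr'.symm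
    have h0 := hnil _ _ hs ht
    rw [map_sub, map_sub, ← hι, ← hι, hr, hr'] at h0
    have h1 : π (s * t) = ι (algebraMap S k s) * π t + ι (algebraMap S k t) * π s -
        ι (algebraMap S k s * algebraMap S k t) := by
      rw [map_mul, map_mul]
      linear_combination h0
    rw [h1, map_sub, map_add, hlιmul, hlιmul, hlι, sub_zero]
  -- Λ-linearity
  have hΛ : ∀ (a : Λ) (s : S), l (π (a • s)) = a • l (π s) := by
    intro a s
    rw [Algebra.smul_def, hkey]
    have h1 : algebraMap S k (algebraMap Λ S a) = algebraMap Λ k a :=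
      (IsScalarTower.algebraMap_apply Λ S k a).symm
    have h2 : π (algebraMap Λ S a) = ι (algebraMap Λ k a) := by
      have : algebraMap Λ S a = f (algebraMap Λ R a) := (f.commutes a).symm
      rw [this, ← hι]
      congr 1
      change algebraMap S k (f (algebraMap Λ R a)) = _
      rw [f.commutes, h1]
    rw [h1, h2, hlι, mul_zero, add_zero, Algebra.smul_def]
  let Dlin : S →ₗ[Λ] k :=
    { toFun := fun s => l (π s)
      map_add' := fun s t => by rw [map_add, map_add]
      map_smul' := fun a s => hΛ a s }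
  have hD1 : Dlin 1 = 0 := by
    change l (π 1) = 0
    rw [map_one, hl1']
  have hDleib : ∀ s t : S, Dlin (s * t) = s • Dlin t + t • Dlin s := by
    intro s t
    change l (π (s * t)) = s • l (π t) + t • l (π s)
    rw [hkey, Algebra.smul_def, Algebra.smul_def]
  refine ⟨⟨Dlin, hD1, hDleib⟩, ?_, ?_⟩
  · intro h0
    have : l (π x₀) = 0 := congrArg (fun D : Derivation Λ S k => D x₀) h0
    exact hl1 this
  · intro r
    change l (π (f r)) = 0
    rw [← hι, hlι]

end

end Groth.Agent.Helper6
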