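import Groth.Agent.Helper6.ArtFunFormal
import Groth.Agent.Helper6.DerivationSeparation
import Groth.Agent.Helper6.CRingNakayama
import Groth.Prelude.Def_W4sfdMinVersal

set_option autoImplicit false
universe u v
open CategoryTheory

namespace Groth.Agent.Helper6

open ArtFun ArtFun.Art IsLocalRing

variable {Λ : Type u} {k : Type u} [CommRing Λ] [Field k] [Algebra Λ k]

/-- The formal element of a family transported along `g` is the pushforward of its formal element. -/
theorem along_toFormalElt_eq_push {F : Art Λ k ⥤ Type v} {R S : CRing Λ k} (ξ : Family R.carrier R.res F)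
    (g : R.carrier →ₐ[Λ] S.carrier) (hg : S.res.comp g = R.res) :
    (ξ.along g hg).toFormalElt = ξ.toFormalElt.push g hg := by
  apply FormalElt.ext'
  intro n
  change ξ.app _ ⟨(S.truncHom n).1.comp g, _⟩ = F.map (CRing.truncMapOfHom g hg n) (ξ.app _ (R.truncHom n))
  rw [← ξ.natural]
  congr 1

theorem push_push {F : Art Λ k ⥤ Type v} {R₁ R₂ R₃ : CRing Λ k} (u : FormalElt F R₁)
    (f : R₁.carrier →ₐ[Λ] R₂.carrier) (hf : R₂.res.comp f = R₁.res)
    (g : R₂.carrier →ₐ[Λ] R₃.carrier) (hg : R₃.res.comp g = R₂.res) :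
    (u.push f hf).push g hg = u.push (g.comp f) (by rw [← AlgHom.comp_assoc, hg, hf]) := by
  apply FormalElt.ext'
  intro n
  change F.map (CRing.truncMapOfHom g hg n) (F.map (CRing.truncMapOfHom f hf n) (u.elt n)) =
    F.map (CRing.truncMapOfHom (g.comp f) _ n) (u.elt n)
  have hcomp : CRing.truncMapOfHom f hf n ≫ CRing.truncMapOfHom g hg n =
      CRing.truncMapOfHom (g.comp f) (by rw [← AlgHom.comp_assoc, hg, hf]) n := by
    apply Art.hom_ext
    apply AlgHom.ext
    intro x
    obtain ⟨a, rfl⟩ := Ideal.Quotient.mk_surjective x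
    rfl
  rw [← Functor.map_comp_apply F, hcomp]

/-- A surjective ring endomorphism of a Noetherian ring is injective. -/
theorem injective_of_surjective_endo {R : Type*} [CommRing R] [IsNoetherianRing R] (φ : R →+* R)
    (hφ : Function.Surjective φ) : Function.Injective φ := by
  -- the chain of kernels of the iterates
  let K : ℕ →o Ideal R :=
    { toFun := fun n => RingHom.ker (φ ^ n)
      monotone' := by
        intro m n hmn x hx
        rw [RingHom.mem_ker] at hx ⊢
        obtain ⟨d, rfl⟩ := Nat.exists_eq_add_of_le hmn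
        rw [add_comm, pow_add]
        change (φ ^ d) ((φ ^ m) x) = 0
        rw [hx, map_zero] }
  obtain ⟨n, hn⟩ := monotone_stabilizes_iff_noetherian.2 (inferInstance : IsNoetherian R R) K
  have hpowsurj : ∀ m : ℕ, Function.Surjective (φ ^ m) := by
    intro m
    induction m with
    | zero => intro x; exact ⟨x, rfl⟩
    | succ m ih =>
      intro x
      obtain ⟨y, rfl⟩ := hφ x
      obtain ⟨z, rfl⟩ := ih y
      refine ⟨z, ?_⟩
      rw [pow_succ']
      rfl
  rw [injective_iff_map_eq_zero]
  intro x hx
  obtain ⟨y, rfl⟩ := hpowsurj n x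
  have h1 : y ∈ K (n + 1) := by
    change y ∈ RingHom.ker (φ ^ (n + 1))
    rw [RingHom.mem_ker, pow_succ']
    exact hx
  rw [← hn (n + 1) (Nat.le_succ n)] at h1
  exact h1

section DerDual

variable (R : CRing Λ k)

/-- The algebra map `R → k[ε]` attached to a derivation `R → k`. -/
noncomputable def algHomOfDerivation
    (D : letI : Algebra R.carrier k := R.res.toRingHom.toAlgebra; Derivation Λ R.carrier k) :
    R.carrier →ₐ[Λ] DualNumber k :=
  letI : Algebra R.carrier k := R.res.toRingHom.toAlgebra
  { toFun := fun r => TrivSqZeroExt.inl (R.res r) + TrivSqZeroExt.inr (D r)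
    map_one' := by
      rw [map_one, Derivation.map_one_eq_zero, TrivSqZeroExt.inr_zero, add_zero, TrivSqZeroExt.inl_one]
    map_mul' := by
      intro r r'
      apply TrivSqZeroExt.ext
      · simp only [TrivSqZeroExt.fst_add, TrivSqZeroExt.fst_mul, TrivSqZeroExt.fst_inl,
          TrivSqZeroExt.fst_inr, add_zero, map_mul]
      · simp only [TrivSqZeroExt.snd_add, TrivSqZeroExt.snd_mul, TrivSqZeroExt.snd_inl,
          TrivSqZeroExt.snd_inr, TrivSqZeroExt.fst_add, TrivSqZeroExt.fst_inl, TrivSqZeroExt.fst_inr,
          add_zero, zero_add, smul_eq_mul, MulOpposite.smul_eq_mul_unop, MulOpposite.unop_op,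
          Derivation.leibniz]
        have h1 : ∀ (a : R.carrier) (c : k), a • c = R.res a * c := fun a c => rfl
        rw [h1, h1]
        ring
    map_zero' := by
      rw [map_zero, map_zero, TrivSqZeroExt.inr_zero, add_zero, TrivSqZeroExt.inl_zero]
    map_add' := by
      intro r r'
      apply TrivSqZeroExt.ext
      · simp only [TrivSqZeroExt.fst_add, TrivSqZeroExt.fst_inl, TrivSqZeroExt.fst_inr, add_zero, map_add]
      · simp only [TrivSqZeroExt.snd_add, TrivSqZeroExt.snd_inl, TrivSqZeroExt.snd_inr, zero_add, map_add]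
    commutes' := by
      intro a
      rw [Derivation.map_algebraMap, AlgHom.commutes, TrivSqZeroExt.inr_zero, add_zero,
        TrivSqZeroExt.algebraMap_eq_inl'] }

/-- The element of `h_R(k[ε])` attached to a derivation `R → k`. -/
noncomputable def homSetOfDerivation
    (D : letI : Algebra R.carrier k := R.res.toRingHom.toAlgebra; Derivation Λ R.carrier k) :
    HomSet R.carrier R.res (dual Λ k) :=
  letI : Algebra R.carrier k := R.res.toRingHom.toAlgebra
  ⟨algHomOfDerivation R D, by
     apply AlgHom.ext
     intro r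
     change TrivSqZeroExt.fst (TrivSqZeroExt.inl (R.res r) + TrivSqZeroExt.inr (D r) : DualNumber k) = R.res r
     rw [TrivSqZeroExt.fst_add, TrivSqZeroExt.fst_inl, TrivSqZeroExt.fst_inr, add_zero]⟩

theorem homSetOfDerivation_snd
    (D : letI : Algebra R.carrier k := R.res.toRingHom.toAlgebra; Derivation Λ R.carrier k) (r : R.carrier) :
    TrivSqZeroExt.snd (show DualNumber k from (homSetOfDerivation R D).1 r) =
      (letI : Algebra R.carrier k := R.res.toRingHom.toAlgebra; D r) := by
  change TrivSqZeroExt.snd (TrivSqZeroExt.inl (R.res r) + TrivSqZeroExt.inr _ : DualNumber k) = _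
  rw [TrivSqZeroExt.snd_add, TrivSqZeroExt.snd_inl, TrivSqZeroExt.snd_inr, zero_add]

/-- An augmentation-compatible endomorphism of a coefficient ring fixing every element of `h_R(k[ε])` is surjective. -/
theorem surjective_endo_of_fixes_tangent (θ : R.carrier →ₐ[Λ] R.carrier) (hθ : R.res.comp θ = R.res)
    (hfix : ∀ τ : HomSet R.carrier R.res (dual Λ k), τ.1.comp θ = τ.1) : Function.Surjective θ := by
  apply CRing.surjective_of_map_maximalIdeal_sup_sq (R := R) (S := R) θ hθ
  by_contra hne
  let _ : Algebra R.carrier k := R.res.toRingHom.toAlgebra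
  have : IsScalarTower Λ R.carrier k := IsScalarTower.of_algebraMap_eq fun a => (R.res.commutes a).symm
  have hres : Function.Surjective (algebraMap R.carrier k) := R.res_surjective
  have hρ : Function.Surjective fun r => algebraMap R.carrier k (θ r) := by
    intro c
    obtain ⟨r, hr⟩ := R.res_surjective c
    refine ⟨r, ?_⟩
    rw [← hr]
    exact congrArg (fun t : R.carrier →ₐ[Λ] k => t r) hθ
  have hkerρ : RingHom.ker ((algebraMap R.carrier k).comp (θ : R.carrier →+* R.carrier)) =
      maximalIdeal R.carrier := by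
    ext r
    rw [RingHom.mem_ker, CRing.mem_maximalIdeal_iff]
    have : ((algebraMap R.carrier k).comp (θ : R.carrier →+* R.carrier)) r = R.res r :=
      congrArg (fun t : R.carrier →ₐ[Λ] k => t r) hθ
    rw [this]
  have hJ : Ideal.map θ (RingHom.ker ((algebraMap R.carrier k).comp (θ : R.carrier →+* R.carrier))) ⊔
      maximalIdeal R.carrier ^ 2 ≠ maximalIdeal R.carrier := by
    rw [hkerρ]
    exact hne
  obtain ⟨D, hD0, hDθ⟩ := exists_derivation_vanishing_on_range hres θ hρ hJ
  apply hD0
  apply Derivation.ext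
  intro r
  have h1 := hfix (homSetOfDerivation R D)
  have h2 : (homSetOfDerivation R D).1 (θ r) = (homSetOfDerivation R D).1 r :=
    congrArg (fun t : R.carrier →ₐ[Λ] (dual Λ k) => t r) h1
  have h3 := homSetOfDerivation_snd R D r
  have h4 := homSetOfDerivation_snd R D (θ r)
  rw [h2] at h4
  rw [← h3, h4, hDθ]
  rfl

end DerDual

end Groth.Agent.Helper6

namespace Groth.Agent.Helper6

open ArtFun ArtFun.Art IsLocalRing

variable {Λ : Type u} {k : Type u} [CommRing Λ] [Field k] [Algebra Λ k]

/-- An augmentation-compatible endomorphism `θ` of a coefficient ring such that `τ ↦ τ ∘ θ` is injective on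
`h_R(k[ε])` is surjective. -/
theorem surjective_endo_of_tangent_injective (R : CRing Λ k) (θ : R.carrier →ₐ[Λ] R.carrier)
    (hθ : R.res.comp θ = R.res)
    (hinj : ∀ τ τ' : HomSet R.carrier R.res (dual Λ k), τ.1.comp θ = τ'.1.comp θ → τ = τ') :
    Function.Surjective θ := by
  apply CRing.surjective_of_map_maximalIdeal_sup_sq (R := R) (S := R) θ hθ
  by_contra hne
  let _ : Algebra R.carrier k := R.res.toRingHom.toAlgebra
  have : IsScalarTower Λ R.carrier k := IsScalarTower.of_algebraMap_eq fun a => (R.res.commutes a).symm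
  have hres : Function.Surjective (algebraMap R.carrier k) := R.res_surjective
  have hρ : Function.Surjective fun r => algebraMap R.carrier k (θ r) := by
    intro c
    obtain ⟨r, hr⟩ := R.res_surjective c
    refine ⟨r, ?_⟩
    rw [← hr]
    exact congrArg (fun t : R.carrier →ₐ[Λ] k => t r) hθ
  have hkerρ : RingHom.ker ((algebraMap R.carrier k).comp (θ : R.carrier →+* R.carrier)) =
      maximalIdeal R.carrier := by
    ext r
    rw [RingHom.mem_ker, CRing.mem_maximalIdeal_iff]
    have : ((algebraMap R.carrier k).comp (θ : R.carrier →+* R.carrier)) r = R.res r :=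
      congrArg (fun t : R.carrier →ₐ[Λ] k => t r) hθ
    rw [this]
  have hJ : Ideal.map θ (RingHom.ker ((algebraMap R.carrier k).comp (θ : R.carrier →+* R.carrier))) ⊔
      maximalIdeal R.carrier ^ 2 ≠ maximalIdeal R.carrier := by
    rw [hkerρ]
    exact hne
  obtain ⟨D, hD0, hDθ⟩ := exists_derivation_vanishing_on_range hres θ hρ hJ
  apply hD0
  have h1 : homSetOfDerivation R D = homSetOfDerivation R 0 := by
    apply hinj
    apply AlgHom.ext
    intro r
    change (TrivSqZeroExt.inl (R.res (θ r)) + TrivSqZeroExt.inr (D (θ r)) : DualNumber k) =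
      TrivSqZeroExt.inl (R.res (θ r)) + TrivSqZeroExt.inr ((0 : Derivation Λ R.carrier k) (θ r))
    rw [hDθ]
    rfl
  apply Derivation.ext
  intro r
  have h3 := homSetOfDerivation_snd R D r
  have h4 := homSetOfDerivation_snd R 0 r
  rw [h1] at h3
  rw [← h3, h4]

theorem isVersal_of_isUniversal {F : Art Λ k ⥤ Type v} {R : Type u} [CommRing R] [Algebra Λ R]
    {resR : R →ₐ[Λ] k} (ξ : Family R resR F) (h : IsUniversal ξ) : IsVersal ξ := by
  intro B A μ _ φ y hy
  obtain ⟨ψ, rfl⟩ := (h B).2 y
  refine ⟨ψ, ?_, rfl⟩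
  apply (h A).1
  rw [ξ.natural, hy]

end Groth.Agent.Helper6
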