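import Groth.Agent.Helper6.ArtFunBasic
import Groth.Agent.Helper6.LocalLength
import Mathlib.RingTheory.Nakayama

set_option autoImplicit false
universe u v
open CategoryTheory

namespace Groth.Agent.Helper6

open ArtFun ArtFun.Art IsLocalRing

variable {Λ : Type u} {k : Type u} [CommRing Λ] [Field k] [Algebra Λ k]

theorem map_maximalIdeal_le {A B : Art Λ k} (f : A ⟶ B) :
    Ideal.map f.toAlgHom (maximalIdeal A) ≤ maximalIdeal B := by
  rw [Ideal.map_le_iff_le_comap]
  intro x hx
  rw [Ideal.mem_comap, Art.mem_maximalIdeal_iff]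
  have : B.res (f.toAlgHom x) = A.res x := Art.res_app f x
  rw [this]
  exact (Art.mem_maximalIdeal_iff _ _).1 hx

theorem map_maximalIdeal_eq_of_surjective {A B : Art Λ k} (f : A ⟶ B) (hf : Function.Surjective f) :
    Ideal.map f.toAlgHom (maximalIdeal A) = maximalIdeal B := by
  apply le_antisymm (map_maximalIdeal_le f)
  intro b hb
  obtain ⟨a, rfl⟩ := hf b
  apply Ideal.mem_map_of_mem
  rw [Art.mem_maximalIdeal_iff] at hb ⊢
  have : B.res (f.toAlgHom a) = A.res a := Art.res_app f a
  rw [← this]
  exact hb

/-- Nakayama: a morphism of `Art Λ k` which is surjective on cotangent spaces is surjective. -/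
theorem surjective_of_map_maximalIdeal_sup_sq {A B : Art Λ k} (f : A ⟶ B)
    (h : Ideal.map f.toAlgHom (maximalIdeal A) ⊔ maximalIdeal B ^ 2 = maximalIdeal B) :
    Function.Surjective f := by
  -- step a: the image of the maximal ideal generates the maximal ideal
  have ha : maximalIdeal B ≤ Ideal.map f.toAlgHom (maximalIdeal A) := by
    apply Submodule.le_of_le_smul_of_le_jacobson_bot (I := maximalIdeal B)
      (IsNoetherian.noetherian (maximalIdeal B))
    · rw [jacobson_eq_maximalIdeal ⊥ bot_ne_top]
    · rw [smul_eq_mul, ← pow_two, h]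
  have ha' : Ideal.map f.toAlgHom (maximalIdeal A) = maximalIdeal B := le_antisymm (map_maximalIdeal_le f) ha
  -- step b
  let _ : Algebra A B := f.toAlgHom.toRingHom.toAlgebra
  have hloc : IsLocalHom (algebraMap A B) := by
    have h0 := Art.isLocalHom f
    exact ⟨fun a ha => h0.map_nonunit a ha⟩
  have hres : ∀ b : B, ∃ a : A, b - algebraMap A B a ∈ maximalIdeal B := by
    intro b
    obtain ⟨a, ha⟩ := A.res_surjective (B.res b)
    refine ⟨a, ?_⟩
    rw [Art.mem_maximalIdeal_iff, map_sub]
    have : B.res (algebraMap A B a) = A.res a := Art.res_app f a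
    rw [this, ha, sub_self]
  have hlen : Module.length A B = Module.length B B := length_eq_of_residue_surjective hres
  have hfin : IsFiniteLength A B := by
    rw [← Module.length_ne_top_iff, hlen]
    exact Module.length_ne_top
  have hnoeth : IsNoetherian A B := (isFiniteLength_iff_isNoetherian_isArtinian.1 hfin).1
  have hfg : (⊤ : Submodule A B).FG := IsNoetherian.noetherian _
  have key : (⊤ : Submodule A B) ≤ LinearMap.range (Algebra.linearMap A B) ⊔ maximalIdeal A • ⊤ := by
    intro b _
    obtain ⟨a, ha⟩ := hres b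
    rw [Ideal.smul_top_eq_map]
    have h1 : b - algebraMap A B a ∈ (Ideal.map (algebraMap A B) (maximalIdeal A)).restrictScalars A := by
      change b - algebraMap A B a ∈ Ideal.map f.toAlgHom (maximalIdeal A)
      rw [ha']
      exact ha
    have h2 : algebraMap A B a ∈ LinearMap.range (Algebra.linearMap A B) := ⟨a, rfl⟩
    have : b = algebraMap A B a + (b - algebraMap A B a) := by ring
    rw [this]
    exact Submodule.add_mem_sup h2 h1
  have hJ : maximalIdeal A ≤ Ideal.jacobson ⊥ := by
    rw [jacobson_eq_maximalIdeal ⊥ bot_ne_top]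
  have := Submodule.le_of_le_smul_of_le_jacobson_bot hfg hJ key
  intro b
  obtain ⟨a, ha⟩ := this (Submodule.mem_top : b ∈ ⊤)
  exact ⟨a, ha⟩

end Groth.Agent.Helper6
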