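import Groth.Agent.Helper6.ArtFunPullback

set_option autoImplicit false
universe u v
open CategoryTheory

namespace Groth.Agent.Helper6

open ArtFun ArtFun.Art IsLocalRing

variable {Λ : Type u} {k : Type u} [CommRing Λ] [Field k] [Algebra Λ k]

section Torsor

variable {B A : Art Λ k} (p : B ⟶ A)

/-- For a small extension `p : B → A` there is an object `D = B ×_k k[ε]` with its two projections and an
"action" map `α : D → B` such that `(pr₁, α)` exhibits `D` as `B ×_A B`. -/
theorem exists_torsor_square (hp : IsSmallExt p) :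
    ∃ (D : Art Λ k) (pr₁ : D ⟶ B) (pr₂ : D ⟶ dual Λ k) (α : D ⟶ B),
      IsFibreProd pr₁ pr₂ (toBase B) (toBase (dual Λ k)) ∧ IsFibreProd pr₁ α p p ∧
      ∀ x : D, TrivSqZeroExt.snd (show DualNumber k from pr₂ x) = 0 → α x = pr₁ x := by
  classical
  obtain ⟨hsurj, hne, hprin, hm⟩ := hp
  obtain ⟨t, ht⟩ := hprin.principal
  have ht' : RingHom.ker p.toAlgHom = Ideal.span {t} := ht
  have htker : t ∈ RingHom.ker p.toAlgHom := by rw [ht']; exact Ideal.subset_span rfl
  have hpt : p.toAlgHom t = 0 := htker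
  have ht0 : t ≠ 0 := by
    intro h0
    apply hne
    rw [ht', h0]
    exact Ideal.span_singleton_eq_bot.2 rfl
  have hmt : ∀ a ∈ maximalIdeal B, a * t = 0 := by
    intro a ha
    have : a * t ∈ maximalIdeal B * RingHom.ker p.toAlgHom := Ideal.mul_mem_mul ha htker
    rw [hm] at this
    exact (Submodule.mem_bot _).1 this
  -- the map s : k → ker p
  let lift : k → B := fun c => Classical.choose (B.res_surjective c)
  have hlift : ∀ c, B.res (lift c) = c := fun c => Classical.choose_spec (B.res_surjective c)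
  let s : k → B := fun c => lift c * t
  have hs : ∀ b : B, b * t = s (B.res b) := by
    intro b
    have h1 : b - lift (B.res b) ∈ maximalIdeal B := by
      rw [Art.mem_maximalIdeal_iff, map_sub, hlift, sub_self]
    have h2 := hmt _ h1
    rw [sub_mul, sub_eq_zero] at h2
    exact h2
  have hs0 : s 0 = 0 := by
    have := hs 0
    rw [zero_mul, map_zero] at this
    exact this.symm
  have hsadd : ∀ c c', s (c + c') = s c + s c' := by
    intro c c'
    have := hs (lift c + lift c')
    rw [map_add, hlift, hlift, add_mul] at this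
    exact this.symm
  have hsmul : ∀ (b : B) (c : k), b * s c = s (B.res b * c) := by
    intro b c
    have := hs (b * lift c)
    rw [map_mul, hlift, mul_assoc] at this
    exact this
  have htm : t ∈ maximalIdeal B := ker_le_maximalIdeal p htker
  have hss : ∀ c c', s c * s c' = 0 := by
    intro c c'
    change lift c * t * (lift c' * t) = 0
    have : t * t = 0 := hmt t htm
    calc lift c * t * (lift c' * t) = lift c * lift c' * (t * t) := by ring
      _ = 0 := by rw [this, mul_zero]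
  have hps : ∀ c, p.toAlgHom (s c) = 0 := by
    intro c
    change p.toAlgHom (lift c * t) = 0
    rw [map_mul, hpt, mul_zero]
  have hsinj : ∀ c, s c = 0 → c = 0 := by
    intro c hc
    by_contra hc0
    have hu : IsUnit (lift c) := by
      by_contra hnu
      have : lift c ∈ maximalIdeal B := (mem_maximalIdeal _).2 hnu
      rw [Art.mem_maximalIdeal_iff, hlift] at this
      exact hc0 this
    exact ht0 ((hu.mul_right_eq_zero).1 hc)
  have hsinj' : ∀ c c', s c = s c' → c = c' := by
    intro c c' h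
    have h1 : s (c + (-c')) = 0 := by
      have h2 : s (c + (-c')) + s c' = s c := by rw [← hsadd]; congr 1; ring
      rw [h] at h2
      exact add_eq_right.1 h2
    have := hsinj _ h1
    exact add_neg_eq_zero.1 this
  -- the object D
  have hbase : Function.Surjective (toBase (dual Λ k)) := (dual Λ k).res_surjective
  let D := pbObj (toBase B) (toBase (dual Λ k)) hbase
  have hD : IsFibreProd (pbFst (toBase B) (toBase (dual Λ k)) hbase) (pbSnd (toBase B) (toBase (dual Λ k)) hbase)
      (toBase B) (toBase (dual Λ k)) := pb_isFibreProd _ _ hbase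
  have hDres : ∀ x : PB (toBase B) (toBase (dual Λ k)), B.res x.1.1 = TrivSqZeroExt.fst x.1.2 := fun x => x.2
  have keymul : ∀ e e' : DualNumber k, TrivSqZeroExt.snd (e * e') =
      TrivSqZeroExt.fst e * TrivSqZeroExt.snd e' + TrivSqZeroExt.fst e' * TrivSqZeroExt.snd e := by
    intro e e'
    rw [TrivSqZeroExt.snd_mul, smul_eq_mul, MulOpposite.smul_eq_mul_unop, MulOpposite.unop_op, mul_comm (TrivSqZeroExt.snd e)]
  have hmulD : ∀ x y : PB (toBase B) (toBase (dual Λ k)), TrivSqZeroExt.snd (x.1.2 * y.1.2) =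
      TrivSqZeroExt.fst x.1.2 * TrivSqZeroExt.snd y.1.2 + TrivSqZeroExt.fst y.1.2 * TrivSqZeroExt.snd x.1.2 :=
    fun x y => keymul x.1.2 y.1.2
  have haddD : ∀ x y : PB (toBase B) (toBase (dual Λ k)), TrivSqZeroExt.snd (x.1.2 + y.1.2) =
      TrivSqZeroExt.snd x.1.2 + TrivSqZeroExt.snd y.1.2 :=
    fun x y => TrivSqZeroExt.snd_add (R := k) (M := k) x.1.2 y.1.2
  -- the action map
  let αfun : PB (toBase B) (toBase (dual Λ k)) → B := fun x => x.1.1 + s (TrivSqZeroExt.snd x.1.2)
  let αhom : PB (toBase B) (toBase (dual Λ k)) →ₐ[Λ] B :=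
    { toFun := αfun
      map_one' := by
        change (1 : B) + s (TrivSqZeroExt.snd (1 : DualNumber k)) = 1
        rw [TrivSqZeroExt.snd_one, hs0, add_zero]
      map_mul' := by
        intro x y
        change x.1.1 * y.1.1 + s (TrivSqZeroExt.snd (x.1.2 * y.1.2)) =
          (x.1.1 + s (TrivSqZeroExt.snd x.1.2)) * (y.1.1 + s (TrivSqZeroExt.snd y.1.2))
        rw [hmulD, hsadd, add_mul, mul_add, mul_add, hss, add_zero, hsmul, mul_comm (s _) y.1.1,
          hsmul, hDres x, hDres y]
        rw [add_assoc]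
      map_zero' := by
        change (0 : B) + s (TrivSqZeroExt.snd (0 : DualNumber k)) = 0
        rw [TrivSqZeroExt.snd_zero, hs0, add_zero]
      map_add' := by
        intro x y
        change x.1.1 + y.1.1 + s (TrivSqZeroExt.snd (x.1.2 + y.1.2)) =
          (x.1.1 + s (TrivSqZeroExt.snd x.1.2)) + (y.1.1 + s (TrivSqZeroExt.snd y.1.2))
        rw [haddD, hsadd]
        ring
      commutes' := by
        intro r
        change algebraMap Λ B r + s (TrivSqZeroExt.snd (algebraMap Λ (DualNumber k) r)) = algebraMap Λ B r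
        rw [TrivSqZeroExt.algebraMap_eq_inl', TrivSqZeroExt.snd_inl, hs0, add_zero] }
  have hαres : B.res.comp αhom = D.res := by
    apply AlgHom.ext
    intro x
    change B.res (x.1.1 + s (TrivSqZeroExt.snd x.1.2)) = B.res x.1.1
    rw [map_add]
    have : B.res (s (TrivSqZeroExt.snd x.1.2)) = 0 := by
      rw [← Art.res_app p]
      have := hps (TrivSqZeroExt.snd x.1.2)
      change A.res (p.toAlgHom (s (TrivSqZeroExt.snd x.1.2))) = 0
      rw [this, map_zero]
    rw [this, add_zero]
  let α : D ⟶ B := ⟨αhom, hαres⟩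
  refine ⟨D, pbFst _ _ hbase, pbSnd _ _ hbase, α, hD, ?_, ?_⟩
  swap
  · intro x hx
    have hx' : TrivSqZeroExt.snd x.1.2 = 0 := hx
    change x.1.1 + s (TrivSqZeroExt.snd x.1.2) = x.1.1
    rw [hx', hs0, add_zero]
  refine ⟨?_, ?_, ?_⟩
  · apply Art.hom_ext
    apply AlgHom.ext
    intro x
    change p.toAlgHom x.1.1 = p.toAlgHom (x.1.1 + s (TrivSqZeroExt.snd x.1.2))
    rw [map_add, hps, add_zero]
  · intro x y h1 h2
    have h1' : x.1.1 = y.1.1 := h1
    have h2' : x.1.1 + s (TrivSqZeroExt.snd x.1.2) = y.1.1 + s (TrivSqZeroExt.snd y.1.2) := h2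
    rw [h1'] at h2'
    have h3 := hsinj' _ _ (add_left_cancel h2')
    have h4 : TrivSqZeroExt.fst x.1.2 = TrivSqZeroExt.fst y.1.2 := by
      rw [← hDres x, ← hDres y, h1']
    exact Subtype.ext (Prod.ext h1' (TrivSqZeroExt.ext h4 h3))
  · intro b b' hbb
    have hbb' : p.toAlgHom b = p.toAlgHom b' := hbb
    have hmem : b' - b ∈ RingHom.ker p.toAlgHom := by
      rw [RingHom.mem_ker, map_sub, hbb', sub_self]
    rw [ht'] at hmem
    obtain ⟨y, hy⟩ := Ideal.mem_span_singleton'.1 hmem
    have hy' : b' = b + s (B.res y) := by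
      rw [← hs y, hy]; ring
    refine ⟨⟨(b, TrivSqZeroExt.inl (B.res b) + TrivSqZeroExt.inr (B.res y)), ?_⟩, rfl, ?_⟩
    · change B.res b = TrivSqZeroExt.fst (TrivSqZeroExt.inl (B.res b) + TrivSqZeroExt.inr (B.res y) : DualNumber k)
      rw [TrivSqZeroExt.fst_add, TrivSqZeroExt.fst_inl, TrivSqZeroExt.fst_inr, add_zero]
    · change b + s (TrivSqZeroExt.snd (TrivSqZeroExt.inl (B.res b) + TrivSqZeroExt.inr (B.res y) : DualNumber k)) = b'
      rw [TrivSqZeroExt.snd_add, TrivSqZeroExt.snd_inl, TrivSqZeroExt.snd_inr, zero_add, hy']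

end Torsor

end Groth.Agent.Helper6

namespace Groth.Agent.Helper6

open ArtFun ArtFun.Art IsLocalRing

variable {Λ : Type u} {k : Type u} [CommRing Λ] [Field k] [Algebra Λ k]

/-- Condition (RS): the comparison map is bijective for every fibre product square with `A'' → A` surjective. -/
def RS (F : Art Λ k ⥤ Type v) : Prop :=
  ∀ ⦃B A A' A'' : Art Λ k⦄ (p' : B ⟶ A') (p'' : B ⟶ A'') (f' : A' ⟶ A) (f'' : A'' ⟶ A)
    (h : IsFibreProd p' p'' f' f''), Function.Surjective f'' → Function.Bijective (cmp F h)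

theorem dual_toBase_surjective : Function.Surjective (toBase (dual Λ k)) := (dual Λ k).res_surjective

/-- The key step: along a small extension, a lift of `x` can be corrected by a tangent vector so as to map to a
prescribed lift `g` of `φ x`, when `φ` is surjective on tangent spaces. -/
theorem exists_corrected_lift {F G : Art Λ k ⥤ Type v} (hF0 : H0 F) (hF : RS F) (hG : RS G)
    (φ : F ⟶ G) (hd : Function.Surjective (TangentSpace.map φ))
    {B A : Art Λ k} (μ : B ⟶ A) (hμ : IsSmallExt μ) (x : F.obj A) (g : G.obj B)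
    (hy : φ.app A x = G.map μ g) (f : F.obj B) (hf1 : F.map μ f = x) :
    ∃ f' : F.obj B, F.map μ f' = x ∧ φ.app B f' = g := by
  obtain ⟨D, pr₁, pr₂, α, hD1, hD2, -⟩ := exists_torsor_square μ hμ
  have hbase : Function.Surjective (toBase (dual Λ k)) := dual_toBase_surjective
  have hGfib : G.map μ (φ.app B f) = G.map μ g := by
    rw [← hy, ← hf1]
    exact (NatTrans.naturality_apply φ μ f).symm
  obtain ⟨dG, hdG⟩ := (hG pr₁ α μ μ hD2 hμ.1).2 ⟨(φ.app B f, g), hGfib⟩
  have hdG1 : G.map pr₁ dG = φ.app B f := congrArg (fun t => t.1.1) hdG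
  have hdG2 : G.map α dG = g := congrArg (fun t => t.1.2) hdG
  obtain ⟨w, hw⟩ := hd (G.map pr₂ dG)
  have hw' : φ.app (dual Λ k) w = G.map pr₂ dG := hw
  have hsub := hF0.2
  have hcompat : F.map (toBase B) f = F.map (toBase (dual Λ k)) w := Subsingleton.elim _ _
  obtain ⟨dF, hdF⟩ := (hF pr₁ pr₂ _ _ hD1 hbase).2 ⟨(f, w), hcompat⟩
  have hdF1 : F.map pr₁ dF = f := congrArg (fun t => t.1.1) hdF
  have hdF2 : F.map pr₂ dF = w := congrArg (fun t => t.1.2) hdF
  have hφd : φ.app D dF = dG := by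
    apply (hG pr₁ pr₂ _ _ hD1 hbase).1
    apply Subtype.ext
    apply Prod.ext
    · change G.map pr₁ (φ.app D dF) = G.map pr₁ dG
      rw [hdG1, ← hdF1]
      exact (NatTrans.naturality_apply φ pr₁ dF).symm
    · change G.map pr₂ (φ.app D dF) = G.map pr₂ dG
      rw [← hw', ← hdF2]
      exact (NatTrans.naturality_apply φ pr₂ dF).symm
  refine ⟨F.map α dF, ?_, ?_⟩
  · rw [← Functor.map_comp_apply F α μ, ← hD2.w, Functor.map_comp_apply, hdF1, hf1]
  · rw [← hdG2, ← hφd]
    exact NatTrans.naturality_apply φ α dF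

end Groth.Agent.Helper6

namespace Groth.Agent.Helper6

open ArtFun ArtFun.Art IsLocalRing

variable {Λ : Type u} {k : Type u} [CommRing Λ] [Field k] [Algebra Λ k]

/-- Injectivity propagates along small extensions for a morphism of deformation functors which is injective on
tangent spaces. -/
theorem injective_app_of_smallExt {F G : Art Λ k ⥤ Type v} (hF0 : H0 F) (hF : RS F) (hG0 : H0 G) (hG : RS G)
    (φ : F ⟶ G) (hd : Function.Injective (TangentSpace.map φ))
    {B A : Art Λ k} (μ : B ⟶ A) (hμ : IsSmallExt μ) (hA : Function.Injective (φ.app A)) :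
    Function.Injective (φ.app B) := by
  intro f₁ f₂ h12
  obtain ⟨D, pr₁, pr₂, α, hD1, hD2, hα⟩ := exists_torsor_square μ hμ
  have hbase : Function.Surjective (toBase (dual Λ k)) := dual_toBase_surjective
  have hsubF := hF0.2
  have hsubG := hG0.2
  -- same fibre
  have hfib : F.map μ f₁ = F.map μ f₂ := by
    apply hA
    rw [NatTrans.naturality_apply φ μ f₁, NatTrans.naturality_apply φ μ f₂, h12]
  obtain ⟨dF, hdF⟩ := (hF pr₁ α μ μ hD2 hμ.1).2 ⟨(f₁, f₂), hfib⟩
  have hdF1 : F.map pr₁ dF = f₁ := congrArg (fun t => t.1.1) hdF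
  have hdF2 : F.map α dF = f₂ := congrArg (fun t => t.1.2) hdF
  -- the section
  obtain ⟨σ, hσ1, hσ2⟩ := IsFibreProd.exists_hom_lift hD1 (𝟙 B) (toBase B ≫ baseToDual)
    (by rw [eq_toBase (𝟙 B ≫ toBase B), eq_toBase ((toBase B ≫ baseToDual) ≫ toBase _)])
  have hσ3 : σ ≫ α = 𝟙 B := by
    apply Art.hom_ext
    apply AlgHom.ext
    intro b
    have h1 : pr₁ (σ b) = b := congrArg (fun t : B ⟶ B => t.toAlgHom b) hσ1
    have h2 : pr₂ (σ b) = (toBase B ≫ baseToDual) b := congrArg (fun t : B ⟶ dual Λ k => t.toAlgHom b) hσ2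
    have h3 : TrivSqZeroExt.snd (show DualNumber k from pr₂ (σ b)) = 0 := by
      rw [h2]
      rfl
    have := hα (σ b) h3
    change α (σ b) = b
    rw [this, h1]
  -- G-side: φ dF = G σ (φ f₁)
  have hφd : φ.app D dF = G.map σ (φ.app B f₁) := by
    apply (hG pr₁ α μ μ hD2 hμ.1).1
    apply Subtype.ext
    apply Prod.ext
    · change G.map pr₁ (φ.app D dF) = G.map pr₁ (G.map σ (φ.app B f₁))
      rw [← Functor.map_comp_apply G σ pr₁, hσ1, Functor.map_id_apply, ← hdF1]
      exact (NatTrans.naturality_apply φ pr₁ dF).symm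
    · change G.map α (φ.app D dF) = G.map α (G.map σ (φ.app B f₁))
      rw [← Functor.map_comp_apply G σ α, hσ3, Functor.map_id_apply, h12, ← hdF2]
      exact (NatTrans.naturality_apply φ α dF).symm
  -- tangent vectors
  have hw : F.map pr₂ dF = F.map pr₂ (F.map σ f₁) := by
    apply hd
    change φ.app (dual Λ k) (F.map pr₂ dF) = φ.app (dual Λ k) (F.map pr₂ (F.map σ f₁))
    rw [NatTrans.naturality_apply φ pr₂ dF, hφd, NatTrans.naturality_apply φ pr₂ (F.map σ f₁),
      NatTrans.naturality_apply φ σ f₁]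
  have hdFσ : dF = F.map σ f₁ := by
    apply (hF pr₁ pr₂ _ _ hD1 hbase).1
    apply Subtype.ext
    apply Prod.ext
    · change F.map pr₁ dF = F.map pr₁ (F.map σ f₁)
      rw [hdF1, ← Functor.map_comp_apply F σ pr₁, hσ1, Functor.map_id_apply]
    · exact hw
  rw [← hdF2, hdFσ, ← Functor.map_comp_apply F σ α, hσ3, Functor.map_id_apply]

/-- A morphism of deformation functors which is injective on tangent spaces is injective on every object. -/
theorem injective_app_of_tangent_injective
    {F G : Art Λ k ⥤ Type v} (hF0 : H0 F) (hF : RS F) (hG0 : H0 G) (hG : RS G)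
    (φ : F ⟶ G) (hd : Function.Injective (TangentSpace.map φ)) (A : Art Λ k) :
    Function.Injective (φ.app A) := by
  have key := surjective_induction_smallExt
    (fun (A B : Art Λ k) (_ : B ⟶ A) => Function.Injective (φ.app A) → Function.Injective (φ.app B))
    ?_ ?_ ?_ (toBase A) A.res_surjective
  · apply key
    intro a b _
    have := hF0.2
    exact Subsingleton.elim _ _
  · intro A B e he hA f₁ f₂ h12
    have h1 : F.map e f₁ = F.map e f₂ := by
      apply hA
      rw [NatTrans.naturality_apply φ e f₁, NatTrans.naturality_apply φ e f₂, h12]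
    have e1 : F.map (inv e) (F.map e f₁) = f₁ := by
      rw [← Functor.map_comp_apply F e (inv e), IsIso.hom_inv_id, Functor.map_id_apply]
    have e2 : F.map (inv e) (F.map e f₂) = f₂ := by
      rw [← Functor.map_comp_apply F e (inv e), IsIso.hom_inv_id, Functor.map_id_apply]
    rw [← e1, ← e2, h1]
  · intro A B μ hμ hA
    exact injective_app_of_smallExt hF0 hF hG0 hG φ hd μ hμ hA
  · intro A B C p q hp hq hA
    exact hp (hq hA)

end Groth.Agent.Helper6

namespace Groth.Agent.Helper6

open ArtFun ArtFun.Art IsLocalRing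

variable {Λ : Type u} {k : Type u} [CommRing Λ] [Field k] [Algebra Λ k]

section VersalSmall

variable {R : Type u} [CommRing R] [Algebra Λ R] {resR : R →ₐ[Λ] k} {F : Art Λ k ⥤ Type v}

theorem homSet_map_comp {A B C : Art Λ k} (f : A ⟶ B) (g : B ⟶ C) (φ : HomSet R resR A) :
    HomSet.map (f ≫ g) φ = HomSet.map g (HomSet.map f φ) :=
  Subtype.ext (AlgHom.ext fun _ => rfl)

theorem homSet_map_id {A : Art Λ k} (φ : HomSet R resR A) : HomSet.map (𝟙 A) φ = φ :=
  Subtype.ext (AlgHom.ext fun _ => rfl)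

/-- Versality can be tested on small extensions. -/
theorem isVersal_of_smallExt (ξ : Family R resR F)
    (h : ∀ ⦃B A : Art Λ k⦄ (μ : B ⟶ A), IsSmallExt μ →
      ∀ (φ : HomSet R resR A) (y : F.obj B), F.map μ y = ξ.app A φ →
        ∃ ψ : HomSet R resR B, HomSet.map μ ψ = φ ∧ ξ.app B ψ = y) : IsVersal ξ := by
  intro B A μ hμ
  refine surjective_induction_smallExt
    (fun (A B : Art Λ k) (μ : B ⟶ A) => ∀ (φ : HomSet R resR A) (y : F.obj B), F.map μ y = ξ.app A φ →
        ∃ ψ : HomSet R resR B, HomSet.map μ ψ = φ ∧ ξ.app B ψ = y) ?_ ?_ ?_ μ hμ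
  · intro A B e he φ y hy
    refine ⟨HomSet.map (inv e) φ, ?_, ?_⟩
    · rw [← homSet_map_comp, IsIso.inv_hom_id, homSet_map_id]
    · rw [ξ.natural, ← hy, ← Functor.map_comp_apply F e (inv e), IsIso.hom_inv_id, Functor.map_id_apply]
  · intro A B μ hμ
    exact h μ hμ
  · intro A B C p q hp hq φ y hy
    have hy' : F.map q (F.map p y) = ξ.app A φ := by
      rw [← Functor.map_comp_apply F p q]; exact hy
    obtain ⟨ψ₁, h11, h12⟩ := hq φ (F.map p y) hy'
    obtain ⟨ψ₂, h21, h22⟩ := hp ψ₁ y h12.symm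
    refine ⟨ψ₂, ?_, h22⟩
    rw [homSet_map_comp, h21, h11]

/-- Under `(S1)` and `(S2)`, along a small extension a lift `ψ₀` of `φ` can be corrected by a tangent vector so that
the family takes a prescribed value, when the family is surjective on tangent spaces. -/
theorem exists_corrected_homSet_lift (h1 : S1 F) (h2 : Heps F) (ξ : Family R resR F)
    (hd : Function.Surjective (ξ.app (dual Λ k)))
    {B A : Art Λ k} (μ : B ⟶ A) (hμ : IsSmallExt μ) (φ : HomSet R resR A) (y : F.obj B)
    (hy : F.map μ y = ξ.app A φ) (ψ₀ : HomSet R resR B) (hψ₀ : HomSet.map μ ψ₀ = φ) :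
    ∃ ψ : HomSet R resR B, HomSet.map μ ψ = φ ∧ ξ.app B ψ = y := by
  obtain ⟨D, pr₁, pr₂, α, hD1, hD2, -⟩ := exists_torsor_square μ hμ
  have hfib : F.map μ (ξ.app B ψ₀) = F.map μ y := by
    rw [hy, ← ξ.natural, hψ₀]
  obtain ⟨dF, hdF⟩ := h1 pr₁ α μ μ hD2 hμ.1 ⟨(ξ.app B ψ₀, y), hfib⟩
  have hdF1 : F.map pr₁ dF = ξ.app B ψ₀ := congrArg (fun t => t.1.1) hdF
  have hdF2 : F.map α dF = y := congrArg (fun t => t.1.2) hdF
  obtain ⟨τ, hτ⟩ := hd (F.map pr₂ dF)
  obtain ⟨χ, hχ1, hχ2⟩ := IsFibreProd.exists_homSet_lift hD1 ψ₀ τ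
    ((homSet_base_eq _).trans (homSet_base_eq _).symm)
  have hξχ : ξ.app D χ = dF := by
    apply (h2 pr₁ pr₂ hD1).1
    apply Subtype.ext
    apply Prod.ext
    · change F.map pr₁ (ξ.app D χ) = F.map pr₁ dF
      rw [← ξ.natural, hχ1, hdF1]
    · change F.map pr₂ (ξ.app D χ) = F.map pr₂ dF
      rw [← ξ.natural, hχ2, hτ]
  refine ⟨HomSet.map α χ, ?_, ?_⟩
  · rw [← homSet_map_comp, ← hD2.w, homSet_map_comp, hχ1, hψ₀]
  · rw [ξ.natural, hξχ, hdF2]

end VersalSmall

end Groth.Agent.Helper6
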