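import Groth.Agent.Helper6.ArtFunFormal
import Groth.Agent.Helper6.ArtFunTorsor

set_option autoImplicit false
universe u v
open CategoryTheory

namespace Groth.Agent.Helper6

open ArtFun ArtFun.Art IsLocalRing

variable {Λ : Type u} {k : Type u} [CommRing Λ] [Field k] [Algebra Λ k]

/-- Morphisms out of a truncation are determined by their composite with the quotient map. -/
theorem trunc_hom_ext (R : CRing Λ k) {n : ℕ} {A : Art Λ k} (f g : R.trunc n ⟶ A)
    (h : HomSet.map f (R.truncHom n) = HomSet.map g (R.truncHom n)) : f = g := by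
  apply Art.hom_ext
  apply AlgHom.ext
  intro x
  obtain ⟨a, rfl⟩ := Ideal.Quotient.mk_surjective x
  exact congrArg (fun t : HomSet R.carrier R.res A => t.1 a) h

/-- The transition map `R/m^(n'+1) → R/m^(n+1)` for `n ≤ n'`. -/
noncomputable def truncLE (R : CRing Λ k) {n n' : ℕ} (h : n ≤ n') : R.trunc n' ⟶ R.trunc n :=
  ⟨Ideal.Quotient.liftₐ (R.mpow n') (Ideal.Quotient.mkₐ Λ (R.mpow n)) (fun a ha =>
      Ideal.Quotient.eq_zero_iff_mem.2 (Ideal.pow_le_pow_right (Nat.succ_le_succ h) ha)), by
    apply AlgHom.ext
    intro x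
    obtain ⟨a, rfl⟩ := Ideal.Quotient.mk_surjective x
    rfl⟩

theorem truncLE_truncHom (R : CRing Λ k) {n n' : ℕ} (h : n ≤ n') :
    HomSet.map (truncLE R h) (R.truncHom n') = R.truncHom n :=
  Subtype.ext (AlgHom.ext fun _ => rfl)

theorem truncLE_refl (R : CRing Λ k) (n : ℕ) : truncLE R (le_refl n) = 𝟙 (R.trunc n) := by
  apply trunc_hom_ext
  rw [truncLE_truncHom, homSet_map_id]

theorem truncLE_succ (R : CRing Λ k) {n m : ℕ} (h : n ≤ m) :
    truncLE R (Nat.le_succ_of_le h) = R.truncMap m ≫ truncLE R h := by
  apply trunc_hom_ext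
  rw [truncLE_truncHom, homSet_map_comp, CRing.truncMap_truncHom, truncLE_truncHom]

theorem FormalElt.map_truncLE {F : Art Λ k ⥤ Type v} {R : CRing Λ k} (u : FormalElt F R) {n n' : ℕ}
    (h : n ≤ n') : F.map (truncLE R h) (u.elt n') = u.elt n := by
  induction n', h using Nat.le_induction with
  | base => rw [truncLE_refl, Functor.map_id_apply]
  | succ m hm ih =>
    rw [truncLE_succ R hm, Functor.map_comp_apply, u.compat, ih]

/-- Two factorizations of the same map through truncations give the same element. -/
theorem FormalElt.map_eq_of_factor {F : Art Λ k ⥤ Type v} {R : CRing Λ k} (u : FormalElt F R)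
    {A : Art Λ k} {n n' : ℕ} (f : R.trunc n ⟶ A) (g : R.trunc n' ⟶ A)
    (h : HomSet.map f (R.truncHom n) = HomSet.map g (R.truncHom n')) :
    F.map f (u.elt n) = F.map g (u.elt n') := by
  rcases le_total n n' with hle | hle
  · have hg : g = truncLE R hle ≫ f := by
      apply trunc_hom_ext
      rw [homSet_map_comp, truncLE_truncHom, h]
    rw [hg, Functor.map_comp_apply, FormalElt.map_truncLE]
  · have hf : f = truncLE R hle ≫ g := by
      apply trunc_hom_ext
      rw [homSet_map_comp, truncLE_truncHom, h]
    rw [hf, Functor.map_comp_apply, FormalElt.map_truncLE]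

/-- The value of a family is determined by its formal element. -/
theorem Family.app_eq_of_factor {F : Art Λ k ⥤ Type v} {R : CRing Λ k} (ξ : Family R.carrier R.res F)
    {A : Art Λ k} {n : ℕ} (f : R.trunc n ⟶ A) (φ : HomSet R.carrier R.res A)
    (h : HomSet.map f (R.truncHom n) = φ) : ξ.app A φ = F.map f (ξ.toFormalElt.elt n) := by
  rw [← h, ξ.natural]
  rfl

/-- A family is determined by its formal element. -/
theorem Family.ext_of_toFormalElt {F : Art Λ k ⥤ Type v} {R : CRing Λ k} (ξ ξ' : Family R.carrier R.res F)
    (h : ξ.toFormalElt = ξ'.toFormalElt) : ξ = ξ' := by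
  have happ : ∀ (A : Art Λ k) (φ : HomSet R.carrier R.res A), ξ.app A φ = ξ'.app A φ := by
    intro A φ
    obtain ⟨n, f, hf⟩ := exists_trunc_factor R φ
    rw [Family.app_eq_of_factor ξ f φ hf, Family.app_eq_of_factor ξ' f φ hf, h]
  cases ξ with
  | mk a na =>
    cases ξ' with
    | mk a' na' =>
      have : a = a' := funext fun A => funext fun φ => happ A φ
      subst this
      rfl

/-- The family attached to a formal element. -/
noncomputable def familyOfFormalElt {F : Art Λ k ⥤ Type v} {R : CRing Λ k} (u : FormalElt F R) :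
    Family R.carrier R.res F where
  app A φ := F.map (Classical.choose (Classical.choose_spec (exists_trunc_factor R φ)))
    (u.elt (Classical.choose (exists_trunc_factor R φ)))
  natural := by
    intro A B f φ
    have h1 := Classical.choose_spec (Classical.choose_spec (exists_trunc_factor R φ))
    have h2 := Classical.choose_spec (Classical.choose_spec (exists_trunc_factor R (HomSet.map f φ)))
    rw [← Functor.map_comp_apply]
    apply FormalElt.map_eq_of_factor
    rw [h2, homSet_map_comp, h1]

theorem familyOfFormalElt_app {F : Art Λ k ⥤ Type v} {R : CRing Λ k} (u : FormalElt F R)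
    {A : Art Λ k} {n : ℕ} (f : R.trunc n ⟶ A) (φ : HomSet R.carrier R.res A)
    (h : HomSet.map f (R.truncHom n) = φ) : (familyOfFormalElt u).app A φ = F.map f (u.elt n) := by
  have h1 := Classical.choose_spec (Classical.choose_spec (exists_trunc_factor R φ))
  change F.map _ _ = _
  apply FormalElt.map_eq_of_factor
  rw [h1, h]

theorem toFormalElt_familyOfFormalElt {F : Art Λ k ⥤ Type v} {R : CRing Λ k} (u : FormalElt F R) :
    (familyOfFormalElt u).toFormalElt = u := by
  apply FormalElt.ext'
  intro n
  change (familyOfFormalElt u).app _ (R.truncHom n) = u.elt n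
  rw [familyOfFormalElt_app u (𝟙 _) (R.truncHom n) (homSet_map_id _), Functor.map_id_apply]

/-- Families over a coefficient ring correspond bijectively to formal elements. -/
theorem bijective_toFormalElt {F : Art Λ k ⥤ Type v} (R : CRing Λ k) :
    Function.Bijective (fun ξ : Family R.carrier R.res F => ξ.toFormalElt) :=
  ⟨fun ξ ξ' h => Family.ext_of_toFormalElt ξ ξ' h, fun u => ⟨familyOfFormalElt u, toFormalElt_familyOfFormalElt u⟩⟩

end Groth.Agent.Helper6
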