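import Groth.Agent.Helper6.ArtFunFibre
import Groth.Agent.Helper6.LocalLength
import Mathlib.RingTheory.LocalRing.Pullback

set_option autoImplicit false
universe u v
open CategoryTheory

namespace Groth.Agent.Helper6

open ArtFun ArtFun.Art IsLocalRing

variable {Λ : Type u} {k : Type u} [CommRing Λ] [Field k] [Algebra Λ k]

section Pullback

variable {A A₁ A₂ : Art Λ k} (f₁ : A₁ ⟶ A) (f₂ : A₂ ⟶ A)

/-- The carrier of the fibre product. -/
abbrev PB : Subalgebra Λ (A₁ × A₂) := AlgHom.pullback f₁.toAlgHom f₂.toAlgHom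

instance pb_isLocalRing : IsLocalRing (PB f₁ f₂) :=
  haveI := Art.isLocalHom f₂
  AlgHom.isLocalRing_pullback f₁.toAlgHom f₂.toAlgHom

theorem pb_res_eq (x : PB f₁ f₂) : A₁.res x.1.1 = A₂.res x.1.2 := by
  rw [← Art.res_app f₁, ← Art.res_app f₂]
  exact congrArg A.res x.2

theorem pb_fst_surjective (hf₂ : Function.Surjective f₂) :
    Function.Surjective (AlgHom.pullbackFst f₁.toAlgHom f₂.toAlgHom) :=
  AlgHom.surjective_pullbackFst_of_surjective _ _ hf₂

theorem pb_isArtinianRing (hf₂ : Function.Surjective f₂) : IsArtinianRing (PB f₁ f₂) := by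
  -- algebra structures
  let alg1 : Algebra (PB f₁ f₂) A₁ := (AlgHom.pullbackFst f₁.toAlgHom f₂.toAlgHom).toRingHom.toAlgebra
  let alg2 : Algebra (PB f₁ f₂) A₂ := (AlgHom.pullbackSnd f₁.toAlgHom f₂.toAlgHom).toRingHom.toAlgebra
  have hl1 : IsLocalHom (algebraMap (PB f₁ f₂) A₁) := by
    refine ⟨fun x hx => ?_⟩
    have hx1 : IsUnit x.1.1 := hx
    have hx2 : IsUnit x.1.2 := by
      by_contra hnu
      have h2 : x.1.2 ∈ maximalIdeal A₂ := (mem_maximalIdeal _).2 hnu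
      rw [Art.mem_maximalIdeal_iff, ← pb_res_eq] at h2
      have h1 : x.1.1 ∈ maximalIdeal A₁ := (Art.mem_maximalIdeal_iff _ _).2 h2
      exact (mem_maximalIdeal _).1 h1 hx1
    have := (AlgHom.isUnit_pullback_mk_iff f₁.toAlgHom f₂.toAlgHom x.2).2 ⟨hx1, hx2⟩
    exact this
  have hl2 : IsLocalHom (algebraMap (PB f₁ f₂) A₂) := by
    refine ⟨fun x hx => ?_⟩
    have hx2 : IsUnit x.1.2 := hx
    have hx1 : IsUnit x.1.1 := by
      by_contra hnu
      have h1 : x.1.1 ∈ maximalIdeal A₁ := (mem_maximalIdeal _).2 hnu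
      rw [Art.mem_maximalIdeal_iff, pb_res_eq] at h1
      have h2 : x.1.2 ∈ maximalIdeal A₂ := (Art.mem_maximalIdeal_iff _ _).2 h1
      exact (mem_maximalIdeal _).1 h2 hx2
    have := (AlgHom.isUnit_pullback_mk_iff f₁.toAlgHom f₂.toAlgHom x.2).2 ⟨hx1, hx2⟩
    exact this
  have hs1 : ∀ a : A₁, ∃ b : PB f₁ f₂, a - algebraMap (PB f₁ f₂) A₁ b ∈ maximalIdeal A₁ := by
    intro a
    obtain ⟨b, hb⟩ := pb_fst_surjective f₁ f₂ hf₂ a
    refine ⟨b, ?_⟩
    have : algebraMap (PB f₁ f₂) A₁ b = a := hb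
    rw [this, sub_self]
    exact zero_mem _
  have hs2 : ∀ a : A₂, ∃ b : PB f₁ f₂, a - algebraMap (PB f₁ f₂) A₂ b ∈ maximalIdeal A₂ := by
    intro a
    obtain ⟨a₁, ha₁⟩ := A₁.res_surjective (A₂.res a)
    obtain ⟨b, hb⟩ := pb_fst_surjective f₁ f₂ hf₂ a₁
    refine ⟨b, ?_⟩
    have hb' : b.1.1 = a₁ := hb
    have : algebraMap (PB f₁ f₂) A₂ b = b.1.2 := rfl
    rw [this, Art.mem_maximalIdeal_iff, map_sub, ← pb_res_eq, hb', ha₁, sub_self]
  have len1 : Module.length (PB f₁ f₂) A₁ = Module.length A₁ A₁ :=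
    length_eq_of_residue_surjective hs1
  have len2 : Module.length (PB f₁ f₂) A₂ = Module.length A₂ A₂ :=
    length_eq_of_residue_surjective hs2
  rw [isArtinianRing_iff_isFiniteLength, ← Module.length_ne_top_iff]
  -- the inclusion into the product
  let ι : PB f₁ f₂ →ₗ[PB f₁ f₂] (A₁ × A₂) :=
    LinearMap.prod (Algebra.linearMap (PB f₁ f₂) A₁) (Algebra.linearMap (PB f₁ f₂) A₂)
  have hι : Function.Injective ι := by
    intro x y h
    have h1 : x.1.1 = y.1.1 := congrArg Prod.fst h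
    have h2 : x.1.2 = y.1.2 := congrArg Prod.snd h
    exact Subtype.ext (Prod.ext h1 h2)
  have hle := Module.length_le_of_injective ι hι
  have hprod : Module.length (PB f₁ f₂) (A₁ × A₂) = Module.length (PB f₁ f₂) A₁ + Module.length (PB f₁ f₂) A₂ :=
    Module.length_prod _ _ _
  rw [hprod, len1, len2] at hle
  have h1 : Module.length A₁ A₁ ≠ ⊤ := Module.length_ne_top
  have h2 : Module.length A₂ A₂ ≠ ⊤ := Module.length_ne_top
  intro htop
  rw [htop, top_le_iff] at hle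
  exact (WithTop.add_ne_top.2 ⟨h1, h2⟩) hle

/-- The fibre product as an object. -/
noncomputable def pbObj (hf₂ : Function.Surjective f₂) : Art Λ k :=
  { carrier := PB f₁ f₂
    isArtinianRing := pb_isArtinianRing f₁ f₂ hf₂
    res := A₁.res.comp (AlgHom.pullbackFst f₁.toAlgHom f₂.toAlgHom)
    res_surjective := A₁.res_surjective.comp (pb_fst_surjective f₁ f₂ hf₂) }

noncomputable def pbFst (hf₂ : Function.Surjective f₂) : pbObj f₁ f₂ hf₂ ⟶ A₁ :=
  ⟨AlgHom.pullbackFst f₁.toAlgHom f₂.toAlgHom, rfl⟩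

noncomputable def pbSnd (hf₂ : Function.Surjective f₂) : pbObj f₁ f₂ hf₂ ⟶ A₂ :=
  ⟨AlgHom.pullbackSnd f₁.toAlgHom f₂.toAlgHom, AlgHom.ext fun x => (pb_res_eq f₁ f₂ x).symm⟩

theorem pb_isFibreProd (hf₂ : Function.Surjective f₂) :
    IsFibreProd (pbFst f₁ f₂ hf₂) (pbSnd f₁ f₂ hf₂) f₁ f₂ where
  w := Art.hom_ext (AlgHom.pullback_comm_sq f₁.toAlgHom f₂.toAlgHom)
  inj _ _ h1 h2 := Subtype.ext (Prod.ext h1 h2)
  surj a' a'' h := ⟨⟨(a', a''), h⟩, rfl, rfl⟩

end Pullback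

end Groth.Agent.Helper6
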