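import Mathlib
import Groth.Agent.Helper6.ArtFunPullback
import Groth.Agent.Helper6.ArtFunBasic

set_option autoImplicit false
universe u v
open CategoryTheory

namespace Groth.Agent.Helper6

open ArtFun ArtFun.Art IsLocalRing Polynomial

variable {Λ : Type u} {k : Type u} [CommRing Λ] [Field k] [Algebra Λ k]

section Roots

theorem art_isNilpotent_of_res_eq_zero (B : Art Λ k) (b : B) (h : B.res b = 0) : IsNilpotent b := by
  have hb : b ∈ maximalIdeal B := (Art.mem_maximalIdeal_iff B b).2 h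
  obtain ⟨n, hn⟩ := exists_maximalIdeal_pow_eq_bot B
  refine ⟨n, ?_⟩
  have : b ^ n ∈ maximalIdeal B ^ n := Ideal.pow_mem_pow hb n
  rw [hn] at this
  exact this

theorem art_res_eq_zero_of_isNilpotent (B : Art Λ k) (b : B) (h : IsNilpotent b) : B.res b = 0 := by
  have : IsNilpotent (B.res b) := h.map B.res
  exact this.eq_zero

theorem art_isUnit_of_res_ne_zero (B : Art Λ k) (b : B) (h : B.res b ≠ 0) : IsUnit b := by
  by_contra hnu
  have hb : b ∈ maximalIdeal B := (mem_maximalIdeal _).2 hnu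
  exact h ((Art.mem_maximalIdeal_iff B b).1 hb)

theorem art_res_aeval (B : Art Λ k) (G : Λ[X]) (x : B) : B.res (aeval x G) = aeval (B.res x) G :=
  (Polynomial.aeval_algHom_apply B.res x G).symm

theorem art_exists_root (B : Art Λ k) (G : Λ[X]) (θ : k) (hθ : aeval θ G = 0)
    (hθ' : aeval θ (derivative G) ≠ 0) : ∃ r : B, B.res r = θ ∧ aeval r G = 0 := by
  obtain ⟨x, hx⟩ := B.res_surjective θ
  have h1 : IsNilpotent (aeval x G) := by
    apply art_isNilpotent_of_res_eq_zero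
    rw [art_res_aeval, hx, hθ]
  have h2 : IsUnit (aeval x (derivative G)) := by
    apply art_isUnit_of_res_ne_zero
    rw [art_res_aeval, hx]
    exact hθ'
  obtain ⟨r, ⟨hr1, hr2⟩, -⟩ := Polynomial.existsUnique_nilpotent_sub_and_aeval_eq_zero h1 h2
  refine ⟨r, ?_, hr2⟩
  have := art_res_eq_zero_of_isNilpotent B _ hr1
  rw [map_sub, hx, sub_eq_zero] at this
  exact this.symm

theorem art_root_unique (B : Art Λ k) (G : Λ[X]) (r r' : B) (hr : aeval r G = 0)
    (hr' : aeval r' G = 0) (hres : B.res r = B.res r')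
    (hder : aeval (B.res r) (derivative G) ≠ 0) : r = r' := by
  have h1 : IsNilpotent (aeval r G) := by rw [hr]; exact IsNilpotent.zero
  have h2 : IsUnit (aeval r (derivative G)) := by
    apply art_isUnit_of_res_ne_zero
    rw [art_res_aeval]
    exact hder
  obtain ⟨s, -, hs⟩ := Polynomial.existsUnique_nilpotent_sub_and_aeval_eq_zero h1 h2
  have e1 : r = s := hs r ⟨by rw [sub_self]; exact IsNilpotent.zero, hr⟩
  have e2 : r' = s := hs r' ⟨by
    apply art_isNilpotent_of_res_eq_zero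
    rw [map_sub, hres, sub_self], hr'⟩
  rw [e1, e2]

end Roots

section Pullback

variable {A A₁ A₂ : Art Λ k} (f₁ : A₁ ⟶ A) (f₂ : A₂ ⟶ A)

theorem art_hom_aeval {B C : Art Λ k} (f : B ⟶ C) (G : Λ[X]) (x : B) :
    f (aeval x G) = aeval (f x) G :=
  (Polynomial.aeval_algHom_apply f.toAlgHom x G).symm

/-- residue surjectivity of the pullback under separability. -/
theorem pb_res_surjective [Algebra.IsSeparable (↥(algebraMap Λ k).range) k] (c : k) :
    ∃ x : PB f₁ f₂, A₁.res x.1.1 = c := by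
  have hsep : (minpoly (↥(algebraMap Λ k).range) c).Separable :=
    Algebra.IsSeparable.isSeparable (↥(algebraMap Λ k).range) c
  obtain ⟨G, hG⟩ := Polynomial.map_surjective (algebraMap Λ k).rangeRestrict
    (algebraMap Λ k).rangeRestrict_surjective (minpoly (↥(algebraMap Λ k).range) c)
  have hcomp : (algebraMap (↥(algebraMap Λ k).range) k).comp (algebraMap Λ k).rangeRestrict =
      algebraMap Λ k := by
    ext a; rfl
  have key : ∀ (Q : Λ[X]), aeval c Q =
      aeval c (Q.map (algebraMap Λ k).rangeRestrict) := by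
    intro Q
    rw [aeval_def, aeval_def, eval₂_map, hcomp]
  have h0 : aeval c G = 0 := by
    rw [key, hG, minpoly.aeval]
  have h0' : aeval c (derivative G) ≠ 0 := by
    rw [key, ← derivative_map, hG]
    exact hsep.aeval_derivative_ne_zero (minpoly.aeval _ _)
  obtain ⟨r₁, hr₁, hr₁'⟩ := art_exists_root A₁ G c h0 h0'
  obtain ⟨r₂, hr₂, hr₂'⟩ := art_exists_root A₂ G c h0 h0'
  have heq : f₁ r₁ = f₂ r₂ := by
    apply art_root_unique A G
    · rw [← art_hom_aeval, hr₁', map_zero]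
    · rw [← art_hom_aeval, hr₂', map_zero]
    · rw [Art.res_app, Art.res_app, hr₁, hr₂]
    · rw [Art.res_app, hr₁]
      exact h0'
  exact ⟨⟨(r₁, r₂), heq⟩, hr₁⟩

theorem pb_isArtinianRing' (hres : ∀ c : k, ∃ x : PB f₁ f₂, A₁.res x.1.1 = c) :
    IsArtinianRing (PB f₁ f₂) := by
  -- algebra structures
  let alg1 : Algebra (PB f₁ f₂) A₁ := (AlgHom.pullbackFst f₁.toAlgHom f₂.toAlgHom).toRingHom.toAlgebra
  let alg2 : Algebra (PB f₁ f₂) A₂ := (AlgHom.pullbackSnd f₁.toAlgHom f₂.toAlgHom).toRingHom.toAlgebra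
  have hl1 : IsLocalHom (algebraMap (PB f₁ f₂) A₁) := by
    refine ⟨fun x hx => ?_⟩
    have hx1 : IsUnit x.1.1 := hx
    have hx2 : IsUnit x.1.2 := by
      by_contra hnu
      have h2 : x.1.2 ∈ maximalIdeal A₂ := (mem_maximalIdeal _).2 hnu
      rw [Art.mem_maximalIdeal_iff, ← pb_res_eq] at h2
      have h1 : x.1.1 ∈ maximalIdeal A₁ := (Art.mem_maximalIdeal_iff _ _).2 h2
      exact (mem_maximalIdeal _).1 h1 hx1
    have := (AlgHom.isUnit_pullback_mk_iff f₁.toAlgHom f₂.toAlgHom x.2).2 ⟨hx1, hx2⟩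
    exact this
  have hl2 : IsLocalHom (algebraMap (PB f₁ f₂) A₂) := by
    refine ⟨fun x hx => ?_⟩
    have hx2 : IsUnit x.1.2 := hx
    have hx1 : IsUnit x.1.1 := by
      by_contra hnu
      have h1 : x.1.1 ∈ maximalIdeal A₁ := (mem_maximalIdeal _).2 hnu
      rw [Art.mem_maximalIdeal_iff, pb_res_eq] at h1
      have h2 : x.1.2 ∈ maximalIdeal A₂ := (Art.mem_maximalIdeal_iff _ _).2 h1
      exact (mem_maximalIdeal _).1 h2 hx2
    have := (AlgHom.isUnit_pullback_mk_iff f₁.toAlgHom f₂.toAlgHom x.2).2 ⟨hx1, hx2⟩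
    exact this
  have hs1 : ∀ a : A₁, ∃ b : PB f₁ f₂, a - algebraMap (PB f₁ f₂) A₁ b ∈ maximalIdeal A₁ := by
    intro a
    obtain ⟨b, hb⟩ := hres (A₁.res a)
    refine ⟨b, ?_⟩
    have : algebraMap (PB f₁ f₂) A₁ b = b.1.1 := rfl
    rw [this, Art.mem_maximalIdeal_iff, map_sub, hb, sub_self]
  have hs2 : ∀ a : A₂, ∃ b : PB f₁ f₂, a - algebraMap (PB f₁ f₂) A₂ b ∈ maximalIdeal A₂ := by
    intro a
    obtain ⟨b, hb⟩ := hres (A₂.res a)
    refine ⟨b, ?_⟩
    have : algebraMap (PB f₁ f₂) A₂ b = b.1.2 := rfl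
    rw [this, Art.mem_maximalIdeal_iff, map_sub, ← pb_res_eq, hb, sub_self]
  have len1 : Module.length (PB f₁ f₂) A₁ = Module.length A₁ A₁ :=
    length_eq_of_residue_surjective hs1
  have len2 : Module.length (PB f₁ f₂) A₂ = Module.length A₂ A₂ :=
    length_eq_of_residue_surjective hs2
  rw [isArtinianRing_iff_isFiniteLength, ← Module.length_ne_top_iff]
  -- the inclusion into the product
  let ι : PB f₁ f₂ →ₗ[PB f₁ f₂] (A₁ × A₂) :=
    LinearMap.prod (Algebra.linearMap (PB f₁ f₂) A₁) (Algebra.linearMap (PB f₁ f₂) A₂)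
  have hι : Function.Injective ι := by
    intro x y h
    have h1 : x.1.1 = y.1.1 := congrArg Prod.fst h
    have h2 : x.1.2 = y.1.2 := congrArg Prod.snd h
    exact Subtype.ext (Prod.ext h1 h2)
  have hle := Module.length_le_of_injective ι hι
  have hprod : Module.length (PB f₁ f₂) (A₁ × A₂) = Module.length (PB f₁ f₂) A₁ + Module.length (PB f₁ f₂) A₂ :=
    Module.length_prod _ _ _
  rw [hprod, len1, len2] at hle
  have h1 : Module.length A₁ A₁ ≠ ⊤ := Module.length_ne_top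
  have h2 : Module.length A₂ A₂ ≠ ⊤ := Module.length_ne_top
  intro htop
  rw [htop, top_le_iff] at hle
  exact (WithTop.add_ne_top.2 ⟨h1, h2⟩) hle

theorem exists_isFibreProd_of_isSeparable [Algebra.IsSeparable (↥(algebraMap Λ k).range) k] :
    ∃ (B : ArtFun.Art Λ k) (p₁ : B ⟶ A₁) (p₂ : B ⟶ A₂), ArtFun.Art.IsFibreProd p₁ p₂ f₁ f₂ := by
  have hres := pb_res_surjective f₁ f₂
  let B : Art Λ k :=
    { carrier := PB f₁ f₂
      isArtinianRing := pb_isArtinianRing' f₁ f₂ hres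
      res := A₁.res.comp (AlgHom.pullbackFst f₁.toAlgHom f₂.toAlgHom)
      res_surjective := fun c => by
        obtain ⟨x, hx⟩ := hres c
        exact ⟨x, hx⟩ }
  refine ⟨B, ⟨AlgHom.pullbackFst f₁.toAlgHom f₂.toAlgHom, rfl⟩,
    ⟨AlgHom.pullbackSnd f₁.toAlgHom f₂.toAlgHom, AlgHom.ext fun x => (pb_res_eq f₁ f₂ x).symm⟩, ?_⟩
  exact
    { w := Art.hom_ext (AlgHom.pullback_comm_sq f₁.toAlgHom f₂.toAlgHom)
      inj := fun _ _ h1 h2 => Subtype.ext (Prod.ext h1 h2)
      surj := fun a' a'' h => ⟨⟨(a', a''), h⟩, rfl, rfl⟩ }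

end Pullback

end Groth.Agent.Helper6
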