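import Groth.Agent.Helper6.ArtFunFormal
import Mathlib.LinearAlgebra.Dual.Lemmas

set_option autoImplicit false
universe u v
open CategoryTheory

namespace Groth.Agent.Helper6

open ArtFun ArtFun.Art IsLocalRing

variable {k : Type u} [Field k]

section SqZero

variable (E : Art k k) (hE : maximalIdeal E ^ 2 = ⊥)

/-- The "nilpotent part" of an element. -/
def nilPart (e : E) : E := e - algebraMap k E (E.res e)

theorem nilPart_mem (e : E) : nilPart E e ∈ maximalIdeal E := by
  rw [Art.mem_maximalIdeal_iff, nilPart, map_sub, AlgHom.commutes]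
  exact sub_self _

include hE in
theorem mul_eq_zero_of_mem {x y : E} (hx : x ∈ maximalIdeal E) (hy : y ∈ maximalIdeal E) : x * y = 0 := by
  have : x * y ∈ maximalIdeal E ^ 2 := by rw [pow_two]; exact Ideal.mul_mem_mul hx hy
  rw [hE] at this
  exact (Submodule.mem_bot _).1 this

include hE in
theorem nilPart_mul (e e' : E) :
    nilPart E (e * e') = E.res e • nilPart E e' + E.res e' • nilPart E e := by
  have h0 := mul_eq_zero_of_mem E hE (nilPart_mem E e) (nilPart_mem E e')
  simp only [nilPart, map_mul, Algebra.smul_def] at h0 ⊢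
  linear_combination h0

theorem nilPart_add (e e' : E) : nilPart E (e + e') = nilPart E e + nilPart E e' := by
  simp only [nilPart, map_add]; ring

/-- The algebra map `E → k[ε]` attached to a linear functional, for `E` with square-zero maximal ideal. -/
noncomputable def toDualAlgHom (l : E →ₗ[k] k) : E →ₐ[k] DualNumber k :=
  { toFun := fun e => TrivSqZeroExt.inl (E.res e) + TrivSqZeroExt.inr (l (nilPart E e))
    map_one' := by
      have : nilPart E (1 : E) = 0 := by simp [nilPart]
      rw [this, map_zero, map_one, TrivSqZeroExt.inr_zero, add_zero, TrivSqZeroExt.inl_one]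
    map_mul' := by
      intro e e'
      apply TrivSqZeroExt.ext
      · simp only [TrivSqZeroExt.fst_add, TrivSqZeroExt.fst_mul, TrivSqZeroExt.fst_inl,
          TrivSqZeroExt.fst_inr, add_zero, map_mul]
      · rw [nilPart_mul E hE]
        simp only [TrivSqZeroExt.snd_add, TrivSqZeroExt.snd_mul, TrivSqZeroExt.snd_inl,
          TrivSqZeroExt.snd_inr, TrivSqZeroExt.fst_add, TrivSqZeroExt.fst_inl, TrivSqZeroExt.fst_inr,
          add_zero, zero_add, map_add, map_smul, smul_eq_mul, MulOpposite.smul_eq_mul_unop,
          MulOpposite.unop_op]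
        ring
    map_zero' := by
      have : nilPart E (0 : E) = 0 := by simp [nilPart]
      rw [this, map_zero, map_zero, TrivSqZeroExt.inr_zero, add_zero, TrivSqZeroExt.inl_zero]
    map_add' := by
      intro e e'
      apply TrivSqZeroExt.ext
      · simp only [TrivSqZeroExt.fst_add, TrivSqZeroExt.fst_inl, TrivSqZeroExt.fst_inr, add_zero, map_add]
      · rw [nilPart_add]
        simp only [TrivSqZeroExt.snd_add, TrivSqZeroExt.snd_inl, TrivSqZeroExt.snd_inr, zero_add, map_add]
    commutes' := by
      intro c
      have : nilPart E (algebraMap k E c) = 0 := by simp [nilPart]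
      rw [this, map_zero, AlgHom.commutes, TrivSqZeroExt.inr_zero, add_zero]
      rfl }

/-- The morphism `E → k[ε]` attached to a linear functional, for `E` with square-zero maximal ideal. -/
noncomputable def toDualOfLinear (l : E →ₗ[k] k) : E ⟶ dual k k :=
  ⟨toDualAlgHom E hE l, by
     apply AlgHom.ext
     intro e
     change TrivSqZeroExt.fst (TrivSqZeroExt.inl (E.res e) + TrivSqZeroExt.inr (l (nilPart E e)) : DualNumber k) = E.res e
     rw [TrivSqZeroExt.fst_add, TrivSqZeroExt.fst_inl, TrivSqZeroExt.fst_inr, add_zero]⟩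

theorem toDualOfLinear_snd (l : E →ₗ[k] k) (e : E) :
    TrivSqZeroExt.snd (show DualNumber k from toDualOfLinear E hE l e) = l (nilPart E e) := by
  change TrivSqZeroExt.snd (TrivSqZeroExt.inl (E.res e) + TrivSqZeroExt.inr (l (nilPart E e)) : DualNumber k) = _
  rw [TrivSqZeroExt.snd_add, TrivSqZeroExt.snd_inl, TrivSqZeroExt.snd_inr, zero_add]

include hE in
/-- The morphisms `E → k[ε]` are jointly injective when `m_E² = 0`. -/
theorem eq_of_forall_toDual_eq (e e' : E) (h : ∀ τ : E ⟶ dual k k, τ e = τ e') : e = e' := by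
  have hres : E.res e = E.res e' := by
    have := h (toDualOfLinear E hE 0)
    have h1 : (dual k k).res ((toDualOfLinear E hE 0) e) = (dual k k).res ((toDualOfLinear E hE 0) e') := by
      rw [this]
    rw [Art.res_app, Art.res_app] at h1
    exact h1
  have hnil : nilPart E e = nilPart E e' := by
    rw [← sub_eq_zero]
    apply (Module.forall_dual_apply_eq_zero_iff k _).1
    intro l
    have := h (toDualOfLinear E hE l)
    have h1 := toDualOfLinear_snd E hE l e
    have h2 := toDualOfLinear_snd E hE l e'
    rw [map_sub, sub_eq_zero, ← h1, ← h2, this]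
  have h1 : e = nilPart E e + algebraMap k E (E.res e) := by simp [nilPart]
  have h2 : e' = nilPart E e' + algebraMap k E (E.res e') := by simp [nilPart]
  rw [h1, h2, hres, hnil]

end SqZero

/-- A family which is injective on `k[ε]` is injective on every object with square-zero maximal ideal. -/
theorem injective_app_of_sq_zero {F : Art k k ⥤ Type v} {R : Type u} [CommRing R] [Algebra k R]
    {resR : R →ₐ[k] k} (ξ : Family R resR F) (hinj : Function.Injective (ξ.app (dual k k)))
    (E : Art k k) (hE : maximalIdeal E ^ 2 = ⊥) : Function.Injective (ξ.app E) := by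
  intro ψ₁ ψ₂ h
  apply Subtype.ext
  apply AlgHom.ext
  intro r
  apply eq_of_forall_toDual_eq E hE
  intro τ
  have h1 : HomSet.map τ ψ₁ = HomSet.map τ ψ₂ := by
    apply hinj
    rw [ξ.natural, ξ.natural, h]
  exact congrArg (fun t => t.1 r) h1

/-- The first truncation `R/m²` has square-zero maximal ideal. -/
theorem trunc_one_sq_zero {Λ : Type u} [CommRing Λ] [Algebra Λ k] (S : CRing Λ k) :
    maximalIdeal (S.trunc 1) ^ 2 = ⊥ := by
  rw [eq_bot_iff]
  calc maximalIdeal (S.trunc 1) ^ 2
      ≤ ((maximalIdeal S.carrier).map (Ideal.Quotient.mk (S.mpow 1))) ^ 2 :=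
        Ideal.pow_right_mono (CRing.maximalIdeal_quot_le S 1) _
    _ = (S.mpow 1).map (Ideal.Quotient.mk (S.mpow 1)) := by rw [← Ideal.map_pow]
    _ = ⊥ := Ideal.map_quotient_self _
    _ ≤ ⊥ := le_rfl

end Groth.Agent.Helper6
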