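import Groth.Agent.Helper6.ArtFunMinimal
import Groth.Agent.S12715

set_option autoImplicit false
universe u v
open CategoryTheory

namespace Groth.Agent.Helper6

open ArtFun ArtFun.Art IsLocalRing

variable {Λ : Type u} {k : Type u} [CommRing Λ] [Field k] [Algebra Λ k]

/-- A strongly surjective miniversal family forces `(S2)`. -/
theorem heps_of_isMiniversal_of_surjective {F : Art Λ k ⥤ Type v} {R : Type u} [CommRing R] [Algebra Λ R]
    {resR : R →ₐ[Λ] k} (ξ : Family R resR F) (hξ : IsMiniversal ξ)
    (hsurj : ∀ A : Art Λ k, Function.Surjective (ξ.app A)) : Heps F := by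
  intro B A' p' p'' h
  have hbase : Function.Surjective (toBase (dual Λ k)) := (dual Λ k).res_surjective
  have hp' : Function.Surjective p' := IsFibreProd.surjective_fst h hbase
  constructor
  · intro b₁ b₂ hb
    have hb1 : F.map p' b₁ = F.map p' b₂ := congrArg (fun t => t.1.1) hb
    have hb2 : F.map p'' b₁ = F.map p'' b₂ := congrArg (fun t => t.1.2) hb
    obtain ⟨u', hu'⟩ := hsurj A' (F.map p' b₁)
    obtain ⟨v₁, hv11, hv12⟩ := hξ.1 p' hp' u' b₁ hu'.symm
    obtain ⟨v₂, hv21, hv22⟩ := hξ.1 p' hp' u' b₂ (hb1 ▸ hu'.symm)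
    have e : HomSet.map p'' v₁ = HomSet.map p'' v₂ := by
      apply hξ.2.1
      rw [ξ.natural, ξ.natural, hv12, hv22, hb2]
    have : v₁ = v₂ := IsFibreProd.homSet_ext h v₁ v₂ (hv11.trans hv21.symm) e
    rw [← hv12, ← hv22, this]
  · intro y
    obtain ⟨⟨a', a''⟩, hy⟩ := y
    have hy' : F.map (toBase A') a' = F.map (toBase _) a'' := hy
    obtain ⟨φ', rfl⟩ := hsurj A' a'
    have h1 : F.map (toBase _) a'' = ξ.app _ (HomSet.map (toBase A') φ') := by
      rw [← hy', ξ.natural]
    obtain ⟨ψ'', hψ1, hψ2⟩ := hξ.1 _ hbase (HomSet.map (toBase A') φ') a'' h1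
    obtain ⟨χ, hχ1, hχ2⟩ := IsFibreProd.exists_homSet_lift h φ' ψ'' hψ1.symm
    refine ⟨ξ.app B χ, Subtype.ext (Prod.ext ?_ ?_)⟩
    · change F.map p' (ξ.app B χ) = ξ.app A' φ'
      rw [← ξ.natural, hχ1]
    · change F.map p'' (ξ.app B χ) = a''
      rw [← ξ.natural, hχ2, hψ2]

section

variable (R : CRing Λ k)

theorem homSet_dual_fst (τ : HomSet R.carrier R.res (dual Λ k)) (r : R.carrier) :
    TrivSqZeroExt.fst (show DualNumber k from τ.1 r) = R.res r :=
  congrArg (fun t : R.carrier →ₐ[Λ] k => t r) τ.2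

/-- The derivation attached to an element of `h_R(k[ε])`. -/
noncomputable def derivationOfHomSet (τ : HomSet R.carrier R.res (dual Λ k)) :
    letI : Algebra R.carrier k := R.res.toRingHom.toAlgebra; Derivation Λ R.carrier k :=
  letI : Algebra R.carrier k := R.res.toRingHom.toAlgebra
  { toFun := fun r => TrivSqZeroExt.snd (show DualNumber k from τ.1 r)
    map_add' := fun r r' => by
      have : τ.1 (r + r') = τ.1 r + τ.1 r' := map_add _ _ _
      rw [this]
      exact TrivSqZeroExt.snd_add (R := k) (M := k) _ _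
    map_smul' := fun a r => by
      have h1 : τ.1 (a • r) = a • τ.1 r := map_smul _ _ _
      rw [h1]
      exact TrivSqZeroExt.snd_smul (R := k) (M := k) a _
    map_one_eq_zero' := by
      have : τ.1 1 = 1 := map_one _
      change TrivSqZeroExt.snd (show DualNumber k from τ.1 1) = 0
      rw [this]
      exact TrivSqZeroExt.snd_one (R := k) (M := k)
    leibniz' := fun r r' => by
      have h1 : τ.1 (r * r') = τ.1 r * τ.1 r' := map_mul _ _ _
      change TrivSqZeroExt.snd (show DualNumber k from τ.1 (r * r')) =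
        r • TrivSqZeroExt.snd (show DualNumber k from τ.1 r') + r' • TrivSqZeroExt.snd (show DualNumber k from τ.1 r)
      rw [h1]
      have h2 := TrivSqZeroExt.snd_mul (R := k) (M := k) (show DualNumber k from τ.1 r) (show DualNumber k from τ.1 r')
      refine h2.trans ?_
      rw [homSet_dual_fst, homSet_dual_fst, smul_eq_mul, MulOpposite.smul_eq_mul_unop, MulOpposite.unop_op]
      have h3 : ∀ (a : R.carrier) (c : k), a • c = R.res a * c := fun a c => rfl
      rw [h3, h3, mul_comm (TrivSqZeroExt.snd _) (R.res r')] }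

theorem homSetOfDerivation_derivationOfHomSet (τ : HomSet R.carrier R.res (dual Λ k)) :
    homSetOfDerivation R (derivationOfHomSet R τ) = τ := by
  apply Subtype.ext
  apply AlgHom.ext
  intro r
  apply TrivSqZeroExt.ext
  · change TrivSqZeroExt.fst (TrivSqZeroExt.inl (R.res r) + TrivSqZeroExt.inr _ : DualNumber k) = _
    rw [TrivSqZeroExt.fst_add, TrivSqZeroExt.fst_inl, TrivSqZeroExt.fst_inr, add_zero]
    exact (homSet_dual_fst R τ r).symm
  · exact homSetOfDerivation_snd R (derivationOfHomSet R τ) r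

end

end Groth.Agent.Helper6

namespace Groth.Agent.Helper6

open ArtFun ArtFun.Art IsLocalRing

variable {Λ : Type u} {k : Type u} [CommRing Λ] [Field k] [Algebra Λ k]

section

variable (R : CRing Λ k)

theorem homSetOfDerivation_smul (c : k)
    (D : letI : Algebra R.carrier k := R.res.toRingHom.toAlgebra; Derivation Λ R.carrier k) :
    letI : Algebra R.carrier k := R.res.toRingHom.toAlgebra
    homSetOfDerivation R (c • D) = HomSet.map (scale c) (homSetOfDerivation R D) := by
  let _ : Algebra R.carrier k := R.res.toRingHom.toAlgebra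
  apply Subtype.ext
  apply AlgHom.ext
  intro r
  apply TrivSqZeroExt.ext
  · change TrivSqZeroExt.fst (TrivSqZeroExt.inl (R.res r) + TrivSqZeroExt.inr ((c • D) r) : DualNumber k) =
      TrivSqZeroExt.fst (TrivSqZeroExt.inl (R.res r) + TrivSqZeroExt.inr (D r) : DualNumber k)
    rw [TrivSqZeroExt.fst_add, TrivSqZeroExt.fst_inl, TrivSqZeroExt.fst_inr, TrivSqZeroExt.fst_add,
      TrivSqZeroExt.fst_inl, TrivSqZeroExt.fst_inr]
  · change TrivSqZeroExt.snd (TrivSqZeroExt.inl (R.res r) + TrivSqZeroExt.inr ((c • D) r) : DualNumber k) =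
      c • TrivSqZeroExt.snd (TrivSqZeroExt.inl (R.res r) + TrivSqZeroExt.inr (D r) : DualNumber k)
    rw [TrivSqZeroExt.snd_add, TrivSqZeroExt.snd_inl, TrivSqZeroExt.snd_inr, TrivSqZeroExt.snd_add,
      TrivSqZeroExt.snd_inl, TrivSqZeroExt.snd_inr, zero_add, zero_add]
    rfl

theorem homSetOfDerivation_add
    (D₁ D₂ : letI : Algebra R.carrier k := R.res.toRingHom.toAlgebra; Derivation Λ R.carrier k)
    (χ : HomSet R.carrier R.res (dual2 Λ k)) (h1 : HomSet.map pr₁ χ = homSetOfDerivation R D₁)
    (h2 : HomSet.map pr₂ χ = homSetOfDerivation R D₂) :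
    letI : Algebra R.carrier k := R.res.toRingHom.toAlgebra
    homSetOfDerivation R (D₁ + D₂) = HomSet.map plus χ := by
  let _ : Algebra R.carrier k := R.res.toRingHom.toAlgebra
  apply Subtype.ext
  apply AlgHom.ext
  intro r
  have e1 : (pr₁ : dual2 Λ k ⟶ dual Λ k) (χ.1 r) = (homSetOfDerivation R D₁).1 r := congrArg (fun t => t.1 r) h1
  have e2 : (pr₂ : dual2 Λ k ⟶ dual Λ k) (χ.1 r) = (homSetOfDerivation R D₂).1 r := congrArg (fun t => t.1 r) h2
  have f1 : TrivSqZeroExt.fst (show TrivSqZeroExt k (k × k) from χ.1 r) = R.res r := by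
    have := congrArg (fun x : DualNumber k => TrivSqZeroExt.fst x) e1
    exact this.trans (homSet_dual_fst R _ r)
  have s1 : (TrivSqZeroExt.snd (show TrivSqZeroExt k (k × k) from χ.1 r)).1 = D₁ r := by
    have := congrArg (fun x : DualNumber k => TrivSqZeroExt.snd x) e1
    exact this.trans (homSetOfDerivation_snd R D₁ r)
  have s2 : (TrivSqZeroExt.snd (show TrivSqZeroExt k (k × k) from χ.1 r)).2 = D₂ r := by
    have := congrArg (fun x : DualNumber k => TrivSqZeroExt.snd x) e2
    exact this.trans (homSetOfDerivation_snd R D₂ r)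
  apply TrivSqZeroExt.ext
  · change TrivSqZeroExt.fst (TrivSqZeroExt.inl (R.res r) + TrivSqZeroExt.inr ((D₁ + D₂) r) : DualNumber k) =
      TrivSqZeroExt.fst (show TrivSqZeroExt k (k × k) from χ.1 r)
    rw [TrivSqZeroExt.fst_add, TrivSqZeroExt.fst_inl, TrivSqZeroExt.fst_inr, add_zero, f1]
  · change TrivSqZeroExt.snd (TrivSqZeroExt.inl (R.res r) + TrivSqZeroExt.inr ((D₁ + D₂) r) : DualNumber k) =
      (TrivSqZeroExt.snd (show TrivSqZeroExt k (k × k) from χ.1 r)).1 +
        (TrivSqZeroExt.snd (show TrivSqZeroExt k (k × k) from χ.1 r)).2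
    rw [TrivSqZeroExt.snd_add, TrivSqZeroExt.snd_inl, TrivSqZeroExt.snd_inr, zero_add, s1, s2]
    rfl

/-- The characteristic map of a family, as a `k`-linear map from derivations to the tangent space. -/
noncomputable def tangentLinearMap {F : Art Λ k ⥤ Type v} [TangentStr F] (ξ : Family R.carrier R.res F) :
    letI : Algebra R.carrier k := R.res.toRingHom.toAlgebra
    Derivation Λ R.carrier k →ₗ[k] TangentSpace F :=
  letI : Algebra R.carrier k := R.res.toRingHom.toAlgebra
  { toFun := fun D => (ξ.app (dual Λ k) (homSetOfDerivation R D) : F.obj (dual Λ k))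
    map_add' := fun D₁ D₂ => by
      obtain ⟨χ, h1, h2⟩ := IsFibreProd.exists_homSet_lift (isFibreProd_dual2 (Λ := Λ) (k := k))
        (homSetOfDerivation R D₁) (homSetOfDerivation R D₂)
        ((homSet_base_eq _).trans (homSet_base_eq _).symm)
      rw [homSetOfDerivation_add R D₁ D₂ χ h1 h2, ξ.natural, ← h1, ← h2, ξ.natural, ξ.natural]
      exact (TangentStr.add_eq (ξ.app _ χ)).symm
    map_smul' := fun c D => by
      rw [homSetOfDerivation_smul, ξ.natural]
      exact (TangentStr.smul_eq c _).symm }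

theorem tangentLinearMap_surjective {F : Art Λ k ⥤ Type v} [TangentStr F] (ξ : Family R.carrier R.res F)
    (h : Function.Surjective (ξ.app (dual Λ k))) : Function.Surjective (tangentLinearMap R ξ) := by
  intro x
  obtain ⟨τ, hτ⟩ := h x
  refine ⟨derivationOfHomSet R τ, ?_⟩
  change ξ.app (dual Λ k) (homSetOfDerivation R (derivationOfHomSet R τ)) = x
  rw [homSetOfDerivation_derivationOfHomSet, hτ]

end

/-- The tangent space of a functor with a family over a coefficient ring surjective on `k[ε]` is finite-dimensional. -/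
theorem hfin_of_surjective_family [IsNoetherianRing Λ] [Module.Finite Λ k] {F : Art Λ k ⥤ Type v} [TangentStr F]
    (R : CRing Λ k) (ξ : Family R.carrier R.res F) (h : Function.Surjective (ξ.app (dual Λ k))) : Hfin F := by
  let _ : Algebra R.carrier k := R.res.toRingHom.toAlgebra
  have : IsScalarTower Λ R.carrier k := IsScalarTower.of_algebraMap_eq fun a => (R.res.commutes a).symm
  have := R.isAdicComplete
  have hfin : Module.Finite k (Derivation Λ R.carrier k) :=
    Groth.Agent.S12715.result R.carrier R.res_surjective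
  exact Module.Finite.of_surjective (tangentLinearMap R ξ) (tangentLinearMap_surjective R ξ h)

end Groth.Agent.Helper6
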