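import Mathlib

universe u

namespace Groth.Agent.Helper6.ArtKaehler

open scoped TensorProduct
open IsLocalRing

section
variable {A B k : Type u} [CommRing A] [CommRing B] [Field k] [IsLocalRing A] [IsLocalRing B]
  [Algebra B A] [Algebra A k] (ρB : B →+* k)
  (hρB : Function.Surjective ρB) (hρA : Function.Surjective (algebraMap A k))
  (hcomp : ∀ b, algebraMap A k (algebraMap B A b) = ρB b)

include hρA in
theorem mem_maxA (a : A) : a ∈ maximalIdeal A ↔ algebraMap A k a = 0 := by
  haveI : (RingHom.ker (algebraMap A k)).IsMaximal := RingHom.ker_isMaximal_of_surjective _ hρA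
  rw [← IsLocalRing.eq_maximalIdeal (I := RingHom.ker (algebraMap A k)) inferInstance, RingHom.mem_ker]

include hρB in
theorem mem_maxB (b : B) : b ∈ maximalIdeal B ↔ ρB b = 0 := by
  haveI : (RingHom.ker ρB).IsMaximal := RingHom.ker_isMaximal_of_surjective _ hρB
  rw [← IsLocalRing.eq_maximalIdeal (I := RingHom.ker ρB) inferInstance, RingHom.mem_ker]

/-- the ideal `m_A ^ 2 + m_B A` -/
def J : Ideal A := maximalIdeal A ^ 2 ⊔ (maximalIdeal B).map (algebraMap B A)

variable (A B) in
theorem sq_le_J : maximalIdeal A ^ 2 ≤ J (A := A) (B := B) := le_sup_left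

theorem map_mem_J (b : B) (hb : b ∈ maximalIdeal B) : algebraMap B A b ∈ J (A := A) (B := B) :=
  Ideal.mem_sup_right (Ideal.mem_map_of_mem _ hb)

theorem mul_mem_J (x y : A) (hx : x ∈ maximalIdeal A) (hy : y ∈ maximalIdeal A) :
    x * y ∈ J (A := A) (B := B) := by
  apply sq_le_J A B
  rw [pow_two]
  exact Ideal.mul_mem_mul hx hy

/-- a chosen lift of the residue class to `B` -/
noncomputable def liftB (a : A) : B := (hρB (algebraMap A k a)).choose

theorem liftB_spec (a : A) : ρB (liftB ρB hρB a) = algebraMap A k a := (hρB (algebraMap A k a)).choose_spec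

/-- the function underlying the derivation -/
noncomputable def dfun (a : A) : A ⧸ J (A := A) (B := B) :=
  Ideal.Quotient.mk _ (a - algebraMap B A (liftB ρB hρB a))

include hρA hcomp in
theorem dfun_eq (a : A) (b : B) (hb : ρB b = algebraMap A k a) :
    dfun ρB hρB a = Ideal.Quotient.mk (J (A := A) (B := B)) (a - algebraMap B A b) := by
  unfold dfun
  rw [Ideal.Quotient.eq]
  have : a - algebraMap B A (liftB ρB hρB a) - (a - algebraMap B A b) =
      algebraMap B A (b - liftB ρB hρB a) := by
    rw [map_sub]
    ring
  rw [this]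
  apply map_mem_J
  rw [mem_maxB ρB hρB, map_sub, hb, liftB_spec, sub_self]

include hρA hcomp in
theorem sub_mem_max (a : A) (b : B) (hb : ρB b = algebraMap A k a) :
    a - algebraMap B A b ∈ maximalIdeal A := by
  rw [mem_maxA hρA, map_sub, hcomp, hb, sub_self]

/-- the derivation `A → A / (m_A^2 + m_B A)` -/
noncomputable def der : Derivation B A (A ⧸ J (A := A) (B := B)) where
  toFun := dfun ρB hρB
  map_add' a a' := by
    rw [dfun_eq ρB hρB hρA hcomp (a + a') (liftB ρB hρB a + liftB ρB hρB a')
      (by rw [map_add, liftB_spec, liftB_spec, map_add])]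
    unfold dfun
    rw [← map_add]
    congr 1
    rw [map_add]
    ring
  map_smul' r a := by
    rw [dfun_eq ρB hρB hρA hcomp (r • a) (r * liftB ρB hρB a)
      (by rw [map_mul, liftB_spec, Algebra.smul_def, map_mul, hcomp])]
    unfold dfun
    rw [RingHom.id_apply]
    have h : r • (Ideal.Quotient.mk (J (A := A) (B := B))) (a - algebraMap B A (liftB ρB hρB a)) =
        Ideal.Quotient.mk _ (r • (a - algebraMap B A (liftB ρB hρB a))) := rfl
    rw [h]
    congr 1
    rw [smul_sub, map_mul, Algebra.smul_def, Algebra.smul_def]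
  map_one_eq_zero' := by
    show dfun ρB hρB 1 = 0
    rw [dfun_eq ρB hρB hρA hcomp 1 1 (by rw [map_one, map_one]), map_one, sub_self, map_zero]
  leibniz' a a' := by
    show dfun ρB hρB (a * a') = a • dfun ρB hρB a' + a' • dfun ρB hρB a
    rw [dfun_eq ρB hρB hρA hcomp (a * a') (liftB ρB hρB a * liftB ρB hρB a')
      (by rw [map_mul, liftB_spec, liftB_spec, map_mul])]
    unfold dfun
    set b := liftB ρB hρB a
    set b' := liftB ρB hρB a'
    have hx := sub_mem_max ρB hρA hcomp a b (liftB_spec ρB hρB a)
    have hx' := sub_mem_max ρB hρA hcomp a' b' (liftB_spec ρB hρB a')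
    have h1 : a • (Ideal.Quotient.mk (J (A := A) (B := B))) (a' - algebraMap B A b') =
        Ideal.Quotient.mk _ (a * (a' - algebraMap B A b')) := rfl
    have h2 : a' • (Ideal.Quotient.mk (J (A := A) (B := B))) (a - algebraMap B A b) =
        Ideal.Quotient.mk _ (a' * (a - algebraMap B A b)) := rfl
    rw [h1, h2, ← map_add, Ideal.Quotient.eq]
    have : a * a' - algebraMap B A (b * b') - (a * (a' - algebraMap B A b') + a' * (a - algebraMap B A b)) =
        - ((a - algebraMap B A b) * (a' - algebraMap B A b')) := by
      rw [map_mul]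
      ring
    rw [this]
    exact neg_mem (mul_mem_J _ _ hx hx')

include hρA hcomp in
theorem der_apply_of_mem (x : A) (hx : x ∈ maximalIdeal A) :
    der ρB hρB hρA hcomp x = Ideal.Quotient.mk _ x := by
  show dfun ρB hρB x = _
  rw [dfun_eq ρB hρB hρA hcomp x 0 (by rw [map_zero, ((mem_maxA hρA x).mp hx)]), map_zero, sub_zero]

include hρA hcomp in
theorem max_smul_der (y : A) (hy : y ∈ maximalIdeal A) (a : A) :
    y • der ρB hρB hρA hcomp a = 0 := by
  show y • dfun ρB hρB a = 0
  unfold dfun
  show Ideal.Quotient.mk _ (y * (a - algebraMap B A (liftB ρB hρB a))) = 0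
  rw [Ideal.Quotient.eq_zero_iff_mem]
  exact mul_mem_J _ _ hy (sub_mem_max ρB hρA hcomp a _ (liftB_spec ρB hρB a))

end

theorem main {A B k : Type u} [CommRing A] [CommRing B] [Field k] [IsLocalRing A] [IsLocalRing B]
    [IsArtinianRing A] [IsArtinianRing B]
    [Algebra B A] [Algebra A k] (ρB : B →+* k)
    (hρB : Function.Surjective ρB) (hρA : Function.Surjective (algebraMap A k))
    (hcomp : ∀ b, algebraMap A k (algebraMap B A b) = ρB b) :
    Function.Surjective (algebraMap B A) ↔ Subsingleton (k ⊗[A] Ω[A⁄B]) := by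
  constructor
  · intro hs
    haveI : Subsingleton (Ω[A⁄B]) := KaehlerDifferential.subsingleton_of_surjective B A hs
    infer_instance
  · intro hsub
    -- Ω = m_A Ω
    have hker : LinearMap.ker (Algebra.linearMap A k) = maximalIdeal A := by
      ext a
      rw [LinearMap.mem_ker, Algebra.linearMap_apply, mem_maxA hρA]
    have hΩ : (maximalIdeal A) • (⊤ : Submodule A (Ω[A⁄B])) = ⊤ := by
      let e1 : (A ⧸ maximalIdeal A) ≃ₗ[A] k :=
        (Submodule.quotEquivOfEq _ _ hker.symm).trans
          (LinearMap.quotKerEquivOfSurjective (Algebra.linearMap A k) hρA)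
      let e2 : (k ⊗[A] Ω[A⁄B]) ≃ₗ[A] (Ω[A⁄B]) ⧸ (maximalIdeal A • (⊤ : Submodule A (Ω[A⁄B]))) :=
        (TensorProduct.congr e1.symm (LinearEquiv.refl A _)).trans
          (TensorProduct.quotTensorEquivQuotSMul _ _)
      haveI : Subsingleton ((Ω[A⁄B]) ⧸ (maximalIdeal A • (⊤ : Submodule A (Ω[A⁄B])))) :=
        e2.symm.toEquiv.subsingleton
      exact Submodule.Quotient.subsingleton_iff.mp this
    let D := der ρB hρB hρA hcomp
    let L : Ω[A⁄B] →ₗ[A] (A ⧸ J (A := A) (B := B)) := D.liftKaehlerDifferential
    have hLD : ∀ a, L (KaehlerDifferential.D B A a) = D a := fun a =>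
      Derivation.liftKaehlerDifferential_comp_D D a
    have hkill : ∀ (y : A), y ∈ maximalIdeal A → ∀ ω : Ω[A⁄B], y • L ω = 0 := by
      intro y hy ω
      have hω : ω ∈ Submodule.span A (Set.range (KaehlerDifferential.D B A)) := by
        rw [KaehlerDifferential.span_range_derivation]
        exact Submodule.mem_top
      induction hω using Submodule.span_induction with
      | mem x hx =>
        obtain ⟨a, rfl⟩ := hx
        rw [hLD]
        exact max_smul_der ρB hρB hρA hcomp y hy a
      | zero => rw [map_zero, smul_zero]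
      | add x x' _ _ h h' => rw [map_add, smul_add, h, h', add_zero]
      | smul c x _ h => rw [map_smul, smul_comm, h, smul_zero]
    have hL0 : ∀ ω : Ω[A⁄B], L ω = 0 := by
      intro ω
      have hω : ω ∈ (maximalIdeal A) • (⊤ : Submodule A (Ω[A⁄B])) := by
        rw [hΩ]
        exact Submodule.mem_top
      refine Submodule.smul_induction_on hω ?_ ?_
      · intro y hy ω' _
        rw [map_smul]
        exact hkill y hy ω'
      · intro x x' h h'
        rw [map_add, h, h', add_zero]
    have hmJ : maximalIdeal A ≤ J (A := A) (B := B) := by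
      intro x hx
      have h1 := der_apply_of_mem ρB hρB hρA hcomp x hx
      have h2 : D x = 0 := by rw [← hLD, hL0]
      rw [← Ideal.Quotient.eq_zero_iff_mem, ← h1]
      exact h2
    -- Nakayama 1
    have hmI : maximalIdeal A ≤ (maximalIdeal B).map (algebraMap B A) := by
      apply Submodule.le_of_le_smul_of_le_jacobson_bot (I := maximalIdeal A)
        (IsNoetherian.noetherian _) (IsLocalRing.maximalIdeal_le_jacobson _)
      rw [smul_eq_mul, ← pow_two, sup_comm]
      exact hmJ
    -- nilpotency of m_B
    obtain ⟨N, hN⟩ : ∃ N : ℕ, maximalIdeal B ^ N = ⊥ := by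
      have := IsArtinianRing.isNilpotent_jacobson_bot (R := B)
      rw [IsLocalRing.jacobson_eq_maximalIdeal ⊥ bot_ne_top] at this
      exact this
    have hstep : ∀ n : ℕ, ∀ a : A, ∃ b : B,
        a - algebraMap B A b ∈ ((maximalIdeal B ^ n) • (⊤ : Submodule B A)) := by
      intro n
      induction n with
      | zero =>
        intro a
        refine ⟨0, ?_⟩
        rw [pow_zero, Ideal.one_eq_top, Submodule.top_smul]
        exact Submodule.mem_top
      | succ n ih =>
        intro a
        obtain ⟨b, hb⟩ := ih a
        have key : ∀ z ∈ ((maximalIdeal B ^ n) • (⊤ : Submodule B A)), ∃ b' : B,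
            z - algebraMap B A b' ∈ ((maximalIdeal B ^ (n + 1)) • (⊤ : Submodule B A)) := by
          intro z hz
          refine Submodule.smul_induction_on hz ?_ ?_
          · intro c hc a' _
            obtain ⟨b', hb'⟩ := hρB (algebraMap A k a')
            have hx' : a' - algebraMap B A b' ∈ maximalIdeal A :=
              sub_mem_max ρB hρA hcomp a' b' hb'
            have hx'' : a' - algebraMap B A b' ∈ ((maximalIdeal B) • (⊤ : Submodule B A)) := by
              rw [Ideal.smul_top_eq_map]
              exact hmI hx'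
            refine ⟨c * b', ?_⟩
            have : c • a' - algebraMap B A (c * b') = c • (a' - algebraMap B A b') := by
              rw [smul_sub, map_mul, Algebra.smul_def c (algebraMap B A b')]
            rw [this, pow_succ, Submodule.mul_smul]
            exact Submodule.smul_mem_smul hc hx''
          · rintro z z' ⟨b₁, h₁⟩ ⟨b₂, h₂⟩
            refine ⟨b₁ + b₂, ?_⟩
            have : z + z' - algebraMap B A (b₁ + b₂) =
                (z - algebraMap B A b₁) + (z' - algebraMap B A b₂) := by
              rw [map_add]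
              ring
            rw [this]
            exact Submodule.add_mem _ h₁ h₂
        obtain ⟨b', hb'⟩ := key _ hb
        refine ⟨b + b', ?_⟩
        have : a - algebraMap B A (b + b') = a - algebraMap B A b - algebraMap B A b' := by
          rw [map_add]
          ring
        rw [this]
        exact hb'
    intro a
    obtain ⟨b, hb⟩ := hstep N a
    rw [hN, Submodule.bot_smul, Submodule.mem_bot, sub_eq_zero] at hb
    exact ⟨b, hb.symm⟩

end Groth.Agent.Helper6.ArtKaehler
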