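import Mathlib
import Groth.Prelude.Def_DRing4
import Groth.Agent.Helper6.TenCxBdd

/-! Chain-level tensor–hom adjunction `(- ⊗ P) ⊣ Hom•(P, -)` on cochain complexes of modules. -/

set_option autoImplicit false
set_option linter.style.haveILetI false
set_option linter.unusedSectionVars false

universe u
open CategoryTheory CategoryTheory.Limits MonoidalCategory
open CochainComplex CochainComplex.HomComplex

namespace Groth.Agent.Helper6.HomTen
open TenCx DRing

variable {A : Type u} [CommRing A]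
variable {W W' P P' X X' : DRing.Cx A}

lemma negOnePow_cancel (i j : ℤ) (hij : i + 1 = j) {M : Type*} [AddCommGroup M] (m : M) :
    i.negOnePow • m + j.negOnePow • m = 0 := by
  subst hij
  rw [Int.negOnePow_succ, Units.neg_smul, add_neg_cancel]

lemma map_units_smul' {M N : Type*} [AddCommGroup M] [AddCommGroup N] [Module A M] [Module A N]
    (φ : M →ₗ[A] N) (e : ℤˣ) (m : M) : φ (e • m) = e • φ m := by
  rw [Units.smul_def, Units.smul_def, map_zsmul]

/-- differential of the tensor complex on pure tensors, `.hom` form -/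
lemma ι_d_hom (L K : DRing.Cx A) (p q p' q' n n' : ℤ) (h : p + q = n) (hn : n + 1 = n')
    (hp : p + 1 = p') (hq : q + 1 = q') (w : L.X p) (x : K.X q) :
    ((L ⊗ K).d n n').hom ((ι L K p q n h).hom (w ⊗ₜ[A] x)) =
      (ι L K p' q n' (by omega)).hom ((L.d p p').hom w ⊗ₜ[A] x) +
      p.negOnePow • (ι L K p q' n' (by omega)).hom (w ⊗ₜ[A] (K.d q q').hom x) := by
  have := ι_d_apply' L K p q p' q' n n' h hn hp hq (w ⊗ₜ[A] x)
  rw [ModuleCat.MonoidalCategory.whiskerRight_apply,
    ModuleCat.MonoidalCategory.whiskerLeft_apply] at this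
  exact this

/-! ### curry -/

/-- bilinear component of curry -/
noncomputable def cur (f : W ⊗ P ⟶ X) (n p q : ℤ) (h : n + p = q) :
    W.X n →ₗ[A] P.X p →ₗ[A] X.X q :=
  TensorProduct.curry (ι W P n p q h ≫ f.f q).hom

lemma cur_apply (f : W ⊗ P ⟶ X) (n p q : ℤ) (h : n + p = q) (w : W.X n) (x : P.X p) :
    cur f n p q h w x = (f.f q).hom ((ι W P n p q h).hom (w ⊗ₜ[A] x)) := rfl

noncomputable def curryLin (f : W ⊗ P ⟶ X) (n : ℤ) : W.X n →ₗ[A] Cochain P X n where
  toFun w := Cochain.mk (fun p q hpq => ModuleCat.ofHom (cur f n p q (by omega) w))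
  map_add' w w' := by
    ext p q hpq
    simp only [Cochain.mk_v, Cochain.add_v]
    rw [map_add]
    rfl
  map_smul' a w := by
    ext p q hpq
    simp only [Cochain.mk_v, Cochain.smul_v, RingHom.id_apply]
    rw [map_smul]
    rfl

lemma curryLin_v (f : W ⊗ P ⟶ X) (n p q : ℤ) (hpq : p + n = q) (w : W.X n) (x : P.X p) :
    ((curryLin f n w).v p q hpq).hom x =
      (f.f q).hom ((ι W P n p q (by omega)).hom (w ⊗ₜ[A] x)) := rfl

lemma curry_comm (f : W ⊗ P ⟶ X) (i j : ℤ) (hij : i + 1 = j) (w : W.X i) :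
    δ i j (curryLin f i w) = curryLin f j ((W.d i j).hom w) := by
  ext p q hpq x
  rw [δ_v i j hij _ p q hpq (q - 1) (p + 1) rfl rfl]
  have hf : (X.d (q - 1) q).hom ((f.f (q - 1)).hom
      ((ι W P i p (q - 1) (by omega)).hom (w ⊗ₜ[A] x))) =
      (f.f q).hom (((W ⊗ P).d (q - 1) q).hom ((ι W P i p (q - 1) (by omega)).hom (w ⊗ₜ[A] x))) :=
    congrArg (fun t => t.hom ((ι W P i p (q - 1) (by omega)).hom (w ⊗ₜ[A] x))) (f.comm (q - 1) q)
  have hd := ι_d_hom W P i p j (p + 1) (q - 1) q (by omega) (by omega) hij rfl w x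
  rw [hd, map_add, map_units_smul'] at hf
  change (X.d (q - 1) q).hom ((f.f (q - 1)).hom
      ((ι W P i p (q - 1) (by omega)).hom (w ⊗ₜ[A] x))) +
      j.negOnePow • (f.f q).hom ((ι W P i (p + 1) q (by omega)).hom
        (w ⊗ₜ[A] (P.d p (p + 1)).hom x)) =
    (f.f q).hom ((ι W P j p q (by omega)).hom ((W.d i j).hom w ⊗ₜ[A] x))
  rw [hf, add_assoc, negOnePow_cancel i j hij, add_zero]

/-- curry of a chain map -/
noncomputable def curry (f : W ⊗ P ⟶ X) : W ⟶ homCx P X where
  f n := ModuleCat.ofHom (curryLin f n)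
  comm' i j hij := by
    have hij' : i + 1 = j := hij
    refine ModuleCat.hom_ext (LinearMap.ext fun w => ?_)
    exact curry_comm f i j hij' w

lemma curry_f_apply (f : W ⊗ P ⟶ X) (n : ℤ) (w : W.X n) :
    ((curry f).f n).hom w = curryLin f n w := rfl

/-! ### uncurry -/

/-- bilinear component of uncurry -/
noncomputable def unc (g : W ⟶ homCx P X) (n p q : ℤ) (h : n + p = q) :
    W.X n →ₗ[A] P.X p →ₗ[A] X.X q where
  toFun w := (((g.f n).hom w : Cochain P X n).v p q (by omega)).hom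
  map_add' w w' := by
    rw [map_add]
    rfl
  map_smul' a w := by
    rw [map_smul]
    rfl

/-- component of uncurry on a summand -/
noncomputable def uncurryComp (g : W ⟶ homCx P X) (n p q : ℤ) (h : n + p = q) :
    W.X n ⊗ P.X p ⟶ X.X q :=
  ModuleCat.ofHom (TensorProduct.lift (unc g n p q h))

lemma uncurryComp_tmul (g : W ⟶ homCx P X) (n p q : ℤ) (h : n + p = q) (w : W.X n) (x : P.X p) :
    (uncurryComp g n p q h).hom (w ⊗ₜ[A] x) =
      (((g.f n).hom w : Cochain P X n).v p q (by omega)).hom x :=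
  TensorProduct.lift.tmul _ _

/-- uncurry in a fixed degree -/
noncomputable def uncurryF (g : W ⟶ homCx P X) (q : ℤ) : (W ⊗ P).X q ⟶ X.X q :=
  HomologicalComplex.mapBifunctorDesc (fun n p h => uncurryComp g n p q h)

lemma ι_uncurryF (g : W ⟶ homCx P X) (n p q : ℤ) (h : n + p = q) :
    ι W P n p q h ≫ uncurryF g q = uncurryComp g n p q h :=
  HomologicalComplex.ι_mapBifunctorDesc _ _ _ _

lemma uncurryF_tm (g : W ⟶ homCx P X) (n p q : ℤ) (h : n + p = q) (w : W.X n) (x : P.X p) :
    (uncurryF g q).hom ((ι W P n p q h).hom (w ⊗ₜ[A] x)) =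
      (((g.f n).hom w : Cochain P X n).v p q (by omega)).hom x := by
  have := congrArg (fun t => t.hom (w ⊗ₜ[A] x)) (ι_uncurryF g n p q h)
  exact this.trans (uncurryComp_tmul g n p q h w x)

lemma g_comm_apply (g : W ⟶ homCx P X) (n n' : ℤ) (hn : n + 1 = n') (w : W.X n) :
    ((g.f n').hom ((W.d n n').hom w) : Cochain P X n') =
      δ n n' ((g.f n).hom w : Cochain P X n) := by
  have := congrArg (fun t => t.hom w) (g.comm n n')
  exact this.symm

/-- uncurry of a chain map -/
noncomputable def uncurry (g : W ⟶ homCx P X) : W ⊗ P ⟶ X where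
  f q := uncurryF g q
  comm' q q' hqq' := by
    have h1 : q + 1 = q' := hqq'
    refine TenCx.hom_ext (fun n p hnp => ?_)
    refine ModuleCat.MonoidalCategory.tensor_ext (fun w x => ?_)
    change (X.d q q').hom ((uncurryF g q).hom ((ι W P n p q hnp).hom (w ⊗ₜ[A] x))) =
      (uncurryF g q').hom (((W ⊗ P).d q q').hom ((ι W P n p q hnp).hom (w ⊗ₜ[A] x)))
    rw [ι_d_hom W P n p (n + 1) (p + 1) q q' hnp h1 rfl rfl w x, map_add, map_units_smul',
      uncurryF_tm, uncurryF_tm, uncurryF_tm, g_comm_apply g n (n + 1) rfl w,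
      δ_v n (n + 1) rfl _ p q' (by omega) q (p + 1) (by omega) rfl]
    change _ = ((X.d q q').hom ((((g.f n).hom w : Cochain P X n).v p q (by omega)).hom x) +
      (n + 1).negOnePow • (((g.f n).hom w : Cochain P X n).v (p + 1) q' (by omega)).hom
        ((P.d p (p + 1)).hom x)) + _
    rw [add_assoc, add_comm ((n + 1).negOnePow • _), negOnePow_cancel n (n + 1) rfl, add_zero]

lemma uncurry_f_tm (g : W ⟶ homCx P X) (n p q : ℤ) (h : n + p = q) (w : W.X n) (x : P.X p) :
    ((uncurry g).f q).hom ((ι W P n p q h).hom (w ⊗ₜ[A] x)) =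
      (((g.f n).hom w : Cochain P X n).v p q (by omega)).hom x :=
  uncurryF_tm g n p q h w x

/-! ### the bijection -/

lemma uncurry_curry (f : W ⊗ P ⟶ X) : uncurry (curry f) = f := by
  refine HomologicalComplex.hom_ext _ _ (fun q => TenCx.hom_ext (fun n p h =>
    ModuleCat.MonoidalCategory.tensor_ext (fun w x => ?_)))
  change ((uncurry (curry f)).f q).hom ((ι W P n p q h).hom (w ⊗ₜ[A] x)) =
    (f.f q).hom ((ι W P n p q h).hom (w ⊗ₜ[A] x))
  rw [uncurry_f_tm]
  rfl

lemma curry_uncurry (g : W ⟶ homCx P X) : curry (uncurry g) = g := by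
  refine HomologicalComplex.hom_ext _ _ (fun n => ModuleCat.hom_ext (LinearMap.ext fun w => ?_))
  change curryLin (uncurry g) n w = ((g.f n).hom w : Cochain P X n)
  ext p q hpq x
  rw [curryLin_v, uncurry_f_tm]

/-! ### naturality -/

lemma uncurry_naturality_left (φ : W' ⟶ W) (g : W ⟶ homCx P X) :
    uncurry (φ ≫ g) = (φ ▷ P) ≫ uncurry g := by
  refine HomologicalComplex.hom_ext _ _ (fun q => TenCx.hom_ext (fun n p h =>
    ModuleCat.MonoidalCategory.tensor_ext (fun w x => ?_)))
  rw [HomologicalComplex.comp_f, ι_whiskerRight_assoc]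
  change ((uncurry (φ ≫ g)).f q).hom ((ι W' P n p q h).hom (w ⊗ₜ[A] x)) =
    ((uncurry g).f q).hom ((ι W P n p q h).hom ((φ.f n ▷ P.X p).hom (w ⊗ₜ[A] x)))
  rw [uncurry_f_tm]
  have : (φ.f n ▷ P.X p).hom (w ⊗ₜ[A] x) = (φ.f n).hom w ⊗ₜ[A] x :=
    ModuleCat.MonoidalCategory.whiskerRight_apply _ _ _ _
  rw [this, uncurry_f_tm]
  rfl

lemma curry_naturality_right (f : W ⊗ P ⟶ X) (ψ : X ⟶ X') :
    curry (f ≫ ψ) = curry f ≫ homCxMap P ψ := by
  refine HomologicalComplex.hom_ext _ _ (fun n => ModuleCat.hom_ext (LinearMap.ext fun w => ?_))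
  change curryLin (f ≫ ψ) n w = (curryLin f n w).comp (Cochain.ofHom ψ) (add_zero n)
  ext p q hpq x
  rw [Cochain.comp_zero_cochain_v, Cochain.ofHom_v]
  rfl

/-- the chain-level tensor–hom adjunction -/
noncomputable def adjC (P : DRing.Cx A) : tensorRight P ⊣ DRing.homCxFunctor P :=
  Adjunction.mkOfHomEquiv
    { homEquiv := fun W X =>
        { toFun := fun f => curry f
          invFun := fun g => uncurry g
          left_inv := fun f => uncurry_curry f
          right_inv := fun g => curry_uncurry g }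
      homEquiv_naturality_left_symm := fun φ g => uncurry_naturality_left φ g
      homEquiv_naturality_right := fun f ψ => curry_naturality_right f ψ }

/-- the chain-level evaluation `Hom•(P, X) ⊗ P ⟶ X` -/
noncomputable def evC (P X : DRing.Cx A) : homCx P X ⊗ P ⟶ X := uncurry (𝟙 (homCx P X))

lemma adjC_counit_app (P X : DRing.Cx A) : (adjC P).counit.app X = evC P X := by
  rfl

lemma evC_tm (P X : DRing.Cx A) (n p q : ℤ) (h : n + p = q) (z : Cochain P X n) (x : P.X p) :
    ((evC P X).f q).hom ((ι (homCx P X) P n p q h).hom (z ⊗ₜ[A] x)) =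
      (z.v p q (by omega)).hom x :=
  uncurry_f_tm (𝟙 (homCx P X)) n p q h z x

end Groth.Agent.Helper6.HomTen
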