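import Mathlib
import Groth.Prelude.Def_DRing4
import Groth.Agent.Helper6.HomTenA
import Groth.Agent.Helper6.DualCx

set_option autoImplicit false
set_option linter.style.haveILetI false
set_option linter.unusedSectionVars false

/-! For a bounded complex `P` of finite projective modules, `X ⊗ Hom•(P, A[0]) ≅ Hom•(P, X)`. -/

universe u
open CategoryTheory CategoryTheory.Limits MonoidalCategory
open CochainComplex CochainComplex.HomComplex

namespace Groth.Agent.Helper6.TenDual
open TenCx DRing Groth.Agent.Helper6.DualCx Groth.Agent.Helper6.HomTen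

variable {A : Type u} [CommRing A]

/-- the unit module -/
abbrev uA (A : Type u) [CommRing A] : ModuleCat.{u} A := ModuleCat.of A A

/-- cochains from `M[0]` as a module of maps -/
noncomputable def fromSingleLin (K : DRing.Cx A) (M : ModuleCat.{u} A) {q n : ℤ} (h : 0 + n = q) :
    Cochain (sg M) K n ≃ₗ[A] (M ⟶ K.X q) :=
  { Cochain.fromSingleEquiv h with
    map_smul' := fun a z => by
      show _ ≫ (a • z).v 0 q h = a • (_ ≫ z.v 0 q h)
      rw [Cochain.smul_v]
      exact Linear.comp_smul _ _ _ _ a (z.v 0 q h) }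

/-- `x ↦ (a ↦ a • x)` -/
noncomputable def hatLin (M : ModuleCat.{u} A) : M →ₗ[A] (uA A ⟶ M) where
  toFun x := ModuleCat.ofHom (LinearMap.toSpanSingleton A M x)
  map_add' x y := by
    refine ModuleCat.hom_ext (LinearMap.ext fun a => ?_)
    show a • (x + y) = a • x + a • y
    exact smul_add a x y
  map_smul' c x := by
    refine ModuleCat.hom_ext (LinearMap.ext fun a => ?_)
    show a • c • x = c • a • x
    exact smul_comm a c x

lemma hatLin_apply (M : ModuleCat.{u} A) (x : M) (a : A) : (hatLin M x).hom a = a • x := rfl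

variable (P X : DRing.Cx A)

/-- the dual complex -/
noncomputable abbrev Dv : DRing.Cx A := DRing.homCx P (sg (uA A))

/-- the cochain `A[0] → X` of degree `j` attached to `x ∈ X^j` -/
noncomputable def cxLin (j : ℤ) : X.X j →ₗ[A] Cochain (sg (uA A)) X j :=
  (fromSingleLin X (uA A) (zero_add j)).symm.toLinearMap ∘ₗ hatLin (X.X j)

lemma cxLin_eq (j : ℤ) (x : X.X j) :
    cxLin X j x = Cochain.fromSingleMk (hatLin (X.X j) x) (zero_add j) := rfl

lemma δ_cxLin (j j' : ℤ) (x : X.X j) :
    δ j j' (cxLin X j x) = cxLin X j' ((X.d j j').hom x) := by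
  rw [cxLin_eq, cxLin_eq, Cochain.δ_fromSingleMk _ _ j' j' (zero_add j')]
  congr 1
  refine ModuleCat.hom_ext (LinearMap.ext fun a => ?_)
  show (X.d j j').hom (a • x) = a • (X.d j j').hom x
  exact map_smul _ a x

/-- the pairing `X^j × Hom^i(P, A) → Hom^n(P, X)` -/
noncomputable def pair (j i n : ℤ) (h : i + j = n) :
    X.X j →ₗ[A] Cochain P (sg (uA A)) i →ₗ[A] Cochain P X n :=
  LinearMap.mk₂ A (fun x z => z.comp (cxLin X j x) h)
    (fun x x' z => by rw [map_add, Cochain.comp_add])
    (fun a x z => by rw [map_smul, Cochain.comp_smul])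
    (fun x z z' => Cochain.add_comp z z' _ h)
    (fun a x z => Cochain.smul_comp a z _ h)

/-- the component of the comparison map on a summand -/
noncomputable def comp (j i n : ℤ) (h : j + i = n) :
    X.X j ⊗ (Dv P).X i ⟶ ModuleCat.of A (Cochain P X n) :=
  ModuleCat.ofHom (TensorProduct.lift (pair P X j i n (by omega)))

lemma comp_tmul (j i n : ℤ) (h : j + i = n) (x : X.X j) (z : (Dv P).X i) :
    (comp P X j i n h).hom (x ⊗ₜ[A] z) =
      Cochain.comp (z : Cochain P (sg (uA A)) i) (cxLin X j x) (by omega) :=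
  TensorProduct.lift.tmul _ _

/-- the comparison map in a fixed degree -/
noncomputable def phiF (n : ℤ) : (X ⊗ Dv P).X n ⟶ (homCx P X).X n :=
  HomologicalComplex.mapBifunctorDesc (fun j i h => comp P X j i n h)

lemma ι_phiF (j i n : ℤ) (h : j + i = n) :
    ι X (Dv P) j i n h ≫ phiF P X n = comp P X j i n h :=
  HomologicalComplex.ι_mapBifunctorDesc _ _ _ _

lemma phiF_tm (j i n : ℤ) (h : j + i = n) (x : X.X j) (z : (Dv P).X i) :
    (phiF P X n).hom ((ι X (Dv P) j i n h).hom (x ⊗ₜ[A] z)) =
      Cochain.comp (z : Cochain P (sg (uA A)) i) (cxLin X j x) (by omega) := by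
  have := congrArg (fun t => t.hom (x ⊗ₜ[A] z)) (ι_phiF P X j i n h)
  exact this.trans (comp_tmul P X j i n h x z)

/-- the comparison map `X ⊗ P^∨ ⟶ Hom•(P, X)` -/
noncomputable def phi : X ⊗ Dv P ⟶ homCx P X where
  f n := phiF P X n
  comm' n n' hnn' := by
    have h1 : n + 1 = n' := hnn'
    refine TenCx.hom_ext (fun j i hji => ?_)
    refine ModuleCat.MonoidalCategory.tensor_ext (fun x z => ?_)
    change ((homCx P X).d n n').hom ((phiF P X n).hom ((ι X (Dv P) j i n hji).hom (x ⊗ₜ[A] z))) =
      (phiF P X n').hom (((X ⊗ Dv P).d n n').hom ((ι X (Dv P) j i n hji).hom (x ⊗ₜ[A] z)))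
    rw [ι_d_hom X (Dv P) j i (j + 1) (i + 1) n n' hji h1 rfl rfl x z, map_add, map_units_smul',
      phiF_tm, phiF_tm, phiF_tm]
    change δ n n' (Cochain.comp (z : Cochain P (sg (uA A)) i) (cxLin X j x) _) = _
    rw [δ_comp (z : Cochain P (sg (uA A)) i) (cxLin X j x) _ (i + 1) (j + 1) n' h1 rfl rfl,
      δ_cxLin X j (j + 1) x]
    rfl


/-! ### bijectivity -/

/-- evaluation of a component, as a linear map -/
noncomputable def evV (n p q : ℤ) (hpq : p + n = q) :
    (homCx P X).X n →ₗ[A] (P.X p ⟶ X.X q) where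
  toFun w := (w : Cochain P X n).v p q hpq
  map_add' w w' := Cochain.add_v (w : Cochain P X n) w' _ _ _
  map_smul' a w := Cochain.smul_v a (w : Cochain P X n) _ _ _

lemma comp_cx_v_ne (j i n : ℤ) (h : i + j = n) (x : X.X j) (z : Cochain P (sg (uA A)) i)
    (p q : ℤ) (hpq : p + n = q) (hp : p + i ≠ 0) :
    (z.comp (cxLin X j x) h).v p q hpq = 0 := by
  rw [Cochain.comp_v z (cxLin X j x) h p (p + i) q rfl (by omega), cxLin_eq,
    Cochain.fromSingleMk_v_eq_zero _ _ _ _ _ hp, Limits.comp_zero]

lemma comp_cx_v_eq (j i n : ℤ) (h : i + j = n) (x : X.X j) (z : Cochain P (sg (uA A)) i)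
    (p : ℤ) (hp : p + i = 0) :
    (z.comp (cxLin X j x) h).v p j (by omega) =
      toSingleLin P (uA A) hp z ≫ hatLin (X.X j) x := by
  rw [Cochain.comp_v z (cxLin X j x) h p 0 j hp (zero_add j), cxLin_eq, Cochain.fromSingleMk_v]
  exact (Category.assoc _ _ _).symm

/-- the `p`-component of `phi` on the `(j, i)` summand -/
noncomputable def theta (j i n p : ℤ) (h : j + i = n) (hp : p + i = 0) :
    (TensorProduct A (X.X j) ((Dv P).X i)) →ₗ[A] (P.X p ⟶ X.X j) :=
  evV P X n p j (by omega) ∘ₗ (phiF P X n).hom ∘ₗ (ι X (Dv P) j i n h).hom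

lemma theta_apply (j i n p : ℤ) (h : j + i = n) (hp : p + i = 0) (t : TensorProduct A (X.X j) ((Dv P).X i)) :
    theta P X j i n p h hp t =
      evV P X n p j (by omega) ((phiF P X n).hom ((ι X (Dv P) j i n h).hom t)) := rfl

lemma theta_tmul (j i n p : ℤ) (h : j + i = n) (hp : p + i = 0) (x : X.X j) (z : (Dv P).X i) :
    theta P X j i n p h hp (x ⊗ₜ[A] z) =
      toSingleLin P (uA A) hp (z : Cochain P (sg (uA A)) i) ≫ hatLin (X.X j) x := by
  rw [theta_apply, phiF_tm]
  exact comp_cx_v_eq P X j i n (by omega) x z p hp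

/-- the comparison with `dualTensorHom` -/
noncomputable def eDual (j i p : ℤ) (hp : p + i = 0) :
    TensorProduct A (X.X j) ((Dv P).X i) ≃ₗ[A] TensorProduct A (Module.Dual A (P.X p)) (X.X j) :=
  TensorProduct.comm A _ _ ≪≫ₗ
    TensorProduct.congr ((toSingleLin P (uA A) hp) ≪≫ₗ ModuleCat.homLinearEquiv (S := A))
      (LinearEquiv.refl A _)

lemma theta_eq (j i n p : ℤ) (h : j + i = n) (hp : p + i = 0) (t : TensorProduct A (X.X j) ((Dv P).X i)) :
    (theta P X j i n p h hp t).hom = dualTensorHom A (P.X p) (X.X j) (eDual P X j i p hp t) := by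
  induction t using TensorProduct.induction_on with
  | zero => rw [map_zero, map_zero, map_zero]; rfl
  | tmul x z =>
    rw [theta_tmul]
    refine LinearMap.ext fun y => ?_
    simp only [eDual, LinearEquiv.trans_apply, TensorProduct.comm_tmul, TensorProduct.congr_tmul,
      LinearEquiv.refl_apply, dualTensorHom_apply]
    rfl
  | add t t' ht ht' => rw [map_add, map_add, map_add, ModuleCat.hom_add, ht, ht']

lemma theta_bijective (j i n p : ℤ) (h : j + i = n) (hp : p + i = 0) [Module.Finite A (P.X p)]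
    [Module.Projective A (P.X p)] : Function.Bijective (theta P X j i n p h hp) := by
  have h1 : (ModuleCat.homLinearEquiv (S := A)).toLinearMap ∘ₗ theta P X j i n p h hp =
      dualTensorHom A (P.X p) (X.X j) ∘ₗ (eDual P X j i p hp).toLinearMap :=
    LinearMap.ext (theta_eq P X j i n p h hp)
  have h2 : Function.Bijective ((ModuleCat.homLinearEquiv (S := A)).toLinearMap ∘ₗ
      theta P X j i n p h hp) := by
    rw [h1]
    exact (dualTensorHom_bijective (R := A) (M := P.X p) (N := X.X j)).comp
      (eDual P X j i p hp).bijective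
  rw [LinearMap.coe_comp] at h2
  exact (Function.Bijective.of_comp_iff' (ModuleCat.homLinearEquiv (S := A)).bijective _).mp h2

lemma phiF_v_ne (j i n : ℤ) (h : j + i = n) (t : TensorProduct A (X.X j) ((Dv P).X i)) (p q : ℤ)
    (hpq : p + n = q) (hp : p + i ≠ 0) :
    evV P X n p q hpq ((phiF P X n).hom ((ι X (Dv P) j i n h).hom t)) = 0 := by
  induction t using TensorProduct.induction_on with
  | zero => rw [map_zero, map_zero, map_zero]
  | tmul x z =>
    rw [phiF_tm]
    exact comp_cx_v_ne P X j i n (by omega) x z p q hpq hp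
  | add t t' ht ht' => rw [map_add, map_add, map_add, ht, ht', add_zero]

lemma eq_zero_of_π (L K : DRing.Cx A) (n : ℤ) (T : (L ⊗ K).X n)
    (h : ∀ (p q : ℤ) (hpq : p + q = n), π L K p q n hpq T = 0) : T = 0 := by
  have h0 : (CofanMod.isoDS (cof L K n) (isColimitCof L K n)).hom T = 0 :=
    DFinsupp.ext (fun idx => h idx.1.1 idx.1.2 idx.2)
  apply CofanMod.injective_of_iso (CofanMod.isoDS (cof L K n) (isColimitCof L K n))
  exact h0.trans (map_zero _).symm

lemma theta_π (j i n p : ℤ) (h : j + i = n) (hp : p + i = 0) (T : (X ⊗ Dv P).X n) :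
    theta P X j i n p h hp (π X (Dv P) j i n h T) =
      evV P X n p j (by omega) ((phiF P X n).hom T) := by
  induction T using TenCx.induction_on with
  | h0 => rw [map_zero, map_zero, map_zero, map_zero]
  | hadd x y hx hy => rw [map_add, map_add, map_add, map_add, hx, hy]
  | hι j' i' h' t =>
    by_cases hi : i' = i
    · subst hi
      obtain rfl : j' = j := by omega
      rw [π_ι_self]
      rfl
    · rw [π_ι_ne X (Dv P) j i j' i' n h h' hi t, map_zero]
      exact (phiF_v_ne P X j' i' n h' t p j (by omega) (by omega)).symm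

theorem phiF_injective (hP : TermwiseFiniteProjective P) (n : ℤ) :
    Function.Injective (phiF P X n).hom := by
  rw [injective_iff_map_eq_zero]
  intro T hT
  apply eq_zero_of_π
  intro j i hji
  haveI := (hP (-i)).1
  haveI := (hP (-i)).2
  have h1 := theta_π P X j i n (-i) hji (by omega) T
  rw [hT, map_zero] at h1
  exact (theta_bijective P X j i n (-i) hji (by omega)).1 (h1.trans (map_zero _).symm)

theorem phiF_surjective (a b : ℤ) (hv : VanishesOutside P a b) (hP : TermwiseFiniteProjective P)
    (n : ℤ) : Function.Surjective (phiF P X n).hom := by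
  intro w
  have hsurj : ∀ p : ℤ, ∃ t : TensorProduct A (X.X (p + n)) ((Dv P).X (-p)),
      theta P X (p + n) (-p) n p (by omega) (by omega) t =
        (w : Cochain P X n).v p (p + n) rfl := fun p => by
    haveI := (hP p).1
    haveI := (hP p).2
    exact (theta_bijective P X (p + n) (-p) n p (by omega) (by omega)).2 _
  choose t ht using hsurj
  refine ⟨∑ p ∈ Finset.Icc a b, (ι X (Dv P) (p + n) (-p) n (by omega)).hom (t p), ?_⟩
  refine Cochain.ext _ _ (fun p' q' hpq' => ?_)
  obtain rfl : q' = p' + n := by omega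
  by_cases hp' : p' ∈ Finset.Icc a b
  · show evV P X n p' (p' + n) rfl ((phiF P X n).hom _) = _
    rw [map_sum, map_sum, Finset.sum_eq_single p']
    · exact ht p'
    · intro p _ hne
      exact phiF_v_ne P X (p + n) (-p) n (by omega) (t p) p' (p' + n) rfl (by omega)
    · intro h
      exact absurd hp' h
  · have hz : IsZero (P.X p') := hv p' (by rw [Finset.mem_Icc] at hp'; omega)
    exact hz.eq_of_src _ _

/-- **`X ⊗ P^∨ ≅ Hom•(P, X)` for a bounded complex of finite projective modules.** -/
noncomputable def tenDualIso (a b : ℤ) (hv : VanishesOutside P a b)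
    (hP : TermwiseFiniteProjective P) : X ⊗ Dv P ≅ homCx P X := by
  haveI : ∀ n, IsIso ((phi P X).f n) := fun n =>
    (ConcreteCategory.isIso_iff_bijective _).mpr
      ⟨phiF_injective P X hP n, phiF_surjective P X a b hv hP n⟩
  haveI : IsIso (phi P X) := HomologicalComplex.Hom.isIso_of_components _
  exact asIso (phi P X)

end Groth.Agent.Helper6.TenDual
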