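import Mathlib
import Groth.Prelude.Def_DTen
import Groth.Agent.Helper6.BiD2
import Groth.Agent.Helper6.KProjQ
import Groth.Agent.Helper6.TenDual1
import Groth.Agent.Helper6.LD4
import Groth.Agent.Helper6.TenCompute
import Groth.Agent.Helper6.TenCxBdd

/-!
# Perfect objects with endomorphisms `A` and no higher self-extensions are invertible
-/

set_option autoImplicit false
set_option linter.style.haveILetI false
set_option linter.unusedSectionVars false

universe u
open CategoryTheory CategoryTheory.Limits CochainComplex CochainComplex.HomComplex DerivedCategory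
open MonoidalCategory
attribute [local instance] HasDerivedCategory.standard

namespace Groth.Agent.Helper6.InvEnd
open Groth.Agent.Helper3.DRingLib Groth.Agent.Helper6.BiD Groth.Agent.Helper6.LD
open Groth.Agent.Helper6.TenDual Groth.Agent.Helper6.DualCx

variable {A : Type u} [CommRing A]

section PsiP
variable (X I : DRing.Cx A) (n : ℤ)

lemma gOf_eq_zero_iff' [X.IsKProjective] (z : Cocycle X I n) :
    gOf X I n z = 0 ↔ ∃ β : Cochain X I (n - 1), δ (n - 1) n β = z.1 := by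
  have hcob : z ∈ coboundaries X I n ↔ ∃ β : Cochain X I (n - 1), δ (n - 1) n β = z.1 :=
    mem_coboundaries_iff z (n - 1) (by omega)
  rw [← hcob, ← CohomologyClass.toHom_mk_eq_zero_iff, CohomologyClass.toHom_mk]
  constructor
  · intro h
    have h1 : Q.map (Cocycle.equivHomShift.symm z) = Q.map (0 : X ⟶ I⟦n⟧) := by
      rw [Functor.map_zero]; exact h
    obtain ⟨H⟩ := Groth.Agent.Helper6.KProjQ.homotopy_of_Q_map_eq _ _ h1
    rw [HomotopyCategory.eq_of_homotopy _ _ H, Functor.map_zero]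
  · intro h
    have h1 : (HomotopyCategory.quotient (ModuleCat.{u} A) (ComplexShape.up ℤ)).map
        (Cocycle.equivHomShift.symm z) =
        (HomotopyCategory.quotient (ModuleCat.{u} A) (ComplexShape.up ℤ)).map
          (0 : X ⟶ I⟦n⟧) := by
      rw [Functor.map_zero]; exact h
    have H := HomotopyCategory.homotopyOfEq _ _ h1
    show Q.map (Cocycle.equivHomShift.symm z) = 0
    rw [Groth.Agent.Helper6.KProjQ.Q_map_eq_of_homotopy H, Functor.map_zero]

lemma gOf_surjective' [X.IsKProjective] (g : DRing.toD X ⟶ DRing.toD (I⟦n⟧)) :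
    ∃ z : Cocycle X I n, gOf X I n z = g := by
  obtain ⟨c, hc⟩ := Groth.Agent.Helper6.KProjQ.Q_map_surjective X (I⟦n⟧) g
  exact ⟨Cocycle.equivHomShift c, by rw [gOf_equivHomShift, hc]⟩

lemma kerToHom_surjective' [X.IsKProjective] : Function.Surjective (kerToHom X I n) := by
  intro g
  obtain ⟨z, hz⟩ := gOf_surjective' X I n g
  refine ⟨⟨z.1, ?_⟩, ?_⟩
  · exact LinearMap.mem_ker.mpr (z.δ_eq_zero (n + 1))
  · rw [← hz]
    rfl

lemma ker_kerToHom' [X.IsKProjective] :
    LinearMap.range ((DRing.homCx X I).sc' (n - 1) n (n + 1)).moduleCatToCycles =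
      LinearMap.ker (kerToHom X I n) := by
  ext z
  rw [LinearMap.mem_ker, LinearMap.mem_range]
  show _ ↔ gOf X I n (cocycleOfKer X I n z) = 0
  rw [gOf_eq_zero_iff']
  constructor
  · rintro ⟨β, hβ⟩
    exact ⟨β, congrArg Subtype.val hβ⟩
  · rintro ⟨β, hβ⟩
    exact ⟨β, Subtype.ext hβ⟩

/-- `H^n(Hom•(X, I)) ≅ Hom_{D(A)}(X, I[n])` for K-projective `X` -/
noncomputable def PsiP [X.IsKProjective] :
    Dual.HD A (DRing.toD (DRing.homCx X I)) n ≃ₗ[A] (DRing.toD X ⟶ (DRing.toD I)⟦n⟧) :=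
  ((homologyToDIso (DRing.homCx X I) n) ≪≫ homologyIsoQuot (DRing.homCx X I) n).toLinearEquiv ≪≫ₗ
    Submodule.quotEquivOfEq _ _ (ker_kerToHom' X I n) ≪≫ₗ
      (kerToHom X I n).quotKerEquivOfSurjective (kerToHom_surjective' X I n) ≪≫ₗ
        Linear.homCongr A (Iso.refl _) ((Q.commShiftIso n).app I)

end PsiP

section EndCx

/-- the endomorphism complex of a K-projective complex whose image in `D(A)` has endomorphisms `A`
and no other self-extensions is `A[0]` -/
theorem endCx_iso (P : DRing.Cx A) [P.IsKProjective]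
    (hsurj : ∀ g : DRing.toD P ⟶ DRing.toD P, ∃ a : A, g = a • 𝟙 (DRing.toD P))
    (hinj : ∀ a : A, a • 𝟙 (DRing.toD P) = 0 → a = 0)
    (hvan : ∀ n : ℤ, n ≠ 0 → ∀ g : DRing.toD P ⟶ (DRing.toD P)⟦n⟧, g = 0) :
    Nonempty (DRing.toD (DRing.homCx P P) ≅ Dual.inD A A) := by
  have hsub : ∀ n : ℤ, n ≠ 0 → Subsingleton (Dual.HD A (DRing.toD (DRing.homCx P P)) n) := by
    intro n hn
    haveI : Subsingleton (DRing.toD P ⟶ (DRing.toD P)⟦n⟧) :=
      ⟨fun f g => (hvan n hn f).trans (hvan n hn g).symm⟩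
    exact (PsiP P P n).toEquiv.subsingleton
  haveI : (DRing.toD (DRing.homCx P P)).IsGE 0 :=
    isGE_of_HD _ 0 (fun i hi => hsub i (by omega))
  haveI : (DRing.toD (DRing.homCx P P)).IsLE 0 :=
    isLE_of_HD _ 0 (fun i hi => hsub i (by omega))
  let e1 : (DRing.toD P ⟶ (DRing.toD P)⟦(0 : ℤ)⟧) ≃ₗ[A] (DRing.toD P ⟶ DRing.toD P) :=
    Linear.homCongr A (Iso.refl _) ((shiftFunctorZero (Dual.D A) ℤ).app (DRing.toD P))
  have hbij : Function.Bijective (fun a : A => a • 𝟙 (DRing.toD P)) := by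
    constructor
    · intro a b hab
      have h0 : (a - b) • 𝟙 (DRing.toD P) = 0 := by
        rw [sub_smul]
        exact sub_eq_zero.mpr hab
      exact sub_eq_zero.mp (hinj _ h0)
    · intro g
      obtain ⟨a, ha⟩ := hsurj g
      exact ⟨a, ha.symm⟩
  let e2 : A ≃ₗ[A] (DRing.toD P ⟶ DRing.toD P) :=
    LinearEquiv.ofBijective
      ({ toFun := fun a => a • 𝟙 (DRing.toD P)
         map_add' := fun a b => add_smul a b _
         map_smul' := fun r a => by
           rw [smul_eq_mul, mul_smul]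
           rfl } : A →ₗ[A] (DRing.toD P ⟶ DRing.toD P)) hbij
  exact iso_inD_of_concentrated _ A (PsiP P P 0 ≪≫ₗ e1 ≪≫ₗ e2.symm)

end EndCx

section Main

variable (A) [DTen.HasLTen A]

/-- the unit object is `A[0]` -/
noncomputable def unitIso : Dual.inD A A ≅ DTen.unit A :=
  (DerivedCategory.singleFunctorIsoCompQ (ModuleCat.{u} A) 0).app (ModuleCat.of A A)

/-- **A perfect object of `D(A)` whose endomorphism ring is `A` and which has no other
self-extensions is invertible for the derived tensor product.** -/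
theorem main (L : Dual.D A) (hperf : DRing.IsPerfect A L)
    (hsurj : ∀ g : L ⟶ L, ∃ a : A, g = a • 𝟙 L)
    (hinj : ∀ a : A, a • 𝟙 L = 0 → a = 0)
    (hvan : ∀ n : ℤ, n ≠ 0 → ∀ g : L ⟶ L⟦n⟧, g = 0) : DTen.IsInvertible A L := by
  obtain ⟨P, a, b, hv, hp, ⟨eP⟩⟩ := hperf
  have hPb : DRing.VanishesAbove P b := fun i hi => hv i (Or.inr hi)
  haveI : P.IsKProjective := isKProjective_of_vanishesAbove P b hPb (fun i => (hp i).2)
  have hkf : TenCx.KFlat P := TenCx.kflat_of_boundedAbove_flat P b hPb (fun i => by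
    haveI := (hp i).2
    infer_instance)
  have hsurj' : ∀ g : DRing.toD P ⟶ DRing.toD P, ∃ a : A, g = a • 𝟙 (DRing.toD P) := by
    intro g
    obtain ⟨c, hc⟩ := hsurj (eP.inv ≫ g ≫ eP.hom)
    refine ⟨c, ?_⟩
    have : g = eP.hom ≫ (eP.inv ≫ g ≫ eP.hom) ≫ eP.inv := by simp
    rw [this, hc, Linear.smul_comp, Linear.comp_smul, Category.id_comp, Iso.hom_inv_id]
  have hinj' : ∀ c : A, c • 𝟙 (DRing.toD P) = 0 → c = 0 := by
    intro c hc
    apply hinj c
    have : c • 𝟙 L = eP.inv ≫ (c • 𝟙 (DRing.toD P)) ≫ eP.hom := by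
      rw [Linear.smul_comp, Linear.comp_smul, Category.id_comp, Iso.inv_hom_id]
    rw [this, hc, zero_comp, comp_zero]
  have hvan' : ∀ n : ℤ, n ≠ 0 → ∀ g : DRing.toD P ⟶ (DRing.toD P)⟦n⟧, g = 0 := by
    intro n hn g
    have h0 := hvan n hn (eP.inv ≫ g ≫ (CategoryTheory.shiftFunctor (Dual.D A) n).map eP.hom)
    have : g = eP.hom ≫ (eP.inv ≫ g ≫ (CategoryTheory.shiftFunctor (Dual.D A) n).map eP.hom) ≫
        (CategoryTheory.shiftFunctor (Dual.D A) n).map eP.inv := by
      simp [← Functor.map_comp]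
    rw [this, h0, zero_comp, comp_zero]
  obtain ⟨eE⟩ := endCx_iso P hsurj' hinj' hvan'
  haveI : IsIso ((DTen.ε A).app (P, Dv P)) :=
    TenCompute.isIso_ε_of_kflat A P (Dv P) (Or.inl hkf)
  haveI : IsIso ((DTen.ε A).app (Dv P, P)) :=
    TenCompute.isIso_ε_of_kflat A (Dv P) P (Or.inr hkf)
  let i0 : DRing.toD (P ⊗ Dv P) ≅ DTen.unit A :=
    Q.mapIso (tenDualIso P P a b hv hp) ≪≫ eE ≪≫ unitIso A
  refine ⟨DRing.toD (Dv P), ⟨?_⟩, ⟨?_⟩⟩
  · exact (DTen.LTen₂ A).mapIso (Iso.prod eP.symm (Iso.refl _)) ≪≫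
      asIso ((DTen.ε A).app (P, Dv P)) ≪≫ i0
  · exact (DTen.LTen₂ A).mapIso (Iso.prod (Iso.refl _) eP.symm) ≪≫
      asIso ((DTen.ε A).app (Dv P, P)) ≪≫ Q.mapIso (DTen.braidCx (Dv P) P) ≪≫ i0

end Main

end Groth.Agent.Helper6.InvEnd
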