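import Mathlib
import Groth.Prelude.Def_DRing4
import Groth.Agent.Helper6.DualFun3

/-!
# Recognition of a normalized dualizing complex over a Noetherian local ring
-/

set_option autoImplicit false
set_option linter.style.haveILetI false
set_option linter.unusedSectionVars false

universe u
open CategoryTheory CategoryTheory.Limits CochainComplex CochainComplex.HomComplex
  Pretriangulated DerivedCategory
attribute [local instance] HasDerivedCategory.standard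

namespace Groth.Agent.Helper6.Recog
open Groth.Agent.Helper3.DRingLib Groth.Agent.Helper6.DK Groth.Agent.Helper6.LD
  Groth.Agent.Helper6.LocExt Groth.Agent.Helper6.BiD Groth.Agent.Helper6.DualFun IsLocalRing

variable {A : Type u} [CommRing A]

/-- **Recognition.** Over a Noetherian local ring with a normalized dualizing complex `ω`, a bounded
below object `ω'` with finite cohomology with `Ext^i(κ, ω') = 0` for `i ≠ 0` and `Hom(κ, ω')`
cyclic and non-zero is isomorphic to `ω`. -/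
theorem iso_of_recognition [IsLocalRing A] [IsNoetherianRing A] (ω ω' : Dual.D A)
    (hω : Dual.IsDualizing A ω) (hn : Dual.IsNormalized A ω)
    (a' : ℤ) [ω'.IsGE a'] (hfin' : ∀ i : ℤ, Module.Finite A (Dual.HD A ω' i))
    (hn' : Dual.IsNormalized A ω')
    (t : Dual.inD A (ResidueField A) ⟶ ω') (ht : t ≠ 0)
    (hgen : ∀ s : Dual.inD A (ResidueField A) ⟶ ω', ∃ c : A, s = c • t) :
    Nonempty (ω' ≅ ω) := by
  obtain ⟨I, a, b, hv, hinj, hKI, ⟨e⟩, hend, hext⟩ := exists_dualizing_rep ω hω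
  haveI := hKI
  let W₀ : DRing.Cx A := DerivedCategory.Q.objPreimage ω'
  let eW : Q.obj W₀ ≅ ω' := DerivedCategory.Q.objObjPreimageIso ω'
  have hWfin : ∀ i : ℤ, Module.Finite A (Dual.HD A (DRing.toD W₀) i) := fun i => by
    haveI := hfin' i
    exact Module.Finite.equiv
      ((homologyFunctor (ModuleCat.{u} A) i).mapIso eW).toLinearEquiv.symm
  haveI hqi : QuasiIso (eta W₀ I) := quasiIso_eta I a b hv hinj hend hext W₀ hWfin
  haveI : IsIso (Q.map (eta W₀ I)) :=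
    (DerivedCategory.isIso_Q_map_iff_quasiIso (φ := eta W₀ I)).mpr hqi
  let X : Dual.D A := Q.obj (DRing.homCx W₀ I)
  have hXH : ∀ n : ℤ, Nonempty (Dual.HD A X n ≃ₗ[A] (ω' ⟶ ω⟦n⟧)) := fun n =>
    ⟨Psi' W₀ I n ≪≫ₗ Linear.homCongr A eW ((CategoryTheory.shiftFunctor (Dual.D A) n).mapIso e)⟩
  have hXfin : ∀ n : ℤ, Module.Finite A (Dual.HD A X n) := fun n => by
    obtain ⟨ψ⟩ := hXH n
    haveI : Module.Finite A (ω' ⟶ ω⟦n⟧) :=
      Groth.Agent.Helper6.DFinExt.main ω' ω hfin' hω.finite_cohomology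
        ⟨a, b, I, hv, hinj, ⟨e⟩⟩ n
    exact Module.Finite.equiv ψ.symm
  haveI iXLE : X.IsLE (b - a') := isLE_of_HD X (b - a') (fun n hn => by
    obtain ⟨ψ⟩ := hXH n
    have hz : ∀ f : ω' ⟶ ω⟦n⟧, f = 0 := fun f => by
      have h0 := Groth.Agent.Helper6.DFinExt.vanish_high I a b hv hinj ω' a' n (by omega)
        (f ≫ ((CategoryTheory.shiftFunctor (Dual.D A) n).mapIso e).inv)
      calc f = (f ≫ ((CategoryTheory.shiftFunctor (Dual.D A) n).mapIso e).inv) ≫
            ((CategoryTheory.shiftFunctor (Dual.D A) n).mapIso e).hom := by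
            rw [Category.assoc, Iso.inv_hom_id, Category.comp_id]
        _ = 0 := by rw [h0, zero_comp]
    haveI : Subsingleton (ω' ⟶ ω⟦n⟧) := ⟨fun f g => by rw [hz f, hz g]⟩
    exact ψ.toEquiv.subsingleton)
  let κ : ModuleCat.{u} A := ModuleCat.of A (ResidueField A)
  let S₀ : DRing.Cx A := (CochainComplex.singleFunctor (ModuleCat.{u} A) 0).obj κ
  obtain ⟨φκ⟩ := hom_residue_normalized ω hω hn
  have key : ∀ j : ℤ, Nonempty ((X ⟶ (Dual.inD A (ResidueField A))⟦-j⟧) ≃ₗ[A]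
      (Dual.inD A (ResidueField A) ⟶ ω'⟦-j⟧)) := by
    intro j
    let L : DRing.Cx A := S₀⟦j⟧
    let eL : Q.obj L ≅ (Dual.inD A (ResidueField A))⟦j⟧ :=
      (Q.commShiftIso j).app S₀ ≪≫ (CategoryTheory.shiftFunctor (Dual.D A) j).mapIso
        ((singleFunctorIsoCompQ (ModuleCat.{u} A) 0).app κ).symm
    let Y : Dual.D A := Q.obj (DRing.homCx L I)
    have hYH : ∀ n : ℤ, Nonempty (Dual.HD A Y n ≃ₗ[A]
        (Dual.inD A (ResidueField A) ⟶ ω⟦n - j⟧)) := fun n =>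
      ⟨Psi' L I n ≪≫ₗ Linear.homCongr A eL ((CategoryTheory.shiftFunctor (Dual.D A) n).mapIso e) ≪≫ₗ
        shiftHomEquiv (Dual.inD A (ResidueField A)) ω j (-j) n (n - j) (by omega) (by omega)⟩
    haveI : Y.IsGE j := isGE_of_HD Y j (fun n hnj => by
      obtain ⟨ψ⟩ := hYH n
      haveI := hn (n - j) (by omega)
      exact ψ.toEquiv.subsingleton)
    haveI : Y.IsLE j := isLE_of_HD Y j (fun n hnj => by
      obtain ⟨ψ⟩ := hYH n
      haveI := hn (n - j) (by omega)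
      exact ψ.toEquiv.subsingleton)
    obtain ⟨ψj⟩ := hYH j
    let eH : Dual.HD A Y j ≃ₗ[A] ResidueField A :=
      ψj ≪≫ₗ Linear.homCongr A (Iso.refl _)
        ((CategoryTheory.shiftFunctorZero' (Dual.D A) (j - j) (by omega)).app ω) ≪≫ₗ φκ
    obtain ⟨eY0⟩ := exists_iso_single_HD Y j
    let eY : Y ≅ (Dual.inD A (ResidueField A))⟦-j⟧ :=
      eY0 ≪≫ (CategoryTheory.shiftFunctor (Dual.D A) (-j)).mapIso
        ((DerivedCategory.singleFunctor (ModuleCat.{u} A) 0).mapIso eH.toModuleIso)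
    exact ⟨Linear.homCongr A (Iso.refl X) eY.symm ≪≫ₗ (dualEquiv I W₀ L).symm ≪≫ₗ
      Linear.homCongr A eL eW ≪≫ₗ shiftHomEquiv' (Dual.inD A (ResidueField A)) ω' j⟩
  have h1 : ∀ i : ℤ, i ≠ 0 → Subsingleton (X ⟶ (Dual.inD A (ResidueField A))⟦i⟧) :=
    fun i hi => by
      obtain ⟨Θ⟩ := key (-i)
      haveI : Subsingleton (Dual.inD A (ResidueField A) ⟶ ω'⟦-(-i)⟧) := hn' (-(-i)) (by omega)
      have h2 : Subsingleton (X ⟶ (Dual.inD A (ResidueField A))⟦-(-i)⟧) :=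
        Θ.toEquiv.subsingleton
      rw [neg_neg] at h2
      exact h2
  obtain ⟨Θ0⟩ := key 0
  let z1 : (Dual.inD A (ResidueField A))⟦-(0 : ℤ)⟧ ≅ Dual.inD A (ResidueField A) :=
    (CategoryTheory.shiftFunctorZero' (Dual.D A) (-0) (by simp)).app _
  let z2 : ω'⟦-(0 : ℤ)⟧ ≅ ω' := (CategoryTheory.shiftFunctorZero' (Dual.D A) (-0) (by simp)).app _
  let Φ : (X ⟶ Dual.inD A (ResidueField A)) ≃ₗ[A] (Dual.inD A (ResidueField A) ⟶ ω') :=
    Linear.homCongr A (Iso.refl X) z1.symm ≪≫ₗ Θ0 ≪≫ₗ Linear.homCongr A (Iso.refl _) z2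
  have ht₀ : Φ.symm t ≠ 0 := fun h => by
    have h3 := congrArg Φ h
    rw [LinearEquiv.apply_symm_apply, map_zero] at h3
    exact ht h3
  have hgen' : ∀ s : X ⟶ Dual.inD A (ResidueField A), ∃ c : A, s = c • Φ.symm t := fun s => by
    obtain ⟨c, hc⟩ := hgen (Φ s)
    refine ⟨c, Φ.injective ?_⟩
    rw [map_smul, LinearEquiv.apply_symm_apply, hc]
  obtain ⟨eX⟩ := iso_inD_self_of_hom_residue X (b - a') hXfin h1 (Φ.symm t) ht₀ hgen'
  obtain ⟨d⟩ := D_iso_of_iso I (V := DRing.homCx W₀ I) (W := Sm A 0)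
    (eX ≪≫ (singleFunctorIsoCompQ (ModuleCat.{u} A) 0).app (ModuleCat.of A A))
  exact ⟨eW.symm ≪≫ asIso (Q.map (eta W₀ I)) ≪≫ d ≪≫ asIso (Q.map (cm 0 I)) ≪≫
    (Q.commShiftIso (0 : ℤ)).app I ≪≫ (CategoryTheory.shiftFunctorZero (Dual.D A) ℤ).app (Q.obj I) ≪≫ e⟩

end Groth.Agent.Helper6.Recog
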