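import Mathlib
import Groth.Prelude.Def_DRing4
import Groth.Agent.Helper6.Recog1
import Groth.Agent.Helper6.FBC7
import Groth.Agent.Helper6.Coext4
import Groth.Agent.S0376
import Groth.Agent.S0543

/-!
# A criterion for dualizing complexes over a Noetherian local ring

`R` bounded below with finite cohomology and `Ext^i(κ, R) = κ` for `i = d`, `0` otherwise, is
dualizing.
-/

set_option autoImplicit false
set_option linter.style.haveILetI false
set_option linter.unusedSectionVars false

universe u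
open CategoryTheory CategoryTheory.Limits Pretriangulated DerivedCategory TensorProduct
attribute [local instance] HasDerivedCategory.standard

namespace Groth.Agent.Helper6.Recog
open Groth.Agent.Helper3.DRingLib Groth.Agent.Helper6.FlatBC Groth.Agent.Helper6.LocExt
  Groth.Agent.Helper6.FBC Groth.Agent.Helper6.LD Groth.Agent.Helper6.DualFun
  Groth.Agent.Helper6.DK IsLocalRing

section Gen

variable {A : Type u} [CommRing A] (B : Type u) [CommRing B] [Algebra A B] [Module.Flat A B]

omit [Module.Flat A B] in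
lemma exists_tmul_eq {N : Type*} [AddCommGroup N] [Module A N] (t : N)
    (hgen : ∀ s : N, ∃ c : A, s = c • t) (z : B ⊗[A] N) : ∃ b : B, z = b ⊗ₜ[A] t := by
  induction z using TensorProduct.induction_on with
  | zero => exact ⟨0, (TensorProduct.zero_tmul _ _).symm⟩
  | tmul b s =>
    obtain ⟨c, rfl⟩ := hgen s
    exact ⟨c • b, (TensorProduct.smul_tmul c b t).symm⟩
  | add x y hx hy =>
    obtain ⟨b, rfl⟩ := hx
    obtain ⟨b', rfl⟩ := hy
    exact ⟨b + b', (TensorProduct.add_tmul b b' t).symm⟩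

/-- base change of a generator of `Hom(X, W)` -/
theorem generator_bcD [IsNoetherianRing A] [Module.FaithfullyFlat A B] (X W : Dual.D A)
    (hX : ∀ n : ℤ, DRing.IsPseudoCoherent A n X) (a : ℤ) [W.IsGE a] (t : X ⟶ W) (ht : t ≠ 0)
    (hgen : ∀ s : X ⟶ W, ∃ c : A, s = c • t) :
    (bcD A B).map t ≠ 0 ∧
      ∀ g : (bcD A B).obj X ⟶ (bcD A B).obj W, ∃ b : B, g = b • (bcD A B).map t := by
  have hΦ : Function.Bijective (Phi B (mMap B W) X) := phi_mMap_bijective B X W hX a
  constructor
  · intro h0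
    have h1 := homEquiv_smul_map B (1 : B) t
    have h2 := homEquiv_smul_map B (0 : B) t
    have h3 : (1 : B) • (ED A B).map t = (0 : B) • (ED A B).map t := by
      rw [zero_smul, one_smul]
      exact h0
    rw [h3] at h1
    have h4 : (1 : B) ⊗ₜ[A] t = (0 : B) ⊗ₜ[A] t := hΦ.1 (h1.symm.trans h2)
    rw [TensorProduct.zero_tmul] at h4
    have h5 : TensorProduct.mk A B (X ⟶ W) 1 t = TensorProduct.mk A B (X ⟶ W) 1 0 := by
      rw [map_zero]
      exact h4
    exact ht (Module.FaithfullyFlat.tensorProduct_mk_injective (A := A) (B := B) (X ⟶ W) h5)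
  · intro g
    obtain ⟨z, hz⟩ := hΦ.2 ((adjD A B).homEquiv X ((ED A B).obj W) g)
    obtain ⟨b, rfl⟩ := exists_tmul_eq B t hgen z
    refine ⟨b, ((adjD A B).homEquiv X ((ED A B).obj W)).injective ?_⟩
    rw [homEquiv_smul_map B b t]
    exact hz.symm

end Gen

section Main

variable {A : Type u} [CommRing A] [IsLocalRing A] [IsNoetherianRing A]

/-- the criterion when a dualizing complex is known to exist -/
theorem isDualizing_of_recognition_of_exists (h : ∃ ω : Dual.D A, Dual.IsDualizing A ω)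
    (R : Dual.D A) (a : ℤ) [R.IsGE a] (hfin : ∀ i : ℤ, Module.Finite A (Dual.HD A R i))
    (hn' : Dual.IsNormalized A R)
    (t : Dual.inD A (ResidueField A) ⟶ R) (ht : t ≠ 0)
    (hgen : ∀ s : Dual.inD A (ResidueField A) ⟶ R, ∃ c : A, s = c • t) :
    Dual.IsDualizing A R := by
  obtain ⟨ω, hω⟩ := h
  obtain ⟨n₀, hn1, -⟩ := DK.main ω hω (maximalIdeal A)
  have hωs := isDualizing_shift ω hω n₀
  have hns : Dual.IsNormalized A (ω⟦n₀⟧) := fun i hi => by
    haveI : Subsingleton (Dual.inD A (ResidueField A) ⟶ ω⟦n₀ + i⟧) := hn1 (n₀ + i) (by omega)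
    exact (homShiftShiftEquiv (Dual.inD A (ResidueField A)) _ n₀ i (n₀ + i)
      rfl).toEquiv.subsingleton
  obtain ⟨ε⟩ := iso_of_recognition (ω⟦n₀⟧) R hωs hns a hfin hn' t ht hgen
  exact isDualizing_of_iso ε.symm hωs

/-- the criterion, normalized form -/
theorem isDualizing_of_recognition
    (R : Dual.D A) (a : ℤ) [R.IsGE a] (hfin : ∀ i : ℤ, Module.Finite A (Dual.HD A R i))
    (hn' : Dual.IsNormalized A R)
    (t : Dual.inD A (ResidueField A) ⟶ R) (ht : t ≠ 0)
    (hgen : ∀ s : Dual.inD A (ResidueField A) ⟶ R, ∃ c : A, s = c • t) :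
    Dual.IsDualizing A R := by
  haveI : IsNoetherianRing (AdicCompletion (maximalIdeal A) A) :=
    Groth.Agent.S0543.result A (maximalIdeal A)
  haveI : Module.Flat A (AdicCompletion (maximalIdeal A) A) := inferInstance
  haveI : Module.FaithfullyFlat A (AdicCompletion (maximalIdeal A) A) :=
    Module.FaithfullyFlat.of_flat_of_isLocalHom
  have hm : (maximalIdeal A).map (algebraMap A (AdicCompletion (maximalIdeal A) A)) =
      maximalIdeal (AdicCompletion (maximalIdeal A) A) := AdicCompletion.maximalIdeal_eq_map.symm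
  have hex := Groth.Agent.S0376.result (AdicCompletion (maximalIdeal A) A)
  haveI : ((bcD A (AdicCompletion (maximalIdeal A) A)).obj R).IsGE a :=
    bcD_isGE (AdicCompletion (maximalIdeal A) A) R a
  have hfin₁ := finite_HD_bcD (AdicCompletion (maximalIdeal A) A) R hfin
  have hn₁ : Dual.IsNormalized (AdicCompletion (maximalIdeal A) A)
      ((bcD A (AdicCompletion (maximalIdeal A) A)).obj R) :=
    isNormalized_bcD_of_local (AdicCompletion (maximalIdeal A) A) hm R a hn'
  obtain ⟨hne, hg⟩ := generator_bcD (AdicCompletion (maximalIdeal A) A)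
    (Dual.inD A (A ⧸ maximalIdeal A)) R (fun m => pc_inD _ m) a t ht hgen
  let e1 : ModuleCat.of (AdicCompletion (maximalIdeal A) A)
      ((AdicCompletion (maximalIdeal A) A) ⧸
        (maximalIdeal A).map (algebraMap A (AdicCompletion (maximalIdeal A) A))) ≅
      ModuleCat.of (AdicCompletion (maximalIdeal A) A)
        ((AdicCompletion (maximalIdeal A) A) ⧸ maximalIdeal (AdicCompletion (maximalIdeal A) A)) :=
    (Submodule.quotEquivOfEq _ _ hm).toModuleIso
  let eκ : (bcD A (AdicCompletion (maximalIdeal A) A)).obj (Dual.inD A (A ⧸ maximalIdeal A)) ≅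
      Dual.inD (AdicCompletion (maximalIdeal A) A)
        (ResidueField (AdicCompletion (maximalIdeal A) A)) :=
    inDQuotIso' (AdicCompletion (maximalIdeal A) A) (maximalIdeal A) ≪≫
      (DerivedCategory.singleFunctor (ModuleCat.{u} (AdicCompletion (maximalIdeal A) A)) 0).mapIso e1
  have ht₁ : eκ.inv ≫ (bcD A (AdicCompletion (maximalIdeal A) A)).map t ≠ 0 := fun h =>
    hne ((cancel_epi eκ.inv).mp (h.trans comp_zero.symm))
  have hgen₁ : ∀ s : Dual.inD (AdicCompletion (maximalIdeal A) A)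
      (ResidueField (AdicCompletion (maximalIdeal A) A)) ⟶
        (bcD A (AdicCompletion (maximalIdeal A) A)).obj R,
      ∃ b : AdicCompletion (maximalIdeal A) A,
        s = b • (eκ.inv ≫ (bcD A (AdicCompletion (maximalIdeal A) A)).map t) := by
    intro s
    obtain ⟨b, hb⟩ := hg (eκ.hom ≫ s)
    refine ⟨b, ?_⟩
    rw [← Linear.comp_smul, ← hb, Iso.inv_hom_id_assoc]
  have hd₁ := isDualizing_of_recognition_of_exists hex
    ((bcD A (AdicCompletion (maximalIdeal A) A)).obj R) a hfin₁ hn₁ _ ht₁ hgen₁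
  exact isDualizing_of_bcD_faithfullyFlat (AdicCompletion (maximalIdeal A) A) R hd₁

/-- **S11171** -/
theorem main (R : Dual.D A) (hfin : ∀ i : ℤ, Module.Finite A (Dual.HD A R i))
    (hbdd : ∃ a : ℤ, ∀ i : ℤ, i < a → Subsingleton (Dual.HD A R i)) (d : ℤ)
    (hvan : ∀ i : ℤ, i ≠ d → Subsingleton (Dual.inD A (ResidueField A) ⟶ R⟦i⟧))
    (hd : Nonempty ((Dual.inD A (ResidueField A) ⟶ R⟦d⟧) ≃ₗ[A] ResidueField A)) :
    Dual.IsDualizing A R := by
  obtain ⟨a, ha⟩ := hbdd
  obtain ⟨e⟩ := hd
  haveI : R.IsGE a := isGE_of_HD R a ha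
  haveI : (R⟦d⟧).IsGE (a - d) := TStructure.t.isGE_shift R a d (a - d) (by omega)
  have hfin₀ : ∀ i : ℤ, Module.Finite A (Dual.HD A (R⟦d⟧) i) := fun i => by
    haveI := hfin (d + i)
    exact Module.Finite.equiv (Groth.Agent.Helper6.Coext.hdShift R d i (d + i) rfl).symm
  have hn₀ : Dual.IsNormalized A (R⟦d⟧) := fun i hi => by
    haveI : Subsingleton (Dual.inD A (ResidueField A) ⟶ R⟦d + i⟧) := hvan (d + i) (by omega)
    exact (homShiftShiftEquiv (Dual.inD A (ResidueField A)) R d i (d + i)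
      rfl).toEquiv.subsingleton
  have ht₀ : e.symm 1 ≠ 0 := fun h => by
    have h3 := congrArg e h
    rw [LinearEquiv.apply_symm_apply, map_zero] at h3
    exact one_ne_zero h3
  have hgen₀ : ∀ s : Dual.inD A (ResidueField A) ⟶ R⟦d⟧, ∃ c : A, s = c • e.symm 1 := fun s => by
    obtain ⟨c, hc⟩ := residue_surjective (e s)
    refine ⟨c, e.injective ?_⟩
    rw [map_smul, LinearEquiv.apply_symm_apply, Algebra.smul_def, mul_one,
      ResidueField.algebraMap_eq, hc]
  have h1 := isDualizing_of_recognition (R⟦d⟧) (a - d) hfin₀ hn₀ (e.symm 1) ht₀ hgen₀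
  exact isDualizing_of_iso (shiftShiftNeg R d) (isDualizing_shift _ h1 (-d))

end Main

end Groth.Agent.Helper6.Recog
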