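import Mathlib
import Groth.Prelude.Def_DRing4
import Groth.Agent.Helper6.Recog2
import Groth.Agent.Helper6.LD4

/-!
# The coextension of a base-changed normalized dualizing complex to the closed fibre

For a flat map `R → T` from a Noetherian local ring `(R, 𝔪)` and a normalized complex `ω'` over `R`
with `Hom(κ, ω') ≅ κ`, the coextension of `ω' ⊗ T` along `T → T/𝔪T` is `T/𝔪T` in degree `0`.
-/

set_option autoImplicit false
set_option linter.style.haveILetI false
set_option linter.unusedSectionVars false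

universe u
open CategoryTheory CategoryTheory.Limits Pretriangulated DerivedCategory TensorProduct
attribute [local instance] HasDerivedCategory.standard

namespace Groth.Agent.Helper6.GorFib
open Groth.Agent.Helper3.DRingLib Groth.Agent.Helper6.FlatBC Groth.Agent.Helper6.LocExt
  Groth.Agent.Helper6.FBC Groth.Agent.Helper6.LD IsLocalRing

section Semilinear

variable {A B : Type u} [CommRing A] [CommRing B] [Algebra A B]

lemma RD_map_smul_id' (Y : Dual.D B) (a : A) :
    (RD A B).map ((algebraMap A B a) • 𝟙 Y) = a • 𝟙 ((RD A B).obj Y) := by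
  let L := DerivedCategory.Q.objPreimage Y
  let e : DerivedCategory.Q.obj L ≅ Y := DerivedCategory.Q.objObjPreimageIso Y
  have h1 : (algebraMap A B a) • 𝟙 Y =
      e.inv ≫ DerivedCategory.Q.map ((algebraMap A B a) • 𝟙 L) ≫ e.hom := by
    rw [Functor.map_smul, CategoryTheory.Functor.map_id, Linear.smul_comp, Linear.comp_smul,
      Category.id_comp, e.inv_hom_id]
  have hnat : (RD A B).map (DerivedCategory.Q.map ((algebraMap A B a) • 𝟙 L)) ≫
      (facR (A := A) L).hom = (facR (A := A) L).hom ≫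
        DerivedCategory.Q.map (((Rf A B).mapHomologicalComplex (ComplexShape.up ℤ)).map
          ((algebraMap A B a) • 𝟙 L)) :=
    (Rf A B).mapDerivedCategoryFactors_hom_naturality ((algebraMap A B a) • 𝟙 L)
  have h2 : (RD A B).map (DerivedCategory.Q.map ((algebraMap A B a) • 𝟙 L)) =
      a • 𝟙 ((RD A B).obj (DerivedCategory.Q.obj L)) := by
    have h3 : (RD A B).map (DerivedCategory.Q.map ((algebraMap A B a) • 𝟙 L)) =
        (facR (A := A) L).hom ≫ DerivedCategory.Q.map
          (((Rf A B).mapHomologicalComplex (ComplexShape.up ℤ)).map ((algebraMap A B a) • 𝟙 L)) ≫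
          (facR (A := A) L).inv := by
      rw [← Category.assoc, ← hnat, Category.assoc, Iso.hom_inv_id, Category.comp_id]
    rw [h3, RCx_map_smul_id, Functor.map_smul, CategoryTheory.Functor.map_id, Linear.smul_comp,
      Linear.comp_smul, Category.id_comp, Iso.hom_inv_id]
  rw [h1, Functor.map_comp, Functor.map_comp, h2, Linear.smul_comp, Linear.comp_smul,
    Category.id_comp, ← Functor.map_comp, e.inv_hom_id, CategoryTheory.Functor.map_id]

/-- restriction of scalars is semilinear (no flatness needed) -/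
lemma RD_map_smul' {Y Y' : Dual.D B} (a : A) (g : Y ⟶ Y') :
    (RD A B).map ((algebraMap A B a) • g) = a • (RD A B).map g := by
  have h1 : (algebraMap A B a) • g = ((algebraMap A B a) • 𝟙 Y) ≫ g := by
    rw [Linear.smul_comp, Category.id_comp]
  rw [h1, Functor.map_comp, RD_map_smul_id', Linear.smul_comp, Category.id_comp]

end Semilinear

section Quot

variable {T : Type u} [CommRing T]

/-- `T/J` as a `T`-module is the restriction of scalars of `T/J` -/
noncomputable def quotRestrIso (J : Ideal T) :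
    ModuleCat.of T (T ⧸ J) ≅ (rF (algebraMap T (T ⧸ J))).obj (ModuleCat.of (T ⧸ J) (T ⧸ J)) :=
  LinearEquiv.toModuleIso
    { toFun := fun x => x
      invFun := fun x => x
      map_add' := fun _ _ => rfl
      map_smul' := fun b x => by
        show b • x = (algebraMap T (T ⧸ J) b) • x
        rw [Algebra.smul_def]
        rfl
      left_inv := fun _ => rfl
      right_inv := fun _ => rfl }

/-- `T/J` in `D(T)` is the restriction of `T/J` in `D(T/J)` -/
noncomputable def ρ (J : Ideal T) : Dual.inD T (T ⧸ J) ≅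
    (DRing.restrictD (algebraMap T (T ⧸ J))).obj (Dual.inD (T ⧸ J) (T ⧸ J)) :=
  (DerivedCategory.singleFunctor (ModuleCat.{u} T) 0).mapIso (quotRestrIso J) ≪≫
    (rDSingle (algebraMap T (T ⧸ J)) 0 (ModuleCat.of (T ⧸ J) (T ⧸ J))).symm

/-- vanishing of the cohomology of a coextension along a quotient map -/
lemma subsingleton_HD_of_coext (J : Ideal T) (K : Dual.D T) (Y : Dual.D (T ⧸ J))
    (ε : (DRing.restrictD (algebraMap T (T ⧸ J))).obj Y ⟶ K)
    (h : Groth.Agent.Helper6.Coext.IsCoext (algebraMap T (T ⧸ J)) K Y ε) (i : ℤ)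
    (hv : ∀ f : Dual.inD T (T ⧸ J) ⟶ K⟦i⟧, f = 0) : Subsingleton (Dual.HD (T ⧸ J) Y i) := by
  haveI h1 : Subsingleton ((DRing.restrictD (algebraMap T (T ⧸ J))).obj
      (Dual.inD (T ⧸ J) (T ⧸ J)) ⟶ K⟦i⟧) :=
    ⟨fun f g => (cancel_epi (ρ J).hom).mp ((hv ((ρ J).hom ≫ f)).trans (hv ((ρ J).hom ≫ g)).symm)⟩
  haveI h2 : Subsingleton (Dual.inD (T ⧸ J) (T ⧸ J) ⟶ Y⟦i⟧) :=
    (h.homShiftEquiv (Dual.inD (T ⧸ J) (T ⧸ J)) i).subsingleton
  haveI h3 : Subsingleton ((Dual.inD (T ⧸ J) (T ⧸ J))⟦-i⟧ ⟶ Y) :=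
    (Groth.Agent.Helper6.Coext.homShiftNegEquiv (Dual.inD (T ⧸ J) (T ⧸ J)) Y i).symm.subsingleton
  let σ : Gn (T ⧸ J) i ≅ (Dual.inD (T ⧸ J) (T ⧸ J))⟦-i⟧ :=
    (((DerivedCategory.singleFunctors (ModuleCat.{u} (T ⧸ J))).shiftIso (-i) i 0 (by omega)).app
      (ModuleCat.of (T ⧸ J) (T ⧸ J))).symm
  haveI h4 : Subsingleton (Gn (T ⧸ J) i ⟶ Y) := (Iso.homCongr σ (Iso.refl Y)).subsingleton
  exact ⟨fun x y => by
    obtain ⟨f, rfl⟩ := (Groth.Agent.Helper6.FBC.ev_bijective Y i).2 x
    obtain ⟨g, rfl⟩ := (Groth.Agent.Helper6.FBC.ev_bijective Y i).2 y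
    rw [Subsingleton.elim f g]⟩

end Quot

section Core

variable {R : Type u} [CommRing R] [IsLocalRing R] [IsNoetherianRing R]
  (T : Type u) [CommRing T] [Algebra R T] [Module.Flat R T]

omit [Module.Flat R T] [IsNoetherianRing R] in
lemma mem_of_tmul_eq_zero {N : Type*} [AddCommGroup N] [Module R N]
    (e : N ≃ₗ[R] (R ⧸ maximalIdeal R)) (b : T)
    (h : b ⊗ₜ[R] (e.symm 1) = (0 : T ⊗[R] N)) :
    b ∈ (maximalIdeal R).map (algebraMap R T) := by
  have h1 : b ⊗ₜ[R] (1 : R ⧸ maximalIdeal R) = (0 : T ⊗[R] (R ⧸ maximalIdeal R)) := by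
    have := congrArg (LinearEquiv.lTensor T e) h
    rwa [LinearEquiv.lTensor_tmul, LinearEquiv.apply_symm_apply, map_zero] at this
  have h2 := congrArg (TensorProduct.tensorQuotEquivQuotSMul T (maximalIdeal R)) h1
  rw [map_zero] at h2
  have h3 : TensorProduct.tensorQuotEquivQuotSMul T (maximalIdeal R)
      (b ⊗ₜ[R] (Ideal.Quotient.mk (maximalIdeal R) 1)) = Submodule.Quotient.mk ((1 : R) • b) :=
    TensorProduct.tensorQuotEquivQuotSMul_tmul_mk (maximalIdeal R) b 1
  have h4 : (Submodule.Quotient.mk ((1 : R) • b) :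
      T ⧸ (maximalIdeal R • ⊤ : Submodule R T)) = 0 := h3.symm.trans h2
  rw [Submodule.Quotient.mk_eq_zero, one_smul, Ideal.smul_top_eq_map] at h4
  exact h4

/-- generation and annihilator of the base change of a generator of `Hom(X, W) ≅ κ` -/
theorem generator_bcD' (X W : Dual.D R) (hX : ∀ n : ℤ, DRing.IsPseudoCoherent R n X) (a : ℤ)
    [W.IsGE a] (e : (X ⟶ W) ≃ₗ[R] (R ⧸ maximalIdeal R)) :
    (∀ g : (bcD R T).obj X ⟶ (bcD R T).obj W, ∃ b : T, g = b • (bcD R T).map (e.symm 1)) ∧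
    (∀ b : T, b • (bcD R T).map (e.symm 1) = 0 → b ∈ (maximalIdeal R).map (algebraMap R T)) := by
  have hΦ : Function.Bijective (Phi T (mMap T W) X) := phi_mMap_bijective T X W hX a
  have hgen : ∀ s : X ⟶ W, ∃ c : R, s = c • e.symm 1 := by
    intro s
    obtain ⟨c, hc⟩ := Ideal.Quotient.mk_surjective (e s)
    refine ⟨c, e.injective ?_⟩
    rw [map_smul, LinearEquiv.apply_symm_apply, ← hc, Algebra.smul_def, mul_one]
    rfl
  constructor
  · intro g
    obtain ⟨z, hz⟩ := hΦ.2 ((adjD R T).homEquiv X ((ED R T).obj W) g)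
    obtain ⟨b, rfl⟩ := Groth.Agent.Helper6.Recog.exists_tmul_eq T (e.symm 1) hgen z
    refine ⟨b, ((adjD R T).homEquiv X ((ED R T).obj W)).injective ?_⟩
    rw [homEquiv_smul_map T b (e.symm 1)]
    exact hz.symm
  · intro b hb
    have h1 := homEquiv_smul_map T b (e.symm 1)
    have h2 := homEquiv_smul_map T (0 : T) (e.symm 1)
    have h3 : b • (ED R T).map (e.symm 1) = (0 : T) • (ED R T).map (e.symm 1) := by
      rw [zero_smul]
      exact hb
    rw [h3] at h1
    have h4 : b ⊗ₜ[R] (e.symm 1) = (0 : T) ⊗ₜ[R] (e.symm 1) := hΦ.1 (h1.symm.trans h2)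
    rw [TensorProduct.zero_tmul] at h4
    exact mem_of_tmul_eq_zero T e b h4

/-- **the coextension to the closed fibre** -/
theorem coext_iso_self (ω' : Dual.D R) (a : ℤ) [ω'.IsGE a] (hn : Dual.IsNormalized R ω')
    (e : (Dual.inD R (R ⧸ maximalIdeal R) ⟶ ω') ≃ₗ[R] (R ⧸ maximalIdeal R))
    (Y : Dual.D (T ⧸ (maximalIdeal R).map (algebraMap R T)))
    (ε : (DRing.restrictD (algebraMap T (T ⧸ (maximalIdeal R).map (algebraMap R T)))).obj Y ⟶
      (bcD R T).obj ω')
    (h : Groth.Agent.Helper6.Coext.IsCoext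
      (algebraMap T (T ⧸ (maximalIdeal R).map (algebraMap R T))) ((bcD R T).obj ω') Y ε) :
    Nonempty (Y ≅ Dual.inD (T ⧸ (maximalIdeal R).map (algebraMap R T))
      (T ⧸ (maximalIdeal R).map (algebraMap R T))) := by
  have hvan : ∀ i : ℤ, i ≠ 0 →
      Subsingleton (Dual.HD (T ⧸ (maximalIdeal R).map (algebraMap R T)) Y i) := fun i hi => by
    haveI : Subsingleton (Dual.inD R (R ⧸ maximalIdeal R) ⟶ ω'⟦i⟧) := hn i hi
    exact subsingleton_HD_of_coext _ _ Y ε h i
      (fun f => ext_quot_eq_zero T ω' a (maximalIdeal R) _ rfl i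
        (fun f' => Subsingleton.elim _ _) f)
  haveI : Y.IsGE 0 := isGE_of_HD Y 0 (fun i hi => hvan i (by omega))
  haveI : Y.IsLE 0 := isLE_of_HD Y 0 (fun i hi => hvan i (by omega))
  obtain ⟨hgen, hann⟩ := generator_bcD' T (Dual.inD R (R ⧸ maximalIdeal R)) ω'
    (fun m => pc_inD _ m) a e
  have hΘbij : Function.Bijective
      (fun g : Dual.inD (T ⧸ (maximalIdeal R).map (algebraMap R T))
          (T ⧸ (maximalIdeal R).map (algebraMap R T)) ⟶ Y =>
        (ρ ((maximalIdeal R).map (algebraMap R T))).hom ≫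
          (DRing.restrictD (algebraMap T (T ⧸ (maximalIdeal R).map (algebraMap R T)))).map g ≫
            ε) := by
    have h1 := h (Dual.inD (T ⧸ (maximalIdeal R).map (algebraMap R T))
      (T ⧸ (maximalIdeal R).map (algebraMap R T)))
    constructor
    · intro g g' hgg
      exact h1.1 ((cancel_epi (ρ ((maximalIdeal R).map (algebraMap R T))).hom).mp hgg)
    · intro s
      obtain ⟨g, hg⟩ := h1.2 ((ρ ((maximalIdeal R).map (algebraMap R T))).inv ≫ s)
      refine ⟨g, ?_⟩
      have hg' : (DRing.restrictD (algebraMap T (T ⧸ (maximalIdeal R).map (algebraMap R T)))).map g ≫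
          ε = (ρ ((maximalIdeal R).map (algebraMap R T))).inv ≫ s := hg
      show (ρ ((maximalIdeal R).map (algebraMap R T))).hom ≫ _ = s
      rw [hg', Iso.hom_inv_id_assoc]
  have hΘsmul : ∀ (b : T) (g : Dual.inD (T ⧸ (maximalIdeal R).map (algebraMap R T))
      (T ⧸ (maximalIdeal R).map (algebraMap R T)) ⟶ Y),
      (ρ ((maximalIdeal R).map (algebraMap R T))).hom ≫
        (DRing.restrictD (algebraMap T (T ⧸ (maximalIdeal R).map (algebraMap R T)))).map
          ((algebraMap T (T ⧸ (maximalIdeal R).map (algebraMap R T)) b) • g) ≫ ε =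
      b • ((ρ ((maximalIdeal R).map (algebraMap R T))).hom ≫
        (DRing.restrictD (algebraMap T (T ⧸ (maximalIdeal R).map (algebraMap R T)))).map g ≫
          ε) := by
    intro b g
    rw [RD_map_smul', Linear.smul_comp, Linear.comp_smul]
  have hs₀gen : ∀ s : Dual.inD T (T ⧸ (maximalIdeal R).map (algebraMap R T)) ⟶ (bcD R T).obj ω',
      ∃ b : T, s = b • ((inDQuotIso' T (maximalIdeal R)).inv ≫ (bcD R T).map (e.symm 1)) := by
    intro s
    obtain ⟨b, hb⟩ := hgen ((inDQuotIso' T (maximalIdeal R)).hom ≫ s)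
    refine ⟨b, ?_⟩
    rw [← Linear.comp_smul, ← hb, Iso.inv_hom_id_assoc]
  have hs₀ann : ∀ b : T,
      b • ((inDQuotIso' T (maximalIdeal R)).inv ≫ (bcD R T).map (e.symm 1)) = 0 →
      b ∈ (maximalIdeal R).map (algebraMap R T) := by
    intro b hb
    apply hann b
    have h5 : b • (bcD R T).map (e.symm 1) = (inDQuotIso' T (maximalIdeal R)).hom ≫
        (b • ((inDQuotIso' T (maximalIdeal R)).inv ≫ (bcD R T).map (e.symm 1))) := by
      rw [Linear.comp_smul, Iso.hom_inv_id_assoc]
    rw [h5, hb, comp_zero]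
  obtain ⟨g₀, hg₀⟩ := hΘbij.2 ((inDQuotIso' T (maximalIdeal R)).inv ≫ (bcD R T).map (e.symm 1))
  have hg₀' : (ρ ((maximalIdeal R).map (algebraMap R T))).hom ≫
      (DRing.restrictD (algebraMap T (T ⧸ (maximalIdeal R).map (algebraMap R T)))).map g₀ ≫ ε =
      (inDQuotIso' T (maximalIdeal R)).inv ≫ (bcD R T).map (e.symm 1) := hg₀
  have hlbij : Function.Bijective (LinearMap.toSpanSingleton
      (T ⧸ (maximalIdeal R).map (algebraMap R T))
      (Dual.inD (T ⧸ (maximalIdeal R).map (algebraMap R T))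
        (T ⧸ (maximalIdeal R).map (algebraMap R T)) ⟶ Y) g₀) := by
    constructor
    · rw [injective_iff_map_eq_zero]
      intro x hx
      obtain ⟨b, rfl⟩ := Ideal.Quotient.mk_surjective x
      rw [LinearMap.toSpanSingleton_apply] at hx
      have h6 := hΘsmul b g₀
      have hx' : (algebraMap T (T ⧸ (maximalIdeal R).map (algebraMap R T)) b) • g₀ = 0 := hx
      rw [hx', Functor.map_zero, zero_comp, comp_zero, hg₀'] at h6
      exact Ideal.Quotient.eq_zero_iff_mem.mpr (hs₀ann b h6.symm)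
    · intro g
      obtain ⟨b, hb⟩ := hs₀gen ((ρ ((maximalIdeal R).map (algebraMap R T))).hom ≫
        (DRing.restrictD (algebraMap T (T ⧸ (maximalIdeal R).map (algebraMap R T)))).map g ≫ ε)
      refine ⟨algebraMap T (T ⧸ (maximalIdeal R).map (algebraMap R T)) b, hΘbij.1 ?_⟩
      rw [LinearMap.toSpanSingleton_apply]
      show (ρ ((maximalIdeal R).map (algebraMap R T))).hom ≫
        (DRing.restrictD (algebraMap T (T ⧸ (maximalIdeal R).map (algebraMap R T)))).map
          ((algebraMap T (T ⧸ (maximalIdeal R).map (algebraMap R T)) b) • g₀) ≫ ε = _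
      rw [hΘsmul b g₀, hg₀', ← hb]
  have hbij : Function.Bijective ((ev Y 0).comp (LinearMap.toSpanSingleton
      (T ⧸ (maximalIdeal R).map (algebraMap R T))
      (Dual.inD (T ⧸ (maximalIdeal R).map (algebraMap R T))
        (T ⧸ (maximalIdeal R).map (algebraMap R T)) ⟶ Y) g₀)) :=
    (Groth.Agent.Helper6.FBC.ev_bijective Y 0).comp hlbij
  exact iso_inD_of_concentrated Y _ (LinearEquiv.ofBijective _ hbij).symm

end Core

end Groth.Agent.Helper6.GorFib
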