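import Mathlib
import Groth.Prelude.Def_DDual2
import Groth.Agent.Helper9.LDeriv2
import Groth.Agent.Helper9.LDeriv7
import Groth.Agent.Helper6.KProjRes

set_option autoImplicit false
set_option linter.style.haveILetI false
set_option linter.unusedSectionVars false

/-!
# Every functor on the homotopy category of modules has a total left derived functor

In particular derived base change exists: `DRing.HasLBaseChange φ` holds for every ring map.
-/

universe u
open CategoryTheory Limits

namespace Groth.Agent.Helper6.HasLBC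

attribute [local instance] HasDerivedCategory.standard

variable {A : Type u} [CommRing A]

/-- the acyclic objects of the homotopy category -/
abbrev Acyc (A : Type u) [CommRing A] :
    ObjectProperty (HomotopyCategory (ModuleCat.{u} A) (ComplexShape.up ℤ)) :=
  HomotopyCategory.subcategoryAcyclic (ModuleCat.{u} A)

/-- the K-projective objects of the homotopy category -/
abbrev KPr (A : Type u) [CommRing A] :
    ObjectProperty (HomotopyCategory (ModuleCat.{u} A) (ComplexShape.up ℤ)) :=
  (Acyc A).leftOrthogonal

theorem hasRelRes : Groth.Agent.Helper9.LDeriv2.HasRelRes (KPr A) (Acyc A) := by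
  constructor
  intro P₀ X f₀ hP₀
  obtain ⟨X₀, rfl⟩ := HomotopyCategory.quotient_obj_surjective X
  obtain ⟨P₁, π, hP₁, -, -, hπ, -⟩ := Groth.Agent.Helper6.KProjRes.exists_resolution X₀
  have hq : (Acyc A).trW ((HomotopyCategory.quotient _ _).map π) := by
    rw [← HomotopyCategory.quasiIso_eq_trW_subcategoryAcyclic,
      HomotopyCategory.quotient_map_mem_quasiIso_iff]
    exact hπ
  have hcol : (Acyc A).trW.isColocal P₀ := by
    rw [ObjectProperty.isColocal_trW]
    exact hP₀
  obtain ⟨ι, hι⟩ := (hcol _ hq).2 f₀
  exact ⟨_, ι, _, (CochainComplex.isKProjective_iff_leftOrthogonal P₁).1 hP₁, hq, hι⟩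

/-- a quasi-isomorphism between K-projective objects is an isomorphism -/
lemma isIso_of_trW {X Y : HomotopyCategory (ModuleCat.{u} A) (ComplexShape.up ℤ)}
    (hX : KPr A X) (hY : KPr A Y) (s : X ⟶ Y) (hs : (Acyc A).trW s) : IsIso s := by
  have hX' : (Acyc A).trW.isColocal X := by
    rw [ObjectProperty.isColocal_trW]
    exact hX
  have hY' : (Acyc A).trW.isColocal Y := by
    rw [ObjectProperty.isColocal_trW]
    exact hY
  obtain ⟨t, ht⟩ := (hY' s hs).2 (𝟙 Y)
  have ht' : t ≫ s = 𝟙 Y := ht
  refine ⟨t, ?_, ht'⟩
  apply (hX' s hs).1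
  show (s ≫ t) ≫ s = 𝟙 X ≫ s
  rw [Category.assoc, ht', Category.comp_id, Category.id_comp]

theorem hasLeftDerivedFunctor {H : Type*} [Category H]
    (F : HomotopyCategory (ModuleCat.{u} A) (ComplexShape.up ℤ) ⥤ H) :
    F.HasLeftDerivedFunctor
      (HomotopyCategory.quasiIso (ModuleCat.{u} A) (ComplexShape.up ℤ)) := by
  rw [HomotopyCategory.quasiIso_eq_trW_subcategoryAcyclic]
  haveI := Groth.Agent.Helper9.LDeriv2.isLeftDerivabilityStructure (hasRelRes (A := A))
  refine Groth.Agent.Helper9.LDeriv7.hasLeftDerivedFunctor_of_derives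
    ((KPr A).triangulatedLocalizerMorphism (Acyc A)) ?_
  intro X Y s hs
  have hs' : (Acyc A).trW s.hom := ((KPr A).triangulatedLocalizerMorphism (Acyc A)).map s hs
  haveI : IsIso s.hom := isIso_of_trW X.property Y.property s.hom hs'
  show IsIso (F.map s.hom)
  infer_instance

/-- derived base change exists -/
theorem hasLBaseChange {B : Type u} [CommRing B] (φ : A →+* B) : DRing.HasLBaseChange φ :=
  hasLeftDerivedFunctor _

end Groth.Agent.Helper6.HasLBC
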