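import Mathlib

/-!
# Complexes of vector spaces: cohomology with zero differentials, dimension counts
-/

set_option autoImplicit false
set_option linter.style.haveILetI false
set_option linter.unusedSectionVars false

universe u
open CategoryTheory CategoryTheory.Limits

namespace Groth.Agent.Helper6.MinCx

section Ring
variable {k : Type u} [Ring k]

/-- complex with zero differentials -/
def zeroCx (X : ℤ → ModuleCat.{u} k) : CochainComplex (ModuleCat.{u} k) ℤ where
  X := X
  d _ _ := 0
  shape _ _ _ := rfl
  d_comp_d' _ _ _ _ _ := zero_comp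

lemma zeroCx_d (X : ℤ → ModuleCat.{u} k) (a b : ℤ) : (zeroCx X).d a b = 0 := rfl

/-- termwise iso from quasi-iso when differentials vanish -/
lemma isIso_f_of_d_zero {K L : CochainComplex (ModuleCat.{u} k) ℤ} (φ : K ⟶ L) (i : ℤ)
    (hφ : QuasiIsoAt φ i) (hK : ∀ a b, K.d a b = 0) (hL : ∀ a b, L.d a b = 0) :
    IsIso (φ.f i) := by
  haveI := K.isIso_iCycles i (i + 1) (CochainComplex.next ℤ i) (hK _ _)
  haveI := L.isIso_iCycles i (i + 1) (CochainComplex.next ℤ i) (hL _ _)
  haveI := K.isIso_homologyπ (i - 1) i (CochainComplex.prev ℤ i) (hK _ _)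
  haveI := L.isIso_homologyπ (i - 1) i (CochainComplex.prev ℤ i) (hL _ _)
  haveI : IsIso (HomologicalComplex.homologyMap φ i) :=
    (quasiIsoAt_iff_isIso_homologyMap φ i).mp hφ
  have h1 : HomologicalComplex.cyclesMap φ i =
      K.homologyπ i ≫ HomologicalComplex.homologyMap φ i ≫ inv (L.homologyπ i) := by
    rw [← Category.assoc, HomologicalComplex.homologyπ_naturality, Category.assoc,
      IsIso.hom_inv_id, Category.comp_id]
  have h2 : φ.f i = inv (K.iCycles i) ≫ HomologicalComplex.cyclesMap φ i ≫ L.iCycles i := by
    rw [HomologicalComplex.cyclesMap_i, IsIso.inv_hom_id_assoc]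
  rw [h2, h1]
  infer_instance

variable (E : CochainComplex (ModuleCat.{u} k) ℤ)

lemma isZero_homology (i : ℤ) (hX : IsZero (E.X i)) : IsZero (E.homology i) := by
  have hinj : Function.Injective (E.iCycles i).hom :=
    (ModuleCat.mono_iff_injective _).mp inferInstance
  have hsurj : Function.Surjective (E.homologyπ i).hom :=
    (ModuleCat.epi_iff_surjective _).mp inferInstance
  haveI : Subsingleton (E.X i) := ModuleCat.subsingleton_of_isZero hX
  haveI : Subsingleton (E.cycles i) := hinj.subsingleton
  haveI : Subsingleton (E.homology i) := hsurj.subsingleton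
  exact ModuleCat.isZero_of_subsingleton _

variable (s : ∀ i, E.homology i ⟶ E.cycles i)

/-- the map from the cohomology (with zero differentials) -/
noncomputable def secMap : zeroCx (fun i => E.homology i) ⟶ E where
  f i := s i ≫ E.iCycles i
  comm' i j _ := by
    rw [Category.assoc, HomologicalComplex.iCycles_d, comp_zero]
    exact zero_comp.symm

lemma quasiIso_secMap (hs : ∀ i, s i ≫ E.homologyπ i = 𝟙 _) : QuasiIso (secMap E s) := by
  rw [quasiIso_iff]
  intro i
  rw [quasiIsoAt_iff_isIso_homologyMap]
  let Z : CochainComplex (ModuleCat.{u} k) ℤ := zeroCx (fun i => E.homology i)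
  have hZd : ∀ a b, Z.d a b = 0 := fun _ _ => rfl
  haveI : IsIso (Z.iCycles i) := Z.isIso_iCycles i (i + 1) (CochainComplex.next ℤ i) (hZd _ _)
  haveI : IsIso (Z.homologyπ i) :=
    Z.isIso_homologyπ (i - 1) i (CochainComplex.prev ℤ i) (hZd _ _)
  have h1 : inv (Z.iCycles i) ≫ HomologicalComplex.cyclesMap (secMap E s) i = s i := by
    rw [← cancel_mono (E.iCycles i), Category.assoc, HomologicalComplex.cyclesMap_i,
      IsIso.inv_hom_id_assoc]
    rfl
  have h2 : (inv (Z.iCycles i) ≫ Z.homologyπ i) ≫
      HomologicalComplex.homologyMap (secMap E s) i = 𝟙 (E.homology i) := by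
    rw [Category.assoc, HomologicalComplex.homologyπ_naturality, ← Category.assoc, h1]
    exact hs i
  exact @IsIso.of_isIso_fac_left _ _ _ _ _ (inv (Z.iCycles i) ≫ Z.homologyπ i) _
    (𝟙 (E.homology i)) inferInstance (IsIso.id (E.homology i)) h2

end Ring

section Field
variable {k : Type u} [Field k] (E : CochainComplex (ModuleCat.{u} k) ℤ)

lemma exists_sec : ∃ s : ∀ i, E.homology i ⟶ E.cycles i,
    ∀ i, s i ≫ E.homologyπ i = 𝟙 _ := by
  have h : ∀ i, ∃ s : E.homology i ⟶ E.cycles i, s ≫ E.homologyπ i = 𝟙 _ := fun i => by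
    have hsurj : Function.Surjective (E.homologyπ i).hom :=
      (ModuleCat.epi_iff_surjective _).mp inferInstance
    haveI : Module.Free k (E.homology i) := Module.Free.of_divisionRing k _
    haveI : Module.Projective k (E.homology i) := Module.Projective.of_free
    obtain ⟨σ, hσ⟩ := Module.projective_lifting_property (E.homologyπ i).hom LinearMap.id hsurj
    exact ⟨ModuleCat.ofHom σ, ModuleCat.hom_ext hσ⟩
  choose s hs using h
  exact ⟨s, hs⟩

lemma finite_homology (i : ℤ) [Module.Finite k (E.X i)] : Module.Finite k (E.homology i) := by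
  have hinj : Function.Injective (E.iCycles i).hom :=
    (ModuleCat.mono_iff_injective _).mp inferInstance
  have hsurj : Function.Surjective (E.homologyπ i).hom :=
    (ModuleCat.epi_iff_surjective _).mp inferInstance
  haveI : Module.Finite k (E.cycles i) := Module.Finite.of_injective (E.iCycles i).hom hinj
  exact Module.Finite.of_surjective (E.homologyπ i).hom hsurj

lemma d_eq_zero_of_finrank_eq (i : ℤ) [Module.Finite k (E.X i)]
    (h : Module.finrank k (E.homology i) = Module.finrank k (E.X i)) : E.d i (i + 1) = 0 := by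
  have hinj : Function.Injective (E.iCycles i).hom :=
    (ModuleCat.mono_iff_injective _).mp inferInstance
  have hsurj : Function.Surjective (E.homologyπ i).hom :=
    (ModuleCat.epi_iff_surjective _).mp inferInstance
  haveI : Module.Finite k (E.cycles i) := Module.Finite.of_injective (E.iCycles i).hom hinj
  have h1 : Module.finrank k (E.cycles i) ≤ Module.finrank k (E.X i) :=
    LinearMap.finrank_le_finrank_of_injective hinj
  have h2 : Module.finrank k (E.homology i) ≤ Module.finrank k (E.cycles i) :=
    LinearMap.finrank_le_finrank_of_surjective hsurj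
  have h3 : Module.finrank k (E.cycles i) = Module.finrank k (E.X i) := by omega
  have hsurj' : Function.Surjective (E.iCycles i).hom :=
    (LinearMap.injective_iff_surjective_of_finrank_eq_finrank h3).mp hinj
  haveI : Epi (E.iCycles i) := (ModuleCat.epi_iff_surjective _).mpr hsurj'
  rw [← cancel_epi (E.iCycles i), HomologicalComplex.iCycles_d, comp_zero]

end Field

end Groth.Agent.Helper6.MinCx
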