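import Mathlib
import Groth.Prelude.Def_DRing4
import Groth.Agent.Helper6.MinCx1
import Groth.Agent.Helper6.LBCAdj
import Groth.Agent.Helper6.LBCFibreGlobal
import Groth.Agent.Helper6.GorFib1
import Groth.Agent.Helper6.HasLBC
import Groth.Agent.Helper6.CohPC
import Groth.Agent.Helper3.DRingDev

/-!
# Perfectness from vanishing of maps to the residue fields
-/

set_option autoImplicit false
set_option linter.style.haveILetI false
set_option linter.unusedSectionVars false

universe u
open CategoryTheory CategoryTheory.Limits DerivedCategory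
attribute [local instance] HasDerivedCategory.standard

namespace Groth.Agent.Helper6.PerfHom
open Groth.Agent.Helper3.DRingLib

section Field

/-- over a field, a nonzero cohomology module is detected by a map to a shift of `k` -/
theorem exists_hom_ne_zero {k : Type u} [Field k] (X : Dual.D k) (j : ℤ)
    (h : ¬ Subsingleton (Dual.HD k X j)) : ∃ f : X ⟶ (Dual.inD k k)⟦-j⟧, f ≠ 0 := by
  let E : DRing.Cx k := Q.objPreimage X
  let eX : Q.obj E ≅ X := Q.objObjPreimageIso X
  obtain ⟨s, hs⟩ := MinCx.exists_sec E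
  haveI hq : QuasiIso (MinCx.secMap E s) := MinCx.quasiIso_secMap E s hs
  haveI : IsIso (Q.map (MinCx.secMap E s)) := by
    rw [isIso_Q_map_iff_quasiIso]
    exact hq
  have hne : ¬ Subsingleton (E.homology j) := fun hsub => h
    (@Equiv.subsingleton _ _ ((homologyFunctor (ModuleCat.{u} k) j).mapIso eX.symm ≪≫
      (homologyFunctorFactors (ModuleCat.{u} k) j).app E).toLinearEquiv.toEquiv hsub)
  obtain ⟨v, hv⟩ : ∃ v : E.homology j, v ≠ 0 := by
    by_contra hcon
    push Not at hcon
    exact hne ⟨fun a b => (hcon a).trans (hcon b).symm⟩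
  obtain ⟨l, hl⟩ : ∃ l : Module.Dual k (E.homology j), l v ≠ 0 := by
    by_contra hcon
    push Not at hcon
    exact hv ((Module.forall_dual_apply_eq_zero_iff k v).mp hcon)
  let Z : DRing.Cx k := MinCx.zeroCx (fun i => E.homology i)
  let S : DRing.Cx k :=
    (CochainComplex.singleFunctor (ModuleCat.{u} k) j).obj (ModuleCat.of k k)
  let φ : Z ⟶ S := HomologicalComplex.mkHomToSingle (ModuleCat.ofHom l) (fun i _ => zero_comp)
  have hφ : Q.map φ ≠ 0 := by
    intro h0
    have h1 : HomologicalComplex.homologyMap φ j = 0 := by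
      have hnat := (homologyFunctorFactors (ModuleCat.{u} k) j).hom.naturality φ
      dsimp at hnat
      rw [h0, Functor.map_zero, zero_comp] at hnat
      exact (cancel_epi ((homologyFunctorFactors (ModuleCat.{u} k) j).hom.app Z)).mp
        (hnat.symm.trans comp_zero.symm)
    have hZd : ∀ a b, Z.d a b = 0 := fun _ _ => rfl
    have hSd : ∀ a b, S.d a b = 0 := fun a b => rfl
    haveI := Z.isIso_iCycles j (j + 1) (CochainComplex.next ℤ j) (hZd _ _)
    haveI := S.isIso_homologyπ (j - 1) j (CochainComplex.prev ℤ j) (hSd _ _)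
    have h2 : HomologicalComplex.cyclesMap φ j = 0 := by
      have := HomologicalComplex.homologyπ_naturality φ j
      rw [h1, comp_zero] at this
      exact (cancel_mono (S.homologyπ j)).mp (by rw [← this, zero_comp])
    have h3 : φ.f j = 0 := by
      have := HomologicalComplex.cyclesMap_i φ j
      rw [h2, zero_comp] at this
      exact (cancel_epi (Z.iCycles j)).mp (by rw [← this, comp_zero])
    have h3' : ModuleCat.ofHom l ≫ (HomologicalComplex.singleObjXSelf (ComplexShape.up ℤ) j
        (ModuleCat.of k k)).inv = 0 := by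
      exact (HomologicalComplex.mkHomToSingle_f (K := Z) (ModuleCat.ofHom l)
        (fun i _ => zero_comp)).symm.trans h3
    have h4 : ModuleCat.ofHom l = 0 :=
      (cancel_mono (HomologicalComplex.singleObjXSelf (ComplexShape.up ℤ) j
        (ModuleCat.of k k)).inv).mp (by rw [h3', zero_comp])
    apply hl
    have := congrArg (fun t => t.hom v) h4
    exact this
  let eS : Q.obj S ≅ (Dual.inD k k)⟦-j⟧ :=
    ((singleFunctorIsoCompQ (ModuleCat.{u} k) j).app (ModuleCat.of k k)).symm ≪≫
      (singleShiftIso (ModuleCat.of k k) j).symm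
  refine ⟨eX.inv ≫ inv (Q.map (MinCx.secMap E s)) ≫ Q.map φ ≫ eS.hom, ?_⟩
  intro h0
  apply hφ
  have h5 : inv (Q.map (MinCx.secMap E s)) ≫ Q.map φ ≫ eS.hom = 0 :=
    (cancel_epi eX.inv).mp (by rw [h0, comp_zero])
  have h6 : Q.map φ ≫ eS.hom = 0 :=
    (cancel_epi (inv (Q.map (MinCx.secMap E s)))).mp (by rw [h5, comp_zero])
  exact (cancel_mono eS.hom).mp (by rw [h6, zero_comp])

end Field

variable {A : Type u} [CommRing A]

/-- vanishing of maps to a shift of the residue field gives vanishing of the cohomology of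
the derived fibre -/
theorem subsingleton_HD_fibre (m : Ideal A) [m.IsMaximal]
    [DRing.HasLBaseChange (Ideal.Quotient.mk m)] (L : Dual.D A) (j : ℤ)
    (h : ∀ f : L ⟶ (Dual.inD A (A ⧸ m))⟦-j⟧, f = 0) :
    Subsingleton (Dual.HD (A ⧸ m) ((DRing.LBaseChange (Ideal.Quotient.mk m)).obj L) j) := by
  letI : Field (A ⧸ m) := Ideal.Quotient.field m
  by_contra hne
  obtain ⟨f, hf⟩ := exists_hom_ne_zero (k := A ⧸ m) _ j hne
  let adj := LBCAdj.adj (Ideal.Quotient.mk m)
  have hg : adj.homEquiv L _ f ≠ 0 := by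
    intro h0
    apply hf
    apply (adj.homEquiv L _).injective
    rw [h0, Adjunction.homEquiv_unit, Functor.map_zero, comp_zero]
  let eT : (DRing.restrictD (Ideal.Quotient.mk m)).obj ((Dual.inD (A ⧸ m) (A ⧸ m))⟦-j⟧) ≅
      (Dual.inD A (A ⧸ m))⟦-j⟧ :=
    ((DRing.restrictD (Ideal.Quotient.mk m)).commShiftIso (-j)).app _ ≪≫
      (shiftFunctor (Dual.D A) (-j)).mapIso (GorFib.ρ m).symm
  apply hg
  have := h (adj.homEquiv L _ f ≫ eT.hom)
  exact (cancel_mono eT.hom).mp (by rw [this, zero_comp])

/-- **An object of `D^b_coh(A)` with no maps to the shifted residue fields `κ(m)[-i]` for `i`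
outside a fixed interval `[a, b]` is perfect.** -/
theorem main [IsNoetherianRing A] (L : Dual.D A)
    (hfin : ∀ i : ℤ, Module.Finite A (Dual.HD A L i))
    (hbdd : ∃ b : ℤ, ∀ i : ℤ, b < i → Subsingleton (Dual.HD A L i)) (a b : ℤ)
    (h : ∀ m : Ideal A, m.IsMaximal → ∀ i : ℤ, (i < a ∨ b < i) →
      ∀ f : L ⟶ (Dual.inD A (A ⧸ m))⟦-i⟧, f = 0) :
    DRing.IsPerfect A L := by
  haveI : ∀ m : Ideal A, DRing.HasLBaseChange (Ideal.Quotient.mk m) :=
    fun m => HasLBC.hasLBaseChange _
  have hR : ∀ I : Ideal A, I.FG → Module.FinitePresentation A I :=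
    fun I _ => Module.finitePresentation_of_finite A I
  have hpc : DRing.IsPseudoCoherent' A L :=
    (CohPC.main hR L hbdd 0).2.2
      (fun i => by haveI := hfin i; exact Module.finitePresentation_of_finite A _)
  exact (LBCFibreGlobal.isPerfect_of_fibres_vanishing L hpc a b (fun m hm i hi => by
    haveI := hm
    exact subsingleton_HD_fibre m L i (h m hm i hi))).1

end Groth.Agent.Helper6.PerfHom
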