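import Mathlib
import Groth.Prelude.Def_DRing4
import Groth.Agent.Helper6.DK1
import Groth.Agent.Helper6.FBC2
import Groth.Agent.Helper3.DRingDev

/-!
# Point-like objects of `D^b_coh(A)` are shifted residue fields
-/

set_option autoImplicit false
set_option linter.style.haveILetI false
set_option linter.unusedSectionVars false

universe u
open CategoryTheory CategoryTheory.Limits Pretriangulated DerivedCategory
attribute [local instance] HasDerivedCategory.standard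

namespace Groth.Agent.Helper6.PointLike
open Groth.Agent.Helper3.DRingLib Groth.Agent.Helper6.DK

variable {A : Type u} [CommRing A]

/-- the bottom truncation triangle -/
lemma exists_bottom_truncation (Z : Dual.D A) (a : ℤ) [Z.IsGE a] :
    ∃ (X' Y' : Dual.D A) (f : X' ⟶ Z) (g : Z ⟶ Y') (δ : Y' ⟶ X'⟦(1 : ℤ)⟧),
      Triangle.mk f g δ ∈ distTriang (Dual.D A) ∧ X'.IsGE a ∧ X'.IsLE a ∧ Y'.IsGE (a + 1) ∧
      IsIso ((homologyFunctor (ModuleCat.{u} A) a).map f) := by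
  obtain ⟨X, Y', hX, hY, f, g, δ, hT⟩ := TStructure.t.exists_triangle Z a (a + 1) rfl
  have iX : X.IsLE a := ⟨hX⟩
  have iY : Y'.IsGE (a + 1) := ⟨hY⟩
  have iY' : (Triangle.mk f g δ).obj₃.IsGE (a + 1) := iY
  have hf : ∀ i : ℤ, i ≤ a → IsIso ((homologyFunctor (ModuleCat.{u} A) i).map f) :=
    fun i hi => isIso_HD_mor₁ _ hT a i hi
  refine ⟨X, Y', f, g, δ, hT, ?_, iX, iY, hf a le_rfl⟩
  rw [DerivedCategory.isGE_iff]
  intro i hi
  haveI := hf i (by omega)
  exact (Z.isZero_of_isGE a i hi).of_iso (asIso ((homologyFunctor (ModuleCat.{u} A) i).map f))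

/-- scalars killing the identity kill the cohomology -/
lemma HD_killed (Z : Dual.D A) (r : A) (hr : r • 𝟙 Z = 0) (i : ℤ) (x : Dual.HD A Z i) :
    r • x = 0 := by
  have h1 : (homologyFunctor (ModuleCat.{u} A) i).map (r • 𝟙 Z) =
      r • 𝟙 ((homologyFunctor (ModuleCat.{u} A) i).obj Z) := by
    rw [Functor.map_smul, CategoryTheory.Functor.map_id]
  rw [hr, Functor.map_zero] at h1
  have := congrArg (fun t => t.hom x) h1
  exact this.symm

variable (m : Ideal A) [m.IsMaximal]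

/-- a nonzero map between nonzero finite modules killed by a maximal ideal -/
lemma exists_map_ne_zero (V W : Type u) [AddCommGroup V] [Module A V] [AddCommGroup W] [Module A W]
    [Module.Finite A V] [Module.Finite A W] (hV : ∀ r ∈ m, ∀ x : V, r • x = 0)
    (hW : ∀ r ∈ m, ∀ x : W, r • x = 0) (hV0 : ¬ Subsingleton V) (hW0 : ¬ Subsingleton W) :
    ∃ u : V →ₗ[A] W, u ≠ 0 := by
  obtain ⟨kb, ⟨εb⟩⟩ := exists_equiv_pi m V hV
  obtain ⟨ka, ⟨εa⟩⟩ := exists_equiv_pi m W hW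
  have hkb : 1 ≤ kb := one_le_of_equiv m V hV0 kb εb
  have hka : 1 ≤ ka := one_le_of_equiv m W hW0 ka εa
  let jb : Fin kb := ⟨0, by omega⟩
  let ja : Fin ka := ⟨0, by omega⟩
  refine ⟨εa.symm.toLinearMap ∘ₗ LinearMap.single A (fun _ => A ⧸ m) ja ∘ₗ
    LinearMap.proj jb ∘ₗ εb.toLinearMap, ?_⟩
  intro h0
  have h1 := congrArg (fun t => εa (t (εb.symm (Pi.single jb 1)))) h0
  simp only [LinearMap.coe_comp, LinearEquiv.coe_coe, Function.comp_apply,
    LinearEquiv.apply_symm_apply, LinearMap.coe_proj, Function.eval, Pi.single_eq_same,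
    LinearMap.coe_single, LinearMap.zero_apply, map_zero] at h1
  have h2 := congrFun h1 ja
  rw [Pi.single_eq_same, Pi.zero_apply] at h2
  haveI : Nontrivial (A ⧸ m) := Ideal.Quotient.nontrivial_iff.mpr (Ideal.IsMaximal.ne_top inferInstance)
  exact one_ne_zero h2

/-- **Point-like objects.**  An object of `D^b_coh(A)` whose endomorphisms are `A/m` and which
has no negative self-extensions is a shift of `A/m`. -/
theorem main (Z : Dual.D A)
    (hfin : ∀ i : ℤ, Module.Finite A (Dual.HD A Z i))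
    (hbdd : ∃ a b : ℤ, ∀ i : ℤ, (i < a ∨ b < i) → Subsingleton (Dual.HD A Z i))
    (e : (Z ⟶ Z) ≃ₗ[A] (A ⧸ m))
    (hneg : ∀ i : ℤ, i < 0 → ∀ φ : Z ⟶ Z⟦i⟧, φ = 0) :
    ∃ n : ℤ, Nonempty (Z ≅ (Dual.inD A (A ⧸ m))⟦n⟧) := by
  haveI : Nontrivial (A ⧸ m) :=
    Ideal.Quotient.nontrivial_iff.mpr (Ideal.IsMaximal.ne_top inferInstance)
  obtain ⟨a0, b0, hb0⟩ := hbdd
  have hkill : ∀ r ∈ m, r • 𝟙 Z = 0 := fun r hr => e.injective (by
    rw [map_smul, map_zero]
    exact quot_killed m r hr _)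
  have hHk : ∀ (i : ℤ) (r : A), r ∈ m → ∀ x : Dual.HD A Z i, r • x = 0 :=
    fun i r hr x => HD_killed Z r (hkill r hr) i x
  have hZ0 : ¬ IsZero Z := fun hz => by
    have h1 : e.symm 1 = e.symm 0 := hz.eq_of_src _ _
    exact one_ne_zero (e.symm.injective h1)
  let S : Set ℤ := {i | ¬ Subsingleton (Dual.HD A Z i)}
  have hSne : ∃ i, i ∈ S := by
    by_contra hcon
    push Not at hcon
    have hall : ∀ i, Subsingleton (Dual.HD A Z i) := fun i => by
      by_contra hi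
      exact hcon i hi
    haveI : Z.IsLE 0 := isLE_of_HD Z 0 (fun i _ => hall i)
    haveI : Z.IsGE 1 := isGE_of_HD Z 1 (fun i _ => hall i)
    exact hZ0 (TStructure.t.isZero Z 0 1 (by omega))
  have hSub : ∀ i ∈ S, a0 ≤ i ∧ i ≤ b0 := fun i hi => by
    constructor <;> by_contra hcon <;> push Not at hcon
    · exact hi (hb0 i (Or.inl hcon))
    · exact hi (hb0 i (Or.inr hcon))
  obtain ⟨b', hb'S, hb'max⟩ := Int.exists_greatest_of_bdd (P := fun i => i ∈ S)
    ⟨b0, fun i hi => (hSub i hi).2⟩ hSne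
  obtain ⟨a', ha'S, ha'min⟩ := Int.exists_least_of_bdd (P := fun i => i ∈ S)
    ⟨a0, fun i hi => (hSub i hi).1⟩ hSne
  haveI iLE : Z.IsLE b' := isLE_of_HD Z b' (fun i hi => by
    by_contra hcon
    have := hb'max i hcon
    omega)
  haveI iGE : Z.IsGE a' := isGE_of_HD Z a' (fun i hi => by
    by_contra hcon
    have := ha'min i hcon
    omega)
  have hab : a' ≤ b' := hb'max a' ha'S
  have hEq : a' = b' := by
    by_contra hne
    have hlt : a' < b' := lt_of_le_of_ne hab hne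
    obtain ⟨X₁, Y₁, f₁, g₁, δ₁, hT₁, i1, i2, i3, i4, -, hg₁⟩ := exists_top_truncation Z a' b'
    obtain ⟨X₂, Y₂, f₂, g₂, δ₂, hT₂, j1, j2, j3, hf₂⟩ := exists_bottom_truncation Z a'
    haveI := i2
    haveI := i3
    haveI := i4
    haveI := j1
    haveI := j2
    haveI := j3
    haveI := hg₁
    haveI := hf₂
    obtain ⟨e₁⟩ := exists_iso_single_HD Y₁ b'
    obtain ⟨e₂⟩ := exists_iso_single_HD X₂ a'
    let eb : Dual.HD A Z b' ≃ₗ[A] Dual.HD A Y₁ b' :=
      (asIso ((homologyFunctor (ModuleCat.{u} A) b').map g₁)).toLinearEquiv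
    let ea : Dual.HD A X₂ a' ≃ₗ[A] Dual.HD A Z a' :=
      (asIso ((homologyFunctor (ModuleCat.{u} A) a').map f₂)).toLinearEquiv
    haveI : Module.Finite A (Dual.HD A Y₁ b') := by
      haveI := hfin b'
      exact Module.Finite.equiv eb
    haveI : Module.Finite A (Dual.HD A X₂ a') := by
      haveI := hfin a'
      exact Module.Finite.equiv ea.symm
    have hVbk : ∀ r ∈ m, ∀ x : Dual.HD A Y₁ b', r • x = 0 := fun r hr x => by
      obtain ⟨y, rfl⟩ := eb.surjective x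
      rw [← map_smul, hHk b' r hr y, map_zero]
    have hVak : ∀ r ∈ m, ∀ x : Dual.HD A X₂ a', r • x = 0 := fun r hr x => by
      apply ea.injective
      rw [map_smul, hHk a' r hr _, map_zero]
    have hVb0 : ¬ Subsingleton (Dual.HD A Y₁ b') := fun h => hb'S eb.toEquiv.subsingleton
    have hVa0 : ¬ Subsingleton (Dual.HD A X₂ a') := fun h => ha'S ea.symm.toEquiv.subsingleton
    obtain ⟨u, hu⟩ := exists_map_ne_zero m (Dual.HD A Y₁ b') (Dual.HD A X₂ a') hVbk hVak hVb0 hVa0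
    let Sf := DerivedCategory.singleFunctor (ModuleCat.{u} A) 0
    let uu : Dual.inD A (Dual.HD A Y₁ b') ⟶ Dual.inD A (Dual.HD A X₂ a') :=
      Sf.map (ModuleCat.ofHom u)
    have huu : uu ≠ 0 := by
      intro h0
      apply hu
      have h1 : ModuleCat.ofHom u = 0 := Sf.map_injective (by rw [Functor.map_zero]; exact h0)
      have := congrArg ModuleCat.Hom.hom h1
      exact this
    let s : ℤ := a' - b'
    let θ : (Dual.inD A (Dual.HD A X₂ a'))⟦-b'⟧ ≅ ((Dual.inD A (Dual.HD A X₂ a'))⟦-a'⟧)⟦s⟧ :=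
      (shiftFunctorAdd' (Dual.D A) (-a') s (-b') (by omega)).app _
    let w : Y₁ ⟶ X₂⟦s⟧ := e₁.hom ≫ uu⟦-b'⟧' ≫ θ.hom ≫ e₂.inv⟦s⟧'
    have hw : w ≠ 0 := by
      intro h0
      apply huu
      have h1 : uu⟦-b'⟧' ≫ θ.hom ≫ e₂.inv⟦s⟧' = 0 := (cancel_epi e₁.hom).mp (by
        rw [comp_zero]; exact h0)
      haveI : IsIso (e₂.inv⟦s⟧') := inferInstance
      have h2 : uu⟦-b'⟧' = 0 := by
        have h3 : uu⟦-b'⟧' ≫ (θ.hom ≫ e₂.inv⟦s⟧') = 0 ≫ (θ.hom ≫ e₂.inv⟦s⟧') := by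
          rw [zero_comp]; exact h1
        exact (cancel_mono (θ.hom ≫ e₂.inv⟦s⟧')).mp h3
      exact (shiftFunctor (Dual.D A) (-b')).map_injective (by rw [Functor.map_zero]; exact h2)
    -- the composite `Z ⟶ Z⟦s⟧` vanishes
    have hc : g₁ ≫ w ≫ f₂⟦s⟧' = 0 := hneg s (by omega) _
    -- step 1
    have h1 : w ≫ f₂⟦s⟧' = 0 := by
      obtain ⟨ψ, hψ⟩ := Triangle.yoneda_exact₃ _ hT₁ (w ≫ f₂⟦s⟧') hc
      haveI : (X₁⟦(1 : ℤ)⟧).IsLE (b' - 2) := TStructure.t.isLE_shift X₁ (b' - 1) 1 (b' - 2) (by omega)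
      haveI : (Z⟦s⟧).IsGE b' := TStructure.t.isGE_shift Z a' s b' (by omega)
      have hψ0 : ψ = 0 := TStructure.t.zero_of_isLE_of_isGE ψ (b' - 2) b' (by omega)
        (TStructure.t.isLE_shift X₁ (b' - 1) 1 (b' - 2) (by omega))
        (TStructure.t.isGE_shift Z a' s b' (by omega))
      exact hψ.trans ((congrArg (fun t => (Triangle.mk f₁ g₁ δ₁).mor₃ ≫ t) hψ0).trans comp_zero)
    -- step 2
    have hT₂' := Triangle.shift_distinguished _ hT₂ s
    haveI : (Y₂⟦s⟧).IsGE (b' + 1) := TStructure.t.isGE_shift Y₂ (a' + 1) s (b' + 1) (by omega)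
    haveI : ((Y₂⟦s⟧)⟦(-1 : ℤ)⟧).IsGE (b' + 2) :=
      TStructure.t.isGE_shift (Y₂⟦s⟧) (b' + 1) (-1) (b' + 2) (by omega)
    have hinj := (Groth.Agent.Helper6.FBC.postcomp_mor₁_bijective _ hT₂' Y₁
      (fun f => TStructure.t.zero_of_isLE_of_isGE f b' (b' + 1) (by omega) i4
        (TStructure.t.isGE_shift Y₂ (a' + 1) s (b' + 1) (by omega)))
      (fun f => TStructure.t.zero_of_isLE_of_isGE f b' (b' + 2) (by omega) i4
        (TStructure.t.isGE_shift (Y₂⟦s⟧) (b' + 1) (-1) (b' + 2) (by omega)))).1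
    apply hw
    apply hinj
    show w ≫ (s.negOnePow • f₂⟦s⟧') = 0 ≫ (s.negOnePow • f₂⟦s⟧')
    rw [Linear.comp_units_smul, h1, smul_zero, zero_comp]
  subst hEq
  -- `Z` is concentrated in degree `a'`
  obtain ⟨e0⟩ := exists_iso_single_HD Z a'
  haveI := hfin a'
  have hVk : ∀ r ∈ m, ∀ x : Dual.HD A Z a', r • x = 0 := fun r hr x => hHk a' r hr x
  let Sf := DerivedCategory.singleFunctor (ModuleCat.{u} A) 0
  let φ : (Dual.inD A (Dual.HD A Z a') ⟶ Dual.inD A (Dual.HD A Z a')) ≃ₗ[A] (A ⧸ m) :=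
    (LinearEquiv.ofBijective ((shiftFunctor (Dual.D A) (-a')).mapLinearMap A)
      ⟨(shiftFunctor (Dual.D A) (-a')).map_injective,
       (shiftFunctor (Dual.D A) (-a')).map_surjective⟩) ≪≫ₗ
      Linear.homCongr A e0.symm e0.symm ≪≫ₗ e
  have hVne : ¬ Subsingleton (Dual.inD A (A ⧸ m) ⟶ Dual.inD A (Dual.HD A Z a')) := by
    intro hsub
    obtain ⟨u, hu⟩ := exists_map_ne_zero m (A ⧸ m) (Dual.HD A Z a')
      (fun r hr x => quot_killed m r hr x) hVk (not_subsingleton _) ha'S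
    apply hu
    have h1 : Sf.map (ModuleCat.ofHom u) = 0 := Subsingleton.elim _ _
    have h2 : ModuleCat.ofHom u = 0 := Sf.map_injective (by rw [Functor.map_zero]; exact h1)
    exact congrArg ModuleCat.Hom.hom h2
  obtain ⟨ψ⟩ := equiv_of_simple m (Dual.HD A Z a') hVk ha'S (Dual.inD A (Dual.HD A Z a')) hVne φ
  exact ⟨-a', ⟨e0 ≪≫ (shiftFunctor (Dual.D A) (-a')).mapIso (Sf.mapIso ψ.toModuleIso)⟩⟩

end Groth.Agent.Helper6.PointLike
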