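import Mathlib
import Groth.Prelude.Def_DTen
import Groth.Agent.Helper6.InvEnd1
import Groth.Agent.Helper6.PerfHom1
import Groth.Agent.Helper6.PointLike1
import Groth.Agent.Helper6.FBC2
import Groth.Agent.Helper6.DK1
import Groth.Agent.Helper6.LD6

/-!
# Linear autoequivalences of `D^b_coh(A)` send the unit to an invertible object
-/

set_option autoImplicit false
set_option linter.style.haveILetI false
set_option linter.unusedSectionVars false

universe u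
open CategoryTheory CategoryTheory.Limits Pretriangulated DerivedCategory
attribute [local instance] HasDerivedCategory.standard

namespace Groth.Agent.Helper6.AutEq
open Groth.Agent.Helper3.DRingLib Groth.Agent.Helper6.DK

section Generic

universe v₁ v₂ u₁ u₂
variable {R : Type u} [CommRing R]
variable {C : Type u₁} {D : Type u₂} [Category.{v₁} C] [Category.{v₂} D] [Preadditive C]
  [Preadditive D] [Linear R C] [Linear R D] [HasShift C ℤ] [HasShift D ℤ]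
  (G : C ⥤ D) [G.CommShift ℤ] [G.Additive] [G.Linear R] [G.Full] [G.Faithful]

/-- a fully faithful linear functor commuting with shifts identifies shifted homs -/
noncomputable def shHomEquiv (X Y : C) (i : ℤ) :
    (X ⟶ Y⟦i⟧) ≃ₗ[R] (G.obj X ⟶ (G.obj Y)⟦i⟧) :=
  (LinearEquiv.ofBijective (G.mapLinearMap R) ⟨G.map_injective, G.map_surjective⟩) ≪≫ₗ
    Linear.homCongr R (Iso.refl _) ((G.commShiftIso i).app Y)

/-- a fully faithful linear functor identifies endomorphisms -/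
noncomputable def endEquiv (X : C) : (X ⟶ X) ≃ₗ[R] (G.obj X ⟶ G.obj X) :=
  LinearEquiv.ofBijective (G.mapLinearMap R) ⟨G.map_injective, G.map_surjective⟩

lemma endEquiv_id (X : C) : endEquiv (R := R) G X (𝟙 X) = 𝟙 (G.obj X) := G.map_id X

/-- a fully faithful linear functor identifies homs -/
noncomputable def homEquiv (X Y : C) : (X ⟶ Y) ≃ₗ[R] (G.obj X ⟶ G.obj Y) :=
  LinearEquiv.ofBijective (G.mapLinearMap R) ⟨G.map_injective, G.map_surjective⟩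

end Generic

section Unit

variable {A : Type u} [CommRing A]

/-- `Hom(A[0], W[n]) = H^n(W)` -/
noncomputable def homUnitEquiv (W : Dual.D A) (n : ℤ) :
    (Dual.inD A A ⟶ W⟦n⟧) ≃ₗ[A] Dual.HD A W n :=
  (shiftHomEquiv (Dual.inD A A) W (-n) n 0 n (by omega) (by omega)).symm ≪≫ₗ
    Linear.homCongr A (singleShiftIso (ModuleCat.of A A) n)
      ((shiftFunctorZero (Dual.D A) ℤ).app W) ≪≫ₗ
    LinearEquiv.ofBijective (Groth.Agent.Helper6.FBC.ev W n)
      (Groth.Agent.Helper6.FBC.ev_bijective W n)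

lemma inD_end (g : Dual.inD A A ⟶ Dual.inD A A) : ∃ a : A, g = a • 𝟙 (Dual.inD A A) := by
  obtain ⟨f, rfl⟩ := (singleFunctor (ModuleCat.{u} A) 0).map_surjective g
  refine ⟨f.hom (1 : A), ?_⟩
  have h1 : f = f.hom (1 : A) • 𝟙 (ModuleCat.of A A) := by
    refine ModuleCat.hom_ext (LinearMap.ext fun x => ?_)
    show f.hom x = f.hom (1 : A) • x
    have : x = x • (1 : A) := by simp
    conv_lhs => rw [this, map_smul]
    simp [mul_comm]
  conv_lhs => rw [h1]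
  rw [Functor.map_smul, CategoryTheory.Functor.map_id]

lemma inD_inj (a : A) (h : a • 𝟙 (Dual.inD A A) = 0) : a = 0 := by
  have h1 : (singleFunctor (ModuleCat.{u} A) 0).map (a • 𝟙 (ModuleCat.of A A)) = 0 := by
    rw [Functor.map_smul, CategoryTheory.Functor.map_id]
    exact h
  have h2 : a • 𝟙 (ModuleCat.of A A) = 0 :=
    (singleFunctor (ModuleCat.{u} A) 0).map_injective (by rw [Functor.map_zero]; exact h1)
  have h3 := congrArg (fun t => t.hom (1 : A)) h2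
  simpa using h3

lemma inD_van (n : ℤ) (hn : n ≠ 0) (g : Dual.inD A A ⟶ (Dual.inD A A)⟦n⟧) : g = 0 := by
  haveI : Subsingleton (Dual.HD A (Dual.inD A A) n) := by
    rcases lt_or_gt_of_ne hn with h | h
    · exact subsingleton_HD_of_isGE _ 0 n h
    · exact subsingleton_HD_of_isLE _ 0 n h
  exact (homUnitEquiv (Dual.inD A A) n).injective (Subsingleton.elim _ _)

/-- endomorphisms of the residue field -/
noncomputable def endK (m : Ideal A) :
    (Dual.inD A (A ⧸ m) ⟶ Dual.inD A (A ⧸ m)) ≃ₗ[A] (A ⧸ m) :=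
  (LinearEquiv.ofBijective ((singleFunctor (ModuleCat.{u} A) 0).mapLinearMap A)
    ⟨(singleFunctor (ModuleCat.{u} A) 0).map_injective,
      (singleFunctor (ModuleCat.{u} A) 0).map_surjective⟩).symm ≪≫ₗ
    ModuleCat.homLinearEquiv (S := A) ≪≫ₗ
    { toFun := fun f => f 1
      map_add' := fun _ _ => rfl
      map_smul' := fun _ _ => rfl
      invFun := fun c => LinearMap.mulLeft A c
      left_inv := fun f => by
        refine LinearMap.ext fun x => ?_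
        obtain ⟨a, rfl⟩ := Ideal.Quotient.mk_surjective x
        show f 1 * Ideal.Quotient.mk m a = f (Ideal.Quotient.mk m a)
        have h1 : Ideal.Quotient.mk m a = a • (1 : A ⧸ m) := by
          rw [Algebra.smul_def, mul_one]; rfl
        rw [h1, map_smul, Algebra.smul_def, Algebra.smul_def, mul_one, mul_comm]
      right_inv := fun c => by
        show c * 1 = c
        exact mul_one c }

lemma unit_end (g : DTen.unit A ⟶ DTen.unit A) : ∃ a : A, g = a • 𝟙 (DTen.unit A) := by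
  obtain ⟨a, ha⟩ := inD_end ((InvEnd.unitIso A).hom ≫ g ≫ (InvEnd.unitIso A).inv)
  refine ⟨a, ?_⟩
  have h1 : g = (InvEnd.unitIso A).inv ≫
      ((InvEnd.unitIso A).hom ≫ g ≫ (InvEnd.unitIso A).inv) ≫ (InvEnd.unitIso A).hom := by simp
  rw [h1, ha]
  simp [Linear.smul_comp, Linear.comp_smul]

lemma unit_inj (a : A) (h : a • 𝟙 (DTen.unit A) = 0) : a = 0 := by
  refine inD_inj a ?_
  have h1 : a • 𝟙 (Dual.inD A A) =
      (InvEnd.unitIso A).hom ≫ (a • 𝟙 (DTen.unit A)) ≫ (InvEnd.unitIso A).inv := by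
    simp [Linear.smul_comp, Linear.comp_smul]
  rw [h1, h]
  simp

lemma unit_van (n : ℤ) (hn : n ≠ 0) (g : DTen.unit A ⟶ (DTen.unit A)⟦n⟧) : g = 0 := by
  have h := inD_van n hn ((InvEnd.unitIso A).hom ≫ g ≫ (InvEnd.unitIso A).inv⟦n⟧')
  have h1 : g = (InvEnd.unitIso A).inv ≫
      ((InvEnd.unitIso A).hom ≫ g ≫ (InvEnd.unitIso A).inv⟦n⟧') ≫
        (InvEnd.unitIso A).hom⟦n⟧' := by simp
  rw [h1, h]
  simp

/-- `Hom(unit, W[n]) = H^n(W)` -/
noncomputable def homUnitEquiv' (W : Dual.D A) (n : ℤ) :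
    (DTen.unit A ⟶ W⟦n⟧) ≃ₗ[A] Dual.HD A W n :=
  Linear.homCongr A (InvEnd.unitIso A).symm (Iso.refl _) ≪≫ₗ homUnitEquiv W n

lemma hom_k_neg (m : Ideal A) (i : ℤ) (hi : i < 0)
    (g : Dual.inD A (A ⧸ m) ⟶ (Dual.inD A (A ⧸ m))⟦i⟧) : g = 0 :=
  TStructure.t.zero_of_isLE_of_isGE g 0 (-i) (by omega) inferInstance
    (TStructure.t.isGE_shift (Dual.inD A (A ⧸ m)) 0 i (-i) (by omega))

lemma exists_unit_to_k_ne_zero (m : Ideal A) (hm : m ≠ ⊤) :
    ∃ g : Dual.inD A A ⟶ Dual.inD A (A ⧸ m), g ≠ 0 := by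
  refine ⟨(singleFunctor (ModuleCat.{u} A) 0).map (ModuleCat.ofHom (Submodule.mkQ m)),
    fun h => ?_⟩
  have h2 : ModuleCat.ofHom (Submodule.mkQ m) = 0 :=
    (singleFunctor (ModuleCat.{u} A) 0).map_injective (by rw [Functor.map_zero]; exact h)
  have h3 := congrArg (fun t => t.hom (1 : A)) h2
  have h4 : (1 : A) ∈ m := (Submodule.Quotient.mk_eq_zero m).mp h3
  exact hm ((Ideal.eq_top_iff_one m).mpr h4)

end Unit

section Sub

variable {A : Type u} [CommRing A]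

/-- the object property of being in `D^b_coh` -/
def IsDbCoh (P : ObjectProperty (Dual.D A)) : Prop :=
  ∀ K : Dual.D A, P K ↔
    ((∀ i : ℤ, Module.Finite A (Dual.HD A K i)) ∧
      ∃ a b : ℤ, ∀ i : ℤ, (i < a ∨ b < i) → Subsingleton (Dual.HD A K i))

variable (P : ObjectProperty (Dual.D A)) [P.IsTriangulated]
  (F : P.FullSubcategory ⥤ P.FullSubcategory) [F.CommShift ℤ] [F.IsEquivalence]
  [F.Additive] [F.Linear A]

/-- transfer of shifted homs through `F` -/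
noncomputable def tr (X Y : P.FullSubcategory) (i : ℤ) :
    (X.obj ⟶ Y.obj⟦i⟧) ≃ₗ[A] ((F.obj X).obj ⟶ (F.obj Y).obj⟦i⟧) :=
  (shHomEquiv (R := A) P.ι X Y i).symm ≪≫ₗ shHomEquiv (R := A) F X Y i ≪≫ₗ
    shHomEquiv (R := A) P.ι (F.obj X) (F.obj Y) i

/-- transfer of homs through `F` -/
noncomputable def tr0 (X Y : P.FullSubcategory) :
    (X.obj ⟶ Y.obj) ≃ₗ[A] ((F.obj X).obj ⟶ (F.obj Y).obj) :=
  (homEquiv (R := A) P.ι X Y).symm ≪≫ₗ homEquiv (R := A) F X Y ≪≫ₗ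
    homEquiv (R := A) P.ι (F.obj X) (F.obj Y)

lemma tr0_id (X : P.FullSubcategory) : tr0 P F X X (𝟙 X.obj) = 𝟙 (F.obj X).obj := by
  have h1 : (homEquiv (R := A) P.ι X X).symm (𝟙 X.obj) = 𝟙 X := by
    rw [LinearEquiv.symm_apply_eq]
    exact (P.ι.map_id X).symm
  show homEquiv (R := A) P.ι (F.obj X) (F.obj X) (homEquiv (R := A) F X X
    ((homEquiv (R := A) P.ι X X).symm (𝟙 X.obj))) = _
  rw [h1]
  show P.ι.map (F.map (𝟙 X)) = _
  rw [F.map_id, P.ι.map_id]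
  rfl

lemma end_scalar (X : P.FullSubcategory)
    (h : ∀ g : X.obj ⟶ X.obj, ∃ a : A, g = a • 𝟙 X.obj)
    (g : (F.obj X).obj ⟶ (F.obj X).obj) : ∃ a : A, g = a • 𝟙 (F.obj X).obj := by
  obtain ⟨a, ha⟩ := h ((tr0 P F X X).symm g)
  refine ⟨a, ?_⟩
  have h1 : g = tr0 P F X X (a • 𝟙 X.obj) := by
    rw [← ha, LinearEquiv.apply_symm_apply]
  rw [h1, map_smul, tr0_id]

lemma end_inj (X : P.FullSubcategory) (h : ∀ a : A, a • 𝟙 X.obj = 0 → a = 0)
    (a : A) (ha : a • 𝟙 (F.obj X).obj = 0) : a = 0 := by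
  refine h a ?_
  have h1 : tr0 P F X X (a • 𝟙 X.obj) = 0 := by
    rw [map_smul, tr0_id]; exact ha
  exact (LinearEquiv.map_eq_zero_iff (tr0 P F X X)).mp h1

lemma sh_zero (X Y : P.FullSubcategory) (i : ℤ) (h : ∀ g : X.obj ⟶ Y.obj⟦i⟧, g = 0)
    (g : (F.obj X).obj ⟶ (F.obj Y).obj⟦i⟧) : g = 0 :=
  (LinearEquiv.map_eq_zero_iff (tr P F X Y i).symm).mp (h _)

lemma sh_zero' (X Y : P.FullSubcategory) (i : ℤ)
    (h : ∀ g : (F.obj X).obj ⟶ (F.obj Y).obj⟦i⟧, g = 0)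
    (g : X.obj ⟶ Y.obj⟦i⟧) : g = 0 :=
  (LinearEquiv.map_eq_zero_iff (tr P F X Y i)).mp (h _)

lemma hom_zero (X Y : P.FullSubcategory) (h : ∀ g : X.obj ⟶ Y.obj, g = 0)
    (g : (F.obj X).obj ⟶ (F.obj Y).obj) : g = 0 :=
  (LinearEquiv.map_eq_zero_iff (tr0 P F X Y).symm).mp (h _)

lemma P_inD_quot (hP : IsDbCoh P) (m : Ideal A) : P (Dual.inD A (A ⧸ m)) := by
  rw [hP]
  refine ⟨fun i => LD.finite_HD_inD (A ⧸ m) i, 0, 0, fun i hi => ?_⟩
  rcases hi with h | h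
  · exact subsingleton_HD_of_isGE _ 0 i h
  · exact subsingleton_HD_of_isLE _ 0 i h

lemma pointlike (hP : IsDbCoh P) (m : Ideal A) [m.IsMaximal] (K' : P.FullSubcategory)
    (hk : P (Dual.inD A (A ⧸ m)))
    (eK : F.obj K' ≅ ⟨Dual.inD A (A ⧸ m), hk⟩) :
    ∃ n : ℤ, Nonempty (K'.obj ≅ (Dual.inD A (A ⧸ m))⟦n⟧) := by
  obtain ⟨hfin, hbdd⟩ := (hP K'.obj).mp K'.property
  have eK' : (F.obj K').obj ≅ Dual.inD A (A ⧸ m) := P.ι.mapIso eK
  refine PointLike.main m K'.obj hfin hbdd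
    (tr0 P F K' K' ≪≫ₗ Linear.homCongr A eK' eK' ≪≫ₗ endK m) ?_
  intro i hi φ
  refine sh_zero' P F K' K' i (fun ψ => ?_) φ
  have h0 := hom_k_neg m i hi (eK'.inv ≫ ψ ≫ eK'.hom⟦i⟧')
  have h1 : ψ = eK'.hom ≫ (eK'.inv ≫ ψ ≫ eK'.hom⟦i⟧') ≫ eK'.inv⟦i⟧' := by simp
  rw [h1, h0]
  simp

lemma fibre_vanish (hP : IsDbCoh P) (hA : P (DTen.unit A)) (m : Ideal A) [m.IsMaximal]
    (bL bU : ℤ) (iL : (F.obj ⟨DTen.unit A, hA⟩).obj.IsLE bL)
    (iU : (F.objPreimage ⟨DTen.unit A, hA⟩).obj.IsLE bU)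
    (i : ℤ) (hi : i < -bU ∨ bL < i)
    (f : (F.obj ⟨DTen.unit A, hA⟩).obj ⟶ (Dual.inD A (A ⧸ m))⟦-i⟧) : f = 0 := by
  rcases hi with hi | hi
  swap
  · exact TStructure.t.zero_of_isLE_of_isGE f bL i hi iL
      (TStructure.t.isGE_shift (Dual.inD A (A ⧸ m)) 0 (-i) i (by omega))
  have hk : P (Dual.inD A (A ⧸ m)) := P_inD_quot P hP m
  obtain ⟨n, ⟨eZ⟩⟩ := pointlike P F hP m (F.objPreimage ⟨_, hk⟩) hk (F.objObjPreimageIso ⟨_, hk⟩)
  have eK' : (F.obj (F.objPreimage ⟨Dual.inD A (A ⧸ m), hk⟩)).obj ≅ Dual.inD A (A ⧸ m) :=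
    P.ι.mapIso (F.objObjPreimageIso ⟨_, hk⟩)
  have eU' : (F.obj (F.objPreimage ⟨DTen.unit A, hA⟩)).obj ≅ DTen.unit A :=
    P.ι.mapIso (F.objObjPreimageIso ⟨_, hA⟩)
  haveI i1 : ((Dual.inD A (A ⧸ m))⟦n⟧).IsGE (-n) :=
    TStructure.t.isGE_shift (Dual.inD A (A ⧸ m)) 0 n (-n) (by omega)
  haveI i2 : ((Dual.inD A (A ⧸ m))⟦n⟧).IsLE (-n) :=
    TStructure.t.isLE_shift (Dual.inD A (A ⧸ m)) 0 n (-n) (by omega)
  haveI iZge : (F.objPreimage ⟨Dual.inD A (A ⧸ m), hk⟩).obj.IsGE (-n) :=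
    TStructure.t.isGE_of_iso eZ.symm (-n)
  haveI iZle : (F.objPreimage ⟨Dual.inD A (A ⧸ m), hk⟩).obj.IsLE (-n) :=
    TStructure.t.isLE_of_iso eZ.symm (-n)
  -- lower bound on `n`
  have hn : -bU ≤ n := by
    by_contra hlt
    have hz : ∀ g : (F.objPreimage ⟨DTen.unit A, hA⟩).obj ⟶
        (F.objPreimage ⟨Dual.inD A (A ⧸ m), hk⟩).obj, g = 0 :=
      fun g => TStructure.t.zero_of_isLE_of_isGE g bU (-n) (by omega) iU iZge
    have hz' := hom_zero P F _ _ hz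
    obtain ⟨g, hg⟩ := exists_unit_to_k_ne_zero m (Ideal.IsMaximal.ne_top inferInstance)
    apply hg
    have h0 := hz' (eU'.hom ≫ (InvEnd.unitIso A).inv ≫ g ≫ eK'.inv)
    have h1 : g = (InvEnd.unitIso A).hom ≫ eU'.inv ≫
        (eU'.hom ≫ (InvEnd.unitIso A).inv ≫ g ≫ eK'.inv) ≫ eK'.hom := by simp
    rw [h1, h0]
    simp
  haveI : Subsingleton (Dual.HD A (F.objPreimage ⟨Dual.inD A (A ⧸ m), hk⟩).obj (-i)) :=
    subsingleton_HD_of_isLE _ (-n) (-i) (by omega)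
  have h0 : f ≫ eK'.inv⟦-i⟧' = 0 :=
    sh_zero P F ⟨DTen.unit A, hA⟩ (F.objPreimage ⟨Dual.inD A (A ⧸ m), hk⟩) (-i)
      (fun g => (homUnitEquiv' _ (-i)).injective (Subsingleton.elim _ _)) _
  have h1 : f = (f ≫ eK'.inv⟦-i⟧') ≫ eK'.hom⟦-i⟧' := by simp
  rw [h1, h0]
  simp

theorem perfect [IsNoetherianRing A] (hP : IsDbCoh P) (hA : P (DTen.unit A)) :
    DRing.IsPerfect A (F.obj ⟨DTen.unit A, hA⟩).obj := by
  obtain ⟨hfinL, aL, bL, hbL⟩ := (hP _).mp (F.obj ⟨DTen.unit A, hA⟩).property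
  obtain ⟨hfinU, aU, bU, hbU⟩ := (hP _).mp (F.objPreimage ⟨DTen.unit A, hA⟩).property
  have iL : (F.obj ⟨DTen.unit A, hA⟩).obj.IsLE bL :=
    isLE_of_HD _ bL (fun i hi => hbL i (Or.inr hi))
  have iU : (F.objPreimage ⟨DTen.unit A, hA⟩).obj.IsLE bU :=
    isLE_of_HD _ bU (fun i hi => hbU i (Or.inr hi))
  refine PerfHom.main _ hfinL ⟨bL, fun i hi => hbL i (Or.inr hi)⟩ (-bU) bL ?_
  intro m hm i hi f
  haveI := hm
  exact fibre_vanish P F hP hA m bL bU iL iU i hi f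

end Sub

/-- **An `A`-linear shift-compatible autoequivalence of `D^b_coh(A)` sends `A` to an invertible
object.** -/
theorem main (A : Type u) [CommRing A] [IsNoetherianRing A] [DTen.HasLTen A]
    (P : ObjectProperty (Dual.D A)) (hP : IsDbCoh P) [P.IsTriangulated]
    (F : P.FullSubcategory ⥤ P.FullSubcategory) [F.CommShift ℤ] [F.IsEquivalence]
    [F.Additive] [F.Linear A] (hA : P (DTen.unit A)) :
    DTen.IsInvertible A (F.obj ⟨DTen.unit A, hA⟩).obj :=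
  InvEnd.main A _ (perfect P F hP hA)
    (end_scalar P F ⟨DTen.unit A, hA⟩ unit_end)
    (end_inj P F ⟨DTen.unit A, hA⟩ unit_inj)
    (fun n hn => sh_zero P F ⟨DTen.unit A, hA⟩ ⟨DTen.unit A, hA⟩ n (unit_van n hn))

end Groth.Agent.Helper6.AutEq
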