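import Groth.Agent.Helper6.WeierHyp

set_option autoImplicit false
set_option linter.style.haveILetI false

/-!
# Finiteness of the automorphism group in genus at least two
-/

namespace Groth.Agent.Helper6.AutFin

open FunFld LocRes
open Groth.Agent.Helper5 Groth.Agent.Helper5.Wr
open scoped IntermediateField

universe u v
variable {k : Type u} {K : Type v} [Field k] [Field K] [Algebra k K]

theorem finite_stabilizer (x : K) [FiniteDimensional k⟮x⟯ K] :
    {σ : K ≃ₐ[k] K | σ x = x}.Finite := by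
  haveI : Finite (K →ₐ[k⟮x⟯] K) := Fintype.finite (minpoly.AlgHom.fintype _ _ _)
  rw [← Set.finite_coe_iff]
  let G : {σ : K ≃ₐ[k] K | σ x = x} → (K →ₐ[k⟮x⟯] K) := fun σ =>
    { toRingHom := (σ.1 : K →+* K)
      commutes' := fun c => WeierHyp.apply_eq_of_mem_adjoin σ.1 σ.2 c.2 }
  apply Finite.of_injective G
  intro σ σ' h
  apply Subtype.ext
  ext z
  exact DFunLike.congr_fun h z

theorem comapPlace_trans (σ₀ σ : K ≃ₐ[k] K) (P : Place k K) :
    FF.comapPlace (σ₀.symm.trans σ) P = FF.comapPlace σ₀.symm (FF.comapPlace σ P) :=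
  FF.place_ext fun z => by
    rw [FF.comapPlace_val, FF.comapPlace_val, FF.comapPlace_val]
    rfl

theorem finite_aut [IsAlgClosed k] (hK : IsFunctionField k K) (hg : 1 < genus k K)
    (hp : ringChar k = 0 ∨ 2 * genus k K - 2 < ringChar k) : Finite (K ≃ₐ[k] K) := by
  classical
  have hgeo := FF.isGeometric_of_perfectField k K hK
  obtain ⟨s, hs, hsep⟩ := FF.exists_separating hK hgeo
  haveI := hsep
  haveI := FF.finiteDimensional_adjoin hK hs
  obtain ⟨H, hH⟩ := HasseBuild.exists_isHasseFamily s hs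
  obtain ⟨C, hC⟩ := FF.exists_isCanonical hK
  obtain ⟨n, hn⟩ : ∃ n, genus k K = n + 1 := ⟨genus k K - 1, by omega⟩
  have hfr : Module.finrank k (L C) = n + 1 := by
    have := (FF.ell_canonical hK hC).1
    unfold ell at this
    omega
  haveI : FiniteDimensional k (L C) := FF.finiteDimensional_L hK C
  let b := Module.finBasisOfFinrankEq k (L C) hfr
  let φ : Fin (n + 1) → K := fun i => (b i : K)
  have hφ : LinearIndependent k φ :=
    b.linearIndependent.map' (L C).subtype (Submodule.ker_subtype _)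
  have hspan : Submodule.span k (Set.range φ) = L C := by
    have h1 : Set.range φ = (L C).subtype '' Set.range b := by
      rw [← Set.range_comp]; rfl
    rw [h1, ← Submodule.map_span, b.span_eq, Submodule.map_top, Submodule.range_subtype]
  obtain ⟨J, hJ, -⟩ := exists_isOrders_det_ne_zero hK hH φ hφ (AlgHom.id k K)
  let Φ : Place k K → (K →ₐ[k] LaurentSeries k) := fun P =>
    Ex.Φ P (FF.deg_eq_one_of_isAlgClosed hK P) (Classical.choose_spec (FF.exists_uniformizer P))
  have hΦ : ∀ P : Place k K, IsExpansionAt P.1 (Φ P) := fun P => Ex.isExpansionAt_Φ P _ _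
  obtain ⟨hiff, hcard, hmaxgap⟩ := WeierPts.main hK hg hp C hC φ hφ hspan hH J hJ Φ hΦ
  obtain ⟨W, hW⟩ : ∃ W : Divisor k K, W = wDiv (AlgHom.id k K) H Φ s φ J := ⟨_, rfl⟩
  rw [← hW] at hiff hcard hmaxgap
  have hact : ∀ σ : K ≃ₐ[k] K, ∀ P ∈ W.support, FF.comapPlace σ P ∈ W.support := by
    intro σ P hP
    rw [Finsupp.mem_support_iff, hiff] at hP ⊢
    obtain ⟨m, hm, hmg⟩ := hP
    exact ⟨m, hm, (WeierHyp.isGap_comapPlace_iff σ P m).mpr hmg⟩
  let F : (K ≃ₐ[k] K) → (W.support → W.support) := fun σ P =>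
    ⟨FF.comapPlace σ P.1, hact σ P.1 P.2⟩
  have hN : {σ : K ≃ₐ[k] K | ∀ P ∈ W.support, FF.comapPlace σ P = P}.Finite := by
    rcases lt_or_eq_of_le hcard with hlt | heq
    · apply Set.Finite.subset (Set.finite_singleton 1)
      intro σ hσ
      rw [Set.mem_singleton_iff]
      apply FF.algEquiv_eq_one_of_fixed hK σ
      have hsub : (↑W.support : Set (Place k K)) ⊆
          {P | ∀ x : K, P.1 x < 1 → P.1 (σ x) < 1} := by
        intro P hP z hz
        rw [← FF.comapPlace_val, hσ P hP]; exact hz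
      refine lt_of_lt_of_le ?_ (Set.encard_le_encard hsub)
      rw [Set.encard_coe_eq_coe_finsetCard]
      exact_mod_cast hlt
    · have hne : W.support.Nonempty := by rw [← Finset.card_pos]; omega
      obtain ⟨P₀, hP₀⟩ := hne
      have hP₀' := Finsupp.mem_support_iff.mp hP₀
      have hdeg₀ := FF.deg_eq_one_of_isAlgClosed hK P₀
      obtain ⟨x, hx0, hxL, hxord, htr, hfr, hxspan⟩ :=
        WeierHyp.exists_hyper hK (by omega) P₀ hdeg₀ (hmaxgap heq.symm P₀ hP₀')
      haveI : FiniteDimensional k⟮x⟯ K := FF.finiteDimensional_adjoin hK htr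
      apply Set.Finite.subset (finite_stabilizer x)
      intro σ hσ
      have hcard' : 2 < (W.support.erase P₀).card := by
        rw [Finset.card_erase_of_mem hP₀]; omega
      obtain ⟨P₁, P₂, P₃, h1, h2, h3, h12, h13, h23⟩ := Finset.two_lt_card_iff.mp hcard'
      rw [Finset.mem_erase] at h1 h2 h3
      exact WeierHyp.sigma_x_eq hK σ P₀ hx0 hxL htr hfr hxspan (hσ P₀ hP₀)
        P₁ P₂ P₃ h12 h13 h23 h1.1 h2.1 h3.1 (hσ P₁ h1.2) (hσ P₂ h2.2) (hσ P₃ h3.2)
  rw [← Set.finite_univ_iff]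
  apply Set.Finite.of_finite_fibers F (Set.toFinite _)
  rintro f ⟨σ₀, -, rfl⟩
  apply Set.Finite.subset (hN.image (fun ν => σ₀.trans ν))
  rintro σ ⟨-, hσ⟩
  rw [Set.mem_preimage, Set.mem_singleton_iff] at hσ
  refine ⟨σ₀.symm.trans σ, ?_, ?_⟩
  · intro P hP
    rw [comapPlace_trans]
    have h1 : FF.comapPlace σ P = FF.comapPlace σ₀ P := by
      have := congrFun hσ ⟨P, hP⟩
      exact congrArg Subtype.val this
    rw [h1, FF.comapPlace_comapPlace_symm]
  · ext z
    show σ (σ₀.symm (σ₀ z)) = σ z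
    rw [σ₀.symm_apply_apply]

end Groth.Agent.Helper6.AutFin
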