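import Mathlib
import Groth.Prelude.Def_FibCat2
import Groth.Prelude.Def_AlgSt
import Groth.Agent.Helper3.EquivOver
import Groth.Agent.Helper3.TwoYoneda
import Groth.Agent.Helper3.FibGrpd

/-!
# Helper6: gluing morphisms of a prestack, in elementary terms
-/

set_option autoImplicit false
set_option linter.style.haveILetI false
set_option linter.unusedVariables false
universe v u

namespace Groth.Agent.Helper6.StkGlue
open CategoryTheory Functor FibCat Limits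
open Groth.Agent.Helper3

variable {C : Type u} [Category.{v} C]

theorem exists_factor {𝒯 : BasedCategory.{v, max u v} C} (h𝒯 : IsFibGrpd 𝒯.p) {W V : C} (f : W ⟶ V)
    {a b s : 𝒯.obj} (φ : a ⟶ b) (hφ : 𝒯.p.IsHomLift f φ) (m : s ⟶ b) (hm : 𝒯.p.IsHomLift f m) :
    ∃ μ : s ⟶ a, 𝒯.p.IsHomLift (𝟙 W) μ ∧ μ ≫ φ = m := by
  haveI := hφ
  haveI := hm
  haveI := FibGrpd.isStronglyCartesian h𝒯 f φ
  obtain ⟨μ, ⟨h1, h2⟩, -⟩ := IsStronglyCartesian.universal_property 𝒯.p f φ (𝟙 W) f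
    (Category.id_comp f).symm m
  exact ⟨μ, h1, h2⟩

theorem cart_ext {𝒯 : BasedCategory.{v, max u v} C} (h𝒯 : IsFibGrpd 𝒯.p) {W' W V : C} (f : W ⟶ V)
    (g : W' ⟶ W) {a b s : 𝒯.obj} (φ : a ⟶ b) (hφ : 𝒯.p.IsHomLift f φ) (μ μ' : s ⟶ a)
    (hμ : 𝒯.p.IsHomLift g μ) (hμ' : 𝒯.p.IsHomLift g μ') (h : μ ≫ φ = μ' ≫ φ) : μ = μ' := by
  haveI := hφ
  haveI := hμ
  haveI := hμ'
  haveI := FibGrpd.isStronglyCartesian h𝒯 f φ
  exact IsStronglyCartesian.ext 𝒯.p f φ g h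

/-- Gluing morphisms: in a category fibred in groupoids for which restriction to the sieve `R` is full,
a locally defined, locally unique, restriction-stable family of morphisms `s ⟶ t'` (for `s ⟶ t` over
members of `R`) comes from a morphism `t ⟶ t'`. -/
theorem exists_hom_of_locally {𝒯 : BasedCategory.{v, max u v} C} (h𝒯 : IsFibGrpd 𝒯.p) {V : C}
    (R : Sieve V) [hR : (Stk.resSieve R 𝒯).Full] {t t' : 𝒯.obj} (ht : 𝒯.p.obj t = V)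
    (ht' : 𝒯.p.obj t' = V)
    (P : ∀ (s : 𝒯.obj), (s ⟶ t) → (s ⟶ t') → Prop)
    (hex : ∀ ⦃W : C⦄ (f : W ⟶ V), R f → ∀ (s : 𝒯.obj) (ψ : s ⟶ t), 𝒯.p.IsHomLift f ψ →
      ∃ m : s ⟶ t', 𝒯.p.IsHomLift f m ∧ P s ψ m)
    (huniq : ∀ ⦃W : C⦄ (f : W ⟶ V), R f → ∀ (s : 𝒯.obj) (ψ : s ⟶ t) (m m' : s ⟶ t'),
      𝒯.p.IsHomLift f ψ → 𝒯.p.IsHomLift f m → 𝒯.p.IsHomLift f m' → P s ψ m → P s ψ m' → m = m')
    (hstab : ∀ (s s' : 𝒯.obj) (χ : s' ⟶ s) (ψ : s ⟶ t) (m : s ⟶ t'), P s ψ m →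
      P s' (χ ≫ ψ) (χ ≫ m)) :
    ∃ γ : t ⟶ t', 𝒯.p.IsHomLift (𝟙 V) γ ∧
      ∀ ⦃W : C⦄ (f : W ⟶ V), R f → ∀ (s : 𝒯.obj) (ψ : s ⟶ t), 𝒯.p.IsHomLift f ψ →
        P s ψ (ψ ≫ γ) := by
  haveI := TwoYoneda.evalAtId_isEquivalence_of_isFibGrpd (𝒳 := 𝒯) V h𝒯
  obtain ⟨T, ⟨ε⟩⟩ := Functor.EssSurj.mem_essImage (F := FibCat.evalAtId 𝒯 V)
    (⟨t, ht⟩ : 𝒯.p.Fiber V)
  obtain ⟨T', ⟨ε'⟩⟩ := Functor.EssSurj.mem_essImage (F := FibCat.evalAtId 𝒯 V)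
    (⟨t', ht'⟩ : 𝒯.p.Fiber V)
  let e₁ : T.obj (Over.mk (𝟙 V)) ⟶ t := ε.hom.1
  let e₁i : t ⟶ T.obj (Over.mk (𝟙 V)) := ε.inv.1
  let e₂ : T'.obj (Over.mk (𝟙 V)) ⟶ t' := ε'.hom.1
  have he₁ : 𝒯.p.IsHomLift (𝟙 V) e₁ := ε.hom.2
  have he₁i : 𝒯.p.IsHomLift (𝟙 V) e₁i := ε.inv.2
  have he₂ : 𝒯.p.IsHomLift (𝟙 V) e₂ := ε'.hom.2
  have hie : e₁i ≫ e₁ = 𝟙 t := congrArg Subtype.val ε.inv_hom_id
  have hei : e₁ ≫ e₁i = 𝟙 _ := congrArg Subtype.val ε.hom_inv_id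
  let tX : ∀ X : Over V, X ⟶ Over.mk (𝟙 V) := fun X => Over.homMk X.hom (by simp)
  have htX : ∀ {X Y : Over V} (k : X ⟶ Y), k ≫ tX Y = tX X := by
    intro X Y k
    ext
    simp [tX]
  have hl0 : ∀ X : Over V, (FibCat.overCat V).p.IsHomLift X.hom (tX X) := fun X =>
    Functor.IsHomLift.map (p := (FibCat.overCat V).p) (tX X)
  have hl1 : ∀ X : Over V, 𝒯.p.IsHomLift X.hom (T.map (tX X)) := fun X =>
    @BasedFunctor.preserves_isHomLift _ _ _ _ T _ _ _ _ X.hom (tX X) (hl0 X)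
  have hl1' : ∀ X : Over V, 𝒯.p.IsHomLift X.hom (T'.map (tX X)) := fun X =>
    @BasedFunctor.preserves_isHomLift _ _ _ _ T' _ _ _ _ X.hom (tX X) (hl0 X)
  have hψ : ∀ X : Over V, 𝒯.p.IsHomLift X.hom (T.map (tX X) ≫ e₁) := fun X =>
    @IsHomLift.comp_lift_id_right _ _ _ _ 𝒯.p _ _ _ _ _ X.hom (T.map (tX X)) (hl1 X) e₁ he₁
  have hψ' : ∀ X : Over V, 𝒯.p.IsHomLift X.hom (T'.map (tX X) ≫ e₂) := fun X =>
    @IsHomLift.comp_lift_id_right _ _ _ _ 𝒯.p _ _ _ _ _ X.hom (T'.map (tX X)) (hl1' X) e₂ he₂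
  -- the local morphisms
  have hm : ∀ a : R.arrows.category, ∃ m : T.obj a.obj ⟶ t', 𝒯.p.IsHomLift a.obj.hom m ∧
      P (T.obj a.obj) (T.map (tX a.obj) ≫ e₁) m := fun a =>
    hex a.obj.hom a.property _ _ (hψ a.obj)
  choose mA hmA1 hmA2 using hm
  have hμ : ∀ a : R.arrows.category, ∃ μ : T.obj a.obj ⟶ T'.obj a.obj,
      𝒯.p.IsHomLift (𝟙 a.obj.left) μ ∧ μ ≫ (T'.map (tX a.obj) ≫ e₂) = mA a := fun a =>
    exists_factor h𝒯 a.obj.hom _ (hψ' a.obj) (mA a) (hmA1 a)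
  choose μ hμ1 hμ2 using hμ
  have hmk : ∀ {a b : R.arrows.category} (k : a ⟶ b), T.map k.hom ≫ mA b = mA a := by
    intro a b k
    have hk0 : (FibCat.overCat V).p.IsHomLift k.hom.left k.hom :=
      Functor.IsHomLift.map (p := (FibCat.overCat V).p) k.hom
    have hk1 : 𝒯.p.IsHomLift k.hom.left (T.map k.hom) :=
      @BasedFunctor.preserves_isHomLift _ _ _ _ T _ _ _ _ k.hom.left k.hom hk0
    have hcomp : 𝒯.p.IsHomLift a.obj.hom (T.map k.hom ≫ mA b) := by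
      have := @IsHomLift.comp _ _ _ _ 𝒯.p _ _ _ _ _ _ k.hom.left b.obj.hom (T.map k.hom) (mA b)
        hk1 (hmA1 b)
      rwa [Over.w] at this
    refine huniq a.obj.hom a.property _ (T.map (tX a.obj) ≫ e₁) _ _ (hψ a.obj) hcomp (hmA1 a) ?_
      (hmA2 a)
    have e1 : T.map k.hom ≫ T.map (tX b.obj) ≫ e₁ = T.map (tX a.obj) ≫ e₁ := by
      rw [← Category.assoc, ← T.map_comp]
      exact congrArg (fun z => T.map z ≫ e₁) (htX k.hom)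
    have := hstab _ _ (T.map k.hom) _ _ (hmA2 b)
    rw [e1] at this
    exact this
  let μN : (Stk.resSieve R 𝒯).obj T ⟶ (Stk.resSieve R 𝒯).obj T' :=
    { app := fun a => μ a
      naturality := by
        intro a b k
        change T.map k.hom ≫ μ b = μ a ≫ T'.map k.hom
        have hk0 : (FibCat.overCat V).p.IsHomLift k.hom.left k.hom :=
          Functor.IsHomLift.map (p := (FibCat.overCat V).p) k.hom
        have hk1 : 𝒯.p.IsHomLift k.hom.left (T.map k.hom) :=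
          @BasedFunctor.preserves_isHomLift _ _ _ _ T _ _ _ _ k.hom.left k.hom hk0
        have hk1' : 𝒯.p.IsHomLift k.hom.left (T'.map k.hom) :=
          @BasedFunctor.preserves_isHomLift _ _ _ _ T' _ _ _ _ k.hom.left k.hom hk0
        have hL : 𝒯.p.IsHomLift k.hom.left (T.map k.hom ≫ μ b) :=
          @IsHomLift.comp_lift_id_right _ _ _ _ 𝒯.p _ _ _ _ _ k.hom.left (T.map k.hom) hk1 (μ b)
            (hμ1 b)
        have hR' : 𝒯.p.IsHomLift k.hom.left (μ a ≫ T'.map k.hom) :=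
          @IsHomLift.comp_lift_id_left _ _ _ _ 𝒯.p _ _ _ _ _ k.hom.left (T'.map k.hom) hk1' (μ a)
            (hμ1 a)
        refine cart_ext h𝒯 b.obj.hom k.hom.left (T'.map (tX b.obj) ≫ e₂) (hψ' b.obj) _ _ hL hR' ?_
        have e1 : T'.map k.hom ≫ T'.map (tX b.obj) ≫ e₂ = T'.map (tX a.obj) ≫ e₂ := by
          rw [← Category.assoc, ← T'.map_comp]
          exact congrArg (fun z => T'.map z ≫ e₂) (htX k.hom)
        rw [Category.assoc, hμ2 b, hmk k, Category.assoc, e1, hμ2 a]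
      isHomLift' := fun a => hμ1 a }
  obtain ⟨Γ, hΓ⟩ := (Stk.resSieve R 𝒯).map_surjective μN
  have hΓa : ∀ a : R.arrows.category, Γ.toNatTrans.app a.obj = μ a := fun a =>
    congrArg (fun ν : (Stk.resSieve R 𝒯).obj T ⟶ (Stk.resSieve R 𝒯).obj T' => ν.toNatTrans.app a) hΓ
  have hΓl : 𝒯.p.IsHomLift (𝟙 V) (Γ.toNatTrans.app (Over.mk (𝟙 V))) :=
    Γ.isHomLift' (Over.mk (𝟙 V))
  refine ⟨e₁i ≫ Γ.toNatTrans.app (Over.mk (𝟙 V)) ≫ e₂, ?_, ?_⟩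
  · have h1 : 𝒯.p.IsHomLift (𝟙 V) (Γ.toNatTrans.app (Over.mk (𝟙 V)) ≫ e₂) :=
      @IsHomLift.comp_of_lift_id _ _ _ _ 𝒯.p V _ _ _ _ e₂ hΓl he₂
    exact @IsHomLift.comp_of_lift_id _ _ _ _ 𝒯.p V _ _ _ e₁i _ he₁i h1
  · intro W f hf s ψ hψs
    let a : R.arrows.category := ⟨Over.mk f, hf⟩
    obtain ⟨ψ', hψ'1, hψ'2⟩ := exists_factor h𝒯 f (T.map (tX a.obj) ≫ e₁) (hψ a.obj) ψ hψs
    have key : ψ ≫ e₁i ≫ Γ.toNatTrans.app (Over.mk (𝟙 V)) ≫ e₂ = ψ' ≫ mA a := by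
      rw [← hψ'2]
      have n1 := Γ.toNatTrans.naturality (tX a.obj)
      calc (ψ' ≫ T.map (tX a.obj) ≫ e₁) ≫ e₁i ≫ Γ.toNatTrans.app (Over.mk (𝟙 V)) ≫ e₂
          = ψ' ≫ T.map (tX a.obj) ≫ (e₁ ≫ e₁i) ≫ Γ.toNatTrans.app (Over.mk (𝟙 V)) ≫ e₂ := by
            simp only [Category.assoc]
        _ = ψ' ≫ (T.map (tX a.obj) ≫ Γ.toNatTrans.app (Over.mk (𝟙 V))) ≫ e₂ := by
            rw [hei, Category.id_comp, Category.assoc]
        _ = ψ' ≫ (Γ.toNatTrans.app a.obj ≫ T'.map (tX a.obj)) ≫ e₂ := by rw [← n1]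
        _ = ψ' ≫ μ a ≫ T'.map (tX a.obj) ≫ e₂ := by rw [hΓa a, Category.assoc]
        _ = ψ' ≫ mA a := by rw [hμ2 a]
    rw [key]
    have := hstab _ _ ψ' _ _ (hmA2 a)
    rwa [hψ'2] at this

end Groth.Agent.Helper6.StkGlue
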