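import Mathlib
import Groth.Agent.Helper6.StkGlue
import Groth.Agent.Helper6.StkLocal
import Groth.Prelude.Def_StGerb
import Groth.Prelude.Def_StGerb2

/-!
# Helper6: an endofunctor of a gerbe which is "conjugation-trivial" at a global object is
fibrewise naturally isomorphic to the identity
-/

set_option autoImplicit false
set_option linter.style.haveILetI false
set_option linter.unusedVariables false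
universe v u

namespace Groth.Agent.Helper6.GerbNat
open CategoryTheory Functor FibCat Limits
open Groth.Agent.Helper3 Groth.Agent.Helper6.StkGlue

variable {C : Type u} [Category.{v} C]

theorem exists_factor' {𝒯 : BasedCategory.{v, max u v} C} (h𝒯 : IsFibGrpd 𝒯.p) {W' W V : C}
    (f : W ⟶ V) (k : W' ⟶ W) {a b s : 𝒯.obj} (φ : a ⟶ b) (hφ : 𝒯.p.IsHomLift f φ) (m : s ⟶ b)
    (hm : 𝒯.p.IsHomLift (k ≫ f) m) :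
    ∃ μ : s ⟶ a, 𝒯.p.IsHomLift k μ ∧ μ ≫ φ = m := by
  haveI := hφ
  haveI := hm
  haveI := FibGrpd.isStronglyCartesian h𝒯 f φ
  obtain ⟨μ, ⟨h1, h2⟩, -⟩ := IsStronglyCartesian.universal_property 𝒯.p f φ k (k ≫ f) rfl m
  exact ⟨μ, h1, h2⟩

/-- the base morphism is determined by the lift -/
theorem base_eq {𝒯 : BasedCategory.{v, max u v} C} {W V : C} (f f' : W ⟶ V) {a b : 𝒯.obj}
    (m m' : a ⟶ b) (h : m = m') (hm : 𝒯.p.IsHomLift f m) (hm' : 𝒯.p.IsHomLift f' m') : f = f' := by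
  subst h
  have e0 := IsHomLift.fac 𝒯.p f m
  have e1 := IsHomLift.fac 𝒯.p f' m
  rw [e0, e1]

section

variable {𝒳 : BasedCategory.{v, max u v} C} (hfg : IsFibGrpd 𝒳.p) (φ : 𝒳 ⥤ᵇ 𝒳) (x : 𝒳.obj)
  (hterm : ∀ (T : C) (h₁ h₂ : T ⟶ 𝒳.p.obj x), h₁ = h₂)
  (g : φ.obj x ⟶ x) (hg : 𝒳.p.IsHomLift (𝟙 (𝒳.p.obj x)) g)
  (hconj : ∀ (x' : 𝒳.obj) (c : x' ⟶ x) (g' : φ.obj x' ⟶ x'), 𝒳.p.IsHomLift (𝟙 (𝒳.p.obj x')) g' →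
      φ.map c ≫ g = g' ≫ c → ∀ α : Gerb.AutO x', φ.map α.hom.1 ≫ g' = g' ≫ α.hom.1)

/-- `γ` is the restriction of `g` to `w` along `c`. -/
def Gc (w : 𝒳.obj) (c : w ⟶ x) (γ : φ.obj w ⟶ w) : Prop :=
  𝒳.p.IsHomLift (𝟙 (𝒳.p.obj w)) γ ∧ φ.map c ≫ g = γ ≫ c

include hfg hg in
theorem exists_gc (w : 𝒳.obj) (c : w ⟶ x) : ∃ γ, Gc φ x g w c γ := by
  have hc : 𝒳.p.IsHomLift (𝒳.p.map c) c := inferInstance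
  have hφc : 𝒳.p.IsHomLift (𝒳.p.map c) (φ.map c) :=
    @BasedFunctor.preserves_isHomLift _ _ _ _ φ _ _ _ _ (𝒳.p.map c) c hc
  have hm : 𝒳.p.IsHomLift (𝒳.p.map c) (φ.map c ≫ g) :=
    @IsHomLift.comp_lift_id_right _ _ _ _ 𝒳.p _ _ _ _ _ (𝒳.p.map c) (φ.map c) hφc g hg
  obtain ⟨γ, h1, h2⟩ := exists_factor hfg (𝒳.p.map c) c hc (φ.map c ≫ g) hm
  exact ⟨γ, h1, h2.symm⟩

include hfg hterm hconj in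
theorem gc_unique (w : 𝒳.obj) (c c₁ : w ⟶ x) (γ γ₁ : φ.obj w ⟶ w) (h : Gc φ x g w c γ)
    (h₁ : Gc φ x g w c₁ γ₁) : γ = γ₁ := by
  have hc : 𝒳.p.IsHomLift (𝒳.p.map c) c := inferInstance
  have hc₁ : 𝒳.p.IsHomLift (𝒳.p.map c) c₁ := by
    rw [hterm _ (𝒳.p.map c) (𝒳.p.map c₁)]
    infer_instance
  obtain ⟨α, hα1, hα2⟩ := exists_factor hfg (𝒳.p.map c) c hc c₁ hc₁
  haveI := hα1
  haveI : IsIso α := FibGrpd.isIso_of_lift_id hfg (U := 𝒳.p.obj w) α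
  haveI := FibGrpd.isGroupoid_fiber hfg (𝒳.p.obj w)
  let αf : Gerb.fib w ⟶ Gerb.fib w := ⟨α, hα1⟩
  let αA : Gerb.AutO w := asIso αf
  have hcj : φ.map α ≫ γ = γ ≫ α := hconj w c γ h.1 h.2 αA
  have hγ₁ := h₁.2
  rw [← hα2, φ.toFunctor.map_comp, Category.assoc, h.2, ← Category.assoc, hcj, Category.assoc,
    ← Category.assoc γ₁] at hγ₁
  have hl : 𝒳.p.IsHomLift (𝟙 (𝒳.p.obj w)) (γ ≫ α) :=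
    @IsHomLift.comp_of_lift_id _ _ _ _ 𝒳.p (𝒳.p.obj w) _ _ _ γ α h.1 hα1
  have hl₁ : 𝒳.p.IsHomLift (𝟙 (𝒳.p.obj w)) (γ₁ ≫ α) :=
    @IsHomLift.comp_of_lift_id _ _ _ _ 𝒳.p (𝒳.p.obj w) _ _ _ γ₁ α h₁.1 hα1
  have := cart_ext hfg (𝒳.p.map c) (𝟙 (𝒳.p.obj w)) c hc _ _ hl hl₁
    ((Category.assoc _ _ _).trans hγ₁)
  exact (cancel_mono α).1 this

include hfg hterm hg hconj in
theorem gc_natural {w' w : 𝒳.obj} (b : w' ⟶ w) (c : w ⟶ x) (c' : w' ⟶ x) (γ : φ.obj w ⟶ w)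
    (γ' : φ.obj w' ⟶ w') (h : Gc φ x g w c γ) (h' : Gc φ x g w' c' γ') :
    γ' ≫ b = φ.map b ≫ γ := by
  obtain ⟨γ'', h''⟩ := exists_gc hfg φ x g hg w' (b ≫ c)
  have e := gc_unique hfg φ x hterm g hconj w' c' (b ≫ c) γ' γ'' h' h''
  subst e
  have hc : 𝒳.p.IsHomLift (𝒳.p.map c) c := inferInstance
  have hb : 𝒳.p.IsHomLift (𝒳.p.map b) b := inferInstance
  have hφb : 𝒳.p.IsHomLift (𝒳.p.map b) (φ.map b) :=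
    @BasedFunctor.preserves_isHomLift _ _ _ _ φ _ _ _ _ (𝒳.p.map b) b hb
  have hL : 𝒳.p.IsHomLift (𝒳.p.map b) (γ' ≫ b) :=
    @IsHomLift.comp_lift_id_left _ _ _ _ 𝒳.p _ _ _ _ _ (𝒳.p.map b) b hb γ' h''.1
  have hR : 𝒳.p.IsHomLift (𝒳.p.map b) (φ.map b ≫ γ) :=
    @IsHomLift.comp_lift_id_right _ _ _ _ 𝒳.p _ _ _ _ _ (𝒳.p.map b) (φ.map b) hφb γ h.1
  refine cart_ext hfg (𝒳.p.map c) (𝒳.p.map b) c hc _ _ hL hR ?_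
  rw [Category.assoc, ← h''.2, φ.toFunctor.map_comp, Category.assoc, Category.assoc, h.2]

include hfg hterm hg hconj in
/-- independence of the trivialisation -/
theorem il {y s w w₁ : 𝒳.obj} (a : w ⟶ y) (c : w ⟶ x) (γ : φ.obj w ⟶ w) (ψ₀ : s ⟶ φ.obj w)
    (a₁ : w₁ ⟶ y) (c₁ : w₁ ⟶ x) (γ₁ : φ.obj w₁ ⟶ w₁) (ψ₁ : s ⟶ φ.obj w₁)
    (h : Gc φ x g w c γ) (h₁ : Gc φ x g w₁ c₁ γ₁) (hψ : ψ₀ ≫ φ.map a = ψ₁ ≫ φ.map a₁) :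
    ψ₀ ≫ γ ≫ a = ψ₁ ≫ γ₁ ≫ a₁ := by
  let u₀ : 𝒳.p.obj s ⟶ 𝒳.p.obj w := 𝒳.p.map ψ₀ ≫ eqToHom (φ.w_obj w)
  let u₁ : 𝒳.p.obj s ⟶ 𝒳.p.obj w₁ := 𝒳.p.map ψ₁ ≫ eqToHom (φ.w_obj w₁)
  have hψ₀ : 𝒳.p.IsHomLift u₀ ψ₀ := inferInstance
  have hψ₁ : 𝒳.p.IsHomLift u₁ ψ₁ := inferInstance
  obtain ⟨w₂, b, hb⟩ := FibGrpd.exists_lift' hfg (rfl : 𝒳.p.obj w = 𝒳.p.obj w) u₀
  have hφb : 𝒳.p.IsHomLift u₀ (φ.map b) :=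
    @BasedFunctor.preserves_isHomLift _ _ _ _ φ _ _ _ _ u₀ b hb
  obtain ⟨ψ₀', hψ₀'1, hψ₀'2⟩ := exists_factor hfg u₀ (φ.map b) hφb ψ₀ hψ₀
  have ha : 𝒳.p.IsHomLift (𝒳.p.map a) a := inferInstance
  have ha₁ : 𝒳.p.IsHomLift (𝒳.p.map a₁) a₁ := inferInstance
  have hφa : 𝒳.p.IsHomLift (𝒳.p.map a) (φ.map a) :=
    @BasedFunctor.preserves_isHomLift _ _ _ _ φ _ _ _ _ _ a ha
  have hφa₁ : 𝒳.p.IsHomLift (𝒳.p.map a₁) (φ.map a₁) :=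
    @BasedFunctor.preserves_isHomLift _ _ _ _ φ _ _ _ _ _ a₁ ha₁
  have hb0 : 𝒳.p.IsHomLift (u₀ ≫ 𝒳.p.map a) (ψ₀ ≫ φ.map a) :=
    @IsHomLift.comp _ _ _ _ 𝒳.p _ _ _ _ _ _ u₀ (𝒳.p.map a) ψ₀ (φ.map a) hψ₀ hφa
  have hb1 : 𝒳.p.IsHomLift (u₁ ≫ 𝒳.p.map a₁) (ψ₁ ≫ φ.map a₁) :=
    @IsHomLift.comp _ _ _ _ 𝒳.p _ _ _ _ _ _ u₁ (𝒳.p.map a₁) ψ₁ (φ.map a₁) hψ₁ hφa₁
  have hbase : u₀ ≫ 𝒳.p.map a = u₁ ≫ 𝒳.p.map a₁ := base_eq _ _ _ _ hψ hb0 hb1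
  have hba : 𝒳.p.IsHomLift (u₁ ≫ 𝒳.p.map a₁) (b ≫ a) := by
    rw [← hbase]
    exact @IsHomLift.comp _ _ _ _ 𝒳.p _ _ _ _ _ _ u₀ (𝒳.p.map a) b a hb ha
  obtain ⟨θ, hθ1, hθ2⟩ := exists_factor' hfg (𝒳.p.map a₁) u₁ a₁ ha₁ (b ≫ a) hba
  have hφθ : 𝒳.p.IsHomLift u₁ (φ.map θ) :=
    @BasedFunctor.preserves_isHomLift _ _ _ _ φ _ _ _ _ u₁ θ hθ1
  have hL : 𝒳.p.IsHomLift u₁ (ψ₀' ≫ φ.map θ) :=
    @IsHomLift.comp_lift_id_left _ _ _ _ 𝒳.p _ _ _ _ _ u₁ (φ.map θ) hφθ ψ₀' hψ₀'1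
  have e1 : ψ₀' ≫ φ.map θ = ψ₁ := by
    refine cart_ext hfg (𝒳.p.map a₁) u₁ (φ.map a₁) hφa₁ _ _ hL hψ₁ ?_
    rw [Category.assoc, ← φ.toFunctor.map_comp, hθ2, φ.toFunctor.map_comp, ← Category.assoc,
      hψ₀'2, hψ]
  obtain ⟨γ₂, h₂⟩ := exists_gc hfg φ x g hg w₂ (b ≫ c)
  have n1 : γ₂ ≫ θ = φ.map θ ≫ γ₁ := gc_natural hfg φ x hterm g hg hconj θ c₁ (b ≫ c) γ₁ γ₂ h₁ h₂
  have n0 : γ₂ ≫ b = φ.map b ≫ γ := gc_natural hfg φ x hterm g hg hconj b c (b ≫ c) γ γ₂ h h₂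
  calc ψ₀ ≫ γ ≫ a = ψ₀' ≫ (φ.map b ≫ γ) ≫ a := by rw [← hψ₀'2]; simp only [Category.assoc]
    _ = ψ₀' ≫ γ₂ ≫ b ≫ a := by rw [← n0]; simp only [Category.assoc]
    _ = ψ₀' ≫ (γ₂ ≫ θ) ≫ a₁ := by rw [← hθ2]; simp only [Category.assoc]
    _ = (ψ₀' ≫ φ.map θ) ≫ γ₁ ≫ a₁ := by rw [n1]; simp only [Category.assoc]
    _ = ψ₁ ≫ γ₁ ≫ a₁ := by rw [e1]

/-- the sieve of arrows over which `y` becomes isomorphic to a pullback of `x` -/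
def Rt (V : C) (y : 𝒳.obj) : Sieve V where
  arrows W f := ∃ (w : 𝒳.obj) (a : w ⟶ y) (c : w ⟶ x), 𝒳.p.IsHomLift f a
  downward_closed := by
    rintro W W' f ⟨w, a, c, ha⟩ k
    have hw : 𝒳.p.obj w = W := IsHomLift.domain_eq 𝒳.p f a
    obtain ⟨w', b, hb⟩ := FibGrpd.exists_lift' hfg hw k
    exact ⟨w', b ≫ a, b ≫ c, @IsHomLift.comp _ _ _ _ 𝒳.p _ _ _ _ _ _ k f b a hb ha⟩


include hfg hg in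
theorem exists_triv {V W : C} {y : 𝒳.obj} (f : W ⟶ V) (hf : Rt hfg x V y f) {s : 𝒳.obj}
    (ψ : s ⟶ φ.obj y) (hψ : 𝒳.p.IsHomLift f ψ) :
    ∃ (w : 𝒳.obj) (a : w ⟶ y) (c : w ⟶ x) (γ : φ.obj w ⟶ w) (ψ₀ : s ⟶ φ.obj w),
      Gc φ x g w c γ ∧ 𝒳.p.IsHomLift f a ∧ 𝒳.p.IsHomLift (𝟙 W) ψ₀ ∧ ψ₀ ≫ φ.map a = ψ := by
  obtain ⟨w, a, c, ha⟩ := hf
  obtain ⟨γ, hγ⟩ := exists_gc hfg φ x g hg w c
  have hφa : 𝒳.p.IsHomLift f (φ.map a) :=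
    @BasedFunctor.preserves_isHomLift _ _ _ _ φ _ _ _ _ f a ha
  obtain ⟨ψ₀, h1, h2⟩ := exists_factor hfg f (φ.map a) hφa ψ hψ
  exact ⟨w, a, c, γ, ψ₀, hγ, ha, h1, h2⟩

/-- the local description of the morphism `φ y ⟶ y` -/
def P (y s : 𝒳.obj) (ψ : s ⟶ φ.obj y) (m : s ⟶ y) : Prop :=
  ∀ (s' : 𝒳.obj) (χ : s' ⟶ s) (w : 𝒳.obj) (a : w ⟶ y) (c : w ⟶ x) (γ : φ.obj w ⟶ w)
    (ψ₀ : s' ⟶ φ.obj w), Gc φ x g w c γ → ψ₀ ≫ φ.map a = χ ≫ ψ → χ ≫ m = ψ₀ ≫ γ ≫ a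

include hterm hg hconj in
theorem main (J : GrothendieckTopology C) (hst : Stk.IsStack J 𝒳)
    (hcov : ∀ y : 𝒳.obj, Rt hfg x (𝒳.p.obj y) y ∈ J (𝒳.p.obj y)) :
    ∃ ρ : ∀ y : 𝒳.obj, φ.obj y ⟶ y,
      (∀ y, IsIso (ρ y) ∧ 𝒳.p.IsHomLift (𝟙 (𝒳.p.obj y)) (ρ y)) ∧
      (∀ (y y' : 𝒳.obj) (f : y ⟶ y'), 𝒳.p.IsHomLift (𝟙 (𝒳.p.obj y)) f →
        φ.map f ≫ ρ y' = ρ y ≫ f) := by
  have key : ∀ y : 𝒳.obj, ∃ γ : φ.obj y ⟶ y, 𝒳.p.IsHomLift (𝟙 (𝒳.p.obj y)) γ ∧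
      ∀ ⦃W : C⦄ (f : W ⟶ 𝒳.p.obj y), Rt hfg x (𝒳.p.obj y) y f → ∀ (s : 𝒳.obj) (ψ : s ⟶ φ.obj y),
        𝒳.p.IsHomLift f ψ → P φ x g y s ψ (ψ ≫ γ) := by
    intro y
    haveI : (Stk.resSieve (Rt hfg x (𝒳.p.obj y) y) 𝒳).IsEquivalence := hst.2 _ (hcov y)
    refine exists_hom_of_locally hfg (Rt hfg x (𝒳.p.obj y) y) (φ.w_obj y) rfl (P φ x g y)
      ?_ ?_ ?_
    · intro W f hf s ψ hψ
      obtain ⟨w, a, c, γ, ψ₀, hγ, ha, hψ₀, e⟩ := exists_triv hfg φ x g hg f hf ψ hψ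
      refine ⟨ψ₀ ≫ γ ≫ a, ?_, ?_⟩
      · have h1 : 𝒳.p.IsHomLift f (γ ≫ a) :=
          @IsHomLift.comp_lift_id_left' _ _ _ _ 𝒳.p _ _ _ (𝒳.p.obj w) γ hγ.1 _ _ f a ha
        exact @IsHomLift.comp_lift_id_left' _ _ _ _ 𝒳.p _ _ _ W ψ₀ hψ₀ _ _ f (γ ≫ a) h1
      · intro s' χ w₁ a₁ c₁ γ₁ ψ₁ h₁ e₁
        have := il hfg φ x hterm g hg hconj a c γ (χ ≫ ψ₀) a₁ c₁ γ₁ ψ₁ hγ h₁
          (by rw [Category.assoc, e, e₁])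
        rw [← this]
        simp only [Category.assoc]
    · intro W f hf s ψ m m' hψ hm hm' hP hP'
      obtain ⟨w, a, c, γ, ψ₀, hγ, ha, hψ₀, e⟩ := exists_triv hfg φ x g hg f hf ψ hψ
      have e1 := hP s (𝟙 s) w a c γ ψ₀ hγ (by rw [e, Category.id_comp])
      have e2 := hP' s (𝟙 s) w a c γ ψ₀ hγ (by rw [e, Category.id_comp])
      rw [Category.id_comp] at e1 e2
      rw [e1, e2]
    · intro s s' χ ψ m hP s'' χ' w a c γ ψ₀ hγ e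
      have := hP s'' (χ' ≫ χ) w a c γ ψ₀ hγ (by rw [e, Category.assoc])
      rw [← this]
      simp only [Category.assoc]
  choose ρ hρ1 hρ2 using key
  refine ⟨ρ, fun y => ⟨?_, hρ1 y⟩, ?_⟩
  · haveI := hρ1 y
    exact FibGrpd.isIso_of_lift_id hfg (U := 𝒳.p.obj y) (ρ y)
  · intro y y' f hf
    have hy' : 𝒳.p.obj y' = 𝒳.p.obj y := IsHomLift.codomain_eq 𝒳.p (𝟙 (𝒳.p.obj y)) f
    haveI : (Stk.resSieve (Rt hfg x (𝒳.p.obj y) y) 𝒳).IsEquivalence := hst.2 _ (hcov y)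
    have hφf : 𝒳.p.IsHomLift (𝟙 (𝒳.p.obj y)) (φ.map f) :=
      @BasedFunctor.preserves_isHomLift _ _ _ _ φ _ _ _ _ _ f hf
    have hγ : 𝒳.p.IsHomLift (𝟙 (𝒳.p.obj y)) (φ.map f ≫ ρ y') :=
      @IsHomLift.comp_lift_id_right' _ _ _ _ 𝒳.p _ _ _ _ _ (𝟙 (𝒳.p.obj y)) (φ.map f) hφf
        (𝒳.p.obj y') (ρ y') (hρ1 y')
    have hδ : 𝒳.p.IsHomLift (𝟙 (𝒳.p.obj y)) (ρ y ≫ f) :=
      @IsHomLift.comp_of_lift_id _ _ _ _ 𝒳.p (𝒳.p.obj y) _ _ _ (ρ y) f (hρ1 y) hf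
    refine @Groth.Agent.Helper6.StkLocal.hom_ext_of_locally _ _ 𝒳 hfg (𝒳.p.obj y)
      (Rt hfg x (𝒳.p.obj y) y) inferInstance _ _ (φ.w_obj y) _ _ hγ hδ ?_
    intro W f₀ hf₀ s ψ hψ
    obtain ⟨w, a, c, γ, ψ₀, hγw, ha, hψ₀, e⟩ := exists_triv hfg φ x g hg f₀ hf₀ ψ hψ
    have A := hρ2 y f₀ hf₀ s ψ hψ s (𝟙 s) w a c γ ψ₀ hγw (by rw [e, Category.id_comp])
    have haf : 𝒳.p.IsHomLift f₀ (a ≫ f) :=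
      @IsHomLift.comp_lift_id_right _ _ _ _ 𝒳.p _ _ _ _ _ f₀ a ha f hf
    have haf' : 𝒳.p.IsHomLift (f₀ ≫ eqToHom hy'.symm) (a ≫ f) := by
      haveI := haf
      infer_instance
    have hψf : 𝒳.p.IsHomLift f₀ (ψ ≫ φ.map f) :=
      @IsHomLift.comp_lift_id_right _ _ _ _ 𝒳.p _ _ _ _ _ f₀ ψ hψ (φ.map f) hφf
    have hψf' : 𝒳.p.IsHomLift (f₀ ≫ eqToHom hy'.symm) (ψ ≫ φ.map f) := by
      haveI := hψf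
      infer_instance
    have B := hρ2 y' (f₀ ≫ eqToHom hy'.symm) ⟨w, a ≫ f, c, haf'⟩ s (ψ ≫ φ.map f) hψf' s (𝟙 s) w
      (a ≫ f) c γ ψ₀ hγw (by rw [φ.toFunctor.map_comp, ← Category.assoc, e, Category.id_comp])
    rw [Category.id_comp] at A B
    rw [← Category.assoc, ← Category.assoc, B, A]
    simp only [Category.assoc]

end

end Groth.Agent.Helper6.GerbNat
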