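import Mathlib
import Groth.Agent.Helper6.GerbNat

/-!
# Helper6: gerbes, covering sieve of local trivialisations, transfer of the conjugation condition
-/

set_option autoImplicit false
set_option linter.style.haveILetI false
set_option linter.unusedVariables false
universe v u

namespace Groth.Agent.Helper6.GerbNat
open CategoryTheory Functor FibCat Limits
open Groth.Agent.Helper3 Groth.Agent.Helper6.StkGlue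

variable {C : Type u} [Category.{v} C]

/-- in a gerbe with an object `x` over an object receiving maps from everything, every object is
locally a pullback of `x` -/
theorem rt_mem (J : GrothendieckTopology C) {𝒳 : BasedCategory.{v, max u v} C} (hfg : IsFibGrpd 𝒳.p)
    (hgb : Gerb.IsGerbeOver J (FibCat.toSelf 𝒳)) (x : 𝒳.obj)
    (hmap : ∀ T : C, Nonempty (T ⟶ 𝒳.p.obj x)) (y : 𝒳.obj) :
    Rt hfg x (𝒳.p.obj y) y ∈ J (𝒳.p.obj y) := by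
  obtain ⟨π⟩ := hmap (𝒳.p.obj y)
  obtain ⟨xV, cV, hcV⟩ := hfg.exists_lift π
  have hxV : 𝒳.p.obj xV = 𝒳.p.obj y := IsHomLift.domain_eq 𝒳.p π cV
  have hb : (FibCat.selfOver C).p.IsHomLift (𝟙 (𝒳.p.obj y)) (eqToHom hxV.symm) :=
    IsHomLift.eqToHom_codomain_lift_id hxV.symm hxV
  obtain ⟨R, hR, hR2⟩ := hgb.2 y xV (eqToHom hxV.symm) hb
  refine J.superset_covering ?_ hR
  intro W f hf
  obtain ⟨x₀, φ₀, ψ₀, h1, h2, -⟩ := hR2 f hf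
  exact ⟨x₀, φ₀, ψ₀ ≫ cV, h1⟩

/-- transfer of the conjugation condition from `φ ⋙ ψ` at `x` to `ψ ⋙ φ` at `φ x`, when `φ` is
surjective on automorphism groups of pullbacks of `x` -/
theorem conj_transfer {𝒳 𝒴 : BasedCategory.{v, max u v} C} (hfg𝒳 : IsFibGrpd 𝒳.p)
    (hfg𝒴 : IsFibGrpd 𝒴.p) (φ : 𝒳 ⥤ᵇ 𝒴) (ψ : 𝒴 ⥤ᵇ 𝒳) (x : 𝒳.obj)
    (hφ : ∀ (x' : 𝒳.obj) (c : x' ⟶ x), Function.Surjective (Gerb.autMap φ x'))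
    (g : ψ.obj (φ.obj x) ⟶ x) (hg : 𝒳.p.IsHomLift (𝟙 (𝒳.p.obj x)) g)
    (hconj : ∀ (x' : 𝒳.obj) (c : x' ⟶ x) (g' : ψ.obj (φ.obj x') ⟶ x'),
      𝒳.p.IsHomLift (𝟙 (𝒳.p.obj x')) g' →
      ψ.map (φ.map c) ≫ g = g' ≫ c → ∀ α : Gerb.AutO x', ψ.map (φ.map α.hom.1) ≫ g' = g' ≫ α.hom.1)
    (y' : 𝒴.obj) (c' : y' ⟶ φ.obj x) (g'' : φ.obj (ψ.obj y') ⟶ y')
    (hg'' : 𝒴.p.IsHomLift (𝟙 (𝒴.p.obj y')) g'')
    (hc'g : φ.map (ψ.map c') ≫ φ.map g = g'' ≫ c') (β : Gerb.AutO y') :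
    φ.map (ψ.map β.hom.1) ≫ g'' = g'' ≫ β.hom.1 := by
  let T : C := 𝒴.p.obj y'
  let π : T ⟶ 𝒳.p.obj x := 𝒴.p.map c' ≫ eqToHom (φ.w_obj x)
  obtain ⟨x', c, hc⟩ := hfg𝒳.exists_lift π
  have hφc : 𝒴.p.IsHomLift π (φ.map c) :=
    @BasedFunctor.preserves_isHomLift _ _ _ _ φ _ _ _ _ π c hc
  have hc' : 𝒴.p.IsHomLift π c' := inferInstance
  obtain ⟨θ, hθ1, hθ2⟩ := exists_factor hfg𝒴 π (φ.map c) hφc c' hc'
  haveI := hθ1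
  haveI : IsIso θ := FibGrpd.isIso_of_lift_id hfg𝒴 (U := T) θ
  have hθi : 𝒴.p.IsHomLift (𝟙 T) (inv θ) := inferInstance
  obtain ⟨g', hg'1, hg'2⟩ : ∃ g' : ψ.obj (φ.obj x') ⟶ x',
      𝒳.p.IsHomLift (𝟙 (𝒳.p.obj x')) g' ∧ ψ.map (φ.map c) ≫ g = g' ≫ c :=
    exists_gc hfg𝒳 (BasedFunctor.comp φ ψ) x g hg x' c
  have star := hconj x' c g' hg'1 hg'2
  -- `g''` is the transport of `φ g'`
  have hψθ : 𝒳.p.IsHomLift (𝟙 T) (ψ.map θ) :=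
    @BasedFunctor.preserves_isHomLift _ _ _ _ ψ _ _ _ _ (𝟙 T) θ hθ1
  have hΦθ : 𝒴.p.IsHomLift (𝟙 T) (φ.map (ψ.map θ)) :=
    @BasedFunctor.preserves_isHomLift _ _ _ _ φ _ _ _ _ (𝟙 T) (ψ.map θ) hψθ
  have hφg' : 𝒴.p.IsHomLift (𝟙 (𝒳.p.obj x')) (φ.map g') :=
    @BasedFunctor.preserves_isHomLift _ _ _ _ φ _ _ _ _ (𝟙 (𝒳.p.obj x')) g' hg'1
  have h23 : 𝒴.p.IsHomLift (𝟙 T) (φ.map g' ≫ inv θ) :=
    @IsHomLift.comp_lift_id_left' _ _ _ _ 𝒴.p _ _ _ (𝒳.p.obj x') (φ.map g') hφg' _ _ (𝟙 T) (inv θ)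
      hθi
  have h123 : 𝒴.p.IsHomLift (𝟙 T) (φ.map (ψ.map θ) ≫ φ.map g' ≫ inv θ) :=
    @IsHomLift.comp_of_lift_id _ _ _ _ 𝒴.p T _ _ _ (φ.map (ψ.map θ)) _ hΦθ h23
  have eg : g'' = φ.map (ψ.map θ) ≫ φ.map g' ≫ inv θ := by
    refine cart_ext hfg𝒴 π (𝟙 T) c' hc' _ _ hg'' h123 ?_
    rw [← hc'g]
    have e1 : (φ.map (ψ.map θ) ≫ φ.map g' ≫ inv θ) ≫ c' =
        φ.map (ψ.map θ) ≫ φ.map g' ≫ φ.map c := by
      rw [← hθ2]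
      simp only [Category.assoc, IsIso.inv_hom_id_assoc]
    rw [e1]
    calc φ.map (ψ.map c') ≫ φ.map g = φ.map (ψ.map (θ ≫ φ.map c)) ≫ φ.map g := by rw [hθ2]
      _ = φ.map (ψ.map θ) ≫ φ.map (ψ.map (φ.map c) ≫ g) := by
          rw [ψ.toFunctor.map_comp, φ.toFunctor.map_comp, φ.toFunctor.map_comp, Category.assoc]
      _ = φ.map (ψ.map θ) ≫ φ.map (g' ≫ c) := by rw [hg'2]
      _ = φ.map (ψ.map θ) ≫ φ.map g' ≫ φ.map c := by rw [φ.toFunctor.map_comp]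
  -- the automorphism of `φ x'`
  have hβ : 𝒴.p.IsHomLift (𝟙 T) β.hom.1 := β.hom.2
  have hx'T : 𝒴.p.obj (φ.obj x') = T := IsHomLift.codomain_eq 𝒴.p (𝟙 T) θ
  have hβ' : 𝒴.p.IsHomLift (𝟙 (𝒴.p.obj (φ.obj x'))) (inv θ ≫ β.hom.1 ≫ θ) := by
    have h1 : 𝒴.p.IsHomLift (𝟙 T) (β.hom.1 ≫ θ) :=
      @IsHomLift.comp_of_lift_id _ _ _ _ 𝒴.p T _ _ _ β.hom.1 θ hβ hθ1
    have h2 : 𝒴.p.IsHomLift (𝟙 T) (inv θ ≫ β.hom.1 ≫ θ) :=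
      @IsHomLift.comp_of_lift_id _ _ _ _ 𝒴.p T _ _ _ (inv θ) _ hθi h1
    have : ∀ (Z : C) (hZ : Z = T), 𝒴.p.IsHomLift (𝟙 Z) (inv θ ≫ β.hom.1 ≫ θ) := by
      intro Z hZ
      subst hZ
      exact h2
    exact this _ hx'T
  haveI := FibGrpd.isGroupoid_fiber hfg𝒴 (𝒴.p.obj (φ.obj x'))
  let βf : Gerb.fib (φ.obj x') ⟶ Gerb.fib (φ.obj x') := ⟨inv θ ≫ β.hom.1 ≫ θ, hβ'⟩
  let βA : Gerb.AutO (φ.obj x') := asIso βf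
  obtain ⟨α, hα⟩ := hφ x' c βA
  have hα1 : φ.map α.hom.1 = inv θ ≫ β.hom.1 ≫ θ := by
    have := congrArg (fun z : Gerb.AutO (φ.obj x') => z.hom.1) hα
    exact this
  have st := congrArg (fun z => φ.map z) (star α)
  simp only [φ.toFunctor.map_comp] at st
  rw [hα1] at st
  -- conclude
  have hβθ : β.hom.1 ≫ θ = θ ≫ (inv θ ≫ β.hom.1 ≫ θ) := by
    rw [IsIso.hom_inv_id_assoc]
  rw [eg]
  calc φ.map (ψ.map β.hom.1) ≫ φ.map (ψ.map θ) ≫ φ.map g' ≫ inv θ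
      = φ.map (ψ.map (β.hom.1 ≫ θ)) ≫ φ.map g' ≫ inv θ := by
        rw [ψ.toFunctor.map_comp, φ.toFunctor.map_comp, Category.assoc]
    _ = φ.map (ψ.map (θ ≫ (inv θ ≫ β.hom.1 ≫ θ))) ≫ φ.map g' ≫ inv θ := by rw [← hβθ]
    _ = φ.map (ψ.map θ) ≫ (φ.map (ψ.map (inv θ ≫ β.hom.1 ≫ θ)) ≫ φ.map g') ≫ inv θ := by
        rw [ψ.toFunctor.map_comp θ, φ.toFunctor.map_comp]
        simp only [Category.assoc]
    _ = φ.map (ψ.map θ) ≫ (φ.map g' ≫ (inv θ ≫ β.hom.1 ≫ θ)) ≫ inv θ := by rw [st]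
    _ = (φ.map (ψ.map θ) ≫ φ.map g' ≫ inv θ) ≫ β.hom.1 := by
        simp only [Category.assoc, IsIso.hom_inv_id, Category.comp_id]

end Groth.Agent.Helper6.GerbNat
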