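import Mathlib
import Groth.Agent.Helper6.GerbNat2

/-!
# Helper6: the presheaf of groups of natural families of automorphisms of a category over `C`
-/

set_option autoImplicit false
set_option linter.style.haveILetI false
set_option linter.unusedVariables false
universe v u

namespace Groth.Agent.Helper6.Band
open CategoryTheory Functor FibCat Limits Opposite
open Groth.Agent.Helper3 Groth.Agent.Helper6.StkGlue

variable {C : Type u} [Category.{v} C] (𝒮 : BasedCategory.{v, max u v} C)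

/-- natural families of automorphisms of the objects of `𝒮` mapping to `U` -/
def natSub (U : C) : Subgroup (∀ (x : 𝒮.obj) (f : 𝒮.p.obj x ⟶ U), Gerb.AutO x) where
  carrier := {a | ∀ ⦃x' x : 𝒮.obj⦄ (φ : x' ⟶ x) (f : 𝒮.p.obj x ⟶ U),
    (a x' (𝒮.p.map φ ≫ f)).hom.1 ≫ φ = φ ≫ (a x f).hom.1}
  mul_mem' := by
    intro a b ha hb x' x φ f
    change ((b x' (𝒮.p.map φ ≫ f)).hom.1 ≫ (a x' (𝒮.p.map φ ≫ f)).hom.1) ≫ φ =
      φ ≫ ((b x f).hom.1 ≫ (a x f).hom.1)
    rw [Category.assoc, ha φ f, ← Category.assoc, hb φ f, Category.assoc]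
  one_mem' := by
    intro x' x φ f
    change 𝟙 x' ≫ φ = φ ≫ 𝟙 x
    rw [Category.id_comp, Category.comp_id]
  inv_mem' := by
    intro a ha x' x φ f
    change (a x' (𝒮.p.map φ ≫ f)).inv.1 ≫ φ = φ ≫ (a x f).inv.1
    have h1 : (a x' (𝒮.p.map φ ≫ f)).inv.1 ≫ (a x' (𝒮.p.map φ ≫ f)).hom.1 = 𝟙 x' :=
      congrArg Subtype.val (a x' (𝒮.p.map φ ≫ f)).inv_hom_id
    have h2 : (a x f).hom.1 ≫ (a x f).inv.1 = 𝟙 x := congrArg Subtype.val (a x f).hom_inv_id
    calc (a x' (𝒮.p.map φ ≫ f)).inv.1 ≫ φ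
        = (a x' (𝒮.p.map φ ≫ f)).inv.1 ≫ (φ ≫ (a x f).hom.1) ≫ (a x f).inv.1 := by
          rw [Category.assoc, h2, Category.comp_id]
      _ = ((a x' (𝒮.p.map φ ≫ f)).inv.1 ≫ (a x' (𝒮.p.map φ ≫ f)).hom.1) ≫ φ ≫
            (a x f).inv.1 := by
          rw [← ha φ f]
          simp only [Category.assoc]
      _ = φ ≫ (a x f).inv.1 := by rw [h1, Category.id_comp]

variable {𝒮}

theorem natSub_nat {U : C} (a : natSub 𝒮 U) {x' x : 𝒮.obj} (φ : x' ⟶ x) (f : 𝒮.p.obj x ⟶ U) :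
    (a.1 x' (𝒮.p.map φ ≫ f)).hom.1 ≫ φ = φ ≫ (a.1 x f).hom.1 := a.2 φ f

theorem natSub_lift {U : C} (a : natSub 𝒮 U) (x : 𝒮.obj) (f : 𝒮.p.obj x ⟶ U) :
    𝒮.p.IsHomLift (𝟙 (𝒮.p.obj x)) (a.1 x f).hom.1 := (a.1 x f).hom.2

variable (𝒮)

/-- restriction of natural families -/
def resHom {U V : C} (g : V ⟶ U) : natSub 𝒮 U →* natSub 𝒮 V where
  toFun a := ⟨fun x f => a.1 x (f ≫ g), by
    intro x' x φ f
    have := a.2 φ (f ≫ g)
    rw [← Category.assoc] at this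
    exact this⟩
  map_one' := rfl
  map_mul' _ _ := rfl

variable {𝒮} in
theorem resHom_apply {U V : C} (g : V ⟶ U) (a : natSub 𝒮 U) (x : 𝒮.obj) (f : 𝒮.p.obj x ⟶ V) :
    (resHom 𝒮 g a).1 x f = a.1 x (f ≫ g) := rfl

/-- the presheaf of groups of natural families of automorphisms -/
def psh : Cᵒᵖ ⥤ GrpCat.{max u v} where
  obj U := GrpCat.of (natSub 𝒮 U.unop)
  map g := GrpCat.ofHom (resHom 𝒮 g.unop)
  map_id U := by
    apply GrpCat.hom_ext
    apply MonoidHom.ext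
    intro a
    apply Subtype.ext
    funext x f
    change a.1 x (f ≫ 𝟙 _) = a.1 x f
    rw [Category.comp_id]
  map_comp g h := by
    apply GrpCat.hom_ext
    apply MonoidHom.ext
    intro a
    apply Subtype.ext
    funext x f
    change a.1 x (f ≫ h.unop ≫ g.unop) = a.1 x ((f ≫ h.unop) ≫ g.unop)
    rw [Category.assoc]

variable {𝒮} in
theorem psh_map_apply {U V : C} (g : V ⟶ U) (a : natSub 𝒮 U) :
    ((psh 𝒮).map g.op).hom a = resHom 𝒮 g a := rfl

theorem psh_comm (hcomm : ∀ (x : 𝒮.obj) (α β : Gerb.AutO x), α * β = β * α) (U : C)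
    (a b : (psh 𝒮).obj (op U)) : a * b = b * a := by
  apply Subtype.ext
  funext x f
  exact hcomm x (a.1 x f) (b.1 x f)

/-- evaluation of a natural family at an object -/
def bandHom (x : 𝒮.obj) : natSub 𝒮 (𝒮.p.obj x) →* Gerb.AutO x where
  toFun a := a.1 x (𝟙 _)
  map_one' := rfl
  map_mul' _ _ := rfl

end Groth.Agent.Helper6.Band
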