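import Mathlib
import Groth.Agent.Helper6.Band1

/-!
# Helper6: the presheaf of natural families of automorphisms of a stack is a sheaf
-/

set_option autoImplicit false
set_option linter.style.haveILetI false
set_option linter.unusedVariables false
universe v u

namespace Groth.Agent.Helper6.Band
open CategoryTheory Functor FibCat Limits Opposite
open Groth.Agent.Helper3 Groth.Agent.Helper6.StkGlue

variable {C : Type u} [Category.{v} C] {𝒮 : BasedCategory.{v, max u v} C}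

theorem mem_of_lift {U W : C} (R : Sieve U) {s x : 𝒮.obj} (f : 𝒮.p.obj x ⟶ U)
    (h : W ⟶ 𝒮.p.obj x) (hh : R (h ≫ f)) (ψ : s ⟶ x) (hψ : 𝒮.p.IsHomLift h ψ) :
    R (𝒮.p.map ψ ≫ f) := by
  have e := @IsHomLift.fac' _ _ _ _ 𝒮.p _ _ _ _ h ψ hψ
  rw [e]
  simp only [eqToHom_refl, Category.comp_id, Category.assoc]
  exact R.downward_closed hh _

theorem aut_hom_ext {x : 𝒮.obj} (α β : Gerb.AutO x) (h : α.hom.1 = β.hom.1) : α = β :=
  Aut.ext (Subtype.ext h)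

section

variable (J : GrothendieckTopology C) (hst : Stk.IsStack J 𝒮)

include hst in
theorem sep {U : C} (R : Sieve U) (hR : R ∈ J U) (a b : natSub 𝒮 U)
    (h : ∀ ⦃V : C⦄ (g : V ⟶ U), R g → resHom 𝒮 g a = resHom 𝒮 g b) : a = b := by
  apply Subtype.ext
  funext x f
  apply aut_hom_ext
  haveI : (Stk.resSieve (R.pullback f) 𝒮).IsEquivalence := hst.2 _ (J.pullback_stable f hR)
  haveI h1 : 𝒮.p.IsHomLift (𝟙 (𝒮.p.obj x)) (a.1 x f).hom.1 := (a.1 x f).hom.2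
  haveI h2 : 𝒮.p.IsHomLift (𝟙 (𝒮.p.obj x)) (b.1 x f).hom.1 := (b.1 x f).hom.2
  refine @Groth.Agent.Helper6.StkLocal.hom_ext_of_locally _ _ 𝒮 hst.1 (𝒮.p.obj x)
    (R.pullback f) inferInstance _ _ rfl _ _ h1 h2 ?_
  intro W k hk s ψ hψ
  have hRψ : R (𝒮.p.map ψ ≫ f) := mem_of_lift R f k hk ψ hψ
  have e := h _ hRψ
  have e1 : a.1 s (𝟙 _ ≫ 𝒮.p.map ψ ≫ f) = b.1 s (𝟙 _ ≫ 𝒮.p.map ψ ≫ f) :=
    congrFun (congrFun (congrArg Subtype.val e) s) (𝟙 _)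
  rw [Category.id_comp] at e1
  rw [← a.2 ψ f, ← b.2 ψ f, e1]

include hst in
theorem glue {U : C} (R : Sieve U) (hR : R ∈ J U)
    (afam : ∀ ⦃V : C⦄ (g : V ⟶ U), R g → natSub 𝒮 V)
    (hcompat : ∀ ⦃V W : C⦄ (g : V ⟶ U) (hg : R g) (k : W ⟶ V) (g' : W ⟶ U) (hg' : R g'),
      g' = k ≫ g → afam g' hg' = resHom 𝒮 k (afam g hg)) :
    ∃ a : natSub 𝒮 U, ∀ ⦃V : C⦄ (g : V ⟶ U) (hg : R g), resHom 𝒮 g a = afam g hg := by
  have hfg := hst.1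
  have afam_congr : ∀ {V : C} (g g' : V ⟶ U) (hg : R g) (hg' : R g'), g = g' →
      afam g hg = afam g' hg' := by
    intro V g g' hg hg' e
    subst e
    rfl
  have key : ∀ (x : 𝒮.obj) (f : 𝒮.p.obj x ⟶ U), ∃ γ : x ⟶ x,
      𝒮.p.IsHomLift (𝟙 (𝒮.p.obj x)) γ ∧
      ∀ (s : 𝒮.obj) (ψ : s ⟶ x) (hR' : R (𝒮.p.map ψ ≫ f)),
        ψ ≫ γ = ((afam _ hR').1 s (𝟙 _)).hom.1 ≫ ψ := by
    intro x f
    haveI : (Stk.resSieve (R.pullback f) 𝒮).IsEquivalence := hst.2 _ (J.pullback_stable f hR)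
    obtain ⟨γ, hγ1, hγ2⟩ := exists_hom_of_locally hfg (R.pullback f) (t := x) (t' := x) rfl rfl
      (fun s ψ m => ∀ (s' : 𝒮.obj) (χ : s' ⟶ s) (ξ : s' ⟶ x), ξ = χ ≫ ψ →
        ∀ (hR' : R (𝒮.p.map ξ ≫ f)), χ ≫ m = ((afam _ hR').1 s' (𝟙 _)).hom.1 ≫ ξ)
      (by
        intro W h hh s ψ hψ
        have hψR : R (𝒮.p.map ψ ≫ f) := mem_of_lift R f h hh ψ hψ
        have hμ : 𝒮.p.IsHomLift (𝟙 (𝒮.p.obj s)) ((afam _ hψR).1 s (𝟙 _)).hom.1 :=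
          ((afam _ hψR).1 s (𝟙 _)).hom.2
        refine ⟨((afam _ hψR).1 s (𝟙 _)).hom.1 ≫ ψ, ?_, ?_⟩
        · exact @IsHomLift.comp_lift_id_left' _ _ _ _ 𝒮.p _ _ _ (𝒮.p.obj s) _ hμ _ _ h ψ hψ
        · intro s' χ ξ hξ hR'
          subst hξ
          have e : 𝒮.p.map (χ ≫ ψ) ≫ f = 𝒮.p.map χ ≫ 𝒮.p.map ψ ≫ f := by
            rw [Functor.map_comp, Category.assoc]
          have e1 := hcompat (𝒮.p.map ψ ≫ f) hψR (𝒮.p.map χ) (𝒮.p.map (χ ≫ ψ) ≫ f) hR' e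
          have e2 : ((afam _ hR').1 s' (𝟙 _)) = (afam _ hψR).1 s' (𝟙 _ ≫ 𝒮.p.map χ) := by
            rw [e1]
            rfl
          have e3 : (afam _ hψR).1 s' (𝟙 _ ≫ 𝒮.p.map χ) =
              (afam _ hψR).1 s' (𝒮.p.map χ ≫ 𝟙 _) := by
            rw [Category.id_comp, Category.comp_id]
          have n := (afam _ hψR).2 χ (𝟙 _)
          rw [e2, e3, ← Category.assoc, ← n, Category.assoc])
      (by
        intro W h hh s ψ m m' hψ hm hm' hP hP'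
        have hψR : R (𝒮.p.map ψ ≫ f) := mem_of_lift R f h hh ψ hψ
        have e1 := hP s (𝟙 s) ψ (Category.id_comp ψ).symm hψR
        have e2 := hP' s (𝟙 s) ψ (Category.id_comp ψ).symm hψR
        exact (Category.id_comp m).symm.trans (e1.trans (e2.symm.trans (Category.id_comp m'))))
      (by
        intro s s' χ ψ m hP s'' χ' ξ hξ hR'
        have := hP s'' (χ' ≫ χ) ξ (by rw [hξ, Category.assoc]) hR'
        rw [← Category.assoc]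
        exact this)
    refine ⟨γ, hγ1, ?_⟩
    intro s ψ hR'
    have := hγ2 (𝒮.p.map ψ) hR' s ψ inferInstance s (𝟙 s) ψ (Category.id_comp ψ).symm hR'
    exact (Category.id_comp _).symm.trans this
  choose γ hγ1 hγ2 using key
  haveI : ∀ x : 𝒮.obj, IsGroupoid (𝒮.p.Fiber (𝒮.p.obj x)) := fun x =>
    FibGrpd.isGroupoid_fiber hfg (𝒮.p.obj x)
  let A : ∀ (x : 𝒮.obj) (f : 𝒮.p.obj x ⟶ U), Gerb.AutO x := fun x f =>
    asIso (⟨γ x f, hγ1 x f⟩ : Gerb.fib x ⟶ Gerb.fib x)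
  have hA : ∀ x f, (A x f).hom.1 = γ x f := fun x f => rfl
  have hnat : A ∈ natSub 𝒮 U := by
    intro x' x φ f
    rw [hA, hA]
    have hφ : 𝒮.p.IsHomLift (𝒮.p.map φ) φ := inferInstance
    have hm : 𝒮.p.IsHomLift (𝒮.p.map φ) (φ ≫ γ x f) :=
      @IsHomLift.comp_lift_id_right _ _ _ _ 𝒮.p _ _ _ _ _ (𝒮.p.map φ) φ hφ (γ x f) (hγ1 x f)
    obtain ⟨ν, hν1, hν2⟩ := exists_factor hfg (𝒮.p.map φ) φ hφ (φ ≫ γ x f) hm
    have hg1 := hγ1 x' (𝒮.p.map φ ≫ f)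
    have eν : γ x' (𝒮.p.map φ ≫ f) = ν := by
      haveI : (Stk.resSieve (R.pullback (𝒮.p.map φ ≫ f)) 𝒮).IsEquivalence :=
        hst.2 _ (J.pullback_stable (𝒮.p.map φ ≫ f) hR)
      refine @Groth.Agent.Helper6.StkLocal.hom_ext_of_locally _ _ 𝒮 hfg (𝒮.p.obj x')
        (R.pullback (𝒮.p.map φ ≫ f)) inferInstance _ _ rfl _ _ hg1 hν1 ?_
      intro W h hh s ψ hψ
      have hRψ : R (𝒮.p.map ψ ≫ 𝒮.p.map φ ≫ f) := mem_of_lift R (𝒮.p.map φ ≫ f) h hh ψ hψ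
      have e : 𝒮.p.map (ψ ≫ φ) ≫ f = 𝒮.p.map ψ ≫ 𝒮.p.map φ ≫ f := by
        rw [Functor.map_comp, Category.assoc]
      have hR₂ : R (𝒮.p.map (ψ ≫ φ) ≫ f) := by
        rw [e]
        exact hRψ
      have eA : afam _ hR₂ = afam _ hRψ := afam_congr _ _ _ _ e
      have hL : 𝒮.p.IsHomLift h (ψ ≫ γ x' (𝒮.p.map φ ≫ f)) :=
        @IsHomLift.comp_lift_id_right _ _ _ _ 𝒮.p _ _ _ _ _ h ψ hψ _ hg1
      have hRr : 𝒮.p.IsHomLift h (ψ ≫ ν) :=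
        @IsHomLift.comp_lift_id_right _ _ _ _ 𝒮.p _ _ _ _ _ h ψ hψ _ hν1
      refine cart_ext hfg (𝒮.p.map φ) h φ hφ _ _ hL hRr ?_
      have s1 := hγ2 x' (𝒮.p.map φ ≫ f) s ψ hRψ
      have s2 := hγ2 x f s (ψ ≫ φ) hR₂
      rw [eA] at s2
      rw [s1, Category.assoc, Category.assoc, hν2, ← Category.assoc ψ, s2]
    rw [eν, hν2]
  refine ⟨⟨A, hnat⟩, ?_⟩
  intro V g hg
  apply Subtype.ext
  funext x f
  apply aut_hom_ext
  change (A x (f ≫ g)).hom.1 = ((afam g hg).1 x f).hom.1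
  rw [hA]
  have e : 𝒮.p.map (𝟙 x) ≫ f ≫ g = f ≫ g := by
    rw [CategoryTheory.Functor.map_id, Category.id_comp]
  have hR' : R (𝒮.p.map (𝟙 x) ≫ f ≫ g) := by
    rw [e]
    exact R.downward_closed hg f
  have s1 := hγ2 x (f ≫ g) x (𝟙 x) hR'
  rw [Category.id_comp, Category.comp_id] at s1
  rw [s1]
  have e1 := hcompat g hg f (𝒮.p.map (𝟙 x) ≫ f ≫ g) hR' e
  rw [e1]
  change ((afam g hg).1 x (𝟙 _ ≫ f)).hom.1 = ((afam g hg).1 x f).hom.1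
  rw [Category.id_comp]

include hst in
theorem psh_isSheaf : Presheaf.IsSheaf J (psh 𝒮) := by
  rw [Presheaf.isSheaf_iff_isSheaf_forget J (psh 𝒮) (forget GrpCat.{max u v}),
    isSheaf_iff_isSheaf_of_type]
  intro U R hR x hx
  have hx' := (Presieve.compatible_iff_sieveCompatible x).1 hx
  let afam : ∀ ⦃V : C⦄ (g : V ⟶ U), R g → natSub 𝒮 V := fun V g hg => x g hg
  have hcompat : ∀ ⦃V W : C⦄ (g : V ⟶ U) (hg : R g) (k : W ⟶ V) (g' : W ⟶ U) (hg' : R g'),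
      g' = k ≫ g → afam g' hg' = resHom 𝒮 k (afam g hg) := by
    intro V W g hg k g' hg' e
    subst e
    exact hx' g k hg
  obtain ⟨a, ha⟩ := glue J hst R hR afam hcompat
  refine ⟨a, ?_, ?_⟩
  · intro V g hg
    exact ha g hg
  · intro b hb
    refine sep J hst R hR b a ?_
    intro V g hg
    rw [ha g hg]
    exact hb g hg

end

end Groth.Agent.Helper6.Band
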