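import Mathlib
import Groth.Agent.Helper6.Band2

/-!
# Helper6: in a gerbe with commutative automorphism groups, evaluation of natural families of
automorphisms at an object is bijective
-/

set_option autoImplicit false
set_option linter.style.haveILetI false
set_option linter.unusedVariables false
universe v u

namespace Groth.Agent.Helper6.Band
open CategoryTheory Functor FibCat Limits Opposite
open Groth.Agent.Helper3 Groth.Agent.Helper6.StkGlue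

variable {C : Type u} [Category.{v} C] {𝒮 : BasedCategory.{v, max u v} C}

section

variable (hfg : IsFibGrpd 𝒮.p) (hcomm : ∀ (x : 𝒮.obj) (α β : Gerb.AutO x), α * β = β * α)
  (x : 𝒮.obj) (α₀ : x ⟶ x) (hα : 𝒮.p.IsHomLift (𝟙 (𝒮.p.obj x)) α₀)

/-- `μ` is the conjugate of `α₀` along `c` -/
def Cj (w : 𝒮.obj) (c : w ⟶ x) (μ : w ⟶ w) : Prop :=
  𝒮.p.IsHomLift (𝟙 (𝒮.p.obj w)) μ ∧ μ ≫ c = c ≫ α₀

include hfg hα in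
theorem exists_cj (w : 𝒮.obj) (c : w ⟶ x) : ∃ μ, Cj x α₀ w c μ := by
  have hc : 𝒮.p.IsHomLift (𝒮.p.map c) c := inferInstance
  have hm : 𝒮.p.IsHomLift (𝒮.p.map c) (c ≫ α₀) :=
    @IsHomLift.comp_lift_id_right _ _ _ _ 𝒮.p _ _ _ _ _ (𝒮.p.map c) c hc α₀ hα
  obtain ⟨μ, h1, h2⟩ := exists_factor hfg (𝒮.p.map c) c hc (c ≫ α₀) hm
  exact ⟨μ, h1, h2⟩

include hfg hcomm in
theorem cj_unique (w : 𝒮.obj) (c c₁ : w ⟶ x) (hbase : 𝒮.p.map c₁ = 𝒮.p.map c) (μ μ₁ : w ⟶ w)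
    (h : Cj x α₀ w c μ) (h₁ : Cj x α₀ w c₁ μ₁) : μ = μ₁ := by
  have hc : 𝒮.p.IsHomLift (𝒮.p.map c) c := inferInstance
  have hc₁ : 𝒮.p.IsHomLift (𝒮.p.map c) c₁ := by
    rw [← hbase]
    infer_instance
  obtain ⟨θ, hθ1, hθ2⟩ := exists_factor hfg (𝒮.p.map c) c hc c₁ hc₁
  haveI := hθ1
  haveI : IsIso θ := FibGrpd.isIso_of_lift_id hfg (U := 𝒮.p.obj w) θ
  haveI := FibGrpd.isGroupoid_fiber hfg (𝒮.p.obj w)
  let θA : Gerb.AutO w := asIso (⟨θ, hθ1⟩ : Gerb.fib w ⟶ Gerb.fib w)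
  let μA : Gerb.AutO w := asIso (⟨μ, h.1⟩ : Gerb.fib w ⟶ Gerb.fib w)
  have hcm : μ ≫ θ = θ ≫ μ := congrArg (fun z : Gerb.AutO w => z.hom.1) (hcomm w θA μA)
  have e1 : (μ₁ ≫ θ) ≫ c = (μ ≫ θ) ≫ c := by
    rw [Category.assoc, hθ2, h₁.2, ← hθ2, Category.assoc, ← h.2, ← Category.assoc, hcm]
  have hl : 𝒮.p.IsHomLift (𝟙 (𝒮.p.obj w)) (μ ≫ θ) :=
    @IsHomLift.comp_of_lift_id _ _ _ _ 𝒮.p (𝒮.p.obj w) _ _ _ μ θ h.1 hθ1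
  have hl₁ : 𝒮.p.IsHomLift (𝟙 (𝒮.p.obj w)) (μ₁ ≫ θ) :=
    @IsHomLift.comp_of_lift_id _ _ _ _ 𝒮.p (𝒮.p.obj w) _ _ _ μ₁ θ h₁.1 hθ1
  have := cart_ext hfg (𝒮.p.map c) (𝟙 (𝒮.p.obj w)) c hc _ _ hl₁ hl e1
  exact ((cancel_mono θ).1 this).symm

include hfg hcomm hα in
theorem cj_natural {w' w : 𝒮.obj} (b : w' ⟶ w) (c : w ⟶ x) (c' : w' ⟶ x)
    (hbase : 𝒮.p.map c' = 𝒮.p.map b ≫ 𝒮.p.map c) (μ : w ⟶ w) (μ' : w' ⟶ w')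
    (h : Cj x α₀ w c μ) (h' : Cj x α₀ w' c' μ') : μ' ≫ b = b ≫ μ := by
  obtain ⟨μ'', h''⟩ := exists_cj hfg x α₀ hα w' (b ≫ c)
  have e := cj_unique hfg hcomm x α₀ w' c' (b ≫ c)
    (by rw [hbase, CategoryTheory.Functor.map_comp]) μ' μ'' h' h''
  subst e
  have hc : 𝒮.p.IsHomLift (𝒮.p.map c) c := inferInstance
  have hb : 𝒮.p.IsHomLift (𝒮.p.map b) b := inferInstance
  have hL : 𝒮.p.IsHomLift (𝒮.p.map b) (μ' ≫ b) :=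
    @IsHomLift.comp_lift_id_left _ _ _ _ 𝒮.p _ _ _ _ _ (𝒮.p.map b) b hb μ' h''.1
  have hR : 𝒮.p.IsHomLift (𝒮.p.map b) (b ≫ μ) :=
    @IsHomLift.comp_lift_id_right _ _ _ _ 𝒮.p _ _ _ _ _ (𝒮.p.map b) b hb μ h.1
  refine cart_ext hfg (𝒮.p.map c) (𝒮.p.map b) c hc _ _ hL hR ?_
  rw [Category.assoc, h''.2, Category.assoc, Category.assoc, h.2]

/-- the sieve of arrows over which `y` becomes a pullback of `x` along `f` -/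
def Tr (y : 𝒮.obj) (f : 𝒮.p.obj y ⟶ 𝒮.p.obj x) : Sieve (𝒮.p.obj y) where
  arrows W h := ∃ (s : 𝒮.obj) (ψ : s ⟶ y) (c : s ⟶ x), 𝒮.p.IsHomLift h ψ ∧
    𝒮.p.map c = 𝒮.p.map ψ ≫ f
  downward_closed := by
    rintro W W' h ⟨s, ψ, c, hψ, hc⟩ k
    have hs : 𝒮.p.obj s = W := IsHomLift.domain_eq 𝒮.p h ψ
    obtain ⟨s', b, hb⟩ := FibGrpd.exists_lift' hfg hs k
    refine ⟨s', b ≫ ψ, b ≫ c, @IsHomLift.comp _ _ _ _ 𝒮.p _ _ _ _ _ _ k h b ψ hb hψ, ?_⟩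
    rw [CategoryTheory.Functor.map_comp, CategoryTheory.Functor.map_comp, hc, Category.assoc]

include hfg in
theorem triv_of_mem (y : 𝒮.obj) (f : 𝒮.p.obj y ⟶ 𝒮.p.obj x) {W : C} (h : W ⟶ 𝒮.p.obj y)
    (hh : Tr hfg x y f h) {s : 𝒮.obj} (ψ : s ⟶ y) (hψ : 𝒮.p.IsHomLift h ψ) :
    ∃ c : s ⟶ x, 𝒮.p.map c = 𝒮.p.map ψ ≫ f := by
  obtain ⟨s₀, ψ₀, c₀, hψ₀, hc₀⟩ := hh
  obtain ⟨θ, hθ1, hθ2⟩ := exists_factor hfg h ψ₀ hψ₀ ψ hψ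
  refine ⟨θ ≫ c₀, ?_⟩
  rw [CategoryTheory.Functor.map_comp, hc₀, ← Category.assoc, ← CategoryTheory.Functor.map_comp,
    hθ2]

theorem tr_mem (J : GrothendieckTopology C) (hgb : Gerb.IsGerbeOver J (FibCat.toSelf 𝒮))
    (y : 𝒮.obj) (f : 𝒮.p.obj y ⟶ 𝒮.p.obj x) : Tr hfg x y f ∈ J (𝒮.p.obj y) := by
  obtain ⟨xV, cV, hcV⟩ := hfg.exists_lift f
  have hxV : 𝒮.p.obj xV = 𝒮.p.obj y := IsHomLift.domain_eq 𝒮.p f cV
  have hb : (FibCat.selfOver C).p.IsHomLift (𝟙 (𝒮.p.obj y)) (eqToHom hxV.symm) :=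
    IsHomLift.eqToHom_codomain_lift_id hxV.symm hxV
  obtain ⟨R, hR, hR2⟩ := hgb.2 y xV (eqToHom hxV.symm) hb
  refine J.superset_covering ?_ hR
  intro W h hh
  obtain ⟨x₀, φ₀, ψ₀, h1, h2, -⟩ := hR2 h hh
  refine ⟨x₀, φ₀, ψ₀ ≫ cV, h1, ?_⟩
  rw [CategoryTheory.Functor.map_comp, @IsHomLift.fac' _ _ _ _ 𝒮.p _ _ _ _ h ψ₀ h2,
    @IsHomLift.fac' _ _ _ _ 𝒮.p _ _ _ _ f cV hcV, @IsHomLift.fac' _ _ _ _ 𝒮.p _ _ _ _ h φ₀ h1]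
  simp

end

section

variable (J : GrothendieckTopology C) (hst : Stk.IsStack J 𝒮)
  (hgb : Gerb.IsGerbeOver J (FibCat.toSelf 𝒮))
  (hcomm : ∀ (x : 𝒮.obj) (α β : Gerb.AutO x), α * β = β * α)

include hst hgb in
theorem bandHom_injective (x : 𝒮.obj) : Function.Injective (bandHom 𝒮 x) := by
  intro a b hab
  have hfg := hst.1
  have hab' : a.1 x (𝟙 _) = b.1 x (𝟙 _) := hab
  apply Subtype.ext
  funext y f
  apply aut_hom_ext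
  haveI : (Stk.resSieve (Tr hfg x y f) 𝒮).IsEquivalence := hst.2 _ (tr_mem hfg x J hgb y f)
  have h1 : 𝒮.p.IsHomLift (𝟙 (𝒮.p.obj y)) (a.1 y f).hom.1 := (a.1 y f).hom.2
  have h2 : 𝒮.p.IsHomLift (𝟙 (𝒮.p.obj y)) (b.1 y f).hom.1 := (b.1 y f).hom.2
  refine @Groth.Agent.Helper6.StkLocal.hom_ext_of_locally _ _ 𝒮 hfg (𝒮.p.obj y)
    (Tr hfg x y f) inferInstance _ _ rfl _ _ h1 h2 ?_
  intro W h hh s ψ hψ
  obtain ⟨c, hc⟩ := triv_of_mem hfg x y f h hh ψ hψ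
  have na := a.2 c (𝟙 _)
  have nb := b.2 c (𝟙 _)
  rw [Category.comp_id] at na nb
  rw [hab'] at na
  have hc' : 𝒮.p.IsHomLift (𝒮.p.map c) c := inferInstance
  have e1 : (a.1 s (𝒮.p.map c)).hom.1 = (b.1 s (𝒮.p.map c)).hom.1 :=
    cart_ext hfg (𝒮.p.map c) (𝟙 (𝒮.p.obj s)) c hc' _ _ (a.1 s (𝒮.p.map c)).hom.2
      (b.1 s (𝒮.p.map c)).hom.2 (na.trans nb.symm)
  rw [hc] at e1
  rw [← a.2 ψ f, ← b.2 ψ f, e1]

include hst hgb hcomm in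
theorem bandHom_surjective (x : 𝒮.obj) : Function.Surjective (bandHom 𝒮 x) := by
  intro α
  have hfg := hst.1
  have hα : 𝒮.p.IsHomLift (𝟙 (𝒮.p.obj x)) α.hom.1 := α.hom.2
  have key : ∀ (y : 𝒮.obj) (f : 𝒮.p.obj y ⟶ 𝒮.p.obj x), ∃ γ : y ⟶ y,
      𝒮.p.IsHomLift (𝟙 (𝒮.p.obj y)) γ ∧
      ∀ (s : 𝒮.obj) (ψ : s ⟶ y) (c : s ⟶ x) (μ : s ⟶ s), 𝒮.p.map c = 𝒮.p.map ψ ≫ f →
        Cj x α.hom.1 s c μ → ψ ≫ γ = μ ≫ ψ := by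
    intro y f
    haveI : (Stk.resSieve (Tr hfg x y f) 𝒮).IsEquivalence := hst.2 _ (tr_mem hfg x J hgb y f)
    obtain ⟨γ, hγ1, hγ2⟩ := exists_hom_of_locally hfg (Tr hfg x y f) (t := y) (t' := y) rfl rfl
      (fun s ψ m => ∀ (s' : 𝒮.obj) (χ : s' ⟶ s) (ξ : s' ⟶ y), ξ = χ ≫ ψ →
        ∀ (c : s' ⟶ x) (μ : s' ⟶ s'), 𝒮.p.map c = 𝒮.p.map ξ ≫ f → Cj x α.hom.1 s' c μ →
          χ ≫ m = μ ≫ ξ)
      (by
        intro W h hh s ψ hψ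
        obtain ⟨c, hc⟩ := triv_of_mem hfg x y f h hh ψ hψ
        obtain ⟨μ, hμ⟩ := exists_cj hfg x α.hom.1 hα s c
        refine ⟨μ ≫ ψ, ?_, ?_⟩
        · exact @IsHomLift.comp_lift_id_left' _ _ _ _ 𝒮.p _ _ _ (𝒮.p.obj s) μ hμ.1 _ _ h ψ hψ
        · intro s' χ ξ hξ c' μ' hc' hμ'
          subst hξ
          have n := cj_natural hfg hcomm x α.hom.1 hα χ c c'
            (by rw [hc', CategoryTheory.Functor.map_comp, Category.assoc, ← hc]) μ μ' hμ hμ'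
          rw [← Category.assoc, ← n, Category.assoc])
      (by
        intro W h hh s ψ m m' hψ hm hm' hP hP'
        obtain ⟨c, hc⟩ := triv_of_mem hfg x y f h hh ψ hψ
        obtain ⟨μ, hμ⟩ := exists_cj hfg x α.hom.1 hα s c
        have e1 := hP s (𝟙 s) ψ (Category.id_comp ψ).symm c μ hc hμ
        have e2 := hP' s (𝟙 s) ψ (Category.id_comp ψ).symm c μ hc hμ
        exact (Category.id_comp m).symm.trans (e1.trans (e2.symm.trans (Category.id_comp m'))))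
      (by
        intro s s' χ ψ m hP s'' χ' ξ hξ c μ hc hμ
        have := hP s'' (χ' ≫ χ) ξ (by rw [hξ, Category.assoc]) c μ hc hμ
        rw [← Category.assoc]
        exact this)
    refine ⟨γ, hγ1, ?_⟩
    intro s ψ c μ hc hμ
    have := hγ2 (𝒮.p.map ψ) ⟨s, ψ, c, inferInstance, hc⟩ s ψ inferInstance s (𝟙 s) ψ
      (Category.id_comp ψ).symm c μ hc hμ
    exact (Category.id_comp _).symm.trans this
  choose γ hγ1 hγ2 using key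
  haveI : ∀ y : 𝒮.obj, IsGroupoid (𝒮.p.Fiber (𝒮.p.obj y)) := fun y =>
    FibGrpd.isGroupoid_fiber hfg (𝒮.p.obj y)
  let A : ∀ (y : 𝒮.obj) (f : 𝒮.p.obj y ⟶ 𝒮.p.obj x), Gerb.AutO y := fun y f =>
    asIso (⟨γ y f, hγ1 y f⟩ : Gerb.fib y ⟶ Gerb.fib y)
  have hA : ∀ y f, (A y f).hom.1 = γ y f := fun y f => rfl
  have hnat : A ∈ natSub 𝒮 (𝒮.p.obj x) := by
    intro y' y φ f
    rw [hA, hA]
    have hφ : 𝒮.p.IsHomLift (𝒮.p.map φ) φ := inferInstance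
    have hm : 𝒮.p.IsHomLift (𝒮.p.map φ) (φ ≫ γ y f) :=
      @IsHomLift.comp_lift_id_right _ _ _ _ 𝒮.p _ _ _ _ _ (𝒮.p.map φ) φ hφ (γ y f) (hγ1 y f)
    obtain ⟨ν, hν1, hν2⟩ := exists_factor hfg (𝒮.p.map φ) φ hφ (φ ≫ γ y f) hm
    have hg1 := hγ1 y' (𝒮.p.map φ ≫ f)
    have eν : γ y' (𝒮.p.map φ ≫ f) = ν := by
      haveI : (Stk.resSieve (Tr hfg x y' (𝒮.p.map φ ≫ f)) 𝒮).IsEquivalence :=
        hst.2 _ (tr_mem hfg x J hgb y' (𝒮.p.map φ ≫ f))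
      refine @Groth.Agent.Helper6.StkLocal.hom_ext_of_locally _ _ 𝒮 hfg (𝒮.p.obj y')
        (Tr hfg x y' (𝒮.p.map φ ≫ f)) inferInstance _ _ rfl _ _ hg1 hν1 ?_
      intro W h hh s ψ hψ
      obtain ⟨c, hc⟩ := triv_of_mem hfg x y' (𝒮.p.map φ ≫ f) h hh ψ hψ
      obtain ⟨μ, hμ⟩ := exists_cj hfg x α.hom.1 hα s c
      have hc2 : 𝒮.p.map c = 𝒮.p.map (ψ ≫ φ) ≫ f := by
        rw [hc, CategoryTheory.Functor.map_comp, Category.assoc]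
      have hL : 𝒮.p.IsHomLift h (ψ ≫ γ y' (𝒮.p.map φ ≫ f)) :=
        @IsHomLift.comp_lift_id_right _ _ _ _ 𝒮.p _ _ _ _ _ h ψ hψ _ hg1
      have hRr : 𝒮.p.IsHomLift h (ψ ≫ ν) :=
        @IsHomLift.comp_lift_id_right _ _ _ _ 𝒮.p _ _ _ _ _ h ψ hψ _ hν1
      refine cart_ext hfg (𝒮.p.map φ) h φ hφ _ _ hL hRr ?_
      have s1 := hγ2 y' (𝒮.p.map φ ≫ f) s ψ c μ hc hμ
      have s2 := hγ2 y f s (ψ ≫ φ) c μ hc2 hμ
      rw [s1, Category.assoc, Category.assoc, hν2, ← Category.assoc ψ, s2]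
    rw [eν, hν2]
  refine ⟨⟨A, hnat⟩, ?_⟩
  apply aut_hom_ext
  change (A x (𝟙 _)).hom.1 = α.hom.1
  rw [hA]
  have := hγ2 x (𝟙 _) x (𝟙 x) (𝟙 x) α.hom.1
    (by rw [Category.comp_id]) ⟨hα, by rw [Category.id_comp, Category.comp_id]⟩
  rw [Category.id_comp, Category.comp_id] at this
  exact this

end

end Groth.Agent.Helper6.Band
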