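import Mathlib
import Groth.Prelude.Def_W4c1hurwitzcptBd

universe u

namespace Groth.Agent.Helper6.BasedRep

open W4c1hurwitzcpt MvPolynomial

variable (K : Type u) [Field K] (d : ℕ)

/-- index set of the variables -/
abbrev Idx (d : ℕ) := (Fin d × Fin d × Fin d) ⊕ Fin d

noncomputable def cvar (i j k : Fin d) : MvPolynomial (Idx d) K := X (Sum.inl (i, j, k))
noncomputable def uvar (i : Fin d) : MvPolynomial (Idx d) K := X (Sum.inr i)

noncomputable def relComm (i j k : Fin d) : MvPolynomial (Idx d) K := cvar K d i j k - cvar K d j i k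
noncomputable def relAssoc (i j l m : Fin d) : MvPolynomial (Idx d) K :=
  (∑ k, cvar K d i j k * cvar K d k l m) - ∑ k, cvar K d j l k * cvar K d i k m
noncomputable def relUnit (j m : Fin d) : MvPolynomial (Idx d) K :=
  (∑ i, uvar K d i * cvar K d i j m) - if j = m then 1 else 0

def rels : Set (MvPolynomial (Idx d) K) :=
  {p | ∃ i j k, p = relComm K d i j k} ∪ {p | ∃ i j l m, p = relAssoc K d i j l m} ∪
    {p | ∃ j m, p = relUnit K d j m}

noncomputable abbrev I : Ideal (MvPolynomial (Idx d) K) := Ideal.span (rels K d)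

abbrev B : Type u := MvPolynomial (Idx d) K ⧸ I K d

instance : Algebra.FiniteType K (B K d) :=
  Algebra.FiniteType.of_surjective (Ideal.Quotient.mkₐ K (I K d)) (Ideal.Quotient.mkₐ_surjective K _)

variable {K d}
variable {A : Type u} [CommRing A] [Algebra K A]

/-- evaluation of variables at a based algebra structure -/
def pt (s : BasedAlg d A) : Idx d → A := Sum.elim (fun t => s.c t.1 t.2.1 t.2.2) s.u

theorem aeval_rel (s : BasedAlg d A) (p : MvPolynomial (Idx d) K) (hp : p ∈ I K d) :
    aeval (pt s) p = 0 := by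
  have hle : I K d ≤ RingHom.ker (aeval (R := K) (pt s) : MvPolynomial (Idx d) K →+* A) := by
    rw [Ideal.span_le]
    rintro p ((⟨i, j, k, rfl⟩ | ⟨i, j, l, m, rfl⟩) | ⟨j, m, rfl⟩)
    · rw [SetLike.mem_coe, RingHom.mem_ker]
      simp only [relComm, cvar, map_sub, AlgHom.coe_toRingHom, aeval_X, pt, Sum.elim_inl]
      rw [s.comm, sub_self]
    · rw [SetLike.mem_coe, RingHom.mem_ker]
      simp only [relAssoc, cvar, map_sub, map_sum, map_mul, AlgHom.coe_toRingHom, aeval_X, pt,
        Sum.elim_inl]
      rw [s.assoc, sub_self]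
    · rw [SetLike.mem_coe, RingHom.mem_ker]
      simp only [relUnit, cvar, uvar, map_sub, map_sum, map_mul, AlgHom.coe_toRingHom, aeval_X, pt,
        Sum.elim_inl, Sum.elim_inr]
      rw [s.unit]
      split_ifs <;> simp
  exact hle hp

theorem mk_rel_eq_zero (p : MvPolynomial (Idx d) K) (hp : p ∈ rels K d) :
    (Ideal.Quotient.mk (I K d)) p = 0 :=
  Ideal.Quotient.eq_zero_iff_mem.mpr (Ideal.subset_span hp)

/-- the based algebra structure attached to a point -/
noncomputable def toBased (g : B K d →ₐ[K] A) : BasedAlg d A where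
  c i j k := g (Ideal.Quotient.mk _ (cvar K d i j k))
  u i := g (Ideal.Quotient.mk _ (uvar K d i))
  comm i j k := by
    have h := congrArg g (mk_rel_eq_zero (relComm K d i j k) (Or.inl (Or.inl ⟨i, j, k, rfl⟩)))
    simp only [relComm, map_sub, map_zero] at h
    exact sub_eq_zero.mp h
  assoc i j l m := by
    have h := congrArg g (mk_rel_eq_zero (relAssoc K d i j l m) (Or.inl (Or.inr ⟨i, j, l, m, rfl⟩)))
    simp only [relAssoc, map_sub, map_zero, map_sum, map_mul] at h
    exact sub_eq_zero.mp h
  unit j m := by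
    have h := congrArg g (mk_rel_eq_zero (relUnit K d j m) (Or.inr ⟨j, m, rfl⟩))
    simp only [relUnit, map_sub, map_zero, map_sum, map_mul] at h
    rw [sub_eq_zero] at h
    rw [h]
    split_ifs <;> simp

/-- the point attached to a based algebra structure -/
noncomputable def ofBased (s : BasedAlg d A) : B K d →ₐ[K] A :=
  Ideal.Quotient.liftₐ (I K d) (aeval (pt s)) (aeval_rel s)

theorem ofBased_mk (s : BasedAlg d A) (p : MvPolynomial (Idx d) K) :
    ofBased s (Ideal.Quotient.mk _ p) = aeval (pt s) p := rfl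

noncomputable def eta : (B K d →ₐ[K] A) ≃ BasedAlg d A where
  toFun := toBased
  invFun := ofBased
  left_inv g := by
    apply Ideal.Quotient.algHom_ext
    apply MvPolynomial.algHom_ext
    intro x
    rw [AlgHom.comp_apply, AlgHom.comp_apply, Ideal.Quotient.mkₐ_eq_mk, ofBased_mk, aeval_X]
    rcases x with ⟨i, j, k⟩ | i
    · rfl
    · rfl
  right_inv s := by
    apply BasedAlg.ext
    · funext i j k
      show ofBased s (Ideal.Quotient.mk _ (cvar K d i j k)) = _
      rw [ofBased_mk, cvar, aeval_X]
      rfl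
    · funext i
      show ofBased s (Ideal.Quotient.mk _ (uvar K d i)) = _
      rw [ofBased_mk, uvar, aeval_X]
      rfl

theorem eta_natural {A' : Type u} [CommRing A'] [Algebra K A'] (f : A →ₐ[K] A')
    (g : B K d →ₐ[K] A) : eta (f.comp g) = (eta g).map f.toRingHom := by
  apply BasedAlg.ext
  · rfl
  · rfl

theorem main (K : Type u) [Field K] (d : ℕ) :
    ∃ (B : Type u) (_ : CommRing B) (_ : Algebra K B) (_ : Algebra.FiniteType K B)
      (η : ∀ (A : Type u) [CommRing A] [Algebra K A], (B →ₐ[K] A) ≃ W4c1hurwitzcpt.BasedAlg d A),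
      ∀ (A A' : Type u) [CommRing A] [Algebra K A] [CommRing A'] [Algebra K A']
        (f : A →ₐ[K] A') (g : B →ₐ[K] A),
        η A' (f.comp g) = (η A g).map f.toRingHom :=
  ⟨B K d, inferInstance, inferInstance, inferInstance, fun A _ _ => eta,
    fun A A' _ _ _ _ f g => eta_natural f g⟩

end Groth.Agent.Helper6.BasedRep
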