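import Mathlib

set_option autoImplicit false

namespace Groth.Agent.Helper6.FGSep

variable {G : Type*} [CommGroup G]

/-- A maximal subgroup avoiding `x`. -/
theorem exists_maximal_avoiding (A : Subgroup G) (x : G) (hx : x ∉ A) :
    ∃ N : Subgroup G, A ≤ N ∧ x ∉ N ∧ ∀ M : Subgroup G, N ≤ M → x ∉ M → M = N := by
  have := zorn_le_nonempty₀ {N : Subgroup G | A ≤ N ∧ x ∉ N} ?_ A ⟨le_rfl, hx⟩
  · obtain ⟨N, hAN, hmax⟩ := this
    refine ⟨N, hmax.prop.1, hmax.prop.2, fun M hNM hxM => ?_⟩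
    exact le_antisymm (hmax.le_of_ge ⟨hmax.prop.1.trans hNM, hxM⟩ hNM) hNM
  · intro c hc hchain y hy
    refine ⟨sSup c, ⟨?_, ?_⟩, fun z hz => le_sSup hz⟩
    · exact (hc hy).1.trans (le_sSup hy)
    · intro hmem
      rw [Subgroup.mem_sSup_of_directedOn ⟨y, hy⟩ hchain.directedOn] at hmem
      obtain ⟨N, hN, hxN⟩ := hmem
      exact (hc hN).2 hxN

theorem exists_pow_mem_of_maximal (N : Subgroup G) (x : G) (hx : x ∉ N)
    (hmax : ∀ M : Subgroup G, N ≤ M → x ∉ M → M = N) (y : G) :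
    ∃ n : ℕ, 0 < n ∧ y ^ n ∈ N := by
  -- some nonzero integer power of y lies in N
  have key : ∃ m : ℤ, m ≠ 0 ∧ y ^ m ∈ N := by
    by_cases hy : y ∈ N
    · exact ⟨1, one_ne_zero, by simpa using hy⟩
    have h1 : x ∈ N ⊔ Subgroup.zpowers y := by
      by_contra hcon
      have := hmax _ le_sup_left hcon
      apply hy
      rw [← this]
      exact Subgroup.mem_sup_right (Subgroup.mem_zpowers y)
    obtain ⟨a, ha, b, hb, hab⟩ := Subgroup.mem_sup.1 h1
    obtain ⟨m, rfl⟩ := Subgroup.mem_zpowers_iff.1 hb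
    have hm : m ≠ 0 := by
      rintro rfl
      apply hx
      rw [← hab, zpow_zero, mul_one]
      exact ha
    by_cases hy2 : y ^ (2 * m) ∈ N
    · exact ⟨2 * m, by omega, hy2⟩
    have h2 : x ∈ N ⊔ Subgroup.zpowers (y ^ (2 * m)) := by
      by_contra hcon
      have := hmax _ le_sup_left hcon
      apply hy2
      rw [← this]
      exact Subgroup.mem_sup_right (Subgroup.mem_zpowers _)
    obtain ⟨a', ha', b', hb', hab'⟩ := Subgroup.mem_sup.1 h2
    obtain ⟨k, rfl⟩ := Subgroup.mem_zpowers_iff.1 hb'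
    refine ⟨m * (1 - 2 * k), mul_ne_zero hm (by omega), ?_⟩
    have e : y ^ (m * (1 - 2 * k)) = a' * a⁻¹ := by
      have h3 : a * y ^ m = a' * (y ^ (2 * m)) ^ k := hab.trans hab'.symm
      rw [← zpow_mul] at h3
      have h4 : y ^ (m * (1 - 2 * k)) = y ^ m * (y ^ (2 * m * k))⁻¹ := by
        rw [← zpow_neg, ← zpow_add]
        congr 1
        ring
      rw [h4]
      have h5 : y ^ m = a⁻¹ * (a' * y ^ (2 * m * k)) := by
        rw [← h3, inv_mul_cancel_left]
      rw [h5]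
      have : a⁻¹ * (a' * y ^ (2 * m * k)) * (y ^ (2 * m * k))⁻¹ = a' * a⁻¹ := by
        rw [mul_assoc, mul_assoc, mul_inv_cancel, mul_one, mul_comm]
      exact this
    rw [e]
    exact N.mul_mem ha' (N.inv_mem ha)
  obtain ⟨m, hm, hmem⟩ := key
  refine ⟨m.natAbs, Int.natAbs_pos.2 hm, ?_⟩
  rcases Int.natAbs_eq m with h | h
  · rw [h, zpow_natCast] at hmem
    exact hmem
  · rw [h, zpow_neg, zpow_natCast] at hmem
    exact (N.inv_mem_iff).1 hmem

/-- Subgroups of a finitely generated abelian group are closed in the profinite topology. -/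
theorem exists_finiteIndex_avoiding [Group.FG G] (A : Subgroup G) (x : G) (hx : x ∉ A) :
    ∃ N : Subgroup G, A ≤ N ∧ x ∉ N ∧ N.FiniteIndex := by
  obtain ⟨N, hAN, hxN, hmax⟩ := exists_maximal_avoiding A x hx
  refine ⟨N, hAN, hxN, ?_⟩
  have htors : IsMulTorsion (G ⧸ N) := by
    intro q
    obtain ⟨y, rfl⟩ := QuotientGroup.mk_surjective q
    obtain ⟨n, hn, hmem⟩ := exists_pow_mem_of_maximal N x hxN hmax y
    rw [isOfFinOrder_iff_pow_eq_one]
    refine ⟨n, hn, ?_⟩
    rw [← QuotientGroup.mk_pow, QuotientGroup.eq_one_iff]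
    exact hmem
  haveI : Finite (G ⧸ N) := CommGroup.finite_of_fg_isMulTorsion (G ⧸ N) htors
  exact Subgroup.finiteIndex_of_finite_quotient

end Groth.Agent.Helper6.FGSep
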