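import Mathlib

/-!
Abelian groups having a nonzero element `a` contained in every nonzero subgroup
("cocyclic" groups).
-/

namespace Groth.Agent.Helper6.SocleGroup

variable {A : Type*} [AddCommGroup A]

/-- elements of prime order are multiples of `a`. -/
theorem prime_torsion_mem_zmultiples (a : A) (ha : a ≠ 0)
    (h : ∀ B : AddSubgroup A, B ≠ ⊥ → a ∈ B)
    (p : ℕ) (hp : p.Prime) (x : A) (hx : p • x = 0) : x ∈ AddSubgroup.zmultiples a := by
  by_cases hx0 : x = 0
  · rw [hx0]; exact zero_mem _
  have hmem : a ∈ AddSubgroup.zmultiples x := h _ (by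
    intro hbot
    apply hx0
    have : x ∈ AddSubgroup.zmultiples x := AddSubgroup.mem_zmultiples x
    rw [hbot] at this
    exact (AddSubgroup.mem_bot).1 this)
  obtain ⟨k, hk⟩ := AddSubgroup.mem_zmultiples_iff.1 hmem
  have hpk : ¬ (p : ℤ) ∣ k := by
    rintro ⟨k', rfl⟩
    apply ha
    rw [← hk, mul_comm, mul_smul, natCast_zsmul, hx, smul_zero]
  have hcop : IsCoprime (p : ℤ) k := by
    rw [Int.isCoprime_iff_gcd_eq_one, Int.gcd_eq_natAbs, Int.natAbs_natCast]
    apply (Nat.Prime.coprime_iff_not_dvd hp).2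
    intro hd
    exact hpk (Int.natCast_dvd.2 hd)
  obtain ⟨u, v, huv⟩ := hcop
  have : x = v • a := by
    calc x = (1 : ℤ) • x := (one_smul _ _).symm
      _ = (u * p + v * k) • x := by rw [huv]
      _ = u • ((p : ℤ) • x) + v • (k • x) := by rw [add_smul, mul_smul, mul_smul]
      _ = v • a := by rw [natCast_zsmul, hx, smul_zero, zero_add, hk]
  rw [this]
  exact AddSubgroup.zsmul_mem _ (AddSubgroup.mem_zmultiples a) v

theorem torsion_finite (a : A) (ha : a ≠ 0) (h : ∀ B : AddSubgroup A, B ≠ ⊥ → a ∈ B)
    (hfin : (AddSubgroup.zmultiples a : Set A).Finite) :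
    ∀ m : ℕ, 0 < m → {x : A | m • x = 0}.Finite := by
  intro m
  induction m using Nat.strong_induction_on with
  | _ m ih =>
    intro hm
    by_cases h1 : m = 1
    · subst h1
      simp
    obtain ⟨p, hp, m', rfl⟩ : ∃ p, p.Prime ∧ ∃ m', m = p * m' :=
      ⟨m.minFac, Nat.minFac_prime h1, Nat.minFac_dvd m⟩
    have hm' : 0 < m' := Nat.pos_of_mul_pos_left hm
    have hlt : m' < p * m' := by
      have := hp.two_le
      nlinarith
    have ih' := ih m' hlt hm'
    have hpre : {x : A | (p * m') • x = 0} = (fun x => p • x) ⁻¹' {y | m' • y = 0} := by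
      ext x
      simp only [Set.mem_ofPred_eq, Set.mem_preimage]
      rw [mul_comm, mul_smul]
    rw [hpre]
    apply Set.Finite.preimage' ih'
    intro b _
    by_cases hne : ((fun x : A => p • x) ⁻¹' {b}).Nonempty
    · obtain ⟨x0, hx0⟩ := hne
      apply Set.Finite.subset (hfin.image (fun z => x0 + z))
      intro x hx
      refine ⟨x - x0, ?_, by simp⟩
      apply prime_torsion_mem_zmultiples a ha h p hp
      have hx' : p • x = b := hx
      have hx0' : p • x0 = b := hx0
      rw [smul_sub, hx', hx0', sub_self]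
    · rw [Set.not_nonempty_iff_eq_empty.1 hne]
      exact Set.finite_empty

/-- An abelian group of finite exponent having a nonzero element contained in every nonzero
subgroup is finite. -/
theorem finite_of_exponent (hA : AddMonoid.exponent A ≠ 0) (a : A) (ha : a ≠ 0)
    (h : ∀ B : AddSubgroup A, B ≠ ⊥ → a ∈ B) : Finite A := by
  classical
  have hex : AddMonoid.ExponentExists A := AddMonoid.exponent_ne_zero.1 hA
  have hfo : IsOfFinAddOrder a := hex.isOfFinAddOrder
  have hfin : (AddSubgroup.zmultiples a : Set A).Finite := by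
    apply Set.Finite.subset (Finset.finite_toSet ((Finset.range (addOrderOf a)).image (· • a)))
    intro y hy
    exact hfo.mem_zmultiples_iff_mem_range_addOrderOf.1 hy
  have := torsion_finite a ha h hfin (AddMonoid.exponent A) (Nat.pos_of_ne_zero hA)
  have huniv : {x : A | AddMonoid.exponent A • x = 0} = Set.univ := by
    ext x
    simp [AddMonoid.exponent_nsmul_eq_zero]
  rw [huniv] at this
  exact Set.finite_univ_iff.1 this

open DirectSum in
theorem exists_zmod (A : Type*) [AddCommGroup A] [Finite A]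
    (a : A) (ha : a ≠ 0) (h : ∀ B : AddSubgroup A, B ≠ ⊥ → a ∈ B) :
    ∃ p n : ℕ, p.Prime ∧ Nonempty (A ≃+ ZMod (p ^ n)) := by
  classical
  obtain ⟨ι, _, p, hp, e, ⟨φ⟩⟩ := AddCommGroup.equiv_directSum_zmod_of_finite A
  -- for i with e i ≠ 0, φ a lies in the i-th summand
  have hone : ∀ i, e i ≠ 0 → (1 : ZMod (p i ^ e i)) ≠ 0 := by
    intro i hi
    have : Fact (1 < p i ^ e i) := ⟨Nat.one_lt_pow hi (hp i).one_lt⟩
    exact one_ne_zero
  have hmem : ∀ i, e i ≠ 0 → ∃ z : ZMod (p i ^ e i), φ a = DirectSum.of (fun i => ZMod (p i ^ e i)) i z := by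
    intro i hi
    have := h ((AddMonoidHom.range (DirectSum.of (fun i => ZMod (p i ^ e i)) i)).comap φ.toAddMonoidHom) (by
      intro hbot
      have h1 : φ.symm (DirectSum.of (fun i => ZMod (p i ^ e i)) i 1) ∈
          (AddMonoidHom.range (DirectSum.of (fun i => ZMod (p i ^ e i)) i)).comap φ.toAddMonoidHom := by
        rw [AddSubgroup.mem_comap]
        exact ⟨1, by simp⟩
      rw [hbot, AddSubgroup.mem_bot] at h1
      have h2 : DirectSum.of (fun i => ZMod (p i ^ e i)) i 1 = 0 := by
        have := congrArg φ h1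
        simpa using this
      have h3 := congrArg (fun f => f i) h2
      simp only [DirectSum.of_eq_same, DirectSum.zero_apply] at h3
      exact hone i hi h3)
    rw [AddSubgroup.mem_comap] at this
    obtain ⟨z, hz⟩ := this
    exact ⟨z, hz.symm⟩
  have huniq : ∀ i j, e i ≠ 0 → e j ≠ 0 → i = j := by
    intro i j hi hj
    by_contra hij
    obtain ⟨zi, hzi⟩ := hmem i hi
    obtain ⟨zj, hzj⟩ := hmem j hj
    have hzi0 : zi = 0 := by
      have := congrArg (fun f => f i) (hzi.symm.trans hzj)
      simp only [DirectSum.of_eq_same] at this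
      rw [this]
      exact DirectSum.of_eq_of_ne (β := fun i => ZMod (p i ^ e i)) j i zj hij
    apply ha
    apply φ.injective
    rw [hzi, hzi0, map_zero, map_zero]
  have hex : ∃ i, e i ≠ 0 := by
    by_contra hne
    push Not at hne
    apply ha
    apply φ.injective
    rw [map_zero]
    apply DirectSum.ext
    intro i
    have : Subsingleton (ZMod (p i ^ e i)) := by
      rw [hne i, pow_zero]
      infer_instance
    exact Subsingleton.elim _ _
  obtain ⟨i0, hi0⟩ := hex
  refine ⟨p i0, e i0, hp i0, ⟨?_⟩⟩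
  let ψ : A →+ ZMod (p i0 ^ e i0) := (DFinsupp.evalAddMonoidHom i0).comp φ.toAddMonoidHom
  have hψ : ∀ x, ψ x = (φ x) i0 := fun x => rfl
  refine AddEquiv.ofBijective ψ ⟨?_, ?_⟩
  · rw [injective_iff_map_eq_zero]
    intro x hx
    apply φ.injective
    rw [map_zero]
    apply DirectSum.ext
    intro i
    by_cases hi : i = i0
    · subst hi
      rw [← hψ, hx]; rfl
    · have : e i = 0 := by
        by_contra hne
        exact hi (huniq i i0 hne hi0)
      have : Subsingleton (ZMod (p i ^ e i)) := by
        rw [this, pow_zero]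
        infer_instance
      exact Subsingleton.elim _ _
  · intro z
    refine ⟨φ.symm (DirectSum.of (fun i => ZMod (p i ^ e i)) i0 z), ?_⟩
    rw [hψ]
    simp

end Groth.Agent.Helper6.SocleGroup
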