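import Mathlib
import Groth.Agent.Helper6.SocleGroup
import Groth.Agent.Helper6.FGSep

set_option autoImplicit false

namespace Groth.Agent.Helper6.BddSep

open Groth.Agent.Helper6.FGSep

/-- In an abelian group of finite exponent, a maximal subgroup avoiding `f` has finite index. -/
theorem finiteIndex_of_maximal_avoiding {E : Type*} [CommGroup E] (m : ℕ) (hm : 0 < m)
    (hE : ∀ x : E, x ^ m = 1) (M : Subgroup E) (f : E) (hf : f ∉ M)
    (hmax : ∀ M' : Subgroup E, M ≤ M' → f ∉ M' → M' = M) : M.FiniteIndex := by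
  have hexp : AddMonoid.exponent (Additive (E ⧸ M)) ≠ 0 := by
    rw [AddMonoid.exponent_additive, Monoid.exponent_ne_zero]
    refine ⟨m, hm, fun q => ?_⟩
    obtain ⟨x, rfl⟩ := QuotientGroup.mk_surjective q
    rw [← QuotientGroup.mk_pow, hE, QuotientGroup.mk_one]
  have ha : Additive.ofMul (QuotientGroup.mk f : E ⧸ M) ≠ 0 := by
    intro h0
    apply hf
    have : (QuotientGroup.mk f : E ⧸ M) = 1 := h0
    exact (QuotientGroup.eq_one_iff f).1 this
  have hsoc : ∀ B : AddSubgroup (Additive (E ⧸ M)), B ≠ ⊥ →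
      Additive.ofMul (QuotientGroup.mk f : E ⧸ M) ∈ B := by
    intro B hB
    rw [← AddSubgroup.mem_toSubgroup']
    set B' : Subgroup (E ⧸ M) := AddSubgroup.toSubgroup' B with hB'
    have hB'ne : B' ≠ ⊥ := by
      intro h0
      apply hB
      have : AddSubgroup.toSubgroup' B = AddSubgroup.toSubgroup' ⊥ := by
        rw [← hB', h0]
        exact (map_bot AddSubgroup.toSubgroup').symm
      exact AddSubgroup.toSubgroup'.injective this
    by_contra hfB
    have h1 : M ≤ B'.comap (QuotientGroup.mk' M) := by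
      intro x hx
      rw [Subgroup.mem_comap, QuotientGroup.mk'_apply, (QuotientGroup.eq_one_iff x).2 hx]
      exact B'.one_mem
    have h2 : f ∉ B'.comap (QuotientGroup.mk' M) := by
      rw [Subgroup.mem_comap]
      exact hfB
    have h3 := hmax _ h1 h2
    apply hB'ne
    rw [Subgroup.eq_bot_iff_forall]
    intro q hq
    obtain ⟨x, rfl⟩ := QuotientGroup.mk_surjective q
    have hx : x ∈ B'.comap (QuotientGroup.mk' M) := hq
    rw [h3] at hx
    exact (QuotientGroup.eq_one_iff x).2 hx
  have hfin : Finite (Additive (E ⧸ M)) :=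
    Groth.Agent.Helper6.SocleGroup.finite_of_exponent hexp _ ha hsoc
  haveI : Finite (E ⧸ M) := hfin
  exact Subgroup.finiteIndex_of_finite_quotient

/-- In an abelian group of finite exponent, a finite subgroup is avoided by a finite-index
subgroup. -/
theorem exists_finiteIndex_disjoint_of_exponent {E : Type*} [CommGroup E] (m : ℕ) (hm : 0 < m)
    (hE : ∀ x : E, x ^ m = 1) (F : Set E) (hF : F.Finite) (hF1 : (1 : E) ∉ F) :
    ∃ H : Subgroup E, H.FiniteIndex ∧ ∀ f ∈ F, f ∉ H := by
  classical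
  induction F, hF using Set.Finite.induction_on with
  | empty => exact ⟨⊤, inferInstance, fun f hf => absurd hf (Set.notMem_empty f)⟩
  | insert ha hs ih =>
    rename_i a s
    have h1s : (1 : E) ∉ s := fun h => hF1 (Set.mem_insert_of_mem _ h)
    have ha1 : a ≠ 1 := fun h => hF1 (h ▸ Set.mem_insert _ _)
    obtain ⟨H, hH, hHs⟩ := ih h1s
    have hab : a ∉ (⊥ : Subgroup E) := by
      rw [Subgroup.mem_bot]; exact ha1
    obtain ⟨M, _, haM, hmax⟩ := exists_maximal_avoiding (⊥ : Subgroup E) a hab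
    haveI := finiteIndex_of_maximal_avoiding m hm hE M a haM hmax
    refine ⟨H ⊓ M, inferInstance, fun f hf hfH => ?_⟩
    rcases hf with rfl | hf
    · exact haM hfH.2
    · exact hHs f hf hfH.1


/-- The profinite topology of `A` induces the profinite topology of `A'` when the torsion of
`A ⧸ A'` is bounded. -/
theorem exists_finiteIndex_comap_le {A : Type*} [CommGroup A] (A' : Subgroup A)
    (htors : ∃ N : ℕ, 0 < N ∧ ∀ x : A ⧸ A', IsOfFinOrder x → x ^ N = 1)
    (H' : Subgroup A') [H'.FiniteIndex] :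
    ∃ H : Subgroup A, H.FiniteIndex ∧ ∀ a' : A', (a' : A) ∈ H → a' ∈ H' := by
  classical
  obtain ⟨N, hN, htorsN⟩ := htors
  set P : Subgroup A := H'.map A'.subtype with hP
  set e := H'.index with he
  have he0 : e ≠ 0 := Subgroup.FiniteIndex.index_ne_zero
  set m := N * e with hm
  have hm0 : 0 < m := Nat.mul_pos hN (Nat.pos_of_ne_zero he0)
  set Am : Subgroup A := (powMonoidHom m : A →* A).range with hAm
  set K : Subgroup A := P ⊔ Am with hK
  have hmemP : ∀ a' : A', (a' : A) ∈ P → a' ∈ H' := by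
    intro a' ha'
    obtain ⟨b, hb, hba⟩ := Subgroup.mem_map.1 ha'
    have : b = a' := Subtype.ext hba
    rwa [← this]
  have claim1 : ∀ a' : A', (a' : A) ∈ K → a' ∈ H' := by
    intro a' ha'
    obtain ⟨p, hp, c, hc, hpc⟩ := Subgroup.mem_sup.1 ha'
    obtain ⟨b, rfl⟩ := hc
    have hpA' : p ∈ A' := by
      obtain ⟨b', _, rfl⟩ := Subgroup.mem_map.1 hp
      exact b'.2
    have hbm : b ^ m ∈ A' := by
      have : (powMonoidHom m : A →* A) b = p⁻¹ * a' := by
        rw [← hpc, inv_mul_cancel_left]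
      rw [powMonoidHom_apply] at this
      rw [this]
      exact A'.mul_mem (A'.inv_mem hpA') a'.2
    have hbN : b ^ N ∈ A' := by
      have h1 : (QuotientGroup.mk b : A ⧸ A') ^ m = 1 := by
        rw [← QuotientGroup.mk_pow, QuotientGroup.eq_one_iff]
        exact hbm
      have h2 : IsOfFinOrder (QuotientGroup.mk b : A ⧸ A') :=
        isOfFinOrder_iff_pow_eq_one.2 ⟨m, hm0, h1⟩
      have h3 := htorsN _ h2
      rw [← QuotientGroup.mk_pow, QuotientGroup.eq_one_iff] at h3
      exact h3
    have hbmP : b ^ m ∈ P := by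
      have h4 : (⟨b ^ N, hbN⟩ : A') ^ e ∈ H' := Subgroup.pow_index_mem H' _
      have h5 : A'.subtype ((⟨b ^ N, hbN⟩ : A') ^ e) = b ^ m := by
        rw [map_pow, Subgroup.subtype_apply, hm, pow_mul]
      rw [← h5]
      exact Subgroup.mem_map_of_mem _ h4
    apply hmemP
    rw [← hpc, powMonoidHom_apply]
    exact P.mul_mem hp hbmP
  -- the quotient of finite exponent
  have hE : ∀ x : A ⧸ K, x ^ m = 1 := by
    intro q
    obtain ⟨x, rfl⟩ := QuotientGroup.mk_surjective q
    rw [← QuotientGroup.mk_pow, QuotientGroup.eq_one_iff]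
    exact Subgroup.mem_sup_right ⟨x, rfl⟩
  let φ : A' →* A ⧸ K := (QuotientGroup.mk' K).comp A'.subtype
  have hφker : ∀ a' ∈ H', φ a' = 1 := by
    intro a' ha'
    change (QuotientGroup.mk (a' : A) : A ⧸ K) = 1
    rw [QuotientGroup.eq_one_iff]
    exact Subgroup.mem_sup_left (Subgroup.mem_map_of_mem _ ha')
  have hfinrange : (Set.range φ).Finite := by
    haveI : Finite (A' ⧸ H') := Subgroup.finite_quotient_of_finiteIndex
    have : Set.range φ = Set.range (QuotientGroup.lift H' φ hφker) := by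
      ext y
      constructor
      · rintro ⟨a', rfl⟩
        exact ⟨QuotientGroup.mk a', rfl⟩
      · rintro ⟨q, rfl⟩
        obtain ⟨a', rfl⟩ := QuotientGroup.mk_surjective q
        exact ⟨a', rfl⟩
    rw [this]
    exact Set.finite_range _
  obtain ⟨Ht, hHt, hav⟩ := exists_finiteIndex_disjoint_of_exponent m hm0 hE
    (Set.range φ \ {1}) (hfinrange.subset Set.diff_subset) (by simp)
  refine ⟨Ht.comap (QuotientGroup.mk' K), ?_, ?_⟩
  · refine ⟨?_⟩
    rw [Subgroup.index_comap_of_surjective _ (QuotientGroup.mk'_surjective K)]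
    exact Subgroup.FiniteIndex.index_ne_zero
  · intro a' ha'
    apply claim1
    have h1 : φ a' ∈ Ht := ha'
    by_contra hnot
    have h2 : φ a' ≠ 1 := by
      intro h0
      apply hnot
      exact (QuotientGroup.eq_one_iff (a' : A)).1 h0
    exact hav (φ a') ⟨⟨a', rfl⟩, h2⟩ h1

end Groth.Agent.Helper6.BddSep
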