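import Mathlib
import Groth.Agent.Helper7.Kap5

/-!
# Bass: big projective modules — unimodular elements

`ord R x` is the order ideal `{φ x | φ ∈ P^*}`.  For a projective module `P` whose localizations at
all maximal ideals are not finitely generated, over a ring `R` with `R / rad R` Noetherian, and
`Rs + M = P`, there is `m ∈ M` with `s + m` unimodular (`main`).
-/

namespace Groth.Agent.Helper6.BigProj

universe u

variable {R : Type u} [CommRing R] {P : Type u} [AddCommGroup P] [Module R P]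

/-- The order ideal of `x`: all values `φ x` for linear forms `φ`. -/
def ord (R : Type u) [CommRing R] {P : Type u} [AddCommGroup P] [Module R P] (x : P) : Ideal R where
  carrier := {r | ∃ φ : P →ₗ[R] R, φ x = r}
  add_mem' := by
    rintro _ _ ⟨φ, rfl⟩ ⟨ψ, rfl⟩
    exact ⟨φ + ψ, rfl⟩
  zero_mem' := ⟨0, rfl⟩
  smul_mem' := by
    rintro c _ ⟨φ, rfl⟩
    exact ⟨c • φ, rfl⟩

theorem mem_ord {x : P} {r : R} : r ∈ ord R x ↔ ∃ φ : P →ₗ[R] R, φ x = r := Iff.rfl

theorem apply_mem_ord (φ : P →ₗ[R] R) (x : P) : φ x ∈ ord R x := ⟨φ, rfl⟩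

theorem mem_smul_top_of_ord_le [Module.Projective R P] {x : P} {I : Ideal R}
    (h : ord R x ≤ I) : x ∈ I • (⊤ : Submodule R P) := by
  obtain ⟨σ, hσ⟩ := (Module.projective_def'.1 ‹_› :
    ∃ σ : P →ₗ[R] P →₀ R, Finsupp.linearCombination R id ∘ₗ σ = LinearMap.id)
  have hx : Finsupp.linearCombination R id (σ x) = x := LinearMap.congr_fun hσ x
  rw [← hx, Finsupp.linearCombination_apply, Finsupp.sum]
  refine Submodule.sum_mem _ (fun p _ => ?_)
  refine Submodule.smul_mem_smul (h ?_) trivial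
  exact ⟨Finsupp.lapply p ∘ₗ σ, rfl⟩


theorem isNoetherian_of_surj {R A N : Type*} [CommRing R] [CommRing A] [Algebra R A]
    [AddCommGroup N] [Module R N] [Module A N] [IsScalarTower R A N]
    (hs : Function.Surjective (algebraMap R A)) [IsNoetherian A N] : IsNoetherian R N := by
  refine ⟨fun s => ?_⟩
  have h1 : (Submodule.span A (s : Set N)).FG := IsNoetherian.noetherian _
  obtain ⟨t, _, ht⟩ := (Submodule.fg_span_iff_fg_span_finset_subset _).1 h1
  refine ⟨t, ?_⟩
  have h2 := Submodule.restrictScalars_span R A hs (s : Set N)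
  have h3 := Submodule.restrictScalars_span R A hs (t : Set N)
  rw [Submodule.span_eq] at h2
  rw [← h3, ← ht, h2]

/-- A projective module over a local ring that is finitely generated modulo the maximal ideal
(in the weak sense `L ⊔ 𝔪P = ⊤` with `L` f.g., pulled back along a localization) is finite. -/
theorem finite_localized_of_sup_smul_top [Module.Projective R P] (𝔪 : Ideal R) [𝔪.IsMaximal]
    (L : Submodule R P) (hL : L.FG) (htop : L ⊔ 𝔪 • (⊤ : Submodule R P) = ⊤) :
    Module.Finite (Localization.AtPrime 𝔪) (LocalizedModule 𝔪.primeCompl P) := by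
  classical
  set A := Localization.AtPrime 𝔪
  set Q := LocalizedModule 𝔪.primeCompl P
  haveI : Module.Free A Q := Groth.Agent.Helper7.Kap.result0582 A Q
  let b := Module.Free.chooseBasis A Q
  let f : P →ₗ[R] Q := LocalizedModule.mkLinearMap 𝔪.primeCompl P
  obtain ⟨t, ht⟩ := hL
  let T : Finset (Module.Free.ChooseBasisIndex A Q) := t.biUnion (fun l => (b.repr (f l)).support)
  have hall : ∀ i, i ∈ T := by
    intro i
    by_contra hi
    let c : Q →ₗ[A] A := b.coord i
    let cf : P →ₗ[R] A := (c.restrictScalars R) ∘ₗ f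
    have hLker : L ≤ LinearMap.ker cf := by
      rw [← ht, Submodule.span_le]
      intro g hg
      rw [SetLike.mem_coe, LinearMap.mem_ker]
      change b.coord i (f g) = 0
      rw [Module.Basis.coord_apply]
      by_contra hne
      exact hi (Finset.mem_biUnion.2 ⟨g, hg, Finsupp.mem_support_iff.2 hne⟩)
    have hmem : ∀ p : P, cf p ∈ IsLocalRing.maximalIdeal A := by
      intro p
      have hp : p ∈ L ⊔ 𝔪 • (⊤ : Submodule R P) := by rw [htop]; exact Submodule.mem_top
      obtain ⟨l, hl, n, hn, rfl⟩ := Submodule.mem_sup.1 hp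
      rw [map_add, LinearMap.mem_ker.1 (hLker hl), zero_add]
      refine Submodule.smul_induction_on hn (fun a ha p' _ => ?_) (fun x y hx hy => ?_)
      · rw [map_smul, Algebra.smul_def]
        refine Ideal.mul_mem_right _ _ ?_
        rw [← Localization.AtPrime.map_eq_maximalIdeal]
        exact Ideal.mem_map_of_mem _ ha
      · rw [map_add]; exact Ideal.add_mem _ hx hy
    have h1 : c (b i) = 1 := by
      change b.coord i (b i) = 1
      rw [Module.Basis.coord_apply, Module.Basis.repr_self, Finsupp.single_eq_same]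
    induction' hbi : b i using LocalizedModule.induction_on with p s
    have h2 : (s : R) • (LocalizedModule.mk p s : Q) = f p := by
      rw [LocalizedModule.smul'_mk, LocalizedModule.mkLinearMap_apply]
      exact LocalizedModule.mk_cancel s p
    have h3 : cf p = algebraMap R A (s : R) := by
      change c (f p) = _
      rw [← h2, ← hbi, ← algebraMap_smul A (s : R) (b i), map_smul, h1, smul_eq_mul, mul_one]
    have h4 := hmem p
    rw [h3] at h4
    have h5 : IsUnit (algebraMap R A (s : R)) := IsLocalization.map_units A s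
    exact (IsLocalRing.maximalIdeal.isMaximal A).ne_top (Ideal.eq_top_of_isUnit_mem _ h4 h5)
  haveI : Finite (Module.Free.ChooseBasisIndex A Q) :=
    Finite.of_injective (fun i => (⟨i, hall i⟩ : T)) (fun i j h => by simpa using h)
  exact Module.Finite.of_basis b

/-- `P / 𝔪P` is not finitely generated, for every maximal ideal `𝔪`. -/
def Big (R : Type u) [CommRing R] (P : Type u) [AddCommGroup P] [Module R P] : Prop :=
  ∀ (𝔪 : Ideal R), 𝔪.IsMaximal → ∀ L : Submodule R P, L.FG →
    L ⊔ 𝔪 • (⊤ : Submodule R P) ≠ ⊤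

theorem big_of_not_finite [Module.Projective R P]
    (hP : ∀ (m : Ideal R) [m.IsMaximal],
      ¬ Module.Finite (Localization.AtPrime m) (LocalizedModule m.primeCompl P)) : Big R P :=
  fun 𝔪 h𝔪 L hL htop => by
    haveI := h𝔪
    exact hP 𝔪 (finite_localized_of_sup_smul_top 𝔪 L hL htop)

/-- **Bass.** Unimodular elements in cosets of big projective modules. -/
theorem main' (R : Type u) [CommRing R] [IsNoetherianRing (R ⧸ (⊥ : Ideal R).jacobson)]
    (P : Type u) [AddCommGroup P] [Module R P] [Module.Projective R P]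
    (hB : Big R P)
    (s : P) (M : Submodule R P) (hM : Submodule.span R {s} ⊔ M = ⊤) :
    ∃ m ∈ M, ∃ φ : P →ₗ[R] R, φ (s + m) = 1 := by
  classical
  set J := (⊥ : Ideal R).jacobson with hJ
  set mk := Ideal.Quotient.mk J with hmk
  have hmkJ : Ideal.map mk J = ⊥ := Ideal.map_quotient_self J
  have hcm : ∀ I : Ideal R, (I.map mk).comap mk = I ⊔ J := by
    intro I
    rw [Ideal.comap_map_of_surjective mk Ideal.Quotient.mk_surjective,
      ← RingHom.ker_eq_comap_bot, Ideal.mk_ker]
  let T : Set (Ideal (R ⧸ J)) := {I | ∃ μ ∈ M, I = Ideal.map mk (ord R (s + μ) : Ideal R)}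
  have hTne : T.Nonempty := ⟨(ord R (s + 0)).map mk, 0, M.zero_mem, rfl⟩
  obtain ⟨I0, ⟨μ0, hμ0, rfl⟩, hmax⟩ :=
    set_has_maximal_iff_noetherian.2 (inferInstance : IsNoetherian (R ⧸ J) (R ⧸ J)) T hTne
  set α := s + μ0 with hα
  clear_value α
  have hJle : ∀ 𝔪 : Ideal R, 𝔪.IsMaximal → J ≤ 𝔪 := fun 𝔪 h𝔪 => sInf_le ⟨bot_le, h𝔪⟩
  by_cases htop : (ord R α).map mk = ⊤
  · have h1 : ord R α = ⊤ := by
      by_contra hne
      obtain ⟨𝔪, h𝔪, hle⟩ := Ideal.exists_le_maximal _ hne
      have h2 : (ord R α).map mk ≤ 𝔪.map mk := Ideal.map_mono hle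
      rw [htop, top_le_iff] at h2
      have h3 := hcm 𝔪
      rw [h2, Ideal.comap_top, sup_eq_left.2 (hJle 𝔪 h𝔪)] at h3
      exact h𝔪.ne_top h3.symm
    obtain ⟨φ, hφ⟩ : (1 : R) ∈ ord R α := h1 ▸ Submodule.mem_top
    exact ⟨μ0, hμ0, φ, hα ▸ hφ⟩
  · exfalso
    have hne : ord R α ⊔ J ≠ ⊤ := by
      intro h
      apply htop
      have h1 := congrArg (Ideal.map mk) h
      rw [Ideal.map_sup, hmkJ, sup_bot_eq, Ideal.map_top] at h1
      exact h1
    obtain ⟨𝔪, h𝔪, hle⟩ := Ideal.exists_le_maximal _ hne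
    have hα𝔪 : ord R α ≤ 𝔪 := le_sup_left.trans hle
    obtain ⟨σ, hσ⟩ := (Module.projective_def'.1 ‹_› :
      ∃ σ : P →ₗ[R] P →₀ R, Finsupp.linearCombination R id ∘ₗ σ = LinearMap.id)
    have hπσ : ∀ p, Finsupp.linearCombination R id (σ p) = p := fun p => LinearMap.congr_fun hσ p
    set S := (σ α).support with hS
    let Ψ : P →ₗ[R] (S → R ⧸ J) :=
      LinearMap.pi (fun p => (Ideal.Quotient.mkₐ R J).toLinearMap ∘ₗ Finsupp.lapply (p : P) ∘ₗ σ)
    have hΨ : ∀ (μ : P) (p : S), Ψ μ p = mk (σ μ p) := fun μ p => rfl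
    have key : ∀ μ ∈ M, Ψ μ = 0 → μ ∈ 𝔪 • (⊤ : Submodule R P) := by
      intro μ hμ hΨ0
      apply mem_smul_top_of_ord_le
      have hcoord : ∀ p ∈ S, σ μ p ∈ J := fun p hp => by
        have h1 := congrFun hΨ0 ⟨p, hp⟩
        rw [hΨ] at h1
        exact Ideal.Quotient.eq_zero_iff_mem.1 h1
      have h1 : ord R α ≤ ord R (α + μ) ⊔ J := by
        rintro _ ⟨φ, rfl⟩
        have h2 : φ α = ∑ p ∈ S, σ α p * φ p := by
          conv_lhs => rw [← hπσ α, Finsupp.linearCombination_apply, Finsupp.sum, map_sum]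
          refine Finset.sum_congr rfl (fun p _ => ?_)
          rw [map_smul, smul_eq_mul, id]
        rw [h2]
        refine Ideal.sum_mem _ (fun p hp => Ideal.mul_mem_right _ _ ?_)
        have h3 : σ α p = σ (α + μ) p - σ μ p := by
          rw [map_add, Finsupp.add_apply, add_sub_cancel_right]
        rw [h3]
        exact Ideal.sub_mem _ (Ideal.mem_sup_left ⟨Finsupp.lapply p ∘ₗ σ, rfl⟩)
          (Ideal.mem_sup_right (hcoord p hp))
      have h2 : (ord R α).map mk ≤ (ord R (α + μ)).map mk := by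
        calc (ord R α).map mk ≤ (ord R (α + μ) ⊔ J).map mk := Ideal.map_mono h1
          _ = (ord R (α + μ)).map mk := by rw [Ideal.map_sup, hmkJ, sup_bot_eq]
      have h3 : (ord R (α + μ)).map mk = (ord R α).map mk := by
        have hmem : (ord R (α + μ)).map mk ∈ T := ⟨μ0 + μ, M.add_mem hμ0 hμ, by rw [hα, add_assoc]⟩
        by_contra hne'
        exact hmax _ hmem (lt_of_le_of_ne h2 (Ne.symm hne'))
      rintro _ ⟨φ, rfl⟩
      have h4 : φ μ = φ (α + μ) - φ α := by rw [map_add, add_sub_cancel_left]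
      have h5 : mk (φ μ) ∈ (ord R α).map mk := by
        rw [h4, map_sub]
        refine Ideal.sub_mem _ ?_ (Ideal.mem_map_of_mem mk ⟨φ, rfl⟩)
        rw [← h3]
        exact Ideal.mem_map_of_mem mk ⟨φ, rfl⟩
      have h6 : φ μ ∈ ((ord R α).map mk).comap mk := h5
      rw [hcm] at h6
      exact hle h6
    haveI : IsNoetherian R (R ⧸ J) :=
      isNoetherian_of_surj (A := R ⧸ J) Ideal.Quotient.mk_surjective
    have hfg : (M.map Ψ).FG := IsNoetherian.noetherian _
    obtain ⟨t, ht⟩ := hfg
    have hch : ∀ y ∈ t, ∃ m ∈ M, Ψ m = y := by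
      intro y hy
      have : y ∈ M.map Ψ := ht ▸ Submodule.subset_span hy
      exact this
    choose! g hgM hgΨ using hch
    let L : Submodule R P := Submodule.span R (t.image g)
    have hLfg : L.FG := ⟨t.image g, rfl⟩
    have hLM : L ≤ M := by
      rw [Submodule.span_le]
      intro x hx
      obtain ⟨y, hy, rfl⟩ := Finset.mem_image.1 hx
      exact hgM y hy
    have hLΨ : M.map Ψ ≤ L.map Ψ := by
      rw [← ht, Submodule.span_le]
      intro y hy
      exact ⟨g y, Submodule.subset_span (Finset.mem_image_of_mem g hy), hgΨ y hy⟩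
    have hMle : M ≤ L ⊔ 𝔪 • (⊤ : Submodule R P) := by
      intro m hm
      obtain ⟨l, hl, hlm⟩ := hLΨ ⟨m, hm, rfl⟩
      have h1 : m - l ∈ 𝔪 • (⊤ : Submodule R P) :=
        key _ (M.sub_mem hm (hLM hl)) (by rw [map_sub, hlm, sub_self])
      have h2 : m = l + (m - l) := by abel
      rw [h2]
      exact Submodule.add_mem_sup hl h1
    have hαm : α ∈ 𝔪 • (⊤ : Submodule R P) := mem_smul_top_of_ord_le hα𝔪
    have hs : s ∈ L ⊔ 𝔪 • (⊤ : Submodule R P) := by
      have h1 : s = α - μ0 := by rw [hα, add_sub_cancel_right]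
      rw [h1]
      exact Submodule.sub_mem _ (Submodule.mem_sup_right hαm) (hMle hμ0)
    have htop' : L ⊔ 𝔪 • (⊤ : Submodule R P) = ⊤ := by
      refine eq_top_iff.2 (le_trans (le_of_eq hM.symm) ?_)
      exact sup_le ((Submodule.span_singleton_le_iff_mem _ _).2 hs) hMle
    exact hB 𝔪 h𝔪 L hLfg htop'

/-- **Bass.** Unimodular elements in cosets of big projective modules. -/
theorem main (R : Type u) [CommRing R] [IsNoetherianRing (R ⧸ (⊥ : Ideal R).jacobson)]
    (P : Type u) [AddCommGroup P] [Module R P] [Module.Projective R P]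
    (hP : ∀ (m : Ideal R) [m.IsMaximal],
      ¬ Module.Finite (Localization.AtPrime m) (LocalizedModule m.primeCompl P))
    (s : P) (M : Submodule R P) (hM : Submodule.span R {s} ⊔ M = ⊤) :
    ∃ m ∈ M, ∃ φ : P →ₗ[R] R, φ (s + m) = 1 :=
  main' R P (big_of_not_finite hP) s M hM

end Groth.Agent.Helper6.BigProj
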