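import Mathlib
import Groth.Agent.Helper6.BigProj1

/-!
# Bass: every element of a big projective module lies in a finite free direct summand
-/

namespace Groth.Agent.Helper6.BigProj

universe u

variable {R : Type u} [CommRing R]

theorem Big.of_surjective {P N : Type u} [AddCommGroup P] [Module R P] [AddCommGroup N]
    [Module R N] (f : N →ₗ[R] P) (hf : Function.Surjective f) (h : Big R P) : Big R N := by
  intro 𝔪 h𝔪 L hL htop
  apply h 𝔪 h𝔪 (L.map f) (hL.map f)
  have h1 := congrArg (Submodule.map f) htop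
  rw [Submodule.map_sup, Submodule.map_smul'', Submodule.map_top, LinearMap.range_eq_top.2 hf]
    at h1
  exact h1

theorem Big.of_surjective_of_fg_ker {P N : Type u} [AddCommGroup P] [Module R P] [AddCommGroup N]
    [Module R N] (f : P →ₗ[R] N) (hf : Function.Surjective f) (hk : (LinearMap.ker f).FG)
    (h : Big R P) : Big R N := by
  intro 𝔪 h𝔪 L hL htop
  have hL' : (L.comap f).FG := by
    refine Submodule.fg_of_fg_map_of_fg_inf_ker f ?_ ?_
    · rwa [Submodule.map_comap_eq_of_surjective hf]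
    · rw [inf_eq_right.2 (LinearMap.ker_le_comap f)]
      exact hk
  apply h 𝔪 h𝔪 (L.comap f) hL'
  rw [eq_top_iff]
  intro p _
  have h1 : f p ∈ L ⊔ 𝔪 • (⊤ : Submodule R N) := by rw [htop]; exact Submodule.mem_top
  obtain ⟨l, hl, n, hn, hln⟩ := Submodule.mem_sup.1 h1
  have h2 : 𝔪 • (⊤ : Submodule R N) = (𝔪 • (⊤ : Submodule R P)).map f := by
    rw [Submodule.map_smul'', Submodule.map_top, LinearMap.range_eq_top.2 hf]
  rw [h2] at hn
  obtain ⟨n', hn', rfl⟩ := hn
  have h3 : p = (p - n') + n' := by abel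
  rw [h3]
  refine Submodule.add_mem_sup ?_ hn'
  rw [Submodule.mem_comap, map_sub, ← hln, add_sub_cancel_right]
  exact hl

/-- Lemma 2: `(0, s)` lies in a finite free direct summand of `R^T × P`. -/
theorem exists_free_summand_prod {P : Type u} [AddCommGroup P] [Module R P]
    [Module.Projective R P] (s : P) :
    ∃ (T : Finset P) (K K' : Submodule R ((T → R) × P)), IsCompl K K' ∧
      Nonempty ((T → R) ≃ₗ[R] K) ∧ ((0 : T → R), s) ∈ K := by
  classical
  obtain ⟨σ, hσ⟩ := (Module.projective_def'.1 ‹_› :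
    ∃ σ : P →ₗ[R] P →₀ R, Finsupp.linearCombination R id ∘ₗ σ = LinearMap.id)
  set π : (P →₀ R) →ₗ[R] P := Finsupp.linearCombination R id with hπ
  have hπσ : ∀ p, π (σ p) = p := fun p => LinearMap.congr_fun hσ p
  set T := (σ s).support with hT
  refine ⟨T, ?_⟩
  -- ι : R^T → (P →₀ R), ρ : (P →₀ R) → R^T
  let ι : (T → R) →ₗ[R] (P →₀ R) :=
    (LinearMap.lsum R (fun _ : T => R) R (fun p : T => Finsupp.lsingle (p : P)))
  let ρ : (P →₀ R) →ₗ[R] (T → R) := LinearMap.pi (fun p : T => Finsupp.lapply (p : P))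
  have hιρ : ι (ρ (σ s)) = σ s := by
    have h0 : ι (ρ (σ s)) = ∑ p : T, Finsupp.single (p : P) ((σ s) (p : P)) := by
      simp only [ι, ρ, LinearMap.lsum_apply, LinearMap.sum_apply, LinearMap.comp_apply,
        LinearMap.proj_apply, Finsupp.lsingle_apply, LinearMap.pi_apply, Finsupp.lapply_apply]
    rw [h0, Finset.sum_coe_sort T (fun p => Finsupp.single p ((σ s) p))]
    exact Finsupp.sum_single (σ s)
  let a : (T → R) →ₗ[R] (T → R) × P :=
    LinearMap.prod (LinearMap.id - ρ ∘ₗ σ ∘ₗ π ∘ₗ ι) (π ∘ₗ ι)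
  let b : (T → R) × P →ₗ[R] (T → R) :=
    LinearMap.coprod LinearMap.id (ρ ∘ₗ σ)
  have hba : ∀ x, b (a x) = x := by
    intro x
    change (x - ρ (σ (π (ι x)))) + ρ (σ (π (ι x))) = x
    rw [sub_add_cancel]
  have hainj : Function.Injective a := fun x y h => by rw [← hba x, h, hba]
  have has : a (ρ (σ s)) = (0, s) := by
    change (ρ (σ s) - ρ (σ (π (ι (ρ (σ s))))), π (ι (ρ (σ s)))) = (0, s)
    rw [hιρ, hπσ, sub_self]
  refine ⟨LinearMap.range a, LinearMap.ker b, ?_, ⟨LinearEquiv.ofInjective a hainj⟩,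
    ⟨ρ (σ s), has⟩⟩
  constructor
  · rw [Submodule.disjoint_def]
    rintro _ ⟨x, rfl⟩ hx
    rw [LinearMap.mem_ker, hba] at hx
    rw [hx, map_zero]
  · rw [codisjoint_iff, eq_top_iff]
    intro y _
    have h1 : y = a (b y) + (y - a (b y)) := by abel
    rw [h1]
    refine Submodule.add_mem_sup ⟨_, rfl⟩ ?_
    rw [LinearMap.mem_ker, map_sub, hba, sub_self]


/-- The step: peel off one free rank-one factor. -/
theorem step [IsNoetherianRing (R ⧸ (⊥ : Ideal R).jacobson)] {P : Type u} [AddCommGroup P]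
    [Module R P] [Module.Projective R P] (hB : Big R P)
    (K K' : Submodule R (R × P)) (hc : IsCompl K K') (hK : K.FG) (s : P)
    (hs : ((0 : R), s) ∈ K) :
    ∃ K₁ K₁' : Submodule R P, IsCompl K₁ K₁' ∧ s ∈ K₁ ∧ Nonempty (K ≃ₗ[R] K₁) := by
  classical
  let q : (R × P) →ₗ[R] K' := K'.projectionOnto K hc.symm
  have hqK' : ∀ y : K', q (y : R × P) = y := Submodule.projectionOnto_apply_left hc.symm
  have hqker : LinearMap.ker q = K := Submodule.ker_projectionOnto hc.symm
  have hqsurj : Function.Surjective q := fun y => ⟨y, hqK' y⟩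
  haveI : Module.Projective R K' := Module.Projective.of_split K'.subtype q (LinearMap.ext hqK')
  have hBK' : Big R K' :=
    Big.of_surjective_of_fg_ker q hqsurj (hqker ▸ hK)
      (Big.of_surjective (LinearMap.snd R R P) LinearMap.snd_surjective hB)
  let s' : K' := q (1, 0)
  let M' : Submodule R K' := (LinearMap.range (LinearMap.inr R R P)).map q
  have hM' : Submodule.span R {s'} ⊔ M' = ⊤ := by
    rw [eq_top_iff]
    intro y _
    obtain ⟨⟨r, p⟩, rfl⟩ := hqsurj y
    have h1 : ((r, p) : R × P) = r • ((1 : R), (0 : P)) + ((0 : R), p) := by simp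
    rw [h1, map_add, map_smul]
    exact Submodule.add_mem_sup
      (Submodule.smul_mem _ _ (Submodule.mem_span_singleton_self _)) ⟨(0, p), ⟨p, rfl⟩, rfl⟩
  obtain ⟨m', hm', φ, hφ⟩ := main' R K' hBK' s' M' hM'
  obtain ⟨_, ⟨p₀, rfl⟩, rfl⟩ := hm'
  let Φ : (R × P) →ₗ[R] R := φ ∘ₗ q
  let v : R × P := (1, p₀)
  have hΦv : Φ v = 1 := by
    have h1 : v = ((1 : R), (0 : P)) + LinearMap.inr R R P p₀ := by simp [v]
    change φ (q v) = 1
    rw [h1, map_add]
    exact hφ
  have hΦK : ∀ k ∈ K, Φ k = 0 := fun k hk => by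
    have h1 : q k = 0 := by
      rw [← hqker] at hk
      exact LinearMap.mem_ker.1 hk
    change φ (q k) = 0
    rw [h1, map_zero]
  let ψ : (R × P) →ₗ[R] P := LinearMap.snd R R P - (LinearMap.fst R R P).smulRight p₀
  have hψ : ∀ z : R × P, ψ z = z.2 - z.1 • p₀ := fun z => rfl
  have hψker : ∀ z : R × P, ψ z = 0 → z = z.1 • v := by
    intro z hz
    rw [hψ, sub_eq_zero] at hz
    ext
    · simp [v]
    · simp [v, hz]
  have hΦsm : ∀ z : R × P, z = z.1 • v → Φ z = z.1 := by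
    intro z hz
    conv_lhs => rw [hz]
    rw [map_smul, hΦv, smul_eq_mul, mul_one]
  refine ⟨K.map ψ, (K' ⊓ LinearMap.ker Φ).map ψ, ⟨?_, ?_⟩, ⟨(0, s), hs, by simp [hψ]⟩, ?_⟩
  · rw [Submodule.disjoint_def]
    rintro x ⟨k, hk, rfl⟩ ⟨y, ⟨hyK', hyΦ⟩, hyx⟩
    have h1 : ψ (k - y) = 0 := by rw [map_sub, hyx, sub_self]
    have h2 := hψker _ h1
    have h3 : Φ (k - y) = (k - y).1 := hΦsm _ h2
    have h4 : (k - y).1 = 0 := by
      rw [← h3, map_sub, hΦK k hk, LinearMap.mem_ker.1 hyΦ, sub_zero]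
    have h5 : k - y = 0 := by rw [h2, h4, zero_smul]
    have h6 : k = y := sub_eq_zero.1 h5
    have h7 : k ∈ K ⊓ K' := ⟨hk, h6 ▸ hyK'⟩
    rw [hc.inf_eq_bot] at h7
    rw [(Submodule.mem_bot R).1 h7, map_zero]
  · rw [codisjoint_iff, eq_top_iff]
    intro p _
    have hdec : ((0 : R), p) ∈ K ⊔ K' := by rw [hc.sup_eq_top]; exact Submodule.mem_top
    obtain ⟨k, hk, k', hk', hkk'⟩ := Submodule.mem_sup.1 hdec
    set c := Φ k' with hc'
    have hqv : ((q v : K') : R × P) ∈ K' := (q v).2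
    have hvq : v - (q v : R × P) ∈ K := by
      rw [← hqker, LinearMap.mem_ker, map_sub, hqK', sub_self]
    have hΦqv : Φ (q v : R × P) = 1 := by
      change φ (q (q v : R × P)) = 1
      rw [hqK']
      exact hΦv
    have hψv : ψ v = 0 := by simp [hψ, v]
    have hp : ψ (k - c • (v - (q v : R × P))) + ψ (k' - c • (q v : R × P)) = p := by
      have h0 : ψ (k + k') = p := by rw [hkk']; simp [hψ]
      rw [← h0]
      simp only [map_add, map_sub, map_smul, hψv, zero_sub, smul_neg, sub_neg_eq_add]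
      abel
    rw [← hp]
    refine Submodule.add_mem_sup ⟨_, K.sub_mem hk (K.smul_mem c hvq), rfl⟩
      ⟨_, ⟨K'.sub_mem hk' (K'.smul_mem c hqv), ?_⟩, rfl⟩
    rw [SetLike.mem_coe, LinearMap.mem_ker, map_sub, map_smul, hΦqv, smul_eq_mul, mul_one, sub_self]
  · refine ⟨LinearEquiv.ofBijective (ψ.submoduleMap K) ⟨?_, ψ.submoduleMap_surjective K⟩⟩
    rw [← LinearMap.ker_eq_bot, LinearMap.ker_eq_bot']
    rintro ⟨k, hk⟩ h0
    have h1 : ψ k = 0 := congrArg Subtype.val h0
    have h2 := hψker k h1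
    have h3 : k.1 = 0 := by rw [← hΦsm k h2, hΦK k hk]
    apply Subtype.ext
    change k = 0
    rw [h2, h3, zero_smul]


theorem isCompl_map_equiv {A B : Type*} [AddCommGroup A] [Module R A] [AddCommGroup B]
    [Module R B] (e : A ≃ₗ[R] B) {K K' : Submodule R A} (h : IsCompl K K') :
    IsCompl (K.map e.toLinearMap) (K'.map e.toLinearMap) := by
  constructor
  · rw [Submodule.disjoint_def]
    rintro _ ⟨k, hk, rfl⟩ ⟨k', hk', h'⟩
    have h1 : k' = k := e.injective h'
    subst h1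
    have h2 : k' ∈ K ⊓ K' := ⟨hk, hk'⟩
    rw [h.inf_eq_bot] at h2
    rw [(Submodule.mem_bot R).1 h2, map_zero]
  · rw [codisjoint_iff, ← Submodule.map_sup, h.sup_eq_top, Submodule.map_top]
    exact LinearMap.range_eq_top.2 e.surjective

/-- `R^{n+1} × P ≃ R × (R^n × P)`. -/
def eSucc (R : Type u) [CommRing R] (P : Type u) [AddCommGroup P] [Module R P] (n : ℕ) :
    ((Fin (n + 1) → R) × P) ≃ₗ[R] (R × ((Fin n → R) × P)) where
  toFun z := (z.1 0, (Fin.tail z.1, z.2))
  map_add' _ _ := rfl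
  map_smul' _ _ := rfl
  invFun w := (Fin.cons w.1 w.2.1, w.2.2)
  left_inv z := by simp
  right_inv w := by simp

/-- `R^0 × P ≃ P`. -/
def e0 (R : Type u) [CommRing R] (P : Type u) [AddCommGroup P] [Module R P] :
    ((Fin 0 → R) × P) ≃ₗ[R] P where
  toFun z := z.2
  map_add' _ _ := rfl
  map_smul' _ _ := rfl
  invFun p := (0, p)
  left_inv z := by
    ext : 1
    · exact Subsingleton.elim _ _
    · rfl
  right_inv p := rfl

theorem peel [IsNoetherianRing (R ⧸ (⊥ : Ideal R).jacobson)] (n : ℕ) :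
    ∀ (P : Type u) [AddCommGroup P] [Module R P] [Module.Projective R P], Big R P →
    ∀ (K K' : Submodule R ((Fin n → R) × P)), IsCompl K K' → K.FG → ∀ s : P,
      ((0 : Fin n → R), s) ∈ K →
      ∃ K₁ K₁' : Submodule R P, IsCompl K₁ K₁' ∧ s ∈ K₁ ∧ Nonempty (K ≃ₗ[R] K₁) := by
  induction n with
  | zero =>
    intro P _ _ _ hB K K' hc hK s hs
    exact ⟨K.map (e0 R P).toLinearMap, K'.map (e0 R P).toLinearMap,
      isCompl_map_equiv (e0 R P) hc, ⟨_, hs, rfl⟩, ⟨(e0 R P).submoduleMap K⟩⟩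
  | succ n ih =>
    intro P _ _ _ hB K K' hc hK s hs
    have hB' : Big R ((Fin n → R) × P) :=
      Big.of_surjective (LinearMap.snd R (Fin n → R) P) LinearMap.snd_surjective hB
    obtain ⟨K₁, K₁', hc₁, hs₁, ⟨e₁⟩⟩ := step hB' (K.map (eSucc R P n).toLinearMap)
      (K'.map (eSucc R P n).toLinearMap) (isCompl_map_equiv (eSucc R P n) hc) (hK.map _)
      ((0 : Fin n → R), s) ⟨_, hs, rfl⟩
    have hK₁ : K₁.FG := by
      haveI : Module.Finite R (K.map (eSucc R P n).toLinearMap) :=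
        Module.Finite.iff_fg.2 (hK.map _)
      exact Module.Finite.iff_fg.1 (Module.Finite.equiv e₁)
    obtain ⟨K₂, K₂', hc₂, hs₂, ⟨e₂⟩⟩ := ih P hB K₁ K₁' hc₁ hK₁ s hs₁
    exact ⟨K₂, K₂', hc₂, hs₂, ⟨((eSucc R P n).submoduleMap K).trans (e₁.trans e₂)⟩⟩

/-- **Bass.** Every element of a big projective module lies in a finite free direct summand. -/
theorem exists_finite_free_summand [IsNoetherianRing (R ⧸ (⊥ : Ideal R).jacobson)]
    {P : Type u} [AddCommGroup P] [Module R P] [Module.Projective R P] (hB : Big R P) (s : P) :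
    ∃ K K' : Submodule R P, IsCompl K K' ∧ K.FG ∧ Module.Free R K ∧ s ∈ K := by
  classical
  obtain ⟨T, K, K', hc, ⟨e⟩, hs⟩ := exists_free_summand_prod (R := R) s
  let n := Fintype.card T
  let eT : (T → R) ≃ₗ[R] (Fin n → R) := LinearEquiv.funCongrLeft R R (Fintype.equivFin T).symm
  let E : ((T → R) × P) ≃ₗ[R] ((Fin n → R) × P) := eT.prodCongr (LinearEquiv.refl R P)
  have hKfg : K.FG := Module.Finite.iff_fg.1 (Module.Finite.equiv e)
  have hE : E ((0 : T → R), s) = ((0 : Fin n → R), s) := by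
    change (eT 0, s) = (0, s)
    rw [map_zero]
  obtain ⟨K₁, K₁', hc₁, hs₁, ⟨e₁⟩⟩ := peel n P hB (K.map E.toLinearMap) (K'.map E.toLinearMap)
    (isCompl_map_equiv E hc) (hKfg.map _) s ⟨_, hs, hE⟩
  refine ⟨K₁, K₁', hc₁, ?_, ?_, hs₁⟩
  · exact Module.Finite.iff_fg.1 (Module.Finite.equiv ((e.trans (E.submoduleMap K)).trans e₁))
  · exact Module.Free.of_equiv ((e.trans (E.submoduleMap K)).trans e₁)

end Groth.Agent.Helper6.BigProj
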