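import Mathlib
import Groth.Agent.Helper6.BigProj2

/-!
# Bass: countably generated big projective modules are free
-/

namespace Groth.Agent.Helper6.BigProj

universe u

variable {R : Type u} [CommRing R] {P : Type u} [AddCommGroup P] [Module R P]

theorem iSupIndep_nat_of_disjoint (F G : ℕ → Submodule R P)
    (hFG : ∀ n j, j < n → F j ≤ G n) (hd : ∀ n, Disjoint (G n) (F n)) : iSupIndep F := by
  classical
  rw [iSupIndep_iff_finsetSum_eq_zero_imp_eq_zero]
  intro s
  induction s using Finset.induction_on_max with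
  | empty => intro v _ _ i hi; simp at hi
  | insert a s hlt ih =>
    intro v hv hsum i hi
    have ha : a ∉ s := fun h => lt_irrefl a (hlt a h)
    rw [Finset.sum_insert ha] at hsum
    have h1 : ∑ j ∈ s, v j ∈ G a :=
      Submodule.sum_mem _ (fun j hj => hFG a j (hlt j hj) (hv j (Finset.mem_insert_of_mem hj)))
    have h2 : v a = - ∑ j ∈ s, v j := eq_neg_of_add_eq_zero_left hsum
    have h3 : v a ∈ G a := by rw [h2]; exact (G a).neg_mem h1
    have h4 : v a = 0 :=
      (Submodule.disjoint_def.1 (hd a)) (v a) h3 (hv a (Finset.mem_insert_self a s))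
    rw [h4, zero_add] at hsum
    rcases Finset.mem_insert.1 hi with rfl | his
    · exact h4
    · exact ih v (fun j hj => hv j (Finset.mem_insert_of_mem hj)) hsum i his

theorem exists_next [IsNoetherianRing (R ⧸ (⊥ : Ideal R).jacobson)] [Module.Projective R P]
    (hB : Big R P) (G C : Submodule R P) (hc : IsCompl G C) (hG : G.FG) (y : P) :
    ∃ F C' : Submodule R P, F ≤ C ∧ IsCompl (G ⊔ F) C' ∧ (G ⊔ F).FG ∧ Module.Free R F ∧
      y ∈ G ⊔ F := by
  classical
  let q : P →ₗ[R] C := C.projectionOnto G hc.symm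
  have hqC : ∀ z : C, q (z : P) = z := Submodule.projectionOnto_apply_left hc.symm
  have hqker : LinearMap.ker q = G := Submodule.ker_projectionOnto hc.symm
  have hqsurj : Function.Surjective q := fun z => ⟨z, hqC z⟩
  haveI : Module.Projective R C := Module.Projective.of_split C.subtype q (LinearMap.ext hqC)
  have hBC : Big R C := Big.of_surjective_of_fg_ker q hqsurj (hqker ▸ hG) hB
  obtain ⟨K, K', hcK, hKfg, hKfree, hyK⟩ := exists_finite_free_summand hBC (q y)
  have hinj : Function.Injective C.subtype := Subtype.val_injective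
  have hFC : K.map C.subtype ≤ C := Submodule.map_subtype_le C K
  have hF'C : K'.map C.subtype ≤ C := Submodule.map_subtype_le C K'
  have hsup : K.map C.subtype ⊔ K'.map C.subtype = C := by
    rw [← Submodule.map_sup, hcK.sup_eq_top, Submodule.map_top, Submodule.range_subtype]
  have hinf : K.map C.subtype ⊓ K'.map C.subtype = ⊥ := by
    rw [← Submodule.map_inf _ hinj, hcK.inf_eq_bot, Submodule.map_bot]
  refine ⟨K.map C.subtype, K'.map C.subtype, hFC, ⟨?_, ?_⟩, hG.sup (hKfg.map _), ?_, ?_⟩
  · -- disjoint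
    rw [Submodule.disjoint_def]
    intro z hz hz'
    obtain ⟨g, hg, f, hf, rfl⟩ := Submodule.mem_sup.1 hz
    have h1 : g ∈ C := by
      have h2 : g = (g + f) - f := by abel
      rw [h2]
      exact C.sub_mem (hF'C hz') (hFC hf)
    have h3 : g = 0 := Submodule.disjoint_def.1 hc.disjoint g hg h1
    rw [h3, zero_add] at hz' ⊢
    have h4 : f ∈ K.map C.subtype ⊓ K'.map C.subtype := ⟨hf, hz'⟩
    rw [hinf] at h4
    exact (Submodule.mem_bot R).1 h4
  · rw [codisjoint_iff, sup_assoc, hsup, hc.sup_eq_top]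
  · haveI := hKfree
    exact Module.Free.of_equiv (Submodule.equivSubtypeMap C K)
  · have h1 : y = (y - (q y : P)) + (q y : P) := by abel
    rw [h1]
    refine Submodule.add_mem_sup ?_ ⟨q y, hyK, rfl⟩
    rw [← hqker, LinearMap.mem_ker, map_sub, hqC, sub_self]

/-- **Bass.** A countably generated big projective module is free. -/
theorem free_of_countable [IsNoetherianRing (R ⧸ (⊥ : Ideal R).jacobson)] [Module.Projective R P]
    (hB : Big R P) (x : ℕ → P) (hx : Submodule.span R (Set.range x) = ⊤) : Module.Free R P := by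
  classical
  -- states
  let St := {p : Submodule R P × Submodule R P // IsCompl p.1 p.2 ∧ p.1.FG}
  have key : ∀ (st : St) (y : P), ∃ F C' : Submodule R P, F ≤ st.1.2 ∧
      IsCompl (st.1.1 ⊔ F) C' ∧ (st.1.1 ⊔ F).FG ∧ Module.Free R F ∧ y ∈ st.1.1 ⊔ F :=
    fun st y => exists_next hB st.1.1 st.1.2 st.2.1 st.2.2 y
  choose Fn Cn h1 h2 h3 h4 h5 using key
  let st0 : St := ⟨(⊥, ⊤), isCompl_bot_top, Submodule.fg_bot⟩
  let seq : ℕ → St := fun n => Nat.rec st0
    (fun n st => ⟨(st.1.1 ⊔ Fn st (x n), Cn st (x n)), h2 st (x n), h3 st (x n)⟩) n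
  let G : ℕ → Submodule R P := fun n => (seq n).1.1
  let F : ℕ → Submodule R P := fun n => Fn (seq n) (x n)
  have hG0 : G 0 = ⊥ := rfl
  have hGs : ∀ n, G (n + 1) = G n ⊔ F n := fun n => rfl
  have hd : ∀ n, Disjoint (G n) (F n) := fun n =>
    (seq n).2.1.disjoint.mono_right (h1 (seq n) (x n))
  have hFG : ∀ n j, j < n → F j ≤ G n := by
    intro n
    induction n with
    | zero => intro j hj; exact absurd hj (Nat.not_lt_zero j)
    | succ n ih =>
      intro j hj
      rw [hGs]
      rcases Nat.lt_succ_iff_lt_or_eq.1 hj with h | rfl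
      · exact (ih j h).trans le_sup_left
      · exact le_sup_right
  have hind : iSupIndep F := iSupIndep_nat_of_disjoint F G hFG hd
  have hGle : ∀ n, G n ≤ ⨆ i, F i := by
    intro n
    induction n with
    | zero => rw [hG0]; exact bot_le
    | succ n ih => rw [hGs]; exact sup_le ih (le_iSup F n)
  have htop : ⨆ i, F i = ⊤ := by
    rw [eq_top_iff, ← hx, Submodule.span_le]
    rintro _ ⟨n, rfl⟩
    exact hGle (n + 1) (h5 (seq n) (x n))
  have hint : DirectSum.IsInternal F :=
    (DirectSum.isInternal_submodule_iff_iSupIndep_and_iSup_eq_top F).2 ⟨hind, htop⟩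
  haveI : ∀ n, Module.Free R (F n) := fun n => h4 (seq n) (x n)
  exact Module.Free.of_basis
    (hint.collectedBasis (fun n => Module.Free.chooseBasis R (F n)))

end Groth.Agent.Helper6.BigProj
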