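import Mathlib
import Groth.Prelude.Def_Pi1

set_option autoImplicit false
set_option linter.style.haveILetI false
set_option linter.unusedSectionVars false
set_option linter.unusedVariables false
set_option linter.unusedSimpArgs false

universe u

open CategoryTheory CategoryTheory.Limits AlgebraicGeometry

namespace Groth.Agent.Helper6.BirA

/-- injectivity of `f` on the preimage of an open over which `f` is an isomorphism. -/
theorem eq_of_isIso_restrict {X Y : Scheme.{u}} (f : X ⟶ Y) (V : Y.Opens) [hf : IsIso (f ∣_ V)]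
    {x x' : X} (hx : f x ∈ V) (h : f x = f x') : x = x' := by
  have hx' : f x' ∈ V := h ▸ hx
  have hinj : Function.Injective (f ∣_ V) :=
    ((TopCat.homeoOfIso (asIso (f ∣_ V).base)).injective)
  have := @hinj ⟨x, hx⟩ ⟨x', hx'⟩ (by
    apply Subtype.ext
    rw [morphismRestrict_base_coe, morphismRestrict_base_coe]
    exact h)
  exact congrArg Subtype.val this

/-- A section of `f` over an open `N`, which hits a nonempty open of the (irreducible, reduced)
preimage of `N`, forces `f` to be an isomorphism over `N`. -/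
theorem isIso_restrict_of_section {X Y : Scheme.{u}} (f : X ⟶ Y) [IsSeparated f] [IsIntegral X]
    (N : Y.Opens) (s : N.toScheme ⟶ X) (hs : s ≫ f = N.ι)
    (O : X.Opens) (hO : (O : Set X).Nonempty) (hON : O ≤ f ⁻¹ᵁ N)
    (hOs : ∀ x ∈ O, x ∈ Set.range s) : IsIso (f ∣_ N) := by
  have hrange : Set.range s ⊆ ((f ⁻¹ᵁ N : X.Opens) : Set X) := by
    rintro _ ⟨z, rfl⟩
    change f (s z) ∈ N
    rw [← Scheme.Hom.comp_apply, hs]
    exact z.2
  let s' : N.toScheme ⟶ (f ⁻¹ᵁ N).toScheme :=
    IsOpenImmersion.lift (f ⁻¹ᵁ N).ι s (by simpa using hrange)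
  have hs' : s' ≫ (f ⁻¹ᵁ N).ι = s := IsOpenImmersion.lift_fac _ _ _
  have hsec : s' ≫ (f ∣_ N) = 𝟙 _ := by
    rw [← cancel_mono N.ι, Category.assoc, morphismRestrict_ι, ← Category.assoc, hs', hs,
      Category.id_comp]
  have hci : IsClosedImmersion s' := by
    have : IsClosedImmersion (s' ≫ (f ∣_ N)) := by rw [hsec]; infer_instance
    exact IsClosedImmersion.of_comp s' (f ∣_ N)
  obtain ⟨x₀, hx₀⟩ := hO
  have : Nonempty (f ⁻¹ᵁ N) := ⟨⟨x₀, hON hx₀⟩⟩
  have hsurj : Surjective s' := by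
    constructor
    have hcl : IsClosed (Set.range s') := s'.isClosedEmbedding.isClosed_range
    let O' : (f ⁻¹ᵁ N).toScheme.Opens := (f ⁻¹ᵁ N).ι ⁻¹ᵁ O
    have hO'ne : (O' : Set (f ⁻¹ᵁ N).toScheme).Nonempty := ⟨⟨x₀, hON hx₀⟩, hx₀⟩
    have hO'sub : (O' : Set (f ⁻¹ᵁ N).toScheme) ⊆ Set.range s' := by
      rintro ⟨x, hxN⟩ hx
      obtain ⟨z, hz⟩ := hOs x hx
      refine ⟨z, ?_⟩
      apply Subtype.ext
      change ((f ⁻¹ᵁ N).ι (s' z)) = x
      rw [← Scheme.Hom.comp_apply, hs', hz]
    have hdense : Dense (O' : Set (f ⁻¹ᵁ N).toScheme) :=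
      O'.isOpen.dense hO'ne
    have : Set.range s' = Set.univ := by
      rw [← hcl.closure_eq]
      exact Set.eq_univ_of_univ_subset (hdense.closure_eq ▸ closure_mono hO'sub)
    exact Set.range_eq_univ.mp this
  have hiso : IsIso s' := isIso_of_isClosedImmersion_of_surjective s'
  exact IsIso.of_isIso_fac_left hsec

/-- a proper morphism has sections over spectra of valuation-ring stalks extending a given
generic section. -/
theorem exists_lift_stalk {X Y : Scheme.{u}} (f : X ⟶ Y) [IsProper f] [IsIntegral Y]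
    (y : Y) [hv : ValuationRing (Y.presheaf.stalk y)]
    (g₀ : Spec (Y.presheaf.stalk (genericPoint Y)) ⟶ X)
    (hg₀ : g₀ ≫ f = Y.fromSpecStalk (genericPoint Y)) :
    ∃ l : Spec (Y.presheaf.stalk y) ⟶ X, l ≫ f = Y.fromSpecStalk y := by
  have hex : ValuativeCriterion.Existence f := by
    have h : UniversallyClosed f := inferInstance
    rw [UniversallyClosed.eq_valuativeCriterion] at h
    exact h.1
  have hdom : IsDomain (Y.presheaf.stalk y) := inferInstance
  have hfr : IsFractionRing (Y.presheaf.stalk y) Y.functionField := inferInstance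
  have hsq : CommSq g₀ (Spec.map (CommRingCat.ofHom (algebraMap (Y.presheaf.stalk y) Y.functionField)))
      f (Y.fromSpecStalk y) := ⟨by
    rw [hg₀]
    exact (Scheme.SpecMap_stalkSpecializes_fromSpecStalk
      ((genericPoint_spec Y).specializes trivial)).symm⟩
  let S : ValuativeCommSq f :=
    { R := Y.presheaf.stalk y
      commRing := inferInstance
      domain := hdom
      valuationRing := hv
      K := Y.functionField
      field := inferInstance
      algebra := inferInstance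
      isFractionRing := hfr
      i₁ := g₀
      i₂ := Y.fromSpecStalk y
      commSq := hsq }
  obtain ⟨l⟩ := (hex S).exists_lift
  exact ⟨l.l, l.fac_right⟩


/-- **Key lemma**: a proper morphism of integral schemes which is an isomorphism over a nonempty
open is an isomorphism over a neighbourhood of every point whose local ring is a valuation ring. -/
theorem exists_isIso_restrict {X Y : Scheme.{u}} (f : X ⟶ Y) [IsProper f] [IsIntegral X]
    [IsIntegral Y] (V : Y.Opens) (hV : (V : Set Y).Nonempty) [hf : IsIso (f ∣_ V)] (y : Y)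
    [hv : ValuationRing (Y.presheaf.stalk y)] :
    ∃ N : Y.Opens, y ∈ N ∧ IsIso (f ∣_ N) := by
  have hη : genericPoint Y ∈ V :=
    ((genericPoint_spec Y).mem_open_set_iff V.isOpen).mpr (by simpa using hV)
  let g₀ : Spec (Y.presheaf.stalk (genericPoint Y)) ⟶ X :=
    V.fromSpecStalkOfMem (genericPoint Y) hη ≫ inv (f ∣_ V) ≫ (f ⁻¹ᵁ V).ι
  have hg₀ : g₀ ≫ f = Y.fromSpecStalk (genericPoint Y) := by
    simp only [g₀, Category.assoc]
    rw [← morphismRestrict_ι, IsIso.inv_hom_id_assoc, Scheme.Opens.fromSpecStalkOfMem_ι]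
  obtain ⟨l, hl⟩ := exists_lift_stalk f y g₀ hg₀
  obtain ⟨N, hyN, s, hs1, hs2⟩ := spread_out_of_isGermInjective' (𝟙 Y) f l (by simpa using hl)
  rw [Category.comp_id] at hs2
  refine ⟨N, hyN, ?_⟩
  have hηN : genericPoint Y ∈ N :=
    ((genericPoint_spec Y).mem_open_set_iff N.isOpen).mpr ⟨y, trivial, hyN⟩
  -- the open `f⁻¹(V ⊓ N)`
  obtain ⟨⟨x₀, hx₀V⟩, hx₀⟩ : ∃ x : (f ⁻¹ᵁ V).toScheme, (f ∣_ V) x = ⟨genericPoint Y, hη⟩ :=
    ((TopCat.homeoOfIso (asIso (f ∣_ V).base)).surjective) _
  have hx₀' : f x₀ = genericPoint Y := by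
    have := congrArg Subtype.val hx₀
    rwa [morphismRestrict_base_coe] at this
  refine isIso_restrict_of_section f N s hs2 (f ⁻¹ᵁ (V ⊓ N)) ⟨x₀, ?_⟩ ?_ ?_
  · change f x₀ ∈ V ⊓ N
    rw [hx₀']
    exact ⟨hη, hηN⟩
  · intro x hx
    exact hx.2
  · intro x hx
    have hxV : f x ∈ V := hx.1
    have hxN : f x ∈ N := hx.2
    refine ⟨⟨f x, hxN⟩, ?_⟩
    symm
    apply eq_of_isIso_restrict f V hxV
    have : f (s ⟨f x, hxN⟩) = (N.ι ⟨f x, hxN⟩) := by
      rw [← Scheme.Hom.comp_apply, hs2]
    rw [this]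
    rfl

end Groth.Agent.Helper6.BirA
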