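import Mathlib

set_option autoImplicit false
set_option linter.style.haveILetI false
set_option linter.unusedSectionVars false
set_option linter.unusedVariables false
set_option linter.unusedSimpArgs false

universe u

open IsLocalRing

namespace Groth.Agent.Helper6.BirB

/-- a regular local domain of dimension `< 2` is a valuation ring. -/
theorem valuationRing_of_regular (R : Type u) [CommRing R] [IsDomain R] [IsRegularLocalRing R]
    (h : ¬ (2 : WithBot ℕ∞) ≤ ringKrullDim R) : ValuationRing R := by
  by_cases hF : IsField R
  · refine { toPreValuationRing := ⟨?_⟩ }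
    intro a b
    by_cases ha : a = 0
    · subst ha
      by_cases hb : b = 0
      · exact ⟨0, Or.inl (by simp [hb])⟩
      · exact ⟨0, Or.inr (by simp)⟩
    · obtain ⟨a', ha'⟩ := hF.mul_inv_cancel ha
      exact ⟨a' * b, Or.inl (by rw [← mul_assoc, ha', one_mul])⟩
  · have hreg : (Module.finrank (ResidueField R) (CotangentSpace R) : WithBot ℕ∞) = ringKrullDim R :=
      (IsRegularLocalRing.iff_finrank_cotangentSpace R).mp inferInstance
    rw [← hreg] at h
    have h2 : Module.finrank (ResidueField R) (CotangentSpace R) < 2 := by
      by_contra hc
      apply h
      rw [not_lt] at hc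
      exact_mod_cast hc
    have h0 : Module.finrank (ResidueField R) (CotangentSpace R) ≠ 0 := by
      intro h0
      exact hF (finrank_cotangentSpace_eq_zero_iff.mp h0)
    have h1 : Module.finrank (ResidueField R) (CotangentSpace R) = 1 := by omega
    exact ((IsDiscreteValuationRing.TFAE R hF).out 5 1).mp h1

end Groth.Agent.Helper6.BirB
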