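import Mathlib
import Groth.Agent.Helper6.BirA
import Groth.Agent.Helper6.BirB
import Groth.Agent.Lead.RegLocal

set_option autoImplicit false
set_option linter.style.haveILetI false
set_option linter.unusedSectionVars false
set_option linter.unusedVariables false
set_option linter.unusedSimpArgs false

universe u

open CategoryTheory CategoryTheory.Limits AlgebraicGeometry

namespace Groth.Agent.Helper6.BirC

/-- being an isomorphism over each member of a family of opens implies being an isomorphism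
over their supremum. -/
theorem isIso_restrict_iSup {X Y : Scheme.{u}} (f : X ⟶ Y) {ι : Type*} (N : ι → Y.Opens)
    (h : ∀ i, IsIso (f ∣_ N i)) : IsIso (f ∣_ (⨆ i, N i)) := by
  apply IsZariskiLocalAtTarget.of_forall_exists_morphismRestrict (P := MorphismProperty.isomorphisms Scheme)
  rintro ⟨x, hx⟩
  obtain ⟨i, hi⟩ := TopologicalSpace.Opens.mem_iSup.mp hx
  refine ⟨(⨆ i, N i).ι ⁻¹ᵁ N i, hi, ?_⟩
  have e1 := morphismRestrictRestrict f (⨆ i, N i) ((⨆ i, N i).ι ⁻¹ᵁ N i)
  have heq : (⨆ i, N i).ι ''ᵁ ((⨆ i, N i).ι ⁻¹ᵁ N i) = N i := by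
    rw [Scheme.Hom.image_preimage_eq_opensRange_inf, Scheme.Opens.opensRange_ι]
    exact inf_eq_right.mpr (le_iSup N i)
  have e2 := morphismRestrictEq f heq
  rw [(MorphismProperty.isomorphisms Scheme).arrow_mk_iso_iff (e1 ≪≫ e2)]
  exact h i

/-- **Iso locus**: a proper birational morphism from an integral scheme to a regular integral
scheme is an isomorphism over an open whose complement has codimension at least two. -/
theorem exists_isoLocus {X Y : Scheme.{u}} (f : X ⟶ Y) [IsProper f] [IsIntegral X] [IsIntegral Y]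
    (hY : ∀ y : Y, IsRegularLocalRing (Y.presheaf.stalk y))
    (V : Y.Opens) (hV : (V : Set Y).Nonempty) (hf : IsIso (f ∣_ V)) :
    ∃ U' : Y.Opens, V ≤ U' ∧ IsIso (f ∣_ U') ∧
      ∀ y : Y, y ∉ U' → (2 : WithBot ℕ∞) ≤ ringKrullDim (Y.presheaf.stalk y) := by
  let N : {N : Y.Opens // IsIso (f ∣_ N)} → Y.Opens := fun N => N.1
  refine ⟨⨆ i, N i, le_iSup N ⟨V, hf⟩, isIso_restrict_iSup f N (fun i => i.2), ?_⟩
  intro y hy
  by_contra hdim
  have := hY y
  have hv : ValuationRing (Y.presheaf.stalk y) :=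
    Groth.Agent.Helper6.BirB.valuationRing_of_regular _ hdim
  obtain ⟨N', hyN', hN'⟩ := Groth.Agent.Helper6.BirA.exists_isIso_restrict f V hV y
  exact hy (TopologicalSpace.Opens.mem_iSup.mpr ⟨⟨N', hN'⟩, hyN'⟩)

end Groth.Agent.Helper6.BirC
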