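import Mathlib
import Groth.Prelude.Def_FEt
import Groth.Prelude.Def_Pi1

set_option autoImplicit false
set_option linter.style.haveILetI false
set_option linter.unusedSectionVars false
set_option linter.unusedVariables false
set_option linter.unusedSimpArgs false

universe u

open CategoryTheory CategoryTheory.Limits AlgebraicGeometry

namespace Groth.Agent.Helper6.BirD

set_option backward.isDefEq.respectTransparency.types false in
/-- restriction along the identity is the identity. -/
noncomputable def restrictId (X : Scheme.{u}) : FEt.restrict (𝟙 X) ≅ 𝟭 (FEt.Cat X) :=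
  NatIso.ofComponents
    (fun A => MorphismProperty.Over.isoMk
      (@asIso _ _ _ _ (pullback.fst A.hom (𝟙 X)) (pullback_fst_iso_of_right_iso A.hom (𝟙 X)))
      (by
        change pullback.fst A.hom (𝟙 X) ≫ A.hom = pullback.snd A.hom (𝟙 X)
        rw [pullback.condition, Category.comp_id]))
    (by
      intro A B g
      ext
      change pullback.lift _ _ _ ≫ pullback.fst B.hom (𝟙 X) = pullback.fst A.hom (𝟙 X) ≫ g.left
      rw [pullback.lift_fst]
      rfl)

/-- restriction along a composition. -/
noncomputable def restrictComp {X Y Z : Scheme.{u}} (f : X ⟶ Y) (g : Y ⟶ Z) (fg : X ⟶ Z)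
    (hfg : fg = f ≫ g) : FEt.restrict fg ≅ FEt.restrict g ⋙ FEt.restrict f :=
  MorphismProperty.Over.pullbackComp f g fg hfg

/-- restriction along an isomorphism is an equivalence. -/
theorem restrict_isEquivalence_of_isIso {A B : Scheme.{u}} (f' : A ⟶ B) [IsIso f'] :
    (FEt.restrict f').IsEquivalence := by
  let η : 𝟭 (FEt.Cat B) ≅ FEt.restrict f' ⋙ FEt.restrict (inv f') :=
    (restrictId B).symm ≪≫ restrictComp (inv f') f' (𝟙 B) (by simp)
  let ε : FEt.restrict (inv f') ⋙ FEt.restrict f' ≅ 𝟭 (FEt.Cat A) :=
    (restrictComp f' (inv f') (𝟙 A) (by simp)).symm ≪≫ restrictId A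
  exact (CategoryTheory.Equivalence.mk (FEt.restrict f') (FEt.restrict (inv f')) η ε).isEquivalence_functor

/-- if `F ⋙ J` is an equivalence and `J` is fully faithful then `F` is an equivalence. -/
theorem isEquivalence_of_comp_ff {C D E : Type*} [Category C] [Category D] [Category E]
    (F : C ⥤ D) (J : D ⥤ E) [J.Full] [J.Faithful] [(F ⋙ J).IsEquivalence] : F.IsEquivalence := by
  have : J.EssSurj := ⟨fun W => ⟨F.obj ((F ⋙ J).objPreimage W), ⟨(F ⋙ J).objObjPreimageIso W⟩⟩⟩
  have : J.IsEquivalence := { }
  exact Functor.isEquivalence_of_comp_right F J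

end Groth.Agent.Helper6.BirD
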