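import Mathlib

/-!
# Purity assembly, part B: geometry helpers

* `exists_extension_of_sections`: if `j : U ⟶ X` is an open immersion into an affine scheme inducing
  an iso on global sections, and `π : Y ⟶ U` is affine with `Γ(Y)` finite étale over `Γ(X)`, then
  `Spec Γ(Y) ⟶ X` is a finite étale extension of `π`.
* `bijective_pi_of_disjoint`: sections over a finite disjoint clopen cover.
-/

set_option autoImplicit false
set_option linter.style.haveILetI false
set_option linter.unusedSectionVars false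
set_option linter.unusedVariables false
set_option linter.unusedSimpArgs false

universe u

open AlgebraicGeometry CategoryTheory CategoryTheory.Limits TopologicalSpace Opposite

namespace Groth.Agent.Helper6.PurB

theorem exists_extension_of_sections {X U Y : Scheme.{u}} [IsAffine X] (j : U ⟶ X)
    [IsOpenImmersion j] [CompactSpace U] [IsIso j.appTop] (π : Y ⟶ U) [IsAffineHom π]
    (hfin : (π ≫ j).appTop.hom.Finite) (het : (π ≫ j).appTop.hom.Etale) :
    ∃ (G : Scheme.{u}) (γ : G ⟶ X) (i : Y ⟶ G), IsFinite γ ∧ Etale γ ∧ IsPullback i π γ j := by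
  haveI : U.IsQuasiAffine := Scheme.IsQuasiAffine.of_isImmersion j
  have sq0 := Scheme.isPullback_toSpecΓ_toSpecΓ π
  haveI : IsIso X.toSpecΓ := IsAffine.affine
  let θ : Spec Γ(U, ⊤) ⟶ X := Spec.map j.appTop ≫ inv X.toSpecΓ
  haveI : IsIso θ := IsIso.comp_isIso
  have hj : U.toSpecΓ ≫ θ = j := by
    change U.toSpecΓ ≫ Spec.map j.appTop ≫ inv X.toSpecΓ = j
    rw [← Category.assoc, ← Scheme.toSpecΓ_naturality, Category.assoc, IsIso.hom_inv_id,
      Category.comp_id]
  have hγ : Spec.map π.appTop ≫ θ = Spec.map (π ≫ j).appTop ≫ inv X.toSpecΓ := by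
    change Spec.map π.appTop ≫ Spec.map j.appTop ≫ inv X.toSpecΓ = _
    rw [← Category.assoc, ← Spec.map_comp, ← Scheme.Hom.comp_appTop]
  refine ⟨Spec Γ(Y, ⊤), Spec.map π.appTop ≫ θ, Y.toSpecΓ, ?_, ?_, ?_⟩
  · rw [hγ]
    haveI : IsFinite (Spec.map (π ≫ j).appTop) := (IsFinite.SpecMap_iff _).mpr hfin
    infer_instance
  · rw [hγ]
    haveI : Etale (Spec.map (π ≫ j).appTop) := (HasRingHomProperty.Spec_iff (P := @Etale)).mpr het
    infer_instance
  · refine IsPullback.of_iso sq0.flip (Iso.refl _) (Iso.refl _) (Iso.refl _) (asIso θ)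
      (by simp) (by simp) (by simp) ?_
    simp only [asIso_hom, Iso.refl_hom, Category.id_comp]
    exact hj

/-- sections over a disjoint open cover -/
theorem bijective_pi_of_disjoint {Y : Scheme.{u}} {ι : Type u} (W : ι → Y.Opens)
    (hdisj : ∀ i j, i ≠ j → W i ⊓ W j = ⊥) (hcov : ∀ y : Y, ∃ i, y ∈ W i) :
    Function.Bijective (fun (b : Γ(Y, ⊤)) (i : ι) =>
      (Y.presheaf.map (homOfLE (le_top : W i ≤ ⊤)).op).hom b) := by
  have hcover : (⊤ : Y.Opens) ≤ iSup W := by
    intro y _
    obtain ⟨i, hi⟩ := hcov y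
    exact Opens.mem_iSup.mpr ⟨i, hi⟩
  constructor
  · intro b b' hbb'
    refine Y.sheaf.eq_of_locally_eq' W ⊤ (fun i => homOfLE le_top) hcover b b' (fun i => ?_)
    exact congrFun hbb' i
  · intro t
    have hcompat : TopCat.Presheaf.IsCompatible Y.sheaf.1 W t := by
      intro i j
      by_cases hij : i = j
      · subst hij
        rfl
      · haveI : Subsingleton Γ(Y, W i ⊓ W j) := by
          rw [hdisj i j hij]
          infer_instance
        exact @Subsingleton.elim Γ(Y, W i ⊓ W j) _ _ _
    obtain ⟨b, hb, -⟩ := Y.sheaf.existsUnique_gluing' W ⊤ (fun i => homOfLE le_top) hcover t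
      hcompat
    exact ⟨b, funext hb⟩

end Groth.Agent.Helper6.PurB
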