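import Mathlib
import Groth.Agent.Helper7.ZNPurP

/-!
# Purity assembly, part A: algebra

* `mem_range_of_forall_pow_mul`: algebraic Hartogs for a normal Noetherian local domain of
  dimension `≥ 2`: `⋂_{f ∈ 𝔪} T_f = T` inside the fraction field.
* `isIntegral_of_forall_pow_smul`: an element of a domain `C ⊇ A` which is integral over `A_f` for
  all `f ∈ 𝔪_A` is integral over `A`.
* `finite_isSeparable_of_etale_away`, `finite_of_integral`: finiteness of `C`.
* `finite_etale`: the final statement (uses Zariski–Nagata purity).
-/

set_option autoImplicit false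
set_option linter.style.haveILetI false
set_option linter.unusedSectionVars false
set_option linter.unusedVariables false
set_option linter.unusedSimpArgs false

universe u v

namespace Groth.Agent.Helper6.PurA

open IsLocalRing Polynomial

/-- algebraic Hartogs -/
theorem mem_range_of_forall_pow_mul (T : Type u) [CommRing T] [IsDomain T] [IsNoetherianRing T]
    [IsLocalRing T] [IsIntegrallyClosed T] (hdim : (2 : WithBot ℕ∞) ≤ ringKrullDim T)
    (K : Type v) [Field K] [Algebra T K] [IsFractionRing T K] (c : K)
    (h : ∀ f ∈ maximalIdeal T, ∃ (n : ℕ) (a : T),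
      c * algebraMap T K f ^ n = algebraMap T K a) :
    c ∈ Set.range (algebraMap T K) := by
  obtain ⟨t, x, hx, rfl⟩ := IsFractionRing.div_surjective (A := T) c
  have hx0 : x ≠ 0 := nonZeroDivisors.ne_zero hx
  have hxK : algebraMap T K x ≠ 0 := by
    intro h0
    exact hx0 ((IsFractionRing.injective T K) (h0.trans (map_zero _).symm))
  let I : Ideal T :=
    { carrier := {a | a * t ∈ Ideal.span {x}}
      add_mem' := by
        intro a b ha hb
        change (a + b) * t ∈ Ideal.span ({x} : Set T)
        rw [add_mul]
        exact Ideal.add_mem _ ha hb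
      zero_mem' := by
        change (0 : T) * t ∈ Ideal.span ({x} : Set T)
        rw [zero_mul]
        exact Ideal.zero_mem _
      smul_mem' := by
        intro r a ha
        change (r • a) * t ∈ Ideal.span ({x} : Set T)
        rw [smul_eq_mul, mul_assoc]
        exact Ideal.mul_mem_left _ _ ha }
  have hrad : maximalIdeal T ≤ I.radical := by
    intro f hf
    obtain ⟨n, a, hna⟩ := h f hf
    refine ⟨n, ?_⟩
    change f ^ n * t ∈ Ideal.span {x}
    rw [Ideal.mem_span_singleton']
    refine ⟨a, ?_⟩
    apply IsFractionRing.injective T K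
    rw [map_mul, map_mul, map_pow, ← hna]
    field_simp
  obtain ⟨k, hk⟩ := Ideal.exists_pow_le_of_le_radical_of_fg hrad
    (IsNoetherian.noetherian (maximalIdeal T))
  have ht : t ∈ Ideal.span {x} :=
    Groth.Agent.Helper7.ZNPur.mem_span_of_pow_mul hdim x hx0 k t (fun y hy => hk hy)
  rw [Ideal.mem_span_singleton'] at ht
  obtain ⟨w, hw⟩ := ht
  refine ⟨w, ?_⟩
  rw [← hw, map_mul]
  field_simp

/-- an element of a domain `C ⊇ A` integral over `A_f` for all `f ∈ 𝔪_A` is integral over `A` -/
theorem isIntegral_of_forall_pow_smul (A : Type u) [CommRing A] [IsDomain A] [IsNoetherianRing A]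
    [IsLocalRing A] [IsIntegrallyClosed A] (hdim : (2 : WithBot ℕ∞) ≤ ringKrullDim A)
    (C : Type v) [CommRing C] [IsDomain C] [Algebra A C]
    (hinj : Function.Injective (algebraMap A C)) (b : C)
    (h : ∀ f ∈ maximalIdeal A, ∃ n : ℕ, IsIntegral A (f ^ n • b)) : IsIntegral A b := by
  let K := FractionRing A
  let L := FractionRing C
  haveI : FaithfulSMul A C := (faithfulSMul_iff_algebraMap_injective A C).mpr hinj
  haveI : FaithfulSMul A L := by
    rw [faithfulSMul_iff_algebraMap_injective, IsScalarTower.algebraMap_eq A C L]
    exact (IsFractionRing.injective C L).comp hinj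
  letI : Algebra K L := FractionRing.liftAlgebra A L
  haveI : IsScalarTower A K L := FractionRing.isScalarTower_liftAlgebra A L
  set β : L := algebraMap C L b with hβdef
  -- a nonzero element of the maximal ideal
  obtain ⟨f₀, hf₀, hf₀0⟩ : ∃ f ∈ maximalIdeal A, f ≠ 0 := by
    by_contra hcon
    push Not at hcon
    have hbot : maximalIdeal A = ⊥ := by
      rw [eq_bot_iff]
      intro x hx
      exact hcon x hx
    have hf : IsField A := IsLocalRing.isField_iff_maximalIdeal_eq.mpr hbot
    have := ringKrullDim_eq_zero_of_isField hf
    rw [this] at hdim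
    exact absurd hdim (by decide)
  have hsm : ∀ (r : A), algebraMap C L (r • b) = algebraMap A K r • β := by
    intro r
    rw [algebraMap_smul, hβdef, Algebra.smul_def, Algebra.smul_def, map_mul,
      ← IsScalarTower.algebraMap_apply]
  have hβ : IsIntegral K β := by
    obtain ⟨n, hn⟩ := h f₀ hf₀
    have h1 : IsIntegral A (algebraMap C L (f₀ ^ n • b)) := hn.map (IsScalarTower.toAlgHom A C L)
    have h2 : IsIntegral K (algebraMap A K (f₀ ^ n) • β) := by
      rw [← hsm]
      exact h1.tower_top
    have hu : algebraMap A K (f₀ ^ n) ≠ 0 := by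
      intro h0
      exact pow_ne_zero n hf₀0 ((IsFractionRing.injective A K) (h0.trans (map_zero _).symm))
    have h3 := h2.smul (algebraMap A K (f₀ ^ n))⁻¹
    rwa [smul_smul, inv_mul_cancel₀ hu, one_smul] at h3
  set μ : K[X] := minpoly K β with hμ
  have hcoeff : ∀ i, μ.coeff i ∈ Set.range (algebraMap A K) := by
    intro i
    apply mem_range_of_forall_pow_mul A hdim K
    intro f hf
    by_cases hf0 : f = 0
    · refine ⟨1, 0, ?_⟩
      rw [hf0, map_zero, pow_one, mul_zero]
    obtain ⟨n, hn⟩ := h f hf
    have h1 : IsIntegral A (algebraMap C L (f ^ n • b)) := hn.map (IsScalarTower.toAlgHom A C L)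
    have hu : algebraMap A K (f ^ n) ≠ 0 := by
      intro h0
      exact pow_ne_zero n hf0 ((IsFractionRing.injective A K) (h0.trans (map_zero _).symm))
    have e1 : minpoly K (algebraMap C L (f ^ n • b)) =
        (minpoly A (algebraMap C L (f ^ n • b))).map (algebraMap A K) :=
      minpoly.isIntegrallyClosed_eq_field_fractions' K h1
    have e2 : minpoly K (algebraMap A K (f ^ n) • β) = μ.scaleRoots (algebraMap A K (f ^ n)) :=
      IsIntegrallyClosed.minpoly_smul hu hβ
    rw [hsm, e2] at e1
    have e3 := congrArg (fun p => p.coeff i) e1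
    simp only [coeff_scaleRoots, coeff_map] at e3
    refine ⟨n * (μ.natDegree - i),
      (minpoly A (algebraMap A K (f ^ n) • β)).coeff i, ?_⟩
    rw [← e3, map_pow, pow_mul]
  have hlift : μ ∈ lifts (algebraMap A K) := (lifts_iff_coeff_lifts μ).mpr hcoeff
  obtain ⟨q, hq, -, hqm⟩ := lifts_and_natDegree_eq_and_monic hlift (minpoly.monic hβ)
  have hint : IsIntegral A β := by
    refine ⟨q, hqm, ?_⟩
    have : aeval β (q.map (algebraMap A K)) = 0 := by
      rw [hq]; exact minpoly.aeval K β
    rw [aeval_map_algebraMap] at this
    exact this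
  exact (isIntegral_algebraMap_iff (IsFractionRing.injective C L)).mp hint

/-- the fraction field of a domain `C`, étale over `A` after inverting a nonzero element, is finite
separable over the fraction field of `A` -/
theorem finite_isSeparable_of_etale_away (A : Type u) [CommRing A] [IsDomain A]
    (C : Type v) [CommRing C] [IsDomain C] [Algebra A C]
    (K : Type u) (L : Type v) [Field K] [Field L] [Algebra A K] [IsFractionRing A K]
    [Algebra C L] [IsFractionRing C L] [Algebra K L] [Algebra A L] [IsScalarTower A K L]
    [IsScalarTower A C L] (c : C) (hc : c ≠ 0) [Algebra.Etale A (Localization.Away c)] :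
    FiniteDimensional K L ∧ Algebra.IsSeparable K L := by
  let C' := Localization.Away c
  have hcu : IsUnit (algebraMap C L c) := by
    rw [isUnit_iff_ne_zero]
    intro h0
    exact hc ((IsFractionRing.injective C L) (h0.trans (map_zero _).symm))
  letI : Algebra C' L := (IsLocalization.Away.lift (S := C') c (g := algebraMap C L) hcu).toAlgebra
  haveI : IsScalarTower C C' L := IsScalarTower.of_algebraMap_eq' (by
    rw [RingHom.algebraMap_toAlgebra, IsLocalization.Away.lift_comp])
  have hle : Submonoid.powers c ≤ nonZeroDivisors C :=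
    Submonoid.powers_le.mpr (mem_nonZeroDivisors_of_ne_zero hc)
  haveI : IsDomain C' := IsLocalization.isDomain_localization hle
  haveI : IsFractionRing C' L :=
    IsFractionRing.isFractionRing_of_isDomain_of_isLocalization (Submonoid.powers c) C' L
  haveI : IsScalarTower A C' L := IsScalarTower.of_algebraMap_eq' (by
    rw [IsScalarTower.algebraMap_eq A C L, IsScalarTower.algebraMap_eq C C' L,
      RingHom.comp_assoc, ← IsScalarTower.algebraMap_eq A C C'])
  haveI : Algebra.FormallyEtale C' L := Algebra.FormallyEtale.of_isLocalization (nonZeroDivisors C')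
  haveI : Algebra.EssFiniteType C' L := Algebra.EssFiniteType.of_isLocalization L (nonZeroDivisors C')
  haveI : Algebra.FormallyEtale A L := Algebra.FormallyEtale.comp A C' L
  haveI : Algebra.EssFiniteType A L := Algebra.EssFiniteType.comp A C' L
  haveI : Algebra.FormallyEtale A K := Algebra.FormallyEtale.of_isLocalization (nonZeroDivisors A)
  haveI : Algebra.FormallyEtale K L := Algebra.FormallyEtale.of_restrictScalars (R := A)
  haveI : Algebra.EssFiniteType K L := Algebra.EssFiniteType.of_comp A K L
  exact ⟨Algebra.FormallyUnramified.finite_of_free K L,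
    Algebra.FormallyUnramified.isSeparable K L⟩

/-- a domain integral over a normal Noetherian domain `A` and generically étale is finite -/
theorem finite_of_integral (A : Type u) [CommRing A] [IsDomain A] [IsNoetherianRing A]
    [IsIntegrallyClosed A] (C : Type v) [CommRing C] [IsDomain C] [Algebra A C]
    (hinj : Function.Injective (algebraMap A C)) (hint : ∀ b : C, IsIntegral A b)
    (c : C) (hc : c ≠ 0) [Algebra.Etale A (Localization.Away c)] : Module.Finite A C := by
  let K := FractionRing A
  let L := FractionRing C
  haveI : FaithfulSMul A C := (faithfulSMul_iff_algebraMap_injective A C).mpr hinj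
  haveI : FaithfulSMul A L := by
    rw [faithfulSMul_iff_algebraMap_injective, IsScalarTower.algebraMap_eq A C L]
    exact (IsFractionRing.injective C L).comp hinj
  letI : Algebra K L := FractionRing.liftAlgebra A L
  haveI : IsScalarTower A K L := FractionRing.isScalarTower_liftAlgebra A L
  obtain ⟨hfin, hsep⟩ := finite_isSeparable_of_etale_away A C K L c hc
  haveI := hfin
  haveI := hsep
  haveI : IsNoetherian A (integralClosure A L) :=
    IsIntegralClosure.isNoetherian A K L (integralClosure A L)
  let ψ : C →ₐ[A] integralClosure A L :=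
    (IsScalarTower.toAlgHom A C L).codRestrict (integralClosure A L)
      (fun b => (hint b).map (IsScalarTower.toAlgHom A C L))
  have hψ : Function.Injective ψ.toLinearMap := by
    intro x y hxy
    have h1 : (ψ x : L) = (ψ y : L) := congrArg Subtype.val hxy
    exact (IsFractionRing.injective C L) h1
  haveI : IsNoetherian A C := isNoetherian_of_injective ψ.toLinearMap hψ
  exact Module.IsNoetherian.finite A C

open Groth.Agent.Helper7.ZNPur in
/-- **the algebraic core of purity**: a normal domain `C ⊇ A`, étale over the punctured spectrum of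
the regular local ring `A` of dimension `≥ 2` and integral over it there, is finite étale. -/
theorem finite_etale (A C : Type u) [CommRing A] [IsRegularLocalRing A]
    (hA : (2 : WithBot ℕ∞) ≤ ringKrullDim A) [CommRing C] [IsDomain C] [IsIntegrallyClosed C]
    [Algebra A C] (hinj : Function.Injective (algebraMap A C))
    (hint : ∀ b : C, ∀ f ∈ maximalIdeal A, ∃ n : ℕ, IsIntegral A (f ^ n • b))
    (het : EtAway A C) : Module.Finite A C ∧ Algebra.Etale A C := by
  haveI : IsDomain A := Groth.Agent.Lead.RegLocal.isDomain_of_isRegularLocalRing A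
  haveI : IsIntegrallyClosed A :=
    Groth.Agent.Helper4.RegNormal.isIntegrallyClosed_of_isRegularLocalRing A
  have hint' : ∀ b : C, IsIntegral A b := fun b =>
    isIntegral_of_forall_pow_smul A hA C hinj b (hint b)
  obtain ⟨f₀, hf₀, hf₀0⟩ : ∃ f ∈ maximalIdeal A, f ≠ 0 := by
    by_contra hcon
    push Not at hcon
    have hbot : maximalIdeal A = ⊥ := by
      rw [eq_bot_iff]
      intro x hx
      exact hcon x hx
    have hf : IsField A := IsLocalRing.isField_iff_maximalIdeal_eq.mpr hbot
    have := ringKrullDim_eq_zero_of_isField hf
    rw [this] at hA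
    exact absurd hA (by decide)
  have hc : algebraMap A C f₀ ≠ 0 := by
    intro h0
    exact hf₀0 (hinj (h0.trans (map_zero _).symm))
  haveI := het f₀ hf₀
  haveI hfin : Module.Finite A C := finite_of_integral A C hinj hint' _ hc
  exact ⟨hfin, etale_of_etPunct A C hA hinj het.etPunct⟩

end Groth.Agent.Helper6.PurA
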