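import Mathlib

/-!
# Purity assembly, part C: global sections of a normal integral scheme are integrally closed
-/

set_option autoImplicit false
set_option linter.style.haveILetI false
set_option linter.unusedSectionVars false
set_option linter.unusedVariables false
set_option linter.unusedSimpArgs false

universe u

open AlgebraicGeometry CategoryTheory CategoryTheory.Limits TopologicalSpace Opposite Polynomial

namespace Groth.Agent.Helper6.PurC

/-- an element of the function field integral over `Γ(Y, ⊤)` is a global section, if `Y` is covered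
by affine opens with integrally closed coordinate rings -/
theorem mem_range_of_isIntegral {Y : Scheme.{u}} [IsIntegral Y] {ι : Type u} (O : ι → Y.Opens)
    (hne : ∀ i, Nonempty (O i)) (hO : ∀ i, IsAffineOpen (O i))
    (hic : ∀ i, IsIntegrallyClosed Γ(Y, O i)) (hcov : ∀ y : Y, ∃ i, y ∈ O i)
    (z : Y.functionField) (hz : (Y.presheaf.germ ⊤ (genericPoint Y) trivial).hom.IsIntegralElem z) :
    z ∈ Set.range (Y.presheaf.germ ⊤ (genericPoint Y) trivial).hom := by
  obtain ⟨p, hp, hpz⟩ := hz
  have hη : ∀ U : Y.Opens, Nonempty U → genericPoint Y ∈ U := fun U h =>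
    ((genericPoint_spec Y).mem_open_set_iff U.isOpen).mpr (by simpa using h)
  -- local sections
  have hloc : ∀ i, ∃ s : Γ(Y, O i), (Y.presheaf.germ (O i) (genericPoint Y) (hη _ (hne i))).hom s = z := by
    intro i
    haveI := hne i
    haveI := hic i
    haveI : IsFractionRing Γ(Y, O i) Y.functionField :=
      functionField_isFractionRing_of_isAffineOpen Y (O i) (hO i)
    have hint : IsIntegral Γ(Y, O i) z := by
      refine ⟨p.map (Y.presheaf.map (homOfLE (le_top : O i ≤ ⊤)).op).hom, hp.map _, ?_⟩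
      rw [eval₂_map]
      have : (algebraMap Γ(Y, O i) Y.functionField).comp
          (Y.presheaf.map (homOfLE (le_top : O i ≤ ⊤)).op).hom =
          (Y.presheaf.germ ⊤ (genericPoint Y) trivial).hom := by
        ext a
        exact Y.presheaf.germ_res_apply (homOfLE (le_top : O i ≤ ⊤)) (genericPoint Y) _ a
      rw [this]
      exact hpz
    obtain ⟨s, hs⟩ := IsIntegrallyClosed.isIntegral_iff.mp hint
    exact ⟨s, hs⟩
  choose s hs using hloc
  have hcompat : TopCat.Presheaf.IsCompatible Y.sheaf.1 O s := by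
    intro i j
    haveI : Nonempty (O i ⊓ O j : Y.Opens) := by
      obtain ⟨x, hx1, hx2⟩ := nonempty_preirreducible_inter (O i).isOpen (O j).isOpen
        (by obtain ⟨a⟩ := hne i; exact ⟨a.1, a.2⟩) (by obtain ⟨a⟩ := hne j; exact ⟨a.1, a.2⟩)
      exact ⟨⟨x, hx1, hx2⟩⟩
    apply Y.germToFunctionField_injective (O i ⊓ O j)
    have e1 := Y.presheaf.germ_res_apply (homOfLE (inf_le_left : O i ⊓ O j ≤ O i))
      (genericPoint Y) (hη _ inferInstance) (s i)
    have e2 := Y.presheaf.germ_res_apply (homOfLE (inf_le_right : O i ⊓ O j ≤ O j))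
      (genericPoint Y) (hη _ inferInstance) (s j)
    exact (e1.trans (hs i)).trans ((e2.trans (hs j)).symm)
  have hcover : (⊤ : Y.Opens) ≤ iSup O := by
    intro y _
    obtain ⟨i, hi⟩ := hcov y
    exact Opens.mem_iSup.mpr ⟨i, hi⟩
  obtain ⟨c, hc, -⟩ := Y.sheaf.existsUnique_gluing' O ⊤ (fun i => homOfLE le_top) hcover s hcompat
  refine ⟨c, ?_⟩
  obtain ⟨y⟩ := (inferInstance : Nonempty Y)
  obtain ⟨i, hi⟩ := hcov y
  have e := Y.presheaf.germ_res_apply (homOfLE (le_top : O i ≤ ⊤)) (genericPoint Y)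
    (hη _ (hne i)) c
  have hci : (Y.presheaf.map (homOfLE (le_top : O i ≤ ⊤)).op).hom c = s i := hc i
  rw [hci, hs i] at e
  exact e.symm

/-- global sections of an integral scheme covered by normal affine opens are integrally closed -/
theorem isIntegrallyClosed_top {Y : Scheme.{u}} [IsIntegral Y] {ι : Type u} (O : ι → Y.Opens)
    (hne : ∀ i, Nonempty (O i)) (hO : ∀ i, IsAffineOpen (O i))
    (hic : ∀ i, IsIntegrallyClosed Γ(Y, O i)) (hcov : ∀ y : Y, ∃ i, y ∈ O i) :
    IsIntegrallyClosed Γ(Y, ⊤) := by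
  let φ : Γ(Y, ⊤) →+* Y.functionField := (Y.presheaf.germ ⊤ (genericPoint Y) trivial).hom
  have hφ : Function.Injective φ :=
    germ_injective_of_isIntegral Y (U := ⊤) (genericPoint Y) (Opens.mem_top _)
  let ψ : FractionRing Γ(Y, ⊤) →+* Y.functionField := IsFractionRing.lift hφ
  have hψφ : φ = ψ.comp (algebraMap Γ(Y, ⊤) (FractionRing Γ(Y, ⊤))) := by
    ext a
    exact (IsFractionRing.lift_algebraMap hφ a).symm
  rw [isIntegrallyClosed_iff (FractionRing Γ(Y, ⊤))]
  intro x hx
  have h1 : φ.IsIntegralElem (ψ x) := by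
    obtain ⟨p, hp, hpx⟩ := hx
    refine ⟨p, hp, ?_⟩
    rw [hψφ, ← Polynomial.hom_eval₂, hpx, map_zero]
  obtain ⟨c, hc⟩ := mem_range_of_isIntegral O hne hO hic hcov (ψ x) h1
  refine ⟨c, ?_⟩
  apply ψ.injective
  rw [IsFractionRing.lift_algebraMap]
  exact hc

end Groth.Agent.Helper6.PurC
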