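import Mathlib
import Groth.Agent.Helper6.PurA
import Groth.Agent.Helper6.PurC
import Groth.Agent.Helper8.NormNormal

/-!
# Purity assembly, part D: the integral case
-/

set_option autoImplicit false
set_option linter.style.haveILetI false
set_option linter.unusedSectionVars false
set_option linter.unusedVariables false
set_option linter.unusedSimpArgs false

universe u

open AlgebraicGeometry CategoryTheory CategoryTheory.Limits TopologicalSpace Opposite Polynomial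
open IsLocalRing

namespace Groth.Agent.Helper6.PurD

variable {X U Y : Scheme.{u}} [IsAffine X] (j : U ⟶ X) [IsOpenImmersion j]
  (π : Y ⟶ U) [IsFinite π] [Etale π]

theorem isAffineOpen_preimage (f : Γ(X, ⊤)) (hf : X.basicOpen f ≤ j.opensRange) :
    IsAffineOpen ((π ≫ j) ⁻¹ᵁ X.basicOpen f) := by
  have h1 : IsAffineOpen (j ⁻¹ᵁ X.basicOpen f) := by
    rw [← Scheme.Hom.isAffineOpen_iff_of_isOpenImmersion j,
      Scheme.Hom.image_preimage_eq_opensRange_inf, inf_eq_right.mpr hf]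
    exact (isAffineOpen_top X).basicOpen f
  exact h1.preimage π

theorem exists_mem_preimage [IsIntegral X] [Nonempty Y] (f : Γ(X, ⊤)) (hf : f ≠ 0) :
    ∃ y : Y, (π ≫ j) y ∈ X.basicOpen f := by
  have hD : ((X.basicOpen f : X.Opens) : Set X).Nonempty := by
    by_contra hcon
    rw [Set.not_nonempty_iff_eq_empty] at hcon
    have : X.basicOpen f = ⊥ := by
      ext1
      rw [hcon]
      rfl
    rw [basicOpen_eq_bot_iff] at this
    exact hf this
  have hR : (Set.range (π ≫ j)).Nonempty := Set.range_nonempty _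
  have hopen : IsOpen (Set.range (π ≫ j)) := (π ≫ j).isOpenMap.isOpen_range
  obtain ⟨x, ⟨y, rfl⟩, hx⟩ := nonempty_preirreducible_inter hopen (X.basicOpen f).isOpen hR hD
  exact ⟨y, hx⟩

theorem appTop_injective [IsIntegral X] [IsIntegral Y] :
    Function.Injective (π ≫ j).appTop.hom := by
  rw [injective_iff_map_eq_zero]
  intro a ha
  by_contra ha0
  obtain ⟨y, hy⟩ := exists_mem_preimage j π a ha0
  have h1 : y ∈ (π ≫ j) ⁻¹ᵁ X.basicOpen a := hy
  rw [Scheme.preimage_basicOpen_top] at h1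
  have h2 : Y.basicOpen ((π ≫ j).appTop.hom a) = ⊥ := by
    rw [ha]
    exact Scheme.basicOpen_zero Y ⊤
  rw [h2] at h1
  exact h1

theorem etAway [IsLocalRing Γ(X, ⊤)] [CompactSpace Y] [QuasiSeparatedSpace Y]
    (hm : ∀ f ∈ maximalIdeal Γ(X, ⊤), X.basicOpen f ≤ j.opensRange) :
    letI : Algebra Γ(X, ⊤) Γ(Y, ⊤) := (π ≫ j).appTop.hom.toAlgebra
    Groth.Agent.Helper7.ZNPur.EtAway Γ(X, ⊤) Γ(Y, ⊤) := by
  letI : Algebra Γ(X, ⊤) Γ(Y, ⊤) := (π ≫ j).appTop.hom.toAlgebra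
  intro f hf
  set g := π ≫ j with hg
  set c : Γ(Y, ⊤) := g.appTop.hom f with hc
  have hV : IsAffineOpen (Y.basicOpen c) := by
    rw [hc, ← Scheme.preimage_basicOpen_top]
    exact isAffineOpen_preimage j π f (hm f hf)
  have het0 : (g.appLE ⊤ (Y.basicOpen c) le_top).hom.Etale :=
    HasRingHomProperty.appLE (P := @Etale) g inferInstance ⟨⊤, isAffineOpen_top X⟩ ⟨_, hV⟩ _
  haveI hloc : IsLocalization.Away c Γ(Y, Y.basicOpen c) :=
    isLocalization_basicOpen_of_qcqs isCompact_univ isQuasiSeparated_univ c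
  letI : Algebra Γ(X, ⊤) Γ(Y, Y.basicOpen c) :=
    ((algebraMap Γ(Y, ⊤) Γ(Y, Y.basicOpen c)).comp g.appTop.hom).toAlgebra
  haveI : IsScalarTower Γ(X, ⊤) Γ(Y, ⊤) Γ(Y, Y.basicOpen c) :=
    IsScalarTower.of_algebraMap_eq' rfl
  haveI : Algebra.Etale Γ(X, ⊤) Γ(Y, Y.basicOpen c) := by
    have : (g.appLE ⊤ (Y.basicOpen c) le_top).hom =
        (algebraMap Γ(Y, ⊤) Γ(Y, Y.basicOpen c)).comp g.appTop.hom := rfl
    rw [this] at het0
    exact het0
  let e : Localization.Away c ≃ₐ[Γ(Y, ⊤)] Γ(Y, Y.basicOpen c) :=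
    IsLocalization.algEquiv (Submonoid.powers c) _ _
  exact Algebra.Etale.of_equiv (e.restrictScalars Γ(X, ⊤)).symm

theorem exists_pow_smul_isIntegral [IsIntegral X] [IsIntegral Y] [IsLocalRing Γ(X, ⊤)]
    (hm : ∀ f ∈ maximalIdeal Γ(X, ⊤), X.basicOpen f ≤ j.opensRange)
    (b : Γ(Y, ⊤)) (f : Γ(X, ⊤)) (hf : f ∈ maximalIdeal Γ(X, ⊤)) :
    letI : Algebra Γ(X, ⊤) Γ(Y, ⊤) := (π ≫ j).appTop.hom.toAlgebra
    ∃ n : ℕ, IsIntegral Γ(X, ⊤) (f ^ n • b) := by
  letI : Algebra Γ(X, ⊤) Γ(Y, ⊤) := (π ≫ j).appTop.hom.toAlgebra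
  by_cases hf0 : f = 0
  · refine ⟨1, ?_⟩
    rw [hf0, pow_one, zero_smul]
    exact isIntegral_zero
  set g := π ≫ j with hg
  -- finiteness over the basic open
  have hfin : (g.app (X.basicOpen f)).hom.Finite := by
    have hD : IsAffineOpen (j ⁻¹ᵁ X.basicOpen f) := by
      rw [← Scheme.Hom.isAffineOpen_iff_of_isOpenImmersion j,
        Scheme.Hom.image_preimage_eq_opensRange_inf, inf_eq_right.mpr (hm f hf)]
      exact (isAffineOpen_top X).basicOpen f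
    have h1 : (π.app (j ⁻¹ᵁ X.basicOpen f)).hom.Finite := Scheme.Hom.finite_app π _ hD
    haveI : IsIso (j.app (X.basicOpen f)) := Scheme.Hom.isIso_app j _ (hm f hf)
    have h2 : (j.app (X.basicOpen f)).hom.Finite :=
      RingHom.Finite.of_surjective _
        ((ConcreteCategory.isIso_iff_bijective (j.app (X.basicOpen f))).mp inferInstance).2
    have e : g.app (X.basicOpen f) = j.app (X.basicOpen f) ≫ π.app (j ⁻¹ᵁ X.basicOpen f) :=
      Scheme.Hom.comp_app π j _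
    rw [e]
    exact h1.comp h2
  obtain ⟨y₀, hy₀⟩ := exists_mem_preimage j π f hf0
  letI : Algebra Γ(X, X.basicOpen f) Γ(Y, g ⁻¹ᵁ X.basicOpen f) :=
    (g.app (X.basicOpen f)).hom.toAlgebra
  letI : Algebra Γ(X, ⊤) Γ(Y, g ⁻¹ᵁ X.basicOpen f) :=
    ((g.app (X.basicOpen f)).hom.comp (algebraMap Γ(X, ⊤) Γ(X, X.basicOpen f))).toAlgebra
  haveI : IsScalarTower Γ(X, ⊤) Γ(X, X.basicOpen f) Γ(Y, g ⁻¹ᵁ X.basicOpen f) :=
    IsScalarTower.of_algebraMap_eq' rfl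
  haveI : IsLocalization.Away f Γ(X, X.basicOpen f) :=
    (isAffineOpen_top X).isLocalization_basicOpen f
  let res : Γ(Y, ⊤) →+* Γ(Y, g ⁻¹ᵁ X.basicOpen f) :=
    (Y.presheaf.map (homOfLE (le_top : g ⁻¹ᵁ X.basicOpen f ≤ ⊤)).op).hom
  have hresinj : Function.Injective res :=
    map_injective_of_isIntegral Y (H := ⟨⟨y₀, hy₀⟩⟩)
      (homOfLE (le_top : g ⁻¹ᵁ X.basicOpen f ≤ ⊤))
  have hres : algebraMap Γ(X, ⊤) Γ(Y, g ⁻¹ᵁ X.basicOpen f) = res.comp g.appTop.hom := by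
    have := g.naturality (homOfLE (X.basicOpen_le f)).op
    exact congrArg CommRingCat.Hom.hom this
  have hb' : IsIntegral Γ(X, X.basicOpen f) (res b) := hfin.to_isIntegral (res b)
  obtain ⟨⟨m, n, rfl⟩, hm'⟩ :=
    IsIntegral.exists_multiple_integral_of_isLocalization (Submonoid.powers f) (res b) hb'
  refine ⟨n, ?_⟩
  obtain ⟨p, hp, hpe⟩ := hm'
  refine ⟨p, hp, ?_⟩
  apply hresinj
  rw [map_zero, Polynomial.hom_eval₂]
  have e1 : res.comp (algebraMap Γ(X, ⊤) Γ(Y, ⊤)) =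
      algebraMap Γ(X, ⊤) Γ(Y, g ⁻¹ᵁ X.basicOpen f) := hres.symm
  rw [e1]
  have e2 : res (f ^ n • b) =
      (⟨(fun x => f ^ x) n, n, rfl⟩ : Submonoid.powers f) • res b := by
    rw [Submonoid.smul_def, Algebra.smul_def, Algebra.smul_def, map_mul]
    congr 1
    exact (congrFun (congrArg DFunLike.coe hres) (f ^ n)).symm
  rw [e2]
  exact hpe

include π in
theorem isIntegrallyClosed_top [IsIntegral X] [IsIntegral Y] [IsLocalRing Γ(X, ⊤)]
    (hm : ∀ f ∈ maximalIdeal Γ(X, ⊤), X.basicOpen f ≤ j.opensRange)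
    (hcov : ∀ u : U, ∃ f ∈ maximalIdeal Γ(X, ⊤), j u ∈ X.basicOpen f)
    (hY : ∀ y : Y, IsIntegrallyClosed (Y.presheaf.stalk y)) : IsIntegrallyClosed Γ(Y, ⊤) := by
  let ι := {f : Γ(X, ⊤) // f ∈ maximalIdeal Γ(X, ⊤) ∧ f ≠ 0}
  let O : ι → Y.Opens := fun f => (π ≫ j) ⁻¹ᵁ X.basicOpen f.1
  have hne : ∀ i, Nonempty (O i) := fun i => by
    obtain ⟨y, hy⟩ := exists_mem_preimage j π i.1 i.2.2
    exact ⟨⟨y, hy⟩⟩
  have hO : ∀ i, IsAffineOpen (O i) := fun i => isAffineOpen_preimage j π i.1 (hm i.1 i.2.1)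
  have hic : ∀ i, IsIntegrallyClosed Γ(Y, O i) := fun i => by
    haveI := hne i
    exact Groth.Agent.Helper8.NormNormal.isIntegrallyClosed_of_stalks (O i) (hO i)
      (fun x _ => hY x)
  have hcov' : ∀ y : Y, ∃ i, y ∈ O i := by
    intro y
    obtain ⟨f, hf, hfy⟩ := hcov (π y)
    have hf0 : f ≠ 0 := by
      rintro rfl
      rw [Scheme.basicOpen_zero] at hfy
      exact hfy
    refine ⟨⟨f, hf, hf0⟩, ?_⟩
    change (π ≫ j) y ∈ X.basicOpen f
    rw [Scheme.Hom.comp_apply]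
    exact hfy
  exact PurC.isIntegrallyClosed_top O hne hO hic hcov'

/-- **the integral case** -/
theorem finite_etale_of_integral [IsIntegral X] [IsIntegral Y] [IsRegularLocalRing Γ(X, ⊤)]
    (hdim : (2 : WithBot ℕ∞) ≤ ringKrullDim Γ(X, ⊤)) [CompactSpace Y] [QuasiSeparatedSpace Y]
    (hm : ∀ f ∈ maximalIdeal Γ(X, ⊤), X.basicOpen f ≤ j.opensRange)
    (hcov : ∀ u : U, ∃ f ∈ maximalIdeal Γ(X, ⊤), j u ∈ X.basicOpen f)
    (hY : ∀ y : Y, IsIntegrallyClosed (Y.presheaf.stalk y)) :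
    (π ≫ j).appTop.hom.Finite ∧ (π ≫ j).appTop.hom.Etale := by
  letI : Algebra Γ(X, ⊤) Γ(Y, ⊤) := (π ≫ j).appTop.hom.toAlgebra
  haveI : IsIntegrallyClosed Γ(Y, ⊤) := isIntegrallyClosed_top j π hm hcov hY
  obtain ⟨h1, h2⟩ := PurA.finite_etale Γ(X, ⊤) Γ(Y, ⊤) hdim (appTop_injective j π)
    (fun b f hf => exists_pow_smul_isIntegral j π hm b f hf) (etAway j π hm)
  exact ⟨h1, h2⟩

end Groth.Agent.Helper6.PurD
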