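import Mathlib
import Groth.Prelude.Def_EtBase
import Groth.Agent.Helper5.SmNorm6
import Groth.Agent.Helper5.ConnInt
import Groth.Agent.Helper5.UnramLqf

/-! Étale schemes over a normal integral scheme are locally irreducible. -/

set_option autoImplicit false
set_option linter.style.haveILetI false
set_option linter.unusedSectionVars false
set_option linter.unusedVariables false
set_option linter.unusedSimpArgs false

universe u

open CategoryTheory CategoryTheory.Limits Opposite AlgebraicGeometry TopologicalSpace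

namespace Groth.Agent.Helper6.ConstUnitC

open Groth.Agent.Helper5 Groth.Agent.Helper5.ConnInt

/-- topological lemma: finitely many "generic points" with unique generization ⇒ the closure
of each is clopen -/
theorem isClopen_closure_of_unique_generic {Y : Type*} [TopologicalSpace Y]
    (S : Set Y) (hS : S.Finite) (g : Y → Y) (hgS : ∀ y, g y ∈ S) (hg : ∀ y, g y ⤳ y)
    (huniq : ∀ y, ∀ s ∈ S, s ⤳ y → s = g y) (y₀ : Y) : IsClopen (closure {g y₀}) := by
  refine ⟨isClosed_closure, ?_⟩
  have hcompl : (closure {g y₀})ᶜ = ⋃ s ∈ S \ {g y₀}, closure {s} := by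
    ext y
    simp only [Set.mem_compl_iff, Set.mem_iUnion, exists_prop, Set.mem_sdiff,
      Set.mem_singleton_iff, ← specializes_iff_mem_closure]
    constructor
    · intro hy
      refine ⟨g y, ⟨hgS y, ?_⟩, hg y⟩
      intro h
      exact hy (h ▸ hg y)
    · rintro ⟨s, ⟨hs, hne⟩, hsy⟩ hy
      exact hne ((huniq y s hs hsy).trans (huniq y _ (hgS y₀) hy).symm)
  rw [← isClosed_compl_iff, hcompl]
  exact (hS.subset Set.sdiff_subset).isClosed_biUnion fun _ _ => isClosed_closure

/-- a scheme, flat and quasi-finite over an integral scheme, with domain stalks,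
is locally irreducible -/
theorem exists_irreducible_open {X Y : Scheme.{u}} (π : Y ⟶ X) [Flat π] [LocallyQuasiFinite π]
    [QuasiCompact π] [IsIntegral X]
    (hY : ∀ y : Y, IsDomain (Y.presheaf.stalk y)) (p : Y) :
    ∃ W : Y.Opens, p ∈ W ∧ IsIrreducible (W : Set Y) := by
  let bot : ∀ y : Y, PrimeSpectrum (Y.presheaf.stalk y) := fun y =>
    ⟨⊥, by haveI := hY y; exact Ideal.isPrime_bot⟩
  let g : Y → Y := fun y => Y.fromSpecStalk y (bot y)
  have hg : ∀ y, g y ⤳ y := fun y => by
    have : g y ∈ Set.range (Y.fromSpecStalk y) := ⟨_, rfl⟩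
    rw [Scheme.range_fromSpecStalk] at this
    exact this
  have hgS : ∀ y, g y ∈ π ⁻¹' {genericPoint X} := fun y => by
    have h1 := Scheme.SpecMap_stalkMap_fromSpecStalk (f := π) (x := y)
    have h2 : π (g y) = X.fromSpecStalk (π y) (Spec.map (π.stalkMap y) (bot y)) := by
      rw [← Scheme.Hom.comp_apply, ← Scheme.Hom.comp_apply, h1]
    have h3 : Spec.map (π.stalkMap y) (bot y) = ⟨⊥, Ideal.isPrime_bot⟩ := by
      apply PrimeSpectrum.ext
      show Ideal.comap (π.stalkMap y).hom ⊥ = ⊥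
      rw [← RingHom.ker_eq_comap_bot]
      exact (RingHom.injective_iff_ker_eq_bot _).1 (stalkMap_injective_of_flat π y)
    rw [Set.mem_preimage, Set.mem_singleton_iff, h2, h3]
    exact fromSpecStalk_bot (π y)
  have huniq : ∀ y, ∀ s ∈ π ⁻¹' {genericPoint X}, s ⤳ y → s = g y := by
    intro y s hs hsy
    have : s ∈ Set.range (Y.fromSpecStalk y) := by
      rw [Scheme.range_fromSpecStalk]; exact hsy
    obtain ⟨P, rfl⟩ := this
    have h1 : bot y ⤳ P := by
      rw [← PrimeSpectrum.le_iff_specializes]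
      exact bot_le (a := P.asIdeal)
    have h2 : g y ⤳ Y.fromSpecStalk y P := h1.map (Y.fromSpecStalk y).continuous
    have hdisc := π.isDiscrete_preimage_singleton (genericPoint X)
    rw [isDiscrete_iff_discreteTopology] at hdisc
    have h3 : (⟨g y, hgS y⟩ : π ⁻¹' {genericPoint X}) ⤳ ⟨Y.fromSpecStalk y P, hs⟩ := by
      rw [← Topology.IsInducing.subtypeVal.specializes_iff]
      exact h2
    exact (congrArg Subtype.val h3.eq).symm
  have hcl := isClopen_closure_of_unique_generic (π ⁻¹' {genericPoint X})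
    (π.finite_preimage_singleton _) g hgS hg huniq p
  refine ⟨⟨closure {g p}, hcl.2⟩, ?_, isIrreducible_singleton.closure⟩
  exact (specializes_iff_mem_closure.1 (hg p))

/-- étale schemes over a normal integral scheme are locally irreducible -/
theorem exists_irreducible_nbhd {X : Scheme.{u}} [IsIntegral X]
    (hN : ∀ x : X, IsIntegrallyClosed (X.presheaf.stalk x)) (U : X.Etale) (p : U.left) :
    ∃ (W : X.Etale) (g : W ⟶ U) (w : W.left), g.left w = p ∧ IrreducibleSpace W.left := by
  obtain ⟨_, ⟨(V : X.Opens), hV, rfl⟩, hpV, -⟩ :=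
    X.isBasis_affineOpens.exists_subset_of_mem_open (Set.mem_univ (U.hom p)) isOpen_univ
  obtain ⟨_, ⟨(W₀ : U.left.Opens), hW₀, rfl⟩, hpW₀, hWV⟩ :=
    U.left.isBasis_affineOpens.exists_subset_of_mem_open hpV (V.2.preimage U.hom.continuous)
  haveI : IsAffine ↑V := hV
  haveI : IsAffine ↑W₀ := hW₀
  haveI : Nonempty ↑V := ⟨⟨U.hom p, hpV⟩⟩
  have hrange : Set.range (W₀.ι ≫ U.hom) ⊆ Set.range V.ι := by
    rintro _ ⟨y, rfl⟩
    rw [Scheme.Opens.range_ι]
    exact hWV y.2
  let π₀ : (↑W₀ : Scheme.{u}) ⟶ ↑V := IsOpenImmersion.lift V.ι (W₀.ι ≫ U.hom) hrange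
  have hπ₀ : π₀ ≫ V.ι = W₀.ι ≫ U.hom := IsOpenImmersion.lift_fac _ _ _
  haveI : Etale (W₀.ι ≫ U.hom) := inferInstance
  haveI : Etale π₀ := by
    refine MorphismProperty.of_postcomp (W := @Etale) (W' := @IsOpenImmersion) π₀ V.ι
      inferInstance ?_
    rw [hπ₀]
    infer_instance
  have hdom : ∀ y : ↑W₀, IsDomain ((↑W₀ : Scheme.{u}).presheaf.stalk y) := fun y =>
    (SmNorm.stalk_normal_of_smooth (W₀.ι ≫ U.hom) y
      ⟨(inferInstance : IsDomain (X.presheaf.stalk _)), hN _⟩).1
  haveI : LocallyQuasiFinite π₀ := UnramLqf.locallyQuasiFinite_of_unramified π₀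
  obtain ⟨W₁, hpW₁, hirr⟩ := exists_irreducible_open π₀ hdom ⟨p, hpW₀⟩
  refine ⟨Scheme.Etale.mk (W₁.ι ≫ W₀.ι ≫ U.hom),
    MorphismProperty.Over.homMk (W₁.ι ≫ W₀.ι) (Category.assoc _ _ _), ⟨⟨p, hpW₀⟩, hpW₁⟩, rfl, ?_⟩
  exact Subtype.irreducibleSpace hirr

end Groth.Agent.Helper6.ConstUnitC
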