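import Mathlib
import Groth.Prelude.Def_EtBase
import Groth.Agent.Helper6.ConstUnitC

/-! A Noetherian scheme whose stalks are domains is a disjoint union of clopen irreducible
subsets. -/

set_option autoImplicit false
set_option linter.style.haveILetI false
set_option linter.unusedSectionVars false
set_option linter.unusedVariables false
set_option linter.unusedSimpArgs false

universe u

open CategoryTheory CategoryTheory.Limits Opposite AlgebraicGeometry TopologicalSpace

namespace Groth.Agent.Helper6.RatCohB

theorem exists_clopen_irreducible (X : Scheme.{u}) [IsLocallyNoetherian X] [CompactSpace X]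
    (hD : ∀ x : X, IsDomain (X.presheaf.stalk x)) (p : X) :
    ∃ W : X.Opens, p ∈ W ∧ IsClosed (W : Set X) ∧ IsIrreducible (W : Set X) := by
  haveI : IsNoetherian X := {}
  let bot : ∀ y : X, PrimeSpectrum (X.presheaf.stalk y) := fun y =>
    ⟨⊥, by haveI := hD y; exact Ideal.isPrime_bot⟩
  let g : X → X := fun y => X.fromSpecStalk y (bot y)
  have hg : ∀ y, g y ⤳ y := fun y => by
    have : g y ∈ Set.range (X.fromSpecStalk y) := ⟨_, rfl⟩
    rw [Scheme.range_fromSpecStalk] at this
    exact this
  -- generizations of `g y` are trivial
  have hmax : ∀ y z, z ⤳ g y → z = g y := by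
    intro y z hz
    have : z ∈ Set.range (X.fromSpecStalk y) := by
      rw [Scheme.range_fromSpecStalk]; exact hz.trans (hg y)
    obtain ⟨P, rfl⟩ := this
    have h1 : bot y ⤳ P := by
      rw [← PrimeSpectrum.le_iff_specializes]
      exact bot_le (a := P.asIdeal)
    have h2 : g y ⤳ X.fromSpecStalk y P := h1.map (X.fromSpecStalk y).continuous
    exact (hz.antisymm h2).eq
  let S : Set X := {s | closure {s} ∈ irreducibleComponents X}
  have hSfin : S.Finite := by
    have hfin : (irreducibleComponents X).Finite := finite_irreducibleComponents_of_isNoetherian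
    refine Set.Finite.preimage ?_ hfin
    intro a _ b _ hab
    have hab' : closure {a} = closure {b} := hab
    have h1 : a ⤳ b := by
      rw [specializes_iff_mem_closure, hab']; exact subset_closure rfl
    have h2 : b ⤳ a := by
      rw [specializes_iff_mem_closure, ← hab']; exact subset_closure rfl
    exact (h1.antisymm h2).eq
  have hgS : ∀ y, g y ∈ S := by
    intro y
    show closure {g y} ∈ irreducibleComponents X
    refine ⟨isIrreducible_singleton.closure, ?_⟩
    intro Z' hZ' hle
    -- generic point of closure Z'
    obtain ⟨ζ, hζ⟩ := QuasiSober.sober hZ'.closure isClosed_closure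
    have h1 : ζ ⤳ g y := by
      rw [specializes_iff_mem_closure, hζ.def]
      exact subset_closure (hle (subset_closure rfl))
    have h2 : ζ = g y := hmax y ζ h1
    intro z hz
    have : z ∈ closure Z' := subset_closure hz
    rwa [← hζ.def, h2] at this
  have huniq : ∀ y, ∀ s ∈ S, s ⤳ y → s = g y := by
    intro y s hs hsy
    have : s ∈ Set.range (X.fromSpecStalk y) := by
      rw [Scheme.range_fromSpecStalk]; exact hsy
    obtain ⟨P, rfl⟩ := this
    have h1 : bot y ⤳ P := by
      rw [← PrimeSpectrum.le_iff_specializes]
      exact bot_le (a := P.asIdeal)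
    have h2 : g y ⤳ X.fromSpecStalk y P := h1.map (X.fromSpecStalk y).continuous
    have hle : closure {X.fromSpecStalk y P} ⊆ closure {g y} :=
      (specializes_iff_closure_subset.1 h2)
    have hmaxs : closure {g y} ⊆ closure {X.fromSpecStalk y P} :=
      hs.2 isIrreducible_singleton.closure hle
    have h3 : X.fromSpecStalk y P ⤳ g y := specializes_iff_closure_subset.2 hmaxs
    exact (h3.antisymm h2).eq
  have hcl := ConstUnitC.isClopen_closure_of_unique_generic S hSfin g hgS hg huniq p
  exact ⟨⟨closure {g p}, hcl.2⟩, specializes_iff_mem_closure.1 (hg p), hcl.1,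
    isIrreducible_singleton.closure⟩

/-- two clopen irreducible subsets which meet are equal -/
theorem eq_of_clopen_irreducible {T : Type*} [TopologicalSpace T] {A B : Set T}
    (hA : IsClopen A) (hB : IsClopen B) (hAi : IsIrreducible A) (hBi : IsIrreducible B)
    (h : (A ∩ B).Nonempty) : A = B := by
  have key : ∀ {A B : Set T}, IsClopen B → IsIrreducible A → (A ∩ B).Nonempty → A ⊆ B := by
    intro A B hB hAi h
    exact hAi.isConnected.isPreconnected.subset_isClopen hB h
  exact Set.Subset.antisymm (key hB hAi h) (key hA hBi (by rwa [Set.inter_comm]))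

end Groth.Agent.Helper6.RatCohB
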