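import Mathlib
import Groth.Agent.Helper6.PurB
import Groth.Agent.Helper6.PurD
import Groth.Agent.Helper6.RatCohB
import Groth.Agent.Helper5.SmNorm6

/-!
# Purity assembly, part E: reduction to the integral case
-/

set_option autoImplicit false
set_option linter.style.haveILetI false
set_option linter.unusedSectionVars false
set_option linter.unusedVariables false
set_option linter.unusedSimpArgs false

universe u

open AlgebraicGeometry CategoryTheory CategoryTheory.Limits TopologicalSpace Opposite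
open IsLocalRing

namespace Groth.Agent.Helper6.PurE

open Groth.Agent.Helper5

/-- clopen irreducible subsets of a Noetherian space are finite in number -/
theorem finite_clopen_irreducible (Y : Scheme.{u}) [IsNoetherian Y] :
    Finite {W : Y.Opens // IsClosed (W : Set Y) ∧ IsIrreducible (W : Set Y)} := by
  have hfin : (irreducibleComponents Y).Finite :=
    TopologicalSpace.NoetherianSpace.finite_irreducibleComponents
  have hmem : ∀ W : {W : Y.Opens // IsClosed (W : Set Y) ∧ IsIrreducible (W : Set Y)},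
      (W.1 : Set Y) ∈ irreducibleComponents Y := by
    intro W
    refine ⟨W.2.2, fun Z hZ hWZ => ?_⟩
    have hne : ((Z : Set Y) ∩ (W.1 : Set Y)).Nonempty := by
      obtain ⟨x, hx⟩ := W.2.2.nonempty
      exact ⟨x, hWZ hx, hx⟩
    exact hZ.isConnected.isPreconnected.subset_isClopen ⟨W.2.1, W.1.2⟩ hne
  haveI := hfin.to_subtype
  refine Finite.of_injective (fun W => (⟨(W.1 : Set Y), hmem W⟩ : irreducibleComponents Y)) ?_
  intro W W' h
  exact Subtype.ext (Opens.ext (congrArg Subtype.val h))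

set_option backward.isDefEq.respectTransparency.types false in
/-- **finite étale covers of the punctured spectrum have finite étale global sections** -/
theorem finite_etale_sections {X U Y : Scheme.{u}} [IsAffine X] [IsIntegral X] (j : U ⟶ X)
    [IsOpenImmersion j] (π : Y ⟶ U) [IsFinite π] [Etale π] [IsLocallyNoetherian Y]
    [CompactSpace Y] [IsRegularLocalRing Γ(X, ⊤)]
    (hdim : (2 : WithBot ℕ∞) ≤ ringKrullDim Γ(X, ⊤))
    (hm : ∀ f ∈ maximalIdeal Γ(X, ⊤), X.basicOpen f ≤ j.opensRange)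
    (hcov : ∀ u : U, ∃ f ∈ maximalIdeal Γ(X, ⊤), j u ∈ X.basicOpen f)
    (hX : ∀ x : X, IsDomain (X.presheaf.stalk x) ∧ IsIntegrallyClosed (X.presheaf.stalk x)) :
    (π ≫ j).appTop.hom.Finite ∧ (π ≫ j).appTop.hom.Etale := by
  haveI : IsNoetherian Y := {}
  have hN : ∀ y : Y, IsDomain (Y.presheaf.stalk y) ∧ IsIntegrallyClosed (Y.presheaf.stalk y) :=
    fun y => SmNorm.stalk_normal_of_smooth (π ≫ j) y (hX _)
  let μ : Type u := {W : Y.Opens // IsClosed (W : Set Y) ∧ IsIrreducible (W : Set Y)}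
  haveI : Finite μ := finite_clopen_irreducible Y
  -- the pieces
  have hpiece : ∀ W : μ, ((W.1.ι ≫ π) ≫ j).appTop.hom.Finite ∧
      ((W.1.ι ≫ π) ≫ j).appTop.hom.Etale := by
    intro W
    have hn : ∀ y : (W.1 : Scheme.{u}), IsDomain ((W.1 : Scheme.{u}).presheaf.stalk y) ∧
        IsIntegrallyClosed ((W.1 : Scheme.{u}).presheaf.stalk y) := fun y =>
      SmNorm.stalk_normal_of_smooth W.1.ι y (hN _)
    haveI : IsReduced (W.1 : Scheme.{u}) := by
      haveI : ∀ y : (W.1 : Scheme.{u}), _root_.IsReduced ((W.1 : Scheme.{u}).presheaf.stalk y) :=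
        fun y => by
          haveI := (hn y).1; infer_instance
      exact isReduced_of_isReduced_stalk _
    haveI : IrreducibleSpace ↥(W.1 : Scheme.{u}) := Subtype.irreducibleSpace W.2.2
    haveI : IsIntegral (W.1 : Scheme.{u}) := isIntegral_of_irreducibleSpace_of_isReduced _
    haveI : CompactSpace ↥(W.1 : Scheme.{u}) := isCompact_iff_compactSpace.1 W.2.1.isCompact
    haveI : IsClosedImmersion W.1.ι := by
      apply IsClosedImmersion.of_isPreimmersion
      rw [Scheme.Opens.range_ι]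
      exact W.2.1
    haveI : IsFinite (W.1.ι ≫ π) := inferInstance
    haveI : Etale (W.1.ι ≫ π) := inferInstance
    exact PurD.finite_etale_of_integral j (W.1.ι ≫ π) hdim hm hcov (fun y => (hn y).2)
  -- the product decomposition
  let O : μ → Y.Opens := fun W => W.1.ι ''ᵁ ⊤
  have hO : ∀ W : μ, O W = W.1 := fun W => Scheme.Opens.ι_image_top W.1
  have hbij := PurB.bijective_pi_of_disjoint O
    (by
      intro a b hab
      rw [hO, hO]
      by_contra hne
      apply hab
      have h1 : ((a.1 : Set Y) ∩ (b.1 : Set Y)).Nonempty := by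
        by_contra h0
        apply hne
        ext1
        rw [Set.not_nonempty_iff_eq_empty] at h0
        exact h0
      have h2 := RatCohB.eq_of_clopen_irreducible ⟨a.2.1, a.1.2⟩ ⟨b.2.1, b.1.2⟩ a.2.2 b.2.2 h1
      exact Subtype.ext (Opens.ext h2))
    (by
      intro y
      obtain ⟨W, hy, hcl, hirr⟩ := RatCohB.exists_clopen_irreducible Y (fun x => (hN x).1) y
      refine ⟨⟨W, hcl, hirr⟩, ?_⟩
      rw [hO]
      exact hy)
  -- algebra structures
  letI : Algebra Γ(X, ⊤) Γ(Y, ⊤) := (π ≫ j).appTop.hom.toAlgebra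
  letI : ∀ W : μ, Algebra Γ(X, ⊤) Γ((W.1 : Scheme.{u}), ⊤) := fun W =>
    ((W.1.ι ≫ π) ≫ j).appTop.hom.toAlgebra
  haveI : ∀ W : μ, Module.Finite Γ(X, ⊤) Γ((W.1 : Scheme.{u}), ⊤) := fun W => (hpiece W).1
  haveI : ∀ W : μ, Algebra.Etale Γ(X, ⊤) Γ((W.1 : Scheme.{u}), ⊤) := fun W => (hpiece W).2
  let ρ : Γ(Y, ⊤) →+* (∀ W : μ, Γ((W.1 : Scheme.{u}), ⊤)) :=
    RingHom.pi (fun W => W.1.ι.appTop.hom)
  have hρ : Function.Bijective ρ := by
    have : (ρ : Γ(Y, ⊤) → (∀ W : μ, Γ((W.1 : Scheme.{u}), ⊤))) = fun (b : Γ(Y, ⊤)) (W : μ) =>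
        (Y.presheaf.map (homOfLE (le_top : O W ≤ ⊤)).op).hom b := by
      funext b W
      change W.1.ι.appTop.hom b = _
      rw [Scheme.Opens.ι_appTop]
      rfl
    rw [this]
    exact hbij
  let E : Γ(Y, ⊤) ≃ₐ[Γ(X, ⊤)] (∀ W : μ, Γ((W.1 : Scheme.{u}), ⊤)) :=
    AlgEquiv.ofRingEquiv (f := RingEquiv.ofBijective ρ hρ) (by
      intro r
      funext W
      change W.1.ι.appTop.hom ((π ≫ j).appTop.hom r) = ((W.1.ι ≫ π) ≫ j).appTop.hom r
      rw [Category.assoc, Scheme.Hom.comp_appTop (W.1.ι) (π ≫ j)]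
      rfl)
  have h1 : Module.Finite Γ(X, ⊤) Γ(Y, ⊤) := Module.Finite.equiv E.symm.toLinearEquiv
  have h2 : Algebra.Etale Γ(X, ⊤) Γ(Y, ⊤) := Algebra.Etale.of_equiv E.symm
  exact ⟨h1, h2⟩

end Groth.Agent.Helper6.PurE
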