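import Mathlib
import Groth.Prelude.Def_FEt
import Groth.Agent.Helper6.PurE
import Groth.Agent.Lead.FEtFF

/-!
# Purity assembly, part F: purity holds for regular local rings of dimension `≥ 2` (S0247)
-/

set_option autoImplicit false
set_option linter.style.haveILetI false
set_option linter.unusedSectionVars false
set_option linter.unusedVariables false
set_option linter.unusedSimpArgs false

universe u

open AlgebraicGeometry CategoryTheory CategoryTheory.Limits TopologicalSpace Opposite
open IsLocalRing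

namespace Groth.Agent.Helper6.PurF

lemma bij_of_eq {X : Scheme.{u}} {V₁ V₂ W : X.Opens} (e : V₁ = V₂) (h1 : V₁ ≤ W) (h2 : V₂ ≤ W) :
    Function.Bijective (X.presheaf.map (homOfLE h1).op) ↔
      Function.Bijective (X.presheaf.map (homOfLE h2).op) := by
  subst e
  rfl

/-- normality of the stalks of `Spec A` for a normal domain `A` -/
theorem stalk_normal_Spec (A : Type u) [CommRing A] [IsDomain A] [IsIntegrallyClosed A]
    (x : Spec (CommRingCat.of A)) :
    IsDomain ((Spec (CommRingCat.of A)).presheaf.stalk x) ∧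
      IsIntegrallyClosed ((Spec (CommRingCat.of A)).presheaf.stalk x) := by
  let e : Localization.AtPrime x.asIdeal ≃+*
      ((Spec (CommRingCat.of A)).presheaf.stalk x) :=
    (AlgebraicGeometry.StructureSheaf.stalkIso A x).toRingEquiv
  haveI : IsDomain (Localization.AtPrime x.asIdeal) :=
    IsLocalization.isDomain_localization x.asIdeal.primeCompl_le_nonZeroDivisors
  haveI : IsIntegrallyClosed (Localization.AtPrime x.asIdeal) :=
    isIntegrallyClosed_of_isLocalization _ x.asIdeal.primeCompl
      x.asIdeal.primeCompl_le_nonZeroDivisors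
  exact ⟨e.symm.toMulEquiv.isDomain _, IsIntegrallyClosed.of_equiv e⟩

set_option backward.isDefEq.respectTransparency.types false in
/-- **S0247**: purity holds for regular local rings of dimension `≥ 2` -/
theorem main (A : Type u) [CommRing A] [IsRegularLocalRing A]
    (h : (2 : WithBot ℕ∞) ≤ ringKrullDim A) : FEt.PurityHolds A := by
  haveI : IsDomain A := Groth.Agent.Lead.RegLocal.isDomain_of_isRegularLocalRing A
  haveI : IsIntegrallyClosed A :=
    Groth.Agent.Helper4.RegNormal.isIntegrallyClosed_of_isRegularLocalRing A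
  let X : Scheme.{u} := Spec (CommRingCat.of A)
  let U : X.Opens := FEt.puncturedSpec A
  let e : A ≃+* Γ(X, ⊤) := (Scheme.ΓSpecIso (CommRingCat.of A)).symm.commRingCatIsoToRingEquiv
  haveI : IsRegularLocalRing Γ(X, ⊤) := IsRegularLocalRing.of_ringEquiv e
  have hdim : (2 : WithBot ℕ∞) ≤ ringKrullDim Γ(X, ⊤) := by
    rw [← ringKrullDim_eq_of_ringEquiv e]
    exact h
  have hmax : ∀ f : Γ(X, ⊤), f ∈ maximalIdeal Γ(X, ⊤) ↔ e.symm f ∈ maximalIdeal A := by
    intro f
    rw [mem_maximalIdeal, mem_maximalIdeal, mem_nonunits_iff, mem_nonunits_iff,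
      MulEquiv.isUnit_map]
  have hes : ∀ f : Γ(X, ⊤), (Scheme.ΓSpecIso (CommRingCat.of A)).hom f = e.symm f := fun f => rfl
  have hm : ∀ f ∈ maximalIdeal Γ(X, ⊤), X.basicOpen f ≤ U.ι.opensRange := by
    intro f hf
    rw [Scheme.Opens.opensRange_ι, basicOpen_eq_of_affine']
    intro x hx
    have hx' : (Scheme.ΓSpecIso (CommRingCat.of A)).hom f ∉ x.asIdeal := hx
    change x ∈ ({closedPoint A}ᶜ : Set (PrimeSpectrum A))
    intro hxc
    rw [Set.mem_singleton_iff] at hxc
    subst hxc
    exact hx' ((hmax f).mp hf)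
  have hcov : ∀ u : U, ∃ f ∈ maximalIdeal Γ(X, ⊤), U.ι u ∈ X.basicOpen f := by
    intro u
    have hu : (u.1 : PrimeSpectrum A) ≠ closedPoint A := u.2
    have hex : ∃ a ∈ maximalIdeal A, a ∉ (u.1 : PrimeSpectrum A).asIdeal := by
      by_contra hcon
      push Not at hcon
      apply hu
      apply PrimeSpectrum.ext
      exact le_antisymm (le_maximalIdeal (u.1 : PrimeSpectrum A).2.ne_top) hcon
    obtain ⟨a, ha, hau⟩ := hex
    refine ⟨e a, (hmax _).mpr (by rw [e.symm_apply_apply]; exact ha), ?_⟩
    rw [basicOpen_eq_of_affine']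
    change (Scheme.ΓSpecIso (CommRingCat.of A)).hom (e a) ∉ (u.1 : PrimeSpectrum A).asIdeal
    rw [hes, e.symm_apply_apply]
    exact hau
  -- Hartogs
  have hdepth : (2 : ℕ∞) ≤ LocCoh.depth A A :=
    Groth.Agent.Helper7.ZNPur.two_le_depth_of_normal A h
  have hbij := Groth.Agent.Lead.FEtFF.hartogs_punctured A hdepth ⊤
  haveI : IsIso U.ι.appTop := by
    rw [Scheme.Opens.ι_appTop]
    apply (ConcreteCategory.isIso_iff_bijective _).mpr
    refine (bij_of_eq ?_ _ _).mp hbij
    rw [Scheme.Opens.ι_image_top]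
    exact top_inf_eq _
  haveI : IsNoetherian X := inferInstance
  haveI : CompactSpace ↥(U : Scheme.{u}) :=
    isCompact_iff_compactSpace.1 (TopologicalSpace.NoetherianSpace.isCompact (U : Set X))
  constructor
  intro V
  let Y : Scheme.{u} := V.left
  let π : Y ⟶ (U : Scheme.{u}) := V.hom
  haveI : IsFinite π := V.prop.1
  haveI : Etale π := V.prop.2
  haveI : IsLocallyNoetherian (U : Scheme.{u}) := inferInstance
  haveI : IsLocallyNoetherian Y := LocallyOfFiniteType.isLocallyNoetherian π
  haveI : CompactSpace Y := QuasiCompact.compactSpace_of_compactSpace π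
  obtain ⟨hfin, het⟩ := PurE.finite_etale_sections U.ι π hdim hm hcov
    (stalk_normal_Spec A)
  obtain ⟨G, γ, i, hγf, hγe, sq⟩ := PurB.exists_extension_of_sections U.ι π hfin het
  exact ⟨MorphismProperty.Over.mk ⊤ γ ⟨hγf, hγe⟩,
    ⟨MorphismProperty.Over.isoMk sq.isoPullback.symm sq.isoPullback_inv_snd⟩⟩

end Groth.Agent.Helper6.PurF
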