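import Mathlib
import Groth.Agent.Helper6.BirC
import Groth.Agent.Helper6.BirD
import Groth.Agent.Helper4.RegNormal
import Groth.Agent.S0244
import Groth.Agent.S0005

set_option autoImplicit false
set_option linter.style.haveILetI false
set_option linter.unusedSectionVars false
set_option linter.unusedVariables false
set_option linter.unusedSimpArgs false

universe u

open CategoryTheory CategoryTheory.Limits AlgebraicGeometry

namespace Groth.Agent.Helper6.BirE

/-- A proper birational morphism from a normal integral scheme to a regular integral Noetherian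
scheme induces an equivalence on finite étale covers. -/
theorem main {X Y : Scheme.{u}} (f : X ⟶ Y) [IsIntegral X] [IsIntegral Y] [IsNoetherian Y]
    (hX : Pi1.IsNormalScheme X) (hY : ∀ y : Y, IsRegularLocalRing (Y.presheaf.stalk y))
    [IsProper f] (V : Y.Opens) (hV : (V : Set Y).Nonempty) (hf : IsIso (f ∣_ V)) :
    (FEt.restrict f).IsEquivalence := by
  obtain ⟨U', hVU', hiso, hcodim⟩ := Groth.Agent.Helper6.BirC.exists_isoLocus f hY V hV hf
  have hequivY : (FEt.restrict U'.ι).IsEquivalence := Groth.Agent.S0005.result Y hY U' hcodim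
  have hequivf' : (FEt.restrict (f ∣_ U')).IsEquivalence :=
    Groth.Agent.Helper6.BirD.restrict_isEquivalence_of_isIso _
  -- nonemptiness of the preimage
  obtain ⟨y₀, hy₀⟩ := hV
  obtain ⟨⟨x₀, hx₀U'⟩, -⟩ : ∃ x : (f ⁻¹ᵁ U').toScheme, (f ∣_ U') x = ⟨y₀, hVU' hy₀⟩ :=
    ((TopCat.homeoOfIso (asIso (f ∣_ U').base)).surjective) _
  obtain ⟨hfullX, hfaithX⟩ := Groth.Agent.S0244.result hX (f ⁻¹ᵁ U') ⟨x₀, hx₀U'⟩
  let α : FEt.restrict f ⋙ FEt.restrict (f ⁻¹ᵁ U').ι ≅
      FEt.restrict U'.ι ⋙ FEt.restrict (f ∣_ U') :=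
    (Groth.Agent.Helper6.BirD.restrictComp (f ⁻¹ᵁ U').ι f _ rfl).symm ≪≫
      Groth.Agent.Helper6.BirD.restrictComp (f ∣_ U') U'.ι _ (morphismRestrict_ι f U').symm
  have : (FEt.restrict U'.ι ⋙ FEt.restrict (f ∣_ U')).IsEquivalence := inferInstance
  have : (FEt.restrict f ⋙ FEt.restrict (f ⁻¹ᵁ U').ι).IsEquivalence :=
    Functor.isEquivalence_of_iso α.symm
  exact Groth.Agent.Helper6.BirD.isEquivalence_of_comp_ff (FEt.restrict f)
    (FEt.restrict (f ⁻¹ᵁ U').ι)

end Groth.Agent.Helper6.BirE
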