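import Mathlib

set_option autoImplicit false
set_option linter.style.haveILetI false
set_option linter.unusedSectionVars false
set_option linter.unusedVariables false
set_option linter.unusedSimpArgs false

universe u

open CategoryTheory CategoryTheory.Limits AlgebraicGeometry

namespace Groth.Agent.Helper6.BirG

theorem isDominant_homOfLE_inf {X : Scheme.{u}} (U : X.Opens) (hU : Dense (U : Set X))
    (A : X.Opens) : IsDominant (X.homOfLE (inf_le_left : A ⊓ U ≤ A)) := by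
  constructor
  intro a
  rw [mem_closure_iff]
  intro o ho hao
  have ho' : IsOpen (A.ι '' o) := A.ι.isOpenEmbedding.isOpenMap o ho
  obtain ⟨z, ⟨a', ha'o, rfl⟩, hzU⟩ := hU.inter_open_nonempty (A.ι '' o) ho' ⟨A.ι a, a, hao, rfl⟩
  refine ⟨a', ha'o, ⟨⟨a'.1, a'.2, hzU⟩, ?_⟩⟩
  apply Subtype.ext
  rw [Scheme.homOfLE_base]
  rfl

/-- two morphisms from an open `A` of a reduced scheme to an `S`-separated scheme which agree on
`A ⊓ U` for a dense open `U` are equal. -/
theorem eq_of_eq_on_dense {X Y S : Scheme.{u}} [IsReduced X] (sY : Y ⟶ S) [IsSeparated sY]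
    (U : X.Opens) (hU : Dense (U : Set X)) (A : X.Opens) (a b : A.toScheme ⟶ Y)
    (hab : a ≫ sY = b ≫ sY)
    (h : X.homOfLE (inf_le_left : A ⊓ U ≤ A) ≫ a = X.homOfLE (inf_le_left : A ⊓ U ≤ A) ≫ b) :
    a = b := by
  have := isDominant_homOfLE_inf U hU A
  exact ext_of_isDominant_of_isSeparated sY hab (X.homOfLE (inf_le_left : A ⊓ U ≤ A)) h

/-- gluing a family of `S`-morphisms to a separated `S`-scheme, each of which agrees with a given
morphism `h₀` on a dense open `U`. -/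
theorem exists_glue {X Y S : Scheme.{u}} [IsReduced X] (sX : X ⟶ S) (sY : Y ⟶ S) [IsSeparated sY]
    (U : X.Opens) (hU : Dense (U : Set X)) (h₀ : U.toScheme ⟶ Y)
    {J : Type*} (N : J → X.Opens) (s : ∀ j, (N j).toScheme ⟶ Y)
    (hs : ∀ j, s j ≫ sY = (N j).ι ≫ sX)
    (hsU : ∀ j, X.homOfLE (inf_le_left : N j ⊓ U ≤ N j) ≫ s j =
      X.homOfLE (inf_le_right : N j ⊓ U ≤ U) ≫ h₀) :
    ∃ h : (⨆ j, N j).toScheme ⟶ Y, h ≫ sY = (⨆ j, N j).ι ≫ sX ∧
      ∀ j, X.homOfLE (le_iSup N j) ≫ h = s j := by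
  have key : ∀ i j, X.homOfLE (inf_le_left : N i ⊓ N j ≤ N i) ≫ s i =
      X.homOfLE (inf_le_right : N i ⊓ N j ≤ N j) ≫ s j := by
    intro i j
    apply eq_of_eq_on_dense sY U hU (N i ⊓ N j)
    · rw [Category.assoc, Category.assoc, hs, hs, Scheme.homOfLE_ι_assoc, Scheme.homOfLE_ι_assoc]
    · have h1 : X.homOfLE (inf_le_left : (N i ⊓ N j) ⊓ U ≤ N i ⊓ N j) ≫
          X.homOfLE (inf_le_left : N i ⊓ N j ≤ N i) =
          X.homOfLE (inf_le_inf_right U inf_le_left : (N i ⊓ N j) ⊓ U ≤ N i ⊓ U) ≫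
            X.homOfLE (inf_le_left : N i ⊓ U ≤ N i) := by
        rw [Scheme.homOfLE_homOfLE, Scheme.homOfLE_homOfLE]
      have h2 : X.homOfLE (inf_le_left : (N i ⊓ N j) ⊓ U ≤ N i ⊓ N j) ≫
          X.homOfLE (inf_le_right : N i ⊓ N j ≤ N j) =
          X.homOfLE (inf_le_inf_right U inf_le_right : (N i ⊓ N j) ⊓ U ≤ N j ⊓ U) ≫
            X.homOfLE (inf_le_left : N j ⊓ U ≤ N j) := by
        rw [Scheme.homOfLE_homOfLE, Scheme.homOfLE_homOfLE]
      rw [← Category.assoc, ← Category.assoc, h1, h2, Category.assoc, Category.assoc, hsU, hsU,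
        ← Category.assoc, ← Category.assoc, Scheme.homOfLE_homOfLE, Scheme.homOfLE_homOfLE]
  let 𝒰 := Scheme.Opens.iSupOpenCover N
  have compat : ∀ i j : J,
      pullback.fst (X.homOfLE (le_iSup N i)) (X.homOfLE (le_iSup N j)) ≫ s i =
      pullback.snd (X.homOfLE (le_iSup N i)) (X.homOfLE (le_iSup N j)) ≫ s j := by
    intro i j
    have hp := isPullback_opens_inf_le (le_iSup N i) (le_iSup N j)
    rw [← cancel_epi hp.isoPullback.hom]
    have e1 : hp.isoPullback.hom ≫ pullback.fst (X.homOfLE (le_iSup N i))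
        (X.homOfLE (le_iSup N j)) = X.homOfLE inf_le_left :=
      hp.isoPullback_hom_fst
    have e2 : hp.isoPullback.hom ≫ pullback.snd (X.homOfLE (le_iSup N i))
        (X.homOfLE (le_iSup N j)) = X.homOfLE inf_le_right :=
      hp.isoPullback_hom_snd
    rw [← Category.assoc, ← Category.assoc, e1, e2]
    exact key i j
  let h : (⨆ j, N j).toScheme ⟶ Y := 𝒰.glueMorphisms s compat
  have hι : ∀ j, X.homOfLE (le_iSup N j) ≫ h = s j := fun j => 𝒰.ι_glueMorphisms s compat j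
  refine ⟨h, ?_, hι⟩
  apply 𝒰.hom_ext
  intro j
  change X.homOfLE (le_iSup N j) ≫ h ≫ sY = X.homOfLE (le_iSup N j) ≫ (⨆ j, N j).ι ≫ sX
  rw [← Category.assoc, hι, hs, Scheme.homOfLE_ι_assoc]

end Groth.Agent.Helper6.BirG
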