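import Mathlib

set_option autoImplicit false
set_option linter.style.haveILetI false
set_option linter.unusedSectionVars false
set_option linter.unusedVariables false
set_option linter.unusedSimpArgs false

universe u

open CategoryTheory CategoryTheory.Limits AlgebraicGeometry

namespace Groth.Agent.Helper6.BirH

theorem fromSpecStalkOfMem_homOfLE {X : Scheme.{u}} {A B : X.Opens} (hAB : A ≤ B) (x : X)
    (hx : x ∈ A) :
    A.fromSpecStalkOfMem x hx ≫ X.homOfLE hAB = B.fromSpecStalkOfMem x (hAB hx) := by
  rw [← cancel_mono B.ι, Category.assoc, Scheme.homOfLE_ι, Scheme.Opens.fromSpecStalkOfMem_ι,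
    Scheme.Opens.fromSpecStalkOfMem_ι]

theorem specMap_stalkSpecializes_fromSpecStalkOfMem {X : Scheme.{u}} (A : X.Opens) {x y : X}
    (h : y ⤳ x) (hx : x ∈ A) :
    Spec.map (X.presheaf.stalkSpecializes h) ≫ A.fromSpecStalkOfMem x hx =
      A.fromSpecStalkOfMem y (h.mem_open A.2 hx) := by
  rw [← cancel_mono A.ι, Category.assoc, Scheme.Opens.fromSpecStalkOfMem_ι,
    Scheme.Opens.fromSpecStalkOfMem_ι, Scheme.SpecMap_stalkSpecializes_fromSpecStalk]

theorem isDominant_fromSpecStalkOfMem_genericPoint {X : Scheme.{u}} [IsIntegral X] (A : X.Opens)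
    (hη : genericPoint X ∈ A) : IsDominant (A.fromSpecStalkOfMem (genericPoint X) hη) := by
  constructor
  intro a
  have h1 : A.fromSpecStalkOfMem (genericPoint X) hη
      (IsLocalRing.closedPoint (X.presheaf.stalk (genericPoint X))) = ⟨genericPoint X, hη⟩ := by
    apply Subtype.ext
    change A.ι (A.fromSpecStalkOfMem (genericPoint X) hη _) = genericPoint X
    rw [← Scheme.Hom.comp_apply, Scheme.Opens.fromSpecStalkOfMem_ι,
      Scheme.fromSpecStalk_closedPoint]
  have h2 : (⟨genericPoint X, hη⟩ : A) ⤳ a :=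
    (subtype_specializes_iff _ _).2 (genericPoint_specializes a.1)
  have h3 : ({(⟨genericPoint X, hη⟩ : A)} : Set A) ⊆
      Set.range (A.fromSpecStalkOfMem (genericPoint X) hη) := by
    rintro _ rfl
    exact ⟨_, h1⟩
  exact closure_mono h3 (specializes_iff_mem_closure.mp h2)

/-- **Local extension (integral case)**: a morphism to a proper `S`-scheme defined on a nonempty
open of an integral scheme extends over a neighbourhood of every point whose local ring is a
valuation ring. -/
theorem exists_local_extension_integral {X Y S : Scheme.{u}} [IsIntegral X] (sX : X ⟶ S)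
    (sY : Y ⟶ S) [IsProper sY] (U : X.Opens) (hUne : (U : Set X).Nonempty)
    (h₀ : U.toScheme ⟶ Y) (hh₀ : h₀ ≫ sY = U.ι ≫ sX) (x : X)
    [hv : ValuationRing (X.presheaf.stalk x)] :
    ∃ (N : X.Opens) (_ : x ∈ N) (s : N.toScheme ⟶ Y), s ≫ sY = N.ι ≫ sX ∧
      X.homOfLE (inf_le_left : N ⊓ U ≤ N) ≫ s = X.homOfLE (inf_le_right : N ⊓ U ≤ U) ≫ h₀ := by
  have hη : genericPoint X ∈ U :=
    ((genericPoint_spec X).mem_open_set_iff U.isOpen).mpr (by simpa using hUne)
  let g₀ : Spec (X.presheaf.stalk (genericPoint X)) ⟶ Y :=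
    U.fromSpecStalkOfMem (genericPoint X) hη ≫ h₀
  have hg₀ : g₀ ≫ sY = X.fromSpecStalk (genericPoint X) ≫ sX := by
    simp only [g₀, Category.assoc]
    rw [hh₀, ← Category.assoc, Scheme.Opens.fromSpecStalkOfMem_ι]
  have hex : ValuativeCriterion.Existence sY := by
    have h : UniversallyClosed sY := inferInstance
    rw [UniversallyClosed.eq_valuativeCriterion] at h
    exact h.1
  have hdom : IsDomain (X.presheaf.stalk x) := inferInstance
  have hfr : IsFractionRing (X.presheaf.stalk x) X.functionField := inferInstance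
  have hspec : genericPoint X ⤳ x := (genericPoint_spec X).specializes trivial
  have hsq : CommSq g₀
      (Spec.map (CommRingCat.ofHom (algebraMap (X.presheaf.stalk x) X.functionField)))
      sY (X.fromSpecStalk x ≫ sX) := ⟨by
    rw [hg₀, ← Category.assoc]
    congr 1
    exact (Scheme.SpecMap_stalkSpecializes_fromSpecStalk hspec).symm⟩
  let Sq : ValuativeCommSq sY :=
    { R := X.presheaf.stalk x
      commRing := inferInstance
      domain := hdom
      valuationRing := hv
      K := X.functionField
      field := inferInstance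
      algebra := inferInstance
      isFractionRing := hfr
      i₁ := g₀
      i₂ := X.fromSpecStalk x ≫ sX
      commSq := hsq }
  obtain ⟨l⟩ := (hex Sq).exists_lift
  have hl1 : Spec.map (X.presheaf.stalkSpecializes hspec) ≫ l.l = g₀ := l.fac_left
  have hl2 : l.l ≫ sY = X.fromSpecStalk x ≫ sX := l.fac_right
  obtain ⟨N, hxN, s, hs1, hs2⟩ := spread_out_of_isGermInjective' sX sY l.l hl2
  refine ⟨N, hxN, s, hs2, ?_⟩
  have hηN : genericPoint X ∈ N := hspec.mem_open N.2 hxN
  have := isDominant_fromSpecStalkOfMem_genericPoint (N ⊓ U) ⟨hηN, hη⟩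
  apply ext_of_isDominant_of_isSeparated sY ?_
    ((N ⊓ U).fromSpecStalkOfMem (genericPoint X) ⟨hηN, hη⟩)
  · rw [← Category.assoc, ← Category.assoc, fromSpecStalkOfMem_homOfLE,
      fromSpecStalkOfMem_homOfLE]
    change _ = g₀
    rw [← hl1, hs1, ← Category.assoc, specMap_stalkSpecializes_fromSpecStalkOfMem]
  · rw [Category.assoc, Category.assoc, hs2, hh₀, Scheme.homOfLE_ι_assoc,
      Scheme.homOfLE_ι_assoc]

end Groth.Agent.Helper6.BirH
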