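import Mathlib
import Groth.Agent.Helper6.BirH

set_option autoImplicit false
set_option linter.style.haveILetI false
set_option linter.unusedSectionVars false
set_option linter.unusedVariables false
set_option linter.unusedSimpArgs false

universe u

open CategoryTheory CategoryTheory.Limits AlgebraicGeometry

namespace Groth.Agent.Helper6.BirI

theorem valuationRing_of_ringEquiv {A B : Type*} [CommRing A] [IsDomain A] [CommRing B] [IsDomain B]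
    (e : A ≃+* B) [ValuationRing A] : ValuationRing B := by
  refine { toPreValuationRing := ⟨?_⟩ }
  intro a b
  obtain ⟨c, hc | hc⟩ := ValuationRing.cond (e.symm a) (e.symm b)
  · exact ⟨e c, Or.inl (by rw [← e.apply_symm_apply a, ← map_mul, hc, e.apply_symm_apply])⟩
  · exact ⟨e c, Or.inr (by rw [← e.apply_symm_apply b, ← map_mul, hc, e.apply_symm_apply])⟩

/-- **Local extension**: the same as the integral case, for a point with an integral open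
neighbourhood `W`. -/
theorem exists_local_extension {X Y S : Scheme.{u}} (sX : X ⟶ S)
    (sY : Y ⟶ S) [IsProper sY] (U : X.Opens) (hU : Dense (U : Set X))
    (h₀ : U.toScheme ⟶ Y) (hh₀ : h₀ ≫ sY = U.ι ≫ sX) (W : X.Opens) [IsIntegral W.toScheme]
    (x : X) (hxW : x ∈ W) [IsDomain (X.presheaf.stalk x)]
    [hv : ValuationRing (X.presheaf.stalk x)] :
    ∃ (N : X.Opens) (_ : x ∈ N) (s : N.toScheme ⟶ Y), s ≫ sY = N.ι ≫ sX ∧
      X.homOfLE (inf_le_left : N ⊓ U ≤ N) ≫ s = X.homOfLE (inf_le_right : N ⊓ U ≤ U) ≫ h₀ := by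
  let x' : W.toScheme := ⟨x, hxW⟩
  have hv' : ValuationRing (W.toScheme.presheaf.stalk x') :=
    valuationRing_of_ringEquiv (W.stalkIso x').commRingCatIsoToRingEquiv.symm
  have hU'ne : ((W.ι ⁻¹ᵁ U : W.toScheme.Opens) : Set W.toScheme).Nonempty := by
    obtain ⟨z, hzW, hzU⟩ := hU.inter_open_nonempty W W.2 ⟨x, hxW⟩
    exact ⟨⟨z, hzW⟩, hzU⟩
  obtain ⟨N', hxN', s', hs', hc'⟩ :=
    Groth.Agent.Helper6.BirH.exists_local_extension_integral (W.ι ≫ sX) sY (W.ι ⁻¹ᵁ U) hU'ne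
      ((W.ι ∣_ U) ≫ h₀) (by rw [Category.assoc, hh₀, ← Category.assoc, morphismRestrict_ι,
        Category.assoc]) x'
  let e := W.ι.isoImage N'
  refine ⟨W.ι ''ᵁ N', ⟨x', hxN', rfl⟩, e.inv ≫ s', ?_, ?_⟩
  · rw [Category.assoc, hs', ← Category.assoc, ← Category.assoc]
    congr 1
    rw [Category.assoc]
    exact W.ι.isoImage_inv_ι N'
  · have heq : W.ι ''ᵁ (N' ⊓ W.ι ⁻¹ᵁ U) = W.ι ''ᵁ N' ⊓ U := by
      ext z
      constructor
      · rintro ⟨w, ⟨hw1, hw2⟩, rfl⟩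
        exact ⟨⟨w, hw1, rfl⟩, hw2⟩
      · rintro ⟨⟨w, hw1, rfl⟩, hw2⟩
        exact ⟨w, ⟨hw1, hw2⟩, rfl⟩
    let e₂ : (N' ⊓ W.ι ⁻¹ᵁ U).toScheme ≅ (W.ι ''ᵁ N' ⊓ U).toScheme :=
      W.ι.isoImage (N' ⊓ W.ι ⁻¹ᵁ U) ≪≫ X.isoOfEq heq
    rw [← cancel_epi e₂.hom]
    have c1 : e₂.hom ≫ X.homOfLE (inf_le_left : W.ι ''ᵁ N' ⊓ U ≤ W.ι ''ᵁ N') ≫ e.inv =
        W.toScheme.homOfLE (inf_le_left : N' ⊓ W.ι ⁻¹ᵁ U ≤ N') := by
      rw [← cancel_mono e.hom, Category.assoc, Category.assoc, Iso.inv_hom_id, Category.comp_id,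
        ← cancel_mono (W.ι ''ᵁ N').ι]
      simp [e₂, e]
    have c2 : e₂.hom ≫ X.homOfLE (inf_le_right : W.ι ''ᵁ N' ⊓ U ≤ U) =
        W.toScheme.homOfLE (inf_le_right : N' ⊓ W.ι ⁻¹ᵁ U ≤ W.ι ⁻¹ᵁ U) ≫ (W.ι ∣_ U) := by
      rw [← cancel_mono U.ι]
      simp [e₂]
    calc e₂.hom ≫ X.homOfLE (inf_le_left : W.ι ''ᵁ N' ⊓ U ≤ W.ι ''ᵁ N') ≫ e.inv ≫ s'
        = (e₂.hom ≫ X.homOfLE (inf_le_left : W.ι ''ᵁ N' ⊓ U ≤ W.ι ''ᵁ N') ≫ e.inv) ≫ s' := by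
          simp only [Category.assoc]
      _ = W.toScheme.homOfLE (inf_le_left : N' ⊓ W.ι ⁻¹ᵁ U ≤ N') ≫ s' := by rw [c1]
      _ = W.toScheme.homOfLE (inf_le_right : N' ⊓ W.ι ⁻¹ᵁ U ≤ W.ι ⁻¹ᵁ U) ≫ (W.ι ∣_ U) ≫ h₀ := hc'
      _ = (e₂.hom ≫ X.homOfLE (inf_le_right : W.ι ''ᵁ N' ⊓ U ≤ U)) ≫ h₀ := by
          rw [c2, Category.assoc]
      _ = e₂.hom ≫ X.homOfLE (inf_le_right : W.ι ''ᵁ N' ⊓ U ≤ U) ≫ h₀ := Category.assoc _ _ _

end Groth.Agent.Helper6.BirI
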