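import Mathlib
import Groth.Agent.Helper6.BirB
import Groth.Agent.Helper6.BirG
import Groth.Agent.Helper6.BirI
import Groth.Agent.Lead.RegLocal

set_option autoImplicit false
set_option linter.style.haveILetI false
set_option linter.unusedSectionVars false
set_option linter.unusedVariables false
set_option linter.unusedSimpArgs false

universe u

open CategoryTheory CategoryTheory.Limits AlgebraicGeometry

namespace Groth.Agent.Helper6.BirJ

/-- a point of a locally Noetherian scheme whose local ring is a domain has an integral open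
neighbourhood. -/
theorem exists_integral_nbhd {X : Scheme.{u}} [IsLocallyNoetherian X] (x : X)
    [IsDomain (X.presheaf.stalk x)] :
    ∃ W : X.Opens, x ∈ W ∧ IsIntegral W.toScheme := by
  obtain ⟨W, hxW, hW, hinj⟩ := X.exists_germ_injective x
  refine ⟨W, hxW, ?_⟩
  have : IsAffine W.toScheme := hW
  have : Nonempty W.toScheme := ⟨⟨x, hxW⟩⟩
  have hdom : IsDomain Γ(X, W) := Function.Injective.isDomain (X.presheaf.germ W x hxW).hom hinj
  have : IsDomain Γ(W.toScheme, ⊤) :=
    (W.topIso.commRingCatIsoToRingEquiv).toMulEquiv.isDomain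
  exact isIntegral_of_isAffine_of_isDomain _

/-- **Extension in codimension one**: a morphism from a dense open of a regular locally Noetherian
scheme to a proper `S`-scheme extends to an open whose complement has codimension `≥ 2`. -/
theorem exists_extension {X Y S : Scheme.{u}} [IsLocallyNoetherian X]
    (hX : ∀ x : X, IsRegularLocalRing (X.presheaf.stalk x))
    (sX : X ⟶ S) (sY : Y ⟶ S) [IsProper sY] (U : X.Opens) (hU : Dense (U : Set X))
    (h₀ : U.toScheme ⟶ Y) (hh₀ : h₀ ≫ sY = U.ι ≫ sX) :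
    ∃ (U' : X.Opens) (hUU' : U ≤ U') (h : U'.toScheme ⟶ Y), h ≫ sY = U'.ι ≫ sX ∧
      X.homOfLE hUU' ≫ h = h₀ ∧
      ∀ x : X, x ∉ U' → (2 : WithBot ℕ∞) ≤ ringKrullDim (X.presheaf.stalk x) := by
  have hdom : ∀ x : X, IsDomain (X.presheaf.stalk x) := fun x => by
    have := hX x
    exact Groth.Agent.Lead.RegLocal.isDomain_of_isRegularLocalRing _
  have : IsReduced X := by
    have : ∀ x : X, _root_.IsReduced (X.presheaf.stalk x) := fun x => by
      have := hdom x
      infer_instance
    exact isReduced_of_isReduced_stalk X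
  let J := {p : Σ N : X.Opens, (N.toScheme ⟶ Y) // p.2 ≫ sY = p.1.ι ≫ sX ∧
    X.homOfLE (inf_le_left : p.1 ⊓ U ≤ p.1) ≫ p.2 = X.homOfLE (inf_le_right : p.1 ⊓ U ≤ U) ≫ h₀}
  let N : J → X.Opens := fun j => j.1.1
  let s : ∀ j : J, (N j).toScheme ⟶ Y := fun j => j.1.2
  obtain ⟨h, hh, hι⟩ := Groth.Agent.Helper6.BirG.exists_glue sX sY U hU h₀ N s
    (fun j => j.2.1) (fun j => j.2.2)
  let j₀ : J := ⟨⟨U, h₀⟩, hh₀, rfl⟩
  refine ⟨⨆ j, N j, le_iSup N j₀, h, hh, hι j₀, ?_⟩
  intro x hx
  by_contra hdim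
  have := hX x
  have := hdom x
  have hv : ValuationRing (X.presheaf.stalk x) :=
    Groth.Agent.Helper6.BirB.valuationRing_of_regular _ hdim
  obtain ⟨W, hxW, hW⟩ := exists_integral_nbhd x
  obtain ⟨N', hxN', s', hs', hc'⟩ :=
    Groth.Agent.Helper6.BirI.exists_local_extension sX sY U hU h₀ hh₀ W x hxW
  exact hx (TopologicalSpace.Opens.mem_iSup.mpr ⟨⟨⟨N', s'⟩, hs', hc'⟩, hxN'⟩)

end Groth.Agent.Helper6.BirJ
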