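import Mathlib
import Groth.Agent.Helper6.BirJ
import Groth.Agent.Helper8.FEtDenseB
import Groth.Agent.Helper1.HensStrictReg
import Groth.Agent.Helper1.HensDim

set_option autoImplicit false
set_option linter.style.haveILetI false
set_option linter.unusedSectionVars false
set_option linter.unusedVariables false
set_option linter.unusedSimpArgs false

universe u

open CategoryTheory CategoryTheory.Limits AlgebraicGeometry

namespace Groth.Agent.Helper6.BirK

/-- the spectrum of a ring which is a field has at most one point -/
theorem primeSpectrum_subsingleton_of_isField {R : Type*} [CommRing R] (hF : IsField R)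
    (p q : PrimeSpectrum R) : p = q := by
  have key : ∀ p : PrimeSpectrum R, p.asIdeal = ⊥ := by
    intro p
    rw [eq_bot_iff]
    intro a ha
    by_contra ha0
    obtain ⟨b, hb⟩ := hF.mul_inv_cancel ha0
    apply p.isPrime.ne_top
    rw [Ideal.eq_top_iff_one, ← hb]
    exact Ideal.mul_mem_right _ _ ha
  exact PrimeSpectrum.ext ((key p).trans (key q).symm)

/-- a point of a locally Noetherian scheme whose local ring is a field lies in every dense open -/
theorem mem_of_dense_of_isField {X : Scheme.{u}} [IsLocallyNoetherian X] (x : X)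
    (hF : IsField (X.presheaf.stalk x)) (U : X.Opens) (hU : Dense (U : Set X)) : x ∈ U := by
  have : IsDomain (X.presheaf.stalk x) := hF.isDomain
  obtain ⟨W, hxW, hW⟩ := Groth.Agent.Helper6.BirJ.exists_integral_nbhd x
  -- generizations of `x` are equal to `x`
  have hgen : ∀ z : X, z ⤳ x → z = x := by
    intro z hz
    have h1 : z ∈ Set.range (X.fromSpecStalk x) := by
      rw [Scheme.range_fromSpecStalk]
      exact hz
    obtain ⟨p, rfl⟩ := h1
    rw [primeSpectrum_subsingleton_of_isField hF p
      (IsLocalRing.closedPoint (X.presheaf.stalk x))]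
    exact Scheme.fromSpecStalk_closedPoint
  have h2 : W.ι (genericPoint W.toScheme) ⤳ x := by
    have : genericPoint W.toScheme ⤳ (⟨x, hxW⟩ : W.toScheme) := genericPoint_specializes _
    exact this.map W.ι.continuous
  have h3 := hgen _ h2
  rw [← h3]
  obtain ⟨z, hzW, hzU⟩ := hU.inter_open_nonempty W W.2 ⟨x, hxW⟩
  have h4 : genericPoint W.toScheme ∈ W.ι ⁻¹ᵁ U :=
    ((genericPoint_spec W.toScheme).mem_open_set_iff (W.ι ⁻¹ᵁ U).isOpen).mpr
      ⟨⟨z, hzW⟩, trivial, hzU⟩
  exact h4

/-- the punctured spectrum of a local domain which is not a field is connected -/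
theorem connectedSpace_puncturedSpec (R : Type u) [CommRing R] [IsLocalRing R] [IsDomain R]
    (hF : ¬ IsField R) : ConnectedSpace (FEt.puncturedSpec R : Scheme.{u}) := by
  have hirr : IsIrreducible ((FEt.puncturedSpec R : (Spec (CommRingCat.of R)).Opens) :
      Set (Spec (CommRingCat.of R))) := by
    refine ⟨?_, ?_⟩
    · refine ⟨(⊥ : PrimeSpectrum R), ?_⟩
      change (⊥ : PrimeSpectrum R) ∈ ({IsLocalRing.closedPoint R}ᶜ : Set (PrimeSpectrum R))
      intro h
      apply hF
      rw [IsLocalRing.isField_iff_maximalIdeal_eq]
      have := congrArg PrimeSpectrum.asIdeal (Set.mem_singleton_iff.mp h)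
      exact this.symm
    · have : IrreducibleSpace (PrimeSpectrum R) := inferInstance
      exact (PreirreducibleSpace.isPreirreducible_univ (X := PrimeSpectrum R)).open_subset
        (FEt.puncturedSpec R).2 (Set.subset_univ _)
  have : IrreducibleSpace ((FEt.puncturedSpec R : (Spec (CommRingCat.of R)).Opens) :
      Set (Spec (CommRingCat.of R))) := Subtype.irreducibleSpace hirr
  exact inferInstanceAs (ConnectedSpace ((FEt.puncturedSpec R : (Spec (CommRingCat.of R)).Opens) :
      Set (Spec (CommRingCat.of R))))

/-- **Full faithfulness** of restriction to a dense open of a regular locally Noetherian scheme. -/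
theorem full_faithful_of_regular {X : Scheme.{u}} [IsLocallyNoetherian X]
    (hX : ∀ x : X, IsRegularLocalRing (X.presheaf.stalk x)) (U : X.Opens)
    (hU : Dense (U : Set X)) : (FEt.restrict U.ι).Full ∧ (FEt.restrict U.ι).Faithful := by
  apply Groth.Agent.Helper8.FEtDense.main_qc U hU
  intro x hx R _ _ _ _ _
  have := hX x
  have hreg : IsRegularLocalRing R :=
    (Groth.Agent.Helper1.Hens.isRegularLocalRing_iff_of_isStrictHenselization
      (X.presheaf.stalk x) R).mp inferInstance
  have hdomR : IsDomain R := Groth.Agent.Lead.RegLocal.isDomain_of_isRegularLocalRing _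
  apply connectedSpace_puncturedSpec
  intro hFR
  apply hx
  apply mem_of_dense_of_isField x _ U hU
  have hdom : IsDomain (X.presheaf.stalk x) :=
    Groth.Agent.Lead.RegLocal.isDomain_of_isRegularLocalRing _
  have hdim : ringKrullDim (X.presheaf.stalk x) = 0 := by
    rw [← Groth.Agent.Helper1.Hens.ringKrullDim_of_isStrictHenselization (X.presheaf.stalk x) R]
    exact ringKrullDim_eq_zero_of_isField hFR
  have : Ring.KrullDimLE 0 (X.presheaf.stalk x) := by
    rw [Ring.krullDimLE_iff, hdim]
    rfl
  exact Ring.KrullDimLE.isField_of_isDomain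

end Groth.Agent.Helper6.BirK
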