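import Mathlib

set_option autoImplicit false
set_option linter.style.haveILetI false
set_option linter.unusedSectionVars false
set_option linter.unusedVariables false
set_option linter.unusedSimpArgs false

open CategoryTheory

namespace Groth.Agent.Helper6.BirL

universe v₁ v₂ v₃ v₄ u₁ u₂ u₃ u₄

variable {A : Type u₁} [Category.{v₁} A] {B : Type u₂} [Category.{v₂} B]
  {A' : Type u₃} [Category.{v₃} A'] {B' : Type u₄} [Category.{v₄} B']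

/-- the basic chain: from `α`, `β`, `γ` to `(G ⋙ F) ⋙ RU ≅ 𝟭 ⋙ RU`. -/
noncomputable def chain (RU : A ⥤ A') (RV : B ⥤ B') (Re : B' ⥤ A') (Re' : A' ⥤ B')
    (F : B ⥤ A) (G : A ⥤ B) (α : F ⋙ RU ≅ RV ⋙ Re) (β : G ⋙ RV ≅ RU ⋙ Re')
    (γ : Re' ⋙ Re ≅ 𝟭 A') : (G ⋙ F) ⋙ RU ≅ 𝟭 A ⋙ RU :=
  Functor.associator G F RU ≪≫ Functor.isoWhiskerLeft G α ≪≫
    (Functor.associator G RV Re).symm ≪≫ Functor.isoWhiskerRight β Re ≪≫
    Functor.associator RU Re' Re ≪≫ Functor.isoWhiskerLeft RU γ ≪≫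
    Functor.rightUnitor RU ≪≫ (Functor.leftUnitor RU).symm

/-- **Categorical assembly.** -/
theorem exists_equivalence (RU : A ⥤ A') (RV : B ⥤ B') (Re : B' ⥤ A') (Re' : A' ⥤ B')
    [RU.Full] [RU.Faithful] [RV.Full] [RV.Faithful]
    (F : B ⥤ A) (G : A ⥤ B) (α : F ⋙ RU ≅ RV ⋙ Re) (β : G ⋙ RV ≅ RU ⋙ Re')
    (γ : Re' ⋙ Re ≅ 𝟭 A') (γ' : Re ⋙ Re' ≅ 𝟭 B') :
    ∃ Φ : A ≌ B, Nonempty (RU ≅ Φ.functor ⋙ RV ⋙ Re) := by
  let η : 𝟭 A ≅ G ⋙ F :=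
    (Functor.fullyFaithfulCancelRight RU (chain RU RV Re Re' F G α β γ)).symm
  let ε : F ⋙ G ≅ 𝟭 B :=
    Functor.fullyFaithfulCancelRight RV (chain RV RU Re' Re G F β α γ')
  refine ⟨CategoryTheory.Equivalence.mk G F η ε, ⟨?_⟩⟩
  change RU ≅ G ⋙ RV ⋙ Re
  exact (Functor.rightUnitor RU).symm ≪≫ Functor.isoWhiskerLeft RU γ.symm ≪≫
    (Functor.associator RU Re' Re).symm ≪≫ Functor.isoWhiskerRight β.symm Re ≪≫
    Functor.associator G RV Re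

end Groth.Agent.Helper6.BirL
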