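import Mathlib
import Groth.Agent.Helper6.BirD
import Groth.Agent.Helper6.BirJ
import Groth.Agent.Helper6.BirK
import Groth.Agent.Helper6.BirL
import Groth.Agent.S0005

set_option autoImplicit false
set_option linter.style.haveILetI false
set_option linter.unusedSectionVars false
set_option linter.unusedVariables false
set_option linter.unusedSimpArgs false

universe u

open CategoryTheory CategoryTheory.Limits AlgebraicGeometry

namespace Groth.Agent.Helper6.BirM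

open Groth.Agent.Helper6.BirD in
/-- **Transfer functor**: given an extension `h : U' ⟶ Y` of `e ≫ V.ι : U ⟶ Y` to an open `U'`
with `FEt(X) ≃ FEt(U')`, we get `F : FEt(Y) ⥤ FEt(X)` compatible with restrictions. -/
theorem exists_transfer {X Y : Scheme.{u}} (U U' : X.Opens) (hUU' : U ≤ U')
    [hE : (FEt.restrict U'.ι).IsEquivalence] (h : U'.toScheme ⟶ Y) (V : Y.Opens)
    (e : U.toScheme ⟶ V.toScheme) (hh : X.homOfLE hUU' ≫ h = e ≫ V.ι) :
    ∃ F : FEt.Cat Y ⥤ FEt.Cat X,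
      Nonempty (F ⋙ FEt.restrict U.ι ≅ FEt.restrict V.ι ⋙ FEt.restrict e) := by
  let RU' := FEt.restrict U'.ι
  let Rle := FEt.restrict (X.homOfLE hUU')
  let Rh := FEt.restrict h
  let i1 : FEt.restrict U.ι ≅ RU' ⋙ Rle :=
    restrictComp (X.homOfLE hUU') U'.ι U.ι (X.homOfLE_ι hUU').symm
  let i2 : RU'.inv ⋙ RU' ≅ 𝟭 _ := RU'.asEquivalence.counitIso
  let i3 : FEt.restrict (X.homOfLE hUU' ≫ h) ≅ Rh ⋙ Rle := restrictComp (X.homOfLE hUU') h _ rfl
  let i4 : FEt.restrict (X.homOfLE hUU' ≫ h) ≅ FEt.restrict V.ι ⋙ FEt.restrict e :=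
    restrictComp e V.ι _ hh
  refine ⟨Rh ⋙ RU'.inv, ⟨?_⟩⟩
  exact Functor.isoWhiskerLeft (Rh ⋙ RU'.inv) i1 ≪≫ Functor.associator Rh RU'.inv _ ≪≫
    Functor.isoWhiskerLeft Rh (Functor.associator RU'.inv RU' Rle).symm ≪≫
    Functor.isoWhiskerLeft Rh (Functor.isoWhiskerRight i2 Rle) ≪≫
    Functor.isoWhiskerLeft Rh (Functor.leftUnitor Rle) ≪≫ i3.symm ≪≫ i4

open Groth.Agent.Helper6.BirD in
/-- **Birational invariance of finite étale covers for regular proper schemes over a base.** -/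
theorem main {S X Y : Scheme.{u}} (f : X ⟶ S) (g : Y ⟶ S) [IsProper f] [IsProper g]
    [IsNoetherian X] [IsNoetherian Y]
    (hX : ∀ x : X, IsRegularLocalRing (X.presheaf.stalk x))
    (hY : ∀ y : Y, IsRegularLocalRing (Y.presheaf.stalk y))
    (U : X.Opens) (V : Y.Opens) (hU : Dense (U : Set X)) (hV : Dense (V : Set Y))
    (e : (U : Scheme.{u}) ≅ (V : Scheme.{u})) (he : e.hom ≫ V.ι ≫ g = U.ι ≫ f) :
    ∃ Φ : FEt.Cat X ≌ FEt.Cat Y,
      Nonempty (FEt.restrict U.ι ≅ Φ.functor ⋙ FEt.restrict V.ι ⋙ FEt.restrict e.hom) := by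
  -- extension on the `X` side
  obtain ⟨U', hUU', h, hh1, hh2, hcodU⟩ :=
    Groth.Agent.Helper6.BirJ.exists_extension hX f g U hU (e.hom ≫ V.ι)
      (by rw [Category.assoc]; exact he)
  -- extension on the `Y` side
  have he' : (e.inv ≫ U.ι) ≫ f = V.ι ≫ g := by
    rw [Category.assoc, ← he, Iso.inv_hom_id_assoc]
  obtain ⟨V', hVV', k, hk1, hk2, hcodV⟩ :=
    Groth.Agent.Helper6.BirJ.exists_extension hY g f V hV (e.inv ≫ U.ι) he'
  have hEU : (FEt.restrict U'.ι).IsEquivalence := Groth.Agent.S0005.result X hX U' hcodU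
  have hEV : (FEt.restrict V'.ι).IsEquivalence := Groth.Agent.S0005.result Y hY V' hcodV
  obtain ⟨hfullU, hfaithU⟩ := Groth.Agent.Helper6.BirK.full_faithful_of_regular hX U hU
  obtain ⟨hfullV, hfaithV⟩ := Groth.Agent.Helper6.BirK.full_faithful_of_regular hY V hV
  obtain ⟨F, ⟨α⟩⟩ := exists_transfer U U' hUU' h V e.hom hh2
  obtain ⟨G, ⟨β⟩⟩ := exists_transfer V V' hVV' k U e.inv hk2
  let γ : FEt.restrict e.inv ⋙ FEt.restrict e.hom ≅ 𝟭 (FEt.Cat U.toScheme) :=
    (restrictComp e.hom e.inv (𝟙 _) (by simp)).symm ≪≫ restrictId _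
  let γ' : FEt.restrict e.hom ⋙ FEt.restrict e.inv ≅ 𝟭 (FEt.Cat V.toScheme) :=
    (restrictComp e.inv e.hom (𝟙 _) (by simp)).symm ≪≫ restrictId _
  exact Groth.Agent.Helper6.BirL.exists_equivalence (FEt.restrict U.ι) (FEt.restrict V.ι)
    (FEt.restrict e.hom) (FEt.restrict e.inv) F G α β γ γ'

end Groth.Agent.Helper6.BirM
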