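import Mathlib

set_option autoImplicit false

/-!
# The binomial identity behind Bott's formula
-/

namespace Groth.Agent.Helper6.BottA

open Nat

/-- the Bott number `h⁰(P^r, Ω^p(d))`, `d > 0` -/
def b (r p d : ℕ) : ℕ := Nat.choose (d + r - p) d * Nat.choose (d - 1) p

/-- `h⁰(P^r, O(m))` -/
def h (r : ℕ) (d p : ℕ) : ℕ := if p ≤ d then Nat.choose (d - p + r) r else 0

theorem key (s t a : ℕ) :
    ((s + 1) + (a + 1)).choose (s + 1) * ((s + (a + 1)) + (t + 1)).choose (s + (a + 1)) =
      ((s + 1 + (t + 1)) + a).choose (s + 1 + (t + 1)) * ((s + 1) + t).choose (s + 1) +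
        ((s + 1 + (t + 1)) + (a + 1)).choose (s + 1 + (t + 1)) * (s + (t + 1)).choose s := by
  apply Nat.cast_injective (R := ℚ)
  push_cast
  rw [Nat.cast_add_choose, Nat.cast_add_choose, Nat.cast_add_choose, Nat.cast_add_choose,
    Nat.cast_add_choose, Nat.cast_add_choose]
  have e1 : (s + 1 + (a + 1))! = (s + 1 + (a + 1)) * (s + (a + 1))! := by
    rw [show s + 1 + (a + 1) = (s + (a + 1)) + 1 by ring, Nat.factorial_succ]
  have e2 : (a + 1)! = (a + 1) * a ! := Nat.factorial_succ a
  have e3 : (s + 1)! = (s + 1) * s ! := Nat.factorial_succ s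
  have e4 : (t + 1)! = (t + 1) * t ! := Nat.factorial_succ t
  have e5 : (s + (a + 1) + (t + 1))! = (s + 1 + (t + 1) + a)! := by
    congr 1; ring
  have e6 : (s + 1 + (t + 1) + (a + 1))! = (s + 1 + (t + 1) + (a + 1)) * (s + 1 + (t + 1) + a)! := by
    rw [show s + 1 + (t + 1) + (a + 1) = (s + 1 + (t + 1) + a) + 1 by ring, Nat.factorial_succ]
  have e7 : (s + 1 + (t + 1))! = (s + 1 + (t + 1)) * (s + 1 + t)! := by
    rw [show s + 1 + (t + 1) = (s + 1 + t) + 1 by ring, Nat.factorial_succ]
  have e8 : (s + (t + 1))! = (s + 1 + t)! := by congr 1; ring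
  rw [e1, e2, e3, e4, e5, e6, e7, e8]
  have h1 : ((s + (a + 1))! : ℚ) ≠ 0 := by exact_mod_cast Nat.factorial_ne_zero _
  have h2 : ((a)! : ℚ) ≠ 0 := by exact_mod_cast Nat.factorial_ne_zero _
  have h3 : ((s)! : ℚ) ≠ 0 := by exact_mod_cast Nat.factorial_ne_zero _
  have h4 : ((t)! : ℚ) ≠ 0 := by exact_mod_cast Nat.factorial_ne_zero _
  have h5 : ((s + 1 + t)! : ℚ) ≠ 0 := by exact_mod_cast Nat.factorial_ne_zero _
  have h6 : ((s + 1 + (t + 1) + a)! : ℚ) ≠ 0 := by exact_mod_cast Nat.factorial_ne_zero _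
  push_cast
  field_simp
  ring

/-- the recursion satisfied by the Bott numbers -/
theorem ident (r p d : ℕ) (hd : 1 ≤ d) (hp : 1 ≤ p) (hpr : p ≤ r + 1) :
    (r + 1).choose p * h r d p = b r p d + b r (p - 1) d := by
  obtain ⟨s, rfl⟩ : ∃ s, p = s + 1 := ⟨p - 1, by omega⟩
  unfold h b
  by_cases hpd : s + 1 ≤ d
  · rw [if_pos hpd]
    obtain ⟨t, rfl⟩ : ∃ t, d = s + 1 + t := ⟨d - (s + 1), by omega⟩
    obtain ⟨a, rfl⟩ : ∃ a, r = s + a := ⟨r - s, by omega⟩
    have e1 : s + 1 + t - (s + 1) + (s + a) = s + a + t := by omega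
    have e2 : s + 1 + t + (s + a) - (s + 1) = s + a + t := by omega
    have e3 : s + 1 + t - 1 = s + t := by omega
    have e4 : s + 1 - 1 = s := by omega
    have e5 : s + 1 + t + (s + a) - s = s + a + t + 1 := by omega
    rw [e1, e2, e3, e4, e5]
    rcases a with _ | a
    · have z1 : (s + 0 + t).choose (s + 1 + t) = 0 := Nat.choose_eq_zero_of_lt (by omega)
      rw [z1, zero_mul, zero_add]
      have z2 : (s + 0 + t + 1).choose (s + 1 + t) = 1 := by
        rw [show s + 0 + t + 1 = s + 1 + t by omega, Nat.choose_self]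
      have z3 : (s + 0 + 1).choose (s + 1) = 1 := by
        rw [show s + 0 + 1 = s + 1 by omega, Nat.choose_self]
      rw [z2, z3, one_mul, one_mul]
      rw [show s + 0 + t = s + t by omega, show s + 0 = s by omega]
    · rcases t with _ | t
      · have z1 : (s + 0).choose (s + 1) = 0 := Nat.choose_eq_zero_of_lt (by omega)
        rw [z1, mul_zero, zero_add]
        rw [show s + (a + 1) + 0 = s + (a + 1) by omega, Nat.choose_self, mul_one,
          show s + 0 = s by omega, Nat.choose_self, mul_one,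
          show s + 1 + 0 = s + 1 by omega, show s + (a + 1) + 1 = s + (a + 1) + 1 by omega]
      · have k := key s t a
        have f1 : (s + (a + 1) + 1).choose (s + 1) = (s + 1 + (a + 1)).choose (s + 1) := by
          congr 1; omega
        have f2 : (s + (a + 1) + (t + 1)).choose (s + 1 + (t + 1)) =
            (s + 1 + (t + 1) + a).choose (s + 1 + (t + 1)) := by congr 1; omega
        have f3 : (s + (t + 1)).choose (s + 1) = (s + 1 + t).choose (s + 1) := by congr 1; omega
        have f4 : (s + (a + 1) + (t + 1) + 1).choose (s + 1 + (t + 1)) =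
            (s + 1 + (t + 1) + (a + 1)).choose (s + 1 + (t + 1)) := by congr 1; omega
        rw [f1, f2, f3, f4]
        exact k
  · rw [if_neg hpd, mul_zero]
    have z1 : (d - 1).choose (s + 1) = 0 := Nat.choose_eq_zero_of_lt (by omega)
    have z2 : (d - 1).choose (s + 1 - 1) = 0 := Nat.choose_eq_zero_of_lt (by omega)
    rw [z1, z2, mul_zero, mul_zero]
    rfl

end Groth.Agent.Helper6.BottA
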