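import Mathlib
import Groth.Agent.Helper1.HHLes3
import Groth.Agent.Helper1.HHLes2
import Groth.Agent.Helper1.HHSum

set_option autoImplicit false
set_option linter.style.haveILetI false
set_option linter.unusedSectionVars false
set_option linter.unusedVariables false
set_option linter.unusedSimpArgs false

/-!
# Consequences of the long exact cohomology sequence
-/

namespace Groth.Agent.Helper6.PnCohA

open CategoryTheory Limits AlgebraicGeometry Opposite Abelian
open Groth.Agent.Helper1.HHLes Groth.Agent.Helper1.SerreCrit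

universe u

variable (A : Type u) [CommRing A] {X : Scheme.{u}} [X.Over (Spec (CommRingCat.of A))]
variable (S : ShortComplex X.Modules) (hS : S.ShortExact)

include hS in
/-- the connecting map is an isomorphism when the cohomology of the middle term vanishes -/
theorem nonempty_δ_equiv (n : ℕ) (h1 : Subsingleton (Coh.HH X S.X₂ n))
    (h2 : Subsingleton (Coh.HH X S.X₂ (n + 1))) :
    Nonempty (Coh.HH X S.X₃ n ≃ₗ[A] Coh.HH X S.X₁ (n + 1)) := by
  refine ⟨LinearEquiv.ofBijective (δ A S hS n) ⟨?_, ?_⟩⟩
  · rw [injective_iff_map_eq_zero]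
    intro x hx
    obtain ⟨y, rfl⟩ := (exact_g_δ A S hS n x).1 hx
    rw [Subsingleton.elim y 0, map_zero]
  · intro y
    exact (exact_δ_f A S hS n y).1 (Subsingleton.elim _ _)

include A hS in
/-- the middle term has vanishing cohomology when the outer ones do -/
theorem subsingleton_mid (n : ℕ) (h1 : Subsingleton (Coh.HH X S.X₁ n))
    (h3 : Subsingleton (Coh.HH X S.X₃ n)) : Subsingleton (Coh.HH X S.X₂ n) := by
  refine ⟨fun x y => ?_⟩
  have h : ∀ z : Coh.HH X S.X₂ n, z = 0 := by
    intro z
    obtain ⟨w, rfl⟩ := (exact_f_g A S hS n z).1 (Subsingleton.elim _ _)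
    rw [Subsingleton.elim w 0, map_zero]
  rw [h x, h y]

include hS in
/-- the last term has the cohomology of the middle one when the cohomology of the first vanishes -/
theorem nonempty_g_equiv (n : ℕ) (h1 : Subsingleton (Coh.HH X S.X₁ n))
    (h2 : Subsingleton (Coh.HH X S.X₁ (n + 1))) :
    Nonempty (Coh.HH X S.X₂ n ≃ₗ[A] Coh.HH X S.X₃ n) := by
  refine ⟨LinearEquiv.ofBijective (Canon.HHlin A S.g n) ⟨?_, ?_⟩⟩
  · rw [injective_iff_map_eq_zero]
    intro x hx
    obtain ⟨y, rfl⟩ := (exact_f_g A S hS n x).1 hx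
    rw [Subsingleton.elim y 0, map_zero]
  · intro y
    exact (exact_g_δ A S hS n y).1 (Subsingleton.elim _ _)

/-- left exactness of `H⁰` -/
theorem HHlin_zero_injective {F G : X.Modules} (f : F ⟶ G) [Mono f] :
    Function.Injective (Canon.HHlin A f 0) := by
  haveI : Mono ((toAbF X).map f) := inferInstance
  intro x y hxy
  have h1 : Sheaf.H.map ((toAbF X).map f) 0 x = Sheaf.H.map ((toAbF X).map f) 0 y := hxy
  have h2 := congrArg Ext.addEquiv₀ h1
  rw [Sheaf.H.addEquiv₀_map, Sheaf.H.addEquiv₀_map, cancel_mono] at h2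
  exact Ext.addEquiv₀.injective h2

include A in
theorem subsingleton_H0_of_mono {F G : X.Modules} (f : F ⟶ G) [Mono f]
    (h : Subsingleton (Coh.HH X G 0)) : Subsingleton (Coh.HH X F 0) :=
  (HHlin_zero_injective A f).subsingleton

end Groth.Agent.Helper6.PnCohA
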