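import Mathlib
import Groth.Agent.Helper1.KzChase
import Groth.Agent.Helper6.PnCohA

set_option autoImplicit false
set_option linter.style.haveILetI false
set_option linter.unusedSectionVars false
set_option linter.unusedVariables false
set_option linter.unusedSimpArgs false

/-!
# Cohomology of the kernels of a left resolution whose middle terms are acyclic
-/

namespace Groth.Agent.Helper6.PnCohC

open CategoryTheory CategoryTheory.Limits AlgebraicGeometry Opposite
open Groth.Agent.Helper1.HHLes Groth.Agent.Helper1.ProjTop Groth.Agent.Helper1.HHSum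

universe u

variable (A : Type u) [CommRing A] {X : Scheme.{u}} [X.Over (Spec (CommRingCat.of A))]
variable (C : ℕ → X.Modules) (d : ∀ p, C (p + 1) ⟶ C p)
  (hd : ∀ p, d (p + 1) ≫ d p = 0)
  (hex : ∀ p, (ShortComplex.mk (d (p + 1)) (d p) (hd p)).Exact)

include hex in
/-- the dimension shift between consecutive kernels -/
theorem nonempty_shift (p q : ℕ) (h1 : Subsingleton (Coh.HH X (C (p + 2)) q))
    (h2 : Subsingleton (Coh.HH X (C (p + 2)) (q + 1))) :
    Nonempty (Coh.HH X (kernel (d p)) q ≃ₗ[A] Coh.HH X (kernel (d (p + 1))) (q + 1)) := by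
  let g : C (p + 2) ⟶ kernel (d p) := kernel.lift (d p) (d (p + 1)) (hd p)
  haveI : Epi g := (ShortComplex.exact_iff_epi_kernel_lift _).1 (hex p)
  have hg : g ≫ kernel.ι (d p) = d (p + 1) := kernel.lift_ι _ _ _
  let e : kernel g ≅ kernel (d (p + 1)) :=
    (kernelCompMono g (kernel.ι (d p))).symm ≪≫ kernelIsoOfEq hg
  obtain ⟨e1⟩ := PnCohA.nonempty_δ_equiv A (kerSC g) (kerSC_shortExact g) q h1 h2
  exact ⟨e1.trans (HHlinEquiv A e (q + 1))⟩

/-- the dimension shift at the beginning -/
theorem nonempty_shift_zero [Epi (d 0)] (q : ℕ) (h1 : Subsingleton (Coh.HH X (C 1) q))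
    (h2 : Subsingleton (Coh.HH X (C 1) (q + 1))) :
    Nonempty (Coh.HH X (C 0) q ≃ₗ[A] Coh.HH X (kernel (d 0)) (q + 1)) :=
  PnCohA.nonempty_δ_equiv A (kerSC (d 0)) (kerSC_shortExact (d 0)) q h1 h2

include A in
theorem subsingleton_H0_kernel (p : ℕ) (h : Subsingleton (Coh.HH X (C (p + 1)) 0)) :
    Subsingleton (Coh.HH X (kernel (d p)) 0) :=
  PnCohA.subsingleton_H0_of_mono A (kernel.ι (d p)) h

variable (n : ℕ) (hacyc : ∀ p, 1 ≤ p → p ≤ n → ∀ q, Subsingleton (Coh.HH X (C p) q))

include hex hacyc in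
/-- **the cohomology of the kernels** -/
theorem HH_kernel [Epi (d 0)] : ∀ p, p + 1 ≤ n →
    Subsingleton (Coh.HH X (kernel (d p)) 0) ∧
    ∀ q, (q < p → Subsingleton (Coh.HH X (kernel (d p)) (q + 1))) ∧
      (p ≤ q → Nonempty (Coh.HH X (kernel (d p)) (q + 1) ≃ₗ[A] Coh.HH X (C 0) (q - p))) := by
  intro p
  induction p with
  | zero =>
    intro hp
    refine ⟨subsingleton_H0_kernel A C d 0 (hacyc 1 le_rfl hp 0), fun q => ⟨fun h => absurd h (by omega),
      fun _ => ?_⟩⟩
    obtain ⟨e⟩ := nonempty_shift_zero A C d q (hacyc 1 le_rfl hp q) (hacyc 1 le_rfl hp (q + 1))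
    exact ⟨e.symm⟩
  | succ p ih =>
    intro hp
    obtain ⟨ih0, ih1⟩ := ih (by omega)
    have hac := hacyc (p + 2) (by omega) hp
    refine ⟨subsingleton_H0_kernel A C d (p + 1) (hac 0), fun q => ?_⟩
    obtain ⟨e⟩ := nonempty_shift A C d hd hex p q (hac q) (hac (q + 1))
    cases q with
    | zero =>
      refine ⟨fun _ => e.symm.toEquiv.subsingleton, fun h => absurd h (by omega)⟩
    | succ q =>
      obtain ⟨ihl, ihr⟩ := ih1 q
      refine ⟨fun h => ?_, fun h => ?_⟩
      · haveI := ihl (by omega)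
        exact e.symm.toEquiv.subsingleton
      · obtain ⟨e2⟩ := ihr (by omega)
        have hq : q + 1 - (p + 1) = q - p := by omega
        rw [hq]
        exact ⟨e.symm.trans e2⟩

include hex in
/-- the kernels vanish beyond the length of the resolution -/
theorem isZero_kernel (r : ℕ) (hzero : ∀ p, r < p → IsZero (C p)) (p : ℕ) (hp : r ≤ p + 1) :
    IsZero (kernel (d p)) := by
  rcases Nat.lt_or_ge r (p + 1) with h | h
  · exact IsZero.of_mono (kernel.ι (d p)) (hzero (p + 1) h)
  · have hr : r = p + 1 := le_antisymm hp h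
    have hz : IsZero (C (p + 2)) := hzero (p + 2) (by omega)
    haveI : Mono (d p) := (ShortComplex.exact_iff_mono _ (hz.eq_of_src _ _)).1 (hex p)
    exact isZero_kernel_of_mono (d p)

end Groth.Agent.Helper6.PnCohC
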