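import Mathlib
import Groth.Agent.Helper6.PnCohC
import Groth.Agent.Helper6.BottA

set_option autoImplicit false
set_option linter.style.haveILetI false
set_option linter.unusedSectionVars false
set_option linter.unusedVariables false
set_option linter.unusedSimpArgs false

/-!
# Dimension counts along a left resolution
-/

namespace Groth.Agent.Helper6.BottB

open CategoryTheory CategoryTheory.Limits AlgebraicGeometry Opposite
open Groth.Agent.Helper1.HHLes Groth.Agent.Helper1.ProjTop Groth.Agent.Helper1.HHSum

universe u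

variable (k : Type u) [Field k] {X : Scheme.{u}} [X.Over (Spec (CommRingCat.of k))]

section ses

variable (S : ShortComplex X.Modules) (hS : S.ShortExact)

include hS in
/-- additivity of dimensions along a short exact piece of the long exact sequence -/
theorem finrank_mid (q : ℕ) (hinj : Function.Injective (Canon.HHlin k S.f q))
    (h1 : Subsingleton (Coh.HH X S.X₁ (q + 1))) [Module.Finite k (Coh.HH X S.X₂ q)] :
    Module.finrank k (Coh.HH X S.X₂ q) =
      Module.finrank k (Coh.HH X S.X₁ q) + Module.finrank k (Coh.HH X S.X₃ q) := by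
  have hsurj : Function.Surjective (Canon.HHlin k S.g q) := by
    intro y
    exact (exact_g_δ k S hS q y).1 (Subsingleton.elim _ _)
  have h2 := LinearMap.finrank_range_add_finrank_ker (Canon.HHlin k S.g q)
  rw [LinearMap.range_eq_top.2 hsurj, finrank_top,
    (LinearMap.exact_iff.1 (exact_f_g k S hS q)), LinearMap.finrank_range_of_inj hinj] at h2
  rw [← h2, add_comm]

include hS in
theorem injective_of_prev (q : ℕ) (h3 : Subsingleton (Coh.HH X S.X₃ q)) :
    Function.Injective (Canon.HHlin k S.f (q + 1)) := by
  rw [injective_iff_map_eq_zero]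
  intro x hx
  obtain ⟨y, rfl⟩ := (exact_δ_f k S hS q x).1 hx
  rw [Subsingleton.elim y 0, map_zero]

include hS in
theorem injective_of (q : ℕ) (h3 : q = 0 ∨ Subsingleton (Coh.HH X S.X₃ (q - 1))) :
    Function.Injective (Canon.HHlin k S.f q) := by
  rcases q with _ | q
  · haveI := hS.mono_f
    exact PnCohA.HHlin_zero_injective k S.f
  · rcases h3 with h3 | h3
    · omega
    · exact injective_of_prev k S hS q h3

end ses

section chain

variable (C : ℕ → X.Modules) (d : ∀ p, C (p + 1) ⟶ C p)
  (hd : ∀ p, d (p + 1) ≫ d p = 0)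
  (hex : ∀ p, (ShortComplex.mk (d (p + 1)) (d p) (hd p)).Exact)

theorem finrank_step_zero [Epi (d 0)] (q : ℕ) [Module.Finite k (Coh.HH X (C 1) q)]
    (h1 : Subsingleton (Coh.HH X (kernel (d 0)) (q + 1)))
    (h3 : q = 0 ∨ Subsingleton (Coh.HH X (C 0) (q - 1))) :
    Module.finrank k (Coh.HH X (C 1) q) =
      Module.finrank k (Coh.HH X (kernel (d 0)) q) + Module.finrank k (Coh.HH X (C 0) q) :=
  finrank_mid k (kerSC (d 0)) (kerSC_shortExact (d 0)) q
    (injective_of k (kerSC (d 0)) (kerSC_shortExact (d 0)) q h3) h1

include hex in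
theorem finrank_step (p q : ℕ) [Module.Finite k (Coh.HH X (C (p + 2)) q)]
    (h1 : Subsingleton (Coh.HH X (kernel (d (p + 1))) (q + 1)))
    (h3 : q = 0 ∨ Subsingleton (Coh.HH X (kernel (d p)) (q - 1))) :
    Module.finrank k (Coh.HH X (C (p + 2)) q) =
      Module.finrank k (Coh.HH X (kernel (d (p + 1))) q) +
        Module.finrank k (Coh.HH X (kernel (d p)) q) := by
  let g : C (p + 2) ⟶ kernel (d p) := kernel.lift (d p) (d (p + 1)) (hd p)
  haveI : Epi g := (ShortComplex.exact_iff_epi_kernel_lift _).1 (hex p)
  have hg : g ≫ kernel.ι (d p) = d (p + 1) := kernel.lift_ι _ _ _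
  let e : kernel g ≅ kernel (d (p + 1)) :=
    (kernelCompMono g (kernel.ι (d p))).symm ≪≫ kernelIsoOfEq hg
  haveI : Subsingleton (Coh.HH X (kernel g) (q + 1)) :=
    (HHlinEquiv k e (q + 1)).toEquiv.subsingleton
  have h := finrank_mid k (kerSC g) (kerSC_shortExact g) q
    (injective_of k (kerSC g) (kerSC_shortExact g) q h3) inferInstance
  rw [h, (HHlinEquiv k e q).finrank_eq]

include k hex in
/-- vanishing of the cohomology of the kernels above a degree `q₀` from which on the terms are
acyclic (finite resolution) -/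
theorem subsingleton_HH_kernel_ge (q₀ r : ℕ) (hzero : ∀ p, r < p → IsZero (C p))
    (hacyc : ∀ p q, q₀ ≤ q → Subsingleton (Coh.HH X (C (p + 2)) q)) :
    ∀ (j p q : ℕ), r ≤ p + 1 + j → q₀ ≤ q → Subsingleton (Coh.HH X (kernel (d p)) q) := by
  intro j
  induction j with
  | zero =>
    intro p q hp hq
    exact Groth.Agent.Helper1.KzChase.subsingleton_HH_of_isZero
      (PnCohC.isZero_kernel C d hd hex r hzero p (by omega)) q
  | succ j ih =>
    intro p q hp hq
    haveI := ih (p + 1) (q + 1) (by omega) (by omega)
    obtain ⟨e⟩ := PnCohC.nonempty_shift k C d hd hex p q (hacyc p q hq)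
      (hacyc p (q + 1) (by omega))
    exact e.toEquiv.subsingleton

include k in
include hex in
/-- finiteness of the cohomology of the kernels of a finite resolution whose terms have finite
cohomology -/
theorem finite_HH_kernel (r : ℕ) (hzero : ∀ p, r < p → IsZero (C p))
    (hfin : ∀ p q, Module.Finite k (Coh.HH X (C p) q)) :
    ∀ (j p q : ℕ), r ≤ p + 1 + j → Module.Finite k (Coh.HH X (kernel (d p)) q) := by
  intro j
  induction j with
  | zero =>
    intro p q hp
    haveI := Groth.Agent.Helper1.KzChase.subsingleton_HH_of_isZero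
      (PnCohC.isZero_kernel C d hd hex r hzero p (by omega)) q
    infer_instance
  | succ j ih =>
    intro p q hp
    let g : C (p + 2) ⟶ kernel (d p) := kernel.lift (d p) (d (p + 1)) (hd p)
    haveI : Epi g := (ShortComplex.exact_iff_epi_kernel_lift _).1 (hex p)
    have hg : g ≫ kernel.ι (d p) = d (p + 1) := kernel.lift_ι _ _ _
    let e : kernel g ≅ kernel (d (p + 1)) :=
      (kernelCompMono g (kernel.ι (d p))).symm ≪≫ kernelIsoOfEq hg
    haveI := ih (p + 1) (q + 1) (by omega)
    haveI : Module.Finite k (Coh.HH X (kernel g) (q + 1)) :=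
      Module.Finite.equiv (HHlinEquiv k e (q + 1)).symm
    haveI := hfin (p + 2) q
    haveI : IsNoetherian k (Coh.HH X (C (p + 2)) q) := inferInstance
    haveI : IsNoetherian k (Coh.HH X (kernel g) (q + 1)) := inferInstance
    haveI : IsNoetherian k (Coh.HH X (kernel (d p)) q) :=
      isNoetherian_of_range_eq_ker (Canon.HHlin k (kerSC g).g q)
        (δ k (kerSC g) (kerSC_shortExact g) q)
        (LinearMap.exact_iff.1 (exact_g_δ k (kerSC g) (kerSC_shortExact g) q)).symm
    infer_instance

include k in
/-- the first term of a short exact sequence has no cohomology in degree `q` if the middle one has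
none in degree `q` and the last one none in degree `q - 1` -/
theorem subsingleton_left (S : ShortComplex X.Modules) (hS : S.ShortExact) (q : ℕ)
    (h2 : Subsingleton (Coh.HH X S.X₂ q))
    (h3 : q = 0 ∨ Subsingleton (Coh.HH X S.X₃ (q - 1))) : Subsingleton (Coh.HH X S.X₁ q) :=
  (injective_of k S hS q h3).subsingleton

include k hex in
/-- vanishing of the cohomology of the kernels below a degree `r` up to which the terms are
acyclic -/
theorem subsingleton_HH_kernel_lt [Epi (d 0)] (r : ℕ)
    (hacyc : ∀ p q, q < r → Subsingleton (Coh.HH X (C p) q)) :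
    ∀ (p q : ℕ), q < r → Subsingleton (Coh.HH X (kernel (d p)) q) := by
  intro p
  induction p with
  | zero =>
    intro q hq
    refine subsingleton_left k (kerSC (d 0)) (kerSC_shortExact (d 0)) q (hacyc 1 q hq) ?_
    rcases q with _ | q
    · exact Or.inl rfl
    · exact Or.inr (hacyc 0 q (by omega))
  | succ p ih =>
    intro q hq
    let g : C (p + 2) ⟶ kernel (d p) := kernel.lift (d p) (d (p + 1)) (hd p)
    haveI : Epi g := (ShortComplex.exact_iff_epi_kernel_lift _).1 (hex p)
    have hg : g ≫ kernel.ι (d p) = d (p + 1) := kernel.lift_ι _ _ _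
    let e : kernel g ≅ kernel (d (p + 1)) :=
      (kernelCompMono g (kernel.ι (d p))).symm ≪≫ kernelIsoOfEq hg
    haveI : Subsingleton (Coh.HH X (kernel g) q) := by
      refine subsingleton_left k (kerSC g) (kerSC_shortExact g) q (hacyc (p + 2) q hq) ?_
      rcases q with _ | q
      · exact Or.inl rfl
      · exact Or.inr (ih q (by omega))
    exact (HHlinEquiv k e q).symm.toEquiv.subsingleton

end chain

/-- solving the recursion -/
theorem closed_of_rec (z a β : ℕ → ℕ) (N : ℕ) (h0 : a 0 = β 0)
    (hrec : ∀ p, p < N → a (p + 1) = β (p + 1) + β p) (hz0 : z 0 = a 0)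
    (hz : ∀ p, p < N → a (p + 1) = z (p + 1) + z p) : ∀ p, p ≤ N → z p = β p := by
  intro p
  induction p with
  | zero => intro _; rw [hz0, h0]
  | succ p ih =>
    intro hp
    have h1 := hrec p (by omega)
    have h2 := hz p (by omega)
    have h3 := ih (by omega)
    omega

end Groth.Agent.Helper6.BottB
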