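import Mathlib

set_option autoImplicit false
set_option linter.style.haveILetI false
set_option linter.unusedSectionVars false
set_option linter.unusedVariables false
set_option linter.unusedSimpArgs false

/-!
# Contraction on exterior powers and the exterior powers of the kernel of a surjective linear form

* `contr ε n : ⋀^(n+1) P → ⋀^n P`, the contraction with a linear form `ε`;
* `contr_ιMulti`: its value on pure wedges;
* `mem_range_map_of_contr_eq_zero`: for `ε e = 1`, the kernel of `contr ε` on `⋀^p P` is the image of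
  `⋀^p (ker ε)`; `map_subtype_injective`: that map is injective.
-/

namespace Groth.Agent.Helper6.PnExtA

open ExteriorAlgebra

variable {R : Type*} [CommRing R] {P : Type*} [AddCommGroup P] [Module R P]

/-- contraction on the exterior algebra -/
noncomputable abbrev cL (ε : Module.Dual R P) : ExteriorAlgebra R P →ₗ[R] ExteriorAlgebra R P :=
  CliffordAlgebra.contractLeft (Q := (0 : QuadraticForm R P)) ε

theorem cL_ι_mul (ε : Module.Dual R P) (a : P) (b : ExteriorAlgebra R P) :
    cL ε (ι R a * b) = ε a • b - ι R a * cL ε b :=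
  CliffordAlgebra.contractLeft_ι_mul ε a b

theorem cL_one (ε : Module.Dual R P) : cL ε (1 : ExteriorAlgebra R P) = 0 :=
  CliffordAlgebra.contractLeft_one _ ε

theorem cL_algebraMap (ε : Module.Dual R P) (r : R) :
    cL ε (algebraMap R (ExteriorAlgebra R P) r) = 0 :=
  CliffordAlgebra.contractLeft_algebraMap _ ε r

/-- the contraction of a pure wedge -/
theorem cL_ιMulti (ε : Module.Dual R P) : ∀ (n : ℕ) (v : Fin (n + 1) → P),
    cL ε (ExteriorAlgebra.ιMulti R (n + 1) v) =
      ∑ a : Fin (n + 1), ((-1 : R) ^ (a : ℕ) * ε (v a)) •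
        ExteriorAlgebra.ιMulti R n (v ∘ a.succAbove) := by
  intro n
  induction n with
  | zero =>
    intro v
    rw [ιMulti_succ_apply, cL_ι_mul, ιMulti_zero_apply, cL_one, mul_zero, sub_zero]
    rw [Fin.sum_univ_one, ιMulti_zero_apply]
    simp
  | succ n ih =>
    intro v
    rw [ιMulti_succ_apply, cL_ι_mul, ih]
    rw [Fin.sum_univ_succ (fun a : Fin (n + 2) => ((-1 : R) ^ (a : ℕ) * ε (v a)) •
        ExteriorAlgebra.ιMulti R (n + 1) (v ∘ a.succAbove))]
    have h0 : v ∘ (0 : Fin (n + 2)).succAbove = Matrix.vecTail v := by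
      funext j
      simp [Matrix.vecTail]
    rw [h0]
    have h1 : ∀ a : Fin (n + 1),
        ExteriorAlgebra.ιMulti R (n + 1) (v ∘ a.succ.succAbove) =
          ι R (v 0) * ExteriorAlgebra.ιMulti R n (Matrix.vecTail v ∘ a.succAbove) := by
      intro a
      rw [ιMulti_succ_apply]
      congr 2
      funext j
      simp [Matrix.vecTail, Fin.succ_succAbove_succ]
    simp only [h1, Finset.mul_sum, mul_smul_comm]
    simp only [Fin.val_zero, pow_zero, one_mul, Fin.val_succ]
    rw [sub_eq_add_neg, ← Finset.sum_neg_distrib]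
    congr 1
    apply Finset.sum_congr rfl
    intro a _
    rw [← neg_smul]
    congr 1
    simp [Matrix.vecTail, pow_succ]

/-- the contraction `⋀^(n+1) P → ⋀^n P` -/
noncomputable def contr (ε : Module.Dual R P) (n : ℕ) : ⋀[R]^(n + 1) P →ₗ[R] ⋀[R]^n P :=
  LinearMap.restrict (p := ⋀[R]^(n + 1) P) (q := ⋀[R]^n P) (cL ε) (by
    intro x hx
    have h := exteriorPower.ιMulti_span_fixedDegree R (n + 1) (M := P)
    rw [← h] at hx
    induction hx using Submodule.span_induction with
    | mem x hx =>
      obtain ⟨v, rfl⟩ := hx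
      rw [cL_ιMulti]
      apply Submodule.sum_mem
      intro a _
      apply Submodule.smul_mem
      rw [← exteriorPower.ιMulti_span_fixedDegree R n (M := P)]
      exact Submodule.subset_span ⟨_, rfl⟩
    | zero => rw [map_zero]; exact Submodule.zero_mem _
    | add x y _ _ hx hy => rw [map_add]; exact Submodule.add_mem _ hx hy
    | smul r x _ hx => rw [map_smul]; exact Submodule.smul_mem _ _ hx)

theorem contr_coe (ε : Module.Dual R P) (n : ℕ) (x : ⋀[R]^(n + 1) P) :
    ((contr ε n x : ⋀[R]^n P) : ExteriorAlgebra R P) = cL ε (x : ExteriorAlgebra R P) := rfl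

theorem contr_ιMulti (ε : Module.Dual R P) (n : ℕ) (v : Fin (n + 1) → P) :
    contr ε n (exteriorPower.ιMulti R (n + 1) v) =
      ∑ a : Fin (n + 1), ((-1 : R) ^ (a : ℕ) * ε (v a)) •
        exteriorPower.ιMulti R n (v ∘ a.succAbove) := by
  apply Subtype.ext
  rw [contr_coe, exteriorPower.ιMulti_apply_coe, cL_ιMulti]
  rw [Submodule.coe_sum]
  apply Finset.sum_congr rfl
  intro a _
  rw [Submodule.coe_smul, exteriorPower.ιMulti_apply_coe]

theorem map_coe {Q : Type*} [AddCommGroup Q] [Module R Q] (f : P →ₗ[R] Q) (n : ℕ)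
    (x : ⋀[R]^n P) :
    ((exteriorPower.map n f x : ⋀[R]^n Q) : ExteriorAlgebra R Q) =
      ExteriorAlgebra.map f (x : ExteriorAlgebra R P) := by
  have hx : x ∈ (⊤ : Submodule R (⋀[R]^n P)) := Submodule.mem_top
  rw [← exteriorPower.ιMulti_span R n P] at hx
  induction hx using Submodule.span_induction with
  | mem x hx =>
    obtain ⟨v, rfl⟩ := hx
    rw [exteriorPower.map_apply_ιMulti, exteriorPower.ιMulti_apply_coe,
      exteriorPower.ιMulti_apply_coe, ExteriorAlgebra.map_apply_ιMulti]
  | zero => simp
  | add x y _ _ hx hy => rw [map_add, Submodule.coe_add, hx, hy, Submodule.coe_add, map_add]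
  | smul r x _ hx => rw [map_smul, Submodule.coe_smul, hx, Submodule.coe_smul, map_smul]

/-- the key identity: `⋀(id - e ⊗ ε) = id - e ∧ (ε ⌟ ·)` -/
theorem map_sub_eq (ε : Module.Dual R P) (e : P) (x : ExteriorAlgebra R P) :
    ExteriorAlgebra.map ((LinearMap.id : P →ₗ[R] P) - (LinearMap.toSpanSingleton R P e).comp ε) x =
      x - ι R e * cL ε x := by
  induction x using CliffordAlgebra.left_induction with
  | algebraMap r =>
    rw [AlgHom.commutes]
    erw [cL_algebraMap]
    rw [mul_zero, sub_zero]
  | add x y hx hy =>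
    rw [map_add, hx, hy, map_add, mul_add]
    abel
  | ι_mul x m hx =>
    change ExteriorAlgebra.map _ (ι R m * x) = ι R m * x - ι R e * cL ε (ι R m * x)
    rw [map_mul, hx, ExteriorAlgebra.map_apply_ι, cL_ι_mul]
    have h1 : ((LinearMap.id : P →ₗ[R] P) - (LinearMap.toSpanSingleton R P e).comp ε) m =
        m - ε m • e := by
      simp [LinearMap.toSpanSingleton_apply]
    rw [h1, map_sub, map_smul]
    have h2 : ι R e * ι R m = - (ι R m * ι R e) := by
      rw [eq_neg_iff_add_eq_zero]
      exact ι_add_mul_swap e m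
    have h3 : ι R e * ι R e = 0 := ι_sq_zero e
    calc (ι R m - ε m • ι R e) * (x - ι R e * cL ε x)
        = ι R m * x - ι R m * ι R e * cL ε x - ε m • (ι R e * x)
          + ε m • (ι R e * ι R e * cL ε x) := by
          simp only [sub_mul, mul_sub, smul_mul_assoc, mul_assoc]
          abel
      _ = ι R m * x - ι R e * (ε m • x - ι R m * cL ε x) := by
          rw [h3, zero_mul, smul_zero, add_zero, mul_sub, mul_smul_comm, ← mul_assoc (ι R e),
            h2, neg_mul]
          abel

section kernel

variable (ε : Module.Dual R P) (e : P) (he : ε e = 1)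

/-- the projection onto the kernel -/
noncomputable def toKer : P →ₗ[R] LinearMap.ker ε :=
  LinearMap.codRestrict (LinearMap.ker ε)
    ((LinearMap.id : P →ₗ[R] P) - (LinearMap.toSpanSingleton R P e).comp ε) (by
      intro v
      rw [LinearMap.mem_ker]
      simp [LinearMap.toSpanSingleton_apply, he])

theorem subtype_comp_toKer :
    (LinearMap.ker ε).subtype ∘ₗ toKer ε e he =
      (LinearMap.id : P →ₗ[R] P) - (LinearMap.toSpanSingleton R P e).comp ε := by
  ext v
  rfl

theorem toKer_comp_subtype : toKer ε e he ∘ₗ (LinearMap.ker ε).subtype = LinearMap.id := by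
  ext v
  have hv : ε v.1 = 0 := v.2
  simp [toKer, LinearMap.toSpanSingleton_apply, hv]

include he in
theorem map_subtype_injective (p : ℕ) :
    Function.Injective (exteriorPower.map p (LinearMap.ker ε).subtype) :=
  exteriorPower.map_injective (toKer ε e he) (toKer_comp_subtype ε e he)

include he in
/-- the kernel of the contraction is the image of the exterior power of the kernel -/
theorem mem_range_map_of_contr_eq_zero (n : ℕ) (x : ⋀[R]^(n + 1) P) (hx : contr ε n x = 0) :
    x ∈ LinearMap.range (exteriorPower.map (n + 1) (LinearMap.ker ε).subtype) := by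
  refine ⟨exteriorPower.map (n + 1) (toKer ε e he) x, ?_⟩
  rw [← LinearMap.comp_apply, ← exteriorPower.map_comp, subtype_comp_toKer]
  apply Subtype.ext
  rw [map_coe, map_sub_eq]
  have h := congrArg (fun z : ⋀[R]^n P => (z : ExteriorAlgebra R P)) hx
  simp only [contr_coe, ZeroMemClass.coe_zero] at h
  rw [h, mul_zero, sub_zero]

/-- the contraction vanishes on the exterior power of the kernel -/
theorem contr_map_subtype (n : ℕ) (y : ⋀[R]^(n + 1) (LinearMap.ker ε)) :
    contr ε n (exteriorPower.map (n + 1) (LinearMap.ker ε).subtype y) = 0 := by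
  have hy : y ∈ (⊤ : Submodule R (⋀[R]^(n + 1) (LinearMap.ker ε))) := Submodule.mem_top
  rw [← exteriorPower.ιMulti_span R (n + 1) (LinearMap.ker ε)] at hy
  induction hy using Submodule.span_induction with
  | mem y hy =>
    obtain ⟨v, rfl⟩ := hy
    rw [exteriorPower.map_apply_ιMulti, contr_ιMulti]
    apply Finset.sum_eq_zero
    intro a _
    have : ε (((LinearMap.ker ε).subtype ∘ v) a) = 0 := (v a).2
    rw [this, mul_zero, zero_smul]
  | zero => simp
  | add x y _ _ hx hy => rw [map_add, map_add, hx, hy, add_zero]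
  | smul r x _ hx => rw [map_smul, map_smul, hx, smul_zero]

end kernel

end Groth.Agent.Helper6.PnExtA
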