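import Mathlib
import Groth.Prelude.Def_ExtPow2
import Groth.Agent.Helper1.BasisHom
import Groth.Agent.Helper1.BasisIso
import Groth.Agent.Helper6.PnExtA

set_option autoImplicit false
set_option linter.style.haveILetI false
set_option linter.unusedSectionVars false
set_option linter.unusedVariables false
set_option linter.unusedSimpArgs false

/-!
# Exterior powers of a module on a basis of opens

`IsExtPowOn B p E L`: the analogue of the prelude's `ExtPow.IsExtPow p E L` where the identifications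
`L(U) ≃ ⋀^p E(U)` are only given for the members `U = B i` of a family of opens.
* `IsExtPowOn.of_isExtPow`: restriction of an `IsExtPow` structure to a family of affine opens;
* `IsExtPowOn.nonempty_iso`: two exterior powers on a basis are isomorphic;
* `IsExtPowOn.of_iso`: transport along an isomorphism of `E`.
-/

namespace Groth.Agent.Helper6.PnExtB

open CategoryTheory AlgebraicGeometry Opposite TopologicalSpace

universe u

variable {X : Scheme.{u}} {ι : Type u} (B : ι → X.Opens)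

/-- `L` is a `p`-th exterior power of `E` on the opens `B i` -/
def IsExtPowOn (p : ℕ) (E L : X.Modules) : Prop :=
  ∃ φ : ∀ i : ι, (L.val.obj (op (B i))) ≃ₗ[Γ(X, B i)] ↥(⋀[Γ(X, B i)]^p (E.val.obj (op (B i)))),
    ∀ (i j : ι) (h : B j ≤ B i) (e : Fin p → E.val.obj (op (B i))),
      L.val.map (homOfLE h).op ((φ i).symm (exteriorPower.ιMulti _ p e)) =
        (φ j).symm (exteriorPower.ιMulti _ p (fun a => E.val.map (homOfLE h).op (e a)))

variable {B}

theorem IsExtPowOn.of_isExtPow {p : ℕ} {E L : X.Modules} (hB : ∀ i, IsAffineOpen (B i))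
    (h : ExtPow.IsExtPow p E L) : IsExtPowOn B p E L := by
  obtain ⟨φ, hφ⟩ := h
  exact ⟨fun i => φ ⟨B i, hB i⟩, fun i j h e => hφ ⟨B i, hB i⟩ ⟨B j, hB j⟩ h e⟩

section iso

variable {p : ℕ} {E L L' : X.Modules}
  (φ : ∀ i : ι, (L.val.obj (op (B i))) ≃ₗ[Γ(X, B i)] ↥(⋀[Γ(X, B i)]^p (E.val.obj (op (B i)))))
  (hφ : ∀ (i j : ι) (h : B j ≤ B i) (e : Fin p → E.val.obj (op (B i))),
      L.val.map (homOfLE h).op ((φ i).symm (exteriorPower.ιMulti _ p e)) =
        (φ j).symm (exteriorPower.ιMulti _ p (fun a => E.val.map (homOfLE h).op (e a))))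
  (φ' : ∀ i : ι, (L'.val.obj (op (B i))) ≃ₗ[Γ(X, B i)] ↥(⋀[Γ(X, B i)]^p (E.val.obj (op (B i)))))
  (hφ' : ∀ (i j : ι) (h : B j ≤ B i) (e : Fin p → E.val.obj (op (B i))),
      L'.val.map (homOfLE h).op ((φ' i).symm (exteriorPower.ιMulti _ p e)) =
        (φ' j).symm (exteriorPower.ιMulti _ p (fun a => E.val.map (homOfLE h).op (e a))))

/-- the comparison on sections -/
noncomputable def cmp (i : ι) : Γ(L, B i) →+ Γ(L', B i) :=
  ((φ' i).symm.toLinearMap.comp (φ i).toLinearMap).toAddMonoidHom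

theorem cmp_lin (i : ι) (r : Γ(X, B i)) (s : Γ(L, B i)) :
    cmp φ φ' i (r • s) = r • cmp φ φ' i s :=
  ((φ' i).symm.toLinearMap.comp (φ i).toLinearMap).map_smul r s

theorem cmp_symm (i : ι) (ω : ↥(⋀[Γ(X, B i)]^p (E.val.obj (op (B i))))) :
    cmp φ φ' i ((φ i).symm ω) = (φ' i).symm ω := by
  show (φ' i).symm (φ i ((φ i).symm ω)) = _
  rw [LinearEquiv.apply_symm_apply]

include hφ hφ' in
theorem cmp_nat_aux (i j : ι) (h : B j ≤ B i) (ω : ↥(⋀[Γ(X, B i)]^p (E.val.obj (op (B i))))) :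
    L'.presheaf.map (homOfLE h).op ((φ' i).symm ω : Γ(L', B i)) =
      cmp φ φ' j (L.presheaf.map (homOfLE h).op ((φ i).symm ω : Γ(L, B i))) := by
  have hω : ω ∈ (⊤ : Submodule Γ(X, B i) _) := Submodule.mem_top
  rw [← exteriorPower.ιMulti_span] at hω
  refine Submodule.span_induction (p := fun ω _ =>
    L'.presheaf.map (homOfLE h).op ((φ' i).symm ω : Γ(L', B i)) =
      cmp φ φ' j (L.presheaf.map (homOfLE h).op ((φ i).symm ω : Γ(L, B i)))) ?_ ?_ ?_ ?_ hω
  · rintro _ ⟨e, rfl⟩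
    refine (hφ' i j h e).trans ?_
    have h3 : L.presheaf.map (homOfLE h).op
        ((φ i).symm (exteriorPower.ιMulti _ p e) : Γ(L, B i)) =
        (φ j).symm (exteriorPower.ιMulti _ p (fun a => E.val.map (homOfLE h).op (e a))) :=
      hφ i j h e
    rw [h3, cmp_symm]
  · rw [map_zero, map_zero]
    erw [map_zero, map_zero]
    rw [map_zero]
  · intro x y _ _ hx hy
    rw [map_add, map_add]
    erw [map_add, map_add]
    rw [map_add]
    exact congrArg₂ (· + ·) hx hy
  · intro r x _ hx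
    rw [map_smul, map_smul]
    have h1 := Scheme.Modules.map_smul L' (homOfLE h) r ((φ' i).symm x : Γ(L', B i))
    have h2 := Scheme.Modules.map_smul L (homOfLE h) r ((φ i).symm x : Γ(L, B i))
    refine h1.trans ?_
    refine Eq.trans ?_ (congrArg (cmp φ φ' j) h2).symm
    rw [hx]
    exact (cmp_lin φ φ' j _ _).symm

include hφ hφ' in
theorem cmp_nat (i j : ι) (h : B j ≤ B i) (s : Γ(L, B i)) :
    L'.presheaf.map (homOfLE h).op (cmp φ φ' i s) =
      cmp φ φ' j (L.presheaf.map (homOfLE h).op s) := by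
  have h1 := cmp_nat_aux φ hφ φ' hφ' i j h (φ i s)
  rw [LinearEquiv.symm_apply_apply] at h1
  exact h1

end iso

theorem IsExtPowOn.nonempty_iso (hB : Opens.IsBasis (Set.range B)) {p : ℕ} {E L L' : X.Modules}
    (h : IsExtPowOn B p E L) (h' : IsExtPowOn B p E L') : Nonempty (L ≅ L') := by
  obtain ⟨φ, hφ⟩ := h
  obtain ⟨φ', hφ'⟩ := h'
  let f : L ⟶ L' := Groth.Agent.Helper1.BasisHom.homOfBasis B hB L L' (cmp φ φ')
    (cmp_nat φ hφ φ' hφ') (cmp_lin φ φ')
  have hf : ∀ i (s : Γ(L, B i)), f.app (B i) s = cmp φ φ' i s :=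
    fun i s => Groth.Agent.Helper1.BasisHom.homOfBasis_app B hB L L' _ _ _ i s
  haveI : IsIso f := by
    apply Groth.Agent.Helper1.BasisIso.isIso_of_bijective_on_basis f (Set.range B)
    · intro U x hx
      obtain ⟨_, ⟨i, rfl⟩, hxi, hiU⟩ := Opens.isBasis_iff_nbhd.1 hB hx
      exact ⟨B i, ⟨i, rfl⟩, hxi, hiU⟩
    · rintro _ ⟨i, rfl⟩
      have : ⇑(ConcreteCategory.hom (f.app (B i))) = ⇑((φ i).trans (φ' i).symm) := by
        funext s
        exact hf i s
      rw [this]
      exact ((φ i).trans (φ' i).symm).bijective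
  exact ⟨asIso f⟩

end Groth.Agent.Helper6.PnExtB
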