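import Mathlib
import Groth.Prelude.Def_ExtPow2
import Groth.Agent.Helper4.StalkExact
import Groth.Agent.Helper6.PnExtB

set_option autoImplicit false
set_option linter.style.haveILetI false
set_option linter.unusedSectionVars false
set_option linter.unusedVariables false
set_option linter.unusedSimpArgs false

/-!
# Exterior powers on a basis: transport, kernels
-/

namespace Groth.Agent.Helper6.PnExtB

open CategoryTheory CategoryTheory.Limits AlgebraicGeometry Opposite TopologicalSpace

universe u

variable {X : Scheme.{u}}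

/-- a morphism of modules on sections, as a linear map -/
noncomputable def appLin {M N : X.Modules} (φ : M ⟶ N) (U : X.Opens) :
    (M.val.obj (op U)) →ₗ[Γ(X, U)] (N.val.obj (op U)) :=
  (φ.val.app (op U)).hom

theorem appLin_apply {M N : X.Modules} (φ : M ⟶ N) (U : X.Opens) (x : M.val.obj (op U)) :
    appLin φ U x = φ.app U x := rfl

theorem appLin_comp {M N Q : X.Modules} (φ : M ⟶ N) (ψ : N ⟶ Q) (U : X.Opens) :
    appLin (φ ≫ ψ) U = (appLin ψ U).comp (appLin φ U) := rfl

theorem appLin_id (M : X.Modules) (U : X.Opens) : appLin (𝟙 M) U = LinearMap.id := rfl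

theorem appLin_res {M N : X.Modules} (φ : M ⟶ N) {U V : X.Opens} (h : V ≤ U)
    (x : M.val.obj (op U)) :
    N.val.map (homOfLE h).op (appLin φ U x) = appLin φ V (M.val.map (homOfLE h).op x) :=
  (Groth.Agent.Helper4.StalkExact.app_res φ (homOfLE h) x).symm

/-- an isomorphism of modules on sections, as a linear equivalence -/
noncomputable def appEquiv {M N : X.Modules} (e : M ≅ N) (U : X.Opens) :
    (M.val.obj (op U)) ≃ₗ[Γ(X, U)] (N.val.obj (op U)) :=
  LinearEquiv.ofLinearMap (appLin e.hom U) (appLin e.inv U)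
    (by rw [← appLin_comp, e.inv_hom_id, appLin_id])
    (by rw [← appLin_comp, e.hom_inv_id, appLin_id])


/-- exterior powers of a linear equivalence -/
noncomputable def extEquiv {R : Type*} [CommRing R] {M N : Type*} [AddCommGroup M] [Module R M]
    [AddCommGroup N] [Module R N] (p : ℕ) (e : M ≃ₗ[R] N) : ⋀[R]^p M ≃ₗ[R] ⋀[R]^p N :=
  LinearEquiv.ofLinearMap (exteriorPower.map p e.toLinearMap) (exteriorPower.map p e.symm.toLinearMap)
    (by rw [← exteriorPower.map_comp]; simp [exteriorPower.map_id])
    (by rw [← exteriorPower.map_comp]; simp [exteriorPower.map_id])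

theorem extEquiv_symm_ιMulti {R : Type*} [CommRing R] {M N : Type*} [AddCommGroup M] [Module R M]
    [AddCommGroup N] [Module R N] (p : ℕ) (e : M ≃ₗ[R] N) (v : Fin p → N) :
    (extEquiv p e).symm (exteriorPower.ιMulti R p v) =
      exteriorPower.ιMulti R p (fun a => e.symm (v a)) :=
  exteriorPower.map_apply_ιMulti _ _

variable {ι : Type u} {B : ι → X.Opens}

theorem IsExtPowOn.of_iso {p : ℕ} {E E' L : X.Modules} (e : E ≅ E') (h : IsExtPowOn B p E L) :
    IsExtPowOn B p E' L := by
  obtain ⟨φ, hφ⟩ := h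
  refine ⟨fun i => (φ i).trans (extEquiv p (appEquiv e (B i))), ?_⟩
  intro i j hji v
  have h1 : ∀ (k : ι) (w : Fin p → E'.val.obj (op (B k))),
      ((φ k).trans (extEquiv p (appEquiv e (B k)))).symm (exteriorPower.ιMulti _ p w) =
        (φ k).symm (exteriorPower.ιMulti _ p (fun a => appLin e.inv (B k) (w a))) := by
    intro k w
    rw [LinearEquiv.trans_symm, LinearEquiv.trans_apply, extEquiv_symm_ιMulti]
    rfl
  rw [h1, h1]
  refine (hφ i j hji _).trans ?_
  congr 2
  funext a
  exact appLin_res e.inv hji (v a)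


theorem exists_equiv_of_range_eq {R : Type*} [CommRing R] {M₁ M₂ M : Type*} [AddCommGroup M₁]
    [Module R M₁] [AddCommGroup M₂] [Module R M₂] [AddCommGroup M] [Module R M]
    (f : M₁ →ₗ[R] M) (g : M₂ →ₗ[R] M) (hf : Function.Injective f) (hg : Function.Injective g)
    (h : LinearMap.range f = LinearMap.range g) :
    ∃ ψ : M₁ ≃ₗ[R] M₂, ∀ x, g (ψ x) = f x := by
  refine ⟨(LinearEquiv.ofInjective f hf).trans
    ((LinearEquiv.ofEq _ _ h).trans (LinearEquiv.ofInjective g hg).symm), ?_⟩
  intro x
  have h1 : g ((LinearEquiv.ofInjective g hg).symm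
      ((LinearEquiv.ofEq _ _ h) (LinearEquiv.ofInjective f hf x))) =
      ((LinearEquiv.ofEq _ _ h) (LinearEquiv.ofInjective f hf x) : M) :=
    LinearEquiv.ofInjective_symm_apply _ _
  exact h1

section kernel

/-- a map to the structure module on sections, as a linear form -/
noncomputable def formOf {E : X.Modules} (ε : E ⟶ Coh.structureModule X) (U : X.Opens) :
    Module.Dual Γ(X, U) (E.val.obj (op U)) :=
  appLin ε U

theorem app_kernel_ι_injective {M N : X.Modules} (φ : M ⟶ N) (U : X.Opens) :
    Function.Injective (appLin (kernel.ι φ) U) := by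
  haveI : Mono ((Scheme.Modules.toPresheaf X).map (kernel.ι φ)) := inferInstance
  have h1 : Mono (((Scheme.Modules.toPresheaf X).map (kernel.ι φ)).app (op U)) := inferInstance
  exact (AddCommGrpCat.mono_iff_injective _).1 h1

theorem range_app_kernel_ι {M N : X.Modules} (φ : M ⟶ N) (U : X.Opens) :
    LinearMap.range (appLin (kernel.ι φ) U) = LinearMap.ker (appLin φ U) := by
  let S : ShortComplex X.Modules := ShortComplex.mk (kernel.ι φ) φ (kernel.condition φ)
  have hS : S.Exact := ShortComplex.exact_of_f_is_kernel _ (kernelIsKernel φ)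
  haveI : Mono S.f := inferInstanceAs (Mono (kernel.ι φ))
  have h := Groth.Agent.Helper4.StalkExact.app_exact S hS U
  ext z
  rw [LinearMap.mem_range, LinearMap.mem_ker]
  exact (h z).symm

variable {ι : Type u} {B : ι → X.Opens}

theorem IsExtPowOn.ker {q : ℕ} {E F₁ F₀ : X.Modules} (ε : E ⟶ Coh.structureModule X)
    (c : F₁ ⟶ F₀)
    (φ₁ : ∀ i : ι, (F₁.val.obj (op (B i))) ≃ₗ[Γ(X, B i)]
      ↥(⋀[Γ(X, B i)]^(q + 1) (E.val.obj (op (B i)))))
    (hφ₁ : ∀ (i j : ι) (h : B j ≤ B i) (e : Fin (q + 1) → E.val.obj (op (B i))),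
      F₁.val.map (homOfLE h).op ((φ₁ i).symm (exteriorPower.ιMulti _ (q + 1) e)) =
        (φ₁ j).symm (exteriorPower.ιMulti _ (q + 1) (fun a => E.val.map (homOfLE h).op (e a))))
    (φ₀ : ∀ i : ι, (F₀.val.obj (op (B i))) ≃ₗ[Γ(X, B i)]
      ↥(⋀[Γ(X, B i)]^q (E.val.obj (op (B i)))))
    (hc : ∀ (i : ι) (v : F₁.val.obj (op (B i))),
      φ₀ i (appLin c (B i) v) = PnExtA.contr (formOf ε (B i)) q (φ₁ i v))
    (hsurj : ∀ i : ι, ∃ e : E.val.obj (op (B i)), formOf ε (B i) e = 1) :
    IsExtPowOn B (q + 1) (kernel ε) (kernel c) := by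
  -- the section-wise data
  have key : ∀ i : ι, ∃ ψ : ((kernel c).val.obj (op (B i))) ≃ₗ[Γ(X, B i)]
      ↥(⋀[Γ(X, B i)]^(q + 1) ((kernel ε).val.obj (op (B i)))),
      ∀ z, exteriorPower.map (q + 1) (appLin (kernel.ι ε) (B i)) (ψ z) =
        φ₁ i (appLin (kernel.ι c) (B i) z) := by
    intro i
    obtain ⟨e, he⟩ := hsurj i
    set εi := formOf ε (B i) with hεi
    set jE := appLin (kernel.ι ε) (B i) with hjE
    set jF := appLin (kernel.ι c) (B i) with hjF
    have hjE_inj : Function.Injective jE := app_kernel_ι_injective ε (B i)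
    have hjE_range : LinearMap.range jE = LinearMap.ker εi := range_app_kernel_ι ε (B i)
    have hjF_inj : Function.Injective jF := app_kernel_ι_injective c (B i)
    have hjF_range : LinearMap.range jF = LinearMap.ker (appLin c (B i)) :=
      range_app_kernel_ι c (B i)
    -- `K ≃ ker εi`
    let κ₀ : ((kernel ε).val.obj (op (B i))) →ₗ[Γ(X, B i)] LinearMap.ker εi :=
      LinearMap.codRestrict _ jE (fun x => by rw [← hjE_range]; exact ⟨x, rfl⟩)
    have hκ₀ : Function.Bijective κ₀ := by
      constructor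
      · intro x y hxy
        exact hjE_inj (congrArg Subtype.val hxy)
      · rintro ⟨y, hy⟩
        rw [← hjE_range] at hy
        obtain ⟨x, rfl⟩ := hy
        exact ⟨x, rfl⟩
    let κ := LinearEquiv.ofBijective κ₀ hκ₀
    have hκ : jE = (LinearMap.ker εi).subtype ∘ₗ κ.toLinearMap := by
      ext x
      rfl
    set m := exteriorPower.map (q + 1) jE with hm
    have hm_eq : m = exteriorPower.map (q + 1) (LinearMap.ker εi).subtype ∘ₗ
        (extEquiv (q + 1) κ).toLinearMap := by
      rw [hm, hκ, exteriorPower.map_comp]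
      rfl
    have hm_inj : Function.Injective m := by
      rw [hm_eq]
      exact (PnExtA.map_subtype_injective εi e he (q + 1)).comp (extEquiv (q + 1) κ).injective
    have hm_range : LinearMap.range m = LinearMap.ker (PnExtA.contr εi q) := by
      apply le_antisymm
      · rintro _ ⟨y, rfl⟩
        rw [LinearMap.mem_ker, hm_eq, LinearMap.comp_apply]
        exact PnExtA.contr_map_subtype εi q _
      · intro x hx
        obtain ⟨y, rfl⟩ := PnExtA.mem_range_map_of_contr_eq_zero εi e he q x hx
        refine ⟨(extEquiv (q + 1) κ).symm y, ?_⟩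
        rw [hm_eq, LinearMap.comp_apply]
        congr 1
        exact (extEquiv (q + 1) κ).apply_symm_apply y
    set g := (φ₁ i).toLinearMap ∘ₗ jF with hg
    have hg_inj : Function.Injective g := (φ₁ i).injective.comp hjF_inj
    have hg_range : LinearMap.range g = LinearMap.ker (PnExtA.contr εi q) := by
      apply le_antisymm
      · rintro _ ⟨z, rfl⟩
        rw [LinearMap.mem_ker]
        show PnExtA.contr εi q (φ₁ i (jF z)) = 0
        rw [← hc]
        have : appLin c (B i) (jF z) = 0 := by
          have hz : jF z ∈ LinearMap.range jF := ⟨z, rfl⟩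
          rw [hjF_range] at hz
          exact hz
        rw [this, map_zero]
      · intro x hx
        have h1 : appLin c (B i) ((φ₁ i).symm x) = 0 := by
          apply (φ₀ i).injective
          rw [hc, LinearEquiv.apply_symm_apply, map_zero]
          exact hx
        have h2 : (φ₁ i).symm x ∈ LinearMap.range jF := by
          rw [hjF_range]
          exact h1
        obtain ⟨z, hz⟩ := h2
        refine ⟨z, ?_⟩
        show φ₁ i (jF z) = x
        rw [hz, LinearEquiv.apply_symm_apply]
    obtain ⟨ψ, hψ⟩ := exists_equiv_of_range_eq g m hg_inj hm_inj (hg_range.trans hm_range.symm)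
    exact ⟨ψ, hψ⟩
  choose ψ hψ using key
  refine ⟨ψ, ?_⟩
  intro i j hji v
  apply app_kernel_ι_injective c (B j)
  -- both sides map to `(φ₁ j).symm (ιMulti (jE ∘ res ∘ v))`
  have h1 : ∀ (k : ι) (w : Fin (q + 1) → (kernel ε).val.obj (op (B k))),
      appLin (kernel.ι c) (B k) ((ψ k).symm (exteriorPower.ιMulti _ (q + 1) w)) =
        (φ₁ k).symm (exteriorPower.ιMulti _ (q + 1)
          (fun a => appLin (kernel.ι ε) (B k) (w a))) := by
    intro k w
    apply (φ₁ k).injective
    rw [← hψ, LinearEquiv.apply_symm_apply, LinearEquiv.apply_symm_apply,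
      exteriorPower.map_apply_ιMulti]
    rfl
  rw [h1, ← appLin_res, h1]
  refine (hφ₁ i j hji _).trans ?_
  congr 2
  funext a
  exact appLin_res (kernel.ι ε) hji (v a)

end kernel

end Groth.Agent.Helper6.PnExtB
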