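import Mathlib

set_option autoImplicit false
set_option linter.style.haveILetI false
set_option linter.unusedSectionVars false
set_option linter.unusedVariables false
set_option linter.unusedSimpArgs false

/-!
# Semilinear compatibility of exterior power identifications can be checked on a basis
-/

namespace Groth.Agent.Helper6.PnExtD

open exteriorPower Set.powersetCard

universe u v

/-- alternating maps agreeing on the ordered wedges of a basis are equal -/
theorem alt_ext {R : Type*} [CommRing R] {E T : Type*} [AddCommGroup E] [Module R E]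
    [AddCommGroup T] [Module R T] {K : Type*} [LinearOrder K] (b : Module.Basis K R E) {p : ℕ}
    (F₁ F₂ : E [⋀^Fin p]→ₗ[R] T)
    (h : ∀ s : Set.powersetCard K p, F₁ (fun a => b (ofFinEmbEquiv.symm s a)) =
      F₂ (fun a => b (ofFinEmbEquiv.symm s a))) : F₁ = F₂ := by
  apply exteriorPower.alternatingMapLinearEquiv.injective
  apply (b.exteriorPower p).ext
  intro s
  rw [exteriorPower.basis_apply]
  unfold exteriorPower.ιMulti_family
  rw [alternatingMapLinearEquiv_apply_ιMulti, alternatingMapLinearEquiv_apply_ιMulti]
  exact h s

theorem ιMulti_smul_const {R : Type*} [CommRing R] {E : Type*} [AddCommGroup E] [Module R E]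
    (p : ℕ) (c : R) (v : Fin p → E) :
    ιMulti R p (fun a => c • v a) = c ^ p • ιMulti R p v := by
  have h2 := (ιMulti R p (M := E)).map_smul_univ (fun _ => c) v
  rw [Finset.prod_const, Finset.card_univ, Fintype.card_fin] at h2
  exact h2

theorem compat_of_basis {R R' : Type*} [CommRing R] [CommRing R'] (ρ : R →+* R')
    {E L E' L' : Type*} [AddCommGroup E] [Module R E] [AddCommGroup L] [Module R L]
    [AddCommGroup E'] [Module R' E'] [AddCommGroup L'] [Module R' L']
    (resE : E →+ E') (hresE : ∀ (r : R) (e : E), resE (r • e) = ρ r • resE e)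
    (resL : L →+ L') (hresL : ∀ (r : R) (l : L), resL (r • l) = ρ r • resL l)
    {p : ℕ} (φ : L ≃ₗ[R] ⋀[R]^p E) (φ' : L' ≃ₗ[R'] ⋀[R']^p E')
    {K : Type*} [LinearOrder K] (b : Module.Basis K R E)
    (h : ∀ s : Set.powersetCard K p,
      resL (φ.symm (ιMulti R p (fun a => b (ofFinEmbEquiv.symm s a)))) =
        φ'.symm (ιMulti R' p (fun a => resE (b (ofFinEmbEquiv.symm s a)))))
    (e : Fin p → E) :
    resL (φ.symm (ιMulti R p e)) = φ'.symm (ιMulti R' p (fun a => resE (e a))) := by
  classical
  letI : Module R L' := Module.compHom L' ρ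
  have hsm : ∀ (r : R) (l : L'), r • l = ρ r • l := fun _ _ => rfl
  let F₁ : E [⋀^Fin p]→ₗ[R] L' :=
    { toFun := fun e => resL (φ.symm (ιMulti R p e))
      map_update_add' := by
        intro _ m i x y
        rw [(ιMulti R p).map_update_add, map_add, map_add]
      map_update_smul' := by
        intro _ m i c x
        rw [(ιMulti R p).map_update_smul, map_smul, hresL, hsm]
      map_eq_zero_of_eq' := by
        intro v i j hv hij
        rw [(ιMulti R p).map_eq_zero_of_eq v hv hij, map_zero, map_zero] }
  have hupd : ∀ [inst : DecidableEq (Fin p)] (m : Fin p → E) (i : Fin p) (x : E),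
      (fun a => resE (Function.update m i x a)) =
        Function.update (fun a => resE (m a)) i (resE x) := by
    intro inst m i x
    funext a
    by_cases ha : a = i
    · subst ha
      rw [Function.update_self, Function.update_self]
    · rw [Function.update_of_ne ha, Function.update_of_ne ha]
  let F₂ : E [⋀^Fin p]→ₗ[R] L' :=
    { toFun := fun e => φ'.symm (ιMulti R' p (fun a => resE (e a)))
      map_update_add' := by
        intro _ m i x y
        rw [hupd, hupd, hupd, map_add, (ιMulti R' p).map_update_add, map_add]
      map_update_smul' := by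
        intro _ m i c x
        rw [hupd, hupd, hresE, (ιMulti R' p).map_update_smul, map_smul, hsm]
      map_eq_zero_of_eq' := by
        intro v i j hv hij
        rw [(ιMulti R' p).map_eq_zero_of_eq (fun a => resE (v a)) (by rw [hv]) hij, map_zero] }
  have hF : F₁ = F₂ := alt_ext b F₁ F₂ h
  exact congrArg (fun F : E [⋀^Fin p]→ₗ[R] L' => F e) hF

end Groth.Agent.Helper6.PnExtD
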