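import Mathlib
import Groth.Prelude.Def_ExtPow2
import Groth.Agent.Helper6.PnExtC
import Groth.Agent.Helper6.PnExtD

set_option autoImplicit false
set_option linter.style.haveILetI false
set_option linter.unusedSectionVars false
set_option linter.unusedVariables false
set_option linter.unusedSimpArgs false

/-!
# The restriction compatibility of `IsExtPowOn` can be checked on a basis
-/

namespace Groth.Agent.Helper6.PnExtB

open CategoryTheory CategoryTheory.Limits AlgebraicGeometry Opposite TopologicalSpace
open exteriorPower Set.powersetCard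

universe u

variable {X : Scheme.{u}}

/-- restriction of sections, as an additive map -/
noncomputable def resAdd (M : X.Modules) {U V : X.Opens} (h : V ≤ U) :
    M.val.obj (op U) →+ M.val.obj (op V) where
  toFun x := M.val.map (homOfLE h).op x
  map_zero' := by
    erw [map_zero]
    rfl
  map_add' x y := by
    erw [map_add]
    rfl

theorem resAdd_apply (M : X.Modules) {U V : X.Opens} (h : V ≤ U) (x : M.val.obj (op U)) :
    resAdd M h x = M.val.map (homOfLE h).op x := rfl

theorem resAdd_smul (M : X.Modules) {U V : X.Opens} (h : V ≤ U) (r : Γ(X, U))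
    (x : M.val.obj (op U)) :
    resAdd M h (r • x) = (X.presheaf.map (homOfLE h).op).hom r • resAdd M h x :=
  Scheme.Modules.map_smul M (homOfLE h) r x

theorem compat_of_basis {E L : X.Modules} {U V : X.Opens} (h : V ≤ U) {p : ℕ}
    (φ : L.val.obj (op U) ≃ₗ[Γ(X, U)] ↥(⋀[Γ(X, U)]^p (E.val.obj (op U))))
    (φ' : L.val.obj (op V) ≃ₗ[Γ(X, V)] ↥(⋀[Γ(X, V)]^p (E.val.obj (op V))))
    {K : Type*} [LinearOrder K] (b : Module.Basis K Γ(X, U) (E.val.obj (op U)))
    (hb : ∀ s : Set.powersetCard K p,
      L.val.map (homOfLE h).op (φ.symm (ιMulti _ p (fun a => b (ofFinEmbEquiv.symm s a)))) =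
        φ'.symm (ιMulti _ p (fun a => E.val.map (homOfLE h).op (b (ofFinEmbEquiv.symm s a)))))
    (e : Fin p → E.val.obj (op U)) :
    L.val.map (homOfLE h).op (φ.symm (ιMulti _ p e)) =
      φ'.symm (ιMulti _ p (fun a => E.val.map (homOfLE h).op (e a))) :=
  PnExtD.compat_of_basis (X.presheaf.map (homOfLE h).op).hom (resAdd E h) (resAdd_smul E h)
    (resAdd L h) (resAdd_smul L h) φ φ' b hb e

end Groth.Agent.Helper6.PnExtB
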