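import Mathlib
import Groth.Prelude.Def_GrMod2
import Groth.Agent.Helper1.TwistMul4
import Groth.Agent.Helper1.KzMain
import Groth.Agent.Helper1.KzPn

set_option autoImplicit false
set_option linter.style.haveILetI false
set_option linter.unusedSectionVars false
set_option linter.unusedVariables false
set_option linter.unusedSimpArgs false

/-!
# Projective space: the basis of opens `D₊(x_i g)` and the local frames of `O(-p)`
-/

namespace Groth.Agent.Helper6.PnFrame

open CategoryTheory AlgebraicGeometry Opposite TopologicalSpace MvPolynomial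
open Groth.Agent.Helper1.GrT Groth.Agent.Helper1.TwistMul Groth.Agent.Helper1.ProjO

universe u

variable (n : ℕ) (A : Type u) [CommRing A]

local notation "𝒢" => CohB1.polyGrading n A

/-- the index type of the basis: `(i, e, g)` with `g` homogeneous of degree `e` -/
def Idx : Type u := Σ (_ : Fin (n + 1)) (e : ℕ), 𝒢 e

variable {n A}

/-- the chart index -/
def Idx.i (j : Idx n A) : Fin (n + 1) := j.1

/-- the equation `x_i g` -/
noncomputable def Idx.f (j : Idx n A) : MvPolynomial (Fin (n + 1)) A := X j.1 * (j.2.2).1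

theorem X_mem (i : Fin (n + 1)) : (X i : MvPolynomial (Fin (n + 1)) A) ∈ 𝒢 1 :=
  isHomogeneous_X A i

theorem Idx.f_mem (j : Idx n A) : j.f ∈ 𝒢 (1 + j.2.1) :=
  SetLike.mul_mem_graded (X_mem j.1) j.2.2.2

variable (n A)

/-- the basis of opens `D₊(x_i g)` -/
noncomputable def B (j : Idx n A) : (Proj 𝒢).Opens := ProjectiveSpectrum.basicOpen 𝒢 j.f

variable {n A}

theorem X_notMem (j : Idx n A) (y : ProjectiveSpectrum.top 𝒢) (hy : y ∈ B n A j) :
    (X j.i : MvPolynomial (Fin (n + 1)) A) ∉ y.asHomogeneousIdeal := by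
  intro h
  apply hy
  show X j.1 * (j.2.2).1 ∈ y.asHomogeneousIdeal
  exact Ideal.mul_mem_right _ _ h

theorem isAffineOpen_B (j : Idx n A) : IsAffineOpen (B n A j) :=
  Proj.isAffineOpen_basicOpen 𝒢 j.f j.f_mem (by omega)

theorem isBasis : Opens.IsBasis (Set.range (B n A)) := by
  rw [Opens.isBasis_iff_nbhd]
  intro U x hx
  obtain ⟨i, hi, hix⟩ := Groth.Agent.Helper1.KzPn.xs_cov n A x
  unfold Groth.Agent.Helper1.KzPn.xs at hix
  rw [dif_pos hi] at hix
  obtain ⟨e, h, he, hh, hhx, hU⟩ := exists_basicOpen_le 𝒢 (d := 1) (by omega)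
    (X ⟨i, hi⟩ : MvPolynomial (Fin (n + 1)) A) (X_mem _) U x hx hix
  refine ⟨B n A ⟨⟨i, hi⟩, e, ⟨h, hh⟩⟩, ⟨_, rfl⟩, ?_, ?_⟩
  · intro hmem
    have hmem' : (X ⟨i, hi⟩ : MvPolynomial (Fin (n + 1)) A) * h ∈ x.asHomogeneousIdeal := hmem
    rcases x.isPrime.mem_or_mem hmem' with h1 | h1
    · exact hix h1
    · exact hhx h1
  · intro y hy
    have : h ∉ y.asHomogeneousIdeal := fun h1 => hy
      (show (X ⟨i, hi⟩ : MvPolynomial (Fin (n + 1)) A) * h ∈ y.asHomogeneousIdeal from
        Ideal.mul_mem_left _ _ h1)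
    exact (hU y this).1

end Groth.Agent.Helper6.PnFrame
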