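import Mathlib
import Groth.Agent.Helper1.KzDeg

set_option autoImplicit false
set_option linter.style.haveILetI false
set_option linter.unusedSectionVars false
set_option linter.unusedVariables false
set_option linter.unusedSimpArgs false

/-!
# The Koszul differential on basis elements
-/

namespace Groth.Agent.Helper6.PnKosA

open Groth.Agent.Helper1.KzAlg Finset

universe u

variable {A : Type u} [CommRing A] {N : Type u} [AddCommGroup N] [Module A N] (x : ℕ → A)

theorem erase_mem_idx {r q : ℕ} {I : Finset ℕ} (hI : I ∈ idx r (q + 1)) {j : ℕ} (hj : j ∈ I) :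
    I.erase j ∈ idx r q := by
  rw [mem_idx] at hI ⊢
  refine ⟨(Finset.erase_subset j I).trans hI.1, ?_⟩
  have := Finset.card_erase_of_mem hj
  have h2 := hI.2
  push_cast at h2 ⊢
  omega

/-- the Koszul differential of a basis element -/
theorem d_incl (r q : ℕ) (I : Finset ℕ) (hI : I ∈ idx r (q + 1)) (t : N) :
    (d x r (fun J => if J = I then t else 0) : Finset ℕ → N) =
      ∑ j ∈ I.attach, (fun J => if J = I.erase j.1 then
        Groth.Agent.Helper1.KzAlg.sgn j.1 (I.erase j.1) • x j.1 • t else 0) := by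
  funext J
  rw [d_apply, Finset.sum_apply, Finset.sum_apply]
  have hIr : I ⊆ Finset.range r := (mem_idx.1 hI).1
  -- the common summand
  let g : ℕ → N := fun j => if j ∈ I ∧ J = I.erase j then
    Groth.Agent.Helper1.KzAlg.sgn j (I.erase j) • x j • t else 0
  have h1 : ∀ j ∈ Finset.range r,
      (x j • Groth.Agent.Helper1.KzAlg.ι (A := A) j (fun J => if J = I then t else 0)) J = g j := by
    intro j _
    rw [Pi.smul_apply, ι_apply]
    by_cases hjJ : j ∈ J
    · rw [if_pos hjJ, smul_zero]
      show 0 = if j ∈ I ∧ J = I.erase j then _ else 0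
      rw [if_neg]
      rintro ⟨_, h2⟩
      rw [h2] at hjJ
      exact Finset.notMem_erase j I hjJ
    · rw [if_neg hjJ]
      by_cases hins : insert j J = I
      · have hjI : j ∈ I := hins ▸ Finset.mem_insert_self j J
        have hJ : J = I.erase j := by rw [← hins, Finset.erase_insert hjJ]
        show x j • Groth.Agent.Helper1.KzAlg.sgn j J • (if insert j J = I then t else 0) =
          if j ∈ I ∧ J = I.erase j then _ else 0
        rw [if_pos hins, if_pos ⟨hjI, hJ⟩, ← hJ, smul_comm]
      · show x j • Groth.Agent.Helper1.KzAlg.sgn j J • (if insert j J = I then t else 0) =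
          if j ∈ I ∧ J = I.erase j then _ else 0
        rw [if_neg hins, smul_zero, smul_zero, if_neg]
        rintro ⟨h1, h2⟩
        apply hins
        rw [h2, Finset.insert_erase h1]
  rw [Finset.sum_congr rfl h1]
  have h2 : ∑ j ∈ Finset.range r, g j = ∑ j ∈ I, g j := by
    symm
    apply Finset.sum_subset hIr
    intro j _ hjI
    show (if j ∈ I ∧ J = I.erase j then _ else 0) = 0
    rw [if_neg (fun h => hjI h.1)]
  rw [h2, ← Finset.sum_attach]
  apply Finset.sum_congr rfl
  intro j _
  show (if j.1 ∈ I ∧ J = I.erase j.1 then _ else 0) = if J = I.erase j.1 then _ else 0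
  by_cases hJ : J = I.erase j.1
  · rw [if_pos ⟨j.2, hJ⟩, if_pos hJ]
  · rw [if_neg (fun h => hJ h.2), if_neg hJ]

/-- the same for the graded pieces -/
theorem dR_incl (r q : ℕ) (I : Finset ℕ) (hI : I ∈ idx r (q + 1)) (t : N) :
    dR x r ((q + 1 : ℕ) : ℤ) (q : ℤ) (by push_cast; ring)
        (incl r ((q + 1 : ℕ) : ℤ) I (mem_idx.1 hI) t) =
      ∑ j ∈ I.attach, incl r (q : ℤ) (I.erase j.1) (mem_idx.1 (erase_mem_idx hI j.2))
        (Groth.Agent.Helper1.KzAlg.sgn j.1 (I.erase j.1) • x j.1 • t) := by
  apply Subtype.ext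
  rw [dR_coe, Submodule.coe_sum]
  exact d_incl x r q I hI t

end Groth.Agent.Helper6.PnKosA
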