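import Mathlib
import Groth.Agent.Helper1.KzMain
import Groth.Agent.Helper1.KzMult2
import Groth.Agent.Helper6.PnKosA

set_option autoImplicit false
set_option linter.style.haveILetI false
set_option linter.unusedSectionVars false
set_option linter.unusedVariables false
set_option linter.unusedSimpArgs false

/-!
# The Koszul differential of sheaves on the summands
-/

namespace Groth.Agent.Helper6.PnKosB

open CategoryTheory Limits AlgebraicGeometry TopologicalSpace Opposite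
open Groth.Agent.Helper1.GrT Groth.Agent.Helper1.TildeMap Groth.Agent.Helper1.TildeFun
  Groth.Agent.Helper1.KzAlg Groth.Agent.Helper1.KzSheaf Groth.Agent.Helper1.KzMain
  Groth.Agent.Helper1.KzMult

universe u

variable {R A : Type u} [CommRing R] [CommRing A] [Algebra R A] (𝒜 : ℕ → Submodule R A)
  [GradedAlgebra 𝒜]
variable {N : Type u} [AddCommGroup N] [Module R N] [Module A N] [IsScalarTower R A N]
  (𝒩 : ℕ → Submodule R N) [SetLike.GradedSMul 𝒜 𝒩]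
variable (x : ℕ → A) (hx : ∀ j, x j ∈ 𝒜 1) (r : ℕ)

/-- the coefficient `± x_j` -/
noncomputable def coef (j : ℕ) (J : Finset ℕ) : A := Groth.Agent.Helper1.KzAlg.sgn j J • x j

include hx in
theorem coef_mem (j : ℕ) (J : Finset ℕ) : coef x j J ∈ 𝒜 1 :=
  (𝒜 1).toAddSubgroup.zsmul_mem (hx j) _

theorem val_sum' {M : Type u} [AddCommGroup M] [Module R M] [Module A M]
    (ℳ : ℕ → Submodule R M) [SetLike.GradedSMul 𝒜 ℳ] {ι : Type*} (T : Finset ι) (n : ℤ)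
    (U : (Proj 𝒜).Opens) (u : ι → Γ(GrTilde.tilde 𝒜 ℳ n, U)) (y : ProjectiveSpectrum.top 𝒜)
    (hy : y ∈ U) :
    val (𝒜 := 𝒜) (ℳ := ℳ) (n := n) (U := U) (∑ i ∈ T, u i) y hy =
      ∑ i ∈ T, val (𝒜 := 𝒜) (ℳ := ℳ) (n := n) (U := U) (u i) y hy := by
  classical
  induction T using Finset.induction_on with
  | empty => rw [Finset.sum_empty, Finset.sum_empty]; rfl
  | insert a T ha ih =>
    rw [Finset.sum_insert ha, Finset.sum_insert ha, ← ih]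
    rfl

/-- **the Koszul differential on a summand** -/
theorem ds_inclC_app (s : ℤ) (q : ℕ) (I : idx r (q + 1)) (U : (Proj 𝒜).Opens)
    (t : Γ(GrTilde.tilde 𝒜 𝒩 (s - ((q + 1 : ℕ) : ℤ)), U)) :
    (ds 𝒜 𝒩 x hx r s q).app U ((inclC 𝒜 𝒩 r (q + 1) (s - ((q + 1 : ℕ) : ℤ)) I).app U t) =
      ∑ j ∈ I.1.attach,
        (inclC 𝒜 𝒩 r q (s - (q : ℤ)) ⟨I.1.erase j.1, PnKosA.erase_mem_idx I.2 j.2⟩).app U
          ((mulA 𝒜 𝒩 1 (coef x j.1 (I.1.erase j.1)) (coef_mem 𝒜 x hx _ _)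
            (s - ((q + 1 : ℕ) : ℤ)) (s - (q : ℤ)) (by push_cast; ring)).app U t) := by
  apply sect_ext' (𝒜 := 𝒜) (ℳ := gr (A := A) 𝒩 r (q : ℤ))
  intro y hy
  refine Eq.trans ?_ (val_sum' 𝒜 (gr (A := A) 𝒩 r (q : ℤ)) I.1.attach (s - (q : ℤ)) U
    (fun j => (inclC 𝒜 𝒩 r q (s - (q : ℤ)) ⟨I.1.erase j.1, PnKosA.erase_mem_idx I.2 j.2⟩).app U
          ((mulA 𝒜 𝒩 1 (coef x j.1 (I.1.erase j.1)) (coef_mem 𝒜 x hx _ _)
            (s - ((q + 1 : ℕ) : ℤ)) (s - (q : ℤ)) (by push_cast; ring)).app U t)) y hy).symm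
  -- the left hand side
  have hL : val (𝒜 := 𝒜) (ℳ := gr (A := A) 𝒩 r (q : ℤ)) (n := s - (q : ℤ)) (U := U)
      ((ds 𝒜 𝒩 x hx r s q).app U
        ((inclC 𝒜 𝒩 r (q + 1) (s - ((q + 1 : ℕ) : ℤ)) I).app U t)) y hy =
      locMap 𝒜 (dR x r ((q + 1 : ℕ) : ℤ) (q : ℤ) (by push_cast; ring) ∘ₗ
        incl r ((q + 1 : ℕ) : ℤ) I.1 (mem_idx.1 I.2)) y
        (val (𝒜 := 𝒜) (ℳ := 𝒩) (n := s - ((q + 1 : ℕ) : ℤ)) (U := U) t y hy) := by
    rw [locMap_comp]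
    rfl
  have hR : ∀ j ∈ I.1.attach,
      val (𝒜 := 𝒜) (ℳ := gr (A := A) 𝒩 r (q : ℤ)) (n := s - (q : ℤ)) (U := U)
        ((inclC 𝒜 𝒩 r q (s - (q : ℤ)) ⟨I.1.erase j.1, PnKosA.erase_mem_idx I.2 j.2⟩).app U
          ((mulA 𝒜 𝒩 1 (coef x j.1 (I.1.erase j.1)) (coef_mem 𝒜 x hx _ _)
            (s - ((q + 1 : ℕ) : ℤ)) (s - (q : ℤ)) (by push_cast; ring)).app U t)) y hy =
      locMap 𝒜 (incl r (q : ℤ) (I.1.erase j.1) (mem_idx.1 (PnKosA.erase_mem_idx I.2 j.2)) ∘ₗ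
        (coef x j.1 (I.1.erase j.1) • (LinearMap.id : N →ₗ[A] N))) y
        (val (𝒜 := 𝒜) (ℳ := 𝒩) (n := s - ((q + 1 : ℕ) : ℤ)) (U := U) t y hy) := by
    intro j _
    rw [locMap_comp]
    rfl
  rw [hL, Finset.sum_congr rfl hR]
  -- the identity of linear maps
  have hlin : dR x r ((q + 1 : ℕ) : ℤ) (q : ℤ) (by push_cast; ring) ∘ₗ
        incl r ((q + 1 : ℕ) : ℤ) I.1 (mem_idx.1 I.2) =
      ∑ j ∈ I.1.attach,
        (incl r (q : ℤ) (I.1.erase j.1) (mem_idx.1 (PnKosA.erase_mem_idx I.2 j.2)) ∘ₗ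
          (coef x j.1 (I.1.erase j.1) • (LinearMap.id : N →ₗ[A] N))) := by
    ext m : 1
    rw [LinearMap.comp_apply, PnKosA.dR_incl x r q I.1 I.2 m, LinearMap.sum_apply]
    apply Finset.sum_congr rfl
    intro j _
    rw [LinearMap.comp_apply, LinearMap.smul_apply, LinearMap.id_apply]
    congr 1
    unfold coef
    rw [smul_assoc]
  rw [hlin]
  unfold locMap
  rw [map_sum, LinearMap.sum_apply]

end Groth.Agent.Helper6.PnKosB
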