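import Mathlib
import Groth.Prelude.Def_GrMod2
import Groth.Prelude.Def_ExtPow2
import Groth.Agent.Helper1.TwistMul4
import Groth.Agent.Helper1.KzMain
import Groth.Agent.Helper1.KzMult2
import Groth.Agent.Helper6.PnExtC
import Groth.Agent.Helper6.PnKosB

set_option autoImplicit false
set_option linter.style.haveILetI false
set_option linter.unusedSectionVars false
set_option linter.unusedVariables false
set_option linter.unusedSimpArgs false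

/-!
# Local frames of `A(-q)~` on `Proj`, and bases of the terms of the Koszul complex of sheaves
-/

namespace Groth.Agent.Helper6.PnFrameB

open CategoryTheory AlgebraicGeometry Opposite TopologicalSpace
open Groth.Agent.Helper1.GrT Groth.Agent.Helper1.TwistMul Groth.Agent.Helper1.ProjO
  Groth.Agent.Helper1.TildeMap Groth.Agent.Helper1.TildeFun
  Groth.Agent.Helper1.KzAlg Groth.Agent.Helper1.KzSheaf Groth.Agent.Helper1.KzMain
  Groth.Agent.Helper1.KzMult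

universe u

variable {R A : Type u} [CommRing R] [CommRing A] [Algebra R A] (𝒜 : ℕ → Submodule R A)
  [GradedAlgebra 𝒜]

section frame

variable (W : (Proj 𝒜).Opens) (f : A) (hf : f ∈ 𝒜 1)
  (hW : ∀ y : ProjectiveSpectrum.top 𝒜, y ∈ W → f ∉ y.asHomogeneousIdeal)

include hW in
theorem pow_notMem (q : ℕ) (y : ProjectiveSpectrum.top 𝒜) (hy : y ∈ W) :
    f ^ q ∉ y.asHomogeneousIdeal :=
  fun h => hW y hy (y.isPrime.mem_of_pow_mem q h)

theorem one_notMem' (y : ProjectiveSpectrum.top 𝒜) : (1 : A) ∉ y.asHomogeneousIdeal :=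
  fun h => y.isPrime.ne_top ((Ideal.eq_top_iff_one _).mpr h)

/-- the invertible section `1 / f ^ q` of `A(-q)~` -/
noncomputable def pairN (a : ℤ) (q : ℕ) (haq : a + q = 0) : InvPair 𝒜 a W :=
  InvPair.ofFrac 𝒜 a W (i := 0) (j := q • 1) 1 (f ^ q) SetLike.GradedOne.one_mem
    (SetLike.pow_mem_graded q hf) (by simp only [smul_eq_mul, mul_one]; push_cast; omega)
    (fun y _ => one_notMem' 𝒜 y) (pow_notMem 𝒜 W f hW q)

theorem val_pairN (a : ℤ) (q : ℕ) (haq : a + q = 0) (y : ProjectiveSpectrum.top 𝒜) (hy : y ∈ W) :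
    toLoc 𝒜 y (val (𝒜 := 𝒜) (ℳ := 𝒜) (n := a) (U := W) (pairN 𝒜 W f hf hW a q haq).eΓ y hy) =
      mkO y 1 (f ^ q) (pow_notMem 𝒜 W f hW q y hy) := rfl

/-- multiplication by a degree one element on the frames -/
theorem mulA_pairN (c : A) (hc : c ∈ 𝒜 1) (a a' : ℤ) (q : ℕ) (haq : a + (q + 1 : ℕ) = 0)
    (ha' : a' = a + (1 : ℕ)) :
    (mulA 𝒜 𝒜 1 c hc a a' ha').app W (pairN 𝒜 W f hf hW a (q + 1) haq).eΓ =
      (frO 𝒜 W c f hc hf hW) • (pairN 𝒜 W f hf hW a' q (by rw [ha']; push_cast at haq ⊢; omega)).eΓ := by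
  apply sect_ext' (𝒜 := 𝒜) (ℳ := 𝒜)
  intro y hy
  refine (val_mulA 𝒜 𝒜 1 c hc a a' ha' W _ y hy).trans ?_
  refine Eq.trans ?_ (val_smul 𝒜 𝒜 a' W _ _ y hy).symm
  rw [evO_frO]
  show c • (LocalizedModule.mk (1 : A) ⟨f ^ (q + 1), _⟩ : GrTilde.LocMod 𝒜 (M := A) y) =
    (Localization.mk c ⟨f, _⟩ : Twist.Loc 𝒜 y) •
      (LocalizedModule.mk (1 : A) ⟨f ^ q, _⟩ : GrTilde.LocMod 𝒜 (M := A) y)
  rw [LocalizedModule.mk_smul_mk, LocalizedModule.smul'_mk]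
  congr 1
  apply Subtype.ext
  show f ^ (q + 1) = f * f ^ q
  rw [pow_succ']

end frame

/-- the transition between the frames -/
theorem res_pairN {W W' : (Proj 𝒜).Opens} (h : W' ≤ W) (f f' : A) (hf : f ∈ 𝒜 1) (hf' : f' ∈ 𝒜 1)
    (hW : ∀ y : ProjectiveSpectrum.top 𝒜, y ∈ W → f ∉ y.asHomogeneousIdeal)
    (hW' : ∀ y : ProjectiveSpectrum.top 𝒜, y ∈ W' → f' ∉ y.asHomogeneousIdeal)
    (a : ℤ) (q : ℕ) (haq : a + q = 0) :
    (GrTilde.tilde 𝒜 𝒜 a).val.map (homOfLE h).op (pairN 𝒜 W f hf hW a q haq).eΓ =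
      (frO 𝒜 W' f' f hf' hf (fun y hy => hW y (h hy))) ^ q •
        (pairN 𝒜 W' f' hf' hW' a q haq).eΓ := by
  apply sect_ext' (𝒜 := 𝒜) (ℳ := 𝒜)
  intro y hy
  refine Eq.trans ?_ (val_pow_smul 𝒜 𝒜 a W' _ q _ y hy).symm
  rw [evO_frO]
  show (LocalizedModule.mk (1 : A) ⟨f ^ q, _⟩ : GrTilde.LocMod 𝒜 (M := A) y) =
    (Localization.mk f' ⟨f, _⟩ : Twist.Loc 𝒜 y) ^ q •
      (LocalizedModule.mk (1 : A) ⟨f' ^ q, _⟩ : GrTilde.LocMod 𝒜 (M := A) y)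
  rw [Localization.mk_pow, LocalizedModule.mk_smul_mk, LocalizedModule.mk_eq]
  refine ⟨1, ?_⟩
  simp only [one_smul, Submonoid.smul_def, smul_eq_mul, mul_one, Submonoid.coe_mul,
    SubmonoidClass.coe_pow]

section basis

variable {X : Scheme.{u}}

theorem appLin_sum {M N : X.Modules} {ι : Type*} (T : Finset ι) (φ : ι → (M ⟶ N)) (U : X.Opens) :
    PnExtB.appLin (∑ i ∈ T, φ i) U = ∑ i ∈ T, PnExtB.appLin (φ i) U := by
  classical
  induction T using Finset.induction_on with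
  | empty => rw [Finset.sum_empty, Finset.sum_empty]; rfl
  | insert a T ha ih =>
    rw [Finset.sum_insert ha, Finset.sum_insert ha, ← ih]
    rfl

variable {N : Type u} [AddCommGroup N] [Module R N] [Module A N] [IsScalarTower R A N]
  (𝒩 : ℕ → Submodule R N) [SetLike.GradedSMul 𝒜 𝒩] (r : ℕ)

theorem projC_inclC_app (p : ℕ) (a : ℤ) (I J : idx r p) (U : (Proj 𝒜).Opens)
    (t : (GrTilde.tilde 𝒜 𝒩 a).val.obj (op U)) :
    PnExtB.appLin (projC 𝒜 𝒩 r p a J) U (PnExtB.appLin (inclC 𝒜 𝒩 r p a I) U t) =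
      if I = J then t else 0 := by
  have h := inclC_projC 𝒜 𝒩 r p a I J
  have h2 := congrArg (fun φ => PnExtB.appLin φ U t) h
  simp only [PnExtB.appLin_comp, LinearMap.comp_apply] at h2
  rw [h2]
  split_ifs
  · rfl
  · rfl

theorem sum_inclC_projC_app (p : ℕ) (a : ℤ) (U : (Proj 𝒜).Opens)
    (s : (C 𝒜 𝒩 r (p : ℤ) a).val.obj (op U)) :
    ∑ I ∈ (idx r p).attach,
      PnExtB.appLin (inclC 𝒜 𝒩 r p a I) U (PnExtB.appLin (projC 𝒜 𝒩 r p a I) U s) = s := by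
  have h := sum_projC_inclC 𝒜 𝒩 r p a
  have h2 := congrArg (fun φ => PnExtB.appLin φ U s) h
  simp only [appLin_sum, LinearMap.sum_apply, PnExtB.appLin_comp, LinearMap.comp_apply,
    PnExtB.appLin_id, LinearMap.id_apply] at h2
  exact h2

variable {W : (Proj 𝒜).Opens} {a : ℤ} (P : InvPair 𝒜 a W) (p : ℕ)

/-- the invertible section as an element of the module of sections -/
noncomputable def eS : (GrTilde.tilde 𝒜 𝒜 a).val.obj (op W) := P.eΓ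

theorem smul_eS_injective (c : Γ(Proj 𝒜, W)) (h : c • eS 𝒜 P = 0) : c = 0 := by
  apply P.smul_bijective.1
  show c • P.eΓ = (0 : Γ(Proj 𝒜, W)) • P.eΓ
  rw [zero_smul]
  exact h

theorem exists_smul_eS (t : (GrTilde.tilde 𝒜 𝒜 a).val.obj (op W)) :
    ∃ c : Γ(Proj 𝒜, W), t = c • eS 𝒜 P := by
  obtain ⟨c, hc⟩ := P.smul_bijective.2 t
  exact ⟨c, hc.symm⟩

/-- the frame of a Koszul term given by an invertible section -/
noncomputable def famC (I : idx r p) : (C 𝒜 𝒜 r (p : ℤ) a).val.obj (op W) :=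
  PnExtB.appLin (inclC 𝒜 𝒜 r p a I) W (eS 𝒜 P)

theorem projC_famC (I J : idx r p) :
    PnExtB.appLin (projC 𝒜 𝒜 r p a J) W (famC 𝒜 r P p I) = if I = J then eS 𝒜 P else 0 :=
  projC_inclC_app 𝒜 𝒜 r p a I J W (eS 𝒜 P)

theorem famC_li : LinearIndependent Γ(Proj 𝒜, W) (famC 𝒜 r P p) := by
  classical
  rw [Fintype.linearIndependent_iff]
  intro g hg J
  have h1 := congrArg (PnExtB.appLin (projC 𝒜 𝒜 r p a J) W) hg
  rw [map_sum, map_zero] at h1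
  have h2 : ∀ I : idx r p, PnExtB.appLin (projC 𝒜 𝒜 r p a J) W (g I • famC 𝒜 r P p I) =
      if I = J then g J • eS 𝒜 P else 0 := by
    intro I
    have e1 := (PnExtB.appLin (projC 𝒜 𝒜 r p a J) W).map_smul (g I) (famC 𝒜 r P p I)
    have e2 := projC_famC 𝒜 r P p I J
    by_cases h : I = J
    · subst h
      rw [if_pos rfl] at e2 ⊢
      exact e1.trans (congrArg (fun t => g I • t) e2)
    · rw [if_neg h] at e2 ⊢
      exact e1.trans ((congrArg (fun t => g I • t) e2).trans (smul_zero _))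
  have h3 : ∑ I : idx r p, PnExtB.appLin (projC 𝒜 𝒜 r p a J) W (g I • famC 𝒜 r P p I) =
      g J • eS 𝒜 P := by
    refine (Finset.sum_eq_single J (fun I _ hI => ?_)
      (fun h => absurd (Finset.mem_univ J) h)).trans ?_
    · exact (h2 I).trans (if_neg hI)
    · exact (h2 J).trans (if_pos rfl)
  exact smul_eS_injective 𝒜 P _ (h3.symm.trans h1)

theorem famC_span : ⊤ ≤ Submodule.span Γ(Proj 𝒜, W) (Set.range (famC 𝒜 r P p)) := by
  intro s _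
  rw [← sum_inclC_projC_app 𝒜 𝒜 r p a W s]
  apply Submodule.sum_mem
  intro I _
  obtain ⟨c, hc⟩ := exists_smul_eS 𝒜 P (PnExtB.appLin (projC 𝒜 𝒜 r p a I) W s)
  rw [hc]
  have e1 := (PnExtB.appLin (inclC 𝒜 𝒜 r p a I) W).map_smul c (eS 𝒜 P)
  rw [e1]
  exact Submodule.smul_mem _ _ (Submodule.subset_span ⟨I, rfl⟩)

/-- the basis of a Koszul term given by an invertible section -/
noncomputable def basisC : Module.Basis (idx r p) Γ(Proj 𝒜, W)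
    ((C 𝒜 𝒜 r (p : ℤ) a).val.obj (op W)) :=
  Module.Basis.mk (famC_li 𝒜 r P p) (famC_span 𝒜 r P p)

theorem basisC_apply (I : idx r p) : basisC 𝒜 r P p I = famC 𝒜 r P p I := by
  unfold basisC
  rw [Module.Basis.mk_apply]

end basis

section more

variable (r : ℕ)

theorem res_famC {W W' : (Proj 𝒜).Opens} (h : W' ≤ W) {a : ℤ} (P : InvPair 𝒜 a W)
    (P' : InvPair 𝒜 a W') (u : Γ(Proj 𝒜, W'))
    (hu : (GrTilde.tilde 𝒜 𝒜 a).val.map (homOfLE h).op (eS 𝒜 P) = u • eS 𝒜 P') (p : ℕ)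
    (I : idx r p) :
    (C 𝒜 𝒜 r (p : ℤ) a).val.map (homOfLE h).op (famC 𝒜 r P p I) = u • famC 𝒜 r P' p I := by
  unfold famC
  rw [PnExtB.appLin_res, hu]
  exact (PnExtB.appLin (inclC 𝒜 𝒜 r p a I) W').map_smul u (eS 𝒜 P')

theorem res_eS_pairN {W W' : (Proj 𝒜).Opens} (h : W' ≤ W) (f f' : A) (hf : f ∈ 𝒜 1)
    (hf' : f' ∈ 𝒜 1)
    (hW : ∀ y : ProjectiveSpectrum.top 𝒜, y ∈ W → f ∉ y.asHomogeneousIdeal)
    (hW' : ∀ y : ProjectiveSpectrum.top 𝒜, y ∈ W' → f' ∉ y.asHomogeneousIdeal)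
    (a : ℤ) (q : ℕ) (haq : a + q = 0) :
    (GrTilde.tilde 𝒜 𝒜 a).val.map (homOfLE h).op (eS 𝒜 (pairN 𝒜 W f hf hW a q haq)) =
      (frO 𝒜 W' f' f hf' hf (fun y hy => hW y (h hy))) ^ q •
        eS 𝒜 (pairN 𝒜 W' f' hf' hW' a q haq) :=
  res_pairN 𝒜 h f f' hf hf' hW hW' a q haq

theorem mulA_eS_pairN (W : (Proj 𝒜).Opens) (f : A) (hf : f ∈ 𝒜 1)
    (hW : ∀ y : ProjectiveSpectrum.top 𝒜, y ∈ W → f ∉ y.asHomogeneousIdeal)
    (c : A) (hc : c ∈ 𝒜 1) (a a' : ℤ) (q : ℕ) (haq : a + (q + 1 : ℕ) = 0)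
    (ha' : a' = a + (1 : ℕ)) (haq' : a' + q = 0) :
    PnExtB.appLin (mulA 𝒜 𝒜 1 c hc a a' ha') W (eS 𝒜 (pairN 𝒜 W f hf hW a (q + 1) haq)) =
      (frO 𝒜 W c f hc hf hW) • eS 𝒜 (pairN 𝒜 W f hf hW a' q haq') :=
  mulA_pairN 𝒜 W f hf hW c hc a a' q haq ha'

theorem frO_zsmul (W : (Proj 𝒜).Opens) {i : ℕ} (z : ℤ) (c b : A) (hc : c ∈ 𝒜 i) (hb : b ∈ 𝒜 i)
    (hW : ∀ y : ProjectiveSpectrum.top 𝒜, y ∈ W → b ∉ y.asHomogeneousIdeal) :
    frO 𝒜 W (z • c) b ((𝒜 i).toAddSubgroup.zsmul_mem hc z) hb hW =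
      (z : Γ(Proj 𝒜, W)) * frO 𝒜 W c b hc hb hW := by
  apply O_ext
  intro y hy
  rw [evO_val_mul, evO_frO, evO_frO, map_intCast, HomogeneousLocalization.val_intCast]
  unfold mkO
  rw [← Localization.mk_intCast, Localization.mk_mul, one_mul, zsmul_eq_mul]

theorem inclC_mulA_eS (W : (Proj 𝒜).Opens) (f : A) (hf : f ∈ 𝒜 1)
    (hW : ∀ y : ProjectiveSpectrum.top 𝒜, y ∈ W → f ∉ y.asHomogeneousIdeal)
    (c : A) (hc : c ∈ 𝒜 1) (a a' : ℤ) (q : ℕ) (haq : a + (q + 1 : ℕ) = 0)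
    (ha' : a' = a + (1 : ℕ)) (haq' : a' + q = 0) (J : idx r q) :
    PnExtB.appLin (inclC 𝒜 𝒜 r q a' J) W (PnExtB.appLin (mulA 𝒜 𝒜 1 c hc a a' ha') W
        (eS 𝒜 (pairN 𝒜 W f hf hW a (q + 1) haq))) =
      (frO 𝒜 W c f hc hf hW) • famC 𝒜 r (pairN 𝒜 W f hf hW a' q haq') q J := by
  rw [mulA_eS_pairN 𝒜 W f hf hW c hc a a' q haq ha' haq']
  exact (PnExtB.appLin (inclC 𝒜 𝒜 r q a' J) W).map_smul _ _

end more

end Groth.Agent.Helper6.PnFrameB
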