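import Mathlib
import Groth.Agent.Helper1.KzDeg

set_option autoImplicit false
set_option linter.style.haveILetI false
set_option linter.unusedSectionVars false
set_option linter.unusedVariables false
set_option linter.unusedSimpArgs false

/-!
# Index bookkeeping: subsets of `Fin r` versus subsets of `ℕ`, faces of ordered embeddings
-/

namespace Groth.Agent.Helper6.PnIdx

open Groth.Agent.Helper1.KzAlg Finset Set.powersetCard

variable {r p : ℕ}

/-- the subset of `ℕ` corresponding to a finite subset of `Fin r` -/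
def toNat (s : Finset (Fin r)) : Finset ℕ := s.map Fin.valEmbedding

theorem mem_toNat {s : Finset (Fin r)} {m : ℕ} : m ∈ toNat s ↔ ∃ k ∈ s, (k : ℕ) = m := by
  unfold toNat
  rw [mem_map]
  rfl

theorem toNat_mem_idx (s : Set.powersetCard (Fin r) p) : toNat s.1 ∈ idx r p := by
  rw [mem_idx]
  refine ⟨?_, ?_⟩
  · intro m hm
    obtain ⟨k, _, rfl⟩ := mem_toNat.1 hm
    exact mem_range.2 k.2
  · unfold toNat
    rw [card_map]
    exact_mod_cast s.2

variable (r p) in
/-- subsets of `Fin r` of cardinality `p` are the indices of the Koszul complex -/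
def idxEquiv : Set.powersetCard (Fin r) p ≃ idx r p where
  toFun s := ⟨toNat s.1, toNat_mem_idx s⟩
  invFun I := ⟨I.1.attachFin (fun m hm => mem_range.1 ((mem_idx.1 I.2).1 hm)), by
    have h := (mem_idx.1 I.2).2
    show (I.1.attachFin _).card = p
    rw [card_attachFin]
    exact_mod_cast h⟩
  left_inv s := by
    apply Subtype.ext
    ext k
    show k ∈ (toNat s.1).attachFin _ ↔ k ∈ s.1
    rw [mem_attachFin, mem_toNat]
    constructor
    · rintro ⟨k', hk', h⟩
      rwa [← Fin.ext h]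
    · intro h
      exact ⟨k, h, rfl⟩
  right_inv I := by
    apply Subtype.ext
    ext m
    show m ∈ toNat (I.1.attachFin _) ↔ m ∈ I.1
    rw [mem_toNat]
    constructor
    · rintro ⟨k, hk, rfl⟩
      exact (mem_attachFin _).1 hk
    · intro h
      exact ⟨⟨m, mem_range.1 ((mem_idx.1 I.2).1 h)⟩, (mem_attachFin _).2 h, rfl⟩

theorem idxEquiv_coe (s : Set.powersetCard (Fin r) p) : (idxEquiv r p s).1 = toNat s.1 := rfl

theorem singleton_mem_idx (k : Fin r) : ({(k : ℕ)} : Finset ℕ) ∈ idx r 1 := by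
  rw [mem_idx]
  refine ⟨?_, by simp⟩
  intro m hm
  rw [mem_singleton] at hm
  rw [hm]
  exact mem_range.2 k.2

variable (r) in
/-- `Fin r` is the index set of the first Koszul term -/
noncomputable def finEquiv : Fin r ≃ idx r 1 :=
  Equiv.ofBijective (fun k => ⟨{(k : ℕ)}, singleton_mem_idx k⟩) (by
    constructor
    · intro k k' h
      have h1 : ({(k : ℕ)} : Finset ℕ) = {(k' : ℕ)} := congrArg Subtype.val h
      exact Fin.ext (singleton_injective h1)
    · rintro ⟨I, hI⟩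
      obtain ⟨h1, h2⟩ := mem_idx.1 hI
      have h3 : I.card = 1 := by exact_mod_cast h2
      obtain ⟨m, rfl⟩ := card_eq_one.1 h3
      have hm : m < r := mem_range.1 (h1 (mem_singleton_self m))
      exact ⟨⟨m, hm⟩, rfl⟩)

theorem finEquiv_coe (k : Fin r) : (finEquiv r k).1 = {(k : ℕ)} := rfl

/-- the subset of `ℕ` enumerated by an ordered embedding -/
def idxOf (o : Fin p ↪o Fin r) : Finset ℕ := toNat (ofFinEmbEquiv o).1

theorem mem_idxOf {o : Fin p ↪o Fin r} {m : ℕ} : m ∈ idxOf o ↔ ∃ a, ((o a : Fin r) : ℕ) = m := by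
  unfold idxOf
  rw [mem_toNat]
  constructor
  · rintro ⟨k, hk, rfl⟩
    have hk' : k ∈ ofFinEmbEquiv o := hk
    rw [mem_ofFinEmbEquiv_iff_mem_range] at hk'
    obtain ⟨a, rfl⟩ := hk'
    exact ⟨a, rfl⟩
  · rintro ⟨a, rfl⟩
    refine ⟨o a, ?_, rfl⟩
    show o a ∈ ofFinEmbEquiv o
    rw [mem_ofFinEmbEquiv_iff_mem_range]
    exact ⟨a, rfl⟩

theorem idxOf_mem (o : Fin p ↪o Fin r) : idxOf o ∈ idx r p := toNat_mem_idx _

theorem idxEquiv_ofFinEmbEquiv (o : Fin p ↪o Fin r) :
    idxEquiv r p (ofFinEmbEquiv o) = ⟨idxOf o, idxOf_mem o⟩ := rfl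

theorem apply_mem_idxOf (o : Fin p ↪o Fin r) (a : Fin p) : ((o a : Fin r) : ℕ) ∈ idxOf o :=
  mem_idxOf.2 ⟨a, rfl⟩

/-- the faces of an ordered embedding -/
def face {q : ℕ} (o : Fin (q + 1) ↪o Fin r) (a : Fin (q + 1)) : Fin q ↪o Fin r :=
  (Fin.succAboveOrderEmb a).trans o

theorem face_apply {q : ℕ} (o : Fin (q + 1) ↪o Fin r) (a : Fin (q + 1)) (c : Fin q) :
    face o a c = o (a.succAbove c) := rfl

theorem erase_idxOf {q : ℕ} (o : Fin (q + 1) ↪o Fin r) (a : Fin (q + 1)) :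
    (idxOf o).erase ((o a : Fin r) : ℕ) = idxOf (face o a) := by
  ext m
  rw [mem_erase, mem_idxOf, mem_idxOf]
  constructor
  · rintro ⟨hne, b, rfl⟩
    have hba : b ≠ a := by
      rintro rfl
      exact hne rfl
    obtain ⟨c, rfl⟩ := Fin.exists_succAbove_eq hba
    exact ⟨c, rfl⟩
  · rintro ⟨c, rfl⟩
    refine ⟨?_, a.succAbove c, rfl⟩
    rw [face_apply]
    intro h
    have h1 : o (a.succAbove c) = o a := Fin.ext h
    exact Fin.succAbove_ne a c (o.injective h1)

theorem sgn_idxOf {q : ℕ} (o : Fin (q + 1) ↪o Fin r) (a : Fin (q + 1)) :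
    sgn ((o a : Fin r) : ℕ) (idxOf (face o a)) = (-1) ^ (a : ℕ) := by
  unfold sgn
  congr 1
  rw [← erase_idxOf]
  have h1 : ((idxOf o).erase ((o a : Fin r) : ℕ)).filter (· < ((o a : Fin r) : ℕ)) =
      (Finset.Iio a).map ⟨fun b => ((o b : Fin r) : ℕ), fun b b' h =>
        o.injective (Fin.ext h)⟩ := by
    ext m
    rw [mem_filter, mem_erase, mem_idxOf, mem_map]
    constructor
    · rintro ⟨⟨_, b, rfl⟩, hlt⟩
      refine ⟨b, ?_, rfl⟩
      rw [mem_Iio]
      have : o b < o a := hlt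
      exact o.lt_iff_lt.1 this
    · rintro ⟨b, hb, rfl⟩
      rw [mem_Iio] at hb
      have h2 : o b < o a := o.lt_iff_lt.2 hb
      exact ⟨⟨fun h => absurd (Fin.ext h) (ne_of_lt h2), b, rfl⟩, h2⟩
  rw [h1, card_map, Fin.card_Iio]

/-- reindexing a sum over the elements of `idxOf o` -/
theorem sum_attach_idxOf {M : Type*} [AddCommMonoid M] (o : Fin p ↪o Fin r)
    (F : {m // m ∈ idxOf o} → M) :
    ∑ m ∈ (idxOf o).attach, F m = ∑ a : Fin p, F ⟨((o a : Fin r) : ℕ), apply_mem_idxOf o a⟩ := by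
  symm
  apply Finset.sum_bij (fun a _ => (⟨((o a : Fin r) : ℕ), apply_mem_idxOf o a⟩ : {m // m ∈ idxOf o}))
  · intro a _
    exact mem_attach _ _
  · intro a _ b _ h
    have h1 : ((o a : Fin r) : ℕ) = ((o b : Fin r) : ℕ) := congrArg Subtype.val h
    exact o.injective (Fin.ext h1)
  · rintro ⟨m, hm⟩ _
    obtain ⟨a, rfl⟩ := mem_idxOf.1 hm
    exact ⟨a, mem_univ _, rfl⟩
  · intro a _
    rfl

end Groth.Agent.Helper6.PnIdx
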