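import Mathlib
import Groth.Agent.Helper6.PnFrameA
import Groth.Agent.Helper6.PnFrameB
import Groth.Agent.Helper6.PnExtE
import Groth.Agent.Helper6.PnIdx

set_option autoImplicit false
set_option linter.style.haveILetI false
set_option linter.unusedSectionVars false
set_option linter.unusedVariables false
set_option linter.unusedSimpArgs false

/-!
# The Koszul terms on projective space are exterior powers of the first one (on the basis of opens)
-/

namespace Groth.Agent.Helper6.PnFrameC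

open CategoryTheory AlgebraicGeometry Opposite TopologicalSpace MvPolynomial
open Groth.Agent.Helper1.GrT Groth.Agent.Helper1.TwistMul Groth.Agent.Helper1.ProjO
  Groth.Agent.Helper1.KzAlg Groth.Agent.Helper1.KzSheaf Groth.Agent.Helper1.KzMain
  Groth.Agent.Helper1.KzMult
open PnFrame PnFrameB PnIdx PnExtB
open exteriorPower Set.powersetCard

universe u

variable (n : ℕ) (A : Type u) [CommRing A]

local notation "𝒢" => CohB1.polyGrading n A

/-- the Koszul terms `M_p = O(-p)^{(n+1 choose p)}` -/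
noncomputable abbrev M (p : ℕ) : (Proj 𝒢).Modules := Cs 𝒢 𝒢 (n + 1) 0 p

/-- the Koszul differentials -/
noncomputable abbrev dM (p : ℕ) : M n A (p + 1) ⟶ M n A p :=
  ds 𝒢 𝒢 (Groth.Agent.Helper1.KzPn.xs n A) (Groth.Agent.Helper1.KzPn.xs_mem n A) (n + 1) 0 p

variable {n A}

/-- the frame of `O(-p)` on the chart `j` -/
noncomputable def P (p : ℕ) (j : Idx n A) : InvPair 𝒢 ((0 : ℤ) - (p : ℤ)) (B n A j) :=
  pairN 𝒢 (B n A j) (X j.i) (X_mem j.i) (X_notMem j) (0 - p) p (by ring)

/-- the basis of `M_p` on the chart `j` -/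
noncomputable def bM (p : ℕ) (j : Idx n A) :
    Module.Basis (Set.powersetCard (Fin (n + 1)) p) Γ(Proj 𝒢, B n A j)
      ((M n A p).val.obj (op (B n A j))) :=
  (basisC 𝒢 (n + 1) (P p j) p).reindex (idxEquiv (n + 1) p).symm

theorem bM_apply (p : ℕ) (j : Idx n A) (s : Set.powersetCard (Fin (n + 1)) p) :
    bM p j s = famC 𝒢 (n + 1) (P p j) p (idxEquiv (n + 1) p s) := by
  unfold bM
  rw [Module.Basis.reindex_apply, Equiv.symm_symm, basisC_apply]

/-- the basis of `M_1` on the chart `j` -/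
noncomputable def bE (j : Idx n A) :
    Module.Basis (Fin (n + 1)) Γ(Proj 𝒢, B n A j) ((M n A 1).val.obj (op (B n A j))) :=
  (basisC 𝒢 (n + 1) (P 1 j) 1).reindex (finEquiv (n + 1)).symm

theorem bE_apply (j : Idx n A) (k : Fin (n + 1)) :
    bE j k = famC 𝒢 (n + 1) (P 1 j) 1 (finEquiv (n + 1) k) := by
  unfold bE
  rw [Module.Basis.reindex_apply, Equiv.symm_symm, basisC_apply]

/-- the identification `M_p(W) ≃ ⋀^p M_1(W)` on the chart `j` -/
noncomputable def phi (p : ℕ) (j : Idx n A) :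
    ((M n A p).val.obj (op (B n A j))) ≃ₗ[Γ(Proj 𝒢, B n A j)]
      ↥(⋀[Γ(Proj 𝒢, B n A j)]^p ((M n A 1).val.obj (op (B n A j)))) :=
  (bM p j).equiv ((bE j).exteriorPower p) (Equiv.refl _)

theorem phi_bM (p : ℕ) (j : Idx n A) (s : Set.powersetCard (Fin (n + 1)) p) :
    phi p j (bM p j s) = ιMulti _ p (fun a => bE j (ofFinEmbEquiv.symm s a)) := by
  unfold phi
  rw [Module.Basis.equiv_apply, Equiv.refl_apply, exteriorPower.basis_apply]
  rfl

theorem phi_symm (p : ℕ) (j : Idx n A) (s : Set.powersetCard (Fin (n + 1)) p) :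
    (phi p j).symm (ιMulti _ p (fun a => bE j (ofFinEmbEquiv.symm s a))) = bM p j s := by
  rw [← phi_bM, LinearEquiv.symm_apply_apply]

/-- the transition unit `x_{i'} / x_i` -/
noncomputable def trans {i j : Idx n A} (h : B n A j ≤ B n A i) : Γ(Proj 𝒢, B n A j) :=
  frO 𝒢 (B n A j) (X j.i) (X i.i) (X_mem _) (X_mem _) (fun y hy => X_notMem i y (h hy))

theorem res_eS (p : ℕ) {i j : Idx n A} (h : B n A j ≤ B n A i) :
    (GrTilde.tilde 𝒢 𝒢 ((0 : ℤ) - (p : ℤ))).val.map (homOfLE h).op (eS 𝒢 (P p i)) =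
      (trans h) ^ p • eS 𝒢 (P p j) :=
  res_eS_pairN 𝒢 h (X i.i) (X j.i) (X_mem _) (X_mem _) (X_notMem i) (X_notMem j) _ p _

theorem res_bM (p : ℕ) {i j : Idx n A} (h : B n A j ≤ B n A i)
    (s : Set.powersetCard (Fin (n + 1)) p) :
    (M n A p).val.map (homOfLE h).op (bM p i s) = (trans h) ^ p • bM p j s := by
  rw [bM_apply, bM_apply]
  exact res_famC 𝒢 (n + 1) h (P p i) (P p j) ((trans h) ^ p) (res_eS p h) p _

theorem res_bE {i j : Idx n A} (h : B n A j ≤ B n A i) (k : Fin (n + 1)) :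
    (M n A 1).val.map (homOfLE h).op (bE i k) = (trans h) • bE j k := by
  rw [bE_apply, bE_apply]
  have h1 := res_eS 1 h
  rw [pow_one] at h1
  exact res_famC 𝒢 (n + 1) h (P 1 i) (P 1 j) (trans h) h1 1 _

/-- **the Koszul terms are the exterior powers of the first one, on the basis of opens** -/
theorem phi_compat (p : ℕ) (i j : Idx n A) (h : B n A j ≤ B n A i)
    (e : Fin p → (M n A 1).val.obj (op (B n A i))) :
    (M n A p).val.map (homOfLE h).op ((phi p i).symm (ιMulti _ p e)) =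
      (phi p j).symm (ιMulti _ p (fun a => (M n A 1).val.map (homOfLE h).op (e a))) := by
  refine compat_of_basis (E := M n A 1) (L := M n A p) h (phi p i) (phi p j) (bE i) ?_ e
  intro s
  rw [phi_symm, res_bM]
  have h1 : (fun a => (M n A 1).val.map (homOfLE h).op (bE i (ofFinEmbEquiv.symm s a))) =
      fun a => (trans h) • bE j (ofFinEmbEquiv.symm s a) := by
    funext a
    exact res_bE h _
  rw [h1, PnExtD.ιMulti_smul_const, map_smul, phi_symm]

theorem isExtPowOn_M (p : ℕ) : IsExtPowOn (B n A) p (M n A 1) (M n A p) :=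
  ⟨phi p, phi_compat p⟩

end Groth.Agent.Helper6.PnFrameC
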