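import Mathlib
import Groth.Agent.Helper1.ProjH04
import Groth.Agent.Helper1.ProjMid
import Groth.Agent.Helper1.ProjTop8
import Groth.Agent.Helper1.KzPn
import Groth.Agent.Helper6.PnCohA
import Groth.Agent.Helper6.PnFrameC

set_option autoImplicit false
set_option linter.style.haveILetI false
set_option linter.unusedSectionVars false
set_option linter.unusedVariables false
set_option linter.unusedSimpArgs false

/-!
# Cohomology of the Koszul kernels on projective space
-/

namespace Groth.Agent.Helper6.PnCohB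

open CategoryTheory CategoryTheory.Limits AlgebraicGeometry Opposite TopologicalSpace MvPolynomial
open Groth.Agent.Helper1.KzAlg Groth.Agent.Helper1.KzSheaf Groth.Agent.Helper1.KzMain
  Groth.Agent.Helper1.HHLes Groth.Agent.Helper1.ProjTop Groth.Agent.Helper1.HHSum
open PnFrameC

universe u

variable (n : ℕ) (A : Type u) [CommRing A]

local notation "𝒢" => CohB1.polyGrading n A

attribute [local instance] Groth.Agent.Helper1.ProjTop.overR

/-- the cohomology of `O(d)~` vanishes for `-(n+1) < d < 0` -/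
theorem subsingleton_HH_tilde (hn : 1 ≤ n) (d : ℤ) (hd : d < 0) (hd' : -((n : ℤ) + 1) < d) (q : ℕ) :
    Subsingleton (Coh.HH (Proj 𝒢) (GrTilde.tilde 𝒢 𝒢 d) q) := by
  rcases Nat.eq_zero_or_pos q with rfl | hq
  · exact subsingleton_H0_tilde n A d (by omega) hd
  · by_cases hqn : q = n
    · subst hqn
      exact subsingleton_top_tilde q A d (by omega) hd'
    · exact subsingleton_mid_tilde n A d q hq hqn

/-- the higher cohomology of `O(0)~` vanishes -/
theorem subsingleton_HH_tilde_zero (hn : 1 ≤ n) (d : ℤ) (hd : d = 0) (q : ℕ) (hq : 1 ≤ q) :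
    Subsingleton (Coh.HH (Proj 𝒢) (GrTilde.tilde 𝒢 𝒢 d) q) := by
  by_cases hqn : q = n
  · subst hqn
    exact subsingleton_top_tilde q A d (by omega) (by rw [hd]; have : (0 : ℤ) ≤ (q : ℤ) := Int.natCast_nonneg q; linarith)
  · exact subsingleton_mid_tilde n A d q hq hqn

/-- the Koszul terms `M_p`, `1 ≤ p ≤ n`, have no cohomology -/
theorem subsingleton_HH_M (hn : 1 ≤ n) (p : ℕ) (hp : 1 ≤ p) (hpn : p ≤ n) (q : ℕ) :
    Subsingleton (Coh.HH (Proj 𝒢) (M n A p) q) :=
  subsingleton_HH_Cs 𝒢 𝒢 (n + 1) A 0 p q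
    (subsingleton_HH_tilde n A hn _ (by omega) (by omega) q)

/-- the higher cohomology of `M_0` vanishes -/
theorem subsingleton_HH_M_zero (hn : 1 ≤ n) (q : ℕ) (hq : 1 ≤ q) :
    Subsingleton (Coh.HH (Proj 𝒢) (M n A 0) q) :=
  subsingleton_HH_Cs 𝒢 𝒢 (n + 1) A 0 0 q
    (subsingleton_HH_tilde_zero n A hn _ (by simp) q hq)

end Groth.Agent.Helper6.PnCohB
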