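import Mathlib
import Groth.Agent.Helper6.PnFrameC

set_option autoImplicit false
set_option linter.style.haveILetI false
set_option linter.unusedSectionVars false
set_option linter.unusedVariables false
set_option linter.unusedSimpArgs false

/-!
# The Koszul differential on the frames of projective space
-/

namespace Groth.Agent.Helper6.PnEulerA

open CategoryTheory AlgebraicGeometry Opposite TopologicalSpace MvPolynomial
open Groth.Agent.Helper1.GrT Groth.Agent.Helper1.TwistMul Groth.Agent.Helper1.ProjO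
  Groth.Agent.Helper1.KzAlg Groth.Agent.Helper1.KzSheaf Groth.Agent.Helper1.KzMain
  Groth.Agent.Helper1.KzMult Groth.Agent.Helper1.TildeFun
open PnFrame PnFrameB PnFrameC PnIdx PnExtB
open exteriorPower Set.powersetCard

universe u

variable {n : ℕ} {A : Type u} [CommRing A]

local notation "𝒢" => CohB1.polyGrading n A

/-- the affine coordinates `x_k / x_i` on the chart `j` -/
noncomputable def yv (j : Idx n A) (k : Fin (n + 1)) : Γ(Proj 𝒢, B n A j) :=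
  frO 𝒢 (B n A j) (X k) (X j.i) (X_mem k) (X_mem j.i) (X_notMem j)

theorem xs_val (k : Fin (n + 1)) : Groth.Agent.Helper1.KzPn.xs n A (k : ℕ) = X k := by
  unfold Groth.Agent.Helper1.KzPn.xs
  rw [dif_pos k.2]

/-- the coefficient section -/
theorem frO_coef (j : Idx n A) {q : ℕ} (o : Fin (q + 1) ↪o Fin (n + 1)) (a : Fin (q + 1))
    (J : Finset ℕ) (hJ : J = idxOf (face o a)) :
    frO 𝒢 (B n A j) (PnKosB.coef (Groth.Agent.Helper1.KzPn.xs n A) ((o a : Fin (n + 1)) : ℕ) J)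
      (X j.i) (PnKosB.coef_mem 𝒢 _ (Groth.Agent.Helper1.KzPn.xs_mem n A) _ _) (X_mem j.i)
      (X_notMem j) = (-1 : Γ(Proj 𝒢, B n A j)) ^ (a : ℕ) * yv j (o a) := by
  subst hJ
  have h1 : PnKosB.coef (Groth.Agent.Helper1.KzPn.xs n A) ((o a : Fin (n + 1)) : ℕ)
      (idxOf (face o a)) = ((-1 : ℤ) ^ (a : ℕ)) • (X (o a) : MvPolynomial (Fin (n + 1)) A) := by
    unfold PnKosB.coef
    rw [sgn_idxOf, xs_val]
  refine (frO_eq_of 𝒢 (B n A j) _ _ _ _ _ (X_mem j.i)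
    ((𝒢 1).toAddSubgroup.zsmul_mem (X_mem (o a)) _) (X_mem j.i) (X_notMem j) (X_notMem j)
    (by rw [h1])).trans ?_
  rw [frO_zsmul 𝒢 (B n A j) _ _ _ (X_mem (o a))]
  unfold yv
  congr 1
  push_cast
  rfl

/-- **the Koszul differential on the frames** -/
theorem dM_famC (j : Idx n A) {q : ℕ} (o : Fin (q + 1) ↪o Fin (n + 1)) :
    appLin (dM n A q) (B n A j)
        (famC 𝒢 (n + 1) (P (q + 1) j) (q + 1) ⟨idxOf o, idxOf_mem o⟩) =
      ∑ a : Fin (q + 1), ((-1 : Γ(Proj 𝒢, B n A j)) ^ (a : ℕ) * yv j (o a)) •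
        famC 𝒢 (n + 1) (P q j) q ⟨idxOf (face o a), idxOf_mem _⟩ := by
  have h0 := PnKosB.ds_inclC_app 𝒢 𝒢 (Groth.Agent.Helper1.KzPn.xs n A)
    (Groth.Agent.Helper1.KzPn.xs_mem n A) (n + 1) 0 q ⟨idxOf o, idxOf_mem o⟩ (B n A j)
    (eS 𝒢 (P (q + 1) j))
  refine h0.trans ?_
  refine (sum_attach_idxOf o _).trans ?_
  apply Finset.sum_congr rfl
  intro a _
  have h1 := inclC_mulA_eS 𝒢 (n + 1) (B n A j) (X j.i) (X_mem _) (X_notMem j)
    (PnKosB.coef (Groth.Agent.Helper1.KzPn.xs n A) ((o a : Fin (n + 1)) : ℕ)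
      ((idxOf o).erase ((o a : Fin (n + 1)) : ℕ)))
    (PnKosB.coef_mem 𝒢 _ (Groth.Agent.Helper1.KzPn.xs_mem n A) _ _)
    ((0 : ℤ) - ((q + 1 : ℕ) : ℤ)) ((0 : ℤ) - (q : ℤ)) q (by ring) (by push_cast; ring) (by ring)
    ⟨(idxOf o).erase ((o a : Fin (n + 1)) : ℕ),
      PnKosA.erase_mem_idx (idxOf_mem o) (apply_mem_idxOf o a)⟩
  refine h1.trans ?_
  rw [frO_coef j o a _ (erase_idxOf o a)]
  have h2 : (⟨(idxOf o).erase ((o a : Fin (n + 1)) : ℕ),
      PnKosA.erase_mem_idx (idxOf_mem o) (apply_mem_idxOf o a)⟩ : idx (n + 1) q) =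
      ⟨idxOf (face o a), idxOf_mem _⟩ := Subtype.ext (erase_idxOf o a)
  rw [h2]
  rfl

theorem dM_bM (j : Idx n A) {q : ℕ} (o : Fin (q + 1) ↪o Fin (n + 1)) :
    appLin (dM n A q) (B n A j) (bM (q + 1) j (ofFinEmbEquiv o)) =
      ∑ a : Fin (q + 1), ((-1 : Γ(Proj 𝒢, B n A j)) ^ (a : ℕ) * yv j (o a)) •
        bM q j (ofFinEmbEquiv (face o a)) := by
  rw [bM_apply]
  have h : ∀ a : Fin (q + 1), bM q j (ofFinEmbEquiv (face o a)) =
      famC 𝒢 (n + 1) (P q j) q ⟨idxOf (face o a), idxOf_mem _⟩ := fun a => bM_apply q j _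
  rw [Finset.sum_congr rfl (fun a _ => by rw [h a])]
  exact dM_famC j o

/-! ### The Euler map -/

theorem one_notMem_top (y : ProjectiveSpectrum.top 𝒢) (hy : y ∈ (⊤ : (Proj 𝒢).Opens)) :
    (1 : MvPolynomial (Fin (n + 1)) A) ∉ y.asHomogeneousIdeal :=
  fun h => y.isPrime.ne_top ((Ideal.eq_top_iff_one _).mpr h)

variable (n A) in
/-- the global frame of `O(0)` -/
noncomputable def P0 : InvPair 𝒢 ((0 : ℤ) - ((0 : ℕ) : ℤ)) ⊤ :=
  InvPair.ofFrac 𝒢 _ ⊤ 1 1 SetLike.GradedOne.one_mem SetLike.GradedOne.one_mem (by simp)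
    one_notMem_top one_notMem_top

variable (n A) in
/-- the trivialization `O ≅ O(0)` -/
noncomputable def θinv : Coh.structureModule (Proj 𝒢) ⟶ GrTilde.tilde 𝒢 𝒢 ((0 : ℤ) - ((0 : ℕ) : ℤ)) :=
  Groth.Agent.Lead.LocLift.homOfTop _ (P0 n A).eΓ

instance : IsIso (θinv n A) := (P0 n A).isIso_homOfTop

variable (n A) in
/-- the Euler map `O(-1)^{n+1} → O` -/
noncomputable def ε : M n A 1 ⟶ Coh.structureModule (Proj 𝒢) :=
  dM n A 0 ≫ projC 𝒢 𝒢 (n + 1) 0 ((0 : ℤ) - ((0 : ℕ) : ℤ))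
    ⟨∅, Groth.Agent.Helper1.KzMult.empty_mem_idx (n + 1)⟩ ≫ inv (θinv n A)

theorem res_P0 (j : Idx n A) :
    (GrTilde.tilde 𝒢 𝒢 ((0 : ℤ) - ((0 : ℕ) : ℤ))).presheaf.map
      (homOfLE (le_top : B n A j ≤ ⊤)).op (P0 n A).eΓ = eS 𝒢 (P 0 j) := by
  apply sect_ext' (𝒜 := 𝒢) (ℳ := 𝒢)
  intro y hy
  show (LocalizedModule.mk (1 : MvPolynomial (Fin (n + 1)) A) ⟨1, _⟩ :
      GrTilde.LocMod 𝒢 (M := MvPolynomial (Fin (n + 1)) A) y) =
    LocalizedModule.mk (1 : MvPolynomial (Fin (n + 1)) A) ⟨X j.i ^ 0, _⟩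
  congr 1

theorem θinv_app (j : Idx n A) (c : Γ(Proj 𝒢, B n A j)) :
    appLin (θinv n A) (B n A j) c = c • eS 𝒢 (P 0 j) := by
  have h := Groth.Agent.Helper1.EpiDesc.homOfTop_app
    (GrTilde.tilde 𝒢 𝒢 ((0 : ℤ) - ((0 : ℕ) : ℤ))) (P0 n A).eΓ (B n A j) c
  rw [res_P0] at h
  exact h

theorem inv_θinv_app (j : Idx n A) (c : Γ(Proj 𝒢, B n A j)) :
    appLin (inv (θinv n A)) (B n A j) (c • eS 𝒢 (P 0 j)) = c := by
  rw [← θinv_app, ← LinearMap.comp_apply, ← appLin_comp, IsIso.hom_inv_id, appLin_id]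
  rfl

/-- the constant embedding -/
def oConst (k : Fin (n + 1)) : Fin (0 + 1) ↪o Fin (n + 1) :=
  OrderEmbedding.ofStrictMono (fun _ => k) (fun a b h => absurd h (by
    have : a = b := Subsingleton.elim (α := Fin 1) a b
    rw [this]
    exact lt_irrefl b))

theorem finEquiv_eq (k : Fin (n + 1)) :
    finEquiv (n + 1) k = ⟨idxOf (oConst k), idxOf_mem _⟩ := by
  apply Subtype.ext
  rw [finEquiv_coe]
  ext m
  rw [Finset.mem_singleton, mem_idxOf]
  constructor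
  · rintro rfl
    exact ⟨0, rfl⟩
  · rintro ⟨a, rfl⟩
    rfl

theorem idx_zero_eq (J : idx (n + 1) 0) :
    J = ⟨∅, Groth.Agent.Helper1.KzMult.empty_mem_idx (n + 1)⟩ := by
  apply Subtype.ext
  have h := (mem_idx.1 J.2).2
  have h2 : J.1.card = 0 := by exact_mod_cast h
  exact Finset.card_eq_zero.1 h2

/-- **the Euler map on the frame** -/
theorem ε_bE (j : Idx n A) (k : Fin (n + 1)) :
    formOf (ε n A) (B n A j) (bE j k) = yv j k := by
  rw [bE_apply, finEquiv_eq]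
  show appLin (inv (θinv n A)) (B n A j) (appLin (projC 𝒢 𝒢 (n + 1) 0 ((0 : ℤ) - ((0 : ℕ) : ℤ))
    ⟨∅, Groth.Agent.Helper1.KzMult.empty_mem_idx (n + 1)⟩) (B n A j)
      (appLin (dM n A 0) (B n A j)
        (famC 𝒢 (n + 1) (P (0 + 1) j) (0 + 1) ⟨idxOf (oConst k), idxOf_mem _⟩))) = yv j k
  have h1 := dM_famC j (oConst k)
  rw [Fin.sum_univ_one] at h1
  simp only [Fin.val_zero, pow_zero, one_mul] at h1
  have h2 : oConst k 0 = k := rfl
  rw [h2] at h1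
  rw [h1, idx_zero_eq ⟨idxOf (face (oConst k) 0), idxOf_mem _⟩]
  have h3 := (appLin (projC 𝒢 𝒢 (n + 1) 0 ((0 : ℤ) - ((0 : ℕ) : ℤ))
    ⟨∅, Groth.Agent.Helper1.KzMult.empty_mem_idx (n + 1)⟩) (B n A j)).map_smul (yv j k)
    (famC 𝒢 (n + 1) (P 0 j) 0 ⟨∅, Groth.Agent.Helper1.KzMult.empty_mem_idx (n + 1)⟩)
  rw [h3, projC_famC, if_pos rfl]
  exact inv_θinv_app j (yv j k)

theorem ε_surj (j : Idx n A) :
    ∃ e : (M n A 1).val.obj (op (B n A j)), formOf (ε n A) (B n A j) e = 1 := by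
  refine ⟨bE j j.i, ?_⟩
  rw [ε_bE]
  unfold yv
  exact frO_self 𝒢 (B n A j) (X j.i) (X_mem j.i) (X_notMem j)

theorem phi_bM' (p : ℕ) (j : Idx n A) (o : Fin p ↪o Fin (n + 1)) :
    phi p j (bM p j (ofFinEmbEquiv o)) = ιMulti _ p (fun a => bE j (o a)) := by
  rw [phi_bM]
  congr 1
  funext a
  rw [Equiv.symm_apply_apply]

/-- **the Koszul differential is the contraction with the Euler map** -/
theorem kappa (q : ℕ) (j : Idx n A) (v : (M n A (q + 1)).val.obj (op (B n A j))) :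
    phi q j (appLin (dM n A q) (B n A j) v) =
      PnExtA.contr (formOf (ε n A) (B n A j)) q (phi (q + 1) j v) := by
  have key : (phi q j).toLinearMap ∘ₗ appLin (dM n A q) (B n A j) =
      PnExtA.contr (formOf (ε n A) (B n A j)) q ∘ₗ (phi (q + 1) j).toLinearMap := by
    apply (bM (q + 1) j).ext
    intro s
    obtain ⟨o, rfl⟩ := ofFinEmbEquiv.surjective s
    show phi q j (appLin (dM n A q) (B n A j) (bM (q + 1) j (ofFinEmbEquiv o))) =
      PnExtA.contr (formOf (ε n A) (B n A j)) q (phi (q + 1) j (bM (q + 1) j (ofFinEmbEquiv o)))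
    have e1 := congrArg (phi q j) (dM_bM j o)
    refine e1.trans ?_
    have e2 := congrArg (PnExtA.contr (formOf (ε n A) (B n A j)) q)
      (phi_bM' (q + 1) j o)
    refine Eq.trans ?_ e2.symm
    refine Eq.trans ?_ (PnExtA.contr_ιMulti (formOf (ε n A) (B n A j)) q
      (fun a => bE j (o a))).symm
    refine (map_sum (phi q j) _ _).trans ?_
    apply Finset.sum_congr rfl
    intro a _
    refine ((phi q j).map_smul _ _).trans ?_
    have e3 : phi q j (bM q j (ofFinEmbEquiv (face o a))) =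
        ιMulti _ q ((fun a => bE j (o a)) ∘ a.succAbove) := phi_bM' q j (face o a)
    have e4 : formOf (ε n A) (B n A j) (bE j (o a)) = yv j (o a) := ε_bE j (o a)
    rw [e3]
    exact congrArg (fun c : Γ(Proj 𝒢, B n A j) =>
      ((-1 : Γ(Proj 𝒢, B n A j)) ^ (a : ℕ) * c) •
        ιMulti Γ(Proj 𝒢, B n A j) q ((fun a => bE j (o a)) ∘ a.succAbove)) e4.symm
  exact LinearMap.congr_fun key v

end Groth.Agent.Helper6.PnEulerA
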