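import Mathlib
import Groth.Agent.Helper6.PnCohB
import Groth.Agent.Helper6.PnCohC
import Groth.Agent.Helper6.PnEulerA

set_option autoImplicit false
set_option linter.style.haveILetI false
set_option linter.unusedSectionVars false
set_option linter.unusedVariables false
set_option linter.unusedSimpArgs false

/-!
# Cohomology of the Koszul kernels on projective space: the computation
-/

namespace Groth.Agent.Helper6.PnCohD

open CategoryTheory CategoryTheory.Limits AlgebraicGeometry Opposite TopologicalSpace MvPolynomial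
open Groth.Agent.Helper1.KzAlg Groth.Agent.Helper1.KzSheaf Groth.Agent.Helper1.KzMain
  Groth.Agent.Helper1.HHLes Groth.Agent.Helper1.ProjTop Groth.Agent.Helper1.HHSum
open PnFrameC PnCohB

universe u

variable (n : ℕ) (A : Type u) [CommRing A]

local notation "𝒢" => CohB1.polyGrading n A

attribute [local instance] Groth.Agent.Helper1.ProjTop.overR

/-- polynomials of degree zero -/
noncomputable def deg0Equiv : A ≃ₗ[A] ↥(𝒢 0) :=
  LinearEquiv.ofBijective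
    { toFun := fun a => ⟨C a, isHomogeneous_C _ a⟩
      map_add' := fun a b => Subtype.ext (C_add (σ := Fin (n + 1)))
      map_smul' := fun a b => Subtype.ext (by
        show (C (a • b) : MvPolynomial (Fin (n + 1)) A) = a • C b
        rw [smul_eq_mul, C_mul, smul_eq_C_mul]) }
    ⟨fun a b h => C_injective (Fin (n + 1)) A (congrArg Subtype.val h), by
      rintro ⟨f, hf⟩
      have hf' : f.IsHomogeneous 0 := hf
      rw [← totalDegree_zero_iff_isHomogeneous, totalDegree_eq_zero_iff_eq_C] at hf'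
      exact ⟨coeff 0 f, Subtype.ext hf'.symm⟩⟩

/-- `M_0 = O(0)~` -/
noncomputable def isoM0 : M n A 0 ≅ GrTilde.tilde 𝒢 𝒢 ((0 : ℤ) - ((0 : ℕ) : ℤ)) where
  hom := projC 𝒢 𝒢 (n + 1) 0 _ ⟨∅, Groth.Agent.Helper1.KzMult.empty_mem_idx (n + 1)⟩
  inv := inclC 𝒢 𝒢 (n + 1) 0 _ ⟨∅, Groth.Agent.Helper1.KzMult.empty_mem_idx (n + 1)⟩
  hom_inv_id := by
    have h := sum_projC_inclC 𝒢 𝒢 (n + 1) 0 ((0 : ℤ) - ((0 : ℕ) : ℤ))
    rw [Finset.sum_eq_single_of_mem ⟨∅, Groth.Agent.Helper1.KzMult.empty_mem_idx (n + 1)⟩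
      (Finset.mem_attach _ _) (fun b _ hb => absurd (PnEulerA.idx_zero_eq b) hb)] at h
    exact h
  inv_hom_id := by
    have h := inclC_projC 𝒢 𝒢 (n + 1) 0 ((0 : ℤ) - ((0 : ℕ) : ℤ))
      ⟨∅, Groth.Agent.Helper1.KzMult.empty_mem_idx (n + 1)⟩
      ⟨∅, Groth.Agent.Helper1.KzMult.empty_mem_idx (n + 1)⟩
    rw [if_pos rfl] at h
    exact h

/-- `H⁰(M_0) = A` -/
theorem nonempty_H0_M0 : Nonempty (Coh.HH (Proj 𝒢) (M n A 0) 0 ≃ₗ[A] A) := by
  obtain ⟨e⟩ := nonempty_H0_tilde n A 0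
  have h0 : ((0 : ℤ) - ((0 : ℕ) : ℤ)) = ((0 : ℕ) : ℤ) := by simp
  exact ⟨(HHlinEquiv A (isoM0 n A) 0).trans
    ((HHlinEquiv A (eqToIso (congrArg (GrTilde.tilde 𝒢 𝒢) h0)) 0).trans
      (e.trans (deg0Equiv n A).symm))⟩

theorem dM_comp (p : ℕ) : dM n A (p + 1) ≫ dM n A p = 0 :=
  ds_comp 𝒢 𝒢 (Groth.Agent.Helper1.KzPn.xs n A) (Groth.Agent.Helper1.KzPn.xs_mem n A) (n + 1) 0 p

theorem dM_exact (p : ℕ) :
    (ShortComplex.mk (dM n A (p + 1)) (dM n A p) (dM_comp n A p)).Exact :=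
  ds_exact 𝒢 𝒢 (Groth.Agent.Helper1.KzPn.xs n A) (Groth.Agent.Helper1.KzPn.xs_mem n A) (n + 1)
    (Groth.Agent.Helper1.KzPn.xs_cov n A) 0 p

instance epi_dM0 : Epi (dM n A 0) :=
  ds_epi 𝒢 𝒢 (Groth.Agent.Helper1.KzPn.xs n A) (Groth.Agent.Helper1.KzPn.xs_mem n A) (n + 1)
    (Groth.Agent.Helper1.KzPn.xs_cov n A) 0

/-- **the cohomology of the Koszul kernels** `Z_{p+1} = ker (M_{p+1} → M_p)`, `p + 1 ≤ n` -/
theorem HH_K (hn : 1 ≤ n) (p : ℕ) (hp : p + 1 ≤ n) (q : ℕ) :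
    (q ≠ p + 1 → Subsingleton (Coh.HH (Proj 𝒢) (kernel (dM n A p)) q)) ∧
    (q = p + 1 → Nonempty (Coh.HH (Proj 𝒢) (kernel (dM n A p)) q ≃ₗ[A] A)) := by
  obtain ⟨h0, h1⟩ := PnCohC.HH_kernel A (M n A) (dM n A) (dM_comp n A) (dM_exact n A) n
    (subsingleton_HH_M n A hn) p hp
  cases q with
  | zero => exact ⟨fun _ => h0, fun h => absurd h (by omega)⟩
  | succ q =>
    obtain ⟨hl, hr⟩ := h1 q
    refine ⟨fun h => ?_, fun h => ?_⟩
    · rcases Nat.lt_or_ge q p with hqp | hqp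
      · exact hl hqp
      · obtain ⟨e⟩ := hr hqp
        haveI := subsingleton_HH_M_zero n A hn (q - p) (by omega)
        exact e.toEquiv.subsingleton
    · have hqp : q = p := by omega
      subst hqp
      obtain ⟨e⟩ := hr le_rfl
      obtain ⟨e2⟩ := nonempty_H0_M0 n A
      rw [Nat.sub_self] at e
      exact ⟨e.trans e2⟩

/-- the Koszul kernels vanish beyond `n` -/
theorem isZero_K (p : ℕ) (hp : n ≤ p) : IsZero (kernel (dM n A p)) :=
  PnCohC.isZero_kernel (M n A) (dM n A) (dM_comp n A) (dM_exact n A) (n + 1)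
    (fun p hp => Cs_isZero 𝒢 𝒢 (n + 1) 0 p hp) p (by omega)

/-- the cohomology of `M_0` -/
theorem HH_M0 (hn : 1 ≤ n) (q : ℕ) :
    (q ≠ 0 → Subsingleton (Coh.HH (Proj 𝒢) (M n A 0) q)) ∧
    (q = 0 → Nonempty (Coh.HH (Proj 𝒢) (M n A 0) q ≃ₗ[A] A)) := by
  refine ⟨fun h => subsingleton_HH_M_zero n A hn q (by omega), fun h => ?_⟩
  subst h
  exact nonempty_H0_M0 n A

end Groth.Agent.Helper6.PnCohD
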