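import Mathlib

set_option autoImplicit false
set_option linter.style.haveILetI false
set_option linter.unusedSectionVars false
set_option linter.unusedVariables false
set_option linter.unusedSimpArgs false

/-!
# Derivations on localizations; partial derivatives of fractions of homogeneous polynomials
-/

namespace Groth.Agent.Helper6.PnDerA

open TensorProduct

section ext

variable {A S T : Type*} [CommRing A] [CommRing S] [CommRing T] [Algebra A S] [Algebra A T]
  [Algebra S T] [IsScalarTower A S T] [Algebra.FormallyEtale S T]

/-- Extension of a derivation along a formally étale map. -/
noncomputable def extDer (D : Derivation A S S) : Derivation A T T :=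
  ((LinearMap.liftBaseChange T ((Algebra.linearMap S T).comp D.liftKaehlerDifferential)).comp
    (KaehlerDifferential.tensorKaehlerEquivOfFormallyEtale A S T).symm.toLinearMap).compDer
      (KaehlerDifferential.D A T)

theorem extDer_algebraMap (D : Derivation A S S) (s : S) :
    extDer (T := T) D (algebraMap S T s) = algebraMap S T (D s) := by
  unfold extDer
  rw [Derivation.coe_comp]
  simp only [LinearMap.comp_apply, LinearEquiv.coe_coe, LinearMap.coe_restrictScalars,
    Derivation.coeFn_coe]
  rw [KaehlerDifferential.tensorKaehlerEquivOfFormallyEtale_symm_D_algebraMap]
  simp

end ext

section loc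

variable {A S : Type*} [CommRing A] [CommRing S] [Algebra A S] (M : Submonoid S)

noncomputable instance : Algebra.FormallyEtale S (Localization M) :=
  Algebra.FormallyEtale.of_isLocalization (Rₘ := Localization M) M

/-- the extension of a derivation to a localization -/
noncomputable def locDer (D : Derivation A S S) : Derivation A (Localization M) (Localization M) :=
  extDer D

theorem locDer_mk_one (D : Derivation A S S) (s : S) :
    locDer M D (Localization.mk s 1) = Localization.mk (D s) 1 := by
  rw [Localization.mk_one_eq_algebraMap, Localization.mk_one_eq_algebraMap]
  exact extDer_algebraMap D s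

/-- the quotient rule -/
theorem locDer_mk (D : Derivation A S S) (a : S) (s : M) :
    locDer M D (Localization.mk a s) = Localization.mk ((s : S) * D a - a * D s) (s * s) := by
  have hu : IsUnit (Localization.mk (s : S) (1 : M)) := by
    rw [Localization.mk_one_eq_algebraMap]
    exact IsLocalization.map_units _ s
  have h1 : Localization.mk a s * Localization.mk (s : S) (1 : M) = Localization.mk a 1 := by
    rw [Localization.mk_mul, Localization.mk_eq_mk_iff, Localization.r_iff_exists]
    exact ⟨1, by simp; ring⟩
  have h2 := congrArg (locDer M D) h1
  rw [Derivation.leibniz, locDer_mk_one, locDer_mk_one, smul_eq_mul, smul_eq_mul] at h2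
  -- solve for the derivative
  have h3 : locDer M D (Localization.mk a s) * Localization.mk (s : S) (1 : M) =
      Localization.mk (D a) 1 - Localization.mk a s * Localization.mk (D s) 1 := by
    rw [← h2]; ring
  have h4 : Localization.mk ((s : S) * D a - a * D s) (s * s) * Localization.mk (s : S) (1 : M) =
      Localization.mk (D a) 1 - Localization.mk a s * Localization.mk (D s) 1 := by
    rw [Localization.mk_mul, Localization.mk_mul, Localization.sub_mk, Localization.mk_eq_mk_iff,
      Localization.r_iff_exists]
    exact ⟨1, by simp; ring⟩
  exact hu.mul_right_cancel (h3.trans h4.symm)

end loc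

end Groth.Agent.Helper6.PnDerA
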