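import Mathlib
import Groth.Prelude.Def_GrMod2
import Groth.Prelude.Def_Omega3
import Groth.Agent.Helper1.TwistMul2
import Groth.Agent.Helper1.ProjSpR
import Groth.Agent.Helper6.PnDerA

set_option autoImplicit false
set_option linter.style.haveILetI false
set_option linter.unusedSectionVars false
set_option linter.unusedVariables false
set_option linter.unusedSimpArgs false

/-!
# The derivations `∂/∂x_k : O → O(-1)` on projective space
-/

namespace Groth.Agent.Helper6.PnDerB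

open CategoryTheory AlgebraicGeometry Opposite TopologicalSpace MvPolynomial
open Groth.Agent.Helper1.GrT Groth.Agent.Helper1.TwistMul

universe u

variable (n : ℕ) (A : Type u) [CommRing A]

local notation "𝒢" => CohB1.polyGrading n A

/-- the partial derivative on the localization at a homogeneous prime -/
noncomputable def pd (k : Fin (n + 1)) (y : ProjectiveSpectrum 𝒢) :
    Derivation A (Twist.Loc 𝒢 y) (Twist.Loc 𝒢 y) :=
  PnDerA.locDer _ (pderiv k)

theorem pd_mk (k : Fin (n + 1)) (y : ProjectiveSpectrum 𝒢) (a : MvPolynomial (Fin (n + 1)) A)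
    (s : y.asHomogeneousIdeal.toIdeal.primeCompl) :
    pd n A k y (Localization.mk a s) =
      Localization.mk ((s : MvPolynomial (Fin (n + 1)) A) * pderiv k a - a * pderiv k s) (s * s) :=
  PnDerA.locDer_mk _ _ a s

theorem num_eq_zero (k : Fin (n + 1)) (a s : MvPolynomial (Fin (n + 1)) A) (ha : a ∈ 𝒢 0)
    (hs : s ∈ 𝒢 0) : s * pderiv k a - a * pderiv k s = 0 := by
  have ha' : a.IsHomogeneous 0 := ha
  have hs' : s.IsHomogeneous 0 := hs
  rw [← totalDegree_zero_iff_isHomogeneous, totalDegree_eq_zero_iff_eq_C] at ha' hs'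
  obtain ⟨a0, rfl⟩ : ∃ a0, a = C a0 := ⟨_, ha'⟩
  obtain ⟨s0, rfl⟩ : ∃ s0, s = C s0 := ⟨_, hs'⟩
  rw [pderiv_C, pderiv_C, mul_zero, mul_zero, sub_zero]

/-- the numerator of the derivative of a fraction of homogeneous polynomials of the same degree -/
theorem num_mem (k : Fin (n + 1)) {d : ℕ} (a s : MvPolynomial (Fin (n + 1)) A) (ha : a ∈ 𝒢 d)
    (hs : s ∈ 𝒢 d) : s * pderiv k a - a * pderiv k s ∈ 𝒢 (2 * d - 1) := by
  rcases Nat.eq_zero_or_pos d with rfl | hd
  · rw [num_eq_zero n A k a s ha hs]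
    exact Submodule.zero_mem _
  · have h1 : (pderiv k a).IsHomogeneous (d - 1) := IsHomogeneous.pderiv ha
    have h2 : (pderiv k s).IsHomogeneous (d - 1) := IsHomogeneous.pderiv hs
    have e : 2 * d - 1 = d + (d - 1) := by omega
    rw [e]
    exact Submodule.sub_mem _ (IsHomogeneous.mul hs h1) (IsHomogeneous.mul ha h2)

theorem den_mem {d : ℕ} (s : MvPolynomial (Fin (n + 1)) A) (hs : s ∈ 𝒢 d) : s * s ∈ 𝒢 (2 * d) := by
  rw [two_mul]
  exact IsHomogeneous.mul hs hs

/-- the derivative of a degree zero fraction has degree `-1` -/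
theorem pd_mem (k : Fin (n + 1)) (y : ProjectiveSpectrum 𝒢) (c : Twist.A0 𝒢 y) :
    (pd n A k y c.val : GrTilde.LocMod 𝒢 (M := MvPolynomial (Fin (n + 1)) A) y) ∈
      GrTilde.tildeAt 𝒢 𝒢 (-1) y := by
  obtain ⟨⟨d, ⟨a, ha⟩, ⟨s, hs⟩, hsy⟩, rfl⟩ := HomogeneousLocalization.mk_surjective c
  rw [HomogeneousLocalization.val_mk]
  dsimp only
  rw [pd_mk]
  rcases Nat.eq_zero_or_pos d with rfl | hd
  · rw [num_eq_zero n A k a s ha hs, Localization.mk_zero]
    exact Submodule.zero_mem _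
  · exact Submodule.subset_span ⟨2 * d - 1, 2 * d, ⟨_, num_mem n A k a s ha hs⟩,
      ⟨s * s, den_mem n A s hs⟩, _, by push_cast; omega, rfl⟩

/-- Euler's relation for degree zero fractions -/
theorem euler (y : ProjectiveSpectrum 𝒢) (c : Twist.A0 𝒢 y) :
    ∑ k : Fin (n + 1), (Localization.mk (X k : MvPolynomial (Fin (n + 1)) A) 1 : Twist.Loc 𝒢 y) *
      pd n A k y c.val = 0 := by
  obtain ⟨⟨d, ⟨a, ha⟩, ⟨s, hs⟩, hsy⟩, rfl⟩ := HomogeneousLocalization.mk_surjective c
  rw [HomogeneousLocalization.val_mk]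
  dsimp only
  simp only [pd_mk, Localization.mk_mul, one_mul]
  have h1 : ∀ k : Fin (n + 1),
      (Localization.mk ((X k : MvPolynomial (Fin (n + 1)) A) * (s * pderiv k a - a * pderiv k s))
        ((⟨s, hsy⟩ : y.asHomogeneousIdeal.toIdeal.primeCompl) * ⟨s, hsy⟩) : Twist.Loc 𝒢 y) =
      (Localization.mk (1 : MvPolynomial (Fin (n + 1)) A)
        ((⟨s, hsy⟩ : y.asHomogeneousIdeal.toIdeal.primeCompl) * ⟨s, hsy⟩) : Twist.Loc 𝒢 y) *
      Localization.mk ((X k : MvPolynomial (Fin (n + 1)) A) *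
        (s * pderiv k a - a * pderiv k s)) 1 := by
    intro k
    rw [Localization.mk_mul, one_mul, mul_one]
  simp only [h1]
  rw [← Finset.mul_sum]
  have h2 : ∑ k : Fin (n + 1), (Localization.mk ((X k : MvPolynomial (Fin (n + 1)) A) *
      (s * pderiv k a - a * pderiv k s)) 1 : Twist.Loc 𝒢 y) =
      Localization.mk (∑ k : Fin (n + 1), (X k : MvPolynomial (Fin (n + 1)) A) *
        (s * pderiv k a - a * pderiv k s)) 1 := by
    simp only [Localization.mk_one_eq_algebraMap, map_sum]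
  rw [h2]
  have h3 : ∑ k : Fin (n + 1), (X k : MvPolynomial (Fin (n + 1)) A) *
      (s * pderiv k a - a * pderiv k s) = 0 := by
    have ea := IsHomogeneous.sum_X_mul_pderiv (show a.IsHomogeneous d from ha)
    have es := IsHomogeneous.sum_X_mul_pderiv (show s.IsHomogeneous d from hs)
    calc ∑ k : Fin (n + 1), (X k : MvPolynomial (Fin (n + 1)) A) *
          (s * pderiv k a - a * pderiv k s)
        = s * ∑ k : Fin (n + 1), X k * pderiv k a - a * ∑ k : Fin (n + 1), X k * pderiv k s := by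
          rw [Finset.mul_sum, Finset.mul_sum, ← Finset.sum_sub_distrib]
          apply Finset.sum_congr rfl
          intro k _
          ring
      _ = 0 := by
          rw [ea, es]
          simp only [nsmul_eq_mul]
          ring
  rw [h3, Localization.mk_zero, mul_zero]


/-- the derivative of a section of the structure sheaf, as a section of `O(-1)` -/
noncomputable def dSect (k : Fin (n + 1)) (U : (Opens (ProjectiveSpectrum.top 𝒢))ᵒᵖ)
    (c : Twist.O (𝒜 := CohB1.polyGrading n A) U) : GrTilde.sect 𝒢 𝒢 (-1) U :=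
  ⟨fun x => ⟨pd n A k x.1 (c.1 x).val, pd_mem n A k x.1 (c.1 x)⟩, fun x => by
    obtain ⟨V, hxV, i, d, ⟨a, ha⟩, ⟨s, hs⟩, hsV, hval⟩ := c.2 x
    refine ⟨V, hxV, i, 2 * d - 1, 2 * d, ⟨_, num_mem n A k a s ha hs⟩,
      ⟨s * s, den_mem n A s hs⟩, fun z => ?_, ?_, fun z => ?_⟩
    · exact (z.1.asHomogeneousIdeal.toIdeal.primeCompl).mul_mem (hsV z) (hsV z)
    · rcases Nat.eq_zero_or_pos d with rfl | hd
      · right
        exact num_eq_zero n A k a s ha hs
      · left
        push_cast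
        omega
    · show pd n A k _ (c.1 (i z)).val = _
      have h1 : c.1 (i z) = HomogeneousLocalization.mk ⟨d, ⟨a, ha⟩, ⟨s, hs⟩, hsV z⟩ := hval z
      have h2 : (c.1 (i z)).val = Localization.mk a ⟨s, hsV z⟩ := by
        rw [h1, HomogeneousLocalization.val_mk]
      rw [h2, pd_mk]
      rfl⟩

theorem val_dSect (k : Fin (n + 1)) (U : Opens (ProjectiveSpectrum.top 𝒢))
    (c : Twist.O (𝒜 := CohB1.polyGrading n A) (op U)) (y : ProjectiveSpectrum.top 𝒢) (hy : y ∈ U) :
    val (dSect n A k (op U) c) y hy = pd n A k y (c.1 ⟨y, hy⟩).val := rfl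


theorem dSect_add (k : Fin (n + 1)) (U : (Opens (ProjectiveSpectrum.top 𝒢))ᵒᵖ)
    (c c' : Twist.O (𝒜 := CohB1.polyGrading n A) U) :
    dSect n A k U (c + c') = dSect n A k U c + dSect n A k U c' := by
  apply Subtype.ext
  funext x
  apply Subtype.ext
  show pd n A k x.1 ((c + c').1 x).val = pd n A k x.1 (c.1 x).val + pd n A k x.1 (c'.1 x).val
  rw [← map_add]
  congr 1
  exact HomogeneousLocalization.val_add _ _

theorem dSect_zero (k : Fin (n + 1)) (U : (Opens (ProjectiveSpectrum.top 𝒢))ᵒᵖ) :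
    dSect n A k U (0 : Twist.O (𝒜 := CohB1.polyGrading n A) U) = 0 := by
  apply Subtype.ext
  funext x
  apply Subtype.ext
  show pd n A k x.1 ((0 : Twist.O (𝒜 := CohB1.polyGrading n A) U).1 x).val = 0
  have : ((0 : Twist.O (𝒜 := CohB1.polyGrading n A) U).1 x).val = 0 :=
    HomogeneousLocalization.val_zero
  rw [this, map_zero]

theorem dSect_mul (k : Fin (n + 1)) (U : (Opens (ProjectiveSpectrum.top 𝒢))ᵒᵖ)
    (a b : Twist.O (𝒜 := CohB1.polyGrading n A) U) :
    dSect n A k U (a * b) = a • dSect n A k U b + b • dSect n A k U a := by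
  apply Subtype.ext
  funext x
  apply Subtype.ext
  have h1 : ((a • dSect n A k U b + b • dSect n A k U a : GrTilde.sect 𝒢 𝒢 (-1) U).1 x :
      GrTilde.LocMod 𝒢 (M := MvPolynomial (Fin (n + 1)) A) x.1) =
      (a.1 x).val • (pd n A k x.1 (b.1 x).val : GrTilde.LocMod 𝒢 x.1) +
        (b.1 x).val • (pd n A k x.1 (a.1 x).val : GrTilde.LocMod 𝒢 x.1) := by
    have e1 := GrTilde.coe_smul_val (-1) x.1 (a.1 x) ((dSect n A k U b).1 x)
    have e2 := GrTilde.coe_smul_val (-1) x.1 (b.1 x) ((dSect n A k U a).1 x)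
    exact congrArg₂ (· + ·) e1 e2
  refine Eq.trans ?_ h1.symm
  show pd n A k x.1 ((a * b).1 x).val = _
  have h2 : ((a * b).1 x).val = (a.1 x).val * (b.1 x).val := HomogeneousLocalization.val_mul _ _
  rw [h2, Derivation.leibniz]


open Groth.Agent.Helper1.ProjSpR

/-- the values of the pullbacks of global functions of the base are constants -/
theorem pd_appTop (k : Fin (n + 1)) (g : Γ(Spec (CommRingCat.of A), ⊤)) (y : Proj 𝒢) :
    pd n A k y (evO 𝒢 ⊤ y trivial ((toSpecR 𝒢).appTop.hom g)).val = 0 := by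
  have h1 := evO_toGlobal 𝒢 ((Scheme.ΓSpecIso (CommRingCat.of A)).hom.hom g) y
  have h2 : Coh.toGlobal (toSpecR 𝒢) ((Scheme.ΓSpecIso (CommRingCat.of A)).hom.hom g) =
      (toSpecR 𝒢).appTop.hom g := by
    unfold Coh.toGlobal
    show (toSpecR 𝒢).appTop.hom ((Scheme.ΓSpecIso (CommRingCat.of A)).inv.hom
      ((Scheme.ΓSpecIso (CommRingCat.of A)).hom.hom g)) = _
    congr 1
    exact congr($((Scheme.ΓSpecIso (CommRingCat.of A)).hom_inv_id).hom g)
  rw [h2] at h1
  rw [h1]
  unfold mkO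
  have h3 : (Localization.mk ((algebraMap A (MvPolynomial (Fin (n + 1)) A))
      ((Scheme.ΓSpecIso (CommRingCat.of A)).hom.hom g))
      (⟨1, one_notMem 𝒢 y⟩ : y.asHomogeneousIdeal.toIdeal.primeCompl) : Twist.Loc 𝒢 y) =
      algebraMap A (Twist.Loc 𝒢 y) ((Scheme.ΓSpecIso (CommRingCat.of A)).hom.hom g) := by
    rw [IsScalarTower.algebraMap_apply A (MvPolynomial (Fin (n + 1)) A) (Twist.Loc 𝒢 y),
      ← Localization.mk_one_eq_algebraMap]
    rfl
  rw [h3]
  exact Derivation.map_algebraMap _ _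


/-- a derivation kills `u` as soon as it kills a unit `η` and `u * η` -/
theorem der_eq_zero_of_mul_unit {T : Type*} [CommRing T] [Algebra A T] (D : Derivation A T T)
    (u η : T) (hη : IsUnit η) (h1 : D η = 0) (h2 : D (u * η) = 0) : D u = 0 := by
  rw [Derivation.leibniz, h1, smul_zero, zero_add, smul_eq_mul] at h2
  exact (hη.mul_right_eq_zero).1 h2

theorem pd_app (k : Fin (n + 1)) (V : (Spec (CommRingCat.of A)).Opens)
    (s : Γ(Spec (CommRingCat.of A), V)) (y : Proj 𝒢) (hy : y ∈ (toSpecR 𝒢) ⁻¹ᵁ V) :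
    pd n A k y (evO 𝒢 ((toSpecR 𝒢) ⁻¹ᵁ V) y hy ((toSpecR 𝒢).app V s)).val = 0 := by
  obtain ⟨g, hgV, hpg⟩ := (isAffineOpen_top (Spec (CommRingCat.of A))).exists_basicOpen_le
    (V := V) ⟨(toSpecR 𝒢).base y, hy⟩ trivial
  set W := (Spec (CommRingCat.of A)).basicOpen g with hW
  have hyW : y ∈ (toSpecR 𝒢) ⁻¹ᵁ W := hpg
  have hWV' : (toSpecR 𝒢) ⁻¹ᵁ W ≤ (toSpecR 𝒢) ⁻¹ᵁ V := (toSpecR 𝒢).preimage_mono hgV
  -- the ring hom `χ : Γ(Spec A, W) → Loc y`
  let χ : Γ(Spec (CommRingCat.of A), W) →+* Twist.Loc 𝒢 y :=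
    (algebraMap (Twist.A0 𝒢 y) (Twist.Loc 𝒢 y)).comp
      ((evO 𝒢 ((toSpecR 𝒢) ⁻¹ᵁ W) y hyW).comp ((toSpecR 𝒢).app W).hom)
  have hχ : ∀ t, χ t = (evO 𝒢 ((toSpecR 𝒢) ⁻¹ᵁ W) y hyW ((toSpecR 𝒢).app W t)).val := fun t => rfl
  -- compatibility with restriction
  have hres : ∀ (V' : (Spec (CommRingCat.of A)).Opens) (hWV : W ≤ V')
      (t : Γ(Spec (CommRingCat.of A), V')),
      χ ((Spec (CommRingCat.of A)).presheaf.map (homOfLE hWV).op t) =
        (evO 𝒢 ((toSpecR 𝒢) ⁻¹ᵁ V') y ((toSpecR 𝒢).preimage_mono hWV hyW)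
          ((toSpecR 𝒢).app V' t)).val := by
    intro V' hWV t
    rw [hχ]
    have hnat := congr($((toSpecR 𝒢).naturality (homOfLE hWV).op).hom t)
    simp only [CommRingCat.hom_comp, RingHom.comp_apply] at hnat
    rw [hnat]
    exact congrArg HomogeneousLocalization.val
      (evO_res 𝒢 ((toSpecR 𝒢).preimage_mono hWV) y hyW _)
  have htop : ∀ t : Γ(Spec (CommRingCat.of A), ⊤),
      pd n A k y (χ ((Spec (CommRingCat.of A)).presheaf.map (homOfLE le_top).op t)) = 0 := by
    intro t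
    rw [hres ⊤ le_top t]
    exact pd_appTop n A k t y
  rw [← hres V hgV s]
  -- `s|_W * g^m = a'`
  obtain ⟨⟨a', ⟨_, m, rfl⟩⟩, hx⟩ := IsLocalization.surj (Submonoid.powers g)
    ((Spec (CommRingCat.of A)).presheaf.map (homOfLE hgV).op s)
  simp only [RingHom.algebraMap_toAlgebra] at hx
  have hunit : IsUnit (χ ((Spec (CommRingCat.of A)).presheaf.map
      (homOfLE ((Spec (CommRingCat.of A)).basicOpen_le g)).op (g ^ m))) := by
    apply IsUnit.map
    have := IsLocalization.map_units (M := Submonoid.powers g)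
      Γ(Spec (CommRingCat.of A), W) ⟨g ^ m, m, rfl⟩
    rwa [RingHom.algebraMap_toAlgebra] at this
  refine der_eq_zero_of_mul_unit A (pd n A k y) _ _ hunit (htop _) ?_
  rw [← map_mul]
  have hx' : (Spec (CommRingCat.of A)).presheaf.map (homOfLE hgV).op s *
      (Spec (CommRingCat.of A)).presheaf.map
        (homOfLE ((Spec (CommRingCat.of A)).basicOpen_le g)).op (g ^ m) =
      (Spec (CommRingCat.of A)).presheaf.map
        (homOfLE ((Spec (CommRingCat.of A)).basicOpen_le g)).op a' := hx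
  rw [hx']
  exact htop a'


/-- **the derivation `∂/∂x_k : O → O(-1)`** -/
noncomputable def dK (k : Fin (n + 1)) :
    OmegaSh.Der (toSpecR 𝒢) (GrTilde.tilde 𝒢 𝒢 (-1)) where
  d {X} :=
    { toFun := fun c => dSect n A k X c
      map_zero' := dSect_zero n A k X
      map_add' := dSect_add n A k X }
  d_mul {X} a b := dSect_mul n A k X a b
  d_map {X Y} f x := rfl
  d_app {V} a := by
    apply Subtype.ext
    funext x
    apply Subtype.ext
    have h := pd_app n A k V.unop a x.1 x.2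
    rw [evO_apply] at h
    exact h

theorem val_dK (k : Fin (n + 1)) (U : (Proj 𝒢).Opens) (c : Γ(Proj 𝒢, U))
    (y : Proj 𝒢) (hy : y ∈ U) :
    val (𝒜 := CohB1.polyGrading n A) (ℳ := CohB1.polyGrading n A) (n := -1) (U := U)
      ((dK n A k).app U c) y hy = pd n A k y (evO 𝒢 U y hy c).val := by
  rw [evO_apply]
  rfl

end Groth.Agent.Helper6.PnDerB
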