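import Mathlib
import Groth.Agent.Helper6.PnEulerA

set_option autoImplicit false
set_option linter.style.haveILetI false
set_option linter.unusedSectionVars false
set_option linter.unusedVariables false
set_option linter.unusedSimpArgs false

/-!
# The Koszul kernels are the exterior powers of the kernel of the Euler map
-/

namespace Groth.Agent.Helper6.PnEulerB

open CategoryTheory CategoryTheory.Limits AlgebraicGeometry Opposite TopologicalSpace MvPolynomial
open PnFrame PnFrameB PnFrameC PnIdx PnExtB PnEulerA

universe u

variable {n : ℕ} {A : Type u} [CommRing A]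

local notation "𝒢" => CohB1.polyGrading n A

theorem isExtPowOn_ker (q : ℕ) :
    IsExtPowOn (B n A) (q + 1) (kernel (ε n A)) (kernel (dM n A q)) :=
  IsExtPowOn.ker (ε n A) (dM n A q) (phi (q + 1)) (phi_compat (q + 1)) (phi q) (kappa q) ε_surj

end Groth.Agent.Helper6.PnEulerB
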