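import Mathlib

set_option autoImplicit false
set_option linter.style.haveILetI false
set_option linter.unusedSectionVars false
set_option linter.unusedVariables false
set_option linter.unusedSimpArgs false

/-!
# Derivations of fractions of polynomials in given elements; scaling of homogeneous polynomials
-/

namespace Groth.Agent.Helper6.PnGenA

open MvPolynomial

section der

variable {A T Ωm : Type*} [CommRing A] [CommRing T] [AddCommGroup Ωm] [Module T Ωm]
  (ρ : A →+* T) (D : T →+ Ωm) (hmul : ∀ a b : T, D (a * b) = a • D b + b • D a)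
  (hρ : ∀ a : A, D (ρ a) = 0) {σ : Type*} (y : σ → T)

include hmul hρ in
/-- the chain rule: the derivative of a polynomial in the `y l` is a combination of the `D (y l)` -/
theorem D_eval₂_mem (P : MvPolynomial σ A) :
    D (eval₂ ρ y P) ∈ Submodule.span T (Set.range (fun l => D (y l))) := by
  induction P using MvPolynomial.induction_on with
  | C a =>
    rw [eval₂_C, hρ]
    exact Submodule.zero_mem _
  | add p q hp hq =>
    rw [eval₂_add, map_add]
    exact Submodule.add_mem _ hp hq
  | mul_X p l hp =>
    rw [eval₂_mul, eval₂_X, hmul]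
    exact Submodule.add_mem _ (Submodule.smul_mem _ _ (Submodule.subset_span ⟨l, rfl⟩))
      (Submodule.smul_mem _ _ hp)

include hmul hρ in
/-- the quotient rule -/
theorem D_mem_of_frac (c h' : T) (k : ℕ) (P Q : MvPolynomial σ A)
    (h1 : c * (eval₂ ρ y Q) ^ k = eval₂ ρ y P) (h2 : h' * eval₂ ρ y Q = 1) :
    D c ∈ Submodule.span T (Set.range (fun l => D (y l))) := by
  have e1 : D (c * (eval₂ ρ y Q) ^ k) ∈ Submodule.span T (Set.range (fun l => D (y l))) := by
    rw [h1]
    exact D_eval₂_mem ρ D hmul hρ y P
  have e2 : D ((eval₂ ρ y Q) ^ k) ∈ Submodule.span T (Set.range (fun l => D (y l))) := by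
    rw [← eval₂_pow]
    exact D_eval₂_mem ρ D hmul hρ y (Q ^ k)
  rw [hmul] at e1
  have e3 : (eval₂ ρ y Q) ^ k • D c ∈ Submodule.span T (Set.range (fun l => D (y l))) := by
    have := Submodule.sub_mem _ e1 (Submodule.smul_mem _ c e2)
    rwa [add_sub_cancel_left] at this
  have e4 : D c = h' ^ k • ((eval₂ ρ y Q) ^ k • D c) := by
    rw [← mul_smul, ← mul_pow, h2, one_pow, one_smul]
  rw [e4]
  exact Submodule.smul_mem _ _ e3

end der

section scale

variable {A S : Type*} [CommRing A] [CommRing S] {σ : Type*} [Fintype σ]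

/-- scaling the arguments of a homogeneous polynomial -/
theorem eval₂_scale (φ : A →+* S) (u : S) (v : σ → S) {m : ℕ} (a : MvPolynomial σ A)
    (ha : a.IsHomogeneous m) :
    eval₂ φ (fun l => u * v l) a = u ^ m * eval₂ φ v a := by
  rw [eval₂_eq', eval₂_eq', Finset.mul_sum]
  apply Finset.sum_congr rfl
  intro d hd
  have hdeg : d.degree = m := by
    by_contra h
    exact (mem_support_iff.1 hd) (ha.coeff_eq_zero h)
  have h1 : ∏ i, (u * v i) ^ d i = u ^ m * ∏ i, v i ^ d i := by
    simp_rw [mul_pow]
    rw [Finset.prod_mul_distrib, Finset.prod_pow_eq_pow_sum, ← Finsupp.degree_eq_sum, hdeg]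
  rw [h1]
  ring

end scale

end Groth.Agent.Helper6.PnGenA
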