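import Mathlib
import Groth.Agent.Helper1.ProjSpR
import Groth.Agent.Helper6.PnFrameA
import Groth.Agent.Helper6.PnGenA
import Groth.Agent.Lead.OmegaUnivA

set_option autoImplicit false
set_option linter.style.haveILetI false
set_option linter.unusedSectionVars false
set_option linter.unusedVariables false
set_option linter.unusedSimpArgs false

/-!
# Functions on the charts of projective space are fractions of polynomials in the affine coordinates
-/

namespace Groth.Agent.Helper6.PnGenB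

open CategoryTheory AlgebraicGeometry Opposite TopologicalSpace MvPolynomial
open Groth.Agent.Helper1.GrT Groth.Agent.Helper1.TwistMul Groth.Agent.Helper1.ProjO
  Groth.Agent.Helper1.ProjSpR
open PnFrame

universe u

variable {n : ℕ} {A : Type u} [CommRing A]

local notation "𝒢" => CohB1.polyGrading n A

/-- the constants on a chart -/
noncomputable def ρW (j : Idx n A) : A →+* Γ(Proj 𝒢, B n A j) :=
  ((Proj 𝒢).presheaf.map (homOfLE (le_top : B n A j ≤ ⊤)).op).hom.comp
    (Coh.toGlobal (toSpecR 𝒢))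

theorem evO_ρW (j : Idx n A) (a : A) (y : Proj 𝒢) (hy : y ∈ B n A j) :
    (evO 𝒢 (B n A j) y hy (ρW j a)).val =
      mkO y (C a) 1 (Groth.Agent.Helper1.TwistMul.one_notMem 𝒢 y) := by
  unfold ρW
  rw [RingHom.comp_apply]
  refine (congrArg HomogeneousLocalization.val (evO_res 𝒢 le_top y hy _)).trans ?_
  exact evO_toGlobal 𝒢 a y

/-- the affine coordinates -/
noncomputable def yv (j : Idx n A) (k : Fin (n + 1)) : Γ(Proj 𝒢, B n A j) :=
  frO 𝒢 (B n A j) (X k) (X j.i) (X_mem k) (X_mem j.i) (X_notMem j)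

theorem pow_mem (i : Fin (n + 1)) (m : ℕ) :
    (X i : MvPolynomial (Fin (n + 1)) A) ^ m ∈ 𝒢 m := isHomogeneous_X_pow i m

theorem pow_notMem (j : Idx n A) (m : ℕ) (y : ProjectiveSpectrum.top 𝒢) (hy : y ∈ B n A j) :
    (X j.i : MvPolynomial (Fin (n + 1)) A) ^ m ∉ y.asHomogeneousIdeal :=
  fun h => X_notMem j y hy (y.isPrime.mem_of_pow_mem m h)

/-- a homogeneous polynomial evaluated at the affine coordinates -/
theorem eval₂_yv (j : Idx n A) {m : ℕ} (a : MvPolynomial (Fin (n + 1)) A) (ha : a ∈ 𝒢 m) :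
    eval₂ (ρW j) (yv j) a =
      frO 𝒢 (B n A j) a (X j.i ^ m) ha (pow_mem j.i m) (pow_notMem j m) := by
  apply O_ext
  intro y hy
  let χ : Γ(Proj 𝒢, B n A j) →+* Twist.Loc 𝒢 y :=
    (algebraMap (Twist.A0 𝒢 y) (Twist.Loc 𝒢 y)).comp (evO 𝒢 (B n A j) y hy)
  have hχ : ∀ t, χ t = (evO 𝒢 (B n A j) y hy t).val := fun t => rfl
  rw [← hχ, MvPolynomial.hom_eval₂, evO_frO]
  have h1 : (fun l => χ (yv j l)) = fun l => mkO y 1 (X j.i) (X_notMem j y hy) *
      algebraMap (MvPolynomial (Fin (n + 1)) A) (Twist.Loc 𝒢 y) (X l) := by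
    funext l
    rw [hχ]
    unfold yv
    rw [evO_frO]
    unfold mkO
    rw [← Localization.mk_one_eq_algebraMap, Localization.mk_mul, one_mul, mul_one]
  have h2 : χ.comp (ρW j) = (algebraMap (MvPolynomial (Fin (n + 1)) A) (Twist.Loc 𝒢 y)).comp C := by
    ext a
    rw [RingHom.comp_apply, hχ, evO_ρW, RingHom.comp_apply]
    unfold mkO
    rw [← Localization.mk_one_eq_algebraMap]
    rfl
  rw [h1, h2, PnGenA.eval₂_scale _ _ _ a ha, ← MvPolynomial.hom_eval₂, eval₂_eta, mkO_pow]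
  unfold mkO
  rw [← Localization.mk_one_eq_algebraMap, Localization.mk_mul, one_pow, one_mul, mul_one]

theorem f_notMem (j : Idx n A) (y : ProjectiveSpectrum.top 𝒢) (hy : y ∈ B n A j) :
    j.f ∉ y.asHomogeneousIdeal := hy

/-- every function on a chart is a fraction of polynomials in the affine coordinates -/
theorem exists_frac (j : Idx n A) (c : Γ(Proj 𝒢, B n A j)) :
    ∃ (h' : Γ(Proj 𝒢, B n A j)) (k : ℕ) (P : MvPolynomial (Fin (n + 1)) A),
      c * (eval₂ (ρW j) (yv j) j.f) ^ k = eval₂ (ρW j) (yv j) P ∧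
        h' * eval₂ (ρW j) (yv j) j.f = 1 := by
  obtain ⟨k, a, ha, hca⟩ := exists_frac_O 𝒢 (d := 1 + j.2.1) (by omega) j.f j.f_mem c
  refine ⟨frO 𝒢 (B n A j) (X j.i ^ (1 + j.2.1)) j.f (pow_mem j.i _) j.f_mem (f_notMem j), k, a,
    ?_, ?_⟩
  · rw [eval₂_yv j j.f j.f_mem, eval₂_yv j a ha]
    apply O_ext
    intro y hy
    have hca' : (evO 𝒢 (B n A j) y hy c).val =
        mkO y a (j.f ^ k) (fun h1 => hy (y.isPrime.mem_of_pow_mem k h1)) := hca y hy
    rw [evO_val_mul, evO_val_pow, evO_frO, evO_frO, hca', mkO_pow, mkO_mul]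
    apply mkO_eq_of
    ring
  · rw [eval₂_yv j j.f j.f_mem, frO_mul]
    refine (frO_eq_of 𝒢 (B n A j) _ _ (j.f * X j.i ^ (1 + j.2.1)) (j.f * X j.i ^ (1 + j.2.1))
      _ _ (SetLike.mul_mem_graded j.f_mem (pow_mem j.i _))
      (SetLike.mul_mem_graded j.f_mem (pow_mem j.i _)) _
      (fun y hy h => (y.isPrime.mem_or_mem h).elim (f_notMem j y hy) (pow_notMem j _ y hy))
      (by ring)).trans ?_
    exact frO_self 𝒢 (B n A j) _ _ _

/-- **derivations on a chart are determined by the affine coordinates** -/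
theorem der_mem_span {F : (Proj 𝒢).Modules} (D : OmegaSh.Der (toSpecR 𝒢) F) (j : Idx n A)
    (c : Γ(Proj 𝒢, B n A j)) :
    D.app (B n A j) c ∈ Submodule.span Γ(Proj 𝒢, B n A j)
      (Set.range (fun l => D.app (B n A j) (yv j l))) := by
  obtain ⟨h', k, P, h1, h2⟩ := exists_frac j c
  refine PnGenA.D_mem_of_frac (ρW j) (D.app (B n A j)) ?_ ?_ (yv j) c h' k P j.f h1 h2
  · intro a b
    rw [OmegaSh.Der.app_apply, D.d_mul]
    rfl
  · intro a
    exact Groth.Agent.Lead.OmegaUnivA.der_appLE (toSpecR 𝒢) (V := ⊤) (U := B n A j)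
      (fun _ _ => trivial) D ((Scheme.ΓSpecIso (CommRingCat.of A)).inv.hom a)

end Groth.Agent.Helper6.PnGenB
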