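import Mathlib
import Groth.Agent.Helper6.PnEulerB
import Groth.Agent.Helper6.PnDerB
import Groth.Agent.Helper6.PnGenB

set_option autoImplicit false
set_option linter.style.haveILetI false
set_option linter.unusedSectionVars false
set_option linter.unusedVariables false
set_option linter.unusedSimpArgs false

/-!
# The Euler sequence: `Ω_{P^n/A}` is the kernel of the Euler map `O(-1)^{n+1} → O`
-/

namespace Groth.Agent.Helper6.PnEulerC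

open CategoryTheory CategoryTheory.Limits AlgebraicGeometry Opposite TopologicalSpace MvPolynomial
open Groth.Agent.Helper1.GrT Groth.Agent.Helper1.TwistMul Groth.Agent.Helper1.ProjO
  Groth.Agent.Helper1.KzAlg Groth.Agent.Helper1.KzSheaf Groth.Agent.Helper1.KzMain
  Groth.Agent.Helper1.KzMult Groth.Agent.Helper1.TildeFun Groth.Agent.Helper1.ProjSpR
open PnFrame PnFrameB PnFrameC PnIdx PnExtB PnEulerA
open OmegaSh

universe u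

variable (n : ℕ) (A : Type u) [CommRing A]

local notation "𝒢" => CohB1.polyGrading n A

/-- the identification `O(-1) = O(0 - 1)` -/
noncomputable def unit1 : GrTilde.tilde 𝒢 𝒢 (-1) ⟶ GrTilde.tilde 𝒢 𝒢 ((0 : ℤ) - ((1 : ℕ) : ℤ)) :=
  mulA 𝒢 𝒢 0 1 SetLike.GradedOne.one_mem (-1) ((0 : ℤ) - ((1 : ℕ) : ℤ)) (by norm_num)

theorem val_unit1 (U : (Proj 𝒢).Opens) (t : Γ(GrTilde.tilde 𝒢 𝒢 (-1), U))
    (y : ProjectiveSpectrum.top 𝒢) (hy : y ∈ U) :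
    val (𝒜 := 𝒢) (ℳ := 𝒢) (n := (0 : ℤ) - ((1 : ℕ) : ℤ)) (U := U) ((unit1 n A).app U t) y hy =
      val (𝒜 := 𝒢) (ℳ := 𝒢) (n := -1) (U := U) t y hy := by
  unfold unit1
  rw [val_mulA, one_smul]

theorem exists_αk [QuasiSeparated (toSpecR 𝒢)] (k : Fin (n + 1)) :
    ∃ a : Omega.sheaf (toSpecR 𝒢) ⟶ GrTilde.tilde 𝒢 𝒢 (-1),
      ∀ (U : (Proj 𝒢).Opens) (s : Γ(Proj 𝒢, U)),
        a.app U ((dOmega (toSpecR 𝒢)).app U s) = (PnDerB.dK n A k).app U s := by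
  obtain ⟨a, ha, -⟩ := Groth.Agent.Lead.OmegaUnivA.isUniversal (toSpecR 𝒢) _ (PnDerB.dK n A k)
  exact ⟨a, (Groth.Agent.Lead.DerA.postcomp_eq_iff _ _ a).1 ha⟩

/-- the components `Ω → O(-1)` of the Euler embedding -/
noncomputable def αk [QuasiSeparated (toSpecR 𝒢)] (k : Fin (n + 1)) :
    Omega.sheaf (toSpecR 𝒢) ⟶ GrTilde.tilde 𝒢 𝒢 ((0 : ℤ) - ((1 : ℕ) : ℤ)) :=
  (exists_αk n A k).choose ≫ unit1 n A

theorem αk_d [QuasiSeparated (toSpecR 𝒢)] (k : Fin (n + 1)) (U : (Proj 𝒢).Opens) (s : Γ(Proj 𝒢, U)) :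
    (αk n A k).app U ((dOmega (toSpecR 𝒢)).app U s) =
      (unit1 n A).app U ((PnDerB.dK n A k).app U s) := by
  unfold αk
  have h := (exists_αk n A k).choose_spec U s
  exact congrArg ((unit1 n A).app U) h

/-- the Euler embedding `Ω → O(-1)^{n+1}` -/
noncomputable def α [QuasiSeparated (toSpecR 𝒢)] : Omega.sheaf (toSpecR 𝒢) ⟶ M n A 1 :=
  ∑ k : Fin (n + 1), αk n A k ≫ inclC 𝒢 𝒢 (n + 1) 1 ((0 : ℤ) - ((1 : ℕ) : ℤ)) (finEquiv (n + 1) k)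

theorem α_app [QuasiSeparated (toSpecR 𝒢)] (U : (Proj 𝒢).Opens) (ω : (Omega.sheaf (toSpecR 𝒢)).val.obj (op U)) :
    appLin (α n A) U ω = ∑ k : Fin (n + 1),
      appLin (inclC 𝒢 𝒢 (n + 1) 1 ((0 : ℤ) - ((1 : ℕ) : ℤ)) (finEquiv (n + 1) k)) U
        (appLin (αk n A k) U ω) := by
  unfold α
  rw [appLin_sum, LinearMap.sum_apply]
  rfl

theorem mulA_congr {c c' : MvPolynomial (Fin (n + 1)) A} (h : c = c') (hc : c ∈ 𝒢 1)
    (hc' : c' ∈ 𝒢 1) (a a' : ℤ) (ha : a' = a + (1 : ℕ)) :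
    mulA 𝒢 𝒢 1 c hc a a' ha = mulA 𝒢 𝒢 1 c' hc' a a' ha := by
  subst h
  rfl

theorem coef_oConst (k : Fin (n + 1)) :
    PnKosB.coef (Groth.Agent.Helper1.KzPn.xs n A) ((oConst k 0 : Fin (n + 1)) : ℕ)
      ((idxOf (oConst k)).erase ((oConst k 0 : Fin (n + 1)) : ℕ)) = X k := by
  rw [erase_idxOf]
  unfold PnKosB.coef
  rw [sgn_idxOf, xs_val]
  simp
  rfl

/-- the zeroth Koszul differential on a summand -/
theorem proj_dM0_inclC (U : (Proj 𝒢).Opens) (k : Fin (n + 1))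
    (t : (GrTilde.tilde 𝒢 𝒢 ((0 : ℤ) - ((0 + 1 : ℕ) : ℤ))).val.obj (op U)) :
    appLin (projC 𝒢 𝒢 (n + 1) 0 ((0 : ℤ) - ((0 : ℕ) : ℤ))
        ⟨∅, Groth.Agent.Helper1.KzMult.empty_mem_idx (n + 1)⟩) U
      (appLin (dM n A 0) U
        (appLin (inclC 𝒢 𝒢 (n + 1) (0 + 1) ((0 : ℤ) - ((0 + 1 : ℕ) : ℤ)) (finEquiv (n + 1) k)) U
          t)) =
      appLin (mulA 𝒢 𝒢 1 (X k) (X_mem k) ((0 : ℤ) - ((0 + 1 : ℕ) : ℤ)) ((0 : ℤ) - ((0 : ℕ) : ℤ))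
        (by norm_num)) U t := by
  rw [finEquiv_eq]
  have h0 := PnKosB.ds_inclC_app 𝒢 𝒢 (Groth.Agent.Helper1.KzPn.xs n A)
    (Groth.Agent.Helper1.KzPn.xs_mem n A) (n + 1) 0 0 ⟨idxOf (oConst k), idxOf_mem _⟩ U t
  have h1 := h0.trans (sum_attach_idxOf (oConst k) _)
  rw [Fin.sum_univ_one] at h1
  refine (congrArg (appLin (projC 𝒢 𝒢 (n + 1) 0 ((0 : ℤ) - ((0 : ℕ) : ℤ))
        ⟨∅, Groth.Agent.Helper1.KzMult.empty_mem_idx (n + 1)⟩) U) h1).trans ?_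
  rw [idx_zero_eq ⟨(idxOf (oConst k)).erase ((oConst k 0 : Fin (n + 1)) : ℕ), _⟩]
  refine (projC_inclC_app 𝒢 𝒢 (n + 1) 0 _ _ _ U _).trans ?_
  rw [if_pos rfl, mulA_congr n A (coef_oConst n A k) _ (X_mem k)]
  rfl

theorem smul_eq_mk_mul (y : ProjectiveSpectrum 𝒢) (a : MvPolynomial (Fin (n + 1)) A)
    (v : Twist.Loc 𝒢 y) :
    a • (v : GrTilde.LocMod 𝒢 (M := MvPolynomial (Fin (n + 1)) A) y) =
      ((Localization.mk a 1 : Twist.Loc 𝒢 y) * v : Twist.Loc 𝒢 y) := by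
  rw [Localization.mk_one_eq_algebraMap]
  exact Algebra.smul_def a v

/-- Euler's relation for sections -/
theorem euler_sect (U : (Proj 𝒢).Opens) (s : Γ(Proj 𝒢, U)) :
    ∑ k : Fin (n + 1), appLin (mulA 𝒢 𝒢 1 (X k) (X_mem k) ((0 : ℤ) - ((0 + 1 : ℕ) : ℤ))
        ((0 : ℤ) - ((0 : ℕ) : ℤ)) (by norm_num)) U
      (appLin (unit1 n A) U ((PnDerB.dK n A k).app U s)) = 0 := by
  apply sect_ext' (𝒜 := 𝒢) (ℳ := 𝒢)
  intro y hy
  refine (PnKosB.val_sum' 𝒢 𝒢 Finset.univ _ U _ y hy).trans ?_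
  have h1 : ∀ k : Fin (n + 1),
      val (𝒜 := 𝒢) (ℳ := 𝒢) (n := (0 : ℤ) - ((0 : ℕ) : ℤ)) (U := U)
        (appLin (mulA 𝒢 𝒢 1 (X k) (X_mem k) ((0 : ℤ) - ((0 + 1 : ℕ) : ℤ))
          ((0 : ℤ) - ((0 : ℕ) : ℤ)) (by norm_num)) U
        (appLin (unit1 n A) U ((PnDerB.dK n A k).app U s))) y hy =
      ((Localization.mk (X k : MvPolynomial (Fin (n + 1)) A) 1 : Twist.Loc 𝒢 y) *
        PnDerB.pd n A k y (evO 𝒢 U y hy s).val : Twist.Loc 𝒢 y) := by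
    intro k
    refine (val_mulA 𝒢 𝒢 1 (X k) (X_mem k) _ _ (by norm_num) U _ y hy).trans ?_
    refine Eq.trans ?_ (smul_eq_mk_mul n A y (X k) _)
    congr 1
    exact (val_unit1 n A U _ y hy).trans (PnDerB.val_dK n A k U s y hy)
  refine (Finset.sum_congr rfl (fun k _ => h1 k)).trans ?_
  exact PnDerB.euler n A y (evO 𝒢 U y hy s)

theorem ε_α_d [QuasiSeparated (toSpecR 𝒢)] (U : (Proj 𝒢).Opens) (s : Γ(Proj 𝒢, U)) :
    appLin (ε n A) U (appLin (α n A) U ((dOmega (toSpecR 𝒢)).app U s)) = 0 := by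
  rw [α_app]
  show appLin (inv (θinv n A)) U (appLin (projC 𝒢 𝒢 (n + 1) 0 ((0 : ℤ) - ((0 : ℕ) : ℤ))
    ⟨∅, Groth.Agent.Helper1.KzMult.empty_mem_idx (n + 1)⟩) U
      (appLin (dM n A 0) U _)) = 0
  rw [map_sum, map_sum]
  have h : ∀ k : Fin (n + 1),
      appLin (projC 𝒢 𝒢 (n + 1) 0 ((0 : ℤ) - ((0 : ℕ) : ℤ))
        ⟨∅, Groth.Agent.Helper1.KzMult.empty_mem_idx (n + 1)⟩) U
      (appLin (dM n A 0) U
        (appLin (inclC 𝒢 𝒢 (n + 1) 1 ((0 : ℤ) - ((1 : ℕ) : ℤ)) (finEquiv (n + 1) k)) U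
          (appLin (αk n A k) U ((dOmega (toSpecR 𝒢)).app U s)))) =
      appLin (mulA 𝒢 𝒢 1 (X k) (X_mem k) ((0 : ℤ) - ((0 + 1 : ℕ) : ℤ))
        ((0 : ℤ) - ((0 : ℕ) : ℤ)) (by norm_num)) U
      (appLin (unit1 n A) U ((PnDerB.dK n A k).app U s)) := by
    intro k
    refine (proj_dM0_inclC n A U k _).trans ?_
    exact congrArg _ (αk_d n A k U s)
  rw [Finset.sum_congr rfl (fun k _ => h k), euler_sect, map_zero]

/-- the Euler embedding lands in the kernel of the Euler map -/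
theorem α_ε [QuasiSeparated (toSpecR 𝒢)] : α n A ≫ ε n A = 0 := by
  obtain ⟨a, -, huniq⟩ := Groth.Agent.Lead.OmegaUnivA.isUniversal (toSpecR 𝒢) _
    ((dOmega (toSpecR 𝒢)).postcomp
      (0 : Omega.sheaf (toSpecR 𝒢) ⟶ Coh.structureModule (Proj 𝒢)).val)
  have h1 : α n A ≫ ε n A = a := by
    apply huniq
    rw [Groth.Agent.Lead.DerA.postcomp_eq_iff]
    intro U s
    refine (ε_α_d n A U s).trans ?_
    rfl
  have h2 : (0 : Omega.sheaf (toSpecR 𝒢) ⟶ Coh.structureModule (Proj 𝒢)) = a := huniq _ rfl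
  rw [h1, ← h2]

/-- the comparison `Ω → ker ε` -/
noncomputable def β [QuasiSeparated (toSpecR 𝒢)] : Omega.sheaf (toSpecR 𝒢) ⟶ kernel (ε n A) :=
  kernel.lift (ε n A) (α n A) (α_ε n A)

theorem β_ι [QuasiSeparated (toSpecR 𝒢)] : β n A ≫ kernel.ι (ε n A) = α n A :=
  kernel.lift_ι _ _ _

end Groth.Agent.Helper6.PnEulerC
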