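import Mathlib
import Groth.Agent.Helper6.PnEulerC

set_option autoImplicit false
set_option linter.style.haveILetI false
set_option linter.unusedSectionVars false
set_option linter.unusedVariables false
set_option linter.unusedSimpArgs false

/-!
# The Euler sequence on the charts
-/

namespace Groth.Agent.Helper6.PnEulerD

open CategoryTheory CategoryTheory.Limits AlgebraicGeometry Opposite TopologicalSpace MvPolynomial
open Groth.Agent.Helper1.GrT Groth.Agent.Helper1.TwistMul Groth.Agent.Helper1.ProjO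
  Groth.Agent.Helper1.KzAlg Groth.Agent.Helper1.KzSheaf Groth.Agent.Helper1.KzMain
  Groth.Agent.Helper1.KzMult Groth.Agent.Helper1.TildeFun Groth.Agent.Helper1.ProjSpR
open PnFrame PnFrameB PnFrameC PnIdx PnExtB PnEulerA PnEulerC
open OmegaSh

universe u

variable (n : ℕ) (A : Type u) [CommRing A]

local notation "𝒢" => CohB1.polyGrading n A

variable {n A}

/-- the partial derivatives of the affine coordinates -/
theorem dK_yv (j : Idx n A) (k l : Fin (n + 1)) :
    appLin (unit1 n A) (B n A j) ((PnDerB.dK n A k).app (B n A j) (yv j l)) =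
      ((if k = l then (1 : Γ(Proj 𝒢, B n A j)) else 0) - (if k = j.i then yv j l else 0)) •
        eS 𝒢 (P 1 j) := by
  apply sect_ext' (𝒜 := 𝒢) (ℳ := 𝒢)
  intro y hy
  refine (val_unit1 n A (B n A j) _ y hy).trans ?_
  refine (PnDerB.val_dK n A k (B n A j) (yv j l) y hy).trans ?_
  refine Eq.trans ?_ (val_smul 𝒢 𝒢 _ (B n A j) _ _ y hy).symm
  have h1 : (evO 𝒢 (B n A j) y hy (yv j l)).val = mkO y (X l) (X j.i) (X_notMem j y hy) := by
    unfold yv
    rw [evO_frO]
  rw [h1]
  unfold mkO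
  rw [PnDerB.pd_mk]
  refine Eq.trans ?_ (toLoc_smul 𝒢 y _ _).symm
  show _ = _ * (Localization.mk (1 : MvPolynomial (Fin (n + 1)) A)
    ⟨X j.i ^ 1, PnFrameB.pow_notMem 𝒢 (B n A j) (X j.i) (X_notMem j) 1 y hy⟩ : Twist.Loc 𝒢 y)
  rw [map_sub, HomogeneousLocalization.val_sub]
  by_cases hkl : k = l
  · by_cases hki : k = j.i
    · rw [if_pos hkl, if_pos hki, h1, map_one, HomogeneousLocalization.val_one]
      subst hkl
      subst hki
      unfold mkO
      rw [show (Localization.mk (X j.i) ⟨X j.i, X_notMem j y hy⟩ : Twist.Loc 𝒢 y) = 1 from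
        Localization.mk_self (⟨X j.i, X_notMem j y hy⟩ :
          y.asHomogeneousIdeal.toIdeal.primeCompl)]
      simp only [pderiv_X_self, mul_one, sub_self, Localization.mk_zero, zero_mul]
    · rw [if_pos hkl, if_neg hki, map_one, HomogeneousLocalization.val_one, map_zero,
        HomogeneousLocalization.val_zero, sub_zero, one_mul]
      subst hkl
      rw [pderiv_X_self, pderiv_X_of_ne (Ne.symm hki), mul_zero, sub_zero, mul_one,
        Localization.mk_eq_mk_iff, Localization.r_iff_exists]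
      refine ⟨1, ?_⟩
      simp only [OneMemClass.coe_one, one_mul, Submonoid.coe_mul, pow_one, mul_one]
  · by_cases hki : k = j.i
    · rw [if_neg hkl, if_pos hki, h1, map_zero, HomogeneousLocalization.val_zero, zero_sub]
      subst hki
      unfold mkO
      rw [pderiv_X_self, pderiv_X_of_ne (Ne.symm hkl), mul_zero, zero_sub, mul_one,
        neg_mul, Localization.mk_mul, ← Localization.neg_mk, neg_inj, Localization.mk_eq_mk_iff,
        Localization.r_iff_exists]
      refine ⟨1, ?_⟩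
      simp only [OneMemClass.coe_one, one_mul, Submonoid.coe_mul, pow_one, mul_one]
    · rw [if_neg hkl, if_neg hki, map_zero, HomogeneousLocalization.val_zero, sub_self, zero_mul,
        pderiv_X_of_ne (Ne.symm hkl), pderiv_X_of_ne (Ne.symm hki), mul_zero, mul_zero, sub_self,
        Localization.mk_zero]

/-- the Euler embedding on the differentials of the affine coordinates -/
theorem α_d_yv [QuasiSeparated (toSpecR 𝒢)] (j : Idx n A) (l : Fin (n + 1)) :
    appLin (α n A) (B n A j) ((dOmega (toSpecR 𝒢)).app (B n A j) (yv j l)) =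
      bE j l - yv j l • bE j j.i := by
  rw [α_app]
  have h : ∀ k : Fin (n + 1),
      appLin (inclC 𝒢 𝒢 (n + 1) 1 ((0 : ℤ) - ((1 : ℕ) : ℤ)) (finEquiv (n + 1) k)) (B n A j)
        (appLin (αk n A k) (B n A j) ((dOmega (toSpecR 𝒢)).app (B n A j) (yv j l))) =
      ((if k = l then (1 : Γ(Proj 𝒢, B n A j)) else 0) - (if k = j.i then yv j l else 0)) •
        bE j k := by
    intro k
    have e1 : appLin (αk n A k) (B n A j) ((dOmega (toSpecR 𝒢)).app (B n A j) (yv j l)) =
        ((if k = l then (1 : Γ(Proj 𝒢, B n A j)) else 0) - (if k = j.i then yv j l else 0)) •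
          eS 𝒢 (P 1 j) := (αk_d n A k (B n A j) (yv j l)).trans (dK_yv j k l)
    rw [e1, bE_apply]
    exact (appLin (inclC 𝒢 𝒢 (n + 1) 1 ((0 : ℤ) - ((1 : ℕ) : ℤ)) (finEquiv (n + 1) k))
      (B n A j)).map_smul _ _
  rw [Finset.sum_congr rfl (fun k _ => h k)]
  simp only [sub_smul, Finset.sum_sub_distrib, ite_smul, one_smul, zero_smul]
  rw [Finset.sum_ite_eq' Finset.univ l, if_pos (Finset.mem_univ l),
    Finset.sum_ite_eq' Finset.univ j.i, if_pos (Finset.mem_univ _)]

/-- the combinations of the differentials of the affine coordinates -/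
noncomputable def G [QuasiSeparated (toSpecR 𝒢)] (j : Idx n A)
    (c : Fin (n + 1) → Γ(Proj 𝒢, B n A j)) : (Omega.sheaf (toSpecR 𝒢)).val.obj (op (B n A j)) :=
  ∑ l : Fin (n + 1), c l • ((dOmega (toSpecR 𝒢)).app (B n A j) (yv j l) :
    (Omega.sheaf (toSpecR 𝒢)).val.obj (op (B n A j)))

theorem exists_G [QuasiSeparated (toSpecR 𝒢)] (j : Idx n A)
    (ω : (Omega.sheaf (toSpecR 𝒢)).val.obj (op (B n A j))) : ∃ c, ω = G j c := by
  have h1 := Groth.Agent.Lead.OmegaUnivA.span_dOmega (toSpecR 𝒢) (isAffineOpen_B j)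
    (isAffineOpen_top (Spec (CommRingCat.of A))) (fun _ _ => trivial)
  have h2 : Submodule.span Γ(Proj 𝒢, B n A j)
      (Set.range (fun l => (dOmega (toSpecR 𝒢)).app (B n A j) (PnGenB.yv j l))) = ⊤ := by
    rw [eq_top_iff, ← h1, Submodule.span_le]
    rintro _ ⟨s, rfl⟩
    exact PnGenB.der_mem_span (dOmega (toSpecR 𝒢)) j s
  have h3 : (ω : Γ(Omega.sheaf (toSpecR 𝒢), B n A j)) ∈ Submodule.span Γ(Proj 𝒢, B n A j)
      (Set.range (fun l => (dOmega (toSpecR 𝒢)).app (B n A j) (PnGenB.yv j l))) := by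
    rw [h2]
    trivial
  obtain ⟨c, hc⟩ := (Submodule.mem_span_range_iff_exists_fun (R := Γ(Proj 𝒢, B n A j))
    (M := Γ(Omega.sheaf (toSpecR 𝒢), B n A j))).1 h3
  exact ⟨c, hc.symm⟩

theorem α_G [QuasiSeparated (toSpecR 𝒢)] (j : Idx n A) (c : Fin (n + 1) → Γ(Proj 𝒢, B n A j)) :
    appLin (α n A) (B n A j) (G j c) =
      ∑ l : Fin (n + 1), c l • bE j l - (∑ l : Fin (n + 1), c l * yv j l) • bE j j.i := by
  unfold G
  rw [map_sum, Finset.sum_smul, ← Finset.sum_sub_distrib]
  apply Finset.sum_congr rfl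
  intro l _
  refine ((appLin (α n A) (B n A j)).map_smul (c l) _).trans ?_
  rw [α_d_yv, smul_sub, mul_smul]

theorem yv_self (j : Idx n A) : yv j j.i = 1 := by
  unfold yv
  exact frO_self 𝒢 (B n A j) (X j.i) (X_mem j.i) (X_notMem j)

theorem G_eq_zero [QuasiSeparated (toSpecR 𝒢)] (j : Idx n A)
    (c : Fin (n + 1) → Γ(Proj 𝒢, B n A j)) (hc : ∀ l, l ≠ j.i → c l = 0) : G j c = 0 := by
  unfold G
  apply Finset.sum_eq_zero
  intro l _
  by_cases hl : l = j.i
  · subst hl
    have h1 : ((dOmega (toSpecR 𝒢)).app (B n A j) (yv j j.i) :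
        (Omega.sheaf (toSpecR 𝒢)).val.obj (op (B n A j))) = 0 := by
      rw [yv_self, Der.app_apply, (dOmega (toSpecR 𝒢)).d_one]
      rfl
    have h2 : c j.i • (0 : (Omega.sheaf (toSpecR 𝒢)).val.obj (op (B n A j))) = 0 :=
      smul_zero (c j.i)
    exact (congrArg (fun t : (Omega.sheaf (toSpecR 𝒢)).val.obj (op (B n A j)) => c j.i • t)
      h1).trans h2
  · rw [hc l hl]
    exact zero_smul _ _

theorem sum_sub_smul (j : Idx n A) (c : Fin (n + 1) → Γ(Proj 𝒢, B n A j))
    (S : Γ(Proj 𝒢, B n A j)) :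
    ∑ l : Fin (n + 1), (c l - (if l = j.i then S else 0)) • bE j l =
      ∑ l : Fin (n + 1), c l • bE j l - S • bE j j.i := by
  simp only [sub_smul, Finset.sum_sub_distrib, ite_smul, zero_smul]
  rw [Finset.sum_ite_eq' Finset.univ j.i, if_pos (Finset.mem_univ _)]

theorem β_injective [QuasiSeparated (toSpecR 𝒢)] (j : Idx n A) :
    Function.Injective (appLin (β n A) (B n A j)) := by
  rw [injective_iff_map_eq_zero]
  intro ω hω
  obtain ⟨c, rfl⟩ := exists_G j ω
  have h1 : appLin (α n A) (B n A j) (G j c) = 0 := by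
    rw [← β_ι, appLin_comp, LinearMap.comp_apply, hω, map_zero]
  rw [α_G, ← sum_sub_smul] at h1
  have h2 := Fintype.linearIndependent_iff.1 (bE j).linearIndependent _ h1
  apply G_eq_zero
  intro l hl
  have h3 := h2 l
  rw [if_neg hl, sub_zero] at h3
  exact h3

theorem ε_sum (j : Idx n A) (c : Fin (n + 1) → Γ(Proj 𝒢, B n A j)) :
    formOf (ε n A) (B n A j) (∑ l : Fin (n + 1), c l • bE j l) =
      ∑ l : Fin (n + 1), c l * yv j l := by
  rw [map_sum]
  apply Finset.sum_congr rfl
  intro l _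
  rw [map_smul, ε_bE, smul_eq_mul]

theorem β_surjective [QuasiSeparated (toSpecR 𝒢)] (j : Idx n A) :
    Function.Surjective (appLin (β n A) (B n A j)) := by
  intro z
  set v := appLin (kernel.ι (ε n A)) (B n A j) z with hv
  have hεv : formOf (ε n A) (B n A j) v = 0 := by
    have h := congrArg (fun φ => appLin φ (B n A j) z) (kernel.condition (ε n A))
    exact h
  set c : Fin (n + 1) → Γ(Proj 𝒢, B n A j) := fun l => (bE j).repr v l with hc
  have hsum : ∑ l : Fin (n + 1), c l • bE j l = v := (bE j).sum_repr v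
  have hS : ∑ l : Fin (n + 1), c l * yv j l = 0 := by
    rw [← ε_sum, hsum, hεv]
  refine ⟨G j c, ?_⟩
  apply app_kernel_ι_injective (ε n A) (B n A j)
  rw [← LinearMap.comp_apply, ← appLin_comp, β_ι, α_G, hS, zero_smul, sub_zero, hsum]

theorem β_bijective [QuasiSeparated (toSpecR 𝒢)] (j : Idx n A) :
    Function.Bijective ((β n A).app (B n A j)) :=
  ⟨β_injective j, β_surjective j⟩

instance isIso_β [QuasiSeparated (toSpecR 𝒢)] : IsIso (β n A) := by
  apply Groth.Agent.Helper1.BasisIso.isIso_of_bijective_on_basis (β n A) (Set.range (B n A))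
  · intro U x hx
    obtain ⟨_, ⟨i, rfl⟩, hxi, hiU⟩ := Opens.isBasis_iff_nbhd.1 isBasis hx
    exact ⟨B n A i, ⟨i, rfl⟩, hxi, hiU⟩
  · rintro _ ⟨j, rfl⟩
    exact β_bijective j

/-- **the Euler sequence**: `Ω_{P^n/A}` is the kernel of the Euler map -/
noncomputable def eulerIso [QuasiSeparated (toSpecR 𝒢)] :
    Omega.sheaf (toSpecR 𝒢) ≅ kernel (ε n A) := asIso (β n A)

end Groth.Agent.Helper6.PnEulerD
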