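import Mathlib
import Groth.Agent.Helper6.PnEulerD
import Groth.Agent.Helper6.PnCohD

set_option autoImplicit false
set_option linter.style.haveILetI false
set_option linter.unusedSectionVars false
set_option linter.unusedVariables false
set_option linter.unusedSimpArgs false

/-!
# Exterior powers of the differentials of projective space are the Koszul kernels
-/

namespace Groth.Agent.Helper6.PnHodgeA

open CategoryTheory CategoryTheory.Limits AlgebraicGeometry Opposite TopologicalSpace MvPolynomial
open Groth.Agent.Helper1.ProjSpR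
open PnFrame PnFrameC PnExtB PnEulerA PnEulerB PnEulerD

universe u

section general

variable {X : Scheme.{u}} {ι : Type u} (B : ι → X.Opens)

/-- the structure sheaf is a zeroth exterior power -/
theorem isExtPowOn_zero (E : X.Modules) : IsExtPowOn B 0 E (Coh.structureModule X) := by
  refine ⟨fun i => (exteriorPower.zeroEquiv Γ(X, B i) (E.val.obj (op (B i)))).symm, ?_⟩
  intro i j h e
  show (Coh.structureModule X).val.map (homOfLE h).op
      (exteriorPower.zeroEquiv Γ(X, B i) (E.val.obj (op (B i)))
        (exteriorPower.ιMulti Γ(X, B i) 0 e)) =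
    exteriorPower.zeroEquiv Γ(X, B j) (E.val.obj (op (B j)))
      (exteriorPower.ιMulti Γ(X, B j) 0 (fun a => E.val.map (homOfLE h).op (e a)))
  rw [exteriorPower.zeroEquiv_ιMulti, exteriorPower.zeroEquiv_ιMulti]
  exact map_one (X.presheaf.map (homOfLE h).op).hom

end general

variable (n : ℕ) (A : Type u) [CommRing A]

local notation "𝒢" => CohB1.polyGrading n A

/-- a zeroth exterior power is `M_0` -/
theorem nonempty_iso_M0 (E L : (Proj 𝒢).Modules) (hL : ExtPow.IsExtPow 0 E L) :
    Nonempty (L ≅ M n A 0) := by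
  have h1 : IsExtPowOn (B n A) 0 E L := IsExtPowOn.of_isExtPow isAffineOpen_B hL
  obtain ⟨e⟩ := h1.nonempty_iso isBasis (isExtPowOn_zero (B n A) E)
  exact ⟨e ≪≫ asIso (θinv n A) ≪≫ (PnCohD.isoM0 n A).symm⟩

/-- **the exterior powers of `Ω_{P^n/A}` are the Koszul kernels** -/
theorem nonempty_iso_K [QuasiSeparated (toSpecR 𝒢)] (p : ℕ) (L : (Proj 𝒢).Modules)
    (hL : ExtPow.IsExtPow (p + 1) (Omega.sheaf (toSpecR 𝒢)) L) :
    Nonempty (L ≅ kernel (dM n A p)) := by
  have h1 : IsExtPowOn (B n A) (p + 1) (kernel (ε n A)) (kernel (dM n A p)) := isExtPowOn_ker p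
  have h2 : IsExtPowOn (B n A) (p + 1) (Omega.sheaf (toSpecR 𝒢)) (kernel (dM n A p)) :=
    h1.of_iso (eulerIso (n := n) (A := A)).symm
  have h3 : IsExtPowOn (B n A) (p + 1) (Omega.sheaf (toSpecR 𝒢)) L :=
    IsExtPowOn.of_isExtPow isAffineOpen_B hL
  exact h3.nonempty_iso isBasis h2

end Groth.Agent.Helper6.PnHodgeA
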