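import Mathlib
import Groth.Agent.Helper1.KzLin3
import Groth.Agent.Helper1.TwistExact
import Groth.Agent.Helper6.PnCohC
import Groth.Agent.Helper6.PnCohD
import Groth.Agent.Helper6.PnHodgeA

set_option autoImplicit false
set_option linter.style.haveILetI false
set_option linter.unusedSectionVars false
set_option linter.unusedVariables false
set_option linter.unusedSimpArgs false

/-!
# Vanishing of the higher cohomology of `Ω^p(k)`, `k > 0`, on projective space
-/

namespace Groth.Agent.Helper6.PnTwA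

open CategoryTheory CategoryTheory.Limits AlgebraicGeometry Opposite TopologicalSpace MvPolynomial
open Groth.Agent.Helper1.KzAlg Groth.Agent.Helper1.KzSheaf Groth.Agent.Helper1.KzMain
  Groth.Agent.Helper1.HHLes Groth.Agent.Helper1.ProjTop Groth.Agent.Helper1.HHSum
open PnFrameC

universe u

section abstract

variable (A : Type u) [CommRing A] {X : Scheme.{u}} [X.Over (Spec (CommRingCat.of A))]
variable (C : ℕ → X.Modules) (d : ∀ p, C (p + 1) ⟶ C p)
  (hd : ∀ p, d (p + 1) ≫ d p = 0)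
  (hex : ∀ p, (ShortComplex.mk (d (p + 1)) (d p) (hd p)).Exact)

include A hex in
/-- the higher cohomology of the kernels of a finite left resolution all of whose terms have no
higher cohomology vanishes -/
theorem subsingleton_HH_kernel (r : ℕ) (hzero : ∀ p, r < p → IsZero (C p))
    (hacyc : ∀ p q, 1 ≤ q → Subsingleton (Coh.HH X (C (p + 2)) q)) :
    ∀ (j p q : ℕ), r ≤ p + 1 + j → 1 ≤ q → Subsingleton (Coh.HH X (kernel (d p)) q) := by
  intro j
  induction j with
  | zero =>
    intro p q hp hq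
    exact Groth.Agent.Helper1.KzChase.subsingleton_HH_of_isZero
      (PnCohC.isZero_kernel C d hd hex r hzero p (by omega)) q
  | succ j ih =>
    intro p q hp hq
    haveI := ih (p + 1) (q + 1) (by omega) (by omega)
    obtain ⟨e⟩ := PnCohC.nonempty_shift A C d hd hex p q (hacyc p q hq) (hacyc p (q + 1) (by omega))
    exact e.toEquiv.subsingleton

end abstract

variable (n : ℕ) (A : Type u) [CommRing A]

local notation "𝒢" => CohB1.polyGrading n A

attribute [local instance] Groth.Agent.Helper1.ProjTop.overR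

/-- the higher cohomology of `O(d)~` vanishes for `-(n+1) < d` -/
theorem subsingleton_HH_tilde_pos (hn : 1 ≤ n) (d : ℤ) (hd' : -((n : ℤ) + 1) < d) (q : ℕ)
    (hq : 1 ≤ q) : Subsingleton (Coh.HH (Proj 𝒢) (GrTilde.tilde 𝒢 𝒢 d) q) := by
  by_cases hqn : q = n
  · subst hqn
    exact subsingleton_top_tilde q A d (by omega) hd'
  · exact subsingleton_mid_tilde n A d q hq hqn

/-- the twists of the Koszul terms have no higher cohomology -/
theorem subsingleton_HH_M_tw (hn : 1 ≤ n) (p : ℕ) (hp : p ≤ n + 1) (k : ℤ) (hk : 0 < k) (q : ℕ)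
    (hq : 1 ≤ q) :
    Subsingleton (Coh.HH (Proj 𝒢) (CohB1.tensorMod (M n A p) (Twist.twistProjSpace n A k)) q) := by
  obtain ⟨e1⟩ := nonempty_C_iso_sigma 𝒢 𝒢 (n + 1) p ((0 : ℤ) - p)
  have e1' : CohB1.tensorMod (M n A p) (Twist.twistProjSpace n A k) ≅
      CohB1.tensorMod (∐ fun _ : Fin (Nat.choose (n + 1) p) => GrTilde.tilde 𝒢 𝒢 ((0 : ℤ) - p))
        (Twist.twistProjSpace n A k) :=
    PicGrp.tensorModIso e1 (Iso.refl _)
  obtain ⟨e2⟩ := Groth.Agent.Helper1.TwistExact.nonempty_sigma_tensor_iso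
    (fun _ : Fin (Nat.choose (n + 1) p) => GrTilde.tilde 𝒢 𝒢 ((0 : ℤ) - p))
    (Twist.twistProjSpace n A k)
  obtain ⟨e3⟩ := Groth.Agent.Helper1.TwistMul.nonempty_tensor_twist_iso 𝒢 𝒢
    (Groth.Agent.Helper1.SerreFin.hcov_poly n A) ((0 : ℤ) - p) k (k - p) (by ring)
  have e : CohB1.tensorMod (M n A p) (Twist.twistProjSpace n A k) ≅
      ∐ fun _ : Fin (Nat.choose (n + 1) p) => GrTilde.tilde 𝒢 𝒢 (k - p) :=
    e1' ≪≫ e2 ≪≫ Sigma.mapIso (fun _ => e3)
  haveI : Subsingleton (Coh.HH (Proj 𝒢)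
      (∐ fun _ : Fin (Nat.choose (n + 1) p) => GrTilde.tilde 𝒢 𝒢 (k - p)) q) :=
    Groth.Agent.Helper1.SerreVan.subsingleton_HH_sigma _ q
      (fun _ => subsingleton_HH_tilde_pos n A hn (k - p) (by omega) q hq)
  exact (HHlinEquiv A e q).toEquiv.subsingleton

open Groth.Agent.Helper1.ProjSpR PnHodgeA in
/-- **`H^q(P^n, Ω^p(k)) = 0` for `q > 0`, `k > 0`** -/
theorem hodge_twist (hn : 1 ≤ n) [QuasiSeparated (toSpecR 𝒢)] (p : ℕ)
    (L : (Proj 𝒢).Modules) (hL : ExtPow.IsExtPow p (Omega.sheaf (toSpecR 𝒢)) L) (k : ℤ)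
    (hk : 0 < k) (q : ℕ) (hq : 0 < q) :
    Subsingleton (Coh.HH (Proj 𝒢) (CohB1.tensorMod L (Twist.twistProjSpace n A k)) q) := by
  have hB : PicF.IsInvertible (Twist.twistProjSpace n A k) :=
    Groth.Agent.Helper1.SerreVan.isInvertible_twist n A k
  cases p with
  | zero =>
    obtain ⟨e⟩ := nonempty_iso_M0 n A _ L hL
    haveI := subsingleton_HH_M_tw n A hn 0 (by omega) k hk q hq
    exact (HHlinEquiv A (PicGrp.tensorModIso e (Iso.refl (Twist.twistProjSpace n A k)))
      q).toEquiv.subsingleton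
  | succ p =>
    obtain ⟨e⟩ := nonempty_iso_K n A p L hL
    let F : (Proj 𝒢).Modules ⥤ (Proj 𝒢).Modules :=
      DCoh.tensorRightMod (Twist.twistProjSpace n A k)
    haveI : PreservesFiniteLimits F :=
      Groth.Agent.Helper1.TwistExact.preservesFiniteLimits_tensorRightMod _ hB
    haveI : PreservesFiniteColimits F :=
      Groth.Agent.Helper1.TwistExact.preservesFiniteColimits_tensorRightMod _ hB
    haveI : F.Additive := DCoh.additive_tensorRightMod _
    have hd' : ∀ j, F.map (dM n A (j + 1)) ≫ F.map (dM n A j) = 0 := by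
      intro j
      rw [← F.map_comp, PnCohD.dM_comp, F.map_zero]
    have hex' : ∀ j, (ShortComplex.mk (F.map (dM n A (j + 1))) (F.map (dM n A j)) (hd' j)).Exact :=
      fun j => (PnCohD.dM_exact n A j).map F
    have hz : ∀ j, n + 1 < j → IsZero (F.obj (M n A j)) :=
      fun j hj => F.map_isZero (Cs_isZero 𝒢 𝒢 (n + 1) 0 j hj)
    have hac : ∀ j q, 1 ≤ q → Subsingleton (Coh.HH (Proj 𝒢) (F.obj (M n A (j + 2))) q) := by
      intro j q hq
      by_cases hj : j + 2 ≤ n + 1
      · exact subsingleton_HH_M_tw n A hn (j + 2) hj k hk q hq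
      · exact Groth.Agent.Helper1.KzChase.subsingleton_HH_of_isZero (hz (j + 2) (by omega)) q
    haveI := subsingleton_HH_kernel A (fun j => F.obj (M n A j)) (fun j => F.map (dM n A j)) hd' hex'
      (n + 1) hz hac (n + 1) p q (by omega) hq
    have e2 : CohB1.tensorMod L (Twist.twistProjSpace n A k) ≅ kernel (F.map (dM n A p)) :=
      F.mapIso e ≪≫ PreservesKernel.iso F (dM n A p)
    exact (HHlinEquiv A e2 q).toEquiv.subsingleton

end Groth.Agent.Helper6.PnTwA
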