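import Mathlib
import Groth.Agent.S0844
import Groth.Agent.Helper1.KzLin3
import Groth.Agent.Helper1.EulerCoh
import Groth.Agent.Helper6.HomogRank
import Groth.Agent.Helper6.PnTwA

set_option autoImplicit false
set_option linter.style.haveILetI false
set_option linter.unusedSectionVars false
set_option linter.unusedVariables false
set_option linter.unusedSimpArgs false

/-!
# Dimensions of the cohomology of the twisted Koszul terms on projective space over a field
-/

namespace Groth.Agent.Helper6.BottC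

open CategoryTheory CategoryTheory.Limits AlgebraicGeometry Opposite TopologicalSpace MvPolynomial
open Groth.Agent.Helper1.KzAlg Groth.Agent.Helper1.KzSheaf Groth.Agent.Helper1.KzMain
  Groth.Agent.Helper1.HHLes Groth.Agent.Helper1.ProjTop Groth.Agent.Helper1.HHSum
open PnFrameC

universe u

/-- the dimension of `H^q(P^n, O(m))` -/
def ho (n q : ℕ) (m : ℤ) : ℕ :=
  if q = 0 ∧ 0 ≤ m then Nat.choose (m.toNat + n) n
  else if q = n ∧ m ≤ -((n : ℤ) + 1) then Nat.choose ((-m - n - 1).toNat + n) n else 0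

variable (n : ℕ) (k : Type u) [Field k]

local notation "𝒢" => CohB1.polyGrading n k

attribute [local instance] Groth.Agent.Helper1.ProjTop.overR

theorem finite_homog (d : ℕ) :
    Module.Finite k ↥(MvPolynomial.homogeneousSubmodule (Fin (n + 1)) k d) := by
  apply Module.finite_of_finrank_pos
  rw [HomogRank.finrank_homogeneousSubmodule]
  exact Nat.choose_pos (by omega)

/-- the cohomology of `O(m)` on `P^n_k` -/
theorem finrank_HH_twist (m : ℤ) (q : ℕ) :
    Module.Finite k (Coh.HH (CohB1.ProjSpace n k) (Twist.twistProjSpace n k m) q) ∧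
      Module.finrank k (Coh.HH (CohB1.ProjSpace n k) (Twist.twistProjSpace n k m) q) =
        ho n q m := by
  unfold ho
  by_cases h0 : q = 0 ∧ 0 ≤ m
  · rw [if_pos h0]
    obtain ⟨rfl, hm⟩ := h0
    obtain ⟨dd, rfl⟩ : ∃ dd : ℕ, m = dd := ⟨m.toNat, (Int.toNat_of_nonneg hm).symm⟩
    obtain ⟨e⟩ := nonempty_H0 n k dd
    haveI := finite_homog n k dd
    refine ⟨Module.Finite.equiv e.symm, ?_⟩
    rw [e.finrank_eq, HomogRank.finrank_homogeneousSubmodule, Int.toNat_natCast]
  · rw [if_neg h0]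
    by_cases h1 : q = n ∧ m ≤ -((n : ℤ) + 1)
    · rw [if_pos h1]
      obtain ⟨rfl, hm⟩ := h1
      obtain ⟨kk, rfl⟩ : ∃ kk : ℕ, m = -((q : ℤ) + 1 + kk) :=
        ⟨(-m - q - 1).toNat, by rw [Int.toNat_of_nonneg (by omega)]; ring⟩
      obtain ⟨e⟩ := nonempty_top q k kk
      haveI := finite_homog q k kk
      refine ⟨Module.Finite.equiv e.symm, ?_⟩
      rw [e.finrank_eq, HomogRank.finrank_homogeneousSubmodule]
      congr 2
      omega
    · rw [if_neg h1]
      haveI : Subsingleton (Coh.HH (CohB1.ProjSpace n k) (Twist.twistProjSpace n k m) q) :=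
        Groth.Agent.S0844.result k n m q h0 h1
      exact ⟨inferInstance, Module.finrank_zero_of_subsingleton⟩

/-- the twisted Koszul terms are sums of twisting sheaves -/
theorem nonempty_M_tw_iso (j : ℕ) (dd : ℤ) :
    Nonempty (CohB1.tensorMod (M n k j) (Twist.twistProjSpace n k dd) ≅
      ∐ fun _ : Fin (Nat.choose (n + 1) j) => Twist.twistProjSpace n k (dd - j)) := by
  obtain ⟨e1⟩ := nonempty_C_iso_sigma 𝒢 𝒢 (n + 1) j ((0 : ℤ) - j)
  have e1' : CohB1.tensorMod (M n k j) (Twist.twistProjSpace n k dd) ≅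
      CohB1.tensorMod (∐ fun _ : Fin (Nat.choose (n + 1) j) => GrTilde.tilde 𝒢 𝒢 ((0 : ℤ) - j))
        (Twist.twistProjSpace n k dd) :=
    PicGrp.tensorModIso e1 (Iso.refl _)
  obtain ⟨e2⟩ := Groth.Agent.Helper1.TwistExact.nonempty_sigma_tensor_iso
    (fun _ : Fin (Nat.choose (n + 1) j) => GrTilde.tilde 𝒢 𝒢 ((0 : ℤ) - j))
    (Twist.twistProjSpace n k dd)
  obtain ⟨e3⟩ := Groth.Agent.Helper1.TwistMul.nonempty_tensor_twist_iso 𝒢 𝒢
    (Groth.Agent.Helper1.SerreFin.hcov_poly n k) ((0 : ℤ) - j) dd (dd - j) (by ring)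
  exact ⟨e1' ≪≫ e2 ≪≫ Sigma.mapIso (fun _ => e3 ≪≫
    (Groth.Agent.Helper1.TwistIso.twistIsoTilde 𝒢 (dd - j)).symm)⟩

/-- the cohomology of the twisted Koszul terms -/
theorem finrank_HH_M_tw (j : ℕ) (dd : ℤ) (q : ℕ) :
    Module.Finite k (Coh.HH (Proj 𝒢) (CohB1.tensorMod (M n k j) (Twist.twistProjSpace n k dd)) q) ∧
      Module.finrank k (Coh.HH (Proj 𝒢)
        (CohB1.tensorMod (M n k j) (Twist.twistProjSpace n k dd)) q) =
        Nat.choose (n + 1) j * ho n q (dd - j) := by
  obtain ⟨e⟩ := nonempty_M_tw_iso n k j dd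
  obtain ⟨hfin0, hrk0⟩ := finrank_HH_twist n k (dd - j) q
  have hfin : Module.Finite k (Coh.HH (Proj 𝒢) (Twist.twistProjSpace n k (dd - j)) q) := hfin0
  have hrk : Module.finrank k (Coh.HH (Proj 𝒢) (Twist.twistProjSpace n k (dd - j)) q) =
      ho n q (dd - j) := hrk0
  let e' := (HHlinEquiv k e q).trans (Groth.Agent.Helper1.EulerCoh.sigmaEquiv (A := k)
    (fun _ : Fin (Nat.choose (n + 1) j) => Twist.twistProjSpace n k (dd - j)) q)
  haveI : Module.Finite k (∀ _ : Fin (Nat.choose (n + 1) j),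
      Coh.HH (Proj 𝒢) (Twist.twistProjSpace n k (dd - j)) q) := Module.Finite.pi
  refine ⟨Module.Finite.equiv e'.symm, ?_⟩
  rw [e'.finrank_eq, Module.finrank_pi_fintype]
  simp only [Finset.sum_const, Finset.card_univ, Fintype.card_fin, smul_eq_mul]
  exact congrArg _ hrk0

end Groth.Agent.Helper6.BottC
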