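import Mathlib
import Groth.Agent.Helper6.BottB
import Groth.Agent.Helper6.BottC

set_option autoImplicit false
set_option linter.style.haveILetI false
set_option linter.unusedSectionVars false
set_option linter.unusedVariables false
set_option linter.unusedSimpArgs false

/-!
# The twisted Koszul complex on projective space and the cohomology of its kernels
-/

namespace Groth.Agent.Helper6.BottD

open CategoryTheory CategoryTheory.Limits AlgebraicGeometry Opposite TopologicalSpace MvPolynomial
open Groth.Agent.Helper1.KzAlg Groth.Agent.Helper1.KzSheaf Groth.Agent.Helper1.KzMain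
  Groth.Agent.Helper1.HHLes Groth.Agent.Helper1.ProjTop Groth.Agent.Helper1.HHSum
open PnFrameC BottA BottC

universe u

section arith

theorem ho_zero (n : ℕ) (hn : 1 ≤ n) (d j : ℕ) : ho n 0 ((d : ℤ) - j) = h n d j := by
  unfold ho h
  by_cases hjd : j ≤ d
  · rw [if_pos ⟨rfl, by omega⟩, if_pos hjd]
    congr 2
    omega
  · rw [if_neg (by omega), if_neg (by omega), if_neg hjd]

theorem ho_top_zero (n : ℕ) (hn : 1 ≤ n) (e : ℕ) (he : 1 ≤ e) :
    ho n n (-(e : ℤ) - ((0 : ℕ) : ℤ)) = (e - 1).choose n := by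
  unfold ho
  rw [if_neg (by omega)]
  by_cases h1 : n + 1 ≤ e
  · rw [if_pos ⟨rfl, by push_cast; omega⟩]
    congr 1
    push_cast
    omega
  · rw [if_neg (by push_cast; omega)]
    exact (Nat.choose_eq_zero_of_lt (by omega)).symm

theorem ho_top (n : ℕ) (hn : 1 ≤ n) (e p : ℕ) (hp : p < n) :
    ho n n (-(e : ℤ) - ((p + 1 : ℕ) : ℤ)) = h n e (n - p) := by
  unfold ho h
  rw [if_neg (by omega)]
  by_cases h1 : n - p ≤ e
  · rw [if_pos ⟨rfl, by push_cast; omega⟩, if_pos h1]
    congr 1
    push_cast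
    omega
  · rw [if_neg (by push_cast; omega), if_neg h1]

theorem ho_eq_zero (n q : ℕ) (m : ℤ) (h0 : ¬ (q = 0 ∧ 0 ≤ m)) (h1 : ¬ (q = n ∧ m ≤ -((n : ℤ) + 1))) :
    ho n q m = 0 := by
  unfold ho
  rw [if_neg h0, if_neg h1]

end arith

variable (n : ℕ) (k : Type u) [Field k] (dd : ℤ)

local notation "𝒢" => CohB1.polyGrading n k

attribute [local instance] Groth.Agent.Helper1.ProjTop.overR

/-- twisting by `O(dd)` -/
noncomputable def F : (Proj 𝒢).Modules ⥤ (Proj 𝒢).Modules :=
  DCoh.tensorRightMod (Twist.twistProjSpace n k dd)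

instance : PreservesFiniteLimits (F n k dd) :=
  Groth.Agent.Helper1.TwistExact.preservesFiniteLimits_tensorRightMod _
    (Groth.Agent.Helper1.SerreVan.isInvertible_twist n k dd)

instance : PreservesFiniteColimits (F n k dd) :=
  Groth.Agent.Helper1.TwistExact.preservesFiniteColimits_tensorRightMod _
    (Groth.Agent.Helper1.SerreVan.isInvertible_twist n k dd)

instance : (F n k dd).Additive := DCoh.additive_tensorRightMod _

/-- the terms of the twisted Koszul complex -/
noncomputable abbrev C' (j : ℕ) : (Proj 𝒢).Modules := (F n k dd).obj (M n k j)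

/-- the differentials of the twisted Koszul complex -/
noncomputable abbrev d' (j : ℕ) : C' n k dd (j + 1) ⟶ C' n k dd j := (F n k dd).map (dM n k j)

theorem d'_comp (j : ℕ) : d' n k dd (j + 1) ≫ d' n k dd j = 0 := by
  rw [← (F n k dd).map_comp, PnCohD.dM_comp, (F n k dd).map_zero]

theorem d'_exact (j : ℕ) :
    (ShortComplex.mk (d' n k dd (j + 1)) (d' n k dd j) (d'_comp n k dd j)).Exact :=
  (PnCohD.dM_exact n k j).map (F n k dd)

instance epi_d'0 : Epi (d' n k dd 0) := by
  haveI : PreservesColimitsOfShape WalkingSpan (F n k dd) :=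
    PreservesFiniteColimits.preservesFiniteColimits _
  haveI : Epi (dM n k 0) := PnCohD.epi_dM0 n k
  exact (F n k dd).map_epi (dM n k 0)

theorem isZero_C' (j : ℕ) (hj : n + 1 < j) : IsZero (C' n k dd j) :=
  (F n k dd).map_isZero (Cs_isZero 𝒢 𝒢 (n + 1) 0 j hj)

/-- the twisted kernels are the kernels of the twisted complex -/
noncomputable def kerIso (j : ℕ) :
    CohB1.tensorMod (kernel (dM n k j)) (Twist.twistProjSpace n k dd) ≅ kernel (d' n k dd j) :=
  PreservesKernel.iso (F n k dd) (dM n k j)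

theorem finrank_HH_C' (j q : ℕ) :
    Module.Finite k (Coh.HH (Proj 𝒢) (C' n k dd j) q) ∧
      Module.finrank k (Coh.HH (Proj 𝒢) (C' n k dd j) q) =
        Nat.choose (n + 1) j * ho n q (dd - j) :=
  finrank_HH_M_tw n k j dd q

theorem subsingleton_HH_C' (j q : ℕ) (h : ho n q (dd - j) = 0) :
    Subsingleton (Coh.HH (Proj 𝒢) (C' n k dd j) q) := by
  obtain ⟨hfin, hrk⟩ := finrank_HH_C' n k dd j q
  rw [h, mul_zero] at hrk
  exact Module.finrank_zero_iff.1 hrk

end Groth.Agent.Helper6.BottD
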