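import Mathlib
import Groth.Agent.Helper6.BottD

set_option autoImplicit false
set_option linter.style.haveILetI false
set_option linter.unusedSectionVars false
set_option linter.unusedVariables false
set_option linter.unusedSimpArgs false

/-!
# Bott's formula: the cohomology of the kernels of the twisted Koszul complex
-/

namespace Groth.Agent.Helper6.BottE

open CategoryTheory CategoryTheory.Limits AlgebraicGeometry Opposite TopologicalSpace MvPolynomial
open Groth.Agent.Helper1.KzAlg Groth.Agent.Helper1.KzSheaf Groth.Agent.Helper1.KzMain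
  Groth.Agent.Helper1.HHLes Groth.Agent.Helper1.ProjTop Groth.Agent.Helper1.HHSum
open PnFrameC BottA BottC BottD

universe u

variable (n : ℕ) (k : Type u) [Field k]

local notation "𝒢" => CohB1.polyGrading n k

attribute [local instance] Groth.Agent.Helper1.ProjTop.overR

/-- vanishing above the dimension -/
theorem subsingleton_HH_ker_gt (dd : ℤ) (p q : ℕ) (hq : n < q) :
    Subsingleton (Coh.HH (Proj 𝒢) (kernel (d' n k dd p)) q) := by
  refine BottB.subsingleton_HH_kernel_ge k (C' n k dd) (d' n k dd) (d'_comp n k dd)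
    (d'_exact n k dd) (n + 1) (n + 1) (isZero_C' n k dd) (fun j q' hq' => ?_) (n + 1) p q
    (by omega) (by omega)
  exact subsingleton_HH_C' n k dd (j + 2) q' (ho_eq_zero n q' _ (by omega) (by omega))

/-- vanishing of the higher cohomology for positive twists -/
theorem subsingleton_HH_ker_pos (hn : 1 ≤ n) (d : ℕ) (hd : 1 ≤ d) (p q : ℕ) (hq : 1 ≤ q) :
    Subsingleton (Coh.HH (Proj 𝒢) (kernel (d' n k (d : ℤ) p)) q) := by
  refine BottB.subsingleton_HH_kernel_ge k (C' n k (d : ℤ)) (d' n k (d : ℤ)) (d'_comp n k (d : ℤ))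
    (d'_exact n k (d : ℤ)) 1 (n + 1) (isZero_C' n k (d : ℤ)) (fun j q' hq' => ?_) (n + 1) p q
    (by omega) hq
  by_cases hj : j + 2 ≤ n + 1
  · exact subsingleton_HH_C' n k (d : ℤ) (j + 2) q'
      (ho_eq_zero n q' _ (by omega) (by push_cast; omega))
  · exact Groth.Agent.Helper1.KzChase.subsingleton_HH_of_isZero
      (isZero_C' n k (d : ℤ) (j + 2) (by omega)) q'

/-- vanishing below the dimension for negative twists -/
theorem subsingleton_HH_C'_neg (hn : 1 ≤ n) (e : ℕ) (he : 1 ≤ e) (p q : ℕ) (hq : q < n) :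
    Subsingleton (Coh.HH (Proj 𝒢) (C' n k (-(e : ℤ)) p) q) :=
  subsingleton_HH_C' n k (-(e : ℤ)) p q (ho_eq_zero n q _ (by omega) (by omega))

theorem subsingleton_HH_ker_neg (hn : 1 ≤ n) (e : ℕ) (he : 1 ≤ e) (p q : ℕ) (hq : q < n) :
    Subsingleton (Coh.HH (Proj 𝒢) (kernel (d' n k (-(e : ℤ)) p)) q) :=
  BottB.subsingleton_HH_kernel_lt k (C' n k (-(e : ℤ))) (d' n k (-(e : ℤ)))
    (d'_comp n k (-(e : ℤ))) (d'_exact n k (-(e : ℤ))) n
    (fun p q hq => subsingleton_HH_C'_neg n k hn e he p q hq) p q hq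

/-- the dimensions `z_p = h⁰(Z_p(d))` -/
noncomputable def z (d : ℕ) : ℕ → ℕ
  | 0 => Module.finrank k (Coh.HH (Proj 𝒢) (C' n k (d : ℤ) 0) 0)
  | (p + 1) => Module.finrank k (Coh.HH (Proj 𝒢) (kernel (d' n k (d : ℤ) p)) 0)

/-- **Bott's formula for `h⁰`** -/
theorem z_eq (hn : 1 ≤ n) (d : ℕ) (hd : 1 ≤ d) (p : ℕ) (hp : p ≤ n + 1) :
    z n k d p = b n p d := by
  refine BottB.closed_of_rec (z n k d) (fun j => Nat.choose (n + 1) j * h n d j) (fun p => b n p d)
    (n + 1) ?_ ?_ ?_ ?_ p hp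
  · show Nat.choose (n + 1) 0 * h n d 0 = b n 0 d
    unfold h b
    rw [if_pos (Nat.zero_le _), Nat.choose_zero_right, one_mul, Nat.choose_zero_right, mul_one,
      Nat.sub_zero, Nat.sub_zero]
    exact (Nat.choose_symm_add).symm
  · intro p hp
    exact ident n (p + 1) d hd (by omega) (by omega)
  · show Module.finrank k (Coh.HH (Proj 𝒢) (C' n k (d : ℤ) 0) 0) = _
    rw [(finrank_HH_C' n k (d : ℤ) 0 0).2, ← ho_zero n hn d 0]
  · intro p hp
    show Nat.choose (n + 1) (p + 1) * h n d (p + 1) = z n k d (p + 1) + z n k d p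
    rw [← ho_zero n hn d (p + 1), ← (finrank_HH_C' n k (d : ℤ) (p + 1) 0).2]
    haveI := (finrank_HH_C' n k (d : ℤ) (p + 1) 0).1
    rcases p with _ | p
    · exact BottB.finrank_step_zero k (C' n k (d : ℤ)) (d' n k (d : ℤ)) 0
        (subsingleton_HH_ker_pos n k hn d hd 0 1 le_rfl) (Or.inl rfl)
    · exact BottB.finrank_step k (C' n k (d : ℤ)) (d' n k (d : ℤ)) (d'_comp n k (d : ℤ))
        (d'_exact n k (d : ℤ)) p 0 (subsingleton_HH_ker_pos n k hn d hd (p + 1) 1 le_rfl)
        (Or.inl rfl)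

/-- the dimensions `w_p = hⁿ(Z_p(-e))` -/
noncomputable def w (e : ℕ) : ℕ → ℕ
  | 0 => Module.finrank k (Coh.HH (Proj 𝒢) (C' n k (-(e : ℤ)) 0) n)
  | (p + 1) => Module.finrank k (Coh.HH (Proj 𝒢) (kernel (d' n k (-(e : ℤ)) p)) n)

/-- **Bott's formula for `hⁿ`** -/
theorem w_eq (hn : 1 ≤ n) (e : ℕ) (he : 1 ≤ e) (p : ℕ) (hp : p ≤ n) :
    w n k e p = b n (n - p) e := by
  refine BottB.closed_of_rec (w n k e)
    (fun j => Nat.choose (n + 1) j * ho n n (-(e : ℤ) - (j : ℤ))) (fun p => b n (n - p) e)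
    n ?_ ?_ ?_ ?_ p hp
  · show Nat.choose (n + 1) 0 * ho n n (-(e : ℤ) - ((0 : ℕ) : ℤ)) = b n (n - 0) e
    rw [ho_top_zero n hn e he, Nat.choose_zero_right, one_mul]
    unfold b
    rw [Nat.sub_zero, Nat.add_sub_cancel, Nat.choose_self, one_mul]
  · intro p hp
    show Nat.choose (n + 1) (p + 1) * ho n n (-(e : ℤ) - ((p + 1 : ℕ) : ℤ)) =
      b n (n - (p + 1)) e + b n (n - p) e
    rw [ho_top n hn e p hp]
    have h1 := ident n (n - p) e he (by omega) (by omega)
    have h2 : Nat.choose (n + 1) (p + 1) = Nat.choose (n + 1) (n - p) := by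
      rw [← Nat.choose_symm (by omega : p + 1 ≤ n + 1)]
      congr 1
      omega
    rw [h2, h1, add_comm]
    congr 2
  · show Module.finrank k (Coh.HH (Proj 𝒢) (C' n k (-(e : ℤ)) 0) n) = _
    rw [(finrank_HH_C' n k (-(e : ℤ)) 0 n).2]
  · intro p hp
    show Nat.choose (n + 1) (p + 1) * ho n n (-(e : ℤ) - ((p + 1 : ℕ) : ℤ)) =
      w n k e (p + 1) + w n k e p
    rw [← (finrank_HH_C' n k (-(e : ℤ)) (p + 1) n).2]
    haveI := (finrank_HH_C' n k (-(e : ℤ)) (p + 1) n).1
    rcases p with _ | p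
    · exact BottB.finrank_step_zero k (C' n k (-(e : ℤ))) (d' n k (-(e : ℤ))) n
        (subsingleton_HH_ker_gt n k (-(e : ℤ)) 0 (n + 1) (by omega))
        (Or.inr (subsingleton_HH_C'_neg n k hn e he 0 (n - 1) (by omega)))
    · exact BottB.finrank_step k (C' n k (-(e : ℤ))) (d' n k (-(e : ℤ))) (d'_comp n k (-(e : ℤ)))
        (d'_exact n k (-(e : ℤ))) p n
        (subsingleton_HH_ker_gt n k (-(e : ℤ)) (p + 1) (n + 1) (by omega))
        (Or.inr (subsingleton_HH_ker_neg n k hn e he p (n - 1) (by omega)))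

end Groth.Agent.Helper6.BottE
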