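import Mathlib
import Groth.Agent.Helper6.PnHodgeA

set_option autoImplicit false
set_option linter.style.haveILetI false
set_option linter.unusedSectionVars false
set_option linter.unusedVariables false
set_option linter.unusedSimpArgs false

/-!
# Hodge cohomology of projective space
-/

namespace Groth.Agent.Helper6.PnHodgeB

open CategoryTheory CategoryTheory.Limits AlgebraicGeometry Opposite TopologicalSpace MvPolynomial
open Groth.Agent.Helper1.ProjSpR Groth.Agent.Helper1.HHSum Groth.Agent.Helper1.ProjTop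
open PnFrame PnFrameC PnExtB PnHodgeA

universe u

variable (n : ℕ) (A : Type u) [CommRing A]

local notation "𝒢" => CohB1.polyGrading n A

attribute [local instance] Groth.Agent.Helper1.ProjTop.overR

/-- **`H^q(P^n, Ω^p) = 0` unless `p = q ≤ n`** -/
theorem hodge_vanishing (hn : 1 ≤ n) [QuasiSeparated (toSpecR 𝒢)] (p : ℕ)
    (L : (Proj 𝒢).Modules) (hL : ExtPow.IsExtPow p (Omega.sheaf (toSpecR 𝒢)) L) (q : ℕ)
    (h : p ≠ q ∨ n < p) : Subsingleton (Coh.HH (Proj 𝒢) L q) := by
  cases p with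
  | zero =>
    obtain ⟨e⟩ := nonempty_iso_M0 n A _ L hL
    have hq : q ≠ 0 := by
      rcases h with h | h
      · exact fun h' => h h'.symm
      · omega
    haveI := (PnCohD.HH_M0 n A hn q).1 hq
    exact (HHlinEquiv A e q).toEquiv.subsingleton
  | succ p =>
    obtain ⟨e⟩ := nonempty_iso_K n A p L hL
    by_cases hp : p + 1 ≤ n
    · have hq : q ≠ p + 1 := by
        rcases h with h | h
        · exact fun h' => h h'.symm
        · omega
      haveI := (PnCohD.HH_K n A hn p hp q).1 hq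
      exact (HHlinEquiv A e q).toEquiv.subsingleton
    · haveI := Groth.Agent.Helper1.KzChase.subsingleton_HH_of_isZero
        (PnCohD.isZero_K n A p (by omega)) q
      exact (HHlinEquiv A e q).toEquiv.subsingleton

/-- **`H^p(P^n, Ω^p) = A` for `p ≤ n`** -/
theorem hodge_diag (hn : 1 ≤ n) [QuasiSeparated (toSpecR 𝒢)] (p : ℕ) (hp : p ≤ n)
    (L : (Proj 𝒢).Modules) (hL : ExtPow.IsExtPow p (Omega.sheaf (toSpecR 𝒢)) L) :
    Nonempty (Coh.HH (Proj 𝒢) L p ≃ₗ[A] A) := by
  cases p with
  | zero =>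
    obtain ⟨e⟩ := nonempty_iso_M0 n A _ L hL
    obtain ⟨e2⟩ := (PnCohD.HH_M0 n A hn 0).2 rfl
    exact ⟨(HHlinEquiv A e 0).trans e2⟩
  | succ p =>
    obtain ⟨e⟩ := nonempty_iso_K n A p L hL
    obtain ⟨e2⟩ := (PnCohD.HH_K n A hn p hp (p + 1)).2 rfl
    exact ⟨(HHlinEquiv A e (p + 1)).trans e2⟩

end Groth.Agent.Helper6.PnHodgeB
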