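import Mathlib
import Groth.Agent.Helper6.BottE
import Groth.Agent.Helper6.PnHodgeB

set_option autoImplicit false
set_option linter.style.haveILetI false
set_option linter.unusedSectionVars false
set_option linter.unusedVariables false
set_option linter.unusedSimpArgs false

/-!
# Bott's formula for the cohomology of `Ω^p(d)` on projective space over a field
-/

namespace Groth.Agent.Helper6.BottF

open CategoryTheory CategoryTheory.Limits AlgebraicGeometry Opposite TopologicalSpace MvPolynomial
open Groth.Agent.Helper1.KzAlg Groth.Agent.Helper1.KzSheaf Groth.Agent.Helper1.KzMain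
  Groth.Agent.Helper1.HHLes Groth.Agent.Helper1.ProjTop Groth.Agent.Helper1.HHSum
  Groth.Agent.Helper1.ProjSpR
open PnFrameC BottA BottC BottD BottE

universe u

/-- the Bott numbers `h^q(P^n, Ω^p(dd))` -/
def β (n p q : ℕ) (dd : ℤ) : ℕ :=
  if 0 < dd then (if q = 0 then b n p dd.toNat else 0)
  else if dd < 0 then (if q = n then b n (n - p) (-dd).toNat else 0)
  else (if p = q then 1 else 0)

theorem β_symm (n p q : ℕ) (hn : 1 ≤ n) (hp : p ≤ n) (hq : q ≤ n) (dd : ℤ) :
    β n p q dd = β n (n - p) (n - q) (-dd) := by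
  unfold β
  have e1 : n - (n - p) = p := by omega
  rw [neg_neg, e1]
  split_ifs <;> first | rfl | omega

variable (n : ℕ) (k : Type u) [Field k]

local notation "𝒢" => CohB1.polyGrading n k

attribute [local instance] Groth.Agent.Helper1.ProjTop.overR

/-- the twisted kernels `Z_p(dd)` -/
noncomputable def Zt (dd : ℤ) : ℕ → (Proj 𝒢).Modules
  | 0 => C' n k dd 0
  | (p + 1) => kernel (d' n k dd p)

theorem z_def (d p : ℕ) :
    z n k d p = Module.finrank k (Coh.HH (Proj 𝒢) (Zt n k (d : ℤ) p) 0) := by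
  cases p <;> rfl

theorem w_def (e p : ℕ) :
    w n k e p = Module.finrank k (Coh.HH (Proj 𝒢) (Zt n k (-(e : ℤ)) p) n) := by
  cases p <;> rfl

/-- the twists of the exterior powers of the differentials are the twisted kernels -/
theorem nonempty_tw_iso [QuasiSeparated (toSpecR 𝒢)] (p : ℕ) (L : (Proj 𝒢).Modules)
    (hL : ExtPow.IsExtPow p (Omega.sheaf (toSpecR 𝒢)) L) (dd : ℤ) :
    Nonempty (CohB1.tensorMod L (Twist.twistProjSpace n k dd) ≅ Zt n k dd p) := by
  cases p with
  | zero =>
    obtain ⟨e⟩ := PnHodgeA.nonempty_iso_M0 n k _ L hL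
    exact ⟨PicGrp.tensorModIso e (Iso.refl (Twist.twistProjSpace n k dd))⟩
  | succ p =>
    obtain ⟨e⟩ := PnHodgeA.nonempty_iso_K n k p L hL
    exact ⟨PicGrp.tensorModIso e (Iso.refl (Twist.twistProjSpace n k dd)) ≪≫ kerIso n k dd p⟩

/-- the cohomology of the twisted kernels -/
theorem finrank_HH_Zt (hn : 1 ≤ n) (p : ℕ) (hp : p ≤ n) (dd : ℤ) (hdd : dd ≠ 0) (q : ℕ) :
    Module.finrank k (Coh.HH (Proj 𝒢) (Zt n k dd p) q) = β n p q dd := by
  unfold β
  rcases lt_or_gt_of_ne hdd with h | h
  · -- negative twist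
    rw [if_neg (by omega), if_pos h]
    obtain ⟨e, rfl⟩ : ∃ e : ℕ, dd = -(e : ℤ) := ⟨(-dd).toNat, by omega⟩
    have he : 1 ≤ e := by omega
    by_cases hqn : q = n
    · subst hqn
      rw [if_pos rfl, ← w_def, w_eq q k hn e he p hp]
      congr 1
      omega
    · rw [if_neg hqn]
      haveI : Subsingleton (Coh.HH (Proj 𝒢) (Zt n k (-(e : ℤ)) p) q) := by
        rcases Nat.lt_or_gt_of_ne hqn with hlt | hgt
        · cases p with
          | zero => exact subsingleton_HH_C'_neg n k hn e he 0 q hlt
          | succ p => exact subsingleton_HH_ker_neg n k hn e he p q hlt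
        · cases p with
          | zero =>
            exact subsingleton_HH_C' n k (-(e : ℤ)) 0 q (ho_eq_zero n q _ (by omega) (by omega))
          | succ p => exact subsingleton_HH_ker_gt n k (-(e : ℤ)) p q hgt
      exact Module.finrank_zero_of_subsingleton
  · -- positive twist
    rw [if_pos h]
    obtain ⟨d, rfl⟩ : ∃ d : ℕ, dd = (d : ℤ) := ⟨dd.toNat, by omega⟩
    have hd : 1 ≤ d := by omega
    by_cases hq0 : q = 0
    · subst hq0
      rw [if_pos rfl, ← z_def, z_eq n k hn d hd p (by omega), Int.toNat_natCast]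
    · rw [if_neg hq0]
      haveI : Subsingleton (Coh.HH (Proj 𝒢) (Zt n k (d : ℤ) p) q) := by
        cases p with
        | zero =>
          exact subsingleton_HH_C' n k (d : ℤ) 0 q
            (ho_eq_zero n q _ (by omega) (by push_cast; omega))
        | succ p => exact subsingleton_HH_ker_pos n k hn d hd p q (by omega)
      exact Module.finrank_zero_of_subsingleton

/-- **Bott's formula** -/
theorem finrank_HH_twist_extPow (hn : 1 ≤ n) [QuasiSeparated (toSpecR 𝒢)] (p : ℕ) (hp : p ≤ n)
    (L : (Proj 𝒢).Modules) (hL : ExtPow.IsExtPow p (Omega.sheaf (toSpecR 𝒢)) L) (dd : ℤ) (q : ℕ) :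
    Module.finrank k (Coh.HH (Proj 𝒢) (CohB1.tensorMod L (Twist.twistProjSpace n k dd)) q) =
      β n p q dd := by
  by_cases hdd : dd = 0
  · subst hdd
    obtain ⟨e⟩ := Groth.Agent.Helper1.KzLin.tw_zero_iso n k L
    have e' : CohB1.tensorMod L (Twist.twistProjSpace n k 0) ≅ L := e
    rw [(HHlinEquiv k e' q).finrank_eq]
    unfold β
    rw [if_neg (by omega), if_neg (by omega)]
    by_cases hpq : p = q
    · subst hpq
      rw [if_pos rfl]
      obtain ⟨e2⟩ := PnHodgeB.hodge_diag n k hn p hp L hL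
      rw [e2.finrank_eq, Module.finrank_self]
    · rw [if_neg hpq]
      haveI := PnHodgeB.hodge_vanishing n k hn p L hL q (Or.inl hpq)
      exact Module.finrank_zero_of_subsingleton
  · obtain ⟨e⟩ := nonempty_tw_iso n k p L hL dd
    rw [(HHlinEquiv k e q).finrank_eq]
    exact finrank_HH_Zt n k hn p hp dd hdd q

end Groth.Agent.Helper6.BottF
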