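import Mathlib
import Groth.Agent.Helper6.BottF

set_option autoImplicit false
set_option linter.style.haveILetI false
set_option linter.unusedSectionVars false
set_option linter.unusedVariables false
set_option linter.unusedSimpArgs false

/-!
# Bott's formula: the final statements
-/

namespace Groth.Agent.Helper6.BottG

open CategoryTheory CategoryTheory.Limits AlgebraicGeometry Opposite TopologicalSpace MvPolynomial
open Groth.Agent.Helper1.KzAlg Groth.Agent.Helper1.KzSheaf Groth.Agent.Helper1.KzMain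
  Groth.Agent.Helper1.HHLes Groth.Agent.Helper1.ProjTop Groth.Agent.Helper1.HHSum
  Groth.Agent.Helper1.ProjSpR
open PnFrameC BottA BottC BottD BottE BottF

universe u

variable (n : ℕ) (k : Type u) [Field k]

local notation "𝒢" => CohB1.polyGrading n k

attribute [local instance] Groth.Agent.Helper1.ProjTop.overR

/-- the case of the point `P^0` -/
theorem finrank_point (hn : n = 0) [QuasiSeparated (toSpecR 𝒢)]
    (L : (Proj 𝒢).Modules) (hL : ExtPow.IsExtPow 0 (Omega.sheaf (toSpecR 𝒢)) L) (dd : ℤ) :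
    Module.finrank k (Coh.HH (Proj 𝒢) (CohB1.tensorMod L (Twist.twistProjSpace n k dd)) 0) = 1 := by
  obtain ⟨e⟩ := nonempty_tw_iso n k 0 L hL dd
  have e' : CohB1.tensorMod L (Twist.twistProjSpace n k dd) ≅ C' n k dd 0 := e
  rw [(HHlinEquiv k e' 0).finrank_eq, (finrank_HH_C' n k dd 0 0).2, Nat.choose_zero_right, one_mul]
  subst hn
  unfold ho
  by_cases h : 0 ≤ dd
  · rw [if_pos ⟨rfl, by simpa using h⟩, Nat.choose_zero_right]
  · rw [if_neg (by simp; omega), if_pos ⟨rfl, by simp; omega⟩, Nat.choose_zero_right]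

theorem bott_h0 [QuasiSeparated (toSpecR 𝒢)] (p : ℕ) (hp : p ≤ n)
    (L : (Proj 𝒢).Modules) (hL : ExtPow.IsExtPow p (Omega.sheaf (toSpecR 𝒢)) L) (d : ℕ)
    (hd : p < d) :
    Module.finrank k (Coh.HH (Proj 𝒢)
      (CohB1.tensorMod L (Twist.twistProjSpace n k (d : ℤ))) 0) =
      Nat.choose (d + n - p) d * Nat.choose (d - 1) p := by
  rcases Nat.eq_zero_or_pos n with hn | hn
  · obtain rfl : p = 0 := by omega
    rw [finrank_point n k hn L hL (d : ℤ)]
    subst hn
    rw [Nat.choose_zero_right, Nat.add_zero, Nat.sub_zero, Nat.choose_self]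
  · rw [finrank_HH_twist_extPow n k hn p hp L hL (d : ℤ) 0]
    unfold β b
    rw [if_pos (by omega), if_pos rfl, Int.toNat_natCast]

theorem bott_top [QuasiSeparated (toSpecR 𝒢)] (p : ℕ) (hp : p ≤ n)
    (L : (Proj 𝒢).Modules) (hL : ExtPow.IsExtPow p (Omega.sheaf (toSpecR 𝒢)) L) (e : ℕ)
    (he : n < e + p) :
    Module.finrank k (Coh.HH (Proj 𝒢)
      (CohB1.tensorMod L (Twist.twistProjSpace n k (-(e : ℤ)))) n) =
      Nat.choose (e + p) e * Nat.choose (e - 1) (n - p) := by
  rcases Nat.eq_zero_or_pos n with hn | hn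
  · obtain rfl : p = 0 := by omega
    have h := finrank_point n k hn L hL (-(e : ℤ))
    subst hn
    rw [h, Nat.sub_zero, Nat.choose_zero_right, Nat.add_zero, Nat.choose_self]
  · rw [finrank_HH_twist_extPow n k hn p hp L hL (-(e : ℤ)) n]
    unfold β b
    rw [if_neg (by omega), if_pos (by omega), if_pos rfl, neg_neg, Int.toNat_natCast]
    congr 2
    omega

theorem bott_symm [QuasiSeparated (toSpecR 𝒢)] (p q : ℕ) (hp : p ≤ n) (hq : q ≤ n)
    (L L' : (Proj 𝒢).Modules) (hL : ExtPow.IsExtPow p (Omega.sheaf (toSpecR 𝒢)) L)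
    (hL' : ExtPow.IsExtPow (n - p) (Omega.sheaf (toSpecR 𝒢)) L') (d : ℤ) :
    Module.finrank k (Coh.HH (Proj 𝒢) (CohB1.tensorMod L (Twist.twistProjSpace n k d)) q) =
      Module.finrank k (Coh.HH (Proj 𝒢)
        (CohB1.tensorMod L' (Twist.twistProjSpace n k (-d))) (n - q)) := by
  rcases Nat.eq_zero_or_pos n with hn | hn
  · obtain rfl : p = 0 := by omega
    obtain rfl : q = 0 := by omega
    have h1 := finrank_point n k hn L hL d
    have hL'' : ExtPow.IsExtPow 0 (Omega.sheaf (toSpecR 𝒢)) L' := by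
      have : n - 0 = 0 := by omega
      rw [this] at hL'
      exact hL'
    have h2 := finrank_point n k hn L' hL'' (-d)
    have h3 : n - 0 = 0 := by omega
    rw [h3, h1, h2]
  · rw [finrank_HH_twist_extPow n k hn p hp L hL d q,
      finrank_HH_twist_extPow n k hn (n - p) (by omega) L' hL' (-d) (n - q)]
    exact β_symm n p q hn hp hq d

end Groth.Agent.Helper6.BottG
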