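import Mathlib
import Groth.Agent.Helper6.BottG

set_option autoImplicit false
set_option linter.style.haveILetI false
set_option linter.unusedSectionVars false
set_option linter.unusedVariables false
set_option linter.unusedSimpArgs false

/-!
# Bott vanishing
-/

namespace Groth.Agent.Helper6.BottH

open CategoryTheory CategoryTheory.Limits AlgebraicGeometry Opposite TopologicalSpace MvPolynomial
open Groth.Agent.Helper1.KzAlg Groth.Agent.Helper1.KzSheaf Groth.Agent.Helper1.KzMain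
  Groth.Agent.Helper1.HHLes Groth.Agent.Helper1.ProjTop Groth.Agent.Helper1.HHSum
  Groth.Agent.Helper1.ProjSpR
open PnFrameC BottA BottC BottD BottE BottF

universe u

variable (n : ℕ) (k : Type u) [Field k]

local notation "𝒢" => CohB1.polyGrading n k

attribute [local instance] Groth.Agent.Helper1.ProjTop.overR

/-- finiteness of the cohomology of the twisted kernels -/
theorem finite_HH_Zt (dd : ℤ) (p q : ℕ) :
    Module.Finite k (Coh.HH (Proj 𝒢) (Zt n k dd p) q) := by
  cases p with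
  | zero => exact (finrank_HH_C' n k dd 0 q).1
  | succ p =>
    exact BottB.finite_HH_kernel k (C' n k dd) (d' n k dd) (d'_comp n k dd) (d'_exact n k dd)
      (n + 1) (isZero_C' n k dd) (fun j q => (finrank_HH_C' n k dd j q).1) (n + 1) p q (by omega)

/-- **Bott vanishing**: the cohomology vanishes when the Bott number does -/
theorem subsingleton_of_β_eq_zero (hn : 1 ≤ n) [QuasiSeparated (toSpecR 𝒢)] (p : ℕ) (hp : p ≤ n)
    (L : (Proj 𝒢).Modules) (hL : ExtPow.IsExtPow p (Omega.sheaf (toSpecR 𝒢)) L) (dd : ℤ)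
    (hdd : dd ≠ 0) (q : ℕ) (h : β n p q dd = 0) :
    Subsingleton (Coh.HH (Proj 𝒢) (CohB1.tensorMod L (Twist.twistProjSpace n k dd)) q) := by
  obtain ⟨e⟩ := nonempty_tw_iso n k p L hL dd
  haveI := finite_HH_Zt n k dd p q
  have h1 := finrank_HH_Zt n k hn p hp dd hdd q
  rw [h] at h1
  haveI : Subsingleton (Coh.HH (Proj 𝒢) (Zt n k dd p) q) := Module.finrank_zero_iff.1 h1
  exact (HHlinEquiv k e q).toEquiv.subsingleton

/-- the exterior powers of the differentials beyond the dimension vanish, as do their twists -/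
theorem subsingleton_of_gt [QuasiSeparated (toSpecR 𝒢)] (p : ℕ) (hp : n < p)
    (L : (Proj 𝒢).Modules) (hL : ExtPow.IsExtPow p (Omega.sheaf (toSpecR 𝒢)) L) (dd : ℤ) (q : ℕ) :
    Subsingleton (Coh.HH (Proj 𝒢) (CohB1.tensorMod L (Twist.twistProjSpace n k dd)) q) := by
  obtain ⟨p', rfl⟩ : ∃ p', p = p' + 1 := ⟨p - 1, by omega⟩
  obtain ⟨e⟩ := PnHodgeA.nonempty_iso_K n k p' L hL
  have hz : IsZero L := IsZero.of_iso (PnCohD.isZero_K n k p' (by omega)) e
  have hz' : IsZero ((F n k dd).obj L) := (F n k dd).map_isZero hz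
  exact Groth.Agent.Helper1.KzChase.subsingleton_HH_of_isZero hz' q

theorem β_eq_zero (p q : ℕ) (dd : ℤ) (hdd : dd ≠ 0) (hp : p ≤ n)
    (h0 : ¬ (q = 0 ∧ (p : ℤ) < dd)) (hr : ¬ (q = n ∧ dd < (p : ℤ) - n)) : β n p q dd = 0 := by
  unfold β b
  rcases lt_or_gt_of_ne hdd with h | h
  · rw [if_neg (by omega), if_pos h]
    by_cases hq : q = n
    · rw [if_pos hq]
      have : (-dd).toNat - 1 < n - p := by omega
      rw [Nat.choose_eq_zero_of_lt this, mul_zero]
    · rw [if_neg hq]
  · rw [if_pos h]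
    by_cases hq : q = 0
    · rw [if_pos hq]
      have : dd.toNat - 1 < p := by omega
      rw [Nat.choose_eq_zero_of_lt this, mul_zero]
    · rw [if_neg hq]

/-- **Bott vanishing**, in the usual form -/
theorem bott_vanishing (hn : 1 ≤ n) [QuasiSeparated (toSpecR 𝒢)] (p : ℕ)
    (L : (Proj 𝒢).Modules) (hL : ExtPow.IsExtPow p (Omega.sheaf (toSpecR 𝒢)) L) (dd : ℤ)
    (hdd : dd ≠ 0) (q : ℕ) (h0 : ¬ (q = 0 ∧ (p : ℤ) < dd)) (hr : ¬ (q = n ∧ dd < (p : ℤ) - n)) :
    Subsingleton (Coh.HH (Proj 𝒢) (CohB1.tensorMod L (Twist.twistProjSpace n k dd)) q) := by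
  by_cases hp : p ≤ n
  · exact subsingleton_of_β_eq_zero n k hn p hp L hL dd hdd q (β_eq_zero n p q dd hdd hp h0 hr)
  · exact subsingleton_of_gt n k p (by omega) L hL dd q

/-- the Hodge cohomology of projective space over a field -/
theorem hodge (hn : 1 ≤ n) [QuasiSeparated (toSpecR 𝒢)] (j : ℕ)
    (L : (Proj 𝒢).Modules) (hL : ExtPow.IsExtPow j (Omega.sheaf (toSpecR 𝒢)) L) :
    (∀ i : ℕ, (i ≠ j ∨ n < i) → Subsingleton (Coh.HH (Proj 𝒢) L i)) ∧
      (j ≤ n → Module.finrank k (Coh.HH (Proj 𝒢) L j) = 1) := by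
  refine ⟨fun i hi => ?_, fun hj => ?_⟩
  · refine PnHodgeB.hodge_vanishing n k hn j L hL i ?_
    rcases hi with hi | hi
    · exact Or.inl (fun h => hi h.symm)
    · by_cases hij : j = i
      · exact Or.inr (by omega)
      · exact Or.inl hij
  · obtain ⟨e⟩ := PnHodgeB.hodge_diag n k hn j hj L hL
    rw [e.finrank_eq, Module.finrank_self]

end Groth.Agent.Helper6.BottH
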