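import Mathlib
import Groth.Prelude.Def_CE
import Groth.Agent.Helper9.FMH

set_option autoImplicit false
set_option linter.style.haveILetI false
set_option linter.unusedSectionVars false
set_option linter.unusedVariables false

/-!
# Cartan–Eilenberg resolutions: splicing short exact sequences
-/

namespace Groth.Agent.Helper6.CE1

open CategoryTheory CategoryTheory.Limits ZeroObject
open Groth.Agent.Helper9.FM

universe v u v' u'

section Abstract

variable {A : Type u} [Category.{v} A] [Abelian A]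

lemma inj_of_isZero {X : A} (h : IsZero X) : Injective X :=
  ⟨fun g f _ => ⟨0, h.eq_of_tgt _ _⟩⟩

lemma exact_splice {X1 X2 X3 M2 M3 : A} (p1 : X1 ⟶ M2) (i2 : M2 ⟶ X2) (p2 : X2 ⟶ M3)
    (i3 : M3 ⟶ X3) [Epi p1] [Mono i3] (w2 : i2 ≫ p2 = 0)
    (hex : (ShortComplex.mk i2 p2 w2).Exact) (d1 : X1 ⟶ X2) (d2 : X2 ⟶ X3)
    (h1 : d1 = p1 ≫ i2) (h2 : d2 = p2 ≫ i3) (w : d1 ≫ d2 = 0) :
    (ShortComplex.mk d1 d2 w).Exact := by
  rw [exact_iff]
  intro y hy
  have hy' : m d2 y = 0 := hy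
  rw [h2, m_comp_apply] at hy'
  have hinj : Function.Injective (m i3) := (mono_iff _).1 inferInstance
  have h0 : m p2 y = 0 := hinj (by rw [hy', map_zero])
  obtain ⟨mm, hmm⟩ := (exact_iff _).1 hex y h0
  obtain ⟨x, hx⟩ := (epi_iff p1).1 inferInstance mm
  refine ⟨x, ?_⟩
  show m d1 x = y
  rw [h1, m_comp_apply, hx]
  exact hmm

lemma exact_splice0 {M X M' X' : A} (i : M ⟶ X) (p : X ⟶ M') (i' : M' ⟶ X') [Mono i']
    (w : i ≫ p = 0) (hex : (ShortComplex.mk i p w).Exact) (d : X ⟶ X') (hd : d = p ≫ i')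
    (w' : i ≫ d = 0) : (ShortComplex.mk i d w').Exact := by
  rw [exact_iff]
  intro y hy
  have hy' : m d y = 0 := hy
  rw [hd, m_comp_apply] at hy'
  have hinj : Function.Injective (m i') := (mono_iff _).1 inferInstance
  have h0 : m p y = 0 := hinj (by rw [hy', map_zero])
  exact (exact_iff _).1 hex y h0

lemma splice_w0 {M X M' X' : A} (i : M ⟶ X) (p : X ⟶ M') (i' : M' ⟶ X')
    (w : i ≫ p = 0) (d : X ⟶ X') (hd : d = p ≫ i') : i ≫ d = 0 := by
  rw [hd, ← Category.assoc, w, zero_comp]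

end Abstract

section Splice

variable {𝒞 : Type u'} [Category.{v'} 𝒞] [Abelian 𝒞]
variable {A : Type u} [Category.{v} A] [Abelian A]
variable (Ms Is : ℕ → 𝒞) (ι : ∀ j, Ms j ⟶ Is j) (π : ∀ j, Is j ⟶ Ms (j+1))
  (w : ∀ j, ι j ≫ π j = 0)

/-- objects of the spliced complex -/
noncomputable def Xz : ℤ → 𝒞
  | Int.ofNat j => Is j
  | Int.negSucc _ => 0

/-- differential of the spliced complex -/
noncomputable def dz : ∀ q : ℤ, Xz Is q ⟶ Xz Is (q+1)
  | Int.ofNat j => π j ≫ ι (j+1)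
  | Int.negSucc _ => 0

include w in
lemma dz_sq (q : ℤ) : dz Ms Is ι π q ≫ dz Ms Is ι π (q+1) = 0 := by
  cases q with
  | ofNat j =>
    show (π j ≫ ι (j+1)) ≫ (π (j+1) ≫ ι (j+1+1)) = 0
    rw [Category.assoc, ← Category.assoc (ι (j+1)), w, zero_comp, comp_zero]
  | negSucc j => exact zero_comp

/-- the spliced complex -/
noncomputable def cz : CochainComplex 𝒞 ℤ :=
  CochainComplex.of (Xz Is) (dz Ms Is ι π) (dz_sq Ms Is ι π w)

lemma cz_d (j : ℕ) :
    (cz Ms Is ι π w).d (Int.ofNat j) (Int.ofNat (j+1)) = π j ≫ ι (j+1) :=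
  CochainComplex.of_d _ _ (Int.ofNat j)

theorem splice_res (F : 𝒞 ⥤ A) [F.PreservesZeroMorphisms]
    (hF : ∀ j, ((ShortComplex.mk (ι j) (π j) (w j)).map F).ShortExact)
    (hI : ∀ j, Injective (F.obj (Is j))) :
    CE.IsInjResolutionVia ((F.mapHomologicalComplex (ComplexShape.up ℤ)).obj (cz Ms Is ι π w))
      (F.obj (Ms 0)) (F.map (ι 0)) := by
  have hd : ∀ j : ℕ, ((F.mapHomologicalComplex (ComplexShape.up ℤ)).obj (cz Ms Is ι π w)).d
      (Int.ofNat j) (Int.ofNat (j+1)) = F.map (π j) ≫ F.map (ι (j+1)) := by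
    intro j
    exact (congrArg (fun f => F.map f) (cz_d Ms Is ι π w j)).trans (F.map_comp _ _)
  have hzero : ∀ k : ℕ, IsZero (((F.mapHomologicalComplex (ComplexShape.up ℤ)).obj
      (cz Ms Is ι π w)).X (Int.negSucc k)) := fun k => Functor.map_isZero F (isZero_zero 𝒞)
  have hmono : ∀ j, Mono (F.map (ι j)) := fun j => (hF j).mono_f
  have hepi : ∀ j, Epi (F.map (π j)) := fun j => (hF j).epi_g
  have hw : ∀ j, F.map (ι j) ≫ F.map (π j) = 0 := fun j => by
    rw [← F.map_comp, w, F.map_zero]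
  have hex : ∀ j, (ShortComplex.mk (F.map (ι j)) (F.map (π j)) (hw j)).Exact :=
    fun j => (hF j).exact
  have h0 : F.map (ι 0) ≫ ((F.mapHomologicalComplex (ComplexShape.up ℤ)).obj
      (cz Ms Is ι π w)).d 0 1 = 0 := by
    exact splice_w0 (F.map (ι 0)) (F.map (π 0)) (F.map (ι 1)) (hw 0) _ (hd 0)
  refine ⟨h0, ?_, ?_, ?_, hmono 0, ?_⟩
  · rw [CochainComplex.isStrictlyGE_iff]
    intro i hi
    cases i with
    | ofNat j => exact absurd hi (not_lt.2 (Int.natCast_nonneg j))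
    | negSucc k => exact hzero k
  · intro q
    cases q with
    | ofNat j => exact hI j
    | negSucc k => exact inj_of_isZero (hzero k)
  · intro q hq
    cases q with
    | ofNat j =>
      cases j with
      | zero => exact absurd rfl hq
      | succ j' =>
        haveI := hepi j'
        haveI := hmono (j'+1+1)
        have hrel1 : (ComplexShape.up ℤ).Rel (Int.ofNat j') (Int.ofNat (j'+1)) := rfl
        have hrel2 : (ComplexShape.up ℤ).Rel (Int.ofNat (j'+1)) (Int.ofNat (j'+1+1)) := rfl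
        rw [HomologicalComplex.exactAt_iff' _ (Int.ofNat j') (Int.ofNat (j'+1)) (Int.ofNat (j'+1+1))
          ((ComplexShape.up ℤ).prev_eq' hrel1) ((ComplexShape.up ℤ).next_eq' hrel2)]
        exact exact_splice (F.map (π j')) (F.map (ι (j'+1))) (F.map (π (j'+1)))
          (F.map (ι (j'+1+1))) (hw (j'+1)) (hex (j'+1)) _ _ (hd j') (hd (j'+1)) _
    | negSucc k => exact ShortComplex.exact_of_isZero_X₂ _ (hzero k)
  · haveI := hmono 1
    exact exact_splice0 (F.map (ι 0)) (F.map (π 0)) (F.map (ι 1)) (hw 0) (hex 0) _ (hd 0) _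

end Splice

end Groth.Agent.Helper6.CE1
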