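import Mathlib
import Groth.Agent.Helper6.CE1

set_option autoImplicit false
set_option linter.style.haveILetI false
set_option linter.unusedSectionVars false
set_option linter.unusedVariables false

/-!
# Cartan–Eilenberg resolutions: exactness of cycles / homology on CE-exact sequences
-/

namespace Groth.Agent.Helper6.CE2

open CategoryTheory CategoryTheory.Limits ZeroObject HomologicalComplex
open Groth.Agent.Helper9.FM Groth.Agent.Helper9

universe v u

variable {A : Type u} [Category.{v} A] [Abelian A]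

lemma exists_cycle_of (K : CochainComplex A ℤ) (i j : ℤ) (hij : i + 1 = j)
    (x : (F A).obj (K.X i)) (hx : m (K.d i j) x = 0) :
    ∃ z : (F A).obj (K.cycles i), m (K.iCycles i) z = x := by
  subst hij; exact FMH.exists_cycle K i x hx

section Exactness

variable (S : ShortComplex (CochainComplex A ℤ)) (hS : S.ShortExact)

include hS in
lemma eval_shortExact (p : ℤ) :
    (S.map (HomologicalComplex.eval A (ComplexShape.up ℤ) p)).ShortExact :=
  hS.map_of_exact _

include hS in
lemma homology_shortExact (hH : ∀ p, Mono (homologyMap S.f p)) (p : ℤ) :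
    (S.map (homologyFunctor A (ComplexShape.up ℤ) p)).ShortExact := by
  have hrel : (ComplexShape.up ℤ).Rel p (p+1) := rfl
  have hδ : hS.δ p (p+1) hrel = 0 := by
    haveI := hH (p+1)
    rw [← cancel_mono (homologyMap S.f (p+1)), hS.δ_comp, zero_comp]
  have hepi : Epi (homologyMap S.g p) := (hS.homology_exact₃ p (p+1) hrel).epi_f hδ
  exact ShortComplex.ShortExact.mk' (hS.homology_exact₂ p) (hH p) hepi

include hS in
lemma cycles_shortExact (hH : ∀ p, Mono (homologyMap S.f p)) (p : ℤ) :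
    (S.map (cyclesFunctor A (ComplexShape.up ℤ) p)).ShortExact := by
  haveI := hS.mono_f
  haveI := hS.epi_g
  have hex := cycles_left_exact S hS.exact p
  have hmono : Mono (cyclesMap S.f p) := inferInstance
  have hepi : Epi (cyclesMap S.g p) := by
    obtain ⟨n, rfl⟩ : ∃ n, p = n - 1 := ⟨p+1, by ring⟩
    rw [epi_iff]
    intro z
    have hx₃ : m (S.X₃.d (n-1) n) (m (S.X₃.iCycles (n-1)) z) = 0 := by
      rw [← m_comp_apply, iCycles_d]; simp
    have hgsurj : Function.Surjective (m (S.g.f (n-1))) := (epi_iff _).1 inferInstance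
    obtain ⟨x₂, hx₂⟩ := hgsurj (m (S.X₃.iCycles (n-1)) z)
    have h1 : m (S.g.f n) (m (S.X₂.d (n-1) n) x₂) = 0 := by
      rw [← m_comp_apply, ← S.g.comm, m_comp_apply, hx₂, hx₃]
    have hexn : ∀ y : (F A).obj (S.X₂.X n), m (S.g.f n) y = 0 →
        ∃ x : (F A).obj (S.X₁.X n), m (S.f.f n) x = y :=
      (exact_iff _).1 (eval_shortExact S hS n).exact
    obtain ⟨x₁, hx₁'⟩ := hexn _ h1
    have hfinj : Function.Injective (m (S.f.f (n+1))) := (mono_iff _).1 inferInstance
    have hdx₁ : m (S.X₁.d n (n+1)) x₁ = 0 := by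
      apply hfinj
      rw [map_zero, ← m_comp_apply, ← S.f.comm, m_comp_apply, hx₁', ← m_comp_apply, d_comp_d]
      simp
    obtain ⟨z₁, hz₁⟩ := FMH.exists_cycle S.X₁ n x₁ hdx₁
    have hπ : m (S.X₁.homologyπ n) z₁ = 0 := by
      haveI := hH n
      have hinj : Function.Injective (m (homologyMap S.f n)) := (mono_iff _).1 inferInstance
      apply hinj
      rw [map_zero, ← m_comp_apply, homologyπ_naturality, m_comp_apply,
        FMH.homologyπ_eq_zero_iff]
      refine ⟨x₂, ?_⟩
      rw [← m_comp_apply, cyclesMap_i, m_comp_apply, hz₁, hx₁']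
    obtain ⟨k, hk⟩ := (FMH.homologyπ_eq_zero_iff S.X₁ n z₁).1 hπ
    have hx₂' : m (S.X₂.d (n-1) n) (x₂ - m (S.f.f (n-1)) k) = 0 := by
      rw [map_sub, ← m_comp_apply (S.f.f (n-1)), S.f.comm, m_comp_apply, hk, hz₁, hx₁', sub_self]
    obtain ⟨z₂, hz₂⟩ := exists_cycle_of S.X₂ (n-1) n (by simp) _ hx₂'
    refine ⟨z₂, ?_⟩
    apply FMH.iCycles_injective S.X₃ (n-1)
    rw [← m_comp_apply, cyclesMap_i, m_comp_apply, hz₂, map_sub, hx₂, ← m_comp_apply,
      ← HomologicalComplex.comp_f, S.zero]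
    simp
  exact ShortComplex.ShortExact.mk' hex hmono hepi

end Exactness

section Retract

lemma injective_of_retract {X Y : A} (i : X ⟶ Y) (r : Y ⟶ X) (h : i ≫ r = 𝟙 X) [Injective Y] :
    Injective X :=
  ⟨fun g f _ => ⟨Injective.factorThru (g ≫ i) f ≫ r, by
    rw [← Category.assoc, Injective.comp_factorThru, Category.assoc, h, Category.comp_id]⟩⟩

lemma injective_cycles (L : CochainComplex A ℤ) (p : ℤ) [Injective (L.X p)]
    (s : L.X (p+1) ⟶ L.X p) (hs : L.d p (p+1) ≫ s ≫ L.d p (p+1) = L.d p (p+1)) :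
    Injective (L.cycles p) := by
  have hr : (𝟙 (L.X p) - L.d p (p+1) ≫ s) ≫ L.d p (p+1) = 0 := by
    rw [Preadditive.sub_comp, Category.id_comp, Category.assoc, hs, sub_self]
  refine injective_of_retract (L.iCycles p)
    (L.liftCycles (𝟙 _ - L.d p (p+1) ≫ s) (p+1) (by simp) hr) ?_
  rw [← cancel_mono (L.iCycles p), Category.assoc, L.liftCycles_i, Preadditive.comp_sub,
    Category.comp_id, L.iCycles_d_assoc, zero_comp, sub_zero, Category.id_comp]

lemma injective_homology (L : CochainComplex A ℤ) (p : ℤ) [Injective (L.X p)]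
    (s₁ : L.X (p+1) ⟶ L.X p) (hs₁ : L.d p (p+1) ≫ s₁ ≫ L.d p (p+1) = L.d p (p+1))
    (s₀ : L.X p ⟶ L.X (p-1)) (hs₀ : L.d (p-1) p ≫ s₀ ≫ L.d (p-1) p = L.d (p-1) p) :
    Injective (L.homology p) := by
  haveI := injective_cycles L p s₁ hs₁
  have hθ : L.toCycles (p-1) p ≫ (𝟙 (L.cycles p) - L.iCycles p ≫ s₀ ≫ L.toCycles (p-1) p) = 0 := by
    have h1 : L.d (p-1) p ≫ s₀ ≫ L.toCycles (p-1) p = L.toCycles (p-1) p := by
      rw [← cancel_mono (L.iCycles p), Category.assoc, Category.assoc, L.toCycles_i, hs₀]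
    rw [Preadditive.comp_sub, Category.comp_id, L.toCycles_i_assoc, h1, sub_self]
  obtain ⟨σ, hσ⟩ := CokernelCofork.IsColimit.desc' (L.homologyIsCokernel (p-1) p (by simp)) _ hθ
  have hσ' : L.homologyπ p ≫ σ = 𝟙 (L.cycles p) - L.iCycles p ≫ s₀ ≫ L.toCycles (p-1) p := hσ
  refine injective_of_retract σ (L.homologyπ p) ?_
  rw [← cancel_epi (L.homologyπ p), ← Category.assoc, hσ', Preadditive.sub_comp, Category.id_comp,
    Category.assoc, Category.assoc, L.toCycles_comp_homologyπ, comp_zero, comp_zero, sub_zero,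
    Category.comp_id]

end Retract

end Groth.Agent.Helper6.CE2
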