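import Mathlib
import Groth.Agent.Helper6.CE2

set_option autoImplicit false
set_option linter.style.haveILetI false
set_option linter.unusedSectionVars false
set_option linter.unusedVariables false

/-!
# Cartan–Eilenberg resolutions: the one-step CE-injective embedding
-/

namespace Groth.Agent.Helper6.CE3

open CategoryTheory CategoryTheory.Limits ZeroObject HomologicalComplex
open Groth.Agent.Helper9.FM Groth.Agent.Helper9
open Groth.Agent.Helper6.CE1 Groth.Agent.Helper6.CE2

universe v u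

variable {A : Type u} [Category.{v} A] [Abelian A] [EnoughInjectives A]

lemma exE (X : A) : ∃ (J : A) (f : X ⟶ J), Injective J ∧ Mono f ∧ (IsZero X → IsZero J) := by
  by_cases h : IsZero X
  · exact ⟨X, 𝟙 X, inj_of_isZero h, inferInstance, fun _ => h⟩
  · exact ⟨Injective.under X, Injective.ι X, inferInstance, inferInstance, fun h' => absurd h' h⟩

/-- a chosen injective hull-like object, zero on zero objects -/
noncomputable def E (X : A) : A := (exE X).choose
/-- the embedding -/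
noncomputable def e (X : A) : X ⟶ E X := (exE X).choose_spec.choose
instance (X : A) : Injective (E X) := (exE X).choose_spec.choose_spec.1
instance (X : A) : Mono (e X) := (exE X).choose_spec.choose_spec.2.1
lemma isZero_E {X : A} (h : IsZero X) : IsZero (E X) := (exE X).choose_spec.choose_spec.2.2 h

lemma e_injective (X : A) : Function.Injective (m (e X)) := (mono_iff _).1 inferInstance

lemma isZero_biprod' {X Y : A} (hX : IsZero X) (hY : IsZero Y) : IsZero (X ⊞ Y) := by
  rw [IsZero.iff_id_eq_zero]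
  apply biprod.hom_ext
  · exact hX.eq_of_tgt _ _
  · exact hY.eq_of_tgt _ _

variable (K : CochainComplex A ℤ)

noncomputable abbrev Cq (p : ℤ) : A := cokernel (K.iCycles p)
noncomputable def q (p : ℤ) : K.X p ⟶ Cq K p := cokernel.π _
instance (p : ℤ) : Epi (q K p) := by unfold q; infer_instance
noncomputable abbrev T (p : ℤ) : A := E (Cq K p)
noncomputable abbrev EH (p : ℤ) : A := E (K.homology p)

lemma iCycles_q (p : ℤ) : K.iCycles p ≫ q K p = 0 := cokernel.condition _

lemma exists_of_q_eq_zero (p : ℤ) (x : (F A).obj (K.X p)) (hx : m (q K p) x = 0) :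
    ∃ z : (F A).obj (K.cycles p), m (K.iCycles p) z = x :=
  (exact_iff _).1 (ShortComplex.exact_cokernel (K.iCycles p)) x hx

noncomputable def dbar (p : ℤ) : Cq K (p-1) ⟶ K.X p :=
  cokernel.desc (K.iCycles (p-1)) (K.d (p-1) p) (K.iCycles_d _ _)

lemma q_dbar (p : ℤ) : q K (p-1) ≫ dbar K p = K.d (p-1) p := cokernel.π_desc _ _ _

instance mono_dbar (p : ℤ) : Mono (dbar K p) := by
  rw [mono_iff, injective_iff_map_eq_zero]
  intro c hc
  obtain ⟨y, rfl⟩ := (epi_iff (q K (p-1))).1 inferInstance c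
  rw [← m_comp_apply, q_dbar] at hc
  obtain ⟨z, rfl⟩ := exists_cycle_of K (p-1) p (by simp) y hc
  rw [← m_comp_apply, iCycles_q]; simp

noncomputable def ψ (p : ℤ) : K.X p ⟶ T K (p-1) :=
  Injective.factorThru (e (Cq K (p-1))) (dbar K p)

lemma dbar_ψ (p : ℤ) : dbar K p ≫ ψ K p = e (Cq K (p-1)) := Injective.comp_factorThru _ _

lemma d_ψ (p : ℤ) : K.d (p-1) p ≫ ψ K p = q K (p-1) ≫ e (Cq K (p-1)) := by
  rw [← q_dbar, Category.assoc, dbar_ψ]

lemma d_ψ' (i j : ℤ) (h : i = j - 1) :
    K.d i j ≫ ψ K j = q K i ≫ e (Cq K i) ≫ eqToHom (by rw [h]) := by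
  subst h
  rw [eqToHom_refl, Category.comp_id, d_ψ]

noncomputable def hh (p : ℤ) : K.X p ⟶ EH K p :=
  Injective.factorThru (K.homologyπ p ≫ e (K.homology p)) (K.iCycles p)

lemma iCycles_hh (p : ℤ) : K.iCycles p ≫ hh K p = K.homologyπ p ≫ e (K.homology p) :=
  Injective.comp_factorThru _ _

/-- the terms of the CE-injective complex -/
noncomputable abbrev XC (p : ℤ) : A := T K p ⊞ (T K (p-1) ⊞ EH K p)

lemma tEq (p : ℤ) : T K p = T K (p+1-1) := by rw [add_sub_cancel_right]

/-- the differential -/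
noncomputable def dX (p : ℤ) : XC K p ⟶ XC K (p+1) :=
  biprod.fst ≫ eqToHom (tEq K p) ≫ biprod.inl ≫ biprod.inr

lemma dX_sq (p : ℤ) : dX K p ≫ dX K (p+1) = 0 := by
  simp [dX]

/-- the CE-injective complex attached to `K` -/
noncomputable def IC : CochainComplex A ℤ := CochainComplex.of (XC K) (dX K) (dX_sq K)

lemma IC_d (p : ℤ) : (IC K).d p (p+1) = dX K p := CochainComplex.of_d _ _ p

/-- components of the embedding -/
noncomputable def ιf (p : ℤ) : K.X p ⟶ XC K p :=
  biprod.lift (q K p ≫ e (Cq K p)) (biprod.lift (ψ K p) (hh K p))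

lemma ιf_fst (p : ℤ) : ιf K p ≫ biprod.fst = q K p ≫ e (Cq K p) := biprod.lift_fst _ _
lemma ιf_snd_fst (p : ℤ) : ιf K p ≫ biprod.snd ≫ biprod.fst = ψ K p := by
  simp [ιf]
lemma ιf_snd_snd (p : ℤ) : ιf K p ≫ biprod.snd ≫ biprod.snd = hh K p := by
  simp [ιf]

lemma d_q (i j : ℤ) : K.d i j ≫ q K j = 0 := by
  rw [← K.toCycles_i i j, Category.assoc, iCycles_q, comp_zero]

lemma d_hh (i j : ℤ) : K.d i j ≫ hh K j = 0 := by
  rw [← K.toCycles_i i j, Category.assoc, iCycles_hh, K.toCycles_comp_homologyπ_assoc, zero_comp]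

lemma ιf_comm (p : ℤ) : ιf K p ≫ dX K p = K.d p (p+1) ≫ ιf K (p+1) := by
  apply biprod.hom_ext
  · rw [Category.assoc, Category.assoc, ιf_fst, ← Category.assoc (K.d p (p+1)), d_q, zero_comp]
    simp [dX]
  · apply biprod.hom_ext
    · rw [Category.assoc, Category.assoc, Category.assoc, Category.assoc, ιf_snd_fst,
        d_ψ' K p (p+1) (by ring)]
      simp only [dX, Category.assoc, biprod.inr_snd_assoc, biprod.inl_fst, Category.comp_id]
      rw [← Category.assoc, ιf_fst, Category.assoc]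
    · rw [Category.assoc, Category.assoc, Category.assoc, Category.assoc, ιf_snd_snd, d_hh]
      simp [dX]

/-- the embedding `K ⟶ IC K` -/
noncomputable def ιC : K ⟶ IC K where
  f := ιf K
  comm' i j hij := by
    have hij' : i + 1 = j := hij
    subst hij'
    rw [IC_d]
    exact ιf_comm K i

lemma ιC_f (p : ℤ) : (ιC K).f p = ιf K p := rfl

lemma ιf_injective (p : ℤ) : Function.Injective (m (ιf K p)) := by
  rw [injective_iff_map_eq_zero]
  intro x hx
  have h1 : m (e (Cq K p)) (m (q K p) x) = 0 := by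
    rw [← m_comp_apply, ← ιf_fst, m_comp_apply, hx, map_zero]
  have h1' : m (q K p) x = 0 := e_injective _ (by rw [h1, map_zero])
  obtain ⟨z, rfl⟩ := exists_of_q_eq_zero K p x h1'
  have h3 : m (e (K.homology p)) (m (K.homologyπ p) z) = 0 := by
    rw [← m_comp_apply, ← iCycles_hh, m_comp_apply, ← ιf_snd_snd, m_comp_apply, hx, map_zero]
  have h3' : m (K.homologyπ p) z = 0 := e_injective _ (by rw [h3, map_zero])
  obtain ⟨y, hy⟩ := (FMH.homologyπ_eq_zero_iff K p z).1 h3'
  rw [← hy] at hx ⊢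
  have h2 : m (e (Cq K (p-1))) (m (q K (p-1)) y) = 0 := by
    rw [← m_comp_apply, ← d_ψ, m_comp_apply, ← ιf_snd_fst, m_comp_apply, hx, map_zero]
  have h2' : m (q K (p-1)) y = 0 := e_injective _ (by rw [h2, map_zero])
  obtain ⟨z', rfl⟩ := exists_of_q_eq_zero K (p-1) y h2'
  rw [← m_comp_apply, K.iCycles_d]; simp

instance (p : ℤ) : Mono ((ιC K).f p) := (mono_iff (ιf K p)).2 (ιf_injective K p)

instance mono_ιC : Mono (ιC K) := HomologicalComplex.mono_of_mono_f _ (fun p => inferInstance)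

lemma IC_d_snd_snd (i j : ℤ) :
    (IC K).d i j ≫ (biprod.snd : XC K j ⟶ T K (j-1) ⊞ EH K j) ≫ biprod.snd = 0 := by
  by_cases h : i + 1 = j
  · subst h
    have : dX K i ≫ (biprod.snd : XC K (i+1) ⟶ T K (i+1-1) ⊞ EH K (i+1)) ≫ biprod.snd = 0 := by
      simp [dX]
    rw [IC_d]; exact this
  · rw [(IC K).shape i j h, zero_comp]

instance mono_homologyMap_ιC (p : ℤ) : Mono (homologyMap (ιC K) p) := by
  rw [mono_iff, injective_iff_map_eq_zero]
  intro h hh0
  obtain ⟨z, rfl⟩ := FMH.homologyπ_surjective K p h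
  rw [← m_comp_apply, homologyπ_naturality, m_comp_apply, FMH.homologyπ_eq_zero_iff] at hh0
  obtain ⟨y, hy⟩ := hh0
  rw [← m_comp_apply, cyclesMap_i, m_comp_apply] at hy
  have h3 : m (e (K.homology p)) (m (K.homologyπ p) z) = 0 := by
    have e2 : m ((biprod.snd : XC K p ⟶ T K (p-1) ⊞ EH K p) ≫ biprod.snd)
        (m ((IC K).d (p-1) p) y) = 0 := by
      have h0 := IC_d_snd_snd K (p-1) p
      calc _ = m ((IC K).d (p-1) p ≫ (biprod.snd : XC K p ⟶ T K (p-1) ⊞ EH K p) ≫ biprod.snd) y :=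
            (m_comp_apply _ _ _).symm
        _ = 0 := by rw [h0]; simp
    rw [← m_comp_apply, ← iCycles_hh, m_comp_apply, ← ιf_snd_snd, m_comp_apply]
    have hy' : m (ιf K p) (m (K.iCycles p) z) = m ((IC K).d (p-1) p) y := hy.symm
    rw [hy']
    exact e2
  exact e_injective _ (by rw [h3, map_zero])

lemma exists_split (i j : ℤ) : ∃ s : (IC K).X j ⟶ (IC K).X i,
    (IC K).d i j ≫ s ≫ (IC K).d i j = (IC K).d i j := by
  by_cases h : i + 1 = j
  · subst h
    have : dX K i ≫ ((biprod.snd : XC K (i+1) ⟶ T K (i+1-1) ⊞ EH K (i+1)) ≫ biprod.fst ≫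
        eqToHom (tEq K i).symm ≫ (biprod.inl : _ ⟶ XC K i)) ≫ dX K i = dX K i := by
      simp [dX]
    refine ⟨(biprod.snd : XC K (i+1) ⟶ T K (i+1-1) ⊞ EH K (i+1)) ≫ biprod.fst ≫
      eqToHom (tEq K i).symm ≫ (biprod.inl : _ ⟶ XC K i), ?_⟩
    rw [IC_d]; exact this
  · exact ⟨0, by rw [(IC K).shape i j h, zero_comp]⟩

instance injective_IC_X (p : ℤ) : Injective ((IC K).X p) := by
  show Injective (XC K p); infer_instance

instance injective_IC_cycles (p : ℤ) : Injective ((IC K).cycles p) := by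
  obtain ⟨s, hs⟩ := exists_split K p (p+1)
  exact injective_cycles (IC K) p s hs

instance injective_IC_homology (p : ℤ) : Injective ((IC K).homology p) := by
  obtain ⟨s₁, hs₁⟩ := exists_split K p (p+1)
  obtain ⟨s₀, hs₀⟩ := exists_split K (p-1) p
  exact injective_homology (IC K) p s₁ hs₁ s₀ hs₀

lemma isZero_IC_X (n : ℤ) (hK : ∀ p < n, IsZero (K.X p)) : ∀ p < n, IsZero ((IC K).X p) := by
  intro p hp
  have hC : ∀ p < n, IsZero (Cq K p) := fun p hp => IsZero.of_epi (q K p) (hK p hp)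
  have hH : IsZero (K.homology p) :=
    IsZero.of_epi (K.homologyπ p) (IsZero.of_mono (K.iCycles p) (hK p hp))
  show IsZero (XC K p)
  exact isZero_biprod' (isZero_E (hC p hp))
    (isZero_biprod' (isZero_E (hC (p-1) (by omega))) (isZero_E hH))

lemma isZero_cokernel_X {K L : CochainComplex A ℤ} (f : K ⟶ L) (p : ℤ) (h : IsZero (L.X p)) :
    IsZero ((cokernel f).X p) :=
  IsZero.of_epi ((cokernel.π f).f p) h

end Groth.Agent.Helper6.CE3
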