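import Mathlib
import Groth.Agent.Helper6.CE3

set_option autoImplicit false
set_option linter.style.haveILetI false
set_option linter.unusedSectionVars false
set_option linter.unusedVariables false

/-!
# Cartan–Eilenberg resolutions: existence
-/

namespace Groth.Agent.Helper6.CE4

open CategoryTheory CategoryTheory.Limits ZeroObject HomologicalComplex
open Groth.Agent.Helper6.CE1 Groth.Agent.Helper6.CE2 Groth.Agent.Helper6.CE3

universe v u

variable {A : Type u} [Category.{v} A] [Abelian A] [EnoughInjectives A]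

/-- the successive cokernels -/
noncomputable def Mseq (K : CochainComplex A ℤ) : ℕ → CochainComplex A ℤ
  | 0 => K
  | j+1 => cokernel (ιC (Mseq K j))

lemma Mseq_bdd (K : CochainComplex A ℤ) (n : ℤ) (hK : ∀ p < n, IsZero (K.X p)) :
    ∀ j, ∀ p < n, IsZero ((Mseq K j).X p) := by
  intro j
  induction j with
  | zero => exact hK
  | succ j ih =>
    intro p hp
    exact isZero_cokernel_X _ p (isZero_IC_X _ n ih p hp)

noncomputable def ιs (K : CochainComplex A ℤ) (j : ℕ) : Mseq K j ⟶ IC (Mseq K j) := ιC (Mseq K j)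
noncomputable def πs (K : CochainComplex A ℤ) (j : ℕ) : IC (Mseq K j) ⟶ Mseq K (j+1) :=
  cokernel.π (ιC (Mseq K j))
lemma ws (K : CochainComplex A ℤ) (j : ℕ) : ιs K j ≫ πs K j = 0 := cokernel.condition _

lemma shortExact_s (K : CochainComplex A ℤ) (j : ℕ) :
    (ShortComplex.mk (ιs K j) (πs K j) (ws K j)).ShortExact :=
  ShortComplex.ShortExact.mk' (ShortComplex.exact_cokernel _) (mono_ιC _)
    (show Epi (cokernel.π (ιC (Mseq K j))) from inferInstance)

theorem main (K : CochainComplex A ℤ) (n : ℤ) (hK : ∀ p < n, IsZero (K.X p)) :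
    ∃ (I : CochainComplex (CochainComplex A ℤ) ℤ) (ε : K ⟶ I.X 0) (hε : ε ≫ I.d 0 1 = 0),
      (∃ i : ℤ, ∀ p q : ℤ, p < i → IsZero ((I.X q).X p)) ∧
      (∀ p : ℤ, CE.IsInjResolutionVia (((HomologicalComplex.eval A (ComplexShape.up ℤ) p).mapHomologicalComplex (ComplexShape.up ℤ)).obj I) (K.X p) (ε.f p)) ∧
      (∀ p : ℤ, CE.IsInjResolutionVia (((HomologicalComplex.cyclesFunctor A (ComplexShape.up ℤ) p).mapHomologicalComplex (ComplexShape.up ℤ)).obj I) (K.cycles p) (HomologicalComplex.cyclesMap ε p)) ∧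
      (∀ p : ℤ, CE.IsInjResolutionVia (((HomologicalComplex.homologyFunctor A (ComplexShape.up ℤ) p).mapHomologicalComplex (ComplexShape.up ℤ)).obj I) (K.homology p) (HomologicalComplex.homologyMap ε p)) := by
  refine ⟨cz (Mseq K) (fun j => IC (Mseq K j)) (ιs K) (πs K) (ws K), ιC K, ?_, ⟨n, ?_⟩, ?_, ?_, ?_⟩
  · exact splice_w0 (ιs K 0) (πs K 0) (ιs K 1) (ws K 0) _
      (cz_d (Mseq K) (fun j => IC (Mseq K j)) (ιs K) (πs K) (ws K) 0)
  · intro p q hp
    cases q with
    | ofNat j => exact isZero_IC_X _ n (Mseq_bdd K n hK j) p hp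
    | negSucc k =>
      exact Functor.map_isZero (HomologicalComplex.eval A (ComplexShape.up ℤ) p) (isZero_zero _)
  · intro p
    exact splice_res (Mseq K) (fun j => IC (Mseq K j)) (ιs K) (πs K) (ws K)
      (HomologicalComplex.eval A (ComplexShape.up ℤ) p)
      (fun j => eval_shortExact _ (shortExact_s K j) p) (fun j => injective_IC_X _ p)
  · intro p
    exact splice_res (Mseq K) (fun j => IC (Mseq K j)) (ιs K) (πs K) (ws K)
      (HomologicalComplex.cyclesFunctor A (ComplexShape.up ℤ) p)
      (fun j => cycles_shortExact _ (shortExact_s K j) (fun p => mono_homologyMap_ιC _ p) p)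
      (fun j => injective_IC_cycles _ p)
  · intro p
    exact splice_res (Mseq K) (fun j => IC (Mseq K j)) (ιs K) (πs K) (ws K)
      (HomologicalComplex.homologyFunctor A (ComplexShape.up ℤ) p)
      (fun j => homology_shortExact _ (shortExact_s K j) (fun p => mono_homologyMap_ιC _ p) p)
      (fun j => injective_IC_homology _ p)

end Groth.Agent.Helper6.CE4
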