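import Mathlib
import Groth.Prelude
import Groth.Agent.Helper6.CMCaten
import Groth.Agent.Helper2.RegCM

/-!
# Heights along covering relations in rings whose localizations are Cohen–Macaulay
-/

set_option autoImplicit false
universe u

namespace Groth.Agent.Helper6.CMCaten2

open IsLocalRing Groth.Agent.Helper6.CMCaten

variable {R : Type u} [CommRing R] [IsNoetherianRing R]

theorem height_covBy_of_loc (x y : PrimeSpectrum R)
    (h : HasCMFull (Localization.AtPrime y.asIdeal)) (hxy : x ⋖ y) :
    y.asIdeal.height = x.asIdeal.height + 1 := by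
  set B := Localization.AtPrime y.asIdeal with hB
  have hle : x.asIdeal ≤ y.asIdeal := hxy.1.le
  have hdisj : Disjoint (y.asIdeal.primeCompl : Set R) (x.asIdeal : Set R) := by
    rw [Set.disjoint_left]
    intro a ha hax
    exact ha (hle hax)
  have hPprime : (x.asIdeal.map (algebraMap R B)).IsPrime :=
    IsLocalization.isPrime_of_isPrime_disjoint y.asIdeal.primeCompl B x.asIdeal x.2 hdisj
  let P : PrimeSpectrum B := ⟨x.asIdeal.map (algebraMap R B), hPprime⟩
  have hcomapP : P.asIdeal.comap (algebraMap R B) = x.asIdeal :=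
    IsLocalization.under_map_of_isPrime_disjoint y.asIdeal.primeCompl B x.2 hdisj
  have hcomap_max : (maximalIdeal B).comap (algebraMap R B) = y.asIdeal :=
    IsLocalization.AtPrime.under_maximalIdeal _ y.asIdeal
  have h1 := dim_eq h P
  rw [IsLocalization.AtPrime.ringKrullDim_eq_height y.asIdeal B] at h1
  have h2 : P.asIdeal.height = x.asIdeal.height :=
    IsLocalization.height_map_of_disjoint y.asIdeal.primeCompl x.asIdeal hdisj
  rw [h2, Groth.Agent.Helper2.Caten.dimQuot_eq_coheight P] at h1
  have hcomap_lt : ∀ J K : PrimeSpectrum B, J < K →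
      J.asIdeal.comap (algebraMap R B) < K.asIdeal.comap (algebraMap R B) := by
    intro J K hJK
    refine lt_of_le_of_ne (Ideal.comap_mono hJK.le) fun heq => ?_
    have e1 := IsLocalization.map_under y.asIdeal.primeCompl B J.asIdeal
    have e2 := IsLocalization.map_under y.asIdeal.primeCompl B K.asIdeal
    rw [Ideal.under_def] at e1 e2
    rw [heq, e2] at e1
    exact hJK.ne (PrimeSpectrum.ext e1.symm)
  have hco : Order.coheight P = 1 := by
    apply le_antisymm
    · rw [Order.coheight_le_iff']
      intro s hs
      by_contra hlen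
      have hlen2 : 2 ≤ s.length := by
        by_contra h'
        apply hlen
        have : s.length ≤ 1 := by omega
        exact_mod_cast this
      have h01 : s ⟨0, by omega⟩ < s ⟨1, by omega⟩ := s.strictMono (by simp [Fin.lt_def])
      have h12 : s ⟨1, by omega⟩ < s ⟨2, by omega⟩ := s.strictMono (by simp [Fin.lt_def])
      have hs0 : s ⟨0, by omega⟩ = P := hs
      have c1 := hcomap_lt _ _ h01
      have c2 := hcomap_lt _ _ h12
      rw [hs0, hcomapP] at c1
      have c3 : (s ⟨2, by omega⟩).asIdeal.comap (algebraMap R B) ≤ y.asIdeal :=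
        le_trans (Ideal.comap_mono (IsLocalRing.le_maximalIdeal (s ⟨2, by omega⟩).2.ne_top))
          hcomap_max.le
      have hprime : ((s ⟨1, by omega⟩).asIdeal.comap (algebraMap R B)).IsPrime :=
        Ideal.comap_isPrime _ _
      exact hxy.2 (c := ⟨_, hprime⟩) (show x.asIdeal < _ from c1)
        (show _ < y.asIdeal from lt_of_lt_of_le c2 c3)
    · rw [Order.one_le_iff_ne_zero, Order.coheight_ne_zero]
      intro hmax
      have hPm : P.asIdeal ≤ maximalIdeal B := IsLocalRing.le_maximalIdeal P.2.ne_top
      have : (⟨maximalIdeal B, inferInstance⟩ : PrimeSpectrum B) ≤ P := hmax hPm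
      have heq : P.asIdeal = maximalIdeal B := le_antisymm hPm this
      have : x.asIdeal = y.asIdeal := by rw [← hcomapP, heq, hcomap_max]
      exact hxy.1.ne (PrimeSpectrum.ext this)
  rw [hco] at h1
  have h3 : ((y.asIdeal.height : ℕ∞) : WithBot ℕ∞) =
      ((x.asIdeal.height + 1 : ℕ∞) : WithBot ℕ∞) := by
    rw [h1, add_comm]; rfl
  exact WithBot.coe_eq_coe.mp h3

/-- In a regular ring, heights go up by one along covering relations. -/
theorem height_covBy_of_isRegularRing (R : Type u) [CommRing R] [IsRegularRing R]
    (x y : PrimeSpectrum R) (hxy : x ⋖ y) :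
    y.asIdeal.height = x.asIdeal.height + 1 := by
  haveI : LocCoh.IsCohenMacaulayLocalRing (Localization.AtPrime y.asIdeal) :=
    { supportDim_eq_depth := Groth.Agent.Helper2.RegCM.cm_of_isRegularLocalRing _ }
  exact height_covBy_of_loc x y (hasCMFull_of_cm _) hxy

/-- saturated chains in a regular ring -/
theorem length_add_height_of_isRegularRing (R : Type u) [CommRing R] [IsRegularRing R]
    (s : LTSeries (PrimeSpectrum R))
    (hsat : ∀ i : Fin s.length, s (Fin.castSucc i) ⋖ s (Fin.succ i)) :
    (s.length : ℕ∞) + s.head.asIdeal.height = s.last.asIdeal.height := by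
  rw [height_eq_of_saturated (height_covBy_of_isRegularRing R) s hsat, add_comm]

end Groth.Agent.Helper6.CMCaten2
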