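import Mathlib
import Groth.Agent.Helper2.DepthCM2
import Groth.Agent.Helper2.DepthCM4
import Groth.Agent.Helper2.Ass
import Groth.Agent.Helper2.SuppDim

/-!
# `dim M ≤ dim M/IM + depth_I M` for a Cohen–Macaulay module over a local ring
-/

set_option autoImplicit false
universe u
open IsLocalRing RingTheory.Sequence
open scoped Pointwise

namespace Groth.Agent.Helper6.CMIdealDepth

open Groth.Agent.Helper2

variable {S : Type u} [CommRing S] [IsNoetherianRing S] [IsLocalRing S]

theorem cm_supportDim_le (I : Ideal S) (hI : I ≠ ⊤) : ∀ (n : ℕ) (M : Type u) [AddCommGroup M]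
    [Module S M] [Module.Finite S M], LocCoh.IsCohenMacaulayModule S M → LocCoh.depth S M = n →
    Module.supportDim S M ≤ Module.supportDim S (M ⧸ I • (⊤ : Submodule S M)) +
      ((LocCoh.idealDepth I M : ℕ∞) : WithBot ℕ∞) := by
  have hIm : I ≤ maximalIdeal S := IsLocalRing.le_maximalIdeal hI
  intro n
  induction n with
  | zero =>
    intro M _ _ _ hM h0
    haveI := DepthCM2.cm_nontrivial hM
    have hIM : I • (⊤ : Submodule S M) ≠ ⊤ := by
      intro h
      apply Depth.smul_top_ne_top S M
      exact eq_top_iff.2 (h.symm.le.trans (Submodule.smul_mono_left hIm))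
    haveI : Nontrivial (M ⧸ I • (⊤ : Submodule S M)) := Submodule.Quotient.nontrivial_iff.mpr hIM
    have h1 : (0 : WithBot ℕ∞) ≤ Module.supportDim S (M ⧸ I • (⊤ : Submodule S M)) := by
      have := DepthCM4.depth_le_supportDim (A := S) (M ⧸ I • (⊤ : Submodule S M))
      exact le_trans (by exact_mod_cast bot_le) this
    unfold LocCoh.IsCohenMacaulayModule at hM
    rw [hM, h0]
    have h2 : (0 : WithBot ℕ∞) ≤ ((LocCoh.idealDepth I M : ℕ∞) : WithBot ℕ∞) := by
      exact_mod_cast bot_le
    calc (((0 : ℕ) : ℕ∞) : WithBot ℕ∞) = 0 + 0 := by simp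
      _ ≤ _ := add_le_add h1 h2
  | succ n ih =>
    intro M _ _ _ hM hn
    haveI := DepthCM2.cm_nontrivial hM
    have hIM : I • (⊤ : Submodule S M) ≠ ⊤ := by
      intro h
      apply Depth.smul_top_ne_top S M
      exact eq_top_iff.2 (h.symm.le.trans (Submodule.smul_mono_left hIm))
    have h2 : (0 : WithBot ℕ∞) ≤ ((LocCoh.idealDepth I M : ℕ∞) : WithBot ℕ∞) := by
      exact_mod_cast bot_le
    by_cases hass : ∃ p ∈ associatedPrimes S M, I ≤ p
    · obtain ⟨p, hp, hIp⟩ := hass
      have hpp : p.IsPrime := (AssociatedPrimes.mem_iff.1 hp).isPrime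
      have h3 := DepthCM2.cm_dim_quot_ass M hM p hp
      have hpsupp : (⟨p, hpp⟩ : PrimeSpectrum S) ∈ Module.support S M := by
        rw [Module.mem_support_iff_of_finite]
        rw [AssociatedPrimes.mem_iff, isAssociatedPrime_iff] at hp
        obtain ⟨-, y, hy⟩ := hp
        intro a ha
        show a ∈ p
        rw [hy, Submodule.mem_colon_singleton, Submodule.mem_bot]
        exact Module.mem_annihilator.mp ha y
      have h4 : (⟨p, hpp⟩ : PrimeSpectrum S) ∈ Module.support S (M ⧸ I • (⊤ : Submodule S M)) := by
        rw [Module.support_quotient]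
        exact ⟨hpsupp, hIp⟩
      have h5 := SuppDim.dim_quot_le_supportDim S _ _ h4
      rw [← h3]
      calc ringKrullDim (S ⧸ p) ≤ Module.supportDim S (M ⧸ I • (⊤ : Submodule S M)) + 0 := by
            rw [add_zero]; exact h5
        _ ≤ _ := add_le_add le_rfl h2
    · push Not at hass
      have hx : ∃ x ∈ I, IsSMulRegular M x := by
        by_contra hcon
        push Not at hcon
        rcases Ass.exists_le_assPrime_or_le S M I ⊥ (fun x hx _ => hcon x hx) with h | h
        · obtain ⟨p, hp⟩ := associatedPrimes.nonempty S M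
          exact hass p hp (h.trans bot_le)
        · obtain ⟨p, hp, hIp⟩ := h
          exact hass p hp hIp
      obtain ⟨x, hxI, hxreg⟩ := hx
      have hxm : x ∈ maximalIdeal S := hIm hxI
      have hM' := DepthCM2.cm_quotSMulTop M hM x hxm hxreg
      have hd1 := DepthCM.idealDepth_quotSMulTop (maximalIdeal S) M
        (Depth.smul_top_ne_top S M) x hxm hxreg
      have hdI := DepthCM.idealDepth_quotSMulTop I M hIM x hxI hxreg
      have hn' : LocCoh.depth S (QuotSMulTop x M) = n := by
        unfold LocCoh.depth at hn ⊢
        rw [hn] at hd1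
        have : LocCoh.idealDepth (maximalIdeal S) (QuotSMulTop x M) + 1 = (n : ℕ∞) + 1 := by
          rw [hd1]; push_cast; rfl
        exact (ENat.add_left_injective_of_ne_top (ENat.one_ne_top)) this
      have h3 := ih (QuotSMulTop x M) hM' hn'
      -- supports of the quotients by `I` agree
      have hsupp : Module.support S (QuotSMulTop x M ⧸ I • (⊤ : Submodule S (QuotSMulTop x M))) =
          Module.support S (M ⧸ I • (⊤ : Submodule S M)) := by
        have hq : Module.support S (QuotSMulTop x M) =
            Module.support S M ∩ PrimeSpectrum.zeroLocus {x} := by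
          have : (x • (⊤ : Submodule S M)) = (Ideal.span {x}) • (⊤ : Submodule S M) :=
            (Submodule.ideal_span_singleton_smul x ⊤).symm
          show Module.support S (M ⧸ x • (⊤ : Submodule S M)) = _
          rw [this, Module.support_quotient, PrimeSpectrum.zeroLocus_span]
        rw [Module.support_quotient, Module.support_quotient, hq, Set.inter_assoc]
        congr 1
        refine Set.inter_eq_right.mpr ?_
        intro q hq
        rw [PrimeSpectrum.mem_zeroLocus, Set.singleton_subset_iff]
        exact hq hxI
      have hdim : Module.supportDim S (QuotSMulTop x M ⧸ I • (⊤ : Submodule S (QuotSMulTop x M))) =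
          Module.supportDim S (M ⧸ I • (⊤ : Submodule S M)) := by
        unfold Module.supportDim
        rw [hsupp]
      rw [hdim] at h3
      unfold LocCoh.IsCohenMacaulayModule at hM hM'
      rw [hM'] at h3
      rw [hM]
      unfold LocCoh.depth at hn hn'
      unfold LocCoh.depth
      rw [hn, ← hdI]
      unfold LocCoh.depth at h3
      rw [hn'] at h3
      push_cast
      rw [← add_assoc]
      exact add_le_add h3 le_rfl

end Groth.Agent.Helper6.CMIdealDepth
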