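import Mathlib

/-!
# Inverse systems: extension from a tail, and the cohomology of an inverse limit of complexes
(elementwise algebra)
-/

set_option autoImplicit false
set_option linter.style.haveILetI false
set_option linter.unusedSectionVars false
set_option linter.unusedVariables false

namespace Groth.Agent.Helper6.CSL1

universe u

section seq

variable {X : ℕ → Type u} (n₀ : ℕ)

private lemma cast_aux (k j : ℕ) (b : ∀ k, X (n₀ + k)) (hj : j = k)
    (e : n₀ + j = n₀ + k) : cast (congrArg X e) (b j) = b k := by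
  subst hj
  rfl

/-- a family on the tail extends to a family on all indices -/
lemma exists_family_of_tail [∀ n, Inhabited (X n)] (b : ∀ k, X (n₀ + k)) :
    ∃ a : ∀ n, X n, ∀ k, a (n₀ + k) = b k := by
  classical
  refine ⟨fun n => if h : n₀ ≤ n then cast (congrArg X (Nat.add_sub_of_le h)) (b (n - n₀))
    else default, ?_⟩
  intro k
  have h : n₀ ≤ n₀ + k := Nat.le_add_right _ _
  simp only [dif_pos h]
  exact cast_aux n₀ k (n₀ + k - n₀) b (by omega) (Nat.add_sub_of_le h)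

variable (t : ∀ n, X (n + 1) → X n)

/-- a property stable under the transition maps holds everywhere if it holds on a tail -/
lemma forall_of_tail (P : ℕ → Prop) (hstep : ∀ n, P (n + 1) → P n)
    (htail : ∀ n, n₀ ≤ n → P n) : ∀ n, P n := by
  have key : ∀ d n, n + d = n₀ → P n := by
    intro d
    induction d with
    | zero =>
      intro n hn
      exact htail n (by omega)
    | succ d ih =>
      intro n hn
      exact hstep n (ih (n + 1) (by omega))
  intro n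
  by_cases h : n₀ ≤ n
  · exact htail n h
  · exact key (n₀ - n) n (by omega)

private lemma ext_aux : ∀ (i j : ℕ), i + j = n₀ → ∀ (a : ∀ n, X n),
    (∀ n, n₀ ≤ n + j → t n (a (n + 1)) = a n) →
    ∃ a' : ∀ n, X n, (∀ n, t n (a' (n + 1)) = a' n) ∧ ∀ n, n₀ ≤ n → a' n = a n := by
  classical
  intro i
  induction i with
  | zero =>
    intro j hj a ha
    exact ⟨a, fun n => ha n (by omega), fun n _ => rfl⟩
  | succ i ih =>
    intro j hj a ha
    let a1 : ∀ n, X n := fun n => if n₀ ≤ n then a n else t n (a (n + 1))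
    have ha1 : ∀ n, n₀ ≤ n → a1 n = a n := fun n hn => if_pos hn
    have ha1' : ∀ n, ¬ n₀ ≤ n → a1 n = t n (a (n + 1)) := fun n hn => if_neg hn
    have hc : ∀ n, n₀ ≤ n + (j + 1) → t n (a1 (n + 1)) = a1 n := by
      intro n hn
      by_cases h1 : n₀ ≤ n
      · rw [ha1 n h1, ha1 (n + 1) (by omega)]
        exact ha n (by omega)
      · rw [ha1' n h1]
        by_cases h2 : n₀ ≤ n + 1
        · rw [ha1 (n + 1) h2]
        · rw [ha1' (n + 1) h2, ha (n + 1) (by omega)]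
    obtain ⟨a', h1, h2⟩ := ih (j + 1) (by omega) a1 hc
    exact ⟨a', h1, fun n hn => (h2 n hn).trans (ha1 n hn)⟩

/-- a family compatible on a tail can be modified below the tail to a compatible family -/
lemma exists_compatible_extension (a : ∀ n, X n)
    (ha : ∀ n, n₀ ≤ n → t n (a (n + 1)) = a n) :
    ∃ a' : ∀ n, X n, (∀ n, t n (a' (n + 1)) = a' n) ∧ ∀ n, n₀ ≤ n → a' n = a n :=
  ext_aux n₀ t n₀ 0 (by omega) a (fun n hn => ha n (by omega))

/-- a compatible family on the tail extends to a compatible family -/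
lemma exists_compatible_of_tail [∀ n, Inhabited (X n)] (b : ∀ k, X (n₀ + k))
    (hb : ∀ k, t (n₀ + k) (b (k + 1)) = b k) :
    ∃ a : ∀ n, X n, (∀ n, t n (a (n + 1)) = a n) ∧ ∀ k, a (n₀ + k) = b k := by
  obtain ⟨a0, ha0⟩ := exists_family_of_tail n₀ b
  obtain ⟨a, h1, h2⟩ := exists_compatible_extension n₀ t a0 (by
    intro n hn
    obtain ⟨k, rfl⟩ := Nat.exists_eq_add_of_le hn
    have e1 : a0 (n₀ + k + 1) = b (k + 1) := ha0 (k + 1)
    rw [e1, ha0 k]
    exact hb k)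
  exact ⟨a, h1, fun k => (h2 _ (Nat.le_add_right _ _)).trans (ha0 k)⟩

end seq

section alg

variable {P Q R S : ℕ → Type u} [∀ k, AddCommGroup (P k)] [∀ k, AddCommGroup (Q k)]
  [∀ k, AddCommGroup (R k)] [∀ k, AddCommGroup (S k)]
  (dP : ∀ k, P k →+ Q k) (dQ : ∀ k, Q k →+ R k) (dR : ∀ k, R k →+ S k)
  (sP : ∀ k, P (k + 1) →+ P k) (sQ : ∀ k, Q (k + 1) →+ Q k) (sR : ∀ k, R (k + 1) →+ R k)
  (sS : ∀ k, S (k + 1) →+ S k)
  (hdd1 : ∀ k x, dQ k (dP k x) = 0) (hdd2 : ∀ k x, dR k (dQ k x) = 0)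
  (hsP : ∀ k x, dP k (sP k x) = sQ k (dP (k + 1) x))
  (hsQ : ∀ k x, dQ k (sQ k x) = sR k (dQ (k + 1) x))
  (hsR : ∀ k x, dR k (sR k x) = sS k (dR (k + 1) x))
  (TR : ∀ k, R k →+ R 0)
  (hTR0 : ∀ x, TR 0 x = x) (hTRs : ∀ k x, TR (k + 1) x = TR k (sR k x))
  (ha2 : ∀ u : ∀ k, P k, ∃ v : ∀ k, P k, ∀ k, v k - sP k (v (k + 1)) = u k)
  (ha1 : ∀ u : ∀ k, Q k, ∃ v : ∀ k, Q k, ∀ k, v k - sQ k (v (k + 1)) = u k)
  (hb : ∀ e : ∀ k, Q k, (∀ k, dQ k (e k) = 0) → ∃ (w : ∀ k, Q k) (u : ∀ k, P k),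
    (∀ k, dQ k (w k) = 0) ∧ ∀ k, e k - (w k - sQ k (w (k + 1))) = dP k (u k))
  (hcs : ∀ k (z' : R 0), dR 0 z' = 0 → ∃ (z : R k) (b : Q 0), dR k z = 0 ∧ TR k z = z' + dQ 0 b)
  (hci : ∀ k (z : R k), dR k z = 0 → (∃ b : Q 0, TR k z = dQ 0 b) → ∃ b' : Q k, z = dQ k b')
  {LQ LR LS : Type u} [AddCommGroup LQ] [AddCommGroup LR] [AddCommGroup LS]
  (dLQ : LQ →+ LR) (dLR : LR →+ LS)
  (pQ : ∀ k, LQ →+ Q k) (pR : ∀ k, LR →+ R k) (pS : ∀ k, LS →+ S k)
  (hpR : ∀ k x, sR k (pR (k + 1) x) = pR k x)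
  (hpdQ : ∀ k y, pR k (dLQ y) = dQ k (pQ k y)) (hpdR : ∀ k z, pS k (dLR z) = dR k (pR k z))
  (hEQ : ∀ y : ∀ k, Q k, (∀ k, sQ k (y (k + 1)) = y k) → ∃ x : LQ, ∀ k, pQ k x = y k)
  (hER : ∀ y : ∀ k, R k, (∀ k, sR k (y (k + 1)) = y k) → ∃ x : LR, ∀ k, pR k x = y k)
  (hUR : ∀ x x' : LR, (∀ k, pR k x = pR k x') → x = x')
  (hUS : ∀ x x' : LS, (∀ k, pS k x = pS k x') → x = x')

include hdd2 hsQ hsR hTR0 hTRs ha1 hcs hci hpdR hER hUS in
/-- surjectivity on cohomology in degree `m` of the projection from the limit -/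
theorem lim_surj (z' : R 0) (hz' : dR 0 z' = 0) :
    ∃ (z : LR) (y' : Q 0), dLR z = 0 ∧ pR 0 z = z' + dQ 0 y' := by
  choose z b hz hTz using fun k => hcs k z' hz'
  have hcyc : ∀ k, dR k (sR k (z (k + 1)) - z k) = 0 := by
    intro k
    rw [map_sub, hsR, hz, hz, map_zero, sub_zero]
  have hex : ∀ k, ∃ e : Q k, sR k (z (k + 1)) - z k = dQ k e := by
    intro k
    refine hci k _ (hcyc k) ⟨b (k + 1) - b k, ?_⟩
    rw [map_sub, ← hTRs, hTz, hTz, map_sub]
    abel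
  choose e he using hex
  obtain ⟨c, hc⟩ := ha1 e
  have hcompat : ∀ k, sR k ((fun k => z k + dQ k (c k)) (k + 1)) =
      (fun k => z k + dQ k (c k)) k := by
    intro k
    show sR k (z (k + 1) + dQ (k + 1) (c (k + 1))) = z k + dQ k (c k)
    have h1 : sR k (z (k + 1)) = z k + dQ k (e k) := by
      rw [← he k]; abel
    rw [map_add, ← hsQ, h1, ← hc k, map_sub]
    abel
  obtain ⟨x, hx⟩ := hER (fun k => z k + dQ k (c k)) hcompat
  refine ⟨x, b 0 + c 0, ?_, ?_⟩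
  · apply hUS
    intro k
    rw [hpdR, hx k, map_zero]
    show dR k (z k + dQ k (c k)) = 0
    rw [map_add, hz, hdd2, add_zero]
  · rw [hx 0]
    show z 0 + dQ 0 (c 0) = z' + dQ 0 (b 0 + c 0)
    have h0 := hTz 0
    rw [hTR0] at h0
    rw [h0, map_add]
    abel

include hdd1 hsP hsQ hsR hTR0 hTRs ha2 hb hci hpR hpdQ hpdR hEQ hUR in
/-- injectivity on cohomology in degree `m` of the projection from the limit -/
theorem lim_inj (z : LR) (hz : dLR z = 0) (y' : Q 0) (hy' : pR 0 z = dQ 0 y') :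
    ∃ y : LQ, dLQ y = z := by
  have hzk : ∀ k, dR k (pR k z) = 0 := by
    intro k
    rw [← hpdR, hz, map_zero]
  have hT : ∀ k, TR k (pR k z) = pR 0 z := by
    intro k
    induction k with
    | zero => exact hTR0 _
    | succ k ih => rw [hTRs, hpR, ih]
  have hex : ∀ k, ∃ y : Q k, pR k z = dQ k y := by
    intro k
    exact hci k _ (hzk k) ⟨y', by rw [hT, hy']⟩
  choose y hy using hex
  have hecyc : ∀ k, dQ k (y k - sQ k (y (k + 1))) = 0 := by
    intro k
    rw [map_sub, hsQ, ← hy, ← hy, hpR, sub_self]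
  obtain ⟨w, u, hw, hwu⟩ := hb (fun k => y k - sQ k (y (k + 1))) hecyc
  obtain ⟨v, hv⟩ := ha2 u
  have hcompat : ∀ k, sQ k ((fun k => y k - w k - dP k (v k)) (k + 1)) =
      (fun k => y k - w k - dP k (v k)) k := by
    intro k
    show sQ k (y (k + 1) - w (k + 1) - dP (k + 1) (v (k + 1))) = y k - w k - dP k (v k)
    have h1 := hwu k
    have h2 := hv k
    have h3 : dP k (u k) = dP k (v k) - sQ k (dP (k + 1) (v (k + 1))) := by
      rw [← h2, map_sub, hsP]
    rw [h3] at h1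
    rw [map_sub, map_sub]
    have h4 : sQ k (y (k + 1)) = y k - (w k - sQ k (w (k + 1))) -
        (dP k (v k) - sQ k (dP (k + 1) (v (k + 1)))) := by
      rw [← h1]; abel
    rw [h4]
    abel
  obtain ⟨x, hx⟩ := hEQ (fun k => y k - w k - dP k (v k)) hcompat
  refine ⟨x, ?_⟩
  apply hUR
  intro k
  rw [hpdQ, hx k]
  show dQ k (y k - w k - dP k (v k)) = pR k z
  rw [map_sub, map_sub, hw, hdd1, sub_zero, sub_zero, hy]

end alg

end Groth.Agent.Helper6.CSL1
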