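import Mathlib
import Groth.Agent.Helper4.ConstSheafExact

/-!
# Global sections of abelian sheaves on a site, `H¹` and lifting of global sections

`Z J` is the constant sheaf `ℤ`; morphisms `Z J ⟶ F` are compatible families of sections.
-/

set_option autoImplicit false
set_option linter.style.haveILetI false
set_option linter.unusedSectionVars false
set_option linter.unusedVariables false

namespace Groth.Agent.Helper6.SH1A

open CategoryTheory Opposite Limits
universe u
variable {C : Type u} [SmallCategory C] (J : GrothendieckTopology C)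

/-- the constant presheaf `ℤ` -/
abbrev Zp : Cᵒᵖ ⥤ AddCommGrpCat.{u} :=
  (Functor.const Cᵒᵖ).obj (AddCommGrpCat.of (ULift.{u} ℤ))

/-- the constant sheaf `ℤ` -/
noncomputable abbrev Z : Sheaf J AddCommGrpCat.{u} :=
  (constantSheaf J AddCommGrpCat.{u}).obj (AddCommGrpCat.of (ULift.{u} ℤ))

/-- the canonical section `1` of the constant sheaf -/
noncomputable def one (U : Cᵒᵖ) : (Z J).obj.obj U :=
  (toSheafify J (Zp (C := C))).app U (ULift.up 1)

lemma one_map {U V : Cᵒᵖ} (f : U ⟶ V) : (Z J).obj.map f (one J U) = one J V := by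
  have := ConcreteCategory.congr_hom ((toSheafify J (Zp (C := C))).naturality f) (ULift.up 1)
  exact this.symm

/-- a compatible family of sections defines a morphism from the constant sheaf `ℤ` -/
theorem exists_hom_of_family (F : Sheaf J AddCommGrpCat.{u}) (s : ∀ U : Cᵒᵖ, F.obj.obj U)
    (hs : ∀ {U V : Cᵒᵖ} (f : U ⟶ V), F.obj.map f (s U) = s V) :
    ∃ σ : Z J ⟶ F, ∀ U, σ.hom.app U (one J U) = s U := by
  let β : Zp (C := C) ⟶ F.obj :=
    { app := fun U => AddCommGrpCat.ofHom
        ((zmultiplesHom _ (s U)).comp AddEquiv.ulift.toAddMonoidHom)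
      naturality := by
        intro U V f
        apply AddCommGrpCat.hom_ext
        apply Groth.Agent.Helper4.ConstSheafExact.ulift_int_hom_ext
        have h1 : ((Zp (C := C)).map f) = 𝟙 _ := rfl
        rw [h1, Category.id_comp]
        simp only [AddCommGrpCat.hom_comp, AddCommGrpCat.hom_ofHom, AddMonoidHom.comp_apply]
        have h2 : (AddEquiv.ulift.toAddMonoidHom : ULift.{u} ℤ →+ ℤ) (ULift.up 1) = 1 := rfl
        rw [h2]
        simp only [zmultiplesHom_apply, one_smul]
        exact (hs f).symm }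
  refine ⟨⟨sheafifyLift J β F.property⟩, ?_⟩
  intro U
  have h := congrArg (fun k => k.app U) (toSheafify_sheafifyLift J β F.property)
  have h2 := ConcreteCategory.congr_hom h (ULift.up 1)
  refine h2.trans ?_
  show (zmultiplesHom _ (s U)) (1 : ℤ) = s U
  simp

/-- a morphism from the constant sheaf `ℤ` is determined by the images of the sections `1` -/
theorem hom_ext_one (F : Sheaf J AddCommGrpCat.{u}) (σ σ' : Z J ⟶ F)
    (h : ∀ U, σ.hom.app U (one J U) = σ'.hom.app U (one J U)) : σ = σ' := by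
  apply Sheaf.hom_ext
  apply sheafify_hom_ext _ _ _ F.property
  ext U : 2
  apply AddCommGrpCat.hom_ext
  apply Groth.Agent.Helper4.ConstSheafExact.ulift_int_hom_ext
  exact h U

/-- the compatible family of a morphism from the constant sheaf `ℤ` -/
lemma family_compat (F : Sheaf J AddCommGrpCat.{u}) (σ : Z J ⟶ F) {U V : Cᵒᵖ} (f : U ⟶ V) :
    F.obj.map f (σ.hom.app U (one J U)) = σ.hom.app V (one J V) := by
  have := ConcreteCategory.congr_hom (σ.hom.naturality f) (one J U)
  rw [← one_map J f]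
  exact this.symm


/-! ### separatedness -/

/-- the underlying presheaf of sets of an abelian sheaf is a sheaf -/
lemma isSheaf_forget (F : Sheaf J AddCommGrpCat.{u}) :
    Presieve.IsSheaf J (F.obj ⋙ forget AddCommGrpCat.{u}) :=
  (isSheaf_iff_isSheaf_of_type J _).1 ((sheafCompose J (forget AddCommGrpCat.{u})).obj F).property

/-- sections of an abelian sheaf agreeing on a covering sieve are equal -/
theorem sep (F : Sheaf J AddCommGrpCat.{u}) {U : C} (S : Sieve U) (hS : S ∈ J U)
    (x y : F.obj.obj (op U))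
    (h : ∀ ⦃V : C⦄ (f : V ⟶ U), S f → F.obj.map f.op x = F.obj.map f.op y) : x = y := by
  have hsep := (isSheaf_forget J F).isSeparated
  exact (hsep S hS).ext (t₁ := (x : (F.obj ⋙ forget AddCommGrpCat.{u}).obj (op U))) (t₂ := y)
    (fun V f hf => h f hf)

/-! ### gluing unique local solutions -/

theorem exists_family_of_local {F : Cᵒᵖ ⥤ Type u} (hF : Presieve.IsSheaf J F)
    (Φ : ∀ U : Cᵒᵖ, F.obj U → Prop)
    (hres : ∀ {U V : Cᵒᵖ} (f : U ⟶ V) (x : F.obj U), Φ U x → Φ V (F.map f x))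
    (huniq : ∀ (U : Cᵒᵖ) (x y : F.obj U), Φ U x → Φ U y → x = y)
    (hloc : ∀ U : C, ∃ S ∈ J U, ∀ ⦃V : C⦄ (f : V ⟶ U), S f → ∃ x : F.obj (op V), Φ (op V) x)
    (hglue : ∀ (U : C) (x : F.obj (op U)) (S : Sieve U), S ∈ J U →
      (∀ ⦃V : C⦄ (f : V ⟶ U), S f → Φ (op V) (F.map f.op x)) → Φ (op U) x) :
    ∃ s : ∀ U : Cᵒᵖ, F.obj U, (∀ U, Φ U (s U)) ∧
      ∀ {U V : Cᵒᵖ} (f : U ⟶ V), F.map f (s U) = s V := by
  have key : ∀ U : C, ∃ x : F.obj (op U), Φ (op U) x := by
    intro U
    obtain ⟨S, hS, hx⟩ := hloc U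
    choose x hx using hx
    let fam : Presieve.FamilyOfElements F S.arrows := fun V f hf => x f hf
    have hcompat : fam.Compatible := by
      intro Y₁ Y₂ W g₁ g₂ f₁ f₂ h₁ h₂ hcomm
      exact huniq _ _ _ (hres g₁.op _ (hx f₁ h₁)) (hres g₂.op _ (hx f₂ h₂))
    refine ⟨(hF S hS).amalgamate fam hcompat, ?_⟩
    refine hglue U _ S hS ?_
    intro V f hf
    rw [(hF S hS).valid_glue hcompat f hf]
    exact hx f hf
  have key' : ∀ U : Cᵒᵖ, ∃ x : F.obj U, Φ U x := fun U => key U.unop
  choose s hs using key'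
  exact ⟨s, hs, fun {U V} f => huniq _ _ _ (hres f _ (hs U)) (hs V)⟩

/-! ### sections of a short exact sequence of abelian sheaves -/

section ses

variable {J}
variable {G I Q : Sheaf J AddCommGrpCat.{u}} {f : G ⟶ I} {π : I ⟶ Q} {w : f ≫ π = 0}
  (hS : (ShortComplex.mk f π w).ShortExact)

include hS

lemma sections_zero (U : Cᵒᵖ) (g : G.obj.obj U) : π.hom.app U (f.hom.app U g) = 0 := by
  have h := congrArg (fun k => k.hom.app U) w
  exact ConcreteCategory.congr_hom h g

lemma sections_injective (U : Cᵒᵖ) : Function.Injective (f.hom.app U) := by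
  haveI := Groth.Agent.Helper4.ConstSheafExact.additive_sections J U.unop
  have h2 := (Functor.preservesFiniteLimits_iff_forall_exact_map_and_mono
    ((sheafSections J AddCommGrpCat.{u}).obj (op U.unop))).1
      (Groth.Agent.Helper4.ConstSheafExact.preservesFiniteLimits_sections J U.unop) _ hS
  have h3 : Mono (f.hom.app (op U.unop)) := h2.2
  exact (AddCommGrpCat.mono_iff_injective _).1 h3

lemma sections_exact (U : Cᵒᵖ) (s : I.obj.obj U) (hs : π.hom.app U s = 0) :
    ∃ g : G.obj.obj U, f.hom.app U g = s := by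
  haveI := Groth.Agent.Helper4.ConstSheafExact.additive_sections J U.unop
  have h2 := (Functor.preservesFiniteLimits_iff_forall_exact_map_and_mono
    ((sheafSections J AddCommGrpCat.{u}).obj (op U.unop))).1
      (Groth.Agent.Helper4.ConstSheafExact.preservesFiniteLimits_sections J U.unop) _ hS
  have h3 := h2.1
  rw [ShortComplex.ab_exact_iff] at h3
  exact h3 s hs

lemma sections_locally_surjective (U : C) (y : Q.obj.obj (op U)) :
    ∃ S ∈ J U, ∀ ⦃V : C⦄ (h : V ⟶ U), S h →
      ∃ s : I.obj.obj (op V), π.hom.app (op V) s = Q.obj.map h.op y := by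
  haveI : Epi π := hS.epi_g
  haveI : Sheaf.IsLocallySurjective π := (Sheaf.isLocallySurjective_iff_epi' (φ := π)).2 inferInstance
  refine ⟨Presheaf.imageSieve π.hom y, Presheaf.imageSieve_mem J π.hom y, ?_⟩
  intro V h hh
  exact hh

end ses


/-! ### `H¹` through an injective embedding -/

section ext

open Abelian

variable {J}
variable [HasExt.{u} (Sheaf J AddCommGrpCat.{u})]
variable {G I Q : Sheaf J AddCommGrpCat.{u}} {f : G ⟶ I} {π : I ⟶ Q} {w : f ≫ π = 0}
  (hS : (ShortComplex.mk f π w).ShortExact)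

/-- every class in `H¹(G)` comes from a global section of `Q` when `I` is injective -/
theorem exists_hom_comp_extClass [Injective I] (x : Sheaf.H.{u} G 1) :
    ∃ q : Z J ⟶ Q, (Ext.mk₀ q).comp hS.extClass (zero_add 1) = x := by
  have hx' : x.comp (Ext.mk₀ (ShortComplex.mk f π w).f) (add_zero 1) = 0 :=
    Ext.eq_zero_of_injective _
  obtain ⟨x₃, hx₃⟩ := Ext.covariant_sequence_exact₁ _ hS x hx' (n₀ := 0) rfl
  obtain ⟨q, rfl⟩ := (Ext.mk₀_bijective _ _).2 x₃
  exact ⟨q, hx₃⟩

theorem comp_extClass_eq_zero_iff (q : Z J ⟶ Q) :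
    (Ext.mk₀ q).comp hS.extClass (zero_add 1) = 0 ↔ ∃ σ : Z J ⟶ I, σ ≫ π = q := by
  constructor
  · intro h
    obtain ⟨x₂, hx₂⟩ := Ext.covariant_sequence_exact₃ _ hS (Ext.mk₀ q) (zero_add 1) h
    obtain ⟨σ, rfl⟩ := (Ext.mk₀_bijective _ _).2 x₂
    refine ⟨σ, ?_⟩
    apply (Ext.mk₀_bijective _ _).1
    rw [← hx₂]
    exact (Ext.mk₀_comp_mk₀ σ π).symm
  · rintro ⟨σ, rfl⟩
    have h1 : Ext.mk₀ (σ ≫ π) = (Ext.mk₀ σ).comp (Ext.mk₀ π) (zero_add 0) :=
      (Ext.mk₀_comp_mk₀ σ π).symm
    rw [h1, Ext.comp_assoc _ _ _ (zero_add 0) (zero_add 1) (by omega)]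
    have h2 : (Ext.mk₀ π).comp hS.extClass (zero_add 1) = 0 := hS.comp_extClass
    rw [h2, Ext.comp_zero]

end ext

end Groth.Agent.Helper6.SH1A
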