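import Mathlib
import Groth.Prelude.Def_Tors
import Groth.Agent.Helper6.SH1A
import Groth.Agent.Helper9.TorsTriv

/-!
# The torsor of liftings of a global section along a short exact sequence of abelian sheaves
-/

set_option autoImplicit false
set_option linter.style.haveILetI false
set_option linter.unusedSectionVars false
set_option linter.unusedVariables false

namespace Groth.Agent.Helper6.SH1B

open CategoryTheory Opposite Limits
open Groth.Agent.Helper6.SH1A
universe u
variable {C : Type u} [SmallCategory C] {J : GrothendieckTopology C}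

lemma app_add {A B : Sheaf J AddCommGrpCat.{u}} (φ : A ⟶ B) (U : Cᵒᵖ) (a b : A.obj.obj U) :
    φ.hom.app U (a + b) = φ.hom.app U a + φ.hom.app U b := map_add (φ.hom.app U).hom a b

lemma app_sub {A B : Sheaf J AddCommGrpCat.{u}} (φ : A ⟶ B) (U : Cᵒᵖ) (a b : A.obj.obj U) :
    φ.hom.app U (a - b) = φ.hom.app U a - φ.hom.app U b := map_sub (φ.hom.app U).hom a b

lemma app_zero {A B : Sheaf J AddCommGrpCat.{u}} (φ : A ⟶ B) (U : Cᵒᵖ) :
    φ.hom.app U (0 : A.obj.obj U) = 0 := map_zero (φ.hom.app U).hom

lemma app_map {A B : Sheaf J AddCommGrpCat.{u}} (φ : A ⟶ B) {U V : Cᵒᵖ} (h : U ⟶ V)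
    (a : A.obj.obj U) : φ.hom.app V (A.obj.map h a) = B.obj.map h (φ.hom.app U a) :=
  ConcreteCategory.congr_hom (φ.hom.naturality h) a

lemma res_add (A : Sheaf J AddCommGrpCat.{u}) {U V : Cᵒᵖ} (h : U ⟶ V) (a b : A.obj.obj U) :
    A.obj.map h (a + b) = A.obj.map h a + A.obj.map h b := map_add (A.obj.map h).hom a b

section ses
variable {G I Q : Sheaf J AddCommGrpCat.{u}} {f : G ⟶ I} {π : I ⟶ Q} {w : f ≫ π = 0}
  (hS : (ShortComplex.mk f π w).ShortExact)
  (c : ∀ U : Cᵒᵖ, Q.obj.obj U) (hc : ∀ {U V : Cᵒᵖ} (h : U ⟶ V), Q.obj.map h (c U) = c V)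

/-- the subpresheaf of sections of `I` lifting the compatible family `c` of sections of `Q` -/
def liftSub (π : I ⟶ Q) (c : ∀ U : Cᵒᵖ, Q.obj.obj U)
    (hc : ∀ {U V : Cᵒᵖ} (h : U ⟶ V), Q.obj.map h (c U) = c V) :
    Subfunctor (I.obj ⋙ forget AddCommGrpCat.{u}) where
  obj U := {s : I.obj.obj U | π.hom.app U s = c U}
  map := by
    intro U V h s hs
    show π.hom.app V (I.obj.map h s) = c V
    have hs' : π.hom.app U s = c U := hs
    rw [app_map, hs', hc]

lemma liftSub_isSheaf : Presieve.IsSheaf J (liftSub π c hc).toFunctor := by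
  rw [Subfunctor.isSheaf_iff _ (isSheaf_forget J I)]
  intro U s hs
  show π.hom.app U s = c U
  refine sep J Q ((liftSub π c hc).sieveOfSection s) hs _ _ ?_
  intro V h hh
  have hh' : π.hom.app (op V) (I.obj.map h.op s) = c (op V) := hh
  rw [hc h.op, ← hh', app_map]

include hS in
lemma free_transitive_aux (U : Cᵒᵖ) (p q : I.obj.obj U) (hp : π.hom.app U p = c U)
    (hq : π.hom.app U q = c U) : ∃! g : G.obj.obj U, f.hom.app U g + p = q := by
  obtain ⟨g, hg⟩ := sections_exact hS U (q - p) (by rw [app_sub, hp, hq, sub_self])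
  refine ⟨g, ?_, ?_⟩
  · show f.hom.app U g + p = q
    rw [hg, sub_add_cancel]
  · intro g' hg'
    have hg'' : f.hom.app U g' + p = q := hg'
    apply sections_injective hS U
    rw [hg, ← hg'', add_sub_cancel_right]

include hS in
/-- the torsor of liftings of the compatible family `c` -/
noncomputable def torsorOfFamily : Tors.Torsor G where
  P := ⟨(liftSub π c hc).toFunctor,
    (isSheaf_iff_isSheaf_of_type _ _).2 (liftSub_isSheaf c hc)⟩
  vadd {U} g p := ⟨f.hom.app U g + p.1, by
    show π.hom.app U (f.hom.app U g + p.1) = c U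
    have hp : π.hom.app U p.1 = c U := p.2
    rw [app_add, sections_zero hS, hp, zero_add]⟩
  zero_vadd {U} p := by
    apply Subtype.ext
    show f.hom.app U 0 + p.1 = p.1
    rw [app_zero, zero_add]
  add_vadd {U} g h p := by
    apply Subtype.ext
    show f.hom.app U (g + h) + p.1 = f.hom.app U g + (f.hom.app U h + p.1)
    rw [app_add, add_assoc]
  map_vadd {U V} h g p := by
    apply Subtype.ext
    show I.obj.map h (f.hom.app U g + p.1) = f.hom.app V (G.obj.map h g) + I.obj.map h p.1
    rw [res_add, app_map]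
  free_transitive {U} p q := by
    obtain ⟨g, hg, hu⟩ := free_transitive_aux hS c U p.1 q.1 p.2 q.2
    exact ⟨g, Subtype.ext hg, fun g' hg' => hu g' (congrArg Subtype.val hg')⟩
  locally_nonempty U := by
    obtain ⟨S, hS', hs⟩ := sections_locally_surjective hS U (c (op U))
    refine ⟨S, hS', fun V h hh => ?_⟩
    obtain ⟨s, hs'⟩ := hs h hh
    exact ⟨⟨s, by
      show π.hom.app (op V) s = c (op V)
      rw [hs', hc]⟩⟩

include hS in
/-- a global section of the torsor of liftings is a compatible family of liftings -/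
theorem family_of_torsorOfFamily_hasSection (h : (torsorOfFamily hS c hc).HasSection) :
    ∃ s : ∀ U : Cᵒᵖ, I.obj.obj U, (∀ U, π.hom.app U (s U) = c U) ∧
      ∀ {U V : Cᵒᵖ} (k : U ⟶ V), I.obj.map k (s U) = s V := by
  obtain ⟨t, ht⟩ := Groth.Agent.Helper9.TorsTriv.family_of_hasSection _ h
  refine ⟨fun U => (t U).1, fun U => (t U).2, ?_⟩
  intro U V k
  exact congrArg Subtype.val (ht k)

end ses

/-! ### all torsors have sections implies `H¹ = 0` -/

section ext

open Abelian

variable [HasExt.{u} (Sheaf J AddCommGrpCat.{u})]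

theorem H1_subsingleton_of_torsors (G : Sheaf J AddCommGrpCat.{u})
    (hT : ∀ T : Tors.Torsor G, T.HasSection) : Subsingleton (Sheaf.H.{u} G 1) := by
  let I := Injective.under G
  let f : G ⟶ I := Injective.ι G
  let π : I ⟶ cokernel f := cokernel.π f
  have w : f ≫ π = 0 := cokernel.condition f
  have hS : (ShortComplex.mk f π w).ShortExact :=
    { exact := ShortComplex.exact_cokernel f
      mono_f := (inferInstance : Mono (Injective.ι G))
      epi_g := (inferInstance : Epi (cokernel.π f)) }
  haveI : Injective I := inferInstance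
  have key : ∀ x : Sheaf.H.{u} G 1, x = 0 := by
    intro x
    obtain ⟨q, rfl⟩ := exists_hom_comp_extClass hS x
    rw [comp_extClass_eq_zero_iff hS]
    have hc : ∀ {U V : Cᵒᵖ} (h : U ⟶ V),
        (cokernel f).obj.map h (q.hom.app U (one J U)) = q.hom.app V (one J V) :=
      fun h => family_compat J _ q h
    obtain ⟨s, hs1, hs2⟩ := family_of_torsorOfFamily_hasSection hS _ hc (hT _)
    obtain ⟨σ, hσ⟩ := exists_hom_of_family J I s hs2
    refine ⟨σ, ?_⟩
    apply hom_ext_one
    intro U
    show π.hom.app U (σ.hom.app U (one J U)) = _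
    rw [hσ, hs1]
  exact ⟨fun a b => (key a).trans (key b).symm⟩

end ext

end Groth.Agent.Helper6.SH1B
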