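import Mathlib
import Groth.Prelude.Def_Tors
import Groth.Agent.Helper6.SH1A
import Groth.Agent.Helper6.SH1B
import Groth.Agent.Helper9.TorsTriv

/-!
# A torsor under `G` has a section when `H¹(G) = 0`
-/

set_option autoImplicit false
set_option linter.style.haveILetI false
set_option linter.unusedSectionVars false
set_option linter.unusedVariables false

namespace Groth.Agent.Helper6.SH1C

open CategoryTheory Opposite Limits
open Groth.Agent.Helper6.SH1A Groth.Agent.Helper6.SH1B
universe u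
variable {C : Type u} [SmallCategory C] {J : GrothendieckTopology C}
variable {G : Sheaf J AddCommGrpCat.{u}} (T : Tors.Torsor G)

/-- difference of two sections of a torsor -/
noncomputable def diff {U : Cᵒᵖ} (t t' : T.P.obj.obj U) : G.obj.obj U :=
  (T.free_transitive t' t).choose

lemma vadd_diff {U : Cᵒᵖ} (t t' : T.P.obj.obj U) : T.vadd (diff T t t') t' = t :=
  (T.free_transitive t' t).choose_spec.1

lemma eq_diff {U : Cᵒᵖ} (t t' : T.P.obj.obj U) (g : G.obj.obj U) (h : T.vadd g t' = t) :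
    g = diff T t t' :=
  (T.free_transitive t' t).choose_spec.2 g h

lemma diff_vadd {U : Cᵒᵖ} (g : G.obj.obj U) (t t' : T.P.obj.obj U) :
    diff T (T.vadd g t) t' = g + diff T t t' := by
  symm
  apply eq_diff
  rw [T.add_vadd, vadd_diff]

lemma map_comp_apply' (F : Cᵒᵖ ⥤ Type u) {U U' : Cᵒᵖ} (k : U ⟶ U') {V : C} (h : V ⟶ U'.unop)
    (t : F.obj U) : F.map (h ≫ k.unop).op t = F.map h.op (F.map k t) := by
  have h1 : (h ≫ k.unop).op = k ≫ h.op := rfl
  rw [h1, Functor.map_comp]
  rfl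

lemma map_comp_apply'' (F : Cᵒᵖ ⥤ AddCommGrpCat.{u}) {U U' : Cᵒᵖ} (k : U ⟶ U') {V : C}
    (h : V ⟶ U'.unop) (t : F.obj U) : F.map (h ≫ k.unop).op t = F.map h.op (F.map k t) := by
  have h1 : (h ≫ k.unop).op = k ≫ h.op := rfl
  rw [h1, Functor.map_comp]
  rfl

/-- the group of families -/
abbrev famObj (U : Cᵒᵖ) : Type u :=
  ∀ (V : C) (h : V ⟶ U.unop), T.P.obj.obj (op V) → G.obj.obj (op V)

/-- restriction of families -/
def famMap {U U' : Cᵒᵖ} (k : U ⟶ U') : famObj T U →+ famObj T U' where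
  toFun φ := fun V h t => φ V (h ≫ k.unop) t
  map_zero' := rfl
  map_add' _ _ := rfl

/-- the presheaf of families -/
def fam : Cᵒᵖ ⥤ AddCommGrpCat.{u} where
  obj U := AddCommGrpCat.of (famObj T U)
  map k := AddCommGrpCat.ofHom (famMap T k)
  map_id U := by
    apply AddCommGrpCat.hom_ext
    refine AddMonoidHom.ext (fun φ => ?_)
    funext V h t
    show φ V (h ≫ (𝟙 U).unop) t = φ V h t
    rw [unop_id, Category.comp_id]
  map_comp k k' := by
    apply AddCommGrpCat.hom_ext
    refine AddMonoidHom.ext (fun φ => ?_)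
    funext V h t
    show φ V (h ≫ (k ≫ k').unop) t = φ V ((h ≫ k'.unop) ≫ k.unop) t
    rw [unop_comp, Category.assoc]

/-- constant families -/
def famι : G.obj ⟶ fam T where
  app U := AddCommGrpCat.ofHom
    { toFun := fun g V h t => G.obj.map h.op g
      map_zero' := by
        funext V h t
        exact map_zero (G.obj.map h.op).hom
      map_add' := fun a b => by
        funext V h t
        exact map_add (G.obj.map h.op).hom a b }
  naturality U U' k := by
    apply AddCommGrpCat.hom_ext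
    refine AddMonoidHom.ext (fun g => ?_)
    funext V h t
    show G.obj.map h.op (G.obj.map k g) = G.obj.map (h ≫ k.unop).op g
    rw [map_comp_apply'']

lemma famι_apply (U : Cᵒᵖ) (g : G.obj.obj U) (V : C) (h : V ⟶ U.unop) (t : T.P.obj.obj (op V)) :
    ((famι T).app U g : famObj T U) V h t = G.obj.map h.op g := rfl

lemma famι_injective (U : Cᵒᵖ) : Function.Injective ((famι T).app U) := by
  intro g g' hgg
  obtain ⟨S, hS, hne⟩ := T.locally_nonempty U.unop
  refine sep J G S hS g g' ?_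
  intro V h hh
  obtain ⟨t⟩ := hne h hh
  have h1 : ((famι T).app U g : famObj T U) V h t = ((famι T).app U g' : famObj T U) V h t := by
    rw [hgg]
  exact h1

/-- the canonical equivariant map from the torsor to the families -/
noncomputable def famρ (U : Cᵒᵖ) (t : T.P.obj.obj U) : (fam T).obj U :=
  fun V h t' => diff T (T.P.obj.map h.op t) t'

lemma famρ_vadd (U : Cᵒᵖ) (g : G.obj.obj U) (t : T.P.obj.obj U) :
    famρ T U (T.vadd g t) = (famι T).app U g + famρ T U t := by
  funext V h t'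
  show diff T (T.P.obj.map h.op (T.vadd g t)) t' =
    G.obj.map h.op g + diff T (T.P.obj.map h.op t) t'
  rw [T.map_vadd, diff_vadd]

lemma famρ_map {U U' : Cᵒᵖ} (k : U ⟶ U') (t : T.P.obj.obj U) :
    (fam T).map k (famρ T U t) = famρ T U' (T.P.obj.map k t) := by
  funext V h t'
  show diff T (T.P.obj.map (h ≫ k.unop).op t) t' = diff T (T.P.obj.map h.op (T.P.obj.map k t)) t'
  rw [map_comp_apply']

/-- an equivariant map from a torsor into an injective sheaf containing `G` -/
theorem exists_equivariant_map {I : Sheaf J AddCommGrpCat.{u}} [Injective I] (f : G ⟶ I) :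
    ∃ ρ : ∀ U : Cᵒᵖ, T.P.obj.obj U → I.obj.obj U,
      (∀ {U V : Cᵒᵖ} (k : U ⟶ V) (t : T.P.obj.obj U),
        I.obj.map k (ρ U t) = ρ V (T.P.obj.map k t)) ∧
      (∀ (U : Cᵒᵖ) (g : G.obj.obj U) (t : T.P.obj.obj U),
        ρ U (T.vadd g t) = f.hom.app U g + ρ U t) := by
  haveI : ∀ U, Mono ((famι T).app U) := fun U =>
    (AddCommGrpCat.mono_iff_injective _).2 (famι_injective T U)
  haveI : Mono (famι T) := NatTrans.mono_of_mono_app _
  let j : (presheafToSheaf J AddCommGrpCat.{u}).obj G.obj ⟶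
      (presheafToSheaf J AddCommGrpCat.{u}).obj (fam T) :=
    (presheafToSheaf J AddCommGrpCat.{u}).map (famι T)
  haveI : Mono j := inferInstance
  let g₀ : (presheafToSheaf J AddCommGrpCat.{u}).obj G.obj ⟶ I :=
    ⟨sheafifyLift J f.hom I.property⟩
  let ε : (presheafToSheaf J AddCommGrpCat.{u}).obj (fam T) ⟶ I := Injective.factorThru g₀ j
  have hε : j ≫ ε = g₀ := Injective.comp_factorThru g₀ j
  let ε₀ : fam T ⟶ I.obj := toSheafify J (fam T) ≫ ε.hom
  have hε₀ : famι T ≫ ε₀ = f.hom := by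
    have h1 : sheafifyMap J (famι T) ≫ ε.hom = sheafifyLift J f.hom I.property :=
      congrArg (fun k => k.hom) hε
    show famι T ≫ toSheafify J (fam T) ≫ ε.hom = f.hom
    rw [toSheafify_naturality_assoc, h1, toSheafify_sheafifyLift]
  refine ⟨fun U t => ε₀.app U (famρ T U t), ?_, ?_⟩
  · intro U V k t
    show I.obj.map k (ε₀.app U (famρ T U t)) = ε₀.app V (famρ T V (T.P.obj.map k t))
    rw [← famρ_map]
    exact (ConcreteCategory.congr_hom (ε₀.naturality k) (famρ T U t)).symm
  · intro U g t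
    show ε₀.app U (famρ T U (T.vadd g t)) = f.hom.app U g + ε₀.app U (famρ T U t)
    rw [famρ_vadd]
    have h1 : ε₀.app U ((famι T).app U g) = f.hom.app U g :=
      ConcreteCategory.congr_hom (congrArg (fun k => k.app U) hε₀) g
    rw [← h1]
    exact map_add (ε₀.app U).hom _ _

lemma map_op_comp_apply (F : Cᵒᵖ ⥤ AddCommGrpCat.{u}) {W' W U : C} (j : W' ⟶ W) (k : W ⟶ U)
    (x : F.obj (op U)) : F.map (j ≫ k).op x = F.map j.op (F.map k.op x) := by
  rw [op_comp, Functor.map_comp]
  rfl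

lemma map_op_id_apply (F : Cᵒᵖ ⥤ AddCommGrpCat.{u}) {W : C} (x : F.obj (op W)) :
    F.map (𝟙 W).op x = x := by
  rw [op_id, CategoryTheory.Functor.map_id]
  rfl

section main

open Abelian

variable [HasExt.{u} (Sheaf J AddCommGrpCat.{u})]

/-- if `H¹(G) = 0` then every `G`-torsor has a global section -/
theorem hasSection_of_H1_subsingleton (hH : Subsingleton (Sheaf.H.{u} G 1)) : T.HasSection := by
  let I := Injective.under G
  let f : G ⟶ I := Injective.ι G
  obtain ⟨Q, hQ⟩ : ∃ Q : Sheaf J AddCommGrpCat.{u}, Q = cokernel f := ⟨_, rfl⟩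
  obtain ⟨π, w, hS⟩ : ∃ (π : I ⟶ Q) (w : f ≫ π = 0), (ShortComplex.mk f π w).ShortExact := by
    subst hQ
    exact ⟨cokernel.π f, cokernel.condition f,
      { exact := ShortComplex.exact_cokernel f
        mono_f := (inferInstance : Mono (Injective.ι G))
        epi_g := (inferInstance : Epi (cokernel.π f)) }⟩
  haveI : Injective I := inferInstance
  obtain ⟨ρ, hρ1, hρ2⟩ := exists_equivariant_map T f
  have hstar : ∀ (W : Cᵒᵖ) (t t' : T.P.obj.obj W),
      π.hom.app W (ρ W t) = π.hom.app W (ρ W t') := by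
    intro W t t'
    have h1 : ρ W t = f.hom.app W (diff T t t') + ρ W t' := by
      rw [← hρ2, vadd_diff]
    rw [h1, app_add, sections_zero hS, zero_add]
  have hinj : ∀ (W : Cᵒᵖ) (t t' : T.P.obj.obj W), ρ W t = ρ W t' → t = t' := by
    intro W t t' h
    have h2 : ρ W t = f.hom.app W (diff T t t') + ρ W t' := by
      rw [← hρ2, vadd_diff]
    rw [h] at h2
    have h1 : f.hom.app W (diff T t t') = 0 := add_eq_right.mp h2.symm
    have h3 : diff T t t' = 0 := sections_injective hS W (h1.trans (app_zero f W).symm)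
    have h4 := vadd_diff T t t'
    rw [h3, T.zero_vadd] at h4
    exact h4.symm
  -- step 1: the global section of the quotient
  let Φ : ∀ U : Cᵒᵖ, Q.obj.obj U → Prop := fun U y =>
    ∀ (V : C) (h : V ⟶ U.unop) (t : T.P.obj.obj (op V)),
      π.hom.app (op V) (ρ (op V) t) = Q.obj.map h.op y
  have hres : ∀ {U V : Cᵒᵖ} (k : U ⟶ V) (y : Q.obj.obj U), Φ U y → Φ V (Q.obj.map k y) := by
    intro U U' k y hy V h t
    rw [hy V (h ≫ k.unop) t, map_comp_apply'']
  have huniq : ∀ (U : Cᵒᵖ) (y y' : Q.obj.obj U), Φ U y → Φ U y' → y = y' := by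
    intro U y y' hy hy'
    obtain ⟨S, hS', hne⟩ := T.locally_nonempty U.unop
    refine sep J Q S hS' y y' ?_
    intro V h hh
    obtain ⟨t⟩ := hne h hh
    rw [← hy V h t, ← hy' V h t]
  have hloc : ∀ U : C, ∃ S ∈ J U, ∀ ⦃V : C⦄ (h : V ⟶ U), S h →
      ∃ x : Q.obj.obj (op V), Φ (op V) x := by
    intro U
    obtain ⟨S, hS', hne⟩ := T.locally_nonempty U
    refine ⟨S, hS', fun V h hh => ?_⟩
    obtain ⟨t₀⟩ := hne h hh
    refine ⟨π.hom.app (op V) (ρ (op V) t₀), ?_⟩
    intro W k t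
    rw [← app_map, hρ1]
    exact hstar _ _ _
  have hglue : ∀ (U : C) (x : Q.obj.obj (op U)) (S : Sieve U), S ∈ J U →
      (∀ ⦃V : C⦄ (h : V ⟶ U), S h → Φ (op V) (Q.obj.map h.op x)) → Φ (op U) x := by
    intro U x S hS' hx W k t
    refine sep J Q (S.pullback k) (J.pullback_stable k hS') _ _ ?_
    intro W' j hj
    have h1 := hx (j ≫ k) hj W' (𝟙 W') (T.P.obj.map j.op t)
    rw [← app_map, hρ1, h1, map_op_id_apply, map_op_comp_apply]
  obtain ⟨c, hcΦ, hc⟩ := exists_family_of_local J (F := Q.obj ⋙ forget AddCommGrpCat.{u})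
    (isSheaf_forget J Q) Φ hres huniq hloc hglue
  -- step 2: lifting the global section
  obtain ⟨q, hq⟩ := exists_hom_of_family J Q c (fun k => hc k)
  have h0 : (Ext.mk₀ q).comp hS.extClass (zero_add 1) = 0 := @Subsingleton.elim _ hH _ _
  obtain ⟨σ, hσ⟩ := (comp_extClass_eq_zero_iff hS q).1 h0
  let s : ∀ U : Cᵒᵖ, I.obj.obj U := fun U => σ.hom.app U (one J U)
  have hs : ∀ {U V : Cᵒᵖ} (k : U ⟶ V), I.obj.map k (s U) = s V :=
    fun k => family_compat J I σ k
  have hπs : ∀ U, π.hom.app U (s U) = c U := by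
    intro U
    rw [← hq U, ← hσ]
    rfl
  -- step 3: the global section of the torsor
  have hres' : ∀ {U V : Cᵒᵖ} (k : U ⟶ V) (t : T.P.obj.obj U),
      ρ U t = s U → ρ V (T.P.obj.map k t) = s V := by
    intro U V k t ht
    rw [← hρ1, ht, hs]
  have huniq' : ∀ (U : Cᵒᵖ) (t t' : T.P.obj.obj U), ρ U t = s U → ρ U t' = s U → t = t' :=
    fun U t t' h h' => hinj U t t' (h.trans h'.symm)
  have hloc' : ∀ U : C, ∃ S ∈ J U, ∀ ⦃V : C⦄ (h : V ⟶ U), S h →
      ∃ t : T.P.obj.obj (op V), ρ (op V) t = s (op V) := by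
    intro U
    obtain ⟨S, hS', hne⟩ := T.locally_nonempty U
    refine ⟨S, hS', fun V h hh => ?_⟩
    obtain ⟨t₀⟩ := hne h hh
    have h1 : π.hom.app (op V) (ρ (op V) t₀) = c (op V) := by
      have h2 := hcΦ (op V) V (𝟙 V) t₀
      rw [h2]
      exact map_op_id_apply Q.obj _
    obtain ⟨g, hg⟩ := sections_exact hS (op V) (s (op V) - ρ (op V) t₀)
      (by rw [app_sub, hπs, h1, sub_self])
    refine ⟨T.vadd g t₀, ?_⟩
    rw [hρ2, hg, sub_add_cancel]
  have hglue' : ∀ (U : C) (t : T.P.obj.obj (op U)) (S : Sieve U), S ∈ J U →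
      (∀ ⦃V : C⦄ (h : V ⟶ U), S h → ρ (op V) (T.P.obj.map h.op t) = s (op V)) →
      ρ (op U) t = s (op U) := by
    intro U t S hS' ht
    refine sep J I S hS' _ _ ?_
    intro V h hh
    rw [hρ1, ht h hh, hs]
  obtain ⟨tt, htΦ, htc⟩ := exists_family_of_local J (F := T.P.obj)
    ((isSheaf_iff_isSheaf_of_type J _).1 T.P.property) (fun U t => ρ U t = s U)
    hres' huniq' hloc' hglue'
  exact Groth.Agent.Helper9.TorsTriv.hasSection_of_family T tt (fun k => htc k)

end main

end Groth.Agent.Helper6.SH1C
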