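import Mathlib
import Groth.Prelude.Def_CohSite
import Groth.Agent.Helper6.SH1A
import Groth.Agent.Helper6.SH1B
import Groth.Agent.Helper6.SH1C
import Groth.Agent.Helper4.ConstSheafExact

/-!
# Vanishing of classes in `H¹` of a constant sheaf with torsion free values killed by
a locally nonzero multiplication
-/

set_option autoImplicit false
set_option linter.style.haveILetI false
set_option linter.unusedSectionVars false
set_option linter.unusedVariables false

namespace Groth.Agent.Helper6.SH1D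

open CategoryTheory Opposite Limits
open Groth.Agent.Helper6.SH1A Groth.Agent.Helper6.SH1B Groth.Agent.Helper6.SH1C
universe u
variable {C : Type u} [SmallCategory C] (J : GrothendieckTopology C)

lemma app_zsmul {A B : Sheaf J AddCommGrpCat.{u}} (φ : A ⟶ B) (U : Cᵒᵖ) (n : ℤ) (a : A.obj.obj U) :
    φ.hom.app U (n • a) = n • φ.hom.app U a := map_zsmul (φ.hom.app U).hom n a

lemma res_sub (A : Sheaf J AddCommGrpCat.{u}) {U V : Cᵒᵖ} (h : U ⟶ V) (a b : A.obj.obj U) :
    A.obj.map h (a - b) = A.obj.map h a - A.obj.map h b := map_sub (A.obj.map h).hom a b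

lemma res_zsmul (A : Sheaf J AddCommGrpCat.{u}) {U V : Cᵒᵖ} (h : U ⟶ V) (n : ℤ) (a : A.obj.obj U) :
    A.obj.map h (n • a) = n • A.obj.map h a := map_zsmul (A.obj.map h).hom n a

lemma res_zero (A : Sheaf J AddCommGrpCat.{u}) {U V : Cᵒᵖ} (h : U ⟶ V) :
    A.obj.map h (0 : A.obj.obj U) = 0 := map_zero (A.obj.map h).hom

/-- the empty sieve covers when a nonzero multiple of the section `1` vanishes -/
lemma bot_mem_of_zsmul_one_eq_zero (W : C) (m : ℤ) (hm : m ≠ 0)
    (h : m • one J (op W) = 0) : (⊥ : Sieve W) ∈ J W := by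
  have h1 : (toSheafify J (Zp (C := C))).app (op W) (ULift.up m) =
      (toSheafify J (Zp (C := C))).app (op W) 0 := by
    have h2 : (ULift.up m : ULift.{u} ℤ) = m • ULift.up 1 := by
      apply ULift.ext
      simp
    have h3 := map_zsmul ((toSheafify J (Zp (C := C))).app (op W)).hom m (ULift.up 1)
    have h4 := map_zero ((toSheafify J (Zp (C := C))).app (op W)).hom
    rw [h2]
    exact h3.trans (h.trans h4.symm)
  have h3 := Presheaf.equalizerSieve_mem J (toSheafify J (Zp (C := C))) _ _ h1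
  refine J.superset_covering ?_ h3
  intro V f hf
  exfalso
  have h5 : (ULift.up m : ULift.{u} ℤ) = 0 := hf
  exact hm (congrArg ULift.down h5)

lemma eq_of_bot_mem (F : Sheaf J AddCommGrpCat.{u}) (W : C) (h : (⊥ : Sieve W) ∈ J W)
    (x y : F.obj.obj (op W)) : x = y :=
  sep J F ⊥ h x y (fun V f hf => False.elim hf)

/-- multiplication by `n` is bijective on sections of the constant sheaf when it is on values -/
lemma zsmul_bijective_sections (D : Type u) [AddCommGroup D] (n : ℤ)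
    (hD : Function.Bijective (fun x : D => n • x)) (V : C) :
    Function.Bijective (fun x : ((constantSheaf J AddCommGrpCat.{u}).obj
      (AddCommGrpCat.of D)).obj.obj (op V) => n • x) := by
  let Dc := AddCommGrpCat.of D
  let μ : Dc ⟶ Dc := n • 𝟙 Dc
  haveI : IsIso μ := by
    rw [ConcreteCategory.isIso_iff_bijective]
    exact hD
  haveI := Groth.Agent.Helper4.ConstSheafExact.additive_sections J V
  let Γ := (sheafSections J AddCommGrpCat.{u}).obj (op V)
  have h1 : Γ.map ((constantSheaf J AddCommGrpCat.{u}).map μ) =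
      n • 𝟙 (Γ.obj ((constantSheaf J AddCommGrpCat.{u}).obj Dc)) := by
    show Γ.map ((constantSheaf J AddCommGrpCat.{u}).map (n • 𝟙 Dc)) = _
    rw [Functor.map_zsmul, CategoryTheory.Functor.map_id, Functor.map_zsmul,
      CategoryTheory.Functor.map_id]
  have h2 : IsIso (Γ.map ((constantSheaf J AddCommGrpCat.{u}).map μ)) := inferInstance
  rw [h1, ConcreteCategory.isIso_iff_bijective] at h2
  exact h2

/-- bijectivity of multiplication by an integer on an abelian group -/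
def ZsmulBij (M : Type u) [AddCommGroup M] (m : ℤ) : Prop :=
  Function.Bijective (fun y : M => m • y)

lemma zsmulBij_of_isLocalizedModule {A D : Type u} [AddCommGroup A] [AddCommGroup D]
    {inst : Module ℤ D} (f : @LinearMap ℤ ℤ _ _ (RingHom.id ℤ) A D _ _ _ inst)
    [IsLocalizedModule (nonZeroDivisors ℤ) f] (m : ℤ) (hm : m ≠ 0) : ZsmulBij D m := by
  have h1 := IsLocalizedModule.map_units f ⟨m, mem_nonZeroDivisors_of_ne_zero hm⟩
  have h2 := (Module.End.isUnit_iff _).mp h1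
  unfold ZsmulBij
  constructor
  · intro y y' hyy
    apply h2.1
    have e1 := int_smul_eq_zsmul inst m y
    have e2 := int_smul_eq_zsmul inst m y'
    exact (e1.trans (hyy.trans e2.symm))
  · intro y
    obtain ⟨z, hz⟩ := h2.2 y
    exact ⟨z, (int_smul_eq_zsmul inst m z).symm.trans hz⟩

section main

open Abelian

variable [HasExt.{u} (Sheaf J AddCommGrpCat.{u})]

theorem eq_zero_of_divisible_sheaf (G : Sheaf J AddCommGrpCat.{u})
    (hdiv : ∀ n : ℤ, n ≠ 0 → ∀ V : C, Function.Bijective (fun x : G.obj.obj (op V) => n • x))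
    (φ : Z J ⟶ Z J) {ι : Type u} (U : ι → C) (n : ι → ℤ) (hn : ∀ i, n i ≠ 0)
    (hφ : ∀ (i : ι) (V : C) (_ : V ⟶ U i), φ.hom.app (op V) = n i • 𝟙 _)
    (hcov : ∀ V : C, ∃ R ∈ J V, ∀ ⦃W : C⦄ (g : W ⟶ V), R g → ∃ i, Nonempty (W ⟶ U i))
    (x : Sheaf.H.{u} G 1)
    (hx : (Ext.mk₀ φ).comp x (zero_add 1) = 0) : x = 0 := by
  let I := Injective.under G
  let f : G ⟶ I := Injective.ι G
  obtain ⟨Q, hQ⟩ : ∃ Q : Sheaf J AddCommGrpCat.{u}, Q = cokernel f := ⟨_, rfl⟩
  obtain ⟨π, w, hS⟩ : ∃ (π : I ⟶ Q) (w : f ≫ π = 0), (ShortComplex.mk f π w).ShortExact := by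
    subst hQ
    exact ⟨cokernel.π f, cokernel.condition f,
      { exact := ShortComplex.exact_cokernel f
        mono_f := (inferInstance : Mono (Injective.ι G))
        epi_g := (inferInstance : Epi (cokernel.π f)) }⟩
  haveI : Injective I := inferInstance
  obtain ⟨q, rfl⟩ := exists_hom_comp_extClass hS x
  rw [comp_extClass_eq_zero_iff hS]
  have hx' : (Ext.mk₀ (φ ≫ q)).comp hS.extClass (zero_add 1) = 0 := by
    rw [← Ext.mk₀_comp_mk₀, Ext.comp_assoc _ _ _ (zero_add 0) (zero_add 1) (by omega)]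
    exact hx
  obtain ⟨σ', hσ'⟩ := (comp_extClass_eq_zero_iff hS (φ ≫ q)).1 hx'
  let c : ∀ W : Cᵒᵖ, Q.obj.obj W := fun W => q.hom.app W (one J W)
  let s' : ∀ W : Cᵒᵖ, I.obj.obj W := fun W => σ'.hom.app W (one J W)
  have hc : ∀ {W W' : Cᵒᵖ} (k : W ⟶ W'), Q.obj.map k (c W) = c W' :=
    fun k => family_compat J Q q k
  have hs' : ∀ {W W' : Cᵒᵖ} (k : W ⟶ W'), I.obj.map k (s' W) = s' W' :=
    fun k => family_compat J I σ' k
  have hπs' : ∀ (i : ι) (V : C) (k : V ⟶ U i),
      π.hom.app (op V) (s' (op V)) = n i • c (op V) := by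
    intro i V k
    have h1 : π.hom.app (op V) (s' (op V)) =
        q.hom.app (op V) (φ.hom.app (op V) (one J (op V))) := by
      have h0 := congrArg (fun m => m.hom.app (op V)) hσ'
      exact ConcreteCategory.congr_hom h0 (one J (op V))
    rw [h1, hφ i V k]
    have h2 : (n i • 𝟙 ((Z J).obj.obj (op V)) : (Z J).obj.obj (op V) ⟶ _) (one J (op V)) =
        n i • one J (op V) := rfl
    rw [h2]
    exact map_zsmul (q.hom.app (op V)).hom _ _
  have hbot : ∀ (i j : ι) (W : C) (ki : W ⟶ U i) (kj : W ⟶ U j), n i ≠ n j →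
      (⊥ : Sieve W) ∈ J W := by
    intro i j W ki kj hne
    apply bot_mem_of_zsmul_one_eq_zero J W (n i - n j) (sub_ne_zero.2 hne)
    have h1 := hφ i W ki
    rw [hφ j W kj] at h1
    have h2 := ConcreteCategory.congr_hom h1 (one J (op W))
    have h3 : n j • one J (op W) = n i • one J (op W) := h2
    rw [sub_zsmul, h3, add_neg_cancel]
  let Φ : ∀ W : Cᵒᵖ, I.obj.obj W → Prop := fun W s =>
    π.hom.app W s = c W ∧ ∀ (V : C) (h : V ⟶ W.unop) (i : ι) (k : V ⟶ U i),
      n i • I.obj.map h.op s = s' (op V)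
  have hres : ∀ {W W' : Cᵒᵖ} (k : W ⟶ W') (s : I.obj.obj W), Φ W s → Φ W' (I.obj.map k s) := by
    intro W W' k s ⟨h1, h2⟩
    refine ⟨by rw [app_map, h1, hc], ?_⟩
    intro V h i k'
    rw [← map_comp_apply'']
    exact h2 V (h ≫ k.unop) i k'
  have huniq : ∀ (W : Cᵒᵖ) (s₁ s₂ : I.obj.obj W), Φ W s₁ → Φ W s₂ → s₁ = s₂ := by
    intro W s₁ s₂ ⟨h1, h2⟩ ⟨h1', h2'⟩
    obtain ⟨d, hd⟩ := sections_exact hS W (s₁ - s₂) (by rw [app_sub, h1, h1', sub_self])
    have hd0 : d = 0 := by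
      obtain ⟨R, hR, hRi⟩ := hcov W.unop
      refine sep J G R hR d 0 ?_
      intro V h hh
      obtain ⟨i, ⟨k⟩⟩ := hRi h hh
      have h3 : f.hom.app (op V) (n i • G.obj.map h.op d) = 0 := by
        rw [app_zsmul, app_map, hd, res_sub, smul_sub, h2 V h i k, h2' V h i k, sub_self]
      have h4 : n i • G.obj.map h.op d = 0 :=
        sections_injective hS (op V) (h3.trans (app_zero f _).symm)
      have h5 : G.obj.map h.op d = 0 :=
        (hdiv (n i) (hn i) V).1 (h4.trans (smul_zero _).symm)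
      rw [h5, res_zero]
    rw [hd0, app_zero] at hd
    exact sub_eq_zero.1 hd.symm
  have hloc : ∀ W : C, ∃ S ∈ J W, ∀ ⦃V : C⦄ (h : V ⟶ W), S h →
      ∃ s : I.obj.obj (op V), Φ (op V) s := by
    intro W
    obtain ⟨R, hR, hRi⟩ := hcov W
    obtain ⟨S₁, hS₁, hlift⟩ := sections_locally_surjective hS W (c (op W))
    refine ⟨R ⊓ S₁, J.intersection_covering hR hS₁, ?_⟩
    intro V h hh
    have hh' : R h ∧ S₁ h := hh
    obtain ⟨i, ⟨k⟩⟩ := hRi h hh'.1
    obtain ⟨s₀, hs₀⟩ := hlift h hh'.2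
    rw [hc] at hs₀
    obtain ⟨d, hd⟩ := sections_exact hS (op V) (n i • s₀ - s' (op V))
      (by rw [app_sub, app_zsmul, hs₀, hπs' i V k, sub_self])
    obtain ⟨d', hd'⟩ := (hdiv (n i) (hn i) V).2 d
    have hd'' : n i • d' = d := hd'
    have h1 : n i • (s₀ - f.hom.app (op V) d') = s' (op V) := by
      rw [smul_sub, ← app_zsmul, hd'', hd, sub_sub_cancel]
    refine ⟨s₀ - f.hom.app (op V) d', ?_, ?_⟩
    · rw [app_sub, sections_zero hS, sub_zero, hs₀]
    · intro V' h' j k'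
      by_cases hij : n j = n i
      · rw [hij, ← res_zsmul, h1, hs']
      · exact eq_of_bot_mem J I V' (hbot j i V' k' (h' ≫ k) hij) _ _
  have hglue : ∀ (W : C) (s : I.obj.obj (op W)) (S : Sieve W), S ∈ J W →
      (∀ ⦃V : C⦄ (h : V ⟶ W), S h → Φ (op V) (I.obj.map h.op s)) → Φ (op W) s := by
    intro W s S hS' hs
    constructor
    · refine sep J Q S hS' _ _ ?_
      intro V h hh
      rw [← app_map, (hs h hh).1, hc]
    · intro V h i k
      refine sep J I (S.pullback h) (J.pullback_stable h hS') _ _ ?_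
      intro V' j hj
      have h1 := (hs (j ≫ h) hj).2 V' (𝟙 V') i (j ≫ k)
      rw [map_op_id_apply, map_op_comp_apply] at h1
      rw [res_zsmul, h1, hs']
  obtain ⟨s, hsΦ, hsc⟩ := exists_family_of_local J (F := I.obj ⋙ forget AddCommGrpCat.{u})
    (isSheaf_forget J I) Φ hres huniq hloc hglue
  obtain ⟨σ, hσ⟩ := exists_hom_of_family J I s (fun k => hsc k)
  refine ⟨σ, ?_⟩
  apply hom_ext_one
  intro W
  show π.hom.app W (σ.hom.app W (one J W)) = _
  rw [hσ, (hsΦ W).1]

theorem eq_zero_of_torsionFree {A : Type u} [AddCommGroup A]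
    (hA : ∀ (m : ℤ) (a : A), m ≠ 0 → m • a = 0 → a = 0)
    (φ : Z J ⟶ Z J) {ι : Type u} (U : ι → C) (n : ι → ℤ) (hn : ∀ i, n i ≠ 0)
    (hφ : ∀ (i : ι) (V : C) (_ : V ⟶ U i), φ.hom.app (op V) = n i • 𝟙 _)
    (hcov : ∀ V : C, ∃ R ∈ J V, ∀ ⦃W : C⦄ (g : W ⟶ V), R g → ∃ i, Nonempty (W ⟶ U i))
    (x : Sheaf.H.{u} ((constantSheaf J AddCommGrpCat.{u}).obj (AddCommGrpCat.of A)) 1)
    (hx : (Ext.mk₀ φ).comp x (zero_add 1) = 0) : x = 0 := by
  let D := LocalizedModule (nonZeroDivisors ℤ) A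
  let ι₀ : A →+ D := (LocalizedModule.mkLinearMap (nonZeroDivisors ℤ) A).toAddMonoidHom
  have hι : Function.Injective ι₀ := by
    intro a b hab
    have hab' : LocalizedModule.mk a (1 : nonZeroDivisors ℤ) =
        LocalizedModule.mk b (1 : nonZeroDivisors ℤ) := hab
    rw [LocalizedModule.mk_eq] at hab'
    obtain ⟨v, hv⟩ := hab'
    rw [one_smul, one_smul] at hv
    have h1 : (v : ℤ) • (a - b) = 0 := by
      rw [smul_sub, sub_eq_zero]
      exact hv
    exact sub_eq_zero.1 (hA _ _ (nonZeroDivisors.coe_ne_zero v) h1)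
  have hD : ∀ m : ℤ, m ≠ 0 → ZsmulBij D m := fun m hm =>
    zsmulBij_of_isLocalizedModule (LocalizedModule.mkLinearMap (nonZeroDivisors ℤ) A) m hm
  apply Groth.Agent.Helper4.ConstSheafExact.H1_injective J ι₀ hι
  rw [map_zero]
  apply eq_zero_of_divisible_sheaf J _ (fun m hm V => zsmul_bijective_sections J D m (hD m hm) V)
    φ U n hn hφ hcov
  rw [Sheaf.H.map_apply, ← Ext.comp_assoc _ _ _ (zero_add 1) (add_zero 1) (by omega), hx,
    Ext.zero_comp]

end main

end Groth.Agent.Helper6.SH1D
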