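import Mathlib
import Groth.Agent.Helper4.ConstSheafExact
import Groth.Agent.Helper6.SH1A
import Groth.Agent.Helper6.SH1B
import Groth.Agent.Helper6.SH1C
import Groth.Agent.Helper6.SH1D
import Groth.Agent.Helper6.CSL1

/-!
# Sections of the homology sheaves of a complex of abelian sheaves; sections of a sequential limit
-/

set_option autoImplicit false
set_option linter.style.haveILetI false
set_option linter.unusedSectionVars false
set_option linter.unusedVariables false

namespace Groth.Agent.Helper6.CSL2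

open CategoryTheory Opposite Limits
open Groth.Agent.Helper6.SH1A Groth.Agent.Helper6.SH1B Groth.Agent.Helper6.SH1C
  Groth.Agent.Helper6.SH1D
universe u
variable {C : Type u} [SmallCategory C] {J : GrothendieckTopology C}

lemma comp_app_apply {A B D : Sheaf J AddCommGrpCat.{u}} (f : A ⟶ B) (g : B ⟶ D) (h : A ⟶ D)
    (hfg : f ≫ g = h) (V : Cᵒᵖ) (x : A.obj.obj V) :
    g.hom.app V (f.hom.app V x) = h.hom.app V x := by
  have h1 := congrArg (fun m => m.hom.app V) hfg
  exact ConcreteCategory.congr_hom h1 x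

/-- sections of a left exact sequence -/
lemma sections_leftExact (S : ShortComplex (Sheaf J AddCommGrpCat.{u})) (hS : S.Exact)
    (hm : Mono S.f) (V : Cᵒᵖ) (x : S.X₂.obj.obj V) (hx : S.g.hom.app V x = 0) :
    ∃ y : S.X₁.obj.obj V, S.f.hom.app V y = x := by
  haveI := Groth.Agent.Helper4.ConstSheafExact.additive_sections J V.unop
  have key := (Functor.preservesFiniteLimits_tfae
    ((sheafSections J AddCommGrpCat.{u}).obj (op V.unop))).out 3 1 rfl rfl
  have h2 := key.1
      (Groth.Agent.Helper4.ConstSheafExact.preservesFiniteLimits_sections J V.unop) S ⟨hS, hm⟩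
  have h3 := h2.1
  rw [ShortComplex.ab_exact_iff] at h3
  exact h3 x hx

lemma sections_mono {A B : Sheaf J AddCommGrpCat.{u}} (f : A ⟶ B) [Mono f] (V : Cᵒᵖ) :
    Function.Injective (f.hom.app V) := by
  haveI := Groth.Agent.Helper4.ConstSheafExact.preservesFiniteLimits_sections J V.unop
  have h : Mono (((sheafSections J AddCommGrpCat.{u}).obj (op V.unop)).map f) := inferInstance
  exact (AddCommGrpCat.mono_iff_injective _).1 h

/-- local lifting along an exact sequence of abelian sheaves -/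
lemma sections_exact_locally (S : ShortComplex (Sheaf J AddCommGrpCat.{u})) (hS : S.Exact)
    (V : C) (x : S.X₂.obj.obj (op V)) (hx : S.g.hom.app (op V) x = 0) :
    ∃ R ∈ J V, ∀ ⦃W : C⦄ (h : W ⟶ V), R h →
      ∃ y : S.X₁.obj.obj (op W), S.f.hom.app (op W) y = S.X₂.obj.map h.op x := by
  obtain ⟨ζ, hζ⟩ := sections_leftExact (ShortComplex.mk (kernel.ι S.g) S.g (kernel.condition S.g))
    (ShortComplex.exact_kernel S.g) (inferInstanceAs (Mono (kernel.ι S.g))) (op V) x hx
  have hζ' : (kernel.ι S.g).hom.app (op V) ζ = x := hζ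
  haveI : Epi (kernel.lift S.g S.f S.zero) := S.exact_iff_epi_kernel_lift.1 hS
  haveI : Sheaf.IsLocallySurjective (kernel.lift S.g S.f S.zero) :=
    (Sheaf.isLocallySurjective_iff_epi' (φ := kernel.lift S.g S.f S.zero)).2 inferInstance
  refine ⟨Presheaf.imageSieve (kernel.lift S.g S.f S.zero).hom ζ,
    Presheaf.imageSieve_mem J (kernel.lift S.g S.f S.zero).hom ζ, ?_⟩
  rintro W h ⟨y, hy⟩
  refine ⟨y, ?_⟩
  rw [← comp_app_apply (kernel.lift S.g S.f S.zero) (kernel.ι S.g) S.f (kernel.lift_ι _ _ _)]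
  have hy' : (kernel.lift S.g S.f S.zero).hom.app (op W) y = (kernel S.g).obj.map h.op ζ := hy
  rw [hy', app_map, hζ']

section homology

variable (K : CochainComplex (Sheaf J AddCommGrpCat.{u}) ℤ) (i j k : ℤ)

lemma exists_cycle_section (hjk : j + 1 = k) (V : Cᵒᵖ) (z : (K.X j).obj.obj V)
    (hz : (K.d j k).hom.app V z = 0) :
    ∃ ζ : (K.cycles j).obj.obj V, (K.iCycles j).hom.app V ζ = z :=
  sections_leftExact (ShortComplex.mk (K.iCycles j) (K.d j k) (K.iCycles_d j k))
    (ShortComplex.exact_of_f_is_kernel _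
      (K.cyclesIsKernel j k (by rw [CochainComplex.next]; exact hjk)))
    (inferInstanceAs (Mono (K.iCycles j))) V z hz

lemma iCycles_section_injective (V : Cᵒᵖ) : Function.Injective ((K.iCycles j).hom.app V) :=
  sections_mono _ V

lemma iCycles_d_section (V : Cᵒᵖ) (ζ : (K.cycles j).obj.obj V) :
    (K.d j k).hom.app V ((K.iCycles j).hom.app V ζ) = 0 := by
  rw [comp_app_apply (K.iCycles j) (K.d j k) 0 (K.iCycles_d j k)]
  rfl

lemma homologyπ_locally_surjective (U : C) (s : (K.homology j).obj.obj (op U)) :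
    ∃ R ∈ J U, ∀ ⦃V : C⦄ (h : V ⟶ U), R h → ∃ ζ : (K.cycles j).obj.obj (op V),
      (K.homologyπ j).hom.app (op V) ζ = (K.homology j).obj.map h.op s := by
  haveI : Sheaf.IsLocallySurjective (K.homologyπ j) :=
    (Sheaf.isLocallySurjective_iff_epi' (φ := K.homologyπ j)).2 inferInstance
  exact ⟨Presheaf.imageSieve (K.homologyπ j).hom s, Presheaf.imageSieve_mem J _ s,
    fun V h hh => hh⟩

lemma homologyπ_eq_zero_locally (hij : i + 1 = j) (V : C) (ζ : (K.cycles j).obj.obj (op V))
    (h0 : (K.homologyπ j).hom.app (op V) ζ = 0) :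
    ∃ R ∈ J V, ∀ ⦃W : C⦄ (h : W ⟶ V), R h → ∃ y : (K.X i).obj.obj (op W),
      (K.toCycles i j).hom.app (op W) y = (K.cycles j).obj.map h.op ζ :=
  sections_exact_locally
    (ShortComplex.mk (K.toCycles i j) (K.homologyπ j) (K.toCycles_comp_homologyπ i j))
    (ShortComplex.exact_of_g_is_cokernel _
      (K.homologyIsCokernel i j (by rw [CochainComplex.prev]; omega))) V ζ h0

lemma homologyπ_toCycles_section (V : Cᵒᵖ) (y : (K.X i).obj.obj V) :
    (K.homologyπ j).hom.app V ((K.toCycles i j).hom.app V y) = 0 := by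
  rw [comp_app_apply (K.toCycles i j) (K.homologyπ j) 0 (K.toCycles_comp_homologyπ i j)]
  rfl

lemma iCycles_toCycles_section (V : Cᵒᵖ) (y : (K.X i).obj.obj V) :
    (K.iCycles j).hom.app V ((K.toCycles i j).hom.app V y) = (K.d i j).hom.app V y :=
  comp_app_apply (K.toCycles i j) (K.iCycles j) (K.d i j) (K.toCycles_i i j) V y

variable {K} {K' : CochainComplex (Sheaf J AddCommGrpCat.{u}) ℤ} (φ : K ⟶ K')

lemma iCycles_cyclesMap_section (V : Cᵒᵖ) (ζ : (K.cycles j).obj.obj V) :
    (K'.iCycles j).hom.app V ((HomologicalComplex.cyclesMap φ j).hom.app V ζ) =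
      (φ.f j).hom.app V ((K.iCycles j).hom.app V ζ) := by
  rw [comp_app_apply (HomologicalComplex.cyclesMap φ j) (K'.iCycles j) (K.iCycles j ≫ φ.f j)
    (HomologicalComplex.cyclesMap_i φ j)]
  rfl

lemma homologyπ_cyclesMap_section (V : Cᵒᵖ) (ζ : (K.cycles j).obj.obj V) :
    (K'.homologyπ j).hom.app V ((HomologicalComplex.cyclesMap φ j).hom.app V ζ) =
      (HomologicalComplex.homologyMap φ j).hom.app V ((K.homologyπ j).hom.app V ζ) := by
  rw [comp_app_apply (HomologicalComplex.cyclesMap φ j) (K'.homologyπ j)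
    (K.homologyπ j ≫ HomologicalComplex.homologyMap φ j)
    (HomologicalComplex.homologyπ_naturality φ j).symm]
  rfl

lemma d_f_section (V : Cᵒᵖ) (x : (K.X j).obj.obj V) :
    (K'.d j k).hom.app V ((φ.f j).hom.app V x) = (φ.f k).hom.app V ((K.d j k).hom.app V x) := by
  rw [comp_app_apply (φ.f j) (K'.d j k) (K.d j k ≫ φ.f k) (φ.comm j k)]
  rfl

end homology

/-! ### sections of a sequential limit of complexes -/

section lim

variable {F : ℕ → CochainComplex (Sheaf J AddCommGrpCat.{u}) ℤ} (t : ∀ n, F (n + 1) ⟶ F n)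
  (c : Cone (Functor.ofOpSequence t)) (hc : IsLimit c) (j : ℤ) (V : Cᵒᵖ)

/-- sections over `V` in degree `j` -/
noncomputable abbrev secFun (j : ℤ) (V : Cᵒᵖ) :
    CochainComplex (Sheaf J AddCommGrpCat.{u}) ℤ ⥤ AddCommGrpCat.{u} :=
  HomologicalComplex.eval _ _ j ⋙ sheafToPresheaf J AddCommGrpCat.{u} ⋙
    (evaluation Cᵒᵖ AddCommGrpCat.{u}).obj V

lemma cone_π_succ (n : ℕ) : c.π.app (op (n + 1)) ≫ t n = c.π.app (op n) := by
  have h := c.w (homOfLE (Nat.le_add_right n 1)).op
  rwa [Functor.ofOpSequence_map_homOfLE_succ] at h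

lemma cone_π_succ_section (n : ℕ) (x : (c.pt.X j).obj.obj V) :
    ((t n).f j).hom.app V (((c.π.app (op (n + 1))).f j).hom.app V x) =
      ((c.π.app (op n)).f j).hom.app V x := by
  have h := congrArg (fun m => (m.f j).hom.app V) (cone_π_succ t c n)
  exact ConcreteCategory.congr_hom h x

include hc in
lemma limit_section_ext (x y : (c.pt.X j).obj.obj V)
    (h : ∀ n, ((c.π.app (op n)).f j).hom.app V x = ((c.π.app (op n)).f j).hom.app V y) :
    x = y := by
  have hc' := isLimitOfPreserves (secFun (J := J) j V) hc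
  apply Concrete.isLimit_ext _ hc'
  rintro ⟨n⟩
  exact h n

include hc in
lemma limit_section_exists (a : ∀ n, ((F n).X j).obj.obj V)
    (ha : ∀ n, ((t n).f j).hom.app V (a (n + 1)) = a n) :
    ∃ x : (c.pt.X j).obj.obj V, ∀ n, ((c.π.app (op n)).f j).hom.app V x = a n := by
  have hc' := isLimitOfPreserves (secFun (J := J) j V ⋙ forget AddCommGrpCat.{u}) hc
  let c' : Cone (Functor.ofOpSequence t ⋙ secFun (J := J) j V ⋙ forget AddCommGrpCat.{u}) :=
    { pt := PUnit.{u + 1}
      π := NatTrans.ofOpSequence (fun n => TypeCat.ofHom (fun _ => a n)) (by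
        intro n
        ext x
        simp only [Functor.comp_map, Functor.ofOpSequence_map_homOfLE_succ]
        exact (ha n).symm) }
  refine ⟨(hc'.lift c') PUnit.unit, fun n => ?_⟩
  exact ConcreteCategory.congr_hom (hc'.fac c' (op n)) PUnit.unit

include hc in
lemma limit_section_ext_tail (n₀ : ℕ) (x y : (c.pt.X j).obj.obj V)
    (h : ∀ k, ((c.π.app (op (n₀ + k))).f j).hom.app V x =
      ((c.π.app (op (n₀ + k))).f j).hom.app V y) : x = y := by
  apply limit_section_ext t c hc j V
  apply CSL1.forall_of_tail n₀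
  · intro n hn
    rw [← cone_π_succ_section, ← cone_π_succ_section t c j V n y, hn]
  · intro n hn
    obtain ⟨k, rfl⟩ := Nat.exists_eq_add_of_le hn
    exact h k

include hc in
lemma limit_section_exists_tail (n₀ : ℕ) (b : ∀ k, ((F (n₀ + k)).X j).obj.obj V)
    (hb : ∀ k, ((t (n₀ + k)).f j).hom.app V (b (k + 1)) = b k) :
    ∃ x : (c.pt.X j).obj.obj V, ∀ k, ((c.π.app (op (n₀ + k))).f j).hom.app V x = b k := by
  haveI : ∀ n, Inhabited (((F n).X j).obj.obj V) := fun n => ⟨0⟩
  obtain ⟨a, ha1, ha2⟩ := CSL1.exists_compatible_of_tail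
    (X := fun n => ((F n).X j).obj.obj V) n₀ (fun n x => ((t n).f j).hom.app V x) b hb
  obtain ⟨x, hx⟩ := limit_section_exists t c hc j V a ha1
  exact ⟨x, fun k => (hx _).trans (ha2 k)⟩

end lim

end Groth.Agent.Helper6.CSL2
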