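import Mathlib
import Groth.Prelude.Def_CohCx
import Groth.Agent.Helper6.AbH
import Groth.Agent.Helper6.CSL1

/-!
# Cohomology of an inverse limit of complexes of abelian groups (one degree)
-/

set_option autoImplicit false
set_option linter.style.haveILetI false
set_option linter.unusedSectionVars false
set_option linter.unusedVariables false

namespace Groth.Agent.Helper6.CSL3

open CategoryTheory Limits
open Groth.Agent.Helper6
universe u

section iso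

variable {A A' : CochainComplex AddCommGrpCat.{u} ℤ} (τ : A ⟶ A') (i j k : ℤ)
  (hij : i + 1 = j) (hjk : j + 1 = k) (h : IsIso (HomologicalComplex.homologyMap τ j))

include hij hjk h

lemma iso_surj (z' : A'.X j) (hz' : (A'.d j k) z' = 0) :
    ∃ (z : A.X j) (b : A'.X i), (A.d j k) z = 0 ∧ (τ.f j) z = z' + (A'.d i j) b := by
  have hbij : Function.Bijective (HomologicalComplex.homologyMap τ j) :=
    (ConcreteCategory.isIso_iff_bijective _).1 h
  obtain ⟨cl, hcl⟩ := hbij.2 (AbH.cls A' j k hjk z' hz')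
  obtain ⟨z, hz, rfl⟩ := AbH.exists_cls A j k hjk cl
  rw [AbH.homologyMap_cls j k hjk τ hz, AbH.cls_eq_cls_iff A' i j k hij hjk] at hcl
  obtain ⟨b, hb⟩ := hcl
  exact ⟨z, b, hz, by rw [hb]; abel⟩

lemma iso_inj (z : A.X j) (hz : (A.d j k) z = 0) (b : A'.X i) (hb : (τ.f j) z = (A'.d i j) b) :
    ∃ b' : A.X i, z = (A.d i j) b' := by
  have hbij : Function.Bijective (HomologicalComplex.homologyMap τ j) :=
    (ConcreteCategory.isIso_iff_bijective _).1 h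
  have h1 : (HomologicalComplex.homologyMap τ j) (AbH.cls A j k hjk z hz) = 0 := by
    rw [AbH.homologyMap_cls j k hjk τ hz, AbH.cls_eq_zero_iff A' i j k hij hjk]
    exact ⟨b, hb.symm⟩
  have h2 : AbH.cls A j k hjk z hz = 0 := by
    apply hbij.1
    rw [h1, map_zero]
  rw [AbH.cls_eq_zero_iff A i j k hij hjk] at h2
  obtain ⟨y, hy⟩ := h2
  exact ⟨y, hy.symm⟩

end iso

/-- vanishing of `lim¹` passes to a tail -/
lemma limOne_tail (A : ℕ → Type u) [∀ n, AddCommGroup (A n)] (t : ∀ n, A (n + 1) →+ A n)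
    (h : CohCx.LimOneIsZero A t) (n₀ : ℕ) (u : ∀ k, A (n₀ + k)) :
    ∃ v : ∀ k, A (n₀ + k), ∀ k, v k - t (n₀ + k) (v (k + 1)) = u k := by
  haveI : ∀ n, Inhabited (A n) := fun n => ⟨0⟩
  obtain ⟨u', hu'⟩ := CSL1.exists_family_of_tail n₀ u
  obtain ⟨v', hv'⟩ := h u'
  refine ⟨fun k => v' (n₀ + k), fun k => ?_⟩
  have h1 := congrFun hv' (n₀ + k)
  rw [hu' k] at h1
  exact h1

lemma hb_of_limOne (A : ℕ → CochainComplex AddCommGrpCat.{u} ℤ) (τ : ∀ n, A (n + 1) ⟶ A n)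
    (i j k : ℤ) (hij : i + 1 = j) (hjk : j + 1 = k)
    (hL : CohCx.LimOneIsZero (fun n => (A n).homology j)
      (fun n => (HomologicalComplex.homologyMap (τ n) j).hom)) (n₀ : ℕ)
    (e : ∀ k', (A (n₀ + k')).X j) (he : ∀ k', ((A (n₀ + k')).d j k) (e k') = 0) :
    ∃ (w : ∀ k', (A (n₀ + k')).X j) (u : ∀ k', (A (n₀ + k')).X i),
      (∀ k', ((A (n₀ + k')).d j k) (w k') = 0) ∧
      ∀ k', e k' - (w k' - ((τ (n₀ + k')).f j) (w (k' + 1))) = ((A (n₀ + k')).d i j) (u k') := by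
  obtain ⟨η, hη⟩ := limOne_tail _ _ hL n₀ (fun k' => AbH.cls (A (n₀ + k')) j k hjk (e k') (he k'))
  have hex : ∀ k', ∃ (w : (A (n₀ + k')).X j) (hw : ((A (n₀ + k')).d j k) w = 0),
      AbH.cls (A (n₀ + k')) j k hjk w hw = η k' := fun k' => AbH.exists_cls _ j k hjk (η k')
  choose w hw hwη using hex
  have hu : ∀ k', ∃ u : (A (n₀ + k')).X i,
      ((A (n₀ + k')).d i j) u = e k' - (w k' - ((τ (n₀ + k')).f j) (w (k' + 1))) := by
    intro k'
    have h1 := hη k'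
    rw [← hwη k', ← hwη (k' + 1)] at h1
    have hw' : ((A (n₀ + k' + 1)).d j k) (w (k' + 1)) = 0 := hw (k' + 1)
    have h2 : (HomologicalComplex.homologyMap (τ (n₀ + k')) j).hom
        (AbH.cls (A (n₀ + (k' + 1))) j k hjk (w (k' + 1)) (hw (k' + 1))) =
        AbH.cls (A (n₀ + k')) j k hjk (((τ (n₀ + k')).f j) (w (k' + 1)))
          (by rw [AbH.f_d_apply, hw', map_zero]) :=
      AbH.homologyMap_cls j k hjk (τ (n₀ + k')) (hw (k' + 1))
    rw [h2, AbH.cls_sub] at h1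
    exact (AbH.cls_eq_cls_iff (A (n₀ + k')) i j k hij hjk _ _).1 h1.symm
  choose u hu using hu
  exact ⟨w, u, hw, fun k' => (hu k').symm⟩

section ablim

variable (A : ℕ → CochainComplex AddCommGrpCat.{u} ℤ) (τ : ∀ k, A (k + 1) ⟶ A k)
  (T : ∀ k, A k ⟶ A 0) (hT0 : T 0 = 𝟙 _) (hTs : ∀ k, T (k + 1) = τ k ≫ T k)
  (m i2 i1 ip : ℤ) (h21 : i2 + 1 = i1) (h10 : i1 + 1 = m) (h0p : m + 1 = ip)
  (ha2 : ∀ u : ∀ k, (A k).X i2, ∃ v : ∀ k, (A k).X i2, ∀ k, v k - ((τ k).f i2) (v (k + 1)) = u k)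
  (ha1 : ∀ u : ∀ k, (A k).X i1, ∃ v : ∀ k, (A k).X i1, ∀ k, v k - ((τ k).f i1) (v (k + 1)) = u k)
  (hb : ∀ e : ∀ k, (A k).X i1, (∀ k, ((A k).d i1 m) (e k) = 0) →
    ∃ (w : ∀ k, (A k).X i1) (u : ∀ k, (A k).X i2), (∀ k, ((A k).d i1 m) (w k) = 0) ∧
      ∀ k, e k - (w k - ((τ k).f i1) (w (k + 1))) = ((A k).d i2 i1) (u k))
  (hc : ∀ k, IsIso (HomologicalComplex.homologyMap (T k) m))
  (Lc : CochainComplex AddCommGrpCat.{u} ℤ) (p : ∀ k, Lc ⟶ A k)
  (hp : ∀ k, p (k + 1) ≫ τ k = p k)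
  (hE1 : ∀ y : ∀ k, (A k).X i1, (∀ k, ((τ k).f i1) (y (k + 1)) = y k) →
    ∃ x : Lc.X i1, ∀ k, ((p k).f i1) x = y k)
  (hE0 : ∀ y : ∀ k, (A k).X m, (∀ k, ((τ k).f m) (y (k + 1)) = y k) →
    ∃ x : Lc.X m, ∀ k, ((p k).f m) x = y k)
  (hU0 : ∀ x x' : Lc.X m, (∀ k, ((p k).f m) x = ((p k).f m) x') → x = x')
  (hUp : ∀ x x' : Lc.X ip, (∀ k, ((p k).f ip) x = ((p k).f ip) x') → x = x')

include hT0 hTs h21 h10 h0p ha2 ha1 hb hc hp hE1 hE0 hU0 hUp

theorem ab_lim :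
    (∀ z' : (A 0).X m, ((A 0).d m ip) z' = 0 → ∃ (z : Lc.X m) (y' : (A 0).X i1),
      (Lc.d m ip) z = 0 ∧ ((p 0).f m) z = z' + ((A 0).d i1 m) y') ∧
    (∀ z : Lc.X m, (Lc.d m ip) z = 0 → ∀ y' : (A 0).X i1, ((p 0).f m) z = ((A 0).d i1 m) y' →
      ∃ y : Lc.X i1, (Lc.d i1 m) y = z) := by
  have hdd1 : ∀ k (x : (A k).X i2), ((A k).d i1 m).hom (((A k).d i2 i1).hom x) = 0 :=
    fun k x => AbH.d_d_apply (A k) i2 i1 m x
  have hdd2 : ∀ k (x : (A k).X i1), ((A k).d m ip).hom (((A k).d i1 m).hom x) = 0 :=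
    fun k x => AbH.d_d_apply (A k) i1 m ip x
  have hsP : ∀ k (x : (A (k + 1)).X i2), ((A k).d i2 i1).hom (((τ k).f i2).hom x) =
      ((τ k).f i1).hom (((A (k + 1)).d i2 i1).hom x) := fun k x => AbH.f_d_apply i2 i1 (τ k) x
  have hsQ : ∀ k (x : (A (k + 1)).X i1), ((A k).d i1 m).hom (((τ k).f i1).hom x) =
      ((τ k).f m).hom (((A (k + 1)).d i1 m).hom x) := fun k x => AbH.f_d_apply i1 m (τ k) x
  have hsR : ∀ k (x : (A (k + 1)).X m), ((A k).d m ip).hom (((τ k).f m).hom x) =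
      ((τ k).f ip).hom (((A (k + 1)).d m ip).hom x) := fun k x => AbH.f_d_apply m ip (τ k) x
  have hTR0 : ∀ x : (A 0).X m, ((T 0).f m).hom x = x := by
    intro x
    rw [hT0]
    rfl
  have hTRs : ∀ k (x : (A (k + 1)).X m), ((T (k + 1)).f m).hom x =
      ((T k).f m).hom (((τ k).f m).hom x) := by
    intro k x
    rw [hTs]
    rfl
  have hcs : ∀ k (z' : (A 0).X m), ((A 0).d m ip).hom z' = 0 →
      ∃ (z : (A k).X m) (b : (A 0).X i1), ((A k).d m ip).hom z = 0 ∧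
        ((T k).f m).hom z = z' + ((A 0).d i1 m).hom b :=
    fun k z' hz' => iso_surj (T k) i1 m ip h10 h0p (hc k) z' hz'
  have hci : ∀ k (z : (A k).X m), ((A k).d m ip).hom z = 0 →
      (∃ b : (A 0).X i1, ((T k).f m).hom z = ((A 0).d i1 m).hom b) →
      ∃ b' : (A k).X i1, z = ((A k).d i1 m).hom b' :=
    fun k z hz ⟨b, hb⟩ => iso_inj (T k) i1 m ip h10 h0p (hc k) z hz b hb
  have hpR : ∀ k (x : Lc.X m), ((τ k).f m).hom (((p (k + 1)).f m).hom x) = ((p k).f m).hom x := by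
    intro k x
    rw [← hp k]
    rfl
  have hpdQ : ∀ k (y : Lc.X i1), ((p k).f m).hom ((Lc.d i1 m).hom y) =
      ((A k).d i1 m).hom (((p k).f i1).hom y) := fun k y => (AbH.f_d_apply i1 m (p k) y).symm
  have hpdR : ∀ k (z : Lc.X m), ((p k).f ip).hom ((Lc.d m ip).hom z) =
      ((A k).d m ip).hom (((p k).f m).hom z) := fun k z => (AbH.f_d_apply m ip (p k) z).symm
  constructor
  · intro z' hz'
    exact CSL1.lim_surj
      (Q := fun k => (A k).X i1) (R := fun k => (A k).X m) (S := fun k => (A k).X ip)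
      (dQ := fun k => ((A k).d i1 m).hom) (dR := fun k => ((A k).d m ip).hom)
      (sQ := fun k => ((τ k).f i1).hom) (sR := fun k => ((τ k).f m).hom)
      (sS := fun k => ((τ k).f ip).hom)
      (hdd2 := hdd2) (hsQ := hsQ) (hsR := hsR)
      (TR := fun k => ((T k).f m).hom) (hTR0 := hTR0) (hTRs := hTRs)
      (ha1 := ha1) (hcs := hcs) (hci := hci)
      (dLR := (Lc.d m ip).hom) (pR := fun k => ((p k).f m).hom) (pS := fun k => ((p k).f ip).hom)
      (hpdR := hpdR) (hER := hE0) (hUS := hUp) z' hz'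
  · intro z hz y' hy'
    exact CSL1.lim_inj
      (P := fun k => (A k).X i2)
      (Q := fun k => (A k).X i1) (R := fun k => (A k).X m) (S := fun k => (A k).X ip)
      (dP := fun k => ((A k).d i2 i1).hom)
      (dQ := fun k => ((A k).d i1 m).hom) (dR := fun k => ((A k).d m ip).hom)
      (sP := fun k => ((τ k).f i2).hom)
      (sQ := fun k => ((τ k).f i1).hom) (sR := fun k => ((τ k).f m).hom)
      (sS := fun k => ((τ k).f ip).hom)
      (hdd1 := hdd1) (hsP := hsP) (hsQ := hsQ) (hsR := hsR)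
      (TR := fun k => ((T k).f m).hom) (hTR0 := hTR0) (hTRs := hTRs)
      (ha2 := ha2) (hb := hb) (hci := hci)
      (dLQ := (Lc.d i1 m).hom) (dLR := (Lc.d m ip).hom)
      (pQ := fun k => ((p k).f i1).hom)
      (pR := fun k => ((p k).f m).hom) (pS := fun k => ((p k).f ip).hom)
      (hpR := hpR) (hpdQ := hpdQ) (hpdR := hpdR) (hEQ := hE1) (hUR := hU0) z hz y' hy'

end ablim

end Groth.Agent.Helper6.CSL3
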