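import Mathlib
import Groth.Prelude.Def_CohCx
import Groth.Agent.Helper6.CSL2
import Groth.Agent.Helper6.CSL3

/-!
# The cohomology sheaf of a sequential limit of complexes of abelian sheaves
-/

set_option autoImplicit false
set_option linter.style.haveILetI false
set_option linter.unusedSectionVars false
set_option linter.unusedVariables false

namespace Groth.Agent.Helper6.CSL4

open CategoryTheory Opposite Limits
open Groth.Agent.Helper6.SH1A Groth.Agent.Helper6.SH1B Groth.Agent.Helper6.SH1C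
  Groth.Agent.Helper6.SH1D Groth.Agent.Helper6.CSL2
universe u
variable {C : Type u} [SmallCategory C] (J : GrothendieckTopology C)
  (F : ℕ → CochainComplex (Sheaf J AddCommGrpCat.{u}) ℤ) (t : ∀ n, F (n + 1) ⟶ F n) (m : ℤ)
  (n₀ : ℕ)

lemma ofArrows_le {U : C} {ι : Type u} {Y : ι → C} (f : ∀ i, Y i ⟶ U) (S : Sieve U)
    (h : ∀ i, S (f i)) : Sieve.ofArrows Y f ≤ S := by
  unfold Sieve.ofArrows
  rw [Sieve.generate_le_iff, Presieve.ofArrows_le_iff]
  exact h

/-- the local statement over an object `V` -/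
theorem local_alg (V : C)
    (ha : ∀ j : ℤ, (j = m - 2 ∨ j = m - 1) →
      CohCx.LimOneIsZero (fun n => ((F n).X j).obj.obj (op V))
        (fun n => (((t n).f j).hom.app (op V)).hom))
    (hb : CohCx.LimOneIsZero
      (fun n => ((CohCx.sectCx J V).obj (F n)).homology (m - 1))
      (fun n => (HomologicalComplex.homologyMap ((CohCx.sectCx J V).map (t n)) (m - 1)).hom))
    (hc : ∀ k : ℕ, IsIso (HomologicalComplex.homologyMap
      ((CohCx.sectCx J V).map (CohCx.transition F t n₀ k)) m))
    (c : Cone (Functor.ofOpSequence t)) (hcl : IsLimit c) :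
    (∀ z' : ((F n₀).X m).obj.obj (op V), ((F n₀).d m (m + 1)).hom.app (op V) z' = 0 →
      ∃ (z : (c.pt.X m).obj.obj (op V)) (y' : ((F n₀).X (m - 1)).obj.obj (op V)),
        (c.pt.d m (m + 1)).hom.app (op V) z = 0 ∧
        ((c.π.app (op n₀)).f m).hom.app (op V) z =
          z' + ((F n₀).d (m - 1) m).hom.app (op V) y') ∧
    (∀ z : (c.pt.X m).obj.obj (op V), (c.pt.d m (m + 1)).hom.app (op V) z = 0 →
      ∀ y' : ((F n₀).X (m - 1)).obj.obj (op V),
        ((c.π.app (op n₀)).f m).hom.app (op V) z = ((F n₀).d (m - 1) m).hom.app (op V) y' →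
      ∃ y : (c.pt.X (m - 1)).obj.obj (op V), (c.pt.d (m - 1) m).hom.app (op V) y = z) := by
  have hT0 : (CohCx.sectCx J V).map (CohCx.transition F t n₀ 0) = 𝟙 _ := by
    show (CohCx.sectCx J V).map (𝟙 (F n₀)) = 𝟙 _
    exact CategoryTheory.Functor.map_id _ _
  have hTs : ∀ k, (CohCx.sectCx J V).map (CohCx.transition F t n₀ (k + 1)) =
      (CohCx.sectCx J V).map (t (n₀ + k)) ≫ (CohCx.sectCx J V).map (CohCx.transition F t n₀ k) := by
    intro k
    show (CohCx.sectCx J V).map (t (n₀ + k) ≫ CohCx.transition F t n₀ k) = _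
    exact Functor.map_comp _ _ _
  have hp : ∀ k, (CohCx.sectCx J V).map (c.π.app (op (n₀ + (k + 1)))) ≫
      (CohCx.sectCx J V).map (t (n₀ + k)) = (CohCx.sectCx J V).map (c.π.app (op (n₀ + k))) := by
    intro k
    rw [← Functor.map_comp]
    congr 1
    exact cone_π_succ t c (n₀ + k)
  exact CSL3.ab_lim
    (A := fun k => (CohCx.sectCx J V).obj (F (n₀ + k)))
    (τ := fun k => (CohCx.sectCx J V).map (t (n₀ + k)))
    (T := fun k => (CohCx.sectCx J V).map (CohCx.transition F t n₀ k))
    (hT0 := hT0) (hTs := hTs)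
    (m := m) (i2 := m - 2) (i1 := m - 1) (ip := m + 1) (h21 := by ring) (h10 := by ring)
    (h0p := rfl)
    (ha2 := fun u => CSL3.limOne_tail _ _ (ha (m - 2) (Or.inl rfl)) n₀ u)
    (ha1 := fun u => CSL3.limOne_tail _ _ (ha (m - 1) (Or.inr rfl)) n₀ u)
    (hb := fun e he => CSL3.hb_of_limOne (fun n => (CohCx.sectCx J V).obj (F n))
      (fun n => (CohCx.sectCx J V).map (t n)) (m - 2) (m - 1) m (by ring) (by ring) hb n₀ e he)
    (hc := hc)
    (Lc := (CohCx.sectCx J V).obj c.pt)
    (p := fun k => (CohCx.sectCx J V).map (c.π.app (op (n₀ + k))))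
    (hp := hp)
    (hE1 := fun y hy => limit_section_exists_tail t c hcl (m - 1) (op V) n₀ y hy)
    (hE0 := fun y hy => limit_section_exists_tail t c hcl m (op V) n₀ y hy)
    (hU0 := fun x x' h => limit_section_ext_tail t c hcl m (op V) n₀ x x' h)
    (hUp := fun x x' h => limit_section_ext_tail t c hcl (m + 1) (op V) n₀ x x' h)

/-- a morphism of complexes of abelian sheaves inducing, on sections over a generating class
of objects, a bijection on cohomology in degree `m` (in cocycle form), induces an isomorphism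
of cohomology sheaves in degree `m` -/
theorem isIso_homologyMap_of_local {L K : CochainComplex (Sheaf J AddCommGrpCat.{u}) ℤ}
    (π₀ : L ⟶ K) (B : Set C)
    (hB : ∀ U : C, ∃ (ι : Type u) (Y : ι → C) (f : ∀ i, Y i ⟶ U),
      Sieve.ofArrows Y f ∈ J U ∧ ∀ i, Y i ∈ B)
    (hloc : ∀ V ∈ B,
      (∀ z' : (K.X m).obj.obj (op V), (K.d m (m + 1)).hom.app (op V) z' = 0 →
        ∃ (z : (L.X m).obj.obj (op V)) (y' : (K.X (m - 1)).obj.obj (op V)),
          (L.d m (m + 1)).hom.app (op V) z = 0 ∧
          (π₀.f m).hom.app (op V) z = z' + (K.d (m - 1) m).hom.app (op V) y') ∧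
      (∀ z : (L.X m).obj.obj (op V), (L.d m (m + 1)).hom.app (op V) z = 0 →
        ∀ y' : (K.X (m - 1)).obj.obj (op V),
          (π₀.f m).hom.app (op V) z = (K.d (m - 1) m).hom.app (op V) y' →
        ∃ y : (L.X (m - 1)).obj.obj (op V), (L.d (m - 1) m).hom.app (op V) y = z)) :
    IsIso (HomologicalComplex.homologyMap π₀ m) := by
  refine (Sheaf.isLocallyBijective_iff_isIso (HomologicalComplex.homologyMap π₀ m)).1 ⟨?_, ?_⟩
  · -- locally injective
    refine ⟨fun {X} x y hxy => ?_⟩
    obtain ⟨U⟩ := X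
    obtain ⟨S₁, hS₁, h1⟩ := homologyπ_locally_surjective L m U
      ((x : (L.homology m).obj.obj (op U)) - y)
    refine J.transitive hS₁ _ (fun V h hh => ?_)
    obtain ⟨ζ, hζ⟩ := h1 h hh
    have h0 : (K.homologyπ m).hom.app (op V)
        ((HomologicalComplex.cyclesMap π₀ m).hom.app (op V) ζ) = 0 := by
      rw [homologyπ_cyclesMap_section, hζ, app_map, app_sub]
      have hxy' : (HomologicalComplex.homologyMap π₀ m).hom.app (op U) x =
        (HomologicalComplex.homologyMap π₀ m).hom.app (op U) y := hxy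
      rw [hxy', sub_self, res_zero]
    obtain ⟨S₂, hS₂, h2⟩ := homologyπ_eq_zero_locally K (m - 1) m (by ring) V _ h0
    refine J.transitive hS₂ _ (fun W h' hh' => ?_)
    obtain ⟨y', hy'⟩ := h2 h' hh'
    obtain ⟨ι, Y, f, hcov, hYB⟩ := hB W
    refine J.superset_covering (ofArrows_le f _ (fun i => ?_)) hcov
    show (L.homology m).obj.map ((f i ≫ h') ≫ h).op x =
      (L.homology m).obj.map ((f i ≫ h') ≫ h).op y
    have key : (L.homology m).obj.map ((f i ≫ h') ≫ h).op
        ((x : (L.homology m).obj.obj (op U)) - y) = 0 := by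
      rw [map_op_comp_apply, ← hζ, ← app_map]
      have hz : (L.d m (m + 1)).hom.app (op (Y i)) ((L.iCycles m).hom.app (op (Y i))
          ((L.cycles m).obj.map (f i ≫ h').op ζ)) = 0 := iCycles_d_section L m (m + 1) _ _
      have hπz : (π₀.f m).hom.app (op (Y i)) ((L.iCycles m).hom.app (op (Y i))
          ((L.cycles m).obj.map (f i ≫ h').op ζ)) =
          (K.d (m - 1) m).hom.app (op (Y i)) ((K.X (m - 1)).obj.map (f i).op y') := by
        rw [← iCycles_cyclesMap_section, app_map, map_op_comp_apply, ← hy', ← app_map,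
          iCycles_toCycles_section]
      obtain ⟨yy, hyy⟩ := (hloc (Y i) (hYB i)).2 _ hz _ hπz
      have h3 : (L.cycles m).obj.map (f i ≫ h').op ζ =
          (L.toCycles (m - 1) m).hom.app (op (Y i)) yy := by
        apply iCycles_section_injective L m
        rw [iCycles_toCycles_section, hyy]
      rw [h3, homologyπ_toCycles_section]
    rw [res_sub, sub_eq_zero] at key
    exact key
  · -- locally surjective
    refine ⟨fun {U} s => ?_⟩
    obtain ⟨S₁, hS₁, h1⟩ := homologyπ_locally_surjective K m U s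
    refine J.transitive hS₁ _ (fun V h hh => ?_)
    obtain ⟨ζ', hζ'⟩ := h1 h hh
    obtain ⟨ι, Y, f, hcov, hYB⟩ := hB V
    refine J.superset_covering (ofArrows_le f _ (fun i => ?_)) hcov
    show ∃ σ : (L.homology m).obj.obj (op (Y i)),
      (HomologicalComplex.homologyMap π₀ m).hom.app (op (Y i)) σ =
        (K.homology m).obj.map (f i ≫ h).op s
    have hz'' : (K.d m (m + 1)).hom.app (op (Y i)) ((K.iCycles m).hom.app (op (Y i))
        ((K.cycles m).obj.map (f i).op ζ')) = 0 := iCycles_d_section K m (m + 1) _ _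
    obtain ⟨z, y', hz, hzy⟩ := (hloc (Y i) (hYB i)).1 _ hz''
    obtain ⟨ζ, hζ⟩ := exists_cycle_section L m (m + 1) rfl (op (Y i)) z hz
    refine ⟨(L.homologyπ m).hom.app (op (Y i)) ζ, ?_⟩
    rw [← homologyπ_cyclesMap_section]
    have h2 : (HomologicalComplex.cyclesMap π₀ m).hom.app (op (Y i)) ζ =
        (K.cycles m).obj.map (f i).op ζ' +
          (K.toCycles (m - 1) m).hom.app (op (Y i)) y' := by
      apply iCycles_section_injective K m
      rw [iCycles_cyclesMap_section, hζ, hzy, app_add, iCycles_toCycles_section]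
    rw [h2, app_add, homologyπ_toCycles_section, add_zero, app_map, hζ', map_op_comp_apply]


/-- the main theorem on a site -/
theorem isIso_homologyMap_limit_π (B : Set C)
    (hB : ∀ U : C, ∃ (ι : Type u) (Y : ι → C) (f : ∀ i, Y i ⟶ U),
      Sieve.ofArrows Y f ∈ J U ∧ ∀ i, Y i ∈ B)
    (ha : ∀ U ∈ B, ∀ j : ℤ, (j = m - 2 ∨ j = m - 1) →
      CohCx.LimOneIsZero (fun n => ((F n).X j).obj.obj (op U))
        (fun n => (((t n).f j).hom.app (op U)).hom))
    (hb : ∀ U ∈ B, CohCx.LimOneIsZero
      (fun n => ((CohCx.sectCx J U).obj (F n)).homology (m - 1))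
      (fun n => (HomologicalComplex.homologyMap ((CohCx.sectCx J U).map (t n)) (m - 1)).hom))
    (hc : ∀ U ∈ B, ∀ k : ℕ, IsIso (HomologicalComplex.homologyMap
      ((CohCx.sectCx J U).map (CohCx.transition F t n₀ k)) m)) :
    IsIso (HomologicalComplex.homologyMap (limit.π (CohCx.opSequence F t) (op n₀)) m) :=
  isIso_homologyMap_of_local J m (limit.π (CohCx.opSequence F t) (op n₀)) B hB
    (fun V hV => local_alg J F t m n₀ V (ha V hV) (hb V hV) (hc V hV) (limit.cone _)
      (limit.isLimit _))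

end Groth.Agent.Helper6.CSL4
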