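import Mathlib

set_option backward.isDefEq.respectTransparency false
set_option backward.isDefEq.respectTransparency.types false

namespace Groth.Agent.Helper6.IsoGen

open CategoryTheory Limits

universe u v' u'

variable {A : Type u} [CommRing A]

/-- the free module on `I` as a cofan of copies of `A` -/
noncomputable def freeCofan (I : Type u) : Cofan (fun _ : I => ModuleCat.of A A) :=
  Cofan.mk (ModuleCat.of A (I →₀ A)) (fun i => ModuleCat.ofHom (Finsupp.lsingle i))

noncomputable def freeCofanIsColimit (I : Type u) : IsColimit (freeCofan (A := A) I) :=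
  Cofan.IsColimit.mk _ (fun s => ModuleCat.ofHom (Finsupp.lsum ℕ (fun i => (s.inj i).hom)))
    (fun s i => by
      apply ModuleCat.hom_ext
      refine LinearMap.ext_ring ?_
      simp [freeCofan])
    (fun s m hm => by
      apply ModuleCat.hom_ext
      refine Finsupp.lhom_ext' (fun i => LinearMap.ext_ring ?_)
      have h := congrArg (fun f => f.hom (1 : A)) (hm i)
      simpa [freeCofan] using h)

variable {D : Type u'} [Category.{v'} D] {T₁ T₂ : ModuleCat.{u} A ⥤ D} (τ : T₁ ⟶ T₂)

theorem isIso_app_free (I : Type u) [PreservesColimitsOfShape (Discrete I) T₁]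
    [PreservesColimitsOfShape (Discrete I) T₂] [IsIso (τ.app (ModuleCat.of A A))] :
    IsIso (τ.app (ModuleCat.of A (I →₀ A))) := by
  haveI : IsIso (Functor.whiskerLeft (Discrete.functor fun _ : I => ModuleCat.of A A) τ) := by
    refine @NatIso.isIso_of_isIso_app _ _ _ _ _ _ _ ?_
    rintro ⟨i⟩
    exact inferInstanceAs (IsIso (τ.app (ModuleCat.of A A)))
  exact isIso_app_coconePt_of_preservesColimit _ τ _ (freeCofanIsColimit I)

theorem isIso_app_of_presentation
    [PreservesColimitsOfShape WalkingParallelPair T₁]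
    [PreservesColimitsOfShape WalkingParallelPair T₂]
    {X Y M : ModuleCat.{u} A} (f : X ⟶ Y) (g : Y ⟶ M) (hg : Function.Surjective g)
    (hfg : LinearMap.range f.hom = LinearMap.ker g.hom)
    [IsIso (τ.app X)] [IsIso (τ.app Y)] : IsIso (τ.app M) := by
  have w : f ≫ g = 0 := by
    ext x
    have : f.hom x ∈ LinearMap.ker g.hom := hfg ▸ LinearMap.mem_range_self _ x
    simpa using this
  let S : ShortComplex (ModuleCat.{u} A) := ShortComplex.mk f g w
  have hS : S.Exact := (ShortComplex.moduleCat_exact_iff_range_eq_ker S).mpr hfg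
  haveI : Epi S.g := (ModuleCat.epi_iff_surjective _).mpr hg
  have hc : IsColimit (CokernelCofork.ofπ S.g S.zero) := hS.gIsCokernel
  haveI : IsIso (Functor.whiskerLeft (parallelPair S.f 0) τ) := by
    refine @NatIso.isIso_of_isIso_app _ _ _ _ _ _ _ ?_
    rintro (_|_)
    · exact inferInstanceAs (IsIso (τ.app X))
    · exact inferInstanceAs (IsIso (τ.app Y))
  exact isIso_app_coconePt_of_preservesColimit (parallelPair S.f 0) τ _ hc

theorem exists_presentation (M : ModuleCat.{u} A) :
    ∃ (I J : Type u) (f : ModuleCat.of A (J →₀ A) ⟶ ModuleCat.of A (I →₀ A))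
      (g : ModuleCat.of A (I →₀ A) ⟶ M),
      Function.Surjective g ∧ LinearMap.range f.hom = LinearMap.ker g.hom := by
  let π : (M →₀ A) →ₗ[A] M := Finsupp.linearCombination A id
  have hπ : Function.Surjective π := Finsupp.linearCombination_id_surjective A M
  let K := LinearMap.ker π
  let ρ : (K →₀ A) →ₗ[A] K := Finsupp.linearCombination A id
  have hρ : Function.Surjective ρ := Finsupp.linearCombination_id_surjective A K
  refine ⟨M, K, ModuleCat.ofHom (K.subtype ∘ₗ ρ), ModuleCat.ofHom π, hπ, ?_⟩
  show LinearMap.range (K.subtype ∘ₗ ρ) = LinearMap.ker π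
  rw [LinearMap.range_comp, LinearMap.range_eq_top.mpr hρ, Submodule.map_top,
    Submodule.range_subtype]

theorem exists_fp_presentation (M : ModuleCat.{u} A) [Module.FinitePresentation A M] :
    ∃ (n m : ℕ) (f : ModuleCat.of A (ULift.{u} (Fin m) →₀ A) ⟶
        ModuleCat.of A (ULift.{u} (Fin n) →₀ A))
      (g : ModuleCat.of A (ULift.{u} (Fin n) →₀ A) ⟶ M),
      Function.Surjective g ∧ LinearMap.range f.hom = LinearMap.ker g.hom := by
  obtain ⟨n, s, hs⟩ := Module.Finite.exists_fin (R := A) (M := M)
  let π : (ULift.{u} (Fin n) →₀ A) →ₗ[A] M := Finsupp.linearCombination A (s ∘ ULift.down)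
  have hπ : Function.Surjective π := by
    rw [← LinearMap.range_eq_top, Finsupp.range_linearCombination,
      Function.Surjective.range_comp ULift.down_surjective, hs]
  have hK : (LinearMap.ker π).FG := Module.FinitePresentation.fg_ker π hπ
  obtain ⟨m, t, ht⟩ := Submodule.fg_iff_exists_fin_generating_family.mp hK
  let ρ : (ULift.{u} (Fin m) →₀ A) →ₗ[A] (ULift.{u} (Fin n) →₀ A) :=
    Finsupp.linearCombination A (t ∘ ULift.down)
  refine ⟨n, m, ModuleCat.ofHom ρ, ModuleCat.ofHom π, hπ, ?_⟩
  show LinearMap.range ρ = LinearMap.ker π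
  rw [Finsupp.range_linearCombination, Function.Surjective.range_comp ULift.down_surjective, ht]

theorem isIso_app_of_all
    [PreservesColimitsOfShape WalkingParallelPair T₁]
    [PreservesColimitsOfShape WalkingParallelPair T₂]
    (h₁ : ∀ I : Type u, PreservesColimitsOfShape (Discrete I) T₁)
    (h₂ : ∀ I : Type u, PreservesColimitsOfShape (Discrete I) T₂)
    [IsIso (τ.app (ModuleCat.of A A))] (M : ModuleCat.{u} A) : IsIso (τ.app M) := by
  obtain ⟨I, J, f, g, hg, hfg⟩ := exists_presentation M
  haveI := h₁ I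
  haveI := h₂ I
  haveI := h₁ J
  haveI := h₂ J
  haveI := isIso_app_free τ I
  haveI := isIso_app_free τ J
  exact isIso_app_of_presentation τ f g hg hfg

theorem isIso_app_of_fp [PreservesFiniteColimits T₁] [PreservesFiniteColimits T₂]
    [IsIso (τ.app (ModuleCat.of A A))] (M : ModuleCat.{u} A) [Module.FinitePresentation A M] :
    IsIso (τ.app M) := by
  obtain ⟨n, m, f, g, hg, hfg⟩ := exists_fp_presentation M
  haveI := isIso_app_free τ (ULift.{u} (Fin n))
  haveI := isIso_app_free τ (ULift.{u} (Fin m))
  exact isIso_app_of_presentation τ f g hg hfg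

end Groth.Agent.Helper6.IsoGen
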