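import Mathlib
import Groth.Agent.Helper6.IsoGen

set_option backward.isDefEq.respectTransparency false
set_option backward.isDefEq.respectTransparency.types false

namespace Groth.Agent.Helper6.CSec1

open CategoryTheory Limits Opposite TensorProduct MonoidalCategory

universe u

variable {C : Type u} [SmallCategory C] (J : GrothendieckTopology C) (Λ : Type u) [CommRing Λ] (U : C)

/-- sections over `U` of the constant sheaf -/
noncomputable abbrev Fs : ModuleCat.{u} Λ ⥤ ModuleCat.{u} Λ :=
  constantSheaf J (ModuleCat.{u} Λ) ⋙ sheafToPresheaf J _ ⋙ (evaluation _ _).obj (op U)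

instance : PreservesFiniteLimits (constantSheaf J (ModuleCat.{u} Λ)) := by
  unfold constantSheaf
  infer_instance

instance : PreservesFiniteLimits (Fs J Λ U) := inferInstance

instance : (Fs J Λ U).Additive := inferInstance

theorem map_smul_id (a : Λ) (N : ModuleCat.{u} Λ) (V : Cᵒᵖ) :
    ((constantSheaf J (ModuleCat.{u} Λ)).map (a • 𝟙 N)).hom.app V =
      a • 𝟙 (((constantSheaf J (ModuleCat.{u} Λ)).obj N).obj.obj V) := by
  let adj := sheafificationAdjunction J (ModuleCat.{u} Λ)
  let P : Cᵒᵖ ⥤ ModuleCat.{u} Λ := (Functor.const Cᵒᵖ).obj N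
  let ν : (presheafToSheaf J _).obj P ⟶ (presheafToSheaf J _).obj P :=
    ⟨{ app := fun W => a • 𝟙 (((presheafToSheaf J (ModuleCat.{u} Λ)).obj P).obj.obj W), naturality := by
        intro W W' r
        rw [Linear.comp_smul, Linear.smul_comp, Category.comp_id, Category.id_comp] }⟩
  have key : (presheafToSheaf J (ModuleCat.{u} Λ)).map ((Functor.const Cᵒᵖ).map (a • 𝟙 N)) = ν := by
    apply (adj.homEquiv _ _).injective
    rw [Adjunction.homEquiv_unit, Adjunction.homEquiv_unit]
    have h := adj.unit.naturality ((Functor.const Cᵒᵖ).map (a • 𝟙 N))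
    refine h.symm.trans ?_
    apply NatTrans.ext
    funext W
    show (a • 𝟙 N) ≫ (adj.unit.app P).app W = (adj.unit.app P).app W ≫
      (a • 𝟙 (((presheafToSheaf J (ModuleCat.{u} Λ)).obj P).obj.obj W))
    rw [Linear.comp_smul, Linear.smul_comp]
    congr 1
  exact congrArg (fun g => g.hom.app V) key

theorem Fs_map_smul_id (a : Λ) (N : ModuleCat.{u} Λ) :
    (Fs J Λ U).map (a • 𝟙 N) = a • 𝟙 ((Fs J Λ U).obj N) :=
  map_smul_id J Λ a N (op U)

theorem Fs_map_surjective {M N : ModuleCat.{u} Λ} (f : M ⟶ N) (hf : Function.Surjective f) :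
    Function.Surjective ((Fs J Λ U).map f) := by
  let V := forget (ModuleCat.{u} Λ)
  let e := constantCommuteCompose J V
  let σ : V.obj N ⟶ V.obj M := ↾(Function.surjInv hf)
  have hσ : σ ≫ V.map f = 𝟙 _ := by
    ext x
    exact Function.surjInv_eq hf x
  let S := e.hom.app N ≫ (constantSheaf J (Type u)).map σ ≫ e.inv.app M
  have hS : S ≫ (constantSheaf J (ModuleCat.{u} Λ) ⋙ sheafCompose J V).map f = 𝟙 _ := by
    have h1 := e.inv.naturality f
    simp only [S, Category.assoc]
    rw [← h1, Functor.comp_map, ← Functor.map_comp_assoc, hσ, CategoryTheory.Functor.map_id, Category.id_comp,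
      Iso.hom_inv_id_app]
  intro x
  have h2 := congrArg (fun g => g.hom.app (op U)) hS
  have h3 := ConcreteCategory.congr_hom h2 x
  exact ⟨(S.hom.app (op U)) x, h3⟩

instance : PreservesFiniteColimits (Fs J Λ U) := by
  have h03 := (Functor.preservesFiniteColimits_tfae (Fs J Λ U)).out 0 3
  refine h03.mp ?_
  intro S hS
  have h30 := (Functor.preservesFiniteLimits_tfae (Fs J Λ U)).out 3 0
  have h1 := h30.mp (inferInstance : PreservesFiniteLimits (Fs J Λ U)) S hS
  refine ⟨h1.1, ?_⟩
  haveI := hS.epi_g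
  exact (ModuleCat.epi_iff_surjective _).mpr (Fs_map_surjective J Λ U S.g
    ((ModuleCat.epi_iff_surjective _).mp inferInstance))

end Groth.Agent.Helper6.CSec1
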