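import Mathlib
import Groth.Agent.Helper6.CSec1

set_option backward.isDefEq.respectTransparency false
set_option backward.isDefEq.respectTransparency.types false

namespace Groth.Agent.Helper6.CSec2

open CategoryTheory Limits Opposite TensorProduct MonoidalCategory
open Groth.Agent.Helper6.CSec1

universe u

variable {C : Type u} [SmallCategory C] (J : GrothendieckTopology C) (Λ : Type u) [CommRing Λ] (U : C)
variable (M : ModuleCat.{u} Λ)

/-- `m ↦ m ⊗ q` as a morphism `M ⟶ M ⊗ Q` -/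
noncomputable abbrev tq (Q : ModuleCat.{u} Λ) (q : Q) : M ⟶ M ⊗ Q :=
  ModuleCat.ofHom ((TensorProduct.mk Λ M Q).flip q)

theorem tq_add (Q : ModuleCat.{u} Λ) (q q' : Q) : tq Λ M Q (q + q') = tq Λ M Q q + tq Λ M Q q' := by
  apply ModuleCat.hom_ext
  ext m
  simp

theorem tq_smul (Q : ModuleCat.{u} Λ) (a : Λ) (q : Q) :
    tq Λ M Q (a • q) = tq Λ M Q q ≫ (a • 𝟙 (M ⊗ Q)) := by
  apply ModuleCat.hom_ext
  ext m
  simp

theorem tq_comp {Q Q' : ModuleCat.{u} Λ} (g : Q ⟶ Q') (q : Q) :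
    tq Λ M Q q ≫ (M ◁ g) = tq Λ M Q' (g q) := by
  apply ModuleCat.hom_ext
  ext m
  exact ModuleCat.MonoidalCategory.whiskerLeft_apply M g m q

noncomputable def ψ (Q : ModuleCat.{u} Λ) :
    Q →ₗ[Λ] (((Fs J Λ U).obj M) →ₗ[Λ] ((Fs J Λ U).obj (M ⊗ Q))) where
  toFun q := ((Fs J Λ U).map (tq Λ M Q q)).hom
  map_add' q q' := by rw [tq_add, Functor.map_add]; rfl
  map_smul' a q := by
    rw [tq_smul, Functor.map_comp, Fs_map_smul_id, Linear.comp_smul, Category.comp_id]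
    rfl

theorem lift_ψ (Q : ModuleCat.{u} Λ) (s : (Fs J Λ U).obj M) (q : Q) :
    TensorProduct.lift (ψ J Λ U M Q).flip (s ⊗ₜ q) = ((Fs J Λ U).map (tq Λ M Q q)).hom s := by
  rw [TensorProduct.lift.tmul]; rfl

noncomputable def τ : tensorLeft ((Fs J Λ U).obj M) ⟶ tensorLeft M ⋙ Fs J Λ U where
  app Q := ModuleCat.ofHom (TensorProduct.lift (ψ J Λ U M Q).flip)
  naturality Q Q' g := by
    apply ModuleCat.hom_ext
    apply TensorProduct.ext'
    intro s q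
    have h := congrArg (fun k => ((Fs J Λ U).map k).hom s) (tq_comp Λ M g q)
    simp only [Functor.map_comp, ModuleCat.hom_comp, LinearMap.comp_apply] at h
    show TensorProduct.lift (ψ J Λ U M Q').flip ((((Fs J Λ U).obj M) ◁ g).hom (s ⊗ₜ q)) =
      ((Fs J Λ U).map (M ◁ g)).hom (TensorProduct.lift (ψ J Λ U M Q).flip (s ⊗ₜ q))
    rw [show (((Fs J Λ U).obj M) ◁ g).hom (s ⊗ₜ q) = s ⊗ₜ g q from rfl, lift_ψ, lift_ψ]
    exact h.symm

theorem τ_app_tmul (Q : ModuleCat.{u} Λ) (s : (Fs J Λ U).obj M) (q : Q) :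
    ((τ J Λ U M).app Q).hom (s ⊗ₜ q) = ((Fs J Λ U).map (tq Λ M Q q)).hom s :=
  lift_ψ J Λ U M Q s q

theorem τ_unit_comp : (τ J Λ U M).app (𝟙_ (ModuleCat.{u} Λ)) ≫ (Fs J Λ U).map (ρ_ M).hom =
    (ρ_ ((Fs J Λ U).obj M)).hom := by
  apply ModuleCat.hom_ext
  apply TensorProduct.ext'
  intro s a
  have h1 : tq Λ M (𝟙_ _) a ≫ (ρ_ M).hom = a • 𝟙 M := by
    apply ModuleCat.hom_ext
    ext m
    exact ModuleCat.MonoidalCategory.rightUnitor_hom_apply m a
  have h := congrArg (fun k => ((Fs J Λ U).map k).hom s) h1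
  simp only [Functor.map_comp, ModuleCat.hom_comp, LinearMap.comp_apply, Fs_map_smul_id] at h
  show ((Fs J Λ U).map (ρ_ M).hom).hom (TensorProduct.lift (ψ J Λ U M (𝟙_ _)).flip (s ⊗ₜ a)) =
    (ρ_ ((Fs J Λ U).obj M)).hom.hom (s ⊗ₜ a)
  rw [lift_ψ]
  exact h.trans (ModuleCat.MonoidalCategory.rightUnitor_hom_apply s a).symm

instance : IsIso ((τ J Λ U M).app (ModuleCat.of Λ Λ)) := by
  have h := τ_unit_comp J Λ U M
  have : (τ J Λ U M).app (𝟙_ _) = (ρ_ _).hom ≫ inv ((Fs J Λ U).map (ρ_ M).hom) := by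
    rw [← h, Category.assoc, IsIso.hom_inv_id, Category.comp_id]
  show IsIso ((τ J Λ U M).app (𝟙_ _))
  rw [this]; infer_instance

theorem isIso_τ (Q : ModuleCat.{u} Λ) [Module.FinitePresentation Λ Q] :
    IsIso ((τ J Λ U M).app Q) :=
  IsoGen.isIso_app_of_fp (τ J Λ U M) Q

theorem main (M Q : Type u) [AddCommGroup M] [Module Λ M] [AddCommGroup Q] [Module Λ Q]
    [Module.FinitePresentation Λ Q] :
    ∃ e : ModuleCat.of Λ (TensorProduct Λ (((constantSheaf J (ModuleCat.{u} Λ)).obj (ModuleCat.of Λ M)).obj.obj (op U)) Q) ≅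
        ((constantSheaf J (ModuleCat.{u} Λ)).obj (ModuleCat.of Λ (TensorProduct Λ M Q))).obj.obj (op U),
      ∀ (s : ((constantSheaf J (ModuleCat.{u} Λ)).obj (ModuleCat.of Λ M)).obj.obj (op U)) (q : Q),
        e.hom.hom (TensorProduct.tmul Λ s q) =
          (((constantSheaf J (ModuleCat.{u} Λ)).map (ModuleCat.ofHom ((TensorProduct.mk Λ M Q).flip q))).hom.app (op U)).hom s := by
  haveI : Module.FinitePresentation Λ (ModuleCat.of Λ Q) := ‹_›
  haveI := isIso_τ J Λ U (ModuleCat.of Λ M) (ModuleCat.of Λ Q)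
  exact ⟨asIso ((τ J Λ U (ModuleCat.of Λ M)).app (ModuleCat.of Λ Q)),
    fun s q => τ_app_tmul J Λ U (ModuleCat.of Λ M) (ModuleCat.of Λ Q) s q⟩

end Groth.Agent.Helper6.CSec2
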