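import Mathlib
import Groth.Agent.Helper6.CSec2

set_option backward.isDefEq.respectTransparency false
set_option backward.isDefEq.respectTransparency.types false

namespace Groth.Agent.Helper6.CSec3

open CategoryTheory Limits Opposite TensorProduct MonoidalCategory
open Groth.Agent.Helper6.CSec1 Groth.Agent.Helper6.CSec2

universe u

variable {C : Type u} [SmallCategory C] (J : GrothendieckTopology C) (Λ : Type u) [CommRing Λ] (U : C)

theorem flat_main (hΛ : ∀ I : Ideal Λ, I.FG → Module.FinitePresentation Λ I)
    (M : Type u) [AddCommGroup M] [Module Λ M] [Module.Flat Λ M] :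
    Module.Flat Λ (((constantSheaf J (ModuleCat.{u} Λ)).obj (ModuleCat.of Λ M)).obj.obj (op U)) := by
  rw [Module.Flat.iff_lTensor_injective]
  intro I hI
  haveI : Module.FinitePresentation Λ I := hΛ I hI
  let MM : ModuleCat.{u} Λ := ModuleCat.of Λ M
  let QI : ModuleCat.{u} Λ := ModuleCat.of Λ I
  let QΛ : ModuleCat.{u} Λ := ModuleCat.of Λ Λ
  let ι : QI ⟶ QΛ := ModuleCat.ofHom I.subtype
  haveI : Module.FinitePresentation Λ QI := ‹_›
  haveI := isIso_τ J Λ U MM QI
  have nat := (τ J Λ U MM).naturality ι
  have hinj : Function.Injective ((Fs J Λ U).map (MM ◁ ι)).hom := by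
    haveI : Mono (MM ◁ ι) := (ModuleCat.mono_iff_injective _).mpr (by
      show Function.Injective (LinearMap.lTensor M I.subtype)
      exact Module.Flat.lTensor_preserves_injective_linearMap _ Subtype.val_injective)
    haveI : Mono ((Fs J Λ U).map (MM ◁ ι)) := inferInstance
    exact (ModuleCat.mono_iff_injective _).mp inferInstance
  have hτ : Function.Injective ((τ J Λ U MM).app QI).hom :=
    ((ConcreteCategory.isIso_iff_bijective ((τ J Λ U MM).app QI)).mp inferInstance).1
  intro x y hxy
  have h1 := congrArg (fun k => k.hom x) nat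
  have h2 := congrArg (fun k => k.hom y) nat
  simp only [ModuleCat.hom_comp, LinearMap.comp_apply] at h1 h2
  apply hτ
  apply hinj
  refine h1.symm.trans (Eq.trans ?_ h2)
  exact congrArg _ hxy

end Groth.Agent.Helper6.CSec3
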