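import Mathlib
import Groth.Agent.Helper6.CanTop1

/-!
# Helper6: the canonical topology of a sheaf topos, part 2.

Sheaves for the canonical topology of `Sheaf J (Type u)` are the presheaves sending
small colimits to limits.
-/

set_option backward.isDefEq.respectTransparency false
set_option backward.isDefEq.respectTransparency.types false
set_option autoImplicit false

universe w v' u

open CategoryTheory CategoryTheory.Limits Opposite

namespace Groth.Agent.Helper6.CanTop

variable {C : Type u} [SmallCategory C] {J : GrothendieckTopology C}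

section Sep

variable (H : (Sheaf J (Type u))ᵒᵖ ⥤ Type w)
  (hH : Presieve.IsSheaf (Sheaf.canonicalTopology (Sheaf J (Type u))) H)

/-- the sieve generated by all sections -/
noncomputable def hatSieve (W : Sheaf J (Type u)) : Sieve W :=
  Sieve.ofArrows (C := Sheaf J (Type u)) (I := Σ U : C, W.obj.obj (op U))
    (fun p => r J p.1) (fun p => hat W p.2)

lemma LS_hatSieve (W : Sheaf J (Type u)) : LS (hatSieve W) := by
  intro U s
  refine J.superset_covering ?_ (J.top_mem U)
  intro V k _
  exact Sieve.ofArrows_mk (C := Sheaf J (Type u)) (I := Σ U : C, W.obj.obj (op U))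
    (fun p => r J p.1) (fun p => hat W p.2) ⟨V, W.obj.map k.op s⟩

include hH in
lemma sep_hat (W : Sheaf J (Type u)) (z z' : H.obj (op W))
    (h : ∀ (U : C) (t : W.obj.obj (op U)), H.map (hat W t).op z = H.map (hat W t).op z') :
    z = z' := by
  have hsep := (hH _ (mem_canonical_of_LS (LS_hatSieve W))).isSeparatedFor
  refine hsep.ext ?_
  rintro Y f ⟨Z, g, _, ⟨p⟩, rfl⟩
  rw [op_comp, Functor.map_comp_apply, Functor.map_comp_apply, h]

/-- the sieve on a sheafified representable generated by a covering sieve -/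
noncomputable def covSieve {U : C} (T : Sieve U) : Sieve (r J U) :=
  Sieve.ofArrows (C := Sheaf J (Type u)) (I := Σ V : C, {k : V ⟶ U // T k})
    (fun p => r J p.1) (fun p => rmap J p.2.1)

lemma LS_covSieve {U : C} (T : Sieve U) (hT : T ∈ J U) : LS (covSieve (J := J) T) := by
  apply LS_of_jointlyEpi
  intro Z a b hab
  have hsep := (((isSheaf_iff_isSheaf_of_type _ _).1 Z.property) T hT).isSeparatedFor
  have : el Z U a = el Z U b := by
    refine hsep.ext ?_
    intro V k hk
    rw [← el_rmap, ← el_rmap]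
    exact congrArg _ (hab _ (Sieve.ofArrows_mk (C := Sheaf J (Type u))
      (I := Σ V : C, {k : V ⟶ U // T k}) (fun p => r J p.1) (fun p => rmap J p.2.1) ⟨V, ⟨k, hk⟩⟩))
  exact (el Z U).injective this

include hH in
lemma sep_cover {U : C} (T : Sieve U) (hT : T ∈ J U) (z z' : H.obj (op (r J U)))
    (h : ∀ ⦃V : C⦄ (k : V ⟶ U), T k → H.map (rmap J k).op z = H.map (rmap J k).op z') :
    z = z' := by
  have hsep := (hH _ (mem_canonical_of_LS (LS_covSieve T hT))).isSeparatedFor
  refine hsep.ext ?_
  rintro Y f ⟨Z, g, _, ⟨p⟩, rfl⟩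
  rw [op_comp, Functor.map_comp_apply, Functor.map_comp_apply, h _ p.2.2]

end Sep

namespace Core

noncomputable section

variable (H : (Sheaf J (Type u))ᵒᵖ ⥤ Type w)
  {K : Type u} [SmallCategory K] (D : K ⥤ Sheaf J (Type u)) (x : ∀ k, H.obj (op (D.obj k)))

/-- the value of a section -/
def φ (U : Cᵒᵖ) (p : Σ k : K, (D.obj k).obj.obj U) : H.obj (op (r J U.unop)) :=
  H.map (hat (D.obj p.1) (U := U.unop) p.2).op (x p.1)

lemma φ_map {U V : Cᵒᵖ} (i : U ⟶ V) (p : Σ k : K, (D.obj k).obj.obj U) :
    φ H D x V ⟨p.1, (D.obj p.1).obj.map i p.2⟩ = H.map (rmap J i.unop).op (φ H D x U p) := by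
  unfold φ
  rw [← Functor.map_comp_apply, ← op_comp, rmap_hat]
  rfl

/-- the quotient presheaf -/
def Q₀ : Cᵒᵖ ⥤ Type u where
  obj U := Quot (fun p p' : Σ k : K, (D.obj k).obj.obj U => φ H D x U p = φ H D x U p')
  map {U V} i := ↾(Quot.map (fun p => ⟨p.1, (D.obj p.1).obj.map i p.2⟩) (by
    intro p p' h
    show φ H D x V _ = φ H D x V _
    rw [φ_map, φ_map, h]))
  map_id U := by
    ext q
    induction q using Quot.ind with
    | mk p =>
      show Quot.mk _ _ = Quot.mk _ _
      congr 1
      obtain ⟨k, d⟩ := p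
      simp
  map_comp {U V W} i i' := by
    ext q
    induction q using Quot.ind with
    | mk p =>
      show Quot.mk _ _ = Quot.mk _ _
      congr 1
      obtain ⟨k, d⟩ := p
      simp

/-- the value of a class -/
def φbar (U : Cᵒᵖ) : (Q₀ H D x).obj U → H.obj (op (r J U.unop)) :=
  Quot.lift (φ H D x U) (fun _ _ h => h)

/-- the class of a section -/
def q₀ (k : K) : (D.obj k).obj ⟶ Q₀ H D x where
  app U := ↾(fun d => Quot.mk _ ⟨k, d⟩)
  naturality U V i := by
    ext d
    rfl

variable (hx : ∀ {k k' : K} (u : k ⟶ k'), H.map (D.map u).op (x k') = x k)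

include hx in
lemma q₀_comp {k k' : K} (u : k ⟶ k') : (D.map u).hom ≫ q₀ H D x k' = q₀ H D x k := by
  ext U d
  apply Quot.sound
  show φ H D x U ⟨k', (D.map u).hom.app U d⟩ = φ H D x U ⟨k, d⟩
  unfold φ
  show H.map (hat (D.obj k') (U := U.unop) ((D.map u).hom.app U d)).op (x k') =
    H.map (hat (D.obj k) (U := U.unop) d).op (x k)
  have e : hat (D.obj k') (U := U.unop) ((D.map u).hom.app U d) =
      hat (D.obj k) (U := U.unop) d ≫ D.map u := (hat_comp _ _).symm
  rw [e, op_comp, Functor.map_comp_apply, hx]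

/-- the sheaf quotient -/
noncomputable def Q : Sheaf J (Type u) := (presheafToSheaf J (Type u)).obj (Q₀ H D x)

noncomputable def qt (k : K) : D.obj k ⟶ Q H D x := ⟨q₀ H D x k ≫ toSheafify J (Q₀ H D x)⟩

include hx in
lemma qt_comp {k k' : K} (u : k ⟶ k') : D.map u ≫ qt H D x k' = qt H D x k := by
  apply Sheaf.hom_ext
  show (D.map u).hom ≫ q₀ H D x k' ≫ toSheafify J (Q₀ H D x) = q₀ H D x k ≫ toSheafify J _
  rw [← Category.assoc, q₀_comp H D x hx]

/-- the cocone of quotient maps -/
noncomputable def coconeQ : Cocone D where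
  pt := Q H D x
  ι := { app := fun k => qt H D x k
         naturality := fun k k' u => by
          rw [qt_comp H D x hx u]
          exact (Category.comp_id _).symm }

variable (hH : Presieve.IsSheaf (Sheaf.canonicalTopology (Sheaf J (Type u))) H)

include hx hH in
theorem compatible (c : Cocone D) (hc : IsColimit c) :
    Presieve.Arrows.Compatible H (fun k => c.ι.app k) x := by
  intro k k' W w w' e
  have e2 : w ≫ qt H D x k = w' ≫ qt H D x k' := by
    have h1 := hc.fac (coconeQ H D x hx) k
    have h2 := hc.fac (coconeQ H D x hx) k'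
    have h1' : c.ι.app k ≫ hc.desc (coconeQ H D x hx) = qt H D x k := h1
    have h2' : c.ι.app k' ≫ hc.desc (coconeQ H D x hx) = qt H D x k' := h2
    rw [← h1', ← h2', ← Category.assoc, e, Category.assoc]
  apply sep_hat H hH W
  intro U t
  rw [← Functor.map_comp_apply, ← op_comp, ← Functor.map_comp_apply, ← op_comp, hat_comp, hat_comp]
  let a : (Q₀ H D x).obj (op U) := Quot.mk _ ⟨k, w.hom.app (op U) t⟩
  let b : (Q₀ H D x).obj (op U) := Quot.mk _ ⟨k', w'.hom.app (op U) t⟩
  have e3 : (toSheafify J (Q₀ H D x)).app (op U) a = (toSheafify J (Q₀ H D x)).app (op U) b :=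
    congrArg (fun q : W ⟶ Q H D x => q.hom.app (op U) t) e2
  have hT := Presheaf.equalizerSieve_mem J (toSheafify J (Q₀ H D x)) (X := op U) a b e3
  refine sep_cover H hH _ hT _ _ ?_
  intro V j hj
  have hj' : (Q₀ H D x).map j.op a = (Q₀ H D x).map j.op b := hj
  have h3 := congrArg (φbar H D x (op V)) hj'
  have h4 : φ H D x (op V) ⟨k, (D.obj k).obj.map j.op (w.hom.app (op U) t)⟩ =
      φ H D x (op V) ⟨k', (D.obj k').obj.map j.op (w'.hom.app (op U) t)⟩ := h3
  exact (φ_map H D x j.op ⟨k, _⟩).symm.trans (h4.trans (φ_map H D x j.op ⟨k', _⟩))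

include hx hH in
theorem existsUnique_of_isColimit (c : Cocone D) (hc : IsColimit c) :
    ∃! t : H.obj (op c.pt), ∀ k, H.map (c.ι.app k).op t = x k := by
  have hLS : LS (Sieve.ofArrows (fun k => D.obj k) (fun k => c.ι.app k)) := by
    apply LS_of_jointlyEpi
    intro Z a b hab
    exact hc.hom_ext (fun k => hab _ (Sieve.ofArrows_mk _ _ k))
  have h1 : Presieve.IsSheafFor H (Presieve.ofArrows (fun k => D.obj k) (fun k => c.ι.app k)) :=
    (Presieve.isSheafFor_iff_generate _).2 (hH _ (mem_canonical_of_LS hLS))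
  exact (Presieve.isSheafFor_arrows_iff _ _).1 h1 x (compatible H D x hx hH c hc)

end

end Core

section Main
open Groth.Agent.Helper6.CanTop.Core

variable (H : (Sheaf J (Type u))ᵒᵖ ⥤ Type w)

theorem preservesLimits_of_isSheaf
    (hH : Presieve.IsSheaf (Sheaf.canonicalTopology (Sheaf J (Type u))) H) :
    PreservesLimitsOfSize.{u, u} H := by
  constructor
  intro K' _
  constructor
  intro G
  have hK : HasColimitsOfShape K'ᵒᵖ (Sheaf J (Type u)) := Sheaf.instHasColimitsOfShape
  haveI : HasColimit G.leftOp := hK.has_colimit G.leftOp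
  have hc := colimit.isColimit G.leftOp
  apply preservesLimit_of_preserves_limit_cone (isLimitConeOfCoconeLeftOp G hc)
  refine Nonempty.some ?_
  rw [Types.isLimit_iff]
  intro s hs
  obtain ⟨t, ht, hu⟩ := existsUnique_of_isColimit H G.leftOp (fun k => s k.unop)
    (fun {k k'} u => hs u.unop) hH _ hc
  exact ⟨t, fun j => ht (op j), fun t' ht' => hu t' (fun k => ht' k.unop)⟩

theorem isSheaf_of_preservesLimits [PreservesLimitsOfSize.{u, u} H] :
    Presieve.IsSheaf (Sheaf.canonicalTopology (Sheaf J (Type u))) H := by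
  intro X S hS
  exact isSheafFor_of_LS H S (LS_of_mem_canonical hS)

theorem isSheaf_type_iff :
    Presieve.IsSheaf (Sheaf.canonicalTopology (Sheaf J (Type u))) H ↔
      PreservesLimitsOfSize.{u, u} H :=
  ⟨preservesLimits_of_isSheaf H, fun h => by haveI := h; exact isSheaf_of_preservesLimits H⟩

theorem isSheaf_iff {E' : Type v'} [Category.{w} E'] (F : (Sheaf J (Type u))ᵒᵖ ⥤ E') :
    Presheaf.IsSheaf (Sheaf.canonicalTopology (Sheaf J (Type u))) F ↔
      PreservesLimitsOfSize.{u, u} F := by
  constructor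
  · intro hF
    haveI : ∀ X : E', PreservesLimitsOfSize.{u, u} (F ⋙ coyoneda.obj (op X)) :=
      fun X => preservesLimits_of_isSheaf _ (hF X)
    constructor
    intro K' _
    constructor
    intro G
    constructor
    intro c hc
    refine ⟨coyonedaJointlyReflectsLimits _ _ (fun X => ?_)⟩
    exact isLimitOfPreserves (F ⋙ coyoneda.obj (op X.unop)) hc
  · intro hF X
    haveI := hF
    exact isSheaf_of_preservesLimits (F ⋙ coyoneda.obj (op X))

end Main

end Groth.Agent.Helper6.CanTop
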