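import Mathlib
import Groth.Agent.Helper6.CanTop2

/-!
# Helper6: the canonical topology of a sheaf topos, part 3: continuous functors between topoi.
-/

set_option backward.isDefEq.respectTransparency false
set_option backward.isDefEq.respectTransparency.types false
set_option autoImplicit false

universe u

open CategoryTheory CategoryTheory.Limits Opposite

namespace Groth.Agent.Helper6.CanTop

variable {C D : Type u} [SmallCategory C] [SmallCategory D]
  (J : GrothendieckTopology C) (K : GrothendieckTopology D)
  (f : Sheaf J (Type u) ⥤ Sheaf K (Type u))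

theorem isContinuous_of_preservesColimits [PreservesColimitsOfSize.{u, u} f] :
    f.IsContinuous (Sheaf.canonicalTopology (Sheaf J (Type u)))
      (Sheaf.canonicalTopology (Sheaf K (Type u))) := by
  constructor
  intro G
  haveI : PreservesLimitsOfSize.{u, u} G.obj :=
    preservesLimits_of_isSheaf G.obj ((isSheaf_iff_isSheaf_of_type _ _).1 G.property)
  haveI : PreservesLimitsOfSize.{u, u} f.op := preservesLimitsOfSize_op f
  exact isSheaf_of_preservesLimits (f.op ⋙ G.obj)

theorem preservesColimits_of_isContinuous
    [f.IsContinuous (Sheaf.canonicalTopology (Sheaf J (Type u)))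
      (Sheaf.canonicalTopology (Sheaf K (Type u)))] :
    PreservesColimitsOfSize.{u, u} f := by
  have key : ∀ Z : Sheaf K (Type u), PreservesLimitsOfSize.{u, u} (f.op ⋙ yoneda.obj Z) :=
    fun Z => preservesLimits_of_isSheaf _
      (f.op_comp_isSheaf_of_types (Sheaf.canonicalTopology (Sheaf J (Type u)))
        (Sheaf.canonicalTopology (Sheaf K (Type u)))
        ⟨yoneda.obj Z, (isSheaf_iff_isSheaf_of_type _ _).2 (Sheaf.isSheaf_yoneda_obj Z)⟩)
  constructor
  intro K' _
  constructor
  intro G
  constructor
  intro c hc
  refine ⟨(Cocone.isColimitYonedaEquiv (f.mapCocone c)).symm (fun Z => ?_)⟩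
  haveI := key Z
  exact isLimitOfPreserves (f.op ⋙ yoneda.obj Z) hc.op

theorem preservesColimits_iff_isContinuous :
    PreservesColimitsOfSize.{u, u} f ↔
      f.IsContinuous (Sheaf.canonicalTopology (Sheaf J (Type u)))
        (Sheaf.canonicalTopology (Sheaf K (Type u))) :=
  ⟨fun h => by haveI := h; exact isContinuous_of_preservesColimits J K f,
   fun h => by haveI := h; exact preservesColimits_of_isContinuous J K f⟩

end Groth.Agent.Helper6.CanTop
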