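import Mathlib
import Groth.Prelude.Def_SGA4a
import Groth.Agent.Helper6.CanTop3

/-!
# Helper6: the canonical topology of a sheaf topos, part 4: left exact functors preserving
epimorphic families are inverse image functors.
-/

set_option backward.isDefEq.respectTransparency false
set_option backward.isDefEq.respectTransparency.types false
set_option autoImplicit false

universe u

open CategoryTheory CategoryTheory.Limits Opposite

namespace Groth.Agent.Helper6.CanTop

variable {C D : Type u} [SmallCategory C] [SmallCategory D]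
  (J : GrothendieckTopology C) (K : GrothendieckTopology D)
  (f : Sheaf J (Type u) ⥤ Sheaf K (Type u))

/-- the sections lying in an `LS` sieve form an epimorphic family -/
theorem isEpiFamily_of_LS {X : Sheaf J (Type u)} (S : Sieve X) (hLS : LS S) :
    SGA4.IsEpiFamily (E := Sheaf J (Type u))
      (ι := Σ U : C, {s : X.obj.obj (op U) // S (hat X s)})
      (G := fun p => r J p.1) (fun p => hat X p.2.1) := by
  intro Z' a' b' h'
  apply hom_ext_hat
  intro U s
  rw [hat_comp, hat_comp]
  congr 1
  have hsep := (((isSheaf_iff_isSheaf_of_type _ _).1 Z'.property) _ (hLS U s)).isSeparatedFor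
  refine hsep.ext ?_
  intro V k hk
  have h1 := h' ⟨V, ⟨X.obj.map k.op s, hk⟩⟩
  have h1' : hat X (X.obj.map k.op s) ≫ a' = hat X (X.obj.map k.op s) ≫ b' := h1
  rw [hat_comp, hat_comp] at h1'
  have h2 := congrArg (el Z' V) h1'
  rw [el_hat, el_hat] at h2
  rw [← NatTrans.naturality_apply a'.hom k.op s, ← NatTrans.naturality_apply b'.hom k.op s]
  exact h2

theorem coverPreserving (hf : SGA4.PreservesEpiFamilies.{u + 1, u + 1, u} f) :
    CoverPreserving (Sheaf.canonicalTopology (Sheaf J (Type u)))
      (Sheaf.canonicalTopology (Sheaf K (Type u))) f := by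
  constructor
  intro X S hS
  have hLS := LS_of_mem_canonical hS
  apply mem_canonical_of_LS
  apply LS_of_jointlyEpi
  intro Z a b hab
  exact hf _ X _ _ (isEpiFamily_of_LS J S hLS) Z a b
    (fun p => hab _ (Sieve.image_mem_functorPushforward f S p.2.2))

theorem isLeftAdjoint_of_preservesColimits [PreservesColimitsOfSize.{u, u} f] :
    f.IsLeftAdjoint := by
  haveI : PreservesColimitsOfSize.{u, u} (presheafToSheaf J (Type u)) :=
    (sheafificationAdjunction J (Type u)).leftAdjoint_preservesColimits
  let L : (Cᵒᵖ ⥤ Type u) ⥤ Sheaf K (Type u) := presheafToSheaf J (Type u) ⋙ f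
  haveI : PreservesColimitsOfSize.{u, u} L := inferInstance
  haveI : L.IsLeftAdjoint := Presheaf.isLeftAdjoint_of_preservesColimits.{u} L
  let R' := L.rightAdjoint
  let adj : L ⊣ R' := Adjunction.ofIsLeftAdjoint L
  have hsh : ∀ Z, Presheaf.IsSheaf J (R'.obj Z) := by
    intro Z
    rw [isSheaf_iff_isSheaf_of_type]
    intro U S hS
    rw [Presieve.isSheafFor_iff_yonedaSheafCondition]
    intro g
    have hW : J.W S.functorInclusion := by
      intro F hF
      rw [Function.bijective_iff_existsUnique]
      exact (Presieve.isSheafFor_iff_yonedaSheafCondition).1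
        (((isSheaf_iff_isSheaf_of_type _ _).1 hF) S hS)
    haveI : IsIso ((presheafToSheaf J (Type u)).map S.functorInclusion) := (J.W_iff _).1 hW
    haveI : IsIso (L.map S.functorInclusion) := by
      show IsIso (f.map ((presheafToSheaf J (Type u)).map S.functorInclusion))
      infer_instance
    refine ⟨adj.homEquiv _ _ (inv (L.map S.functorInclusion) ≫ (adj.homEquiv _ _).symm g), ?_, ?_⟩
    · show S.functorInclusion ≫ _ = g
      rw [← adj.homEquiv_naturality_left, IsIso.hom_inv_id_assoc, Equiv.apply_symm_apply]
    · intro h' hh'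
      have hh'' : S.functorInclusion ≫ h' = g := hh'
      rw [← hh'', adj.homEquiv_naturality_left_symm, IsIso.inv_hom_id_assoc,
        Equiv.apply_symm_apply]
  let R : Sheaf K (Type u) ⥤ Sheaf J (Type u) :=
    { obj := fun Z => ⟨R'.obj Z, hsh Z⟩
      map := fun g => ⟨R'.map g⟩
      map_id := fun Z => Sheaf.hom_ext (R'.map_id Z)
      map_comp := fun g g' => Sheaf.hom_ext (R'.map_comp g g') }
  let comm1 : sheafToPresheaf J (Type u) ⋙ L ≅ f ⋙ 𝟭 _ :=
    (Functor.associator _ _ _).symm ≪≫
      Functor.isoWhiskerRight (asIso (sheafificationAdjunction J (Type u)).counit) f ≪≫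
      f.leftUnitor ≪≫ f.rightUnitor.symm
  let comm2 : 𝟭 _ ⋙ R' ≅ R ⋙ sheafToPresheaf J (Type u) :=
    NatIso.ofComponents (fun Z => Iso.refl _) (fun g => by
      simp only [Iso.refl_hom, Category.comp_id, Category.id_comp]
      rfl)
  exact ⟨R, ⟨adj.restrictFullyFaithful (fullyFaithfulSheafToPresheaf J (Type u))
    (Functor.FullyFaithful.id _) comm1 comm2⟩⟩

theorem main [PreservesFiniteLimits f] (hf : SGA4.PreservesEpiFamilies.{u + 1, u + 1, u} f) :
    f.IsLeftAdjoint ∧ PreservesColimitsOfSize.{u, u} f := by
  haveI : RepresentablyFlat f := flat_of_preservesFiniteLimits f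
  haveI : f.IsContinuous (Sheaf.canonicalTopology (Sheaf J (Type u)))
      (Sheaf.canonicalTopology (Sheaf K (Type u))) :=
    Functor.isContinuous_iff_coverPreserving.2 (coverPreserving J K f hf)
  haveI : PreservesColimitsOfSize.{u, u} f := preservesColimits_of_isContinuous J K f
  exact ⟨isLeftAdjoint_of_preservesColimits J K f, inferInstance⟩

end Groth.Agent.Helper6.CanTop
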