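import Mathlib
import Groth.Prelude.Def_DRing4
import Groth.Agent.Helper6.LD10

/-!
# `Ext^{-dim M}(M, ω) ≠ 0` for a normalized dualizing complex
-/

set_option autoImplicit false
set_option linter.style.haveILetI false
set_option linter.unusedSectionVars false

universe u
open CategoryTheory CategoryTheory.Limits Pretriangulated DerivedCategory TensorProduct
attribute [local instance] HasDerivedCategory.standard

namespace Groth.Agent.Helper6.LD
open Groth.Agent.Helper3.DRingLib Groth.Agent.Helper6.DK Groth.Agent.Helper6.LocExt IsLocalRing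

variable {A : Type u} [CommRing A] [IsNoetherianRing A]

section Local

variable [IsLocalRing A]

/-- a prime of maximal coheight in the support of a finite module, minimal in the support -/
lemma exists_prime_coheight_eq_supportDim (M : Type u) [AddCommGroup M] [Module A M]
    [Module.Finite A M] (d : ℕ) (hd : Module.supportDim A M = d) :
    ∃ p : PrimeSpectrum A, Module.annihilator A M ≤ p.asIdeal ∧ Order.coheight p = d ∧
      ∀ q : PrimeSpectrum A, Module.annihilator A M ≤ q.asIdeal → q ≤ p → q = p := by
  have hdim : Order.krullDim (PrimeSpectrum.zeroLocus (Module.annihilator A M : Set A)) = d := by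
    rw [← ringKrullDim_quotient, ← Module.supportDim_eq_ringKrullDim_quotient_annihilator, hd]
  obtain ⟨l, hl⟩ := Order.le_krullDim_iff.mp hdim.ge
  have hpI : Module.annihilator A M ≤ (l.head).1.asIdeal :=
    SetLike.coe_subset_coe.mp ((PrimeSpectrum.mem_zeroLocus _ _).mp l.head.2)
  have hco : Order.coheight (l.head).1 = d := by
    apply le_antisymm
    · have h1 := (coheight_le_supportDim M (l.head).1 hpI).trans hd.le
      exact_mod_cast h1
    · have h2 := Order.length_le_coheight_head (p := l.map Subtype.val (fun _ _ h => h))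
      rw [LTSeries.map_length, LTSeries.head_map, hl] at h2
      exact h2
  refine ⟨(l.head).1, hpI, hco, fun q hq hqp => ?_⟩
  by_contra hne
  have hlt : (⟨q, (PrimeSpectrum.mem_zeroLocus _ _).mpr (SetLike.coe_subset_coe.mpr hq)⟩ :
      PrimeSpectrum.zeroLocus (Module.annihilator A M : Set A)) < l.head := by
    show q < (l.head).1
    exact lt_of_le_of_ne hqp hne
  have h3 := Order.LTSeries.length_le_krullDim (l.cons _ hlt)
  rw [hdim, RelSeries.cons_length, hl] at h3
  have h4 : d + 1 ≤ d := by exact_mod_cast h3
  omega

/-- **`Ext^{-d}(M, ω) ≠ 0` for `d = dim Supp M`.** -/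
theorem nontrivial_ext_neg_supportDim (ω : Dual.D A) (hω : Dual.IsDualizing A ω)
    (hn : Dual.IsNormalized A ω) (M : Type u) [AddCommGroup M] [Module A M]
    [Module.Finite A M] [Nontrivial M] (d : ℕ) (hd : Module.supportDim A M = d) :
    Nontrivial (Dual.inD A M ⟶ ω⟦(-(d : ℤ))⟧) := by
  obtain ⟨p, hpI, hco, hmin⟩ := exists_prime_coheight_eq_supportDim M d hd
  obtain ⟨hd', hn'⟩ := localized_normalized ω hω hn p d hco
  haveI : IsNoetherianRing (Localization.AtPrime p.asIdeal) := hd'.isNoetherianRing
  -- the annihilator kills the localization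
  have hle : Ideal.map (algebraMap A (Localization.AtPrime p.asIdeal))
      (Module.annihilator A M) ≤
        Module.annihilator (Localization.AtPrime p.asIdeal)
          (Localization.AtPrime p.asIdeal ⊗[A] M) := by
    rw [Ideal.map_le_iff_le_comap]
    intro r hr
    rw [Ideal.mem_comap, Module.mem_annihilator]
    intro n
    rw [algebraMap_smul]
    induction n using TensorProduct.induction_on with
    | zero => exact smul_zero r
    | tmul b m =>
      rw [← TensorProduct.tmul_smul, Module.mem_annihilator.mp hr m, TensorProduct.tmul_zero]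
    | add x y hx hy => rw [smul_add, hx, hy, add_zero]
  have hkill : ∀ s ∈ Ideal.map (algebraMap A (Localization.AtPrime p.asIdeal))
      (Module.annihilator A M), ∀ n : Localization.AtPrime p.asIdeal ⊗[A] M, s • n = 0 :=
    fun s hs n => Module.mem_annihilator.mp (hle hs) n
  -- the extended annihilator is primary to the maximal ideal
  have hrad : maximalIdeal (Localization.AtPrime p.asIdeal) ≤
      (Ideal.map (algebraMap A (Localization.AtPrime p.asIdeal))
        (Module.annihilator A M)).radical := by
    rw [Ideal.radical_eq_sInf]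
    refine le_sInf ?_
    rintro P' ⟨hIP, hP'⟩
    haveI := hP'
    have hq1 : Module.annihilator A M ≤ P'.under A := Ideal.map_le_iff_le_comap.mp hIP
    have hq2 : P'.under A ≤ p.asIdeal :=
      (show P'.under A ≤ (maximalIdeal (Localization.AtPrime p.asIdeal)).under A from
        fun y hy => IsLocalRing.le_maximalIdeal hP'.ne_top hy).trans_eq
        Localization.AtPrime.under_maximalIdeal
    have hq3 : (⟨P'.under A, inferInstance⟩ : PrimeSpectrum A) = p :=
      hmin ⟨P'.under A, inferInstance⟩ hq1 ((PrimeSpectrum.asIdeal_le_asIdeal _ _).mp hq2)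
    have hq4 : P'.under A = p.asIdeal := congrArg PrimeSpectrum.asIdeal hq3
    refine le_of_eq ?_
    calc maximalIdeal (Localization.AtPrime p.asIdeal)
        = Ideal.map (algebraMap A (Localization.AtPrime p.asIdeal)) p.asIdeal :=
          Localization.AtPrime.map_eq_maximalIdeal.symm
      _ = Ideal.map (algebraMap A (Localization.AtPrime p.asIdeal)) (P'.under A) := by rw [hq4]
      _ = P' := IsLocalization.map_under p.asIdeal.primeCompl _ P'
  obtain ⟨k, hk⟩ := Ideal.exists_pow_le_of_le_radical_of_fg hrad (IsNoetherian.noetherian _)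
  have hfl : IsFiniteLength (Localization.AtPrime p.asIdeal)
      (Localization.AtPrime p.asIdeal ⊗[A] M) :=
    isFiniteLength_of_killed _ k hk _ hkill
  -- nontriviality of the localization
  have hpS : p ∈ Module.support A M := by
    rw [Module.support_eq_zeroLocus]
    exact (PrimeSpectrum.mem_zeroLocus _ _).mpr (SetLike.coe_subset_coe.mpr hpI)
  haveI : Nontrivial (LocalizedModule p.asIdeal.primeCompl M) := Module.mem_support_iff.mp hpS
  haveI : Nontrivial (Localization.AtPrime p.asIdeal ⊗[A] M) :=
    (IsLocalizedModule.isBaseChange p.asIdeal.primeCompl (Localization.AtPrime p.asIdeal)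
      (LocalizedModule.mkLinearMap p.asIdeal.primeCompl M)).equiv.toEquiv.nontrivial
  -- length computation
  obtain ⟨hκ⟩ := hom_residue_normalized _ hd' hn'
  have hlen := length_T _ (hn' (-1) (by omega)) (hn' 1 (by omega)) hκ
    (Localization.AtPrime p.asIdeal ⊗[A] M) hfl
  have hne : ¬ Subsingleton (Dual.inD (Localization.AtPrime p.asIdeal)
      (Localization.AtPrime p.asIdeal ⊗[A] M) ⟶
        ((bcD A (Localization.AtPrime p.asIdeal)).obj ω)⟦-(d : ℤ)⟧) := by
    intro hsub
    have h0 := (Module.length_eq_zero_iff (R := Localization.AtPrime p.asIdeal)).mpr hsub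
    rw [hlen] at h0
    exact not_subsingleton _ (Module.length_eq_zero_iff.mp h0)
  obtain ⟨a, b, hab⟩ := hω.finite_injective_dimension
  obtain ⟨hGE, _⟩ := bounds_of_hinj ω a b hab
  haveI := hGE
  rw [← not_subsingleton_iff_nontrivial]
  intro hsub
  apply hne
  refine (subsingleton_localized_ext_iff' p.asIdeal.primeCompl
    (Localization.AtPrime p.asIdeal) M ω a (-(d : ℤ))).mp ?_
  exact LocalizedModule.subsingleton_iff.mpr (fun m =>
    ⟨1, Submonoid.one_mem _, Subsingleton.elim _ _⟩)

end Local

end Groth.Agent.Helper6.LD
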