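import Mathlib
import Groth.Prelude.Def_DRing4
import Groth.Prelude.Def_CAlg
import Groth.Agent.Helper6.LD11
import Groth.Agent.Helper2.DepthRees
import Groth.Agent.Helper9.DepthKer
import Groth.Agent.Helper9.DepthS2

/-!
# Depth via `Ext` into a normalized dualizing complex
-/

set_option autoImplicit false
set_option linter.style.haveILetI false
set_option linter.unusedSectionVars false

universe u
open CategoryTheory CategoryTheory.Limits Pretriangulated DerivedCategory TensorProduct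
open scoped Pointwise
attribute [local instance] HasDerivedCategory.standard

namespace Groth.Agent.Helper6.LD
open Groth.Agent.Helper3.DRingLib Groth.Agent.Helper6.DK Groth.Agent.Helper6.LocExt IsLocalRing
open RingTheory.Sequence

variable {A : Type u} [CommRing A] [IsNoetherianRing A]

section RegStep

variable (ω : Dual.D A) (hω : Dual.IsDualizing A ω) (M : Type u) [AddCommGroup M] [Module A M]
  [Module.Finite A M] (x : A) (hx : IsSMulRegular M x)

include hx in
lemma reg_ses_inj : Function.Injective (x • LinearMap.id : M →ₗ[A] M) :=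
  fun _ _ h => hx h

lemma reg_ses_exact : Function.Exact (x • LinearMap.id : M →ₗ[A] M)
    (Submodule.mkQ (x • (⊤ : Submodule A M))) := by
  intro m
  rw [Submodule.mkQ_apply, Submodule.Quotient.mk_eq_zero,
    Submodule.mem_smul_pointwise_iff_exists]
  constructor
  · rintro ⟨n, _, hn⟩
    exact ⟨n, hn⟩
  · rintro ⟨n, hn⟩
    exact ⟨n, Submodule.mem_top, hn⟩

include hω hx in
/-- `Ext^{i+1}(M/xM, ω) = 0 ⇒ Ext^i(M, ω) = 0` -/
theorem ext_vanish_of_quot_succ [IsLocalRing A] (hxm : x ∈ maximalIdeal A) (i : ℤ)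
    (hV' : Subsingleton (Dual.inD A (QuotSMulTop x M) ⟶ ω⟦i + 1⟧)) :
    Subsingleton (Dual.inD A M ⟶ ω⟦i⟧) := by
  have hV : Subsingleton (Dual.inD A (QuotSMulTop x M) ⟶ (ω⟦i⟧)⟦(1 : ℤ)⟧) := by
    haveI := hV'
    exact (homShiftShiftEquiv _ ω i 1 (i + 1) rfl).toEquiv.subsingleton
  have hsurj := Tmap_surjective' (ω⟦i⟧) (x • LinearMap.id : M →ₗ[A] M)
    (Submodule.mkQ (x • (⊤ : Submodule A M))) (reg_ses_inj M x hx)
    (Submodule.mkQ_surjective _) (reg_ses_exact M x) hV
  haveI := finite_ext_dualizing ω hω M i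
  refine subsingleton_of_smul_surjective _ x hxm (fun v => ?_)
  obtain ⟨w, hw⟩ := hsurj v
  refine ⟨w, ?_⟩
  rw [← hw, Tmap_smul, Tmap_id]
  rfl

include hx in
/-- `Ext^i(M, ω) = Ext^{i+1}(M, ω) = 0 ⇒ Ext^{i+1}(M/xM, ω) = 0` -/
theorem ext_quot_vanish_of_two (i : ℤ) (h0 : Subsingleton (Dual.inD A M ⟶ ω⟦i⟧))
    (h1 : Subsingleton (Dual.inD A M ⟶ ω⟦i + 1⟧)) :
    Subsingleton (Dual.inD A (QuotSMulTop x M) ⟶ ω⟦i + 1⟧) := by
  have hV : Subsingleton (Dual.inD A M ⟶ (ω⟦i + 1⟧)⟦(-1 : ℤ)⟧) := by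
    haveI := h0
    exact (homShiftShiftEquiv (Dual.inD A M) ω (i + 1) (-1) i (by omega)).toEquiv.subsingleton
  have hinj := Tmap_injective' (ω⟦i + 1⟧) (x • LinearMap.id : M →ₗ[A] M)
    (Submodule.mkQ (x • (⊤ : Submodule A M))) (reg_ses_inj M x hx)
    (Submodule.mkQ_surjective _) (reg_ses_exact M x) hV
  haveI := h1
  exact hinj.subsingleton

end RegStep

section Local

variable [IsLocalRing A]

/-- if the maximal ideal contains no `M`-regular element then `Ext^0(M, ω) ≠ 0` -/
theorem not_subsingleton_ext_zero_of_no_regular (ω : Dual.D A) (hω : Dual.IsDualizing A ω)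
    (hn : Dual.IsNormalized A ω) (M : Type u) [AddCommGroup M] [Module A M]
    [Module.Finite A M] (hno : ∀ r ∈ maximalIdeal A, ¬ IsSMulRegular M r) :
    ¬ Subsingleton (Dual.inD A M ⟶ ω⟦(0 : ℤ)⟧) := by
  have hz : ∃ z : M, (∀ r ∈ maximalIdeal A, r • z = 0) ∧ z ≠ 0 := by
    by_contra hcon
    push_neg at hcon
    obtain ⟨y, hy, hreg⟩ := Groth.Agent.Helper9.DepthKer.exists_regular_of_socle
      (I := maximalIdeal A) M (fun z hz => hcon z hz)
    exact hno y hy hreg
  obtain ⟨z, hzk, hz0⟩ := hz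
  let i : (A ⧸ maximalIdeal A) →ₗ[A] M :=
    Submodule.liftQ (maximalIdeal A) (LinearMap.toSpanSingleton A M z) (fun r hr => by
      rw [LinearMap.mem_ker, LinearMap.toSpanSingleton_apply]
      exact hzk r hr)
  have hi_mk : ∀ a : A, i (Ideal.Quotient.mk _ a) = a • z := fun a => by
    show Submodule.liftQ _ _ _ (Submodule.Quotient.mk a) = _
    rw [Submodule.liftQ_apply, LinearMap.toSpanSingleton_apply]
  have hi : Function.Injective i := by
    refine (injective_iff_map_eq_zero i).mpr (fun y hy => ?_)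
    obtain ⟨a, rfl⟩ := Ideal.Quotient.mk_surjective y
    rw [hi_mk] at hy
    by_contra hne
    have ha : a ∉ maximalIdeal A := fun h => hne (Ideal.Quotient.eq_zero_iff_mem.mpr h)
    have hu : IsUnit a := by
      by_contra hnu
      exact ha ((IsLocalRing.mem_maximalIdeal a).mpr hnu)
    exact hz0 ((hu.smul_eq_zero).mp hy)
  have hV : Subsingleton (Dual.inD A (M ⧸ LinearMap.range i) ⟶ (ω⟦(0 : ℤ)⟧)⟦(1 : ℤ)⟧) := by
    haveI := ext_vanish_pos ω hω hn (M ⧸ LinearMap.range i) 1 (by omega)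
    exact (homShiftShiftEquiv _ ω 0 1 1 (by omega)).toEquiv.subsingleton
  have hsurj := Tmap_surjective' (ω⟦(0 : ℤ)⟧) i (LinearMap.range i).mkQ hi
    (Submodule.mkQ_surjective _) (LinearMap.exact_map_mkQ_range i) hV
  obtain ⟨n, h1, ⟨φ⟩⟩ := DK.main ω hω (maximalIdeal A)
  have hn0 : n = 0 := by
    by_contra hne
    haveI : Subsingleton (Dual.inD A (A ⧸ maximalIdeal A) ⟶ ω⟦n⟧) := hn n hne
    haveI : Subsingleton (ResidueField A) := φ.symm.toEquiv.subsingleton
    exact false_of_nontrivial_of_subsingleton (ResidueField A)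
  subst hn0
  intro hsub
  haveI := hsub
  haveI : Subsingleton (Dual.inD A (A ⧸ maximalIdeal A) ⟶ ω⟦(0 : ℤ)⟧) := hsurj.subsingleton
  haveI : Subsingleton (ResidueField A) := φ.symm.toEquiv.subsingleton
  exact false_of_nontrivial_of_subsingleton (ResidueField A)

/-- the top nonvanishing degree of `Ext^*(M, ω)` is minus the length of a maximal regular
sequence -/
theorem ext_of_maximal_regular (ω : Dual.D A) (hω : Dual.IsDualizing A ω)
    (hn : Dual.IsNormalized A ω) :
    ∀ (rs : List A) (M : Type u) [AddCommGroup M] [Module A M] [Module.Finite A M],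
      IsWeaklyRegular M rs → (∀ r ∈ rs, r ∈ maximalIdeal A) →
      (∀ r ∈ maximalIdeal A, ¬ IsWeaklyRegular M (rs ++ [r])) →
      (∀ i : ℤ, -(rs.length : ℤ) < i → Subsingleton (Dual.inD A M ⟶ ω⟦i⟧)) ∧
        ¬ Subsingleton (Dual.inD A M ⟶ ω⟦-(rs.length : ℤ)⟧) := by
  intro rs
  induction rs with
  | nil =>
    intro M _ _ _ _ _ hmax
    refine ⟨fun i hi => ext_vanish_pos ω hω hn M i (by simpa using hi), ?_⟩
    have hno : ∀ r ∈ maximalIdeal A, ¬ IsSMulRegular M r := fun r hr hreg =>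
      hmax r hr ((isWeaklyRegular_cons_iff M r []).mpr ⟨hreg, IsWeaklyRegular.nil A _⟩)
    have := not_subsingleton_ext_zero_of_no_regular ω hω hn M hno
    simpa using this
  | cons x rs' ih =>
    intro M _ _ _ hreg hmem hmax
    obtain ⟨hx, hreg'⟩ := (isWeaklyRegular_cons_iff M x rs').mp hreg
    have hxm : x ∈ maximalIdeal A := hmem x List.mem_cons_self
    have hmem' : ∀ r ∈ rs', r ∈ maximalIdeal A := fun r hr => hmem r (List.mem_cons_of_mem x hr)
    have hmax' : ∀ r ∈ maximalIdeal A, ¬ IsWeaklyRegular (QuotSMulTop x M) (rs' ++ [r]) :=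
      fun r hr h => hmax r hr (by
        rw [List.cons_append]
        exact (isWeaklyRegular_cons_iff M x (rs' ++ [r])).mpr ⟨hx, h⟩)
    obtain ⟨hW, hN⟩ := ih (QuotSMulTop x M) hreg' hmem' hmax'
    have hlen : ((x :: rs').length : ℤ) = (rs'.length : ℤ) + 1 := by
      rw [List.length_cons]
      push_cast
      rfl
    rw [hlen]
    have hfirst : ∀ i : ℤ, -((rs'.length : ℤ) + 1) < i →
        Subsingleton (Dual.inD A M ⟶ ω⟦i⟧) := fun i hi =>
      ext_vanish_of_quot_succ ω hω M x hx hxm i (hW (i + 1) (by omega))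
    refine ⟨hfirst, fun hsub => hN ?_⟩
    have h1 : Subsingleton (Dual.inD A M ⟶ ω⟦-((rs'.length : ℤ) + 1) + 1⟧) :=
      hfirst _ (by omega)
    have h2 := ext_quot_vanish_of_two ω M x hx (-((rs'.length : ℤ) + 1)) hsub h1
    have h3 : -((rs'.length : ℤ) + 1) + 1 = -(rs'.length : ℤ) := by ring
    rw [h3] at h2
    exact h2

/-- **Depth via `Ext` into a normalized dualizing complex.** -/
theorem depth_eq_iff_ext (ω : Dual.D A) (hω : Dual.IsDualizing A ω)
    (hn : Dual.IsNormalized A ω) (M : Type u) [AddCommGroup M] [Module A M]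
    [Module.Finite A M] [Nontrivial M] (n : ℕ) :
    LocCoh.depth A M = n ↔
      ((∀ δ : ℕ, δ < n → Subsingleton (Dual.inD A M ⟶ ω⟦(-(δ : ℤ))⟧)) ∧
        Nontrivial (Dual.inD A M ⟶ ω⟦(-(n : ℤ))⟧)) := by
  have hIM : maximalIdeal A • (⊤ : Submodule A M) ≠ ⊤ :=
    Groth.Agent.Helper9.DepthS2.max_smul_top_ne_top M
  obtain ⟨rs, _, hreg, hmem, hmax⟩ :=
    Groth.Agent.Helper2.DepthRees.exists_maximal_extension (maximalIdeal A) M hIM []
      (IsWeaklyRegular.nil A M) (by simp)
  have hlen : (rs.length : ℕ∞) = LocCoh.depth A M :=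
    Groth.Agent.Helper2.DepthRees.length_eq_idealDepth_of_maximal (maximalIdeal A) M hIM rs
      hreg hmem hmax
  obtain ⟨hW, hN⟩ := ext_of_maximal_regular ω hω hn rs M hreg hmem hmax
  constructor
  · intro h
    have hn' : rs.length = n := by
      rw [h] at hlen
      exact_mod_cast hlen
    subst hn'
    exact ⟨fun δ hδ => hW _ (by omega), not_subsingleton_iff_nontrivial.mp hN⟩
  · rintro ⟨h1, h2⟩
    have hrn : rs.length = n := by
      rcases lt_trichotomy rs.length n with h | h | h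
      · exact absurd (h1 rs.length h) hN
      · exact h
      · have h3 := hW (-(n : ℤ)) (by omega)
        exact absurd h2 (not_nontrivial_iff_subsingleton.mpr h3)
    rw [← hlen, hrn]

end Local

end Groth.Agent.Helper6.LD
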