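import Mathlib
import Groth.Prelude.Def_DRing4
import Groth.Prelude.Def_CAlg
import Groth.Agent.Helper6.LD12

/-!
# Depth of the ring and Cohen–Macaulayness via a normalized dualizing complex
-/

set_option autoImplicit false
set_option linter.style.haveILetI false
set_option linter.unusedSectionVars false

universe u
open CategoryTheory CategoryTheory.Limits Pretriangulated DerivedCategory TensorProduct
attribute [local instance] HasDerivedCategory.standard

namespace Groth.Agent.Helper6.LD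
open Groth.Agent.Helper3.DRingLib Groth.Agent.Helper6.DK Groth.Agent.Helper6.LocExt IsLocalRing

variable {A : Type u} [CommRing A] [IsNoetherianRing A] [IsLocalRing A]

/-- **Depth of the ring via the cohomology of a normalized dualizing complex.** -/
theorem depth_self_eq_iff (ω : Dual.D A) (hω : Dual.IsDualizing A ω)
    (hn : Dual.IsNormalized A ω) (n : ℕ) :
    LocCoh.depth A A = n ↔
      ((∀ δ : ℕ, δ < n → Subsingleton (Dual.HD A ω (-(δ : ℤ)))) ∧
        Nontrivial (Dual.HD A ω (-(n : ℤ)))) := by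
  rw [depth_eq_iff_ext ω hω hn A n]
  have e : ∀ i : ℤ, Nonempty (Dual.HD A ω i ≃ (Dual.inD A A ⟶ ω⟦i⟧)) := fun i => by
    obtain ⟨ψ⟩ := HD_equiv_hom_self ω hω i
    exact ⟨ψ.toEquiv⟩
  constructor
  · rintro ⟨h1, h2⟩
    refine ⟨fun δ hδ => ?_, ?_⟩
    · obtain ⟨ψ⟩ := e (-(δ : ℤ))
      haveI := h1 δ hδ
      exact ψ.subsingleton
    · obtain ⟨ψ⟩ := e (-(n : ℤ))
      haveI := h2
      exact ψ.nontrivial
  · rintro ⟨h1, h2⟩
    refine ⟨fun δ hδ => ?_, ?_⟩
    · obtain ⟨ψ⟩ := e (-(δ : ℤ))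
      haveI := h1 δ hδ
      exact ψ.symm.subsingleton
    · obtain ⟨ψ⟩ := e (-(n : ℤ))
      haveI := h2
      exact ψ.symm.nontrivial

/-- **Cohen–Macaulay modules via a single nonvanishing `Ext`.** -/
theorem cohenMacaulay_iff_ext_single (ω : Dual.D A) (hω : Dual.IsDualizing A ω)
    (hn : Dual.IsNormalized A ω) (M : Type u) [AddCommGroup M] [Module A M]
    [Module.Finite A M] [Nontrivial M] (d : ℕ) (hd : Module.supportDim A M = d) :
    LocCoh.IsCohenMacaulayModule A M ↔
      ∀ i : ℤ, i ≠ d → Subsingleton (Dual.inD A M ⟶ ω⟦(-i)⟧) := by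
  constructor
  · intro hCM i hi
    have hdep : LocCoh.depth A M = d := by
      have h1 : ((LocCoh.depth A M : ℕ∞) : WithBot ℕ∞) = ((d : ℕ∞) : WithBot ℕ∞) := by
        rw [← hCM, hd]
        rfl
      exact WithBot.coe_injective h1
    have h2 := ((depth_eq_iff_ext ω hω hn M d).mp hdep).1
    rcases lt_trichotomy i (d : ℤ) with h | h | h
    · by_cases h0 : 0 ≤ i
      · obtain ⟨δ, rfl⟩ := Int.eq_ofNat_of_zero_le h0
        exact h2 δ (by omega)
      · exact ext_vanish_pos ω hω hn M (-i) (by omega)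
    · exact absurd h hi
    · exact ext_vanish_neg ω hω hn M d hd.le (-i) (by omega)
  · intro h
    have h1 : ∀ δ : ℕ, δ < d → Subsingleton (Dual.inD A M ⟶ ω⟦(-(δ : ℤ))⟧) :=
      fun δ hδ => h δ (by omega)
    have h2 := nontrivial_ext_neg_supportDim ω hω hn M d hd
    have hdep : LocCoh.depth A M = d := (depth_eq_iff_ext ω hω hn M d).mpr ⟨h1, h2⟩
    show Module.supportDim A M = ((LocCoh.depth A M : ℕ∞) : WithBot ℕ∞)
    rw [hd, hdep]
    rfl

end Groth.Agent.Helper6.LD
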