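import Mathlib
import Groth.Prelude.Def_DRing4
import Groth.Prelude.Def_CAlg
import Groth.Agent.Helper6.LD13
import Groth.Agent.Helper9.ReflKer

/-!
# Supports of `Ext^{-j}(M, ω)` and local depths
-/

set_option autoImplicit false
set_option linter.style.haveILetI false
set_option linter.unusedSectionVars false

universe u
open CategoryTheory CategoryTheory.Limits Pretriangulated DerivedCategory TensorProduct
attribute [local instance] HasDerivedCategory.standard

namespace Groth.Agent.Helper6.LD
open Groth.Agent.Helper3.DRingLib Groth.Agent.Helper6.DK Groth.Agent.Helper6.LocExt IsLocalRing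
open RingTheory.Sequence

variable {A : Type u} [CommRing A] [IsNoetherianRing A]

lemma ringKrullDim_quotient_eq_coheight (p : PrimeSpectrum A) :
    ringKrullDim (A ⧸ p.asIdeal) = (Order.coheight p : WithBot ℕ∞) := by
  have h1 : ringKrullDim (A ⧸ p.asIdeal) = Order.krullDim (Set.Ici p) := by
    rw [ringKrullDim_quotient]
    have hset : PrimeSpectrum.zeroLocus (p.asIdeal : Set A) = Set.Ici p := by
      ext q
      rw [PrimeSpectrum.mem_zeroLocus, Set.mem_Ici, SetLike.coe_subset_coe,
        PrimeSpectrum.asIdeal_le_asIdeal]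
    rw [hset]
  rw [h1, Order.coheight_eq_krullDim_Ici]

variable [IsLocalRing A]

/-- **The support of `Ext^{-j}(M, ω)`, `j ≤ i`, in terms of local depths.** -/
theorem support_ext_iff_depth_add_dim (ω : Dual.D A) (hω : Dual.IsDualizing A ω)
    (hn : Dual.IsNormalized A ω) (M : Type u) [AddCommGroup M] [Module A M]
    [Module.Finite A M] (i : ℕ) (p : PrimeSpectrum A) :
    (∃ j : ℕ, j ≤ i ∧ p ∈ Module.support A (Dual.inD A M ⟶ ω⟦(-(j : ℤ))⟧)) ↔
      ((LocCoh.depth (Localization.AtPrime p.asIdeal)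
        (LocalizedModule p.asIdeal.primeCompl M) : ℕ∞) : WithBot ℕ∞) +
          ringKrullDim (A ⧸ p.asIdeal) ≤ (i : WithBot ℕ∞) := by
  have h3 : Order.coheight p ≠ ⊤ := (Order.coheight_lt_top p).ne
  obtain ⟨dp, hdp⟩ := ENat.ne_top_iff_exists.mp h3
  have hdim : ringKrullDim (A ⧸ p.asIdeal) = ((dp : ℕ∞) : WithBot ℕ∞) := by
    rw [ringKrullDim_quotient_eq_coheight, ← hdp]
  obtain ⟨hd', hn'⟩ := localized_normalized ω hω hn p dp hdp.symm
  haveI : IsNoetherianRing (Localization.AtPrime p.asIdeal) := hd'.isNoetherianRing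
  obtain ⟨a, b, hab⟩ := hω.finite_injective_dimension
  obtain ⟨hGE, _⟩ := bounds_of_hinj ω a b hab
  haveI := hGE
  have key : ∀ j : ℕ, p ∈ Module.support A (Dual.inD A M ⟶ ω⟦(-(j : ℤ))⟧) ↔
      ¬ Subsingleton (Dual.inD (Localization.AtPrime p.asIdeal)
        (Localization.AtPrime p.asIdeal ⊗[A] M) ⟶
          (((bcD A (Localization.AtPrime p.asIdeal)).obj ω)⟦-(dp : ℤ)⟧)⟦(dp : ℤ) - j⟧) := by
    intro j
    rw [Module.mem_support_iff, ← not_subsingleton_iff_nontrivial,
      subsingleton_localized_ext_iff' p.asIdeal.primeCompl (Localization.AtPrime p.asIdeal) M ω a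
        (-(j : ℤ))]
    exact not_congr (homShiftShiftEquiv (Dual.inD (Localization.AtPrime p.asIdeal)
      (Localization.AtPrime p.asIdeal ⊗[A] M)) ((bcD A (Localization.AtPrime p.asIdeal)).obj ω)
      (-(dp : ℤ)) ((dp : ℤ) - j) (-(j : ℤ)) (by omega)).toEquiv.subsingleton_congr.symm
  have hdepth : LocCoh.depth (Localization.AtPrime p.asIdeal)
      (LocalizedModule p.asIdeal.primeCompl M) =
        LocCoh.depth (Localization.AtPrime p.asIdeal) (Localization.AtPrime p.asIdeal ⊗[A] M) :=
    (Groth.Agent.Helper9.ReflKer.idealDepth_congr (maximalIdeal (Localization.AtPrime p.asIdeal))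
      (IsLocalizedModule.isBaseChange p.asIdeal.primeCompl (Localization.AtPrime p.asIdeal)
        (LocalizedModule.mkLinearMap p.asIdeal.primeCompl M)).equiv).symm
  rw [hdepth, hdim]
  by_cases hN : Subsingleton (Localization.AtPrime p.asIdeal ⊗[A] M)
  · haveI := hN
    rw [Groth.Agent.Helper9.DepthS2.depth_eq_top_of_subsingleton]
    constructor
    · rintro ⟨j, _, hj⟩
      exact absurd ⟨fun f g => (isZero_inD_of_subsingleton' _).eq_of_src f g⟩ ((key j).mp hj)
    · intro h
      exfalso
      have h1 : (((⊤ : ℕ∞) + (dp : ℕ∞) : ℕ∞) : WithBot ℕ∞) ≤ ((i : ℕ∞) : WithBot ℕ∞) := h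
      rw [top_add, WithBot.coe_le_coe, top_le_iff] at h1
      exact ENat.natCast_ne_top i h1
  · haveI : Nontrivial (Localization.AtPrime p.asIdeal ⊗[A] M) :=
      not_subsingleton_iff_nontrivial.mp hN
    have hIM : maximalIdeal (Localization.AtPrime p.asIdeal) •
        (⊤ : Submodule (Localization.AtPrime p.asIdeal)
          (Localization.AtPrime p.asIdeal ⊗[A] M)) ≠ ⊤ :=
      Groth.Agent.Helper9.DepthS2.max_smul_top_ne_top _
    obtain ⟨rs, _, hreg, hmem, hmax⟩ :=
      Groth.Agent.Helper2.DepthRees.exists_maximal_extension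
        (maximalIdeal (Localization.AtPrime p.asIdeal)) (Localization.AtPrime p.asIdeal ⊗[A] M)
        hIM [] (IsWeaklyRegular.nil _ _) (by simp)
    have hlen : (rs.length : ℕ∞) = LocCoh.depth (Localization.AtPrime p.asIdeal)
        (Localization.AtPrime p.asIdeal ⊗[A] M) :=
      Groth.Agent.Helper2.DepthRees.length_eq_idealDepth_of_maximal
        (maximalIdeal (Localization.AtPrime p.asIdeal)) _ hIM rs hreg hmem hmax
    obtain ⟨hW, hNN⟩ := ext_of_maximal_regular _ hd' hn' rs
      (Localization.AtPrime p.asIdeal ⊗[A] M) hreg hmem hmax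
    rw [← hlen]
    have hcast : ((((rs.length : ℕ) : ℕ∞) : WithBot ℕ∞) + ((dp : ℕ∞) : WithBot ℕ∞) ≤
        (i : WithBot ℕ∞)) ↔ rs.length + dp ≤ i := by
      norm_cast
    rw [hcast]
    constructor
    · rintro ⟨j, hji, hj⟩
      have h1 := (key j).mp hj
      by_contra hcon
      exact h1 (hW _ (by omega))
    · intro h
      refine ⟨rs.length + dp, h, (key _).mpr ?_⟩
      have h4 : (dp : ℤ) - ((rs.length + dp : ℕ) : ℤ) = -(rs.length : ℤ) := by
        push_cast
        ring
      rw [h4]
      exact hNN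

end Groth.Agent.Helper6.LD
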