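import Mathlib
import Groth.Prelude.Def_DRing4
import Groth.Prelude.Def_CAlg
import Groth.Agent.Helper6.LD14

/-!
# A ring with a dualizing module is Cohen–Macaulay
-/

set_option autoImplicit false
set_option linter.style.haveILetI false
set_option linter.unusedSectionVars false

universe u
open CategoryTheory CategoryTheory.Limits Pretriangulated DerivedCategory TensorProduct
attribute [local instance] HasDerivedCategory.standard

namespace Groth.Agent.Helper6.LD
open Groth.Agent.Helper3.DRingLib Groth.Agent.Helper6.DK Groth.Agent.Helper6.LocExt IsLocalRing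

variable {A : Type u} [CommRing A] [IsNoetherianRing A]

/-- a local ring with a dualizing module is Cohen–Macaulay -/
theorem isCohenMacaulayLocalRing_of_dualizing_module [IsLocalRing A] (W : Type u)
    [AddCommGroup W] [Module A W] [Module.Finite A W]
    (h : Dual.IsDualizing A (Dual.inD A W)) : LocCoh.IsCohenMacaulayLocalRing A := by
  haveI : Nontrivial W := by
    by_contra hW
    rw [not_nontrivial_iff_subsingleton] at hW
    haveI := hW
    have hz : IsZero (Dual.inD A W) := isZero_inD_of_subsingleton' W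
    have h1 : (fun a : A => a • 𝟙 (Dual.inD A W)) 1 = (fun a : A => a • 𝟙 (Dual.inD A W)) 0 :=
      hz.eq_of_src _ _
    exact one_ne_zero (h.toEnd_bijective.1 h1)
  obtain ⟨n₀, hn1, ⟨φ⟩⟩ := DK.main (Dual.inD A W) h (maximalIdeal A)
  have hω' := isDualizing_shift _ h n₀
  have hn' : Dual.IsNormalized A ((Dual.inD A W)⟦n₀⟧) := fun i hi => by
    haveI : Subsingleton (Dual.inD A (ResidueField A) ⟶ (Dual.inD A W)⟦n₀ + i⟧) :=
      hn1 (n₀ + i) (by omega)
    exact (homShiftShiftEquiv (Dual.inD A (ResidueField A)) _ n₀ i (n₀ + i)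
      rfl).toEquiv.subsingleton
  have hHD : ∀ i : ℤ, Nontrivial (Dual.HD A ((Dual.inD A W)⟦n₀⟧) i) ↔ n₀ + i = 0 := fun i => by
    have e1 : Dual.HD A ((Dual.inD A W)⟦n₀⟧) i ≃ₗ[A] Dual.HD A (Dual.inD A W) (n₀ + i) :=
      ((homologyShiftNatIso (A := A) n₀ i (n₀ + i) rfl).app (Dual.inD A W)).toLinearEquiv
    rw [e1.toEquiv.nontrivial_congr, nontrivial_HD_inD_iff]
  obtain ⟨d, hd⟩ : ∃ d : ℕ, Module.supportDim A A = d :=
    ⟨(LTSeries.longestOf (PrimeSpectrum A)).length, by
      rw [Module.supportDim_self_eq_ringKrullDim]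
      exact Order.krullDim_eq_length_of_finiteDimensionalOrder⟩
  have h2 := nontrivial_ext_neg_supportDim _ hω' hn' A d hd
  obtain ⟨ψ⟩ := HD_equiv_hom_self _ hω' (-(d : ℤ))
  haveI := h2
  have h3 : Nontrivial (Dual.HD A ((Dual.inD A W)⟦n₀⟧) (-(d : ℤ))) := ψ.toEquiv.nontrivial
  have hn₀ : n₀ = d := by
    have := (hHD _).mp h3
    omega
  have hdep : LocCoh.depth A A = d := by
    refine (depth_self_eq_iff _ hω' hn' d).mpr ⟨fun δ hδ => ?_, h3⟩
    rw [← not_nontrivial_iff_subsingleton, hHD]
    omega
  exact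
    { supportDim_eq_depth := by
        rw [hd, hdep]
        rfl }

/-- **A Noetherian ring with a dualizing module is Cohen–Macaulay.** -/
theorem isCohenMacaulayRing_of_dualizing_module (W : Type u) [AddCommGroup W] [Module A W]
    [Module.Finite A W] (h : Dual.IsDualizing A (Dual.inD A W)) :
    LocCoh.IsCohenMacaulayRing A :=
  { isCohenMacaulayLocalRing_localization := fun p _ => by
      have hB := isDualizing_bcD p.primeCompl (Localization.AtPrime p) (Dual.inD A W) h
      haveI : IsNoetherianRing (Localization.AtPrime p) := hB.isNoetherianRing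
      exact isCohenMacaulayLocalRing_of_dualizing_module (Localization.AtPrime p ⊗[A] W)
        (isDualizing_of_iso (bcDInD _ W) hB) }

end Groth.Agent.Helper6.LD
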