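import Mathlib
import Groth.Prelude.Def_DRing4
import Groth.Prelude.Def_CAlg
import Groth.Agent.Helper6.LD15

/-!
# Openness of Cohen–Macaulay loci in the presence of a dualizing complex
-/

set_option autoImplicit false
set_option linter.style.haveILetI false
set_option linter.unusedSectionVars false

universe u
open CategoryTheory CategoryTheory.Limits Pretriangulated DerivedCategory TensorProduct
attribute [local instance] HasDerivedCategory.standard

namespace Groth.Agent.Helper6.LD
open Groth.Agent.Helper3.DRingLib Groth.Agent.Helper6.DK Groth.Agent.Helper6.LocExt IsLocalRing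

variable {A : Type u} [CommRing A] [IsNoetherianRing A]

lemma exists_supportDim_eq_nat [IsLocalRing A] (N : Type u) [AddCommGroup N] [Module A N]
    [Nontrivial N] : ∃ d : ℕ, Module.supportDim A N = d := by
  have h1 : Module.supportDim A N ≠ ⊥ := Module.supportDim_ne_bot_of_nontrivial A N
  obtain ⟨x, hx⟩ := WithBot.ne_bot_iff_exists.mp h1
  have h2 : Module.supportDim A N ≤
      ((LTSeries.longestOf (PrimeSpectrum A)).length : WithBot ℕ∞) := by
    refine (Module.supportDim_le_ringKrullDim A N).trans (le_of_eq ?_)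
    exact Order.krullDim_eq_length_of_finiteDimensionalOrder
  rw [← hx] at h2
  have h3 : x ≤ ((LTSeries.longestOf (PrimeSpectrum A)).length : ℕ∞) := by exact_mod_cast h2
  have h4 : x ≠ ⊤ := ne_top_of_le_ne_top (ENat.natCast_ne_top _) h3
  obtain ⟨d, hd⟩ := ENat.ne_top_iff_exists.mp h4
  exact ⟨d, by rw [← hx, ← hd]; rfl⟩

lemma cm_congr {B : Type u} [CommRing B] [IsLocalRing B] {N N' : Type u} [AddCommGroup N]
    [Module B N] [AddCommGroup N'] [Module B N'] (e : N ≃ₗ[B] N') :
    LocCoh.IsCohenMacaulayModule B N ↔ LocCoh.IsCohenMacaulayModule B N' := by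
  unfold LocCoh.IsCohenMacaulayModule LocCoh.depth
  rw [Module.supportDim_eq_of_equiv e, Groth.Agent.Helper9.ReflKer.idealDepth_congr _ e]

/-- the localization of a finite module at a minimal prime of its support has finite length -/
lemma isFiniteLength_localization_of_minimal (M : Type u) [AddCommGroup M] [Module A M]
    [Module.Finite A M] (p : PrimeSpectrum A)
    (hmin : ∀ q : PrimeSpectrum A, Module.annihilator A M ≤ q.asIdeal → q ≤ p → q = p) :
    IsFiniteLength (Localization.AtPrime p.asIdeal) (Localization.AtPrime p.asIdeal ⊗[A] M) := by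
  haveI : IsNoetherianRing (Localization.AtPrime p.asIdeal) :=
    IsLocalization.isNoetherianRing p.asIdeal.primeCompl _ inferInstance
  have hle : Ideal.map (algebraMap A (Localization.AtPrime p.asIdeal))
      (Module.annihilator A M) ≤
        Module.annihilator (Localization.AtPrime p.asIdeal)
          (Localization.AtPrime p.asIdeal ⊗[A] M) := by
    rw [Ideal.map_le_iff_le_comap]
    intro r hr
    rw [Ideal.mem_comap, Module.mem_annihilator]
    intro n
    rw [algebraMap_smul]
    induction n using TensorProduct.induction_on with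
    | zero => exact smul_zero r
    | tmul b m =>
      rw [← TensorProduct.tmul_smul, Module.mem_annihilator.mp hr m, TensorProduct.tmul_zero]
    | add x y hx hy => rw [smul_add, hx, hy, add_zero]
  have hkill : ∀ s ∈ Ideal.map (algebraMap A (Localization.AtPrime p.asIdeal))
      (Module.annihilator A M), ∀ n : Localization.AtPrime p.asIdeal ⊗[A] M, s • n = 0 :=
    fun s hs n => Module.mem_annihilator.mp (hle hs) n
  have hrad : maximalIdeal (Localization.AtPrime p.asIdeal) ≤
      (Ideal.map (algebraMap A (Localization.AtPrime p.asIdeal))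
        (Module.annihilator A M)).radical := by
    rw [Ideal.radical_eq_sInf]
    refine le_sInf ?_
    rintro P' ⟨hIP, hP'⟩
    haveI := hP'
    have hq1 : Module.annihilator A M ≤ P'.under A := Ideal.map_le_iff_le_comap.mp hIP
    have hq2 : P'.under A ≤ p.asIdeal :=
      (show P'.under A ≤ (maximalIdeal (Localization.AtPrime p.asIdeal)).under A from
        fun y hy => IsLocalRing.le_maximalIdeal hP'.ne_top hy).trans_eq
        Localization.AtPrime.under_maximalIdeal
    have hq3 : (⟨P'.under A, inferInstance⟩ : PrimeSpectrum A) = p :=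
      hmin ⟨P'.under A, inferInstance⟩ hq1 ((PrimeSpectrum.asIdeal_le_asIdeal _ _).mp hq2)
    have hq4 : P'.under A = p.asIdeal := congrArg PrimeSpectrum.asIdeal hq3
    refine le_of_eq ?_
    calc maximalIdeal (Localization.AtPrime p.asIdeal)
        = Ideal.map (algebraMap A (Localization.AtPrime p.asIdeal)) p.asIdeal :=
          Localization.AtPrime.map_eq_maximalIdeal.symm
      _ = Ideal.map (algebraMap A (Localization.AtPrime p.asIdeal)) (P'.under A) := by rw [hq4]
      _ = P' := IsLocalization.map_under p.asIdeal.primeCompl _ P'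
  obtain ⟨k, hk⟩ := Ideal.exists_pow_le_of_le_radical_of_fg hrad (IsNoetherian.noetherian _)
  exact isFiniteLength_of_killed _ k hk _ hkill

section Prime

variable (ω : Dual.D A) (hω : Dual.IsDualizing A ω) (M : Type u) [AddCommGroup M] [Module A M]
  [Module.Finite A M] (p : PrimeSpectrum A)

/-- `B ⊗ M ≃ M_p` -/
noncomputable def eN : (Localization.AtPrime p.asIdeal ⊗[A] M) ≃ₗ[Localization.AtPrime p.asIdeal]
    LocalizedModule p.asIdeal.primeCompl M :=
  (IsLocalizedModule.isBaseChange p.asIdeal.primeCompl (Localization.AtPrime p.asIdeal)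
    (LocalizedModule.mkLinearMap p.asIdeal.primeCompl M)).equiv

include hω in
/-- a normalized dualizing complex over the localization, and the translation of supports -/
lemma exists_local_data :
    ∃ n₀ : ℤ, Dual.IsDualizing (Localization.AtPrime p.asIdeal)
        (((bcD A (Localization.AtPrime p.asIdeal)).obj ω)⟦n₀⟧) ∧
      Dual.IsNormalized (Localization.AtPrime p.asIdeal)
        (((bcD A (Localization.AtPrime p.asIdeal)).obj ω)⟦n₀⟧) ∧
      ∀ i : ℤ, p ∈ Module.support A (Dual.inD A M ⟶ ω⟦i⟧) ↔
        ¬ Subsingleton (Dual.inD (Localization.AtPrime p.asIdeal)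
          (Localization.AtPrime p.asIdeal ⊗[A] M) ⟶
            (((bcD A (Localization.AtPrime p.asIdeal)).obj ω)⟦n₀⟧)⟦i - n₀⟧) := by
  obtain ⟨a, b, hab⟩ := hω.finite_injective_dimension
  obtain ⟨hGE, _⟩ := bounds_of_hinj ω a b hab
  haveI := hGE
  have hωB := isDualizing_bcD p.asIdeal.primeCompl (Localization.AtPrime p.asIdeal) ω hω
  haveI : IsNoetherianRing (Localization.AtPrime p.asIdeal) := hωB.isNoetherianRing
  obtain ⟨n₀, hn1, _⟩ := DK.main _ hωB (maximalIdeal (Localization.AtPrime p.asIdeal))
  refine ⟨n₀, isDualizing_shift _ hωB n₀, fun i hi => ?_, fun i => ?_⟩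
  · haveI : Subsingleton (Dual.inD (Localization.AtPrime p.asIdeal)
        (ResidueField (Localization.AtPrime p.asIdeal)) ⟶
          ((bcD A (Localization.AtPrime p.asIdeal)).obj ω)⟦n₀ + i⟧) := hn1 (n₀ + i) (by omega)
    exact (homShiftShiftEquiv (Dual.inD (Localization.AtPrime p.asIdeal)
      (ResidueField (Localization.AtPrime p.asIdeal))) _ n₀ i (n₀ + i) rfl).toEquiv.subsingleton
  · rw [Module.mem_support_iff, ← not_subsingleton_iff_nontrivial,
      subsingleton_localized_ext_iff' p.asIdeal.primeCompl (Localization.AtPrime p.asIdeal) M ω a i]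
    exact not_congr (homShiftShiftEquiv (Dual.inD (Localization.AtPrime p.asIdeal)
      (Localization.AtPrime p.asIdeal ⊗[A] M)) ((bcD A (Localization.AtPrime p.asIdeal)).obj ω)
      n₀ (i - n₀) i (by omega)).toEquiv.subsingleton_congr.symm

include hω in
/-- `M_p` is Cohen–Macaulay iff at most one `Ext^i(M, ω)` is supported at `p` -/
theorem cm_iff_support_unique [Nontrivial (Localization.AtPrime p.asIdeal ⊗[A] M)] :
    LocCoh.IsCohenMacaulayModule (Localization.AtPrime p.asIdeal)
        (Localization.AtPrime p.asIdeal ⊗[A] M) ↔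
      ∀ i j : ℤ, p ∈ Module.support A (Dual.inD A M ⟶ ω⟦i⟧) →
        p ∈ Module.support A (Dual.inD A M ⟶ ω⟦j⟧) → i = j := by
  obtain ⟨n₀, hd', hn', key⟩ := exists_local_data ω hω M p
  haveI : IsNoetherianRing (Localization.AtPrime p.asIdeal) := hd'.isNoetherianRing
  obtain ⟨d, hd⟩ := exists_supportDim_eq_nat (A := Localization.AtPrime p.asIdeal)
    (Localization.AtPrime p.asIdeal ⊗[A] M)
  have hCM := cohenMacaulay_iff_ext_single _ hd' hn' (Localization.AtPrime p.asIdeal ⊗[A] M) d hd
  have hnz := nontrivial_ext_neg_supportDim _ hd' hn' (Localization.AtPrime p.asIdeal ⊗[A] M) d hd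
  rw [hCM]
  constructor
  · intro h i j hi hj
    have h1 := (key i).mp hi
    have h2 := (key j).mp hj
    have e1 : i - n₀ = -(d : ℤ) := by
      by_contra hne
      apply h1
      have := h (-(i - n₀)) (by omega)
      rwa [neg_neg] at this
    have e2 : j - n₀ = -(d : ℤ) := by
      by_contra hne
      apply h2
      have := h (-(j - n₀)) (by omega)
      rwa [neg_neg] at this
    omega
  · intro h k hk
    by_contra hns
    have h1 : p ∈ Module.support A (Dual.inD A M ⟶ ω⟦n₀ - k⟧) := (key _).mpr (by
      have : n₀ - k - n₀ = -k := by ring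
      rw [this]
      exact hns)
    have h2 : p ∈ Module.support A (Dual.inD A M ⟶ ω⟦n₀ - (d : ℤ)⟧) := (key _).mpr (by
      have : n₀ - (d : ℤ) - n₀ = -(d : ℤ) := by ring
      rw [this]
      exact not_subsingleton_iff_nontrivial.mpr hnz)
    have := h _ _ h1 h2
    omega

include hω in
/-- at a minimal prime of the support at most one `Ext^i(M, ω)` is supported -/
theorem support_unique_of_minimal
    (hmin : ∀ q : PrimeSpectrum A, Module.annihilator A M ≤ q.asIdeal → q ≤ p → q = p) :
    ∀ i j : ℤ, p ∈ Module.support A (Dual.inD A M ⟶ ω⟦i⟧) →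
      p ∈ Module.support A (Dual.inD A M ⟶ ω⟦j⟧) → i = j := by
  obtain ⟨n₀, hd', hn', key⟩ := exists_local_data ω hω M p
  haveI : IsNoetherianRing (Localization.AtPrime p.asIdeal) := hd'.isNoetherianRing
  have hfl := isFiniteLength_localization_of_minimal M p hmin
  have hvan : ∀ k : ℤ, k ≠ 0 → Subsingleton (Dual.inD (Localization.AtPrime p.asIdeal)
      (Localization.AtPrime p.asIdeal ⊗[A] M) ⟶
        (((bcD A (Localization.AtPrime p.asIdeal)).obj ω)⟦n₀⟧)⟦k⟧) := fun k hk =>
    vanish_of_finiteLength _ (hn' k hk) _ hfl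
  intro i j hi hj
  have h1 : i - n₀ = 0 := by
    by_contra hne
    exact (key i).mp hi (hvan _ hne)
  have h2 : j - n₀ = 0 := by
    by_contra hne
    exact (key j).mp hj (hvan _ hne)
  omega

end Prime

section Loci

variable (ω : Dual.D A) (hω : Dual.IsDualizing A ω) (M : Type u) [AddCommGroup M] [Module A M]
  [Module.Finite A M]

include hω in
lemma isOpen_support_unique :
    IsOpen {p : PrimeSpectrum A | ∀ i j : ℤ, p ∈ Module.support A (Dual.inD A M ⟶ ω⟦i⟧) →
      p ∈ Module.support A (Dual.inD A M ⟶ ω⟦j⟧) → i = j} := by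
  obtain ⟨a, b, hab⟩ := hω.finite_injective_dimension
  have hcl : IsClosed (⋃ i ∈ Finset.Icc a b, ⋃ j ∈ (Finset.Icc a b).erase i,
      (Module.support A (Dual.inD A M ⟶ ω⟦i⟧) ∩ Module.support A (Dual.inD A M ⟶ ω⟦j⟧))) :=
    isClosed_biUnion_finset (fun i _ => isClosed_biUnion_finset (fun j _ => by
      haveI := finite_ext_dualizing ω hω M i
      haveI := finite_ext_dualizing ω hω M j
      exact (Module.isClosed_support).inter (Module.isClosed_support)))
  have hrange : ∀ (p : PrimeSpectrum A) (i : ℤ),
      p ∈ Module.support A (Dual.inD A M ⟶ ω⟦i⟧) → i ∈ Finset.Icc a b := by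
    intro p i hi
    by_contra hne
    rw [Finset.mem_Icc] at hne
    haveI := hab M i (by omega)
    rw [Module.support_eq_empty] at hi
    exact hi
  have hcompl : {p : PrimeSpectrum A | ∀ i j : ℤ,
      p ∈ Module.support A (Dual.inD A M ⟶ ω⟦i⟧) →
      p ∈ Module.support A (Dual.inD A M ⟶ ω⟦j⟧) → i = j} =
      (⋃ i ∈ Finset.Icc a b, ⋃ j ∈ (Finset.Icc a b).erase i,
        (Module.support A (Dual.inD A M ⟶ ω⟦i⟧) ∩
          Module.support A (Dual.inD A M ⟶ ω⟦j⟧)))ᶜ := by
    ext p
    rw [Set.mem_ofPred_eq, Set.mem_compl_iff]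
    constructor
    · intro h hmem
      obtain ⟨i, _, hmem⟩ := Set.mem_iUnion₂.mp hmem
      obtain ⟨j, hj, h1, h2⟩ := Set.mem_iUnion₂.mp hmem
      exact (Finset.mem_erase.mp hj).1 (h i j h1 h2).symm
    · intro h i j hi hj
      by_contra hne
      apply h
      exact Set.mem_iUnion₂.mpr ⟨i, hrange p i hi, Set.mem_iUnion₂.mpr
        ⟨j, Finset.mem_erase.mpr ⟨fun e => hne e.symm, hrange p j hj⟩, hi, hj⟩⟩
  rw [hcompl]
  exact hcl.isOpen_compl

include hω in
/-- **The Cohen–Macaulay locus of a finite module is open and dense in the support.** -/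
theorem isOpen_cm_locus_module :
    IsOpen {p : PrimeSpectrum A | Subsingleton (LocalizedModule p.asIdeal.primeCompl M) ∨
      LocCoh.IsCohenMacaulayModule (Localization.AtPrime p.asIdeal)
        (LocalizedModule p.asIdeal.primeCompl M)} ∧
    Module.support A M ⊆ closure ({p : PrimeSpectrum A |
      LocCoh.IsCohenMacaulayModule (Localization.AtPrime p.asIdeal)
        (LocalizedModule p.asIdeal.primeCompl M)} ∩ Module.support A M) := by
  constructor
  · have hset : {p : PrimeSpectrum A | Subsingleton (LocalizedModule p.asIdeal.primeCompl M) ∨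
        LocCoh.IsCohenMacaulayModule (Localization.AtPrime p.asIdeal)
          (LocalizedModule p.asIdeal.primeCompl M)} =
        {p : PrimeSpectrum A | ∀ i j : ℤ, p ∈ Module.support A (Dual.inD A M ⟶ ω⟦i⟧) →
          p ∈ Module.support A (Dual.inD A M ⟶ ω⟦j⟧) → i = j} := by
      ext p
      rw [Set.mem_ofPred_eq, Set.mem_ofPred_eq]
      haveI : IsNoetherianRing (Localization.AtPrime p.asIdeal) :=
        IsLocalization.isNoetherianRing p.asIdeal.primeCompl _ inferInstance
      constructor
      · rintro (h | h)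
        · intro i j hi _
          exfalso
          haveI := h
          haveI : Subsingleton (Localization.AtPrime p.asIdeal ⊗[A] M) :=
            (eN M p).toEquiv.subsingleton
          obtain ⟨n₀, _, _, key⟩ := exists_local_data ω hω M p
          exact (key i).mp hi ⟨fun f g => (isZero_inD_of_subsingleton' _).eq_of_src f g⟩
        · have h' := (cm_congr (eN M p)).mpr h
          haveI : Nontrivial (Localization.AtPrime p.asIdeal ⊗[A] M) := by
            by_contra hN
            rw [not_nontrivial_iff_subsingleton] at hN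
            haveI := hN
            have h1 : Module.supportDim (Localization.AtPrime p.asIdeal)
                (Localization.AtPrime p.asIdeal ⊗[A] M) = ⊥ :=
              Module.supportDim_eq_bot_of_subsingleton _ _
            rw [LocCoh.IsCohenMacaulayModule, h1] at h'
            exact WithBot.bot_ne_coe h'
          exact (cm_iff_support_unique ω hω M p).mp h'
      · intro h
        by_cases hN : Subsingleton (LocalizedModule p.asIdeal.primeCompl M)
        · exact Or.inl hN
        · right
          haveI : Nontrivial (LocalizedModule p.asIdeal.primeCompl M) :=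
            not_subsingleton_iff_nontrivial.mp hN
          haveI : Nontrivial (Localization.AtPrime p.asIdeal ⊗[A] M) :=
            (eN M p).toEquiv.nontrivial
          exact (cm_congr (eN M p)).mp ((cm_iff_support_unique ω hω M p).mpr h)
    rw [hset]
    exact isOpen_support_unique ω hω M
  · intro p hp
    rw [Module.support_eq_zeroLocus] at hp
    have hpI : Module.annihilator A M ≤ p.asIdeal :=
      SetLike.coe_subset_coe.mp ((PrimeSpectrum.mem_zeroLocus _ _).mp hp)
    obtain ⟨q, hq, hqp⟩ := Ideal.exists_minimalPrimes_le hpI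
    obtain ⟨Q, rfl⟩ : ∃ Q : PrimeSpectrum A, Q.asIdeal = q := ⟨⟨q, hq.1.1⟩, rfl⟩
    have hQI : Module.annihilator A M ≤ Q.asIdeal := hq.1.2
    have hQS : Q ∈ Module.support A M := by
      rw [Module.support_eq_zeroLocus]
      exact (PrimeSpectrum.mem_zeroLocus _ _).mpr (SetLike.coe_subset_coe.mpr hQI)
    have hmin : ∀ q' : PrimeSpectrum A, Module.annihilator A M ≤ q'.asIdeal →
        q' ≤ Q → q' = Q := fun q' h1 h2 =>
      le_antisymm h2 (hq.2 ⟨q'.isPrime, h1⟩ h2)
    have huniq := support_unique_of_minimal ω hω M Q hmin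
    haveI : Nontrivial (LocalizedModule Q.asIdeal.primeCompl M) :=
      Module.mem_support_iff.mp hQS
    haveI : Nontrivial (Localization.AtPrime Q.asIdeal ⊗[A] M) :=
      (eN M Q).toEquiv.nontrivial
    have hCM : LocCoh.IsCohenMacaulayModule (Localization.AtPrime Q.asIdeal)
        (LocalizedModule Q.asIdeal.primeCompl M) :=
      (cm_congr (eN M Q)).mp ((cm_iff_support_unique ω hω M Q).mpr huniq)
    have hcl : p ∈ closure ({Q} : Set (PrimeSpectrum A)) :=
      (PrimeSpectrum.le_iff_mem_closure Q p).mp hqp
    have hsub : ({Q} : Set (PrimeSpectrum A)) ⊆ {p : PrimeSpectrum A |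
        LocCoh.IsCohenMacaulayModule (Localization.AtPrime p.asIdeal)
          (LocalizedModule p.asIdeal.primeCompl M)} ∩ Module.support A M :=
      Set.singleton_subset_iff.mpr ⟨hCM, hQS⟩
    exact closure_mono hsub hcl

end Loci

end Groth.Agent.Helper6.LD
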