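import Mathlib
import Groth.Prelude
import Groth.Agent.Helper2.DepthCM4
import Groth.Agent.Helper2.Caten
import Groth.Agent.Helper2.Isch

/-!
# `dim M_p + dim A/p ≤ dim M` and the codepth inequality under localization
-/

set_option autoImplicit false
universe u

namespace Groth.Agent.Helper6.SuppDimLoc

open IsLocalRing

variable (A : Type u) [CommRing A] (M : Type u) [AddCommGroup M] [Module A M]

theorem supportDim_localized_add_dim_quot_le (p : Ideal A) [hp : p.IsPrime]
    [hnt : Nontrivial (LocalizedModule p.primeCompl M)] :
    Module.supportDim (Localization.AtPrime p) (LocalizedModule p.primeCompl M) +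
      ringKrullDim (A ⧸ p) ≤ Module.supportDim A M := by
  have hpX : (⟨p, hp⟩ : PrimeSpectrum A) ∈ Module.support A M := Module.mem_support_iff.mpr hnt
  let P : Module.support A M := ⟨⟨p, hp⟩, hpX⟩
  have h1 : Module.supportDim (Localization.AtPrime p) (LocalizedModule p.primeCompl M) ≤
      ((Order.height P : ℕ∞) : WithBot ℕ∞) := by
    rw [Order.height_eq_krullDim_Iic]
    unfold Module.supportDim
    refine Order.krullDim_le_of_strictMono
      (fun q => (⟨⟨PrimeSpectrum.comap (algebraMap A (Localization.AtPrime p)) q.1,
        Groth.Agent.Helper2.DepthCM4.comap_mem_support p M q.1 q.2⟩, ?_⟩ : Set.Iic P)) ?_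
    · show q.1.asIdeal.comap (algebraMap A (Localization.AtPrime p)) ≤ p
      have h1 : q.1.asIdeal ≤ maximalIdeal (Localization.AtPrime p) :=
        le_maximalIdeal q.1.2.ne_top
      have h2 := Ideal.comap_mono (f := algebraMap A (Localization.AtPrime p)) h1
      have h3 : Ideal.comap (algebraMap A (Localization.AtPrime p))
          (maximalIdeal (Localization.AtPrime p)) = p :=
        IsLocalization.AtPrime.under_maximalIdeal (Localization.AtPrime p) p
      rwa [h3] at h2
    · intro a b hab
      have hab' : a.1.asIdeal < b.1.asIdeal := hab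
      show a.1.asIdeal.comap (algebraMap A (Localization.AtPrime p)) <
        b.1.asIdeal.comap (algebraMap A (Localization.AtPrime p))
      rw [lt_iff_le_not_ge] at hab' ⊢
      constructor
      · exact Ideal.comap_mono hab'.1
      · intro h
        exact hab'.2 ((IsLocalization.under_le_under_iff p.primeCompl
          (Localization.AtPrime p)).mp h)
  have h2 : ringKrullDim (A ⧸ p) ≤ ((Order.coheight P : ℕ∞) : WithBot ℕ∞) := by
    rw [Groth.Agent.Helper2.Caten.dimQuot_eq_coheight ⟨p, hp⟩, Order.coheight_eq_krullDim_Ici,
      Order.coheight_eq_krullDim_Ici]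
    exact Order.krullDim_le_of_strictMono
      (fun q => (⟨⟨q.1, Module.mem_support_mono q.2 hpX⟩, q.2⟩ : Set.Ici P)) (fun a b h => h)
  haveI : Nonempty (Module.support A M) := ⟨P⟩
  calc Module.supportDim (Localization.AtPrime p) (LocalizedModule p.primeCompl M) +
        ringKrullDim (A ⧸ p)
      ≤ ((Order.height P : ℕ∞) : WithBot ℕ∞) + ((Order.coheight P : ℕ∞) : WithBot ℕ∞) :=
        add_le_add h1 h2
    _ ≤ Module.supportDim A M := by
        unfold Module.supportDim
        rw [Order.krullDim_eq_iSup_height_add_coheight_of_nonempty, ← WithBot.coe_add,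
          WithBot.coe_le_coe]
        exact le_iSup (fun a : Module.support A M => Order.height a + Order.coheight a) P

theorem codepth_le [IsNoetherianRing A] [IsLocalRing A] [Module.Finite A M] (p : Ideal A)
    [p.IsPrime] [Nontrivial (LocalizedModule p.primeCompl M)] :
    Module.supportDim (Localization.AtPrime p) (LocalizedModule p.primeCompl M) +
        ((LocCoh.depth A M : ℕ∞) : WithBot ℕ∞) ≤
      Module.supportDim A M +
        ((LocCoh.depth (Localization.AtPrime p) (LocalizedModule p.primeCompl M) : ℕ∞) :
          WithBot ℕ∞) := by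
  have ha := Groth.Agent.Helper2.Isch.depth_le_depth_localization_add_dim M p
    (Localization.AtPrime p) (LocalizedModule p.primeCompl M)
    (LocalizedModule.mkLinearMap p.primeCompl M)
  have hb := supportDim_localized_add_dim_quot_le A M p
  calc Module.supportDim (Localization.AtPrime p) (LocalizedModule p.primeCompl M) +
        ((LocCoh.depth A M : ℕ∞) : WithBot ℕ∞)
      ≤ Module.supportDim (Localization.AtPrime p) (LocalizedModule p.primeCompl M) +
        (((LocCoh.depth (Localization.AtPrime p) (LocalizedModule p.primeCompl M) : ℕ∞) :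
          WithBot ℕ∞) + ringKrullDim (A ⧸ p)) := by gcongr
    _ = (Module.supportDim (Localization.AtPrime p) (LocalizedModule p.primeCompl M) +
          ringKrullDim (A ⧸ p)) +
        ((LocCoh.depth (Localization.AtPrime p) (LocalizedModule p.primeCompl M) : ℕ∞) :
          WithBot ℕ∞) := by
        rw [add_assoc, add_comm (ringKrullDim (A ⧸ p))]
    _ ≤ _ := by gcongr

end Groth.Agent.Helper6.SuppDimLoc
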