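import Mathlib
import Groth.Prelude.Def_DRing4
import Groth.Prelude.Def_CAlg
import Groth.Agent.Helper6.LD16

/-!
# The Cohen–Macaulay locus of a ring with a dualizing complex is open and dense
-/

set_option autoImplicit false
set_option linter.style.haveILetI false
set_option linter.unusedSectionVars false

universe u
open CategoryTheory CategoryTheory.Limits Pretriangulated DerivedCategory TensorProduct
attribute [local instance] HasDerivedCategory.standard

namespace Groth.Agent.Helper6.LD
open Groth.Agent.Helper3.DRingLib Groth.Agent.Helper6.DK Groth.Agent.Helper6.LocExt IsLocalRing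

variable {A : Type u} [CommRing A] [IsNoetherianRing A]

lemma cmLocalRing_iff_support_unique (ω : Dual.D A) (hω : Dual.IsDualizing A ω)
    (p : PrimeSpectrum A) :
    LocCoh.IsCohenMacaulayLocalRing (Localization.AtPrime p.asIdeal) ↔
      ∀ i j : ℤ, p ∈ Module.support A (Dual.inD A A ⟶ ω⟦i⟧) →
        p ∈ Module.support A (Dual.inD A A ⟶ ω⟦j⟧) → i = j := by
  haveI : IsNoetherianRing (Localization.AtPrime p.asIdeal) :=
    IsLocalization.isNoetherianRing p.asIdeal.primeCompl _ inferInstance
  haveI : Nontrivial (Localization.AtPrime p.asIdeal ⊗[A] A) :=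
    (TensorProduct.AlgebraTensorModule.rid A (Localization.AtPrime p.asIdeal)
      (Localization.AtPrime p.asIdeal)).toEquiv.nontrivial
  rw [← cm_iff_support_unique ω hω A p,
    cm_congr (TensorProduct.AlgebraTensorModule.rid A (Localization.AtPrime p.asIdeal)
      (Localization.AtPrime p.asIdeal))]
  exact ⟨fun h => h.supportDim_eq_depth, fun h => { supportDim_eq_depth := h }⟩

/-- **The Cohen–Macaulay locus of a Noetherian ring with a dualizing complex is open and
dense.** -/
theorem cm_locus_open_dense (ω : Dual.D A) (hω : Dual.IsDualizing A ω) :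
    IsOpen {p : PrimeSpectrum A |
        LocCoh.IsCohenMacaulayLocalRing (Localization.AtPrime p.asIdeal)} ∧
      Dense {p : PrimeSpectrum A |
        LocCoh.IsCohenMacaulayLocalRing (Localization.AtPrime p.asIdeal)} := by
  have hset : {p : PrimeSpectrum A |
      LocCoh.IsCohenMacaulayLocalRing (Localization.AtPrime p.asIdeal)} =
      {p : PrimeSpectrum A | ∀ i j : ℤ, p ∈ Module.support A (Dual.inD A A ⟶ ω⟦i⟧) →
        p ∈ Module.support A (Dual.inD A A ⟶ ω⟦j⟧) → i = j} := by
    ext p
    exact cmLocalRing_iff_support_unique ω hω p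
  rw [hset]
  refine ⟨isOpen_support_unique ω hω A, fun p => ?_⟩
  obtain ⟨q, hq, hqp⟩ := Ideal.exists_minimalPrimes_le (bot_le : (⊥ : Ideal A) ≤ p.asIdeal)
  obtain ⟨Q, rfl⟩ : ∃ Q : PrimeSpectrum A, Q.asIdeal = q := ⟨⟨q, hq.1.1⟩, rfl⟩
  have hmin : ∀ q' : PrimeSpectrum A, Module.annihilator A A ≤ q'.asIdeal →
      q' ≤ Q → q' = Q := fun q' _ h2 =>
    le_antisymm h2 (hq.2 ⟨q'.isPrime, bot_le⟩ h2)
  have huniq := support_unique_of_minimal ω hω A Q hmin
  have hcl : p ∈ closure ({Q} : Set (PrimeSpectrum A)) :=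
    (PrimeSpectrum.le_iff_mem_closure Q p).mp hqp
  have hsub : ({Q} : Set (PrimeSpectrum A)) ⊆ {p : PrimeSpectrum A | ∀ i j : ℤ,
      p ∈ Module.support A (Dual.inD A A ⟶ ω⟦i⟧) →
      p ∈ Module.support A (Dual.inD A A ⟶ ω⟦j⟧) → i = j} :=
    Set.singleton_subset_iff.mpr huniq
  exact closure_mono hsub hcl

end Groth.Agent.Helper6.LD
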