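import Mathlib
import Groth.Prelude.Def_DRing4
import Groth.Prelude.Def_CAlg
import Groth.Prelude.Def_EGA4b
import Groth.Agent.Helper6.LD17

/-!
# Serre's condition `(S_k)` and the supports of `Ext^j(M, ω)` (equidimensional case)
-/

set_option autoImplicit false
set_option linter.style.haveILetI false
set_option linter.unusedSectionVars false

universe u v
open CategoryTheory CategoryTheory.Limits Pretriangulated DerivedCategory TensorProduct
attribute [local instance] HasDerivedCategory.standard

namespace Groth.Agent.Helper6.QG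
open Groth.Agent.Helper3.DRingLib Groth.Agent.Helper6.DK Groth.Agent.Helper6.LocExt IsLocalRing
open Groth.Agent.Helper6.LD
open RingTheory.Sequence

variable {A : Type u} [CommRing A]

lemma nontrivial_of_mem_support {E : Type v} [AddCommGroup E] [Module A E]
    {p : PrimeSpectrum A} (hp : p ∈ Module.support A E) : Nontrivial E := by
  by_contra h
  rw [not_nontrivial_iff_subsingleton] at h
  have h1 : Module.support A E = ∅ := Module.support_eq_empty_iff.mpr h
  rw [h1] at hp
  exact (Set.mem_empty_iff_false p).mp hp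

lemma coheight_le_supportDim_of_mem {E : Type v} [AddCommGroup E] [Module A E]
    (p : PrimeSpectrum A) (hp : p ∈ Module.support A E) :
    (Order.coheight p : WithBot ℕ∞) ≤ Module.supportDim A E := by
  rw [Order.coheight_eq_krullDim_Ici]
  exact Order.krullDim_le_of_strictMono
    (fun c : Set.Ici p => (⟨c.1, Module.mem_support_mono c.2 hp⟩ : Module.support A E))
    (fun _ _ h => h)

variable [IsNoetherianRing A] [IsLocalRing A]

lemma mem_support_of_mem_support_ext (ω : Dual.D A) (hω : Dual.IsDualizing A ω)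
    (M : Type u) [AddCommGroup M] [Module A M] [Module.Finite A M] (j : ℤ)
    (p : PrimeSpectrum A) (hp : p ∈ Module.support A (Dual.inD A M ⟶ ω⟦j⟧)) :
    p ∈ Module.support A M := by
  obtain ⟨a, b, hab⟩ := hω.finite_injective_dimension
  obtain ⟨hGE, _⟩ := bounds_of_hinj ω a b hab
  haveI := hGE
  by_contra hpM
  rw [Module.mem_support_iff, not_nontrivial_iff_subsingleton] at hpM
  haveI := hpM
  haveI : Subsingleton (Localization.AtPrime p.asIdeal ⊗[A] M) :=
    (IsLocalizedModule.isBaseChange p.asIdeal.primeCompl (Localization.AtPrime p.asIdeal)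
      (LocalizedModule.mkLinearMap p.asIdeal.primeCompl M)).equiv.toEquiv.subsingleton
  rw [Module.mem_support_iff, ← not_subsingleton_iff_nontrivial,
    subsingleton_localized_ext_iff' p.asIdeal.primeCompl (Localization.AtPrime p.asIdeal) M ω a
      j] at hp
  exact hp ⟨fun f g => (isZero_inD_of_subsingleton' _).eq_of_src f g⟩

/-- **Range of degrees `j` with `p ∈ Supp Ext^j(M, ω)`**, in terms of the dimension and depth
of `M_p` and the coheight of `p`. -/
theorem loc_range (ω : Dual.D A) (hω : Dual.IsDualizing A ω) (hn : Dual.IsNormalized A ω)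
    (M : Type u) [AddCommGroup M] [Module A M] [Module.Finite A M] (p : PrimeSpectrum A)
    (hp : p ∈ Module.support A M) (dp : ℕ) (hdp : Order.coheight p = dp) :
    ∃ e t : ℕ,
      Module.supportDim (Localization.AtPrime p.asIdeal)
        (LocalizedModule p.asIdeal.primeCompl M) = e ∧
      LocCoh.depth (Localization.AtPrime p.asIdeal)
        (LocalizedModule p.asIdeal.primeCompl M) = t ∧
      t ≤ e ∧
      (∀ j : ℤ, p ∈ Module.support A (Dual.inD A M ⟶ ω⟦j⟧) →
        -((e : ℤ) + dp) ≤ j ∧ j ≤ -((t : ℤ) + dp)) ∧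
      p ∈ Module.support A (Dual.inD A M ⟶ ω⟦-((e : ℤ) + dp)⟧) ∧
      p ∈ Module.support A (Dual.inD A M ⟶ ω⟦-((t : ℤ) + dp)⟧) := by
  obtain ⟨hd', hn'⟩ := localized_normalized ω hω hn p dp hdp
  haveI : IsNoetherianRing (Localization.AtPrime p.asIdeal) := hd'.isNoetherianRing
  obtain ⟨a, b, hab⟩ := hω.finite_injective_dimension
  obtain ⟨hGE, _⟩ := bounds_of_hinj ω a b hab
  haveI := hGE
  have key : ∀ j : ℤ, p ∈ Module.support A (Dual.inD A M ⟶ ω⟦j⟧) ↔
      ¬ Subsingleton (Dual.inD (Localization.AtPrime p.asIdeal)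
        (Localization.AtPrime p.asIdeal ⊗[A] M) ⟶
          (((bcD A (Localization.AtPrime p.asIdeal)).obj ω)⟦-(dp : ℤ)⟧)⟦j + dp⟧) := by
    intro j
    rw [Module.mem_support_iff, ← not_subsingleton_iff_nontrivial,
      subsingleton_localized_ext_iff' p.asIdeal.primeCompl (Localization.AtPrime p.asIdeal) M ω a
        j]
    exact not_congr (homShiftShiftEquiv (Dual.inD (Localization.AtPrime p.asIdeal)
      (Localization.AtPrime p.asIdeal ⊗[A] M)) ((bcD A (Localization.AtPrime p.asIdeal)).obj ω)
      (-(dp : ℤ)) (j + dp) j (by omega)).toEquiv.subsingleton_congr.symm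
  haveI : Nontrivial (LocalizedModule p.asIdeal.primeCompl M) := Module.mem_support_iff.mp hp
  haveI : Nontrivial (Localization.AtPrime p.asIdeal ⊗[A] M) :=
    (IsLocalizedModule.isBaseChange p.asIdeal.primeCompl (Localization.AtPrime p.asIdeal)
      (LocalizedModule.mkLinearMap p.asIdeal.primeCompl M)).equiv.toEquiv.nontrivial
  have hdepth : LocCoh.depth (Localization.AtPrime p.asIdeal)
      (LocalizedModule p.asIdeal.primeCompl M) =
        LocCoh.depth (Localization.AtPrime p.asIdeal) (Localization.AtPrime p.asIdeal ⊗[A] M) :=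
    (Groth.Agent.Helper9.ReflKer.idealDepth_congr (maximalIdeal (Localization.AtPrime p.asIdeal))
      (IsLocalizedModule.isBaseChange p.asIdeal.primeCompl (Localization.AtPrime p.asIdeal)
        (LocalizedModule.mkLinearMap p.asIdeal.primeCompl M)).equiv).symm
  have hsd : Module.supportDim (Localization.AtPrime p.asIdeal)
      (LocalizedModule p.asIdeal.primeCompl M) =
        Module.supportDim (Localization.AtPrime p.asIdeal)
          (Localization.AtPrime p.asIdeal ⊗[A] M) :=
    (Module.supportDim_eq_of_equiv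
      (IsLocalizedModule.isBaseChange p.asIdeal.primeCompl (Localization.AtPrime p.asIdeal)
        (LocalizedModule.mkLinearMap p.asIdeal.primeCompl M)).equiv).symm
  obtain ⟨e, he⟩ := exists_supportDim_eq_nat (A := Localization.AtPrime p.asIdeal)
    (Localization.AtPrime p.asIdeal ⊗[A] M)
  have hIM : maximalIdeal (Localization.AtPrime p.asIdeal) •
      (⊤ : Submodule (Localization.AtPrime p.asIdeal)
        (Localization.AtPrime p.asIdeal ⊗[A] M)) ≠ ⊤ :=
    Groth.Agent.Helper9.DepthS2.max_smul_top_ne_top _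
  obtain ⟨rs, _, hreg, hmem, hmax⟩ :=
    Groth.Agent.Helper2.DepthRees.exists_maximal_extension
      (maximalIdeal (Localization.AtPrime p.asIdeal)) (Localization.AtPrime p.asIdeal ⊗[A] M)
      hIM [] (IsWeaklyRegular.nil _ _) (by simp)
  have hlen : (rs.length : ℕ∞) = LocCoh.depth (Localization.AtPrime p.asIdeal)
      (Localization.AtPrime p.asIdeal ⊗[A] M) :=
    Groth.Agent.Helper2.DepthRees.length_eq_idealDepth_of_maximal
      (maximalIdeal (Localization.AtPrime p.asIdeal)) _ hIM rs hreg hmem hmax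
  obtain ⟨hW, hNN⟩ := ext_of_maximal_regular _ hd' hn' rs
    (Localization.AtPrime p.asIdeal ⊗[A] M) hreg hmem hmax
  have hA : ∀ j : ℤ, p ∈ Module.support A (Dual.inD A M ⟶ ω⟦j⟧) →
      -((e : ℤ) + dp) ≤ j ∧ j ≤ -((rs.length : ℤ) + dp) := by
    intro j hj
    have h1 := (key j).mp hj
    constructor
    · by_contra hcon
      exact h1 (ext_vanish_neg _ hd' hn' (Localization.AtPrime p.asIdeal ⊗[A] M) e he.le
        (j + dp) (by omega))
    · by_contra hcon
      exact h1 (hW _ (by omega))
  have hB : p ∈ Module.support A (Dual.inD A M ⟶ ω⟦-((e : ℤ) + dp)⟧) := by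
    refine (key _).mpr ?_
    have h4 : -((e : ℤ) + dp) + dp = -(e : ℤ) := by ring
    rw [h4]
    exact not_subsingleton_iff_nontrivial.mpr
      (nontrivial_ext_neg_supportDim _ hd' hn' (Localization.AtPrime p.asIdeal ⊗[A] M) e he)
  have hC : p ∈ Module.support A (Dual.inD A M ⟶ ω⟦-((rs.length : ℤ) + dp)⟧) := by
    refine (key _).mpr ?_
    have h4 : -((rs.length : ℤ) + dp) + dp = -(rs.length : ℤ) := by ring
    rw [h4]
    exact hNN
  refine ⟨e, rs.length, hsd.trans he, hdepth.trans hlen.symm, ?_, hA, hB, hC⟩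
  have := (hA _ hC).1
  omega

/-- In the equidimensional case the dimension of `M_p` plus the coheight of `p` is `dim M`. -/
theorem loc_range_equidim (ω : Dual.D A) (hω : Dual.IsDualizing A ω)
    (hn : Dual.IsNormalized A ω)
    (M : Type u) [AddCommGroup M] [Module A M] [Module.Finite A M]
    (hM : EGA4.IsEquidimModule A M) (δ : ℕ) (hδ : Module.supportDim A M = δ)
    (p : PrimeSpectrum A)
    (hp : p ∈ Module.support A M) (dp : ℕ) (hdp : Order.coheight p = dp) :
    ∃ e t : ℕ,
      Module.supportDim (Localization.AtPrime p.asIdeal)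
        (LocalizedModule p.asIdeal.primeCompl M) = e ∧
      LocCoh.depth (Localization.AtPrime p.asIdeal)
        (LocalizedModule p.asIdeal.primeCompl M) = t ∧
      t ≤ e ∧ e + dp = δ ∧
      (∀ j : ℤ, p ∈ Module.support A (Dual.inD A M ⟶ ω⟦j⟧) →
        -(δ : ℤ) ≤ j ∧ j ≤ -((t : ℤ) + dp)) ∧
      p ∈ Module.support A (Dual.inD A M ⟶ ω⟦-((t : ℤ) + dp)⟧) := by
  obtain ⟨e, t, he, ht, hte, hA, hB, hC⟩ := loc_range ω hω hn M p hp dp hdp
  have hle : e + dp ≤ δ := by
    by_contra hcon
    haveI := ext_vanish_neg ω hω hn M δ hδ.le (-((e : ℤ) + dp)) (by omega)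
    exact absurd (nontrivial_of_mem_support hB) (not_nontrivial _)
  have hge : δ ≤ e + dp := by
    have hann : Module.annihilator A M ≤ p.asIdeal := Module.mem_support_iff_of_finite.mp hp
    obtain ⟨q, hq, hqp⟩ := Ideal.exists_minimalPrimes_le hann
    have hqdim := hM q hq
    haveI : q.IsPrime := hq.1.1
    obtain ⟨Q, rfl⟩ : ∃ Q : PrimeSpectrum A, Q.asIdeal = q := ⟨⟨q, inferInstance⟩, rfl⟩
    rw [ringKrullDim_quotient_eq_coheight, hδ] at hqdim
    have hQco : Order.coheight Q = (δ : ℕ∞) := by exact_mod_cast hqdim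
    have hQM : Q ∈ Module.support A M := Module.mem_support_iff_of_finite.mpr hq.1.2
    obtain ⟨e', t', _, _, _, _, hB', _⟩ := loc_range ω hω hn M Q hQM δ hQco
    have he0 : e' = 0 := by
      by_contra hcon
      haveI := ext_vanish_neg ω hω hn M δ hδ.le (-((e' : ℤ) + δ)) (by omega)
      exact absurd (nontrivial_of_mem_support hB') (not_nontrivial _)
    have h0 : -((e' : ℤ) + δ) = -(δ : ℤ) := by omega
    rw [h0] at hB'
    have hpδ : p ∈ Module.support A (Dual.inD A M ⟶ ω⟦-(δ : ℤ)⟧) :=
      Module.mem_support_mono ((PrimeSpectrum.asIdeal_le_asIdeal Q p).mp hqp) hB'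
    have := (hA _ hpδ).1
    omega
  have hed : e + dp = δ := le_antisymm hle hge
  refine ⟨e, t, he, ht, hte, hed, fun j hj => ?_, hC⟩
  obtain ⟨h1, h2⟩ := hA j hj
  exact ⟨by omega, h2⟩

/-- **`(S_k)` in terms of the supports of `Ext^j(M, ω)`, equidimensional case.** -/
theorem hasSk_iff (ω : Dual.D A) (hω : Dual.IsDualizing A ω) (hn : Dual.IsNormalized A ω)
    (M : Type u) [AddCommGroup M] [Module A M] [Module.Finite A M]
    (hM : EGA4.IsEquidimModule A M) (δ : ℕ) (hδ : Module.supportDim A M = δ) (k : ℕ) :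
    LocCoh.HasSk k A M ↔
      ∀ j : ℤ, j ≠ -(δ : ℤ) →
        (-j - (k : ℤ) < 0 → Subsingleton (Dual.inD A M ⟶ ω⟦j⟧)) ∧
        (0 ≤ -j - (k : ℤ) → Module.supportDim A (Dual.inD A M ⟶ ω⟦j⟧) ≤
          ((-j - (k : ℤ)).toNat : WithBot ℕ∞)) := by
  constructor
  · intro hS
    have claim : ∀ j : ℤ, j ≠ -(δ : ℤ) → ∀ p : PrimeSpectrum A,
        p ∈ Module.support A (Dual.inD A M ⟶ ω⟦j⟧) → ∀ dp : ℕ, Order.coheight p = dp →
          (dp : ℤ) ≤ -j - k := by
      intro j hj p hp dp hdp
      have hpM : p ∈ Module.support A M := mem_support_of_mem_support_ext ω hω M j p hp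
      obtain ⟨e, t, he, ht, hte, hed, hA, hC⟩ :=
        loc_range_equidim ω hω hn M hM δ hδ p hpM dp hdp
      obtain ⟨h1, h2⟩ := hA j hp
      have hS' := hS p.asIdeal
      rw [he, ht] at hS'
      rcases min_le_iff.mp hS' with h | h
      · have hkt : k ≤ t := by exact_mod_cast h
        omega
      · have het : e ≤ t := by exact_mod_cast h
        omega
    intro j hj
    constructor
    · intro hlt
      rw [← Module.support_eq_empty_iff (R := A), Set.eq_empty_iff_forall_notMem]
      intro p hp
      obtain ⟨dp, hdp⟩ := ENat.ne_top_iff_exists.mp (Order.coheight_lt_top p).ne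
      have := claim j hj p hp dp hdp.symm
      omega
    · intro hge
      unfold Module.supportDim Order.krullDim
      refine iSup_le (fun s => ?_)
      have hmem : (s.head).1 ∈ Module.support A (Dual.inD A M ⟶ ω⟦j⟧) := s.head.2
      have h3 : Order.coheight (s.head).1 ≠ ⊤ := (Order.coheight_lt_top _).ne
      obtain ⟨dp, hdp⟩ := ENat.ne_top_iff_exists.mp h3
      have h1 := claim j hj _ hmem dp hdp.symm
      have h2 : (s.length : ℕ∞) ≤ Order.coheight (s.head).1 := by
        have := Order.length_le_coheight_head (p := s.map Subtype.val (fun _ _ h => h))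
        rwa [LTSeries.map_length, LTSeries.head_map] at this
      rw [← hdp] at h2
      have h4 : s.length ≤ dp := by exact_mod_cast h2
      have h5 : s.length ≤ (-j - (k : ℤ)).toNat := by omega
      exact_mod_cast h5
  · intro hR q hq
    obtain ⟨P, rfl⟩ : ∃ P : PrimeSpectrum A, P.asIdeal = q := ⟨⟨q, hq⟩, rfl⟩
    by_cases hpM : P ∈ Module.support A M
    · obtain ⟨dp, hdp⟩ := ENat.ne_top_iff_exists.mp (Order.coheight_lt_top P).ne
      obtain ⟨e, t, he, ht, hte, hed, hA, hC⟩ :=
        loc_range_equidim ω hω hn M hM δ hδ P hpM dp hdp.symm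
      rw [he, ht]
      by_cases hcase : e ≤ t
      · exact min_le_iff.mpr (Or.inr (by exact_mod_cast hcase))
      · refine min_le_iff.mpr (Or.inl ?_)
        have hj : -((t : ℤ) + dp) ≠ -(δ : ℤ) := by omega
        obtain ⟨hR1, hR2⟩ := hR _ hj
        have hkt : k ≤ t := by
          by_contra hcon
          by_cases hneg : - -((t : ℤ) + dp) - (k : ℤ) < 0
          · haveI := hR1 hneg
            exact absurd (nontrivial_of_mem_support hC) (not_nontrivial _)
          · have h5 := (coheight_le_supportDim_of_mem P hC).trans (hR2 (by omega))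
            rw [← hdp] at h5
            have h6 : dp ≤ (- -((t : ℤ) + dp) - (k : ℤ)).toNat := by exact_mod_cast h5
            omega
        exact_mod_cast hkt
    · rw [Module.mem_support_iff, not_nontrivial_iff_subsingleton] at hpM
      haveI := hpM
      rw [Module.supportDim_eq_bot_of_subsingleton]
      simp

end Groth.Agent.Helper6.QG
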