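import Mathlib
import Groth.Prelude.Def_DRing4
import Groth.Prelude.Def_CAlg
import Groth.Prelude.Def_EGA4b
import Groth.Agent.Helper6.QG1

/-!
# Serre's condition `(S_k)` and the supports of `Ext^j(M, ω)` (general Noetherian ring)
-/

set_option autoImplicit false
set_option linter.style.haveILetI false
set_option linter.unusedSectionVars false

universe u v
open CategoryTheory CategoryTheory.Limits Pretriangulated DerivedCategory TensorProduct
attribute [local instance] HasDerivedCategory.standard

namespace Groth.Agent.Helper6.QG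
open Groth.Agent.Helper3.DRingLib Groth.Agent.Helper6.DK Groth.Agent.Helper6.LocExt IsLocalRing
open Groth.Agent.Helper6.LD
open RingTheory.Sequence

variable {A : Type u} [CommRing A] [IsNoetherianRing A]

lemma mem_support_of_mem_support_ext' (ω : Dual.D A) (hω : Dual.IsDualizing A ω)
    (M : Type u) [AddCommGroup M] [Module A M] [Module.Finite A M] (j : ℤ)
    (p : PrimeSpectrum A) (hp : p ∈ Module.support A (Dual.inD A M ⟶ ω⟦j⟧)) :
    p ∈ Module.support A M := by
  obtain ⟨a, b, hab⟩ := hω.finite_injective_dimension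
  obtain ⟨hGE, _⟩ := bounds_of_hinj ω a b hab
  haveI := hGE
  by_contra hpM
  rw [Module.mem_support_iff, not_nontrivial_iff_subsingleton] at hpM
  haveI := hpM
  haveI : Subsingleton (Localization.AtPrime p.asIdeal ⊗[A] M) :=
    (IsLocalizedModule.isBaseChange p.asIdeal.primeCompl (Localization.AtPrime p.asIdeal)
      (LocalizedModule.mkLinearMap p.asIdeal.primeCompl M)).equiv.toEquiv.subsingleton
  rw [Module.mem_support_iff, ← not_subsingleton_iff_nontrivial,
    subsingleton_localized_ext_iff' p.asIdeal.primeCompl (Localization.AtPrime p.asIdeal) M ω a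
      j] at hp
  exact hp ⟨fun f g => (isZero_inD_of_subsingleton' _).eq_of_src f g⟩

/-- **Range of degrees `j` with `p ∈ Supp Ext^j(M, ω)`**, over a Noetherian ring with a
dualizing complex: it is contained in `[s - dim M_p, s - depth M_p]` and contains both ends. -/
theorem loc_range' (ω : Dual.D A) (hω : Dual.IsDualizing A ω)
    (M : Type u) [AddCommGroup M] [Module A M] [Module.Finite A M] (p : PrimeSpectrum A)
    (hp : p ∈ Module.support A M) :
    ∃ (s : ℤ) (e t : ℕ),
      Module.supportDim (Localization.AtPrime p.asIdeal)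
        (LocalizedModule p.asIdeal.primeCompl M) = e ∧
      LocCoh.depth (Localization.AtPrime p.asIdeal)
        (LocalizedModule p.asIdeal.primeCompl M) = t ∧
      t ≤ e ∧
      (∀ j : ℤ, p ∈ Module.support A (Dual.inD A M ⟶ ω⟦j⟧) →
        s - (e : ℤ) ≤ j ∧ j ≤ s - (t : ℤ)) ∧
      p ∈ Module.support A (Dual.inD A M ⟶ ω⟦s - (e : ℤ)⟧) ∧
      p ∈ Module.support A (Dual.inD A M ⟶ ω⟦s - (t : ℤ)⟧) := by
  obtain ⟨n₀, hd', hn', key⟩ := exists_local_data ω hω M p
  haveI : IsNoetherianRing (Localization.AtPrime p.asIdeal) := hd'.isNoetherianRing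
  haveI : Nontrivial (LocalizedModule p.asIdeal.primeCompl M) := Module.mem_support_iff.mp hp
  haveI : Nontrivial (Localization.AtPrime p.asIdeal ⊗[A] M) :=
    (IsLocalizedModule.isBaseChange p.asIdeal.primeCompl (Localization.AtPrime p.asIdeal)
      (LocalizedModule.mkLinearMap p.asIdeal.primeCompl M)).equiv.toEquiv.nontrivial
  have hdepth : LocCoh.depth (Localization.AtPrime p.asIdeal)
      (LocalizedModule p.asIdeal.primeCompl M) =
        LocCoh.depth (Localization.AtPrime p.asIdeal) (Localization.AtPrime p.asIdeal ⊗[A] M) :=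
    (Groth.Agent.Helper9.ReflKer.idealDepth_congr (maximalIdeal (Localization.AtPrime p.asIdeal))
      (IsLocalizedModule.isBaseChange p.asIdeal.primeCompl (Localization.AtPrime p.asIdeal)
        (LocalizedModule.mkLinearMap p.asIdeal.primeCompl M)).equiv).symm
  have hsd : Module.supportDim (Localization.AtPrime p.asIdeal)
      (LocalizedModule p.asIdeal.primeCompl M) =
        Module.supportDim (Localization.AtPrime p.asIdeal)
          (Localization.AtPrime p.asIdeal ⊗[A] M) :=
    (Module.supportDim_eq_of_equiv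
      (IsLocalizedModule.isBaseChange p.asIdeal.primeCompl (Localization.AtPrime p.asIdeal)
        (LocalizedModule.mkLinearMap p.asIdeal.primeCompl M)).equiv).symm
  obtain ⟨e, he⟩ := exists_supportDim_eq_nat (A := Localization.AtPrime p.asIdeal)
    (Localization.AtPrime p.asIdeal ⊗[A] M)
  have hIM : maximalIdeal (Localization.AtPrime p.asIdeal) •
      (⊤ : Submodule (Localization.AtPrime p.asIdeal)
        (Localization.AtPrime p.asIdeal ⊗[A] M)) ≠ ⊤ :=
    Groth.Agent.Helper9.DepthS2.max_smul_top_ne_top _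
  obtain ⟨rs, _, hreg, hmem, hmax⟩ :=
    Groth.Agent.Helper2.DepthRees.exists_maximal_extension
      (maximalIdeal (Localization.AtPrime p.asIdeal)) (Localization.AtPrime p.asIdeal ⊗[A] M)
      hIM [] (IsWeaklyRegular.nil _ _) (by simp)
  have hlen : (rs.length : ℕ∞) = LocCoh.depth (Localization.AtPrime p.asIdeal)
      (Localization.AtPrime p.asIdeal ⊗[A] M) :=
    Groth.Agent.Helper2.DepthRees.length_eq_idealDepth_of_maximal
      (maximalIdeal (Localization.AtPrime p.asIdeal)) _ hIM rs hreg hmem hmax
  obtain ⟨hW, hNN⟩ := ext_of_maximal_regular _ hd' hn' rs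
    (Localization.AtPrime p.asIdeal ⊗[A] M) hreg hmem hmax
  have hA : ∀ j : ℤ, p ∈ Module.support A (Dual.inD A M ⟶ ω⟦j⟧) →
      n₀ - (e : ℤ) ≤ j ∧ j ≤ n₀ - (rs.length : ℤ) := by
    intro j hj
    have h1 := (key j).mp hj
    constructor
    · by_contra hcon
      exact h1 (ext_vanish_neg _ hd' hn' (Localization.AtPrime p.asIdeal ⊗[A] M) e he.le
        (j - n₀) (by omega))
    · by_contra hcon
      exact h1 (hW _ (by omega))
  have hB : p ∈ Module.support A (Dual.inD A M ⟶ ω⟦n₀ - (e : ℤ)⟧) := by
    refine (key _).mpr ?_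
    have h4 : n₀ - (e : ℤ) - n₀ = -(e : ℤ) := by ring
    rw [h4]
    exact not_subsingleton_iff_nontrivial.mpr
      (nontrivial_ext_neg_supportDim _ hd' hn' (Localization.AtPrime p.asIdeal ⊗[A] M) e he)
  have hC : p ∈ Module.support A (Dual.inD A M ⟶ ω⟦n₀ - (rs.length : ℤ)⟧) := by
    refine (key _).mpr ?_
    have h4 : n₀ - (rs.length : ℤ) - n₀ = -(rs.length : ℤ) := by ring
    rw [h4]
    exact hNN
  refine ⟨n₀, e, rs.length, hsd.trans he, hdepth.trans hlen.symm, ?_, hA, hB, hC⟩
  have := (hA _ hC).1
  omega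

/-- **`(S_k)` in terms of the supports of `Ext^j(M, ω)`.** -/
theorem hasSk_iff' (ω : Dual.D A) (hω : Dual.IsDualizing A ω)
    (M : Type u) [AddCommGroup M] [Module A M] [Module.Finite A M] (k : ℕ) :
    LocCoh.HasSk k A M ↔
      ∀ (i j : ℤ), j < i → ∀ p : PrimeSpectrum A,
        p ∈ Module.support A (Dual.inD A M ⟶ ω⟦i⟧) →
        p ∈ Module.support A (Dual.inD A M ⟶ ω⟦j⟧) →
          (((k : ℤ) + i - j).toNat : WithBot ℕ∞) ≤
            Module.supportDim (Localization.AtPrime p.asIdeal)
              (LocalizedModule p.asIdeal.primeCompl M) := by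
  constructor
  · intro hS i j hji p hpi hpj
    have hpM : p ∈ Module.support A M := mem_support_of_mem_support_ext' ω hω M i p hpi
    obtain ⟨s, e, t, he, ht, hte, hA, hB, hC⟩ := loc_range' ω hω M p hpM
    obtain ⟨h1, h2⟩ := hA i hpi
    obtain ⟨h3, h4⟩ := hA j hpj
    have hS' := hS p.asIdeal
    rw [he, ht] at hS'
    rw [he]
    rcases min_le_iff.mp hS' with h | h
    · have hkt : k ≤ t := by exact_mod_cast h
      have h5 : ((k : ℤ) + i - j).toNat ≤ e := by omega
      exact_mod_cast h5
    · have het : e ≤ t := by exact_mod_cast h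
      omega
  · intro hR q hq
    obtain ⟨P, rfl⟩ : ∃ P : PrimeSpectrum A, P.asIdeal = q := ⟨⟨q, hq⟩, rfl⟩
    by_cases hpM : P ∈ Module.support A M
    · obtain ⟨s, e, t, he, ht, hte, hA, hB, hC⟩ := loc_range' ω hω M P hpM
      rw [he, ht]
      by_cases hcase : e ≤ t
      · exact min_le_iff.mpr (Or.inr (by exact_mod_cast hcase))
      · refine min_le_iff.mpr (Or.inl ?_)
        have h5 := hR (s - (t : ℤ)) (s - (e : ℤ)) (by omega) P hC hB
        rw [he] at h5
        have h6 : ((k : ℤ) + (s - (t : ℤ)) - (s - (e : ℤ))).toNat ≤ e := by exact_mod_cast h5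
        have hkt : k ≤ t := by omega
        exact_mod_cast hkt
    · rw [Module.mem_support_iff, not_nontrivial_iff_subsingleton] at hpM
      haveI := hpM
      rw [Module.supportDim_eq_bot_of_subsingleton]
      simp

end Groth.Agent.Helper6.QG
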