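import Mathlib
import Groth.Prelude.Def_DRing4
import Groth.Prelude.Def_CAlg
import Groth.Prelude.Def_EGA4b
import Groth.Agent.Helper6.QG2
import Groth.Agent.Helper6.SuppDimLoc

/-!
# `(S_k)` and the supports of `Ext^j(M, ω)`: dualizing complexes normalized at all maximal ideals
-/

set_option autoImplicit false
set_option linter.style.haveILetI false
set_option linter.unusedSectionVars false

universe u v
open CategoryTheory CategoryTheory.Limits Pretriangulated DerivedCategory TensorProduct
attribute [local instance] HasDerivedCategory.standard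

namespace Groth.Agent.Helper6.QG
open Groth.Agent.Helper3.DRingLib Groth.Agent.Helper6.DK Groth.Agent.Helper6.LocExt IsLocalRing
open Groth.Agent.Helper6.LD
open RingTheory.Sequence

variable {A : Type u} [CommRing A] [IsNoetherianRing A]

lemma coheight_ne_top (ω : Dual.D A) (hω : Dual.IsDualizing A ω) (p : PrimeSpectrum A) :
    Order.coheight p ≠ ⊤ := by
  intro h
  have h1 := Order.coheight_le_krullDim p
  have h2 : Order.krullDim (PrimeSpectrum A) < ⊤ := ringKrullDim_lt_top_of_dualizing ω hω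
  rw [h] at h1
  have h3 := lt_of_le_of_lt h1 h2
  rw [WithBot.coe_top] at h3
  exact lt_irrefl _ h3

/-- the dimension function of a dualizing complex normalized at all maximal ideals is the
coheight -/
theorem delta_eq_coheight' (ω : Dual.D A)
    (hnorm : ∀ (m : Ideal A) (_ : m.IsMaximal) (i : ℤ), i ≠ 0 →
      Subsingleton (Dual.inD A (A ⧸ m) ⟶ ω⟦i⟧))
    (δ : PrimeSpectrum A → ℤ)
    (hδ1 : ∀ (p : PrimeSpectrum A) (i : ℤ),
      Nontrivial (LocalizedModule p.asIdeal.primeCompl
        (Dual.inD A (A ⧸ p.asIdeal) ⟶ ω⟦i⟧)) ↔ i = -δ p)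
    (hδ2 : ∀ p q : PrimeSpectrum A, p ⋖ q → δ p = δ q + 1) :
    ∀ (d : ℕ) (p : PrimeSpectrum A), Order.coheight p = d → δ p = d := by
  intro d
  induction d with
  | zero =>
    intro p hp
    have hmax : IsMax p := Order.coheight_eq_zero.mp (by rw [hp]; rfl)
    have hpm : p.asIdeal.IsMaximal := PrimeSpectrum.isMax_iff.mp hmax
    by_contra hne
    have h1 : Nontrivial (LocalizedModule p.asIdeal.primeCompl
        (Dual.inD A (A ⧸ p.asIdeal) ⟶ ω⟦-δ p⟧)) := (hδ1 p (-δ p)).mpr rfl
    haveI h2 : Subsingleton (Dual.inD A (A ⧸ p.asIdeal) ⟶ ω⟦-δ p⟧) :=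
      hnorm p.asIdeal hpm (-δ p) (fun h => hne (by
        rw [Nat.cast_zero]
        omega))
    have h3 : Subsingleton (LocalizedModule p.asIdeal.primeCompl
        (Dual.inD A (A ⧸ p.asIdeal) ⟶ ω⟦-δ p⟧)) :=
      LocalizedModule.subsingleton_iff.mpr (fun m =>
        ⟨1, Submonoid.one_mem _, Subsingleton.elim _ _⟩)
    exact not_nontrivial_iff_subsingleton.mpr h3 h1
  | succ d ih =>
    intro p hp
    have hp' : Order.coheight p = (d : ℕ∞) + 1 := by
      rw [hp, Nat.cast_succ]
    obtain ⟨_, ⟨y, hy, hyd⟩, hall⟩ := Order.coheight_eq_coe_add_one_iff.mp hp'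
    have hcov : p ⋖ y := by
      refine ⟨hy, fun c hpc hcy => ?_⟩
      have h1 : Order.coheight y + 1 ≤ Order.coheight c := Order.coheight_add_one_le hcy
      have h2 : Order.coheight c ≤ d := hall c hpc
      rw [hyd] at h1
      exact lt_irrefl _ ((ENat.add_one_le_iff (ENat.natCast_ne_top d)).mp (h1.trans h2))
    rw [hδ2 p y hcov, ih y hyd]
    push_cast
    ring

section Global

variable (ω : Dual.D A) (hω : Dual.IsDualizing A ω)
  (hnorm : ∀ (m : Ideal A) (_ : m.IsMaximal) (i : ℤ), i ≠ 0 →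
      Subsingleton (Dual.inD A (A ⧸ m) ⟶ ω⟦i⟧))

include hω hnorm in
theorem localized_normalized' (p : PrimeSpectrum A) (dp : ℕ) (hdp : Order.coheight p = dp) :
    Dual.IsDualizing (Localization.AtPrime p.asIdeal)
        (((bcD A (Localization.AtPrime p.asIdeal)).obj ω)⟦-(dp : ℤ)⟧) ∧
      Dual.IsNormalized (Localization.AtPrime p.asIdeal)
        (((bcD A (Localization.AtPrime p.asIdeal)).obj ω)⟦-(dp : ℤ)⟧) := by
  obtain ⟨δ, hδ1, hδ2⟩ := exists_dimension_function ω hω
  have hδP : δ p = dp := delta_eq_coheight' ω hnorm δ hδ1 hδ2 dp p hdp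
  obtain ⟨a, b, hab⟩ := hω.finite_injective_dimension
  obtain ⟨hGE, _⟩ := bounds_of_hinj ω a b hab
  haveI := hGE
  have hn1 : ∀ j : ℤ, j ≠ -(dp : ℤ) → Subsingleton (Dual.inD (Localization.AtPrime p.asIdeal)
      (Localization.AtPrime p.asIdeal ⧸ maximalIdeal (Localization.AtPrime p.asIdeal)) ⟶
        ((bcD A (Localization.AtPrime p.asIdeal)).obj ω)⟦j⟧) := fun j hj =>
    (loc_iff_of_under p.asIdeal.primeCompl (Localization.AtPrime p.asIdeal) ω a
      (maximalIdeal (Localization.AtPrime p.asIdeal)) p.asIdeal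
      Localization.AtPrime.under_maximalIdeal j).mp
      (not_nontrivial_iff_subsingleton.mp (fun h => hj (by
        rw [← hδP]
        exact (hδ1 p j).mp h)))
  have hωB := isDualizing_bcD p.asIdeal.primeCompl (Localization.AtPrime p.asIdeal) ω hω
  refine ⟨isDualizing_shift _ hωB _, fun i hi => ?_⟩
  haveI : Subsingleton (Dual.inD (Localization.AtPrime p.asIdeal)
      (ResidueField (Localization.AtPrime p.asIdeal)) ⟶
        ((bcD A (Localization.AtPrime p.asIdeal)).obj ω)⟦-(dp : ℤ) + i⟧) :=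
    hn1 (-(dp : ℤ) + i) (by omega)
  exact (homShiftShiftEquiv (Dual.inD (Localization.AtPrime p.asIdeal)
    (ResidueField (Localization.AtPrime p.asIdeal))) _ (-(dp : ℤ)) i (-(dp : ℤ) + i)
    rfl).toEquiv.subsingleton

variable (M : Type u) [AddCommGroup M] [Module A M] [Module.Finite A M]

include hω hnorm in
/-- global version of `loc_range` -/
theorem loc_range_global (p : PrimeSpectrum A)
    (hp : p ∈ Module.support A M) (dp : ℕ) (hdp : Order.coheight p = dp) :
    ∃ e t : ℕ,
      Module.supportDim (Localization.AtPrime p.asIdeal)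
        (LocalizedModule p.asIdeal.primeCompl M) = e ∧
      LocCoh.depth (Localization.AtPrime p.asIdeal)
        (LocalizedModule p.asIdeal.primeCompl M) = t ∧
      t ≤ e ∧
      (∀ j : ℤ, p ∈ Module.support A (Dual.inD A M ⟶ ω⟦j⟧) →
        -((e : ℤ) + dp) ≤ j ∧ j ≤ -((t : ℤ) + dp)) ∧
      p ∈ Module.support A (Dual.inD A M ⟶ ω⟦-((e : ℤ) + dp)⟧) ∧
      p ∈ Module.support A (Dual.inD A M ⟶ ω⟦-((t : ℤ) + dp)⟧) := by
  obtain ⟨hd', hn'⟩ := localized_normalized' ω hω hnorm p dp hdp
  haveI : IsNoetherianRing (Localization.AtPrime p.asIdeal) := hd'.isNoetherianRing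
  obtain ⟨a, b, hab⟩ := hω.finite_injective_dimension
  obtain ⟨hGE, _⟩ := bounds_of_hinj ω a b hab
  haveI := hGE
  have key : ∀ j : ℤ, p ∈ Module.support A (Dual.inD A M ⟶ ω⟦j⟧) ↔
      ¬ Subsingleton (Dual.inD (Localization.AtPrime p.asIdeal)
        (Localization.AtPrime p.asIdeal ⊗[A] M) ⟶
          (((bcD A (Localization.AtPrime p.asIdeal)).obj ω)⟦-(dp : ℤ)⟧)⟦j + dp⟧) := by
    intro j
    rw [Module.mem_support_iff, ← not_subsingleton_iff_nontrivial,
      subsingleton_localized_ext_iff' p.asIdeal.primeCompl (Localization.AtPrime p.asIdeal) M ω a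
        j]
    exact not_congr (homShiftShiftEquiv (Dual.inD (Localization.AtPrime p.asIdeal)
      (Localization.AtPrime p.asIdeal ⊗[A] M)) ((bcD A (Localization.AtPrime p.asIdeal)).obj ω)
      (-(dp : ℤ)) (j + dp) j (by omega)).toEquiv.subsingleton_congr.symm
  haveI : Nontrivial (LocalizedModule p.asIdeal.primeCompl M) := Module.mem_support_iff.mp hp
  haveI : Nontrivial (Localization.AtPrime p.asIdeal ⊗[A] M) :=
    (IsLocalizedModule.isBaseChange p.asIdeal.primeCompl (Localization.AtPrime p.asIdeal)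
      (LocalizedModule.mkLinearMap p.asIdeal.primeCompl M)).equiv.toEquiv.nontrivial
  have hdepth : LocCoh.depth (Localization.AtPrime p.asIdeal)
      (LocalizedModule p.asIdeal.primeCompl M) =
        LocCoh.depth (Localization.AtPrime p.asIdeal) (Localization.AtPrime p.asIdeal ⊗[A] M) :=
    (Groth.Agent.Helper9.ReflKer.idealDepth_congr (maximalIdeal (Localization.AtPrime p.asIdeal))
      (IsLocalizedModule.isBaseChange p.asIdeal.primeCompl (Localization.AtPrime p.asIdeal)
        (LocalizedModule.mkLinearMap p.asIdeal.primeCompl M)).equiv).symm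
  have hsd : Module.supportDim (Localization.AtPrime p.asIdeal)
      (LocalizedModule p.asIdeal.primeCompl M) =
        Module.supportDim (Localization.AtPrime p.asIdeal)
          (Localization.AtPrime p.asIdeal ⊗[A] M) :=
    (Module.supportDim_eq_of_equiv
      (IsLocalizedModule.isBaseChange p.asIdeal.primeCompl (Localization.AtPrime p.asIdeal)
        (LocalizedModule.mkLinearMap p.asIdeal.primeCompl M)).equiv).symm
  obtain ⟨e, he⟩ := exists_supportDim_eq_nat (A := Localization.AtPrime p.asIdeal)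
    (Localization.AtPrime p.asIdeal ⊗[A] M)
  have hIM : maximalIdeal (Localization.AtPrime p.asIdeal) •
      (⊤ : Submodule (Localization.AtPrime p.asIdeal)
        (Localization.AtPrime p.asIdeal ⊗[A] M)) ≠ ⊤ :=
    Groth.Agent.Helper9.DepthS2.max_smul_top_ne_top _
  obtain ⟨rs, _, hreg, hmem, hmax⟩ :=
    Groth.Agent.Helper2.DepthRees.exists_maximal_extension
      (maximalIdeal (Localization.AtPrime p.asIdeal)) (Localization.AtPrime p.asIdeal ⊗[A] M)
      hIM [] (IsWeaklyRegular.nil _ _) (by simp)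
  have hlen : (rs.length : ℕ∞) = LocCoh.depth (Localization.AtPrime p.asIdeal)
      (Localization.AtPrime p.asIdeal ⊗[A] M) :=
    Groth.Agent.Helper2.DepthRees.length_eq_idealDepth_of_maximal
      (maximalIdeal (Localization.AtPrime p.asIdeal)) _ hIM rs hreg hmem hmax
  obtain ⟨hW, hNN⟩ := ext_of_maximal_regular _ hd' hn' rs
    (Localization.AtPrime p.asIdeal ⊗[A] M) hreg hmem hmax
  have hA : ∀ j : ℤ, p ∈ Module.support A (Dual.inD A M ⟶ ω⟦j⟧) →
      -((e : ℤ) + dp) ≤ j ∧ j ≤ -((rs.length : ℤ) + dp) := by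
    intro j hj
    have h1 := (key j).mp hj
    constructor
    · by_contra hcon
      exact h1 (ext_vanish_neg _ hd' hn' (Localization.AtPrime p.asIdeal ⊗[A] M) e he.le
        (j + dp) (by omega))
    · by_contra hcon
      exact h1 (hW _ (by omega))
  have hB : p ∈ Module.support A (Dual.inD A M ⟶ ω⟦-((e : ℤ) + dp)⟧) := by
    refine (key _).mpr ?_
    have h4 : -((e : ℤ) + dp) + dp = -(e : ℤ) := by ring
    rw [h4]
    exact not_subsingleton_iff_nontrivial.mpr
      (nontrivial_ext_neg_supportDim _ hd' hn' (Localization.AtPrime p.asIdeal ⊗[A] M) e he)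
  have hC : p ∈ Module.support A (Dual.inD A M ⟶ ω⟦-((rs.length : ℤ) + dp)⟧) := by
    refine (key _).mpr ?_
    have h4 : -((rs.length : ℤ) + dp) + dp = -(rs.length : ℤ) := by ring
    rw [h4]
    exact hNN
  refine ⟨e, rs.length, hsd.trans he, hdepth.trans hlen.symm, ?_, hA, hB, hC⟩
  have := (hA _ hC).1
  omega

omit [IsNoetherianRing A] [Module.Finite A M] in
lemma e_add_dp_le (p : PrimeSpectrum A) (hp : p ∈ Module.support A M) (e dp δ : ℕ)
    (he : Module.supportDim (Localization.AtPrime p.asIdeal)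
        (LocalizedModule p.asIdeal.primeCompl M) = e)
    (hdp : ringKrullDim (A ⧸ p.asIdeal) = ((dp : ℕ∞) : WithBot ℕ∞))
    (hδ : Module.supportDim A M ≤ δ) :
    e + dp ≤ δ := by
  haveI : Nontrivial (LocalizedModule p.asIdeal.primeCompl M) := Module.mem_support_iff.mp hp
  have h3 := (Groth.Agent.Helper6.SuppDimLoc.supportDim_localized_add_dim_quot_le A M
    p.asIdeal).trans hδ
  rw [he, hdp] at h3
  exact_mod_cast h3

include hω hnorm in
/-- vanishing range of `Ext^j(M, ω)` -/
theorem ext_vanish_global (δ : ℕ) (hδ : Module.supportDim A M ≤ δ) (j : ℤ)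
    (hj : 0 < j ∨ j < -(δ : ℤ)) : Subsingleton (Dual.inD A M ⟶ ω⟦j⟧) := by
  rw [← Module.support_eq_empty_iff (R := A), Set.eq_empty_iff_forall_notMem]
  intro p hp
  have hpM := mem_support_of_mem_support_ext' ω hω M j p hp
  obtain ⟨dp, hdp⟩ := ENat.ne_top_iff_exists.mp (coheight_ne_top ω hω p)
  obtain ⟨e, t, he, ht, hte, hA, hB, hC⟩ := loc_range_global ω hω hnorm M p hpM dp hdp.symm
  obtain ⟨h1, h2⟩ := hA j hp
  have h4 : e + dp ≤ δ := e_add_dp_le M p hpM e dp δ he
    (by rw [ringKrullDim_quotient_eq_coheight, ← hdp]) hδ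
  omega

include hω hnorm in
theorem loc_range_equidim_global
    (hM : EGA4.IsEquidimModule A M) (δ : ℕ) (hδ : Module.supportDim A M = δ)
    (p : PrimeSpectrum A)
    (hp : p ∈ Module.support A M) (dp : ℕ) (hdp : Order.coheight p = dp) :
    ∃ e t : ℕ,
      Module.supportDim (Localization.AtPrime p.asIdeal)
        (LocalizedModule p.asIdeal.primeCompl M) = e ∧
      LocCoh.depth (Localization.AtPrime p.asIdeal)
        (LocalizedModule p.asIdeal.primeCompl M) = t ∧
      t ≤ e ∧ e + dp = δ ∧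
      (∀ j : ℤ, p ∈ Module.support A (Dual.inD A M ⟶ ω⟦j⟧) →
        -(δ : ℤ) ≤ j ∧ j ≤ -((t : ℤ) + dp)) ∧
      p ∈ Module.support A (Dual.inD A M ⟶ ω⟦-((t : ℤ) + dp)⟧) := by
  obtain ⟨e, t, he, ht, hte, hA, hB, hC⟩ := loc_range_global ω hω hnorm M p hp dp hdp
  have hle : e + dp ≤ δ := e_add_dp_le M p hp e dp δ he
    (by rw [ringKrullDim_quotient_eq_coheight, hdp]) hδ.le
  have hge : δ ≤ e + dp := by
    have hann : Module.annihilator A M ≤ p.asIdeal := Module.mem_support_iff_of_finite.mp hp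
    obtain ⟨q, hq, hqp⟩ := Ideal.exists_minimalPrimes_le hann
    have hqdim := hM q hq
    haveI : q.IsPrime := hq.1.1
    obtain ⟨Q, rfl⟩ : ∃ Q : PrimeSpectrum A, Q.asIdeal = q := ⟨⟨q, inferInstance⟩, rfl⟩
    rw [ringKrullDim_quotient_eq_coheight, hδ] at hqdim
    have hQco : Order.coheight Q = (δ : ℕ∞) := by exact_mod_cast hqdim
    have hQM : Q ∈ Module.support A M := Module.mem_support_iff_of_finite.mpr hq.1.2
    obtain ⟨e', t', he', _, _, _, hB', _⟩ := loc_range_global ω hω hnorm M Q hQM δ hQco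
    have he0 : e' + δ ≤ δ := e_add_dp_le M Q hQM e' δ δ he'
      (by rw [ringKrullDim_quotient_eq_coheight, hQco]) hδ.le
    have h0 : -((e' : ℤ) + δ) = -(δ : ℤ) := by omega
    rw [h0] at hB'
    have hpδ : p ∈ Module.support A (Dual.inD A M ⟶ ω⟦-(δ : ℤ)⟧) :=
      Module.mem_support_mono ((PrimeSpectrum.asIdeal_le_asIdeal Q p).mp hqp) hB'
    have := (hA _ hpδ).1
    omega
  have hed : e + dp = δ := le_antisymm hle hge
  refine ⟨e, t, he, ht, hte, hed, fun j hj => ?_, hC⟩
  obtain ⟨h1, h2⟩ := hA j hj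
  exact ⟨by omega, h2⟩

include hω hnorm in
/-- **`(S_k)` in terms of the supports of `Ext^j(M, ω)`, equidimensional case, global.** -/
theorem hasSk_iff_global
    (hM : EGA4.IsEquidimModule A M) (δ : ℕ) (hδ : Module.supportDim A M = δ) (k : ℕ) :
    LocCoh.HasSk k A M ↔
      ∀ j : ℤ, j ≠ -(δ : ℤ) →
        (-j - (k : ℤ) < 0 → Subsingleton (Dual.inD A M ⟶ ω⟦j⟧)) ∧
        (0 ≤ -j - (k : ℤ) → Module.supportDim A (Dual.inD A M ⟶ ω⟦j⟧) ≤
          ((-j - (k : ℤ)).toNat : WithBot ℕ∞)) := by
  constructor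
  · intro hS
    have claim : ∀ j : ℤ, j ≠ -(δ : ℤ) → ∀ p : PrimeSpectrum A,
        p ∈ Module.support A (Dual.inD A M ⟶ ω⟦j⟧) → ∀ dp : ℕ, Order.coheight p = dp →
          (dp : ℤ) ≤ -j - k := by
      intro j hj p hp dp hdp
      have hpM : p ∈ Module.support A M := mem_support_of_mem_support_ext' ω hω M j p hp
      obtain ⟨e, t, he, ht, hte, hed, hA, hC⟩ :=
        loc_range_equidim_global ω hω hnorm M hM δ hδ p hpM dp hdp
      obtain ⟨h1, h2⟩ := hA j hp
      have hS' := hS p.asIdeal
      rw [he, ht] at hS'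
      rcases min_le_iff.mp hS' with h | h
      · have hkt : k ≤ t := by exact_mod_cast h
        omega
      · have het : e ≤ t := by exact_mod_cast h
        omega
    intro j hj
    constructor
    · intro hlt
      rw [← Module.support_eq_empty_iff (R := A), Set.eq_empty_iff_forall_notMem]
      intro p hp
      obtain ⟨dp, hdp⟩ := ENat.ne_top_iff_exists.mp (coheight_ne_top ω hω p)
      have := claim j hj p hp dp hdp.symm
      omega
    · intro hge
      unfold Module.supportDim Order.krullDim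
      refine iSup_le (fun s => ?_)
      have hmem : (s.head).1 ∈ Module.support A (Dual.inD A M ⟶ ω⟦j⟧) := s.head.2
      have h3 : Order.coheight (s.head).1 ≠ ⊤ := coheight_ne_top ω hω _
      obtain ⟨dp, hdp⟩ := ENat.ne_top_iff_exists.mp h3
      have h1 := claim j hj _ hmem dp hdp.symm
      have h2 : (s.length : ℕ∞) ≤ Order.coheight (s.head).1 := by
        have := Order.length_le_coheight_head (p := s.map Subtype.val (fun _ _ h => h))
        rwa [LTSeries.map_length, LTSeries.head_map] at this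
      rw [← hdp] at h2
      have h4 : s.length ≤ dp := by exact_mod_cast h2
      have h5 : s.length ≤ (-j - (k : ℤ)).toNat := by omega
      exact_mod_cast h5
  · intro hR q hq
    obtain ⟨P, rfl⟩ : ∃ P : PrimeSpectrum A, P.asIdeal = q := ⟨⟨q, hq⟩, rfl⟩
    by_cases hpM : P ∈ Module.support A M
    · obtain ⟨dp, hdp⟩ := ENat.ne_top_iff_exists.mp (coheight_ne_top ω hω P)
      obtain ⟨e, t, he, ht, hte, hed, hA, hC⟩ :=
        loc_range_equidim_global ω hω hnorm M hM δ hδ P hpM dp hdp.symm
      rw [he, ht]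
      by_cases hcase : e ≤ t
      · exact min_le_iff.mpr (Or.inr (by exact_mod_cast hcase))
      · refine min_le_iff.mpr (Or.inl ?_)
        have hj : -((t : ℤ) + dp) ≠ -(δ : ℤ) := by omega
        obtain ⟨hR1, hR2⟩ := hR _ hj
        have hkt : k ≤ t := by
          by_contra hcon
          by_cases hneg : - -((t : ℤ) + dp) - (k : ℤ) < 0
          · haveI := hR1 hneg
            exact absurd (nontrivial_of_mem_support hC) (not_nontrivial _)
          · have h5 := (coheight_le_supportDim_of_mem P hC).trans (hR2 (by omega))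
            rw [← hdp] at h5
            have h6 : dp ≤ (- -((t : ℤ) + dp) - (k : ℤ)).toNat := by exact_mod_cast h5
            omega
        exact_mod_cast hkt
    · rw [Module.mem_support_iff, not_nontrivial_iff_subsingleton] at hpM
      haveI := hpM
      rw [Module.supportDim_eq_bot_of_subsingleton]
      simp

end Global

/-- **Form for equidimensional rings, in terms of the cohomology modules of `ω`.** -/
theorem hasSk_self_iff_cohomology (ω : Dual.D A) (hω : Dual.IsDualizing A ω)
    (hnorm : ∀ (m : Ideal A) (_ : m.IsMaximal) (i : ℤ), i ≠ 0 →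
      Subsingleton (Dual.inD A (A ⧸ m) ⟶ ω⟦i⟧))
    (hEq : EGA4.IsEquidim A) (n : ℕ) (hd : ringKrullDim A = n) :
    (∀ i : ℕ, n < i → Subsingleton (Dual.HD A ω (-(i : ℤ)))) ∧
    ∀ k' : ℕ,
      (LocCoh.HasSk k' A A ↔
        ∀ i : ℕ, i ≠ n →
          (i < k' → Subsingleton (Dual.HD A ω (-(i : ℤ)))) ∧
          (k' ≤ i → Module.supportDim A (Dual.HD A ω (-(i : ℤ))) ≤
            ((i - k' : ℕ) : WithBot ℕ∞))) := by
  have hδ : Module.supportDim A A = n := by rw [Module.supportDim_self_eq_ringKrullDim, hd]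
  have hM : EGA4.IsEquidimModule A A := by
    intro p hp
    rw [Module.supportDim_self_eq_ringKrullDim]
    have h0 : Module.annihilator A A = ⊥ := Module.annihilator_eq_bot.mpr inferInstance
    rw [h0] at hp
    exact hEq p hp
  have hψ : ∀ j : ℤ, Nonempty (Dual.HD A ω j ≃ₗ[A] (Dual.inD A A ⟶ ω⟦j⟧)) :=
    fun j => HD_equiv_hom_self ω hω j
  constructor
  · intro i hi
    obtain ⟨ψ⟩ := hψ (-(i : ℤ))
    haveI : Subsingleton (Dual.inD A A ⟶ ω⟦-(i : ℤ)⟧) :=
      ext_vanish_global ω hω hnorm A n hδ.le (-(i : ℤ)) (Or.inr (by omega))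
    exact ψ.toEquiv.subsingleton
  · intro k'
    rw [hasSk_iff_global ω hω hnorm A hM n hδ k']
    constructor
    · intro h i hi
      obtain ⟨ψ⟩ := hψ (-(i : ℤ))
      obtain ⟨h1, h2⟩ := h (-(i : ℤ)) (by omega)
      constructor
      · intro hik
        haveI := h1 (by omega)
        exact ψ.toEquiv.subsingleton
      · intro hki
        have h3 := h2 (by omega)
        rw [Module.supportDim_eq_of_equiv ψ]
        have h4 : (- -(i : ℤ) - (k' : ℤ)).toNat = i - k' := by omega
        rw [h4] at h3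
        exact h3
    · intro h j hj
      by_cases hjpos : 0 < j
      · haveI := ext_vanish_global ω hω hnorm A n hδ.le j (Or.inl hjpos)
        refine ⟨fun _ => inferInstance, fun _ => ?_⟩
        rw [Module.supportDim_eq_bot_of_subsingleton]
        exact bot_le
      · obtain ⟨i, rfl⟩ : ∃ i : ℕ, j = -(i : ℤ) := ⟨(-j).toNat, by omega⟩
        obtain ⟨ψ⟩ := hψ (-(i : ℤ))
        obtain ⟨h1, h2⟩ := h i (by omega)
        constructor
        · intro hlt
          haveI := h1 (by omega)
          exact ψ.symm.toEquiv.subsingleton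
        · intro hge
          have h3 := h2 (by omega)
          rw [Module.supportDim_eq_of_equiv ψ] at h3
          have h4 : (- -(i : ℤ) - (k' : ℤ)).toNat = i - k' := by omega
          rw [h4]
          exact h3

end Groth.Agent.Helper6.QG
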