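import Mathlib
import Groth.Prelude.Def_DRing4
import Groth.Prelude.Def_CAlg
import Groth.Prelude.Def_EGA4b
import Groth.Agent.Helper6.QG3
import Groth.Agent.Helper1.SerreFlatU

/-!
# The canonical module `H^{-d}(ω)` of a Noetherian local ring: support and `(S_2)`
-/

set_option autoImplicit false
set_option linter.style.haveILetI false
set_option linter.unusedSectionVars false

universe u v
open CategoryTheory CategoryTheory.Limits Pretriangulated DerivedCategory TensorProduct
attribute [local instance] HasDerivedCategory.standard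

namespace Groth.Agent.Helper6.QG
open Groth.Agent.Helper3.DRingLib Groth.Agent.Helper6.DK Groth.Agent.Helper6.LocExt IsLocalRing
open Groth.Agent.Helper6.LD
open RingTheory.Sequence

variable {A : Type u} [CommRing A] [IsNoetherianRing A] [IsLocalRing A]

/-- `Ext^j(K, ω) = 0` for `j ≥ max(-1, 1 - d)`, where `K = H^{-d}(ω)`. -/
theorem ext_canonical_vanish (ω : Dual.D A) (hω : Dual.IsDualizing A ω)
    (hn : Dual.IsNormalized A ω) (d : ℕ) (hd : ringKrullDim A = d) (j : ℤ) (hj1 : -1 ≤ j)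
    (hj2 : 1 - (d : ℤ) ≤ j) :
    Subsingleton (Dual.inD A (Dual.HD A ω (-(d : ℤ))) ⟶ ω⟦j⟧) := by
  haveI hfinK : Module.Finite A (Dual.HD A ω (-(d : ℤ))) := hω.finite_cohomology _
  by_cases hjpos : 0 < j
  · exact ext_vanish_pos ω hω hn _ j hjpos
  have hd1 : 1 ≤ d := by omega
  have hsd : Module.supportDim A A ≤ (d : WithBot ℕ∞) := by
    rw [Module.supportDim_self_eq_ringKrullDim, hd]
  have hlow : ∀ i : ℤ, i < -(d : ℤ) → Subsingleton (Dual.HD A ω i) := fun i hi => by
    obtain ⟨ψ⟩ := HD_equiv_hom_self ω hω i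
    haveI := ext_vanish_neg ω hω hn A d hsd i hi
    exact ψ.toEquiv.subsingleton
  have hhigh : ∀ i : ℤ, 0 < i → Subsingleton (Dual.HD A ω i) := fun i hi => by
    obtain ⟨ψ⟩ := HD_equiv_hom_self ω hω i
    haveI := ext_vanish_pos ω hω hn A i hi
    exact ψ.toEquiv.subsingleton
  obtain ⟨X, Y, hX, hY, f, g, δ, hT⟩ :=
    TStructure.t.exists_triangle ω (-(d : ℤ)) (-(d : ℤ) + 1) (by omega)
  haveI iX : X.IsLE (-(d : ℤ)) := ⟨hX⟩
  haveI iY : Y.IsGE (-(d : ℤ) + 1) := ⟨hY⟩
  haveI iY' : (Triangle.mk f g δ).obj₃.IsGE (-(d : ℤ) + 1) := iY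
  haveI iX' : (Triangle.mk f g δ).obj₁.IsLE (-(d : ℤ)) := iX
  have hf : ∀ i : ℤ, i ≤ -(d : ℤ) → IsIso ((homologyFunctor (ModuleCat.{u} A) i).map f) :=
    fun i hi => isIso_HD_mor₁ _ hT (-(d : ℤ)) i hi
  have hg : ∀ i : ℤ, -(d : ℤ) + 1 ≤ i → IsIso ((homologyFunctor (ModuleCat.{u} A) i).map g) :=
    fun i hi => isIso_HD_mor₂ _ hT (-(d : ℤ)) i hi
  haveI iXge : X.IsGE (-(d : ℤ)) := isGE_of_HD X _ (fun i hi => by
    haveI := hf i hi.le
    haveI := hlow i hi
    exact (asIso ((homologyFunctor (ModuleCat.{u} A) i).map f)).toLinearEquiv.toEquiv.subsingleton)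
  haveI iYle : Y.IsLE 0 := isLE_of_HD Y 0 (fun i hi => by
    haveI := hg i (by omega)
    haveI := hhigh i hi
    exact (asIso ((homologyFunctor (ModuleCat.{u} A)
      i).map g)).symm.toLinearEquiv.toEquiv.subsingleton)
  haveI iYle' : Y.IsLE (-(d : ℤ) + 1 + ((d - 1 : ℕ) : ℤ)) := by
    have h0 : -(d : ℤ) + 1 + ((d - 1 : ℕ) : ℤ) = 0 := by omega
    rw [h0]
    exact iYle
  let P : ModuleCat.{u} A → Prop := fun M => Module.Finite A M
  have hPiso : ∀ {M N : ModuleCat.{u} A}, (M ≅ N) → P M → P N := fun {M N} e hM => by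
    haveI : Module.Finite A M := hM
    exact Module.Finite.equiv e.toLinearEquiv
  have hPvan : ∀ M : ModuleCat.{u} A, P M → ∀ j : ℤ, 0 < j →
      Subsingleton ((DerivedCategory.singleFunctor (ModuleCat.{u} A) 0).obj M ⟶ ω⟦j⟧) :=
    fun M hM j hj => by
      haveI : Module.Finite A M := hM
      exact ext_vanish_pos ω hω hn M j hj
  have hPY : ∀ i : ℤ, P ((homologyFunctor (ModuleCat.{u} A) i).obj Y) := by
    intro i
    by_cases hi : -(d : ℤ) + 1 ≤ i
    · haveI := hg i hi
      exact hPiso (asIso ((homologyFunctor (ModuleCat.{u} A) i).map g)) (hω.finite_cohomology i)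
    · haveI : Subsingleton (Dual.HD A Y i) :=
        subsingleton_HD_of_isGE Y (-(d : ℤ) + 1) i (by omega)
      show Module.Finite A (Dual.HD A Y i)
      infer_instance
  haveI hYvan : Subsingleton (Y ⟶ ω⟦j + (d : ℤ) + 1⟧) :=
    hom_vanish_of_devissage' ω P hPiso (fun j => 0 < j) hPvan (d - 1) Y (-(d : ℤ) + 1) hPY
      (j + (d : ℤ) + 1) (fun c h1 _ => by
        show 0 < j + (d : ℤ) + 1 + c
        omega)
  have hYm : Subsingleton (Y⟦(-1 : ℤ)⟧ ⟶ ω⟦j + (d : ℤ)⟧) :=
    (shiftHomEquiv Y ω (-1) 1 (j + (d : ℤ)) (j + (d : ℤ) + 1) (by omega)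
      rfl).toEquiv.subsingleton
  have hωm : Subsingleton (ω ⟶ ω⟦j + (d : ℤ)⟧) := hω.ext_self_subsingleton _ (by omega)
  have hzero : ∀ φ : X ⟶ ω⟦j + (d : ℤ)⟧, φ = 0 := by
    intro φ
    obtain ⟨ψ, hψ⟩ := Triangle.yoneda_exact₂ _ (inv_rot_of_distTriang _ hT) φ
      (@Subsingleton.elim _ hYm _ _)
    have hψ0 : ψ = 0 := @Subsingleton.elim _ hωm ψ 0
    rw [hψ, hψ0]
    exact comp_zero
  haveI hX0 : Subsingleton (X ⟶ ω⟦j + (d : ℤ)⟧) := ⟨fun φ φ' => by rw [hzero φ, hzero φ']⟩
  obtain ⟨eX⟩ := exists_iso_single_HD X (-(d : ℤ))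
  have hX1 : Subsingleton (Dual.inD A (Dual.HD A X (-(d : ℤ))) ⟶ ω⟦j⟧) :=
    ((Linear.homCongr A eX (Iso.refl (ω⟦j + (d : ℤ)⟧))).toEquiv.trans
      (shiftHomEquiv (Dual.inD A (Dual.HD A X (-(d : ℤ)))) ω (-(-(d : ℤ))) (-(d : ℤ))
        (j + (d : ℤ)) j (by omega) (by omega)).toEquiv).symm.subsingleton
  haveI := hf (-(d : ℤ)) le_rfl
  exact subsingleton_of_equiv' (ω⟦j⟧)
    (asIso ((homologyFunctor (ModuleCat.{u} A) (-(d : ℤ))).map f)).toLinearEquiv.symm hX1

/-- **`depth K ≥ min(2, dim A)` for the canonical module `K = H^{-d}(ω)`.** -/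
theorem depth_canonical_ge (ω : Dual.D A) (hω : Dual.IsDualizing A ω)
    (hn : Dual.IsNormalized A ω) (d : ℕ) (hd : ringKrullDim A = d) :
    min ((2 : ℕ) : WithBot ℕ∞) ((d : ℕ) : WithBot ℕ∞) ≤
      ((LocCoh.depth A (Dual.HD A ω (-(d : ℤ))) : ℕ∞) : WithBot ℕ∞) := by
  haveI hfinK : Module.Finite A (Dual.HD A ω (-(d : ℤ))) := hω.finite_cohomology _
  by_cases hK : Subsingleton (Dual.HD A ω (-(d : ℤ)))
  · haveI := hK
    rw [Groth.Agent.Helper9.DepthS2.depth_eq_top_of_subsingleton, WithBot.coe_top]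
    exact le_top
  · haveI : Nontrivial (Dual.HD A ω (-(d : ℤ))) := not_subsingleton_iff_nontrivial.mp hK
    have hIM : maximalIdeal A • (⊤ : Submodule A (Dual.HD A ω (-(d : ℤ)))) ≠ ⊤ :=
      Groth.Agent.Helper9.DepthS2.max_smul_top_ne_top _
    obtain ⟨rs, _, hreg, hmem, hmax⟩ :=
      Groth.Agent.Helper2.DepthRees.exists_maximal_extension (maximalIdeal A)
        (Dual.HD A ω (-(d : ℤ))) hIM [] (IsWeaklyRegular.nil A _) (by simp)
    have hlen : (rs.length : ℕ∞) = LocCoh.depth A (Dual.HD A ω (-(d : ℤ))) :=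
      Groth.Agent.Helper2.DepthRees.length_eq_idealDepth_of_maximal (maximalIdeal A) _ hIM rs
        hreg hmem hmax
    obtain ⟨hW, hN⟩ := ext_of_maximal_regular ω hω hn rs (Dual.HD A ω (-(d : ℤ))) hreg hmem hmax
    rw [← hlen]
    have hcase : 2 ≤ rs.length ∨ d ≤ rs.length := by
      by_contra hcon
      push_neg at hcon
      exact hN (ext_canonical_vanish ω hω hn d hd (-(rs.length : ℤ)) (by omega) (by omega))
    have hcast : ∀ k : ℕ, k ≤ rs.length →
        ((k : ℕ) : WithBot ℕ∞) ≤ ((rs.length : ℕ∞) : WithBot ℕ∞) := fun k hk => by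
      exact_mod_cast hk
    rcases hcase with h | h
    · exact min_le_iff.mpr (Or.inl (hcast 2 h))
    · exact min_le_iff.mpr (Or.inr (hcast d h))

/-- points of the support of `Ext^{-d}(A, ω)`: `dim A_p + dim A/p = d`. -/
lemma canonical_support_data (ω : Dual.D A) (hω : Dual.IsDualizing A ω)
    (hn : Dual.IsNormalized A ω) (d : ℕ) (hd : ringKrullDim A = d) (p : PrimeSpectrum A)
    (hp : p ∈ Module.support A (Dual.inD A A ⟶ ω⟦-(d : ℤ)⟧)) (dp : ℕ)
    (hdp : Order.coheight p = dp) :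
    ∃ e : ℕ, Module.supportDim (Localization.AtPrime p.asIdeal)
        (LocalizedModule p.asIdeal.primeCompl A) = e ∧ e + dp = d := by
  have hδ : Module.supportDim A A = d := by rw [Module.supportDim_self_eq_ringKrullDim, hd]
  have hpA : p ∈ Module.support A A := mem_support_of_mem_support_ext ω hω A _ p hp
  obtain ⟨e, t, he, ht, hte, hA, hB, hC⟩ := loc_range ω hω hn A p hpA dp hdp
  have h1 := (hA _ hp).1
  have h2 : e + dp ≤ d := e_add_dp_le A p hpA e dp d he
    (by rw [ringKrullDim_quotient_eq_coheight, hdp]) hδ.le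
  exact ⟨e, he, by omega⟩

/-- **The support of the canonical module.** -/
theorem support_canonical (ω : Dual.D A) (hω : Dual.IsDualizing A ω)
    (hn : Dual.IsNormalized A ω) (d : ℕ) (hd : ringKrullDim A = d) :
    Module.support A (Dual.HD A ω (-(d : ℤ))) =
      {p : PrimeSpectrum A | ∃ q ∈ minimalPrimes A, q ≤ p.asIdeal ∧
        ringKrullDim (A ⧸ q) = d} := by
  obtain ⟨ψ⟩ := HD_equiv_hom_self ω hω (-(d : ℤ))
  rw [ψ.support_eq]
  have hδ : Module.supportDim A A = d := by rw [Module.supportDim_self_eq_ringKrullDim, hd]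
  ext p
  simp only [Set.mem_setOf_eq]
  constructor
  · intro hp
    obtain ⟨dp, hdp⟩ := ENat.ne_top_iff_exists.mp (Order.coheight_lt_top p).ne
    obtain ⟨e, he, hed⟩ := canonical_support_data ω hω hn d hd p hp dp hdp.symm
    have hht : Order.height p = (e : ℕ∞) := by
      have h3 : ringKrullDim (Localization.AtPrime p.asIdeal) = (e : WithBot ℕ∞) := by
        rw [← Groth.Agent.Helper1.SerreFlatU.supportDim_self p.asIdeal, he]
      rw [IsLocalization.AtPrime.ringKrullDim_eq_height p.asIdeal,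
        PrimeSpectrum.height_eq_orderHeight] at h3
      exact_mod_cast h3
    obtain ⟨s, hs1, hs2⟩ := Order.exists_series_of_height_eq_coe p hht
    obtain ⟨s', hs1', hs2'⟩ := Order.exists_series_of_coheight_eq_coe p hdp.symm
    have hmin : IsMin s.head := by
      by_contra hcon
      obtain ⟨q', hq'⟩ := not_isMin_iff.mp hcon
      have h3 := Order.length_le_height_last (p := s.cons q' hq')
      rw [RelSeries.last_cons, hs1, hht, RelSeries.cons_length, hs2] at h3
      have h4 : e + 1 ≤ e := by exact_mod_cast h3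
      omega
    have hco : Order.coheight s.head = (d : ℕ∞) := by
      apply le_antisymm
      · have h4 := Order.coheight_le_krullDim s.head
        rw [show Order.krullDim (PrimeSpectrum A) = ringKrullDim A from rfl, hd] at h4
        exact_mod_cast h4
      · have h5 := Order.length_le_coheight_head
          (p := RelSeries.smash s s' (hs1.trans hs1'.symm))
        rw [RelSeries.head_smash, RelSeries.smash_length, hs2, hs2'] at h5
        rw [← hed]
        exact_mod_cast h5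
    refine ⟨s.head.asIdeal, PrimeSpectrum.isMin_iff.mp hmin, ?_, ?_⟩
    · have h6 := LTSeries.head_le_last s
      rw [hs1] at h6
      exact (PrimeSpectrum.asIdeal_le_asIdeal _ _).mpr h6
    · rw [ringKrullDim_quotient_eq_coheight, hco]
      rfl
  · rintro ⟨q, hq, hqp, hqd⟩
    haveI : q.IsPrime := hq.1.1
    obtain ⟨Q, rfl⟩ : ∃ Q : PrimeSpectrum A, Q.asIdeal = q := ⟨⟨q, inferInstance⟩, rfl⟩
    rw [ringKrullDim_quotient_eq_coheight] at hqd
    have hQco : Order.coheight Q = (d : ℕ∞) := by exact_mod_cast hqd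
    have hQA : Q ∈ Module.support A A := by
      rw [Module.mem_support_iff_of_finite, Module.annihilator_eq_bot.mpr inferInstance]
      exact bot_le
    obtain ⟨e', t', he', _, _, _, hB', _⟩ := loc_range ω hω hn A Q hQA d hQco
    have he0 : e' + d ≤ d := e_add_dp_le A Q hQA e' d d he'
      (by rw [ringKrullDim_quotient_eq_coheight, hQco]) hδ.le
    have h0 : -((e' : ℤ) + d) = -(d : ℤ) := by omega
    rw [h0] at hB'
    exact Module.mem_support_mono ((PrimeSpectrum.asIdeal_le_asIdeal Q p).mp hqp) hB'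

/-- **The canonical module satisfies `(S_2)`.** -/
theorem hasS2_canonical (ω : Dual.D A) (hω : Dual.IsDualizing A ω)
    (hn : Dual.IsNormalized A ω) (d : ℕ) (hd : ringKrullDim A = d) :
    LocCoh.HasSk 2 A (Dual.HD A ω (-(d : ℤ))) := by
  haveI hfinK : Module.Finite A (Dual.HD A ω (-(d : ℤ))) := hω.finite_cohomology _
  obtain ⟨ψ⟩ := HD_equiv_hom_self ω hω (-(d : ℤ))
  intro q hq
  obtain ⟨p, rfl⟩ : ∃ P : PrimeSpectrum A, P.asIdeal = q := ⟨⟨q, hq⟩, rfl⟩
  by_cases hpK : p ∈ Module.support A (Dual.HD A ω (-(d : ℤ)))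
  · have hp : p ∈ Module.support A (Dual.inD A A ⟶ ω⟦-(d : ℤ)⟧) := by
      rw [← ψ.support_eq]
      exact hpK
    obtain ⟨dp, hdp⟩ := ENat.ne_top_iff_exists.mp (Order.coheight_lt_top p).ne
    obtain ⟨e, he, hed⟩ := canonical_support_data ω hω hn d hd p hp dp hdp.symm
    obtain ⟨hd', hn'⟩ := localized_normalized ω hω hn p dp hdp.symm
    haveI : IsNoetherianRing (Localization.AtPrime p.asIdeal) := hd'.isNoetherianRing
    have hdimB : ringKrullDim (Localization.AtPrime p.asIdeal) = (e : WithBot ℕ∞) := by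
      rw [← Groth.Agent.Helper1.SerreFlatU.supportDim_self p.asIdeal, he]
    have hmain := depth_canonical_ge _ hd' hn' e hdimB
    obtain ⟨φ1⟩ := nonempty_HD_bcD_equiv (Localization.AtPrime p.asIdeal) ω (-(d : ℤ))
    let φ2 : Dual.HD (Localization.AtPrime p.asIdeal)
        (((bcD A (Localization.AtPrime p.asIdeal)).obj ω)⟦-(dp : ℤ)⟧) (-(e : ℤ))
          ≃ₗ[Localization.AtPrime p.asIdeal]
        Dual.HD (Localization.AtPrime p.asIdeal)
          ((bcD A (Localization.AtPrime p.asIdeal)).obj ω) (-(d : ℤ)) :=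
      (((homologyFunctor (ModuleCat.{u} (Localization.AtPrime p.asIdeal)) 0).shiftIso
        (-(dp : ℤ)) (-(e : ℤ)) (-(d : ℤ)) (by omega)).app _).toLinearEquiv
    let Φ : LocalizedModule p.asIdeal.primeCompl (Dual.HD A ω (-(d : ℤ)))
          ≃ₗ[Localization.AtPrime p.asIdeal]
        Dual.HD (Localization.AtPrime p.asIdeal)
          (((bcD A (Localization.AtPrime p.asIdeal)).obj ω)⟦-(dp : ℤ)⟧) (-(e : ℤ)) :=
      (eN (Dual.HD A ω (-(d : ℤ))) p).symm ≪≫ₗ φ1.symm ≪≫ₗ φ2.symm
    have hdep : LocCoh.depth (Localization.AtPrime p.asIdeal)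
        (LocalizedModule p.asIdeal.primeCompl (Dual.HD A ω (-(d : ℤ)))) =
        LocCoh.depth (Localization.AtPrime p.asIdeal)
          (Dual.HD (Localization.AtPrime p.asIdeal)
            (((bcD A (Localization.AtPrime p.asIdeal)).obj ω)⟦-(dp : ℤ)⟧) (-(e : ℤ))) :=
      Groth.Agent.Helper9.ReflKer.idealDepth_congr
        (maximalIdeal (Localization.AtPrime p.asIdeal)) Φ
    have hsd : Module.supportDim (Localization.AtPrime p.asIdeal)
        (LocalizedModule p.asIdeal.primeCompl (Dual.HD A ω (-(d : ℤ)))) ≤ (e : WithBot ℕ∞) :=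
      (Module.supportDim_le_ringKrullDim _ _).trans hdimB.le
    rw [hdep]
    exact (min_le_min le_rfl hsd).trans hmain
  · rw [Module.mem_support_iff, not_nontrivial_iff_subsingleton] at hpK
    haveI := hpK
    rw [Module.supportDim_eq_bot_of_subsingleton]
    simp

end Groth.Agent.Helper6.QG
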