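import Mathlib
import Groth.Prelude.Def_DRing4
import Groth.Prelude.Def_CAlg
import Groth.Prelude.Def_EGA4b
import Groth.Agent.Helper6.QG4
import Groth.Agent.Helper6.SkQuot
import Groth.Agent.Helper7.DepthLG

/-!
# Dualizing complexes concentrated in one degree off a closed subset of positive codimension
-/

set_option autoImplicit false
set_option linter.style.haveILetI false
set_option linter.unusedSectionVars false

universe u v
open CategoryTheory CategoryTheory.Limits Pretriangulated DerivedCategory TensorProduct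
attribute [local instance] HasDerivedCategory.standard

namespace Groth.Agent.Helper6.QG
open Groth.Agent.Helper3.DRingLib Groth.Agent.Helper6.DK Groth.Agent.Helper6.LocExt IsLocalRing
open Groth.Agent.Helper6.LD
open RingTheory.Sequence

/-- `H^i(ω[a]) ≃ H^{a+i}(ω)` -/
noncomputable def HDShiftEquiv {A : Type u} [CommRing A] (ω : Dual.D A) (a i i' : ℤ)
    (h : a + i = i') : Dual.HD A (ω⟦a⟧) i ≃ₗ[A] Dual.HD A ω i' :=
  (((homologyFunctor (ModuleCat.{u} A) 0).shiftIso a i i' h).app ω).toLinearEquiv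

lemma natCast_coe_le_coe_iff (k : ℕ) (x : ℕ∞) :
    ((k : ℕ) : WithBot ℕ∞) ≤ ((x : ℕ∞) : WithBot ℕ∞) ↔ ((k : ℕ) : ℕ∞) ≤ x := by
  rw [show ((k : ℕ) : WithBot ℕ∞) = (((k : ℕ) : ℕ∞) : WithBot ℕ∞) from rfl, WithBot.coe_le_coe]

variable {A : Type u} [CommRing A] [IsNoetherianRing A] [IsLocalRing A]

/-- the depth of the localizations of the canonical module -/
theorem depth_canonical_localized_ge (ω : Dual.D A) (hω : Dual.IsDualizing A ω)
    (hn : Dual.IsNormalized A ω) (d : ℕ) (hd : ringKrullDim A = d) (p : PrimeSpectrum A)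
    (hpK : p ∈ Module.support A (Dual.HD A ω (-(d : ℤ)))) :
    min ((2 : ℕ) : WithBot ℕ∞) (ringKrullDim (Localization.AtPrime p.asIdeal)) ≤
      ((LocCoh.depth (Localization.AtPrime p.asIdeal)
        (LocalizedModule p.asIdeal.primeCompl (Dual.HD A ω (-(d : ℤ)))) : ℕ∞) : WithBot ℕ∞) := by
  haveI hfinK : Module.Finite A (Dual.HD A ω (-(d : ℤ))) := hω.finite_cohomology _
  obtain ⟨ψ⟩ := HD_equiv_hom_self ω hω (-(d : ℤ))
  have hp : p ∈ Module.support A (Dual.inD A A ⟶ ω⟦-(d : ℤ)⟧) := by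
    rw [← ψ.support_eq]
    exact hpK
  obtain ⟨dp, hdp⟩ := ENat.ne_top_iff_exists.mp (Order.coheight_lt_top p).ne
  obtain ⟨e, he, hed⟩ := canonical_support_data ω hω hn d hd p hp dp hdp.symm
  obtain ⟨hd', hn'⟩ := localized_normalized ω hω hn p dp hdp.symm
  haveI : IsNoetherianRing (Localization.AtPrime p.asIdeal) := hd'.isNoetherianRing
  have hdimB : ringKrullDim (Localization.AtPrime p.asIdeal) = (e : WithBot ℕ∞) := by
    rw [← Groth.Agent.Helper1.SerreFlatU.supportDim_self p.asIdeal, he]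
  have hmain := depth_canonical_ge _ hd' hn' e hdimB
  obtain ⟨φ1⟩ := nonempty_HD_bcD_equiv (Localization.AtPrime p.asIdeal) ω (-(d : ℤ))
  let φ2 : Dual.HD (Localization.AtPrime p.asIdeal)
      (((bcD A (Localization.AtPrime p.asIdeal)).obj ω)⟦-(dp : ℤ)⟧) (-(e : ℤ))
        ≃ₗ[Localization.AtPrime p.asIdeal]
      Dual.HD (Localization.AtPrime p.asIdeal)
        ((bcD A (Localization.AtPrime p.asIdeal)).obj ω) (-(d : ℤ)) :=
    HDShiftEquiv _ (-(dp : ℤ)) (-(e : ℤ)) (-(d : ℤ)) (by omega)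
  let Φ : LocalizedModule p.asIdeal.primeCompl (Dual.HD A ω (-(d : ℤ)))
        ≃ₗ[Localization.AtPrime p.asIdeal]
      Dual.HD (Localization.AtPrime p.asIdeal)
        (((bcD A (Localization.AtPrime p.asIdeal)).obj ω)⟦-(dp : ℤ)⟧) (-(e : ℤ)) :=
    (eN (Dual.HD A ω (-(d : ℤ))) p).symm ≪≫ₗ φ1.symm ≪≫ₗ φ2.symm
  have hdep : LocCoh.depth (Localization.AtPrime p.asIdeal)
      (LocalizedModule p.asIdeal.primeCompl (Dual.HD A ω (-(d : ℤ)))) =
      LocCoh.depth (Localization.AtPrime p.asIdeal)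
        (Dual.HD (Localization.AtPrime p.asIdeal)
          (((bcD A (Localization.AtPrime p.asIdeal)).obj ω)⟦-(dp : ℤ)⟧) (-(e : ℤ))) :=
    Groth.Agent.Helper9.ReflKer.idealDepth_congr
      (maximalIdeal (Localization.AtPrime p.asIdeal)) Φ
  rw [hdep, hdimB]
  exact hmain

/-- a shift of a dualizing complex over a local ring is normalized -/
lemma exists_normalizing_shift (ω : Dual.D A) (hω : Dual.IsDualizing A ω) :
    ∃ n₀ : ℤ, Dual.IsDualizing A (ω⟦n₀⟧) ∧ Dual.IsNormalized A (ω⟦n₀⟧) := by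
  obtain ⟨n₀, hn1, -⟩ := DK.main ω hω (maximalIdeal A)
  refine ⟨n₀, isDualizing_shift ω hω n₀, fun i hi => ?_⟩
  haveI : Subsingleton (Dual.inD A (ResidueField A) ⟶ ω⟦n₀ + i⟧) := hn1 (n₀ + i) (by omega)
  exact (homShiftShiftEquiv (Dual.inD A (ResidueField A)) _ n₀ i (n₀ + i)
    rfl).toEquiv.subsingleton

/-- **A dualizing complex concentrated in degree `0` off a closed subset of codimension `≥ 1`
is ordinary**: the ring is equidimensional and `ω[dim A]` is normalized. -/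
theorem ordinary_of_concentrated_off (ω : Dual.D A) (hω : Dual.IsDualizing A ω) (n : ℕ)
    (hd : ringKrullDim A = n) (J : Ideal A) (hJ : 1 ≤ J.height)
    (hoff : ∀ p : PrimeSpectrum A, ¬ J ≤ p.asIdeal → ∀ i : ℤ, i ≠ 0 →
      p ∉ Module.support A (Dual.HD A ω i)) :
    EGA4.IsEquidim A ∧ Dual.IsDualizing A (ω⟦(n : ℤ)⟧) ∧ Dual.IsNormalized A (ω⟦(n : ℤ)⟧) := by
  obtain ⟨n₀, hω', hns⟩ := exists_normalizing_shift ω hω
  have hkey : ∀ Q : PrimeSpectrum A, Q.asIdeal ∈ minimalPrimes A → ∀ e : ℕ,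
      Order.coheight Q = e → (e : ℤ) = n₀ := by
    intro Q hQ e he
    have hdimq : ringKrullDim (A ⧸ Q.asIdeal) = e := by
      rw [ringKrullDim_quotient_eq_coheight, he]
      rfl
    have h1 : Nontrivial (LocalizedModule Q.asIdeal.primeCompl
        (Dual.HD A (ω⟦n₀⟧) (-(e : ℤ)))) :=
      (nontrivial_localized_HD_iff (ω⟦n₀⟧) hω' hns Q.asIdeal hQ e hdimq (-(e : ℤ))).mpr rfl
    have h2 : Q ∈ Module.support A (Dual.HD A (ω⟦n₀⟧) (-(e : ℤ))) :=
      Module.mem_support_iff.mpr h1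
    rw [(HDShiftEquiv ω n₀ (-(e : ℤ)) (n₀ - e) (by omega)).support_eq] at h2
    have hJQ : ¬ J ≤ Q.asIdeal := by
      intro hle
      have h3 := Ideal.height_mono hle
      rw [PrimeSpectrum.height_eq_orderHeight,
        Order.height_eq_zero.mpr (PrimeSpectrum.isMin_iff.mpr hQ)] at h3
      exact absurd (hJ.trans h3) (by simp)
    by_contra hne
    exact hoff Q hJQ (n₀ - e) (by omega) h2
  have hdim : Order.krullDim (PrimeSpectrum A) = n := hd
  obtain ⟨l, hl⟩ := Order.le_krullDim_iff.mp hdim.ge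
  have hmin : IsMin l.head := by
    by_contra hcon
    obtain ⟨q', hq'⟩ := not_isMin_iff.mp hcon
    have h3 := Order.LTSeries.length_le_krullDim (l.cons q' hq')
    rw [hdim, RelSeries.cons_length, hl] at h3
    have h4 : n + 1 ≤ n := by exact_mod_cast h3
    omega
  have hco : Order.coheight l.head = (n : ℕ∞) := by
    apply le_antisymm
    · have h4 := Order.coheight_le_krullDim l.head
      rw [hdim] at h4
      exact_mod_cast h4
    · have h5 := Order.length_le_coheight_head (p := l)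
      rw [hl] at h5
      exact h5
  have hn0 : n₀ = (n : ℤ) := (hkey l.head (PrimeSpectrum.isMin_iff.mp hmin) n hco).symm
  subst hn0
  refine ⟨?_, hω', hns⟩
  intro q hq
  haveI : q.IsPrime := hq.1.1
  obtain ⟨Q, rfl⟩ : ∃ Q : PrimeSpectrum A, Q.asIdeal = q := ⟨⟨q, inferInstance⟩, rfl⟩
  obtain ⟨e, he⟩ := ENat.ne_top_iff_exists.mp (Order.coheight_lt_top Q).ne
  have h6 := hkey Q hq e he.symm
  rw [ringKrullDim_quotient_eq_coheight, ← he, hd]
  have h7 : e = n := by exact_mod_cast h6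
  rw [h7]
  rfl

/-- **`H^0(ω)` is `(S_2)`, and has `J`-depth `≥ 2` if `ht J ≥ 2`.** -/
theorem s2_of_concentrated_off (ω : Dual.D A) (hω : Dual.IsDualizing A ω) (n : ℕ)
    (hd : ringKrullDim A = n) (J : Ideal A) (hJ : 1 ≤ J.height)
    (hoff : ∀ p : PrimeSpectrum A, ¬ J ≤ p.asIdeal → ∀ i : ℤ, i ≠ 0 →
      p ∉ Module.support A (Dual.HD A ω i)) :
    (EGA4.IsEquidim A ∧ Dual.IsNormalized A (ω⟦(n : ℤ)⟧) ∧
      LocCoh.HasSk 2 A (Dual.HD A ω 0)) ∧
    (2 ≤ J.height → 2 ≤ LocCoh.idealDepth J (Dual.HD A ω 0)) := by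
  obtain ⟨hEq, hω', hns⟩ := ordinary_of_concentrated_off ω hω n hd J hJ hoff
  let eK : Dual.HD A (ω⟦(n : ℤ)⟧) (-(n : ℤ)) ≃ₗ[A] Dual.HD A ω 0 :=
    HDShiftEquiv ω n (-(n : ℤ)) 0 (by omega)
  haveI : Module.Finite A (Dual.HD A (ω⟦(n : ℤ)⟧) (-(n : ℤ))) := hω'.finite_cohomology _
  refine ⟨⟨hEq, hns, Groth.Agent.Helper6.SkQuot.hasSk_of_equiv 2 eK
    (hasS2_canonical _ hω' hns n hd)⟩, fun hJ2 => ?_⟩
  rw [← Groth.Agent.Helper9.ReflKer.idealDepth_congr J eK]
  have hmain := Groth.Agent.Helper7.DepthLG.le_idealDepth_of_local J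
    (Dual.HD A (ω⟦(n : ℤ)⟧) (-(n : ℤ))) 2 (fun p hp hJp hnt => by
      obtain ⟨P, rfl⟩ : ∃ P : PrimeSpectrum A, P.asIdeal = p := ⟨⟨p, hp⟩, rfl⟩
      have hpK : P ∈ Module.support A (Dual.HD A (ω⟦(n : ℤ)⟧) (-(n : ℤ))) :=
        Module.mem_support_iff.mpr hnt
      have h1 := depth_canonical_localized_ge _ hω' hns n hd P hpK
      have h2 : (2 : ℕ∞) ≤ P.asIdeal.height := hJ2.trans (Ideal.height_mono hJp)
      rw [IsLocalization.AtPrime.ringKrullDim_eq_height P.asIdeal] at h1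
      have h2' : ((2 : ℕ) : ℕ∞) ≤ P.asIdeal.height := by exact_mod_cast h2
      have h3 : ((2 : ℕ) : WithBot ℕ∞) ≤ ((P.asIdeal.height : ℕ∞) : WithBot ℕ∞) :=
        (natCast_coe_le_coe_iff 2 _).mpr h2'
      rw [min_eq_left h3] at h1
      exact (natCast_coe_le_coe_iff 2 _).mp h1)
  exact_mod_cast hmain

end Groth.Agent.Helper6.QG
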