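import Mathlib
import Groth.Prelude.Def_W4stkcategoriessitesFib

/-!
Helper for S12230: factorisation of a cartesian functor `F : 𝒳 ⟶ 𝒴` of fibred categories as a fully faithful
functor with a left adjoint followed by a fibration.  `𝒳'` has objects `(x, y, f : y ⟶ F x)` with `f` vertical.
-/

open CategoryTheory CategoryTheory.Functor

namespace Groth.Agent.Helper6.CartFactor

universe v u v' u' v'' u''

section HomLift

variable {𝒮 : Type u'} [Category.{v'} 𝒮] {𝒵 : Type u''} [Category.{v''} 𝒵] (p : 𝒵 ⥤ 𝒮)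

lemma isHomLift_of_comp_right {R S : 𝒮} {a b c : 𝒵} (f : R ⟶ S) (φ : a ⟶ b) (ψ : b ⟶ c)
    [p.IsHomLift (𝟙 S) ψ] [p.IsHomLift f (φ ≫ ψ)] : p.IsHomLift f φ := by
  have ha := IsHomLift.domain_eq p f (φ ≫ ψ)
  have hb := IsHomLift.domain_eq p (𝟙 S) ψ
  have hc := IsHomLift.codomain_eq p (𝟙 S) ψ
  subst ha
  subst hb
  have h1 := IsHomLift.fac' p f (φ ≫ ψ)
  have h2 := IsHomLift.fac' p (𝟙 (p.obj b)) ψ
  rw [p.map_comp, h2] at h1
  simp only [Category.id_comp, eqToHom_refl] at h1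
  have h3 : p.map φ = f := by
    rw [← cancel_mono (eqToHom hc.symm)]
    exact h1
  rw [← h3]
  infer_instance

lemma isHomLift_of_comp_left {R S : 𝒮} {a b c : 𝒵} (f : R ⟶ S) (ψ : a ⟶ b) (φ : b ⟶ c)
    [p.IsHomLift (𝟙 R) ψ] [p.IsHomLift f (ψ ≫ φ)] : p.IsHomLift f φ := by
  have ha := IsHomLift.domain_eq p (𝟙 R) ψ
  have hb := IsHomLift.codomain_eq p (𝟙 R) ψ
  have hc := IsHomLift.codomain_eq p f (ψ ≫ φ)
  subst hb
  subst hc
  have h1 := IsHomLift.fac' p f (ψ ≫ φ)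
  have h2 := IsHomLift.fac' p (𝟙 (p.obj b)) ψ
  rw [p.map_comp, h2] at h1
  simp only [eqToHom_refl, Category.comp_id] at h1
  have h3 : p.map φ = f := by
    rw [← cancel_epi (eqToHom ha)]
    exact h1
  rw [← h3]
  infer_instance

end HomLift

variable {C : Type u} [Category.{v} C] {𝒳 𝒴 : BasedCategory.{v, max u v} C}

/-- objects of the factorising category -/
structure Obj (F : 𝒳 ⥤ᵇ 𝒴) where
  x : 𝒳.obj
  y : 𝒴.obj
  f : y ⟶ F.obj x
  hf : 𝒴.p.IsHomLift (𝟙 (𝒳.p.obj x)) f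

variable {F : 𝒳 ⥤ᵇ 𝒴}

attribute [instance] Obj.hf

/-- morphisms of the factorising category -/
@[ext]
structure Hom (A B : Obj F) where
  a : A.x ⟶ B.x
  b : A.y ⟶ B.y
  w : b ≫ B.f = A.f ≫ F.map a

instance : Category.{v} (Obj F) where
  Hom := Hom
  id A := ⟨𝟙 _, 𝟙 _, by simp⟩
  comp m n := ⟨m.a ≫ n.a, m.b ≫ n.b, by
    rw [Category.assoc, n.w, ← Category.assoc, m.w, Category.assoc, F.map_comp]⟩
  id_comp m := by ext <;> simp
  comp_id m := by ext <;> simp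
  assoc m n k := by ext <;> simp

@[simp] lemma id_a (A : Obj F) : (𝟙 A : A ⟶ A).a = 𝟙 A.x := rfl
@[simp] lemma id_b (A : Obj F) : (𝟙 A : A ⟶ A).b = 𝟙 A.y := rfl
@[simp] lemma comp_a {A B D : Obj F} (m : A ⟶ B) (n : B ⟶ D) : (m ≫ n).a = m.a ≫ n.a := rfl
@[simp] lemma comp_b {A B D : Obj F} (m : A ⟶ B) (n : B ⟶ D) : (m ≫ n).b = m.b ≫ n.b := rfl

@[ext] lemma hom_ext {A B : Obj F} (m n : A ⟶ B) (ha : m.a = n.a) (hb : m.b = n.b) : m = n :=
  Hom.ext ha hb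

/-- the projection to the base, through `x` -/
def P (F : 𝒳 ⥤ᵇ 𝒴) : Obj F ⥤ C where
  obj A := 𝒳.p.obj A.x
  map m := 𝒳.p.map m.a

/-- the factorising based category -/
abbrev X' (F : 𝒳 ⥤ᵇ 𝒴) : BasedCategory.{v, max u v} C := BasedCategory.ofFunctor (P F)

lemma y_over (A : Obj F) : 𝒴.p.obj A.y = 𝒳.p.obj A.x := IsHomLift.domain_eq 𝒴.p (𝟙 (𝒳.p.obj A.x)) A.f

/-- `m.a` lifts `φ` iff `m.b` does. -/
lemma lift_a_iff_lift_b {A B : Obj F} (m : A ⟶ B) {R S : C} (φ : R ⟶ S) :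
    𝒳.p.IsHomLift φ m.a ↔ 𝒴.p.IsHomLift φ m.b := by
  constructor
  · intro h
    have hR : 𝒳.p.obj A.x = R := IsHomLift.domain_eq 𝒳.p φ m.a
    have hS : 𝒳.p.obj B.x = S := IsHomLift.codomain_eq 𝒳.p φ m.a
    subst hR
    subst hS
    haveI : 𝒴.p.IsHomLift φ (m.b ≫ B.f) := by
      rw [m.w]
      exact IsHomLift.comp_lift_id_left (p := 𝒴.p) φ (F.map m.a) A.f
    exact isHomLift_of_comp_right 𝒴.p φ m.b B.f
  · intro h
    have hR : 𝒴.p.obj A.y = R := IsHomLift.domain_eq 𝒴.p φ m.b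
    have hS : 𝒴.p.obj B.y = S := IsHomLift.codomain_eq 𝒴.p φ m.b
    rw [y_over] at hR hS
    subst hR
    subst hS
    haveI : 𝒴.p.IsHomLift φ (A.f ≫ F.map m.a) := by
      rw [← m.w]
      infer_instance
    haveI : 𝒴.p.IsHomLift φ (F.map m.a) := isHomLift_of_comp_left 𝒴.p φ A.f (F.map m.a)
    exact F.isHomLift_map φ m.a

lemma P_lift_iff {A B : Obj F} (m : A ⟶ B) {R S : C} (φ : R ⟶ S) :
    (P F).IsHomLift φ m ↔ 𝒳.p.IsHomLift φ m.a := by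
  constructor
  · intro h
    exact IsHomLift.of_fac 𝒳.p φ m.a (IsHomLift.domain_eq (P F) φ m) (IsHomLift.codomain_eq (P F) φ m)
      (IsHomLift.fac (P F) φ m)
  · intro h
    exact IsHomLift.of_fac (P F) φ m (IsHomLift.domain_eq 𝒳.p φ m.a) (IsHomLift.codomain_eq 𝒳.p φ m.a)
      (IsHomLift.fac 𝒳.p φ m.a)

/-- `u : 𝒳 ⟶ 𝒳'` -/
def U (F : 𝒳 ⥤ᵇ 𝒴) : 𝒳 ⥤ᵇ X' F where
  obj x := ⟨x, F.obj x, 𝟙 _, inferInstance⟩
  map a := ⟨a, F.map a, by simp⟩
  map_id x := hom_ext _ _ rfl (F.map_id x)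
  map_comp a b := hom_ext _ _ rfl (F.map_comp a b)
  w := rfl

/-- `w : 𝒳' ⟶ 𝒳` -/
def W (F : 𝒳 ⥤ᵇ 𝒴) : X' F ⥤ᵇ 𝒳 where
  obj A := A.x
  map m := m.a
  w := rfl

/-- underlying functor of `v` -/
def Vf (F : 𝒳 ⥤ᵇ 𝒴) : Obj F ⥤ 𝒴.obj where
  obj A := A.y
  map m := m.b

lemma Vf_w (F : 𝒳 ⥤ᵇ 𝒴) : Vf F ⋙ 𝒴.p = P F := by
  refine CategoryTheory.Functor.ext (fun A => y_over A) (fun A B m => ?_)
  haveI : 𝒴.p.IsHomLift (𝒳.p.map m.a) m.b := (lift_a_iff_lift_b m _).1 inferInstance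
  exact IsHomLift.fac' 𝒴.p (𝒳.p.map m.a) m.b

/-- `v : 𝒳' ⟶ 𝒴` -/
def V (F : 𝒳 ⥤ᵇ 𝒴) : X' F ⥤ᵇ 𝒴 where
  toFunctor := Vf F
  w := Vf_w F

lemma comp_U_V (F : 𝒳 ⥤ᵇ 𝒴) : BasedFunctor.comp (U F) (V F) = F := rfl

/-- (A) a morphism with strongly cartesian components is strongly cartesian -/
lemma isSC_of_components (hF : FibCat.PreservesStronglyCartesian F) {A B : Obj F} (m : A ⟶ B)
    {R S : C} (φ : R ⟶ S) [h1 : 𝒳.p.IsStronglyCartesian φ m.a] [h2 : 𝒴.p.IsStronglyCartesian φ m.b] :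
    (P F).IsStronglyCartesian φ m := by
  haveI hFa : 𝒴.p.IsStronglyCartesian φ (F.map m.a) := hF φ m.a h1
  have hAR : 𝒳.p.obj A.x = R := IsHomLift.domain_eq 𝒳.p φ m.a
  haveI : (P F).IsHomLift φ m := (P_lift_iff m φ).2 inferInstance
  refine ⟨?_⟩
  intro A' g m' hm'
  haveI ha' : 𝒳.p.IsHomLift (g ≫ φ) m'.a := (P_lift_iff m' _).1 hm'
  haveI hb' : 𝒴.p.IsHomLift (g ≫ φ) m'.b := (lift_a_iff_lift_b m' _).1 ha'
  let χa := IsStronglyCartesian.map 𝒳.p φ m.a (rfl : g ≫ φ = g ≫ φ) m'.a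
  let χb := IsStronglyCartesian.map 𝒴.p φ m.b (rfl : g ≫ φ = g ≫ φ) m'.b
  have hw : χb ≫ A.f = A'.f ≫ F.map χa := by
    haveI : 𝒴.p.IsHomLift g (χb ≫ A.f) := IsHomLift.comp_lift_id_right' 𝒴.p g χb (𝒳.p.obj A.x) A.f
    haveI : 𝒴.p.IsHomLift g (A'.f ≫ F.map χa) := IsHomLift.comp_lift_id_left' 𝒴.p (𝒳.p.obj A'.x) A'.f g (F.map χa)
    apply IsStronglyCartesian.ext 𝒴.p φ (F.map m.a) g
    rw [Category.assoc, ← m.w, ← Category.assoc, IsStronglyCartesian.fac, Category.assoc, ← F.map_comp,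
      IsStronglyCartesian.fac, m'.w]
  refine ⟨⟨χa, χb, hw⟩, ⟨(P_lift_iff _ g).2 (inferInstanceAs (𝒳.p.IsHomLift g χa)), ?_⟩, ?_⟩
  · apply hom_ext
    · exact IsStronglyCartesian.fac 𝒳.p φ m.a rfl m'.a
    · exact IsStronglyCartesian.fac 𝒴.p φ m.b rfl m'.b
  · rintro χ' ⟨h1', h2'⟩
    haveI : 𝒳.p.IsHomLift g χ'.a := (P_lift_iff χ' g).1 h1'
    haveI : 𝒴.p.IsHomLift g χ'.b := (lift_a_iff_lift_b χ' g).1 inferInstance
    apply hom_ext
    · exact IsStronglyCartesian.map_uniq 𝒳.p φ m.a rfl m'.a χ'.a (congrArg Hom.a h2')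
    · exact IsStronglyCartesian.map_uniq 𝒴.p φ m.b rfl m'.b χ'.b (congrArg Hom.b h2')

section Fibered

variable [h𝒳 : 𝒳.p.IsFibered] [h𝒴 : 𝒴.p.IsFibered] (hF : FibCat.PreservesStronglyCartesian F)

include h𝒳 h𝒴 hF

/-- (B) existence of lifts with strongly cartesian components -/
lemma exists_lift (B : Obj F) {R : C} (φ : R ⟶ 𝒳.p.obj B.x) :
    ∃ (A : Obj F) (m : A ⟶ B), 𝒳.p.IsStronglyCartesian φ m.a ∧ 𝒴.p.IsStronglyCartesian φ m.b := by
  obtain ⟨x', a, ha⟩ := IsPreFibered.exists_isCartesian 𝒳.p (rfl : 𝒳.p.obj B.x = _) φ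
  obtain ⟨y', b, hb⟩ := IsPreFibered.exists_isCartesian 𝒴.p (y_over B) φ
  haveI hFa : 𝒴.p.IsStronglyCartesian φ (F.map a) := hF φ a inferInstance
  haveI : 𝒴.p.IsHomLift φ (b ≫ B.f) := IsHomLift.comp_lift_id_right' 𝒴.p φ b (𝒳.p.obj B.x) B.f
  have hx' : 𝒳.p.obj x' = R := IsHomLift.domain_eq 𝒳.p φ a
  let f' := IsStronglyCartesian.map 𝒴.p φ (F.map a) (Category.id_comp φ).symm (b ≫ B.f)
  have hf' : 𝒴.p.IsHomLift (𝟙 (𝒳.p.obj x')) f' := by
    rw [hx']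
    infer_instance
  exact ⟨⟨x', y', f', hf'⟩,
    ⟨a, b, (IsStronglyCartesian.fac 𝒴.p φ (F.map a) (Category.id_comp φ).symm (b ≫ B.f)).symm⟩,
    inferInstanceAs (𝒳.p.IsStronglyCartesian φ a), inferInstanceAs (𝒴.p.IsStronglyCartesian φ b)⟩

lemma P_isFibered : (P F).IsFibered := by
  apply IsFibered.of_exists_isStronglyCartesian
  intro B R φ
  obtain ⟨A, m, h1, h2⟩ := exists_lift hF B φ
  exact ⟨A, m, isSC_of_components (h1 := h1) (h2 := h2) hF m φ⟩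

/-- (C) components of a strongly cartesian morphism are strongly cartesian -/
lemma components_of_isSC {A B : Obj F} (m : A ⟶ B) {R S : C} (φ : R ⟶ S)
    [hm : (P F).IsStronglyCartesian φ m] :
    𝒳.p.IsStronglyCartesian φ m.a ∧ 𝒴.p.IsStronglyCartesian φ m.b := by
  have hS : 𝒳.p.obj B.x = S := IsHomLift.codomain_eq (P F) φ m
  subst hS
  obtain ⟨A₀, m₀, h1, h2⟩ := exists_lift hF B φ
  haveI := isSC_of_components hF m₀ φ
  let θ : A ≅ A₀ := IsCartesian.domainUniqueUpToIso (P F) φ m₀ m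
  have hθ : θ.hom ≫ m₀ = m := IsCartesian.fac (P F) φ m₀ m
  haveI hθl : (P F).IsHomLift (𝟙 R) θ.hom := inferInstance
  haveI hθa : 𝒳.p.IsHomLift (𝟙 R) θ.hom.a := (P_lift_iff θ.hom _).1 hθl
  haveI hθb : 𝒴.p.IsHomLift (𝟙 R) θ.hom.b := (lift_a_iff_lift_b θ.hom _).1 hθa
  haveI : IsIso θ.hom.a := ⟨θ.inv.a, congrArg Hom.a θ.hom_inv_id, congrArg Hom.a θ.inv_hom_id⟩
  haveI : IsIso θ.hom.b := ⟨θ.inv.b, congrArg Hom.b θ.hom_inv_id, congrArg Hom.b θ.inv_hom_id⟩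
  have e1 : m.a = θ.hom.a ≫ m₀.a := (congrArg Hom.a hθ).symm
  have e2 : m.b = θ.hom.b ≫ m₀.b := (congrArg Hom.b hθ).symm
  constructor
  · rw [e1, ← Category.id_comp φ]
    infer_instance
  · rw [e2, ← Category.id_comp φ]
    infer_instance

omit h𝒳 h𝒴 in
lemma preserves_U : FibCat.PreservesStronglyCartesian (U F) := by
  intro R S φ a b α hα
  haveI : 𝒳.p.IsStronglyCartesian φ ((U F).map α).a := hα
  haveI : 𝒴.p.IsStronglyCartesian φ ((U F).map α).b := hF φ α hα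
  exact isSC_of_components hF ((U F).map α) φ

lemma preserves_V : FibCat.PreservesStronglyCartesian (V F) := by
  intro R S φ A B m hm
  haveI : (P F).IsStronglyCartesian φ m := hm
  exact (components_of_isSC hF m φ).2

lemma preserves_W : FibCat.PreservesStronglyCartesian (W F) := by
  intro R S φ A B m hm
  haveI : (P F).IsStronglyCartesian φ m := hm
  exact (components_of_isSC hF m φ).1

end Fibered

instance U_faithful : (U F).toFunctor.Faithful where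
  map_injective h := congrArg Hom.a h

instance U_full : (U F).toFunctor.Full where
  map_surjective {x x'} m := by
    refine ⟨m.a, ?_⟩
    apply hom_ext
    · rfl
    · have := m.w
      change m.b ≫ 𝟙 _ = 𝟙 _ ≫ F.map m.a at this
      rw [Category.comp_id, Category.id_comp] at this
      exact this.symm

/-- the adjunction `w ⊣ u` -/
def adj (F : 𝒳 ⥤ᵇ 𝒴) : (W F).toFunctor ⊣ (U F).toFunctor :=
  Adjunction.mkOfHomEquiv
    { homEquiv := fun A x =>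
        { toFun := fun a => ⟨a, A.f ≫ F.map a, Category.comp_id _⟩
          invFun := fun m => m.a
          left_inv := fun a => rfl
          right_inv := fun m => by
            apply hom_ext
            · rfl
            · have := m.w
              change m.b ≫ 𝟙 _ = A.f ≫ F.map m.a at this
              rw [Category.comp_id] at this
              exact this.symm }
      homEquiv_naturality_left_symm := fun n m => rfl
      homEquiv_naturality_right := fun {A x x'} a a' => by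
        apply hom_ext
        · rfl
        · exact (congrArg (A.f ≫ ·) (F.map_comp a a')).trans (Category.assoc _ _ _).symm }

lemma Vf_lift_iff {A B : Obj F} (m : A ⟶ B) (g : A.y ⟶ B.y) : (Vf F).IsHomLift g m ↔ m.b = g := by
  constructor
  · intro h
    exact (@IsHomLift.eq_of_isHomLift _ _ _ _ (Vf F) A B g m h).symm
  · rintro rfl
    exact inferInstanceAs ((Vf F).IsHomLift ((Vf F).map m) m)

section VFib

variable [h𝒳 : 𝒳.p.IsFibered] (hF : FibCat.PreservesStronglyCartesian F)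

include h𝒳 hF

lemma Vf_isFibered : (Vf F).IsFibered := by
  apply IsFibered.of_exists_isStronglyCartesian
  intro B y' g
  change y' ⟶ B.y at g
  have hBy : 𝒴.p.obj B.y = 𝒳.p.obj B.x := y_over B
  let φ : 𝒴.p.obj y' ⟶ 𝒳.p.obj B.x := 𝒴.p.map g ≫ eqToHom hBy
  haveI hg : 𝒴.p.IsHomLift φ g := inferInstance
  obtain ⟨x', a, ha⟩ := IsPreFibered.exists_isCartesian 𝒳.p (rfl : 𝒳.p.obj B.x = _) φ
  haveI hFa : 𝒴.p.IsStronglyCartesian φ (F.map a) := hF φ a inferInstance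
  haveI : 𝒴.p.IsHomLift φ (g ≫ B.f) := IsHomLift.comp_lift_id_right' 𝒴.p φ g (𝒳.p.obj B.x) B.f
  have hx' : 𝒳.p.obj x' = 𝒴.p.obj y' := IsHomLift.domain_eq 𝒳.p φ a
  let f' := IsStronglyCartesian.map 𝒴.p φ (F.map a) (Category.id_comp φ).symm (g ≫ B.f)
  have hf' : 𝒴.p.IsHomLift (𝟙 (𝒳.p.obj x')) f' := by
    rw [hx']
    infer_instance
  have hfac : f' ≫ F.map a = g ≫ B.f :=
    IsStronglyCartesian.fac 𝒴.p φ (F.map a) (Category.id_comp φ).symm (g ≫ B.f)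
  let A : Obj F := ⟨x', y', f', hf'⟩
  let m : A ⟶ B := ⟨a, g, hfac.symm⟩
  refine ⟨A, m, ?_⟩
  have hgm : (Vf F).IsHomLift g m := (Vf_lift_iff m g).2 rfl
  refine { toIsHomLift := hgm, universal_property' := ?_ }
  intro A' h m' hm'
  change A'.y ⟶ y' at h
  have hb' : m'.b = h ≫ g := (Vf_lift_iff m' (h ≫ g)).1 hm'
  let ψ : 𝒴.p.obj A'.y ⟶ 𝒴.p.obj y' := 𝒴.p.map h
  haveI : 𝒴.p.IsHomLift (ψ ≫ φ) m'.b := by
    rw [hb']
    infer_instance
  haveI : 𝒳.p.IsHomLift (ψ ≫ φ) m'.a := (lift_a_iff_lift_b m' _).2 inferInstance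
  let χa := IsStronglyCartesian.map 𝒳.p φ a (rfl : ψ ≫ φ = ψ ≫ φ) m'.a
  have hχa : χa ≫ a = m'.a := IsStronglyCartesian.fac 𝒳.p φ a rfl m'.a
  have hw : h ≫ A.f = A'.f ≫ F.map χa := by
    haveI : 𝒴.p.IsHomLift (𝟙 (𝒴.p.obj y')) f' := inferInstance
    haveI : 𝒴.p.IsHomLift ψ (h ≫ f') := IsHomLift.comp_lift_id_right' 𝒴.p ψ h (𝒴.p.obj y') f'
    haveI : 𝒴.p.IsHomLift ψ (A'.f ≫ F.map χa) :=
      IsHomLift.comp_lift_id_left' 𝒴.p (𝒳.p.obj A'.x) A'.f ψ (F.map χa)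
    apply IsStronglyCartesian.ext 𝒴.p φ (F.map a) ψ
    change (h ≫ f') ≫ F.map a = _
    rw [Category.assoc, hfac, ← Category.assoc, ← hb', m'.w, Category.assoc, ← F.map_comp, hχa]
  refine ⟨⟨χa, h, hw⟩, ⟨?_, ?_⟩, ?_⟩
  · exact (Vf_lift_iff (⟨χa, h, hw⟩ : A' ⟶ A) h).2 rfl
  · apply hom_ext
    · exact hχa
    · exact hb'.symm
  · rintro χ' ⟨h1', h2'⟩
    have hb'' : χ'.b = h := (Vf_lift_iff χ' h).1 h1'
    haveI : 𝒴.p.IsHomLift ψ χ'.b := by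
      rw [hb'']
      infer_instance
    haveI : 𝒳.p.IsHomLift ψ χ'.a := (lift_a_iff_lift_b χ' ψ).2 inferInstance
    apply hom_ext
    · exact IsStronglyCartesian.map_uniq 𝒳.p φ a rfl m'.a χ'.a (congrArg Hom.a h2')
    · exact hb''

end VFib

end Groth.Agent.Helper6.CartFactor
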