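import Mathlib
import Groth.Prelude.Def_BigSite2
import Groth.Prelude.Def_AlgSp
import Groth.Agent.Helper5.YonCoprod

/-!
# Geometry of the big fppf site used in Cartan's criterion

* `exists_affine_family`: a covering sieve of an affine object contains a finite jointly
  surjective family of affine flat lfp objects.
* `exists_single_cover`: sections of the quotient in a short exact sequence of abelian sheaves over
  an affine object lift along a single affine flat lfp surjective covering.
-/

set_option autoImplicit false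
set_option linter.style.haveILetI false
set_option linter.unusedSectionVars false
set_option linter.unusedVariables false
set_option linter.unusedSimpArgs false

universe u

open CategoryTheory CategoryTheory.Limits Opposite AlgebraicGeometry

namespace Groth.Agent.Helper6.CartanGenC

open Groth.Agent.Helper5.YonCoprod

variable {S₀ : Scheme.{u}}

/-- the fppf morphism property -/
abbrev Pf : MorphismProperty Scheme.{u} := @Flat ⊓ @LocallyOfFinitePresentation

/-- a covering sieve of an affine object of the big fppf site contains a finite jointly surjective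
family of affine flat lfp objects -/
theorem exists_affine_family (V : Over S₀) [IsAffine V.left] (T : Sieve V)
    (hT : T ∈ AlgSp.J S₀ V) :
    ∃ (ι : Type u) (_ : Finite ι) (W : ι → Over S₀) (c : ∀ j, W j ⟶ V), (∀ j, T (c j)) ∧
      (∀ j, IsAffine (W j).left) ∧ (∀ j, Flat (c j).left) ∧
      (∀ j, LocallyOfFinitePresentation (c j).left) ∧
      ∀ x : V.left, ∃ j, x ∈ Set.range (c j).left := by
  classical
  rw [GrothendieckTopology.mem_over_iff] at hT
  haveI : (Pf.{u}).ContainsIdentities := ⟨fun _ => ⟨inferInstance, inferInstance⟩⟩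
  haveI : (Scheme.fppfPrecoverage.{u}).HasIsos :=
    inferInstanceAs (Scheme.precoverage Pf).HasIsos
  haveI : (Scheme.fppfPrecoverage.{u}).HasPullbacks :=
    inferInstanceAs (Scheme.precoverage Pf).HasPullbacks
  obtain ⟨R, hR, hle⟩ := (Precoverage.mem_toGrothendieck_iff_of_isStableUnderComposition).1 hT
  have hex : ∀ x : V.left, ∃ (Y : Scheme.{u}) (g : Y ⟶ V.left), R g ∧ x ∈ Set.range g :=
    fun x => Scheme.JointlySurjective.exists_eq (K := Scheme.precoverage Pf) R hR x
  choose Y g hg hx using hex
  choose y hy using hx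
  have hA : ∀ x : V.left, ∃ A : (Y x).Opens, IsAffineOpen A ∧ y x ∈ A := by
    intro x
    obtain ⟨A, hA, hxA, -⟩ := TopologicalSpace.Opens.isBasis_iff_nbhd.mp
      (Y x).isBasis_affineOpens (show y x ∈ (⊤ : (Y x).Opens) from trivial)
    exact ⟨A, hA, hxA⟩
  choose A hA hyA using hA
  have hP : ∀ x, Pf (g x) := fun x => hR.2 (hg x)
  have hfl : ∀ x, Flat ((A x).ι ≫ g x) := by
    intro x
    haveI : Flat (g x) := (hP x).1
    infer_instance
  have hlfp : ∀ x, LocallyOfFinitePresentation ((A x).ι ≫ g x) := by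
    intro x
    haveI : LocallyOfFinitePresentation (g x) := (hP x).2
    infer_instance
  have hopen : ∀ x, IsOpen (Set.range ((A x).ι ≫ g x)) := by
    intro x
    haveI := hfl x
    haveI := hlfp x
    exact ((A x).ι ≫ g x).isOpenMap.isOpen_range
  have hmem : ∀ x : V.left, x ∈ Set.range ((A x).ι ≫ g x) := by
    intro x
    refine ⟨⟨y x, hyA x⟩, ?_⟩
    rw [Scheme.Hom.comp_apply]
    exact hy x
  have hc : (Set.univ : Set V.left) ⊆ ⋃ x, Set.range ((A x).ι ≫ g x) := by
    intro x _
    exact Set.mem_iUnion.mpr ⟨x, hmem x⟩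
  obtain ⟨t, ht⟩ := isCompact_univ.elim_finite_subcover _ hopen hc
  let W : t → Over S₀ := fun j => Over.mk (((A j.1).ι ≫ g j.1) ≫ V.hom)
  let c : ∀ j : t, W j ⟶ V := fun j =>
    (Over.homMk (A j.1).ι (by simp) :
      Over.mk (((A j.1).ι ≫ g j.1) ≫ V.hom) ⟶ Over.mk (g j.1 ≫ V.hom)) ≫
    (Over.homMk (g j.1) : Over.mk (g j.1 ≫ V.hom) ⟶ V)
  have hcl : ∀ j : t, (c j).left = (A j.1).ι ≫ g j.1 := fun j => rfl
  refine ⟨t, inferInstance, W, c, fun j => ?_, fun j => ?_, fun j => ?_, fun j => ?_, fun x => ?_⟩
  · apply T.downward_closed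
    exact (Sieve.overEquiv_iff _ _).1 (hle _ _ (hg j.1))
  · exact hA j.1
  · rw [hcl]; exact hfl j.1
  · rw [hcl]; exact hlfp j.1
  · have := ht (Set.mem_univ x)
    simp only [Set.mem_iUnion] at this
    obtain ⟨k, hk, hxk⟩ := this
    exact ⟨⟨k, hk⟩, by rw [hcl]; exact hxk⟩

section Single

variable (V : Over S₀) {ι : Type u} (W : ι → Over S₀) (c : ∀ j, W j ⟶ V)

/-- the morphism from the coproduct -/
noncomputable def sigmaDesc : sigmaOver W ⟶ V :=
  Over.homMk (Sigma.desc (fun j => (c j).left)) (by
    apply Sigma.hom_ext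
    intro j
    simp [sigmaOver])

lemma sigmaDesc_left : (sigmaDesc V W c).left = Sigma.desc (fun j => (c j).left) := rfl

lemma sigmaι_sigmaDesc (j : ι) : sigmaι W j ≫ sigmaDesc V W c = c j := by
  apply Over.OverMorphism.ext
  exact Sigma.ι_desc _ j

end Single

/-- the sheaf of sets underlying an abelian sheaf -/
noncomputable abbrev und (F : Sheaf (AlgSp.J S₀) AddCommGrpCat.{u + 1}) : AlgSp.Sp S₀ :=
  (sheafCompose (AlgSp.J S₀) (forget AddCommGrpCat.{u + 1})).obj F

/-- sections of the quotient in a short exact sequence of abelian sheaves over an affine object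
of the big fppf site lift along a single affine flat lfp surjective covering -/
theorem exists_single_cover (V : Over S₀) [IsAffine V.left]
    (S : ShortComplex (Sheaf (AlgSp.J S₀) AddCommGrpCat.{u + 1})) (hS : S.ShortExact)
    (s : S.X₃.obj.obj (op V)) :
    ∃ X : Over V, IsAffine X.left.left ∧ Flat X.hom.left ∧
      LocallyOfFinitePresentation X.hom.left ∧ Surjective X.hom.left ∧
      (Presheaf.imageSieve S.g.hom s).arrows X.hom := by
  haveI : Epi S.g := hS.epi_g
  haveI : Sheaf.IsLocallySurjective S.g :=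
    (Sheaf.isLocallySurjective_iff_epi' (φ := S.g)).2 inferInstance
  obtain ⟨ι, hι, W, c, hcT, hWa, hcf, hcp, hcs⟩ := exists_affine_family V
    (Presheaf.imageSieve S.g.hom s) (Presheaf.imageSieve_mem (AlgSp.J S₀) S.g.hom s)
  choose t ht using hcT
  obtain ⟨τ, hτ, -⟩ := existsUnique_section W (und S.X₂) t
  refine ⟨Over.mk (sigmaDesc V W c), ?_, ?_, ?_, ?_, ?_⟩
  · haveI := hWa
    show IsAffine (∐ fun j => (W j).left)
    infer_instance
  · show Flat (Sigma.desc (fun j => (c j).left))
    exact IsZariskiLocalAtSource.sigmaDesc hcf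
  · show LocallyOfFinitePresentation (Sigma.desc (fun j => (c j).left))
    exact IsZariskiLocalAtSource.sigmaDesc hcp
  · show Surjective (Sigma.desc (fun j => (c j).left))
    refine ⟨fun x => ?_⟩
    obtain ⟨j, w, hw⟩ := hcs x
    refine ⟨Sigma.ι (fun j => (W j).left) j w, ?_⟩
    rw [← Scheme.Hom.comp_apply, Sigma.ι_desc]
    exact hw
  · refine ⟨τ, ?_⟩
    show S.g.hom.app (op (sigmaOver W)) τ = S.X₃.obj.map (sigmaDesc V W c).op s
    have hu := existsUnique_section W (und S.X₃) (fun j => S.X₃.obj.map (c j).op s)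
    refine hu.unique (fun j => ?_) (fun j => ?_)
    · show S.X₃.obj.map (sigmaι W j).op (S.g.hom.app (op (sigmaOver W)) τ) = _
      rw [← NatTrans.naturality_apply]
      have h1 : S.X₂.obj.map (sigmaι W j).op τ = t j := hτ j
      rw [h1]
      exact ht j
    · show S.X₃.obj.map (sigmaι W j).op (S.X₃.obj.map (sigmaDesc V W c).op s) = _
      rw [← ConcreteCategory.comp_apply, ← S.X₃.obj.map_comp, ← op_comp, sigmaι_sigmaDesc]

end Groth.Agent.Helper6.CartanGenC
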