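import Mathlib
import Groth.Agent.Helper6.CartanGenB
import Groth.Agent.Helper6.CartanGenC
import Groth.Agent.Helper8.CechFG

/-!
# Čech exactness of adequate modules on affine objects of the localised big fppf site, and
vanishing of the higher cohomology of adequate modules over affine objects
-/

set_option autoImplicit false
set_option linter.style.haveILetI false
set_option linter.unusedSectionVars false
set_option linter.unusedVariables false
set_option linter.unusedSimpArgs false

universe u

open CategoryTheory CategoryTheory.Limits Opposite AlgebraicGeometry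

namespace Groth.Agent.Helper6.CartanGenD

open Groth.Agent.Helper8.CechED Groth.Agent.Helper8.CechFF Groth.Agent.Helper8.CechFG
open Groth.Agent.Helper6.CartanGenB Adeq

variable {S : Scheme.{u}} (M : BigSite.Mod Scheme.fppfPrecoverage S) (U : Over S)

/-- the restriction of the abelian sheaf of `M` to the big site of `U` -/
noncomputable abbrev FU : Sheaf (AlgSp.J U.left) AddCommGrpCat.{u + 1} :=
  (BigSite.pullBig Scheme.fppfPrecoverage U.hom AddCommGrpCat.{u + 1}).obj
    ((BigSite.toAbMod Scheme.fppfPrecoverage S).obj M)

variable (V : Over U.left)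

/-- the ring of functions of `V` -/
noncomputable abbrev Rg : CommRingCat.{u} := Γ(V.left, ⊤)

/-- the structure morphism of `Spec Γ(V)` for affine `V` -/
noncomputable abbrev aV [IsAffine V.left] : Spec (Rg U V) ⟶ S :=
  V.left.isoSpec.inv ≫ V.hom ≫ U.hom

/-- the comparison functor `Over V ⥤ Over (Spec Γ(V))` -/
noncomputable abbrev PhiV [IsAffine V.left] : Over V ⥤ Over (Spec (Rg U V)) :=
  (Over.iteratedSliceEquiv V).functor ⋙ Over.map V.left.isoSpec.hom

/-- the two functors to `Over S` agree -/
noncomputable def zeta [IsAffine V.left] :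
    PhiV U V ⋙ Over.map (aV U V) ≅ Over.forget V ⋙ Over.map U.hom :=
  NatIso.ofComponents (fun W => Over.isoMk (Iso.refl _) (by
    simp [Over.iteratedSliceEquiv, Over.iteratedSliceForward]))
    (by
      intro W W' f
      apply Over.OverMorphism.ext
      simp [Over.iteratedSliceEquiv, Over.iteratedSliceForward])

/-- the comparison of presheaves -/
noncomputable def eta [IsAffine V.left] :
    (Over.forget V).op ⋙ (FU M U).obj ≅ (PhiV U V).op ⋙ PP M (aV U V) :=
  Functor.isoWhiskerRight (NatIso.op (zeta U V))
    ((BigSite.toAbMod Scheme.fppfPrecoverage S).obj M).obj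

variable (X : Over V)

/-- the algebra of functions of a member of a covering -/
@[instance_reducible]
noncomputable def algX : Algebra (Rg U V) Γ(X.left.left, ⊤) := X.hom.left.appTop.hom.toAlgebra

/-- the image of the covering in schemes over `Spec Γ(V)` -/
noncomputable def eX [IsAffine V.left] [IsAffine X.left.left] :
    letI := algX U V X
    (PhiV U V).obj X ≅ XB (R := Rg U V) Γ(X.left.left, ⊤) :=
  letI := algX U V X
  Over.isoMk X.left.left.isoSpec (by
    have h := Scheme.isoSpec_hom_naturality X.hom.left
    simp [Over.iteratedSliceEquiv, Over.iteratedSliceForward]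
    exact h)

/-- Čech exactness for an adequate module and an affine faithfully flat covering of an affine
object of the big fppf site of `U` -/
theorem compExact (hM : adequateMod Scheme.fppfPrecoverage S M) [IsAffine V.left]
    [IsAffine X.left.left] (hfl : Flat X.hom.left) (hsurj : Surjective X.hom.left) (n : ℕ)
    (c₀ : ((Over.forget V).op ⋙ (FU M U).obj).obj (op (T X (n + 1))))
    (hc : dC ((Over.forget V).op ⋙ (FU M U).obj) (n + 1) c₀ = 0) :
    ∃ b₀, dC ((Over.forget V).op ⋙ (FU M U).obj) n b₀ = c₀ := by
  letI := algX U V X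
  haveI : Module.FaithfullyFlat (Rg U V) Γ(X.left.left, ⊤) :=
    (Flat.flat_and_surjective_iff_faithfullyFlat_of_isAffine (f := X.hom.left)).1 ⟨hfl, hsurj⟩
  have hF := Groth.Agent.Helper8.Adeq2D.main_fppf M hM (Rg U V) (aV U V)
  have h' := transfer (Theta M (aV U V))
    (fun k => ThetaW_bijective M (aV U V) hF _ (affFlat_T Γ(X.left.left, ⊤) k)) n
    (compExact_GN Γ(X.left.left, ⊤) (NN M (aV U V)) n)
  exact transport (PhiV U V) (eX U V X) (eta M U V) n h' c₀ hc

/-- the higher cohomology of an adequate module over an affine object of the big fppf site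
vanishes -/
theorem main (hM : adequateMod Scheme.fppfPrecoverage S M) [IsAffine U.left] (p : ℕ) :
    Subsingleton (Sheaf.H (FU M U) (p + 1)) := by
  refine main1 (C := Over U.left) (J := AlgSp.J U.left) {V | IsAffine V.left}
    (fun V X => IsAffine V.left ∧ IsAffine X.left.left ∧ Flat X.hom.left ∧
      LocallyOfFinitePresentation X.hom.left ∧ Surjective X.hom.left)
    ?_ ?_ ?_ ?_ (T₀ := Over.mk (𝟙 U.left)) Over.mkIdTerminal ?_ (FU M U) ?_ p
  · -- iso-closed
    intro A A' i hA
    haveI : IsAffine A.left := hA
    have e : A.left ≅ A'.left := (Over.forget _).mapIso i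
    exact IsAffine.of_isIso e.inv
  · -- products
    intro V hV A A' hA hA'
    haveI : IsAffine V.left := hV
    haveI : IsAffine A.left.left := hA
    haveI : IsAffine A'.left.left := hA'
    have sq : IsPullback (prod.fst : A ⨯ A' ⟶ A).left.left (prod.snd : A ⨯ A' ⟶ A').left.left
        A.hom.left A'.hom.left :=
      (Over.isPullback_of_binaryFan_isLimit _ (limit.isLimit (pair A A'))).map
        (Over.forget U.left)
    exact IsAffine.of_isIso sq.isoPullback.hom
  · -- coverings
    rintro V X ⟨hV, hX, hfl, hfp, hsurj⟩
    refine ⟨hV, hX, ?_⟩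
    rw [GrothendieckTopology.mem_over_iff, Sieve.overEquiv_ofArrows]
    refine Precoverage.generate_mem_toGrothendieck ?_
    unfold Scheme.fppfPrecoverage
    rw [Scheme.ofArrows_mem_precoverage_iff]
    exact ⟨fun x => ⟨PUnit.unit, hsurj.surj x⟩, fun _ => ⟨hfl, hfp⟩⟩
  · -- lifting
    intro V hV S' hS' s
    haveI : IsAffine V.left := hV
    obtain ⟨X, h1, h2, h3, h4, h5⟩ := CartanGenC.exists_single_cover V S' hS' s
    exact ⟨X, ⟨hV, h1, h2, h3, h4⟩, h5⟩
  · show IsAffine U.left
    infer_instance
  · rintro V X ⟨hV, hX, hfl, hfp, hsurj⟩ n c₀ hc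
    haveI : IsAffine V.left := hV
    haveI : IsAffine X.left.left := hX
    exact compExact M U V X hM hfl hsurj n c₀ hc

end Groth.Agent.Helper6.CartanGenD
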