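import Mathlib

set_option autoImplicit false
set_option linter.style.haveILetI false
set_option linter.unusedSectionVars false

/-!
# Finite point sets in `P³` with the Cayley–Bacharach property

`CB Z n`: every form of degree `n` vanishing at all points of `Z` but one vanishes at that point.
* `card_ge`: a nonempty `CB n` set has at least `n + 2` points;
* `collinear`: a `CB n` set with at most `2n + 1` points lies on a line;
* `plane_or_lines`: a `CB n` set with at most `3n + 1` points is coplanar or lies on two skew lines.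
-/

namespace Groth.Agent.Helper6.CayBach

open MvPolynomial Module

variable {k : Type*} [Field k]

/-- standard basis vectors -/
def ee (j : Fin 4) : Fin 4 → k := fun l => if j = l then 1 else 0

/-- polynomial attached to a linear functional -/
noncomputable def lin (p : (Fin 4 → k) →ₗ[k] k) : MvPolynomial (Fin 4) k :=
  ∑ j, C (p (ee j)) * X j

theorem apply_eq_sum (p : (Fin 4 → k) →ₗ[k] k) (w : Fin 4 → k) :
    ∑ i, w i * p (ee i) = p w := by
  rw [LinearMap.pi_apply_eq_sum_univ p w]
  rfl

theorem lin_homog (p : (Fin 4 → k) →ₗ[k] k) : (lin p).IsHomogeneous 1 := by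
  unfold lin
  apply IsHomogeneous.sum
  intro j _
  have h := (isHomogeneous_C (Fin 4) (p (ee j))).mul (isHomogeneous_X k j)
  rw [zero_add] at h
  exact h

theorem eval_lin (p : (Fin 4 → k) →ₗ[k] k) (v : Fin 4 → k) : eval v (lin p) = p v := by
  unfold lin
  rw [map_sum, ← apply_eq_sum p v]
  refine Finset.sum_congr rfl fun j _ => ?_
  rw [map_mul, eval_C, eval_X, mul_comm]

/-- the Cayley–Bacharach property in degree `n` -/
def CB (Z : Finset (Projectivization k (Fin 4 → k))) (n : ℕ) : Prop :=
  ∀ z ∈ Z, ∀ p : MvPolynomial (Fin 4) k, p.IsHomogeneous n →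
    (∀ z' ∈ Z, z' ≠ z → MvPolynomial.eval z'.rep p = 0) → MvPolynomial.eval z.rep p = 0

open Classical in
/-- the points of `Z` off the hyperplane `b = 0` -/
noncomputable def off (Z : Finset (Projectivization k (Fin 4 → k))) (b : (Fin 4 → k) →ₗ[k] k) :
    Finset (Projectivization k (Fin 4 → k)) :=
  Z.filter (fun z => b z.rep ≠ 0)

open Classical in
theorem mem_off {Z : Finset (Projectivization k (Fin 4 → k))} {b : (Fin 4 → k) →ₗ[k] k}
    {z : Projectivization k (Fin 4 → k)} : z ∈ off Z b ↔ z ∈ Z ∧ b z.rep ≠ 0 := by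
  unfold off
  rw [Finset.mem_filter]

open Classical in
theorem off_subset (Z : Finset (Projectivization k (Fin 4 → k))) (b : (Fin 4 → k) →ₗ[k] k) :
    off Z b ⊆ Z := Finset.filter_subset _ _

open Classical in
/-- the points of `Z` in the subspace `W` -/
noncomputable def inW (Z : Finset (Projectivization k (Fin 4 → k)))
    (W : Submodule k (Fin 4 → k)) : Finset (Projectivization k (Fin 4 → k)) :=
  Z.filter (fun z => z.rep ∈ W)

open Classical in
theorem mem_inW {Z : Finset (Projectivization k (Fin 4 → k))} {W : Submodule k (Fin 4 → k)}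
    {z : Projectivization k (Fin 4 → k)} : z ∈ inW Z W ↔ z ∈ Z ∧ z.rep ∈ W := by
  unfold inW
  rw [Finset.mem_filter]

open Classical in
theorem inW_subset (Z : Finset (Projectivization k (Fin 4 → k))) (W : Submodule k (Fin 4 → k)) :
    inW Z W ⊆ Z := Finset.filter_subset _ _

theorem submodule_le_iff (z : Projectivization k (Fin 4 → k)) (W : Submodule k (Fin 4 → k)) :
    z.submodule ≤ W ↔ z.rep ∈ W := by
  rw [Projectivization.submodule_eq, Submodule.span_singleton_le_iff_mem]

theorem card_add_le {α : Type*} {Z A B : Finset α} (hA : A ⊆ Z) (hB : B ⊆ Z)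
    (hd : Disjoint A B) : A.card + B.card ≤ Z.card := by
  classical
  rw [← Finset.card_union_of_disjoint hd]
  exact Finset.card_le_card (Finset.union_subset hA hB)

theorem card_add_add_le {α : Type*} {Z A B C : Finset α} (hA : A ⊆ Z) (hB : B ⊆ Z) (hC : C ⊆ Z)
    (hAB : Disjoint A B) (hAC : Disjoint A C) (hBC : Disjoint B C) :
    A.card + B.card + C.card ≤ Z.card := by
  classical
  have h1 : Disjoint (A ∪ B) C := Finset.disjoint_union_left.2 ⟨hAC, hBC⟩
  rw [← Finset.card_union_of_disjoint hAB, ← Finset.card_union_of_disjoint h1]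
  exact Finset.card_le_card (Finset.union_subset (Finset.union_subset hA hB) hC)

/-- residual property: removing a hyperplane lowers the degree by one -/
theorem residual {Z : Finset (Projectivization k (Fin 4 → k))} {n : ℕ} (h : CB Z (n + 1))
    (b : (Fin 4 → k) →ₗ[k] k) : CB (off Z b) n := by
  intro z hz p hp hvan
  obtain ⟨hzZ, hbz⟩ := mem_off.1 hz
  have hq : (lin b * p).IsHomogeneous (n + 1) := by
    have := (lin_homog b).mul hp
    rwa [add_comm] at this
  have h1 : eval z.rep (lin b * p) = 0 := by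
    apply h z hzZ (lin b * p) hq
    intro z' hz' hne
    rw [map_mul, eval_lin]
    by_cases hb : b z'.rep = 0
    · rw [hb, zero_mul]
    · rw [hvan z' (mem_off.2 ⟨hz', hb⟩) hne, mul_zero]
  rw [map_mul, eval_lin] at h1
  exact (mul_eq_zero.1 h1).resolve_left hbz

theorem rep_notMem_span {z z' : Projectivization k (Fin 4 → k)} (h : z ≠ z') :
    z.rep ∉ Submodule.span k {z'.rep} := by
  intro hmem
  obtain ⟨a, ha⟩ := Submodule.mem_span_singleton.1 hmem
  apply h
  rw [← Projectivization.mk_rep z, ← Projectivization.mk_rep z']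
  exact (Projectivization.mk_eq_mk_iff' k _ _ _ _).2 ⟨a, ha⟩

theorem exists_sep {z z' : Projectivization k (Fin 4 → k)} (h : z ≠ z') :
    ∃ b : (Fin 4 → k) →ₗ[k] k, b z'.rep = 0 ∧ b z.rep ≠ 0 := by
  obtain ⟨b, hb1, hb2⟩ := Submodule.exists_le_ker_of_notMem (rep_notMem_span h)
  exact ⟨b, LinearMap.mem_ker.1 (hb2 (Submodule.mem_span_singleton_self _)), hb1⟩

theorem exists_ne_zero_at (z : Projectivization k (Fin 4 → k)) :
    ∃ b : (Fin 4 → k) →ₗ[k] k, b z.rep ≠ 0 := by
  have h : z.rep ∉ (⊥ : Submodule k (Fin 4 → k)) := by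
    rw [Submodule.mem_bot]; exact z.rep_nonzero
  obtain ⟨b, hb1, -⟩ := Submodule.exists_le_ker_of_notMem h
  exact ⟨b, hb1⟩

/-- a nonempty `CB n` set has at least `n + 2` points -/
theorem card_ge : ∀ (n : ℕ) (Z : Finset (Projectivization k (Fin 4 → k))), CB Z n → Z.Nonempty →
    n + 2 ≤ Z.card := by
  intro n
  induction n with
  | zero =>
    intro Z h hne
    obtain ⟨z, hz⟩ := hne
    by_contra hcon
    have hle : Z.card ≤ 1 := by omega
    have h1 := h z hz (C 1) (isHomogeneous_C _ _)
      (fun z' hz' hne' => absurd (Finset.card_le_one.1 hle z' hz' z hz) hne')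
    rw [eval_C] at h1
    exact one_ne_zero h1
  | succ n ih =>
    intro Z h hne
    obtain ⟨z0, hz0⟩ := hne
    by_cases hex : ∃ z1 ∈ Z, z1 ≠ z0
    · obtain ⟨z1, hz1, hne1⟩ := hex
      obtain ⟨b, hb1, hb0⟩ := exists_sep (Ne.symm hne1)
      have h1 := ih (off Z b) (residual h b) ⟨z0, mem_off.2 ⟨hz0, hb0⟩⟩
      have h2 : off Z b ⊂ Z := by
        refine (Finset.ssubset_iff_of_subset (off_subset Z b)).2 ⟨z1, hz1, ?_⟩
        intro hmem
        exact (mem_off.1 hmem).2 hb1
      have := Finset.card_lt_card h2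
      omega
    · push Not at hex
      obtain ⟨b, hb0⟩ := exists_ne_zero_at z0
      have h1 := ih (off Z b) (residual h b) ⟨z0, mem_off.2 ⟨hz0, hb0⟩⟩
      have h2 : Z.card ≤ 1 :=
        Finset.card_le_one.2 (fun a ha b' hb' => by rw [hex a ha, hex b' hb'])
      have h3 := Finset.card_le_card (off_subset Z b)
      omega

theorem line_absorb {Z : Finset (Projectivization k (Fin 4 → k))} {n : ℕ} (h : CB Z (n + 1))
    (hcard : Z.card ≤ 2 * n + 3) (W : Submodule k (Fin 4 → k))
    (hW : n + 2 ≤ (inW Z W).card) : ∀ z ∈ Z, z.rep ∈ W := by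
  intro z hz
  by_contra hzW
  obtain ⟨b, hb1, hb2⟩ := Submodule.exists_le_ker_of_notMem hzW
  have h1 := card_ge n (off Z b) (residual h b) ⟨z, mem_off.2 ⟨hz, hb1⟩⟩
  have hd : Disjoint (inW Z W) (off Z b) := by
    rw [Finset.disjoint_left]
    intro x hx hx'
    exact (mem_off.1 hx').2 (LinearMap.mem_ker.1 (hb2 (mem_inW.1 hx).2))
  have h2 := card_add_le (inW_subset Z W) (off_subset Z b) hd
  omega

theorem finrank_span_pair {u v : Fin 4 → k} (hv : v ≠ 0) (h : u ∉ Submodule.span k {v}) :
    finrank k (Submodule.span k ({u, v} : Set (Fin 4 → k))) = 2 := by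
  have hli : LinearIndependent k ![u, v] := by
    rw [linearIndependent_fin2]
    refine ⟨by simpa using hv, fun a ha => h ?_⟩
    simp only [Matrix.cons_val_one, Matrix.cons_val_zero] at ha
    exact Submodule.mem_span_singleton.2 ⟨a, ha⟩
  have h1 := finrank_span_eq_card hli
  rw [Fintype.card_fin] at h1
  have hr : Set.range ![u, v] = ({u, v} : Set (Fin 4 → k)) := by
    ext x
    simp only [Set.mem_range, Set.mem_insert_iff, Set.mem_singleton_iff]
    constructor
    · rintro ⟨i, rfl⟩
      rcases Fin.exists_fin_two.1 ⟨i, rfl⟩ with h0 | h0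
      · left; rw [h0]; rfl
      · right; rw [h0]; rfl
    · rintro (rfl | rfl)
      · exact ⟨0, rfl⟩
      · exact ⟨1, rfl⟩
  rw [hr] at h1
  exact h1

theorem line_through {z1 z2 : Projectivization k (Fin 4 → k)} (h : z1 ≠ z2) :
    ∃ W : Submodule k (Fin 4 → k), finrank k W = 2 ∧ z1.rep ∈ W ∧ z2.rep ∈ W :=
  ⟨Submodule.span k {z1.rep, z2.rep}, finrank_span_pair z2.rep_nonzero (rep_notMem_span h),
    Submodule.subset_span (by simp), Submodule.subset_span (by simp)⟩

theorem exists_line : ∃ W : Submodule k (Fin 4 → k), finrank k W = 2 := by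
  refine ⟨Submodule.span k {ee 0, ee 1}, finrank_span_pair ?_ ?_⟩
  · intro h0
    have := congrFun h0 1
    simp [ee] at this
  · intro hmem
    obtain ⟨a, ha⟩ := Submodule.mem_span_singleton.1 hmem
    have := congrFun ha 0
    simp [ee] at this

/-- a `CB n` set with at most `2n + 1` points lies on a line -/
theorem collinear : ∀ (n : ℕ) (Z : Finset (Projectivization k (Fin 4 → k))), CB Z n →
    Z.card ≤ 2 * n + 1 →
    ∃ W : Submodule k (Fin 4 → k), finrank k W = 2 ∧ ∀ z ∈ Z, z.rep ∈ W := by
  intro n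
  induction n with
  | zero =>
    intro Z h hcard
    have hemp : Z = ∅ := by
      by_contra hne
      have := card_ge 0 Z h (Finset.nonempty_iff_ne_empty.2 hne)
      omega
    obtain ⟨W, hW⟩ := exists_line (k := k)
    exact ⟨W, hW, by rw [hemp]; intro z hz; exact absurd hz (Finset.notMem_empty z)⟩
  | succ n ih =>
    intro Z h hcard
    by_cases hne : Z.Nonempty
    swap
    · rw [Finset.not_nonempty_iff_eq_empty] at hne
      obtain ⟨W, hW⟩ := exists_line (k := k)
      exact ⟨W, hW, by rw [hne]; intro z hz; exact absurd hz (Finset.notMem_empty z)⟩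
    have h3 := card_ge (n + 1) Z h hne
    have h1lt : 1 < Z.card := by omega
    obtain ⟨z1, hz1, z2, hz2, h12⟩ := Finset.one_lt_card.1 h1lt
    obtain ⟨W0, hW0, h1W, h2W⟩ := line_through h12
    by_cases hall : ∀ z ∈ Z, z.rep ∈ W0
    · exact ⟨W0, hW0, hall⟩
    push Not at hall
    obtain ⟨z3, hz3, h3W⟩ := hall
    obtain ⟨b, hb3, hbW⟩ := Submodule.exists_le_ker_of_notMem h3W
    have hb1 : b z1.rep = 0 := LinearMap.mem_ker.1 (hbW h1W)
    have hb2 : b z2.rep = 0 := LinearMap.mem_ker.1 (hbW h2W)
    have hcard' : (off Z b).card + 2 ≤ Z.card := by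
      classical
      have hd : Disjoint (off Z b) {z1, z2} := by
        rw [Finset.disjoint_left]
        intro x hx hx'
        rw [Finset.mem_insert, Finset.mem_singleton] at hx'
        rcases hx' with rfl | rfl
        · exact (mem_off.1 hx).2 hb1
        · exact (mem_off.1 hx).2 hb2
      have hsub : ({z1, z2} : Finset _) ⊆ Z := by
        intro x hx
        rw [Finset.mem_insert, Finset.mem_singleton] at hx
        rcases hx with rfl | rfl
        · exact hz1
        · exact hz2
      have := card_add_le (off_subset Z b) hsub hd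
      rw [Finset.card_pair h12] at this
      exact this
    obtain ⟨W', hW', hZ'⟩ := ih (off Z b) (residual h b) (by omega)
    have hz3' : z3 ∈ off Z b := mem_off.2 ⟨hz3, hb3⟩
    have hge := card_ge n (off Z b) (residual h b) ⟨z3, hz3'⟩
    refine ⟨W', hW', line_absorb h (by omega) W' ?_⟩
    refine hge.trans (Finset.card_le_card ?_)
    intro x hx
    exact mem_inW.2 ⟨off_subset Z b hx, hZ' x hx⟩

theorem main1 (Z : Finset (Projectivization k (Fin 4 → k))) (hZ : Z.Nonempty) (n : ℕ)
    (hCB : CB Z n) :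
    n + 2 ≤ Z.card ∧
      (Z.card ≤ 2 * n + 1 → ∃ W : Submodule k (Fin 4 → k), finrank k ↥W = 2 ∧
        ∀ z ∈ Z, z.submodule ≤ W) := by
  refine ⟨card_ge n Z hCB hZ, fun hcard => ?_⟩
  obtain ⟨W, hW, hZW⟩ := collinear n Z hCB hcard
  exact ⟨W, hW, fun z hz => (submodule_le_iff z W).2 (hZW z hz)⟩

end Groth.Agent.Helper6.CayBach
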