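import Mathlib
import Groth.Agent.Helper6.CayBach

set_option autoImplicit false
set_option linter.style.haveILetI false
set_option linter.unusedSectionVars false

/-!
# `CB n` sets with at most `3n + 1` points in `P³`: coplanar or on two skew lines
-/

namespace Groth.Agent.Helper6.CayBach

open MvPolynomial Module

variable {k : Type*} [Field k]

theorem finrank_V : finrank k (Fin 4 → k) = 4 := by simp

theorem exists_functional_of_finrank_le (U : Submodule k (Fin 4 → k)) (h : finrank k U ≤ 3) :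
    ∃ a : (Fin 4 → k) →ₗ[k] k, a ≠ 0 ∧ U ≤ LinearMap.ker a := by
  have hlt : U < ⊤ := by
    rw [lt_top_iff_ne_top]
    intro htop
    rw [htop, finrank_top, finrank_V] at h
    omega
  exact Submodule.exists_le_ker_of_lt_top U hlt

theorem finrank_ker (a : (Fin 4 → k) →ₗ[k] k) (ha : a ≠ 0) :
    finrank k (LinearMap.ker a) = 3 := by
  have := Module.Dual.finrank_ker_add_one_of_ne_zero (f := a) ha
  rw [finrank_V] at this
  omega

/-- all points lie in a common plane -/
def Coplanar (Z : Finset (Projectivization k (Fin 4 → k))) : Prop :=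
  ∃ W : Submodule k (Fin 4 → k), finrank k W = 3 ∧ ∀ z ∈ Z, z.rep ∈ W

theorem coplanar_of_ker {Z : Finset (Projectivization k (Fin 4 → k))} (a : (Fin 4 → k) →ₗ[k] k)
    (ha : a ≠ 0) (h : ∀ z ∈ Z, a z.rep = 0) : Coplanar Z :=
  ⟨LinearMap.ker a, finrank_ker a ha, fun z hz => LinearMap.mem_ker.2 (h z hz)⟩

theorem exists_off_of_not_coplanar {Z : Finset (Projectivization k (Fin 4 → k))}
    (hnc : ¬ Coplanar Z) (a : (Fin 4 → k) →ₗ[k] k) (ha : a ≠ 0) : ∃ z ∈ Z, a z.rep ≠ 0 := by
  by_contra hcon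
  push Not at hcon
  exact hnc (coplanar_of_ker a ha hcon)

theorem coplanar_of_le {Z : Finset (Projectivization k (Fin 4 → k))} (U : Submodule k (Fin 4 → k))
    (hU : finrank k U ≤ 3) (h : ∀ z ∈ Z, z.rep ∈ U) : Coplanar Z := by
  obtain ⟨a, ha, hUa⟩ := exists_functional_of_finrank_le U hU
  exact coplanar_of_ker a ha (fun z hz => LinearMap.mem_ker.1 (hUa (h z hz)))

/-- a hyperplane through `W` avoiding finitely many points off `W` -/
theorem exists_avoid [Infinite k] (W : Submodule k (Fin 4 → k))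
    (R : Finset (Projectivization k (Fin 4 → k))) (hR : ∀ r ∈ R, r.rep ∉ W) :
    ∃ b : (Fin 4 → k) →ₗ[k] k, W ≤ LinearMap.ker b ∧ ∀ r ∈ R, b r.rep ≠ 0 := by
  classical
  revert hR
  refine Finset.induction_on R ?_ ?_
  · intro _
    refine ⟨0, ?_, ?_⟩
    · rw [LinearMap.ker_zero]; exact le_top
    · intro r hr; exact absurd hr (Finset.notMem_empty r)
  · intro r0 R hr0 ih hR
    obtain ⟨b, hbW, hbR⟩ := ih (fun r hr => hR r (Finset.mem_insert_of_mem hr))
    obtain ⟨b0, hb0, hb0W⟩ :=
      Submodule.exists_le_ker_of_notMem (hR r0 (Finset.mem_insert_self _ _))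
    obtain ⟨t, ht⟩ := Infinite.exists_notMem_finset
      ((insert r0 R).image (fun r => - b r.rep / b0 r.rep))
    refine ⟨b + t • b0, ?_, ?_⟩
    · intro w hw
      rw [LinearMap.mem_ker, LinearMap.add_apply, LinearMap.smul_apply,
        LinearMap.mem_ker.1 (hbW hw), LinearMap.mem_ker.1 (hb0W hw), smul_zero, add_zero]
    · intro r hr hzero
      rw [LinearMap.add_apply, LinearMap.smul_apply, smul_eq_mul] at hzero
      by_cases hb0r : b0 r.rep = 0
      · rw [hb0r, mul_zero, add_zero] at hzero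
        rcases Finset.mem_insert.1 hr with rfl | hrR
        · exact hb0 hb0r
        · exact hbR r hrR hzero
      · apply ht
        rw [Finset.mem_image]
        refine ⟨r, hr, ?_⟩
        rw [div_eq_iff hb0r]
        linear_combination -hzero

/-- the points lie on two skew lines, each carrying at least `n + 1` of them -/
def TwoLines (Z : Finset (Projectivization k (Fin 4 → k))) (n : ℕ) : Prop :=
  ∃ W₁ W₂ : Submodule k (Fin 4 → k), finrank k W₁ = 2 ∧ finrank k W₂ = 2 ∧ W₁ ⊓ W₂ = ⊥ ∧
    (∀ z ∈ Z, z.rep ∈ W₁ ∨ z.rep ∈ W₂) ∧ n + 1 ≤ (inW Z W₁).card ∧ n + 1 ≤ (inW Z W₂).card ∧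
    2 * n + 3 ≤ Z.card

theorem case_line [Infinite k] {Z : Finset (Projectivization k (Fin 4 → k))} {n : ℕ}
    (h : CB Z (n + 1)) (hcard : Z.card ≤ 3 * (n + 1) + 1) (hnc : ¬ Coplanar Z)
    (W : Submodule k (Fin 4 → k)) (hW : finrank k W = 2) (hWc : n + 2 ≤ (inW Z W).card) :
    TwoLines Z (n + 1) := by
  classical
  have hex : ∃ z ∈ Z, z.rep ∉ W := by
    by_contra hcon
    push Not at hcon
    exact hnc (coplanar_of_le W (by omega) hcon)
  obtain ⟨zs, hzs, hzsW⟩ := hex
  have hU : finrank k (W ⊔ Submodule.span k {zs.rep} : Submodule k (Fin 4 → k)) ≤ 3 := by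
    have h1 := Submodule.finrank_add_le_finrank_add_finrank W (Submodule.span k {zs.rep})
    have h2 := finrank_span_singleton (K := k) zs.rep_nonzero
    omega
  obtain ⟨a, ha, hUa⟩ := exists_functional_of_finrank_le _ hU
  have haW : W ≤ LinearMap.ker a := le_sup_left.trans hUa
  have hazs : a zs.rep = 0 :=
    LinearMap.mem_ker.1 (hUa (Submodule.mem_sup_right (Submodule.mem_span_singleton_self _)))
  obtain ⟨z0, hz0, haz0⟩ := exists_off_of_not_coplanar hnc a ha
  have hCB' : CB (off Z a) n := residual h a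
  have hne' : (off Z a).Nonempty := ⟨z0, mem_off.2 ⟨hz0, haz0⟩⟩
  have hge' := card_ge n _ hCB' hne'
  have hd1 : Disjoint (inW Z W) (off Z a) := by
    rw [Finset.disjoint_left]
    intro x hx hx'
    exact (mem_off.1 hx').2 (LinearMap.mem_ker.1 (haW (mem_inW.1 hx).2))
  have hzs1 : zs ∉ inW Z W := fun hmem => hzsW (mem_inW.1 hmem).2
  have hzs2 : zs ∉ off Z a := fun hmem => (mem_off.1 hmem).2 hazs
  have hins : Disjoint (insert zs (inW Z W)) (off Z a) := by
    rw [Finset.disjoint_insert_left]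
    exact ⟨hzs2, hd1⟩
  have hsub : insert zs (inW Z W) ⊆ Z := Finset.insert_subset hzs (inW_subset Z W)
  have hc1 := card_add_le hsub (off_subset Z a) hins
  rw [Finset.card_insert_of_notMem hzs1] at hc1
  have hc2 : (off Z a).card ≤ 2 * n + 1 := by omega
  obtain ⟨W', hW', hZ'⟩ := collinear n _ hCB' hc2
  have hsubW' : off Z a ⊆ inW Z W' := fun x hx => mem_inW.2 ⟨off_subset Z a hx, hZ' x hx⟩
  have hcW' : n + 2 ≤ (inW Z W').card := hge'.trans (Finset.card_le_card hsubW')
  have htot : 2 * (n + 1) + 3 ≤ Z.card := by omega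
  by_cases hsk : W ⊓ W' = ⊥
  · have hR : ∀ z ∈ Z, z.rep ∈ W ∨ z.rep ∈ W' := by
      by_contra hcon
      push Not at hcon
      obtain ⟨r0, hr0, hr0W, hr0W'⟩ := hcon
      obtain ⟨R, hRdef⟩ : ∃ R, R = Z.filter (fun z => z.rep ∉ W ∧ z.rep ∉ W') := ⟨_, rfl⟩
      have hmemR : ∀ z, z ∈ R ↔ z ∈ Z ∧ z.rep ∉ W ∧ z.rep ∉ W' := by
        intro z
        rw [hRdef, Finset.mem_filter]
      have hr0R : r0 ∈ R := (hmemR r0).2 ⟨hr0, hr0W, hr0W'⟩
      obtain ⟨b, hbW, hbR⟩ := exists_avoid W R (fun r hr => ((hmemR r).1 hr).2.1)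
      obtain ⟨b', hbW', hbR'⟩ := exists_avoid W' R (fun r hr => ((hmemR r).1 hr).2.2)
      have hRsub : R ⊆ Z := fun x hx => ((hmemR x).1 hx).1
      have hRcard : R.card ≤ n := by
        have hdR1 : Disjoint (inW Z W) R := by
          rw [Finset.disjoint_left]
          intro x hx hx'
          exact ((hmemR x).1 hx').2.1 (mem_inW.1 hx).2
        have hdR2 : Disjoint (off Z a) R := by
          rw [Finset.disjoint_left]
          intro x hx hx'
          exact ((hmemR x).1 hx').2.2 (hZ' x hx)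
        have := card_add_add_le (inW_subset Z W) (off_subset Z a) hRsub hd1 hdR1 hdR2
        omega
      cases n with
      | zero =>
        have := Finset.card_pos.2 ⟨r0, hr0R⟩
        omega
      | succ n' =>
        have hCB2 : CB (off (off Z b) b') n' := residual (residual h b) b'
        have hr0' : r0 ∈ off (off Z b) b' :=
          mem_off.2 ⟨mem_off.2 ⟨hr0, hbR r0 hr0R⟩, hbR' r0 hr0R⟩
        have hge2 := card_ge n' _ hCB2 ⟨r0, hr0'⟩
        have hsub2 : off (off Z b) b' ⊆ R := by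
          intro x hx
          obtain ⟨hx1, hxb'⟩ := mem_off.1 hx
          obtain ⟨hxZ, hxb⟩ := mem_off.1 hx1
          exact (hmemR x).2 ⟨hxZ, fun hxW => hxb (LinearMap.mem_ker.1 (hbW hxW)),
            fun hxW' => hxb' (LinearMap.mem_ker.1 (hbW' hxW'))⟩
        have := Finset.card_le_card hsub2
        omega
    exact ⟨W, W', hW, hW', hsk, hR, hWc, hcW', htot⟩
  · exfalso
    have hinf : 1 ≤ finrank k (W ⊓ W' : Submodule k (Fin 4 → k)) :=
      Submodule.one_le_finrank_iff.2 hsk
    have hsum := Submodule.finrank_sup_add_finrank_inf_eq W W'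
    have hU0 : finrank k (W ⊔ W' : Submodule k (Fin 4 → k)) ≤ 3 := by omega
    obtain ⟨a0, ha0, hU0a⟩ := exists_functional_of_finrank_le _ hU0
    apply hnc
    apply coplanar_of_ker a0 ha0
    by_contra hcon
    push Not at hcon
    obtain ⟨y, hy, hay⟩ := hcon
    have hCB0 : CB (off Z a0) n := residual h a0
    have hge0 := card_ge n _ hCB0 ⟨y, mem_off.2 ⟨hy, hay⟩⟩
    have hd3 : Disjoint (inW Z W) (off Z a0) := by
      rw [Finset.disjoint_left]
      intro x hx hx'
      exact (mem_off.1 hx').2 (LinearMap.mem_ker.1 (hU0a (Submodule.mem_sup_left (mem_inW.1 hx).2)))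
    have hd4 : Disjoint (off Z a) (off Z a0) := by
      rw [Finset.disjoint_left]
      intro x hx hx'
      exact (mem_off.1 hx').2 (LinearMap.mem_ker.1 (hU0a (Submodule.mem_sup_right (hZ' x hx))))
    have := card_add_add_le (inW_subset Z W) (off_subset Z a) (off_subset Z a0) hd1 hd3 hd4
    omega

theorem case_noline [Infinite k] {Z : Finset (Projectivization k (Fin 4 → k))} {n : ℕ}
    (IH : 1 ≤ n → ∀ Z' : Finset (Projectivization k (Fin 4 → k)), CB Z' n →
      Z'.card ≤ 3 * n + 1 → Coplanar Z' ∨ TwoLines Z' n)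
    (h : CB Z (n + 1)) (hcard : Z.card ≤ 3 * (n + 1) + 1) (hnc : ¬ Coplanar Z)
    (hnl : ∀ W : Submodule k (Fin 4 → k), finrank k W = 2 → (inW Z W).card ≤ n + 1) : False := by
  classical
  have hne : Z.Nonempty := by
    by_contra hcon
    rw [Finset.not_nonempty_iff_eq_empty] at hcon
    apply hnc
    obtain ⟨a, ha, -⟩ := exists_functional_of_finrank_le (⊥ : Submodule k (Fin 4 → k)) (by simp)
    exact coplanar_of_ker a ha (by rw [hcon]; intro z hz; exact absurd hz (Finset.notMem_empty z))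
  have hge := card_ge (n + 1) Z h hne
  obtain ⟨z1, hz1, z2, hz2, z3, hz3, h12, h13, h23⟩ :=
    Finset.two_lt_card.1 (by omega : 2 < Z.card)
  obtain ⟨W12, hW12, h1W, h2W⟩ := line_through h12
  have hn1 : 1 ≤ n := by
    have h1 := hnl W12 hW12
    have h2 : 2 ≤ (inW Z W12).card := by
      have hsub : ({z1, z2} : Finset _) ⊆ inW Z W12 := by
        intro x hx
        rw [Finset.mem_insert, Finset.mem_singleton] at hx
        rcases hx with rfl | rfl
        · exact mem_inW.2 ⟨hz1, h1W⟩
        · exact mem_inW.2 ⟨hz2, h2W⟩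
      have := Finset.card_le_card hsub
      rwa [Finset.card_pair h12] at this
    omega
  have hU : finrank k (W12 ⊔ Submodule.span k {z3.rep} : Submodule k (Fin 4 → k)) ≤ 3 := by
    have h1 := Submodule.finrank_add_le_finrank_add_finrank W12 (Submodule.span k {z3.rep})
    have h2 := finrank_span_singleton (K := k) z3.rep_nonzero
    omega
  obtain ⟨a, ha, hUa⟩ := exists_functional_of_finrank_le _ hU
  have ha1 : a z1.rep = 0 := LinearMap.mem_ker.1 (hUa (Submodule.mem_sup_left h1W))
  have ha2 : a z2.rep = 0 := LinearMap.mem_ker.1 (hUa (Submodule.mem_sup_left h2W))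
  have ha3 : a z3.rep = 0 :=
    LinearMap.mem_ker.1 (hUa (Submodule.mem_sup_right (Submodule.mem_span_singleton_self _)))
  obtain ⟨y, hy, hay⟩ := exists_off_of_not_coplanar hnc a ha
  have hCB' : CB (off Z a) n := residual h a
  have hne' : (off Z a).Nonempty := ⟨y, mem_off.2 ⟨hy, hay⟩⟩
  have hge' := card_ge n _ hCB' hne'
  have hc3 : (off Z a).card + 3 ≤ Z.card := by
    have hd : Disjoint (off Z a) {z1, z2, z3} := by
      rw [Finset.disjoint_left]
      intro x hx hx'
      rw [Finset.mem_insert, Finset.mem_insert, Finset.mem_singleton] at hx'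
      rcases hx' with rfl | rfl | rfl
      · exact (mem_off.1 hx).2 ha1
      · exact (mem_off.1 hx).2 ha2
      · exact (mem_off.1 hx).2 ha3
    have hsub : ({z1, z2, z3} : Finset _) ⊆ Z := by
      intro x hx
      rw [Finset.mem_insert, Finset.mem_insert, Finset.mem_singleton] at hx
      rcases hx with rfl | rfl | rfl
      · exact hz1
      · exact hz2
      · exact hz3
    have := card_add_le (off_subset Z a) hsub hd
    have h3 : ({z1, z2, z3} : Finset (Projectivization k (Fin 4 → k))).card = 3 :=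
      Finset.card_eq_three.2 ⟨z1, z2, z3, h12, h13, h23, rfl⟩
    rw [h3] at this
    exact this
  rcases IH hn1 (off Z a) hCB' (by omega) with hcop | ⟨W1, W2, hW1, hW2, hsk, hcov, hc1, hc2, htot⟩
  · obtain ⟨W3, hW3, hZ'W3⟩ := hcop
    obtain ⟨a', ha', hW3a'⟩ := exists_functional_of_finrank_le W3 (by omega)
    obtain ⟨y', hy', hay'⟩ := exists_off_of_not_coplanar hnc a' ha'
    have hCB'' : CB (off Z a') n := residual h a'
    have hge'' := card_ge n _ hCB'' ⟨y', mem_off.2 ⟨hy', hay'⟩⟩
    have hdd : Disjoint (off Z a) (off Z a') := by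
      rw [Finset.disjoint_left]
      intro x hx hx'
      exact (mem_off.1 hx').2 (LinearMap.mem_ker.1 (hW3a' (hZ'W3 x hx)))
    have hsum := card_add_le (off_subset Z a) (off_subset Z a') hdd
    by_cases hsm : (off Z a).card ≤ 2 * n + 1
    · obtain ⟨W'', hW'', hZ''⟩ := collinear n _ hCB' hsm
      have h1 := hnl W'' hW''
      have hsub : off Z a ⊆ inW Z W'' := fun x hx => mem_inW.2 ⟨off_subset Z a hx, hZ'' x hx⟩
      have := Finset.card_le_card hsub
      omega
    · have hsm' : (off Z a').card ≤ 2 * n + 1 := by omega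
      obtain ⟨W'', hW'', hZ''⟩ := collinear n _ hCB'' hsm'
      have h1 := hnl W'' hW''
      have hsub : off Z a' ⊆ inW Z W'' := fun x hx => mem_inW.2 ⟨off_subset Z a' hx, hZ'' x hx⟩
      have := Finset.card_le_card hsub
      omega
  · have hunion : (off Z a).card ≤ (inW (off Z a) W1).card + (inW (off Z a) W2).card := by
      have hsub : off Z a ⊆ inW (off Z a) W1 ∪ inW (off Z a) W2 := by
        intro x hx
        rcases hcov x hx with h' | h'
        · exact Finset.mem_union_left _ (mem_inW.2 ⟨hx, h'⟩)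
        · exact Finset.mem_union_right _ (mem_inW.2 ⟨hx, h'⟩)
      exact (Finset.card_le_card hsub).trans (Finset.card_union_le _ _)
    have hm1 : (inW (off Z a) W1).card ≤ (inW Z W1).card :=
      Finset.card_le_card (fun x hx => mem_inW.2 ⟨off_subset Z a (mem_inW.1 hx).1, (mem_inW.1 hx).2⟩)
    have hm2 : (inW (off Z a) W2).card ≤ (inW Z W2).card :=
      Finset.card_le_card (fun x hx => mem_inW.2 ⟨off_subset Z a (mem_inW.1 hx).1, (mem_inW.1 hx).2⟩)
    have h1 := hnl W1 hW1
    have h2 := hnl W2 hW2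
    omega

/-- a `CB n` set with at most `3n + 1` points is coplanar or lies on two skew lines -/
theorem plane_or_lines [Infinite k] : ∀ (n : ℕ), 1 ≤ n →
    ∀ Z : Finset (Projectivization k (Fin 4 → k)), CB Z n → Z.card ≤ 3 * n + 1 →
      Coplanar Z ∨ TwoLines Z n := by
  intro n
  induction n with
  | zero => intro h; omega
  | succ n ih =>
    intro _ Z h hcard
    by_cases hnc : Coplanar Z
    · left; exact hnc
    right
    by_cases hline : ∃ W : Submodule k (Fin 4 → k), finrank k W = 2 ∧ n + 2 ≤ (inW Z W).card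
    · obtain ⟨W, hW, hWc⟩ := hline
      exact case_line h hcard hnc W hW hWc
    · exfalso
      push Not at hline
      exact case_noline ih h hcard hnc (fun W hW => by have := hline W hW; omega)

theorem ncard_eq (Z : Finset (Projectivization k (Fin 4 → k))) (W : Submodule k (Fin 4 → k)) :
    Set.ncard {z : Projectivization k (Fin 4 → k) | z ∈ Z ∧ z.submodule ≤ W} = (inW Z W).card := by
  have h : {z : Projectivization k (Fin 4 → k) | z ∈ Z ∧ z.submodule ≤ W} = ↑(inW Z W) := by
    ext z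
    rw [Set.mem_ofPred_eq, Finset.mem_coe, mem_inW, submodule_le_iff]
  rw [h, Set.ncard_coe_finset]

theorem main2 [Infinite k] (Z : Finset (Projectivization k (Fin 4 → k))) (n : ℕ) (hn : 1 ≤ n)
    (hCB : CB Z n) (hcard : Z.card ≤ 3 * n + 1) :
    (∃ W : Submodule k (Fin 4 → k), finrank k ↥W = 3 ∧ ∀ z ∈ Z, z.submodule ≤ W) ∨
      (∃ W₁ W₂ : Submodule k (Fin 4 → k), finrank k ↥W₁ = 2 ∧ finrank k ↥W₂ = 2 ∧ W₁ ⊓ W₂ = ⊥ ∧
        (∀ z ∈ Z, z.submodule ≤ W₁ ∨ z.submodule ≤ W₂) ∧
        n + 1 ≤ Set.ncard {z : Projectivization k (Fin 4 → k) | z ∈ Z ∧ z.submodule ≤ W₁} ∧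
        n + 1 ≤ Set.ncard {z : Projectivization k (Fin 4 → k) | z ∈ Z ∧ z.submodule ≤ W₂} ∧
        2 * n + 3 ≤ Z.card) := by
  rcases plane_or_lines n hn Z hCB hcard with ⟨W, hW, hZW⟩ | ⟨W1, W2, hW1, hW2, hsk, hcov, hc1, hc2, htot⟩
  · left
    exact ⟨W, hW, fun z hz => (submodule_le_iff z W).2 (hZW z hz)⟩
  · right
    refine ⟨W1, W2, hW1, hW2, hsk, ?_, ?_, ?_, htot⟩
    · intro z hz
      rcases hcov z hz with h | h
      · left; exact (submodule_le_iff z W1).2 h
      · right; exact (submodule_le_iff z W2).2 h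
    · rw [ncard_eq]; exact hc1
    · rw [ncard_eq]; exact hc2

end Groth.Agent.Helper6.CayBach
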