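import Mathlib
import Groth.Prelude.Def_CohTop
import Groth.Prelude.Def_CohCx
import Groth.Agent.Helper1.CechTop
import Groth.Agent.S0455

set_option autoImplicit false
set_option linter.style.haveILetI false
set_option linter.unusedSectionVars false
set_option linter.unusedVariables false

/-!
# Čech cohomology of a family of opens through the topology generated by the family

Given a family `U : ι → Opens X`, the union `V = ⋃ U` carries the coarser topology generated by the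
`U i`.  An abelian sheaf `F` on `X` induces a sheaf `G` on this coarse space with the same Čech
complex; if `F(V) → F(W)` is onto for all unions `W` of finite intersections of the `U i` then `G`
is flasque, so its Čech cohomology vanishes.
-/

namespace Groth.Agent.Helper6.CechCoarse
open CategoryTheory Limits Opposite TopologicalSpace
open Groth.Agent.Helper1 Groth.Agent.Helper1.Cech Groth.Agent.Helper1.CechTop

universe u

section thin

variable {X : TopCat.{u}} (P : (Opens X)ᵒᵖ ⥤ AddCommGrpCat.{u})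

lemma map_map_thin {A B C : Opens X} (p : A ⟶ B) (q : B ⟶ C) (r : A ⟶ C) (x : P.obj (op C)) :
    P.map p.op (P.map q.op x) = P.map r.op x := by
  have : r = p ≫ q := Subsingleton.elim _ _
  subst this
  rw [op_comp, P.map_comp]
  rfl

lemma map_self_thin {A : Opens X} (p : A ⟶ A) (x : P.obj (op A)) : P.map p.op x = x := by
  have : p = 𝟙 A := Subsingleton.elim _ _
  subst this
  rw [op_id, P.map_id]
  rfl

lemma surj_congr {A A' B B' : Opens X} (hA : A = A') (hB : B = B') (h : A ≤ B) (h' : A' ≤ B')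
    (hs : Function.Surjective (P.map (homOfLE h).op)) :
    Function.Surjective (P.map (homOfLE h').op) := by
  subst hA hB
  exact hs

lemma mem_iInf_fin {n : ℕ} (A : Fin n → Opens X) (y : X) : y ∈ ⨅ j, A j ↔ ∀ j, y ∈ A j := by
  rw [← SetLike.mem_coe, Opens.coe_iInf]
  simp

end thin

variable {X : TopCat.{u}} {ι : Type u} (U : ι → Opens X)

/-- the union of the family, to be given the topology generated by the family -/
def VL : Type u := ↥(iSup U)

/-- the underlying point of `X` -/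
def val (v : VL U) : X := Subtype.val (p := fun x => x ∈ iSup U) v

lemma val_mem (v : VL U) : val U v ∈ iSup U := Subtype.property (p := fun x => x ∈ iSup U) v

/-- a point of the union as a point of `VL` -/
def mkV (y : X) (hy : y ∈ iSup U) : VL U := (⟨y, hy⟩ : ↥(iSup U))

lemma val_mkV (y : X) (hy : y ∈ iSup U) : val U (mkV U y hy) = y := rfl

instance : TopologicalSpace (VL U) :=
  TopologicalSpace.generateFrom (Set.range fun i : ι => {v : VL U | val U v ∈ U i})

/-- the coarse space -/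
abbrev XL : TopCat.{u} := TopCat.of (VL U)

/-- identity map from the subspace to the coarse space -/
def g : TopCat.of ↥(iSup U) ⟶ XL U := TopCat.ofHom ⟨fun v => v, by
  refine continuous_generateFrom_iff.2 ?_
  rintro _ ⟨i, rfl⟩
  exact (U i).isOpen.preimage continuous_subtype_val⟩

/-- the members of the family as opens of the coarse space -/
def U' (i : ι) : Opens (XL U) :=
  ⟨{v : VL U | val U v ∈ U i}, TopologicalSpace.isOpen_generateFrom_of_mem ⟨i, rfl⟩⟩

lemma mem_U' (i : ι) (v : VL U) : v ∈ U' U i ↔ val U v ∈ U i := Iff.rfl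

/-- the sheaf on the coarse space -/
noncomputable def G (F : CohTop.Ab X) : CohTop.Ab (XL U) :=
  (CohTop.push (g U)).obj ((CohTop.restrFunctor (iSup U)).obj F)

/-- the open of `X` corresponding to an open of the coarse space -/
abbrev Φ (W : Opens (XL U)) : Opens X :=
  ((iSup U).isOpenEmbedding.isOpenMap.functor).obj ((Opens.map (g U)).obj W)

lemma mem_Φ {W : Opens (XL U)} {y : X} : y ∈ Φ U W ↔ ∃ v : VL U, v ∈ W ∧ val U v = y := Iff.rfl

lemma Φ_le (W : Opens (XL U)) : Φ U W ≤ iSup U := by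
  rintro _ ⟨v, -, rfl⟩
  exact val_mem U v

lemma Φ_mono {W W' : Opens (XL U)} (h : W ≤ W') : Φ U W ≤ Φ U W' := by
  rintro _ ⟨v, hv, rfl⟩
  exact ⟨v, h hv, rfl⟩

lemma exists_tuple {W : Set (VL U)} (hW : IsOpen W) (v : VL U) (hv : v ∈ W) :
    ∃ t : Σ p : ℕ, Fin (p + 1) → ι, (∀ j, val U v ∈ U (t.2 j)) ∧
      ∀ v' : VL U, (∀ j, val U v' ∈ U (t.2 j)) → v' ∈ W := by
  have hW' : TopologicalSpace.GenerateOpen
      (Set.range fun i : ι => {v : VL U | val U v ∈ U i}) W := hW
  induction hW' generalizing v with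
  | basic s hs =>
    obtain ⟨i, rfl⟩ := hs
    exact ⟨⟨0, fun _ => i⟩, fun _ => hv, fun v' h' => h' 0⟩
  | univ =>
    obtain ⟨i, hi⟩ := Opens.mem_iSup.1 (val_mem U v)
    exact ⟨⟨0, fun _ => i⟩, fun _ => hi, fun _ _ => trivial⟩
  | inter s t hs ht ihs iht =>
    obtain ⟨⟨p₁, σ₁⟩, h1, h1'⟩ := ihs hs v hv.1
    obtain ⟨⟨p₂, σ₂⟩, h2, h2'⟩ := iht ht v hv.2
    refine ⟨⟨p₁ + 1 + p₂, (Fin.append σ₁ σ₂ : Fin ((p₁ + 1) + (p₂ + 1)) → ι)⟩, ?_, ?_⟩
    · intro j
      refine Fin.addCases (m := p₁ + 1) (n := p₂ + 1)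
        (motive := fun j => val U v ∈ U (Fin.append σ₁ σ₂ j)) (fun j₁ => ?_) (fun j₂ => ?_) j
      · show val U v ∈ U (Fin.append σ₁ σ₂ (Fin.castAdd (p₂ + 1) j₁))
        rw [Fin.append_left]
        exact h1 j₁
      · show val U v ∈ U (Fin.append σ₁ σ₂ (Fin.natAdd (p₁ + 1) j₂))
        rw [Fin.append_right]
        exact h2 j₂
    · intro v' h'
      refine ⟨h1' v' (fun j₁ => ?_), h2' v' (fun j₂ => ?_)⟩
      · have := h' (Fin.castAdd (p₂ + 1) j₁)
        change val U v' ∈ U (Fin.append σ₁ σ₂ (Fin.castAdd (p₂ + 1) j₁)) at this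
        rwa [Fin.append_left] at this
      · have := h' (Fin.natAdd (p₁ + 1) j₂)
        change val U v' ∈ U (Fin.append σ₁ σ₂ (Fin.natAdd (p₁ + 1) j₂)) at this
        rwa [Fin.append_right] at this
  | sUnion S hS ih =>
    obtain ⟨s, hs, hvs⟩ := hv
    obtain ⟨t, h1, h1'⟩ := ih s hs (hS s hs) v hvs
    exact ⟨t, h1, fun v' h' => ⟨s, hs, h1' v' h'⟩⟩

variable (F : CohTop.Ab X)
  (h : ∀ (κ : Type u) (a : κ → Σ p : ℕ, Fin (p + 1) → ι),
      Function.Surjective (F.obj.map (homOfLE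
        (iSup_le fun k => (iInf_le _ ⟨0, Nat.succ_pos _⟩).trans
          (le_iSup U ((a k).2 ⟨0, Nat.succ_pos _⟩)) :
          (⨆ k, ⨅ j, U ((a k).2 j)) ≤ iSup U)).op))

include h in
lemma surj_top (W : Opens (XL U)) :
    Function.Surjective (F.obj.map (homOfLE (Φ_le U W)).op) := by
  let κ := {t : Σ p : ℕ, Fin (p + 1) → ι //
    ∀ v' : VL U, (∀ j, val U v' ∈ U (t.2 j)) → v' ∈ W}
  let a : κ → Σ p : ℕ, Fin (p + 1) → ι := Subtype.val
  have e : (⨆ k, ⨅ j, U ((a k).2 j)) = Φ U W := by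
    refine SetLike.ext (fun y => ⟨fun hy => ?_, ?_⟩)
    · obtain ⟨k, hk⟩ := Opens.mem_iSup.1 hy
      have hk' := (mem_iInf_fin _ y).1 hk
      have hyV : y ∈ iSup U := Opens.mem_iSup.2 ⟨_, hk' 0⟩
      exact ⟨mkV U y hyV, k.2 (mkV U y hyV) hk', rfl⟩
    · rintro ⟨v, hv, rfl⟩
      obtain ⟨t, h1, h1'⟩ := exists_tuple U W.2 v hv
      exact Opens.mem_iSup.2 ⟨⟨t, h1'⟩, (mem_iInf_fin _ _).2 h1⟩
  exact surj_congr F.obj e rfl _ _ (h κ a)

include h in
lemma isFlasque_G : TopCat.Sheaf.IsFlasque (G U F) where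
  epi {A B} i := by
    rw [AddCommGrpCat.epi_iff_surjective]
    intro s
    obtain ⟨t, ht⟩ := surj_top U F h B.unop s
    refine ⟨F.obj.map (homOfLE (Φ_le U A.unop)).op t, ?_⟩
    rw [← ht]
    exact map_map_thin F.obj (homOfLE (Φ_mono U i.unop.le)) (homOfLE (Φ_le U A.unop))
      (homOfLE (Φ_le U B.unop)) t

/-! ### comparison of the Čech complexes -/

lemma mem_prodU {Y : TopCat.{u}} (A : ι → Opens Y) {n : ℕ} (x : Fin (n + 1) → ι) (y : Y) :
    y ∈ prodU A x ↔ ∀ k, y ∈ A (x k) := by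
  rw [prodU_eq, mem_iInf_fin]

lemma h₁ {n : ℕ} (x : Fin (n + 1) → ι) : Φ U (prodU (U' U) x) ≤ prodU U x := by
  rintro _ ⟨v, hv, rfl⟩
  exact (mem_prodU U x _).2 (fun k => (mem_prodU (U' U) x v).1 hv k)

lemma h₂ {n : ℕ} (x : Fin (n + 1) → ι) : prodU U x ≤ Φ U (prodU (U' U) x) := by
  intro y hy
  have hy' := (mem_prodU U x y).1 hy
  have hyV : y ∈ iSup U := Opens.mem_iSup.2 ⟨_, hy' 0⟩
  exact ⟨mkV U y hyV, (mem_prodU (U' U) x _).2 (fun k => hy' k), rfl⟩

/-- cochains of `F` to cochains of `G` -/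
noncomputable def φ (n : ℕ) (c : (cx U F.obj).X n) : (cx (U' U) (G U F).obj).X n :=
  Cech.mk (fun x => (F.obj.map (homOfLE (h₁ U x)).op (comp U F.obj n x c) :
    (G U F).obj.obj (op (prodU (U' U) x))))

/-- cochains of `G` to cochains of `F` -/
noncomputable def ψ (n : ℕ) (c' : (cx (U' U) (G U F).obj).X n) : (cx U F.obj).X n :=
  Cech.mk (fun x => F.obj.map (homOfLE (h₂ U x)).op
    (show F.obj.obj (op (Φ U (prodU (U' U) x))) from comp (U' U) (G U F).obj n x c'))

lemma comp_φ (n : ℕ) (c : (cx U F.obj).X n) (x : Fin (n + 1) → ι) :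
    comp (U' U) (G U F).obj n x (φ U F n c) =
      (F.obj.map (homOfLE (h₁ U x)).op (comp U F.obj n x c) :
        (G U F).obj.obj (op (prodU (U' U) x))) := by
  unfold φ
  rw [comp_mk]

lemma comp_ψ (n : ℕ) (c' : (cx (U' U) (G U F).obj).X n) (x : Fin (n + 1) → ι) :
    comp U F.obj n x (ψ U F n c') = F.obj.map (homOfLE (h₂ U x)).op
      (show F.obj.obj (op (Φ U (prodU (U' U) x))) from comp (U' U) (G U F).obj n x c') := by
  unfold ψ
  rw [comp_mk]

lemma ψ_φ (n : ℕ) (c : (cx U F.obj).X n) : ψ U F n (φ U F n c) = c := by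
  apply Cech.ext
  intro x
  rw [comp_ψ, comp_φ]
  exact (map_map_thin F.obj _ _ (𝟙 _) _).trans (map_self_thin F.obj _ _)

lemma φ_zero (n : ℕ) : φ U F n 0 = 0 := by
  apply Cech.ext
  intro x
  rw [comp_φ, map_zero, map_zero, map_zero]
  rfl

lemma d_φ (n : ℕ) (c : (cx U F.obj).X n) :
    (cx (U' U) (G U F).obj).d n (n + 1) (φ U F n c) = φ U F (n + 1) ((cx U F.obj).d n (n + 1) c) := by
  apply Cech.ext
  intro x
  rw [comp_d, comp_φ, comp_d, map_sum]
  refine Finset.sum_congr rfl (fun j _ => ?_)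
  rw [map_zsmul, comp_φ]
  congr 1
  exact (map_map_thin F.obj (homOfLE (Φ_mono U (prodU_face_le (U' U) j x))) _
    (homOfLE ((Φ_mono U (prodU_face_le (U' U) j x)).trans (h₁ U _))) _).trans
    (map_map_thin F.obj _ _ _ _).symm

lemma d_ψ (n : ℕ) (c' : (cx (U' U) (G U F).obj).X n) :
    (cx U F.obj).d n (n + 1) (ψ U F n c') = ψ U F (n + 1) ((cx (U' U) (G U F).obj).d n (n + 1) c') := by
  apply Cech.ext
  intro x
  rw [comp_d, comp_ψ, comp_d]
  erw [map_sum]
  refine Finset.sum_congr rfl (fun j _ => ?_)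
  erw [map_zsmul]
  rw [comp_ψ]
  congr 1
  exact (map_map_thin F.obj _ _
    (homOfLE ((h₂ U x).trans (Φ_mono U (prodU_face_le (U' U) j x)))) _).trans
    (map_map_thin F.obj _ (homOfLE (Φ_mono U (prodU_face_le (U' U) j x))) _ _).symm

include h in
theorem isZero_cechH (p : ℕ) : IsZero (CohTop.cechH F.obj U (p + 1)) := by
  haveI := isFlasque_G U F h
  have hG : IsZero (CohTop.cechH (G U F).obj (U' U) (p + 1)) :=
    Groth.Agent.S0455.result (G U F) (U' U) p
  apply Cech.isZero_homology_of_exists (cx U F.obj) p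
  intro c hc
  obtain ⟨b', hb'⟩ := Cech.exists_of_isZero_homology _ p hG (φ U F (p + 1) c) (by
    rw [d_φ, hc, φ_zero])
  refine ⟨ψ U F p b', ?_⟩
  rw [d_ψ, hb', ψ_φ]

end Groth.Agent.Helper6.CechCoarse
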