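import Groth.Agent.Helper6.CoskZeroSR
import Groth.Prelude.Def_Hyper

/-!
# Helper6: `H^0` of the Cech complex of a hypercovering.
-/

set_option autoImplicit false
set_option linter.style.haveILetI false
set_option linter.unusedVariables false
set_option backward.isDefEq.respectTransparency false
set_option backward.isDefEq.respectTransparency.types false
universe u

namespace Groth.Agent.Helper6.CechH0
open CategoryTheory Limits Opposite Hyper SimplicialObject

variable {C : Type u} [SmallCategory C]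

lemma transport {X : C} {L : FormalCoproduct.{u} (Over X)} (P : Cᵒᵖ ⥤ Type u)
    (xx : ∀ i : L.I, P.obj (op (L.obj i).left))
    {i₁ i : L.I} (e : i₁ = i) {Z : Over X} (c : Z ⟶ L.obj i₁) :
    P.map (c ≫ eqToHom (congrArg L.obj e)).left.op (xx i) = P.map c.left.op (xx i₁) := by
  subst e
  simp

section Key

variable (J : GrothendieckTopology C) (X : C)
  (K : SimplicialObject (FormalCoproduct.{u} (Over X)))
  [∀ (F : (SimplexCategory.Truncated 0)ᵒᵖ ⥤ FormalCoproduct.{u} (Over X)),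
    (SimplexCategory.Truncated.inclusion 0).op.HasRightKanExtension F]

theorem key (hη : IsSRCovering (J.over X)
      (((coskAdj 0).unit.app K).app (op (SimplexCategory.mk 1))))
    (P : Cᵒᵖ ⥤ Type u) (hP : Presieve.IsSeparated J P)
    (xx : ∀ i : (K.obj (op (SimplexCategory.mk 0))).I,
      P.obj (op ((K.obj (op (SimplexCategory.mk 0))).obj i).left))
    (hxx : ∀ j : (K.obj (op (SimplexCategory.mk 1))).I,
      P.map ((K.δ (0 : Fin 2)).φ j).left.op (xx ((K.δ (0 : Fin 2)).f j)) =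
      P.map ((K.δ (1 : Fin 2)).φ j).left.op (xx ((K.δ (1 : Fin 2)).f j)))
    {Y : C} (i i' : (K.obj (op (SimplexCategory.mk 0))).I)
    (a : Y ⟶ ((K.obj (op (SimplexCategory.mk 0))).obj i).left)
    (a' : Y ⟶ ((K.obj (op (SimplexCategory.mk 0))).obj i').left)
    (h : a ≫ ((K.obj (op (SimplexCategory.mk 0))).obj i).hom =
      a' ≫ ((K.obj (op (SimplexCategory.mk 0))).obj i').hom) :
    P.map a.op (xx i) = P.map a'.op (xx i') := by
  let U : Over X := Over.mk (a ≫ ((K.obj (op (SimplexCategory.mk 0))).obj i).hom)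
  let s : (FormalCoproduct.incl (Over X)).obj U ⟶ K.obj (op (SimplexCategory.mk 0)) :=
    FormalCoproduct.Hom.fromIncl i (Over.homMk a rfl)
  let t : (FormalCoproduct.incl (Over X)).obj U ⟶ K.obj (op (SimplexCategory.mk 0)) :=
    FormalCoproduct.Hom.fromIncl i' (Over.homMk a' h.symm)
  obtain ⟨S, hS, hS'⟩ := CoskZeroSR.exists_cover_lift (J.over X) K hη U s t
  rw [GrothendieckTopology.mem_over_iff] at hS
  refine (hP _ hS).ext ?_
  intro W g hg
  rw [Sieve.overEquiv_iff] at hg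
  obtain ⟨ℓ, h1, h0⟩ := hS' _ hg
  obtain ⟨e1, φ1⟩ := (FormalCoproduct.hom_ext_iff _ _).1 h1
  obtain ⟨e0, φ0⟩ := (FormalCoproduct.hom_ext_iff _ _).1 h0
  have E1 := congrArg CommaMorphism.left (φ1 PUnit.unit)
  have E0 := congrArg CommaMorphism.left (φ0 PUnit.unit)
  have I1 : (K.δ (1 : Fin 2)).f (ℓ.f PUnit.unit) = i := congrFun e1 PUnit.unit
  have I0 : (K.δ (0 : Fin 2)).f (ℓ.f PUnit.unit) = i' := congrFun e0 PUnit.unit
  have T1 := transport P xx I1 (ℓ.φ PUnit.unit ≫ (K.δ (1 : Fin 2)).φ (ℓ.f PUnit.unit))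
  have T0 := transport P xx I0 (ℓ.φ PUnit.unit ≫ (K.δ (0 : Fin 2)).φ (ℓ.f PUnit.unit))
  have hj := congrArg (P.map (ℓ.φ PUnit.unit).left.op) (hxx (ℓ.f PUnit.unit))
  have E1' : ((ℓ.φ PUnit.unit ≫ (K.δ (1 : Fin 2)).φ (ℓ.f PUnit.unit)) ≫
      eqToHom (congrArg (K.obj (op (SimplexCategory.mk 0))).obj I1)).left = g ≫ a := E1
  have E0' : ((ℓ.φ PUnit.unit ≫ (K.δ (0 : Fin 2)).φ (ℓ.f PUnit.unit)) ≫
      eqToHom (congrArg (K.obj (op (SimplexCategory.mk 0))).obj I0)).left = g ≫ a' := E0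
  rw [E1'] at T1
  rw [E0'] at T0
  have c1 : P.map g.op (P.map a.op (xx i)) = P.map (g ≫ a).op (xx i) :=
    (Functor.map_comp_apply P a.op g.op (xx i)).symm
  have c0 : P.map g.op (P.map a'.op (xx i')) = P.map (g ≫ a').op (xx i') :=
    (Functor.map_comp_apply P a'.op g.op (xx i')).symm
  have d1 : P.map (ℓ.φ PUnit.unit ≫ (K.δ (1 : Fin 2)).φ (ℓ.f PUnit.unit)).left.op
      (xx ((K.δ (1 : Fin 2)).f (ℓ.f PUnit.unit))) =
      P.map (ℓ.φ PUnit.unit).left.op (P.map ((K.δ (1 : Fin 2)).φ (ℓ.f PUnit.unit)).left.op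
        (xx ((K.δ (1 : Fin 2)).f (ℓ.f PUnit.unit)))) :=
    Functor.map_comp_apply P ((K.δ (1 : Fin 2)).φ (ℓ.f PUnit.unit)).left.op
      (ℓ.φ PUnit.unit).left.op _
  have d0 : P.map (ℓ.φ PUnit.unit ≫ (K.δ (0 : Fin 2)).φ (ℓ.f PUnit.unit)).left.op
      (xx ((K.δ (0 : Fin 2)).f (ℓ.f PUnit.unit))) =
      P.map (ℓ.φ PUnit.unit).left.op (P.map ((K.δ (0 : Fin 2)).φ (ℓ.f PUnit.unit)).left.op
        (xx ((K.δ (0 : Fin 2)).f (ℓ.f PUnit.unit)))) :=
    Functor.map_comp_apply P ((K.δ (0 : Fin 2)).φ (ℓ.f PUnit.unit)).left.op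
      (ℓ.φ PUnit.unit).left.op _
  exact c1.trans (T1.trans (d1.trans (hj.symm.trans (d0.symm.trans (T0.symm.trans c0.symm)))))

end Key


section Main

variable [HasPullbacks C] {J : GrothendieckTopology C} {X : C}
  (K : SimplicialObject (FormalCoproduct.{u} (Over X)))
  (F : Sheaf J AddCommGrpCat.{u})

abbrev G0 (i : (K.obj (op (SimplexCategory.mk 0))).I) : AddCommGrpCat.{u} :=
  F.obj.obj (op ((K.obj (op (SimplexCategory.mk 0))).obj i).left)

abbrev G1 (j : (K.obj (op (SimplexCategory.mk 1))).I) : AddCommGrpCat.{u} :=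
  F.obj.obj (op ((K.obj (op (SimplexCategory.mk 1))).obj j).left)

noncomputable def ρ : F.obj.obj (op X) ⟶ (cechCx X K F.obj).X 0 :=
  Pi.lift (fun i => F.obj.map ((K.obj (op (SimplexCategory.mk 0))).obj i).hom.op)

noncomputable def face (a : Fin 2) : (∏ᶜ G0 K F) ⟶ (∏ᶜ G1 K F) :=
  Pi.lift (fun j => Pi.π (G0 K F) ((K.δ a).f j) ≫ F.obj.map ((K.δ a).φ j).left.op)

lemma δ_eq (a : Fin 2) :
    ((FormalCoproduct.cosimplicialObjectFunctor K).obj ((Over.forget X).op ⋙ F.obj)).δ a =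
      face K F a := rfl

lemma d_eq : (cechCx X K F.obj).d 0 1 = face K F 0 - face K F 1 := by
  have h : (cechCx X K F.obj).d 0 1 = AlgebraicTopology.AlternatingCofaceMapComplex.objD
      ((FormalCoproduct.cosimplicialObjectFunctor K).obj ((Over.forget X).op ⋙ F.obj)) 0 := by
    show (CochainComplex.of (fun n => ((FormalCoproduct.cosimplicialObjectFunctor K).obj
      ((Over.forget X).op ⋙ F.obj)).obj (SimplexCategory.mk n))
      (AlgebraicTopology.AlternatingCofaceMapComplex.objD _)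
      (AlgebraicTopology.AlternatingCofaceMapComplex.d_squared _)).d 0 1 = _
    exact CochainComplex.of_d (V := AddCommGrpCat.{u}) _ _ 0
  rw [h, AlgebraicTopology.AlternatingCofaceMapComplex.objD, Fin.sum_univ_two, δ_eq, δ_eq]
  simp [sub_eq_add_neg]

lemma π_face (a : Fin 2) (x : ↑(∏ᶜ G0 K F)) (j : (K.obj (op (SimplexCategory.mk 1))).I) :
    Pi.π (G1 K F) j (face K F a x) =
      F.obj.map ((K.δ a).φ j).left.op (Pi.π (G0 K F) ((K.δ a).f j) x) := by
  have h : face K F a ≫ Pi.π (G1 K F) j =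
      Pi.π (G0 K F) ((K.δ a).f j) ≫ F.obj.map ((K.δ a).φ j).left.op := Pi.lift_π _ _
  exact ConcreteCategory.congr_hom h x

lemma π_ρ (y : F.obj.obj (op X)) (i : (K.obj (op (SimplexCategory.mk 0))).I) :
    Pi.π (G0 K F) i (ρ K F y) =
      F.obj.map ((K.obj (op (SimplexCategory.mk 0))).obj i).hom.op y := by
  have h : ρ K F ≫ Pi.π (G0 K F) i =
      F.obj.map ((K.obj (op (SimplexCategory.mk 0))).obj i).hom.op := Pi.lift_π _ _
  exact ConcreteCategory.congr_hom h y

lemma compat (a : Fin 2) (y : F.obj.obj (op X)) (j : (K.obj (op (SimplexCategory.mk 1))).I) :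
    F.obj.map ((K.δ a).φ j).left.op
      (F.obj.map ((K.obj (op (SimplexCategory.mk 0))).obj ((K.δ a).f j)).hom.op y) =
    F.obj.map ((K.obj (op (SimplexCategory.mk 1))).obj j).hom.op y := by
  rw [← ConcreteCategory.comp_apply, ← F.obj.map_comp, ← op_comp, Over.w]

theorem cechH0_iso
    [∀ (n : ℕ) (F' : (SimplexCategory.Truncated n)ᵒᵖ ⥤ FormalCoproduct.{u} (Over X)),
      (SimplexCategory.Truncated.inclusion n).op.HasRightKanExtension F']
    (hK : IsHypercovering J X K) : Nonempty (cechH X K F.obj 0 ≅ F.obj.obj (op X)) := by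
  classical
  let P : Cᵒᵖ ⥤ Type u := F.obj ⋙ forget AddCommGrpCat.{u}
  have hP : Presieve.IsSheaf J P :=
    (isSheaf_iff_isSheaf_of_type J P).1
      ((Presheaf.isSheaf_iff_isSheaf_forget J F.obj (forget _)).1 F.property)
  have hshf : ∀ xx : ∀ i, G0 K F i,
      (∀ j, F.obj.map ((K.δ (0 : Fin 2)).φ j).left.op (xx ((K.δ (0 : Fin 2)).f j)) =
        F.obj.map ((K.δ (1 : Fin 2)).φ j).left.op (xx ((K.δ (1 : Fin 2)).f j))) →
      ∃! y : F.obj.obj (op X),
        ∀ i, F.obj.map ((K.obj (op (SimplexCategory.mk 0))).obj i).hom.op y = xx i := by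
    intro xx hxx
    have h1 : Presieve.IsSheafFor P
        (Presieve.ofArrows (fun i => ((K.obj (op (SimplexCategory.mk 0))).obj i).left)
          (fun i => ((K.obj (op (SimplexCategory.mk 0))).obj i).hom)) := by
      rw [Presieve.isSheafFor_iff_generate]
      exact hP _ hK.1
    exact ((Presieve.isSheafFor_arrows_iff P _).1 h1) xx
      (fun i i' Z a a' h => key J X K (hK.2 0) P hP.isSeparated xx hxx i i' a a' h)
  have hρ : ρ K F ≫ (cechCx X K F.obj).d 0 1 = 0 := by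
    apply ConcreteCategory.hom_ext
    intro y
    rw [d_eq]
    apply Concrete.limit_ext
    rintro ⟨j⟩
    show Pi.π (G1 K F) j ((face K F 0 - face K F 1) (ρ K F y)) = Pi.π (G1 K F) j 0
    rw [map_zero]
    show Pi.π (G1 K F) j (face K F 0 (ρ K F y) - face K F 1 (ρ K F y)) = 0
    rw [map_sub, π_face, π_face, π_ρ, π_ρ, compat, compat, sub_self]
  let S : ShortComplex AddCommGrpCat.{u} :=
    ShortComplex.mk (ρ K F) ((cechCx X K F.obj).d 0 1) hρ
  haveI : Mono S.f := by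
    rw [AddCommGrpCat.mono_iff_injective]
    intro y y' hy
    obtain ⟨t, _, huniq⟩ := hshf
      (fun i => F.obj.map ((K.obj (op (SimplexCategory.mk 0))).obj i).hom.op y)
      (by intro j; rw [compat, compat])
    rw [huniq y (fun i => rfl)]
    refine (huniq y' (fun i => ?_)).symm
    rw [← π_ρ, ← π_ρ]
    exact congrArg (Pi.π (G0 K F) i) hy.symm
  have hex : S.Exact := by
    rw [ShortComplex.ab_exact_iff]
    intro x hx
    have hx' : ∀ j, F.obj.map ((K.δ (0 : Fin 2)).φ j).left.op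
          (Pi.π (G0 K F) ((K.δ (0 : Fin 2)).f j) x) =
        F.obj.map ((K.δ (1 : Fin 2)).φ j).left.op
          (Pi.π (G0 K F) ((K.δ (1 : Fin 2)).f j) x) := by
      intro j
      have h2 : Pi.π (G1 K F) j ((face K F 0 - face K F 1) x) = Pi.π (G1 K F) j 0 := by
        rw [← d_eq]
        exact congrArg (Pi.π (G1 K F) j) hx
      rw [map_zero] at h2
      have h3 : Pi.π (G1 K F) j (face K F 0 x - face K F 1 x) = 0 := h2
      rw [map_sub, π_face, π_face] at h3
      exact sub_eq_zero.1 h3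
    obtain ⟨y, hy, _⟩ := hshf (fun i => Pi.π (G0 K F) i x) hx'
    refine ⟨y, ?_⟩
    apply Concrete.limit_ext
    rintro ⟨i⟩
    show Pi.π (G0 K F) i (ρ K F y) = Pi.π (G0 K F) i x
    rw [π_ρ]
    exact hy i
  have hlim := hex.fIsKernel
  have hcyc := (cechCx X K F.obj).cyclesIsKernel 0 1 (by simp)
  exact ⟨(cechCx X K F.obj).isoHomologyπ₀.symm ≪≫ hcyc.conePointUniqueUpToIso hlim⟩

end Main

end Groth.Agent.Helper6.CechH0
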