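import Mathlib
import Groth.Agent.Helper1.CechPush

set_option autoImplicit false
set_option linter.style.haveILetI false
set_option linter.unusedSectionVars false
set_option linter.unusedVariables false
set_option linter.unusedSimpArgs false

/-!
# Čech complexes and product-preserving functors, up to isomorphism of the families

For a functor `Φ : D ⥤ D₂` preserving finite products, families `U` in `D` and `U₂` in `D₂` with
isomorphisms `Φ (U a) ≅ U₂ a`, the Čech complex of `Φ.op ⋙ P` for `U` is isomorphic to the Čech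
complex of `P` for `U₂`.
-/

namespace Groth.Agent.Helper6.CechIsoGen

open CategoryTheory CategoryTheory.Limits Opposite
open Groth.Agent.Helper1.Cech

universe w v v' u u'

variable {D : Type u} [Category.{v} D] [HasFiniteProducts D]
  {D₂ : Type u'} [Category.{v'} D₂] [HasFiniteProducts D₂] (Φ : D ⥤ D₂)
  [PreservesFiniteProducts Φ] {I : Type w} (U : I → D) (U₂ : I → D₂)
  (ε : ∀ a, Φ.obj (U a) ≅ U₂ a) (P : D₂ᵒᵖ ⥤ AddCommGrpCat.{w})

instance (n : ℕ) (x : Fin n → I) : PreservesLimit (Discrete.functor (U ∘ x)) Φ := by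
  haveI := PreservesFiniteProducts.preserves (F := Φ) n
  infer_instance

/-- the comparison isomorphism for products -/
noncomputable def e {n : ℕ} (x : Fin n → I) : Φ.obj (∏ᶜ (U ∘ x)) ≅ ∏ᶜ (U₂ ∘ x) :=
  PreservesProduct.iso Φ (U ∘ x) ≪≫ Pi.mapIso (fun k => ε (x k))

lemma e_hom_π {n : ℕ} (x : Fin n → I) (k : Fin n) :
    (e Φ U U₂ ε x).hom ≫ Pi.π (U₂ ∘ x) k = Φ.map (Pi.π (U ∘ x) k) ≫ (ε (x k)).hom := by
  unfold e
  rw [Iso.trans_hom, PreservesProduct.iso_hom, Category.assoc]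
  have h1 : (Pi.mapIso fun k => ε (x k)).hom ≫ Pi.π (U₂ ∘ x) k =
      Pi.π (fun k => Φ.obj (U (x k))) k ≫ (ε (x k)).hom := Pi.mapIso_hom_π _ _
  rw [h1, ← Category.assoc]
  congr 1
  exact piComparison_comp_π _ _ _

lemma e_face {n : ℕ} (j : Fin (n + 2)) (x : Fin (n + 2) → I) :
    Φ.map (face U j x) ≫ (e Φ U U₂ ε (x ∘ j.succAbove)).hom =
      (e Φ U U₂ ε x).hom ≫ face U₂ j x := by
  apply Pi.hom_ext
  intro k
  rw [Category.assoc, Category.assoc, e_hom_π, ← Category.assoc, ← Functor.map_comp]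
  unfold face
  erw [Pi.lift_π, Pi.lift_π, e_hom_π]
  rfl

lemma e_inv_face {n : ℕ} (j : Fin (n + 2)) (x : Fin (n + 2) → I) :
    (e Φ U U₂ ε x).inv ≫ Φ.map (face U j x) =
      face U₂ j x ≫ (e Φ U U₂ ε (x ∘ j.succAbove)).inv := by
  rw [Iso.inv_comp_eq, ← Category.assoc, Iso.eq_comp_inv]
  exact e_face Φ U U₂ ε j x

/-- the comparison on components -/
noncomputable def θ (n : ℕ) (x : Fin (n + 1) → I) :
    (Φ.op ⋙ P).obj (op (prodU U x)) ⟶ P.obj (op (prodU U₂ x)) :=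
  P.map (e Φ U U₂ ε x).inv.op

lemma θ_bijective (n : ℕ) (x : Fin (n + 1) → I) : Function.Bijective (θ Φ U U₂ ε P n x) := by
  haveI : IsIso (θ Φ U U₂ ε P n x) := by
    have h : θ Φ U U₂ ε P n x = (P.mapIso (e Φ U U₂ ε x).symm.op).hom := rfl
    rw [h]
    infer_instance
  exact (ConcreteCategory.isIso_iff_bijective _).1 inferInstance

lemma hθ (n : ℕ) (j : Fin (n + 2)) (x : Fin (n + 2) → I) :
    (Φ.op ⋙ P).map (face U j x).op ≫ θ Φ U U₂ ε P (n + 1) x =
      θ Φ U U₂ ε P n (x ∘ j.succAbove) ≫ P.map (face U₂ j x).op := by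
  unfold θ
  show P.map (Φ.map (face U j x)).op ≫ P.map (e Φ U U₂ ε x).inv.op =
    P.map (e Φ U U₂ ε (x ∘ j.succAbove)).inv.op ≫ P.map (face U₂ j x).op
  rw [← P.map_comp, ← P.map_comp, ← op_comp, ← op_comp, e_inv_face]

/-- the comparison of Čech complexes -/
noncomputable def cmp : cx U (Φ.op ⋙ P) ⟶ cx U₂ P :=
  Groth.Agent.Helper1.CechPush.cxMap U U₂ (Φ.op ⋙ P) P (θ Φ U U₂ ε P) (hθ Φ U U₂ ε P)

instance : IsIso (cmp Φ U U₂ ε P) := by
  haveI : ∀ n, IsIso ((cmp Φ U U₂ ε P).f n) := fun n =>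
    (ConcreteCategory.isIso_iff_bijective _).2
      (Groth.Agent.Helper1.CechPush.cxMapF_bijective U U₂ (Φ.op ⋙ P) P
        (θ Φ U U₂ ε P) n (θ_bijective Φ U U₂ ε P n))
  exact HomologicalComplex.Hom.isIso_of_components _

/-- vanishing of Čech cohomology transfers -/
theorem isZero_homology (ε : ∀ a, Φ.obj (U a) ≅ U₂ a) (p : ℕ)
    (h : IsZero ((cx U (Φ.op ⋙ P)).homology p)) : IsZero ((cx U₂ P).homology p) :=
  IsZero.of_iso h (asIso (HomologicalComplex.homologyMap (cmp Φ U U₂ ε P) p)).symm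

end Groth.Agent.Helper6.CechIsoGen
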