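import Mathlib

set_option autoImplicit false
open CategoryTheory Limits Opposite Simplicial

namespace Groth.Agent.Helper6.CechTriv

universe u

variable {A B : Type u} (f : A ⟶ B)

/-- the arrow -/
abbrev F : Arrow (Type u) := Arrow.mk f

/-- the Čech nerve -/
noncomputable abbrev Cn : SSet.{u} := (F f).cechNerve

/-- the augmentation -/
noncomputable abbrev p : Cn f ⟶ (SimplicialObject.const (Type u)).obj B :=
  (F f).augmentedCechNerve.hom

/-- augmented object from a map to `const B` -/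
def aug (S : SSet.{u}) (b : S ⟶ (SimplicialObject.const (Type u)).obj B) :
    SimplicialObject.Augmented (Type u) :=
  { left := S, right := B, hom := b }

variable {f}

/-- the arrow morphism from a vertex map -/
def G {S : SSet.{u}} (b : S ⟶ (SimplicialObject.const (Type u)).obj B) (φ : S _⦋0⦌ → A)
    (hφ : ∀ w, f (φ w) = b.app _ w) :
    SimplicialObject.Augmented.toArrow.obj (aug S b) ⟶ F f :=
  Arrow.homMk (u := TypeCat.ofHom φ) (v := 𝟙 B) (by
    ext w
    exact hφ w)

/-- the lift -/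
noncomputable def L {S : SSet.{u}} (b : S ⟶ (SimplicialObject.const (Type u)).obj B) (φ : S _⦋0⦌ → A)
    (hφ : ∀ w, f (φ w) = b.app _ w) : aug S b ⟶ (F f).augmentedCechNerve :=
  SimplicialObject.cechNerveEquiv (aug S b) (F f) (G b φ hφ)

lemma L_p {S : SSet.{u}} (b : S ⟶ (SimplicialObject.const (Type u)).obj B) (φ : S _⦋0⦌ → A)
    (hφ : ∀ w, f (φ w) = b.app _ w) : (L b φ hφ).left ≫ p f = b := by
  have := (L b φ hφ).w
  have h2 : (L b φ hφ).right = 𝟙 B := rfl
  rw [h2] at this
  refine this.trans ?_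
  change b ≫ (SimplicialObject.const (Type u)).map (𝟙 B) = b
  rw [CategoryTheory.Functor.map_id]
  exact Category.comp_id b

lemma L_vertex {S : SSet.{u}} (b : S ⟶ (SimplicialObject.const (Type u)).obj B) (φ : S _⦋0⦌ → A)
    (hφ : ∀ w, f (φ w) = b.app _ w) (w : S _⦋0⦌) :
    (WidePullback.π (fun _ : Fin (0 + 1) => (F f).hom) 0) ((L b φ hφ).left.app (op ⦋0⦌) w) = φ w := by
  have := (SimplicialObject.cechNerveEquiv (aug S b) (F f)).left_inv (G b φ hφ)
  have h2 := congrArg (fun (g : SimplicialObject.Augmented.toArrow.obj (aug S b) ⟶ F f) => g.left) this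
  exact ConcreteCategory.congr_hom h2 w


/-- morphism of augmented objects from a map over `B` -/
def mkAug {S : SSet.{u}} (b : S ⟶ (SimplicialObject.const (Type u)).obj B) (α : S ⟶ Cn f)
    (hα : α ≫ p f = b) : aug S b ⟶ (F f).augmentedCechNerve :=
  { left := α
    right := 𝟙 B
    w := by
      change α ≫ p f = b ≫ (SimplicialObject.const (Type u)).map (𝟙 B)
      rw [hα, CategoryTheory.Functor.map_id]
      exact (Category.comp_id b).symm }

lemma uniq {S : SSet.{u}} (b : S ⟶ (SimplicialObject.const (Type u)).obj B) (α β : S ⟶ Cn f)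
    (hα : α ≫ p f = b) (hβ : β ≫ p f = b)
    (h0 : ∀ w : S _⦋0⦌, (WidePullback.π (fun _ : Fin (0 + 1) => (F f).hom) 0) (α.app _ w) =
      (WidePullback.π (fun _ : Fin (0 + 1) => (F f).hom) 0) (β.app _ w)) : α = β := by
  have : (SimplicialObject.cechNerveEquiv (aug S b) (F f)).symm (mkAug b α hα) =
      (SimplicialObject.cechNerveEquiv (aug S b) (F f)).symm (mkAug b β hβ) := by
    apply Arrow.hom_ext
    · ext w
      exact h0 w
    · rfl
  have h := (SimplicialObject.cechNerveEquiv (aug S b) (F f)).symm.injective this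
  exact congrArg (fun g : aug S b ⟶ (F f).augmentedCechNerve => g.left) h


theorem main (f : A ⟶ B) (hf : Function.Surjective f) :
    SSet.modelCategoryQuillen.I.rlp (Arrow.mk f).augmentedCechNerve.hom := by
  intro X Y i hi
  cases hi with
  | mk n =>
  constructor
  intro t b sq
  rcases n with _ | m
  · have hinit : IsInitial ((∂Δ[0] : (Δ[0] : SSet.{u}).Subcomplex) : SSet.{u}) := by
      rw [SSet.boundary_zero]; exact SSet.Subcomplex.isInitialBot
    choose φ hφ using fun w : (Δ[0] : SSet.{u}) _⦋0⦌ => hf (b.app _ w)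
    exact ⟨⟨{ l := (L b φ hφ).left, fac_left := hinit.hom_ext _ _, fac_right := L_p b φ hφ }⟩⟩
  · have hmem : ∀ w : (Δ[m + 1] : SSet.{u}) _⦋0⦌,
        w ∈ (∂Δ[m + 1] : (Δ[m + 1] : SSet.{u}).Subcomplex).obj (op ⦋0⦌) := by
      intro w
      rw [SSet.boundary_obj_eq_univ 0 (m + 1)]
      trivial
    let φ : (Δ[m + 1] : SSet.{u}) _⦋0⦌ → A := fun w =>
      (WidePullback.π (fun _ : Fin (0 + 1) => (F f).hom) 0) (t.app (op ⦋0⦌) ⟨w, hmem w⟩)
    have hφ : ∀ w, f (φ w) = b.app _ w := by
      intro w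
      have h1 := ConcreteCategory.congr_hom
        (WidePullback.π_arrow (fun _ : Fin (0 + 1) => (F f).hom) 0) (t.app (op ⦋0⦌) ⟨w, hmem w⟩)
      have h2 := ConcreteCategory.congr_hom (congr_app sq.w (op ⦋0⦌)) ⟨w, hmem w⟩
      exact h1.trans h2
    refine ⟨⟨{ l := (L b φ hφ).left, fac_left := ?_, fac_right := L_p b φ hφ }⟩⟩
    apply uniq ((∂Δ[m + 1] : (Δ[m + 1] : SSet.{u}).Subcomplex).ι ≫ b)
    · exact (Category.assoc _ _ _).trans (congrArg (fun z => _ ≫ z) (L_p b φ hφ))
    · exact sq.w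
    · rintro ⟨w, hw⟩
      exact L_vertex b φ hφ w

end Groth.Agent.Helper6.CechTriv
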