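import Mathlib
import Groth.Agent.Helper6.CofanMod
import Groth.Agent.Helper6.TenCxBdd

/-!
# Tensor products of chain complexes (ℕ-indexed) of modules: summands and differentials
-/

set_option autoImplicit false
set_option linter.style.haveILetI false
set_option linter.unusedSectionVars false

universe u
open CategoryTheory CategoryTheory.Limits MonoidalCategory

namespace Groth.Agent.Helper6.ChTen

variable {R : Type u} [CommRing R]

/-- chain complexes of modules -/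
abbrev Ch (R : Type u) [CommRing R] : Type (u + 1) := ChainComplex (ModuleCat.{u} R) ℕ

/-- inclusion of a summand -/
noncomputable abbrev ι (L K : Ch R) (p q n : ℕ) (h : p + q = n) :
    L.X p ⊗ K.X q ⟶ (L ⊗ K).X n :=
  HomologicalComplex.ιTensorObj L K p q n h

@[reassoc]
lemma ι_whiskerLeft (L : Ch R) {K K' : Ch R} (f : K ⟶ K') (p q n : ℕ) (h : p + q = n) :
    ι L K p q n h ≫ (L ◁ f).f n = (L.X p ◁ f.f q) ≫ ι L K' p q n h := by
  have := HomologicalComplex.ι_mapBifunctorMap (𝟙 L) f (curriedTensor (ModuleCat.{u} R))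
    (ComplexShape.down ℕ) p q n h
  refine this.trans ?_
  simp

lemma hom_ext {L K : Ch R} {n : ℕ} {Y : ModuleCat.{u} R} {f g : (L ⊗ K).X n ⟶ Y}
    (h : ∀ (p q : ℕ) (hpq : p + q = n), ι L K p q n hpq ≫ f = ι L K p q n hpq ≫ g) : f = g :=
  HomologicalComplex.mapBifunctor.hom_ext (fun p q hpq => h p q hpq)

/-- index type of the summands of `(L ⊗ K).X n` -/
abbrev Idx (n : ℕ) : Type :=
  ↥((ComplexShape.π (ComplexShape.down ℕ) (ComplexShape.down ℕ) (ComplexShape.down ℕ)) ⁻¹' {n})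

noncomputable instance (n : ℕ) : DecidableEq (Idx n) := Classical.decEq _

/-- the underlying bigraded object -/
noncomputable abbrev gr (L K : Ch R) : GradedObject (ℕ × ℕ) (ModuleCat.{u} R) :=
  ((((curriedTensor (ModuleCat.{u} R)).mapBifunctorHomologicalComplex (ComplexShape.down ℕ)
    (ComplexShape.down ℕ)).obj L).obj K).toGradedObject

/-- the summands -/
noncomputable abbrev fam (L K : Ch R) (n : ℕ) : Idx n → ModuleCat.{u} R :=
  fun i => L.X i.1.1 ⊗ K.X i.1.2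

/-- the cofan of the summands -/
noncomputable def cof (L K : Ch R) (n : ℕ) : Cofan (fam L K n) :=
  (gr L K).cofanMapObj (ComplexShape.π (ComplexShape.down ℕ) (ComplexShape.down ℕ)
    (ComplexShape.down ℕ)) n

noncomputable def isColimitCof (L K : Ch R) (n : ℕ) : IsColimit (cof L K n) :=
  (gr L K).isColimitCofanMapObj _ n

lemma cof_inj (L K : Ch R) (n : ℕ) (i : Idx n) :
    (cof L K n).inj i = ι L K i.1.1 i.1.2 n i.2 := rfl

/-- induction principle for elements of `(L ⊗ K).X n` -/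
theorem induction_on {L K : Ch R} {n : ℕ} {P : (L ⊗ K).X n → Prop}
    (h0 : P 0) (hadd : ∀ x y, P x → P y → P (x + y))
    (hι : ∀ (p q : ℕ) (h : p + q = n) (t : ↑(L.X p ⊗ K.X q)), P (ι L K p q n h t))
    (x : (L ⊗ K).X n) : P x :=
  CofanMod.induction_on (cof L K n) (isColimitCof L K n) (P := P) h0 hadd
    (fun i t => hι i.1.1 i.1.2 i.2 t) x

/-- projection onto a summand -/
noncomputable def πp (L K : Ch R) (p q n : ℕ) (h : p + q = n) :
    (L ⊗ K).X n ⟶ L.X p ⊗ K.X q :=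
  CofanMod.proj (cof L K n) (isColimitCof L K n) ⟨(p, q), h⟩

lemma πp_ι_self (L K : Ch R) (p q n : ℕ) (h : p + q = n) (t : ↑(L.X p ⊗ K.X q)) :
    πp L K p q n h (ι L K p q n h t) = t :=
  CofanMod.proj_inj_self (cof L K n) (isColimitCof L K n) ⟨(p, q), h⟩ t

lemma ι_injective (L K : Ch R) (p q n : ℕ) (h : p + q = n) :
    Function.Injective (ι L K p q n h) := fun a b hab => by
  have := congrArg (πp L K p q n h) hab
  rwa [πp_ι_self, πp_ι_self] at this

lemma ι_d_succ_zero (L K : Ch R) (p : ℕ) :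
    ι L K (p + 1) 0 (p + 1) rfl ≫ (L ⊗ K).d (p + 1) p =
      (L.d (p + 1) p ▷ K.X 0) ≫ ι L K p 0 p rfl := by
  have h1 := HomologicalComplex.mapBifunctor.d_eq L K (curriedTensor (ModuleCat.{u} R))
    (ComplexShape.down ℕ) (p + 1) p
  show ι L K (p + 1) 0 (p + 1) rfl ≫ (HomologicalComplex.mapBifunctor L K
    (curriedTensor (ModuleCat.{u} R)) (ComplexShape.down ℕ)).d (p + 1) p = _
  rw [h1, Preadditive.comp_add]
  erw [HomologicalComplex.mapBifunctor.ι_D₁, HomologicalComplex.mapBifunctor.ι_D₂]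
  rw [HomologicalComplex.mapBifunctor.d₁_eq L K (curriedTensor (ModuleCat.{u} R))
      (ComplexShape.down ℕ) (i₁ := p + 1) (i₁' := p) (by simp) 0 p (by dsimp),
    HomologicalComplex.mapBifunctor.d₂_eq_zero L K (curriedTensor (ModuleCat.{u} R))
      (ComplexShape.down ℕ) (p + 1) 0 p (by simp)]
  simp

lemma ι_d_zero_succ (L K : Ch R) (q : ℕ) :
    ι L K 0 (q + 1) (q + 1) (Nat.zero_add _) ≫ (L ⊗ K).d (q + 1) q =
      (L.X 0 ◁ K.d (q + 1) q) ≫ ι L K 0 q q (Nat.zero_add _) := by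
  have h1 := HomologicalComplex.mapBifunctor.d_eq L K (curriedTensor (ModuleCat.{u} R))
    (ComplexShape.down ℕ) (q + 1) q
  show ι L K 0 (q + 1) (q + 1) (Nat.zero_add _) ≫ (HomologicalComplex.mapBifunctor L K
    (curriedTensor (ModuleCat.{u} R)) (ComplexShape.down ℕ)).d (q + 1) q = _
  rw [h1, Preadditive.comp_add]
  erw [HomologicalComplex.mapBifunctor.ι_D₁, HomologicalComplex.mapBifunctor.ι_D₂]
  rw [HomologicalComplex.mapBifunctor.d₁_eq_zero L K (curriedTensor (ModuleCat.{u} R))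
      (ComplexShape.down ℕ) 0 (q + 1) q (by simp),
    HomologicalComplex.mapBifunctor.d₂_eq L K (curriedTensor (ModuleCat.{u} R))
      (ComplexShape.down ℕ) 0 (i₂ := q + 1) (i₂' := q) (by simp) q (by dsimp; omega)]
  simp

lemma ι_d_succ_succ (L K : Ch R) (p q n : ℕ) (h : p + 1 + (q + 1) = n + 1) :
    ι L K (p + 1) (q + 1) (n + 1) h ≫ (L ⊗ K).d (n + 1) n =
      (L.d (p + 1) p ▷ K.X (q + 1)) ≫ ι L K p (q + 1) n (by omega) +
      (ComplexShape.down ℕ).ε (p + 1) •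
        ((L.X (p + 1) ◁ K.d (q + 1) q) ≫ ι L K (p + 1) q n (by omega)) := by
  have h1 := HomologicalComplex.mapBifunctor.d_eq L K (curriedTensor (ModuleCat.{u} R))
    (ComplexShape.down ℕ) (n + 1) n
  show ι L K (p + 1) (q + 1) (n + 1) h ≫ (HomologicalComplex.mapBifunctor L K
    (curriedTensor (ModuleCat.{u} R)) (ComplexShape.down ℕ)).d (n + 1) n = _
  rw [h1, Preadditive.comp_add]
  erw [HomologicalComplex.mapBifunctor.ι_D₁, HomologicalComplex.mapBifunctor.ι_D₂]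
  rw [HomologicalComplex.mapBifunctor.d₁_eq L K (curriedTensor (ModuleCat.{u} R))
      (ComplexShape.down ℕ) (i₁ := p + 1) (i₁' := p) (by simp) (q + 1) n (by dsimp; omega),
    HomologicalComplex.mapBifunctor.d₂_eq L K (curriedTensor (ModuleCat.{u} R))
      (ComplexShape.down ℕ) (p + 1) (i₂ := q + 1) (i₂' := q) (by simp) n (by dsimp; omega)]
  simp

section elements

variable (L K : Ch R)

lemma d_10 (z : ↑(L.X 1 ⊗ K.X 0)) :
    (L ⊗ K).d 1 0 (ι L K 1 0 1 rfl z) = ι L K 0 0 0 rfl ((L.d 1 0 ▷ K.X 0) z) :=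
  congrArg (fun f => f.hom z) (ι_d_succ_zero L K 0)

lemma d_20 (z : ↑(L.X 2 ⊗ K.X 0)) :
    (L ⊗ K).d 2 1 (ι L K 2 0 2 rfl z) = ι L K 1 0 1 rfl ((L.d 2 1 ▷ K.X 0) z) :=
  congrArg (fun f => f.hom z) (ι_d_succ_zero L K 1)

lemma d_01 (w : ↑(L.X 0 ⊗ K.X 1)) :
    (L ⊗ K).d 1 0 (ι L K 0 1 1 rfl w) = ι L K 0 0 0 rfl ((L.X 0 ◁ K.d 1 0) w) :=
  congrArg (fun f => f.hom w) (ι_d_zero_succ L K 0)

lemma d_02 (w : ↑(L.X 0 ⊗ K.X 2)) :
    (L ⊗ K).d 2 1 (ι L K 0 2 2 rfl w) = ι L K 0 1 1 rfl ((L.X 0 ◁ K.d 2 1) w) :=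
  congrArg (fun f => f.hom w) (ι_d_zero_succ L K 1)

lemma d_11 (v : ↑(L.X 1 ⊗ K.X 1)) :
    (L ⊗ K).d 2 1 (ι L K 1 1 2 rfl v) =
      ι L K 0 1 1 rfl ((L.d 1 0 ▷ K.X 1) v) - ι L K 1 0 1 rfl ((L.X 1 ◁ K.d 1 0) v) := by
  have h := congrArg (fun f => f.hom v) (ι_d_succ_succ L K 0 0 1 rfl)
  refine h.trans ?_
  have hε : (ComplexShape.down ℕ).ε (0 + 1) = -1 := by
    rw [ComplexShape.ε_down_ℕ]; rfl
  rw [hε]
  simp [sub_eq_add_neg]

lemma whisker_ι {K' : Ch R} (f : K ⟶ K') (p q n : ℕ) (h : p + q = n) (t : ↑(L.X p ⊗ K.X q)) :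
    (L ◁ f).f n (ι L K p q n h t) = ι L K' p q n h ((L.X p ◁ f.f q) t) :=
  congrArg (fun g => g.hom t) (ι_whiskerLeft L f p q n h)

/-- elements in degree one -/
lemma exists_decomp_one (x : (L ⊗ K).X 1) :
    ∃ (z : ↑(L.X 1 ⊗ K.X 0)) (w : ↑(L.X 0 ⊗ K.X 1)), x = ι L K 1 0 1 rfl z + ι L K 0 1 1 rfl w := by
  induction x using induction_on with
  | h0 => exact ⟨0, 0, by rw [map_zero, map_zero, add_zero]⟩
  | hadd x y hx hy =>
    obtain ⟨z, w, rfl⟩ := hx
    obtain ⟨z', w', rfl⟩ := hy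
    exact ⟨z + z', w + w', by rw [map_add, map_add]; abel⟩
  | hι p q h t =>
    have : (p = 1 ∧ q = 0) ∨ (p = 0 ∧ q = 1) := by omega
    rcases this with ⟨rfl, rfl⟩ | ⟨rfl, rfl⟩
    · exact ⟨t, 0, by rw [map_zero, add_zero]⟩
    · exact ⟨0, t, by rw [map_zero, zero_add]⟩

/-- if `K` is concentrated in degree zero, every element is in the `(n, 0)` summand -/
lemma exists_ι_zero (hK : ∀ q : ℕ, q ≠ 0 → IsZero (K.X q)) (n : ℕ) (e : (L ⊗ K).X n) :
    ∃ t : ↑(L.X n ⊗ K.X 0), e = ι L K n 0 n rfl t := by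
  induction e using induction_on with
  | h0 => exact ⟨0, by rw [map_zero]⟩
  | hadd x y hx hy =>
    obtain ⟨z, rfl⟩ := hx
    obtain ⟨z', rfl⟩ := hy
    exact ⟨z + z', by rw [map_add]⟩
  | hι p q h t =>
    by_cases hq : q = 0
    · subst hq
      obtain rfl : p = n := by omega
      exact ⟨t, rfl⟩
    · refine ⟨0, ?_⟩
      rw [TenCx.tmul_subsingleton_right _ _ (hK q hq) t, map_zero, map_zero]

end elements

end Groth.Agent.Helper6.ChTen
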