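import Mathlib
import Groth.Agent.Helper6.ChTen1
import Groth.Agent.Helper6.HomElem1

/-!
# `H₁(C ⊗ P) ≅ H₁(C ⊗ G)` for a resolution `P → G` when `C₀` is flat
-/

set_option autoImplicit false
set_option linter.style.haveILetI false
set_option linter.unusedSectionVars false

universe u
open CategoryTheory CategoryTheory.Limits MonoidalCategory

namespace Groth.Agent.Helper6.ChTen

variable {R : Type u} [CommRing R]

lemma whiskerLeft_rexact (M : ModuleCat.{u} R) {A B D : ModuleCat.{u} R} (f : A ⟶ B) (g : B ⟶ D)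
    (hex : Function.Exact f g) (hg : Function.Surjective g) (y : ↑(M ⊗ B))
    (hy : (M ◁ g) y = 0) : ∃ x, (M ◁ f) x = y := by
  have := lTensor_exact M (f := f.hom) (g := g.hom) hex hg
  exact (this y).mp hy

lemma whiskerLeft_exact_of_flat (M : ModuleCat.{u} R) [Module.Flat R M] {A B D : ModuleCat.{u} R}
    (f : A ⟶ B) (g : B ⟶ D) (hex : Function.Exact f g) (y : ↑(M ⊗ B))
    (hy : (M ◁ g) y = 0) : ∃ x, (M ◁ f) x = y := by
  have := Module.Flat.lTensor_exact M (f := f.hom) (g := g.hom) hex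
  exact (this y).mp hy

lemma exchange_apply {W X Y Z : ModuleCat.{u} R} (f : W ⟶ X) (g : Y ⟶ Z) (t : ↑(W ⊗ Y)) :
    (f ▷ Z) ((W ◁ g) t) = (X ◁ g) ((f ▷ Y) t) :=
  congrArg (fun h => h.hom t) (whisker_exchange f g)

lemma dd_whiskerRight_apply (C : Ch R) (M : ModuleCat.{u} R) (i j k : ℕ) (t : ↑(C.X i ⊗ M)) :
    (C.d j k ▷ M) ((C.d i j ▷ M) t) = 0 := by
  have h : (C.d i j ▷ M) ≫ (C.d j k ▷ M) = 0 := by
    rw [← comp_whiskerRight, C.d_comp_d, MonoidalPreadditive.zero_whiskerRight]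
  exact congrArg (fun h => h.hom t) h

section main

variable (C P S : Ch R) (π : P ⟶ S) (hS : ∀ q : ℕ, q ≠ 0 → IsZero (S.X q))
  (hπ0 : Function.Surjective (π.f 0))
  (hex01 : Function.Exact (P.d 1 0) (π.f 0))
  (hex12 : Function.Exact (P.d 2 1) (P.d 1 0))

include hS hπ0 hex01 in
theorem epi_main : Epi (HomologicalComplex.homologyMap (C ◁ π) 1) := by
  apply HomElem.epi_homologyMap_of_elements (C ◁ π) 2 1 0 (by simp) (ChainComplex.next_nat_succ 0)
  intro e he
  obtain ⟨z, rfl⟩ := exists_ι_zero C S hS 1 e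
  rw [d_10 C S z] at he
  have he' : (C.d 1 0 ▷ S.X 0) z = 0 := by
    apply ι_injective C S 0 0 0 rfl
    rw [he, map_zero]
  obtain ⟨z', rfl⟩ := TenCx.whiskerLeft_surjective_of_surjective (C.X 1) (π.f 0) hπ0 z
  have hk : (C.X 0 ◁ π.f 0) ((C.d 1 0 ▷ P.X 0) z') = 0 := by
    rw [← exchange_apply]; exact he'
  obtain ⟨w, hw⟩ := whiskerLeft_rexact (C.X 0) (P.d 1 0) (π.f 0) hex01 hπ0 _ hk
  have hw0 : (C.X 0 ◁ π.f 1) w = 0 :=
    TenCx.tmul_subsingleton_right _ _ (hS 1 one_ne_zero) _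
  refine ⟨ι C P 1 0 1 rfl z' - ι C P 0 1 1 rfl w, ?_, 0, ?_⟩
  · rw [map_sub, d_10, d_01, hw, sub_self]
  · rw [map_sub, whisker_ι, whisker_ι, hw0]
    simp only [map_zero, add_zero, sub_zero]

include hS hπ0 hex01 hex12 in
theorem mono_main [Module.Flat R (C.X 0)] :
    Mono (HomologicalComplex.homologyMap (C ◁ π) 1) := by
  apply HomElem.mono_homologyMap_of_elements (C ◁ π) 2 1 0 (by simp) (ChainComplex.next_nat_succ 0)
  rintro x hx ⟨e, he⟩
  obtain ⟨z', w, rfl⟩ := exists_decomp_one C P x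
  obtain ⟨y, rfl⟩ := exists_ι_zero C S hS 2 e
  have hw0 : (C.X 0 ◁ π.f 1) w = 0 :=
    TenCx.tmul_subsingleton_right _ _ (hS 1 one_ne_zero) _
  rw [d_20 C S y, map_add, whisker_ι, whisker_ι, hw0] at he
  simp only [map_zero, add_zero] at he
  have he' : (C.d 2 1 ▷ S.X 0) y = (C.X 1 ◁ π.f 0) z' := ι_injective C S 1 0 1 rfl he
  obtain ⟨y', rfl⟩ := TenCx.whiskerLeft_surjective_of_surjective (C.X 2) (π.f 0) hπ0 y
  have hk : (C.X 1 ◁ π.f 0) (z' - (C.d 2 1 ▷ P.X 0) y') = 0 := by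
    rw [map_sub, ← he', exchange_apply, sub_self]
  obtain ⟨v₁, hv₁⟩ := whiskerLeft_rexact (C.X 1) (P.d 1 0) (π.f 0) hex01 hπ0 _ hk
  rw [map_add, d_10, d_01, ← map_add] at hx
  have hx' : (C.d 1 0 ▷ P.X 0) z' + (C.X 0 ◁ P.d 1 0) w = 0 := by
    apply ι_injective C P 0 0 0 rfl
    rw [hx, map_zero]
  have hw' : (C.X 0 ◁ P.d 1 0) (w + (C.d 1 0 ▷ P.X 1) v₁) = 0 := by
    rw [map_add, ← exchange_apply, hv₁, map_sub, dd_whiskerRight_apply, sub_zero, add_comm]
    exact hx'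
  obtain ⟨u, hu⟩ := whiskerLeft_exact_of_flat (C.X 0) (P.d 2 1) (P.d 1 0) hex12 _ hw'
  refine ⟨ι C P 2 0 2 rfl y' - ι C P 1 1 2 rfl v₁ + ι C P 0 2 2 rfl u, ?_⟩
  rw [map_add, map_sub, d_20, d_11, d_02, hu, hv₁]
  simp only [map_add, map_sub]
  abel

end main

theorem isIso_main (C P : Ch R) (G : ModuleCat.{u} R) [Module.Flat R (C.X 0)]
    [∀ q, Module.Projective R (P.X q)]
    (π : P ⟶ (ChainComplex.single₀ (ModuleCat.{u} R)).obj G) [QuasiIso π] :
    IsIso (HomologicalComplex.homologyMap (C ◁ π) 1) := by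
  let Pr : ProjectiveResolution G :=
    { complex := P
      projective := fun n => inferInstance
      π := π }
  have hS : ∀ q : ℕ, q ≠ 0 → IsZero (((ChainComplex.single₀ (ModuleCat.{u} R)).obj G).X q) :=
    fun q hq => HomologicalComplex.isZero_single_obj_X _ _ _ _ hq
  have hπ0 : Function.Surjective (π.f 0) :=
    (ModuleCat.epi_iff_surjective _).1 (ProjectiveResolution.instEpiFNatπ Pr 0)
  have hex01 : Function.Exact (P.d 1 0) (π.f 0) := fun z => by
    constructor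
    · intro hz
      exact (ShortComplex.moduleCat_exact_iff _).mp Pr.exact₀ z hz
    · rintro ⟨w, rfl⟩
      exact congrArg (fun t => t.hom w) Pr.complex_d_comp_π_f_zero
  have hex12 : Function.Exact (P.d 2 1) (P.d 1 0) := fun z => by
    constructor
    · intro hz
      exact (ShortComplex.moduleCat_exact_iff _).mp (Pr.exact_succ 0) z hz
    · rintro ⟨w, rfl⟩
      exact congrArg (fun t => t.hom w) (P.d_comp_d 2 1 0)
  haveI := epi_main C P _ π hS hπ0 hex01
  haveI := mono_main C P _ π hS hπ0 hex01 hex12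
  exact isIso_of_mono_of_epi _

end Groth.Agent.Helper6.ChTen
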