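import Mathlib
import Groth.Agent.Helper4.AlgSpPts
import Groth.Agent.Helper4.AlgSpQC2
import Groth.Agent.Helper4.AlgSpPtsDesc
import Groth.Agent.Helper4.AlgSpSrc

/-!
# Helper6: Chevalley's theorem for algebraic spaces
-/

set_option autoImplicit false
set_option linter.style.haveILetI false
set_option linter.unusedVariables false
universe u

namespace Groth.Agent.Helper6.ChevSp
open CategoryTheory Limits AlgebraicGeometry Opposite AlgSp IsLocalRing Topology
open Groth.Agent.Helper4.AlgSpQC2 Groth.Agent.Helper4.AlgSpPtsDesc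
open scoped Set.Notation

variable {S : Scheme.{u}}

set_option backward.isDefEq.respectTransparency.types false in
/-- the affine case -/
theorem image_affine {X Y : Sp S} (hX : IsAlgSpace X) (hY : IsAlgSpace Y) (f : X ⟶ Y)
    (hq : IsQuasiCompactMor f) (hfp : LocP @LocallyOfFinitePresentation f)
    (E : Set (Points X))
    (hE : ∀ (U : Over S) (φ : (yon S).obj U ⟶ X), RepWith @Etale φ →
        IsLocallyConstructible (Points.ofPt φ ⁻¹' E))
    (V : Over S) [IsAffine V.left] (φ : (yon S).obj V ⟶ Y) (hφ : RepWith @Etale φ) :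
    IsLocallyConstructible (Points.ofPt φ ⁻¹' (Points.map f '' E)) := by
  have sq : IsPullback (pullback.fst f φ) (pullback.snd f φ) f φ := IsPullback.of_hasPullback _ _
  obtain ⟨W, ψ, hψe, hψs, hWc⟩ := hq (IsAlgSpace.yon_obj V) (isQuasiCompactSp_yon V) φ _ _ sq
  haveI : CompactSpace ↥W.left := hWc
  obtain ⟨h, hh⟩ := (yon S).map_surjective (ψ ≫ pullback.snd f φ)
  have i1 := repWith_isStableUnderBaseChange (S := S) @Etale
  have hfst : RepWith @Etale (pullback.fst f φ) := MorphismProperty.of_isPullback sq.flip hφ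
  have hae : RepWith @Etale (ψ ≫ pullback.fst f φ) :=
    Groth.Agent.Helper4.AlgSpSrc.repWith_comp _ hψe hfst
  have hcomm : (ψ ≫ pullback.fst f φ) ≫ f = (yon S).map h ≫ φ := by
    rw [hh, Category.assoc, Category.assoc, sq.w]
  have hlfp : LocallyOfFinitePresentation h.left := hfp _ φ h hae hφ hcomm
  have hqc : QuasiCompact h.left := quasiCompact_of_compactSpace h.left
  have hEW := hE W _ hae
  have key : Points.ofPt φ ⁻¹' (Points.map f '' E) =
      h.left '' (Points.ofPt (ψ ≫ pullback.fst f φ) ⁻¹' E) := by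
    ext v
    constructor
    · rintro ⟨x, hxE, hx⟩
      have hx' : Points.map f x = Points.map φ (Points.schemeHomeo V v) := by
        rw [ofPt_eq_map_schemeHomeo]
        exact hx
      obtain ⟨z, hz1, hz2⟩ := exists_point_of_isPullback sq x _ hx'
      obtain ⟨r, hr⟩ := Groth.Agent.Helper4.AlgSpPts.isSurjectiveMor_of_repWith ψ hψs z
      obtain ⟨w, rfl⟩ := (Points.schemeHomeo W).surjective r
      rw [ofPt_eq_map_schemeHomeo] at hr
      refine ⟨w, ?_, ?_⟩
      · show Points.ofPt (ψ ≫ pullback.fst f φ) w ∈ E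
        rw [← Points.map_ofPt, hr, hz1]
        exact hxE
      · apply (Points.schemeHomeo V).injective
        rw [← Points.map_yon_map_apply, hh, Points.map_comp, ofPt_eq_map_schemeHomeo, hr, hz2]
    · rintro ⟨w, hw, rfl⟩
      refine ⟨Points.ofPt (ψ ≫ pullback.fst f φ) w, hw, ?_⟩
      rw [Points.map_ofPt, hcomm, ofPt_yon_map_comp]
  rw [key]
  exact h.left.isLocallyConstructible_image hEW


set_option backward.isDefEq.respectTransparency.types false in
/-- S9982 -/
theorem image_locallyConstructible {X Y : Sp S} (hX : IsAlgSpace X) (hY : IsAlgSpace Y) (f : X ⟶ Y)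
    (hq : IsQuasiCompactMor f) (hfp : LocP @LocallyOfFinitePresentation f)
    (E : Set (Points X))
    (hE : ∀ (U : Over S) (φ : (yon S).obj U ⟶ X), RepWith @Etale φ →
        IsLocallyConstructible (Points.ofPt φ ⁻¹' E))
    (V : Over S) (φ : (yon S).obj V ⟶ Y) (hφ : RepWith @Etale φ) :
    IsLocallyConstructible (Points.ofPt φ ⁻¹' (Points.map f '' E)) := by
  refine IsLocallyConstructible.of_isOpenCover
    (U := fun i : V.left.affineOpens => (i : V.left.Opens)) (iSup_affineOpens_eq_top V.left) ?_
  intro i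
  haveI : IsAffine (opOver V i.1).left := i.2
  have hie : RepWith @Etale ((yon S).map (opι V i.1) ≫ φ) :=
    Groth.Agent.Helper4.AlgSpSrc.repWith_comp _
      ((repWith_yon_map_iff @Etale (opι V i.1)).2 (inferInstanceAs (Etale i.1.ι))) hφ
  have := image_affine hX hY f hq hfp E hE (opOver V i.1) ((yon S).map (opι V i.1) ≫ φ) hie
  have h2 : (((i : V.left.Opens) : Set ↥V.left) ↓∩ (Points.ofPt φ ⁻¹' (Points.map f '' E))) =
      Points.ofPt ((yon S).map (opι V i.1) ≫ φ) ⁻¹' (Points.map f '' E) := by
    ext v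
    show Points.ofPt φ v.1 ∈ (Points.map f '' E) ↔
      Points.ofPt ((yon S).map (opι V i.1) ≫ φ) v ∈ (Points.map f '' E)
    rw [ofPt_yon_map_comp]
    rfl
  rw [h2]
  exact this

end Groth.Agent.Helper6.ChevSp
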