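import Mathlib
import Groth.Agent.S0210
import Groth.Agent.S0211

set_option autoImplicit false
set_option linter.style.haveILetI false
set_option linter.unusedSectionVars false

namespace Groth.Agent.Helper6.CiTr

universe u v

open Curves

theorem isCi_of_ringEquiv {K : Type u} {L : Type v} [Field K] [Field L] (e : K ≃+* L) (i : ℕ)
    (hK : IsCi K i) : IsCi L i := by
  intro r n f d hf hd hlt
  obtain ⟨a, ha0, ha⟩ := hK r n (fun ρ => MvPolynomial.map (e.symm : L →+* K) (f ρ)) d
    (fun ρ => (hf ρ).map _) hd hlt
  have key : ∀ p : MvPolynomial (Fin n) L, MvPolynomial.eval (fun j => e (a j)) p =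
      e (MvPolynomial.eval a (MvPolynomial.map (e.symm : L →+* K) p)) := by
    intro p
    induction p using MvPolynomial.induction_on with
    | C c => simp
    | add p q hp hq => simp [hp, hq]
    | mul_X p j hp => simp [hp]
  refine ⟨fun j => e (a j), ?_, fun ρ => ?_⟩
  · intro h
    apply ha0
    funext j
    have := congrFun h j
    simpa using this
  · rw [key, ha ρ, map_zero]

theorem card_compl {ι : Type} [Finite ι] (i : ι) (t : ℕ) (h : Nat.card ι = t + 1) :
    Nat.card ↥({i}ᶜ : Set ι) = t := by
  have h1 := Set.ncard_add_ncard_compl ({i} : Set ι)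
  rw [Set.ncard_singleton] at h1
  rw [Nat.card_coe_set_eq]
  omega

theorem step {k : Type u} {K : Type v} [Field k] [Field K] [Algebra k K] {ι : Type} (x : ι → K)
    (hx : IsTranscendenceBasis k x) (i : ι) (m : ℕ) (hk : IsCi k m) :
    ∃ k' : IntermediateField k K, IsCi k' (m + 1) ∧
      IsTranscendenceBasis k' (fun j : ↥({i}ᶜ : Set ι) => x j) := by
  have htr : Transcendental k (x i) := hx.1.transcendental i
  refine ⟨IntermediateField.adjoin k (x '' {i}), ?_, ?_⟩
  · have e : RatFunc k ≃ₐ[k] IntermediateField.adjoin k {x i} :=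
      RatFunc.algEquivOfTranscendental (x i) htr
    rw [Set.image_singleton]
    exact isCi_of_ringEquiv e.toRingEquiv (m + 1) (Groth.Agent.S0211.result k m hk)
  · have h2 := ((AlgebraicIndependent.iff_adjoin_image ({i} : Set ι)).mp hx.1).2
    have h3 : AlgebraicIndependent (IntermediateField.adjoin k (x '' {i}))
        (fun j : ↥({i}ᶜ : Set ι) => x j) :=
      IntermediateField.algebraicIndependent_adjoin_iff.mpr h2
    rw [h3.isTranscendenceBasis_iff_isAlgebraic]
    have halg := hx.isAlgebraic
    have le : Algebra.adjoin k (Set.range x) ≤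
        (Algebra.adjoin (IntermediateField.adjoin k (x '' {i}))
          (Set.range (fun j : ↥({i}ᶜ : Set ι) => x j))).restrictScalars k := by
      apply Algebra.adjoin_le
      rintro _ ⟨j, rfl⟩
      by_cases hj : j = i
      · rw [hj]
        have hmem : x i ∈ IntermediateField.adjoin k (x '' {i}) :=
          IntermediateField.subset_adjoin k _ ⟨i, rfl, rfl⟩
        exact (Algebra.adjoin (IntermediateField.adjoin k (x '' {i}))
          (Set.range (fun j : ↥({i}ᶜ : Set ι) => x j))).algebraMap_mem ⟨x i, hmem⟩
      · exact Algebra.subset_adjoin ⟨⟨j, hj⟩, rfl⟩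
    let _ : Algebra (Algebra.adjoin k (Set.range x))
        (Algebra.adjoin (IntermediateField.adjoin k (x '' {i}))
          (Set.range (fun j : ↥({i}ᶜ : Set ι) => x j))) := (Subalgebra.inclusion le).toAlgebra
    have : IsScalarTower (Algebra.adjoin k (Set.range x))
        (Algebra.adjoin (IntermediateField.adjoin k (x '' {i}))
          (Set.range (fun j : ↥({i}ᶜ : Set ι) => x j))) K := .of_algebraMap_eq fun x ↦ rfl
    exact .extendScalars (Subalgebra.inclusion_injective le)

theorem aux (t : ℕ) : ∀ (k K : Type v) [Field k] [Field K] [Algebra k K] (m : ℕ) (ι : Type)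
    [Finite ι] (x : ι → K), Nat.card ι = t → IsTranscendenceBasis k x → IsCi k m →
    IsCi K (m + t) := by
  induction t with
  | zero =>
    intro k K _ _ _ m ι _ x hc hx hk
    have hE : IsEmpty ι :=
      (Nat.card_eq_zero.mp hc).resolve_right (not_infinite_iff_finite.mpr inferInstance)
    have : Algebra.IsAlgebraic k K := hx.isEmpty_iff_isAlgebraic.mp hE
    exact Groth.Agent.S0210.result k K m hk
  | succ t ih =>
    intro k K _ _ _ m ι _ x hc hx hk
    have hne : Nonempty ι := (Nat.card_pos_iff.mp (by omega)).1
    obtain ⟨i⟩ := hne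
    obtain ⟨k', hk', hb⟩ := step x hx i m hk
    have := ih k' K (m + 1) ↥({i}ᶜ : Set ι) _ (card_compl i t hc) hb hk'
    have e : m + (t + 1) = m + 1 + t := by omega
    rw [e]; exact this

theorem main (k : Type u) [Field k] (K : Type v) [Field K] [Algebra k K]
    (m t : ℕ) (x : Fin t → K) (hx : IsTranscendenceBasis k x) (hk : IsCi k m) :
    IsCi K (m + t) := by
  rcases t with _ | t
  · have : Algebra.IsAlgebraic k K := hx.isEmpty_iff_isAlgebraic.mp inferInstance
    exact Groth.Agent.S0210.result k K m hk
  · obtain ⟨k', hk', hb⟩ := step x hx 0 m hk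
    have := aux t k' K (m + 1) _ _ (card_compl (0 : Fin (t + 1)) t (by simp)) hb hk'
    have e : m + (t + 1) = m + 1 + t := by omega
    rw [e]; exact this

end Groth.Agent.Helper6.CiTr
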