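import Mathlib
import Groth.Agent.Helper4.EtaleLift
import Groth.Agent.Helper2.SpfAdic

/-! Global lifting of affine étale schemes along closed immersions of affine schemes. -/

set_option autoImplicit false
set_option linter.style.haveILetI false
set_option linter.unusedSectionVars false
set_option linter.unusedVariables false
set_option linter.unusedSimpArgs false

universe u

open CategoryTheory CategoryTheory.Limits Opposite AlgebraicGeometry TopologicalSpace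

namespace Groth.Agent.Helper6.ClLiftA

set_option backward.isDefEq.respectTransparency.types false in
set_option maxHeartbeats 800000 in
/-- an affine étale scheme over a closed subscheme of an affine scheme lifts to an affine étale
scheme over the ambient scheme -/
theorem exists_global_lift {V Z X : Scheme.{u}} [IsAffine X] [IsAffine V] (i : Z ⟶ X)
    [IsClosedImmersion i] (φ : V ⟶ Z) [Etale φ] :
    ∃ (V' : Scheme.{u}) (π : V' ⟶ X) (k : V ⟶ V'), IsAffine V' ∧ Etale π ∧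
      IsPullback k φ π i := by
  have hR : IsAffineOpen (⊤ : X.Opens) := isAffineOpen_top X
  have hR₀ : IsAffineOpen (i ⁻¹ᵁ (⊤ : X.Opens)) := hR.preimage i
  have hQ : IsAffineOpen (⊤ : V.Opens) := isAffineOpen_top V
  have hQle : (⊤ : V.Opens) ≤ φ ⁻¹ᵁ (i ⁻¹ᵁ (⊤ : X.Opens)) := fun _ _ => trivial
  let φr : Γ(X, ⊤) ⟶ Γ(Z, i ⁻¹ᵁ ⊤) := i.app ⊤
  have hφ : Function.Surjective φr.hom := i.app_surjective ⊤ hR
  let ψ₀ : Γ(Z, i ⁻¹ᵁ ⊤) ⟶ Γ(V, ⊤) := φ.appLE (i ⁻¹ᵁ ⊤) ⊤ hQle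
  have hψ₀ : ψ₀.hom.Etale :=
    HasRingHomProperty.appLE (P := @Etale) φ inferInstance ⟨_, hR₀⟩ ⟨⊤, hQ⟩ hQle
  letI : Algebra Γ(X, ⊤) Γ(Z, i ⁻¹ᵁ ⊤) := φr.hom.toAlgebra
  letI : Algebra Γ(Z, i ⁻¹ᵁ ⊤) Γ(V, ⊤) := ψ₀.hom.toAlgebra
  letI : Algebra Γ(X, ⊤) Γ(V, ⊤) := (φr ≫ ψ₀).hom.toAlgebra
  haveI : IsScalarTower Γ(X, ⊤) Γ(Z, i ⁻¹ᵁ ⊤) Γ(V, ⊤) :=
    IsScalarTower.of_algebraMap_eq fun _ => rfl
  haveI : Algebra.Etale Γ(Z, i ⁻¹ᵁ ⊤) Γ(V, ⊤) := RingHom.etale_algebraMap.mp hψ₀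
  obtain ⟨B, _, _, ψ, hB, hψs, hψk⟩ :=
    Groth.Agent.Helper4.EtaleLift.exists_etale_lift' Γ(X, ⊤) Γ(Z, i ⁻¹ᵁ ⊤) Γ(V, ⊤) hφ
  let ιB : Γ(X, ⊤) ⟶ CommRingCat.of B := CommRingCat.ofHom (algebraMap Γ(X, ⊤) B)
  let ψc : CommRingCat.of B ⟶ Γ(V, ⊤) := CommRingCat.ofHom ψ.toRingHom
  have hpo : IsPushout ιB φr ψc ψ₀ :=
    Groth.Agent.Helper2.SpfAdic.isPushout_of_surjective (algebraMap Γ(X, ⊤) B) φr.hom ψ.toRingHom
      ψ₀.hom (by
        ext a
        exact ψ.commutes a) hφ hψs (le_of_eq hψk)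
  have sq1 : IsPullback (Spec.map ψc) (Spec.map ψ₀) (Spec.map ιB) (Spec.map φr) :=
    isPullback_SpecMap_of_isPushout _ _ _ _ hpo
  have sq2 : IsPullback (Spec.map φr) hR₀.fromSpec hR.fromSpec i := by
    refine IsOpenImmersion.isPullback _ _ _ _ ?_ ?_
    · have := IsAffineOpen.SpecMap_appLE_fromSpec i hR hR₀ le_rfl
      rw [← this, ← Scheme.Hom.app_eq_appLE]
    · rw [hR.opensRange_fromSpec, hR₀.opensRange_fromSpec]
  have sq := sq1.paste_vert sq2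
  have e0 : Spec.map ψ₀ ≫ hR₀.fromSpec = hQ.fromSpec ≫ φ :=
    IsAffineOpen.SpecMap_appLE_fromSpec φ hR₀ hQ hQle
  rw [e0] at sq
  haveI : IsIso hQ.fromSpec := by
    rw [IsAffineOpen.fromSpec_top]
    infer_instance
  haveI : IsIso hR.fromSpec := by
    rw [IsAffineOpen.fromSpec_top]
    infer_instance
  have hπ : Etale (Spec.map ιB ≫ hR.fromSpec) := by
    have h1 : Etale (Spec.map ιB) := by
      rw [HasRingHomProperty.Spec_iff (P := @Etale)]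
      exact RingHom.etale_algebraMap.mpr hB
    infer_instance
  refine ⟨Spec (CommRingCat.of B), Spec.map ιB ≫ hR.fromSpec, inv hQ.fromSpec ≫ Spec.map ψc,
    inferInstance, hπ, ?_⟩
  have hiso : IsPullback (inv hQ.fromSpec) φ (hQ.fromSpec ≫ φ) (𝟙 Z) := by
    refine IsPullback.of_horiz_isIso ⟨?_⟩
    simp
  have := hiso.paste_horiz sq
  simpa using this

end Groth.Agent.Helper6.ClLiftA
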