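import Mathlib

/-! Base change of a disjoint-union-of-opens decomposition along a morphism, with a compact
total space: only finitely many pieces survive. -/

set_option autoImplicit false
set_option linter.style.haveILetI false
set_option linter.unusedSectionVars false
set_option linter.unusedVariables false
set_option linter.unusedSimpArgs false

universe u

open CategoryTheory CategoryTheory.Limits Opposite AlgebraicGeometry TopologicalSpace

namespace Groth.Agent.Helper6.ClLiftB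

theorem exists_preimage_of_isPullback {A X Y Z : Scheme.{u}} {fst : A ⟶ X} {snd : A ⟶ Y}
    {f : X ⟶ Z} {g : Y ⟶ Z} (h : IsPullback fst snd f g) (x : X) (y : Y)
    (hxy : f x = g y) : ∃ a : A, fst a = x ∧ snd a = y := by
  have := h.hasPullback
  obtain ⟨z, hz1, hz2⟩ := Scheme.Pullback.exists_preimage_pullback x y hxy
  refine ⟨h.isoPullback.inv z, ?_, ?_⟩
  · rw [← hz1, ← Scheme.Hom.comp_apply, h.isoPullback_inv_fst]
  · rw [← hz2, ← Scheme.Hom.comp_apply, h.isoPullback_inv_snd]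

set_option backward.isDefEq.respectTransparency.types false in
set_option maxHeartbeats 800000 in
theorem exists_decomp {V Z X V' : Scheme.{u}} (i : Z ⟶ X) (φ : V ⟶ Z) (π : V' ⟶ X) (k : V ⟶ V')
    (hpb : IsPullback k φ π i) [CompactSpace V]
    (ι' : Type u) (V'' : ι' → X.Opens) (e' : (∐ fun j => (V'' j : Scheme.{u})) ≅ V')
    (he' : ∀ j, Sigma.ι (fun j => (V'' j : Scheme.{u})) j ≫ e'.hom ≫ π = (V'' j).ι) :
    ∃ (ι : Type u) (_ : Finite ι) (W : ι → Z.Opens) (e : (∐ fun k => (W k : Scheme.{u})) ≅ V),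
      ∀ k, Sigma.ι (fun k => (W k : Scheme.{u})) k ≫ e.hom ≫ φ = (W k).ι := by
  classical
  let u : ∀ j, (V'' j : Scheme.{u}) ⟶ V' :=
    fun j => Sigma.ι (fun j => (V'' j : Scheme.{u})) j ≫ e'.hom
  have hu : ∀ j, u j ≫ π = (V'' j).ι := fun j => by
    simp only [u, Category.assoc]
    exact he' j
  let W' : ι' → Z.Opens := fun j => i ⁻¹ᵁ (V'' j)
  have hcomm : ∀ j, ((i ∣_ (V'' j)) ≫ u j) ≫ π = (W' j).ι ≫ i := fun j => by
    rw [Category.assoc, hu j, morphismRestrict_ι]
  let t : ∀ j, (W' j : Scheme.{u}) ⟶ V :=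
    fun j => hpb.lift ((i ∣_ (V'' j)) ≫ u j) (W' j).ι (hcomm j)
  have ht1 : ∀ j, t j ≫ k = (i ∣_ (V'' j)) ≫ u j := fun j => hpb.lift_fst _ _ _
  have ht2 : ∀ j, t j ≫ φ = (W' j).ι := fun j => hpb.lift_snd _ _ _
  have hsq : ∀ j, IsPullback (t j) (i ∣_ (V'' j)) k (u j) := fun j => by
    refine IsPullback.of_right ?_ (ht1 j) hpb.flip
    rw [ht2 j, hu j]
    exact (isPullback_morphismRestrict i (V'' j)).flip
  have hoi : ∀ j, IsOpenImmersion (t j) := fun j =>
    MorphismProperty.of_isPullback (P := @IsOpenImmersion) (hsq j).flip inferInstance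
  have hrange : ∀ j, Set.range (t j) = k ⁻¹' Set.range (u j) := by
    intro j
    ext v
    constructor
    · rintro ⟨w, rfl⟩
      refine ⟨(i ∣_ (V'' j)) w, ?_⟩
      rw [← Scheme.Hom.comp_apply, ← ht1 j, Scheme.Hom.comp_apply]
    · rintro ⟨y, hy⟩
      obtain ⟨w, hw1, hw2⟩ := exists_preimage_of_isPullback (hsq j) v y hy.symm
      exact ⟨w, hw1⟩
  have hcov : ∀ v : V, ∃ j, v ∈ Set.range (t j) := by
    intro v
    obtain ⟨⟨j, y⟩, hy⟩ := (sigmaMk (fun j => (V'' j : Scheme.{u}))).surjective (e'.inv (k v))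
    rw [sigmaMk_mk] at hy
    refine ⟨j, ?_⟩
    rw [hrange j]
    refine ⟨y, ?_⟩
    change e'.hom (Sigma.ι (fun j => (V'' j : Scheme.{u})) j y) = k v
    rw [hy, ← Scheme.Hom.comp_apply, e'.inv_hom_id]
    rfl
  have hdisj : ∀ j j', (Set.range (t j) ∩ Set.range (t j')).Nonempty → j = j' := by
    rintro j j' ⟨v, hv, hv'⟩
    rw [hrange j] at hv
    rw [hrange j'] at hv'
    obtain ⟨y, hy⟩ := hv
    obtain ⟨y', hy'⟩ := hv'
    have h1 : e'.hom (Sigma.ι (fun j => (V'' j : Scheme.{u})) j y) =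
        e'.hom (Sigma.ι (fun j => (V'' j : Scheme.{u})) j' y') := hy.trans hy'.symm
    have h2 : Sigma.ι (fun j => (V'' j : Scheme.{u})) j y =
        Sigma.ι (fun j => (V'' j : Scheme.{u})) j' y' := by
      have h4 := congrArg (fun z => e'.inv z) h1
      have h5 : ∀ z, e'.inv (e'.hom z) = z := fun z => by
        rw [← Scheme.Hom.comp_apply, e'.hom_inv_id]
        rfl
      exact (h5 _).symm.trans (h4.trans (h5 _))
    have h3 := (sigmaι_eq_iff _ _ _ _ _).mp h2
    exact (Sigma.mk.inj_iff.mp h3).1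
  -- finiteness
  obtain ⟨s, hs⟩ := isCompact_univ.elim_finite_subcover (fun j => Set.range (t j))
    (fun j => (t j).isOpenEmbedding.isOpen_range) (fun v _ => by
      obtain ⟨j, hj⟩ := hcov v
      exact Set.mem_iUnion.mpr ⟨j, hj⟩)
  let J : Set ι' := {j | (Set.range (t j)).Nonempty}
  have hJ : J.Finite := by
    refine Set.Finite.subset s.finite_toSet ?_
    rintro j ⟨v, hv⟩
    have h1 := hs (Set.mem_univ v)
    simp only [Set.mem_iUnion] at h1
    obtain ⟨j', hj', hv'⟩ := h1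
    have := hdisj j j' ⟨v, hv, hv'⟩
    subst this
    exact hj'
  have hfin : Finite J := hJ.to_subtype
  have hoi' : ∀ a : J, IsOpenImmersion (t a.1) := fun a => hoi a.1
  obtain ⟨hc⟩ := nonempty_isColimit_cofanMk_of (fun a : J => t a.1) (by
      rw [eq_top_iff]
      intro v _
      obtain ⟨j, hj⟩ := hcov v
      simp only [Opens.iSup_mk, Opens.mem_mk, Set.mem_iUnion]
      exact ⟨⟨j, ⟨v, hj⟩⟩, hj⟩) (by
      intro a b hab
      rw [Function.onFun, disjoint_iff]
      ext v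
      simp only [Opens.coe_inf, Opens.coe_bot, Set.mem_empty_iff_false, iff_false]
      rintro ⟨hv, hv'⟩
      exact hab (Subtype.ext (hdisj a.1 b.1 ⟨v, hv, hv'⟩)))
  let e : (∐ fun a : J => (W' a.1 : Scheme.{u})) ≅ V :=
    (colimit.isColimit _).coconePointUniqueUpToIso hc
  refine ⟨J, hfin, fun a => W' a.1, e, fun a => ?_⟩
  have h1 : Sigma.ι (fun a : J => (W' a.1 : Scheme.{u})) a ≫ e.hom = t a.1 :=
    (colimit.isColimit _).comp_coconePointUniqueUpToIso_hom hc ⟨a⟩
  rw [← Category.assoc, h1]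
  exact ht2 a.1

end Groth.Agent.Helper6.ClLiftB
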