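import Mathlib

/-! Sections of a morphism from sections over a finite clopen cover. -/

set_option autoImplicit false
set_option linter.style.haveILetI false
set_option linter.unusedSectionVars false
set_option linter.unusedVariables false
set_option linter.unusedSimpArgs false

universe u

open CategoryTheory CategoryTheory.Limits Opposite AlgebraicGeometry TopologicalSpace

namespace Groth.Agent.Helper6.ClLiftC

theorem isClosed_range_sigmaι {σ : Type u} (g : σ → Scheme.{u}) (k : σ) :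
    IsClosed (Set.range (Sigma.ι g k)) := by
  have : Set.range (Sigma.ι g k) = sigmaMk g '' Set.range (Sigma.mk k) := by
    ext z
    constructor
    · rintro ⟨y, rfl⟩
      exact ⟨⟨k, y⟩, ⟨y, rfl⟩, sigmaMk_mk g k y⟩
    · rintro ⟨_, ⟨y, rfl⟩, rfl⟩
      exact ⟨y, (sigmaMk_mk g k y).symm⟩
  rw [this]
  exact (sigmaMk g).isClosedMap _ isClosed_range_sigmaMk

set_option backward.isDefEq.respectTransparency.types false in
theorem exists_section_of_clopen_cover {Z V : Scheme.{u}} (φ : V ⟶ Z) {ι : Type u} [Finite ι]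
    (W : ι → Z.Opens) (hcl : ∀ k, IsClosed (W k : Set Z)) (hcov : ∀ z : Z, ∃ k, z ∈ W k)
    (s : ∀ k, (W k : Scheme.{u}) ⟶ V) (hs : ∀ k, s k ≫ φ = (W k).ι) :
    ∃ σ : Z ⟶ V, σ ≫ φ = 𝟙 Z := by
  classical
  obtain ⟨n, ⟨eq⟩⟩ := Finite.exists_equiv_fin ι
  let W' : ι → Z.Opens := fun k =>
    ⟨(W k : Set Z) ∩ ⋂ l ∈ {l | eq l < eq k}, (W l : Set Z)ᶜ,
      (W k).isOpen.inter (Set.Finite.isOpen_biInter (Set.toFinite _)
        (fun l _ => (hcl l).isOpen_compl))⟩
  have hle : ∀ k, W' k ≤ W k := fun k z hz => hz.1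
  have hcov' : ∀ z : Z, ∃ k, z ∈ W' k := by
    intro z
    obtain ⟨k0, hk0⟩ := hcov z
    obtain ⟨k, hk, hmin⟩ := Set.exists_min_image {k | z ∈ W k} eq (Set.toFinite _) ⟨k0, hk0⟩
    refine ⟨k, hk, ?_⟩
    simp only [Set.mem_iInter]
    intro l hl hzl
    exact absurd (hmin l hzl) (not_le.mpr hl)
  have hdisj0 : ∀ k l, eq k < eq l → ∀ z, z ∈ W' k → z ∈ W' l → False := by
    intro k l hkl z hzk hzl
    have h1 := hzl.2
    simp only [Set.mem_iInter] at h1
    exact h1 k hkl hzk.1
  have hdisj' : ∀ k l, k ≠ l → ∀ z, z ∈ W' k → z ∈ W' l → False := by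
    intro k l hkl z hzk hzl
    rcases lt_trichotomy (eq k) (eq l) with h | h | h
    · exact hdisj0 k l h z hzk hzl
    · exact hkl (eq.injective h)
    · exact hdisj0 l k h z hzl hzk
  obtain ⟨hc⟩ := nonempty_isColimit_cofanMk_of (fun k => (W' k).ι) (by
      rw [eq_top_iff]
      intro z _
      obtain ⟨k, hk⟩ := hcov' z
      simp only [Scheme.Opens.opensRange_ι]
      exact Opens.mem_iSup.mpr ⟨k, hk⟩) (by
      intro a b hab
      rw [Function.onFun, disjoint_iff]
      simp only [Scheme.Opens.opensRange_ι]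
      ext z
      simp only [Opens.coe_inf, Opens.coe_bot, Set.mem_empty_iff_false, iff_false]
      rintro ⟨hz, hz'⟩
      exact hdisj' a b hab z hz hz')
  refine ⟨Cofan.IsColimit.desc hc (fun k => Z.homOfLE (hle k) ≫ s k), ?_⟩
  refine Cofan.IsColimit.hom_ext hc _ _ (fun k => ?_)
  rw [Cofan.IsColimit.fac_assoc, Category.assoc, hs k, Scheme.homOfLE_ι]
  simp

end Groth.Agent.Helper6.ClLiftC
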