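import Mathlib
import Groth.Prelude.Def_EtBase

set_option autoImplicit false
set_option linter.style.haveILetI false
set_option linter.unusedSectionVars false
set_option linter.unusedVariables false
set_option linter.unusedSimpArgs false

/-!
# Sheaves supported in closed points: topological and categorical preliminaries
-/

namespace Groth.Agent.Helper6.ClPtA

open CategoryTheory CategoryTheory.Limits AlgebraicGeometry Opposite TopologicalSpace

universe u v w

/-- in a noetherian quasi-sober space, a closed subset all of whose points are closed is finite -/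
theorem finite_of_isClosed_of_points_closed {α : Type*} [TopologicalSpace α] [NoetherianSpace α]
    [QuasiSober α] (T : Set α) (hT : IsClosed T) (hpt : ∀ t ∈ T, IsClosed ({t} : Set α)) :
    T.Finite := by
  obtain ⟨S, hSfin, hSirr, hS⟩ :=
    NoetherianSpace.exists_finite_set_closeds_irreducible (⟨T, hT⟩ : Closeds α)
  have hT' : T = ⋃ s ∈ S, (s : Set α) := by
    have := congrArg (fun c : Closeds α => (c : Set α)) hS
    have hcl : IsClosed (⋃ a ∈ S, (a : Set α)) :=
      hSfin.isClosed_biUnion (fun s _ => s.isClosed)
    simpa [Closeds.coe_sSup, hcl.closure_eq] using this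
  rw [hT']
  refine hSfin.biUnion ?_
  intro s hs
  have hirr := hSirr s hs
  obtain ⟨η, hη⟩ := QuasiSober.sober hirr s.isClosed
  have hηT : η ∈ T := by
    rw [hT']
    exact Set.mem_biUnion hs (hη.mem)
  have : (s : Set α) = {η} := by
    rw [← hη.def, (hpt η hηT).closure_eq]
  rw [this]
  exact Set.finite_singleton η

/-- An étale morphism is locally quasi-finite. -/
theorem lqf_of_etale {X Y : Scheme.{u}} (f : X ⟶ Y) [Etale f] : LocallyQuasiFinite f := by
  refine ⟨fun {U} hU {V} hV e => ?_⟩
  have h := HasRingHomProperty.appLE (P := @Etale) f ‹_› ⟨U, hU⟩ ⟨V, hV⟩ e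
  letI := (f.appLE U V e).hom.toAlgebra
  have h' : Algebra.Etale Γ(Y, U) Γ(X, V) := h
  show Algebra.QuasiFinite Γ(Y, U) Γ(X, V)
  infer_instance

/-- a point over a closed point is closed, for locally quasi-finite morphisms -/
theorem isClosed_singleton_of_lqf {U X : Scheme.{u}} (f : U ⟶ X) [LocallyQuasiFinite f] (p : U)
    (h : IsClosed ({f p} : Set X)) : IsClosed ({p} : Set U) :=
  isClosed_of_subset_discrete_closed (s := {p}) (t := f ⁻¹' {f p}) (by simp)
    (f.isDiscrete_preimage_singleton _) (h.preimage f.continuous)

section Cofan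

variable {C : Type*} [Category C] [HasZeroMorphisms C] {ι : Type*} (A : ι → C) (c : Cofan A)
  (hc : IsColimit c)

include hc in
/-- if all summands but one vanish, the remaining coprojection is a split epimorphism -/
theorem exists_section_inj (y : ι) (h : ∀ x, x ≠ y → IsZero (A x)) :
    ∃ r : c.pt ⟶ A y, r ≫ c.inj y = 𝟙 c.pt := by
  classical
  refine ⟨Cofan.IsColimit.desc hc (fun x => if e : x = y then eqToHom (by rw [e]) else 0), ?_⟩
  apply Cofan.IsColimit.hom_ext hc
  intro x
  by_cases e : x = y
  · subst e
    rw [← Category.assoc, Cofan.IsColimit.fac, dif_pos rfl, eqToHom_refl, Category.id_comp,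
      Category.comp_id]
  · exact (h x e).eq_of_src _ _

include hc in
/-- if all summands vanish, so does the coproduct -/
theorem isZero_pt (h : ∀ x, IsZero (A x)) : IsZero c.pt := by
  rw [IsZero.iff_id_eq_zero]
  apply Cofan.IsColimit.hom_ext hc
  intro x
  exact (h x).eq_of_src _ _

end Cofan

end Groth.Agent.Helper6.ClPtA
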