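import Mathlib
import Groth.Prelude.Def_EtBase

set_option autoImplicit false
set_option linter.style.haveILetI false
set_option linter.unusedSectionVars false
set_option linter.unusedVariables false

/-!
# Étale excision: the geometric input
-/

namespace Groth.Agent.Helper6.ExcA

open CategoryTheory CategoryTheory.Limits AlgebraicGeometry

universe u

set_option backward.isDefEq.respectTransparency.types false in
set_option backward.defeqAttrib.useBackward true in
/-- two field valued points with the same image point and the same composite with `f` agree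
when the residue field extension of `f` at the image point is trivial -/
lemma eq_of_comp_eq {X' X : Scheme.{u}} (f : X' ⟶ X) (K : Type u) [Field K]
    (g₁ g₂ : Spec (.of K) ⟶ X') (hg : g₁ ≫ f = g₂ ≫ f)
    (hpt : g₁ (IsLocalRing.closedPoint K) = g₂ (IsLocalRing.closedPoint K))
    (hsurj : Function.Surjective (f.residueFieldMap (g₁ (IsLocalRing.closedPoint K)))) :
    g₁ = g₂ := by
  obtain ⟨e, h⟩ := Scheme.SpecToEquivOfField_eq_iff.mp congr((X.SpecToEquivOfField K) $(hg))
  apply (X'.SpecToEquivOfField K).injective
  dsimp at e h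
  simp only [Scheme.descResidueField_stalkClosedPointTo_comp] at e h
  rw [← f.residueFieldMap_congr'_assoc hpt, CommRingCat.hom_ext_iff] at h
  rw [Scheme.SpecToEquivOfField_eq_iff]
  refine ⟨hpt, CommRingCat.hom_ext ?_⟩
  ext y
  obtain ⟨x, rfl⟩ := hsurj y
  exact RingHom.congr_fun h x

lemma eq_of_comp_eq' {X' X : Scheme.{u}} (f : X' ⟶ X) (K : Type u) [Field K]
    (g₁ g₂ : Spec (.of K) ⟶ X') (hg : g₁ ≫ f = g₂ ≫ f) (x' : X')
    (h₁ : g₁ (IsLocalRing.closedPoint K) = x') (h₂ : g₂ (IsLocalRing.closedPoint K) = x')
    (hsurj : Function.Surjective (f.residueFieldMap x')) : g₁ = g₂ := by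
  subst h₁
  exact eq_of_comp_eq f K g₁ g₂ hg h₂.symm hsurj

set_option backward.isDefEq.respectTransparency.types false in
/-- a point of `X' ×_X X'` with equal projections lies on the diagonal when the residue field
extension at the projection is trivial -/
lemma mem_range_diagonal {X' X : Scheme.{u}} (f : X' ⟶ X) (w : ↑(pullback f f))
    (hw : pullback.fst f f w = pullback.snd f f w)
    (hsurj : Function.Surjective (f.residueFieldMap (pullback.fst f f w))) :
    w ∈ Set.range (pullback.diagonal f) := by
  let φ := (pullback f f).fromSpecResidueField w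
  have hφ₁ : φ ≫ pullback.fst f f = φ ≫ pullback.snd f f := by
    refine eq_of_comp_eq' f ((pullback f f).residueField w) _ _ (by simp [pullback.condition])
      (pullback.fst f f w) ?_ ?_ hsurj
    · rw [Scheme.Hom.comp_apply, Scheme.fromSpecResidueField_apply]
    · rw [Scheme.Hom.comp_apply, Scheme.fromSpecResidueField_apply, hw]
  have hφ₂ : φ = (φ ≫ pullback.fst f f) ≫ pullback.diagonal f := by cat_disch
  refine ⟨(φ ≫ pullback.fst f f) (IsLocalRing.closedPoint _), ?_⟩
  rw [← Scheme.Hom.comp_apply, ← hφ₂, Scheme.fromSpecResidueField_apply]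

lemma mem_range_diagonal' {X' X : Scheme.{u}} (f : X' ⟶ X) (w : ↑(pullback f f)) (x' : X')
    (h₁ : pullback.fst f f w = x') (h₂ : pullback.snd f f w = x')
    (hsurj : Function.Surjective (f.residueFieldMap x')) :
    w ∈ Set.range (pullback.diagonal f) := by
  subst h₁
  exact mem_range_diagonal f w h₂.symm hsurj

/-- two morphisms to an unramified `X`-scheme that agree at a point with trivial residue field
extension agree on an open neighbourhood of the point -/
lemma exists_open_eq {X' X C : Scheme.{u}} (f : X' ⟶ X) [IsOpenImmersion (pullback.diagonal f)]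
    (g₁ g₂ : C ⟶ X') (hg : g₁ ≫ f = g₂ ≫ f) (z : C) (hz : g₁ z = g₂ z)
    (hsurj : Function.Surjective (f.residueFieldMap (g₁ z))) :
    ∃ (E : Scheme.{u}) (e : E ⟶ C), IsOpenImmersion e ∧ z ∈ Set.range e ∧ e ≫ g₁ = e ≫ g₂ := by
  refine ⟨pullback (pullback.lift g₁ g₂ hg) (pullback.diagonal f),
    pullback.fst (pullback.lift g₁ g₂ hg) (pullback.diagonal f), inferInstance, ?_, ?_⟩
  · rw [Scheme.Pullback.range_fst]
    refine mem_range_diagonal' f _ (g₁ z) ?_ ?_ hsurj
    · rw [← Scheme.Hom.comp_apply, pullback.lift_fst]
    · rw [← Scheme.Hom.comp_apply, pullback.lift_snd, hz]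
  · have h := pullback.condition (f := pullback.lift g₁ g₂ hg) (g := pullback.diagonal f)
    have h1 := congrArg (fun t => t ≫ pullback.fst f f) h
    have h2 := congrArg (fun t => t ≫ pullback.snd f f) h
    simp only [Category.assoc, pullback.lift_fst, pullback.lift_snd, pullback.diagonal_fst,
      pullback.diagonal_snd] at h1 h2
    rw [h1, h2]

end Groth.Agent.Helper6.ExcA
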