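import Mathlib
import Groth.Prelude.Def_EtBase
import Groth.Agent.Helper4.EtGeom
import Groth.Agent.Helper4.ConstLoc

set_option autoImplicit false
set_option linter.style.haveILetI false
set_option linter.unusedSectionVars false
set_option linter.unusedVariables false

/-!
# Étale excision: gluing sections along a two-element covering family
-/

namespace Groth.Agent.Helper6.ExcB

open CategoryTheory CategoryTheory.Limits AlgebraicGeometry Opposite

universe u

variable {Y : Scheme.{u}}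

lemma map_comp_apply (H : EtCoh.Ab Y) {C C' C'' : Y.Etale} (e : C' ⟶ C) (g : C ⟶ C'')
    (s : H.obj.obj (op C'')) :
    H.obj.map e.op (H.obj.map g.op s) = H.obj.map (e ≫ g).op s := by
  rw [op_comp, Functor.map_comp]
  rfl

/-- gluing sections of an étale sheaf along a two-element covering family -/
lemma exists_glue (H : EtCoh.Ab Y) (T A B : Y.Etale) (a : A ⟶ T) (b : B ⟶ T)
    (hcov : ∀ x : T.left, (∃ y : A.left, a.left y = x) ∨ (∃ y : B.left, b.left y = x))
    (sA : H.obj.obj (op A)) (sB : H.obj.obj (op B))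
    (hAA : ∀ (C : Y.Etale) (g₁ g₂ : C ⟶ A), g₁ ≫ a = g₂ ≫ a →
      H.obj.map g₁.op sA = H.obj.map g₂.op sA)
    (hAB : ∀ (C : Y.Etale) (g₁ : C ⟶ A) (g₂ : C ⟶ B), g₁ ≫ a = g₂ ≫ b →
      H.obj.map g₁.op sA = H.obj.map g₂.op sB)
    (hBB : ∀ (C : Y.Etale) (g₁ g₂ : C ⟶ B), g₁ ≫ b = g₂ ≫ b →
      H.obj.map g₁.op sB = H.obj.map g₂.op sB) :
    ∃ t : H.obj.obj (op T), H.obj.map a.op t = sA ∧ H.obj.map b.op t = sB := by
  let W : Bool → Y.Etale := fun i => Bool.rec B A i
  let π : ∀ i, W i ⟶ T := fun i => @Bool.rec (fun i => W i ⟶ T) b a i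
  let x : ∀ i, (H.obj ⋙ forget AddCommGrpCat.{u + 1}).obj (op (W i)) :=
    fun i => @Bool.rec (fun i => (H.obj ⋙ forget AddCommGrpCat.{u + 1}).obj (op (W i))) sB sA i
  have hP : Presheaf.IsSheaf Y.smallEtaleTopology (H.obj ⋙ forget AddCommGrpCat.{u + 1}) :=
    (Presheaf.isSheaf_iff_isSheaf_forget _ H.obj (forget _)).1 H.property
  have hP' : Presieve.IsSheaf Y.smallEtaleTopology (H.obj ⋙ forget AddCommGrpCat.{u + 1}) :=
    (isSheaf_iff_isSheaf_of_type _ _).1 hP
  have hmem : Sieve.ofArrows W π ∈ Y.smallEtaleTopology T := by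
    apply Groth.Agent.Helper4.EtGeom.ofArrows_mem
    intro y
    rcases hcov y with ⟨w, hw⟩ | ⟨w, hw⟩
    · exact ⟨true, w, hw⟩
    · exact ⟨false, w, hw⟩
  have h2 : Presieve.IsSheafFor (H.obj ⋙ forget AddCommGrpCat.{u + 1}) (Presieve.ofArrows W π) :=
    (Presieve.isSheafFor_iff_generate _).2 (hP' _ hmem)
  have hx : Presieve.Arrows.Compatible (H.obj ⋙ forget AddCommGrpCat.{u + 1}) π x := by
    intro i k C gi gk hg
    cases i <;> cases k
    · exact hBB C gi gk hg
    · exact (hAB C gk gi hg.symm).symm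
    · exact hAB C gi gk hg
    · exact hAA C gi gk hg
  obtain ⟨t, ht, -⟩ := (Presieve.isSheafFor_arrows_iff _ _).1 h2 x hx
  exact ⟨t, ht true, ht false⟩

/-- a sheaf which vanishes over `A` has the same sections over `T` and over `B` when `A` and `B`
cover `T` and two maps to `B` agree locally off `A` -/
theorem bijective_restrict (H : EtCoh.Ab Y) (T A B : Y.Etale) (a : A ⟶ T) (b : B ⟶ T)
    (hcov : ∀ x : T.left, (∃ y : A.left, a.left y = x) ∨ (∃ y : B.left, b.left y = x))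
    (hA : ∀ (C : Y.Etale) (c : C ⟶ A) (s : H.obj.obj (op C)), s = 0)
    (hB : ∀ (C : Y.Etale) (g₁ g₂ : C ⟶ B) (z : C.left), g₁ ≫ b = g₂ ≫ b →
      ∃ (C' : Y.Etale) (e : C' ⟶ C) (z' : C'.left), e.left z' = z ∧
        (Nonempty (C' ⟶ A) ∨ e ≫ g₁ = e ≫ g₂)) :
    Function.Bijective (ConcreteCategory.hom (H.obj.map b.op)) := by
  constructor
  · rw [injective_iff_map_eq_zero]
    intro s hs
    apply Groth.Agent.Helper4.ConstLoc.sec_ext
    intro x
    rcases hcov x with ⟨w, hw⟩ | ⟨w, hw⟩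
    · exact ⟨A, a, w, hw, (hA A (𝟙 A) _).trans (hA A (𝟙 A) _).symm⟩
    · refine ⟨B, b, w, hw, ?_⟩
      rw [map_zero]
      exact hs
  · intro sB
    obtain ⟨t, -, ht⟩ := exists_glue H T A B a b hcov 0 sB
      (fun C g₁ g₂ _ => (hA C g₁ _).trans (hA C g₁ _).symm)
      (fun C g₁ g₂ _ => (hA C g₁ _).trans (hA C g₁ _).symm)
      (by
        intro C g₁ g₂ hg
        apply Groth.Agent.Helper4.ConstLoc.sec_ext
        intro z
        obtain ⟨C', e, z', hz', h⟩ := hB C g₁ g₂ z hg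
        refine ⟨C', e, z', hz', ?_⟩
        rcases h with ⟨⟨c⟩⟩ | he
        · exact (hA C' c _).trans (hA C' c _).symm
        · rw [map_comp_apply, map_comp_apply, he])
    exact ⟨t, ht⟩

end Groth.Agent.Helper6.ExcB
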