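import Mathlib
import Groth.Prelude.Def_EtShriek2
import Groth.Agent.Helper4.ConstLoc
import Groth.Agent.Helper6.ExcA
import Groth.Agent.Helper6.ExcB

set_option autoImplicit false
set_option linter.style.haveILetI false
set_option linter.unusedSectionVars false
set_option linter.unusedVariables false

/-!
# Sections with support in a closed subset: étale excision
-/

namespace Groth.Agent.Helper6.SuppBij

open CategoryTheory CategoryTheory.Limits AlgebraicGeometry Opposite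
open Groth.Agent.Helper6.ExcB Groth.Agent.Helper4.ConstLoc

universe u

variable {X : Scheme.{u}}

/-- fibre products in the small étale site, with points -/
lemma exists_fibre {U W₁ W₂ : X.Etale} (g₁ : W₁ ⟶ U) (g₂ : W₂ ⟶ U) (w₁ : W₁.left) (w₂ : W₂.left)
    (h : g₁.left.base w₁ = g₂.left.base w₂) :
    ∃ (W : X.Etale) (p₁ : W ⟶ W₁) (p₂ : W ⟶ W₂) (w : W.left),
      p₁ ≫ g₁ = p₂ ≫ g₂ ∧ p₁.left.base w = w₁ ∧ p₂.left.base w = w₂ := by
  haveI : Etale W₁.hom := W₁.prop
  obtain ⟨z, hz1, hz2⟩ :=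
    Scheme.Pullback.exists_preimage_pullback (f := g₁.left) (g := g₂.left) w₁ w₂ h
  have e1 : g₁.left ≫ U.hom = W₁.hom := MorphismProperty.Over.w g₁
  have e2 : g₂.left ≫ U.hom = W₂.hom := MorphismProperty.Over.w g₂
  have hc : pullback.snd g₁.left g₂.left ≫ W₂.hom = pullback.fst g₁.left g₂.left ≫ W₁.hom := by
    rw [← e1, ← e2, ← Category.assoc, ← Category.assoc, pullback.condition]
  refine ⟨Scheme.Etale.mk (pullback.fst g₁.left g₂.left ≫ W₁.hom),
    MorphismProperty.Over.homMk (pullback.fst g₁.left g₂.left) rfl trivial,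
    MorphismProperty.Over.homMk (pullback.snd g₁.left g₂.left) hc trivial, z, ?_, hz1, hz2⟩
  apply MorphismProperty.Over.Hom.ext
  exact pullback.condition

lemma supp_subset_iff (F : EtCoh.Ab X) (U : X.Etale) (s : EtCoh.sect F U) (Z : Set U.left) :
    EtShriek.sectSupp F U s ⊆ Z ↔ ∀ x, x ∉ Z → ∃ (W : X.Etale) (g : W ⟶ U) (w : W.left),
      g.left.base w = x ∧ F.obj.map g.op s = 0 := by
  constructor
  · intro h x hx
    by_contra hcon
    apply hx
    apply h
    intro W g ⟨w, hw⟩ h0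
    exact hcon ⟨W, g, w, hw, h0⟩
  · intro h x hx
    by_contra hxZ
    obtain ⟨W, g, w, hw, h0⟩ := h x hxZ
    exact hx W g ⟨w, hw⟩ h0

/-- if `s'` vanishes near every point of the image of `g`, then `F(g) s' = 0` -/
lemma map_eq_zero_of_locally (F : EtCoh.Ab X) {U' C : X.Etale} (g : C ⟶ U')
    (s' : F.obj.obj (op U'))
    (h : ∀ z : C.left, ∃ (W : X.Etale) (k : W ⟶ U') (w : W.left),
      k.left.base w = g.left.base z ∧ F.obj.map k.op s' = 0) :
    F.obj.map g.op s' = 0 := by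
  apply sec_ext F C _ 0
  intro z
  obtain ⟨W, k, w, hw, h0⟩ := h z
  obtain ⟨C', p₁, p₂, c', hp, hc1, hc2⟩ := exists_fibre g k z w hw.symm
  refine ⟨C', p₁, c', hc1, ?_⟩
  rw [map_comp_apply, hp, ← map_comp_apply, h0, map_zero, map_zero]

/-- étale excision for sections with support in a closed subset -/
theorem bijOn (F : EtCoh.Ab X) {U U' : X.Etale} (φ : U' ⟶ U) (Z : Set ↥U.left) (hZ : IsClosed Z)
    (hbij : Set.BijOn φ.left.base (φ.left.base ⁻¹' Z) Z)
    (hres : ∀ x ∈ φ.left.base ⁻¹' Z, Function.Bijective (φ.left.residueFieldMap x)) :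
    Set.BijOn (F.obj.map φ.op) {s | EtShriek.sectSupp F U s ⊆ Z}
      {s' | EtShriek.sectSupp F U' s' ⊆ φ.left.base ⁻¹' Z} := by
  refine ⟨?_, ?_, ?_⟩
  · intro s hs
    rw [Set.mem_ofPred_eq, supp_subset_iff] at hs ⊢
    intro x' hx'
    obtain ⟨W, g, w, hw, h0⟩ := hs (φ.left.base x') hx'
    obtain ⟨W', p₁, p₂, w', hp, h1, h2⟩ := exists_fibre φ g x' w hw.symm
    refine ⟨W', p₁, w', h1, ?_⟩
    rw [map_comp_apply, hp, ← map_comp_apply, h0, map_zero]
  · intro s₁ hs₁ s₂ hs₂ he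
    rw [Set.mem_ofPred_eq, supp_subset_iff] at hs₁ hs₂
    apply sec_ext F U
    intro x
    by_cases hx : x ∈ Z
    · obtain ⟨x', hx', hxx⟩ := hbij.surjOn hx
      exact ⟨U', φ, x', hxx, he⟩
    · obtain ⟨W₁, g₁, w₁, hw₁, h1⟩ := hs₁ x hx
      obtain ⟨W₂, g₂, w₂, hw₂, h2⟩ := hs₂ x hx
      obtain ⟨W, p₁, p₂, w, hp, hp1, hp2⟩ := exists_fibre g₁ g₂ w₁ w₂ (hw₁.trans hw₂.symm)
      refine ⟨W, p₁ ≫ g₁, w, ?_, ?_⟩
      · change g₁.left.base (p₁.left.base w) = x
        rw [hp1, hw₁]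
      · have A1 : F.obj.map (p₁ ≫ g₁).op s₁ = 0 := by
          rw [← map_comp_apply, h1, map_zero]
        have A2 : F.obj.map (p₁ ≫ g₁).op s₂ = 0 := by
          rw [hp, ← map_comp_apply, h2, map_zero]
        rw [A1, A2]
  · intro s' hs'
    rw [Set.mem_ofPred_eq, supp_subset_iff] at hs'
    haveI : Etale U.hom := U.prop
    obtain ⟨V, a, hV, hVZ⟩ : ∃ (V : X.Etale) (a : V ⟶ U),
        (∀ x, x ∉ Z → ∃ v : V.left, a.left.base v = x) ∧ ∀ v : V.left, a.left.base v ∉ Z := by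
      let Zc : U.left.Opens := ⟨Zᶜ, hZ.isOpen_compl⟩
      refine ⟨Scheme.Etale.mk (Zc.ι ≫ U.hom), MorphismProperty.Over.homMk Zc.ι rfl trivial, ?_, ?_⟩
      · intro x hx
        have hx' : x ∈ Set.range Zc.ι.base := by
          rw [Scheme.Opens.range_ι]
          exact hx
        exact hx'
      · intro v
        have hv : Zc.ι.base v ∈ Set.range Zc.ι.base := ⟨v, rfl⟩
        rw [Scheme.Opens.range_ι] at hv
        exact hv
    have hcov : ∀ x : U.left, (∃ y : V.left, a.left y = x) ∨ (∃ y : U'.left, φ.left y = x) := by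
      intro x
      by_cases hx : x ∈ Z
      · obtain ⟨x', hx', hxx⟩ := hbij.surjOn hx
        exact Or.inr ⟨x', hxx⟩
      · exact Or.inl (hV x hx)
    have hAA : ∀ (C : X.Etale) (g₁ g₂ : C ⟶ V), g₁ ≫ a = g₂ ≫ a →
        F.obj.map g₁.op (0 : F.obj.obj (op V)) = F.obj.map g₂.op 0 := by
      intro C g₁ g₂ _
      rw [map_zero, map_zero]
    have hAB : ∀ (C : X.Etale) (g₁ : C ⟶ V) (g₂ : C ⟶ U'), g₁ ≫ a = g₂ ≫ φ →
        F.obj.map g₁.op (0 : F.obj.obj (op V)) = F.obj.map g₂.op s' := by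
      intro C g₁ g₂ hg
      rw [map_zero]
      symm
      apply map_eq_zero_of_locally
      intro z
      have hz : g₂.left.base z ∉ φ.left.base ⁻¹' Z := by
        intro hmem
        have e : a.left.base (g₁.left.base z) = φ.left.base (g₂.left.base z) :=
          congrArg (fun t => t.left.base z) hg
        exact hVZ (g₁.left.base z) (e ▸ hmem)
      exact hs' _ hz
    have hBB : ∀ (C : X.Etale) (g₁ g₂ : C ⟶ U'), g₁ ≫ φ = g₂ ≫ φ →
        F.obj.map g₁.op s' = F.obj.map g₂.op s' := by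
      intro C g₁ g₂ hg
      apply sec_ext F C
      intro z
      have e : φ.left.base (g₁.left.base z) = φ.left.base (g₂.left.base z) :=
        congrArg (fun t => t.left.base z) hg
      by_cases hz : φ.left.base (g₁.left.base z) ∈ Z
      · have hz2 : φ.left.base (g₂.left.base z) ∈ Z := e ▸ hz
        have heq : g₁.left.base z = g₂.left.base z := hbij.injOn hz hz2 e
        have hgl : g₁.left ≫ φ.left = g₂.left ≫ φ.left := congrArg (fun t => t.left) hg
        obtain ⟨E, e', he', hze, hee⟩ := Groth.Agent.Helper6.ExcA.exists_open_eq φ.left g₁.left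
          g₂.left hgl z heq (hres _ hz).2
        obtain ⟨z', hz'⟩ := hze
        haveI := he'
        haveI : Etale C.hom := C.prop
        obtain ⟨C', ε, z'', hz'', hcomp⟩ : ∃ (C' : X.Etale) (ε : C' ⟶ C) (z'' : C'.left),
            ε.left.base z'' = z ∧ ε ≫ g₁ = ε ≫ g₂ :=
          ⟨Scheme.Etale.mk (e' ≫ C.hom), MorphismProperty.Over.homMk e' rfl trivial, z', hz',
            MorphismProperty.Over.Hom.ext hee⟩
        refine ⟨C', ε, z'', hz'', ?_⟩
        rw [map_comp_apply, map_comp_apply, hcomp]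
      · have hz2 : φ.left.base (g₂.left.base z) ∉ Z := fun h => hz (e.symm ▸ h)
        obtain ⟨W₁, k₁, w₁, hw₁, h1⟩ := hs' _ hz
        obtain ⟨W₂, k₂, w₂, hw₂, h2⟩ := hs' _ hz2
        obtain ⟨C₁, p₁, q₁, c₁, hp₁, hc₁, hc₁'⟩ := exists_fibre g₁ k₁ z w₁ hw₁.symm
        obtain ⟨C₂, p₂, q₂, c₂, hp₂, hc₂, hc₂'⟩ := exists_fibre g₂ k₂ z w₂ hw₂.symm
        obtain ⟨C', r₁, r₂, c', hr, hr1, hr2⟩ := exists_fibre p₁ p₂ c₁ c₂ (hc₁.trans hc₂.symm)
        refine ⟨C', r₁ ≫ p₁, c', ?_, ?_⟩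
        · change p₁.left.base (r₁.left.base c') = z
          rw [hr1, hc₁]
        · have A1 : F.obj.map (r₁ ≫ p₁).op (F.obj.map g₁.op s') = 0 := by
            rw [← map_comp_apply F r₁ p₁, map_comp_apply F p₁ g₁, hp₁, ← map_comp_apply F q₁ k₁,
              h1, map_zero, map_zero]
          have A2 : F.obj.map (r₁ ≫ p₁).op (F.obj.map g₂.op s') = 0 := by
            rw [hr, ← map_comp_apply F r₂ p₂, map_comp_apply F p₂ g₂, hp₂,
              ← map_comp_apply F q₂ k₂, h2, map_zero, map_zero]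
          rw [A1, A2]
    obtain ⟨t, hta, htφ⟩ := exists_glue F U V U' a φ hcov 0 s' hAA hAB hBB
    refine ⟨t, ?_, htφ⟩
    rw [Set.mem_ofPred_eq, supp_subset_iff]
    intro x hx
    obtain ⟨v, hv⟩ := hV x hx
    exact ⟨V, a, v, hv, hta⟩

end Groth.Agent.Helper6.SuppBij
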