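import Mathlib
import Groth.Prelude.Def_EtBase
import Groth.Prelude.Def_EtDual
import Groth.Prelude.Def_EtShriek2
import Groth.Agent.Helper9.EtShriekOpen
import Groth.Agent.Helper6.SuppBij

set_option autoImplicit false
set_option linter.style.haveILetI false
set_option linter.unusedSectionVars false
set_option linter.unusedVariables false
set_option linter.unusedSimpArgs false

/-!
# Sections of `secSupp j F` (sections with support off an open subscheme)
-/

namespace Groth.Agent.Helper6.ClPtB

open CategoryTheory CategoryTheory.Limits AlgebraicGeometry Opposite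
open Groth.Agent.Helper9.EtShriekOpen

universe u

variable {U X : Scheme.{u}} (j : U ⟶ X) [IsOpenImmersion j]

/-- the projection `W ×_X U ⟶ W` in the small étale site of `X` -/
noncomputable abbrev proj (W : X.Etale) :
    (EtShriek.compEtale j).obj ((EtCoh.bc j).obj W) ⟶ W := (siteAdj j).counit.app W

lemma proj_left (W : X.Etale) : (proj j W).left = pullback.fst W.hom j := rfl

lemma sheafAdj_unit_app_hom_app (F : EtCoh.Ab X) (W : X.Etale) :
    (((sheafAdj j).unit.app F).hom).app (op W) = F.obj.map (proj j W).op := by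
  dsimp [sheafAdj]
  simp

/-- the unit `F ⟶ j_* j⁻¹ F` kills a section iff its restriction to `W ×_X U` vanishes -/
lemma unit_eq_zero_iff (F : EtCoh.Ab X) (W : X.Etale) (s : F.obj.obj (op W)) :
    ((EtCoh.pullPushAdj j).unit.app F).hom.app (op W) s = 0 ↔
      F.obj.map (proj j W).op s = 0 := by
  have h := Adjunction.unit_leftAdjointUniq_hom_app (EtCoh.pullPushAdj j) (sheafAdj j) F
  have h' : ((EtCoh.pullPushAdj j).unit.app F).hom.app (op W) ≫
      ((EtCoh.push j).map ((pullIsoRestr j).hom.app F)).hom.app (op W) =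
        F.obj.map (proj j W).op := by
    rw [← sheafAdj_unit_app_hom_app, ← h]
    rfl
  have hiso : IsIso (((EtCoh.push j).map ((pullIsoRestr j).hom.app F)).hom.app (op W)) := by
    have : IsIso ((EtCoh.push j).map ((pullIsoRestr j).hom.app F)) := inferInstance
    exact inferInstanceAs (IsIso (((sheafToPresheaf _ _ ⋙ (evaluation _ _).obj (op W)).map
      ((EtCoh.push j).map ((pullIsoRestr j).hom.app F)))))
  have hinj : Function.Injective
      (((EtCoh.push j).map ((pullIsoRestr j).hom.app F)).hom.app (op W)) :=
    ((ConcreteCategory.isIso_iff_bijective _).1 hiso).1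
  have hs : (((EtCoh.push j).map ((pullIsoRestr j).hom.app F)).hom.app (op W))
      (((EtCoh.pullPushAdj j).unit.app F).hom.app (op W) s) = F.obj.map (proj j W).op s := by
    have := ConcreteCategory.congr_hom h' s
    exact this
  constructor
  · intro h0
    rw [← hs, h0]
    exact map_zero _
  · intro h0
    apply hinj
    rw [hs, h0]
    exact (map_zero _).symm

/-- sections killed by the unit come from `secSupp` -/
lemma exists_secSupp_section (F : EtCoh.Ab X) (W : X.Etale) (s : F.obj.obj (op W))
    (h : F.obj.map (proj j W).op s = 0) :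
    ∃ s' : ((EtDual.secSupp j).obj F).obj.obj (op W),
      (kernel.ι (EtDual.unitApp j F)).hom.app (op W) s' = s := by
  let Φ : EtCoh.Ab X ⥤ AddCommGrpCat.{u + 1} :=
    sheafToPresheaf X.smallEtaleTopology AddCommGrpCat.{u + 1} ⋙
      (evaluation X.Etaleᵒᵖ AddCommGrpCat.{u + 1}).obj (op W)
  haveI : PreservesFiniteLimits Φ := by
    haveI : PreservesLimitsOfSize.{0, 0}
        (sheafToPresheaf X.smallEtaleTopology AddCommGrpCat.{u + 1}) := inferInstance
    infer_instance
  let S : ShortComplex (EtCoh.Ab X) :=
    ShortComplex.mk (kernel.ι (EtDual.unitApp j F)) (EtDual.unitApp j F) (kernel.condition _)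
  have hS : S.Exact := ShortComplex.exact_of_f_is_kernel _ (kernelIsKernel _)
  haveI : Mono S.f := inferInstanceAs (Mono (kernel.ι (EtDual.unitApp j F)))
  have hS' : (S.map Φ).Exact := hS.map_of_mono_of_preservesKernel Φ inferInstance inferInstance
  rw [ShortComplex.ab_exact_iff] at hS'
  obtain ⟨s', hs'⟩ := hS' s ((unit_eq_zero_iff j F W s).2 h)
  exact ⟨s', hs'⟩

/-- sections whose support avoids `U` restrict to zero on `W ×_X U` -/
lemma map_proj_eq_zero (F : EtCoh.Ab X) (W : X.Etale) (s : F.obj.obj (op W))
    (h : EtShriek.sectSupp F W s ⊆ W.hom.base ⁻¹' (Set.range j.base)ᶜ) :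
    F.obj.map (proj j W).op s = 0 := by
  apply Groth.Agent.Helper6.SuppBij.map_eq_zero_of_locally F (proj j W) s
  intro z
  have hz : (proj j W).left.base z ∉ W.hom.base ⁻¹' (Set.range j.base)ᶜ := by
    intro hcon
    apply hcon
    rw [proj_left]
    let z' : ↥(pullback W.hom j) := z
    refine ⟨(pullback.snd W.hom j).base z', ?_⟩
    rw [← Scheme.Hom.comp_apply, ← pullback.condition, Scheme.Hom.comp_apply]
    rfl
  obtain ⟨V, k, v, hv, h0⟩ := (Groth.Agent.Helper6.SuppBij.supp_subset_iff F W s _).1 h _ hz
  exact ⟨V, k, v, hv, h0⟩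

end Groth.Agent.Helper6.ClPtB
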