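import Mathlib
import Groth.Prelude.Def_RDer

set_option autoImplicit false
set_option linter.style.haveILetI false
set_option linter.unusedSectionVars false
set_option linter.unusedVariables false

/-!
# Right derived functors commute with exact functors preserving injectives

If `E : A ⥤ B` and `E' : A' ⥤ B'` are exact, `E` preserves injectives, and `Φ ⋙ E' ≅ E ⋙ Φ'`, then
`E' (R^p Φ X) ≅ R^p Φ' (E X)`.
-/

universe v₁ v₂ v₃ v₄ u₁ u₂ u₃ u₄

open CategoryTheory CategoryTheory.Limits HomologicalComplex

namespace Groth.Agent.Helper6.EtLocA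

noncomputable section

variable {A : Type u₁} [Category.{v₁} A] [Abelian A] [HasInjectiveResolutions A]
  {B : Type u₂} [Category.{v₂} B] [Abelian B] [HasInjectiveResolutions B]
  {A' : Type u₃} [Category.{v₃} A'] [Abelian A']
  {B' : Type u₄} [Category.{v₄} B'] [Abelian B']
  (E : A ⥤ B) [E.Additive] [PreservesFiniteLimits E] [PreservesFiniteColimits E]
  [E.PreservesInjectiveObjects]

/-- an exact functor preserving injectives maps injective resolutions to injective resolutions -/
def mapRes {X : A} (I : InjectiveResolution X) : InjectiveResolution (E.obj X) where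
  cocomplex := (E.mapHomologicalComplex _).obj I.cocomplex
  injective n := E.injective_obj (I.cocomplex.X n)
  ι := RDer.mapAug E I.ι
  quasiIso := by
    haveI : QuasiIso ((E.mapHomologicalComplex (ComplexShape.up ℕ)).map I.ι) := inferInstance
    dsimp only [RDer.mapAug]
    infer_instance

variable (E' : A' ⥤ B') [E'.Additive] [PreservesFiniteLimits E'] [PreservesFiniteColimits E']
  (Φ : A ⥤ A') [Φ.Additive] (Φ' : B ⥤ B') [Φ'.Additive] (θ : Φ ⋙ E' ≅ E ⋙ Φ')

omit [HasInjectiveResolutions A] [HasInjectiveResolutions B] [Abelian A] [Abelian B] [Category.{v₁} A]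
  [Category.{v₂} B] in
/-- an exact functor commutes with homology -/
def homologyMapIso (K : CochainComplex A' ℕ) (p : ℕ) :
    ((E'.mapHomologicalComplex _).obj K).homology p ≅ E'.obj (K.homology p) :=
  (K.sc p).mapHomologyIso E'

/-- the comparison isomorphism -/
def derivedIso (X : A) (p : ℕ) :
    E'.obj ((Φ.rightDerived p).obj X) ≅ (Φ'.rightDerived p).obj (E.obj X) :=
  E'.mapIso ((injectiveResolution X).isoRightDerivedObj Φ p) ≪≫
    (homologyMapIso E' ((Φ.mapHomologicalComplex _).obj (injectiveResolution X).cocomplex) p).symm ≪≫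
    (HomologicalComplex.homologyFunctor B' _ p).mapIso
      ((Functor.mapHomologicalComplexCompIso θ (ComplexShape.up ℕ)).app
        (injectiveResolution X).cocomplex) ≪≫
    ((mapRes E (injectiveResolution X)).isoRightDerivedObj Φ' p).symm

include θ in
theorem isZero_rightDerived (X : A) (p : ℕ) (h : IsZero ((Φ.rightDerived p).obj X)) :
    IsZero ((Φ'.rightDerived p).obj (E.obj X)) :=
  (E'.map_isZero h).of_iso (derivedIso E E' Φ Φ' θ X p).symm

end

end Groth.Agent.Helper6.EtLocA
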