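import Mathlib
import Groth.Prelude.Def_RDer
import Groth.Agent.Helper1.DerLES

set_option autoImplicit false
set_option linter.style.haveILetI false
set_option linter.unusedSectionVars false
set_option linter.unusedVariables false

/-!
# The second edge map `R^q(Φ ⋙ Ψ) X ⟶ Ψ (R^q Φ X)` is an isomorphism under acyclicity
-/

namespace Groth.Agent.Helper6.EdgeOutIso

open CategoryTheory Limits HomologicalComplex
open Groth.Agent.Helper1

universe v₁ v₂ v₃ u₁ u₂ u₃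

variable {B : Type u₂} [Category.{v₂} B] [Abelian B] {C : Type u₃} [Category.{v₃} C] [Abelian C]
  (Ψ : B ⥤ C) [Ψ.Additive] [PreservesFiniteLimits Ψ]

section HC

variable {ι' : Type*} {c : ComplexShape ι'} (K : HomologicalComplex B c) (i : ι')

instance isIso_cyclesComparison : IsIso (RDer.cyclesComparison Ψ K i) := by
  have h : RDer.cyclesComparison Ψ K i =
    (IsLimit.conePointUniqueUpToIso
      (((Ψ.mapHomologicalComplex c).obj K).cyclesIsKernel i (c.next i) rfl)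
      (KernelFork.mapIsLimit _ (K.cyclesIsKernel i (c.next i) rfl) Ψ)).hom := rfl
  rw [h]
  infer_instance

theorem isIso_homologyComparison (j : ι') (hj : c.prev i = j)
    (hepi : Epi (Ψ.map (K.homologyπ i)))
    (w : Ψ.map (K.toCycles j i) ≫ Ψ.map (K.homologyπ i) = 0)
    (hex : (ShortComplex.mk _ _ w).Exact) :
    IsIso (RDer.homologyComparison Ψ K i) := by
  subst hj
  haveI : Epi (ShortComplex.mk _ _ w).g := hepi
  have hcok : IsColimit (CokernelCofork.ofπ (Ψ.map (K.homologyπ i)) w) := hex.gIsCokernel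
  have w' : Ψ.map (K.toCycles (c.prev i) i) ≫ (inv (RDer.cyclesComparison Ψ K i) ≫
      ((Ψ.mapHomologicalComplex c).obj K).homologyπ i) = 0 := by
    have h := RDer.toCycles_cyclesComparison Ψ K i
    have h2 : ((Ψ.mapHomologicalComplex c).obj K).toCycles (c.prev i) i ≫
        RDer.cyclesComparison Ψ K i ≫ inv (RDer.cyclesComparison Ψ K i) ≫
        ((Ψ.mapHomologicalComplex c).obj K).homologyπ i = 0 := by
      rw [IsIso.hom_inv_id_assoc, toCycles_comp_homologyπ]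
    exact ((reassoc_of% h) _).symm.trans h2
  let jj : Ψ.obj (K.homology i) ⟶ ((Ψ.mapHomologicalComplex c).obj K).homology i :=
    hcok.desc (CokernelCofork.ofπ _ w')
  have hj : Ψ.map (K.homologyπ i) ≫ jj = inv (RDer.cyclesComparison Ψ K i) ≫
      ((Ψ.mapHomologicalComplex c).obj K).homologyπ i :=
    hcok.fac _ WalkingParallelPair.one
  refine ⟨jj, ?_, ?_⟩
  · rw [← cancel_epi (((Ψ.mapHomologicalComplex c).obj K).homologyπ i),
      RDer.homologyπ_homologyComparison_assoc, hj, IsIso.hom_inv_id_assoc, Category.comp_id]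
  · rw [← cancel_epi (Ψ.map (K.homologyπ i)), reassoc_of% hj, RDer.homologyπ_homologyComparison,
      IsIso.inv_hom_id_assoc, Category.comp_id]

end HC

variable [HasInjectiveResolutions B]

/-- acyclic objects for the left exact functor `Ψ` -/
def Acy (N : B) : Prop := ∀ q : ℕ, IsZero ((Ψ.rightDerived (q + 1)).obj N)

variable {Ψ} in
lemma acy_of_iso {N N' : B} (e : N ≅ N') (h : Acy Ψ N) : Acy Ψ N' :=
  fun q => (h q).of_iso ((Ψ.rightDerived (q + 1)).mapIso e.symm)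

/-- the four term exact sequence `0 → A₀ → A₁ → A₂ → A₃ → 0` with `A₀, A₁, A₃` acyclic -/
theorem four_term {A₀ A₁ A₂ A₃ : B} (a : A₀ ⟶ A₁) (b : A₁ ⟶ A₂) (c : A₂ ⟶ A₃) [Mono a] [Epi c]
    (w₁ : a ≫ b = 0) (w₂ : b ≫ c = 0) (e₁ : (ShortComplex.mk a b w₁).Exact)
    (e₂ : (ShortComplex.mk b c w₂).Exact)
    (h₀ : Acy Ψ A₀) (h₁ : Acy Ψ A₁) (h₃ : Acy Ψ A₃) :
    Acy Ψ A₂ ∧ Epi (Ψ.map c) ∧
      ∃ w : Ψ.map b ≫ Ψ.map c = 0, (ShortComplex.mk _ _ w).Exact := by
  let K := Abelian.image b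
  let π : A₁ ⟶ K := Abelian.factorThruImage b
  let ι : K ⟶ A₂ := Abelian.image.ι b
  have hπι : π ≫ ι = b := Abelian.image.fac b
  have wK₁ : a ≫ π = 0 := by
    rw [← cancel_mono ι, Category.assoc, hπι, w₁, zero_comp]
  have wK₂ : ι ≫ c = 0 := by
    rw [← cancel_epi π, reassoc_of% hπι, w₂, comp_zero]
  let S₁ : ShortComplex B := ShortComplex.mk a π wK₁
  let S₂ : ShortComplex B := ShortComplex.mk ι c wK₂
  have hS₁ : S₁.ShortExact := by
    have : Mono S₁.f := inferInstanceAs (Mono a)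
    have : Epi S₁.g := inferInstanceAs (Epi π)
    refine ShortComplex.ShortExact.mk ?_
    let φ : S₁ ⟶ ShortComplex.mk a b w₁ :=
      { τ₁ := 𝟙 _, τ₂ := 𝟙 _, τ₃ := ι
        comm₁₂ := by simp [S₁]
        comm₂₃ := by simp [S₁, hπι] }
    have : Epi φ.τ₁ := inferInstanceAs (Epi (𝟙 _))
    have : IsIso φ.τ₂ := inferInstanceAs (IsIso (𝟙 _))
    have : Mono φ.τ₃ := inferInstanceAs (Mono ι)
    exact (ShortComplex.exact_iff_of_epi_of_isIso_of_mono φ).2 e₁
  have hS₂ : S₂.ShortExact := by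
    have : Mono S₂.f := inferInstanceAs (Mono ι)
    have : Epi S₂.g := inferInstanceAs (Epi c)
    refine ShortComplex.ShortExact.mk ?_
    let φ : ShortComplex.mk b c w₂ ⟶ S₂ :=
      { τ₁ := π, τ₂ := 𝟙 _, τ₃ := 𝟙 _
        comm₁₂ := by simp [S₂, hπι]
        comm₂₃ := by simp [S₂] }
    have : Epi φ.τ₁ := inferInstanceAs (Epi π)
    have : IsIso φ.τ₂ := inferInstanceAs (IsIso (𝟙 _))
    have : Mono φ.τ₃ := inferInstanceAs (Mono (𝟙 _))
    exact (ShortComplex.exact_iff_of_epi_of_isIso_of_mono φ).1 e₂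
  have hK : Acy Ψ K := fun q => DerLES.isZero_rightDerived_X₃ Ψ S₁ hS₁ q (h₁ q) (h₀ (q + 1))
  have hA₂ : Acy Ψ A₂ := fun q => by
    obtain ⟨w, ex⟩ := Horseshoe.exact_rightDerived_map Ψ S₂ hS₂ (q + 1)
    exact ex.isZero_of_both_zeros ((hK q).eq_of_src _ _) ((h₃ q).eq_of_tgt _ _)
  have hΨS₂ : (S₂.map Ψ).ShortExact := DerLES.shortExact_map Ψ S₂ hS₂ (hK 0)
  have hΨS₁ : (S₁.map Ψ).ShortExact := DerLES.shortExact_map Ψ S₁ hS₁ (h₀ 0)
  have w' : Ψ.map b ≫ Ψ.map c = 0 := by rw [← Ψ.map_comp, w₂, Ψ.map_zero]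
  refine ⟨hA₂, hΨS₂.epi_g, w', ?_⟩
  let φ : ShortComplex.mk (Ψ.map b) (Ψ.map c) w' ⟶ S₂.map Ψ :=
    { τ₁ := Ψ.map π, τ₂ := 𝟙 _, τ₃ := 𝟙 _
      comm₁₂ := by
        show Ψ.map π ≫ Ψ.map ι = Ψ.map b ≫ 𝟙 _
        rw [← Ψ.map_comp, hπι, Category.comp_id]
      comm₂₃ := by
        show 𝟙 _ ≫ Ψ.map c = Ψ.map c ≫ 𝟙 _
        rw [Category.id_comp, Category.comp_id] }
  have : Epi φ.τ₁ := hΨS₁.epi_g
  have : IsIso φ.τ₂ := inferInstanceAs (IsIso (𝟙 _))
  have : Mono φ.τ₃ := inferInstanceAs (Mono (𝟙 _))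
  exact (ShortComplex.exact_iff_of_epi_of_isIso_of_mono φ).2 hΨS₂.exact

section Cochain

variable (K : CochainComplex B ℕ) (hX : ∀ n, Acy Ψ (K.X n)) (hH : ∀ n, Acy Ψ (K.homology n))

include hX hH in
/-- the four term sequence `0 → Zⁿ → Kⁿ → Zⁿ⁺¹ → Hⁿ⁺¹ → 0` -/
lemma four_term_cycles (n : ℕ) (hZ : Acy Ψ (K.cycles n)) :
    Acy Ψ (K.cycles (n + 1)) ∧ Epi (Ψ.map (K.homologyπ (n + 1))) ∧
      ∃ w : Ψ.map (K.toCycles n (n + 1)) ≫ Ψ.map (K.homologyπ (n + 1)) = 0,
        (ShortComplex.mk _ _ w).Exact := by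
  have w₁ : K.iCycles n ≫ K.toCycles n (n + 1) = 0 := by
    rw [← cancel_mono (K.iCycles (n + 1)), Category.assoc, toCycles_i, iCycles_d, zero_comp]
  have e₁ : (ShortComplex.mk _ _ w₁).Exact := by
    have e₀ : (ShortComplex.mk (K.iCycles n) (K.d n (n + 1)) (K.iCycles_d n (n + 1))).Exact :=
      ShortComplex.exact_of_f_is_kernel _ (K.cyclesIsKernel n (n + 1) (by simp))
    let φ : ShortComplex.mk _ _ w₁ ⟶
        ShortComplex.mk (K.iCycles n) (K.d n (n + 1)) (K.iCycles_d n (n + 1)) :=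
      { τ₁ := 𝟙 _, τ₂ := 𝟙 _, τ₃ := K.iCycles (n + 1)
        comm₁₂ := by
          show 𝟙 _ ≫ K.iCycles n = K.iCycles n ≫ 𝟙 _
          rw [Category.id_comp, Category.comp_id]
        comm₂₃ := by
          show 𝟙 _ ≫ K.d n (n + 1) = K.toCycles n (n + 1) ≫ K.iCycles (n + 1)
          rw [Category.id_comp, toCycles_i] }
    have : Epi φ.τ₁ := inferInstanceAs (Epi (𝟙 _))
    have : IsIso φ.τ₂ := inferInstanceAs (IsIso (𝟙 _))
    have : Mono φ.τ₃ := inferInstanceAs (Mono (K.iCycles (n + 1)))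
    exact (ShortComplex.exact_iff_of_epi_of_isIso_of_mono φ).2 e₀
  have e₂ : (ShortComplex.mk _ _ (K.toCycles_comp_homologyπ n (n + 1))).Exact :=
    ShortComplex.exact_of_g_is_cokernel _ (K.homologyIsCokernel n (n + 1) (by simp))
  exact four_term Ψ (K.iCycles n) (K.toCycles n (n + 1)) (K.homologyπ (n + 1)) w₁
    (K.toCycles_comp_homologyπ n (n + 1)) e₁ e₂ hZ (hX n) (hH (n + 1))

include hX hH in
lemma acy_cycles : ∀ n, Acy Ψ (K.cycles n)
  | 0 => acy_of_iso K.isoHomologyπ₀.symm (hH 0)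
  | n + 1 => (four_term_cycles Ψ K hX hH n (acy_cycles n)).1

include hX hH in
theorem isIso_homologyComparison_of_acy (n : ℕ) : IsIso (RDer.homologyComparison Ψ K n) := by
  cases n with
  | zero =>
    haveI : IsIso (K.homologyπ 0) := inferInstanceAs (IsIso K.isoHomologyπ₀.hom)
    have w : Ψ.map (K.toCycles 0 0) ≫ Ψ.map (K.homologyπ 0) = 0 := by
      rw [← Ψ.map_comp, toCycles_comp_homologyπ, Ψ.map_zero]
    have h0 : Ψ.map (K.toCycles 0 0) = 0 := by
      rw [← cancel_mono (Ψ.map (K.homologyπ 0)), w, zero_comp]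
    refine isIso_homologyComparison Ψ K 0 0 CochainComplex.prev_nat_zero inferInstance w ?_
    exact (ShortComplex.exact_iff_mono _ h0).2 (inferInstanceAs (Mono (Ψ.map (K.homologyπ 0))))
  | succ n =>
    obtain ⟨-, hepi, w, hex⟩ := four_term_cycles Ψ K hX hH n (acy_cycles Ψ K hX hH n)
    exact isIso_homologyComparison Ψ K (n + 1) n (CochainComplex.prev_nat_succ n) hepi w hex

end Cochain

/-- the second edge map is an isomorphism when `Φ` of the injective resolution and the `R^n Φ X` are `Ψ`-acyclic -/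
theorem isIso_edgeOut {A : Type u₁} [Category.{v₁} A] [Abelian A] [HasInjectiveResolutions A]
    (Φ : A ⥤ B) [Φ.Additive] (X : A) (q : ℕ)
    (hX : ∀ n, Acy Ψ (Φ.obj ((injectiveResolution X).cocomplex.X n)))
    (hH : ∀ n, Acy Ψ ((Φ.rightDerived n).obj X)) : IsIso (RDer.edgeOut Φ Ψ q X) := by
  have hK : ∀ n, Acy Ψ
      (((Φ.mapHomologicalComplex _).obj (injectiveResolution X).cocomplex).homology n) :=
    fun n => acy_of_iso ((injectiveResolution X).isoRightDerivedObj Φ n) (hH n)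
  have h2 := isIso_homologyComparison_of_acy Ψ
    ((Φ.mapHomologicalComplex _).obj (injectiveResolution X).cocomplex) hX hK q
  have h1 : IsIso (((injectiveResolution X).isoRightDerivedObj (Φ ⋙ Ψ) q).hom) := inferInstance
  have h3 : IsIso (Ψ.map ((injectiveResolution X).isoRightDerivedObj Φ q).inv) := inferInstance
  unfold RDer.edgeOut
  exact @IsIso.comp_isIso _ _ _ _ _ _ _ h1 (@IsIso.comp_isIso _ _ _ _ _ _ _ h2 h3)

end Groth.Agent.Helper6.EdgeOutIso
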