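import Mathlib
import Groth.Prelude.Def_RDer
import Groth.Prelude.Def_RDerDelta
import Groth.Agent.Helper6.EdgeOutIso

set_option autoImplicit false
set_option linter.style.haveILetI false
set_option linter.unusedSectionVars false
set_option linter.unusedVariables false

/-!
# The second edge map in the first non-vanishing degree
-/

namespace Groth.Agent.Helper6.EdgeOutIso2

open CategoryTheory Limits HomologicalComplex
open Groth.Agent.Helper1 Groth.Agent.Helper6.EdgeOutIso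

universe v₁ v₂ v₃ u₁ u₂ u₃

variable {B : Type u₂} [Category.{v₂} B] [Abelian B] {C : Type u₃} [Category.{v₃} C] [Abelian C]
  (Ψ : B ⥤ C) [Ψ.Additive] [PreservesFiniteLimits Ψ] [HasInjectiveResolutions B]

variable {Ψ} in
lemma acy_of_isZero {N : B} (h : IsZero N) : Acy Ψ N :=
  fun q => Functor.map_isZero _ h

/-- a retract of an injective object is injective -/
lemma injective_of_retract {A : Type*} [Category A] {K I : A} [Injective I] (i : K ⟶ I) (r : I ⟶ K)
    (h : i ≫ r = 𝟙 K) : Injective K where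
  factors {X Y} g f _ := by
    refine ⟨Injective.factorThru (g ≫ i) f ≫ r, ?_⟩
    rw [← Category.assoc, Injective.comp_factorThru, Category.assoc, h, Category.comp_id]

/-- the four term exact sequence `0 → A₀ → A₁ → A₂ → A₃ → 0` with `A₀, A₁` acyclic -/
theorem four_term' {A₀ A₁ A₂ A₃ : B} (a : A₀ ⟶ A₁) (b : A₁ ⟶ A₂) (c : A₂ ⟶ A₃) [Mono a] [Epi c]
    (w₁ : a ≫ b = 0) (w₂ : b ≫ c = 0) (e₁ : (ShortComplex.mk a b w₁).Exact)
    (e₂ : (ShortComplex.mk b c w₂).Exact)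
    (h₀ : Acy Ψ A₀) (h₁ : Acy Ψ A₁) :
    Epi (Ψ.map c) ∧ ∃ w : Ψ.map b ≫ Ψ.map c = 0, (ShortComplex.mk _ _ w).Exact := by
  let K := Abelian.image b
  let π : A₁ ⟶ K := Abelian.factorThruImage b
  let ι : K ⟶ A₂ := Abelian.image.ι b
  have hπι : π ≫ ι = b := Abelian.image.fac b
  have wK₁ : a ≫ π = 0 := by
    rw [← cancel_mono ι, Category.assoc, hπι, w₁, zero_comp]
  have wK₂ : ι ≫ c = 0 := by
    rw [← cancel_epi π, reassoc_of% hπι, w₂, comp_zero]
  let S₁ : ShortComplex B := ShortComplex.mk a π wK₁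
  let S₂ : ShortComplex B := ShortComplex.mk ι c wK₂
  have hS₁ : S₁.ShortExact := by
    have : Mono S₁.f := inferInstanceAs (Mono a)
    have : Epi S₁.g := inferInstanceAs (Epi π)
    refine ShortComplex.ShortExact.mk ?_
    let φ : S₁ ⟶ ShortComplex.mk a b w₁ :=
      { τ₁ := 𝟙 _, τ₂ := 𝟙 _, τ₃ := ι
        comm₁₂ := by simp [S₁]
        comm₂₃ := by simp [S₁, hπι] }
    have : Epi φ.τ₁ := inferInstanceAs (Epi (𝟙 _))
    have : IsIso φ.τ₂ := inferInstanceAs (IsIso (𝟙 _))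
    have : Mono φ.τ₃ := inferInstanceAs (Mono ι)
    exact (ShortComplex.exact_iff_of_epi_of_isIso_of_mono φ).2 e₁
  have hS₂ : S₂.ShortExact := by
    have : Mono S₂.f := inferInstanceAs (Mono ι)
    have : Epi S₂.g := inferInstanceAs (Epi c)
    refine ShortComplex.ShortExact.mk ?_
    let φ : ShortComplex.mk b c w₂ ⟶ S₂ :=
      { τ₁ := π, τ₂ := 𝟙 _, τ₃ := 𝟙 _
        comm₁₂ := by simp [S₂, hπι]
        comm₂₃ := by simp [S₂] }
    have : Epi φ.τ₁ := inferInstanceAs (Epi π)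
    have : IsIso φ.τ₂ := inferInstanceAs (IsIso (𝟙 _))
    have : Mono φ.τ₃ := inferInstanceAs (Mono (𝟙 _))
    exact (ShortComplex.exact_iff_of_epi_of_isIso_of_mono φ).1 e₂
  have hK : Acy Ψ K := fun q => DerLES.isZero_rightDerived_X₃ Ψ S₁ hS₁ q (h₁ q) (h₀ (q + 1))
  have hΨS₂ : (S₂.map Ψ).ShortExact := DerLES.shortExact_map Ψ S₂ hS₂ (hK 0)
  have hΨS₁ : (S₁.map Ψ).ShortExact := DerLES.shortExact_map Ψ S₁ hS₁ (h₀ 0)
  have w' : Ψ.map b ≫ Ψ.map c = 0 := by rw [← Ψ.map_comp, w₂, Ψ.map_zero]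
  refine ⟨hΨS₂.epi_g, w', ?_⟩
  let φ : ShortComplex.mk (Ψ.map b) (Ψ.map c) w' ⟶ S₂.map Ψ :=
    { τ₁ := Ψ.map π, τ₂ := 𝟙 _, τ₃ := 𝟙 _
      comm₁₂ := by
        show Ψ.map π ≫ Ψ.map ι = Ψ.map b ≫ 𝟙 _
        rw [← Ψ.map_comp, hπι, Category.comp_id]
      comm₂₃ := by
        show 𝟙 _ ≫ Ψ.map c = Ψ.map c ≫ 𝟙 _
        rw [Category.id_comp, Category.comp_id] }
  have : Epi φ.τ₁ := hΨS₁.epi_g
  have : IsIso φ.τ₂ := inferInstanceAs (IsIso (𝟙 _))
  have : Mono φ.τ₃ := inferInstanceAs (Mono (𝟙 _))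
  exact (ShortComplex.exact_iff_of_epi_of_isIso_of_mono φ).2 hΨS₂.exact

section Cochain

variable (K : CochainComplex B ℕ)

lemma exact_cycles (n : ℕ) :
    ∃ (w₁ : K.iCycles n ≫ K.toCycles n (n + 1) = 0), (ShortComplex.mk _ _ w₁).Exact := by
  have w₁ : K.iCycles n ≫ K.toCycles n (n + 1) = 0 := by
    rw [← cancel_mono (K.iCycles (n + 1)), Category.assoc, toCycles_i, iCycles_d, zero_comp]
  refine ⟨w₁, ?_⟩
  have e₀ : (ShortComplex.mk (K.iCycles n) (K.d n (n + 1)) (K.iCycles_d n (n + 1))).Exact :=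
    ShortComplex.exact_of_f_is_kernel _ (K.cyclesIsKernel n (n + 1) (by simp))
  let φ : ShortComplex.mk _ _ w₁ ⟶
      ShortComplex.mk (K.iCycles n) (K.d n (n + 1)) (K.iCycles_d n (n + 1)) :=
    { τ₁ := 𝟙 _, τ₂ := 𝟙 _, τ₃ := K.iCycles (n + 1)
      comm₁₂ := by
        show 𝟙 _ ≫ K.iCycles n = K.iCycles n ≫ 𝟙 _
        rw [Category.id_comp, Category.comp_id]
      comm₂₃ := by
        show 𝟙 _ ≫ K.d n (n + 1) = K.toCycles n (n + 1) ≫ K.iCycles (n + 1)
        rw [Category.id_comp, toCycles_i] }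
  have : Epi φ.τ₁ := inferInstanceAs (Epi (𝟙 _))
  have : IsIso φ.τ₂ := inferInstanceAs (IsIso (𝟙 _))
  have : Mono φ.τ₃ := inferInstanceAs (Mono (K.iCycles (n + 1)))
  exact (ShortComplex.exact_iff_of_epi_of_isIso_of_mono φ).2 e₀

variable (hX : ∀ n, Acy Ψ (K.X n)) (N : ℕ) (hH : ∀ m, m < N → IsZero (K.homology m))

include hX hH in
lemma acy_cycles' : ∀ m, m < N → Acy Ψ (K.cycles m)
  | 0, h0 => acy_of_isZero ((hH 0 h0).of_iso K.isoHomologyπ₀)
  | m + 1, hm => by
    obtain ⟨w₁, e₁⟩ := exact_cycles K m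
    have e₂ : (ShortComplex.mk _ _ (K.toCycles_comp_homologyπ m (m + 1))).Exact :=
      ShortComplex.exact_of_g_is_cokernel _ (K.homologyIsCokernel m (m + 1) (by simp))
    exact (EdgeOutIso.four_term Ψ (K.iCycles m) (K.toCycles m (m + 1)) (K.homologyπ (m + 1)) w₁
      (K.toCycles_comp_homologyπ m (m + 1)) e₁ e₂ (acy_cycles' m (by omega)) (hX m)
      (acy_of_isZero (hH (m + 1) hm))).1

include hX hH in
theorem isIso_homologyComparison_of_vanishing : IsIso (RDer.homologyComparison Ψ K N) := by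
  cases N with
  | zero =>
    haveI : IsIso (K.homologyπ 0) := inferInstanceAs (IsIso K.isoHomologyπ₀.hom)
    have w : Ψ.map (K.toCycles 0 0) ≫ Ψ.map (K.homologyπ 0) = 0 := by
      rw [← Ψ.map_comp, toCycles_comp_homologyπ, Ψ.map_zero]
    have h0 : Ψ.map (K.toCycles 0 0) = 0 := by
      rw [← cancel_mono (Ψ.map (K.homologyπ 0)), w, zero_comp]
    refine isIso_homologyComparison Ψ K 0 0 CochainComplex.prev_nat_zero inferInstance w ?_
    exact (ShortComplex.exact_iff_mono _ h0).2 (inferInstanceAs (Mono (Ψ.map (K.homologyπ 0))))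
  | succ n =>
    obtain ⟨w₁, e₁⟩ := exact_cycles K n
    have e₂ : (ShortComplex.mk _ _ (K.toCycles_comp_homologyπ n (n + 1))).Exact :=
      ShortComplex.exact_of_g_is_cokernel _ (K.homologyIsCokernel n (n + 1) (by simp))
    obtain ⟨hepi, w, hex⟩ := four_term' Ψ (K.iCycles n) (K.toCycles n (n + 1))
      (K.homologyπ (n + 1)) w₁ (K.toCycles_comp_homologyπ n (n + 1)) e₁ e₂
      (acy_cycles' Ψ K hX (n + 1) hH n (by omega)) (hX n)
    exact isIso_homologyComparison Ψ K (n + 1) n (CochainComplex.prev_nat_succ n) hepi w hex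

end Cochain

/-- the second edge map is an isomorphism in the first degree where `R^n Φ X` can be non-zero -/
theorem isIso_edgeOut_of_vanishing {A : Type u₁} [Category.{v₁} A] [Abelian A]
    [HasInjectiveResolutions A] (Φ : A ⥤ B) [Φ.Additive] (X : A) (n : ℕ)
    (hX : ∀ m, Acy Ψ (Φ.obj ((injectiveResolution X).cocomplex.X m)))
    (hH : ∀ m, m < n → IsZero ((Φ.rightDerived m).obj X)) : IsIso (RDer.edgeOut Φ Ψ n X) := by
  have hK : ∀ m, m < n → IsZero
      (((Φ.mapHomologicalComplex _).obj (injectiveResolution X).cocomplex).homology m) :=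
    fun m hm => (hH m hm).of_iso ((injectiveResolution X).isoRightDerivedObj Φ m).symm
  have h2 := isIso_homologyComparison_of_vanishing Ψ
    ((Φ.mapHomologicalComplex _).obj (injectiveResolution X).cocomplex) hX n hK
  have h1 : IsIso (((injectiveResolution X).isoRightDerivedObj (Φ ⋙ Ψ) n).hom) := inferInstance
  have h3 : IsIso (Ψ.map ((injectiveResolution X).isoRightDerivedObj Φ n).inv) := inferInstance
  unfold RDer.edgeOut
  exact @IsIso.comp_isIso _ _ _ _ _ _ _ h1 (@IsIso.comp_isIso _ _ _ _ _ _ _ h2 h3)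

end Groth.Agent.Helper6.EdgeOutIso2
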