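import Mathlib
import Groth.Prelude.Def_EtDepth
import Groth.Agent.Helper6.EdgeOutIso2
import Groth.Agent.Helper9.EtLocCohSeq
import Groth.Agent.Helper9.EtPushInj

set_option autoImplicit false
set_option linter.style.haveILetI false
set_option linter.unusedSectionVars false
set_option linter.unusedVariables false

/-!
# Étale depth along a closed subset is monotone in the closed subset
-/

namespace Groth.Agent.Helper6.DepthMono

open CategoryTheory CategoryTheory.Limits AlgebraicGeometry Opposite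

universe u

section Generic

variable {A : Type*} [Category A] [Abelian A]

section One

variable (K G : A ⥤ A) [G.PreservesMonomorphisms]
  (ι : K ⟶ 𝟭 A) (η : 𝟭 A ⟶ G) (w : ∀ X, ι.app X ≫ η.app X = 0)
  (hK : ∀ X, IsLimit (KernelFork.ofι (ι.app X) (w X)))

omit [G.PreservesMonomorphisms] in
include hK in
lemma mono_ι (X : A) : Mono (ι.app X) := mono_of_isLimit_fork (hK X)

include hK in
lemma lift_exists (S : ShortComplex A) (hS : S.ShortExact) {T : A} (t : T ⟶ K.obj S.X₂)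
    (ht : t ≫ K.map S.g = 0) : ∃ l : T ⟶ K.obj S.X₁, l ≫ K.map S.f = t := by
  haveI := hS.mono_f
  haveI : ∀ X, Mono (ι.app X) := mono_ι K G ι η w hK
  have h1 : (t ≫ ι.app S.X₂) ≫ S.g = 0 := by
    have h2 : ι.app S.X₂ ≫ S.g = K.map S.g ≫ ι.app S.X₃ := (ι.naturality S.g).symm
    rw [Category.assoc, h2, reassoc_of% ht, zero_comp]
  let a : T ⟶ S.X₁ := hS.fIsKernel.lift (KernelFork.ofι (t ≫ ι.app S.X₂) h1)
  have ha : a ≫ S.f = t ≫ ι.app S.X₂ := hS.fIsKernel.fac _ WalkingParallelPair.zero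
  have ha0 : a ≫ η.app S.X₁ = 0 := by
    haveI : Mono (G.map S.f) := inferInstance
    rw [← cancel_mono (G.map S.f), zero_comp, Category.assoc]
    have h3 : η.app S.X₁ ≫ G.map S.f = S.f ≫ η.app S.X₂ := (η.naturality S.f).symm
    rw [h3, reassoc_of% ha, w, comp_zero]
  let l : T ⟶ K.obj S.X₁ := (hK S.X₁).lift (KernelFork.ofι a ha0)
  have hl : l ≫ ι.app S.X₁ = a := (hK S.X₁).fac _ WalkingParallelPair.zero
  refine ⟨l, ?_⟩
  rw [← cancel_mono (ι.app S.X₂), Category.assoc]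
  have h4 : K.map S.f ≫ ι.app S.X₂ = ι.app S.X₁ ≫ S.f := ι.naturality S.f
  rw [h4, reassoc_of% hl, ha]

include hK in
/-- the kernel of a natural transformation `𝟭 ⟶ G` with `G` preserving monomorphisms is left exact -/
theorem preservesFiniteLimits_of_kernel [K.Additive] : PreservesFiniteLimits K := by
  apply ((Functor.preservesFiniteLimits_tfae K).out 0 3).1
  intro S hS
  haveI := hS.mono_f
  haveI : ∀ X, Mono (ι.app X) := mono_ι K G ι η w hK
  have hmono : Mono (K.map S.f) := by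
    have h1 : K.map S.f ≫ ι.app S.X₂ = ι.app S.X₁ ≫ S.f := ι.naturality S.f
    haveI : Mono (K.map S.f ≫ ι.app S.X₂) := by rw [h1]; infer_instance
    exact mono_of_mono (K.map S.f) (ι.app S.X₂)
  refine ⟨?_, hmono⟩
  haveI : Mono (S.map K).f := hmono
  refine ShortComplex.exact_of_f_is_kernel _ (KernelFork.IsLimit.ofι' _ _ ?_)
  intro T t ht
  exact ⟨(lift_exists K G ι η w hK S hS t ht).choose,
    (lift_exists K G ι η w hK S hS t ht).choose_spec⟩

end One

section Two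

variable (K₁ K₂ G₁ G₂ : A ⥤ A) [G₂.PreservesMonomorphisms]
  (ι₁ : K₁ ⟶ 𝟭 A) (η₁ : 𝟭 A ⟶ G₁) (w₁ : ∀ X, ι₁.app X ≫ η₁.app X = 0)
  (hK₁ : ∀ X, IsLimit (KernelFork.ofι (ι₁.app X) (w₁ X)))
  (ι₂ : K₂ ⟶ 𝟭 A) (η₂ : 𝟭 A ⟶ G₂) (w₂ : ∀ X, ι₂.app X ≫ η₂.app X = 0)
  (hK₂ : ∀ X, IsLimit (KernelFork.ofι (ι₂.app X) (w₂ X)))
  (H : ∀ X, ι₂.app X ≫ η₁.app X = 0)

include hK₁ hK₂ H in
lemma isIso_map_ι (X : A) : IsIso (K₂.map (ι₁.app X)) := by
  haveI : ∀ X, Mono (ι₁.app X) := mono_ι K₁ G₁ ι₁ η₁ w₁ hK₁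
  haveI : ∀ X, Mono (ι₂.app X) := mono_ι K₂ G₂ ι₂ η₂ w₂ hK₂
  have hn : K₂.map (ι₁.app X) ≫ ι₂.app X = ι₂.app (K₁.obj X) ≫ ι₁.app X := ι₂.naturality (ι₁.app X)
  haveI hmono : Mono (K₂.map (ι₁.app X)) := by
    haveI : Mono (K₂.map (ι₁.app X) ≫ ι₂.app X) := by rw [hn]; infer_instance
    exact mono_of_mono (K₂.map (ι₁.app X)) (ι₂.app X)
  let t : K₂.obj X ⟶ K₁.obj X := (hK₁ X).lift (KernelFork.ofι (ι₂.app X) (H X))
  have ht : t ≫ ι₁.app X = ι₂.app X := (hK₁ X).fac _ WalkingParallelPair.zero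
  have ht0 : t ≫ η₂.app (K₁.obj X) = 0 := by
    haveI : Mono (G₂.map (ι₁.app X)) := inferInstance
    rw [← cancel_mono (G₂.map (ι₁.app X)), zero_comp, Category.assoc]
    have h3 : η₂.app (K₁.obj X) ≫ G₂.map (ι₁.app X) = ι₁.app X ≫ η₂.app X :=
      (η₂.naturality (ι₁.app X)).symm
    rw [h3, reassoc_of% ht, w₂]
  let t' : K₂.obj X ⟶ K₂.obj (K₁.obj X) := (hK₂ (K₁.obj X)).lift (KernelFork.ofι t ht0)
  have ht' : t' ≫ ι₂.app (K₁.obj X) = t := (hK₂ (K₁.obj X)).fac _ WalkingParallelPair.zero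
  have h1 : t' ≫ K₂.map (ι₁.app X) = 𝟙 _ := by
    rw [← cancel_mono (ι₂.app X), Category.assoc, hn, reassoc_of% ht', ht, Category.id_comp]
  have h2 : K₂.map (ι₁.app X) ≫ t' = 𝟙 _ := by
    rw [← cancel_mono (K₂.map (ι₁.app X)), Category.assoc, h1]
    exact (Category.comp_id _).trans (Category.id_comp _).symm
  exact ⟨⟨t', h2, h1⟩⟩

include hK₁ hK₂ H in
/-- `K₁ ⋙ K₂ ≅ K₂` when the kernel `K₂` is contained in the kernel `K₁` -/
noncomputable def compIso : K₁ ⋙ K₂ ≅ K₂ :=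
  haveI : ∀ X, IsIso ((Functor.whiskerRight ι₁ K₂ ≫ (Functor.leftUnitor K₂).hom).app X) := by
    intro X
    have := isIso_map_ι K₁ K₂ G₁ G₂ ι₁ η₁ w₁ hK₁ ι₂ η₂ w₂ hK₂ H X
    have h : (Functor.whiskerRight ι₁ K₂ ≫ (Functor.leftUnitor K₂).hom).app X =
        K₂.map (ι₁.app X) := by
      simp only [NatTrans.comp_app, Functor.whiskerRight_app, Functor.leftUnitor_hom_app]
      exact Category.comp_id _
    rw [h]
    exact this
  haveI := NatIso.isIso_of_isIso_app (Functor.whiskerRight ι₁ K₂ ≫ (Functor.leftUnitor K₂).hom)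
  asIso (Functor.whiskerRight ι₁ K₂ ≫ (Functor.leftUnitor K₂).hom)

end Two

end Generic

section Etale

open Groth.Agent.Helper9.EtLocCohSeq Groth.Agent.Helper6.EdgeOutIso

variable {X U V : Scheme.{u}}

lemma w_app (j : U ⟶ X) (F : EtCoh.Ab X) : (α j).app F ≫ (β j).app F = 0 :=
  kernel.condition (EtDual.unitApp j F)

/-- the components of `α j` are kernels of the unit -/
noncomputable def hK (j : U ⟶ X) (F : EtCoh.Ab X) :
    IsLimit (KernelFork.ofι ((α j).app F) (w_app j F)) :=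
  kernelIsKernel (EtDual.unitApp j F)

instance preservesMono_pullPush (j : U ⟶ X) :
    (EtCoh.pull j ⋙ EtCoh.push j).PreservesMonomorphisms := by
  haveI : (EtCoh.push j).PreservesMonomorphisms :=
    Functor.preservesMonomorphisms_of_adjunction (EtCoh.pullPushAdj j)
  haveI : (EtCoh.pull j).PreservesMonomorphisms := inferInstance
  infer_instance

instance preservesFiniteLimits_secSupp (j : U ⟶ X) : PreservesFiniteLimits (EtDual.secSupp j) :=
  preservesFiniteLimits_of_kernel (EtDual.secSupp j) (EtCoh.pull j ⋙ EtCoh.push j) (α j) (β j)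
    (w_app j) (hK j)

lemma pull_map_eq_zero_of_comp_unit (j : U ⟶ X) {A F : EtCoh.Ab X} (s : A ⟶ F)
    (hs : s ≫ EtDual.unitApp j F = 0) : (EtCoh.pull j).map s = 0 := by
  apply ((EtCoh.pullPushAdj j).homEquiv _ _).injective
  rw [Adjunction.homEquiv_unit, Adjunction.homEquiv_unit]
  have h1 : (EtCoh.pullPushAdj j).unit.app A ≫ (EtCoh.push j).map ((EtCoh.pull j).map s) =
      s ≫ EtDual.unitApp j F := ((EtCoh.pullPushAdj j).unit.naturality s).symm
  rw [h1, hs, Functor.map_zero, comp_zero]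

lemma comp_unit_eq_zero_of_pull_map_eq_zero (j : U ⟶ X) {A F : EtCoh.Ab X} (s : A ⟶ F)
    (hs : (EtCoh.pull j).map s = 0) : s ≫ EtDual.unitApp j F = 0 := by
  have h1 : s ≫ EtDual.unitApp j F =
      (EtCoh.pullPushAdj j).unit.app A ≫ (EtCoh.push j).map ((EtCoh.pull j).map s) :=
    (EtCoh.pullPushAdj j).unit.naturality s
  rw [h1, hs, Functor.map_zero, comp_zero]

lemma H_app (j' : U ⟶ V) (k : V ⟶ X) (F : EtCoh.Ab X) :
    (α k).app F ≫ (β (j' ≫ k)).app F = 0 := by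
  apply comp_unit_eq_zero_of_pull_map_eq_zero
  have h0 : (EtCoh.pull k).map ((α k).app F) = 0 :=
    pull_map_eq_zero_of_comp_unit k _ (w_app k F)
  have hn : (EtCoh.pull (j' ≫ k)).map ((α k).app F) ≫ (EtCore.pullComp j' k).hom.app F =
      (EtCore.pullComp j' k).hom.app _ ≫ (EtCoh.pull j').map ((EtCoh.pull k).map ((α k).app F)) :=
    (EtCore.pullComp j' k).hom.naturality ((α k).app F)
  rw [← cancel_mono ((EtCore.pullComp j' k).hom.app F), zero_comp, hn, h0, Functor.map_zero,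
    comp_zero]

/-- `Γ_Z ∘ Γ_{Z'} ≅ Γ_Z` for `Z ⊆ Z'` -/
noncomputable def secSuppCompIso (j' : U ⟶ V) (k : V ⟶ X) :
    EtDual.secSupp (j' ≫ k) ⋙ EtDual.secSupp k ≅ EtDual.secSupp k :=
  compIso (EtDual.secSupp (j' ≫ k)) (EtDual.secSupp k)
    (EtCoh.pull (j' ≫ k) ⋙ EtCoh.push (j' ≫ k)) (EtCoh.pull k ⋙ EtCoh.push k)
    (α (j' ≫ k)) (β (j' ≫ k)) (w_app (j' ≫ k)) (hK (j' ≫ k))
    (α k) (β k) (w_app k) (hK k) (H_app j' k)

lemma injective_secSupp (j : U ⟶ X) [IsOpenImmersion j] (I : EtCoh.Ab X) [Injective I] :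
    Injective ((EtDual.secSupp j).obj I) := by
  obtain ⟨s, hs⟩ := Groth.Agent.Helper9.EtCounitMono.exists_section_unit
    (Groth.Agent.Helper9.EtShriekExact.jadj j) (Groth.Agent.Helper9.EtShriekOpen.sheafAdj j) I
    (Groth.Agent.Helper9.EtCounitMono.mono_jadj_counit j _)
  have h0 := Adjunction.unit_leftAdjointUniq_hom_app (EtCoh.pullPushAdj j)
    (Groth.Agent.Helper9.EtShriekOpen.sheafAdj j) I
  obtain ⟨θ, hθ⟩ : ∃ θ, θ = (EtCoh.push j).map (((EtCoh.pullPushAdj j).leftAdjointUniq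
    (Groth.Agent.Helper9.EtShriekOpen.sheafAdj j)).hom.app I) := ⟨_, rfl⟩
  have : IsIso θ := by rw [hθ]; infer_instance
  have h2 : EtDual.unitApp j I =
      (Groth.Agent.Helper9.EtShriekOpen.sheafAdj j).unit.app I ≫ inv θ := by
    rw [← h0, ← hθ, Category.assoc, IsIso.hom_inv_id, Category.comp_id]
  have hs' : (θ ≫ s) ≫ EtDual.unitApp j I = 𝟙 _ := by
    rw [h2, Category.assoc, reassoc_of% hs, IsIso.hom_inv_id]
  obtain ⟨s', hs''⟩ : ∃ s' : (EtCoh.push j).obj ((EtCoh.pull j).obj I) ⟶ I,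
      s' ≫ EtDual.unitApp j I = 𝟙 _ := ⟨θ ≫ s, hs'⟩
  have hw : (𝟙 I - EtDual.unitApp j I ≫ s') ≫ EtDual.unitApp j I = 0 := by
    rw [Preadditive.sub_comp, Category.id_comp, Category.assoc, hs'', Category.comp_id, sub_self]
  refine Groth.Agent.Helper6.EdgeOutIso2.injective_of_retract
    (kernel.ι (EtDual.unitApp j I)) (kernel.lift _ _ hw) ?_
  rw [← cancel_mono (kernel.ι (EtDual.unitApp j I)), Category.assoc, kernel.lift_ι,
    Preadditive.comp_sub, Category.comp_id, kernel.condition_assoc, zero_comp, sub_zero,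
    Category.id_comp]

theorem depthGE_mono_aux (j' : U ⟶ V) (k : V ⟶ X) [IsOpenImmersion (j' ≫ k)]
    (F : EtCoh.Ab X) (n : ℕ) (h : EtDepth.DepthGE (j' ≫ k) F n) : EtDepth.DepthGE k F n := by
  intro p hp
  have hX : ∀ m, Acy (EtDual.secSupp k)
      ((EtDual.secSupp (j' ≫ k)).obj ((injectiveResolution F).cocomplex.X m)) := by
    intro m q
    haveI := injective_secSupp (j' ≫ k) ((injectiveResolution F).cocomplex.X m)
    exact Functor.isZero_rightDerived_obj_injective_succ _ _ _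
  haveI hiso := Groth.Agent.Helper6.EdgeOutIso2.isIso_edgeOut_of_vanishing (EtDual.secSupp k)
    (EtDual.secSupp (j' ≫ k)) F p hX (fun m hm => h m (hm.trans hp))
  have hz : IsZero ((EtDual.secSupp k).obj (((EtDual.secSupp (j' ≫ k)).rightDerived p).obj F)) :=
    Functor.map_isZero _ (h p hp)
  have hz2 : IsZero (((EtDual.secSupp (j' ≫ k) ⋙ EtDual.secSupp k).rightDerived p).obj F) :=
    hz.of_iso (asIso (RDer.edgeOut (EtDual.secSupp (j' ≫ k)) (EtDual.secSupp k) p F))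
  exact hz2.of_iso ((RDer.rightDerivedIso (secSuppCompIso j' k) p).app F).symm

theorem depthGE_mono (j : U ⟶ X) [IsOpenImmersion j] (k : V ⟶ X) [IsOpenImmersion k]
    (hUV : Set.range j.base ⊆ Set.range k.base) (F : EtCoh.Ab X) (n : ℕ)
    (h : EtDepth.DepthGE j F n) : EtDepth.DepthGE k F n := by
  obtain ⟨j', rfl⟩ : ∃ j' : U ⟶ V, j' ≫ k = j :=
    ⟨IsOpenImmersion.lift k j hUV, IsOpenImmersion.lift_fac k j hUV⟩
  exact depthGE_mono_aux j' k F n h

end Etale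

end Groth.Agent.Helper6.DepthMono
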