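import Mathlib
import Groth.Prelude.Def_EtDepth
import Groth.Agent.Helper6.DepthMono
import Groth.Agent.Helper6.EtLocA
import Groth.Agent.Helper9.EtShriekBC
import Groth.Agent.Helper9.EtShriekOpen
import Groth.Agent.Helper9.EtJCont
import Groth.Agent.Helper9.EtPushInj

set_option autoImplicit false
set_option linter.style.haveILetI false
set_option linter.unusedSectionVars false
set_option linter.unusedVariables false

/-!
# Étale localization of the local cohomology sheaves
-/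

namespace Groth.Agent.Helper6.EtLocB

open CategoryTheory CategoryTheory.Limits AlgebraicGeometry Opposite

universe u

section Generic

variable {𝒳 : Type*} [Category 𝒳] [Abelian 𝒳] {𝒱 : Type*} [Category 𝒱] [Abelian 𝒱]
  (K G : 𝒳 ⥤ 𝒳) (ι : K ⟶ 𝟭 𝒳) (η : 𝟭 𝒳 ⟶ G) (w : ∀ F, ι.app F ≫ η.app F = 0)
  (hK : ∀ F, IsLimit (KernelFork.ofι (ι.app F) (w F)))
  (K' G' : 𝒱 ⥤ 𝒱) (ι' : K' ⟶ 𝟭 𝒱) (η' : 𝟭 𝒱 ⟶ G') (w' : ∀ F, ι'.app F ≫ η'.app F = 0)
  (hK' : ∀ F, IsLimit (KernelFork.ofι (ι'.app F) (w' F)))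
  (E : 𝒳 ⥤ 𝒱) [E.Additive] [PreservesFiniteLimits E]
  (h1 : ∀ F, E.map (ι.app F) ≫ η'.app (E.obj F) = 0)
  (h2 : ∀ F, ι'.app (E.obj F) ≫ E.map (η.app F) = 0)

noncomputable def fwd (F : 𝒳) : E.obj (K.obj F) ⟶ K'.obj (E.obj F) :=
  (hK' (E.obj F)).lift (KernelFork.ofι (E.map (ι.app F)) (h1 F))

lemma fwd_ι (F : 𝒳) : fwd K ι K' G' ι' η' w' hK' E h1 F ≫ ι'.app (E.obj F) = E.map (ι.app F) :=
  (hK' (E.obj F)).fac _ WalkingParallelPair.zero

noncomputable def bwd (F : 𝒳) : K'.obj (E.obj F) ⟶ E.obj (K.obj F) :=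
  (KernelFork.mapIsLimit _ (hK F) E).lift (KernelFork.ofι (ι'.app (E.obj F)) (h2 F))

lemma bwd_ι (F : 𝒳) : bwd K G ι η w hK K' ι' E h2 F ≫ E.map (ι.app F) = ι'.app (E.obj F) :=
  (KernelFork.mapIsLimit _ (hK F) E).fac (KernelFork.ofι (ι'.app (E.obj F)) (h2 F))
    WalkingParallelPair.zero

include hK in
lemma mono_Eι (F : 𝒳) : Mono (E.map (ι.app F)) := by
  haveI : Mono (ι.app F) := mono_of_isLimit_fork (hK F)
  infer_instance

include hK' in
lemma mono_ι' (F : 𝒱) : Mono (ι'.app F) := mono_of_isLimit_fork (hK' F)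

/-- the kernel functors are intertwined by the left exact functor `E` -/
noncomputable def kerIso : K ⋙ E ≅ E ⋙ K' :=
  NatIso.ofComponents
    (fun F =>
      { hom := fwd K ι K' G' ι' η' w' hK' E h1 F
        inv := bwd K G ι η w hK K' ι' E h2 F
        hom_inv_id := by
          haveI := mono_Eι K G ι η w hK E F
          rw [← cancel_mono (E.map (ι.app F)), Category.assoc, bwd_ι, fwd_ι, Category.id_comp]
        inv_hom_id := by
          haveI := mono_ι' K' G' ι' η' w' hK' (E.obj F)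
          rw [← cancel_mono (ι'.app (E.obj F)), Category.assoc, fwd_ι, bwd_ι, Category.id_comp] })
    (by
      intro F F' f
      haveI := mono_ι' K' G' ι' η' w' hK' (E.obj F')
      rw [← cancel_mono (ι'.app (E.obj F'))]
      dsimp only [Functor.comp_map, Functor.comp_obj]
      rw [Category.assoc, Category.assoc, fwd_ι]
      have e1 : K'.map (E.map f) ≫ ι'.app (E.obj F') = ι'.app (E.obj F) ≫ E.map f :=
        ι'.naturality (E.map f)
      have e2 : K.map f ≫ ι.app F' = ι.app F ≫ f := ι.naturality f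
      rw [e1, ← Category.assoc, fwd_ι, ← E.map_comp, ← E.map_comp, e2])

end Generic

section Etale

open Groth.Agent.Helper9.EtLocCohSeq Groth.Agent.Helper6.DepthMono

variable {X U V U' : Scheme.{u}} (j : U ⟶ X) (v : V ⟶ X) [Etale v] (j' : U' ⟶ V) (v' : U' ⟶ U)
  [Etale v'] (h : IsPullback v' j' j v)

/-- the two composite pullbacks agree -/
noncomputable def ψ (hw : v' ≫ j = j' ≫ v) :
    EtCoh.pull j ⋙ EtCoh.pull v' ≅ EtCoh.pull v ⋙ EtCoh.pull j' :=
  (EtCore.pullComp v' j).symm ≪≫ EtCore.pullCongr hw ≪≫ EtCore.pullComp j' v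

lemma h1 (hw : v' ≫ j = j' ≫ v) (F : EtCoh.Ab X) :
    (EtCoh.pull v).map ((α j).app F) ≫ (β j').app ((EtCoh.pull v).obj F) = 0 := by
  apply comp_unit_eq_zero_of_pull_map_eq_zero
  have h0 : (EtCoh.pull j).map ((α j).app F) = 0 :=
    pull_map_eq_zero_of_comp_unit j _ (w_app j F)
  have hn : (EtCoh.pull v').map ((EtCoh.pull j).map ((α j).app F)) ≫ (ψ j v j' v' hw).hom.app F =
      (ψ j v j' v' hw).hom.app _ ≫ (EtCoh.pull j').map ((EtCoh.pull v).map ((α j).app F)) :=
    (ψ j v j' v' hw).hom.naturality ((α j).app F)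
  rw [h0, Functor.map_zero, zero_comp] at hn
  rw [← cancel_epi ((ψ j v j' v' hw).hom.app ((EtDual.secSupp j).obj F)), ← hn, comp_zero]

/-- `Γ_Z` has no sections off `Z` -/
lemma isZero_pull_secSupp (M : EtCoh.Ab V) : IsZero ((EtCoh.pull j').obj ((EtDual.secSupp j').obj M)) := by
  have h0 : (EtCoh.pull j').map ((α j').app M) = 0 :=
    pull_map_eq_zero_of_comp_unit j' _ (w_app j' M)
  haveI : Mono ((α j').app M) := inferInstanceAs (Mono (kernel.ι (EtDual.unitApp j' M)))
  haveI : Mono ((EtCoh.pull j').map ((α j').app M)) := inferInstance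
  exact IsZero.of_mono_eq_zero _ h0

include h in
/-- étale base change for the direct image, objectwise -/
lemma nonempty_pull_push_iso (G : EtCoh.Ab U) :
    Nonempty ((EtCoh.pull v).obj ((EtCoh.push j).obj G) ≅
      (EtCoh.push j').obj ((EtShriek.restrAlong v').obj G)) :=
  ⟨(Groth.Agent.Helper9.EtShriekOpen.pullIsoRestr v).app _ ≪≫
    ((Groth.Agent.Helper9.EtShriekBC.rightIso v j v' j' h).app G).symm⟩

include h in
lemma h2 (F : EtCoh.Ab X) :
    (α j').app ((EtCoh.pull v).obj F) ≫ (EtCoh.pull v).map ((β j).app F) = 0 := by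
  obtain ⟨m⟩ := nonempty_pull_push_iso j v j' v' h ((EtCoh.pull j).obj F)
  rw [← cancel_mono m.hom, zero_comp]
  apply ((EtCoh.pullPushAdj j').homEquiv _ _).symm.injective
  exact (isZero_pull_secSupp j' ((EtCoh.pull v).obj F)).eq_of_src _ _

include h in
/-- restriction to an étale neighbourhood commutes with sections with support -/
noncomputable def secSuppIso : EtDual.secSupp j ⋙ EtCoh.pull v ≅ EtCoh.pull v ⋙ EtDual.secSupp j' :=
  kerIso (EtDual.secSupp j) (EtCoh.pull j ⋙ EtCoh.push j) (α j) (β j) (w_app j) (hK j)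
    (EtDual.secSupp j') (EtCoh.pull j' ⋙ EtCoh.push j') (α j') (β j') (w_app j') (hK j')
    (EtCoh.pull v) (h1 j v j' v' h.w) (h2 j v j' v' h)

instance : (EtCoh.pull v).PreservesInjectiveObjects where
  injective_obj {I} hI := by
    haveI := hI
    exact Groth.Agent.Helper9.EtPushInj.injective_pull_of_etale v I

include h in
/-- restriction to an étale neighbourhood commutes with the local cohomology sheaves -/
theorem nonempty_locCoh_iso (F : EtCoh.Ab X) (p : ℕ) :
    Nonempty ((EtCoh.pull v).obj ((EtDual.locCoh j p).obj F) ≅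
      (EtDual.locCoh j' p).obj ((EtCoh.pull v).obj F)) :=
  ⟨Groth.Agent.Helper6.EtLocA.derivedIso (EtCoh.pull v) (EtCoh.pull v) (EtDual.secSupp j)
    (EtDual.secSupp j') (secSuppIso j v j' v' h) F p⟩

end Etale

end Groth.Agent.Helper6.EtLocB
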