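import Mathlib
import Groth.Prelude.Def_EtDual
import Groth.Prelude.Def_EtCore
import Groth.Agent.Helper6.EtLocA
import Groth.Agent.Helper6.EtLocB
import Groth.Agent.Helper6.ExcA
import Groth.Agent.Helper6.ExcB
import Groth.Agent.Helper9.EtShriekOpen
import Groth.Agent.Helper9.EtJCont

set_option autoImplicit false
set_option linter.style.haveILetI false
set_option linter.unusedSectionVars false
set_option linter.unusedVariables false

/-!
# Étale excision for local cohomology groups
-/

namespace Groth.Agent.Helper6.ExcC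

open CategoryTheory CategoryTheory.Limits AlgebraicGeometry Opposite

universe u

/-- global sections -/
noncomputable abbrev Ψ (X : Scheme.{u}) : EtCoh.Ab X ⥤ AddCommGrpCat.{u + 1} :=
  sheafToPresheaf X.smallEtaleTopology AddCommGrpCat.{u + 1} ⋙
    (evaluation X.Etaleᵒᵖ AddCommGrpCat.{u + 1}).obj (op (EtCoh.top X))

variable {X X' U U' : Scheme.{u}} (f : X' ⟶ X) [Etale f] (j : U ⟶ X) [IsOpenImmersion j]
  (j' : U' ⟶ X') [IsOpenImmersion j']

lemma left_eq (A : X.Etale) (a : A ⟶ EtCoh.top X) : a.left = A.hom := by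
  have h := MorphismProperty.Over.w a
  rw [← h]
  exact (Category.comp_id _).symm

/-- the object `X' ⟶ X` -/
noncomputable abbrev objB : X.Etale := (EtShriek.compEtale f).obj (EtCoh.top X')

/-- the structure map -/
noncomputable def tf : objB f ⟶ EtCoh.top X := (EtCore.topIsTerminal X).from _

/-- restriction of global sections along `f` -/
noncomputable def τ : Ψ X ⟶ EtShriek.restrAlong f ⋙ Ψ X' where
  app G := G.obj.map (tf f).op
  naturality G G' φ := (φ.hom.naturality (tf f).op).symm

lemma eq_zero_of_map (F : EtCoh.Ab X) (C : X.Etale)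
    (c : C ⟶ (EtShriek.compEtale j).obj (EtCoh.top U))
    (s : ((EtDual.secSupp j).obj F).obj.obj (op C)) : s = 0 := by
  have h0 : IsZero ((EtCoh.pull j).obj ((EtDual.secSupp j).obj F)) :=
    Groth.Agent.Helper6.EtLocB.isZero_pull_secSupp j F
  have h1 : IsZero ((EtShriek.restrAlong j).obj ((EtDual.secSupp j).obj F)) :=
    h0.of_iso ((Groth.Agent.Helper9.EtShriekOpen.pullIsoRestr j).app _).symm
  have h2 : IsZero (((EtShriek.restrAlong j).obj ((EtDual.secSupp j).obj F)).obj.obj
      (op (Groth.Agent.Helper9.EtJCont.liftObj j c))) :=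
    Functor.map_isZero (sheafToPresheaf U.smallEtaleTopology AddCommGrpCat.{u + 1} ⋙
      (evaluation U.Etaleᵒᵖ AddCommGrpCat.{u + 1}).obj
        (op (Groth.Agent.Helper9.EtJCont.liftObj j c))) h1
  have h3 : IsZero (((EtDual.secSupp j).obj F).obj.obj (op C)) :=
    h2.of_iso (((EtDual.secSupp j).obj F).obj.mapIso (Groth.Agent.Helper9.EtJCont.liftIso j c).op)
  haveI := AddCommGrpCat.subsingleton_of_isZero h3
  exact Subsingleton.elim _ _

section Square

variable (hU' : Set.range j'.base = f.base ⁻¹' Set.range j.base)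

include hU' in
lemma range_subset : Set.range (j' ≫ f).base ⊆ Set.range j.base := by
  rintro _ ⟨y, rfl⟩
  have h1 : j'.base y ∈ f.base ⁻¹' Set.range j.base := hU' ▸ Set.mem_range_self y
  simpa using h1

/-- the restriction of `f` over `U` -/
noncomputable def f' : U' ⟶ U := IsOpenImmersion.lift j (j' ≫ f) (range_subset f j j' hU')

lemma f'_fac : f' f j j' hU' ≫ j = j' ≫ f := IsOpenImmersion.lift_fac _ _ _

lemma isPullback : IsPullback (f' f j j' hU') j' j f := by
  refine IsOpenImmersion.isPullback (f' f j j' hU') j' j f (f'_fac f j j' hU').symm ?_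
  apply TopologicalSpace.Opens.ext
  exact hU'.symm

instance etale_f' : Etale (f' f j j' hU') :=
  MorphismProperty.of_isPullback (P := @Etale) (isPullback f j j' hU').flip inferInstance

end Square

section Bij

variable (hU' : Set.range j'.base = f.base ⁻¹' Set.range j.base)
  (hZ : Set.BijOn f.base (Set.range j'.base)ᶜ (Set.range j.base)ᶜ)
  (hκ : ∀ x' : ↥X', x' ∉ Set.range j'.base → Function.Surjective (f.residueFieldMap x'))

include hU' hZ hκ in
theorem bijective_τ (F : EtCoh.Ab X) :
    Function.Bijective (ConcreteCategory.hom (((EtDual.secSupp j).obj F).obj.map (tf f).op)) := by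
  apply Groth.Agent.Helper6.ExcB.bijective_restrict ((EtDual.secSupp j).obj F) (EtCoh.top X)
    ((EtShriek.compEtale j).obj (EtCoh.top U)) (objB f) ((EtCore.topIsTerminal X).from _) (tf f)
  · intro x
    by_cases hx : x ∈ Set.range j.base
    · obtain ⟨y, hy⟩ := hx
      left
      refine ⟨y, ?_⟩
      rw [left_eq]
      change (𝟙 U ≫ j).base y = x
      rw [Category.id_comp]
      exact hy
    · obtain ⟨x', hx', hfx'⟩ := hZ.surjOn hx
      right
      refine ⟨x', ?_⟩
      rw [left_eq]
      change (𝟙 X' ≫ f).base x' = x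
      rw [Category.id_comp]
      exact hfx'
  · exact fun C c s => eq_zero_of_map j F C c s
  · intro C g₁ g₂ z hg
    haveI : Etale C.hom := C.prop
    by_cases hz : C.hom.base z ∈ Set.range j.base
    · have hz' : z ∈ Set.range (pullback.fst C.hom j).base := by
        have := Scheme.Pullback.range_fst C.hom j
        rw [this]
        exact hz
      obtain ⟨z', hz'⟩ := hz'
      refine ⟨Scheme.Etale.mk (pullback.fst C.hom j ≫ C.hom),
        MorphismProperty.Over.homMk (pullback.fst C.hom j) rfl trivial, z', hz',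
        Or.inl ⟨MorphismProperty.Over.homMk (pullback.snd C.hom j) ?_ trivial⟩⟩
      change pullback.snd C.hom j ≫ (𝟙 U ≫ j) = pullback.fst C.hom j ≫ C.hom
      rw [Category.id_comp, pullback.condition]
    · have w1 : g₁.left ≫ f = C.hom :=
        (congrArg (fun t => g₁.left ≫ t) (Category.id_comp f)).symm.trans
          (MorphismProperty.Over.w g₁)
      have w2 : g₂.left ≫ f = C.hom :=
        (congrArg (fun t => g₂.left ≫ t) (Category.id_comp f)).symm.trans
          (MorphismProperty.Over.w g₂)
      have hgl : g₁.left ≫ f = g₂.left ≫ f := w1.trans w2.symm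
      have e1 : f.base (g₁.left.base z) = C.hom.base z := by
        rw [← w1]; rfl
      have e2 : f.base (g₂.left.base z) = C.hom.base z := by
        rw [← w2]; rfl
      have n1 : g₁.left.base z ∈ (Set.range j'.base)ᶜ := by
        intro hmem
        rw [hU'] at hmem
        exact hz (e1 ▸ hmem)
      have n2 : g₂.left.base z ∈ (Set.range j'.base)ᶜ := by
        intro hmem
        rw [hU'] at hmem
        exact hz (e2 ▸ hmem)
      have heq : g₁.left.base z = g₂.left.base z := hZ.injOn n1 n2 (e1.trans e2.symm)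
      obtain ⟨E, e, he, hze, hee⟩ := Groth.Agent.Helper6.ExcA.exists_open_eq f g₁.left g₂.left
        hgl z heq (hκ _ n1)
      obtain ⟨z', hz'⟩ := hze
      haveI := he
      refine ⟨Scheme.Etale.mk (e ≫ C.hom), MorphismProperty.Over.homMk e rfl trivial, z', hz',
        Or.inr ?_⟩
      apply MorphismProperty.Over.Hom.ext
      exact hee

include hU' hZ hκ in
lemma isIso_τ_app (F : EtCoh.Ab X) : IsIso ((τ f).app ((EtDual.secSupp j).obj F)) :=
  (ConcreteCategory.isIso_iff_bijective _).2 (bijective_τ f j j' hU' hZ hκ F)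

/-- the excision map on sections with support -/
noncomputable def θ₁ : EtDual.gammaSupp j ⟶ EtDual.secSupp j ⋙ EtShriek.restrAlong f ⋙ Ψ X' :=
  Functor.whiskerLeft (EtDual.secSupp j) (τ f)

include hU' hZ hκ in
lemma isIso_θ₁ : IsIso (θ₁ f j) := by
  haveI : ∀ F, IsIso ((θ₁ f j).app F) := fun F => isIso_τ_app f j j' hU' hZ hκ F
  exact NatIso.isIso_of_isIso_app _

/-- excision in degree zero -/
noncomputable def θ : EtDual.gammaSupp j ≅ EtCoh.pull f ⋙ EtDual.gammaSupp j' :=
  (@asIso _ _ _ _ (θ₁ f j) (isIso_θ₁ f j j' hU' hZ hκ)) ≪≫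
    Functor.isoWhiskerLeft (EtDual.secSupp j)
      (Functor.isoWhiskerRight (Groth.Agent.Helper9.EtShriekOpen.pullIsoRestr f).symm (Ψ X')) ≪≫
    (Functor.associator _ _ _).symm ≪≫
    Functor.isoWhiskerRight (Groth.Agent.Helper6.EtLocB.secSuppIso j f j' (f' f j j' hU')
      (isPullback f j j' hU')) (Ψ X') ≪≫
    Functor.associator _ _ _

include hU' hZ hκ in
/-- étale excision for the local cohomology groups -/
theorem nonempty_HY_iso (F : EtCoh.Ab X) (r : ℕ) :
    Nonempty ((EtDual.HY j r).obj F ≅ (EtDual.HY j' r).obj ((EtCoh.pull f).obj F)) :=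
  ⟨Groth.Agent.Helper6.EtLocA.derivedIso (EtCoh.pull f) (𝟭 AddCommGrpCat.{u + 1})
    (EtDual.gammaSupp j) (EtDual.gammaSupp j')
    (Functor.rightUnitor _ ≪≫ θ f j j' hU' hZ hκ) F r⟩

end Bij

end Groth.Agent.Helper6.ExcC
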