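import Mathlib
import Groth.Prelude.Def_EtBase
import Groth.Prelude.Def_EtDual
import Groth.Prelude.Def_PBC
import Groth.Agent.Helper4.ClosedPtAcyc
import Groth.Agent.Helper9.EtClosedEss
import Groth.Agent.Helper6.ExcC
import Groth.Agent.Helper6.ClPtA
import Groth.Agent.Helper6.ClPtB

set_option autoImplicit false
set_option linter.style.haveILetI false
set_option linter.unusedSectionVars false
set_option linter.unusedVariables false
set_option linter.unusedSimpArgs false

/-!
# Sheaves of sections supported at one closed point are acyclic (separably closed base field)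
-/

namespace Groth.Agent.Helper6.ClPtC

open CategoryTheory CategoryTheory.Limits AlgebraicGeometry Opposite
open Groth.Agent.Helper4.AcycColim

universe u

variable {X : Scheme.{u}}

/-- the open complement of a closed point -/
def Uo (x : X) (hx : IsClosed ({x} : Set X)) : X.Opens := ⟨{x}ᶜ, hx.isOpen_compl⟩

/-- sections supported at the closed point `x` -/
noncomputable abbrev Γx (F : EtCoh.Ab X) (x : X) (hx : IsClosed ({x} : Set X)) : EtCoh.Ab X :=
  (EtDual.secSupp (Uo x hx).ι).obj F

/-- the inclusion -/
noncomputable abbrev ιΓ (F : EtCoh.Ab X) (x : X) (hx : IsClosed ({x} : Set X)) : Γx F x hx ⟶ F :=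
  kernel.ι (EtDual.unitApp (Uo x hx).ι F)

lemma range_Uo (x : X) (hx : IsClosed ({x} : Set X)) :
    Set.range (Uo x hx).ι.base = {x}ᶜ := by
  rw [Scheme.Opens.range_ι]
  rfl

/-- the sheaf of sections supported at `x` vanishes on étale schemes missing `x` -/
theorem isZero_Γx_of_disjoint (F : EtCoh.Ab X) (x : X) (hx : IsClosed ({x} : Set X)) (C : X.Etale)
    (hC : Disjoint (Set.range C.hom.base) (Set.range (X.fromSpecResidueField x).base)) :
    IsZero ((Γx F x hx).obj.obj (op C)) := by
  have hr : Set.range C.hom.base ⊆ Set.range (Uo x hx).ι.base := by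
    rw [range_Uo]
    intro p hp hpx
    rw [Scheme.range_fromSpecResidueField] at hC
    exact (Set.disjoint_left.1 hC) hp hpx
  let c₀ : C.left ⟶ (Uo x hx).toScheme := IsOpenImmersion.lift (Uo x hx).ι C.hom hr
  have hc₀ : c₀ ≫ (Uo x hx).ι = C.hom := IsOpenImmersion.lift_fac _ _ _
  let c : C ⟶ (EtShriek.compEtale (Uo x hx).ι).obj (EtCoh.top (Uo x hx).toScheme) :=
    MorphismProperty.Over.homMk c₀ (by
      show c₀ ≫ (𝟙 _ ≫ (Uo x hx).ι) = C.hom
      rw [Category.id_comp, hc₀]) trivial
  have : Subsingleton ↑((Γx F x hx).obj.obj (op C)) :=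
    ⟨fun s t => by
      rw [Groth.Agent.Helper6.ExcC.eq_zero_of_map (Uo x hx).ι F C c s,
        Groth.Agent.Helper6.ExcC.eq_zero_of_map (Uo x hx).ι F C c t]⟩
  exact AddCommGrpCat.isZero_of_subsingleton _

section Field

variable {K : Type u} [Field K] [IsSepClosed K] (a : X ⟶ Spec (CommRingCat.of K))
  [LocallyOfFiniteType a]

include a in
/-- residue fields at closed points of a scheme locally of finite type over a separably closed
field are separably closed -/
lemma isSepClosed_residueField (x : X) (hx : IsClosed ({x} : Set X)) :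
    IsSepClosed (X.residueField x) := by
  haveI : IsClosedImmersion (X.fromSpecResidueField x) :=
    isClosed_singleton_iff_isClosedImmersion.1 hx
  haveI : LocallyOfFiniteType (X.fromSpecResidueField x ≫ a) := inferInstance
  have hfin : IsFinite (X.fromSpecResidueField x ≫ a) :=
    isFinite_iff_locallyOfFiniteType_of_jacobsonSpace.2 inferInstance
  obtain ⟨φ, hφ⟩ := Spec.map_surjective (X.fromSpecResidueField x ≫ a)
  rw [← hφ, IsFinite.SpecMap_iff] at hfin
  letI : Algebra K (X.residueField x) := φ.hom.toAlgebra
  haveI : Module.Finite K (X.residueField x) := hfin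
  haveI : Algebra.IsAlgebraic K (X.residueField x) := inferInstance
  exact Algebra.IsAlgebraic.isSepClosed (F := K) (E := X.residueField x)

lemma isSepClosed_residue (κ : Type u) [Field κ] [IsSepClosed κ] :
    IsSepClosed (IsLocalRing.ResidueField κ) := by
  haveI : Algebra.IsAlgebraic κ (IsLocalRing.ResidueField κ) :=
    ⟨fun z => by
      obtain ⟨w, rfl⟩ := IsLocalRing.residue_surjective z
      exact isAlgebraic_algebraMap (R := κ) (A := IsLocalRing.ResidueField κ) w⟩
  exact Algebra.IsAlgebraic.isSepClosed (F := κ) (E := IsLocalRing.ResidueField κ)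

lemma H1_eq_zero_of_isSepClosed (κ : Type u) [Field κ] [IsSepClosed κ]
    (G : EtCoh.Ab (Spec (CommRingCat.of κ))) (y : EtCoh.H (Spec (CommRingCat.of κ)) G 1) :
    y = 0 := by
  haveI := isSepClosed_residue κ
  haveI := Groth.Agent.S0073.result κ G 1 le_rfl
  exact Subsingleton.elim _ _

include a in
/-- sheaves of sections supported at a closed point are acyclic -/
theorem acyc_Γx (F : EtCoh.Ab X) (x : X) (hx : IsClosed ({x} : Set X)) :
    Acyc X (Γx F x hx) := by
  haveI := isSepClosed_residueField a x hx
  haveI : IsClosedImmersion (X.fromSpecResidueField x) :=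
    isClosed_singleton_iff_isClosedImmersion.1 hx
  haveI : (EtCoh.push (X.fromSpecResidueField x)).PreservesEpimorphisms :=
    Groth.Agent.S6634.result _
  have hiso := Groth.Agent.Helper9.EtClosedEss.isIso_unit_of_vanishing
    (X.fromSpecResidueField x) (Γx F x hx) (isZero_Γx_of_disjoint F x hx)
  refine acyc_of_iso (asIso ((EtCoh.pullPushAdj (X.fromSpecResidueField x)).unit.app
    (Γx F x hx))).symm ?_
  apply Groth.Agent.Helper4.ClosedPtAcyc.acyc_push
  intro G' y
  exact H1_eq_zero_of_isSepClosed (X.residueField x) G' y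

end Field

end Groth.Agent.Helper6.ClPtC
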