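import Mathlib
import Groth.Prelude.Def_EtBase
import Groth.Prelude.Def_EtDual
import Groth.Prelude.Def_PBC
import Groth.Agent.Helper9.EtSectSupp
import Groth.Agent.Helper6.SuppBij
import Groth.Agent.Helper6.ClPtA
import Groth.Agent.Helper6.ClPtB

set_option autoImplicit false
set_option linter.style.haveILetI false
set_option linter.unusedSectionVars false
set_option linter.unusedVariables false
set_option linter.unusedSimpArgs false

/-!
# Shrinking étale neighbourhoods so that a section is supported over one closed point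
-/

namespace Groth.Agent.Helper6.ClPtD

open CategoryTheory CategoryTheory.Limits AlgebraicGeometry Opposite
open Groth.Agent.Helper6.ExcB Groth.Agent.Helper6.SuppBij

universe u

variable {X : Scheme.{u}}

/-- the support of a restricted section lies over the support of the section -/
theorem sectSupp_map_subset (F : EtCoh.Ab X) {W W' : X.Etale} (g : W' ⟶ W)
    (s : F.obj.obj (op W)) :
    EtShriek.sectSupp F W' (F.obj.map g.op s) ⊆ g.left.base ⁻¹' EtShriek.sectSupp F W s := by
  intro w hw V k ⟨v, hv⟩ h0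
  obtain ⟨P, p₁, p₂, p, hp, hp1, hp2⟩ := exists_fibre k g v w hv
  apply hw P p₂ ⟨p, hp2⟩
  rw [map_comp_apply, ← hp, ← map_comp_apply, h0, map_zero]

/-- the open subscheme `V` of an étale `X`-scheme, as an object of the small étale site -/
noncomputable def openObj (U : X.Etale) (V : U.left.Opens) : X.Etale :=
  haveI : Etale U.hom := U.prop
  Scheme.Etale.mk (V.ι ≫ U.hom)

/-- the inclusion -/
noncomputable def openι (U : X.Etale) (V : U.left.Opens) : openObj U V ⟶ U :=
  MorphismProperty.Over.homMk V.ι rfl trivial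

lemma openι_left (U : X.Etale) (V : U.left.Opens) : (openι U V).left = V.ι := rfl

section Lift

variable {Ω : Type u} [Field Ω] [IsSepClosed Ω] (ξ : Spec (CommRingCat.of Ω) ⟶ X)

/-- lifting a geometric point to an open neighbourhood of its image -/
theorem exists_lift_open (U : X.Etale) (V : U.left.Opens)
    (l : (Scheme.pointSmallEtale ξ).fiber.obj U)
    (hl : (show Spec (CommRingCat.of Ω) ⟶ U.left from l.left).base default ∈ V) :
    ∃ l' : (Scheme.pointSmallEtale ξ).fiber.obj (openObj U V),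
      (Scheme.pointSmallEtale ξ).fiber.map (openι U V) l' = l ∧
      V.ι.base ((show Spec (CommRingCat.of Ω) ⟶ V.toScheme from l'.left).base default) =
        (show Spec (CommRingCat.of Ω) ⟶ U.left from l.left).base default := by
  let lU : Spec (CommRingCat.of Ω) ⟶ U.left := l.left
  have hlU : lU ≫ U.hom = ξ := Over.w l
  have hr : Set.range lU.base ⊆ Set.range V.ι.base := by
    rw [Scheme.Opens.range_ι]
    rintro _ ⟨p, rfl⟩
    rw [Subsingleton.elim p default]
    exact hl
  let l₀ : Spec (CommRingCat.of Ω) ⟶ V.toScheme := IsOpenImmersion.lift V.ι lU hr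
  have hl₀ : l₀ ≫ V.ι = lU := IsOpenImmersion.lift_fac V.ι lU hr
  refine ⟨Over.homMk l₀ ?_, ?_, ?_⟩
  · show l₀ ≫ (V.ι ≫ U.hom) = ξ
    rw [← Category.assoc, hl₀, hlU]
  · apply Over.OverMorphism.ext
    exact hl₀
  · show V.ι.base (l₀.base default) = lU.base default
    rw [← hl₀]
    rfl

/-- shrinking an étale neighbourhood of a geometric point so that a given section of a sheaf
supported in closed points becomes supported over the image of the geometric point -/
theorem exists_refinement [IsLocallyNoetherian X] (F : EtCoh.Ab X)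
    (hF : ∀ x ∈ EtPBC.supp F, IsClosed ({x} : Set X))
    (U : X.Etale) (l : (Scheme.pointSmallEtale ξ).fiber.obj U) (s : F.obj.obj (op U)) :
    ∃ (W : X.Etale) (g : W ⟶ U) (lW : (Scheme.pointSmallEtale ξ).fiber.obj W),
      (Scheme.pointSmallEtale ξ).fiber.map g lW = l ∧
      EtShriek.sectSupp F W (F.obj.map g.op s) ⊆ W.hom.base ⁻¹' {ξ.base default} := by
  haveI : Etale U.hom := U.prop
  let lU : Spec (CommRingCat.of Ω) ⟶ U.left := l.left
  obtain ⟨V₀, hV₀, huV₀, -⟩ := (TopologicalSpace.Opens.isBasis_iff_nbhd.1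
    (Scheme.isBasis_affineOpens U.left)) (show lU.base default ∈ (⊤ : U.left.Opens) from trivial)
  obtain ⟨V, hV, huV⟩ : ∃ V : U.left.Opens, IsAffineOpen V ∧ lU.base default ∈ V :=
    ⟨V₀, hV₀, huV₀⟩
  obtain ⟨l₁, hl₁, hl₁'⟩ := exists_lift_open ξ U V l huV
  let W₁ := openObj U V
  let g₁ : W₁ ⟶ U := openι U V
  let s₁ := F.obj.map g₁.op s
  let T := EtShriek.sectSupp F W₁ s₁
  have hTcl : IsClosed T := Groth.Agent.Helper9.EtSectSupp.isClosed_sectSupp F W₁ s₁
  haveI : IsLocallyNoetherian U.left :=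
    @LocallyOfFiniteType.isLocallyNoetherian _ _ U.hom _ ‹IsLocallyNoetherian X›
  haveI : IsAffine V.toScheme := hV
  haveI : IsNoetherian V.toScheme := {}
  haveI : TopologicalSpace.NoetherianSpace W₁.left :=
    inferInstanceAs (TopologicalSpace.NoetherianSpace V.toScheme)
  haveI : Etale W₁.hom := W₁.prop
  haveI : LocallyQuasiFinite W₁.hom := Groth.Agent.Helper6.ClPtA.lqf_of_etale W₁.hom
  have hpt : ∀ t ∈ T, IsClosed ({t} : Set W₁.left) := by
    intro t ht
    apply Groth.Agent.Helper6.ClPtA.isClosed_singleton_of_lqf W₁.hom t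
    apply hF
    rw [Groth.Agent.Helper9.EtSectSupp.supp_eq]
    exact Set.mem_iUnion₂.2 ⟨W₁, s₁, ⟨t, ht, rfl⟩⟩
  have hfin : T.Finite :=
    Groth.Agent.Helper6.ClPtA.finite_of_isClosed_of_points_closed T hTcl hpt
  let T' : Set W₁.left := T \ (W₁.hom.base ⁻¹' {ξ.base default})
  have hT'cl : IsClosed T' := by
    have h1 : IsClosed (⋃ t ∈ T', ({t} : Set W₁.left)) :=
      (hfin.subset Set.sdiff_subset).isClosed_biUnion (fun t ht => hpt t ht.1)
    rwa [Set.biUnion_of_singleton] at h1
  let V' : W₁.left.Opens := ⟨T'ᶜ, hT'cl.isOpen_compl⟩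
  let lW₁ : Spec (CommRingCat.of Ω) ⟶ W₁.left := l₁.left
  have hlW₁ : lW₁ ≫ W₁.hom = ξ := Over.w l₁
  have hu₁ : lW₁.base default ∈ V' := by
    intro hcon
    apply hcon.2
    show W₁.hom.base (lW₁.base default) = ξ.base default
    rw [← Scheme.Hom.comp_apply, hlW₁]
  obtain ⟨l₂, hl₂, -⟩ := exists_lift_open ξ W₁ V' l₁ hu₁
  let W₂ := openObj W₁ V'
  let g₂ : W₂ ⟶ W₁ := openι W₁ V'
  refine ⟨W₂, g₂ ≫ g₁, l₂, ?_, ?_⟩
  · rw [Functor.map_comp]
    show (Scheme.pointSmallEtale ξ).fiber.map g₁ ((Scheme.pointSmallEtale ξ).fiber.map g₂ l₂) = l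
    rw [hl₂, hl₁]
  · intro w hw
    have h1 : F.obj.map (g₂ ≫ g₁).op s = F.obj.map g₂.op s₁ := (map_comp_apply F g₂ g₁ s).symm
    rw [h1] at hw
    have h2 : g₂.left.base w ∈ T := sectSupp_map_subset F g₂ s₁ hw
    have h3 : g₂.left.base w ∈ (V' : Set W₁.left) := by
      rw [← Scheme.Opens.range_ι]
      exact ⟨w, rfl⟩
    have h4 : g₂.left.base w ∈ W₁.hom.base ⁻¹' {ξ.base default} := by
      by_contra hcon
      exact h3 ⟨h2, hcon⟩
    have h5 : g₂.left ≫ W₁.hom = W₂.hom := MorphismProperty.Over.w g₂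
    show W₂.hom.base w = ξ.base default
    rw [← h5, Scheme.Hom.comp_apply]
    exact h4

end Lift

end Groth.Agent.Helper6.ClPtD
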