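import Mathlib
import Groth.Prelude.Def_EtBase
import Groth.Prelude.Def_EtDual
import Groth.Prelude.Def_PBC
import Groth.Agent.Helper9.EtStalkExact
import Groth.Agent.Helper6.ClPtC
import Groth.Agent.Helper6.ClPtD

set_option autoImplicit false
set_option linter.style.haveILetI false
set_option linter.unusedSectionVars false
set_option linter.unusedVariables false
set_option linter.unusedSimpArgs false

/-!
# Sheaves supported in closed points decompose as the coproduct of their point parts
-/

namespace Groth.Agent.Helper6.ClPtE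

open CategoryTheory CategoryTheory.Limits AlgebraicGeometry Opposite
open Groth.Agent.Helper9.EtStalkExact Groth.Agent.Helper6.ClPtC Groth.Agent.Helper4.AcycColim

universe u

variable {X : Scheme.{u}} (F : EtCoh.Ab X)

/-- closed points -/
abbrev I (X : Scheme.{u}) : Type u := {x : X // IsClosed ({x} : Set X)}

/-- the family of point parts -/
noncomputable abbrev Γ (x : I X) : EtCoh.Ab X := Γx F x.1 x.2

instance : HasCoproduct (Γ F) := inferInstance

/-- the canonical map from the coproduct of the point parts -/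
noncomputable def φ : ∐ (Γ F) ⟶ F := Sigma.desc (fun x => ιΓ F x.1 x.2)

lemma ι_φ (x : I X) : Sigma.ι (Γ F) x ≫ φ F = ιΓ F x.1 x.2 := by
  simp [φ]

attribute [local instance] preservesFilteredColimits_forget_ab ab5_ab

section Stalk

variable {Ω : Type u} [Field Ω] [IsSepClosed Ω] (ξ : Spec (CommRingCat.of Ω) ⟶ X)

lemma range_ξ : Set.range ξ.base = {ξ.base default} := Set.range_unique

/-- the point part at `x` has vanishing stalks away from `x` -/
theorem isZero_stalk_Γ (x : I X) (h : ξ.base default ≠ x.1) :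
    IsZero ((EtCoh.stalk ξ).obj (Γ F x)) := by
  haveI : IsClosedImmersion (X.fromSpecResidueField x.1) :=
    isClosed_singleton_iff_isClosedImmersion.1 x.2
  apply Groth.Agent.Helper9.EtClosedEss.isZero_stalk_of_vanishing (X.fromSpecResidueField x.1) ξ
    (Γ F x) (isZero_Γx_of_disjoint F x.1 x.2)
  rw [range_ξ, Scheme.range_fromSpecResidueField]
  simpa using h

/-- at a geometric point over a closed point `y`, every germ of a sheaf supported in closed
points comes from the point part at `y` -/
theorem stalk_ιΓ_surjective [IsLocallyNoetherian X]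
    (hF : ∀ x ∈ EtPBC.supp F, IsClosed ({x} : Set X)) (y : I X) (h : ξ.base default = y.1) :
    Function.Surjective ((EtCoh.stalk ξ).map (ιΓ F y.1 y.2)) := by
  intro t
  obtain ⟨U, l, s, rfl⟩ := (Scheme.pointSmallEtale ξ).toPresheafFiber_jointly_surjective
    (P := F.obj) t
  obtain ⟨W, g, lW, hl, hsupp⟩ := Groth.Agent.Helper6.ClPtD.exists_refinement ξ F hF U l s
  have hsupp' : EtShriek.sectSupp F W (F.obj.map g.op s) ⊆
      W.hom.base ⁻¹' (Set.range (Uo y.1 y.2).ι.base)ᶜ := by
    rw [range_Uo, compl_compl, ← h]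
    exact hsupp
  have h0 := Groth.Agent.Helper6.ClPtB.map_proj_eq_zero (Uo y.1 y.2).ι F W _ hsupp'
  obtain ⟨s', hs'⟩ := Groth.Agent.Helper6.ClPtB.exists_secSupp_section (Uo y.1 y.2).ι F W _ h0
  refine ⟨(Scheme.pointSmallEtale ξ).toPresheafFiber W lW (Γ F y).obj s', ?_⟩
  have e1 := (Scheme.pointSmallEtale ξ).toPresheafFiber_w_apply g lW F.obj s
  rw [hl] at e1
  rw [← e1, ← hs']
  exact (Scheme.pointSmallEtale ξ).toPresheafFiber_naturality_apply (ιΓ F y.1 y.2).hom W lW s'

end Stalk

section Iso

variable [IsLocallyNoetherian X] (hF : ∀ x ∈ EtPBC.supp F, IsClosed ({x} : Set X))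

include hF in
theorem epi_φ : Epi (φ F) := by
  rw [epi_iff_stalks]
  intro Ω _ _ ξ t
  by_cases hy : IsClosed ({ξ.base default} : Set X)
  · obtain ⟨t', ht'⟩ := stalk_ιΓ_surjective F ξ hF ⟨ξ.base default, hy⟩ rfl t
    refine ⟨(EtCoh.stalk ξ).map (Sigma.ι (Γ F) ⟨ξ.base default, hy⟩) t', ?_⟩
    rw [← ht', ← ι_φ F ⟨ξ.base default, hy⟩, Functor.map_comp]
    rfl
  · have hz : IsZero ((EtCoh.stalk ξ).obj F) := by
      by_contra hnz
      apply hy
      apply hF
      exact ⟨Ω, inferInstance, inferInstance, ξ, range_ξ ξ, hnz⟩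
    haveI := AddCommGrpCat.subsingleton_of_isZero hz
    exact ⟨0, Subsingleton.elim _ _⟩

theorem mono_φ : Mono (φ F) := by
  rw [mono_iff_stalks]
  intro Ω _ _ ξ
  haveI : (EtCoh.stalk ξ).IsLeftAdjoint :=
    inferInstanceAs ((Scheme.pointSmallEtale ξ).sheafFiber
      (A := AddCommGrpCat.{u + 1})).IsLeftAdjoint
  have hc : IsColimit (Cofan.mk _ fun x : I X => (EtCoh.stalk ξ).map (Sigma.ι (Γ F) x) :
      Cofan fun x => (EtCoh.stalk ξ).obj (Γ F x)) :=
    isColimitOfHasCoproductOfPreservesColimit (EtCoh.stalk ξ) (Γ F)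
  rw [injective_iff_map_eq_zero]
  intro a ha
  by_cases hy : IsClosed ({ξ.base default} : Set X)
  · obtain ⟨r, hr⟩ := Groth.Agent.Helper6.ClPtA.exists_section_inj _ _ hc ⟨ξ.base default, hy⟩
      (fun x hx => isZero_stalk_Γ F ξ x (fun e => hx (Subtype.ext e.symm)))
    have ha' : a = (EtCoh.stalk ξ).map (Sigma.ι (Γ F) ⟨ξ.base default, hy⟩) (r a) := by
      have := ConcreteCategory.congr_hom hr a
      exact this.symm
    have h1 : (EtCoh.stalk ξ).map (ιΓ F (ξ.base default) hy) (r a) = 0 := by
      rw [← ι_φ F ⟨ξ.base default, hy⟩, Functor.map_comp]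
      rw [ha'] at ha
      exact ha
    have hinj : Function.Injective ((EtCoh.stalk ξ).map (ιΓ F (ξ.base default) hy)) :=
      (AddCommGrpCat.mono_iff_injective _).1 inferInstance
    have h2 : r a = 0 := hinj (h1.trans (map_zero _).symm)
    rw [ha', h2]
    exact map_zero _
  · have hz : IsZero ((EtCoh.stalk ξ).obj (∐ Γ F)) :=
      Groth.Agent.Helper6.ClPtA.isZero_pt _ _ hc
        (fun x => isZero_stalk_Γ F ξ x (fun e => hy (e ▸ x.2)))
    haveI := AddCommGrpCat.subsingleton_of_isZero hz
    exact Subsingleton.elim _ _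

include hF in
theorem isIso_φ : IsIso (φ F) := by
  haveI := epi_φ F hF
  haveI := mono_φ F
  exact isIso_of_mono_of_epi _

end Iso

/-- abelian sheaves supported in closed points of a scheme of finite type over a separably
closed field are acyclic -/
theorem acyc_of_supp {K : Type u} [Field K] [IsSepClosed K] (a : X ⟶ Spec (CommRingCat.of K))
    [LocallyOfFiniteType a] [QuasiCompact a]
    (hF : ∀ x ∈ EtPBC.supp F, IsClosed ({x} : Set X)) : Acyc X F := by
  haveI : IsLocallyNoetherian X := LocallyOfFiniteType.isLocallyNoetherian a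
  haveI : CompactSpace X := QuasiCompact.compactSpace_of_compactSpace a
  haveI : QuasiSeparatedSpace X := inferInstance
  have h1 : Acyc X (∐ Γ F) :=
    acyc_coproduct (Γ F) (fun x => acyc_Γx a F x.1 x.2) (Cofan.mk _ (Sigma.ι _))
      (coproductIsCoproduct _)
  haveI := isIso_φ F hF
  exact acyc_of_iso (asIso (φ F)) h1

theorem main {K : Type u} [Field K] [IsSepClosed K] (a : X ⟶ Spec (CommRingCat.of K))
    [LocallyOfFiniteType a] [QuasiCompact a]
    (hF : ∀ x ∈ EtPBC.supp F, IsClosed ({x} : Set X)) (q : ℕ) (hq : 0 < q) :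
    Subsingleton (EtCoh.H X F q) := by
  obtain ⟨n, rfl⟩ : ∃ n, q = n + 1 := ⟨q - 1, by omega⟩
  have h := acyc_of_supp F a hF
  exact ⟨fun s t => (h n s).trans (h n t).symm⟩

end Groth.Agent.Helper6.ClPtE
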