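import Mathlib
import Groth.Prelude.Def_EtBase
import Groth.Prelude.Def_PBC

set_option autoImplicit false
set_option linter.style.haveILetI false
set_option linter.unusedSectionVars false
set_option linter.unusedVariables false
set_option linter.unusedSimpArgs false

/-!
# In dimension at most one, a point admitting a proper generization is closed
-/

namespace Groth.Agent.Helper6.ClPtF

open CategoryTheory CategoryTheory.Limits AlgebraicGeometry Opposite TopologicalSpace

universe u

/-- the irreducible closed subset `closure {p}` -/
def cl {α : Type*} [TopologicalSpace α] (p : α) : IrreducibleCloseds α :=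
  ⟨closure {p}, isIrreducible_singleton.closure, isClosed_closure⟩

lemma cl_le_iff {α : Type*} [TopologicalSpace α] (p q : α) : cl p ≤ cl q ↔ q ⤳ p := by
  rw [specializes_iff_closure_subset]
  rfl

lemma cl_lt {α : Type*} [TopologicalSpace α] [T0Space α] (p q : α) (h : q ⤳ p) (hne : q ≠ p) :
    cl p < cl q := by
  refine lt_of_le_of_ne ((cl_le_iff p q).2 h) ?_
  intro e
  have h' : p ⤳ q := (cl_le_iff q p).1 (le_of_eq e.symm)
  exact hne (h.antisymm h').eq

theorem isClosed_singleton_of_dim_le_one {α : Type*} [TopologicalSpace α] [T0Space α]
    (hdim : topologicalKrullDim α ≤ 1) (x y : α) (hyx : y ⤳ x) (hne : y ≠ x) :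
    IsClosed ({x} : Set α) := by
  by_contra hcl
  have : ∃ z, x ⤳ z ∧ z ≠ x := by
    by_contra hcon
    push Not at hcon
    apply hcl
    have : closure ({x} : Set α) = {x} := by
      apply Set.Subset.antisymm
      · intro z hz
        have : x ⤳ z := specializes_iff_mem_closure.2 hz
        exact hcon z this
      · exact subset_closure
    rw [← this]
    exact isClosed_closure
  obtain ⟨z, hxz, hzne⟩ := this
  let s : LTSeries (IrreducibleCloseds α) :=
    ((RelSeries.singleton _ (cl z)).snoc (cl x) (cl_lt z x hxz hzne.symm)).snoc (cl y)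
      (by
        rw [RelSeries.last_snoc]
        exact cl_lt x y hyx hne)
  have h2 : (s.length : WithBot ℕ∞) ≤ topologicalKrullDim α := Order.LTSeries.length_le_krullDim s
  have h3 : s.length = 2 := by
    simp [s]
  rw [h3] at h2
  have h4 : ((2 : ℕ) : WithBot ℕ∞) ≤ 1 := h2.trans hdim
  norm_cast at h4

end Groth.Agent.Helper6.ClPtF
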