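import Mathlib

set_option autoImplicit false
set_option linter.style.haveILetI false
set_option linter.unusedSectionVars false
set_option linter.unusedVariables false
set_option linter.unusedSimpArgs false

/-!
# Morphisms with `Ext`-acyclic kernel and cokernel induce isomorphisms on higher `Ext`
-/

namespace Groth.Agent.Helper6.ExtKC

open CategoryTheory CategoryTheory.Limits CategoryTheory.Abelian

universe w v u

variable {𝒜 : Type u} [Category.{v} 𝒜] [Abelian 𝒜] [HasExt.{w} 𝒜]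

section SES

variable {S : ShortComplex 𝒜} (hS : S.ShortExact) (X : 𝒜)

include hS in
lemma g_injective (n : ℕ) (h0 : ∀ x : Ext X S.X₁ n, x = 0) :
    Function.Injective (fun x : Ext X S.X₂ n => x.comp (Ext.mk₀ S.g) (add_zero n)) := by
  have : Function.Injective ((Ext.mk₀ S.g).postcomp X (add_zero n)) := by
    rw [injective_iff_map_eq_zero]
    intro x hx
    obtain ⟨x₁, rfl⟩ := Ext.covariant_sequence_exact₂ X hS x hx
    rw [h0 x₁, Ext.zero_comp]
  exact this

include hS in
lemma g_surjective (n : ℕ) (h1 : ∀ x : Ext X S.X₁ (n + 1), x = 0) :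
    Function.Surjective (fun x : Ext X S.X₂ n => x.comp (Ext.mk₀ S.g) (add_zero n)) := by
  intro x₃
  exact Ext.covariant_sequence_exact₃ X hS x₃ rfl (h1 _)

include hS in
lemma f_surjective (n : ℕ) (h0 : ∀ x : Ext X S.X₃ n, x = 0) :
    Function.Surjective (fun x : Ext X S.X₁ n => x.comp (Ext.mk₀ S.f) (add_zero n)) := by
  intro x₂
  exact Ext.covariant_sequence_exact₂ X hS x₂ (h0 _)

include hS in
lemma f_injective (n : ℕ) (h0 : ∀ x : Ext X S.X₃ n, x = 0) :
    Function.Injective (fun x : Ext X S.X₁ (n + 1) =>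
      x.comp (Ext.mk₀ S.f) (add_zero (n + 1))) := by
  have : Function.Injective ((Ext.mk₀ S.f).postcomp X (add_zero (n + 1))) := by
    rw [injective_iff_map_eq_zero]
    intro x hx
    obtain ⟨x₃, rfl⟩ := Ext.covariant_sequence_exact₁ X hS x hx rfl
    rw [h0 x₃, Ext.zero_comp]
  exact this

end SES

section KC

variable {F G : 𝒜} (φ : F ⟶ G)

/-- the short complex `0 → ker φ → F → im φ → 0` -/
noncomputable def ses₁ : ShortComplex 𝒜 :=
  ShortComplex.mk (kernel.ι φ) (Abelian.factorThruImage φ) (by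
    rw [← cancel_mono (Abelian.image.ι φ), Category.assoc, Abelian.image.fac, kernel.condition,
      zero_comp])

/-- the short complex `0 → im φ → G → coker φ → 0` -/
noncomputable def ses₂ : ShortComplex 𝒜 :=
  ShortComplex.mk (Abelian.image.ι φ) (cokernel.π φ) (kernel.condition _)

lemma ses₁_shortExact : (ses₁ φ).ShortExact := by
  haveI : Mono (ses₁ φ).f := by dsimp [ses₁]; infer_instance
  haveI : Epi (ses₁ φ).g := by dsimp [ses₁]; infer_instance
  refine ShortComplex.ShortExact.mk (ShortComplex.exact_of_f_is_kernel _ ?_)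
  exact isKernelOfComp (Abelian.image.ι φ) φ (kernelIsKernel φ) (ses₁ φ).zero
    (Abelian.image.fac φ)

lemma ses₂_shortExact : (ses₂ φ).ShortExact := by
  haveI : Mono (ses₂ φ).f := by dsimp [ses₂]; infer_instance
  haveI : Epi (ses₂ φ).g := by dsimp [ses₂]; infer_instance
  refine ShortComplex.ShortExact.mk (ShortComplex.exact_of_f_is_kernel _ ?_)
  exact kernelIsKernel (cokernel.π φ)

variable (X : 𝒜)

lemma comp_eq (n : ℕ) (x : Ext X F n) :
    x.comp (Ext.mk₀ φ) (add_zero n) =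
      (x.comp (Ext.mk₀ (Abelian.factorThruImage φ)) (add_zero n)).comp
        (Ext.mk₀ (Abelian.image.ι φ)) (add_zero n) := by
  rw [Ext.comp_assoc_of_third_deg_zero, Ext.mk₀_comp_mk₀, Abelian.image.fac]

/-- `φ` induces a surjection on `Ext^n` when `Ext^{n+1}(X, ker φ) = 0 = Ext^n(X, coker φ)` -/
theorem surjective (n : ℕ) (hK : ∀ x : Ext X (kernel φ) (n + 1), x = 0)
    (hQ : ∀ x : Ext X (cokernel φ) n, x = 0) :
    Function.Surjective (fun x : Ext X F n => x.comp (Ext.mk₀ φ) (add_zero n)) := by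
  intro y
  obtain ⟨z, hz⟩ := f_surjective (ses₂_shortExact φ) X n hQ y
  obtain ⟨x, hx⟩ := g_surjective (ses₁_shortExact φ) X n hK z
  refine ⟨x, ?_⟩
  dsimp only at hx hz ⊢
  rw [comp_eq]
  dsimp [ses₁, ses₂] at hx hz
  rw [hx, hz]

/-- `φ` induces an injection on `Ext^{n+1}` when `Ext^{n+1}(X, ker φ) = 0 = Ext^n(X, coker φ)` -/
theorem injective (n : ℕ) (hK : ∀ x : Ext X (kernel φ) (n + 1), x = 0)
    (hQ : ∀ x : Ext X (cokernel φ) n, x = 0) :
    Function.Injective (fun x : Ext X F (n + 1) => x.comp (Ext.mk₀ φ) (add_zero (n + 1))) := by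
  intro x y hxy
  have hxy' : x.comp (Ext.mk₀ φ) (add_zero (n + 1)) = y.comp (Ext.mk₀ φ) (add_zero (n + 1)) :=
    hxy
  rw [comp_eq φ X (n + 1) x, comp_eq φ X (n + 1) y] at hxy'
  have h1 : x.comp (Ext.mk₀ (Abelian.factorThruImage φ)) (add_zero (n + 1)) =
      y.comp (Ext.mk₀ (Abelian.factorThruImage φ)) (add_zero (n + 1)) :=
    f_injective (ses₂_shortExact φ) X n hQ hxy'
  exact g_injective (ses₁_shortExact φ) X (n + 1) hK h1

/-- If `ker φ` and `coker φ` are `Ext(X, -)`-acyclic, then `φ` induces bijections on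
`Ext^q(X, -)` for `q ≥ 2`. -/
theorem bijective (n : ℕ) (hK : ∀ (m : ℕ) (x : Ext X (kernel φ) (m + 1)), x = 0)
    (hQ : ∀ (m : ℕ) (x : Ext X (cokernel φ) (m + 1)), x = 0) :
    Function.Bijective (fun x : Ext X F (n + 2) => x.comp (Ext.mk₀ φ) (add_zero (n + 2))) :=
  ⟨injective φ X (n + 1) (hK _) (hQ _), surjective φ X (n + 2) (hK _) (hQ _)⟩

/-- If `ker φ` is `Ext(X, -)`-acyclic and `φ` is an epimorphism, then `φ` induces bijections on
`Ext^q(X, -)` for `q ≥ 1`. -/
theorem bijective_of_epi [Epi φ] (n : ℕ)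
    (hK : ∀ (m : ℕ) (x : Ext X (kernel φ) (m + 1)), x = 0) :
    Function.Bijective (fun x : Ext X F (n + 1) => x.comp (Ext.mk₀ φ) (add_zero (n + 1))) := by
  have hQ : ∀ (m : ℕ) (x : Ext X (cokernel φ) m), x = 0 := by
    intro m x
    have hz : IsZero (cokernel φ) := isZero_cokernel_of_epi φ
    have h1 : x = x.comp (Ext.mk₀ (𝟙 (cokernel φ))) (add_zero m) := by simp
    rw [h1, hz.eq_of_src (𝟙 _) 0, Ext.mk₀_zero, Ext.comp_zero]
  exact ⟨injective φ X n (hK _) (hQ _), surjective φ X (n + 1) (hK _) (hQ _)⟩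

end KC

end Groth.Agent.Helper6.ExtKC
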