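import Mathlib
import Groth.Prelude.Def_EtBase
import Groth.Prelude.Def_PBC
import Groth.Agent.Helper9.EtStalkExact
import Groth.Agent.Helper6.ClPtE
import Groth.Agent.Helper6.ClPtF
import Groth.Agent.Helper6.ExtKC

set_option autoImplicit false
set_option linter.style.haveILetI false
set_option linter.unusedSectionVars false
set_option linter.unusedVariables false
set_option linter.unusedSimpArgs false

/-!
# Morphisms of sheaves on a curve which are isomorphisms at the maximal points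
-/

namespace Groth.Agent.Helper6.ClPtG

open CategoryTheory CategoryTheory.Limits AlgebraicGeometry Opposite
open Groth.Agent.Helper9.EtStalkExact Groth.Agent.Helper4.AcycColim

universe u

variable {X : Scheme.{u}} {F G : EtCoh.Ab X} (φ : F ⟶ G)

section Stalk

variable {Ω : Type u} [Field Ω] [IsSepClosed Ω] (ξ : Spec (CommRingCat.of Ω) ⟶ X)

lemma isZero_stalk_kernel (h : IsIso ((EtCoh.stalk ξ).map φ)) :
    IsZero ((EtCoh.stalk ξ).obj (kernel φ)) := by
  refine IsZero.of_iso ?_ (PreservesKernel.iso (EtCoh.stalk ξ) φ)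
  exact isZero_kernel_of_mono _

lemma isZero_stalk_cokernel (h : IsIso ((EtCoh.stalk ξ).map φ)) :
    IsZero ((EtCoh.stalk ξ).obj (cokernel φ)) := by
  refine IsZero.of_iso ?_ (PreservesCokernel.iso (EtCoh.stalk ξ) φ)
  exact isZero_cokernel_of_epi _

end Stalk

/-- a point in the support of a sheaf vanishing at the maximal points of a scheme of dimension
`≤ 1` is closed -/
lemma isClosed_of_mem_supp (hdim : topologicalKrullDim X ≤ 1) (K : EtCoh.Ab X)
    (hgen : ∀ (Ω : Type u) [Field Ω] [IsSepClosed Ω] (ξ : Spec (CommRingCat.of Ω) ⟶ X),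
      (∀ x ∈ Set.range ξ.base, ∀ y : X, y ⤳ x → y = x) → IsZero ((EtCoh.stalk ξ).obj K))
    (x : X) (hx : x ∈ EtPBC.supp K) : IsClosed ({x} : Set X) := by
  obtain ⟨Ω, _, _, ξ, hξ, hnz⟩ := hx
  have h1 : ¬ (∀ x' ∈ Set.range ξ.base, ∀ y : X, y ⤳ x' → y = x') := fun h => hnz (hgen Ω ξ h)
  push Not at h1
  obtain ⟨x', hx', y, hy, hne⟩ := h1
  have hx'' : x' = x := by
    have : x' ∈ Set.range ξ := hx'
    rw [hξ] at this
    exact this
  subst hx''
  exact Groth.Agent.Helper6.ClPtF.isClosed_singleton_of_dim_le_one hdim x' y hy hne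

variable {K : Type u} [Field K] [IsSepClosed K] (a : X ⟶ Spec (CommRingCat.of K))
  [LocallyOfFiniteType a] [QuasiCompact a]

include a in
theorem acyc_kernel (hdim : topologicalKrullDim X ≤ 1)
    (hgen : ∀ (Ω : Type u) [Field Ω] [IsSepClosed Ω] (ξ : Spec (CommRingCat.of Ω) ⟶ X),
      (∀ x ∈ Set.range ξ.base, ∀ y : X, y ⤳ x → y = x) → IsIso ((EtCoh.stalk ξ).map φ)) :
    Acyc X (kernel φ) :=
  Groth.Agent.Helper6.ClPtE.acyc_of_supp _ a
    (isClosed_of_mem_supp hdim _ (fun Ω _ _ ξ h => isZero_stalk_kernel φ ξ (hgen Ω ξ h)))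

include a in
theorem acyc_cokernel (hdim : topologicalKrullDim X ≤ 1)
    (hgen : ∀ (Ω : Type u) [Field Ω] [IsSepClosed Ω] (ξ : Spec (CommRingCat.of Ω) ⟶ X),
      (∀ x ∈ Set.range ξ.base, ∀ y : X, y ⤳ x → y = x) → IsIso ((EtCoh.stalk ξ).map φ)) :
    Acyc X (cokernel φ) :=
  Groth.Agent.Helper6.ClPtE.acyc_of_supp _ a
    (isClosed_of_mem_supp hdim _ (fun Ω _ _ ξ h => isZero_stalk_cokernel φ ξ (hgen Ω ξ h)))

include a in
/-- `H^q(φ)` is bijective for `q ≥ 2` -/
theorem bijective_H (hdim : topologicalKrullDim X ≤ 1)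
    (hgen : ∀ (Ω : Type u) [Field Ω] [IsSepClosed Ω] (ξ : Spec (CommRingCat.of Ω) ⟶ X),
      (∀ x ∈ Set.range ξ.base, ∀ y : X, y ⤳ x → y = x) → IsIso ((EtCoh.stalk ξ).map φ))
    (n : ℕ) : Function.Bijective (Sheaf.H.map φ (n + 2)) :=
  Groth.Agent.Helper6.ExtKC.bijective φ _ n (acyc_kernel φ a hdim hgen)
    (acyc_cokernel φ a hdim hgen)

include a in
/-- `H^q(φ)` is bijective for `q ≥ 1` when `φ` is an epimorphism -/
theorem bijective_H_of_epi [Epi φ] (hdim : topologicalKrullDim X ≤ 1)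
    (hgen : ∀ (Ω : Type u) [Field Ω] [IsSepClosed Ω] (ξ : Spec (CommRingCat.of Ω) ⟶ X),
      (∀ x ∈ Set.range ξ.base, ∀ y : X, y ⤳ x → y = x) → IsIso ((EtCoh.stalk ξ).map φ))
    (n : ℕ) : Function.Bijective (Sheaf.H.map φ (n + 1)) :=
  Groth.Agent.Helper6.ExtKC.bijective_of_epi φ _ n (acyc_kernel φ a hdim hgen)

end Groth.Agent.Helper6.ClPtG
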