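import Mathlib
import Groth.Agent.Helper6.OpenSub5
import Groth.Agent.Helper6.LocQ7

/-!
# Helper6: closed substacks of reduced algebraic stacks are determined by their points
-/

set_option autoImplicit false
set_option linter.style.haveILetI false
set_option linter.unusedVariables false
universe u

namespace Groth.Agent.Helper6.ClosedSub1
open CategoryTheory Functor FibCat Limits AlgebraicGeometry Opposite
open Groth.Agent.Helper3 Stk Groth.Agent.Helper6.OfPsh Groth.Agent.Helper6.OfPshHom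
open Groth.Agent.Helper6.FpTools Groth.Agent.Helper6.OfPshFp Groth.Agent.Helper6.AlgStRep
open Groth.Agent.Helper6.AlgStEquiv Groth.Agent.Helper6.AlgStInv Groth.Agent.Helper6.AlgStPsh
open Groth.Agent.Helper6.DiagRed Groth.Agent.Helper6.RepDiag Groth.Agent.Helper6.RepComp
open Groth.Agent.Helper6.DiagRep Groth.Agent.Helper6.AlgStPts Groth.Agent.Helper6.StPts
open Groth.Agent.Helper6.SmLoc Groth.Agent.Helper6.ChartOver Groth.Agent.Helper6.StTop
open Groth.Agent.Helper6.QcMor2 Groth.Agent.Helper6.SpAtlas Groth.Agent.Helper4.SDClasses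
open Groth.Agent.Helper6.Descent1 Groth.Agent.Helper6.Descent2 Groth.Agent.Helper6.LocQ0
open Groth.Agent.Helper6.LocQ1 Groth.Agent.Helper6.LocQ2 Groth.Agent.Helper6.AlgStBC
open Groth.Agent.Helper6.OverRep Groth.Agent.Helper6.LocQ3 Groth.Agent.Helper6.LocQ4
open Groth.Agent.Helper6.FlatST Groth.Agent.Helper6.DiagLft Groth.Agent.Helper6.ToSpace
open Groth.Agent.Helper6.LocQ5 Groth.Agent.Helper6.OpenSub1 Groth.Agent.Helper6.OpenSub2
open Groth.Agent.Helper6.OpenSub3 Groth.Agent.Helper6.OpenSub4 Groth.Agent.Helper6.OpenSub5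
open Groth.Agent.Helper6.LocQ7 Groth.Agent.Helper6.LocQ10
open AlgSp


variable {S : Scheme.{u}} {𝒳 𝒴 : AlgSt.Cat S}

/-- a strictly full substack is a local condition on objects -/
theorem substack_local (J : GrothendieckTopology (Over S)) (h𝒳 : Stk.IsStack J 𝒳) (Q : 𝒳.obj → Prop)
    (hQi : ObjectProperty.IsClosedUnderIsomorphisms Q) (hQ : Stk.IsStack J (AlgSt.fullSub 𝒳 Q))
    {U : Over S} (R : Sieve U) (hR : R ∈ J U) (X : overCat U ⥤ᵇ 𝒳)
    (h : ∀ a : (Stk.sieveCat R).obj, Q (X.obj ((Stk.sieveIncl R).obj a))) (b : Over U) :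
    Q (X.obj b) := by
  let D : Stk.sieveCat R ⥤ᵇ AlgSt.fullSub 𝒳 Q :=
    liftSub Q (BasedFunctor.comp (Stk.sieveIncl R) X) h
  haveI : (Stk.resSieve R (AlgSt.fullSub 𝒳 Q)).IsEquivalence := hQ.2 R hR
  obtain ⟨X', ⟨ε⟩⟩ := Functor.EssSurj.mem_essImage (F := Stk.resSieve R (AlgSt.fullSub 𝒳 Q)) D
  have ε' : (Stk.resSieve R 𝒳).obj (BasedFunctor.comp X' (AlgSt.subIncl 𝒳 Q)) ≅
      (Stk.resSieve R 𝒳).obj X :=
    whiskerRightIso' ε (AlgSt.subIncl 𝒳 Q)
  haveI : (Stk.resSieve R 𝒳).IsEquivalence := h𝒳.2 R hR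
  let θ : BasedFunctor.comp X' (AlgSt.subIncl 𝒳 Q) ≅ X := (Stk.resSieve R 𝒳).preimageIso ε'
  haveI := hQi
  exact ObjectProperty.prop_of_iso Q (appIso θ b) (X'.obj b).property

/-- if the base change of the inclusion to a chart is an isomorphism, the chart lands in `Q` -/
theorem lands_of_isIso (Q : 𝒳.obj → Prop) (hQi : ObjectProperty.IsClosedUnderIsomorphisms Q)
    {U U' : Over S} (X : overCat U ⥤ᵇ 𝒳) (c' : U' ⟶ U)
    (E : overCat U' ⥤ᵇ fp X (AlgSt.subIncl 𝒳 Q))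
    (κ : BasedFunctor.comp E (fpFst X (AlgSt.subIncl 𝒳 Q)) ≅ AlgSt.overMap c') [IsIso c'.left]
    (b : Over U) : Q (X.obj b) := by
  have hs : inv c'.left ≫ U'.hom = U.hom := by
    rw [IsIso.inv_comp_eq]
    exact (Over.w c').symm
  let s : U ⟶ U' := Over.homMk (inv c'.left) hs
  have hsc : s ≫ c' = 𝟙 U := by
    apply Over.OverMorphism.ext
    exact IsIso.inv_hom_id c'.left
  let a₀ : Over U' := (AlgSt.overMap s).obj b
  let x'' : (AlgSt.fullSub 𝒳 Q).obj := (fpSnd X (AlgSt.subIncl 𝒳 Q)).obj (E.obj a₀)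
  have i1 : X.obj ((fpFst X (AlgSt.subIncl 𝒳 Q)).obj (E.obj a₀)) ≅ x''.obj :=
    appIso (fpIso X (AlgSt.subIncl 𝒳 Q)) (E.obj a₀)
  have i2 : (fpFst X (AlgSt.subIncl 𝒳 Q)).obj (E.obj a₀) ≅ (AlgSt.overMap c').obj a₀ :=
    appIso κ a₀
  have i3 : (AlgSt.overMap c').obj a₀ ≅ b :=
    Over.isoMk (Iso.refl _) (by
      change 𝟙 _ ≫ b.hom = (b.hom ≫ s) ≫ c'
      rw [Category.id_comp, Category.assoc, hsc, Category.comp_id])
  have i : x''.obj ≅ X.obj b := i1.symm ≪≫ X.toFunctor.mapIso (i2 ≪≫ i3)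
  haveI := hQi
  exact ObjectProperty.prop_of_iso Q i x''.property

/-- a chart all of whose points lie in the substack has surjective base change -/
theorem surjective_of_points (h𝒳 : IsFibGrpd 𝒳.p) (Q : 𝒳.obj → Prop)
    (hfull : IsFibGrpd (AlgSt.fullSub 𝒳 Q).p)
    {U U' : Over S} (X : overCat U ⥤ᵇ 𝒳) (c' : U' ⟶ U)
    (E : overCat U' ⥤ᵇ fp X (AlgSt.subIncl 𝒳 Q)) (hE : IsEquivOver E)
    (κ : BasedFunctor.comp E (fpFst X (AlgSt.subIncl 𝒳 Q)) ≅ AlgSt.overMap c')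
    (hpts : ∀ q : AlgSt.Points (overCat U),
      AlgSt.Points.map X q ∈ Set.range (AlgSt.Points.map (AlgSt.subIncl 𝒳 Q))) :
    Function.Surjective c'.left := by
  intro t
  obtain ⟨r, hr⟩ := hpts (chartPt U t)
  obtain ⟨w, hw1, -⟩ := exists_points_fp hfull h𝒳 (isFibGrpd_overCat U) (AlgSt.subIncl 𝒳 Q) X
    (chartPt U t) r hr.symm
  obtain ⟨w', rfl⟩ := points_map_surjective_of_isEquivOver E hE w
  obtain ⟨t', rfl⟩ := (chartPt_bijective U').2 w'
  refine ⟨t', (chartPt_bijective U).1 ?_⟩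
  rw [← hw1, ← points_map_overMap, ← points_map_comp, points_map_congr κ]

set_option backward.isDefEq.respectTransparency.types false in
/-- a functor from a reduced algebraic stack whose points land in a closed substack factors
through it -/
theorem lands_of_closed (h𝒳 : AlgSt.IsAlgStack Scheme.fppfPrecoverage 𝒳)
    (h𝒴 : AlgSt.IsAlgStack Scheme.fppfPrecoverage 𝒴)
    (hred : AlgSt.SmoothLocally (fun X => IsReduced X) 𝒴)
    (Q : 𝒳.obj → Prop) (hQ : AlgSt.IsClosedSubstack 𝒳 Q Scheme.fppfPrecoverage) (f : 𝒴 ⥤ᵇ 𝒳)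
    (hsub : Set.range (AlgSt.Points.map f) ⊆ Set.range (AlgSt.Points.map (AlgSt.subIncl 𝒳 Q)))
    (y : 𝒴.obj) : Q (f.obj y) := by
  have hX : IsFibGrpd 𝒳.p := h𝒳.isStack.1
  have hY : IsFibGrpd 𝒴.p := h𝒴.isStack.1
  have hfull : IsFibGrpd (AlgSt.fullSub 𝒳 Q).p := hQ.2.1.isStack.1
  obtain ⟨W₀, w, hw₁, hw₂⟩ := h𝒴.atlas
  haveI : IsReduced W₀.left := hred W₀ w hw₁
  -- the atlas lands in `Q`
  have hatlas : ∀ b : Over W₀, Q ((BasedFunctor.comp w f).obj b) := by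
    obtain ⟨U', c', E, hE, hc', ⟨κ⟩⟩ :=
      rep_scheme_chart @IsClosedImmersion (AlgSt.subIncl 𝒳 Q) hQ.2.2 (BasedFunctor.comp w f)
    haveI : IsClosedImmersion c'.left := hc'
    haveI : Surjective c'.left := ⟨surjective_of_points hX Q hfull _ c' E hE κ (fun q => by
      rw [points_map_comp]
      exact hsub ⟨_, rfl⟩)⟩
    haveI : IsIso c'.left := isIso_of_isClosedImmersion_of_surjective c'.left
    exact lands_of_isIso Q hQ.1 _ c' E κ
  -- an arbitrary object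
  let U : Over S := 𝒴.p.obj y
  haveI := TwoYoneda.evalAtId_isEquivalence_of_isFibGrpd (𝒳 := 𝒴) U hY
  obtain ⟨Y, ⟨j⟩⟩ := Functor.EssSurj.mem_essImage (F := FibCat.evalAtId 𝒴 U) ⟨y, rfl⟩
  let j' : Y.obj (Over.mk (𝟙 U)) ≅ y := (Functor.Fiber.fiberInclusion).mapIso j
  have hW₀ := isAlgStack_overCat W₀
  obtain ⟨R, hR, hlift⟩ := local_lift_locQ hW₀ h𝒴 w
    (locQ_of_rep_good @Flat good_flat (fun g hg => by haveI := hg; infer_instance) hW₀ h𝒴 w
      (repByAlgSpWith_mono smooth_le_flat hw₁))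
    (locQ_of_rep_good @LocallyOfFinitePresentation good_lfp
      (fun g hg => by haveI := hg; infer_instance) hW₀ h𝒴 w
      (repByAlgSpWith_mono smooth_le_lfp hw₁))
    (isSurjective_of_rep_surj (isFibGrpd_overCat W₀) hY w hw₂) U Y
  have key := substack_local _ h𝒳.isStack Q hQ.1 hQ.2.1.isStack R hR (BasedFunctor.comp Y f)
    (fun a => by
      obtain ⟨z', ⟨ι⟩⟩ := hlift a.obj.hom a.property
      have i1 : w.obj (z'.obj (Over.mk (𝟙 a.obj.left))) ≅
          Y.obj ((AlgSt.overMap a.obj.hom).obj (Over.mk (𝟙 a.obj.left))) :=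
        appIso ι (Over.mk (𝟙 a.obj.left))
      have i2 : (AlgSt.overMap a.obj.hom).obj (Over.mk (𝟙 a.obj.left)) ≅ a.obj :=
        Over.isoMk (Iso.refl _) (by
          change 𝟙 _ ≫ a.obj.hom = 𝟙 _ ≫ a.obj.hom
          rfl)
      haveI := hQ.1
      exact ObjectProperty.prop_of_iso Q (f.toFunctor.mapIso (i1 ≪≫ Y.toFunctor.mapIso i2))
        (hatlas _))
    (Over.mk (𝟙 U))
  haveI := hQ.1
  exact ObjectProperty.prop_of_iso Q (f.toFunctor.mapIso j') key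

/-- S12865 -/
theorem closedSubstack_eq_of_reduced (h𝒳 : AlgSt.IsAlgStack Scheme.fppfPrecoverage 𝒳)
    (hred : AlgSt.SmoothLocally (fun X => IsReduced X) 𝒳)
    (Q : 𝒳.obj → Prop) (hQ : AlgSt.IsClosedSubstack 𝒳 Q Scheme.fppfPrecoverage)
    (hpts : Set.range (AlgSt.Points.map (AlgSt.subIncl 𝒳 Q)) = Set.univ) (y : 𝒳.obj) : Q y :=
  lands_of_closed h𝒳 h𝒳 hred Q hQ (BasedFunctor.id 𝒳) (by rw [hpts]; exact Set.subset_univ _) y

/-- S12866 -/
theorem forall_mem_closedSubstack_iff (h𝒳 : AlgSt.IsAlgStack Scheme.fppfPrecoverage 𝒳)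
    (h𝒴 : AlgSt.IsAlgStack Scheme.fppfPrecoverage 𝒴)
    (hred : AlgSt.SmoothLocally (fun X => IsReduced X) 𝒴)
    (Q : 𝒳.obj → Prop) (hQ : AlgSt.IsClosedSubstack 𝒳 Q Scheme.fppfPrecoverage) (f : 𝒴 ⥤ᵇ 𝒳) :
    (∀ y : 𝒴.obj, Q (f.obj y)) ↔
      Set.range (AlgSt.Points.map f) ⊆ Set.range (AlgSt.Points.map (AlgSt.subIncl 𝒳 Q)) := by
  constructor
  · rintro h _ ⟨q, rfl⟩
    exact ⟨AlgSt.Points.map (liftSub Q f h) q,
      (points_map_comp (liftSub Q f h) (AlgSt.subIncl 𝒳 Q) q).symm⟩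
  · exact fun h y => lands_of_closed h𝒳 h𝒴 hred Q hQ f h y

end Groth.Agent.Helper6.ClosedSub1
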