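import Mathlib

set_option autoImplicit false
set_option linter.style.haveILetI false
set_option linter.unusedSectionVars false
set_option linter.unusedVariables false
set_option linter.unusedSimpArgs false

/-!
# A class whose two pullbacks agree dies locally for the coarser topology (abstract form)
-/

namespace Groth.Agent.Helper6.KillEq
open CategoryTheory Limits Opposite

universe u
variable {𝒟 : Type u} [SmallCategory 𝒟]

/-- sections of an abelian sheaf vanishing on a covering sieve vanish -/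
lemma eq_zero_of_sieve {L : GrothendieckTopology 𝒟} {Q : 𝒟ᵒᵖ ⥤ AddCommGrpCat.{u}}
    (hQ : Presheaf.IsSheaf L Q) {Z : 𝒟} (S : Sieve Z) (hS : S ∈ L Z) (x : Q.obj (op Z))
    (hx : ∀ ⦃V : 𝒟⦄ (g : V ⟶ Z), S g → Q.map g.op x = 0) : x = 0 := by
  have h1 := (isSheaf_iff_isSheaf_of_type _ _).1
    ((Presheaf.isSheaf_iff_isSheaf_forget L Q (forget AddCommGrpCat.{u})).1 hQ)
  refine (h1.isSeparated S hS).ext ?_
  intro V g hg
  show Q.map g.op x = Q.map g.op 0
  rw [hx g hg, map_zero]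

theorem abstract_kill (K K' : GrothendieckTopology 𝒟)
    (H : 𝒟ᵒᵖ ⥤ AddCommGrpCat.{u}) (w : 𝒟 ⥤ 𝒟) (η : w ⟶ 𝟭 𝒟)
    (hkill : ∀ (Z : 𝒟) (ξ : H.obj (op Z)), ∃ S : Sieve Z, S ∈ K' Z ∧
      ∀ ⦃V : 𝒟⦄ (g : V ⟶ Z), S g → H.map g.op ξ = 0)
    (hG : Presheaf.IsSheaf K (sheafify K' (w.op ⋙ H)))
    {T U : 𝒟} (a : U ⟶ T) (ha : Sieve.generate (Presieve.singleton a) ∈ K T)
    (θ' : H.obj (op (w.obj T))) (θ : H.obj (op U))
    (hθ : H.map (w.map a).op θ' = H.map (η.app U).op θ) :
    ∃ R : Sieve T, R ∈ K' T ∧ ∀ ⦃V : 𝒟⦄ (g : V ⟶ T), R g → H.map (w.map g).op θ' = 0 := by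
  have hG' : Presheaf.IsSheaf K' (sheafify K' (w.op ⋙ H)) :=
    ((presheafToSheaf K' AddCommGrpCat.{u}).obj (w.op ⋙ H)).property
  -- Step 1
  have h1 : (toSheafify K' (w.op ⋙ H)).app (op U) ((w.op ⋙ H).map a.op θ') = 0 := by
    obtain ⟨S, hS, hS0⟩ := hkill U θ
    apply eq_zero_of_sieve hG' S hS
    intro V g hg
    have nat := NatTrans.naturality_apply (toSheafify K' (w.op ⋙ H)) g.op
      ((w.op ⋙ H).map a.op θ')
    rw [← nat]
    have h0 : (w.op ⋙ H).map g.op ((w.op ⋙ H).map a.op θ') = 0 := by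
      show H.map (w.map g).op (H.map (w.map a).op θ') = 0
      rw [hθ]
      have e1 : H.map (w.map g).op (H.map (η.app U).op θ) =
          H.map (η.app V).op (H.map g.op θ) := by
        rw [← ConcreteCategory.comp_apply, ← ConcreteCategory.comp_apply, ← H.map_comp,
          ← H.map_comp, ← op_comp, ← op_comp]
        have := η.naturality g
        rw [this]
        rfl
      rw [e1, hS0 g hg, map_zero]
    rw [h0, map_zero]
  -- Step 2
  have h2 : (toSheafify K' (w.op ⋙ H)).app (op T) θ' = 0 := by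
    apply eq_zero_of_sieve hG _ ha
    intro V g hg
    obtain ⟨W, b, c, hc, rfl⟩ := hg
    cases hc
    rw [op_comp, Functor.map_comp, ConcreteCategory.comp_apply]
    have nat := NatTrans.naturality_apply (toSheafify K' (w.op ⋙ H)) a.op θ'
    rw [← nat, h1, map_zero]
  -- Step 3
  have h3 := Presheaf.equalizerSieve_mem K' (toSheafify K' (w.op ⋙ H)) (X := op T) θ' 0
    (by rw [h2, map_zero])
  refine ⟨_, h3, ?_⟩
  intro V g hg
  have : (w.op ⋙ H).map g.op θ' = (w.op ⋙ H).map g.op 0 := hg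
  rw [map_zero] at this
  exact this

end Groth.Agent.Helper6.KillEq
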