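import Mathlib
import Groth.Prelude.Def_CohSite
import Groth.Agent.Helper1.SiteDelta
import Groth.Agent.Helper6.ShriekSmall

set_option autoImplicit false
set_option linter.style.haveILetI false
set_option linter.unusedSectionVars false
set_option linter.unusedVariables false
set_option linter.unusedSimpArgs false

/-!
# Localisation: cohomology presheaves commute with restriction along a continuous functor
whose restriction functor is exact and preserves injectives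
-/

namespace Groth.Agent.Helper6.LocCoh
open CategoryTheory Limits Opposite Groth.Agent.Helper1.SiteCoh Groth.Agent.Helper1.DeltaFun
  Groth.Agent.Helper1.ExtPre

universe u
variable {𝒟 ℰ : Type u} [SmallCategory 𝒟] [SmallCategory ℰ]
  (K𝒟 : GrothendieckTopology 𝒟) (Kℰ : GrothendieckTopology ℰ) (m : 𝒟 ⥤ ℰ)
  [m.IsContinuous K𝒟 Kℰ]

/-- restriction of presheaves along `m` -/
abbrev wL : (ℰᵒᵖ ⥤ AddCommGrpCat.{u}) ⥤ (𝒟ᵒᵖ ⥤ AddCommGrpCat.{u}) :=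
  (Functor.whiskeringLeft 𝒟ᵒᵖ ℰᵒᵖ AddCommGrpCat.{u}).obj m.op

variable (hR : ∀ S : ShortComplex (Sheaf Kℰ AddCommGrpCat.{u}), S.ShortExact →
    (S.map (CohSite.push Kℰ K𝒟 m)).ShortExact)
  (hinj : ∀ (I : Sheaf Kℰ AddCommGrpCat.{u}) [Injective I],
    Injective ((CohSite.push Kℰ K𝒟 m).obj I))

/-- `W ↦ Hⁿ(m(W), F)` -/
noncomputable def T1 : DeltaFunctor (Sheaf Kℰ AddCommGrpCat.{u}) (𝒟ᵒᵖ ⥤ AddCommGrpCat.{u}) :=
  (extPreDelta.{u} (freeFunctor Kℰ)).postcomp (wL m)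

/-- `W ↦ Hⁿ(W, m^* F)` -/
noncomputable def T2 : DeltaFunctor (Sheaf Kℰ AddCommGrpCat.{u}) (𝒟ᵒᵖ ⥤ AddCommGrpCat.{u}) :=
  (extPreDelta.{u} (freeFunctor K𝒟)).precomp (CohSite.push Kℰ K𝒟 m) hR

lemma T1_effaceable : (T1 Kℰ m).Effaceable :=
  fun I _ n => Functor.map_isZero (wL m) (isZero_extPre_of_injective (freeFunctor Kℰ) I n)

include hinj in
lemma T2_effaceable : (T2 K𝒟 Kℰ m hR).Effaceable := fun I _ n => by
  haveI := hinj I
  exact isZero_extPre_of_injective (freeFunctor K𝒟) ((CohSite.push Kℰ K𝒟 m).obj I) n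

/-- degree zero -/
noncomputable def e0 : (T1 Kℰ m).T 0 ≅ (T2 K𝒟 Kℰ m hR).T 0 :=
  show (Sheaf.cohomologyPresheafFunctor.{u} Kℰ 0 ⋙ wL m ≅
    CohSite.push Kℰ K𝒟 m ⋙ Sheaf.cohomologyPresheafFunctor.{u} K𝒟 0) from
  Functor.isoWhiskerRight (coh0Iso (J := Kℰ)) (wL m) ≪≫
    (pushForgetIso Kℰ K𝒟 m).symm ≪≫
    Functor.isoWhiskerLeft (CohSite.push Kℰ K𝒟 m) (coh0Iso (J := K𝒟)).symm

/-- the localisation isomorphism, natural in the sheaf -/
noncomputable def locIso (n : ℕ) :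
    Sheaf.cohomologyPresheafFunctor.{u} Kℰ n ⋙ wL m ≅
      CohSite.push Kℰ K𝒟 m ⋙ Sheaf.cohomologyPresheafFunctor.{u} K𝒟 n :=
  isoOfEffaceable (T := T1 Kℰ m) (T' := T2 K𝒟 Kℰ m hR)
    (T1_effaceable Kℰ m) (T2_effaceable K𝒟 Kℰ m hR hinj) (e0 K𝒟 Kℰ m hR) n

end Groth.Agent.Helper6.LocCoh
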