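import Mathlib
import Groth.Prelude.Def_SiteCmp
import Groth.Agent.Helper1.DeltaCmp
import Groth.Agent.Helper1.SiteDelta

set_option autoImplicit false
set_option linter.style.haveILetI false
set_option linter.unusedSectionVars false
set_option linter.unusedVariables false
set_option linter.unusedSimpArgs false

/-!
# Comparing two topologies: cohomology presheaves agree in low degrees under vanishing of `R^q ε`
-/

namespace Groth.Agent.Helper6.RelocA
open CategoryTheory Limits Opposite Groth.Agent.Helper1.DeltaCmp Groth.Agent.Helper1.SiteCoh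

section Graded

universe v₁ v₂ u₁ u₂
variable {A : Type u₁} [Category.{v₁} A] [Abelian A] {B : Type u₂} [Category.{v₂} B] [Abelian B]
variable {T T' : ℕ → A ⥤ B}

/-- graded version of `Helper1.DeltaCmp.nonempty_iso` -/
theorem nonempty_iso_graded (𝒜 : ℕ → A → Prop) (e : T 0 ≅ T' 0)
    (hE : ∀ k F, 𝒜 (k + 1) F → Nonempty (Effacement T T' (𝒜 k) F)) :
    ∀ (n : ℕ) (F : A), 𝒜 n F → Nonempty ((T n).obj F ≅ (T' n).obj F) := by
  intro n
  induction n with
  | zero => exact fun F _ => ⟨e.app F⟩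
  | succ n ih =>
    intro F hF
    obtain ⟨E⟩ := hE n F hF
    obtain ⟨S, rfl, hQ, hz, hz', hl, hl'⟩ := E
    cases n with
    | zero =>
      obtain ⟨i₁⟩ := nonempty_iso_cokernel hl (hz 0)
      obtain ⟨i₂⟩ := nonempty_iso_cokernel hl' (hz' 0)
      refine ⟨i₁ ≪≫ ?_ ≪≫ i₂.symm⟩
      exact cokernel.mapIso _ _ (e.app _) (e.app _) (by simp)
    | succ n =>
      obtain ⟨i₁⟩ := nonempty_iso_succ hl hz n
      obtain ⟨i₂⟩ := nonempty_iso_succ hl' hz' n
      obtain ⟨j⟩ := ih S.X₃ hQ
      exact ⟨i₁.symm ≪≫ j ≪≫ i₂⟩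

end Graded

universe u
variable {D : Type u} [SmallCategory D] {K K' : GrothendieckTopology D} (hle : K' ≤ K)

/-- the left adjoint of `ε_*`: forget to presheaves and `K`-sheafify -/
noncomputable abbrev epsL : Sheaf K' AddCommGrpCat.{u} ⥤ Sheaf K AddCommGrpCat.{u} :=
  sheafToPresheaf K' AddCommGrpCat.{u} ⋙ presheafToSheaf K AddCommGrpCat.{u}

/-- `ε_*` followed by forgetting is forgetting -/
noncomputable def epsForgetIso :
    sheafToPresheaf K AddCommGrpCat.{u} ≅
      SiteCmp.epsSh hle AddCommGrpCat.{u} ⋙ sheafToPresheaf K' AddCommGrpCat.{u} :=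
  NatIso.ofComponents (fun F => Iso.refl _) (by
    intro F G φ
    simp only [Iso.refl_hom, Category.comp_id, Category.id_comp]
    rfl)

noncomputable def epsAdj : epsL (K := K) (K' := K') ⊣ SiteCmp.epsSh hle AddCommGrpCat.{u} :=
  (sheafificationAdjunction K AddCommGrpCat.{u}).restrictFullyFaithful
    (fullyFaithfulSheafToPresheaf K' AddCommGrpCat.{u}) (Functor.FullyFaithful.id _)
    (Functor.rightUnitor _).symm
    (Functor.leftUnitor _ ≪≫ epsForgetIso hle)

instance : (epsL (K := K) (K' := K')).PreservesMonomorphisms := by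
  unfold epsL
  infer_instance

lemma injective_eps (I : Sheaf K AddCommGrpCat.{u}) [Injective I] :
    Injective ((SiteCmp.epsSh hle AddCommGrpCat.{u}).obj I) :=
  Injective.injective_of_adjoint (epsAdj hle) I

/-- the class: `R^q ε_* F = 0` for `1 ≤ q ≤ k` -/
def Van (k : ℕ) (F : Sheaf K AddCommGrpCat.{u}) : Prop :=
  ∀ q : ℕ, 1 ≤ q → q ≤ k →
    IsZero (((SiteCmp.epsSh hle AddCommGrpCat.{u}).rightDerived q).obj F)

lemma Van.mono {k k' : ℕ} {F : Sheaf K AddCommGrpCat.{u}} (h : Van hle k F) (hk : k' ≤ k) :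
    Van hle k' F := fun q h1 h2 => h q h1 (h2.trans hk)

/-- `H⁰` comparison -/
noncomputable def e0 :
    Sheaf.cohomologyPresheafFunctor.{u} K 0 ≅
      SiteCmp.epsSh hle AddCommGrpCat.{u} ⋙ Sheaf.cohomologyPresheafFunctor.{u} K' 0 :=
  coh0Iso (J := K) ≪≫ epsForgetIso hle ≪≫
    Functor.isoWhiskerLeft (SiteCmp.epsSh hle AddCommGrpCat.{u}) (coh0Iso (J := K')).symm

lemma effacement (k : ℕ) (F : Sheaf K AddCommGrpCat.{u}) (hF : Van hle (k + 1) F) :
    Nonempty (Effacement (fun n => Sheaf.cohomologyPresheafFunctor.{u} K n)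
      (fun n => SiteCmp.epsSh hle AddCommGrpCat.{u} ⋙ Sheaf.cohomologyPresheafFunctor.{u} K' n)
      (Van hle k) F) := by
  haveI := SiteCmp.idContinuous hle
  obtain ⟨S, hS, hI, rfl⟩ := exists_injSC K F
  have lesε := Groth.Agent.Helper1.Horseshoe.hasLES_rightDerived
    (SiteCmp.epsSh hle AddCommGrpCat.{u}) S hS
  have hz : ∀ n, IsZero (((SiteCmp.epsSh hle AddCommGrpCat.{u}).rightDerived (n + 1)).obj S.X₂) :=
    fun n => Functor.isZero_rightDerived_obj_injective_succ _ _ _
  -- `ε(g)` is an epimorphism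
  have hepi : Epi ((SiteCmp.epsSh hle AddCommGrpCat.{u}).map S.g) := by
    obtain ⟨δ, w₁, w₂, h₁, h₂⟩ := lesε 0
    have hδ : δ = 0 := (hF 1 le_rfl (by omega)).eq_of_tgt _ _
    have h0 : Epi (((SiteCmp.epsSh hle AddCommGrpCat.{u}).rightDerived 0).map S.g) :=
      h₁.epi_f hδ
    have e := (SiteCmp.epsSh hle AddCommGrpCat.{u}).rightDerivedZeroIsoSelf
    have : (SiteCmp.epsSh hle AddCommGrpCat.{u}).map S.g =
        e.inv.app _ ≫ ((SiteCmp.epsSh hle AddCommGrpCat.{u}).rightDerived 0).map S.g ≫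
          e.hom.app _ := by
      rw [e.hom.naturality, Iso.inv_hom_id_app_assoc]
    rw [this]
    infer_instance
  have hS' : (S.map (SiteCmp.epsSh hle AddCommGrpCat.{u})).ShortExact := by
    haveI := hS.mono_f
    exact { exact := hS.exact.map_of_mono_of_preservesKernel _ hS.mono_f inferInstance
            mono_f := by
              show Mono ((SiteCmp.epsSh hle AddCommGrpCat.{u}).map S.f)
              infer_instance
            epi_g := hepi }
  refine ⟨{
    S := S
    iso := rfl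
    mem := ?_
    zero := fun n => isZero_cohomologyPresheaf_of_injective _ n
    zero' := fun n => ?_
    les := hasLES_cohomologyPresheaf S hS
    les' := ?_ }⟩
  · intro q h1 h2
    obtain ⟨q', rfl⟩ : ∃ q', q = q' + 1 := ⟨q - 1, by omega⟩
    obtain ⟨i⟩ := nonempty_iso_succ lesε hz q'
    exact IsZero.of_iso (hF (q' + 2) (by omega) (by omega)) i
  · haveI := injective_eps hle S.X₂
    exact isZero_cohomologyPresheaf_of_injective
      ((SiteCmp.epsSh hle AddCommGrpCat.{u}).obj S.X₂) n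
  · intro n
    obtain ⟨δ, w₁, w₂, h₁, h₂⟩ := hasLES_cohomologyPresheaf _ hS' n
    exact ⟨δ, w₁, w₂, h₁, h₂⟩

/-- under vanishing of `R^q ε_*` for `1 ≤ q ≤ n`, the cohomology presheaves agree in degree `n` -/
theorem nonempty_iso_cohPre (n : ℕ) (F : Sheaf K AddCommGrpCat.{u}) (hF : Van hle n F) :
    Nonempty ((Sheaf.cohomologyPresheafFunctor.{u} K n).obj F ≅
      (Sheaf.cohomologyPresheafFunctor.{u} K' n).obj
        ((SiteCmp.epsSh hle AddCommGrpCat.{u}).obj F)) :=
  nonempty_iso_graded (T := fun n => Sheaf.cohomologyPresheafFunctor.{u} K n)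
    (T' := fun n => SiteCmp.epsSh hle AddCommGrpCat.{u} ⋙
      Sheaf.cohomologyPresheafFunctor.{u} K' n)
    (Van hle) (e0 hle) (effacement hle) n F hF

end Groth.Agent.Helper6.RelocA
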