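import Mathlib
import Groth.Prelude.Def_SiteCmp
import Groth.Agent.Helper6.RelocA

set_option autoImplicit false
set_option linter.style.haveILetI false
set_option linter.unusedSectionVars false
set_option linter.unusedVariables false
set_option linter.unusedSimpArgs false

/-!
# Pushforward along a cocontinuous left adjoint is pushforward along the continuous right adjoint;
sheafification for a coarser topology which is a sheaf for the finer one
-/

namespace Groth.Agent.Helper6.RelocB
open CategoryTheory Limits Opposite Groth.Agent.Helper6.RelocA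

section Adj

universe v₁ v₂ v₃ u₁ u₂ u₃
variable {C : Type u₁} [Category.{v₁} C] {D : Type u₂} [Category.{v₂} D]
  {F : C ⥤ D} {G : D ⥤ C} (adj : F ⊣ G)
  (A : Type u₃) [Category.{v₃} A]
  (J : GrothendieckTopology C) (K : GrothendieckTopology D)
  [∀ (P : Cᵒᵖ ⥤ A), F.op.HasPointwiseRightKanExtension P]

/-- right Kan extension along `F.op` is precomposition with `G.op` when `F ⊣ G` -/
noncomputable def ranIso : F.op.ran ≅ (Functor.whiskeringLeft Dᵒᵖ Cᵒᵖ A).obj G.op :=
  (F.op.ranAdjunction A).rightAdjointUniq (adj.op.whiskerLeft A)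

variable [F.IsCocontinuous J K] [G.IsContinuous K J]

/-- the pushforward along the cocontinuous `F` is the pushforward along the continuous `G` -/
noncomputable def pushIso :
    F.sheafPushforwardCocontinuous A J K ≅ G.sheafPushforwardContinuous A K J :=
  Functor.fullyFaithfulCancelRight (sheafToPresheaf K A)
    (F.sheafPushforwardCocontinuousCompSheafToPresheafIso A J K ≪≫
      Functor.isoWhiskerLeft (sheafToPresheaf J A) (ranIso adj A) ≪≫
      (G.sheafPushforwardContinuousCompSheafToPresheafIso A K J).symm)

end Adj

section RD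

universe v₁ v₂ u₁ u₂
variable {A : Type u₁} [Category.{v₁} A] [Abelian A] [EnoughInjectives A]
  {B : Type u₂} [Category.{v₂} B] [Abelian B]

/-- isomorphic additive functors have isomorphic right derived functors -/
noncomputable def rightDerivedIso {F G : A ⥤ B} [F.Additive] [G.Additive] (e : F ≅ G) (n : ℕ) :
    F.rightDerived n ≅ G.rightDerived n where
  hom := NatTrans.rightDerived e.hom n
  inv := NatTrans.rightDerived e.inv n
  hom_inv_id := by rw [← NatTrans.rightDerived_comp, e.hom_inv_id, NatTrans.rightDerived_id]
  inv_hom_id := by rw [← NatTrans.rightDerived_comp, e.inv_hom_id, NatTrans.rightDerived_id]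

end RD

universe u
variable {D : Type u} [SmallCategory D] {K K' : GrothendieckTopology D} (hle : K' ≤ K)

lemma isSheaf_of_le (hle : K' ≤ K) {Q : Dᵒᵖ ⥤ AddCommGrpCat.{u}} (hQ : Presheaf.IsSheaf K Q) :
    Presheaf.IsSheaf K' Q :=
  fun E => Presieve.isSheaf_of_le _ hle (hQ E)

/-- if the `K'`-sheafification of `P` happens to be a `K`-sheaf, it is the `K`-sheafification -/
noncomputable def sheafifyIso (hle : K' ≤ K) (P : Dᵒᵖ ⥤ AddCommGrpCat.{u})
    (hG : Presheaf.IsSheaf K (sheafify K' P)) : sheafify K P ≅ sheafify K' P where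
  hom := sheafifyLift K (toSheafify K' P) hG
  inv := sheafifyLift K' (toSheafify K P)
    (isSheaf_of_le hle ((presheafToSheaf K AddCommGrpCat.{u}).obj P).property)
  hom_inv_id := by
    apply sheafify_hom_ext K _ _ ((presheafToSheaf K AddCommGrpCat.{u}).obj P).property
    rw [← Category.assoc, toSheafify_sheafifyLift, toSheafify_sheafifyLift, Category.comp_id]
  inv_hom_id := by
    apply sheafify_hom_ext K' _ _ ((presheafToSheaf K' AddCommGrpCat.{u}).obj P).property
    rw [← Category.assoc, toSheafify_sheafifyLift, toSheafify_sheafifyLift, Category.comp_id]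

/-- sheaf-level version -/
noncomputable def epsSheafifyIso (P : Dᵒᵖ ⥤ AddCommGrpCat.{u})
    (hG : Presheaf.IsSheaf K (sheafify K' P)) :
    (SiteCmp.epsSh hle AddCommGrpCat.{u}).obj ((presheafToSheaf K AddCommGrpCat.{u}).obj P) ≅
      (presheafToSheaf K' AddCommGrpCat.{u}).obj P :=
  (fullyFaithfulSheafToPresheaf K' AddCommGrpCat.{u}).preimageIso
    ((epsForgetIso hle).symm.app ((presheafToSheaf K AddCommGrpCat.{u}).obj P) ≪≫
      sheafifyIso hle P hG)

end Groth.Agent.Helper6.RelocB
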