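import Mathlib
import Groth.Prelude.Def_SiteCmp
import Groth.Agent.Helper6.RelocA
import Groth.Agent.Helper6.RelocB

set_option autoImplicit false
set_option linter.style.haveILetI false
set_option linter.unusedSectionVars false
set_option linter.unusedVariables false
set_option linter.unusedSimpArgs false

/-!
# Relocalisation: `R^i f_{τ',*}(ε F) ≅ ε R^i f_{τ,*} F` in low degrees
-/

namespace Groth.Agent.Helper6.RelocC
open CategoryTheory Limits Opposite Groth.Agent.Helper6.RelocA Groth.Agent.Helper6.RelocB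
  Groth.Agent.Helper1.SiteCoh

universe u
variable {C : Type u} [SmallCategory C]

/-- `R^i f_*` for the cocontinuous `Over.map f` is the sheafification of `V ↦ H^i(V ×_Y X, -)` -/
noncomputable def RmapIso (J : GrothendieckTopology C) {X Y : C} (f : X ⟶ Y)
    [HasPullbacksAlong f]
    [((Over.map f).sheafPushforwardCocontinuous AddCommGrpCat.{u} (J.over X) (J.over Y)).Additive]
    [(Over.pullback f).IsContinuous (J.over Y) (J.over X)] (i : ℕ) :
    ((Over.map f).sheafPushforwardCocontinuous AddCommGrpCat.{u} (J.over X)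
      (J.over Y)).rightDerived i ≅
      Sheaf.cohomologyPresheafFunctor.{u} (J.over X) i ⋙ Φ (J.over Y) (Over.pullback f) :=
  rightDerivedIso (G := CohSite.push (J.over X) (J.over Y) (Over.pullback f))
    (pushIso (Over.mapPullbackAdj f) AddCommGrpCat.{u} (J.over X) (J.over Y)) i ≪≫
    RpushIso (J.over X) (J.over Y) (Over.pullback f) i

theorem main {J J' : GrothendieckTopology C} (h : J' ≤ J) {X Y : C} (f : X ⟶ Y)
    [HasPullbacksAlong f]
    [((Over.map f).sheafPushforwardCocontinuous AddCommGrpCat.{u} (J'.over X)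
      (J'.over Y)).Additive]
    [((Over.map f).sheafPushforwardCocontinuous AddCommGrpCat.{u} (J.over X)
      (J.over Y)).Additive]
    (F : Sheaf (J.over X) AddCommGrpCat.{u}) (i : ℕ)
    (hV : Van (SiteCmp.over_le h X) i F)
    (hG : Presheaf.IsSheaf (J.over Y)
      ((((Over.map f).sheafPushforwardCocontinuous AddCommGrpCat.{u} (J'.over X)
        (J'.over Y)).rightDerived i).obj
          ((SiteCmp.epsSh (SiteCmp.over_le h X) AddCommGrpCat.{u}).obj F)).obj) :
    Nonempty ((((Over.map f).sheafPushforwardCocontinuous AddCommGrpCat.{u} (J'.over X)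
        (J'.over Y)).rightDerived i).obj
        ((SiteCmp.epsSh (SiteCmp.over_le h X) AddCommGrpCat.{u}).obj F) ≅
      (SiteCmp.epsSh (SiteCmp.over_le h Y) AddCommGrpCat.{u}).obj
        ((((Over.map f).sheafPushforwardCocontinuous AddCommGrpCat.{u} (J.over X)
          (J.over Y)).rightDerived i).obj F)) := by
  haveI cJ : (Over.pullback f).IsContinuous (J.over Y) (J.over X) :=
    (Over.mapPullbackAdj f).isContinuous_of_isCocontinuous _ _
  haveI cJ' : (Over.pullback f).IsContinuous (J'.over Y) (J'.over X) :=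
    (Over.mapPullbackAdj f).isContinuous_of_isCocontinuous _ _
  have iJ := (RmapIso J f i).app F
  have iJ' := (RmapIso J' f i).app
    ((SiteCmp.epsSh (SiteCmp.over_le h X) AddCommGrpCat.{u}).obj F)
  obtain ⟨c⟩ := nonempty_iso_cohPre (SiteCmp.over_le h X) i F hV
  have cP := ((Functor.whiskeringLeft (Over Y)ᵒᵖ (Over X)ᵒᵖ AddCommGrpCat.{u}).obj
    (Over.pullback f).op).mapIso c
  have hG' : Presheaf.IsSheaf (J.over Y) (sheafify (J'.over Y)
      (((Functor.whiskeringLeft (Over Y)ᵒᵖ (Over X)ᵒᵖ AddCommGrpCat.{u}).obj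
        (Over.pullback f).op).obj
        ((Sheaf.cohomologyPresheafFunctor.{u} (J'.over X) i).obj
          ((SiteCmp.epsSh (SiteCmp.over_le h X) AddCommGrpCat.{u}).obj F)))) :=
    (Presheaf.isSheaf_of_iso_iff
      ((sheafToPresheaf (J'.over Y) AddCommGrpCat.{u}).mapIso iJ')).1 hG
  have d := epsSheafifyIso (SiteCmp.over_le h Y) _ hG'
  exact ⟨iJ' ≪≫ d.symm ≪≫
    (SiteCmp.epsSh (SiteCmp.over_le h Y) AddCommGrpCat.{u}).mapIso
      ((presheafToSheaf (J.over Y) AddCommGrpCat.{u}).mapIso cP.symm ≪≫ iJ.symm)⟩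

end Groth.Agent.Helper6.RelocC
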