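import Mathlib
import Groth.Prelude.Def_SiteCmp
import Groth.Agent.Helper9.KillClass
import Groth.Agent.Helper6.RelocC
import Groth.Agent.Helper6.LocCoh
import Groth.Agent.Helper6.KillEq

set_option autoImplicit false
set_option linter.style.haveILetI false
set_option linter.unusedSectionVars false
set_option linter.unusedVariables false
set_option linter.unusedSimpArgs false

/-!
# An equalized class dies on a covering for the coarser topology
-/

namespace Groth.Agent.Helper6.EqClass
open CategoryTheory Limits Opposite Groth.Agent.Helper6.RelocA Groth.Agent.Helper6.RelocB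
  Groth.Agent.Helper6.RelocC Groth.Agent.Helper6.LocCoh Groth.Agent.Helper1.SiteCoh

universe u
variable {C : Type u} [SmallCategory C] (J' : GrothendieckTopology C) {X Y : C} (f : X ⟶ Y)

instance : PreservesFiniteColimits (CohSite.push (J'.over Y) (J'.over X) (Over.map f)) := by
  haveI := ((Over.map f).sheafAdjunctionCocontinuous AddCommGrpCat.{u} (J'.over X)
    (J'.over Y)).isLeftAdjoint
  infer_instance

lemma hR (S : ShortComplex (Sheaf (J'.over Y) AddCommGrpCat.{u})) (hS : S.ShortExact) :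
    (S.map (CohSite.push (J'.over Y) (J'.over X) (Over.map f))).ShortExact :=
  hS.map_of_exact _

lemma hinj (I : Sheaf (J'.over Y) AddCommGrpCat.{u}) [Injective I] :
    Injective ((CohSite.push (J'.over Y) (J'.over X) (Over.map f)).obj I) :=
  Injective.injective_of_adjoint
    (Groth.Agent.Helper6.ShriekSmall.jadj f (J'.over X) (J'.over Y)) I

/-- localisation for `Over.map f` -/
noncomputable def locIsoOver (n : ℕ) :
    Sheaf.cohomologyPresheafFunctor.{u} (J'.over Y) n ⋙ wL (Over.map f) ≅
      CohSite.push (J'.over Y) (J'.over X) (Over.map f) ⋙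
        Sheaf.cohomologyPresheafFunctor.{u} (J'.over X) n :=
  locIso (J'.over X) (J'.over Y) (Over.map f) (hR J' f) (fun I _ => hinj J' f I) n

variable {J'}

theorem main (J : GrothendieckTopology C) [HasPullbacksAlong f]
    [((Over.map f).sheafPushforwardCocontinuous AddCommGrpCat.{u} (J'.over X)
      (J'.over Y)).Additive]
    (hcov : Sieve.ofArrows (fun _ : PUnit.{u + 1} => X) (fun _ => f) ∈ J Y)
    (F' : Sheaf (J'.over Y) AddCommGrpCat.{u}) (n : ℕ)
    (hG : Presheaf.IsSheaf (J.over Y)
      ((((Over.map f).sheafPushforwardCocontinuous AddCommGrpCat.{u} (J'.over X)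
        (J'.over Y)).rightDerived (n + 1)).obj
          ((CohSite.push (J'.over Y) (J'.over X) (Over.map f)).obj F')).obj)
    (θ : CohSite.HU F' (n + 1) (Over.mk f))
    (hθ : ∀ (W : C) (p q : W ⟶ X) (hW : IsPullback p q f f),
      CohSite.res F' (n + 1) (Over.homMk p rfl : Over.mk (p ≫ f) ⟶ Over.mk f) θ =
        CohSite.res F' (n + 1) (Over.homMk q hW.w.symm : Over.mk (p ≫ f) ⟶ Over.mk f) θ) :
    ∃ (ι : Type u) (Z : ι → C) (g : ∀ i, Z i ⟶ Y), Sieve.ofArrows Z g ∈ J' Y ∧
      ∀ (i : ι) (W : C) (p : W ⟶ Z i) (q : W ⟶ X), IsPullback p q (g i) f →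
        CohSite.res F' (n + 1) (Over.homMk q rfl : Over.mk (q ≫ f) ⟶ Over.mk f) θ = 0 := by
  haveI cJ' : (Over.pullback f).IsContinuous (J'.over Y) (J'.over X) :=
    (Over.mapPullbackAdj f).isContinuous_of_isCocontinuous _ _
  let H : (Over Y)ᵒᵖ ⥤ AddCommGrpCat.{u} :=
    (Sheaf.cohomologyPresheafFunctor.{u} (J'.over Y) (n + 1)).obj F'
  have hkill := Groth.Agent.Helper9.KillClass.kill (J'.over Y) n F'
  -- the sheaf property
  have hGs : Presheaf.IsSheaf (J.over Y)
      (sheafify (J'.over Y) ((Over.pullback f ⋙ Over.map f).op ⋙ H)) := by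
    have iso1 := (RmapIso J' f (n + 1)).app
      ((CohSite.push (J'.over Y) (J'.over X) (Over.map f)).obj F')
    have iso2 := (locIsoOver J' f (n + 1)).app F'
    have iso3 : (Over.pullback f ⋙ Over.map f).op ⋙ H ≅
        ((Functor.whiskeringLeft (Over Y)ᵒᵖ (Over X)ᵒᵖ AddCommGrpCat.{u}).obj
          (Over.pullback f).op).obj
          ((Sheaf.cohomologyPresheafFunctor.{u} (J'.over X) (n + 1)).obj
            ((CohSite.push (J'.over Y) (J'.over X) (Over.map f)).obj F')) :=
      (show (Over.pullback f ⋙ Over.map f).op ⋙ H ≅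
        (Over.pullback f).op ⋙ ((Over.map f).op ⋙ H) from Iso.refl _) ≪≫
        Functor.isoWhiskerLeft (Over.pullback f).op iso2
    have iso4 := (sheafToPresheaf (J'.over Y) AddCommGrpCat.{u}).mapIso
      (iso1 ≪≫ (presheafToSheaf (J'.over Y) AddCommGrpCat.{u}).mapIso iso3.symm)
    exact (Presheaf.isSheaf_of_iso_iff iso4).1 hG
  -- the objects
  let T : Over Y := Over.mk (𝟙 Y)
  let U : Over Y := Over.mk f
  let a : U ⟶ T := Over.homMk f (by simp [U, T])
  have ha : Sieve.generate (Presieve.singleton a) ∈ (J.over Y) T := by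
    rw [GrothendieckTopology.mem_over_iff]
    refine J.superset_covering ?_ hcov
    rintro Z g ⟨W, k, g', ⟨⟩, rfl⟩
    rw [Sieve.overEquiv_iff]
    exact ⟨U, Over.homMk k (by simp [U, T]), a, Presieve.singleton_self a, by
      apply Over.OverMorphism.ext; simp [a]⟩
  let φ : (Over.pullback f ⋙ Over.map f).obj T ⟶ U :=
    Over.homMk (pullback.snd T.hom f) (by simp [U])
  let θ' : H.obj (op ((Over.pullback f ⋙ Over.map f).obj T)) := H.map φ.op θ
  -- the compatibility
  have hθ' : H.map ((Over.pullback f ⋙ Over.map f).map a).op θ' =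
      H.map ((Over.mapPullbackAdj f).counit.app U).op θ := by
    have hW : IsPullback (pullback.snd f f) (pullback.fst f f) f f :=
      (IsPullback.of_hasPullback f f).flip
    have h0 := hθ _ _ _ hW
    let κ : (Over.pullback f ⋙ Over.map f).obj U ⟶ Over.mk (pullback.snd f f ≫ f) :=
      Over.homMk (𝟙 _) (by simp [U])
    have e1 : (Over.pullback f ⋙ Over.map f).map a ≫ φ =
        κ ≫ (Over.homMk (pullback.snd f f) rfl : Over.mk (pullback.snd f f ≫ f) ⟶ Over.mk f) := by
      apply Over.OverMorphism.ext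
      simp [κ, φ, a, U, T]
      exact pullback.lift_snd _ _ _
    have e2 : (Over.mapPullbackAdj f).counit.app U =
        κ ≫ (Over.homMk (pullback.fst f f) hW.w.symm :
          Over.mk (pullback.snd f f ≫ f) ⟶ Over.mk f) := by
      apply Over.OverMorphism.ext
      simp [κ, U]
    show H.map ((Over.pullback f ⋙ Over.map f).map a).op (H.map φ.op θ) = _
    rw [← ConcreteCategory.comp_apply, ← H.map_comp, ← op_comp, e1, e2, op_comp, op_comp,
      H.map_comp, H.map_comp, ConcreteCategory.comp_apply, ConcreteCategory.comp_apply]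
    exact congrArg _ h0
  obtain ⟨R, hR, hR0⟩ := Groth.Agent.Helper6.KillEq.abstract_kill (J.over Y) (J'.over Y) H
    (Over.pullback f ⋙ Over.map f) (Over.mapPullbackAdj f).counit hkill hGs a ha θ' θ hθ'
  refine ⟨Σ (Z : C), {g : Z ⟶ Y // (Sieve.overEquiv T R) g}, fun i => i.1, fun i => i.2.1,
    ?_, ?_⟩
  · have hR' := (GrothendieckTopology.mem_over_iff (J := J') (X := Y) (Y := T) R).1 hR
    refine J'.superset_covering ?_ hR'
    intro Z g hg
    exact Sieve.ofArrows_mk (fun i : Σ (Z : C), {g : Z ⟶ Y // (Sieve.overEquiv T R) g} => i.1)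
      (fun i => i.2.1) ⟨Z, g, hg⟩
  · rintro ⟨Z₀, g₀, hg₀⟩ W p q hpq
    have hR' : R (Over.homMk g₀ : Over.mk (g₀ ≫ T.hom) ⟶ T) := (Sieve.overEquiv_iff R g₀).1 hg₀
    have hz := hR0 _ hR'
    have hw : p ≫ (Over.mk (g₀ ≫ T.hom)).hom = q ≫ f := by
      simpa [T] using hpq.w
    let ψ' : Over.mk (q ≫ f) ⟶ (Over.pullback f ⋙ Over.map f).obj (Over.mk (g₀ ≫ T.hom)) :=
      Over.homMk (pullback.lift p q hw) (by
        simp
        exact pullback.lift_snd_assoc _ _ _ _)
    have e3 : (Over.homMk q rfl : Over.mk (q ≫ f) ⟶ Over.mk f) =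
        ψ' ≫ (Over.pullback f ⋙ Over.map f).map
          (Over.homMk g₀ : Over.mk (g₀ ≫ T.hom) ⟶ T) ≫ φ := by
      apply Over.OverMorphism.ext
      simp [ψ', φ, U]
      rw [pullback.lift_snd, pullback.lift_snd]
    show H.map (Over.homMk q rfl : Over.mk (q ≫ f) ⟶ Over.mk f).op θ = 0
    rw [e3, op_comp, op_comp, H.map_comp, H.map_comp, ConcreteCategory.comp_apply,
      ConcreteCategory.comp_apply]
    have hz' : H.map ((Over.pullback f ⋙ Over.map f).map
        (Over.homMk g₀ : Over.mk (g₀ ≫ T.hom) ⟶ T)).op (H.map φ.op θ) = 0 := hz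
    rw [hz', map_zero]

end Groth.Agent.Helper6.EqClass
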