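import Mathlib
import Groth.Prelude.Def_SiteCmp
import Groth.Agent.Helper6.RelocA

set_option autoImplicit false
set_option linter.style.haveILetI false
set_option linter.unusedSectionVars false
set_option linter.unusedVariables false
set_option linter.unusedSimpArgs false

/-!
# Comparing two topologies: the comparison map `H^{n+1}_{K'}(εG) ⟶ H^{n+1}_K(G)` is injective with
image the `K'`-locally trivial classes, when `R^q ε G = 0` for `1 ≤ q ≤ n`
-/

namespace Groth.Agent.Helper6.RelocD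
open CategoryTheory Limits Opposite Groth.Agent.Helper1.DeltaCmp Groth.Agent.Helper1.SiteCoh
  Groth.Agent.Helper6.RelocA

universe u
variable {D : Type u} [SmallCategory D]

/-- a section of a presheaf of abelian groups is locally zero -/
def LocZero (K' : GrothendieckTopology D) (P : Dᵒᵖ ⥤ AddCommGrpCat.{u}) {U : Dᵒᵖ} (θ : P.obj U) :
    Prop :=
  ∃ S ∈ K' U.unop, ∀ ⦃V : D⦄ (g : V ⟶ U.unop), S g → P.map g.op θ = 0

/-- injective, with image the locally zero sections -/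
def IsCmp (K' : GrothendieckTopology D) {P' P : Dᵒᵖ ⥤ AddCommGrpCat.{u}} (c : P' ⟶ P) : Prop :=
  (∀ U, Function.Injective (c.app U)) ∧
    ∀ (U : Dᵒᵖ) (θ : P.obj U), θ ∈ Set.range (c.app U) ↔ LocZero K' P θ

lemma hom_inv_apply {P R : Dᵒᵖ ⥤ AddCommGrpCat.{u}} (i : P ≅ R) (U : Dᵒᵖ) (x : P.obj U) :
    i.inv.app U (i.hom.app U x) = x := by
  rw [← ConcreteCategory.comp_apply, Iso.hom_inv_id_app, ConcreteCategory.id_apply]

lemma inv_hom_apply {P R : Dᵒᵖ ⥤ AddCommGrpCat.{u}} (i : P ≅ R) (U : Dᵒᵖ) (x : R.obj U) :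
    i.hom.app U (i.inv.app U x) = x := by
  rw [← ConcreteCategory.comp_apply, Iso.inv_hom_id_app, ConcreteCategory.id_apply]

lemma nat_apply {P R : Dᵒᵖ ⥤ AddCommGrpCat.{u}} (φ : P ⟶ R) {U : Dᵒᵖ} {V : D} (g : V ⟶ U.unop)
    (x : P.obj U) : R.map g.op (φ.app U x) = φ.app (op V) (P.map g.op x) :=
  (NatTrans.naturality_apply φ g.op x).symm

lemma locZero_iso_iff (K' : GrothendieckTopology D) {P R : Dᵒᵖ ⥤ AddCommGrpCat.{u}} (i : P ≅ R)
    {U : Dᵒᵖ} (θ : R.obj U) : LocZero K' P (i.inv.app U θ) ↔ LocZero K' R θ := by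
  constructor
  · rintro ⟨S, hS, h⟩
    refine ⟨S, hS, fun V g hg => ?_⟩
    have h1 := h g hg
    rw [nat_apply] at h1
    have h2 := congrArg (i.hom.app (op V)) h1
    rwa [inv_hom_apply, map_zero] at h2
  · rintro ⟨S, hS, h⟩
    refine ⟨S, hS, fun V g hg => ?_⟩
    rw [nat_apply, h g hg, map_zero]

lemma IsCmp.of_iso {K' : GrothendieckTopology D} {P'' P' P R : Dᵒᵖ ⥤ AddCommGrpCat.{u}}
    {c : P' ⟶ P} (hc : IsCmp K' c) (i' : P'' ≅ P') (i : P ≅ R) :
    IsCmp K' (i'.hom ≫ c ≫ i.hom) := by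
  have happ : ∀ U (x : P''.obj U),
      (i'.hom ≫ c ≫ i.hom).app U x = i.hom.app U (c.app U (i'.hom.app U x)) := fun U x => rfl
  refine ⟨fun U x y h => ?_, fun U θ => ?_⟩
  · rw [happ, happ] at h
    have h1 := congrArg (i.inv.app U) h
    rw [hom_inv_apply, hom_inv_apply] at h1
    have h2 := hc.1 U h1
    have h3 := congrArg (i'.inv.app U) h2
    rwa [hom_inv_apply, hom_inv_apply] at h3
  · rw [← locZero_iso_iff K' i θ, ← hc.2 U (i.inv.app U θ)]
    constructor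
    · rintro ⟨x, rfl⟩
      exact ⟨i'.hom.app U x, by rw [happ, hom_inv_apply]⟩
    · rintro ⟨y, hy⟩
      refine ⟨i'.inv.app U y, ?_⟩
      rw [happ, inv_hom_apply, hy, inv_hom_apply]

lemma surj_of_epi {P Q : Dᵒᵖ ⥤ AddCommGrpCat.{u}} (f : P ⟶ Q) [Epi f] (U : Dᵒᵖ) :
    Function.Surjective (f.app U) :=
  (AddCommGrpCat.epi_iff_surjective _).1 ((NatTrans.epi_iff_epi_app f).1 inferInstance U)

lemma inj_of_mono {P Q : Dᵒᵖ ⥤ AddCommGrpCat.{u}} (f : P ⟶ Q) [Mono f] (U : Dᵒᵖ) :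
    Function.Injective (f.app U) :=
  (AddCommGrpCat.mono_iff_injective _).1 ((NatTrans.mono_iff_mono_app f).1 inferInstance U)

lemma exact_app {S : ShortComplex (Dᵒᵖ ⥤ AddCommGrpCat.{u})} (h : S.Exact) (U : Dᵒᵖ)
    (x : S.X₂.obj U) (hx : S.g.app U x = 0) : ∃ y, S.f.app U y = x :=
  (ShortComplex.ab_exact_iff _).1 (h.map ((evaluation _ _).obj U)) x hx


/-- abstract form: two right exact sequences with the same first term, compared by a monomorphism
whose image is the sections locally in the image of the first term -/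
lemma isCmp_of_exact (K' : GrothendieckTopology D) {A B' B C' C : Dᵒᵖ ⥤ AddCommGrpCat.{u}}
    (a' : A ⟶ B') (π' : B' ⟶ C') (w' : a' ≫ π' = 0) (hex' : (ShortComplex.mk a' π' w').Exact)
    [Epi π']
    (a : A ⟶ B) (π : B ⟶ C) (w : a ≫ π = 0) (hex : (ShortComplex.mk a π w).Exact) [Epi π]
    (ι : B' ⟶ B) [Mono ι] (hfac : a' ≫ ι = a) (m : C' ⟶ C) (hm : π' ≫ m = ι ≫ π)
    (hloc : ∀ (U : Dᵒᵖ) (b : B.obj U), b ∈ Set.range (ι.app U) ↔
      ∃ S ∈ K' U.unop, ∀ ⦃V : D⦄ (g : V ⟶ U.unop), S g →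
        B.map g.op b ∈ Set.range (a.app (op V))) :
    IsCmp K' m := by
  have hw : ∀ U (x : A.obj U), π.app U (a.app U x) = 0 := fun U x => by
    rw [← ConcreteCategory.comp_apply, ← NatTrans.comp_app, w]; rfl
  have hw' : ∀ U (x : A.obj U), π'.app U (a'.app U x) = 0 := fun U x => by
    rw [← ConcreteCategory.comp_apply, ← NatTrans.comp_app, w']; rfl
  have hfac' : ∀ U (x : A.obj U), ι.app U (a'.app U x) = a.app U x := fun U x => by
    rw [← hfac]; rfl
  have hm' : ∀ U (b : B'.obj U), m.app U (π'.app U b) = π.app U (ι.app U b) := fun U b => by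
    have := congrArg (fun t => (ConcreteCategory.hom (t.app U)) b) hm
    exact this
  refine ⟨fun U => ?_, fun U θ => ?_⟩
  · intro x y hxy
    obtain ⟨bx, rfl⟩ := surj_of_epi π' U x
    obtain ⟨by', rfl⟩ := surj_of_epi π' U y
    rw [hm', hm', ← sub_eq_zero, ← map_sub, ← map_sub] at hxy
    obtain ⟨z, hz⟩ := exact_app hex U _ hxy
    have hz' : ι.app U (a'.app U z) = ι.app U (bx - by') := by rw [hfac']; exact hz
    have h3 := inj_of_mono ι U hz'
    rw [← sub_eq_zero, ← map_sub, ← h3, hw']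
  · constructor
    · rintro ⟨x, rfl⟩
      obtain ⟨b', rfl⟩ := surj_of_epi π' U x
      obtain ⟨S, hS, h⟩ := (hloc U (ι.app U b')).1 ⟨b', rfl⟩
      refine ⟨S, hS, fun V g hg => ?_⟩
      obtain ⟨z, hz⟩ := h g hg
      rw [hm', nat_apply, ← hz, hw]
    · rintro ⟨S, hS, h⟩
      obtain ⟨b, rfl⟩ := surj_of_epi π U θ
      have hb : b ∈ Set.range (ι.app U) := by
        rw [hloc]
        refine ⟨S, hS, fun V g hg => ?_⟩
        have h1 := h g hg
        rw [nat_apply] at h1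
        obtain ⟨z, hz⟩ := exact_app hex (op V) _ h1
        exact ⟨z, hz⟩
      obtain ⟨b', rfl⟩ := hb
      exact ⟨π'.app U b', hm' U b'⟩

/-- sections of the image sheaf: those sections which locally lift -/
lemma loc_iff {K' : GrothendieckTopology D} {A B : Dᵒᵖ ⥤ AddCommGrpCat.{u}}
    (hB : Presheaf.IsSheaf K' B) {Q' : Sheaf K' AddCommGrpCat.{u}} (a : A ⟶ B) (p : A ⟶ Q'.obj)
    (ι : Q'.obj ⟶ B) [Presheaf.IsLocallySurjective K' p]
    (hι : ∀ U, Function.Injective (ι.app U)) (fac : p ≫ ι = a) (U : Dᵒᵖ) (b : B.obj U) :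
    b ∈ Set.range (ι.app U) ↔
      ∃ S ∈ K' U.unop, ∀ ⦃V : D⦄ (g : V ⟶ U.unop), S g →
        B.map g.op b ∈ Set.range (a.app (op V)) := by
  have hfac : ∀ V (t : A.obj V), ι.app V (p.app V t) = a.app V t := fun V t => by
    rw [← fac]; rfl
  constructor
  · rintro ⟨b', rfl⟩
    refine ⟨Presheaf.imageSieve (U := U.unop) p b', Presheaf.imageSieve_mem K' p b',
      fun V g hg => ?_⟩
    obtain ⟨t, ht⟩ := hg
    refine ⟨t, ?_⟩
    rw [nat_apply, ← ht, hfac]
  · rintro ⟨S, hS, h⟩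
    have hQ' := (isSheaf_iff_isSheaf_of_type _ _).1
      ((Presheaf.isSheaf_iff_isSheaf_forget K' Q'.obj (forget AddCommGrpCat.{u})).1 Q'.property)
    have hB' := (isSheaf_iff_isSheaf_of_type _ _).1
      ((Presheaf.isSheaf_iff_isSheaf_forget K' B (forget AddCommGrpCat.{u})).1 hB)
    let x : Presieve.FamilyOfElements (Q'.obj ⋙ forget AddCommGrpCat.{u}) S.arrows :=
      fun V g hg => p.app (op V) (h g hg).choose
    have hx : x.Compatible := by
      rw [Presieve.compatible_iff_sieveCompatible]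
      intro V W g k hg
      apply hι (op W)
      show ι.app (op W) (p.app (op W) (h (k ≫ g) (S.downward_closed hg k)).choose) =
        ι.app (op W) (Q'.obj.map k.op (p.app (op V) (h g hg).choose))
      rw [hfac, (h (k ≫ g) (S.downward_closed hg k)).choose_spec, ← nat_apply (U := op V), hfac,
        (h g hg).choose_spec, op_comp, B.map_comp]
      rfl
    let b' := (hQ' S hS).amalgamate x hx
    have hb' : ∀ (V : D) (g : V ⟶ U.unop) (hg : S g), Q'.obj.map g.op b' = x g hg :=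
      fun V g hg => (hQ' S hS).valid_glue hx g hg
    refine ⟨b', ?_⟩
    refine (hB'.isSeparated S hS).ext ?_
    intro V g hg
    show B.map g.op (ι.app U b') = B.map g.op b
    rw [nat_apply, hb' V g hg]
    show ι.app (op V) (p.app (op V) (h g hg).choose) = _
    rw [hfac, (h g hg).choose_spec]


variable {K K' : GrothendieckTopology D} (hle : K' ≤ K)

/-- the base case: `H¹` -/
theorem base (G : Sheaf K AddCommGrpCat.{u}) :
    ∃ c : (Sheaf.cohomologyPresheafFunctor.{u} K' 1).obj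
        ((SiteCmp.epsSh hle AddCommGrpCat.{u}).obj G) ⟶
        (Sheaf.cohomologyPresheafFunctor.{u} K 1).obj G, IsCmp K' c := by
  haveI := SiteCmp.idContinuous hle
  obtain ⟨S, hS, hI, rfl⟩ := exists_injSC K G
  let E := SiteCmp.epsSh hle AddCommGrpCat.{u}
  let φ : E.obj S.X₂ ⟶ E.obj S.X₃ := E.map S.g
  let Q' : Sheaf K' AddCommGrpCat.{u} := Abelian.image φ
  let p : E.obj S.X₂ ⟶ Q' := Abelian.factorThruImage φ
  let ι : Q' ⟶ E.obj S.X₃ := Abelian.image.ι φ
  have fac : p ≫ ι = φ := Abelian.image.fac φ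
  haveI : Epi p := inferInstanceAs (Epi (Abelian.factorThruImage φ))
  haveI : Mono ι := inferInstanceAs (Mono (Abelian.image.ι φ))
  haveI : Mono S.f := hS.mono_f
  haveI : Mono (E.map S.f) := inferInstance
  have w : E.map S.f ≫ p = 0 := by
    rw [← cancel_mono ι, Category.assoc, fac, zero_comp, ← E.map_comp, S.zero, E.map_zero]
  let S' : ShortComplex (Sheaf K' AddCommGrpCat.{u}) := ShortComplex.mk (E.map S.f) p w
  have hS' : S'.ShortExact := by
    have hex : (S.map E).Exact :=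
      hS.exact.map_of_mono_of_preservesKernel _ hS.mono_f inferInstance
    let ψ : S' ⟶ S.map E :=
      { τ₁ := 𝟙 _
        τ₂ := 𝟙 _
        τ₃ := ι
        comm₁₂ := by
          show 𝟙 _ ≫ E.map S.f = E.map S.f ≫ 𝟙 _
          rw [Category.id_comp, Category.comp_id]
        comm₂₃ := by
          show 𝟙 _ ≫ E.map S.g = p ≫ ι
          rw [Category.id_comp, fac] }
    haveI : Epi ψ.τ₁ := inferInstanceAs (Epi (𝟙 _))
    haveI : IsIso ψ.τ₂ := inferInstanceAs (IsIso (𝟙 _))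
    haveI : Mono ψ.τ₃ := inferInstanceAs (Mono ι)
    exact { exact := (ShortComplex.exact_iff_of_epi_of_isIso_of_mono ψ).2 hex
            mono_f := inferInstanceAs (Mono (E.map S.f))
            epi_g := inferInstanceAs (Epi p) }
  obtain ⟨δ, w₁, w₂, h₁, h₂⟩ := hasLES_cohomologyPresheaf S hS 0
  obtain ⟨δ', w₁', w₂', h₁', h₂'⟩ := hasLES_cohomologyPresheaf S' hS' 0
  haveI : Epi δ := h₂.epi_f ((isZero_cohomologyPresheaf_of_injective S.X₂ 0).eq_of_tgt _ _)
  haveI := injective_eps hle S.X₂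
  haveI : Epi δ' :=
    h₂'.epi_f ((isZero_cohomologyPresheaf_of_injective (E.obj S.X₂) 0).eq_of_tgt _ _)
  let cK' := coh0Iso (J := K')
  -- `(εF).obj ≅ H⁰_K(F)`
  let j : E ⋙ sheafToPresheaf K' AddCommGrpCat.{u} ≅ Sheaf.cohomologyPresheafFunctor.{u} K 0 :=
    Functor.isoWhiskerLeft E cK'.symm ≪≫ (e0 hle).symm
  have jnat : φ.hom ≫ j.hom.app S.X₃ =
      j.hom.app S.X₂ ≫ (Sheaf.cohomologyPresheafFunctor.{u} K 0).map S.g :=
    j.hom.naturality S.g
  have cnat : p.hom ≫ cK'.inv.app Q' =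
      cK'.inv.app (E.obj S.X₂) ≫ (Sheaf.cohomologyPresheafFunctor.{u} K' 0).map p :=
    cK'.inv.naturality p
  have cnat' : (Sheaf.cohomologyPresheafFunctor.{u} K' 0).map p ≫ cK'.hom.app Q' =
      cK'.hom.app (E.obj S.X₂) ≫ p.hom :=
    cK'.hom.naturality p
  have hfac : p.hom ≫ ι.hom = φ.hom := by
    rw [← fac]; rfl
  -- the two right exact sequences of presheaves
  have w₀ : φ.hom ≫ j.hom.app S.X₃ ≫ δ = 0 := by
    rw [reassoc_of% jnat, w₁, comp_zero]
  have w₀' : p.hom ≫ cK'.inv.app Q' ≫ δ' = 0 := by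
    rw [reassoc_of% cnat]
    have : (Sheaf.cohomologyPresheafFunctor.{u} K' 0).map p ≫ δ' = 0 := w₁'
    rw [this, comp_zero]
  have hex₀ : (ShortComplex.mk φ.hom (j.hom.app S.X₃ ≫ δ) w₀).Exact := by
    let ψ : ShortComplex.mk φ.hom (j.hom.app S.X₃ ≫ δ) w₀ ⟶
        ShortComplex.mk ((Sheaf.cohomologyPresheafFunctor.{u} K 0).map S.g) δ w₁ :=
      { τ₁ := j.hom.app S.X₂
        τ₂ := j.hom.app S.X₃
        τ₃ := 𝟙 _
        comm₁₂ := jnat.symm
        comm₂₃ := by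
          show (j.hom.app S.X₃ ≫ δ) ≫ 𝟙 _ = j.hom.app S.X₃ ≫ δ
          rw [Category.comp_id] }
    haveI : Epi ψ.τ₁ := inferInstanceAs (Epi (j.hom.app S.X₂))
    haveI : IsIso ψ.τ₂ := inferInstanceAs (IsIso (j.hom.app S.X₃))
    haveI : Mono ψ.τ₃ := inferInstanceAs (Mono (𝟙 _))
    exact (ShortComplex.exact_iff_of_epi_of_isIso_of_mono ψ).2 h₁
  have hex₀' : (ShortComplex.mk p.hom (cK'.inv.app Q' ≫ δ') w₀').Exact := by
    let ψ : ShortComplex.mk p.hom (cK'.inv.app Q' ≫ δ') w₀' ⟶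
        ShortComplex.mk ((Sheaf.cohomologyPresheafFunctor.{u} K' 0).map S'.g) δ' w₁' :=
      { τ₁ := cK'.inv.app (E.obj S.X₂)
        τ₂ := cK'.inv.app Q'
        τ₃ := 𝟙 _
        comm₁₂ := cnat.symm
        comm₂₃ := by
          show (cK'.inv.app Q' ≫ δ') ≫ 𝟙 _ = cK'.inv.app Q' ≫ δ'
          rw [Category.comp_id] }
    haveI : Epi ψ.τ₁ := inferInstanceAs (Epi (cK'.inv.app (E.obj S.X₂)))
    haveI : IsIso ψ.τ₂ := inferInstanceAs (IsIso (cK'.inv.app Q'))
    haveI : Mono ψ.τ₃ := inferInstanceAs (Mono (𝟙 _))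
    exact (ShortComplex.exact_iff_of_epi_of_isIso_of_mono ψ).2 h₁'
  -- the comparison map
  have hk : (Sheaf.cohomologyPresheafFunctor.{u} K' 0).map S'.g ≫
      (cK'.hom.app Q' ≫ ι.hom ≫ j.hom.app S.X₃ ≫ δ) = 0 := by
    show (Sheaf.cohomologyPresheafFunctor.{u} K' 0).map p ≫
      (cK'.hom.app Q' ≫ ι.hom ≫ j.hom.app S.X₃ ≫ δ) = 0
    rw [reassoc_of% cnat', reassoc_of% hfac, w₀, comp_zero]
  obtain ⟨c, hc⟩ := h₁'.desc' _ hk
  have hc' : δ' ≫ c = cK'.hom.app Q' ≫ ι.hom ≫ j.hom.app S.X₃ ≫ δ := hc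
  have hm : (cK'.inv.app Q' ≫ δ') ≫ c = ι.hom ≫ j.hom.app S.X₃ ≫ δ := by
    rw [Category.assoc, hc', Iso.inv_hom_id_app_assoc]
  haveI : Mono ι.hom :=
    inferInstanceAs (Mono ((sheafToPresheaf K' AddCommGrpCat.{u}).map ι))
  haveI : Presheaf.IsLocallySurjective K' p.hom :=
    (Sheaf.isLocallySurjective_iff_epi' AddCommGrpCat.{u} p).2 inferInstance
  refine ⟨c, isCmp_of_exact K' p.hom (cK'.inv.app Q' ≫ δ') w₀' hex₀' φ.hom
    (j.hom.app S.X₃ ≫ δ) w₀ hex₀ ι.hom hfac c hm ?_⟩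
  intro U b
  exact loc_iff (E.obj S.X₃).property φ.hom p.hom ι.hom (inj_of_mono ι.hom) hfac U b

theorem exists_cmp' (n : ℕ) : ∀ (G : Sheaf K AddCommGrpCat.{u}), Van hle n G →
    ∃ c : (Sheaf.cohomologyPresheafFunctor.{u} K' (n + 1)).obj
        ((SiteCmp.epsSh hle AddCommGrpCat.{u}).obj G) ⟶
        (Sheaf.cohomologyPresheafFunctor.{u} K (n + 1)).obj G, IsCmp K' c := by
  induction n with
  | zero => exact fun G _ => base hle G
  | succ n ih =>
    intro G hG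
    obtain ⟨Ef⟩ := effacement hle n G hG
    obtain ⟨S, rfl, hQ, hz, hz', hl, hl'⟩ := Ef
    obtain ⟨c, hc⟩ := ih S.X₃ hQ
    obtain ⟨i₁⟩ := nonempty_iso_succ hl hz n
    obtain ⟨i₂⟩ := nonempty_iso_succ hl' hz' n
    exact ⟨i₂.inv ≫ c ≫ i₁.hom, hc.of_iso i₂.symm i₁⟩

/-- **The comparison map**: if `R^q ε G = 0` for `1 ≤ q ≤ n`, there is a morphism of presheaves
`H^{n+1}_{K'}(-, εG) ⟶ H^{n+1}_K(-, G)` which is injective on sections and whose image consists of
exactly the `K'`-locally trivial classes. -/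
theorem exists_cmp (n : ℕ) (G : Sheaf K AddCommGrpCat.{u}) (hG : Van hle n G) :
    ∃ c : (Sheaf.cohomologyPresheafFunctor.{u} K' (n + 1)).obj
        ((SiteCmp.epsSh hle AddCommGrpCat.{u}).obj G) ⟶
        (Sheaf.cohomologyPresheafFunctor.{u} K (n + 1)).obj G,
      (∀ U, Function.Injective (c.app U)) ∧
      ∀ (U : Dᵒᵖ) (θ : ((Sheaf.cohomologyPresheafFunctor.{u} K (n + 1)).obj G).obj U),
        (θ ∈ Set.range (c.app U) ↔ ∃ S ∈ K' U.unop, ∀ ⦃V : D⦄ (g : V ⟶ U.unop), S g →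
          ((Sheaf.cohomologyPresheafFunctor.{u} K (n + 1)).obj G).map g.op θ = 0) :=
  exists_cmp' hle n G hG

end Groth.Agent.Helper6.RelocD
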