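import Mathlib
import Groth.Prelude.Def_SiteCmp
import Groth.Agent.Helper6.RelocD
import Groth.Agent.Helper6.KillEq

set_option autoImplicit false
set_option linter.style.haveILetI false
set_option linter.unusedSectionVars false
set_option linter.unusedVariables false
set_option linter.unusedSimpArgs false

/-!
# Comparing two topologies: `R^n ε G = 0` iff every class of `H^n_K(U, G)` is `K'`-locally trivial;
general lemmas on locally zero sections
-/

namespace Groth.Agent.Helper6.RelocE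
open CategoryTheory Limits Opposite Groth.Agent.Helper1.SiteCoh Groth.Agent.Helper6.RelocA
  Groth.Agent.Helper6.RelocD

universe u
variable {D : Type u} [SmallCategory D]

lemma LocZero.zero (K' : GrothendieckTopology D) (P : Dᵒᵖ ⥤ AddCommGrpCat.{u}) (U : Dᵒᵖ) :
    LocZero K' P (0 : P.obj U) :=
  ⟨⊤, K'.top_mem _, fun V g _ => map_zero _⟩

/-- restriction of a locally zero section is locally zero -/
lemma LocZero.map {K' : GrothendieckTopology D} {P : Dᵒᵖ ⥤ AddCommGrpCat.{u}} {U : Dᵒᵖ}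
    {θ : P.obj U} (h : LocZero K' P θ) {V : D} (g : V ⟶ U.unop) :
    LocZero K' P (U := op V) (P.map g.op θ) := by
  obtain ⟨S, hS, hz⟩ := h
  refine ⟨S.pullback g, K'.pullback_stable g hS, fun W k hk => ?_⟩
  have h1 := hz (k ≫ g) hk
  rw [op_comp, P.map_comp] at h1
  exact h1

/-- locally zero is a local property -/
lemma LocZero.of_local {K' : GrothendieckTopology D} {P : Dᵒᵖ ⥤ AddCommGrpCat.{u}} {U : Dᵒᵖ}
    {θ : P.obj U} (S : Sieve U.unop) (hS : S ∈ K' U.unop)
    (h : ∀ ⦃V : D⦄ (g : V ⟶ U.unop), S g → LocZero K' P (U := op V) (P.map g.op θ)) :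
    LocZero K' P θ := by
  choose R hR hz using h
  refine ⟨Sieve.bind S.arrows (@fun V g hg => R g hg),
    K'.bind_covering hS (@fun V g hg => hR g hg), ?_⟩
  rintro W k ⟨V, a, g, hg, ha, rfl⟩
  have h1 := hz g hg a ha
  rw [op_comp, P.map_comp]
  exact h1

/-- the image of a locally zero section is locally zero -/
lemma LocZero.of_nat {K' : GrothendieckTopology D} {P R : Dᵒᵖ ⥤ AddCommGrpCat.{u}} (φ : P ⟶ R)
    {U : Dᵒᵖ} {θ : P.obj U} (h : LocZero K' P θ) : LocZero K' R (φ.app U θ) := by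
  obtain ⟨S, hS, hz⟩ := h
  refine ⟨S, hS, fun V g hg => ?_⟩
  rw [nat_apply, hz g hg, map_zero]

/-- a finer topology has more locally zero sections -/
lemma LocZero.of_le {K K' : GrothendieckTopology D} (hle : K' ≤ K)
    {P : Dᵒᵖ ⥤ AddCommGrpCat.{u}} {U : Dᵒᵖ} {θ : P.obj U} (h : LocZero K' P θ) :
    LocZero K P θ := by
  obtain ⟨S, hS, hz⟩ := h
  exact ⟨S, hle _ hS, hz⟩

lemma toSheafify_eq_zero_of_locZero (K' : GrothendieckTopology D)
    (P : Dᵒᵖ ⥤ AddCommGrpCat.{u}) {U : Dᵒᵖ} (θ : P.obj U) (h : LocZero K' P θ) :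
    (toSheafify K' P).app U θ = 0 := by
  obtain ⟨S, hS, hz⟩ := h
  apply Groth.Agent.Helper6.KillEq.eq_zero_of_sieve (L := K') (Z := U.unop)
    ((presheafToSheaf K' AddCommGrpCat.{u}).obj P).property S hS
  intro V g hg
  have h1 := nat_apply (toSheafify K' P) g θ
  rw [hz g hg, map_zero] at h1
  exact h1

lemma locZero_of_toSheafify_eq_zero (K' : GrothendieckTopology D)
    (P : Dᵒᵖ ⥤ AddCommGrpCat.{u}) {U : Dᵒᵖ} (θ : P.obj U)
    (h : (toSheafify K' P).app U θ = 0) : LocZero K' P θ := by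
  have h0 : (toSheafify K' P).app U θ = (toSheafify K' P).app U 0 := by
    rw [h, map_zero]
  have hmem := Presheaf.equalizerSieve_mem K' (toSheafify K' P) θ 0 h0
  refine ⟨Presheaf.equalizerSieve θ 0, hmem, fun V g hg => ?_⟩
  have h1 : P.map g.op θ = P.map g.op 0 := hg
  rw [h1, map_zero]

/-- the sheafification of a presheaf all of whose sections are locally zero is zero -/
lemma isZero_sheafify_of_locZero (K' : GrothendieckTopology D) (P : Dᵒᵖ ⥤ AddCommGrpCat.{u})
    (h : ∀ (U : Dᵒᵖ) (θ : P.obj U), LocZero K' P θ) :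
    IsZero ((presheafToSheaf K' AddCommGrpCat.{u}).obj P) := by
  have h0 : toSheafify K' P = 0 := by
    ext U θ
    exact toSheafify_eq_zero_of_locZero K' P θ (h U θ)
  rw [IsZero.iff_id_eq_zero]
  apply Sheaf.hom_ext
  apply sheafify_hom_ext K' _ _ ((presheafToSheaf K' AddCommGrpCat.{u}).obj P).property
  rw [h0, zero_comp, zero_comp]

lemma locZero_of_isZero_sheafify (K' : GrothendieckTopology D) (P : Dᵒᵖ ⥤ AddCommGrpCat.{u})
    (hz : IsZero ((presheafToSheaf K' AddCommGrpCat.{u}).obj P)) {U : Dᵒᵖ} (θ : P.obj U) :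
    LocZero K' P θ := by
  apply locZero_of_toSheafify_eq_zero
  have hz' : IsZero (sheafify K' P) :=
    (sheafToPresheaf K' AddCommGrpCat.{u}).map_isZero hz
  have : toSheafify K' P = 0 := hz'.eq_of_tgt _ _
  rw [this]
  rfl

variable {K K' : GrothendieckTopology D} (hle : K' ≤ K)

/-- **Reduction**: `R^n ε_* G = 0` iff every class in `H^n_K(U, G)` is `K'`-locally trivial -/
theorem isZero_Reps_iff (n : ℕ) (G : Sheaf K AddCommGrpCat.{u}) :
    IsZero (((SiteCmp.epsSh hle AddCommGrpCat.{u}).rightDerived n).obj G) ↔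
      ∀ (U : Dᵒᵖ) (θ : ((Sheaf.cohomologyPresheafFunctor.{u} K n).obj G).obj U),
        LocZero K' ((Sheaf.cohomologyPresheafFunctor.{u} K n).obj G) θ := by
  haveI := SiteCmp.idContinuous hle
  have e := (RpushIso K K' (𝟭 D) n).app G
  rw [Iso.isZero_iff e]
  constructor
  · intro hz U θ
    exact locZero_of_isZero_sheafify K' _ hz θ
  · intro h
    exact isZero_sheafify_of_locZero K' _ (fun U θ => h U θ)

end Groth.Agent.Helper6.RelocE
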