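import Mathlib
import Groth.Prelude.Def_SiteCmp
import Groth.Prelude.Def_WeakSerre
import Groth.Agent.Helper9.KillClass
import Groth.Agent.Helper6.RelocE
import Groth.Agent.Helper6.EqClass
import Groth.Agent.S9075

set_option autoImplicit false
set_option linter.style.haveILetI false
set_option linter.unusedSectionVars false
set_option linter.unusedVariables false
set_option linter.unusedSimpArgs false

/-!
# Comparing two topologies: the induction step `V n ∧ Step3 n ⇒ V (n + 1)`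
-/

namespace Groth.Agent.Helper6.CmpInd
open CategoryTheory Limits Opposite Groth.Agent.Helper6.RelocA Groth.Agent.Helper6.RelocD
  Groth.Agent.Helper6.RelocE Groth.Agent.Helper6.LocCoh Groth.Agent.Helper6.EqClass

universe u
variable {C : Type u} [SmallCategory C]

/-- cohomology presheaf on `Over Y` -/
noncomputable abbrev Hp (T : GrothendieckTopology C) (Y : C) (m : ℕ)
    (G : Sheaf (T.over Y) AddCommGrpCat.{u}) : (Over Y)ᵒᵖ ⥤ AddCommGrpCat.{u} :=
  (Sheaf.cohomologyPresheafFunctor.{u} (T.over Y) m).obj G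

/-- restriction of sheaves along `Over.map y` -/
noncomputable abbrev pb (T : GrothendieckTopology C) {Z' Y : C} (y : Z' ⟶ Y) :
    Sheaf (T.over Y) AddCommGrpCat.{u} ⥤ Sheaf (T.over Z') AddCommGrpCat.{u} :=
  CohSite.push (T.over Y) (T.over Z') (Over.map y)

/-- base change for cohomology presheaves -/
noncomputable def bc (T : GrothendieckTopology C) {Z' Y : C} (y : Z' ⟶ Y) (m : ℕ)
    (G : Sheaf (T.over Y) AddCommGrpCat.{u}) :
    (Over.map y).op ⋙ Hp T Y m G ≅ Hp T Z' m ((pb T y).obj G) :=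
  (locIsoOver T y m).app G

lemma locZero_of_overMap (T' : GrothendieckTopology C) {Z' Y : C} (y : Z' ⟶ Y)
    (H : (Over Y)ᵒᵖ ⥤ AddCommGrpCat.{u}) {W : (Over Z')ᵒᵖ}
    (θ : ((Over.map y).op ⋙ H).obj W) (hθ : LocZero (T'.over Z') ((Over.map y).op ⋙ H) θ) :
    LocZero (T'.over Y) H (U := op ((Over.map y).obj W.unop)) θ := by
  obtain ⟨R, hR, hz⟩ := hθ
  refine ⟨Sieve.functorPushforward (Over.map y) R,
    (T'.over_map_coverPreserving y).cover_preserve hR, ?_⟩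
  rintro V k ⟨V₀, g, a, hg, rfl⟩
  have h1 : H.map ((Over.map y).map g).op θ = 0 := hz g hg
  rw [op_comp, H.map_comp]
  show H.map a.op (H.map ((Over.map y).map g).op θ) = 0
  rw [h1, map_zero]

lemma overMap_locZero (T' : GrothendieckTopology C) {Z' Y : C} (y : Z' ⟶ Y)
    (H : (Over Y)ᵒᵖ ⥤ AddCommGrpCat.{u}) {W : (Over Z')ᵒᵖ}
    (θ : ((Over.map y).op ⋙ H).obj W)
    (hθ : LocZero (T'.over Y) H (U := op ((Over.map y).obj W.unop)) θ) :
    LocZero (T'.over Z') ((Over.map y).op ⋙ H) θ := by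
  obtain ⟨R, hR, hz⟩ := hθ
  refine ⟨Sieve.functorPullback (Over.map y) R,
    (Over.map y).cover_lift (T'.over Z') (T'.over Y) hR, ?_⟩
  intro V g hg
  exact hz ((Over.map y).map g) hg

/-- the structure map to the terminal object -/
abbrev tT {Z' Y : C} (y : Z' ⟶ Y) : Over.mk y ⟶ Over.mk (𝟙 Y) := Over.homMk y (by simp)

/-- `(Over.map y)(id) ≅ y` -/
abbrev eT {Z' Y : C} (y : Z' ⟶ Y) : (Over.map y).obj (Over.mk (𝟙 Z')) ⟶ Over.mk y :=
  Over.homMk (𝟙 Z') (by simp)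

abbrev eTinv {Z' Y : C} (y : Z' ⟶ Y) : Over.mk y ⟶ (Over.map y).obj (Over.mk (𝟙 Z')) :=
  Over.homMk (𝟙 Z') (by simp)

lemma eTinv_eT {Z' Y : C} (y : Z' ⟶ Y) : eTinv y ≫ eT y = 𝟙 _ := by
  apply Over.OverMorphism.ext
  simp

/-- restriction along `p` over the base `y` -/
abbrev rP {W Z' Y : C} (y : Z' ⟶ Y) (p : W ⟶ Z') : (Over.map y).obj (Over.mk p) ⟶ Over.mk y :=
  Over.homMk p (by simp)

abbrev rT {W Z' : C} (p : W ⟶ Z') : Over.mk p ⟶ Over.mk (𝟙 Z') := Over.homMk p (by simp)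


lemma map_comp_apply {𝒟 : Type u} [SmallCategory 𝒟] (H : 𝒟ᵒᵖ ⥤ AddCommGrpCat.{u}) {A B E : 𝒟}
    (a : A ⟶ B) (b : B ⟶ E) (θ : H.obj (op E)) :
    H.map a.op (H.map b.op θ) = H.map (a ≫ b).op θ := by
  rw [op_comp, H.map_comp]
  rfl

/-- the class over the terminal object of `Over Z'` corresponding to a class over `y` -/
noncomputable def tcls (T : GrothendieckTopology C) {Z' Y : C} (y : Z' ⟶ Y) (m : ℕ)
    (G : Sheaf (T.over Y) AddCommGrpCat.{u}) (θ : (Hp T Y m G).obj (op (Over.mk y))) :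
    (Hp T Z' m ((pb T y).obj G)).obj (op (Over.mk (𝟙 Z'))) :=
  (bc T y m G).hom.app (op (Over.mk (𝟙 Z'))) ((Hp T Y m G).map (eT y).op θ)

lemma locZero_of_tcls (T T' : GrothendieckTopology C) {Z' Y : C} (y : Z' ⟶ Y) (m : ℕ)
    (G : Sheaf (T.over Y) AddCommGrpCat.{u}) (θ : (Hp T Y m G).obj (op (Over.mk y)))
    (hl : LocZero (T'.over Z') (Hp T Z' m ((pb T y).obj G)) (tcls T y m G θ)) :
    LocZero (T'.over Y) (Hp T Y m G) θ := by
  have h1 : LocZero (T'.over Z') ((Over.map y).op ⋙ Hp T Y m G)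
      (U := op (Over.mk (𝟙 Z'))) ((Hp T Y m G).map (eT y).op θ) := by
    have h0 := (locZero_iso_iff (T'.over Z') (bc T y m G) (tcls T y m G θ)).2 hl
    rw [tcls, hom_inv_apply] at h0
    exact h0
  have h2 := locZero_of_overMap T' y (Hp T Y m G) (W := op (Over.mk (𝟙 Z'))) _ h1
  have h3 := LocZero.map (U := op ((Over.map y).obj (Over.mk (𝟙 Z')))) h2 (eTinv y)
  have h4 : (Hp T Y m G).map (eTinv y).op ((Hp T Y m G).map (eT y).op θ) = θ := by
    rw [map_comp_apply, eTinv_eT, op_id, CategoryTheory.Functor.map_id]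
    rfl
  rw [h4] at h3
  exact h3

lemma tcls_res (T : GrothendieckTopology C) {W Z' Y : C} (y : Z' ⟶ Y) (p : W ⟶ Z') (m : ℕ)
    (G : Sheaf (T.over Y) AddCommGrpCat.{u}) (θ : (Hp T Y m G).obj (op (Over.mk y))) :
    (Hp T Z' m ((pb T y).obj G)).map (rT p).op (tcls T y m G θ) =
      (bc T y m G).hom.app (op (Over.mk p)) ((Hp T Y m G).map (rP y p).op θ) := by
  rw [tcls, nat_apply (U := op (Over.mk (𝟙 Z'))) (V := Over.mk p) (bc T y m G).hom (rT p)]
  congr 1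
  show (Hp T Y m G).map ((Over.map y).map (rT p)).op ((Hp T Y m G).map (eT y).op θ) = _
  rw [map_comp_apply]
  have e : (Over.map y).map (rT p) ≫ eT y = rP y p := by
    apply Over.OverMorphism.ext
    simp
  rw [e]


lemma cov_of_isPullback (T : GrothendieckTopology C) {X Y Y' W : C} {f : X ⟶ Y} {g : Y' ⟶ Y}
    {p : W ⟶ Y'} {q : W ⟶ X} (hpb : IsPullback p q g f)
    (hcov : Sieve.ofArrows (fun _ : PUnit.{u + 1} => X) (fun _ => f) ∈ T Y) :
    Sieve.ofArrows (fun _ : PUnit.{u + 1} => W) (fun _ => p) ∈ T Y' := by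
  refine T.superset_covering ?_ (T.pullback_stable g hcov)
  intro B t ht
  obtain ⟨_, a, ha⟩ := (Sieve.mem_ofArrows_iff _ _ _).1 ht
  exact (Sieve.mem_ofArrows_iff _ _ _).2
    ⟨PUnit.unit, hpb.lift t a ha, (hpb.lift_fst t a ha).symm⟩

section Main

variable {J J' : GrothendieckTopology C} (h : J' ≤ J) (P : MorphismProperty C)
  (A' : ∀ X : C, ObjectProperty (Sheaf (J'.over X) AddCommGrpCat.{u}))

/-- `ε_{X,*}` -/
noncomputable abbrev epsX (X : C) :
    Sheaf (J.over X) AddCommGrpCat.{u} ⥤ Sheaf (J'.over X) AddCommGrpCat.{u} :=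
  SiteCmp.epsSh (SiteCmp.over_le h X) AddCommGrpCat.{u}

/-- the vanishing statement up to degree `n` -/
def V (n : ℕ) : Prop :=
  ∀ (X : C) (F : Sheaf (J.over X) AddCommGrpCat.{u}), A' X ((epsX h X).obj F) →
    ∀ i : ℕ, 1 ≤ i → i ≤ n → IsZero (((epsX h X).rightDerived i).obj F)

/-- a class over the terminal object which dies on a single `P`-covering is `J'`-locally trivial -/
def Step3 (n : ℕ) : Prop :=
  ∀ ⦃X Y : C⦄ (f : X ⟶ Y), P f →
    Sieve.ofArrows (fun _ : PUnit.{u + 1} => X) (fun _ => f) ∈ J Y →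
    ∀ (G : Sheaf (J.over Y) AddCommGrpCat.{u}), A' Y ((epsX h Y).obj G) →
    ∀ θ : (Hp J Y (n + 1) G).obj (op (Over.mk (𝟙 Y))),
      (Hp J Y (n + 1) G).map (rT f).op θ = 0 → LocZero (J'.over Y) (Hp J Y (n + 1) G) θ

/-- a class over the terminal object which is `J'`-locally trivial on a single `P`-covering is
`J'`-locally trivial -/
def Core (n : ℕ) : Prop :=
  ∀ ⦃X Y : C⦄ (f : X ⟶ Y), P f →
    Sieve.ofArrows (fun _ : PUnit.{u + 1} => X) (fun _ => f) ∈ J Y →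
    ∀ (G : Sheaf (J.over Y) AddCommGrpCat.{u}), A' Y ((epsX h Y).obj G) →
    ∀ θ : (Hp J Y (n + 1) G).obj (op (Over.mk (𝟙 Y))),
      LocZero (J'.over Y) (Hp J Y (n + 1) G) (U := op (Over.mk f))
        ((Hp J Y (n + 1) G).map (rT f).op θ) →
      LocZero (J'.over Y) (Hp J Y (n + 1) G) θ

variable (h2 : ∀ ⦃X Y : C⦄ (f : X ⟶ Y) (F' : Sheaf (J'.over Y) AddCommGrpCat.{u}), A' Y F' →
      A' X ((CohSite.push (J'.over Y) (J'.over X) (Over.map f)).obj F'))

include h2 in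
lemma A'pb {Z' Y : C} (y : Z' ⟶ Y) (G : Sheaf (J.over Y) AddCommGrpCat.{u})
    (hG : A' Y ((epsX h Y).obj G)) : A' Z' ((epsX h Z').obj ((pb J y).obj G)) :=
  h2 y _ hG

include h2 in
lemma step3_lift (n : ℕ) (hS3 : Step3 h P A' n) {W Z' Y : C} (y : Z' ⟶ Y) (p : W ⟶ Z')
    (hp : P p) (hcov : Sieve.ofArrows (fun _ : PUnit.{u + 1} => W) (fun _ => p) ∈ J Z')
    (G : Sheaf (J.over Y) AddCommGrpCat.{u}) (hG : A' Y ((epsX h Y).obj G))
    (θ : (Hp J Y (n + 1) G).obj (op (Over.mk y)))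
    (hθ : (Hp J Y (n + 1) G).map (rP y p).op θ = 0) :
    LocZero (J'.over Y) (Hp J Y (n + 1) G) θ := by
  apply locZero_of_tcls J J' y (n + 1) G θ
  apply hS3 p hp hcov ((pb J y).obj G) (A'pb h A' h2 y G hG)
  rw [tcls_res, hθ, map_zero]

include h2 in
lemma core_lift (n : ℕ) (hC : Core h P A' n) {W Z' Y : C} (y : Z' ⟶ Y) (p : W ⟶ Z')
    (hp : P p) (hcov : Sieve.ofArrows (fun _ : PUnit.{u + 1} => W) (fun _ => p) ∈ J Z')
    (G : Sheaf (J.over Y) AddCommGrpCat.{u}) (hG : A' Y ((epsX h Y).obj G))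
    (θ : (Hp J Y (n + 1) G).obj (op (Over.mk y)))
    (hθ : LocZero (J'.over Y) (Hp J Y (n + 1) G) (U := op ((Over.map y).obj (Over.mk p)))
      ((Hp J Y (n + 1) G).map (rP y p).op θ)) :
    LocZero (J'.over Y) (Hp J Y (n + 1) G) θ := by
  apply locZero_of_tcls J J' y (n + 1) G θ
  apply hC p hp hcov ((pb J y).obj G) (A'pb h A' h2 y G hG)
  rw [tcls_res]
  have h1 := overMap_locZero J' y (Hp J Y (n + 1) G) (W := op (Over.mk p)) _ hθ
  exact LocZero.of_nat (bc J y (n + 1) G).hom h1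


variable [∀ X : C, WSerre.IsWeakSerre (A' X)]
  (h1 : ∀ ⦃X Y : C⦄ (f : X ⟶ Y), P f → ∀ ⦃Y' : C⦄ (g : Y' ⟶ Y),
      ∃ (W : C) (p : W ⟶ Y') (q : W ⟶ X), IsPullback p q g f ∧ P p)
  (h3 : ∀ (X : C) (F' : Sheaf (J'.over X) AddCommGrpCat.{u}), A' X F' →
      Presheaf.IsSheaf (J.over X) F'.obj)
  (h4 : ∀ ⦃X Y : C⦄ (f : X ⟶ Y)
      [((Over.map f).sheafPushforwardCocontinuous AddCommGrpCat.{u} (J'.over X)
        (J'.over Y)).Additive],
      P f → ∀ (F' : Sheaf (J'.over X) AddCommGrpCat.{u}), A' X F' → ∀ i : ℕ,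
        A' Y ((((Over.map f).sheafPushforwardCocontinuous AddCommGrpCat.{u} (J'.over X)
          (J'.over Y)).rightDerived i).obj F'))
  (h5 : ∀ (U : C) (S : Sieve U), S ∈ J U → ∃ (ι : Type u) (V : ι → C) (v : ∀ j, V j ⟶ U),
      Sieve.ofArrows V v ∈ J' U ∧ ∀ j, ∃ (W : C) (w : W ⟶ V j), P w ∧
        Sieve.ofArrows (fun _ : PUnit.{u + 1} => W) (fun _ => w) ∈ J (V j) ∧
        ∃ (κ : Type u) (Wk : κ → C) (wk : ∀ k, Wk k ⟶ W), Sieve.ofArrows Wk wk ∈ J' W ∧
          ∀ k, S.arrows (wk k ≫ w ≫ v j))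

include h1 h2 h3 h4 h5 in
/-- **Step 2**: from `V n` and Step 3 -/
theorem core (n : ℕ) (hV : V h A' n) (hS3 : Step3 h P A' n) : Core h P A' n := by
  intro X Y f hf hcov G hG θ hloc
  have hVan : Van (SiteCmp.over_le h Y) n G := fun q hq1 hq2 => hV Y G hG q hq1 hq2
  obtain ⟨c, hcinj, hcrange⟩ := exists_cmp (SiteCmp.over_le h Y) n G hVan
  obtain ⟨ρ', hρ'⟩ := (hcrange (op (Over.mk f)) _).2 hloc
  have hnat : ∀ {A B : Over Y} (k : A ⟶ B)
      (x : (Hp J' Y (n + 1) ((epsX h Y).obj G)).obj (op B)),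
      c.app (op A) ((Hp J' Y (n + 1) ((epsX h Y).obj G)).map k.op x) =
        (Hp J Y (n + 1) G).map k.op (c.app (op B) x) :=
    fun {A B} k x => (nat_apply (U := op B) (V := A) c k x).symm
  have heq : ∀ (W : C) (p q : W ⟶ X) (hW : IsPullback p q f f),
      CohSite.res ((epsX h Y).obj G) (n + 1)
          (Over.homMk p rfl : Over.mk (p ≫ f) ⟶ Over.mk f) ρ' =
        CohSite.res ((epsX h Y).obj G) (n + 1)
          (Over.homMk q hW.w.symm : Over.mk (p ≫ f) ⟶ Over.mk f) ρ' := by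
    intro W p q hW
    apply hcinj (op (Over.mk (p ≫ f)))
    show c.app _ ((Hp J' Y (n + 1) ((epsX h Y).obj G)).map
        (Over.homMk p rfl : Over.mk (p ≫ f) ⟶ Over.mk f).op ρ') =
      c.app _ ((Hp J' Y (n + 1) ((epsX h Y).obj G)).map
        (Over.homMk q hW.w.symm : Over.mk (p ≫ f) ⟶ Over.mk f).op ρ')
    rw [hnat, hnat, hρ', map_comp_apply, map_comp_apply]
    have e : (Over.homMk p rfl : Over.mk (p ≫ f) ⟶ Over.mk f) ≫ rT f =
        (Over.homMk q hW.w.symm : Over.mk (p ≫ f) ⟶ Over.mk f) ≫ rT f := by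
      apply Over.OverMorphism.ext
      simp [hW.w]
    rw [e]
  obtain ⟨ι, Zi, g, hgcov, hkill⟩ := Groth.Agent.S9075.result h P A' h1 h2 h3 h4 h5 f hf hcov
    ((epsX h Y).obj G) hG n ρ' heq
  refine LocZero.of_local ((Sieve.overEquiv (Over.mk (𝟙 Y))).symm (Sieve.ofArrows Zi g))
    (GrothendieckTopology.overEquiv_symm_mem_over _ _ _ hgcov) ?_
  intro B k hk
  rw [Sieve.overEquiv_symm_iff] at hk
  obtain ⟨i, a, ha⟩ := (Sieve.mem_ofArrows_iff _ _ _).1 hk
  have hkw : k.left = B.hom := by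
    have := Over.w k
    simpa using this
  let a' : B ⟶ Over.mk (g i) := Over.homMk a (by
    show a ≫ g i = B.hom
    rw [← ha, hkw])
  have hk' : k = a' ≫ tT (g i) := by
    apply Over.OverMorphism.ext
    simp [a', ha]
  rw [hk', ← map_comp_apply]
  apply LocZero.map (U := op (Over.mk (g i)))
  obtain ⟨W, p, q, hpb, hp⟩ := h1 f hf (g i)
  have hp_cov := cov_of_isPullback J hpb hcov
  apply step3_lift h P A' h2 n hS3 (g i) p hp hp_cov G hG
  have hk0 := hkill i W p q hpb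
  have h0 : (Hp J Y (n + 1) G).map (Over.homMk q rfl : Over.mk (q ≫ f) ⟶ Over.mk f).op
      ((Hp J Y (n + 1) G).map (rT f).op θ) = 0 := by
    rw [← hρ', ← hnat]
    have hk1 : (Hp J' Y (n + 1) ((epsX h Y).obj G)).map
        (Over.homMk q rfl : Over.mk (q ≫ f) ⟶ Over.mk f).op ρ' = 0 := hk0
    rw [hk1, map_zero]
  rw [map_comp_apply] at h0 ⊢
  let e : (Over.map (g i)).obj (Over.mk p) ⟶ Over.mk (q ≫ f) := Over.homMk (𝟙 W) (by
    show 𝟙 W ≫ q ≫ f = p ≫ g i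
    rw [Category.id_comp, hpb.w])
  have he : rP (g i) p ≫ tT (g i) =
      e ≫ ((Over.homMk q rfl : Over.mk (q ≫ f) ⟶ Over.mk f) ≫ rT f) := by
    apply Over.OverMorphism.ext
    simp [e, hpb.w]
  rw [he, ← map_comp_apply, h0, map_zero]

include h2 h5 in
/-- every class over the terminal object is `J'`-locally trivial -/
theorem main_terminal (n : ℕ) (hC : Core h P A' n) (Y : C)
    (G : Sheaf (J.over Y) AddCommGrpCat.{u}) (hG : A' Y ((epsX h Y).obj G))
    (θ : (Hp J Y (n + 1) G).obj (op (Over.mk (𝟙 Y)))) :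
    LocZero (J'.over Y) (Hp J Y (n + 1) G) θ := by
  obtain ⟨S₀, hS₀, hz⟩ := Groth.Agent.Helper9.KillClass.kill (J.over Y) n G (Over.mk (𝟙 Y)) θ
  have hS₀' : Sieve.overEquiv _ S₀ ∈ J Y := (GrothendieckTopology.mem_over_iff _ _).1 hS₀
  have key : ∀ {B' : Over Y} (m : B' ⟶ Over.mk (𝟙 Y)),
      (Sieve.overEquiv _ S₀) m.left → S₀ m := by
    intro B' m hm
    have h0 := (Sieve.overEquiv_symm_iff (Sieve.overEquiv (Over.mk (𝟙 Y)) S₀) m).2 hm
    rwa [OrderIso.symm_apply_apply] at h0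
  obtain ⟨ι, Vj, v, hvcov, hj⟩ := h5 Y _ hS₀'
  refine LocZero.of_local ((Sieve.overEquiv (Over.mk (𝟙 Y))).symm (Sieve.ofArrows Vj v))
    (GrothendieckTopology.overEquiv_symm_mem_over _ _ _ hvcov) ?_
  intro B k hk
  rw [Sieve.overEquiv_symm_iff] at hk
  obtain ⟨j, a, ha⟩ := (Sieve.mem_ofArrows_iff _ _ _).1 hk
  have hkw : k.left = B.hom := by
    have := Over.w k
    simpa using this
  let a' : B ⟶ Over.mk (v j) := Over.homMk a (by
    show a ≫ v j = B.hom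
    rw [← ha, hkw])
  have hk' : k = a' ≫ tT (v j) := by
    apply Over.OverMorphism.ext
    simp [a', ha]
  rw [hk', ← map_comp_apply]
  apply LocZero.map (U := op (Over.mk (v j)))
  obtain ⟨W, w, hw, hwcov, κ, Wk, wk, hwkcov, hmem⟩ := hj j
  apply core_lift h P A' h2 n hC (v j) w hw hwcov G hG
  refine ⟨(Sieve.overEquiv ((Over.map (v j)).obj (Over.mk w))).symm (Sieve.ofArrows Wk wk),
    GrothendieckTopology.overEquiv_symm_mem_over _ _ _ hwkcov, ?_⟩
  intro B' k' hk'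
  rw [Sieve.overEquiv_symm_iff] at hk'
  obtain ⟨κ₀, b, hb⟩ := (Sieve.mem_ofArrows_iff _ _ _).1 hk'
  rw [map_comp_apply, map_comp_apply]
  apply hz
  apply key
  have hl : ((k' ≫ rP (v j) w) ≫ tT (v j)).left = b ≫ wk κ₀ ≫ w ≫ v j := by
    simp [hb]
  rw [hl]
  exact Sieve.downward_closed _ (hmem κ₀) b

include h2 h5 in
/-- every class is `J'`-locally trivial -/
theorem main_all (n : ℕ) (hC : Core h P A' n) (Y : C)
    (G : Sheaf (J.over Y) AddCommGrpCat.{u}) (hG : A' Y ((epsX h Y).obj G))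
    (U : (Over Y)ᵒᵖ) (θ : (Hp J Y (n + 1) G).obj U) :
    LocZero (J'.over Y) (Hp J Y (n + 1) G) θ :=
  locZero_of_tcls J J' U.unop.hom (n + 1) G θ
    (main_terminal h P A' h2 h5 n hC _ ((pb J U.unop.hom).obj G)
      (A'pb h A' h2 U.unop.hom G hG) _)

include h1 h2 h3 h4 h5 in
/-- **The induction step** -/
theorem step (n : ℕ) (hV : V h A' n) (hS3 : Step3 h P A' n) : V h A' (n + 1) := by
  intro X F hF i hi1 hi2
  rcases Nat.lt_or_ge i (n + 1) with hlt | hge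
  · exact hV X F hF i hi1 (by omega)
  · obtain rfl : i = n + 1 := by omega
    exact (isZero_Reps_iff (SiteCmp.over_le h X) (n + 1) F).2
      (fun U θ => main_all h P A' h2 h5 n (core h P A' h2 h1 h3 h4 h5 n hV hS3) X F hF U θ)

include h1 h2 h3 h4 h5 in
theorem all (hS3 : ∀ n, V h A' n → Step3 h P A' n) : ∀ n, V h A' n := by
  intro n
  induction n with
  | zero =>
    intro X F hF i hi1 hi2
    omega
  | succ n ih => exact step h P A' h2 h1 h3 h4 h5 n ih (hS3 n ih)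

end Main

end Groth.Agent.Helper6.CmpInd
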