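import Mathlib
import Groth.Prelude.Def_FibClv

/-!
# Helper6: a split cleavage gives a strict functor to `Cat` (fibres and inverse images).
-/

set_option autoImplicit false
set_option linter.style.haveILetI false
set_option linter.unusedVariables false
set_option backward.isDefEq.respectTransparency false
set_option backward.isDefEq.respectTransparency.types false
universe v₁ v₂ u₁ u₂

namespace Groth.Agent.Helper6.SplitClv
open CategoryTheory Functor Opposite FibCat

variable {𝒮 : Type u₁} [Category.{v₁} 𝒮] {𝒳 : Type u₂} [Category.{v₂} 𝒳] {p : 𝒳 ⥤ 𝒮}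
  (K : FibCat.Cleavage p)

theorem obj_congr {R S : 𝒮} {a : 𝒳} (ha : p.obj a = S) {f f' : R ⟶ S} (h : f = f') :
    K.obj ha f = K.obj ha f' := by
  subst h
  rfl

theorem lift_congr {R S : 𝒮} {a : 𝒳} (ha : p.obj a = S) {f f' : R ⟶ S} (h : f = f') :
    K.lift ha f = eqToHom (obj_congr K ha h) ≫ K.lift ha f' := by
  subst h
  rw [eqToHom_refl, Category.id_comp]

theorem eq_of_comp_lift {R S : 𝒮} {a : 𝒳} (ha : p.obj a = S) (f : R ⟶ S) {a' : 𝒳}
    (ψ ψ' : a' ⟶ K.obj ha f) [p.IsHomLift (𝟙 R) ψ] [p.IsHomLift (𝟙 R) ψ']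
    (h : ψ ≫ K.lift ha f = ψ' ≫ K.lift ha f) : ψ = ψ' :=
  IsCartesian.ext p f (K.lift ha f) ψ ψ' h

theorem map_lift {R S : 𝒮} (f : R ⟶ S) {a b : p.Fiber S} (φ : a ⟶ b) :
    Fiber.fiberInclusion.map ((K.inverseImage f).map φ) ≫ K.lift b.2 f =
      K.lift a.2 f ≫ Fiber.fiberInclusion.map φ := by
  rw [Cleavage.inverseImage_map, IsCartesian.fac]

theorem obj_id_eq (hN : K.IsNormalised) {S : 𝒮} {a : 𝒳} (ha : p.obj a = S) :
    K.obj ha (𝟙 S) = a := (hN ha).choose

theorem lift_id (hN : K.IsNormalised) {S : 𝒮} {a : 𝒳} (ha : p.obj a = S) :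
    K.lift ha (𝟙 S) = eqToHom (obj_id_eq K hN ha) := (hN ha).choose_spec

theorem obj_comp_eq (hK : K.IsSplitting) {S T U : 𝒮} (f : T ⟶ S) (g : U ⟶ T) {a : 𝒳}
    (ha : p.obj a = S) : K.obj (K.obj_proj ha f) g = K.obj ha (g ≫ f) := (hK.2 f g ha).choose

theorem lift_comp (hK : K.IsSplitting) {S T U : 𝒮} (f : T ⟶ S) (g : U ⟶ T) {a : 𝒳}
    (ha : p.obj a = S) : K.lift (K.obj_proj ha f) g ≫ K.lift ha f =
      eqToHom (obj_comp_eq K hK f g ha) ≫ K.lift ha (g ≫ f) := (hK.2 f g ha).choose_spec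

theorem inverseImage_id_obj (hN : K.IsNormalised) {S : 𝒮} (a : p.Fiber S) :
    (K.inverseImage (𝟙 S)).obj a = a := Subtype.ext (obj_id_eq K hN a.2)

theorem inverseImage_comp_obj (hK : K.IsSplitting) {S T U : 𝒮} (f : T ⟶ S) (g : U ⟶ T)
    (a : p.Fiber S) :
    (K.inverseImage (g ≫ f)).obj a = (K.inverseImage g).obj ((K.inverseImage f).obj a) :=
  Subtype.ext (obj_comp_eq K hK f g a.2).symm

theorem inverseImage_id (hN : K.IsNormalised) (S : 𝒮) :
    K.inverseImage (𝟙 S) = 𝟭 (p.Fiber S) := by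
  refine CategoryTheory.Functor.ext (fun a => inverseImage_id_obj K hN a) (fun a b φ => ?_)
  apply Fiber.hom_ext
  apply eq_of_comp_lift K b.2 (𝟙 S)
  rw [map_lift, lift_id K hN a.2, lift_id K hN b.2]
  simp only [Functor.map_comp, eqToHom_map, Category.assoc, eqToHom_trans, eqToHom_refl,
    Category.comp_id, Functor.id_map]

theorem inverseImage_comp (hK : K.IsSplitting) {S T U : 𝒮} (f : T ⟶ S) (g : U ⟶ T) :
    K.inverseImage (g ≫ f) = K.inverseImage f ⋙ K.inverseImage g := by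
  refine CategoryTheory.Functor.ext (fun a => inverseImage_comp_obj K hK f g a) (fun a b φ => ?_)
  apply Fiber.hom_ext
  apply eq_of_comp_lift K b.2 (g ≫ f)
  rw [map_lift]
  simp only [Functor.map_comp, eqToHom_map, Category.assoc, Functor.comp_map]
  have e0 := lift_comp K hK f g b.2
  have e1 := map_lift K g ((K.inverseImage f).map φ)
  have e2 := map_lift K f φ
  have e3 := lift_comp K hK f g a.2
  rw [← e0, reassoc_of% e1, e2, reassoc_of% e3, eqToHom_trans_assoc, eqToHom_refl,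
    Category.id_comp]

/-- The strict functor to `Cat` attached to a split cleavage. -/
noncomputable def splitF (hK : K.IsSplitting) : 𝒮ᵒᵖ ⥤ Cat.{v₂, u₂} where
  obj S := Cat.of (p.Fiber S.unop)
  map {S T} f := (K.inverseImage f.unop).toCatHom
  map_id S := by
    apply Cat.ext
    exact inverseImage_id K hK.1 S.unop
  map_comp {S T U} f g := by
    apply Cat.ext
    exact inverseImage_comp K hK f.unop g.unop

end Groth.Agent.Helper6.SplitClv
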