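import Mathlib
import Groth.Prelude.Def_FibClv
import Groth.Agent.Helper6.SplitClv

/-!
# Helper6: the canonical cleavage of the Grothendieck construction of a strict functor is a
splitting; splittings transport along isomorphisms of categories over the base.
-/

set_option autoImplicit false
set_option linter.style.haveILetI false
set_option linter.unusedVariables false
set_option backward.isDefEq.respectTransparency false
set_option backward.isDefEq.respectTransparency.types false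
universe v₁ v₂ v₃ u₁ u₂ u₃

namespace Groth.Agent.Helper6.CoGrSplit
open CategoryTheory Functor Opposite FibCat Pseudofunctor
open Groth.Agent.Helper6.SplitClv

variable {𝒮 : Type u₁} [Category.{v₁} 𝒮] (F : 𝒮ᵒᵖ ⥤ Cat.{v₂, u₂})

/-- The pseudofunctor. -/
abbrev G : Pseudofunctor (LocallyDiscrete 𝒮ᵒᵖ) Cat.{v₂, u₂} := F.toPseudofunctor'

variable {F}

theorem eqToHom_base {X Y : CoGrothendieck (G F)} (h : X = Y) :
    (eqToHom h).base = eqToHom (congrArg CoGrothendieck.base h) := by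
  subst h
  rfl

theorem objN (S : 𝒮) (x : F.obj (op S)) : (F.map (𝟙 S).op).toFunctor.obj x = x := by
  simp

theorem objC {R R' S : 𝒮} (h : R ⟶ S) (h' : R' ⟶ R) (x : F.obj (op S)) :
    (F.map h'.op).toFunctor.obj ((F.map h.op).toFunctor.obj x) =
      (F.map (h' ≫ h).op).toFunctor.obj x := by
  simp

/-- Formal pullback of an object. -/
def pullObj (a : CoGrothendieck (G F)) {R : 𝒮} (h : R ⟶ a.base) : CoGrothendieck (G F) :=
  ⟨R, (F.map h.op).toFunctor.obj a.fiber⟩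

/-- The cartesian morphism from the formal pullback. -/
def pullHom (a : CoGrothendieck (G F)) {R : 𝒮} (h : R ⟶ a.base) : pullObj a h ⟶ a :=
  ⟨h, 𝟙 _⟩

theorem hom_eq_eqToHom {X Y : CoGrothendieck (G F)} (h : X = Y) (φ : X ⟶ Y)
    (hb : φ.base = eqToHom (congrArg CoGrothendieck.base h))
    (hf : ∃ e, φ.fiber = eqToHom e) : φ = eqToHom h := by
  subst h
  obtain ⟨e, hf⟩ := hf
  refine CoGrothendieck.Hom.ext _ _ hb ?_
  rw [hf]
  simp

theorem pullObj_id (S : 𝒮) (x : F.obj (op S)) :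
    pullObj (⟨S, x⟩ : CoGrothendieck (G F)) (𝟙 S) = ⟨S, x⟩ :=
  congrArg (CoGrothendieck.mk S) (objN S x)

theorem pullHom_id (S : 𝒮) (x : F.obj (op S)) :
    pullHom (⟨S, x⟩ : CoGrothendieck (G F)) (𝟙 S) = eqToHom (pullObj_id S x) := by
  apply hom_eq_eqToHom
  · rfl
  · exact ⟨rfl, rfl⟩


theorem pullObj_of_eq (S : 𝒮) (x : F.obj (op S)) (h : S ⟶ S) (hh : h = 𝟙 S) :
    pullObj (⟨S, x⟩ : CoGrothendieck (G F)) h = ⟨S, x⟩ := by
  subst hh
  exact pullObj_id S x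

theorem pullHom_of_eq (S : 𝒮) (x : F.obj (op S)) (h : S ⟶ S) (hh : h = 𝟙 S) :
    pullHom (⟨S, x⟩ : CoGrothendieck (G F)) h = eqToHom (pullObj_of_eq S x h hh) := by
  subst hh
  exact pullHom_id S x

theorem eqToHom_fiber_aux {X Y : CoGrothendieck (G F)} (h : X = Y) :
    X.fiber = (F.map (eqToHom h).base.op).toFunctor.obj Y.fiber := by
  subst h
  simp

theorem eqToHom_fiber {X Y : CoGrothendieck (G F)} (h : X = Y) :
    (eqToHom h).fiber = eqToHom (eqToHom_fiber_aux h) := by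
  subst h
  simp

theorem pull_comp (a : CoGrothendieck (G F)) {R R' : 𝒮} (h : R ⟶ a.base) (h' : R' ⟶ R)
    (k : R' ⟶ a.base) (hk : k = h' ≫ h) :
    ∃ e : pullObj (pullObj a h) h' = pullObj a k,
      pullHom (pullObj a h) h' ≫ pullHom a h = eqToHom e ≫ pullHom a k := by
  subst hk
  refine ⟨congrArg (CoGrothendieck.mk R') (objC h h' a.fiber), ?_⟩
  refine CoGrothendieck.Hom.ext _ _ ?_ ?_
  · simp [pullHom, pullObj, eqToHom_base]
  · simp [pullHom, pullObj, eqToHom_fiber]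

variable (F) in
/-- The canonical cleavage. -/
abbrev L : Cleavage (CoGrothendieck.forget (G F)) := Cleavage.ofCoGrothendieck (G F)

theorem L_isSplitting : (L F).IsSplitting := by
  refine ⟨fun S a ha => ?_, fun S T U f g a ha => ?_⟩
  · obtain ⟨T, x⟩ := a
    change T = S at ha
    subst ha
    exact ⟨pullObj_of_eq T x _ (by simp), pullHom_of_eq T x _ (by simp)⟩
  · obtain ⟨S', x⟩ := a
    change S' = S at ha
    subst ha
    exact pull_comp (⟨S', x⟩ : CoGrothendieck (G F)) (f ≫ eqToHom rfl) (g ≫ eqToHom rfl)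
      ((g ≫ f) ≫ eqToHom rfl) (by simp)


section Transport

variable {𝒮 : Type u₁} [Category.{v₁} 𝒮] {𝒳 : Type u₂} [Category.{v₂} 𝒳] {𝒴 : Type u₃}
  [Category.{v₃} 𝒴] (Φ : 𝒳 ⥤ 𝒴) (Ψ : 𝒴 ⥤ 𝒳) (h₁ : Φ ⋙ Ψ = 𝟭 𝒳) (h₂ : Ψ ⋙ Φ = 𝟭 𝒴)
  (q : 𝒴 ⥤ 𝒮) (Lc : Cleavage q)

theorem hl_of_map {R S : 𝒮} (f : R ⟶ S) {a b : 𝒳} (φ : a ⟶ b) [q.IsHomLift f (Φ.map φ)] :
    (Φ ⋙ q).IsHomLift f φ :=
  IsHomLift.of_fac' (Φ ⋙ q) f φ (IsHomLift.domain_eq q f (Φ.map φ))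
    (IsHomLift.codomain_eq q f (Φ.map φ)) (IsHomLift.fac' q f (Φ.map φ))

theorem hl_map {R S : 𝒮} (f : R ⟶ S) {a b : 𝒳} (φ : a ⟶ b) [(Φ ⋙ q).IsHomLift f φ] :
    q.IsHomLift f (Φ.map φ) :=
  IsHomLift.of_fac' q f (Φ.map φ) (IsHomLift.domain_eq (Φ ⋙ q) f φ)
    (IsHomLift.codomain_eq (Φ ⋙ q) f φ) (IsHomLift.fac' (Φ ⋙ q) f φ)

theorem isCartesian_of_map [Φ.Full] [Φ.Faithful] {R S : 𝒮} (f : R ⟶ S) {a b : 𝒳} (φ : a ⟶ b)
    [h : q.IsCartesian f (Φ.map φ)] : (Φ ⋙ q).IsCartesian f φ := by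
  haveI := hl_of_map Φ q f φ
  refine { universal_property := fun {a'} φ' hφ' => ?_ }
  haveI := hl_map Φ q f φ'
  refine ⟨Φ.preimage (IsCartesian.map q f (Φ.map φ) (Φ.map φ')), ⟨?_, ?_⟩, ?_⟩
  · haveI : q.IsHomLift (𝟙 R)
        (Φ.map (Φ.preimage (IsCartesian.map q f (Φ.map φ) (Φ.map φ')))) := by
      rw [Φ.map_preimage]
      infer_instance
    exact hl_of_map Φ q (𝟙 R) _
  · apply Φ.map_injective
    rw [Φ.map_comp, Φ.map_preimage, IsCartesian.fac]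
  · rintro χ ⟨hχ, hχ'⟩
    apply Φ.map_injective
    rw [Φ.map_preimage]
    haveI := hl_map Φ q (𝟙 R) χ
    exact IsCartesian.map_uniq q f (Φ.map φ) (Φ.map φ') (Φ.map χ) (by rw [← Φ.map_comp, hχ'])

theorem isCartesian_eqToHom_comp {R S : 𝒮} (f : R ⟶ S) {a' a b : 𝒴} (e : a' = a) (ℓ : a ⟶ b)
    [q.IsCartesian f ℓ] : q.IsCartesian f (eqToHom e ≫ ℓ) := by
  subst e
  rw [eqToHom_refl, Category.id_comp]
  infer_instance

include h₂ in
theorem map_lift_eq {a : 𝒳} {b : 𝒴} (ℓ : b ⟶ Φ.obj a) :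
    Φ.map (Ψ.map ℓ ≫ eqToHom (Functor.congr_obj h₁ a)) =
      eqToHom (Functor.congr_obj h₂ b) ≫ ℓ := by
  have e := Functor.congr_hom h₂ ℓ
  simp only [Functor.comp_map, Functor.id_map] at e
  rw [Φ.map_comp, e, eqToHom_map]
  simp

theorem obj_transport {T R : 𝒮} {b b' : 𝒴} (e : b' = b) (hb : q.obj b = T) (hb' : q.obj b' = T)
    (g : R ⟶ T) : Lc.obj hb' g = Lc.obj hb g := by
  subst e
  rfl

theorem lift_transport {T R : 𝒮} {b b' : 𝒴} (e : b' = b) (hb : q.obj b = T)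
    (hb' : q.obj b' = T) (g : R ⟶ T) :
    Lc.lift hb' g = eqToHom (obj_transport q Lc e hb hb' g) ≫ Lc.lift hb g ≫ eqToHom e.symm := by
  subst e
  simp

/-- The transported cleavage. -/
noncomputable def transport [Φ.Full] [Φ.Faithful] : Cleavage (Φ ⋙ q) where
  obj {R S a} ha f := Ψ.obj (Lc.obj (a := Φ.obj a) ha f)
  lift {R S a} ha f := Ψ.map (Lc.lift (a := Φ.obj a) ha f) ≫ eqToHom (Functor.congr_obj h₁ a)
  isCartesian {R S a} ha f := by
    haveI : q.IsCartesian f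
        (Φ.map (Ψ.map (Lc.lift (a := Φ.obj a) ha f) ≫ eqToHom (Functor.congr_obj h₁ a))) := by
      rw [map_lift_eq Φ Ψ h₁ h₂]
      exact isCartesian_eqToHom_comp q f _ _
    exact isCartesian_of_map Φ q f _

theorem transport_isSplitting [Φ.Full] [Φ.Faithful] (hL : Lc.IsSplitting) :
    (transport Φ Ψ h₁ h₂ q Lc).IsSplitting := by
  refine ⟨fun S a ha => ?_, fun S T U f g a ha => ?_⟩
  · have hN := hL.1
    obtain ⟨h, hl⟩ := @hN S (Φ.obj a) ha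
    refine ⟨(congrArg Ψ.obj h).trans (Functor.congr_obj h₁ a), ?_⟩
    change Ψ.map (Lc.lift (a := Φ.obj a) ha (𝟙 S)) ≫ eqToHom (Functor.congr_obj h₁ a) = _
    rw [hl, eqToHom_map, eqToHom_trans]
  · have hC := hL.2
    obtain ⟨hs, hsl⟩ := @hC S T U f g (Φ.obj a) ha
    have eb : Φ.obj (Ψ.obj (Lc.obj (a := Φ.obj a) ha f)) = Lc.obj (a := Φ.obj a) ha f :=
      Functor.congr_obj h₂ _
    have hb : q.obj (Lc.obj (a := Φ.obj a) ha f) = T := Lc.obj_proj ha f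
    have hb' : q.obj (Φ.obj (Ψ.obj (Lc.obj (a := Φ.obj a) ha f))) = T :=
      (transport Φ Ψ h₁ h₂ q Lc).obj_proj ha f
    have e1 := obj_transport q Lc eb hb hb' g
    have e2 := lift_transport q Lc eb hb hb' g
    refine ⟨congrArg Ψ.obj (e1.trans hs), ?_⟩
    change (Ψ.map (Lc.lift hb' g) ≫ eqToHom _) ≫
      (Ψ.map (Lc.lift (a := Φ.obj a) ha f) ≫ eqToHom (Functor.congr_obj h₁ a)) =
      eqToHom _ ≫ Ψ.map (Lc.lift (a := Φ.obj a) ha (g ≫ f)) ≫ eqToHom (Functor.congr_obj h₁ a)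
    rw [e2]
    simp only [Functor.map_comp, eqToHom_map, Category.assoc, eqToHom_trans_assoc, eqToHom_refl,
      Category.id_comp]
    rw [← Ψ.map_comp_assoc, hsl]
    simp only [Functor.map_comp, eqToHom_map, Category.assoc, eqToHom_trans_assoc]

end Transport

theorem exists_splitting {𝒮 : Type u₁} [Category.{v₁} 𝒮] {𝒳 : Type u₂} [Category.{v₂} 𝒳]
    (p : 𝒳 ⥤ 𝒮) (F : 𝒮ᵒᵖ ⥤ Cat.{v₂, u₂})
    (Φ : 𝒳 ⥤ CoGrothendieck (G F)) (Ψ : CoGrothendieck (G F) ⥤ 𝒳)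
    (h₁ : Φ ⋙ Ψ = 𝟭 𝒳) (h₂ : Ψ ⋙ Φ = 𝟭 _)
    (h₃ : Φ ⋙ CoGrothendieck.forget (G F) = p) :
    ∃ K : FibCat.Cleavage p, K.IsSplitting := by
  subst h₃
  haveI : Φ.IsEquivalence :=
    (CategoryTheory.Equivalence.mk Φ Ψ (eqToIso h₁.symm) (eqToIso h₂)).isEquivalence_functor
  exact ⟨transport Φ Ψ h₁ h₂ (CoGrothendieck.forget (G F)) (L F),
    transport_isSplitting Φ Ψ h₁ h₂ _ (L F) L_isSplitting⟩

end Groth.Agent.Helper6.CoGrSplit
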