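import Mathlib
open CategoryTheory Opposite Simplicial AlgebraicTopology

namespace Groth.Agent.Helper6.CoHomotopy

universe v u v' u'
variable {D : Type u} [Category.{v} D] {A : Type u'} [Category.{v'} A] [Preadditive A]
  (G : Dᵒᵖ ⥤ A)

/-- the cosimplicial object -/
abbrev cos (K : SimplicialObject D) : CosimplicialObject A := K.rightOp ⋙ G

abbrev cosMap {K L : SimplicialObject D} (a : L ⟶ K) : cos G K ⟶ cos G L :=
  ((Functor.whiskeringLeft _ _ _).map (NatTrans.rightOp a)).app G

abbrev sim (K : SimplicialObject D) : SimplicialObject Aᵒᵖ :=
  ((SimplicialObject.whiskering D Aᵒᵖ).obj G.rightOp).obj K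

lemma d_unop (K : SimplicialObject D) (n : ℕ) :
    ((alternatingCofaceMapComplex A).obj (cos G K)).d n (n+1) =
      (((alternatingFaceMapComplex Aᵒᵖ).obj (sim G K)).d (n+1) n).unop := by
  refine (CochainComplex.of_d (fun n => (cos G K).obj ⦋n⦌)
    (AlternatingCofaceMapComplex.objD (cos G K)) n).trans ?_
  simp only [alternatingFaceMapComplex_obj_d, AlternatingCofaceMapComplex.objD,
    AlternatingFaceMapComplex.objD, unop_sum, unop_zsmul]
  rfl

variable {K L : SimplicialObject D} {a b : L ⟶ K} (H : SimplicialObject.Homotopy a b)

/-- the chain homotopy in the opposite category -/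
noncomputable def T : Homotopy
    ((alternatingFaceMapComplex Aᵒᵖ).map (((SimplicialObject.whiskering D Aᵒᵖ).obj G.rightOp).map a))
    ((alternatingFaceMapComplex Aᵒᵖ).map (((SimplicialObject.whiskering D Aᵒᵖ).obj G.rightOp).map b)) :=
  (H.whiskerRight G.rightOp).toChainHomotopy

/-- components of the cochain homotopy -/
noncomputable def Shom (i j : ℕ) : ((alternatingCofaceMapComplex A).obj (cos G K)).X i ⟶
    ((alternatingCofaceMapComplex A).obj (cos G L)).X j :=
  ((T G H).hom j i).unop

/-- the cochain homotopy -/
noncomputable def S : Homotopy ((alternatingCofaceMapComplex A).map (cosMap G a))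
    ((alternatingCofaceMapComplex A).map (cosMap G b)) where
  hom := Shom G H
  zero i j h := by
    have : (T G H).hom j i = 0 := (T G H).zero j i h
    unfold Shom
    rw [this]; rfl
  comm i := by
    cases i with
    | zero =>
      rw [Homotopy.prevD_zero_cochainComplex, Homotopy.dNext_cochainComplex, add_zero]
      have := congrArg Quiver.Hom.unop ((T G H).comm 0)
      rw [Homotopy.dNext_zero_chainComplex, Homotopy.prevD_chainComplex, zero_add] at this
      rw [unop_add, unop_comp] at this
      rw [d_unop]
      exact this
    | succ n =>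
      rw [Homotopy.prevD_succ_cochainComplex, Homotopy.dNext_cochainComplex]
      have := congrArg Quiver.Hom.unop ((T G H).comm (n + 1))
      rw [Homotopy.dNext_succ_chainComplex, Homotopy.prevD_chainComplex] at this
      rw [unop_add, unop_add, unop_comp, unop_comp] at this
      rw [d_unop, d_unop]
      exact this.trans (congrArg (fun z => z + _) (add_comm _ _))

include H in
theorem homologyMap_eq [CategoryWithHomology A] (p : ℕ) :
    HomologicalComplex.homologyMap ((alternatingCofaceMapComplex A).map (cosMap G a)) p =
      HomologicalComplex.homologyMap ((alternatingCofaceMapComplex A).map (cosMap G b)) p :=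
  (S G H).homologyMap_eq p

end Groth.Agent.Helper6.CoHomotopy
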