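import Mathlib
import Groth.Prelude.Def_DRing4
import Groth.Agent.Helper6.Coext4

/-!
# The triangle `RHom(A/f, ω) → ω → ω →` for a nonzerodivisor `f`
-/

set_option autoImplicit false
set_option linter.style.haveILetI false
set_option linter.unusedSectionVars false

universe u
open CategoryTheory CategoryTheory.Limits Pretriangulated DerivedCategory CochainComplex
  CochainComplex.HomComplex
attribute [local instance] HasDerivedCategory.standard

namespace Groth.Agent.Helper6.Coext
open Groth.Agent.Helper3.DRingLib Groth.Agent.Helper6.BiD Groth.Agent.Helper6.DK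
  Groth.Agent.Helper6.LocExt

lemma comm3_aux {C : Type*} [Category C] [HasShift C ℤ] {X Y Z W : C} (a : X ⟶ Y) (α : Z ≅ W)
    (d : Y ⟶ W⟦(1 : ℤ)⟧) : (a ≫ d ≫ α.inv⟦(1 : ℤ)⟧') ≫ α.hom⟦(1 : ℤ)⟧' = a ≫ d := by
  rw [Category.assoc, Category.assoc, ← Functor.map_comp, Iso.inv_hom_id,
    CategoryTheory.Functor.map_id, Category.comp_id]

section Gen

variable {A B : Type u} [CommRing A] [CommRing B] (φ : A →+* B) (I : DRing.Cx A)

lemma counitC_f_apply (n : ℤ) (h : (rF φ).obj ((cF φ).obj (I.X n))) :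
    ((counitC φ I).f n).hom h = cFLin φ (I.X n) h (show BA φ from (1 : B)) := rfl

lemma cFLin_apply_map (M : ModuleCat.{u} A) (h : (rF φ).obj ((cF φ).obj M)) (a : A) :
    cFLin φ M h (show BA φ from φ a) = a • cFLin φ M h (show BA φ from (1 : B)) := by
  rw [← LinearMap.map_smul]
  exact congrArg (cFLin φ M h) (mul_one (φ a)).symm

/-- for surjective `φ`, evaluation at `1` is injective -/
lemma counitC_f_injective (hφ : Function.Surjective φ) (n : ℤ) :
    Function.Injective ((counitC φ I).f n).hom := by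
  intro h h' hh
  rw [counitC_f_apply, counitC_f_apply] at hh
  apply (cFLin φ (I.X n)).injective
  apply LinearMap.ext
  intro b
  obtain ⟨a, ha⟩ := hφ (show B from b)
  have hb : b = (show BA φ from φ a) := ha.symm
  rw [hb, cFLin_apply_map, cFLin_apply_map, hh]

lemma smul_id_f_apply (a : A) (n : ℤ) (y : I.X n) : ((a • 𝟙 I).f n).hom y = a • y := by
  rw [HomologicalComplex.smul_f_apply, ModuleCat.hom_smul, HomologicalComplex.id_f]
  rfl

end Gen

section Quot

variable {A : Type u} [CommRing A] (f : A)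

/-- multiplication by a nonzerodivisor is surjective on an injective module -/
lemma smul_surjective_of_injective (hf : f ∈ nonZeroDivisors A) (M : Type u) [AddCommGroup M]
    [Module A M] [Module.Injective A M] (x : M) : ∃ y : M, f • y = x := by
  have hinjf : Function.Injective (LinearMap.mulLeft A f : A →ₗ[A] A) := by
    intro a b hab
    have h0 : f * (a - b) = 0 := by
      rw [mul_sub]
      exact sub_eq_zero.mpr hab
    exact sub_eq_zero.mp ((mul_left_mem_nonZeroDivisors_eq_zero_iff hf).mp h0)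
  obtain ⟨h, hh⟩ := Module.Injective.out (LinearMap.mulLeft A f) hinjf
    (LinearMap.toSpanSingleton A M x)
  refine ⟨h 1, ?_⟩
  have h1 := hh 1
  rw [LinearMap.mulLeft_apply, mul_one, LinearMap.toSpanSingleton_apply, one_smul] at h1
  rw [← LinearMap.map_smul, smul_eq_mul, mul_one]
  exact h1

variable (I : DRing.Cx A)

lemma mk_self_eq_zero : (Ideal.Quotient.mk (Ideal.span {f})) f = 0 :=
  Ideal.Quotient.eq_zero_iff_mem.mpr (Ideal.mem_span_singleton_self f)

/-- the short complex `0 → Hom_A(A/f, I) → I → I → 0` -/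
noncomputable def sesQ : ShortComplex (DRing.Cx A) :=
  ShortComplex.mk (counitC (Ideal.Quotient.mk (Ideal.span {f})) I) (f • 𝟙 I) (by
    apply HomologicalComplex.hom_ext
    intro n
    apply ModuleCat.hom_ext
    apply LinearMap.ext
    intro h
    rw [HomologicalComplex.comp_f, ModuleCat.hom_comp, LinearMap.comp_apply, smul_id_f_apply,
      counitC_f_apply, ← cFLin_apply_map]
    have h0 : (show BA (Ideal.Quotient.mk (Ideal.span {f})) from
        (Ideal.Quotient.mk (Ideal.span {f})) f) = 0 := mk_self_eq_zero f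
    rw [h0, map_zero]
    rfl)

lemma sesQ_shortExact (hf : f ∈ nonZeroDivisors A) (hinj : DRing.TermwiseInjective I) :
    (sesQ f I).ShortExact := by
  apply HomologicalComplex.shortExact_of_degreewise_shortExact
  intro n
  refine ModuleCat.shortComplex_shortExact _ ?_ ?_ ?_
  · intro x
    constructor
    · intro hx
      have hx' : f • x = 0 := (smul_id_f_apply I f n x).symm.trans hx
      have hle : Ideal.span {f} ≤ LinearMap.ker (LinearMap.toSpanSingleton A (I.X n) x) := by
        rw [Ideal.span_le]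
        intro y hy
        rw [Set.mem_singleton_iff] at hy
        subst hy
        show LinearMap.toSpanSingleton A (I.X n) x y = 0
        rw [LinearMap.toSpanSingleton_apply]
        exact hx'
      let h₀ : (A ⧸ Ideal.span {f}) →ₗ[A] I.X n :=
        Submodule.liftQ (Ideal.span {f}) (LinearMap.toSpanSingleton A (I.X n) x) hle
      let h : BA (Ideal.Quotient.mk (Ideal.span {f})) →ₗ[A] I.X n :=
        h₀.comp (eBA (A := A) (B := A ⧸ Ideal.span {f})).symm.toLinearMap
      refine ⟨(cFLin (Ideal.Quotient.mk (Ideal.span {f})) (I.X n)).symm h, ?_⟩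
      show ((counitC (Ideal.Quotient.mk (Ideal.span {f})) I).f n).hom _ = x
      rw [counitC_f_apply, LinearEquiv.apply_symm_apply]
      show h₀ (Submodule.Quotient.mk (1 : A)) = x
      rw [Submodule.liftQ_apply, LinearMap.toSpanSingleton_apply, one_smul]
    · rintro ⟨h, rfl⟩
      exact ConcreteCategory.congr_hom ((sesQ f I).map (HomologicalComplex.eval _ _ n)).zero h
  · exact counitC_f_injective _ I Ideal.Quotient.mk_surjective n
  · intro x
    haveI := hinj n
    obtain ⟨y, hy⟩ := smul_surjective_of_injective f hf (I.X n) x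
    refine ⟨y, ?_⟩
    show ((f • 𝟙 I).f n).hom y = x
    rw [smul_id_f_apply]
    exact hy

/-- **The triangle `RHom(A/f, ω) → ω → ω →`** for a nonzerodivisor `f`. -/
theorem exists_triangle_quot [IsNoetherianRing A] (ω : Dual.D A) (hω : Dual.IsDualizing A ω)
    (hf : f ∈ nonZeroDivisors A) (R : Dual.D A ⥤ Dual.D (A ⧸ Ideal.span {f}))
    (adj : DRing.restrictD (Ideal.Quotient.mk (Ideal.span {f})) ⊣ R) :
    ∃ (u : (DRing.restrictD (Ideal.Quotient.mk (Ideal.span {f}))).obj (R.obj ω) ⟶ ω)
      (w : ω ⟶ ((DRing.restrictD (Ideal.Quotient.mk (Ideal.span {f}))).obj (R.obj ω))⟦(1 : ℤ)⟧),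
      Triangle.mk u (f • 𝟙 ω) w ∈ distTriang (Dual.D A) := by
  obtain ⟨I, a, b, hv, hinj, hKI, ⟨e⟩, -, -⟩ := exists_dualizing_rep ω hω
  haveI := hKI
  have hco₁ := (isCoext_cCx (Ideal.Quotient.mk (Ideal.span {f})) I).of_iso e
  have hco₂ := isCoext_of_adj (Ideal.Quotient.mk (Ideal.span {f})) R adj ω
  obtain ⟨i⟩ := hco₂.nonempty_iso hco₁
  let α : (DRing.restrictD (Ideal.Quotient.mk (Ideal.span {f}))).obj (R.obj ω) ≅
      DRing.toD ((rCx (Ideal.Quotient.mk (Ideal.span {f}))).obj
        ((cCx (Ideal.Quotient.mk (Ideal.span {f}))).obj I)) :=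
    (DRing.restrictD (Ideal.Quotient.mk (Ideal.span {f}))).mapIso i ≪≫
      rDToD (Ideal.Quotient.mk (Ideal.span {f}))
        ((cCx (Ideal.Quotient.mk (Ideal.span {f}))).obj I)
  have hS := sesQ_shortExact f I hf hinj
  have hT := DerivedCategory.triangleOfSES_distinguished hS
  refine ⟨α.hom ≫ Q.map (counitC (Ideal.Quotient.mk (Ideal.span {f})) I) ≫ e.hom,
    e.inv ≫ triangleOfSESδ hS ≫ α.inv⟦(1 : ℤ)⟧', ?_⟩
  refine isomorphic_distinguished _ hT _ (Triangle.isoMk _ _ α e.symm e.symm ?_ ?_ ?_)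
  · show (α.hom ≫ Q.map (counitC (Ideal.Quotient.mk (Ideal.span {f})) I) ≫ e.hom) ≫ e.inv =
      α.hom ≫ Q.map (counitC (Ideal.Quotient.mk (Ideal.span {f})) I)
    simp
  · show (f • 𝟙 ω) ≫ e.inv = e.inv ≫ Q.map (f • 𝟙 I)
    rw [Functor.map_smul, CategoryTheory.Functor.map_id, Linear.smul_comp, Linear.comp_smul,
      Category.id_comp, Category.comp_id]
  · show (e.inv ≫ triangleOfSESδ hS ≫ α.inv⟦(1 : ℤ)⟧') ≫ α.hom⟦(1 : ℤ)⟧' =
      e.inv ≫ triangleOfSESδ hS
    exact comm3_aux _ _ _

end Quot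

end Groth.Agent.Helper6.Coext
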