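import Mathlib
import Groth.Prelude.Def_DRing4
import Groth.Agent.Helper6.Coext5
import Groth.Agent.Helper6.LD4

/-!
# The triangle `RHom(A/I, ω) → ω → Hom(I, E) →` for an ideal `I` of finite length
-/

set_option autoImplicit false
set_option linter.style.haveILetI false
set_option linter.unusedSectionVars false

universe u
open CategoryTheory CategoryTheory.Limits Pretriangulated DerivedCategory CochainComplex
  CochainComplex.HomComplex
attribute [local instance] HasDerivedCategory.standard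

namespace Groth.Agent.Helper6.Coext
open Groth.Agent.Helper3.DRingLib Groth.Agent.Helper6.BiD Groth.Agent.Helper6.DK
  Groth.Agent.Helper6.LocExt Groth.Agent.Helper6.LD

lemma comm1_aux {C : Type*} [Category C] {X Y Z W : C} (a : X ⟶ Y) (m : Y ⟶ Z) (β : W ≅ Z) :
    (a ≫ m ≫ β.inv) ≫ β.hom = a ≫ m := by
  rw [Category.assoc, Category.assoc, Iso.inv_hom_id, Category.comp_id]

/-- transport a distinguished triangle along isomorphisms of its vertices -/
lemma exists_triangle_of_iso {C : Type*} [Category C] [Preadditive C] [HasZeroObject C]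
    [HasShift C ℤ] [∀ n : ℤ, (CategoryTheory.shiftFunctor C n).Additive] [Pretriangulated C] (T : Triangle C)
    (hT : T ∈ distTriang C) {X Y Z : C} (α : X ≅ T.obj₁) (β : Y ≅ T.obj₂) (γ : Z ≅ T.obj₃) :
    ∃ (u : X ⟶ Y) (v : Y ⟶ Z) (w : Z ⟶ X⟦(1 : ℤ)⟧), Triangle.mk u v w ∈ distTriang C := by
  refine ⟨α.hom ≫ T.mor₁ ≫ β.inv, β.hom ≫ T.mor₂ ≫ γ.inv,
    γ.hom ≫ T.mor₃ ≫ α.inv⟦(1 : ℤ)⟧', ?_⟩
  refine isomorphic_distinguished _ hT _ (Triangle.isoMk _ _ α β γ ?_ ?_ ?_)
  · exact comm1_aux _ _ _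
  · exact comm1_aux _ _ _
  · exact comm3_aux γ.hom α T.mor₃

section FinLen

variable {A : Type u} [CommRing A] (I : Ideal A) (J : DRing.Cx A)

/-- `x ↦ (a ↦ a • x)` on `I` -/
noncomputable def resMap (n : ℤ) : J.X n →ₗ[A] (I →ₗ[A] J.X n) where
  toFun x := (LinearMap.toSpanSingleton A (J.X n) x).comp I.subtype
  map_add' x y := by
    apply LinearMap.ext
    intro a
    simp only [LinearMap.comp_apply, LinearMap.add_apply, LinearMap.toSpanSingleton_apply,
      smul_add]
  map_smul' c x := by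
    apply LinearMap.ext
    intro a
    simp only [LinearMap.comp_apply, LinearMap.smul_apply, LinearMap.toSpanSingleton_apply,
      RingHom.id_apply]
    exact smul_comm _ _ _

lemma resMap_apply (n : ℤ) (x : J.X n) (a : I) : resMap I J n x a = (a : A) • x := by
  simp [resMap, LinearMap.toSpanSingleton_apply]

/-- the degreewise map `J^n → Cochain(I[0], J, n)` -/
noncomputable def rhoLin (n : ℤ) : J.X n →ₗ[A] Cochain (SN (ModuleCat.of A I)) J n :=
  (fromSingleLin J (ModuleCat.of A I) n).toLinearMap ∘ₗ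
    (ModuleCat.homLinearEquiv (S := A)).symm.toLinearMap ∘ₗ resMap I J n

lemma rhoLin_apply (n : ℤ) (x : J.X n) :
    rhoLin I J n x = Cochain.fromSingleMk (ModuleCat.ofHom (resMap I J n x)) (zero_add n) := rfl

lemma rhoLin_eq_zero_iff (n : ℤ) (x : J.X n) : rhoLin I J n x = 0 ↔ resMap I J n x = 0 := by
  constructor
  · intro h
    have h1 : (fromSingleLin J (ModuleCat.of A I) n)
        ((ModuleCat.homLinearEquiv (S := A)).symm (resMap I J n x)) = 0 := h
    rw [LinearEquiv.map_eq_zero_iff, LinearEquiv.map_eq_zero_iff] at h1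
    exact h1
  · intro h
    show (fromSingleLin J (ModuleCat.of A I) n)
        ((ModuleCat.homLinearEquiv (S := A)).symm (resMap I J n x)) = 0
    rw [h, map_zero, map_zero]

/-- the chain map `J → Hom•(I[0], J)` -/
noncomputable def rho : J ⟶ DRing.homCx (SN (ModuleCat.of A I)) J where
  f n := ModuleCat.ofHom (rhoLin I J n)
  comm' i j hij := by
    obtain rfl : i + 1 = j := hij
    apply ModuleCat.hom_ext
    apply LinearMap.ext
    intro x
    show δ i (i + 1) (rhoLin I J i x) = rhoLin I J (i + 1) ((J.d i (i + 1)).hom x)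
    rw [rhoLin_apply, rhoLin_apply, Cochain.δ_fromSingleMk _ _ _ (i + 1) (zero_add (i + 1))]
    congr 1
    apply ModuleCat.hom_ext
    apply LinearMap.ext
    intro a
    show (J.d i (i + 1)).hom (resMap I J i x a) = resMap I J (i + 1) ((J.d i (i + 1)).hom x) a
    rw [resMap_apply, resMap_apply, map_smul]

lemma mk_eq_zero_of_mem (a : A) (ha : a ∈ I) : (Ideal.Quotient.mk I) a = 0 :=
  Ideal.Quotient.eq_zero_iff_mem.mpr ha

/-- elements killed by `I` come from `Hom_A(A/I, -)` -/
lemma exists_counit_eq (n : ℤ) (x : J.X n) (hx : ∀ a ∈ I, a • x = 0) :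
    ∃ h, ((counitC (Ideal.Quotient.mk I) J).f n).hom h = x := by
  have hle : I ≤ LinearMap.ker (LinearMap.toSpanSingleton A (J.X n) x) := by
    intro y hy
    show LinearMap.toSpanSingleton A (J.X n) x y = 0
    rw [LinearMap.toSpanSingleton_apply]
    exact hx y hy
  let h₀ : (A ⧸ I) →ₗ[A] J.X n :=
    Submodule.liftQ I (LinearMap.toSpanSingleton A (J.X n) x) hle
  let h : BA (Ideal.Quotient.mk I) →ₗ[A] J.X n :=
    h₀.comp (eBA (A := A) (B := A ⧸ I)).symm.toLinearMap
  refine ⟨(cFLin (Ideal.Quotient.mk I) (J.X n)).symm h, ?_⟩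
  rw [counitC_f_apply, LinearEquiv.apply_symm_apply]
  show h₀ (Submodule.Quotient.mk (1 : A)) = x
  rw [Submodule.liftQ_apply, LinearMap.toSpanSingleton_apply, one_smul]

lemma resMap_counit (n : ℤ) (h : (rF (Ideal.Quotient.mk I)).obj
    ((cF (Ideal.Quotient.mk I)).obj (J.X n))) :
    resMap I J n (((counitC (Ideal.Quotient.mk I) J).f n).hom h) = 0 := by
  apply LinearMap.ext
  intro a
  rw [resMap_apply, counitC_f_apply, ← cFLin_apply_map]
  have h0 : (show BA (Ideal.Quotient.mk I) from (Ideal.Quotient.mk I) (a : A)) = 0 :=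
    mk_eq_zero_of_mem I a a.2
  rw [h0, map_zero]
  rfl

/-- the short complex `0 → Hom_A(A/I, J) → J → Hom•(I[0], J) → 0` -/
noncomputable def sesI : ShortComplex (DRing.Cx A) :=
  ShortComplex.mk (counitC (Ideal.Quotient.mk I) J) (rho I J) (by
    apply HomologicalComplex.hom_ext
    intro n
    apply ModuleCat.hom_ext
    apply LinearMap.ext
    intro h
    show rhoLin I J n (((counitC (Ideal.Quotient.mk I) J).f n).hom h) = 0
    rw [rhoLin_eq_zero_iff]
    exact resMap_counit I J n h)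

lemma sesI_shortExact (hinj : DRing.TermwiseInjective J) : (sesI I J).ShortExact := by
  apply HomologicalComplex.shortExact_of_degreewise_shortExact
  intro n
  refine ModuleCat.shortComplex_shortExact _ ?_ ?_ ?_
  · intro x
    constructor
    · intro hx
      have hx' : rhoLin I J n x = 0 := hx
      rw [rhoLin_eq_zero_iff] at hx'
      refine exists_counit_eq I J n x (fun a ha => ?_)
      have h2 : resMap I J n x ⟨a, ha⟩ = 0 := by
        rw [hx']
        rfl
      rw [resMap_apply] at h2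
      exact h2
    · rintro ⟨h, rfl⟩
      exact ConcreteCategory.congr_hom ((sesI I J).map (HomologicalComplex.eval _ _ n)).zero h
  · exact counitC_f_injective _ J Ideal.Quotient.mk_surjective n
  · intro z
    obtain ⟨h', rfl⟩ := (fromSingleLin J (ModuleCat.of A I) n).surjective z
    obtain ⟨g', hg'⟩ := Module.Baer.of_injective (hinj n) I h'.hom
    refine ⟨g' 1, ?_⟩
    show (fromSingleLin J (ModuleCat.of A I) n)
      ((ModuleCat.homLinearEquiv (S := A)).symm (resMap I J n (g' 1))) = _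
    congr 1
    apply ModuleCat.hom_ext
    apply LinearMap.ext
    intro a
    show resMap I J n (g' 1) a = h'.hom a
    rw [resMap_apply, ← LinearMap.map_smul, smul_eq_mul, mul_one]
    exact hg' a a.2

end FinLen

section Main

variable {A : Type u} [CommRing A] [IsLocalRing A] [IsNoetherianRing A]

/-- **The triangle `RHom(A/I, ω) → ω → Hom(I, E) →`** -/
theorem exists_triangle_finLen (ω : Dual.D A) (hω : Dual.IsDualizing A ω)
    (hn : Dual.IsNormalized A ω) (I : Ideal A) (hIl : IsFiniteLength A I)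
    (E : Type u) [AddCommGroup E] [Module A E] (e₀ : IsLocalRing.ResidueField A →ₗ[A] E)
    (he : InjHull.IsInjectiveHull e₀) (R : Dual.D A ⥤ Dual.D (A ⧸ I))
    (adj : DRing.restrictD (Ideal.Quotient.mk I) ⊣ R) :
    ∃ (u : (DRing.restrictD (Ideal.Quotient.mk I)).obj (R.obj ω) ⟶ ω)
      (v : ω ⟶ Dual.inD A (I →ₗ[A] E))
      (w : Dual.inD A (I →ₗ[A] E) ⟶
        ((DRing.restrictD (Ideal.Quotient.mk I)).obj (R.obj ω))⟦(1 : ℤ)⟧),
      Triangle.mk u v w ∈ distTriang (Dual.D A) := by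
  obtain ⟨J, a, b, hv, hinj, hKI, ⟨e⟩, -, -⟩ := exists_dualizing_rep ω hω
  haveI := hKI
  have hco₁ := (isCoext_cCx (Ideal.Quotient.mk I) J).of_iso e
  have hco₂ := isCoext_of_adj (Ideal.Quotient.mk I) R adj ω
  obtain ⟨i⟩ := hco₂.nonempty_iso hco₁
  let α : (DRing.restrictD (Ideal.Quotient.mk I)).obj (R.obj ω) ≅
      DRing.toD ((rCx (Ideal.Quotient.mk I)).obj ((cCx (Ideal.Quotient.mk I)).obj J)) :=
    (DRing.restrictD (Ideal.Quotient.mk I)).mapIso i ≪≫
      rDToD (Ideal.Quotient.mk I) ((cCx (Ideal.Quotient.mk I)).obj J)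
  have hS := sesI_shortExact I J hinj
  have hT := DerivedCategory.triangleOfSES_distinguished hS
  -- the third vertex
  obtain ⟨hvan, ⟨φ0⟩⟩ := ext_finiteLength ω hω hn E e₀ he I hIl
  let K₃ : Dual.D A := DRing.toD (DRing.homCx (SN (ModuleCat.of A I)) J)
  have ψ : ∀ n : ℤ, Dual.HD A K₃ n ≃ₗ[A] (Dual.inD A I ⟶ ω⟦n⟧) := fun n =>
    Psi' (SN (ModuleCat.of A I)) J n ≪≫ₗ
      Linear.homCongr A ((DerivedCategory.singleFunctorIsoCompQ (ModuleCat.{u} A) 0).app
        (ModuleCat.of A I)).symm ((CategoryTheory.shiftFunctor (Dual.D A) n).mapIso e)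
  haveI : K₃.IsGE 0 := isGE_of_HD K₃ 0 (fun n hn' => by
    haveI := hvan n (by omega)
    exact (ψ n).toEquiv.subsingleton)
  haveI : K₃.IsLE 0 := isLE_of_HD K₃ 0 (fun n hn' => by
    haveI := hvan n (by omega)
    exact (ψ n).toEquiv.subsingleton)
  let e1 : (Dual.inD A I ⟶ ω⟦(0 : ℤ)⟧) ≃ₗ[A] (Dual.inD A I ⟶ ω) :=
    Linear.homCongr A (Iso.refl _) ((shiftFunctorZero (Dual.D A) ℤ).app ω)
  obtain ⟨γ⟩ := iso_inD_of_concentrated K₃ (I →ₗ[A] E) (ψ 0 ≪≫ₗ e1 ≪≫ₗ φ0)
  exact exists_triangle_of_iso _ hT α e.symm γ.symm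

end Main

end Groth.Agent.Helper6.Coext
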