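import Mathlib
import Groth.Prelude.Def_DRing4
import Groth.Agent.Helper6.LBCFibre

/-!
# Complexes of free modules given by matrices, and their base change
-/

set_option autoImplicit false
set_option linter.style.haveILetI false
set_option linter.unusedSectionVars false

universe u
open CategoryTheory CategoryTheory.Limits TensorProduct

namespace Groth.Agent.Helper6.ColimPerf
open Groth.Agent.Helper3.DRingLib Groth.Agent.Helper6.LBCCompute

section Mat
variable {B : Type u} [CommRing B]

/-- the morphism of free modules given by a matrix -/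
noncomputable def mh {m k : ℕ} (M : Matrix (Fin m) (Fin k) B) :
    ModuleCat.of B (Fin k → B) ⟶ ModuleCat.of B (Fin m → B) :=
  ModuleCat.ofHom (Matrix.toLin' M)

lemma mh_mul {l m k : ℕ} (M : Matrix (Fin l) (Fin m) B) (N : Matrix (Fin m) (Fin k) B) :
    mh (M * N) = mh N ≫ mh M := by
  unfold mh
  rw [← ModuleCat.ofHom_comp, Matrix.toLin'_mul]

lemma mh_zero {m k : ℕ} : mh (0 : Matrix (Fin m) (Fin k) B) = 0 := by
  unfold mh
  rw [map_zero]
  rfl

variable (n : ℤ → ℕ) (D : ∀ i : ℤ, Matrix (Fin (n (i + 1))) (Fin (n i)) B)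
  (hD : ∀ i, D (i + 1) * D i = 0)

/-- complex of free modules from matrices -/
noncomputable def matCx : DRing.Cx B :=
  CochainComplex.of (fun i => ModuleCat.of B (Fin (n i) → B)) (fun i => mh (D i))
    (fun i => by rw [← mh_mul, hD, mh_zero])

lemma matCx_d (i : ℤ) : (matCx n D hD).d i (i + 1) = mh (D i) :=
  CochainComplex.of_d (fun i => ModuleCat.of B (Fin (n i) → B)) (fun i => mh (D i)) i

variable (e : ∀ i : ℤ, Matrix (Fin (n i)) (Fin (n i)) B)
  (he : ∀ i, e (i + 1) * D i = D i * e i)

/-- the endomorphism given by matrices commuting with the differentials -/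
noncomputable def matEnd : matCx n D hD ⟶ matCx n D hD where
  f i := mh (e i)
  comm' i j hij := by
    obtain rfl : i + 1 = j := hij
    have h1 : (matCx n D hD).d i (i + 1) = mh (D i) := matCx_d n D hD i
    rw [h1]
    exact (mh_mul _ _).symm.trans ((congrArg mh (he i).symm).trans (mh_mul _ _))

lemma matEnd_f (i : ℤ) : (matEnd n D hD e he).f i = mh (e i) := rfl

lemma matEnd_idem (hee : ∀ i, e i * e i = e i) :
    matEnd n D hD e he ≫ matEnd n D hD e he = matEnd n D hD e he := by
  refine HomologicalComplex.hom_ext _ _ (fun i => ?_)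
  exact (mh_mul _ _).symm.trans (congrArg mh (hee i))

end Mat

section BC
variable {B B' : Type u} [CommRing B] [CommRing B'] [Algebra B B']

/-- `B' ⊗ B^k = B'^k` -/
noncomputable def thetaEquiv (k : ℕ) :
    ((ModuleCat.extendScalars.{u, u, u} (algebraMap B B')).obj (ModuleCat.of B (Fin k → B))) ≃ₗ[B']
      (Fin k → B') :=
  (extendScalarsEquiv (B := B') (ModuleCat.of B (Fin k → B))).trans
    (TensorProduct.piScalarRight B B' B' (Fin k))

lemma pi_nat {m k : ℕ} (M : Matrix (Fin m) (Fin k) B) (t : B' ⊗[B] (Fin k → B)) :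
    TensorProduct.piScalarRight B B' B' (Fin m) ((Matrix.toLin' M).lTensor B' t) =
      Matrix.toLin' (M.map (algebraMap B B')) (TensorProduct.piScalarRight B B' B' (Fin k) t) := by
  induction t using TensorProduct.induction_on with
  | zero => simp
  | tmul s v =>
    rw [LinearMap.lTensor_tmul, TensorProduct.piScalarRight_apply,
      TensorProduct.piScalarRightHom_tmul, TensorProduct.piScalarRight_apply,
      TensorProduct.piScalarRightHom_tmul]
    funext i
    simp only [Matrix.toLin'_apply, Matrix.mulVec, dotProduct, Matrix.map_apply]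
    rw [Finset.sum_smul]
    refine Finset.sum_congr rfl (fun j _ => ?_)
    rw [Algebra.smul_def, Algebra.smul_def, map_mul, mul_assoc]
  | add a b ha hb =>
    rw [map_add, map_add, map_add, map_add, ha, hb]

lemma theta_nat {m k : ℕ} (M : Matrix (Fin m) (Fin k) B)
    (x : (ModuleCat.extendScalars.{u, u, u} (algebraMap B B')).obj
      (ModuleCat.of B (Fin k → B))) :
    thetaEquiv (B := B) (B' := B') m
        (((ModuleCat.extendScalars.{u, u, u} (algebraMap B B')).map (mh M)).hom x) =
      Matrix.toLin' (M.map (algebraMap B B')) (thetaEquiv (B := B) (B' := B') k x) := by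
  unfold thetaEquiv
  rw [LinearEquiv.trans_apply, LinearEquiv.trans_apply,
    Groth.Agent.Helper6.LBCFibre.extendScalarsEquiv_naturality B' (mh M) x]
  exact pi_nat M _

lemma comm_aux {m k : ℕ} (M : Matrix (Fin m) (Fin k) B) (M' : Matrix (Fin m) (Fin k) B')
    (hM : M.map (algebraMap B B') = M') :
    (thetaEquiv (B := B) (B' := B') k).toModuleIso.hom ≫ mh M' =
      (ModuleCat.extendScalars.{u, u, u} (algebraMap B B')).map (mh M) ≫
        (thetaEquiv (B := B) (B' := B') m).toModuleIso.hom := by
  apply ModuleCat.hom_ext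
  apply LinearMap.ext
  intro x
  show (mh M').hom (thetaEquiv (B := B) (B' := B') k x) =
    thetaEquiv (B := B) (B' := B') m
      (((ModuleCat.extendScalars.{u, u, u} (algebraMap B B')).map (mh M)).hom x)
  rw [theta_nat, hM]
  rfl

variable (n : ℤ → ℕ) (D : ∀ i : ℤ, Matrix (Fin (n (i + 1))) (Fin (n i)) B)
  (hD : ∀ i, D (i + 1) * D i = 0)
  (D' : ∀ i : ℤ, Matrix (Fin (n (i + 1))) (Fin (n i)) B')
  (hD' : ∀ i, D' (i + 1) * D' i = 0)
  (hDD' : ∀ i, (D i).map (algebraMap B B') = D' i)

include hDD' in
lemma bcMat_comm (i : ℤ) :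
    (thetaEquiv (B := B) (B' := B') (n i)).toModuleIso.hom ≫ (matCx n D' hD').d i (i + 1) =
      ((bcCxF (algebraMap B B')).obj (matCx n D hD)).d i (i + 1) ≫
        (thetaEquiv (B := B) (B' := B') (n (i + 1))).toModuleIso.hom := by
  have h1 : (matCx n D' hD').d i (i + 1) = mh (D' i) := matCx_d n D' hD' i
  have h2 : (matCx n D hD).d i (i + 1) = mh (D i) := matCx_d n D hD i
  have e1 := congrArg (fun t : ModuleCat.of B' (Fin (n i) → B') ⟶
      ModuleCat.of B' (Fin (n (i + 1)) → B') =>
      (thetaEquiv (B := B) (B' := B') (n i)).toModuleIso.hom ≫ t) h1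
  have e2 := congrArg (fun t : ModuleCat.of B (Fin (n i) → B) ⟶
      ModuleCat.of B (Fin (n (i + 1)) → B) =>
      (ModuleCat.extendScalars.{u, u, u} (algebraMap B B')).map t ≫
        (thetaEquiv (B := B) (B' := B') (n (i + 1))).toModuleIso.hom) h2
  exact e1.trans ((comm_aux (D i) (D' i) (hDD' i)).trans e2.symm)

/-- base change of a matrix complex -/
noncomputable def bcMatIso (hDD' : ∀ i, (D i).map (algebraMap B B') = D' i) :
    (bcCxF (algebraMap B B')).obj (matCx n D hD) ≅ matCx n D' hD' :=
  HomologicalComplex.Hom.isoOfComponents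
    (fun i => (thetaEquiv (B := B) (B' := B') (n i)).toModuleIso)
    (fun i j hij => by
      obtain rfl : i + 1 = j := hij
      exact bcMat_comm n D hD D' hD' hDD' i)

variable (e : ∀ i : ℤ, Matrix (Fin (n i)) (Fin (n i)) B)
  (he : ∀ i, e (i + 1) * D i = D i * e i)
  (e' : ∀ i : ℤ, Matrix (Fin (n i)) (Fin (n i)) B')
  (he' : ∀ i, e' (i + 1) * D' i = D' i * e' i)
  (hee' : ∀ i, (e i).map (algebraMap B B') = e' i)

include hee' in
lemma bcMatIso_conj :
    (bcCxF (algebraMap B B')).map (matEnd n D hD e he) ≫ (bcMatIso n D hD D' hD' hDD').hom =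
      (bcMatIso n D hD D' hD' hDD').hom ≫ matEnd n D' hD' e' he' := by
  refine HomologicalComplex.hom_ext _ _ (fun i => ?_)
  exact (comm_aux (e i) (e' i) (hee' i)).symm

end BC

end Groth.Agent.Helper6.ColimPerf
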