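import Mathlib
import Groth.Agent.Helper6.ColimPerf1
import Groth.Agent.Helper4.FPAlgDescent

/-!
# Idempotent matrix data for complexes, and its descent along filtered colimits of rings
-/

set_option autoImplicit false
set_option linter.style.haveILetI false
set_option linter.unusedSectionVars false

universe u
open CategoryTheory CategoryTheory.Limits

namespace Groth.Agent.Helper6.ColimPerf

section Split
variable {C : Type*} [Category C]

/-- splittings of idempotents conjugate under an isomorphism are isomorphic -/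
def splitIso {X X' Y Y' : C} (ε : X ⟶ X) (ε' : X' ⟶ X') (θ : X ≅ X')
    (hθ : ε ≫ θ.hom = θ.hom ≫ ε')
    (i : Y ⟶ X) (p : X ⟶ Y) (hip : i ≫ p = 𝟙 Y) (hpi : p ≫ i = ε)
    (i' : Y' ⟶ X') (p' : X' ⟶ Y') (hip' : i' ≫ p' = 𝟙 Y') (hpi' : p' ≫ i' = ε') : Y ≅ Y' where
  hom := i ≫ θ.hom ≫ p'
  inv := i' ≫ θ.inv ≫ p
  hom_inv_id := by
    have h1 : i ≫ ε = i := by rw [← hpi, ← Category.assoc, hip, Category.id_comp]
    calc (i ≫ θ.hom ≫ p') ≫ i' ≫ θ.inv ≫ p
        = i ≫ θ.hom ≫ (p' ≫ i') ≫ θ.inv ≫ p := by simp only [Category.assoc]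
      _ = i ≫ (θ.hom ≫ ε') ≫ θ.inv ≫ p := by rw [hpi']; simp only [Category.assoc]
      _ = i ≫ (ε ≫ θ.hom) ≫ θ.inv ≫ p := by rw [hθ]
      _ = (i ≫ ε) ≫ p := by simp only [Category.assoc, Iso.hom_inv_id_assoc]
      _ = 𝟙 Y := by rw [h1, hip]
  inv_hom_id := by
    have hθ' : ε' ≫ θ.inv = θ.inv ≫ ε := by
      rw [Iso.comp_inv_eq, Category.assoc, hθ, Iso.inv_hom_id_assoc]
    have h1' : i' ≫ ε' = i' := by rw [← hpi', ← Category.assoc, hip', Category.id_comp]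
    calc (i' ≫ θ.inv ≫ p) ≫ i ≫ θ.hom ≫ p'
        = i' ≫ θ.inv ≫ (p ≫ i) ≫ θ.hom ≫ p' := by simp only [Category.assoc]
      _ = i' ≫ (θ.inv ≫ ε) ≫ θ.hom ≫ p' := by rw [hpi]; simp only [Category.assoc]
      _ = i' ≫ (ε' ≫ θ.inv) ≫ θ.hom ≫ p' := by rw [hθ']
      _ = (i' ≫ ε') ≫ p' := by simp only [Category.assoc, Iso.inv_hom_id_assoc]
      _ = 𝟙 Y' := by rw [h1', hip']

end Split

section Data
variable {B : Type u} [CommRing B]

lemma exists_split (X : DRing.Cx B) (ε : X ⟶ X) (hε : ε ≫ ε = ε) :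
    ∃ (Y : DRing.Cx B) (i : Y ⟶ X) (p : X ⟶ Y), i ≫ p = 𝟙 Y ∧ p ≫ i = ε :=
  CategoryTheory.IsIdempotentComplete.idempotents_split X ε hε

lemma mh_toMatrix' {m k : ℕ} (φ : ModuleCat.of B (Fin k → B) ⟶ ModuleCat.of B (Fin m → B)) :
    mh (LinearMap.toMatrix' φ.hom) = φ := by
  unfold mh
  rw [Matrix.toLin'_toMatrix']
  rfl

lemma mh_injective {m k : ℕ} {M N : Matrix (Fin m) (Fin k) B} (h : mh M = mh N) : M = N := by
  have h2 : Matrix.toLin' M = Matrix.toLin' N := congrArg ModuleCat.Hom.hom h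
  exact Matrix.toLin'.injective h2

/-- matrices for a complex of finite free modules together with an idempotent endomorphism -/
structure MatData (B : Type u) [CommRing B] (n : ℤ → ℕ) where
  /-- differentials -/
  D : ∀ i : ℤ, Matrix (Fin (n (i + 1))) (Fin (n i)) B
  /-- the idempotent -/
  e : ∀ i : ℤ, Matrix (Fin (n i)) (Fin (n i)) B
  hD : ∀ i, D (i + 1) * D i = 0
  he : ∀ i, e (i + 1) * D i = D i * e i
  hee : ∀ i, e i * e i = e i

variable {n : ℤ → ℕ}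

/-- the complex of free modules -/
noncomputable abbrev MatData.cx (M : MatData B n) : DRing.Cx B := matCx n M.D M.hD

/-- the idempotent endomorphism -/
noncomputable abbrev MatData.idem (M : MatData B n) : M.cx ⟶ M.cx :=
  matEnd n M.D M.hD M.e M.he

lemma MatData.idem_idem (M : MatData B n) : M.idem ≫ M.idem = M.idem :=
  matEnd_idem n M.D M.hD M.e M.he M.hee

lemma split_props (M : MatData B n) (Y : DRing.Cx B) (i : Y ⟶ M.cx) (p : M.cx ⟶ Y)
    (hip : i ≫ p = 𝟙 Y) (a b : ℤ) (hn : ∀ k, k < a ∨ b < k → n k = 0) :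
    DRing.VanishesOutside Y a b ∧ DRing.TermwiseFiniteProjective Y := by
  have hk : ∀ k, i.f k ≫ p.f k = 𝟙 (Y.X k) := fun k => by
    rw [← HomologicalComplex.comp_f, hip]
    rfl
  constructor
  · intro k hk'
    have h0 := hn k hk'
    have hi0 : i.f k = 0 := by
      apply ModuleCat.hom_ext
      apply LinearMap.ext
      intro y
      have hsub : ∀ v w : Fin (n k) → B, v = w := fun v w =>
        funext fun j => (Fin.cast h0 j).elim0
      exact hsub _ _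
    rw [IsZero.iff_id_eq_zero, ← hk k, hi0, zero_comp]
  · intro k
    let pk : ModuleCat.of B (Fin (n k) → B) ⟶ Y.X k := p.f k
    let ik : Y.X k ⟶ ModuleCat.of B (Fin (n k) → B) := i.f k
    have h : ik ≫ pk = 𝟙 _ := hk k
    have hl : pk.hom.comp ik.hom = LinearMap.id := by
      rw [← ModuleCat.hom_comp, h]
      rfl
    refine ⟨Module.Finite.of_surjective pk.hom ?_, Module.Projective.of_split ik.hom pk.hom hl⟩
    intro y
    exact ⟨ik.hom y, LinearMap.congr_fun hl y⟩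

end Data

section Descent
variable {J : Type u} [SmallCategory J] [IsFiltered J] {F : J ⥤ CommRingCat.{u}} {c : Cocone F}
  (hc : IsColimit c)

include hc in
lemma exists_lift {ι : Type*} [Finite ι] (x : ι → c.pt) :
    ∃ k, ∀ t, x t ∈ Set.range (c.ι.app k).hom := by
  obtain ⟨k, hk⟩ := Groth.Agent.Helper4.FPAlgDescent.exists_common hc
    (Set.finite_range x).toFinset
  refine ⟨k, fun t => hk ?_⟩
  rw [Finset.mem_coe, Set.Finite.mem_toFinset]
  exact ⟨t, rfl⟩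

include hc in
lemma exists_kill {κ : Type*} [Finite κ] {j₀ : J} (z : κ → F.obj j₀)
    (hz : ∀ t, (c.ι.app j₀).hom (z t) = 0) :
    ∃ (k : J) (g : j₀ ⟶ k), ∀ t, (F.map g).hom (z t) = 0 := by
  classical
  have key : ∀ S : Finset κ, ∃ (k : J) (g : j₀ ⟶ k), ∀ t ∈ S, (F.map g).hom (z t) = 0 := by
    intro S
    induction S using Finset.induction_on with
    | empty => exact ⟨j₀, 𝟙 _, by simp⟩
    | insert a S _ ih =>
      obtain ⟨k, g, hg⟩ := ih
      have h0 : (c.ι.app k).hom ((F.map g).hom (z a)) = 0 := by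
        rw [Groth.Agent.Helper4.FPAlgDescent.ι_map]
        exact hz a
      obtain ⟨k', g', hg'⟩ := Groth.Agent.Helper4.FPAlgDescent.zero_exact hc _ h0
      refine ⟨k', g ≫ g', fun t ht => ?_⟩
      have hcomp : ∀ y, (F.map (g ≫ g')).hom y = (F.map g').hom ((F.map g).hom y) := by
        intro y
        rw [F.map_comp]
        rfl
      rw [hcomp]
      rcases Finset.mem_insert.1 ht with rfl | ht
      · exact hg'
      · rw [hg t ht, map_zero]
  haveI := Fintype.ofFinite κ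
  obtain ⟨k, g, h⟩ := key Finset.univ
  exact ⟨k, g, fun t => h t (Finset.mem_univ t)⟩

lemma mat_eq_of_cols {R : Type*} {r s : ℕ} (h : s = 0) (M N : Matrix (Fin r) (Fin s) R) :
    M = N := by
  subst h
  ext i j
  exact j.elim0

/-- index type for the entries of the matrices -/
abbrev Idx1 (n : ℤ → ℕ) (S : Finset ℤ) : Type :=
  Σ i : S, (Fin (n (i.1 + 1)) × Fin (n i.1)) ⊕ (Fin (n i.1) × Fin (n i.1))

/-- index type for the entries of the relations -/
abbrev Idx2 (n : ℤ → ℕ) (S : Finset ℤ) : Type :=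
  Σ i : S, (Fin (n (i.1 + 1 + 1)) × Fin (n i.1)) ⊕
    ((Fin (n (i.1 + 1)) × Fin (n i.1)) ⊕ (Fin (n i.1) × Fin (n i.1)))

/-- all entries -/
def x1 {R : Type*} (n : ℤ → ℕ) (S : Finset ℤ)
    (D : ∀ i : ℤ, Matrix (Fin (n (i + 1))) (Fin (n i)) R)
    (e : ∀ i : ℤ, Matrix (Fin (n i)) (Fin (n i)) R) : Idx1 n S → R
  | ⟨i, Sum.inl rc⟩ => D i.1 rc.1 rc.2
  | ⟨i, Sum.inr rc⟩ => e i.1 rc.1 rc.2

/-- all relation entries -/
def z2 {R : Type*} [CommRing R] (n : ℤ → ℕ) (S : Finset ℤ)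
    (D : ∀ i : ℤ, Matrix (Fin (n (i + 1))) (Fin (n i)) R)
    (e : ∀ i : ℤ, Matrix (Fin (n i)) (Fin (n i)) R) : Idx2 n S → R
  | ⟨i, Sum.inl rc⟩ => (D (i.1 + 1) * D i.1) rc.1 rc.2
  | ⟨i, Sum.inr (Sum.inl rc)⟩ => (e (i.1 + 1) * D i.1) rc.1 rc.2 - (D i.1 * e i.1) rc.1 rc.2
  | ⟨i, Sum.inr (Sum.inr rc)⟩ => (e i.1 * e i.1) rc.1 rc.2 - e i.1 rc.1 rc.2

include hc in
theorem descend (n : ℤ → ℕ) (a b : ℤ) (hn : ∀ k, k < a ∨ b < k → n k = 0)
    (M : MatData c.pt n) :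
    ∃ (k : J) (M' : MatData (F.obj k) n),
      (∀ i, (M'.D i).map (c.ι.app k).hom = M.D i) ∧
      (∀ i, (M'.e i).map (c.ι.app k).hom = M.e i) := by
  classical
  let S : Finset ℤ := Finset.Icc a b
  have hout : ∀ i, i ∉ S → n i = 0 := fun i hi => hn i (by
    rw [Finset.mem_Icc, not_and_or, not_le, not_le] at hi
    exact hi)
  obtain ⟨k₀, hk₀⟩ := exists_lift hc (x1 n S M.D M.e)
  have hlift : ∀ i : ℤ, ∃ (D' : Matrix (Fin (n (i + 1))) (Fin (n i)) (F.obj k₀))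
      (e' : Matrix (Fin (n i)) (Fin (n i)) (F.obj k₀)),
      D'.map (c.ι.app k₀).hom = M.D i ∧ e'.map (c.ι.app k₀).hom = M.e i := by
    intro i
    by_cases hi : i ∈ S
    · refine ⟨Matrix.of fun r s => (hk₀ ⟨⟨i, hi⟩, Sum.inl (r, s)⟩).choose,
        Matrix.of fun r s => (hk₀ ⟨⟨i, hi⟩, Sum.inr (r, s)⟩).choose, ?_, ?_⟩
      · ext r s
        exact (hk₀ ⟨⟨i, hi⟩, Sum.inl (r, s)⟩).choose_spec
      · ext r s
        exact (hk₀ ⟨⟨i, hi⟩, Sum.inr (r, s)⟩).choose_spec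
    · exact ⟨0, 0, mat_eq_of_cols (hout i hi) _ _, mat_eq_of_cols (hout i hi) _ _⟩
  choose D₀ e₀ hD₀ he₀ using hlift
  have hz : ∀ t, (c.ι.app k₀).hom (z2 n S D₀ e₀ t) = 0 := by
    rintro ⟨i, rc | rc | rc⟩
    · show (c.ι.app k₀).hom ((D₀ (i.1 + 1) * D₀ i.1) rc.1 rc.2) = 0
      have h1 : (D₀ (i.1 + 1) * D₀ i.1).map (c.ι.app k₀).hom = 0 := by
        rw [Matrix.map_mul, hD₀, hD₀, M.hD]
      exact congrFun (congrFun h1 rc.1) rc.2
    · show (c.ι.app k₀).hom ((e₀ (i.1 + 1) * D₀ i.1) rc.1 rc.2 - (D₀ i.1 * e₀ i.1) rc.1 rc.2) = 0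
      rw [map_sub, sub_eq_zero]
      have h1 : (e₀ (i.1 + 1) * D₀ i.1).map (c.ι.app k₀).hom =
          (D₀ i.1 * e₀ i.1).map (c.ι.app k₀).hom := by
        rw [Matrix.map_mul, Matrix.map_mul, hD₀, he₀, he₀, M.he]
      exact congrFun (congrFun h1 rc.1) rc.2
    · show (c.ι.app k₀).hom ((e₀ i.1 * e₀ i.1) rc.1 rc.2 - e₀ i.1 rc.1 rc.2) = 0
      rw [map_sub, sub_eq_zero]
      have h1 : (e₀ i.1 * e₀ i.1).map (c.ι.app k₀).hom = (e₀ i.1).map (c.ι.app k₀).hom := by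
        rw [Matrix.map_mul, he₀, M.hee]
      exact congrFun (congrFun h1 rc.1) rc.2
  obtain ⟨k, g, hg⟩ := exists_kill hc (z2 n S D₀ e₀) hz
  let φ : F.obj k₀ →+* F.obj k := (F.map g).hom
  have hcomp : ∀ y, (c.ι.app k).hom (φ y) = (c.ι.app k₀).hom y := fun y =>
    Groth.Agent.Helper4.FPAlgDescent.ι_map c g y
  have r1 : ∀ i, (D₀ (i + 1)).map φ * (D₀ i).map φ = 0 := by
    intro i
    rw [← Matrix.map_mul]
    by_cases hi : i ∈ S
    · ext r s
      exact hg ⟨⟨i, hi⟩, Sum.inl (r, s)⟩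
    · exact mat_eq_of_cols (hout i hi) _ _
  have r2 : ∀ i, (e₀ (i + 1)).map φ * (D₀ i).map φ = (D₀ i).map φ * (e₀ i).map φ := by
    intro i
    rw [← Matrix.map_mul, ← Matrix.map_mul]
    by_cases hi : i ∈ S
    · ext r s
      have h2 : φ ((e₀ (i + 1) * D₀ i) r s - (D₀ i * e₀ i) r s) = 0 :=
        hg ⟨⟨i, hi⟩, Sum.inr (Sum.inl (r, s))⟩
      rw [map_sub, sub_eq_zero] at h2
      exact h2
    · exact mat_eq_of_cols (hout i hi) _ _
  have r3 : ∀ i, (e₀ i).map φ * (e₀ i).map φ = (e₀ i).map φ := by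
    intro i
    rw [← Matrix.map_mul]
    by_cases hi : i ∈ S
    · ext r s
      have h2 : φ ((e₀ i * e₀ i) r s - e₀ i r s) = 0 :=
        hg ⟨⟨i, hi⟩, Sum.inr (Sum.inr (r, s))⟩
      rw [map_sub, sub_eq_zero] at h2
      exact h2
    · exact mat_eq_of_cols (hout i hi) _ _
  refine ⟨k, ⟨fun i => (D₀ i).map φ, fun i => (e₀ i).map φ, r1, r2, r3⟩, fun i => ?_, fun i => ?_⟩
  · rw [← hD₀ i]
    ext r s
    exact hcomp _
  · rw [← he₀ i]
    ext r s
    exact hcomp _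

end Descent

end Groth.Agent.Helper6.ColimPerf
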