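import Mathlib
import Groth.Agent.Helper6.ColimPerf2
import Groth.Agent.Helper3.DRing1

/-!
# Perfect complexes descend along filtered colimits of rings
-/

set_option autoImplicit false
set_option linter.style.haveILetI false
set_option linter.unusedSectionVars false

universe u
open CategoryTheory CategoryTheory.Limits

namespace Groth.Agent.Helper6.ColimPerf
open Groth.Agent.Helper6.LBCCompute

attribute [local instance] HasDerivedCategory.standard

section PartD
variable {A : Type u} [CommRing A]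

theorem exists_matData (E : DRing.Cx A) (a b : ℤ) (hv : DRing.VanishesOutside E a b)
    (hp : DRing.TermwiseFiniteProjective E) :
    ∃ (n : ℤ → ℕ) (_ : ∀ i, i < a ∨ b < i → n i = 0) (M : MatData A n) (i : E ⟶ M.cx)
      (p : M.cx ⟶ E), i ≫ p = 𝟙 E ∧ p ≫ i = M.idem := by
  have h : ∀ k : ℤ, ∃ (m : ℕ) (g : E.X k ⟶ ModuleCat.of A (Fin m → A))
      (f : ModuleCat.of A (Fin m → A) ⟶ E.X k), g ≫ f = 𝟙 _ ∧ (k < a ∨ b < k → m = 0) := by
    intro k
    by_cases hk : k < a ∨ b < k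
    · refine ⟨0, 0, 0, ?_, fun _ => rfl⟩
      exact (hv k hk).eq_of_src _ _
    · haveI := (hp k).1
      haveI := (hp k).2
      obtain ⟨m, f, g, -, -, hfg⟩ := Module.Finite.exists_comp_eq_id_of_projective A (E.X k)
      exact ⟨m, ModuleCat.ofHom g, ModuleCat.ofHom f, ModuleCat.hom_ext hfg,
        fun h => absurd h hk⟩
  choose n g f hgf hn using h
  have hgf' : ∀ k {Z : ModuleCat.{u} A} (h : E.X k ⟶ Z), g k ≫ f k ≫ h = h := fun k Z h => by
    rw [← Category.assoc, hgf, Category.id_comp]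
  let Dm : ∀ k : ℤ, Matrix (Fin (n (k + 1))) (Fin (n k)) A := fun k =>
    LinearMap.toMatrix' (f k ≫ E.d k (k + 1) ≫ g (k + 1)).hom
  let em : ∀ k : ℤ, Matrix (Fin (n k)) (Fin (n k)) A := fun k =>
    LinearMap.toMatrix' (f k ≫ g k).hom
  have hDm : ∀ k, mh (Dm k) = f k ≫ E.d k (k + 1) ≫ g (k + 1) := fun k => mh_toMatrix' _
  have hem : ∀ k, mh (em k) = f k ≫ g k := fun k => mh_toMatrix' _
  have hD : ∀ k, Dm (k + 1) * Dm k = 0 := by
    intro k
    apply mh_injective
    rw [mh_mul, mh_zero, hDm, hDm]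
    calc (f k ≫ E.d k (k + 1) ≫ g (k + 1)) ≫ f (k + 1) ≫ E.d (k + 1) (k + 1 + 1) ≫ g (k + 1 + 1)
        = f k ≫ E.d k (k + 1) ≫ g (k + 1) ≫ f (k + 1) ≫ E.d (k + 1) (k + 1 + 1) ≫
            g (k + 1 + 1) := by simp only [Category.assoc]
      _ = f k ≫ (E.d k (k + 1) ≫ E.d (k + 1) (k + 1 + 1)) ≫ g (k + 1 + 1) := by
          rw [hgf', Category.assoc]
      _ = 0 := by rw [E.d_comp_d, zero_comp, comp_zero]
  have he : ∀ k, em (k + 1) * Dm k = Dm k * em k := by
    intro k
    apply mh_injective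
    rw [mh_mul, mh_mul, hDm, hem, hem]
    simp only [Category.assoc, hgf']
  have hee : ∀ k, em k * em k = em k := by
    intro k
    apply mh_injective
    rw [mh_mul, hem]
    simp only [Category.assoc, hgf']
  let M : MatData A n := ⟨Dm, em, hD, he, hee⟩
  have hd : ∀ k, M.cx.d k (k + 1) = f k ≫ E.d k (k + 1) ≫ g (k + 1) := fun k =>
    (matCx_d n Dm hD k).trans (hDm k)
  let i : E ⟶ M.cx :=
    { f := fun k => g k
      comm' := fun k j hkj => by
        obtain rfl : k + 1 = j := hkj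
        exact (congrArg (fun t : ModuleCat.of A (Fin (n k) → A) ⟶
          ModuleCat.of A (Fin (n (k + 1)) → A) => g k ≫ t) (hd k)).trans (hgf' k _) }
  let p : M.cx ⟶ E :=
    { f := fun k => f k
      comm' := fun k j hkj => by
        obtain rfl : k + 1 = j := hkj
        refine ((congrArg (fun t : ModuleCat.of A (Fin (n k) → A) ⟶
          ModuleCat.of A (Fin (n (k + 1)) → A) => t ≫ f (k + 1)) (hd k)).trans ?_).symm
        show (f k ≫ E.d k (k + 1) ≫ g (k + 1)) ≫ f (k + 1) = f k ≫ E.d k (k + 1)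
        rw [Category.assoc, Category.assoc, hgf, Category.comp_id] }
  refine ⟨n, hn, M, i, p, ?_, ?_⟩
  · exact HomologicalComplex.hom_ext _ _ (fun k => hgf k)
  · exact HomologicalComplex.hom_ext _ _ (fun k => (hem k).symm)

end PartD

section Assembly
variable {B B' : Type u} [CommRing B] [CommRing B'] [Algebra B B']
  [DRing.HasLBaseChange (algebraMap B B')]

theorem assembly (n : ℤ → ℕ) (a b : ℤ) (hn : ∀ k, k < a ∨ b < k → n k = 0)
    (M' : MatData B n) (M : MatData B' n)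
    (hD : ∀ i, (M'.D i).map (algebraMap B B') = M.D i)
    (he : ∀ i, (M'.e i).map (algebraMap B B') = M.e i)
    (E : DRing.Cx B') (i : E ⟶ M.cx) (p : M.cx ⟶ E) (hip : i ≫ p = 𝟙 E)
    (hpi : p ≫ i = M.idem) :
    ∃ Y : DRing.Cx B, DRing.VanishesOutside Y a b ∧ DRing.TermwiseFiniteProjective Y ∧
      Nonempty ((DRing.LBaseChange (algebraMap B B')).obj (DRing.toD Y) ≅ DRing.toD E) := by
  obtain ⟨Y, i', p', hip', hpi'⟩ := exists_split M'.cx M'.idem M'.idem_idem
  obtain ⟨hYv, hYp⟩ := split_props M' Y i' p' hip' a b hn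
  haveI : Y.IsKProjective := Groth.Agent.Helper3.DRingLib.isKProjective_of_vanishesAbove Y b
    (fun k hk => hYv k (Or.inr hk)) (fun k => (hYp k).2)
  refine ⟨Y, hYv, hYp, ⟨lbcIso (algebraMap B B') Y ≪≫ DerivedCategory.Q.mapIso ?_⟩⟩
  exact splitIso ((bcCxF (algebraMap B B')).map M'.idem) M.idem
    (bcMatIso n M'.D M'.hD M.D M.hD hD)
    (bcMatIso_conj n M'.D M'.hD M.D M.hD hD M'.e M'.he M.e M.he he)
    ((bcCxF (algebraMap B B')).map i') ((bcCxF (algebraMap B B')).map p')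
    (by rw [← Functor.map_comp, hip', CategoryTheory.Functor.map_id])
    (by rw [← Functor.map_comp, hpi'])
    i p hip hpi

end Assembly

section Main
variable {J : Type u} [SmallCategory J] [IsFiltered J]

theorem main (F : J ⥤ CommRingCat.{u}) (c : Cocone F) (hc : IsColimit c)
    [∀ j : J, DRing.HasLBaseChange (c.ι.app j).hom] (K : Dual.D c.pt)
    (hK : DRing.IsPerfect c.pt K) :
    ∃ (j : J) (Kj : Dual.D (F.obj j)), DRing.IsPerfect (F.obj j) Kj ∧
      Nonempty ((DRing.LBaseChange (c.ι.app j).hom).obj Kj ≅ K) := by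
  obtain ⟨E, a, b, hv, hp, ⟨iso⟩⟩ := hK
  obtain ⟨n, hn, M, i, p, hip, hpi⟩ := exists_matData E a b hv hp
  obtain ⟨k, M', hD, he⟩ := descend hc n a b hn M
  letI : Algebra (F.obj k) c.pt := (c.ι.app k).hom.toAlgebra
  haveI : DRing.HasLBaseChange (algebraMap (F.obj k) c.pt) :=
    ‹∀ j : J, DRing.HasLBaseChange (c.ι.app j).hom› k
  obtain ⟨Y, hYv, hYp, ⟨φ⟩⟩ := assembly n a b hn M' M hD he E i p hip hpi
  exact ⟨k, DRing.toD Y, ⟨Y, a, b, hYv, hYp, ⟨Iso.refl _⟩⟩, ⟨φ ≪≫ iso⟩⟩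

end Main

end Groth.Agent.Helper6.ColimPerf
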