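import Mathlib
import Groth.Prelude.Def_CohDer

/-!
# Maps from an `ℕ`-compact object into a sequential homotopy colimit
-/

set_option autoImplicit false
universe v u

open CategoryTheory Limits DirectSum

namespace Groth.Agent.Helper6.CompactSeq

variable {D : Type u} [Category.{v} D] [Preadditive D]

section S3

variable (K : D) (E : ℕ → D) (S : D) (ι : ∀ n, E n ⟶ S)

/-- the map `⊕ Hom(K, E n) → Hom(K, S)` -/
noncomputable def Φ : (⨁ i : ULift.{v} ℕ, (K ⟶ E i.down)) →+ (K ⟶ S) := by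
  classical
  exact DirectSum.toAddMonoid (fun i => Preadditive.rightComp K (ι i.down))

lemma Φ_of (i : ULift.{v} ℕ) (g : K ⟶ E i.down) :
    Φ K E S ι (by classical exact DirectSum.of (fun i : ULift.{v} ℕ => (K ⟶ E i.down)) i g) =
      g ≫ ι i.down := by
  classical
  simp only [Φ, DirectSum.toAddMonoid_of]
  rfl

variable (hS : IsColimit (Cofan.mk S ι))

/-- reindexing the colimit cofan by `ULift ℕ` -/
noncomputable def isColimitULift :
    IsColimit (Cofan.mk S (fun i : ULift.{v} ℕ => ι i.down)) :=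
  Cofan.IsColimit.mk _ (fun s => hS.desc (Cofan.mk s.pt (fun n => s.inj ⟨n⟩)))
    (fun s i => hS.fac (Cofan.mk s.pt (fun n => s.inj ⟨n⟩)) ⟨i.down⟩)
    (fun s m hm => hS.uniq (Cofan.mk s.pt (fun n => s.inj ⟨n⟩)) m (fun j => hm ⟨j.as⟩))

include hS in
lemma Φ_bijective
    (hK : ∀ [HasCoproduct fun i : ULift.{v} ℕ => E i.down],
      Function.Bijective (CohDer.homSumToHomCoprod K (fun i : ULift.{v} ℕ => E i.down))) :
    Function.Bijective (Φ K E S ι) := by
  classical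
  haveI : HasCoproduct (fun i : ULift.{v} ℕ => E i.down) := ⟨⟨_, isColimitULift E S ι hS⟩⟩
  let e : (∐ fun i : ULift.{v} ℕ => E i.down) ≅ S :=
    colimit.isoColimitCocone ⟨_, isColimitULift E S ι hS⟩
  have he : ∀ i : ULift.{v} ℕ, Sigma.ι (fun i : ULift.{v} ℕ => E i.down) i ≫ e.hom = ι i.down :=
    fun i => colimit.isoColimitCocone_ι_hom ⟨_, isColimitULift E S ι hS⟩ ⟨i⟩
  have h1 : Φ K E S ι = (Preadditive.rightComp K e.hom).comp
      (CohDer.homSumToHomCoprod K (fun i : ULift.{v} ℕ => E i.down)) := by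
    apply DirectSum.addHom_ext
    intro i g
    simp only [Φ, CohDer.homSumToHomCoprod, DirectSum.toAddMonoid_of, AddMonoidHom.comp_apply]
    erw [DirectSum.toAddMonoid_of]
    show g ≫ ι i.down = (g ≫ Sigma.ι (fun i : ULift.{v} ℕ => E i.down) i) ≫ e.hom
    rw [Category.assoc, he]
  rw [h1]
  have h2 : Function.Bijective (Preadditive.rightComp K e.hom) := by
    constructor
    · intro a b hab
      exact (cancel_mono e.hom).mp hab
    · intro b
      refine ⟨b ≫ e.inv, ?_⟩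
      show (b ≫ e.inv) ≫ e.hom = b
      rw [Category.assoc, e.inv_hom_id, Category.comp_id]
  exact h2.comp hK

end S3

section S4

variable (K : D) (E : ℕ → D) (S : D) (ι : ∀ n, E n ⟶ S)
  (t : ∀ n m : ℕ, n ≤ m → (E n ⟶ E m))

/-- abbreviation for the direct sum of the Hom groups -/
abbrev A := ⨁ i : ULift.{v} ℕ, (K ⟶ E i.down)

/-- the generators -/
noncomputable def gen (i : ULift.{v} ℕ) : (K ⟶ E i.down) →+ A K E := by
  classical
  exact DirectSum.of (fun i : ULift.{v} ℕ => (K ⟶ E i.down)) i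

lemma Φ_gen (i : ULift.{v} ℕ) (g : K ⟶ E i.down) : Φ K E S ι (gen K E i g) = g ≫ ι i.down :=
  Φ_of K E S ι i g

lemma gen_apply_same (i : ULift.{v} ℕ) (g : K ⟶ E i.down) : (gen K E i g) i = g := by
  classical
  exact DirectSum.of_eq_same _ _

lemma gen_apply_ne (i j : ULift.{v} ℕ) (h : j ≠ i) (g : K ⟶ E i.down) : (gen K E i g) j = 0 := by
  classical
  exact DirectSum.of_eq_of_ne _ _ _ h

lemma induction_gen {P : A K E → Prop} (ω : A K E) (h0 : P 0)
    (hg : ∀ i g, P (gen K E i g)) (ha : ∀ x y, P x → P y → P (x + y)) : P ω := by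
  classical
  exact DirectSum.induction_on ω h0 hg ha

/-- `1 - shift` on the direct sum of Hom groups -/
noncomputable def uAlg : A K E →+ A K E := by
  classical
  exact DirectSum.toAddMonoid (fun i => gen K E i -
    (gen K E ⟨i.down + 1⟩).comp (Preadditive.rightComp K (t i.down (i.down + 1) (Nat.le_succ _))))

lemma uAlg_gen (i : ULift.{v} ℕ) (g : K ⟶ E i.down) :
    uAlg K E t (gen K E i g) = gen K E i g -
      gen K E ⟨i.down + 1⟩ (g ≫ t i.down (i.down + 1) (Nat.le_succ _)) := by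
  classical
  simp only [uAlg, gen, DirectSum.toAddMonoid_of]
  rfl

/-- summing up to stage `m` -/
noncomputable def σ (m : ℕ) : A K E →+ (K ⟶ E m) := by
  classical
  exact DirectSum.toAddMonoid (fun i => if h : i.down ≤ m then
    Preadditive.rightComp K (t i.down m h) else 0)

lemma σ_gen_le (m : ℕ) (i : ULift.{v} ℕ) (h : i.down ≤ m) (g : K ⟶ E i.down) :
    σ K E t m (gen K E i g) = g ≫ t i.down m h := by
  classical
  simp only [σ, gen, DirectSum.toAddMonoid_of, dif_pos h]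
  rfl

lemma σ_gen_gt (m : ℕ) (i : ULift.{v} ℕ) (h : ¬ i.down ≤ m) (g : K ⟶ E i.down) :
    σ K E t m (gen K E i g) = 0 := by
  classical
  simp only [σ, gen, DirectSum.toAddMonoid_of, dif_neg h]
  rfl

variable (ht0 : ∀ n, t n n le_rfl = 𝟙 _)
  (ht : ∀ n m k (h1 : n ≤ m) (h2 : m ≤ k), t n m h1 ≫ t m k h2 = t n k (h1.trans h2))

include ht0 ht in
lemma σ_uAlg (m : ℕ) (ω : A K E) : σ K E t m (uAlg K E t ω) = ω ⟨m⟩ := by
  refine induction_gen K E (P := fun ω => σ K E t m (uAlg K E t ω) = ω ⟨m⟩) ω ?_ ?_ ?_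
  · simp
  · intro i g
    rw [uAlg_gen, map_sub]
    rcases lt_trichotomy i.down m with h | h | h
    · rw [σ_gen_le K E t m i h.le, σ_gen_le K E t m ⟨i.down + 1⟩ (by exact h), Category.assoc, ht,
        sub_self, gen_apply_ne]
      intro hh
      have := congrArg ULift.down hh
      simp at this
      omega
    · obtain ⟨i⟩ := i
      simp only at h
      subst h
      rw [σ_gen_le K E t i ⟨i⟩ le_rfl, σ_gen_gt K E t i ⟨i + 1⟩ (by simp), sub_zero, ht0,
        Category.comp_id, gen_apply_same]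
    · rw [σ_gen_gt K E t m i (by omega), σ_gen_gt K E t m ⟨i.down + 1⟩ (by simp; omega), sub_zero,
        gen_apply_ne]
      intro hh
      have := congrArg ULift.down hh
      simp at this
      omega
  · intro x y hx hy
    rw [map_add, map_add, hx, hy]
    rfl

lemma exists_bound (ω : A K E) : ∃ N : ℕ, ∀ m : ℕ, N ≤ m → ω ⟨m⟩ = 0 := by
  refine induction_gen K E (P := fun ω => ∃ N : ℕ, ∀ m : ℕ, N ≤ m → ω ⟨m⟩ = 0) ω
    ⟨0, fun m _ => rfl⟩ ?_ ?_
  · intro i g
    refine ⟨i.down + 1, fun m hm => gen_apply_ne K E i ⟨m⟩ ?_ g⟩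
    intro hh
    have := congrArg ULift.down hh
    simp at this
    omega
  · rintro x y ⟨N₁, h₁⟩ ⟨N₂, h₂⟩
    refine ⟨max N₁ N₂, fun m hm => ?_⟩
    show x ⟨m⟩ + y ⟨m⟩ = 0
    rw [h₁ m (le_trans (le_max_left _ _) hm), h₂ m (le_trans (le_max_right _ _) hm), add_zero]

variable (u : S ⟶ S)
  (hu : ∀ n, ι n ≫ u = ι n - t n (n + 1) (Nat.le_succ n) ≫ ι (n + 1))

include hu in
lemma Φ_uAlg (ω : A K E) : Φ K E S ι (uAlg K E t ω) = Φ K E S ι ω ≫ u := by
  refine induction_gen K E (P := fun ω => Φ K E S ι (uAlg K E t ω) = Φ K E S ι ω ≫ u) ω ?_ ?_ ?_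
  · simp
  · intro i g
    rw [uAlg_gen, map_sub, Φ_gen, Φ_gen]
    show g ≫ ι i.down - (g ≫ t i.down (i.down + 1) (Nat.le_succ _)) ≫ ι (i.down + 1) = _
    rw [Category.assoc, Category.assoc, hu, Preadditive.comp_sub]
  · intro x y hx hy
    rw [map_add, map_add, hx, hy, map_add, Preadditive.add_comp]

variable (hbij : Function.Bijective (Φ K E S ι))

include ht0 ht hu hbij in
/-- `(1 - shift)_*` is injective on `Hom(K, S)` -/
theorem eq_zero_of_comp_u (w : K ⟶ S) (hw : w ≫ u = 0) : w = 0 := by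
  obtain ⟨ω, rfl⟩ := hbij.2 w
  have h1 : uAlg K E t ω = 0 := by
    apply hbij.1
    rw [Φ_uAlg K E S ι t u hu, hw, map_zero]
  have h2 : ω = 0 := by
    apply DFinsupp.ext
    rintro ⟨m⟩
    rw [← σ_uAlg K E t ht0 ht m ω, h1, map_zero]
    rfl
  rw [h2, map_zero]

include ht0 ht hu hbij in
/-- a map into a finite stage which dies in the cone of `1 - shift` dies at a finite stage -/
theorem exists_comp_eq_zero (n : ℕ) (y : K ⟶ E n) (w : K ⟶ S) (hw : y ≫ ι n = w ≫ u) :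
    ∃ (m : ℕ) (h : n ≤ m), y ≫ t n m h = 0 := by
  obtain ⟨ω, rfl⟩ := hbij.2 w
  have h1 : gen K E ⟨n⟩ y = uAlg K E t ω := by
    apply hbij.1
    rw [Φ_uAlg K E S ι t u hu, Φ_gen]
    exact hw
  obtain ⟨N, hN⟩ := exists_bound K E ω
  refine ⟨max n N, le_max_left _ _, ?_⟩
  rw [← σ_gen_le K E t (max n N) ⟨n⟩ (le_max_left _ _), h1, σ_uAlg K E t ht0 ht,
    hN _ (le_max_right _ _)]

include hbij in
/-- every map to `S` comes, after composing with a compatible family, from a finite stage -/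
theorem exists_factor {Z : D} (g : ∀ n, E n ⟶ Z) (hg : ∀ n m (h : n ≤ m), t n m h ≫ g m = g n)
    (p : S ⟶ Z) (hp : ∀ n, ι n ≫ p = g n) (w : K ⟶ S) :
    ∃ (n : ℕ) (y : K ⟶ E n), y ≫ g n = w ≫ p := by
  obtain ⟨ω, rfl⟩ := hbij.2 w
  refine induction_gen K E (P := fun ω => ∃ (n : ℕ) (y : K ⟶ E n), y ≫ g n = Φ K E S ι ω ≫ p) ω
    ⟨0, 0, by simp⟩ ?_ ?_
  · intro i y
    exact ⟨i.down, y, by rw [Φ_gen, Category.assoc, hp]⟩
  · rintro x y ⟨n₁, y₁, h₁⟩ ⟨n₂, y₂, h₂⟩
    refine ⟨max n₁ n₂, y₁ ≫ t n₁ _ (le_max_left _ _) + y₂ ≫ t n₂ _ (le_max_right _ _), ?_⟩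
    rw [Preadditive.add_comp, Category.assoc, Category.assoc, hg, hg, h₁, h₂, map_add,
      Preadditive.add_comp]

end S4

end Groth.Agent.Helper6.CompactSeq
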