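import Mathlib

set_option autoImplicit false
set_option linter.style.haveILetI false
set_option linter.unusedSectionVars false

open Matrix

namespace Groth.Agent.Helper6.Conic

universe u

variable {k : Type u} [Field k]

/-! ### Linear algebra of symmetric `3 × 3` matrices -/

theorem symm_form (Q : Matrix (Fin 3) (Fin 3) k) (hQ : Q.IsSymm) (x y : Fin 3 → k) :
    y ⬝ᵥ Q *ᵥ x = x ⬝ᵥ Q *ᵥ y := by
  rw [dotProduct_mulVec, ← hQ.eq, vecMul_transpose, hQ.eq, dotProduct_comm]

/-- Polarization. -/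
theorem polar (Q : Matrix (Fin 3) (Fin 3) k) (hQ : Q.IsSymm) (a b : Fin 3 → k)
    (h : ∀ x, x ⬝ᵥ Q *ᵥ x = (a ⬝ᵥ x) * (b ⬝ᵥ x)) (i j : Fin 3) :
    2 * Q i j = a i * b j + a j * b i := by
  have hxy : ∀ x y : Fin 3 → k,
      2 * (x ⬝ᵥ Q *ᵥ y) = (a ⬝ᵥ x) * (b ⬝ᵥ y) + (a ⬝ᵥ y) * (b ⬝ᵥ x) := by
    intro x y
    have h1 := h (x + y)
    have h3 := h x
    have h4 := h y
    rw [mulVec_add, add_dotProduct, dotProduct_add, dotProduct_add, dotProduct_add,
      dotProduct_add, symm_form Q hQ x y] at h1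
    linear_combination h1 - h3 - h4
  have := hxy (Pi.single i 1) (Pi.single j 1)
  rw [mulVec_single_one, single_one_dotProduct, dotProduct_single_one, dotProduct_single_one,
    dotProduct_single_one, dotProduct_single_one] at this
  exact this

theorem two_smul_mulVec (Q : Matrix (Fin 3) (Fin 3) k) (a b : Fin 3 → k)
    (h : ∀ i j, 2 * Q i j = a i * b j + a j * b i) (x : Fin 3 → k) :
    (2 : k) • Q *ᵥ x = (b ⬝ᵥ x) • a + (a ⬝ᵥ x) • b := by
  funext i
  simp only [Pi.smul_apply, Pi.add_apply, mulVec, dotProduct, smul_eq_mul, Finset.mul_sum,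
    Finset.sum_mul]
  rw [← Finset.sum_add_distrib]
  apply Finset.sum_congr rfl
  intro j _
  linear_combination x j * h i j

theorem rank_eq_of_ker {r : ℕ} (Q : Matrix (Fin 3) (Fin 3) k) (M : Matrix (Fin r) (Fin 3) k)
    (hrows : LinearIndependent k M.row) (hker : ∀ x, Q *ᵥ x = 0 ↔ M *ᵥ x = 0) : Q.rank = r := by
  have h1 := LinearMap.finrank_range_add_finrank_ker Q.mulVecLin
  have h2 := LinearMap.finrank_range_add_finrank_ker M.mulVecLin
  have hk : LinearMap.ker Q.mulVecLin = LinearMap.ker M.mulVecLin := by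
    ext x
    simp only [LinearMap.mem_ker, Matrix.mulVecLin_apply]
    exact hker x
  have h3 : M.rank = r := by
    rw [hrows.rank_matrix, Fintype.card_fin]
  unfold Matrix.rank at h3 ⊢
  rw [hk] at h1
  omega

theorem rank_two (h2 : (2 : k) ≠ 0) (Q : Matrix (Fin 3) (Fin 3) k) (a b : Fin 3 → k)
    (h : ∀ i j, 2 * Q i j = a i * b j + a j * b i) (hind : LinearIndependent k ![a, b]) :
    Q.rank = 2 := by
  apply rank_eq_of_ker Q (Matrix.of ![a, b])
  · exact hind
  · intro x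
    have hx := two_smul_mulVec Q a b h x
    have hM : (Matrix.of ![a, b]) *ᵥ x = 0 ↔ a ⬝ᵥ x = 0 ∧ b ⬝ᵥ x = 0 := by
      constructor
      · intro h0
        exact ⟨congrFun h0 0, congrFun h0 1⟩
      · rintro ⟨h0, h1⟩
        funext i
        fin_cases i
        · exact h0
        · exact h1
    rw [hM]
    constructor
    · intro h0
      rw [h0, smul_zero] at hx
      have := (LinearIndependent.pair_iff.1 hind) _ _ hx.symm
      exact ⟨this.2, this.1⟩
    · rintro ⟨h0, h1⟩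
      rw [h0, h1, zero_smul, zero_smul, add_zero] at hx
      exact (smul_eq_zero.1 hx).resolve_left h2

theorem rank_one (Q : Matrix (Fin 3) (Fin 3) k) (hQ0 : Q ≠ 0) (c : k) (a : Fin 3 → k)
    (h : ∀ i j, Q i j = c * a i * a j) : Q.rank = 1 := by
  have hc : c ≠ 0 := by
    rintro rfl
    apply hQ0
    ext i j
    rw [h i j]
    simp
  have ha : a ≠ 0 := by
    rintro rfl
    apply hQ0
    ext i j
    rw [h i j]
    simp
  have hmul : ∀ x, Q *ᵥ x = (c * (a ⬝ᵥ x)) • a := by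
    intro x
    funext i
    simp only [Pi.smul_apply, mulVec, dotProduct, smul_eq_mul, Finset.mul_sum, Finset.sum_mul]
    apply Finset.sum_congr rfl
    intro j _
    rw [h i j]
    ring
  apply rank_eq_of_ker Q (Matrix.of ![a])
  · rw [linearIndependent_unique_iff]
    exact ha
  · intro x
    have hM : (Matrix.of ![a]) *ᵥ x = 0 ↔ a ⬝ᵥ x = 0 := by
      constructor
      · intro h0
        exact congrFun h0 0
      · intro h0
        funext i
        fin_cases i
        exact h0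
    rw [hM, hmul]
    constructor
    · intro h0
      rcases smul_eq_zero.1 h0 with h1 | h1
      · exact (mul_eq_zero.1 h1).resolve_left hc
      · exact absurd h1 ha
    · intro h0
      rw [h0, mul_zero, zero_smul]

theorem dep_cases {a b : Fin 3 → k} (h : ¬ LinearIndependent k ![a, b]) :
    a = 0 ∨ ∃ c : k, b = c • a := by
  rw [LinearIndependent.pair_iff] at h
  push Not at h
  obtain ⟨s, t, hst, hne⟩ := h
  by_cases ht : t = 0
  · left
    subst ht
    rw [zero_smul, add_zero] at hst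
    have hs : s ≠ 0 := fun hs => by
      have := hne hs
      exact this rfl
    exact (smul_eq_zero.1 hst).resolve_left hs
  · right
    refine ⟨-(s / t), ?_⟩
    have h1 : t • b = -(s • a) := eq_neg_of_add_eq_zero_right hst
    calc b = t⁻¹ • (t • b) := by rw [smul_smul, inv_mul_cancel₀ ht, one_smul]
      _ = t⁻¹ • (-(s • a)) := by rw [h1]
      _ = (-(s / t)) • a := by
        rw [smul_neg, smul_smul, neg_smul]
        congr 2
        field_simp

/-- Translation invariance along the radical. -/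
theorem form_sub_smul (Q : Matrix (Fin 3) (Fin 3) k) (hQ : Q.IsSymm) {u : Fin 3 → k}
    (hu : Q *ᵥ u = 0) (x : Fin 3 → k) (c : k) :
    (x - c • u) ⬝ᵥ Q *ᵥ (x - c • u) = x ⬝ᵥ Q *ᵥ x := by
  have h1 : Q *ᵥ (x - c • u) = Q *ᵥ x := by
    rw [mulVec_sub, mulVec_smul, hu, smul_zero, sub_zero]
  rw [h1, sub_dotProduct, smul_dotProduct, symm_form Q hQ x u, hu, dotProduct_zero, smul_zero,
    sub_zero]

theorem binary_factor [IsAlgClosed k] (A B C : k) :
    ∃ p1 p2 r1 r2 : k, ∀ s t : k,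
      A * s ^ 2 + 2 * B * s * t + C * t ^ 2 = (p1 * s + p2 * t) * (r1 * s + r2 * t) := by
  by_cases hA : A = 0
  · refine ⟨0, 1, 2 * B, C, fun s t => ?_⟩
    rw [hA]
    ring
  · obtain ⟨δ, hδ⟩ := IsAlgClosed.exists_pow_nat_eq (B ^ 2 - A * C) (n := 2) (by norm_num)
    refine ⟨1, (B + δ) / A, A, B - δ, fun s t => ?_⟩
    field_simp
    linear_combination (t ^ 2) * hδ
theorem exists_binary0 (Q : Matrix (Fin 3) (Fin 3) k) (hQ : Q.IsSymm) {u : Fin 3 → k}
    (hu : Q *ᵥ u = 0) (hi : u 0 ≠ 0) :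
    ∃ (m1 m2 : Fin 3 → k) (A B C : k), ∀ x : Fin 3 → k,
      x ⬝ᵥ Q *ᵥ x =
        A * (m1 ⬝ᵥ x) ^ 2 + 2 * B * (m1 ⬝ᵥ x) * (m2 ⬝ᵥ x) + C * (m2 ⬝ᵥ x) ^ 2 := by
  have h21 : Q 2 1 = Q 1 2 := hQ.apply 1 2
  refine ⟨![-(u 1 / u 0), 1, 0], ![-(u 2 / u 0), 0, 1], Q 1 1, Q 1 2, Q 2 2, fun x => ?_⟩
  rw [← form_sub_smul Q hQ hu x (x 0 / u 0)]
  obtain ⟨y, hy⟩ : ∃ y, y = x - (x 0 / u 0) • u := ⟨_, rfl⟩
  rw [← hy]
  have hy0 : y 0 = 0 := by
    rw [hy]
    simp only [Pi.sub_apply, Pi.smul_apply, smul_eq_mul]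
    rw [div_mul_cancel₀ _ hi, sub_self]
  have hy1 : ![-(u 1 / u 0), 1, 0] ⬝ᵥ x = y 1 := by
    rw [hy]
    simp [dotProduct, Fin.sum_univ_three]
    ring
  have hy2 : ![-(u 2 / u 0), 0, 1] ⬝ᵥ x = y 2 := by
    rw [hy]
    simp [dotProduct, Fin.sum_univ_three]
    ring
  rw [hy1, hy2]
  simp only [dotProduct, mulVec, Fin.sum_univ_three]
  rw [hy0, h21]
  ring

theorem exists_binary1 (Q : Matrix (Fin 3) (Fin 3) k) (hQ : Q.IsSymm) {u : Fin 3 → k}
    (hu : Q *ᵥ u = 0) (hi : u 1 ≠ 0) :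
    ∃ (m1 m2 : Fin 3 → k) (A B C : k), ∀ x : Fin 3 → k,
      x ⬝ᵥ Q *ᵥ x =
        A * (m1 ⬝ᵥ x) ^ 2 + 2 * B * (m1 ⬝ᵥ x) * (m2 ⬝ᵥ x) + C * (m2 ⬝ᵥ x) ^ 2 := by
  have h20 : Q 2 0 = Q 0 2 := hQ.apply 0 2
  refine ⟨![1, -(u 0 / u 1), 0], ![0, -(u 2 / u 1), 1], Q 0 0, Q 0 2, Q 2 2, fun x => ?_⟩
  rw [← form_sub_smul Q hQ hu x (x 1 / u 1)]
  obtain ⟨y, hy⟩ : ∃ y, y = x - (x 1 / u 1) • u := ⟨_, rfl⟩
  rw [← hy]
  have hy0 : y 1 = 0 := by
    rw [hy]
    simp only [Pi.sub_apply, Pi.smul_apply, smul_eq_mul]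
    rw [div_mul_cancel₀ _ hi, sub_self]
  have hy1 : ![1, -(u 0 / u 1), 0] ⬝ᵥ x = y 0 := by
    rw [hy]
    simp [dotProduct, Fin.sum_univ_three]
    ring
  have hy2 : ![0, -(u 2 / u 1), 1] ⬝ᵥ x = y 2 := by
    rw [hy]
    simp [dotProduct, Fin.sum_univ_three]
    ring
  rw [hy1, hy2]
  simp only [dotProduct, mulVec, Fin.sum_univ_three]
  rw [hy0, h20]
  ring

theorem exists_binary2 (Q : Matrix (Fin 3) (Fin 3) k) (hQ : Q.IsSymm) {u : Fin 3 → k}
    (hu : Q *ᵥ u = 0) (hi : u 2 ≠ 0) :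
    ∃ (m1 m2 : Fin 3 → k) (A B C : k), ∀ x : Fin 3 → k,
      x ⬝ᵥ Q *ᵥ x =
        A * (m1 ⬝ᵥ x) ^ 2 + 2 * B * (m1 ⬝ᵥ x) * (m2 ⬝ᵥ x) + C * (m2 ⬝ᵥ x) ^ 2 := by
  have h10 : Q 1 0 = Q 0 1 := hQ.apply 0 1
  refine ⟨![1, 0, -(u 0 / u 2)], ![0, 1, -(u 1 / u 2)], Q 0 0, Q 0 1, Q 1 1, fun x => ?_⟩
  rw [← form_sub_smul Q hQ hu x (x 2 / u 2)]
  obtain ⟨y, hy⟩ : ∃ y, y = x - (x 2 / u 2) • u := ⟨_, rfl⟩
  rw [← hy]
  have hy0 : y 2 = 0 := by
    rw [hy]
    simp only [Pi.sub_apply, Pi.smul_apply, smul_eq_mul]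
    rw [div_mul_cancel₀ _ hi, sub_self]
  have hy1 : ![1, 0, -(u 0 / u 2)] ⬝ᵥ x = y 0 := by
    rw [hy]
    simp [dotProduct, Fin.sum_univ_three]
    ring
  have hy2 : ![0, 1, -(u 1 / u 2)] ⬝ᵥ x = y 1 := by
    rw [hy]
    simp [dotProduct, Fin.sum_univ_three]
    ring
  rw [hy1, hy2]
  simp only [dotProduct, mulVec, Fin.sum_univ_three]
  rw [hy0, h10]
  ring

theorem exists_factor [IsAlgClosed k] (Q : Matrix (Fin 3) (Fin 3) k) (hQ : Q.IsSymm)
    (hdet : Q.det = 0) :
    ∃ a b : Fin 3 → k, ∀ x, x ⬝ᵥ Q *ᵥ x = (a ⬝ᵥ x) * (b ⬝ᵥ x) := by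
  obtain ⟨u, hu0, hu⟩ := Matrix.exists_mulVec_eq_zero_iff.2 hdet
  obtain ⟨m1, m2, A, B, C, hx⟩ : ∃ (m1 m2 : Fin 3 → k) (A B C : k), ∀ x : Fin 3 → k,
      x ⬝ᵥ Q *ᵥ x =
        A * (m1 ⬝ᵥ x) ^ 2 + 2 * B * (m1 ⬝ᵥ x) * (m2 ⬝ᵥ x) + C * (m2 ⬝ᵥ x) ^ 2 := by
    obtain ⟨i, hi⟩ : ∃ i, u i ≠ 0 := by
      by_contra h
      push Not at h
      exact hu0 (funext h)
    fin_cases i
    · exact exists_binary0 Q hQ hu hi
    · exact exists_binary1 Q hQ hu hi
    · exact exists_binary2 Q hQ hu hi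
  obtain ⟨p1, p2, r1, r2, hf⟩ := binary_factor A B C
  refine ⟨p1 • m1 + p2 • m2, r1 • m1 + r2 • m2, fun x => ?_⟩
  rw [hx, hf, add_dotProduct, add_dotProduct, smul_dotProduct, smul_dotProduct, smul_dotProduct,
    smul_dotProduct]
  simp only [smul_eq_mul]

/-! ### Polynomials -/

open MvPolynomial

/-- The linear form with coefficient vector `a`. -/
noncomputable def lin (a : Fin 3 → k) : MvPolynomial (Fin 3) k := ∑ i : Fin 3, a i • X i

theorem eval_lin (a x : Fin 3 → k) : eval x (lin a) = a ⬝ᵥ x := by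
  simp [lin, dotProduct, smul_eval]

/-- The quadratic form with matrix `Q`. -/
noncomputable def quad (Q : Matrix (Fin 3) (Fin 3) k) : MvPolynomial (Fin 3) k :=
  ∑ i : Fin 3, ∑ j : Fin 3, Q i j • (X i * X j)

theorem eval_quad (Q : Matrix (Fin 3) (Fin 3) k) (x : Fin 3 → k) :
    eval x (quad Q) = x ⬝ᵥ Q *ᵥ x := by
  simp only [quad, map_sum, smul_eval, map_mul, eval_X, dotProduct, mulVec, Finset.mul_sum]
  apply Finset.sum_congr rfl
  intro i _
  apply Finset.sum_congr rfl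
  intro j _
  ring

theorem totalDegree_quad_le (Q : Matrix (Fin 3) (Fin 3) k) : (quad Q).totalDegree ≤ 2 := by
  unfold quad
  apply totalDegree_finsetSum_le
  intro i _
  apply totalDegree_finsetSum_le
  intro j _
  refine (totalDegree_smul_le _ _).trans ((totalDegree_mul _ _).trans ?_)
  rw [totalDegree_X, totalDegree_X]

theorem eval_pderiv_quad (Q : Matrix (Fin 3) (Fin 3) k) (hQ : Q.IsSymm) (u : Fin 3 → k)
    (i : Fin 3) : eval u (pderiv i (quad Q)) = 2 * (Q *ᵥ u) i := by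
  have h10 : Q 1 0 = Q 0 1 := hQ.apply 0 1
  have h20 : Q 2 0 = Q 0 2 := hQ.apply 0 2
  have h21 : Q 2 1 = Q 1 2 := hQ.apply 1 2
  unfold quad
  simp only [Derivation.map_smul, Derivation.leibniz, pderiv_X, smul_eval, smul_eq_mul,
    map_add, map_mul, eval_X, mulVec, dotProduct, Fin.sum_univ_three]
  fin_cases i <;> simp [h10, h20, h21] <;> ring

theorem exists_affine {g : MvPolynomial (Fin 3) k} (hg : g.totalDegree ≤ 1) :
    ∃ (a : Fin 3 → k) (c : k), ∀ x, eval x g = a ⬝ᵥ x + c := by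
  obtain ⟨a, ha⟩ : ∃ a : Fin 3 → k, a = fun i => coeff (Finsupp.single i 1) g := ⟨_, rfl⟩
  have hg' : g = lin a + C (coeff 0 g) := by
    ext m
    rw [coeff_add, lin, coeff_sum, coeff_C]
    simp only [coeff_smul, coeff_X', smul_eq_mul, mul_ite, mul_one, mul_zero]
    by_cases hdeg : m 0 + m 1 + m 2 ≤ 1
    · have hcases : m = 0 ∨ m = Finsupp.single 0 1 ∨ m = Finsupp.single 1 1 ∨
          m = Finsupp.single 2 1 := by
        have : (m 0 = 0 ∧ m 1 = 0 ∧ m 2 = 0) ∨ (m 0 = 1 ∧ m 1 = 0 ∧ m 2 = 0) ∨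
            (m 0 = 0 ∧ m 1 = 1 ∧ m 2 = 0) ∨ (m 0 = 0 ∧ m 1 = 0 ∧ m 2 = 1) := by omega
        rcases this with ⟨h0, h1, h2⟩ | ⟨h0, h1, h2⟩ | ⟨h0, h1, h2⟩ | ⟨h0, h1, h2⟩
        · left
          ext i
          fin_cases i <;> simp [h0, h1, h2]
        · right; left
          ext i
          fin_cases i <;> simp [h0, h1, h2]
        · right; right; left
          ext i
          fin_cases i <;> simp [h0, h1, h2]
        · right; right; right
          ext i
          fin_cases i <;> simp [h0, h1, h2]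
      rcases hcases with rfl | rfl | rfl | rfl
      · simp
      · simp [ha, Finsupp.single_left_inj]
        intro h
        exact absurd h.symm (Finsupp.single_ne_zero.2 one_ne_zero)
      · simp [ha, Finsupp.single_left_inj]
        intro h
        exact absurd h.symm (Finsupp.single_ne_zero.2 one_ne_zero)
      · simp [ha, Finsupp.single_left_inj]
        intro h
        exact absurd h.symm (Finsupp.single_ne_zero.2 one_ne_zero)
    · push Not at hdeg
      have hc : coeff m g = 0 := by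
        apply coeff_eq_zero_of_totalDegree_lt
        have : ∑ i ∈ m.support, m i = m 0 + m 1 + m 2 := by
          rw [Finset.sum_subset (Finset.subset_univ _)
            (fun i _ hi => Finsupp.notMem_support_iff.1 hi), Fin.sum_univ_three]
        omega
      rw [hc]
      have h0 : ¬ (0 = m) := by
        rintro rfl
        simp at hdeg
      have hs : ∀ i : Fin 3, ¬ (Finsupp.single i 1 = m) := by
        intro i h
        subst h
        fin_cases i <;> simp at hdeg
      simp [h0, hs]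
  refine ⟨a, coeff 0 g, fun x => ?_⟩
  calc eval x g = eval x (lin a + C (coeff 0 g)) := by rw [← hg']
    _ = _ := by rw [map_add, eval_lin, eval_C]
theorem main (k : Type u) [Field k] [IsAlgClosed k] [CharZero k]
    (Q : Matrix (Fin 3) (Fin 3) k) (hQ : Q.IsSymm) (hQ0 : Q ≠ 0) (f : MvPolynomial (Fin 3) k)
    (hf : f = ∑ i : Fin 3, ∑ j : Fin 3, Q i j • (MvPolynomial.X i * MvPolynomial.X j)) :
    (Irreducible f ↔ Q.det ≠ 0) ∧
    ((∃ u : Fin 3 → k, u ≠ 0 ∧
      ∀ i : Fin 3, MvPolynomial.eval u (MvPolynomial.pderiv i f) = 0) ↔ Q.det = 0) ∧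
    ((∃ a b : Fin 3 → k, LinearIndependent k ![a, b] ∧
        f = (∑ i : Fin 3, a i • MvPolynomial.X i) * (∑ i : Fin 3, b i • MvPolynomial.X i)) ↔
      Q.rank = 2) ∧
    ((∃ a : Fin 3 → k, f = (∑ i : Fin 3, a i • MvPolynomial.X i) ^ 2) ↔ Q.rank = 1) := by
  have h2 : (2 : k) ≠ 0 := two_ne_zero
  haveI : Infinite k := IsAlgClosed.instInfinite
  have hfq : f = quad Q := hf
  have hev : ∀ x, eval x f = x ⬝ᵥ Q *ᵥ x := by
    intro x
    rw [hfq, eval_quad]
  -- factorization to entries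
  have F1 : ∀ a b : Fin 3 → k, f = lin a * lin b →
      ∀ i j, 2 * Q i j = a i * b j + a j * b i := by
    intro a b hab
    apply polar Q hQ a b
    intro x
    rw [← hev, hab, map_mul, eval_lin, eval_lin]
  have F2 : ∀ a b : Fin 3 → k, (∀ x, x ⬝ᵥ Q *ᵥ x = (a ⬝ᵥ x) * (b ⬝ᵥ x)) → f = lin a * lin b := by
    intro a b hab
    apply MvPolynomial.funext
    intro x
    rw [hev, map_mul, eval_lin, eval_lin, hab]
  have rank3 : Q.det ≠ 0 → Q.rank = 3 := by
    intro hdet
    have := Matrix.rank_of_isUnit Q ((Matrix.isUnit_iff_isUnit_det Q).2 (isUnit_iff_ne_zero.2 hdet))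
    rw [this, Fintype.card_fin]
  have D : Q.det = 0 →
      (∃ a b : Fin 3 → k, LinearIndependent k ![a, b] ∧ f = lin a * lin b ∧ Q.rank = 2) ∨
      (∃ a : Fin 3 → k, f = lin a ^ 2 ∧ Q.rank = 1) := by
    intro hdet
    obtain ⟨a, b, hab⟩ := exists_factor Q hQ hdet
    have hent := polar Q hQ a b hab
    by_cases hind : LinearIndependent k ![a, b]
    · left
      exact ⟨a, b, hind, F2 a b hab, rank_two h2 Q a b hent hind⟩
    · right
      rcases dep_cases hind with rfl | ⟨c, rfl⟩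
      · exfalso
        apply hQ0
        ext i j
        have := hent i j
        simp only [Pi.zero_apply, zero_mul, add_zero] at this
        exact (mul_eq_zero.1 this).resolve_left h2
      · have hent' : ∀ i j, Q i j = c * a i * a j := by
          intro i j
          have := hent i j
          simp only [Pi.smul_apply, smul_eq_mul] at this
          apply mul_left_cancel₀ h2
          linear_combination this
        obtain ⟨d, hd⟩ := IsAlgClosed.exists_pow_nat_eq c (n := 2) (by norm_num)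
        refine ⟨d • a, ?_, rank_one Q hQ0 c a hent'⟩
        rw [pow_two]
        apply F2
        intro x
        rw [hab x, smul_dotProduct, smul_dotProduct, smul_eq_mul, smul_eq_mul, ← hd]
        ring
  have hnu : ∀ a : Fin 3 → k, ¬ IsUnit (lin a) := by
    intro a hu
    have := hu.map (eval (0 : Fin 3 → k))
    rw [eval_lin, dotProduct_zero] at this
    exact not_isUnit_zero this
  refine ⟨⟨?_, ?_⟩, ⟨?_, ?_⟩, ⟨?_, ?_⟩, ⟨?_, ?_⟩⟩
  · -- irreducible → det ≠ 0
    intro hirr hdet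
    obtain ⟨a, b, hab⟩ := exists_factor Q hQ hdet
    rcases hirr.isUnit_or_isUnit (F2 a b hab) with h | h
    · exact hnu a h
    · exact hnu b h
  · -- det ≠ 0 → irreducible
    intro hdet
    have hf0 : f ≠ 0 := by
      intro h0
      apply hQ0
      have hz : ∀ x, x ⬝ᵥ Q *ᵥ x = ((0 : Fin 3 → k) ⬝ᵥ x) * ((0 : Fin 3 → k) ⬝ᵥ x) := by
        intro x
        rw [← hev, h0]
        simp
      ext i j
      have := polar Q hQ 0 0 hz i j
      simp only [Pi.zero_apply, zero_mul, add_zero] at this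
      exact (mul_eq_zero.1 this).resolve_left h2
    rw [irreducible_iff]
    refine ⟨?_, ?_⟩
    · intro hu
      have := hu.map (eval (0 : Fin 3 → k))
      rw [hev, zero_dotProduct] at this
      exact not_isUnit_zero this
    · intro g h hgh
      have hg0 : g ≠ 0 := by
        rintro rfl
        exact hf0 (by rw [hgh, zero_mul])
      have hh0 : h ≠ 0 := by
        rintro rfl
        exact hf0 (by rw [hgh, mul_zero])
      have hdeg : g.totalDegree + h.totalDegree ≤ 2 := by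
        rw [← totalDegree_mul_of_isDomain hg0 hh0, ← hgh, hfq]
        exact totalDegree_quad_le Q
      by_cases hg1 : g.totalDegree = 0
      · left
        rw [totalDegree_eq_zero_iff_eq_C] at hg1
        rw [hg1]
        apply IsUnit.map C
        rw [isUnit_iff_ne_zero]
        intro hc
        apply hg0
        rw [hg1, hc, map_zero]
      by_cases hh1 : h.totalDegree = 0
      · right
        rw [totalDegree_eq_zero_iff_eq_C] at hh1
        rw [hh1]
        apply IsUnit.map C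
        rw [isUnit_iff_ne_zero]
        intro hc
        apply hh0
        rw [hh1, hc, map_zero]
      exfalso
      obtain ⟨a, c, hga⟩ := exists_affine (g := g) (by omega)
      obtain ⟨b, d, hhb⟩ := exists_affine (g := h) (by omega)
      have hprod : ∀ x, x ⬝ᵥ Q *ᵥ x = (a ⬝ᵥ x + c) * (b ⬝ᵥ x + d) := by
        intro x
        rw [← hev, hgh, map_mul, hga, hhb]
      have hab : ∀ x, x ⬝ᵥ Q *ᵥ x = (a ⬝ᵥ x) * (b ⬝ᵥ x) := by
        intro x
        have e1 := hprod x
        have e2 := hprod (-x)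
        have e3 := hprod 0
        rw [mulVec_neg, neg_dotProduct, dotProduct_neg, neg_neg, dotProduct_neg,
          dotProduct_neg] at e2
        simp only [dotProduct_zero, mulVec_zero, zero_add] at e3
        have e4 : 2 * (x ⬝ᵥ Q *ᵥ x) = 2 * ((a ⬝ᵥ x) * (b ⬝ᵥ x)) := by
          linear_combination e1 + e2 - 2 * e3
        exact mul_left_cancel₀ h2 e4
      have hent := polar Q hQ a b hab
      obtain ⟨u, hu0, hu⟩ := Matrix.exists_mulVec_eq_zero_iff.2
        (Matrix.det_eq_zero_of_row_eq_zero (A := Matrix.of ![a, b, 0]) 2 (fun j => rfl))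
      have hau : a ⬝ᵥ u = 0 := congrFun hu 0
      have hbu : b ⬝ᵥ u = 0 := congrFun hu 1
      have hQu : Q *ᵥ u = 0 := by
        have := two_smul_mulVec Q a b hent u
        rw [hau, hbu, zero_smul, zero_smul, add_zero] at this
        exact (smul_eq_zero.1 this).resolve_left h2
      exact hdet (Matrix.exists_mulVec_eq_zero_iff.1 ⟨u, hu0, hQu⟩)
  · -- singular point → det = 0
    rintro ⟨u, hu0, hu⟩
    apply Matrix.exists_mulVec_eq_zero_iff.1
    refine ⟨u, hu0, ?_⟩
    funext i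
    have := hu i
    rw [hfq, eval_pderiv_quad Q hQ] at this
    exact (mul_eq_zero.1 this).resolve_left h2
  · -- det = 0 → singular point
    intro hdet
    obtain ⟨u, hu0, hu⟩ := Matrix.exists_mulVec_eq_zero_iff.2 hdet
    refine ⟨u, hu0, fun i => ?_⟩
    rw [hfq, eval_pderiv_quad Q hQ, hu]
    simp
  · -- product of independent → rank 2
    rintro ⟨a, b, hind, hab⟩
    exact rank_two h2 Q a b (F1 a b hab) hind
  · -- rank 2 → product
    intro hr
    have hdet : Q.det = 0 := by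
      by_contra hdet
      have := rank3 hdet
      omega
    rcases D hdet with ⟨a, b, hind, hab, -⟩ | ⟨a, -, hr1⟩
    · exact ⟨a, b, hind, hab⟩
    · omega
  · -- square → rank 1
    rintro ⟨a, ha⟩
    have ha' : f = lin a * lin a := by
      rw [ha, pow_two]
      rfl
    have hent := F1 a a ha'
    apply rank_one Q hQ0 1 a
    intro i j
    apply mul_left_cancel₀ h2
    linear_combination hent i j
  · -- rank 1 → square
    intro hr
    have hdet : Q.det = 0 := by
      by_contra hdet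
      have := rank3 hdet
      omega
    rcases D hdet with ⟨a, b, -, -, hr2⟩ | ⟨a, ha, -⟩
    · omega
    · exact ⟨a, ha⟩

end Groth.Agent.Helper6.Conic
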