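import Mathlib
import Groth.Agent.Helper4.StrataE

set_option autoImplicit false
set_option linter.style.haveILetI false
set_option linter.unusedSectionVars false
set_option linter.unusedVariables false
set_option linter.unusedSimpArgs false

/-!
# Refining a finite cover by constructible locally closed pieces to a partition
-/

universe u

open CategoryTheory CategoryTheory.Limits AlgebraicGeometry Opposite Topology

namespace Groth.Agent.Helper6.ConsA

open Groth.Agent.Helper4.StrataE Groth.Agent.Helper4.StrataC Groth.Agent.Helper4.ConsTop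

variable {X : Scheme.{u}}

/-- a finite cover of a quasi-compact quasi-separated scheme by immersions with constructible
ranges satisfying a property stable under precomposition can be refined to a partition -/
theorem exists_partition_of_cover [CompactSpace X] [QuasiSeparatedSpace X]
    (P : ∀ ⦃T : Scheme.{u}⦄, (T ⟶ X) → Prop)
    (hP : ∀ ⦃T T' : Scheme.{u}⦄ (g : T ⟶ X) (h : T' ⟶ T), P g → P (h ≫ g))
    {A : Type} [Finite A] (S : A → Scheme.{u}) (q : ∀ a, S a ⟶ X) [∀ a, IsImmersion (q a)]
    (hc : ∀ a, IsConstructible (Set.range (q a))) (hcov : (⋃ a, Set.range (q a)) = Set.univ)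
    (hq : ∀ a, P (q a)) :
    ∃ (κ : Type) (_ : Finite κ) (T : κ → Scheme.{u}) (g : ∀ k, T k ⟶ X),
      (∀ k, IsImmersion (g k)) ∧ (∀ k, IsConstructible (Set.range (g k))) ∧
      Pairwise (fun a b => Disjoint (Set.range (g a)) (Set.range (g b))) ∧
      (⋃ k, Set.range (g k)) = Set.univ ∧ ∀ k, P (g k) := by
  rcases isEmpty_or_nonempty A with hA | hA
  · have hX : (Set.univ : Set X) = ∅ := by rw [← hcov]; exact Set.iUnion_of_empty _
    refine ⟨Empty, inferInstance, fun k => k.elim, fun k => k.elim, fun k => k.elim,
      fun k => k.elim, fun a => a.elim, ?_, fun k => k.elim⟩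
    rw [hX]
    exact Set.iUnion_of_empty _
  · choose O Q hO1 hO2 hQ1 hQ2 hOQ using
      fun a => exists_eq_diff (hc a) (q a).isLocallyClosed_range
    let B : A × Bool → Set X := fun b => if b.2 then O b.1 else Q b.1
    have hB1 : ∀ b, IsOpen (B b) := fun b => by
      show IsOpen (if b.2 then O b.1 else Q b.1)
      split_ifs
      · exact hO1 _
      · exact hQ1 _
    have hB2 : ∀ b, IsCompact (B b) := fun b => by
      show IsCompact (if b.2 then O b.1 else Q b.1)
      split_ifs
      · exact hO2 _
      · exact hQ2 _
    have hBO : ∀ a, B (a, true) = O a := fun a => rfl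
    have hBQ : ∀ a, B (a, false) = Q a := fun a => rfl
    have hatom : ∀ σ : A × Bool → Bool, ∃ a, atom B σ ⊆ Set.range (q a) := by
      intro σ
      rcases (atom B σ).eq_empty_or_nonempty with he | ⟨x, hx⟩
      · exact ⟨Classical.arbitrary A, he ▸ Set.empty_subset _⟩
      · have hx' : x ∈ ⋃ a, Set.range (q a) := by rw [hcov]; trivial
        obtain ⟨a, ha⟩ := Set.mem_iUnion.1 hx'
        refine ⟨a, fun y hy => ?_⟩
        rw [hOQ a] at ha ⊢
        rw [mem_atom] at hx hy
        refine ⟨?_, ?_⟩
        · rw [← hBO]
          exact (hy (a, true)).1 ((hx (a, true)).2 (hBO a ▸ ha.1))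
        · intro hyP
          rw [← hBQ] at hyP
          have := (hx (a, false)).1 ((hy (a, false)).2 hyP)
          rw [hBQ] at this
          exact ha.2 this
    choose α hα using hatom
    let Oσ : (A × Bool → Bool) → X.Opens := fun σ =>
      ⟨⋂ b, if σ b then B b else Set.univ, isOpen_iInter_of_finite fun b => by
        split_ifs
        · exact hB1 b
        · exact isOpen_univ⟩
    have hCσ : ∀ σ : A × Bool → Bool, IsClosed (⋂ b, if σ b then Set.univ else (B b)ᶜ) :=
      fun σ => isClosed_iInter fun b => by
        split_ifs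
        · exact isClosed_univ
        · exact (hB1 b).isClosed_compl
    choose Z z hz1 hz2 using fun σ => exists_closedImmersion _ (hCσ σ)
    haveI : ∀ σ, IsClosedImmersion (z σ) := hz1
    have hι : ∀ σ, Set.range (pullback.fst (Oσ σ).ι (z σ) ≫ (Oσ σ).ι) = atom B σ := by
      intro σ
      rw [Scheme.Pullback.range_fst_comp, hz2, Scheme.Opens.range_ι]
      rfl
    have hrange : ∀ σ, Set.range (pullback.fst (q (α σ))
        (pullback.fst (Oσ σ).ι (z σ) ≫ (Oσ σ).ι) ≫ q (α σ)) = atom B σ := by
      intro σ
      rw [Scheme.Pullback.range_fst_comp, hι]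
      exact Set.inter_eq_right.2 (hα σ)
    have hBc : ∀ b, IsConstructible (B b) := fun b => (hB2 b).isConstructible (hB1 b)
    refine ⟨(A × Bool → Bool), inferInstance,
      fun σ => pullback (q (α σ)) (pullback.fst (Oσ σ).ι (z σ) ≫ (Oσ σ).ι),
      fun σ => pullback.fst _ _ ≫ q (α σ), fun σ => inferInstance, fun σ => ?_, ?_, ?_,
      fun σ => ?_⟩
    · rw [hrange]
      exact isConstructible_atom B hBc σ
    · intro σ σ' hne
      show Disjoint (Set.range _) (Set.range _)
      rw [hrange, hrange, Set.disjoint_left]
      intro x hx hx'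
      rw [mem_atom] at hx hx'
      apply hne
      funext b
      have h1 := hx b
      have h2 := hx' b
      cases hb : σ b <;> cases hb' : σ' b <;> simp_all
    · apply Set.eq_univ_of_forall
      intro x
      classical
      refine Set.mem_iUnion.2 ⟨fun b => decide (x ∈ B b), ?_⟩
      rw [hrange, mem_atom]
      intro b
      simp
    · exact hP _ _ (hq (α σ))

end Groth.Agent.Helper6.ConsA
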