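import Mathlib
import Groth.Agent.S9187
import Groth.Agent.S7379
import Groth.Agent.Lead.CDecB
import Groth.Agent.Lead.HomGlueB

set_option autoImplicit false
set_option linter.style.haveILetI false
set_option linter.unusedSectionVars false
set_option linter.unusedVariables false
set_option linter.unusedSimpArgs false

/-!
# Generic finiteness of quasi-finite morphisms along constructible locally closed pieces
-/

universe u

open CategoryTheory CategoryTheory.Limits AlgebraicGeometry Opposite Topology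

namespace Groth.Agent.Helper6.ConsB

open Groth.Agent.Lead

variable {U X : Scheme.{u}} (j : U ⟶ X)

section Basic

/-- any pullback of `j` along `b` is finite iff the chosen one is -/
lemma isFinite_iff_of_isPullback {Xi Yi : Scheme.{u}} {p : Xi ⟶ U} {fi : Xi ⟶ Yi} {b : Yi ⟶ X}
    (h : IsPullback p fi j b) : IsFinite fi ↔ IsFinite (pullback.snd j b) := by
  rw [← h.isoPullback_hom_snd]
  exact MorphismProperty.cancel_left_of_respectsIso @IsFinite _ _

lemma isFinite_snd_comp {T T' : Scheme.{u}} (g : T ⟶ X) (h : T' ⟶ T)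
    (hg : IsFinite (pullback.snd j g)) : IsFinite (pullback.snd j (h ≫ g)) := by
  have sq := IsPullback.of_right' (IsPullback.of_hasPullback j (h ≫ g)) (IsPullback.of_hasPullback j g)
  exact MorphismProperty.of_isPullback (P := @IsFinite) sq hg

lemma isFinite_snd_iso_comp {T T' : Scheme.{u}} (g : T ⟶ X) (h : T' ⟶ T) [IsIso h] :
    IsFinite (pullback.snd j (h ≫ g)) ↔ IsFinite (pullback.snd j g) := by
  refine ⟨fun H => ?_, isFinite_snd_comp j g h⟩
  have := isFinite_snd_comp j (h ≫ g) (inv h) H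
  rwa [IsIso.inv_hom_id_assoc] at this

lemma isFinite_snd_snd {Y Y₀ : Scheme.{u}} (b₀ : Y₀ ⟶ X) (q : Y ⟶ Y₀)
    (h : IsFinite (pullback.snd j (q ≫ b₀))) : IsFinite (pullback.snd (pullback.snd j b₀) q) := by
  have sq := (IsPullback.of_hasPullback (pullback.snd j b₀) q).paste_horiz
    (IsPullback.of_hasPullback j b₀)
  exact (isFinite_iff_of_isPullback j sq).2 h

end Basic

variable [LocallyQuasiFinite j] [LocallyOfFiniteType j] [QuasiCompact j] [QuasiSeparated j]

/-- the outcome of `S9187` in the form we need -/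
lemma descend_aux {I : Type u} [SmallCategory I] [IsCofiltered I]
    (D : I ⥤ Scheme.{u}) (c : Cone D) (hc : IsLimit c)
    [∀ (i i' : I) (f : i ⟶ i'), IsAffineHom (D.map f)] (i₀ : I) [CompactSpace (D.obj i₀)]
    [QuasiSeparatedSpace (D.obj i₀)] (b : ∀ i, D.obj i ⟶ X)
    (hb : ∀ (i i' : I) (f : i ⟶ i'), D.map f ≫ b i' = b i)
    (hfin : IsFinite (pullback.snd j (c.π.app i₀ ≫ b i₀))) :
    ∃ (i : I), IsFinite (pullback.snd j (b i)) := by
  let f₀ := pullback.snd j (b i₀)
  haveI : CompactSpace ↥(pullback j (b i₀)) := QuasiCompact.compactSpace_of_compactSpace f₀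
  haveI : QuasiSeparatedSpace ↥(pullback j (b i₀)) := quasiSeparatedSpace_of_quasiSeparated f₀
  let qY := c.π.app i₀
  haveI : IsFinite (pullback.snd f₀ qY) := isFinite_snd_snd j (b i₀) qY hfin
  obtain ⟨i, φ, Xi, Yi, fi, gi, pY, pX, h1, h2, h3⟩ :=
    Groth.Agent.S9187.result D c hc i₀ f₀ (𝟙 _) (pullback.snd f₀ qY) (𝟙 _) qY
      (pullback.fst f₀ qY) IsPullback.of_id_snd (IsPullback.of_hasPullback f₀ qY)
  haveI : IsIso gi := h1.isIso_snd_of_isIso
  have hpY : pY = gi ≫ D.map φ := by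
    have := h1.w
    rwa [Category.comp_id] at this
  have sq := h2.paste_horiz (IsPullback.of_hasPullback j (b i₀))
  have h4 : IsFinite (pullback.snd j (pY ≫ b i₀)) := (isFinite_iff_of_isPullback j sq).1 h3
  rw [hpY, Category.assoc, hb] at h4
  exact ⟨i, (isFinite_snd_iso_comp j (b i) gi).1 h4⟩

/-- generic finiteness over an integral scheme -/
theorem exists_open_finite {T : Scheme.{u}} [IsIntegral T] (ι : T ⟶ X) :
    ∃ (W : T.Opens) (hW : IsAffineOpen W), genericPoint T ∈ W ∧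
      IsFinite (pullback.snd j (hW.fromSpec ≫ ι)) := by
  let η := genericPoint T
  obtain ⟨hc⟩ := HomGlueB.cone_isLimit η
  let V₀ : HomGlueB.Nb η := Classical.arbitrary _
  haveI : IsArtinianRing ↑(T.presheaf.stalk η) :=
    inferInstanceAs (IsArtinianRing T.functionField)
  haveI hart : IsLocallyArtinian (Spec (T.presheaf.stalk η)) :=
    Scheme.isLocallyArtinianScheme_Spec.2 inferInstance
  have hfin : IsFinite (pullback.snd j
      ((HomGlueB.cone η).π.app V₀ ≫ HomGlueB.fs η V₀ ≫ ι)) :=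
    @IsFinite.of_locallyQuasiFinite _ _ _ inferInstance inferInstance hart
  obtain ⟨V, hV⟩ := descend_aux j (HomGlueB.D η) (HomGlueB.cone η) hc V₀
    (fun V => HomGlueB.fs η V ≫ ι)
    (fun V V' f => by rw [← Category.assoc, HomGlueB.D_map_fs]) hfin
  exact ⟨V.1, V.aff, V.mem, hV⟩

set_option maxHeartbeats 1600000 in
set_option backward.isDefEq.respectTransparency false in
/-- every point lies in the image of a finitely presented affine immersion over which `j` becomes
finite -/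
theorem exists_local_piece [QuasiSeparatedSpace X] (y : X) :
    ∃ (Z : Scheme.{u}) (z : Z ⟶ X), y ∈ Set.range z ∧ IsImmersion z ∧
      LocallyOfFinitePresentation z ∧ QuasiCompact z ∧ IsAffine Z ∧
      IsFinite (pullback.snd j z) := by
  obtain ⟨R, φ, hφ, T, hT, ιT, hιT, hy⟩ := CDec.exists_integral_through y
  obtain ⟨W, hW, hηW, hfinW⟩ := exists_open_finite j (ιT ≫ φ)
  -- an affine open `O` of `Spec R` around the image of the generic point with `ιT⁻¹ O ≤ W`
  obtain ⟨U₀, hU₀o, hU₀⟩ := ιT.isEmbedding.isInducing.isOpen_iff.mp W.isOpen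
  have hη₀ : ιT (genericPoint T) ∈ U₀ := by
    have : genericPoint T ∈ ιT ⁻¹' U₀ := by rw [hU₀]; exact hηW
    exact this
  obtain ⟨_, ⟨O', hO, rfl⟩, hηO, hOU₀⟩ :=
    (Spec R).isBasis_affineOpens.exists_subset_of_mem_open hη₀ hU₀o
  obtain ⟨O, rfl⟩ : ∃ O : (Spec R).Opens, O = O' := ⟨O', rfl⟩
  have hle : ιT ⁻¹ᵁ O ≤ W := by
    intro t ht
    have : t ∈ ιT ⁻¹' U₀ := hOU₀ ht
    rw [hU₀] at this
    exact this
  haveI : IsAffine O.toScheme := hO
  -- the inclusion of `ιT⁻¹ O` factors through `Spec Γ(T, W)`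
  have hfac : (ιT ⁻¹ᵁ O).ι ≫ ιT ≫ φ =
      (T.homOfLE hle ≫ hW.isoSpec.hom) ≫ hW.fromSpec ≫ ιT ≫ φ := by
    have h1 : hW.isoSpec.hom ≫ hW.fromSpec = W.ι := by
      rw [IsAffineOpen.fromSpec, Iso.hom_inv_id_assoc]
    rw [Category.assoc, reassoc_of% h1, Scheme.homOfLE_ι_assoc]
  -- approximation of the closed immersion
  obtain ⟨Λ, _, _, _, D, c, hc, hD, ⟨e⟩⟩ := Groth.Agent.S7379.result (ιT ∣_ O)
  haveI : IsDirected Λ (· ≤ ·) := ‹IsDirected Λ (fun a b => a ≤ b)›
  haveI : IsCofiltered Λᵒᵖ := inferInstance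
  haveI hci : ∀ i, IsClosedImmersion (D.obj i).hom := fun i ↦ (hD i).1
  haveI hfp : ∀ i, LocallyOfFinitePresentation (D.obj i).hom := fun i ↦ (hD i).2
  let D' : Λᵒᵖ ⥤ Scheme.{u} := D ⋙ Over.forget _
  let c' : Cone D' := (Over.forget _).mapCone c
  have hc' : IsLimit c' := isLimitOfPreserves _ hc
  haveI haff : ∀ (i i' : Λᵒᵖ) (a : i ⟶ i'), IsAffineHom (D'.map a) := by
    intro i i' a
    have h1 : (D.map a).left ≫ (D.obj i').hom = (D.obj i).hom := Over.w (D.map a)
    haveI : IsClosedImmersion ((D.map a).left ≫ (D.obj i').hom) := by rw [h1]; infer_instance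
    haveI : IsClosedImmersion (D.map a).left := IsClosedImmersion.of_comp _ (D.obj i').hom
    exact inferInstanceAs (IsAffineHom (D.map a).left)
  haveI hA : ∀ i, IsAffine (D'.obj i) := fun i ↦ isAffine_of_isAffineHom (D.obj i).hom
  haveI : ∀ i, CompactSpace (D'.obj i) := fun i ↦ inferInstance
  haveI : ∀ i, QuasiSeparatedSpace (D'.obj i) := fun i ↦ inferInstance
  let b : ∀ i, D'.obj i ⟶ X := fun i => (D.obj i).hom ≫ O.ι ≫ φ
  have hb : ∀ (i i' : Λᵒᵖ) (a : i ⟶ i'), D'.map a ≫ b i' = b i := by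
    intro i i' a
    have h1 : (D.map a).left ≫ (D.obj i').hom = (D.obj i).hom := Over.w (D.map a)
    change (D.map a).left ≫ (D.obj i').hom ≫ O.ι ≫ φ = _
    rw [reassoc_of% h1]
  have hce : c.pt.hom = e.hom.left ≫ (ιT ∣_ O) := (Over.w e.hom).symm
  let i₀ : Λᵒᵖ := Classical.arbitrary _
  have hcomp : c'.π.app i₀ ≫ b i₀ =
      (e.hom.left ≫ T.homOfLE hle ≫ hW.isoSpec.hom) ≫ hW.fromSpec ≫ ιT ≫ φ := by
    have h1 : (c.π.app i₀).left ≫ (D.obj i₀).hom = c.pt.hom := Over.w (c.π.app i₀)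
    change (c.π.app i₀).left ≫ (D.obj i₀).hom ≫ O.ι ≫ φ = _
    rw [reassoc_of% h1, hce, Category.assoc, morphismRestrict_ι_assoc, hfac]
    simp only [Category.assoc]
  have hfin : IsFinite (pullback.snd j (c'.π.app i₀ ≫ b i₀)) := by
    rw [hcomp]
    exact isFinite_snd_comp j _ _ hfinW
  obtain ⟨i, hi⟩ := descend_aux j D' c' hc' i₀ b hb hfin
  refine ⟨(D.obj i).left, b i, ?_, inferInstance, inferInstance, inferInstance, hA i, hi⟩
  let ηO : (ιT ⁻¹ᵁ O).toScheme := ⟨genericPoint T, hηO⟩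
  refine ⟨(c.π.app i).left (e.inv.left ηO), ?_⟩
  have h1 : (c.π.app i).left ≫ (D.obj i).hom = c.pt.hom := Over.w (c.π.app i)
  have h2 : e.inv.left ≫ e.hom.left = 𝟙 _ := by
    rw [← Over.comp_left, Iso.inv_hom_id]; rfl
  have key : e.inv.left ≫ (c.π.app i).left ≫ (D.obj i).hom ≫ O.ι ≫ φ =
      (ιT ⁻¹ᵁ O).ι ≫ ιT ≫ φ := by
    rw [reassoc_of% h1, hce, Category.assoc, reassoc_of% h2, morphismRestrict_ι_assoc]
  have := congr($(key) ηO)
  rw [Scheme.Hom.comp_apply, Scheme.Hom.comp_apply] at this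
  refine this.trans ?_
  exact hy

end Groth.Agent.Helper6.ConsB
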