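import Mathlib
import Groth.Agent.Helper6.ConsA
import Groth.Agent.Helper6.ConsB
import Groth.Agent.Lead.ProConsLib7

set_option autoImplicit false
set_option linter.style.haveILetI false
set_option linter.unusedSectionVars false
set_option linter.unusedVariables false
set_option linter.unusedSimpArgs false

/-!
# Quasi-finite morphisms are stratified finite
-/

universe u

open CategoryTheory CategoryTheory.Limits AlgebraicGeometry Opposite Topology

namespace Groth.Agent.Helper6.ConsC

open Groth.Agent.Lead

variable {U X : Scheme.{u}}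

/-- the range of a quasi-compact immersion of finite presentation into a quasi-compact
quasi-separated scheme is constructible -/
theorem isConstructible_range [CompactSpace X] [QuasiSeparatedSpace X] {Z : Scheme.{u}}
    (z : Z ⟶ X) [LocallyOfFinitePresentation z] [QuasiCompact z] :
    IsConstructible (Set.range z) := by
  rw [← Set.image_univ]
  exact ProConsLib.isConstructible_of_ind_of_pro
    (ProConsLib.ind_image z (ProConsLib.ind_of_isLocallyConstructible
      Topology.IsLocallyConstructible.univ))
    (ProConsLib.pro_image z ProConsLib.pro_univ)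

variable (j : U ⟶ X) [LocallyQuasiFinite j] [LocallyOfFiniteType j] [QuasiCompact j]
  [QuasiSeparated j]

/-- a finite cover by affine finitely presented locally closed pieces over which `j` is finite -/
theorem exists_finite_cover [CompactSpace X] [QuasiSeparatedSpace X] :
    ∃ (n : ℕ) (Z : Fin n → Scheme.{u}) (z : ∀ i, Z i ⟶ X), (∀ y : X, ∃ i, y ∈ Set.range (z i)) ∧
      ∀ i, IsImmersion (z i) ∧ LocallyOfFinitePresentation (z i) ∧ QuasiCompact (z i) ∧
        IsAffine (Z i) ∧ IsFinite (pullback.snd j (z i)) := by
  classical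
  choose Z z hy h1 h2 h3 h4 h5 using ConsB.exists_local_piece j
  have hE : ∀ y : X, ProCons.IsIndConstructible (Set.range (z y)) := by
    intro y
    haveI := h2 y
    rw [← Set.image_univ]
    exact ProConsLib.ind_image (z y)
      (ProConsLib.ind_of_isLocallyConstructible Topology.IsLocallyConstructible.univ)
  obtain ⟨J, hJ⟩ := ProConsLib.exists_finite_subcover (X := X) ProConsLib.pro_univ
    (fun y ↦ Set.range (z y)) hE (fun y _ ↦ Set.mem_iUnion.mpr ⟨y, hy y⟩)
  let e : Fin J.card ≃ J := J.equivFin.symm
  refine ⟨J.card, fun i ↦ Z (e i).1, fun i ↦ z (e i).1, ?_, ?_⟩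
  · intro y
    have := hJ (Set.mem_univ y)
    simp only [Set.mem_iUnion] at this
    obtain ⟨y', hy'J, hy'⟩ := this
    refine ⟨e.symm ⟨y', hy'J⟩, ?_⟩
    have key : ∀ t : J, t = ⟨y', hy'J⟩ → y ∈ Set.range (z t.1) := by
      rintro _ rfl
      exact hy'
    exact key _ (Equiv.apply_symm_apply e _)
  · intro i
    exact ⟨h1 _, h2 _, h3 _, h4 _, h5 _⟩

/-- a quasi-compact quasi-separated quasi-finite morphism of finite type is stratified finite -/
theorem exists_partition [CompactSpace X] [QuasiSeparatedSpace X] :
    ∃ (n : ℕ) (T : Fin n → Scheme.{u}) (g : ∀ i, T i ⟶ X),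
      (∀ i, IsImmersion (g i)) ∧ (∀ i, Topology.IsConstructible (Set.range (g i))) ∧
      Pairwise (fun i i' => Disjoint (Set.range (g i)) (Set.range (g i'))) ∧
      (⋃ i, Set.range (g i)) = Set.univ ∧ ∀ i, IsFinite (pullback.snd j (g i)) := by
  obtain ⟨n, Z, z, hcov, hz⟩ := exists_finite_cover j
  haveI : ∀ i, IsImmersion (z i) := fun i => (hz i).1
  obtain ⟨κ, hκ, T, g, h1, h2, h3, h4, h5⟩ := ConsA.exists_partition_of_cover
    (fun T g => IsFinite (pullback.snd j g))
    (fun T T' g h hg => ConsB.isFinite_snd_comp j g h hg) (A := Fin n) Z z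
    (fun i => by
      haveI := (hz i).2.1
      haveI := (hz i).2.2.1
      exact isConstructible_range (z i))
    (Set.eq_univ_of_forall fun y => Set.mem_iUnion.2 (hcov y)) (fun i => (hz i).2.2.2.2)
  obtain ⟨m, ⟨e⟩⟩ := Finite.exists_equiv_fin κ
  refine ⟨m, fun i => T (e.symm i), fun i => g (e.symm i), fun i => h1 _, fun i => h2 _, ?_, ?_,
    fun i => h5 _⟩
  · intro i i' hii'
    exact h3 (fun h => hii' (e.symm.injective h))
  · rw [← h4]
    exact e.symm.surjective.iUnion_comp (fun k => Set.range (g k))

end Groth.Agent.Helper6.ConsC
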