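import Mathlib
import Groth.Prelude.Def_EtBase
import Groth.Prelude.Def_EtCore
import Groth.Prelude.Def_PBC

set_option autoImplicit false
set_option linter.style.haveILetI false
set_option linter.unusedSectionVars false
set_option linter.unusedVariables false
set_option linter.unusedSimpArgs false

/-!
# Free abelian étale sheaves on an object with values in a group

`IsFreeOn E V A` says that `E` corepresents `F ↦ Hom(A, F(V))`; this characterizes `j_! A`
for `j : V → X` and is stable under inverse images.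
-/

universe u

open CategoryTheory CategoryTheory.Limits AlgebraicGeometry Opposite

namespace Groth.Agent.Helper6.ConsD

variable {X : Scheme.{u}}

/-- sections over `V` as a functor -/
noncomputable abbrev evalAt (V : X.Etale) : EtCoh.Ab X ⥤ AddCommGrpCat.{u + 1} :=
  (sheafSections X.smallEtaleTopology AddCommGrpCat.{u + 1}).obj (op V)

/-- `E` is free on `V` with values in `A` -/
def IsFreeOn (E : EtCoh.Ab X) (V : X.Etale) (A : AddCommGrpCat.{u + 1}) : Prop :=
  ∃ e : A ⟶ (evalAt V).obj E, ∀ (F : EtCoh.Ab X) (φ : A ⟶ (evalAt V).obj F),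
    ∃! a : E ⟶ F, e ≫ (evalAt V).map a = φ

/-- a left adjoint of a functor isomorphic to evaluation at `V` produces free objects -/
theorem isFreeOn_of_adj {V : X.Etale} {L : AddCommGrpCat.{u + 1} ⥤ EtCoh.Ab X}
    {R : EtCoh.Ab X ⥤ AddCommGrpCat.{u + 1}} (adj : L ⊣ R) (ρ : R ≅ evalAt V)
    (A : AddCommGrpCat.{u + 1}) : IsFreeOn (L.obj A) V A := by
  refine ⟨adj.unit.app A ≫ ρ.hom.app (L.obj A), fun F φ => ?_⟩
  have key : ∀ a : L.obj A ⟶ F, (adj.unit.app A ≫ ρ.hom.app (L.obj A)) ≫ (evalAt V).map a =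
      adj.homEquiv A F a ≫ ρ.hom.app F := by
    intro a
    rw [Category.assoc, ← ρ.hom.naturality, Adjunction.homEquiv_unit, Category.assoc]
  refine ⟨(adj.homEquiv A F).symm (φ ≫ ρ.inv.app F), ?_, ?_⟩
  · show (adj.unit.app A ≫ ρ.hom.app (L.obj A)) ≫ (evalAt V).map _ = φ
    rw [key, Equiv.apply_symm_apply, Category.assoc, Iso.inv_hom_id_app, Category.comp_id]
  · intro a ha
    have ha' : (adj.unit.app A ≫ ρ.hom.app (L.obj A)) ≫ (evalAt V).map a = φ := ha
    rw [key] at ha'
    rw [← ha', Category.assoc, Iso.hom_inv_id_app, Category.comp_id, Equiv.symm_apply_apply]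

/-- free objects on the same data are isomorphic -/
theorem nonempty_iso_of_isFreeOn {E E' : EtCoh.Ab X} {V : X.Etale} {A : AddCommGrpCat.{u + 1}}
    (h : IsFreeOn E V A) (h' : IsFreeOn E' V A) : Nonempty (E ≅ E') := by
  obtain ⟨e, he⟩ := h
  obtain ⟨e', he'⟩ := h'
  obtain ⟨a, ha, -⟩ := he E' e'
  obtain ⟨b, hb, -⟩ := he' E e
  have h1 : a ≫ b = 𝟙 E := by
    obtain ⟨c, -, hc⟩ := he E e
    rw [hc (a ≫ b) (by
        show e ≫ (evalAt V).map (a ≫ b) = e
        rw [Functor.map_comp, reassoc_of% ha, hb]),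
      hc (𝟙 E) (by
        show e ≫ (evalAt V).map (𝟙 E) = e
        rw [CategoryTheory.Functor.map_id, Category.comp_id])]
  have h2 : b ≫ a = 𝟙 E' := by
    obtain ⟨c, -, hc⟩ := he' E' e'
    rw [hc (b ≫ a) (by
        show e' ≫ (evalAt V).map (b ≫ a) = e'
        rw [Functor.map_comp, reassoc_of% hb, ha]),
      hc (𝟙 E') (by
        show e' ≫ (evalAt V).map (𝟙 E') = e'
        rw [CategoryTheory.Functor.map_id, Category.comp_id])]
  exact ⟨⟨a, b, h1, h2⟩⟩

theorem isFreeOn_of_iso {E E' : EtCoh.Ab X} (i : E ≅ E') {V : X.Etale}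
    {A : AddCommGrpCat.{u + 1}} (h : IsFreeOn E V A) : IsFreeOn E' V A := by
  obtain ⟨e, he⟩ := h
  refine ⟨e ≫ (evalAt V).map i.hom, fun F φ => ?_⟩
  obtain ⟨a, ha, hu⟩ := he F φ
  refine ⟨i.inv ≫ a, ?_, ?_⟩
  · show (e ≫ (evalAt V).map i.hom) ≫ (evalAt V).map (i.inv ≫ a) = φ
    rw [Category.assoc, ← Functor.map_comp, Iso.hom_inv_id_assoc, ha]
  · intro b hb
    have hb' : (e ≫ (evalAt V).map i.hom) ≫ (evalAt V).map b = φ := hb
    have := hu (i.hom ≫ b) (by
      show e ≫ (evalAt V).map (i.hom ≫ b) = φ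
      rw [Functor.map_comp, ← Category.assoc, hb'])
    rw [← this, Iso.inv_hom_id_assoc]

/-- the constant sheaf is free on the terminal object -/
theorem isFreeOn_const (A : AddCommGrpCat.{u + 1}) :
    IsFreeOn ((constantSheaf X.smallEtaleTopology AddCommGrpCat.{u + 1}).obj A) (EtCoh.top X) A :=
  isFreeOn_of_adj (constantSheafAdj X.smallEtaleTopology AddCommGrpCat.{u + 1}
    (EtCore.topIsTerminal X)) (Iso.refl _) A

/-- the terminal object of the over category -/
noncomputable def overTerminal (U : X.Etale) : IsTerminal (Over.mk (𝟙 U)) := Over.mkIdTerminal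

/-- `j_! A` is free on `U` -/
theorem isFreeOn_extZero (U : X.Etale) (A : AddCommGrpCat.{u + 1}) :
    IsFreeOn ((EtPBC.extZero U).obj
      ((constantSheaf (X.smallEtaleTopology.over U) AddCommGrpCat.{u + 1}).obj A)) U A :=
  isFreeOn_of_adj (L := constantSheaf (X.smallEtaleTopology.over U) AddCommGrpCat.{u + 1} ⋙
      EtPBC.extZero U)
    ((constantSheafAdj (X.smallEtaleTopology.over U) AddCommGrpCat.{u + 1}
      (overTerminal U)).comp (EtPBC.extZeroAdj U))
    (NatIso.ofComponents (fun F => Iso.refl _) (fun f => by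
      simp only [Iso.refl_hom, Category.comp_id, Category.id_comp]
      rfl)) A

theorem isFreeOn_extZeroConst (U : X.Etale) (M : Type) [AddCommGroup M] :
    IsFreeOn (EtPBC.extZeroConst U M) U (AddCommGrpCat.of (ULift.{u + 1} M)) :=
  isFreeOn_extZero U _

section Pull

variable {T : Scheme.{u}} (g : T ⟶ X) [EtCoh.BCCont g]

/-- inverse images of free objects are free -/
theorem isFreeOn_pull {E : EtCoh.Ab X} {V : X.Etale} {A : AddCommGrpCat.{u + 1}}
    (h : IsFreeOn E V A) : IsFreeOn ((EtCoh.pull g).obj E) ((EtCoh.bc g).obj V) A := by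
  obtain ⟨e, he⟩ := h
  let adj := EtCoh.pullPushAdj g
  have hpush : ∀ {G G' : EtCoh.Ab T} (a : G ⟶ G'),
      (evalAt V).map ((EtCoh.push g).map a) = (evalAt ((EtCoh.bc g).obj V)).map a := fun a => rfl
  refine ⟨e ≫ (evalAt V).map (adj.unit.app E), fun H φ => ?_⟩
  obtain ⟨a₀, ha₀, hu⟩ := he ((EtCoh.push g).obj H) φ
  have key : ∀ a : (EtCoh.pull g).obj E ⟶ H,
      (e ≫ (evalAt V).map (adj.unit.app E)) ≫ (evalAt ((EtCoh.bc g).obj V)).map a =
        e ≫ (evalAt V).map (adj.homEquiv E H a) := by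
    intro a
    have h1 : adj.homEquiv E H a = adj.unit.app E ≫ (EtCoh.push g).map a :=
      Adjunction.homEquiv_unit _ _ _ _
    rw [h1, Functor.map_comp, Category.assoc]
    rfl
  refine ⟨(adj.homEquiv E H).symm a₀, ?_, ?_⟩
  · show (e ≫ (evalAt V).map (adj.unit.app E)) ≫ (evalAt ((EtCoh.bc g).obj V)).map _ = φ
    rw [key, Equiv.apply_symm_apply]
    exact ha₀
  · intro a ha
    have ha' : (e ≫ (evalAt V).map (adj.unit.app E)) ≫
        (evalAt ((EtCoh.bc g).obj V)).map a = φ := ha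
    rw [key] at ha'
    rw [← hu _ ha', Equiv.symm_apply_apply]

end Pull

end Groth.Agent.Helper6.ConsD
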