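import Mathlib
import Groth.Agent.Helper6.ConsD
import Groth.Agent.Helper6.ConsE
import Groth.Agent.Helper5.FlcPush1
import Groth.Agent.Helper4.OverEtC
import Groth.Agent.Helper3.FRank2

set_option autoImplicit false
set_option linter.style.haveILetI false
set_option linter.unusedSectionVars false
set_option linter.unusedVariables false
set_option linter.unusedSimpArgs false

/-!
# The free sheaf on a finite étale object of constant rank is finite locally constant
-/

universe u

open CategoryTheory CategoryTheory.Limits AlgebraicGeometry Opposite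

namespace Groth.Agent.Helper6.ConsF

open Groth.Agent.Helper6.ConsD Groth.Agent.Helper6.ConsE

variable {T : Scheme.{u}}

section Split

variable (W : T.Etale) {d : ℕ} (inj : Fin d → (T ⟶ W.left)) (hinj : ∀ i, inj i ≫ W.hom = 𝟙 T)
  (hc : IsColimit (Cofan.mk W.left inj))

/-- the sections as morphisms of the small étale site -/
noncomputable def sec (i : Fin d) : EtCoh.top T ⟶ W :=
  MorphismProperty.Over.homMk (inj i) (hinj i) trivial

lemma sec_left (i : Fin d) : (sec W inj hinj i).left = inj i := rfl

/-- restriction to the `i`-th sheet -/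
noncomputable def ρ (i : Fin d) : evalAt W ⟶ evalAt (EtCoh.top T) :=
  (sheafSections T.smallEtaleTopology AddCommGrpCat.{u + 1}).map (sec W inj hinj i).op

lemma ρ_app (i : Fin d) (F : EtCoh.Ab T) (t : F.obj.obj (op W)) :
    (ρ W inj hinj i).app F t = F.obj.map (sec W inj hinj i).op t := rfl

include hinj in
lemma etale_inj (i : Fin d) : Etale (inj i) :=
  EtCoh.etaleMP.of_postcomp (W' := EtCoh.etaleMP) (inj i) W.hom W.prop (by
    rw [hinj]
    exact (inferInstance : Etale (𝟙 T)))

include hc in
theorem bijective_rho (F : EtCoh.Ab T) :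
    Function.Bijective (rho (evalAt (EtCoh.top T)) (evalAt W) (ρ W inj hinj) F) := by
  haveI : ∀ i, Etale (inj i) := etale_inj W inj hinj
  have key : ∀ s : Fin d → F.obj.obj (op (EtCoh.top T)),
      ∃! t : F.obj.obj (op W), ∀ i, F.obj.map (sec W inj hinj i).op t = s i := by
    intro s
    refine Groth.Agent.Helper9.EtDisjGlue.existsUnique_glue (fun _ => EtCoh.top T)
      (sec W inj hinj) ?_ ?_ ?_ (F.obj ⋙ forget AddCommGrpCat)
      (Groth.Agent.Helper6.GalDescC.isSheaf_forget F) s
    · intro i
      apply Groth.Agent.Helper9.EtDisjGlue.mono_of_mono_left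
      have : IsSplitMono (inj i) := ⟨⟨⟨W.hom, hinj i⟩⟩⟩
      exact (inferInstance : Mono (inj i))
    · intro p
      exact Groth.Agent.Helper5.FlcPush.exists_inj_eq inj hc p
    · intro i j hij v w
      exact Groth.Agent.Helper5.FlcPush.inj_ne inj hc hij v w
  constructor
  · intro t t' htt'
    obtain ⟨t₀, -, hu⟩ := key (rho (evalAt (EtCoh.top T)) (evalAt W) (ρ W inj hinj) F t)
    rw [hu t (fun i => rfl), hu t' (fun i => (congrFun htt' i).symm)]
  · intro s
    obtain ⟨t, ht, -⟩ := key s
    exact ⟨t, funext ht⟩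

include hc hinj in
/-- a constant sheaf is free on a split finite étale object -/
theorem isFreeOn_const_of_split (A : AddCommGrpCat.{u + 1}) :
    IsFreeOn ((constantSheaf T.smallEtaleTopology AddCommGrpCat.{u + 1}).obj
      (AddCommGrpCat.of (Fin d → A))) W A :=
  isFreeFor_of_pow (evalAt (EtCoh.top T)) (evalAt W) (ρ W inj hinj)
    (bijective_rho W inj hinj hc) (isFreeOn_const _)

end Split

/-- the value group of a power of a constant sheaf -/
noncomputable def powIso (d : ℕ) (M : Type) [AddCommGroup M] :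
    AddCommGrpCat.of (Fin d → AddCommGrpCat.of (ULift.{u + 1} M)) ≅
      AddCommGrpCat.of (ULift.{u + 1} (Fin d → M)) :=
  AddEquiv.toAddCommGrpIso
    { toFun := fun f => ⟨fun i => (f i).down⟩
      invFun := fun g i => ⟨g.down i⟩
      left_inv := fun f => rfl
      right_inv := fun g => rfl
      map_add' := fun f g => rfl }

/-- the free sheaf on a finite étale object of constant rank is finite locally constant -/
theorem flc_of_isFreeOn (W : T.Etale) [IsFinite W.hom] (d : ℕ) (hd : ∀ t, W.hom.finrank t = d)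
    (E : EtCoh.Ab T) (M : Type) [AddCommGroup M] [Finite M]
    (hE : IsFreeOn E W (AddCommGrpCat.of (ULift.{u + 1} M))) :
    EtCoh.IsFiniteLocallyConstant E := by
  haveI : Etale W.hom := W.prop
  obtain ⟨Y, ψ, hψf, hψe, hψs, -, inj, hinj, ⟨hc⟩⟩ :=
    Groth.Agent.Helper3.FSplit.splitDeg d W.hom hd
  rw [Groth.Agent.Helper4.OverEtC.flc_iff]
  refine ⟨PUnit, fun _ => Scheme.Etale.mk ψ, ?_, fun _ => ?_⟩
  · intro x
    obtain ⟨y, hy⟩ := hψs.surj x
    exact ⟨PUnit.unit, y, hy⟩
  · refine ⟨Fin d → M, inferInstance, inferInstance, ?_⟩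
    have h1 : IsFreeOn ((EtCoh.pull ψ).obj E) ((EtCoh.bc ψ).obj W)
        (AddCommGrpCat.of (ULift.{u + 1} M)) := isFreeOn_pull ψ hE
    have h2 : IsFreeOn ((constantSheaf Y.smallEtaleTopology AddCommGrpCat.{u + 1}).obj
        (AddCommGrpCat.of (Fin d → AddCommGrpCat.of (ULift.{u + 1} M)))) ((EtCoh.bc ψ).obj W)
        (AddCommGrpCat.of (ULift.{u + 1} M)) :=
      isFreeOn_const_of_split ((EtCoh.bc ψ).obj W) inj hinj hc _
    obtain ⟨i⟩ := nonempty_iso_of_isFreeOn h1 h2
    exact ⟨i ≪≫ (constantSheaf Y.smallEtaleTopology AddCommGrpCat.{u + 1}).mapIso (powIso d M)⟩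

end Groth.Agent.Helper6.ConsF
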