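import Mathlib
import Groth.Agent.Helper6.ConsC
import Groth.Agent.Helper6.ConsF
import Groth.Agent.Helper4.StrataF
import Groth.Agent.Helper4.SchLQF

set_option autoImplicit false
set_option linter.style.haveILetI false
set_option linter.unusedSectionVars false
set_option linter.unusedVariables false
set_option linter.unusedSimpArgs false

/-!
# Free sheaves on quasi-compact quasi-separated étale objects are constructible
-/

universe u

open CategoryTheory CategoryTheory.Limits AlgebraicGeometry Opposite Topology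

namespace Groth.Agent.Helper6.ConsG

open Groth.Agent.Lead Groth.Agent.Helper6.ConsD

variable {U X : Scheme.{u}} (j : U ⟶ X) [Etale j] [QuasiCompact j] [QuasiSeparated j]

/-- every point lies in a finitely presented locally closed piece over which `j` is finite of
constant rank -/
theorem exists_local_piece_rank [QuasiSeparatedSpace X] (y : X) :
    ∃ (Z : Scheme.{u}) (z : Z ⟶ X) (d : ℕ), y ∈ Set.range z ∧ IsImmersion z ∧
      LocallyOfFinitePresentation z ∧ QuasiCompact z ∧
      ∃ _ : IsFinite (pullback.snd j z), ∀ t, (pullback.snd j z).finrank t = d := by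
  haveI : LocallyQuasiFinite j := Groth.Agent.Helper4.SchLQF.locallyQuasiFinite_of_etale j
  obtain ⟨Z, z, ⟨y', rfl⟩, h1, h2, h3, h4, h5⟩ := ConsB.exists_local_piece j y
  let p := pullback.snd j z
  have hlc : IsLocallyConstant p.finrank := Scheme.Hom.isLocallyConstant_finrank p
  let d := p.finrank y'
  let Z' : Z.Opens := ⟨p.finrank ⁻¹' {d}, hlc.isOpen_fiber d⟩
  have hZ'c : IsClosed (Z' : Set Z) := (hlc.isClopen_fiber d).1
  haveI : CompactSpace Z' := isCompact_iff_compactSpace.1 hZ'c.isCompact
  haveI : QuasiCompact Z'.ι := inferInstance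
  refine ⟨Z', Z'.ι ≫ z, d, ⟨⟨y', rfl⟩, rfl⟩, inferInstance, inferInstance, inferInstance,
    ConsB.isFinite_snd_comp j z Z'.ι h5, ?_⟩
  intro t
  haveI := ConsB.isFinite_snd_comp j z Z'.ι h5
  have sq := IsPullback.of_right' (IsPullback.of_hasPullback j (Z'.ι ≫ z))
    (IsPullback.of_hasPullback j z)
  rw [Scheme.Hom.finrank_of_isPullback _ _ _ _ sq t]
  exact t.2

/-- a finite cover by pieces of constant rank -/
theorem exists_finite_cover_rank [CompactSpace X] [QuasiSeparatedSpace X] :
    ∃ (n : ℕ) (Z : Fin n → Scheme.{u}) (z : ∀ i, Z i ⟶ X) (d : Fin n → ℕ),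
      (∀ y : X, ∃ i, y ∈ Set.range (z i)) ∧
      ∀ i, IsImmersion (z i) ∧ LocallyOfFinitePresentation (z i) ∧ QuasiCompact (z i) ∧
        ∃ _ : IsFinite (pullback.snd j (z i)), ∀ t, (pullback.snd j (z i)).finrank t = d i := by
  classical
  choose Z z d hy h1 h2 h3 h4 using exists_local_piece_rank j
  have hE : ∀ y : X, ProCons.IsIndConstructible (Set.range (z y)) := by
    intro y
    haveI := h2 y
    rw [← Set.image_univ]
    exact ProConsLib.ind_image (z y)
      (ProConsLib.ind_of_isLocallyConstructible Topology.IsLocallyConstructible.univ)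
  obtain ⟨J, hJ⟩ := ProConsLib.exists_finite_subcover (X := X) ProConsLib.pro_univ
    (fun y ↦ Set.range (z y)) hE (fun y _ ↦ Set.mem_iUnion.mpr ⟨y, hy y⟩)
  let e : Fin J.card ≃ J := J.equivFin.symm
  refine ⟨J.card, fun i ↦ Z (e i).1, fun i ↦ z (e i).1, fun i => d (e i).1, ?_, ?_⟩
  · intro y
    have := hJ (Set.mem_univ y)
    simp only [Set.mem_iUnion] at this
    obtain ⟨y', hy'J, hy'⟩ := this
    refine ⟨e.symm ⟨y', hy'J⟩, ?_⟩
    have key : ∀ t : J, t = ⟨y', hy'J⟩ → y ∈ Set.range (z t.1) := by
      rintro _ rfl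
      exact hy'
    exact key _ (Equiv.apply_symm_apply e _)
  · intro i
    exact ⟨h1 _, h2 _, h3 _, h4 _⟩

/-- a free sheaf with finite values on a quasi-compact quasi-separated étale object is
constructible -/
theorem isConstructible_of_isFreeOn [CompactSpace X] [QuasiSeparatedSpace X] (V : X.Etale)
    (hqc : QuasiCompact (V.hom : V.left ⟶ X)) (hqs : QuasiSeparated (V.hom : V.left ⟶ X))
    (M : Type) [AddCommGroup M] [Finite M]
    (E : EtCoh.Ab X) (hE : IsFreeOn E V (AddCommGrpCat.of (ULift.{u + 1} M))) :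
    EtPBC.IsConstructible E := by
  let j : V.left ⟶ X := V.hom
  haveI : Etale j := V.prop
  haveI : QuasiCompact j := hqc
  haveI : QuasiSeparated j := hqs
  obtain ⟨n, Z, z, d, hcov, hz⟩ := exists_finite_cover_rank j
  haveI : ∀ i, IsImmersion (z i) := fun i => (hz i).1
  apply Groth.Agent.Helper4.StrataF.isConstructible_of_strat_univ
  refine Groth.Agent.Helper4.StrataE.strat_of_cover E (A := Fin n) Z z (fun i => ?_)
    (Set.eq_univ_of_forall fun y => Set.mem_iUnion.2 (hcov y)) (fun i => ?_)
  · haveI := (hz i).2.1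
    haveI := (hz i).2.2.1
    exact ConsC.isConstructible_range (z i)
  · obtain ⟨hfin, hd⟩ := (hz i).2.2.2
    haveI : IsFinite ((EtCoh.bc (z i)).obj V).hom := hfin
    exact ConsF.flc_of_isFreeOn ((EtCoh.bc (z i)).obj V) (d i) hd _ M (isFreeOn_pull (z i) hE)

end Groth.Agent.Helper6.ConsG
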