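import Mathlib
import Groth.Prelude.Def_EtBase
import Groth.Prelude.Def_PBC
import Groth.Agent.Helper9.EtSectSupp
import Groth.Agent.Helper4.StalkLocus
import Groth.Agent.Helper4.SuppB
import Groth.Agent.Helper4.StrataB
import Groth.Agent.Helper4.LcPoint

set_option autoImplicit false
set_option linter.style.haveILetI false
set_option linter.unusedSectionVars false
set_option linter.unusedVariables false
set_option linter.unusedSimpArgs false

/-!
# Stalks of constructible sheaves: finiteness, independence of the geometric point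
-/

universe u

open CategoryTheory CategoryTheory.Limits AlgebraicGeometry Opposite Topology

namespace Groth.Agent.Helper6.ConsH

open Groth.Agent.Helper9.EtStalkExact Groth.Agent.Helper9.EtStalkPull

attribute [local instance] preservesFilteredColimits_forget_ab ab5_ab

variable {X : Scheme.{u}}

section Indep

variable {Ω Ω' : Type u} [Field Ω] [IsSepClosed Ω] [Field Ω'] [IsSepClosed Ω']

set_option backward.isDefEq.respectTransparency.types false in
/-- vanishing of a stalk only depends on the underlying point -/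
theorem isZero_stalk_of_isZero_stalk (F : EtCoh.Ab X) (ξ : Spec (CommRingCat.of Ω) ⟶ X)
    (ξ' : Spec (CommRingCat.of Ω') ⟶ X) (h : ξ default = ξ' default)
    (hz : IsZero ((EtCoh.stalk ξ).obj F)) : IsZero ((EtCoh.stalk ξ').obj F) := by
  have hsub : Subsingleton ↑((EtCoh.stalk ξ).obj F) := AddCommGrpCat.subsingleton_of_isZero hz
  suffices hs : ∀ t : ↑((EtCoh.stalk ξ').obj F), t = 0 by
    haveI : Subsingleton ↑((EtCoh.stalk ξ').obj F) := ⟨fun a b => by rw [hs a, hs b]⟩
    exact AddCommGrpCat.isZero_of_subsingleton _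
  intro t
  obtain ⟨U, l', σ, rfl⟩ := (Scheme.pointSmallEtale ξ').toPresheafFiber_jointly_surjective
    (P := F.obj) t
  let lU' : Spec (CommRingCat.of Ω') ⟶ U.left := l'.left
  have hlU' : lU' ≫ U.hom = ξ' := Over.w l'
  let y : U.left := lU' default
  have hy : U.hom y = ξ default := by
    rw [h, ← hlU']
    rfl
  haveI : Etale (Groth.Agent.Helper4.OverEtC.homS U) := U.prop
  obtain ⟨l₀, hl₀, hl₀y⟩ := Scheme.exists_fac_of_etale_of_isSepClosed
    (Groth.Agent.Helper4.OverEtC.homS U) ξ y hy
  let l : (Scheme.pointSmallEtale ξ).fiber.obj U := Over.homMk l₀ hl₀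
  have h0 : (Scheme.pointSmallEtale ξ).toPresheafFiber U l F.obj σ =
      (Scheme.pointSmallEtale ξ).toPresheafFiber U l F.obj 0 :=
    @Subsingleton.elim _ hsub _ _
  obtain ⟨W, g, l₁, hl₁, hg⟩ :=
    ((Scheme.pointSmallEtale ξ).toPresheafFiber_eq_iff' U l σ 0).1 h0
  let lW : Spec (CommRingCat.of Ω) ⟶ W.left := l₁.left
  have h1 : lW ≫ g.left = l₀ := by
    have := congrArg (fun m => m.left) hl₁
    exact this
  have hw : g.left (lW default) = (show Spec (CommRingCat.of Ω') ⟶ U.left from l'.left) default := by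
    rw [← Scheme.Hom.comp_apply, h1]
    exact hl₀y
  obtain ⟨l'', hl'', -⟩ := Groth.Agent.Helper9.EtSectSupp.exists_lift_fiber ξ' g l' (lW default) hw
  have e := (Scheme.pointSmallEtale ξ').toPresheafFiber_w_apply g l'' F.obj σ
  rw [hl''] at e
  rw [← e, hg, map_zero]
  exact map_zero ((Scheme.pointSmallEtale ξ').toPresheafFiber W l'' F.obj).hom

/-- membership in the support can be tested at any geometric point -/
theorem not_mem_supp_of_isZero_stalk (F : EtCoh.Ab X) (ξ : Spec (CommRingCat.of Ω) ⟶ X)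
    (hz : IsZero ((EtCoh.stalk ξ).obj F)) : ξ default ∉ EtPBC.supp F := by
  rintro ⟨Ω', _, _, ξ', hξ', hnz⟩
  apply hnz
  refine isZero_stalk_of_isZero_stalk F ξ ξ' ?_ hz
  exact (Groth.Agent.Helper4.SuppA.default_eq_of_range ξ' hξ').symm

end Indep

section Fin

open Groth.Agent.Helper4.StrataB Groth.Agent.Helper4.LcPoint Groth.Agent.Helper4.StalkLocus
  Groth.Agent.Helper4.SuppA

variable {Ω : Type u} [Field Ω] [IsSepClosed Ω]

/-- the stalks of a finite locally constant sheaf are finite -/
theorem finite_stalk_of_flc (G : EtCoh.Ab X) (hG : EtCoh.IsFiniteLocallyConstant G)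
    (ξ : Spec (CommRingCat.of Ω) ⟶ X) : Finite ((EtCoh.stalk ξ).obj G) := by
  rw [flc_iff_forall_LC] at hG
  obtain ⟨V, v, hv, N, fN, ⟨a⟩⟩ := hG (ξ default)
  haveI := fN
  obtain ⟨e⟩ := stalk_iso_of_const V N a ξ v hv
  exact Finite.of_equiv _ e.addCommGroupIsoToAddEquiv.symm.toEquiv

/-- the stalks of a constructible sheaf are finite -/
theorem finite_stalk_of_isConstructible (F : EtCoh.Ab X) (hF : EtPBC.IsConstructible F)
    (ξ : Spec (CommRingCat.of Ω) ⟶ X) : Finite ((EtCoh.stalk ξ).obj F) := by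
  obtain ⟨_, ⟨U, hU : IsAffineOpen U, rfl⟩, hxU, -⟩ :=
    (X.isBasis_affineOpens).exists_subset_of_mem_open (Set.mem_univ (ξ default)) isOpen_univ
  obtain ⟨κ, hκ, T, g, h1, h2, h3, h4, h5⟩ := (strat_iff F _).2 (hF U hU)
  have hx' : ξ default ∈ ⋃ k, Set.range (g k) := by rw [h4]; exact hxU
  obtain ⟨k, t, ht⟩ := Set.mem_iUnion.1 hx'
  haveI := h1 k
  obtain ⟨l, rfl⟩ := Groth.Agent.Helper4.SuppB.exists_lift_of_isImmersion (g k) ξ t ht
  haveI : Finite ↑((EtCoh.pull (g k) ⋙ EtCoh.stalk l).obj F) :=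
    finite_stalk_of_flc _ (h5 k) l
  exact Finite.of_equiv _ ((stalkPullIso (g k) l).app F).addCommGroupIsoToAddEquiv.toEquiv

end Fin

end Groth.Agent.Helper6.ConsH
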