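import Mathlib
import Groth.Prelude.Def_EtBase
import Groth.Prelude.Def_PBC
import Groth.Agent.Helper6.ConsH
import Groth.Agent.Helper4.ConsSerre
import Groth.Agent.Helper4.SuppC
import Groth.Agent.Lead.ProConsLib
import Groth.Agent.Lead.ProConsLib2
import Groth.Agent.Lead.ProConsLib7

set_option autoImplicit false
set_option linter.style.haveILetI false
set_option linter.unusedSectionVars false
set_option linter.unusedVariables false
set_option linter.unusedSimpArgs false

/-!
# Finite biproducts of constructible sheaves; finite generation of constructible sheaves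
-/

universe w u

open CategoryTheory CategoryTheory.Limits AlgebraicGeometry Opposite Topology

namespace Groth.Agent.Helper6.ConsI

open Groth.Agent.Helper9.EtStalkExact Groth.Agent.Helper4.ConsSerre Groth.Agent.Helper4.SuppC

attribute [local instance] preservesFilteredColimits_forget_ab ab5_ab

variable {X : Scheme.{u}}

/-- a zero sheaf is constructible as soon as some sheaf is -/
theorem isConstructible_of_isZero {Z : EtCoh.Ab X} (hZ : IsZero Z) {K : EtCoh.Ab X}
    (hK : EtPBC.IsConstructible K) : EtPBC.IsConstructible Z := by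
  have h1 : EtPBC.IsConstructible (cokernel (𝟙 K)) := isConstructible_cokernel (𝟙 K) hK hK
  have h2 : IsZero (cokernel (𝟙 K)) := isZero_cokernel_of_epi (𝟙 K)
  exact isConstructible_of_iso (h2.iso hZ) h1

section Biprod

variable {C : Type*} [Category C] [Preadditive C]

/-- the split short complex `f none ⟶ ⨁ f ⟶ ⨁ (f ∘ some)` -/
noncomputable def optionComplex {α : Type w} [Fintype α] (f : Option α → C) [HasBiproduct f]
    [HasBiproduct (f ∘ some)] : ShortComplex C :=
  ShortComplex.mk (biproduct.ι f none)
    (biproduct.lift (fun a => biproduct.π f (some a)) : ⨁ f ⟶ ⨁ (f ∘ some)) (by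
      apply biproduct.hom_ext
      intro a
      simp [biproduct.ι_π_ne])

noncomputable def optionSplitting {α : Type w} [Fintype α] (f : Option α → C) [HasBiproduct f]
    [HasBiproduct (f ∘ some)] : (optionComplex f).Splitting where
  r := biproduct.π f none
  s := biproduct.desc (fun a => biproduct.ι f (some a))
  f_r := biproduct.ι_π_self f none
  s_g := by
    classical
    apply biproduct.hom_ext'
    intro a
    apply biproduct.hom_ext
    intro b
    simp only [optionComplex, Category.assoc, biproduct.ι_desc_assoc, biproduct.lift_π,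
      Category.id_comp]
    by_cases h : a = b
    · subst h
      rw [biproduct.ι_π_self, biproduct.ι_π_self]
      rfl
    · rw [biproduct.ι_π_ne _ (fun h' => h (Option.some.inj h')), biproduct.ι_π_ne _ h]
  id := by
    classical
    show biproduct.π f none ≫ biproduct.ι f none +
      (biproduct.lift (fun a => biproduct.π f (some a)) : ⨁ f ⟶ ⨁ (f ∘ some)) ≫
        biproduct.desc (fun a => biproduct.ι f (some a)) = 𝟙 (⨁ f)
    have h0 : biproduct.ι f none ≫
        (biproduct.lift (fun a => biproduct.π f (some a)) : ⨁ f ⟶ ⨁ (f ∘ some)) = 0 := by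
      apply biproduct.hom_ext
      intro a
      simp [biproduct.ι_π_ne]
    have h1 : ∀ a, biproduct.ι f (some a) ≫
        (biproduct.lift (fun a => biproduct.π f (some a)) : ⨁ f ⟶ ⨁ (f ∘ some)) =
          biproduct.ι (f ∘ some) a := by
      intro a
      apply biproduct.hom_ext
      intro b
      simp only [Category.assoc, biproduct.lift_π]
      by_cases h : a = b
      · subst h
        rw [biproduct.ι_π_self, biproduct.ι_π_self]
        rfl
      · rw [biproduct.ι_π_ne _ (fun h' => h (Option.some.inj h')), biproduct.ι_π_ne _ h]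
    apply biproduct.hom_ext'
    rintro (_ | a)
    · rw [Preadditive.comp_add, biproduct.ι_π_self_assoc, reassoc_of% h0, zero_comp, add_zero,
        Category.comp_id]
    · rw [Preadditive.comp_add, biproduct.ι_π_ne_assoc _ (by simp), zero_comp, zero_add,
        reassoc_of% (h1 a), biproduct.ι_desc, Category.comp_id]

end Biprod

/-- finite biproducts of constructible sheaves are constructible -/
theorem isConstructible_biproduct {K₀ : EtCoh.Ab X} (hK₀ : EtPBC.IsConstructible K₀)
    (J : Type w) [Finite J] (f : J → EtCoh.Ab X) (hf : ∀ j, EtPBC.IsConstructible (f j)) :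
    EtPBC.IsConstructible (⨁ f) := by
  revert f
  refine Finite.induction_empty_option (P := fun J : Type w => ∀ [Finite J] (f : J → EtCoh.Ab X),
    (∀ j, EtPBC.IsConstructible (f j)) → EtPBC.IsConstructible (⨁ f)) ?_ ?_ ?_ J
  · intro α β e h _ f hf
    haveI : Finite α := Finite.of_equiv β e.symm
    exact isConstructible_of_iso
      (biproduct.whiskerEquiv (f := f ∘ e) (g := f) e (fun j => Iso.refl _))
      (h (f ∘ e) (fun j => hf _))
  · intro _ f hf
    refine isConstructible_of_isZero ?_ hK₀
    rw [IsZero.iff_id_eq_zero]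
    apply biproduct.hom_ext
    intro j
    exact j.elim
  · intro α _ h _ f hf
    exact isConstructible_of_shortExact (optionComplex f) (optionSplitting f).shortExact (hf none)
      (h (f ∘ some) (fun a => hf _))

section Gen

open Groth.Agent.Helper4.SuppA Groth.Agent.Lead.ProConsLib

/-- the stalk of `Q` at the canonical geometric point over `x` vanishes iff `x ∉ supp Q` -/
theorem not_mem_supp_iff (Q : EtCoh.Ab X) (x : X) :
    x ∉ EtPBC.supp Q ↔ IsZero ((EtCoh.stalk (geomPt x)).obj Q) := by
  constructor
  · intro h
    by_contra hnz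
    apply h
    have := mem_supp_of_stalk Q (geomPt x) hnz
    rwa [geomPt_default] at this
  · intro h
    have := Groth.Agent.Helper6.ConsH.not_mem_supp_of_isZero_stalk Q (geomPt x) h
    rwa [geomPt_default] at this

variable [CompactSpace X] [QuasiSeparatedSpace X]

/-- **Finite generation of constructible sheaves**: a family of maps from constructible sheaves to
a constructible sheaf `K` on a qcqs scheme which is jointly surjective on the stalks at the
canonical geometric points has a finite subfamily which is jointly epimorphic. -/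
theorem exists_finset_epi (K : EtCoh.Ab X) (hK : EtPBC.IsConstructible K) {ι : Type w}
    (E : ι → EtCoh.Ab X) (hE : ∀ i, EtPBC.IsConstructible (E i)) (π : ∀ i, E i ⟶ K)
    (hsurj : ∀ (x : X) (γ : ↑((EtCoh.stalk (geomPt x)).obj K)),
      ∃ (i : ι) (δ : ↑((EtCoh.stalk (geomPt x)).obj (E i))),
        (EtCoh.stalk (geomPt x)).map (π i) δ = γ) :
    ∃ S : Finset ι, Epi (biproduct.desc (fun i : S => π i.1) : (⨁ fun i : S => E i.1) ⟶ K) := by
  classical
  let P : Finset ι → EtCoh.Ab X := fun S => ⨁ fun i : S => E i.1
  let p : ∀ S : Finset ι, P S ⟶ K := fun S => biproduct.desc (fun i : S => π i.1)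
  let Q : Finset ι → EtCoh.Ab X := fun S => cokernel (p S)
  have hQ : ∀ S, EtPBC.IsConstructible (Q S) := fun S =>
    isConstructible_cokernel (p S) (isConstructible_biproduct hK _ _ (fun i => hE _)) hK
  let G : Finset ι → Set X := fun S => (EtPBC.supp (Q S))ᶜ
  have hG : ∀ S, ProCons.IsIndConstructible (G S) := fun S =>
    ind_of_isLocallyConstructible
      (isLocallyConstructible_compl (isConstructible_supp (Q S) (hQ S)).isLocallyConstructible)
  have hmono : ∀ S S' : Finset ι, S ⊆ S' → G S ⊆ G S' := by
    intro S S' hSS' x hx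
    have hx' : IsZero ((EtCoh.stalk (geomPt x)).obj (Q S)) := (not_mem_supp_iff _ x).1 hx
    show x ∉ EtPBC.supp (Q S')
    rw [not_mem_supp_iff]
    let incl : P S ⟶ P S' := biproduct.desc (fun i : S =>
      biproduct.ι (fun i : S' => E i.1) ⟨i.1, hSS' i.2⟩)
    have hincl : incl ≫ p S' = p S := by
      apply biproduct.hom_ext'
      intro i
      simp only [incl, p, biproduct.ι_desc_assoc, biproduct.ι_desc]
    let q : Q S ⟶ Q S' := cokernel.desc (p S) (cokernel.π (p S')) (by
      rw [← hincl, Category.assoc, cokernel.condition, comp_zero])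
    have hq : cokernel.π (p S) ≫ q = cokernel.π (p S') := cokernel.π_desc _ _ _
    haveI : Epi q := by
      haveI : Epi (cokernel.π (p S) ≫ q) := by rw [hq]; infer_instance
      exact epi_of_epi (cokernel.π (p S)) q
    exact IsZero.of_epi ((EtCoh.stalk (geomPt x)).map q) hx'
  have hcov : (Set.univ : Set X) ⊆ ⋃ S, G S := by
    intro x _
    haveI : Finite ↑((EtCoh.stalk (geomPt x)).obj K) :=
      Groth.Agent.Helper6.ConsH.finite_stalk_of_isConstructible K hK (geomPt x)
    haveI : Fintype ↑((EtCoh.stalk (geomPt x)).obj K) := Fintype.ofFinite _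
    choose i δ h using hsurj x
    refine Set.mem_iUnion.2 ⟨Finset.univ.image i, ?_⟩
    show x ∉ EtPBC.supp (Q (Finset.univ.image i))
    rw [not_mem_supp_iff, ← surjective_iff_isZero_stalk_cokernel]
    intro γ
    have hmem : i γ ∈ Finset.univ.image i := Finset.mem_image_of_mem _ (Finset.mem_univ _)
    refine ⟨(EtCoh.stalk (geomPt x)).map
      (biproduct.ι (fun j : (Finset.univ.image i : Finset ι) => E j.1) ⟨i γ, hmem⟩) (δ γ), ?_⟩
    rw [← ConcreteCategory.comp_apply, ← Functor.map_comp]
    have : biproduct.ι (fun j : (Finset.univ.image i : Finset ι) => E j.1) ⟨i γ, hmem⟩ ≫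
        p (Finset.univ.image i) = π (i γ) := biproduct.ι_desc _ _
    rw [this]
    exact h γ
  obtain ⟨J, hJ⟩ := exists_finite_subcover pro_univ G hG hcov
  refine ⟨J.sup id, ?_⟩
  apply Preadditive.epi_of_isZero_cokernel
  apply isZero_of_stalks
  intro Ω _ _ ξ
  by_contra hnz
  have hx := mem_supp_of_stalk (Q (J.sup id)) ξ hnz
  obtain ⟨S, hS, hxS⟩ := Set.mem_iUnion₂.1 (hJ (Set.mem_univ (ξ default)))
  exact hmono S (J.sup id) (Finset.le_sup (f := id) hS) hxS hx

end Gen

end Groth.Agent.Helper6.ConsI
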