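import Mathlib
import Groth.Prelude.Def_EtBase
import Groth.Prelude.Def_PBC
import Groth.Agent.Helper6.ConsI
import Groth.Agent.Helper6.ConsG
import Groth.Agent.Helper6.ClPtD

set_option autoImplicit false
set_option linter.style.haveILetI false
set_option linter.unusedSectionVars false
set_option linter.unusedVariables false
set_option linter.unusedSimpArgs false

/-!
# Presentations of constructible sheaves by the sheaves `j_! ℤ/n`
-/

universe u

open CategoryTheory CategoryTheory.Limits AlgebraicGeometry Opposite Topology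

namespace Groth.Agent.Helper6.ConsJ

open Groth.Agent.Helper9.EtStalkExact Groth.Agent.Helper4.ConsSerre Groth.Agent.Helper4.SuppC
open Groth.Agent.Helper6.ConsD Groth.Agent.Helper6.ConsI Groth.Agent.Helper6.ClPtD

attribute [local instance] preservesFilteredColimits_forget_ab ab5_ab

variable {X : Scheme.{u}}

/-- the cyclic generator sheaf `j_{V!} ℤ/n` -/
noncomputable abbrev cyc (V : X.Etale) (n : ℕ) : EtCoh.Ab X := EtPBC.extZeroConst V (ZMod n)

/-- auxiliary: the homomorphism `ℤ → A` determined by an element killed by `n` -/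
noncomputable def cycAux (n : ℕ) {A : AddCommGrpCat.{u + 1}} (s : A) (hs : n • s = 0) :
    {f : ℤ →+ A // f n = 0} :=
  ⟨zmultiplesHom A s, by
    rw [zmultiplesHom_apply, natCast_zsmul]
    exact hs⟩

/-- the homomorphism `ℤ/n → A` determined by an element killed by `n` -/
noncomputable def cycHom (n : ℕ) {A : AddCommGrpCat.{u + 1}} (s : A) (hs : n • s = 0) :
    AddCommGrpCat.of (ULift.{u + 1} (ZMod n)) ⟶ A :=
  AddCommGrpCat.ofHom ((ZMod.lift n (cycAux n s hs)).comp AddEquiv.ulift.toAddMonoidHom)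

lemma cycHom_one (n : ℕ) {A : AddCommGrpCat.{u + 1}} (s : A) (hs : n • s = 0) :
    cycHom n s hs (ULift.up 1) = s := by
  show (ZMod.lift n (cycAux n s hs)) (1 : ZMod n) = s
  have : (1 : ZMod n) = ((1 : ℤ) : ZMod n) := by simp
  rw [this, ZMod.lift_coe]
  simp [cycAux]

/-- the universal section of `j_{V!} ℤ/n` over `V` -/
noncomputable def unitHom (V : X.Etale) (n : ℕ) :
    AddCommGrpCat.of (ULift.{u + 1} (ZMod n)) ⟶ (evalAt V).obj (cyc V n) :=
  Classical.choose (isFreeOn_extZeroConst V (ZMod n))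

theorem unitHom_spec (V : X.Etale) (n : ℕ) (F : EtCoh.Ab X)
    (φ : AddCommGrpCat.of (ULift.{u + 1} (ZMod n)) ⟶ (evalAt V).obj F) :
    ∃! a : cyc V n ⟶ F, unitHom V n ≫ (evalAt V).map a = φ :=
  Classical.choose_spec (isFreeOn_extZeroConst V (ZMod n)) F φ

theorem isFreeOn_cyc (V : X.Etale) (n : ℕ) :
    IsFreeOn (cyc V n) V (AddCommGrpCat.of (ULift.{u + 1} (ZMod n))) :=
  isFreeOn_extZeroConst V (ZMod n)

/-- the map `j_{V!} ℤ/n ⟶ K` determined by a section of `K` over `V` killed by `n` -/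
noncomputable def gen (V : X.Etale) (n : ℕ) (K : EtCoh.Ab X) (s : (evalAt V).obj K)
    (hs : n • s = 0) : cyc V n ⟶ K :=
  (unitHom_spec V n K (cycHom n s hs)).exists.choose

theorem gen_spec (V : X.Etale) (n : ℕ) (K : EtCoh.Ab X) (s : (evalAt V).obj K)
    (hs : n • s = 0) : unitHom V n ≫ (evalAt V).map (gen V n K s hs) = cycHom n s hs :=
  (unitHom_spec V n K (cycHom n s hs)).exists.choose_spec

theorem gen_apply (V : X.Etale) (n : ℕ) (K : EtCoh.Ab X) (s : (evalAt V).obj K)
    (hs : n • s = 0) : (evalAt V).map (gen V n K s hs) (unitHom V n (ULift.up 1)) = s := by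
  rw [← ConcreteCategory.comp_apply, gen_spec, cycHom_one]

instance (V : X.Etale) : (evalAt V).Additive where
  map_add := rfl

/-- `n` kills `j_{V!} ℤ/n` -/
theorem nsmul_id_cyc (V : X.Etale) (n : ℕ) : n • 𝟙 (cyc V n) = 0 := by
  obtain ⟨c, -, hc⟩ := unitHom_spec V n (cyc V n) 0
  have h0 : unitHom V n ≫ (evalAt V).map (0 : cyc V n ⟶ cyc V n) = 0 := by
    rw [Functor.map_zero, comp_zero]
  have hn : unitHom V n ≫ (evalAt V).map (n • 𝟙 (cyc V n)) = 0 := by
    rw [Functor.map_nsmul, CategoryTheory.Functor.map_id, Preadditive.comp_nsmul, Category.comp_id]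
    ext t
    show n • (unitHom V n) t = 0
    rw [← map_nsmul]
    have : n • t = 0 := by
      apply ULift.ext
      show n • t.down = 0
      simp
    rw [this, map_zero]
  rw [hc _ hn, hc _ h0]

section Stalk

variable {Ω : Type u} [Field Ω] [IsSepClosed Ω] (ξ : Spec (CommRingCat.of Ω) ⟶ X)

/-- every germ killed by `n` is the germ of a section killed by `n` over an affine étale
neighbourhood -/
theorem exists_affine_section (K : EtCoh.Ab X) (γ : ↑((EtCoh.stalk ξ).obj K)) (n : ℕ)
    (hγ : n • γ = 0) :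
    ∃ (V : X.Etale) (_ : IsAffine V.left) (l : (Scheme.pointSmallEtale ξ).fiber.obj V)
      (s : (evalAt V).obj K), n • s = 0 ∧
        (Scheme.pointSmallEtale ξ).toPresheafFiber V l K.obj s = γ := by
  obtain ⟨U, l, σ, rfl⟩ := (Scheme.pointSmallEtale ξ).toPresheafFiber_jointly_surjective
    (P := K.obj) γ
  have h0 : (Scheme.pointSmallEtale ξ).toPresheafFiber U l K.obj (n • σ) =
      (Scheme.pointSmallEtale ξ).toPresheafFiber U l K.obj 0 := by
    rw [map_zero]
    exact (map_nsmul ((Scheme.pointSmallEtale ξ).toPresheafFiber U l K.obj).hom n σ).trans hγ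
  obtain ⟨W, g, l₁, hl₁, hg⟩ :=
    ((Scheme.pointSmallEtale ξ).toPresheafFiber_eq_iff' U l (n • σ) 0).1 h0
  let lW : Spec (CommRingCat.of Ω) ⟶ W.left := l₁.left
  obtain ⟨V₀, hV₀, huV₀, -⟩ := (TopologicalSpace.Opens.isBasis_iff_nbhd.1
    (Scheme.isBasis_affineOpens W.left)) (show lW.base default ∈ (⊤ : W.left.Opens) from trivial)
  obtain ⟨l₂, hl₂, -⟩ := exists_lift_open ξ W V₀ l₁ huV₀
  refine ⟨openObj W V₀, hV₀, l₂, K.obj.map (openι W V₀ ≫ g).op σ, ?_, ?_⟩
  · rw [← map_nsmul]
    have : K.obj.map (openι W V₀ ≫ g).op (n • σ) =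
        K.obj.map (openι W V₀).op (K.obj.map g.op (n • σ)) := by
      rw [op_comp, Functor.map_comp]
      rfl
    rw [this, hg, map_zero, map_zero]
  · have e := (Scheme.pointSmallEtale ξ).toPresheafFiber_w_apply (openι W V₀ ≫ g) l₂ K.obj σ
    refine e.trans ?_
    have hl : (Scheme.pointSmallEtale ξ).fiber.map (openι W V₀ ≫ g) l₂ = l := by
      rw [Functor.map_comp]
      show (Scheme.pointSmallEtale ξ).fiber.map g ((Scheme.pointSmallEtale ξ).fiber.map _ l₂) = l
      rw [hl₂, hl₁]
    rw [hl]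

/-- a sheaf killed by `n` (as an object) has stalks killed by `n` -/
theorem nsmul_stalk_eq_zero (F : EtCoh.Ab X) (n : ℕ) (h : n • 𝟙 F = 0)
    (γ : ↑((EtCoh.stalk ξ).obj F)) : n • γ = 0 := by
  haveI : (EtCoh.stalk ξ).Additive := Functor.additive_of_preserves_binary_products _
  have h1 : (EtCoh.stalk ξ).map (n • 𝟙 F) = 0 := by rw [h, Functor.map_zero]
  rw [Functor.map_nsmul, CategoryTheory.Functor.map_id] at h1
  have h2 := ConcreteCategory.congr_hom h1 γ
  exact h2

end Stalk

/-- a sheaf all of whose sections are killed by `n` is killed by `n` -/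
theorem nsmul_id_eq_zero_of_killedBy (F : EtCoh.Ab X) (n : ℕ) (h : EtCoh.KilledBy n F) :
    n • 𝟙 F = 0 := by
  apply Sheaf.hom_ext
  ext U s
  exact h U.unop s

section Cat

variable {C : Type*} [Category C] [Abelian C]

/-- a presentation from two successive epimorphisms -/
theorem nonempty_iso_cokernel {P P' K : C} (p : P ⟶ K) [Epi p] (q : P' ⟶ kernel p) [Epi q] :
    Nonempty (K ≅ cokernel (q ≫ kernel.ι p)) := by
  have hcok : IsColimit (CokernelCofork.ofπ p (kernel.condition p)) :=
    Abelian.epiIsCokernelOfKernel _ (limit.isLimit (parallelPair p 0))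
  exact ⟨((colimit.isColimit (parallelPair (kernel.ι p) 0)).coconePointUniqueUpToIso hcok).symm ≪≫
    (cokernelEpiComp q (kernel.ι p)).symm⟩

end Cat

section Main

variable [CompactSpace X] [QuasiSeparatedSpace X]

theorem isConstructible_cyc (V : X.Etale) (hV : IsAffine V.left) (n : ℕ) (hn : 0 < n) :
    EtPBC.IsConstructible (cyc V n) := by
  haveI : NeZero n := ⟨hn.ne'⟩
  haveI := hV
  let j : V.left ⟶ X := V.hom
  exact ConsG.isConstructible_of_isFreeOn V (@quasiCompact_of_compactSpace V.left X j _ _)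
    (@QuasiSeparated.of_quasiSeparatedSpace V.left X j _) (ZMod n) _ (isFreeOn_cyc V n)

/-- generator data for a sheaf -/
structure Gen (K : EtCoh.Ab X) (ok : ℕ → Prop) where
  V : X.Etale
  aff : IsAffine V.left
  n : ℕ
  hok : ok n
  pos : 0 < n
  s : (evalAt V).obj K
  hs : n • s = 0

/-- a constructible sheaf whose germs have orders in a given set of positive integers is a quotient
of a finite sum of sheaves `j_{U!} ℤ/n` with `U` affine and `n` in the set -/
theorem exists_epi_cyc (K : EtCoh.Ab X) (hK : EtPBC.IsConstructible K) (ok : ℕ → Prop)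
    (hok : ∀ (x : X) (γ : ↑((EtCoh.stalk (geomPt x)).obj K)), ∃ n, ok n ∧ 0 < n ∧ n • γ = 0) :
    ∃ (b : ℕ) (U : Fin b → X.Etale) (m : Fin b → ℕ),
      (∀ i, ok (m i) ∧ 0 < m i ∧ IsAffine (U i).left) ∧
        ∃ p : (⨁ fun i => cyc (U i) (m i)) ⟶ K, Epi p := by
  obtain ⟨S, hS⟩ := exists_finset_epi K hK (ι := Gen K ok) (fun g => cyc g.V g.n)
    (fun g => isConstructible_cyc g.V g.aff g.n g.pos) (fun g => gen g.V g.n K g.s g.hs) (by
      intro x γ
      obtain ⟨n, hn1, hn2, hn3⟩ := hok x γ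
      obtain ⟨V, hV, l, s, hs, hγ⟩ := exists_affine_section (geomPt x) K γ n hn3
      refine ⟨⟨V, hV, n, hn1, hn2, s, hs⟩,
        (Scheme.pointSmallEtale (geomPt x)).toPresheafFiber V l (cyc V n).obj
          (unitHom V n (ULift.up 1)), ?_⟩
      refine ((Scheme.pointSmallEtale (geomPt x)).toPresheafFiber_naturality_apply
        (gen V n K s hs).hom V l (unitHom V n (ULift.up 1))).trans ?_
      rw [← hγ]
      congr 1
      exact gen_apply V n K s hs)
  let e : ↥S ≃ Fin S.card := S.equivFin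
  refine ⟨S.card, fun j => (e.symm j).1.V, fun j => (e.symm j).1.n,
    fun j => ⟨(e.symm j).1.hok, (e.symm j).1.pos, (e.symm j).1.aff⟩, ?_⟩
  let iso : (⨁ fun j : Fin S.card => cyc (e.symm j).1.V (e.symm j).1.n) ≅
      ⨁ fun i : S => cyc i.1.V i.1.n :=
    biproduct.whiskerEquiv (f := fun j : Fin S.card => cyc (e.symm j).1.V (e.symm j).1.n)
      (g := fun i : S => cyc i.1.V i.1.n) e.symm (fun j => Iso.refl _)
  haveI := hS
  exact ⟨iso.hom ≫ biproduct.desc (fun i : S => gen i.1.V i.1.n K i.1.s i.1.hs), epi_comp _ _⟩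

end Main

end Groth.Agent.Helper6.ConsJ
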