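import Mathlib
import Groth.Prelude.Def_EtBase
import Groth.Prelude.Def_PBC
import Groth.Agent.Helper6.ConsJ

set_option autoImplicit false
set_option linter.style.haveILetI false
set_option linter.unusedSectionVars false
set_option linter.unusedVariables false
set_option linter.unusedSimpArgs false

/-!
# Presentations of constructible sheaves by the sheaves `j_! ℤ/n`: the main statements
-/

universe u

open CategoryTheory CategoryTheory.Limits AlgebraicGeometry Opposite Topology

namespace Groth.Agent.Helper6.ConsK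

open Groth.Agent.Helper9.EtStalkExact Groth.Agent.Helper4.ConsSerre Groth.Agent.Helper4.SuppC
open Groth.Agent.Helper6.ConsD Groth.Agent.Helper6.ConsI Groth.Agent.Helper6.ConsJ

attribute [local instance] preservesFilteredColimits_forget_ab ab5_ab

variable {X : Scheme.{u}}

theorem nsmul_id_biproduct {b : ℕ} (U : Fin b → X.Etale) (n : ℕ) :
    n • 𝟙 (⨁ fun i => cyc (U i) n) = 0 := by
  apply biproduct.hom_ext'
  intro i
  rw [Preadditive.comp_nsmul, Category.comp_id, comp_zero,
    ← Category.id_comp (biproduct.ι (fun i => cyc (U i) n) i), ← Preadditive.nsmul_comp,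
    nsmul_id_cyc, zero_comp]

theorem nsmul_id_kernel {P K : EtCoh.Ab X} (p : P ⟶ K) (n : ℕ) (h : n • 𝟙 P = 0) :
    n • 𝟙 (kernel p) = 0 := by
  rw [← cancel_mono (kernel.ι p), Preadditive.nsmul_comp, Category.id_comp, zero_comp,
    ← Category.comp_id (kernel.ι p), ← Preadditive.comp_nsmul, h, comp_zero]

variable [CompactSpace X] [QuasiSeparatedSpace X]

/-- some constructible sheaf exists -/
theorem isConstructible_cyc_top : EtPBC.IsConstructible (cyc (EtCoh.top X) 1) := by
  haveI : NeZero 1 := ⟨one_ne_zero⟩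
  let j : (EtCoh.top X).left ⟶ X := (EtCoh.top X).hom
  haveI : CompactSpace (EtCoh.top X).left := ‹CompactSpace X›
  haveI : QuasiSeparatedSpace (EtCoh.top X).left := ‹QuasiSeparatedSpace X›
  exact ConsG.isConstructible_of_isFreeOn (EtCoh.top X)
    (@quasiCompact_of_compactSpace (EtCoh.top X).left X j _ _)
    (@QuasiSeparated.of_quasiSeparatedSpace (EtCoh.top X).left X j _)
    (ZMod 1) _ (isFreeOn_cyc _ 1)

theorem isConstructible_biproduct_cyc {b : ℕ} (U : Fin b → X.Etale) (m : Fin b → ℕ)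
    (h : ∀ i, 0 < m i ∧ IsAffine (U i).left) :
    EtPBC.IsConstructible (⨁ fun i => cyc (U i) (m i)) :=
  isConstructible_biproduct isConstructible_cyc_top _ _
    (fun i => isConstructible_cyc _ (h i).2 _ (h i).1)

/-- presentation of a constructible sheaf killed by `n` -/
theorem exists_presentation_killed (n : ℕ) (hn : 0 < n) (F : EtCoh.Ab X)
    (hF : EtPBC.IsConstructible F) (hFn : n • 𝟙 F = 0) :
    ∃ (a b : ℕ) (V : Fin a → X.Etale) (U : Fin b → X.Etale) (_ : ∀ j, IsAffine (V j).left)
      (_ : ∀ i, IsAffine (U i).left)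
      (φ : (⨁ fun j => cyc (V j) n) ⟶ ⨁ fun i => cyc (U i) n), Nonempty (F ≅ cokernel φ) := by
  obtain ⟨b, U, m, hm, p, hp⟩ := exists_epi_cyc F hF (fun k => k = n)
    (fun x γ => ⟨n, rfl, hn, nsmul_stalk_eq_zero _ F n hFn γ⟩)
  have hm' : m = fun _ => n := funext fun i => (hm i).1
  subst hm'
  have hP : EtPBC.IsConstructible (⨁ fun i => cyc (U i) n) :=
    isConstructible_biproduct_cyc U _ (fun i => ⟨hn, (hm i).2.2⟩)
  have hN : EtPBC.IsConstructible (kernel p) := isConstructible_kernel p hP hF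
  have hNn : n • 𝟙 (kernel p) = 0 := nsmul_id_kernel p n (nsmul_id_biproduct U n)
  obtain ⟨a, V, m', hm', q, hq⟩ := exists_epi_cyc (kernel p) hN (fun k => k = n)
    (fun x γ => ⟨n, rfl, hn, nsmul_stalk_eq_zero _ _ n hNn γ⟩)
  have hm'' : m' = fun _ => n := funext fun i => (hm' i).1
  subst hm''
  exact ⟨a, b, V, U, fun j => (hm' j).2.2, fun i => (hm i).2.2, q ≫ kernel.ι p,
    nonempty_iso_cokernel p q⟩

theorem exists_order (K : EtCoh.Ab X) (hK : EtPBC.IsConstructible K) (x : X)
    (γ : ↑((EtCoh.stalk (geomPt x)).obj K)) : ∃ n, True ∧ 0 < n ∧ n • γ = 0 := by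
  haveI : Finite ↑((EtCoh.stalk (geomPt x)).obj K) :=
    Groth.Agent.Helper6.ConsH.finite_stalk_of_isConstructible K hK (geomPt x)
  exact ⟨Nat.card ↑((EtCoh.stalk (geomPt x)).obj K), trivial, Nat.card_pos, card_nsmul_eq_zero'⟩

/-- presentation of a constructible sheaf -/
theorem exists_presentation (F : EtCoh.Ab X) (hF : EtPBC.IsConstructible F) :
    ∃ (a b : ℕ) (U : Fin a → X.Etale) (V : Fin b → X.Etale) (n : Fin a → ℕ) (m : Fin b → ℕ),
      (∀ i, 0 < n i ∧ IsAffine (U i).left) ∧ (∀ j, 0 < m j ∧ IsAffine (V j).left) ∧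
      ∃ φ : (⨁ fun j => cyc (V j) (m j)) ⟶ (⨁ fun i => cyc (U i) (n i)),
        Nonempty (F ≅ cokernel φ) := by
  obtain ⟨a, U, n, hn, p, hp⟩ := exists_epi_cyc F hF (fun _ => True) (exists_order F hF)
  have hP : EtPBC.IsConstructible (⨁ fun i => cyc (U i) (n i)) :=
    isConstructible_biproduct_cyc U n (fun i => (hn i).2)
  have hN : EtPBC.IsConstructible (kernel p) := isConstructible_kernel p hP hF
  obtain ⟨b, V, m, hm, q, hq⟩ := exists_epi_cyc (kernel p) hN (fun _ => True)
    (exists_order _ hN)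
  exact ⟨a, b, U, V, n, m, fun i => (hn i).2, fun j => (hm j).2, q ≫ kernel.ι p,
    nonempty_iso_cokernel p q⟩

/-- the converse: a sheaf with such a presentation is constructible -/
theorem isConstructible_of_presentation (F : EtCoh.Ab X) {a b : ℕ} (U : Fin a → X.Etale)
    (V : Fin b → X.Etale) (n : Fin a → ℕ) (m : Fin b → ℕ)
    (hn : ∀ i, 0 < n i ∧ IsAffine (U i).left) (hm : ∀ j, 0 < m j ∧ IsAffine (V j).left)
    (φ : (⨁ fun j => cyc (V j) (m j)) ⟶ (⨁ fun i => cyc (U i) (n i)))
    (e : F ≅ cokernel φ) : EtPBC.IsConstructible F :=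
  isConstructible_of_iso e.symm (isConstructible_cokernel φ
    (isConstructible_biproduct_cyc V m hm) (isConstructible_biproduct_cyc U n hn))

end Groth.Agent.Helper6.ConsK
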