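import Mathlib
import Groth.Prelude.Def_EtBase
import Groth.Prelude.Def_PBC
import Groth.Prelude.Def_EtShriek2
import Groth.Agent.Helper6.ConsK
import Groth.Agent.Helper4.StrataF
import Groth.Agent.Helper9.EtRetr

set_option autoImplicit false
set_option linter.style.haveILetI false
set_option linter.unusedSectionVars false
set_option linter.unusedVariables false
set_option linter.unusedSimpArgs false

/-!
# Extension by zero along an étale morphism preserves constructibility
-/

universe u

open CategoryTheory CategoryTheory.Limits AlgebraicGeometry Opposite Topology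

namespace Groth.Agent.Helper6.ConsL

open Groth.Agent.Helper4.ConsSerre Groth.Agent.Helper4.SuppC
open Groth.Agent.Helper6.ConsD Groth.Agent.Helper6.ConsI Groth.Agent.Helper6.ConsJ
  Groth.Agent.Helper6.ConsK

variable {U X : Scheme.{u}}

/-- a finite locally constant sheaf on a qcqs scheme is constructible -/
theorem isConstructible_of_flc [CompactSpace U] [QuasiSeparatedSpace U] (F : EtCoh.Ab U)
    (hF : EtCoh.IsFiniteLocallyConstant F) : EtPBC.IsConstructible F := by
  apply Groth.Agent.Helper4.StrataF.isConstructible_of_strat_univ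
  refine Groth.Agent.Helper4.StrataE.strat_of_cover F (A := Unit) (fun _ => U) (fun _ => 𝟙 U)
    (fun _ => ?_) ?_ (fun _ => ?_)
  · have : Set.range (𝟙 U : U ⟶ U) = Set.univ := by
      ext x
      simp
    rw [this]
    exact IsConstructible.univ
  · apply Set.eq_univ_of_forall
    intro x
    exact Set.mem_iUnion.2 ⟨(), x, rfl⟩
  · exact Groth.Agent.Helper4.FlcPull.flc_of_iso
      ((Groth.Agent.Helper9.EtRetr.pullId U).app F).symm hF

section Shriek

variable (f : U ⟶ X) [Etale f] [EtShriek.JCont f]

/-- `f_!` of a free sheaf is free -/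
theorem isFreeOn_extZero {E : EtCoh.Ab U} {V : U.Etale} {A : AddCommGrpCat.{u + 1}}
    (h : IsFreeOn E V A) :
    IsFreeOn ((EtShriek.extZero f).obj E) ((EtShriek.compEtale f).obj V) A := by
  obtain ⟨e, he⟩ := h
  let adj := EtShriek.extZeroAdj f
  refine ⟨e ≫ (evalAt V).map (adj.unit.app E), fun H φ => ?_⟩
  obtain ⟨a₀, ha₀, hu⟩ := he ((EtShriek.restrAlong f).obj H) φ
  have key : ∀ a : (EtShriek.extZero f).obj E ⟶ H,
      (e ≫ (evalAt V).map (adj.unit.app E)) ≫ (evalAt ((EtShriek.compEtale f).obj V)).map a =
        e ≫ (evalAt V).map (adj.homEquiv E H a) := by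
    intro a
    have h1 : adj.homEquiv E H a = adj.unit.app E ≫ (EtShriek.restrAlong f).map a :=
      Adjunction.homEquiv_unit _ _ _ _
    rw [h1, Functor.map_comp, Category.assoc]
    rfl
  refine ⟨(adj.homEquiv E H).symm a₀, ?_, ?_⟩
  · show (e ≫ (evalAt V).map (adj.unit.app E)) ≫
      (evalAt ((EtShriek.compEtale f).obj V)).map _ = φ
    rw [key, Equiv.apply_symm_apply]
    exact ha₀
  · intro a ha
    have ha' : (e ≫ (evalAt V).map (adj.unit.app E)) ≫
        (evalAt ((EtShriek.compEtale f).obj V)).map a = φ := ha
    rw [key] at ha'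
    rw [← hu _ ha', Equiv.symm_apply_apply]

variable [CompactSpace X] [QuasiSeparatedSpace X]

theorem isConstructible_extZero_cyc (V : U.Etale) (hV : IsAffine V.left) (n : ℕ) (hn : 0 < n) :
    EtPBC.IsConstructible ((EtShriek.extZero f).obj (cyc V n)) := by
  haveI : NeZero n := ⟨hn.ne'⟩
  haveI : IsAffine ((EtShriek.compEtale f).obj V).left := hV
  let j : ((EtShriek.compEtale f).obj V).left ⟶ X := ((EtShriek.compEtale f).obj V).hom
  exact ConsG.isConstructible_of_isFreeOn ((EtShriek.compEtale f).obj V)
    (@quasiCompact_of_compactSpace _ X j _ _)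
    (@QuasiSeparated.of_quasiSeparatedSpace _ X j _) (ZMod n) _
    (isFreeOn_extZero f (isFreeOn_cyc V n))

instance : (EtShriek.extZero f).IsLeftAdjoint := (EtShriek.extZeroAdj f).isLeftAdjoint

theorem isConstructible_extZero_biproduct {b : ℕ} (V : Fin b → U.Etale) (m : Fin b → ℕ)
    (h : ∀ i, 0 < m i ∧ IsAffine (V i).left) :
    EtPBC.IsConstructible ((EtShriek.extZero f).obj (⨁ fun i => cyc (V i) (m i))) := by
  haveI : (EtShriek.extZero f).Additive := (EtShriek.extZeroAdj f).left_adjoint_additive
  haveI : PreservesBiproductsOfShape (Fin b) (EtShriek.extZero f) :=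
    preservesBiproductsOfShape_of_preservesCoproductsOfShape _
  exact isConstructible_of_iso ((EtShriek.extZero f).mapBiproduct _).symm
    (isConstructible_biproduct isConstructible_cyc_top _ _
      (fun i => isConstructible_extZero_cyc f _ (h i).2 _ (h i).1))

/-- **Extension by zero of a constructible sheaf** along an étale morphism of qcqs schemes is
constructible -/
theorem isConstructible_extZero [CompactSpace U] [QuasiSeparatedSpace U] (F : EtCoh.Ab U)
    (hF : EtPBC.IsConstructible F) : EtPBC.IsConstructible ((EtShriek.extZero f).obj F) := by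
  obtain ⟨a, b, W, V, n, m, hn, hm, φ, ⟨e⟩⟩ := exists_presentation F hF
  have h1 := isConstructible_cokernel ((EtShriek.extZero f).map φ)
    (isConstructible_extZero_biproduct f V m hm) (isConstructible_extZero_biproduct f W n hn)
  exact isConstructible_of_iso
    ((EtShriek.extZero f).mapIso e ≪≫ PreservesCokernel.iso (EtShriek.extZero f) φ).symm h1

end Shriek

end Groth.Agent.Helper6.ConsL
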