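import Mathlib
import Groth.Agent.Helper6.FiltShf

set_option autoImplicit false
set_option linter.style.haveILetI false
set_option linter.unusedSectionVars false
set_option linter.unusedVariables false
set_option linter.unusedSimpArgs false

/-!
# Compact objects with respect to filtered colimits of a given shape: closure properties
-/

open CategoryTheory CategoryTheory.Limits Opposite

namespace Groth.Agent.Helper6.CptObj

variable {𝒜 : Type*} [Category 𝒜] (Λ : Type*) [Category Λ]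

/-- `Hom(E, -)` commutes with `Λ`-shaped colimits, in elementary terms -/
def IsCpt (E : 𝒜) : Prop :=
  ∀ (D : Λ ⥤ 𝒜) (c : Cocone D), IsColimit c →
    (∀ a : E ⟶ c.pt, ∃ (l : Λ) (b : E ⟶ D.obj l), b ≫ c.ι.app l = a) ∧
    (∀ (l : Λ) (b b' : E ⟶ D.obj l), b ≫ c.ι.app l = b' ≫ c.ι.app l →
      ∃ (m : Λ) (f : l ⟶ m), b ≫ D.map f = b' ≫ D.map f)

variable {Λ}

theorem preserves_of_isCpt [IsFiltered Λ] {E : 𝒜} (h : IsCpt Λ E) :
    PreservesColimitsOfShape Λ (coyoneda.obj (op E)) := by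
  constructor
  intro D
  constructor
  intro c hc
  constructor
  refine Types.FilteredColimit.isColimitOf' _ _ ?_ ?_
  · intro a
    obtain ⟨l, b, hb⟩ := (h D c hc).1 a
    exact ⟨l, b, hb.symm⟩
  · intro l b b' hbb'
    exact (h D c hc).2 l b b' hbb'

theorem isCpt_of_iso {E E' : 𝒜} (e : E ≅ E') (h : IsCpt Λ E) : IsCpt Λ E' := by
  intro D c hc
  obtain ⟨h1, h2⟩ := h D c hc
  constructor
  · intro a
    obtain ⟨l, b, hb⟩ := h1 (e.hom ≫ a)
    exact ⟨l, e.inv ≫ b, by rw [Category.assoc, hb, Iso.inv_hom_id_assoc]⟩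
  · intro l b b' hbb'
    obtain ⟨m, f, hf⟩ := h2 l (e.hom ≫ b) (e.hom ≫ b') (by
      rw [Category.assoc, Category.assoc, hbb'])
    refine ⟨m, f, ?_⟩
    rw [Category.assoc, Category.assoc] at hf
    exact (cancel_epi e.hom).1 hf

theorem isCpt_biproduct [Preadditive 𝒜] [IsFiltered Λ] {ι : Type*} [Finite ι] (f : ι → 𝒜)
    [HasBiproduct f] (h : ∀ i, IsCpt Λ (f i)) : IsCpt Λ (⨁ f) := by
  intro D c hc
  constructor
  · intro a
    choose l b hb using fun i => ((h i) D c hc).1 (biproduct.ι f i ≫ a)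
    obtain ⟨l₀, hl₀⟩ := Groth.Agent.Helper6.FiltShf.exists_above l
    let g : ∀ i, l i ⟶ l₀ := fun i => (hl₀ i).some
    refine ⟨l₀, biproduct.desc (fun i => b i ≫ D.map (g i)), ?_⟩
    apply biproduct.hom_ext'
    intro i
    rw [biproduct.ι_desc_assoc, Category.assoc, c.w, hb]
  · intro l b b' hbb'
    have key : ∀ i, ∃ (m : Λ) (u : l ⟶ m),
        (biproduct.ι f i ≫ b) ≫ D.map u = (biproduct.ι f i ≫ b') ≫ D.map u := by
      intro i
      apply ((h i) D c hc).2
      rw [Category.assoc, Category.assoc, hbb']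
    choose m u hu using key
    obtain ⟨m₀, w, v, hv⟩ := Groth.Agent.Helper6.FiltShf.exists_wide' l m u
    refine ⟨m₀, w, ?_⟩
    apply biproduct.hom_ext'
    intro i
    rw [← hv i, D.map_comp, ← Category.assoc, ← Category.assoc, ← Category.assoc,
      ← Category.assoc, hu i]

theorem isCpt_cokernel [Abelian 𝒜] [IsFiltered Λ] {P' P : 𝒜} (φ : P' ⟶ P) (h' : IsCpt Λ P')
    (h : IsCpt Λ P) : IsCpt Λ (cokernel φ) := by
  intro D c hc
  constructor
  · intro a
    obtain ⟨l, b, hb⟩ := (h D c hc).1 (cokernel.π φ ≫ a)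
    obtain ⟨m, u, hu⟩ := (h' D c hc).2 l (φ ≫ b) 0 (by
      rw [Category.assoc, hb, cokernel.condition_assoc, zero_comp, zero_comp])
    rw [zero_comp, Category.assoc] at hu
    refine ⟨m, cokernel.desc φ (b ≫ D.map u) hu, ?_⟩
    rw [← cancel_epi (cokernel.π φ), cokernel.π_desc_assoc, Category.assoc, c.w, hb]
  · intro l b b' hbb'
    obtain ⟨m, u, hu⟩ := (h D c hc).2 l (cokernel.π φ ≫ b) (cokernel.π φ ≫ b') (by
      rw [Category.assoc, Category.assoc, hbb'])
    refine ⟨m, u, ?_⟩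
    rw [Category.assoc, Category.assoc] at hu
    exact (cancel_epi (cokernel.π φ)).1 hu

theorem isCpt_of_equivalence {Λ' : Type*} [Category Λ'] (e : Λ ≌ Λ') {E : 𝒜} (h : IsCpt Λ' E) :
    IsCpt Λ E := by
  intro D c hc
  obtain ⟨h1, h2⟩ := h (e.inverse ⋙ D) (c.whisker e.inverse) (hc.whiskerEquivalence e.symm)
  constructor
  · intro a
    obtain ⟨l', b, hb⟩ := h1 a
    exact ⟨e.inverse.obj l', b, hb⟩
  · intro l b b' hbb'
    obtain ⟨m', f', hf'⟩ := h2 (e.functor.obj l) (b ≫ D.map (e.unit.app l))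
      (b' ≫ D.map (e.unit.app l)) (by
        show (b ≫ D.map (e.unit.app l)) ≫ c.ι.app _ = (b' ≫ D.map (e.unit.app l)) ≫ c.ι.app _
        rw [Category.assoc, Category.assoc, c.w, hbb'])
    refine ⟨e.inverse.obj m', e.unit.app l ≫ e.inverse.map f', ?_⟩
    rw [D.map_comp, ← Category.assoc, ← Category.assoc]
    exact hf'

/-- a filtered system of compact objects with compact colimit is essentially constant -/
theorem essentially_constant [IsFiltered Λ] (D : Λ ⥤ 𝒜) (c : Cocone D) (hc : IsColimit c)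
    (hD : ∀ j, IsCpt Λ (D.obj j)) (hF : IsCpt Λ c.pt) :
    ∃ (i : Λ) (s : c.pt ⟶ D.obj i), s ≫ c.ι.app i = 𝟙 c.pt ∧
      ∀ j : Λ, ∃ (k : Λ) (a : i ⟶ k) (b : j ⟶ k), D.map b = c.ι.app j ≫ s ≫ D.map a := by
  obtain ⟨i, s, hs⟩ := (hF D c hc).1 (𝟙 c.pt)
  refine ⟨i, s, hs, fun j => ?_⟩
  let k₀ := IsFiltered.max i j
  let a₀ : i ⟶ k₀ := IsFiltered.leftToMax i j
  let b₀ : j ⟶ k₀ := IsFiltered.rightToMax i j
  obtain ⟨k, f, hf⟩ := ((hD j) D c hc).2 k₀ (D.map b₀) (c.ι.app j ≫ s ≫ D.map a₀) (by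
    rw [c.w, Category.assoc, Category.assoc, c.w, hs]
    exact (Category.comp_id _).symm)
  refine ⟨k, a₀ ≫ f, b₀ ≫ f, ?_⟩
  rw [D.map_comp, hf, D.map_comp, Category.assoc, Category.assoc]

end Groth.Agent.Helper6.CptObj
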