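import Mathlib
import Groth.Prelude.Def_EtBase
import Groth.Prelude.Def_PBC
import Groth.Agent.Helper6.ConsK
import Groth.Agent.Helper6.CptObj
import Groth.Agent.Helper4.SecQC
import Groth.Agent.Helper4.EtGeom

set_option autoImplicit false
set_option linter.style.haveILetI false
set_option linter.unusedSectionVars false
set_option linter.unusedVariables false
set_option linter.unusedSimpArgs false

/-!
# Constructible sheaves on a qcqs scheme are compact objects
-/

universe u

open CategoryTheory CategoryTheory.Limits AlgebraicGeometry Opposite Topology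

namespace Groth.Agent.Helper6.ConsM

open Groth.Agent.Helper6.ConsD Groth.Agent.Helper6.ConsI Groth.Agent.Helper6.ConsJ
  Groth.Agent.Helper6.ConsK Groth.Agent.Helper6.CptObj Groth.Agent.Helper4.SecQC

variable {X : Scheme.{u}}

lemma zmod_hom_ext {n : ℕ} {B : Type*} [AddCommGroup B] (ψ ψ' : ZMod n →+ B) (h : ψ 1 = ψ' 1) :
    ψ = ψ' := by
  apply (ZMod.lift n).symm.injective
  apply Subtype.ext
  apply AddMonoidHom.ext_int
  show ψ ((1 : ℤ) : ZMod n) = ψ' ((1 : ℤ) : ZMod n)
  rw [Int.cast_one]
  exact h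

/-- maps out of `j_{V!} ℤ/n` are determined by the image of the unit section -/
theorem cyc_hom_ext (V : X.Etale) (n : ℕ) {G : EtCoh.Ab X} (a a' : cyc V n ⟶ G)
    (h : (evalAt V).map a (unitHom V n (ULift.up 1)) =
      (evalAt V).map a' (unitHom V n (ULift.up 1))) : a = a' := by
  obtain ⟨c, -, hc⟩ := unitHom_spec V n G (unitHom V n ≫ (evalAt V).map a')
  have h1 : unitHom V n ≫ (evalAt V).map a = unitHom V n ≫ (evalAt V).map a' := by
    ext t
    let ε : ZMod n →+ ULift.{u + 1} (ZMod n) :=
      (AddEquiv.ulift.{0, u + 1} (α := ZMod n)).symm.toAddMonoidHom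
    have h2 := zmod_hom_ext
      ((unitHom V n ≫ (evalAt V).map a).hom.comp ε)
      ((unitHom V n ≫ (evalAt V).map a').hom.comp ε) h
    exact DFunLike.congr_fun h2 t.down
  rw [hc a h1, hc a' rfl]

theorem nsmul_unit (V : X.Etale) (n : ℕ) : n • (unitHom V n (ULift.up 1)) = 0 := by
  rw [← map_nsmul]
  have : n • (ULift.up (1 : ZMod n)) = 0 := by
    apply ULift.ext
    show n • (1 : ZMod n) = 0
    simp
  rw [this, map_zero]

/-- `j_{V!} ℤ/n` is a compact object for `V` quasi-compact and quasi-separated -/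
theorem isCpt_cyc (Λ : Type (u + 1)) [SmallCategory Λ] [IsFiltered Λ] (V : X.Etale)
    [CompactSpace V.left] [QuasiSeparatedSpace V.left] (n : ℕ) : IsCpt Λ (cyc V n) := by
  intro D c hc
  have hqc2 := Groth.Agent.Helper4.EtGeom.qc2 V
  constructor
  · intro a
    obtain ⟨l, y, hy⟩ := surj_QC2 D hc hqc2 ((evalAt V).map a (unitHom V n (ULift.up 1)))
    have hns : n • ((evalAt V).map a (unitHom V n (ULift.up 1))) = 0 := by
      rw [← map_nsmul, nsmul_unit, map_zero]
    obtain ⟨m, f, hf⟩ := inj_QC1 D hc hqc2.qc1 (n • y) 0 (by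
      rw [map_nsmul, hy, hns, map_zero])
    have hy' : n • ((D.map f).hom.app (op V) y) = 0 := by
      rw [← map_nsmul, hf, map_zero]
    refine ⟨m, gen V n (D.obj m) _ hy', ?_⟩
    apply cyc_hom_ext
    rw [Functor.map_comp, ConcreteCategory.comp_apply, gen_apply]
    refine Eq.trans ?_ hy
    exact ιh_w D c f V y
  · intro l b b' hbb'
    obtain ⟨m, f, hf⟩ := inj_QC1 D hc hqc2.qc1
      ((evalAt V).map b (unitHom V n (ULift.up 1))) ((evalAt V).map b' (unitHom V n (ULift.up 1)))
      (by
        have := congrArg (fun t => (evalAt V).map t (unitHom V n (ULift.up 1))) hbb'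
        simp only [Functor.map_comp, ConcreteCategory.comp_apply] at this
        exact this)
    refine ⟨m, f, ?_⟩
    apply cyc_hom_ext
    rw [Functor.map_comp, Functor.map_comp, ConcreteCategory.comp_apply,
      ConcreteCategory.comp_apply]
    exact hf

variable [CompactSpace X] [QuasiSeparatedSpace X]

/-- constructible sheaves on a qcqs scheme are compact objects -/
theorem isCpt_of_isConstructible (Λ : Type (u + 1)) [SmallCategory Λ] [IsFiltered Λ]
    (F : EtCoh.Ab X) (hF : EtPBC.IsConstructible F) : IsCpt Λ F := by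
  obtain ⟨a, b, U, V, n, m, hn, hm, φ, ⟨e⟩⟩ := exists_presentation F hF
  have key : ∀ {b : ℕ} (V : Fin b → X.Etale) (m : Fin b → ℕ)
      (hm : ∀ j, 0 < m j ∧ IsAffine (V j).left), IsCpt Λ (⨁ fun j => cyc (V j) (m j)) := by
    intro b V m hm
    apply isCpt_biproduct
    intro j
    haveI := (hm j).2
    haveI : QuasiSeparatedSpace (V j).left := inferInstance
    exact isCpt_cyc Λ (V j) (m j)
  exact isCpt_of_iso e.symm (isCpt_cokernel φ (key V m hm) (key U n hn))

end Groth.Agent.Helper6.ConsM
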