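import Mathlib
import Groth.Prelude.Def_EtBase
import Groth.Prelude.Def_PBC
import Groth.Agent.Helper6.ConsK

set_option autoImplicit false
set_option linter.style.haveILetI false
set_option linter.unusedSectionVars false
set_option linter.unusedVariables false
set_option linter.unusedSimpArgs false

/-!
# Torsion sheaves on a qcqs scheme are filtered colimits of constructible sheaves
-/

universe u

open CategoryTheory CategoryTheory.Limits AlgebraicGeometry Opposite Topology

namespace Groth.Agent.Helper6.ConsN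

open Groth.Agent.Helper9.EtStalkExact Groth.Agent.Helper4.ConsSerre Groth.Agent.Helper4.SuppC
open Groth.Agent.Helper6.ConsD Groth.Agent.Helper6.ConsI Groth.Agent.Helper6.ConsJ
  Groth.Agent.Helper6.ConsK

attribute [local instance] preservesFilteredColimits_forget_ab ab5_ab

variable {X : Scheme.{u}}

/-- presentation data -/
structure Pres (X : Scheme.{u}) where
  a : ℕ
  b : ℕ
  U : Fin a → X.Etale
  V : Fin b → X.Etale
  n : Fin a → ℕ
  m : Fin b → ℕ
  hn : ∀ i, 0 < n i ∧ IsAffine (U i).left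
  hm : ∀ j, 0 < m j ∧ IsAffine (V j).left
  φ : (⨁ fun j => cyc (V j) (m j)) ⟶ (⨁ fun i => cyc (U i) (n i))

/-- the sheaf presented -/
noncomputable def Pres.sheaf (p : Pres X) : EtCoh.Ab X := cokernel p.φ

/-- objects of the index category: a presentation with a map to `F` -/
structure Obj (F : EtCoh.Ab X) where
  p : Pres X
  hom : p.sheaf ⟶ F

variable (F : EtCoh.Ab X)

noncomputable instance : Category (Obj F) where
  Hom o o' := {f : o.p.sheaf ⟶ o'.p.sheaf // f ≫ o'.hom = o.hom}
  id o := ⟨𝟙 _, Category.id_comp _⟩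
  comp f g := ⟨f.1 ≫ g.1, by rw [Category.assoc, g.2, f.2]⟩

/-- the diagram -/
noncomputable abbrev diag : Obj F ⥤ EtCoh.Ab X where
  obj o := o.p.sheaf
  map f := f.1

/-- the cocone over `F` -/
noncomputable def cocone : Cocone (diag F) where
  pt := F
  ι := { app := fun o => o.hom
         naturality := fun o o' f => by
          show f.1 ≫ o'.hom = o.hom ≫ 𝟙 F
          rw [f.2, Category.comp_id] }

section QCQS

variable [CompactSpace X] [QuasiSeparatedSpace X]

theorem Pres.isConstructible (p : Pres X) : EtPBC.IsConstructible p.sheaf :=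
  isConstructible_of_presentation p.sheaf p.U p.V p.n p.m p.hn p.hm p.φ (Iso.refl _)

theorem exists_obj (G : EtCoh.Ab X) (hG : EtPBC.IsConstructible G) (q : G ⟶ F) :
    ∃ (o : Obj F) (e : G ≅ o.p.sheaf), e.hom ≫ o.hom = q := by
  obtain ⟨a, b, U, V, n, m, hn, hm, φ, ⟨e⟩⟩ := exists_presentation G hG
  exact ⟨⟨⟨a, b, U, V, n, m, hn, hm, φ⟩, e.inv ≫ q⟩, e, by simp⟩

instance : IsFiltered (Obj F) := by
  haveI : Nonempty (Obj F) := by
    obtain ⟨o, -, -⟩ := exists_obj F _ isConstructible_cyc_top (0 : cyc (EtCoh.top X) 1 ⟶ F)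
    exact ⟨o⟩
  haveI : IsFilteredOrEmpty (Obj F) := by
    constructor
    · intro o₁ o₂
      have hG : EtPBC.IsConstructible (o₁.p.sheaf ⊞ o₂.p.sheaf) :=
        isConstructible_of_shortExact _
          (ShortComplex.Splitting.ofHasBinaryBiproduct o₁.p.sheaf o₂.p.sheaf).shortExact
          o₁.p.isConstructible o₂.p.isConstructible
      obtain ⟨o, e, he⟩ := exists_obj F _ hG (biprod.desc o₁.hom o₂.hom)
      refine ⟨o, ⟨biprod.inl ≫ e.hom, ?_⟩, ⟨biprod.inr ≫ e.hom, ?_⟩, trivial⟩
      · rw [Category.assoc, he, biprod.inl_desc]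
      · rw [Category.assoc, he, biprod.inr_desc]
    · intro o₁ o₂ f g
      have hG : EtPBC.IsConstructible (cokernel (f.1 - g.1)) :=
        isConstructible_cokernel _ o₁.p.isConstructible o₂.p.isConstructible
      obtain ⟨o, e, he⟩ := exists_obj F _ hG (cokernel.desc (f.1 - g.1) o₂.hom (by
        rw [Preadditive.sub_comp, f.2, g.2, sub_self]))
      refine ⟨o, ⟨cokernel.π _ ≫ e.hom, ?_⟩, ?_⟩
      · rw [Category.assoc, he, cokernel.π_desc]
      · apply Subtype.ext
        show f.1 ≫ cokernel.π _ ≫ e.hom = g.1 ≫ cokernel.π _ ≫ e.hom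
        rw [← sub_eq_zero, ← Preadditive.sub_comp, cokernel.condition_assoc, zero_comp]
  exact {}

end QCQS

section Stalk

variable {Ω : Type u} [Field Ω] [IsSepClosed Ω] (ξ : Spec (CommRingCat.of Ω) ⟶ X)

/-- germs of torsion sheaves are torsion -/
theorem exists_nsmul_eq_zero_of_isTorsion (hF : EtCoh.IsTorsion F)
    (γ : ↑((EtCoh.stalk ξ).obj F)) : ∃ n, 0 < n ∧ n • γ = 0 := by
  obtain ⟨U, l, σ, rfl⟩ := (Scheme.pointSmallEtale ξ).toPresheafFiber_jointly_surjective
    (P := F.obj) γ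
  let lU : Spec (CommRingCat.of Ω) ⟶ U.left := l.left
  obtain ⟨V, g, ⟨v, hv⟩, hfin⟩ := hF U σ (lU default)
  obtain ⟨l', hl', -⟩ := Groth.Agent.Helper9.EtSectSupp.exists_lift_fiber ξ g l v hv
  refine ⟨addOrderOf (F.obj.map g.op σ), hfin.addOrderOf_pos, ?_⟩
  have e := (Scheme.pointSmallEtale ξ).toPresheafFiber_w_apply g l' F.obj σ
  rw [hl'] at e
  rw [← e]
  refine (map_nsmul ((Scheme.pointSmallEtale ξ).toPresheafFiber V l' F.obj).hom _ _).symm.trans ?_
  rw [addOrderOf_nsmul_eq_zero, map_zero]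
  rfl

/-- the stalk of `gen` hits the germ of the section -/
theorem gen_stalk (V : X.Etale) (n : ℕ) (K : EtCoh.Ab X) (s : (evalAt V).obj K) (hs : n • s = 0)
    (l : (Scheme.pointSmallEtale ξ).fiber.obj V) :
    (EtCoh.stalk ξ).map (gen V n K s hs)
      ((Scheme.pointSmallEtale ξ).toPresheafFiber V l (cyc V n).obj (unitHom V n (ULift.up 1))) =
        (Scheme.pointSmallEtale ξ).toPresheafFiber V l K.obj s := by
  refine ((Scheme.pointSmallEtale ξ).toPresheafFiber_naturality_apply
    (gen V n K s hs).hom V l (unitHom V n (ULift.up 1))).trans ?_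
  congr 1
  exact gen_apply V n K s hs

end Stalk

section Main

variable [CompactSpace X] [QuasiSeparatedSpace X]

/-- the comparison map -/
noncomputable def θ : colimit (diag F) ⟶ F := colimit.desc (diag F) (cocone F)

lemma ι_θ (o : Obj F) :
    (colimit.ι (diag F) o : o.p.sheaf ⟶ colimit (diag F)) ≫ θ F = o.hom := colimit.ι_desc _ _

theorem epi_θ (hF : EtCoh.IsTorsion F) : Epi (θ F) := by
  rw [epi_iff_stalks]
  intro Ω _ _ ξ γ
  obtain ⟨n, hn, hγ⟩ := exists_nsmul_eq_zero_of_isTorsion F ξ hF γ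
  obtain ⟨V, hV, l, s, hs, rfl⟩ := exists_affine_section ξ F γ n hγ
  obtain ⟨o, e, he⟩ := exists_obj F _ (isConstructible_cyc V hV n hn) (gen V n F s hs)
  have h1 : (e.hom ≫ (colimit.ι (diag F) o : o.p.sheaf ⟶ colimit (diag F))) ≫ θ F =
      gen V n F s hs := by rw [Category.assoc, ι_θ, he]
  refine ⟨(EtCoh.stalk ξ).map (e.hom ≫ (colimit.ι (diag F) o : o.p.sheaf ⟶ colimit (diag F)))
    ((Scheme.pointSmallEtale ξ).toPresheafFiber V l (cyc V n).obj (unitHom V n (ULift.up 1))), ?_⟩
  rw [← ConcreteCategory.comp_apply, ← Functor.map_comp, h1]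
  exact gen_stalk ξ V n F s hs l

theorem mono_θ : Mono (θ F) := by
  rw [mono_iff_stalks]
  intro Ω _ _ ξ
  rw [injective_iff_map_eq_zero]
  intro t ht
  obtain ⟨o, y, rfl⟩ := Concrete.isColimit_exists_rep _
    (isColimitOfPreserves (EtCoh.stalk ξ) (colimit.isColimit (diag F))) t
  have hy : (EtCoh.stalk ξ).map o.hom y = 0 := by
    have h1 : (EtCoh.stalk ξ).map o.hom =
        (EtCoh.stalk ξ).map (colimit.ι (diag F) o : o.p.sheaf ⟶ colimit (diag F)) ≫
          (EtCoh.stalk ξ).map (θ F) := by rw [← Functor.map_comp, ι_θ]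
    rw [h1, ConcreteCategory.comp_apply]
    exact ht
  -- `y` comes from the kernel
  have hex : (ShortComplex.mk (kernel.ι o.hom) o.hom (kernel.condition o.hom)).Exact :=
    ShortComplex.exact_kernel o.hom
  have hex' := (ShortComplex.ab_exact_iff _).1 (hex.map (EtCoh.stalk ξ)) y hy
  obtain ⟨z, hz'⟩ : ∃ z : ↑((EtCoh.stalk ξ).obj (kernel o.hom)),
      (EtCoh.stalk ξ).map (kernel.ι o.hom) z = y := hex'
  haveI : Finite ↑((EtCoh.stalk ξ).obj o.p.sheaf) :=
    Groth.Agent.Helper6.ConsH.finite_stalk_of_isConstructible _ o.p.isConstructible ξ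
  have hinj : Function.Injective ((EtCoh.stalk ξ).map (kernel.ι o.hom)) :=
    (AddCommGrpCat.mono_iff_injective _).1 inferInstance
  have hnz : Nat.card ↑((EtCoh.stalk ξ).obj o.p.sheaf) • z = 0 := by
    apply hinj
    rw [map_zero]
    refine (map_nsmul ((EtCoh.stalk ξ).map (kernel.ι o.hom)).hom _ _).trans ?_
    exact card_nsmul_eq_zero'
  obtain ⟨V, hV, l, s, hs, rfl⟩ := exists_affine_section ξ (kernel o.hom) z _ hnz
  set n := Nat.card ↑((EtCoh.stalk ξ).obj o.p.sheaf) with hn
  have hnpos : 0 < n := Nat.card_pos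
  obtain ⟨g, hgdef⟩ : ∃ g : cyc V n ⟶ o.p.sheaf,
    g = gen V n (kernel o.hom) s hs ≫ kernel.ι o.hom := ⟨_, rfl⟩
  have hg : g ≫ o.hom = 0 := by rw [hgdef, Category.assoc, kernel.condition, comp_zero]
  have hG : EtPBC.IsConstructible (cokernel g) :=
    isConstructible_cokernel g (isConstructible_cyc V hV n hnpos) o.p.isConstructible
  obtain ⟨o', e, he⟩ := exists_obj F _ hG (cokernel.desc g o.hom hg)
  let f : o ⟶ o' := ⟨cokernel.π g ≫ e.hom, by rw [Category.assoc, he, cokernel.π_desc]⟩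
  have hw : (diag F).map f ≫ colimit.ι (diag F) o' = colimit.ι (diag F) o := colimit.w _ f
  let u₀ : ↑((EtCoh.stalk ξ).obj (cyc V n)) :=
    (Scheme.pointSmallEtale ξ).toPresheafFiber V l (cyc V n).obj (unitHom V n (ULift.up 1))
  have hy' : (EtCoh.stalk ξ).map g u₀ = y := by
    rw [← hz', hgdef, Functor.map_comp, ConcreteCategory.comp_apply]
    congr 1
    exact gen_stalk ξ V n (kernel o.hom) s hs l
  show ((EtCoh.stalk ξ).map (colimit.ι (diag F) o)) y = 0
  rw [← hw, ← hy', ← ConcreteCategory.comp_apply, ← Functor.map_comp]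
  have h0 : g ≫ (diag F).map f ≫ colimit.ι (diag F) o' = 0 := by
    have h1 : (diag F).map f = cokernel.π g ≫ e.hom := rfl
    rw [h1, Category.assoc, cokernel.condition_assoc, zero_comp]
  rw [h0, Functor.map_zero]
  rfl

/-- **Torsion sheaves are filtered colimits of constructible sheaves** -/
theorem main (hF : EtCoh.IsTorsion F) :
    ∃ (J : Type (u + 1)) (_ : SmallCategory J) (_ : IsFiltered J) (D : J ⥤ EtCoh.Ab X)
      (c : Cocone D) (_ : IsColimit c),
      (∀ j, EtPBC.IsConstructible (D.obj j)) ∧ Nonempty (c.pt ≅ F) := by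
  haveI := epi_θ F hF
  haveI := mono_θ F
  haveI : IsIso (θ F) := isIso_of_mono_of_epi _
  exact ⟨Obj F, inferInstance, inferInstance, diag F, colimit.cocone (diag F),
    colimit.isColimit (diag F), fun o => o.p.isConstructible, ⟨asIso (θ F)⟩⟩

end Main

end Groth.Agent.Helper6.ConsN
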