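import Mathlib
import Groth.Prelude.Def_EtBase
import Groth.Prelude.Def_PBC
import Groth.Agent.Helper6.ConsN

set_option autoImplicit false
set_option linter.style.haveILetI false
set_option linter.unusedSectionVars false
set_option linter.unusedVariables false
set_option linter.unusedSimpArgs false

/-!
# Compact torsion sheaves are constructible
-/

universe u

open CategoryTheory CategoryTheory.Limits AlgebraicGeometry Opposite Topology

namespace Groth.Agent.Helper6.ConsO

open Groth.Agent.Helper4.ConsSerre Groth.Agent.Helper4.SuppC Groth.Agent.Helper6.ConsN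

variable {X : Scheme.{u}}

/-- a retract of a constructible sheaf is constructible -/
theorem isConstructible_of_retract {F G : EtCoh.Ab X} (hG : EtPBC.IsConstructible G)
    (b : F ⟶ G) (r : G ⟶ F) (h : b ≫ r = 𝟙 F) : EtPBC.IsConstructible F := by
  have hb : b ≫ (𝟙 G - r ≫ b) = 0 := by
    rw [Preadditive.comp_sub, Category.comp_id, reassoc_of% h, sub_self]
  have hι : kernel.ι (𝟙 G - r ≫ b) ≫ r ≫ b = kernel.ι (𝟙 G - r ≫ b) := by
    have := kernel.condition (𝟙 G - r ≫ b)
    rw [Preadditive.comp_sub, Category.comp_id, sub_eq_zero] at this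
    exact this.symm
  let e : F ≅ kernel (𝟙 G - r ≫ b) :=
    { hom := kernel.lift _ b hb
      inv := kernel.ι _ ≫ r
      hom_inv_id := by rw [kernel.lift_ι_assoc, h]
      inv_hom_id := by
        rw [← cancel_mono (kernel.ι (𝟙 G - r ≫ b)), Category.assoc, kernel.lift_ι, Category.assoc,
          hι, Category.id_comp] }
  exact isConstructible_of_iso e.symm (isConstructible_kernel _ hG hG)

variable [CompactSpace X] [QuasiSeparatedSpace X]

/-- a torsion sheaf which is a compact object is constructible -/
theorem isConstructible_of_compact (F : EtCoh.Ab X) (hF : EtCoh.IsTorsion F)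
    (hc : ∀ (J : Type (u + 1)) [SmallCategory J] [IsFiltered J],
      PreservesColimitsOfShape J (coyoneda.obj (op F))) :
    EtPBC.IsConstructible F := by
  haveI := epi_θ F hF
  haveI := mono_θ F
  haveI : IsIso (θ F) := isIso_of_mono_of_epi _
  haveI := hc (Obj F)
  have hcol := isColimitOfPreserves (coyoneda.obj (op F)) (colimit.isColimit (diag F))
  obtain ⟨o, b, hb⟩ := Types.jointly_surjective_of_isColimit hcol (inv (θ F))
  have hb' : b ≫ (colimit.ι (diag F) o : o.p.sheaf ⟶ colimit (diag F)) = inv (θ F) := hb
  refine isConstructible_of_retract o.p.isConstructible b o.hom ?_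
  rw [← ι_θ, ← Category.assoc, hb', IsIso.inv_hom_id]

end Groth.Agent.Helper6.ConsO
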