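import Mathlib
import Groth.Prelude.Def_EtBase
import Groth.Prelude.Def_PBC
import Groth.Prelude.Def_EtShriek2
import Groth.Agent.Helper6.ConsL
import Groth.Agent.Helper6.ConsM
import Groth.Agent.Helper6.ConsN
import Groth.Agent.Helper4.SuppA
import Groth.Agent.Helper9.EtShriekExact
import Groth.Agent.Helper9.EtJCont
import Groth.Agent.Helper4.EtCartan
import Groth.Agent.Helper6.CF1

set_option autoImplicit false
set_option linter.style.haveILetI false
set_option linter.unusedSectionVars false
set_option linter.unusedVariables false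
set_option linter.unusedSimpArgs false

/-!
# Injective abelian étale sheaves are divisible; the `N`-torsion of an injective sheaf is acyclic
-/

universe u

open CategoryTheory CategoryTheory.Limits AlgebraicGeometry Opposite Topology

namespace Groth.Agent.Helper6.ConsP

open Groth.Agent.Helper9.EtStalkExact Groth.Agent.Helper6.ConsD

attribute [local instance] preservesFilteredColimits_forget_ab ab5_ab

variable {X : Scheme.{u}}

/-- transport of freeness along an isomorphism of objects of the site -/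
theorem isFreeOn_of_objIso {E : EtCoh.Ab X} {V V' : X.Etale} (i : V ≅ V')
    {A : AddCommGrpCat.{u + 1}} (h : IsFreeOn E V A) : IsFreeOn E V' A := by
  obtain ⟨e, he⟩ := h
  have hnat : ∀ {F G : EtCoh.Ab X} (a : F ⟶ G) {W W' : X.Etale} (g : W ⟶ W'),
      F.obj.map g.op ≫ (evalAt W).map a = (evalAt W').map a ≫ G.obj.map g.op :=
    fun a _ _ g => (a.hom.naturality g.op)
  have hinv : ∀ F : EtCoh.Ab X, F.obj.map i.hom.op ≫ F.obj.map i.inv.op = 𝟙 _ := by
    intro F
    rw [← Functor.map_comp, ← op_comp, i.inv_hom_id, op_id, CategoryTheory.Functor.map_id]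
  have hinv' : ∀ F : EtCoh.Ab X, F.obj.map i.inv.op ≫ F.obj.map i.hom.op = 𝟙 _ := by
    intro F
    rw [← Functor.map_comp, ← op_comp, i.hom_inv_id, op_id, CategoryTheory.Functor.map_id]
  refine ⟨e ≫ E.obj.map i.inv.op, fun F φ => ?_⟩
  obtain ⟨a, ha, hu⟩ := he F (φ ≫ F.obj.map i.hom.op)
  have ha' : e ≫ (evalAt V).map a = φ ≫ F.obj.map i.hom.op := ha
  refine ⟨a, ?_, ?_⟩
  · show (e ≫ E.obj.map i.inv.op) ≫ (evalAt V').map a = φ
    rw [Category.assoc, hnat a i.inv, reassoc_of% ha', hinv F]
    exact Category.comp_id _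
  · intro b hb
    have hb' : (e ≫ E.obj.map i.inv.op) ≫ (evalAt V').map b = φ := hb
    apply hu
    show e ≫ (evalAt V).map b = φ ≫ F.obj.map i.hom.op
    rw [← hb', Category.assoc, Category.assoc, ← hnat b i.hom, reassoc_of% (hinv' E)]

/-- multiplication by a positive integer is injective on the constant sheaf `ℤ` -/
theorem mono_nsmul_const (Y : Scheme.{u}) (N : ℕ) (hN : 0 < N) :
    Mono (N • 𝟙 (EtCoh.const Y ℤ)) := by
  rw [mono_iff_stalks]
  intro Ω _ _ ξ
  haveI : (EtCoh.stalk ξ).Additive := Functor.additive_of_preserves_binary_products _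
  rw [Functor.map_nsmul, CategoryTheory.Functor.map_id]
  let e := Groth.Agent.Helper4.SuppA.stalkConst ξ (AddCommGrpCat.of (ULift.{u + 1} ℤ))
  intro x y hxy
  have hxy' : N • x = N • y := hxy
  have h1 : N • (e.hom x) = N • (e.hom y) := by
    rw [← map_nsmul, ← map_nsmul, hxy']
  have h2 : e.hom x = e.hom y := by
    apply ULift.ext
    have h3 := congrArg ULift.down h1
    have h4 : N • (e.hom x).down = N • (e.hom y).down := h3
    rw [nsmul_eq_mul, nsmul_eq_mul] at h4
    exact mul_left_cancel₀ (by exact_mod_cast hN.ne') h4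
  have := congrArg e.inv h2
  simpa using this

/-- a sheaf free on `(W, ℤ)` on which multiplication by `N` is injective -/
theorem exists_free_mono (W : X.Etale) (N : ℕ) (hN : 0 < N) :
    ∃ E : EtCoh.Ab X, IsFreeOn E W (AddCommGrpCat.of (ULift.{u + 1} ℤ)) ∧ Mono (N • 𝟙 E) := by
  let j : W.left ⟶ X := Groth.Agent.Helper4.OverEtC.homS W
  haveI : Etale j := W.prop
  haveI : EtShriek.JCont j := Groth.Agent.Helper9.EtJCont.jCont_of_etale j
  haveI : PreservesFiniteLimits (EtShriek.extZero j) :=
    Groth.Agent.Helper9.EtShriekExact.preservesFiniteLimits_extZero j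
  haveI : (EtShriek.extZero j).Additive := (EtShriek.extZeroAdj j).left_adjoint_additive
  refine ⟨(EtShriek.extZero j).obj (EtCoh.const W.left ℤ), ?_, ?_⟩
  · have h1 := Groth.Agent.Helper6.ConsL.isFreeOn_extZero j
      (isFreeOn_const (X := W.left) (AddCommGrpCat.of (ULift.{u + 1} ℤ)))
    let i : (EtShriek.compEtale j).obj (EtCoh.top W.left) ≅ W :=
      MorphismProperty.Over.isoMk (Iso.refl _) (by
        show 𝟙 W.left ≫ W.hom = 𝟙 W.left ≫ j
        rfl)
    exact isFreeOn_of_objIso i h1
  · haveI := mono_nsmul_const W.left N hN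
    have h2 : N • 𝟙 ((EtShriek.extZero j).obj (EtCoh.const W.left ℤ)) =
        (EtShriek.extZero j).map (N • 𝟙 (EtCoh.const W.left ℤ)) := by
      rw [Functor.map_nsmul, CategoryTheory.Functor.map_id]
    rw [h2]
    infer_instance

/-- sections of injective abelian sheaves are divisible -/
theorem exists_nsmul_eq (I : EtCoh.Ab X) [Injective I] (N : ℕ) (hN : 0 < N) (W : X.Etale)
    (s : (evalAt W).obj I) : ∃ t : (evalAt W).obj I, N • t = s := by
  obtain ⟨E, ⟨e, he⟩, hmono⟩ := exists_free_mono W N hN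
  let φ : AddCommGrpCat.of (ULift.{u + 1} ℤ) ⟶ (evalAt W).obj I :=
    AddCommGrpCat.ofHom ((zmultiplesHom _ s).comp
      (AddEquiv.ulift.{0, u + 1} (α := ℤ)).toAddMonoidHom)
  have hφ : φ (ULift.up 1) = s := by
    show (zmultiplesHom _ s) (1 : ℤ) = s
    simp
  obtain ⟨a, ha, -⟩ := he I φ
  have ha' : e ≫ (evalAt W).map a = φ := ha
  let b : E ⟶ I := Injective.factorThru a (N • 𝟙 E)
  have hb : (N • 𝟙 E) ≫ b = a := Injective.comp_factorThru a (N • 𝟙 E)
  refine ⟨(evalAt W).map b (e (ULift.up 1)), ?_⟩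
  have h1 : (evalAt W).map a = N • (evalAt W).map b := by
    rw [← hb, Preadditive.nsmul_comp, Category.id_comp, Functor.map_nsmul]
  rw [← hφ, ← ha', ConcreteCategory.comp_apply, h1]
  rfl

/-- injective abelian étale sheaves are divisible -/
theorem epi_nsmul_of_injective (I : EtCoh.Ab X) [Injective I] (N : ℕ) (hN : 0 < N) :
    Epi (N • 𝟙 I) := by
  haveI : Presheaf.IsLocallySurjective X.smallEtaleTopology (N • 𝟙 I).hom := by
    apply Presheaf.isLocallySurjective_of_surjective
    intro U s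
    obtain ⟨t, ht⟩ := exists_nsmul_eq I N hN U.unop s
    exact ⟨t, ht⟩
  exact Sheaf.epi_of_isLocallySurjective _

section Coh

variable [CompactSpace X] [QuasiSeparatedSpace X]

/-- the constant sheaf `ℤ` -/
noncomputable abbrev Zc (X : Scheme.{u}) : EtCoh.Ab X :=
  (constantSheaf X.smallEtaleTopology AddCommGrpCat.{u + 1}).obj (AddCommGrpCat.of (ULift ℤ))

/-- cohomology commutes with filtered colimits indexed by big categories, elementwise form
(this is the core of the proof of S0099) -/
theorem hall (Λ : Type (u + 1)) [SmallCategory Λ] [IsFiltered Λ] (n : ℕ) (D : Λ ⥤ EtCoh.Ab X) :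
    Groth.Agent.Helper6.CF.Surj (Zc X) n D ∧ Groth.Agent.Helper6.CF.Inj (Zc X) n D := by
  classical
  obtain ⟨hT1, hT2⟩ := Groth.Agent.Helper4.EtCartan.top_mem (X := X)
  have hqc2 : Groth.Agent.Helper4.SecQC.QC2 X.smallEtaleTopology (EtCoh.top X) :=
    @Groth.Agent.Helper4.EtGeom.qc2 _ _ hT1 hT2
  have h0 : ∀ D : Λ ⥤ EtCoh.Ab X,
      Groth.Agent.Helper6.CF.Surj
        ((constantSheaf X.smallEtaleTopology AddCommGrpCat.{u + 1}).obj
          (AddCommGrpCat.of (ULift ℤ))) 0 D ∧
      Groth.Agent.Helper6.CF.Inj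
        ((constantSheaf X.smallEtaleTopology AddCommGrpCat.{u + 1}).obj
          (AddCommGrpCat.of (ULift ℤ))) 0 D := by
    intro D
    constructor
    · intro x
      obtain ⟨l, y₀, hy₀⟩ := Groth.Agent.Helper4.SecQC.surj_QC2 D (colimit.isColimit D) hqc2
        (Sheaf.H.equiv₀ (colimit D) Groth.Agent.Helper4.EtCartan.hT x)
      refine ⟨l, (Sheaf.H.equiv₀ (D.obj l) Groth.Agent.Helper4.EtCartan.hT).symm y₀, ?_⟩
      have := Sheaf.H.equiv₀_symm_naturality (hT := Groth.Agent.Helper4.EtCartan.hT)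
        (colimit.ι D l) y₀
      refine this.trans ?_
      apply (Sheaf.H.equiv₀ (colimit D) Groth.Agent.Helper4.EtCartan.hT).injective
      rw [AddEquiv.apply_symm_apply]
      exact hy₀
    · intro l y hy
      have h1 := Sheaf.H.equiv₀_naturality (hT := Groth.Agent.Helper4.EtCartan.hT)
        (colimit.ι D l) y
      have hy' : Sheaf.H.map (colimit.ι D l) 0 y = 0 := hy
      rw [hy', map_zero] at h1
      obtain ⟨m, a, ha⟩ := Groth.Agent.Helper4.SecQC.inj_QC1 D (colimit.isColimit D) hqc2.qc1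
        (Sheaf.H.equiv₀ (D.obj l) Groth.Agent.Helper4.EtCartan.hT y) 0 (by
          rw [map_zero]; exact h1)
      refine ⟨m, a, ?_⟩
      apply (Sheaf.H.equiv₀ (D.obj m) Groth.Agent.Helper4.EtCartan.hT).injective
      have h2 := Sheaf.H.equiv₀_naturality (hT := Groth.Agent.Helper4.EtCartan.hT) (D.map a) y
      rw [map_zero]
      refine h2.symm.trans ?_
      rw [ha, map_zero]
  have hv : ∀ (q : ℕ) (I : Λ ⥤ EtCoh.Ab X), (∀ l, Injective (I.obj l)) →
      ∀ x : Abelian.Ext.{u + 1} ((constantSheaf X.smallEtaleTopology AddCommGrpCat.{u + 1}).obj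
          (AddCommGrpCat.of (ULift ℤ))) (colimit I) (q + 1), x = 0 := by
    intro q I hI x
    exact Groth.Agent.Helper4.EtCartan.cartan q (colimit I)
      (Groth.Agent.Helper4.EtCartan.acyc_colimit I (colimit.isColimit I)
        (fun l => Groth.Agent.Helper4.EtCartan.acyc_injective (I.obj l))) x
  exact Groth.Agent.Helper6.CF.all (Λ := Λ) _ h0 hv n D

end Coh

end Groth.Agent.Helper6.ConsP
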