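import Mathlib
import Groth.Prelude.Def_EtBase
import Groth.Prelude.Def_PBC
import Groth.Agent.Helper6.ConsP

set_option autoImplicit false
set_option linter.style.haveILetI false
set_option linter.unusedSectionVars false
set_option linter.unusedVariables false
set_option linter.unusedSimpArgs false

/-!
# Effaceability of cohomology in the category of constructible sheaves
-/

universe u

open CategoryTheory CategoryTheory.Limits AlgebraicGeometry Opposite Topology

namespace Groth.Agent.Helper6.ConsQ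

open Groth.Agent.Helper6.ConsD Groth.Agent.Helper6.ConsJ Groth.Agent.Helper6.ConsK
  Groth.Agent.Helper6.ConsN Groth.Agent.Helper6.ConsP Groth.Agent.Helper6.CF

variable {X : Scheme.{u}}

/-- the `N`-torsion of an injective sheaf is acyclic -/
theorem ext_eq_zero_torsion_injective (I : EtCoh.Ab X) [Injective I] (N : ℕ) (hN : 0 < N) (q : ℕ)
    (hq : 0 < q) (x : Abelian.Ext.{u + 1} (Zc X) (kernel (N • 𝟙 I)) q) : x = 0 := by
  haveI := epi_nsmul_of_injective I N hN
  let S : ShortComplex (EtCoh.Ab X) :=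
    ShortComplex.mk (kernel.ι (N • 𝟙 I)) (N • 𝟙 I) (kernel.condition _)
  have hS : S.ShortExact :=
    { exact := ShortComplex.exact_kernel _
      mono_f := inferInstanceAs (Mono (kernel.ι (N • 𝟙 I)))
      epi_g := inferInstanceAs (Epi (N • 𝟙 I)) }
  obtain ⟨q', rfl⟩ : ∃ q', q = q' + 1 := ⟨q - 1, by omega⟩
  have h1 : P (Zc X) S.f x = 0 := Abelian.Ext.eq_zero_of_injective _
  obtain ⟨z, rfl⟩ := ex1 (Zc X) hS x h1
  rcases q' with _ | q''
  · obtain ⟨y, rfl⟩ := (Abelian.Ext.mk₀_bijective (Zc X) I).2 z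
    haveI := mono_nsmul_const X N hN
    let w : Zc X ⟶ I := Injective.factorThru y (N • 𝟙 (Zc X))
    have hw : (N • 𝟙 (Zc X)) ≫ w = y := Injective.comp_factorThru y _
    have hw' : w ≫ S.g = y := by
      show w ≫ (N • 𝟙 I) = y
      rw [← hw, Preadditive.comp_nsmul, Preadditive.nsmul_comp, Category.comp_id, Category.id_comp]
    rw [← hw', ← P_mk₀]
    exact dl_P_g (Zc X) hS _
  · have hz : z = 0 := Abelian.Ext.eq_zero_of_injective _
    rw [hz]
    unfold dl
    rw [Abelian.Ext.zero_comp]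

section QCQS

variable [CompactSpace X] [QuasiSeparatedSpace X]

theorem nsmul_id_biproduct_prod {b : ℕ} (U : Fin b → X.Etale) (n : Fin b → ℕ) :
    (∏ i, n i) • 𝟙 (⨁ fun i => cyc (U i) (n i)) = 0 := by
  apply biproduct.hom_ext'
  intro i
  obtain ⟨c, hc⟩ : n i ∣ ∏ i, n i := Finset.dvd_prod_of_mem n (Finset.mem_univ i)
  rw [Preadditive.comp_nsmul, Category.comp_id, comp_zero, hc, mul_nsmul,
    ← Category.id_comp (biproduct.ι (fun i => cyc (U i) (n i)) i), ← Preadditive.nsmul_comp,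
    nsmul_id_cyc, zero_comp, nsmul_zero]

/-- a constructible sheaf on a qcqs scheme is killed by a positive integer -/
theorem exists_nsmul_id_eq_zero (F : EtCoh.Ab X) (hF : EtPBC.IsConstructible F) :
    ∃ N : ℕ, 0 < N ∧ N • 𝟙 F = 0 := by
  obtain ⟨a, b, U, V, n, m, hn, hm, φ, ⟨e⟩⟩ := exists_presentation F hF
  refine ⟨∏ i, n i, Finset.prod_pos (fun i _ => (hn i).1), ?_⟩
  have h1 : (∏ i, n i) • 𝟙 (cokernel φ) = 0 := by
    rw [← cancel_epi (cokernel.π φ), Preadditive.comp_nsmul, Category.comp_id, comp_zero,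
      ← Category.id_comp (cokernel.π φ), ← Preadditive.nsmul_comp, nsmul_id_biproduct_prod,
      zero_comp]
  rw [← cancel_mono e.hom, Preadditive.nsmul_comp, Category.id_comp, zero_comp,
    ← Category.comp_id e.hom, ← Preadditive.comp_nsmul, h1, comp_zero]

/-- **Effaceability of cohomology in constructible sheaves** on a qcqs scheme -/
theorem main (F : EtCoh.Ab X) (hF : EtPBC.IsConstructible F) (q : ℕ) (hq : 0 < q)
    (α : EtCoh.H X F q) :
    ∃ (G : EtCoh.Ab X) (u : F ⟶ G), EtPBC.IsConstructible G ∧ Mono u ∧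
      (EtCoh.HF X q).map u α = 0 := by
  obtain ⟨N, hN, hNF⟩ := exists_nsmul_id_eq_zero F hF
  let I := Injective.under F
  let T := kernel (N • 𝟙 I)
  have hι : Injective.ι F ≫ (N • 𝟙 I) = 0 := by
    rw [Preadditive.comp_nsmul, Category.comp_id, ← Category.id_comp (Injective.ι F),
      ← Preadditive.nsmul_comp, hNF, zero_comp]
  let u₀ : F ⟶ T := kernel.lift _ (Injective.ι F) hι
  have hu₀ : u₀ ≫ kernel.ι (N • 𝟙 I) = Injective.ι F := kernel.lift_ι _ _ _
  haveI : Mono u₀ := mono_of_mono_fac hu₀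
  have hNT : N • 𝟙 T = 0 := by
    rw [← cancel_mono (kernel.ι (N • 𝟙 I)), Preadditive.nsmul_comp, Category.id_comp, zero_comp]
    have := kernel.condition (N • 𝟙 I)
    rw [Preadditive.comp_nsmul, Category.comp_id] at this
    exact this
  have hT : EtCoh.IsTorsion T := by
    intro U s x
    refine ⟨U, 𝟙 U, ⟨x, rfl⟩, ?_⟩
    rw [isOfFinAddOrder_iff_nsmul_eq_zero]
    refine ⟨N, hN, ?_⟩
    have h1 : (evalAt U).map (N • 𝟙 T) = 0 := by rw [hNT, Functor.map_zero]
    rw [Functor.map_nsmul, CategoryTheory.Functor.map_id] at h1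
    have h2 := ConcreteCategory.congr_hom h1 (T.obj.map (𝟙 U).op s)
    exact h2
  -- `T` is the filtered colimit of the constructible sheaves over it
  haveI := epi_θ T hT
  haveI := mono_θ T
  haveI : IsIso (θ T) := isIso_of_mono_of_epi _
  obtain ⟨o, b, hb⟩ := (Groth.Agent.Helper6.ConsM.isCpt_of_isConstructible (Obj T) F hF
    (diag T) (colimit.cocone (diag T)) (colimit.isColimit (diag T))).1 (u₀ ≫ inv (θ T))
  have hb' : b ≫ (colimit.ι (diag T) o : o.p.sheaf ⟶ colimit (diag T)) = u₀ ≫ inv (θ T) := hb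
  have hbo : b ≫ o.hom = u₀ := by
    rw [← ι_θ, ← Category.assoc, hb', Category.assoc, IsIso.inv_hom_id, Category.comp_id]
  -- the class dies in the colimit
  have h0 : P (Zc X) (colimit.ι (diag T) o : o.p.sheaf ⟶ colimit (diag T)) (P (Zc X) b α) = 0 := by
    rw [P_comp, hb', ← P_comp, ext_eq_zero_torsion_injective I N hN q hq (P (Zc X) u₀ α), P_zero]
  obtain ⟨m, f, hf⟩ := (hall (Obj T) q (diag T)).2 o (P (Zc X) b α) h0
  have hfm : f.1 ≫ m.hom = o.hom := f.2
  refine ⟨m.p.sheaf, b ≫ f.1, m.p.isConstructible, ?_, ?_⟩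
  · have hfac : (b ≫ f.1) ≫ m.hom = u₀ := by rw [Category.assoc, hfm, hbo]
    exact mono_of_mono_fac hfac
  · show P (Zc X) (b ≫ f.1) α = 0
    rw [← P_comp]
    exact hf

end QCQS

end Groth.Agent.Helper6.ConsQ
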