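import Mathlib
import Groth.Prelude.Def_EtBase
import Groth.Prelude.Def_PBC
import Groth.Agent.Helper6.ConsN

set_option autoImplicit false
set_option linter.style.haveILetI false
set_option linter.unusedSectionVars false
set_option linter.unusedVariables false
set_option linter.unusedSimpArgs false

/-!
# Filtered colimits of constructible sheaves subject to a condition
-/

universe u

open CategoryTheory CategoryTheory.Limits AlgebraicGeometry Opposite Topology

namespace Groth.Agent.Helper6.ConsR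

open Groth.Agent.Helper9.EtStalkExact Groth.Agent.Helper4.ConsSerre Groth.Agent.Helper4.SuppC
open Groth.Agent.Helper6.ConsD Groth.Agent.Helper6.ConsI Groth.Agent.Helper6.ConsJ
  Groth.Agent.Helper6.ConsK Groth.Agent.Helper6.ConsN

attribute [local instance] preservesFilteredColimits_forget_ab ab5_ab

variable {X : Scheme.{u}}

/-- a property of sheaves stable under the operations used to build the index category -/
structure GoodProp (Pr : EtCoh.Ab X → Prop) : Prop where
  iso : ∀ {G G' : EtCoh.Ab X}, (G ≅ G') → Pr G → Pr G'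
  zero : ∀ {Z : EtCoh.Ab X}, IsZero Z → Pr Z
  biprod : ∀ {G₁ G₂ : EtCoh.Ab X}, Pr G₁ → Pr G₂ → Pr (G₁ ⊞ G₂)
  quot : ∀ {G H : EtCoh.Ab X} (g : H ⟶ G), Pr G → Pr (cokernel g)

/-- objects of the index category: a presentation with a map to `F`, with the property -/
structure ObjP (F : EtCoh.Ab X) (Pr : EtCoh.Ab X → Prop) where
  p : Pres X
  hom : p.sheaf ⟶ F
  pr : Pr p.sheaf

variable (F : EtCoh.Ab X) (Pr : EtCoh.Ab X → Prop)

noncomputable instance : Category (ObjP F Pr) where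
  Hom o o' := {f : o.p.sheaf ⟶ o'.p.sheaf // f ≫ o'.hom = o.hom}
  id o := ⟨𝟙 _, Category.id_comp _⟩
  comp f g := ⟨f.1 ≫ g.1, by rw [Category.assoc, g.2, f.2]⟩

/-- the diagram -/
noncomputable abbrev diagP : ObjP F Pr ⥤ EtCoh.Ab X where
  obj o := o.p.sheaf
  map f := f.1

/-- the cocone over `F` -/
noncomputable def coconeP : Cocone (diagP F Pr) where
  pt := F
  ι := { app := fun o => o.hom
         naturality := fun o o' f => by
          show f.1 ≫ o'.hom = o.hom ≫ 𝟙 F
          rw [f.2, Category.comp_id] }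

variable [CompactSpace X] [QuasiSeparatedSpace X]

variable {Pr} in
theorem exists_objP (hPr : GoodProp Pr) (G : EtCoh.Ab X) (hG : EtPBC.IsConstructible G)
    (hG' : Pr G) (q : G ⟶ F) :
    ∃ (o : ObjP F Pr) (e : G ≅ o.p.sheaf), e.hom ≫ o.hom = q := by
  obtain ⟨a, b, U, V, n, m, hn, hm, φ, ⟨e⟩⟩ := exists_presentation G hG
  exact ⟨⟨⟨a, b, U, V, n, m, hn, hm, φ⟩, e.inv ≫ q, hPr.iso e hG'⟩, e, by simp⟩

variable {Pr} in
theorem isFiltered_objP (hPr : GoodProp Pr) : IsFiltered (ObjP F Pr) := by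
  haveI : Nonempty (ObjP F Pr) := by
    have h0 : IsZero (cokernel (𝟙 (cyc (EtCoh.top X) 1))) := isZero_cokernel_of_epi _
    obtain ⟨o, -, -⟩ := exists_objP F hPr _
      (isConstructible_cokernel _ isConstructible_cyc_top isConstructible_cyc_top)
      (hPr.zero h0) (0 : cokernel (𝟙 (cyc (EtCoh.top X) 1)) ⟶ F)
    exact ⟨o⟩
  haveI : IsFilteredOrEmpty (ObjP F Pr) := by
    constructor
    · intro o₁ o₂
      have hG : EtPBC.IsConstructible (o₁.p.sheaf ⊞ o₂.p.sheaf) :=
        isConstructible_of_shortExact _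
          (ShortComplex.Splitting.ofHasBinaryBiproduct o₁.p.sheaf o₂.p.sheaf).shortExact
          o₁.p.isConstructible o₂.p.isConstructible
      obtain ⟨o, e, he⟩ := exists_objP F hPr _ hG (hPr.biprod o₁.pr o₂.pr)
        (biprod.desc o₁.hom o₂.hom)
      refine ⟨o, ⟨biprod.inl ≫ e.hom, ?_⟩, ⟨biprod.inr ≫ e.hom, ?_⟩, trivial⟩
      · rw [Category.assoc, he, biprod.inl_desc]
      · rw [Category.assoc, he, biprod.inr_desc]
    · intro o₁ o₂ f g
      have hG : EtPBC.IsConstructible (cokernel (f.1 - g.1)) :=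
        isConstructible_cokernel _ o₁.p.isConstructible o₂.p.isConstructible
      obtain ⟨o, e, he⟩ := exists_objP F hPr _ hG (hPr.quot _ o₂.pr)
        (cokernel.desc (f.1 - g.1) o₂.hom (by
          rw [Preadditive.sub_comp, f.2, g.2, sub_self]))
      refine ⟨o, ⟨cokernel.π _ ≫ e.hom, ?_⟩, ?_⟩
      · rw [Category.assoc, he, cokernel.π_desc]
      · apply Subtype.ext
        show f.1 ≫ cokernel.π _ ≫ e.hom = g.1 ≫ cokernel.π _ ≫ e.hom
        rw [← sub_eq_zero, ← Preadditive.sub_comp, cokernel.condition_assoc, zero_comp]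
  exact {}

/-- the comparison map -/
noncomputable def θP : colimit (diagP F Pr) ⟶ F := colimit.desc (diagP F Pr) (coconeP F Pr)

lemma ι_θP (o : ObjP F Pr) :
    (colimit.ι (diagP F Pr) o : o.p.sheaf ⟶ colimit (diagP F Pr)) ≫ θP F Pr = o.hom :=
  colimit.ι_desc _ _

variable {Pr} in
theorem epi_θP (hPr : GoodProp Pr)
    (hgen : ∀ (Ω : Type u) [Field Ω] [IsSepClosed Ω] (ξ : Spec (CommRingCat.of Ω) ⟶ X)
      (γ : ↑((EtCoh.stalk ξ).obj F)), ∃ (G : EtCoh.Ab X) (p : G ⟶ F)
        (δ : ↑((EtCoh.stalk ξ).obj G)), EtPBC.IsConstructible G ∧ Pr G ∧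
          (EtCoh.stalk ξ).map p δ = γ) : Epi (θP F Pr) := by
  rw [epi_iff_stalks]
  intro Ω _ _ ξ γ
  obtain ⟨G, p, δ, hG, hG', rfl⟩ := hgen Ω ξ γ
  obtain ⟨o, e, he⟩ := exists_objP F hPr G hG hG' p
  have h1 : (e.hom ≫ (colimit.ι (diagP F Pr) o : o.p.sheaf ⟶ colimit (diagP F Pr))) ≫ θP F Pr =
      p := by rw [Category.assoc, ι_θP, he]
  refine ⟨(EtCoh.stalk ξ).map
    (e.hom ≫ (colimit.ι (diagP F Pr) o : o.p.sheaf ⟶ colimit (diagP F Pr))) δ, ?_⟩
  rw [← ConcreteCategory.comp_apply, ← Functor.map_comp, h1]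

variable {Pr} in
theorem mono_θP (hPr : GoodProp Pr) : Mono (θP F Pr) := by
  haveI := isFiltered_objP F hPr
  rw [mono_iff_stalks]
  intro Ω _ _ ξ
  rw [injective_iff_map_eq_zero]
  intro t ht
  obtain ⟨o, y, rfl⟩ := Concrete.isColimit_exists_rep _
    (isColimitOfPreserves (EtCoh.stalk ξ) (colimit.isColimit (diagP F Pr))) t
  have hy : (EtCoh.stalk ξ).map o.hom y = 0 := by
    have h1 : (EtCoh.stalk ξ).map o.hom =
        (EtCoh.stalk ξ).map
          (colimit.ι (diagP F Pr) o : o.p.sheaf ⟶ colimit (diagP F Pr)) ≫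
          (EtCoh.stalk ξ).map (θP F Pr) := by rw [← Functor.map_comp, ι_θP]
    rw [h1, ConcreteCategory.comp_apply]
    exact ht
  have hex : (ShortComplex.mk (kernel.ι o.hom) o.hom (kernel.condition o.hom)).Exact :=
    ShortComplex.exact_kernel o.hom
  have hex' := (ShortComplex.ab_exact_iff _).1 (hex.map (EtCoh.stalk ξ)) y hy
  obtain ⟨z, hz'⟩ : ∃ z : ↑((EtCoh.stalk ξ).obj (kernel o.hom)),
      (EtCoh.stalk ξ).map (kernel.ι o.hom) z = y := hex'
  haveI : Finite ↑((EtCoh.stalk ξ).obj o.p.sheaf) :=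
    Groth.Agent.Helper6.ConsH.finite_stalk_of_isConstructible _ o.p.isConstructible ξ
  have hinj : Function.Injective ((EtCoh.stalk ξ).map (kernel.ι o.hom)) :=
    (AddCommGrpCat.mono_iff_injective _).1 inferInstance
  have hnz : Nat.card ↑((EtCoh.stalk ξ).obj o.p.sheaf) • z = 0 := by
    apply hinj
    rw [map_zero]
    refine (map_nsmul ((EtCoh.stalk ξ).map (kernel.ι o.hom)).hom _ _).trans ?_
    exact card_nsmul_eq_zero'
  obtain ⟨V, hV, l, s, hs, rfl⟩ := exists_affine_section ξ (kernel o.hom) z _ hnz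
  set n := Nat.card ↑((EtCoh.stalk ξ).obj o.p.sheaf) with hn
  have hnpos : 0 < n := Nat.card_pos
  obtain ⟨g, hgdef⟩ : ∃ g : cyc V n ⟶ o.p.sheaf,
    g = gen V n (kernel o.hom) s hs ≫ kernel.ι o.hom := ⟨_, rfl⟩
  have hg : g ≫ o.hom = 0 := by rw [hgdef, Category.assoc, kernel.condition, comp_zero]
  have hG : EtPBC.IsConstructible (cokernel g) :=
    isConstructible_cokernel g (isConstructible_cyc V hV n hnpos) o.p.isConstructible
  obtain ⟨o', e, he⟩ := exists_objP F hPr _ hG (hPr.quot g o.pr) (cokernel.desc g o.hom hg)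
  let f : o ⟶ o' := ⟨cokernel.π g ≫ e.hom, by rw [Category.assoc, he, cokernel.π_desc]⟩
  have hw : (diagP F Pr).map f ≫ colimit.ι (diagP F Pr) o' = colimit.ι (diagP F Pr) o :=
    colimit.w _ f
  let u₀ : ↑((EtCoh.stalk ξ).obj (cyc V n)) :=
    (Scheme.pointSmallEtale ξ).toPresheafFiber V l (cyc V n).obj (unitHom V n (ULift.up 1))
  have hy' : (EtCoh.stalk ξ).map g u₀ = y := by
    rw [← hz', hgdef, Functor.map_comp, ConcreteCategory.comp_apply]
    congr 1
    exact gen_stalk ξ V n (kernel o.hom) s hs l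
  show ((EtCoh.stalk ξ).map (colimit.ι (diagP F Pr) o)) y = 0
  rw [← hw, ← hy', ← ConcreteCategory.comp_apply, ← Functor.map_comp]
  have h0 : g ≫ (diagP F Pr).map f ≫ colimit.ι (diagP F Pr) o' = 0 := by
    have h1 : (diagP F Pr).map f = cokernel.π g ≫ e.hom := rfl
    rw [h1, Category.assoc, cokernel.condition_assoc, zero_comp]
  rw [h0, Functor.map_zero]
  rfl

variable {Pr} in
/-- the main statement: `F` is the filtered colimit of the constructible sheaves with the property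
mapping to it, provided these generate the stalks of `F` -/
theorem mainP (hPr : GoodProp Pr)
    (hgen : ∀ (Ω : Type u) [Field Ω] [IsSepClosed Ω] (ξ : Spec (CommRingCat.of Ω) ⟶ X)
      (γ : ↑((EtCoh.stalk ξ).obj F)), ∃ (G : EtCoh.Ab X) (p : G ⟶ F)
        (δ : ↑((EtCoh.stalk ξ).obj G)), EtPBC.IsConstructible G ∧ Pr G ∧
          (EtCoh.stalk ξ).map p δ = γ) :
    ∃ (J : Type (u + 1)) (_ : SmallCategory J) (_ : IsFiltered J) (D : J ⥤ EtCoh.Ab X)
      (c : Cocone D) (_ : IsColimit c), Nonempty (c.pt ≅ F) ∧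
      ∀ j, EtPBC.IsConstructible (D.obj j) ∧ Pr (D.obj j) := by
  haveI := epi_θP F hPr hgen
  haveI := mono_θP F hPr
  haveI : IsIso (θP F Pr) := isIso_of_mono_of_epi _
  exact ⟨ObjP F Pr, inferInstance, isFiltered_objP F hPr, diagP F Pr,
    colimit.cocone (diagP F Pr), colimit.isColimit (diagP F Pr), ⟨asIso (θP F Pr)⟩,
    fun o => ⟨o.p.isConstructible, o.pr⟩⟩

end Groth.Agent.Helper6.ConsR
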