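import Mathlib
import Groth.Prelude.Def_EtBase
import Groth.Prelude.Def_PBC
import Groth.Agent.Helper6.ConsR

set_option autoImplicit false
set_option linter.style.haveILetI false
set_option linter.unusedSectionVars false
set_option linter.unusedVariables false
set_option linter.unusedSimpArgs false

/-!
# Support conditions as good properties
-/

universe u

open CategoryTheory CategoryTheory.Limits AlgebraicGeometry Opposite Topology

namespace Groth.Agent.Helper6.ConsS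

open Groth.Agent.Helper9.EtStalkExact Groth.Agent.Helper6.ConsI Groth.Agent.Helper6.ConsR

attribute [local instance] preservesFilteredColimits_forget_ab ab5_ab

variable {X : Scheme.{u}}

theorem supp_subset_iff (G : EtCoh.Ab X) (Z : Set X) :
    EtPBC.supp G ⊆ Z ↔ ∀ x, x ∉ Z → IsZero ((EtCoh.stalk (geomPt x)).obj G) := by
  constructor
  · intro h x hx
    exact (not_mem_supp_iff G x).1 (fun hx' => hx (h hx'))
  · intro h x hx
    by_contra hxZ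
    exact (not_mem_supp_iff G x).2 (h x hxZ) hx

theorem supp_subset_of_iso {G G' : EtCoh.Ab X} (e : G ≅ G') {Z : Set X}
    (h : EtPBC.supp G ⊆ Z) : EtPBC.supp G' ⊆ Z := by
  rw [supp_subset_iff] at h ⊢
  intro x hx
  exact (h x hx).of_iso ((EtCoh.stalk (geomPt x)).mapIso e.symm)

theorem supp_subset_of_isZero {G : EtCoh.Ab X} (hG : IsZero G) (Z : Set X) :
    EtPBC.supp G ⊆ Z := by
  rw [supp_subset_iff]
  intro x _
  exact Functor.map_isZero _ hG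

theorem supp_cokernel_subset {G H : EtCoh.Ab X} (g : H ⟶ G) {Z : Set X}
    (h : EtPBC.supp G ⊆ Z) : EtPBC.supp (cokernel g) ⊆ Z := by
  rw [supp_subset_iff] at h ⊢
  intro x hx
  exact IsZero.of_epi ((EtCoh.stalk (geomPt x)).map (cokernel.π g)) (h x hx)

theorem supp_subset_of_mono {G H : EtCoh.Ab X} (g : H ⟶ G) [Mono g] {Z : Set X}
    (h : EtPBC.supp G ⊆ Z) : EtPBC.supp H ⊆ Z := by
  rw [supp_subset_iff] at h ⊢
  intro x hx
  exact IsZero.of_mono ((EtCoh.stalk (geomPt x)).map g) (h x hx)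

theorem supp_biprod_subset {G₁ G₂ : EtCoh.Ab X} {Z₁ Z₂ : Set X} (h₁ : EtPBC.supp G₁ ⊆ Z₁)
    (h₂ : EtPBC.supp G₂ ⊆ Z₂) : EtPBC.supp (G₁ ⊞ G₂) ⊆ Z₁ ∪ Z₂ := by
  rw [supp_subset_iff] at h₁ h₂ ⊢
  intro x hx
  have hx₁ : x ∉ Z₁ := fun h => hx (Or.inl h)
  have hx₂ : x ∉ Z₂ := fun h => hx (Or.inr h)
  haveI : (EtCoh.stalk (geomPt x)).Additive := Functor.additive_of_preserves_binary_products _
  rw [IsZero.iff_id_eq_zero, ← CategoryTheory.Functor.map_id, ← biprod.total, Functor.map_add,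
    Functor.map_comp, Functor.map_comp]
  rw [(h₁ x hx₁).eq_of_tgt ((EtCoh.stalk (geomPt x)).map biprod.fst) 0,
    (h₂ x hx₂).eq_of_tgt ((EtCoh.stalk (geomPt x)).map biprod.snd) 0, zero_comp, zero_comp,
    add_zero]

/-- "supported in a member of the family `𝒵`" -/
def PrC (𝒵 : Set (Set X)) (G : EtCoh.Ab X) : Prop := ∃ Z ∈ 𝒵, EtPBC.supp G ⊆ Z

theorem goodProp_prC (𝒵 : Set (Set X)) (h0 : ∃ Z, Z ∈ 𝒵)
    (hU : ∀ Z₁ ∈ 𝒵, ∀ Z₂ ∈ 𝒵, Z₁ ∪ Z₂ ∈ 𝒵) : GoodProp (PrC 𝒵) where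
  iso := by
    rintro G G' e ⟨Z, hZ, h⟩
    exact ⟨Z, hZ, supp_subset_of_iso e h⟩
  zero := by
    intro G hG
    obtain ⟨Z, hZ⟩ := h0
    exact ⟨Z, hZ, supp_subset_of_isZero hG Z⟩
  biprod := by
    rintro G₁ G₂ ⟨Z₁, hZ₁, h₁⟩ ⟨Z₂, hZ₂, h₂⟩
    exact ⟨Z₁ ∪ Z₂, hU Z₁ hZ₁ Z₂ hZ₂, supp_biprod_subset h₁ h₂⟩
  quot := by
    rintro G H g ⟨Z, hZ, h⟩
    exact ⟨Z, hZ, supp_cokernel_subset g h⟩

end Groth.Agent.Helper6.ConsS
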