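import Mathlib
import Groth.Prelude.Def_EtBase
import Groth.Prelude.Def_PBC
import Groth.Agent.Helper6.ConsS
import Groth.Agent.Lead.ProConsLib7

set_option autoImplicit false
set_option linter.style.haveILetI false
set_option linter.unusedSectionVars false
set_option linter.unusedVariables false
set_option linter.unusedSimpArgs false

/-!
# Torsion sheaves supported in a specialization-stable subset of a Noetherian scheme
-/

universe u

open CategoryTheory CategoryTheory.Limits AlgebraicGeometry Opposite Topology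

namespace Groth.Agent.Helper6.ConsT

open Groth.Agent.Helper9.EtStalkExact Groth.Agent.Helper6.ConsI Groth.Agent.Helper6.ConsR
  Groth.Agent.Helper6.ConsS Groth.Agent.Helper6.ConsJ Groth.Agent.Helper6.ConsN
  Groth.Agent.Helper6.ConsD

attribute [local instance] preservesFilteredColimits_forget_ab ab5_ab

variable {X : Scheme.{u}}

theorem main [IsNoetherian X] (E : Set X) (hE : StableUnderSpecialization E)
    (F : EtCoh.Ab X) (hF : EtCoh.IsTorsion F) (hsupp : EtPBC.supp F ⊆ E) :
    ∃ (J : Type (u + 1)) (_ : SmallCategory J) (_ : IsFiltered J) (D : J ⥤ EtCoh.Ab X)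
      (c : Cocone D) (_ : IsColimit c), Nonempty (c.pt ≅ F) ∧
      ∀ j, EtPBC.IsConstructible (D.obj j) ∧
        ∃ Z : Set X, IsClosed Z ∧ Z ⊆ E ∧ EtPBC.supp (D.obj j) ⊆ Z := by
  let 𝒵 : Set (Set X) := {Z | IsClosed Z ∧ Z ⊆ E}
  have hPr : GoodProp (PrC 𝒵) := goodProp_prC 𝒵 ⟨∅, isClosed_empty, Set.empty_subset _⟩
    (fun Z₁ h₁ Z₂ h₂ => ⟨h₁.1.union h₂.1, Set.union_subset h₁.2 h₂.2⟩)
  obtain ⟨J, i1, i2, D, c, hc, hiso, hD⟩ := mainP F hPr (by
    intro Ω _ _ ξ γ
    obtain ⟨n, hn, hγ⟩ := exists_nsmul_eq_zero_of_isTorsion F ξ hF γ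
    obtain ⟨V, hV, l, s, hs, rfl⟩ := exists_affine_section ξ F γ n hγ
    let g : cyc V n ⟶ F := gen V n F s hs
    have hIm : EtPBC.IsConstructible (Limits.image g) :=
      Groth.Agent.Helper4.ConsSerre.isConstructible_of_epi (factorThruImage g)
        (isConstructible_cyc V hV n hn)
    refine ⟨Limits.image g, Limits.image.ι g, (EtCoh.stalk ξ).map (factorThruImage g)
      ((Scheme.pointSmallEtale ξ).toPresheafFiber V l (cyc V n).obj (unitHom V n (ULift.up 1))),
      hIm, ?_, ?_⟩
    · have hsub : EtPBC.supp (Limits.image g) ⊆ E :=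
        (supp_subset_of_mono (Limits.image.ι g) (le_refl _)).trans hsupp
      refine ⟨closure (EtPBC.supp (Limits.image g)), ⟨isClosed_closure, ?_⟩, subset_closure⟩
      intro x hx
      have hpro : ProCons.IsProConstructible (EtPBC.supp (Limits.image g)) :=
        Groth.Agent.Lead.ProConsLib.pro_of_isLocallyConstructible
          (Groth.Agent.Helper4.SuppC.isConstructible_supp _ hIm).isLocallyConstructible
      obtain ⟨z, hz, hzx⟩ :=
        Groth.Agent.Lead.ProConsLib.exists_specializes_of_mem_closure hpro hx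
      exact hE hzx (hsub hz)
    · rw [← ConcreteCategory.comp_apply, ← Functor.map_comp, Limits.image.fac]
      exact gen_stalk ξ V n F s hs l)
  refine ⟨J, i1, i2, D, c, hc, hiso, fun j => ⟨(hD j).1, ?_⟩⟩
  obtain ⟨Z, ⟨hZ1, hZ2⟩, hZ3⟩ := (hD j).2
  exact ⟨Z, hZ1, hZ2, hZ3⟩

end Groth.Agent.Helper6.ConsT
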