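import Mathlib
import Groth.Prelude.Def_EtBase
import Groth.Prelude.Def_PBC
import Groth.Prelude.Def_EtShriek2
import Groth.Agent.Helper6.ConsT
import Groth.Agent.Helper6.ConsL
import Groth.Agent.Helper6.ConsM
import Groth.Agent.Helper6.ConsN
import Groth.Agent.Helper9.EtRecollement
import Groth.Agent.Helper9.EtShriekOpen
import Groth.Agent.Helper9.EtJCont
import Groth.Agent.Lead.ProConsLib7

set_option autoImplicit false
set_option linter.style.haveILetI false
set_option linter.unusedSectionVars false
set_option linter.unusedVariables false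
set_option linter.unusedSimpArgs false

/-!
# Torsion sheaves vanishing at the generic point (S0173)
-/

universe u

open CategoryTheory CategoryTheory.Limits AlgebraicGeometry Opposite Topology

namespace Groth.Agent.Helper6.ConsU

open Groth.Agent.Helper9.EtStalkExact Groth.Agent.Helper6.ConsI Groth.Agent.Helper6.ConsR
  Groth.Agent.Helper6.ConsS Groth.Agent.Helper6.ConsJ Groth.Agent.Helper6.ConsM
  Groth.Agent.Helper6.ConsN Groth.Agent.Helper6.ConsD

attribute [local instance] preservesFilteredColimits_forget_ab ab5_ab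

variable {X : Scheme.{u}}

/-- a section with empty support vanishes -/
theorem eq_zero_of_forall_not_mem_sectSupp (F : EtCoh.Ab X) (U : X.Etale)
    (t : F.obj.obj (op U)) (h : ∀ x : U.left, x ∉ EtShriek.sectSupp F U t) : t = 0 := by
  let S : Sieve U :=
    { arrows := fun W g => F.obj.map g.op t = 0
      downward_closed := by
        intro W W' g hg k
        show F.obj.map (k ≫ g).op t = 0
        rw [op_comp, F.obj.map_comp, ConcreteCategory.comp_apply, hg, map_zero] }
  have hS : S ∈ X.smallEtaleTopology U := by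
    rw [Groth.Agent.Helper4.EtGeom.mem_iff]
    intro x
    have hx := h x
    simp only [EtShriek.sectSupp, Set.mem_ofPred_eq, not_forall, not_not] at hx
    obtain ⟨W, g, ⟨w, hw⟩, h0⟩ := hx
    exact ⟨W, g, w, h0, hw⟩
  refine Groth.Agent.Helper4.SecQC.sep F hS (fun W g hg => ?_)
  rw [map_zero]
  exact hg

section Pt

variable {Ω : Type u} [Field Ω] [IsSepClosed Ω]

set_option backward.isDefEq.respectTransparency.types false in
/-- points over a geometric point with vanishing stalk are not in the support of any section -/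
theorem not_mem_sectSupp_of_isZero_stalk (F : EtCoh.Ab X) (ξ : Spec (CommRingCat.of Ω) ⟶ X)
    (hz : IsZero ((EtCoh.stalk ξ).obj F)) (V : X.Etale) (s : F.obj.obj (op V)) (w : V.left)
    (hw : V.hom w = ξ default) : w ∉ EtShriek.sectSupp F V s := by
  have hsub : Subsingleton ↑((EtCoh.stalk ξ).obj F) := AddCommGrpCat.subsingleton_of_isZero hz
  haveI : Etale (Groth.Agent.Helper4.OverEtC.homS V) := V.prop
  obtain ⟨l₀, hl₀, hl₀y⟩ := Scheme.exists_fac_of_etale_of_isSepClosed
    (Groth.Agent.Helper4.OverEtC.homS V) ξ w hw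
  let l : (Scheme.pointSmallEtale ξ).fiber.obj V := Over.homMk l₀ hl₀
  have h0 : (Scheme.pointSmallEtale ξ).toPresheafFiber V l F.obj s =
      (Scheme.pointSmallEtale ξ).toPresheafFiber V l F.obj 0 :=
    @Subsingleton.elim _ hsub _ _
  obtain ⟨W, g, l₁, hl₁, hg⟩ :=
    ((Scheme.pointSmallEtale ξ).toPresheafFiber_eq_iff' V l s 0).1 h0
  let lW : Spec (CommRingCat.of Ω) ⟶ W.left := l₁.left
  have h1 : lW ≫ g.left = l₀ := by
    have := congrArg (fun m => m.left) hl₁
    exact this
  have hw' : g.left (lW default) = w := by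
    rw [← Scheme.Hom.comp_apply, h1]
    exact hl₀y
  intro hmem
  apply hmem W g ⟨lW default, hw'⟩
  rw [hg, map_zero]

end Pt

/-- closed subsets are pro-constructible -/
theorem pro_of_isClosed {Y : Scheme.{u}} {Z : Set Y} (hZ : IsClosed Z) :
    ProCons.IsProConstructible Z := by
  rw [Groth.Agent.Lead.ProConsLib.pro_iff_pieces]
  intro x hx
  obtain ⟨V₁, hV₁, hxV₁, hsub⟩ := exists_isAffineOpen_mem_and_subset (x := x)
    (U := (⟨Zᶜ, hZ.isOpen_compl⟩ : Y.Opens)) hx
  refine ⟨V₁, ∅, hV₁, isOpen_empty, isCompact_empty, Set.empty_subset _, hxV₁,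
    Set.notMem_empty x, ?_⟩
  intro y hy
  exact hsub hy.1

/-- a closed subset of a quasi-compact `X`-scheme missing the fibre over a generic point misses
the preimage of an affine open neighbourhood of the generic point -/
theorem exists_affine_open_disjoint {Y : Scheme.{u}} (v : Y ⟶ X) [QuasiCompact v] (η : X)
    (hη : ∀ x : X, η ⤳ x) (T : Set Y) (hT : IsClosed T) (h : ∀ w ∈ T, v w ≠ η) :
    ∃ W : X.Opens, IsAffineOpen W ∧ η ∈ W ∧ ∀ w ∈ T, v w ∉ W := by
  have hpro : ProCons.IsProConstructible (v.base '' T) :=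
    Groth.Agent.Lead.ProConsLib.pro_image v (pro_of_isClosed hT)
  have hη' : η ∉ closure (v.base '' T) := by
    intro hmem
    obtain ⟨z, ⟨w, hwT, rfl⟩, hz⟩ :=
      Groth.Agent.Lead.ProConsLib.exists_specializes_of_mem_closure hpro hmem
    exact h w hwT ((hz.antisymm (hη _)).eq)
  obtain ⟨W, hW, hηW, hsub⟩ := exists_isAffineOpen_mem_and_subset (x := η)
    (U := (⟨(closure (v.base '' T))ᶜ, isClosed_closure.isOpen_compl⟩ : X.Opens)) hη'
  refine ⟨W, hW, hηW, fun w hwT hwW => ?_⟩
  exact hsub hwW (subset_closure ⟨w, hwT, rfl⟩)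


section Restr

open Groth.Agent.Helper9.EtShriekOpen

variable {W : Scheme.{u}} (j : W ⟶ X) [Etale j] [EtShriek.JCont j]

lemma sheafAdj_unit_app_hom_app (F : EtCoh.Ab X) (V : X.Etale) :
    (((sheafAdj j).unit.app F).hom).app (op V) = F.obj.map ((siteAdj j).counit.app V).op := by
  dsimp [sheafAdj]
  simp

/-- a map out of `j_{V!} ℤ/n` given by a section vanishing over `W` restricts to zero on `W` -/
theorem restr_gen_eq_zero (V : X.Etale) (n : ℕ) (F : EtCoh.Ab X) (s : (evalAt V).obj F)
    (hs : n • s = 0) (h0 : F.obj.map ((siteAdj j).counit.app V).op s = 0) :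
    (EtShriek.restrAlong j).map (gen V n F s hs) = 0 := by
  haveI : (EtShriek.restrAlong j).Additive := (EtShriek.extZeroAdj j).right_adjoint_additive
  let adj := sheafAdj j
  have h1 : gen V n F s hs ≫ adj.unit.app F = 0 := by
    apply cyc_hom_ext
    rw [Functor.map_comp, ConcreteCategory.comp_apply, gen_apply, Functor.map_zero]
    show (((sheafAdj j).unit.app F).hom).app (op V) s = 0
    rw [sheafAdj_unit_app_hom_app]
    exact h0
  have h2 := adj.left_triangle_components F
  calc (EtShriek.restrAlong j).map (gen V n F s hs)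
      = (EtShriek.restrAlong j).map (gen V n F s hs) ≫ 𝟙 _ := (Category.comp_id _).symm
    _ = (EtShriek.restrAlong j).map (gen V n F s hs) ≫
          (EtShriek.restrAlong j).map (adj.unit.app F) ≫ adj.counit.app _ := by rw [h2]
    _ = (EtShriek.restrAlong j).map (gen V n F s hs ≫ adj.unit.app F) ≫ adj.counit.app _ := by
          rw [Functor.map_comp, Category.assoc]
    _ = 0 := by rw [h1, Functor.map_zero, zero_comp]

theorem counit_comp_gen_eq_zero (V : X.Etale) (n : ℕ) (F : EtCoh.Ab X) (s : (evalAt V).obj F)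
    (hs : n • s = 0) (h0 : F.obj.map ((siteAdj j).counit.app V).op s = 0) :
    (EtShriek.extZeroAdj j).counit.app (cyc V n) ≫ gen V n F s hs = 0 := by
  haveI : (EtShriek.extZero j).Additive := (EtShriek.extZeroAdj j).left_adjoint_additive
  have hn := (EtShriek.extZeroAdj j).counit.naturality (gen V n F s hs)
  simp only [Functor.comp_map, Functor.id_map] at hn
  rw [← hn, restr_gen_eq_zero j V n F s hs h0, Functor.map_zero, zero_comp]

/-- the restriction of a free sheaf is free -/
theorem isFreeOn_restrAlong {E : EtCoh.Ab X} {V : X.Etale} {A : AddCommGrpCat.{u + 1}}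
    (h : IsFreeOn E V A) : IsFreeOn ((EtShriek.restrAlong j).obj E) ((EtCoh.bc j).obj V) A :=
  isFreeOn_of_iso ((pullIsoRestr j).app E) (isFreeOn_pull j h)

end Restr


section Open

variable [CompactSpace X] [QuasiSeparatedSpace X] {W : Scheme.{u}} (j : W ⟶ X) [IsOpenImmersion j]
  [CompactSpace W] [QuasiSeparatedSpace W]

theorem isConstructible_shriek_restr_cyc (V : X.Etale) (hV : IsAffine V.left) (n : ℕ)
    (hn : 0 < n) :
    EtPBC.IsConstructible
      ((EtShriek.extZero j).obj ((EtShriek.restrAlong j).obj (cyc V n))) := by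
  haveI : NeZero n := ⟨hn.ne'⟩
  apply ConsL.isConstructible_extZero j
  let v : V.left ⟶ X := V.hom
  haveI : QuasiCompact v := @quasiCompact_of_compactSpace V.left X v _ _
  haveI : QuasiSeparated v := @QuasiSeparated.of_quasiSeparatedSpace V.left X v _
  have hqc : QuasiCompact (((EtCoh.bc j).obj V).hom : ((EtCoh.bc j).obj V).left ⟶ W) := by
    show QuasiCompact (pullback.snd v j)
    infer_instance
  have hqs : QuasiSeparated (((EtCoh.bc j).obj V).hom : ((EtCoh.bc j).obj V).left ⟶ W) := by
    show QuasiSeparated (pullback.snd v j)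
    infer_instance
  exact ConsG.isConstructible_of_isFreeOn ((EtCoh.bc j).obj V) hqc hqs (ZMod n) _
    (isFreeOn_restrAlong j (isFreeOn_cyc V n))

/-- the cokernel of the counit `j_! j⁻¹ E ⟶ E` is supported off the open `W` -/
theorem supp_cokernel_counit_subset (E : EtCoh.Ab X) :
    EtPBC.supp (cokernel ((EtShriek.extZeroAdj j).counit.app E)) ⊆ (Set.range j.base)ᶜ := by
  rw [supp_subset_iff]
  intro x hx
  rw [Set.notMem_compl_iff] at hx
  obtain ⟨y, rfl⟩ := hx
  let c := (EtShriek.extZeroAdj j).counit.app E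
  let u := geomPt y
  haveI : (EtCoh.stalk (u ≫ j)).Additive := Functor.additive_of_preserves_binary_products _
  haveI hiso := Groth.Agent.Helper9.EtRecollement.isIso_stalk_map_counit j E u
  have hz : IsZero ((EtCoh.stalk (u ≫ j)).obj (cokernel c)) := by
    have h0 : (EtCoh.stalk (u ≫ j)).map c ≫ (EtCoh.stalk (u ≫ j)).map (cokernel.π c) = 0 := by
      rw [← Functor.map_comp, cokernel.condition, Functor.map_zero]
    have h1 : (EtCoh.stalk (u ≫ j)).map (cokernel.π c) = 0 := by
      rw [← cancel_epi ((EtCoh.stalk (u ≫ j)).map c), h0, comp_zero]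
    exact IsZero.of_epi_eq_zero _ h1
  refine Groth.Agent.Helper6.ConsH.isZero_stalk_of_isZero_stalk _ (u ≫ j) (geomPt (j.base y)) ?_ hz
  rw [geomPt_default]
  show j.base (u.base default) = _
  have : u.base default = y := geomPt_default y
  rw [this]

end Open


section Main

open Groth.Agent.Helper9.EtShriekOpen

variable [CompactSpace X] [QuasiSeparatedSpace X] [IrreducibleSpace X]

set_option backward.isDefEq.respectTransparency.types false in
theorem main (F : EtCoh.Ab X) (hF : EtCoh.IsTorsion F) (hη : genericPoint X ∉ EtPBC.supp F) :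
    ∃ (J : Type (u + 1)) (_ : SmallCategory J) (_ : IsFiltered J) (D : J ⥤ EtCoh.Ab X)
      (c : Cocone D) (_ : IsColimit c), Nonempty (c.pt ≅ F) ∧
      ∀ j, EtPBC.IsConstructible (D.obj j) ∧
        ∃ Z : Set X, IsClosed Z ∧ genericPoint X ∉ Z ∧ EtPBC.supp (D.obj j) ⊆ Z := by
  let 𝒵 : Set (Set X) := {Z | IsClosed Z ∧ genericPoint X ∉ Z}
  have hPr : GoodProp (PrC 𝒵) := goodProp_prC 𝒵 ⟨∅, isClosed_empty, Set.notMem_empty _⟩
    (fun Z₁ h₁ Z₂ h₂ => ⟨h₁.1.union h₂.1, fun h => h.elim h₁.2 h₂.2⟩)
  have hzη : IsZero ((EtCoh.stalk (geomPt (genericPoint X))).obj F) :=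
    (not_mem_supp_iff F _).1 hη
  obtain ⟨J, i1, i2, D, c, hc, hiso, hD⟩ := mainP F hPr (by
    intro Ω _ _ ξ γ
    obtain ⟨n, hn, hγ⟩ := exists_nsmul_eq_zero_of_isTorsion F ξ hF γ
    obtain ⟨V, hV, l, s, hs, rfl⟩ := exists_affine_section ξ F γ n hγ
    let g : cyc V n ⟶ F := gen V n F s hs
    let v : V.left ⟶ X := V.hom
    haveI : QuasiCompact v := @quasiCompact_of_compactSpace V.left X v _ _
    obtain ⟨W, hW, hηW, hdisj⟩ := exists_affine_open_disjoint v (genericPoint X)
      (fun x => genericPoint_specializes x)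
      (EtShriek.sectSupp F V s) (Groth.Agent.Helper9.EtSectSupp.isClosed_sectSupp F V s) (by
        intro w hw hweq
        exact not_mem_sectSupp_of_isZero_stalk F (geomPt (genericPoint X)) hzη V s w (by
          rw [geomPt_default]
          exact hweq) hw)
    let j : W.toScheme ⟶ X := W.ι
    haveI : IsAffine W.toScheme := hW
    have h0 : F.obj.map ((siteAdj j).counit.app V).op s = 0 := by
      apply eq_zero_of_forall_not_mem_sectSupp
      intro x hx
      have hx' := Groth.Agent.Helper6.ClPtD.sectSupp_map_subset F ((siteAdj j).counit.app V) s hx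
      apply hdisj _ hx'
      have hw := MorphismProperty.Over.w ((siteAdj j).counit.app V)
      have hw' : v (((siteAdj j).counit.app V).left x) =
          j ((((EtCoh.bc j).obj V).hom : ((EtCoh.bc j).obj V).left ⟶ W.toScheme) x) := by
        rw [← Scheme.Hom.comp_apply, ← Scheme.Hom.comp_apply]
        exact congrArg (fun m : _ ⟶ X => m.base x) hw
      show v (((siteAdj j).counit.app V).left x) ∈ W
      rw [hw']
      exact (((EtCoh.bc j).obj V).hom x).2
    have hcomp := counit_comp_gen_eq_zero j V n F s hs h0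
    refine ⟨cokernel ((EtShriek.extZeroAdj j).counit.app (cyc V n)),
      cokernel.desc ((EtShriek.extZeroAdj j).counit.app (cyc V n)) g hcomp,
      (EtCoh.stalk ξ).map (cokernel.π ((EtShriek.extZeroAdj j).counit.app (cyc V n)))
        ((Scheme.pointSmallEtale ξ).toPresheafFiber V l (cyc V n).obj (unitHom V n (ULift.up 1))),
      ?_, ?_, ?_⟩
    · exact Groth.Agent.Helper4.SuppC.isConstructible_cokernel _
        (isConstructible_shriek_restr_cyc j V hV n hn) (isConstructible_cyc V hV n hn)
    · refine ⟨(W : Set X)ᶜ, ⟨W.2.isClosed_compl, fun h => h hηW⟩, ?_⟩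
      have := supp_cokernel_counit_subset j (cyc V n)
      rwa [Scheme.Opens.range_ι] at this
    · rw [← ConcreteCategory.comp_apply, ← Functor.map_comp, cokernel.π_desc]
      exact gen_stalk ξ V n F s hs l)
  refine ⟨J, i1, i2, D, c, hc, hiso, fun j => ⟨(hD j).1, ?_⟩⟩
  obtain ⟨Z, ⟨hZ1, hZ2⟩, hZ3⟩ := (hD j).2
  exact ⟨Z, hZ1, hZ2, hZ3⟩

end Main

end Groth.Agent.Helper6.ConsU
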