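import Mathlib
import Groth.Prelude.Def_EtBase
import Groth.Prelude.Def_PBC
import Groth.Agent.Helper6.ConsH
import Groth.Agent.Helper6.ConsM
import Groth.Agent.Helper6.ConsN
import Groth.Agent.Helper6.ConsO
import Groth.Agent.Helper4.StrataD
import Groth.Agent.Helper4.StrataF
import Groth.Agent.Helper9.EtStalkFamily
import Groth.Agent.Lead.ProConsLib7
import Groth.Agent.Helper4.FlcPull

set_option autoImplicit false
set_option linter.style.haveILetI false
set_option linter.unusedSectionVars false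
set_option linter.unusedVariables false
set_option linter.unusedSimpArgs false

/-!
# Constructibility can be tested after a surjective base change (S0135)
-/

universe u

open CategoryTheory CategoryTheory.Limits AlgebraicGeometry Opposite Topology

namespace Groth.Agent.Helper6.ConsV

open Groth.Agent.Helper9.EtStalkExact Groth.Agent.Helper9.EtStalkPull
  Groth.Agent.Helper9.EtStalkFamily
  Groth.Agent.Helper4.StrataA Groth.Agent.Helper4.StrataB Groth.Agent.Helper4.StrataC
  Groth.Agent.Helper4.StrataD Groth.Agent.Helper4.ConsSerre Groth.Agent.Helper4.SuppC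
  Groth.Agent.Helper6.ConsJ Groth.Agent.Helper6.ConsM Groth.Agent.Helper6.ConsN
  Groth.Agent.Helper6.CptObj

attribute [local instance] preservesFilteredColimits_forget_ab ab5_ab

/-- inverse images of constructible sheaves are constructible -/
theorem isConstructible_pull {X Y : Scheme.{u}} (f : X ⟶ Y) (F : EtCoh.Ab Y)
    (hF : EtPBC.IsConstructible F) : EtPBC.IsConstructible ((EtCoh.pull f).obj F) := by
  intro U hU
  rw [← strat_iff]
  haveI : QuasiSeparatedSpace ↥(U : Set X) :=
    (isQuasiSeparated_iff_quasiSeparatedSpace _ U.2).1 hU.isQuasiSeparated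
  refine strat_of_local _ U hU.isCompact ?_
  intro x hx
  obtain ⟨V, hV, hxV, -⟩ := (TopologicalSpace.Opens.isBasis_iff_nbhd.1 Y.isBasis_affineOpens)
    (show f x ∈ (⊤ : Y.Opens) from trivial)
  have hx' : x ∈ U ⊓ f ⁻¹ᵁ V := ⟨hx, hxV⟩
  obtain ⟨W, hW, hxW, hWU⟩ := (TopologicalSpace.Opens.isBasis_iff_nbhd.1 X.isBasis_affineOpens) hx'
  refine ⟨W, hW, hxW, hWU.trans inf_le_left, ?_⟩
  exact strat_pull f F V W (hWU.trans inf_le_right) ((strat_iff F _).2 (hF V hV))

variable {Y : Scheme.{u}}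

set_option backward.isDefEq.respectTransparency.types false in
/-- a sheaf is torsion as soon as, over every point, the stalk at some geometric point is torsion -/
theorem isTorsion_of_family (F : EtCoh.Ab Y)
    (h : ∀ y : Y, ∃ (Ω : Type u) (_ : Field Ω) (_ : IsSepClosed Ω)
      (ξ : Spec (CommRingCat.of Ω) ⟶ Y), ξ default = y ∧
        ∀ γ : ↑((EtCoh.stalk ξ).obj F), IsOfFinAddOrder γ) : EtCoh.IsTorsion F := by
  intro U s x
  obtain ⟨Ω, _, _, ξ, hξ, htors⟩ := h (U.hom x)
  haveI : Etale (Groth.Agent.Helper4.OverEtC.homS U) := U.prop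
  obtain ⟨l₀, hl₀, hl₀y⟩ := Scheme.exists_fac_of_etale_of_isSepClosed
    (Groth.Agent.Helper4.OverEtC.homS U) ξ x hξ.symm
  let l : (Scheme.pointSmallEtale ξ).fiber.obj U := Over.homMk l₀ hl₀
  obtain ⟨n, hn, hγ⟩ := (htors ((Scheme.pointSmallEtale ξ).toPresheafFiber U l F.obj s)).exists_nsmul_eq_zero
  have h0 : (Scheme.pointSmallEtale ξ).toPresheafFiber U l F.obj (n • s) =
      (Scheme.pointSmallEtale ξ).toPresheafFiber U l F.obj 0 := by
    rw [map_nsmul]
    exact hγ.trans (map_zero _).symm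
  obtain ⟨W, g, l₁, hl₁, hg⟩ :=
    ((Scheme.pointSmallEtale ξ).toPresheafFiber_eq_iff' U l (n • s) 0).1 h0
  let lW : Spec (CommRingCat.of Ω) ⟶ W.left := l₁.left
  have h1 : lW ≫ g.left = l₀ := by
    have := congrArg (fun m => m.left) hl₁
    exact this
  have hw' : g.left (lW default) = x := by
    rw [← Scheme.Hom.comp_apply, h1]
    exact hl₀y
  refine ⟨W, g, ⟨lW default, hw'⟩, ?_⟩
  rw [isOfFinAddOrder_iff_nsmul_eq_zero]
  refine ⟨n, hn, ?_⟩
  rw [← map_nsmul, hg, map_zero]


section Stalk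

variable {X' : Scheme.{u}} (f' : X' ⟶ Y) {Ω : Type u} [Field Ω] [IsSepClosed Ω]
  (ξ' : Spec (CommRingCat.of Ω) ⟶ X')

/-- a map whose inverse image is a split epimorphism is surjective on the stalks at the image
geometric points -/
lemma surjective_stalk_of_split {G G' : EtCoh.Ab Y} (a : G ⟶ G')
    (s : (EtCoh.pull f').obj G' ⟶ (EtCoh.pull f').obj G) (hs : s ≫ (EtCoh.pull f').map a = 𝟙 _) :
    Function.Surjective ((EtCoh.stalk (ξ' ≫ f')).map a) := by
  have hnat := (stalkPullIso f' ξ').hom.naturality a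
  have h1 : (EtCoh.stalk ξ').map s ≫ (EtCoh.stalk ξ').map ((EtCoh.pull f').map a) = 𝟙 _ := by
    rw [← Functor.map_comp, hs, CategoryTheory.Functor.map_id]
  haveI : IsSplitEpi ((EtCoh.stalk ξ').map ((EtCoh.pull f').map a)) := IsSplitEpi.mk' ⟨_, h1⟩
  rw [← AddCommGrpCat.epi_iff_surjective]
  have h2 : (EtCoh.stalk (ξ' ≫ f')).map a = (stalkPullIso f' ξ').inv.app G ≫
      (EtCoh.stalk ξ').map ((EtCoh.pull f').map a) ≫ (stalkPullIso f' ξ').hom.app G' := by
    rw [← Functor.comp_map, hnat, Iso.inv_hom_id_app_assoc]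
  rw [h2]
  infer_instance

/-- finiteness of the stalk of the inverse image gives finiteness of the stalk -/
lemma isOfFinAddOrder_stalk_of_pull (F : EtCoh.Ab Y) [CompactSpace X'] [QuasiSeparatedSpace X']
    (h : EtPBC.IsConstructible ((EtCoh.pull f').obj F))
    (γ : ↑((EtCoh.stalk (ξ' ≫ f')).obj F)) : IsOfFinAddOrder γ := by
  haveI : Finite ↑((EtCoh.stalk ξ').obj ((EtCoh.pull f').obj F)) :=
    Groth.Agent.Helper6.ConsH.finite_stalk_of_isConstructible _ h ξ'
  let e : (EtCoh.stalk ξ').obj ((EtCoh.pull f').obj F) ≅ (EtCoh.stalk (ξ' ≫ f')).obj F :=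
    (stalkPullIso f' ξ').app F
  haveI : Finite ↑((EtCoh.stalk (ξ' ≫ f')).obj F) :=
    Finite.of_equiv _ e.addCommGroupIsoToAddEquiv.toEquiv
  exact isOfFinAddOrder_of_finite γ

end Stalk


section Core

variable [CompactSpace Y] [QuasiSeparatedSpace Y] {ι : Type} [Finite ι]
  (X : ι → Scheme.{u}) [∀ i, CompactSpace (X i)] [∀ i, QuasiSeparatedSpace (X i)]
  (f : ∀ i, X i ⟶ Y) (hsurj : ∀ y : Y, ∃ (i : ι) (x : X i), f i x = y)

include hsurj in
/-- a torsion sheaf all of whose inverse images along a finite jointly surjective family are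
constructible is a quotient of a constructible sheaf -/
theorem exists_epi_of_pull (G : EtCoh.Ab Y) (hG : EtCoh.IsTorsion G)
    (h : ∀ i, EtPBC.IsConstructible ((EtCoh.pull (f i)).obj G)) :
    ∃ (C : EtCoh.Ab Y) (p : C ⟶ G), EtPBC.IsConstructible C ∧ Epi p := by
  classical
  haveI : Fintype ι := Fintype.ofFinite ι
  obtain ⟨J, _, _, D, c, hc, hD, ⟨e⟩⟩ := Groth.Agent.Helper6.ConsN.main G hG
  have key : ∀ i, ∃ (l : J) (b : (EtCoh.pull (f i)).obj G ⟶ (EtCoh.pull (f i)).obj (D.obj l)),
      b ≫ (EtCoh.pull (f i)).map (c.ι.app l ≫ e.hom) = 𝟙 _ := by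
    intro i
    haveI : (EtCoh.pull (f i)).IsLeftAdjoint := (EtCoh.pullPushAdj (f i)).isLeftAdjoint
    have hc' := isColimitOfPreserves (EtCoh.pull (f i)) hc
    have hcpt := isCpt_of_isConstructible J ((EtCoh.pull (f i)).obj c.pt)
      (isConstructible_of_iso ((EtCoh.pull (f i)).mapIso e.symm) (h i))
    obtain ⟨l, b, hb⟩ := (hcpt _ _ hc').1 (𝟙 _)
    have hb' : b ≫ (EtCoh.pull (f i)).map (c.ι.app l) = 𝟙 _ := hb
    refine ⟨l, (EtCoh.pull (f i)).map e.inv ≫ b, ?_⟩
    rw [Functor.map_comp, Category.assoc, reassoc_of% hb', ← Functor.map_comp, Iso.inv_hom_id,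
      CategoryTheory.Functor.map_id]
  choose l b hb using key
  obtain ⟨m, hm⟩ := IsFiltered.sup_objs_exists (Finset.univ.image l)
  have t : ∀ i, l i ⟶ m := fun i => (hm (Finset.mem_image_of_mem l (Finset.mem_univ i))).some
  refine ⟨D.obj m, c.ι.app m ≫ e.hom, hD m, ?_⟩
  apply epi_of_family
  intro y
  obtain ⟨i, x, rfl⟩ := hsurj y
  refine ⟨_, inferInstance, inferInstance, geomPt x ≫ f i, ?_, ?_⟩
  · rw [Scheme.Hom.comp_apply, geomPt_default]
  · apply surjective_stalk_of_split (f i) (geomPt x) (c.ι.app m ≫ e.hom)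
      (b i ≫ (EtCoh.pull (f i)).map (D.map (t i)))
    rw [Category.assoc, ← Functor.map_comp, ← Category.assoc (D.map (t i)), c.w (t i)]
    exact hb i

include hsurj in
/-- **constructibility descends along a finite jointly surjective family** of quasi-compact
quasi-separated schemes -/
theorem core (F : EtCoh.Ab Y) (h : ∀ i, EtPBC.IsConstructible ((EtCoh.pull (f i)).obj F)) :
    EtPBC.IsConstructible F := by
  have hF : EtCoh.IsTorsion F := by
    apply isTorsion_of_family
    intro y
    obtain ⟨i, x, rfl⟩ := hsurj y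
    refine ⟨_, inferInstance, inferInstance, geomPt x ≫ f i, ?_, ?_⟩
    · rw [Scheme.Hom.comp_apply, geomPt_default]
    · exact isOfFinAddOrder_stalk_of_pull (f i) (geomPt x) F (h i)
  obtain ⟨C, p, hC, hp⟩ := exists_epi_of_pull X f hsurj F hF h
  have hK : EtCoh.IsTorsion (kernel p) := by
    apply isTorsion_of_family
    intro y
    refine ⟨_, inferInstance, inferInstance, geomPt y, geomPt_default y, ?_⟩
    intro γ
    haveI : Finite ↑((EtCoh.stalk (geomPt y)).obj C) :=
      Groth.Agent.Helper6.ConsH.finite_stalk_of_isConstructible _ hC _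
    have hinj := (mono_iff_stalks (kernel.ι p)).1 inferInstance _ (geomPt y)
    obtain ⟨n, hn, hγ⟩ := (isOfFinAddOrder_of_finite
      ((EtCoh.stalk (geomPt y)).map (kernel.ι p) γ)).exists_nsmul_eq_zero
    rw [isOfFinAddOrder_iff_nsmul_eq_zero]
    refine ⟨n, hn, hinj ?_⟩
    rw [map_nsmul, map_zero]
    exact hγ
  have hK' : ∀ i, EtPBC.IsConstructible ((EtCoh.pull (f i)).obj (kernel p)) := by
    intro i
    haveI : PreservesFiniteLimits (EtCoh.pull (f i)) := inferInstance
    exact isConstructible_of_iso (PreservesKernel.iso (EtCoh.pull (f i)) p).symm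
      (isConstructible_kernel _ (isConstructible_pull (f i) C hC) (h i))
  obtain ⟨C', q, hC', hq⟩ := exists_epi_of_pull X f hsurj (kernel p) hK hK'
  obtain ⟨e⟩ := nonempty_iso_cokernel p q
  exact isConstructible_of_iso e.symm (isConstructible_cokernel _ hC' hC)

end Core


section Lfp

open Groth.Agent.Lead Groth.Agent.Helper4.FlcPull Groth.Agent.Helper4.StrataF

/-- **constructibility descends along surjective morphisms locally of finite presentation** -/
theorem isConstructible_of_pull_lfp {X Y : Scheme.{u}} (f : X ⟶ Y) [Surjective f]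
    [LocallyOfFinitePresentation f] (F : EtCoh.Ab Y)
    (h : EtPBC.IsConstructible ((EtCoh.pull f).obj F)) : EtPBC.IsConstructible F := by
  classical
  intro V hV
  rw [← strat_iff]
  haveI : IsAffine V.toScheme := hV
  have hx : ∀ y : V.toScheme, ∃ (U : X.Opens), IsAffineOpen U ∧ U ≤ f ⁻¹ᵁ V ∧
      ∃ x ∈ U, f x = y.1 := by
    intro y
    obtain ⟨x, hx⟩ := (inferInstance : Surjective f).surj y.1
    have hxV : x ∈ f ⁻¹ᵁ V := by
      show f x ∈ V
      rw [hx]
      exact y.2
    obtain ⟨U, hU, hxU, hUV⟩ := (TopologicalSpace.Opens.isBasis_iff_nbhd.1 X.isBasis_affineOpens) hxV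
    exact ⟨U, hU, hUV, x, hxU, hx⟩
  choose U hU hUV x hxU hfx using hx
  haveI : ∀ y, IsAffine (U y).toScheme := hU
  let g : ∀ y : V.toScheme, (U y).toScheme ⟶ V.toScheme := fun y => f.resLE V (U y) (hUV y)
  have hg : ∀ y, g y ≫ V.ι = (U y).ι ≫ f := fun y => Scheme.Hom.resLE_comp_ι f (hUV y)
  have hy : ∀ y : V.toScheme, y ∈ Set.range (g y) := by
    intro y
    refine ⟨⟨x y, hxU y⟩, ?_⟩
    apply V.ι.isOpenEmbedding.injective
    rw [← Scheme.Hom.comp_apply, hg y, Scheme.Hom.comp_apply]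
    exact hfx y
  have hE : ∀ y, ProCons.IsIndConstructible (Set.range (g y)) := by
    intro y
    rw [← Set.image_univ]
    exact ProConsLib.ind_image (g y)
      (ProConsLib.ind_of_isLocallyConstructible Topology.IsLocallyConstructible.univ)
  obtain ⟨J, hJ⟩ := ProConsLib.exists_finite_subcover (X := V.toScheme) ProConsLib.pro_univ
    (fun y ↦ Set.range (g y)) hE (fun y _ ↦ Set.mem_iUnion.mpr ⟨y, hy y⟩)
  let e : Fin J.card ≃ J := J.equivFin.symm
  have hcons : EtPBC.IsConstructible ((EtCoh.pull V.ι).obj F) := by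
    refine core (ι := Fin J.card) (fun i => (U (e i).1).toScheme) (fun i => g (e i).1) ?_ _ ?_
    · intro y
      have := hJ (Set.mem_univ y)
      simp only [Set.mem_iUnion] at this
      obtain ⟨y', hy'J, ⟨x', hx'⟩⟩ := this
      have key : ∀ t : J, t = ⟨y', hy'J⟩ → ∃ x : (U t.1).toScheme, g t.1 x = y := by
        rintro _ rfl
        exact ⟨x', hx'⟩
      exact ⟨e.symm ⟨y', hy'J⟩, key _ (Equiv.apply_symm_apply e _)⟩
    · intro i
      exact isConstructible_of_iso (pullSq (U (e i).1).ι f (g (e i).1) V.ι (hg _).symm F)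
        (isConstructible_pull (U (e i).1).ι _ h)
  have hs := strat_univ_of_isConstructible _ hcons
  have := strat_push V.ι F Set.univ hs
  rwa [Set.image_univ, Scheme.Opens.range_ι] at this

end Lfp

end Groth.Agent.Helper6.ConsV
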