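import Mathlib
import Groth.Prelude.Def_EtBase
import Groth.Prelude.Def_PBC
import Groth.Prelude.Def_EtShriek2
import Groth.Agent.Helper6.ConsV
import Groth.Agent.Helper6.ConsK
import Groth.Agent.Helper6.FEtTrA
import Groth.Agent.Helper3.FRank2
import Groth.Agent.Helper9.EtRetr
import Groth.Agent.Helper9.EtShriekBC
import Groth.Agent.Helper9.EtShriekOpen
import Groth.Agent.Helper9.EtJCont
import Groth.Agent.Helper9.EtPushClosedZero
import Groth.Agent.Helper9.EtClosedEss

set_option autoImplicit false
set_option linter.style.haveILetI false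
set_option linter.unusedSectionVars false
set_option linter.unusedVariables false
set_option linter.unusedSimpArgs false

/-!
# Direct images of constructible sheaves along finite étale morphisms (S0136)
-/

universe u

open CategoryTheory CategoryTheory.Limits AlgebraicGeometry Opposite Topology

namespace Groth.Agent.Helper6.ConsW

open Groth.Agent.Helper9.EtStalkExact Groth.Agent.Helper4.ConsSerre Groth.Agent.Helper4.SuppC
  Groth.Agent.Helper6.ConsI Groth.Agent.Helper6.ConsV

attribute [local instance] preservesFilteredColimits_forget_ab ab5_ab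

section Split

variable {P Y : Scheme.{u}} (p : P ⟶ Y) {n : ℕ} (inj : Fin n → (Y ⟶ P))
  (hinj : ∀ i, inj i ≫ p = 𝟙 Y) (hc : IsColimit (Cofan.mk P inj))

include hc in
lemma isClosedImmersion_inj (i : Fin n) : IsClosedImmersion (inj i) := by
  haveI := FEtTrA.isOpenImmersion inj hc i
  apply IsClosedImmersion.of_isPreimmersion
  have hcompl : (Set.range (inj i))ᶜ = ⋃ k ∈ {k : Fin n | k ≠ i}, Set.range (inj k) := by
    ext x
    simp only [Set.mem_compl_iff, Set.mem_range, not_exists, Set.mem_ofPred_eq, Set.mem_iUnion,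
      exists_prop]
    constructor
    · intro hx
      obtain ⟨k, a, hk⟩ := FEtTrA.exists_eq inj hc x
      refine ⟨k, ?_, a, hk⟩
      rintro rfl
      exact hx a hk
    · rintro ⟨k, hki, a, rfl⟩ b hb
      exact FEtTrA.ne_of_ne inj hc hki a b hb.symm
  rw [← isOpen_compl_iff, hcompl]
  refine isOpen_biUnion (fun k _ => ?_)
  haveI := FEtTrA.isOpenImmersion inj hc k
  exact (inj k).isOpenEmbedding.isOpen_range


variable (G : EtCoh.Ab P)

/-- the summands `(inj i)_* (inj i)⁻¹ G` -/
noncomputable abbrev summand (i : Fin n) : EtCoh.Ab P :=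
  (EtCoh.push (inj i)).obj ((EtCoh.pull (inj i)).obj G)

/-- the sum of the units -/
noncomputable def θ : G ⟶ ⨁ fun i => summand inj G i :=
  biproduct.lift (fun i => (EtCoh.pullPushAdj (inj i)).unit.app G)

include hc in
set_option backward.isDefEq.respectTransparency.types false in
theorem isIso_stalk_θ {Ω : Type u} [Field Ω] [IsSepClosed Ω] (ξ : Spec (CommRingCat.of Ω) ⟶ P) :
    IsIso ((EtCoh.stalk ξ).map (θ inj G)) := by
  classical
  haveI : ∀ i, IsClosedImmersion (inj i) := isClosedImmersion_inj inj hc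
  haveI : ∀ i, IsOpenImmersion (inj i) := FEtTrA.isOpenImmersion inj hc
  obtain ⟨k, a, hk⟩ := FEtTrA.exists_eq inj hc (ξ default)
  have hr : Set.range ξ.base ⊆ Set.range (inj k).base := by
    rintro _ ⟨pt, rfl⟩
    rw [Subsingleton.elim pt default]
    exact ⟨a, hk⟩
  let ζ : Spec (CommRingCat.of Ω) ⟶ Y := IsOpenImmersion.lift (inj k) ξ hr
  have hζ : ζ ≫ inj k = ξ := IsOpenImmersion.lift_fac (inj k) ξ hr
  have hzero : ∀ i, i ≠ k → IsZero ((EtCoh.stalk ξ).obj (summand inj G i)) := by
    intro i hi
    apply Groth.Agent.Helper9.EtPushClosedZero.main (inj i)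
    rw [Set.disjoint_left]
    rintro _ ⟨pt, rfl⟩ ⟨b, hb⟩
    have h1 : ξ.base pt = inj k (ζ pt) := by
      rw [← hζ]
      rfl
    exact FEtTrA.ne_of_ne inj hc hi b (ζ pt) (hb.trans h1)
  haveI hiso : IsIso ((EtCoh.stalk ξ).map ((EtCoh.pullPushAdj (inj k)).unit.app G)) := by
    have := Groth.Agent.Helper9.EtClosedEss.isIso_stalk_map_unit (inj k) G ζ
    rwa [hζ] at this
  haveI : (EtCoh.stalk ξ).Additive := Functor.additive_of_preserves_binary_products _
  have hu : ∀ i, i ≠ k → (EtCoh.stalk ξ).map ((EtCoh.pullPushAdj (inj i)).unit.app G) = 0 :=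
    fun i hi => (hzero i hi).eq_of_tgt _ _
  have hπ : ∀ i, i ≠ k →
      (EtCoh.stalk ξ).map (biproduct.π (fun i => summand inj G i) i) = 0 :=
    fun i hi => (hzero i hi).eq_of_tgt _ _
  have hθk : (EtCoh.stalk ξ).map (θ inj G) ≫
      (EtCoh.stalk ξ).map (biproduct.π (fun i => summand inj G i) k) =
        (EtCoh.stalk ξ).map ((EtCoh.pullPushAdj (inj k)).unit.app G) := by
    rw [← Functor.map_comp, θ, biproduct.lift_π]
  have htot : 𝟙 ((EtCoh.stalk ξ).obj (⨁ fun i => summand inj G i)) =
      (EtCoh.stalk ξ).map (biproduct.π (fun i => summand inj G i) k) ≫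
        (EtCoh.stalk ξ).map (biproduct.ι (fun i => summand inj G i) k) := by
    rw [← CategoryTheory.Functor.map_id, ← biproduct.total, Functor.map_sum,
      Finset.sum_eq_single k]
    · rw [Functor.map_comp]
    · intro i _ hi
      rw [Functor.map_comp, hπ i hi, zero_comp]
    · intro h
      exact (h (Finset.mem_univ k)).elim
  have hθ : (EtCoh.stalk ξ).map (θ inj G) =
      (EtCoh.stalk ξ).map ((EtCoh.pullPushAdj (inj k)).unit.app G) ≫
        (EtCoh.stalk ξ).map (biproduct.ι (fun i => summand inj G i) k) := by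
    rw [θ, biproduct.lift_eq, Functor.map_sum, Finset.sum_eq_single k]
    · rw [Functor.map_comp]
    · intro i _ hi
      rw [Functor.map_comp, hu i hi, zero_comp]
    · intro h
      exact (h (Finset.mem_univ k)).elim
  refine ⟨⟨(EtCoh.stalk ξ).map (biproduct.π (fun i => summand inj G i) k) ≫
    inv ((EtCoh.stalk ξ).map ((EtCoh.pullPushAdj (inj k)).unit.app G)), ?_, ?_⟩⟩
  · rw [← Category.assoc, hθk, IsIso.hom_inv_id]
  · rw [htot, hθ, Category.assoc, IsIso.inv_hom_id_assoc]

include hc in
theorem isIso_θ : IsIso (θ inj G) := by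
  haveI : Mono (θ inj G) := by
    rw [mono_iff_stalks]
    intro Ω _ _ ξ
    haveI := isIso_stalk_θ inj hc G ξ
    exact ((ConcreteCategory.isIso_iff_bijective _).1 inferInstance).1
  haveI : Epi (θ inj G) := by
    rw [epi_iff_stalks]
    intro Ω _ _ ξ
    haveI := isIso_stalk_θ inj hc G ξ
    exact ((ConcreteCategory.isIso_iff_bijective _).1 inferInstance).2
  exact isIso_of_mono_of_epi _


include hinj hc in
/-- the direct image along a split covering is the sum of the restrictions to the sheets -/
theorem nonempty_push_iso :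
    Nonempty ((EtCoh.push p).obj G ≅ ⨁ fun i => (EtCoh.pull (inj i)).obj G) := by
  haveI := isIso_θ inj hc G
  haveI : (EtCoh.push p).IsRightAdjoint := (EtCoh.pullPushAdj p).isRightAdjoint
  haveI : PreservesBiproductsOfShape (Fin n) (EtCoh.push p) :=
    preservesBiproductsOfShape_of_preservesProductsOfShape _
  let e1 : (EtCoh.push p).obj G ≅ (EtCoh.push p).obj (⨁ fun i => summand inj G i) :=
    (EtCoh.push p).mapIso (asIso (θ inj G))
  let e2 : (EtCoh.push p).obj (⨁ fun i => summand inj G i) ≅
      ⨁ fun i => (EtCoh.push p).obj (summand inj G i) := (EtCoh.push p).mapBiproduct _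
  let e3 : ∀ i, (EtCoh.push p).obj (summand inj G i) ≅ (EtCoh.pull (inj i)).obj G := fun i =>
    (EtCoh.pushComp p (inj i)).app _ ≪≫ (EtCoh.pushCongr (hinj i)).app _ ≪≫
      (Groth.Agent.Helper9.EtRetr.pushId Y).app _
  exact ⟨e1 ≪≫ e2 ≪≫ biproduct.mapIso e3⟩

include hinj hc in
theorem isConstructible_push_of_split {K₀ : EtCoh.Ab Y} (hK₀ : EtPBC.IsConstructible K₀)
    (hG : EtPBC.IsConstructible G) : EtPBC.IsConstructible ((EtCoh.push p).obj G) := by
  obtain ⟨e⟩ := nonempty_push_iso p inj hinj hc G
  exact isConstructible_of_iso e.symm (isConstructible_biproduct hK₀ (Fin n) _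
    (fun i => isConstructible_pull (inj i) G hG))

end Split


section ConstRank

open Groth.Agent.Helper9.EtShriekOpen

variable {X Y : Scheme.{u}} [CompactSpace Y] [QuasiSeparatedSpace Y] (φ : X ⟶ Y) [IsFinite φ]
  [Etale φ]

/-- direct images of constructible sheaves along a finite étale morphism of constant rank -/
theorem isConstructible_push_of_rank (d : ℕ) (hrank : ∀ s, φ.finrank s = d) (F : EtCoh.Ab X)
    (hF : EtPBC.IsConstructible F) : EtPBC.IsConstructible ((EtCoh.push φ).obj F) := by
  obtain ⟨Y', ψ, hψf, hψe, hψs, -, inj, hinj, ⟨hc⟩⟩ :=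
    Groth.Agent.Helper3.FSplit.splitDeg d φ hrank
  haveI := hψf
  haveI := hψe
  haveI := hψs
  haveI : CompactSpace Y' := QuasiCompact.compactSpace_of_compactSpace ψ
  haveI : QuasiSeparatedSpace Y' := quasiSeparatedSpace_of_quasiSeparated ψ
  apply isConstructible_of_pull_lfp ψ
  let e := Groth.Agent.Helper9.EtShriekBC.rightIso ψ φ (pullback.fst φ ψ) (pullback.snd φ ψ)
    (IsPullback.of_hasPullback φ ψ)
  have h1 : EtPBC.IsConstructible ((EtShriek.restrAlong (pullback.fst φ ψ)).obj F) :=
    isConstructible_of_iso ((pullIsoRestr (pullback.fst φ ψ)).app F)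
      (isConstructible_pull (pullback.fst φ ψ) F hF)
  have h2 : EtPBC.IsConstructible
      ((EtCoh.push (pullback.snd φ ψ)).obj ((EtShriek.restrAlong (pullback.fst φ ψ)).obj F)) :=
    isConstructible_push_of_split (pullback.snd φ ψ) inj hinj hc _
      (Groth.Agent.Helper6.ConsK.isConstructible_cyc_top (X := Y')) h1
  exact isConstructible_of_iso (e.app F ≪≫ ((pullIsoRestr ψ).app _).symm) h2

end ConstRank


section General

open Groth.Agent.Helper9.EtShriekOpen Groth.Agent.Helper4.FlcPull Groth.Agent.Helper4.StrataB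
  Groth.Agent.Helper4.StrataC Groth.Agent.Helper4.StrataF

/-- **direct images of constructible sheaves along finite étale morphisms are constructible** -/
theorem isConstructible_push_finEtale {X Y : Scheme.{u}} (φ : X ⟶ Y) [IsFinite φ] [Etale φ]
    (F : EtCoh.Ab X) (hF : EtPBC.IsConstructible F) :
    EtPBC.IsConstructible ((EtCoh.push φ).obj F) := by
  classical
  intro V hV
  rw [← strat_iff]
  haveI : IsAffine V.toScheme := hV
  have hflat : Flat φ := inferInstance
  have hlc : IsLocallyConstant φ.finrank := Scheme.Hom.isLocallyConstant_finrank φ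
  let r : V.toScheme → ℕ := fun y => φ.finrank (V.ι y)
  have hr : IsLocallyConstant r := hlc.comp_continuous V.ι.continuous
  haveI : Finite (Set.range r) := hr.range_finite.to_subtype
  let W : Set.range r → V.toScheme.Opens := fun d => ⟨r ⁻¹' {d.1}, hr.isOpen_fiber d.1⟩
  have hWc : ∀ d, IsClosed ((W d : V.toScheme.Opens) : Set V.toScheme) :=
    fun d => (hr.isClopen_fiber d.1).1
  haveI : ∀ d, CompactSpace (W d).toScheme :=
    fun d => isCompact_iff_compactSpace.1 (hWc d).isCompact
  haveI : ∀ d, QuasiSeparatedSpace (W d).toScheme :=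
    fun d => quasiSeparatedSpace_of_quasiSeparated (W d).ι
  have hcons : EtPBC.IsConstructible ((EtCoh.pull V.ι).obj ((EtCoh.push φ).obj F)) := by
    refine core (ι := Set.range r) (fun d => (W d).toScheme) (fun d => (W d).ι) ?_ _ ?_
    · intro y
      exact ⟨⟨r y, y, rfl⟩, ⟨y, rfl⟩, rfl⟩
    · intro d
      let j : (W d).toScheme ⟶ Y := (W d).ι ≫ V.ι
      let e := Groth.Agent.Helper9.EtShriekBC.rightIso j φ (pullback.fst φ j) (pullback.snd φ j)
        (IsPullback.of_hasPullback φ j)
      have hrank : ∀ s, (pullback.snd φ j).finrank s = d.1 := by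
        intro s
        rw [Scheme.Hom.finrank_pullback_snd]
        exact s.2
      have h1 : EtPBC.IsConstructible ((EtShriek.restrAlong (pullback.fst φ j)).obj F) :=
        isConstructible_of_iso ((pullIsoRestr (pullback.fst φ j)).app F)
          (isConstructible_pull (pullback.fst φ j) F hF)
      have h2 := isConstructible_push_of_rank (pullback.snd φ j) d.1 hrank _ h1
      exact isConstructible_of_iso (e.app F ≪≫ ((pullIsoRestr j).app _).symm ≪≫
        (pullCompObj (W d).ι V.ι _).symm) h2
  have hs := strat_univ_of_isConstructible _ hcons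
  have := strat_push V.ι _ Set.univ hs
  rwa [Set.image_univ, Scheme.Opens.range_ι] at this

end General

end Groth.Agent.Helper6.ConsW
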