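import Mathlib
import Groth.Prelude.Def_EtBase
import Groth.Prelude.Def_EtShriek2
import Groth.Agent.Helper9.EtRecollement
import Groth.Agent.Helper9.EtJCont

set_option autoImplicit false
set_option linter.style.haveILetI false
set_option linter.unusedSectionVars false
set_option linter.unusedVariables false
set_option linter.unusedSimpArgs false

/-!
# Composition of extension by zero / restriction along étale morphisms; recollement for an
arbitrary open immersion
-/

universe u

open CategoryTheory CategoryTheory.Limits AlgebraicGeometry Opposite Topology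

namespace Groth.Agent.Helper6.ShrComp

section Comp

variable {A B X : Scheme.{u}} (a : A ⟶ B) (b : B ⟶ X) [Etale a] [Etale b]

set_option backward.isDefEq.respectTransparency.types false in
/-- the composite of the site functors -/
noncomputable def compEtaleComp :
    EtShriek.compEtale a ⋙ EtShriek.compEtale b ≅ EtShriek.compEtale (a ≫ b) :=
  NatIso.ofComponents (fun V => MorphismProperty.Over.isoMk (Iso.refl _) (by
    show 𝟙 _ ≫ (V.hom ≫ a ≫ b) = (V.hom ≫ a) ≫ b
    rw [Category.id_comp, Category.assoc])) (by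
    intro V V' g
    apply MorphismProperty.Over.Hom.ext
    show g.left ≫ 𝟙 _ = 𝟙 _ ≫ g.left
    rw [Category.comp_id, Category.id_comp])

/-- restriction along a composite -/
noncomputable def restrAlongComp :
    EtShriek.restrAlong b ⋙ EtShriek.restrAlong a ≅ EtShriek.restrAlong (a ≫ b) :=
  Functor.sheafPushforwardContinuousComp' (compEtaleComp a b) AddCommGrpCat.{u + 1}
    A.smallEtaleTopology B.smallEtaleTopology X.smallEtaleTopology

/-- extension by zero along a composite -/
noncomputable def extZeroComp :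
    EtShriek.extZero a ⋙ EtShriek.extZero b ≅ EtShriek.extZero (a ≫ b) :=
  ((EtShriek.extZeroAdj a).comp (EtShriek.extZeroAdj b)).leftAdjointUniq
    ((EtShriek.extZeroAdj (a ≫ b)).ofNatIsoRight (restrAlongComp a b).symm)

/-- `b_! a_! a⁻¹ b⁻¹ F ≅ (a ≫ b)_! (a ≫ b)⁻¹ F` -/
noncomputable def shriekRestrComp (F : EtCoh.Ab X) :
    (EtShriek.extZero b).obj ((EtShriek.extZero a).obj ((EtShriek.restrAlong a).obj
      ((EtShriek.restrAlong b).obj F))) ≅
      (EtShriek.extZero (a ≫ b)).obj ((EtShriek.restrAlong (a ≫ b)).obj F) :=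
  (extZeroComp a b).app _ ≪≫ (EtShriek.extZero (a ≫ b)).mapIso ((restrAlongComp a b).app F)

end Comp

section Congr

variable {U X : Scheme.{u}} {j j' : U ⟶ X} [Etale j] [Etale j']

/-- transport along an equality of morphisms -/
noncomputable def shriekRestrCongr (h : j = j') (F : EtCoh.Ab X) :
    (EtShriek.extZero j).obj ((EtShriek.restrAlong j).obj F) ≅
      (EtShriek.extZero j').obj ((EtShriek.restrAlong j').obj F) := by
  subst h
  exact Iso.refl _

end Congr


section Recoll

open Groth.Agent.Helper9.EtStalkExact Groth.Agent.Helper9.EtRecollement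

variable {Z U X : Scheme.{u}} (i : Z ⟶ X) [IsClosedImmersion i]
  (j : U ⟶ X) [IsOpenImmersion j] (hU : Set.range j.base = (Set.range i.base)ᶜ)

include hU in
theorem cases_geomPt' {Ω : Type u} [Field Ω] (ξ : Spec (CommRingCat.of Ω) ⟶ X) :
    ((∃ u : Spec (CommRingCat.of Ω) ⟶ U, u ≫ j = ξ) ∧
      Disjoint (Set.range ξ.base) (Set.range i.base)) ∨
    ((∃ ζ : Spec (CommRingCat.of Ω) ⟶ Z, ζ ≫ i = ξ) ∧
      Disjoint (Set.range ξ.base) (Set.range j.base)) := by
  by_cases hξ : Disjoint (Set.range ξ.base) (Set.range i.base)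
  · left
    refine ⟨?_, hξ⟩
    have hr : Set.range ξ.base ⊆ Set.range j.base := by
      rw [hU]
      rintro _ ⟨p, rfl⟩ hcon
      exact (Set.disjoint_left.1 hξ) ⟨p, rfl⟩ hcon
    exact ⟨IsOpenImmersion.lift j ξ hr, IsOpenImmersion.lift_fac j ξ hr⟩
  · right
    obtain ⟨ζ, rfl⟩ := Groth.Agent.Helper9.EtClosedEss.exists_lift_geomPt i ξ hξ
    refine ⟨⟨ζ, rfl⟩, ?_⟩
    rw [Set.disjoint_left]
    rintro _ ⟨p, rfl⟩ hcon
    rw [hU] at hcon
    exact hcon ⟨ζ p, (Scheme.Hom.comp_apply ζ i p).symm⟩

omit [IsClosedImmersion i] in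
include hU in
theorem subsingleton_hom' (H : EtCoh.Ab U) (G : EtCoh.Ab Z) :
    Subsingleton ((EtShriek.extZero j).obj H ⟶ (EtCoh.push i).obj G) := by
  have h1 : Subsingleton (H ⟶ (EtShriek.restrAlong j).obj ((EtCoh.push i).obj G)) := by
    refine ⟨fun a b => ?_⟩
    apply Sheaf.hom_ext
    ext V : 2
    have hd : Disjoint (Set.range ((EtShriek.compEtale j).obj V.unop).hom.base)
        (Set.range i.base) := by
      rw [Set.disjoint_left]
      rintro _ ⟨p, rfl⟩ hcon
      have h2 : ((EtShriek.compEtale j).obj V.unop).hom p ∈ Set.range j.base :=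
        ⟨V.unop.hom p, (Scheme.Hom.comp_apply V.unop.hom j p).symm⟩
      rw [hU] at h2
      exact h2 hcon
    have := Groth.Agent.Helper9.EtClosedEss.isEmpty_bc_of_disjoint i _ hd
    have hs : Subsingleton ↑(G.obj.obj (op ((EtCoh.bc i).obj
        ((EtShriek.compEtale j).obj V.unop)))) :=
      Groth.Agent.Helper9.EtPushClosedZero.subsingleton_of_isEmpty G _
    ext x
    exact @Subsingleton.elim _ hs _ _
  exact ((EtShriek.extZeroAdj j).homEquiv _ _).subsingleton

attribute [local instance] preservesFilteredColimits_forget_ab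

include hU in
/-- the recollement sequence for an arbitrary open immersion with the complementary range -/
theorem recoll (F : EtCoh.Ab X) :
    ∃ w : (EtShriek.extZeroAdj j).counit.app F ≫ (EtCoh.pullPushAdj i).unit.app F = 0,
      (ShortComplex.mk _ _ w).ShortExact := by
  have w : (EtShriek.extZeroAdj j).counit.app F ≫ (EtCoh.pullPushAdj i).unit.app F = 0 :=
    @Subsingleton.elim _ (subsingleton_hom' i j hU _ _) _ _
  refine ⟨w, ?_⟩
  have key : ∀ (Ω : Type u) [Field Ω] [IsSepClosed Ω] (ξ : Spec (CommRingCat.of Ω) ⟶ X),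
      (Function.Bijective ((EtCoh.stalk ξ).map ((EtShriek.extZeroAdj j).counit.app F)) ∧
        Subsingleton ↑((EtCoh.stalk ξ).obj ((EtCoh.push i).obj ((EtCoh.pull i).obj F)))) ∨
      (Subsingleton ↑((EtCoh.stalk ξ).obj ((EtShriek.extZero j).obj
          ((EtShriek.restrAlong j).obj F))) ∧
        Function.Bijective ((EtCoh.stalk ξ).map ((EtCoh.pullPushAdj i).unit.app F))) := by
    intro Ω _ _ ξ
    rcases cases_geomPt' i j hU ξ with ⟨⟨u, rfl⟩, hd⟩ | ⟨⟨ζ, rfl⟩, hd⟩
    · left
      exact ⟨(ConcreteCategory.isIso_iff_bijective _).1 (isIso_stalk_map_counit j F u),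
        AddCommGrpCat.subsingleton_of_isZero
          (Groth.Agent.Helper9.EtPushClosedZero.main i _ _ hd)⟩
    · right
      exact ⟨AddCommGrpCat.subsingleton_of_isZero
          (Groth.Agent.Helper9.EtShriekStalkZero.isZero_stalk_extZero j _ _ hd),
        (ConcreteCategory.isIso_iff_bijective _).1
          (Groth.Agent.Helper9.EtClosedEss.isIso_stalk_map_unit i F ζ)⟩
  have hm : Mono ((EtShriek.extZeroAdj j).counit.app F) := by
    rw [mono_iff_stalks]
    intro Ω _ _ ξ
    rcases key Ω ξ with ⟨h1, -⟩ | ⟨h1, -⟩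
    · exact h1.1
    · exact fun a b _ => @Subsingleton.elim _ h1 a b
  have he : Epi ((EtCoh.pullPushAdj i).unit.app F) := by
    rw [epi_iff_stalks]
    intro Ω _ _ ξ
    rcases key Ω ξ with ⟨-, h2⟩ | ⟨-, h2⟩
    · exact fun y => ⟨0, @Subsingleton.elim _ h2 _ _⟩
    · exact h2.2
  have hex : (ShortComplex.mk _ _ w).Exact := by
    rw [exact_iff_stalks]
    intro Ω _ _ ξ
    rw [ShortComplex.ab_exact_iff]
    intro y hy
    rcases key Ω ξ with ⟨h1, -⟩ | ⟨-, h2⟩
    · exact h1.2 y
    · refine ⟨0, ?_⟩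
      have hy0 : ((EtCoh.stalk ξ).map ((EtCoh.pullPushAdj i).unit.app F)) y =
          ((EtCoh.stalk ξ).map ((EtCoh.pullPushAdj i).unit.app F)) 0 := by
        rw [map_zero]
        exact hy
      have hy1 : y = 0 := h2.1 hy0
      rw [hy1]
      exact map_zero _
  exact ShortComplex.ShortExact.mk hex

end Recoll

end Groth.Agent.Helper6.ShrComp
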