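import Mathlib
import Groth.Prelude.Def_EtBase
import Groth.Prelude.Def_PBC
import Groth.Prelude.Def_EtShriek2
import Groth.Agent.Helper6.ShrComp
import Groth.Agent.Helper6.ConsV
import Groth.Agent.Helper4.StrataE
import Groth.Agent.Helper4.StrataF
import Groth.Agent.Helper4.ConsTop
import Groth.Agent.Helper9.EtShriekExact
import Groth.Agent.Helper9.EtShriekOpen

set_option autoImplicit false
set_option linter.style.haveILetI false
set_option linter.unusedSectionVars false
set_option linter.unusedVariables false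
set_option linter.unusedSimpArgs false

/-!
# The finite filtration of a constructible sheaf by extensions by zero of finite locally constant
sheaves (S8561)
-/

universe u

open CategoryTheory CategoryTheory.Limits AlgebraicGeometry Opposite Topology

namespace Groth.Agent.Helper6.ConsX

open Groth.Agent.Helper6.ShrComp Groth.Agent.Helper4.FlcPull Groth.Agent.Helper4.StrataC
  Groth.Agent.Helper9.EtShriekOpen

variable {X : Scheme.{u}}

/-- `j_{V!} j_V⁻¹ F` -/
noncomputable abbrev EE (F : EtCoh.Ab X) (V : X.Opens) : EtCoh.Ab X :=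
  (EtShriek.extZero V.ι).obj ((EtShriek.restrAlong V.ι).obj F)

/-- the data of one step of the filtration -/
def StepData {A B : EtCoh.Ab X} (f : A ⟶ B) : Prop :=
  ∃ (U W : Scheme.{u}) (j : U ⟶ X) (_ : IsOpenImmersion j) (c : W ⟶ U)
    (_ : IsClosedImmersion c) (G : EtCoh.Ab W)
    (π : B ⟶ (EtShriek.extZero j).obj ((EtCoh.push c).obj G)) (hz : f ≫ π = 0),
    Topology.IsConstructible (Set.range (c ≫ j)) ∧ EtCoh.IsFiniteLocallyConstant G ∧
    (ShortComplex.mk f π hz).ShortExact

section Step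

variable [CompactSpace X] [QuasiSeparatedSpace X]

set_option backward.isDefEq.respectTransparency.types false in
/-- one step of the filtration -/
theorem step (F : EtCoh.Ab X) (V V' : X.Opens) (h : V ≤ V') (hVc : IsCompact (V : Set X))
    (hV'c : IsCompact (V' : Set X)) {T : Scheme.{u}} (g : T ⟶ X) [IsImmersion g]
    (hsub : (V' : Set X) \ V ⊆ Set.range g)
    (hflc : EtCoh.IsFiniteLocallyConstant ((EtCoh.pull g).obj F)) :
    ∃ f : EE F V ⟶ EE F V', StepData f := by
  let j' : V'.toScheme ⟶ X := V'.ι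
  let a : V.toScheme ⟶ V'.toScheme := X.homOfLE h
  have ha : a ≫ j' = V.ι := X.homOfLE_ι h
  have hra : ∀ y : V'.toScheme, y ∈ Set.range a.base ↔ j' y ∈ V := by
    intro y
    constructor
    · rintro ⟨x, rfl⟩
      rw [← Scheme.Hom.comp_apply, ha]
      exact x.2
    · intro hy
      refine ⟨⟨j' y, hy⟩, ?_⟩
      apply j'.isOpenEmbedding.injective
      rw [← Scheme.Hom.comp_apply, ha]
      rfl
  have hC : IsClosed (Set.range a.base)ᶜ := a.isOpenEmbedding.isOpen_range.isClosed_compl
  obtain ⟨Z, z, hz1, hz2⟩ := exists_closedImmersion _ hC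
  haveI := hz1
  have hzV : ∀ p : Z, (z ≫ j') p ∈ (V' : Set X) \ V := by
    intro p
    have hp : z p ∈ (Set.range a.base)ᶜ := by
      rw [← hz2]
      exact ⟨p, rfl⟩
    refine ⟨?_, ?_⟩
    · rw [Scheme.Hom.comp_apply]
      exact (z p).2
    · intro hcon
      rw [Scheme.Hom.comp_apply] at hcon
      exact hp ((hra (z p)).2 hcon)
  have hsurj : Set.range (pullback.snd g (z ≫ j')) = Set.univ := by
    rw [Scheme.Pullback.range_snd]
    apply Set.eq_univ_of_forall
    intro p
    exact hsub (hzV p)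
  haveI : IsClosedImmersion (pullback.snd g (z ≫ j')) :=
    IsClosedImmersion.of_isPreimmersion _ (by rw [hsurj]; exact isClosed_univ)
  let c : pullback g (z ≫ j') ⟶ V'.toScheme := pullback.snd g (z ≫ j') ≫ z
  have hrc : Set.range c.base = (Set.range a.base)ᶜ := by
    rw [← hz2]
    show Set.range (pullback.snd g (z ≫ j') ≫ z).base = _
    rw [Scheme.Hom.comp_base, TopCat.coe_comp, Set.range_comp]
    have : Set.range (pullback.snd g (z ≫ j')).base = Set.univ := hsurj
    rw [this, Set.image_univ]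
  have hU : Set.range a.base = (Set.range c.base)ᶜ := by rw [hrc, compl_compl]
  let K : EtCoh.Ab V'.toScheme := (EtShriek.restrAlong j').obj F
  obtain ⟨w, hS⟩ := recoll c a hU K
  haveI : (EtShriek.extZero j').Additive := (EtShriek.extZeroAdj j').left_adjoint_additive
  haveI : PreservesFiniteLimits (EtShriek.extZero j') :=
    Groth.Agent.Helper9.EtShriekExact.preservesFiniteLimits_extZero j'
  haveI : (EtShriek.extZero j').IsLeftAdjoint := (EtShriek.extZeroAdj j').isLeftAdjoint
  have hS₁ := hS.map_of_exact (EtShriek.extZero j')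
  let Φ : EE F V ≅ (EtShriek.extZero j').obj ((EtShriek.extZero a).obj
      ((EtShriek.restrAlong a).obj K)) :=
    shriekRestrCongr ha.symm F ≪≫ (shriekRestrComp a j' F).symm
  let f₀ := (EtShriek.extZero j').map ((EtShriek.extZeroAdj a).counit.app K)
  let π₀ := (EtShriek.extZero j').map ((EtCoh.pullPushAdj c).unit.app K)
  have hz₀ : f₀ ≫ π₀ = 0 := by
    show (EtShriek.extZero j').map _ ≫ (EtShriek.extZero j').map _ = 0
    rw [← Functor.map_comp, w, Functor.map_zero]
  have hz : (Φ.hom ≫ f₀) ≫ π₀ = 0 := by rw [Category.assoc, hz₀, comp_zero]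
  refine ⟨Φ.hom ≫ f₀, V'.toScheme, pullback g (z ≫ j'), j', inferInstance, c, inferInstance,
    (EtCoh.pull c).obj K, π₀, hz, ?_, ?_, ?_⟩
  · have hr : Set.range (c ≫ j').base = (V' : Set X) \ V := by
      rw [Scheme.Hom.comp_base, TopCat.coe_comp, Set.range_comp, hrc]
      ext x
      constructor
      · rintro ⟨y, hy, rfl⟩
        exact ⟨y.2, fun hcon => hy ((hra y).2 hcon)⟩
      · rintro ⟨hx1, hx2⟩
        exact ⟨⟨x, hx1⟩, fun hcon => hx2 ((hra _).1 hcon), rfl⟩
    rw [hr]
    exact (hV'c.isConstructible V'.2).sdiff (hVc.isConstructible V.2)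
  · have hw : c ≫ j' = pullback.fst g (z ≫ j') ≫ g := by
      show (pullback.snd g (z ≫ j') ≫ z) ≫ j' = _
      rw [Category.assoc, ← pullback.condition]
    exact flc_of_iso ((pullSq c j' (pullback.fst g (z ≫ j')) g hw F).symm ≪≫
      (EtCoh.pull c).mapIso ((pullIsoRestr j').app F)) (flc_pull _ _ hflc)
  · refine ShortComplex.shortExact_of_iso ?_ hS₁
    exact ShortComplex.isoMk Φ.symm (Iso.refl _) (Iso.refl _)
      (by
        show Φ.inv ≫ Φ.hom ≫ f₀ = f₀ ≫ 𝟙 _
        rw [Category.comp_id, Iso.inv_hom_id_assoc])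
      (by
        show 𝟙 _ ≫ π₀ = π₀ ≫ 𝟙 _
        rw [Category.comp_id, Category.id_comp])

end Step


section Chain

/-- goodness of a step with respect to a list of opens: the difference lies inside or outside each
member of the list -/
def Good (L : List X.Opens) (V V' : X.Opens) : Prop :=
  IsCompact (V : Set X) ∧ IsCompact (V' : Set X) ∧
    ∀ B ∈ L, ((V' : Set X) \ V ⊆ B) ∨ Disjoint ((V' : Set X) \ V) (B : Set X)

/-- chains of opens with good steps -/
inductive Chn (L : List X.Opens) : X.Opens → X.Opens → Prop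
  | refl (U : X.Opens) : Chn L U U
  | cons {U V W : X.Opens} : U ≤ V → Good L U V → Chn L V W → Chn L U W

theorem Chn.trans {L : List X.Opens} {U V W : X.Opens} (h1 : Chn L U V) (h2 : Chn L V W) :
    Chn L U W := by
  induction h1 with
  | refl _ => exact h2
  | cons hle hg _ ih => exact Chn.cons hle hg (ih h2)

variable [QuasiSeparatedSpace X]

theorem Chn.inf {L : List X.Opens} {U W : X.Opens} (B : X.Opens) (hB : IsCompact (B : Set X))
    (h : Chn L U W) : Chn (B :: L) (U ⊓ B) (W ⊓ B) := by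
  induction h with
  | refl U => exact Chn.refl _
  | @cons U V W hle hg _ ih =>
    refine Chn.cons (inf_le_inf_right B hle) ?_ ih
    obtain ⟨h1, h2, h3⟩ := hg
    refine ⟨QuasiSeparatedSpace.inter_isCompact _ _ U.2 h1 B.2 hB,
      QuasiSeparatedSpace.inter_isCompact _ _ V.2 h2 B.2 hB, ?_⟩
    intro B' hB'
    have hdiff : ((V ⊓ B : X.Opens) : Set X) \ ((U ⊓ B : X.Opens) : Set X) =
        ((V : Set X) \ U) ∩ B := by
      ext x
      simp only [TopologicalSpace.Opens.coe_inf, Set.mem_sdiff, Set.mem_inter_iff, SetLike.mem_coe]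
      tauto
    rw [hdiff]
    rcases List.mem_cons.1 hB' with rfl | hB'
    · left
      exact Set.inter_subset_right
    · rcases h3 B' hB' with h | h
      · left
        exact Set.inter_subset_left.trans h
      · right
        exact h.mono_left Set.inter_subset_left

theorem Chn.sup {L : List X.Opens} {U W : X.Opens} (B : X.Opens) (hB : IsCompact (B : Set X))
    (h : Chn L U W) : Chn (B :: L) (B ⊔ U) (B ⊔ W) := by
  induction h with
  | refl U => exact Chn.refl _
  | @cons U V W hle hg _ ih =>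
    refine Chn.cons (sup_le_sup_left hle B) ?_ ih
    obtain ⟨h1, h2, h3⟩ := hg
    refine ⟨hB.union h1, hB.union h2, ?_⟩
    intro B' hB'
    have hdiff : ((B ⊔ V : X.Opens) : Set X) \ ((B ⊔ U : X.Opens) : Set X) =
        ((V : Set X) \ U) \ B := by
      ext x
      simp only [TopologicalSpace.Opens.coe_sup, Set.mem_sdiff, Set.mem_union, SetLike.mem_coe]
      tauto
    rw [hdiff]
    rcases List.mem_cons.1 hB' with rfl | hB'
    · right
      exact Set.disjoint_sdiff_left
    · rcases h3 B' hB' with h | h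
      · left
        exact Set.sdiff_subset.trans h
      · right
        exact h.mono_left Set.sdiff_subset

variable [CompactSpace X]

theorem chn_all (L : List X.Opens) (hL : ∀ B ∈ L, IsCompact (B : Set X)) : Chn L ⊥ ⊤ := by
  induction L with
  | nil =>
    refine Chn.cons bot_le ⟨?_, ?_, ?_⟩ (Chn.refl ⊤)
    · rw [TopologicalSpace.Opens.coe_bot]
      exact isCompact_empty
    · rw [TopologicalSpace.Opens.coe_top]
      exact isCompact_univ
    · intro B hB
      exact (List.not_mem_nil hB).elim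
  | cons B L ih =>
    have h := ih (fun B' hB' => hL B' (List.mem_cons_of_mem _ hB'))
    have hB := hL B List.mem_cons_self
    have h1 := h.inf B hB
    have h2 := h.sup B hB
    rw [bot_inf_eq, top_inf_eq] at h1
    rw [sup_bot_eq, sup_top_eq] at h2
    exact h1.trans h2

end Chain


section Assemble

/-- prepend an object to a sequence -/
def shiftObj (A : EtCoh.Ab X) (E : ℕ → EtCoh.Ab X) : ℕ → EtCoh.Ab X
  | 0 => A
  | k + 1 => E k

/-- prepend a morphism to a sequence of composable morphisms -/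
def shiftMap (A : EtCoh.Ab X) (E : ℕ → EtCoh.Ab X) (ι₀ : A ⟶ E 0) (ι : ∀ k, E k ⟶ E (k + 1)) :
    ∀ k, shiftObj A E k ⟶ shiftObj A E (k + 1)
  | 0 => ι₀
  | k + 1 => ι k

/-- a finite sequence of steps from `A` to `B` -/
def FiltData (A B : EtCoh.Ab X) : Prop :=
  ∃ (n : ℕ) (E : ℕ → EtCoh.Ab X) (ι : ∀ k, E k ⟶ E (k + 1)), E 0 = A ∧ E n = B ∧
    ∀ k, k < n → StepData (ι k)

lemma stepData_comp_eqToHom {A B B' : EtCoh.Ab X} (f : A ⟶ B) (h : B = B') (hf : StepData f) :
    StepData (f ≫ eqToHom h) := by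
  subst h
  rwa [eqToHom_refl, Category.comp_id]

theorem filt_of_chn (F : EtCoh.Ab X) {L : List X.Opens}
    (hstep : ∀ V V' : X.Opens, V ≤ V' → V ≠ V' → Good L V V' →
      ∃ f : EE F V ⟶ EE F V', StepData f) {U W : X.Opens} (h : Chn L U W) :
    FiltData (EE F U) (EE F W) := by
  induction h with
  | refl U => exact ⟨0, fun _ => EE F U, fun _ => 𝟙 _, rfl, rfl, fun k hk => (Nat.not_lt_zero k hk).elim⟩
  | @cons U V W hle hg _ ih =>
    by_cases hUV : U = V
    · subst hUV
      exact ih
    · obtain ⟨f, hf⟩ := hstep U V hle hUV hg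
      obtain ⟨n, E, ι, h0, hn, hs⟩ := ih
      refine ⟨n + 1, shiftObj (EE F U) E, shiftMap _ E (f ≫ eqToHom h0.symm) ι, rfl, hn, ?_⟩
      intro k hk
      cases k with
      | zero => exact stepData_comp_eqToHom f _ hf
      | succ k => exact hs k (by omega)

end Assemble


section Main

open Groth.Agent.Helper9.EtStalkExact Groth.Agent.Helper9.EtRecollement
  Groth.Agent.Helper4.StrataE Groth.Agent.Helper4.StrataF Groth.Agent.Helper4.ConsTop

attribute [local instance] preservesFilteredColimits_forget_ab ab5_ab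

theorem isZero_EE_bot (F : EtCoh.Ab X) : IsZero (EE F ⊥) := by
  apply isZero_of_stalks
  intro Ω _ _ ξ
  apply Groth.Agent.Helper9.EtShriekStalkZero.isZero_stalk_extZero
  have : Set.range (⊥ : X.Opens).ι.base = ∅ := by
    rw [Scheme.Opens.range_ι]
    rfl
  rw [this]
  exact Set.disjoint_empty _

theorem nonempty_EE_top_iso (F : EtCoh.Ab X) : Nonempty (EE F ⊤ ≅ F) := by
  have key : ∀ (Ω : Type u) [Field Ω] [IsSepClosed Ω] (ξ : Spec (CommRingCat.of Ω) ⟶ X),
      IsIso ((EtCoh.stalk ξ).map ((EtShriek.extZeroAdj (⊤ : X.Opens).ι).counit.app F)) := by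
    intro Ω _ _ ξ
    have hr : Set.range ξ.base ⊆ Set.range (⊤ : X.Opens).ι.base := by
      rw [Scheme.Opens.range_ι]
      exact fun _ _ => trivial
    have hu : IsOpenImmersion.lift (⊤ : X.Opens).ι ξ hr ≫ (⊤ : X.Opens).ι = ξ :=
      IsOpenImmersion.lift_fac _ _ hr
    have := isIso_stalk_map_counit (⊤ : X.Opens).ι F (IsOpenImmersion.lift (⊤ : X.Opens).ι ξ hr)
    rwa [hu] at this
  haveI : Mono ((EtShriek.extZeroAdj (⊤ : X.Opens).ι).counit.app F) := by
    rw [mono_iff_stalks]
    intro Ω _ _ ξ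
    haveI := key Ω ξ
    exact ((ConcreteCategory.isIso_iff_bijective _).1 inferInstance).1
  haveI : Epi ((EtShriek.extZeroAdj (⊤ : X.Opens).ι).counit.app F) := by
    rw [epi_iff_stalks]
    intro Ω _ _ ξ
    haveI := key Ω ξ
    exact ((ConcreteCategory.isIso_iff_bijective _).1 inferInstance).2
  haveI : IsIso ((EtShriek.extZeroAdj (⊤ : X.Opens).ι).counit.app F) := isIso_of_mono_of_epi _
  exact ⟨asIso ((EtShriek.extZeroAdj (⊤ : X.Opens).ι).counit.app F)⟩

variable [CompactSpace X] [QuasiSeparatedSpace X]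

/-- **the finite filtration of a constructible sheaf** -/
theorem main (F : EtCoh.Ab X) (hF : EtPBC.IsConstructible F) :
    ∃ (n : ℕ) (E : Fin (n + 1) → EtCoh.Ab X) (ι : ∀ k : Fin n, E k.castSucc ⟶ E k.succ),
      IsZero (E 0) ∧ Nonempty (E (Fin.last n) ≅ F) ∧
      ∀ k : Fin n, ∃ (U W : Scheme.{u}) (j : U ⟶ X) (_ : IsOpenImmersion j) (c : W ⟶ U)
        (_ : IsClosedImmersion c) (G : EtCoh.Ab W)
        (π : E k.succ ⟶ (EtShriek.extZero j).obj ((EtCoh.push c).obj G)) (hz : ι k ≫ π = 0),
        Topology.IsConstructible (Set.range (c ≫ j)) ∧ EtCoh.IsFiniteLocallyConstant G ∧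
        (ShortComplex.mk (ι k) π hz).ShortExact := by
  classical
  obtain ⟨κ, hκ, T, g, h1, h2, h3, h4, h5⟩ := strat_univ_of_isConstructible F hF
  haveI := hκ
  haveI : Fintype κ := Fintype.ofFinite κ
  haveI : ∀ k, IsImmersion (g k) := h1
  have hc : ∀ k, IsConstructible (Set.range (g k)) := fun k => isConstructible_of_cIn_univ (h2 k)
  choose O P hO1 hO2 hP1 hP2 hOP using
    fun k => exists_eq_diff (hc k) (g k).isLocallyClosed_range
  let L : List X.Opens := (Finset.univ.toList.map fun k => (⟨O k, hO1 k⟩ : X.Opens)) ++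
    (Finset.univ.toList.map fun k => (⟨P k, hP1 k⟩ : X.Opens))
  have hL : ∀ B ∈ L, IsCompact (B : Set X) := by
    intro B hB
    rcases List.mem_append.1 hB with h | h
    · obtain ⟨k, -, rfl⟩ := List.mem_map.1 h
      exact hO2 k
    · obtain ⟨k, -, rfl⟩ := List.mem_map.1 h
      exact hP2 k
  have hOL : ∀ k, (⟨O k, hO1 k⟩ : X.Opens) ∈ L := fun k =>
    List.mem_append_left _ (List.mem_map.2 ⟨k, Finset.mem_toList.2 (Finset.mem_univ k), rfl⟩)
  have hPL : ∀ k, (⟨P k, hP1 k⟩ : X.Opens) ∈ L := fun k =>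
    List.mem_append_right _ (List.mem_map.2 ⟨k, Finset.mem_toList.2 (Finset.mem_univ k), rfl⟩)
  have hstep : ∀ V V' : X.Opens, V ≤ V' → V ≠ V' → Good L V V' →
      ∃ f : EE F V ⟶ EE F V', StepData f := by
    intro V V' hle hne hg
    have hnon : ((V' : Set X) \ V).Nonempty := by
      by_contra hcon
      rw [Set.not_nonempty_iff_eq_empty, Set.sdiff_eq_empty] at hcon
      exact hne (le_antisymm hle hcon)
    obtain ⟨x, hx⟩ := hnon
    have hx' : x ∈ ⋃ k, Set.range (g k) := by
      rw [h4]
      trivial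
    obtain ⟨k, hk⟩ := Set.mem_iUnion.1 hx'
    rw [hOP k] at hk
    have hsub : (V' : Set X) \ V ⊆ Set.range (g k) := by
      rw [hOP k]
      intro y hy
      refine ⟨?_, ?_⟩
      · rcases hg.2.2 _ (hOL k) with h | h
        · exact h hy
        · exact (Set.disjoint_left.1 h hx hk.1).elim
      · intro hyP
        rcases hg.2.2 _ (hPL k) with h | h
        · exact hk.2 (h hx)
        · exact Set.disjoint_left.1 h hy hyP
    exact step F V V' hle hg.1 hg.2.1 (g k) hsub (h5 k)
  obtain ⟨n, E, ι, h0, hn, hs⟩ := filt_of_chn F hstep (chn_all L hL)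
  refine ⟨n, fun k => E k.val, fun k => ι k.val, ?_, ?_, ?_⟩
  · show IsZero (E 0)
    rw [h0]
    exact isZero_EE_bot F
  · show Nonempty (E n ≅ F)
    rw [hn]
    exact nonempty_EE_top_iso F
  · intro k
    exact hs k.val k.2

end Main

end Groth.Agent.Helper6.ConsX
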