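import Mathlib
import Groth.Prelude.Def_PBC
import Groth.Agent.Helper4.ConsACC
import Groth.Agent.Helper4.SubCons
import Groth.Agent.Helper4.SuppC
import Groth.Agent.Helper4.ConsSerre
import Groth.Agent.Helper6.ConsN

set_option autoImplicit false
set_option linter.style.haveILetI false
set_option linter.unusedSectionVars false
set_option linter.unusedVariables false
set_option linter.unusedSimpArgs false

/-!
# Constructible = Noetherian object, for torsion sheaves on a Noetherian scheme
-/

universe u

open CategoryTheory CategoryTheory.Limits AlgebraicGeometry Opposite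

namespace Groth.Agent.Helper6.ConsY

variable {X : Scheme.{u}}

/-- a torsion sheaf which is a Noetherian object is a quotient of a constructible sheaf -/
theorem exists_epi_of_noetherian [CompactSpace X] [QuasiSeparatedSpace X] (F : EtCoh.Ab X)
    (hF : EtCoh.IsTorsion F) [IsNoetherianObject F] :
    ∃ (C : EtCoh.Ab X) (p : C ⟶ F), EtPBC.IsConstructible C ∧ Epi p := by
  obtain ⟨J, _, _, D, c, hc, hD, ⟨e⟩⟩ := Groth.Agent.Helper6.ConsN.main F hF
  let S : J → Subobject F := fun j => imageSubobject (c.ι.app j ≫ e.hom)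
  have hmono : ∀ {j k : J} (t : j ⟶ k), S j ≤ S k := by
    intro j k t
    have h1 : c.ι.app j ≫ e.hom = D.map t ≫ (c.ι.app k ≫ e.hom) := by
      rw [← Category.assoc, c.w t]
    refine imageSubobject_le (c.ι.app j ≫ e.hom)
      (D.map t ≫ factorThruImageSubobject (c.ι.app k ≫ e.hom)) ?_
    rw [Category.assoc, imageSubobject_arrow_comp, ← h1]
  obtain ⟨j₁⟩ : Nonempty J := IsFiltered.nonempty
  have hwf : WellFounded ((· > ·) : Subobject F → Subobject F → Prop) :=
    (inferInstance : WellFoundedGT (Subobject F)).wf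
  obtain ⟨_, ⟨j₀, rfl⟩, hmax⟩ := hwf.has_min (Set.range S) ⟨S j₁, j₁, rfl⟩
  have hle : ∀ j, S j ≤ S j₀ := by
    intro j
    let k := IsFiltered.max j j₀
    have h1 : S j ≤ S k := hmono (IsFiltered.leftToMax j j₀)
    have h2 : S j₀ ≤ S k := hmono (IsFiltered.rightToMax j j₀)
    have h3 : S k = S j₀ := by
      by_contra hne
      exact hmax (S k) ⟨k, rfl⟩ (lt_of_le_of_ne h2 (Ne.symm hne))
    exact h1.trans h3.le
  let p : D.obj j₀ ⟶ F := c.ι.app j₀ ≫ e.hom
  refine ⟨D.obj j₀, p, hD j₀, ?_⟩
  apply Abelian.epi_of_cokernel_π_eq_zero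
  have h0 : (S j₀).arrow ≫ cokernel.π p = 0 := by
    haveI : Epi (factorThruImageSubobject p) := inferInstance
    rw [← cancel_epi (factorThruImageSubobject p)]
    show factorThruImageSubobject p ≫ (imageSubobject p).arrow ≫ cokernel.π p = _
    rw [imageSubobject_arrow_comp_assoc, cokernel.condition, comp_zero]
  have h1 : e.hom ≫ cokernel.π p = 0 := by
    apply hc.hom_ext
    intro j
    rw [comp_zero, ← Category.assoc]
    have h2 : c.ι.app j ≫ e.hom =
        factorThruImageSubobject (c.ι.app j ≫ e.hom) ≫ Subobject.ofLE _ _ (hle j) ≫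
          (S j₀).arrow := by
      rw [Subobject.ofLE_arrow]
      exact (imageSubobject_arrow_comp _).symm
    rw [h2, Category.assoc, Category.assoc, h0, comp_zero, comp_zero]
  rw [← cancel_epi e.hom, h1, comp_zero]

/-- **On a Noetherian scheme, a torsion sheaf is constructible iff it is a Noetherian object** -/
theorem main [IsNoetherian X] (F : EtCoh.Ab X) (hF : EtCoh.IsTorsion F) :
    EtPBC.IsConstructible F ↔ IsNoetherianObject F := by
  constructor
  · intro hC
    rw [isNoetherianObject_iff_monotone_chain_condition]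
    intro c
    obtain ⟨N, hN⟩ := Groth.Agent.Helper4.ConsACC.acc F c hC
    exact ⟨N, fun m hm => (hN m hm).symm⟩
  · intro hN
    haveI := hN
    obtain ⟨C, p, hC, hp⟩ := exists_epi_of_noetherian F hF
    haveI := hp
    have hK : EtPBC.IsConstructible (kernel p) :=
      Groth.Agent.Helper4.SubCons.isConstructible_of_mono (kernel.ι p) hC
    have hcok : IsColimit (CokernelCofork.ofπ p (kernel.condition p)) :=
      Abelian.epiIsCokernelOfKernel _ (limit.isLimit (parallelPair p 0))
    have e : cokernel (kernel.ι p) ≅ F :=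
      (colimit.isColimit (parallelPair (kernel.ι p) 0)).coconePointUniqueUpToIso hcok
    exact Groth.Agent.Helper4.ConsSerre.isConstructible_of_iso e
      (Groth.Agent.Helper4.SuppC.isConstructible_cokernel (kernel.ι p) hK hC)

end Groth.Agent.Helper6.ConsY
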