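import Mathlib
import Groth.Prelude.Def_EtBase
import Groth.Prelude.Def_EtCore
import Groth.Agent.Helper4.ConstLoc

/-! The comparison map `M_X ⟶ f_* M_{X'}` on constants. -/

set_option autoImplicit false
set_option linter.style.haveILetI false
set_option linter.unusedSectionVars false
set_option linter.unusedVariables false
set_option linter.unusedSimpArgs false

universe u

open CategoryTheory CategoryTheory.Limits Opposite AlgebraicGeometry

namespace Groth.Agent.Helper6.ConstUnitA

open Groth.Agent.Helper4.ConstLoc

variable {X' X : Scheme.{u}} (f : X' ⟶ X) (N : AddCommGrpCat.{u + 1})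

/-- the comparison map `const_X N ⟶ f_* const_X' N` -/
noncomputable def c : cS X N ⟶ (EtCoh.push f).obj (cS X' N) :=
  (EtCoh.pullPushAdj f).unit.app (cS X N) ≫
    (EtCoh.push f).map ((EtCore.pullConstIso f).hom.app N)

lemma unit_constAdj (n : N) :
    ((EtCore.constAdj X).unit.app N).hom n = (η X N).app (op (EtCoh.top X)) n := by
  simp [EtCore.constAdj, constantSheafAdj, constantPresheafAdj]

lemma c_top_aux :
    (EtCore.constAdj X).unit.app N ≫ (EtCore.gsec X).map (c f N) ≫
      (EtCore.pushGsecIso f).hom.app (cS X' N) = (EtCore.constAdj X').unit.app N := by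
  have h := Adjunction.unit_leftAdjointUniq_hom_app
    (((EtCore.constAdj X).comp (EtCoh.pullPushAdj f)).ofNatIsoRight (EtCore.pushGsecIso f))
    (EtCore.constAdj X') N
  rw [← h]
  simp only [c, Adjunction.ofNatIsoRight_unit, Adjunction.comp_unit_app, Functor.map_comp,
    Category.assoc, NatTrans.comp_app, Functor.whiskerLeft_app]
  congr 2
  exact ((EtCore.pushGsecIso f).hom.naturality ((EtCore.pullConstIso f).hom.app N))

lemma c_top (n : N) :
    ((c f N).hom.app (op (EtCoh.top X))).hom ((η X N).app (op (EtCoh.top X)) n) =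
      (η X' N).app (op ((EtCoh.bc f).obj (EtCoh.top X))) n := by
  have h := ConcreteCategory.congr_hom (c_top_aux f N) n
  have h2 : (cS X' N).obj.map (EtCore.bcTopIso f).inv.op
      (((c f N).hom.app (op (EtCoh.top X))).hom ((η X N).app (op (EtCoh.top X)) n)) =
      (cS X' N).obj.map (EtCore.bcTopIso f).inv.op
        ((η X' N).app (op ((EtCoh.bc f).obj (EtCoh.top X))) n) := by
    rw [η_map, ← unit_constAdj, ← unit_constAdj, ← h]
    rfl
  have hinj : Function.Injective ((cS X' N).obj.map (EtCore.bcTopIso f).inv.op) := by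
    have : IsIso ((cS X' N).obj.map (EtCore.bcTopIso f).inv.op) := inferInstance
    exact ((ConcreteCategory.isIso_iff_bijective _).1 this).1
  exact hinj h2

lemma c_η (U : X.Etale) (n : N) :
    ((c f N).hom.app (op U)).hom ((η X N).app (op U) n) =
      (η X' N).app (op ((EtCoh.bc f).obj U)) n := by
  let t : U ⟶ EtCoh.top X := (EtCore.topIsTerminal X).from U
  rw [← η_map N t n]
  have h := ConcreteCategory.congr_hom ((c f N).hom.naturality t.op)
    ((η X N).app (op (EtCoh.top X)) n)
  refine h.trans ?_
  rw [ConcreteCategory.comp_apply]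
  erw [c_top]
  exact η_map N ((EtCoh.bc f).map t) n

end Groth.Agent.Helper6.ConstUnitA
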