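import Mathlib
import Groth.Prelude.Def_EtBase

/-!
# Multiplication by `N` on `Ext` groups and vanishing of `N`-torsion above `cd + 1`
-/

set_option autoImplicit false
set_option linter.style.haveILetI false
set_option linter.unusedSectionVars false
set_option linter.unusedVariables false
set_option linter.unusedSimpArgs false

universe w v u

open CategoryTheory CategoryTheory.Limits Opposite AlgebraicGeometry Abelian

namespace Groth.Agent.Helper6.TorsShift

section Gen

variable {𝒜 : Type u} [Category.{v} 𝒜] [Abelian 𝒜] [HasExt.{w} 𝒜]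

lemma comp_mk₀_nsmul {X A B : 𝒜} (n : ℕ) (x : Ext.{w} X A n) (N : ℕ) (f : A ⟶ B) :
    x.comp (Ext.mk₀ (N • f)) (add_zero n) = N • x.comp (Ext.mk₀ f) (add_zero n) := by
  induction N with
  | zero => rw [zero_nsmul, zero_nsmul, Ext.mk₀_zero, Ext.comp_zero]
  | succ N ih => rw [succ_nsmul, succ_nsmul, Ext.mk₀_add, Ext.comp_add, ih]

lemma nsmul_eq_zero_of_killed {X G : 𝒜} (N : ℕ) (hG : N • 𝟙 G = 0) (n : ℕ) (x : Ext.{w} X G n) :
    N • x = 0 := by
  have h := comp_mk₀_nsmul n x N (𝟙 G)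
  rw [hG, Ext.mk₀_zero, Ext.comp_zero, Ext.comp_mk₀_id] at h
  exact h.symm

/-- if the cohomology of all objects killed by `N` vanishes above degree `n`, then the cohomology of
every object has no `N`-torsion above degree `n + 1` -/
theorem eq_zero_of_nsmul_eq_zero {X F : 𝒜} (N : ℕ) (n : ℕ)
    (hvan : ∀ (G : 𝒜), N • 𝟙 G = 0 → ∀ q, n < q → ∀ y : Ext.{w} X G q, y = 0)
    (q : ℕ) (hq : n + 1 < q) (x : Ext.{w} X F q) (hx : N • x = 0) : x = 0 := by
  let φ : F ⟶ F := N • 𝟙 F
  let e := Abelian.factorThruImage φ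
  let ι := Abelian.image.ι φ
  have hfac : e ≫ ι = N • 𝟙 F := Abelian.image.fac φ
  have hK : N • 𝟙 (kernel e) = 0 := by
    rw [← cancel_mono (kernel.ι e), zero_comp, Preadditive.nsmul_comp, Category.id_comp]
    have h1 : kernel.ι e ≫ (N • 𝟙 F) = 0 := by rw [← hfac, kernel.condition_assoc, zero_comp]
    rw [Preadditive.comp_nsmul, Category.comp_id] at h1
    exact h1
  have hC : N • 𝟙 (cokernel ι) = 0 := by
    rw [← cancel_epi (cokernel.π ι), comp_zero, Preadditive.comp_nsmul, Category.comp_id]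
    have h1 : (N • 𝟙 F) ≫ cokernel.π ι = 0 := by
      rw [← hfac, Category.assoc, cokernel.condition, comp_zero]
    rw [Preadditive.nsmul_comp, Category.id_comp] at h1
    exact h1
  let S1 : ShortComplex 𝒜 := ShortComplex.mk (kernel.ι e) e (kernel.condition e)
  have hS1 : S1.ShortExact :=
    { exact := ShortComplex.exact_kernel e
      mono_f := by dsimp [S1]; infer_instance
      epi_g := by dsimp [S1]; infer_instance }
  let S2 : ShortComplex 𝒜 := ShortComplex.mk ι (cokernel.π ι) (cokernel.condition ι)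
  have hS2 : S2.ShortExact :=
    { exact := ShortComplex.exact_cokernel ι
      mono_f := by dsimp [S2]; infer_instance
      epi_g := by dsimp [S2]; infer_instance }
  obtain ⟨q', rfl⟩ : ∃ q', q = q' + 1 := ⟨q - 1, by omega⟩
  have hA : x.comp (Ext.mk₀ e) (add_zero _) = 0 := by
    have h1 : (x.comp (Ext.mk₀ e) (add_zero _)).comp (Ext.mk₀ ι) (add_zero _) = 0 := by
      rw [Ext.comp_assoc_of_third_deg_zero, Ext.mk₀_comp_mk₀, hfac, comp_mk₀_nsmul,
        Ext.comp_mk₀_id, hx]
    obtain ⟨x₃, hx₃⟩ := Ext.covariant_sequence_exact₁ X hS2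
      (x.comp (Ext.mk₀ e) (add_zero _)) h1 rfl
    rw [← hx₃, hvan _ hC q' (by omega) x₃, Ext.zero_comp]
  obtain ⟨x₁, hx₁⟩ := Ext.covariant_sequence_exact₂ X hS1 x hA
  rw [← hx₁, hvan _ hK (q' + 1) (by omega) x₁, Ext.zero_comp]

end Gen

section Et

variable {X : Scheme.{u}}

lemma nsmul_id_app (G : EtCoh.Ab X) (N : ℕ) (U : X.Etale) (s : EtCoh.sect G U) :
    (N • 𝟙 G : G ⟶ G).hom.app (op U) s = N • s := by
  induction N with
  | zero =>
    rw [zero_nsmul, zero_nsmul]
    rfl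
  | succ N ih =>
    rw [succ_nsmul, succ_nsmul, ← ih]
    rfl

lemma isTorsion_of_killed (G : EtCoh.Ab X) (N : ℕ) (hN : 0 < N) (hG : N • 𝟙 G = 0) :
    EtCoh.IsTorsion G := by
  intro U s x
  refine ⟨U, 𝟙 U, ⟨x, rfl⟩, ?_⟩
  refine isOfFinAddOrder_iff_nsmul_eq_zero.2 ⟨N, hN, ?_⟩
  rw [← nsmul_id_app G N U, hG]
  rfl

end Et

end Groth.Agent.Helper6.TorsShift
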