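import Mathlib
import Groth.Prelude.Def_EtBase
import Groth.Prelude.Def_EtCore
import Groth.Prelude.Def_EtShriek2
import Groth.Agent.Helper9.EtJCont
import Groth.Agent.Helper9.EtShriekExact
import Groth.Agent.Helper9.EtShriekOpen
import Groth.Agent.Helper9.ExtAdj2
import Groth.Agent.Helper6.TorsShift

/-! Corestriction from trace data: for an étale `j : U ⟶ X` and a natural "trace"
`F(U) → F(X)` with `tr ∘ res = d`, a map `c : ℤ → j_! j^* ℤ` with `c ≫ counit = d`, and the
consequence `res α = 0 → d • α = 0` on `Ext` groups. -/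

set_option autoImplicit false
set_option linter.style.haveILetI false
set_option linter.unusedSectionVars false
set_option linter.unusedVariables false
set_option linter.unusedSimpArgs false

universe u

open CategoryTheory CategoryTheory.Limits Opposite AlgebraicGeometry Abelian

namespace Groth.Agent.Helper6.GalDescD

variable {X U : Scheme.{u}}

section Const

/-- `ℤ` lifted -/
abbrev ZZ : AddCommGrpCat.{u + 1} := AddCommGrpCat.of (ULift.{u + 1} ℤ)

/-- the hom `ℤ → A` with `1 ↦ g` -/
noncomputable def eltHom {A : AddCommGrpCat.{u + 1}} (g : A) : ZZ.{u} ⟶ A :=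
  AddCommGrpCat.ofHom ((zmultiplesHom A g).comp AddEquiv.ulift.toAddMonoidHom)

lemma eltHom_one {A : AddCommGrpCat.{u + 1}} (g : A) : (eltHom g).hom ⟨1⟩ = g := by
  simp [eltHom]
  exact one_zsmul g

lemma eltHom_ext {A : AddCommGrpCat.{u + 1}} {f f' : ZZ.{u} ⟶ A}
    (h : f.hom ⟨1⟩ = f'.hom ⟨1⟩) : f = f' := by
  ext ⟨n⟩
  have e : (⟨n⟩ : ULift.{u + 1} ℤ) = n • (⟨1⟩ : ULift.{u + 1} ℤ) := by
    apply ULift.ext
    simp
  rw [e, map_zsmul, map_zsmul, h]

/-- the unit section of the constant sheaf `ℤ` -/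
noncomputable def one (X : Scheme.{u}) : (EtCoh.const X ℤ).obj.obj (op (EtCoh.top X)) :=
  ((EtCore.constAdj X).unit.app ZZ).hom ⟨1⟩

/-- the map `ℤ → G` given by a global section -/
noncomputable def fromElt (G : EtCoh.Ab X) (g : G.obj.obj (op (EtCoh.top X))) :
    EtCoh.const X ℤ ⟶ G :=
  ((EtCore.constAdj X).homEquiv ZZ G).symm (eltHom g)

lemma fromElt_one (G : EtCoh.Ab X) (g : G.obj.obj (op (EtCoh.top X))) :
    ((fromElt G g).hom.app (op (EtCoh.top X))).hom (one X) = g := by
  have h1 : (EtCore.constAdj X).homEquiv ZZ G (fromElt G g) = eltHom g :=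
    Equiv.apply_symm_apply _ _
  rw [Adjunction.homEquiv_unit] at h1
  have h2 : ((EtCore.constAdj X).unit.app ZZ ≫ (EtCore.gsec X).map (fromElt G g)).hom ⟨1⟩ =
      (eltHom g).hom ⟨1⟩ := by rw [h1]
  exact h2.trans (eltHom_one g)

lemma hom_ext_one {G : EtCoh.Ab X} {f f' : EtCoh.const X ℤ ⟶ G}
    (h : (f.hom.app (op (EtCoh.top X))).hom (one X) = (f'.hom.app (op (EtCoh.top X))).hom (one X)) :
    f = f' := by
  apply ((EtCore.constAdj X).homEquiv ZZ G).injective
  rw [Adjunction.homEquiv_unit, Adjunction.homEquiv_unit]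
  apply eltHom_ext
  exact h

end Const

variable (j : U ⟶ X) [Etale j]

/-- `U → X` as an object of the small étale site of `X` -/
noncomputable abbrev jObj : X.Etale := (EtShriek.compEtale j).obj (EtCoh.top U)

/-- the map to the terminal object -/
noncomputable abbrev πj : jObj j ⟶ EtCoh.top X := (EtCore.topIsTerminal X).from _

/-- a natural trace `F(U) → F(X)` with `tr ∘ res = d` -/
structure TraceData (d : ℕ) where
  /-- the trace -/
  tr : ∀ F : EtCoh.Ab X, F.obj.obj (op (jObj j)) → F.obj.obj (op (EtCoh.top X))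
  nat : ∀ {F G : EtCoh.Ab X} (φ : F ⟶ G) (h : F.obj.obj (op (jObj j))),
    (φ.hom.app (op (EtCoh.top X))).hom (tr F h) = tr G ((φ.hom.app (op (jObj j))).hom h)
  res : ∀ (F : EtCoh.Ab X) (h0 : F.obj.obj (op (EtCoh.top X))),
    tr F ((F.obj.map (πj j).op).hom h0) = d • h0

section Cor

variable {j} {d : ℕ} (T : TraceData j d)

/-- the restriction of the unit section to `U` -/
noncomputable def oneJ : ((EtShriek.restrAlong j).obj (EtCoh.const X ℤ)).obj.obj (op (EtCoh.top U)) :=
  ((EtCoh.const X ℤ).obj.map (πj j).op).hom (one X)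

/-- the universal section of `j_! j^* ℤ` over `U` -/
noncomputable def uSec :
    ((EtShriek.extZero j).obj ((EtShriek.restrAlong j).obj (EtCoh.const X ℤ))).obj.obj (op (jObj j)) :=
  (((EtShriek.extZeroAdj j).unit.app ((EtShriek.restrAlong j).obj (EtCoh.const X ℤ))).hom.app
    (op (EtCoh.top U))).hom (oneJ (j := j))

/-- the corestriction map `ℤ → j_! j^* ℤ` -/
noncomputable def cor : EtCoh.const X ℤ ⟶
    (EtShriek.extZero j).obj ((EtShriek.restrAlong j).obj (EtCoh.const X ℤ)) :=
  fromElt _ (T.tr _ (uSec (j := j)))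

theorem cor_counit : cor T ≫ (EtShriek.extZeroAdj j).counit.app (EtCoh.const X ℤ) =
    d • 𝟙 (EtCoh.const X ℤ) := by
  apply hom_ext_one
  have h1 : (((cor T ≫ (EtShriek.extZeroAdj j).counit.app (EtCoh.const X ℤ)).hom.app
      (op (EtCoh.top X))).hom (one X)) =
      (((EtShriek.extZeroAdj j).counit.app (EtCoh.const X ℤ)).hom.app (op (EtCoh.top X))).hom
        (((cor T).hom.app (op (EtCoh.top X))).hom (one X)) := rfl
  rw [h1]
  have h0 : ((cor T).hom.app (op (EtCoh.top X))).hom (one X) = T.tr _ (uSec (j := j)) :=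
    fromElt_one _ _
  rw [h0]
  have h3 := T.nat ((EtShriek.extZeroAdj j).counit.app (EtCoh.const X ℤ)) (uSec (j := j))
  refine h3.trans ?_
  have h2 : (((EtShriek.extZeroAdj j).counit.app (EtCoh.const X ℤ)).hom.app (op (jObj j))).hom
      (uSec (j := j)) = oneJ (j := j) := by
    have tri := (EtShriek.extZeroAdj j).right_triangle_components (EtCoh.const X ℤ)
    have tri2 := congrArg (fun t => (t.hom.app (op (EtCoh.top U))).hom (oneJ (j := j))) tri
    exact tri2
  refine (congrArg (T.tr _) h2).trans ?_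
  refine (T.res _ (one X)).trans ?_
  exact (Groth.Agent.Helper6.TorsShift.nsmul_id_app (EtCoh.const X ℤ) d (EtCoh.top X) (one X)).symm

end Cor

end Groth.Agent.Helper6.GalDescD
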