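import Mathlib
import Groth.Prelude.Def_EtBase
import Groth.Prelude.Def_EtCore
import Groth.Prelude.Def_EtShriek2
import Groth.Agent.Helper9.EtJCont
import Groth.Agent.Helper9.EtShriekExact
import Groth.Agent.Helper9.EtShriekOpen
import Groth.Agent.Helper9.ExtAdj2
import Groth.Agent.Helper6.GalDescD

/-! From a corestriction map `c : ℤ → j_! j^* ℤ` with `c ≫ counit = d`: classes killed by
restriction along `j` are killed by `d`. -/

set_option autoImplicit false
set_option linter.style.haveILetI false
set_option linter.unusedSectionVars false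
set_option linter.unusedVariables false
set_option linter.unusedSimpArgs false

universe u

open CategoryTheory CategoryTheory.Limits Opposite AlgebraicGeometry Abelian

namespace Groth.Agent.Helper6.GalDescE

open Groth.Agent.Helper9

variable {X U : Scheme.{u}} (j : U ⟶ X) [Etale j]

instance pfl_extZero : PreservesFiniteLimits (EtShriek.extZero j) :=
  EtShriekExact.preservesFiniteLimits_extZero j

instance pfc_extZero : PreservesFiniteColimits (EtShriek.extZero j) :=
  have : PreservesColimitsOfSize.{0, 0} (EtShriek.extZero j) :=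
    (EtShriek.extZeroAdj j).leftAdjoint_preservesColimits
  PreservesColimitsOfSize.preservesFiniteColimits _

instance additive_extZero : (EtShriek.extZero j).Additive :=
  (EtShriek.extZeroAdj j).left_adjoint_additive

instance pfl_restrAlong : PreservesFiniteLimits (EtShriek.restrAlong j) :=
  have : PreservesLimitsOfSize.{0, 0} (EtShriek.restrAlong j) :=
    (EtShriek.extZeroAdj j).rightAdjoint_preservesLimits
  PreservesLimitsOfSize.preservesFiniteLimits _

instance pfc_restrAlong : PreservesFiniteColimits (EtShriek.restrAlong j) :=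
  have : PreservesColimitsOfSize.{0, 0} (EtShriek.restrAlong j) :=
    (EtShriekOpen.sheafAdj j).leftAdjoint_preservesColimits
  PreservesColimitsOfSize.preservesFiniteColimits _

section Gen

variable {𝒜 : Type*} [Category 𝒜] [Abelian 𝒜] [HasExt.{u + 1} 𝒜]

lemma mk₀_nsmul_comp {A B Y : 𝒜} (n : ℕ) (x : Ext.{u + 1} B Y n) (N : ℕ) (f : A ⟶ B) :
    (Ext.mk₀ (N • f)).comp x (zero_add n) = N • (Ext.mk₀ f).comp x (zero_add n) := by
  induction N with
  | zero => rw [zero_nsmul, zero_nsmul, Ext.mk₀_zero, Ext.zero_comp]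
  | succ N ih => rw [succ_nsmul, succ_nsmul, Ext.mk₀_add, Ext.add_comp, ih]

end Gen

variable {j}

theorem nsmul_eq_zero {d : ℕ}
    (c : EtCoh.const X ℤ ⟶
      (EtShriek.extZero j).obj ((EtShriek.restrAlong j).obj (EtCoh.const X ℤ)))
    (hc : c ≫ (EtShriek.extZeroAdj j).counit.app (EtCoh.const X ℤ) = d • 𝟙 (EtCoh.const X ℤ))
    {F : EtCoh.Ab X} {i : ℕ} (α : Ext.{u + 1} (EtCoh.const X ℤ) F i)
    (hα : (α.mapExactFunctor (EtShriek.restrAlong j) : Ext.{u + 1} _ _ i) = 0) :
    d • α = 0 := by
  have hnat := ExtNat.mapExactFunctor_natTrans (EtShriek.restrAlong j ⋙ EtShriek.extZero j)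
    (𝟭 (EtCoh.Ab X)) (EtShriek.extZeroAdj j).counit i α
  have hcomp := ExtNat.mapExactFunctor_comp_functor (EtShriek.restrAlong j) (EtShriek.extZero j) i α
  rw [ExtAdj2.mapExactFunctor_id] at hnat
  rw [← hcomp, hα, Ext.mapExactFunctor_zero, Ext.zero_comp] at hnat
  have h1 : (Ext.mk₀ (d • 𝟙 (EtCoh.const X ℤ))).comp α (zero_add i) = d • α := by
    rw [mk₀_nsmul_comp, Ext.mk₀_id_comp]
  rw [← h1, ← hc, ← Ext.mk₀_comp_mk₀, Ext.comp_assoc_of_second_deg_zero]
  have h2 : (Ext.mk₀ ((EtShriek.extZeroAdj j).counit.app (EtCoh.const X ℤ))).comp α (zero_add i) = 0 :=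
    hnat.symm
  rw [h2, Ext.comp_zero]

end Groth.Agent.Helper6.GalDescE
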