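import Mathlib
import Groth.Prelude.Def_EtBase
import Groth.Prelude.Def_EtCore
import Groth.Prelude.Def_EtShriek2
import Groth.Agent.Helper6.GalDescC
import Groth.Agent.Helper6.GalDescD
import Groth.Agent.Helper6.GalDescE

/-! Restriction–corestriction for finite separable field extensions: a class in
`H^i(Spec K, F)` killed by restriction to `Spec L` is killed by `[L : K]`. -/

set_option autoImplicit false
set_option linter.style.haveILetI false
set_option linter.unusedSectionVars false
set_option linter.unusedVariables false
set_option linter.unusedSimpArgs false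

universe u

open CategoryTheory CategoryTheory.Limits Opposite AlgebraicGeometry Abelian

namespace Groth.Agent.Helper6.GalDescF

open Groth.Agent.Helper6.GalDescB Groth.Agent.Helper6.GalDescC Groth.Agent.Helper6.GalDescD
open Groth.Agent.Helper9

variable (K : Type u) [Field K] (L : Type u) [Field L] [Algebra K L] [FiniteDimensional K L]
  [Algebra.IsSeparable K L]

/-- a Galois closure -/
theorem exists_galois_closure :
    ∃ (M : Type u) (_ : Field M) (_ : Algebra K M) (_ : FiniteDimensional K M)
      (_ : Algebra.IsSeparable K M) (_ : Normal K M),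
      ∀ x : L, ((minpoly K x).map (algebraMap K M)).Splits := by
  let Ω := AlgebraicClosure L
  haveI : IsAlgClosure K Ω := IsAlgClosure.ofAlgebraic K L Ω
  haveI : Normal K Ω := IsAlgClosure.normal K Ω
  haveI : Nonempty (L →ₐ[K] Ω) := ⟨IsScalarTower.toAlgHom K L Ω⟩
  let M : IntermediateField K Ω := IntermediateField.normalClosure K L Ω
  have hsep : Algebra.IsSeparable K M := by
    have h1 : ∀ f : L →ₐ[K] Ω, Algebra.IsSeparable K f.fieldRange := fun f =>
      AlgEquiv.Algebra.isSeparable (AlgEquiv.ofInjectiveField f)
    show Algebra.IsSeparable K (⨆ f : L →ₐ[K] Ω, f.fieldRange : IntermediateField K Ω)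
    infer_instance
  refine ⟨M, inferInstance, inferInstance, inferInstance, hsep, inferInstance, ?_⟩
  exact (inferInstance : IsNormalClosure K L M).splits

section Data

variable {K L}
variable {M : Type u} [Field M] [Algebra K M] [FiniteDimensional K M] [Algebra.IsSeparable K M]
  [Normal K M]

/-- the structure morphism -/
noncomputable abbrev jj : Spec (CommRingCat.of L) ⟶ Spec (CommRingCat.of K) := str K L

/-- the maps `Spec M → Spec L` -/
noncomputable def ee (τ : L →ₐ[K] M) : sp K M ⟶ jObj (jj (K := K) (L := L)) :=
  MorphismProperty.Over.homMk (Spec.map (CommRingCat.ofHom τ.toRingHom)) (by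
    show Spec.map _ ≫ (𝟙 _ ≫ Spec.map _) = Spec.map _
    rw [Category.id_comp, ← Spec.map_comp, ← CommRingCat.ofHom_comp]
    exact congrArg (fun t => Spec.map (CommRingCat.ofHom t)) τ.comp_algebraMap)

lemma ee_perm (σ : M →ₐ[K] M) :
    ∃ ρ : Equiv.Perm (L →ₐ[K] M), ∀ τ, spMap K σ ≫ ee τ = ee (ρ τ) := by
  have hinj : Function.Injective (fun τ : L →ₐ[K] M => σ.comp τ) := by
    intro τ τ' h
    ext x
    exact σ.injective (congrArg (fun t => t x) h)
  refine ⟨Equiv.ofBijective _ (Finite.injective_iff_bijective.mp hinj), ?_⟩
  intro τ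
  apply MorphismProperty.Over.Hom.ext
  show Spec.map _ ≫ Spec.map _ = Spec.map _
  rw [← Spec.map_comp, ← CommRingCat.ofHom_comp]
  rfl

variable (hsplit : ∀ x : L, ((minpoly K x).map (algebraMap K M)).Splits)

include hsplit in
/-- the trace data of a finite separable extension -/
noncomputable def traceData : TraceData (jj (K := K) (L := L)) (Module.finrank K L) where
  tr F h := GalDescC.tr (M := M) ee ee_perm F h
  nat φ h := GalDescC.tr_natural (M := M) ee ee_perm φ h
  res F h0 := by
    rw [GalDescC.tr_res (M := M) ee ee_perm F (πj jj) h0, AlgHom.card_of_splits K L M hsplit]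

end Data

/-- the corestriction map for a finite separable extension -/
theorem exists_cor :
    ∃ c : EtCoh.const (Spec (CommRingCat.of K)) ℤ ⟶
      (EtShriek.extZero (jj (K := K) (L := L))).obj
        ((EtShriek.restrAlong (jj (K := K) (L := L))).obj (EtCoh.const (Spec (CommRingCat.of K)) ℤ)),
      c ≫ (EtShriek.extZeroAdj (jj (K := K) (L := L))).counit.app
          (EtCoh.const (Spec (CommRingCat.of K)) ℤ) =
        Module.finrank K L • 𝟙 (EtCoh.const (Spec (CommRingCat.of K)) ℤ) := by
  obtain ⟨M, _, _, _, _, _, hsplit⟩ := exists_galois_closure K L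
  exact ⟨cor (traceData hsplit), cor_counit (traceData hsplit)⟩

end Groth.Agent.Helper6.GalDescF
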