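import Mathlib
import Groth.Prelude.Def_EtBase
import Groth.Agent.Helper6.GalDescB

/-! A nonempty étale scheme over a field receives a map from the spectrum of a finite separable
field extension. -/

set_option autoImplicit false
set_option linter.style.haveILetI false
set_option linter.unusedSectionVars false
set_option linter.unusedVariables false
set_option linter.unusedSimpArgs false

universe u

open CategoryTheory CategoryTheory.Limits Opposite AlgebraicGeometry

namespace Groth.Agent.Helper6.GalDescH

open Groth.Agent.Helper6.GalDescB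

set_option backward.isDefEq.respectTransparency.types false in
theorem exists_sp_hom (k : Type u) [Field k] (W : (Spec (CommRingCat.of k)).Etale) (w : W.left) :
    ∃ (L : Type u) (_ : Field L) (_ : Algebra k L) (_ : FiniteDimensional k L)
      (_ : Algebra.IsSeparable k L), Nonempty (sp k L ⟶ W) := by
  let 𝒰 := W.left.affineOpenCover
  let i := 𝒰.idx w
  obtain ⟨y, hy⟩ := 𝒰.covers w
  let A : CommRingCat.{u} := 𝒰.X i
  let ι : Spec A ⟶ W.left := 𝒰.f i
  haveI : IsOpenImmersion ι := 𝒰.map_prop i
  let φc : CommRingCat.of k ⟶ A := Spec.preimage (ι ≫ W.hom)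
  have hφ : Spec.map φc = ι ≫ W.hom := Spec.map_preimage _
  have hEt : φc.hom.Etale := by
    have : Etale (Spec.map φc) := by rw [hφ]; infer_instance
    exact (HasRingHomProperty.Spec_iff (P := @Etale)).mp this
  letI : Algebra k A := φc.hom.toAlgebra
  have hA : Algebra.Etale k A := RingHom.etale_algebraMap.mp hEt
  haveI : Nontrivial A := (PrimeSpectrum.nonempty_iff_nontrivial).mp ⟨y⟩
  obtain ⟨I, _, Ai, _, _, e, hAi⟩ := (Algebra.Etale.iff_exists_algEquiv_prod k A).mp hA
  haveI : Nonempty I := by
    by_contra h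
    rw [not_nonempty_iff] at h
    exact not_subsingleton A (e.toEquiv.subsingleton)
  obtain ⟨i0⟩ := ‹Nonempty I›
  let ψ : A →ₐ[k] Ai i0 := (Pi.evalAlgHom k Ai i0).comp e.toAlgHom
  haveI := (hAi i0).1
  haveI := (hAi i0).2
  refine ⟨Ai i0, inferInstance, inferInstance, (hAi i0).1, (hAi i0).2,
    ⟨MorphismProperty.Over.homMk (Spec.map (CommRingCat.ofHom ψ.toRingHom) ≫ ι) ?_⟩⟩
  show (Spec.map _ ≫ ι) ≫ W.hom = Spec.map _
  rw [Category.assoc, ← hφ, ← Spec.map_comp]
  congr 1
  ext r
  exact ψ.commutes r

end Groth.Agent.Helper6.GalDescH
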