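import Mathlib
import Groth.Prelude.Def_EtBase
import Groth.Prelude.Def_EtCore
import Groth.Agent.Helper9.ExtNat
import Groth.Agent.Helper6.TorsShift
import Groth.Agent.Helper6.GalDescC
import Groth.Agent.Helper6.GalDescD
import Groth.Agent.Helper6.GalDescF
import Groth.Agent.Helper6.GalDescH

/-! Étale cohomology of a field is torsion in positive degrees. -/

set_option autoImplicit false
set_option linter.style.haveILetI false
set_option linter.unusedSectionVars false
set_option linter.unusedVariables false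
set_option linter.unusedSimpArgs false

universe u

open CategoryTheory CategoryTheory.Limits Opposite AlgebraicGeometry Abelian

namespace Groth.Agent.Helper6.GalDescI

open Groth.Agent.Helper6.GalDescB Groth.Agent.Helper6.GalDescC Groth.Agent.Helper6.GalDescD
open Groth.Agent.Helper9

section Gen

variable {𝒜 : Type*} [Category 𝒜] [Abelian 𝒜] [HasExt.{u + 1} 𝒜]

lemma nsmul_comp {A B C : 𝒜} {a b c : ℕ} (x : Ext.{u + 1} A B a) (y : Ext.{u + 1} B C b)
    (h : a + b = c) (N : ℕ) : (N • x).comp y h = N • x.comp y h := by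
  induction N with
  | zero => rw [zero_nsmul, zero_nsmul, Ext.zero_comp]
  | succ N ih => rw [succ_nsmul, succ_nsmul, Ext.add_comp, ih]

lemma mk₀_nsmul {A B : 𝒜} (f : A ⟶ B) (N : ℕ) :
    (Ext.mk₀ (N • f) : Ext.{u + 1} A B 0) = N • Ext.mk₀ f := by
  induction N with
  | zero => rw [zero_nsmul, zero_nsmul, Ext.mk₀_zero]
  | succ N ih => rw [succ_nsmul, succ_nsmul, Ext.mk₀_add, ih]

end Gen

set_option backward.isDefEq.respectTransparency.types false in
theorem mem_iff {X : Scheme.{u}} (U : X.Etale) (S : Sieve U) :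
    S ∈ X.smallEtaleTopology U ↔
      ∀ x : U.left, ∃ (V : X.Etale) (g : V ⟶ U) (v : V.left),
        S g ∧ EtCoh.etaleMP g.left ∧ g.left v = x := by
  have eX : X.smallEtaleTopology =
      (X.smallPretopology (P := EtCoh.etaleMP) (Q := EtCoh.etaleMP)).toGrothendieck :=
    Scheme.smallGrothendieckTopology_eq_toGrothendieck_smallPretopology X le_rfl
  rw [eX]
  exact Scheme.mem_toGrothendieck_smallPretopology U S

lemma nsmul_app {X : Scheme.{u}} {F G : EtCoh.Ab X} (φ : F ⟶ G) (N : ℕ) (U : X.Etale)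
    (s : F.obj.obj (op U)) :
    ((N • φ : F ⟶ G).hom.app (op U)).hom s = N • (φ.hom.app (op U)).hom s := by
  have h1 : N • φ = φ ≫ (N • 𝟙 G) := by rw [Preadditive.comp_nsmul, Category.comp_id]
  rw [h1]
  exact TorsShift.nsmul_id_app G N U _

variable (k : Type u) [Field k]

section Key

variable {k}
variable {L : Type u} [Field L] [Algebra k L] [FiniteDimensional k L] [Algebra.IsSeparable k L]
variable {M : Type u} [Field M] [Algebra k M] [FiniteDimensional k M] [Algebra.IsSeparable k M]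
  [Normal k M]

lemma spMap_perm (σ : M →ₐ[k] M) :
    ∃ ρ : Equiv.Perm (L →ₐ[k] M), ∀ τ, spMap k σ ≫ spMap k τ = spMap k (ρ τ) := by
  have hinj : Function.Injective (fun τ : L →ₐ[k] M => σ.comp τ) := by
    intro τ τ' h
    ext x
    exact σ.injective (congrArg (fun t => t x) h)
  refine ⟨Equiv.ofBijective _ (Finite.injective_iff_bijective.mp hinj), ?_⟩
  intro τ
  exact (spMap_comp k τ σ).symm

end Key

/-- sections over `Spec L` that lift locally: a multiple lifts globally -/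
theorem exists_lift_nsmul {I Q : EtCoh.Ab (Spec (CommRingCat.of k))} (π : I ⟶ Q) [Epi π]
    (s : Q.obj.obj (op (EtCoh.top (Spec (CommRingCat.of k))))) :
    ∃ (d : ℕ) (_ : 0 < d) (t : I.obj.obj (op (EtCoh.top (Spec (CommRingCat.of k))))),
      (π.hom.app _).hom t = d • s := by
  have hls : Sheaf.IsLocallySurjective π := (Sheaf.isLocallySurjective_iff_epi' _ π).2 inferInstance
  have hmem := Presheaf.imageSieve_mem (Spec (CommRingCat.of k)).smallEtaleTopology π.hom s
  obtain ⟨pt⟩ : Nonempty ↥(Spec (CommRingCat.of k)) := inferInstance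
  obtain ⟨W, g, w, ⟨t, ht⟩, -, -⟩ := (mem_iff _ _).1 hmem pt
  obtain ⟨L, _, _, _, _, ⟨h⟩⟩ := GalDescH.exists_sp_hom k W w
  obtain ⟨M, _, _, _, _, _, hsplit⟩ := GalDescF.exists_galois_closure k L
  let e : (L →ₐ[k] M) → (sp k M ⟶ sp k L) := fun τ => spMap k τ
  have hperm : ∀ σ : M →ₐ[k] M, ∃ ρ : Equiv.Perm (L →ₐ[k] M), ∀ τ, spMap k σ ≫ e τ = e (ρ τ) :=
    fun σ => spMap_perm σ
  let tL : I.obj.obj (op (sp k L)) := (I.obj.map h.op).hom t
  have htL : (π.hom.app (op (sp k L))).hom tL = (Q.obj.map (h ≫ g).op).hom s := by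
    have n1 := NatTrans.naturality_apply π.hom h.op t
    refine n1.trans ?_
    have ht' : (π.hom.app (op W)).hom t = (Q.obj.map g.op).hom s := ht
    rw [op_comp, Q.obj.map_comp]
    exact congrArg (Q.obj.map h.op).hom ht'
  refine ⟨Module.finrank k L, Module.finrank_pos, GalDescC.tr e hperm I tL, ?_⟩
  rw [GalDescC.tr_natural e hperm π tL, htL, GalDescC.tr_res e hperm Q (h ≫ g) s,
    AlgHom.card_of_splits k L M hsplit]

/-- the degree one step -/
theorem key {S : ShortComplex (EtCoh.Ab (Spec (CommRingCat.of k)))} (hS : S.ShortExact)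
    (φ : EtCoh.const (Spec (CommRingCat.of k)) ℤ ⟶ S.X₃) :
    ∃ (d : ℕ) (_ : 0 < d),
      (Ext.mk₀ (d • φ) : Ext.{u + 1} _ _ 0).comp hS.extClass (zero_add 1) = 0 := by
  haveI := hS.epi_g
  obtain ⟨d, hd, t, ht⟩ := exists_lift_nsmul k S.g ((φ.hom.app _).hom (one _))
  refine ⟨d, hd, ?_⟩
  have h1 : d • φ = fromElt S.X₂ t ≫ S.g := by
    apply hom_ext_one
    rw [nsmul_app]
    have h2 : (((fromElt S.X₂ t ≫ S.g).hom.app (op (EtCoh.top _))).hom (one _)) =
        (S.g.hom.app _).hom (((fromElt S.X₂ t).hom.app _).hom (one _)) := rfl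
    rw [h2, fromElt_one, ht]
  rw [h1, ← Ext.mk₀_comp_mk₀, Ext.comp_assoc_of_second_deg_zero, hS.comp_extClass, Ext.comp_zero]

theorem isOfFinAddOrder : ∀ (i : ℕ) (F : EtCoh.Ab (Spec (CommRingCat.of k)))
    (x : EtCoh.H (Spec (CommRingCat.of k)) F (i + 1)), IsOfFinAddOrder x
  | 0, F, x => by
    obtain ⟨y, rfl⟩ := ExtNat.exists_comp_extClass x
    obtain ⟨φ, rfl⟩ := (Ext.mk₀_bijective _ _).2 y
    obtain ⟨d, hd, h⟩ := key k (ExtNat.sc_shortExact F) φ
    refine isOfFinAddOrder_iff_nsmul_eq_zero.2 ⟨d, hd, ?_⟩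
    rw [← nsmul_comp, ← mk₀_nsmul]
    exact h
  | i + 1, F, x => by
    obtain ⟨y, rfl⟩ := ExtNat.exists_comp_extClass x
    obtain ⟨d, hd, h⟩ := isOfFinAddOrder_iff_nsmul_eq_zero.1 (isOfFinAddOrder i _ y)
    refine isOfFinAddOrder_iff_nsmul_eq_zero.2 ⟨d, hd, ?_⟩
    rw [← nsmul_comp, h, Ext.zero_comp]

end Groth.Agent.Helper6.GalDescI
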