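import Mathlib
import Groth.Prelude.Def_EtBase
import Groth.Prelude.Def_EtCore
import Groth.Agent.Helper4.ConstLoc
import Groth.Agent.Helper6.GalDescI
import Groth.Agent.Helper6.ConstUnitA

/-! Sections of constant sheaves over connected objects; criterion for `M_X ⟶ f_* M_{X'}` iso. -/

set_option autoImplicit false
set_option linter.style.haveILetI false
set_option linter.unusedSectionVars false
set_option linter.unusedVariables false
set_option linter.unusedSimpArgs false

universe u

open CategoryTheory CategoryTheory.Limits Opposite AlgebraicGeometry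

namespace Groth.Agent.Helper6.ConstUnitB

open Groth.Agent.Helper4.ConstLoc Groth.Agent.Helper6.ConstUnitA

variable {Y : Scheme.{u}} (N : AddCommGrpCat.{u + 1})

/-- two local constant values of a section at the same point agree -/
lemma eq_of_two_consts (V : Y.Etale) (t : (cS Y N).obj.obj (op V))
    {W W' : Y.Etale} (g : W ⟶ V) (g' : W' ⟶ V) (w : W.left) (w' : W'.left)
    (hw : g.left w = g'.left w') (n n' : N)
    (hn : (cS Y N).obj.map g.op t = (η Y N).app (op W) n)
    (hn' : (cS Y N).obj.map g'.op t = (η Y N).app (op W') n') : n = n' := by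
  obtain ⟨z, hz1, hz2⟩ := Scheme.Pullback.exists_preimage_pullback (f := g.left) (g := g'.left)
    w w' hw
  let Z : Y.Etale := Scheme.Etale.mk (pullback.fst g.left g'.left ≫ W.hom)
  have e1 : g.left ≫ V.hom = W.hom := Over.w g.hom
  have e2 : g'.left ≫ V.hom = W'.hom := Over.w g'.hom
  let p : Z ⟶ W := MorphismProperty.Over.homMk (pullback.fst g.left g'.left) rfl
  let p' : Z ⟶ W' := MorphismProperty.Over.homMk (pullback.snd g.left g'.left) (by
    show pullback.snd g.left g'.left ≫ W'.hom = pullback.fst g.left g'.left ≫ W.hom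
    rw [← e1, ← e2, pullback.condition_assoc])
  have hpp : p ≫ g = p' ≫ g' := by
    apply MorphismProperty.Over.Hom.ext
    exact pullback.condition
  apply const_injective N Z z
  rw [← η_map N p n, ← η_map N p' n', ← hn, ← hn']
  rw [← ConcreteCategory.comp_apply, ← ConcreteCategory.comp_apply, ← Functor.map_comp,
    ← Functor.map_comp, ← op_comp, ← op_comp, hpp]

/-- sections of a constant sheaf over a preconnected étale object are constants -/
theorem exists_const_of_preconnected (V : Y.Etale) [PreconnectedSpace V.left]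
    (t : (cS Y N).obj.obj (op V)) : ∃ n : N, t = (η Y N).app (op V) n := by
  by_cases hne : Nonempty V.left
  · obtain ⟨x₀⟩ := hne
    obtain ⟨W₀, g₀, w₀, n₀, hw₀, hn₀⟩ := exists_const N V t x₀
    refine ⟨n₀, ?_⟩
    let A : Set V.left := {x | ∃ (W : Y.Etale) (g : W ⟶ V) (w : W.left), g.left w = x ∧
      (cS Y N).obj.map g.op t = (η Y N).app (op W) n₀}
    let B : Set V.left := {x | ∃ (W : Y.Etale) (g : W ⟶ V) (w : W.left) (n : N), g.left w = x ∧
      (cS Y N).obj.map g.op t = (η Y N).app (op W) n ∧ n ≠ n₀}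
    have hA : IsOpen A := by
      rw [isOpen_iff_forall_mem_open]
      rintro x ⟨W, g, w, hw, hn⟩
      refine ⟨Set.range g.left, ?_, g.left.isOpenMap.isOpen_range, ⟨w, hw⟩⟩
      rintro _ ⟨w', rfl⟩
      exact ⟨W, g, w', rfl, hn⟩
    have hB : IsOpen B := by
      rw [isOpen_iff_forall_mem_open]
      rintro x ⟨W, g, w, n, hw, hn, hne⟩
      refine ⟨Set.range g.left, ?_, g.left.isOpenMap.isOpen_range, ⟨w, hw⟩⟩
      rintro _ ⟨w', rfl⟩
      exact ⟨W, g, w', n, rfl, hn, hne⟩
    have hAB : Aᶜ = B := by
      ext x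
      constructor
      · intro hx
        obtain ⟨W, g, w, n, hw, hn⟩ := exists_const N V t x
        refine ⟨W, g, w, n, hw, hn, ?_⟩
        rintro rfl
        exact hx ⟨W, g, w, hw, hn⟩
      · rintro ⟨W, g, w, n, hw, hn, hne⟩ ⟨W', g', w', hw', hn'⟩
        exact hne (eq_of_two_consts N V t g g' w w' (hw.trans hw'.symm) n n₀ hn hn')
    have hcl : IsClopen A := ⟨by rw [← isOpen_compl_iff, hAB]; exact hB, hA⟩
    have huniv : A = Set.univ := hcl.eq_univ ⟨x₀, W₀, g₀, w₀, hw₀, hn₀⟩
    apply sec_ext
    intro x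
    obtain ⟨W, g, w, hw, hn⟩ : x ∈ A := huniv ▸ Set.mem_univ x
    exact ⟨W, g, w, hw, hn.trans (η_map N g n₀).symm⟩
  · refine ⟨0, ?_⟩
    apply sec_ext
    intro x
    exact absurd ⟨x⟩ hne

section Crit

variable {X' X : Scheme.{u}} (f : X' ⟶ X)

set_option backward.isDefEq.respectTransparency.types false in
theorem isIso_c
    (hne : ∀ W : X.Etale, Nonempty W.left → Nonempty ((EtCoh.bc f).obj W).left)
    (hconn : ∀ (U : X.Etale) (p : U.left), ∃ (W : X.Etale) (g : W ⟶ U) (w : W.left),
      g.left w = p ∧ PreconnectedSpace ((EtCoh.bc f).obj W).left) : IsIso (c f N) := by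
  haveI : Mono (c f N) := by
    haveI : ∀ U, Mono ((c f N).hom.app U) := by
      intro U
      rw [AddCommGrpCat.mono_iff_injective, injective_iff_map_eq_zero]
      intro s hs
      apply sec_ext
      intro x
      obtain ⟨W, g, w, n, hw, hn⟩ := exists_const N U.unop s x
      refine ⟨W, g, w, hw, ?_⟩
      obtain ⟨z⟩ := hne W ⟨w⟩
      have h1 : ((c f N).hom.app (op W)).hom ((cS X N).obj.map g.op s) = 0 := by
        have := NatTrans.naturality_apply (c f N).hom g.op s
        refine this.trans ?_
        have hs' : ((c f N).hom.app (op U.unop)).hom s = 0 := hs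
        rw [hs', map_zero]
      rw [hn, c_η] at h1
      have h2 : n = 0 := by
        apply const_injective N _ z
        rw [h1, map_zero]
        rfl
      rw [hn, h2, map_zero, map_zero]
    haveI : Mono (c f N).hom := NatTrans.mono_of_mono_app _
    exact Sheaf.Hom.mono_of_presheaf_mono _ _ _
  haveI : Epi (c f N) := by
    rw [← Sheaf.isLocallySurjective_iff_epi']
    constructor
    intro U s
    rw [GalDescI.mem_iff]
    intro x
    obtain ⟨W, g, w, hw, hpc⟩ := hconn U x
    obtain ⟨n, hn⟩ := exists_const_of_preconnected N ((EtCoh.bc f).obj W)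
      ((cS X' N).obj.map ((EtCoh.bc f).map g).op s)
    refine ⟨W, g, w, ⟨(η X N).app (op W) n, ?_⟩, inferInstance, hw⟩
    exact (c_η f N W n).trans hn.symm
  exact isIso_of_mono_of_epi _

theorem isIso_unit
    (hne : ∀ W : X.Etale, Nonempty W.left → Nonempty ((EtCoh.bc f).obj W).left)
    (hconn : ∀ (U : X.Etale) (p : U.left), ∃ (W : X.Etale) (g : W ⟶ U) (w : W.left),
      g.left w = p ∧ PreconnectedSpace ((EtCoh.bc f).obj W).left) :
    IsIso ((EtCoh.pullPushAdj f).unit.app (cS X N)) := by
  haveI := isIso_c N f hne hconn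
  let e := (EtCoh.push f).mapIso ((EtCore.pullConstIso f).app N)
  have h : (EtCoh.pullPushAdj f).unit.app (cS X N) = c f N ≫ e.inv :=
    (Iso.eq_comp_inv e).2 rfl
  rw [h]
  infer_instance

end Crit

end Groth.Agent.Helper6.ConstUnitB
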