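import Mathlib
import Groth.Prelude.Def_EtBase
import Groth.Prelude.Def_EtCore
import Groth.Agent.Helper5.UnramLqf
import Groth.Agent.Helper6.ConstUnitB
import Groth.Agent.Helper6.ConstUnitC

/-! `M_X ⟶ j_* j^* M_X` is an isomorphism for `X` normal integral and `j` the generic point or
a nonempty open. -/

set_option autoImplicit false
set_option linter.style.haveILetI false
set_option linter.unusedSectionVars false
set_option linter.unusedVariables false
set_option linter.unusedSimpArgs false

universe u

open CategoryTheory CategoryTheory.Limits Opposite AlgebraicGeometry TopologicalSpace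

namespace Groth.Agent.Helper6.ConstUnitD

open Groth.Agent.Helper5 Groth.Agent.Helper4.ConstLoc

variable {X' X : Scheme.{u}} (f : X' ⟶ X)

/-- a nonempty étale scheme over an integral scheme has nonempty base change along a map
hitting the generic point -/
lemma nonempty_bc [IsIntegral X] (hf : genericPoint X ∈ Set.range f) (W : X.Etale)
    (hW : Nonempty W.left) : Nonempty ((EtCoh.bc f).obj W).left := by
  obtain ⟨w₀⟩ := hW
  have hopen : IsOpen (Set.range W.hom) := W.hom.isOpenMap.isOpen_range
  have hmem : genericPoint X ∈ Set.range W.hom := by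
    rw [(genericPoint_spec X).mem_open_set_iff hopen]
    exact ⟨W.hom w₀, trivial, w₀, rfl⟩
  obtain ⟨w, hw⟩ := hmem
  obtain ⟨x', hx'⟩ := hf
  obtain ⟨z, -, -⟩ := Scheme.Pullback.exists_preimage_pullback (f := W.hom) (g := f) w x'
    (hw.trans hx'.symm)
  exact ⟨z⟩

/-- points of an irreducible étale scheme over the generic point are generic -/
lemma eq_genericPoint_of_map_eq [IsIntegral X] (W : X.Etale) [IrreducibleSpace W.left]
    (w : W.left) (hw : W.hom w = genericPoint X) : w = genericPoint W.left := by
  haveI : LocallyQuasiFinite W.hom := UnramLqf.locallyQuasiFinite_of_unramified W.hom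
  have h1 : genericPoint W.left ⤳ w := (genericPoint_spec W.left).specializes trivial
  have h2 : W.hom (genericPoint W.left) = genericPoint X := by
    have h3 : W.hom (genericPoint W.left) ⤳ genericPoint X := hw ▸ h1.map W.hom.continuous
    have h4 : genericPoint X ⤳ W.hom (genericPoint W.left) :=
      (genericPoint_spec X).specializes trivial
    exact (h3.antisymm h4).eq
  have hdisc := W.hom.isDiscrete_preimage_singleton (genericPoint X)
  rw [isDiscrete_iff_discreteTopology] at hdisc
  have h5 : (⟨genericPoint W.left, h2⟩ : W.hom ⁻¹' {genericPoint X}) ⤳ ⟨w, hw⟩ := by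
    rw [← Topology.IsInducing.subtypeVal.specializes_iff]
    exact h1
  exact (congrArg Subtype.val h5.eq).symm

/-- generic point case: the base change of an irreducible étale scheme is a subsingleton -/
lemma subsingleton_bc [IsPreimmersion f] [IsIntegral X] (hf : Set.range f ⊆ {genericPoint X})
    (W : X.Etale) [IrreducibleSpace W.left] : Subsingleton ((EtCoh.bc f).obj W).left := by
  constructor
  intro a b
  have key : ∀ z : ↥(pullback W.hom f), pullback.fst W.hom f z = genericPoint W.left := by
    intro z
    apply eq_genericPoint_of_map_eq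
    rw [← Scheme.Hom.comp_apply, pullback.condition, Scheme.Hom.comp_apply]
    exact hf ⟨_, rfl⟩
  haveI : IsPreimmersion (pullback.fst W.hom f) := inferInstance
  exact (pullback.fst W.hom f).isEmbedding.injective ((key a).trans (key b).symm)

/-- open immersion case -/
lemma preconnected_bc [IsOpenImmersion f] (W : X.Etale) [IrreducibleSpace W.left] :
    PreconnectedSpace ((EtCoh.bc f).obj W).left := by
  haveI : IsOpenImmersion (pullback.fst W.hom f) := inferInstance
  have h1 : IsPreirreducible (Set.range (pullback.fst W.hom f)) :=
    (IrreducibleSpace.isIrreducible_univ W.left).isPreirreducible.open_subset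
      (pullback.fst W.hom f).isOpenEmbedding.isOpen_range (Set.subset_univ _)
  have h2 : _root_.IsPreconnected (Set.range (pullback.fst W.hom f)) := h1.isPreconnected
  rw [← Set.image_univ, (pullback.fst W.hom f).isEmbedding.isInducing.isPreconnected_image] at h2
  exact ⟨h2⟩

variable (N : AddCommGrpCat.{u + 1})

/-- generic point case -/
theorem isIso_unit_point [IsIntegral X] (hN : ∀ x : X, IsIntegrallyClosed (X.presheaf.stalk x))
    [IsPreimmersion f] (hf : Set.range f = {genericPoint X}) :
    IsIso ((EtCoh.pullPushAdj f).unit.app (cS X N)) := by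
  apply ConstUnitB.isIso_unit N f
  · intro W hW
    exact nonempty_bc f (hf ▸ Set.mem_singleton _) W hW
  · intro U p
    obtain ⟨W, g, w, hw, hirr⟩ := ConstUnitC.exists_irreducible_nbhd hN U p
    haveI := subsingleton_bc f hf.subset W
    exact ⟨W, g, w, hw, inferInstance⟩

/-- open immersion case -/
theorem isIso_unit_open [IsIntegral X] (hN : ∀ x : X, IsIntegrallyClosed (X.presheaf.stalk x))
    [IsOpenImmersion f] (hf : (Set.range f).Nonempty) :
    IsIso ((EtCoh.pullPushAdj f).unit.app (cS X N)) := by
  apply ConstUnitB.isIso_unit N f
  · intro W hW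
    refine nonempty_bc f ?_ W hW
    rw [(genericPoint_spec X).mem_open_set_iff f.isOpenEmbedding.isOpen_range]
    obtain ⟨x, hx⟩ := hf
    exact ⟨x, trivial, hx⟩
  · intro U p
    obtain ⟨W, g, w, hw, hirr⟩ := ConstUnitC.exists_irreducible_nbhd hN U p
    exact ⟨W, g, w, hw, preconnected_bc f W⟩

end Groth.Agent.Helper6.ConstUnitD
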