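import Mathlib
import Groth.Prelude.Def_EtBase
import Groth.Prelude.Def_EtCore
import Groth.Agent.Helper4.ConstLoc
import Groth.Agent.Helper9.EtDisjGlue
import Groth.Agent.Helper6.GalDescC
import Groth.Agent.Helper6.ConstUnitB

/-! Sections of constant sheaves as locally constant functions. -/

set_option autoImplicit false
set_option linter.style.haveILetI false
set_option linter.unusedSectionVars false
set_option linter.unusedVariables false
set_option linter.unusedSimpArgs false

universe u

open CategoryTheory CategoryTheory.Limits Opposite AlgebraicGeometry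

namespace Groth.Agent.Helper6.ConstValA

open Groth.Agent.Helper4.ConstLoc Groth.Agent.Helper9

variable {Y : Scheme.{u}} (N : AddCommGrpCat.{u + 1})

lemma exists_val (V : Y.Etale) (t : (cS Y N).obj.obj (op V)) (x : V.left) :
    ∃ (n : N) (W : Y.Etale) (g : W ⟶ V) (w : W.left), g.left w = x ∧
      (cS Y N).obj.map g.op t = (η Y N).app (op W) n := by
  obtain ⟨W, g, w, n, hw, hn⟩ := exists_const N V t x
  exact ⟨n, W, g, w, hw, hn⟩

/-- the value of a section of a constant sheaf at a point -/
noncomputable def val (V : Y.Etale) (t : (cS Y N).obj.obj (op V)) (x : V.left) : N :=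
  (exists_val N V t x).choose

lemma val_spec (V : Y.Etale) (t : (cS Y N).obj.obj (op V)) (x : V.left) :
    ∃ (W : Y.Etale) (g : W ⟶ V) (w : W.left), g.left w = x ∧
      (cS Y N).obj.map g.op t = (η Y N).app (op W) (val N V t x) :=
  (exists_val N V t x).choose_spec

lemma val_eq (V : Y.Etale) (t : (cS Y N).obj.obj (op V)) (x : V.left)
    {W : Y.Etale} (g : W ⟶ V) (w : W.left) (hw : g.left w = x) (n : N)
    (hn : (cS Y N).obj.map g.op t = (η Y N).app (op W) n) : val N V t x = n := by
  obtain ⟨W', g', w', hw', hn'⟩ := val_spec N V t x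
  exact ConstUnitB.eq_of_two_consts N V t g' g w' w (hw'.trans hw.symm) _ _ hn' hn

lemma isLocallyConstant_val (V : Y.Etale) (t : (cS Y N).obj.obj (op V)) :
    IsLocallyConstant (val N V t) := by
  rw [IsLocallyConstant.iff_exists_open]
  intro x
  obtain ⟨W, g, w, hw, hn⟩ := val_spec N V t x
  refine ⟨Set.range g.left, g.left.isOpenMap.isOpen_range, ⟨w, hw⟩, ?_⟩
  rintro _ ⟨w', rfl⟩
  exact val_eq N V t _ g w' rfl _ hn

lemma val_map {V V' : Y.Etale} (h : V' ⟶ V) (t : (cS Y N).obj.obj (op V)) (x' : V'.left) :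
    val N V' ((cS Y N).obj.map h.op t) x' = val N V t (h.left x') := by
  obtain ⟨W, g, w, hw, hn⟩ := val_spec N V' ((cS Y N).obj.map h.op t) x'
  symm
  refine val_eq N V t _ (g ≫ h) w ?_ _ ?_
  · show h.left (g.left w) = _
    rw [hw]
  · rw [op_comp, Functor.map_comp, ConcreteCategory.comp_apply]
    exact hn

lemma val_η (V : Y.Etale) (n : N) (x : V.left) : val N V ((η Y N).app (op V) n) x = n := by
  refine val_eq N V _ x (𝟙 V) x rfl n ?_
  rw [op_id, CategoryTheory.Functor.map_id]
  rfl

lemma eq_η_of_val_eq (V : Y.Etale) (t : (cS Y N).obj.obj (op V)) (n : N)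
    (h : ∀ x, val N V t x = n) : t = (η Y N).app (op V) n := by
  apply sec_ext
  intro x
  obtain ⟨W, g, w, hw, hn⟩ := val_spec N V t x
  refine ⟨W, g, w, hw, ?_⟩
  rw [hn, h x, η_map]

set_option backward.isDefEq.respectTransparency.types false in
/-- every locally constant function is the value function of a section -/
theorem exists_section (V : Y.Etale) (φ : V.left → N) (hφ : IsLocallyConstant φ) :
    ∃ t : (cS Y N).obj.obj (op V), ∀ x, val N V t x = φ x := by
  let Vn : N → V.left.Opens := fun n => ⟨φ ⁻¹' {n}, hφ.isOpen_fiber n⟩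
  let O : N → Y.Etale := fun n => Scheme.Etale.mk ((Vn n).ι ≫ V.hom)
  let g : ∀ n, O n ⟶ V := fun n => MorphismProperty.Over.homMk (Vn n).ι rfl
  have hgl : ∀ n (z : (O n).left), φ ((g n).left z) = n := fun n z => z.2
  have hmono : ∀ n, Mono (g n) := fun n =>
    EtDisjGlue.mono_of_mono_left (g n) (show Mono (Vn n).ι from inferInstance)
  have hsurj : ∀ x : V.left, ∃ (n : N) (z : (O n).left), (g n).left z = x := fun x =>
    ⟨φ x, ⟨x, rfl⟩, rfl⟩
  have hdisj : ∀ a b, a ≠ b → ∀ (za : (O a).left) (zb : (O b).left),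
      (g a).left za ≠ (g b).left zb := by
    intro a b hab za zb h
    apply hab
    rw [← hgl a za, ← hgl b zb, h]
  obtain ⟨T, hT, -⟩ := EtDisjGlue.existsUnique_glue O g hmono hsurj hdisj
    ((cS Y N).obj ⋙ forget AddCommGrpCat) (GalDescC.isSheaf_forget (cS Y N))
    (fun n => (η Y N).app (op (O n)) n)
  refine ⟨T, fun x => ?_⟩
  exact val_eq N V T x (g (φ x)) ⟨x, rfl⟩ rfl _ (hT (φ x))

end Groth.Agent.Helper6.ConstValA
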