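import Mathlib

/-! Topological lemmas: closures of quasi-compact opens in affine schemes, extension of locally
constant functions from quasi-compact dense opens when stalks are domains. -/

set_option autoImplicit false
set_option linter.style.haveILetI false
set_option linter.unusedSectionVars false
set_option linter.unusedVariables false
set_option linter.unusedSimpArgs false

universe u

open CategoryTheory CategoryTheory.Limits Opposite AlgebraicGeometry TopologicalSpace

namespace Groth.Agent.Helper6.ConstValT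

/-- a point in the closure of a basic open has a generization in the basic open -/
theorem exists_le_of_mem_closure_basicOpen {R : Type*} [CommRing R] (f : R) (p : PrimeSpectrum R)
    (hp : p ∈ closure (PrimeSpectrum.basicOpen f : Set (PrimeSpectrum R))) :
    ∃ q : PrimeSpectrum R, q ∈ PrimeSpectrum.basicOpen f ∧ q ≤ p := by
  let S : Submonoid R := p.asIdeal.primeCompl ⊔ Submonoid.powers f
  have h0 : Disjoint ((⊥ : Ideal R) : Set R) (S : Set R) := by
    rw [Set.disjoint_left]
    intro a ha haS
    have ha0 : a = 0 := ha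
    subst ha0
    obtain ⟨s, hs, z, ⟨k, rfl⟩, hsz⟩ := Submonoid.mem_sup.1 haS
    -- `D(s)` is a neighbourhood of `p` disjoint from `D(f)`
    have hps : p ∈ (PrimeSpectrum.basicOpen s : Set (PrimeSpectrum R)) := hs
    obtain ⟨q, hq1, hq2⟩ := mem_closure_iff.1 hp _ (PrimeSpectrum.basicOpen s).2 hps
    have hq1' : s ∉ q.asIdeal := hq1
    have hq2' : f ∉ q.asIdeal := hq2
    have : s * f ^ k ∈ q.asIdeal := by rw [hsz]; exact q.asIdeal.zero_mem
    rcases q.2.mem_or_mem this with h | h
    · exact hq1' h
    · exact hq2' (q.2.mem_of_pow_mem k h)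
  obtain ⟨q, hq, -, hqS⟩ := Ideal.exists_le_prime_disjoint ⊥ S h0
  refine ⟨⟨q, hq⟩, ?_, ?_⟩
  · intro hf
    exact Set.disjoint_left.1 hqS hf (Submonoid.mem_sup_right (Submonoid.mem_powers f))
  · intro a ha
    by_contra hap
    exact Set.disjoint_left.1 hqS ha (Submonoid.mem_sup_left hap)

/-- a point in the closure of a quasi-compact open of a prime spectrum has a generization
in it -/
theorem exists_le_of_mem_closure {R : Type*} [CommRing R] (B : Set (PrimeSpectrum R))
    (hB : IsOpen B) (hBc : IsCompact B) (p : PrimeSpectrum R) (hp : p ∈ closure B) :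
    ∃ q ∈ B, q ≤ p := by
  obtain ⟨t, ht, rfl⟩ := ((PrimeSpectrum.isBasis_basic_opens (R := R)).isCompact_open_iff_eq_finite_iUnion
    _ (fun i => PrimeSpectrum.isCompact_basicOpen i) B).1 ⟨hBc, hB⟩
  rw [ht.closure_biUnion] at hp
  obtain ⟨f, hf, hpf⟩ := Set.mem_iUnion₂.1 hp
  obtain ⟨q, hq, hle⟩ := exists_le_of_mem_closure_basicOpen f p hpf
  exact ⟨q, Set.mem_iUnion₂.2 ⟨f, hf, hq⟩, hle⟩

/-- a point in the closure of a quasi-compact open of an affine scheme has a generization in it -/
theorem exists_specializes_of_mem_closure (T : Scheme.{u}) [IsAffine T] (B : Set T)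
    (hB : IsOpen B) (hBc : IsCompact B) (x : T) (hx : x ∈ closure B) :
    ∃ b ∈ B, b ⤳ x := by
  let h : T ≃ₜ PrimeSpectrum Γ(T, ⊤) := T.isoSpec.hom.homeomorph
  have h1 : h x ∈ closure (h '' B) := by
    rw [← h.image_closure]
    exact ⟨x, hx, rfl⟩
  obtain ⟨q, ⟨b, hb, rfl⟩, hle⟩ := exists_le_of_mem_closure (h '' B) (h.isOpenMap _ hB)
    (hBc.image h.continuous) (h x) h1
  refine ⟨b, hb, ?_⟩
  have h2 : h b ⤳ h x := (PrimeSpectrum.le_iff_specializes _ _).1 hle
  have h3 := h2.map h.symm.continuous
  simpa using h3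

lemma eq_of_specializes {A N : Type*} [TopologicalSpace A] {ψ : A → N} (hψ : IsLocallyConstant ψ)
    {a b : A} (h : a ⤳ b) : ψ a = ψ b :=
  h.mem_open (hψ.isOpen_fiber (ψ b)) rfl

/-- extension of locally constant functions from a quasi-compact dense open of an affine scheme
whose stalks are domains -/
theorem exists_extension {T' T : Scheme.{u}} [IsAffine T] (π : T' ⟶ T) [IsOpenImmersion π]
    [QuasiCompact π] (hd : Dense (Set.range π)) (hD : ∀ x : T, IsDomain (T.presheaf.stalk x))
    {N : Type*} (ψ : T' → N) (hψ : IsLocallyConstant ψ) :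
    ∃ φ : T → N, IsLocallyConstant φ ∧ ∀ z, φ (π z) = ψ z := by
  haveI : CompactSpace T' := QuasiCompact.compactSpace_of_compactSpace π
  have hind := π.isOpenEmbedding.isInducing
  let bot : ∀ y : T, PrimeSpectrum (T.presheaf.stalk y) := fun y =>
    ⟨⊥, by haveI := hD y; exact Ideal.isPrime_bot⟩
  let g : T → T := fun y => T.fromSpecStalk y (bot y)
  have hg : ∀ y, g y ⤳ y := fun y => by
    have : g y ∈ Set.range (T.fromSpecStalk y) := ⟨_, rfl⟩
    rw [Scheme.range_fromSpecStalk] at this
    exact this
  -- `g y` generizes every generization of `y`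
  have hgen : ∀ y z, z ⤳ y → g y ⤳ z := by
    intro y z hz
    have : z ∈ Set.range (T.fromSpecStalk y) := by
      rw [Scheme.range_fromSpecStalk]; exact hz
    obtain ⟨P, rfl⟩ := this
    have h1 : bot y ⤳ P := by
      rw [← PrimeSpectrum.le_iff_specializes]
      exact bot_le (a := P.asIdeal)
    exact h1.map (T.fromSpecStalk y).continuous
  have hmax : ∀ y z, z ⤳ g y → z = g y := fun y z hz =>
    (hz.antisymm (hgen y z (hz.trans (hg y)))).eq
  have hgD : ∀ y, g y ∈ Set.range π := by
    intro y
    obtain ⟨b, hb, hby⟩ := exists_specializes_of_mem_closure T (Set.range π)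
      π.isOpenEmbedding.isOpen_range (isCompact_range π.continuous) (g y)
      (hd.closure_eq ▸ Set.mem_univ _)
    rw [← hmax y b hby]
    exact hb
  choose zg hzg using hgD
  refine ⟨fun x => ψ (zg x), ?_, ?_⟩
  · rw [IsLocallyConstant.iff_exists_open]
    intro x
    let B' : Set T' := ψ ⁻¹' {ψ (zg x)}ᶜ
    have hB'o : IsOpen B' := hψ _
    have hB'cl : IsClosed B' := by
      rw [← isOpen_compl_iff, ← Set.preimage_compl, compl_compl]
      exact hψ _
    have hB'c : IsCompact B' := hB'cl.isCompact
    let B : Set T := π '' B'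
    have hBo : IsOpen B := π.isOpenEmbedding.isOpenMap _ hB'o
    have hBc : IsCompact B := hB'c.image π.continuous
    have hx : x ∉ closure B := by
      intro hx
      obtain ⟨b, ⟨b', hb', rfl⟩, hbx⟩ := exists_specializes_of_mem_closure T B hBo hBc x hx
      have h1 : g x ⤳ π b' := hgen x _ hbx
      rw [← hzg x, hind.specializes_iff] at h1
      exact hb' (eq_of_specializes hψ h1).symm
    refine ⟨(closure B)ᶜ, isClosed_closure.isOpen_compl, hx, ?_⟩
    intro y hy
    by_contra hne
    have h1 : g y ∈ (closure B)ᶜ := (hg y).mem_open isClosed_closure.isOpen_compl hy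
    apply h1
    apply subset_closure
    exact ⟨zg y, hne, hzg y⟩
  · intro z
    have h1 : g (π z) ⤳ π z := hg _
    rw [← hzg (π z), hind.specializes_iff] at h1
    exact eq_of_specializes hψ h1

end Groth.Agent.Helper6.ConstValT
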