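import Mathlib
import Groth.Prelude.Def_EtBase
import Groth.Prelude.Def_EtCore
import Groth.Agent.Helper4.ConstLoc
import Groth.Agent.Helper5.SmNorm6
import Groth.Agent.Helper6.GalDescI
import Groth.Agent.Helper6.ConstUnitA
import Groth.Agent.Helper6.ConstUnitB
import Groth.Agent.Helper6.ConstValT
import Groth.Agent.Helper6.ConstValA

/-! `M_X ⟶ j_* M_U` is an isomorphism for a quasi-compact dense open immersion `j` into a scheme
with normal stalks. -/

set_option autoImplicit false
set_option linter.style.haveILetI false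
set_option linter.unusedSectionVars false
set_option linter.unusedVariables false
set_option linter.unusedSimpArgs false

universe u

open CategoryTheory CategoryTheory.Limits Opposite AlgebraicGeometry

namespace Groth.Agent.Helper6.ConstValB

open Groth.Agent.Helper4.ConstLoc Groth.Agent.Helper5 Groth.Agent.Helper6.ConstUnitA
  Groth.Agent.Helper6.ConstValA

variable (N : AddCommGrpCat.{u + 1}) {X' X : Scheme.{u}} (f : X' ⟶ X)

set_option backward.isDefEq.respectTransparency.types false in
theorem isIso_c_of_ext
    (hne : ∀ W : X.Etale, Nonempty W.left → Nonempty ((EtCoh.bc f).obj W).left)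
    (hext : ∀ (V : X.Etale) (p : V.left) (s : (cS X' N).obj.obj (op ((EtCoh.bc f).obj V))),
      ∃ (W : X.Etale) (g : W ⟶ V) (w : W.left), g.left w = p ∧
        ∃ t : (cS X N).obj.obj (op W), ((c f N).hom.app (op W)).hom t =
          (cS X' N).obj.map ((EtCoh.bc f).map g).op s) : IsIso (c f N) := by
  haveI : Mono (c f N) := by
    haveI : ∀ U, Mono ((c f N).hom.app U) := by
      intro U
      rw [AddCommGrpCat.mono_iff_injective, injective_iff_map_eq_zero]
      intro s hs
      apply sec_ext
      intro x
      obtain ⟨W, g, w, n, hw, hn⟩ := exists_const N U.unop s x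
      refine ⟨W, g, w, hw, ?_⟩
      obtain ⟨z⟩ := hne W ⟨w⟩
      have h1 : ((c f N).hom.app (op W)).hom ((cS X N).obj.map g.op s) = 0 := by
        have := NatTrans.naturality_apply (c f N).hom g.op s
        refine this.trans ?_
        have hs' : ((c f N).hom.app (op U.unop)).hom s = 0 := hs
        rw [hs', map_zero]
      rw [hn, c_η] at h1
      have h2 : n = 0 := by
        apply const_injective N _ z
        rw [h1, map_zero]
        rfl
      rw [hn, h2, map_zero, map_zero]
    haveI : Mono (c f N).hom := NatTrans.mono_of_mono_app _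
    exact Sheaf.Hom.mono_of_presheaf_mono _ _ _
  haveI : Epi (c f N) := by
    rw [← Sheaf.isLocallySurjective_iff_epi']
    constructor
    intro U s
    rw [GalDescI.mem_iff]
    intro x
    obtain ⟨W, g, w, hw, t, ht⟩ := hext U x s
    exact ⟨W, g, w, ⟨t, ht⟩, inferInstance, hw⟩
  exact isIso_of_mono_of_epi _

section Dense

variable {U X : Scheme.{u}} (j : U ⟶ X) [IsOpenImmersion j] [QuasiCompact j]

set_option backward.isDefEq.respectTransparency.types false in
theorem isIso_c_dense_open (hj : Dense (Set.range j))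
    (hX : ∀ x : X, IsDomain (X.presheaf.stalk x) ∧ IsIntegrallyClosed (X.presheaf.stalk x)) :
    IsIso (c j N) := by
  apply isIso_c_of_ext
  · rintro W ⟨w₀⟩
    have hopen : IsOpen (Set.range W.hom) := W.hom.isOpenMap.isOpen_range
    obtain ⟨_, ⟨w, rfl⟩, ⟨x', hx'⟩⟩ := hj.inter_open_nonempty _ hopen ⟨_, w₀, rfl⟩
    obtain ⟨z, -, -⟩ := Scheme.Pullback.exists_preimage_pullback (f := W.hom) (g := j) w x'
      hx'.symm
    exact ⟨z⟩
  · intro V p s
    obtain ⟨_, ⟨(W₀ : V.left.Opens), hW₀, rfl⟩, hpW₀, -⟩ :=
      V.left.isBasis_affineOpens.exists_subset_of_mem_open (Set.mem_univ p) isOpen_univ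
    let W : X.Etale := Scheme.Etale.mk (W₀.ι ≫ V.hom)
    let g : W ⟶ V := MorphismProperty.Over.homMk W₀.ι rfl
    refine ⟨W, g, ⟨p, hpW₀⟩, rfl, ?_⟩
    haveI : IsAffine W.left := hW₀
    let s' := (cS U N).obj.map ((EtCoh.bc j).map g).op s
    let π : (pullback W.hom j : Scheme.{u}) ⟶ W.left := pullback.fst W.hom j
    have hd : Dense (Set.range π) := by
      rw [Scheme.Pullback.range_fst]
      exact hj.preimage W.hom.isOpenMap
    have hD : ∀ y : W.left, IsDomain (W.left.presheaf.stalk y) := fun y =>
      (SmNorm.stalk_normal_of_smooth W.hom y (hX _)).1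
    obtain ⟨φ, hφ, hφπ⟩ := ConstValT.exists_extension π hd hD
      (val N ((EtCoh.bc j).obj W) s') (isLocallyConstant_val N _ s')
    obtain ⟨t, ht⟩ := exists_section N W φ hφ
    refine ⟨t, ?_⟩
    refine sec_ext (cS U N) ((EtCoh.bc j).obj W) _ _ ?_
    intro x
    obtain ⟨W', g', w', hw', hn'⟩ := val_spec N W t (π x)
    have sq := EtCoh.isPullback_bc_map j g'
    obtain ⟨z, hz1, -⟩ := Scheme.Pullback.exists_preimage_pullback
      (f := π) (g := g'.left) x w' hw'.symm
    refine ⟨(EtCoh.bc j).obj W', (EtCoh.bc j).map g', sq.isoPullback.inv z, ?_, ?_⟩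
    · rw [← hz1, ← Scheme.Hom.comp_apply, IsPullback.isoPullback_inv_fst]
      rfl
    · -- both sides equal `η n`
      have e1 : (cS U N).obj.map ((EtCoh.bc j).map g').op (((c j N).hom.app (op W)).hom t) =
          (η U N).app (op ((EtCoh.bc j).obj W')) (val N W t (π x)) := by
        have hnat := NatTrans.naturality_apply (c j N).hom g'.op t
        refine hnat.symm.trans ?_
        rw [hn']
        exact c_η j N W' _
      have e2 : (cS U N).obj.map ((EtCoh.bc j).map g').op s' =
          (η U N).app (op ((EtCoh.bc j).obj W')) (val N W t (π x)) := by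
        apply eq_η_of_val_eq
        intro y
        rw [val_map]
        have hy0 : (((EtCoh.bc j).map g').left ≫ pullback.fst W.hom j) y =
            (pullback.fst W'.hom j ≫ g'.left) y := by
          rw [sq.w]
          rfl
        have hy : π (((EtCoh.bc j).map g').left y) =
            g'.left ((pullback.fst W'.hom j : (pullback W'.hom j : Scheme.{u}) ⟶ W'.left) y) := hy0
        rw [← hφπ, hy, ← ht, ← val_map, hn', val_η]
      exact e1.trans e2.symm

end Dense

theorem isIso_unit_dense_open {U X : Scheme.{u}} (j : U ⟶ X) [IsOpenImmersion j] [QuasiCompact j]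
    (hj : Dense (Set.range j))
    (hX : ∀ x : X, IsDomain (X.presheaf.stalk x) ∧ IsIntegrallyClosed (X.presheaf.stalk x)) :
    IsIso ((EtCoh.pullPushAdj j).unit.app (cS X N)) := by
  haveI := isIso_c_dense_open N j hj hX
  let e := (EtCoh.push j).mapIso ((EtCore.pullConstIso j).app N)
  have h : (EtCoh.pullPushAdj j).unit.app (cS X N) = c j N ≫ e.inv :=
    (Iso.eq_comp_inv e).2 rfl
  rw [h]
  infer_instance

end Groth.Agent.Helper6.ConstValB
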