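import Mathlib
import Groth.Prelude.Def_EtBase
import Groth.Agent.Helper4.EtGeom
import Groth.Agent.Helper9.EtDisjGlue

/-! Sections of constant sheaves of sets on the small étale site as locally constant functions. -/

set_option autoImplicit false
set_option linter.style.haveILetI false
set_option linter.unusedSectionVars false
set_option linter.unusedVariables false
set_option linter.unusedSimpArgs false

universe u

open CategoryTheory CategoryTheory.Limits Opposite AlgebraicGeometry

namespace Groth.Agent.Helper6.ConstValS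

open Groth.Agent.Helper4.EtGeom Groth.Agent.Helper9

variable {Y : Scheme.{u}}

/-- the constant presheaf -/
abbrev P (Y : Scheme.{u}) (N : Type (u + 1)) : Y.Etaleᵒᵖ ⥤ Type (u + 1) :=
  (Functor.const _).obj N

/-- the constant sheaf -/
noncomputable abbrev cS (Y : Scheme.{u}) (N : Type (u + 1)) :
    Sheaf Y.smallEtaleTopology (Type (u + 1)) :=
  (constantSheaf Y.smallEtaleTopology (Type (u + 1))).obj N

/-- constants as sections of the constant sheaf -/
noncomputable abbrev η (Y : Scheme.{u}) (N : Type (u + 1)) : P Y N ⟶ (cS Y N).obj :=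
  toSheafify Y.smallEtaleTopology (P Y N)

variable (N : Type (u + 1))

instance : Presheaf.IsLocallySurjective Y.smallEtaleTopology (η Y N) :=
  inferInstanceAs (Presheaf.IsLocallySurjective Y.smallEtaleTopology
    (toSheafify Y.smallEtaleTopology (P Y N)))

instance : Presheaf.IsLocallyInjective Y.smallEtaleTopology (η Y N) :=
  inferInstanceAs (Presheaf.IsLocallyInjective Y.smallEtaleTopology
    (toSheafify Y.smallEtaleTopology (P Y N)))

lemma η_map {W W' : Y.Etale} (g : W' ⟶ W) (n : N) :
    (cS Y N).obj.map g.op ((η Y N).app (op W) n) = (η Y N).app (op W') n := by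
  have := ConcreteCategory.congr_hom ((η Y N).naturality g.op) n
  simpa using this.symm

lemma exists_const (W : Y.Etale) (t : (cS Y N).obj.obj (op W)) (x : W.left) :
    ∃ (W' : Y.Etale) (g : W' ⟶ W) (x' : W'.left) (n : N), g.left x' = x ∧
      (cS Y N).obj.map g.op t = (η Y N).app (op W') n := by
  have h := Presheaf.imageSieve_mem Y.smallEtaleTopology (η Y N) t
  rw [mem_iff] at h
  obtain ⟨W', g, x', ⟨n, hn⟩, hx⟩ := h x
  exact ⟨W', g, x', n, hx, hn.symm⟩

lemma const_injective (W : Y.Etale) (x : W.left) (n n' : N)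
    (h : (η Y N).app (op W) n = (η Y N).app (op W) n') : n = n' := by
  have h1 := Presheaf.equalizerSieve_mem Y.smallEtaleTopology (η Y N) n n' h
  rw [mem_iff] at h1
  obtain ⟨W', g, x', hg, -⟩ := h1 x
  simpa using hg

lemma sec_ext (H : Sheaf Y.smallEtaleTopology (Type (u + 1))) (W : Y.Etale)
    (s s' : H.obj.obj (op W))
    (h : ∀ x : W.left, ∃ (W' : Y.Etale) (g : W' ⟶ W) (x' : W'.left), g.left x' = x ∧
      H.obj.map g.op s = H.obj.map g.op s') : s = s' := by
  have hmem : Presheaf.equalizerSieve (F := H.obj) s s' ∈ Y.smallEtaleTopology W := by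
    rw [mem_iff]
    intro x
    obtain ⟨W', g, x', hx, hg⟩ := h x
    exact ⟨W', g, x', hg, hx⟩
  exact (((isSheaf_iff_isSheaf_of_type _ _).1 H.property) _ hmem).isSeparatedFor.ext
    (fun W' g hg => hg)

/-- two local constant values of a section at the same point agree -/
lemma eq_of_two_consts (V : Y.Etale) (t : (cS Y N).obj.obj (op V))
    {W W' : Y.Etale} (g : W ⟶ V) (g' : W' ⟶ V) (w : W.left) (w' : W'.left)
    (hw : g.left w = g'.left w') (n n' : N)
    (hn : (cS Y N).obj.map g.op t = (η Y N).app (op W) n)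
    (hn' : (cS Y N).obj.map g'.op t = (η Y N).app (op W') n') : n = n' := by
  obtain ⟨z, hz1, hz2⟩ := Scheme.Pullback.exists_preimage_pullback (f := g.left) (g := g'.left)
    w w' hw
  let Z : Y.Etale := Scheme.Etale.mk (pullback.fst g.left g'.left ≫ W.hom)
  have e1 : g.left ≫ V.hom = W.hom := Over.w g.hom
  have e2 : g'.left ≫ V.hom = W'.hom := Over.w g'.hom
  let p : Z ⟶ W := MorphismProperty.Over.homMk (pullback.fst g.left g'.left) rfl
  let p' : Z ⟶ W' := MorphismProperty.Over.homMk (pullback.snd g.left g'.left) (by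
    show pullback.snd g.left g'.left ≫ W'.hom = pullback.fst g.left g'.left ≫ W.hom
    rw [← e1, ← e2, pullback.condition_assoc])
  have hpp : p ≫ g = p' ≫ g' := by
    apply MorphismProperty.Over.Hom.ext
    exact pullback.condition
  apply const_injective N Z z
  rw [← η_map N p n, ← η_map N p' n', ← hn, ← hn']
  rw [← ConcreteCategory.comp_apply, ← ConcreteCategory.comp_apply, ← Functor.map_comp,
    ← Functor.map_comp, ← op_comp, ← op_comp, hpp]

lemma exists_val (V : Y.Etale) (t : (cS Y N).obj.obj (op V)) (x : V.left) :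
    ∃ (n : N) (W : Y.Etale) (g : W ⟶ V) (w : W.left), g.left w = x ∧
      (cS Y N).obj.map g.op t = (η Y N).app (op W) n := by
  obtain ⟨W, g, w, n, hw, hn⟩ := exists_const N V t x
  exact ⟨n, W, g, w, hw, hn⟩

/-- the value of a section of a constant sheaf at a point -/
noncomputable def val (V : Y.Etale) (t : (cS Y N).obj.obj (op V)) (x : V.left) : N :=
  (exists_val N V t x).choose

lemma val_spec (V : Y.Etale) (t : (cS Y N).obj.obj (op V)) (x : V.left) :
    ∃ (W : Y.Etale) (g : W ⟶ V) (w : W.left), g.left w = x ∧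
      (cS Y N).obj.map g.op t = (η Y N).app (op W) (val N V t x) :=
  (exists_val N V t x).choose_spec

lemma val_eq (V : Y.Etale) (t : (cS Y N).obj.obj (op V)) (x : V.left)
    {W : Y.Etale} (g : W ⟶ V) (w : W.left) (hw : g.left w = x) (n : N)
    (hn : (cS Y N).obj.map g.op t = (η Y N).app (op W) n) : val N V t x = n := by
  obtain ⟨W', g', w', hw', hn'⟩ := val_spec N V t x
  exact eq_of_two_consts N V t g' g w' w (hw'.trans hw.symm) _ _ hn' hn

lemma isLocallyConstant_val (V : Y.Etale) (t : (cS Y N).obj.obj (op V)) :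
    IsLocallyConstant (val N V t) := by
  rw [IsLocallyConstant.iff_exists_open]
  intro x
  obtain ⟨W, g, w, hw, hn⟩ := val_spec N V t x
  refine ⟨Set.range g.left, g.left.isOpenMap.isOpen_range, ⟨w, hw⟩, ?_⟩
  rintro _ ⟨w', rfl⟩
  exact val_eq N V t _ g w' rfl _ hn

lemma val_map {V V' : Y.Etale} (h : V' ⟶ V) (t : (cS Y N).obj.obj (op V)) (x' : V'.left) :
    val N V' ((cS Y N).obj.map h.op t) x' = val N V t (h.left x') := by
  obtain ⟨W, g, w, hw, hn⟩ := val_spec N V' ((cS Y N).obj.map h.op t) x'
  symm
  refine val_eq N V t _ (g ≫ h) w ?_ _ ?_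
  · show h.left (g.left w) = _
    rw [hw]
  · rw [op_comp, Functor.map_comp, ConcreteCategory.comp_apply]
    exact hn

lemma val_η (V : Y.Etale) (n : N) (x : V.left) : val N V ((η Y N).app (op V) n) x = n := by
  refine val_eq N V _ x (𝟙 V) x rfl n ?_
  rw [op_id, CategoryTheory.Functor.map_id]
  rfl

lemma val_injective (V : Y.Etale) (t t' : (cS Y N).obj.obj (op V))
    (h : ∀ x, val N V t x = val N V t' x) : t = t' := by
  apply sec_ext
  intro x
  obtain ⟨W, g, w, hw, hn⟩ := val_spec N V t x
  obtain ⟨W', g', w', hw', hn'⟩ := val_spec N V t' x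
  obtain ⟨z, hz1, hz2⟩ := Scheme.Pullback.exists_preimage_pullback (f := g.left) (g := g'.left)
    w w' (hw.trans hw'.symm)
  let Z : Y.Etale := Scheme.Etale.mk (pullback.fst g.left g'.left ≫ W.hom)
  have e1 : g.left ≫ V.hom = W.hom := Over.w g.hom
  have e2 : g'.left ≫ V.hom = W'.hom := Over.w g'.hom
  let p : Z ⟶ W := MorphismProperty.Over.homMk (pullback.fst g.left g'.left) rfl
  let p' : Z ⟶ W' := MorphismProperty.Over.homMk (pullback.snd g.left g'.left) (by
    show pullback.snd g.left g'.left ≫ W'.hom = pullback.fst g.left g'.left ≫ W.hom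
    rw [← e1, ← e2, pullback.condition_assoc])
  have hpp : p ≫ g = p' ≫ g' := by
    apply MorphismProperty.Over.Hom.ext
    exact pullback.condition
  refine ⟨Z, p ≫ g, z, ?_, ?_⟩
  · show g.left (p.left z) = x
    have : p.left z = w := hz1
    rw [this, hw]
  · have h1 : (cS Y N).obj.map (p ≫ g).op t = (η Y N).app (op Z) (val N V t x) := by
      rw [op_comp, Functor.map_comp, ConcreteCategory.comp_apply, hn, η_map]
    have h2 : (cS Y N).obj.map (p ≫ g).op t' = (η Y N).app (op Z) (val N V t' x) := by
      rw [hpp, op_comp, Functor.map_comp, ConcreteCategory.comp_apply, hn', η_map]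
    rw [h1, h2, h x]

set_option backward.isDefEq.respectTransparency.types false in
/-- every locally constant function is the value function of a section -/
theorem exists_section (V : Y.Etale) (φ : V.left → N) (hφ : IsLocallyConstant φ) :
    ∃ t : (cS Y N).obj.obj (op V), ∀ x, val N V t x = φ x := by
  let Vn : N → V.left.Opens := fun n => ⟨φ ⁻¹' {n}, hφ.isOpen_fiber n⟩
  let O : N → Y.Etale := fun n => Scheme.Etale.mk ((Vn n).ι ≫ V.hom)
  let g : ∀ n, O n ⟶ V := fun n => MorphismProperty.Over.homMk (Vn n).ι rfl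
  have hgl : ∀ n (z : (O n).left), φ ((g n).left z) = n := fun n z => z.2
  have hmono : ∀ n, Mono (g n) := fun n =>
    EtDisjGlue.mono_of_mono_left (g n) (show Mono (Vn n).ι from inferInstance)
  have hsurj : ∀ x : V.left, ∃ (n : N) (z : (O n).left), (g n).left z = x := fun x =>
    ⟨φ x, ⟨x, rfl⟩, rfl⟩
  have hdisj : ∀ a b, a ≠ b → ∀ (za : (O a).left) (zb : (O b).left),
      (g a).left za ≠ (g b).left zb := by
    intro a b hab za zb h
    apply hab
    rw [← hgl a za, ← hgl b zb, h]
  obtain ⟨T, hT, -⟩ := EtDisjGlue.existsUnique_glue O g hmono hsurj hdisj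
    (cS Y N).obj ((isSheaf_iff_isSheaf_of_type _ _).1 (cS Y N).property)
    (fun n => (η Y N).app (op (O n)) n)
  refine ⟨T, fun x => ?_⟩
  exact val_eq N V T x (g (φ x)) ⟨x, rfl⟩ rfl _ (hT (φ x))

/-- the value function of a section, as a locally constant function -/
noncomputable def valLC (V : Y.Etale) (t : (cS Y N).obj.obj (op V)) : LocallyConstant V.left N :=
  ⟨val N V t, isLocallyConstant_val N V t⟩

lemma valLC_bijective (V : Y.Etale) : Function.Bijective (valLC N V) := by
  constructor
  · intro t t' h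
    exact val_injective N V t t' (fun x => congrArg (fun f : LocallyConstant V.left N => f x) h)
  · intro φ
    obtain ⟨t, ht⟩ := exists_section N V φ φ.isLocallyConstant
    exact ⟨t, LocallyConstant.ext ht⟩

end Groth.Agent.Helper6.ConstValS
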