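import Mathlib
import Groth.Agent.Helper1.FunLES

set_option autoImplicit false
set_option linter.style.haveILetI false
set_option linter.unusedSectionVars false
set_option linter.unusedVariables false

/-!
# Fully faithful continuous and cocontinuous functors between sites

For such a functor `G : (C, J) ⥤ (D, K)` the restriction functor `Sheaf K A ⥤ Sheaf J A` has both
adjoints, the unit of `pullback ⊣ restriction` is an isomorphism, and restriction is exact.
-/

open CategoryTheory CategoryTheory.Limits Opposite

universe v₁ v₂ v₃ u₁ u₂ u₃

namespace Groth.Agent.Helper6.ContCocont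

variable {C : Type u₁} [Category.{v₁} C] {D : Type u₂} [Category.{v₂} D] (G : C ⥤ D)
  (A : Type u₃) [Category.{v₃} A]
  (J : GrothendieckTopology C) (K : GrothendieckTopology D)
  [G.IsContinuous J K] [G.IsCocontinuous J K]
  [∀ (F : Cᵒᵖ ⥤ A), G.op.HasPointwiseRightKanExtension F]

instance isLeftAdjoint_restr : (G.sheafPushforwardContinuous A J K).IsLeftAdjoint :=
  (G.sheafAdjunctionCocontinuous A J K).isLeftAdjoint

theorem preservesFiniteColimits_restr :
    PreservesFiniteColimits (G.sheafPushforwardContinuous A J K) :=
  have : PreservesColimitsOfSize.{0, 0} (G.sheafPushforwardContinuous A J K) :=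
    (G.sheafAdjunctionCocontinuous A J K).leftAdjoint_preservesColimits
  PreservesColimitsOfSize.preservesFiniteColimits _

section FF

variable [G.Full] [G.Faithful]

instance isIso_counit_app (F : Sheaf J A) :
    IsIso ((G.sheafAdjunctionCocontinuous A J K).counit.app F) := by
  have h : IsIso ((sheafToPresheaf J A).map ((G.sheafAdjunctionCocontinuous A J K).counit.app F)) := by
    change IsIso ((G.sheafAdjunctionCocontinuous A J K).counit.app F).hom
    rw [Functor.sheafAdjunctionCocontinuous_counit_app_hom]
    haveI : G.op.Full := inferInstance
    haveI : G.op.Faithful := inferInstance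
    haveI : ∀ (F : Cᵒᵖ ⥤ A), G.op.HasRightKanExtension F := fun F => inferInstance
    exact Functor.instIsIsoAppCounitRanAdjunctionOfHasPointwiseRightKanExtension G.op F.obj
  exact isIso_of_reflects_iso _ (sheafToPresheaf J A)

instance isIso_counit : IsIso (G.sheafAdjunctionCocontinuous A J K).counit :=
  NatIso.isIso_of_isIso_app _

variable [(G.sheafPushforwardContinuous A J K).IsRightAdjoint]

theorem isIso_unit : IsIso (G.sheafAdjunctionContinuous A J K).unit := by
  let t : Adjunction.Triple (G.sheafPullback A J K) (G.sheafPushforwardContinuous A J K)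
      (G.sheafPushforwardCocontinuous A J K) :=
    ⟨G.sheafAdjunctionContinuous A J K, G.sheafAdjunctionCocontinuous A J K⟩
  exact t.isIso_unit_iff_isIso_counit.2 (isIso_counit G A J K)

end FF

end Groth.Agent.Helper6.ContCocont
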