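import Mathlib
import Groth.Agent.Helper1.DeltaFunctor

set_option autoImplicit false
set_option linter.style.haveILetI false
set_option linter.unusedSectionVars false
set_option linter.unusedVariables false

/-!
# Right derived functors of `lim` over the simplex category

For an abelian category `B` with limits of shape `SimplexCategory` and countable products,
`Rⁿ lim F ≅ Hⁿ` of the alternating coface map complex of the cosimplicial object `F`.
Proof: universal δ-functor argument; effaceability via the cofree cosimplicial objects, whose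
alternating coface map complex is contractible in positive degrees (cone construction).
-/

namespace Groth.Agent.Helper6.CosimpLim

open CategoryTheory Limits Opposite Simplicial AlgebraicTopology
open Groth.Agent.Helper1.DeltaFun

universe v u

variable {B : Type u} [Category.{v} B] [Abelian B]

/-- the alternating coface map complex functor -/
noncomputable abbrev K : (SimplexCategory ⥤ B) ⥤ CochainComplex B ℕ :=
  alternatingCofaceMapComplex B

instance : (K (B := B)).Additive where
  map_add {X Y f g} := by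
    ext n
    rfl

/-- the differential, with clean source and target -/
noncomputable def dK (F : SimplexCategory ⥤ B) (n : ℕ) : F.obj ⦋n⦌ ⟶ F.obj ⦋n + 1⦌ :=
  (K.obj F).d n (n + 1)

lemma dK_eq (F : SimplexCategory ⥤ B) (n : ℕ) : dK F n =
    ∑ i : Fin (n + 2), (-1 : ℤ) ^ (i : ℕ) • F.map (SimplexCategory.δ i) := by
  have h : dK F n = AlternatingCofaceMapComplex.objD F n :=
    CochainComplex.of_d (fun n => F.obj ⦋n⦌) (AlternatingCofaceMapComplex.objD F) n
  rw [h]
  rfl

lemma hK (S : ShortComplex (SimplexCategory ⥤ B)) (hS : S.ShortExact) :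
    (S.map (K (B := B))).ShortExact := by
  refine HomologicalComplex.shortExact_of_degreewise_shortExact _ (fun i => ?_)
  have h := hS.map_of_exact ((evaluation SimplexCategory B).obj ⦋i⦌)
  exact h

section H0

variable [HasLimitsOfShape SimplexCategory B] (F : SimplexCategory ⥤ B)

/-- the inclusion of the degree `0` cycles -/
noncomputable def ι : (K.obj F).cycles 0 ⟶ F.obj ⦋0⦌ := (K.obj F).iCycles 0

instance : Mono (ι F) := inferInstanceAs (Mono ((K.obj F).iCycles 0))

lemma ι_dK : ι F ≫ dK F 0 = 0 := (K.obj F).iCycles_d 0 1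

lemma dK0 : dK F 0 =
    F.map (SimplexCategory.δ (n := 0) 0) - F.map (SimplexCategory.δ (n := 0) 1) := by
  have h : dK F 0 =
      ∑ i : Fin 2, (-1 : ℤ) ^ (i : ℕ) • F.map (SimplexCategory.δ (n := 0) i) := dK_eq F 0
  rw [h, Fin.sum_univ_two]
  simp [sub_eq_add_neg]

lemma ι_δ : ι F ≫ F.map (SimplexCategory.δ (n := 0) 0) =
    ι F ≫ F.map (SimplexCategory.δ (n := 0) 1) := by
  have h0 := ι_dK F
  rw [dK0, Preadditive.comp_sub, sub_eq_zero] at h0
  exact h0

lemma ι_const {b : SimplexCategory} (j : Fin (b.len + 1)) :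
    ι F ≫ F.map (SimplexCategory.const ⦋0⦌ b j) =
      ι F ≫ F.map (SimplexCategory.const ⦋0⦌ b 0) := by
  let e : ⦋0 + 1⦌ ⟶ b := SimplexCategory.mkOfLe (n := b.len) 0 j (Fin.zero_le j)
  have e1 : SimplexCategory.δ (n := 0) 1 ≫ e = SimplexCategory.const ⦋0⦌ b 0 :=
    SimplexCategory.Hom.ext_zero_left _ _ rfl
  have e0 : SimplexCategory.δ (n := 0) 0 ≫ e = SimplexCategory.const ⦋0⦌ b j :=
    SimplexCategory.Hom.ext_zero_left _ _ rfl
  rw [← e0, ← e1, F.map_comp, F.map_comp, ← Category.assoc, ← Category.assoc, ι_δ]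

lemma π_dK : limit.π F ⦋0⦌ ≫ dK F 0 = 0 := by
  rw [dK0, Preadditive.comp_sub, limit.w, limit.w, sub_self]

/-- the map from the limit to the degree `0` cycles -/
noncomputable def aug : limit F ⟶ (K.obj F).cycles 0 :=
  (K.obj F).liftCycles (limit.π F ⦋0⦌) 1 (by simp) (π_dK F)

lemma aug_ι : aug F ≫ ι F = limit.π F ⦋0⦌ :=
  HomologicalComplex.liftCycles_i _ _ _ _ _

/-- the cone on the degree `0` cycles -/
noncomputable def cyclesCone : Cone F where
  pt := (K.obj F).cycles 0
  π :=
    { app := fun a => ι F ≫ F.map (SimplexCategory.const ⦋0⦌ a 0)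
      naturality := by
        intro a b f
        dsimp
        rw [Category.id_comp, Category.assoc, ← F.map_comp, SimplexCategory.const_comp]
        exact (ι_const F _).symm }

/-- the map from the degree `0` cycles to the limit -/
noncomputable def invCycles : (K.obj F).cycles 0 ⟶ limit F := limit.lift F (cyclesCone F)

lemma invCycles_π (a : SimplexCategory) :
    invCycles F ≫ limit.π F a = ι F ≫ F.map (SimplexCategory.const ⦋0⦌ a 0) :=
  limit.lift_π (cyclesCone F) a

/-- the limit is the object of degree `0` cycles -/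
noncomputable def isoCycles : limit F ≅ (K.obj F).cycles 0 where
  hom := aug F
  inv := invCycles F
  hom_inv_id := by
    apply limit.hom_ext
    intro a
    rw [Category.assoc, invCycles_π, Category.id_comp, ← Category.assoc, aug_ι, limit.w]
  inv_hom_id := by
    rw [← cancel_mono (ι F), Category.assoc, Category.id_comp, aug_ι, invCycles_π,
      SimplexCategory.const_eq_id, F.map_id, Category.comp_id]

variable {F} in
lemma cyclesMap_ι {G : SimplexCategory ⥤ B} (φ : F ⟶ G) :
    HomologicalComplex.cyclesMap (K.map φ) 0 ≫ ι G = ι F ≫ φ.app ⦋0⦌ :=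
  HomologicalComplex.cyclesMap_i _ _

variable {F} in
lemma aug_nat {G : SimplexCategory ⥤ B} (φ : F ⟶ G) :
    limMap φ ≫ aug G = aug F ≫ HomologicalComplex.cyclesMap (K.map φ) 0 := by
  rw [← cancel_mono (ι G), Category.assoc, Category.assoc, cyclesMap_ι, aug_ι,
    ← Category.assoc, aug_ι, limMap_π]

/-- `H⁰` of the alternating coface map complex is the limit -/
noncomputable def e₀ : (lim : (SimplexCategory ⥤ B) ⥤ B) ≅
    K ⋙ HomologicalComplex.homologyFunctor B (ComplexShape.up ℕ) 0 :=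
  NatIso.ofComponents (fun F => isoCycles F ≪≫ (K.obj F).isoHomologyπ₀)
    (by
      intro F G φ
      change limMap φ ≫ aug G ≫ (K.obj G).homologyπ 0 =
        (aug F ≫ (K.obj F).homologyπ 0) ≫ HomologicalComplex.homologyMap (K.map φ) 0
      rw [Category.assoc, HomologicalComplex.homologyπ_naturality, ← Category.assoc,
        ← Category.assoc, aug_nat])

end H0

section Cofree

variable [HasProducts.{0} B] (Z : SimplexCategory → B)

/-- the index type of the cofree object -/
abbrev Idx (a : SimplexCategory) : Type := Σ m : SimplexCategory, (a ⟶ m)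

/-- the projections of the cofree object -/
noncomputable def pr (a m : SimplexCategory) (ψ : a ⟶ m) :
    ∏ᶜ (fun p : Idx a => Z p.1) ⟶ Z m :=
  Pi.π (fun p : Idx a => Z p.1) ⟨m, ψ⟩

/-- the transition maps of the cofree object -/
noncomputable def mapAux {a b : SimplexCategory} (f : a ⟶ b) :
    ∏ᶜ (fun p : Idx a => Z p.1) ⟶ ∏ᶜ (fun p : Idx b => Z p.1) :=
  Pi.lift (fun q : Idx b => pr Z a q.1 (f ≫ q.2))

lemma mapAux_pr {a b : SimplexCategory} (f : a ⟶ b) (m : SimplexCategory) (ψ : b ⟶ m) :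
    mapAux Z f ≫ pr Z b m ψ = pr Z a m (f ≫ ψ) :=
  Pi.lift_π _ _

lemma pr_hom_ext {a : SimplexCategory} {W : B} {g g' : W ⟶ ∏ᶜ (fun p : Idx a => Z p.1)}
    (h : ∀ (m : SimplexCategory) (ψ : a ⟶ m), g ≫ pr Z a m ψ = g' ≫ pr Z a m ψ) : g = g' := by
  apply Pi.hom_ext
  rintro ⟨m, ψ⟩
  exact h m ψ

/-- the cofree cosimplicial object on a family of objects -/
noncomputable def cofree : SimplexCategory ⥤ B where
  obj a := ∏ᶜ (fun p : Idx a => Z p.1)
  map f := mapAux Z f
  map_id a := by
    apply pr_hom_ext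
    intro m ψ
    rw [mapAux_pr, Category.id_comp, Category.id_comp]
  map_comp f g := by
    apply pr_hom_ext
    intro m ψ
    rw [Category.assoc, mapAux_pr, mapAux_pr, mapAux_pr, Category.assoc]

/-- the projections of the cofree object -/
noncomputable def cpr (a m : SimplexCategory) (ψ : a ⟶ m) : (cofree Z).obj a ⟶ Z m :=
  pr Z a m ψ

lemma cofree_map_cpr {a b : SimplexCategory} (f : a ⟶ b) (m : SimplexCategory) (ψ : b ⟶ m) :
    (cofree Z).map f ≫ cpr Z b m ψ = cpr Z a m (f ≫ ψ) :=
  mapAux_pr Z f m ψ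

lemma cpr_hom_ext {a : SimplexCategory} {W : B} {g g' : W ⟶ (cofree Z).obj a}
    (h : ∀ (m : SimplexCategory) (ψ : a ⟶ m), g ≫ cpr Z a m ψ = g' ≫ cpr Z a m ψ) : g = g' :=
  pr_hom_ext Z h

/-- the cone of a simplex -/
def coneHom {k : ℕ} {m : SimplexCategory} (ψ : ⦋k⦌ ⟶ m) : ⦋k + 1⦌ ⟶ m :=
  SimplexCategory.Hom.mk
    { toFun := (Fin.cases (motive := fun _ => Fin (m.len + 1)) 0
        (fun j : Fin (k + 1) => ψ.toOrderHom j) : Fin (k + 2) → Fin (m.len + 1))
      monotone' := by
        intro a b hab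
        induction a using Fin.cases with
        | zero => exact Fin.zero_le _
        | succ a =>
          induction b using Fin.cases with
          | zero => exact absurd hab (by simp)
          | succ b =>
            simp only [Fin.cases_succ]
            exact ψ.toOrderHom.monotone (Fin.succ_le_succ_iff.mp hab) }

lemma δ_zero_coneHom {k : ℕ} {m : SimplexCategory} (ψ : ⦋k⦌ ⟶ m) :
    SimplexCategory.δ (n := k) 0 ≫ coneHom ψ = ψ := by
  ext j : 3
  simp [SimplexCategory.δ, coneHom]

lemma δ_succ_coneHom {k : ℕ} {m : SimplexCategory} (ψ : ⦋k + 1⦌ ⟶ m) (i : Fin (k + 2)) :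
    SimplexCategory.δ (n := k + 1) i.succ ≫ coneHom ψ =
      coneHom (SimplexCategory.δ (n := k) i ≫ ψ) := by
  ext j : 3
  induction j using Fin.cases with
  | zero => simp [SimplexCategory.δ, coneHom]
  | succ j => simp [SimplexCategory.δ, coneHom]

/-- the contraction -/
noncomputable def s (k : ℕ) : (cofree Z).obj ⦋k + 1⦌ ⟶ (cofree Z).obj ⦋k⦌ :=
  Pi.lift (fun q : Idx ⦋k⦌ => pr Z ⦋k + 1⦌ q.1 (coneHom q.2))

lemma s_cpr (k : ℕ) (m : SimplexCategory) (ψ : ⦋k⦌ ⟶ m) :
    s Z k ≫ cpr Z ⦋k⦌ m ψ = cpr Z ⦋k + 1⦌ m (coneHom ψ) :=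
  Pi.lift_π _ _

lemma map_δ_zero_s (k : ℕ) :
    (cofree Z).map (SimplexCategory.δ (n := k) 0) ≫ s Z k = 𝟙 ((cofree Z).obj ⦋k⦌) := by
  apply cpr_hom_ext
  intro m ψ
  rw [Category.assoc, s_cpr, cofree_map_cpr, δ_zero_coneHom, Category.id_comp]

lemma map_δ_succ_s (k : ℕ) (i : Fin (k + 2)) :
    (cofree Z).map (SimplexCategory.δ (n := k + 1) i.succ) ≫ s Z (k + 1) =
      s Z k ≫ (cofree Z).map (SimplexCategory.δ (n := k) i) := by
  apply cpr_hom_ext
  intro m ψ
  rw [Category.assoc, s_cpr, cofree_map_cpr, δ_succ_coneHom, Category.assoc, cofree_map_cpr,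
    s_cpr]

lemma homotopy_id (k : ℕ) :
    dK (cofree Z) (k + 1) ≫ s Z (k + 1) +
      s Z k ≫ dK (cofree Z) k = 𝟙 ((cofree Z).obj ⦋k + 1⦌) := by
  rw [dK_eq, dK_eq, Preadditive.sum_comp, Preadditive.comp_sum]
  have h := Fin.sum_univ_succ (fun i : Fin (k + 2 + 1) =>
    ((-1 : ℤ) ^ (i : ℕ) • (cofree Z).map (SimplexCategory.δ (n := k + 1) i)) ≫ s Z (k + 1))
  refine (congrArg (· + _) h).trans ?_
  have h2 : ∀ j : Fin (k + 2),
      ((-1 : ℤ) ^ ((j.succ : Fin (k + 2 + 1)) : ℕ) •
        (cofree Z).map (SimplexCategory.δ (n := k + 1) j.succ)) ≫ s Z (k + 1) =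
      - (s Z k ≫ ((-1 : ℤ) ^ (j : ℕ) • (cofree Z).map (SimplexCategory.δ (n := k) j))) := by
    intro j
    rw [Preadditive.zsmul_comp, Preadditive.comp_zsmul, map_δ_succ_s, Fin.val_succ, pow_succ,
      mul_neg_one, neg_smul]
  have h3 : ((-1 : ℤ) ^ ((0 : Fin (k + 2 + 1)) : ℕ) •
      (cofree Z).map (SimplexCategory.δ (n := k + 1) 0)) ≫ s Z (k + 1) = 𝟙 _ := by
    rw [Fin.val_zero, pow_zero, one_smul, map_δ_zero_s]
  rw [h3, Finset.sum_congr rfl (fun j _ => h2 j), Finset.sum_neg_distrib]
  abel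

lemma exact_aux (k : ℕ) {A : B} (x₂ : A ⟶ (cofree Z).obj ⦋k + 1⦌)
    (hx₂ : x₂ ≫ dK (cofree Z) (k + 1) = 0) :
    x₂ = (x₂ ≫ s Z k) ≫ dK (cofree Z) k := by
  have h := homotopy_id Z k
  calc x₂ = x₂ ≫ 𝟙 _ := by rw [Category.comp_id]
    _ = x₂ ≫ (dK (cofree Z) (k + 1) ≫ s Z (k + 1) + s Z k ≫ dK (cofree Z) k) := by rw [h]
    _ = (x₂ ≫ s Z k) ≫ dK (cofree Z) k := by
      rw [Preadditive.comp_add, ← Category.assoc, hx₂, zero_comp, zero_add, Category.assoc]

lemma exactAt_succ (k : ℕ) : (K.obj (cofree Z)).ExactAt (k + 1) := by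
  rw [HomologicalComplex.exactAt_iff' _ k (k + 1) (k + 1 + 1) (by simp) (by simp)]
  rw [ShortComplex.exact_iff_exact_up_to_refinements]
  intro A x₂ hx₂
  refine ⟨A, 𝟙 A, inferInstance, x₂ ≫ s Z k, ?_⟩
  exact (Category.id_comp _).trans (exact_aux Z k x₂ hx₂)

end Cofree

section Eta

variable [HasProducts.{0} B] (F : SimplexCategory ⥤ B)

/-- components of the unit -/
noncomputable def ηApp (a : SimplexCategory) :
    F.obj a ⟶ (cofree (fun m => F.obj m)).obj a :=
  Pi.lift (fun p : Idx a => F.map p.2)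

lemma ηApp_cpr (a m : SimplexCategory) (ψ : a ⟶ m) :
    ηApp F a ≫ cpr (fun m => F.obj m) a m ψ = F.map ψ :=
  Pi.lift_π _ _

/-- the embedding into the cofree object -/
noncomputable def η : F ⟶ cofree (fun m => F.obj m) where
  app a := ηApp F a
  naturality a b f := by
    apply cpr_hom_ext
    intro m ψ
    rw [Category.assoc, Category.assoc, ηApp_cpr, cofree_map_cpr, ηApp_cpr, F.map_comp]

instance : Mono (η F) := by
  haveI : ∀ a, Mono ((η F).app a) := by
    intro a
    have h : (η F).app a ≫ cpr (fun m => F.obj m) a a (𝟙 a) = 𝟙 (F.obj a) := by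
      change ηApp F a ≫ _ = _
      rw [ηApp_cpr, F.map_id]
    exact mono_of_mono_fac h
  exact NatTrans.mono_of_mono_app _

lemma isZero_homology_of_injective (I : SimplexCategory ⥤ B) [Injective I] (n : ℕ) :
    IsZero ((K.obj I).homology (n + 1)) := by
  have hE : IsZero ((K.obj (cofree (fun m => I.obj m))).homology (n + 1)) :=
    (HomologicalComplex.exactAt_iff_isZero_homology _ _).1 (exactAt_succ _ n)
  let r : cofree (fun m => I.obj m) ⟶ I := Injective.factorThru (𝟙 I) (η I)
  have hr : η I ≫ r = 𝟙 I := Injective.comp_factorThru _ _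
  rw [IsZero.iff_id_eq_zero]
  have h1 : HomologicalComplex.homologyMap (K.map (η I)) (n + 1) ≫
      HomologicalComplex.homologyMap (K.map r) (n + 1) = 𝟙 _ := by
    rw [← HomologicalComplex.homologyMap_comp, ← K.map_comp, hr, K.map_id,
      HomologicalComplex.homologyMap_id]
  rw [← h1, hE.eq_of_tgt (HomologicalComplex.homologyMap (K.map (η I)) (n + 1)) 0, zero_comp]

end Eta

/-- `Rⁿ lim` over the simplex category is computed by the alternating coface map complex -/
theorem main [HasLimitsOfShape SimplexCategory B] [HasProducts.{0} B]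
    [EnoughInjectives (SimplexCategory ⥤ B)]
    [(lim : (SimplexCategory ⥤ B) ⥤ B).Additive]
    (F : SimplexCategory ⥤ B) (n : ℕ) :
    Nonempty (((lim : (SimplexCategory ⥤ B) ⥤ B).rightDerived n).obj F ≅
      ((alternatingCofaceMapComplex B).obj F).homology n) := by
  haveI : PreservesLimitsOfSize.{0, 0} (lim : (SimplexCategory ⥤ B) ⥤ B) :=
    constLimAdj.rightAdjoint_preservesLimits
  haveI : PreservesFiniteLimits (lim : (SimplexCategory ⥤ B) ⥤ B) := inferInstance
  let T := ofComplex (K (B := B)) hK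
  have hT : T.Effaceable := fun I _ n => isZero_homology_of_injective I n
  obtain ⟨i⟩ := nonempty_iso_of_effaceable T (rightDerivedDelta lim) hT
    (rightDerivedDelta_effaceable lim)
    (e₀.symm ≪≫ (lim : (SimplexCategory ⥤ B) ⥤ B).rightDerivedZeroIsoSelf.symm) n
  exact ⟨(i.app F).symm⟩

end Groth.Agent.Helper6.CosimpLim
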