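import Mathlib
import Groth.Agent.Helper3.TruncFin

set_option autoImplicit false
open CategoryTheory Limits Opposite Functor

namespace Groth.Agent.Helper6.Cosk1

universe v u
variable {C : Type u} [Category.{v} C]

open Groth.Agent.Helper3.TruncFin

/-- the inclusion functor `(Δ_{≤ n})ᵒᵖ ⥤ Δᵒᵖ`. -/
abbrev iN (n : ℕ) : (SimplexCategory.Truncated n)ᵒᵖ ⥤ SimplexCategoryᵒᵖ :=
  (SimplexCategory.Truncated.inclusion n).op

lemma hasPointwise [HasFiniteLimits C] (n : ℕ) (F : (SimplexCategory.Truncated n)ᵒᵖ ⥤ C) :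
    (iN n).HasPointwiseRightKanExtension F := by
  intro Y
  have h1 : ∀ a b : (SimplexCategory.Truncated n)ᵒᵖ, Finite (a ⟶ b) := fun a b =>
    Finite.of_injective (fun f => f.unop) (fun f g h => Quiver.Hom.unop_inj h)
  have h2 : ∀ a b : SimplexCategoryᵒᵖ, Finite (a ⟶ b) := fun a b =>
    Finite.of_injective (fun f => f.unop) (fun f g h => Quiver.Hom.unop_inj h)
  have h3 : Finite (SimplexCategory.Truncated n)ᵒᵖ :=
    Finite.of_injective (fun a => a.unop) (fun a b h => Opposite.unop_injective h)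
  have := hasLimitsOfShape_of_finite (C := C) (StructuredArrow Y (iN n))
  infer_instance

variable (U : SimplicialObject C)

/-- the canonical right extension. -/
abbrev ext (n : ℕ) : RightExtension (iN n) (iN n ⋙ U) := RightExtension.mk U (𝟙 (iN n ⋙ U))

/-- pointwise from coskeletal. -/
noncomputable def pointwiseOfCosk [HasFiniteLimits C] (n : ℕ) [U.IsCoskeletal n] :
    (ext U n).IsPointwiseRightKanExtension := by
  haveI := hasPointwise (C := C) n (iN n ⋙ U)
  exact isPointwiseRightKanExtensionOfIsRightKanExtension U (𝟙 (iN n ⋙ U))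

lemma cosk_of_pointwise (n : ℕ) (h : (ext U n).IsPointwiseRightKanExtension) : U.IsCoskeletal n :=
  ⟨h.isRightKanExtension⟩

/-- joint monicity -/
lemma joint_mono (n : ℕ) (hn : (ext U n).IsPointwiseRightKanExtension) (l : SimplexCategoryᵒᵖ)
    {T : C} (a b : T ⟶ U.obj l)
    (hab : ∀ g : StructuredArrow l (iN n), a ≫ U.map g.hom = b ≫ U.map g.hom) : a = b := by
  refine (hn l).hom_ext (fun g => ?_)
  have := hab g
  change a ≫ U.map g.hom ≫ 𝟙 _ = b ≫ U.map g.hom ≫ 𝟙 _
  rw [Category.comp_id]; exact this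

variable {n m : ℕ} (h : n ≤ m)

/-- transfer of structured arrows -/
def J (d : SimplexCategoryᵒᵖ) (g : StructuredArrow d (iN n)) : StructuredArrow d (iN m) :=
  StructuredArrow.mk (Y := op ((SimplexCategory.Truncated.incl n m h).obj g.right.unop)) g.hom

/-- `J` on morphisms -/
def Jmap (d : SimplexCategoryᵒᵖ) {g₁ g₂ : StructuredArrow d (iN n)} (φ : g₁ ⟶ g₂) :
    J h d g₁ ⟶ J h d g₂ :=
  StructuredArrow.homMk ((SimplexCategory.Truncated.incl n m h).op.map φ.right)
    (StructuredArrow.w φ)


/-- morphism of structured arrows out of a composite -/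
def mu (d : SimplexCategoryᵒᵖ) (g' : StructuredArrow d (iN m))
    (ψ : StructuredArrow ((iN m).obj g'.right) (iN n)) :
    g' ⟶ J h d (StructuredArrow.mk (Y := ψ.right) (g'.hom ≫ ψ.hom)) :=
  StructuredArrow.homMk
    (show g'.right ⟶ op ((SimplexCategory.Truncated.incl n m h).obj ψ.right.unop) from
      (ObjectProperty.homMk ψ.hom.unop :
        (SimplexCategory.Truncated.incl n m h).obj ψ.right.unop ⟶ g'.right.unop).op) rfl

theorem isCoskeletal_of_le [HasFiniteLimits C] [U.IsCoskeletal n] (h : n ≤ m) :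
    U.IsCoskeletal m := by
  have hn := pointwiseOfCosk U n
  refine cosk_of_pointwise U m (fun d => ?_)
  refine IsLimit.ofExistsUnique (fun s => ?_)
  -- the restricted cone
  let s' : Cone (StructuredArrow.proj d (iN n) ⋙ (iN n ⋙ U)) :=
    { pt := s.pt
      π :=
        { app := fun g => s.π.app (J h d g)
          naturality := fun g₁ g₂ φ =>
            (Category.id_comp _).trans (s.w (Jmap h d φ)).symm } }
  refine ⟨(hn d).lift s', ?_, ?_⟩
  · intro g'
    refine joint_mono U n hn ((iN m).obj g'.right) _ _ (fun ψ => ?_)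
    let tgt : StructuredArrow d (iN n) := StructuredArrow.mk (Y := ψ.right) (g'.hom ≫ ψ.hom)
    have e1 : (hn d).lift s' ≫ ((ext U n).coneAt d).π.app tgt = s.π.app (J h d tgt) :=
      (hn d).fac s' tgt
    have e2 : s.π.app g' ≫ U.map ψ.hom = s.π.app (J h d tgt) := s.w (mu h d g' ψ)
    have hL : ((ext U m).coneAt d).π.app g' ≫ U.map ψ.hom = ((ext U n).coneAt d).π.app tgt := by
      show (U.map g'.hom ≫ 𝟙 _) ≫ U.map ψ.hom = U.map (g'.hom ≫ ψ.hom) ≫ 𝟙 _
      rw [Category.comp_id, Category.comp_id, U.map_comp]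
    exact (Category.assoc _ _ _).trans
      ((congrArg (fun z => (hn d).lift s' ≫ z) hL).trans (e1.trans e2.symm))
  · intro t' ht'
    refine (hn d).hom_ext (fun g => ?_)
    rw [(hn d).fac s' g]
    exact ht' (J h d g)

end Groth.Agent.Helper6.Cosk1
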