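import Mathlib
import Groth.Agent.Helper6.Cosk1

set_option autoImplicit false
open CategoryTheory Limits Opposite Functor

namespace Groth.Agent.Helper6.Cosk2

open Groth.Agent.Helper6.Cosk1

universe v u

/-- simplex object -/
def sx (k : ℕ) (d : SimplexCategoryᵒᵖ) (a : SimplexCategory.Truncated k) (f : a.obj ⟶ d.unop) :
    StructuredArrow d (iN k) :=
  StructuredArrow.mk (Y := op a) f.op

/-- face morphism -/
def sxHom (k : ℕ) (d : SimplexCategoryᵒᵖ) {a b : SimplexCategory.Truncated k} (φ : b ⟶ a)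
    (f : a.obj ⟶ d.unop) : sx k d a f ⟶ sx k d b (φ.hom ≫ f) :=
  StructuredArrow.homMk φ.op rfl

lemma eq_sx (k : ℕ) (d : SimplexCategoryᵒᵖ) (g : StructuredArrow d (iN k)) :
    g = sx k d g.right.unop g.hom.unop := rfl

/-- the vertex objects -/
def vtx (k : ℕ) (N : ℕ) (i : Fin (N + 1)) : StructuredArrow (op (SimplexCategory.mk N)) (iN k) :=
  sx k (op (SimplexCategory.mk N)) ⟨SimplexCategory.mk 0, by simp⟩
    (SimplexCategory.const (SimplexCategory.mk 0) (SimplexCategory.mk N) i)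

lemma zigzag_vtx (k : ℕ) (N : ℕ) (g : StructuredArrow (op (SimplexCategory.mk N)) (iN k)) :
    ∃ i, Zigzag g (vtx k N i) := by
  refine ⟨g.hom.unop.toOrderHom 0, ?_⟩
  rw [eq_sx k _ g]
  exact Zigzag.of_hom (sxHom k (op (SimplexCategory.mk N)) (a := g.right.unop)
    (b := ⟨SimplexCategory.mk 0, by simp⟩)
    (ObjectProperty.homMk (SimplexCategory.const (SimplexCategory.mk 0) g.right.unop.obj 0))
    g.hom.unop)

lemma zigzag_vtx_zero (k : ℕ) (hk : 1 ≤ k) (N : ℕ) (i : Fin (N + 1)) :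
    Zigzag (vtx k N i) (vtx k N 0) := by
  let e : StructuredArrow (op (SimplexCategory.mk N)) (iN k) :=
    sx k (op (SimplexCategory.mk N)) ⟨SimplexCategory.mk 1, by simpa using hk⟩
      (SimplexCategory.mkOfLe 0 i (Fin.zero_le i))
  have h0 : Zigzag e (vtx k N 0) :=
    Zigzag.of_hom (sxHom k (op (SimplexCategory.mk N)) (a := ⟨SimplexCategory.mk 1, by simpa using hk⟩)
      (b := ⟨SimplexCategory.mk 0, by simp⟩)
      (ObjectProperty.homMk (SimplexCategory.const (SimplexCategory.mk 0) (SimplexCategory.mk 1) 0))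
      (SimplexCategory.mkOfLe 0 i (Fin.zero_le i)))
  have h1 : Zigzag e (vtx k N i) :=
    Zigzag.of_hom (sxHom k (op (SimplexCategory.mk N)) (a := ⟨SimplexCategory.mk 1, by simpa using hk⟩)
      (b := ⟨SimplexCategory.mk 0, by simp⟩)
      (ObjectProperty.homMk (SimplexCategory.const (SimplexCategory.mk 0) (SimplexCategory.mk 1) 1))
      (SimplexCategory.mkOfLe 0 i (Fin.zero_le i)))
  exact h1.symm.trans h0

lemma isConnected_sa (k : ℕ) (hk : 1 ≤ k) (d : SimplexCategoryᵒᵖ) :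
    IsConnected (StructuredArrow d (iN k)) := by
  obtain ⟨D⟩ := d
  induction D using SimplexCategory.rec with
  | _ N =>
    haveI : Nonempty (StructuredArrow (op (SimplexCategory.mk N)) (iN k)) := ⟨vtx k N 0⟩
    refine zigzag_isConnected (fun g₁ g₂ => ?_)
    obtain ⟨i₁, h₁⟩ := zigzag_vtx k N g₁
    obtain ⟨i₂, h₂⟩ := zigzag_vtx k N g₂
    exact (h₁.trans (zigzag_vtx_zero k hk N i₁)).trans ((h₂.trans (zigzag_vtx_zero k hk N i₂)).symm)

variable {C : Type u} [Category.{v} C]

theorem main [HasFiniteLimits C] (X : C) (k : ℕ) (hk : 1 ≤ k) (V : SimplicialObject (Over X))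
    [V.IsCoskeletal k] : SimplicialObject.IsCoskeletal (V ⋙ Over.forget X) k := by
  have hV := pointwiseOfCosk V k
  refine cosk_of_pointwise (V ⋙ Over.forget X) k (fun d => ?_)
  haveI := isConnected_sa k hk d
  have := isLimitOfPreserves (Over.forget X) (hV d)
  refine IsLimit.ofIsoLimit this (Cone.ext (Iso.refl _) (fun g => ?_))
  change (Over.forget X).map (V.map g.hom ≫ 𝟙 _) = 𝟙 _ ≫ ((V ⋙ Over.forget X).map g.hom ≫ 𝟙 _)
  rw [Category.comp_id, Category.id_comp, Category.comp_id]; rfl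

end Groth.Agent.Helper6.Cosk2
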