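import Mathlib
import Groth.Agent.Helper6.Cosk2

set_option autoImplicit false
open CategoryTheory Limits Opposite Functor Simplicial

namespace Groth.Agent.Helper6.Cosk3

open Groth.Agent.Helper6.Cosk1 Groth.Agent.Helper6.Cosk2

universe u

variable (n : ℕ)

/-- the standard simplex -/
abbrev D : SSet.{u} := SSet.stdSimplex.{u}.obj (SimplexCategory.mk n)

/-- vertex objects -/
abbrev V (k : ℕ) (i : Fin (k + 1)) : StructuredArrow (op (SimplexCategory.mk k)) (iN 1) :=
  vtx 1 k i

/-- edge objects -/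
abbrev Eg (k : ℕ) (i j : Fin (k + 1)) (h : i ≤ j) :
    StructuredArrow (op (SimplexCategory.mk k)) (iN 1) :=
  sx 1 (op (SimplexCategory.mk k)) ⟨SimplexCategory.mk 1, by simp⟩ (SimplexCategory.mkOfLe i j h)

/-- the functor whose limit is considered -/
abbrev F (k : ℕ) : StructuredArrow (op (SimplexCategory.mk k)) (iN 1) ⥤ Type u :=
  StructuredArrow.proj (op (SimplexCategory.mk k)) (iN 1) ⋙ (iN 1 ⋙ D.{u} n)

variable {n}

/-- the vertex value -/
def vval {k : ℕ} (s : ∀ g, (F.{u} n k).obj g) (i : Fin (k + 1)) : Fin (n + 1) :=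
  (show (D.{u} n) _⦋0⦌ from s (V k i)) 0

lemma vval_mono {k : ℕ} (s : ∀ g, (F.{u} n k).obj g) (hs : s ∈ (F.{u} n k).sections) :
    Monotone (vval s) := by
  intro i j hij
  have h0 := hs (sxHom 1 (op (SimplexCategory.mk k)) (a := ⟨SimplexCategory.mk 1, by simp⟩)
      (b := ⟨SimplexCategory.mk 0, by simp⟩)
      (ObjectProperty.homMk (SimplexCategory.const (SimplexCategory.mk 0) (SimplexCategory.mk 1) 0))
      (SimplexCategory.mkOfLe i j hij))
  have h1 := hs (sxHom 1 (op (SimplexCategory.mk k)) (a := ⟨SimplexCategory.mk 1, by simp⟩)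
      (b := ⟨SimplexCategory.mk 0, by simp⟩)
      (ObjectProperty.homMk (SimplexCategory.const (SimplexCategory.mk 0) (SimplexCategory.mk 1) 1))
      (SimplexCategory.mkOfLe i j hij))
  have e0 : vval s i = (show (D.{u} n) _⦋1⦌ from s (Eg k i j hij)) 0 := by
    unfold vval
    exact (congrArg (fun (z : (D.{u} n) _⦋0⦌) => z 0) h0).symm
  have e1 : vval s j = (show (D.{u} n) _⦋1⦌ from s (Eg k i j hij)) 1 := by
    unfold vval
    exact (congrArg (fun (z : (D.{u} n) _⦋0⦌) => z 0) h1).symm
  rw [e0, e1]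
  exact SSet.stdSimplex.monotone_apply _ (Fin.zero_le _)


/-- compatibility of a section with vertices -/
lemma sec_apply {k : ℕ} (s : ∀ g, (F.{u} n k).obj g) (hs : s ∈ (F.{u} n k).sections)
    (l : ℕ) (hl : l ≤ 1) (f : SimplexCategory.mk l ⟶ SimplexCategory.mk k) (p : Fin (l + 1)) :
    (show (D.{u} n) _⦋l⦌ from
      s (sx 1 (op (SimplexCategory.mk k)) ⟨SimplexCategory.mk l, by simpa using hl⟩ f)) p =
      vval s (f.toOrderHom p) := by
  have h0 := hs (sxHom 1 (op (SimplexCategory.mk k)) (a := ⟨SimplexCategory.mk l, by simpa using hl⟩)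
      (b := ⟨SimplexCategory.mk 0, by simp⟩)
      (ObjectProperty.homMk (SimplexCategory.const (SimplexCategory.mk 0) (SimplexCategory.mk l) p))
      f)
  unfold vval
  exact (congrArg (fun (z : (D.{u} n) _⦋0⦌) => z 0) h0)

/-- the candidate simplex -/
def cand {k : ℕ} (s : ∀ g, (F.{u} n k).obj g) (hs : s ∈ (F.{u} n k).sections) : (D.{u} n) _⦋k⦌ :=
  SSet.stdSimplex.objMk (n := SimplexCategory.mk n) (m := op (SimplexCategory.mk k))
    ⟨vval s, vval_mono s hs⟩

lemma cand_apply {k : ℕ} (s : ∀ g, (F.{u} n k).obj g) (hs : s ∈ (F.{u} n k).sections)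
    (i : Fin (k + 1)) : cand s hs i = vval s i := rfl

lemma map_apply' {k l : ℕ} (x : (D.{u} n) _⦋k⦌) (f : SimplexCategory.mk l ⟶ SimplexCategory.mk k)
    (p : Fin (l + 1)) : ((D.{u} n).map f.op x : (D.{u} n) _⦋l⦌) p = x (f.toOrderHom p) := rfl

variable (n) in
noncomputable def pointwise : (Cosk1.ext (D.{u} n) 1).IsPointwiseRightKanExtension := by
  intro d
  obtain ⟨d⟩ := d
  induction d using SimplexCategory.rec with
  | _ k =>
    refine Nonempty.some ((Types.isLimit_iff _).2 (fun s hs => ?_))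
    refine ⟨cand s hs, ?_, ?_⟩
    · intro g
      rw [eq_sx 1 _ g]
      obtain ⟨⟨⟨⟩⟩, ⟨⟨a, ha⟩⟩, gh⟩ := g
      induction a using SimplexCategory.rec with
      | _ l =>
        have hl : l ≤ 1 := by simpa using ha
        apply SSet.stdSimplex.ext
        intro p
        have := sec_apply s hs l hl gh.unop p
        refine Eq.trans ?_ this.symm
        rfl
    · intro x' hx'
      apply SSet.stdSimplex.ext
      intro i
      have := hx' (V k i)
      rw [cand_apply]
      unfold vval
      rw [← this]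
      rfl

theorem main : SimplicialObject.IsCoskeletal (D.{u} n) 1 :=
  cosk_of_pointwise _ 1 (pointwise n)

end Groth.Agent.Helper6.Cosk3
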