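import Mathlib

/-!
# Helper6: the 0-coskeleton in degree 1 (without pointwise Kan extension hypotheses).
-/

set_option autoImplicit false
set_option linter.style.haveILetI false
set_option linter.unusedVariables false
set_option backward.isDefEq.respectTransparency false
set_option backward.isDefEq.respectTransparency.types false
universe v u

namespace Groth.Agent.Helper6.CoskZero
open CategoryTheory Limits Opposite SimplicialObject

lemma hom_eq_of_len_le_zero {a b : SimplexCategory} (hb : b.len ≤ 0) (f g : a ⟶ b) : f = g := by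
  apply SimplexCategory.Hom.ext
  ext i
  have h1 := (f.toOrderHom i).is_lt
  have h2 := (g.toOrderHom i).is_lt
  omega

variable {D : Type u} [Category.{v} D]
  [∀ a b : SimplexCategoryᵒᵖ, HasCoproductsOfShape (a ⟶ b) D]

lemma ι_homEquiv_symm_app (F : SimplexCategoryᵒᵖ ⥤ D) (c₀ : SimplexCategoryᵒᵖ) (W : D)
    (c : W ⟶ F.obj c₀) (t : SimplexCategoryᵒᵖ) (h : c₀ ⟶ t) :
    Sigma.ι (fun _ : c₀ ⟶ t => W) h ≫
      (((evaluationAdjunctionRight D c₀).homEquiv W F).symm c).app t = c ≫ F.map h := by
  simp [evaluationAdjunctionRight]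

variable [∀ (F : (SimplexCategory.Truncated 0)ᵒᵖ ⥤ D),
    (SimplexCategory.Truncated.inclusion 0).op.HasRightKanExtension F]

/-- The object `[0]` of the truncated simplex category. -/
abbrev x₀ : (SimplexCategory.Truncated 0)ᵒᵖ := op ⟨SimplexCategory.mk 0, le_rfl⟩

variable (K : SimplicialObject D)

/-- `cosk₀ sk₀ K`. -/
noncomputable abbrev E : SimplicialObject D := (truncation 0 ⋙ Truncated.cosk 0).obj K

noncomputable abbrev ε : (truncation 0).obj (E K) ⟶ (truncation 0).obj K :=
  (coskAdj 0).counit.app ((truncation 0).obj K)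

noncomputable abbrev η : K ⟶ E K := (coskAdj 0).unit.app K

lemma η_ε : (η K).app (op (SimplexCategory.mk 0)) ≫ (ε K).app x₀ = 𝟙 _ := by
  have := (coskAdj 0).left_triangle_components K
  exact congrArg (fun t => NatTrans.app t x₀) this

lemma mono_ε0 : Mono ((ε K).app x₀) := by
  constructor
  intro W a b hab
  let adjE := evaluationAdjunctionRight D (op (SimplexCategory.mk 0))
  have h2 : (truncation 0).map ((adjE.homEquiv W (E K)).symm a) ≫ ε K =
      (truncation 0).map ((adjE.homEquiv W (E K)).symm b) ≫ ε K := by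
    ext x
    apply Sigma.hom_ext
    intro h
    have nat := (ε K).naturality
      (show x₀ ⟶ x from (ObjectProperty.homMk h.unop : x.unop ⟶ x₀.unop).op)
    have ea := ι_homEquiv_symm_app (E K) (op (SimplexCategory.mk 0)) W a _ h
    have eb := ι_homEquiv_symm_app (E K) (op (SimplexCategory.mk 0)) W b _ h
    show Sigma.ι _ h ≫ ((adjE.homEquiv W (E K)).symm a).app _ ≫ (ε K).app x =
      Sigma.ι _ h ≫ ((adjE.homEquiv W (E K)).symm b).app _ ≫ (ε K).app x
    rw [← Category.assoc, ← Category.assoc, ea, eb, Category.assoc, Category.assoc]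
    have nat' : (E K).map h ≫ (ε K).app x = (ε K).app x₀ ≫ K.map h := nat
    rw [nat', ← Category.assoc, ← Category.assoc, hab]
  have h3 : (adjE.homEquiv W (E K)).symm a = (adjE.homEquiv W (E K)).symm b := by
    apply ((coskAdj 0).homEquiv _ _).symm.injective
    rw [Adjunction.homEquiv_counit, Adjunction.homEquiv_counit]
    exact h2
  exact (adjE.homEquiv W (E K)).symm.injective h3


theorem exists_lift (W : D) (s t : W ⟶ K.obj (op (SimplexCategory.mk 0))) :
    ∃ g : W ⟶ (E K).obj (op (SimplexCategory.mk 1)),
      g ≫ (E K).map (SimplexCategory.δ (1 : Fin 2)).op = s ≫ (η K).app (op (SimplexCategory.mk 0)) ∧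
      g ≫ (E K).map (SimplexCategory.δ (0 : Fin 2)).op =
        t ≫ (η K).app (op (SimplexCategory.mk 0)) := by
  classical
  let v : (op (SimplexCategory.mk 1) ⟶ op (SimplexCategory.mk 0)) →
      (W ⟶ K.obj (op (SimplexCategory.mk 0))) :=
    fun h => if h.unop.toOrderHom 0 = 0 then s else t
  let Y : SimplicialObject D := (evaluationLeftAdjoint D (op (SimplexCategory.mk 1))).obj W
  let β : (truncation 0).obj Y ⟶ (truncation 0).obj K :=
    { app := fun x => Sigma.desc (fun h : op (SimplexCategory.mk 1) ⟶ op x.unop.obj =>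
        v (h ≫ (SimplexCategory.const (SimplexCategory.mk 0) x.unop.obj 0).op) ≫
          K.map (SimplexCategory.const x.unop.obj (SimplexCategory.mk 0) 0).op)
      naturality := by
        intro x y f
        apply Sigma.hom_ext
        intro h
        have e1 : (SimplexCategory.Truncated.inclusion 0).op.map f ≫
            (SimplexCategory.const (SimplexCategory.mk 0) y.unop.obj 0).op =
            (SimplexCategory.const (SimplexCategory.mk 0) x.unop.obj 0).op := by
          apply Quiver.Hom.unop_inj
          exact hom_eq_of_len_le_zero x.unop.property _ _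
        have e2 : (SimplexCategory.const x.unop.obj (SimplexCategory.mk 0) 0).op ≫
            (SimplexCategory.Truncated.inclusion 0).op.map f =
            (SimplexCategory.const y.unop.obj (SimplexCategory.mk 0) 0).op := by
          apply Quiver.Hom.unop_inj
          exact hom_eq_of_len_le_zero le_rfl _ _
        show Sigma.ι (fun _ : op (SimplexCategory.mk 1) ⟶ op x.unop.obj => W) h ≫
            Y.map ((SimplexCategory.Truncated.inclusion 0).op.map f) ≫
            Sigma.desc _ = Sigma.ι (fun _ : op (SimplexCategory.mk 1) ⟶ op x.unop.obj => W) h ≫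
              Sigma.desc _ ≫ K.map ((SimplexCategory.Truncated.inclusion 0).op.map f)
        rw [← Category.assoc]
        erw [evaluationLeftAdjoint_obj_map, Sigma.ι_desc, Sigma.ι_desc]
        rw [← Category.assoc, Sigma.ι_desc, Category.assoc, Category.assoc, e1, ← K.map_comp, e2] }
  let α : Y ⟶ E K := (coskAdj 0).homEquiv Y _ β
  have hα : (truncation 0).map α ≫ ε K = β := by
    rw [← Adjunction.homEquiv_counit]; exact Equiv.symm_apply_apply _ _
  let g : W ⟶ (E K).obj (op (SimplexCategory.mk 1)) :=
    Sigma.ι (fun _ : op (SimplexCategory.mk 1) ⟶ op (SimplexCategory.mk 1) => W) (𝟙 _) ≫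
      α.app (op (SimplexCategory.mk 1))
  have face : ∀ i : Fin 2, g ≫ (E K).map (SimplexCategory.δ i).op =
      v (SimplexCategory.δ i).op ≫ (η K).app (op (SimplexCategory.mk 0)) := by
    intro i
    haveI := mono_ε0 K
    rw [← cancel_mono ((ε K).app x₀)]
    have hr : (v (SimplexCategory.δ i).op ≫ (η K).app (op (SimplexCategory.mk 0))) ≫
        (ε K).app x₀ = v (SimplexCategory.δ i).op := by
      rw [Category.assoc, η_ε, Category.comp_id]
    refine Eq.trans ?_ hr.symm
    have n1 : Y.map (SimplexCategory.δ i).op ≫ α.app (op (SimplexCategory.mk 0)) =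
        α.app (op (SimplexCategory.mk 1)) ≫ (E K).map (SimplexCategory.δ i).op :=
      α.naturality (SimplexCategory.δ i).op
    have n2 : α.app (op (SimplexCategory.mk 0)) ≫ (ε K).app x₀ = β.app x₀ :=
      congrArg (fun t => NatTrans.app t x₀) hα
    have n3 : Sigma.ι (fun _ : op (SimplexCategory.mk 1) ⟶ op (SimplexCategory.mk 1) => W) (𝟙 _) ≫
        Y.map (SimplexCategory.δ i).op =
        Sigma.ι (fun _ : op (SimplexCategory.mk 1) ⟶ op (SimplexCategory.mk 0) => W)
          (SimplexCategory.δ i).op := by
      erw [evaluationLeftAdjoint_obj_map, Sigma.ι_desc]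
      rw [Category.id_comp]
    have n4 : Sigma.ι (fun _ : op (SimplexCategory.mk 1) ⟶ op (SimplexCategory.mk 0) => W)
          (SimplexCategory.δ i).op ≫ β.app x₀ = v (SimplexCategory.δ i).op := by
      have c0 : SimplexCategory.const (SimplexCategory.mk 0) (SimplexCategory.mk 0) 0 = 𝟙 _ :=
        hom_eq_of_len_le_zero le_rfl _ _
      show Sigma.ι _ _ ≫ Sigma.desc _ = _
      rw [Sigma.ι_desc]
      show v ((SimplexCategory.δ i).op ≫
        (SimplexCategory.const (SimplexCategory.mk 0) (SimplexCategory.mk 0) 0).op) ≫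
        K.map (SimplexCategory.const (SimplexCategory.mk 0) (SimplexCategory.mk 0) 0).op = _
      rw [c0, op_id, Category.comp_id, K.map_id, Category.comp_id]
    show ((Sigma.ι (fun _ : op (SimplexCategory.mk 1) ⟶ op (SimplexCategory.mk 1) => W) (𝟙 _) ≫
      α.app (op (SimplexCategory.mk 1))) ≫ (E K).map (SimplexCategory.δ i).op) ≫ (ε K).app x₀ = _
    rw [Category.assoc, Category.assoc, ← Category.assoc (α.app _), ← n1, Category.assoc, n2,
      ← Category.assoc, n3, n4]
  refine ⟨g, ?_, ?_⟩
  · rw [face 1]
    have : v (SimplexCategory.δ (1 : Fin 2)).op = s := by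
      show (if (SimplexCategory.δ (1 : Fin 2)).toOrderHom 0 = 0 then s else t) = s
      rw [if_pos]
      rfl
    rw [this]
  · rw [face 0]
    have : v (SimplexCategory.δ (0 : Fin 2)).op = t := by
      show (if (SimplexCategory.δ (0 : Fin 2)).toOrderHom 0 = 0 then s else t) = t
      rw [if_neg]
      intro h
      exact absurd h (by decide)
    rw [this]

end Groth.Agent.Helper6.CoskZero
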