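import Mathlib
import Groth.Prelude.Def_Hyper

/-!
# Helper6: coverings of semi-representable objects: composition and base change.
-/

set_option autoImplicit false
set_option linter.style.haveILetI false
set_option linter.unusedVariables false
set_option backward.isDefEq.respectTransparency false
set_option backward.isDefEq.respectTransparency.types false
universe u

namespace Groth.Agent.Helper6.SRCov
open CategoryTheory Limits Hyper

variable {C : Type u} [SmallCategory C] (J : GrothendieckTopology C)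

/-- Criterion for being a covering. -/
theorem isSRCovering_of {K L : FormalCoproduct.{u} C} (f : K ⟶ L)
    (h : ∀ j : L.I, ∃ S ∈ J (L.obj j), ∀ ⦃W : C⦄ (k : W ⟶ L.obj j), S k →
      ∃ (i : K.I) (e : f.f i = j) (a : W ⟶ K.obj i), k = a ≫ f.φ i ≫ eqToHom (congrArg L.obj e)) :
    IsSRCovering J f := by
  intro j
  obtain ⟨S, hS, hS'⟩ := h j
  refine J.superset_covering ?_ hS
  intro W k hk
  obtain ⟨i, e, a, rfl⟩ := hS' k hk
  rw [Sieve.mem_ofArrows_iff]
  exact ⟨⟨i, e⟩, a, rfl⟩

theorem exists_of_isSRCovering {K L : FormalCoproduct.{u} C} {f : K ⟶ L} (hf : IsSRCovering J f)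
    (j : L.I) : ∃ S ∈ J (L.obj j), ∀ ⦃W : C⦄ (k : W ⟶ L.obj j), S k →
      ∃ (i : K.I) (e : f.f i = j) (a : W ⟶ K.obj i),
        k = a ≫ f.φ i ≫ eqToHom (congrArg L.obj e) := by
  refine ⟨_, hf j, ?_⟩
  intro W k hk
  rw [Sieve.mem_ofArrows_iff] at hk
  obtain ⟨⟨i, e⟩, a, rfl⟩ := hk
  exact ⟨i, e, a, rfl⟩

theorem isSRCovering_comp {K L M : FormalCoproduct.{u} C} (f : K ⟶ L) (g : L ⟶ M)
    (hf : IsSRCovering J f) (hg : IsSRCovering J g) : IsSRCovering J (f ≫ g) := by
  intro m
  refine J.transitive (hg m) _ ?_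
  intro Y h hh
  rw [Sieve.mem_ofArrows_iff] at hh
  obtain ⟨⟨j, ej⟩, a, rfl⟩ := hh
  refine J.superset_covering ?_ (J.pullback_stable a (hf j))
  intro W k hk
  rw [Sieve.pullback_apply, Sieve.mem_ofArrows_iff] at hk
  obtain ⟨⟨i, ei⟩, c, hc⟩ := hk
  rw [Sieve.pullback_apply, Sieve.mem_ofArrows_iff]
  subst ei
  subst ej
  refine ⟨⟨i, rfl⟩, c, ?_⟩
  rw [← Category.assoc, hc]
  simp

theorem isSRCovering_of_isIso {K L : FormalCoproduct.{u} C} (f : K ⟶ L) [IsIso f] :
    IsSRCovering J f := by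
  apply isSRCovering_of
  intro j
  have h1 : inv f ≫ f = 𝟙 L := IsIso.inv_hom_id f
  have hf : f.f ((inv f).f j) = j := congrFun (congrArg FormalCoproduct.Hom.f h1) j
  have hφ := ((FormalCoproduct.hom_ext_iff _ _).1 h1).2 j
  refine ⟨⊤, J.top_mem _, ?_⟩
  intro W k _
  refine ⟨(inv f).f j, hf, k ≫ (inv f).φ j, ?_⟩
  simp only [FormalCoproduct.category_comp_φ, FormalCoproduct.category_id_φ,
    Category.assoc] at hφ
  rw [Category.assoc, hφ, Category.comp_id]

section Pullback

variable [HasPullbacks C] {K L L' : FormalCoproduct.{u} C} (f : K ⟶ L) (g : L' ⟶ L)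

/-- The explicit pullback cone. -/
noncomputable abbrev pbCone : PullbackCone g f :=
  FormalCoproduct.pullbackCone g f (fun _ => pullback.cone _ _)

noncomputable def pbConeIsLimit : IsLimit (pbCone f g) :=
  FormalCoproduct.isLimitPullbackCone g f (fun _ => pullback.cone _ _)
    (fun _ => pullback.isLimit _ _)

theorem isSRCovering_pbCone_fst (hf : IsSRCovering J f) : IsSRCovering J (pbCone f g).fst := by
  apply isSRCovering_of
  intro j'
  obtain ⟨S, hS, hS'⟩ := exists_of_isSRCovering J hf (g.f j')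
  refine ⟨S.pullback (g.φ j'), J.pullback_stable _ hS, ?_⟩
  intro W h hh
  obtain ⟨k, ek, b, hb⟩ := hS' _ hh
  have cond : h ≫ (g.φ j' ≫ eqToHom (congrArg L.obj ek.symm)) = b ≫ f.φ k := by
    rw [← Category.assoc, hb]
    simp
  refine ⟨⟨(j', k), ek.symm⟩, rfl, pullback.lift h b cond, ?_⟩
  simp

theorem isSRCovering_fst (hf : IsSRCovering J f) [HasPullback g f] :
    IsSRCovering J (pullback.fst g f) := by
  let e : pullback g f ≅ (pbCone f g).pt :=
    (limit.isLimit (cospan g f)).conePointUniqueUpToIso (pbConeIsLimit f g)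
  have he : e.hom ≫ (pbCone f g).fst = pullback.fst g f :=
    IsLimit.conePointUniqueUpToIso_hom_comp _ _ WalkingCospan.left
  rw [← he]
  exact isSRCovering_comp J _ _ (isSRCovering_of_isIso J e.hom) (isSRCovering_pbCone_fst J f g hf)

end Pullback

end Groth.Agent.Helper6.SRCov
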