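import Groth.Agent.Helper6.CoskZero
import Groth.Agent.Helper6.SRCov

/-!
# Helper6: lifting pairs of vertices to edges, locally, for a hypercovering.
-/

set_option autoImplicit false
set_option linter.style.haveILetI false
set_option linter.unusedVariables false
set_option backward.isDefEq.respectTransparency false
set_option backward.isDefEq.respectTransparency.types false
universe u

namespace Groth.Agent.Helper6.CoskZeroSR
open CategoryTheory Limits Opposite SimplicialObject Hyper

variable {C : Type u} [SmallCategory C] (J : GrothendieckTopology C)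

instance hasCoproductsOfShape_small (α : Type) :
    HasCoproductsOfShape α (FormalCoproduct.{u} C) :=
  hasColimitsOfShape_of_equivalence (Discrete.equivalence (Equiv.ulift.{u} : ULift.{u} α ≃ α))

variable [∀ (F : (SimplexCategory.Truncated 0)ᵒᵖ ⥤ FormalCoproduct.{u} C),
    (SimplexCategory.Truncated.inclusion 0).op.HasRightKanExtension F]

theorem exists_cover_lift (K : SimplicialObject (FormalCoproduct.{u} C))
    (hη : IsSRCovering J (((coskAdj 0).unit.app K).app (op (SimplexCategory.mk 1))))
    (U : C) (s t : (FormalCoproduct.incl C).obj U ⟶ K.obj (op (SimplexCategory.mk 0))) :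
    ∃ S ∈ J U, ∀ ⦃V : C⦄ (k : V ⟶ U), S k →
      ∃ ℓ : (FormalCoproduct.incl C).obj V ⟶ K.obj (op (SimplexCategory.mk 1)),
        ℓ ≫ K.map (SimplexCategory.δ (1 : Fin 2)).op = (FormalCoproduct.incl C).map k ≫ s ∧
        ℓ ≫ K.map (SimplexCategory.δ (0 : Fin 2)).op = (FormalCoproduct.incl C).map k ≫ t := by
  obtain ⟨g, hg1, hg0⟩ := CoskZero.exists_lift K _ s t
  obtain ⟨S₀, hS₀, hS₀'⟩ := SRCov.exists_of_isSRCovering J hη (g.f PUnit.unit)
  refine ⟨S₀.pullback (g.φ PUnit.unit), J.pullback_stable _ hS₀, ?_⟩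
  intro V k hk
  obtain ⟨i, he, a, ha⟩ := hS₀' (k ≫ g.φ PUnit.unit) hk
  let ℓ : (FormalCoproduct.incl C).obj V ⟶ K.obj (op (SimplexCategory.mk 1)) :=
    FormalCoproduct.Hom.fromIncl i a
  have hℓ : ℓ ≫ (CoskZero.η K).app (op (SimplexCategory.mk 1)) =
      (FormalCoproduct.incl C).map k ≫ g := by
    refine FormalCoproduct.hom_ext ?_ ?_
    · funext x; exact he
    · intro x
      exact (Category.assoc _ _ _).trans ha.symm
  haveI hmono : Mono ((CoskZero.η K).app (op (SimplexCategory.mk 0))) :=
    mono_of_mono_fac (CoskZero.η_ε K)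
  have nat1 := (CoskZero.η K).naturality (SimplexCategory.δ (1 : Fin 2)).op
  have nat0 := (CoskZero.η K).naturality (SimplexCategory.δ (0 : Fin 2)).op
  refine ⟨ℓ, ?_, ?_⟩
  · rw [← cancel_mono ((CoskZero.η K).app (op (SimplexCategory.mk 0))), Category.assoc, nat1,
      ← Category.assoc, hℓ, Category.assoc, hg1, Category.assoc]
  · rw [← cancel_mono ((CoskZero.η K).app (op (SimplexCategory.mk 0))), Category.assoc, nat0,
      ← Category.assoc, hℓ, Category.assoc, hg0, Category.assoc]

end Groth.Agent.Helper6.CoskZeroSR
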