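import Mathlib
import Groth.Prelude.Def_CotT

/-!
# Helper6: exactness of `L₂ → L₁ → I/I² → 0` for the cotangent complex of a presentation
-/

set_option autoImplicit false
universe u v w t m

open TensorProduct

namespace Groth.Agent.Helper6.CotTExact

variable {A : Type u} {B : Type v} {ι : Type w} {σ : Type t}
variable [CommRing A] [CommRing B] [Algebra A B]
variable (P : Algebra.Presentation A B ι σ)

open CotT

theorem jker_surjective : Function.Surjective (jker P) := by
  rintro ⟨x, hx⟩
  have hx' : x ∈ LinearMap.range (jmap P) := by rw [range_jmap]; exact hx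
  obtain ⟨f, rfl⟩ := hx'
  exact ⟨f, rfl⟩

theorem toCot_eq :
    toCot P = P.toExtension.cotangentEquiv.toLinearMap ∘ₗ (jker P).baseChange B := by
  refine TensorProduct.AlgebraTensorModule.ext fun b f => ?_
  simp [toCot_tmul]

theorem toCot_surjective : Function.Surjective (toCot P) := by
  intro x
  obtain ⟨y, rfl⟩ := Algebra.Extension.Cotangent.mk_surjective x
  obtain ⟨f, rfl⟩ := jker_surjective P y
  exact ⟨1 ⊗ₜ f, by simp⟩

theorem exact_subtype_jker : Function.Exact (relKer P).subtype (jker P) := by
  intro f
  constructor
  · intro hf
    have hf' : jmap P f = 0 := congrArg Subtype.val hf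
    exact ⟨⟨f, hf'⟩, rfl⟩
  · rintro ⟨q, rfl⟩
    exact Subtype.ext q.2

theorem ker_toCot : LinearMap.ker (toCot P) = LinearMap.range (d2 P) := by
  have h1 : Function.Exact ((relKer P).subtype.baseChange B) ((jker P).baseChange B) := by
    have := @lTensor_exact P.toExtension.Ring (relKer P) (relMod P) P.toExtension.ker _ _ _ _ _ _ _
      (relKer P).subtype (jker P) B _ _ (exact_subtype_jker P) (jker_surjective P)
    intro x
    exact this x
  have h2 : LinearMap.range (d2 P) = LinearMap.range ((relKer P).subtype.baseChange B) := by
    rw [← d2_comp_mkQ, LinearMap.range_comp, Submodule.range_mkQ, Submodule.map_top]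
  rw [h2]
  ext x
  rw [LinearMap.mem_ker, toCot_eq, LinearMap.comp_apply]
  constructor
  · intro hx
    have hx' : (jker P).baseChange B x = 0 := by
      apply P.toExtension.cotangentEquiv.injective
      rw [map_zero]
      exact hx
    exact (h1 x).1 hx'
  · intro hx
    have := (h1 x).2 hx
    rw [this]
    exact map_zero _

end Groth.Agent.Helper6.CotTExact
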