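import Mathlib

universe u v

namespace Groth.Agent.Helper6.CrimpDisc

open Module Matrix

/-- Smith normal form over a DVR, with units absorbed and the length of the quotient computed. -/
theorem snf_dvr {R : Type u} [CommRing R] [IsDomain R] [IsDiscreteValuationRing R] (ϖ : R)
    (hϖ : Irreducible ϖ) {M : Type v} [AddCommGroup M] [Module R M] {ι : Type} [Fintype ι]
    (b : Basis ι R M) (N : Submodule R M) (h : Module.finrank R N = Module.finrank R M) :
    ∃ (b' : Basis ι R M) (ab : Basis ι R N) (n : ι → ℕ),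
      (∀ i, (ab i : M) = (ϖ ^ n i) • b' i) ∧
      Module.length R (M ⧸ N) = ((∑ i, n i : ℕ) : ℕ∞) ∧
      ∀ x : M, (ϖ ^ (∑ i, n i)) • x ∈ N := by
  classical
  let c := Submodule.smithNormalFormCoeffs b h
  let b₀ := Submodule.smithNormalFormTopBasis b h
  let ab := Submodule.smithNormalFormBotBasis b h
  have hab : ∀ i, (ab i : M) = c i • b₀ i := Submodule.smithNormalFormBotBasis_def b h
  have hc : ∀ i, c i ≠ 0 := Submodule.smithNormalFormCoeffs_ne_zero b h
  choose n u hnu using fun i => IsDiscreteValuationRing.eq_unit_mul_pow_irreducible (hc i) hϖ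
  let b' : Basis ι R M := b₀.unitsSMul u
  have hb' : ∀ i, b' i = u i • b₀ i := fun i => Basis.unitsSMul_apply i
  have hab' : ∀ i, (ab i : M) = (ϖ ^ n i) • b' i := by
    intro i
    rw [hab, hb', hnu i, Units.smul_def, smul_smul, mul_comm]
  refine ⟨b', ab, n, hab', ?_, ?_⟩
  · rw [(Submodule.quotientEquivPiSpan N b h).length_eq, Module.length_pi_of_fintype]
    push_cast
    apply Finset.sum_congr rfl
    intro i _
    have : Ideal.span {Submodule.smithNormalFormCoeffs b h i} = IsLocalRing.maximalIdeal R ^ n i := by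
      rw [hϖ.maximalIdeal_eq, Ideal.span_singleton_pow]
      apply Ideal.span_singleton_eq_span_singleton.mpr
      show Associated (c i) (ϖ ^ n i)
      rw [hnu i]
      exact associated_unit_mul_left _ _ (u i).isUnit
    rw [this, IsDiscreteValuationRing.length_quotient_pow_maximalIdeal]
  · intro x
    rw [← b'.sum_repr x, Finset.smul_sum]
    apply Submodule.sum_mem
    intro i _
    have hle : n i ≤ ∑ j, n j := Finset.single_le_sum (f := n) (fun _ _ => Nat.zero_le _) (Finset.mem_univ i)
    obtain ⟨m, hm⟩ := Nat.exists_eq_add_of_le hle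
    have : (ϖ ^ (∑ j, n j)) • (b'.repr x i • b' i) = (ϖ ^ m * b'.repr x i) • ((ab i : N) : M) := by
      rw [hab', hm, pow_add, smul_smul, smul_smul]
      congr 1
      ring
    rw [this]
    exact N.smul_mem _ (ab i).2


theorem discr_basis_assoc {R : Type u} {A : Type v} [CommRing R] [CommRing A] [Algebra R A]
    {ι : Type} [Fintype ι] [DecidableEq ι] (b₁ b₂ : Basis ι R A) :
    Associated (Algebra.discr R b₁) (Algebra.discr R b₂) := by
  let P := b₁.toMatrix b₂
  have h1 : (b₂ : ι → A) = (b₁ : ι → A) ᵥ* P.map (algebraMap R A) := by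
    ext j
    simp only [vecMul, dotProduct, map_apply, P, Basis.toMatrix_apply]
    conv_lhs => rw [← b₁.sum_repr (b₂ j)]
    apply Finset.sum_congr rfl
    intro i _
    rw [Algebra.smul_def, mul_comm]
  have h2 : Algebra.discr R b₂ = P.det ^ 2 * Algebra.discr R b₁ := by
    rw [h1, Algebra.discr_of_matrix_vecMul]
  have hu : IsUnit P.det := by
    have : P * b₂.toMatrix b₁ = 1 := Basis.toMatrix_mul_toMatrix_flip b₁ b₂
    exact Matrix.isUnit_det_of_right_inverse this
  rw [h2]
  exact (associated_unit_mul_left _ _ (hu.pow 2)).symm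

section
variable {R : Type u} {St : Type v} [CommRing R] [IsDomain R] [CommRing St] [Algebra R St]
  (S : Subalgebra R St) {ι : Type} [Fintype ι] [DecidableEq ι] (b' : Basis ι R St)
  (ab' : Basis ι R S) (c : ι → R) (hc : ∀ i, c i ≠ 0) (hab : ∀ i, (ab' i : St) = c i • b' i)

include hab in
theorem repr_sub (y : S) (j : ι) : b'.repr (y : St) j = ab'.repr y j * c j := by
  have h1 : (y : St) = ∑ i, (ab'.repr y i * c i) • b' i := by
    conv_lhs => rw [← ab'.sum_repr y]
    rw [AddSubmonoidClass.coe_finset_sum]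
    apply Finset.sum_congr rfl
    intro i _
    rw [Subalgebra.coe_smul, hab, smul_smul]
  rw [h1, b'.repr_sum_self]

include hc hab in
theorem trace_sub_eq (s : S) : Algebra.trace R S s = Algebra.trace R St (s : St) := by
  rw [Algebra.trace_eq_matrix_trace ab' s, Algebra.trace_eq_matrix_trace b' (s : St)]
  unfold Matrix.trace
  apply Finset.sum_congr rfl
  intro j _
  simp only [diag_apply, Algebra.leftMulMatrix_eq_repr_mul]
  have h1 := repr_sub S b' ab' c hab (s * ab' j) j
  have h2 : ((s * ab' j : S) : St) = c j • ((s : St) * b' j) := by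
    rw [Subalgebra.coe_mul, hab, mul_smul_comm]
  rw [h2, map_smul, Finsupp.smul_apply, smul_eq_mul, mul_comm] at h1
  exact (mul_right_cancel₀ (hc j) h1).symm

include hc hab in
theorem discr_sub : Algebra.discr R (ab' : ι → S) = (∏ i, c i) ^ 2 * Algebra.discr R b' := by
  rw [Algebra.discr_def, Algebra.discr_def]
  have h : Algebra.traceMatrix R (ab' : ι → S) =
      Matrix.diagonal c * Algebra.traceMatrix R b' * Matrix.diagonal c := by
    ext i j
    rw [Algebra.traceMatrix_apply, Matrix.mul_diagonal, Matrix.diagonal_mul, Algebra.traceMatrix_apply,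
      Algebra.traceForm_apply, Algebra.traceForm_apply, trace_sub_eq S b' ab' c hc hab,
      Subalgebra.coe_mul, hab, hab, smul_mul_smul_comm, map_smul, smul_eq_mul]
    ring
  rw [h, det_mul, det_mul, det_diagonal]
  ring
end

theorem crimp_main {k : Type u} [Field k]
    {St : Type v} [CommRing St] [Algebra (PowerSeries k) St] (d a b : ℕ)
    (bt : Module.Basis (Fin d) (PowerSeries k) St)
    (ha : Ideal.span {Algebra.discr (PowerSeries k) ⇑bt} = Ideal.span {(PowerSeries.X : PowerSeries k) ^ a})
    (S : Subalgebra (PowerSeries k) St) (bS : Module.Basis (Fin d) (PowerSeries k) S)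
    (hb : Ideal.span {Algebra.discr (PowerSeries k) ⇑bS} = Ideal.span {(PowerSeries.X : PowerSeries k) ^ b}) :
    (∀ q : St ⧸ Subalgebra.toSubmodule S, ((PowerSeries.X : PowerSeries k) ^ b) • q = 0) ∧
    2 * Module.length (PowerSeries k) (St ⧸ Subalgebra.toSubmodule S) + (a : ℕ∞) = (b : ℕ∞) := by
  classical
  set R := PowerSeries k
  set N := Subalgebra.toSubmodule S
  have hfr : Module.finrank R N = Module.finrank R St := by
    rw [Module.finrank_eq_card_basis bt,
      (Subalgebra.toSubmoduleEquiv S).finrank_eq, Module.finrank_eq_card_basis bS]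
  obtain ⟨b', ab, n, hab, hlen, hkill⟩ :=
    snf_dvr (PowerSeries.X : R) PowerSeries.X_irreducible bt N hfr
  let ab' : Basis (Fin d) R S := ab.map (Subalgebra.toSubmoduleEquiv S)
  have hab' : ∀ i, (ab' i : St) = ((PowerSeries.X : R) ^ n i) • b' i := by
    intro i
    rw [← hab i]
    rfl
  have hd := discr_sub S b' ab' (fun i => (PowerSeries.X : R) ^ n i)
    (fun i => pow_ne_zero _ PowerSeries.X_ne_zero) hab'
  rw [Finset.prod_pow_eq_pow_sum, ← pow_mul] at hd
  have h1 : Associated (Algebra.discr R bt) ((PowerSeries.X : R) ^ a) :=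
    Ideal.span_singleton_eq_span_singleton.mp ha
  have h2 : Associated (Algebra.discr R bS) ((PowerSeries.X : R) ^ b) :=
    Ideal.span_singleton_eq_span_singleton.mp hb
  have h3 : Associated ((PowerSeries.X : R) ^ b) ((PowerSeries.X : R) ^ ((∑ i, n i) * 2 + a)) := by
    refine h2.symm.trans ((discr_basis_assoc bS ab').trans ?_)
    rw [hd, pow_add]
    exact ((discr_basis_assoc b' bt).trans h1).mul_left _
  have hXu : ¬ IsUnit (PowerSeries.X : R) := PowerSeries.X_irreducible.not_isUnit
  have hbeq : b = (∑ i, n i) * 2 + a := by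
    apply le_antisymm
    · exact (pow_dvd_pow_iff PowerSeries.X_ne_zero hXu).mp h3.dvd
    · exact (pow_dvd_pow_iff PowerSeries.X_ne_zero hXu).mp h3.symm.dvd
  constructor
  · intro q
    obtain ⟨x, rfl⟩ := Submodule.Quotient.mk_surjective _ q
    rw [← Submodule.Quotient.mk_smul, Submodule.Quotient.mk_eq_zero]
    have : b = (∑ i, n i) + ((∑ i, n i) + a) := by omega
    rw [this, pow_add, mul_comm, mul_smul]
    exact N.smul_mem _ (hkill x)
  · rw [hlen, hbeq]
    push_cast
    ring

end Groth.Agent.Helper6.CrimpDisc
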