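import Mathlib
import Groth.Agent.Helper6.CrimpDisc

universe u v

namespace Groth.Agent.Helper6.Crimp3

open Module

section
variable {R : Type u} [CommRing R]

/-- `x ↦ (x 1 - x 0, x 2 - x 0)` -/
def psi : (Fin 3 → R) →ₗ[R] (Fin 2 → R) where
  toFun x := ![x 1 - x 0, x 2 - x 0]
  map_add' x y := by
    ext i; fin_cases i <;> simp <;> ring
  map_smul' r x := by
    ext i; fin_cases i <;> simp <;> ring

theorem psi_surj : Function.Surjective (psi (R := R)) := by
  intro y
  refine ⟨![0, y 0, y 1], ?_⟩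
  ext i; fin_cases i <;> simp [psi]

theorem psi_ker : LinearMap.ker (psi (R := R)) = Submodule.span R {(1 : Fin 3 → R)} := by
  ext x
  rw [LinearMap.mem_ker, Submodule.mem_span_singleton]
  constructor
  · intro hx
    have h0 := congrFun hx 0
    have h1 := congrFun hx 1
    simp [psi] at h0 h1
    refine ⟨x 0, ?_⟩
    ext i; fin_cases i
    · simp
    · simp; exact (sub_eq_zero.mp h0).symm
    · simp; exact (sub_eq_zero.mp h1).symm
  · rintro ⟨r, rfl⟩
    ext i; fin_cases i <;> simp [psi]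
end

section
variable {R : Type u} [CommRing R] {M : Type v} [AddCommGroup M] [Module R M]
  (N : Submodule R M) {ι : Type} [Fintype ι] (b' : Basis ι R M)
  (ab : Basis ι R N) (c : ι → R) (hab : ∀ i, (ab i : M) = c i • b' i)

include hab in
theorem repr_sub' (y : N) (j : ι) : b'.repr (y : M) j = ab.repr y j * c j := by
  have h1 : (y : M) = ∑ i, (ab.repr y i * c i) • b' i := by
    conv_lhs => rw [← ab.sum_repr y]
    rw [AddSubmonoidClass.coe_finset_sum]
    apply Finset.sum_congr rfl
    intro i _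
    rw [Submodule.coe_smul, hab, smul_smul]
  rw [h1, b'.repr_sum_self]

theorem repr_mem_of_mem_smul (I : Ideal R) (z : M) (hz : z ∈ I • (⊤ : Submodule R M)) (i : ι) :
    b'.repr z i ∈ I := by
  refine Submodule.smul_induction_on hz ?_ ?_
  · intro r hr x _
    rw [map_smul, Finsupp.smul_apply, smul_eq_mul]
    exact I.mul_mem_right _ hr
  · intro x y hx hy
    rw [map_add, Finsupp.add_apply]
    exact I.add_mem hx hy
end

theorem main {R : Type u} [CommRing R] [IsDomain R] [IsDiscreteValuationRing R] (ϖ : R)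
    (hϖ : Irreducible ϖ) (m n : ℕ) (hmn : m ≤ n) (S : Submodule R (Fin 3 → R))
    (h1 : (1 : Fin 3 → R) ∈ S)
    (e : ((Fin 3 → R) ⧸ S) ≃ₗ[R] ((R ⧸ Ideal.span {ϖ ^ m}) × (R ⧸ Ideal.span {ϖ ^ n}))) :
    Ideal.span {ϖ ^ n} • (⊤ : Submodule R (Fin 3 → R)) ≤ S ∧
    ∃ f : Fin 3 → R,
      f ∉ Submodule.span R {(1 : Fin 3 → R)} ⊔ Ideal.span {ϖ} • (⊤ : Submodule R (Fin 3 → R)) ∧
      S = Submodule.span R {(1 : Fin 3 → R), ϖ ^ m • f} ⊔
        Ideal.span {ϖ ^ n} • (⊤ : Submodule R (Fin 3 → R)) := by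
  classical
  have hne : ϖ ≠ 0 := hϖ.ne_zero
  have hnu : ¬ IsUnit ϖ := hϖ.not_isUnit
  -- quotient killed by ϖ^n
  have kill : ∀ q : (Fin 3 → R) ⧸ S, ϖ ^ n • q = 0 := by
    intro q
    apply e.injective
    rw [map_smul, map_zero]
    obtain ⟨a, ha⟩ := Ideal.Quotient.mk_surjective (e q).1
    obtain ⟨b, hb⟩ := Ideal.Quotient.mk_surjective (e q).2
    have : e q = (Ideal.Quotient.mk _ a, Ideal.Quotient.mk _ b) := Prod.ext ha.symm hb.symm
    rw [this]
    refine Prod.ext ?_ ?_
    · show ϖ ^ n • Ideal.Quotient.mk _ a = 0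
      rw [← Ideal.Quotient.mk_eq_mk, ← Submodule.Quotient.mk_smul, Ideal.Quotient.mk_eq_mk,
        Ideal.Quotient.eq_zero_iff_mem, Ideal.mem_span_singleton, smul_eq_mul]
      exact Dvd.dvd.mul_right (pow_dvd_pow _ hmn) _
    · show ϖ ^ n • Ideal.Quotient.mk _ b = 0
      rw [← Ideal.Quotient.mk_eq_mk, ← Submodule.Quotient.mk_smul, Ideal.Quotient.mk_eq_mk,
        Ideal.Quotient.eq_zero_iff_mem, Ideal.mem_span_singleton, smul_eq_mul]
      exact Dvd.intro _ rfl
  have killS : ∀ x : Fin 3 → R, ϖ ^ n • x ∈ S := by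
    intro x
    rw [← Submodule.Quotient.mk_eq_zero, Submodule.Quotient.mk_smul]
    exact kill _
  have hA : Ideal.span {ϖ ^ n} • (⊤ : Submodule R (Fin 3 → R)) ≤ S := by
    rw [Submodule.smul_le]
    intro r hr x _
    obtain ⟨c, rfl⟩ := Ideal.mem_span_singleton.mp hr
    rw [mul_comm, mul_smul]
    exact S.smul_mem _ (killS x)
  refine ⟨hA, ?_⟩
  -- pass to M₂
  set S' : Submodule R (Fin 2 → R) := S.map psi with hS'
  have hker : LinearMap.ker (psi (R := R)) ≤ S := by
    rw [psi_ker, Submodule.span_singleton_le_iff_mem]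
    exact h1
  have hS : S'.comap psi = S := by
    rw [hS', Submodule.comap_map_eq, sup_eq_left.mpr hker]
  have kill' : ∀ y : Fin 2 → R, ϖ ^ n • y ∈ S' := by
    intro y
    obtain ⟨x, rfl⟩ := psi_surj y
    rw [← map_smul]
    exact Submodule.mem_map_of_mem (killS x)
  have hfr : Module.finrank R S' = Module.finrank R (Fin 2 → R) := by
    apply le_antisymm (Submodule.finrank_le S')
    let g : (Fin 2 → R) →ₗ[R] S' :=
      { toFun := fun y => ⟨ϖ ^ n • y, kill' y⟩
        map_add' := fun x y => by ext1; simp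
        map_smul' := fun r y => by ext1; exact smul_comm _ _ _ }
    have hg : Function.Injective g := by
      intro x y hxy
      have : ϖ ^ n • x = ϖ ^ n • y := congrArg Subtype.val hxy
      exact smul_right_injective _ (pow_ne_zero n hne) this
    exact LinearMap.finrank_le_finrank_of_injective hg
  -- equivalence of quotients
  let φ : (Fin 3 → R) →ₗ[R] ((Fin 2 → R) ⧸ S') := S'.mkQ ∘ₗ psi
  have hφs : Function.Surjective φ := (Submodule.mkQ_surjective S').comp psi_surj
  have hφk : S = LinearMap.ker φ := by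
    rw [LinearMap.ker_comp, Submodule.ker_mkQ, hS]
  let E : ((Fin 3 → R) ⧸ S) ≃ₗ[R] ((Fin 2 → R) ⧸ S') :=
    (Submodule.quotEquivOfEq _ _ hφk).trans (LinearMap.quotKerEquivOfSurjective φ hφs)
  have hlen0 : Module.length R ((Fin 2 → R) ⧸ S') = ((m + n : ℕ) : ℕ∞) := by
    rw [← E.length_eq, e.length_eq, Module.length_prod]
    have hp : ∀ j : ℕ, Ideal.span {ϖ ^ j} = IsLocalRing.maximalIdeal R ^ j := by
      intro j
      rw [hϖ.maximalIdeal_eq, Ideal.span_singleton_pow]
    rw [hp m, hp n, IsDiscreteValuationRing.length_quotient_pow_maximalIdeal,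
      IsDiscreteValuationRing.length_quotient_pow_maximalIdeal]
    push_cast
    rfl
  obtain ⟨b', ab, nn, hab, hlen, _⟩ := CrimpDisc.snf_dvr ϖ hϖ (Pi.basisFun R (Fin 2)) S' hfr
  have hsum : nn 0 + nn 1 = m + n := by
    rw [hlen0, Fin.sum_univ_two] at hlen
    exact (Nat.cast_inj.mp hlen).symm
  have hle : ∀ i, nn i ≤ n := by
    intro i
    have h := repr_sub' S' b' ab (fun i => ϖ ^ nn i) hab ⟨ϖ ^ n • b' i, kill' _⟩ i
    simp only [map_smul, Basis.repr_self, Finsupp.smul_apply, Finsupp.single_eq_same,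
      smul_eq_mul, mul_one] at h
    exact (pow_dvd_pow_iff hne hnu).mp (Dvd.intro_left _ h.symm)
  have hmax : n ≤ max (nn 0) (nn 1) := by
    set N := max (nn 0) (nn 1) with hN
    have hk2 : ∀ y : Fin 2 → R, ϖ ^ N • y ∈ S' := by
      intro y
      rw [← b'.sum_repr y, Finset.smul_sum]
      apply Submodule.sum_mem
      intro j _
      have hj : nn j ≤ N := by
        have : j = 0 ∨ j = 1 := by omega
        rcases this with rfl | rfl
        · exact le_max_left _ _
        · exact le_max_right _ _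
      obtain ⟨d, hd⟩ := Nat.exists_eq_add_of_le hj
      have : ϖ ^ N • (b'.repr y j • b' j) = (ϖ ^ d * b'.repr y j) • ((ab j : S') : Fin 2 → R) := by
        rw [hab, hd, pow_add, smul_smul, smul_smul]
        congr 1
        ring
      rw [this]
      exact S'.smul_mem _ (ab j).2
    have hk3 : ∀ q : (Fin 3 → R) ⧸ S, ϖ ^ N • q = 0 := by
      intro q
      obtain ⟨x, rfl⟩ := Submodule.Quotient.mk_surjective _ q
      rw [← Submodule.Quotient.mk_smul, Submodule.Quotient.mk_eq_zero, ← hS, Submodule.mem_comap,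
        map_smul]
      exact hk2 _
    have h4 : ϖ ^ N • e.symm (0, Ideal.Quotient.mk _ 1) = 0 := hk3 _
    have h5 := congrArg e h4
    rw [map_smul, e.apply_symm_apply, map_zero] at h5
    have h6 : ϖ ^ N • (Ideal.Quotient.mk (Ideal.span {ϖ ^ n}) 1) = 0 := congrArg Prod.snd h5
    rw [← Ideal.Quotient.mk_eq_mk, ← Submodule.Quotient.mk_smul, Ideal.Quotient.mk_eq_mk,
      Ideal.Quotient.eq_zero_iff_mem, Ideal.mem_span_singleton, smul_eq_mul, mul_one] at h6
    exact (pow_dvd_pow_iff hne hnu).mp h6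
  obtain ⟨i₁, i₀, hi, hm1, hn0⟩ : ∃ i₁ i₀ : Fin 2, i₁ ≠ i₀ ∧ nn i₁ = m ∧ nn i₀ = n := by
    have h0 := hle 0
    have h1' := hle 1
    by_cases hc : nn 0 = n
    · exact ⟨1, 0, by decide, by omega, hc⟩
    · refine ⟨0, 1, by decide, ?_, ?_⟩
      · rcases max_cases (nn 0) (nn 1) with ⟨h, _⟩ | ⟨h, _⟩ <;> omega
      · rcases max_cases (nn 0) (nn 1) with ⟨h, _⟩ | ⟨h, _⟩ <;> omega
  have hcases : ∀ j : Fin 2, j = i₁ ∨ j = i₀ := by
    intro j
    omega
  -- structure of S'
  have hS'eq : S' = Submodule.span R {ϖ ^ m • b' i₁} ⊔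
      Ideal.span {ϖ ^ n} • (⊤ : Submodule R (Fin 2 → R)) := by
    apply le_antisymm
    · intro y hy
      have : y = ∑ j, ab.repr ⟨y, hy⟩ j • ((ab j : S') : Fin 2 → R) := by
        conv_lhs => rw [show y = ((⟨y, hy⟩ : S') : Fin 2 → R) from rfl, ← ab.sum_repr ⟨y, hy⟩]
        rw [AddSubmonoidClass.coe_finset_sum]
        rfl
      rw [this]
      apply Submodule.sum_mem
      intro j _
      apply Submodule.smul_mem
      rcases hcases j with rfl | rfl
      · rw [hab, hm1]
        exact Submodule.mem_sup_left (Submodule.mem_span_singleton_self _)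
      · rw [hab, hn0]
        exact Submodule.mem_sup_right
          (Submodule.smul_mem_smul (Ideal.mem_span_singleton_self _) Submodule.mem_top)
    · apply sup_le
      · rw [Submodule.span_singleton_le_iff_mem, ← hm1, ← hab]
        exact (ab i₁).2
      · rw [Submodule.smul_le]
        intro r hr x _
        obtain ⟨c, rfl⟩ := Ideal.mem_span_singleton.mp hr
        rw [mul_comm, mul_smul]
        exact S'.smul_mem _ (kill' x)
  obtain ⟨f, hf⟩ := psi_surj (b' i₁)
  refine ⟨f, ?_, ?_⟩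
  · intro hmem
    obtain ⟨a, ha, y, hy, hay⟩ := Submodule.mem_sup.mp hmem
    have ha0 : psi a = 0 := by
      rw [← LinearMap.mem_ker, psi_ker]
      exact ha
    have hy1 : psi y = b' i₁ := by
      rw [← hf, ← hay, map_add, ha0, zero_add]
    have hy2 : psi y ∈ Ideal.span {ϖ} • (⊤ : Submodule R (Fin 2 → R)) := by
      have := Submodule.mem_map_of_mem (f := psi) hy
      rw [Submodule.map_smul'', Submodule.map_top, LinearMap.range_eq_top.mpr psi_surj] at this
      exact this
    have h3 := repr_mem_of_mem_smul b' _ _ hy2 i₁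
    rw [hy1, Basis.repr_self, Finsupp.single_eq_same, Ideal.mem_span_singleton] at h3
    exact hnu (isUnit_of_dvd_one h3)
  · set T : Submodule R (Fin 3 → R) := Submodule.span R {ϖ ^ m • f} ⊔
      Ideal.span {ϖ ^ n} • (⊤ : Submodule R (Fin 3 → R)) with hT
    have hmapT : T.map psi = S' := by
      rw [hT, Submodule.map_sup, Submodule.map_span, Set.image_singleton, map_smul, hf,
        Submodule.map_smul'', Submodule.map_top, LinearMap.range_eq_top.mpr psi_surj, ← hS'eq]
    have : S = T ⊔ Submodule.span R {(1 : Fin 3 → R)} := by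
      rw [← hS, ← hmapT, Submodule.comap_map_eq, psi_ker]
    rw [this, hT, Submodule.span_insert]
    ac_rfl

end Groth.Agent.Helper6.Crimp3
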