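import Mathlib
import Groth.Agent.Helper6.Crimp3

universe u v

namespace Groth.Agent.Helper6.Crimp3

open Module

theorem mem_smul_top_iff {R : Type u} [CommRing R] {M : Type v} [AddCommGroup M] [Module R M]
    (r : R) (z : M) : z ∈ Ideal.span {r} • (⊤ : Submodule R M) ↔ ∃ u : M, z = r • u := by
  constructor
  · intro hz
    refine Submodule.smul_induction_on hz ?_ ?_
    · intro s hs x _
      obtain ⟨c, rfl⟩ := Ideal.mem_span_singleton.mp hs
      exact ⟨c • x, by rw [smul_smul]⟩
    · rintro x y ⟨u, rfl⟩ ⟨v, rfl⟩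
      exact ⟨u + v, by rw [smul_add]⟩
  · rintro ⟨u, rfl⟩
    exact Submodule.smul_mem_smul (Ideal.mem_span_singleton_self _) Submodule.mem_top

theorem mem_S_iff {R : Type u} [CommRing R] {M : Type v} [AddCommGroup M] [Module R M]
    (r : R) (e g x : M) :
    x ∈ Submodule.span R {e, g} ⊔ Ideal.span {r} • (⊤ : Submodule R M) ↔
      ∃ (a b : R) (u : M), x = a • e + b • g + r • u := by
  constructor
  · intro hx
    obtain ⟨y, hy, z, hz, rfl⟩ := Submodule.mem_sup.mp hx
    obtain ⟨a, b, rfl⟩ := Submodule.mem_span_pair.mp hy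
    obtain ⟨u, rfl⟩ := (mem_smul_top_iff r z).mp hz
    exact ⟨a, b, u, rfl⟩
  · rintro ⟨a, b, u, rfl⟩
    refine Submodule.add_mem_sup (Submodule.mem_span_pair.mpr ⟨a, b, rfl⟩) ?_
    exact (mem_smul_top_iff r _).mpr ⟨u, rfl⟩

theorem main2 {R : Type u} [CommRing R] [IsDomain R] [IsDiscreteValuationRing R] (ϖ : R)
    (hϖ : Irreducible ϖ) (m n : ℕ) (hmn : m ≤ n) (hn : n ≤ 2 * m) (f : Fin 3 → R)
    (hf : f ∉ Submodule.span R {(1 : Fin 3 → R)} ⊔ Ideal.span {ϖ} • (⊤ : Submodule R (Fin 3 → R)))
    (S : Submodule R (Fin 3 → R))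
    (hS : S = Submodule.span R {(1 : Fin 3 → R), ϖ ^ m • f} ⊔
        Ideal.span {ϖ ^ n} • (⊤ : Submodule R (Fin 3 → R))) :
    (∀ x ∈ S, ∀ y ∈ S, x * y ∈ S) ∧
    Nonempty (((Fin 3 → R) ⧸ S) ≃ₗ[R]
      ((R ⧸ Ideal.span {ϖ ^ m}) × (R ⧸ Ideal.span {ϖ ^ n}))) := by
  classical
  have hnu : ¬ IsUnit ϖ := hϖ.not_isUnit
  constructor
  · intro x hx y hy
    rw [hS, mem_S_iff] at hx hy ⊢
    obtain ⟨a, b, u, rfl⟩ := hx
    obtain ⟨a', b', u', rfl⟩ := hy
    obtain ⟨d, hd⟩ := Nat.exists_eq_add_of_le hn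
    have hpow : ϖ ^ m * ϖ ^ m = ϖ ^ n * ϖ ^ d := by
      rw [← pow_add, ← pow_add]
      congr 1
      omega
    refine ⟨a * a', a * b' + a' * b, a • u' + a' • u + b • ((ϖ ^ m • f) * u') +
      b' • ((ϖ ^ m • f) * u) + ϖ ^ n • (u * u') + (b * b' * ϖ ^ d) • (f * f), ?_⟩
    ext i
    simp only [Pi.add_apply, Pi.mul_apply, Pi.smul_apply, Pi.one_apply, smul_eq_mul]
    linear_combination (b * b' * f i * f i) * hpow
  · -- the linear map
    set y := psi f with hy
    have hunit : IsUnit (y 0) ∨ IsUnit (y 1) := by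
      by_contra hcon
      rw [not_or] at hcon
      have h0 : y 0 ∈ IsLocalRing.maximalIdeal R := (IsLocalRing.mem_maximalIdeal _).mpr hcon.1
      have h1 : y 1 ∈ IsLocalRing.maximalIdeal R := (IsLocalRing.mem_maximalIdeal _).mpr hcon.2
      rw [hϖ.maximalIdeal_eq, Ideal.mem_span_singleton] at h0 h1
      obtain ⟨c0, hc0⟩ := h0
      obtain ⟨c1, hc1⟩ := h1
      obtain ⟨w, hw⟩ := psi_surj (![c0, c1] : Fin 2 → R)
      have : f - ϖ • w ∈ LinearMap.ker (psi (R := R)) := by
        rw [LinearMap.mem_ker, map_sub, map_smul, hw, sub_eq_zero]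
        ext i
        fin_cases i
        · simpa using hc0
        · simpa using hc1
      rw [psi_ker] at this
      apply hf
      have h2 : f = (f - ϖ • w) + ϖ • w := by abel
      rw [h2]
      exact Submodule.add_mem_sup this
        (Submodule.smul_mem_smul (Ideal.mem_span_singleton_self _) Submodule.mem_top)
    obtain ⟨p, q, hpq⟩ : ∃ p q : R, p * y 0 + q * y 1 = 1 := by
      rcases hunit with h | h
      · obtain ⟨v, hv⟩ := h.exists_left_inv
        exact ⟨v, 0, by rw [hv]; ring⟩
      · obtain ⟨v, hv⟩ := h.exists_left_inv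
        exact ⟨0, v, by rw [hv]; ring⟩
    let cA : (Fin 2 → R) →ₗ[R] R :=
      { toFun := fun z => p * z 0 + q * z 1
        map_add' := fun z z' => by simp; ring
        map_smul' := fun r z => by simp; ring }
    let cB : (Fin 2 → R) →ₗ[R] R :=
      { toFun := fun z => - y 1 * z 0 + y 0 * z 1
        map_add' := fun z z' => by simp; ring
        map_smul' := fun r z => by simp; ring }
    let w : Fin 2 → R := ![-q, p]
    have hrec : ∀ z : Fin 2 → R, z = cA z • y + cB z • w := by
      intro z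
      ext i
      fin_cases i
      · simp [cA, cB, w]
        linear_combination (- z 0) * hpq
      · simp [cA, cB, w]
        linear_combination (- z 1) * hpq
    have hAy : cA y = 1 := hpq
    have hBy : cB y = 0 := by simp [cB]; ring
    have hAw : cA w = 0 := by simp [cA, w]; ring
    have hBw : cB w = 1 := by
      simp [cB, w]
      linear_combination hpq
    let Φ : (Fin 3 → R) →ₗ[R] ((R ⧸ Ideal.span {ϖ ^ m}) × (R ⧸ Ideal.span {ϖ ^ n})) :=
      (((Ideal.span {ϖ ^ m}).mkQ ∘ₗ cA).prod ((Ideal.span {ϖ ^ n}).mkQ ∘ₗ cB)) ∘ₗ psi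
    have hΦ : ∀ x, Φ x = (Ideal.Quotient.mk _ (cA (psi x)), Ideal.Quotient.mk _ (cB (psi x))) :=
      fun x => rfl
    have hsurj : Function.Surjective Φ := by
      rintro ⟨a, b⟩
      obtain ⟨a, rfl⟩ := Ideal.Quotient.mk_surjective a
      obtain ⟨b, rfl⟩ := Ideal.Quotient.mk_surjective b
      obtain ⟨x, hx⟩ := psi_surj (a • y + b • w)
      refine ⟨x, ?_⟩
      have hA' : cA (a • y + b • w) = a := by
        rw [map_add, map_smul, map_smul, hAy, hAw]
        simp
      have hB' : cB (a • y + b • w) = b := by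
        rw [map_add, map_smul, map_smul, hBy, hBw]
        simp
      rw [hΦ, hx, hA', hB']
    have hker : LinearMap.ker Φ = S := by
      apply le_antisymm
      · intro x hx
        rw [LinearMap.mem_ker, hΦ, Prod.mk_eq_zero, Ideal.Quotient.eq_zero_iff_mem,
          Ideal.Quotient.eq_zero_iff_mem, Ideal.mem_span_singleton, Ideal.mem_span_singleton] at hx
        obtain ⟨⟨c, hc⟩, ⟨d, hd⟩⟩ := hx
        obtain ⟨w', hw'⟩ := psi_surj w
        have hk : x - (c • (ϖ ^ m • f) + ϖ ^ n • (d • w')) ∈ LinearMap.ker (psi (R := R)) := by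
          rw [LinearMap.mem_ker, map_sub, map_add, map_smul, map_smul, map_smul, map_smul, hw',
            ← hy, sub_eq_zero]
          conv_lhs => rw [hrec (psi x), hc, hd]
          rw [smul_smul, smul_smul, mul_comm]
        rw [psi_ker, Submodule.mem_span_singleton] at hk
        obtain ⟨a, ha⟩ := hk
        rw [hS, mem_S_iff]
        refine ⟨a, c, d • w', ?_⟩
        rw [ha]
        abel
      · rw [hS]
        apply sup_le
        · rw [Submodule.span_le]
          rintro x (rfl | hx)
          · have : psi (1 : Fin 3 → R) = 0 := by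
              rw [← LinearMap.mem_ker, psi_ker]
              exact Submodule.mem_span_singleton_self _
            rw [SetLike.mem_coe, LinearMap.mem_ker, hΦ, this, map_zero, map_zero]
            simp
          · obtain rfl : x = ϖ ^ m • f := hx
            have hA' : cA (psi (ϖ ^ m • f)) = ϖ ^ m := by
              rw [map_smul, ← hy, map_smul, hAy, smul_eq_mul, mul_one]
            have hB' : cB (psi (ϖ ^ m • f)) = 0 := by
              rw [map_smul, ← hy, map_smul, hBy, smul_zero]
            rw [SetLike.mem_coe, LinearMap.mem_ker, hΦ, hA', hB', Prod.mk_eq_zero,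
              Ideal.Quotient.eq_zero_iff_mem, Ideal.Quotient.eq_zero_iff_mem,
              Ideal.mem_span_singleton, Ideal.mem_span_singleton]
            exact ⟨dvd_refl _, dvd_zero _⟩
        · intro x hx
          obtain ⟨u, rfl⟩ := (mem_smul_top_iff _ _).mp hx
          have hA' : cA (psi (ϖ ^ n • u)) = ϖ ^ n * cA (psi u) := by
            rw [map_smul, map_smul, smul_eq_mul]
          have hB' : cB (psi (ϖ ^ n • u)) = ϖ ^ n * cB (psi u) := by
            rw [map_smul, map_smul, smul_eq_mul]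
          rw [LinearMap.mem_ker, hΦ, hA', hB', Prod.mk_eq_zero,
            Ideal.Quotient.eq_zero_iff_mem, Ideal.Quotient.eq_zero_iff_mem,
            Ideal.mem_span_singleton, Ideal.mem_span_singleton]
          exact ⟨Dvd.dvd.mul_right (pow_dvd_pow _ hmn) _, Dvd.intro _ rfl⟩
    exact ⟨(Submodule.quotEquivOfEq _ _ hker.symm).trans (LinearMap.quotKerEquivOfSurjective Φ hsurj)⟩

end Groth.Agent.Helper6.Crimp3
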