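import Mathlib
import Groth.Agent.Helper6.CrimpDisc
import Groth.Agent.Helper6.Crimp3b

universe u v

namespace Groth.Agent.Helper6.Crimp2

open Module Polynomial

section quad
variable {R : Type u} [CommRing R] [Nontrivial R]

/-- The basis `1, root` of `AdjoinRoot (X^2 - C c)`. -/
noncomputable def quadBasis (c : R) : Basis (Fin 2) R (AdjoinRoot (X ^ 2 - C c)) :=
  (AdjoinRoot.powerBasis' (monic_X_pow_sub_C c two_ne_zero)).basis.reindex
    (finCongr (natDegree_X_pow_sub_C (n := 2) (r := c)))

theorem quadBasis_apply (c : R) (i : Fin 2) :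
    quadBasis c i = AdjoinRoot.root (X ^ 2 - C c) ^ (i : ℕ) := by
  unfold quadBasis
  rw [Basis.reindex_apply, PowerBasis.coe_basis]
  rfl

theorem adjoinRoot_equiv {A : Type v} [CommRing A] [Algebra R A] (w : Basis (Fin 2) R A)
    (h0 : w 0 = 1) (c : R) (h1 : w 1 * w 1 = algebraMap R A c) :
    Nonempty (A ≃ₐ[R] AdjoinRoot (X ^ 2 - C c)) := by
  have hev : (X ^ 2 - C c : R[X]).eval₂ (Algebra.ofId R A : R →+* A) (w 1) = 0 := by
    rw [eval₂_sub, eval₂_pow, eval₂_X, eval₂_C, pow_two, h1]
    exact sub_self _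
  let F := AdjoinRoot.liftAlgHom (X ^ 2 - C c) (Algebra.ofId R A) (w 1) hev
  have hF : ∀ i, F (quadBasis c i) = w i := by
    intro i
    rw [quadBasis_apply, map_pow, AdjoinRoot.liftAlgHom_root]
    fin_cases i
    · simp [h0]
    · simp
  have hFe : F.toLinearMap = ((quadBasis c).equiv w (Equiv.refl _)).toLinearMap := by
    apply (quadBasis c).ext
    intro i
    rw [AlgHom.toLinearMap_apply, hF, LinearEquiv.coe_coe, Basis.equiv_apply]
    rfl
  have hbij : Function.Bijective F := by
    have : (F : AdjoinRoot (X ^ 2 - C c) → A) = ((quadBasis c).equiv w (Equiv.refl _)) := by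
      funext x
      exact LinearMap.congr_fun hFe x
    rw [this]
    exact LinearEquiv.bijective _
  exact ⟨(AlgEquiv.ofBijective F hbij).symm⟩
end quad

section discr
variable {R : Type u} [CommRing R] {A : Type v} [CommRing A] [Algebra R A]
  (w : Basis (Fin 2) R A) (h0 : w 0 = 1) (r : R) (h1 : w 1 * w 1 = algebraMap R A r)

theorem trace_formula (x : A) :
    Algebra.trace R A x = w.repr (x * w 0) 0 + w.repr (x * w 1) 1 := by
  rw [Algebra.trace_eq_matrix_trace w, Matrix.trace_fin_two]
  simp [Algebra.leftMulMatrix_eq_repr_mul]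

include h0 in
theorem trace_one' : Algebra.trace R A (1 : A) = 2 := by
  rw [trace_formula w, one_mul, one_mul, Basis.repr_self, Basis.repr_self,
    Finsupp.single_eq_same, Finsupp.single_eq_same]
  norm_num

include h0 h1 in
theorem trace_t : Algebra.trace R A (w 1) = 0 := by
  rw [trace_formula w, h1, h0, mul_one, Basis.repr_self, Algebra.algebraMap_eq_smul_one, ← h0,
    map_smul, Basis.repr_self]
  simp

include h0 h1 in
theorem trace_tt : Algebra.trace R A (w 1 * w 1) = 2 * r := by
  rw [h1, Algebra.algebraMap_eq_smul_one, map_smul, trace_one' w h0, smul_eq_mul, mul_comm]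

include h0 h1 in
theorem discr_quad : Algebra.discr R w = 4 * r := by
  rw [Algebra.discr_def, Matrix.det_fin_two]
  simp only [Algebra.traceMatrix_apply, Algebra.traceForm_apply]
  rw [trace_tt w h0 r h1, h0, one_mul, one_mul, mul_one, trace_one' w h0, trace_t w h0 r h1]
  ring
end discr

section structure_
variable {R : Type u} [CommRing R] [IsDomain R] [IsDiscreteValuationRing R] (ϖ : R)
  (hϖ : Irreducible ϖ) {St : Type v} [CommRing St] [Algebra R St] (b' : Basis (Fin 2) R St)
  (h0 : b' 0 = 1)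

include h0 in
theorem decomp (x : St) : x = b'.repr x 0 • (1 : St) + b'.repr x 1 • b' 1 := by
  conv_lhs => rw [← b'.sum_repr x, Fin.sum_univ_two, h0]

include h0 in
theorem coord_ker : LinearMap.ker (b'.coord 1) = Submodule.span R {(1 : St)} := by
  ext x
  rw [LinearMap.mem_ker, Basis.coord_apply, Submodule.mem_span_singleton]
  constructor
  · intro hx
    refine ⟨b'.repr x 0, ?_⟩
    conv_rhs => rw [decomp b' h0 x, hx, zero_smul, add_zero]
  · rintro ⟨a, rfl⟩
    rw [map_smul, ← h0, Basis.repr_self]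
    simp

include h0 in
theorem comap_coord (n : ℕ) :
    Submodule.comap (b'.coord 1) (Ideal.span {ϖ ^ n}) =
      Submodule.span R {(1 : St)} ⊔ Ideal.span {ϖ ^ n} • (⊤ : Submodule R St) := by
  apply le_antisymm
  · intro x hx
    rw [Submodule.mem_comap, Basis.coord_apply, Ideal.mem_span_singleton] at hx
    obtain ⟨c, hc⟩ := hx
    rw [decomp b' h0 x]
    refine Submodule.add_mem_sup (Submodule.smul_mem _ _ (Submodule.mem_span_singleton_self _)) ?_
    rw [hc, mul_smul]
    exact Submodule.smul_mem_smul (Ideal.mem_span_singleton_self _) Submodule.mem_top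
  · apply sup_le
    · rw [← coord_ker b' h0]
      intro x hx
      rw [Submodule.mem_comap, LinearMap.mem_ker.mp hx]
      exact Submodule.zero_mem _
    · intro x hx
      obtain ⟨u, rfl⟩ := (Crimp3.mem_smul_top_iff _ _).mp hx
      rw [Submodule.mem_comap, map_smul, smul_eq_mul]
      exact Ideal.mul_mem_right _ _ (Ideal.mem_span_singleton_self _)

include hϖ h0 in
theorem structure_of_rank2 (S : Subalgebra R St) (bS : Basis (Fin 2) R S) :
    ∃ n : ℕ, Subalgebra.toSubmodule S =
      Submodule.span R {(1 : St)} ⊔ Ideal.span {ϖ ^ n} • (⊤ : Submodule R St) := by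
  set N := Subalgebra.toSubmodule S with hN
  set I : Ideal R := N.map (b'.coord 1) with hI
  have hker : LinearMap.ker (b'.coord 1) ≤ N := by
    rw [coord_ker b' h0, Submodule.span_singleton_le_iff_mem]
    exact S.one_mem
  have hcm : N = Submodule.comap (b'.coord 1) I := by
    rw [hI, Submodule.comap_map_eq, sup_eq_left.mpr hker]
  have hIne : I ≠ ⊥ := by
    intro hbot
    have hle : N ≤ Submodule.span R {(1 : St)} := by
      rw [← coord_ker b' h0]
      intro x hx
      rw [LinearMap.mem_ker]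
      have : b'.coord 1 x ∈ I := Submodule.mem_map_of_mem hx
      rw [hbot] at this
      exact this
    have h2 : Module.finrank R N = 2 := by
      rw [(Subalgebra.toSubmoduleEquiv S).finrank_eq, Module.finrank_eq_card_basis bS]
      rfl
    have h3 : Module.finrank R N ≤ 1 := by
      calc Module.finrank R N ≤ Module.finrank R (Submodule.span R {(1 : St)}) :=
            Submodule.finrank_mono hle
        _ ≤ 1 := by
            have := finrank_span_le_card (R := R) ({(1 : St)} : Set St)
            simpa using this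
    omega
  obtain ⟨n, hn⟩ := IsDiscreteValuationRing.ideal_eq_span_pow_irreducible hIne hϖ
  refine ⟨n, ?_⟩
  rw [hcm, hn, comap_coord ϖ b' h0]

include hϖ h0 in
theorem basis_of_structure (S : Subalgebra R St) (n : ℕ)
    (hS : Subalgebra.toSubmodule S =
      Submodule.span R {(1 : St)} ⊔ Ideal.span {ϖ ^ n} • (⊤ : Submodule R St)) :
    ∃ ab' : Basis (Fin 2) R S, ∀ i, (ab' i : St) = (![1, ϖ ^ n] : Fin 2 → R) i • b' i := by
  set c : Fin 2 → R := ![1, ϖ ^ n] with hc
  have hcne : ∀ i, c i ≠ 0 := by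
    intro i
    fin_cases i
    · simp [hc]
    · simpa [hc] using pow_ne_zero n hϖ.ne_zero
  let D : St →ₗ[R] St := b'.constr R (fun i => c i • b' i)
  have hDb : ∀ i, D (b' i) = c i • b' i := fun i => b'.constr_basis R _ i
  have hDx : ∀ x, D x = ∑ i, (b'.repr x i * c i) • b' i := by
    intro x
    conv_lhs => rw [← b'.sum_repr x, map_sum]
    apply Finset.sum_congr rfl
    intro i _
    rw [map_smul, hDb, smul_smul]
  have hDinj : Function.Injective D := by
    rw [← LinearMap.ker_eq_bot, LinearMap.ker_eq_bot']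
    intro x hx
    rw [hDx] at hx
    have h2 : ∀ i, b'.repr x i = 0 := by
      intro i
      have := congrArg (fun z => b'.repr z i) hx
      simp only [Basis.repr_sum_self, map_zero, Finsupp.zero_apply] at this
      exact (mul_eq_zero.mp this).resolve_right (hcne i)
    apply b'.repr.injective
    ext i
    rw [h2 i, map_zero, Finsupp.zero_apply]
  have hrange : LinearMap.range D = Subalgebra.toSubmodule S := by
    rw [hS]
    apply le_antisymm
    · rintro _ ⟨x, rfl⟩
      rw [hDx, Fin.sum_univ_two]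
      refine Submodule.add_mem_sup ?_ ?_
      · rw [h0]
        exact Submodule.smul_mem _ _ (Submodule.mem_span_singleton_self _)
      · have : c 1 = ϖ ^ n := by simp [hc]
        rw [this, mul_comm, mul_smul]
        exact Submodule.smul_mem_smul (Ideal.mem_span_singleton_self _) Submodule.mem_top
    · apply sup_le
      · rw [Submodule.span_singleton_le_iff_mem]
        refine ⟨b' 0, ?_⟩
        rw [hDb, h0]
        simp [hc]
      · intro x hx
        obtain ⟨u, rfl⟩ := (Crimp3.mem_smul_top_iff _ _).mp hx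
        refine ⟨(ϖ ^ n * b'.repr u 0) • b' 0 + b'.repr u 1 • b' 1, ?_⟩
        rw [map_add, map_smul, map_smul, hDb, hDb]
        have h1 : c 1 = ϖ ^ n := by simp [hc]
        have h0' : c 0 = 1 := by simp [hc]
        rw [h1, h0', one_smul]
        conv_rhs => rw [← b'.sum_repr u, Fin.sum_univ_two, smul_add]
        rw [mul_smul, smul_comm (b'.repr u 1) (ϖ ^ n)]
  let E : St ≃ₗ[R] S := (LinearEquiv.ofInjective D hDinj).trans
    ((LinearEquiv.ofEq _ _ hrange).trans (Subalgebra.toSubmoduleEquiv S))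
  refine ⟨b'.map E, ?_⟩
  intro i
  rw [Basis.map_apply]
  exact hDb i
end structure_

theorem double_generic {R : Type u} [CommRing R] [IsDomain R] [IsDiscreteValuationRing R] (ϖ : R)
    (hϖ : Irreducible ϖ) (h2 : IsUnit (2 : R)) {St : Type v} [CommRing St] [Algebra R St]
    (b' : Basis (Fin 2) R St) (h0 : b' 0 = 1) (a : ℕ)
    (ht : b' 1 * b' 1 = algebraMap R St (ϖ ^ a)) (b : ℕ) (S : Subalgebra R St) :
    ((∃ bS : Basis (Fin 2) R S,
        Ideal.span {Algebra.discr R ⇑bS} = Ideal.span {ϖ ^ b}) ↔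
      ∃ n : ℕ, b = 2 * n + a ∧ Subalgebra.toSubmodule S =
        Submodule.span R {(1 : St)} ⊔ Ideal.span {ϖ ^ n} • (⊤ : Submodule R St)) ∧
    (∀ n : ℕ, Subalgebra.toSubmodule S =
        Submodule.span R {(1 : St)} ⊔ Ideal.span {ϖ ^ n} • (⊤ : Submodule R St) →
      Nonempty (S ≃ₐ[R] AdjoinRoot (X ^ 2 - C (ϖ ^ (2 * n + a))))) := by
  classical
  have hne : ϖ ≠ 0 := hϖ.ne_zero
  have hnu : ¬ IsUnit ϖ := hϖ.not_isUnit
  have h4 : IsUnit (4 : R) := by
    have : (4 : R) = 2 * 2 := by norm_num
    rw [this]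
    exact h2.mul h2
  -- discriminant of the adapted basis
  have hdisc : ∀ (n : ℕ) (ab' : Basis (Fin 2) R S),
      (∀ i, (ab' i : St) = (![1, ϖ ^ n] : Fin 2 → R) i • b' i) →
      Associated (Algebra.discr R ⇑ab') (ϖ ^ (2 * n + a)) := by
    intro n ab' hab
    have hcne : ∀ i, (![1, ϖ ^ n] : Fin 2 → R) i ≠ 0 := by
      intro i
      fin_cases i
      · simp
      · simpa using pow_ne_zero n hne
    rw [CrimpDisc.discr_sub S b' ab' _ hcne hab, discr_quad b' h0 _ ht, Fin.prod_univ_two]
    have : ((![1, ϖ ^ n] : Fin 2 → R) 0 * (![1, ϖ ^ n] : Fin 2 → R) 1) ^ 2 * (4 * ϖ ^ a) =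
        4 * ϖ ^ (2 * n + a) := by
      simp only [Matrix.cons_val_zero, Matrix.cons_val_one]
      ring
    rw [this]
    exact associated_unit_mul_left _ _ h4
  refine ⟨⟨?_, ?_⟩, ?_⟩
  · rintro ⟨bS, hbS⟩
    obtain ⟨n, hn⟩ := structure_of_rank2 ϖ hϖ b' h0 S bS
    obtain ⟨ab', hab⟩ := basis_of_structure ϖ hϖ b' h0 S n hn
    refine ⟨n, ?_, hn⟩
    have h1 : Associated (Algebra.discr R ⇑bS) (ϖ ^ b) :=
      Ideal.span_singleton_eq_span_singleton.mp hbS
    have h3 : Associated (ϖ ^ b) (ϖ ^ (2 * n + a)) :=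
      h1.symm.trans ((CrimpDisc.discr_basis_assoc bS ab').trans (hdisc n ab' hab))
    apply le_antisymm
    · exact (pow_dvd_pow_iff hne hnu).mp h3.dvd
    · exact (pow_dvd_pow_iff hne hnu).mp h3.symm.dvd
  · rintro ⟨n, rfl, hn⟩
    obtain ⟨ab', hab⟩ := basis_of_structure ϖ hϖ b' h0 S n hn
    exact ⟨ab', Ideal.span_singleton_eq_span_singleton.mpr (hdisc n ab' hab)⟩
  · intro n hn
    obtain ⟨ab', hab⟩ := basis_of_structure ϖ hϖ b' h0 S n hn
    apply adjoinRoot_equiv ab'
    · apply Subtype.ext
      rw [hab 0, h0]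
      simp
    · apply Subtype.ext
      rw [Subalgebra.coe_mul, hab 1, Subalgebra.coe_algebraMap]
      simp only [Matrix.cons_val_one, Matrix.cons_val_zero]
      rw [smul_mul_smul_comm, ht, ← pow_two, Algebra.smul_def, ← map_mul, ← pow_mul, ← pow_add]
      congr 2
      ring

end Groth.Agent.Helper6.Crimp2
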