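import Mathlib
import Groth.Agent.Helper6.Crimp2

universe u v

namespace Groth.Agent.Helper6.Crimp2

open Module Polynomial

theorem isUnit_two_powerSeries {k : Type u} [Field k] [CharZero k] : IsUnit (2 : PowerSeries k) := by
  rw [PowerSeries.isUnit_iff_constantCoeff, map_ofNat]
  exact isUnit_iff_ne_zero.mpr two_ne_zero

section etale
variable {R : Type u} [CommRing R] (u : R) (hu : 2 * u = 1)

/-- the coordinate change for the basis `1, (1,-1)` of `R × R` -/
def etaleEquiv : (Fin 2 → R) ≃ₗ[R] (Fin 2 → R) where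
  toFun x := ![u * (x 0 + x 1), u * (x 0 - x 1)]
  invFun c := ![c 0 + c 1, c 0 - c 1]
  map_add' x y := by
    ext i; fin_cases i <;> simp <;> ring
  map_smul' r x := by
    ext i; fin_cases i <;> simp <;> ring
  left_inv x := by
    ext i; fin_cases i
    · simp
      linear_combination (x 0) * hu
    · simp
      linear_combination (x 1) * hu
  right_inv c := by
    ext i; fin_cases i
    · simp
      linear_combination (c 0) * hu
    · simp
      linear_combination (c 1) * hu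

noncomputable def etaleBasis : Basis (Fin 2) R (Fin 2 → R) := Basis.ofEquivFun (etaleEquiv u hu)

theorem etaleBasis_zero : etaleBasis u hu 0 = 1 := by
  rw [etaleBasis, Basis.coe_ofEquivFun]
  ext i; fin_cases i <;> simp [etaleEquiv]

theorem etaleBasis_one_sq (ϖ : R) :
    etaleBasis u hu 1 * etaleBasis u hu 1 = algebraMap R (Fin 2 → R) (ϖ ^ 0) := by
  rw [etaleBasis, Basis.coe_ofEquivFun]
  ext i; fin_cases i <;> simp [etaleEquiv]
end etale

theorem double_etale {R : Type u} [CommRing R] [IsDomain R] [IsDiscreteValuationRing R] (ϖ : R)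
    (hϖ : Irreducible ϖ) (h2 : IsUnit (2 : R)) (b : ℕ) (S : Subalgebra R (Fin 2 → R)) :
    ((∃ bS : Basis (Fin 2) R S,
        Ideal.span {Algebra.discr R ⇑bS} = Ideal.span {ϖ ^ b}) ↔
      ∃ n : ℕ, b = 2 * n ∧ Subalgebra.toSubmodule S =
        Submodule.span R {(1 : Fin 2 → R)} ⊔ Ideal.span {ϖ ^ n} • (⊤ : Submodule R (Fin 2 → R))) ∧
    (∀ n : ℕ, Subalgebra.toSubmodule S =
        Submodule.span R {(1 : Fin 2 → R)} ⊔ Ideal.span {ϖ ^ n} • (⊤ : Submodule R (Fin 2 → R)) →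
      Nonempty (S ≃ₐ[R] AdjoinRoot (X ^ 2 - C (ϖ ^ (2 * n))))) := by
  obtain ⟨u, hu⟩ := h2.exists_right_inv
  exact double_generic ϖ hϖ h2 (etaleBasis u hu) (etaleBasis_zero u hu) 0
    (etaleBasis_one_sq u hu ϖ) b S

theorem double_ramified {R : Type u} [CommRing R] [IsDomain R] [IsDiscreteValuationRing R] (ϖ : R)
    (hϖ : Irreducible ϖ) (h2 : IsUnit (2 : R)) (b : ℕ)
    (S : Subalgebra R (AdjoinRoot (X ^ 2 - C ϖ))) :
    ((∃ bS : Basis (Fin 2) R S,
        Ideal.span {Algebra.discr R ⇑bS} = Ideal.span {ϖ ^ b}) ↔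
      ∃ n : ℕ, b = 2 * n + 1 ∧ Subalgebra.toSubmodule S =
        Submodule.span R {(1 : AdjoinRoot (X ^ 2 - C ϖ))} ⊔
          Ideal.span {ϖ ^ n} • (⊤ : Submodule R (AdjoinRoot (X ^ 2 - C ϖ)))) ∧
    (∀ n : ℕ, Subalgebra.toSubmodule S =
        Submodule.span R {(1 : AdjoinRoot (X ^ 2 - C ϖ))} ⊔
          Ideal.span {ϖ ^ n} • (⊤ : Submodule R (AdjoinRoot (X ^ 2 - C ϖ))) →
      Nonempty (S ≃ₐ[R] AdjoinRoot (X ^ 2 - C (ϖ ^ (2 * n + 1))))) := by
  have h0 : quadBasis ϖ 0 = 1 := by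
    rw [quadBasis_apply]
    simp
  have ht : quadBasis ϖ 1 * quadBasis ϖ 1 = algebraMap R (AdjoinRoot (X ^ 2 - C ϖ)) (ϖ ^ 1) := by
    rw [quadBasis_apply, pow_one]
    have h := AdjoinRoot.eval₂_root (X ^ 2 - C ϖ : R[X])
    rw [eval₂_sub, eval₂_pow, eval₂_X, eval₂_C, sub_eq_zero] at h
    rw [AdjoinRoot.algebraMap_eq]
    simpa [pow_two] using h
  exact double_generic ϖ hϖ h2 (quadBasis ϖ) h0 1 ht b S

end Groth.Agent.Helper6.Crimp2
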