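import Mathlib

set_option autoImplicit false
set_option linter.style.haveILetI false
set_option linter.unusedSectionVars false

namespace Groth.Agent.Helper6.CycLab

universe u v

section Main

open scoped Classical

variable {V : Type u} [Fintype V]

/-- The total sum of a labelling over all pairs through a vertex. -/
noncomputable def tsum {B : Type*} [AddCommMonoid B] (x : Sym2 V → B) (v : V) : B :=
  ∑ w : V, x s(v, w)

theorem tsum_add {B : Type*} [AddCommMonoid B] (x y : Sym2 V → B) (v : V) :
    tsum (x + y) v = tsum x v + tsum y v := by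
  unfold tsum
  simp [Finset.sum_add_distrib]

theorem tsum_sub {B : Type*} [AddCommGroup B] (x y : Sym2 V → B) (v : V) :
    tsum (x - y) v = tsum x v - tsum y v := by
  unfold tsum
  simp [Finset.sum_sub_distrib]

theorem tsum_smul {A : Type*} [AddCommGroup A] (y : Sym2 V → ℤ) (a : A) (v : V) :
    tsum (fun e => y e • a) v = tsum y v • a := by
  unfold tsum
  rw [Finset.sum_smul]

/-- Indicator of an edge. -/
noncomputable def ind (a b : V) : Sym2 V → ℤ := fun e => if e = s(a, b) then 1 else 0

theorem tsum_ind {a b : V} (hab : a ≠ b) (v : V) :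
    tsum (ind a b) v = (if v = a then 1 else 0) + (if v = b then 1 else 0) := by
  unfold tsum ind
  by_cases h1 : v = a
  · subst h1
    rw [if_pos rfl, if_neg hab, add_zero]
    rw [Finset.sum_eq_single b]
    · simp
    · intro w _ hw
      rw [if_neg]
      intro h
      rcases Sym2.eq_iff.1 h with ⟨_, h2⟩ | ⟨h2, _⟩
      · exact hw h2
      · exact hab h2
    · intro h
      exact absurd (Finset.mem_univ _) h
  · by_cases h2 : v = b
    · subst h2
      rw [if_neg h1, if_pos rfl, zero_add]
      rw [Finset.sum_eq_single a]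
      · rw [if_pos Sym2.eq_swap]
      · intro w _ hw
        rw [if_neg]
        intro h
        rcases Sym2.eq_iff.1 h with ⟨h3, _⟩ | ⟨_, h3⟩
        · exact h1 h3
        · exact hw h3
      · intro h
        exact absurd (Finset.mem_univ _) h
    · rw [if_neg h1, if_neg h2, add_zero]
      apply Finset.sum_eq_zero
      intro w _
      rw [if_neg]
      intro h
      rcases Sym2.eq_iff.1 h with ⟨h3, _⟩ | ⟨h3, _⟩
      · exact h1 h3
      · exact h2 h3

/-- The alternating labelling along a walk. -/
noncomputable def alt {G : SimpleGraph V} : ∀ {u w : V}, G.Walk u w → (Sym2 V → ℤ)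
  | _, _, .nil => 0
  | u, _, .cons (v := v) _ p => ind u v - alt p

theorem tsum_alt {G : SimpleGraph V} {u w : V} (p : G.Walk u w) (v : V) :
    tsum (alt p) v = (if v = u then 1 else 0) - (-1) ^ p.length * (if v = w then 1 else 0) := by
  induction p with
  | nil => simp [alt, tsum]
  | cons h p ih =>
    rw [alt, tsum_sub, tsum_ind h.ne, ih, SimpleGraph.Walk.length_cons, pow_succ]
    ring

theorem alt_eq_zero {G : SimpleGraph V} {u w : V} (p : G.Walk u w) {e : Sym2 V}
    (he : e ∉ p.edges) : alt p e = 0 := by
  induction p with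
  | nil => rfl
  | cons h p ih =>
    rw [SimpleGraph.Walk.edges_cons, List.mem_cons, not_or] at he
    rw [alt, Pi.sub_apply, ih he.2, sub_zero, ind, if_neg he.1]

theorem parity {G : SimpleGraph V} (c : V → Bool) (hc : ∀ a b, G.Adj a b → c a ≠ c b)
    {u w : V} (p : G.Walk u w) : c u = c w ↔ Even p.length := by
  induction p with
  | nil => simp
  | @cons a b d h p ih =>
    rw [SimpleGraph.Walk.length_cons, Nat.even_add_one, ← ih]
    have := hc _ _ h
    revert this
    generalize c a = x
    generalize c b = y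
    generalize c d = z
    cases x <;> cases y <;> cases z <;> simp

/-- The solution set: labellings supported on the edges with all vertex sums zero. -/
def Sol (G : SimpleGraph V) (A : Type v) [AddCommGroup A] : Set (Sym2 V → A) :=
  {x | (∀ e, e ∉ G.edgeSet → x e = 0) ∧ ∀ v, tsum x v = 0}

theorem sol_eq_zero {A : Type v} [AddCommGroup A] {G : SimpleGraph V} (hG : G.IsAcyclic)
    {x : Sym2 V → A} (hx : x ∈ Sol G A) : x = 0 := by
  by_contra hne
  obtain ⟨e0, he0⟩ : ∃ e, x e ≠ 0 := by
    by_contra h
    push Not at h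
    exact hne (funext h)
  obtain ⟨hsupp, hsum⟩ := hx
  obtain ⟨H, hH⟩ : ∃ H : SimpleGraph V, H = SimpleGraph.fromEdgeSet {e | x e ≠ 0} := ⟨_, rfl⟩
  have hHadj : ∀ a b, H.Adj a b ↔ x s(a, b) ≠ 0 := by
    intro a b
    rw [hH, SimpleGraph.fromEdgeSet_adj]
    constructor
    · exact fun h => h.1
    · intro h
      refine ⟨h, ?_⟩
      have hmem : s(a, b) ∈ G.edgeSet := by
        by_contra h'
        exact h (hsupp _ h')
      exact (G.mem_edgeSet.1 hmem).ne
  have hHG : H ≤ G := by
    intro a b hab
    rw [hHadj] at hab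
    by_contra h'
    exact hab (hsupp _ (by rwa [SimpleGraph.mem_edgeSet]))
  have hHac : H.IsAcyclic := SimpleGraph.IsAcyclic.anti hHG hG
  induction e0 using Sym2.ind with | _ a0 b0 =>
  have hab0 : H.Adj a0 b0 := (hHadj _ _).2 he0
  haveI : Nonempty V := ⟨a0⟩
  obtain ⟨a, b, p, hp, hmax⟩ := SimpleGraph.Walk.exists_isPath_forall_isPath_length_le_length H
  have hlen : 1 ≤ p.length := by
    have := hmax a0 b0 (SimpleGraph.Path.singleton hab0).1 (SimpleGraph.Path.singleton hab0).2
    have h1 : (SimpleGraph.Path.singleton hab0).1.length = 1 := rfl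
    omega
  have hnil : ¬ p.Nil := by
    intro h
    rw [← SimpleGraph.Walk.length_eq_zero_iff] at h
    omega
  have hadj1 : H.Adj a p.snd := p.adj_snd hnil
  have huniq : ∀ w, H.Adj a w → w = p.snd := by
    intro w hw
    apply hHac.eq_snd_of_adj_start hp hw
    by_contra hns
    have hp' : (SimpleGraph.Walk.cons hw.symm p).IsPath := hp.cons hns
    have := hmax _ _ _ hp'
    rw [SimpleGraph.Walk.length_cons] at this
    omega
  have hs := hsum a
  unfold tsum at hs
  rw [Finset.sum_eq_single p.snd] at hs
  · exact (hHadj _ _).1 hadj1 hs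
  · intro w _ hw
    by_contra h
    exact hw (huniq w ((hHadj _ _).2 h))
  · intro h
    exact absurd (Finset.mem_univ _) h

theorem main (A : Type v) [AddCommGroup A] (c : V → Bool) :
    ∀ (n : ℕ) (G : SimpleGraph V), G.Connected →
    (∀ a b, G.Adj a b → c a ≠ c b) → Nat.card G.edgeSet + 1 = Nat.card V + n →
    ∃ f : (Fin n → A) →+ (Sym2 V → A), Function.Injective f ∧ Set.range f = Sol G A := by
  intro n
  induction n with
  | zero =>
    intro G hconn hc hcard
    have htree : G.IsTree :=
      SimpleGraph.isTree_iff_connected_and_card.2 ⟨hconn, by simpa using hcard⟩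
    refine ⟨0, ?_, ?_⟩
    · intro a b _
      exact Subsingleton.elim _ _
    · ext x
      simp only [Set.mem_range, AddMonoidHom.zero_apply, exists_const]
      constructor
      · rintro rfl
        exact ⟨fun _ _ => rfl, fun v => by simp [tsum]⟩
      · intro hx
        exact (sol_eq_zero htree.isAcyclic hx).symm
  | succ n ih =>
    intro G hconn hc hcard
    obtain ⟨u, w, hadj, hnb⟩ : ∃ u w, G.Adj u w ∧ ¬ G.IsBridge s(u, w) := by
      by_contra hcon
      push Not at hcon
      have hac : G.IsAcyclic :=
        SimpleGraph.isAcyclic_iff_forall_adj_isBridge.2 (fun a b h => hcon a b h)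
      have := (SimpleGraph.isTree_iff_connected_and_card (G := G)).1 ⟨hconn, hac⟩
      omega
    obtain ⟨G', hG'⟩ : ∃ G' : SimpleGraph V, G' = G.deleteEdges {s(u, w)} := ⟨_, rfl⟩
    have hconn' : G'.Connected := by
      rw [hG']
      exact hconn.connected_delete_edge_of_not_isBridge hnb
    have hedge' : G'.edgeSet = G.edgeSet \ {s(u, w)} := by
      rw [hG', SimpleGraph.edgeSet_deleteEdges]
    have hle : G' ≤ G := by
      rw [hG']
      exact SimpleGraph.deleteEdges_le _
    have hc' : ∀ a b, G'.Adj a b → c a ≠ c b := fun a b h => hc a b (hle h)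
    have hmemE : s(u, w) ∈ G.edgeSet := (G.mem_edgeSet).2 hadj
    have hcard' : Nat.card G'.edgeSet + 1 = Nat.card V + n := by
      have h1 : Nat.card G'.edgeSet + 1 = Nat.card G.edgeSet := by
        rw [Nat.card_coe_set_eq, Nat.card_coe_set_eq, hedge']
        exact Set.ncard_sdiff_singleton_add_one hmemE (Set.toFinite _)
      omega
    have hreach : G'.Reachable u w := by
      rw [SimpleGraph.isBridge_iff] at hnb
      rw [hG']
      exact not_not.1 hnb
    obtain ⟨p⟩ := hreach
    have he' : s(u, w) ∉ G'.edgeSet := by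
      rw [hedge']
      simp
    have hsubE : ∀ e, e ∈ G'.edgeSet → e ∈ G.edgeSet := by
      intro e he
      rw [hedge'] at he
      exact he.1
    obtain ⟨coef, hcoef⟩ : ∃ coef : Sym2 V → ℤ, coef = ind u w - alt p := ⟨_, rfl⟩
    have hcoef1 : coef s(u, w) = 1 := by
      rw [hcoef, Pi.sub_apply, alt_eq_zero p (fun h => he' (p.edges_subset_edgeSet h)), sub_zero,
        ind, if_pos rfl]
    have hcoef_supp : ∀ e, e ∉ G.edgeSet → coef e = 0 := by
      intro e he
      rw [hcoef, Pi.sub_apply,
        alt_eq_zero p (fun h => he (hsubE _ (p.edges_subset_edgeSet h))), sub_zero, ind, if_neg]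
      rintro rfl
      exact he hmemE
    have hcoef_sum : ∀ v, tsum coef v = 0 := by
      intro v
      have hodd : ¬ Even p.length := by
        rw [← parity c hc' p]
        exact hc u w hadj
      rw [Nat.not_even_iff_odd] at hodd
      rw [hcoef, tsum_sub, tsum_ind hadj.ne, tsum_alt, hodd.neg_one_pow]
      ring
    obtain ⟨f', hf'inj, hf'range⟩ := ih G' hconn' hc' hcard'
    obtain ⟨f, hf⟩ : ∃ f : (Fin (n + 1) → A) →+ (Sym2 V → A),
        ∀ a, f a = (fun e => coef e • a 0) + f' (Fin.tail a) := by
      refine ⟨AddMonoidHom.mk' (fun a => (fun e => coef e • a 0) + f' (Fin.tail a)) ?_,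
        fun a => rfl⟩
      intro a b
      have ht : Fin.tail (a + b) = Fin.tail a + Fin.tail b := rfl
      rw [ht, map_add]
      funext e
      simp only [Pi.add_apply, smul_add]
      abel
    have hsolz : ∀ a0 : A, (fun e => coef e • a0) ∈ Sol G A := by
      intro a0
      refine ⟨fun e he => ?_, fun v => ?_⟩
      · simp only [hcoef_supp e he, zero_smul]
      · rw [tsum_smul, hcoef_sum, zero_smul]
    have hsub : ∀ x, x ∈ Sol G' A → x ∈ Sol G A := by
      intro x hx
      exact ⟨fun e he => hx.1 e (fun h => he (hsubE e h)), hx.2⟩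
    have hf'sol : ∀ b, f' b ∈ Sol G' A := by
      intro b
      rw [← hf'range]
      exact Set.mem_range_self b
    refine ⟨f, ?_, ?_⟩
    · rw [injective_iff_map_eq_zero]
      intro a ha
      rw [hf] at ha
      have h0 : a 0 = 0 := by
        have h1 := congrFun ha s(u, w)
        simp only [Pi.add_apply, Pi.zero_apply, hcoef1, one_smul,
          (hf'sol (Fin.tail a)).1 _ he', add_zero] at h1
        exact h1
      have h2 : f' (Fin.tail a) = 0 := by
        have hz : (fun e : Sym2 V => coef e • (0 : A)) = 0 := by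
          funext e
          simp
        rw [h0, hz, zero_add] at ha
        exact ha
      have h3 : Fin.tail a = 0 := (injective_iff_map_eq_zero f').1 hf'inj _ h2
      funext i
      refine Fin.cases h0 (fun j => ?_) i
      exact congrFun h3 j
    · ext x
      constructor
      · rintro ⟨a, rfl⟩
        rw [hf]
        have h1 := hsolz (a 0)
        have h2 := hsub _ (hf'sol (Fin.tail a))
        refine ⟨fun e he => ?_, fun v => ?_⟩
        · have e1 : coef e • a 0 = 0 := h1.1 e he
          rw [Pi.add_apply]
          show coef e • a 0 + _ = 0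
          rw [e1, h2.1 e he, add_zero]
        · rw [tsum_add, h1.2 v, h2.2 v, add_zero]
      · intro hx
        obtain ⟨a0, ha0⟩ : ∃ a0, a0 = x s(u, w) := ⟨_, rfl⟩
        have hy : x - (fun e => coef e • a0) ∈ Sol G' A := by
          refine ⟨fun e he => ?_, fun v => ?_⟩
          · rw [Pi.sub_apply]
            by_cases heG : e ∈ G.edgeSet
            · have : e = s(u, w) := by
                by_contra hne
                exact he (hedge' ▸ ⟨heG, hne⟩)
              rw [this, hcoef1, one_smul, ha0, sub_self]
            · rw [hx.1 e heG, hcoef_supp e heG, zero_smul, sub_zero]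
          · rw [tsum_sub, hx.2 v, (hsolz a0).2 v, sub_zero]
        rw [← hf'range] at hy
        obtain ⟨b, hb⟩ := hy
        refine ⟨Fin.cons a0 b, ?_⟩
        rw [hf, Fin.tail_cons, Fin.cons_zero, hb]
        abel

end Main

section Final

variable {V : Type u} [Fintype V] [DecidableEq V]

theorem incidence_sum {A : Type v} [AddCommGroup A] (G : SimpleGraph V) [DecidableRel G.Adj]
    (x : Sym2 V → A) (hx : ∀ e, e ∉ G.edgeSet → x e = 0) (v : V) :
    ∑ e ∈ G.incidenceFinset v, x e = tsum x v := by
  unfold tsum
  have h1 : ∑ w : V, x s(v, w) = ∑ w ∈ G.neighborFinset v, x s(v, w) := by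
    symm
    apply Finset.sum_subset (Finset.subset_univ _)
    intro w _ hw
    apply hx
    rw [SimpleGraph.mem_edgeSet]
    rwa [SimpleGraph.mem_neighborFinset] at hw
  rw [h1]
  symm
  apply Finset.sum_bij (fun w _ => s(v, w))
  · intro w hw
    rw [SimpleGraph.mem_neighborFinset] at hw
    rw [SimpleGraph.mem_incidenceFinset, SimpleGraph.mk'_mem_incidenceSet_iff]
    exact ⟨hw, Or.inl rfl⟩
  · intro w1 _ w2 _ h
    rcases Sym2.eq_iff.1 h with ⟨_, h2⟩ | ⟨h1, h2⟩
    · exact h2
    · rw [h2, h1]
  · intro e he
    rw [SimpleGraph.mem_incidenceFinset] at he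
    induction e using Sym2.ind with | _ a b =>
    rw [SimpleGraph.mk'_mem_incidenceSet_iff] at he
    obtain ⟨hab, rfl | rfl⟩ := he
    · exact ⟨b, (SimpleGraph.mem_neighborFinset _ _ _).2 hab, rfl⟩
    · exact ⟨a, (SimpleGraph.mem_neighborFinset _ _ _).2 hab.symm, Sym2.eq_swap⟩
  · intro w _
    rfl

theorem final (G : SimpleGraph V) [DecidableRel G.Adj] (hconn : G.Connected) (c : V → Bool)
    (hbip : ∀ v w : V, G.Adj v w → c v ≠ c w) (A : Type v) [AddCommGroup A] (n : ℕ)
    (hn : G.edgeFinset.card + 1 = Fintype.card V + n) :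
    ∃ f : (Fin n → A) →+ (Sym2 V → A), Function.Injective f ∧
      Set.range f = {x : Sym2 V → A | (∀ e : Sym2 V, e ∉ G.edgeSet → x e = 0) ∧
        ∀ v : V, ∑ e ∈ G.incidenceFinset v, x e = 0} := by
  have hcard : Nat.card G.edgeSet + 1 = Nat.card V + n := by
    rw [Nat.card_eq_fintype_card, Nat.card_eq_fintype_card, ← SimpleGraph.edgeFinset_card]
    exact hn
  obtain ⟨f, hinj, hrange⟩ := main A c n G hconn hbip hcard
  refine ⟨f, hinj, ?_⟩
  rw [hrange]
  ext x
  constructor
  · rintro ⟨h1, h2⟩
    exact ⟨h1, fun v => by rw [incidence_sum G x h1]; exact h2 v⟩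
  · rintro ⟨h1, h2⟩
    exact ⟨h1, fun v => by rw [← incidence_sum G x h1]; exact h2 v⟩

end Final

end Groth.Agent.Helper6.CycLab
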