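import Mathlib

set_option autoImplicit false
set_option linter.style.haveILetI false
set_option linter.unusedSectionVars false

/-!
# A Reynolds-operator computation in the exterior algebra of the cycle space of `K₄`
-/

namespace Groth.Agent.Helper6.CycleWedge

open ExteriorAlgebra

/-- the oriented triangle `(i j l)` as an antisymmetric matrix -/
def tri {R : Type*} [Ring R] (i j l a b : Fin 4) : R :=
  (if a = i ∧ b = j then 1 else 0) + (if a = j ∧ b = l then 1 else 0) +
    (if a = l ∧ b = i then 1 else 0) - (if a = j ∧ b = i then 1 else 0) -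
    (if a = l ∧ b = j then 1 else 0) - (if a = i ∧ b = l then 1 else 0)

theorem tri_swap23 {R : Type*} [CommRing R] (i j l a b : Fin 4) :
    tri (R := R) i l j a b = - tri i j l a b := by
  unfold tri; ring

theorem tri_swap12 {R : Type*} [CommRing R] (i j l a b : Fin 4) :
    tri (R := R) j i l a b = - tri i j l a b := by
  unfold tri; ring

theorem tri_swap13 {R : Type*} [CommRing R] (i j l a b : Fin 4) :
    tri (R := R) l j i a b = - tri i j l a b := by
  unfold tri; ring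

theorem tri_cast {k : Type*} [Field k] (i j l a b : Fin 4) :
    tri (R := k) i j l a b = ((tri (R := ℤ) i j l a b : ℤ) : k) := by
  unfold tri
  push_cast
  rfl

variable {k : Type*} [Field k]

/-- the ambient space -/
abbrev V (k : Type*) : Type _ := Fin 2 → Fin 4 → Fin 4 → k

section hyps

variable (P : Equiv.Perm (Fin 4) → (V k →ₗ[k] V k))
  (hP : ∀ (σ : Equiv.Perm (Fin 4)) (f : V k) (c : Fin 2) (a b : Fin 4),
    P σ f c a b = f c (σ.symm a) (σ.symm b))
  (z : Fin 2 → Fin 4 → Fin 4 → Fin 4 → V k)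
  (hz : ∀ (c : Fin 2) (i j l : Fin 4) (c' : Fin 2) (a b : Fin 4), z c i j l c' a b =
    if c' = c then tri i j l a b else 0)

include hz in
theorem z_swap23 (c : Fin 2) (i j l : Fin 4) : z c i l j = - z c i j l := by
  funext c' a b
  simp only [Pi.neg_apply, hz]
  split_ifs
  · exact tri_swap23 i j l a b
  · exact neg_zero.symm

include hz in
theorem z_swap12 (c : Fin 2) (i j l : Fin 4) : z c j i l = - z c i j l := by
  funext c' a b
  simp only [Pi.neg_apply, hz]
  split_ifs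
  · exact tri_swap12 i j l a b
  · exact neg_zero.symm

include hz in
theorem z_swap13 (c : Fin 2) (i j l : Fin 4) : z c l j i = - z c i j l := by
  funext c' a b
  simp only [Pi.neg_apply, hz]
  split_ifs
  · exact tri_swap13 i j l a b
  · exact neg_zero.symm

include hP hz in
theorem P_z (σ : Equiv.Perm (Fin 4)) (c : Fin 2) (i j l : Fin 4) :
    P σ (z c i j l) = z c (σ i) (σ j) (σ l) := by
  funext c' a b
  rw [hP, hz, hz]
  unfold tri
  simp only [Equiv.symm_apply_eq]

include hP hz in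
theorem map_prod (σ : Equiv.Perm (Fin 4)) (i j l i' j' l' : Fin 4) :
    ExteriorAlgebra.map (P σ) (ι k (z 0 i j l) * ι k (z 1 i j l) * ι k (z 0 i' j' l') *
      ι k (z 1 i' j' l')) =
    ι k (z 0 (σ i) (σ j) (σ l)) * ι k (z 1 (σ i) (σ j) (σ l)) *
      ι k (z 0 (σ i') (σ j') (σ l')) * ι k (z 1 (σ i') (σ j') (σ l')) := by
  simp only [map_mul, ExteriorAlgebra.map_apply_ι, P_z P hP z hz]

end hyps

theorem ι_swap (x y : V k) : ι k x * ι k y = - (ι k y * ι k x) :=
  eq_neg_of_add_eq_zero_left (ι_add_mul_swap x y)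

theorem pair_comm (x y u v : V k) :
    ι k u * ι k v * ι k x * ι k y = ι k x * ι k y * ι k u * ι k v := by
  have h1 : ι k u * ι k v * ι k x * ι k y = ι k u * (ι k v * ι k x) * ι k y := by
    simp only [mul_assoc]
  rw [h1, ι_swap v x]
  have h2 : ι k u * -(ι k x * ι k v) * ι k y = -((ι k u * ι k x) * ι k v * ι k y) := by
    simp only [mul_neg, neg_mul, mul_assoc]
  rw [h2, ι_swap u x]
  have h3 : -(-(ι k x * ι k u) * ι k v * ι k y) = ι k x * ι k u * (ι k v * ι k y) := by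
    simp only [neg_mul, neg_neg, mul_assoc]
  rw [h3, ι_swap v y]
  have h4 : ι k x * ι k u * -(ι k y * ι k v) = -(ι k x * (ι k u * ι k y) * ι k v) := by
    simp only [mul_neg, mul_assoc]
  rw [h4, ι_swap u y]
  simp only [mul_neg, neg_mul, neg_neg, mul_assoc]

/-- four coordinates -/
def xi : V k →ₗ[k] (Fin 4 → k) where
  toFun v := ![v 0 0 1, v 0 2 3, v 1 0 1, v 1 2 3]
  map_add' v w := by
    ext a
    fin_cases a <;> simp
  map_smul' c v := by
    ext a
    fin_cases a <;> simp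

/-- the family of alternating maps: the `4 × 4` determinant of the chosen coordinates in degree 4 -/
noncomputable def fam : ∀ i, V k [⋀^Fin i]→ₗ[k] k := fun i =>
  if h : i = 4 then h ▸ ((Matrix.detRowAlternating (n := Fin 4) (R := k)).compLinearMap xi) else 0

/-- the functional on the exterior algebra -/
noncomputable def L : ExteriorAlgebra k (V k) →ₗ[k] k := ExteriorAlgebra.liftAlternating fam

theorem L_prod (v0 v1 v2 v3 : V k) :
    L (ι k v0 * ι k v1 * ι k v2 * ι k v3) =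
      Matrix.det (Matrix.of ![xi v0, xi v1, xi v2, xi v3]) := by
  have h1 : ι k v0 * ι k v1 * ι k v2 * ι k v3 = ExteriorAlgebra.ιMulti k 4 ![v0, v1, v2, v3] := by
    rw [ExteriorAlgebra.ιMulti_apply]
    simp [List.ofFn_succ, mul_assoc]
  rw [h1, L, ExteriorAlgebra.liftAlternating_apply_ιMulti, fam, dif_pos rfl]
  show Matrix.det (fun i => xi (![v0, v1, v2, v3] i)) = _
  congr 1
  ext i j
  fin_cases i <;> rfl

theorem det_block (p r q s : k) :
    Matrix.det (Matrix.of ![![p, r, 0, 0], ![0, 0, p, r], ![q, s, 0, 0], ![0, 0, q, s]]) =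
      -(p * s - r * q) ^ 2 := by
  rw [Matrix.det_succ_row_zero]
  simp [Fin.sum_univ_succ, Matrix.det_fin_three, Matrix.submatrix, Fin.succAbove]
  ring

section hyps2

variable (z : Fin 2 → Fin 4 → Fin 4 → Fin 4 → V k)
  (hz : ∀ (c : Fin 2) (i j l : Fin 4) (c' : Fin 2) (a b : Fin 4), z c i j l c' a b =
    if c' = c then tri i j l a b else 0)

include hz in
theorem xi_z0 (i j l : Fin 4) : xi (z 0 i j l) = ![tri i j l 0 1, tri i j l 2 3, 0, 0] := by
  ext a
  fin_cases a <;> simp [xi, hz]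

include hz in
theorem xi_z1 (i j l : Fin 4) : xi (z 1 i j l) = ![0, 0, tri i j l 0 1, tri i j l 2 3] := by
  ext a
  fin_cases a <;> simp [xi, hz]

/-- the integer `2 × 2` determinant attached to a permutation -/
def Dz (σ : Equiv.Perm (Fin 4)) : ℤ :=
  tri (σ 0) (σ 1) (σ 2) 0 1 * tri (σ 0) (σ 2) (σ 3) 2 3 -
    tri (σ 0) (σ 1) (σ 2) 2 3 * tri (σ 0) (σ 2) (σ 3) 0 1

include hz in
theorem L_term (i j l i' j' l' : Fin 4) :
    L (ι k (z 0 i j l) * ι k (z 1 i j l) * ι k (z 0 i' j' l') * ι k (z 1 i' j' l')) =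
      -(tri i j l 0 1 * tri i' j' l' 2 3 - tri i j l 2 3 * tri i' j' l' 0 1) ^ 2 := by
  rw [L_prod, xi_z0 z hz, xi_z1 z hz, xi_z0 z hz, xi_z1 z hz]
  exact det_block _ _ _ _

end hyps2

theorem Dz_one : Dz 1 = 1 := by decide

theorem main (k : Type*) [Field k] [CharZero k]
    (P : Equiv.Perm (Fin 4) → ((Fin 2 → Fin 4 → Fin 4 → k) →ₗ[k] (Fin 2 → Fin 4 → Fin 4 → k)))
    (hP : ∀ (σ : Equiv.Perm (Fin 4)) (f : Fin 2 → Fin 4 → Fin 4 → k) (c : Fin 2) (a b : Fin 4),
      P σ f c a b = f c (σ.symm a) (σ.symm b))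
    (z : Fin 2 → Fin 4 → Fin 4 → Fin 4 → (Fin 2 → Fin 4 → Fin 4 → k))
    (hz : ∀ (c : Fin 2) (i j l : Fin 4) (c' : Fin 2) (a b : Fin 4), z c i j l c' a b =
      if c' = c then tri i j l a b else 0)
    (ω : ExteriorAlgebra k (Fin 2 → Fin 4 → Fin 4 → k))
    (hω : ω = ExteriorAlgebra.ι k (z 0 0 1 2) * ExteriorAlgebra.ι k (z 1 0 1 2) *
      ExteriorAlgebra.ι k (z 0 0 2 3) * ExteriorAlgebra.ι k (z 1 0 2 3)) :
    ExteriorAlgebra.map (P (Equiv.swap 0 2)) ω = ω ∧
    ExteriorAlgebra.map (P (Equiv.swap 1 3)) ω = ω ∧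
    (∑ σ : Equiv.Perm (Fin 4), ExteriorAlgebra.map (P σ) ω) ≠ 0 := by
  have hmap := map_prod P hP z hz
  refine ⟨?_, ?_, ?_⟩
  · rw [hω, hmap]
    have e0 : (Equiv.swap (0 : Fin 4) 2) 0 = 2 := by decide
    have e1 : (Equiv.swap (0 : Fin 4) 2) 1 = 1 := by decide
    have e2 : (Equiv.swap (0 : Fin 4) 2) 2 = 0 := by decide
    have e3 : (Equiv.swap (0 : Fin 4) 2) 3 = 3 := by decide
    rw [e0, e1, e2, e3, z_swap13 z hz 0 0 1 2, z_swap13 z hz 1 0 1 2, z_swap12 z hz 0 0 2 3,
      z_swap12 z hz 1 0 2 3]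
    simp only [map_neg, neg_mul, mul_neg, neg_neg]
  · rw [hω, hmap]
    have e0 : (Equiv.swap (1 : Fin 4) 3) 0 = 0 := by decide
    have e1 : (Equiv.swap (1 : Fin 4) 3) 1 = 3 := by decide
    have e2 : (Equiv.swap (1 : Fin 4) 3) 2 = 2 := by decide
    have e3 : (Equiv.swap (1 : Fin 4) 3) 3 = 1 := by decide
    rw [e0, e1, e2, e3, z_swap23 z hz 0 0 2 3, z_swap23 z hz 1 0 2 3, z_swap23 z hz 0 0 1 2,
      z_swap23 z hz 1 0 1 2]
    simp only [map_neg, neg_mul, mul_neg, neg_neg]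
    exact pair_comm _ _ _ _
  · intro h0
    have h1 := congrArg L h0
    rw [map_sum, map_zero] at h1
    have h2 : ∀ σ : Equiv.Perm (Fin 4), L (ExteriorAlgebra.map (P σ) ω) = -(((Dz σ ^ 2 : ℤ)) : k) := by
      intro σ
      rw [hω, hmap, L_term z hz]
      simp only [tri_cast (k := k), Dz]
      push_cast
      rfl
    simp only [h2] at h1
    rw [Finset.sum_neg_distrib, neg_eq_zero, ← Int.cast_sum, Int.cast_eq_zero] at h1
    have h3 : 0 < ∑ σ : Equiv.Perm (Fin 4), Dz σ ^ 2 := by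
      refine Finset.sum_pos' (fun σ _ => sq_nonneg _) ⟨1, Finset.mem_univ _, ?_⟩
      rw [Dz_one]
      norm_num
    omega

end Groth.Agent.Helper6.CycleWedge
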