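import Mathlib
import Groth.Prelude.Def_DRing4
import Groth.Agent.Helper3.DRingAway
import Groth.Agent.Helper3.DRingSeq
import Groth.Agent.Helper6.DerNak

/-!
# Adically complete modules are derived complete; Nakayama for derived complete modules;
the "is a completion map" predicate
-/

set_option autoImplicit false
set_option linter.style.haveILetI false
set_option linter.unusedSectionVars false
universe u
open CategoryTheory CategoryTheory.Limits

attribute [local instance] HasDerivedCategory.standard

namespace Groth.Agent.Helper6.DCAdic1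

open Groth.Agent.Helper3.DRingLib

variable {A : Type u} [CommRing A]

/-- an adically complete module is derived complete (sequence form) -/
theorem seqOp_bijective_of_isAdicComplete (I : Ideal A) (f : A) (hf : f ∈ I)
    (N : Type u) [AddCommGroup N] [Module A N] [IsAdicComplete I N] :
    Function.Bijective (seqOp f N) := by
  constructor
  · rw [seqOp_injective_iff]
    intro x hx
    have h1 : ∀ n, f • x (n + 1) = x n := fun n => by
      have := congrFun hx n
      simpa [seqOp, sub_eq_zero] using this
    have h2 : ∀ j n, x n = f ^ j • x (n + j) := by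
      intro j
      induction j with
      | zero => intro n; simp
      | succ j ih =>
        intro n
        rw [ih n, ← h1 (n + j), smul_smul, pow_succ, add_assoc]
    funext n
    refine IsHausdorff.haus (inferInstance : IsHausdorff I N) (x n) (fun j => ?_)
    rw [SModEq.zero, h2 j n]
    exact Submodule.smul_mem_smul (Ideal.pow_mem_pow hf j) Submodule.mem_top
  · intro y
    obtain ⟨S, hSdef⟩ : ∃ S : ℕ → ℕ → N,
        S = fun n k => ∑ j ∈ Finset.range k, f ^ j • y (n + j) := ⟨_, rfl⟩
    have hS0 : ∀ n k, S n (k + 1) = S n k + f ^ k • y (n + k) := by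
      intro n k
      rw [hSdef]
      exact Finset.sum_range_succ _ _
    have hS : ∀ n k, S n (k + 1) = y n + f • S (n + 1) k := by
      intro n k
      rw [hSdef]
      dsimp only
      rw [Finset.sum_range_succ', Finset.smul_sum, add_comm]
      congr 1
      · simp
      · refine Finset.sum_congr rfl fun j _ => ?_
        have : n + (j + 1) = n + 1 + j := by omega
        rw [this, pow_succ', mul_smul]
    have hC : ∀ n k k', k ≤ k' → S n k' - S n k ∈ I ^ k • (⊤ : Submodule A N) := by
      intro n k k' hk
      induction k', hk using Nat.le_induction with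
      | base => rw [sub_self]; exact Submodule.zero_mem _
      | succ k' hk' ih =>
        have : S n (k' + 1) - S n k = (S n k' - S n k) + f ^ k' • y (n + k') := by
          rw [hS0]; abel
        rw [this]
        refine Submodule.add_mem _ ih ?_
        exact Submodule.smul_mem_smul (Ideal.pow_le_pow_right hk' (Ideal.pow_mem_pow hf k'))
          Submodule.mem_top
    have hex : ∀ n, ∃ L : N, ∀ k, S n k - L ∈ I ^ k • (⊤ : Submodule A N) := by
      intro n
      obtain ⟨L, hL⟩ := IsPrecomplete.prec (inferInstance : IsPrecomplete I N) (f := S n)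
        (fun {a b} hab => by
          rw [SModEq.sub_mem, ← neg_sub]
          exact Submodule.neg_mem _ (hC n a b hab))
      exact ⟨L, fun k => SModEq.sub_mem.mp (hL k)⟩
    choose L hL using hex
    refine ⟨fun n => - L n, ?_⟩
    funext n
    have hz : L n - f • L (n + 1) - y n = 0 := by
      refine IsHausdorff.haus (inferInstance : IsHausdorff I N) _ (fun k => ?_)
      rw [SModEq.zero]
      have e : L n - f • L (n + 1) - y n =
          -(S n (k + 1) - L n) + f • (S (n + 1) k - L (n + 1)) := by
        rw [hS, smul_sub]; abel
      rw [e]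
      refine Submodule.add_mem _ (Submodule.neg_mem _ ?_) (Submodule.smul_mem _ f (hL (n + 1) k))
      exact Submodule.smul_mono_left (Ideal.pow_le_pow_right (Nat.le_succ k)) (hL n (k + 1))
    show f • (-L (n + 1)) - -L n = y n
    rw [smul_neg, neg_sub_neg]
    rw [sub_eq_zero] at hz
    exact hz

/-- an adically complete module is derived complete -/
theorem isDerivedComplete_of_isAdicComplete (I : Ideal A) (N : Type u) [AddCommGroup N]
    [Module A N] [IsAdicComplete I N] : DRing.IsDerivedComplete I (Dual.inD A N) :=
  (isDerivedComplete_module_iff I N).mpr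
    (fun f hf => seqOp_bijective_of_isAdicComplete I f hf N)

/-- modules killed by `f` are derived `f`-complete -/
lemma seqOp_bijective_of_smul_eq_zero (f : A) (N : Type u) [AddCommGroup N] [Module A N]
    (h : ∀ x : N, f • x = 0) : Function.Bijective (seqOp f N) := by
  have : seqOp f N = fun x => -x := by
    funext x n
    simp [seqOp, h]
  rw [this]
  exact neg_involutive.bijective

/-- modules killed by `I` are derived `I`-complete -/
lemma isDerivedComplete_of_killed (I : Ideal A) (N : Type u) [AddCommGroup N] [Module A N]
    (h : ∀ f ∈ I, ∀ x : N, f • x = 0) : DRing.IsDerivedComplete I (Dual.inD A N) :=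
  (isDerivedComplete_module_iff I N).mpr
    (fun f hf => seqOp_bijective_of_smul_eq_zero f N (h f hf))

/-- Nakayama for derived complete modules, list form -/
theorem subsingleton_of_span_smul_top_eq_top (I : Ideal A) (fs : List A) (hfs : ∀ f ∈ fs, f ∈ I) :
    ∀ (N : Type u) [AddCommGroup N] [Module A N],
      (∀ f ∈ I, Function.Bijective (seqOp f N)) →
      (Ideal.span {a | a ∈ fs}) • (⊤ : Submodule A N) = ⊤ → Subsingleton N := by
  induction fs with
  | nil =>
    intro N _ _ _ h
    have h0 : ({a | a ∈ ([] : List A)} : Set A) = ∅ := by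
      ext a; simp
    rw [h0, Ideal.span_empty, Submodule.bot_smul] at h
    refine ⟨fun x y => ?_⟩
    have hx : x ∈ (⊥ : Submodule A N) := by rw [h]; trivial
    have hy : y ∈ (⊥ : Submodule A N) := by rw [h]; trivial
    rw [Submodule.mem_bot] at hx hy
    rw [hx, hy]
  | cons f fs ih =>
    intro N _ _ hN h
    have hfI : f ∈ I := hfs f (List.mem_cons_self)
    let u : N →ₗ[A] N := f • LinearMap.id
    have hN' : ∀ g ∈ I, Function.Bijective (seqOp g (N ⧸ LinearMap.range u)) :=
      fun g hg => seqOp_bijective_coker g u (hN g hg) (hN g hg)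
    have hspan : ({a | a ∈ f :: fs} : Set A) = {f} ∪ {a | a ∈ fs} := by
      ext a; simp
    have hq : (Ideal.span {a | a ∈ fs}) • (⊤ : Submodule A (N ⧸ LinearMap.range u)) = ⊤ := by
      rw [eq_top_iff]
      rintro z -
      obtain ⟨x, rfl⟩ := Submodule.Quotient.mk_surjective _ z
      have hx : x ∈ (Ideal.span {a | a ∈ f :: fs}) • (⊤ : Submodule A N) := by rw [h]; trivial
      rw [hspan, Ideal.span_union, Submodule.sup_smul, Submodule.mem_sup] at hx
      obtain ⟨x1, hx1, x2, hx2, rfl⟩ := hx
      rw [Submodule.ideal_span_singleton_smul] at hx1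
      obtain ⟨w, -, rfl⟩ := hx1
      have h1 : (Submodule.Quotient.mk (f • w + x2) : N ⧸ LinearMap.range u) =
          Submodule.Quotient.mk x2 := by
        rw [Submodule.Quotient.mk_add]
        have : (Submodule.Quotient.mk (f • w) : N ⧸ LinearMap.range u) = 0 := by
          rw [Submodule.Quotient.mk_eq_zero]
          exact ⟨w, rfl⟩
        rw [this, zero_add]
      show (Submodule.Quotient.mk (f • w + x2) : N ⧸ LinearMap.range u) ∈ _
      rw [h1]
      have h2 : Submodule.map (LinearMap.range u).mkQ
          ((Ideal.span {a | a ∈ fs}) • (⊤ : Submodule A N)) ≤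
          (Ideal.span {a | a ∈ fs}) • (⊤ : Submodule A (N ⧸ LinearMap.range u)) := by
        rw [Submodule.map_smul'']
        exact smul_mono_right _ le_top
      exact h2 ⟨x2, hx2, rfl⟩
    haveI := ih (fun g hg => hfs g (List.mem_cons_of_mem _ hg)) (N ⧸ LinearMap.range u) hN' hq
    have htop : LinearMap.range u = ⊤ := Submodule.Quotient.subsingleton_iff.mp this
    have hs : Function.Surjective (fun x : N => f • x) := by
      intro y
      have : y ∈ LinearMap.range u := by rw [htop]; trivial
      obtain ⟨w, hw⟩ := this
      exact ⟨w, hw⟩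
    exact Groth.Agent.Helper6.DerNak.subsingleton_of_dcf_of_surjective f N
      ((dcf_module_iff_seq f N).mpr (hN f hfI)) hs

/-- Nakayama for derived complete modules -/
theorem subsingleton_of_smul_top_eq_top (I : Ideal A) (hI : I.FG)
    (N : Type u) [AddCommGroup N] [Module A N]
    (hN : ∀ f ∈ I, Function.Bijective (seqOp f N))
    (h : I • (⊤ : Submodule A N) = ⊤) : Subsingleton N := by
  obtain ⟨fs, hfs⟩ := Groth.Agent.Helper6.DerNak.exists_list_of_fg I hI
  refine subsingleton_of_span_smul_top_eq_top I fs (fun f hf => ?_) N hN (by rw [← hfs]; exact h)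
  rw [hfs]
  exact Ideal.subset_span hf

section compl

variable (I : Ideal A)

/-- `g : M → N` "is a completion map" -/
def IsComplMap {M N : Type u} [AddCommGroup M] [Module A M] [AddCommGroup N] [Module A N]
    (g : M →ₗ[A] N) : Prop :=
  Function.Bijective (AdicCompletion.of I N) ∧ Function.Bijective (AdicCompletion.map I g)

variable {I}

theorem IsComplMap.exists_equiv {M N : Type u} [AddCommGroup M] [Module A M] [AddCommGroup N]
    [Module A N] {g : M →ₗ[A] N} (h : IsComplMap I g) :
    ∃ e : N ≃ₗ[A] AdicCompletion I M, ∀ x : M, e (g x) = AdicCompletion.of I M x := by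
  let e₁ : N ≃ₗ[A] AdicCompletion I N := LinearEquiv.ofBijective (AdicCompletion.of I N) h.1
  let e₂ : AdicCompletion I M ≃ₗ[A] AdicCompletion I N :=
    LinearEquiv.ofBijective ((AdicCompletion.map I g).restrictScalars A) h.2
  refine ⟨e₁.trans e₂.symm, fun x => ?_⟩
  rw [LinearEquiv.trans_apply, LinearEquiv.symm_apply_eq]
  show AdicCompletion.of I N (g x) = AdicCompletion.map I g (AdicCompletion.of I M x)
  rw [AdicCompletion.map_of]

lemma bijective_map_equiv {N N' : Type u} [AddCommGroup N] [Module A N] [AddCommGroup N']
    [Module A N'] (θ : N ≃ₗ[A] N') : Function.Bijective (AdicCompletion.map I θ.toLinearMap) :=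
  (AdicCompletion.congr I θ).bijective

theorem IsComplMap.comp_equiv {M N N' : Type u} [AddCommGroup M] [Module A M] [AddCommGroup N]
    [Module A N] [AddCommGroup N'] [Module A N'] {g : M →ₗ[A] N} (h : IsComplMap I g)
    (θ : N ≃ₗ[A] N') : IsComplMap I (θ.toLinearMap ∘ₗ g) := by
  constructor
  · have e : (AdicCompletion.of I N' : N' → AdicCompletion I N') =
        (AdicCompletion.map I θ.toLinearMap) ∘ (AdicCompletion.of I N) ∘ θ.symm := by
      funext y
      simp only [Function.comp_apply]
      rw [AdicCompletion.map_of]
      simp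
    rw [e]
    exact (bijective_map_equiv θ).comp (h.1.comp θ.symm.bijective)
  · have e : (AdicCompletion.map I (θ.toLinearMap ∘ₗ g) : AdicCompletion I M → AdicCompletion I N') =
        (AdicCompletion.map I θ.toLinearMap) ∘ (AdicCompletion.map I g) := by
      funext y
      simp only [Function.comp_apply]
      rw [AdicCompletion.map_comp_apply]
    rw [e]
    exact (bijective_map_equiv θ).comp h.2

theorem IsComplMap.equiv_comp {M M' N : Type u} [AddCommGroup M] [Module A M] [AddCommGroup M']
    [Module A M'] [AddCommGroup N] [Module A N] {g : M →ₗ[A] N} (h : IsComplMap I g)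
    (κ : M' ≃ₗ[A] M) : IsComplMap I (g ∘ₗ κ.toLinearMap) := by
  refine ⟨h.1, ?_⟩
  have e : (AdicCompletion.map I (g ∘ₗ κ.toLinearMap) : AdicCompletion I M' → AdicCompletion I N) =
      (AdicCompletion.map I g) ∘ (AdicCompletion.map I κ.toLinearMap) := by
    funext y
    simp only [Function.comp_apply]
    rw [AdicCompletion.map_comp_apply]
  rw [e]
  exact h.2.comp (bijective_map_equiv κ)

/-- `map (of) = of` on the completion -/
lemma map_of_eq_of (hI : I.FG) (M : Type u) [AddCommGroup M] [Module A M]
    (x : AdicCompletion I M) :
    AdicCompletion.map I (AdicCompletion.of I M) x = AdicCompletion.of I (AdicCompletion I M) x := by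
  apply AdicCompletion.ext
  intro n
  rw [AdicCompletion.map_val_apply, AdicCompletion.of_apply]
  obtain ⟨m, hm⟩ := Submodule.Quotient.mk_surjective _ (x.val n)
  rw [← hm, LinearMap.reduceModIdeal_apply]
  symm
  rw [Submodule.mkQ_apply, Submodule.Quotient.eq, AdicCompletion.pow_smul_top_eq_ker_eval hI,
    LinearMap.mem_ker, map_sub, AdicCompletion.eval_of, AdicCompletion.eval_apply, ← hm]
  simp

/-- the canonical map to the completion is a completion map -/
theorem isComplMap_of (hI : I.FG) (M : Type u) [AddCommGroup M] [Module A M] :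
    IsComplMap I (AdicCompletion.of I M) := by
  haveI : IsAdicComplete I (AdicCompletion I M) := AdicCompletion.isAdicComplete hI
  refine ⟨AdicCompletion.of_bijective I (AdicCompletion I M), ?_⟩
  have e : (AdicCompletion.map I (AdicCompletion.of I M) :
      AdicCompletion I M → AdicCompletion I (AdicCompletion I M)) =
      AdicCompletion.of I (AdicCompletion I M) := funext (map_of_eq_of hI M)
  rw [e]
  exact AdicCompletion.of_bijective I (AdicCompletion I M)

/-- the map `x ↦ x ⊗ 1 : M → M ⊗ Â` is a completion map, `M` finite over noetherian `A` -/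
theorem isComplMap_tmul_one [IsNoetherianRing A] (M : Type u) [AddCommGroup M] [Module A M]
    [Module.Finite A M] (g : M →ₗ[A] TensorProduct A M (AdicCompletion I A))
    (hg : ∀ x, g x = x ⊗ₜ[A] (1 : AdicCompletion I A)) : IsComplMap I g := by
  have hI : I.FG := IsNoetherian.noetherian I
  let θ : AdicCompletion I M ≃ₗ[A] TensorProduct A M (AdicCompletion I A) :=
    ((AdicCompletion.ofTensorProductEquivOfFiniteNoetherian I M).symm.restrictScalars A).trans
      (TensorProduct.comm A (AdicCompletion I A) M)
  have e : g = θ.toLinearMap ∘ₗ AdicCompletion.of I M := by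
    ext x
    rw [hg]
    show _ = (TensorProduct.comm A (AdicCompletion I A) M)
      ((AdicCompletion.ofTensorProductEquivOfFiniteNoetherian I M).symm (AdicCompletion.of I M x))
    rw [AdicCompletion.ofTensorProductEquivOfFiniteNoetherian_symm_of]
    simp
  rw [e]
  exact (isComplMap_of hI M).comp_equiv θ

end compl

end Groth.Agent.Helper6.DCAdic1
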