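import Mathlib
import Groth.Prelude.Def_DRing4
import Groth.Agent.Helper3.DRingH
import Groth.Agent.Helper3.DRingRestr
import Groth.Agent.Helper3.DRingComp
import Groth.Agent.Helper6.DComplAmp
import Groth.Agent.Helper6.DComplLES
import Groth.Agent.Helper6.DCAdic1

/-!
# A criterion for recognising derived completions (bounded above case)

`X ⟶ Y` with `Y` derived complete, `X`, `Y` bounded above, which becomes an isomorphism on
`Hom(-, res Z)` for all `Z ∈ D(A/I)`, is the derived completion of `X`.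
-/

set_option autoImplicit false
set_option linter.style.haveILetI false
set_option linter.unusedSectionVars false
universe u
open CategoryTheory CategoryTheory.Limits DerivedCategory Pretriangulated

attribute [local instance] HasDerivedCategory.standard

namespace Groth.Agent.Helper6.DCAdic2

open Groth.Agent.Helper3.DRingLib Groth.Agent.Helper6.DComplAmp Groth.Agent.Helper6.DCAdic1

variable {A : Type u} [CommRing A] (I : Ideal A)

/-- the quotient map -/
abbrev qm : A →+* A ⧸ I := Ideal.Quotient.mk I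

/-- restriction of scalars from `A/I` -/
noncomputable abbrev res : Dual.D (A ⧸ I) ⥤ Dual.D A := DRing.restrictD (qm I)

/-- `ψ` induces bijections on `Hom(-, res Y)` -/
def EEq {X X' : Dual.D A} (ψ : X ⟶ X') : Prop :=
  ∀ Y : Dual.D (A ⧸ I), Function.Bijective (fun g : X' ⟶ (res I).obj Y => ψ ≫ g)

lemma smul_eq_zero_res (M : ModuleCat.{u} (A ⧸ I)) (f : A) (hf : f ∈ I)
    (x : (rF (qm I)).obj M) : f • x = 0 := by
  have h1 : f • x = (qm I f) • (show M from x) := rfl
  rw [h1, show qm I f = 0 from Ideal.Quotient.eq_zero_iff_mem.mpr hf, zero_smul]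
  rfl

/-- objects restricted from `A/I` are derived complete -/
theorem isDerivedComplete_res (Y : Dual.D (A ⧸ I)) :
    DRing.IsDerivedComplete I ((res I).obj Y) := by
  rw [isDerivedComplete_iff_homology]
  intro i
  rw [isDerivedComplete_module_iff]
  intro f hf
  exact seqOp_bijective_of_equiv f (rDHDIso (qm I) Y i).toLinearEquiv.symm
    (seqOp_bijective_of_smul_eq_zero f _ (fun x => smul_eq_zero_res I _ f hf x))

variable {I}

theorem EEq.of_comp {X X' X'' : Dual.D A} {ψ₁ : X ⟶ X'} {ψ₂ : X' ⟶ X''} (h1 : EEq I ψ₁)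
    (h12 : EEq I (ψ₁ ≫ ψ₂)) : EEq I ψ₂ := by
  intro Y
  have e : (fun g : X'' ⟶ (res I).obj Y => (ψ₁ ≫ ψ₂) ≫ g) =
      (fun g' : X' ⟶ (res I).obj Y => ψ₁ ≫ g') ∘ (fun g : X'' ⟶ (res I).obj Y => ψ₂ ≫ g) := by
    funext g
    simp only [Function.comp_apply, Category.assoc]
  have h := h12 Y
  rw [e] at h
  exact (Function.Bijective.of_comp_iff' (h1 Y) _).mp h

theorem EEq.shift {X X' : Dual.D A} {ψ : X ⟶ X'} (h : EEq I ψ) : EEq I (ψ⟦(1 : ℤ)⟧') := by
  intro Y
  obtain ⟨Y₀, c⟩ : ∃ Y₀ : Dual.D (A ⧸ I), Nonempty (((res I).obj Y₀)⟦(1 : ℤ)⟧ ≅ (res I).obj Y) :=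
    ⟨Y⟦(-1 : ℤ)⟧, ⟨(((res I).commShiftIso (1 : ℤ)).app (Y⟦(-1 : ℤ)⟧)).symm ≪≫
      (res I).mapIso ((shiftFunctorCompIsoId (Dual.D (A ⧸ I)) (-1 : ℤ) 1 (by norm_num)).app Y)⟩⟩
  obtain ⟨c⟩ := c
  have hΦ : ∀ W : Dual.D A,
      Function.Bijective (fun g : W ⟶ (res I).obj Y₀ => g⟦(1 : ℤ)⟧' ≫ c.hom) := by
    intro W
    constructor
    · intro g₁ g₂ hg
      dsimp only at hg
      rw [cancel_mono] at hg
      exact (shiftFunctor (Dual.D A) (1 : ℤ)).map_injective hg
    · intro k
      obtain ⟨g, hg⟩ := (shiftFunctor (Dual.D A) (1 : ℤ)).map_surjective (k ≫ c.inv)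
      exact ⟨g, by dsimp only; rw [hg, Category.assoc, Iso.inv_hom_id, Category.comp_id]⟩
  have hcomp : (fun g' : X'⟦(1 : ℤ)⟧ ⟶ (res I).obj Y => ψ⟦(1 : ℤ)⟧' ≫ g') ∘
      (fun g : X' ⟶ (res I).obj Y₀ => g⟦(1 : ℤ)⟧' ≫ c.hom) =
      (fun g : X ⟶ (res I).obj Y₀ => g⟦(1 : ℤ)⟧' ≫ c.hom) ∘
        (fun g : X' ⟶ (res I).obj Y₀ => ψ ≫ g) := by
    funext g
    simp only [Function.comp_apply, Functor.map_comp, Category.assoc]
  have h1 : Function.Bijective ((fun g' : X'⟦(1 : ℤ)⟧ ⟶ (res I).obj Y => ψ⟦(1 : ℤ)⟧' ≫ g') ∘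
      (fun g : X' ⟶ (res I).obj Y₀ => g⟦(1 : ℤ)⟧' ≫ c.hom)) := by
    rw [hcomp]
    exact (hΦ X).comp (h Y₀)
  exact (Function.Bijective.of_comp_iff _ (hΦ X')).mp h1

/-- the cone of an `EEq` has no maps to restricted objects -/
theorem hom_eq_zero_of_eeq (T : Triangle (Dual.D A)) (hT : T ∈ distTriang _)
    (h : EEq I T.mor₁) (Y : Dual.D (A ⧸ I)) (x : T.obj₃ ⟶ (res I).obj Y) : x = 0 := by
  have h1 : T.mor₂ ≫ x = 0 := by
    apply (h Y).1
    dsimp only
    rw [← Category.assoc, comp_distTriang_mor_zero₁₂ T hT, zero_comp, comp_zero]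
  obtain ⟨y, hy⟩ := T.yoneda_exact₃ hT x h1
  obtain ⟨y', hy'⟩ := (h.shift Y).2 y
  dsimp only at hy'
  rw [hy, ← hy', ← Category.assoc, comp_distTriang_mor_zero₃₁ T hT, zero_comp]

section top

/-- the map from a complex concentrated in degrees `≤ c` to its top cohomology -/
noncomputable def toTop (L : DRing.Cx A) (c : ℤ) [L.IsStrictlyLE c] :
    L ⟶ (HomologicalComplex.single (ModuleCat.{u} A) (ComplexShape.up ℤ) c).obj (L.homology c) :=
  HomologicalComplex.mkHomToSingle
    (L.liftCycles (𝟙 (L.X c)) (c + 1) (by simp)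
      ((L.isZero_of_isStrictlyLE c (c + 1) (by omega)).eq_of_tgt _ _) ≫ L.homologyπ c)
    (fun i _ => by
      have h1 : L.d i c ≫ L.liftCycles (𝟙 (L.X c)) (c + 1) (by simp)
          ((L.isZero_of_isStrictlyLE c (c + 1) (by omega)).eq_of_tgt _ _) = L.toCycles i c := by
        rw [← cancel_mono (L.iCycles c)]
        simp
      rw [← Category.assoc, h1, HomologicalComplex.toCycles_comp_homologyπ])

lemma homologyMap_toTop (L : DRing.Cx A) (c : ℤ) [L.IsStrictlyLE c] :
    HomologicalComplex.homologyMap (toTop L c) c ≫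
      (HomologicalComplex.singleObjHomologySelfIso (ComplexShape.up ℤ) c (L.homology c)).hom =
        𝟙 _ := by
  rw [← cancel_epi (L.homologyπ c), HomologicalComplex.homologyπ_naturality_assoc,
    HomologicalComplex.homologyπ_singleObjHomologySelfIso_hom,
    HomologicalComplex.singleObjCyclesSelfIso_hom, HomologicalComplex.cyclesMap_i_assoc]
  dsimp only [toTop]
  simp only [HomologicalComplex.mkHomToSingle_f, Category.assoc, Iso.inv_hom_id,
    Category.comp_id]
  rw [← Category.assoc]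
  have : L.iCycles c ≫ L.liftCycles (𝟙 (L.X c)) (c + 1) (by simp)
      ((L.isZero_of_isStrictlyLE c (c + 1) (by omega)).eq_of_tgt _ _) = 𝟙 _ := by
    rw [← cancel_mono (L.iCycles c)]
    simp
  rw [this, Category.id_comp]

/-- a map out of the top cohomology which dies in `D(A)` after `toTop` is zero -/
lemma eq_zero_of_Q_map_eq_zero (L : DRing.Cx A) (c : ℤ) [L.IsStrictlyLE c] {N : ModuleCat.{u} A}
    (ρ : L.homology c ⟶ N)
    (h : Q.map (toTop L c ≫
      (HomologicalComplex.single (ModuleCat.{u} A) (ComplexShape.up ℤ) c).map ρ) = 0) : ρ = 0 := by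
  have hn := (DerivedCategory.homologyFunctorFactors (ModuleCat.{u} A) c).hom.naturality
    (toTop L c ≫ (HomologicalComplex.single (ModuleCat.{u} A) (ComplexShape.up ℤ) c).map ρ)
  rw [Functor.comp_map, h, Functor.map_zero, zero_comp] at hn
  have h0 : HomologicalComplex.homologyMap (toTop L c ≫
      (HomologicalComplex.single (ModuleCat.{u} A) (ComplexShape.up ℤ) c).map ρ) c = 0 := by
    have h2 : ((DerivedCategory.homologyFunctorFactors (ModuleCat.{u} A) c).app L).hom ≫
        HomologicalComplex.homologyMap (toTop L c ≫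
          (HomologicalComplex.single (ModuleCat.{u} A) (ComplexShape.up ℤ) c).map ρ) c =
        ((DerivedCategory.homologyFunctorFactors (ModuleCat.{u} A) c).app L).hom ≫ 0 := by
      rw [comp_zero]
      exact hn.symm
    exact (cancel_epi ((DerivedCategory.homologyFunctorFactors (ModuleCat.{u} A) c).app L).hom).mp h2
  rw [HomologicalComplex.homologyMap_comp] at h0
  have h1 : (HomologicalComplex.homologyMap (toTop L c) c ≫ HomologicalComplex.homologyMap
      ((HomologicalComplex.single (ModuleCat.{u} A) (ComplexShape.up ℤ) c).map ρ) c) ≫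
      (HomologicalComplex.singleObjHomologySelfIso (ComplexShape.up ℤ) c N).hom =
      0 ≫ (HomologicalComplex.singleObjHomologySelfIso (ComplexShape.up ℤ) c N).hom := by
    rw [h0]
  rw [Category.assoc, HomologicalComplex.singleObjHomologySelfIso_hom_naturality,
    ← Category.assoc, homologyMap_toTop, Category.id_comp, zero_comp] at h1
  exact h1

end top

/-- Nakayama step: the top cohomology of a derived complete object without maps to restricted
objects vanishes -/
theorem hz_of_hom_eq_zero (hI : I.FG) (T : Dual.D A) (hT : DRing.IsDerivedComplete I T) (c : ℤ)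
    (hle : ∀ i, c < i → HZ T i)
    (hhom : ∀ (Y : Dual.D (A ⧸ I)) (x : T ⟶ (res I).obj Y), x = 0) : HZ T c := by
  haveI : T.IsLE c := isLE_of_HD T c (fun i hi => (hz_iff_subsingleton T i).mp (hle i hi))
  obtain ⟨L, hL, ⟨e⟩⟩ := T.exists_iso_Q_obj_of_isLE c
  haveI := hL
  let ε : (DerivedCategory.homologyFunctor (ModuleCat.{u} A) c).obj T ≅ L.homology c :=
    (DerivedCategory.homologyFunctor (ModuleCat.{u} A) c).mapIso e ≪≫ homologyToDIso L c
  have hM : ∀ f ∈ I, Function.Bijective (seqOp f (L.homology c)) := by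
    intro f hf
    have h1 := (isDerivedComplete_iff_homology I T).mp hT c
    rw [isDerivedComplete_module_iff] at h1
    exact seqOp_bijective_of_equiv f ε.toLinearEquiv (h1 f hf)
  suffices hsub : Subsingleton (L.homology c) by
    haveI := hsub
    exact (ModuleCat.isZero_of_subsingleton _).of_iso ε
  apply subsingleton_of_smul_top_eq_top I hI _ hM
  let NB : ModuleCat.{u} (A ⧸ I) :=
    ModuleCat.of (A ⧸ I) ((L.homology c) ⧸ (I • ⊤ : Submodule A (L.homology c)))
  let ρl : (L.homology c) →ₗ[A] ((rF (qm I)).obj NB) :=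
    { toFun := fun x => (Submodule.Quotient.mk x : (L.homology c) ⧸ (I • ⊤ : Submodule A (L.homology c)))
      map_add' := fun x y => rfl
      map_smul' := fun a x => rfl }
  let ρ : L.homology c ⟶ (rF (qm I)).obj NB := ModuleCat.ofHom ρl
  let α := (DerivedCategory.singleFunctorIsoCompQ (ModuleCat.{u} A) c).app ((rF (qm I)).obj NB)
  let β := rDSingle (qm I) c NB
  have h0 : e.hom ≫ Q.map (toTop L c ≫
      (HomologicalComplex.single (ModuleCat.{u} A) (ComplexShape.up ℤ) c).map ρ) ≫
        α.inv ≫ β.inv = 0 := hhom _ _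
  have h1 : Q.map (toTop L c ≫
      (HomologicalComplex.single (ModuleCat.{u} A) (ComplexShape.up ℤ) c).map ρ) = 0 := by
    have h2 : e.hom ≫ Q.map (toTop L c ≫
        (HomologicalComplex.single (ModuleCat.{u} A) (ComplexShape.up ℤ) c).map ρ) ≫
          (α.inv ≫ β.inv) = e.hom ≫ 0 ≫ (α.inv ≫ β.inv) := by
      rw [zero_comp, comp_zero]
      exact h0
    have h3 := (cancel_epi e.hom).mp h2
    exact (cancel_mono (α.inv ≫ β.inv)).mp h3
  have hρ : ρ = 0 := eq_zero_of_Q_map_eq_zero L c ρ h1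
  rw [eq_top_iff]
  rintro x -
  have hx := congrArg (fun t => t.hom x) hρ
  have hx' : (Submodule.Quotient.mk x :
      (L.homology c) ⧸ (I • ⊤ : Submodule A (L.homology c))) = 0 := hx
  exact (Submodule.Quotient.mk_eq_zero _).mp hx'

variable (I)

lemma eeq_unit [DRing.HasDerivedCompletion I] (X : Dual.D A) :
    EEq I (DRing.toDerivedCompletion I X) :=
  fun Y => toDerivedCompletion_bijective I X _ (isDerivedComplete_res I Y)

/-- **Criterion**: a map to a bounded above derived complete object which is an `EEq` is the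
derived completion. -/
theorem exists_iso_of_eeq [DRing.HasDerivedCompletion I] (fs : List A)
    (hspan : Ideal.span {a | a ∈ fs} = I) {X Y : Dual.D A} (η : X ⟶ Y)
    (hY : DRing.IsDerivedComplete I Y) (b : ℤ) (hXb : ∀ i, b < i → HZ X i)
    (hYb : ∀ i, b < i → HZ Y i) (hη : EEq I η) :
    ∃ ψ : ((DRing.derivedCompletion I).obj X).obj ≅ Y,
      DRing.toDerivedCompletion I X ≫ ψ.hom = η := by
  have hI : I.FG := by
    classical
    rw [← hspan]
    exact ⟨fs.toFinset, by rw [List.coe_toFinset]⟩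
  have hC : DRing.IsDerivedComplete I ((DRing.derivedCompletion I).obj X).obj :=
    ((DRing.derivedCompletion I).obj X).property
  obtain ⟨ψ₀, hψ₀⟩ := (toDerivedCompletion_bijective I X Y hY).2 η
  dsimp only at hψ₀
  have hψ : EEq I ψ₀ := EEq.of_comp (eeq_unit I X) (by rw [hψ₀]; exact hη)
  obtain ⟨T, g, h, hT⟩ := distinguished_cocone_triangle ψ₀
  have hTc : DRing.IsDerivedComplete I T := isDerivedComplete_obj₃ I _ hT hC hY
  have hhom : ∀ (Y' : Dual.D (A ⧸ I)) (x : T ⟶ (res I).obj Y'), x = 0 :=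
    fun Y' x => hom_eq_zero_of_eeq _ hT hψ Y' x
  have hXc : ∀ i, b < i → HZ ((DRing.derivedCompletion I).obj X).obj i := fun i hi =>
    Groth.Agent.Helper6.DComplLES.hz_derivedCompletion I fs hspan X i
      (fun j hj _ => hXb j (by omega))
  have hTb : ∀ i, b < i → HZ T i := fun i hi =>
    hz_obj₃ _ hT i (i + 1) rfl (hYb i hi) (hXc (i + 1) (by omega))
  have hk : ∀ k : ℕ, HZ T (b - k) := by
    intro k
    induction k using Nat.strong_induction_on with
    | _ k ih =>
      apply hz_of_hom_eq_zero hI T hTc (b - k) _ hhom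
      intro i hi
      by_cases hib : b < i
      · exact hTb i hib
      · have : i = b - ((b - i).toNat : ℕ) := by omega
        rw [this]
        exact ih _ (by omega)
  have hall : ∀ i, HZ T i := by
    intro i
    by_cases hib : b < i
    · exact hTb i hib
    · have : i = b - ((b - i).toNat : ℕ) := by omega
      rw [this]
      exact hk _
  haveI : T.IsLE 0 := isLE_of_HD T 0 (fun i _ => (hz_iff_subsingleton T i).mp (hall i))
  haveI : T.IsGE 1 := isGE_of_HD T 1 (fun i _ => (hz_iff_subsingleton T i).mp (hall i))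
  have hzero : IsZero T := TStructure.t.isZero T 0 1 (by omega)
  haveI : IsIso ψ₀ := (Triangle.isZero₃_iff_isIso₁ _ hT).mp hzero
  exact ⟨asIso ψ₀, hψ₀⟩

end Groth.Agent.Helper6.DCAdic2
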