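import Mathlib
import Groth.Prelude.Def_DRing4
import Groth.Prelude.Def_DTen4
import Groth.Agent.Helper3.DRingTor3
import Groth.Agent.Helper3.DRingFin
import Groth.Agent.Helper6.HasLBC
import Groth.Agent.Helper6.LBCAdj
import Groth.Agent.Helper6.LBaseCmp
import Groth.Agent.Helper6.TenCxBdd
import Groth.Agent.Helper6.DCAdic2

/-!
# The flat model `P ⊗ Â` of the derived completion
-/

set_option autoImplicit false
set_option linter.style.haveILetI false
set_option linter.unusedSectionVars false
universe u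
open CategoryTheory CategoryTheory.Limits DerivedCategory MonoidalCategory TensorProduct

attribute [local instance] HasDerivedCategory.standard

namespace Groth.Agent.Helper6.DCAdic3

open Groth.Agent.Helper3.DRingLib Groth.Agent.Helper6.DComplAmp Groth.Agent.Helper6.DCAdic1
  Groth.Agent.Helper6.DCAdic2 Groth.Agent.Helper6.TenCx

variable {A : Type u} [CommRing A] [IsNoetherianRing A] (I : Ideal A)

/-- the completion of the ring, as a module -/
noncomputable abbrev Ahat : ModuleCat.{u} A := ModuleCat.of A (AdicCompletion I A)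

/-- `A → Â` -/
noncomputable def s : 𝟙_ (ModuleCat.{u} A) ⟶ Ahat I :=
  ModuleCat.ofHom (Algebra.linearMap A (AdicCompletion I A))

/-- `X → X ⊗ Â` -/
noncomputable def τ : 𝟭 (ModuleCat.{u} A) ⟶ tensorRight (Ahat I) where
  app X := (ρ_ X).inv ≫ X ◁ s I
  naturality X Y f := by
    dsimp
    rw [← Category.assoc, rightUnitor_inv_naturality, Category.assoc, Category.assoc,
      whisker_exchange]

lemma τ_app_apply (X : ModuleCat.{u} A) (x : X) :
    ((τ I).app X).hom x = x ⊗ₜ[A] (1 : AdicCompletion I A) := by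
  show (X ◁ s I).hom (((ρ_ X).inv).hom x) = _
  erw [ModuleCat.MonoidalCategory.rightUnitor_inv_apply,
    ModuleCat.MonoidalCategory.whiskerLeft_apply]
  congr 1

section hom

lemma exists_sub_mem (r : AdicCompletion I A) :
    ∃ a : A, r - algebraMap A (AdicCompletion I A) a ∈
      (I • ⊤ : Submodule A (AdicCompletion I A)) ∧
      AdicCompletion.evalOneₐ I r = Ideal.Quotient.mk I a := by
  have hI : I.FG := IsNoetherian.noetherian I
  obtain ⟨a, ha⟩ := Ideal.Quotient.mk_surjective (AdicCompletion.evalOneₐ I r)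
  refine ⟨a, ?_, ha.symm⟩
  have hc : r - algebraMap A (AdicCompletion I A) a ∈
      RingHom.ker (AdicCompletion.evalOneₐ I).toRingHom := by
    rw [RingHom.mem_ker]
    show AdicCompletion.evalOneₐ I (r - algebraMap A (AdicCompletion I A) a) = 0
    rw [map_sub, AlgHom.commutes, ← ha]
    exact sub_self _
  rw [AdicCompletion.ker_evalOneₐ_eq_map I hI] at hc
  rw [Ideal.smul_top_eq_map]
  exact hc

/-- linear maps from `X ⊗ Â` to a module killed by `I` are determined on `x ⊗ 1` -/
lemma k_tmul_eq {X : Type u} [AddCommGroup X] [Module A X] {N : Type u} [AddCommGroup N]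
    [Module A N] (hN : ∀ f ∈ I, ∀ y : N, f • y = 0)
    (k : TensorProduct A X (AdicCompletion I A) →ₗ[A] N) (x : X) (r : AdicCompletion I A) (a : A)
    (hc : r - algebraMap A (AdicCompletion I A) a ∈ (I • ⊤ : Submodule A (AdicCompletion I A))) :
    k (x ⊗ₜ r) = a • k (x ⊗ₜ 1) := by
  have h0 : ∀ c ∈ (I • ⊤ : Submodule A (AdicCompletion I A)), k (x ⊗ₜ c) = 0 := by
    intro c hc
    refine Submodule.smul_induction_on hc (fun i hi r' _ => ?_) (fun c₁ c₂ h1 h2 => ?_)
    · rw [TensorProduct.tmul_smul, map_smul]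
      exact hN i hi _
    · rw [TensorProduct.tmul_add, map_add, h1, h2, add_zero]
  have e : r = (r - algebraMap A (AdicCompletion I A) a) + a • (1 : AdicCompletion I A) := by
    rw [← Algebra.algebraMap_eq_smul_one]; abel
  conv_lhs => rw [e]
  rw [TensorProduct.tmul_add, map_add, h0 _ hc, zero_add, TensorProduct.tmul_smul, map_smul]

/-- the `A/I`-action on a restricted module -/
def bsm (N : ModuleCat.{u} (A ⧸ I)) (b : A ⧸ I) (y : (rF (qm I)).obj N) : (rF (qm I)).obj N :=
  (show N from b • (show N from y))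

lemma bsm_add (N : ModuleCat.{u} (A ⧸ I)) (b : A ⧸ I) (y₁ y₂ : (rF (qm I)).obj N) :
    bsm I N b (y₁ + y₂) = bsm I N b y₁ + bsm I N b y₂ :=
  smul_add (M := A ⧸ I) (A := N) b y₁ y₂

lemma bsm_smul (N : ModuleCat.{u} (A ⧸ I)) (b : A ⧸ I) (c : A) (y : (rF (qm I)).obj N) :
    bsm I N b (c • y) = c • bsm I N b y :=
  smul_comm (M := A ⧸ I) (N := A ⧸ I) (α := N) b (qm I c) y

lemma add_bsm (N : ModuleCat.{u} (A ⧸ I)) (b₁ b₂ : A ⧸ I) (y : (rF (qm I)).obj N) :
    bsm I N (b₁ + b₂) y = bsm I N b₁ y + bsm I N b₂ y :=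
  add_smul (R := A ⧸ I) (M := N) b₁ b₂ y

lemma smul_bsm (N : ModuleCat.{u} (A ⧸ I)) (c : A) (b : A ⧸ I) (y : (rF (qm I)).obj N) :
    bsm I N (c • b) y = c • bsm I N b y := by
  have h : c • b = qm I c * b := Algebra.smul_def c b
  rw [h]
  exact mul_smul (α := A ⧸ I) (β := N) (qm I c) b y

lemma one_bsm (N : ModuleCat.{u} (A ⧸ I)) (y : (rF (qm I)).obj N) : bsm I N 1 y = y :=
  one_smul (M := A ⧸ I) (α := N) y

/-- `Hom(X ⊗ Â, N) → Hom(X, N)` is bijective for `N` an `A/I`-module -/
theorem bijective_precomp_τ (X : ModuleCat.{u} A) (N : ModuleCat.{u} (A ⧸ I)) :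
    Function.Bijective
      (fun k : (tensorRight (Ahat I)).obj X ⟶ (rF (qm I)).obj N => (τ I).app X ≫ k) := by
  have hN : ∀ f ∈ I, ∀ y : (rF (qm I)).obj N, f • y = 0 :=
    fun f hf y => smul_eq_zero_res I N f hf y
  constructor
  · intro k₁ k₂ h
    apply ModuleCat.hom_ext
    apply TensorProduct.ext'
    intro x r
    obtain ⟨a, hc, -⟩ := exists_sub_mem I r
    have e1 := k_tmul_eq I hN k₁.hom x r a hc
    have e2 := k_tmul_eq I hN k₂.hom x r a hc
    have e3 : k₁.hom (x ⊗ₜ[A] (1 : AdicCompletion I A)) = k₂.hom (x ⊗ₜ[A] (1 : AdicCompletion I A)) := by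
      have := congrArg (fun t => t.hom x) h
      dsimp only at this
      rw [ModuleCat.hom_comp, ModuleCat.hom_comp, LinearMap.comp_apply, LinearMap.comp_apply,
        τ_app_apply] at this
      exact this
    exact e1.trans ((congrArg (fun t => a • t) e3).trans e2.symm)
  · intro h
    let β : X →ₗ[A] (AdicCompletion I A) →ₗ[A] ((rF (qm I)).obj N) :=
      LinearMap.mk₂ A (fun x r => bsm I N (AdicCompletion.evalOneₐ I r) (h.hom x))
        (fun x₁ x₂ r => by
          show bsm I N _ (h.hom (x₁ + x₂)) = _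
          rw [map_add, bsm_add])
        (fun c x r => by
          show bsm I N _ (h.hom (c • x)) = _
          rw [map_smul, bsm_smul])
        (fun x r₁ r₂ => by
          show bsm I N (AdicCompletion.evalOneₐ I (r₁ + r₂)) _ = _
          rw [map_add, add_bsm])
        (fun c x r => by
          show bsm I N (AdicCompletion.evalOneₐ I (c • r)) _ = _
          rw [map_smul, smul_bsm])
    let k : (tensorRight (Ahat I)).obj X ⟶ (rF (qm I)).obj N :=
      ModuleCat.ofHom (X := TensorProduct A X (AdicCompletion I A)) (Y := ((rF (qm I)).obj N))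
        (TensorProduct.lift β)
    refine ⟨k, ?_⟩
    apply ModuleCat.hom_ext
    ext x
    show (TensorProduct.lift β) (((τ I).app X).hom x) = h.hom x
    rw [τ_app_apply, TensorProduct.lift.tmul]
    show bsm I N (AdicCompletion.evalOneₐ I 1) (h.hom x) = _
    rw [map_one, one_bsm]

/-- base change to `A/I` inverts `X → X ⊗ Â` -/
theorem isIso_ext_τ (X : ModuleCat.{u} A) :
    IsIso ((ModuleCat.extendScalars.{u, u, u} (qm I)).map ((τ I).app X)) := by
  apply isIso_of_coyoneda_map_bijective
  intro N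
  let adj := ModuleCat.extendRestrictScalarsAdj.{u, u, u} (qm I)
  have e : (adj.homEquiv X N) ∘
      (fun k : (ModuleCat.extendScalars.{u, u, u} (qm I)).obj ((tensorRight (Ahat I)).obj X) ⟶ N =>
        (ModuleCat.extendScalars.{u, u, u} (qm I)).map ((τ I).app X) ≫ k) =
      (fun k' : (tensorRight (Ahat I)).obj X ⟶ (rF (qm I)).obj N => (τ I).app X ≫ k') ∘
        (adj.homEquiv ((tensorRight (Ahat I)).obj X) N) := by
    funext k
    simp only [Function.comp_apply]
    rw [Adjunction.homEquiv_naturality_left]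
  have h2 : Function.Bijective ((adj.homEquiv X N) ∘
      (fun k : (ModuleCat.extendScalars.{u, u, u} (qm I)).obj ((tensorRight (Ahat I)).obj X) ⟶ N =>
        (ModuleCat.extendScalars.{u, u, u} (qm I)).map ((τ I).app X) ≫ k)) := by
    rw [e]
    exact (bijective_precomp_τ I X N).comp (adj.homEquiv _ _).bijective
  exact (Function.Bijective.of_comp_iff' (adj.homEquiv X N).bijective _).mp h2

end hom

section cx

/-- `P → P ⊗ Â` -/
noncomputable def η₀ (P : DRing.Cx A) : P ⟶ DRing.tensorCx P (Ahat I) where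
  f i := (τ I).app (P.X i)
  comm' i j _ := ((τ I).naturality (P.d i j)).symm

lemma isIso_extCx_η₀ (P : DRing.Cx A) : IsIso ((DTen.extCx (qm I)).map (η₀ I P)) := by
  haveI : ∀ i, IsIso (((DTen.extCx (qm I)).map (η₀ I P)).f i) := fun i => isIso_ext_τ I (P.X i)
  exact HomologicalComplex.Hom.isIso_of_components _

lemma kflat_hat (P : DRing.Cx A) (b : ℤ) (hb : DRing.VanishesAbove P b)
    (hP : ∀ i, Module.Flat A (P.X i)) : KFlat (DRing.tensorCx P (Ahat I)) := by
  refine kflat_of_boundedAbove_flat _ b (fun i hi => tensorCx_isZero_X P _ i (hb i hi)) (fun i => ?_)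
  haveI := hP i
  show Module.Flat A (TensorProduct A (P.X i) (AdicCompletion I A))
  infer_instance

/-- `P → P ⊗ Â` induces bijections on maps to objects restricted from `A/I` -/
theorem eeq_η₀ (P : DRing.Cx A) (b : ℤ) (hb : DRing.VanishesAbove P b)
    (hP : ∀ i, Module.Flat A (P.X i)) : EEq I (Q.map (η₀ I P)) := by
  haveI : DRing.HasLBaseChange (qm I) := Groth.Agent.Helper6.HasLBC.hasLBaseChange _
  haveI : DTen.HasLBase (qm I) := ⟨(Groth.Agent.Helper6.LBCAdj.adj (qm I)).isRightAdjoint⟩
  have k1 : KFlat P := kflat_of_boundedAbove_flat P b hb hP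
  have k2 : KFlat (DRing.tensorCx P (Ahat I)) := kflat_hat I P b hb hP
  haveI := Groth.Agent.Helper6.LBaseCmp.isIso_baseCmp_of_kflat (qm I) P k1
  haveI := Groth.Agent.Helper6.LBaseCmp.isIso_baseCmp_of_kflat (qm I) _ k2
  haveI := isIso_extCx_η₀ I P
  have hn := (DTen.baseCmp (qm I)).naturality (η₀ I P)
  haveI : IsIso ((DTen.LBase (qm I)).map (Q.map (η₀ I P))) := by
    have h1 : IsIso ((Q ⋙ DTen.LBase (qm I)).map (η₀ I P) ≫
        (DTen.baseCmp (qm I)).app (DRing.tensorCx P (Ahat I))) := by
      rw [hn]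
      haveI : IsIso ((DTen.extCx (qm I) ⋙ Q).map (η₀ I P)) := by
        rw [Functor.comp_map]; infer_instance
      infer_instance
    exact IsIso.of_isIso_comp_right ((Q ⋙ DTen.LBase (qm I)).map (η₀ I P))
      ((DTen.baseCmp (qm I)).app (DRing.tensorCx P (Ahat I)))
  intro Y
  let adj := DTen.baseAdj (qm I)
  have e : (fun g : Q.obj (DRing.tensorCx P (Ahat I)) ⟶ (res I).obj Y => Q.map (η₀ I P) ≫ g) ∘
      (adj.homEquiv (Q.obj (DRing.tensorCx P (Ahat I))) Y) =
      (adj.homEquiv (Q.obj P) Y) ∘
        (fun k : (DTen.LBase (qm I)).obj (Q.obj (DRing.tensorCx P (Ahat I))) ⟶ Y =>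
          (DTen.LBase (qm I)).map (Q.map (η₀ I P)) ≫ k) := by
    funext k
    simp only [Function.comp_apply]
    rw [Adjunction.homEquiv_naturality_left]
  have h2 : Function.Bijective ((adj.homEquiv (Q.obj P) Y) ∘
      (fun k : (DTen.LBase (qm I)).obj (Q.obj (DRing.tensorCx P (Ahat I))) ⟶ Y =>
        (DTen.LBase (qm I)).map (Q.map (η₀ I P)) ≫ k)) :=
    (adj.homEquiv _ _).bijective.comp
      (Groth.Agent.Helper6.LBaseCmp.bijective_precomp_iso _ _)
  rw [← e] at h2
  exact (Function.Bijective.of_comp_iff _ (adj.homEquiv _ _).bijective).mp h2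

end cx

section homology

lemma preservesHomology_G : (tensorRight (Ahat I)).PreservesHomology := by
  have h1 : PreservesFiniteLimits (tensorRight (Ahat I)) := inferInstance
  have h2 : PreservesFiniteColimits (tensorRight (Ahat I)) := inferInstance
  have := ((Functor.exact_tfae (tensorRight (Ahat I))).out 3 2)
  exact this.mp ⟨h1, h2⟩

lemma preservesHomology_id : (𝟭 (ModuleCat.{u} A)).PreservesHomology := by
  have h1 : PreservesFiniteLimits (𝟭 (ModuleCat.{u} A)) := inferInstance
  have h2 : PreservesFiniteColimits (𝟭 (ModuleCat.{u} A)) := inferInstance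
  have := ((Functor.exact_tfae (𝟭 (ModuleCat.{u} A))).out 3 2)
  exact this.mp ⟨h1, h2⟩

/-- the map induced on cohomology by `P → P ⊗ Â` is a completion map -/
theorem isComplMap_homologyMap_η₀ (P : DRing.Cx A) (n : ℤ) [Module.Finite A (P.homology n)] :
    IsComplMap I (HomologicalComplex.homologyMap (η₀ I P) n).hom := by
  haveI := preservesHomology_G I
  haveI := preservesHomology_id (A := A)
  have key : HomologicalComplex.homologyMap (η₀ I P) n =
      ((P.sc n).mapHomologyIso (𝟭 (ModuleCat.{u} A))).hom ≫ (τ I).app (P.sc n).homology ≫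
        ((P.sc n).mapHomologyIso (tensorRight (Ahat I))).inv :=
    ShortComplex.homologyMap_mapNatTrans (P.sc n) (τ I)
  have base : IsComplMap I ((τ I).app (P.sc n).homology).hom :=
    isComplMap_tmul_one (I := I) (P.homology n) _ (τ_app_apply I _)
  have step1 := base.equiv_comp ((P.sc n).mapHomologyIso (𝟭 (ModuleCat.{u} A))).toLinearEquiv
  have step2 := step1.comp_equiv
    ((P.sc n).mapHomologyIso (tensorRight (Ahat I))).symm.toLinearEquiv
  rw [key]
  exact step2

/-- the map induced on cohomology in `D(A)` by `P → P ⊗ Â` is a completion map -/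
theorem isComplMap_HD_η₀ (P : DRing.Cx A) (n : ℤ) [Module.Finite A (P.homology n)] :
    IsComplMap I ((DerivedCategory.homologyFunctor (ModuleCat.{u} A) n).map
      (Q.map (η₀ I P))).hom := by
  let fa := (DerivedCategory.homologyFunctorFactors (ModuleCat.{u} A) n).app P
  let fb := (DerivedCategory.homologyFunctorFactors (ModuleCat.{u} A) n).app
    (DRing.tensorCx P (Ahat I))
  have hn := (DerivedCategory.homologyFunctorFactors (ModuleCat.{u} A) n).hom.naturality (η₀ I P)
  have key : (DerivedCategory.homologyFunctor (ModuleCat.{u} A) n).map (Q.map (η₀ I P)) =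
      fa.hom ≫ (HomologicalComplex.homologyFunctor (ModuleCat.{u} A) (ComplexShape.up ℤ) n).map
        (η₀ I P) ≫ fb.inv :=
    ((Iso.eq_comp_inv fb).mpr hn).trans (Category.assoc _ _ _)
  have step1 := (isComplMap_homologyMap_η₀ I P n).equiv_comp fa.toLinearEquiv
  have step2 := step1.comp_equiv fb.symm.toLinearEquiv
  rw [key]
  exact step2

/-- `Q (P ⊗ Â)` is derived complete when `P` has finite cohomology -/
theorem isDerivedComplete_hat (P : DRing.Cx A) (hfin : ∀ n, Module.Finite A (P.homology n)) :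
    DRing.IsDerivedComplete I (Q.obj (DRing.tensorCx P (Ahat I))) := by
  rw [isDerivedComplete_iff_homology]
  intro i
  haveI := hfin i
  have hc := (isComplMap_HD_η₀ I P i).1
  haveI : IsAdicComplete I (Dual.HD A (Q.obj (DRing.tensorCx P (Ahat I))) i) :=
    (AdicCompletion.of_bijective_iff).mp hc
  exact isDerivedComplete_of_isAdicComplete I _

end homology

end Groth.Agent.Helper6.DCAdic3
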