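import Mathlib
import Groth.Prelude.Def_DRing4
import Groth.Agent.Helper3.DRingResP
import Groth.Agent.Helper6.DCAdic3

/-!
# Cohomology of the derived completion of a complex with finite cohomology (noetherian case)
-/

set_option autoImplicit false
set_option linter.style.haveILetI false
set_option linter.unusedSectionVars false
universe u
open CategoryTheory CategoryTheory.Limits DerivedCategory

attribute [local instance] HasDerivedCategory.standard

namespace Groth.Agent.Helper6.DCAdic4

open Groth.Agent.Helper3.DRingLib Groth.Agent.Helper6.DComplAmp Groth.Agent.Helper6.DCAdic1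
  Groth.Agent.Helper6.DCAdic2 Groth.Agent.Helper6.DCAdic3

variable {A : Type u} [CommRing A] [IsNoetherianRing A] (I : Ideal A)
  [DRing.HasDerivedCompletion I]

/-- bounded above case -/
theorem isComplMap_of_boundedAbove (fs : List A) (hspan : Ideal.span {a | a ∈ fs} = I)
    (P : DRing.Cx A) (b : ℤ) (hb : DRing.VanishesAbove P b)
    (hP : ∀ i, Module.Flat A (P.X i)) (hfin : ∀ n, Module.Finite A (P.homology n)) (n : ℤ) :
    IsComplMap I ((DerivedCategory.homologyFunctor (ModuleCat.{u} A) n).map
      (DRing.toDerivedCompletion I (Q.obj P))).hom := by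
  haveI := hfin n
  have hY := isDerivedComplete_hat I P hfin
  have hXb : ∀ i, b < i → HZ (Q.obj P) i := fun i hi =>
    (hz_Q_iff P i).mpr (exactAt_of_isZero_X P i (hb i hi))
  have hYb : ∀ i, b < i → HZ (Q.obj (DRing.tensorCx P (Ahat I))) i := fun i hi =>
    (hz_Q_iff _ i).mpr (exactAt_of_isZero_X _ i (tensorCx_isZero_X P _ i (hb i hi)))
  obtain ⟨ψ, hψ⟩ := exists_iso_of_eeq I fs hspan (Q.map (η₀ I P)) hY b hXb hYb
    (eeq_η₀ I P b hb hP)
  let hF := DerivedCategory.homologyFunctor (ModuleCat.{u} A) n
  have e : hF.map (DRing.toDerivedCompletion I (Q.obj P)) =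
      hF.map (Q.map (η₀ I P)) ≫ (hF.mapIso ψ).inv := by
    rw [← hψ, Functor.map_comp, Category.assoc, Functor.mapIso_inv, ← Functor.map_comp,
      Iso.hom_inv_id, CategoryTheory.Functor.map_id, Category.comp_id]
  have step := (isComplMap_HD_η₀ I P n).comp_equiv (hF.mapIso ψ).symm.toLinearEquiv
  rw [e]
  exact step

lemma isIso_HD_of_quasiIsoAt {K L : DRing.Cx A} (f : K ⟶ L) (j : ℤ) (h : QuasiIsoAt f j) :
    IsIso ((DerivedCategory.homologyFunctor (ModuleCat.{u} A) j).map (Q.map f)) := by
  have h1 : IsIso ((HomologicalComplex.homologyFunctor (ModuleCat.{u} A) (ComplexShape.up ℤ) j).map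
      f) := (quasiIsoAt_iff_isIso_homologyMap f j).mp h
  exact (NatIso.isIso_map_iff (DerivedCategory.homologyFunctorFactors (ModuleCat.{u} A) j) f).mpr h1

/-- **Cohomology of the derived completion**: the map `Hⁿ(K) → Hⁿ(K^)` is the adic completion -/
theorem isComplMap_toDerivedCompletion (K : Dual.D A)
    (hK : ∀ n : ℤ, Module.Finite A (Dual.HD A K n)) (n : ℤ) :
    IsComplMap I ((DerivedCategory.homologyFunctor (ModuleCat.{u} A) n).map
      (DRing.toDerivedCompletion I K)).hom := by
  obtain ⟨fs, hfs⟩ := Groth.Agent.Helper6.DerNak.exists_list_of_fg I (IsNoetherian.noetherian I)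
  have hspan : Ideal.span {a | a ∈ fs} = I := hfs.symm
  obtain ⟨b, hbdef⟩ : ∃ b : ℤ, b = n + fs.length := ⟨_, rfl⟩
  let L : DRing.Cx A := Q.objPreimage K
  let e₀ : Q.obj L ≅ K := Q.objObjPreimageIso K
  let L₁ : DRing.Cx A := L.truncLE b
  have hL₁ : (DRing.toD L₁).IsLE b := inferInstance
  obtain ⟨P, α, hb, hproj, hq⟩ := exists_projective_resolution L₁ b hL₁
  haveI : IsIso (Q.map α) := (DerivedCategory.isIso_Q_map_iff_quasiIso _ _).mpr hq
  let φ : Q.obj P ⟶ K := Q.map α ≫ Q.map (L.ιTruncLE b) ≫ e₀.hom
  -- cohomology of `φ`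
  have hφiso : ∀ j, j ≤ b → IsIso ((DerivedCategory.homologyFunctor (ModuleCat.{u} A) j).map φ) := by
    intro j hj
    haveI := isIso_HD_of_quasiIsoAt (L.ιTruncLE b) j (L.quasiIsoAt_ιTruncLE b j hj)
    dsimp only [φ]
    rw [Functor.map_comp, Functor.map_comp]
    infer_instance
  have hPz : ∀ j, b < j → HZ (Q.obj P) j := fun j hj =>
    (hz_Q_iff P j).mpr (exactAt_of_isZero_X P j (hb j hj))
  have hφmono : ∀ j, Mono ((DerivedCategory.homologyFunctor (ModuleCat.{u} A) j).map φ) := by
    intro j
    by_cases hj : j ≤ b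
    · haveI := hφiso j hj
      infer_instance
    · exact ⟨fun g h _ => (hPz j (by omega)).eq_of_tgt g h⟩
  -- finiteness
  have hfin : ∀ j, Module.Finite A (P.homology j) := by
    intro j
    by_cases hj : j ≤ b
    · haveI := hφiso j hj
      have e1 : (DerivedCategory.homologyFunctor (ModuleCat.{u} A) j).obj K ≅ P.homology j :=
        (asIso ((DerivedCategory.homologyFunctor (ModuleCat.{u} A) j).map φ)).symm ≪≫
          homologyToDIso P j
      exact finite_of_iso e1 (hK j)
    · have hz : IsZero (P.homology j) := (hPz j (by omega)).of_iso (homologyToDIso P j).symm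
      haveI := ModuleCat.subsingleton_of_isZero hz
      infer_instance
  have hflat : ∀ i, Module.Flat A (P.X i) := fun i => by
    haveI := hproj i
    infer_instance
  have hB := isComplMap_of_boundedAbove I fs hspan P b hb hflat hfin n
  -- the completion of `φ`
  obtain ⟨M, hM1, hM2, hM3⟩ := Groth.Agent.Helper6.DComplLES.exists_triangle_completion I φ
  have hMz : ∀ i, i ≤ b → HZ M i := by
    intro i hi
    haveI := hφiso i hi
    exact hM1 i (i + 1) rfl inferInstance (hφmono (i + 1))
  have hMc : ∀ i, i + fs.length ≤ b → HZ ((DRing.derivedCompletion I).obj M).obj i := by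
    intro i hi
    exact Groth.Agent.Helper6.DComplLES.hz_derivedCompletion I fs hspan M i
      (fun j _ hj2 => hMz j (by omega))
  haveI hepi := hM2 n (hMc n (by omega))
  haveI hmono := hM3 (n - 1) n (by omega) (hMc (n - 1) (by omega))
  haveI : IsIso ((DerivedCategory.homologyFunctor (ModuleCat.{u} A) n).map
      ((DRing.derivedCompletion I).map φ).hom) := isIso_of_mono_of_epi _
  haveI := hφiso n (by omega)
  -- naturality of the unit
  have hnat : φ ≫ DRing.toDerivedCompletion I K =
      DRing.toDerivedCompletion I (Q.obj P) ≫ ((DRing.derivedCompletion I).map φ).hom :=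
    (DRing.derivedCompletionAdj I).unit.naturality φ
  let hF := DerivedCategory.homologyFunctor (ModuleCat.{u} A) n
  have e : hF.map (DRing.toDerivedCompletion I K) =
      inv (hF.map φ) ≫ hF.map (DRing.toDerivedCompletion I (Q.obj P)) ≫
        hF.map ((DRing.derivedCompletion I).map φ).hom := by
    rw [IsIso.eq_inv_comp, ← Functor.map_comp, ← Functor.map_comp, hnat]
  have step1 := hB.equiv_comp (asIso (hF.map φ)).symm.toLinearEquiv
  have step2 := step1.comp_equiv
    (asIso (hF.map ((DRing.derivedCompletion I).map φ).hom)).toLinearEquiv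
  rw [e]
  exact step2

end Groth.Agent.Helper6.DCAdic4
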