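import Mathlib
import Groth.Prelude.Def_DRing4
import Groth.Agent.S0543
import Groth.Agent.Helper6.DCAdic4
import Groth.Agent.Helper6.DComplAdj

/-!
# Derived complete modules with finite reduction (noetherian case)
-/

set_option autoImplicit false
set_option linter.style.haveILetI false
set_option linter.unusedSectionVars false
universe u
open CategoryTheory CategoryTheory.Limits

attribute [local instance] HasDerivedCategory.standard

namespace Groth.Agent.Helper6.DCFin1

open Groth.Agent.Helper3.DRingLib Groth.Agent.Helper6.DCAdic1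

variable {A : Type u} [CommRing A]

lemma seqOp_injective_of_isHausdorff (I : Ideal A) (f : A) (hf : f ∈ I)
    (N : Type u) [AddCommGroup N] [Module A N] [IsHausdorff I N] :
    Function.Injective (seqOp f N) := by
  rw [seqOp_injective_iff]
  intro x hx
  have h1 : ∀ n, f • x (n + 1) = x n := fun n => by
    have := congrFun hx n
    simpa [seqOp, sub_eq_zero] using this
  have h2 : ∀ j n, x n = f ^ j • x (n + j) := by
    intro j
    induction j with
    | zero => intro n; simp
    | succ j ih =>
      intro n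
      rw [ih n, ← h1 (n + j), smul_smul, pow_succ, add_assoc]
  funext n
  refine IsHausdorff.haus (inferInstance : IsHausdorff I N) (x n) (fun j => ?_)
  rw [SModEq.zero, h2 j n]
  exact Submodule.smul_mem_smul (Ideal.pow_mem_pow hf j) Submodule.mem_top

section core

variable [IsNoetherianRing A] (I : Ideal A)

lemma finite_hat (F : Type u) [AddCommGroup F] [Module A F] [Module.Finite A F] :
    Module.Finite (AdicCompletion I A) (AdicCompletion I F) :=
  Module.Finite.of_surjective (AdicCompletion.ofTensorProduct I F)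
    (AdicCompletion.ofTensorProduct_surjective_of_finite I F)

lemma exists_sub_mem_map (a : AdicCompletion I A) :
    ∃ a₀ : A, a - algebraMap A (AdicCompletion I A) a₀ ∈
      I.map (algebraMap A (AdicCompletion I A)) := by
  obtain ⟨a₀, ha₀⟩ := Ideal.Quotient.mk_surjective (AdicCompletion.evalOneₐ I a)
  refine ⟨a₀, ?_⟩
  rw [← AdicCompletion.ker_evalOneₐ_eq_map I (IsNoetherian.noetherian I), RingHom.mem_ker]
  show (AdicCompletion.evalOneₐ I) (a - algebraMap A (AdicCompletion I A) a₀) = 0
  rw [map_sub, AlgHom.commutes, ← ha₀, Ideal.Quotient.algebraMap_eq, sub_self]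

lemma map_smul_mem {X : Type u} [AddCommGroup X] [Module A X] [Module (AdicCompletion I A) X]
    [IsScalarTower A (AdicCompletion I A) X] (N' : Submodule (AdicCompletion I A) X)
    (j : AdicCompletion I A) (hj : j ∈ I.map (algebraMap A (AdicCompletion I A))) :
    ∀ c ∈ N', j • c ∈ I • (N'.restrictScalars A) := by
  have hj' : j ∈ Submodule.span (AdicCompletion I A)
      ((algebraMap A (AdicCompletion I A)) '' (I : Set A)) := hj
  refine Submodule.span_induction
    (p := fun j _ => ∀ c ∈ N', j • c ∈ I • (N'.restrictScalars A)) ?_ ?_ ?_ ?_ hj'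
  · rintro _ ⟨i, hi, rfl⟩ c hc
    rw [algebraMap_smul]
    exact Submodule.smul_mem_smul hi hc
  · intro c _
    rw [zero_smul]
    exact Submodule.zero_mem _
  · intro x y _ _ hx hy c hc
    rw [add_smul]
    exact Submodule.add_mem _ (hx c hc) (hy c hc)
  · intro b x _ hx c hc
    rw [smul_eq_mul, mul_comm, mul_smul]
    exact hx (b • c) (N'.smul_mem b hc)

lemma span_le_sup {X : Type u} [AddCommGroup X] [Module A X] [Module (AdicCompletion I A) X]
    [IsScalarTower A (AdicCompletion I A) X] (N : Submodule A X)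
    (N' : Submodule (AdicCompletion I A) X)
    (hN' : N' = Submodule.span (AdicCompletion I A) (N : Set X)) :
    N'.restrictScalars A ≤ N ⊔ I • (N'.restrictScalars A) := by
  intro c hc
  have hc' : c ∈ Submodule.span (AdicCompletion I A) (N : Set X) := by
    rw [← hN']; exact hc
  refine Submodule.span_induction
    (p := fun c _ => c ∈ N ⊔ I • (N'.restrictScalars A)) ?_ ?_ ?_ ?_ hc'
  · intro x hx
    exact Submodule.mem_sup_left hx
  · exact Submodule.zero_mem _
  · intro x y _ _ hx hy
    exact Submodule.add_mem _ hx hy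
  · intro a x hxs hx
    obtain ⟨a₀, ha₀⟩ := exists_sub_mem_map I a
    have hxN' : x ∈ N' := by rw [hN']; exact hxs
    have e : a • x = a₀ • x + (a - algebraMap A (AdicCompletion I A) a₀) • x := by
      rw [sub_smul, algebraMap_smul]; abel
    rw [e]
    refine Submodule.add_mem _ (Submodule.smul_mem _ a₀ hx) (Submodule.mem_sup_right ?_)
    exact map_smul_mem I N' _ ha₀ x hxN'

/-- the module-level core -/
theorem core (M : Type u) [AddCommGroup M] [Module A M]
    (hM : ∀ f ∈ I, Function.Bijective (seqOp f M))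
    (F : Type u) [AddCommGroup F] [Module A F] [Module.Finite A F]
    (φ : F →ₗ[A] M) (hφ : LinearMap.range φ ⊔ I • (⊤ : Submodule A M) = ⊤)
    (ψ : AdicCompletion I F →ₗ[A] M) (hψ : ∀ x, ψ (AdicCompletion.of I F x) = φ x) :
    IsAdicComplete I M ∧ Module.Finite (AdicCompletion I A) (AdicCompletion I M) := by
  have hfg : I.FG := IsNoetherian.noetherian I
  haveI : IsAdicComplete I (AdicCompletion I F) := AdicCompletion.isAdicComplete hfg
  have hFhat : ∀ f ∈ I, Function.Bijective (seqOp f (AdicCompletion I F)) :=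
    fun f hf => seqOp_bijective_of_isAdicComplete I f hf _
  -- Step 1: `ψ` is surjective (Nakayama)
  have hsurj : Function.Surjective ψ := by
    have hQ : ∀ f ∈ I, Function.Bijective (seqOp f (M ⧸ LinearMap.range ψ)) :=
      fun f hf => seqOp_bijective_coker f ψ (hFhat f hf) (hM f hf)
    have htop : I • (⊤ : Submodule A (M ⧸ LinearMap.range ψ)) = ⊤ := by
      rw [eq_top_iff]
      rintro z -
      obtain ⟨m, rfl⟩ := Submodule.Quotient.mk_surjective _ z
      have hm : m ∈ LinearMap.range φ ⊔ I • (⊤ : Submodule A M) := by rw [hφ]; trivial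
      obtain ⟨m1, hm1, m2, hm2, rfl⟩ := Submodule.mem_sup.mp hm
      obtain ⟨x, rfl⟩ := hm1
      have h1 : (Submodule.Quotient.mk (φ x + m2) : M ⧸ LinearMap.range ψ) =
          Submodule.Quotient.mk m2 := by
        rw [Submodule.Quotient.mk_add]
        have : (Submodule.Quotient.mk (φ x) : M ⧸ LinearMap.range ψ) = 0 := by
          rw [Submodule.Quotient.mk_eq_zero]
          exact ⟨AdicCompletion.of I F x, hψ x⟩
        rw [this, zero_add]
      rw [h1]
      have h2 : Submodule.map (LinearMap.range ψ).mkQ (I • (⊤ : Submodule A M)) ≤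
          I • (⊤ : Submodule A (M ⧸ LinearMap.range ψ)) := by
        rw [Submodule.map_smul'']
        exact smul_mono_right _ le_top
      exact h2 ⟨m2, hm2, rfl⟩
    haveI := subsingleton_of_smul_top_eq_top I hfg (M ⧸ LinearMap.range ψ) hQ htop
    have hr : LinearMap.range ψ = ⊤ := Submodule.Quotient.subsingleton_iff.mp this
    exact LinearMap.range_eq_top.mp hr
  -- Step 2: `M` is precomplete
  have hprec : IsPrecomplete I M := by
    rw [← AdicCompletion.of_surjective_iff]
    intro z
    obtain ⟨w, rfl⟩ := AdicCompletion.map_surjective I hsurj z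
    obtain ⟨c, rfl⟩ := AdicCompletion.of_surjective I (AdicCompletion I F) w
    exact ⟨ψ c, (AdicCompletion.map_of I ψ c).symm⟩
  -- Step 3: the submodule generated by the kernel over the completion
  obtain ⟨N, hN⟩ : ∃ N : Submodule A (AdicCompletion I F), N = LinearMap.ker ψ := ⟨_, rfl⟩
  obtain ⟨N', hN'⟩ : ∃ N' : Submodule (AdicCompletion I A) (AdicCompletion I F),
      N' = Submodule.span (AdicCompletion I A) (N : Set (AdicCompletion I F)) := ⟨_, rfl⟩
  have hNN' : N ≤ N'.restrictScalars A := by
    intro c hc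
    show c ∈ N'
    rw [hN']
    exact Submodule.subset_span hc
  haveI : IsNoetherianRing (AdicCompletion I A) := Groth.Agent.S0543.result A I
  haveI : Module.Finite (AdicCompletion I A) (AdicCompletion I F) := finite_hat I F
  haveI : IsAdicComplete (I.map (algebraMap A (AdicCompletion I A))) (AdicCompletion I A) :=
    AdicCompletion.isAdicComplete_self I hfg
  have hJ : I.map (algebraMap A (AdicCompletion I A)) ≤ Ideal.jacobson ⊥ :=
    IsAdicComplete.le_jacobson_bot _
  haveI hXh : IsHausdorff (I.map (algebraMap A (AdicCompletion I A)))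
      (AdicCompletion I F ⧸ N') := IsHausdorff.of_le_jacobson _ _ hJ
  haveI hXh' : IsHausdorff I (AdicCompletion I F ⧸ N') :=
    (IsHausdorff.map_algebraMap_iff (S := AdicCompletion I A)).mp hXh
  obtain ⟨θ, hθ⟩ : ∃ θ : M →ₗ[A] (AdicCompletion I F ⧸ N'), ∀ c, θ (ψ c) = N'.mkQ c := by
    have hker : LinearMap.ker ψ ≤ LinearMap.ker (N'.mkQ.restrictScalars A) := by
      intro c hc
      rw [LinearMap.mem_ker]
      show N'.mkQ c = 0
      rw [Submodule.mkQ_apply, Submodule.Quotient.mk_eq_zero]
      exact hNN' (by rw [hN]; exact hc)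
    refine ⟨((LinearMap.ker ψ).liftQ (N'.mkQ.restrictScalars A) hker) ∘ₗ
      (LinearMap.quotKerEquivOfSurjective ψ hsurj).symm.toLinearMap, fun c => ?_⟩
    have : (LinearMap.quotKerEquivOfSurjective ψ hsurj).symm (ψ c) =
        Submodule.Quotient.mk c := by
      rw [LinearEquiv.symm_apply_eq]
      exact (LinearMap.quotKerEquivOfSurjective_apply_mk ψ hsurj c).symm
    show ((LinearMap.ker ψ).liftQ (N'.mkQ.restrictScalars A) hker)
      ((LinearMap.quotKerEquivOfSurjective ψ hsurj).symm (ψ c)) = _
    rw [this, Submodule.liftQ_apply]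
    rfl
  -- Step 4: the kernel of `θ` vanishes (Nakayama again)
  have hS : ∀ f ∈ I, Function.Bijective (seqOp f (LinearMap.ker θ)) := fun f hf =>
    seqOp_bijective_ker f θ (hM f hf) (seqOp_injective_of_isHausdorff I f hf _)
  have hmemS : ∀ c : N'.restrictScalars A, ψ (c : AdicCompletion I F) ∈ LinearMap.ker θ := by
    intro c
    rw [LinearMap.mem_ker, hθ, Submodule.mkQ_apply, Submodule.Quotient.mk_eq_zero]
    exact c.2
  obtain ⟨ρ, hρ⟩ : ∃ ρ : (N'.restrictScalars A) →ₗ[A] (LinearMap.ker θ),
      ∀ c, (ρ c : M) = ψ (c : AdicCompletion I F) :=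
    ⟨LinearMap.codRestrict (LinearMap.ker θ) (ψ ∘ₗ (N'.restrictScalars A).subtype) hmemS,
      fun c => rfl⟩
  have hStop : I • (⊤ : Submodule A (LinearMap.ker θ)) = ⊤ := by
    rw [eq_top_iff]
    rintro ⟨s, hs⟩ -
    obtain ⟨c, rfl⟩ := hsurj s
    have hc : c ∈ N' := by
      have h0 : N'.mkQ c = 0 := by rw [← hθ c]; exact hs
      rwa [Submodule.mkQ_apply, Submodule.Quotient.mk_eq_zero] at h0
    have hdec := span_le_sup I N N' hN' hc
    obtain ⟨k, hk, d, hd, rfl⟩ := Submodule.mem_sup.mp hdec
    have hd' : d ∈ Submodule.map (N'.restrictScalars A).subtype (I • ⊤) := by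
      rw [Submodule.map_smul'', Submodule.map_subtype_top]
      exact hd
    obtain ⟨d', hd'mem, rfl⟩ := hd'
    have h3 : ρ d' ∈ I • (⊤ : Submodule A (LinearMap.ker θ)) := by
      have : Submodule.map ρ (I • ⊤) ≤ I • (⊤ : Submodule A (LinearMap.ker θ)) := by
        rw [Submodule.map_smul'']
        exact smul_mono_right _ le_top
      exact this ⟨d', hd'mem, rfl⟩
    have hk0 : ψ k = 0 := by
      rw [hN] at hk
      exact hk
    have e : (⟨ψ (k + (N'.restrictScalars A).subtype d'), hs⟩ : LinearMap.ker θ) = ρ d' := by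
      apply Subtype.ext
      rw [hρ]
      show ψ (k + (N'.restrictScalars A).subtype d') = ψ (d' : AdicCompletion I F)
      rw [map_add, hk0, zero_add]
      rfl
    rw [e]
    exact h3
  haveI := subsingleton_of_smul_top_eq_top I hfg (LinearMap.ker θ) hS hStop
  have hθinj : Function.Injective θ := by
    rw [← LinearMap.ker_eq_bot]
    exact Submodule.eq_bot_of_subsingleton
  -- Step 5: `M` is Hausdorff
  have hhaus : IsHausdorff I M := by
    refine ⟨fun m hm => ?_⟩
    apply hθinj
    rw [map_zero]
    refine IsHausdorff.haus hXh' (θ m) (fun n => ?_)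
    have hmn := hm n
    rw [SModEq.zero] at hmn ⊢
    have h2 : Submodule.map θ (I ^ n • (⊤ : Submodule A M)) ≤
        I ^ n • (⊤ : Submodule A (AdicCompletion I F ⧸ N')) := by
      rw [Submodule.map_smul'']
      exact smul_mono_right _ le_top
    exact h2 ⟨m, hmn, rfl⟩
  have hcompl : IsAdicComplete I M := { toIsHausdorff := hhaus, toIsPrecomplete := hprec }
  refine ⟨hcompl, ?_⟩
  have hφψ : φ = ψ ∘ₗ AdicCompletion.of I F := LinearMap.ext fun x => (hψ x).symm
  have h1 : Function.Surjective (AdicCompletion.map I φ) := by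
    intro z
    obtain ⟨w, rfl⟩ := AdicCompletion.map_surjective I hsurj z
    obtain ⟨v, rfl⟩ := (isComplMap_of hfg F).2.2 w
    exact ⟨v, by rw [hφψ, AdicCompletion.map_comp_apply]⟩
  exact Module.Finite.of_surjective (AdicCompletion.map I φ) h1

end core

end Groth.Agent.Helper6.DCFin1
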