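import Mathlib
import Groth.Prelude.Def_DRing4
import Groth.Agent.Helper6.DCFin1

/-!
# Extending a map from a finite module to a derived complete module over the adic completion
-/

set_option autoImplicit false
set_option linter.style.haveILetI false
set_option linter.unusedSectionVars false
universe u
open CategoryTheory CategoryTheory.Limits

attribute [local instance] HasDerivedCategory.standard

namespace Groth.Agent.Helper6.DCFin2

open Groth.Agent.Helper3.DRingLib Groth.Agent.Helper6.DCAdic1

variable {A : Type u} [CommRing A] [IsNoetherianRing A] (I : Ideal A)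

theorem exists_hat_extension (M : Type u) [AddCommGroup M] [Module A M]
    (hc : DRing.IsDerivedComplete I (Dual.inD A M))
    (F : Type u) [AddCommGroup F] [Module A F] [Module.Finite A F] (φ : F →ₗ[A] M) :
    ∃ ψ : AdicCompletion I F →ₗ[A] M, ∀ x, ψ (AdicCompletion.of I F x) = φ x := by
  have hfg : I.FG := IsNoetherian.noetherian I
  haveI : DRing.HasDerivedCompletion I :=
    Groth.Agent.Helper6.DComplAdj.hasDerivedCompletion_of_fg I hfg
  obtain ⟨K, hKdef⟩ : ∃ K : Dual.D A, K = Dual.inD A F := ⟨_, rfl⟩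
  obtain ⟨ι, hι⟩ : ∃ ι, ι = DerivedCategory.singleFunctorCompHomologyFunctorIso
    (ModuleCat.{u} A) 0 := ⟨_, rfl⟩
  have hK : ∀ n : ℤ, Module.Finite A (Dual.HD A K n) := by
    intro n
    rw [hKdef]
    by_cases hn : n = 0
    · subst hn
      have e' : F ≃ₗ[A] Dual.HD A (Dual.inD A F) 0 :=
        (ι.app (ModuleCat.of A F)).symm.toLinearEquiv
      exact Module.Finite.equiv e'
    · have hz : IsZero ((DerivedCategory.homologyFunctor (ModuleCat.{u} A) n).obj
          (Dual.inD A F)) := by
        rcases lt_or_gt_of_ne hn with h | h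
        · exact DerivedCategory.isZero_of_isGE _ 0 n h
        · exact DerivedCategory.isZero_of_isLE _ 0 n h
      haveI := ModuleCat.subsingleton_of_isZero hz
      infer_instance
  obtain ⟨e, he⟩ :=
    (Groth.Agent.Helper6.DCAdic4.isComplMap_toDerivedCompletion I K hK 0).exists_equiv
  obtain ⟨ψD, hψD⟩ := (Groth.Agent.Helper6.DComplAmp.toDerivedCompletion_bijective I K
    (Dual.inD A M) hc).2 (eqToHom hKdef ≫
      (DerivedCategory.singleFunctor (ModuleCat.{u} A) 0).map (ModuleCat.ofHom φ))
  dsimp only at hψD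
  subst hKdef
  rw [eqToHom_refl, Category.id_comp] at hψD
  obtain ⟨H0, hH0⟩ : ∃ H0, H0 = DerivedCategory.homologyFunctor (ModuleCat.{u} A) 0 := ⟨_, rfl⟩
  obtain ⟨ιF, hιF⟩ : ∃ ιF : Dual.HD A (Dual.inD A F) 0 ≃ₗ[A] F,
      ιF = (ι.app (ModuleCat.of A F)).toLinearEquiv := ⟨_, rfl⟩
  obtain ⟨ιM, hιM⟩ : ∃ ιM : Dual.HD A (Dual.inD A M) 0 ≃ₗ[A] M,
      ιM = (ι.app (ModuleCat.of A M)).toLinearEquiv := ⟨_, rfl⟩
  refine ⟨ιM.toLinearMap ∘ₗ ((DerivedCategory.homologyFunctor (ModuleCat.{u} A) 0).map ψD).hom ∘ₗ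
      e.symm.toLinearMap ∘ₗ
      ((AdicCompletion.map I ιF.symm.toLinearMap).restrictScalars A), ?_⟩
  intro x
  have h1 : AdicCompletion.map I ιF.symm.toLinearMap (AdicCompletion.of I F x) =
      AdicCompletion.of I _ (ιF.symm x) := AdicCompletion.map_of I _ x
  have h2 : e.symm (AdicCompletion.of I _ (ιF.symm x)) =
      ((DerivedCategory.homologyFunctor (ModuleCat.{u} A) 0).map
        (DRing.toDerivedCompletion I (Dual.inD A F))).hom (ιF.symm x) := by
    rw [LinearEquiv.symm_apply_eq]
    exact (he _).symm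
  have h3 : ((DerivedCategory.homologyFunctor (ModuleCat.{u} A) 0).map ψD).hom
      (((DerivedCategory.homologyFunctor (ModuleCat.{u} A) 0).map
        (DRing.toDerivedCompletion I (Dual.inD A F))).hom (ιF.symm x)) =
      ((DerivedCategory.homologyFunctor (ModuleCat.{u} A) 0).map
        ((DerivedCategory.singleFunctor (ModuleCat.{u} A) 0).map (ModuleCat.ofHom φ))).hom
        (ιF.symm x) := by
    rw [← hψD, Functor.map_comp, ModuleCat.hom_comp, LinearMap.comp_apply]
  have hnat := ι.hom.naturality (ModuleCat.ofHom φ)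
  have hnat' := congrArg (fun t => t.hom (ιF.symm x)) hnat
  simp only [Functor.comp_map, Functor.id_map, ModuleCat.hom_comp, LinearMap.comp_apply,
    ModuleCat.hom_ofHom] at hnat'
  have h4 : ιM (((DerivedCategory.homologyFunctor (ModuleCat.{u} A) 0).map
        ((DerivedCategory.singleFunctor (ModuleCat.{u} A) 0).map (ModuleCat.ofHom φ))).hom
        (ιF.symm x)) = φ (ιF (ιF.symm x)) := by
    subst hιM hιF
    exact hnat'
  show ιM (((DerivedCategory.homologyFunctor (ModuleCat.{u} A) 0).map ψD).hom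
    (e.symm (AdicCompletion.map I ιF.symm.toLinearMap (AdicCompletion.of I F x)))) = φ x
  rw [h1, h2, h3, h4, LinearEquiv.apply_symm_apply]

/-- **derived complete + finite reduction ⇒ adically complete and finite over the completion** -/
theorem main (M : Type u) [AddCommGroup M] [Module A M]
    (hc : DRing.IsDerivedComplete I (Dual.inD A M))
    (hf : Module.Finite A (M ⧸ I • (⊤ : Submodule A M))) :
    IsAdicComplete I M ∧ Module.Finite (AdicCompletion I A) (AdicCompletion I M) := by
  obtain ⟨r, s, hs⟩ := Module.Finite.exists_fin (R := A) (M := M ⧸ I • (⊤ : Submodule A M))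
  choose x hx using fun i => Submodule.Quotient.mk_surjective (I • (⊤ : Submodule A M)) (s i)
  obtain ⟨φ, hφdef⟩ : ∃ φ : (Fin r → A) →ₗ[A] M, φ = Fintype.linearCombination A x := ⟨_, rfl⟩
  have hφ : LinearMap.range φ ⊔ I • (⊤ : Submodule A M) = ⊤ := by
    rw [hφdef, Fintype.range_linearCombination, sup_comm, ← Submodule.map_mkQ_eq_top,
      Submodule.map_span, ← Set.range_comp]
    have : (I • (⊤ : Submodule A M)).mkQ ∘ x = s := funext hx
    rw [this]
    exact hs
  obtain ⟨ψ, hψ⟩ := exists_hat_extension I M hc (Fin r → A) φ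
  exact Groth.Agent.Helper6.DCFin1.core I M
    ((isDerivedComplete_module_iff I M).mp hc) (Fin r → A) φ hφ ψ hψ

end Groth.Agent.Helper6.DCFin2
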