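import Mathlib
import Groth.Prelude.Def_DRing4
import Groth.Agent.Helper6.DCHom

/-!
# Objects restricted from `D(A_f)` and derived `f`-complete objects
-/

set_option autoImplicit false
universe u
open CategoryTheory CategoryTheory.Limits DerivedCategory

attribute [local instance] HasDerivedCategory.standard

namespace Groth.Agent.Helper6.DCHomLoc

open Groth.Agent.Helper3.DRingLib

variable {A : Type u} [CommRing A] (f : A)

/-- `f` acts bijectively on the restriction of scalars of an `A_f`-module -/
lemma bijective_smul_restrict (M : ModuleCat.{u} (Localization.Away f)) :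
    Function.Bijective (fun x : (ModuleCat.restrictScalars
      (algebraMap A (Localization.Away f))).obj M => f • x) := by
  have hu : IsUnit (algebraMap A (Localization.Away f) f) :=
    IsLocalization.Away.algebraMap_isUnit f
  obtain ⟨u, hu'⟩ := hu
  have h1 : ∀ x : (ModuleCat.restrictScalars (algebraMap A (Localization.Away f))).obj M,
      f • x = ((u : Localization.Away f) • (x : M) : M) := by
    intro x
    rw [hu']
    rfl
  constructor
  · intro x y hxy
    have hxy' : f • x = f • y := hxy
    rw [h1, h1] at hxy'
    have h2 := congrArg (fun z : M => ((u⁻¹ : (Localization.Away f)ˣ) : Localization.Away f) • z) hxy'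
    have h3 : ∀ z : M, ((u⁻¹ : (Localization.Away f)ˣ) : Localization.Away f) •
        ((u : Localization.Away f) • z) = z := by
      intro z
      rw [smul_smul, Units.inv_mul, one_smul]
    have h4 : ((u⁻¹ : (Localization.Away f)ˣ) : Localization.Away f) •
        ((u : Localization.Away f) • (x : M)) = ((u⁻¹ : (Localization.Away f)ˣ) : Localization.Away f) •
        ((u : Localization.Away f) • (y : M)) := h2
    exact ((h3 x).symm.trans h4).trans (h3 y)
  · intro y
    refine ⟨((((u⁻¹ : (Localization.Away f)ˣ) : Localization.Away f) • (y : M) : M)), ?_⟩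
    show f • _ = y
    rw [h1, smul_smul, Units.mul_inv, one_smul]

/-- morphisms from an object restricted from `D(A_f)` to a derived `f`-complete object vanish -/
theorem hom_restrictD_eq_zero (K : Dual.D A) (hK : DCf f K) (E : Dual.D (Localization.Away f))
    (g : (DRing.restrictD (algebraMap A (Localization.Away f))).obj E ⟶ K) : g = 0 := by
  let E' : DRing.Cx (Localization.Away f) := DerivedCategory.Q.objPreimage E
  let eE : DerivedCategory.Q.obj E' ≅ E := DerivedCategory.Q.objObjPreimageIso E
  let Y : DRing.Cx A := ((ModuleCat.restrictScalars
    (algebraMap A (Localization.Away f))).mapHomologicalComplex (ComplexShape.up ℤ)).obj E'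
  let e1 : (DRing.restrictD (algebraMap A (Localization.Away f))).obj E ≅ DRing.toD Y :=
    (DRing.restrictD (algebraMap A (Localization.Away f))).mapIso eE.symm ≪≫
      (ModuleCat.restrictScalars
        (algebraMap A (Localization.Away f))).mapDerivedCategoryFactors.app E'
  have h0 := Groth.Agent.Helper6.DCHom.hom_eq_zero_of_bijective f Y
    (fun i => bijective_smul_restrict f (E'.X i)) K hK (e1.inv ≫ g)
  have h1 : g = e1.hom ≫ e1.inv ≫ g := by simp
  rw [h1, h0, comp_zero]

/-- `A_f` as an `A`-module is the restriction of scalars of `A_f` -/
noncomputable def restrictSelfLin :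
    ((ModuleCat.restrictScalars (algebraMap A (Localization.Away f))).obj
      (ModuleCat.of (Localization.Away f) (Localization.Away f))) →ₗ[A] Localization.Away f where
  toFun := fun x => x
  map_add' := fun _ _ => rfl
  map_smul' := fun r x => by
    have h2 : ∀ y : Localization.Away f,
        (r • y : Localization.Away f) = algebraMap A (Localization.Away f) r * y :=
      fun y => Algebra.smul_def r y
    exact (h2 _).symm

noncomputable def restrictSelfIso :
    (ModuleCat.restrictScalars (algebraMap A (Localization.Away f))).obj
      (ModuleCat.of (Localization.Away f) (Localization.Away f)) ≅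
      ModuleCat.of A (Localization.Away f) :=
  (LinearEquiv.ofBijective (restrictSelfLin f)
    ⟨fun _ _ h => h, fun y => ⟨y, rfl⟩⟩).toModuleIso

/-- the converse: if all morphisms from restricted objects vanish, `K` is derived `f`-complete -/
theorem dcf_of_forall_restrictD (K : Dual.D A)
    (h : ∀ (E : Dual.D (Localization.Away f))
      (g : (DRing.restrictD (algebraMap A (Localization.Away f))).obj E ⟶ K), g = 0) :
    DCf f K := by
  intro n t
  let S : Dual.D (Localization.Away f) :=
    (DerivedCategory.singleFunctor (ModuleCat.{u} (Localization.Away f)) 0).obj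
      (ModuleCat.of (Localization.Away f) (Localization.Away f))
  let E : Dual.D (Localization.Away f) := S⟦-n⟧
  let iso2 : (DRing.restrictD (algebraMap A (Localization.Away f))).obj S ≅
      Dual.inD A (Localization.Away f) :=
    ((ModuleCat.restrictScalars
      (algebraMap A (Localization.Away f))).mapDerivedCategorySingleFunctor 0).app _ ≪≫
      (DerivedCategory.singleFunctor (ModuleCat.{u} A) 0).mapIso (restrictSelfIso f)
  let e : (DRing.restrictD (algebraMap A (Localization.Away f))).obj E ≅
      (Dual.inD A (Localization.Away f))⟦-n⟧ :=
    ((DRing.restrictD (algebraMap A (Localization.Away f))).commShiftIso (-n)).app S ≪≫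
      (shiftFunctor (Dual.D A) (-n)).mapIso iso2
  let η : (K⟦n⟧)⟦-n⟧ ≅ K := (shiftFunctorCompIsoId (Dual.D A) n (-n) (by omega)).app K
  have h0 := h E (e.hom ≫ (shiftFunctor (Dual.D A) (-n)).map t ≫ η.hom)
  have h1 : (shiftFunctor (Dual.D A) (-n)).map t = 0 := by
    have : (shiftFunctor (Dual.D A) (-n)).map t =
        e.inv ≫ (e.hom ≫ (shiftFunctor (Dual.D A) (-n)).map t ≫ η.hom) ≫ η.inv := by
      simp
    rw [this, h0, zero_comp, comp_zero]
  apply (shiftFunctor (Dual.D A) (-n)).map_injective
  rw [h1, Functor.map_zero]

end Groth.Agent.Helper6.DCHomLoc
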