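import Mathlib
import Groth.Prelude.Def_DRing4
import Groth.Agent.Helper3.DRingComp
import Groth.Agent.Helper3.DRingPeel
import Groth.Agent.Helper3.DRingBFF
import Groth.Agent.Helper6.TenCx
import Groth.Agent.Helper6.DComplTri
import Groth.Agent.Helper6.DComplExact

/-!
# Derived completeness of `L ⊗ G` for a bounded complex `G` of finite free modules
-/

set_option autoImplicit false
set_option linter.style.haveILetI false
set_option linter.unusedSectionVars false
universe u
open CategoryTheory CategoryTheory.Limits MonoidalCategory DerivedCategory Pretriangulated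

attribute [local instance] HasDerivedCategory.standard

namespace Groth.Agent.Helper6.DCTen1

open Groth.Agent.Helper3.DRingLib Groth.Agent.Helper6.TenCx Groth.Agent.Helper6.DComplTri
  Groth.Agent.Helper6.DComplExact

variable {A : Type u} [CommRing A] (I : Ideal A)

instance additive_tensorLeft (L : DRing.Cx A) : (tensorLeft L).Additive where
  map_add := by
    intro X Y f g
    exact whiskerLeft_add' L f g

/-- over the zero ring everything is derived complete -/
lemma isDC_of_subsingleton [Subsingleton A] (Z : Dual.D A) : DRing.IsDerivedComplete I Z := by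
  intro f hf n
  exact ⟨fun x y => by
    have hx : x = (1 : A) • x := (one_smul A x).symm
    have hy : y = (1 : A) • y := (one_smul A y).symm
    rw [hx, hy, Subsingleton.elim (1 : A) 0, zero_smul, zero_smul]⟩

/-- finite biproducts of derived complete objects are derived complete -/
lemma isDC_biproduct {J : Type} [Finite J] (Z : J → Dual.D A)
    (h : ∀ j, DRing.IsDerivedComplete I (Z j)) : DRing.IsDerivedComplete I (⨁ Z) := by
  rw [isDerivedComplete_iff_dcf]
  intro f hf
  apply dcf_of_forall_isLocal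
  intro X hX g
  apply biproduct.hom_ext
  intro j
  rw [zero_comp]
  exact hom_eq_zero_of_isLocal f X hX (Z j) ((isDerivedComplete_iff_dcf I (Z j)).mp (h j) f hf) _

/-- the functor `M ↦ Q (L ⊗ M[-c])` -/
noncomputable abbrev Φ (L : DRing.Cx A) (c : ℤ) : ModuleCat.{u} A ⥤ Dual.D A :=
  HomologicalComplex.single (ModuleCat.{u} A) (ComplexShape.up ℤ) c ⋙ tensorLeft L ⋙ Q

/-- the unit case -/
lemma isDC_Φ_unit (L : DRing.Cx A) (c : ℤ) (h : DRing.IsDerivedComplete I (Q.obj L)) :
    DRing.IsDerivedComplete I ((Φ L c).obj (𝟙_ (ModuleCat.{u} A))) := by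
  let S0 : DRing.Cx A := 𝟙_ (DRing.Cx A)
  have e1 : S0⟦-c⟧ ≅ (HomologicalComplex.single (ModuleCat.{u} A) (ComplexShape.up ℤ) c).obj
      (𝟙_ (ModuleCat.{u} A)) :=
    ((CochainComplex.singleFunctors (ModuleCat.{u} A)).shiftIso (-c) c 0 (by omega)).app
      (𝟙_ (ModuleCat.{u} A))
  have e2 : L ⊗ S0⟦-c⟧ ≅ (L ⊗ S0)⟦-c⟧ :=
    CochainComplex.mapBifunctorShift₂Iso L S0 (curriedTensor (ModuleCat.{u} A)) (-c)
  have e3 : (L ⊗ S0)⟦-c⟧ ≅ L⟦-c⟧ := (shiftFunctor (DRing.Cx A) (-c)).mapIso (ρ_ L)
  have e : L ⊗ (HomologicalComplex.single (ModuleCat.{u} A) (ComplexShape.up ℤ) c).obj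
      (𝟙_ (ModuleCat.{u} A)) ≅ L⟦-c⟧ := (whiskerLeftIso L e1).symm ≪≫ e2 ≪≫ e3
  have e4 : Q.obj (L⟦-c⟧) ≅ (Q.obj L)⟦-c⟧ := (Q.commShiftIso (-c)).app L
  exact isDerivedComplete_of_iso I (e4.symm ≪≫ (Q.mapIso e).symm)
    (isDerivedComplete_shift I _ (-c) h)

/-- the finite free case -/
lemma isDC_Φ_free (L : DRing.Cx A) (c : ℤ) (h : DRing.IsDerivedComplete I (Q.obj L))
    (M : ModuleCat.{u} A) [Module.Finite A M] [Module.Free A M] :
    DRing.IsDerivedComplete I ((Φ L c).obj M) := by
  rcases subsingleton_or_nontrivial A with hA | hA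
  · exact isDC_of_subsingleton I _
  · have h1 := isDC_Φ_unit I L c h
    let b := Module.finBasis A M
    let e : M ≃ₗ[A] (Fin (Module.finrank A M) → A) := b.equivFun
    let f : Fin (Module.finrank A M) → ModuleCat.{u} A := fun _ => 𝟙_ (ModuleCat.{u} A)
    let i1 : M ≅ ModuleCat.of A (Fin (Module.finrank A M) → A) := e.toModuleIso
    let i2 : (⨁ f) ≅ ModuleCat.of A (∀ j, f j) := ModuleCat.biproductIsoPi f
    let i3 : (Φ L c).obj (⨁ f) ≅ ⨁ (fun j => (Φ L c).obj (f j)) := (Φ L c).mapBiproduct f
    have h2 : DRing.IsDerivedComplete I (⨁ (fun j => (Φ L c).obj (f j))) :=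
      isDC_biproduct I _ (fun _ => h1)
    exact isDerivedComplete_of_iso I (i3.symm ≪≫ (Φ L c).mapIso (i2 ≪≫ i1.symm)) h2

/-- **bounded case**: `Q (L ⊗ G)` is derived complete for `G` bounded termwise finite free -/
theorem isDC_tensor_bounded (L : DRing.Cx A) (h : DRing.IsDerivedComplete I (Q.obj L)) :
    ∀ (k : ℕ) (G : DRing.Cx A) (c : ℤ), DRing.VanishesAbove G c →
      (∀ i : ℤ, i ≤ c - k → IsZero (G.X i)) → DRing.TermwiseFiniteFree G →
        DRing.IsDerivedComplete I (Q.obj (L ⊗ G)) := by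
  intro k
  induction k with
  | zero =>
    intro G c hGc hGz _
    have hz : IsZero G := by
      rw [IsZero.iff_id_eq_zero]
      refine HomologicalComplex.hom_ext _ _ (fun i => ?_)
      by_cases hi : i ≤ c
      · exact (hGz i (by simpa using hi)).eq_of_src _ _
      · exact (hGc i (by omega)).eq_of_src _ _
    have hz' : IsZero (Q.obj (L ⊗ G)) := Q.map_isZero ((tensorLeft L).map_isZero hz)
    exact isDerivedComplete_of_isZero I _ hz'
  | succ k ih =>
    intro G c hGc hGz hGf
    have hS : (peelSC G c hGc).ShortExact := peelSC_shortExact G c hGc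
    have hiso : ∀ i, i ≤ c - 1 → IsIso ((piLE G (c - 1)).f i) :=
      fun i hi => isIso_piLE_f G (c - 1) i hi
    have hG'c : DRing.VanishesAbove (sigmaLE G (c - 1)) (c - 1) :=
      fun i hi => isZero_sigmaLE_X G (c - 1) i hi
    have hG'z : ∀ i : ℤ, i ≤ (c - 1) - k → IsZero ((sigmaLE G (c - 1)).X i) := by
      intro i hi
      haveI := hiso i (by omega)
      exact (hGz i (by push_cast; omega)).of_iso (asIso ((piLE G (c - 1)).f i)).symm
    have hG'f : DRing.TermwiseFiniteFree (sigmaLE G (c - 1)) := by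
      intro i
      by_cases hib : i ≤ c - 1
      · haveI := hiso i hib
        let e' : G.X i ≃ₗ[A] (sigmaLE G (c - 1)).X i :=
          (asIso ((piLE G (c - 1)).f i)).toLinearEquiv
        obtain ⟨f1, f2⟩ := hGf i
        exact ⟨Module.Finite.equiv e', Module.Free.of_equiv e'⟩
      · have := ModuleCat.subsingleton_of_isZero (hG'c i (by omega))
        exact ⟨Module.Finite.of_finite, Module.Free.of_subsingleton A _⟩
    have h3 : DRing.IsDerivedComplete I (Q.obj (L ⊗ sigmaLE G (c - 1))) :=
      ih _ (c - 1) hG'c hG'z hG'f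
    have hflat : DRing.TermwiseFlat (peelSC G c hGc).X₃ := fun i => by
      have := (hG'f i).2
      exact inferInstanceAs (Module.Flat A ((sigmaLE G (c - 1)).X i))
    have hS' : (tenSC L (peelSC G c hGc)).ShortExact := tenSC_shortExact L hS hflat
    have hT := DerivedCategory.triangleOfSES_distinguished hS'
    haveI := (hGf c).1
    haveI := (hGf c).2
    have h1 : DRing.IsDerivedComplete I ((Φ L c).obj (G.X c)) := isDC_Φ_free I L c h (G.X c)
    exact isDerivedComplete_obj₂ I _ hT h1 h3

end Groth.Agent.Helper6.DCTen1
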