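import Mathlib
import Groth.Prelude.Def_DRing4
import Groth.Agent.Helper3.DRingH
import Groth.Agent.Helper3.DRingTor3
import Groth.Agent.Helper6.TenFin
import Groth.Agent.Helper6.DComplLES
import Groth.Agent.Helper6.DCTen1

/-!
# Derived completeness of `L ⊗ F` for `F` bounded above termwise finite free
-/

set_option autoImplicit false
set_option linter.style.haveILetI false
set_option linter.unusedSectionVars false
universe u
open CategoryTheory CategoryTheory.Limits MonoidalCategory DerivedCategory Pretriangulated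

attribute [local instance] HasDerivedCategory.standard

namespace Groth.Agent.Helper6.DCTen2

open Groth.Agent.Helper3.DRingLib Groth.Agent.Helper6.TenCx Groth.Agent.Helper6.DComplAmp
  Groth.Agent.Helper6.DComplLES Groth.Agent.Helper6.DCTen1

variable {A : Type u} [CommRing A]

section trunc

variable (F : DRing.Cx A) (m : ℤ)

lemma epi_piLE : Epi (piLE F (m - 1)) := by
  apply HomologicalComplex.epi_of_epi_f
  intro i
  by_cases hi : i ≤ m - 1
  · haveI := isIso_piLE_f F (m - 1) i hi
    infer_instance
  · exact ⟨fun g h _ => (isZero_sigmaLE_X F (m - 1) i (by omega)).eq_of_src g h⟩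

/-- the short exact sequence `0 → σ_{≥ m} F → F → σ_{≤ m-1} F → 0` -/
noncomputable def truncSC : ShortComplex (DRing.Cx A) :=
  ShortComplex.kernelSequence (piLE F (m - 1))

lemma truncSC_shortExact : (truncSC F m).ShortExact :=
  { exact := ShortComplex.kernelSequence_exact _
    mono_f := by
      unfold truncSC
      infer_instance
    epi_g := epi_piLE F m }

lemma truncSC_isIso_f (i : ℤ) (hi : m ≤ i) : IsIso ((truncSC F m).f.f i) := by
  have hdeg := (HomologicalComplex.shortExact_iff_degreewise_shortExact (truncSC F m)).mp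
    (truncSC_shortExact F m) i
  have hz : IsZero ((truncSC F m).map (HomologicalComplex.eval _ _ i)).X₃ :=
    isZero_sigmaLE_X F (m - 1) i (by omega)
  haveI : Mono ((truncSC F m).map (HomologicalComplex.eval _ _ i)).f := hdeg.mono_f
  haveI : Epi ((truncSC F m).map (HomologicalComplex.eval _ _ i)).f :=
    (ShortComplex.exact_iff_epi _ (hz.eq_of_tgt _ _)).mp hdeg.exact
  exact isIso_of_mono_of_epi ((truncSC F m).map (HomologicalComplex.eval _ _ i)).f

lemma truncSC_isZero_X₁ (i : ℤ) (hi : i < m) : IsZero ((truncSC F m).X₁.X i) := by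
  have hdeg := (HomologicalComplex.shortExact_iff_degreewise_shortExact (truncSC F m)).mp
    (truncSC_shortExact F m) i
  haveI : IsIso ((truncSC F m).map (HomologicalComplex.eval _ _ i)).g :=
    isIso_piLE_f F (m - 1) i (by omega)
  have hf0 : ((truncSC F m).map (HomologicalComplex.eval _ _ i)).f = 0 := by
    rw [← cancel_mono ((truncSC F m).map (HomologicalComplex.eval _ _ i)).g, zero_comp]
    exact ((truncSC F m).map (HomologicalComplex.eval _ _ i)).zero
  haveI : Mono ((truncSC F m).map (HomologicalComplex.eval _ _ i)).f := hdeg.mono_f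
  have hzz := IsZero.of_mono_eq_zero ((truncSC F m).map (HomologicalComplex.eval _ _ i)).f hf0
  exact hzz

lemma truncSC_vanishesAbove (c : ℤ) (hF : DRing.VanishesAbove F c) :
    DRing.VanishesAbove (truncSC F m).X₁ c := by
  intro i hi
  by_cases him : m ≤ i
  · haveI := truncSC_isIso_f F m i him
    have e := asIso ((truncSC F m).f.f i)
    exact (hF i hi).of_iso e
  · exact truncSC_isZero_X₁ F m i (by omega)

lemma truncSC_termwiseFiniteFree (hF : DRing.TermwiseFiniteFree F) :
    DRing.TermwiseFiniteFree (truncSC F m).X₁ := by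
  intro i
  by_cases him : m ≤ i
  · haveI := truncSC_isIso_f F m i him
    have e := asIso ((truncSC F m).f.f i)
    let e' : F.X i ≃ₗ[A] (truncSC F m).X₁.X i := e.symm.toLinearEquiv
    obtain ⟨f1, f2⟩ := hF i
    exact ⟨Module.Finite.equiv e', Module.Free.of_equiv e'⟩
  · have := ModuleCat.subsingleton_of_isZero (truncSC_isZero_X₁ F m i (by omega))
    exact ⟨Module.Finite.of_finite, Module.Free.of_subsingleton A _⟩

lemma truncSC_termwiseFlat₃ (hF : DRing.TermwiseFiniteFree F) :
    DRing.TermwiseFlat (truncSC F m).X₃ := by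
  intro i
  show Module.Flat A ((sigmaLE F (m - 1)).X i)
  by_cases hib : i ≤ m - 1
  · haveI := isIso_piLE_f F (m - 1) i hib
    let e' : F.X i ≃ₗ[A] (sigmaLE F (m - 1)).X i :=
      (asIso ((piLE F (m - 1)).f i)).toLinearEquiv
    have := (hF i).2
    exact Module.Flat.of_linearEquiv e'.symm
  · have := ModuleCat.subsingleton_of_isZero (isZero_sigmaLE_X F (m - 1) i (by omega))
    infer_instance

end trunc

variable (I : Ideal A)

/-- **derived completeness of `L ⊗ F`** for `L` bounded above with `Q L` derived complete and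
`F` bounded above termwise finite free -/
theorem isDC_tensor (L : DRing.Cx A) (b : ℤ) (hL : DRing.VanishesAbove L b)
    (hDC : DRing.IsDerivedComplete I (Q.obj L)) (F : DRing.Cx A) (c : ℤ)
    (hFc : DRing.VanishesAbove F c) (hFf : DRing.TermwiseFiniteFree F) :
    DRing.IsDerivedComplete I (Q.obj (L ⊗ F)) := by
  rw [isDerivedComplete_iff_homology]
  intro n
  obtain ⟨m, hm⟩ : ∃ m : ℤ, m = n - b - 1 := ⟨_, rfl⟩
  have hS := truncSC_shortExact F m
  have hGc := truncSC_vanishesAbove F m c hFc
  have hGz : ∀ i : ℤ, i ≤ c - ((c - m + 1).toNat : ℕ) → IsZero ((truncSC F m).X₁.X i) :=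
    fun i hi => truncSC_isZero_X₁ F m i (by omega)
  have hGf := truncSC_termwiseFiniteFree F m hFf
  have hG : DRing.IsDerivedComplete I (Q.obj (L ⊗ (truncSC F m).X₁)) :=
    isDC_tensor_bounded I L hDC _ _ c hGc hGz hGf
  have hS' : (tenSC L (truncSC F m)).ShortExact :=
    tenSC_shortExact L hS (truncSC_termwiseFlat₃ F m hFf)
  have hT := DerivedCategory.triangleOfSES_distinguished hS'
  have hvan : DRing.VanishesAbove (L ⊗ sigmaLE F (m - 1)) (b + (m - 1)) :=
    Groth.Agent.Helper6.TenFin.vanishesAbove_tensor L _ b (m - 1) hL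
      (fun i hi => isZero_sigmaLE_X F (m - 1) i hi)
  have hz : ∀ j, b + (m - 1) < j → HZ (Q.obj (L ⊗ sigmaLE F (m - 1))) j := fun j hj =>
    (hz_Q_iff _ j).mpr (exactAt_of_isZero_X _ j (hvan j hj))
  haveI := isIso_mor₁ _ hT (n - 1) n (by omega) (hz (n - 1) (by omega)) (hz n (by omega))
  let e := asIso ((DerivedCategory.homologyFunctor (ModuleCat.{u} A) n).map
    (DerivedCategory.triangleOfSES hS').mor₁)
  exact isDerivedComplete_of_iso I
    ((DerivedCategory.singleFunctor (ModuleCat.{u} A) 0).mapIso e)
    ((isDerivedComplete_iff_homology I _).mp hG n)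

end Groth.Agent.Helper6.DCTen2
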