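import Mathlib
import Groth.Prelude.Def_DRing4
import Groth.Prelude.Def_DTen4
import Groth.Agent.Helper6.HasLBC
import Groth.Agent.Helper6.LBCAdj
import Groth.Agent.Helper6.LBaseCmp
import Groth.Agent.Helper6.ExtKFlat
import Groth.Agent.Helper6.TenCxQis
import Groth.Agent.Helper6.DCAdic2

/-!
# `EEq` (bijectivity on maps to objects restricted from `A/I`) is stable under `- ⊗ F`
-/

set_option autoImplicit false
set_option linter.style.haveILetI false
set_option linter.unusedSectionVars false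
universe u
open CategoryTheory CategoryTheory.Limits MonoidalCategory DerivedCategory

attribute [local instance] HasDerivedCategory.standard

namespace Groth.Agent.Helper6.DCTen3

open Groth.Agent.Helper3.DRingLib Groth.Agent.Helper6.TenCx Groth.Agent.Helper6.DCAdic2

section ringchange

variable {R R' : Type u} [CommRing R] [CommRing R'] (φ : R →+* R')

/-- restriction of scalars preserves quasi-isomorphisms -/
lemma quasiIso_res {K K' : DRing.Cx R'} (f : K ⟶ K') (h : QuasiIso f) :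
    QuasiIso ((DTen.resCx φ).map f) := by
  haveI := preservesHomology_rF φ
  haveI : (rF φ).ReflectsIsomorphisms := inferInstance
  exact (HomologicalComplex.quasiIso_map_iff_of_preservesHomology f (rF φ)).mpr h

/-- the tensor product of K-flat complexes is K-flat -/
lemma kflat_tensor {P F : DRing.Cx R} (hP : KFlat P) (hF : KFlat F) : KFlat (P ⊗ F) :=
  fun Lc hL => acyc_of_iso (α_ Lc P F) (hF _ (hP Lc hL))

/-- if `ext α` is a quasi-isomorphism, so is `ext (α ⊗ F)` for `F` K-flat -/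
theorem quasiIso_ext_whiskerRight {P P' : DRing.Cx R} (α : P ⟶ P') {F : DRing.Cx R}
    (hF : KFlat F) (h : QuasiIso ((DTen.extCx φ).map α)) :
    QuasiIso ((DTen.extCx φ).map (α ▷ F)) := by
  haveI h0 : QuasiIso (𝟙_ (DRing.Cx R') ◁ (DTen.extCx φ).map α) := by
    have h3 : 𝟙_ (DRing.Cx R') ◁ (DTen.extCx φ).map α =
        (λ_ ((DTen.extCx φ).obj P)).hom ≫ (DTen.extCx φ).map α ≫
          (λ_ ((DTen.extCx φ).obj P')).inv := by
      rw [← Category.assoc, ← MonoidalCategory.leftUnitor_naturality, Category.assoc,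
        Iso.hom_inv_id, Category.comp_id]
    rw [h3]
    infer_instance
  haveI h1 : QuasiIso ((DTen.resCx φ).map (𝟙_ (DRing.Cx R') ◁ (DTen.extCx φ).map α)) :=
    quasiIso_res φ _ h0
  have sq := ExtTen.θ_naturality_right φ (𝟙_ (DRing.Cx R')) α
  haveI h2 : QuasiIso ((DTen.resCx φ).obj (𝟙_ (DRing.Cx R')) ◁ α) := by
    have h3 : (DTen.resCx φ).obj (𝟙_ (DRing.Cx R')) ◁ α =
        ExtTen.θ φ (𝟙_ (DRing.Cx R')) P ≫
          (DTen.resCx φ).map (𝟙_ (DRing.Cx R') ◁ (DTen.extCx φ).map α) ≫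
            inv (ExtTen.θ φ (𝟙_ (DRing.Cx R')) P') := by
      rw [← Category.assoc, ← sq, Category.assoc, IsIso.hom_inv_id, Category.comp_id]
    rw [h3]
    infer_instance
  haveI h3 : QuasiIso (((DTen.resCx φ).obj (𝟙_ (DRing.Cx R')) ◁ α) ▷ F) :=
    quasiIso_whiskerRight hF _ h2
  haveI h4 : QuasiIso ((DTen.resCx φ).obj (𝟙_ (DRing.Cx R')) ◁ (α ▷ F)) := by
    have h5 : (DTen.resCx φ).obj (𝟙_ (DRing.Cx R')) ◁ (α ▷ F) =
        (α_ ((DTen.resCx φ).obj (𝟙_ (DRing.Cx R'))) P F).inv ≫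
          (((DTen.resCx φ).obj (𝟙_ (DRing.Cx R')) ◁ α) ▷ F) ≫
            (α_ ((DTen.resCx φ).obj (𝟙_ (DRing.Cx R'))) P' F).hom := by
      rw [MonoidalCategory.associator_naturality_middle, Iso.inv_hom_id_assoc]
    rw [h5]
    infer_instance
  have sq' := ExtTen.θ_naturality_right φ (𝟙_ (DRing.Cx R')) (α ▷ F)
  haveI h5 : QuasiIso ((DTen.resCx φ).map
      (𝟙_ (DRing.Cx R') ◁ (DTen.extCx φ).map (α ▷ F))) := by
    have h6 : (DTen.resCx φ).map (𝟙_ (DRing.Cx R') ◁ (DTen.extCx φ).map (α ▷ F)) =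
        inv (ExtTen.θ φ (𝟙_ (DRing.Cx R')) (P ⊗ F)) ≫
          ((DTen.resCx φ).obj (𝟙_ (DRing.Cx R')) ◁ (α ▷ F)) ≫
            ExtTen.θ φ (𝟙_ (DRing.Cx R')) (P' ⊗ F) := by
      rw [sq', IsIso.inv_hom_id_assoc]
    rw [h6]
    infer_instance
  haveI h6 : QuasiIso (𝟙_ (DRing.Cx R') ◁ (DTen.extCx φ).map (α ▷ F)) :=
    ExtKFlat.quasiIso_of_res φ _ h5
  have h7 : (DTen.extCx φ).map (α ▷ F) =
      (λ_ ((DTen.extCx φ).obj (P ⊗ F))).inv ≫
        (𝟙_ (DRing.Cx R') ◁ (DTen.extCx φ).map (α ▷ F)) ≫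
          (λ_ ((DTen.extCx φ).obj (P' ⊗ F))).hom := by
    rw [MonoidalCategory.leftUnitor_naturality, Iso.inv_hom_id_assoc]
  rw [h7]
  infer_instance

end ringchange

variable {A : Type u} [CommRing A] (I : Ideal A)

lemma eeq_of_isIso {X X' : Dual.D A} (ψ : X ⟶ X') [IsIso ψ] : EEq I ψ :=
  fun _ => Groth.Agent.Helper6.LBaseCmp.bijective_precomp_iso ψ _

variable {I} in
lemma EEq.comp {X X' X'' : Dual.D A} {ψ₁ : X ⟶ X'} {ψ₂ : X' ⟶ X''} (h1 : EEq I ψ₁)
    (h2 : EEq I ψ₂) : EEq I (ψ₁ ≫ ψ₂) := by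
  intro Y
  have h3 : (fun g : X'' ⟶ (res I).obj Y => (ψ₁ ≫ ψ₂) ≫ g) =
      (fun g : X' ⟶ (res I).obj Y => ψ₁ ≫ g) ∘ (fun g : X'' ⟶ (res I).obj Y => ψ₂ ≫ g) := by
    funext g
    simp only [Function.comp_apply, Category.assoc]
  rw [h3]
  exact (h1 Y).comp (h2 Y)

/-- for K-flat complexes, `EEq (Q β)` is the same as `ext β` being a quasi-isomorphism -/
theorem eeq_iff_quasiIso_ext {P P' : DRing.Cx A} (β : P ⟶ P') (k1 : KFlat P) (k2 : KFlat P') :
    EEq I (Q.map β) ↔ QuasiIso ((DTen.extCx (qm I)).map β) := by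
  haveI : DRing.HasLBaseChange (qm I) := Groth.Agent.Helper6.HasLBC.hasLBaseChange _
  haveI : DTen.HasLBase (qm I) := ⟨(Groth.Agent.Helper6.LBCAdj.adj (qm I)).isRightAdjoint⟩
  haveI := Groth.Agent.Helper6.LBaseCmp.isIso_baseCmp_of_kflat (qm I) P k1
  haveI := Groth.Agent.Helper6.LBaseCmp.isIso_baseCmp_of_kflat (qm I) P' k2
  have hn : (DTen.LBase (qm I)).map (Q.map β) ≫ (DTen.baseCmp (qm I)).app P' =
      (DTen.baseCmp (qm I)).app P ≫ Q.map ((DTen.extCx (qm I)).map β) :=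
    (DTen.baseCmp (qm I)).naturality β
  let adj := DTen.baseAdj (qm I)
  have e : ∀ Y : Dual.D (A ⧸ I),
      (fun g : Q.obj P' ⟶ (res I).obj Y => Q.map β ≫ g) ∘ (adj.homEquiv (Q.obj P') Y) =
      (adj.homEquiv (Q.obj P) Y) ∘
        (fun k : (DTen.LBase (qm I)).obj (Q.obj P') ⟶ Y =>
          (DTen.LBase (qm I)).map (Q.map β) ≫ k) := by
    intro Y
    funext k
    simp only [Function.comp_apply]
    rw [Adjunction.homEquiv_naturality_left]
  have hiso : IsIso ((DTen.LBase (qm I)).map (Q.map β)) ↔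
      IsIso (Q.map ((DTen.extCx (qm I)).map β)) := by
    constructor
    · intro h
      have h1 : Q.map ((DTen.extCx (qm I)).map β) =
          inv ((DTen.baseCmp (qm I)).app P) ≫ (DTen.LBase (qm I)).map (Q.map β) ≫
            (DTen.baseCmp (qm I)).app P' := by
        rw [IsIso.eq_inv_comp]
        exact hn.symm
      rw [h1]
      infer_instance
    · intro h
      have h1 : (DTen.LBase (qm I)).map (Q.map β) =
          (DTen.baseCmp (qm I)).app P ≫ Q.map ((DTen.extCx (qm I)).map β) ≫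
            inv ((DTen.baseCmp (qm I)).app P') := by
        rw [← Category.assoc, IsIso.eq_comp_inv]
        exact hn
      rw [h1]
      infer_instance
  rw [← DerivedCategory.isIso_Q_map_iff_quasiIso, ← hiso]
  constructor
  · intro h
    apply isIso_of_coyoneda_map_bijective
    intro Y
    have h2 : Function.Bijective
        ((fun g : Q.obj P' ⟶ (res I).obj Y => Q.map β ≫ g) ∘ (adj.homEquiv (Q.obj P') Y)) :=
      (h Y).comp (adj.homEquiv _ _).bijective
    rw [e Y] at h2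
    exact (Function.Bijective.of_comp_iff' (adj.homEquiv (Q.obj P) Y).bijective _).mp h2
  · intro h Y
    have h2 : Function.Bijective ((adj.homEquiv (Q.obj P) Y) ∘
        (fun k : (DTen.LBase (qm I)).obj (Q.obj P') ⟶ Y =>
          (DTen.LBase (qm I)).map (Q.map β) ≫ k)) :=
      (adj.homEquiv _ _).bijective.comp
        (Groth.Agent.Helper6.LBaseCmp.bijective_precomp_iso _ _)
    rw [← e Y] at h2
    exact (Function.Bijective.of_comp_iff _ (adj.homEquiv _ _).bijective).mp h2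

/-- `EEq` is stable under tensoring with a K-flat complex -/
theorem eeq_whiskerRight {P P' : DRing.Cx A} (α : P ⟶ P') (kP : KFlat P) (kP' : KFlat P')
    {F : DRing.Cx A} (hF : KFlat F) (h : EEq I (Q.map α)) : EEq I (Q.map (α ▷ F)) :=
  (eeq_iff_quasiIso_ext I (α ▷ F) (kflat_tensor kP hF) (kflat_tensor kP' hF)).mpr
    (quasiIso_ext_whiskerRight (qm I) α hF ((eeq_iff_quasiIso_ext I α kP kP').mp h))

end Groth.Agent.Helper6.DCTen3
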