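import Mathlib
import Groth.Prelude.Def_DRing4
import Groth.Agent.Helper3.DRingResP
import Groth.Agent.Helper6.KProjQ
import Groth.Agent.Helper6.LTenCxCompute
import Groth.Agent.Helper6.DCTen2
import Groth.Agent.Helper6.DCTen3

/-!
# Derived completion commutes with `- ⊗ᴸ F` for `F` bounded above termwise finite free
-/

set_option autoImplicit false
set_option linter.style.haveILetI false
set_option linter.unusedSectionVars false
universe u
open CategoryTheory CategoryTheory.Limits MonoidalCategory DerivedCategory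

attribute [local instance] HasDerivedCategory.standard

namespace Groth.Agent.Helper6.DCTen4

open Groth.Agent.Helper3.DRingLib Groth.Agent.Helper6.TenCx Groth.Agent.Helper6.DCAdic2
  Groth.Agent.Helper6.DComplAmp Groth.Agent.Helper6.DCTen3

variable {A : Type u} [CommRing A] (I : Ideal A)

/-- a bounded above object is represented by a bounded above complex of projectives -/
lemma exists_bddAbove_proj (K : Dual.D A) (b : ℤ)
    (hK : ∀ i : ℤ, b < i → Subsingleton (Dual.HD A K i)) :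
    ∃ (P : DRing.Cx A), DRing.VanishesAbove P b ∧ (∀ i, Module.Projective A (P.X i)) ∧
      Nonempty (Q.obj P ≅ K) := by
  haveI : K.IsLE b := isLE_of_HD K b hK
  obtain ⟨L, hL, ⟨e⟩⟩ := K.exists_iso_Q_obj_of_isLE b
  haveI := hL
  have hb : (DRing.toD L).IsLE b := inferInstance
  obtain ⟨P, α, hPb, hPp, hq⟩ := exists_projective_resolution L b hb
  haveI : IsIso (Q.map α) := (DerivedCategory.isIso_Q_map_iff_quasiIso _ _).mpr hq
  exact ⟨P, hPb, hPp, ⟨asIso (Q.map α) ≪≫ e.symm⟩⟩

/-- transfer of the universal property along isomorphisms -/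
theorem transfer (T : Dual.D A ⥤ Dual.D A) {K K' : Dual.D A} (η : K ⟶ K')
    {X X' Z Z' : Dual.D A} (eK : X ≅ K) (eK' : X' ≅ K') (a : X ⟶ X')
    (ha : a = eK.hom ≫ η ≫ eK'.inv) (u : T.obj X ≅ Z) (u' : T.obj X' ≅ Z') (ζ : Z ⟶ Z')
    (hsq : T.map a ≫ u'.hom = u.hom ≫ ζ) (hZ' : DRing.IsDerivedComplete I Z')
    (hbij : ∀ E : Dual.D A, DRing.IsDerivedComplete I E →
      Function.Bijective (fun φ : Z' ⟶ E => ζ ≫ φ)) :
    DRing.IsDerivedComplete I (T.obj K') ∧
      ∀ E : Dual.D A, DRing.IsDerivedComplete I E →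
        Function.Bijective (fun φ : T.obj K' ⟶ E => T.map η ≫ φ) := by
  refine ⟨isDerivedComplete_of_iso I (u'.symm ≪≫ T.mapIso eK') hZ', fun E hE => ?_⟩
  have hη : T.map η = (T.map eK.inv ≫ u.hom) ≫ ζ ≫ (u'.inv ≫ T.map eK'.hom) := by
    have h1 : η = eK.inv ≫ a ≫ eK'.hom := by
      rw [ha]
      simp
    have h2 : T.map a = u.hom ≫ ζ ≫ u'.inv := by
      rw [← Category.assoc, ← hsq, Category.assoc, Iso.hom_inv_id, Category.comp_id]
    rw [h1, Functor.map_comp, Functor.map_comp, h2]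
    simp only [Category.assoc]
  have h3 : (fun φ : T.obj K' ⟶ E => T.map η ≫ φ) =
      (fun φ : Z ⟶ E => (T.map eK.inv ≫ u.hom) ≫ φ) ∘ (fun φ : Z' ⟶ E => ζ ≫ φ) ∘
        (fun φ : T.obj K' ⟶ E => (u'.inv ≫ T.map eK'.hom) ≫ φ) := by
    funext φ
    simp only [Function.comp_apply]
    rw [hη]
    simp only [Category.assoc]
  rw [h3]
  exact (Groth.Agent.Helper6.LBaseCmp.bijective_precomp_iso _ E).comp
    ((hbij E hE).comp (Groth.Agent.Helper6.LBaseCmp.bijective_precomp_iso _ E))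

variable [DRing.HasDerivedCompletion I]

/-- **complex level statement** -/
theorem main (fs : List A) (hspan : Ideal.span {a | a ∈ fs} = I) (F : DRing.Cx A) (c : ℤ)
    (hFc : DRing.VanishesAbove F c) (hFf : DRing.TermwiseFiniteFree F)
    (P P' : DRing.Cx A) (b : ℤ) (hPb : DRing.VanishesAbove P b)
    (hP'b : DRing.VanishesAbove P' b)
    (hPp : ∀ i, Module.Projective A (P.X i)) (hP'p : ∀ i, Module.Projective A (P'.X i))
    (α : P ⟶ P') (hDC : DRing.IsDerivedComplete I (Q.obj P')) (hE : EEq I (Q.map α)) :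
    DRing.IsDerivedComplete I (Q.obj (P' ⊗ F)) ∧
      ∀ E : Dual.D A, DRing.IsDerivedComplete I E →
        Function.Bijective (fun φ : Q.obj (P' ⊗ F) ⟶ E => Q.map (α ▷ F) ≫ φ) := by
  have hF : KFlat F := kflat_of_boundedAbove_flat F c hFc (fun i => by
    have := (hFf i).2
    infer_instance)
  have kP : KFlat P := kflat_of_boundedAbove_flat P b hPb (fun i => by
    have := hPp i
    infer_instance)
  have kP' : KFlat P' := kflat_of_boundedAbove_flat P' b hP'b (fun i => by
    have := hP'p i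
    infer_instance)
  have hY : DRing.IsDerivedComplete I (Q.obj (P' ⊗ F)) :=
    Groth.Agent.Helper6.DCTen2.isDC_tensor I P' b hP'b hDC F c hFc hFf
  have hE' : EEq I (Q.map (α ▷ F)) := eeq_whiskerRight I α kP kP' hF hE
  have hXb : ∀ i, b + c < i → HZ (Q.obj (P ⊗ F)) i := fun i hi =>
    (hz_Q_iff _ i).mpr (exactAt_of_isZero_X _ i
      (Groth.Agent.Helper6.TenFin.vanishesAbove_tensor P F b c hPb hFc i hi))
  have hYb : ∀ i, b + c < i → HZ (Q.obj (P' ⊗ F)) i := fun i hi =>
    (hz_Q_iff _ i).mpr (exactAt_of_isZero_X _ i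
      (Groth.Agent.Helper6.TenFin.vanishesAbove_tensor P' F b c hP'b hFc i hi))
  obtain ⟨ψ, hψ⟩ := exists_iso_of_eeq I fs hspan (Q.map (α ▷ F)) hY (b + c) hXb hYb hE'
  refine ⟨hY, fun E hE0 => ?_⟩
  have h1 := toDerivedCompletion_bijective I (Q.obj (P ⊗ F)) E hE0
  have h2 := Groth.Agent.Helper6.LBaseCmp.bijective_precomp_iso ψ.hom E
  have h3 : (fun φ : Q.obj (P' ⊗ F) ⟶ E => Q.map (α ▷ F) ≫ φ) =
      (fun φ' : ((DRing.derivedCompletion I).obj (Q.obj (P ⊗ F))).obj ⟶ E =>
        DRing.toDerivedCompletion I (Q.obj (P ⊗ F)) ≫ φ') ∘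
        (fun φ : Q.obj (P' ⊗ F) ⟶ E => ψ.hom ≫ φ) := by
    funext φ
    simp only [Function.comp_apply]
    rw [← Category.assoc, hψ]
  rw [h3]
  exact h1.comp h2

/-- models of `K → K^` by bounded above complexes of projectives -/
lemma exists_models (fs : List A) (hspan : Ideal.span {a | a ∈ fs} = I) (K : Dual.D A) (b : ℤ)
    (hK : ∀ i : ℤ, b < i → Subsingleton (Dual.HD A K i)) :
    ∃ (P P' : DRing.Cx A) (α : P ⟶ P') (eK : Q.obj P ≅ K)
      (eK' : Q.obj P' ≅ ((DRing.derivedCompletion I).obj K).obj),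
      DRing.VanishesAbove P b ∧ DRing.VanishesAbove P' b ∧
        (∀ i, Module.Projective A (P.X i)) ∧ (∀ i, Module.Projective A (P'.X i)) ∧
          Q.map α = eK.hom ≫ DRing.toDerivedCompletion I K ≫ eK'.inv := by
  obtain ⟨P, hPb, hPp, ⟨eK⟩⟩ := exists_bddAbove_proj K b hK
  have hK' : ∀ i : ℤ, b < i →
      Subsingleton (Dual.HD A ((DRing.derivedCompletion I).obj K).obj i) := fun i hi =>
    (hz_iff_subsingleton _ i).mp
      (Groth.Agent.Helper6.DComplLES.hz_derivedCompletion I fs hspan K i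
        (fun j hj _ => (hz_iff_subsingleton K j).mpr (hK j (by omega))))
  obtain ⟨P', hP'b, hP'p, ⟨eK'⟩⟩ := exists_bddAbove_proj _ b hK'
  haveI : P.IsKProjective := isKProjective_of_vanishesAbove P b hPb hPp
  obtain ⟨α, hα⟩ := Groth.Agent.Helper6.KProjQ.Q_map_surjective P P'
    (eK.hom ≫ DRing.toDerivedCompletion I K ≫ eK'.inv)
  exact ⟨P, P', α, eK, eK', hPb, hP'b, hPp, hP'p, hα⟩

/-- the version for a general functor computed on K-projectives by `- ⊗ F` -/
theorem main_functor (fs : List A) (hspan : Ideal.span {a | a ∈ fs} = I) (F : DRing.Cx A) (c : ℤ)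
    (hFc : DRing.VanishesAbove F c) (hFf : DRing.TermwiseFiniteFree F)
    (T : Dual.D A ⥤ Dual.D A)
    (u : ∀ (P : DRing.Cx A) [P.IsKProjective], T.obj (Q.obj P) ≅ Q.obj (P ⊗ F))
    (hu : ∀ (P P' : DRing.Cx A) [P.IsKProjective] [P'.IsKProjective] (α : P ⟶ P'),
      T.map (Q.map α) ≫ (u P').hom = (u P).hom ≫ Q.map (α ▷ F))
    (K : Dual.D A) (b : ℤ) (hK : ∀ i : ℤ, b < i → Subsingleton (Dual.HD A K i)) :
    DRing.IsDerivedComplete I (T.obj ((DRing.derivedCompletion I).obj K).obj) ∧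
      ∀ E : Dual.D A, DRing.IsDerivedComplete I E →
        Function.Bijective (fun φ : T.obj ((DRing.derivedCompletion I).obj K).obj ⟶ E =>
          T.map (DRing.toDerivedCompletion I K) ≫ φ) := by
  obtain ⟨P, P', α, eK, eK', hPb, hP'b, hPp, hP'p, hα⟩ := exists_models I fs hspan K b hK
  haveI : P.IsKProjective := isKProjective_of_vanishesAbove P b hPb hPp
  haveI : P'.IsKProjective := isKProjective_of_vanishesAbove P' b hP'b hP'p
  have hDC : DRing.IsDerivedComplete I (Q.obj P') :=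
    isDerivedComplete_of_iso I eK'.symm ((DRing.derivedCompletion I).obj K).property
  have hE : EEq I (Q.map α) := by
    rw [hα]
    exact EEq.comp (eeq_of_isIso I eK.hom) (EEq.comp (eeq_unit I K) (eeq_of_isIso I eK'.inv))
  obtain ⟨h1, h2⟩ := main I fs hspan F c hFc hFf P P' b hPb hP'b hPp hP'p α hDC hE
  exact transfer I T (DRing.toDerivedCompletion I K) eK eK' (Q.map α) hα (u P) (u P')
    (Q.map (α ▷ F)) (hu P P' α) h1 h2

end Groth.Agent.Helper6.DCTen4
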