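import Mathlib
import Groth.Prelude.Def_DRing4
import Groth.Prelude.Def_DTen
import Groth.Agent.Helper3.DRingPC4
import Groth.Agent.Helper3.DRingRes
import Groth.Agent.Helper6.SingleTen
import Groth.Agent.Helper6.LTenModCompute
import Groth.Agent.Helper6.DCTen4

/-!
# Derived completion commutes with `- ⊗ᴸ M` for a finite module `M` over a Noetherian ring
-/

set_option autoImplicit false
set_option linter.style.haveILetI false
set_option linter.unusedSectionVars false
universe u
open CategoryTheory CategoryTheory.Limits MonoidalCategory DerivedCategory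

attribute [local instance] HasDerivedCategory.standard

namespace Groth.Agent.Helper6.DCTen5

open Groth.Agent.Helper3.DRingLib Groth.Agent.Helper6.TenCx Groth.Agent.Helper6.DCAdic2
  Groth.Agent.Helper6.DComplAmp Groth.Agent.Helper6.DCTen3 Groth.Agent.Helper6.DCTen4
  Groth.Agent.Helper6.SingleTen Groth.Agent.Helper6.LTenModCompute

variable {A : Type u} [CommRing A] (N : ModuleCat.{u} A)

section rho

lemma e_nat {P P' : DRing.Cx A} (g : P ⟶ P') (n : ℤ) :
    ((sN N).X 0 ◁ g.f n) ≫ (e N P' n).hom = (e N P n).hom ≫ (g.f n ▷ N) := by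
  simp only [e, Iso.trans_hom, whiskerLeftIso_hom, Category.assoc]
  rw [BraidedCategory.braiding_naturality_right_assoc, whisker_exchange]

/-- the identification `N[0] ⊗ P ≅ P ⊗ N` (termwise tensor product) -/
noncomputable def rho (P : DRing.Cx A) : sN N ⊗ P ⟶ (tensF N).obj P where
  f n := π (sN N) P 0 n n (zero_add n) ≫ (e N P n).hom
  comm' i j hij := by
    obtain rfl : i + 1 = j := hij
    apply ModuleCat.hom_ext
    apply LinearMap.ext
    intro w
    obtain ⟨v, rfl⟩ : ∃ v, w = ι (sN N) P 0 i i (zero_add i) v := ⟨_, eq_ι_π N P i w⟩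
    show (P.d i (i + 1) ▷ N) ((e N P i).hom
        (π (sN N) P 0 i i (zero_add i) (ι (sN N) P 0 i i (zero_add i) v))) =
      (e N P (i + 1)).hom (π (sN N) P 0 (i + 1) (i + 1) (zero_add _)
        ((sN N ⊗ P).d i (i + 1) (ι (sN N) P 0 i i (zero_add i) v)))
    rw [π_ι_self, d_ι_zero, π_ι_self]
    exact (e_naturality_apply N P i (i + 1) v).symm

instance isIso_rho (P : DRing.Cx A) : IsIso (rho N P) := by
  haveI : ∀ n, IsIso ((rho N P).f n) := fun n => by
    have hπ : IsIso (π (sN N) P 0 n n (zero_add n)) := by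
      refine ⟨ι (sN N) P 0 n n (zero_add n), ?_, ?_⟩
      · apply ModuleCat.hom_ext
        apply LinearMap.ext
        intro w
        exact (eq_ι_π N P n w).symm
      · apply ModuleCat.hom_ext
        apply LinearMap.ext
        intro t
        exact π_ι_self (sN N) P 0 n n (zero_add n) t
    show IsIso (π (sN N) P 0 n n (zero_add n) ≫ (e N P n).hom)
    infer_instance
  exact HomologicalComplex.Hom.isIso_of_components _

lemma rho_naturality {P P' : DRing.Cx A} (g : P ⟶ P') :
    (sN N ◁ g) ≫ rho N P' = rho N P ≫ (tensF N).map g := by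
  refine HomologicalComplex.hom_ext _ _ (fun n => ?_)
  apply ModuleCat.hom_ext
  apply LinearMap.ext
  intro w
  obtain ⟨v, rfl⟩ : ∃ v, w = ι (sN N) P 0 n n (zero_add n) v := ⟨_, eq_ι_π N P n w⟩
  show (e N P' n).hom (π (sN N) P' 0 n n (zero_add n)
      ((sN N ◁ g).f n (ι (sN N) P 0 n n (zero_add n) v))) =
    (g.f n ▷ N) ((e N P n).hom (π (sN N) P 0 n n (zero_add n)
      (ι (sN N) P 0 n n (zero_add n) v)))
  have h1 : (sN N ◁ g).f n (ι (sN N) P 0 n n (zero_add n) v) =
      ι (sN N) P' 0 n n (zero_add n) (((sN N).X 0 ◁ g.f n) v) :=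
    congrArg (fun f => f.hom v) (ι_whiskerLeft (sN N) g 0 n n (zero_add n))
  rw [h1, π_ι_self, π_ι_self]
  exact congrArg (fun f => f.hom v) (e_nat N g n)

end rho

section kappa

variable (F : DRing.Cx A) (ε : F ⟶ sN N)

/-- the comparison `P ⊗ F ⟶ P ⊗ N` induced by `F → N[0]` -/
noncomputable def kappa (P : DRing.Cx A) : P ⊗ F ⟶ (tensF N).obj P :=
  (DTen.braidCx P F).hom ≫ (ε ▷ P) ≫ rho N P

lemma kappa_naturality {P P' : DRing.Cx A} (g : P ⟶ P') :
    (g ▷ F) ≫ kappa N F ε P' = kappa N F ε P ≫ (tensF N).map g := by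
  unfold kappa
  have h1 := DTen.braidCx_naturality g (𝟙 F)
  rw [MonoidalCategory.tensorHom_id, MonoidalCategory.id_tensorHom] at h1
  calc (g ▷ F) ≫ (DTen.braidCx P' F).hom ≫ (ε ▷ P') ≫ rho N P'
      = (DTen.braidCx P F).hom ≫ (F ◁ g) ≫ (ε ▷ P') ≫ rho N P' := by
        rw [← Category.assoc, h1, Category.assoc]
    _ = (DTen.braidCx P F).hom ≫ (ε ▷ P) ≫ (sN N ◁ g) ≫ rho N P' := by
        rw [← Category.assoc (F ◁ g), MonoidalCategory.whisker_exchange, Category.assoc]
    _ = (DTen.braidCx P F).hom ≫ (ε ▷ P) ≫ rho N P ≫ (tensF N).map g := by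
        rw [rho_naturality]
    _ = ((DTen.braidCx P F).hom ≫ (ε ▷ P) ≫ rho N P) ≫ (tensF N).map g := by
        simp only [Category.assoc]

lemma quasiIso_kappa (hε : QuasiIso ε) (P : DRing.Cx A) (hP : KFlat P) :
    QuasiIso (kappa N F ε P) := by
  unfold kappa
  haveI := quasiIso_whiskerRight hP ε hε
  infer_instance

end kappa

/-- finite free resolutions of finite modules over Noetherian rings -/
lemma exists_resolution [IsNoetherianRing A] (M : Type u) [AddCommGroup M] [Module A M]
    [Module.Finite A M] :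
    ∃ (F : DRing.Cx A) (c : ℤ) (ε : F ⟶ sN (ModuleCat.of A M)), DRing.VanishesAbove F c ∧
      DRing.TermwiseFiniteFree F ∧ QuasiIso ε := by
  obtain ⟨E, c, hEc, hEf, ⟨e0⟩⟩ := isPseudoCoherent'_of_forall (Dual.inD A M)
    (fun m => isPseudoCoherent_inD_of_finite_noetherian' M m)
  haveI : E.IsKProjective := isKProjective_of_vanishesAbove E c hEc (fun i => by
    have := (hEf i).2
    infer_instance)
  let e' : Q.obj E ≅ Q.obj (sN (ModuleCat.of A M)) :=
    e0 ≪≫ (DerivedCategory.singleFunctorIsoCompQ (ModuleCat.{u} A) 0).app (ModuleCat.of A M)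
  obtain ⟨ε, hε⟩ := Groth.Agent.Helper6.KProjQ.Q_map_surjective E _ e'.hom
  refine ⟨E, c, ε, hEc, hEf, ?_⟩
  rw [← DerivedCategory.isIso_Q_map_iff_quasiIso, hε]
  infer_instance

/-- **derived completion commutes with `- ⊗ᴸ M`** -/
theorem main [IsNoetherianRing A] (I : Ideal A) [DRing.HasDerivedCompletion I] (M : Type u)
    [AddCommGroup M] [Module A M] [Module.Finite A M] [DRing.HasLTensor A (ModuleCat.of A M)]
    (K : Dual.D A) (b : ℤ) (hK : ∀ i : ℤ, b < i → Subsingleton (Dual.HD A K i)) :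
    DRing.IsDerivedComplete I
        ((DRing.LTensor A (ModuleCat.of A M)).obj ((DRing.derivedCompletion I).obj K).obj) ∧
      ∀ E : Dual.D A, DRing.IsDerivedComplete I E →
        Function.Bijective
          (fun φ : (DRing.LTensor A (ModuleCat.of A M)).obj
              ((DRing.derivedCompletion I).obj K).obj ⟶ E =>
            (DRing.LTensor A (ModuleCat.of A M)).map (DRing.toDerivedCompletion I K) ≫ φ) := by
  obtain ⟨fs, hfs⟩ := Groth.Agent.Helper6.DerNak.exists_list_of_fg I (IsNoetherian.noetherian I)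
  have hspan : Ideal.span {a | a ∈ fs} = I := hfs.symm
  obtain ⟨F, c, ε, hFc, hFf, hε⟩ := exists_resolution (A := A) M
  obtain ⟨P, P', α, eK, eK', hPb, hP'b, hPp, hP'p, hα⟩ := exists_models I fs hspan K b hK
  haveI : P.IsKProjective := isKProjective_of_vanishesAbove P b hPb hPp
  haveI : P'.IsKProjective := isKProjective_of_vanishesAbove P' b hP'b hP'p
  have kP : KFlat P := kflat_of_boundedAbove_flat P b hPb (fun i => by
    have := hPp i
    infer_instance)
  have kP' : KFlat P' := kflat_of_boundedAbove_flat P' b hP'b (fun i => by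
    have := hP'p i
    infer_instance)
  have hDC : DRing.IsDerivedComplete I (Q.obj P') :=
    isDerivedComplete_of_iso I eK'.symm ((DRing.derivedCompletion I).obj K).property
  have hE : EEq I (Q.map α) := by
    rw [hα]
    exact EEq.comp (eeq_of_isIso I eK.hom) (EEq.comp (eeq_unit I K) (eeq_of_isIso I eK'.inv))
  obtain ⟨h1, h2⟩ := Groth.Agent.Helper6.DCTen4.main I fs hspan F c hFc hFf P P' b hPb hP'b
    hPp hP'p α hDC hE
  let Mc : ModuleCat.{u} A := ModuleCat.of A M
  have q1 : QuasiIso (kappa Mc F ε P) := quasiIso_kappa Mc F ε hε P kP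
  have q2 : QuasiIso (kappa Mc F ε P') := quasiIso_kappa Mc F ε hε P' kP'
  haveI i1 : IsIso (Q.map (kappa Mc F ε P)) :=
    (DerivedCategory.isIso_Q_map_iff_quasiIso _ _).mpr q1
  haveI i2 : IsIso (Q.map (kappa Mc F ε P')) :=
    (DerivedCategory.isIso_Q_map_iff_quasiIso _ _).mpr q2
  let u : (DRing.LTensor A Mc).obj (Q.obj P) ≅ Q.obj (P ⊗ F) :=
    ltIso Mc P ≪≫ (asIso (Q.map (kappa Mc F ε P))).symm
  let u' : (DRing.LTensor A Mc).obj (Q.obj P') ≅ Q.obj (P' ⊗ F) :=
    ltIso Mc P' ≪≫ (asIso (Q.map (kappa Mc F ε P'))).symm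
  have hsq : (DRing.LTensor A Mc).map (Q.map α) ≫ u'.hom = u.hom ≫ Q.map (α ▷ F) := by
    have n1 : (DRing.LTensor A Mc).map (Q.map α) ≫ (ltNat Mc).app P' =
        (ltNat Mc).app P ≫ Q.map ((tensF Mc).map α) := (ltNat Mc).naturality α
    have n2 : Q.map (α ▷ F) ≫ Q.map (kappa Mc F ε P') =
        Q.map (kappa Mc F ε P) ≫ Q.map ((tensF Mc).map α) := by
      rw [← Functor.map_comp, ← Functor.map_comp, kappa_naturality]
    show (DRing.LTensor A Mc).map (Q.map α) ≫ (ltNat Mc).app P' ≫
        inv (Q.map (kappa Mc F ε P')) =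
      ((ltNat Mc).app P ≫ inv (Q.map (kappa Mc F ε P))) ≫ Q.map (α ▷ F)
    rw [← Category.assoc, n1, Category.assoc, Category.assoc]
    congr 1
    rw [IsIso.eq_inv_comp, ← Category.assoc, IsIso.comp_inv_eq]
    exact n2.symm
  exact transfer I (DRing.LTensor A Mc) (DRing.toDerivedCompletion I K) eK eK' (Q.map α) hα u u'
    (Q.map (α ▷ F)) hsq h1 h2

end Groth.Agent.Helper6.DCTen5
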