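import Mathlib

/-!
# Lubin–Tate lemma: general engine

For power series `f₁ f₂ ∈ R⟦X⟧` with zero constant term and the same linear coefficient `π`,
we study `T φ = f₁(φ) - φ(f₂(X₁),…,f₂(Xₙ))` for `φ ∈ R⟦X_σ⟧`.
-/

namespace Groth.Agent.Helper6.LubinTate

open MvPowerSeries

variable {R : Type*} [CommRing R]

section Basic
variable {σ : Type*}

theorem le_order_pow_sub_pow {φ ψ : MvPowerSeries σ R} (hφ : constantCoeff φ = 0)
    (hψ : constantCoeff ψ = 0) {m : ℕ} (h : (m : ℕ∞) ≤ (φ - ψ).order) (d : ℕ) :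
    ((m + d : ℕ) : ℕ∞) ≤ (φ ^ (d + 1) - ψ ^ (d + 1)).order := by
  induction d with
  | zero => simpa using h
  | succ d ih =>
    have e : φ ^ (d + 1 + 1) - ψ ^ (d + 1 + 1) =
        φ * (φ ^ (d + 1) - ψ ^ (d + 1)) + (φ - ψ) * ψ ^ (d + 1) := by ring
    rw [e]
    refine le_trans ?_ min_order_le_add
    refine le_min ?_ ?_
    · refine le_trans ?_ le_order_mul
      have h1 : (1 : ℕ∞) ≤ φ.order := one_le_order_iff_constCoeff_eq_zero.mpr hφ
      calc ((m + (d + 1) : ℕ) : ℕ∞) = 1 + ((m + d : ℕ) : ℕ∞) := by push_cast; ring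
        _ ≤ _ := add_le_add h1 ih
    · refine le_trans ?_ le_order_mul
      have h2 : ((d + 1 : ℕ) : ℕ∞) ≤ (ψ ^ (d + 1)).order :=
        le_order_pow_of_constantCoeff_eq_zero _ hψ
      calc ((m + (d + 1) : ℕ) : ℕ∞) = (m : ℕ∞) + ((d + 1 : ℕ) : ℕ∞) := by push_cast; ring
        _ ≤ _ := add_le_add h h2

/-- coefficientwise version -/
theorem coeff_pow_eq_of_le_order {φ ψ : MvPowerSeries σ R} (hφ : constantCoeff φ = 0)
    (hψ : constantCoeff ψ = 0) {m : ℕ} (h : (m : ℕ∞) ≤ (φ - ψ).order) (d : ℕ) (hd : 2 ≤ d)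
    (e : σ →₀ ℕ) (he : e.degree ≤ m) : coeff e (φ ^ d) = coeff e (ψ ^ d) := by
  obtain ⟨d, rfl⟩ : ∃ k, d = k + 1 := ⟨d - 1, by omega⟩
  have h1 := le_order_pow_sub_pow hφ hψ h d
  have h2 : coeff e (φ ^ (d + 1) - ψ ^ (d + 1)) = 0 := by
    apply coeff_of_lt_order
    refine lt_of_lt_of_le ?_ h1
    exact_mod_cast (by omega : e.degree < m + d)
  rw [map_sub, sub_eq_zero] at h2
  exact h2

/-- Key lemma A: the `f₁`-part. -/
theorem coeff_subst_sub_subst (f : PowerSeries R) {φ ψ : MvPowerSeries σ R}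
    (hφ : constantCoeff φ = 0) (hψ : constantCoeff ψ = 0) {m : ℕ}
    (h : (m : ℕ∞) ≤ (φ - ψ).order) (e : σ →₀ ℕ) (he : e.degree ≤ m) :
    coeff e (PowerSeries.subst φ f) - coeff e (PowerSeries.subst ψ f) =
      PowerSeries.coeff 1 f * (coeff e φ - coeff e ψ) := by
  have Hφ := PowerSeries.HasSubst.of_constantCoeff_zero hφ
  have Hψ := PowerSeries.HasSubst.of_constantCoeff_zero hψ
  rw [PowerSeries.coeff_subst Hφ, PowerSeries.coeff_subst Hψ,
    ← finsum_sub_distrib (PowerSeries.coeff_subst_finite Hφ f e)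
      (PowerSeries.coeff_subst_finite Hψ f e)]
  rw [finsum_eq_single _ 1]
  · simp [mul_sub]
  · intro d hd
    rcases Nat.lt_or_ge d 2 with h2 | h2
    · have : d = 0 := by omega
      subst this; simp
    · rw [coeff_pow_eq_of_le_order hφ hψ h d h2 e he, sub_self]

theorem prod_X_mul (v : σ → MvPowerSeries σ R) (d : σ →₀ ℕ) :
    (d.prod fun s k => (X s * v s) ^ k) = monomial d 1 * d.prod fun s k => v s ^ k := by
  simp only [mul_pow, Finsupp.prod_mul, ← monomial_one_eq]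

theorem prod_const_pow (c : R) (d : σ →₀ ℕ) : (d.prod fun _ k => c ^ k) = c ^ d.degree := by
  rw [Finsupp.prod, Finset.prod_pow_eq_pow_sum, Finsupp.degree_apply]

/-- Key lemma B: the `f₂`-part. -/
theorem coeff_subst_X_mul [Finite σ] {v : σ → MvPowerSeries σ R} {c : R}
    (hv : ∀ i, constantCoeff (v i) = c) {Δ : MvPowerSeries σ R} {m : ℕ}
    (h : (m : ℕ∞) ≤ Δ.order) (e : σ →₀ ℕ) (he : e.degree ≤ m) :
    coeff e (subst (fun i => X i * v i) Δ) = c ^ m * coeff e Δ := by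
  have ha : HasSubst (fun i => X i * v i) :=
    hasSubst_of_constantCoeff_zero (fun i => by simp)
  rw [coeff_subst ha, finsum_eq_single _ e]
  · rw [prod_X_mul, coeff_monomial_mul, if_pos le_rfl, tsub_self, one_mul,
      coeff_zero_eq_constantCoeff_apply, map_finsuppProd]
    simp only [map_pow, hv, prod_const_pow, smul_eq_mul]
    rcases lt_or_eq_of_le he with h1 | h1
    · rw [coeff_of_lt_order (lt_of_lt_of_le (by exact_mod_cast h1) h)]; simp
    · rw [h1, mul_comm]
  · intro d hd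
    by_cases hdm : d.degree < m
    · rw [coeff_of_lt_order (lt_of_lt_of_le (by exact_mod_cast hdm) h), zero_smul]
    · rw [prod_X_mul, coeff_monomial_mul, if_neg, smul_zero]
      intro hle
      apply hd
      have h1 : d.degree ≤ e.degree := Finsupp.degree_mono hle
      have h2 : (e - d).degree = 0 := by
        have := congrArg Finsupp.degree (add_tsub_cancel_of_le hle)
        rw [map_add] at this
        omega
      have h3 : e - d = 0 := (Finsupp.degree_eq_zero_iff _).mp h2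
      have := add_tsub_cancel_of_le hle
      rw [h3, add_zero] at this
      exact this

theorem constantCoeff_subst_of_constantCoeff_zero {a : MvPowerSeries σ R}
    (ha : constantCoeff a = 0) (h : PowerSeries R) :
    constantCoeff (PowerSeries.subst a h) = PowerSeries.constantCoeff h := by
  rw [PowerSeries.constantCoeff_subst (PowerSeries.HasSubst.of_constantCoeff_zero ha),
    finsum_eq_single _ 0]
  · simp
  · intro d hd
    simp [ha, hd]

/-- For const-free `g`, `g(X_i) = X_i * v_i` with `v_i` having constant coefficient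
`coeff 1 g`. -/
theorem exists_subst_X_eq (g : PowerSeries R) (hg : PowerSeries.constantCoeff g = 0) :
    ∃ v : σ → MvPowerSeries σ R, (∀ i, constantCoeff (v i) = PowerSeries.coeff 1 g) ∧
      ∀ i, PowerSeries.subst (X i) g = X i * v i := by
  obtain ⟨h, rfl⟩ : PowerSeries.X ∣ g := PowerSeries.X_dvd_iff.mpr hg
  refine ⟨fun i => PowerSeries.subst (X i) h, fun i => ?_, fun i => ?_⟩
  · rw [constantCoeff_subst_of_constantCoeff_zero (by simp)]
    simp
  · rw [PowerSeries.subst_mul (PowerSeries.HasSubst.X i),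
      PowerSeries.subst_X (PowerSeries.HasSubst.X i)]

end Basic

section Main
variable {σ : Type*}

/-- the family `i ↦ g(X_i)` -/
noncomputable def av (g : PowerSeries R) : σ → MvPowerSeries σ R :=
  fun i => PowerSeries.subst (X i) g

theorem constantCoeff_av (g : PowerSeries R) (hg : PowerSeries.constantCoeff g = 0) (i : σ) :
    constantCoeff (av g i) = 0 := by
  rw [av, constantCoeff_subst_of_constantCoeff_zero (by simp), hg]

theorem hasSubst_av [Finite σ] (g : PowerSeries R) (hg : PowerSeries.constantCoeff g = 0) :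
    HasSubst (av (σ := σ) g) :=
  hasSubst_of_constantCoeff_zero (constantCoeff_av g hg)

/-- `T φ = f₁(φ) - φ(f₂(X))`. -/
noncomputable def T (f₁ f₂ : PowerSeries R) (φ : MvPowerSeries σ R) : MvPowerSeries σ R :=
  PowerSeries.subst φ f₁ - subst (av f₂) φ

variable [Finite σ] {f₁ f₂ : PowerSeries R} {π : R}

theorem coeff_T_sub (h₁' : PowerSeries.coeff 1 f₁ = π)
    (h₂ : PowerSeries.constantCoeff f₂ = 0) (h₂' : PowerSeries.coeff 1 f₂ = π)
    {φ ψ : MvPowerSeries σ R} (hφ : constantCoeff φ = 0) (hψ : constantCoeff ψ = 0) {m : ℕ}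
    (h : (m : ℕ∞) ≤ (φ - ψ).order) (e : σ →₀ ℕ) (he : e.degree ≤ m) :
    coeff e (T f₁ f₂ φ) - coeff e (T f₁ f₂ ψ) = (π - π ^ m) * (coeff e φ - coeff e ψ) := by
  obtain ⟨v, hv, hav⟩ := exists_subst_X_eq (σ := σ) f₂ h₂
  have hav' : av f₂ = fun i => X i * v i := funext hav
  have key : coeff e (subst (av f₂) φ) - coeff e (subst (av f₂) ψ) =
      π ^ m * (coeff e φ - coeff e ψ) := by
    rw [← map_sub, ← subst_sub (hasSubst_av f₂ h₂), hav', coeff_subst_X_mul hv h e he, h₂',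
      map_sub]
  have keyA := coeff_subst_sub_subst f₁ hφ hψ h e he
  rw [h₁'] at keyA
  simp only [T, map_sub]
  linear_combination keyA - key

/-- Uniqueness in the Lubin–Tate lemma. -/
theorem unique (h₁' : PowerSeries.coeff 1 f₁ = π)
    (h₂ : PowerSeries.constantCoeff f₂ = 0) (h₂' : PowerSeries.coeff 1 f₂ = π)
    (hreg : ∀ m, 2 ≤ m → ∀ x : R, (π - π ^ m) * x = 0 → x = 0)
    {φ ψ : MvPowerSeries σ R} (hφ : constantCoeff φ = 0) (hψ : constantCoeff ψ = 0)
    (hT : T f₁ f₂ φ = T f₁ f₂ ψ) (h2 : (2 : ℕ∞) ≤ (φ - ψ).order) : φ = ψ := by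
  have key : ∀ m : ℕ, 2 ≤ m → (m : ℕ∞) ≤ (φ - ψ).order := by
    intro m hm
    induction m, hm using Nat.le_induction with
    | base => exact_mod_cast h2
    | succ m hm ih =>
      apply nat_le_order
      intro d hd
      have := coeff_T_sub h₁' h₂ h₂' hφ hψ ih d (by omega)
      rw [hT, sub_self] at this
      rw [map_sub]
      exact hreg m hm _ this.symm
  have : (φ - ψ).order = ⊤ := by
    rw [ENat.eq_top_iff_forall_ge]
    intro m
    exact le_trans (by exact_mod_cast (by omega : m ≤ m + 2)) (key (m + 2) (by omega))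
  rw [order_eq_top_iff, sub_eq_zero] at this
  exact this

omit [Finite σ] in
theorem subst_zero' {τ : Type*} {a : σ → MvPowerSeries τ R} (ha : HasSubst a) :
    subst a (0 : MvPowerSeries σ R) = 0 := by
  rw [← coe_substAlgHom ha, map_zero]

theorem T_zero (h₁ : PowerSeries.constantCoeff f₁ = 0)
    (h₂ : PowerSeries.constantCoeff f₂ = 0) : T f₁ f₂ (0 : MvPowerSeries σ R) = 0 := by
  rw [T, PowerSeries.subst_zero_of_constantCoeff_zero h₁, subst_zero' (hasSubst_av f₂ h₂),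
    sub_zero]

theorem le_order_T (h₁ : PowerSeries.constantCoeff f₁ = 0) (h₁' : PowerSeries.coeff 1 f₁ = π)
    (h₂ : PowerSeries.constantCoeff f₂ = 0) (h₂' : PowerSeries.coeff 1 f₂ = π)
    (φ : MvPowerSeries σ R) (hφ : constantCoeff φ = 0) : (2 : ℕ∞) ≤ (T f₁ f₂ φ).order := by
  have h1 : ((1 : ℕ) : ℕ∞) ≤ (φ - 0).order := by
    simpa using one_le_order_iff_constCoeff_eq_zero.mpr hφ
  have : ((2 : ℕ) : ℕ∞) ≤ (T f₁ f₂ φ).order := by
    apply nat_le_order
    intro d hd
    have := coeff_T_sub h₁' h₂ h₂' hφ (by simp) h1 d (by omega)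
    rw [T_zero h₁ h₂] at this
    simpa using this
  exact_mod_cast this

/-- Lipschitz property of `T`. -/
theorem le_order_T_sub (h₁' : PowerSeries.coeff 1 f₁ = π)
    (h₂ : PowerSeries.constantCoeff f₂ = 0) (h₂' : PowerSeries.coeff 1 f₂ = π)
    {φ ψ : MvPowerSeries σ R} (hφ : constantCoeff φ = 0) (hψ : constantCoeff ψ = 0) {m : ℕ}
    (h : (m : ℕ∞) ≤ (φ - ψ).order) : (m : ℕ∞) ≤ (T f₁ f₂ φ - T f₁ f₂ ψ).order := by
  apply nat_le_order
  intro d hd
  have := coeff_T_sub h₁' h₂ h₂' hφ hψ h d hd.le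
  rw [map_sub, this, ← map_sub, coeff_of_lt_order (lt_of_lt_of_le (by exact_mod_cast hd) h),
    mul_zero]

theorem exists_step (h₁' : PowerSeries.coeff 1 f₁ = π)
    (h₂ : PowerSeries.constantCoeff f₂ = 0) (h₂' : PowerSeries.coeff 1 f₂ = π)
    (hdiv : ∀ φ : MvPowerSeries σ R, constantCoeff φ = 0 → ∀ e : σ →₀ ℕ, 2 ≤ e.degree →
      (π - π ^ e.degree) ∣ coeff e (T f₁ f₂ φ))
    (n : ℕ) (φ : MvPowerSeries σ R) (hφ : constantCoeff φ = 0)
    (hT : ((n + 2 : ℕ) : ℕ∞) ≤ (T f₁ f₂ φ).order) :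
    ∃ φ' : MvPowerSeries σ R, (constantCoeff φ' = 0 ∧
      ((n + 1 + 2 : ℕ) : ℕ∞) ≤ (T f₁ f₂ φ').order) ∧
      ((n + 2 : ℕ) : ℕ∞) ≤ (φ' - φ).order := by
  classical
  have hc : ∀ e : σ →₀ ℕ, ∃ c : R, 2 ≤ e.degree →
      coeff e (T f₁ f₂ φ) = (π - π ^ e.degree) * c := by
    intro e
    by_cases he : 2 ≤ e.degree
    · obtain ⟨c, hc⟩ := hdiv φ hφ e he
      exact ⟨c, fun _ => hc⟩
    · exact ⟨0, fun h => absurd h he⟩
  choose c hc using hc
  let Δ : MvPowerSeries σ R := fun e => if e.degree = n + 2 then - c e else 0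
  have hΔ : ∀ e, coeff e Δ = if e.degree = n + 2 then - c e else 0 := fun e => rfl
  have hΔord : ((n + 2 : ℕ) : ℕ∞) ≤ Δ.order :=
    nat_le_order (fun d hd => by rw [hΔ, if_neg (by omega)])
  have hΔ0 : constantCoeff Δ = 0 := by
    rw [← coeff_zero_eq_constantCoeff_apply, hΔ, if_neg]
    simp
  have hφΔ : constantCoeff (φ + Δ) = 0 := by simp [hφ, hΔ0]
  have hsub : φ + Δ - φ = Δ := by ring
  refine ⟨φ + Δ, ⟨hφΔ, ?_⟩, by rw [hsub]; exact hΔord⟩
  apply nat_le_order
  intro d hd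
  have := coeff_T_sub h₁' h₂ h₂' (φ := φ + Δ) (ψ := φ) hφΔ hφ (m := n + 2)
    (by rw [hsub]; exact hΔord) d (by omega)
  rw [map_add, add_sub_cancel_left, hΔ] at this
  rw [sub_eq_iff_eq_add] at this
  rw [this]
  by_cases hd2 : d.degree = n + 2
  · rw [if_pos hd2, hc d (by omega), hd2]
    ring
  · rw [if_neg hd2, mul_zero, zero_add]
    exact coeff_of_lt_order (lt_of_lt_of_le (by exact_mod_cast (by omega : d.degree < n + 2)) hT)

theorem exists_seq {α : Type*} (P : ℕ → α → Prop) (Q : ℕ → α → α → Prop) (a₀ : α)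
    (h0 : P 0 a₀) (hs : ∀ n a, P n a → ∃ a', P (n + 1) a' ∧ Q n a a') :
    ∃ s : ℕ → α, s 0 = a₀ ∧ (∀ n, P n (s n)) ∧ ∀ n, Q n (s n) (s (n + 1)) := by
  classical
  let t : (n : ℕ) → {a // P n a} := fun n => Nat.rec (motive := fun n => {a // P n a})
    ⟨a₀, h0⟩ (fun n x => ⟨(hs n x.1 x.2).choose, (hs n x.1 x.2).choose_spec.1⟩) n
  refine ⟨fun n => (t n).1, rfl, fun n => (t n).2, fun n => ?_⟩
  exact (hs n (t n).1 (t n).2).choose_spec.2

/-- Existence in the Lubin–Tate lemma, given the divisibility hypothesis. -/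
theorem exists_of_hdiv (h₁ : PowerSeries.constantCoeff f₁ = 0)
    (h₁' : PowerSeries.coeff 1 f₁ = π)
    (h₂ : PowerSeries.constantCoeff f₂ = 0) (h₂' : PowerSeries.coeff 1 f₂ = π)
    (hdiv : ∀ φ : MvPowerSeries σ R, constantCoeff φ = 0 → ∀ e : σ →₀ ℕ, 2 ≤ e.degree →
      (π - π ^ e.degree) ∣ coeff e (T f₁ f₂ φ))
    (L : MvPowerSeries σ R) (hL : constantCoeff L = 0) :
    ∃ φ : MvPowerSeries σ R, constantCoeff φ = 0 ∧ (2 : ℕ∞) ≤ (φ - L).order ∧
      T f₁ f₂ φ = 0 := by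
  obtain ⟨s, hs0, hsP, hsQ⟩ := exists_seq
    (fun n (φ : MvPowerSeries σ R) => constantCoeff φ = 0 ∧
      ((n + 2 : ℕ) : ℕ∞) ≤ (T f₁ f₂ φ).order)
    (fun n φ φ' => ((n + 2 : ℕ) : ℕ∞) ≤ (φ' - φ).order) L
    ⟨hL, by exact_mod_cast le_order_T h₁ h₁' h₂ h₂' L hL⟩
    (fun n φ hφ => exists_step h₁' h₂ h₂' hdiv n φ hφ.1 hφ.2)
  -- monotonicity
  have hmono : ∀ n k : ℕ, ((n + 2 : ℕ) : ℕ∞) ≤ (s (n + k) - s n).order := by
    intro n k
    induction k with
    | zero => simp
    | succ k ih =>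
      have e : s (n + (k + 1)) - s n = (s (n + k + 1) - s (n + k)) + (s (n + k) - s n) := by
        rw [← add_assoc]; ring
      rw [e]
      refine le_trans (le_min ?_ ih) min_order_le_add
      exact le_trans (by exact_mod_cast (by omega : n + 2 ≤ n + k + 2)) (hsQ (n + k))
  let φ : MvPowerSeries σ R := fun e => coeff e (s e.degree)
  have hφ : ∀ e, coeff e φ = coeff e (s e.degree) := fun e => rfl
  have hlim : ∀ n : ℕ, ((n + 2 : ℕ) : ℕ∞) ≤ (φ - s n).order := by
    intro n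
    apply nat_le_order
    intro d hd
    rw [map_sub, hφ, sub_eq_zero]
    rcases Nat.lt_or_ge n d.degree with h | h
    · have hd' : d.degree = n + 1 := by omega
      have := coeff_of_lt_order (d := d) (lt_of_lt_of_le (by exact_mod_cast hd) (hsQ n))
      rw [map_sub, sub_eq_zero] at this
      rw [hd', this]
    · obtain ⟨k, hk⟩ := Nat.exists_eq_add_of_le h
      have := coeff_of_lt_order (d := d) (lt_of_lt_of_le
        (by exact_mod_cast (by omega : d.degree < d.degree + 2)) (hmono d.degree k))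
      rw [map_sub, sub_eq_zero] at this
      rw [hk, this]
  have hφ0 : constantCoeff φ = 0 := by
    rw [← coeff_zero_eq_constantCoeff_apply, hφ, map_zero, hs0,
      coeff_zero_eq_constantCoeff_apply, hL]
  refine ⟨φ, hφ0, ?_, ?_⟩
  · have := hlim 0
    rw [hs0] at this
    exact_mod_cast this
  · have key : ∀ n : ℕ, ((n + 2 : ℕ) : ℕ∞) ≤ (T f₁ f₂ φ).order := by
      intro n
      have e : T f₁ f₂ φ = (T f₁ f₂ φ - T f₁ f₂ (s n)) + T f₁ f₂ (s n) := by ring
      rw [e]
      refine le_trans (le_min ?_ (hsP n).2) min_order_le_add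
      exact le_order_T_sub h₁' h₂ h₂' hφ0 (hsP n).1 (hlim n)
    have : (T f₁ f₂ φ).order = ⊤ := by
      rw [ENat.eq_top_iff_forall_ge]
      intro m
      exact le_trans (by exact_mod_cast (by omega : m ≤ m + 2)) (key m)
    rw [order_eq_top_iff] at this
    exact this

end Main

end Groth.Agent.Helper6.LubinTate
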