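import Mathlib
import Groth.Agent.Helper6.LubinTate

/-!
# Vector-valued degree-by-degree solving in multivariate power series
-/

namespace Groth.Agent.Helper6.SeriesVec

open MvPowerSeries
open Groth.Agent.Helper6.LubinTate (exists_seq le_order_pow_sub_pow)

variable {R : Type*} [CommRing R] {σ ι κ : Type*}

/-- all components have order `≥ m` -/
def OrdGE (m : ℕ) (u : ι → MvPowerSeries σ R) : Prop := ∀ i, (m : ℕ∞) ≤ (u i).order

theorem OrdGE.mono {m m' : ℕ} (h : m' ≤ m) {u : ι → MvPowerSeries σ R} (hu : OrdGE m u) :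
    OrdGE m' u := fun i => le_trans (by exact_mod_cast h) (hu i)

theorem OrdGE.add {m : ℕ} {u v : ι → MvPowerSeries σ R} (hu : OrdGE m u) (hv : OrdGE m v) :
    OrdGE m (u + v) := fun i => le_trans (le_min (hu i) (hv i)) min_order_le_add

theorem OrdGE.constantCoeff {m : ℕ} (hm : 1 ≤ m) {u : ι → MvPowerSeries σ R} (hu : OrdGE m u)
    (i : ι) : MvPowerSeries.constantCoeff (u i) = 0 :=
  one_le_order_iff_constCoeff_eq_zero.mp (le_trans (by exact_mod_cast hm) (hu i))

theorem OrdGE.coeff_eq_zero {m : ℕ} {u : ι → MvPowerSeries σ R} (hu : OrdGE m u) (i : ι)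
    {e : σ →₀ ℕ} (he : e.degree < m) : coeff e (u i) = 0 :=
  coeff_of_lt_order (lt_of_lt_of_le (by exact_mod_cast he) (hu i))

theorem ordGE_of_coeff {m : ℕ} {u : ι → MvPowerSeries σ R}
    (h : ∀ i (e : σ →₀ ℕ), e.degree < m → coeff e (u i) = 0) : OrdGE m u :=
  fun i => nat_le_order (h i)

section Prod

theorem le_order_prod_pow {a : ι → MvPowerSeries σ R} (ha : ∀ i, constantCoeff (a i) = 0)
    (d : ι →₀ ℕ) : ((d.degree : ℕ) : ℕ∞) ≤ (d.prod fun i k => a i ^ k).order := by
  rw [Finsupp.prod, Finsupp.degree_apply, Nat.cast_sum]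
  refine le_trans ?_ (le_order_prod _ _)
  exact Finset.sum_le_sum (fun i _ => le_order_pow_of_constantCoeff_eq_zero _ (ha i))

theorem le_order_prod_sub_prod {a a' : ι → MvPowerSeries σ R}
    (ha : ∀ i, constantCoeff (a i) = 0) (ha' : ∀ i, constantCoeff (a' i) = 0) {m : ℕ}
    (h : ∀ i, (m : ℕ∞) ≤ (a i - a' i).order) (d : ι →₀ ℕ) :
    ((m + d.degree : ℕ) : ℕ∞) ≤
      ((d.prod fun i k => a i ^ k) - (d.prod fun i k => a' i ^ k)).order + 1 := by
  classical
  induction d using Finsupp.induction_linear with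
  | zero => simp
  | add d₁ d₂ h₁ h₂ =>
    rw [Finsupp.prod_add_index' (fun _ => pow_zero _) (fun _ _ _ => pow_add _ _ _),
      Finsupp.prod_add_index' (fun _ => pow_zero _) (fun _ _ _ => pow_add _ _ _)]
    set P₁ := d₁.prod fun i k => a i ^ k
    set P₂ := d₂.prod fun i k => a i ^ k
    set Q₁ := d₁.prod fun i k => a' i ^ k
    set Q₂ := d₂.prod fun i k => a' i ^ k
    have e : P₁ * P₂ - Q₁ * Q₂ = P₁ * (P₂ - Q₂) + (P₁ - Q₁) * Q₂ := by ring
    rw [e, map_add]
    have hP₁ : ((d₁.degree : ℕ) : ℕ∞) ≤ P₁.order := le_order_prod_pow ha d₁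
    have hQ₂ : ((d₂.degree : ℕ) : ℕ∞) ≤ Q₂.order := le_order_prod_pow ha' d₂
    have key : min (P₁ * (P₂ - Q₂)).order ((P₁ - Q₁) * Q₂).order + 1 ≤
        (P₁ * (P₂ - Q₂) + (P₁ - Q₁) * Q₂).order + 1 :=
      add_le_add_left min_order_le_add 1
    refine le_trans ?_ key
    rw [← min_add_add_right]
    refine le_min ?_ ?_
    · calc ((m + (d₁.degree + d₂.degree) : ℕ) : ℕ∞)
          = (d₁.degree : ℕ∞) + ((m + d₂.degree : ℕ) : ℕ∞) := by push_cast; ring
        _ ≤ P₁.order + ((P₂ - Q₂).order + 1) := add_le_add hP₁ h₂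
        _ = (P₁.order + (P₂ - Q₂).order) + 1 := by rw [add_assoc]
        _ ≤ _ := add_le_add_left le_order_mul 1
    · calc ((m + (d₁.degree + d₂.degree) : ℕ) : ℕ∞)
          = ((m + d₁.degree : ℕ) : ℕ∞) + (d₂.degree : ℕ∞) := by push_cast; ring
        _ ≤ ((P₁ - Q₁).order + 1) + Q₂.order := add_le_add h₁ hQ₂
        _ = ((P₁ - Q₁).order + Q₂.order) + 1 := by ring
        _ ≤ _ := add_le_add_left le_order_mul 1
  | single i k =>
    rw [Finsupp.prod_single_index (h := fun i k => a i ^ k) (pow_zero _),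
      Finsupp.prod_single_index (h := fun i k => a' i ^ k) (pow_zero _),
      Finsupp.degree_single]
    rcases Nat.eq_zero_or_pos k with rfl | hk
    · simp
    · obtain ⟨k, rfl⟩ : ∃ j, k = j + 1 := ⟨k - 1, by omega⟩
      have := le_order_pow_sub_pow (ha i) (ha' i) (h i) k
      calc ((m + (k + 1) : ℕ) : ℕ∞) = ((m + k : ℕ) : ℕ∞) + 1 := by push_cast; ring
        _ ≤ _ := add_le_add_left this 1

theorem coeff_prod_eq_of_le {a a' : ι → MvPowerSeries σ R}
    (ha : ∀ i, constantCoeff (a i) = 0) (ha' : ∀ i, constantCoeff (a' i) = 0) {m : ℕ}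
    (h : ∀ i, (m : ℕ∞) ≤ (a i - a' i).order) (d : ι →₀ ℕ) (hd : 2 ≤ d.degree)
    (e : σ →₀ ℕ) (he : e.degree ≤ m) :
    coeff e (d.prod fun i k => a i ^ k) = coeff e (d.prod fun i k => a' i ^ k) := by
  have h1 := le_order_prod_sub_prod ha ha' h d
  rw [← sub_eq_zero, ← map_sub]
  apply coeff_of_lt_order
  have h2 : ((e.degree + 2 : ℕ) : ℕ∞) ≤
      ((d.prod fun i k => a i ^ k) - (d.prod fun i k => a' i ^ k)).order + 1 :=
    le_trans (by exact_mod_cast (by omega : e.degree + 2 ≤ m + d.degree)) h1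
  have h3 : ((e.degree + 1 : ℕ) : ℕ∞) ≤
      ((d.prod fun i k => a i ^ k) - (d.prod fun i k => a' i ^ k)).order := by
    have e2 : ((e.degree + 2 : ℕ) : ℕ∞) = ((e.degree + 1 : ℕ) : ℕ∞) + 1 := by push_cast; ring
    rw [e2] at h2
    exact (ENat.add_le_add_iff_right (by simp)).mp h2
  exact lt_of_lt_of_le (by exact_mod_cast (by omega : e.degree < e.degree + 1)) h3

end Prod

/-- Linearization of substitution. -/
theorem coeff_subst_sub_subst [Fintype ι] [DecidableEq ι] (f : MvPowerSeries ι R)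
    {a a' : ι → MvPowerSeries σ R}
    (ha : ∀ i, constantCoeff (a i) = 0) (ha' : ∀ i, constantCoeff (a' i) = 0) {m : ℕ}
    (h : ∀ i, (m : ℕ∞) ≤ (a i - a' i).order) (e : σ →₀ ℕ) (he : e.degree ≤ m) :
    coeff e (subst a f) - coeff e (subst a' f) =
      ∑ i, coeff (Finsupp.single i 1) f * (coeff e (a i) - coeff e (a' i)) := by
  have Ha : HasSubst a := hasSubst_of_constantCoeff_zero ha
  have Ha' : HasSubst a' := hasSubst_of_constantCoeff_zero ha'
  rw [coeff_subst Ha, coeff_subst Ha', ← finsum_sub_distrib (coeff_subst_finite Ha f e)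
    (coeff_subst_finite Ha' f e)]
  have hsupp : Function.support (fun d : ι →₀ ℕ =>
      coeff d f • coeff e (d.prod fun s k => a s ^ k) -
        coeff d f • coeff e (d.prod fun s k => a' s ^ k)) ⊆
      ↑(Finset.univ.image (fun i : ι => Finsupp.single i 1)) := by
    intro d hd
    simp only [Function.mem_support] at hd
    by_contra hcon
    apply hd
    have hd1 : d.degree ≠ 1 := by
      intro h1
      apply hcon
      have : d ∈ Set.range (fun a : ι => Finsupp.single a 1) := by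
        rw [Finsupp.range_single_one]; exact h1
      obtain ⟨i, hi⟩ := this
      simp only [Finset.coe_image, Finset.coe_univ, Set.image_univ, Set.mem_range]
      exact ⟨i, hi⟩
    rcases Nat.lt_or_ge d.degree 2 with h2 | h2
    · have : d = 0 := (Finsupp.degree_eq_zero_iff d).mp (by omega)
      subst this; simp
    · rw [coeff_prod_eq_of_le ha ha' h d h2 e he, sub_self]
  rw [finsum_eq_sum_of_support_subset _ hsupp,
    Finset.sum_image (fun i _ j _ hij => Finsupp.single_left_injective one_ne_zero hij)]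
  apply Finset.sum_congr rfl
  intro i _
  rw [Finsupp.prod_single_index (h := fun i k => a i ^ k) (pow_zero _),
    Finsupp.prod_single_index (h := fun i k => a' i ^ k) (pow_zero _), pow_one, pow_one,
    smul_eq_mul, smul_eq_mul, mul_sub]

/-- The limit lemma. -/
theorem limit_lemma (T : (ι → MvPowerSeries σ R) → (κ → MvPowerSeries σ R)) (s n₀ : ℕ)
    (hn₀ : 1 ≤ n₀)
    (hLip : ∀ u u' : ι → MvPowerSeries σ R, (∀ i, constantCoeff (u i) = 0) →
      (∀ i, constantCoeff (u' i) = 0) → ∀ m, n₀ ≤ m → OrdGE m (u - u') →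
      OrdGE (m + s) (T u - T u'))
    (hStep : ∀ m, n₀ ≤ m → ∀ u : ι → MvPowerSeries σ R, (∀ i, constantCoeff (u i) = 0) →
      OrdGE (m + s) (T u) → ∃ δ : ι → MvPowerSeries σ R, OrdGE m δ ∧
        OrdGE (m + s + 1) (T (u + δ)))
    (u₀ : ι → MvPowerSeries σ R) (h0 : ∀ i, constantCoeff (u₀ i) = 0)
    (hT0 : OrdGE (n₀ + s) (T u₀)) :
    ∃ u : ι → MvPowerSeries σ R, (∀ i, constantCoeff (u i) = 0) ∧ OrdGE n₀ (u - u₀) ∧
      T u = 0 := by
  obtain ⟨q, hq0, hqP, hqQ⟩ := exists_seq
    (fun n (u : ι → MvPowerSeries σ R) => (∀ i, constantCoeff (u i) = 0) ∧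
      OrdGE (n + n₀ + s) (T u))
    (fun n u u' => OrdGE (n + n₀) (u' - u)) u₀
    ⟨h0, by simpa using hT0⟩
    (by
      rintro n u ⟨hu0, huT⟩
      obtain ⟨δ, hδ, hδT⟩ := hStep (n + n₀) (by omega) u hu0 huT
      refine ⟨u + δ, ⟨fun i => ?_, ?_⟩, ?_⟩
      · rw [Pi.add_apply, map_add, hu0 i, hδ.constantCoeff (by omega) i, add_zero]
      · have e : n + 1 + n₀ + s = n + n₀ + s + 1 := by omega
        rw [e]; exact hδT
      · have e : u + δ - u = δ := by ring
        rw [e]; exact hδ)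
  have hmono : ∀ n k : ℕ, OrdGE (n + n₀) (q (n + k) - q n) := by
    intro n k
    induction k with
    | zero => intro i; simp
    | succ k ih =>
      have e : q (n + (k + 1)) - q n = (q (n + k + 1) - q (n + k)) + (q (n + k) - q n) := by
        rw [← add_assoc]; ring
      rw [e]
      exact ((hqQ (n + k)).mono (by omega)).add ih
  let u : ι → MvPowerSeries σ R := fun i e => coeff e (q e.degree i)
  have hu : ∀ i e, coeff e (u i) = coeff e (q e.degree i) := fun i e => rfl
  have hlim : ∀ n : ℕ, OrdGE (n + n₀) (u - q n) := by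
    intro n
    apply ordGE_of_coeff
    intro i d hd
    rw [Pi.sub_apply, map_sub, hu, sub_eq_zero]
    rcases Nat.lt_or_ge n d.degree with h | h
    · obtain ⟨k, hk⟩ := Nat.exists_eq_add_of_le h.le
      have := (hmono n k).coeff_eq_zero i hd
      rw [Pi.sub_apply, map_sub, sub_eq_zero] at this
      rw [hk, this]
    · obtain ⟨k, hk⟩ := Nat.exists_eq_add_of_le h
      have := (hmono d.degree k).coeff_eq_zero i (e := d) (by omega)
      rw [Pi.sub_apply, map_sub, sub_eq_zero] at this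
      rw [hk, this]
  have hu0 : ∀ i, constantCoeff (u i) = 0 := by
    intro i
    rw [← coeff_zero_eq_constantCoeff_apply, hu, map_zero, hq0,
      coeff_zero_eq_constantCoeff_apply, h0 i]
  refine ⟨u, hu0, ?_, ?_⟩
  · have := hlim 0
    rw [hq0] at this
    simpa using this
  · funext j
    have key : ∀ n : ℕ, ((n + n₀ + s : ℕ) : ℕ∞) ≤ (T u j).order := by
      intro n
      have e : T u j = (T u - T (q n)) j + T (q n) j := by
        rw [Pi.sub_apply]; ring
      rw [e]
      refine le_trans (le_min ?_ ((hqP n).2 j)) min_order_le_add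
      exact hLip u (q n) hu0 (hqP n).1 (n + n₀) (by omega) (hlim n) j
    have : (T u j).order = ⊤ := by
      rw [ENat.eq_top_iff_forall_ge]
      intro m
      exact le_trans (by exact_mod_cast (by omega : m ≤ m + n₀ + s)) (key m)
    rw [order_eq_top_iff] at this
    exact this

end Groth.Agent.Helper6.SeriesVec
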