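import Mathlib
import Groth.Agent.Helper6.SeriesVec

/-!
# Formal inverse function theorem for multivariate power series
-/

namespace Groth.Agent.Helper6.FormalIFT

open MvPowerSeries
open Groth.Agent.Helper6.SeriesVec

variable {R : Type*} [CommRing R] {ι : Type*} [Fintype ι] [DecidableEq ι]

/-- the matrix of linear coefficients -/
noncomputable def linMat (y : ι → MvPowerSeries ι R) : Matrix ι ι R :=
  fun i j => coeff (Finsupp.single j 1) (y i)

/-- the operator `z ↦ (y_i(z) - X_i)_i` -/
noncomputable def Tinv (y : ι → MvPowerSeries ι R) (z : ι → MvPowerSeries ι R) :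
    ι → MvPowerSeries ι R := fun i => subst z (y i) - X i

theorem coeff_Tinv_sub (y : ι → MvPowerSeries ι R) {u u' : ι → MvPowerSeries ι R}
    (hu : ∀ i, constantCoeff (u i) = 0) (hu' : ∀ i, constantCoeff (u' i) = 0) {m : ℕ}
    (h : OrdGE m (u - u')) (i : ι) (e : ι →₀ ℕ) (he : e.degree ≤ m) :
    coeff e (Tinv y u i) - coeff e (Tinv y u' i) =
      ∑ j, linMat y i j * (coeff e (u j) - coeff e (u' j)) := by
  have := coeff_subst_sub_subst (y i) hu hu' (fun j => by simpa using h j) e he
  have e1 : ∑ j, linMat y i j * (coeff e (u j) - coeff e (u' j)) =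
      ∑ j, coeff (Finsupp.single j 1) (y i) * (coeff e (u j) - coeff e (u' j)) := rfl
  simp only [Tinv, map_sub]
  rw [e1, ← this]
  ring

theorem exists_right_inverse (y : ι → MvPowerSeries ι R)
    (hy : ∀ i, constantCoeff (y i) = 0) (hA : IsUnit (linMat y).det) :
    ∃ z : ι → MvPowerSeries ι R, (∀ i, constantCoeff (z i) = 0) ∧
      ∀ i, subst z (y i) = X i := by
  obtain ⟨z, hz0, -, hz⟩ := limit_lemma (Tinv y) 0 1 le_rfl
    (by
      intro u u' hu hu' m _ h
      apply ordGE_of_coeff
      intro i e he
      rw [Pi.sub_apply, map_sub, coeff_Tinv_sub y hu hu' h i e (by omega)]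
      apply Finset.sum_eq_zero
      intro j _
      have := h.coeff_eq_zero j (by omega : e.degree < m)
      rw [Pi.sub_apply, map_sub] at this
      rw [this, mul_zero])
    (by
      intro m hm u hu hT
      let δ : ι → MvPowerSeries ι R := fun j e =>
        if e.degree = m then - ∑ i, (linMat y)⁻¹ j i * coeff e (Tinv y u i) else 0
      have hδ : ∀ j e, coeff e (δ j) =
          if e.degree = m then - ∑ i, (linMat y)⁻¹ j i * coeff e (Tinv y u i) else 0 :=
        fun j e => rfl
      have hδord : OrdGE m δ := ordGE_of_coeff (fun j e he => by rw [hδ, if_neg (by omega)])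
      refine ⟨δ, hδord, ?_⟩
      have hδ0 : ∀ i, constantCoeff ((u + δ) i) = 0 := fun i => by
        rw [Pi.add_apply, map_add, hu i, hδord.constantCoeff hm i, add_zero]
      have hsub : u + δ - u = δ := by ring
      apply ordGE_of_coeff
      intro i e he
      have := coeff_Tinv_sub y hδ0 hu (m := m) (by rw [hsub]; exact hδord) i e (by omega)
      rw [sub_eq_iff_eq_add] at this
      rw [this]
      by_cases hem : e.degree = m
      · have e1 : ∀ j, coeff e ((u + δ) j) - coeff e (u j) =
            - ((linMat y)⁻¹.mulVec (fun i => coeff e (Tinv y u i))) j := by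
          intro j
          rw [Pi.add_apply, map_add, add_sub_cancel_left, hδ, if_pos hem]
          rfl
        simp_rw [e1, mul_neg, Finset.sum_neg_distrib]
        have e2 : ∑ j, linMat y i j * ((linMat y)⁻¹.mulVec (fun i => coeff e (Tinv y u i))) j
            = ((linMat y).mulVec ((linMat y)⁻¹.mulVec (fun i => coeff e (Tinv y u i)))) i :=
          rfl
        rw [e2, Matrix.mulVec_mulVec, Matrix.mul_nonsing_inv _ hA, Matrix.one_mulVec]
        ring
      · have e1 : ∀ j, coeff e ((u + δ) j) - coeff e (u j) = 0 := by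
          intro j
          rw [Pi.add_apply, map_add, add_sub_cancel_left, hδ, if_neg hem]
        simp_rw [e1, mul_zero, Finset.sum_const_zero, zero_add]
        exact hT.coeff_eq_zero i (by omega))
    0 (fun _ => by simp)
    (by
      apply ordGE_of_coeff
      intro i e he
      have he0 : e = 0 := (Finsupp.degree_eq_zero_iff e).mp (by omega)
      subst he0
      simp only [Tinv]
      have h0 : ∀ s : ι, constantCoeff ((0 : ι → MvPowerSeries ι R) s) = 0 := fun _ => by simp
      rw [map_sub, coeff_zero_eq_constantCoeff_apply, coeff_zero_eq_constantCoeff_apply,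
        constantCoeff_X, sub_zero, constantCoeff_subst_eq_zero
        (hasSubst_of_constantCoeff_zero h0) h0 (hy i)])
  refine ⟨z, hz0, fun i => ?_⟩
  have := congrFun hz i
  simp only [Tinv, Pi.zero_apply, sub_eq_zero] at this
  exact this

theorem linMat_mul_linMat (y : ι → MvPowerSeries ι R) (hy : ∀ i, constantCoeff (y i) = 0)
    {z : ι → MvPowerSeries ι R} (hz0 : ∀ i, constantCoeff (z i) = 0)
    (hz : ∀ i, subst z (y i) = X i) : linMat y * linMat z = 1 := by
  ext i k
  have h1 : OrdGE 1 (z - 0) := fun j => by
    simpa using one_le_order_iff_constCoeff_eq_zero.mpr (hz0 j)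
  have h00 : ∀ s : ι, constantCoeff ((0 : ι → MvPowerSeries ι R) s) = 0 := fun _ => by simp
  have := coeff_Tinv_sub y hz0 h00 h1 i (Finsupp.single k 1) (by simp)
  have e0 : subst (0 : ι → MvPowerSeries ι R) (y i) = 0 :=
    subst_zero_of_constantCoeff_zero (hy i)
  simp only [Tinv, hz i, sub_self, map_zero, e0, zero_sub, map_neg, neg_neg,
    Pi.zero_apply, sub_zero] at this
  rw [Matrix.mul_apply, Matrix.one_apply]
  rw [coeff_index_single_X] at this
  have e1 : ∑ j, linMat y i j * linMat z j k =
      ∑ j, linMat y i j * coeff (Finsupp.single k 1) (z j) := rfl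
  rw [e1, ← this]
  by_cases hik : i = k
  · subst hik; simp
  · rw [if_neg hik, if_neg (fun h => hik h.symm)]

theorem exists_inverse (y : ι → MvPowerSeries ι R)
    (hy : ∀ i, constantCoeff (y i) = 0) (hA : IsUnit (linMat y).det) :
    ∃ z : ι → MvPowerSeries ι R, (∀ i, constantCoeff (z i) = 0) ∧
      (∀ i, subst z (y i) = X i) ∧ (∀ i, subst y (z i) = X i) ∧
      linMat y * linMat z = 1 := by
  obtain ⟨z, hz0, hz⟩ := exists_right_inverse y hy hA
  have hAZ := linMat_mul_linMat y hy hz0 hz
  have hZ : IsUnit (linMat z).det := Matrix.isUnit_det_of_left_inverse hAZ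
  obtain ⟨w, hw0, hw⟩ := exists_right_inverse z hz0 hZ
  have Hz : HasSubst z := hasSubst_of_constantCoeff_zero hz0
  have Hw : HasSubst w := hasSubst_of_constantCoeff_zero hw0
  have hwy : w = y := by
    funext i
    have e1 : subst w (subst z (y i)) = w i := by rw [hz i, subst_X Hw]
    rw [subst_comp_subst_apply Hz Hw] at e1
    have e2 : (fun s => subst w (z s)) = X := funext hw
    rw [e2, subst_self] at e1
    exact e1.symm
  subst hwy
  exact ⟨z, hz0, hz, hw, hAZ⟩

theorem subst_bijective (y : ι → MvPowerSeries ι R)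
    (hy : ∀ i, constantCoeff (y i) = 0) (hA : IsUnit (linMat y).det) :
    Function.Bijective (subst y : MvPowerSeries ι R → MvPowerSeries ι R) := by
  obtain ⟨z, hz0, hz, hz', -⟩ := exists_inverse y hy hA
  have Hz : HasSubst z := hasSubst_of_constantCoeff_zero hz0
  have Hy : HasSubst y := hasSubst_of_constantCoeff_zero hy
  refine ⟨Function.LeftInverse.injective (g := subst z) ?_,
    Function.RightInverse.surjective (g := subst z) ?_⟩
  · intro f
    rw [subst_comp_subst_apply Hy Hz, (funext hz : (fun s => subst z (y s)) = X), subst_self]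
    rfl
  · intro f
    rw [subst_comp_subst_apply Hz Hy, (funext hz' : (fun s => subst y (z s)) = X), subst_self]
    rfl

end Groth.Agent.Helper6.FormalIFT
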