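import Mathlib
import Groth.Agent.Helper6.FormalIFT

/-!
# Division of power series by the variables; linear parts of products
-/

namespace Groth.Agent.Helper6.FormalIFT

open MvPowerSeries
open Groth.Agent.Helper6.SeriesVec

variable {R : Type*} [CommRing R] {n : ℕ}

/-- "the part of `g` whose first variable is `x_j`, divided by `x_j`" -/
noncomputable def divX (g : MvPowerSeries (Fin n) R) (j : Fin n) : MvPowerSeries (Fin n) R :=
  fun e => if ∀ j' : Fin n, j' < j → e j' = 0 then coeff (e + Finsupp.single j 1) g else 0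

theorem coeff_divX (g : MvPowerSeries (Fin n) R) (j : Fin n) (e : Fin n →₀ ℕ) :
    coeff e (divX g j) =
      if ∀ j' : Fin n, j' < j → e j' = 0 then coeff (e + Finsupp.single j 1) g else 0 := rfl

theorem le_order_divX (g : MvPowerSeries (Fin n) R) (m : ℕ)
    (hg : ((m + 1 : ℕ) : ℕ∞) ≤ g.order) (j : Fin n) : (m : ℕ∞) ≤ (divX g j).order := by
  apply nat_le_order
  intro e he
  rw [coeff_divX]
  split_ifs
  · apply coeff_of_lt_order
    refine lt_of_lt_of_le ?_ hg
    rw [map_add, Finsupp.degree_single]
    exact_mod_cast (by omega : e.degree + 1 < m + 1)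
  · rfl

theorem eq_sum_X_mul_divX (g : MvPowerSeries (Fin n) R) (hg : constantCoeff g = 0) :
    g = ∑ j, X j * divX g j := by
  classical
  ext e
  rw [map_sum]
  have hterm : ∀ j : Fin n, coeff e (X j * divX g j) =
      if (1 ≤ e j ∧ ∀ j' : Fin n, j' < j → e j' = 0) then coeff e g else 0 := by
    intro j
    rw [X_def, coeff_monomial_mul, one_mul]
    by_cases h1 : 1 ≤ e j
    · have hle : Finsupp.single j 1 ≤ e := by
        intro k
        by_cases hk : k = j
        · subst hk; simpa using h1
        · simp [Ne.symm hk]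
      have hadd : e - Finsupp.single j 1 + Finsupp.single j 1 = e := tsub_add_cancel_of_le hle
      rw [if_pos hle, coeff_divX, hadd]
      have hiff : (∀ j' : Fin n, j' < j → (e - Finsupp.single j 1 : Fin n →₀ ℕ) j' = 0) ↔
          ∀ j' : Fin n, j' < j → e j' = 0 := by
        constructor
        · intro h j' hj'
          have := h j' hj'
          rwa [Finsupp.tsub_apply, Finsupp.single_apply, if_neg (ne_of_gt hj'), tsub_zero]
            at this
        · intro h j' hj'
          rw [Finsupp.tsub_apply, h j' hj', zero_tsub]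
      by_cases h2 : ∀ j' : Fin n, j' < j → e j' = 0
      · rw [if_pos (hiff.mpr h2), if_pos ⟨h1, h2⟩]
      · rw [if_neg (fun h => h2 (hiff.mp h)), if_neg (fun h => h2 h.2)]
    · have hle : ¬ Finsupp.single j 1 ≤ e := by
        intro h
        have := h j
        simp at this
        exact h1 this
      rw [if_neg hle, if_neg (fun h => h1 h.1)]
  simp_rw [hterm]
  by_cases he : e = 0
  · subst he
    simp [hg]
  · have hne : e.support.Nonempty := Finsupp.support_nonempty_iff.mpr he
    set j₀ := e.support.min' hne
    have hj₀ : e j₀ ≠ 0 := Finsupp.mem_support_iff.mp (Finset.min'_mem _ hne)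
    rw [Finset.sum_eq_single j₀]
    · rw [if_pos]
      refine ⟨Nat.one_le_iff_ne_zero.mpr hj₀, fun j' hj' => ?_⟩
      by_contra hcon
      have : j₀ ≤ j' := Finset.min'_le _ _ (Finsupp.mem_support_iff.mpr hcon)
      exact absurd hj' (not_lt.mpr this)
    · intro j _ hj
      rw [if_neg]
      rintro ⟨h1, h2⟩
      have hjmem : j ∈ e.support := Finsupp.mem_support_iff.mpr (by omega)
      have hle : j₀ ≤ j := Finset.min'_le _ _ hjmem
      have hlt : j₀ < j := lt_of_le_of_ne hle (Ne.symm hj)
      exact hj₀ (h2 j₀ hlt)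
    · intro h; exact absurd (Finset.mem_univ _) h

/-- Division lemma. -/
theorem exists_eq_sum_X_mul (g : MvPowerSeries (Fin n) R) (m : ℕ)
    (hg : ((m + 1 : ℕ) : ℕ∞) ≤ g.order) :
    ∃ c : Fin n → MvPowerSeries (Fin n) R, (∀ j, (m : ℕ∞) ≤ (c j).order) ∧
      g = ∑ j, X j * c j :=
  ⟨divX g, le_order_divX g m hg, eq_sum_X_mul_divX g
    (one_le_order_iff_constCoeff_eq_zero.mp
      (le_trans (by exact_mod_cast (by omega : 1 ≤ m + 1)) hg))⟩

/-- linear coefficient of a product with a const-free factor -/
theorem coeff_single_mul {σ : Type*} (c g : MvPowerSeries σ R) (hg : constantCoeff g = 0)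
    (k : σ) : coeff (Finsupp.single k 1) (c * g) =
      constantCoeff c * coeff (Finsupp.single k 1) g := by
  have e1 : c * g = C (constantCoeff c) * g + (c - C (constantCoeff c)) * g := by ring
  rw [e1, map_add, coeff_C_mul]
  have h0 : constantCoeff (c - C (constantCoeff c)) = 0 := by simp
  have h2 : coeff (Finsupp.single k 1) ((c - C (constantCoeff c)) * g) = 0 := by
    apply coeff_of_lt_order
    refine lt_of_lt_of_le ?_ (le_trans (add_le_add
      (one_le_order_iff_constCoeff_eq_zero.mpr h0)
      (one_le_order_iff_constCoeff_eq_zero.mpr hg)) le_order_mul)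
    rw [Finsupp.degree_single]
    norm_num
  rw [h2, add_zero]

end Groth.Agent.Helper6.FormalIFT
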