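import Mathlib
import Groth.Agent.Helper6.FormalDiv

/-!
# Applications of the formal inverse function theorem
-/

namespace Groth.Agent.Helper6.FormalIFT

open MvPowerSeries
open Groth.Agent.Helper6.SeriesVec

section Field

variable {K : Type*} [Field K] {n : ℕ}

theorem mem_maximalIdeal_iff_field {σ : Type*} (f : MvPowerSeries σ K) :
    f ∈ IsLocalRing.maximalIdeal (MvPowerSeries σ K) ↔ constantCoeff f = 0 := by
  rw [IsLocalRing.mem_maximalIdeal, mem_nonunits_iff, isUnit_iff_constantCoeff,
    isUnit_iff_ne_zero, not_not]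

theorem isUnit_det_linMat_of_span_field (y : Fin n → MvPowerSeries (Fin n) K)
    (hy : Ideal.span (Set.range y) = IsLocalRing.maximalIdeal (MvPowerSeries (Fin n) K)) :
    (∀ i, constantCoeff (y i) = 0) ∧ IsUnit (linMat y).det := by
  have hy0 : ∀ i, constantCoeff (y i) = 0 := fun i =>
    (mem_maximalIdeal_iff_field _).mp (hy ▸ Ideal.subset_span ⟨i, rfl⟩)
  refine ⟨hy0, ?_⟩
  have hX : ∀ j, ∃ c : Fin n → MvPowerSeries (Fin n) K, ∑ i, c i * y i = X j := by
    intro j
    have : (X j : MvPowerSeries (Fin n) K) ∈ Ideal.span (Set.range y) := by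
      rw [hy, mem_maximalIdeal_iff_field]; simp
    exact Ideal.mem_span_range_iff_exists_fun.mp this
  choose c hc using hX
  set C₀ : Matrix (Fin n) (Fin n) K := fun j i => constantCoeff (c j i)
  have hmat : C₀ * linMat y = 1 := by
    ext j k
    rw [Matrix.mul_apply, Matrix.one_apply]
    have := congrArg (coeff (Finsupp.single k 1)) (hc j)
    rw [map_sum, coeff_index_single_X] at this
    simp_rw [coeff_single_mul _ _ (hy0 _)] at this
    have e1 : ∑ i, C₀ j i * linMat y i k =
        ∑ i, constantCoeff (c j i) * coeff (Finsupp.single k 1) (y i) := rfl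
    rw [e1, this]
    by_cases hjk : j = k
    · subst hjk; simp
    · rw [if_neg hjk, if_neg (fun h => hjk h.symm)]
  exact Matrix.isUnit_det_of_left_inverse hmat

/-- S9310 -/
theorem subst_bijective_of_span_field (y : Fin n → MvPowerSeries (Fin n) K)
    (hy : Ideal.span (Set.range y) = IsLocalRing.maximalIdeal (MvPowerSeries (Fin n) K)) :
    Function.Bijective (MvPowerSeries.subst y :
      MvPowerSeries (Fin n) K → MvPowerSeries (Fin n) K) := by
  obtain ⟨h0, hA⟩ := isUnit_det_linMat_of_span_field y hy
  exact subst_bijective y h0 hA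

theorem span_eq_maximalIdeal_of_isUnit_det (y : Fin n → MvPowerSeries (Fin n) K)
    (hy0 : ∀ i, constantCoeff (y i) = 0) (hA : IsUnit (linMat y).det) :
    Ideal.span (Set.range y) = IsLocalRing.maximalIdeal (MvPowerSeries (Fin n) K) := by
  apply le_antisymm
  · rw [Ideal.span_le]
    rintro _ ⟨i, rfl⟩
    exact (mem_maximalIdeal_iff_field _).mpr (hy0 i)
  · intro g hg
    rw [mem_maximalIdeal_iff_field] at hg
    obtain ⟨z, hz0, hz, hz', -⟩ := exists_inverse y hy0 hA
    have Hz : HasSubst z := hasSubst_of_constantCoeff_zero hz0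
    have Hy : HasSubst y := hasSubst_of_constantCoeff_zero hy0
    have hg' : constantCoeff (subst z g) = 0 := constantCoeff_subst_eq_zero Hz hz0 hg
    have e1 : subst y (subst z g) = g := by
      rw [subst_comp_subst_apply Hz Hy, (funext hz' : (fun s => subst y (z s)) = X), subst_self]
      rfl
    have e2 := eq_sum_X_mul_divX (subst z g) hg'
    rw [← e1, e2, ← coe_substAlgHom Hy, map_sum]
    apply Ideal.sum_mem
    intro j _
    rw [map_mul, coe_substAlgHom Hy, subst_X Hy]
    exact Ideal.mul_mem_right _ _ (Ideal.subset_span ⟨j, rfl⟩)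

end Field

section LocalRing

variable {Λ : Type*} [CommRing Λ] [IsLocalRing Λ] {n : ℕ}

theorem mem_maximalIdeal_iff_local {σ : Type*} (f : MvPowerSeries σ Λ) :
    f ∈ IsLocalRing.maximalIdeal (MvPowerSeries σ Λ) ↔
      constantCoeff f ∈ IsLocalRing.maximalIdeal Λ := by
  rw [IsLocalRing.mem_maximalIdeal, mem_nonunits_iff, isUnit_iff_constantCoeff,
    IsLocalRing.mem_maximalIdeal, mem_nonunits_iff]

/-- S9311 -/
theorem subst_bijective_of_span_local (p : ℕ) (hp : (p : Λ) ∈ IsLocalRing.maximalIdeal Λ)
    (y : Fin n → MvPowerSeries (Fin n) Λ) (hy0 : ∀ i, constantCoeff (y i) = 0)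
    (hy : Ideal.span (insert (p : MvPowerSeries (Fin n) Λ) (Set.range y)) =
      IsLocalRing.maximalIdeal (MvPowerSeries (Fin n) Λ)) :
    Function.Bijective (MvPowerSeries.subst y :
      MvPowerSeries (Fin n) Λ → MvPowerSeries (Fin n) Λ) := by
  apply subst_bijective y hy0
  have hX : ∀ j, ∃ (a : MvPowerSeries (Fin n) Λ) (c : Fin n → MvPowerSeries (Fin n) Λ),
      X j = a * (p : MvPowerSeries (Fin n) Λ) + ∑ i, c i * y i := by
    intro j
    have : (X j : MvPowerSeries (Fin n) Λ) ∈
        Ideal.span (insert (p : MvPowerSeries (Fin n) Λ) (Set.range y)) := by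
      rw [hy, mem_maximalIdeal_iff_local]; simp
    obtain ⟨a, z, hz, h⟩ := Ideal.mem_span_insert.mp this
    obtain ⟨c, hc⟩ := Ideal.mem_span_range_iff_exists_fun.mp hz
    exact ⟨a, c, by rw [h, hc]⟩
  choose a c hc using hX
  set C₀ : Matrix (Fin n) (Fin n) Λ := fun j i => constantCoeff (c j i)
  set M : Matrix (Fin n) (Fin n) Λ := fun j k => coeff (Finsupp.single k 1) (a j) * (p : Λ)
  have hmat : C₀ * linMat y = 1 - M := by
    ext j k
    rw [Matrix.mul_apply, Matrix.sub_apply, Matrix.one_apply]
    have := congrArg (coeff (Finsupp.single k 1)) (hc j)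
    rw [map_add, map_sum, coeff_index_single_X] at this
    simp_rw [coeff_single_mul _ _ (hy0 _)] at this
    have e0 : (p : MvPowerSeries (Fin n) Λ) = C (p : Λ) := (map_natCast C p).symm
    rw [e0, coeff_mul_C] at this
    have e1 : ∑ i, C₀ j i * linMat y i k =
        ∑ i, constantCoeff (c j i) * coeff (Finsupp.single k 1) (y i) := rfl
    rw [e1]
    have e2 : M j k = coeff (Finsupp.single k 1) (a j) * (p : Λ) := rfl
    rw [e2]
    by_cases hjk : j = k
    · subst hjk
      rw [if_pos rfl] at this ⊢
      rw [this]; ring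
    · rw [if_neg (fun h => hjk h.symm)] at this
      rw [if_neg hjk, this]; ring
  have hdet : IsUnit (1 - M).det := by
    have hres : (IsLocalRing.residue Λ).mapMatrix (1 - M) = 1 := by
      ext j k
      simp only [RingHom.mapMatrix_apply, Matrix.map_apply, Matrix.sub_apply, map_sub]
      have : IsLocalRing.residue Λ (M j k) = 0 := by
        change IsLocalRing.residue Λ (coeff (Finsupp.single k 1) (a j) * (p : Λ)) = 0
        rw [map_mul, (IsLocalRing.residue_eq_zero_iff _).mpr hp, mul_zero]
      rw [this, sub_zero]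
      by_cases hjk : j = k
      · subst hjk; simp
      · simp [hjk]
    have h1 : IsLocalRing.residue Λ (1 - M).det = 1 := by
      rw [RingHom.map_det, hres, Matrix.det_one]
    by_contra hnu
    have : (1 - M).det ∈ IsLocalRing.maximalIdeal Λ := by
      rwa [IsLocalRing.mem_maximalIdeal, mem_nonunits_iff]
    rw [← IsLocalRing.residue_eq_zero_iff, h1] at this
    exact one_ne_zero this
  rw [← hmat, Matrix.det_mul] at hdet
  exact isUnit_of_mul_isUnit_right hdet

end LocalRing

end Groth.Agent.Helper6.FormalIFT
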