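import Mathlib
import Groth.Agent.Helper6.FormalIFTApp
import Groth.Agent.Helper6.ArS1

set_option autoImplicit false
set_option linter.style.haveILetI false
set_option linter.unusedSectionVars false

/-!
# Double points of plane curves: invariants distinguishing multiplicity `≥ 3`
-/

namespace Groth.Agent.Helper6.DP

open MvPowerSeries
open Groth.Agent.Helper6.FormalIFT
open Groth.Agent.Helper6.ArS

universe u

variable (k : Type u) [Field k]

attribute [-instance] PowerSeries.algebraPowerSeries MvPowerSeries.algebraMvPowerSeries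

local notation "PP" => MvPowerSeries (Fin 2) k

/-! ### Ideals of series of order at least `j` -/

/-- The ideal of power series of order at least `j`. -/
def ordIdeal (j : ℕ) : Ideal (MvPowerSeries (Fin 2) k) where
  carrier := {A | (j : ℕ∞) ≤ A.order}
  add_mem' := by
    intro a b ha hb
    exact le_trans (le_min ha hb) min_order_le_add
  zero_mem' := by
    show (j : ℕ∞) ≤ (0 : MvPowerSeries (Fin 2) k).order
    rw [order_zero]
    exact le_top
  smul_mem' := by
    intro c a ha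
    show (j : ℕ∞) ≤ (c * a).order
    exact le_trans (le_trans ha le_add_self) le_order_mul

theorem mem_ordIdeal (j : ℕ) (A : PP) : A ∈ ordIdeal k j ↔ (j : ℕ∞) ≤ A.order := Iff.rfl

theorem maxIdeal_le : IsLocalRing.maximalIdeal PP ≤ ordIdeal k 1 := by
  intro A hA
  rw [mem_maximalIdeal_iff_field] at hA
  rw [mem_ordIdeal, Nat.cast_one]
  exact one_le_order_iff_constCoeff_eq_zero.2 hA

theorem constantCoeff_of_mem (A : PP) (hA : A ∈ ordIdeal k 1) : constantCoeff A = 0 := by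
  rw [mem_ordIdeal, Nat.cast_one] at hA
  exact one_le_order_iff_constCoeff_eq_zero.1 hA

theorem ordIdeal_mul_le (a b : ℕ) : ordIdeal k a * ordIdeal k b ≤ ordIdeal k (a + b) := by
  rw [Ideal.mul_le]
  intro x hx y hy
  rw [mem_ordIdeal] at hx hy ⊢
  refine le_trans ?_ le_order_mul
  push_cast
  exact add_le_add hx hy

theorem ordIdeal_anti {a b : ℕ} (h : a ≤ b) : ordIdeal k b ≤ ordIdeal k a := by
  intro A hA
  rw [mem_ordIdeal] at hA ⊢
  exact le_trans (by exact_mod_cast h) hA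

theorem pow_le_ordIdeal (j : ℕ) : IsLocalRing.maximalIdeal PP ^ j ≤ ordIdeal k j := by
  induction j with
  | zero =>
    intro A _
    rw [mem_ordIdeal, Nat.cast_zero]
    exact zero_le
  | succ j ih =>
    rw [pow_succ]
    exact le_trans (Ideal.mul_mono ih (maxIdeal_le k)) (ordIdeal_mul_le k j 1)

theorem span_le_ordIdeal (F : PP) (j : ℕ) (hF : (j : ℕ∞) ≤ F.order) :
    Ideal.span {F} ≤ ordIdeal k j := by
  rw [Ideal.span_le, Set.singleton_subset_iff]
  exact hF

theorem coeff_single_eq_zero_of_mem (A : PP) (hA : A ∈ ordIdeal k 2) (i : Fin 2) :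
    coeff (Finsupp.single i 1) A = 0 := by
  apply coeff_of_lt_order
  rw [Finsupp.degree_single]
  rw [mem_ordIdeal] at hA
  exact lt_of_lt_of_le (by exact_mod_cast (by norm_num : (1 : ℕ) < 2)) hA

theorem X_mem (i : Fin 2) : (X i : PP) ∈ IsLocalRing.maximalIdeal PP := by
  rw [mem_maximalIdeal_iff_field]
  exact constantCoeff_X i

theorem lin_mul (Q Z : PP) (hZ : constantCoeff Z = 0) (j : Fin 2) :
    coeff (Finsupp.single j 1) (Q * Z) =
      constantCoeff Q * coeff (Finsupp.single j 1) Z := by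
  have e : Q * Z = C (constantCoeff Q) * Z + (Q - C (constantCoeff Q)) * Z := by ring
  have h1 : (Q - C (constantCoeff Q)) * Z ∈ ordIdeal k 2 := by
    apply ordIdeal_mul_le k 1 1
    apply Ideal.mul_mem_mul
    · apply maxIdeal_le
      rw [mem_maximalIdeal_iff_field]
      simp
    · apply maxIdeal_le
      rw [mem_maximalIdeal_iff_field]
      exact hZ
  rw [e, map_add, coeff_C_mul, coeff_single_eq_zero_of_mem k _ h1, add_zero]

theorem linMat_X : linMat (X : Fin 2 → PP) = 1 := by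
  ext i j
  change coeff (Finsupp.single j 1) (X i) = _
  rw [coeff_index_single_X, Matrix.one_apply]
  by_cases hij : i = j
  · subst hij
    simp
  · rw [if_neg hij, if_neg (Ne.symm hij)]

theorem span_X_eq : Ideal.span (Set.range (X : Fin 2 → PP)) = IsLocalRing.maximalIdeal PP := by
  apply span_eq_maximalIdeal_of_isUnit_det
  · intro i
    exact constantCoeff_X i
  · rw [linMat_X, Matrix.det_one]
    exact isUnit_one

theorem mem_sq_of_lin_zero (A : PP) (h0 : constantCoeff A = 0)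
    (h1 : ∀ i : Fin 2, coeff (Finsupp.single i 1) A = 0) :
    A ∈ IsLocalRing.maximalIdeal PP ^ 2 := by
  have hA : A ∈ Ideal.span (Set.range (X : Fin 2 → PP)) := by
    rw [span_X_eq k, mem_maximalIdeal_iff_field]
    exact h0
  obtain ⟨c, hc⟩ := (Ideal.mem_span_range_iff_exists_fun).1 hA
  rw [Fin.sum_univ_two] at hc
  have hcj : ∀ j : Fin 2, constantCoeff (c j) = 0 := by
    intro j
    have := h1 j
    rw [← hc, map_add, lin_mul k _ _ (constantCoeff_X 0), lin_mul k _ _ (constantCoeff_X 1),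
      coeff_index_single_X, coeff_index_single_X] at this
    fin_cases j
    · simpa using this
    · simpa using this
  rw [← hc, pow_two]
  refine Ideal.add_mem _ (Ideal.mul_mem_mul ?_ ?_) (Ideal.mul_mem_mul ?_ ?_)
  · rw [mem_maximalIdeal_iff_field]
    exact hcj 0
  · exact X_mem k 0
  · rw [mem_maximalIdeal_iff_field]
    exact hcj 1
  · exact X_mem k 1

/-! ### The ideal of non-units -/

/-- The ideal generated by the non-units. -/
def nu (Q : Type*) [CommRing Q] : Ideal Q := Ideal.span (nonunits Q)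

theorem map_nu {Q Q' : Type*} [CommRing Q] [CommRing Q'] (e : Q ≃+* Q') :
    Ideal.map e (nu Q) = nu Q' := by
  unfold nu
  rw [Ideal.map_span]
  congr 1
  ext b
  constructor
  · rintro ⟨a, ha, rfl⟩
    rw [mem_nonunits_iff] at ha ⊢
    intro hb
    apply ha
    have := hb.map e.symm
    simpa using this
  · intro hb
    rw [mem_nonunits_iff] at hb
    refine ⟨e.symm b, ?_, by simp⟩
    rw [mem_nonunits_iff]
    intro ha
    apply hb
    have := ha.map e
    simpa using this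

theorem nu_quot (F : PP) (hF : constantCoeff F = 0) :
    nu (PP ⧸ Ideal.span {F}) =
      Ideal.map (Ideal.Quotient.mk (Ideal.span {F})) (IsLocalRing.maximalIdeal PP) := by
  apply le_antisymm
  · unfold nu
    rw [Ideal.span_le]
    intro a ha
    rw [mem_nonunits_iff] at ha
    obtain ⟨A, rfl⟩ := Ideal.Quotient.mk_surjective a
    apply Ideal.mem_map_of_mem
    rw [mem_maximalIdeal_iff_field]
    by_contra hA
    apply ha
    have hu : IsUnit A := by
      rw [MvPowerSeries.isUnit_iff_constantCoeff]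
      exact isUnit_iff_ne_zero.2 hA
    exact hu.map _
  · rw [Ideal.map_le_iff_le_comap]
    intro A hA
    rw [mem_maximalIdeal_iff_field] at hA
    rw [Ideal.mem_comap]
    apply Ideal.subset_span
    rw [mem_nonunits_iff]
    intro hu
    obtain ⟨b, hb⟩ := hu.exists_right_inv
    obtain ⟨B, rfl⟩ := Ideal.Quotient.mk_surjective b
    rw [← map_mul, ← map_one (Ideal.Quotient.mk (Ideal.span {F})), Ideal.Quotient.eq,
      Ideal.mem_span_singleton] at hb
    obtain ⟨H, hH⟩ := hb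
    have := congrArg constantCoeff hH
    rw [map_sub, map_mul, map_mul, map_one, hA, hF, zero_mul, zero_mul] at this
    exact one_ne_zero (by linear_combination -this)

/-- The non-units form a principal ideal. -/
def I0 (Q : Type*) [CommRing Q] : Prop := ∃ z : Q, nu Q = Ideal.span {z}

/-- Two elements of `m \ m^2` with product in `m^3`. -/
def I1 (Q : Type*) [CommRing Q] : Prop :=
  ∃ z w : Q, z ∈ nu Q ∧ w ∈ nu Q ∧ z ∉ nu Q ^ 2 ∧ w ∉ nu Q ^ 2 ∧ z * w ∈ nu Q ^ 3

theorem mem_map_equiv_iff {Q Q' : Type*} [CommRing Q] [CommRing Q'] (e : Q ≃+* Q')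
    (J : Ideal Q) (a : Q) : e a ∈ Ideal.map e J ↔ a ∈ J := by
  constructor
  · intro h
    obtain ⟨x, hx, hxa⟩ := (Ideal.mem_map_of_equiv e _).1 h
    rwa [← e.injective hxa]
  · intro h
    exact Ideal.mem_map_of_mem _ h

theorem I0_of_equiv {Q Q' : Type*} [CommRing Q] [CommRing Q'] (e : Q ≃+* Q') (h : I0 Q) :
    I0 Q' := by
  obtain ⟨z, hz⟩ := h
  refine ⟨e z, ?_⟩
  rw [← map_nu e, hz, Ideal.map_span, Set.image_singleton]

theorem I1_of_equiv {Q Q' : Type*} [CommRing Q] [CommRing Q'] (e : Q ≃+* Q') (h : I1 Q) :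
    I1 Q' := by
  obtain ⟨z, w, hz, hw, hz2, hw2, hzw⟩ := h
  have key : ∀ (j : ℕ) (a : Q), e a ∈ nu Q' ^ j ↔ a ∈ nu Q ^ j := by
    intro j a
    rw [← map_nu e, ← Ideal.map_pow]
    exact mem_map_equiv_iff e _ a
  refine ⟨e z, e w, ?_, ?_, ?_, ?_, ?_⟩
  · have := (key 1 z).2 (by rwa [pow_one])
    rwa [pow_one] at this
  · have := (key 1 w).2 (by rwa [pow_one])
    rwa [pow_one] at this
  · rw [key]
    exact hz2
  · rw [key]
    exact hw2
  · rw [← map_mul, key]
    exact hzw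

/-! ### Multiplicity at least three -/

theorem not_I1 (F : PP) (hF : ((3 : ℕ) : ℕ∞) ≤ F.order) : ¬ I1 (PP ⧸ Ideal.span {F}) := by
  have hsp : ∀ j : ℕ, j ≤ 3 → Ideal.span {F} ≤ ordIdeal k j := fun j hj =>
    span_le_ordIdeal k F j (le_trans (by exact_mod_cast hj) hF)
  have hF0 : constantCoeff F = 0 :=
    constantCoeff_of_mem k F (hsp 1 (by norm_num) (Ideal.subset_span rfl))
  rintro ⟨z, w, hz, hw, hz2, hw2, hzw⟩
  obtain ⟨Z, rfl⟩ := Ideal.Quotient.mk_surjective z
  obtain ⟨W, rfl⟩ := Ideal.Quotient.mk_surjective w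
  rw [nu_quot k F hF0] at hz hw hz2 hw2 hzw
  rw [← Ideal.map_pow] at hz2 hw2 hzw
  rw [← map_mul] at hzw
  have hZ1 : Z ∈ ordIdeal k 1 :=
    (sup_le (maxIdeal_le k) (hsp 1 (by norm_num))) (Ideal.mem_quotient_iff_mem_sup.1 hz)
  have hW1 : W ∈ ordIdeal k 1 :=
    (sup_le (maxIdeal_le k) (hsp 1 (by norm_num))) (Ideal.mem_quotient_iff_mem_sup.1 hw)
  have hZW : Z * W ∈ ordIdeal k 3 :=
    (sup_le (pow_le_ordIdeal k 3) (hsp 3 le_rfl)) (Ideal.mem_quotient_iff_mem_sup.1 hzw)
  have hZ0 := constantCoeff_of_mem k Z hZ1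
  have hW0 := constantCoeff_of_mem k W hW1
  have hZlin : ∃ i, coeff (Finsupp.single i 1) Z ≠ 0 := by
    by_contra hcon
    push Not at hcon
    exact hz2 (Ideal.mem_map_of_mem _ (mem_sq_of_lin_zero k Z hZ0 hcon))
  have hWlin : ∃ i, coeff (Finsupp.single i 1) W ≠ 0 := by
    by_contra hcon
    push Not at hcon
    exact hw2 (Ideal.mem_map_of_mem _ (mem_sq_of_lin_zero k W hW0 hcon))
  obtain ⟨i, hi⟩ := hZlin
  obtain ⟨j, hj⟩ := hWlin
  have h1 : Z.order ≤ ((1 : ℕ) : ℕ∞) := by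
    have := order_le hi
    rwa [Finsupp.degree_single] at this
  have h2 : W.order ≤ ((1 : ℕ) : ℕ∞) := by
    have := order_le hj
    rwa [Finsupp.degree_single] at this
  have h3 : ((3 : ℕ) : ℕ∞) ≤ Z.order + W.order := by
    rw [← order_mul]
    exact hZW
  have h4 : ((3 : ℕ) : ℕ∞) ≤ ((1 : ℕ) : ℕ∞) + ((1 : ℕ) : ℕ∞) := le_trans h3 (add_le_add h1 h2)
  have h5 : (3 : ℕ) ≤ 1 + 1 := by exact_mod_cast h4
  omega

theorem not_I0 (F : PP) (hF : ((2 : ℕ) : ℕ∞) ≤ F.order) : ¬ I0 (PP ⧸ Ideal.span {F}) := by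
  have hF1 : Ideal.span {F} ≤ ordIdeal k 1 :=
    span_le_ordIdeal k F 1 (le_trans (by exact_mod_cast (by norm_num : (1 : ℕ) ≤ 2)) hF)
  have hF0 : constantCoeff F = 0 := constantCoeff_of_mem k F (hF1 (Ideal.subset_span rfl))
  rintro ⟨z, hz⟩
  obtain ⟨Z, rfl⟩ := Ideal.Quotient.mk_surjective z
  rw [nu_quot k F hF0] at hz
  have hzmem : Ideal.Quotient.mk (Ideal.span {F}) Z ∈
      Ideal.map (Ideal.Quotient.mk (Ideal.span {F})) (IsLocalRing.maximalIdeal PP) := by
    rw [hz]
    exact Ideal.subset_span rfl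
  have hZ0 : constantCoeff Z = 0 :=
    constantCoeff_of_mem k Z
      ((sup_le (maxIdeal_le k) hF1) (Ideal.mem_quotient_iff_mem_sup.1 hzmem))
  have key : ∀ i : Fin 2, ∃ q : k, ∀ j : Fin 2,
      coeff (Finsupp.single j 1) (X i : PP) = q * coeff (Finsupp.single j 1) Z := by
    intro i
    have hX : Ideal.Quotient.mk (Ideal.span {F}) (X i) ∈
        Ideal.span {Ideal.Quotient.mk (Ideal.span {F}) Z} := by
      rw [← hz]
      exact Ideal.mem_map_of_mem _ (X_mem k i)
    obtain ⟨q, hq⟩ := Ideal.mem_span_singleton.1 hX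
    obtain ⟨Q, rfl⟩ := Ideal.Quotient.mk_surjective q
    rw [← map_mul, Ideal.Quotient.eq, Ideal.mem_span_singleton] at hq
    obtain ⟨H, hH⟩ := hq
    refine ⟨constantCoeff Q, fun j => ?_⟩
    have e : (X i : PP) = Q * Z + F * H := by
      rw [← hH]
      ring
    have hFH : F * H ∈ ordIdeal k 2 := Ideal.mul_mem_right _ _ hF
    conv_lhs => rw [e]
    rw [map_add, lin_mul k Q Z hZ0 j, coeff_single_eq_zero_of_mem k _ hFH, add_zero]
  obtain ⟨q0, h0⟩ := key 0
  obtain ⟨q1, h1⟩ := key 1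
  have a := h0 0
  have b := h0 1
  have c := h1 1
  rw [coeff_index_single_X, if_pos rfl] at a c
  rw [coeff_index_single_X, if_neg (by decide)] at b
  have hq0 : q0 ≠ 0 := by
    intro h
    rw [h, zero_mul] at a
    exact one_ne_zero a
  have hz1 : coeff (Finsupp.single (1 : Fin 2) 1) Z = 0 :=
    (mul_eq_zero.1 b.symm).resolve_left hq0
  rw [hz1, mul_zero] at c
  exact one_ne_zero c

/-! ### The normal forms -/

theorem mk_not_mem_sq (G A : PP) (hG : ((2 : ℕ) : ℕ∞) ≤ G.order) (i : Fin 2)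
    (hA : coeff (Finsupp.single i 1) A ≠ 0) :
    Ideal.Quotient.mk (Ideal.span {G}) A ∉ nu (PP ⧸ Ideal.span {G}) ^ 2 := by
  have hG1 : Ideal.span {G} ≤ ordIdeal k 1 :=
    span_le_ordIdeal k G 1 (le_trans (by exact_mod_cast (by norm_num : (1 : ℕ) ≤ 2)) hG)
  have hG0 : constantCoeff G = 0 := constantCoeff_of_mem k G (hG1 (Ideal.subset_span rfl))
  rw [nu_quot k G hG0, ← Ideal.map_pow]
  intro h
  have h' := (sup_le (pow_le_ordIdeal k 2) (span_le_ordIdeal k G 2 hG))
    (Ideal.mem_quotient_iff_mem_sup.1 h)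
  exact hA (coeff_single_eq_zero_of_mem k A h' i)

theorem mk_mem_nu (G A : PP) (hG : constantCoeff G = 0) (hA : constantCoeff A = 0) :
    Ideal.Quotient.mk (Ideal.span {G}) A ∈ nu (PP ⧸ Ideal.span {G}) := by
  rw [nu_quot k G hG]
  apply Ideal.mem_map_of_mem
  rw [mem_maximalIdeal_iff_field]
  exact hA

theorem eqn_constantCoeff (n : ℕ) : constantCoeff (ArSing.eqn k n) = 0 := by
  unfold ArSing.eqn
  rw [map_sub, map_pow, map_pow, constantCoeff_X, constantCoeff_X, zero_pow (by norm_num),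
    zero_pow (by omega), sub_zero]

theorem I0_A0 : I0 (ArSing.ring k 0) := by
  refine ⟨ArSing.y k 0, ?_⟩
  show nu (PP ⧸ Ideal.span {ArSing.eqn k 0}) = _
  rw [nu_quot k _ (eqn_constantCoeff k 0), ← span_X_eq k, Ideal.map_span]
  apply le_antisymm
  · rw [Ideal.span_le]
    rintro _ ⟨_, ⟨i, rfl⟩, rfl⟩
    have hx : ArSing.x k 0 = ArSing.y k 0 * ArSing.y k 0 := by
      rw [y_sq, zero_add, pow_one]
    fin_cases i
    · show ArSing.x k 0 ∈ _
      rw [hx]
      exact Ideal.mul_mem_left _ _ (Ideal.subset_span rfl)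
    · exact Ideal.subset_span rfl
  · rw [Ideal.span_le, Set.singleton_subset_iff]
    exact Ideal.subset_span ⟨X 1, ⟨1, rfl⟩, rfl⟩

theorem I1_An (n : ℕ) (hn : 1 ≤ n) : I1 (ArSing.ring k n) := by
  have hGm : ArSing.eqn k n ∈ IsLocalRing.maximalIdeal PP ^ 2 := by
    unfold ArSing.eqn
    apply Ideal.sub_mem
    · exact Ideal.pow_mem_pow (X_mem k 1) 2
    · exact Ideal.pow_le_pow_right (by omega : 2 ≤ n + 1) (Ideal.pow_mem_pow (X_mem k 0) (n + 1))
  have hG : ((2 : ℕ) : ℕ∞) ≤ (ArSing.eqn k n).order := pow_le_ordIdeal k 2 hGm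
  have hG0 := eqn_constantCoeff k n
  rcases Nat.lt_or_ge n 2 with h | h
  · have hn1 : n = 1 := by omega
    subst hn1
    refine ⟨Ideal.Quotient.mk _ (X 1 - X 0), Ideal.Quotient.mk _ (X 1 + X 0), ?_, ?_, ?_, ?_, ?_⟩
    · apply mk_mem_nu k _ _ hG0
      rw [map_sub, constantCoeff_X, constantCoeff_X, sub_zero]
    · apply mk_mem_nu k _ _ hG0
      rw [map_add, constantCoeff_X, constantCoeff_X, add_zero]
    · apply mk_not_mem_sq k _ _ hG 1
      rw [map_sub, coeff_index_single_X, coeff_index_single_X]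
      simp
    · apply mk_not_mem_sq k _ _ hG 1
      rw [map_add, coeff_index_single_X, coeff_index_single_X]
      simp
    · have : Ideal.Quotient.mk (Ideal.span {ArSing.eqn k 1}) (X 1 - X 0) *
          Ideal.Quotient.mk (Ideal.span {ArSing.eqn k 1}) (X 1 + X 0) = 0 := by
        rw [← map_mul, Ideal.Quotient.eq_zero_iff_mem, Ideal.mem_span_singleton]
        exact ⟨1, by unfold ArSing.eqn; ring⟩
      rw [this]
      exact zero_mem _
  · refine ⟨ArSing.y k n, ArSing.y k n, ?_, ?_, ?_, ?_, ?_⟩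
    · exact mk_mem_nu k _ _ hG0 (constantCoeff_X 1)
    · exact mk_mem_nu k _ _ hG0 (constantCoeff_X 1)
    · apply mk_not_mem_sq k _ _ hG 1
      rw [coeff_index_single_X]
      simp
    · apply mk_not_mem_sq k _ _ hG 1
      rw [coeff_index_single_X]
      simp
    · rw [y_sq k n]
      show Ideal.Quotient.mk (Ideal.span {ArSing.eqn k n}) (X 0) ^ (n + 1) ∈ _
      rw [nu_quot k _ hG0, ← Ideal.map_pow, ← map_pow]
      apply Ideal.mem_map_of_mem
      exact Ideal.pow_le_pow_right (by omega : 3 ≤ n + 1)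
        (Ideal.pow_mem_pow (X_mem k 0) (n + 1))

theorem I1_sq : I1 (PP ⧸ Ideal.span {(X 1 ^ 2 : PP)}) := by
  have hGm : (X 1 ^ 2 : PP) ∈ IsLocalRing.maximalIdeal PP ^ 2 := Ideal.pow_mem_pow (X_mem k 1) 2
  have hG : ((2 : ℕ) : ℕ∞) ≤ (X 1 ^ 2 : PP).order := pow_le_ordIdeal k 2 hGm
  have hG0 : constantCoeff (X 1 ^ 2 : PP) = 0 := by
    rw [map_pow, constantCoeff_X, zero_pow (by norm_num)]
  refine ⟨Ideal.Quotient.mk _ (X 1), Ideal.Quotient.mk _ (X 1), ?_, ?_, ?_, ?_, ?_⟩
  · exact mk_mem_nu k _ _ hG0 (constantCoeff_X 1)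
  · exact mk_mem_nu k _ _ hG0 (constantCoeff_X 1)
  · apply mk_not_mem_sq k _ _ hG 1
    rw [coeff_index_single_X]
    simp
  · apply mk_not_mem_sq k _ _ hG 1
    rw [coeff_index_single_X]
    simp
  · have : Ideal.Quotient.mk (Ideal.span {(X 1 ^ 2 : PP)}) (X 1) *
        Ideal.Quotient.mk (Ideal.span {(X 1 ^ 2 : PP)}) (X 1) = 0 := by
      rw [← map_mul, Ideal.Quotient.eq_zero_iff_mem, Ideal.mem_span_singleton]
      exact ⟨1, by ring⟩
    rw [this]
    exact zero_mem _

/-- A plane curve germ of multiplicity at least three is neither an `A_n` singularity nor a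
double line. -/
theorem no_equiv_of_order (F : PP) (hF : ((3 : ℕ) : ℕ∞) ≤ F.order) :
    ¬ ((∃ n : ℕ, Nonempty ((PP ⧸ Ideal.span {F}) ≃ₐ[k] ArSing.ring k n)) ∨
       Nonempty ((PP ⧸ Ideal.span {F}) ≃ₐ[k] (PP ⧸ Ideal.span {(X 1 ^ 2 : PP)}))) := by
  rintro (⟨n, ⟨e⟩⟩ | ⟨⟨e⟩⟩)
  · rcases Nat.eq_zero_or_pos n with rfl | hn
    · exact not_I0 k F (le_trans (by exact_mod_cast (by norm_num : (2 : ℕ) ≤ 3)) hF)
        (I0_of_equiv e.symm.toRingEquiv (I0_A0 k))
    · exact not_I1 k F hF (I1_of_equiv e.symm.toRingEquiv (I1_An k n hn))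
  · exact not_I1 k F hF (I1_of_equiv e.symm.toRingEquiv (I1_sq k))

end Groth.Agent.Helper6.DP
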