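import Mathlib
import Groth.Agent.Helper6.DP1

set_option autoImplicit false
set_option linter.style.haveILetI false
set_option linter.unusedSectionVars false

/-!
# Double points of plane curves: substitution automorphisms and smooth points
-/

namespace Groth.Agent.Helper6.DP

open MvPowerSeries
open Groth.Agent.Helper6.FormalIFT
open Groth.Agent.Helper6.ArS

universe u

variable (k : Type u) [Field k]

attribute [-instance] PowerSeries.algebraPowerSeries MvPowerSeries.algebraMvPowerSeries

local notation "PP" => MvPowerSeries (Fin 2) k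

/-- The automorphism of `k[[x, y]]` given by substitution of series with invertible linear part. -/
noncomputable def substEquiv (y : Fin 2 → PP) (hy : ∀ i, constantCoeff (y i) = 0)
    (hA : IsUnit (linMat y).det) : PP ≃ₐ[k] PP :=
  AlgEquiv.ofBijective (substAlgHom (hasSubst_of_constantCoeff_zero hy))
    (by
      rw [coe_substAlgHom]
      exact subst_bijective y hy hA)

theorem substEquiv_apply (y : Fin 2 → PP) (hy : ∀ i, constantCoeff (y i) = 0)
    (hA : IsUnit (linMat y).det) (f : PP) : substEquiv k y hy hA f = subst y f := by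
  show substAlgHom (hasSubst_of_constantCoeff_zero hy) f = _
  rw [coe_substAlgHom]

theorem substEquiv_X (y : Fin 2 → PP) (hy : ∀ i, constantCoeff (y i) = 0)
    (hA : IsUnit (linMat y).det) (i : Fin 2) : substEquiv k y hy hA (X i) = y i := by
  rw [substEquiv_apply, subst_X (hasSubst_of_constantCoeff_zero hy)]

/-- An automorphism carrying `F` to a unit multiple of `G` identifies the quotients. -/
theorem quot_equiv_of_map (Φ : PP ≃ₐ[k] PP) (F G U : PP) (hU : IsUnit U) (h : Φ F = U * G) :
    Nonempty ((PP ⧸ Ideal.span {F}) ≃ₐ[k] (PP ⧸ Ideal.span {G})) := by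
  refine ⟨Ideal.quotientEquivAlg _ _ Φ ?_⟩
  rw [Ideal.map_span, Set.image_singleton]
  show Ideal.span {G} = Ideal.span {Φ F}
  rw [h, Ideal.span_singleton_mul_left_unit hU]

theorem quot_equiv_of_span_eq (F G : PP) (h : Ideal.span {F} = Ideal.span {G}) :
    Nonempty ((PP ⧸ Ideal.span {F}) ≃ₐ[k] (PP ⧸ Ideal.span {G})) :=
  ⟨Ideal.quotientEquivAlgOfEq k h⟩

theorem linMat_det (y : Fin 2 → PP) :
    (linMat y).det = coeff (Finsupp.single 0 1) (y 0) * coeff (Finsupp.single 1 1) (y 1) -
      coeff (Finsupp.single 1 1) (y 0) * coeff (Finsupp.single 0 1) (y 1) := by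
  rw [Matrix.det_fin_two]
  rfl

/-- A germ with non-zero linear part is equivalent to a coordinate. -/
theorem equiv_X0_of_lin (F : PP) (h0 : constantCoeff F = 0) (i : Fin 2)
    (hi : coeff (Finsupp.single i 1) F ≠ 0) :
    Nonempty ((PP ⧸ Ideal.span {(X 0 : PP)}) ≃ₐ[k] (PP ⧸ Ideal.span {F})) := by
  obtain ⟨y, hy0, hy, hdet⟩ : ∃ y : Fin 2 → PP, y 0 = F ∧ (∀ j, constantCoeff (y j) = 0) ∧
      IsUnit (linMat y).det := by
    fin_cases i
    · refine ⟨![F, X 1], rfl, ?_, ?_⟩
      · intro j
        fin_cases j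
        · exact h0
        · exact constantCoeff_X 1
      · rw [linMat_det]
        show IsUnit (coeff (Finsupp.single 0 1) F * coeff (Finsupp.single 1 1) (X 1 : PP) -
          coeff (Finsupp.single 1 1) F * coeff (Finsupp.single 0 1) (X 1 : PP))
        rw [coeff_index_single_X, coeff_index_single_X, if_pos rfl, if_neg (by decide), mul_one,
          mul_zero, sub_zero]
        exact isUnit_iff_ne_zero.2 hi
    · refine ⟨![F, X 0], rfl, ?_, ?_⟩
      · intro j
        fin_cases j
        · exact h0
        · exact constantCoeff_X 0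
      · rw [linMat_det]
        show IsUnit (coeff (Finsupp.single 0 1) F * coeff (Finsupp.single 1 1) (X 0 : PP) -
          coeff (Finsupp.single 1 1) F * coeff (Finsupp.single 0 1) (X 0 : PP))
        rw [coeff_index_single_X, coeff_index_single_X, if_pos rfl, if_neg (by decide), mul_one,
          mul_zero, zero_sub]
        exact isUnit_iff_ne_zero.2 (neg_ne_zero.2 hi)
  apply quot_equiv_of_map k (substEquiv k y hy hdet) (X 0) F 1 isUnit_one
  rw [substEquiv_X, hy0, one_mul]

/-- A smooth point is an `A_0` "singularity". -/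
theorem equiv_A0_of_lin (F : PP) (h0 : constantCoeff F = 0) (i : Fin 2)
    (hi : coeff (Finsupp.single i 1) F ≠ 0) :
    Nonempty ((PP ⧸ Ideal.span {F}) ≃ₐ[k] ArSing.ring k 0) := by
  obtain ⟨e1⟩ := equiv_X0_of_lin k F h0 i hi
  obtain ⟨e2⟩ := equiv_X0_of_lin k (ArSing.eqn k 0) (eqn_constantCoeff k 0) 0 (by
    unfold ArSing.eqn
    have h1 : (X 1 ^ 2 : PP) ∈ ordIdeal k 2 :=
      pow_le_ordIdeal k 2 (Ideal.pow_mem_pow (X_mem k 1) 2)
    rw [map_sub, coeff_single_eq_zero_of_mem k _ h1, zero_add, pow_one, coeff_index_single_X,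
      if_pos rfl, zero_sub]
    exact neg_ne_zero.2 one_ne_zero)
  exact ⟨e1.symm.trans e2⟩

end Groth.Agent.Helper6.DP
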