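import Mathlib
import Groth.Agent.Helper6.SeriesVec

/-!
# The limit lemma with an invariant
-/

namespace Groth.Agent.Helper6.SeriesVec

open MvPowerSeries
open Groth.Agent.Helper6.LubinTate (exists_seq)

variable {R : Type*} [CommRing R] {σ ι κ : Type*}

/-- The limit lemma, with an invariant `Inv` preserved by high-order perturbations. -/
theorem limit_lemma_inv (Inv : (ι → MvPowerSeries σ R) → Prop)
    (T : (ι → MvPowerSeries σ R) → (κ → MvPowerSeries σ R)) (s n₀ : ℕ) (hn₀ : 1 ≤ n₀)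
    (hInv : ∀ u δ : ι → MvPowerSeries σ R, Inv u → OrdGE n₀ δ → Inv (u + δ))
    (hLip : ∀ u u' : ι → MvPowerSeries σ R, Inv u → Inv u' → ∀ m, n₀ ≤ m → OrdGE m (u - u') →
      OrdGE (m + s) (T u - T u'))
    (hStep : ∀ m, n₀ ≤ m → ∀ u : ι → MvPowerSeries σ R, Inv u →
      OrdGE (m + s) (T u) → ∃ δ : ι → MvPowerSeries σ R, OrdGE m δ ∧
        OrdGE (m + s + 1) (T (u + δ)))
    (u₀ : ι → MvPowerSeries σ R) (h0 : Inv u₀)
    (hT0 : OrdGE (n₀ + s) (T u₀)) :
    ∃ u : ι → MvPowerSeries σ R, Inv u ∧ OrdGE n₀ (u - u₀) ∧ T u = 0 := by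
  obtain ⟨q, hq0, hqP, hqQ⟩ := exists_seq
    (fun n (u : ι → MvPowerSeries σ R) => Inv u ∧ OrdGE (n + n₀ + s) (T u))
    (fun n u u' => OrdGE (n + n₀) (u' - u)) u₀
    ⟨h0, by simpa using hT0⟩
    (by
      rintro n u ⟨hu0, huT⟩
      obtain ⟨δ, hδ, hδT⟩ := hStep (n + n₀) (by omega) u hu0 huT
      refine ⟨u + δ, ⟨hInv u δ hu0 (hδ.mono (by omega)), ?_⟩, ?_⟩
      · have e : n + 1 + n₀ + s = n + n₀ + s + 1 := by omega
        rw [e]; exact hδT
      · have e : u + δ - u = δ := by ring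
        rw [e]; exact hδ)
  have hmono : ∀ n k : ℕ, OrdGE (n + n₀) (q (n + k) - q n) := by
    intro n k
    induction k with
    | zero => intro i; simp
    | succ k ih =>
      have e : q (n + (k + 1)) - q n = (q (n + k + 1) - q (n + k)) + (q (n + k) - q n) := by
        rw [← add_assoc]; ring
      rw [e]
      exact ((hqQ (n + k)).mono (by omega)).add ih
  let u : ι → MvPowerSeries σ R := fun i e => coeff e (q e.degree i)
  have hu : ∀ i e, coeff e (u i) = coeff e (q e.degree i) := fun i e => rfl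
  have hlim : ∀ n : ℕ, OrdGE (n + n₀) (u - q n) := by
    intro n
    apply ordGE_of_coeff
    intro i d hd
    rw [Pi.sub_apply, map_sub, hu, sub_eq_zero]
    rcases Nat.lt_or_ge n d.degree with h | h
    · obtain ⟨k, hk⟩ := Nat.exists_eq_add_of_le h.le
      have := (hmono n k).coeff_eq_zero i hd
      rw [Pi.sub_apply, map_sub, sub_eq_zero] at this
      rw [hk, this]
    · obtain ⟨k, hk⟩ := Nat.exists_eq_add_of_le h
      have := (hmono d.degree k).coeff_eq_zero i (e := d) (by omega)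
      rw [Pi.sub_apply, map_sub, sub_eq_zero] at this
      rw [hk, this]
  have hlim0 : OrdGE n₀ (u - u₀) := by
    have := hlim 0
    rw [hq0] at this
    simpa using this
  have hu0 : Inv u := by
    have e : u = u₀ + (u - u₀) := by ring
    rw [e]
    exact hInv u₀ _ h0 hlim0
  refine ⟨u, hu0, hlim0, ?_⟩
  funext j
  have key : ∀ n : ℕ, ((n + n₀ + s : ℕ) : ℕ∞) ≤ (T u j).order := by
    intro n
    have e : T u j = (T u - T (q n)) j + T (q n) j := by
      rw [Pi.sub_apply]; ring
    rw [e]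
    refine le_trans (le_min ?_ ((hqP n).2 j)) min_order_le_add
    exact hLip u (q n) hu0 (hqP n).1 (n + n₀) (by omega) (hlim n) j
  have : (T u j).order = ⊤ := by
    rw [ENat.eq_top_iff_forall_ge]
    intro m
    exact le_trans (by exact_mod_cast (by omega : m ≤ m + n₀ + s)) (key m)
  rw [order_eq_top_iff] at this
  exact this

end Groth.Agent.Helper6.SeriesVec
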