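import Mathlib
import Groth.Agent.Helper6.SeriesVecInv
import Groth.Agent.Helper6.FormalDiv

/-!
# Formal Morse lemma: normal form of power series with nondegenerate quadratic part
-/

namespace Groth.Agent.Helper6.FormalMorse

open MvPowerSeries
open Groth.Agent.Helper6.SeriesVec
open Groth.Agent.Helper6.FormalIFT

variable {R : Type*} [CommRing R] {n : ℕ}

section Ord
variable {σ : Type*}

theorem ord_sum {ι : Type*} {s : Finset ι} {f : ι → MvPowerSeries σ R} {k : ℕ}
    (h : ∀ i ∈ s, (k : ℕ∞) ≤ (f i).order) : (k : ℕ∞) ≤ (∑ i ∈ s, f i).order := by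
  apply nat_le_order
  intro e he
  rw [map_sum]
  exact Finset.sum_eq_zero (fun i hi =>
    coeff_of_lt_order (lt_of_lt_of_le (by exact_mod_cast he) (h i hi)))

theorem ord_C_mul (r : R) {t : MvPowerSeries σ R} {k : ℕ} (h : (k : ℕ∞) ≤ t.order) :
    (k : ℕ∞) ≤ (C r * t).order := by
  rw [← smul_eq_C_mul]
  exact le_trans h le_order_smul

theorem ord_mul {x y : MvPowerSeries σ R} {a b : ℕ} (h1 : (a : ℕ∞) ≤ x.order)
    (h2 : (b : ℕ∞) ≤ y.order) : ((a + b : ℕ) : ℕ∞) ≤ (x * y).order := by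
  refine le_trans ?_ le_order_mul
  push_cast
  exact add_le_add h1 h2

theorem ord_add {x y : MvPowerSeries σ R} {a : ℕ} (h1 : (a : ℕ∞) ≤ x.order)
    (h2 : (a : ℕ∞) ≤ y.order) : (a : ℕ∞) ≤ (x + y).order :=
  le_trans (le_min h1 h2) min_order_le_add

theorem ord_neg {x : MvPowerSeries σ R} {a : ℕ} (h1 : (a : ℕ∞) ≤ x.order) :
    (a : ℕ∞) ≤ (-x).order := by rwa [order_neg]

theorem ord_mono {x : MvPowerSeries σ R} {a b : ℕ} (hab : b ≤ a) (h1 : (a : ℕ∞) ≤ x.order) :
    (b : ℕ∞) ≤ x.order := le_trans (by exact_mod_cast hab) h1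

theorem ord_X (j : σ) : ((1 : ℕ) : ℕ∞) ≤ (X j : MvPowerSeries σ R).order := by
  have := one_le_order_iff_constCoeff_eq_zero.mpr (constantCoeff_X (R := R) j)
  exact_mod_cast this

end Ord

/-- `Q(x + u)` for the quadratic form with coefficient table `c`. -/
noncomputable def Qs (c : Fin n → Fin n → R) (u : Fin n → MvPowerSeries (Fin n) R) :
    MvPowerSeries (Fin n) R :=
  ∑ i, ∑ j, C (c i j) * (X i + u i) * (X j + u j)

/-- linear part in `δ` -/
noncomputable def Lq (c : Fin n → Fin n → R) (δ : Fin n → MvPowerSeries (Fin n) R) :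
    MvPowerSeries (Fin n) R :=
  ∑ i, ∑ j, C (c i j) * (δ i * X j + X i * δ j)

/-- remainder -/
noncomputable def Nq (c : Fin n → Fin n → R) (u δ : Fin n → MvPowerSeries (Fin n) R) :
    MvPowerSeries (Fin n) R :=
  ∑ i, ∑ j, C (c i j) * (δ i * u j + u i * δ j + δ i * δ j)

theorem Qs_add (c : Fin n → Fin n → R) (u δ : Fin n → MvPowerSeries (Fin n) R) :
    Qs c (u + δ) = Qs c u + Lq c δ + Nq c u δ := by
  simp only [Qs, Lq, Nq, ← Finset.sum_add_distrib]
  refine Finset.sum_congr rfl (fun i _ => Finset.sum_congr rfl (fun j _ => ?_))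
  simp only [Pi.add_apply]
  ring

theorem Qs_sub (c : Fin n → Fin n → R) (u u' : Fin n → MvPowerSeries (Fin n) R) :
    Qs c u - Qs c u' = ∑ i, ∑ j, C (c i j) *
      ((u i - u' i) * (X j + u j) + (X i + u' i) * (u j - u' j)) := by
  simp only [Qs, ← Finset.sum_sub_distrib]
  refine Finset.sum_congr rfl (fun i _ => Finset.sum_congr rfl (fun j _ => ?_))
  ring

theorem Lq_eq (c : Fin n → Fin n → R) (δ : Fin n → MvPowerSeries (Fin n) R) :
    Lq c δ = ∑ i, δ i * ∑ j, C (c i j + c j i) * X j := by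
  simp only [Lq, Finset.mul_sum, map_add, add_mul, mul_add, Finset.sum_add_distrib]
  congr 1
  · refine Finset.sum_congr rfl (fun i _ => Finset.sum_congr rfl (fun j _ => ?_))
    ring
  · rw [Finset.sum_comm]
    refine Finset.sum_congr rfl (fun i _ => Finset.sum_congr rfl (fun j _ => ?_))
    ring

/-- the polar matrix `c + cᵀ` -/
def Hmat (c : Fin n → Fin n → R) : Matrix (Fin n) (Fin n) R := fun i j => c i j + c j i

theorem Lq_solve (c : Fin n → Fin n → R) (hH : IsUnit (Hmat c).det)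
    (gj : Fin n → MvPowerSeries (Fin n) R) :
    Lq c (fun i => - ∑ j, gj j * C ((Hmat c)⁻¹ j i)) = - ∑ j, X j * gj j := by
  rw [Lq_eq]
  set Hs : Matrix (Fin n) (Fin n) (MvPowerSeries (Fin n) R) :=
    (Hmat c).map (C : R →+* MvPowerSeries (Fin n) R) with hHs
  set Hi : Matrix (Fin n) (Fin n) (MvPowerSeries (Fin n) R) :=
    ((Hmat c)⁻¹).map (C : R →+* MvPowerSeries (Fin n) R) with hHi
  have hmul : Hi * Hs = 1 := by
    rw [hHi, hHs, ← Matrix.map_mul, Matrix.nonsing_inv_mul _ hH,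
      Matrix.map_one _ (map_zero _) (map_one _)]
  have e1 : ∑ i, (- ∑ j, gj j * C ((Hmat c)⁻¹ j i)) * ∑ j', C (c i j' + c j' i) * X j' =
      - ((Matrix.vecMul gj Hi) ⬝ᵥ (Hs.mulVec X)) := by
    simp only [dotProduct, Matrix.vecMul, Matrix.mulVec, neg_mul, Finset.sum_neg_distrib]
    rfl
  rw [e1, ← Matrix.dotProduct_mulVec, Matrix.mulVec_mulVec, hmul, Matrix.one_mulVec]
  simp [dotProduct, mul_comm]

/-- The formal Morse lemma. -/
theorem morse (c : Fin n → Fin n → R) (hH : IsUnit (Hmat c).det)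
    (F : MvPowerSeries (Fin n) R) (m : ℕ) (hm : 2 ≤ m)
    (hF : ((m + 1 : ℕ) : ℕ∞) ≤ (Qs c 0 - F).order) :
    ∃ u : Fin n → MvPowerSeries (Fin n) R, OrdGE m u ∧ Qs c u = F := by
  obtain ⟨u, -, hu, hT⟩ := limit_lemma_inv (κ := Unit) (fun u => OrdGE 2 u)
    (fun u _ => Qs c u - F) 1 m (by omega)
    (fun u δ hu hδ => hu.add (hδ.mono hm))
    (by
      intro u u' hu hu' k hk h _
      have e : ((fun u (_ : Unit) => Qs c u - F) u - (fun u (_ : Unit) => Qs c u - F) u') () =
          Qs c u - Qs c u' := by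
        simp only [Pi.sub_apply]; ring
      rw [e, Qs_sub]
      refine ord_sum (fun i _ => ord_sum (fun j _ => ord_C_mul _ (ord_add ?_ ?_)))
      · have h1 : (k : ℕ∞) ≤ (u i - u' i).order := h i
        exact ord_mul h1 (ord_add (ord_X j) (ord_mono (by omega) (hu j)))
      · have h1 : (k : ℕ∞) ≤ (u j - u' j).order := h j
        have := ord_mul (ord_add (ord_X i) (ord_mono (by omega) (hu' i))) h1
        rwa [add_comm] at this)
    (by
      intro k hk u hu hT
      have hg : ((k + 1 : ℕ) : ℕ∞) ≤ (Qs c u - F).order := hT ()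
      obtain ⟨gj, hgj, hgeq⟩ := exists_eq_sum_X_mul (Qs c u - F) k hg
      refine ⟨fun i => - ∑ j, gj j * C ((Hmat c)⁻¹ j i), ?_, ?_⟩
      · intro i
        refine ord_neg (ord_sum (fun j _ => ?_))
        rw [mul_comm]
        exact ord_C_mul _ (hgj j)
      · have hδ : OrdGE k (fun i => - ∑ j, gj j * C ((Hmat c)⁻¹ j i)) := by
          intro i
          refine ord_neg (ord_sum (fun j _ => ?_))
          rw [mul_comm]
          exact ord_C_mul _ (hgj j)
        intro _
        have e : Qs c (u + fun i => - ∑ j, gj j * C ((Hmat c)⁻¹ j i)) - F =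
            Nq c u (fun i => - ∑ j, gj j * C ((Hmat c)⁻¹ j i)) := by
          rw [Qs_add, Lq_solve c hH, ← hgeq]
          ring
        change ((k + 1 + 1 : ℕ) : ℕ∞) ≤
          (Qs c (u + fun i => - ∑ j, gj j * C ((Hmat c)⁻¹ j i)) - F).order
        rw [e, Nq]
        refine ord_sum (fun i _ => ord_sum (fun j _ => ord_C_mul _
          (ord_add (ord_add ?_ ?_) ?_)))
        · exact ord_mono (by omega) (ord_mul (hδ i) (hu j))
        · exact ord_mono (by omega) (ord_mul (hu i) (hδ j))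
        · exact ord_mono (by omega) (ord_mul (hδ i) (hδ j)))
    0 (fun _ => by simp) (fun _ => hF)
  refine ⟨u, by simpa using hu, ?_⟩
  have := congrFun hT ()
  simpa [sub_eq_zero] using this

end Groth.Agent.Helper6.FormalMorse
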