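import Mathlib
import Groth.Agent.Helper6.FormalMorse
import Groth.Agent.Helper6.FormalIFTApp

/-!
# Formal Morse lemma: polynomial form of the quadratic part, substitution, inversion
-/

namespace Groth.Agent.Helper6.FormalMorse

open MvPowerSeries
open Groth.Agent.Helper6.SeriesVec
open Groth.Agent.Helper6.FormalIFT

variable {R : Type*} [CommRing R] {n : ℕ}

/-- the quadratic polynomial with (full) coefficient table `c` -/
noncomputable def Qpoly (c : Fin n → Fin n → R) : MvPolynomial (Fin n) R :=
  ∑ i, ∑ j, MvPolynomial.C (c i j) * MvPolynomial.X i * MvPolynomial.X j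

theorem Qpoly_isHomogeneous (c : Fin n → Fin n → R) : (Qpoly c).IsHomogeneous 2 := by
  apply MvPolynomial.IsHomogeneous.sum
  intro i _
  apply MvPolynomial.IsHomogeneous.sum
  intro j _
  have := ((MvPolynomial.isHomogeneous_C (Fin n) (c i j)).mul
    (MvPolynomial.isHomogeneous_X R i)).mul (MvPolynomial.isHomogeneous_X R j)
  simpa using this

theorem coe_Qpoly (c : Fin n → Fin n → R) :
    ((Qpoly c : MvPolynomial (Fin n) R) : MvPowerSeries (Fin n) R) =
      ∑ i, ∑ j, C (c i j) * X i * X j := by
  rw [Qpoly, ← MvPolynomial.coeToMvPowerSeries.ringHom_apply, map_sum]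
  refine Finset.sum_congr rfl (fun i _ => ?_)
  rw [map_sum]
  refine Finset.sum_congr rfl (fun j _ => ?_)
  simp [MvPolynomial.coe_mul, MvPolynomial.coe_C, MvPolynomial.coe_X]

theorem Qs_zero (c : Fin n → Fin n → R) :
    Qs c 0 = ((Qpoly c : MvPolynomial (Fin n) R) : MvPowerSeries (Fin n) R) := by
  rw [coe_Qpoly, Qs]
  simp

theorem subst_coe_Qpoly (c : Fin n → Fin n → R) {u : Fin n → MvPowerSeries (Fin n) R}
    (hu : ∀ i, constantCoeff (u i) = 0) :
    subst (fun i => X i + u i)
      ((Qpoly c : MvPolynomial (Fin n) R) : MvPowerSeries (Fin n) R) = Qs c u := by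
  have Hy : HasSubst (fun i => X i + u i) :=
    hasSubst_of_constantCoeff_zero (fun i => by simp [hu i])
  rw [coe_Qpoly, Qs, ← coe_substAlgHom Hy, map_sum]
  refine Finset.sum_congr rfl (fun i _ => ?_)
  rw [map_sum]
  refine Finset.sum_congr rfl (fun j _ => ?_)
  rw [map_mul, map_mul, coe_substAlgHom Hy, subst_X Hy, subst_X Hy, subst_C]

theorem le_order_Qs_zero (c : Fin n → Fin n → R) : ((2 : ℕ) : ℕ∞) ≤ (Qs c 0).order := by
  rw [Qs]
  refine ord_sum (fun i _ => ord_sum (fun j _ => ?_))
  simp only [Pi.zero_apply, add_zero]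
  rw [mul_assoc]
  exact ord_C_mul _ (ord_mul (ord_X i) (ord_X j))

theorem single_add_single_eq {i j i' j' : Fin n}
    (h : (Finsupp.single i' 1 + Finsupp.single j' 1 : Fin n →₀ ℕ) =
      Finsupp.single i 1 + Finsupp.single j 1) :
    (i' = i ∧ j' = j) ∨ (i' = j ∧ j' = i) := by
  have h1 := DFunLike.congr_fun h i'
  simp only [Finsupp.add_apply, Finsupp.single_apply, if_true] at h1
  by_cases hi : i = i'
  · left
    subst hi
    refine ⟨rfl, ?_⟩
    have := add_left_cancel h
    exact Finsupp.single_left_injective one_ne_zero this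
  · by_cases hj : j = i'
    · right
      subst hj
      refine ⟨rfl, ?_⟩
      rw [add_comm (Finsupp.single i 1)] at h
      have := add_left_cancel h
      exact Finsupp.single_left_injective one_ne_zero this
    · exfalso
      rw [if_neg hi, if_neg hj] at h1
      omega

theorem coeff_C_mul_X_mul_X (r : R) (i' j' : Fin n) (e : Fin n →₀ ℕ) :
    coeff e (C r * X i' * X j' : MvPowerSeries (Fin n) R) =
      if e = Finsupp.single i' 1 + Finsupp.single j' 1 then r else 0 := by
  classical
  rw [mul_assoc, coeff_C_mul, X_def, X_def, monomial_mul_monomial, coeff_monomial, mul_one]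
  split_ifs <;> simp

theorem coeff_Qs_zero (c : Fin n → Fin n → R) (hc : ∀ i j, j < i → c i j = 0) {i j : Fin n}
    (hij : i ≤ j) :
    coeff (Finsupp.single i 1 + Finsupp.single j 1) (Qs c 0) = c i j := by
  classical
  rw [Qs, map_sum]
  simp only [Pi.zero_apply, add_zero, map_sum, coeff_C_mul_X_mul_X]
  rw [Finset.sum_eq_single i]
  · rw [Finset.sum_eq_single j]
    · rw [if_pos rfl]
    · intro j' _ hj'
      rw [if_neg]
      intro h
      rcases single_add_single_eq h.symm with ⟨-, h2⟩ | ⟨h1, h2⟩
      · exact hj' h2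
      · exact hj' (h2.trans h1)
    · intro h; exact absurd (Finset.mem_univ _) h
  · intro i' _ hi'
    apply Finset.sum_eq_zero
    intro j' _
    split_ifs with h
    · rcases single_add_single_eq h.symm with ⟨h1, -⟩ | ⟨h1, h2⟩
      · exact absurd h1 hi'
      · subst h1 h2
        exact hc _ _ (lt_of_le_of_ne hij (fun h => hi' h.symm))
    · rfl
  · intro h; exact absurd (Finset.mem_univ _) h

theorem exists_pair_of_degree_two (e : Fin n →₀ ℕ) (he : e.degree = 2) :
    ∃ i j : Fin n, i ≤ j ∧ e = Finsupp.single i 1 + Finsupp.single j 1 := by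
  have hne : e ≠ 0 := by
    intro h; rw [h, map_zero] at he; omega
  obtain ⟨i, hi⟩ : ∃ i, e i ≠ 0 := by
    by_contra hcon
    push Not at hcon
    exact hne (Finsupp.ext hcon)
  have hle : Finsupp.single i 1 ≤ e := by
    intro k
    by_cases hk : k = i
    · subst hk; simp; omega
    · simp [Ne.symm hk]
  have hadd : e - Finsupp.single i 1 + Finsupp.single i 1 = e := tsub_add_cancel_of_le hle
  have hdeg : (e - Finsupp.single i 1).degree = 1 := by
    have := congrArg Finsupp.degree hadd
    rw [map_add, Finsupp.degree_single, he] at this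
    omega
  have : (e - Finsupp.single i 1) ∈ Set.range (fun a : Fin n => Finsupp.single a 1) := by
    rw [Finsupp.range_single_one]; exact hdeg
  obtain ⟨j, hj⟩ := this
  rcases le_total i j with h | h
  · exact ⟨i, j, h, by rw [← hadd, ← hj, add_comm]⟩
  · exact ⟨j, i, h, by rw [← hadd, ← hj]⟩

theorem le_order_Qs_zero_sub (c : Fin n → Fin n → R) (hc : ∀ i j, j < i → c i j = 0)
    (f : MvPowerSeries (Fin n) R) (hf0 : constantCoeff f = 0)
    (hf1 : ∀ i, coeff (Finsupp.single i 1) f = 0)
    (hf2 : ∀ i j, i ≤ j → c i j = coeff (Finsupp.single i 1 + Finsupp.single j 1) f) :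
    ((2 + 1 : ℕ) : ℕ∞) ≤ (Qs c 0 - f).order := by
  apply nat_le_order
  intro e he
  rw [map_sub, sub_eq_zero]
  rcases Nat.lt_or_ge e.degree 2 with h2 | h2
  · rw [coeff_of_lt_order (lt_of_lt_of_le (by exact_mod_cast h2) (le_order_Qs_zero c))]
    rcases Nat.lt_or_ge e.degree 1 with h1 | h1
    · have : e = 0 := (Finsupp.degree_eq_zero_iff e).mp (by omega)
      subst this
      rw [coeff_zero_eq_constantCoeff_apply, hf0]
    · have : e ∈ Set.range (fun a : Fin n => Finsupp.single a 1) := by
        rw [Finsupp.range_single_one]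
        show e.degree = 1
        omega
      obtain ⟨i, rfl⟩ := this
      exact (hf1 i).symm
  · obtain ⟨i, j, hij, rfl⟩ := exists_pair_of_degree_two e (by omega)
    rw [coeff_Qs_zero c hc hij, hf2 i j hij]

end Groth.Agent.Helper6.FormalMorse
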