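import Mathlib
import Groth.Agent.Helper6.DP2
import Groth.Agent.Helper6.FormalMorseApp

set_option autoImplicit false
set_option linter.style.haveILetI false
set_option linter.unusedSectionVars false

/-!
# Double points of plane curves: making the germ regular of order two in `y`
-/

namespace Groth.Agent.Helper6.DP

open MvPowerSeries
open Groth.Agent.Helper6.FormalIFT
open Groth.Agent.Helper6.FormalMorse
open Groth.Agent.Helper6.ArS

universe u

variable (k : Type u) [Field k]

attribute [-instance] PowerSeries.algebraPowerSeries MvPowerSeries.algebraMvPowerSeries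

local notation "PP" => MvPowerSeries (Fin 2) k

theorem Psi_C (a : k) : Psi k (MvPowerSeries.C a) = PowerSeries.C (PowerSeries.C a) := by
  have hre : ∀ p, MvPowerSeries.renameEquiv k e2 p = MvPowerSeries.rename e2 p := fun p => rfl
  rw [Psi, AlgEquiv.trans_apply, hre, MvPowerSeries.rename_C]
  exact MvPowerSeries.optionEquivLeft_C a

theorem cc_coeff_Psi (G : PP) (n : ℕ) :
    PowerSeries.constantCoeff (PowerSeries.coeff n (Psi k G)) =
      coeff (Finsupp.single 1 n) G := by
  have hre : ∀ p, MvPowerSeries.renameEquiv k e2 p = MvPowerSeries.rename e2 p := fun p => rfl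
  rw [Psi, AlgEquiv.trans_apply, hre]
  show MvPowerSeries.coeff (0 : Unit →₀ ℕ)
    (PowerSeries.coeff n (optionEquivLeft Unit k (rename e2 G))) = _
  rw [MvPowerSeries.coeff_coeff_optionEquivLeft]
  have h : (Finsupp.optionElim n (0 : Unit →₀ ℕ)) =
      Finsupp.embDomain e2.toEmbedding (Finsupp.single 1 n) := by
    ext o
    rcases o with _ | ⟨⟩
    · rw [Finsupp.optionElim_apply_none]
      have : (none : Option Unit) = e2.toEmbedding 1 := rfl
      rw [this, Finsupp.embDomain_apply_self, Finsupp.single_eq_same]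
    · rw [Finsupp.optionElim_apply_some]
      have : (some () : Option Unit) = e2.toEmbedding 0 := rfl
      rw [this, Finsupp.embDomain_apply_self, Finsupp.single_eq_of_ne (by decide)]
      rfl
  rw [h]
  exact MvPowerSeries.coeff_embDomain_rename e2.toEmbedding G _

/-- Restriction to the `y`-axis: `x ↦ 0`, `y ↦ Y`. -/
noncomputable def rho0 : PP →+* PowerSeries k :=
  (PowerSeries.map (PowerSeries.constantCoeff (R := k))).comp (Psi k).toRingEquiv.toRingHom

theorem rho0_apply (G : PP) :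
    rho0 k G = PowerSeries.map (PowerSeries.constantCoeff (R := k)) (Psi k G) := rfl

theorem coeff_rho0 (G : PP) (n : ℕ) :
    PowerSeries.coeff n (rho0 k G) = coeff (Finsupp.single 1 n) G := by
  rw [rho0_apply, PowerSeries.coeff_map]
  exact cc_coeff_Psi k G n

theorem rho0_X0 : rho0 k (X 0) = 0 := by
  rw [rho0_apply, Psi_X0, PowerSeries.map_C, PowerSeries.constantCoeff_X, map_zero]

theorem rho0_X1 : rho0 k (X 1) = PowerSeries.X := by
  rw [rho0_apply, Psi_X1, PowerSeries.map_X]

theorem rho0_C (a : k) : rho0 k (C a) = PowerSeries.C a := by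
  rw [rho0_apply, Psi_C, PowerSeries.map_C, PowerSeries.constantCoeff_C]

theorem exists_lambda (h2 : (2 : k) ≠ 0) (α β γ : k) (h : ¬ (α = 0 ∧ β = 0 ∧ γ = 0)) :
    ∃ l : k, α * l ^ 2 + β * l + γ ≠ 0 := by
  by_contra hcon
  push Not at hcon
  have h0 := hcon 0
  have h1 := hcon 1
  have h3 := hcon (-1)
  apply h
  have hγ : γ = 0 := by linear_combination h0
  have hα : α = 0 := by
    have : 2 * α = 0 := by linear_combination h1 + h3 - 2 * h0
    exact (mul_eq_zero.1 this).resolve_left h2
  have hβ : β = 0 := by linear_combination h1 - hα - hγ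
  exact ⟨hα, hβ, hγ⟩

/-- After a shear, a germ of multiplicity two becomes regular of order two in `y`. -/
theorem exists_shear (h2 : (2 : k) ≠ 0) (F : PP) (h0 : constantCoeff F = 0)
    (h1 : ∀ i : Fin 2, coeff (Finsupp.single i 1) F = 0)
    (hq : ∃ i j : Fin 2, coeff (Finsupp.single i 1 + Finsupp.single j 1) F ≠ 0) :
    ∃ F' : PP, Nonempty ((PP ⧸ Ideal.span {F}) ≃ₐ[k] (PP ⧸ Ideal.span {F'})) ∧
      PowerSeries.coeff 0 (rho0 k F') = 0 ∧ PowerSeries.coeff 1 (rho0 k F') = 0 ∧
      PowerSeries.coeff 2 (rho0 k F') ≠ 0 := by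
  obtain ⟨c, hcdef⟩ : ∃ c : Fin 2 → Fin 2 → k, c = fun i j =>
      if i ≤ j then coeff (Finsupp.single i 1 + Finsupp.single j 1) F else 0 := ⟨_, rfl⟩
  have hc : ∀ i j : Fin 2, j < i → c i j = 0 := by
    intro i j hij
    rw [hcdef]
    exact if_neg (not_le.2 hij)
  have hf2 : ∀ i j : Fin 2, i ≤ j →
      c i j = coeff (Finsupp.single i 1 + Finsupp.single j 1) F := by
    intro i j hij
    rw [hcdef]
    exact if_pos hij
  have hR : ((2 + 1 : ℕ) : ℕ∞) ≤ (Qs c 0 - F).order := le_order_Qs_zero_sub c hc F h0 h1 hf2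
  have hne : ¬ (c 0 0 = 0 ∧ c 0 1 = 0 ∧ c 1 1 = 0) := by
    rintro ⟨ha, hb, hg⟩
    obtain ⟨i, j, hij⟩ := hq
    have key : ∀ i j : Fin 2, i ≤ j → c i j = 0 := by
      intro i j hle
      fin_cases i <;> fin_cases j
      · exact ha
      · exact hb
      · exact absurd hle (by decide)
      · exact hg
    rcases le_total i j with hle | hle
    · exact hij ((hf2 i j hle).symm.trans (key i j hle))
    · rw [add_comm] at hij
      exact hij ((hf2 j i hle).symm.trans (key j i hle))
  obtain ⟨l, hl⟩ := exists_lambda k h2 (c 0 0) (c 0 1) (c 1 1) hne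
  obtain ⟨u, hu⟩ : ∃ u : Fin 2 → PP, u = ![C l * X 1, 0] := ⟨_, rfl⟩
  have hu0 : u 0 = C l * X 1 := by rw [hu]; rfl
  have hu1 : u 1 = 0 := by rw [hu]; rfl
  have hucc : ∀ i, constantCoeff (u i) = 0 := by
    intro i
    fin_cases i
    · show constantCoeff (u 0) = 0
      rw [hu0, map_mul, constantCoeff_X, mul_zero]
    · show constantCoeff (u 1) = 0
      rw [hu1, map_zero]
  obtain ⟨y, hy⟩ : ∃ y : Fin 2 → PP, y = fun i => X i + u i := ⟨_, rfl⟩
  have hycc : ∀ i, constantCoeff (y i) = 0 := by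
    intro i
    rw [hy]
    show constantCoeff (X i + u i) = 0
    rw [map_add, constantCoeff_X, hucc, add_zero]
  have hdet : IsUnit (linMat y).det := by
    rw [linMat_det, hy]
    show IsUnit (coeff (Finsupp.single 0 1) (X 0 + u 0) * coeff (Finsupp.single 1 1) (X 1 + u 1) -
      coeff (Finsupp.single 1 1) (X 0 + u 0) * coeff (Finsupp.single 0 1) (X 1 + u 1))
    rw [hu0, hu1, add_zero, map_add, map_add, coeff_C_mul, coeff_C_mul, coeff_index_single_X,
      coeff_index_single_X, coeff_index_single_X, coeff_index_single_X, if_pos rfl, if_pos rfl,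
      if_neg (by decide), if_neg (by decide), mul_zero, mul_zero, add_zero, mul_one, sub_zero]
    exact isUnit_one
  obtain ⟨Φ, hΦ⟩ : ∃ Φ : PP ≃ₐ[k] PP, Φ = substEquiv k y hycc hdet := ⟨_, rfl⟩
  refine ⟨Φ F, quot_equiv_of_map k Φ F (Φ F) 1 isUnit_one (one_mul _).symm, ?_⟩
  -- the quadratic part
  have hQ : Φ (Qs c 0) = Qs c u := by
    rw [hΦ, substEquiv_apply, Qs_zero, hy]
    exact subst_coe_Qpoly c hucc
  have e0 : rho0 k (X 0 + u 0) = PowerSeries.C l * PowerSeries.X := by
    rw [hu0, map_add, map_mul, rho0_X0, rho0_X1, rho0_C, zero_add]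
  have e1 : rho0 k (X 1 + u 1) = PowerSeries.X := by
    rw [hu1, add_zero, rho0_X1]
  have hc10 : c 1 0 = 0 := hc 1 0 (by decide)
  have hrQ : rho0 k (Qs c u) =
      PowerSeries.C (c 0 0 * l ^ 2 + c 0 1 * l + c 1 1) * PowerSeries.X ^ 2 := by
    unfold Qs
    rw [Fin.sum_univ_two, Fin.sum_univ_two, Fin.sum_univ_two]
    simp only [map_add, map_mul, rho0_C]
    simp only [← map_add, e0, e1, hc10]
    simp only [map_add, map_mul, map_pow, map_zero]
    ring
  -- the remainder
  have hRem : ((3 : ℕ) : ℕ∞) ≤ (Φ (Qs c 0 - F)).order := by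
    rw [hΦ, substEquiv_apply]
    have h1le : (1 : ℕ∞) ≤ ⨅ i, (y i).order := by
      apply le_iInf
      intro i
      exact one_le_order_iff_constCoeff_eq_zero.2 (hycc i)
    refine le_trans ?_ (le_order_subst (hasSubst_of_constantCoeff_zero hycc) _)
    refine le_trans hR ?_
    exact le_mul_of_one_le_left zero_le h1le
  have hcoef : ∀ n : ℕ, n < 3 → PowerSeries.coeff n (rho0 k (Φ F)) =
      PowerSeries.coeff n (PowerSeries.C (c 0 0 * l ^ 2 + c 0 1 * l + c 1 1) *
        (PowerSeries.X : PowerSeries k) ^ 2) := by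
    intro n hn
    have eF : Φ F = Φ (Qs c 0) - Φ (Qs c 0 - F) := by
      rw [map_sub]
      ring
    rw [eF, map_sub, map_sub, hQ, hrQ, coeff_rho0 k (Φ (Qs c 0 - F)) n]
    rw [coeff_of_lt_order (f := Φ (Qs c 0 - F)), sub_zero]
    rw [Finsupp.degree_single]
    exact lt_of_lt_of_le (by exact_mod_cast hn) hRem
  refine ⟨?_, ?_, ?_⟩
  · rw [hcoef 0 (by norm_num), PowerSeries.coeff_C_mul, PowerSeries.coeff_X_pow,
      if_neg (by norm_num), mul_zero]
  · rw [hcoef 1 (by norm_num), PowerSeries.coeff_C_mul, PowerSeries.coeff_X_pow,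
      if_neg (by norm_num), mul_zero]
  · rw [hcoef 2 (by norm_num), PowerSeries.coeff_C_mul, PowerSeries.coeff_X_pow,
      if_pos rfl, mul_one]
    exact hl

end Groth.Agent.Helper6.DP
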