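import Mathlib
import Groth.Agent.Helper6.DP3

set_option autoImplicit false
set_option linter.style.haveILetI false
set_option linter.unusedSectionVars false

/-!
# Double points of plane curves: Weierstrass preparation
-/

namespace Groth.Agent.Helper6.DP

open MvPowerSeries
open Groth.Agent.Helper6.FormalIFT
open Groth.Agent.Helper6.ArS

universe u

variable (k : Type u) [Field k]

attribute [-instance] PowerSeries.algebraPowerSeries MvPowerSeries.algebraMvPowerSeries

local notation "PP" => MvPowerSeries (Fin 2) k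

/-- Series in `x` alone. -/
noncomputable abbrev iota : PowerSeries k →ₐ[k] PP := PowerSeries.toMvPowerSeries (0 : Fin 2)

theorem Psi_iota (p : PowerSeries k) : Psi k (iota k p) = PowerSeries.C p := by
  have hre : ∀ q, MvPowerSeries.renameEquiv k e2 q = MvPowerSeries.rename e2 q := fun q => rfl
  rw [Psi, AlgEquiv.trans_apply, hre]
  have h1 : MvPowerSeries.rename e2 (PowerSeries.toMvPowerSeries (0 : Fin 2) p) =
      PowerSeries.toMvPowerSeries (some ()) p := by
    have := MvPowerSeries.rename_comp_toMvPowerSeries (R := k) (⇑e2) (0 : Fin 2)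
    exact DFunLike.congr_fun this p
  rw [h1]
  refine PowerSeries.ext (fun n => MvPowerSeries.ext (fun x => ?_))
  rw [MvPowerSeries.coeff_coeff_optionEquivLeft, PowerSeries.coeff_C]
  by_cases hn : n = 0
  · subst hn
    rw [if_pos rfl]
    have h2 : Finsupp.optionElim 0 x = Finsupp.embDomain (Function.Embedding.some) x := by
      ext o
      rcases o with _ | u
      · rw [Finsupp.optionElim_apply_none, Finsupp.embDomain_notin_range]
        rintro ⟨v, hv⟩
        exact Option.some_ne_none v hv
      · rw [Finsupp.optionElim_apply_some]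
        exact (Finsupp.embDomain_apply_self Function.Embedding.some x u).symm
    have h3 : PowerSeries.toMvPowerSeries (some ()) p =
        MvPowerSeries.rename (Function.Embedding.some : Unit ↪ Option Unit) p := rfl
    rw [h2, h3, MvPowerSeries.coeff_embDomain_rename]
  · rw [if_neg hn, map_zero, PowerSeries.toMvPowerSeries_apply]
    apply MvPowerSeries.coeff_rename_eq_zero
    rintro ⟨z, hz⟩
    have := DFunLike.congr_fun hz none
    rw [Finsupp.optionElim_apply_none, Finsupp.mapDomain_notin_range] at this
    · exact hn this.symm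
    · rintro ⟨v, hv⟩
      exact Option.some_ne_none _ hv

theorem iota_X : iota k PowerSeries.X = X 0 := PowerSeries.toMvPowerSeries_X 0

theorem constantCoeff_iota (p : PowerSeries k) :
    constantCoeff (iota k p) = PowerSeries.constantCoeff p := by
  have h := cc_coeff_Psi k (iota k p) 0
  rw [Psi_iota, PowerSeries.coeff_zero_C] at h
  rw [h]
  simp

theorem subst_iota (y : Fin 2 → PP) (hy : ∀ i, constantCoeff (y i) = 0) (hy0 : y 0 = X 0)
    (p : PowerSeries k) : subst y (iota k p) = iota k p := by
  show subst y (PowerSeries.toMvPowerSeries (0 : Fin 2) p) = PowerSeries.toMvPowerSeries 0 p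
  rw [PowerSeries.subst_toMvPowerSeries (hasSubst_of_constantCoeff_zero hy), hy0,
    PowerSeries.toMvPowerSeries_eq_subst]

theorem coeff_iota_single_one (p : PowerSeries k) (hp : PowerSeries.constantCoeff p = 0) :
    coeff (Finsupp.single (1 : Fin 2) 1) (iota k p) = 0 := by
  apply PowerSeries.toMvPowerSeries_coeff_eq_zero _ hp
  rw [Finsupp.single_eq_of_ne (by decide)]

theorem residue_eq_zero_iff_cc (a : PowerSeries k) :
    IsLocalRing.residue (PowerSeries k) a = 0 ↔ PowerSeries.constantCoeff a = 0 := by
  rw [IsLocalRing.residue_eq_zero_iff, IsLocalRing.mem_maximalIdeal, mem_nonunits_iff,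
    PowerSeries.isUnit_iff_constantCoeff, isUnit_iff_ne_zero, not_not]

/-- Weierstrass preparation for a germ regular of order two in `y`. -/
theorem weier (F : PP) (hc0 : PowerSeries.coeff 0 (rho0 k F) = 0)
    (hc1 : PowerSeries.coeff 1 (rho0 k F) = 0) (hc2 : PowerSeries.coeff 2 (rho0 k F) ≠ 0) :
    ∃ (b c : PowerSeries k) (U : PP), PowerSeries.constantCoeff b = 0 ∧
      PowerSeries.constantCoeff c = 0 ∧ IsUnit U ∧
      F = (X 1 ^ 2 + iota k b * X 1 + iota k c) * U := by
  haveI : IsAdicComplete (IsLocalRing.maximalIdeal (PowerSeries k)) (PowerSeries k) := by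
    rw [PowerSeries.maximalIdeal_eq_span_X]
    infer_instance
  obtain ⟨g, hg⟩ : ∃ g, g = Psi k F := ⟨_, rfl⟩
  have hcoef : ∀ n, PowerSeries.coeff n (g.map (IsLocalRing.residue (PowerSeries k))) = 0 ↔
      PowerSeries.coeff n (rho0 k F) = 0 := by
    intro n
    rw [PowerSeries.coeff_map, residue_eq_zero_iff_cc, rho0_apply, PowerSeries.coeff_map, hg]
  have hord : (g.map (IsLocalRing.residue (PowerSeries k))).order = ((2 : ℕ) : ℕ∞) := by
    rw [PowerSeries.order_eq_nat]
    refine ⟨fun h => hc2 ((hcoef 2).1 h), fun i hi => ?_⟩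
    interval_cases i
    · exact (hcoef 0).2 hc0
    · exact (hcoef 1).2 hc1
  have hgne : g.map (IsLocalRing.residue (PowerSeries k)) ≠ 0 := by
    intro h
    rw [h, PowerSeries.order_zero] at hord
    exact ENat.top_ne_coe 2 hord
  obtain ⟨f, h, H⟩ := PowerSeries.exists_isWeierstrassFactorization hgne
  have hdeg : f.natDegree = 2 := by
    rw [H.natDegree_eq_toNat_order_map, hord]
    rfl
  have hmon : f.Monic := H.isDistinguishedAt.monic
  obtain ⟨b, hb⟩ : ∃ b, b = f.coeff 1 := ⟨_, rfl⟩
  obtain ⟨c, hc⟩ : ∃ c, c = f.coeff 0 := ⟨_, rfl⟩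
  have hbm : PowerSeries.constantCoeff b = 0 := by
    rw [← residue_eq_zero_iff_cc, IsLocalRing.residue_eq_zero_iff, hb]
    exact H.isDistinguishedAt.mem (by omega)
  have hcm : PowerSeries.constantCoeff c = 0 := by
    rw [← residue_eq_zero_iff_cc, IsLocalRing.residue_eq_zero_iff, hc]
    exact H.isDistinguishedAt.mem (by omega)
  have hf : f = Polynomial.X ^ 2 + Polynomial.C b * Polynomial.X + Polynomial.C c := by
    have h2 : f.coeff 2 = 1 := by
      have := hmon.coeff_natDegree
      rwa [hdeg] at this
    conv_lhs => rw [f.as_sum_range_C_mul_X_pow, hdeg]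
    rw [Finset.sum_range_succ, Finset.sum_range_succ, Finset.sum_range_one, h2, ← hb, ← hc]
    simp only [map_one, pow_zero, mul_one, pow_one, one_mul]
    ring
  have hfcoe : (f : PowerSeries (PowerSeries k)) =
      PowerSeries.X ^ 2 + PowerSeries.C b * PowerSeries.X + PowerSeries.C c := by
    rw [hf]
    simp only [Polynomial.coe_add, Polynomial.coe_mul, Polynomial.coe_pow, Polynomial.coe_X,
      Polynomial.coe_C]
  have hW : (Psi k).symm (f : PowerSeries (PowerSeries k)) =
      X 1 ^ 2 + iota k b * X 1 + iota k c := by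
    rw [AlgEquiv.symm_apply_eq, map_add, map_add, map_mul, map_pow, Psi_X1, Psi_iota, Psi_iota,
      hfcoe]
  refine ⟨b, c, (Psi k).symm h, hbm, hcm, H.isUnit.map (Psi k).symm, ?_⟩
  rw [← hW, ← map_mul, ← H.eq_mul, hg, AlgEquiv.symm_apply_apply]

/-- Square roots of units of `k[[x]]`. -/
theorem exists_sqrt [IsAlgClosed k] (h2 : (2 : k) ≠ 0) (u : PowerSeries k)
    (hu : PowerSeries.constantCoeff u ≠ 0) : ∃ s : PowerSeries k, s * s = u := by
  obtain ⟨a₀, ha₀⟩ := IsAlgClosed.exists_eq_mul_self (PowerSeries.constantCoeff u)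
  have ha₀ne : a₀ ≠ 0 := by
    rintro rfl
    rw [mul_zero] at ha₀
    exact hu ha₀
  have hH : HenselianRing (PowerSeries k) (Ideal.span {PowerSeries.X}) := inferInstance
  obtain ⟨s, hs, -⟩ := hH.is_henselian (Polynomial.X ^ 2 - Polynomial.C u)
    (Polynomial.monic_X_pow_sub_C u (by norm_num)) (PowerSeries.C a₀)
    (by
      rw [Polynomial.eval_sub, Polynomial.eval_pow, Polynomial.eval_X, Polynomial.eval_C,
        Ideal.mem_span_singleton, PowerSeries.X_dvd_iff, map_sub, map_pow,
        PowerSeries.constantCoeff_C, ha₀]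
      ring)
    (by
      apply IsUnit.map
      have : Polynomial.eval (PowerSeries.C a₀)
          (Polynomial.derivative (Polynomial.X ^ 2 - Polynomial.C u)) =
          PowerSeries.C (2 * a₀) := by
        rw [Polynomial.derivative_sub, Polynomial.derivative_C, sub_zero,
          Polynomial.derivative_X_pow, Polynomial.eval_mul, Polynomial.eval_C, Polynomial.eval_pow,
          Polynomial.eval_X, map_mul, map_ofNat]
        norm_num
      rw [this]
      exact (isUnit_iff_ne_zero.2 (mul_ne_zero h2 ha₀ne)).map PowerSeries.C)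
  refine ⟨s, ?_⟩
  rw [Polynomial.IsRoot, Polynomial.eval_sub, Polynomial.eval_pow, Polynomial.eval_X,
    Polynomial.eval_C, sub_eq_zero] at hs
  rw [← hs, pow_two]

end Groth.Agent.Helper6.DP
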