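import Mathlib
import Groth.Agent.Helper6.DP4
import Groth.Agent.Helper6.ArS12

set_option autoImplicit false
set_option linter.style.haveILetI false
set_option linter.unusedSectionVars false

/-!
# Double points of plane curves: normal forms and the Hessian criterion
-/

namespace Groth.Agent.Helper6.DP

open MvPowerSeries
open Groth.Agent.Helper6.FormalIFT
open Groth.Agent.Helper6.ArS
open Groth.Agent.Helper6.FormalMorse

universe u

variable (k : Type u) [Field k]

attribute [-instance] PowerSeries.algebraPowerSeries MvPowerSeries.algebraMvPowerSeries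

local notation "PP" => MvPowerSeries (Fin 2) k

theorem cc_vec (Z : PP) (hZ : constantCoeff Z = 0) (i : Fin 2) :
    constantCoeff ((![X 0, Z] : Fin 2 → PP) i) = 0 := by
  fin_cases i
  · exact constantCoeff_X 0
  · exact hZ

theorem det_vec (Z : PP) :
    (linMat (![X 0, Z] : Fin 2 → PP)).det = coeff (Finsupp.single 1 1) Z := by
  rw [linMat_det]
  show coeff (Finsupp.single 0 1) (X 0 : PP) * coeff (Finsupp.single 1 1) Z -
    coeff (Finsupp.single 1 1) (X 0 : PP) * coeff (Finsupp.single 0 1) Z = _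
  rw [coeff_index_single_X, coeff_index_single_X, if_pos rfl, if_neg (by decide), one_mul,
    zero_mul, sub_zero]

/-- The automorphism `x ↦ x`, `y ↦ Z`. -/
noncomputable def shearEquiv (Z : PP) (hZ : constantCoeff Z = 0)
    (hdet : coeff (Finsupp.single 1 1) Z ≠ 0) : PP ≃ₐ[k] PP :=
  substEquiv k ![X 0, Z] (cc_vec k Z hZ) (by
    rw [det_vec]
    exact isUnit_iff_ne_zero.2 hdet)

theorem shearEquiv_X0 (Z : PP) (hZ : constantCoeff Z = 0)
    (hdet : coeff (Finsupp.single 1 1) Z ≠ 0) : shearEquiv k Z hZ hdet (X 0) = X 0 := by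
  unfold shearEquiv
  rw [substEquiv_X]
  rfl

theorem shearEquiv_X1 (Z : PP) (hZ : constantCoeff Z = 0)
    (hdet : coeff (Finsupp.single 1 1) Z ≠ 0) : shearEquiv k Z hZ hdet (X 1) = Z := by
  unfold shearEquiv
  rw [substEquiv_X]
  rfl

theorem shearEquiv_iota (Z : PP) (hZ : constantCoeff Z = 0)
    (hdet : coeff (Finsupp.single 1 1) Z ≠ 0) (p : PowerSeries k) :
    shearEquiv k Z hZ hdet (iota k p) = iota k p := by
  unfold shearEquiv
  rw [substEquiv_apply]
  exact subst_iota k _ (cc_vec k Z hZ) rfl p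

/-- Normal form of a Weierstrass polynomial of degree two. -/
theorem equiv_of_weier [IsAlgClosed k] (h2 : (2 : k) ≠ 0) (b c : PowerSeries k)
    (hb : PowerSeries.constantCoeff b = 0) (hc : PowerSeries.constantCoeff c = 0) :
    (∃ n : ℕ, Nonempty ((PP ⧸ Ideal.span {X 1 ^ 2 + iota k b * X 1 + iota k c}) ≃ₐ[k]
        ArSing.ring k n)) ∨
      Nonempty ((PP ⧸ Ideal.span {X 1 ^ 2 + iota k b * X 1 + iota k c}) ≃ₐ[k]
        (PP ⧸ Ideal.span {(X 1 ^ 2 : PP)})) := by
  obtain ⟨b₂, hb₂⟩ : ∃ b₂, b₂ = PowerSeries.C (2⁻¹ : k) * b := ⟨_, rfl⟩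
  have hbb : b₂ + b₂ = b := by
    rw [hb₂, ← add_mul, ← map_add, ← two_mul, mul_inv_cancel₀ h2, map_one, one_mul]
  have hb₂0 : PowerSeries.constantCoeff b₂ = 0 := by
    rw [hb₂, map_mul, hb, mul_zero]
  have hBB : iota k b₂ + iota k b₂ = iota k b := by
    rw [← map_add, hbb]
  have hZ0 : constantCoeff (X 1 + iota k b₂ : PP) = 0 := by
    rw [map_add, constantCoeff_X, constantCoeff_iota, hb₂0, add_zero]
  have hZ1 : coeff (Finsupp.single 1 1) (X 1 + iota k b₂ : PP) = 1 := by
    rw [map_add, coeff_index_single_X, if_pos rfl, coeff_iota_single_one k b₂ hb₂0, add_zero]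
  by_cases hd : b₂ * b₂ - c = 0
  · right
    have hc' : iota k c = iota k b₂ * iota k b₂ := by
      rw [← map_mul]
      congr 1
      exact (sub_eq_zero.1 hd).symm
    obtain ⟨e⟩ := quot_equiv_of_map k
      (shearEquiv k (X 1 + iota k b₂) hZ0 (by rw [hZ1]; exact one_ne_zero))
      (X 1 ^ 2) (X 1 ^ 2 + iota k b * X 1 + iota k c) 1 isUnit_one (by
        rw [map_pow, shearEquiv_X1, one_mul, hc', ← hBB]
        ring)
    exact ⟨e.symm⟩
  · left
    obtain ⟨m, u, hu, hdm⟩ := exists_X_pow_mul_unit k (b₂ * b₂ - c) hd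
    have hucc : PowerSeries.constantCoeff u ≠ 0 :=
      isUnit_iff_ne_zero.1 (PowerSeries.isUnit_iff_constantCoeff.1 hu)
    have hdcc : PowerSeries.constantCoeff (b₂ * b₂ - c) = 0 := by
      rw [map_sub, map_mul, hb₂0, hc, mul_zero, sub_zero]
    obtain ⟨m', rfl⟩ : ∃ m', m = m' + 1 := by
      rcases m with _ | m'
      · exfalso
        rw [hdm, pow_zero, one_mul] at hdcc
        exact hucc hdcc
      · exact ⟨m', rfl⟩
    obtain ⟨s, hs⟩ := exists_sqrt k h2 u hucc
    have hscc : PowerSeries.constantCoeff s ≠ 0 := by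
      intro h
      apply hucc
      rw [← hs, map_mul, h, mul_zero]
    have hsu : IsUnit s := PowerSeries.isUnit_iff_constantCoeff.2 (isUnit_iff_ne_zero.2 hscc)
    obtain ⟨s', hss'⟩ := hsu.exists_right_inv
    have hs'cc : PowerSeries.constantCoeff s' ≠ 0 := by
      intro h
      have := congrArg PowerSeries.constantCoeff hss'
      rw [map_mul, h, mul_zero, map_one] at this
      exact zero_ne_one this
    have hs'u : IsUnit s' :=
      PowerSeries.isUnit_iff_constantCoeff.2 (isUnit_iff_ne_zero.2 hs'cc)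
    have hSS' : iota k s * iota k s' = 1 := by
      rw [← map_mul, hss', map_one]
    have hD : iota k b₂ * iota k b₂ - iota k c = X 0 ^ (m' + 1) * (iota k s * iota k s) := by
      have := congrArg (iota k) hdm
      rw [← hs] at this
      simp only [map_sub, map_mul, map_pow] at this
      rw [iota_X] at this
      exact this
    have hZ0' : constantCoeff (iota k s' * (X 1 + iota k b₂) : PP) = 0 := by
      rw [map_mul, hZ0, mul_zero]
    have hZ1' : coeff (Finsupp.single 1 1) (iota k s' * (X 1 + iota k b₂) : PP) ≠ 0 := by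
      rw [lin_mul k _ _ hZ0, hZ1, mul_one, constantCoeff_iota]
      exact hs'cc
    obtain ⟨e⟩ := quot_equiv_of_map k (shearEquiv k _ hZ0' hZ1') (ArSing.eqn k m')
      (X 1 ^ 2 + iota k b * X 1 + iota k c) (iota k s' ^ 2) ((hs'u.map (iota k)).pow 2) (by
        unfold ArSing.eqn
        rw [map_sub, map_pow, map_pow, shearEquiv_X1, shearEquiv_X0, ← hBB]
        linear_combination (iota k s' ^ 2) * hD + (X 0 ^ (m' + 1) * (iota k s * iota k s' + 1)) * hSS')
    exact ⟨m', ⟨e.symm⟩⟩

/-- A germ of multiplicity at most two is an `A_n` germ or a double line. -/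
theorem equiv_of_low [IsAlgClosed k] (h2 : (2 : k) ≠ 0) (F : PP) (h0 : constantCoeff F = 0)
    (h : (∃ i : Fin 2, coeff (Finsupp.single i 1) F ≠ 0) ∨
      ∃ i j : Fin 2, coeff (Finsupp.single i 1 + Finsupp.single j 1) F ≠ 0) :
    (∃ n : ℕ, Nonempty ((PP ⧸ Ideal.span {F}) ≃ₐ[k] ArSing.ring k n)) ∨
      Nonempty ((PP ⧸ Ideal.span {F}) ≃ₐ[k] (PP ⧸ Ideal.span {(X 1 ^ 2 : PP)})) := by
  by_cases hlin : ∃ i : Fin 2, coeff (Finsupp.single i 1) F ≠ 0
  · obtain ⟨i, hi⟩ := hlin
    exact Or.inl ⟨0, equiv_A0_of_lin k F h0 i hi⟩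
  · have hq := h.resolve_left hlin
    push Not at hlin
    obtain ⟨F', ⟨e1⟩, hc0, hc1, hc2⟩ := exists_shear k h2 F h0 hlin hq
    obtain ⟨b, c, U, hb, hc, hU, hF'⟩ := weier k F' hc0 hc1 hc2
    obtain ⟨e2⟩ := quot_equiv_of_map k AlgEquiv.refl F'
      (X 1 ^ 2 + iota k b * X 1 + iota k c) U hU (by
        show F' = _
        exact hF'.trans (mul_comm _ _))
    rcases equiv_of_weier k h2 b c hb hc with ⟨n, ⟨e3⟩⟩ | ⟨⟨e3⟩⟩
    · exact Or.inl ⟨n, ⟨(e1.trans e2).trans e3⟩⟩
    · exact Or.inr ⟨(e1.trans e2).trans e3⟩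

theorem order_three_iff (F : PP) : ((3 : ℕ) : ℕ∞) ≤ F.order ↔
    constantCoeff F = 0 ∧ (∀ i : Fin 2, coeff (Finsupp.single i 1) F = 0) ∧
      ∀ i j : Fin 2, coeff (Finsupp.single i 1 + Finsupp.single j 1) F = 0 := by
  constructor
  · intro h
    have hco : ∀ e : Fin 2 →₀ ℕ, e.degree < 3 → coeff e F = 0 := by
      intro e he
      apply coeff_of_lt_order
      exact lt_of_lt_of_le (by exact_mod_cast he) h
    refine ⟨?_, fun i => hco _ ?_, fun i j => hco _ ?_⟩
    · rw [← coeff_zero_eq_constantCoeff_apply]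
      exact hco 0 (by rw [map_zero]; norm_num)
    · rw [Finsupp.degree_single]
      norm_num
    · rw [map_add, Finsupp.degree_single, Finsupp.degree_single]
      norm_num
  · rintro ⟨h0, h1, h2'⟩
    apply nat_le_order
    intro e he
    rcases Nat.lt_or_ge e.degree 2 with hlt2 | hge2
    · rcases Nat.lt_or_ge e.degree 1 with hlt1 | hge1
      · have : e = 0 := (Finsupp.degree_eq_zero_iff e).mp (by omega)
        subst this
        rw [coeff_zero_eq_constantCoeff_apply, h0]
      · have : e ∈ Set.range (fun a : Fin 2 => Finsupp.single a 1) := by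
          rw [Finsupp.range_single_one]
          show e.degree = 1
          omega
        obtain ⟨i, rfl⟩ := this
        exact h1 i
    · obtain ⟨i, j, hij, rfl⟩ := exists_pair_of_degree_two e (by omega)
      exact h2' i j

section Taylor

variable {k}

/-- Recentring a polynomial at the point `a`. -/
noncomputable abbrev shift (a : Fin 2 → k) : MvPolynomial (Fin 2) k →ₐ[k] MvPolynomial (Fin 2) k :=
  MvPolynomial.aeval (fun i : Fin 2 => MvPolynomial.X i + MvPolynomial.C (a i))

theorem coeff_zero_shift (a : Fin 2 → k) (p : MvPolynomial (Fin 2) k) :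
    MvPolynomial.coeff 0 (shift a p) = MvPolynomial.eval a p := by
  have h : (MvPolynomial.constantCoeff.comp (shift a).toRingHom) = MvPolynomial.eval a := by
    apply MvPolynomial.ringHom_ext
    · intro r
      simp
    · intro i
      simp
  exact RingHom.congr_fun h p

theorem pderiv_shift (a : Fin 2 → k) (i : Fin 2) (p : MvPolynomial (Fin 2) k) :
    MvPolynomial.pderiv i (shift a p) = shift a (MvPolynomial.pderiv i p) := by
  induction p using MvPolynomial.induction_on with
  | C r => simp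
  | add p q hp hq => simp only [map_add, hp, hq]
  | mul_X p j hp =>
    by_cases hij : j = i
    · subst hij
      simp only [map_mul, Derivation.leibniz, map_add, smul_eq_mul, hp, MvPolynomial.aeval_X,
        MvPolynomial.pderiv_X_self, MvPolynomial.pderiv_C, add_zero, mul_one]
    · simp only [map_mul, Derivation.leibniz, map_add, smul_eq_mul, hp, MvPolynomial.aeval_X,
        MvPolynomial.pderiv_X_of_ne hij, MvPolynomial.pderiv_C, add_zero, mul_zero, zero_add]

theorem eval_pderiv_eq (a : Fin 2 → k) (f : MvPolynomial (Fin 2) k) (i : Fin 2) :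
    MvPolynomial.eval a (MvPolynomial.pderiv i f) =
      MvPolynomial.coeff (Finsupp.single i 1) (shift a f) := by
  rw [← coeff_zero_shift, ← pderiv_shift, MvPolynomial.coeff_pderiv]
  simp

theorem eval_pderiv_pderiv_eq (a : Fin 2 → k) (f : MvPolynomial (Fin 2) k) (i j : Fin 2) :
    MvPolynomial.eval a (MvPolynomial.pderiv i (MvPolynomial.pderiv j f)) =
      MvPolynomial.coeff (Finsupp.single i 1 + Finsupp.single j 1) (shift a f) *
        (((Finsupp.single i 1 : Fin 2 →₀ ℕ) j : k) + 1) := by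
  rw [← coeff_zero_shift, ← pderiv_shift, ← pderiv_shift, MvPolynomial.coeff_pderiv,
    MvPolynomial.coeff_pderiv]
  simp

theorem factor_ne_zero (h2 : (2 : k) ≠ 0) (i j : Fin 2) :
    (((Finsupp.single i 1 : Fin 2 →₀ ℕ) j : k) + 1) ≠ 0 := by
  rw [Finsupp.single_apply]
  split_ifs
  · rw [Nat.cast_one, one_add_one_eq_two]
    exact h2
  · rw [Nat.cast_zero, zero_add]
    exact one_ne_zero

end Taylor

/-- The Hessian criterion for double points of plane curves. -/
theorem main [IsAlgClosed k] (h2 : (2 : k) ≠ 0) (f : MvPolynomial (Fin 2) k) (a : Fin 2 → k)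
    (hfa : MvPolynomial.eval a f = 0) :
    ((∀ i : Fin 2, MvPolynomial.eval a (MvPolynomial.pderiv i f) = 0) ∧
      ∀ i j : Fin 2, MvPolynomial.eval a (MvPolynomial.pderiv i (MvPolynomial.pderiv j f)) = 0) ↔
    ¬ ((∃ n : ℕ, Nonempty ((MvPowerSeries (Fin 2) k ⧸ Ideal.span
        ({(MvPolynomial.aeval (fun i : Fin 2 => MvPolynomial.X i + MvPolynomial.C (a i)) f).toMvPowerSeries} :
          Set (MvPowerSeries (Fin 2) k))) ≃ₐ[k] ArSing.ring k n)) ∨
        Nonempty ((MvPowerSeries (Fin 2) k ⧸ Ideal.span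
        ({(MvPolynomial.aeval (fun i : Fin 2 => MvPolynomial.X i + MvPolynomial.C (a i)) f).toMvPowerSeries} :
          Set (MvPowerSeries (Fin 2) k))) ≃ₐ[k]
          (MvPowerSeries (Fin 2) k ⧸ Ideal.span ({MvPowerSeries.X 1 ^ 2} : Set (MvPowerSeries (Fin 2) k))))) := by
  obtain ⟨F, hF⟩ : ∃ F : PP, F =
      (MvPolynomial.aeval (fun i : Fin 2 => MvPolynomial.X i + MvPolynomial.C (a i)) f).toMvPowerSeries :=
    ⟨_, rfl⟩
  rw [← hF]
  have hF0 : constantCoeff F = 0 := by
    rw [hF, ← coeff_zero_eq_constantCoeff_apply, MvPolynomial.coeff_coe]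
    exact (coeff_zero_shift a f).trans hfa
  have hF1 : ∀ i : Fin 2, coeff (Finsupp.single i 1) F =
      MvPolynomial.eval a (MvPolynomial.pderiv i f) := by
    intro i
    rw [hF, MvPolynomial.coeff_coe]
    exact (eval_pderiv_eq a f i).symm
  have hF2 : ∀ i j : Fin 2,
      MvPolynomial.eval a (MvPolynomial.pderiv i (MvPolynomial.pderiv j f)) = 0 ↔
      coeff (Finsupp.single i 1 + Finsupp.single j 1) F = 0 := by
    intro i j
    rw [hF, MvPolynomial.coeff_coe, eval_pderiv_pderiv_eq, mul_eq_zero]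
    constructor
    · intro h
      exact h.resolve_right (factor_ne_zero h2 i j)
    · intro h
      exact Or.inl h
  constructor
  · rintro ⟨h1, h2'⟩
    apply no_equiv_of_order k F
    rw [order_three_iff]
    exact ⟨hF0, fun i => (hF1 i).trans (h1 i), fun i j => (hF2 i j).1 (h2' i j)⟩
  · intro h
    by_contra hne
    apply h
    apply equiv_of_low k h2 F hF0
    by_contra hno
    push Not at hno
    apply hne
    exact ⟨fun i => (hF1 i).symm.trans (hno.1 i), fun i j => (hF2 i j).2 (hno.2 i j)⟩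

end Groth.Agent.Helper6.DP
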