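import Mathlib
import Groth.Agent.Helper6.DP5
import Groth.Agent.Helper6.FormalDiv

set_option autoImplicit false
set_option linter.style.haveILetI false
set_option linter.unusedSectionVars false

/-!
# Lifting isomorphisms of quotients of `k[[x, y]]` to automorphisms
-/

namespace Groth.Agent.Helper6.DP

open MvPowerSeries
open Groth.Agent.Helper6.FormalIFT
open Groth.Agent.Helper6.ArS
open Groth.Agent.Helper6.FormalMorse

universe u

variable (k : Type u) [Field k]

attribute [-instance] PowerSeries.algebraPowerSeries MvPowerSeries.algebraMvPowerSeries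

local notation "PP" => MvPowerSeries (Fin 2) k

/-- Order at least `j` implies membership in the `j`-th power of the maximal ideal. -/
theorem ordIdeal_le_pow (j : ℕ) : ordIdeal k j ≤ IsLocalRing.maximalIdeal PP ^ j := by
  induction j with
  | zero =>
    rw [pow_zero, Ideal.one_eq_top]
    exact le_top
  | succ j ih =>
    intro A hA
    obtain ⟨c, hc, hAc⟩ := exists_eq_sum_X_mul A j hA
    rw [hAc, pow_succ']
    apply Ideal.sum_mem
    intro i _
    exact Ideal.mul_mem_mul (X_mem k i) (ih (hc i))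

theorem span_le_maximalIdeal (F : PP) (hF : constantCoeff F = 0) :
    Ideal.span {F} ≤ IsLocalRing.maximalIdeal PP := by
  rw [Ideal.span_le, Set.singleton_subset_iff, SetLike.mem_coe, mem_maximalIdeal_iff_field]
  exact hF

theorem constantCoeff_of_mk_mem_nu (F A : PP) (hF : constantCoeff F = 0)
    (h : Ideal.Quotient.mk (Ideal.span {F}) A ∈ nu (PP ⧸ Ideal.span {F})) :
    constantCoeff A = 0 := by
  rw [nu_quot k F hF, Ideal.mem_quotient_iff_mem_sup] at h
  have := (sup_le le_rfl (span_le_maximalIdeal k F hF)) h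
  rwa [mem_maximalIdeal_iff_field] at this

theorem nu_ne_top (F : PP) (hF : constantCoeff F = 0) : nu (PP ⧸ Ideal.span {F}) ≠ ⊤ := by
  intro h
  have h1 : Ideal.Quotient.mk (Ideal.span {F}) (1 : PP) ∈ nu (PP ⧸ Ideal.span {F}) := by
    rw [h]
    trivial
  have := constantCoeff_of_mk_mem_nu k F 1 hF h1
  rw [map_one] at this
  exact one_ne_zero this

theorem C_eq_algebraMap' (c : k) : (C c : PP) = algebraMap k PP c := by
  rw [MvPowerSeries.algebraMap_apply]
  rfl

/-- Algebra maps out of `k[[x, y]]` are local. -/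
theorem algHom_local (F : PP) (hF : constantCoeff F = 0)
    (χ : PP →ₐ[k] (PP ⧸ Ideal.span {F})) (A : PP) (hA : constantCoeff A = 0) :
    χ A ∈ nu (PP ⧸ Ideal.span {F}) := by
  obtain ⟨Z, hZ⟩ := Ideal.Quotient.mk_surjective (χ A)
  obtain ⟨c, hc⟩ : ∃ c, c = constantCoeff Z := ⟨_, rfl⟩
  have h1 : Ideal.Quotient.mk (Ideal.span {F}) (Z - C c) ∈ nu (PP ⧸ Ideal.span {F}) := by
    apply mk_mem_nu k F _ hF
    rw [map_sub, constantCoeff_C, hc, sub_self]
  have h2 : χ (A - C c) = Ideal.Quotient.mk (Ideal.span {F}) (Z - C c) := by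
    rw [map_sub, map_sub, hZ, C_eq_algebraMap', AlgHom.commutes, Ideal.Quotient.mk_algebraMap]
  by_cases hc0 : c = 0
  · rw [← hZ]
    apply mk_mem_nu k F _ hF
    rw [← hc, hc0]
  · exfalso
    have hu : IsUnit (A - C c) := by
      rw [MvPowerSeries.isUnit_iff_constantCoeff, map_sub, hA, constantCoeff_C, zero_sub]
      exact isUnit_iff_ne_zero.2 (neg_ne_zero.2 hc0)
    have hu' : IsUnit (χ (A - C c)) := hu.map χ
    rw [h2] at hu'
    exact nu_ne_top k F hF (Ideal.eq_top_of_isUnit_mem _ h1 hu')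

/-- Algebra maps out of `k[[x, y]]` into a quotient are determined by the images of the
variables. -/
theorem algHom_ext_X (F : PP) (hF : constantCoeff F = 0)
    (χ₁ χ₂ : PP →ₐ[k] (PP ⧸ Ideal.span {F})) (h : ∀ i : Fin 2, χ₁ (X i) = χ₂ (X i)) :
    χ₁ = χ₂ := by
  haveI : Nontrivial (PP ⧸ Ideal.span {F}) := by
    rw [Ideal.Quotient.nontrivial_iff]
    intro htop
    have : (1 : PP) ∈ Ideal.span {F} := by
      rw [htop]
      trivial
    have := span_le_maximalIdeal k F hF this
    rw [mem_maximalIdeal_iff_field, map_one] at this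
    exact one_ne_zero this
  haveI : IsLocalRing (PP ⧸ Ideal.span {F}) :=
    IsLocalRing.of_surjective' (Ideal.Quotient.mk (Ideal.span {F})) Ideal.Quotient.mk_surjective
  have hK : ⨅ i : ℕ, nu (PP ⧸ Ideal.span {F}) ^ i = ⊥ :=
    Ideal.iInf_pow_eq_bot_of_isLocalRing _ (nu_ne_top k F hF)
  have hpoly : ∀ P : MvPolynomial (Fin 2) k, χ₁ (P : PP) = χ₂ (P : PP) := by
    intro P
    induction P using MvPolynomial.induction_on with
    | C r =>
      rw [MvPolynomial.coe_C, C_eq_algebraMap', AlgHom.commutes, AlgHom.commutes]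
    | add p q hp hq =>
      rw [MvPolynomial.coe_add, map_add, map_add, hp, hq]
    | mul_X p i hp =>
      rw [MvPolynomial.coe_mul, MvPolynomial.coe_X, map_mul, map_mul, hp, h i]
  have hmap : ∀ (χ : PP →ₐ[k] (PP ⧸ Ideal.span {F})) (j : ℕ) (A : PP),
      A ∈ ordIdeal k j → χ A ∈ nu (PP ⧸ Ideal.span {F}) ^ j := by
    intro χ j A hA
    have h1 : Ideal.map χ (IsLocalRing.maximalIdeal PP) ≤ nu (PP ⧸ Ideal.span {F}) := by
      rw [Ideal.map_le_iff_le_comap]
      intro B hB
      rw [mem_maximalIdeal_iff_field] at hB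
      exact algHom_local k F hF χ B hB
    have h2 : χ A ∈ Ideal.map χ (IsLocalRing.maximalIdeal PP ^ j) :=
      Ideal.mem_map_of_mem _ (ordIdeal_le_pow k j hA)
    rw [Ideal.map_pow] at h2
    exact Ideal.pow_right_mono h1 j h2
  ext A
  rw [← sub_eq_zero, ← Ideal.mem_bot, ← hK, Ideal.mem_iInf]
  intro j
  obtain ⟨R, hR⟩ : ∃ R : PP, R = A - ((truncTotal j A : MvPolynomial (Fin 2) k) : PP) :=
    ⟨_, rfl⟩
  have hRm : R ∈ ordIdeal k j := by
    rw [mem_ordIdeal]
    apply nat_le_order
    intro d hd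
    rw [hR, map_sub, MvPolynomial.coeff_coe, coeff_truncTotal _ hd, sub_self]
  have hA : A = ((truncTotal j A : MvPolynomial (Fin 2) k) : PP) + R := by
    rw [hR]
    ring
  have e1 : χ₁ A - χ₂ A = χ₁ R - χ₂ R := by
    conv_lhs => rw [hA, map_add, map_add, hpoly]
    ring
  rw [e1]
  exact Ideal.sub_mem _ (hmap χ₁ j R hRm) (hmap χ₂ j R hRm)

/-- A criterion for invertibility of the linear part. -/
theorem det_of_sup (Y : Fin 2 → PP) (hY : ∀ i, constantCoeff (Y i) = 0) (F : PP)
    (hF0 : constantCoeff F = 0) (hF1 : ∀ i : Fin 2, coeff (Finsupp.single i 1) F = 0)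
    (h : ∀ j : Fin 2, X j ∈ Ideal.span (Set.range Y) ⊔ Ideal.span {F}) :
    IsUnit (linMat Y).det := by
  have hX : ∀ j : Fin 2, ∃ (c : Fin 2 → PP) (T : PP), ∑ i, c i * Y i + T * F = X j := by
    intro j
    obtain ⟨s, hs, t, ht, hst⟩ := Submodule.mem_sup.1 (h j)
    obtain ⟨c, hc⟩ := Ideal.mem_span_range_iff_exists_fun.1 hs
    obtain ⟨T, hT⟩ := Ideal.mem_span_singleton'.1 ht
    exact ⟨c, T, by rw [hc, hT, hst]⟩
  choose c T hc using hX
  have hmat : (Matrix.of fun j i => constantCoeff (c j i)) * linMat Y = 1 := by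
    ext j k'
    rw [Matrix.mul_apply, Matrix.one_apply]
    have := congrArg (coeff (Finsupp.single k' 1)) (hc j)
    rw [map_add, map_sum, coeff_index_single_X, lin_mul k _ _ hF0, hF1, mul_zero, add_zero]
      at this
    simp_rw [lin_mul k _ _ (hY _)] at this
    have e1 : ∑ i, (Matrix.of fun j i => constantCoeff (c j i)) j i * linMat Y i k' =
        ∑ i, constantCoeff (c j i) * coeff (Finsupp.single k' 1) (Y i) := rfl
    rw [e1, this]
    by_cases hjk : j = k'
    · subst hjk
      simp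
    · rw [if_neg hjk, if_neg (fun h => hjk h.symm)]
  exact Matrix.isUnit_det_of_left_inverse hmat

theorem constantCoeff_subst_of (Y : Fin 2 → PP) (hY : ∀ i, constantCoeff (Y i) = 0) (W : PP) :
    constantCoeff (subst Y W) = constantCoeff W := by
  have HY : HasSubst Y := hasSubst_of_constantCoeff_zero hY
  have e : W = C (constantCoeff W) + (W - C (constantCoeff W)) := by ring
  have h0 : constantCoeff (W - C (constantCoeff W)) = 0 := by
    rw [map_sub, constantCoeff_C, sub_self]
  conv_lhs => rw [e, subst_add HY, subst_C, map_add, constantCoeff_C,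
    constantCoeff_subst_eq_zero HY hY h0, add_zero]

theorem subst_mem_span (Y : Fin 2 → PP) (hY : ∀ i, constantCoeff (Y i) = 0) (W : PP)
    (hW : constantCoeff W = 0) : subst Y W ∈ Ideal.span (Set.range Y) := by
  have HY : HasSubst Y := hasSubst_of_constantCoeff_zero hY
  have e2 := eq_sum_X_mul_divX W hW
  rw [e2, ← coe_substAlgHom HY, map_sum]
  apply Ideal.sum_mem
  intro j _
  rw [map_mul, coe_substAlgHom HY, subst_X HY]
  exact Ideal.mul_mem_right _ _ (Ideal.subset_span ⟨j, rfl⟩)

/-- An isomorphism of quotients of `k[[x, y]]` by singular germs lifts to an automorphism. -/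
theorem lift_equiv (F G : PP) (hF0 : constantCoeff F = 0)
    (hF1 : ∀ i : Fin 2, coeff (Finsupp.single i 1) F = 0) (hG0 : constantCoeff G = 0)
    (e : (PP ⧸ Ideal.span {G}) ≃ₐ[k] (PP ⧸ Ideal.span {F})) :
    ∃ Φ : PP ≃ₐ[k] PP, Ideal.span {Φ G} = Ideal.span {F} ∧
      (∀ i, constantCoeff (Φ (X i)) = 0) ∧ IsUnit (linMat (fun i => Φ (X i))).det := by
  have hξ : ∀ i : Fin 2, ∃ Yi : PP, Ideal.Quotient.mk (Ideal.span {F}) Yi =
      e (Ideal.Quotient.mk (Ideal.span {G}) (X i)) := fun i => Ideal.Quotient.mk_surjective _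
  choose Y hY using hξ
  have hY0 : ∀ i, constantCoeff (Y i) = 0 := by
    intro i
    apply constantCoeff_of_mk_mem_nu k F _ hF0
    rw [hY i]
    have h1 := mk_mem_nu k G (X i) hG0 (constantCoeff_X i)
    have h3 : e.toRingEquiv (Ideal.Quotient.mk (Ideal.span {G}) (X i)) ∈
        Ideal.map e.toRingEquiv (nu (PP ⧸ Ideal.span {G})) := Ideal.mem_map_of_mem _ h1
    rw [map_nu] at h3
    exact h3
  have HY : HasSubst Y := hasSubst_of_constantCoeff_zero hY0
  have hχ : (Ideal.Quotient.mkₐ k (Ideal.span {F})).comp (substAlgHom HY) =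
      (e : (PP ⧸ Ideal.span {G}) →ₐ[k] (PP ⧸ Ideal.span {F})).comp
        (Ideal.Quotient.mkₐ k (Ideal.span {G})) := by
    apply algHom_ext_X k F hF0
    intro i
    rw [AlgHom.comp_apply, AlgHom.comp_apply, coe_substAlgHom, subst_X HY,
      Ideal.Quotient.mkₐ_eq_mk, Ideal.Quotient.mkₐ_eq_mk, hY i]
    rfl
  have hcomm : ∀ Z : PP, Ideal.Quotient.mk (Ideal.span {F}) (subst Y Z) =
      e (Ideal.Quotient.mk (Ideal.span {G}) Z) := by
    intro Z
    have := AlgHom.congr_fun hχ Z
    rw [AlgHom.comp_apply, AlgHom.comp_apply, coe_substAlgHom, Ideal.Quotient.mkₐ_eq_mk,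
      Ideal.Quotient.mkₐ_eq_mk] at this
    exact this
  have hsup : ∀ j : Fin 2, X j ∈ Ideal.span (Set.range Y) ⊔ Ideal.span {F} := by
    intro j
    obtain ⟨w, hw⟩ := e.surjective (Ideal.Quotient.mk (Ideal.span {F}) (X j))
    obtain ⟨W, rfl⟩ := Ideal.Quotient.mk_surjective w
    rw [← hcomm W, Ideal.Quotient.eq, Ideal.mem_span_singleton'] at hw
    obtain ⟨T, hT⟩ := hw
    have hW0 : constantCoeff W = 0 := by
      have := congrArg constantCoeff hT
      rw [map_mul, hF0, mul_zero, map_sub, constantCoeff_subst_of k Y hY0, constantCoeff_X,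
        sub_zero] at this
      exact this.symm
    have e1 : X j = subst Y W - T * F := by
      rw [hT]
      ring
    rw [e1]
    apply Ideal.sub_mem
    · exact Ideal.mem_sup_left (subst_mem_span k Y hY0 W hW0)
    · exact Ideal.mem_sup_right (Ideal.mul_mem_left _ _ (Ideal.subset_span rfl))
  have hdet := det_of_sup k Y hY0 F hF0 hF1 hsup
  have hlast : IsUnit (linMat (fun i => substEquiv k Y hY0 hdet (X i))).det := by
    have : (fun i => substEquiv k Y hY0 hdet (X i)) = Y :=
      funext (fun i => substEquiv_X k Y hY0 hdet i)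
    rw [this]
    exact hdet
  refine ⟨substEquiv k Y hY0 hdet, ?_, fun i => by rw [substEquiv_X]; exact hY0 i, hlast⟩
  have hΦ : ∀ Z : PP, Ideal.Quotient.mk (Ideal.span {F}) (substEquiv k Y hY0 hdet Z) =
      e (Ideal.Quotient.mk (Ideal.span {G}) Z) := by
    intro Z
    rw [substEquiv_apply]
    exact hcomm Z
  apply le_antisymm
  · rw [Ideal.span_le, Set.singleton_subset_iff, SetLike.mem_coe,
      ← Ideal.Quotient.eq_zero_iff_mem, hΦ]
    have : Ideal.Quotient.mk (Ideal.span {G}) G = 0 :=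
      Ideal.Quotient.eq_zero_iff_mem.2 (Ideal.subset_span rfl)
    rw [this, map_zero]
  · rw [Ideal.span_le, Set.singleton_subset_iff, SetLike.mem_coe]
    have h1 : Ideal.Quotient.mk (Ideal.span {G}) ((substEquiv k Y hY0 hdet).symm F) = 0 := by
      apply e.injective
      rw [← hΦ, AlgEquiv.apply_symm_apply, map_zero]
      exact Ideal.Quotient.eq_zero_iff_mem.2 (Ideal.subset_span rfl)
    rw [Ideal.Quotient.eq_zero_iff_mem, Ideal.mem_span_singleton'] at h1
    obtain ⟨S, hS⟩ := h1
    have h2 : F = substEquiv k Y hY0 hdet S * substEquiv k Y hY0 hdet G := by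
      rw [← map_mul, hS, AlgEquiv.apply_symm_apply]
    rw [h2]
    exact Ideal.mul_mem_left _ _ (Ideal.subset_span rfl)

end Groth.Agent.Helper6.DP
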