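import Mathlib
import Groth.Agent.Helper6.DP6

set_option autoImplicit false
set_option linter.style.haveILetI false
set_option linter.unusedSectionVars false

/-!
# Regular parameters of `k[[x, y]]` are prime
-/

namespace Groth.Agent.Helper6.DP

open MvPowerSeries
open Groth.Agent.Helper6.FormalIFT
open Groth.Agent.Helper6.ArS
open Groth.Agent.Helper6.FormalMorse

universe u

variable (k : Type u) [Field k]

attribute [-instance] PowerSeries.algebraPowerSeries MvPowerSeries.algebraMvPowerSeries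

local notation "PP" => MvPowerSeries (Fin 2) k

theorem rho0_eq_zero_iff (G : PP) : rho0 k G = 0 ↔ X 0 ∣ G := by
  rw [X_dvd_iff]
  constructor
  · intro h m hm
    have hm' : m = Finsupp.single 1 (m 1) := by
      ext i
      fin_cases i
      · show m 0 = (Finsupp.single (1 : Fin 2) (m 1)) 0
        rw [hm, Finsupp.single_eq_of_ne (by decide)]
      · show m 1 = (Finsupp.single (1 : Fin 2) (m 1)) 1
        rw [Finsupp.single_eq_same]
    rw [hm', ← coeff_rho0, h, map_zero]
  · intro h
    ext n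
    rw [coeff_rho0, map_zero]
    exact h _ (Finsupp.single_eq_of_ne (by decide))

theorem X0_prime : Prime (X 0 : PP) := by
  refine ⟨?_, ?_, ?_⟩
  · intro h
    have := congrArg (coeff (Finsupp.single 0 1)) h
    rw [coeff_index_single_X, if_pos rfl, map_zero] at this
    exact one_ne_zero this
  · rw [MvPowerSeries.isUnit_iff_constantCoeff, constantCoeff_X]
    exact not_isUnit_zero
  · intro a b hab
    rw [← rho0_eq_zero_iff, map_mul, mul_eq_zero] at hab
    rcases hab with h | h
    · exact Or.inl ((rho0_eq_zero_iff k a).1 h)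
    · exact Or.inr ((rho0_eq_zero_iff k b).1 h)

/-- The swap of the two variables. -/
noncomputable def swapEquiv : PP ≃ₐ[k] PP :=
  substEquiv k ![X 1, X 0]
    (by
      intro i
      fin_cases i
      · exact constantCoeff_X 1
      · exact constantCoeff_X 0)
    (by
      rw [linMat_det]
      show IsUnit (coeff (Finsupp.single 0 1) (X 1 : PP) * coeff (Finsupp.single 1 1) (X 0 : PP) -
        coeff (Finsupp.single 1 1) (X 1 : PP) * coeff (Finsupp.single 0 1) (X 0 : PP))
      rw [coeff_index_single_X, coeff_index_single_X, coeff_index_single_X,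
        coeff_index_single_X, if_neg (by decide), if_neg (by decide), if_pos rfl, if_pos rfl,
        mul_zero, mul_one, zero_sub]
      exact isUnit_one.neg)

theorem swapEquiv_X0 : swapEquiv k (X 0) = X 1 := by
  unfold swapEquiv
  rw [substEquiv_X]
  rfl

theorem swapEquiv_X1 : swapEquiv k (X 1) = X 0 := by
  unfold swapEquiv
  rw [substEquiv_X]
  rfl

theorem exists_auto_X0 (B : PP) (h0 : constantCoeff B = 0) (i : Fin 2)
    (hi : coeff (Finsupp.single i 1) B ≠ 0) : ∃ Φ : PP ≃ₐ[k] PP, Φ (X 0) = B := by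
  obtain ⟨y, hy0, hy, hdet⟩ : ∃ y : Fin 2 → PP, y 0 = B ∧ (∀ j, constantCoeff (y j) = 0) ∧
      IsUnit (linMat y).det := by
    fin_cases i
    · refine ⟨![B, X 1], rfl, ?_, ?_⟩
      · intro j
        fin_cases j
        · exact h0
        · exact constantCoeff_X 1
      · rw [linMat_det]
        show IsUnit (coeff (Finsupp.single 0 1) B * coeff (Finsupp.single 1 1) (X 1 : PP) -
          coeff (Finsupp.single 1 1) B * coeff (Finsupp.single 0 1) (X 1 : PP))
        rw [coeff_index_single_X, coeff_index_single_X, if_pos rfl, if_neg (by decide), mul_one,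
          mul_zero, sub_zero]
        exact isUnit_iff_ne_zero.2 hi
    · refine ⟨![B, X 0], rfl, ?_, ?_⟩
      · intro j
        fin_cases j
        · exact h0
        · exact constantCoeff_X 0
      · rw [linMat_det]
        show IsUnit (coeff (Finsupp.single 0 1) B * coeff (Finsupp.single 1 1) (X 0 : PP) -
          coeff (Finsupp.single 1 1) B * coeff (Finsupp.single 0 1) (X 0 : PP))
        rw [coeff_index_single_X, coeff_index_single_X, if_pos rfl, if_neg (by decide), mul_one,
          mul_zero, zero_sub]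
        exact isUnit_iff_ne_zero.2 (neg_ne_zero.2 hi)
  exact ⟨substEquiv k y hy hdet, by rw [substEquiv_X, hy0]⟩

theorem exists_auto_X1 (B : PP) (h0 : constantCoeff B = 0) (i : Fin 2)
    (hi : coeff (Finsupp.single i 1) B ≠ 0) : ∃ Φ : PP ≃ₐ[k] PP, Φ (X 1) = B := by
  obtain ⟨Φ, hΦ⟩ := exists_auto_X0 k B h0 i hi
  refine ⟨(swapEquiv k).trans Φ, ?_⟩
  rw [AlgEquiv.trans_apply, swapEquiv_X1, hΦ]

/-- Regular parameters are prime elements. -/
theorem prime_of_lin (B : PP) (h0 : constantCoeff B = 0) (i : Fin 2)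
    (hi : coeff (Finsupp.single i 1) B ≠ 0) : Prime B := by
  obtain ⟨Φ, hΦ⟩ := exists_auto_X0 k B h0 i hi
  rw [← hΦ]
  exact (MulEquiv.prime_iff Φ).2 (X0_prime k)

/-- A principal ideal generated by a non-unit is not the maximal ideal. -/
theorem not_both_mem (B : PP) (h0 : constantCoeff B = 0) :
    ¬ ((X 0 : PP) ∈ Ideal.span {B} ∧ (X 1 : PP) ∈ Ideal.span {B}) := by
  rintro ⟨h1, h2⟩
  obtain ⟨c₀, hc₀⟩ := Ideal.mem_span_singleton'.1 h1
  obtain ⟨c₁, hc₁⟩ := Ideal.mem_span_singleton'.1 h2
  have e00 := congrArg (coeff (Finsupp.single 0 1)) hc₀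
  have e10 := congrArg (coeff (Finsupp.single 0 1)) hc₁
  have e11 := congrArg (coeff (Finsupp.single 1 1)) hc₁
  rw [lin_mul k _ _ h0, coeff_index_single_X, if_pos rfl] at e00 e11
  rw [lin_mul k _ _ h0, coeff_index_single_X, if_neg (by decide)] at e10
  have hb0 : coeff (Finsupp.single 0 1) B ≠ 0 := by
    intro h
    rw [h, mul_zero] at e00
    exact zero_ne_one e00
  have hc1 : constantCoeff c₁ = 0 := (mul_eq_zero.1 e10).resolve_right hb0
  rw [hc1, zero_mul] at e11
  exact zero_ne_one e11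

/-- Comparing a product with the square of a prime. -/
theorem unit_analysis (B U T H : PP) (hB : Prime B) (hU : IsUnit U) (hH : ¬ B ∣ H) (e : ℕ)
    (he : 1 ≤ e) (h : B ^ e * T ^ e * H = U * B ^ 2) :
    (e = 2 ∧ IsUnit T ∧ IsUnit H) ∨ (e = 1 ∧ ∃ T', T = B * T' ∧ IsUnit T' ∧ IsUnit H) := by
  have hB0 : B ≠ 0 := hB.ne_zero
  obtain rfl | rfl | h3 : e = 1 ∨ e = 2 ∨ 3 ≤ e := by omega
  · right
    refine ⟨rfl, ?_⟩
    have h' : B * (T * H) = B * (U * B) := by
      rw [pow_one, pow_one] at h
      linear_combination h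
    have h'' : T * H = U * B := mul_left_cancel₀ hB0 h'
    have hdvd : B ∣ T * H := ⟨U, by rw [h'']; ring⟩
    obtain ⟨T', rfl⟩ := (hB.dvd_or_dvd hdvd).resolve_right hH
    refine ⟨T', rfl, ?_⟩
    have h3 : B * (T' * H) = B * U := by linear_combination h''
    have h4 : T' * H = U := mul_left_cancel₀ hB0 h3
    rw [← h4] at hU
    exact ⟨isUnit_of_mul_isUnit_left hU, isUnit_of_mul_isUnit_right hU⟩
  · left
    refine ⟨rfl, ?_⟩
    have h' : B ^ 2 * (T ^ 2 * H) = B ^ 2 * U := by linear_combination h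
    have h'' : T ^ 2 * H = U := mul_left_cancel₀ (pow_ne_zero 2 hB0) h'
    rw [← h''] at hU
    exact ⟨(isUnit_pow_iff two_ne_zero).1 (isUnit_of_mul_isUnit_left hU),
      isUnit_of_mul_isUnit_right hU⟩
  · exfalso
    obtain ⟨e', rfl⟩ : ∃ e', e = e' + 3 := ⟨e - 3, by omega⟩
    have h' : B ^ 2 * (B ^ (e' + 1) * T ^ (e' + 3) * H) = B ^ 2 * U := by
      linear_combination h
    have h'' : B ^ (e' + 1) * T ^ (e' + 3) * H = U := mul_left_cancel₀ (pow_ne_zero 2 hB0) h'
    have hdvd : B ∣ U := ⟨B ^ e' * T ^ (e' + 3) * H, by rw [← h'']; ring⟩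
    exact hB.not_isUnit (isUnit_of_dvd_unit hdvd hU)

theorem dvd_pderiv_of_sq (B T' Z : PP) (h : Z = B ^ 2 * T') (i : Fin 2) :
    B ∣ MvPowerSeries.pderiv k i Z := by
  rw [h, Derivation.leibniz, pow_two, Derivation.leibniz]
  simp only [smul_eq_mul]
  exact ⟨B * MvPowerSeries.pderiv k i T' +
    T' * (MvPowerSeries.pderiv k i B + MvPowerSeries.pderiv k i B), by ring⟩

end Groth.Agent.Helper6.DP
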