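import Mathlib
import Groth.Agent.Helper6.DP7

set_option autoImplicit false
set_option linter.style.haveILetI false
set_option linter.unusedSectionVars false

/-!
# Double lines: germs of plane curves isomorphic to `y^2 = 0`
-/

namespace Groth.Agent.Helper6.DP

open MvPowerSeries
open Groth.Agent.Helper6.FormalIFT
open Groth.Agent.Helper6.ArS
open Groth.Agent.Helper6.FormalMorse

universe u

variable {k : Type u} [Field k]

attribute [-instance] PowerSeries.algebraPowerSeries MvPowerSeries.algebraMvPowerSeries

local notation "PP" => MvPowerSeries (Fin 2) k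
local notation "RR" => MvPolynomial (Fin 2) k

/-- Recentring at `a` followed by the inclusion of polynomials into power series. -/
noncomputable def theta (a : Fin 2 → k) : RR →+* PP :=
  (MvPolynomial.coeToMvPowerSeries.ringHom).comp (shift a).toRingHom

theorem theta_apply (a : Fin 2 → k) (p : RR) : theta a p = ((shift a p : RR) : PP) := rfl

theorem constantCoeff_theta (a : Fin 2 → k) (p : RR) :
    constantCoeff (theta a p) = MvPolynomial.eval a p := by
  rw [theta_apply, ← coeff_zero_eq_constantCoeff_apply, MvPolynomial.coeff_coe, coeff_zero_shift]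

theorem coeff_single_theta (a : Fin 2 → k) (p : RR) (i : Fin 2) :
    coeff (Finsupp.single i 1) (theta a p) = MvPolynomial.eval a (MvPolynomial.pderiv i p) := by
  rw [theta_apply, MvPolynomial.coeff_coe, eval_pderiv_eq]

theorem theta_X_sub (a : Fin 2 → k) (i : Fin 2) :
    theta a (MvPolynomial.X i - MvPolynomial.C (a i)) = X i := by
  rw [theta_apply, map_sub, MvPolynomial.aeval_X, MvPolynomial.aeval_C,
    MvPolynomial.algebraMap_eq, add_sub_cancel_right, MvPolynomial.coe_X]

theorem pderiv_theta (a : Fin 2 → k) (p : RR) (i : Fin 2) :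
    MvPowerSeries.pderiv k i (theta a p) = theta a (MvPolynomial.pderiv i p) := by
  rw [theta_apply, pderiv_coe, pderiv_shift, ← theta_apply]

/-- A non-zero, non-maximal prime ideal of `k[x, y]` is principal. -/
theorem prime_principal (𝔮 : Ideal RR) [h𝔮 : 𝔮.IsPrime] (hne : 𝔮 ≠ ⊥) (hnm : ¬ 𝔮.IsMaximal) :
    ∃ g : RR, Prime g ∧ 𝔮 = Ideal.span {g} := by
  obtain ⟨g, hg, hgp⟩ := Ideal.IsPrime.exists_mem_prime_of_ne_bot h𝔮 hne
  refine ⟨g, hgp, ?_⟩
  by_contra hcon
  haveI hP : (Ideal.span {g}).IsPrime := (Ideal.span_singleton_prime hgp.ne_zero).2 hgp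
  have hle : Ideal.span {g} ≤ 𝔮 := (Ideal.span_singleton_le_iff_mem _).2 hg
  have hlt1 : Ideal.span {g} < 𝔮 := lt_of_le_of_ne hle (Ne.symm hcon)
  obtain ⟨M, hM, hqM⟩ := Ideal.exists_le_maximal 𝔮 h𝔮.ne_top
  have hlt2 : 𝔮 < M := lt_of_le_of_ne hqM (by
    rintro rfl
    exact hnm hM)
  haveI : M.IsPrime := hM.isPrime
  have hlt0 : (⊥ : Ideal RR) < Ideal.span {g} := by
    rw [bot_lt_iff_ne_bot, Ne, Ideal.span_singleton_eq_bot]
    exact hgp.ne_zero
  have a1 := Ideal.height_add_one_le_of_lt_of_isPrime hlt0
  have a2 := Ideal.height_add_one_le_of_lt_of_isPrime hlt1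
  have a3 := Ideal.height_add_one_le_of_lt_of_isPrime hlt2
  have a4 : (3 : ℕ∞) ≤ M.height := by
    calc (3 : ℕ∞) = 0 + 1 + 1 + 1 := by norm_num
      _ ≤ (⊥ : Ideal RR).height + 1 + 1 + 1 := by
        gcongr
        exact zero_le
      _ ≤ (Ideal.span {g}).height + 1 + 1 := by gcongr
      _ ≤ 𝔮.height + 1 := by gcongr
      _ ≤ M.height := a3
  have a5 : (M.height : WithBot ℕ∞) ≤ ringKrullDim RR := Ideal.height_le_ringKrullDim_of_isPrime
  have hdim : ringKrullDim RR = ((2 : ℕ∞) : WithBot ℕ∞) := by
    rw [MvPolynomial.ringKrullDim_of_isNoetherianRing, Nat.card_fin, ringKrullDim_eq_zero_of_field]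
    norm_num
  rw [hdim, WithBot.coe_le_coe] at a5
  have a6 : (3 : ℕ∞) ≤ 2 := le_trans a4 a5
  exact absurd a6 (by norm_num)

theorem pderiv_eq_zero_of_dvd (g : RR) (i : Fin 2) (h : g ∣ MvPolynomial.pderiv i g) :
    MvPolynomial.pderiv i g = 0 := by
  by_contra hd
  obtain ⟨c, hc⟩ := h
  have hg0 : g ≠ 0 := by
    rintro rfl
    exact hd (map_zero _)
  have hc0 : c ≠ 0 := by
    rintro rfl
    rw [mul_zero] at hc
    exact hd hc
  have h1 : (MvPolynomial.pderiv i g).totalDegree = g.totalDegree + c.totalDegree := by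
    rw [hc]
    exact MvPolynomial.totalDegree_mul_of_isDomain hg0 hc0
  have hne : (MvPolynomial.pderiv i g).support.Nonempty := by
    rw [MvPolynomial.support_nonempty]
    exact hd
  obtain ⟨m, hm, hmd⟩ := Finset.exists_mem_eq_sup (MvPolynomial.pderiv i g).support hne
    (fun s => s.sum fun _ e => e)
  have hm' : m + Finsupp.single i 1 ∈ g.support := by
    rw [MvPolynomial.mem_support_iff] at hm ⊢
    intro h0
    apply hm
    rw [MvPolynomial.coeff_pderiv, h0, zero_mul]
  have h2 := MvPolynomial.le_totalDegree hm'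
  have h3 : ((m + Finsupp.single i 1).sum fun _ e => e) = (m.sum fun _ e => e) + 1 := by
    rw [Finsupp.sum_add_index' (fun _ => rfl) (fun _ _ _ => rfl),
      Finsupp.sum_single_index rfl]
  have h4 : (MvPolynomial.pderiv i g).totalDegree = m.sum fun _ e => e := hmd
  omega

/-- An irreducible polynomial over a perfect field has a non-zero partial derivative. -/
theorem not_prime_of_pderiv_zero [IsAlgClosed k] (g : RR) (hg : Prime g)
    (h : ∀ i, MvPolynomial.pderiv i g = 0) : False := by
  have hcast : ∀ m ∈ g.support, ∀ i : Fin 2, ((m i : ℕ) : k) = 0 := by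
    intro m hm i
    rw [MvPolynomial.mem_support_iff] at hm
    by_cases hmi : m i = 0
    · rw [hmi, Nat.cast_zero]
    · have hle : Finsupp.single i 1 ≤ m := by
        intro j
        by_cases hj : j = i
        · subst hj
          rw [Finsupp.single_eq_same]
          exact Nat.one_le_iff_ne_zero.2 hmi
        · rw [Finsupp.single_apply, if_neg (Ne.symm hj)]
          exact Nat.zero_le _
      have hadd : m - Finsupp.single i 1 + Finsupp.single i 1 = m := tsub_add_cancel_of_le hle
      have := MvPolynomial.coeff_pderiv g (m - Finsupp.single i 1) (i := i)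
      rw [h i, MvPolynomial.coeff_zero, hadd] at this
      have h2 : (((m - Finsupp.single i 1 : Fin 2 →₀ ℕ) i : ℕ) : k) + 1 = ((m i : ℕ) : k) := by
        have h3 : (m - Finsupp.single i 1 : Fin 2 →₀ ℕ) i + 1 = m i := by
          rw [Finsupp.tsub_apply, Finsupp.single_eq_same]
          omega
        rw [← h3, Nat.cast_add, Nat.cast_one]
      rw [h2] at this
      exact (mul_eq_zero.1 this.symm).resolve_left hm
  obtain ⟨p, hp⟩ := CharP.exists k
  rcases CharP.char_is_prime_or_zero k p with hpp | hp0
  · haveI := Fact.mk hpp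
    haveI : ExpChar k p := ExpChar.prime hpp
    have hdiv : ∀ m ∈ g.support, ∀ i : Fin 2, p ∣ m i := fun m hm i =>
      (CharP.cast_eq_zero_iff k p _).1 (hcast m hm i)
    obtain ⟨q, hq⟩ : ∃ q : RR, q ^ p = g := by
      refine ⟨∑ m ∈ g.support, MvPolynomial.monomial (m.mapRange (· / p) (Nat.zero_div p))
        ((frobeniusEquiv k p).symm (MvPolynomial.coeff m g)), ?_⟩
      rw [← MvPolynomial.map_frobenius_expand p, map_sum, map_sum]
      conv_rhs => rw [← MvPolynomial.support_sum_monomial_coeff g]
      apply Finset.sum_congr rfl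
      intro m hm
      have hmm : p • Finsupp.mapRange (fun x => x / p) (Nat.zero_div p) m = m := by
        ext i
        rw [Finsupp.smul_apply, Finsupp.mapRange_apply, smul_eq_mul]
        exact Nat.mul_div_cancel' (hdiv m hm i)
      rw [MvPolynomial.expand_monomial, MvPolynomial.map_monomial,
        frobenius_apply_frobeniusEquiv_symm, hmm]
    have hirr := hg.irreducible
    rw [← hq] at hirr
    exact not_irreducible_pow hpp.ne_one hirr
  · subst hp0
    haveI : CharZero k := CharP.charP_to_charZero k
    have hsupp : ∀ m ∈ g.support, m = 0 := by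
      intro m hm
      ext i
      have := hcast m hm i
      exact_mod_cast this
    have htd : g.totalDegree = 0 := by
      unfold MvPolynomial.totalDegree
      apply Nat.eq_zero_of_le_zero
      apply Finset.sup_le
      intro m hm
      rw [hsupp m hm]
      simp
    rw [MvPolynomial.totalDegree_eq_zero_iff_eq_C] at htd
    by_cases hc : MvPolynomial.coeff 0 g = 0
    · apply hg.ne_zero
      rw [htd, hc, map_zero]
    · apply hg.not_isUnit
      rw [htd]
      exact (isUnit_iff_ne_zero.2 hc).map MvPolynomial.C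

end Groth.Agent.Helper6.DP
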