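import Mathlib
import Groth.Agent.Helper6.DP8

set_option autoImplicit false
set_option linter.style.haveILetI false
set_option linter.unusedSectionVars false

/-!
# Double lines: the criterion
-/

namespace Groth.Agent.Helper6.DP

open MvPowerSeries
open Groth.Agent.Helper6.FormalIFT
open Groth.Agent.Helper6.ArS
open Groth.Agent.Helper6.FormalMorse

universe u

variable {k : Type u} [Field k]

attribute [-instance] PowerSeries.algebraPowerSeries MvPowerSeries.algebraMvPowerSeries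

local notation "PP" => MvPowerSeries (Fin 2) k
local notation "RR" => MvPolynomial (Fin 2) k

/-- A germ whose quotient is isomorphic to the double line is a unit times the square of a regular
parameter. -/
theorem sq_structure (F : PP)
    (e : (PP ⧸ Ideal.span {F}) ≃ₐ[k] (PP ⧸ Ideal.span {(X 1 ^ 2 : PP)})) :
    ∃ (B : PP) (u : PPˣ), constantCoeff B = 0 ∧
      (∃ i : Fin 2, coeff (Finsupp.single i 1) B ≠ 0) ∧ B ^ 2 * u = F := by
  have hX0 : constantCoeff (X 1 ^ 2 : PP) = 0 := by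
    rw [map_pow, constantCoeff_X, zero_pow two_ne_zero]
  have hF0 : constantCoeff F = 0 := by
    by_contra hc
    have hu : IsUnit F := by
      rw [MvPowerSeries.isUnit_iff_constantCoeff]
      exact isUnit_iff_ne_zero.2 hc
    have htop : Ideal.span {F} = ⊤ := Ideal.span_singleton_eq_top.2 hu
    haveI : Subsingleton (PP ⧸ Ideal.span {F}) := Ideal.Quotient.subsingleton_iff.2 htop
    have h10 : (1 : PP ⧸ Ideal.span {(X 1 ^ 2 : PP)}) = 0 := by
      have := Subsingleton.elim (e.symm 1) (e.symm 0)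
      exact e.symm.injective this
    rw [← map_one (Ideal.Quotient.mk (Ideal.span {(X 1 ^ 2 : PP)})),
      Ideal.Quotient.eq_zero_iff_mem] at h10
    have := span_le_maximalIdeal k (X 1 ^ 2) hX0 h10
    rw [mem_maximalIdeal_iff_field, map_one] at this
    exact one_ne_zero this
  have hX2 : ((2 : ℕ) : ℕ∞) ≤ (X 1 ^ 2 : PP).order :=
    pow_le_ordIdeal k 2 (Ideal.pow_mem_pow (X_mem k 1) 2)
  have hF1 : ∀ i : Fin 2, coeff (Finsupp.single i 1) F = 0 := by
    intro i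
    by_contra hi
    obtain ⟨e'⟩ := equiv_A0_of_lin k F hF0 i hi
    have h1 : I0 (PP ⧸ Ideal.span {F}) := I0_of_equiv e'.symm.toRingEquiv (I0_A0 k)
    exact not_I0 k (X 1 ^ 2) hX2 (I0_of_equiv e.toRingEquiv h1)
  obtain ⟨Φ, hspan, hΦ0, hΦdet⟩ := lift_equiv k F (X 1 ^ 2) hF0 hF1 hX0 e.symm
  rw [map_pow] at hspan
  haveI : IsDomain PP := NoZeroDivisors.to_isDomain _
  obtain ⟨u, hu⟩ := Ideal.span_singleton_eq_span_singleton.1 hspan
  refine ⟨Φ (X 1), u, hΦ0 1, ?_, hu⟩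
  by_contra hall
  push Not at hall
  rw [linMat_det] at hΦdet
  have h0 : coeff (Finsupp.single 0 1) (Φ (X 1)) = 0 := hall 0
  have h1 : coeff (Finsupp.single 1 1) (Φ (X 1)) = 0 := hall 1
  have : coeff (Finsupp.single 0 1) (Φ (X 0)) * coeff (Finsupp.single 1 1) (Φ (X 1)) -
      coeff (Finsupp.single 1 1) (Φ (X 0)) * coeff (Finsupp.single 0 1) (Φ (X 1)) = 0 := by
    rw [h0, h1, mul_zero, mul_zero, sub_zero]
  exact not_isUnit_zero (this ▸ hΦdet)

/-- From the formal structure to a polynomial factorisation. -/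
theorem poly_of_sq [IsAlgClosed k] (f : RR) (a : Fin 2 → k) (B : PP) (u : PPˣ)
    (hB0 : constantCoeff B = 0) (i₀ : Fin 2) (hi₀ : coeff (Finsupp.single i₀ 1) B ≠ 0)
    (hF : B ^ 2 * u = theta a f) :
    ∃ g h : RR, f = g ^ 2 * h ∧ MvPolynomial.eval a h ≠ 0 ∧ MvPolynomial.eval a g = 0 ∧
      ∃ i : Fin 2, MvPolynomial.eval a (MvPolynomial.pderiv i g) ≠ 0 := by
  have hBp : Prime B := prime_of_lin k B hB0 i₀ hi₀
  have hf0 : f ≠ 0 := by
    rintro rfl
    rw [map_zero] at hF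
    rcases mul_eq_zero.1 hF with h | h
    · exact hBp.ne_zero (pow_eq_zero_iff two_ne_zero |>.1 h)
    · exact u.ne_zero h
  obtain ⟨𝔮, h𝔮def⟩ : ∃ 𝔮 : Ideal RR, 𝔮 = Ideal.comap (theta a) (Ideal.span {B}) := ⟨_, rfl⟩
  haveI hsp : (Ideal.span {B}).IsPrime := (Ideal.span_singleton_prime hBp.ne_zero).2 hBp
  haveI h𝔮 : 𝔮.IsPrime := by
    rw [h𝔮def]
    exact Ideal.comap_isPrime _ _
  have hmem : ∀ p : RR, p ∈ 𝔮 ↔ B ∣ theta a p := fun p => by
    rw [h𝔮def, Ideal.mem_comap, Ideal.mem_span_singleton]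
  have hf𝔮 : f ∈ 𝔮 := (hmem f).2 ⟨B * u, by rw [← hF]; ring⟩
  have hne : 𝔮 ≠ ⊥ := by
    intro h
    rw [h] at hf𝔮
    exact hf0 (Ideal.mem_bot.1 hf𝔮)
  have hnm : ¬ 𝔮.IsMaximal := by
    intro hmax
    have hle : 𝔮 ≤ Ideal.comap (theta a) (IsLocalRing.maximalIdeal PP) := by
      rw [h𝔮def]
      exact Ideal.comap_mono (span_le_maximalIdeal k B hB0)
    have hne_top : Ideal.comap (theta a) (IsLocalRing.maximalIdeal PP) ≠ ⊤ := by
      rw [Ideal.ne_top_iff_one, Ideal.mem_comap, map_one]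
      exact (Ideal.ne_top_iff_one _).1 (IsLocalRing.maximalIdeal.isMaximal PP).ne_top
    have heq := hmax.eq_of_le hne_top hle
    apply not_both_mem k B hB0
    have hX : ∀ i : Fin 2, (X i : PP) ∈ Ideal.span {B} := by
      intro i
      have h1 : (MvPolynomial.X i - MvPolynomial.C (a i) : RR) ∈ 𝔮 := by
        rw [heq, Ideal.mem_comap, theta_X_sub]
        exact X_mem k i
      rw [h𝔮def, Ideal.mem_comap, theta_X_sub] at h1
      exact h1
    exact ⟨hX 0, hX 1⟩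
  obtain ⟨g, hgp, h𝔮g⟩ := prime_principal 𝔮 hne hnm
  have hg𝔮 : g ∈ 𝔮 := by
    rw [h𝔮g]
    exact Ideal.subset_span rfl
  have hdvd𝔮 : ∀ p : RR, p ∈ 𝔮 → g ∣ p := fun p hp => by
    rw [h𝔮g] at hp
    exact Ideal.mem_span_singleton.1 hp
  obtain ⟨T, hT⟩ := (hmem g).1 hg𝔮
  obtain ⟨n, h, hgh, hfn⟩ := WfDvdMonoid.max_power_factor' hf0 hgp.not_isUnit
  have hn1 : 1 ≤ n := by
    by_contra hn
    have hn0 : n = 0 := by omega
    subst hn0
    rw [pow_zero, one_mul] at hfn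
    apply hgh
    rw [← hfn]
    exact hdvd𝔮 f hf𝔮
  have hH : ¬ B ∣ theta a h := fun hd => hgh (hdvd𝔮 h ((hmem h).2 hd))
  have heq : B ^ n * T ^ n * theta a h = ↑u * B ^ 2 := by
    have h1 : theta a f = (B * T) ^ n * theta a h := by
      rw [hfn, map_mul, map_pow, hT]
    rw [← hF, mul_pow] at h1
    rw [← h1]
    ring
  rcases unit_analysis k B u T (theta a h) hBp u.isUnit hH n hn1 heq with
    ⟨rfl, hTu, hHu⟩ | ⟨rfl, T', rfl, hT'u, hHu⟩
  · refine ⟨g, h, hfn, ?_, ?_, i₀, ?_⟩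
    · rw [← constantCoeff_theta]
      exact isUnit_iff_ne_zero.1 (MvPowerSeries.isUnit_iff_constantCoeff.1 hHu)
    · rw [← constantCoeff_theta, hT, map_mul, hB0, zero_mul]
    · rw [← coeff_single_theta, hT, mul_comm, lin_mul k T B hB0]
      exact mul_ne_zero (isUnit_iff_ne_zero.1 (MvPowerSeries.isUnit_iff_constantCoeff.1 hTu)) hi₀
  · exfalso
    apply not_prime_of_pderiv_zero g hgp
    intro i
    apply pderiv_eq_zero_of_dvd
    have hd : B ∣ MvPowerSeries.pderiv k i (theta a g) :=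
      dvd_pderiv_of_sq k B T' _ (by rw [hT]; ring) i
    rw [pderiv_theta] at hd
    exact hdvd𝔮 _ ((hmem _).2 hd)

theorem equiv_of_sq (f g h : RR) (a : Fin 2 → k) (hf : f = g ^ 2 * h)
    (hh : MvPolynomial.eval a h ≠ 0) (hg : MvPolynomial.eval a g = 0) (i : Fin 2)
    (hi : MvPolynomial.eval a (MvPolynomial.pderiv i g) ≠ 0) :
    Nonempty ((PP ⧸ Ideal.span {theta a f}) ≃ₐ[k] (PP ⧸ Ideal.span {(X 1 ^ 2 : PP)})) := by
  have hG0 : constantCoeff (theta a g) = 0 := by rw [constantCoeff_theta, hg]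
  have hGi : coeff (Finsupp.single i 1) (theta a g) ≠ 0 := by
    rw [coeff_single_theta]
    exact hi
  have hHu : IsUnit (theta a h) := by
    rw [MvPowerSeries.isUnit_iff_constantCoeff, constantCoeff_theta]
    exact isUnit_iff_ne_zero.2 hh
  obtain ⟨Φ, hΦ⟩ := exists_auto_X1 k (theta a g) hG0 i hGi
  apply quot_equiv_of_map k Φ.symm (theta a f) (X 1 ^ 2) (Φ.symm (theta a h)) (hHu.map Φ.symm)
  rw [hf, map_mul, map_pow, map_mul, map_pow, ← hΦ, AlgEquiv.symm_apply_apply]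
  ring

/-- The criterion for a double line. -/
theorem main_sq [IsAlgClosed k] (f : MvPolynomial (Fin 2) k) (a : Fin 2 → k) :
    Nonempty ((MvPowerSeries (Fin 2) k ⧸ Ideal.span
        ({(MvPolynomial.aeval (fun i : Fin 2 => MvPolynomial.X i + MvPolynomial.C (a i)) f).toMvPowerSeries} :
          Set (MvPowerSeries (Fin 2) k))) ≃ₐ[k]
      (MvPowerSeries (Fin 2) k ⧸ Ideal.span ({MvPowerSeries.X 1 ^ 2} : Set (MvPowerSeries (Fin 2) k)))) ↔
    ∃ g h : MvPolynomial (Fin 2) k, f = g ^ 2 * h ∧ MvPolynomial.eval a h ≠ 0 ∧ MvPolynomial.eval a g = 0 ∧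
      ∃ i : Fin 2, MvPolynomial.eval a (MvPolynomial.pderiv i g) ≠ 0 := by
  show Nonempty ((PP ⧸ Ideal.span {theta a f}) ≃ₐ[k] (PP ⧸ Ideal.span {(X 1 ^ 2 : PP)})) ↔ _
  constructor
  · rintro ⟨e⟩
    obtain ⟨B, u, hB0, ⟨i₀, hi₀⟩, hF⟩ := sq_structure (theta a f) e
    exact poly_of_sq f a B u hB0 i₀ hi₀ hF
  · rintro ⟨g, h, hf, hh, hg, i, hi⟩
    exact equiv_of_sq f g h a hf hh hg i hi

end Groth.Agent.Helper6.DP
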