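import Mathlib
import Groth.Prelude.Def_CohCx
import Groth.Agent.Helper9.HyA
import Groth.Agent.Helper9.HyB
import Groth.Agent.Helper1.ExtMap

/-!
# Hypercohomology of a bounded below complex of acyclic sheaves is the cohomology of its complex
of sections
-/

set_option autoImplicit false
set_option linter.style.haveILetI false
set_option linter.unusedSectionVars false
set_option linter.unusedVariables false
set_option linter.unusedSimpArgs false

universe u

open CategoryTheory CategoryTheory.Limits Opposite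

namespace Groth.Agent.Helper6.DRAffA

open Groth.Agent.Helper9.HyB

variable {C : Type u} [SmallCategory C] {J : GrothendieckTopology C}

theorem acycAt_of_iso {U : C} {F G : Sheaf J AddCommGrpCat.{u}} (e : F ≅ G) (h : AcycAt U F) :
    AcycAt U G := by
  intro q
  haveI : Subsingleton ↑(((Sheaf.cohomologyPresheafFunctor.{u} J (q + 1)).obj F).obj (op U)) := h q
  have e' := ((Sheaf.cohomologyPresheafFunctor.{u} J (q + 1)).mapIso e).app (op U)
  exact e'.addCommGroupIsoToAddEquiv.symm.toEquiv.subsingleton

section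

variable [HasDerivedCategory.{u} (Sheaf J AddCommGrpCat.{u})]

/-- **acyclic resolutions compute hypercohomology** (ℤ-indexed, bounded below) -/
theorem nonempty_sections_equiv (L : CochainComplex (Sheaf J AddCommGrpCat.{u}) ℤ) (a : ℤ)
    (ha : ∀ i : ℤ, i < a → IsZero (L.X i)) (U : C) (hL : ∀ i, AcycAt U (L.X i)) (n : ℤ) :
    Nonempty ((((CohCx.sectCx J U).obj L).homology n : AddCommGrpCat.{u}) ≃+
      CohCx.HDU (DerivedCategory.Q.obj L) n U) := by
  have hK : L.IsStrictlyGE a := by
    rw [CochainComplex.isStrictlyGE_iff]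
    exact ha
  obtain ⟨L', φ, hmono, hqi, hLinj, hLge⟩ :=
    CochainComplex.Plus.modelCategoryQuillen.exists_mono_quasiIso_injective L (a - 1) a (by ring)
  have hL0 : ∀ i : ℤ, i < a - 1 → IsZero (L.X i) := fun i hi => ha i (by omega)
  have hL'0 : ∀ i : ℤ, i < a - 1 → IsZero (L'.X i) := fun i hi =>
    L'.isZero_of_isStrictlyGE (a - 1) i hi
  have : L'.IsKInjective := CochainComplex.isKInjective_of_injective L' (a - 1)
  have : IsIso (DerivedCategory.Q.map φ) := by
    rw [DerivedCategory.isIso_Q_map_iff_quasiIso]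
    infer_instance
  let γ : DerivedCategory.Q.obj L' ⟶ DerivedCategory.Q.obj L := inv (DerivedCategory.Q.map φ)
  have : IsIso γ := inferInstance
  have hL'ac : ∀ i, AcycAt U (L'.X i) := by
    intro i
    have := hLinj i
    exact acycAt_of_injective _ _
  haveI := hmono
  haveI := hqi
  haveI h1 := quasiIso_sections L L' φ U (a - 1) hL0 hL'0 hL hL'ac
  let e1 : ((CohCx.sectCx J U).obj L).homology n ≅ ((CohCx.sectCx J U).obj L').homology n :=
    isoOfQuasiIsoAt ((CohCx.sectCx J U).map φ) n
  obtain ⟨e6⟩ := Groth.Agent.Helper9.HyA.nonempty_equiv L' γ n U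
  exact ⟨e1.addCommGroupIsoToAddEquiv.trans e6⟩

/-- the sections functor -/
abbrev ΓU (U : C) : Sheaf J AddCommGrpCat.{u} ⥤ AddCommGrpCat.{u} :=
  sheafToPresheaf J AddCommGrpCat.{u} ⋙ (evaluation Cᵒᵖ AddCommGrpCat.{u}).obj (op U)

/-- **acyclic resolutions compute hypercohomology** (ℕ-indexed) -/
theorem nonempty_sections_equiv_nat (K : CochainComplex (Sheaf J AddCommGrpCat.{u}) ℕ) (U : C)
    (hK : ∀ p, AcycAt U (K.X p)) (n : ℕ) :
    Nonempty (((((ΓU (J := J) U).mapHomologicalComplex (ComplexShape.up ℕ)).obj K).homology n :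
      AddCommGrpCat.{u}) ≃+
      CohCx.HDU (DerivedCategory.Q.obj (K.extend ComplexShape.embeddingUpNat)) (n : ℤ) U) := by
  have ha : ∀ i : ℤ, i < 0 → IsZero ((K.extend ComplexShape.embeddingUpNat).X i) := by
    intro i hi
    refine HomologicalComplex.isZero_extend_X K _ i (fun j hj => ?_)
    have : (j : ℤ) = i := hj
    lia
  have hL : ∀ i, AcycAt U ((K.extend ComplexShape.embeddingUpNat).X i) := by
    intro i
    by_cases hi : i < 0
    · exact acycAt_of_isZero U _ (ha i hi)
    · have e : ComplexShape.embeddingUpNat.f i.toNat = i := by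
        change ((i.toNat : ℕ) : ℤ) = i
        exact Int.toNat_of_nonneg (by lia)
      exact acycAt_of_iso (HomologicalComplex.extendXIso K _ e).symm (hK i.toNat)
  obtain ⟨e1⟩ := nonempty_sections_equiv (K.extend ComplexShape.embeddingUpNat) 0 ha U hL (n : ℤ)
  let e2 := Groth.Agent.Helper1.ExtMap.homologyIso ComplexShape.embeddingUpNat (ΓU (J := J) U) K n
  exact ⟨e2.symm.addCommGroupIsoToAddEquiv.trans e1⟩

end

end Groth.Agent.Helper6.DRAffA
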