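import Mathlib
import Groth.Prelude.Def_ExtPow2
import Groth.Agent.Helper1.ExtPowBC
import Groth.Agent.Helper1.ResBC
import Groth.Agent.Helper1.SY5
import Groth.Agent.Helper4.QcohGlue

/-!
# Exterior powers (in the affine-local sense) of a quasi-coherent module are quasi-coherent
-/

set_option autoImplicit false
set_option linter.style.haveILetI false
set_option linter.unusedSectionVars false
set_option linter.unusedVariables false
set_option linter.unusedSimpArgs false

universe u

open CategoryTheory AlgebraicGeometry Opposite TopologicalSpace exteriorPower TensorProduct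

namespace Groth.Agent.Helper6.DRQc

open Groth.Agent.Helper1 Groth.Agent.Helper1.ExtPowBC

section alg

variable {A B : Type u} [CommRing A] [CommRing B] [Algebra A B]
  {M P : Type u} [AddCommGroup M] [Module A M]
  [AddCommGroup P] [Module A P] [Module B P] [IsScalarTower A B P]
  (p : ℕ) {tM : M →ₗ[A] P} (hM : IsBaseChange B tM)

/-- the map `Λᵖ_A M → Λᵖ_B P` induced by a base change map `M → P` -/
noncomputable def extMap : ↥(⋀[A]^p M) →ₗ[A] ↥(⋀[B]^p P) :=
  ((mapEquiv p hM.equiv).toLinearMap.restrictScalars A).comp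
    (Groth.Agent.Helper7.ExtBC.incl A B M p)

theorem extMap_apply (x : ↥(⋀[A]^p M)) :
    extMap p hM x = mapEquiv p hM.equiv (Groth.Agent.Helper7.ExtBC.incl A B M p x) := rfl

theorem extMap_ιMulti (m : Fin p → M) :
    extMap p hM (ιMulti A p m) = ιMulti B p (fun j => tM (m j)) := by
  rw [extMap_apply, Groth.Agent.Helper7.ExtBC.incl_ιMulti, mapEquiv_ιMulti]
  congr 1
  funext j
  rw [IsBaseChange.equiv_tmul, one_smul]

theorem isBaseChange_extMap : IsBaseChange B (extMap p hM) := by
  refine IsBaseChange.of_equiv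
    ((LinearEquiv.ofBijective (Groth.Agent.Helper7.ExtBC.beta A B M p)
      (Groth.Agent.Helper7.ExtBC.beta_bijective A B M p)) ≪≫ₗ mapEquiv p hM.equiv) (fun x => ?_)
  rw [LinearEquiv.trans_apply, LinearEquiv.ofBijective_apply,
    Groth.Agent.Helper7.ExtBC.beta_tmul, one_smul, extMap_apply]

include hM in
/-- a map out of `Λᵖ_A M` which is `Λᵖ(tM)` on decomposable elements, up to a `B`-linear
equivalence of the target, is a base change -/
theorem isBaseChange_of_ιMulti {Q : Type u} [AddCommGroup Q] [Module A Q] [Module B Q]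
    [IsScalarTower A B Q] (ψ : ↥(⋀[A]^p M) →ₗ[A] Q) (e : Q ≃ₗ[B] ↥(⋀[B]^p P))
    (h : ∀ m : Fin p → M, ψ (ιMulti A p m) = e.symm (ιMulti B p (fun j => tM (m j)))) :
    IsBaseChange B ψ := by
  have hψ : ψ = (e.symm.toLinearMap.restrictScalars A).comp (extMap p hM) := by
    apply exteriorPower.linearMap_ext
    ext m
    change ψ (ιMulti A p m) = e.symm (extMap p hM (ιMulti A p m))
    rw [h, extMap_ιMulti]
  have hΛ := isBaseChange_extMap p hM
  refine IsBaseChange.of_equiv (hΛ.equiv ≪≫ₗ e.symm) (fun x => ?_)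
  rw [LinearEquiv.trans_apply, IsBaseChange.equiv_tmul, one_smul, hψ]
  rfl

end alg

section sheaf

variable {X : Scheme.{u}} (E L : X.Modules) (p : ℕ)
  (loc : ∀ U : X.affineOpens, Γ(L, U.1) ≃ₗ[Γ(X, U.1)] ↥(⋀[Γ(X, U.1)]^p Γ(E, U.1)))
  (loc_res : ∀ (U V : X.affineOpens) (h : V.1 ≤ U.1) (e : Fin p → Γ(E, U.1)),
    L.val.map (homOfLE h).op ((loc U).symm (ιMulti _ p e)) =
      (loc V).symm (ιMulti _ p (fun j => E.val.map (homOfLE h).op (e j))))

include loc_res in
theorem isLocalizingOn [E.IsQuasicoherent] {U : X.Opens} (hU : IsAffineOpen U) :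
    Groth.Agent.Helper4.QcqsMod.IsLocalizingOn L U := by
  have key : ∀ f : Γ(X, U),
      letI : Algebra Γ(X, U) Γ(X, X.basicOpen f) :=
        (X.presheaf.map (homOfLE (X.basicOpen_le f)).op).hom.toAlgebra
      letI : Module Γ(X, U) Γ(L, X.basicOpen f) :=
        Module.compHom _ (algebraMap Γ(X, U) Γ(X, X.basicOpen f))
      IsLocalizedModule (Submonoid.powers f)
        ((SY.resLin L (X.basicOpen_le f)).comp (loc ⟨U, hU⟩).symm.toLinearMap) := by
    intro f
    letI : Algebra Γ(X, U) Γ(X, X.basicOpen f) :=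
      (X.presheaf.map (homOfLE (X.basicOpen_le f)).op).hom.toAlgebra
    letI : Module Γ(X, U) Γ(L, X.basicOpen f) :=
      Module.compHom _ (algebraMap Γ(X, U) Γ(X, X.basicOpen f))
    haveI : IsScalarTower Γ(X, U) Γ(X, X.basicOpen f) Γ(L, X.basicOpen f) :=
      IsScalarTower.of_compHom _ _ _
    letI : Module Γ(X, U) Γ(E, X.basicOpen f) :=
      Module.compHom _ (algebraMap Γ(X, U) Γ(X, X.basicOpen f))
    haveI : IsScalarTower Γ(X, U) Γ(X, X.basicOpen f) Γ(E, X.basicOpen f) :=
      IsScalarTower.of_compHom _ _ _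
    have hV : IsAffineOpen (X.basicOpen f) := hU.basicOpen f
    have hM : IsBaseChange Γ(X, X.basicOpen f) (SY.resLin E (X.basicOpen_le f)) :=
      ResBC.isBaseChange_res E hU hV (X.basicOpen_le f) rfl _ (fun m => rfl)
    haveI : IsLocalization (Submonoid.powers f) Γ(X, X.basicOpen f) :=
      hU.isLocalization_basicOpen f
    rw [isLocalizedModule_iff_isBaseChange (Submonoid.powers f) Γ(X, X.basicOpen f)]
    refine isBaseChange_of_ιMulti p hM _ (loc ⟨X.basicOpen f, hV⟩) (fun m => ?_)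
    exact loc_res ⟨U, hU⟩ ⟨X.basicOpen f, hV⟩ (X.basicOpen_le f) m
  constructor
  · intro f m hm
    letI : Algebra Γ(X, U) Γ(X, X.basicOpen f) :=
      (X.presheaf.map (homOfLE (X.basicOpen_le f)).op).hom.toAlgebra
    letI : Module Γ(X, U) Γ(L, X.basicOpen f) :=
      Module.compHom _ (algebraMap Γ(X, U) Γ(X, X.basicOpen f))
    have hloc := key f
    have h1 : ((SY.resLin L (X.basicOpen_le f)).comp (loc ⟨U, hU⟩).symm.toLinearMap)
        (loc ⟨U, hU⟩ m) = 0 := by
      change L.presheaf.map (homOfLE (X.basicOpen_le f)).op ((loc ⟨U, hU⟩).symm (loc ⟨U, hU⟩ m)) = 0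
      rw [LinearEquiv.symm_apply_apply]
      exact hm
    obtain ⟨⟨_, n, rfl⟩, hs⟩ := (IsLocalizedModule.eq_zero_iff (Submonoid.powers f) _).mp h1
    refine ⟨n, ?_⟩
    have hs' : f ^ n • (loc ⟨U, hU⟩ m) = 0 := hs
    rw [← map_smul] at hs'
    exact (loc ⟨U, hU⟩).map_eq_zero_iff.mp hs'
  · intro f t
    letI : Algebra Γ(X, U) Γ(X, X.basicOpen f) :=
      (X.presheaf.map (homOfLE (X.basicOpen_le f)).op).hom.toAlgebra
    letI : Module Γ(X, U) Γ(L, X.basicOpen f) :=
      Module.compHom _ (algebraMap Γ(X, U) Γ(X, X.basicOpen f))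
    have hloc := key f
    obtain ⟨⟨x, ⟨_, n, rfl⟩⟩, hx⟩ := IsLocalizedModule.surj (Submonoid.powers f)
      ((SY.resLin L (X.basicOpen_le f)).comp (loc ⟨U, hU⟩).symm.toLinearMap) t
    exact ⟨n, (loc ⟨U, hU⟩).symm x, hx⟩

include loc_res in
/-- **an exterior power (in the affine-local sense) of a quasi-coherent module is
quasi-coherent** -/
theorem isQuasicoherent [E.IsQuasicoherent] : L.IsQuasicoherent := by
  apply Groth.Agent.Helper4.QcohGlue.isQuasicoherent_of_isLocalizingOn
  intro x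
  obtain ⟨_, ⟨U, hU : IsAffineOpen U, rfl⟩, hxU, -⟩ :=
    X.isBasis_affineOpens.exists_subset_of_mem_open (Set.mem_univ x) isOpen_univ
  exact ⟨U, hU, hxU, isLocalizingOn E L p loc loc_res hU⟩

end sheaf

end Groth.Agent.Helper6.DRQc
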