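import Mathlib
import Groth.Prelude
import Groth.Agent.Helper3.OmAffSpec
import Groth.Agent.Helper1.TildeExt
import Groth.Agent.Helper7.DR
import Groth.Agent.Helper6.DRQc

/-!
# The complex of global sections of a de Rham complex on `Spec A` is the ring-level de Rham complex
-/

set_option autoImplicit false
set_option linter.style.haveILetI false
set_option linter.unusedSectionVars false
set_option linter.unusedVariables false
set_option linter.unusedSimpArgs false

universe u

open CategoryTheory AlgebraicGeometry Opposite TopologicalSpace exteriorPower TensorProduct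

namespace Groth.Agent.Helper6.DRAffB

section alg

variable {A B : Type u} [CommRing A] [CommRing B] [Algebra A B]
  {N Q : Type u} [AddCommGroup N] [Module A N] [AddCommGroup Q] [Module A Q] [Module B Q]
  [IsScalarTower A B Q]

/-- a base change map along a bijective ring map is bijective -/
theorem bijective_of_isBaseChange {g : N →ₗ[A] Q} (h : IsBaseChange B g)
    (hAB : Function.Bijective (algebraMap A B)) : Function.Bijective g := by
  let eAB : A ≃ₗ[A] B := LinearEquiv.ofBijective (Algebra.linearMap A B) hAB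
  let E : N ≃ₗ[A] B ⊗[A] N :=
    (TensorProduct.lid A N).symm ≪≫ₗ TensorProduct.congr eAB (LinearEquiv.refl A N)
  have hE : ∀ n, E n = (1 : B) ⊗ₜ[A] n := by
    intro n
    change TensorProduct.congr eAB (LinearEquiv.refl A N) ((TensorProduct.lid A N).symm n) = _
    rw [TensorProduct.lid_symm_apply, TensorProduct.congr_tmul]
    change (algebraMap A B 1) ⊗ₜ[A] n = _
    rw [map_one]
  have hg : ∀ n, g n = h.equiv (E n) := by
    intro n
    rw [hE, IsBaseChange.equiv_tmul, one_smul]
  have : (g : N → Q) = h.equiv ∘ E := funext hg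
  rw [this]
  exact h.equiv.bijective.comp E.bijective

end alg

section main

variable (R A : Type u) [CommRing R] [CommRing A] [Algebra R A]

/-- the morphism `Spec A ⟶ Spec R` -/
noncomputable abbrev sf : Spec (CommRingCat.of A) ⟶ Spec (CommRingCat.of R) :=
  Spec.map (CommRingCat.ofHom (algebraMap R A))

/-- the sheaf of differentials -/
noncomputable abbrev Om : (Spec (CommRingCat.of A)).Modules := Omega.sheaf (sf R A)

/-- `Γ(Spec A, ⊤)` as an `A`-algebra -/
@[reducible] noncomputable def algΓ : Algebra A Γ(Spec (CommRingCat.of A), ⊤) :=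
  (OmAff.toΓ A).toAlgebra

attribute [local instance] algΓ

/-- global sections of a module on `Spec A` as an `A`-module -/
@[reducible] noncomputable def modΓ (M : (Spec (CommRingCat.of A)).Modules) : Module A Γ(M, ⊤) :=
  Module.compHom _ (algebraMap A Γ(Spec (CommRingCat.of A), ⊤))

attribute [local instance] modΓ

instance isScalarTowerΓ (M : (Spec (CommRingCat.of A)).Modules) :
    IsScalarTower A Γ(Spec (CommRingCat.of A), ⊤) Γ(M, ⊤) :=
  IsScalarTower.of_compHom _ _ _

theorem algebraMap_eq (a : A) :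
    algebraMap A Γ(Spec (CommRingCat.of A), ⊤) a = OmAff.toΓ A a := rfl

theorem algebraMap_bijective :
    Function.Bijective (algebraMap A Γ(Spec (CommRingCat.of A), ⊤)) :=
  ConcreteCategory.bijective_of_isIso (Scheme.ΓSpecIso (CommRingCat.of A)).inv

/-- the comparison map `Ω[A⁄R] → Γ(Spec A, Ω)` as an `A`-linear map -/
noncomputable def tM : Ω[A⁄R] →ₗ[A] Γ(Om R A, ⊤) where
  toFun := OmAff.toSpec R A
  map_add' := map_add _
  map_smul' a x := by
    rw [LinearMap.map_smulₛₗ]
    rfl

theorem tM_D (b : A) :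
    tM R A (KaehlerDifferential.D R A b) = (OmegaSh.dOmega (sf R A)).app ⊤ (OmAff.toΓ A b) :=
  OmAff.toSpec_D R A b

theorem tM_bijective : Function.Bijective (tM R A) :=
  Groth.Agent.Helper3.OmAffSpec.main R A

theorem isBaseChange_tM : IsBaseChange Γ(Spec (CommRingCat.of A), ⊤) (tM R A) :=
  Groth.Agent.Helper1.TildeExt.isBaseChange_of_bijective (algebraMap_bijective A).2 _
    (tM_bijective R A)

/-- the comparison map on exterior powers -/
noncomputable def ext (p : ℕ) :
    ↥(⋀[A]^p (Ω[A⁄R])) →ₗ[A] ↥(⋀[Γ(Spec (CommRingCat.of A), ⊤)]^p Γ(Om R A, ⊤)) :=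
  DRQc.extMap p (isBaseChange_tM R A)

theorem ext_ιMulti (p : ℕ) (m : Fin p → Ω[A⁄R]) :
    ext R A p (ιMulti A p m) = ιMulti _ p (fun j => tM R A (m j)) :=
  DRQc.extMap_ιMulti p (isBaseChange_tM R A) m

theorem ext_bijective (p : ℕ) : Function.Bijective (ext R A p) :=
  bijective_of_isBaseChange (DRQc.isBaseChange_extMap p (isBaseChange_tM R A))
    (algebraMap_bijective A)

theorem ext_gen (p : ℕ) (b₀ : A) (b : Fin p → A) :
    ext R A p (DeRham.gen (KaehlerDifferential.D R A) p b₀ b) =
      OmAff.toΓ A b₀ • ιMulti Γ(Spec (CommRingCat.of A), ⊤) p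
        (fun i => (OmegaSh.dOmega (sf R A)).app ⊤ (OmAff.toΓ A (b i))) := by
  unfold DeRham.gen
  rw [map_smul, ext_ιMulti, ← algebraMap_smul Γ(Spec (CommRingCat.of A), ⊤) b₀, algebraMap_eq]
  congr 2
  funext i
  exact tM_D R A (b i)

variable {R A}
variable (D : DeRhamSh.OmegaCx (sf R A))

/-- the affine open `⊤` -/
noncomputable abbrev U₀ : (Spec (CommRingCat.of A)).affineOpens := ⟨⊤, isAffineOpen_top _⟩

/-- the comparison map from `p`-forms to the sections of `Kᵖ` -/
noncomputable def ψ (p : ℕ) : ↥(⋀[A]^p (Ω[A⁄R])) →+ (D.K.X p).obj.obj (op ⊤) :=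
  AddMonoidHom.comp
    (((D.iso p).inv.hom.app (op ⊤)).hom :
      ((Coh.toAb (D.term p)).obj.obj (op ⊤)) →+ (D.K.X p).obj.obj (op ⊤))
    (AddMonoidHom.comp
      ((D.loc p (U₀ (A := A))).symm.toLinearMap.toAddMonoidHom :
        ↥(⋀[Γ(Spec (CommRingCat.of A), ⊤)]^p Γ(Om R A, ⊤)) →+
          ((Coh.toAb (D.term p)).obj.obj (op ⊤)))
      (ext R A p).toAddMonoidHom)

theorem ψ_apply (p : ℕ) (x : ↥(⋀[A]^p (Ω[A⁄R]))) :
    ψ D p x = (D.iso p).inv.hom.app (op ⊤) ((D.loc p (U₀ (A := A))).symm (ext R A p x)) := rfl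

theorem ψ_bijective (p : ℕ) : Function.Bijective (ψ D p) := by
  have h1 : Function.Bijective ((D.iso p).inv.hom.app (op ⊤)) := by
    have : IsIso ((D.iso p).inv.hom.app (op (⊤ : (Spec (CommRingCat.of A)).Opens))) :=
      inferInstanceAs (IsIso ((sheafToPresheaf _ _ ⋙ (evaluation _ _).obj
        (op (⊤ : (Spec (CommRingCat.of A)).Opens))).map (D.iso p).inv))
    exact ConcreteCategory.bijective_of_isIso _
  exact h1.comp ((D.loc p (U₀ (A := A))).symm.bijective.comp (ext_bijective R A p))

/-- the differential of the complex corresponds to the ring-level de Rham differential -/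
theorem ψ_comm (d : ∀ p : ℕ, ↥(⋀[A]^p (Ω[A⁄R])) →ₗ[R] ↥(⋀[A]^(p + 1) (Ω[A⁄R])))
    (hd : DeRham.IsRule (KaehlerDifferential.D R A) d) (p : ℕ) (x : ↥(⋀[A]^p (Ω[A⁄R]))) :
    (D.K.d p (p + 1)).hom.app (op ⊤) (ψ D p x) = ψ D (p + 1) (d p x) := by
  refine Groth.Agent.Helper7.DR.forms_induction p
    (fun x => (D.K.d p (p + 1)).hom.app (op ⊤) (ψ D p x) = ψ D (p + 1) (d p x)) ?_ ?_ ?_ x
  · rw [map_zero, map_zero, map_zero, map_zero]
  · intro x y hx hy
    rw [map_add, map_add, map_add, map_add, hx, hy]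
  · intro b₀ b
    rw [hd p b₀ b, ψ_apply, ψ_apply, ext_gen, ext_ιMulti]
    refine (D.rule p (U₀ (A := A)) (OmAff.toΓ A b₀) (fun i => OmAff.toΓ A (b i))).trans ?_
    congr 4
    funext i
    refine Fin.cases ?_ (fun j => ?_) i
    · simp only [Fin.cons_zero]
      exact (tM_D R A b₀).symm
    · simp only [Fin.cons_succ]
      exact (tM_D R A (b j)).symm

end main

end Groth.Agent.Helper6.DRAffB
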