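import Mathlib
import Groth.Prelude
import Groth.Agent.Lead.SmOmegaB
import Groth.Agent.Lead.OmegaUnivA
import Groth.Agent.Lead.OmegaSecB
import Groth.Agent.Helper4.FinLocFree

/-!
# The sheaf of differentials of a smooth morphism is locally free of rank at most `dim X`, and its
high exterior powers vanish
-/

set_option autoImplicit false
set_option linter.style.haveILetI false
set_option linter.unusedSectionVars false
set_option linter.unusedVariables false
set_option linter.unusedSimpArgs false

universe u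

open CategoryTheory CategoryTheory.Limits AlgebraicGeometry Opposite TopologicalSpace exteriorPower

namespace Groth.Agent.Helper6.DRRank

theorem localDim_le (T : Type*) [TopologicalSpace T] (t : T) :
    FlatMor.localDim T t ≤ topologicalKrullDim T := by
  unfold FlatMor.localDim
  refine (iInf_le _ (⟨⊤, trivial⟩ : {U : TopologicalSpace.Opens T // t ∈ U})).trans ?_
  exact topologicalKrullDim_subspace_le T _

theorem fibreDimAt_le {X Y : Scheme.{u}} (f : X ⟶ Y) (x : X) :
    FlatMor.fibreDimAt f x ≤ topologicalKrullDim X := by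
  unfold FlatMor.fibreDimAt
  refine (localDim_le _ _).trans ?_
  rw [(f.fiberHomeo (f x)).isHomeomorph.topologicalKrullDim_eq]
  exact topologicalKrullDim_subspace_le X _

/-- the exterior power `Λᵖ` of a module with a basis of `r < p` elements vanishes -/
theorem subsingleton_extPow_of_basis {R M : Type*} [CommRing R] [AddCommGroup M] [Module R M]
    {r p : ℕ} (b : Module.Basis (Fin r) R M) (hp : r < p) : Subsingleton ↥(⋀[R]^p M) := by
  haveI : IsEmpty (Set.powersetCard (Fin r) p) := by
    refine ⟨fun s => ?_⟩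
    have h1 : s.1.card = p := s.2
    have h2 : s.1.card ≤ Fintype.card (Fin r) := Finset.card_le_univ _
    rw [Fintype.card_fin] at h2
    lia
  exact (b.exteriorPower p).repr.toEquiv.subsingleton

section smooth

variable {X Y : Scheme.{u}} (f : X ⟶ Y) [QuasiSeparated f] [Smooth f]

/-- `Ω_{X/Y}` of a smooth morphism is, locally, free of rank at most `dim X` -/
theorem exists_basis (n : ℕ) (hn : topologicalKrullDim X ≤ n) (x : X) :
    ∃ U : X.Opens, x ∈ U ∧ ∀ V : X.Opens, IsAffineOpen V → V ≤ U →
      ∃ r : ℕ, r ≤ n ∧ Nonempty (Module.Basis (Fin r) Γ(X, V) Γ(Omega.sheaf f, V)) := by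
  haveI : LocallyOfFinitePresentation f := inferInstance
  have hx : x ∈ f.smoothLocus := by rw [f.smoothLocus_eq_top]; trivial
  obtain ⟨-, U, r, hxU, hfree, hdim⟩ := Groth.Agent.Lead.SmOmegaB.fwd f (Omega.sheaf f)
    (OmegaSh.dOmega f) (Groth.Agent.Lead.OmegaUnivA.isUniversal f) x hx
  have hr : r ≤ n := by
    have h1 : ((r : ℕ∞) : WithBot ℕ∞) ≤ ((n : ℕ∞) : WithBot ℕ∞) := by
      have := (fibreDimAt_le f x).trans hn
      rw [hdim] at this
      exact this
    exact_mod_cast h1
  refine ⟨U, hxU, fun V hV hVU => ⟨r, hr, ?_⟩⟩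
  have h2 : Groth.Agent.Helper4.FinLocFree.IsFreeAlong (Omega.sheaf f) V.ι r :=
    Groth.Agent.Helper4.FinLocFree.IsFreeAlong.of_le hVU hfree
  exact (Groth.Agent.Helper4.FinLocFree.isFreeAlong_ι_iff_basis hV (Omega.sheaf f)).mp h2

end smooth

/-- a module whose sections over small affine opens vanish is zero -/
theorem isZero_toAb_of_local {X : Scheme.{u}} (L : X.Modules)
    (h : ∀ x : X, ∃ U : X.Opens, x ∈ U ∧ ∀ V : X.Opens, IsAffineOpen V → V ≤ U →
      Subsingleton Γ(L, V)) : IsZero (Coh.toAb L) := by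
  rw [IsZero.iff_id_eq_zero]
  ext W s
  change s = 0
  apply Groth.Agent.Helper4.QcqsMod.section_ext L W.unop s 0
  intro x hx
  obtain ⟨U, hxU, hU⟩ := h x
  obtain ⟨_, ⟨V, hV : IsAffineOpen V, rfl⟩, hxV, hVW⟩ :=
    X.isBasis_affineOpens.exists_subset_of_mem_open
      (show x ∈ ((U ⊓ W.unop : X.Opens) : Set X) from ⟨hxU, hx⟩) (U ⊓ W.unop).isOpen
  have hVU : V ≤ U := fun y hy => (hVW hy).1
  have hVW' : V ≤ W.unop := fun y hy => (hVW hy).2
  haveI := hU V hV hVU
  have e1 : L.presheaf.map (homOfLE hVW').op s = L.presheaf.map (homOfLE hVW').op 0 :=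
    Subsingleton.elim _ _
  have := congrArg (L.presheaf.germ V x hxV) e1
  rwa [TopCat.Presheaf.germ_res_apply, TopCat.Presheaf.germ_res_apply] at this

end Groth.Agent.Helper6.DRRank
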