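import Mathlib
import Groth.Agent.Helper9.StupidFil
import Groth.Agent.Helper9.StupidFil2

/-!
# Dévissage of hypercohomology along the stupid filtration (vanishing form)

If `Hom(T, Lᵖ[i - p]) = 0` for all `p` (for a bounded complex `L`), then `Hom(T, L[i]) = 0` in the
derived category.
-/

set_option autoImplicit false
set_option linter.style.haveILetI false
set_option linter.unusedSectionVars false
set_option linter.unusedVariables false
set_option linter.unusedSimpArgs false

universe w v u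

open CategoryTheory CategoryTheory.Limits CategoryTheory.Pretriangulated DerivedCategory

namespace Groth.Agent.Helper6.DRVanA

variable {𝒜 : Type u} [Category.{v} 𝒜] [Abelian 𝒜] [HasDerivedCategory.{w} 𝒜]
  (T : DerivedCategory 𝒜) (i : ℤ)

/-- every morphism `T ⟶ M[i]` in the derived category vanishes -/
def Van (M : CochainComplex 𝒜 ℤ) : Prop := ∀ x : T ⟶ (Q.obj M)⟦i⟧, x = 0

variable {T i}

theorem Van.of_iso {M M' : CochainComplex 𝒜 ℤ} (e : M ≅ M') (h : Van T i M) : Van T i M' := by
  intro x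
  have h1 := h (x ≫ (Q.map e.inv)⟦i⟧')
  have h2 : (x ≫ (Q.map e.inv)⟦i⟧') ≫ (Q.map e.hom)⟦i⟧' = x := by
    rw [Category.assoc, ← Functor.map_comp, ← Functor.map_comp, e.inv_hom_id]
    have h3 : (shiftFunctor (DerivedCategory 𝒜) i).map (Q.map (𝟙 M')) = 𝟙 _ := by
      rw [CategoryTheory.Functor.map_id, CategoryTheory.Functor.map_id]
    rw [h3]
    exact Category.comp_id _
  rw [← h2, h1, zero_comp]

theorem Van.of_isZero {M : CochainComplex 𝒜 ℤ} (h : IsZero M) : Van T i M := by
  intro x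
  have h1 : IsZero (Q.obj M) := Functor.map_isZero Q h
  have h2 : IsZero ((Q.obj M)⟦i⟧) := Functor.map_isZero (shiftFunctor (DerivedCategory 𝒜) i) h1
  exact h2.eq_of_tgt _ _

theorem Van.of_shortExact {S : ShortComplex (CochainComplex 𝒜 ℤ)} (hS : S.ShortExact)
    (h1 : Van T i S.X₁) (h3 : Van T i S.X₃) : Van T i S.X₂ := by
  intro x
  have hd := Pretriangulated.Triangle.shift_distinguished _ (triangleOfSES_distinguished hS) i
  obtain ⟨g, hg⟩ := Pretriangulated.Triangle.coyoneda_exact₂ _ hd x (h3 _)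
  have hg0 : g = 0 := h1 g
  rw [hg, hg0]
  exact zero_comp

/-- the single complex in degree `p`, in the derived category, shifted by `i` -/
noncomputable def singleShiftIso (M : 𝒜) (p n : ℤ) (h : i + n = p) :
    (Q.obj ((HomologicalComplex.single 𝒜 (ComplexShape.up ℤ) p).obj M))⟦i⟧ ≅
      (singleFunctor 𝒜 n).obj M :=
  (shiftFunctor (DerivedCategory 𝒜) i).mapIso ((singleFunctorIsoCompQ 𝒜 p).symm.app M) ≪≫
    ((singleFunctors 𝒜).shiftIso i n p h).app M

theorem Van.single (M : 𝒜) (p n : ℤ) (h : i + n = p)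
    (hM : ∀ x : T ⟶ (singleFunctor 𝒜 n).obj M, x = 0) :
    Van T i ((HomologicalComplex.single 𝒜 (ComplexShape.up ℤ) p).obj M) := by
  intro x
  have h1 := hM (x ≫ (singleShiftIso M p n h).hom)
  rw [← cancel_mono (singleShiftIso M p n h).hom, h1, zero_comp]

open Groth.Agent.Helper9.StupidFil

section main

variable (L : CochainComplex 𝒜 ℤ) (a b : ℤ)
  (hL : ∀ n : ℤ, n < a ∨ b < n → IsZero (L.X n))
  (h : ∀ p : ℤ, a ≤ p → p ≤ b → ∀ x : T ⟶ (singleFunctor 𝒜 (p - i)).obj (L.X p), x = 0)

include hL h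

theorem van_step (c : ℤ) (hc : Van T i ((Φ L).obj (c : EInt))) :
    Van T i ((Φ L).obj ((c + 1 : ℤ) : EInt)) := by
  have hle : (c : EInt) ≤ ((c + 1 : ℤ) : EInt) := by
    rw [WithBotTop.coe_le_coe]; lia
  have hS := sc_shortExact L (homOfLE hle)
  refine Van.of_shortExact hS hc ?_
  have hP : ∀ m : ℤ, Pq (c : EInt) ((c + 1 : ℤ) : EInt) m ↔ m = -(c + 1) := by
    intro m
    unfold Pq
    rw [Pa_coe_iff, Pa_coe_iff]
    constructor
    · rintro ⟨h1, h2⟩; lia
    · rintro rfl; constructor <;> lia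
  refine Van.of_iso (cutSingleIso L (-(c + 1)) hP).symm ?_
  by_cases hp : a ≤ -(c + 1) ∧ -(c + 1) ≤ b
  · exact Van.single _ _ (-(c + 1) - i) (by lia) (h _ hp.1 hp.2)
  · refine Van.of_isZero (Functor.map_isZero _ (hL _ ?_))
    by_contra hcon
    push Not at hcon
    exact hp ⟨hcon.1, hcon.2⟩

theorem van_nat (k : ℕ) : Van T i ((Φ L).obj ((-(b + 1) + k : ℤ) : EInt)) := by
  induction k with
  | zero =>
    refine Van.of_isZero (isZero_cut L (fun n hn => hL n (Or.inr ?_)))
    rw [Pa_coe_iff] at hn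
    push_cast at hn
    lia
  | succ k ih =>
    have := van_step L a b hL h _ ih
    have e : (-(b + 1) + (k : ℤ) + 1 : ℤ) = (-(b + 1) + ((k + 1 : ℕ) : ℤ) : ℤ) := by
      push_cast; ring
    rw [e] at this
    exact this

/-- **dévissage**: vanishing of `Hom(T, Lᵖ[i-p])` for all `p` gives vanishing of `Hom(T, L[i])`. -/
theorem van_of_terms : Van T i L := by
  set k : ℕ := (b + 1 - a).toNat with hk
  set c : ℤ := -(b + 1) + k with hcdef
  have hc : Van T i ((Φ L).obj (c : EInt)) := van_nat L a b hL h k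
  have hca : -a ≤ c := by
    have := Int.self_le_toNat (b + 1 - a)
    lia
  have hle : (c : EInt) ≤ ⊤ := le_top
  have hS := sc_shortExact L (homOfLE hle)
  have h2 : Van T i ((Φ L).obj ⊤) := by
    refine Van.of_shortExact hS hc ?_
    refine Van.of_isZero (isZero_cut L (fun n hn => hL n (Or.inl ?_)))
    have hn2 := hn.2
    rw [Pa_coe_iff] at hn2
    lia
  exact Van.of_iso (cutIsoOfForall L (P := Pa ⊤) Pa_top) h2

end main

end Groth.Agent.Helper6.DRVanA
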