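import Mathlib
import Groth.Prelude.Def_CohCx
import Groth.Agent.Helper6.DRVanA

/-!
# Vanishing of hypercohomology of a bounded complex of abelian sheaves from vanishing of the
cohomology of its terms
-/

set_option autoImplicit false
set_option linter.style.haveILetI false
set_option linter.unusedSectionVars false
set_option linter.unusedVariables false
set_option linter.unusedSimpArgs false

universe w w' v u

open CategoryTheory CategoryTheory.Limits DerivedCategory

namespace Groth.Agent.Helper6.DRVanB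

section abelian

variable {𝒜 : Type u} [Category.{v} 𝒜] [Abelian 𝒜] [HasDerivedCategory.{w} 𝒜]

/-- morphisms `A[0] ⟶ M[-n]`, `n > 0`, vanish -/
theorem hom_single_eq_zero_of_pos (A M : 𝒜) (n : ℤ) (hn : 0 < n)
    (x : (singleFunctor 𝒜 0).obj A ⟶ (singleFunctor 𝒜 n).obj M) : x = 0 :=
  TStructure.t.zero_of_isLE_of_isGE x 0 n hn inferInstance inferInstance

/-- morphisms `A[0] ⟶ M[q]` vanish when `Ext^q(A, M) = 0` -/
theorem hom_single_eq_zero_of_ext [HasExt.{w'} 𝒜] (A M : 𝒜) (n : ℤ) (q : ℕ) (hn : (q : ℤ) + n = 0)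
    (hE : Subsingleton (Abelian.Ext.{w'} A M q))
    (x : (singleFunctor 𝒜 0).obj A ⟶ (singleFunctor 𝒜 n).obj M) : x = 0 := by
  let e : ((singleFunctor 𝒜 0).obj M)⟦(q : ℤ)⟧ ≅ (singleFunctor 𝒜 n).obj M :=
    ((singleFunctors 𝒜).shiftIso (q : ℤ) n 0 hn).app M
  haveI : Subsingleton (ShiftedHom ((singleFunctor 𝒜 0).obj A) ((singleFunctor 𝒜 0).obj M)
      (q : ℤ)) := (Abelian.Ext.homEquiv (X := A) (Y := M) (n := q)).symm.subsingleton
  have h1 : (x ≫ e.inv : ShiftedHom ((singleFunctor 𝒜 0).obj A) ((singleFunctor 𝒜 0).obj M)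
      (q : ℤ)) = (0 : (singleFunctor 𝒜 0).obj A ⟶ ((singleFunctor 𝒜 0).obj M)⟦(q : ℤ)⟧) :=
    Subsingleton.elim _ _
  rw [← cancel_mono e.inv]
  exact h1.trans zero_comp.symm

/-- **vanishing of hypercohomology of a bounded ℕ-indexed complex** from vanishing of the `Ext`
groups of its terms. -/
theorem hom_extend_eq_zero [HasExt.{w'} 𝒜] (A : 𝒜) (K : CochainComplex 𝒜 ℕ) (i : ℤ) (N : ℕ)
    (hN : ∀ p : ℕ, N < p → IsZero (K.X p))
    (h : ∀ p q : ℕ, p ≤ N → (p : ℤ) + q = i → Subsingleton (Abelian.Ext.{w'} A (K.X p) q))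
    (x : (singleFunctor 𝒜 0).obj A ⟶ (Q.obj (K.extend ComplexShape.embeddingUpNat))⟦i⟧) :
    x = 0 := by
  refine DRVanA.van_of_terms (T := (singleFunctor 𝒜 0).obj A) (i := i)
    (K.extend ComplexShape.embeddingUpNat) 0 N ?_ ?_ x
  · rintro n (hn | hn)
    · refine HomologicalComplex.isZero_extend_X K _ n (fun j hj => ?_)
      have : (j : ℤ) = n := hj
      lia
    · have e : ComplexShape.embeddingUpNat.f n.toNat = n := by
        change ((n.toNat : ℕ) : ℤ) = n
        exact Int.toNat_of_nonneg (by lia)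
      refine IsZero.of_iso (hN n.toNat ?_) (HomologicalComplex.extendXIso K _ e)
      lia
  · intro p hp0 hpN y
    have e : ComplexShape.embeddingUpNat.f p.toNat = p := by
      change ((p.toNat : ℕ) : ℤ) = p
      exact Int.toNat_of_nonneg hp0
    let ε : (K.extend ComplexShape.embeddingUpNat).X p ≅ K.X p.toNat :=
      HomologicalComplex.extendXIso K _ e
    have key : ∀ z : (singleFunctor 𝒜 0).obj A ⟶ (singleFunctor 𝒜 (p - i)).obj (K.X p.toNat),
        z = 0 := by
      intro z
      by_cases hq : 0 < p - i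
      · exact hom_single_eq_zero_of_pos A _ _ hq z
      · have hq' : 0 ≤ i - p := by lia
        refine hom_single_eq_zero_of_ext A _ (p - i) (i - p).toNat ?_
          (h p.toNat (i - p).toNat (by lia) ?_) z
        · rw [Int.toNat_of_nonneg hq']; ring
        · rw [Int.toNat_of_nonneg hq', Int.toNat_of_nonneg hp0]; ring
    have h1 := key (y ≫ (singleFunctor 𝒜 (p - i)).map ε.hom)
    rw [← cancel_mono ((singleFunctor 𝒜 (p - i)).map ε.hom), h1, zero_comp]

end abelian

section site

variable {C : Type u} [SmallCategory C] {J : GrothendieckTopology C}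
  [HasDerivedCategory.{w} (Sheaf J AddCommGrpCat.{u})] [HasExt.{w'} (Sheaf J AddCommGrpCat.{u})]

theorem subsingleton_HDU (K : CochainComplex (Sheaf J AddCommGrpCat.{u}) ℕ) (U : C) (i : ℤ)
    (N : ℕ) (hN : ∀ p : ℕ, N < p → IsZero (K.X p))
    (h : ∀ p q : ℕ, p ≤ N → (p : ℤ) + q = i →
      Subsingleton (Abelian.Ext.{w'} (CohCx.freeSheaf J U) (K.X p) q)) :
    Subsingleton (CohCx.HDU (Q.obj (K.extend ComplexShape.embeddingUpNat)) i U) :=
  subsingleton_of_forall_eq 0 (fun x => hom_extend_eq_zero _ K i N hN h x)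

end site

end Groth.Agent.Helper6.DRVanB
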