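import Mathlib
import Groth.Prelude.Def_CohCx
import Groth.Agent.Helper6.DRVanB

/-!
# Hypercohomology vanishing on a site with a terminal object, in terms of `Sheaf.H`
-/

set_option autoImplicit false
set_option linter.style.haveILetI false
set_option linter.unusedSectionVars false
set_option linter.unusedVariables false
set_option linter.unusedSimpArgs false

universe w w' v u

open CategoryTheory CategoryTheory.Limits DerivedCategory Opposite Abelian

namespace Groth.Agent.Helper6.DRVanC

variable {C : Type u} [SmallCategory C] (J : GrothendieckTopology C)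

/-- `ℤ[PUnit] ≅ ℤ` -/
noncomputable def freePUnitIso :
    AddCommGrpCat.free.{u}.obj (PUnit.{u + 1} : Type u) ≅ AddCommGrpCat.of (ULift.{u} ℤ) :=
  AddEquiv.toAddCommGrpIso (X := AddCommGrpCat.free.{u}.obj (PUnit.{u + 1} : Type u))
    (Y := AddCommGrpCat.of (ULift.{u} ℤ))
    ((FreeAbelianGroup.uniqueEquiv (PUnit.{u + 1})).trans AddEquiv.ulift.symm)

/-- the presheaf represented by a terminal object is constant -/
noncomputable def yonedaTerminalIso {T : C} (hT : IsTerminal T) :
    yoneda.obj T ≅ (Functor.const Cᵒᵖ).obj (PUnit.{u + 1} : Type u) :=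
  NatIso.ofComponents
    (fun V => haveI : Unique (V.unop ⟶ T) := ⟨⟨hT.from V.unop⟩, fun m => hT.hom_ext _ _⟩
      (Equiv.equivPUnit.{u + 1, u + 1} (V.unop ⟶ T)).toIso)
    (fun _ => by ext; rfl)

/-- the free abelian sheaf on a terminal object is the constant sheaf `ℤ` -/
noncomputable def freeSheafTerminalIso {T : C} (hT : IsTerminal T) :
    CohCx.freeSheaf J T ≅
      (constantSheaf J AddCommGrpCat.{u}).obj (AddCommGrpCat.of (ULift.{u} ℤ)) :=
  (presheafToSheaf J AddCommGrpCat.{u}).mapIso
    (Functor.isoWhiskerRight (yonedaTerminalIso hT) AddCommGrpCat.free.{u} ≪≫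
      Functor.constComp _ _ _ ≪≫ (Functor.const Cᵒᵖ).mapIso freePUnitIso)

variable {J}

theorem subsingleton_ext_freeSheaf [HasExt.{w'} (Sheaf J AddCommGrpCat.{u})] {T : C}
    (hT : IsTerminal T) (F : Sheaf J AddCommGrpCat.{u}) (q : ℕ)
    (h : Subsingleton (Sheaf.H F q)) :
    Subsingleton (Ext.{w'} (CohCx.freeSheaf J T) F q) := by
  have e : (extFunctor q).obj (op ((constantSheaf J AddCommGrpCat.{u}).obj
      (AddCommGrpCat.of (ULift.{u} ℤ)))) ≅ (extFunctor q).obj (op (CohCx.freeSheaf J T)) :=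
    (extFunctor q).mapIso (freeSheafTerminalIso J hT).op
  have h' : Subsingleton (((extFunctor q).obj (op ((constantSheaf J AddCommGrpCat.{u}).obj
      (AddCommGrpCat.of (ULift.{u} ℤ))))).obj F) := h
  exact ((e.app F).symm.addCommGroupIsoToAddEquiv.toEquiv).subsingleton

theorem subsingleton_HDU_of_H [HasDerivedCategory.{w} (Sheaf J AddCommGrpCat.{u})]
    [HasExt.{w'} (Sheaf J AddCommGrpCat.{u})] {T : C} (hT : IsTerminal T)
    (K : CochainComplex (Sheaf J AddCommGrpCat.{u}) ℕ) (i : ℤ) (N : ℕ)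
    (hN : ∀ p : ℕ, N < p → IsZero (K.X p))
    (h : ∀ p q : ℕ, p ≤ N → (p : ℤ) + q = i → Subsingleton (Sheaf.H (K.X p) q)) :
    Subsingleton (CohCx.HDU (Q.obj (K.extend ComplexShape.embeddingUpNat)) i T) :=
  DRVanB.subsingleton_HDU K T i N hN
    (fun p q hp hpq => subsingleton_ext_freeSheaf hT (K.X p) q (h p q hp hpq))

end Groth.Agent.Helper6.DRVanC
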