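import Mathlib
import Groth.Prelude
import Groth.Agent.Helper6.DRVanC
import Groth.Agent.Helper6.DRQc
import Groth.Agent.Helper6.DRRank

/-!
# de Rham cohomology of a smooth morphism: vanishing from Hodge-type vanishing
-/

set_option autoImplicit false
set_option linter.style.haveILetI false
set_option linter.unusedSectionVars false
set_option linter.unusedVariables false
set_option linter.unusedSimpArgs false

universe u

open CategoryTheory CategoryTheory.Limits AlgebraicGeometry Opposite TopologicalSpace exteriorPower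

namespace Groth.Agent.Helper6.DRVanD

variable {X Y : Scheme.{u}} (f : X ⟶ Y) [QuasiSeparated f] (D : DeRhamSh.OmegaCx f)

/-- the terms of a de Rham complex are quasi-coherent -/
theorem isQuasicoherent_term (p : ℕ) : (D.term p).IsQuasicoherent :=
  haveI := Groth.Agent.Lead.OmegaSecB.isQuasicoherent_omega f
  DRQc.isQuasicoherent (Omega.sheaf f) (D.term p) p (D.loc p) (D.loc_res p)

section smooth

variable [Smooth f] (n : ℕ) (hn : topologicalKrullDim X ≤ n)

include hn in
/-- the terms of a de Rham complex of a smooth morphism vanish above the dimension -/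
theorem isZero_K (p : ℕ) (hp : n < p) : IsZero (D.K.X p) := by
  refine IsZero.of_iso (DRRank.isZero_toAb_of_local (D.term p) (fun x => ?_)) (D.iso p)
  obtain ⟨U, hxU, hU⟩ := DRRank.exists_basis f n hn x
  refine ⟨U, hxU, fun V hV hVU => ?_⟩
  obtain ⟨r, hr, ⟨b⟩⟩ := hU V hV hVU
  haveI : Subsingleton ↥(⋀[Γ(X, V)]^p Γ(Omega.sheaf f, V)) :=
    DRRank.subsingleton_extPow_of_basis b (by lia)
  exact (D.loc p ⟨V, hV⟩).toEquiv.subsingleton

include hn in
/-- **vanishing of de Rham cohomology from vanishing of Hodge cohomology** -/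
theorem subsingleton_HdR
    [HasDerivedCategory.{u} (Sheaf (Opens.grothendieckTopology ↥X) AddCommGrpCat.{u})] (i : ℤ)
    (h : ∀ p q : ℕ, p ≤ n → (p : ℤ) + q = i → Subsingleton (Coh.HH X (D.term p) q)) :
    Subsingleton (DeRhamSh.HdR D i) := by
  refine DRVanC.subsingleton_HDU_of_H (J := Opens.grothendieckTopology ↥X)
    (T := (⊤ : Opens ↥X)) isTerminalTop D.K i n (fun p hp => isZero_K f D n hn p hp)
    (fun p q hp hpq => ?_)
  have e := (Sheaf.functorH.{u, u, u, u} (Opens.grothendieckTopology ↥X) q).mapIso (D.iso p)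
  haveI : Subsingleton ↑((Sheaf.functorH.{u, u, u, u} (Opens.grothendieckTopology ↥X) q).obj
      (Coh.toAb (D.term p))) := h p q hp hpq
  exact (e.addCommGroupIsoToAddEquiv.toEquiv).subsingleton

end smooth

end Groth.Agent.Helper6.DRVanD
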