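import Mathlib
import Groth.Prelude
import Groth.Agent.Helper6.DRAffA
import Groth.Agent.Helper6.DRAffB
import Groth.Agent.Helper6.DRVanD
import Groth.Agent.Helper1.SerreD

/-!
# de Rham cohomology of an affine scheme is the cohomology of the ring-level de Rham complex
-/

set_option autoImplicit false
set_option linter.style.haveILetI false
set_option linter.unusedSectionVars false
set_option linter.unusedVariables false
set_option linter.unusedSimpArgs false

universe u

open CategoryTheory AlgebraicGeometry Opposite TopologicalSpace exteriorPower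

namespace Groth.Agent.Helper6.DRAffC

open Groth.Agent.Helper9.HyB

variable {R A : Type u} [CommRing R] [CommRing A] [Algebra R A]
  (D : DeRhamSh.OmegaCx (DRAffB.sf R A))

/-- the terms of a de Rham complex on an affine scheme are acyclic -/
theorem acycAt_K (p : ℕ) : AcycAt (⊤ : (Spec (CommRingCat.of A)).Opens) (D.K.X p) := by
  refine DRAffA.acycAt_of_iso (D.iso p).symm ?_
  intro q
  haveI := DRVanD.isQuasicoherent_term (DRAffB.sf R A) D p
  exact Groth.Agent.Helper1.Serre.subsingleton_HU_of_isAffineOpen (D.term p)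
    (isAffineOpen_top (Spec (CommRingCat.of A))) q

/-- the complex of global sections -/
noncomputable abbrev ΓK : CochainComplex AddCommGrpCat.{u} ℕ :=
  ((DRAffA.ΓU (J := Opens.grothendieckTopology ↥(Spec (CommRingCat.of A)))
    (⊤ : (Spec (CommRingCat.of A)).Opens)).mapHomologicalComplex (ComplexShape.up ℕ)).obj D.K

section

variable {d : ∀ p : ℕ, ↥(⋀[A]^p (Ω[A⁄R])) →ₗ[R] ↥(⋀[A]^(p + 1) (Ω[A⁄R]))}
  (hd : DeRham.IsDiff (KaehlerDifferential.D R A) d)

/-- the ring-level de Rham complex, as a complex of abelian groups -/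
noncomputable abbrev Fcx : CochainComplex AddCommGrpCat.{u} ℕ :=
  ((forget₂ (ModuleCat.{u} R) AddCommGrpCat.{u}).mapHomologicalComplex
    (ComplexShape.up ℕ)).obj (DeRham.cx hd)

/-- the isomorphism of complexes -/
noncomputable def cxIso : Fcx hd ≅ ΓK D :=
  HomologicalComplex.Hom.isoOfComponents
    (fun p => (AddEquiv.ofBijective (DRAffB.ψ D p) (DRAffB.ψ_bijective D p)).toAddCommGrpIso)
    (by
      rintro i j (rfl : i + 1 = j)
      ext x
      have h1 : (DeRham.cx hd).d i (i + 1) = ModuleCat.ofHom (d i) := by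
        unfold DeRham.cx
        exact CochainComplex.of_d (fun p => ModuleCat.of R ↥(⋀[A]^p (Ω[A⁄R])))
          (fun p => ModuleCat.ofHom (d p)) i
      change (D.K.d i (i + 1)).hom.app (op ⊤) (DRAffB.ψ D i x) =
        DRAffB.ψ D (i + 1) (((DeRham.cx hd).d i (i + 1)).hom x)
      rw [h1]
      exact DRAffB.ψ_comm D d hd.1 i x)

/-- **affine comparison** -/
theorem main
    [HasDerivedCategory.{u} (Sheaf (Opens.grothendieckTopology ↥(Spec (CommRingCat.of A)))
      AddCommGrpCat.{u})] (n : ℕ) :
    Nonempty (DeRhamSh.HdR D (n : ℤ) ≃+ ↑(DeRham.H hd n)) := by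
  obtain ⟨e1⟩ := DRAffA.nonempty_sections_equiv_nat D.K
    (⊤ : (Spec (CommRingCat.of A)).Opens) (acycAt_K D) n
  let e2 : (Fcx hd).homology n ≅ (ΓK D).homology n :=
    HomologicalComplex.homologyMapIso (cxIso D hd) n
  let e3 : (Fcx hd).homology n ≅
      (forget₂ (ModuleCat.{u} R) AddCommGrpCat.{u}).obj ((DeRham.cx hd).homology n) :=
    ((DeRham.cx hd).sc n).mapHomologyIso (forget₂ (ModuleCat.{u} R) AddCommGrpCat.{u})
  exact ⟨e1.symm.trans ((e2.symm ≪≫ e3).addCommGroupIsoToAddEquiv)⟩

end

end Groth.Agent.Helper6.DRAffC
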