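import Mathlib
import Groth.Prelude.Def_DeRham
import Groth.Agent.Helper7.DR
import Groth.Agent.Helper7.DRH3

/-!
# The algebraic Poincaré lemma for polynomial rings over a `ℚ`-algebra
-/

set_option autoImplicit false
set_option linter.style.haveILetI false
set_option linter.unusedSectionVars false
set_option linter.unusedVariables false
set_option linter.unusedSimpArgs false

universe u

open exteriorPower DeRham KaehlerDifferential Polynomial

namespace Groth.Agent.Helper6.DRPoinc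

variable (k : Type u) [CommRing k]

/-- the constant `0`-form `c` -/
noncomputable def const0 (B : Type u) [CommRing B] [Algebra k B] (c : k) : ↥(⋀[B]^0 (Ω[B⁄k])) :=
  gen (D k B) 0 (algebraMap k B c) (fun i => i.elim0)

/-- existence of a de Rham differential -/
def HasD (B : Type u) [CommRing B] [Algebra k B] : Prop :=
  ∃ d : ∀ p : ℕ, ↥(⋀[B]^p (Ω[B⁄k])) →ₗ[k] ↥(⋀[B]^(p + 1) (Ω[B⁄k])), IsRule (D k B) d

/-- the Poincaré lemma holds for `B` -/
def Poinc (B : Type u) [CommRing B] [Algebra k B] : Prop :=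
  ∀ (d : ∀ p : ℕ, ↥(⋀[B]^p (Ω[B⁄k])) →ₗ[k] ↥(⋀[B]^(p + 1) (Ω[B⁄k]))), IsRule (D k B) d →
    (∀ (i : ℕ) (x : ↥(⋀[B]^(i + 1) (Ω[B⁄k]))), d (i + 1) x = 0 → ∃ y, d i y = x) ∧
    (∀ x : ↥(⋀[B]^0 (Ω[B⁄k])), d 0 x = 0 → ∃ c : k, x = const0 k B c)

section cxmap

variable {k}
variable {B B' : Type u} [CommRing B] [CommRing B'] [Algebra k B] [Algebra k B'] [Algebra B B']
  [IsScalarTower k B B']
  (ψ : ∀ p : ℕ, ↥(⋀[B]^p (Ω[B⁄k])) →+ ↥(⋀[B']^p (Ω[B'⁄k])))
  (hψ : IsCxMap (D k B) (D k B') (algebraMap B B') ψ)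

theorem smul_gen (p : ℕ) (c : k) (b₀ : B) (b : Fin p → B) :
    c • gen (D k B) p b₀ b = gen (D k B) p (c • b₀) b := by
  unfold gen
  rw [smul_assoc]

include hψ in
theorem cxmap_smul (p : ℕ) (c : k) (x : ↥(⋀[B]^p (Ω[B⁄k]))) : ψ p (c • x) = c • ψ p x := by
  refine Groth.Agent.Helper7.DR.forms_induction p (fun x => ψ p (c • x) = c • ψ p x) ?_ ?_ ?_ x
  · rw [smul_zero, map_zero, smul_zero]
  · intro x y hx hy
    rw [smul_add, map_add, map_add, smul_add, hx, hy]
  · intro b₀ b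
    rw [smul_gen, hψ p, hψ p, smul_gen, Algebra.smul_def, map_mul, ← IsScalarTower.algebraMap_apply,
      ← Algebra.smul_def]

include hψ in
theorem cxmap_const0 (c : k) : ψ 0 (const0 k B c) = const0 k B' c := by
  unfold const0
  rw [hψ 0, ← IsScalarTower.algebraMap_apply]
  congr 1
  funext i
  exact i.elim0

theorem ιMulti_cons_eq_gen (p : ℕ) (b₀ : B) (b : Fin p → B) :
    ιMulti B (p + 1) (Fin.cons (D k B b₀) (fun i => D k B (b i))) =
      gen (D k B) (p + 1) 1 (Fin.cons b₀ b) := by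
  unfold gen
  rw [one_smul, Groth.Agent.Helper7.DR.cons_eq]

end cxmap

section retract

variable {k}
variable {B B' : Type u} [CommRing B] [CommRing B'] [Algebra k B] [Algebra k B']

/-- the existence of a de Rham differential descends to retracts -/
theorem HasD.of_retract (ι : B →ₐ[k] B') (π : B' →ₐ[k] B) (hπι : ∀ b, π (ι b) = b)
    (h : HasD k B') : HasD k B := by
  obtain ⟨d', hd'⟩ := h
  letI algι : Algebra B B' := ι.toRingHom.toAlgebra
  haveI : IsScalarTower k B B' := IsScalarTower.of_algebraMap_eq (fun c => (ι.commutes c).symm)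
  obtain ⟨ψι, hψι⟩ := Groth.Agent.Helper7.DR.exists_cxmap k k B B'
  letI algπ : Algebra B' B := π.toRingHom.toAlgebra
  haveI : IsScalarTower k B' B := IsScalarTower.of_algebraMap_eq (fun c => (π.commutes c).symm)
  obtain ⟨ψπ, hψπ⟩ := Groth.Agent.Helper7.DR.exists_cxmap k k B' B
  have hι : ∀ b : B, algebraMap B B' b = ι b := fun b => rfl
  have hπ : ∀ b : B', algebraMap B' B b = π b := fun b => rfl
  let d : ∀ p : ℕ, ↥(⋀[B]^p (Ω[B⁄k])) →ₗ[k] ↥(⋀[B]^(p + 1) (Ω[B⁄k])) := fun p =>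
    { toFun := fun x => ψπ (p + 1) (d' p (ψι p x))
      map_add' := fun x y => by rw [map_add, map_add, map_add]
      map_smul' := fun c x => by
        rw [cxmap_smul ψι hψι, map_smul, cxmap_smul ψπ hψπ]
        rfl }
  refine ⟨d, fun p b₀ b => ?_⟩
  change ψπ (p + 1) (d' p (ψι p (gen (D k B) p b₀ b))) = _
  rw [hψι p, hd' p, ιMulti_cons_eq_gen, hψπ (p + 1), ιMulti_cons_eq_gen, map_one]
  congr 1
  funext i
  refine Fin.cases ?_ (fun j => ?_) i
  · simp only [Fin.cons_zero]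
    rw [hι, hπ, hπι]
  · simp only [Fin.cons_succ]
    rw [hι, hπ, hπι]

end retract

section iso

variable {k}
variable {B B' : Type u} [CommRing B] [CommRing B'] [Algebra k B] [Algebra k B']

/-- the Poincaré lemma is invariant under isomorphisms -/
theorem Poinc.of_equiv (e : B ≃ₐ[k] B') (hB : HasD k B) (h : Poinc k B) : Poinc k B' := by
  intro d' hd'
  obtain ⟨d, hd⟩ := hB
  obtain ⟨h1, h0⟩ := h d hd
  letI algι : Algebra B B' := e.toAlgHom.toRingHom.toAlgebra
  haveI : IsScalarTower k B B' := IsScalarTower.of_algebraMap_eq (fun c => (e.commutes c).symm)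
  obtain ⟨ψ, hψ⟩ := Groth.Agent.Helper7.DR.exists_cxmap k k B B'
  letI algπ : Algebra B' B := e.symm.toAlgHom.toRingHom.toAlgebra
  haveI : IsScalarTower k B' B :=
    IsScalarTower.of_algebraMap_eq (fun c => (e.symm.commutes c).symm)
  obtain ⟨ψ', hψ'⟩ := Groth.Agent.Helper7.DR.exists_cxmap k k B' B
  have hι : ∀ b : B, algebraMap B B' b = e b := fun b => rfl
  have hπ : ∀ b : B', algebraMap B' B b = e.symm b := fun b => rfl
  have hid : ∀ p x, ψ p (ψ' p x) = x := by
    intro p x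
    refine Groth.Agent.Helper7.DR.forms_induction p (fun x => ψ p (ψ' p x) = x) ?_ ?_ ?_ x
    · rw [map_zero, map_zero]
    · intro x y hx hy
      rw [map_add, map_add, hx, hy]
    · intro b₀ b
      rw [hψ' p, hψ p]
      congr 1
      · rw [hπ, hι, AlgEquiv.apply_symm_apply]
      · funext i
        rw [hπ, hι, AlgEquiv.apply_symm_apply]
  have hc : ∀ p x, ψ (p + 1) (d p x) = d' p (ψ p x) :=
    Groth.Agent.Helper7.DR.cxmap_comm d hd d' hd' ψ hψ
  have hc' : ∀ p x, ψ' (p + 1) (d' p x) = d p (ψ' p x) :=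
    Groth.Agent.Helper7.DR.cxmap_comm d' hd' d hd ψ' hψ'
  constructor
  · intro i x hx
    have h2 : d (i + 1) (ψ' (i + 1) x) = 0 := by rw [← hc', hx, map_zero]
    obtain ⟨y, hy⟩ := h1 i _ h2
    exact ⟨ψ i y, by rw [← hc, hy, hid]⟩
  · intro x hx
    have h2 : d 0 (ψ' 0 x) = 0 := by rw [← hc', hx, map_zero]
    obtain ⟨c, hc0⟩ := h0 _ h2
    exact ⟨c, by rw [← hid 0 x, hc0, cxmap_const0 ψ hψ]⟩

end iso

section step

variable {k} [Algebra ℚ k]
variable {B : Type u} [CommRing B] [Algebra k B]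

/-- the Poincaré lemma passes to the polynomial ring -/
theorem Poinc.polynomial (hB : HasD k B) (h : Poinc k B) : Poinc k B[X] := by
  intro d' hd'
  obtain ⟨d, hd⟩ := hB
  obtain ⟨h1, h0⟩ := h d hd
  obtain ⟨ψ, hψ⟩ := Groth.Agent.Helper7.DR.exists_cxmap k k B B[X]
  have hc : ∀ p x, ψ (p + 1) (d p x) = d' p (ψ p x) :=
    Groth.Agent.Helper7.DR.cxmap_comm d hd d' hd' ψ hψ
  have hD := Groth.Agent.Helper7.DR.rule_imp_diff d hd
  have hD' := Groth.Agent.Helper7.DR.rule_imp_diff d' hd'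
  constructor
  · intro i x hx
    obtain ⟨hs, -⟩ := Groth.Agent.Helper7.DRH.main k B ψ hψ d hD d' hD' hc (i + 1)
    obtain ⟨x₀, hx₀, hdiff⟩ := hs x hx
    obtain ⟨u, hu⟩ : ∃ u, d' i u = x - ψ (i + 1) x₀ := hdiff
    obtain ⟨y₀, hy₀⟩ := h1 i x₀ hx₀
    refine ⟨ψ i y₀ + u, ?_⟩
    rw [map_add, ← hc, hy₀, hu]
    abel
  · intro x hx
    obtain ⟨hs, -⟩ := Groth.Agent.Helper7.DRH.main k B ψ hψ d hD d' hD' hc 0
    obtain ⟨x₀, hx₀, hdiff⟩ := hs x hx
    have hdiff' : x - ψ 0 x₀ = 0 := hdiff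
    obtain ⟨c, hc0⟩ := h0 x₀ hx₀
    exact ⟨c, by rw [sub_eq_zero.mp hdiff', hc0, cxmap_const0 ψ hψ]⟩

end step

section base

variable {k}
variable {B : Type u} [CommRing B] [Algebra k B]

/-- the Poincaré lemma for quotients of the base ring -/
theorem Poinc.of_surjective (hs : Function.Surjective (algebraMap k B)) : Poinc k B := by
  intro d hd
  haveI : Subsingleton (Ω[B⁄k]) := KaehlerDifferential.subsingleton_of_surjective k B hs
  constructor
  · intro i x hx
    have hx0 : x = 0 := by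
      refine Groth.Agent.Helper7.DR.forms_induction (i + 1) (fun x => x = 0) rfl ?_ ?_ x
      · intro x y hx hy
        rw [hx, hy, add_zero]
      · intro b₀ b
        unfold gen
        have h0 : (fun j => D k B (b j)) 0 = 0 := Subsingleton.elim _ _
        rw [(ιMulti B (i + 1)).map_coord_zero 0 h0, smul_zero]
    exact ⟨0, by rw [map_zero, hx0]⟩
  · intro x hx
    have hx' : ∃ b₀ : B, x = gen (D k B) 0 b₀ (fun i => i.elim0) := by
      refine Groth.Agent.Helper7.DR.forms_induction 0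
        (fun x => ∃ b₀ : B, x = gen (D k B) 0 b₀ (fun i => i.elim0)) ?_ ?_ ?_ x
      · exact ⟨0, by unfold gen; rw [zero_smul]⟩
      · rintro x y ⟨a, rfl⟩ ⟨b, rfl⟩
        exact ⟨a + b, by unfold gen; rw [add_smul]⟩
      · intro b₀ b
        refine ⟨b₀, ?_⟩
        congr 1
        funext i
        exact i.elim0
    obtain ⟨b₀, rfl⟩ := hx'
    obtain ⟨c, rfl⟩ := hs b₀
    exact ⟨c, rfl⟩

end base

section mv

/-- the inclusion `k[x₁..x_m] → k[x₁..x_n]` -/
noncomputable def inc {m n : ℕ} (h : m ≤ n) :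
    MvPolynomial (Fin m) k →ₐ[k] MvPolynomial (Fin n) k :=
  MvPolynomial.rename (Fin.castLE h)

/-- the retraction `k[x₁..x_n] → k[x₁..x_m]` -/
noncomputable def ret (m n : ℕ) :
    MvPolynomial (Fin n) k →ₐ[k] MvPolynomial (Fin m) k :=
  MvPolynomial.aeval (fun j : Fin n => if hj : j.1 < m then MvPolynomial.X ⟨j.1, hj⟩ else 0)

theorem ret_inc {m n : ℕ} (h : m ≤ n) (b : MvPolynomial (Fin m) k) :
    ret k m n (inc k h b) = b := by
  have : (ret k m n).comp (inc k h) = AlgHom.id k _ := by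
    apply MvPolynomial.algHom_ext
    intro i
    change ret k m n (inc k h (MvPolynomial.X i)) = MvPolynomial.X i
    unfold inc ret
    rw [MvPolynomial.rename_X, MvPolynomial.aeval_X]
    have hi : (Fin.castLE h i).1 < m := i.2
    rw [dif_pos hi]
    rfl
  exact congrArg (fun φ : MvPolynomial (Fin m) k →ₐ[k] MvPolynomial (Fin m) k => φ b) this

variable {k}

theorem hasD_of_le {m n : ℕ} (h : m ≤ n) (hn : HasD k (MvPolynomial (Fin n) k)) :
    HasD k (MvPolynomial (Fin m) k) :=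
  HasD.of_retract (inc k h) (ret k m n) (ret_inc k h) hn

/-- **the algebraic Poincaré lemma** for `k[x₁, …, x_n]`, `k` a `ℚ`-algebra -/
theorem poinc_mvPolynomial [Algebra ℚ k] (n : ℕ) (hn : HasD k (MvPolynomial (Fin n) k)) :
    ∀ m : ℕ, m ≤ n → Poinc k (MvPolynomial (Fin m) k)
  | 0, _ => Poinc.of_surjective (MvPolynomial.C_surjective (Fin 0))
  | m + 1, h => by
    have h1 : Poinc k (MvPolynomial (Fin m) k) := poinc_mvPolynomial n hn m (by lia)
    have hm : HasD k (MvPolynomial (Fin m) k) := hasD_of_le (by lia) hn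
    have hm1 : HasD k (MvPolynomial (Fin (m + 1)) k) := hasD_of_le h hn
    let e : (MvPolynomial (Fin m) k)[X] ≃ₐ[k] MvPolynomial (Fin (m + 1)) k :=
      (MvPolynomial.finSuccEquiv k m).symm
    have hX : HasD k (MvPolynomial (Fin m) k)[X] :=
      HasD.of_retract e.toAlgHom e.symm.toAlgHom (fun b => e.symm_apply_apply b) hm1
    exact Poinc.of_equiv e hX (Poinc.polynomial hm h1)

end mv

end Groth.Agent.Helper6.DRPoinc
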