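import Mathlib
import Groth.Prelude
import Groth.Agent.Helper6.DRAffC
import Groth.Agent.Helper6.DRPoinc

/-!
# de Rham cohomology of affine space in characteristic zero
-/

set_option autoImplicit false
set_option linter.style.haveILetI false
set_option linter.unusedSectionVars false
set_option linter.unusedVariables false
set_option linter.unusedSimpArgs false

universe u

open CategoryTheory CategoryTheory.Limits AlgebraicGeometry Opposite TopologicalSpace exteriorPower

namespace Groth.Agent.Helper6.DRAffD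

open Groth.Agent.Helper9.HyB

section concrete

variable (C : CochainComplex AddCommGrpCat.{u} ℕ)

theorem subsingleton_homology_succ (j : ℕ)
    (h : ∀ x : C.X (j + 1), C.d (j + 1) (j + 2) x = 0 → ∃ y : C.X j, C.d j (j + 1) y = x) :
    Subsingleton (C.homology (j + 1)) := by
  have hex : C.ExactAt (j + 1) := by
    rw [HomologicalComplex.exactAt_iff' C j (j + 1) (j + 2) (by simp) (by simp),
      ShortComplex.ab_exact_iff]
    intro x hx
    exact h x hx
  exact AddCommGrpCat.subsingleton_of_isZero hex.isZero_homology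

/-- `H⁰` of a cochain complex of abelian groups is the kernel of the first differential -/
noncomputable def homologyZeroIso :
    C.homology 0 ≅ AddCommGrpCat.of (AddMonoidHom.ker (C.d 0 1).hom) :=
  C.homologyIsoSc' 0 0 1 (by simp) (by simp) ≪≫
    ((C.sc' 0 0 1).asIsoHomologyπ (C.shape 0 0 (by simp))).symm ≪≫ (C.sc' 0 0 1).abCyclesIso

end concrete

section neg

variable {C : Type u} [SmallCategory C] {J : GrothendieckTopology C}
  [HasDerivedCategory.{u} (Sheaf J AddCommGrpCat.{u})]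

theorem subsingleton_HDU_neg (K : CochainComplex (Sheaf J AddCommGrpCat.{u}) ℕ) (U : C)
    (hK : ∀ p, AcycAt U (K.X p)) (i : ℤ) (hi : i < 0) :
    Subsingleton (CohCx.HDU (DerivedCategory.Q.obj (K.extend ComplexShape.embeddingUpNat)) i U) := by
  have ha : ∀ i : ℤ, i < 0 → IsZero ((K.extend ComplexShape.embeddingUpNat).X i) := by
    intro i hi
    refine HomologicalComplex.isZero_extend_X K _ i (fun j hj => ?_)
    have : (j : ℤ) = i := hj
    lia
  have hL : ∀ i, AcycAt U ((K.extend ComplexShape.embeddingUpNat).X i) := by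
    intro i
    by_cases hi : i < 0
    · exact acycAt_of_isZero U _ (ha i hi)
    · have e : ComplexShape.embeddingUpNat.f i.toNat = i := by
        change ((i.toNat : ℕ) : ℤ) = i
        exact Int.toNat_of_nonneg (by lia)
      exact DRAffA.acycAt_of_iso (HomologicalComplex.extendXIso K _ e).symm (hK i.toNat)
  obtain ⟨e1⟩ := DRAffA.nonempty_sections_equiv (K.extend ComplexShape.embeddingUpNat) 0 ha U hL i
  have hz : IsZero (((CohCx.sectCx J U).obj (K.extend ComplexShape.embeddingUpNat)).X i) :=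
    (DRAffA.ΓU (J := J) U).map_isZero (ha i hi)
  have hz' := (HomologicalComplex.ExactAt.of_isZero hz).isZero_homology
  haveI := AddCommGrpCat.subsingleton_of_isZero hz'
  exact e1.symm.toEquiv.subsingleton

end neg

section hasD

variable {k B : Type u} [CommRing k] [CommRing B] [Algebra k B]

/-- an additive family satisfying the rule is linear -/
theorem hasD_of_add (d : ∀ p : ℕ, ↥(⋀[B]^p (Ω[B⁄k])) →+ ↥(⋀[B]^(p + 1) (Ω[B⁄k])))
    (h : ∀ (p : ℕ) (b₀ : B) (b : Fin p → B),
      d p (DeRham.gen (KaehlerDifferential.D k B) p b₀ b) =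
        ιMulti B (p + 1) (Fin.cons (KaehlerDifferential.D k B b₀)
          (fun i => KaehlerDifferential.D k B (b i)))) :
    DRPoinc.HasD k B := by
  refine ⟨fun p => { toFun := d p, map_add' := map_add (d p), map_smul' := fun c x => ?_ }, h⟩
  change d p (c • x) = c • d p x
  refine Groth.Agent.Helper7.DR.forms_induction p (fun x => d p (c • x) = c • d p x) ?_ ?_ ?_ x
  · rw [smul_zero, map_zero, smul_zero]
  · intro x y hx hy
    rw [smul_add, map_add, map_add, smul_add, hx, hy]
  · intro b₀ b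
    rw [DRPoinc.smul_gen, h, h, Derivation.map_smul, ← algebraMap_smul B c
      (KaehlerDifferential.D k B b₀), ← algebraMap_smul B c (ιMulti B (p + 1) _)]
    exact (ιMulti B (p + 1)).toMultilinearMap.cons_smul _ _ _

end hasD

section main

variable {R A : Type u} [CommRing R] [CommRing A] [Algebra R A]
  (D : DeRhamSh.OmegaCx (DRAffB.sf R A))

theorem ψ_rule (p : ℕ) (b₀ : A) (b : Fin p → A) :
    (D.K.d p (p + 1)).hom.app (op ⊤)
        (DRAffB.ψ D p (DeRham.gen (KaehlerDifferential.D R A) p b₀ b)) =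
      DRAffB.ψ D (p + 1) (ιMulti A (p + 1) (Fin.cons (KaehlerDifferential.D R A b₀)
        (fun i => KaehlerDifferential.D R A (b i)))) := by
  rw [DRAffB.ψ_apply, DRAffB.ψ_apply, DRAffB.ext_gen, DRAffB.ext_ιMulti]
  refine (D.rule p (DRAffB.U₀ (A := A)) (OmAff.toΓ A b₀) (fun i => OmAff.toΓ A (b i))).trans ?_
  congr 4
  funext i
  refine Fin.cases ?_ (fun j => ?_) i
  · simp only [Fin.cons_zero]
    exact (DRAffB.tM_D R A b₀).symm
  · simp only [Fin.cons_succ]
    exact (DRAffB.tM_D R A (b j)).symm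

include D in
/-- a de Rham complex on `Spec A` yields a ring-level de Rham differential -/
theorem hasD : DRPoinc.HasD R A := by
  let e : ∀ p, ↥(⋀[A]^p (Ω[A⁄R])) ≃+ (D.K.X p).obj.obj (op ⊤) := fun p =>
    AddEquiv.ofBijective (DRAffB.ψ D p) (DRAffB.ψ_bijective D p)
  let d : ∀ p : ℕ, ↥(⋀[A]^p (Ω[A⁄R])) →+ ↥(⋀[A]^(p + 1) (Ω[A⁄R])) := fun p =>
    AddMonoidHom.comp (e (p + 1)).symm.toAddMonoidHom
      (AddMonoidHom.comp ((D.K.d p (p + 1)).hom.app (op ⊤)).hom (e p).toAddMonoidHom)
  refine hasD_of_add d (fun p b₀ b => ?_)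
  change (e (p + 1)).symm ((D.K.d p (p + 1)).hom.app (op ⊤)
    (DRAffB.ψ D p (DeRham.gen (KaehlerDifferential.D R A) p b₀ b))) = _
  rw [ψ_rule]
  exact (e (p + 1)).symm_apply_apply _

theorem zeroEquiv_const0 (c : R) :
    exteriorPower.zeroEquiv A (Ω[A⁄R]) (DRPoinc.const0 R A c) = algebraMap R A c := by
  unfold DRPoinc.const0 DeRham.gen
  rw [map_smul, exteriorPower.zeroEquiv_ιMulti, smul_eq_mul, mul_one]

theorem const0_add (c c' : R) :
    DRPoinc.const0 R A (c + c') = DRPoinc.const0 R A c + DRPoinc.const0 R A c' := by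
  unfold DRPoinc.const0 DeRham.gen
  rw [map_add, add_smul]

theorem d_const0 (d : ∀ p : ℕ, ↥(⋀[A]^p (Ω[A⁄R])) →ₗ[R] ↥(⋀[A]^(p + 1) (Ω[A⁄R])))
    (hd : DeRham.IsRule (KaehlerDifferential.D R A) d) (c : R) :
    d 0 (DRPoinc.const0 R A c) = 0 := by
  unfold DRPoinc.const0
  rw [hd 0]
  refine (ιMulti A 1).map_coord_zero 0 ?_
  rw [Fin.cons_zero, Derivation.map_algebraMap]

/-- **de Rham cohomology of an affine scheme satisfying the Poincaré lemma** -/
theorem main_of_poinc (hP : DRPoinc.Poinc R A) (hinj : Function.Injective (algebraMap R A))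
    [HasDerivedCategory.{u} (Sheaf (Opens.grothendieckTopology ↥(Spec (CommRingCat.of A)))
      AddCommGrpCat.{u})] :
    (∀ i : ℤ, i ≠ 0 → Subsingleton (DeRhamSh.HdR D i)) ∧ Nonempty (DeRhamSh.HdR D 0 ≃+ R) := by
  obtain ⟨d, hd⟩ := hasD D
  obtain ⟨h1, h0⟩ := hP d hd
  have hcomm := DRAffB.ψ_comm D d hd
  have hbij := DRAffB.ψ_bijective D
  constructor
  · intro i hi
    rcases lt_trichotomy i 0 with hneg | h0' | hpos
    · exact subsingleton_HDU_neg D.K ⊤ (DRAffC.acycAt_K D) i hneg
    · exact absurd h0' hi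
    · obtain ⟨j, rfl⟩ : ∃ j : ℕ, i = ((j + 1 : ℕ) : ℤ) := ⟨(i - 1).toNat, by omega⟩
      obtain ⟨e1⟩ := DRAffA.nonempty_sections_equiv_nat D.K
        (⊤ : (Spec (CommRingCat.of A)).Opens) (DRAffC.acycAt_K D) (j + 1)
      haveI : Subsingleton ((DRAffC.ΓK D).homology (j + 1)) := by
        refine subsingleton_homology_succ _ j (fun x hx => ?_)
        obtain ⟨x', rfl⟩ := (hbij (j + 1)).2 x
        have hx' : (D.K.d (j + 1) (j + 2)).hom.app (op ⊤) (DRAffB.ψ D (j + 1) x') = 0 := hx
        rw [hcomm] at hx'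
        have hx0 : d (j + 1) x' = 0 := (hbij (j + 2)).1 (by rw [hx', map_zero])
        obtain ⟨y, rfl⟩ := h1 j x' hx0
        exact ⟨DRAffB.ψ D j y, hcomm j y⟩
      exact e1.symm.toEquiv.subsingleton
  · obtain ⟨e1⟩ := DRAffA.nonempty_sections_equiv_nat D.K
      (⊤ : (Spec (CommRingCat.of A)).Opens) (DRAffC.acycAt_K D) 0
    let e2 := (homologyZeroIso (DRAffC.ΓK D)).addCommGroupIsoToAddEquiv
    let ψK : ↥(⋀[A]^0 (Ω[A⁄R])) →+ ((DRAffC.ΓK D).X 0 : AddCommGrpCat.{u}) := DRAffB.ψ D 0
    have hψK : ∀ x, ψK x = DRAffB.ψ D 0 x := fun x => rfl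
    have hker : ∀ c : R, ((DRAffC.ΓK D).d 0 1).hom (ψK (DRPoinc.const0 R A c)) = 0 := by
      intro c
      change (D.K.d 0 (0 + 1)).hom.app (op ⊤) (DRAffB.ψ D 0 (DRPoinc.const0 R A c)) = 0
      rw [hcomm 0, d_const0 d hd, map_zero]
    let φ : R →+ AddMonoidHom.ker ((DRAffC.ΓK D).d 0 1).hom :=
      AddMonoidHom.mk' (fun c => ⟨ψK (DRPoinc.const0 R A c), (AddMonoidHom.mem_ker).mpr (hker c)⟩)
        (fun c c' => Subtype.ext (by
          change ψK (DRPoinc.const0 R A (c + c')) =
            ψK (DRPoinc.const0 R A c) + ψK (DRPoinc.const0 R A c')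
          rw [const0_add, map_add]))
    have hφ : Function.Bijective φ := by
      constructor
      · intro c c' hcc
        have h2 : ψK (DRPoinc.const0 R A c) = ψK (DRPoinc.const0 R A c') :=
          congrArg Subtype.val hcc
        have h3 := (hbij 0).1 h2
        apply hinj
        rw [← zeroEquiv_const0, ← zeroEquiv_const0, h3]
      · rintro ⟨x, hx⟩
        obtain ⟨x', hxx'⟩ := (hbij 0).2 x
        have hxx : ψK x' = x := hxx'
        subst hxx
        rw [AddMonoidHom.mem_ker] at hx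
        have hx' : (D.K.d 0 (0 + 1)).hom.app (op ⊤) (DRAffB.ψ D 0 x') = 0 := hx
        rw [hcomm] at hx'
        have hx0 : d 0 x' = 0 := (hbij (0 + 1)).1 (by rw [hx', map_zero])
        obtain ⟨c, rfl⟩ := h0 x' hx0
        exact ⟨c, rfl⟩
    exact ⟨e1.symm.trans (e2.trans (AddEquiv.ofBijective φ hφ).symm)⟩

end main

section affineSpace

/-- **de Rham cohomology of affine space in characteristic zero** -/
theorem main (k : Type u) [Field k] [CharZero k] (n : ℕ)
    (D : DeRhamSh.OmegaCx (DRAffB.sf k (MvPolynomial (Fin n) k)))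
    [HasDerivedCategory.{u} (Sheaf (Opens.grothendieckTopology
      ↥(Spec (CommRingCat.of (MvPolynomial (Fin n) k)))) AddCommGrpCat.{u})] :
    (∀ i : ℤ, i ≠ 0 → Subsingleton (DeRhamSh.HdR D i)) ∧ Nonempty (DeRhamSh.HdR D 0 ≃+ k) := by
  have hP : DRPoinc.Poinc k (MvPolynomial (Fin n) k) :=
    DRPoinc.poinc_mvPolynomial n (hasD D) n le_rfl
  refine main_of_poinc D hP ?_
  rw [MvPolynomial.algebraMap_eq]
  exact MvPolynomial.C_injective (Fin n) k

end affineSpace

end Groth.Agent.Helper6.DRAffD
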