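import Mathlib
import Groth.Prelude.Def_KLinDR
import Groth.Agent.Helper9.StupidFil
import Groth.Agent.Helper9.StupidFil2

/-!
# Dévissage of hypercohomology along the stupid filtration, for Noetherian modules over a ring
acting on the complex
-/

set_option autoImplicit false
set_option backward.isDefEq.respectTransparency false
set_option backward.isDefEq.respectTransparency.types false
set_option linter.style.haveILetI false
set_option linter.unusedSectionVars false
set_option linter.unusedVariables false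
set_option linter.unusedSimpArgs false

universe w v u u'

open CategoryTheory CategoryTheory.Limits CategoryTheory.Pretriangulated DerivedCategory

namespace Groth.Agent.Helper6.DRFinA

open Groth.Agent.Helper9.StupidFil

section cutHom

variable {A : Type u} [Category.{v} A] [Preadditive A] [HasZeroObject A]
  {K L M : CochainComplex A ℤ}

/-- functoriality of the cut -/
noncomputable def cutHom (φ : K ⟶ L) (P : ℤ → Prop) : cut K P ⟶ cut L P where
  f n := cutι (P n) (K.X n) ≫ φ.f n ≫ cutπ (P n) (L.X n)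
  comm' i j hij := by
    simp only [cut_d, Category.assoc]
    by_cases hi : P i
    · by_cases hj : P j
      · rw [cutπ_ι_assoc hj, cutπ_ι_assoc hi, φ.comm_assoc]
      · rw [cutπ_of_not hj]
        simp
    · rw [cutι_of_not hi]
      simp

@[simp]
lemma cutHom_f (φ : K ⟶ L) (P : ℤ → Prop) (n : ℤ) :
    (cutHom φ P).f n = cutι (P n) (K.X n) ≫ φ.f n ≫ cutπ (P n) (L.X n) := rfl

lemma cutHom_id (P : ℤ → Prop) : cutHom (𝟙 K) P = 𝟙 _ := by
  ext n
  simp
  rfl

lemma cutHom_comp (φ : K ⟶ L) (ψ : L ⟶ M) (P : ℤ → Prop) :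
    cutHom (φ ≫ ψ) P = cutHom φ P ≫ cutHom ψ P := by
  ext n
  simp only [cutHom_f, HomologicalComplex.comp_f, Category.assoc]
  by_cases hn : P n
  · rw [cutπ_ι_assoc hn]
  · rw [cutι_of_not hn]
    simp

lemma cutHom_zero (P : ℤ → Prop) : cutHom (0 : K ⟶ L) P = 0 := by
  ext n
  simp

lemma cutHom_add (φ ψ : K ⟶ L) (P : ℤ → Prop) : cutHom (φ + ψ) P = cutHom φ P + cutHom ψ P := by
  ext n
  simp

/-- the ring homomorphism on endomorphisms -/
noncomputable def cutEnd (K : CochainComplex A ℤ) (P : ℤ → Prop) : End K →+* End (cut K P) where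
  toFun f := cutHom f P
  map_one' := cutHom_id P
  map_mul' f g := cutHom_comp g f P
  map_zero' := cutHom_zero P
  map_add' f g := cutHom_add f g P

lemma cutEnd_apply (K : CochainComplex A ℤ) (P : ℤ → Prop) (f : End K) :
    cutEnd K P f = cutHom f P := rfl

variable {P Q : ℤ → Prop}

lemma cutHom_cutMap (φ : K ⟶ L) (h : ∀ n, P n → Q (n + 1) → Q n ∧ P (n + 1)) :
    cutHom φ P ≫ cutMap L h = cutMap K h ≫ cutHom φ Q := by
  ext n
  simp only [HomologicalComplex.comp_f, cutHom_f, cutMap_f, Category.assoc]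
  by_cases hP : P n
  · by_cases hQ : Q n
    · rw [cutπ_ι_assoc hP, cutπ_ι_assoc hQ]
    · rw [cutπ_of_not hQ]
      simp
  · rw [cutι_of_not hP]
    simp

lemma cutHom_cutIsoOfForall (φ : K ⟶ L) (hP : ∀ n, P n) :
    cutHom φ P ≫ (cutIsoOfForall L hP).hom = (cutIsoOfForall K hP).hom ≫ φ := by
  ext n
  simp only [HomologicalComplex.comp_f, cutHom_f, cutIsoOfForall,
    HomologicalComplex.Hom.isoOfComponents_hom_f, cutXIso, Category.assoc]
  rw [cutπ_ι (hP n), Category.comp_id]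

lemma cutHom_cutSingleIso (φ : K ⟶ L) (p : ℤ) (hP : ∀ m, P m ↔ m = p) :
    cutHom φ P ≫ (cutSingleIso L p hP).hom =
      (cutSingleIso K p hP).hom ≫
        (HomologicalComplex.single A (ComplexShape.up ℤ) p).map (φ.f p) := by
  apply HomologicalComplex.to_single_hom_ext
  simp only [cutSingleIso, isoSingle, Iso.trans_hom, Functor.mapIso_hom, cutXIso,
    HomologicalComplex.comp_f, cutHom_f, Category.assoc, HomologicalComplex.mkHomToSingle_f,
    HomologicalComplex.single_map_f_self]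
  simp only [Category.id_comp, Category.assoc, Iso.inv_hom_id_assoc, Iso.inv_hom_id, Category.comp_id,
    Iso.hom_inv_id_assoc]
  rw [cutπ_ι_assoc ((hP p).2 rfl)]

end cutHom

section module

variable {𝒜 : Type u} [Category.{v} 𝒜] [Abelian 𝒜] [HasDerivedCategory.{w} 𝒜]
  {R : Type u'} [Ring R] (T : 𝒜) (i : ℤ)

/-- the hypercohomology group `Hom(T, M[i])`, as a module over a ring acting on `M`, is
Noetherian -/
def Noeth (M : CochainComplex 𝒜 ℤ) (ρ : R →+* End M) : Prop :=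
  IsNoetherian R (KLinDR.HTρ T M ρ i)

variable {T i}

theorem Noeth.of_iso {M M' : CochainComplex 𝒜 ℤ} {ρ : R →+* End M} {ρ' : R →+* End M'}
    (e : M ≅ M') (he : KLinDR.Commutes ρ ρ' e.hom) (h : Noeth T i M ρ) : Noeth T i M' ρ' := by
  haveI : IsNoetherian R (KLinDR.HTρ T M ρ i) := h
  refine isNoetherian_of_surjective (KLinDR.HTρmap T e.hom he i) ?_
  rw [LinearMap.range_eq_top]
  intro y
  refine ⟨KLinDR.HTρ.toHT.symm (E1Deg.HTmap T e.inv i (KLinDR.HTρ.toHT y)), ?_⟩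
  apply KLinDR.HTρ.toHT.injective
  rw [KLinDR.HTρmap_apply]
  change E1Deg.HTmap T e.hom i (E1Deg.HTmap T e.inv i (KLinDR.HTρ.toHT y)) = _
  rw [← E1Deg.HTmap_comp, e.inv_hom_id, E1Deg.HTmap_id]

theorem Noeth.of_subsingleton {M : CochainComplex 𝒜 ℤ} {ρ : R →+* End M}
    (h : ∀ x : (singleFunctor 𝒜 0).obj T ⟶ (Q.obj M)⟦i⟧, x = 0) : Noeth T i M ρ := by
  haveI : Subsingleton (KLinDR.HTρ T M ρ i) := by
    refine ⟨fun x y => KLinDR.HTρ.toHT.injective ?_⟩
    rw [h (KLinDR.HTρ.toHT x), h (KLinDR.HTρ.toHT y)]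
  haveI : Finite (KLinDR.HTρ T M ρ i) := Finite.of_subsingleton
  exact isNoetherian_of_finite R _

theorem Noeth.of_isZero {M : CochainComplex 𝒜 ℤ} {ρ : R →+* End M} (h : IsZero M) :
    Noeth T i M ρ := by
  refine Noeth.of_subsingleton (fun x => ?_)
  have h1 : IsZero (Q.obj M) := Functor.map_isZero Q h
  have h2 : IsZero ((Q.obj M)⟦i⟧) := Functor.map_isZero (shiftFunctor (DerivedCategory 𝒜) i) h1
  exact h2.eq_of_tgt _ _

theorem Noeth.of_isStrictlyGE {M : CochainComplex 𝒜 ℤ} {ρ : R →+* End M} (m : ℤ) (hm : i < m)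
    [M.IsStrictlyGE m] : Noeth T i M ρ := by
  refine Noeth.of_subsingleton (fun x => ?_)
  haveI : TStructure.t.IsGE ((Q.obj M)⟦i⟧) (m - i) :=
    TStructure.t.isGE_shift (Q.obj M) m i (m - i) (by lia)
  exact TStructure.t.zero_of_isLE_of_isGE x 0 (m - i) (by lia) inferInstance inferInstance

theorem Noeth.of_shortExact {S : ShortComplex (CochainComplex 𝒜 ℤ)} (hS : S.ShortExact)
    {ρ₁ : R →+* End S.X₁} {ρ₂ : R →+* End S.X₂} {ρ₃ : R →+* End S.X₃}
    (hf : KLinDR.Commutes ρ₁ ρ₂ S.f) (hg : KLinDR.Commutes ρ₂ ρ₃ S.g)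
    (h1 : Noeth T i S.X₁ ρ₁) (h3 : Noeth T i S.X₃ ρ₃) : Noeth T i S.X₂ ρ₂ := by
  haveI : IsNoetherian R (KLinDR.HTρ T S.X₁ ρ₁ i) := h1
  haveI : IsNoetherian R (KLinDR.HTρ T S.X₃ ρ₃ i) := h3
  refine isNoetherian_of_range_eq_ker (KLinDR.HTρmap T S.f hf i) (KLinDR.HTρmap T S.g hg i) ?_
  apply le_antisymm
  · rintro _ ⟨x, rfl⟩
    rw [LinearMap.mem_ker]
    apply KLinDR.HTρ.toHT.injective
    rw [KLinDR.HTρmap_apply, KLinDR.HTρmap_apply, ← E1Deg.HTmap_comp, S.zero]
    change KLinDR.HTρ.toHT x ≫ (shiftFunctor (DerivedCategory 𝒜) i).map (Q.map 0) = 0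
    rw [Functor.map_zero, Functor.map_zero, comp_zero]
  · intro y hy
    rw [LinearMap.mem_ker] at hy
    have hy' : KLinDR.HTρ.toHT y ≫ (shiftFunctor (DerivedCategory 𝒜) i).map (Q.map S.g) = 0 :=
      congrArg KLinDR.HTρ.toHT hy
    have hd := Pretriangulated.Triangle.shift_distinguished _ (triangleOfSES_distinguished hS) i
    have hy'' : KLinDR.HTρ.toHT y ≫
        ((shiftFunctor (Triangle (DerivedCategory 𝒜)) i).obj (triangleOfSES hS)).mor₂ = 0 := by
      change KLinDR.HTρ.toHT y ≫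
        (i.negOnePow • (shiftFunctor (DerivedCategory 𝒜) i).map (Q.map S.g)) = 0
      rw [Linear.comp_units_smul, hy', smul_zero]
    obtain ⟨g, hg'⟩ := Pretriangulated.Triangle.coyoneda_exact₂ _ hd (KLinDR.HTρ.toHT y) hy''
    have hg'' : KLinDR.HTρ.toHT y =
        g ≫ (i.negOnePow • (shiftFunctor (DerivedCategory 𝒜) i).map (Q.map S.f)) := hg'
    refine ⟨KLinDR.HTρ.toHT.symm (i.negOnePow • g), ?_⟩
    apply KLinDR.HTρ.toHT.injective
    rw [KLinDR.HTρmap_apply]
    change (i.negOnePow • g) ≫ (shiftFunctor (DerivedCategory 𝒜) i).map (Q.map S.f) = _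
    rw [Linear.units_smul_comp, ← Linear.comp_units_smul]
    exact hg''.symm

end module

section main

variable {𝒜 : Type u} [Category.{v} 𝒜] [Abelian 𝒜] [HasDerivedCategory.{w} 𝒜]
  {R : Type u'} [Ring R] {T : 𝒜} {i : ℤ}
  (L : CochainComplex 𝒜 ℤ) (ρ : R →+* End L)

/-- the action on the single complex of the term in degree `p` -/
noncomputable def singleAct (p : ℤ) :
    R →+* End ((HomologicalComplex.single 𝒜 (ComplexShape.up ℤ) p).obj (L.X p)) where
  toFun r := (HomologicalComplex.single 𝒜 (ComplexShape.up ℤ) p).map ((ρ r : L ⟶ L).f p)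
  map_one' := by
    rw [map_one]
    exact (HomologicalComplex.single 𝒜 (ComplexShape.up ℤ) p).map_id _
  map_mul' r s := by
    rw [map_mul]
    exact (HomologicalComplex.single 𝒜 (ComplexShape.up ℤ) p).map_comp _ _
  map_zero' := by
    rw [map_zero]
    exact (HomologicalComplex.single 𝒜 (ComplexShape.up ℤ) p).map_zero _ _
  map_add' r s := by
    rw [map_add]
    exact (HomologicalComplex.single 𝒜 (ComplexShape.up ℤ) p).map_add

/-- the action on a cut -/
noncomputable def cutAct (P : ℤ → Prop) : R →+* End (cut L P) := (cutEnd L P).comp ρ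

theorem commutes_cutMap {P Q : ℤ → Prop} (h : ∀ n, P n → Q (n + 1) → Q n ∧ P (n + 1)) :
    KLinDR.Commutes (cutAct L ρ P) (cutAct L ρ Q) (cutMap L h) :=
  fun r => cutHom_cutMap (ρ r : L ⟶ L) h

theorem commutes_Φmap {a b : EInt} (f : a ⟶ b) :
    KLinDR.Commutes (cutAct L ρ (Pa a)) (cutAct L ρ (Pa b)) ((Φ L).map f) :=
  fun r => cutHom_cutMap (ρ r : L ⟶ L) (P := Pa a) (Q := Pa b)
    (fun _ hP _ => ⟨Pa_mono (leOfHom f) hP, Pa_succ hP⟩)

theorem commutes_quotMap (a b : EInt) :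
    KLinDR.Commutes (cutAct L ρ (Pa b)) (cutAct L ρ (Pq a b)) (quotMap L a b) :=
  fun r => cutHom_cutMap (ρ r : L ⟶ L) (P := Pa b) (Q := Pq a b)
    (fun _ hP hQ => ⟨⟨hP, fun h => hQ.2 (Pa_succ h)⟩, Pa_succ hP⟩)

theorem commutes_cutIsoOfForall {P : ℤ → Prop} (hP : ∀ n, P n) :
    KLinDR.Commutes (cutAct L ρ P) ρ (cutIsoOfForall L hP).hom :=
  fun r => cutHom_cutIsoOfForall (ρ r : L ⟶ L) hP

theorem commutes_cutSingleIso_inv {P : ℤ → Prop} (p : ℤ) (hP : ∀ m, P m ↔ m = p) :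
    KLinDR.Commutes (singleAct L ρ p) (cutAct L ρ P) (cutSingleIso L p hP).symm.hom := by
  intro r
  change (HomologicalComplex.single 𝒜 (ComplexShape.up ℤ) p).map ((ρ r : L ⟶ L).f p) ≫
    (cutSingleIso L p hP).inv = (cutSingleIso L p hP).inv ≫ cutHom (ρ r : L ⟶ L) P
  rw [Iso.eq_inv_comp, ← Category.assoc, Iso.comp_inv_eq]
  exact (cutHom_cutSingleIso (ρ r : L ⟶ L) p hP).symm

variable (a : ℤ) (hL : ∀ n : ℤ, n < a → IsZero (L.X n))
  (h : ∀ p : ℤ, a ≤ p → p ≤ i →
    Noeth T i ((HomologicalComplex.single 𝒜 (ComplexShape.up ℤ) p).obj (L.X p)) (singleAct L ρ p))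

include hL h

theorem noeth_step (c : ℤ) (hci : -(c + 1) ≤ i)
    (hc : Noeth T i ((Φ L).obj (c : EInt)) (cutAct L ρ (Pa (c : EInt)))) :
    Noeth T i ((Φ L).obj ((c + 1 : ℤ) : EInt)) (cutAct L ρ (Pa ((c + 1 : ℤ) : EInt))) := by
  have hle : (c : EInt) ≤ ((c + 1 : ℤ) : EInt) := by
    rw [WithBotTop.coe_le_coe]; lia
  have hS := sc_shortExact L (homOfLE hle)
  have hf : KLinDR.Commutes (cutAct L ρ (Pa (c : EInt))) (cutAct L ρ (Pa ((c + 1 : ℤ) : EInt)))
      (sc L (homOfLE hle)).f := commutes_Φmap L ρ (homOfLE hle)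
  have hg : KLinDR.Commutes (cutAct L ρ (Pa ((c + 1 : ℤ) : EInt)))
      (cutAct L ρ (Pq (c : EInt) ((c + 1 : ℤ) : EInt))) (sc L (homOfLE hle)).g :=
    commutes_quotMap L ρ _ _
  refine Noeth.of_shortExact hS hf hg hc ?_
  have hP : ∀ m : ℤ, Pq (c : EInt) ((c + 1 : ℤ) : EInt) m ↔ m = -(c + 1) := by
    intro m
    unfold Pq
    rw [Pa_coe_iff, Pa_coe_iff]
    constructor
    · rintro ⟨h1, h2⟩; lia
    · rintro rfl; constructor <;> lia
  refine Noeth.of_iso (cutSingleIso L (-(c + 1)) hP).symm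
    (commutes_cutSingleIso_inv L ρ (-(c + 1)) hP) ?_
  by_cases hp : a ≤ -(c + 1)
  · exact h _ hp hci
  · exact Noeth.of_isZero (Functor.map_isZero _ (hL _ (by lia)))

theorem noeth_nat (k : ℕ) :
    Noeth T i ((Φ L).obj ((-(i + 1) + k : ℤ) : EInt))
      (cutAct L ρ (Pa ((-(i + 1) + k : ℤ) : EInt))) := by
  induction k with
  | zero =>
    haveI : ((Φ L).obj ((-(i + 1) + (0 : ℕ) : ℤ) : EInt)).IsStrictlyGE (i + 1) := by
      refine isStrictlyGE_cut_of L (i + 1) (fun n hn => ?_)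
      rw [Pa_coe_iff] at hn
      push_cast at hn
      lia
    exact Noeth.of_isStrictlyGE (i + 1) (by lia)
  | succ k ih =>
    have := noeth_step L ρ a hL h _ (by lia) ih
    have e : (-(i + 1) + (k : ℤ) + 1 : ℤ) = (-(i + 1) + ((k + 1 : ℕ) : ℤ) : ℤ) := by
      push_cast; ring
    rw [e] at this
    exact this

/-- **dévissage**: if the hypercohomology modules `Hom(T, Lᵖ[i-p])` of the terms are Noetherian for
`a ≤ p ≤ i`, where `L` vanishes in degrees `< a`, then so is `Hom(T, L[i])`. -/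
theorem noeth_of_terms : Noeth T i L ρ := by
  set k : ℕ := (i + 1 - a).toNat with hk
  set c : ℤ := -(i + 1) + k with hcdef
  have hc : Noeth T i ((Φ L).obj (c : EInt)) (cutAct L ρ (Pa (c : EInt))) :=
    noeth_nat L ρ a hL h k
  have hca : -a ≤ c := by
    have := Int.self_le_toNat (i + 1 - a)
    lia
  have hle : (c : EInt) ≤ ⊤ := le_top
  have hS := sc_shortExact L (homOfLE hle)
  have h2 : Noeth T i ((Φ L).obj ⊤) (cutAct L ρ (Pa ⊤)) := by
    have hf : KLinDR.Commutes (cutAct L ρ (Pa (c : EInt))) (cutAct L ρ (Pa ⊤))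
        (sc L (homOfLE hle)).f := commutes_Φmap L ρ (homOfLE hle)
    have hg : KLinDR.Commutes (cutAct L ρ (Pa ⊤)) (cutAct L ρ (Pq (c : EInt) ⊤))
        (sc L (homOfLE hle)).g := commutes_quotMap L ρ _ _
    refine Noeth.of_shortExact hS hf hg hc ?_
    refine Noeth.of_isZero (isZero_cut L (fun n hn => hL n ?_))
    have hn2 := hn.2
    rw [Pa_coe_iff] at hn2
    lia
  exact Noeth.of_iso (cutIsoOfForall L (P := Pa ⊤) Pa_top) (commutes_cutIsoOfForall L ρ Pa_top) h2

end main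

end Groth.Agent.Helper6.DRFinA
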