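import Mathlib
import Groth.Prelude.Def_KLinDR
import Groth.Agent.Helper6.DRFinA
import Groth.Agent.Helper6.DRVanC

/-!
# The base case of the dévissage: hypercohomology of a single sheaf, with its module structure
-/

set_option autoImplicit false
set_option linter.style.haveILetI false
set_option linter.unusedSectionVars false
set_option linter.unusedVariables false
set_option linter.unusedSimpArgs false

universe w w' v u u' u''

open CategoryTheory CategoryTheory.Limits CategoryTheory.Pretriangulated DerivedCategory Abelian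

namespace Groth.Agent.Helper6.DRFinB

section abelian

variable {𝒜 : Type u} [Category.{v} 𝒜] [Abelian 𝒜] [HasDerivedCategory.{w} 𝒜]
  {R : Type u'} [Ring R]

/-- the action on a single complex -/
noncomputable def singleActOf {M : 𝒜} (σ : R →+* End M) (p : ℤ) :
    R →+* End ((HomologicalComplex.single 𝒜 (ComplexShape.up ℤ) p).obj M) where
  toFun r := (HomologicalComplex.single 𝒜 (ComplexShape.up ℤ) p).map (σ r : M ⟶ M)
  map_one' := by
    rw [map_one]
    exact (HomologicalComplex.single 𝒜 (ComplexShape.up ℤ) p).map_id _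
  map_mul' r s := by
    rw [map_mul]
    exact (HomologicalComplex.single 𝒜 (ComplexShape.up ℤ) p).map_comp _ _
  map_zero' := by
    rw [map_zero]
    exact (HomologicalComplex.single 𝒜 (ComplexShape.up ℤ) p).map_zero _ _
  map_add' r s := by
    rw [map_add]
    exact (HomologicalComplex.single 𝒜 (ComplexShape.up ℤ) p).map_add

/-- the action on a term of a complex -/
noncomputable def termAct (L : CochainComplex 𝒜 ℤ) (ρ : R →+* End L) (p : ℤ) :
    R →+* End (L.X p) where
  toFun r := (ρ r : L ⟶ L).f p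
  map_one' := by rw [map_one]; rfl
  map_mul' r s := by rw [map_mul]; rfl
  map_zero' := by rw [map_zero]; rfl
  map_add' r s := by rw [map_add]; rfl

theorem singleAct_eq (L : CochainComplex 𝒜 ℤ) (ρ : R →+* End L) (p : ℤ) :
    DRFinA.singleAct L ρ p = singleActOf (termAct L ρ p) p := rfl

/-- the natural isomorphism `M[-p][i] ≅ M[q]` -/
noncomputable def B (p i n : ℤ) (q : ℕ) (h : i + n = p) (hn : (q : ℤ) + n = 0) :
    (HomologicalComplex.single 𝒜 (ComplexShape.up ℤ) p ⋙ Q) ⋙ shiftFunctor (DerivedCategory 𝒜) i ≅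
      singleFunctor 𝒜 0 ⋙ shiftFunctor (DerivedCategory 𝒜) (q : ℤ) :=
  Functor.isoWhiskerRight (singleFunctorIsoCompQ 𝒜 p).symm (shiftFunctor (DerivedCategory 𝒜) i) ≪≫
    (singleFunctors 𝒜).shiftIso i n p h ≪≫ ((singleFunctors 𝒜).shiftIso (q : ℤ) n 0 hn).symm

/-- postcomposition with an isomorphism -/
noncomputable def postEquiv {D : Type*} [Category D] [Preadditive D] {X Y Y' : D} (φ : Y ≅ Y') :
    (X ⟶ Y) ≃+ (X ⟶ Y') where
  toFun x := x ≫ φ.hom
  invFun x := x ≫ φ.inv
  left_inv x := by simp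
  right_inv x := by simp
  map_add' x y := Preadditive.add_comp _ _ _ _ _ _

variable [HasExt.{w'} 𝒜]

theorem homEquiv_symm_comp {X M M' : 𝒜} (q : ℕ) (f : M ⟶ M')
    (y : ShiftedHom ((singleFunctor 𝒜 0).obj X) ((singleFunctor 𝒜 0).obj M) (q : ℤ)) :
    (Ext.homEquiv.symm (y ≫ ((singleFunctor 𝒜 0).map f)⟦(q : ℤ)⟧') : Ext.{w'} X M' q) =
      (Ext.homEquiv.symm y : Ext.{w'} X M q).comp (Ext.mk₀ f) (add_zero q) := by
  apply Ext.homEquiv.injective
  rw [Equiv.apply_symm_apply]
  change _ = ((Ext.homEquiv.symm y : Ext.{w'} X M q).comp (Ext.mk₀ f) (add_zero q)).hom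
  rw [Ext.comp_hom, Ext.mk₀_hom, ShiftedHom.comp_mk₀]
  congr 1
  exact (Equiv.apply_symm_apply _ _).symm

/-- **the base case**: the hypercohomology of a single complex is an `Ext` group, compatibly with
the actions. -/
theorem noeth_single (T M : 𝒜) (σ : R →+* End M) (p i : ℤ) (q : ℕ) (hq : p + q = i)
    (N : Type u'') [AddCommGroup N] [Module R N] (e : Ext.{w'} T M q ≃+ N)
    (he : ∀ (r : R) (x : Ext.{w'} T M q),
      e (x.comp (Ext.mk₀ (σ r : M ⟶ M)) (add_zero q)) = r • e x)
    [IsNoetherian R N] :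
    DRFinA.Noeth T i ((HomologicalComplex.single 𝒜 (ComplexShape.up ℤ) p).obj M)
      (singleActOf σ p) := by
  let β := B (𝒜 := 𝒜) p i (p - i) q (by ring) (by lia)
  let Θ : KLinDR.HTρ T ((HomologicalComplex.single 𝒜 (ComplexShape.up ℤ) p).obj M)
      (singleActOf σ p) i ≃+ N :=
    KLinDR.HTρ.toHT.trans ((postEquiv (β.app M)).trans (Ext.homAddEquiv.symm.trans e))
  have hΘ : ∀ x, Θ x = e (Ext.homEquiv.symm (KLinDR.HTρ.toHT x ≫ β.hom.app M)) :=
    fun x => rfl
  let Θl : KLinDR.HTρ T ((HomologicalComplex.single 𝒜 (ComplexShape.up ℤ) p).obj M)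
      (singleActOf σ p) i ≃ₗ[R] N :=
    { Θ with
      map_smul' := fun r x => by
        change Θ (r • x) = r • Θ x
        rw [hΘ, hΘ, ← he, KLinDR.smul_def, Category.assoc]
        have hnat := β.hom.naturality (σ r : M ⟶ M)
        have hnat' : (shiftFunctor (DerivedCategory 𝒜) i).map
            (Q.map ((HomologicalComplex.single 𝒜 (ComplexShape.up ℤ) p).map (σ r : M ⟶ M))) ≫
              β.hom.app M = β.hom.app M ≫
                ((singleFunctor 𝒜 0).map (σ r : M ⟶ M))⟦(q : ℤ)⟧' := hnat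
        change e (Ext.homEquiv.symm (KLinDR.HTρ.toHT x ≫
          (shiftFunctor (DerivedCategory 𝒜) i).map
            (Q.map ((HomologicalComplex.single 𝒜 (ComplexShape.up ℤ) p).map (σ r : M ⟶ M))) ≫
              β.hom.app M)) = _
        rw [hnat', ← Category.assoc, homEquiv_symm_comp] }
  exact isNoetherian_of_linearEquiv Θl.symm

end abelian

end Groth.Agent.Helper6.DRFinB
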