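import Mathlib
import Groth.Prelude
import Groth.Agent.Helper6.DRFinB
import Groth.Agent.Helper6.DRVanD
import Groth.Agent.Lead.OmegaSecB
import Groth.Agent.S0002

/-!
# Finiteness of de Rham cohomology of a proper morphism to a Noetherian affine scheme
-/

set_option autoImplicit false
set_option linter.style.haveILetI false
set_option linter.unusedSectionVars false
set_option linter.unusedVariables false
set_option linter.unusedSimpArgs false

universe w w' v u u' u''

open CategoryTheory CategoryTheory.Limits CategoryTheory.Pretriangulated DerivedCategory Abelian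
  AlgebraicGeometry Opposite TopologicalSpace exteriorPower

namespace Groth.Agent.Helper6.DRFinC

section abelian

variable {𝒜 : Type u} [Category.{v} 𝒜] [Abelian 𝒜] [HasExt.{w'} 𝒜]

/-- precomposition with an isomorphism on `Ext` groups -/
noncomputable def precompEquiv {X X' : 𝒜} (φ : X ≅ X') (Y : 𝒜) (q : ℕ) :
    Ext.{w'} X' Y q ≃+ Ext.{w'} X Y q where
  toFun x := (Ext.mk₀ φ.hom).comp x (zero_add q)
  invFun x := (Ext.mk₀ φ.inv).comp x (zero_add q)
  left_inv x := by
    change (Ext.mk₀ φ.inv).comp ((Ext.mk₀ φ.hom).comp x (zero_add q)) (zero_add q) = x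
    rw [Ext.mk₀_comp_mk₀_assoc, φ.inv_hom_id, Ext.mk₀_id_comp]
  right_inv x := by
    change (Ext.mk₀ φ.hom).comp ((Ext.mk₀ φ.inv).comp x (zero_add q)) (zero_add q) = x
    rw [Ext.mk₀_comp_mk₀_assoc, φ.hom_inv_id, Ext.mk₀_id_comp]
  map_add' x y := Ext.comp_add _ _ _ _

theorem precompEquiv_comp {X X' : 𝒜} (φ : X ≅ X') {Y Y' : 𝒜} (q : ℕ) (x : Ext.{w'} X' Y q)
    (f : Y ⟶ Y') :
    precompEquiv φ Y' q (x.comp (Ext.mk₀ f) (add_zero q)) =
      (precompEquiv φ Y q x).comp (Ext.mk₀ f) (add_zero q) := by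
  change (Ext.mk₀ φ.hom).comp (x.comp (Ext.mk₀ f) (add_zero q)) (zero_add q) =
    ((Ext.mk₀ φ.hom).comp x (zero_add q)).comp (Ext.mk₀ f) (add_zero q)
  rw [Ext.comp_assoc]
  lia

end abelian

section site

variable {C : Type u} [SmallCategory C] {J : GrothendieckTopology C}
  [HasDerivedCategory.{w} (Sheaf J AddCommGrpCat.{u})] [HasExt.{w'} (Sheaf J AddCommGrpCat.{u})]
  {R : Type u'} [Ring R]

/-- the base case on a site with a terminal object, in terms of sheaf cohomology -/
theorem noeth_single_sheaf {T₀ : C} (hT : IsTerminal T₀) (M : Sheaf J AddCommGrpCat.{u})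
    (σ : R →+* End M) (p i : ℤ) (q : ℕ) (hq : p + q = i)
    (N : Type u'') [AddCommGroup N] [Module R N] (e : Sheaf.H.{w'} M q ≃+ N)
    (he : ∀ (r : R) (x : Sheaf.H.{w'} M q), e (Sheaf.H.map (σ r : M ⟶ M) q x) = r • e x)
    [IsNoetherian R N] :
    DRFinA.Noeth (CohCx.freeSheaf J T₀) i
      ((HomologicalComplex.single (Sheaf J AddCommGrpCat.{u}) (ComplexShape.up ℤ) p).obj M)
      (DRFinB.singleActOf σ p) := by
  let φ := DRVanC.freeSheafTerminalIso J hT
  refine DRFinB.noeth_single (CohCx.freeSheaf J T₀) M σ p i q hq N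
    ((precompEquiv φ.symm M q).trans e) (fun r x => ?_)
  change e (precompEquiv φ.symm M q (x.comp (Ext.mk₀ (σ r : M ⟶ M)) (add_zero q))) = _
  rw [precompEquiv_comp]
  exact he r _

end site

section nat

variable {𝒜 : Type u} [Category.{v} 𝒜] [Preadditive 𝒜] {R : Type u'} [Ring R]

/-- the action on a term of an `ℕ`-indexed complex -/
noncomputable def termActNat (K : CochainComplex 𝒜 ℕ) (ρ : R →+* End K) (p : ℕ) :
    R →+* End (K.X p) where
  toFun r := (ρ r : K ⟶ K).f p
  map_one' := by rw [map_one]; rfl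
  map_mul' r s := by rw [map_mul]; rfl
  map_zero' := by rw [map_zero]; rfl
  map_add' r s := by rw [map_add]; rfl

end nat

section scheme

variable {A : Type u} [CommRing A] {X : Scheme.{u}} (f : X ⟶ Spec (CommRingCat.of A))
  [QuasiSeparated f] (D : DeRhamSh.OmegaCx f)

/-- the terms of a de Rham complex of a morphism locally of finite type are coherent -/
theorem isCoh_term [LocallyOfFiniteType f] (p : ℕ) : Coh.IsCoh (D.term p) := by
  haveI := DRVanD.isQuasicoherent_term f D p
  refine ⟨inferInstance, ?_⟩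
  apply Groth.Agent.Helper4.FTGlue.isFiniteType_of_finite_sections
  intro x
  obtain ⟨U, V, hU, hV, hxU, e⟩ := Groth.Agent.Lead.OmegaSecB.exists_affine_pair f x
  refine ⟨U, hU, hxU, ?_⟩
  letI := (f.appLE V U e).hom.toAlgebra
  obtain ⟨ε, -⟩ := Groth.Agent.Lead.OmegaSecA.exists_sectionsEquiv f hU hV e
  haveI : Algebra.FiniteType Γ(Spec (CommRingCat.of A), V) Γ(X, U) := f.finiteType_appLE hV hU e
  haveI : Module.Finite Γ(X, U) Γ(Omega.sheaf f, U) := Module.Finite.equiv ε.symm
  exact Module.Finite.equiv (D.loc p ⟨U, hU⟩).symm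

/-- the comparison of the cohomology of `Kᵖ` and of `Ωᵖ` -/
noncomputable def eTerm (p q : ℕ) :
    Sheaf.H.{u} (D.K.X p) q ≃+ Coh.HH X (D.term p) q where
  toFun := Sheaf.H.map (D.iso p).hom q
  invFun := Sheaf.H.map (D.iso p).inv q
  left_inv x := by
    rw [← Sheaf.H.map_comp_apply, (D.iso p).hom_inv_id, Sheaf.H.map_id_apply]
  right_inv x := by
    rw [← Sheaf.H.map_comp_apply, (D.iso p).inv_hom_id, Sheaf.H.map_id_apply]
  map_add' x y := map_add _ _ _

/-- **finiteness of de Rham cohomology** of a proper morphism to a Noetherian affine scheme -/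
theorem main [IsNoetherianRing A] [IsProper f]
    (h : KLinDR.TermwiseLinear (Coh.toGlobal f) D.K D.term D.iso)
    [HasDerivedCategory.{u} (Sheaf (Opens.grothendieckTopology X) AddCommGrpCat.{u})] (i : ℤ) :
    Module.Finite A (KLinDR.HdR (Coh.toGlobal f) D h i) := by
  suffices hN : DRFinA.Noeth (CohCx.freeSheaf (Opens.grothendieckTopology X) (⊤ : X.Opens)) i
      D.KZ (KLinDR.scalar h) by
    haveI : IsNoetherian A (KLinDR.HdR (Coh.toGlobal f) D h i) := hN
    exact Module.IsNoetherian.finite A _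
  refine DRFinA.noeth_of_terms D.KZ (KLinDR.scalar h) 0 ?_ ?_
  · intro n hn
    refine HomologicalComplex.isZero_extend_X D.K _ n (fun j hj => ?_)
    have : (j : ℤ) = n := hj
    lia
  · intro p hp0 hpi
    rw [DRFinB.singleAct_eq]
    obtain ⟨p', rfl⟩ : ∃ p' : ℕ, p = p' := ⟨p.toNat, (Int.toNat_of_nonneg hp0).symm⟩
    let ε := D.K.extendXIso ComplexShape.embeddingUpNat (ComplexShape.embeddingUpNat_f p')
    let σ' : A →+* End (D.K.X p') := termActNat D.K (KLinDR.scalarN h) p'
    have hstep : DRFinA.Noeth (CohCx.freeSheaf (Opens.grothendieckTopology X) (⊤ : X.Opens)) i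
        ((HomologicalComplex.single _ (ComplexShape.up ℤ) (p' : ℤ)).obj (D.K.X p'))
        (DRFinB.singleActOf σ' (p' : ℤ)) := by
      letI : X.Over (Spec (CommRingCat.of A)) := ⟨f⟩
      haveI : IsProper (X ↘ Spec (CommRingCat.of A)) := ‹IsProper f›
      obtain ⟨q, hq⟩ : ∃ q : ℕ, (p' : ℤ) + q = i := ⟨(i - p').toNat, by lia⟩
      haveI : Module.Finite A (Coh.HH X (D.term p') q) :=
        Groth.Agent.S0002.result A X (D.term p') (isCoh_term f D p') q
      haveI : IsNoetherian A (Coh.HH X (D.term p') q) :=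
        isNoetherian_of_isNoetherianRing_of_finite A _
      refine noeth_single_sheaf isTerminalTop (D.K.X p') σ' p' i q hq (Coh.HH X (D.term p') q)
        (eTerm f D p' q) (fun r x => ?_)
      change Sheaf.H.map (D.iso p').hom q (Sheaf.H.map
        ((D.iso p').hom ≫ Coh.smulAb (D.term p') (Coh.toGlobal f r) ≫ (D.iso p').inv) q x) =
        Sheaf.H.map (Coh.smulAb (D.term p') (Coh.toGlobal f r)) q
          (Sheaf.H.map (D.iso p').hom q x)
      rw [← Sheaf.H.map_comp_apply, ← Sheaf.H.map_comp_apply, Category.assoc, Category.assoc,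
        Iso.inv_hom_id, Category.comp_id]
    refine DRFinA.Noeth.of_iso
      ((HomologicalComplex.single _ (ComplexShape.up ℤ) (p' : ℤ)).mapIso ε.symm) ?_ hstep
    intro r
    change (HomologicalComplex.single _ (ComplexShape.up ℤ) (p' : ℤ)).map (σ' r : D.K.X p' ⟶ _) ≫
      (HomologicalComplex.single _ (ComplexShape.up ℤ) (p' : ℤ)).map ε.inv =
      (HomologicalComplex.single _ (ComplexShape.up ℤ) (p' : ℤ)).map ε.inv ≫
        (HomologicalComplex.single _ (ComplexShape.up ℤ) (p' : ℤ)).map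
          ((KLinDR.scalar h r : D.KZ ⟶ D.KZ).f (p' : ℤ))
    rw [← Functor.map_comp, ← Functor.map_comp]
    congr 1
    rw [KLinDR.scalar_f]
    change _ = ε.inv ≫ ε.hom ≫ _ ≫ ε.inv
    rw [Iso.inv_hom_id_assoc]
    rfl

end scheme

end Groth.Agent.Helper6.DRFinC
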