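import Mathlib
import Groth.Prelude.Def_KLinDR
import Groth.Agent.Helper6.DRFinA

/-!
# Long exact sequence tools for hypercohomology with a module structure
-/

set_option autoImplicit false
set_option backward.isDefEq.respectTransparency false
set_option backward.isDefEq.respectTransparency.types false
set_option linter.style.haveILetI false
set_option linter.unusedSectionVars false
set_option linter.unusedVariables false
set_option linter.unusedSimpArgs false

universe w v u u'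

open CategoryTheory CategoryTheory.Limits CategoryTheory.Pretriangulated DerivedCategory Opposite

namespace Groth.Agent.Helper6.DRPnA

variable {𝒜 : Type u} [Category.{v} 𝒜] [Abelian 𝒜] [HasDerivedCategory.{w} 𝒜] (T : 𝒜)

/-- vanishing of the hypercohomology group `Hom(T, M[i])` -/
def Van (M : CochainComplex 𝒜 ℤ) (i : ℤ) : Prop :=
  ∀ x : E1Deg.HT T M i, x = 0

variable {T}

theorem Van.of_isZero {M : CochainComplex 𝒜 ℤ} (h : IsZero M) (i : ℤ) : Van T M i := by
  intro x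
  have h1 : IsZero (Q.obj M) := Functor.map_isZero Q h
  have h2 : IsZero ((Q.obj M)⟦i⟧) := Functor.map_isZero (shiftFunctor (DerivedCategory 𝒜) i) h1
  exact h2.eq_of_tgt _ _

theorem Van.of_iso {M M' : CochainComplex 𝒜 ℤ} (e : M ≅ M') {i : ℤ} (h : Van T M i) :
    Van T M' i := by
  intro x
  have h1 : E1Deg.HTmap T e.hom i (E1Deg.HTmap T e.inv i x) = x := by
    rw [← E1Deg.HTmap_comp, e.inv_hom_id, E1Deg.HTmap_id]
  rw [← h1, h (E1Deg.HTmap T e.inv i x), map_zero]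

theorem Van.of_isStrictlyGE {M : CochainComplex 𝒜 ℤ} {i : ℤ} (m : ℤ) (hm : i < m)
    [M.IsStrictlyGE m] : Van T M i := by
  intro x
  haveI : TStructure.t.IsGE ((Q.obj M)⟦i⟧) (m - i) :=
    TStructure.t.isGE_shift (Q.obj M) m i (m - i) (by lia)
  exact TStructure.t.zero_of_isLE_of_isGE x 0 (m - i) (by lia) inferInstance inferInstance

section les

variable {S : ShortComplex (CochainComplex 𝒜 ℤ)} (hS : S.ShortExact)

include hS

theorem exact_mid (i : ℤ) (y : E1Deg.HT T S.X₂ i) (hy : E1Deg.HTmap T S.g i y = 0) :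
    ∃ x : E1Deg.HT T S.X₁ i, E1Deg.HTmap T S.f i x = y := by
  let F : DerivedCategory 𝒜 ⥤ AddCommGrpCat.{w} :=
    preadditiveCoyoneda.obj (op ((singleFunctor 𝒜 0).obj T))
  letI : F.ShiftSequence ℤ := Functor.ShiftSequence.tautological F ℤ
  have hd := triangleOfSES_distinguished hS
  have hex := F.homologySequence_exact₂ _ hd i
  rw [ShortComplex.ab_exact_iff] at hex
  exact hex y hy

theorem injective_f (j i : ℤ) (hij : j + 1 = i) (h3 : Van T S.X₃ j) :
    Function.Injective (E1Deg.HTmap T S.f i) := by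
  let F : DerivedCategory 𝒜 ⥤ AddCommGrpCat.{w} :=
    preadditiveCoyoneda.obj (op ((singleFunctor 𝒜 0).obj T))
  letI : F.ShiftSequence ℤ := Functor.ShiftSequence.tautological F ℤ
  have hd := triangleOfSES_distinguished hS
  have hmono : Mono ((F.shift i).map (triangleOfSES hS).mor₁) := by
    rw [F.homologySequence_mono_shift_map_mor₁_iff _ hd j i hij]
    apply IsZero.eq_of_src
    haveI : Subsingleton ((F.shift j).obj (triangleOfSES hS).obj₃) :=
      ⟨fun x y => (h3 x).trans (h3 y).symm⟩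
    exact AddCommGrpCat.isZero_of_subsingleton _
  exact (AddCommGrpCat.mono_iff_injective _).1 hmono

theorem surjective_g (i j : ℤ) (hij : i + 1 = j) (h1 : Van T S.X₁ j) :
    Function.Surjective (E1Deg.HTmap T S.g i) := by
  let F : DerivedCategory 𝒜 ⥤ AddCommGrpCat.{w} :=
    preadditiveCoyoneda.obj (op ((singleFunctor 𝒜 0).obj T))
  letI : F.ShiftSequence ℤ := Functor.ShiftSequence.tautological F ℤ
  have hd := triangleOfSES_distinguished hS
  have hepi : Epi ((F.shift i).map (triangleOfSES hS).mor₂) := by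
    rw [F.homologySequence_epi_shift_map_mor₂_iff _ hd i j hij]
    apply IsZero.eq_of_tgt
    haveI : Subsingleton ((F.shift j).obj (triangleOfSES hS).obj₁) :=
      ⟨fun x y => (h1 x).trans (h1 y).symm⟩
    exact AddCommGrpCat.isZero_of_subsingleton _
  exact (AddCommGrpCat.epi_iff_surjective _).1 hepi

theorem Van.mid {i : ℤ} (h1 : Van T S.X₁ i) (h3 : Van T S.X₃ i) : Van T S.X₂ i := by
  intro y
  obtain ⟨x, rfl⟩ := exact_mid hS i y (h3 _)
  rw [h1 x, map_zero]

end les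

section lin

variable {R : Type u'} [Ring R]

/-- an isomorphism of complexes commuting with the actions induces a linear equivalence -/
theorem nonempty_equiv_of_iso {M M' : CochainComplex 𝒜 ℤ} {ρ : R →+* End M} {ρ' : R →+* End M'}
    (e : M ≅ M') (he : KLinDR.Commutes ρ ρ' e.hom) (i : ℤ) :
    Nonempty (KLinDR.HTρ T M ρ i ≃ₗ[R] KLinDR.HTρ T M' ρ' i) := by
  refine ⟨LinearEquiv.ofBijective (KLinDR.HTρmap T e.hom he i) ⟨?_, ?_⟩⟩
  · intro x y hxy
    have h1 : ∀ z : E1Deg.HT T M i, E1Deg.HTmap T e.inv i (E1Deg.HTmap T e.hom i z) = z := by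
      intro z
      rw [← E1Deg.HTmap_comp, e.hom_inv_id, E1Deg.HTmap_id]
    have hxy' : E1Deg.HTmap T e.hom i (KLinDR.HTρ.toHT x) =
        E1Deg.HTmap T e.hom i (KLinDR.HTρ.toHT y) := congrArg KLinDR.HTρ.toHT hxy
    apply KLinDR.HTρ.toHT.injective
    rw [← h1 (KLinDR.HTρ.toHT x), hxy', h1]
  · intro y
    refine ⟨KLinDR.HTρ.toHT.symm (E1Deg.HTmap T e.inv i (KLinDR.HTρ.toHT y)), ?_⟩
    apply KLinDR.HTρ.toHT.injective
    rw [KLinDR.HTρmap_apply]
    change E1Deg.HTmap T e.hom i (E1Deg.HTmap T e.inv i (KLinDR.HTρ.toHT y)) = _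
    rw [← E1Deg.HTmap_comp, e.inv_hom_id, E1Deg.HTmap_id]

variable {S : ShortComplex (CochainComplex 𝒜 ℤ)} (hS : S.ShortExact)
  {ρ₁ : R →+* End S.X₁} {ρ₂ : R →+* End S.X₂} {ρ₃ : R →+* End S.X₃}

include hS

theorem nonempty_equiv_f (hf : KLinDR.Commutes ρ₁ ρ₂ S.f) (j i : ℤ) (hij : j + 1 = i)
    (h3 : Van T S.X₃ j) (h3' : Van T S.X₃ i) :
    Nonempty (KLinDR.HTρ T S.X₁ ρ₁ i ≃ₗ[R] KLinDR.HTρ T S.X₂ ρ₂ i) := by
  refine ⟨LinearEquiv.ofBijective (KLinDR.HTρmap T S.f hf i) ⟨?_, ?_⟩⟩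
  · intro x y hxy
    apply KLinDR.HTρ.toHT.injective
    exact injective_f hS j i hij h3 (congrArg KLinDR.HTρ.toHT hxy)
  · intro y
    obtain ⟨x, hx⟩ := exact_mid hS i (KLinDR.HTρ.toHT y) (h3' _)
    exact ⟨KLinDR.HTρ.toHT.symm x, KLinDR.HTρ.toHT.injective hx⟩

theorem nonempty_equiv_g (hg : KLinDR.Commutes ρ₂ ρ₃ S.g) (i j : ℤ) (hij : i + 1 = j)
    (h1 : Van T S.X₁ i) (h1' : Van T S.X₁ j) :
    Nonempty (KLinDR.HTρ T S.X₂ ρ₂ i ≃ₗ[R] KLinDR.HTρ T S.X₃ ρ₃ i) := by
  refine ⟨LinearEquiv.ofBijective (KLinDR.HTρmap T S.g hg i) ⟨?_, ?_⟩⟩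
  · rw [← LinearMap.ker_eq_bot, LinearMap.ker_eq_bot']
    intro y hy
    obtain ⟨x, hx⟩ := exact_mid hS i (KLinDR.HTρ.toHT y) (congrArg KLinDR.HTρ.toHT hy)
    apply KLinDR.HTρ.toHT.injective
    rw [← hx, h1 x, map_zero]
    rfl
  · intro y
    obtain ⟨x, hx⟩ := surjective_g hS i j hij h1' (KLinDR.HTρ.toHT y)
    exact ⟨KLinDR.HTρ.toHT.symm x, KLinDR.HTρ.toHT.injective hx⟩

end lin

end Groth.Agent.Helper6.DRPnA
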