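import Mathlib
import Groth.Prelude.Def_KLinDR
import Groth.Agent.Helper6.DRFinA
import Groth.Agent.Helper6.DRPnA

/-!
# Hypercohomology of a complex whose terms have "diagonal" cohomology
-/

set_option autoImplicit false
set_option backward.isDefEq.respectTransparency false
set_option backward.isDefEq.respectTransparency.types false
set_option linter.style.haveILetI false
set_option linter.unusedSectionVars false
set_option linter.unusedVariables false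
set_option linter.unusedSimpArgs false

universe w v u u' u''

open CategoryTheory CategoryTheory.Limits CategoryTheory.Pretriangulated DerivedCategory Opposite

namespace Groth.Agent.Helper6.DRPnB

open Groth.Agent.Helper9.StupidFil DRFinA DRPnA

variable {𝒜 : Type u} [Category.{v} 𝒜] [Abelian 𝒜] [HasDerivedCategory.{w} 𝒜]
  {R : Type u'} [Ring R] {T : 𝒜}
  (L : CochainComplex 𝒜 ℤ) (ρ : R →+* End L) (N : Type u'') [AddCommGroup N] [Module R N] (n : ℕ)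

/-- the inductive statement -/
def Good (c : ℤ) (M : CochainComplex 𝒜 ℤ) (ρM : R →+* End M) : Prop :=
  ∀ m : ℤ,
    ((∃ i : ℕ, -c ≤ (i : ℤ) ∧ i ≤ n ∧ m = 2 * (i : ℤ)) →
      Nonempty (KLinDR.HTρ T M ρM m ≃ₗ[R] N)) ∧
    ((¬ ∃ i : ℕ, -c ≤ (i : ℤ) ∧ i ≤ n ∧ m = 2 * (i : ℤ)) → Van T M m)

variable (hL0 : ∀ m : ℤ, m < 0 → IsZero (L.X m))
  (hLn : ∀ m : ℤ, (n : ℤ) < m → IsZero (L.X m))
  (hdiag : ∀ p : ℕ, p ≤ n → Nonempty (KLinDR.HTρ T
    ((HomologicalComplex.single 𝒜 (ComplexShape.up ℤ) (p : ℤ)).obj (L.X p)) (singleAct L ρ p)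
      (2 * (p : ℤ)) ≃ₗ[R] N))
  (hoff : ∀ p : ℕ, p ≤ n → ∀ i : ℤ, i ≠ 2 * (p : ℤ) →
    Van T ((HomologicalComplex.single 𝒜 (ComplexShape.up ℤ) (p : ℤ)).obj (L.X p)) i)

include hdiag hoff in
theorem good_step (c c' : ℤ) (hcc : c + 1 = c') (p : ℕ) (hpc : (p : ℤ) = -c') (hpn : p ≤ n)
    (hc : Good (T := T) N n c ((Φ L).obj (c : EInt)) (cutAct L ρ (Pa (c : EInt)))) :
    Good (T := T) N n c' ((Φ L).obj (c' : EInt)) (cutAct L ρ (Pa (c' : EInt))) := by
  have hle : (c : EInt) ≤ (c' : EInt) := by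
    rw [WithBotTop.coe_le_coe]; lia
  have hS := sc_shortExact L (homOfLE hle)
  have hf : KLinDR.Commutes (cutAct L ρ (Pa (c : EInt))) (cutAct L ρ (Pa (c' : EInt)))
      (sc L (homOfLE hle)).f := commutes_Φmap L ρ (homOfLE hle)
  have hg : KLinDR.Commutes (cutAct L ρ (Pa (c' : EInt)))
      (cutAct L ρ (Pq (c : EInt) (c' : EInt))) (sc L (homOfLE hle)).g :=
    commutes_quotMap L ρ _ _
  have hP : ∀ m : ℤ, Pq (c : EInt) (c' : EInt) m ↔ m = (p : ℤ) := by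
    intro m
    unfold Pq
    rw [Pa_coe_iff, Pa_coe_iff]
    constructor
    · rintro ⟨h1, h2⟩; lia
    · rintro rfl; constructor <;> lia
  let e3 := cutSingleIso L (p : ℤ) hP
  have he3 : KLinDR.Commutes (singleAct L ρ (p : ℤ)) (cutAct L ρ (Pq (c : EInt) (c' : EInt)))
      e3.symm.hom := commutes_cutSingleIso_inv L ρ (p : ℤ) hP
  have hv3 : ∀ i : ℤ, i ≠ 2 * (p : ℤ) → Van T (sc L (homOfLE hle)).X₃ i :=
    fun i hi => Van.of_iso e3.symm (hoff p hpn i hi)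
  intro m
  constructor
  · rintro ⟨i, hi1, hi2, rfl⟩
    by_cases hip : i = p
    · subst hip
      have v1 : Van T (sc L (homOfLE hle)).X₁ (2 * (i : ℤ)) :=
        (hc (2 * (i : ℤ))).2 (by rintro ⟨i', h1, h2, h3⟩; lia)
      have v2 : Van T (sc L (homOfLE hle)).X₁ (2 * (i : ℤ) + 1) :=
        (hc (2 * (i : ℤ) + 1)).2 (by rintro ⟨i', h1, h2, h3⟩; lia)
      obtain ⟨e1⟩ := nonempty_equiv_g hS hg (2 * (i : ℤ)) (2 * (i : ℤ) + 1) rfl v1 v2
      obtain ⟨e2⟩ := nonempty_equiv_of_iso (T := T) e3.symm he3 (2 * (i : ℤ))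
      obtain ⟨e4⟩ := hdiag i hpn
      exact ⟨e1.trans (e2.symm.trans e4)⟩
    · obtain ⟨e0⟩ := (hc (2 * (i : ℤ))).1 ⟨i, by lia, hi2, rfl⟩
      have v3 := hv3 (2 * (i : ℤ) - 1) (by lia)
      have v3' := hv3 (2 * (i : ℤ)) (by lia)
      obtain ⟨e1⟩ := nonempty_equiv_f hS hf (2 * (i : ℤ) - 1) (2 * (i : ℤ)) (by ring) v3 v3'
      exact ⟨e1.symm.trans e0⟩
  · intro hne
    have hm : m ≠ 2 * (p : ℤ) := fun h => hne ⟨p, by lia, hpn, h⟩
    have v1 : Van T (sc L (homOfLE hle)).X₁ m :=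
      (hc m).2 (fun ⟨i, h1, h2, h3⟩ => hne ⟨i, by lia, h2, h3⟩)
    exact Van.mid hS v1 (hv3 m hm)

include hLn hdiag hoff in
theorem good_nat (k : ℕ) (hk : k ≤ n + 1) :
    Good (T := T) N n (-((n : ℤ) + 1) + k) ((Φ L).obj ((-((n : ℤ) + 1) + k : ℤ) : EInt))
      (cutAct L ρ (Pa ((-((n : ℤ) + 1) + k : ℤ) : EInt))) := by
  induction k with
  | zero =>
    have hz : IsZero ((Φ L).obj ((-((n : ℤ) + 1) + (0 : ℕ) : ℤ) : EInt)) := by
      refine isZero_cut L (fun m hm => hLn m ?_)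
      rw [Pa_coe_iff] at hm
      push_cast at hm
      lia
    intro m
    refine ⟨?_, fun _ => Van.of_isZero hz m⟩
    rintro ⟨i, h1, h2, -⟩
    push_cast at h1
    lia
  | succ k ih =>
    refine good_step L ρ N n hdiag hoff _ _ ?_ (n - k) ?_ (by lia) (ih (by lia))
    · push_cast; ring
    · push_cast
      rw [Nat.cast_sub (by lia)]
      ring

include hL0 hLn hdiag hoff in
theorem good_top : Good (T := T) N n 0 L ρ := by
  have h0 := good_nat L ρ N n hLn hdiag hoff (n + 1) le_rfl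
  have e0 : (-((n : ℤ) + 1) + ((n + 1 : ℕ) : ℤ) : ℤ) = 0 := by push_cast; ring
  rw [e0] at h0
  have hle : ((0 : ℤ) : EInt) ≤ ⊤ := le_top
  have hS := sc_shortExact L (homOfLE hle)
  have hf : KLinDR.Commutes (cutAct L ρ (Pa ((0 : ℤ) : EInt))) (cutAct L ρ (Pa ⊤))
      (sc L (homOfLE hle)).f := commutes_Φmap L ρ (homOfLE hle)
  have hz : IsZero (sc L (homOfLE hle)).X₃ := by
    refine isZero_cut L (fun m hm => hL0 m ?_)
    have hm2 := hm.2
    rw [Pa_coe_iff] at hm2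
    lia
  have hi := commutes_cutIsoOfForall L ρ (P := Pa ⊤) Pa_top
  intro m
  constructor
  · intro hex
    obtain ⟨e0⟩ := (h0 m).1 hex
    obtain ⟨e1⟩ := nonempty_equiv_f (T := T) hS hf (m - 1) m (by ring) (Van.of_isZero hz _)
      (Van.of_isZero hz _)
    obtain ⟨e2⟩ := nonempty_equiv_of_iso (T := T) (cutIsoOfForall L (P := Pa ⊤) Pa_top) hi m
    exact ⟨e2.symm.trans (e1.symm.trans e0)⟩
  · intro hne
    have v1 := (h0 m).2 hne
    have v2 : Van T (sc L (homOfLE hle)).X₂ m := Van.mid hS v1 (Van.of_isZero hz _)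
    exact Van.of_iso (cutIsoOfForall L (P := Pa ⊤) Pa_top) v2

include hL0 hLn hdiag hoff in
/-- the even-degree hypercohomology -/
theorem nonempty_equiv_even (i : ℕ) (hi : i ≤ n) :
    Nonempty (KLinDR.HTρ T L ρ (2 * (i : ℤ)) ≃ₗ[R] N) :=
  ((good_top L ρ N n hL0 hLn hdiag hoff) (2 * (i : ℤ))).1 ⟨i, by lia, hi, rfl⟩

include hL0 hLn hdiag hoff in
/-- the vanishing of the remaining hypercohomology -/
theorem van_of_ne (m : ℤ) (hm : ∀ i : ℕ, i ≤ n → m ≠ 2 * (i : ℤ)) : Van T L m :=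
  ((good_top L ρ N n hL0 hLn hdiag hoff) m).2 (fun ⟨i, _, h2, h3⟩ => hm i h2 h3)

end Groth.Agent.Helper6.DRPnB
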