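import Mathlib
import Groth.Prelude
import Groth.Agent.Helper6.DRFinC
import Groth.Agent.Helper6.DRPnA

/-!
# The base case of the dévissage as a linear equivalence
-/

set_option autoImplicit false
set_option linter.style.haveILetI false
set_option linter.unusedSectionVars false
set_option linter.unusedVariables false
set_option linter.unusedSimpArgs false

universe w w' v u u' u''

open CategoryTheory CategoryTheory.Limits CategoryTheory.Pretriangulated DerivedCategory Abelian
  AlgebraicGeometry Opposite TopologicalSpace exteriorPower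

namespace Groth.Agent.Helper6.DRPnC

section abelian

variable {𝒜 : Type u} [Category.{v} 𝒜] [Abelian 𝒜] [HasDerivedCategory.{w} 𝒜]
  {R : Type u'} [Ring R] [HasExt.{w'} 𝒜]

open DRFinB in
/-- **the base case**: the hypercohomology of a single complex is an `Ext` group, compatibly with
the actions. -/
theorem nonempty_single_equiv (T M : 𝒜) (σ : R →+* End M) (p i : ℤ) (q : ℕ) (hq : p + q = i)
    (N : Type u'') [AddCommGroup N] [Module R N] (e : Ext.{w'} T M q ≃+ N)
    (he : ∀ (r : R) (x : Ext.{w'} T M q),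
      e (x.comp (Ext.mk₀ (σ r : M ⟶ M)) (add_zero q)) = r • e x) :
    Nonempty (KLinDR.HTρ T ((HomologicalComplex.single 𝒜 (ComplexShape.up ℤ) p).obj M)
      (singleActOf σ p) i ≃ₗ[R] N) := by
  let β := B (𝒜 := 𝒜) p i (p - i) q (by ring) (by lia)
  let Θ : KLinDR.HTρ T ((HomologicalComplex.single 𝒜 (ComplexShape.up ℤ) p).obj M)
      (singleActOf σ p) i ≃+ N :=
    KLinDR.HTρ.toHT.trans ((postEquiv (β.app M)).trans (Ext.homAddEquiv.symm.trans e))
  have hΘ : ∀ x, Θ x = e (Ext.homEquiv.symm (KLinDR.HTρ.toHT x ≫ β.hom.app M)) :=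
    fun x => rfl
  let Θl : KLinDR.HTρ T ((HomologicalComplex.single 𝒜 (ComplexShape.up ℤ) p).obj M)
      (singleActOf σ p) i ≃ₗ[R] N :=
    { Θ with
      map_smul' := fun r x => by
        change Θ (r • x) = r • Θ x
        rw [hΘ, hΘ, ← he, KLinDR.smul_def, Category.assoc]
        have hnat := β.hom.naturality (σ r : M ⟶ M)
        have hnat' : (shiftFunctor (DerivedCategory 𝒜) i).map
            (Q.map ((HomologicalComplex.single 𝒜 (ComplexShape.up ℤ) p).map (σ r : M ⟶ M))) ≫
              β.hom.app M = β.hom.app M ≫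
                ((singleFunctor 𝒜 0).map (σ r : M ⟶ M))⟦(q : ℤ)⟧' := hnat
        change e (Ext.homEquiv.symm (KLinDR.HTρ.toHT x ≫
          (shiftFunctor (DerivedCategory 𝒜) i).map
            (Q.map ((HomologicalComplex.single 𝒜 (ComplexShape.up ℤ) p).map (σ r : M ⟶ M))) ≫
              β.hom.app M)) = _
        rw [hnat', ← Category.assoc, homEquiv_symm_comp] }
  exact ⟨Θl⟩

end abelian

section site

variable {C : Type u} [SmallCategory C] {J : GrothendieckTopology C}
  [HasDerivedCategory.{w} (Sheaf J AddCommGrpCat.{u})] [HasExt.{w'} (Sheaf J AddCommGrpCat.{u})]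
  {R : Type u'} [Ring R]

/-- the base case on a site with a terminal object, in terms of sheaf cohomology -/
theorem nonempty_single_sheaf_equiv {T₀ : C} (hT : IsTerminal T₀)
    (M : Sheaf J AddCommGrpCat.{u})
    (σ : R →+* End M) (p i : ℤ) (q : ℕ) (hq : p + q = i)
    (N : Type u'') [AddCommGroup N] [Module R N] (e : Sheaf.H.{w'} M q ≃+ N)
    (he : ∀ (r : R) (x : Sheaf.H.{w'} M q), e (Sheaf.H.map (σ r : M ⟶ M) q x) = r • e x) :
    Nonempty (KLinDR.HTρ (CohCx.freeSheaf J T₀)
      ((HomologicalComplex.single (Sheaf J AddCommGrpCat.{u}) (ComplexShape.up ℤ) p).obj M)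
      (DRFinB.singleActOf σ p) i ≃ₗ[R] N) := by
  let φ := DRVanC.freeSheafTerminalIso J hT
  refine nonempty_single_equiv (CohCx.freeSheaf J T₀) M σ p i q hq N
    ((DRFinC.precompEquiv φ.symm M q).trans e) (fun r x => ?_)
  change e (DRFinC.precompEquiv φ.symm M q (x.comp (Ext.mk₀ (σ r : M ⟶ M)) (add_zero q))) = _
  rw [DRFinC.precompEquiv_comp]
  exact he r _

/-- a ring homomorphism from `ℤ` acts on cohomology by the `ℤ`-module structure -/
theorem H_map_int (M : Sheaf J AddCommGrpCat.{u}) (σ : ℤ →+* End M) (q : ℕ) (r : ℤ)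
    (x : Sheaf.H.{w'} M q) : Sheaf.H.map (σ r : M ⟶ M) q x = r • x := by
  let φ : (M ⟶ M) →+ Sheaf.H.{w'} M q :=
    { toFun := fun f => Sheaf.H.map f q x
      map_zero' := by
        change x.comp (Ext.mk₀ (0 : M ⟶ M)) (add_zero q) = 0
        rw [Ext.mk₀_zero, Ext.comp_zero]
      map_add' := fun f g => Sheaf.H.map_add_apply f g x }
  have h1 : (σ r : M ⟶ M) = r • (𝟙 M : M ⟶ M) := by
    have h2 : σ r = ((r : ℤ) : End M) := eq_intCast σ r
    rw [h2]
    exact (zsmul_one (r : ℤ)).symm
  change φ (σ r : M ⟶ M) = r • x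
  rw [h1, map_zsmul]
  congr 1
  exact Sheaf.H.map_id_apply x

end site

end Groth.Agent.Helper6.DRPnC
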