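import Mathlib
import Groth.Prelude
import Groth.Agent.Helper6.DRPnB
import Groth.Agent.Helper6.DRPnC

/-!
# de Rham cohomology of a scheme whose Hodge cohomology is concentrated on the diagonal
-/

set_option autoImplicit false
set_option linter.style.haveILetI false
set_option linter.unusedSectionVars false
set_option linter.unusedVariables false
set_option linter.unusedSimpArgs false

universe w w' v u u' u''

open CategoryTheory CategoryTheory.Limits CategoryTheory.Pretriangulated DerivedCategory Abelian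
  AlgebraicGeometry Opposite TopologicalSpace exteriorPower

namespace Groth.Agent.Helper6.DRPnD

open DRPnA

variable {X S : Scheme.{u}} {f : X ⟶ S} {Ω' : X.Modules} {δ : OmegaSh.Der f Ω'}
  (D : DeRhamSh.Cx f Ω' δ)

/-- the identification of the terms of the extended complex -/
noncomputable def κ (p : ℕ) : D.KZ.X (p : ℤ) ≅ Coh.toAb (D.term p) :=
  D.K.extendXIso ComplexShape.embeddingUpNat (ComplexShape.embeddingUpNat_f p) ≪≫ D.iso p

/-- the comparison of the cohomology of the terms -/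
noncomputable def eT (p q : ℕ) :
    Sheaf.H.{u} (D.KZ.X (p : ℤ)) q ≃+ Coh.HH X (D.term p) q where
  toFun := Sheaf.H.map (κ D p).hom q
  invFun := Sheaf.H.map (κ D p).inv q
  left_inv x := by
    rw [← Sheaf.H.map_comp_apply, (κ D p).hom_inv_id, Sheaf.H.map_id_apply]
  right_inv x := by
    rw [← Sheaf.H.map_comp_apply, (κ D p).inv_hom_id, Sheaf.H.map_id_apply]
  map_add' x y := map_add _ _ _

theorem isZero_KZ_of_neg (m : ℤ) (hm : m < 0) : IsZero (D.KZ.X m) := by
  refine HomologicalComplex.isZero_extend_X D.K _ m (fun j hj => ?_)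
  have : (j : ℤ) = m := hj
  lia

theorem isZero_KZ_of_gt (n : ℕ) (hz : ∀ p, n < p → IsZero (D.term p)) (m : ℤ) (hm : (n : ℤ) < m) :
    IsZero (D.KZ.X m) := by
  obtain ⟨p, rfl⟩ : ∃ p : ℕ, m = p := ⟨m.toNat, (Int.toNat_of_nonneg (by lia)).symm⟩
  refine IsZero.of_iso ?_ (κ D p)
  exact Functor.map_isZero (SheafOfModules.toSheaf X.ringCatSheaf) (hz p (by lia))

variable [HasDerivedCategory.{u} (Sheaf (Opens.grothendieckTopology X) AddCommGrpCat.{u})]
  {R : Type u'} [Ring R] (ρ : R →+* End D.KZ)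

/-- the base case for a general action -/
theorem nonempty_term_equiv (p q : ℕ) (i : ℤ) (hq : (p : ℤ) + q = i)
    (N : Type u'') [AddCommGroup N] [Module R N] (e : Coh.HH X (D.term p) q ≃+ N)
    (he : ∀ (r : R) (x : Coh.HH X (D.term p) q),
      e (Sheaf.H.map ((κ D p).inv ≫ (ρ r : D.KZ ⟶ D.KZ).f (p : ℤ) ≫ (κ D p).hom) q x) = r • e x) :
    Nonempty (KLinDR.HTρ (CohCx.freeSheaf (Opens.grothendieckTopology X) (⊤ : X.Opens))
      ((HomologicalComplex.single _ (ComplexShape.up ℤ) (p : ℤ)).obj (D.KZ.X (p : ℤ)))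
      (DRFinA.singleAct D.KZ ρ (p : ℤ)) i ≃ₗ[R] N) := by
  rw [DRFinB.singleAct_eq]
  refine DRPnC.nonempty_single_sheaf_equiv isTerminalTop (D.KZ.X (p : ℤ))
    (DRFinB.termAct D.KZ ρ (p : ℤ)) (p : ℤ) i q hq N ((eT D p q).trans e) (fun r x => ?_)
  have h1 := he r (Sheaf.H.map (κ D p).hom q x)
  rw [← Sheaf.H.map_comp_apply, Iso.hom_inv_id_assoc, Sheaf.H.map_comp_apply] at h1
  exact h1

theorem van_term_of_lt (p : ℕ) (i : ℤ) (hi : i < p) :
    Van (CohCx.freeSheaf (Opens.grothendieckTopology X) (⊤ : X.Opens))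
      ((HomologicalComplex.single _ (ComplexShape.up ℤ) (p : ℤ)).obj (D.KZ.X (p : ℤ))) i :=
  Van.of_isStrictlyGE (p : ℤ) hi

theorem van_term_of_subsingleton (p q : ℕ) (i : ℤ) (hq : (p : ℤ) + q = i)
    (h : Subsingleton (Coh.HH X (D.term p) q)) :
    Van (CohCx.freeSheaf (Opens.grothendieckTopology X) (⊤ : X.Opens))
      ((HomologicalComplex.single _ (ComplexShape.up ℤ) (p : ℤ)).obj (D.KZ.X (p : ℤ))) i := by
  let ρ : ℤ →+* End D.KZ := Int.castRingHom _
  obtain ⟨e⟩ := nonempty_term_equiv D ρ p q i hq (Coh.HH X (D.term p) q) (AddEquiv.refl _)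
    (fun r x => Subsingleton.elim _ _)
  intro x
  have : Subsingleton (KLinDR.HTρ (CohCx.freeSheaf (Opens.grothendieckTopology X) (⊤ : X.Opens))
      ((HomologicalComplex.single _ (ComplexShape.up ℤ) (p : ℤ)).obj (D.KZ.X (p : ℤ)))
      (DRFinA.singleAct D.KZ ρ (p : ℤ)) i) := e.toEquiv.subsingleton
  exact Subsingleton.elim (α := KLinDR.HTρ (CohCx.freeSheaf (Opens.grothendieckTopology X)
    (⊤ : X.Opens))
      ((HomologicalComplex.single _ (ComplexShape.up ℤ) (p : ℤ)).obj (D.KZ.X (p : ℤ)))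
      (DRFinA.singleAct D.KZ ρ (p : ℤ)) i) x 0

end Groth.Agent.Helper6.DRPnD
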