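import Mathlib
import Groth.Prelude
import Groth.Agent.Helper6.DRPnD

/-!
# de Rham cohomology of a scheme whose Hodge cohomology is concentrated on the diagonal: main
-/

set_option autoImplicit false
set_option linter.style.haveILetI false
set_option linter.unusedSectionVars false
set_option linter.unusedVariables false
set_option linter.unusedSimpArgs false

universe w w' v u u' u''

open CategoryTheory CategoryTheory.Limits CategoryTheory.Pretriangulated DerivedCategory Abelian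
  AlgebraicGeometry Opposite TopologicalSpace exteriorPower

namespace Groth.Agent.Helper6.DRPnE

open DRPnA DRPnD

variable {A : Type u} [CommRing A] {X : Scheme.{u}} [X.Over (Spec (CommRingCat.of A))]
  {Ω' : X.Modules} {δ : OmegaSh.Der (X ↘ Spec (CommRingCat.of A)) Ω'}
  (D : DeRhamSh.Cx (X ↘ Spec (CommRingCat.of A)) Ω' δ)
  [HasDerivedCategory.{u} (Sheaf (Opens.grothendieckTopology X) AddCommGrpCat.{u})]
  (n : ℕ) (hz : ∀ p, n < p → IsZero (D.term p))
  (hoff : ∀ p q : ℕ, p ≤ n → p ≠ q → Subsingleton (Coh.HH X (D.term p) q))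

include hoff in
theorem van_term (p : ℕ) (hp : p ≤ n) (i : ℤ) (hi : i ≠ 2 * (p : ℤ)) :
    Van (CohCx.freeSheaf (Opens.grothendieckTopology X) (⊤ : X.Opens))
      ((HomologicalComplex.single _ (ComplexShape.up ℤ) (p : ℤ)).obj (D.KZ.X (p : ℤ))) i := by
  by_cases hip : i < p
  · exact van_term_of_lt D p i hip
  · obtain ⟨q, hq⟩ : ∃ q : ℕ, (p : ℤ) + q = i := ⟨(i - p).toNat, by lia⟩
    exact van_term_of_subsingleton D p q i hq (hoff p q hp (by lia))

include hz hoff in
/-- vanishing of de Rham cohomology outside the even degrees `0, 2, …, 2n` -/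
theorem subsingleton_HdR (m : ℤ) (hm : ∀ i : ℕ, i ≤ n → m ≠ 2 * (i : ℤ)) :
    Subsingleton (DeRhamSh.HdR D m) := by
  refine DRVanC.subsingleton_HDU_of_H (J := Opens.grothendieckTopology ↥X)
    (T := (⊤ : Opens ↥X)) isTerminalTop D.K m n (fun p hp => ?_) (fun p q hp hpq => ?_)
  · exact IsZero.of_iso (Functor.map_isZero (SheafOfModules.toSheaf X.ringCatSheaf) (hz p hp))
      (D.iso p)
  · have e := (Sheaf.functorH.{u, u, u, u} (Opens.grothendieckTopology ↥X) q).mapIso (D.iso p)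
    haveI : Subsingleton ↑((Sheaf.functorH.{u, u, u, u} (Opens.grothendieckTopology ↥X) q).obj
        (Coh.toAb (D.term p))) := hoff p q hp (fun h => hm p hp (by lia))
    exact (e.addCommGroupIsoToAddEquiv.toEquiv).subsingleton

/-- forgetting linearity, with explicit instances -/
def toAddEquiv' {R : Type*} {M N : Type*} [Ring R] [AddCommGroup M] [AddCommGroup N]
    (iM : Module R M) (iN : Module R N) (e : M ≃ₗ[R] N) : M ≃+ N := e.toAddEquiv

include hz hoff in
/-- the even de Rham cohomology groups, additively -/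
theorem nonempty_addEquiv (N : Type u) [AddCommGroup N]
    (hdiag : ∀ p : ℕ, p ≤ n → Nonempty (Coh.HH X (D.term p) p ≃+ N)) (i : ℕ) (hi : i ≤ n) :
    Nonempty (DeRhamSh.HdR D (2 * (i : ℤ)) ≃+ N) := by
  let ρ : ℤ →+* End D.KZ := Int.castRingHom _
  refine (DRPnB.nonempty_equiv_even
    (T := CohCx.freeSheaf (Opens.grothendieckTopology X) (⊤ : X.Opens))
    D.KZ ρ N n (isZero_KZ_of_neg D) (isZero_KZ_of_gt D n hz)
    (fun p hp => ?_) (fun p hp i hi => van_term D n hoff p hp i hi) i hi).elim (fun e => ?_)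
  · obtain ⟨e⟩ := hdiag p hp
    refine nonempty_term_equiv D ρ p p (2 * (p : ℤ)) (by ring) N e (fun r x => ?_)
    rw [Sheaf.H.map_comp_apply, Sheaf.H.map_comp_apply]
    have h1 := DRPnC.H_map_int (D.KZ.X (p : ℤ)) (DRFinB.termAct D.KZ ρ (p : ℤ)) p r
      (Sheaf.H.map (κ D p).inv p x)
    have h2 : Sheaf.H.map ((ρ r : D.KZ ⟶ D.KZ).f (p : ℤ)) p (Sheaf.H.map (κ D p).inv p x) =
        r • Sheaf.H.map (κ D p).inv p x := h1
    rw [h2, map_zsmul, ← Sheaf.H.map_comp_apply, Iso.inv_hom_id, Sheaf.H.map_id_apply]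
    exact map_zsmul e r x
  · exact ⟨(KLinDR.HTρ.toHT (ρ := ρ)).symm.trans (toAddEquiv' _ _ e)⟩

include hz hoff in
/-- the even de Rham cohomology groups, linearly -/
theorem nonempty_linearEquiv (N : Type u) [AddCommGroup N] [Module A N]
    (hdiag : ∀ p : ℕ, p ≤ n → Nonempty (Coh.HH X (D.term p) p ≃ₗ[A] N))
    (h : KLinDR.TermwiseLinear (Coh.toGlobal (X ↘ Spec (CommRingCat.of A))) D.K D.term D.iso)
    (i : ℕ) (hi : i ≤ n) :
    Nonempty (KLinDR.HdR (Coh.toGlobal (X ↘ Spec (CommRingCat.of A))) D h (2 * (i : ℤ)) ≃ₗ[A] N) := by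
  refine DRPnB.nonempty_equiv_even
    (T := CohCx.freeSheaf (Opens.grothendieckTopology X) (⊤ : X.Opens))
    D.KZ (KLinDR.scalar h) N n (isZero_KZ_of_neg D) (isZero_KZ_of_gt D n hz)
    (fun p hp => ?_) (fun p hp i hi => van_term D n hoff p hp i hi) i hi
  obtain ⟨e⟩ := hdiag p hp
  refine nonempty_term_equiv D (KLinDR.scalar h) p p (2 * (p : ℤ)) (by ring) N e.toAddEquiv
    (fun r x => ?_)
  have h1 : (κ D p).inv ≫ (KLinDR.scalar h r : D.KZ ⟶ D.KZ).f (p : ℤ) ≫ (κ D p).hom =
      Coh.smulAb (D.term p) (Coh.toGlobal (X ↘ Spec (CommRingCat.of A)) r) := by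
    rw [KLinDR.scalar_f]
    unfold κ KLinDR.scalarEnd
    simp only [Iso.trans_hom, Iso.trans_inv, Category.assoc, Iso.inv_hom_id_assoc,
      Iso.inv_hom_id, Category.comp_id]
  rw [h1]
  exact e.map_smul r x

end Groth.Agent.Helper6.DRPnE
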