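import Mathlib
import Groth.Prelude
import Groth.Agent.Helper6.DRPnE
import Groth.Agent.Helper6.PnHodgeB

/-!
# de Rham cohomology of projective space
-/

set_option autoImplicit false
set_option linter.style.haveILetI false
set_option linter.unusedSectionVars false
set_option linter.unusedVariables false
set_option linter.unusedSimpArgs false

universe u

open CategoryTheory CategoryTheory.Limits AlgebraicGeometry Opposite TopologicalSpace
open Groth.Agent.Helper1.ProjSpR Groth.Agent.Helper1.ProjTop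

namespace Groth.Agent.Helper6.DRPnF

open PnFrameC

variable (n : ℕ) (A : Type u) [CommRing A]

local notation "𝒢" => CohB1.polyGrading n A

attribute [local instance] Groth.Agent.Helper1.ProjTop.overR

theorem isZero_term [QuasiSeparated (toSpecR 𝒢)]
    (D : DeRhamSh.OmegaCx (toSpecR 𝒢)) (p : ℕ) (hp : n < p) : IsZero (D.term p) := by
  obtain ⟨p', rfl⟩ : ∃ p', p = p' + 1 := ⟨p - 1, by omega⟩
  obtain ⟨e⟩ := PnHodgeA.nonempty_iso_K n A p' (D.term (p' + 1)) (D.isExtPow (p' + 1))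
  exact IsZero.of_iso (PnCohD.isZero_K n A p' (by omega)) e

theorem subsingleton_HdR (hn : 1 ≤ n) [QuasiSeparated (toSpecR 𝒢)]
    (D : DeRhamSh.OmegaCx (toSpecR 𝒢))
    [HasDerivedCategory.{u} (Sheaf (Opens.grothendieckTopology ↥(Proj 𝒢)) AddCommGrpCat.{u})]
    (m : ℤ) (hm : ∀ i : ℕ, i ≤ n → m ≠ 2 * (i : ℤ)) :
    Subsingleton (DeRhamSh.HdR D m) :=
  DRPnE.subsingleton_HdR (A := A) (X := Proj 𝒢) D n (isZero_term n A D)
    (fun p q hp hpq => PnHodgeB.hodge_vanishing n A hn p (D.term p) (D.isExtPow p) q (Or.inl hpq))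
    m hm

theorem nonempty_addEquiv (hn : 1 ≤ n) [QuasiSeparated (toSpecR 𝒢)]
    (D : DeRhamSh.OmegaCx (toSpecR 𝒢))
    [HasDerivedCategory.{u} (Sheaf (Opens.grothendieckTopology ↥(Proj 𝒢)) AddCommGrpCat.{u})]
    (i : ℕ) (hi : i ≤ n) :
    Nonempty (DeRhamSh.HdR D (2 * (i : ℤ)) ≃+ A) :=
  DRPnE.nonempty_addEquiv (A := A) (X := Proj 𝒢) D n (isZero_term n A D)
    (fun p q hp hpq => PnHodgeB.hodge_vanishing n A hn p (D.term p) (D.isExtPow p) q (Or.inl hpq))
    A (fun p hp => (PnHodgeB.hodge_diag n A hn p hp (D.term p) (D.isExtPow p)).map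
      (fun e => e.toAddEquiv)) i hi

theorem nonempty_linearEquiv (hn : 1 ≤ n) [QuasiSeparated (toSpecR 𝒢)]
    (D : DeRhamSh.OmegaCx (toSpecR 𝒢))
    [HasDerivedCategory.{u} (Sheaf (Opens.grothendieckTopology ↥(Proj 𝒢)) AddCommGrpCat.{u})]
    (h : KLinDR.TermwiseLinear (Coh.toGlobal (toSpecR 𝒢)) D.K D.term D.iso) (i : ℕ) (hi : i ≤ n) :
    Nonempty (KLinDR.HdR (Coh.toGlobal (toSpecR 𝒢)) D h (2 * (i : ℤ)) ≃ₗ[A] A) :=
  DRPnE.nonempty_linearEquiv (A := A) (X := Proj 𝒢) D n (isZero_term n A D)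
    (fun p q hp hpq => PnHodgeB.hodge_vanishing n A hn p (D.term p) (D.isExtPow p) q (Or.inl hpq))
    A (fun p hp => PnHodgeB.hodge_diag n A hn p hp (D.term p) (D.isExtPow p)) h i hi

end Groth.Agent.Helper6.DRPnF
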