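import Mathlib
import Groth.Prelude.Def_DRing4
import Groth.Prelude.Def_CAlg
import Groth.Agent.Helper6.LD16
import Groth.Agent.Helper6.QG2

/-!
# Cohen–Macaulay points of a Noetherian ring with a dualizing complex, in terms of `H^i(ω)`
-/

set_option autoImplicit false
set_option linter.style.haveILetI false
set_option linter.unusedSectionVars false

universe u
open CategoryTheory CategoryTheory.Limits Pretriangulated DerivedCategory TensorProduct
attribute [local instance] HasDerivedCategory.standard

namespace Groth.Agent.Helper6.DSch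
open Groth.Agent.Helper6.LD IsLocalRing

variable {A : Type u} [CommRing A] [IsNoetherianRing A]

lemma support_hom_self (ω : Dual.D A) (hω : Dual.IsDualizing A ω) (i : ℤ) :
    Module.support A (Dual.inD A A ⟶ ω⟦i⟧) = Module.support A (Dual.HD A ω i) := by
  obtain ⟨e⟩ := HD_equiv_hom_self ω hω i
  exact (LinearEquiv.support_eq e).symm

/-- some cohomology module of a dualizing complex is supported at `p` -/
theorem exists_mem_support_HD (ω : Dual.D A) (hω : Dual.IsDualizing A ω) (p : PrimeSpectrum A) :
    ∃ i : ℤ, p ∈ Module.support A (Dual.HD A ω i) := by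
  have hp : p ∈ Module.support A A := by
    rw [Module.mem_support_iff_of_finite, Module.annihilator_eq_bot.mpr inferInstance]
    exact bot_le
  obtain ⟨s, e, t, -, -, -, -, h1, -⟩ := Groth.Agent.Helper6.QG.loc_range' ω hω A p hp
  exact ⟨s - (e : ℤ), by rw [← support_hom_self ω hω]; exact h1⟩

/-- `A_p` is Cohen–Macaulay iff exactly one `H^i(ω)` is supported at `p` -/
theorem cm_atPrime_iff (ω : Dual.D A) (hω : Dual.IsDualizing A ω) (p : PrimeSpectrum A) :
    LocCoh.IsCohenMacaulayLocalRing (Localization.AtPrime p.asIdeal) ↔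
      ∃! i : ℤ, p ∈ Module.support A (Dual.HD A ω i) := by
  let e0 : (Localization.AtPrime p.asIdeal ⊗[A] A) ≃ₗ[Localization.AtPrime p.asIdeal]
      Localization.AtPrime p.asIdeal :=
    TensorProduct.AlgebraTensorModule.rid A (Localization.AtPrime p.asIdeal)
      (Localization.AtPrime p.asIdeal)
  haveI : Nontrivial (Localization.AtPrime p.asIdeal ⊗[A] A) := e0.toEquiv.nontrivial
  have h1 := cm_iff_support_unique ω hω A p
  have h2 : LocCoh.IsCohenMacaulayLocalRing (Localization.AtPrime p.asIdeal) ↔
      LocCoh.IsCohenMacaulayModule (Localization.AtPrime p.asIdeal)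
        (Localization.AtPrime p.asIdeal ⊗[A] A) := by
    rw [cm_congr e0]
    exact ⟨fun h => h.supportDim_eq_depth, fun h => { supportDim_eq_depth := h }⟩
  rw [h2, h1]
  obtain ⟨i₀, hi₀⟩ := exists_mem_support_HD ω hω p
  constructor
  · intro h
    refine ⟨i₀, hi₀, fun j hj => ?_⟩
    rw [← support_hom_self ω hω] at hi₀ hj
    exact h j i₀ hj hi₀
  · rintro ⟨i, -, hi⟩ j k hj hk
    rw [support_hom_self ω hω] at hj hk
    rw [hi j hj, hi k hk]

/-- the Cohen–Macaulay locus of a Noetherian ring with a dualizing complex is open -/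
theorem isOpen_cm_locus (ω : Dual.D A) (hω : Dual.IsDualizing A ω) :
    IsOpen {p : PrimeSpectrum A |
      LocCoh.IsCohenMacaulayLocalRing (Localization.AtPrime p.asIdeal)} := by
  have h := isOpen_support_unique ω hω A
  convert h using 1
  ext p
  let e0 : (Localization.AtPrime p.asIdeal ⊗[A] A) ≃ₗ[Localization.AtPrime p.asIdeal]
      Localization.AtPrime p.asIdeal :=
    TensorProduct.AlgebraTensorModule.rid A (Localization.AtPrime p.asIdeal)
      (Localization.AtPrime p.asIdeal)
  haveI : Nontrivial (Localization.AtPrime p.asIdeal ⊗[A] A) := e0.toEquiv.nontrivial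
  have h1 := cm_iff_support_unique ω hω A p
  have h2 : LocCoh.IsCohenMacaulayLocalRing (Localization.AtPrime p.asIdeal) ↔
      LocCoh.IsCohenMacaulayModule (Localization.AtPrime p.asIdeal)
        (Localization.AtPrime p.asIdeal ⊗[A] A) := by
    rw [cm_congr e0]
    exact ⟨fun h => h.supportDim_eq_depth, fun h => { supportDim_eq_depth := h }⟩
  show LocCoh.IsCohenMacaulayLocalRing (Localization.AtPrime p.asIdeal) ↔ _
  rw [h2, h1]
  rfl

end Groth.Agent.Helper6.DSch
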