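import Mathlib
import Groth.Prelude.Def_Wider
import Groth.Prelude.Def_DRing2
import Groth.Agent.Helper1.TorCrit
import Groth.Agent.Helper3.DRingInjAmp
import Groth.Agent.Helper6.DualSelf

/-!
# `A[X] ⊗ E` has injective dimension `≤ 1` over `A[X]` for `E` injective, `A` Noetherian
-/

set_option autoImplicit false
universe u

open CategoryTheory Abelian

namespace Groth.Agent.Helper6.InjPoly

section BassPapp

variable {R : Type u} [CommRing R]

theorem injective_of_linearEquiv {M N : Type u} [AddCommGroup M] [Module R M]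
    [AddCommGroup N] [Module R N] (e : M ≃ₗ[R] N) (hM : Module.Injective R M) :
    Module.Injective R N := by
  apply Module.Baer.injective
  intro I g
  obtain ⟨f', hf'⟩ := Module.Baer.of_injective hM I (e.symm.toLinearMap ∘ₗ g)
  exact ⟨e.toLinearMap ∘ₗ f', fun x hx => by simp [hf' x hx]⟩

/-- Bass–Papp: direct sums of injectives over a Noetherian ring are injective -/
theorem injective_finsupp [IsNoetherianRing R] (ι : Type) (E : Type u) [AddCommGroup E]
    [Module R E] (hE : Module.Injective R E) : Module.Injective R (ι →₀ E) := by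
  classical
  apply Module.Baer.injective
  intro I g
  obtain ⟨t, ht⟩ := (IsNoetherian.noetherian I : I.FG)
  have htI : ∀ x ∈ t, x ∈ I := fun x hx => ht ▸ Submodule.subset_span hx
  let s : Finset ι := t.attach.biUnion (fun x => (g ⟨x.1, htI x.1 x.2⟩).support)
  let gi : ι → (I →ₗ[R] E) := fun i => (Finsupp.lapply i) ∘ₗ g
  have hgi : ∀ i, i ∉ s → gi i = 0 := by
    intro i hi
    apply LinearMap.ext
    rintro ⟨y, hy⟩
    have hy' : y ∈ Submodule.span R (t : Set R) := ht ▸ hy
    have key : ∀ (z : R) (hz : z ∈ Submodule.span R (t : Set R)),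
        gi i ⟨z, ht ▸ hz⟩ = 0 := by
      intro z hz
      induction hz using Submodule.span_induction with
      | mem x hx =>
        show (g ⟨x, _⟩) i = 0
        by_contra hne
        apply hi
        rw [Finset.mem_biUnion]
        exact ⟨⟨x, hx⟩, Finset.mem_attach _ _, Finsupp.mem_support_iff.2 hne⟩
      | zero =>
        have : (⟨0, ht ▸ Submodule.zero_mem _⟩ : I) = 0 := rfl
        rw [this, map_zero]
      | add x y hx hy h1 h2 =>
        have : (⟨x + y, ht ▸ Submodule.add_mem _ hx hy⟩ : I) =
          ⟨x, ht ▸ hx⟩ + ⟨y, ht ▸ hy⟩ := rfl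
        rw [this, map_add, h1, h2, add_zero]
      | smul a x hx h1 =>
        have : (⟨a • x, ht ▸ Submodule.smul_mem _ a hx⟩ : I) = a • ⟨x, ht ▸ hx⟩ := rfl
        rw [this, map_smul, h1, smul_zero]
    exact key y hy'
  have hext : ∀ i, ∃ g' : R →ₗ[R] E, ∀ (x : R) (mem : x ∈ I), g' x = gi i ⟨x, mem⟩ :=
    fun i => Module.Baer.of_injective hE I (gi i)
  choose g' hg' using hext
  let e : ι → E := fun i => if gi i = 0 then 0 else g' i 1
  have he : ∀ i, e i ≠ 0 → i ∈ s := by
    intro i hne
    by_contra hi
    apply hne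
    show (if gi i = 0 then 0 else g' i 1) = 0
    rw [if_pos (hgi i hi)]
  let ef : ι →₀ E := Finsupp.onFinset s e he
  refine ⟨LinearMap.toSpanSingleton R _ ef, ?_⟩
  intro x hx
  ext i
  show (x • ef) i = (g ⟨x, hx⟩) i
  rw [Finsupp.smul_apply]
  show x • e i = gi i ⟨x, hx⟩
  by_cases h0 : gi i = 0
  · show x • (if gi i = 0 then 0 else g' i 1) = _
    rw [if_pos h0, smul_zero, h0]; rfl
  · show x • (if gi i = 0 then 0 else g' i 1) = _
    rw [if_neg h0, ← map_smul, smul_eq_mul, mul_one, hg' i x hx]

end BassPapp


section Coind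

variable (A B : Type u) [CommRing A] [CommRing B] [Algebra A B]
  (N : Type u) [AddCommGroup N] [Module A N]

/-- coinduced module `Hom_A(B, N)` with `B` acting on the source -/
def Coind : Type u := B →ₗ[A] N

namespace Coind

instance : AddCommGroup (Coind A B N) := inferInstanceAs (AddCommGroup (B →ₗ[A] N))

variable {A B N}

/-- underlying linear map -/
def toLin (φ : Coind A B N) : B →ₗ[A] N := φ

/-- constructor -/
def ofLin (φ : B →ₗ[A] N) : Coind A B N := φ

@[simp] lemma toLin_ofLin (φ : B →ₗ[A] N) : toLin (ofLin φ) = φ := rfl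
@[simp] lemma ofLin_toLin (φ : Coind A B N) : ofLin (toLin φ) = φ := rfl
@[simp] lemma toLin_add (φ ψ : Coind A B N) : toLin (φ + ψ) = toLin φ + toLin ψ := rfl
@[simp] lemma toLin_zero : toLin (0 : Coind A B N) = 0 := rfl
@[simp] lemma toLin_sub (φ ψ : Coind A B N) : toLin (φ - ψ) = toLin φ - toLin ψ := rfl
@[simp] lemma toLin_neg (φ : Coind A B N) : toLin (-φ) = -toLin φ := rfl

lemma ext {φ ψ : Coind A B N} (h : ∀ x, toLin φ x = toLin ψ x) : φ = ψ :=
  LinearMap.ext h

instance : SMul B (Coind A B N) := ⟨fun b φ => ofLin ((toLin φ).comp (LinearMap.mulLeft A b))⟩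

@[simp] lemma toLin_smul (b : B) (φ : Coind A B N) (x : B) : toLin (b • φ) x = toLin φ (b * x) :=
  rfl

instance : Module B (Coind A B N) where
  one_smul φ := ext fun x => by simp
  mul_smul b c φ := ext fun x => by
    simp only [toLin_smul]
    congr 1; ring
  smul_zero b := ext fun x => by simp
  smul_add b φ ψ := ext fun x => by simp
  add_smul b c φ := ext fun x => by simp [add_mul]
  zero_smul φ := ext fun x => by simp

end Coind

open Coind in
/-- the coinduced module of an injective module is injective -/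
theorem injective_coind (hN : Module.Injective A N) : Module.Injective B (Coind A B N) := by
  apply Module.Baer.injective
  intro J g
  -- the `A`-linear map `J → N`
  let ghat : J →ₗ[A] N :=
    { toFun := fun x => toLin (g x) 1
      map_add' := fun x y => by rw [map_add]; rfl
      map_smul' := fun a x => by
        have h1 : a • x = (algebraMap A B a) • x := (algebraMap_smul B a x).symm
        rw [h1, map_smul, toLin_smul, mul_one, RingHom.id_apply, Algebra.algebraMap_eq_smul_one,
          map_smul] }
  obtain ⟨h, hh⟩ := Module.Injective.extension_property A N J B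
    (J.subtype.restrictScalars A) Subtype.val_injective ghat
  refine ⟨LinearMap.toSpanSingleton B _ (ofLin h), ?_⟩
  intro x hx
  apply Coind.ext
  intro y
  show toLin (x • ofLin h) y = toLin (g ⟨x, hx⟩) y
  rw [toLin_smul, toLin_ofLin]
  have h1 : toLin (g ⟨x, hx⟩) y = toLin (y • g ⟨x, hx⟩) 1 := by rw [toLin_smul, mul_one]
  rw [h1, ← map_smul]
  have h2 := LinearMap.congr_fun hh (y • ⟨x, hx⟩ : J)
  rw [mul_comm]
  exact h2

end Coind


section SES

open Polynomial Coind

variable (A : Type u) [CommRing A] (N : Type u) [AddCommGroup N] [Module A[X] N] [Module A N]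
  [IsScalarTower A A[X] N]

/-- `n ↦ (b ↦ b • n)` -/
noncomputable def iotaC : N →ₗ[A[X]] Coind A A[X] N where
  toFun n := ofLin ((LinearMap.toSpanSingleton A[X] N n).restrictScalars A)
  map_add' n m := Coind.ext fun x => by
    simp [LinearMap.toSpanSingleton_apply]
  map_smul' c n := Coind.ext fun x => by
    simp only [toLin_ofLin, LinearMap.coe_restrictScalars, LinearMap.toSpanSingleton_apply,
      RingHom.id_apply, toLin_smul]
    rw [mul_comm, mul_smul]

@[simp] lemma iotaC_apply (n : N) (b : A[X]) : toLin (iotaC A N n) b = b • n := rfl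

/-- `φ ↦ (b ↦ X • φ b - φ (X * b))` -/
noncomputable def deltaC : Coind A A[X] N →ₗ[A[X]] Coind A A[X] N where
  toFun φ := ofLin (((LinearMap.lsmul A[X] N X).restrictScalars A).comp (toLin φ) -
    (toLin φ).comp (LinearMap.mulLeft A X))
  map_add' φ ψ := Coind.ext fun x => by
    simp only [toLin_ofLin, toLin_add, LinearMap.sub_apply, LinearMap.comp_apply,
      LinearMap.add_apply, LinearMap.coe_restrictScalars, LinearMap.lsmul_apply,
      LinearMap.mulLeft_apply, smul_add]
    abel
  map_smul' c φ := Coind.ext fun x => by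
    simp only [toLin_ofLin, LinearMap.sub_apply, LinearMap.comp_apply,
      LinearMap.coe_restrictScalars, LinearMap.lsmul_apply,
      LinearMap.mulLeft_apply, toLin_smul, RingHom.id_apply]
    rw [mul_left_comm]

@[simp] lemma deltaC_apply (φ : Coind A A[X] N) (b : A[X]) :
    toLin (deltaC A N φ) b = (X : A[X]) • toLin φ b - toLin φ (X * b) := rfl

lemma iotaC_injective : Function.Injective (iotaC A N) := by
  intro n m h
  have := congrArg (fun φ => toLin φ 1) h
  simpa using this

lemma deltaC_iotaC (n : N) : deltaC A N (iotaC A N n) = 0 := by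
  apply Coind.ext
  intro b
  rw [deltaC_apply, iotaC_apply, iotaC_apply, mul_smul, sub_self]
  rfl

lemma exact_iotaC_deltaC : Function.Exact (iotaC A N) (deltaC A N) := by
  intro φ
  constructor
  · intro h
    refine ⟨toLin φ 1, ?_⟩
    have hX : ∀ b : A[X], toLin φ (X * b) = (X : A[X]) • toLin φ b := by
      intro b
      have := congrArg (fun ψ => toLin ψ b) h
      simp only [deltaC_apply, toLin_zero, LinearMap.zero_apply] at this
      exact (sub_eq_zero.1 this).symm
    have hpow : ∀ n : ℕ, toLin φ (X ^ n) = (X ^ n : A[X]) • toLin φ 1 := by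
      intro n
      induction n with
      | zero => simp
      | succ n ih => rw [pow_succ', hX, ih, mul_smul]
    have key : (LinearMap.toSpanSingleton A[X] N (toLin φ 1)).restrictScalars A = toLin φ := by
      apply Polynomial.lhom_ext'
      intro n
      apply LinearMap.ext_ring
      simp only [LinearMap.comp_apply, LinearMap.coe_restrictScalars,
        LinearMap.toSpanSingleton_apply, monomial_one_right_eq_X_pow]
      exact (hpow n).symm
    exact key
  · rintro ⟨n, rfl⟩
    exact deltaC_iotaC A N n

lemma deltaC_surjective : Function.Surjective (deltaC A N) := by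
  intro ψ
  let v : ℕ → N := fun n => Nat.rec (motive := fun _ => N) 0
    (fun k vk => (X : A[X]) • vk - toLin ψ (X ^ k)) n
  have v0 : v 0 = 0 := rfl
  have vs : ∀ k, v (k + 1) = (X : A[X]) • v k - toLin ψ (X ^ k) := fun k => rfl
  let φ : A[X] →ₗ[A] N := (Polynomial.basisMonomials A).constr A v
  have hφ : ∀ n : ℕ, φ (X ^ n) = v n := by
    intro n
    have h1 := (Polynomial.basisMonomials A).constr_basis A v n
    rw [Polynomial.coe_basisMonomials] at h1
    simp only [monomial_one_right_eq_X_pow] at h1
    exact h1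
  refine ⟨ofLin φ, ?_⟩
  have key : toLin (deltaC A N (ofLin φ)) = toLin ψ := by
    apply Polynomial.lhom_ext'
    intro n
    apply LinearMap.ext_ring
    simp only [LinearMap.comp_apply, monomial_one_right_eq_X_pow, deltaC_apply, toLin_ofLin]
    rw [← pow_succ', hφ, hφ, vs]
    abel
  exact key

/-- the short exact sequence `0 → N → Hom_A(A[X], N) → Hom_A(A[X], N) → 0` -/
noncomputable def sesC : ShortComplex (ModuleCat.{u} A[X]) :=
  Groth.Agent.Helper1.TorLib.scOfLinear (iotaC A N) (deltaC A N) (exact_iotaC_deltaC A N)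

lemma sesC_shortExact : (sesC A N).ShortExact :=
  Groth.Agent.Helper1.TorLib.scOfLinear_shortExact _ _ (iotaC_injective A N)
    (deltaC_surjective A N) (exact_iotaC_deltaC A N)

theorem injdim_le_one (hN : Module.Injective A N) :
    HasInjectiveDimensionLT (ModuleCat.of A[X] N) 2 := by
  have hC : Module.Injective A[X] (Coind A A[X] N) := injective_coind A A[X] N hN
  haveI hC' : Injective (ModuleCat.of A[X] (Coind A A[X] N)) :=
    Module.injective_object_of_injective_module A[X] _
  have h1 : HasInjectiveDimensionLT (ModuleCat.of A[X] (Coind A A[X] N)) 1 := inferInstance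
  have h2 : HasInjectiveDimensionLT (ModuleCat.of A[X] (Coind A A[X] N)) 2 :=
    hasInjectiveDimensionLT_of_ge _ 1 2 (by omega)
  exact (sesC_shortExact A N).hasInjectiveDimensionLT_X₁ 1 h1 h2

end SES


section Main

open Polynomial TensorProduct DerivedCategory
attribute [local instance] HasDerivedCategory.standard

variable (A : Type u) [CommRing A] [IsNoetherianRing A] (E : Type u) [AddCommGroup E] [Module A E]

theorem injective_poly_tensor (hE : Module.Injective A E) : Module.Injective A (A[X] ⊗[A] E) := by
  have h1 : Module.Injective A (ℕ →₀ E) := injective_finsupp ℕ E hE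
  let e1 : A[X] ⊗[A] E ≃ₗ[A] (ℕ →₀ A) ⊗[A] E :=
    TensorProduct.congr (Polynomial.basisMonomials A).repr (LinearEquiv.refl A E)
  let e2 : (ℕ →₀ A) ⊗[A] E ≃ₗ[A] (ℕ →₀ E) := TensorProduct.finsuppScalarLeft A E ℕ
  exact injective_of_linearEquiv (e1.trans e2).symm h1

theorem main (hE : Module.Injective A E) :
    DRing.HasInjAmplitudeIn A[X] 0 1 (Dual.inD A[X] (A[X] ⊗[A] E)) := by
  letI hExt : HasExt.{u + 1} (ModuleCat.{u} A[X]) := hasExt_of_hasDerivedCategory _
  have hid : HasInjectiveDimensionLT (ModuleCat.of A[X] (A[X] ⊗[A] E)) 2 :=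
    injdim_le_one A (A[X] ⊗[A] E) (injective_poly_tensor A E hE)
  obtain ⟨C, h1, h2, h3⟩ := Groth.Agent.Helper3.DRingLib.exists_injective_rep_of_ext
    (Dual.inD A[X] (A[X] ⊗[A] E)) 0 1 (by
      intro J i hi e
      rcases hi with hi | hi
      · exact @Subsingleton.elim _ (DualSelf.subsingleton_neg A[X] _ _ i hi) _ _
      · obtain ⟨k, rfl⟩ := Int.eq_ofNat_of_zero_le (by omega : 0 ≤ i)
        have hs : Subsingleton (Ext.{u + 1} (ModuleCat.of A[X] (A[X] ⧸ J))
            (ModuleCat.of A[X] (A[X] ⊗[A] E)) k) :=
          HasInjectiveDimensionLT.subsingleton _ 2 k (by omega) _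
        exact @Subsingleton.elim _ ((DualSelf.subsingleton_iff A[X] _ _ k).2 hs) _ _)
  exact ⟨C, h1, h2, h3⟩

end Main

end Groth.Agent.Helper6.InjPoly
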