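import Mathlib
import Groth.Agent.Helper6.FBC4
import Groth.Agent.Helper6.InjPoly
import Groth.Agent.Helper6.LocExt5
import Groth.Agent.Helper6.Coext4

/-!
# Dualizing complexes over polynomial rings and finite type algebras
-/

set_option autoImplicit false
set_option linter.style.haveILetI false
set_option linter.unusedSectionVars false

universe u
open CategoryTheory CategoryTheory.Limits Pretriangulated DerivedCategory TensorProduct Polynomial
attribute [local instance] HasDerivedCategory.standard

namespace Groth.Agent.Helper6.FBC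
open Groth.Agent.Helper3.DRingLib Groth.Agent.Helper6.FlatBC

/-- **the base change of a dualizing complex to the polynomial ring is dualizing** -/
theorem isDualizing_bcD_polynomial (A : Type u) [CommRing A] [IsNoetherianRing A]
    (ω : Dual.D A) (hω : Dual.IsDualizing A ω) :
    Dual.IsDualizing A[X] ((bcD A A[X]).obj ω) := by
  obtain ⟨a, b, hab⟩ := hω.finite_injective_dimension
  exact isDualizing_bcD_of_hinj A[X] ω hω ⟨a, b + 1, fun M _ _ i hi =>
    hinj_bcD_of_termwise A[X] 1
      (fun E _ _ hE => Groth.Agent.Helper6.InjPoly.main A E hE) ω a b hab M i hi⟩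

/-- dualizing complexes pass to quotients (and along ring isomorphisms) -/
theorem exists_dualizing_of_surjective {A B : Type u} [CommRing A] [CommRing B]
    [IsNoetherianRing A] (f : A →+* B) (hf : Function.Surjective f)
    (h : ∃ ω : Dual.D A, Dual.IsDualizing A ω) : ∃ ω' : Dual.D B, Dual.IsDualizing B ω' := by
  obtain ⟨ω, hω⟩ := h
  letI : Algebra A B := f.toAlgebra
  haveI : Module.Finite A B := Module.Finite.of_surjective (Algebra.linearMap A B) hf
  haveI : IsNoetherianRing B := isNoetherianRing_of_surjective A B f hf
  exact Groth.Agent.Helper6.Coext.exists_dualizing_of_finite ω hω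

theorem exists_dualizing_polynomial (A : Type u) [CommRing A] [IsNoetherianRing A]
    (h : ∃ ω : Dual.D A, Dual.IsDualizing A ω) : ∃ ω' : Dual.D A[X], Dual.IsDualizing A[X] ω' := by
  obtain ⟨ω, hω⟩ := h
  exact ⟨_, isDualizing_bcD_polynomial A ω hω⟩

theorem exists_dualizing_mvPolynomial (A : Type u) [CommRing A] [IsNoetherianRing A]
    (h : ∃ ω : Dual.D A, Dual.IsDualizing A ω) (n : ℕ) :
    ∃ ω' : Dual.D (MvPolynomial (Fin n) A), Dual.IsDualizing (MvPolynomial (Fin n) A) ω' := by
  induction n with
  | zero =>
    exact exists_dualizing_of_surjective (MvPolynomial.isEmptyRingEquiv A (Fin 0)).symm.toRingHom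
      (MvPolynomial.isEmptyRingEquiv A (Fin 0)).symm.surjective h
  | succ n ih =>
    have h1 := exists_dualizing_polynomial (MvPolynomial (Fin n) A) ih
    exact exists_dualizing_of_surjective
      ((MvPolynomial.finSuccEquiv A n).symm : (MvPolynomial (Fin n) A)[X] ≃+*
        MvPolynomial (Fin (n + 1)) A).toRingHom
      (MvPolynomial.finSuccEquiv A n).symm.surjective h1

/-- **finite type algebras over a ring with a dualizing complex have dualizing complexes** -/
theorem exists_dualizing_of_finiteType (A : Type u) [CommRing A] [IsNoetherianRing A]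
    (h : ∃ ω : Dual.D A, Dual.IsDualizing A ω) (S : Type u) [CommRing S] [Algebra A S]
    (hS : Algebra.FiniteType A S) : ∃ ω' : Dual.D S, Dual.IsDualizing S ω' := by
  obtain ⟨n, f, hf⟩ := Algebra.FiniteType.iff_quotient_mvPolynomial''.mp hS
  exact exists_dualizing_of_surjective f.toRingHom hf (exists_dualizing_mvPolynomial A h n)

/-- **essentially finite type algebras** -/
theorem exists_dualizing_of_essFiniteType (A : Type u) [CommRing A] [IsNoetherianRing A]
    (h : ∃ ω : Dual.D A, Dual.IsDualizing A ω) (B : Type u) [CommRing B] [Algebra A B]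
    [Algebra.EssFiniteType A B] : ∃ ω' : Dual.D B, Dual.IsDualizing B ω' := by
  obtain ⟨ω', hω'⟩ := exists_dualizing_of_finiteType A h (Algebra.EssFiniteType.subalgebra A B)
    inferInstance
  haveI := hω'.isNoetherianRing
  haveI : Module.Flat (Algebra.EssFiniteType.subalgebra A B) B :=
    IsLocalization.flat B (Algebra.EssFiniteType.submonoid A B)
  exact ⟨_, Groth.Agent.Helper6.LocExt.isDualizing_bcD (Algebra.EssFiniteType.submonoid A B) B
    ω' hω'⟩

end Groth.Agent.Helper6.FBC
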