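import Mathlib
import Groth.Agent.Helper6.FBC5
import Groth.Agent.Helper6.FBC7
import Groth.Agent.Helper9.GL0

/-!
# Transitivity of flat base change on derived categories; dualizing complexes over
polynomial rings in several variables
-/

set_option autoImplicit false
set_option linter.style.haveILetI false
set_option linter.unusedSectionVars false

universe u
open CategoryTheory CategoryTheory.Limits Pretriangulated DerivedCategory TensorProduct Polynomial
attribute [local instance] HasDerivedCategory.standard

namespace Groth.Agent.Helper6.FBC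
open Groth.Agent.Helper3.DRingLib Groth.Agent.Helper6.FlatBC Groth.Agent.Helper6.LocExt
  Groth.Agent.Helper9.GL0

section Trans

variable (R B C : Type u) [CommRing R] [CommRing B] [CommRing C] [Algebra R B] [Algebra B C]
  [Algebra R C] [IsScalarTower R B C]

/-- restriction of scalars is transitive on derived categories -/
noncomputable def rDComp :
    DRing.restrictD (algebraMap B C) ⋙ DRing.restrictD (algebraMap R B) ≅
      DRing.restrictD (algebraMap R C) :=
  (mapDCComp (ModuleCat.restrictScalars.{u} (algebraMap B C))
      (ModuleCat.restrictScalars.{u} (algebraMap R B))).symm ≪≫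
    mapDCIso (ModuleCat.restrictScalarsComp'.{u} (algebraMap R B) (algebraMap B C)
      (algebraMap R C) (IsScalarTower.algebraMap_eq R B C)).symm

variable [Module.Flat R B] [Module.Flat B C] [Module.Flat R C]

/-- **base change is transitive** -/
noncomputable def bcDTrans (K : Dual.D R) :
    (bcD R C).obj K ≅ (bcD B C).obj ((bcD R B).obj K) :=
  ((adjD R C).leftAdjointUniq
    (((adjD R B).comp (adjD B C)).ofNatIsoRight (rDComp R B C))).app K

end Trans

section Surj

variable {A : Type u} [CommRing A] (B : Type u) [CommRing B] [Algebra A B] [Module.Flat A B]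

/-- base change along a flat surjection preserves dualizing complexes -/
theorem isDualizing_bcD_of_surjective [IsNoetherianRing A]
    (hs : Function.Surjective (algebraMap A B)) (ω : Dual.D A) (hω : Dual.IsDualizing A ω) :
    Dual.IsDualizing B ((bcD A B).obj ω) := by
  haveI : IsNoetherianRing B := isNoetherianRing_of_surjective A B (algebraMap A B) hs
  exact isDualizing_bcD_of_maximal_map B
    (fun 𝔫 _ => ⟨𝔫.comap (algebraMap A B), Ideal.map_comap_of_surjective _ hs 𝔫⟩) ω hω

end Surj

section RingEquiv

lemma flat_of_ringEquiv {C C' : Type u} [CommRing C] [CommRing C'] (σ : C ≃+* C') :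
    letI := σ.toRingHom.toAlgebra
    Module.Flat C C' := by
  letI := σ.toRingHom.toAlgebra
  let e : C ≃ₗ[C] C' :=
    { σ.toAddEquiv with
      map_smul' := fun c x => by
        show σ (c * x) = σ c * σ x
        exact map_mul σ c x }
  exact Module.Flat.of_linearEquiv e.symm

end RingEquiv

section MvPoly

/-- **the base change of a dualizing complex to a polynomial ring in `n` variables is
dualizing** -/
theorem isDualizing_bcD_mvPolynomial (R : Type u) [CommRing R] [IsNoetherianRing R] (n : ℕ)
    (ω : Dual.D R) (hω : Dual.IsDualizing R ω) :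
    Dual.IsDualizing (MvPolynomial (Fin n) R) ((bcD R (MvPolynomial (Fin n) R)).obj ω) := by
  induction n with
  | zero =>
    exact isDualizing_bcD_of_surjective (MvPolynomial (Fin 0) R)
      (MvPolynomial.C_surjective (Fin 0)) ω hω
  | succ n ih =>
    let σ : (MvPolynomial (Fin n) R)[X] ≃+* MvPolynomial (Fin (n + 1)) R :=
      ((MvPolynomial.finSuccEquiv R n).symm :
        (MvPolynomial (Fin n) R)[X] ≃ₐ[R] MvPolynomial (Fin (n + 1)) R).toRingEquiv
    letI : Algebra (MvPolynomial (Fin n) R)[X] (MvPolynomial (Fin (n + 1)) R) :=
      σ.toRingHom.toAlgebra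
    haveI : IsScalarTower R (MvPolynomial (Fin n) R)[X] (MvPolynomial (Fin (n + 1)) R) :=
      IsScalarTower.of_algebraMap_eq
        (fun r => ((MvPolynomial.finSuccEquiv R n).symm.commutes r).symm)
    haveI : Module.Flat (MvPolynomial (Fin n) R)[X] (MvPolynomial (Fin (n + 1)) R) :=
      flat_of_ringEquiv σ
    haveI : Module.Flat R (MvPolynomial (Fin n) R)[X] :=
      Module.Flat.trans R (MvPolynomial (Fin n) R) (MvPolynomial (Fin n) R)[X]
    have h1 := isDualizing_bcD_polynomial (MvPolynomial (Fin n) R) _ ih
    have h2 : Dual.IsDualizing (MvPolynomial (Fin n) R)[X]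
        ((bcD R (MvPolynomial (Fin n) R)[X]).obj ω) :=
      isDualizing_of_iso
        (bcDTrans R (MvPolynomial (Fin n) R) (MvPolynomial (Fin n) R)[X] ω).symm h1
    have h3 := isDualizing_bcD_of_surjective (MvPolynomial (Fin (n + 1)) R) σ.surjective _ h2
    exact isDualizing_of_iso
      (bcDTrans R (MvPolynomial (Fin n) R)[X] (MvPolynomial (Fin (n + 1)) R) ω).symm h3

end MvPoly

end Groth.Agent.Helper6.FBC
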