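import Mathlib
import Groth.Agent.Helper6.FBC7
import Groth.Agent.Helper6.DualSelf

/-!
# Base change of injective modules along flat maps that are unramified at all primes
-/

set_option autoImplicit false
set_option linter.style.haveILetI false
set_option linter.unusedSectionVars false

universe u
open CategoryTheory CategoryTheory.Limits Pretriangulated DerivedCategory TensorProduct
attribute [local instance] HasDerivedCategory.standard

namespace Groth.Agent.Helper6.FBC
open Groth.Agent.Helper3.DRingLib Groth.Agent.Helper6.FlatBC Groth.Agent.Helper6.LocExt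
  Groth.Agent.Helper6.LD

section Baer

variable {R : Type u} [CommRing R]

/-- Baer's criterion via `Ext¹` in the derived category -/
theorem injective_of_ext_one (M : Type u) [AddCommGroup M] [Module R M]
    (h : ∀ (J : Ideal R) (f : Dual.inD R (R ⧸ J) ⟶ (Dual.inD R M)⟦(1 : ℤ)⟧), f = 0) :
    Module.Injective R M := by
  apply Module.Baer.injective
  intro J g
  have hV : Subsingleton (Dual.inD R (R ⧸ J) ⟶ (Dual.inD R M)⟦(1 : ℤ)⟧) :=
    ⟨fun p q => (h J p).trans (h J q).symm⟩
  have hsurj := Tmap_surjective' (Dual.inD R M) J.subtype J.mkQ (Submodule.injective_subtype J)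
    (Submodule.mkQ_surjective J) (LinearMap.exact_subtype_mkQ J) hV
  obtain ⟨z, hz⟩ := hsurj ((singleFunctor (ModuleCat.{u} R) 0).map (ModuleCat.ofHom g))
  obtain ⟨z₀, rfl⟩ := (singleFunctor (ModuleCat.{u} R) 0).map_surjective z
  refine ⟨z₀.hom, fun x hx => ?_⟩
  have h1 : (singleFunctor (ModuleCat.{u} R) 0).map (ModuleCat.ofHom J.subtype ≫ z₀) =
      (singleFunctor (ModuleCat.{u} R) 0).map (ModuleCat.ofHom g) := by
    rw [Functor.map_comp]
    exact hz
  have h2 := (singleFunctor (ModuleCat.{u} R) 0).map_injective h1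
  exact congrArg (fun φ => φ.hom ⟨x, hx⟩) h2

/-- if `s` kills the kernel term of a short exact sequence, then it kills the classes
that die on the middle term -/
lemma smul_eq_zero_of_Tmap_eq_zero {N N' N'' : Type u} [AddCommGroup N] [Module R N]
    [AddCommGroup N'] [Module R N'] [AddCommGroup N''] [Module R N''] (Y : Dual.D R)
    (i : N' →ₗ[R] N) (p : N →ₗ[R] N'') (hi : Function.Injective i) (hp : Function.Surjective p)
    (hex : Function.Exact i p) (s : R) (hs : ∀ n' : N', s • n' = 0)
    (x : Dual.inD R N'' ⟶ Y) (hx : Tmap Y p x = 0) : s • x = 0 := by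
  have hS := sc_shortExact i p hi hp hex
  obtain ⟨w, hw⟩ := Triangle.yoneda_exact₃ _ hS.singleTriangle_distinguished x hx
  let w' : (Dual.inD R N')⟦(1 : ℤ)⟧ ⟶ Y := w
  have hw' : x = hS.singleTriangle.mor₃ ≫ w' := hw
  have h0 : s • 𝟙 (ModuleCat.of R N') = 0 := by
    apply ModuleCat.hom_ext
    apply LinearMap.ext
    intro n'
    exact hs n'
  have h1 : s • 𝟙 (Dual.inD R N') = 0 := by
    have : s • 𝟙 (Dual.inD R N') =
        (singleFunctor (ModuleCat.{u} R) 0).map (s • 𝟙 (ModuleCat.of R N')) := by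
      rw [Functor.map_smul, CategoryTheory.Functor.map_id]
    rw [this, h0, Functor.map_zero]
  have h2 : s • 𝟙 ((Dual.inD R N')⟦(1 : ℤ)⟧) = 0 := by
    have : s • 𝟙 ((Dual.inD R N')⟦(1 : ℤ)⟧) =
        (shiftFunctor (Dual.D R) (1 : ℤ)).map (s • 𝟙 (Dual.inD R N')) := by
      rw [Functor.map_smul, CategoryTheory.Functor.map_id]
    rw [this, h1, Functor.map_zero]
  have h3 : s • w' = 0 := by
    have : s • w' = (s • 𝟙 ((Dual.inD R N')⟦(1 : ℤ)⟧)) ≫ w' := by
      rw [Linear.smul_comp, Category.id_comp]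
    rw [this, h2, zero_comp]
  have h4 : s • (hS.singleTriangle.mor₃ ≫ w') = hS.singleTriangle.mor₃ ≫ (s • w') :=
    (Linear.comp_smul _ _ _ _ _ _).symm
  have h5 : hS.singleTriangle.mor₃ ≫ (s • w') = 0 := by
    rw [h3]
    exact comp_zero
  exact (congrArg (fun t => s • t) hw').trans (h4.trans h5)

end Baer

section Unram

variable {B : Type u} [CommRing B]

lemma exists_smul_mem [IsNoetherianRing B] (q : Ideal B) [hq : q.IsPrime] (𝔞 : Ideal B)
    (h𝔞 : Ideal.map (algebraMap B (Localization.AtPrime q)) 𝔞 =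
      IsLocalRing.maximalIdeal (Localization.AtPrime q)) :
    ∃ s : B, s ∉ q ∧ ∀ y ∈ q, s * y ∈ 𝔞 := by
  have hel : ∀ y ∈ q, ∃ s : B, s ∉ q ∧ s * y ∈ 𝔞 := by
    intro y hy
    have h1 : algebraMap B (Localization.AtPrime q) y ∈
        Ideal.map (algebraMap B (Localization.AtPrime q)) 𝔞 := by
      rw [h𝔞]
      exact (IsLocalization.AtPrime.to_map_mem_maximal_iff (Localization.AtPrime q) q y).mpr hy
    obtain ⟨⟨⟨a, ha⟩, m⟩, hm⟩ :=
      (IsLocalization.mem_map_algebraMap_iff q.primeCompl (Localization.AtPrime q)).mp h1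
    have hm' : algebraMap B (Localization.AtPrime q) (y * (m : B)) =
        algebraMap B (Localization.AtPrime q) a := by
      rw [map_mul]
      exact hm
    obtain ⟨c, hc⟩ := (IsLocalization.eq_iff_exists q.primeCompl (Localization.AtPrime q)).mp hm'
    refine ⟨(c : B) * (m : B), fun hmem => ?_, ?_⟩
    · rcases hq.mem_or_mem hmem with h | h
      · exact c.2 h
      · exact m.2 h
    · have : (c : B) * (m : B) * y = (c : B) * a := by
        rw [← hc]
        ring
      rw [this]
      exact 𝔞.mul_mem_left _ ha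
  have key : ∀ N : Submodule B B, N.FG → N ≤ q → ∃ s : B, s ∉ q ∧ ∀ y ∈ N, s * y ∈ 𝔞 := by
    intro N hN
    refine Submodule.fg_induction
      (motive := fun N _ => N ≤ q → ∃ s : B, s ∉ q ∧ ∀ y ∈ N, s * y ∈ 𝔞) ?_ ?_ N hN
    · intro y hyq
      obtain ⟨s, hs, hsy⟩ := hel y (hyq (Submodule.mem_span_singleton_self y))
      refine ⟨s, hs, fun z hz => ?_⟩
      obtain ⟨b, rfl⟩ := Submodule.mem_span_singleton.mp hz
      rw [smul_eq_mul, mul_left_comm]
      exact 𝔞.mul_mem_left b hsy
    · intro N₁ N₂ _ _ h1 h2 hle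
      obtain ⟨s1, hs1, h1'⟩ := h1 (le_sup_left.trans hle)
      obtain ⟨s2, hs2, h2'⟩ := h2 (le_sup_right.trans hle)
      refine ⟨s1 * s2, fun h => (hq.mem_or_mem h).elim hs1 hs2, fun z hz => ?_⟩
      obtain ⟨z1, hz1, z2, hz2, rfl⟩ := Submodule.mem_sup.mp hz
      rw [mul_add]
      refine 𝔞.add_mem ?_ ?_
      · rw [mul_comm s1 s2, mul_assoc]
        exact 𝔞.mul_mem_left s2 (h1' z1 hz1)
      · rw [mul_assoc]
        exact 𝔞.mul_mem_left s1 (h2' z2 hz2)
  exact key q (IsNoetherian.noetherian q) le_rfl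

variable {A : Type u} [CommRing A] [Algebra A B]

/-- the key induction: `Ext^i(B/J, K) = 0` for `i > 0` and all `J`, as soon as this holds for
the ideals extended from `A`, when `A → B` is unramified at all primes -/
theorem qv_of_unramified [IsNoetherianRing B]
    (h : ∀ q : PrimeSpectrum B, Ideal.map (algebraMap B (Localization.AtPrime q.asIdeal))
      ((q.asIdeal.comap (algebraMap A B)).map (algebraMap A B)) =
        IsLocalRing.maximalIdeal (Localization.AtPrime q.asIdeal))
    (K : Dual.D B)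
    (hK : ∀ (p : Ideal A) (i : ℤ), 0 < i →
      ∀ g : Dual.inD B (B ⧸ p.map (algebraMap A B)) ⟶ K⟦i⟧, g = 0)
    (J : Ideal B) : QV K 0 J := by
  refine IsNoetherian.induction (P := fun J : Ideal B => QV K 0 J) ?_ J
  intro (J : Ideal B) ih
  by_cases htop : J = ⊤
  · rw [htop]
    exact qv_top K 0
  by_cases hprime : J.IsPrime
  · haveI := hprime
    obtain ⟨s, hsq, hs⟩ := exists_smul_mem J ((J.comap (algebraMap A B)).map (algebraMap A B))
      (h ⟨J, hprime⟩)
    have hlt : J < J ⊔ Ideal.span {s} := by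
      refine lt_of_le_of_ne le_sup_left (fun h => hsq ?_)
      rw [h]
      exact Submodule.mem_sup_right (Ideal.mem_span_singleton_self s)
    intro i hi x
    have hb : s • x = 0 := by
      have h𝔞J : (J.comap (algebraMap A B)).map (algebraMap A B) ≤ J := Ideal.map_comap_le
      let ρ : (B ⧸ (J.comap (algebraMap A B)).map (algebraMap A B)) →ₗ[B] (B ⧸ J) :=
        Submodule.mapQ _ J LinearMap.id (by
          rw [Submodule.comap_id]
          exact h𝔞J)
      have hρ : Function.Surjective ρ := by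
        intro z
        obtain ⟨b, rfl⟩ := Submodule.Quotient.mk_surjective _ z
        exact ⟨Submodule.Quotient.mk b, rfl⟩
      refine smul_eq_zero_of_Tmap_eq_zero (K⟦i⟧) (LinearMap.ker ρ).subtype ρ
        (Submodule.injective_subtype _) hρ (LinearMap.exact_subtype_ker_map ρ) s ?_ x ?_
      · rintro ⟨z, hz⟩
        obtain ⟨b, rfl⟩ := Submodule.Quotient.mk_surjective _ z
        have hbJ : b ∈ J := by
          rw [LinearMap.mem_ker] at hz
          exact (Submodule.Quotient.mk_eq_zero J).mp hz
        apply Subtype.ext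
        show s • (Submodule.Quotient.mk b :
          B ⧸ (J.comap (algebraMap A B)).map (algebraMap A B)) = 0
        rw [← Submodule.Quotient.mk_smul, Submodule.Quotient.mk_eq_zero, smul_eq_mul]
        exact hs b hbJ
      · exact hK (J.comap (algebraMap A B)) i hi _
    have hV := ih _ hlt i hi
    have hx0 : Tmap (K⟦i⟧) (s • (LinearMap.id : (B ⧸ J) →ₗ[B] (B ⧸ J))) x = 0 := by
      rw [Tmap_smul, Tmap_id]
      exact hb
    obtain ⟨z, hz⟩ := Tmap_exact (K⟦i⟧) (s • (LinearMap.id : (B ⧸ J) →ₗ[B] (B ⧸ J))) (πx J s)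
      (smul_id_injective J hprime s hsq) (πx_surjective J s) (exact_smul_πx J s) x hx0
    rw [← hz, hV z, map_zero]
  · rw [Ideal.isPrime_iff] at hprime
    push Not at hprime
    obtain ⟨x, y, hxy, hx, hy⟩ := hprime htop
    have hlt1 : J < colonI J x := by
      refine lt_of_le_of_ne (fun r hr => (mem_colonI J x r).mpr (J.mul_mem_left x hr))
        (fun h => hy ?_)
      rw [h]
      exact (mem_colonI J x y).mpr hxy
    have hlt2 : J < J ⊔ Ideal.span {x} := by
      refine lt_of_le_of_ne le_sup_left (fun h => hx ?_)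
      rw [h]
      exact Submodule.mem_sup_right (Ideal.mem_span_singleton_self x)
    exact qv_step K 0 J x (ih _ hlt1) (ih _ hlt2)

variable (B) [Module.Flat A B]

/-- **base change of injectives**: for `A → B` flat and unramified at all primes, `B ⊗ I` is
injective for every injective `A`-module `I` -/
theorem injective_baseChange_of_unramified [IsNoetherianRing A] [IsNoetherianRing B]
    (h : ∀ q : PrimeSpectrum B, Ideal.map (algebraMap B (Localization.AtPrime q.asIdeal))
      ((q.asIdeal.comap (algebraMap A B)).map (algebraMap A B)) =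
        IsLocalRing.maximalIdeal (Localization.AtPrime q.asIdeal))
    (I : Type u) [AddCommGroup I] [Module A I] [Module.Injective A I] :
    Module.Injective B (B ⊗[A] I) := by
  haveI : (Dual.inD A I).IsGE 0 := by
    show ((DerivedCategory.singleFunctor (ModuleCat.{u} A) 0).obj _).IsGE 0
    infer_instance
  have hI : ∀ (p : Ideal A) (i : ℤ), 0 < i →
      ∀ f : Dual.inD A (A ⧸ p) ⟶ (Dual.inD A I)⟦i⟧, f = 0 := by
    intro p i hi f
    obtain ⟨k, rfl⟩ := Int.eq_ofNat_of_zero_le (by omega : 0 ≤ i)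
    letI hExt : HasExt.{u + 1} (ModuleCat.{u} A) := hasExt_of_hasDerivedCategory _
    haveI : Injective (ModuleCat.of A I) := Module.injective_object_of_injective_module A _
    have hs : Subsingleton (Abelian.Ext.{u + 1} (ModuleCat.of A (A ⧸ p)) (ModuleCat.of A I) k) :=
      HasInjectiveDimensionLT.subsingleton _ 1 k (by omega) _
    exact @Subsingleton.elim _
      ((Groth.Agent.Helper6.DualSelf.subsingleton_iff A _ _ k).2 hs) _ _
  have hq := qv_of_unramified h ((bcD A B).obj (Dual.inD A I))
    (fun p i hi g => ext_quot_eq_zero B (Dual.inD A I) 0 p _ rfl i (hI p i hi) g)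
  apply injective_of_ext_one
  intro J f
  have h0 := hq J 1 (by omega)
    (f ≫ ((shiftFunctor (Dual.D B) (1 : ℤ)).mapIso (bcDInD B I)).inv)
  calc f = (f ≫ ((shiftFunctor (Dual.D B) (1 : ℤ)).mapIso (bcDInD B I)).inv) ≫
        ((shiftFunctor (Dual.D B) (1 : ℤ)).mapIso (bcDInD B I)).hom := by
        rw [Category.assoc, Iso.inv_hom_id, Category.comp_id]
    _ = 0 := by rw [h0, zero_comp]

end Unram

end Groth.Agent.Helper6.FBC
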