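import Mathlib
import Groth.Agent.Helper6.FBC8
import Groth.Agent.Helper6.FBC9
import Groth.Agent.Helper6.InjPoly

/-!
# Dualizing complexes under étale and smooth base change
-/

set_option autoImplicit false
set_option linter.style.haveILetI false
set_option linter.unusedSectionVars false

universe u
open CategoryTheory CategoryTheory.Limits Pretriangulated DerivedCategory TensorProduct
attribute [local instance] HasDerivedCategory.standard

namespace Groth.Agent.Helper6.FBC
open Groth.Agent.Helper3.DRingLib Groth.Agent.Helper6.FlatBC Groth.Agent.Helper6.LocExt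

section Etale

variable (P C : Type u) [CommRing P] [CommRing C] [Algebra P C]

/-- an étale algebra is unramified at all primes, in the form `p C_q = q C_q` -/
lemma unramified_primes_of_etale [Algebra.Etale P C] (q : PrimeSpectrum C) :
    Ideal.map (algebraMap C (Localization.AtPrime q.asIdeal))
      ((q.asIdeal.comap (algebraMap P C)).map (algebraMap P C)) =
        IsLocalRing.maximalIdeal (Localization.AtPrime q.asIdeal) := by
  letI := Localization.AtPrime.algebraOfLiesOver (q.asIdeal.under P) q.asIdeal
  haveI : Algebra.FormallyUnramified C (Localization.AtPrime q.asIdeal) :=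
    Algebra.FormallyUnramified.of_isLocalization q.asIdeal.primeCompl
  haveI : Algebra.IsUnramifiedAt P q.asIdeal :=
    Algebra.FormallyUnramified.comp P C (Localization.AtPrime q.asIdeal)
  have h := ((Algebra.isUnramifiedAt_iff_map_eq P (q.asIdeal.under P) q.asIdeal).mp
    inferInstance).2
  rw [Ideal.map_map, ← IsScalarTower.algebraMap_eq]
  exact h

variable {P}

/-- **flat base change unramified at all primes preserves dualizing complexes** -/
theorem isDualizing_bcD_of_unramified [IsNoetherianRing P] [IsNoetherianRing C] [Module.Flat P C]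
    (h : ∀ q : PrimeSpectrum C, Ideal.map (algebraMap C (Localization.AtPrime q.asIdeal))
      ((q.asIdeal.comap (algebraMap P C)).map (algebraMap P C)) =
        IsLocalRing.maximalIdeal (Localization.AtPrime q.asIdeal))
    (ω : Dual.D P) (hω : Dual.IsDualizing P ω) : Dual.IsDualizing C ((bcD P C).obj ω) := by
  obtain ⟨a, b, hab⟩ := hω.finite_injective_dimension
  obtain ⟨I, hv, hinjI, ⟨e⟩⟩ := exists_rep_of_hinj ω a b hab
  have hv' : DRing.VanishesOutside ((bcCx P C).obj I) a b :=
    fun n hn => bcCx_isZero_X C I n (hv n hn)
  have hinj' : DRing.TermwiseInjective ((bcCx P C).obj I) := by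
    intro n
    haveI := hinjI n
    have h1 : Module.Injective C (C ⊗[P] (I.X n)) := injective_baseChange_of_unramified C h (I.X n)
    exact Groth.Agent.Helper6.InjPoly.injective_of_linearEquiv
      (extendScalarsEquiv (B := C) (I.X n)).symm h1
  refine isDualizing_bcD_of_hinj C ω hω ⟨a, b, fun M _ _ i hi => ?_⟩
  exact subsingleton_hom_of_rep ((bcCx P C).obj I) a b hv' hinj'
    ((bcDToD C I).symm ≪≫ (bcD P C).mapIso e) M i hi

end Etale

section Smooth

/-- **smooth base change preserves dualizing complexes** -/
theorem isDualizing_bcD_of_smooth (A B : Type u) [CommRing A] [CommRing B] [Algebra A B]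
    [IsNoetherianRing A] [Algebra.Smooth A B] (ω : Dual.D A) (hω : Dual.IsDualizing A ω) :
    Dual.IsDualizing B ((bcD A B).obj ω) := by
  haveI : IsNoetherianRing B := Algebra.FiniteType.isNoetherianRing A B
  let good : Set B := {f | Dual.IsDualizing (Localization.Away f)
    ((bcD B (Localization.Away f)).obj ((bcD A B).obj ω))}
  have hgood : ∀ q : PrimeSpectrum B, ∃ f ∈ good, f ∉ q.asIdeal := by
    intro q
    have hq : q ∈ Algebra.smoothLocus A B := by
      rw [Algebra.smoothLocus_eq_univ]
      trivial
    haveI : Algebra.IsSmoothAt A q.asIdeal := hq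
    obtain ⟨f, hfq, n, inst, hst, het⟩ :=
      Algebra.IsSmoothAt.exists_isStandardEtale_mvPolynomial (R := A) (S := B) (p := q.asIdeal)
    refine ⟨f, ?_, hfq⟩
    letI := inst
    haveI := hst
    haveI := het
    haveI : IsNoetherianRing (Localization.Away f) :=
      IsLocalization.isNoetherianRing (Submonoid.powers f) (Localization.Away f) inferInstance
    haveI : Algebra.Etale (MvPolynomial (Fin n) A) (Localization.Away f) := inferInstance
    haveI : Module.Flat (MvPolynomial (Fin n) A) (Localization.Away f) := inferInstance
    haveI : Module.Flat A (Localization.Away f) :=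
      Module.Flat.trans A (MvPolynomial (Fin n) A) (Localization.Away f)
    have h1 := isDualizing_bcD_mvPolynomial A n ω hω
    have h2 := isDualizing_bcD_of_unramified (Localization.Away f)
      (unramified_primes_of_etale (MvPolynomial (Fin n) A) (Localization.Away f)) _ h1
    exact isDualizing_of_iso
      ((bcDTrans A (MvPolynomial (Fin n) A) (Localization.Away f) ω).symm ≪≫
        bcDTrans A B (Localization.Away f) ω) h2
  have hspan : Ideal.span good = ⊤ := by
    by_contra h
    obtain ⟨m, hm, hle⟩ := Ideal.exists_le_maximal _ h
    obtain ⟨f, hf, hfm⟩ := hgood ⟨m, hm.isPrime⟩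
    exact hfm (hle (Ideal.subset_span hf))
  obtain ⟨s', hs', hs'span⟩ := (Ideal.span_eq_top_iff_finite good).mp hspan
  let g : Fin s'.card → B := fun i => (s'.equivFin.symm i).1
  have hrange : Set.range g = (s' : Set B) := by
    ext x
    constructor
    · rintro ⟨i, rfl⟩
      exact (s'.equivFin.symm i).2
    · intro hx
      exact ⟨s'.equivFin ⟨x, hx⟩, by simp [g]⟩
  have hg : Ideal.span (Set.range g) = ⊤ := by
    rw [hrange]
    exact hs'span
  exact isDualizing_of_finite_cover (J := Fin s'.card) (fun i => Submonoid.powers (g i))
    (fun I hI => hcov_away g hg I hI) (fun i => Localization.Away (g i))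
    (jointlyFaithful_away g hg) (jointlyFinite_away g hg) _
    (fun i => hs' (s'.equivFin.symm i).2)

end Smooth

end Groth.Agent.Helper6.FBC
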