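import Mathlib
import Groth.Prelude.Def_DRing4
import Groth.Agent.Helper6.DualFun3
import Groth.Agent.Helper6.LD16
import Groth.Agent.Helper6.DualSelf
import Groth.Agent.Helper3.DRingTwoTerm2

/-!
# The Gorenstein locus of a Noetherian ring with a dualizing complex is open
-/

set_option autoImplicit false
set_option linter.style.haveILetI false
set_option linter.unusedSectionVars false

universe u
open CategoryTheory CategoryTheory.Limits Pretriangulated DerivedCategory TensorProduct
attribute [local instance] HasDerivedCategory.standard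

namespace Groth.Agent.Helper6.GorLoc
open Groth.Agent.Helper3.DRingLib Groth.Agent.Helper6.DK Groth.Agent.Helper6.LD
  Groth.Agent.Helper6.LocExt Groth.Agent.Helper6.DualFun IsLocalRing

variable {A : Type u} [CommRing A]

lemma isIso_smul_of_isUnit {B : Type u} [CommRing B] {X Y : Dual.D B} (c : B) (hc : IsUnit c)
    (g : X ⟶ Y) [IsIso g] : IsIso (c • g) := by
  obtain ⟨c', rfl⟩ := hc
  refine ⟨⟨(↑c'⁻¹ : B) • inv g, ?_, ?_⟩⟩
  · rw [Linear.smul_comp, Linear.comp_smul, IsIso.hom_inv_id, smul_smul, Units.mul_inv,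
      one_smul]
  · rw [Linear.smul_comp, Linear.comp_smul, IsIso.inv_hom_id, smul_smul, Units.inv_mul,
      one_smul]

/-- an isomorphism between the localizations at a prime of two bounded objects with finite
cohomology spreads out to a basic open neighbourhood -/
theorem spread_iso [IsNoetherianRing A] (X Y : Dual.D A)
    (hX : ∀ m : ℤ, DRing.IsPseudoCoherent A m X)
    (aX bX a bY : ℤ) [X.IsGE aX] [X.IsLE bX] [Y.IsGE a] [Y.IsLE bY]
    (hXfin : ∀ i : ℤ, Module.Finite A (Dual.HD A X i))
    (hYfin : ∀ i : ℤ, Module.Finite A (Dual.HD A Y i))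
    (p : PrimeSpectrum A)
    (ψ : (bcD A (Localization.AtPrime p.asIdeal)).obj X ≅
      (bcD A (Localization.AtPrime p.asIdeal)).obj Y) :
    ∃ t : A, t ∉ p.asIdeal ∧ ∀ q : PrimeSpectrum A, t ∉ q.asIdeal →
      Nonempty ((bcD A (Localization.AtPrime q.asIdeal)).obj X ≅
        (bcD A (Localization.AtPrime q.asIdeal)).obj Y) := by
  classical
  obtain ⟨s, hs, f, hf⟩ := locSurj_of_pc p.asIdeal.primeCompl (Localization.AtPrime p.asIdeal)
    X Y hX a ψ.hom
  haveI hfiso : IsIso ((bcD A (Localization.AtPrime p.asIdeal)).map f) := by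
    rw [← hf]
    exact isIso_smul_of_isUnit _
      (IsLocalization.map_units (Localization.AtPrime p.asIdeal) ⟨s, hs⟩) ψ.hom
  obtain ⟨C, g, h, hT⟩ := distinguished_cocone_triangle f
  have hrot := rot_of_distTriang _ hT
  -- bounds for the cone
  haveI iX1L : (X⟦(1 : ℤ)⟧).IsLE (bX - 1) := TStructure.t.isLE_shift X bX 1 (bX - 1) (by omega)
  haveI iX1G : (X⟦(1 : ℤ)⟧).IsGE (aX - 1) := TStructure.t.isGE_shift X aX 1 (aX - 1) (by omega)
  have iX1L' : (X⟦(1 : ℤ)⟧).IsLE (max bY (bX - 1)) :=
    TStructure.t.isLE_of_le _ (bX - 1) _ (le_max_right _ _)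
  have iYL' : Y.IsLE (max bY (bX - 1)) := TStructure.t.isLE_of_le _ bY _ (le_max_left _ _)
  have iX1G' : (X⟦(1 : ℤ)⟧).IsGE (min a (aX - 1)) :=
    TStructure.t.isGE_of_ge _ _ (aX - 1) (min_le_right _ _)
  have iYG' : Y.IsGE (min a (aX - 1)) := TStructure.t.isGE_of_ge _ _ a (min_le_left _ _)
  haveI iCL : C.IsLE (max bY (bX - 1)) := TStructure.t.isLE₂ _ hrot _ iYL' iX1L'
  haveI iCG : C.IsGE (min a (aX - 1)) := TStructure.t.isGE₂ _ hrot _ iYG' iX1G'
  -- finiteness of the cohomology of the cone
  have hX1fin : ∀ i : ℤ, Module.Finite A (Dual.HD A (X⟦(1 : ℤ)⟧) i) := fun i => by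
    haveI := hXfin (1 + i)
    exact Module.Finite.equiv
      ((homologyShiftNatIso (A := A) 1 i (1 + i) rfl).app X).toLinearEquiv.symm
  have hCfin : ∀ i : ℤ, Module.Finite A (Dual.HD A C i) := fun i => by
    haveI := hYfin i
    haveI := hX1fin i
    have hex := DerivedCategory.HomologySequence.exact₂ _ hrot i
    exact finite_of_exact_noeth ((homologyFunctor (ModuleCat.{u} A) i).map g).hom
      ((homologyFunctor (ModuleCat.{u} A) i).map h).hom
      ((ShortComplex.ShortExact.moduleCat_exact_iff_function_exact _).mp hex)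
  -- the cone vanishes at `p`
  have hCp : ∀ i : ℤ, p ∉ Module.support A (Dual.HD A C i) := by
    have hz : IsZero ((bcD A (Localization.AtPrime p.asIdeal)).obj C) :=
      (Triangle.isZero₃_iff_isIso₁ _
        ((bcD A (Localization.AtPrime p.asIdeal)).map_distinguished _ hT)).mpr hfiso
    intro i
    haveI := hCfin i
    rw [Module.notMem_support_iff]
    obtain ⟨e⟩ := nonempty_HD_bcD_equiv (Localization.AtPrime p.asIdeal) C i
    haveI : Subsingleton (Dual.HD (Localization.AtPrime p.asIdeal)
        ((bcD A (Localization.AtPrime p.asIdeal)).obj C) i) :=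
      ModuleCat.subsingleton_of_isZero
        ((homologyFunctor (ModuleCat.{u} (Localization.AtPrime p.asIdeal)) i).map_isZero hz)
    haveI : Subsingleton (Localization.AtPrime p.asIdeal ⊗[A] Dual.HD A C i) :=
      e.symm.toEquiv.subsingleton
    exact (eN (Dual.HD A C i) p).symm.toEquiv.subsingleton
  have hann : ∀ i : ℤ, ∃ t : A, t ∉ p.asIdeal ∧ ∀ x : Dual.HD A C i, t • x = 0 := fun i => by
    haveI := hCfin i
    have h1 := hCp i
    rw [Module.mem_support_iff_of_finite, SetLike.not_le_iff_exists] at h1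
    obtain ⟨t, htA, htp⟩ := h1
    exact ⟨t, htp, fun x => Module.mem_annihilator.mp htA x⟩
  choose t ht1 ht2 using hann
  refine ⟨∏ i ∈ Finset.Icc (min a (aX - 1)) (max bY (bX - 1)), t i, ?_, fun q hq => ?_⟩
  · intro hmem
    haveI := p.isPrime
    obtain ⟨i, -, hi⟩ := Ideal.IsPrime.prod_mem_iff.mp hmem
    exact ht1 i hi
  · have hH : ∀ i : ℤ, Subsingleton (Dual.HD (Localization.AtPrime q.asIdeal)
        ((bcD A (Localization.AtPrime q.asIdeal)).obj C) i) := fun i => by
      obtain ⟨e⟩ := nonempty_HD_bcD_equiv (Localization.AtPrime q.asIdeal) C i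
      haveI := hCfin i
      have hq' : q ∉ Module.support A (Dual.HD A C i) := by
        by_cases hi : i ∈ Finset.Icc (min a (aX - 1)) (max bY (bX - 1))
        · rw [Module.mem_support_iff_of_finite]
          intro hle
          have hTann : (∏ i ∈ Finset.Icc (min a (aX - 1)) (max bY (bX - 1)), t i) ∈
              Module.annihilator A (Dual.HD A C i) := by
            rw [Module.mem_annihilator]
            intro x
            rw [← Finset.mul_prod_erase _ _ hi, mul_smul]
            exact ht2 i _
          exact hq (hle hTann)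
        · haveI : Subsingleton (Dual.HD A C i) := by
            rw [Finset.mem_Icc, not_and_or] at hi
            rcases hi with hi | hi
            · exact subsingleton_HD_of_isGE C (min a (aX - 1)) i (by omega)
            · exact subsingleton_HD_of_isLE C (max bY (bX - 1)) i (by omega)
          rw [Module.notMem_support_iff']
          intro m
          exact ⟨1, fun h1 => q.isPrime.ne_top ((Ideal.eq_top_iff_one _).mpr h1),
            Subsingleton.elim _ _⟩
      haveI : Subsingleton (LocalizedModule q.asIdeal.primeCompl (Dual.HD A C i)) :=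
        Module.notMem_support_iff.mp hq'
      haveI : Subsingleton (Localization.AtPrime q.asIdeal ⊗[A] Dual.HD A C i) :=
        (eN (Dual.HD A C i) q).toEquiv.subsingleton
      exact e.toEquiv.subsingleton
    have hzq : IsZero ((bcD A (Localization.AtPrime q.asIdeal)).obj C) := by
      haveI : ((bcD A (Localization.AtPrime q.asIdeal)).obj C).IsGE 0 :=
        isGE_of_HD _ 0 (fun i _ => hH i)
      haveI : ((bcD A (Localization.AtPrime q.asIdeal)).obj C).IsLE (-1) :=
        isLE_of_HD _ (-1) (fun i _ => hH i)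
      exact TStructure.t.isZero _ (-1) 0 (by omega)
    haveI : IsIso ((bcD A (Localization.AtPrime q.asIdeal)).map f) :=
      (Triangle.isZero₃_iff_isIso₁ _
        ((bcD A (Localization.AtPrime q.asIdeal)).map_distinguished _ hT)).mp hzq
    exact ⟨asIso ((bcD A (Localization.AtPrime q.asIdeal)).map f)⟩

/-- `bcD (A[0]) ≅ B[0]` -/
noncomputable def bcDSelfIso (B : Type u) [CommRing B] [Algebra A B] [Module.Flat A B] :
    (bcD A B).obj (Dual.inD A A) ≅ Dual.inD B B :=
  bcDInD B A ≪≫ (DerivedCategory.singleFunctor (ModuleCat.{u} B) 0).mapIso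
    (TensorProduct.AlgebraTensorModule.rid A B B).toModuleIso

/-- **The Gorenstein locus is open.** -/
theorem gorenstein_locus_open [IsNoetherianRing A] (ω : Dual.D A) (hω : Dual.IsDualizing A ω) :
    IsOpen {p : PrimeSpectrum A |
      LocCoh.IsGorensteinLocalRing (Localization.AtPrime p.asIdeal)} := by
  rw [isOpen_iff_forall_mem_open]
  intro p hp
  obtain ⟨n0, hn0⟩ := hp.exists_hasInjectiveDimensionLT
  have hBB : Dual.IsDualizing (Localization.AtPrime p.asIdeal)
      (Dual.inD (Localization.AtPrime p.asIdeal) (Localization.AtPrime p.asIdeal)) :=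
    Groth.Agent.Helper6.DualSelf.isDualizing_of_injdim (Localization.AtPrime p.asIdeal) n0 hn0
  have hωB := isDualizing_bcD p.asIdeal.primeCompl (Localization.AtPrime p.asIdeal) ω hω
  obtain ⟨n, ⟨ε⟩⟩ := unique_up_to_shift
    ((bcD A (Localization.AtPrime p.asIdeal)).obj ω)
    (Dual.inD (Localization.AtPrime p.asIdeal) (Localization.AtPrime p.asIdeal)) hωB hBB
  obtain ⟨a, b, hab⟩ := hω.finite_injective_dimension
  obtain ⟨hGE, hLE⟩ := bounds_of_hinj ω a b hab
  haveI := hGE
  haveI := hLE
  haveI : (ω⟦n⟧).IsGE (a - n) := TStructure.t.isGE_shift ω a n (a - n) (by omega)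
  haveI : (ω⟦n⟧).IsLE (b - n) := TStructure.t.isLE_shift ω b n (b - n) (by omega)
  have hωn := isDualizing_shift ω hω n
  let ψ : (bcD A (Localization.AtPrime p.asIdeal)).obj (Dual.inD A A) ≅
      (bcD A (Localization.AtPrime p.asIdeal)).obj (ω⟦n⟧) :=
    bcDSelfIso (Localization.AtPrime p.asIdeal) ≪≫ ε ≪≫
      (((bcD A (Localization.AtPrime p.asIdeal)).commShiftIso n).app ω).symm
  obtain ⟨t, htp, ht⟩ := spread_iso (Dual.inD A A) (ω⟦n⟧) (fun m => pc_inD A m) 0 0 (a - n)
    (b - n) (fun i => finite_HD_inD A i) hωn.finite_cohomology p ψ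
  refine ⟨(PrimeSpectrum.basicOpen t : Set (PrimeSpectrum A)), ?_,
    (PrimeSpectrum.basicOpen t).isOpen, htp⟩
  intro q hq
  obtain ⟨θ⟩ := ht q hq
  have hωq := isDualizing_bcD q.asIdeal.primeCompl (Localization.AtPrime q.asIdeal) ω hω
  have hd : Dual.IsDualizing (Localization.AtPrime q.asIdeal)
      (Dual.inD (Localization.AtPrime q.asIdeal) (Localization.AtPrime q.asIdeal)) :=
    isDualizing_of_iso
      ((((bcD A (Localization.AtPrime q.asIdeal)).commShiftIso n).app ω).symm ≪≫ θ.symm ≪≫
        bcDSelfIso (Localization.AtPrime q.asIdeal))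
      (isDualizing_shift _ hωq n)
  haveI : IsNoetherianRing (Localization.AtPrime q.asIdeal) := hd.isNoetherianRing
  obtain ⟨m, hm⟩ := Groth.Agent.Helper6.DualSelf.exists_injdim_of_isDualizing
    (Localization.AtPrime q.asIdeal) hd
  exact { exists_hasInjectiveDimensionLT := ⟨m, hm⟩ }

end Groth.Agent.Helper6.GorLoc
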