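import Mathlib
import Groth.Agent.Helper6.GorLoc1
import Groth.Agent.Helper6.LocExt5
import Groth.Agent.Helper6.FBC10

/-!
# Ring-level lemmas on dualizing complexes: spreading out isomorphisms to basic opens,
local-to-global, and the Gorenstein case
-/

set_option autoImplicit false
set_option linter.style.haveILetI false
set_option linter.unusedSectionVars false

universe u
open CategoryTheory CategoryTheory.Limits Pretriangulated DerivedCategory TensorProduct
attribute [local instance] HasDerivedCategory.standard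

namespace Groth.Agent.Helper6.DSch
open Groth.Agent.Helper3.DRingLib Groth.Agent.Helper6.DK Groth.Agent.Helper6.LD
  Groth.Agent.Helper6.LocExt Groth.Agent.Helper6.DualFun Groth.Agent.Helper6.GorLoc IsLocalRing

variable {A : Type u} [CommRing A]

lemma subsingleton_tensor_of_smul_eq_zero (B : Type u) [CommRing B] [Algebra A B] (M : Type u)
    [AddCommGroup M] [Module A M] (t : A) (ht : IsUnit (algebraMap A B t))
    (hM : ∀ x : M, t • x = 0) : Subsingleton (B ⊗[A] M) := by
  have h0 : ∀ z : B ⊗[A] M, z = 0 := by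
    intro z
    induction z using TensorProduct.induction_on with
    | zero => rfl
    | tmul b m =>
      obtain ⟨w, hw⟩ := ht
      have h1 : t • (b * (↑w⁻¹ : B)) = b := by
        rw [Algebra.smul_def, ← hw, mul_comm b, ← mul_assoc, Units.mul_inv, one_mul]
      calc b ⊗ₜ[A] m = (t • (b * (↑w⁻¹ : B))) ⊗ₜ[A] m := by rw [h1]
        _ = (b * (↑w⁻¹ : B)) ⊗ₜ[A] (t • m) := by rw [TensorProduct.smul_tmul]
        _ = 0 := by rw [hM, TensorProduct.tmul_zero]
    | add x y hx hy => rw [hx, hy, add_zero]
  exact ⟨fun x y => by rw [h0 x, h0 y]⟩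

/-- an isomorphism between the localizations at a prime of two bounded objects with finite
cohomology spreads out to an isomorphism over a basic open neighbourhood -/
theorem spread_iso_away [IsNoetherianRing A] (X Y : Dual.D A)
    (hX : ∀ m : ℤ, DRing.IsPseudoCoherent A m X)
    (aX bX a bY : ℤ) [X.IsGE aX] [X.IsLE bX] [Y.IsGE a] [Y.IsLE bY]
    (hXfin : ∀ i : ℤ, Module.Finite A (Dual.HD A X i))
    (hYfin : ∀ i : ℤ, Module.Finite A (Dual.HD A Y i))
    (p : PrimeSpectrum A)
    (ψ : (bcD A (Localization.AtPrime p.asIdeal)).obj X ≅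
      (bcD A (Localization.AtPrime p.asIdeal)).obj Y) :
    ∃ t : A, t ∉ p.asIdeal ∧
      Nonempty ((bcD A (Localization.Away t)).obj X ≅ (bcD A (Localization.Away t)).obj Y) := by
  classical
  obtain ⟨s, hs, f, hf⟩ := locSurj_of_pc p.asIdeal.primeCompl (Localization.AtPrime p.asIdeal)
    X Y hX a ψ.hom
  haveI hfiso : IsIso ((bcD A (Localization.AtPrime p.asIdeal)).map f) := by
    rw [← hf]
    exact isIso_smul_of_isUnit _
      (IsLocalization.map_units (Localization.AtPrime p.asIdeal) ⟨s, hs⟩) ψ.hom
  obtain ⟨C, g, h, hTri⟩ := distinguished_cocone_triangle f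
  have hrot := rot_of_distTriang _ hTri
  haveI iX1L : (X⟦(1 : ℤ)⟧).IsLE (bX - 1) := TStructure.t.isLE_shift X bX 1 (bX - 1) (by omega)
  haveI iX1G : (X⟦(1 : ℤ)⟧).IsGE (aX - 1) := TStructure.t.isGE_shift X aX 1 (aX - 1) (by omega)
  have iX1L' : (X⟦(1 : ℤ)⟧).IsLE (max bY (bX - 1)) :=
    TStructure.t.isLE_of_le _ (bX - 1) _ (le_max_right _ _)
  have iYL' : Y.IsLE (max bY (bX - 1)) := TStructure.t.isLE_of_le _ bY _ (le_max_left _ _)
  have iX1G' : (X⟦(1 : ℤ)⟧).IsGE (min a (aX - 1)) :=
    TStructure.t.isGE_of_ge _ _ (aX - 1) (min_le_right _ _)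
  have iYG' : Y.IsGE (min a (aX - 1)) := TStructure.t.isGE_of_ge _ _ a (min_le_left _ _)
  haveI iCL : C.IsLE (max bY (bX - 1)) := TStructure.t.isLE₂ _ hrot _ iYL' iX1L'
  haveI iCG : C.IsGE (min a (aX - 1)) := TStructure.t.isGE₂ _ hrot _ iYG' iX1G'
  have hX1fin : ∀ i : ℤ, Module.Finite A (Dual.HD A (X⟦(1 : ℤ)⟧) i) := fun i => by
    haveI := hXfin (1 + i)
    exact Module.Finite.equiv
      ((homologyShiftNatIso (A := A) 1 i (1 + i) rfl).app X).toLinearEquiv.symm
  have hCfin : ∀ i : ℤ, Module.Finite A (Dual.HD A C i) := fun i => by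
    haveI := hYfin i
    haveI := hX1fin i
    have hex := DerivedCategory.HomologySequence.exact₂ _ hrot i
    exact finite_of_exact_noeth ((homologyFunctor (ModuleCat.{u} A) i).map g).hom
      ((homologyFunctor (ModuleCat.{u} A) i).map h).hom
      ((ShortComplex.ShortExact.moduleCat_exact_iff_function_exact _).mp hex)
  have hCp : ∀ i : ℤ, p ∉ Module.support A (Dual.HD A C i) := by
    have hz : IsZero ((bcD A (Localization.AtPrime p.asIdeal)).obj C) :=
      (Triangle.isZero₃_iff_isIso₁ _
        ((bcD A (Localization.AtPrime p.asIdeal)).map_distinguished _ hTri)).mpr hfiso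
    intro i
    haveI := hCfin i
    rw [Module.notMem_support_iff]
    obtain ⟨e⟩ := nonempty_HD_bcD_equiv (Localization.AtPrime p.asIdeal) C i
    haveI : Subsingleton (Dual.HD (Localization.AtPrime p.asIdeal)
        ((bcD A (Localization.AtPrime p.asIdeal)).obj C) i) :=
      ModuleCat.subsingleton_of_isZero
        ((homologyFunctor (ModuleCat.{u} (Localization.AtPrime p.asIdeal)) i).map_isZero hz)
    haveI : Subsingleton (Localization.AtPrime p.asIdeal ⊗[A] Dual.HD A C i) :=
      e.symm.toEquiv.subsingleton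
    exact (eN (Dual.HD A C i) p).symm.toEquiv.subsingleton
  have hann : ∀ i : ℤ, ∃ t : A, t ∉ p.asIdeal ∧ ∀ x : Dual.HD A C i, t • x = 0 := fun i => by
    haveI := hCfin i
    have h1 := hCp i
    rw [Module.mem_support_iff_of_finite, SetLike.not_le_iff_exists] at h1
    obtain ⟨t, htA, htp⟩ := h1
    exact ⟨t, htp, fun x => Module.mem_annihilator.mp htA x⟩
  choose t ht1 ht2 using hann
  obtain ⟨T, hT⟩ : ∃ T : A, T = ∏ i ∈ Finset.Icc (min a (aX - 1)) (max bY (bX - 1)), t i :=
    ⟨_, rfl⟩
  refine ⟨T, ?_, ?_⟩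
  · intro hmem
    rw [hT] at hmem
    haveI := p.isPrime
    obtain ⟨i, -, hi⟩ := Ideal.IsPrime.prod_mem_iff.mp hmem
    exact ht1 i hi
  · have hkill : ∀ (i : ℤ) (x : Dual.HD A C i), T • x = 0 := by
      intro i x
      by_cases hi : i ∈ Finset.Icc (min a (aX - 1)) (max bY (bX - 1))
      · rw [hT, ← Finset.mul_prod_erase _ _ hi, mul_smul]
        exact ht2 i _
      · haveI : Subsingleton (Dual.HD A C i) := by
          rw [Finset.mem_Icc, not_and_or] at hi
          rcases hi with hi | hi
          · exact subsingleton_HD_of_isGE C (min a (aX - 1)) i (by omega)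
          · exact subsingleton_HD_of_isLE C (max bY (bX - 1)) i (by omega)
        exact Subsingleton.elim _ _
    have hH : ∀ i : ℤ, Subsingleton (Dual.HD (Localization.Away T)
        ((bcD A (Localization.Away T)).obj C) i) := fun i => by
      obtain ⟨e⟩ := nonempty_HD_bcD_equiv (Localization.Away T) C i
      haveI : Subsingleton (Localization.Away T ⊗[A] Dual.HD A C i) :=
        subsingleton_tensor_of_smul_eq_zero (Localization.Away T) (Dual.HD A C i) T
          (IsLocalization.Away.algebraMap_isUnit T) (hkill i)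
      exact e.toEquiv.subsingleton
    have hz : IsZero ((bcD A (Localization.Away T)).obj C) := by
      haveI : ((bcD A (Localization.Away T)).obj C).IsGE 0 :=
        isGE_of_HD _ 0 (fun i _ => hH i)
      haveI : ((bcD A (Localization.Away T)).obj C).IsLE (-1) :=
        isLE_of_HD _ (-1) (fun i _ => hH i)
      exact TStructure.t.isZero _ (-1) 0 (by omega)
    haveI : IsIso ((bcD A (Localization.Away T)).map f) :=
      (Triangle.isZero₃_iff_isIso₁ _
        ((bcD A (Localization.Away T)).map_distinguished _ hTri)).mp hz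
    exact ⟨asIso ((bcD A (Localization.Away T)).map f)⟩

/-- local-to-global for dualizing complexes, pointwise form -/
theorem isDualizing_of_local [IsNoetherianRing A] (K : Dual.D A)
    (h : ∀ q : PrimeSpectrum A, ∃ t : A, t ∉ q.asIdeal ∧
      Dual.IsDualizing (Localization.Away t) ((bcD A (Localization.Away t)).obj K)) :
    Dual.IsDualizing A K := by
  classical
  let good : Set A := {t | Dual.IsDualizing (Localization.Away t)
    ((bcD A (Localization.Away t)).obj K)}
  have hspan : Ideal.span good = ⊤ := by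
    by_contra hne
    obtain ⟨m, hm, hle⟩ := Ideal.exists_le_maximal _ hne
    obtain ⟨f, hfm, hf⟩ := h ⟨m, hm.isPrime⟩
    exact hfm (hle (Ideal.subset_span hf))
  obtain ⟨s', hs', hs'span⟩ := (Ideal.span_eq_top_iff_finite good).mp hspan
  let g : Fin s'.card → A := fun i => (s'.equivFin.symm i).1
  have hrange : Set.range g = (s' : Set A) := by
    ext x
    constructor
    · rintro ⟨i, rfl⟩
      exact (s'.equivFin.symm i).2
    · intro hx
      exact ⟨s'.equivFin ⟨x, hx⟩, by simp [g]⟩
  have hg : Ideal.span (Set.range g) = ⊤ := by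
    rw [hrange]
    exact hs'span
  exact isDualizing_of_finite_cover (J := Fin s'.card) (fun i => Submonoid.powers (g i))
    (fun I hI => hcov_away g hg I hI) (fun i => Localization.Away (g i))
    (jointlyFaithful_away g hg) (jointlyFinite_away g hg) _
    (fun i => hs' (s'.equivFin.symm i).2)

/-- near a Gorenstein point, a dualizing complex is a shift of the ring -/
theorem exists_away_iso_shift [IsNoetherianRing A] (ω : Dual.D A) (hω : Dual.IsDualizing A ω)
    (p : PrimeSpectrum A)
    (hp : LocCoh.IsGorensteinLocalRing (Localization.AtPrime p.asIdeal)) :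
    ∃ (t : A) (n : ℤ), t ∉ p.asIdeal ∧
      Nonempty ((bcD A (Localization.Away t)).obj ω ≅
        (Dual.inD (Localization.Away t) (Localization.Away t))⟦n⟧) := by
  obtain ⟨n0, hn0⟩ := hp.exists_hasInjectiveDimensionLT
  have hBB : Dual.IsDualizing (Localization.AtPrime p.asIdeal)
      (Dual.inD (Localization.AtPrime p.asIdeal) (Localization.AtPrime p.asIdeal)) :=
    Groth.Agent.Helper6.DualSelf.isDualizing_of_injdim (Localization.AtPrime p.asIdeal) n0 hn0
  have hωB := isDualizing_bcD p.asIdeal.primeCompl (Localization.AtPrime p.asIdeal) ω hω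
  obtain ⟨n, ⟨ε⟩⟩ := unique_up_to_shift
    (Dual.inD (Localization.AtPrime p.asIdeal) (Localization.AtPrime p.asIdeal))
    ((bcD A (Localization.AtPrime p.asIdeal)).obj ω) hBB hωB
  obtain ⟨a, b, hab⟩ := hω.finite_injective_dimension
  obtain ⟨hGE, hLE⟩ := bounds_of_hinj ω a b hab
  haveI := hGE
  haveI := hLE
  haveI : ((Dual.inD A A)⟦n⟧).IsGE (0 - n) :=
    TStructure.t.isGE_shift (Dual.inD A A) 0 n (0 - n) (by omega)
  haveI : ((Dual.inD A A)⟦n⟧).IsLE (0 - n) :=
    TStructure.t.isLE_shift (Dual.inD A A) 0 n (0 - n) (by omega)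
  have hYfin : ∀ i : ℤ, Module.Finite A (Dual.HD A ((Dual.inD A A)⟦n⟧) i) := fun i => by
    haveI := finite_HD_inD (A := A) A (n + i)
    exact Module.Finite.equiv
      ((homologyShiftNatIso (A := A) n i (n + i) rfl).app (Dual.inD A A)).toLinearEquiv.symm
  let ψ : (bcD A (Localization.AtPrime p.asIdeal)).obj ω ≅
      (bcD A (Localization.AtPrime p.asIdeal)).obj ((Dual.inD A A)⟦n⟧) :=
    ε ≪≫ (shiftFunctor (Dual.D (Localization.AtPrime p.asIdeal)) n).mapIso
        (bcDSelfIso (Localization.AtPrime p.asIdeal)).symm ≪≫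
      (((bcD A (Localization.AtPrime p.asIdeal)).commShiftIso n).app (Dual.inD A A)).symm
  obtain ⟨t, htp, ⟨θ⟩⟩ := spread_iso_away ω ((Dual.inD A A)⟦n⟧)
    (pc_of_finite ω b hω.finite_cohomology) a b (0 - n) (0 - n) hω.finite_cohomology hYfin p ψ
  exact ⟨t, n, htp, ⟨θ ≪≫ (((bcD A (Localization.Away t)).commShiftIso n).app (Dual.inD A A)) ≪≫
    (shiftFunctor (Dual.D (Localization.Away t)) n).mapIso (bcDSelfIso (Localization.Away t))⟩⟩

/-- un-shifting a dualizing complex -/
lemma isDualizing_of_shift [IsNoetherianRing A] (K : Dual.D A) (n : ℤ)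
    (h : Dual.IsDualizing A (K⟦n⟧)) : Dual.IsDualizing A K :=
  isDualizing_of_iso ((shiftFunctorCompIsoId (Dual.D A) n (-n) (by omega)).app K)
    (isDualizing_shift _ h (-n))

/-- if all local rings are Gorenstein and a dualizing complex exists, the ring itself is a
dualizing complex -/
theorem isDualizing_self_of_gorenstein [IsNoetherianRing A] (ω : Dual.D A)
    (hω : Dual.IsDualizing A ω)
    (hG : ∀ p : PrimeSpectrum A,
      LocCoh.IsGorensteinLocalRing (Localization.AtPrime p.asIdeal)) :
    Dual.IsDualizing A (Dual.inD A A) := by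
  apply isDualizing_of_local
  intro q
  obtain ⟨t, n, htq, ⟨θ⟩⟩ := exists_away_iso_shift ω hω q (hG q)
  refine ⟨t, htq, ?_⟩
  have h1 := isDualizing_bcD (Submonoid.powers t) (Localization.Away t) ω hω
  haveI : IsNoetherianRing (Localization.Away t) := h1.isNoetherianRing
  have h2 : Dual.IsDualizing (Localization.Away t)
      ((Dual.inD (Localization.Away t) (Localization.Away t))⟦n⟧) := isDualizing_of_iso θ h1
  exact isDualizing_of_iso (bcDSelfIso (Localization.Away t)).symm
    (isDualizing_of_shift _ n h2)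

/-- if the ring itself is a dualizing complex, all local rings are Gorenstein -/
theorem gorenstein_of_isDualizing_self [IsNoetherianRing A]
    (h : Dual.IsDualizing A (Dual.inD A A)) (p : PrimeSpectrum A) :
    LocCoh.IsGorensteinLocalRing (Localization.AtPrime p.asIdeal) := by
  have h1 := isDualizing_bcD p.asIdeal.primeCompl (Localization.AtPrime p.asIdeal) _ h
  have hd : Dual.IsDualizing (Localization.AtPrime p.asIdeal)
      (Dual.inD (Localization.AtPrime p.asIdeal) (Localization.AtPrime p.asIdeal)) :=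
    isDualizing_of_iso (bcDSelfIso (Localization.AtPrime p.asIdeal)) h1
  haveI : IsNoetherianRing (Localization.AtPrime p.asIdeal) := hd.isNoetherianRing
  obtain ⟨m, hm⟩ := Groth.Agent.Helper6.DualSelf.exists_injdim_of_isDualizing
    (Localization.AtPrime p.asIdeal) hd
  exact { exists_hasInjectiveDimensionLT := ⟨m, hm⟩ }

end Groth.Agent.Helper6.DSch
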