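import Mathlib
import Groth.Prelude.Def_DRing4
import Groth.Agent.Helper6.GorFib1
import Groth.Agent.Helper6.FBC8
import Groth.Agent.Helper6.DualSelf
import Groth.Agent.Helper3.GorComp

/-!
# Fibres of flat maps between rings with compatible dualizing complexes are Gorenstein
-/

set_option autoImplicit false
set_option linter.style.haveILetI false
set_option linter.unusedSectionVars false

universe u
open CategoryTheory CategoryTheory.Limits Pretriangulated DerivedCategory TensorProduct
attribute [local instance] HasDerivedCategory.standard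

namespace Groth.Agent.Helper6.GorFib
open Groth.Agent.Helper3.DRingLib Groth.Agent.Helper6.FlatBC Groth.Agent.Helper6.LocExt
  Groth.Agent.Helper6.FBC Groth.Agent.Helper6.LD Groth.Agent.Helper6.DK IsLocalRing
open Groth.Agent.Helper7.SegGor Groth.Agent.Helper3.GorFlatD

section Exists

variable {A B : Type u} [CommRing A] [CommRing B] [Algebra A B]

/-- coextensions of bounded below objects exist -/
lemma exists_isCoext (K : Dual.D A) (c : ℤ) [K.IsGE c] :
    ∃ (Y : Dual.D B) (ε : (DRing.restrictD (algebraMap A B)).obj Y ⟶ K),
      Groth.Agent.Helper6.Coext.IsCoext (algebraMap A B) K Y ε := by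
  obtain ⟨E, hE0, hEinj, ⟨e⟩⟩ := exists_injective_rep K c
  haveI hKI : E.IsKInjective := isKInjective_of_vanishesBelow E c hE0 hEinj
  exact ⟨_, _, (Groth.Agent.Helper6.Coext.isCoext_cCx (algebraMap A B) E).of_iso e⟩

end Exists

section Local

variable {R : Type u} [CommRing R] [IsLocalRing R] [IsNoetherianRing R]
  (T : Type u) [CommRing T] [IsLocalRing T] [IsNoetherianRing T] [Algebra R T] [Module.Flat R T]
  [IsLocalHom (algebraMap R T)]

/-- **the closed fibre of a flat local map is Gorenstein** when a dualizing complex base changes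
to a dualizing complex -/
theorem gorLocal_closedFibre (ω : Dual.D R) (hω : Dual.IsDualizing R ω)
    (hT : Dual.IsDualizing T ((bcD R T).obj ω)) :
    LocCoh.IsGorensteinLocalRing (T ⧸ (maximalIdeal R).map (algebraMap R T)) := by
  obtain ⟨a, b, hab⟩ := hω.finite_injective_dimension
  obtain ⟨hGE, _⟩ := bounds_of_hinj ω a b hab
  haveI := hGE
  obtain ⟨n₀, hn1, ⟨e0⟩⟩ := DK.main ω hω (maximalIdeal R)
  haveI : (ω⟦n₀⟧).IsGE (a - n₀) := TStructure.t.isGE_shift ω a n₀ (a - n₀) (by omega)
  have hn' : Dual.IsNormalized R (ω⟦n₀⟧) := fun i hi => by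
    haveI : Subsingleton (Dual.inD R (ResidueField R) ⟶ ω⟦n₀ + i⟧) := hn1 (n₀ + i) (by omega)
    exact (homShiftShiftEquiv (Dual.inD R (ResidueField R)) _ n₀ i (n₀ + i)
      rfl).toEquiv.subsingleton
  have hK' : Dual.IsDualizing T ((bcD R T).obj (ω⟦n₀⟧)) :=
    isDualizing_of_iso (((bcD R T).commShiftIso n₀).app ω).symm (isDualizing_shift _ hT n₀)
  haveI : ((bcD R T).obj (ω⟦n₀⟧)).IsGE (a - n₀) := bcD_isGE T (ω⟦n₀⟧) (a - n₀)
  obtain ⟨Y, ε, hco⟩ := exists_isCoext (A := T)
    (B := T ⧸ (maximalIdeal R).map (algebraMap R T)) ((bcD R T).obj (ω⟦n₀⟧)) (a - n₀)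
  obtain ⟨i⟩ := coext_iso_self T (ω⟦n₀⟧) (a - n₀) hn' e0 Y ε hco
  have hY : Dual.IsDualizing (T ⧸ (maximalIdeal R).map (algebraMap R T)) Y :=
    Groth.Agent.Helper6.Coext.isDualizing_of_isCoext _ hK' Y ε hco
  have hF := isDualizing_of_iso i hY
  obtain ⟨n, hn⟩ := Groth.Agent.Helper6.DualSelf.exists_injdim_of_isDualizing _ hF
  have hJ : (maximalIdeal R).map (algebraMap R T) ≤ maximalIdeal T :=
    ((local_hom_TFAE (algebraMap R T)).out 0 2 rfl rfl).mp inferInstance
  haveI : IsLocalRing (T ⧸ (maximalIdeal R).map (algebraMap R T)) := isLocalRing_quot _ hJ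
  exact { exists_hasInjectiveDimensionLT := ⟨n, hn⟩ }

end Local

section Global

variable {R S : Type u} [CommRing R] [CommRing S] [Algebra R S] [IsNoetherianRing R]
  [IsNoetherianRing S] [Module.Flat R S]

/-- **the local rings of the fibres are Gorenstein** when a dualizing complex base changes to a
dualizing complex -/
theorem gorLocal_fibre_of_dualizing (ω : Dual.D R) (hω : Dual.IsDualizing R ω)
    (hS : Dual.IsDualizing S ((bcD R S).obj ω)) (p : Ideal R) [hp : p.IsPrime]
    (r : Ideal S) [hr : r.IsPrime] (hrp : r.comap (algebraMap R S) = p) :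
    LocCoh.IsGorensteinLocalRing (Localization.AtPrime r ⧸
      (p.map (algebraMap R S)).map (algebraMap S (Localization.AtPrime r))) := by
  subst hrp
  haveI : IsNoetherianRing (Localization.AtPrime (r.comap (algebraMap R S))) :=
    IsLocalization.isNoetherianRing (r.comap (algebraMap R S)).primeCompl _ inferInstance
  haveI : IsNoetherianRing (Localization.AtPrime r) :=
    IsLocalization.isNoetherianRing r.primeCompl _ inferInstance
  letI : Algebra (Localization.AtPrime (r.comap (algebraMap R S))) (Localization.AtPrime r) :=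
    (Localization.localRingHom (r.comap (algebraMap R S)) r (algebraMap R S) rfl).toAlgebra
  haveI : Module.Flat (Localization.AtPrime (r.comap (algebraMap R S)))
      (Localization.AtPrime r) :=
    RingHom.Flat.localRingHom ((RingHom.flat_algebraMap_iff).mpr inferInstance) r
      (r.comap (algebraMap R S)) rfl
  haveI : IsLocalHom (algebraMap (Localization.AtPrime (r.comap (algebraMap R S)))
      (Localization.AtPrime r)) :=
    Localization.isLocalHom_localRingHom (r.comap (algebraMap R S)) r (algebraMap R S) rfl
  haveI : IsScalarTower R (Localization.AtPrime (r.comap (algebraMap R S)))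
      (Localization.AtPrime r) := IsScalarTower.of_algebraMap_eq (fun x => by
    rw [IsScalarTower.algebraMap_apply R S (Localization.AtPrime r)]
    exact (Localization.localRingHom_to_map (r.comap (algebraMap R S)) r (algebraMap R S)
      rfl x).symm)
  haveI : Module.Flat R (Localization.AtPrime r) := Module.Flat.trans R S (Localization.AtPrime r)
  have hmax : (maximalIdeal (Localization.AtPrime (r.comap (algebraMap R S)))).map
      (algebraMap (Localization.AtPrime (r.comap (algebraMap R S))) (Localization.AtPrime r)) =
      ((r.comap (algebraMap R S)).map (algebraMap R S)).map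
        (algebraMap S (Localization.AtPrime r)) := by
    rw [← IsLocalization.AtPrime.map_eq_maximalIdeal (r.comap (algebraMap R S))
      (Localization.AtPrime (r.comap (algebraMap R S))), Ideal.map_map, Ideal.map_map]
    congr 1
    ext x
    exact Localization.localRingHom_to_map (r.comap (algebraMap R S)) r (algebraMap R S) rfl x
  have hωp : Dual.IsDualizing (Localization.AtPrime (r.comap (algebraMap R S)))
      ((bcD R (Localization.AtPrime (r.comap (algebraMap R S)))).obj ω) :=
    isDualizing_bcD (r.comap (algebraMap R S)).primeCompl _ ω hω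
  have hSr : Dual.IsDualizing (Localization.AtPrime r)
      ((bcD S (Localization.AtPrime r)).obj ((bcD R S).obj ω)) :=
    isDualizing_bcD r.primeCompl _ _ hS
  have hT : Dual.IsDualizing (Localization.AtPrime r)
      ((bcD (Localization.AtPrime (r.comap (algebraMap R S))) (Localization.AtPrime r)).obj
        ((bcD R (Localization.AtPrime (r.comap (algebraMap R S)))).obj ω)) :=
    isDualizing_of_iso ((bcDTrans R S (Localization.AtPrime r) ω).symm ≪≫
      bcDTrans R (Localization.AtPrime (r.comap (algebraMap R S))) (Localization.AtPrime r) ω) hSr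
  have key := gorLocal_closedFibre (Localization.AtPrime r) _ hωp hT
  exact gorLocal_of_ringEquiv (Ideal.quotEquivOfEq hmax) key

end Global

end Groth.Agent.Helper6.GorFib
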