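import Mathlib
import Groth.Prelude.Def_DRing4
import Groth.Agent.Helper6.LD8
import Groth.Agent.Helper6.FBC6
import Groth.Agent.Helper6.LocExt5

/-!
# Dualizing complexes: local to global

If `R` is bounded below with finite cohomology over a Noetherian ring of finite Krull dimension and
all localizations of `R` at primes are dualizing, then `R` is dualizing.
-/

set_option autoImplicit false
set_option linter.style.haveILetI false
set_option linter.unusedSectionVars false

universe u v
open CategoryTheory CategoryTheory.Limits Pretriangulated DerivedCategory TensorProduct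
attribute [local instance] HasDerivedCategory.standard

namespace Groth.Agent.Helper6.LocGlob
open Groth.Agent.Helper3.DRingLib Groth.Agent.Helper6.DK Groth.Agent.Helper6.LocExt
  Groth.Agent.Helper6.LD IsLocalRing

variable {A : Type u} [CommRing A]

section Loc

variable (S : Submonoid A) (B : Type u) [CommRing B] [Algebra A B] [IsLocalization S B]
  [Module.Flat A B]

/-- version of `degree_covBy_aux` only assuming the localization is dualizing -/
theorem degree_covBy_aux' [IsNoetherianRing A] [IsLocalRing B]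
    (ω : Dual.D A) (a : ℤ) [ω.IsGE a] (hωB : Dual.IsDualizing B ((bcD A B).obj ω))
    (P Q : Ideal A) [hP : P.IsPrime]
    (hQ' : (maximalIdeal B).under A = Q) (hdisj : Disjoint (S : Set A) (P : Set A))
    (hPQ : P ≠ Q)
    (hcov : ∀ P' : Ideal A, P'.IsPrime → P < P' → P' ≤ Q → P' = Q)
    (nQ : ℤ) (hnQ : ∀ i : ℤ, i ≠ nQ →
      Subsingleton (LocalizedModule S (Dual.inD A (A ⧸ Q) ⟶ ω⟦i⟧)))
    (k : ℤ) (hk : k ≠ nQ - 1) :
    Subsingleton (LocalizedModule P.primeCompl (Dual.inD A (A ⧸ P) ⟶ ω⟦k⟧)) := by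
  haveI : IsNoetherianRing B := hωB.isNoetherianRing
  have hω' := isDualizing_shift _ hωB nQ
  have hnorm : Dual.IsNormalized B (((bcD A B).obj ω)⟦nQ⟧) := by
    intro i hi
    have h1 : Subsingleton (Dual.inD B (B ⧸ maximalIdeal B) ⟶ ((bcD A B).obj ω)⟦nQ + i⟧) :=
      (loc_iff_of_under S B ω a (maximalIdeal B) Q hQ' (nQ + i)).mp (hnQ (nQ + i) (by omega))
    haveI : Subsingleton (Dual.inD B (ResidueField B) ⟶ ((bcD A B).obj ω)⟦nQ + i⟧) := h1
    exact (homShiftShiftEquiv (Dual.inD B (ResidueField B)) ((bcD A B).obj ω) nQ i (nQ + i)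
      rfl).toEquiv.subsingleton
  have hJp : (Ideal.map (algebraMap A B) P).IsPrime :=
    IsLocalization.isPrime_of_isPrime_disjoint S B P hP hdisj
  have hJu : (Ideal.map (algebraMap A B) P).under A = P :=
    IsLocalization.under_map_of_isPrime_disjoint S B hP hdisj
  have hJne : Ideal.map (algebraMap A B) P ≠ maximalIdeal B := by
    intro h
    apply hPQ
    rw [← hJu, h, hQ']
  have hcovB : ∀ P' : Ideal B, P'.IsPrime → Ideal.map (algebraMap A B) P < P' →
      P' = maximalIdeal B := by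
    intro P' hP' hlt
    haveI := hP'
    have hle : P ≤ P'.under A := by
      rw [← hJu]
      exact fun y hy => hlt.le hy
    have hne : P ≠ P'.under A := by
      intro h
      apply hlt.ne
      rw [← IsLocalization.map_under S B P', ← h]
    have hle2 : P'.under A ≤ Q := by
      rw [← hQ']
      exact fun y hy => IsLocalRing.le_maximalIdeal hP'.ne_top hy
    have hu : P'.under A = Q :=
      hcov _ (inferInstance : (P'.under A).IsPrime) (lt_of_le_of_ne hle hne) hle2
    rw [← IsLocalization.map_under S B P', hu, ← hQ', IsLocalization.map_under S B]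
  haveI := hJp
  have hvan := ext_vanish_of_covBy (((bcD A B).obj ω)⟦nQ⟧) hω' hnorm
    (Ideal.map (algebraMap A B) P) hJne hcovB (k - nQ) (by omega)
  haveI := hvan
  have h2 : Subsingleton (Dual.inD B (B ⧸ Ideal.map (algebraMap A B) P) ⟶
      ((bcD A B).obj ω)⟦k⟧) :=
    (homShiftShiftEquiv (Dual.inD B (B ⧸ Ideal.map (algebraMap A B) P)) ((bcD A B).obj ω)
      nQ (k - nQ) k (by omega)).symm.toEquiv.subsingleton
  have h3 : Subsingleton (LocalizedModule S (Dual.inD A (A ⧸ P) ⟶ ω⟦k⟧)) :=
    (loc_iff_of_under S B ω a _ P hJu k).mpr h2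
  rw [LocalizedModule.subsingleton_iff] at h3 ⊢
  intro f
  obtain ⟨r, hr, hrf⟩ := h3 f
  exact ⟨r, fun hrP => Set.disjoint_left.mp hdisj hr hrP, hrf⟩

end Loc

section Main

variable [IsNoetherianRing A]

/-- the degree in which the local Ext of the residue field at a prime lives -/
theorem exists_degree' (ω : Dual.D A) (a : ℤ) [ω.IsGE a] (P : Ideal A) [P.IsPrime]
    (hωB : Dual.IsDualizing (Localization.AtPrime P) ((bcD A (Localization.AtPrime P)).obj ω)) :
    ∃ n : ℤ, ∀ i : ℤ,
      Nontrivial (LocalizedModule P.primeCompl (Dual.inD A (A ⧸ P) ⟶ ω⟦i⟧)) ↔ i = n := by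
  haveI : IsNoetherianRing (Localization.AtPrime P) := hωB.isNoetherianRing
  obtain ⟨n, hn1, ⟨e⟩⟩ := DK.main ((bcD A (Localization.AtPrime P)).obj ω) hωB
    (maximalIdeal (Localization.AtPrime P))
  refine ⟨n, fun i => ?_⟩
  rw [← not_subsingleton_iff_nontrivial,
    loc_iff_of_under P.primeCompl (Localization.AtPrime P) ω a
      (maximalIdeal (Localization.AtPrime P)) P Localization.AtPrime.under_maximalIdeal i]
  constructor
  · intro h
    by_contra hne
    exact h (hn1 i hne)
  · rintro rfl hsub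
    haveI : Nontrivial (Localization.AtPrime P ⧸ maximalIdeal (Localization.AtPrime P)) :=
      Ideal.Quotient.nontrivial_iff.mpr (IsLocalRing.maximalIdeal.isMaximal _).ne_top
    haveI := hsub
    exact not_subsingleton (Localization.AtPrime P ⧸ maximalIdeal (Localization.AtPrime P))
      e.symm.toEquiv.subsingleton

/-- a complex which is dualizing at all primes defines a dimension function -/
theorem exists_dimension_function' (ω : Dual.D A) (a : ℤ) [ω.IsGE a]
    (h : ∀ p : PrimeSpectrum A, Dual.IsDualizing (Localization.AtPrime p.asIdeal)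
      ((bcD A (Localization.AtPrime p.asIdeal)).obj ω)) :
    ∃ δ : PrimeSpectrum A → ℤ,
      (∀ (p : PrimeSpectrum A) (i : ℤ),
        Nontrivial (LocalizedModule p.asIdeal.primeCompl
          (Dual.inD A (A ⧸ p.asIdeal) ⟶ ω⟦i⟧)) ↔ i = -δ p) ∧
      ∀ p q : PrimeSpectrum A, p ⋖ q → δ p = δ q + 1 := by
  have hex : ∀ p : PrimeSpectrum A, ∃ n : ℤ, ∀ i : ℤ,
      Nontrivial (LocalizedModule p.asIdeal.primeCompl
        (Dual.inD A (A ⧸ p.asIdeal) ⟶ ω⟦i⟧)) ↔ i = n :=
    fun p => exists_degree' ω a p.asIdeal (h p)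
  choose n hn using hex
  refine ⟨fun p => -n p, fun p i => ?_, fun p q hpq => ?_⟩
  · show _ ↔ i = - -n p
    rw [neg_neg]
    exact hn p i
  · have hlt : p.asIdeal < q.asIdeal := (PrimeSpectrum.asIdeal_lt_asIdeal p q).mpr hpq.lt
    have hcov : ∀ P' : Ideal A, P'.IsPrime → p.asIdeal < P' → P' ≤ q.asIdeal →
        P' = q.asIdeal := by
      intro P' hP' h1 h2
      rcases lt_or_eq_of_le h2 with h3 | h3
      · exfalso
        exact hpq.2 ((PrimeSpectrum.asIdeal_lt_asIdeal p ⟨P', hP'⟩).mp h1)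
          ((PrimeSpectrum.asIdeal_lt_asIdeal ⟨P', hP'⟩ q).mp h3)
      · exact h3
    have hdisj : Disjoint (q.asIdeal.primeCompl : Set A) (p.asIdeal : Set A) :=
      Set.disjoint_left.mpr (fun y hy hyp => hy (hlt.le hyp))
    have key := degree_covBy_aux' q.asIdeal.primeCompl (Localization.AtPrime q.asIdeal) ω a (h q)
      p.asIdeal q.asIdeal Localization.AtPrime.under_maximalIdeal hdisj hlt.ne hcov (n q)
      (fun i hi => not_nontrivial_iff_subsingleton.mp (fun h => hi ((hn q i).mp h)))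
    have h1 : n p = n q - 1 := by
      by_contra hne
      have h2 := key (n p) hne
      exact not_nontrivial_iff_subsingleton.mpr h2 ((hn p (n p)).mpr rfl)
    show -n p = -n q + 1
    omega

/-- a function on the spectrum dropping by one along covers: upper bound -/
theorem delta_le_of_le (δ : PrimeSpectrum A → ℤ)
    (hδ2 : ∀ p q : PrimeSpectrum A, p ⋖ q → δ p = δ q + 1) :
    ∀ (h : ℕ) (q : PrimeSpectrum A), Order.height q = h →
      ∀ p : PrimeSpectrum A, p ≤ q → δ p ≤ δ q + h := by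
  haveI := wellFoundedGT_primeSpectrum (A := A)
  intro h
  induction h using Nat.strong_induction_on with
  | _ h ih =>
    intro q hq p hpq
    rcases eq_or_lt_of_le hpq with rfl | hlt
    · omega
    · obtain ⟨c, hpc, hcq⟩ := exists_le_covBy_of_lt hlt
      have h1 : δ c = δ q + 1 := hδ2 c q hcq
      have h2 : Order.height c + 1 ≤ Order.height q := Order.height_add_one_le hcq.lt
      rw [hq] at h2
      have h3 : Order.height c ≠ ⊤ := by
        intro htop
        rw [htop] at h2
        exact absurd h2 (by simp)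
      obtain ⟨h', hh'⟩ := ENat.ne_top_iff_exists.mp h3
      rw [← hh'] at h2
      have h4 : h' < h := by
        have := (ENat.add_one_le_iff (ENat.natCast_ne_top h')).mp h2
        exact_mod_cast this
      have h5 := ih h' h4 c hh'.symm p hpc
      omega

lemma exists_height_bound (hdim : ringKrullDim A < ⊤) :
    ∃ D : ℕ, ∀ q : PrimeSpectrum A, Order.height q ≤ (D : ℕ∞) := by
  have h1 : ∀ q : PrimeSpectrum A, ((Order.height q : ℕ∞) : WithBot ℕ∞) ≤ ringKrullDim A :=
    fun q => Order.height_le_krullDim q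
  by_cases hbot : ringKrullDim A = ⊥
  · refine ⟨0, fun q => ?_⟩
    have h2 := h1 q
    rw [hbot, le_bot_iff] at h2
    exact absurd h2 (WithBot.coe_ne_bot)
  · obtain ⟨x, hx⟩ := WithBot.ne_bot_iff_exists.mp hbot
    have hxtop : x ≠ ⊤ := by
      intro h
      rw [h] at hx
      rw [← hx] at hdim
      exact absurd hdim (by simp)
    obtain ⟨D, hD⟩ := ENat.ne_top_iff_exists.mp hxtop
    refine ⟨D, fun q => ?_⟩
    have h2 := h1 q
    rw [← hx, WithBot.coe_le_coe] at h2
    rw [hD]
    exact h2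

/-- a map out of `A/𝔫` killed by an element outside the maximal ideal `𝔫` vanishes -/
lemma eq_zero_of_smul_eq_zero_of_notMem (Y : Dual.D A) (𝔫 : Ideal A) (h𝔫 : 𝔫.IsMaximal) (r : A)
    (hr : r ∉ 𝔫) (f : Dual.inD A (A ⧸ 𝔫) ⟶ Y) (h : r • f = 0) : f = 0 := by
  obtain ⟨t, u, hu, htu⟩ := h𝔫.exists_inv hr
  have h1 : u • f = 0 := Groth.Agent.Helper6.FBC.smul_eq_zero_of_mem Y 𝔫 u hu f
  calc f = (1 : A) • f := (one_smul _ _).symm
    _ = (t * r + u) • f := by rw [htu]
    _ = t • (r • f) + u • f := by rw [add_smul, mul_smul]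
    _ = 0 := by rw [h, h1, smul_zero, add_zero]

/-- **local to global for dualizing complexes** -/
theorem isDualizing_of_local (hdim : ringKrullDim A < ⊤) (R : Dual.D A)
    (hfin : ∀ i : ℤ, Module.Finite A (Dual.HD A R i)) (a : ℤ) [R.IsGE a]
    (h : ∀ p : PrimeSpectrum A, Dual.IsDualizing (Localization.AtPrime p.asIdeal)
      ((bcD A (Localization.AtPrime p.asIdeal)).obj R)) :
    Dual.IsDualizing A R := by
  classical
  obtain ⟨δ, hδ1, hδ2⟩ := exists_dimension_function' R a h
  obtain ⟨D, hD⟩ := exists_height_bound hdim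
  haveI : Finite (minimalPrimes A) := (minimalPrimes.finite_of_isNoetherianRing A).to_subtype
  obtain ⟨N, hN⟩ := Finite.exists_le
    (fun p : minimalPrimes A => -δ ⟨p.1, p.2.1.1⟩)
  have hbound : ∀ q : PrimeSpectrum A, -δ q ≤ N + D := by
    intro q
    obtain ⟨p₀, hp₀, hle⟩ := Ideal.exists_minimalPrimes_le (bot_le : (⊥ : Ideal A) ≤ q.asIdeal)
    have hp₀' : p₀ ∈ minimalPrimes A := hp₀
    have h1 := hN ⟨p₀, hp₀'⟩
    simp only at h1
    have hfin' : Order.height q ≠ ⊤ := fun htop => by
      have := hD q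
      rw [htop] at this
      exact absurd this (by simp)
    obtain ⟨hh, hhq⟩ := ENat.ne_top_iff_exists.mp hfin'
    have h2 := delta_le_of_le δ hδ2 hh q hhq.symm ⟨p₀, hp₀'.1.1⟩
      ((PrimeSpectrum.asIdeal_le_asIdeal _ _).mp hle)
    have h3 : hh ≤ D := by
      have := hD q
      rw [← hhq] at this
      exact_mod_cast this
    omega
  have hmax : ∀ 𝔫 : Ideal A, 𝔫.IsMaximal → ∀ i : ℤ, N + D < i →
      ∀ f : Dual.inD A (A ⧸ 𝔫) ⟶ R⟦i⟧, f = 0 := by
    intro 𝔫 h𝔫 i hi f
    have hne : i ≠ -δ ⟨𝔫, h𝔫.isPrime⟩ := by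
      have := hbound ⟨𝔫, h𝔫.isPrime⟩
      omega
    have hsub : Subsingleton (LocalizedModule 𝔫.primeCompl (Dual.inD A (A ⧸ 𝔫) ⟶ R⟦i⟧)) :=
      not_nontrivial_iff_subsingleton.mp (fun hnt => hne ((hδ1 ⟨𝔫, h𝔫.isPrime⟩ i).mp hnt))
    obtain ⟨r, hr, hrf⟩ := LocalizedModule.subsingleton_iff.mp hsub f
    exact eq_zero_of_smul_eq_zero_of_notMem (R⟦i⟧) 𝔫 h𝔫 r hr f hrf
  have hab : ∀ (M : Type u) [AddCommGroup M] [Module A M] (i : ℤ),
      (i < a ∨ N + D < i) → Subsingleton (Dual.inD A M ⟶ R⟦i⟧) :=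
    fun M _ _ i hi => Groth.Agent.Helper6.FBC.hinj_of_maximal R a (N + D) hfin hmax M i hi
  obtain ⟨_, hLE⟩ := bounds_of_hinj R a (N + D) hab
  haveI := hLE
  exact isDualizing_of_cover (fun p : PrimeSpectrum A => p.asIdeal.primeCompl) hcov_primes
    (fun p : PrimeSpectrum A => Localization.AtPrime p.asIdeal) R a (N + D) hfin
    ⟨a, N + D, hab⟩ h

end Main

end Groth.Agent.Helper6.LocGlob
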