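import Mathlib
import Groth.Prelude.Def_DRing4
import Groth.Agent.Helper6.GorFib2
import Groth.Agent.Helper6.LocGlob1

/-!
# Flat base change of dualizing complexes along maps with Gorenstein fibres
-/

set_option autoImplicit false
set_option linter.style.haveILetI false
set_option linter.unusedSectionVars false

universe u
open CategoryTheory CategoryTheory.Limits Pretriangulated DerivedCategory TensorProduct
attribute [local instance] HasDerivedCategory.standard

namespace Groth.Agent.Helper6.GorFib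
open Groth.Agent.Helper3.DRingLib Groth.Agent.Helper6.FlatBC Groth.Agent.Helper6.LocExt
  Groth.Agent.Helper6.FBC Groth.Agent.Helper6.LD Groth.Agent.Helper6.DK IsLocalRing
open Groth.Agent.Helper7.SegGor Groth.Agent.Helper3.GorFlatD Groth.Agent.Helper6.DualFun
  Groth.Agent.Helper6.Recog

section SL

variable {T : Type u} [CommRing T]

/-- transfer of a generator through the coextension adjunction -/
theorem generator_of_coext (J : Ideal T) (K : Dual.D T) (Y : Dual.D (T ⧸ J))
    (ε : (DRing.restrictD (algebraMap T (T ⧸ J))).obj Y ⟶ K)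
    (h : Groth.Agent.Helper6.Coext.IsCoext (algebraMap T (T ⧸ J)) K Y ε) (X : Dual.D (T ⧸ J))
    (j : ℤ) (g₁ : X ⟶ Y⟦-j⟧) (hg₁ : g₁ ≠ 0)
    (hgen : ∀ g : X ⟶ Y⟦-j⟧, ∃ x : T ⧸ J, g = x • g₁) :
    ∃ t₁ : (DRing.restrictD (algebraMap T (T ⧸ J))).obj X ⟶ K⟦-j⟧, t₁ ≠ 0 ∧
      ∀ s : (DRing.restrictD (algebraMap T (T ⧸ J))).obj X ⟶ K⟦-j⟧, ∃ c : T, s = c • t₁ := by
  obtain ⟨α, -⟩ : ∃ α : (X⟦j⟧ ⟶ Y) ≃ₗ[T ⧸ J] (X ⟶ Y⟦-j⟧), True :=
    ⟨shiftHomEquiv' X Y j, trivial⟩
  obtain ⟨τ, -⟩ : ∃ τ : (DRing.restrictD (algebraMap T (T ⧸ J))).obj (X⟦j⟧) ≅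
      ((DRing.restrictD (algebraMap T (T ⧸ J))).obj X)⟦j⟧, True :=
    ⟨((DRing.restrictD (algebraMap T (T ⧸ J))).commShiftIso j).app X, trivial⟩
  obtain ⟨δ, -⟩ : ∃ δ : (((DRing.restrictD (algebraMap T (T ⧸ J))).obj X)⟦j⟧ ⟶ K) ≃ₗ[T]
      ((DRing.restrictD (algebraMap T (T ⧸ J))).obj X ⟶ K⟦-j⟧), True :=
    ⟨shiftHomEquiv' ((DRing.restrictD (algebraMap T (T ⧸ J))).obj X) K j, trivial⟩
  have hβ := h (X⟦j⟧)
  refine ⟨δ (τ.inv ≫ (DRing.restrictD (algebraMap T (T ⧸ J))).map (α.symm g₁) ≫ ε), ?_, ?_⟩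
  · intro h0
    have h1 : τ.inv ≫ (DRing.restrictD (algebraMap T (T ⧸ J))).map (α.symm g₁) ≫ ε = 0 := by
      have := congrArg δ.symm h0
      rwa [LinearEquiv.symm_apply_apply, map_zero] at this
    have h2 : (DRing.restrictD (algebraMap T (T ⧸ J))).map (α.symm g₁) ≫ ε = 0 :=
      (cancel_epi τ.inv).mp (h1.trans comp_zero.symm)
    have h2' : (DRing.restrictD (algebraMap T (T ⧸ J))).map (0 : X⟦j⟧ ⟶ Y) ≫ ε = 0 := by
      rw [Functor.map_zero, zero_comp]
    have h3 : α.symm g₁ = 0 := hβ.1 (h2.trans h2'.symm)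
    apply hg₁
    have := congrArg α h3
    rwa [LinearEquiv.apply_symm_apply, map_zero] at this
  · intro s
    obtain ⟨g', hg'⟩ := hβ.2 (τ.hom ≫ δ.symm s)
    obtain ⟨x, hx⟩ := hgen (α g')
    obtain ⟨c, rfl⟩ := Ideal.Quotient.mk_surjective x
    refine ⟨c, ?_⟩
    have hx' : α g' = (algebraMap T (T ⧸ J) c) • g₁ := hx
    have h1 : g' = (algebraMap T (T ⧸ J) c) • α.symm g₁ := by
      have := congrArg α.symm hx'
      rwa [LinearEquiv.symm_apply_apply, map_smul] at this
    have h2 : (DRing.restrictD (algebraMap T (T ⧸ J))).map g' ≫ ε = τ.hom ≫ δ.symm s := hg'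
    rw [h1, RD_map_smul', Linear.smul_comp] at h2
    have h3 : δ.symm s =
        c • (τ.inv ≫ (DRing.restrictD (algebraMap T (T ⧸ J))).map (α.symm g₁) ≫ ε) := by
      calc δ.symm s = τ.inv ≫ τ.hom ≫ δ.symm s := by rw [Iso.inv_hom_id_assoc]
        _ = τ.inv ≫ (c • ((DRing.restrictD (algebraMap T (T ⧸ J))).map (α.symm g₁) ≫ ε)) := by
            rw [← h2]
        _ = c • (τ.inv ≫ (DRing.restrictD (algebraMap T (T ⧸ J))).map (α.symm g₁) ≫ ε) := by
            rw [Linear.comp_smul]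
    have := congrArg δ h3
    rwa [LinearEquiv.apply_symm_apply, map_smul] at this

end SL

section Kappa

variable {T : Type u} [CommRing T] [IsLocalRing T] (J : Ideal T) [IsLocalRing (T ⧸ J)]

/-- `T → (T/J)/𝔪`, as a `T`-linear map to the restriction of scalars -/
noncomputable def kappaLin : T →ₗ[T] ((rF (algebraMap T (T ⧸ J))).obj
    (ModuleCat.of (T ⧸ J) ((T ⧸ J) ⧸ maximalIdeal (T ⧸ J)))) where
  toFun b := Ideal.Quotient.mk (maximalIdeal (T ⧸ J)) (algebraMap T (T ⧸ J) b)
  map_add' x y := by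
    rw [map_add, map_add]
    rfl
  map_smul' c b := by
    rw [RingHom.id_apply, smul_eq_mul, map_mul, map_mul]
    rfl

lemma kappaLin_apply (b : T) :
    kappaLin J b = Ideal.Quotient.mk (maximalIdeal (T ⧸ J)) (algebraMap T (T ⧸ J) b) := rfl

lemma kappaLin_surjective : Function.Surjective (kappaLin J) := by
  intro z
  obtain ⟨y, rfl⟩ := Ideal.Quotient.mk_surjective (I := maximalIdeal (T ⧸ J)) z
  obtain ⟨b, rfl⟩ := Ideal.Quotient.mk_surjective y
  exact ⟨b, rfl⟩

lemma kappaLin_ker : LinearMap.ker (kappaLin J) = maximalIdeal T := by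
  ext b
  have key : kappaLin J b = 0 ↔ algebraMap T (T ⧸ J) b ∈ maximalIdeal (T ⧸ J) :=
    Ideal.Quotient.eq_zero_iff_mem (I := maximalIdeal (T ⧸ J)) (a := algebraMap T (T ⧸ J) b)
  rw [LinearMap.mem_ker, key]
  constructor
  · intro hb
    by_contra hnot
    have hu : IsUnit b := by
      by_contra hnu
      exact hnot ((mem_maximalIdeal b).mpr hnu)
    exact (mem_maximalIdeal _).mp hb (hu.map (algebraMap T (T ⧸ J)))
  · intro hb
    rw [← map_mk_maximalIdeal J]
    exact Ideal.mem_map_of_mem _ hb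

/-- the residue field of `T` is the restriction of the residue field of `T/J` -/
noncomputable def kappaIso : ModuleCat.of T (T ⧸ maximalIdeal T) ≅
    (rF (algebraMap T (T ⧸ J))).obj
      (ModuleCat.of (T ⧸ J) ((T ⧸ J) ⧸ maximalIdeal (T ⧸ J))) :=
  ((Submodule.quotEquivOfEq _ _ (kappaLin_ker J).symm) ≪≫ₗ
    (kappaLin J).quotKerEquivOfSurjective (kappaLin_surjective J)).toModuleIso

/-- the same in the derived category -/
noncomputable def ρκ : Dual.inD T (T ⧸ maximalIdeal T) ≅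
    (DRing.restrictD (algebraMap T (T ⧸ J))).obj
      (Dual.inD (T ⧸ J) ((T ⧸ J) ⧸ maximalIdeal (T ⧸ J))) :=
  (DerivedCategory.singleFunctor (ModuleCat.{u} T) 0).mapIso (kappaIso J) ≪≫
    (rDSingle (algebraMap T (T ⧸ J)) 0
      (ModuleCat.of (T ⧸ J) ((T ⧸ J) ⧸ maximalIdeal (T ⧸ J)))).symm

end Kappa

section Crit

variable {A : Type u} [CommRing A] [IsLocalRing A] [IsNoetherianRing A]

/-- the criterion `Recog.main` with a generator instead of a linear equivalence -/
theorem recog_main' (R : Dual.D A) (hfin : ∀ i : ℤ, Module.Finite A (Dual.HD A R i))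
    (hbdd : ∃ a : ℤ, ∀ i : ℤ, i < a → Subsingleton (Dual.HD A R i)) (d : ℤ)
    (hvan : ∀ i : ℤ, i ≠ d → Subsingleton (Dual.inD A (ResidueField A) ⟶ R⟦i⟧))
    (t : Dual.inD A (ResidueField A) ⟶ R⟦d⟧) (ht : t ≠ 0)
    (hgen : ∀ s : Dual.inD A (ResidueField A) ⟶ R⟦d⟧, ∃ c : A, s = c • t) :
    Dual.IsDualizing A R := by
  obtain ⟨a, ha⟩ := hbdd
  haveI : R.IsGE a := isGE_of_HD R a ha
  haveI : (R⟦d⟧).IsGE (a - d) := TStructure.t.isGE_shift R a d (a - d) (by omega)
  have hfin₀ : ∀ i : ℤ, Module.Finite A (Dual.HD A (R⟦d⟧) i) := fun i => by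
    haveI := hfin (d + i)
    exact Module.Finite.equiv (Groth.Agent.Helper6.Coext.hdShift R d i (d + i) rfl).symm
  have hn₀ : Dual.IsNormalized A (R⟦d⟧) := fun i hi => by
    haveI : Subsingleton (Dual.inD A (ResidueField A) ⟶ R⟦d + i⟧) := hvan (d + i) (by omega)
    exact (homShiftShiftEquiv (Dual.inD A (ResidueField A)) R d i (d + i)
      rfl).toEquiv.subsingleton
  have h1 := isDualizing_of_recognition (R⟦d⟧) (a - d) hfin₀ hn₀ t ht hgen
  exact isDualizing_of_iso (shiftShiftNeg R d) (isDualizing_shift _ h1 (-d))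

end Crit

section Local

variable {R : Type u} [CommRing R] [IsLocalRing R] [IsNoetherianRing R]
  (T : Type u) [CommRing T] [IsLocalRing T] [IsNoetherianRing T] [Algebra R T] [Module.Flat R T]
  [IsLocalHom (algebraMap R T)]

/-- **flat local maps with Gorenstein closed fibre preserve dualizing complexes** -/
theorem isDualizing_bcD_of_gorLocal_closedFibre (ω : Dual.D R) (hω : Dual.IsDualizing R ω)
    (hF : LocCoh.IsGorensteinLocalRing (T ⧸ (maximalIdeal R).map (algebraMap R T))) :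
    Dual.IsDualizing T ((bcD R T).obj ω) := by
  obtain ⟨a, b, hab⟩ := hω.finite_injective_dimension
  obtain ⟨hGE, _⟩ := bounds_of_hinj ω a b hab
  haveI := hGE
  obtain ⟨n₀, hn1, ⟨e0⟩⟩ := DK.main ω hω (maximalIdeal R)
  haveI : (ω⟦n₀⟧).IsGE (a - n₀) := TStructure.t.isGE_shift ω a n₀ (a - n₀) (by omega)
  have hn' : Dual.IsNormalized R (ω⟦n₀⟧) := fun i hi => by
    haveI : Subsingleton (Dual.inD R (ResidueField R) ⟶ ω⟦n₀ + i⟧) := hn1 (n₀ + i) (by omega)
    exact (homShiftShiftEquiv (Dual.inD R (ResidueField R)) _ n₀ i (n₀ + i)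
      rfl).toEquiv.subsingleton
  haveI : ((bcD R T).obj (ω⟦n₀⟧)).IsGE (a - n₀) := bcD_isGE T (ω⟦n₀⟧) (a - n₀)
  obtain ⟨Y, ε, hco⟩ := exists_isCoext (A := T)
    (B := T ⧸ (maximalIdeal R).map (algebraMap R T)) ((bcD R T).obj (ω⟦n₀⟧)) (a - n₀)
  obtain ⟨i₀⟩ := coext_iso_self T (ω⟦n₀⟧) (a - n₀) hn' e0 Y ε hco
  haveI : IsLocalRing (T ⧸ (maximalIdeal R).map (algebraMap R T)) := hF.toIsLocalRing
  obtain ⟨n, hn⟩ := hF.exists_hasInjectiveDimensionLT
  have hFd : Dual.IsDualizing (T ⧸ (maximalIdeal R).map (algebraMap R T))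
      (Dual.inD (T ⧸ (maximalIdeal R).map (algebraMap R T))
        (T ⧸ (maximalIdeal R).map (algebraMap R T))) :=
    Groth.Agent.Helper6.DualSelf.isDualizing_of_injdim _ n hn
  have hYd : Dual.IsDualizing (T ⧸ (maximalIdeal R).map (algebraMap R T)) Y :=
    isDualizing_of_iso i₀.symm hFd
  obtain ⟨d, hd1, ⟨eF⟩⟩ := DK.main Y hYd
    (maximalIdeal (T ⧸ (maximalIdeal R).map (algebraMap R T)))
  obtain ⟨j, rfl⟩ : ∃ j, d = -j := ⟨-d, by omega⟩
  have hg₁ : eF.symm 1 ≠ 0 := fun h => by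
    have h3 := congrArg eF h
    rw [LinearEquiv.apply_symm_apply, map_zero] at h3
    exact one_ne_zero h3
  have hgenF : ∀ g : Dual.inD (T ⧸ (maximalIdeal R).map (algebraMap R T))
      ((T ⧸ (maximalIdeal R).map (algebraMap R T)) ⧸
        maximalIdeal (T ⧸ (maximalIdeal R).map (algebraMap R T))) ⟶ Y⟦-j⟧,
      ∃ x : T ⧸ (maximalIdeal R).map (algebraMap R T), g = x • eF.symm 1 := by
    intro g
    obtain ⟨x, hx⟩ := Ideal.Quotient.mk_surjective (eF g)
    refine ⟨x, eF.injective ?_⟩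
    rw [map_smul, LinearEquiv.apply_symm_apply, ← hx, Algebra.smul_def, mul_one]
    rfl
  obtain ⟨t₁, ht₁, hgen₁⟩ := generator_of_coext _ _ Y ε hco _ j (eF.symm 1) hg₁ hgenF
  have hfinK : ∀ i : ℤ, Module.Finite T (Dual.HD T ((bcD R T).obj (ω⟦n₀⟧)) i) :=
    finite_HD_bcD T (ω⟦n₀⟧) (fun i => by
      haveI := hω.finite_cohomology (n₀ + i)
      exact Module.Finite.equiv (Groth.Agent.Helper6.Coext.hdShift ω n₀ i (n₀ + i) rfl).symm)
  have hbddK : ∃ a' : ℤ, ∀ i : ℤ, i < a' →
      Subsingleton (Dual.HD T ((bcD R T).obj (ω⟦n₀⟧)) i) :=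
    ⟨a - n₀, fun i hi => subsingleton_HD_of_isGE _ (a - n₀) i hi⟩
  have hvanK : ∀ i : ℤ, i ≠ -j → Subsingleton (Dual.inD T (ResidueField T) ⟶
      ((bcD R T).obj (ω⟦n₀⟧))⟦i⟧) := by
    intro i hi
    haveI := hd1 i hi
    haveI : Subsingleton ((DRing.restrictD
        (algebraMap T (T ⧸ (maximalIdeal R).map (algebraMap R T)))).obj
        (Dual.inD (T ⧸ (maximalIdeal R).map (algebraMap R T))
          ((T ⧸ (maximalIdeal R).map (algebraMap R T)) ⧸
            maximalIdeal (T ⧸ (maximalIdeal R).map (algebraMap R T)))) ⟶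
        ((bcD R T).obj (ω⟦n₀⟧))⟦i⟧) := (hco.homShiftEquiv _ i).symm.subsingleton
    exact (Iso.homCongr (ρκ ((maximalIdeal R).map (algebraMap R T)))
      (Iso.refl (((bcD R T).obj (ω⟦n₀⟧))⟦i⟧))).subsingleton
  have htK : (ρκ ((maximalIdeal R).map (algebraMap R T))).hom ≫ t₁ ≠ 0 := fun h =>
    ht₁ ((cancel_epi (ρκ ((maximalIdeal R).map (algebraMap R T))).hom).mp (h.trans comp_zero.symm))
  have hgenK : ∀ s : Dual.inD T (ResidueField T) ⟶ ((bcD R T).obj (ω⟦n₀⟧))⟦-j⟧,
      ∃ c : T, s = c • ((ρκ ((maximalIdeal R).map (algebraMap R T))).hom ≫ t₁) := by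
    intro s
    obtain ⟨c, hc⟩ := hgen₁ ((ρκ ((maximalIdeal R).map (algebraMap R T))).inv ≫ s)
    refine ⟨c, ?_⟩
    rw [← Linear.comp_smul, ← hc, Iso.hom_inv_id_assoc]
  have hK' := recog_main' ((bcD R T).obj (ω⟦n₀⟧)) hfinK hbddK (-j) hvanK _ htK hgenK
  exact isDualizing_of_iso (shiftShiftNeg ((bcD R T).obj ω) n₀)
    (isDualizing_shift _ (isDualizing_of_iso (((bcD R T).commShiftIso n₀).app ω) hK') (-n₀))

end Local

section Global

variable {R S : Type u} [CommRing R] [CommRing S] [Algebra R S] [IsNoetherianRing R]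
  [IsNoetherianRing S] [Module.Flat R S]

/-- **flat maps with Gorenstein fibres preserve dualizing complexes** -/
theorem isDualizing_bcD_of_gorenstein_fibres (ω : Dual.D R) (hω : Dual.IsDualizing R ω)
    (hdim : ringKrullDim S < ⊤)
    (hfib : ∀ (r : Ideal S) [r.IsPrime], LocCoh.IsGorensteinLocalRing (Localization.AtPrime r ⧸
      ((r.comap (algebraMap R S)).map (algebraMap R S)).map
        (algebraMap S (Localization.AtPrime r)))) :
    Dual.IsDualizing S ((bcD R S).obj ω) := by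
  obtain ⟨a, b, hab⟩ := hω.finite_injective_dimension
  obtain ⟨hGE, _⟩ := bounds_of_hinj ω a b hab
  haveI := hGE
  haveI : ((bcD R S).obj ω).IsGE a := bcD_isGE S ω a
  refine Groth.Agent.Helper6.LocGlob.isDualizing_of_local hdim _
    (finite_HD_bcD S ω hω.finite_cohomology) a (fun q => ?_)
  obtain ⟨r, hr⟩ := q
  haveI := hr
  show Dual.IsDualizing (Localization.AtPrime r)
    ((bcD S (Localization.AtPrime r)).obj ((bcD R S).obj ω))
  haveI : IsNoetherianRing (Localization.AtPrime (r.comap (algebraMap R S))) :=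
    IsLocalization.isNoetherianRing (r.comap (algebraMap R S)).primeCompl _ inferInstance
  haveI : IsNoetherianRing (Localization.AtPrime r) :=
    IsLocalization.isNoetherianRing r.primeCompl _ inferInstance
  letI : Algebra (Localization.AtPrime (r.comap (algebraMap R S))) (Localization.AtPrime r) :=
    (Localization.localRingHom (r.comap (algebraMap R S)) r (algebraMap R S) rfl).toAlgebra
  haveI : Module.Flat (Localization.AtPrime (r.comap (algebraMap R S)))
      (Localization.AtPrime r) :=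
    RingHom.Flat.localRingHom ((RingHom.flat_algebraMap_iff).mpr inferInstance) r
      (r.comap (algebraMap R S)) rfl
  haveI : IsLocalHom (algebraMap (Localization.AtPrime (r.comap (algebraMap R S)))
      (Localization.AtPrime r)) :=
    Localization.isLocalHom_localRingHom (r.comap (algebraMap R S)) r (algebraMap R S) rfl
  haveI : IsScalarTower R (Localization.AtPrime (r.comap (algebraMap R S)))
      (Localization.AtPrime r) := IsScalarTower.of_algebraMap_eq (fun x => by
    rw [IsScalarTower.algebraMap_apply R S (Localization.AtPrime r)]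
    exact (Localization.localRingHom_to_map (r.comap (algebraMap R S)) r (algebraMap R S)
      rfl x).symm)
  haveI : Module.Flat R (Localization.AtPrime r) := Module.Flat.trans R S (Localization.AtPrime r)
  have hmax : (maximalIdeal (Localization.AtPrime (r.comap (algebraMap R S)))).map
      (algebraMap (Localization.AtPrime (r.comap (algebraMap R S))) (Localization.AtPrime r)) =
      ((r.comap (algebraMap R S)).map (algebraMap R S)).map
        (algebraMap S (Localization.AtPrime r)) := by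
    rw [← IsLocalization.AtPrime.map_eq_maximalIdeal (r.comap (algebraMap R S))
      (Localization.AtPrime (r.comap (algebraMap R S))), Ideal.map_map, Ideal.map_map]
    congr 1
    ext x
    exact Localization.localRingHom_to_map (r.comap (algebraMap R S)) r (algebraMap R S) rfl x
  have hωp : Dual.IsDualizing (Localization.AtPrime (r.comap (algebraMap R S)))
      ((bcD R (Localization.AtPrime (r.comap (algebraMap R S)))).obj ω) :=
    isDualizing_bcD (r.comap (algebraMap R S)).primeCompl _ ω hω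
  have hFr := gorLocal_of_ringEquiv (Ideal.quotEquivOfEq hmax.symm) (hfib r)
  have key := isDualizing_bcD_of_gorLocal_closedFibre (Localization.AtPrime r) _ hωp hFr
  exact isDualizing_of_iso
    ((bcDTrans R (Localization.AtPrime (r.comap (algebraMap R S))) (Localization.AtPrime r) ω).symm
      ≪≫ bcDTrans R S (Localization.AtPrime r) ω) key

/-- finite type algebras over rings of finite Krull dimension have finite Krull dimension -/
lemma ringKrullDim_lt_top_of_finiteType [Algebra.FiniteType R S] (h : ringKrullDim R < ⊤) :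
    ringKrullDim S < ⊤ := by
  obtain ⟨n, f, hf⟩ := Algebra.FiniteType.iff_quotient_mvPolynomial''.mp
    (inferInstance : Algebra.FiniteType R S)
  have h1 : ringKrullDim S ≤ ringKrullDim (MvPolynomial (Fin n) R) :=
    ringKrullDim_le_of_surjective f.toRingHom hf
  rw [MvPolynomial.ringKrullDim_of_isNoetherianRing] at h1
  refine lt_of_le_of_lt h1 ?_
  rw [Nat.card_eq_fintype_card, Fintype.card_fin]
  cases hR : ringKrullDim R with
  | bot => simp
  | coe x =>
    rw [hR] at h
    have hx : x ≠ ⊤ := fun hx => by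
      rw [hx] at h
      exact absurd h (by simp)
    obtain ⟨m, rfl⟩ := ENat.ne_top_iff_exists.mp hx
    have h2 : ((m : ℕ∞) : WithBot ℕ∞) + (n : WithBot ℕ∞) = (((m + n : ℕ) : ℕ∞) : WithBot ℕ∞) := by
      norm_cast
    rw [h2]
    exact WithBot.coe_lt_coe.mpr (ENat.natCast_lt_top _)

end Global

end Groth.Agent.Helper6.GorFib
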