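import Mathlib
import Groth.Prelude.Def_DRing4
import Groth.Agent.Helper6.GorFib3
import Groth.Agent.Helper3.GorFib

/-!
# Dualizing complexes and faithfully flat finite type maps with Gorenstein fibres
-/

set_option autoImplicit false
set_option linter.style.haveILetI false
set_option linter.unusedSectionVars false

universe u
open CategoryTheory CategoryTheory.Limits Pretriangulated DerivedCategory TensorProduct
attribute [local instance] HasDerivedCategory.standard

namespace Groth.Agent.Helper6.GorFib
open Groth.Agent.Helper3.DRingLib Groth.Agent.Helper6.FlatBC Groth.Agent.Helper6.LocExt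
  Groth.Agent.Helper6.FBC Groth.Agent.Helper6.LD IsLocalRing

variable (A B : Type u) [CommRing A] [CommRing B] [Algebra A B] [IsNoetherianRing A]
  [IsNoetherianRing B] [Module.FaithfullyFlat A B]

/-- **dualizing complexes along faithfully flat finite type maps with Gorenstein fibres** -/
theorem isDualizing_iff_bcD_of_gorenstein_fibres [Algebra.FiniteType A B]
    (hG : ∀ p : PrimeSpectrum A, LocCoh.IsGorensteinRing (B ⊗[A] p.asIdeal.ResidueField))
    (K : Dual.D A) : Dual.IsDualizing A K ↔ Dual.IsDualizing B ((bcD A B).obj K) := by
  haveI : Module.Flat A B := inferInstance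
  constructor
  · intro hK
    have hdimA := ringKrullDim_lt_top_of_dualizing K hK
    have hdimB := ringKrullDim_lt_top_of_finiteType (R := A) (S := B) hdimA
    refine isDualizing_bcD_of_gorenstein_fibres K hK hdimB (fun r hr => ?_)
    haveI := hr
    haveI := hG ⟨r.comap (algebraMap A B), inferInstance⟩
    have hfibre : LocCoh.IsGorensteinRing ((r.comap (algebraMap A B)).Fiber B) :=
      Groth.Agent.Helper7.SegGor.gorenstein_of_ringEquiv
        (Algebra.TensorProduct.comm A B (r.comap (algebraMap A B)).ResidueField).toRingEquiv
    exact Groth.Agent.Helper3.GorComp.gorLocal_of_fibre (r.comap (algebraMap A B)) hfibre r rfl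
  · intro hK
    exact isDualizing_of_bcD_faithfullyFlat B K hK

/-- the same for flat local complete intersection maps -/
theorem isDualizing_iff_bcD_of_isLCI (hl : LCI.IsLCI A B) (K : Dual.D A) :
    Dual.IsDualizing A K ↔ Dual.IsDualizing B ((bcD A B).obj K) := by
  haveI : Module.Flat A B := inferInstance
  haveI : Algebra.FiniteType A B := hl.1
  refine isDualizing_iff_bcD_of_gorenstein_fibres A B (fun p => ?_) K
  haveI : LocCoh.IsGorensteinRing p.asIdeal.ResidueField :=
    Groth.Agent.Helper3.GorFib.gorenstein_of_field _
  exact Groth.Agent.Helper3.GorFib.gorenstein_tensor_of_flat_isLCI A B p.asIdeal.ResidueField hl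

end Groth.Agent.Helper6.GorFib
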