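import Mathlib
import Groth.Agent.Helper6.DSch7
import Groth.Agent.Helper6.GorFib4
import Groth.Agent.Helper6.LD8

/-!
# Ring-level lemmas: dualizing complexes along flat finite type maps
-/

set_option autoImplicit false
set_option linter.style.haveILetI false
set_option linter.unusedSectionVars false

universe u
open CategoryTheory CategoryTheory.Limits Pretriangulated DerivedCategory TensorProduct
attribute [local instance] HasDerivedCategory.standard

namespace Groth.Agent.Helper6.DSch
open Groth.Agent.Helper3.DRingLib Groth.Agent.Helper6.FlatBC Groth.Agent.Helper6.LocExt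
  Groth.Agent.Helper6.FBC Groth.Agent.Helper6.LD Groth.Agent.Helper6.GorFib IsLocalRing

section Fib
variable {A B : Type u} [CommRing A] [CommRing B] [Algebra A B]

/-- the fibre condition, transported from the form with `localRingHom` -/
lemma gorLocal_fibre_of_localRingHom (p : Ideal A) [p.IsPrime] (r : Ideal B) [r.IsPrime]
    (h : p = r.comap (algebraMap A B))
    (hG : LocCoh.IsGorensteinLocalRing (Localization.AtPrime r ⧸
      (maximalIdeal (Localization.AtPrime p)).map
        (Localization.localRingHom p r (algebraMap A B) h))) :
    LocCoh.IsGorensteinLocalRing (Localization.AtPrime r ⧸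
      ((r.comap (algebraMap A B)).map (algebraMap A B)).map
        (algebraMap B (Localization.AtPrime r))) := by
  subst h
  have hmax : (maximalIdeal (Localization.AtPrime (r.comap (algebraMap A B)))).map
      (Localization.localRingHom (r.comap (algebraMap A B)) r (algebraMap A B) rfl) =
      ((r.comap (algebraMap A B)).map (algebraMap A B)).map
        (algebraMap B (Localization.AtPrime r)) := by
    rw [← IsLocalization.AtPrime.map_eq_maximalIdeal (r.comap (algebraMap A B))
      (Localization.AtPrime (r.comap (algebraMap A B))), Ideal.map_map, Ideal.map_map]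
    congr 1
    ext x
    exact Localization.localRingHom_to_map (r.comap (algebraMap A B)) r (algebraMap A B) rfl x
  exact Groth.Agent.Helper7.SegGor.gorLocal_of_ringEquiv (Ideal.quotEquivOfEq hmax) hG

variable [IsNoetherianRing A] [IsNoetherianRing B] [Module.Flat A B]

/-- flat finite type maps with Gorenstein fibres preserve dualizing complexes -/
theorem isDualizing_bcD_of_finiteType_gorFib [Algebra.FiniteType A B] (ω : Dual.D A)
    (hω : Dual.IsDualizing A ω)
    (hfib : ∀ (r : Ideal B) [r.IsPrime], LocCoh.IsGorensteinLocalRing (Localization.AtPrime r ⧸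
      ((r.comap (algebraMap A B)).map (algebraMap A B)).map
        (algebraMap B (Localization.AtPrime r)))) :
    Dual.IsDualizing B ((bcD A B).obj ω) :=
  isDualizing_bcD_of_gorenstein_fibres ω hω
    (ringKrullDim_lt_top_of_finiteType (R := A) (S := B) (ringKrullDim_lt_top_of_dualizing ω hω))
    hfib

/-- flat local complete intersection maps preserve dualizing complexes -/
theorem isDualizing_bcD_of_isLCI (hl : LCI.IsLCI A B) (ω : Dual.D A)
    (hω : Dual.IsDualizing A ω) : Dual.IsDualizing B ((bcD A B).obj ω) := by
  haveI : Algebra.FiniteType A B := hl.1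
  refine isDualizing_bcD_of_finiteType_gorFib ω hω (fun r hr => ?_)
  haveI := hr
  haveI : LocCoh.IsGorensteinRing (r.comap (algebraMap A B)).ResidueField :=
    Groth.Agent.Helper3.GorFib.gorenstein_of_field _
  haveI := Groth.Agent.Helper3.GorFib.gorenstein_tensor_of_flat_isLCI A B
    (r.comap (algebraMap A B)).ResidueField hl
  have hfibre : LocCoh.IsGorensteinRing ((r.comap (algebraMap A B)).Fiber B) :=
    Groth.Agent.Helper7.SegGor.gorenstein_of_ringEquiv
      (Algebra.TensorProduct.comm A B (r.comap (algebraMap A B)).ResidueField).toRingEquiv
  exact Groth.Agent.Helper3.GorComp.gorLocal_of_fibre (r.comap (algebraMap A B)) hfibre r rfl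

/-- descent of dualizing complexes along a flat finite type map, near a point of the image -/
theorem exists_away_isDualizing_of_flat_finiteType [Algebra.FiniteType A B] (K : Dual.D A)
    (hK : Dual.IsDualizing B ((bcD A B).obj K)) (q : PrimeSpectrum B) :
    ∃ g : A, g ∉ q.asIdeal.comap (algebraMap A B) ∧
      Dual.IsDualizing (Localization.Away g) ((bcD A (Localization.Away g)).obj K) := by
  haveI : Algebra.FinitePresentation A B :=
    Algebra.FinitePresentation.of_finiteType.mp inferInstance
  have hopen := PrimeSpectrum.isOpenMap_comap_of_hasGoingDown_of_finitePresentation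
    (R := A) (S := B)
  have hO : IsOpen (Set.range (PrimeSpectrum.comap (algebraMap A B))) := hopen.isOpen_range
  have hp : PrimeSpectrum.comap (algebraMap A B) q ∈
      Set.range (PrimeSpectrum.comap (algebraMap A B)) := ⟨q, rfl⟩
  obtain ⟨_, ⟨_, ⟨g, rfl⟩, rfl⟩, hpg, hgO⟩ :=
    PrimeSpectrum.isBasis_basic_opens.exists_subset_of_mem_open hp hO
  refine ⟨g, hpg, ?_⟩
  -- the rings
  haveI st1 : IsScalarTower A B (Localization.Away (algebraMap A B g)) := inferInstance
  have hunit : IsUnit (algebraMap A (Localization.Away (algebraMap A B g)) g) := by
    rw [IsScalarTower.algebraMap_apply A B (Localization.Away (algebraMap A B g))]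
    exact IsLocalization.Away.algebraMap_isUnit (algebraMap A B g)
  letI algAgBg : Algebra (Localization.Away g) (Localization.Away (algebraMap A B g)) :=
    (IsLocalization.Away.lift g hunit).toAlgebra
  haveI st2 : IsScalarTower A (Localization.Away g) (Localization.Away (algebraMap A B g)) :=
    IsScalarTower.of_algebraMap_eq (fun x => (IsLocalization.Away.lift_eq g hunit x).symm)
  haveI : Module.Flat A (Localization.Away (algebraMap A B g)) :=
    Module.Flat.trans A B (Localization.Away (algebraMap A B g))
  haveI : Module.Flat (Localization.Away g) (Localization.Away (algebraMap A B g)) :=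
    (Module.flat_iff_of_isLocalization (Localization.Away g) (Submonoid.powers g)
      (Localization.Away (algebraMap A B g))).mpr inferInstance
  haveI : IsNoetherianRing (Localization.Away g) :=
    IsLocalization.isNoetherianRing (Submonoid.powers g) _ inferInstance
  haveI : IsNoetherianRing (Localization.Away (algebraMap A B g)) :=
    IsLocalization.isNoetherianRing (Submonoid.powers (algebraMap A B g)) _ inferInstance
  -- surjectivity on spectra
  haveI : Module.FaithfullyFlat (Localization.Away g) (Localization.Away (algebraMap A B g)) := by
    apply Module.FaithfullyFlat.of_comap_surjective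
    intro P
    have hP : PrimeSpectrum.comap (algebraMap A (Localization.Away g)) P ∈
        (PrimeSpectrum.basicOpen g : Set (PrimeSpectrum A)) := by
      rw [← PrimeSpectrum.localization_away_comap_range (Localization.Away g) g]
      exact ⟨P, rfl⟩
    obtain ⟨q', hq'⟩ := hgO hP
    have hq'g : q' ∈ (PrimeSpectrum.basicOpen (algebraMap A B g) : Set (PrimeSpectrum B)) := by
      show algebraMap A B g ∉ q'.asIdeal
      intro hmem
      have h1 : g ∈ (PrimeSpectrum.comap (algebraMap A B) q').asIdeal := hmem
      rw [hq'] at h1
      exact hP h1
    rw [← PrimeSpectrum.localization_away_comap_range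
      (Localization.Away (algebraMap A B g)) (algebraMap A B g)] at hq'g
    obtain ⟨Q, hQ⟩ := hq'g
    refine ⟨Q, ?_⟩
    apply PrimeSpectrum.localization_comap_injective (Localization.Away g) (Submonoid.powers g)
    rw [← hq', ← hQ]
    ext x
    simp only [PrimeSpectrum.comap_asIdeal, Ideal.mem_comap]
    rw [← IsScalarTower.algebraMap_apply A (Localization.Away g)
      (Localization.Away (algebraMap A B g)),
      IsScalarTower.algebraMap_apply A B (Localization.Away (algebraMap A B g))]
  have hK' := isDualizing_bcD (Submonoid.powers (algebraMap A B g))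
    (Localization.Away (algebraMap A B g)) _ hK
  have e1 := bcDTrans A B (Localization.Away (algebraMap A B g)) K
  have e2 := bcDTrans A (Localization.Away g) (Localization.Away (algebraMap A B g)) K
  exact isDualizing_of_bcD_faithfullyFlat (Localization.Away (algebraMap A B g)) _
    (isDualizing_of_iso (e1.symm ≪≫ e2) hK')

end Fib

end Groth.Agent.Helper6.DSch
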