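import Mathlib
import Groth.Prelude.Def_DualSch
import Groth.Prelude.Def_FlatMod2
import Groth.Agent.Helper4.SuppLib
import Groth.Agent.Helper4.AssSpec
import Groth.Agent.Lead.CMCl
import Groth.Agent.Helper6.DSch1

/-!
# Dualizing complexes on schemes: affine-local translation of stalk conditions
-/

set_option autoImplicit false
set_option linter.style.haveILetI false
set_option linter.unusedSectionVars false
set_option backward.isDefEq.respectTransparency false

universe u
open CategoryTheory CategoryTheory.Limits AlgebraicGeometry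
attribute [local instance] HasDerivedCategory.standard

namespace Groth.Agent.Helper6.DSch

section iso
variable {X : Scheme.{u}}

/-- isomorphic modules have simultaneously trivial stalks -/
lemma subsingleton_stalk_iff_of_iso {F G : X.Modules} (e : F ≅ G) (x : X) :
    Subsingleton (F.presheaf.stalk x) ↔ Subsingleton (G.presheaf.stalk x) := by
  have e' := (Scheme.Modules.toPresheaf X ⋙ TopCat.Presheaf.stalkFunctor Ab.{u} x).mapIso e
  constructor
  · intro h
    have h1 : IsZero ((Scheme.Modules.toPresheaf X ⋙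
        TopCat.Presheaf.stalkFunctor Ab.{u} x).obj F) :=
      @AddCommGrpCat.isZero_of_subsingleton _ h
    exact AddCommGrpCat.subsingleton_of_isZero (h1.of_iso e'.symm)
  · intro h
    have h1 : IsZero ((Scheme.Modules.toPresheaf X ⋙
        TopCat.Presheaf.stalkFunctor Ab.{u} x).obj G) :=
      @AddCommGrpCat.isZero_of_subsingleton _ h
    exact AddCommGrpCat.subsingleton_of_isZero (h1.of_iso e')

end iso

section tilde
variable (R : CommRingCat.{u})

/-- the stalk of `M~` at `p` is trivial iff `p ∉ Supp M` -/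
lemma subsingleton_stalk_tilde_iff (M : ModuleCat.{u} R) (p : PrimeSpectrum.Top R) :
    Subsingleton ((tilde M).presheaf.stalk p) ↔ p ∉ Module.support R M := by
  rw [Module.notMem_support_iff]
  exact (IsLocalizedModule.iso p.asIdeal.primeCompl
    (tilde.toStalk M p).hom).toEquiv.subsingleton_congr.symm

/-- the local ring of `Spec R` at `p` is `R_p` -/
lemma nonempty_stalk_equiv (p : PrimeSpectrum.Top R) :
    Nonempty ((Spec R).presheaf.stalk p ≃+* Localization.AtPrime p.asIdeal) := by
  letI := Groth.Agent.Helper4.AssSpec.algStalk R p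
  haveI := Groth.Agent.Helper4.AssSpec.isLocStalk R p
  exact ⟨(IsLocalization.algEquiv p.asIdeal.primeCompl
    ((Spec R).presheaf.stalk p) (Localization.AtPrime p.asIdeal)).toRingEquiv⟩

end tilde

section glue
variable {X : Scheme.{u}}
  [∀ (U : Scheme.{u}) (j : U ⟶ X) [IsOpenImmersion j],
    PreservesFiniteLimits (Scheme.Modules.restrictFunctor j)]
  [∀ (R : CommRingCat.{u}), PreservesFiniteLimits (tilde.functor R)]
  (K : DCoh.D X) (R : CommRingCat.{u}) (j : Spec (CommRingCat.of R) ⟶ X) [IsOpenImmersion j]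
  (ω : DerivedCategory (ModuleCat.{u} R))
  (e : (DCoh.restrictD j).obj K ≅ (DCoh.tildeD R).obj ω)

include e in
/-- the stalk of `H^i(K)` at `j p` is nonzero iff `p ∈ Supp H^i(ω)` -/
theorem nontrivial_stalk_HD_iff (p : PrimeSpectrum.Top R) (i : ℤ) :
    Nontrivial ((DCoh.HD K i).presheaf.stalk (j (show ↥(Spec (CommRingCat.of R)) from p))) ↔
      p ∈ Module.support R ((DerivedCategory.homologyFunctor (ModuleCat.{u} R) i).obj ω) := by
  have h1 := Groth.Agent.Helper4.SuppLib.support_HD_restrictD j K i
  have h2 : (j (show ↥(Spec (CommRingCat.of R)) from p) ∈ CohB1.support (DCoh.HD K i)) ↔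
      (show ↥(Spec (CommRingCat.of R)) from p) ∈
        CohB1.support (DCoh.HD ((DCoh.restrictD j).obj K) i) := by
    rw [h1]
    rfl
  have e1 : DCoh.HD ((DCoh.restrictD j).obj K) i ≅ (tilde.functor R).obj
      ((DerivedCategory.homologyFunctor (ModuleCat.{u} R) i).obj ω) :=
    (DerivedCategory.homologyFunctor _ i).mapIso e ≪≫
      (Groth.Agent.Lead.PcLib.mapDerivedCategoryHomologyIso (tilde.functor R) i).app ω
  rw [← not_subsingleton_iff_nontrivial]
  show j (show ↥(Spec (CommRingCat.of R)) from p) ∈ CohB1.support (DCoh.HD K i) ↔ _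
  rw [h2]
  show ¬ Subsingleton _ ↔ _
  rw [subsingleton_stalk_iff_of_iso e1 p]
  show ¬ Subsingleton ((tilde ((DerivedCategory.homologyFunctor (ModuleCat.{u} R) i).obj ω)).presheaf.stalk p) ↔ _
  rw [subsingleton_stalk_tilde_iff, not_not]

/-- the local ring of `X` at `j p` is `R_p` -/
theorem nonempty_stalk_equiv_of_openImmersion (p : PrimeSpectrum.Top R) :
    Nonempty (X.presheaf.stalk (j (show ↥(Spec (CommRingCat.of R)) from p)) ≃+*
      Localization.AtPrime p.asIdeal) := by
  obtain ⟨e2⟩ := nonempty_stalk_equiv R p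
  exact ⟨(asIso (j.stalkMap (show ↥(Spec (CommRingCat.of R)) from p))).commRingCatIsoToRingEquiv.trans
    e2⟩

theorem cm_stalk_iff (p : PrimeSpectrum.Top R) :
    LocCoh.IsCohenMacaulayLocalRing
        (X.presheaf.stalk (j (show ↥(Spec (CommRingCat.of R)) from p))) ↔
      LocCoh.IsCohenMacaulayLocalRing (Localization.AtPrime p.asIdeal) := by
  obtain ⟨e2⟩ := nonempty_stalk_equiv_of_openImmersion R j p
  exact ⟨fun h => Groth.Agent.Lead.CMCl.cm_of_ringEquiv e2 (h := h),
    fun h => Groth.Agent.Lead.CMCl.cm_of_ringEquiv e2.symm (h := h)⟩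

end glue

end Groth.Agent.Helper6.DSch
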