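import Mathlib
import Groth.Agent.Helper6.DSch2

/-!
# Cohen–Macaulay locus of a locally Noetherian scheme with a dualizing complex
-/

set_option autoImplicit false
set_option linter.style.haveILetI false
set_option linter.unusedSectionVars false
set_option backward.isDefEq.respectTransparency false

universe u
open CategoryTheory CategoryTheory.Limits AlgebraicGeometry
attribute [local instance] HasDerivedCategory.standard

namespace Groth.Agent.Helper6.DSch

section chart
variable (X : Scheme.{u})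

/-- every point lies in an affine chart -/
lemma exists_chart (x : X) : ∃ (A : Type u) (_ : CommRing A) (j : Spec (CommRingCat.of A) ⟶ X)
    (_ : IsOpenImmersion j) (p : PrimeSpectrum.Top A),
    j (show ↥(Spec (CommRingCat.of A)) from p) = x := by
  obtain ⟨_, ⟨U₀, hU0, rfl⟩, hxU, -⟩ :=
    X.isBasis_affineOpens.exists_subset_of_mem_open (Set.mem_univ x) isOpen_univ
  obtain ⟨U, hUU⟩ : ∃ U : X.Opens, U = U₀ := ⟨U₀, rfl⟩
  subst hUU
  have hU : IsAffineOpen U := hU0
  obtain ⟨p, hp⟩ : x ∈ Set.range hU.fromSpec := by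
    rw [hU.range_fromSpec]
    exact hxU
  exact ⟨Γ(X, U), inferInstance, hU.fromSpec, inferInstance, p, hp⟩

end chart

section main
variable (X : Scheme.{u})
  [∀ (U : Scheme.{u}) (j : U ⟶ X) [IsOpenImmersion j],
    PreservesFiniteLimits (Scheme.Modules.restrictFunctor j)]
  [∀ (R : CommRingCat.{u}), PreservesFiniteLimits (tilde.functor R)]
  (K : DCoh.D X) (hK : Dual2.IsDualizingSch X K)

include hK

/-- some cohomology sheaf of a dualizing complex has a nonzero stalk at `x` -/
theorem exists_nontrivial_stalk (x : X) :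
    ∃ i : ℤ, Nontrivial ((DCoh.HD K i).presheaf.stalk x) := by
  obtain ⟨A, _, j, _, p, rfl⟩ := exists_chart X x
  obtain ⟨ω, hω, ⟨e⟩⟩ := hK A j
  haveI := hω.isNoetherianRing
  obtain ⟨i, hi⟩ := exists_mem_support_HD ω hω p
  exact ⟨i, (nontrivial_stalk_HD_iff K (CommRingCat.of A) j ω e p i).2 hi⟩

/-- `O_{X,x}` is Cohen–Macaulay iff exactly one cohomology sheaf of the dualizing complex has a
nonzero stalk at `x` -/
theorem cm_iff (x : X) : LocCoh.IsCohenMacaulayLocalRing (X.presheaf.stalk x) ↔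
    ∃! i : ℤ, Nontrivial ((DCoh.HD K i).presheaf.stalk x) := by
  obtain ⟨A, _, j, _, p, rfl⟩ := exists_chart X x
  obtain ⟨ω, hω, ⟨e⟩⟩ := hK A j
  haveI := hω.isNoetherianRing
  rw [cm_stalk_iff (CommRingCat.of A) j p, cm_atPrime_iff ω hω p]
  exact existsUnique_congr
    (fun i => (nontrivial_stalk_HD_iff K (CommRingCat.of A) j ω e p i).symm)

/-- the Cohen–Macaulay locus is open -/
theorem isOpen_cm : IsOpen {x : X | LocCoh.IsCohenMacaulayLocalRing (X.presheaf.stalk x)} := by
  rw [isOpen_iff_forall_mem_open]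
  intro x hx
  obtain ⟨A, _, j, _, p, rfl⟩ := exists_chart X x
  obtain ⟨ω, hω, ⟨e⟩⟩ := hK A j
  haveI := hω.isNoetherianRing
  refine ⟨⇑j '' (show Set ↥(Spec (CommRingCat.of A)) from
    {q : PrimeSpectrum A | LocCoh.IsCohenMacaulayLocalRing (Localization.AtPrime q.asIdeal)}),
    ?_, ?_, ?_⟩
  · rintro _ ⟨q, hq, rfl⟩
    exact (cm_stalk_iff (CommRingCat.of A) j q).2 hq
  · exact j.isOpenEmbedding.isOpenMap _ (isOpen_cm_locus ω hω)
  · exact ⟨p, (cm_stalk_iff (CommRingCat.of A) j p).1 hx, rfl⟩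

end main

section sheaf
variable (X : Scheme.{u})
  [∀ (U : Scheme.{u}) (j : U ⟶ X) [IsOpenImmersion j],
    PreservesFiniteLimits (Scheme.Modules.restrictFunctor j)]
  [∀ (R : CommRingCat.{u}), PreservesFiniteLimits (tilde.functor R)]

/-- a scheme with a dualizing module (a dualizing complex concentrated in one degree) is
Cohen–Macaulay -/
theorem cm_of_dualizing_module (ω : X.Modules) (hD : Dual2.IsDualizingSch X (DCoh.inD X ω))
    (x : X) : LocCoh.IsCohenMacaulayLocalRing (X.presheaf.stalk x) := by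
  rw [cm_iff X (DCoh.inD X ω) hD x]
  obtain ⟨i, hi⟩ := exists_nontrivial_stalk X (DCoh.inD X ω) hD x
  have h0 : ∀ k : ℤ, Nontrivial ((DCoh.HD (DCoh.inD X ω) k).presheaf.stalk x) → k = 0 := by
    intro k hk
    by_contra hk0
    have hz : IsZero (DCoh.HD (DCoh.inD X ω) k) := by
      rcases lt_or_gt_of_ne hk0 with h | h
      · exact DerivedCategory.isZero_of_isGE _ 0 k h
      · exact DerivedCategory.isZero_of_isLE _ 0 k h
    haveI := Groth.Agent.Helper4.SuppLib.subsingleton_stalk_of_isZero _ hz x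
    exact not_nontrivial _ hk
  exact ⟨i, hi, fun k hk => by rw [h0 k hk, h0 i hi]⟩

end sheaf

end Groth.Agent.Helper6.DSch
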