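import Mathlib
import Groth.Agent.Helper6.DSch3
import Groth.Agent.Helper6.GorLoc1
import Groth.Agent.Helper7.SegGorD

/-!
# Gorenstein locus of a locally Noetherian scheme with a dualizing complex
-/

set_option autoImplicit false
set_option linter.style.haveILetI false
set_option linter.unusedSectionVars false
set_option backward.isDefEq.respectTransparency false

universe u
open CategoryTheory CategoryTheory.Limits AlgebraicGeometry
attribute [local instance] HasDerivedCategory.standard

namespace Groth.Agent.Helper6.DSch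

section glue
variable {X : Scheme.{u}} (R : CommRingCat.{u}) (j : Spec (CommRingCat.of R) ⟶ X)
  [IsOpenImmersion j]

theorem gor_stalk_iff (p : PrimeSpectrum.Top R) :
    LocCoh.IsGorensteinLocalRing
        (X.presheaf.stalk (j (show ↥(Spec (CommRingCat.of R)) from p))) ↔
      LocCoh.IsGorensteinLocalRing (Localization.AtPrime p.asIdeal) := by
  obtain ⟨e2⟩ := nonempty_stalk_equiv_of_openImmersion R j p
  exact ⟨fun h => Groth.Agent.Helper7.SegGor.gorLocal_of_ringEquiv e2 h,
    fun h => Groth.Agent.Helper7.SegGor.gorLocal_of_ringEquiv e2.symm h⟩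

end glue

section main
variable (X : Scheme.{u})
  [∀ (U : Scheme.{u}) (j : U ⟶ X) [IsOpenImmersion j],
    PreservesFiniteLimits (Scheme.Modules.restrictFunctor j)]
  [∀ (R : CommRingCat.{u}), PreservesFiniteLimits (tilde.functor R)]
  (K : DCoh.D X) (hK : Dual2.IsDualizingSch X K)

include hK

/-- the Gorenstein locus is open -/
theorem isOpen_gor : IsOpen {x : X | LocCoh.IsGorensteinLocalRing (X.presheaf.stalk x)} := by
  rw [isOpen_iff_forall_mem_open]
  intro x hx
  obtain ⟨A, _, j, _, p, rfl⟩ := exists_chart X x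
  obtain ⟨ω, hω, ⟨e⟩⟩ := hK A j
  haveI := hω.isNoetherianRing
  refine ⟨⇑j '' (show Set ↥(Spec (CommRingCat.of A)) from
    {q : PrimeSpectrum A | LocCoh.IsGorensteinLocalRing (Localization.AtPrime q.asIdeal)}),
    ?_, ?_, ?_⟩
  · rintro _ ⟨q, hq, rfl⟩
    exact (gor_stalk_iff (CommRingCat.of A) j q).2 hq
  · exact j.isOpenEmbedding.isOpenMap _
      (Groth.Agent.Helper6.GorLoc.gorenstein_locus_open ω hω)
  · exact ⟨p, (gor_stalk_iff (CommRingCat.of A) j p).1 hx, rfl⟩

end main

end Groth.Agent.Helper6.DSch
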