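import Mathlib
import Groth.Prelude.Def_DRing4
import Groth.Prelude.Def_CAlg
import Groth.Agent.Helper6.QG5
import Groth.Agent.Helper6.QG4
import Groth.Agent.Helper6.SkQuot
import Groth.Agent.Helper8.TFAss
import Groth.Agent.Helper1.CoreF

/-!
# The lowest cohomology module of a dualizing complex over a local ring is `(S_2)`
-/

set_option autoImplicit false
set_option linter.style.haveILetI false
set_option linter.unusedSectionVars false

universe u
open CategoryTheory CategoryTheory.Limits Pretriangulated DerivedCategory TensorProduct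
attribute [local instance] HasDerivedCategory.standard

namespace Groth.Agent.Helper6.DSch
open Groth.Agent.Helper6.LD Groth.Agent.Helper6.QG IsLocalRing

lemma hasSk_of_subsingleton (k : ℕ) (R : Type u) [CommRing R] (M : Type u) [AddCommGroup M]
    [Module R M] [Subsingleton M] : LocCoh.HasSk k R M := by
  intro p _
  haveI : Subsingleton (LocalizedModule p.primeCompl M) := by
    refine ⟨fun a b => ?_⟩
    induction a using LocalizedModule.induction_on with
    | h m s =>
      induction b using LocalizedModule.induction_on with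
      | h m' s' =>
        rw [Subsingleton.elim m 0, Subsingleton.elim m' 0, LocalizedModule.zero_mk,
          LocalizedModule.zero_mk]
  rw [Module.supportDim_eq_bot_of_subsingleton, min_bot_right]
  exact bot_le

lemma hasSk_mono {k l : ℕ} (h : k ≤ l) (R : Type u) [CommRing R] (M : Type u) [AddCommGroup M]
    [Module R M] (hS : LocCoh.HasSk l R M) : LocCoh.HasSk k R M := fun p _ =>
  le_trans (min_le_min_right _ (by exact_mod_cast h)) (hS p)

variable {B : Type u} [CommRing B] [IsNoetherianRing B] [IsLocalRing B]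

/-- the lowest nonvanishing degree of a dualizing complex over a local ring -/
theorem lowest_HD (ω : Dual.D B) (hω : Dual.IsDualizing B ω) (n : ℤ)
    (hlt : ∀ i : ℤ, i < n → Subsingleton (Dual.HD B ω i)) (hn : Nontrivial (Dual.HD B ω n)) :
    ∃ (n₀ : ℤ) (d : ℕ), Dual.IsDualizing B (ω⟦n₀⟧) ∧ Dual.IsNormalized B (ω⟦n₀⟧) ∧
      ringKrullDim B = d ∧ n₀ + (-(d : ℤ)) = n := by
  obtain ⟨n₀, hω', hnz⟩ := exists_normalizing_shift ω hω
  obtain ⟨d, hd⟩ := Groth.Agent.Helper1.Core.exists_nat_ringKrullDim B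
  refine ⟨n₀, d, hω', hnz, hd, ?_⟩
  have hsd : Module.supportDim B B = d := by rw [Module.supportDim_self_eq_ringKrullDim, hd]
  have h1 : Nontrivial (Dual.HD B (ω⟦n₀⟧) (-(d : ℤ))) := by
    haveI := nontrivial_ext_neg_supportDim (ω⟦n₀⟧) hω' hnz B d hsd
    obtain ⟨ψ⟩ := HD_equiv_hom_self (ω⟦n₀⟧) hω' (-(d : ℤ))
    exact ψ.toEquiv.nontrivial
  have h2 : ∀ i : ℤ, i < -(d : ℤ) → Subsingleton (Dual.HD B (ω⟦n₀⟧) i) := by
    intro i hi
    haveI := ext_vanish_neg (ω⟦n₀⟧) hω' hnz B d hsd.le i hi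
    obtain ⟨ψ⟩ := HD_equiv_hom_self (ω⟦n₀⟧) hω' i
    exact ψ.toEquiv.subsingleton
  by_contra hne
  rcases lt_or_gt_of_ne hne with h | h
  · haveI := hlt (n₀ + -(d : ℤ)) h
    have h3 : Subsingleton (Dual.HD B (ω⟦n₀⟧) (-(d : ℤ))) :=
      (HDShiftEquiv ω n₀ (-(d : ℤ)) (n₀ + -(d : ℤ)) rfl).toEquiv.subsingleton
    exact not_subsingleton _ h3
  · haveI := h2 (n - n₀) (by omega)
    have h3 : Subsingleton (Dual.HD B ω n) :=
      (HDShiftEquiv ω n₀ (n - n₀) n (by omega)).symm.toEquiv.subsingleton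
    exact not_subsingleton _ h3

/-- the lowest cohomology module of a dualizing complex over a local ring satisfies `(S_2)` -/
theorem hasS2_lowest (ω : Dual.D B) (hω : Dual.IsDualizing B ω) (n : ℤ)
    (hlt : ∀ i : ℤ, i < n → Subsingleton (Dual.HD B ω i)) (hn : Nontrivial (Dual.HD B ω n)) :
    LocCoh.HasSk 2 B (Dual.HD B ω n) := by
  obtain ⟨n₀, d, hω', hnz, hd, hnd⟩ := lowest_HD ω hω n hlt hn
  exact Groth.Agent.Helper6.SkQuot.hasSk_of_equiv 2 (HDShiftEquiv ω n₀ (-(d : ℤ)) n hnd)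
    (hasS2_canonical (ω⟦n₀⟧) hω' hnz d hd)

/-- over a local domain, the lowest cohomology module of a dualizing complex is torsion-free -/
theorem torsionFree_lowest [IsDomain B] (ω : Dual.D B) (hω : Dual.IsDualizing B ω) (n : ℤ)
    (hlt : ∀ i : ℤ, i < n → Subsingleton (Dual.HD B ω i)) (hn : Nontrivial (Dual.HD B ω n)) :
    Module.IsTorsionFree B (Dual.HD B ω n) := by
  obtain ⟨n₀, d, hω', hnz, hd, hnd⟩ := lowest_HD ω hω n hlt hn
  haveI : Module.Finite B (Dual.HD B ω n) := hω.finite_cohomology n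
  apply Groth.Agent.Helper8.TFAss.tf_of_hasSk B _ ?_
    (hasSk_mono (by norm_num : 1 ≤ 2) B _ (hasS2_lowest ω hω n hlt hn))
  have hs := support_canonical (ω⟦n₀⟧) hω' hnz d hd
  have h1 : (⟨⊥, Ideal.isPrime_bot⟩ : PrimeSpectrum B) ∈
      Module.support B (Dual.HD B (ω⟦n₀⟧) (-(d : ℤ))) := by
    rw [hs]
    refine ⟨⊥, ?_, le_refl _, ?_⟩
    · rw [IsDomain.minimalPrimes_eq_singleton_bot]
      rfl
    · rw [← hd]
      exact (RingEquiv.quotientBot B).ringKrullDim
  rw [← (HDShiftEquiv ω n₀ (-(d : ℤ)) n hnd).support_eq]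
  exact h1

end Groth.Agent.Helper6.DSch
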