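import Mathlib
import Groth.Agent.Helper6.DSch3
import Groth.Agent.Helper6.DSch5
import Groth.Agent.Helper4.QcohGlue
import Groth.Agent.Helper4.SecDict
import Groth.Agent.Helper4.StalkDict
import Groth.Agent.Helper3.DRingBC3
import Groth.Agent.Helper6.LocExt4

/-!
# Stalks of the cohomology sheaves of a dualizing complex on a scheme
-/

set_option autoImplicit false
set_option linter.style.haveILetI false
set_option linter.unusedSectionVars false
set_option backward.isDefEq.respectTransparency false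

universe u
open CategoryTheory CategoryTheory.Limits AlgebraicGeometry TensorProduct
attribute [local instance] HasDerivedCategory.standard

namespace Groth.Agent.Helper6.DSch
open Groth.Agent.Helper3.DRingLib

section chartiso
variable {X : Scheme.{u}}
  [∀ (U : Scheme.{u}) (j : U ⟶ X) [IsOpenImmersion j],
    PreservesFiniteLimits (Scheme.Modules.restrictFunctor j)]
  [∀ (R : CommRingCat.{u}), PreservesFiniteLimits (tilde.functor R)]
  (K : DCoh.D X) (R : CommRingCat.{u}) (j : Spec (CommRingCat.of R) ⟶ X) [IsOpenImmersion j]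
  (ω : DerivedCategory (ModuleCat.{u} R)) (e : (DCoh.restrictD j).obj K ≅ (DCoh.tildeD R).obj ω)

/-- on a chart, the restriction of `H^i(K)` is the tilde of `H^i(ω)` -/
noncomputable def restrictHDIso (i : ℤ) :
    (DCoh.HD K i).restrict j ≅ (tilde.functor R).obj
      ((DerivedCategory.homologyFunctor (ModuleCat.{u} R) i).obj ω) :=
  (Groth.Agent.Helper4.SuppLib.HDRestrictIso j K i).symm ≪≫
    (DerivedCategory.homologyFunctor _ i).mapIso e ≪≫
      (Groth.Agent.Lead.PcLib.mapDerivedCategoryHomologyIso (tilde.functor R) i).app ω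

end chartiso

section main
variable (X : Scheme.{u})
  [∀ (U : Scheme.{u}) (j : U ⟶ X) [IsOpenImmersion j],
    PreservesFiniteLimits (Scheme.Modules.restrictFunctor j)]
  [∀ (R : CommRingCat.{u}), PreservesFiniteLimits (tilde.functor R)]
  (K : DCoh.D X) (hK : Dual2.IsDualizingSch X K)

include hK in
/-- the cohomology sheaves of a dualizing complex are quasi-coherent -/
theorem isQuasicoherent_HD (i : ℤ) : (DCoh.HD K i).IsQuasicoherent := by
  apply Groth.Agent.Helper4.QcohGlue.isQuasicoherent_of_affine_cover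
  intro x
  obtain ⟨_, ⟨U₀, hU0, rfl⟩, hxU, -⟩ :=
    X.isBasis_affineOpens.exists_subset_of_mem_open (Set.mem_univ x) isOpen_univ
  obtain ⟨U, hUU⟩ : ∃ U : X.Opens, U = U₀ := ⟨U₀, rfl⟩
  subst hUU
  have hU : IsAffineOpen U := hU0
  refine ⟨U, hU, hxU, ?_⟩
  obtain ⟨ω, hω, ⟨e⟩⟩ := hK Γ(X, U) hU.fromSpec
  exact (SheafOfModules.isQuasicoherent (Spec (CommRingCat.of Γ(X, U))).ringCatSheaf).prop_of_iso
    (restrictHDIso K Γ(X, U) hU.fromSpec ω e i).symm
    (by
      show ((tilde.functor Γ(X, U)).obj _).IsQuasicoherent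
      infer_instance)

/-- sections of `H^i(K)` over a chart -/
theorem nonempty_sections_equiv {U : X.Opens} (hU : IsAffineOpen U) (ω : Dual.D Γ(X, U))
    (e : (DCoh.restrictD hU.fromSpec).obj K ≅ (DCoh.tildeD Γ(X, U)).obj ω) (i : ℤ) :
    Nonempty (Γ(DCoh.HD K i, U) ≃ₗ[Γ(X, U)] Dual.HD Γ(X, U) ω i) := by
  let e1 := Groth.Agent.Helper4.SecDict.sectionsEquiv hU (DCoh.HD K i)
  let e2 := ((moduleSpecΓFunctor (R := Γ(X, U))).mapIso
    (restrictHDIso K Γ(X, U) hU.fromSpec ω e i)).toLinearEquiv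
  let e3 := ((tilde.toTildeΓNatIso (R := Γ(X, U))).app
    ((DerivedCategory.homologyFunctor (ModuleCat.{u} Γ(X, U)) i).obj ω)).toLinearEquiv
  exact ⟨e1 ≪≫ₗ e2 ≪≫ₗ e3.symm⟩

include hK in
/-- the local ring at `x` carries a dualizing complex whose cohomology modules are the stalks of
the cohomology sheaves of `K` -/
theorem exists_stalk_dualizing (x : X) :
    ∃ (ωB : Dual.D (X.presheaf.stalk x)), Dual.IsDualizing (X.presheaf.stalk x) ωB ∧
      ∀ i : ℤ, Nonempty ((DCoh.HD K i).presheaf.stalk x ≃ₗ[X.presheaf.stalk x]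
        Dual.HD (X.presheaf.stalk x) ωB i) := by
  obtain ⟨_, ⟨U₀, hU0, rfl⟩, hxU, -⟩ :=
    X.isBasis_affineOpens.exists_subset_of_mem_open (Set.mem_univ x) isOpen_univ
  obtain ⟨U, hUU⟩ : ∃ U : X.Opens, U = U₀ := ⟨U₀, rfl⟩
  subst hUU
  have hU : IsAffineOpen U := hU0
  obtain ⟨ω, hω, ⟨e⟩⟩ := hK Γ(X, U) hU.fromSpec
  haveI := hω.isNoetherianRing
  letI : Algebra Γ(X, U) (X.presheaf.stalk x) := X.presheaf.algebra_section_stalk ⟨x, hxU⟩
  haveI hloc : IsLocalization.AtPrime (X.presheaf.stalk x) (hU.primeIdealOf ⟨x, hxU⟩).asIdeal :=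
    hU.isLocalization_stalk ⟨x, hxU⟩
  haveI : Module.Flat Γ(X, U) (X.presheaf.stalk x) :=
    IsLocalization.flat _ (hU.primeIdealOf ⟨x, hxU⟩).asIdeal.primeCompl
  refine ⟨(bcD Γ(X, U) (X.presheaf.stalk x)).obj ω,
    Groth.Agent.Helper6.LocExt.isDualizing_bcD (hU.primeIdealOf ⟨x, hxU⟩).asIdeal.primeCompl
      (X.presheaf.stalk x) ω hω, fun i => ?_⟩
  haveI := isQuasicoherent_HD X K hK i
  letI := Groth.Agent.Helper4.StalkDict.sectionModStalk (DCoh.HD K i) x hxU
  haveI hlm := Groth.Agent.Helper4.StalkDict.isLocalizedModule_germ hU (DCoh.HD K i) x hxU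
  haveI : IsScalarTower Γ(X, U) (X.presheaf.stalk x) ((DCoh.HD K i).presheaf.stalk x) :=
    IsScalarTower.of_algebraMap_smul (fun a m => rfl)
  have hbc := IsLocalizedModule.isBaseChange (hU.primeIdealOf ⟨x, hxU⟩).asIdeal.primeCompl
    (X.presheaf.stalk x) (Groth.Agent.Helper4.StalkDict.germLin (DCoh.HD K i) x hxU)
  obtain ⟨e1⟩ := nonempty_sections_equiv X K hU ω e i
  obtain ⟨e2⟩ := nonempty_HD_bcD_equiv (X.presheaf.stalk x) ω i
  exact ⟨hbc.equiv.symm ≪≫ₗ
    (TensorProduct.AlgebraTensorModule.congr (LinearEquiv.refl _ _) e1) ≪≫ₗ e2.symm⟩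

include hK in
/-- the lowest cohomology sheaf of a dualizing complex is `(S_2)` and torsion-free -/
theorem hasS2_and_torsionFree (n : ℤ) (hlt : ∀ i : ℤ, i < n → IsZero (DCoh.HD K i)) :
    (∀ x : X, LocCoh.HasSk 2 (X.presheaf.stalk x) ((DCoh.HD K n).presheaf.stalk x)) ∧
      (IsIntegral X → ∀ x : X,
        Module.IsTorsionFree (X.presheaf.stalk x) ((DCoh.HD K n).presheaf.stalk x)) := by
  have key : ∀ x : X, ∃ (ωB : Dual.D (X.presheaf.stalk x)),
      Dual.IsDualizing (X.presheaf.stalk x) ωB ∧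
      (∀ i : ℤ, i < n → Subsingleton (Dual.HD (X.presheaf.stalk x) ωB i)) ∧
      Nonempty ((DCoh.HD K n).presheaf.stalk x ≃ₗ[X.presheaf.stalk x]
        Dual.HD (X.presheaf.stalk x) ωB n) := by
    intro x
    obtain ⟨ωB, hωB, heq⟩ := exists_stalk_dualizing X K hK x
    refine ⟨ωB, hωB, fun i hi => ?_, heq n⟩
    obtain ⟨ψ⟩ := heq i
    haveI := Groth.Agent.Helper4.SuppLib.subsingleton_stalk_of_isZero _ (hlt i hi) x
    exact ψ.symm.toEquiv.subsingleton
  refine ⟨fun x => ?_, fun hint x => ?_⟩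
  · obtain ⟨ωB, hωB, hltB, ⟨ψ⟩⟩ := key x
    haveI := hωB.isNoetherianRing
    by_cases hs : Subsingleton ((DCoh.HD K n).presheaf.stalk x)
    · exact hasSk_of_subsingleton 2 _ _
    · haveI : Nontrivial ((DCoh.HD K n).presheaf.stalk x) := not_subsingleton_iff_nontrivial.1 hs
      haveI hnt : Nontrivial (Dual.HD (X.presheaf.stalk x) ωB n) := ψ.symm.toEquiv.nontrivial
      exact Groth.Agent.Helper6.SkQuot.hasSk_of_equiv 2 ψ.symm (hasS2_lowest ωB hωB n hltB hnt)
  · haveI := hint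
    obtain ⟨ωB, hωB, hltB, ⟨ψ⟩⟩ := key x
    haveI := hωB.isNoetherianRing
    rw [Module.isTorsionFree_iff_smul_eq_zero]
    intro r m hrm
    by_cases hs : Subsingleton ((DCoh.HD K n).presheaf.stalk x)
    · exact Or.inr (Subsingleton.elim _ _)
    · haveI : Nontrivial ((DCoh.HD K n).presheaf.stalk x) := not_subsingleton_iff_nontrivial.1 hs
      haveI hnt : Nontrivial (Dual.HD (X.presheaf.stalk x) ωB n) := ψ.symm.toEquiv.nontrivial
      have htf := torsionFree_lowest ωB hωB n hltB hnt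
      rw [Module.isTorsionFree_iff_smul_eq_zero] at htf
      have h1 : r • ψ m = 0 := by rw [← map_smul, hrm, map_zero]
      rcases htf r (ψ m) h1 with h | h
      · exact Or.inl h
      · exact Or.inr (ψ.injective (by rw [h, map_zero]))

end main

end Groth.Agent.Helper6.DSch
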