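import Mathlib
import Groth.Prelude.Def_CxOX
import Groth.Prelude.Def_Dual3
import Groth.Agent.Helper6.DSch4
import Groth.Agent.Helper6.DSch6
import Groth.Agent.Helper6.DSch7
import Groth.Agent.Helper6.HasLBC
import Groth.Agent.Helper9.FBC4
import Groth.Agent.Helper9.FP4
import Groth.Agent.Helper9.QP7
import Groth.Agent.Helper9.LCTil2

/-!
# Dualizing complexes on schemes: gluing along charts
-/

set_option autoImplicit false
set_option linter.style.haveILetI false
set_option linter.unusedSectionVars false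
set_option backward.isDefEq.respectTransparency false

universe u
open CategoryTheory CategoryTheory.Limits AlgebraicGeometry TensorProduct
attribute [local instance] HasDerivedCategory.standard

namespace Groth.Agent.Helper6.DSch
open Groth.Agent.Helper3.DRingLib Groth.Agent.Helper9.Lpull1 Groth.Agent.Helper9.Lpull3
  Groth.Agent.Helper6.LocExt

section glue
variable {X : Scheme.{u}}
  [∀ (U V : Scheme.{u}) (j : U ⟶ V) [IsOpenImmersion j],
    PreservesFiniteLimits (Scheme.Modules.restrictFunctor j)]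
  [∀ (R : CommRingCat.{u}), PreservesFiniteLimits (tilde.functor R)]

/-- restriction of a chart to a smaller affine chart -/
theorem chart_pull (K : DCoh.D X) {R S : CommRingCat.{u}} (φ : R ⟶ S)
    (j : Spec R ⟶ X) [IsOpenImmersion j] (j' : Spec S ⟶ X) [IsOpenImmersion j']
    (hcomm : Spec.map φ ≫ j = j') (ω : DerivedCategory (ModuleCat.{u} R))
    (e : (DCoh.restrictD j).obj K ≅ (DCoh.tildeD R).obj ω) [DRing.HasLBaseChange φ.hom] :
    Nonempty ((DCoh.restrictD j').obj K ≅
      (DCoh.tildeD S).obj ((DRing.LBaseChange φ.hom).obj ω)) := by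
  haveI : DCoh.HasLpull j := hasLpull _
  haveI : DCoh.HasLpull j' := hasLpull _
  haveI : DCoh.HasLpull (Spec.map φ) := hasLpull _
  haveI : DCoh.HasLpull (Spec.map φ ≫ j) := hasLpull _
  obtain ⟨e1⟩ := Groth.Agent.Helper9.FBC4.nonempty_restrictD_iso_lpull j' K
  obtain ⟨e3⟩ := Groth.Agent.Helper9.QcLpull1.lpullCongr hcomm K
  let e4 := (lpullComp (Spec.map φ) j).app K
  obtain ⟨e5⟩ := Groth.Agent.Helper9.FBC4.nonempty_restrictD_iso_lpull j K
  let e6 := (Groth.Agent.Helper9.LpullTilde1.main φ).app ω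
  exact ⟨e1 ≪≫ e3.symm ≪≫ e4.symm ≪≫ (DCoh.Lpull (Spec.map φ)).mapIso (e5.symm ≪≫ e) ≪≫
    e6.symm⟩

/-- `M ↦ M~` is fully faithful on derived categories -/
theorem nonempty_iso_of_tildeD_iso (R : CommRingCat.{u})
    (M N : DerivedCategory (ModuleCat.{u} R))
    (e : (DCoh.tildeD R).obj M ≅ (DCoh.tildeD R).obj N) : Nonempty (M ≅ N) := by
  obtain ⟨RG, ⟨dadj⟩⟩ := Groth.Agent.Helper9.LCTil2.exists_adj R
  haveI : ∀ M, IsIso (dadj.unit.app M) :=
    fun M => Groth.Agent.Helper9.LCTil2.isIso_unit_app dadj M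
  haveI : IsIso dadj.unit := NatIso.isIso_of_isIso_app _
  exact ⟨dadj.fullyFaithfulLOfIsIsoUnit.preimageIso e⟩

/-- restriction along a composite of open immersions -/
theorem nonempty_restrictD_comp {Z Y : Scheme.{u}} (f : Z ⟶ Y) (g : Y ⟶ X) [IsOpenImmersion f]
    [IsOpenImmersion g] (h : Z ⟶ X) [IsOpenImmersion h] (hfg : f ≫ g = h) (K : DCoh.D X) :
    Nonempty ((DCoh.restrictD h).obj K ≅ (DCoh.restrictD f).obj ((DCoh.restrictD g).obj K)) := by
  haveI : DCoh.HasLpull f := hasLpull _
  haveI : DCoh.HasLpull g := hasLpull _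
  haveI : DCoh.HasLpull h := hasLpull _
  haveI : DCoh.HasLpull (f ≫ g) := hasLpull _
  obtain ⟨e1⟩ := Groth.Agent.Helper9.FBC4.nonempty_restrictD_iso_lpull h K
  obtain ⟨e2⟩ := Groth.Agent.Helper9.QcLpull1.lpullCongr hfg K
  let e3 := (lpullComp f g).app K
  obtain ⟨e4⟩ := Groth.Agent.Helper9.FBC4.nonempty_restrictD_iso_lpull g K
  obtain ⟨e5⟩ := Groth.Agent.Helper9.FBC4.nonempty_restrictD_iso_lpull f
    ((DCoh.restrictD g).obj K)
  exact ⟨e1 ≪≫ e2.symm ≪≫ e3.symm ≪≫ (DCoh.Lpull f).mapIso e4.symm ≪≫ e5.symm⟩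

/-- quasi-coherence can be checked on a cover by open immersions from affine schemes -/
theorem isQuasicoherent_of_chart_cover (G : X.Modules)
    (h : ∀ x : X, ∃ (R : CommRingCat.{u}) (j : Spec R ⟶ X) (_ : IsOpenImmersion j),
      x ∈ Set.range j ∧ (G.restrict j).IsQuasicoherent) : G.IsQuasicoherent := by
  apply Groth.Agent.Helper4.QcohGlue.isQuasicoherent_of_affine_cover
  intro x
  obtain ⟨R, j, hj, hx, hq⟩ := h x
  haveI := hj
  have hU : IsAffineOpen j.opensRange := isAffineOpen_opensRange j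
  refine ⟨j.opensRange, hU, hx, ?_⟩
  have hr : Set.range hU.fromSpec ⊆ Set.range j := by
    rw [hU.range_fromSpec]
    exact le_rfl
  let l := IsOpenImmersion.lift j hU.fromSpec hr
  have hl : l ≫ j = hU.fromSpec := IsOpenImmersion.lift_fac _ _ _
  haveI : IsOpenImmersion (l ≫ j) := by rw [hl]; infer_instance
  haveI : IsOpenImmersion l := IsOpenImmersion.of_comp l j
  have e : G.restrict hU.fromSpec ≅ (G.restrict j).restrict l :=
    (Scheme.Modules.restrictFunctorCongr hl.symm).app G ≪≫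
      (Scheme.Modules.restrictFunctorComp l j).app G
  haveI := hq
  exact (SheafOfModules.isQuasicoherent (Spec Γ(X, j.opensRange)).ringCatSheaf).prop_of_iso e.symm
    (inferInstanceAs ((Scheme.Modules.restrictFunctor l).obj (G.restrict j)).IsQuasicoherent)

/-- an object which is chartwise in the image of `M ↦ M~` has quasi-coherent cohomology -/
theorem isQCohD_of_chart_cover (K : DCoh.D X)
    (h : ∀ x : X, ∃ (R : CommRingCat.{u}) (j : Spec (CommRingCat.of R) ⟶ X)
      (_ : IsOpenImmersion j) (ω : DerivedCategory (ModuleCat.{u} R)),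
      x ∈ Set.range j ∧ Nonempty ((DCoh.restrictD j).obj K ≅ (DCoh.tildeD R).obj ω)) :
    DCoh.IsQCohD K := by
  intro q
  apply isQuasicoherent_of_chart_cover
  intro x
  obtain ⟨R, j, hj, ω, hx, ⟨e⟩⟩ := h x
  haveI := hj
  refine ⟨CommRingCat.of R, j, hj, hx, ?_⟩
  exact (SheafOfModules.isQuasicoherent (Spec (CommRingCat.of R)).ringCatSheaf).prop_of_iso
    (restrictHDIso K R j ω e q).symm
    (by
      show ((tilde.functor R).obj _).IsQuasicoherent
      infer_instance)

end glue

section main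
variable (X : Scheme.{u})
  [∀ (U V : Scheme.{u}) (j : U ⟶ V) [IsOpenImmersion j],
    PreservesFiniteLimits (Scheme.Modules.restrictFunctor j)]
  [∀ (R : CommRingCat.{u}), PreservesFiniteLimits (tilde.functor R)]

/-- on a Gorenstein scheme with a dualizing complex, the structure sheaf is a dualizing complex -/
theorem isDualizingSch_structureSheaf (hX : Dual3.IsGorenstein X) (K : DCoh.D X)
    (hK : Dual2.IsDualizingSch X K) :
    Dual2.IsDualizingSch X (DCoh.inD X (Coh.structureModule X)) := by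
  intro A _ j _
  obtain ⟨ω, hω, -⟩ := hK A j
  haveI := hω.isNoetherianRing
  refine ⟨Dual.inD A A, isDualizing_self_of_gorenstein ω hω
    (fun p => (gor_stalk_iff (CommRingCat.of A) j p).1 (hX.2 _)), ⟨?_⟩⟩
  exact Groth.Agent.Helper9.FP4.restrictDInDUnitIso j ≪≫
    (Groth.Agent.Helper9.FP3.tildeDInDIso (B := CommRingCat.of A)).symm

/-- a complex which is a dualizing complex on the members of an affine open cover is a
dualizing complex -/
theorem isDualizingSch_of_cover [IsLocallyNoetherian X] (K : DCoh.D X) (ι : Type u)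
    (A : ι → Type u) [∀ i, CommRing (A i)]
    (j : ∀ i, Spec (CommRingCat.of (A i)) ⟶ X) [∀ i, IsOpenImmersion (j i)]
    (hcov : ∀ x : X, ∃ i, x ∈ Set.range (j i))
    (hK : ∀ i, ∃ ω : Dual.D (A i), Dual.IsDualizing (A i) ω ∧
      Nonempty ((DCoh.restrictD (j i)).obj K ≅ (DCoh.tildeD (CommRingCat.of (A i))).obj ω)) :
    Dual2.IsDualizingSch X K := by
  intro B _ j' _
  have hq : DCoh.IsQCohD K := isQCohD_of_chart_cover K (fun x => by
    obtain ⟨i, hi⟩ := hcov x
    obtain ⟨ω, -, he⟩ := hK i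
    exact ⟨CommRingCat.of (A i), j i, inferInstance, ω, hi, he⟩)
  have hq' := Groth.Agent.Helper9.QP7.isQCohD_restrictD j' K hq
  obtain ⟨ω, ⟨e⟩⟩ := Groth.Agent.Helper9.QcLpull1.exists_iso_tildeD (CommRingCat.of B) _ hq'
  haveI : IsLocallyNoetherian (Spec (CommRingCat.of B)) :=
    isLocallyNoetherian_of_isOpenImmersion j'
  haveI : IsNoetherianRing B :=
    (isLocallyNoetherian_Spec (R := CommRingCat.of B)).mp inferInstance
  refine ⟨ω, ?_, ⟨e.symm⟩⟩
  apply isDualizing_of_local
  intro y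
  obtain ⟨i, hi⟩ := hcov (j' (show ↥(Spec (CommRingCat.of B)) from y))
  obtain ⟨ωi, hωi, ⟨ei⟩⟩ := hK i
  haveI := hωi.isNoetherianRing
  let V : (Spec (CommRingCat.of B)).Opens := j' ⁻¹ᵁ (j i).opensRange
  have hyV : (show ↥(Spec (CommRingCat.of B)) from y) ∈ V := hi
  obtain ⟨_, ⟨_, ⟨t, rfl⟩, rfl⟩, hyt, htV⟩ :=
    PrimeSpectrum.isBasis_basic_opens.exists_subset_of_mem_open hyV V.isOpen
  refine ⟨t, hyt, ?_⟩
  let φ : CommRingCat.of B ⟶ CommRingCat.of (Localization.Away t) :=
    CommRingCat.ofHom (algebraMap B (Localization.Away t))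
  let j'' : Spec (CommRingCat.of (Localization.Away t)) ⟶ X := Spec.map φ ≫ j'
  have hr : Set.range j'' ⊆ Set.range (j i) := by
    rintro _ ⟨z, rfl⟩
    have hz : (Spec.map φ) z ∈ (Spec.map φ).opensRange := ⟨z, rfl⟩
    rw [Scheme.Hom.opensRange_localizationAway (R := CommRingCat.of B) t] at hz
    have h1 : (Spec.map φ) z ∈ V := htV hz
    exact h1
  let l := IsOpenImmersion.lift (j i) j'' hr
  have hl : l ≫ j i = j'' := IsOpenImmersion.lift_fac _ _ _
  haveI : IsOpenImmersion (l ≫ j i) := by rw [hl]; infer_instance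
  haveI : IsOpenImmersion l := IsOpenImmersion.of_comp l (j i)
  let ψ : CommRingCat.of (A i) ⟶ CommRingCat.of (Localization.Away t) := Spec.preimage l
  have hψ : Spec.map ψ = l := Spec.map_preimage l
  haveI : IsOpenImmersion (Spec.map ψ) := by rw [hψ]; infer_instance
  have hψc : Spec.map ψ ≫ j i = j'' := by rw [hψ, hl]
  have het : RingHom.Etale ψ.hom :=
    (HasRingHomProperty.Spec_iff (P := @Etale)).mp inferInstance
  haveI := Groth.Agent.Helper6.HasLBC.hasLBaseChange ψ.hom
  haveI := Groth.Agent.Helper6.HasLBC.hasLBaseChange φ.hom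
  obtain ⟨ea⟩ := chart_pull K φ j' j'' rfl ω e.symm
  obtain ⟨eb⟩ := chart_pull K ψ (j i) j'' hψc ωi ei
  obtain ⟨ec⟩ := nonempty_iso_of_tildeD_iso _ _ _ (ea.symm ≪≫ eb)
  letI algψ : Algebra (A i) (Localization.Away t) := ψ.hom.toAlgebra
  haveI : Algebra.Etale (A i) (Localization.Away t) := het
  haveI : Module.Flat (A i) (Localization.Away t) := inferInstance
  haveI : IsNoetherianRing (Localization.Away t) :=
    IsLocalization.isNoetherianRing (Submonoid.powers t) (Localization.Away t) inferInstance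
  haveI : DRing.HasLBaseChange (algebraMap (A i) (Localization.Away t)) :=
    Groth.Agent.Helper6.HasLBC.hasLBaseChange _
  haveI : DRing.HasLBaseChange (algebraMap B (Localization.Away t)) :=
    Groth.Agent.Helper6.HasLBC.hasLBaseChange _
  have hd := Groth.Agent.Helper6.FBC.isDualizing_bcD_of_unramified (Localization.Away t)
    (Groth.Agent.Helper6.FBC.unramified_primes_of_etale (A i) (Localization.Away t)) ωi hωi
  exact isDualizing_of_iso
    ((lbcIsoBcD (A i) (Localization.Away t) ωi).symm ≪≫ ec.symm ≪≫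
      lbcIsoBcD B (Localization.Away t) ω) hd

end main

end Groth.Agent.Helper6.DSch
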