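import Mathlib
import Groth.Agent.Helper6.DSch8
import Groth.Agent.Helper6.DSch10
import Groth.Agent.Helper5.CMFib1

/-!
# Dualizing complexes on schemes and flat morphisms with Gorenstein fibres
-/

set_option autoImplicit false
set_option linter.style.haveILetI false
set_option linter.unusedSectionVars false
set_option backward.isDefEq.respectTransparency false

universe u
open CategoryTheory CategoryTheory.Limits AlgebraicGeometry TensorProduct IsLocalRing
attribute [local instance] HasDerivedCategory.standard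

namespace Groth.Agent.Helper6.DSch
open Groth.Agent.Helper3.DRingLib Groth.Agent.Helper9.Lpull1 Groth.Agent.Helper9.Lpull3
  Groth.Agent.Helper6.LocExt Groth.Agent.Helper6.FlatBC

section fibre
variable {X Y : Scheme.{u}}

/-- stalk maps in affine charts are localised ring maps -/
theorem exists_stalk_equivs (f : X ⟶ Y) (V : Y.Opens) (hV : IsAffineOpen V)
    (U : X.Opens) (hU : IsAffineOpen U) (e : U ≤ f ⁻¹ᵁ V) (x : X) (hx : x ∈ U)
    (hp0 : (hV.primeIdealOf ⟨f x, e hx⟩).asIdeal =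
      (hU.primeIdealOf ⟨x, hx⟩).asIdeal.comap (f.appLE V U e).hom) :
    ∃ (eR : Y.presheaf.stalk (f x) ≃+*
        Localization.AtPrime (hV.primeIdealOf ⟨f x, e hx⟩).asIdeal)
      (eS : X.presheaf.stalk x ≃+* Localization.AtPrime (hU.primeIdealOf ⟨x, hx⟩).asIdeal),
      ∀ z, eS ((f.stalkMap x).hom z) =
        Localization.localRingHom (hV.primeIdealOf ⟨f x, e hx⟩).asIdeal
          (hU.primeIdealOf ⟨x, hx⟩).asIdeal (f.appLE V U e).hom hp0 (eR z) := by
  let iso := IsAffineOpen.arrowStalkMapIso f V hV U hU e hx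
  refine ⟨(Arrow.leftFunc.mapIso iso).commRingCatIsoToRingEquiv,
    (Arrow.rightFunc.mapIso iso).commRingCatIsoToRingEquiv, fun z => ?_⟩
  have hw := Arrow.w iso.hom
  exact (congrArg (fun k => k.hom z) hw).symm

/-- the Gorenstein condition on the fibre, read on affine charts -/
theorem gorLocal_chart_of_isGorensteinAt (f : X ⟶ Y) (V : Y.Opens) (hV : IsAffineOpen V)
    (U : X.Opens) (hU : IsAffineOpen U) (e : U ≤ f ⁻¹ᵁ V) (x : X) (hx : x ∈ U)
    (hG : Dual3.IsGorensteinAt f x) [Algebra Γ(Y, V) Γ(X, U)]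
    (halg : algebraMap Γ(Y, V) Γ(X, U) = (f.appLE V U e).hom)
    (r : Ideal Γ(X, U)) [r.IsPrime] (hr : r = (hU.primeIdealOf ⟨x, hx⟩).asIdeal) :
    LocCoh.IsGorensteinLocalRing (Localization.AtPrime r ⧸
      ((r.comap (algebraMap Γ(Y, V) Γ(X, U))).map (algebraMap Γ(Y, V) Γ(X, U))).map
        (algebraMap Γ(X, U) (Localization.AtPrime r))) := by
  subst hr
  obtain ⟨eq1⟩ := Groth.Agent.Helper5.CMFib.fibre_stalk_equiv' f x
  have hG1 := Groth.Agent.Helper7.SegGor.gorLocal_of_ringEquiv eq1.symm hG.2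
  have hp0 : (hV.primeIdealOf ⟨f x, e hx⟩).asIdeal =
      (hU.primeIdealOf ⟨x, hx⟩).asIdeal.comap (f.appLE V U e).hom :=
    congr($(IsAffineOpen.comap_primeIdealOf_appLE V hV U hU e hx).1).symm
  have hp : (hV.primeIdealOf ⟨f x, e hx⟩).asIdeal =
      (hU.primeIdealOf ⟨x, hx⟩).asIdeal.comap (algebraMap Γ(Y, V) Γ(X, U)) := by
    rw [halg]; exact hp0
  obtain ⟨eR, eS, hcomm0⟩ := exists_stalk_equivs f V hV U hU e x hx hp0
  have hloc : Localization.localRingHom (hV.primeIdealOf ⟨f x, e hx⟩).asIdeal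
      (hU.primeIdealOf ⟨x, hx⟩).asIdeal (algebraMap Γ(Y, V) Γ(X, U)) hp =
      Localization.localRingHom (hV.primeIdealOf ⟨f x, e hx⟩).asIdeal
      (hU.primeIdealOf ⟨x, hx⟩).asIdeal (f.appLE V U e).hom hp0 := by
    congr 1
  have hcomp : eS.toRingHom.comp (f.stalkMap x).hom =
      (Localization.localRingHom (hV.primeIdealOf ⟨f x, e hx⟩).asIdeal
        (hU.primeIdealOf ⟨x, hx⟩).asIdeal (algebraMap Γ(Y, V) Γ(X, U)) hp).comp
        eR.toRingHom := by
    rw [hloc]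
    exact RingHom.ext fun z => hcomm0 z
  have hm : maximalIdeal (Localization.AtPrime (hV.primeIdealOf ⟨f x, e hx⟩).asIdeal) =
      Ideal.map eR.toRingHom (maximalIdeal (Y.presheaf.stalk (f x))) :=
    (IsLocalRing.map_maximalIdeal_of_surjective eR.toRingHom eR.surjective).symm
  apply gorLocal_fibre_of_localRingHom _ _ hp
  refine Groth.Agent.Helper7.SegGor.gorLocal_of_ringEquiv (Ideal.quotientEquiv _ _ eS ?_) hG1
  rw [Ideal.map_map, hm, Ideal.map_map, ← hcomp]
  rfl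

end fibre

section forward
variable {X Y : Scheme.{u}}
  [∀ (U V : Scheme.{u}) (j : U ⟶ V) [IsOpenImmersion j],
    PreservesFiniteLimits (Scheme.Modules.restrictFunctor j)]
  [∀ (R : CommRingCat.{u}), PreservesFiniteLimits (tilde.functor R)]

theorem lbc_congr {A B : Type u} [CommRing A] [CommRing B] {φ ψ : A →+* B} (h : φ = ψ)
    [DRing.HasLBaseChange φ] [DRing.HasLBaseChange ψ] (M : Dual.D A) :
    Nonempty ((DRing.LBaseChange φ).obj M ≅ (DRing.LBaseChange ψ).obj M) := by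
  subst h
  exact ⟨Iso.refl _⟩

/-- a complex which is dualizing on an affine chart around every point is dualizing -/
theorem isDualizingSch_of_local_charts [IsLocallyNoetherian X] (K : DCoh.D X)
    (h : ∀ x : X, ∃ (A : Type u) (_ : CommRing A) (j : Spec (CommRingCat.of A) ⟶ X)
      (_ : IsOpenImmersion j) (ω : Dual.D A), x ∈ Set.range j ∧ Dual.IsDualizing A ω ∧
      Nonempty ((DCoh.restrictD j).obj K ≅ (DCoh.tildeD (CommRingCat.of A)).obj ω)) :
    Dual2.IsDualizingSch X K := by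
  choose A iA j hj ω hx hω he using h
  exact isDualizingSch_of_cover X K X A j (fun x => ⟨x, hx x⟩) (fun x => ⟨ω x, hω x, he x⟩)

/-- local form: the pullback of a dualizing complex on an affine chart -/
theorem exists_dualizing_chart_lpull (f : X ⟶ Y) [DCoh.HasLpull f] (K : DCoh.D Y)
    (hK : Dual2.IsDualizingSch Y K) (V : Y.Opens) (hV : IsAffineOpen V) (U : X.Opens)
    (hU : IsAffineOpen U) (e : U ≤ f ⁻¹ᵁ V) [Algebra Γ(Y, V) Γ(X, U)]
    (halg : algebraMap Γ(Y, V) Γ(X, U) = (f.appLE V U e).hom) [Module.Flat Γ(Y, V) Γ(X, U)]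
    (hd : ∀ ω : Dual.D Γ(Y, V), Dual.IsDualizing Γ(Y, V) ω →
      Dual.IsDualizing Γ(X, U) ((bcD Γ(Y, V) Γ(X, U)).obj ω)) :
    ∃ ω : Dual.D Γ(X, U), Dual.IsDualizing Γ(X, U) ω ∧
      Nonempty ((DCoh.restrictD hU.fromSpec).obj ((DCoh.Lpull f).obj K) ≅
        (DCoh.tildeD Γ(X, U)).obj ω) := by
  obtain ⟨ωV, hωV, ⟨eV⟩⟩ := hK Γ(Y, V) hV.fromSpec
  haveI : DRing.HasLBaseChange (f.appLE V U e).hom :=
    Groth.Agent.Helper6.HasLBC.hasLBaseChange _
  haveI : DRing.HasLBaseChange (algebraMap Γ(Y, V) Γ(X, U)) :=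
    Groth.Agent.Helper6.HasLBC.hasLBaseChange _
  obtain ⟨e1⟩ := Groth.Agent.Helper9.FBC4.nonempty_tildeD_lbc_iso f hV hU e K ωV eV.symm
  obtain ⟨e2⟩ := lbc_congr halg ωV
  exact ⟨(bcD Γ(Y, V) Γ(X, U)).obj ωV, hd ωV hωV,
    ⟨e1.symm ≪≫ (DCoh.tildeD Γ(X, U)).mapIso (e2.symm ≪≫ lbcIsoBcD Γ(Y, V) Γ(X, U) ωV)⟩⟩

/-- the derived pullback of a dualizing complex along a Gorenstein morphism locally of finite
type is a dualizing complex -/
theorem isDualizingSch_lpull_of_gorenstein [IsLocallyNoetherian X] [IsLocallyNoetherian Y]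
    (f : X ⟶ Y) [LocallyOfFiniteType f] (hf : Dual3.IsGorensteinMor f) [DCoh.HasLpull f]
    (K : DCoh.D Y) (hK : Dual2.IsDualizingSch Y K) :
    Dual2.IsDualizingSch X ((DCoh.Lpull f).obj K) := by
  haveI : Flat f := Flat.of_stalkMap f (fun x => (hf x).1)
  apply isDualizingSch_of_local_charts
  intro x
  obtain ⟨V, hV, hfxV, -⟩ := exists_isAffineOpen_mem_and_subset (x := f x) (U := ⊤)
    (TopologicalSpace.Opens.mem_top _)
  obtain ⟨U, hU, hxU, hUV⟩ := exists_isAffineOpen_mem_and_subset (x := x) (U := f ⁻¹ᵁ V) hfxV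
  have e : U ≤ f ⁻¹ᵁ V := hUV
  letI alg : Algebra Γ(Y, V) Γ(X, U) := (f.appLE V U e).hom.toAlgebra
  haveI : Module.Flat Γ(Y, V) Γ(X, U) := f.flat_appLE hV hU e
  haveI : Algebra.FiniteType Γ(Y, V) Γ(X, U) := f.finiteType_appLE hV hU e
  haveI : IsNoetherianRing Γ(Y, V) := IsLocallyNoetherian.component_noetherian ⟨V, hV⟩
  haveI : IsNoetherianRing Γ(X, U) := IsLocallyNoetherian.component_noetherian ⟨U, hU⟩
  obtain ⟨ω, hω, he⟩ := exists_dualizing_chart_lpull f K hK V hV U hU e rfl (fun ω hω =>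
    isDualizing_bcD_of_finiteType_gorFib ω hω (fun r hr => by
      haveI := hr
      let pt : PrimeSpectrum Γ(X, U) := ⟨r, hr⟩
      have hmem : hU.fromSpec pt ∈ U := by
        have h1 : hU.fromSpec pt ∈ Set.range hU.fromSpec := ⟨pt, rfl⟩
        rw [hU.range_fromSpec] at h1
        exact h1
      have hpt : hU.primeIdealOf ⟨hU.fromSpec pt, hmem⟩ = pt :=
        hU.fromSpec.isOpenEmbedding.injective
          (hU.fromSpec_primeIdealOf ⟨hU.fromSpec pt, hmem⟩)
      exact gorLocal_chart_of_isGorensteinAt f V hV U hU e (hU.fromSpec pt) hmem (hf _) rfl r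
        (congrArg PrimeSpectrum.asIdeal hpt).symm))
  refine ⟨Γ(X, U), inferInstance, hU.fromSpec, inferInstance, ω, ?_, hω, he⟩
  exact (Set.ext_iff.mp hU.range_fromSpec x).mpr hxU

/-- the derived pullback of a dualizing complex along a flat local complete intersection
morphism is a dualizing complex -/
theorem isDualizingSch_lpull_of_lci [IsLocallyNoetherian X] [IsLocallyNoetherian Y]
    (f : X ⟶ Y) [Flat f] (hf : Dual3.IsLCIMor f) [DCoh.HasLpull f]
    (K : DCoh.D Y) (hK : Dual2.IsDualizingSch Y K) :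
    Dual2.IsDualizingSch X ((DCoh.Lpull f).obj K) := by
  apply isDualizingSch_of_local_charts
  intro x
  obtain ⟨U, V, e, hxU, hl⟩ := hf x
  have hU : IsAffineOpen U.1 := U.2
  have hV : IsAffineOpen V.1 := V.2
  letI alg : Algebra Γ(Y, V.1) Γ(X, U.1) := (f.appLE V.1 U.1 e).hom.toAlgebra
  have hl' : LCI.IsLCI Γ(Y, V.1) Γ(X, U.1) := hl
  haveI : Module.Flat Γ(Y, V.1) Γ(X, U.1) := f.flat_appLE hV hU e
  haveI : IsNoetherianRing Γ(Y, V.1) := IsLocallyNoetherian.component_noetherian V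
  haveI : IsNoetherianRing Γ(X, U.1) := IsLocallyNoetherian.component_noetherian U
  obtain ⟨ω, hω, he⟩ := exists_dualizing_chart_lpull f K hK V.1 hV U.1 hU e rfl
    (fun ω hω => isDualizing_bcD_of_isLCI hl' ω hω)
  refine ⟨Γ(X, U.1), inferInstance, hU.fromSpec, inferInstance, ω, ?_, hω, he⟩
  exact (Set.ext_iff.mp hU.range_fromSpec x).mpr hxU

end forward

section backward
variable {X Y : Scheme.{u}}
  [∀ (U V : Scheme.{u}) (j : U ⟶ V) [IsOpenImmersion j],
    PreservesFiniteLimits (Scheme.Modules.restrictFunctor j)]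
  [∀ (R : CommRingCat.{u}), PreservesFiniteLimits (tilde.functor R)]

/-- restriction of a chart to a basic open -/
theorem away_chart (K : DCoh.D Y) (A : Type u) [CommRing A]
    (jY : Spec (CommRingCat.of A) ⟶ Y) [IsOpenImmersion jY] (ωR : Dual.D A)
    (eR : (DCoh.restrictD jY).obj K ≅ (DCoh.tildeD (CommRingCat.of A)).obj ωR) (g : A) :
    Nonempty ((DCoh.restrictD
        (Spec.map (CommRingCat.ofHom (algebraMap A (Localization.Away g))) ≫ jY)).obj K ≅
      (DCoh.tildeD (CommRingCat.of (Localization.Away g))).obj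
        ((bcD A (Localization.Away g)).obj ωR)) := by
  let ψ : CommRingCat.of A ⟶ CommRingCat.of (Localization.Away g) :=
    CommRingCat.ofHom (algebraMap A (Localization.Away g))
  haveI : DRing.HasLBaseChange ψ.hom := Groth.Agent.Helper6.HasLBC.hasLBaseChange _
  haveI : DRing.HasLBaseChange (algebraMap A (Localization.Away g)) :=
    Groth.Agent.Helper6.HasLBC.hasLBaseChange _
  obtain ⟨ea⟩ := chart_pull K ψ jY (Spec.map ψ ≫ jY) rfl ωR eR
  exact ⟨ea ≪≫ (DCoh.tildeD (CommRingCat.of (Localization.Away g))).mapIso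
    (lbcIsoBcD A (Localization.Away g) ωR)⟩

theorem mem_range_away_chart (A : Type u) [CommRing A] (jY : Spec (CommRingCat.of A) ⟶ Y)
    (g : A) (p : PrimeSpectrum A) (hp : g ∉ p.asIdeal) (y : Y)
    (hy : jY (show ↥(Spec (CommRingCat.of A)) from p) = y) :
    y ∈ Set.range (Spec.map (CommRingCat.ofHom (algebraMap A (Localization.Away g))) ≫ jY) := by
  have hz : (show ↥(Spec (CommRingCat.of A)) from p) ∈
      (Spec.map (CommRingCat.ofHom (algebraMap A (Localization.Away g)))).opensRange := by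
    rw [Scheme.Hom.opensRange_localizationAway (R := CommRingCat.of A) g]
    exact hp
  obtain ⟨z, hz⟩ := hz
  refine ⟨z, ?_⟩
  rw [Scheme.Hom.comp_apply, hz]
  exact hy

/-- **descent of dualizing complexes** along a flat surjective morphism which is of finite type
around some point of every fibre -/
theorem isDualizingSch_of_lpull [IsLocallyNoetherian X] [IsLocallyNoetherian Y]
    (f : X ⟶ Y) [Flat f]
    (hft : ∀ y : Y, ∃ (x : X) (V : Y.Opens) (_ : IsAffineOpen V) (U : X.Opens)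
      (_ : IsAffineOpen U) (e : U ≤ f ⁻¹ᵁ V), f x = y ∧ x ∈ U ∧
        (f.appLE V U e).hom.FiniteType)
    [DCoh.HasLpull f] (K : DCoh.D Y) (hq : DCoh.IsQCohD K)
    (hL : Dual2.IsDualizingSch X ((DCoh.Lpull f).obj K)) : Dual2.IsDualizingSch Y K := by
  apply isDualizingSch_of_local_charts
  intro y
  obtain ⟨x, V, hV, U, hU, e, rfl, hxU, hfin⟩ := hft y
  letI alg : Algebra Γ(Y, V) Γ(X, U) := (f.appLE V U e).hom.toAlgebra
  haveI : Module.Flat Γ(Y, V) Γ(X, U) := f.flat_appLE hV hU e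
  haveI : Algebra.FiniteType Γ(Y, V) Γ(X, U) := hfin
  haveI : IsNoetherianRing Γ(Y, V) := IsLocallyNoetherian.component_noetherian ⟨V, hV⟩
  haveI : IsNoetherianRing Γ(X, U) := IsLocallyNoetherian.component_noetherian ⟨U, hU⟩
  have hqV := Groth.Agent.Helper9.QP7.isQCohD_restrictD hV.fromSpec K hq
  obtain ⟨ωV, ⟨eV⟩⟩ := Groth.Agent.Helper9.QcLpull1.exists_iso_tildeD Γ(Y, V) _ hqV
  haveI : DRing.HasLBaseChange (f.appLE V U e).hom :=
    Groth.Agent.Helper6.HasLBC.hasLBaseChange _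
  haveI : DRing.HasLBaseChange (algebraMap Γ(Y, V) Γ(X, U)) :=
    Groth.Agent.Helper6.HasLBC.hasLBaseChange _
  obtain ⟨e1⟩ := Groth.Agent.Helper9.FBC4.nonempty_tildeD_lbc_iso f hV hU e K ωV eV
  obtain ⟨ωU, hωU, ⟨eU⟩⟩ := hL Γ(X, U) hU.fromSpec
  obtain ⟨e2⟩ := nonempty_iso_of_tildeD_iso Γ(X, U) _ _ (e1 ≪≫ eU)
  have hB : Dual.IsDualizing Γ(X, U) ((bcD Γ(Y, V) Γ(X, U)).obj ωV) :=
    isDualizing_of_iso (e2.symm ≪≫ lbcIsoBcD Γ(Y, V) Γ(X, U) ωV) hωU
  obtain ⟨g, hg, hdual⟩ :=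
    exists_away_isDualizing_of_flat_finiteType ωV hB (hU.primeIdealOf ⟨x, hxU⟩)
  obtain ⟨ec⟩ := away_chart K Γ(Y, V) hV.fromSpec ωV eV.symm g
  have hp := IsAffineOpen.comap_primeIdealOf_appLE (f := f) V hV U hU e hxU
  have hg' : g ∉ (hV.primeIdealOf ⟨f x, e hxU⟩).asIdeal := by
    rw [← hp]
    exact hg
  refine ⟨Localization.Away g, inferInstance, _, ?_, _, ?_, hdual, ⟨ec⟩⟩
  · infer_instance
  · exact mem_range_away_chart Γ(Y, V) hV.fromSpec g (hV.primeIdealOf ⟨f x, e hxU⟩) hg' (f x)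
      (hV.fromSpec_primeIdealOf ⟨f x, e hxU⟩)

theorem exists_finiteType_charts (f : X ⟶ Y) [Surjective f] [LocallyOfFiniteType f] (y : Y) :
    ∃ (x : X) (V : Y.Opens) (_ : IsAffineOpen V) (U : X.Opens)
      (_ : IsAffineOpen U) (e : U ≤ f ⁻¹ᵁ V), f x = y ∧ x ∈ U ∧
        (f.appLE V U e).hom.FiniteType := by
  obtain ⟨x, rfl⟩ := f.surjective y
  obtain ⟨V, hV, hfxV, -⟩ := exists_isAffineOpen_mem_and_subset (x := f x) (U := ⊤)
    (TopologicalSpace.Opens.mem_top _)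
  obtain ⟨U, hU, hxU, hUV⟩ := exists_isAffineOpen_mem_and_subset (x := x) (U := f ⁻¹ᵁ V) hfxV
  exact ⟨x, V, hV, U, hU, hUV, rfl, hxU, f.finiteType_appLE hV hU hUV⟩

theorem exists_finiteType_charts_of_lci (f : X ⟶ Y) [Surjective f] (hf : Dual3.IsLCIMor f)
    (y : Y) :
    ∃ (x : X) (V : Y.Opens) (_ : IsAffineOpen V) (U : X.Opens)
      (_ : IsAffineOpen U) (e : U ≤ f ⁻¹ᵁ V), f x = y ∧ x ∈ U ∧
        (f.appLE V U e).hom.FiniteType := by
  obtain ⟨x, rfl⟩ := f.surjective y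
  obtain ⟨U, V, e, hxU, hl⟩ := hf x
  letI alg : Algebra Γ(Y, V.1) Γ(X, U.1) := (f.appLE V.1 U.1 e).hom.toAlgebra
  have hl' : LCI.IsLCI Γ(Y, V.1) Γ(X, U.1) := hl
  exact ⟨x, V.1, V.2, U.1, U.2, e, rfl, hxU, hl'.1⟩

end backward

end Groth.Agent.Helper6.DSch
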