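import Mathlib
import Groth.Agent.Helper6.DSch8

/-!
# A locally Noetherian scheme with a dualizing complex is Gorenstein iff the dualizing complex
is invertible
-/

set_option autoImplicit false
set_option linter.style.haveILetI false
set_option linter.unusedSectionVars false
set_option backward.isDefEq.respectTransparency false

universe u
open CategoryTheory CategoryTheory.Limits AlgebraicGeometry TensorProduct
attribute [local instance] HasDerivedCategory.standard

namespace Groth.Agent.Helper6.DSch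
open Groth.Agent.Helper3.DRingLib Groth.Agent.Helper9.Lpull1 Groth.Agent.Helper9.Lpull3
  Groth.Agent.Helper6.LocExt

section main
variable (X : Scheme.{u})
  [∀ (U V : Scheme.{u}) (j : U ⟶ V) [IsOpenImmersion j],
    PreservesFiniteLimits (Scheme.Modules.restrictFunctor j)]
  [∀ (R : CommRingCat.{u}), PreservesFiniteLimits (tilde.functor R)]

theorem isInvertibleD_of_isGorenstein (K : DCoh.D X) (hK : Dual2.IsDualizingSch X K)
    (hG : Dual3.IsGorenstein X) : Dual3.IsInvertibleD K := by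
  intro x
  obtain ⟨A, _, j, _, p, rfl⟩ := exists_chart X x
  obtain ⟨ω, hω, ⟨e⟩⟩ := hK A j
  haveI := hω.isNoetherianRing
  have hp : LocCoh.IsGorensteinLocalRing (Localization.AtPrime p.asIdeal) :=
    (gor_stalk_iff (CommRingCat.of A) j p).1 (hG.2 _)
  obtain ⟨t, n, htp, ⟨θ⟩⟩ := exists_away_iso_shift ω hω p hp
  let φ : CommRingCat.of A ⟶ CommRingCat.of (Localization.Away t) :=
    CommRingCat.ofHom (algebraMap A (Localization.Away t))
  let j'' : Spec (CommRingCat.of (Localization.Away t)) ⟶ X := Spec.map φ ≫ j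
  haveI := Groth.Agent.Helper6.HasLBC.hasLBaseChange φ.hom
  obtain ⟨ea⟩ := chart_pull K φ j j'' rfl ω e
  haveI : DRing.HasLBaseChange (algebraMap A (Localization.Away t)) :=
    Groth.Agent.Helper6.HasLBC.hasLBaseChange _
  let eb : (DCoh.tildeD (CommRingCat.of (Localization.Away t))).obj
        ((DRing.LBaseChange φ.hom).obj ω) ≅
      (DCoh.tildeD (CommRingCat.of (Localization.Away t))).obj
        ((Dual.inD (Localization.Away t) (Localization.Away t))⟦n⟧) :=
    (DCoh.tildeD (CommRingCat.of (Localization.Away t))).mapIso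
      (lbcIsoBcD A (Localization.Away t) ω ≪≫ θ)
  let ec := ((DCoh.tildeD (CommRingCat.of (Localization.Away t))).commShiftIso n).app
    (Dual.inD (Localization.Away t) (Localization.Away t))
  let ed := (shiftFunctor (DCoh.D (Spec (CommRingCat.of (Localization.Away t)))) n).mapIso
    (Groth.Agent.Helper9.FP3.tildeDInDIso (B := CommRingCat.of (Localization.Away t)))
  let U : X.Opens := j''.opensRange
  have hxU : j (show ↥(Spec (CommRingCat.of A)) from p) ∈ U := by
    have h1 : (show ↥(Spec (CommRingCat.of A)) from p) ∈ (Spec.map φ).opensRange := by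
      rw [Scheme.Hom.opensRange_localizationAway (R := CommRingCat.of A) t]
      exact htp
    obtain ⟨z, hz⟩ := h1
    refine ⟨z, ?_⟩
    show (Spec.map φ ≫ j) z = _
    rw [Scheme.Hom.comp_apply, hz]
  have hrange : Set.range U.ι = Set.range j'' := by
    rw [Scheme.Opens.range_ι]
    rfl
  let θ' : (U : Scheme.{u}) ≅ Spec (CommRingCat.of (Localization.Away t)) :=
    IsOpenImmersion.isoOfRangeEq U.ι j'' hrange
  have hθ' : θ'.hom ≫ j'' = U.ι := IsOpenImmersion.isoOfRangeEq_hom_fac _ _ _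
  obtain ⟨ef⟩ := nonempty_restrictD_comp θ'.hom j'' U.ι hθ' K
  let eg := (DCoh.restrictD θ'.hom).mapIso (ea ≪≫ eb ≪≫ ec ≪≫ ed)
  let eh := ((DCoh.restrictD θ'.hom).commShiftIso n).app
    (DCoh.inD (Spec (CommRingCat.of (Localization.Away t)))
      (Coh.structureModule (Spec (CommRingCat.of (Localization.Away t)))))
  let ei := (shiftFunctor (DCoh.D (U : Scheme.{u})) n).mapIso
    (Groth.Agent.Helper9.FP4.restrictDInDUnitIso θ'.hom)
  exact ⟨U, n, hxU, ⟨ef ≪≫ eg ≪≫ eh ≪≫ ei⟩⟩

theorem isGorenstein_of_isInvertibleD [IsLocallyNoetherian X] (K : DCoh.D X)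
    (hK : Dual2.IsDualizingSch X K) (hinv : Dual3.IsInvertibleD K) : Dual3.IsGorenstein X := by
  refine ⟨inferInstance, fun x => ?_⟩
  obtain ⟨U, n, hxU, ⟨ε⟩⟩ := hinv x
  obtain ⟨_, ⟨W₀, hW0, rfl⟩, hxW, hWU⟩ :=
    X.isBasis_affineOpens.exists_subset_of_mem_open hxU U.isOpen
  obtain ⟨W, hWW⟩ : ∃ W : X.Opens, W = W₀ := ⟨W₀, rfl⟩
  subst hWW
  have hW : IsAffineOpen W := hW0
  obtain ⟨ω, hω, ⟨e⟩⟩ := hK Γ(X, W) hW.fromSpec
  haveI := hω.isNoetherianRing
  have hr : Set.range hW.fromSpec ⊆ Set.range U.ι := by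
    rw [hW.range_fromSpec, Scheme.Opens.range_ι]
    exact hWU
  let l := IsOpenImmersion.lift U.ι hW.fromSpec hr
  have hl : l ≫ U.ι = hW.fromSpec := IsOpenImmersion.lift_fac _ _ _
  haveI : IsOpenImmersion (l ≫ U.ι) := by rw [hl]; infer_instance
  haveI : IsOpenImmersion l := IsOpenImmersion.of_comp l U.ι
  obtain ⟨ef⟩ := nonempty_restrictD_comp l U.ι hW.fromSpec hl K
  let e1 := (DCoh.restrictD l).mapIso ε
  let e2 := ((DCoh.restrictD l).commShiftIso n).app
    (DCoh.inD (U : Scheme.{u}) (Coh.structureModule (U : Scheme.{u})))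
  let e3 := (shiftFunctor (DCoh.D (Spec Γ(X, W))) n).mapIso
    (Groth.Agent.Helper9.FP4.restrictDInDUnitIso l ≪≫
      (Groth.Agent.Helper9.FP3.tildeDInDIso (B := Γ(X, W))).symm)
  let e4 := (((DCoh.tildeD Γ(X, W)).commShiftIso n).app (Dual.inD Γ(X, W) Γ(X, W))).symm
  obtain ⟨ec⟩ := nonempty_iso_of_tildeD_iso Γ(X, W) ω ((Dual.inD Γ(X, W) Γ(X, W))⟦n⟧)
    (e.symm ≪≫ ef ≪≫ e1 ≪≫ e2 ≪≫ e3 ≪≫ e4)
  have h1 : Dual.IsDualizing Γ(X, W) ((Dual.inD Γ(X, W) Γ(X, W))⟦n⟧) := isDualizing_of_iso ec hω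
  have h2 := isDualizing_of_shift _ n h1
  have hx' : x ∈ Set.range hW.fromSpec := by
    rw [hW.range_fromSpec]
    exact hxW
  obtain ⟨p, rfl⟩ := hx'
  exact (gor_stalk_iff Γ(X, W) hW.fromSpec p).2 (gorenstein_of_isDualizing_self h2 p)

theorem isGorenstein_iff_isInvertibleD [IsLocallyNoetherian X] (K : DCoh.D X)
    (hK : Dual2.IsDualizingSch X K) : Dual3.IsGorenstein X ↔ Dual3.IsInvertibleD K :=
  ⟨isInvertibleD_of_isGorenstein X K hK, isGorenstein_of_isInvertibleD X K hK⟩

end main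

end Groth.Agent.Helper6.DSch
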