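import Mathlib
import Groth.Prelude.Def_DTen3

universe u
open CategoryTheory CategoryTheory.Limits MonoidalCategory
attribute [local instance] HasDerivedCategory.standard

namespace Groth.Agent.Helper6.DTenCurry
open DTen

variable {A : Type u} [CommRing A] [HasLTen A] [HasLTen₃ A] [IsSymMonoidal A] [HasRHom A]

/-- naturality of the associator in the first variable -/
theorem associator_naturality_left {T T' : Dual.D A} (t : T' ⟶ T) (K L : Dual.D A) :
    (LTen₂ A).map (Prod.mkHom ((LTen₂ A).map (Prod.mkHom t (𝟙 K))) (𝟙 L)) ≫ (DTen.associator T K L).hom =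
      (DTen.associator T' K L).hom ≫ (LTen₂ A).map (Prod.mkHom t (𝟙 ((LTen₂ A).obj (K, L)))) := by
  have hL := (assocL A).naturality (X := (T', (K, L))) (Y := (T, (K, L))) (Prod.mkHom t (Prod.mkHom (𝟙 K) (𝟙 L)))
  have hR := (assocR A).naturality (X := (T', (K, L))) (Y := (T, (K, L))) (Prod.mkHom t (Prod.mkHom (𝟙 K) (𝟙 L)))
  have e1 : (LTenL A).map (X := (T', (K, L))) (Y := (T, (K, L))) (Prod.mkHom t (Prod.mkHom (𝟙 K) (𝟙 L))) =
      (LTen₂ A).map (Prod.mkHom ((LTen₂ A).map (Prod.mkHom t (𝟙 K))) (𝟙 L)) := rfl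
  have e2 : (LTenR A).map (X := (T', (K, L))) (Y := (T, (K, L))) (Prod.mkHom t (Prod.mkHom (𝟙 K) (𝟙 L))) =
      (LTen₂ A).map (Prod.mkHom t (𝟙 ((LTen₂ A).obj (K, L)))) := by
    show (LTen₂ A).map (Prod.mkHom t ((LTen₂ A).map (Prod.mkHom (𝟙 K) (𝟙 L)))) = _
    have : (LTen₂ A).map (Prod.mkHom (𝟙 K) (𝟙 L)) = 𝟙 ((LTen₂ A).obj (K, L)) := by
      rw [← prod_id]
      exact (LTen₂ A).map_id (K, L)
    rw [this]
  rw [e1] at hL
  rw [e2] at hR
  haveI : IsIso ((assocR A).app (T, (K, L))) := inferInstance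
  rw [← cancel_mono ((assocR A).app (T, (K, L))), Category.assoc, associator_hom_assocR]
  erw [hL]
  rw [Category.assoc]
  erw [hR]
  rw [← Category.assoc, associator_hom_assocR]
  rfl

/-- the curry map is an isomorphism -/
theorem main (K L M : Dual.D A) : IsIso (curryHom K L M) := by
  apply isIso_of_yoneda_map_bijective
  intro T
  have key : (fun x : T ⟶ (RHomR A ((LTen₂ A).obj (K, L))).obj M => x ≫ curryHom K L M) =
      fun x => rhomHomEquiv T K _ (rhomHomEquiv _ L M
        ((DTen.associator T K L).hom ≫ (rhomHomEquiv T ((LTen₂ A).obj (K, L)) M).symm x)) := by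
    funext x
    unfold curryHom
    rw [← Adjunction.homEquiv_naturality_left]
    erw [← Adjunction.homEquiv_naturality_left]
    congr 2
    unfold curryHomAux
    rw [Adjunction.homEquiv_counit]
    have := associator_naturality_left x K L
    rw [← Category.assoc, ← Category.assoc]
    congr 1
  rw [key]
  exact (rhomHomEquiv T K _).bijective.comp ((rhomHomEquiv _ L M).bijective.comp
    (((Iso.homFromEquiv (DTen.associator T K L)).symm.bijective).comp
      (rhomHomEquiv T ((LTen₂ A).obj (K, L)) M).symm.bijective))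

end Groth.Agent.Helper6.DTenCurry
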