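import Mathlib
import Groth.Prelude.Def_DTen3
import Groth.Agent.Helper6.DTenX4

/-! `evalTen K L M` is an isomorphism when `K` is perfect. -/

set_option autoImplicit false
universe u
open CategoryTheory CategoryTheory.Limits MonoidalCategory DerivedCategory Pretriangulated
attribute [local instance] HasDerivedCategory.standard

namespace Groth.Agent.Helper6.DTenX
open DTen TenCx

variable {A : Type u} [CommRing A] [HasLTen A] [HasLTen₃ A] [IsSymMonoidal A] [HasRHom A]

instance preservesZero_flip (X : Dual.D A) : ((LTen A).flip.obj X).PreservesZeroMorphisms :=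
  inferInstanceAs (tensorRightD A X).PreservesZeroMorphisms

/-- the property used in the dévissage -/
def PTen (K : Dual.D A) : Prop := ∀ (n : ℤ) (L M : Dual.D A), IsIso (evalTen (K⟦n⟧) L M)

lemma PTen.of_iso {K K' : Dual.D A} (e : K ≅ K') (h : PTen K) : PTen K' := fun n L M =>
  (NatTrans.isIso_app_iff_of_iso (evalTenNat L M) ((shiftFunctor (Dual.D A) n).mapIso e)).mp
    (h n L M)

lemma PTen.of_isZero {K : Dual.D A} (h : IsZero K) : PTen K := fun n L M =>
  isIso_app_of_isZero (evalTenNat L M) ((shiftFunctor (Dual.D A) n).map_isZero h)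

lemma PTen.shift {K : Dual.D A} (h : PTen K) (m : ℤ) : PTen (K⟦m⟧) := fun n L M =>
  (NatTrans.isIso_app_iff_of_iso (evalTenNat L M)
    ((shiftFunctorAdd' (Dual.D A) m n (m + n) rfl).app K)).mp (h (m + n) L M)

lemma PTen.retract {K Z : Dual.D A} (i : K ⟶ Z) (r : Z ⟶ K) (hir : i ≫ r = 𝟙 K) (h : PTen Z) :
    PTen K := fun n L M =>
  isIso_app_of_retract (evalTenNat L M) (i⟦n⟧') (r⟦n⟧')
    (by rw [← Functor.map_comp, hir, CategoryTheory.Functor.map_id]) (h n L M)

lemma PTen.ext (T : Triangle (Dual.D A)) (hT : T ∈ distTriang _) (h1 : PTen T.obj₁)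
    (h3 : PTen T.obj₃) : PTen T.obj₂ := fun n L M => by
  have hT' := Triangle.shift_distinguished T hT n
  have hF : MidExact ((LTen A).flip.obj ((RHomR A M).obj L)) := midExact_LTen_flip_obj _
  have hG : MidExact ((LTen A).flip.obj L ⋙ RHomR A M) :=
    (midExact_LTen_flip_obj L).comp_rightAdjoint (rhomAdj A M)
  exact isIso_app_obj₂ (evalTenNat L M) hF hG _ hT' (h1 n L M) (h3 n L M)
    ((h1.shift n) 1 L M) ((h3.shift n) (-1) L M)

lemma PTen.unit : PTen (DTen.unit A) := fun n L M =>
  isIso_evalTen_of_isEquivalence _ L M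

theorem isIso_evalTen_of_isPerfect (K L M : Dual.D A) (hK : DRing.IsPerfect A K) :
    IsIso (evalTen K L M) := by
  have h : PTen K := perfect_induction PTen (fun e h => h.of_iso e) (fun K hK => PTen.of_isZero hK)
    PTen.ext (fun K n h => h.shift n) (fun K Z i r hir h => h.retract i r hir) PTen.unit hK
  exact (NatTrans.isIso_app_iff_of_iso (evalTenNat L M)
    ((shiftFunctorZero (Dual.D A) ℤ).app K)).mp (h 0 L M)

end Groth.Agent.Helper6.DTenX
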