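import Mathlib
import Groth.Prelude.Def_DRing4
import Groth.Agent.Helper6.HomTenA

/-! Functoriality of `Hom•(P, X)` in the first variable, dinaturality of the evaluation, and
exactness on degreewise split short exact sequences. -/

set_option autoImplicit false
set_option linter.style.haveILetI false
set_option linter.unusedSectionVars false

universe u
open CategoryTheory CategoryTheory.Limits MonoidalCategory
open CochainComplex CochainComplex.HomComplex

namespace Groth.Agent.Helper6.HomTen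
open TenCx DRing

variable {A : Type u} [CommRing A]
variable {P P' X X' : DRing.Cx A}

/-- precomposition on cochains, as a linear map -/
noncomputable def preLin (φ : P ⟶ P') (X : DRing.Cx A) (n : ℤ) :
    Cochain P' X n →ₗ[A] Cochain P X n where
  toFun z := (Cochain.ofHom φ).comp z (zero_add n)
  map_add' z z' := Cochain.comp_add _ _ _ _
  map_smul' a z := Cochain.comp_smul _ _ _ _

/-- `Hom•(-, X)` on morphisms -/
noncomputable def homCxPre (φ : P ⟶ P') (X : DRing.Cx A) : homCx P' X ⟶ homCx P X where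
  f n := ModuleCat.ofHom (preLin φ X n)
  comm' i j _ := by
    ext z
    exact δ_ofHom_comp φ z j

lemma homCxPre_v (φ : P ⟶ P') (X : DRing.Cx A) (n : ℤ) (z : Cochain P' X n) (p q : ℤ)
    (hpq : p + n = q) :
    (((homCxPre φ X).f n).hom z : Cochain P X n).v p q hpq = φ.f p ≫ z.v p q hpq := by
  change ((Cochain.ofHom φ).comp z (zero_add n)).v p q hpq = _
  rw [Cochain.zero_cochain_comp_v, Cochain.ofHom_v]

/-- naturality in the second variable -/
noncomputable def homCxPreNat (φ : P ⟶ P') : homCxFunctor P' ⟶ homCxFunctor P where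
  app X := homCxPre φ X
  naturality X X' ψ := by
    refine HomologicalComplex.hom_ext _ _ (fun n => ?_)
    ext z
    exact (Cochain.comp_assoc_of_first_is_zero_cochain (Cochain.ofHom φ) z (Cochain.ofHom ψ)
      (add_zero n)).symm

/-- dinaturality of the chain-level evaluation -/
lemma evC_dinat (φ : P ⟶ P') (X : DRing.Cx A) :
    (homCxPre φ X ▷ P) ≫ evC P X = (homCx P' X ◁ φ) ≫ evC P' X := by
  refine HomologicalComplex.hom_ext _ _ (fun q => TenCx.hom_ext (fun n p h =>
    ModuleCat.MonoidalCategory.tensor_ext (fun z x => ?_)))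
  rw [HomologicalComplex.comp_f, HomologicalComplex.comp_f, ι_whiskerRight_assoc,
    ι_whiskerLeft_assoc]
  have e1 : ((homCxPre φ X).f n ▷ P.X p).hom (z ⊗ₜ[A] x) =
      ((homCxPre φ X).f n).hom z ⊗ₜ[A] x :=
    ModuleCat.MonoidalCategory.whiskerRight_apply _ _ _ _
  have e2 : (((homCx P' X).X n ◁ φ.f p)).hom (z ⊗ₜ[A] x) = z ⊗ₜ[A] (φ.f p).hom x :=
    ModuleCat.MonoidalCategory.whiskerLeft_apply _ _ _ _
  change ((evC P X).f q).hom ((ι (homCx P X) P n p q h).hom
      (((homCxPre φ X).f n ▷ P.X p).hom (z ⊗ₜ[A] x))) =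
    ((evC P' X).f q).hom ((ι (homCx P' X) P' n p q h).hom
      (((homCx P' X).X n ◁ φ.f p).hom (z ⊗ₜ[A] x)))
  rw [e1, e2]
  refine (evC_tm P X n p q h (((homCxPre φ X).f n).hom z) x).trans ?_
  refine Eq.trans ?_ (evC_tm P' X n p q h z ((φ.f p).hom x)).symm
  rw [homCxPre_v]
  rfl

section SES

lemma preLin_v (φ : P ⟶ P') (X : DRing.Cx A) (n : ℤ) (z : Cochain P' X n) (p q : ℤ)
    (hpq : p + n = q) : (preLin φ X n z).v p q hpq = φ.f p ≫ z.v p q hpq := by
  change ((Cochain.ofHom φ).comp z (zero_add n)).v p q hpq = _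
  rw [Cochain.zero_cochain_comp_v, Cochain.ofHom_v]

lemma preLin_injective (φ : P ⟶ P') (X : DRing.Cx A) (n : ℤ) (s : ∀ p, P'.X p ⟶ P.X p)
    (hs : ∀ p, s p ≫ φ.f p = 𝟙 _) : Function.Injective (preLin φ X n) := by
  rw [injective_iff_map_eq_zero]
  intro z hz
  refine Cochain.ext _ _ (fun p q hpq => ?_)
  have h1 : s p ≫ (preLin φ X n z).v p q hpq = s p ≫ (0 : Cochain P X n).v p q hpq := by rw [hz]
  rw [preLin_v, ← Category.assoc, hs p, Category.id_comp, Cochain.zero_v, comp_zero] at h1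
  rw [h1, Cochain.zero_v]

lemma preLin_surjective (φ : P ⟶ P') (X : DRing.Cx A) (n : ℤ) (r : ∀ p, P'.X p ⟶ P.X p)
    (hr : ∀ p, φ.f p ≫ r p = 𝟙 _) : Function.Surjective (preLin φ X n) := by
  intro z₁
  refine ⟨Cochain.mk (fun p q hpq => r p ≫ z₁.v p q hpq), ?_⟩
  refine Cochain.ext _ _ (fun p q hpq => ?_)
  rw [preLin_v, Cochain.mk_v, ← Category.assoc, hr p, Category.id_comp]

lemma preLin_exact {P₁ P₂ P₃ : DRing.Cx A} (f : P₁ ⟶ P₂) (g : P₂ ⟶ P₃) (X : DRing.Cx A) (n : ℤ)
    (r : ∀ p, P₂.X p ⟶ P₁.X p) (s : ∀ p, P₃.X p ⟶ P₂.X p)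
    (hgs : ∀ p, g.f p ≫ s p = 𝟙 _ - r p ≫ f.f p) (z : Cochain P₂ X n)
    (hz : preLin f X n z = 0) : ∃ z', preLin g X n z' = z := by
  refine ⟨Cochain.mk (fun p q hpq => s p ≫ z.v p q hpq), ?_⟩
  refine Cochain.ext _ _ (fun p q hpq => ?_)
  have h1 : r p ≫ (preLin f X n z).v p q hpq = r p ≫ (0 : Cochain P₁ X n).v p q hpq := by rw [hz]
  rw [preLin_v, Cochain.zero_v, comp_zero] at h1
  rw [preLin_v, Cochain.mk_v, ← Category.assoc, hgs p, Preadditive.sub_comp, Category.id_comp,
    Category.assoc, h1, sub_zero]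

variable (S : ShortComplex (DRing.Cx A)) (X : DRing.Cx A)

/-- `Hom•(-, X)` applied to a short complex of complexes -/
noncomputable def homSC : ShortComplex (DRing.Cx A) :=
  ShortComplex.mk (homCxPre S.g X) (homCxPre S.f X) (by
    refine HomologicalComplex.hom_ext _ _ (fun n => ?_)
    ext z
    change preLin S.f X n (preLin S.g X n z) = 0
    refine Cochain.ext _ _ (fun p q hpq => ?_)
    rw [preLin_v, preLin_v, ← Category.assoc, ← HomologicalComplex.comp_f, S.zero,
      HomologicalComplex.zero_f, zero_comp, Cochain.zero_v])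

variable {S}

theorem homSC_shortExact (σ : ∀ n, (S.map (HomologicalComplex.eval _ _ n)).Splitting) :
    (homSC S X).ShortExact := by
  apply HomologicalComplex.shortExact_of_degreewise_shortExact
  intro n
  obtain ⟨r, s, hr, hs, hgs⟩ : ∃ (r : ∀ p, S.X₂.X p ⟶ S.X₁.X p) (s : ∀ p, S.X₃.X p ⟶ S.X₂.X p),
      (∀ p, S.f.f p ≫ r p = 𝟙 (S.X₁.X p)) ∧ (∀ p, s p ≫ S.g.f p = 𝟙 (S.X₃.X p)) ∧
      (∀ p, S.g.f p ≫ s p = 𝟙 (S.X₂.X p) - r p ≫ S.f.f p) :=
    ⟨fun p => (σ p).r, fun p => (σ p).s, fun p => (σ p).f_r, fun p => (σ p).s_g,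
      fun p => (σ p).g_s⟩
  have hinj : Function.Injective ((homCxPre S.g X).f n).hom := preLin_injective S.g X n s hs
  have hsurj : Function.Surjective ((homCxPre S.f X).f n).hom := preLin_surjective S.f X n r hr
  have hex : ∀ y, ((homCxPre S.f X).f n).hom y = 0 → ∃ x, ((homCxPre S.g X).f n).hom x = y :=
    fun z hz => preLin_exact S.f S.g X n r s hgs z hz
  haveI : Mono ((homSC S X).map (HomologicalComplex.eval _ _ n)).f :=
    (ModuleCat.mono_iff_injective _).mpr hinj
  haveI : Epi ((homSC S X).map (HomologicalComplex.eval _ _ n)).g :=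
    (ModuleCat.epi_iff_surjective _).mpr hsurj
  exact ShortComplex.ShortExact.mk ((ShortComplex.moduleCat_exact_iff _).mpr hex)

end SES

end Groth.Agent.Helper6.HomTen
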