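import Mathlib
import Groth.Prelude.Def_DTen3
import Groth.Agent.Helper6.HomTenB
import Groth.Agent.Helper6.RHomProj
import Groth.Agent.Helper6.TenCompute
import Groth.Agent.Helper6.DTenX3
import Groth.Agent.Helper6.KProjRes

/-! For a K-projective complex `P`, the chosen internal hom `RHom(QP, QX)` of `D(A)` is computed by
the Hom complex: `RHom(QP, QX) ≅ Q(Hom•(P, X))`, compatibly with evaluation and naturally in `P`. -/

set_option autoImplicit false
set_option linter.style.haveILetI false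
set_option linter.unusedSectionVars false

universe u
open CategoryTheory CategoryTheory.Limits MonoidalCategory DerivedCategory
attribute [local instance] HasDerivedCategory.standard

namespace Groth.Agent.Helper6.HomTen
open TenCx DRing DTen Groth.Agent.Helper6.DTenX

variable {A : Type u} [CommRing A]

/-- K-projective complexes are K-flat -/
theorem kflat_of_isKProjective (P : DRing.Cx A) [P.IsKProjective] : KFlat P := by
  obtain ⟨K, f, hK, hKf, -, hf, -⟩ := KProjRes.exists_resolution P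
  haveI := hK
  haveI := hf
  obtain ⟨e, -⟩ := (CochainComplex.IsKProjective.quasiIso_iff f).mp hf
  exact kflat_of_homotopyEquiv e hKf

section HD

variable (P : DRing.Cx A) [P.IsKProjective]

lemma inverts_homCxQ : (DTen.qis A).IsInvertedBy (DRing.homCxQ P) := by
  intro X Y f hf
  haveI : QuasiIso f := (HomologicalComplex.mem_quasiIso_iff f).mp hf
  haveI := RHomProj.quasiIso_homCxMap P f
  change IsIso (DerivedCategory.Q.map (DRing.homCxMap P f))
  infer_instance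

/-- `Hom•(P, -)` on the derived category -/
noncomputable def HD : Dual.D A ⥤ Dual.D A :=
  Localization.lift (DRing.homCxQ P) (inverts_homCxQ P) Q

/-- `HD` restricted to complexes -/
noncomputable def HDfac : Q ⋙ HD P ≅ DRing.homCxFunctor P ⋙ Q :=
  Localization.fac _ _ _

noncomputable instance : CatCommSq (DRing.homCxFunctor P) Q Q (HD P) := ⟨(HDfac P).symm⟩

variable [HasLTen A]

instance isIso_εRight : IsIso (εRight A P) := by
  haveI : ∀ W, IsIso ((εRight A P).app W) := fun W =>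
    TenCompute.isIso_ε_of_kflat A W P (Or.inr (kflat_of_isKProjective P))
  exact NatIso.isIso_of_isIso_app _

/-- `(- ⊗ P) ⋙ Q ≅ Q ⋙ (- ⊗^L QP)` -/
noncomputable def tenIso : tensorRight P ⋙ Q ≅ Q ⋙ (LTen A).flip.obj (Q.obj P) :=
  (asIso (εRight A P)).symm

noncomputable instance : CatCommSq (tensorRight P) Q Q ((LTen A).flip.obj (Q.obj P)) :=
  ⟨tenIso P⟩

/-- the derived adjunction `(- ⊗^L QP) ⊣ Hom•(P,-)` -/
noncomputable def adjD : (LTen A).flip.obj (Q.obj P) ⊣ HD P :=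
  (adjC P).localization Q (DTen.qis A) Q (DTen.qis A) _ _

lemma adjD_counit_app (X : DRing.Cx A) :
    (adjD P).counit.app (Q.obj X) =
      ((LTen A).flip.obj (Q.obj P)).map ((HDfac P).hom.app X) ≫
        (ε A).app (homCx P X, P) ≫ Q.map (evC P X) := by
  have := Adjunction.localization_counit_app (adjC P) Q (DTen.qis A) Q (DTen.qis A)
    ((LTen A).flip.obj (Q.obj P)) (HD P) X
  rw [adjC_counit_app] at this
  exact this

variable [HasRHom A]

/-- comparison of the chosen right adjoint with `Hom•(P,-)` -/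
noncomputable def θ : RHomR A (Q.obj P) ≅ HD P :=
  (rhomAdj A (Q.obj P)).rightAdjointUniq (adjD P)

/-- `RHom(QP, QX) ≅ Q(Hom•(P, X))` -/
noncomputable def ρ (X : DRing.Cx A) :
    (RHomR A (Q.obj P)).obj (Q.obj X) ≅ Q.obj (homCx P X) :=
  (θ P).app (Q.obj X) ≪≫ (HDfac P).app X

lemma ρ_fac (X : DRing.Cx A) :
    T₂ (ρ P X).hom (𝟙 (Q.obj P)) ≫ (ε A).app (homCx P X, P) ≫ Q.map (evC P X) =
      ev (Q.obj P) (Q.obj X) := by
  have h1 := Adjunction.rightAdjointUniq_hom_app_counit (rhomAdj A (Q.obj P)) (adjD P) (Q.obj X)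
  rw [adjD_counit_app] at h1
  have e : T₂ (ρ P X).hom (𝟙 (Q.obj P)) =
      ((LTen A).flip.obj (Q.obj P)).map ((θ P).hom.app (Q.obj X)) ≫
        ((LTen A).flip.obj (Q.obj P)).map ((HDfac P).hom.app X) := by
    rw [← Functor.map_comp]
    rfl
  rw [e]
  exact (Category.assoc _ _ _).trans h1

lemma ρ_inv_ev (X : DRing.Cx A) :
    T₂ (ρ P X).inv (𝟙 (Q.obj P)) ≫ ev (Q.obj P) (Q.obj X) =
      (ε A).app (homCx P X, P) ≫ Q.map (evC P X) := by
  rw [← ρ_fac, T₂_comp_assoc, Iso.inv_hom_id, Category.comp_id, T₂_id, Category.id_comp]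

lemma ρ_ext (X : DRing.Cx A) {Z : Dual.D A} (a b : Z ⟶ Q.obj (homCx P X))
    (h : T₂ a (𝟙 (Q.obj P)) ≫ (ε A).app (homCx P X, P) ≫ Q.map (evC P X) =
      T₂ b (𝟙 (Q.obj P)) ≫ (ε A).app (homCx P X, P) ≫ Q.map (evC P X)) : a = b := by
  have key : ∀ c : Z ⟶ Q.obj (homCx P X),
      (rhomHomEquiv Z (Q.obj P) (Q.obj X)).symm (c ≫ (ρ P X).inv) =
        T₂ c (𝟙 (Q.obj P)) ≫ (ε A).app (homCx P X, P) ≫ Q.map (evC P X) := by
    intro c
    rw [Adjunction.homEquiv_counit]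
    change T₂ (c ≫ (ρ P X).inv) (𝟙 (Q.obj P)) ≫ ev (Q.obj P) (Q.obj X) = _
    rw [← ρ_inv_ev, T₂_comp_assoc, Category.comp_id]
  have := (rhomHomEquiv Z (Q.obj P) (Q.obj X)).symm.injective
    ((key a).trans (h.trans (key b).symm))
  exact (cancel_mono (ρ P X).inv).mp this

end HD

section nat

variable [HasLTen A] [HasRHom A]
variable {P P' : DRing.Cx A} [P.IsKProjective] [P'.IsKProjective]

theorem ρ_naturality (φ : P ⟶ P') (X : DRing.Cx A) :
    (ρ P' X).hom ≫ Q.map (homCxPre φ X) = RHomMap (Q.map φ) (Q.obj X) ≫ (ρ P X).hom := by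
  apply ρ_ext P X
  have hε1 : T₂ (Q.map (homCxPre φ X)) (𝟙 (Q.obj P)) ≫ (ε A).app (homCx P X, P) =
      (ε A).app (homCx P' X, P) ≫ Q.map (homCxPre φ X ▷ P) :=
    (εRight A P).naturality (homCxPre φ X)
  have hε2 : T₂ (𝟙 (Q.obj (homCx P' X))) (Q.map φ) ≫ (ε A).app (homCx P' X, P') =
      (ε A).app (homCx P' X, P) ≫ Q.map (homCx P' X ◁ φ) :=
    (εLeft A (homCx P' X)).naturality φ
  calc T₂ ((ρ P' X).hom ≫ Q.map (homCxPre φ X)) (𝟙 (Q.obj P)) ≫
        (ε A).app (homCx P X, P) ≫ Q.map (evC P X)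
      = T₂ (ρ P' X).hom (𝟙 (Q.obj P)) ≫ (T₂ (Q.map (homCxPre φ X)) (𝟙 (Q.obj P)) ≫
          (ε A).app (homCx P X, P)) ≫ Q.map (evC P X) := by
        rw [Category.assoc, T₂_comp_assoc, Category.comp_id]
    _ = T₂ (ρ P' X).hom (𝟙 (Q.obj P)) ≫ (ε A).app (homCx P' X, P) ≫
          Q.map ((homCxPre φ X ▷ P) ≫ evC P X) := by
        rw [hε1, Category.assoc, ← Functor.map_comp]
    _ = T₂ (ρ P' X).hom (𝟙 (Q.obj P)) ≫ (ε A).app (homCx P' X, P) ≫
          Q.map ((homCx P' X ◁ φ) ≫ evC P' X) := by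
        rw [evC_dinat]
    _ = T₂ (ρ P' X).hom (𝟙 (Q.obj P)) ≫ T₂ (𝟙 (Q.obj (homCx P' X))) (Q.map φ) ≫
          (ε A).app (homCx P' X, P') ≫ Q.map (evC P' X) := by
        rw [Functor.map_comp, ← Category.assoc ((ε A).app (homCx P' X, P)), ← hε2, Category.assoc]
    _ = T₂ (𝟙 _) (Q.map φ) ≫ T₂ (ρ P' X).hom (𝟙 (Q.obj P')) ≫
          (ε A).app (homCx P' X, P') ≫ Q.map (evC P' X) := by
        rw [T₂_comp_assoc, T₂_comp_assoc, Category.comp_id, Category.id_comp, Category.id_comp,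
          Category.comp_id]
    _ = T₂ (𝟙 _) (Q.map φ) ≫ ev (Q.obj P') (Q.obj X) := by rw [ρ_fac]
    _ = T₂ (RHomMap (Q.map φ) (Q.obj X)) (𝟙 (Q.obj P)) ≫ ev (Q.obj P) (Q.obj X) :=
        (RHom_map_ev (Q.map φ) (Q.obj X)).symm
    _ = T₂ (RHomMap (Q.map φ) (Q.obj X)) (𝟙 (Q.obj P)) ≫ T₂ (ρ P X).hom (𝟙 (Q.obj P)) ≫
          (ε A).app (homCx P X, P) ≫ Q.map (evC P X) := by rw [ρ_fac]
    _ = T₂ (RHomMap (Q.map φ) (Q.obj X) ≫ (ρ P X).hom) (𝟙 (Q.obj P)) ≫
          (ε A).app (homCx P X, P) ≫ Q.map (evC P X) := by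
        rw [T₂_comp_assoc, Category.comp_id]

end nat

end Groth.Agent.Helper6.HomTen
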