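import Mathlib
import Groth.Prelude.Def_DTen3
import Groth.Agent.Helper6.HomTenC
import Groth.Agent.Helper6.KProjQ

/-! `RHom(-, L)` sends distinguished triangles to (co-Yoneda) exact sequences. -/

set_option autoImplicit false
set_option linter.style.haveILetI false
set_option linter.unusedSectionVars false

universe u
open CategoryTheory CategoryTheory.Limits MonoidalCategory DerivedCategory Pretriangulated
attribute [local instance] HasDerivedCategory.standard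

namespace Groth.Agent.Helper6.HomTen
open TenCx DRing DTen Groth.Agent.Helper6.DTenX

variable {A : Type u} [CommRing A] [HasLTen A] [HasRHom A]

lemma RHomMap_comp {K K' K'' : Dual.D A} (a : K'' ⟶ K') (b : K' ⟶ K) (L : Dual.D A) :
    RHomMap (a ≫ b) L = RHomMap b L ≫ RHomMap a L := by
  have : (RHom A).map (a ≫ b).op = (RHom A).map b.op ≫ (RHom A).map a.op := by
    rw [op_comp, Functor.map_comp]
  exact congrArg (fun t => t.app L) this

lemma RHomMap_id (K L : Dual.D A) : RHomMap (𝟙 K) L = 𝟙 _ := by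
  have : (RHom A).map (𝟙 K).op = 𝟙 _ := by
    rw [op_id, CategoryTheory.Functor.map_id]
  exact congrArg (fun t => t.app L) this

lemma RHomMap_naturality {K K' : Dual.D A} (k : K' ⟶ K) {M M' : Dual.D A} (m : M ⟶ M') :
    (RHomR A K).map m ≫ RHomMap k M' = RHomMap k M ≫ (RHomR A K').map m :=
  ((RHom A).map k.op).naturality m

instance isIso_RHomMap {K K' : Dual.D A} (k : K' ⟶ K) [IsIso k] (L : Dual.D A) :
    IsIso (RHomMap k L) :=
  inferInstanceAs (IsIso (((RHom A).flip.obj L).map k.op))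

/-- co-Yoneda exactness of `RHom(-, QX)` on degreewise split SES of K-projectives -/
theorem rhom_exact_Q (S : ShortComplex (DRing.Cx A))
    (σ : ∀ n, (S.map (HomologicalComplex.eval _ _ n)).Splitting)
    [S.X₁.IsKProjective] [S.X₂.IsKProjective] [S.X₃.IsKProjective] (X : DRing.Cx A)
    (N : Dual.D A) (y : (RHomR A (Q.obj S.X₂)).obj (Q.obj X) ⟶ N)
    (hy : RHomMap (Q.map S.g) (Q.obj X) ≫ y = 0) :
    ∃ y' : (RHomR A (Q.obj S.X₁)).obj (Q.obj X) ⟶ N,
      RHomMap (Q.map S.f) (Q.obj X) ≫ y' = y := by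
  have hH := homSC_shortExact (S := S) X σ
  have hT := DerivedCategory.triangleOfSES_distinguished hH
  have n1 := ρ_naturality S.g X
  have n2 := ρ_naturality S.f X
  have e : (triangleOfSES hH).mor₁ ≫ ((ρ S.X₂ X).inv ≫ y) = 0 := by
    show Q.map (homCxPre S.g X) ≫ (ρ S.X₂ X).inv ≫ y = 0
    have : Q.map (homCxPre S.g X) ≫ (ρ S.X₂ X).inv =
        (ρ S.X₃ X).inv ≫ RHomMap (Q.map S.g) (Q.obj X) := by
      rw [Iso.comp_inv_eq, Category.assoc, ← n1, Iso.inv_hom_id_assoc]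
    rw [← Category.assoc, this, Category.assoc, hy, comp_zero]
  obtain ⟨y₁, hy₁⟩ := Triangle.yoneda_exact₂ _ hT _ e
  have hy₁' : Q.map (homCxPre S.f X) ≫ y₁ = (ρ S.X₂ X).inv ≫ y := hy₁.symm
  refine ⟨(ρ S.X₁ X).hom ≫ y₁, ?_⟩
  rw [← Category.assoc, ← n2, Category.assoc, hy₁', Iso.hom_inv_id_assoc]

/-- the same for an arbitrary second variable -/
theorem rhom_exact (S : ShortComplex (DRing.Cx A))
    (σ : ∀ n, (S.map (HomologicalComplex.eval _ _ n)).Splitting)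
    [S.X₁.IsKProjective] [S.X₂.IsKProjective] [S.X₃.IsKProjective] (L N : Dual.D A)
    (y : (RHomR A (Q.obj S.X₂)).obj L ⟶ N) (hy : RHomMap (Q.map S.g) L ≫ y = 0) :
    ∃ y' : (RHomR A (Q.obj S.X₁)).obj L ⟶ N, RHomMap (Q.map S.f) L ≫ y' = y := by
  obtain ⟨X, ⟨e⟩⟩ : ∃ X : DRing.Cx A, Nonempty (Q.obj X ≅ L) :=
    ⟨Q.objPreimage L, ⟨Q.objObjPreimageIso L⟩⟩
  obtain ⟨y0, hy0def⟩ : ∃ y0 : (RHomR A (Q.obj S.X₂)).obj (Q.obj X) ⟶ N,
      y0 = (RHomR A (Q.obj S.X₂)).map e.hom ≫ y := ⟨_, rfl⟩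
  have hy0 : RHomMap (Q.map S.g) (Q.obj X) ≫ y0 = 0 := by
    rw [hy0def, ← Category.assoc, ← RHomMap_naturality, Category.assoc, hy, comp_zero]
  obtain ⟨y0', h0⟩ := rhom_exact_Q S σ X N y0 hy0
  refine ⟨(RHomR A (Q.obj S.X₁)).map e.inv ≫ y0', ?_⟩
  rw [← Category.assoc, ← RHomMap_naturality, Category.assoc, h0, hy0def, ← Category.assoc,
    ← Functor.map_comp, e.inv_hom_id, CategoryTheory.Functor.map_id, Category.id_comp]

/-- `RHom(-, L)` is co-Yoneda-exact at the triangle `T` -/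
def RExactAt (L : Dual.D A) (T : Triangle (Dual.D A)) : Prop :=
  ∀ (N : Dual.D A) (y : (RHomR A T.obj₂).obj L ⟶ N), RHomMap T.mor₂ L ≫ y = 0 →
    ∃ y' : (RHomR A T.obj₁).obj L ⟶ N, RHomMap T.mor₁ L ≫ y' = y

lemma RExactAt.of_iso {L : Dual.D A} {T T' : Triangle (Dual.D A)} (e : T ≅ T')
    (h : RExactAt L T') : RExactAt L T := by
  intro N y hy
  have c2 : e.hom.hom₂ ≫ T'.mor₂ = T.mor₂ ≫ e.hom.hom₃ := e.hom.comm₂.symm
  have c1 : e.inv.hom₁ ≫ T.mor₁ = T'.mor₁ ≫ e.inv.hom₂ := e.inv.comm₁.symm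
  obtain ⟨z, hz⟩ := h N (RHomMap e.hom.hom₂ L ≫ y) (by
    rw [← Category.assoc, ← RHomMap_comp, c2, RHomMap_comp, Category.assoc, hy, comp_zero])
  refine ⟨RHomMap e.inv.hom₁ L ≫ z, ?_⟩
  rw [← Category.assoc, ← RHomMap_comp, c1, RHomMap_comp, Category.assoc, hz, ← Category.assoc,
    ← RHomMap_comp]
  have : e.hom.hom₂ ≫ e.inv.hom₂ = 𝟙 _ := by
    rw [← comp_hom₂, e.hom_inv_id]; rfl
  rw [this, RHomMap_id, Category.id_comp]

lemma rExactAt_rotate (L : Dual.D A) {K K' : DRing.Cx A} [K.IsKProjective] [K'.IsKProjective]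
    (φ : K ⟶ K') :
    RExactAt L (Q.mapTriangle.obj (CochainComplex.mappingCone.triangle φ)).rotate := by
  intro N y hy
  obtain ⟨S, hS⟩ : ∃ S : ShortComplex (DRing.Cx A),
      S = CochainComplex.mappingCone.triangleRotateShortComplex φ := ⟨_, rfl⟩
  have σ : ∀ n, (S.map (HomologicalComplex.eval _ _ n)).Splitting := by
    rw [hS]
    exact CochainComplex.mappingCone.triangleRotateShortComplexSplitting φ
  haveI : S.X₁.IsKProjective := by rw [hS]; exact (inferInstance : K'.IsKProjective)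
  haveI : S.X₂.IsKProjective := by rw [hS]; exact KProjRes.isKProjective_mappingCone φ
  haveI : S.X₃.IsKProjective := by
    rw [hS]; exact (inferInstance : (K⟦(1 : ℤ)⟧).IsKProjective)
  subst hS
  obtain ⟨c, hc⟩ : ∃ c : Q.obj (CochainComplex.mappingCone.triangleRotateShortComplex φ).X₃ ≅
      (Q.obj K)⟦(1 : ℤ)⟧, c = (Q.commShiftIso (1 : ℤ)).app K := ⟨_, rfl⟩
  have h0 : RHomMap (Q.map (CochainComplex.mappingCone.triangleRotateShortComplex φ).g ≫ c.hom) L
      ≫ y = 0 := by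
    rw [hc]; exact hy
  rw [RHomMap_comp, Category.assoc] at h0
  have h1 : RHomMap (Q.map (CochainComplex.mappingCone.triangleRotateShortComplex φ).g) L ≫ y
      = 0 :=
    (cancel_epi (RHomMap c.hom L)).mp (h0.trans comp_zero.symm)
  exact rhom_exact _ σ L N y h1

theorem rExactAt_of_distinguished (L : Dual.D A) (T : Triangle (Dual.D A))
    (hT : T ∈ distTriang (Dual.D A)) : RExactAt L T := by
  have hTi := inv_rot_of_distTriang _ hT
  obtain ⟨K, K', φ, ⟨e⟩⟩ := (DerivedCategory.mem_distTriang_iff _).mp hTi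
  obtain ⟨PK, pK, hPK, -, -, hqK, -⟩ := KProjRes.exists_resolution K
  obtain ⟨PK', pK', hPK', -, -, hqK', -⟩ := KProjRes.exists_resolution K'
  haveI := hPK
  haveI := hPK'
  haveI : IsIso (Q.map pK) := by
    rw [DerivedCategory.isIso_Q_map_iff_quasiIso]; exact hqK
  haveI : IsIso (Q.map pK') := by
    rw [DerivedCategory.isIso_Q_map_iff_quasiIso]; exact hqK'
  obtain ⟨φ', hφ'⟩ := KProjQ.Q_map_surjective PK PK' (Q.map pK ≫ Q.map φ ≫ inv (Q.map pK'))
  have hT1 : Q.mapTriangle.obj (CochainComplex.mappingCone.triangle φ') ∈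
      distTriang (Dual.D A) :=
    (DerivedCategory.mem_distTriang_iff _).mpr ⟨_, _, φ', ⟨Iso.refl _⟩⟩
  have hT2 : Q.mapTriangle.obj (CochainComplex.mappingCone.triangle φ) ∈
      distTriang (Dual.D A) :=
    (DerivedCategory.mem_distTriang_iff _).mpr ⟨_, _, φ, ⟨Iso.refl _⟩⟩
  obtain ⟨i1, hi1⟩ : ∃ i1 : Q.obj PK ≅ Q.obj K, i1.hom = Q.map pK := ⟨asIso (Q.map pK), rfl⟩
  obtain ⟨i2, hi2⟩ : ∃ i2 : Q.obj PK' ≅ Q.obj K', i2.hom = Q.map pK' := ⟨asIso (Q.map pK'), rfl⟩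
  have comm : Q.map φ' ≫ i2.hom = i1.hom ≫ Q.map φ := by
    rw [hi1, hi2, hφ', Category.assoc, Category.assoc, IsIso.inv_hom_id, Category.comp_id]
  have e' : Q.mapTriangle.obj (CochainComplex.mappingCone.triangle φ') ≅
      Q.mapTriangle.obj (CochainComplex.mappingCone.triangle φ) :=
    isoTriangleOfIso₁₂ _ _ hT1 hT2 i1 i2 comm
  have e'' : T ≅ (Q.mapTriangle.obj (CochainComplex.mappingCone.triangle φ')).rotate :=
    ((triangleRotation (Dual.D A)).counitIso.app T).symm ≪≫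
      (rotate (Dual.D A)).mapIso (e ≪≫ e'.symm)
  exact (rExactAt_rotate L φ').of_iso e''

end Groth.Agent.Helper6.HomTen
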