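import Mathlib
import Groth.Prelude.Def_DTen3
import Groth.Agent.Helper6.HomTenD
import Groth.Agent.Helper6.DTenX5

/-! `evalHom K L M` is natural in `K`; the target functor is mid-exact. -/

set_option autoImplicit false
set_option linter.style.haveILetI false
set_option linter.unusedSectionVars false

universe u
open CategoryTheory CategoryTheory.Limits MonoidalCategory DerivedCategory Pretriangulated
attribute [local instance] HasDerivedCategory.standard

namespace Groth.Agent.Helper6.DTenE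
open DTen TenCx Groth.Agent.Helper6.DTenX Groth.Agent.Helper6.HomTen

variable {A : Type u} [CommRing A] [HasLTen A] [HasLTen₃ A] [IsSymMonoidal A] [HasRHom A]

instance preservesZero_obj (X : Dual.D A) : ((LTen A).obj X).PreservesZeroMorphisms :=
  Functor.preservesZeroMorphisms_of_iso (symmIso X).symm

lemma T₂_zero_left {a a' : Dual.D A} (b : Dual.D A) : T₂ (0 : a ⟶ a') (𝟙 b) = 0 :=
  ((LTen A).flip.obj b).map_zero _ _

lemma T₂_zero_right (a : Dual.D A) {b b' : Dual.D A} : T₂ (𝟙 a) (0 : b ⟶ b') = 0 :=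
  ((LTen A).obj a).map_zero _ _

lemma symm_nat {a a' b b' : Dual.D A} (f : a ⟶ a') (g : b ⟶ b') :
    T₂ g f ≫ (symm A).app (a', b') = (symm A).app (a, b) ≫ T₂ f g :=
  (symm A).naturality (X := (a, b)) (Y := (a', b')) (Prod.mkHom f g)

lemma homEquiv_symm_eq (W X M : Dual.D A) (g : W ⟶ (RHomR A X).obj M) :
    (rhomHomEquiv W X M).symm g = T₂ g (𝟙 X) ≫ ev X M :=
  Adjunction.homEquiv_counit _ _ _ _

lemma RHomMap_zero (K K' L : Dual.D A) : RHomMap (0 : K' ⟶ K) L = 0 := by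
  apply (rhomHomEquiv ((RHomR A K).obj L) K' L).symm.injective
  rw [homEquiv_symm_eq, homEquiv_symm_eq, T₂_zero_left, zero_comp, RHom_map_ev]
  change T₂ (𝟙 _) (0 : K' ⟶ K) ≫ ev K L = 0
  rw [T₂_zero_right]
  exact zero_comp

/-- `K ↦ RHom(RHom(K, L), M)` -/
noncomputable def GF (L M : Dual.D A) : Dual.D A ⥤ Dual.D A :=
  ((RHom A).flip.obj L).rightOp ⋙ (RHom A).flip.obj M

lemma GF_map (L M : Dual.D A) {K K' : Dual.D A} (k : K ⟶ K') :
    (GF L M).map k = RHomMap (RHomMap k L) M := rfl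

instance (L M : Dual.D A) : (GF L M).PreservesZeroMorphisms :=
  ⟨fun K K' => by
    rw [GF_map, RHomMap_zero, RHomMap_zero]
    rfl⟩

theorem evalHom_naturality {K K' : Dual.D A} (k : K ⟶ K') (L M : Dual.D A) :
    T₂ (𝟙 ((RHomR A L).obj M)) k ≫ evalHom K' L M =
      evalHom K L M ≫ RHomMap (RHomMap k L) M := by
  apply (rhomHomEquiv _ ((RHomR A K').obj L) M).symm.injective
  rw [homEquiv_symm_eq, homEquiv_symm_eq]
  have inner1 : T₂ k (𝟙 ((RHomR A K').obj L)) ≫ ((symm A).app ((RHomR A K').obj L, K') ≫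
      ev K' L) = (symm A).app ((RHomR A K').obj L, K) ≫ T₂ (𝟙 ((RHomR A K').obj L)) k ≫
      ev K' L := by
    rw [← Category.assoc, symm_nat, Category.assoc]
  have inner2 : T₂ (𝟙 K) (RHomMap k L) ≫ ((symm A).app ((RHomR A K).obj L, K) ≫ ev K L) =
      (symm A).app ((RHomR A K').obj L, K) ≫ T₂ (𝟙 ((RHomR A K').obj L)) k ≫ ev K' L := by
    rw [← Category.assoc, symm_nat, Category.assoc, RHom_map_ev]
  have hL : T₂ (T₂ (𝟙 ((RHomR A L).obj M)) k ≫ evalHom K' L M) (𝟙 ((RHomR A K').obj L)) ≫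
      ev ((RHomR A K').obj L) M =
      (DTen.associator ((RHomR A L).obj M) K ((RHomR A K').obj L)).hom ≫
        T₂ (𝟙 _) ((symm A).app ((RHomR A K').obj L, K) ≫ T₂ (𝟙 ((RHomR A K').obj L)) k ≫
          ev K' L) ≫ ev L M := by
    have e1 : T₂ (T₂ (𝟙 ((RHomR A L).obj M)) k ≫ evalHom K' L M) (𝟙 ((RHomR A K').obj L)) =
        T₂ (T₂ (𝟙 _) k) (𝟙 _) ≫ T₂ (evalHom K' L M) (𝟙 _) := by
      rw [T₂_comp, Category.comp_id]
    rw [e1, Category.assoc]
    have := evalHom_fac K' L M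
    change T₂ (evalHom K' L M) (𝟙 _) ≫ ev ((RHomR A K').obj L) M = evalHomAux K' L M at this
    rw [this]
    unfold evalHomAux
    change T₂ (T₂ (𝟙 _) k) (𝟙 _) ≫ (DTen.associator _ K' _).hom ≫
      T₂ (𝟙 _) ((symm A).app ((RHomR A K').obj L, K') ≫ ev K' L) ≫ ev L M = _
    rw [DTenX.associator_naturality_assoc, T₂_comp_assoc, Category.id_comp, inner1]
  have hR : T₂ (evalHom K L M ≫ RHomMap (RHomMap k L) M) (𝟙 ((RHomR A K').obj L)) ≫
      ev ((RHomR A K').obj L) M =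
      (DTen.associator ((RHomR A L).obj M) K ((RHomR A K').obj L)).hom ≫
        T₂ (𝟙 _) ((symm A).app ((RHomR A K').obj L, K) ≫ T₂ (𝟙 ((RHomR A K').obj L)) k ≫
          ev K' L) ≫ ev L M := by
    have e1 : T₂ (evalHom K L M ≫ RHomMap (RHomMap k L) M) (𝟙 ((RHomR A K').obj L)) =
        T₂ (evalHom K L M) (𝟙 _) ≫ T₂ (RHomMap (RHomMap k L) M) (𝟙 _) := by
      rw [T₂_comp, Category.comp_id]
    rw [e1, Category.assoc, RHom_map_ev (RHomMap k L) M]
    have e2 : T₂ (evalHom K L M) (𝟙 ((RHomR A K').obj L)) ≫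
        T₂ (𝟙 ((RHomR A ((RHomR A K).obj L)).obj M)) (RHomMap k L) =
        T₂ (𝟙 _) (RHomMap k L) ≫ T₂ (evalHom K L M) (𝟙 ((RHomR A K).obj L)) := by
      rw [T₂_comp, T₂_comp, Category.id_comp, Category.comp_id, Category.id_comp,
        Category.comp_id]
    rw [← Category.assoc, e2, Category.assoc]
    have := evalHom_fac K L M
    change T₂ (evalHom K L M) (𝟙 _) ≫ ev ((RHomR A K).obj L) M = evalHomAux K L M at this
    rw [this]
    unfold evalHomAux
    change T₂ (𝟙 ((LTen₂ A).obj ((RHomR A L).obj M, K))) (RHomMap k L) ≫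
      (DTen.associator _ K _).hom ≫
      T₂ (𝟙 _) ((symm A).app ((RHomR A K).obj L, K) ≫ ev K L) ≫ ev L M = _
    rw [← T₂_id, DTenX.associator_naturality_assoc, T₂_comp_assoc, Category.id_comp, inner2]
  rw [hL, hR]

/-- `evalHom` as a natural transformation in the first variable -/
noncomputable def evalHomNat (L M : Dual.D A) :
    (LTen A).obj ((RHomR A L).obj M) ⟶ GF L M where
  app K := evalHom K L M
  naturality K K' k := evalHom_naturality k L M

/-! ### mid-exactness of the target -/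

/-- `Hom(W, RHom(RHom(K,L),M)) ≃ Hom(RHom(K,L), RHom(W,M))` -/
noncomputable def flatEquiv (L M K W : Dual.D A) :
    (W ⟶ (RHomR A ((RHomR A K).obj L)).obj M) ≃ ((RHomR A K).obj L ⟶ (RHomR A W).obj M) :=
  (rhomHomEquiv W ((RHomR A K).obj L) M).symm.trans
    (((Iso.homFromEquiv (DTen.braiding W ((RHomR A K).obj L))).symm).trans
      (rhomHomEquiv ((RHomR A K).obj L) W M))

lemma flatEquiv_apply (L M K W : Dual.D A) (g : W ⟶ (RHomR A ((RHomR A K).obj L)).obj M) :
    flatEquiv L M K W g = rhomHomEquiv ((RHomR A K).obj L) W M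
      ((symm A).app (W, (RHomR A K).obj L) ≫
        (rhomHomEquiv W ((RHomR A K).obj L) M).symm g) := rfl

lemma flatEquiv_naturality (L M : Dual.D A) {K K' : Dual.D A} (k : K ⟶ K') (W : Dual.D A)
    (g : W ⟶ (RHomR A ((RHomR A K).obj L)).obj M) :
    flatEquiv L M K' W (g ≫ RHomMap (RHomMap k L) M) = RHomMap k L ≫ flatEquiv L M K W g := by
  rw [flatEquiv_apply, flatEquiv_apply, homEquiv_symm_eq, homEquiv_symm_eq]
  have e1 : T₂ (g ≫ RHomMap (RHomMap k L) M) (𝟙 ((RHomR A K').obj L)) ≫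
      ev ((RHomR A K').obj L) M =
      T₂ (𝟙 W) (RHomMap k L) ≫ T₂ g (𝟙 ((RHomR A K).obj L)) ≫ ev ((RHomR A K).obj L) M := by
    have e0 : T₂ (g ≫ RHomMap (RHomMap k L) M) (𝟙 ((RHomR A K').obj L)) =
        T₂ g (𝟙 _) ≫ T₂ (RHomMap (RHomMap k L) M) (𝟙 _) := by
      rw [T₂_comp, Category.comp_id]
    rw [e0, Category.assoc, RHom_map_ev (RHomMap k L) M, T₂_comp_assoc, T₂_comp_assoc,
      Category.id_comp, Category.comp_id, Category.id_comp, Category.comp_id]
  rw [e1, ← Category.assoc, ← symm_nat, Category.assoc]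
  exact Adjunction.homEquiv_naturality_left (rhomAdj A W) (RHomMap k L) _

lemma flatEquiv_zero (L M K W : Dual.D A) : flatEquiv L M K W 0 = 0 := by
  rw [flatEquiv_apply, homEquiv_symm_eq, T₂_zero_left, zero_comp, comp_zero]
  rw [Adjunction.homEquiv_unit, Functor.map_zero, comp_zero]

theorem midExact_GF (L M : Dual.D A) : MidExact (GF L M) := by
  intro T hT W g hg
  have hR := rExactAt_of_distinguished L T hT
  obtain ⟨g', hg'⟩ : ∃ g' : W ⟶ (RHomR A ((RHomR A T.obj₂).obj L)).obj M, g' = g := ⟨_, rfl⟩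
  have hg2 : g' ≫ RHomMap (RHomMap T.mor₂ L) M = 0 := by rw [hg']; exact hg
  have h0 : RHomMap T.mor₂ L ≫ flatEquiv L M T.obj₂ W g' = 0 := by
    rw [← flatEquiv_naturality, hg2, flatEquiv_zero]
  obtain ⟨y', hy'⟩ := hR _ (flatEquiv L M T.obj₂ W g') h0
  refine ⟨(flatEquiv L M T.obj₁ W).symm y', ?_⟩
  have : (flatEquiv L M T.obj₁ W).symm y' ≫ RHomMap (RHomMap T.mor₁ L) M = g' := by
    apply (flatEquiv L M T.obj₂ W).injective
    rw [flatEquiv_naturality, Equiv.apply_symm_apply, hy']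
  exact this.trans hg'

end Groth.Agent.Helper6.DTenE
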