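import Mathlib
import Groth.Prelude.Def_DTen3
import Groth.Agent.Helper6.DTenE1

/-! `evalHom K L M` is an isomorphism when `K` is perfect. -/

set_option autoImplicit false
set_option linter.style.haveILetI false
set_option linter.unusedSectionVars false

universe u
open CategoryTheory CategoryTheory.Limits MonoidalCategory DerivedCategory Pretriangulated
attribute [local instance] HasDerivedCategory.standard

namespace Groth.Agent.Helper6.DTenE
open DTen TenCx Groth.Agent.Helper6.DTenX Groth.Agent.Helper6.HomTen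

variable {A : Type u} [CommRing A] [HasLTen A] [HasLTen₃ A] [IsSymMonoidal A] [HasRHom A]

/-- formal criterion: if `K ⊗^L -` is an equivalence, `evalHom K L M` is an isomorphism -/
theorem isIso_evalHom_of_isEquivalence (K L M : Dual.D A) [((LTen A).obj K).IsEquivalence] :
    IsIso (evalHom K L M) := by
  let Fk := (LTen A).flip.obj K
  haveI : Fk.IsEquivalence := Functor.isEquivalence_of_iso (symmIso K)
  haveI : (tensorRightD A K).IsEquivalence := inferInstanceAs Fk.IsEquivalence
  haveI : IsIso (rhomAdj A K).counit := inferInstance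
  haveI : IsIso (ev K L) := inferInstanceAs (IsIso ((rhomAdj A K).counit.app L))
  haveI : IsIso ((symm A).app ((RHomR A K).obj L, K)) := inferInstance
  apply isIso_of_yoneda_map_bijective
  intro W
  let W' := Fk.objPreimage W
  let e : Fk.obj W' ≅ W := Fk.objObjPreimageIso W
  obtain ⟨c, hc⟩ : ∃ c : (LTen₂ A).obj (K, (RHomR A K).obj L) ⟶ L,
      c = (symm A).app ((RHomR A K).obj L, K) ≫ ev K L := ⟨_, rfl⟩
  haveI : IsIso c := by rw [hc]; infer_instance
  haveI : IsIso (T₂ (𝟙 W') c) := inferInstanceAs (IsIso (((LTen A).obj W').map c))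
  have key : (fun x : W ⟶ (LTen₂ A).obj ((RHomR A L).obj M, K) => x ≫ evalHom K L M) =
      fun x => rhomHomEquiv W ((RHomR A K).obj L) M (T₂ e.inv (𝟙 ((RHomR A K).obj L)) ≫
        (DTen.associator W' K ((RHomR A K).obj L)).hom ≫ T₂ (𝟙 W') c ≫
        (rhomHomEquiv W' L M).symm (Fk.preimage (e.hom ≫ x))) := by
    funext x
    unfold evalHom
    have h1 := Adjunction.homEquiv_naturality_left (rhomAdj A ((RHomR A K).obj L)) x
      (evalHomAux K L M)
    rw [← h1]
    congr 1
    obtain ⟨x', hx'⟩ : ∃ x' : W' ⟶ (RHomR A L).obj M, x' = Fk.preimage (e.hom ≫ x) := ⟨_, rfl⟩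
    have hx : x = e.inv ≫ T₂ x' (𝟙 K) := by
      have : Fk.map x' = e.hom ≫ x := by rw [hx']; exact Fk.map_preimage _
      rw [show T₂ x' (𝟙 K) = Fk.map x' from rfl, this, Iso.inv_hom_id_assoc]
    rw [← hx', homEquiv_symm_eq]
    have e1 : T₂ x (𝟙 ((RHomR A K).obj L)) =
        T₂ e.inv (𝟙 _) ≫ T₂ (T₂ x' (𝟙 K)) (𝟙 _) := by
      rw [T₂_comp, Category.id_comp, ← hx]
    change T₂ x (𝟙 _) ≫ (DTen.associator _ K _).hom ≫
      T₂ (𝟙 _) ((symm A).app ((RHomR A K).obj L, K) ≫ ev K L) ≫ ev L M = _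
    rw [← hc, e1, Category.assoc, DTenX.associator_naturality_assoc, T₂_id, T₂_comp_assoc,
      Category.id_comp, Category.comp_id, T₂_comp_assoc, Category.id_comp, Category.comp_id]
  rw [key]
  refine (rhomHomEquiv W _ M).bijective.comp ?_
  refine (Iso.homFromEquiv ((LTen₂ A).mapIso (Iso.prod e (Iso.refl _)))).bijective.comp ?_
  refine (Iso.homFromEquiv (DTen.associator W' K _)).symm.bijective.comp ?_
  refine (Iso.homFromEquiv (asIso (T₂ (𝟙 W') c))).symm.bijective.comp ?_
  refine (rhomHomEquiv W' L M).symm.bijective.comp ?_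
  refine (Functor.FullyFaithful.ofFullyFaithful Fk).homEquiv.symm.bijective.comp ?_
  exact (Iso.homFromEquiv e).symm.bijective

/-- the property used in the dévissage -/
def PHom (K : Dual.D A) : Prop := ∀ (n : ℤ) (L M : Dual.D A), IsIso (evalHom (K⟦n⟧) L M)

lemma PHom.of_iso {K K' : Dual.D A} (e : K ≅ K') (h : PHom K) : PHom K' := fun n L M =>
  (NatTrans.isIso_app_iff_of_iso (evalHomNat L M) ((shiftFunctor (Dual.D A) n).mapIso e)).mp
    (h n L M)

lemma PHom.of_isZero {K : Dual.D A} (h : IsZero K) : PHom K := fun n L M =>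
  isIso_app_of_isZero (evalHomNat L M) ((shiftFunctor (Dual.D A) n).map_isZero h)

lemma PHom.shift {K : Dual.D A} (h : PHom K) (m : ℤ) : PHom (K⟦m⟧) := fun n L M =>
  (NatTrans.isIso_app_iff_of_iso (evalHomNat L M)
    ((shiftFunctorAdd' (Dual.D A) m n (m + n) rfl).app K)).mp (h (m + n) L M)

lemma PHom.retract {K Z : Dual.D A} (i : K ⟶ Z) (r : Z ⟶ K) (hir : i ≫ r = 𝟙 K) (h : PHom Z) :
    PHom K := fun n L M =>
  isIso_app_of_retract (evalHomNat L M) (i⟦n⟧') (r⟦n⟧')
    (by rw [← Functor.map_comp, hir, CategoryTheory.Functor.map_id]) (h n L M)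

lemma PHom.ext (T : Triangle (Dual.D A)) (hT : T ∈ distTriang _) (h1 : PHom T.obj₁)
    (h3 : PHom T.obj₃) : PHom T.obj₂ := fun n L M => by
  have hT' := Triangle.shift_distinguished T hT n
  have hF : MidExact ((LTen A).obj ((RHomR A L).obj M)) := midExact_LTen_obj _
  have hG : MidExact (GF L M) := midExact_GF L M
  exact isIso_app_obj₂ (evalHomNat L M) hF hG _ hT' (h1 n L M) (h3 n L M)
    ((h1.shift n) 1 L M) ((h3.shift n) (-1) L M)

lemma PHom.unit : PHom (DTen.unit A) := fun n L M =>
  isIso_evalHom_of_isEquivalence _ L M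

theorem isIso_evalHom_of_isPerfect (K L M : Dual.D A) (hK : DRing.IsPerfect A K) :
    IsIso (evalHom K L M) := by
  have h : PHom K := perfect_induction PHom (fun e h => h.of_iso e) (fun K hK => PHom.of_isZero hK)
    PHom.ext (fun K n h => h.shift n) (fun K Z i r hir h => h.retract i r hir) PHom.unit hK
  exact (NatTrans.isIso_app_iff_of_iso (evalHomNat L M)
    ((shiftFunctorZero (Dual.D A) ℤ).app K)).mp (h 0 L M)

end Groth.Agent.Helper6.DTenE
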