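import Mathlib
import Groth.Prelude.Def_DDual2
import Groth.Agent.Helper1.DCoprod
import Groth.Agent.Helper6.KProjQ
import Groth.Agent.Helper6.SplitIso

/-! Compact objects of `D(A)` (elementary formulation) and compactness of `A[-i]`. -/

set_option autoImplicit false
universe u
open CategoryTheory CategoryTheory.Limits DerivedCategory
attribute [local instance] HasDerivedCategory.standard

namespace Groth.Agent.Helper6.DTenG
open Groth.Agent.Helper1

variable {A : Type u} [CommRing A]

/-- compactness: every map to a coproduct factors through a finite subcoproduct -/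
def Compact (X : Dual.D A) : Prop :=
  ∀ {J : Type u} (N : J → Dual.D A) (c : Cofan N) (_ : IsColimit c) (f : X ⟶ c.pt),
    ∃ (S : Finset J) (g : ∀ j, X ⟶ N j), f = ∑ j ∈ S, g j ≫ c.inj j

/-- it suffices to test compactness on the model coproducts -/
lemma compact_of_model (X : Dual.D A)
    (h : ∀ {J : Type u} (K : J → DRing.Cx A) (f : X ⟶ Q.obj (DCoprod.sig K)),
      ∃ (S : Finset J) (g : ∀ j, X ⟶ Q.obj (K j)), f = ∑ j ∈ S, g j ≫ Q.map (DCoprod.ι K j)) :
    Compact X := by
  intro J N c hc f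
  let K : J → DRing.Cx A := fun j => Q.objPreimage (N j)
  let e : ∀ j, Q.obj (K j) ≅ N j := fun j => Q.objObjPreimageIso (N j)
  -- the comparison map
  let φ : Q.obj (DCoprod.sig K) ⟶ c.pt :=
    Cofan.IsColimit.desc (DCoprod.isColimitCofan K) (fun j => (e j).hom ≫ c.inj j)
  have hφ : ∀ j, Q.map (DCoprod.ι K j) ≫ φ = (e j).hom ≫ c.inj j := fun j =>
    Cofan.IsColimit.fac (DCoprod.isColimitCofan K) _ j
  let ψ : c.pt ⟶ Q.obj (DCoprod.sig K) :=
    Cofan.IsColimit.desc hc (fun j => (e j).inv ≫ Q.map (DCoprod.ι K j))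
  have hψ : ∀ j, c.inj j ≫ ψ = (e j).inv ≫ Q.map (DCoprod.ι K j) := fun j =>
    Cofan.IsColimit.fac hc _ j
  have hψφ : ψ ≫ φ = 𝟙 _ := by
    apply Cofan.IsColimit.hom_ext hc
    intro j
    rw [reassoc_of% hψ, hφ, Iso.inv_hom_id_assoc, Category.comp_id]
  obtain ⟨S, g, hg⟩ := h K (f ≫ ψ)
  refine ⟨S, fun j => g j ≫ (e j).hom, ?_⟩
  have : f = (f ≫ ψ) ≫ φ := by rw [Category.assoc, hψφ, Category.comp_id]
  rw [this, hg, Preadditive.sum_comp]
  refine Finset.sum_congr rfl (fun j _ => ?_)
  rw [Category.assoc, hφ, Category.assoc]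

section single

variable (A)

/-- the complex `A` in degree `i` -/
noncomputable abbrev Sg (i : ℤ) : DRing.Cx A :=
  (HomologicalComplex.single (ModuleCat.{u} A) (ComplexShape.up ℤ) i).obj (ModuleCat.of A A)

instance projective_Sg (i n : ℤ) : Projective ((Sg A i).X n) := by
  by_cases h : n = i
  · subst h
    exact Projective.of_iso
      (HomologicalComplex.singleObjXSelf (ComplexShape.up ℤ) n (ModuleCat.of A A)).symm
      inferInstance
  · exact (HomologicalComplex.isZero_single_obj_X (ComplexShape.up ℤ) i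
      (ModuleCat.of A A) n h).projective

instance isKProjective_Sg (i : ℤ) : (Sg A i).IsKProjective := by
  haveI : CochainComplex.IsStrictlyLE (Sg A i) i := inferInstance
  exact CochainComplex.isKProjective_of_projective (Sg A i) i

/-- the generator of `Sg A i` in degree `i` -/
noncomputable def gen (i : ℤ) : (Sg A i).X i :=
  (HomologicalComplex.singleObjXSelf (ComplexShape.up ℤ) i (ModuleCat.of A A)).inv.hom (1 : A)

variable {A}

/-- maps out of `(Sg A i).X i` are determined by the value at the generator -/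
lemma hom_ext_gen {i : ℤ} {Y : ModuleCat.{u} A} {a b : (Sg A i).X i ⟶ Y}
    (h : a.hom (gen A i) = b.hom (gen A i)) : a = b := by
  rw [← cancel_epi (HomologicalComplex.singleObjXSelf (ComplexShape.up ℤ) i
    (ModuleCat.of A A)).inv]
  ext
  exact h

/-- elements of a coproduct of modules have finite support -/
lemma exists_finset_sum_ι {J : Type u} (Z : J → ModuleCat.{u} A) (x : (∐ Z : ModuleCat.{u} A)) :
    ∃ (S : Finset J) (y : ∀ j, Z j), x = ∑ j ∈ S, (Sigma.ι Z j).hom (y j) := by
  classical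
  let T : Submodule A (∐ Z : ModuleCat.{u} A) := ⨆ j, LinearMap.range (Sigma.ι Z j).hom
  have hT : T = ⊤ := by
    let q : (∐ Z : ModuleCat.{u} A) ⟶ ModuleCat.of A ((∐ Z : ModuleCat.{u} A) ⧸ T) :=
      ModuleCat.ofHom T.mkQ
    have hq : q = 0 := by
      apply Sigma.hom_ext
      intro j
      ext y
      rw [comp_zero]
      change T.mkQ ((Sigma.ι Z j).hom y) = 0
      rw [Submodule.mkQ_apply, Submodule.Quotient.mk_eq_zero]
      exact Submodule.mem_iSup_of_mem j ⟨y, rfl⟩
    rw [eq_top_iff]
    intro z _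
    have : T.mkQ z = 0 := congrArg (fun t => t.hom z) hq
    rwa [Submodule.mkQ_apply, Submodule.Quotient.mk_eq_zero] at this
  have hx : x ∈ T := by rw [hT]; trivial
  obtain ⟨f, hf, hfx⟩ := (Submodule.mem_iSup_iff_exists_finsupp _ x).mp hx
  choose y hy using hf
  refine ⟨f.support, y, ?_⟩
  rw [← hfx, Finsupp.sum]
  exact Finset.sum_congr rfl (fun j _ => (hy j).symm)

end single

section proj

variable {J : Type u} (K : J → DRing.Cx A)

open Classical in
/-- projection of the termwise coproduct onto a summand -/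
noncomputable def rJ (j : J) : DCoprod.sig K ⟶ K j :=
  DCoprod.desc (fun j' => if h : j' = j then eqToHom (by rw [h]) else 0)

lemma ι_rJ_self (j : J) : DCoprod.ι K j ≫ rJ K j = 𝟙 _ := by
  unfold rJ
  rw [DCoprod.ι_desc]
  simp

lemma ι_rJ_ne (j' j : J) (h : j' ≠ j) : DCoprod.ι K j' ≫ rJ K j = 0 := by
  unfold rJ
  rw [DCoprod.ι_desc]
  simp [h]

end proj

/-- `A[-i]` is compact -/
theorem compact_Sg (i : ℤ) : Compact (Q.obj (Sg A i)) := by
  classical
  apply compact_of_model
  intro J K f
  obtain ⟨g, rfl⟩ := KProjQ.Q_map_surjective (Sg A i) (DCoprod.sig K) f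
  obtain ⟨S, y, hy⟩ := exists_finset_sum_ι (fun j => (K j).X i) ((g.f i).hom (gen A i))
  refine ⟨S, fun j => Q.map (g ≫ rJ K j), ?_⟩
  have hg : g = ∑ j ∈ S, (g ≫ rJ K j) ≫ DCoprod.ι K j := by
    apply HomologicalComplex.from_single_hom_ext
    apply hom_ext_gen
    have hsum : (∑ j ∈ S, (g ≫ rJ K j) ≫ DCoprod.ι K j).f i =
        ∑ j ∈ S, ((g ≫ rJ K j) ≫ DCoprod.ι K j).f i :=
      map_sum (HomologicalComplex.Hom.fAddMonoidHom i) _ _
    rw [hsum, ModuleCat.hom_sum, LinearMap.sum_apply]
    conv_lhs => rw [hy]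
    refine Finset.sum_congr rfl (fun j hj => ?_)
    change _ = (DCoprod.ι K j).f i ((rJ K j).f i ((g.f i) (gen A i)))
    erw [hy]
    rw [map_sum, Finset.sum_eq_single j]
    · have h1 := congrArg (fun t => (t.f i) (y j)) (ι_rJ_self K j)
      simp only [HomologicalComplex.comp_f, HomologicalComplex.id_f] at h1
      change (rJ K j).f i ((DCoprod.ι K j).f i (y j)) = y j at h1
      change _ = (DCoprod.ι K j).f i ((rJ K j).f i ((DCoprod.ι K j).f i (y j)))
      rw [h1]
      rfl
    · intro k _ hk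
      have h1 := congrArg (fun t => (t.f i) (y k)) (ι_rJ_ne K k j hk)
      simp only [HomologicalComplex.comp_f, HomologicalComplex.zero_f] at h1
      exact h1
    · intro hj'
      exact absurd hj hj'
  conv_lhs => rw [hg]
  rw [Functor.map_sum]
  refine Finset.sum_congr rfl (fun j _ => ?_)
  rw [Functor.map_comp]

end Groth.Agent.Helper6.DTenG
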