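import Mathlib
import Groth.Agent.Helper6.DTenG1

/-! The objects `A[-i]` detect isomorphisms in `D(A)`. -/

set_option autoImplicit false
universe u
open CategoryTheory CategoryTheory.Limits DerivedCategory Pretriangulated ZeroObject
attribute [local instance] HasDerivedCategory.standard

namespace Groth.Agent.Helper6.DTenG
open Groth.Agent.Helper1

variable {A : Type u} [CommRing A]

variable (A) in
/-- the test objects `A[-i]` -/
noncomputable abbrev T (i : ℤ) : Dual.D A := Q.obj (Sg A i)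

/-- the chain map `A[-i] → K` attached to a cycle -/
noncomputable def cycleMap (K : DRing.Cx A) (i : ℤ) (z : K.X i) (hz : K.d i (i + 1) z = 0) :
    Sg A i ⟶ K :=
  HomologicalComplex.mkHomFromSingle (ModuleCat.ofHom (LinearMap.toSpanSingleton A (K.X i) z))
    (fun k hk => by
      have hk' : i + 1 = k := hk
      subst hk'
      ext
      change K.d i (i + 1) ((1 : A) • z) = 0
      rw [one_smul, hz])

lemma cycleMap_gen (K : DRing.Cx A) (i : ℤ) (z : K.X i) (hz : K.d i (i + 1) z = 0) :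
    ((cycleMap K i z hz).f i).hom (gen A i) = z := by
  unfold cycleMap gen
  rw [HomologicalComplex.mkHomFromSingle_f]
  change (LinearMap.toSpanSingleton A (K.X i) z)
    ((HomologicalComplex.singleObjXSelf (ComplexShape.up ℤ) i (ModuleCat.of A A)).hom.hom
      ((HomologicalComplex.singleObjXSelf (ComplexShape.up ℤ) i (ModuleCat.of A A)).inv.hom 1)) = z
  have : (HomologicalComplex.singleObjXSelf (ComplexShape.up ℤ) i (ModuleCat.of A A)).hom.hom
      ((HomologicalComplex.singleObjXSelf (ComplexShape.up ℤ) i (ModuleCat.of A A)).inv.hom 1) = 1 :=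
    congrArg (fun t => t.hom (1 : A))
      (HomologicalComplex.singleObjXSelf (ComplexShape.up ℤ) i (ModuleCat.of A A)).inv_hom_id
  rw [this, LinearMap.toSpanSingleton_apply, one_smul]

lemma exactAt_of_hom_eq_zero (K : DRing.Cx A) (i : ℤ) (h : ∀ g : T A i ⟶ Q.obj K, g = 0) :
    K.ExactAt i := by
  have key : ∀ z : K.X i, K.d i (i + 1) z = 0 → ∃ w : K.X (i - 1), K.d (i - 1) i w = z := by
    intro z hz'
    obtain ⟨H⟩ := KProjQ.homotopy_of_Q_map_eq (cycleMap K i z hz') 0
      ((h _).trans (Q.map_zero _ _).symm)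
    have hc := H.comm i
    rw [dNext_eq H.hom (show (ComplexShape.up ℤ).Rel i (i + 1) from rfl),
      prevD_eq H.hom (show (ComplexShape.up ℤ).Rel (i - 1) i by simp),
      HomologicalComplex.single_obj_d, zero_comp, zero_add, HomologicalComplex.zero_f,
      add_zero] at hc
    refine ⟨(H.hom i (i - 1)).hom (gen A i), ?_⟩
    have := congrArg (fun t => t.hom (gen A i)) hc
    rw [cycleMap_gen] at this
    exact this.symm
  rw [HomologicalComplex.exactAt_iff' K (i - 1) i (i + 1) (by simp) (by simp),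
    ShortComplex.moduleCat_exact_iff]
  exact fun z hz => key z hz

lemma isZero_Q_obj_of_exactAt (K : DRing.Cx A) (h : ∀ i, K.ExactAt i) : IsZero (Q.obj K) := by
  have hiso : IsIso (0 : Q.obj K ⟶ 0) := by
    rw [DerivedCategory.isIso_iff]
    intro n
    have h1 : IsZero ((homologyFunctor (ModuleCat.{u} A) n).obj (Q.obj K)) :=
      IsZero.of_iso ((HomologicalComplex.exactAt_iff_isZero_homology K n).mp (h n))
        ((homologyFunctorFactors (ModuleCat.{u} A) n).app K)
    have h2 : IsZero ((homologyFunctor (ModuleCat.{u} A) n).obj (0 : Dual.D A)) :=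
      Functor.map_isZero _ (isZero_zero _)
    exact ⟨⟨0, h1.eq_of_src _ _, h2.eq_of_src _ _⟩⟩
  exact IsZero.of_iso (isZero_zero _) (asIso (0 : Q.obj K ⟶ 0))

theorem isZero_of_hom_eq_zero (X : Dual.D A) (h : ∀ (i : ℤ) (g : T A i ⟶ X), g = 0) :
    IsZero X := by
  let K := Q.objPreimage X
  let e : Q.obj K ≅ X := Q.objObjPreimageIso X
  refine IsZero.of_iso (isZero_Q_obj_of_exactAt K (fun i => exactAt_of_hom_eq_zero K i ?_)) e.symm
  intro g
  have := h i (g ≫ e.hom)
  rw [← cancel_mono e.hom, this, zero_comp]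

/-- `A[-(i+1)][1] ≅ A[-i]` -/
noncomputable def TShiftIso (i : ℤ) : (T A (i + 1))⟦(1 : ℤ)⟧ ≅ T A i :=
  ((singleFunctors (ModuleCat.{u} A)).shiftIso 1 i (i + 1) (by omega)).app (ModuleCat.of A A)

/-- the objects `A[-i]` detect isomorphisms -/
theorem isIso_of_bijective {X Y : Dual.D A} (f : X ⟶ Y)
    (h : ∀ i : ℤ, Function.Bijective (fun g : T A i ⟶ X => g ≫ f)) : IsIso f := by
  obtain ⟨Z, g, δ, hT⟩ := distinguished_cocone_triangle f
  have hZ : IsZero Z := by
    apply isZero_of_hom_eq_zero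
    intro i g₀
    have h1 : g₀ ≫ δ = 0 := by
      let u : (T A (i + 1))⟦(1 : ℤ)⟧ ⟶ X⟦(1 : ℤ)⟧ := (TShiftIso i).hom ≫ g₀ ≫ δ
      let v : T A (i + 1) ⟶ X := (shiftFunctor (Dual.D A) (1 : ℤ)).preimage u
      have hv : v⟦(1 : ℤ)⟧' = u := (shiftFunctor (Dual.D A) (1 : ℤ)).map_preimage u
      have hvf : v ≫ f = 0 := by
        apply (shiftFunctor (Dual.D A) (1 : ℤ)).map_injective
        rw [Functor.map_comp, hv, Functor.map_zero]
        change ((TShiftIso i).hom ≫ g₀ ≫ δ) ≫ f⟦(1 : ℤ)⟧' = 0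
        have : δ ≫ f⟦(1 : ℤ)⟧' = 0 := comp_distTriang_mor_zero₃₁ _ hT
        rw [Category.assoc, Category.assoc, this, comp_zero, comp_zero]
      have hv0 : v = 0 := (h (i + 1)).1 (by simp only [hvf, zero_comp])
      have hu0 : u = 0 := by rw [← hv, hv0, Functor.map_zero]
      have : (TShiftIso i).hom ≫ g₀ ≫ δ = 0 := hu0
      rwa [← cancel_epi (TShiftIso i).hom, comp_zero]
    obtain ⟨g₁, hg₁⟩ : ∃ g₁ : T A i ⟶ Y, g₀ = g₁ ≫ g := Triangle.coyoneda_exact₃ _ hT g₀ h1
    obtain ⟨g₂, hg₂⟩ : ∃ g₂ : T A i ⟶ X, g₂ ≫ f = g₁ := (h i).2 g₁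
    have : f ≫ g = 0 := comp_distTriang_mor_zero₁₂ _ hT
    rw [hg₁, ← hg₂, Category.assoc, this, comp_zero]
  exact (Triangle.isZero₃_iff_isIso₁ _ hT).mp hZ

end Groth.Agent.Helper6.DTenG
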