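import Mathlib
import Groth.Agent.Helper6.DTenG2
import Groth.Agent.Helper6.DTenX4

/-! Perfect complexes are compact. -/

set_option autoImplicit false
universe u
open CategoryTheory CategoryTheory.Limits DerivedCategory Pretriangulated ZeroObject
attribute [local instance] HasDerivedCategory.standard

namespace Groth.Agent.Helper6.DTenG
open Groth.Agent.Helper1

variable {A : Type u} [CommRing A]

section fin

variable {J : Type u} {N : J → Dual.D A} (c : Cofan N)

/-- a map into the coproduct factors through a finite subcoproduct -/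
def FinForm {X : Dual.D A} (f : X ⟶ c.pt) : Prop :=
  ∃ (S : Finset J) (g : ∀ j, X ⟶ N j), f = ∑ j ∈ S, g j ≫ c.inj j

lemma FinForm.zero {X : Dual.D A} : FinForm c (0 : X ⟶ c.pt) :=
  ⟨∅, fun _ => 0, by simp⟩

lemma FinForm.inj {X : Dual.D A} (j : J) (g : X ⟶ N j) : FinForm c (g ≫ c.inj j) := by
  classical
  refine ⟨{j}, fun j' => if h : j' = j then g ≫ eqToHom (by rw [h]) else 0, ?_⟩
  simp

lemma FinForm.add {X : Dual.D A} {f₁ f₂ : X ⟶ c.pt} (h₁ : FinForm c f₁) (h₂ : FinForm c f₂) :
    FinForm c (f₁ + f₂) := by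
  classical
  obtain ⟨S₁, g₁, rfl⟩ := h₁
  obtain ⟨S₂, g₂, rfl⟩ := h₂
  refine ⟨S₁ ∪ S₂, fun j => (if j ∈ S₁ then g₁ j else 0) + (if j ∈ S₂ then g₂ j else 0), ?_⟩
  simp only [Preadditive.add_comp, Finset.sum_add_distrib]
  congr 1
  · rw [← Finset.sum_subset (Finset.subset_union_left (s₁ := S₁) (s₂ := S₂))]
    · exact Finset.sum_congr rfl (fun j hj => by rw [if_pos hj])
    · intro j _ hj
      rw [if_neg hj, zero_comp]
  · rw [← Finset.sum_subset (Finset.subset_union_right (s₁ := S₁) (s₂ := S₂))]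
    · exact Finset.sum_congr rfl (fun j hj => by rw [if_pos hj])
    · intro j _ hj
      rw [if_neg hj, zero_comp]

lemma FinForm.sum {X : Dual.D A} {ι : Type*} (s : Finset ι) (f : ι → (X ⟶ c.pt))
    (h : ∀ i ∈ s, FinForm c (f i)) : FinForm c (∑ i ∈ s, f i) := by
  classical
  induction s using Finset.induction_on with
  | empty => simpa using FinForm.zero c
  | insert a s ha ih =>
    rw [Finset.sum_insert ha]
    exact (h a (Finset.mem_insert_self a s)).add c
      (ih (fun i hi => h i (Finset.mem_insert_of_mem hi)))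

lemma FinForm.comp_left {X Y : Dual.D A} (a : X ⟶ Y) {f : Y ⟶ c.pt} (h : FinForm c f) :
    FinForm c (a ≫ f) := by
  obtain ⟨S, g, rfl⟩ := h
  refine ⟨S, fun j => a ≫ g j, ?_⟩
  rw [Preadditive.comp_sum]
  exact Finset.sum_congr rfl (fun j _ => (Category.assoc _ _ _).symm)

variable {c} (hc : IsColimit c)

open Classical in
/-- the retraction of the coproduct onto a summand -/
noncomputable def πJ (j : J) : c.pt ⟶ N j :=
  Cofan.IsColimit.desc hc (fun j' => if h : j' = j then eqToHom (by rw [h]) else 0)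

lemma inj_πJ_self (j : J) : c.inj j ≫ πJ hc j = 𝟙 _ := by
  unfold πJ
  rw [Cofan.IsColimit.fac]
  simp

lemma inj_πJ_ne (j' j : J) (h : j' ≠ j) : c.inj j' ≫ πJ hc j = 0 := by
  unfold πJ
  rw [Cofan.IsColimit.fac]
  simp [h]

/-- the idempotent projecting onto the summands in `S` -/
noncomputable def eS (S : Finset J) : c.pt ⟶ c.pt := ∑ j ∈ S, πJ hc j ≫ c.inj j

lemma inj_eS_mem (S : Finset J) (j : J) (hj : j ∈ S) : c.inj j ≫ eS hc S = c.inj j := by
  classical
  unfold eS
  rw [Preadditive.comp_sum, Finset.sum_eq_single j]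
  · rw [reassoc_of% (inj_πJ_self hc j)]
  · intro k _ hk
    rw [reassoc_of% (inj_πJ_ne hc j k hk.symm), zero_comp]
  · intro h; exact absurd hj h

lemma finForm_comp_eS {X : Dual.D A} (f : X ⟶ c.pt) (S : Finset J) : FinForm c (f ≫ eS hc S) := by
  unfold eS
  rw [Preadditive.comp_sum]
  refine FinForm.sum c S _ (fun j _ => ?_)
  rw [← Category.assoc]
  exact FinForm.inj c j _

end fin

lemma compact_iff (X : Dual.D A) : Compact X ↔
    ∀ {J : Type u} (N : J → Dual.D A) (c : Cofan N) (_ : IsColimit c) (f : X ⟶ c.pt),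
      FinForm c f := Iff.rfl

lemma Compact.of_iso {X Y : Dual.D A} (e : X ≅ Y) (h : Compact X) : Compact Y := by
  intro J N c hc f
  have := FinForm.comp_left c e.inv (h N c hc (e.hom ≫ f))
  rwa [Iso.inv_hom_id_assoc] at this

lemma Compact.of_isZero {X : Dual.D A} (h : IsZero X) : Compact X := by
  intro J N c hc f
  rw [h.eq_of_src f 0]
  exact FinForm.zero c

lemma Compact.retract {K Z : Dual.D A} (i : K ⟶ Z) (r : Z ⟶ K) (hir : i ≫ r = 𝟙 K)
    (h : Compact Z) : Compact K := by
  intro J N c hc f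
  have := FinForm.comp_left c i (h N c hc (r ≫ f))
  rwa [reassoc_of% hir] at this

lemma Compact.ext (T : Triangle (Dual.D A)) (hT : T ∈ distTriang _) (h1 : Compact T.obj₁)
    (h3 : Compact T.obj₃) : Compact T.obj₂ := by
  intro J N c hc f
  obtain ⟨S, a, ha⟩ := h1 N c hc (T.mor₁ ≫ f)
  have hz : T.mor₁ ≫ (f ≫ (𝟙 _ - eS hc S)) = 0 := by
    rw [← Category.assoc, ha, Preadditive.sum_comp]
    refine Finset.sum_eq_zero (fun j hj => ?_)
    rw [Category.assoc, Preadditive.comp_sub, Category.comp_id, inj_eS_mem hc S j hj, sub_self,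
      comp_zero]
  obtain ⟨b, hb⟩ := Triangle.yoneda_exact₂ T hT _ hz
  have hf : f = f ≫ eS hc S + T.mor₂ ≫ b := by
    rw [← hb, Preadditive.comp_sub, Category.comp_id]
    abel
  rw [hf]
  exact (finForm_comp_eS hc f S).add c (FinForm.comp_left c T.mor₂ (h3 N c hc b))

lemma Compact.shift {K : Dual.D A} (h : Compact K) (n : ℤ) : Compact (K⟦n⟧) := by
  intro J N c hc f
  have hc' : IsColimit (Cofan.mk c.pt c.inj) :=
    IsColimit.ofIsoColimit hc (Cofan.ext (Iso.refl _) (fun j => by simp))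
  have hc'' := isColimitCofanMkObjOfIsColimit (shiftEquiv (Dual.D A) n).inverse N c.inj hc'
  let adj := (shiftEquiv (Dual.D A) n).toAdjunction
  haveI : (shiftEquiv (Dual.D A) n).inverse.Additive :=
    inferInstanceAs (shiftFunctor (Dual.D A) (-n)).Additive
  obtain ⟨S, g, hg⟩ := h _ _ hc'' (adj.homEquiv K c.pt f)
  refine ⟨S, fun j => (adj.homEquiv K (N j)).symm (g j), ?_⟩
  apply (adj.homEquiv K c.pt).injective
  have hsum : adj.homEquiv K c.pt (∑ j ∈ S, (adj.homEquiv K (N j)).symm (g j) ≫ c.inj j) =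
      ∑ j ∈ S, adj.homEquiv K c.pt ((adj.homEquiv K (N j)).symm (g j) ≫ c.inj j) := by
    simp only [Adjunction.homEquiv_unit, Functor.map_sum, Preadditive.comp_sum]
  refine hg.trans ((Finset.sum_congr rfl (fun j _ => ?_)).trans hsum.symm)
  rw [Adjunction.homEquiv_naturality_right, Equiv.apply_symm_apply]
  rfl

/-- perfect complexes are compact -/
theorem compact_of_isPerfect {K : Dual.D A} (hK : DRing.IsPerfect A K) : Compact K :=
  DTenX.perfect_induction Compact (fun e h => h.of_iso e) (fun _ h => Compact.of_isZero h)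
    Compact.ext (fun _ n h => h.shift n) (fun _ _ i r hir h => h.retract i r hir)
    (compact_Sg 0) hK

end Groth.Agent.Helper6.DTenG
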