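import Mathlib
import Groth.Agent.Helper6.DTenG3

/-! Coproducts in `D(A)`: natural transformations on coproducts, right adjoints preserving
coproducts. -/

set_option autoImplicit false
universe u
open CategoryTheory CategoryTheory.Limits DerivedCategory Pretriangulated ZeroObject
attribute [local instance] HasDerivedCategory.standard

namespace Groth.Agent.Helper6.DTenG
open Groth.Agent.Helper1

variable {A : Type u} [CommRing A]

section fin

variable {J : Type u} {N : J → Dual.D A} {c : Cofan N} (hc : IsColimit c)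

lemma FinForm.comp_eS {X : Dual.D A} {f : X ⟶ c.pt} (h : FinForm c f) :
    ∃ S, f ≫ eS hc S = f := by
  obtain ⟨S, g, rfl⟩ := h
  refine ⟨S, ?_⟩
  rw [Preadditive.sum_comp]
  refine Finset.sum_congr rfl (fun j hj => ?_)
  rw [Category.assoc, inj_eS_mem hc S j hj]

lemma FinForm.eq_zero {X : Dual.D A} {f : X ⟶ c.pt} (h : FinForm c f)
    (h0 : ∀ j, f ≫ πJ hc j = 0) : f = 0 := by
  obtain ⟨S, hS⟩ := h.comp_eS hc
  rw [← hS]
  unfold eS
  rw [Preadditive.comp_sum]
  exact Finset.sum_eq_zero (fun j _ => by rw [← Category.assoc, h0 j, zero_comp])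

end fin

/-- a natural transformation which is an isomorphism on the summands is an isomorphism on a
coproduct preserved by both functors -/
lemma isIso_app_of_coprod {F G : Dual.D A ⥤ Dual.D A} (η : F ⟶ G) {J : Type u}
    {N : J → Dual.D A} (c : Cofan N)
    (hF : IsColimit (Cofan.mk (F.obj c.pt) (fun j => F.map (c.inj j))))
    (hG : IsColimit (Cofan.mk (G.obj c.pt) (fun j => G.map (c.inj j))))
    (h : ∀ j, IsIso (η.app (N j))) : IsIso (η.app c.pt) := by
  have h1 : ∀ j, G.map (c.inj j) ≫
      Cofan.IsColimit.desc hG (fun j => inv (η.app (N j)) ≫ F.map (c.inj j)) =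
        inv (η.app (N j)) ≫ F.map (c.inj j) := fun j => Cofan.IsColimit.fac hG _ j
  refine ⟨Cofan.IsColimit.desc hG (fun j => inv (η.app (N j)) ≫ F.map (c.inj j)), ?_, ?_⟩
  · apply Cofan.IsColimit.hom_ext hF
    intro j
    change F.map (c.inj j) ≫ η.app c.pt ≫ _ = F.map (c.inj j) ≫ 𝟙 _
    rw [η.naturality_assoc, h1, IsIso.hom_inv_id_assoc, Category.comp_id]
  · apply Cofan.IsColimit.hom_ext hG
    intro j
    change G.map (c.inj j) ≫ _ ≫ η.app c.pt = G.map (c.inj j) ≫ 𝟙 _
    rw [reassoc_of% h1, η.naturality, IsIso.inv_hom_id_assoc, Category.comp_id]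

/-- a right adjoint whose left adjoint preserves compactness of the generators preserves
coproducts -/
theorem isColimit_map_rightAdjoint {F G : Dual.D A ⥤ Dual.D A} (adj : F ⊣ G) [F.Additive]
    (hF : ∀ i, Compact (F.obj (T A i))) {J : Type u} {N : J → Dual.D A} (c : Cofan N)
    (hc : IsColimit c) :
    Nonempty (IsColimit (Cofan.mk (G.obj c.pt) (fun j => G.map (c.inj j)))) := by
  haveI : G.Additive := adj.right_adjoint_additive
  let c' : Cofan (fun j => G.obj (N j)) := Cofan.mk (∐ fun j => G.obj (N j)) (Sigma.ι _)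
  have hc' : IsColimit c' := coproductIsCoproduct _
  let σ : c'.pt ⟶ G.obj c.pt := Cofan.IsColimit.desc hc' (fun j => G.map (c.inj j))
  have hσ : ∀ j, c'.inj j ≫ σ = G.map (c.inj j) := fun j => Cofan.IsColimit.fac hc' _ j
  have hπ : ∀ j, σ ≫ G.map (πJ hc j) = πJ hc' j := by
    intro j
    apply Cofan.IsColimit.hom_ext hc'
    intro j'
    rw [reassoc_of% hσ, ← G.map_comp]
    by_cases hj : j' = j
    · subst hj
      rw [inj_πJ_self, inj_πJ_self, CategoryTheory.Functor.map_id]
    · rw [inj_πJ_ne hc _ _ hj, inj_πJ_ne hc' _ _ hj, Functor.map_zero]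
  haveI : IsIso σ := by
    apply isIso_of_bijective
    intro i
    constructor
    · intro g₁ g₂ hg
      have h0 : (g₁ - g₂) ≫ σ = 0 := by
        rw [Preadditive.sub_comp]; exact sub_eq_zero.mpr hg
      have : g₁ - g₂ = 0 := by
        apply FinForm.eq_zero hc' (compact_Sg i _ c' hc' _)
        intro j
        rw [← hπ j, reassoc_of% h0, zero_comp]
      exact sub_eq_zero.mp this
    · intro h
      obtain ⟨S, g, hg⟩ := hF i N c hc ((adj.homEquiv _ _).symm h)
      refine ⟨∑ j ∈ S, adj.homEquiv _ _ (g j) ≫ c'.inj j, ?_⟩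
      change (∑ j ∈ S, adj.homEquiv _ _ (g j) ≫ c'.inj j) ≫ σ = h
      have hh : h = adj.homEquiv _ _ (∑ j ∈ S, g j ≫ c.inj j) := by
        rw [← hg, Equiv.apply_symm_apply]
      rw [hh, Preadditive.sum_comp]
      simp only [Adjunction.homEquiv_unit, Functor.map_sum, Preadditive.comp_sum,
        Category.assoc, hσ, Functor.map_comp]
  exact ⟨IsColimit.ofIsoColimit hc' (Cofan.ext (asIso σ) (fun j => hσ j))⟩

end Groth.Agent.Helper6.DTenG
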