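import Mathlib
import Groth.Agent.Helper6.DTenG4

/-! `D(A)` is generated by the objects `A[-i]` under shifts, cones and coproducts. -/

set_option autoImplicit false
universe u
open CategoryTheory CategoryTheory.Limits DerivedCategory Pretriangulated ZeroObject
attribute [local instance] HasDerivedCategory.standard

namespace Groth.Agent.Helper6.DTenG
open Groth.Agent.Helper1

variable {A : Type u} [CommRing A]

lemma exists_cycleMap (K : DRing.Cx A) (i : ℤ) (g : T A i ⟶ Q.obj K) :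
    ∃ (z : K.X i) (hz : K.d i (i + 1) z = 0), g = Q.map (cycleMap K i z hz) := by
  obtain ⟨g₀, rfl⟩ := KProjQ.Q_map_surjective (Sg A i) K g
  have hz : K.d i (i + 1) ((g₀.f i).hom (gen A i)) = 0 := by
    have := g₀.comm i (i + 1)
    rw [HomologicalComplex.single_obj_d, zero_comp] at this
    exact congrArg (fun t => t.hom (gen A i)) this
  refine ⟨(g₀.f i).hom (gen A i), hz, ?_⟩
  congr 1
  apply HomologicalComplex.from_single_hom_ext
  apply hom_ext_gen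
  rw [cycleMap_gen]

/-- the closure hypotheses -/
structure GenHyp (P : Dual.D A → Prop) : Prop where
  iso : ∀ {K L : Dual.D A}, (K ≅ L) → P K → P L
  ext : ∀ T : Triangle (Dual.D A), T ∈ distTriang _ → P T.obj₁ → P T.obj₃ → P T.obj₂
  shift : ∀ (K : Dual.D A) (n : ℤ), P K → P (K⟦n⟧)
  coprod : ∀ {J : Type u} (N : J → Dual.D A) (c : Cofan N), IsColimit c → (∀ j, P (N j)) → P c.pt
  gen : ∀ i, P (T A i)

lemma GenHyp.cone {P : Dual.D A → Prop} (h : GenHyp P) {X Y Z : Dual.D A} (f : X ⟶ Y) (g : Y ⟶ Z)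
    (δ : Z ⟶ X⟦(1 : ℤ)⟧) (hT : Triangle.mk f g δ ∈ distTriang _) (hX : P X) (hY : P Y) : P Z :=
  h.ext _ (rot_of_distTriang _ hT) hY (h.shift _ _ hX)

/-- an approximation of `X` by an object of the class -/
structure Stage (P : Dual.D A → Prop) (X : Dual.D A) where
  Y : Dual.D A
  f : Y ⟶ X
  hP : P Y

lemma exists_first {P : Dual.D A → Prop} (h : GenHyp P) (X : Dual.D A) :
    ∃ s : Stage P X, ∀ (i : ℤ) (g : T A i ⟶ X), ∃ g' : T A i ⟶ s.Y, g' ≫ s.f = g := by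
  let K := Q.objPreimage X
  let e : Q.obj K ≅ X := Q.objObjPreimageIso X
  let J : Type u := Σ i : ℤ, {z : K.X i // K.d i (i + 1) z = 0}
  let N : J → Dual.D A := fun j => T A j.1
  let c : Cofan N := Cofan.mk (∐ N) (Sigma.ι N)
  have hc : IsColimit c := coproductIsCoproduct N
  let φ : c.pt ⟶ X :=
    Cofan.IsColimit.desc hc (fun j => Q.map (cycleMap K j.1 j.2.1 j.2.2) ≫ e.hom)
  have hφ : ∀ j, c.inj j ≫ φ = Q.map (cycleMap K j.1 j.2.1 j.2.2) ≫ e.hom :=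
    fun j => Cofan.IsColimit.fac hc _ j
  refine ⟨⟨c.pt, φ, h.coprod N c hc (fun j => h.gen j.1)⟩, ?_⟩
  intro i g
  obtain ⟨z, hz, hg⟩ := exists_cycleMap K i (g ≫ e.inv)
  refine ⟨c.inj ⟨i, z, hz⟩, ?_⟩
  change c.inj ⟨i, z, hz⟩ ≫ φ = g
  rw [hφ]
  change Q.map (cycleMap K i z hz) ≫ e.hom = g
  rw [← hg, Category.assoc, Iso.inv_hom_id, Category.comp_id]

lemma exists_next {P : Dual.D A → Prop} (h : GenHyp P) {X : Dual.D A} (s : Stage P X) :
    ∃ (s' : Stage P X) (a : s.Y ⟶ s'.Y), a ≫ s'.f = s.f ∧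
      ∀ (i : ℤ) (g : T A i ⟶ s.Y), g ≫ s.f = 0 → g ≫ a = 0 := by
  let K := Q.objPreimage s.Y
  let e : Q.obj K ≅ s.Y := Q.objObjPreimageIso s.Y
  let J : Type u := Σ i : ℤ, {z : K.X i // ∃ hz : K.d i (i + 1) z = 0,
    Q.map (cycleMap K i z hz) ≫ e.hom ≫ s.f = 0}
  let N : J → Dual.D A := fun j => T A j.1
  let c : Cofan N := Cofan.mk (∐ N) (Sigma.ι N)
  have hc : IsColimit c := coproductIsCoproduct N
  let φ : c.pt ⟶ s.Y :=
    Cofan.IsColimit.desc hc (fun j => Q.map (cycleMap K j.1 j.2.1 j.2.2.choose) ≫ e.hom)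
  have hφ : ∀ j, c.inj j ≫ φ = Q.map (cycleMap K j.1 j.2.1 j.2.2.choose) ≫ e.hom :=
    fun j => Cofan.IsColimit.fac hc _ j
  have hφf : φ ≫ s.f = 0 := by
    apply Cofan.IsColimit.hom_ext hc
    intro j
    rw [reassoc_of% hφ, comp_zero]
    exact j.2.2.choose_spec
  obtain ⟨Z, a, δ, hT⟩ := distinguished_cocone_triangle φ
  obtain ⟨f', hf'⟩ := Triangle.yoneda_exact₂ _ hT s.f hφf
  refine ⟨⟨Z, f', h.cone φ a δ hT (h.coprod N c hc (fun j => h.gen j.1)) s.hP⟩, a, hf'.symm, ?_⟩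
  intro i g hg
  obtain ⟨z, hz, hgz⟩ := exists_cycleMap K i (g ≫ e.inv)
  have hg' : g = Q.map (cycleMap K i z hz) ≫ e.hom := by
    rw [← hgz, Category.assoc, Iso.inv_hom_id, Category.comp_id]
  have hj : Q.map (cycleMap K i z hz) ≫ e.hom ≫ s.f = 0 := by
    rw [← Category.assoc, ← hg', hg]
  let j : J := ⟨i, z, hz, hj⟩
  have h1 : g = c.inj j ≫ φ := by rw [hφ]; exact hg'
  have h2 : φ ≫ a = 0 := comp_distTriang_mor_zero₁₂ _ hT
  rw [h1, Category.assoc, h2, comp_zero]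

section tower

variable {P : Dual.D A → Prop} (h : GenHyp P) {X : Dual.D A}

noncomputable def next (s : Stage P X) : Stage P X := (exists_next h s).choose

noncomputable def nextMap (s : Stage P X) : s.Y ⟶ (next h s).Y :=
  (exists_next h s).choose_spec.choose

lemma nextMap_f (s : Stage P X) : nextMap h s ≫ (next h s).f = s.f :=
  (exists_next h s).choose_spec.choose_spec.1

lemma nextMap_kill (s : Stage P X) (i : ℤ) (g : T A i ⟶ s.Y) (hg : g ≫ s.f = 0) :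
    g ≫ nextMap h s = 0 :=
  (exists_next h s).choose_spec.choose_spec.2 i g hg

variable (X) in
noncomputable def tower : ℕ → Stage P X
  | 0 => (exists_first h X).choose
  | n + 1 => next h (tower n)

lemma tower_zero_surj (i : ℤ) (g : T A i ⟶ X) :
    ∃ g' : T A i ⟶ (tower h X 0).Y, g' ≫ (tower h X 0).f = g :=
  (exists_first h X).choose_spec i g

end tower

section telescope

variable {X : Dual.D A} (Y : ℕ → Dual.D A) (a : ∀ n, Y n ⟶ Y (n + 1)) (f : ∀ n, Y n ⟶ X)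

/-- the family indexed by `ULift ℕ` -/
abbrev NU : ULift.{u} ℕ → Dual.D A := fun n => Y n.down

variable {Y} {c : Cofan (NU Y)} (hc : IsColimit c)

/-- inclusion of the `n`-th term -/
noncomputable def inj' (c : Cofan (NU Y)) (n : ℕ) : Y n ⟶ c.pt := c.inj ⟨n⟩

/-- projection to the `n`-th term -/
noncomputable def π' (n : ℕ) : c.pt ⟶ Y n := πJ hc ⟨n⟩

lemma inj'_π'_self (n : ℕ) : inj' c n ≫ π' hc n = 𝟙 _ := inj_πJ_self hc ⟨n⟩

lemma inj'_π'_ne (n m : ℕ) (hnm : n ≠ m) : inj' c n ≫ π' hc m = 0 :=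
  inj_πJ_ne hc ⟨n⟩ ⟨m⟩ (fun h => hnm (congrArg ULift.down h))

include hc in
lemma hom_ext' {Z : Dual.D A} {u v : c.pt ⟶ Z} (huv : ∀ n, inj' c n ≫ u = inj' c n ≫ v) :
    u = v :=
  Cofan.IsColimit.hom_ext hc _ _ (fun n => huv n.down)

/-- `1 - shift` -/
noncomputable def shiftMap : c.pt ⟶ c.pt :=
  Cofan.IsColimit.desc hc (fun n => inj' c n.down - a n.down ≫ inj' c (n.down + 1))

lemma inj'_shiftMap (n : ℕ) :
    inj' c n ≫ shiftMap a hc = inj' c n - a n ≫ inj' c (n + 1) :=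
  Cofan.IsColimit.fac hc _ ⟨n⟩

/-- the map to `X` -/
noncomputable def ψ : c.pt ⟶ X := Cofan.IsColimit.desc hc (fun n => f n.down)

lemma inj'_ψ (n : ℕ) : inj' c n ≫ ψ f hc = f n := Cofan.IsColimit.fac hc _ ⟨n⟩

lemma shiftMap_ψ (haf : ∀ n, a n ≫ f (n + 1) = f n) : shiftMap a hc ≫ ψ f hc = 0 := by
  apply hom_ext' hc
  intro n
  rw [reassoc_of% inj'_shiftMap, Preadditive.sub_comp, Category.assoc, inj'_ψ, inj'_ψ, haf,
    sub_self, comp_zero]

lemma shiftMap_π'_zero : shiftMap a hc ≫ π' hc 0 = π' hc 0 := by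
  apply hom_ext' hc
  intro n
  rw [reassoc_of% inj'_shiftMap, Preadditive.sub_comp, Category.assoc,
    inj'_π'_ne hc (n + 1) 0 (by omega), comp_zero, sub_zero]

lemma shiftMap_π'_succ (m : ℕ) :
    shiftMap a hc ≫ π' hc (m + 1) = π' hc (m + 1) - π' hc m ≫ a m := by
  apply hom_ext' hc
  intro n
  rw [reassoc_of% inj'_shiftMap, Preadditive.sub_comp, Preadditive.comp_sub, Category.assoc]
  congr 1
  by_cases hnm : n = m
  · subst hnm
    rw [inj'_π'_self, reassoc_of% inj'_π'_self, Category.comp_id]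
  · rw [inj'_π'_ne hc (n + 1) (m + 1) (by omega), reassoc_of% inj'_π'_ne hc n m hnm, comp_zero,
      zero_comp]

/-- `1 - shift` is injective on maps of finite form -/
lemma eq_zero_of_comp_shiftMap {T' : Dual.D A} (g : T' ⟶ c.pt) (hfin : FinForm c g)
    (h0 : g ≫ shiftMap a hc = 0) : g = 0 := by
  have key : ∀ m : ℕ, g ≫ π' hc m = 0 := by
    intro m
    induction m with
    | zero => rw [← shiftMap_π'_zero a hc, reassoc_of% h0, zero_comp]
    | succ m ih =>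
      have h1 : g ≫ shiftMap a hc ≫ π' hc (m + 1) = 0 := by rw [reassoc_of% h0, zero_comp]
      rw [shiftMap_π'_succ, Preadditive.comp_sub, reassoc_of% ih, zero_comp, sub_zero] at h1
      exact h1
  exact hfin.eq_zero hc (fun j => key j.down)

section good

variable {Z : Dual.D A} (m₂ : c.pt ⟶ Z)

/-- the map `g` can be pushed to a single stage -/
def Good {T' : Dual.D A} (g : T' ⟶ c.pt) : Prop :=
  ∃ (N : ℕ) (g' : T' ⟶ Y N), g ≫ m₂ = g' ≫ inj' c N ≫ m₂ ∧ g ≫ ψ f hc = g' ≫ f N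

variable (hm₂ : shiftMap a hc ≫ m₂ = 0) (haf : ∀ n, a n ≫ f (n + 1) = f n)

include hm₂ in
lemma inj'_m₂ (n : ℕ) : inj' c n ≫ m₂ = a n ≫ inj' c (n + 1) ≫ m₂ := by
  have h1 : inj' c n ≫ shiftMap a hc ≫ m₂ = 0 := by rw [hm₂, comp_zero]
  rw [reassoc_of% inj'_shiftMap, Preadditive.sub_comp, sub_eq_zero, Category.assoc] at h1
  exact h1

include hm₂ haf in
lemma Good.push {T' : Dual.D A} {g : T' ⟶ c.pt} (N : ℕ) (g' : T' ⟶ Y N)
    (h1 : g ≫ m₂ = g' ≫ inj' c N ≫ m₂) (h2 : g ≫ ψ f hc = g' ≫ f N) (M : ℕ) (hM : N ≤ M) :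
    ∃ g'' : T' ⟶ Y M, g ≫ m₂ = g'' ≫ inj' c M ≫ m₂ ∧ g ≫ ψ f hc = g'' ≫ f M := by
  induction M, hM using Nat.le_induction with
  | base => exact ⟨g', h1, h2⟩
  | succ k _ ih =>
    obtain ⟨g'', h1', h2'⟩ := ih
    refine ⟨g'' ≫ a k, ?_, ?_⟩
    · rw [h1', inj'_m₂ a hc m₂ hm₂ k, Category.assoc]
    · rw [h2', Category.assoc, haf k]

lemma Good.zero {T' : Dual.D A} : Good f hc m₂ (0 : T' ⟶ c.pt) :=
  ⟨0, 0, by simp, by simp⟩

lemma Good.inj {T' : Dual.D A} (n : ℕ) (g : T' ⟶ Y n) : Good f hc m₂ (g ≫ inj' c n) :=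
  ⟨n, g, by rw [Category.assoc], by rw [Category.assoc, inj'_ψ]⟩

include hm₂ haf in
lemma Good.add {T' : Dual.D A} {g₁ g₂ : T' ⟶ c.pt} (h₁ : Good f hc m₂ g₁)
    (h₂ : Good f hc m₂ g₂) : Good f hc m₂ (g₁ + g₂) := by
  obtain ⟨N₁, g₁', h11, h12⟩ := h₁
  obtain ⟨N₂, g₂', h21, h22⟩ := h₂
  obtain ⟨g₁'', h11', h12'⟩ :=
    Good.push a f hc m₂ hm₂ haf N₁ g₁' h11 h12 (max N₁ N₂) (le_max_left _ _)
  obtain ⟨g₂'', h21', h22'⟩ :=
    Good.push a f hc m₂ hm₂ haf N₂ g₂' h21 h22 (max N₁ N₂) (le_max_right _ _)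
  exact ⟨max N₁ N₂, g₁'' + g₂'', by
    rw [Preadditive.add_comp, Preadditive.add_comp, h11', h21'], by
    rw [Preadditive.add_comp, Preadditive.add_comp, h12', h22']⟩

include hm₂ haf in
lemma Good.of_finForm {T' : Dual.D A} {g : T' ⟶ c.pt} (hg : FinForm c g) :
    Good f hc m₂ g := by
  classical
  obtain ⟨S, g', rfl⟩ := hg
  induction S using Finset.induction_on with
  | empty => simpa using Good.zero f hc m₂
  | insert j S hj ih =>
    rw [Finset.sum_insert hj]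
    exact Good.add a f hc m₂ hm₂ haf (Good.inj f hc m₂ j.down (g' j)) ih

end good

end telescope

/-- `D(A)` is generated by the `A[-i]` -/
theorem generation {P : Dual.D A → Prop} (h : GenHyp P) (X : Dual.D A) : P X := by
  let Y : ℕ → Dual.D A := fun n => (tower h X n).Y
  let a : ∀ n, Y n ⟶ Y (n + 1) := fun n => nextMap h (tower h X n)
  let f : ∀ n, Y n ⟶ X := fun n => (tower h X n).f
  have haf : ∀ n, a n ≫ f (n + 1) = f n := fun n => nextMap_f h (tower h X n)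
  have hkill : ∀ (n : ℕ) (i : ℤ) (g : T A i ⟶ Y n), g ≫ f n = 0 → g ≫ a n = 0 :=
    fun n i g hg => nextMap_kill h (tower h X n) i g hg
  let c : Cofan (NU Y) := Cofan.mk (∐ (NU Y)) (Sigma.ι (NU Y))
  have hc : IsColimit c := coproductIsCoproduct (NU Y)
  have hPc : P c.pt := h.coprod _ c hc (fun n => (tower h X n.down).hP)
  obtain ⟨Z, m₂, δ, hT⟩ := distinguished_cocone_triangle (shiftMap a hc)
  have hPZ : P Z := h.cone _ m₂ δ hT hPc hPc
  have hm₂ : shiftMap a hc ≫ m₂ = 0 := comp_distTriang_mor_zero₁₂ _ hT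
  obtain ⟨θ, hθ'⟩ : ∃ θ : Z ⟶ X, ψ f hc = m₂ ≫ θ :=
    Triangle.yoneda_exact₂ _ hT (ψ f hc) (shiftMap_ψ a f hc haf)
  haveI : IsIso θ := by
    apply isIso_of_bijective
    intro i
    constructor
    · intro g₁ g₂ hg
      have hg0 : (g₁ - g₂) ≫ θ = 0 := by
        rw [Preadditive.sub_comp]; exact sub_eq_zero.mpr hg
      obtain ⟨g, hgdef⟩ : ∃ g : T A i ⟶ Z, g = g₁ - g₂ := ⟨_, rfl⟩
      rw [← hgdef] at hg0
      have h1 : g ≫ δ = 0 := by
        let u : (T A (i + 1))⟦(1 : ℤ)⟧ ⟶ c.pt⟦(1 : ℤ)⟧ := (TShiftIso i).hom ≫ g ≫ δ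
        let v : T A (i + 1) ⟶ c.pt := (shiftFunctor (Dual.D A) (1 : ℤ)).preimage u
        have hv : v⟦(1 : ℤ)⟧' = u := (shiftFunctor (Dual.D A) (1 : ℤ)).map_preimage u
        have hvs : v ≫ shiftMap a hc = 0 := by
          apply (shiftFunctor (Dual.D A) (1 : ℤ)).map_injective
          rw [Functor.map_comp, hv, Functor.map_zero]
          change ((TShiftIso i).hom ≫ g ≫ δ) ≫ (shiftMap a hc)⟦(1 : ℤ)⟧' = 0
          have : δ ≫ (shiftMap a hc)⟦(1 : ℤ)⟧' = 0 := comp_distTriang_mor_zero₃₁ _ hT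
          rw [Category.assoc, Category.assoc, this, comp_zero, comp_zero]
        have hv0 : v = 0 :=
          eq_zero_of_comp_shiftMap a hc v (compact_Sg (i + 1) _ c hc v) hvs
        have hu0 : u = 0 := by rw [← hv, hv0, Functor.map_zero]
        have : (TShiftIso i).hom ≫ g ≫ δ = 0 := hu0
        rwa [← cancel_epi (TShiftIso i).hom, comp_zero]
      obtain ⟨k, hk⟩ : ∃ k : T A i ⟶ c.pt, g = k ≫ m₂ := Triangle.coyoneda_exact₃ _ hT g h1
      obtain ⟨N, k', hk1, hk2⟩ :=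
        Good.of_finForm a f hc m₂ hm₂ haf (compact_Sg i _ c hc k)
      have hk3 : k' ≫ f N = 0 := by
        rw [← hk2, hθ', ← Category.assoc, ← hk, hg0]
      have hk4 : k' ≫ a N = 0 := hkill N i k' hk3
      have : g = 0 := by
        rw [hk, hk1, inj'_m₂ a hc m₂ hm₂ N, reassoc_of% hk4, zero_comp]
      rw [hgdef] at this
      exact sub_eq_zero.mp this
    · intro g
      obtain ⟨g', hg'⟩ := tower_zero_surj h i g
      refine ⟨g' ≫ inj' c 0 ≫ m₂, ?_⟩
      change (g' ≫ inj' c 0 ≫ m₂) ≫ θ = g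
      rw [Category.assoc, Category.assoc, ← hθ', inj'_ψ]
      exact hg'
  exact h.iso (asIso θ) hPZ

end Groth.Agent.Helper6.DTenG
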