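import Mathlib
import Groth.Prelude.Def_DTen3
import Groth.Agent.Helper6.DTenG5
import Groth.Agent.Helper6.DTenX5

/-! `evalTen K L M` is an isomorphism when `M` is perfect. -/

set_option autoImplicit false
universe u
open CategoryTheory CategoryTheory.Limits MonoidalCategory DerivedCategory Pretriangulated
attribute [local instance] HasDerivedCategory.standard

namespace Groth.Agent.Helper6.DTenG
open DTen TenCx DTenX Groth.Agent.Helper3.DRingLib

variable {A : Type u} [CommRing A] [HasLTen A]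

/-- `A[a] ⊗^L M ≅ M[a]` -/
lemma nonempty_unitShiftTensorObjIso (a : ℤ) (M : Dual.D A) :
    Nonempty ((LTen₂ A).obj ((DTen.unit A)⟦a⟧, M) ≅ M⟦a⟧) := by
  obtain ⟨P, hP, -, ⟨i⟩⟩ := SplitIso.exists_kproj_Q M
  haveI := hP
  haveI := SplitIso.isIso_ε A ((U A)⟦a⟧) P
  exact ⟨(LTen₂ A).mapIso (Iso.prod ((Q.commShiftIso a).app (U A)).symm i.symm) ≪≫
    (asIso ((ε A).app ((U A)⟦a⟧, P)) : _ ≅ Q.obj ((U A)⟦a⟧ ⊗ P)) ≪≫
    Q.mapIso ((CochainComplex.mapBifunctorShift₁Iso (U A) P
        (curriedTensor (ModuleCat.{u} A)) a : (U A)⟦a⟧ ⊗ P ≅ ((U A) ⊗ P)⟦a⟧) ≪≫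
      (shiftFunctor (DRing.Cx A) a).mapIso (λ_ P)) ≪≫
    (Q.commShiftIso a).app P ≪≫ (shiftFunctor (Dual.D A) a).mapIso i⟩

lemma nonempty_T_iso (i : ℤ) : Nonempty (T A i ≅ (DTen.unit A)⟦-i⟧) :=
  ⟨(singleShiftIso (ModuleCat.of A A) i).symm⟩

lemma compact_tensor_T {M : Dual.D A} (hM : DRing.IsPerfect A M) (i : ℤ) :
    Compact ((tensorRightD A M).obj (T A i)) := by
  obtain ⟨e⟩ := nonempty_T_iso (A := A) i
  obtain ⟨e'⟩ := nonempty_unitShiftTensorObjIso (-i) M
  have h0 : Compact M := @compact_of_isPerfect A _ M hM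
  have h1 : Compact (M⟦-i⟧) := @Compact.shift A _ M h0 (-i)
  exact @Compact.of_iso A _ (M⟦-i⟧) ((LTen₂ A).obj (T A i, M))
    (e'.symm ≪≫ (LTen₂ A).mapIso (Iso.prod e.symm (Iso.refl M))) h1

instance additive_tensorRightD [HasRHom A] (M : Dual.D A) : (tensorRightD A M).Additive := by
  haveI : PreservesColimitsOfShape (Discrete WalkingPair) (tensorRightD A M) := inferInstance
  haveI : PreservesBinaryBiproducts (tensorRightD A M) :=
    preservesBinaryBiproducts_of_preservesBinaryCoproducts _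
  exact Functor.additive_of_preservesBinaryBiproducts _

noncomputable def isColimit_map_of_preserves {J : Type u} (F : Dual.D A ⥤ Dual.D A)
    [PreservesColimitsOfShape (Discrete J) F] {N : J → Dual.D A} (c : Cofan N)
    (hc : IsColimit c) : IsColimit (Cofan.mk (F.obj c.pt) (fun j => F.map (c.inj j))) :=
  isColimitCofanMkObjOfIsColimit F N c.inj
    (IsColimit.ofIsoColimit hc (Cofan.ext (Iso.refl _) (fun j => by simp)))

variable [HasLTen₃ A] [IsSymMonoidal A] [HasRHom A]

/-- the property used in the dévissage (with `L`, `M` fixed) -/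
def QTen (L M K : Dual.D A) : Prop := ∀ n : ℤ, IsIso ((evalTenNat L M).app (K⟦n⟧))

variable {L M : Dual.D A}

lemma QTen.of_iso {K K' : Dual.D A} (e : K ≅ K') (h : QTen L M K) : QTen L M K' := fun n =>
  (NatTrans.isIso_app_iff_of_iso (evalTenNat L M) ((shiftFunctor (Dual.D A) n).mapIso e)).mp (h n)

lemma QTen.shift {K : Dual.D A} (h : QTen L M K) (m : ℤ) : QTen L M (K⟦m⟧) := fun n =>
  (NatTrans.isIso_app_iff_of_iso (evalTenNat L M)
    ((shiftFunctorAdd' (Dual.D A) m n (m + n) rfl).app K)).mp (h (m + n))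

lemma QTen.ext (T : Triangle (Dual.D A)) (hT : T ∈ distTriang _) (h1 : QTen L M T.obj₁)
    (h3 : QTen L M T.obj₃) : QTen L M T.obj₂ := fun n => by
  have hT' := Triangle.shift_distinguished T hT n
  have hF : MidExact ((LTen A).flip.obj ((RHomR A M).obj L)) := midExact_LTen_flip_obj _
  have hG : MidExact ((LTen A).flip.obj L ⋙ RHomR A M) :=
    (midExact_LTen_flip_obj L).comp_rightAdjoint (rhomAdj A M)
  exact isIso_app_obj₂ (evalTenNat L M) hF hG _ hT' (h1 n) (h3 n)
    ((h1.shift n) 1) ((h3.shift n) (-1))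

lemma QTen.unit : QTen L M (DTen.unit A) := fun n =>
  isIso_evalTen_of_isEquivalence _ L M

lemma QTen.gen (i : ℤ) : QTen L M (T A i) := by
  obtain ⟨e⟩ := nonempty_T_iso (A := A) i
  exact (QTen.unit.shift (-i)).of_iso e.symm

lemma QTen.coprod (hM : DRing.IsPerfect A M) {J : Type u} (N : J → Dual.D A) (c : Cofan N)
    (hc : IsColimit c) (h : ∀ j, QTen L M (N j)) : QTen L M c.pt := fun n => by
  let cn : Cofan (fun j => (N j)⟦n⟧) := Cofan.mk (c.pt⟦n⟧) (fun j => (c.inj j)⟦n⟧')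
  have hcn : IsColimit cn := isColimit_map_of_preserves (shiftFunctor (Dual.D A) n) c hc
  have hF := isColimit_map_of_preserves ((LTen A).flip.obj ((RHomR A M).obj L)) cn hcn
  have hG₁ := isColimit_map_of_preserves (tensorRightD A L) cn hcn
  obtain ⟨hG⟩ := isColimit_map_rightAdjoint (rhomAdj A M) (compact_tensor_T hM) _ hG₁
  exact isIso_app_of_coprod (evalTenNat L M) cn hF hG (fun j => h j n)

theorem isIso_evalTen_of_isPerfect_source (K L M : Dual.D A) (hM : DRing.IsPerfect A M) :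
    IsIso (evalTen K L M) := by
  have hyp : GenHyp (QTen L M) :=
    ⟨fun e h => h.of_iso e, QTen.ext, fun _ n h => h.shift n, QTen.coprod hM, QTen.gen⟩
  exact (NatTrans.isIso_app_iff_of_iso (evalTenNat L M)
    ((shiftFunctorZero (Dual.D A) ℤ).app K)).mp (generation hyp K 0)

end Groth.Agent.Helper6.DTenG
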