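import Mathlib
import Groth.Agent.Helper6.DTenG5
import Groth.Agent.Helper3.DRingTor7

/-! Compact objects of `D(A)` are perfect. -/

set_option autoImplicit false
universe u
open CategoryTheory CategoryTheory.Limits DerivedCategory Pretriangulated ZeroObject
attribute [local instance] HasDerivedCategory.standard

namespace Groth.Agent.Helper6.DTenG
open Groth.Agent.Helper1 Groth.Agent.Helper3.DRingLib

variable {A : Type u} [CommRing A]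

lemma isPerfect_T (i : ℤ) : DRing.IsPerfect A (T A i) := by
  refine ⟨Sg A i, i, i, fun j hj => ?_, fun j => ?_, ⟨Iso.refl _⟩⟩
  · exact HomologicalComplex.isZero_single_obj_X (ComplexShape.up ℤ) i (ModuleCat.of A A) j
      (by omega)
  · by_cases h : j = i
    · subst h
      have e' : ((Sg A j).X j) ≃ₗ[A] A :=
        (HomologicalComplex.singleObjXSelf (ComplexShape.up ℤ) j (ModuleCat.of A A)).toLinearEquiv
      exact ⟨Module.Finite.equiv e'.symm, Module.Projective.of_equiv e'.symm⟩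
    · have hz := HomologicalComplex.isZero_single_obj_X (ComplexShape.up ℤ) i
        (ModuleCat.of A A) j h
      have := ModuleCat.subsingleton_of_isZero hz
      exact ⟨Module.Finite.of_finite, Module.Projective.of_free⟩

/-- `g` factors through a perfect object -/
def Fact {C Y : Dual.D A} (g : C ⟶ Y) : Prop :=
  ∃ (Q : Dual.D A) (a : C ⟶ Q) (b : Q ⟶ Y), DRing.IsPerfect A Q ∧ g = a ≫ b

lemma Fact.zero {C Y : Dual.D A} : Fact (0 : C ⟶ Y) :=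
  ⟨0, 0, 0, isPerfect_of_isZero _ (isZero_zero _), by simp⟩

lemma Fact.add {C Y : Dual.D A} {g₁ g₂ : C ⟶ Y} (h₁ : Fact g₁) (h₂ : Fact g₂) :
    Fact (g₁ + g₂) := by
  obtain ⟨Q₁, a₁, b₁, hQ₁, rfl⟩ := h₁
  obtain ⟨Q₂, a₂, b₂, hQ₂, rfl⟩ := h₂
  refine ⟨Q₁ ⊞ Q₂, biprod.lift a₁ a₂, biprod.desc b₁ b₂, ?_, ?_⟩
  · exact isPerfect_obj₂ _ (binaryBiproductTriangle_distinguished Q₁ Q₂) hQ₁ hQ₂
  · rw [biprod.lift_desc]

lemma Fact.sub {C Y : Dual.D A} {g₁ g₂ : C ⟶ Y} (h₁ : Fact g₁) (h₂ : Fact g₂) :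
    Fact (g₁ - g₂) := by
  obtain ⟨Q₂, a₂, b₂, hQ₂, rfl⟩ := h₂
  have : Fact (-(a₂ ≫ b₂)) := ⟨Q₂, -a₂, b₂, hQ₂, by simp⟩
  rw [sub_eq_add_neg]
  exact h₁.add this

lemma Fact.comp_left {C' C Y : Dual.D A} (a : C' ⟶ C) {g : C ⟶ Y} (h : Fact g) : Fact (a ≫ g) := by
  obtain ⟨Q, a', b', hQ, rfl⟩ := h
  exact ⟨Q, a ≫ a', b', hQ, (Category.assoc _ _ _).symm⟩

lemma Fact.comp_right {C Y Y' : Dual.D A} {g : C ⟶ Y} (h : Fact g) (b : Y ⟶ Y') :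
    Fact (g ≫ b) := by
  obtain ⟨Q, a', b', hQ, rfl⟩ := h
  exact ⟨Q, a', b' ≫ b, hQ, Category.assoc _ _ _⟩

lemma Fact.of_src {C Y : Dual.D A} (g : C ⟶ Y) (hC : DRing.IsPerfect A C) : Fact g :=
  ⟨C, 𝟙 _, g, hC, (Category.id_comp _).symm⟩

lemma Fact.of_tgt {C Y : Dual.D A} (g : C ⟶ Y) (hY : DRing.IsPerfect A Y) : Fact g :=
  ⟨Y, g, 𝟙 _, hY, (Category.comp_id _).symm⟩

lemma Fact.sum {C Y : Dual.D A} {ι : Type*} (s : Finset ι) (f : ι → (C ⟶ Y))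
    (h : ∀ i ∈ s, Fact (f i)) : Fact (∑ i ∈ s, f i) := by
  classical
  induction s using Finset.induction_on with
  | empty => simpa using Fact.zero
  | insert a s ha ih =>
    rw [Finset.sum_insert ha]
    exact (h a (Finset.mem_insert_self a s)).add
      (ih (fun i hi => h i (Finset.mem_insert_of_mem hi)))

/-- every map from a compact object factors through a perfect object -/
def PF (Y : Dual.D A) : Prop := ∀ (C : Dual.D A), Compact C → ∀ g : C ⟶ Y, Fact g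

lemma PF.of_iso {K L : Dual.D A} (e : K ≅ L) (h : PF K) : PF L := by
  intro C hC g
  have := (h C hC (g ≫ e.inv)).comp_right e.hom
  rwa [Category.assoc, Iso.inv_hom_id, Category.comp_id] at this

lemma PF.shift {K : Dual.D A} (h : PF K) (n : ℤ) : PF (K⟦n⟧) := by
  intro C hC g
  let adj := (shiftEquiv (Dual.D A) n).symm.toAdjunction
  have hC' : Compact (C⟦-n⟧) := @Compact.shift A _ C hC (-n)
  obtain ⟨Q, a, b, hQ, hab⟩ := h (C⟦-n⟧) hC' ((adj.homEquiv C K).symm g)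
  refine ⟨Q⟦n⟧, adj.homEquiv C Q a, b⟦n⟧', isPerfect_shift n hQ, ?_⟩
  have h1 : adj.homEquiv C K ((adj.homEquiv C K).symm g) =
      adj.homEquiv C Q a ≫ b⟦n⟧' := by
    rw [hab]
    exact adj.homEquiv_naturality_right a b
  exact ((adj.homEquiv C K).apply_symm_apply g).symm.trans h1

lemma PF.coprod {J : Type u} (N : J → Dual.D A) (c : Cofan N) (hc : IsColimit c)
    (h : ∀ j, PF (N j)) : PF c.pt := by
  intro C hC g
  obtain ⟨S, g', rfl⟩ := hC N c hc g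
  exact Fact.sum S _ (fun j _ => (h j C hC (g' j)).comp_right (c.inj j))

lemma PF.gen (i : ℤ) : PF (T A i) := fun _ _ g => Fact.of_tgt g (isPerfect_T i)

/-- the cone of a map between objects with `PF` has `PF` -/
lemma PF.cone (T' : Triangle (Dual.D A)) (hT' : T' ∈ distTriang _) (h1 : PF T'.obj₁)
    (h2 : PF T'.obj₂) : PF T'.obj₃ := by
  intro C hC g
  obtain ⟨Q₀, a₀, b₀, hQ₀, h0⟩ := (h1.shift 1) C hC (g ≫ T'.mor₃)
  obtain ⟨C', v, w, hT₁⟩ := distinguished_cocone_triangle₁ a₀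
  have hC' : Compact C' := by
    have hT₁i := inv_rot_of_distTriang _ hT₁
    have hQc : Compact (Q₀⟦(-1 : ℤ)⟧) :=
      @compact_of_isPerfect A _ _ (isPerfect_shift (-1) hQ₀)
    exact @Compact.ext A _ _ hT₁i hQc hC
  have hT'r := rot_of_distTriang _ hT'
  obtain ⟨β, hβ1, hβ2⟩ : ∃ β : C' ⟶ T'.obj₂, v ≫ g = β ≫ T'.mor₂ ∧
      w ≫ β⟦(1 : ℤ)⟧' = b₀ ≫ T'.rotate.mor₃ :=
    complete_distinguished_triangle_morphism₁ (Triangle.mk v a₀ w)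
      T'.rotate hT₁ hT'r g b₀ h0.symm
  obtain ⟨Q₁, a₁, b₁, hQ₁, hab₁⟩ := h2 C' hC' β
  obtain ⟨Q₂, f₃, g₃, hT₃⟩ := distinguished_cocone_triangle₂ (w ≫ a₁⟦(1 : ℤ)⟧')
  have hQ₂ : DRing.IsPerfect A Q₂ := isPerfect_obj₂ _ hT₃ hQ₁ hQ₀
  obtain ⟨c₁, hc11, hc12⟩ : ∃ c₁ : C ⟶ Q₂, v ≫ c₁ = a₁ ≫ f₃ ∧ a₀ ≫ 𝟙 Q₀ = c₁ ≫ g₃ :=
    complete_distinguished_triangle_morphism₂ (Triangle.mk v a₀ w)
      (Triangle.mk f₃ g₃ (w ≫ a₁⟦(1 : ℤ)⟧')) hT₁ hT₃ a₁ (𝟙 Q₀) (Category.id_comp _).symm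
  obtain ⟨c₂, hc21, hc22⟩ : ∃ c₂ : Q₂ ⟶ T'.obj₃, f₃ ≫ c₂ = b₁ ≫ T'.mor₂ ∧
      g₃ ≫ b₀ = c₂ ≫ T'.mor₃ :=
    complete_distinguished_triangle_morphism₂
    (Triangle.mk f₃ g₃ (w ≫ a₁⟦(1 : ℤ)⟧')) T'.rotate hT₃ hT'r b₁ b₀ (by
      change (w ≫ a₁⟦(1 : ℤ)⟧') ≫ b₁⟦(1 : ℤ)⟧' = b₀ ≫ T'.rotate.mor₃
      rw [Category.assoc, ← Functor.map_comp, ← hab₁]
      exact hβ2)
  have hv : v ≫ (g - c₁ ≫ c₂) = 0 := by
    have e1 : v ≫ g = β ≫ T'.mor₂ := hβ1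
    have e2 : v ≫ c₁ = a₁ ≫ f₃ := hc11
    have e3 : f₃ ≫ c₂ = b₁ ≫ T'.mor₂ := hc21
    rw [Preadditive.comp_sub, e1, reassoc_of% e2, e3, hab₁, Category.assoc, sub_self]
  obtain ⟨γ, hγ⟩ : ∃ γ : Q₀ ⟶ T'.obj₃, g - c₁ ≫ c₂ = a₀ ≫ γ :=
    Triangle.yoneda_exact₂ _ hT₁ _ hv
  have hg : g = c₁ ≫ c₂ + a₀ ≫ γ := by rw [← hγ]; abel
  rw [hg]
  exact (Fact.of_tgt c₁ hQ₂).comp_right c₂ |>.add ((Fact.of_tgt a₀ hQ₀).comp_right γ)

lemma PF.ext (T' : Triangle (Dual.D A)) (hT' : T' ∈ distTriang _) (h1 : PF T'.obj₁)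
    (h3 : PF T'.obj₃) : PF T'.obj₂ :=
  PF.cone T'.invRotate (inv_rot_of_distTriang _ hT') (h3.shift (-1)) h1

lemma genHyp_PF : GenHyp (PF (A := A)) :=
  ⟨fun e h => h.of_iso e, PF.ext, fun _ n h => h.shift n, PF.coprod, PF.gen⟩

/-- compact objects of `D(A)` are perfect -/
theorem isPerfect_of_compact {X : Dual.D A} (hX : Compact X) : DRing.IsPerfect A X := by
  obtain ⟨Q, a, b, hQ, hab⟩ := generation genHyp_PF X X hX (𝟙 X)
  exact isPerfect_of_retract a b hab.symm hQ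

end Groth.Agent.Helper6.DTenG
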