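import Mathlib
import Groth.Prelude.Def_CohDer
import Groth.Agent.Helper6.DTenG7

/-! Translation between `Compact` and bijectivity of `CohDer.homSumToHomCoprod`. -/

set_option autoImplicit false
universe u
open CategoryTheory CategoryTheory.Limits DerivedCategory Pretriangulated ZeroObject
attribute [local instance] HasDerivedCategory.standard

namespace Groth.Agent.Helper6.DTenG
open Groth.Agent.Helper1 Groth.Agent.Helper3.DRingLib

variable {A : Type u} [CommRing A]

section

variable {I : Type u} (E : I → Dual.D A)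

/-- the family indexed by the lifted type -/
abbrev XU : ULift.{u + 1} I → Dual.D A := fun i => E i.down

variable [HasCoproduct (XU E)]

/-- the coproduct over the lifted index type as a cofan over `I` -/
noncomputable def cofanU : Cofan E := Cofan.mk (∐ XU E) (fun i => Sigma.ι (XU E) ⟨i⟩)

noncomputable def isColimitCofanU : IsColimit (cofanU E) :=
  Cofan.IsColimit.mk _ (fun s => Sigma.desc (fun i : ULift.{u + 1} I => s.inj i.down))
    (fun s i => by
      change Sigma.ι (XU E) ⟨i⟩ ≫ Sigma.desc (fun i : ULift.{u + 1} I => s.inj i.down) = s.inj i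
      rw [Sigma.ι_desc])
    (fun s m hm => by
      refine Sigma.hom_ext (f := XU E) _ _ (fun i => ?_)
      rw [Sigma.ι_desc]
      exact hm i.down)

variable (K : Dual.D A)

lemma hom_of (i : ULift.{u + 1} I) (g : K ⟶ XU E i) [DecidableEq (ULift.{u + 1} I)] :
    CohDer.homSumToHomCoprod K (XU E) (DirectSum.of (fun i => K ⟶ XU E i) i g) =
      g ≫ Sigma.ι (XU E) i := by
  unfold CohDer.homSumToHomCoprod
  convert DirectSum.toAddMonoid_of (fun i => Preadditive.rightComp K (Sigma.ι (XU E) i)) i g
  rfl

open Classical in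
/-- projection to a summand -/
noncomputable def pU (i : ULift.{u + 1} I) : ∐ XU E ⟶ XU E i :=
  Sigma.desc (fun j => if h : j = i then eqToHom (by rw [h]) else 0)

lemma ι_pU_self (i : ULift.{u + 1} I) : Sigma.ι (XU E) i ≫ pU E i = 𝟙 _ := by
  unfold pU
  rw [Sigma.ι_desc]
  simp

lemma ι_pU_ne (j i : ULift.{u + 1} I) (h : j ≠ i) : Sigma.ι (XU E) j ≫ pU E i = 0 := by
  unfold pU
  rw [Sigma.ι_desc]
  simp [h]

lemma hom_comp_pU (x : DirectSum (ULift.{u + 1} I) (fun i => K ⟶ XU E i))
    (i : ULift.{u + 1} I) : CohDer.homSumToHomCoprod K (XU E) x ≫ pU E i = x i := by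
  classical
  induction x using DirectSum.induction_on with
  | zero => simp
  | of j g =>
    rw [hom_of, Category.assoc]
    by_cases h : j = i
    · subst h
      rw [ι_pU_self, Category.comp_id, DirectSum.of_eq_same]
    · rw [ι_pU_ne E j i h, comp_zero, DirectSum.of_eq_of_ne (β := fun i => K ⟶ XU E i) j i g (Ne.symm h)]
  | add x y hx hy =>
    rw [map_add, Preadditive.add_comp, hx, hy, DirectSum.add_apply]

lemma hom_injective : Function.Injective (CohDer.homSumToHomCoprod K (XU E)) := by
  rw [injective_iff_map_eq_zero]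
  intro x hx
  apply DFinsupp.ext
  intro i
  rw [← hom_comp_pU, hx, zero_comp]
  rfl

lemma hom_surjective_of_compact (hK : Compact K) :
    Function.Surjective (CohDer.homSumToHomCoprod K (XU E)) := by
  classical
  intro f
  obtain ⟨S, g, hg⟩ := hK E (cofanU E) (isColimitCofanU E) f
  refine ⟨∑ j ∈ S, DirectSum.of (fun i : ULift.{u + 1} I => K ⟶ XU E i) ⟨j⟩ (g j), ?_⟩
  rw [map_sum]
  refine (Finset.sum_congr rfl (fun j _ => ?_)).trans hg.symm
  rw [hom_of]
  rfl

end

theorem compact_iff_bijective (K : Dual.D A) : Compact K ↔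
    ∀ (I : Type u) (E : I → Dual.D A) [HasCoproduct fun i : ULift.{u + 1} I => E i.down],
      Function.Bijective (CohDer.homSumToHomCoprod K (fun i : ULift.{u + 1} I => E i.down)) := by
  constructor
  · intro hK I E _
    exact ⟨hom_injective E K, hom_surjective_of_compact E K hK⟩
  · intro h J N c hc f
    classical
    haveI : HasColimitsOfShape (Discrete (ULift.{u + 1} J)) (Dual.D A) :=
      hasColimitsOfShape_of_equivalence (Discrete.equivalence Equiv.ulift.symm)
    let e : c.pt ≅ ∐ XU N := hc.coconePointUniqueUpToIso (isColimitCofanU N)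
    have he : ∀ j, c.inj j ≫ e.hom = Sigma.ι (XU N) ⟨j⟩ := fun j =>
      IsColimit.comp_coconePointUniqueUpToIso_hom hc (isColimitCofanU N) ⟨j⟩
    have he' : ∀ j, Sigma.ι (XU N) ⟨j⟩ ≫ e.inv = c.inj j := fun j => by
      rw [← he j, Category.assoc, Iso.hom_inv_id, Category.comp_id]
    obtain ⟨x, hx⟩ := (h J N).2 (f ≫ e.hom)
    refine ⟨x.support.map ⟨ULift.down, ULift.down_injective⟩, fun j => x ⟨j⟩, ?_⟩
    rw [Finset.sum_map]
    have h1 : f = CohDer.homSumToHomCoprod K (XU N) x ≫ e.inv := by
      rw [hx, Category.assoc, Iso.hom_inv_id, Category.comp_id]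
    rw [h1]
    conv_lhs => rw [← DirectSum.sum_support_of x]
    rw [map_sum, Preadditive.sum_comp]
    refine Finset.sum_congr rfl (fun i _ => ?_)
    rw [hom_of, Category.assoc]
    exact congrArg (fun t => x i ≫ t) (he' i.down)

end Groth.Agent.Helper6.DTenG
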