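import Mathlib
import Groth.Prelude.Def_DTen3
import Groth.Agent.Helper6.DTenE2
import Groth.Agent.Helper6.DTenG6
import Groth.Agent.Helper9.KFlat11

/-! `evalHom K L M` is an isomorphism when `K` is pseudo-coherent, `L` is bounded below and `M`
has finite injective dimension. -/

set_option autoImplicit false
set_option linter.style.haveILetI false
set_option linter.unusedSectionVars false

universe u
open CategoryTheory CategoryTheory.Limits MonoidalCategory DerivedCategory Pretriangulated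
attribute [local instance] HasDerivedCategory.standard

namespace Groth.Agent.Helper6.DTenH
open DTen TenCx Groth.Agent.Helper6.DTenX Groth.Agent.Helper6.HomTen Groth.Agent.Helper6.DTenE
  Groth.Agent.Helper6.DTenG Groth.Agent.Helper9

section Abstract

variable {D : Type*} [Category D] [HasZeroObject D] [HasShift D ℤ] [Preadditive D]
  [∀ n : ℤ, (shiftFunctor D n).Additive] [Pretriangulated D]
variable {E' : Type*} [Category E'] [Preadditive E']
variable {F G : D ⥤ E'} [F.PreservesZeroMorphisms] [G.PreservesZeroMorphisms]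

/-- four-term version of the five lemma, tested against a single object `W` -/
theorem bijective_app_obj₂ (η : F ⟶ G) (hF : MidExact F) (hG : MidExact G)
    (Tr : Triangle D) (hT : Tr ∈ distTriang D) (W : E')
    (h1 : IsIso (η.app Tr.obj₁))
    (hF3 : ∀ g : W ⟶ F.obj Tr.obj₃, g = 0)
    (hG3 : ∀ g : W ⟶ G.obj Tr.obj₃, g = 0)
    (hG3' : ∀ g : W ⟶ G.obj (Tr.obj₃⟦(-1 : ℤ)⟧), g = 0) :
    Function.Bijective (fun a : W ⟶ F.obj Tr.obj₂ => a ≫ η.app Tr.obj₂) := by
  haveI := h1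
  have hTi : Tr.invRotate ∈ distTriang D := inv_rot_of_distTriang _ hT
  constructor
  · intro a₁ a₂ h12
    dsimp at h12
    have key : ∀ a : W ⟶ F.obj Tr.obj₂, a ≫ η.app Tr.obj₂ = 0 → a = 0 := by
      intro a ha
      obtain ⟨b, hb⟩ := hF Tr hT W a (hF3 _)
      have e2 : (b ≫ η.app Tr.obj₁) ≫ G.map Tr.mor₁ = 0 := by
        rw [Category.assoc, ← η.naturality, reassoc_of% hb, ha]
      obtain ⟨c', hc'⟩ := hG Tr.invRotate hTi W (b ≫ η.app Tr.obj₁) e2
      have hb0 : b ≫ η.app Tr.obj₁ = 0 := by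
        have h0 := hG3' c'
        rw [h0] at hc'
        exact hc'.symm.trans zero_comp
      have hb1 : b = 0 := by
        rw [← cancel_mono (η.app Tr.obj₁), hb0, zero_comp]
      rw [← hb, hb1, zero_comp]
    exact sub_eq_zero.mp (key (a₁ - a₂) (by rw [Preadditive.sub_comp, h12, sub_self]))
  · intro a'
    obtain ⟨b', hb'⟩ := hG Tr hT W a' (hG3 _)
    refine ⟨b' ≫ inv (η.app Tr.obj₁) ≫ F.map Tr.mor₁, ?_⟩
    dsimp
    rw [Category.assoc, Category.assoc, η.naturality, IsIso.inv_hom_id_assoc, hb']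

end Abstract

variable {A : Type u} [CommRing A]

/-- maps into a K-injective complex in the derived category come from chain maps -/
lemma Q_map_surjective_inj (X I : DRing.Cx A) [I.IsKInjective] :
    Function.Surjective (Q.map : (X ⟶ I) → (Q.obj X ⟶ Q.obj I)) := by
  intro t
  obtain ⟨f', hf'⟩ := (CochainComplex.IsKInjective.Qh_map_bijective
    ((HomotopyCategory.quotient _ _).obj X) I).2
    ((quotientCompQhIso _).hom.app X ≫ t ≫ (quotientCompQhIso _).inv.app I)
  obtain ⟨f, rfl⟩ := (HomotopyCategory.quotient _ _).map_surjective f'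
  refine ⟨f, ?_⟩
  have hn := quotientCompQhIso_hom_naturality f
  rw [hf'] at hn
  simp only [Category.assoc, Iso.inv_hom_id_app, Category.comp_id] at hn
  exact ((cancel_epi ((quotientCompQhIso _).hom.app X)).mp hn).symm

lemma hom_T_Q_eq_zero (Y : DRing.Cx A) (i : ℤ) (hz : IsZero (Y.X i)) (g : T A i ⟶ Q.obj Y) :
    g = 0 := by
  obtain ⟨g₀, rfl⟩ := KProjQ.Q_map_surjective (Sg A i) Y g
  have : g₀ = 0 := by
    apply HomologicalComplex.from_single_hom_ext
    exact hz.eq_of_tgt _ _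
  rw [this, Functor.map_zero]

lemma isLE_of_hom_T_eq_zero (X : Dual.D A) (s : ℤ)
    (h : ∀ t : ℤ, s < t → ∀ g : T A t ⟶ X, g = 0) : DerivedCategory.IsLE X s := by
  obtain ⟨K, ⟨e⟩⟩ : ∃ K : DRing.Cx A, Nonempty (Q.obj K ≅ X) :=
    ⟨Q.objPreimage X, ⟨Q.objObjPreimageIso X⟩⟩
  rw [DerivedCategory.isLE_iff]
  intro i hi
  have hex : K.ExactAt i := exactAt_of_hom_eq_zero K i (fun g => by
    have := h i hi (g ≫ e.hom)
    rw [← cancel_mono e.hom, this, zero_comp])
  exact IsZero.of_iso ((HomologicalComplex.exactAt_iff_isZero_homology K i).mp hex)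
    (((homologyFunctor (ModuleCat.{u} A) i).mapIso e).symm ≪≫
      (homologyFunctorFactors (ModuleCat.{u} A) i).app K)

lemma isGE_of_hom_T_eq_zero (X : Dual.D A) (s : ℤ)
    (h : ∀ t : ℤ, t < s → ∀ g : T A t ⟶ X, g = 0) : DerivedCategory.IsGE X s := by
  obtain ⟨K, ⟨e⟩⟩ : ∃ K : DRing.Cx A, Nonempty (Q.obj K ≅ X) :=
    ⟨Q.objPreimage X, ⟨Q.objObjPreimageIso X⟩⟩
  rw [DerivedCategory.isGE_iff]
  intro i hi
  have hex : K.ExactAt i := exactAt_of_hom_eq_zero K i (fun g => by
    have := h i hi (g ≫ e.hom)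
    rw [← cancel_mono e.hom, this, zero_comp])
  exact IsZero.of_iso ((HomologicalComplex.exactAt_iff_isZero_homology K i).mp hex)
    (((homologyFunctor (ModuleCat.{u} A) i).mapIso e).symm ≪≫
      (homologyFunctorFactors (ModuleCat.{u} A) i).app K)

/-- no maps from `D^{≥ m}` to a complex of injectives vanishing above `b' < m` -/
lemma hom_eq_zero_of_isGE_of_inj (X M : Dual.D A) (m b' : ℤ) (hX : DerivedCategory.IsGE X m)
    (I : DRing.Cx A) (hI : DRing.TermwiseInjective I) (a' : ℤ)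
    (hIv : DRing.VanishesOutside I a' b') (eM : DRing.toD I ≅ M) (hm : b' < m)
    (f : X ⟶ M) : f = 0 := by
  haveI := hX
  obtain ⟨X', hX', ⟨eX⟩⟩ := DerivedCategory.exists_iso_Q_obj_of_isGE X m
  haveI : I.IsStrictlyGE a' := by
    rw [CochainComplex.isStrictlyGE_iff]
    intro i hi
    exact hIv i (Or.inl hi)
  haveI : ∀ i, Injective (I.X i) := fun i => by
    haveI := hI i
    exact Module.injective_object_of_injective_module A (I.X i)
  haveI : I.IsKInjective := CochainComplex.isKInjective_of_injective I a'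
  obtain ⟨f₀, hf₀⟩ := Q_map_surjective_inj X' I (eX.inv ≫ f ≫ eM.inv)
  have h0 : f₀ = 0 := by
    refine HomologicalComplex.hom_ext _ _ (fun i => ?_)
    by_cases hi : i < m
    · exact (CochainComplex.isZero_of_isStrictlyGE X' m i hi).eq_of_src _ _
    · exact (hIv i (Or.inr (by omega))).eq_of_tgt _ _
  rw [h0, Functor.map_zero] at hf₀
  have h2 : f ≫ eM.inv = 0 := by
    rw [← cancel_epi eX.inv, ← hf₀, comp_zero]
  rw [← cancel_mono eM.inv, h2, zero_comp]

lemma isZero_tensor_X (X C : DRing.Cx A) (s c i : ℤ) (hX : ∀ p, s < p → IsZero (X.X p))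
    (hC : ∀ q, c < q → IsZero (C.X q)) (hi : s + c < i) : IsZero ((X ⊗ C).X i) := by
  rw [IsZero.iff_id_eq_zero]
  apply TenCx.hom_ext
  intro p q hpq
  have hz : IsZero (X.X p ⊗ C.X q) := by
    by_cases hp : s < p
    · exact (tensorRight (C.X q)).map_isZero (hX p hp)
    · exact (tensorLeft (X.X p)).map_isZero (hC q (by omega))
  exact hz.eq_of_src _ _

variable [HasLTen A]

/-- `H^i(R ⊗^L C) = 0` for `i` large -/
lemma hom_T_LTen_eq_zero (R : Dual.D A) (s : ℤ) (hR : DerivedCategory.IsLE R s)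
    (C : DRing.Cx A) (c : ℤ) (hC : ∀ j, c < j → IsZero (C.X j)) (hCf : KFlat C)
    (i : ℤ) (hi : s + c < i) (g : T A i ⟶ (LTen₂ A).obj (R, Q.obj C)) : g = 0 := by
  haveI := hR
  obtain ⟨X, hX, ⟨eR⟩⟩ := DerivedCategory.exists_iso_Q_obj_of_isLE R s
  haveI := TenCompute.isIso_ε_of_kflat A X C (Or.inr hCf)
  obtain ⟨j, -⟩ : ∃ _ : (LTen₂ A).obj (R, Q.obj C) ≅ Q.obj (X ⊗ C), True :=
    ⟨(LTen₂ A).mapIso (Iso.prod eR (Iso.refl (Q.obj C))) ≪≫
      (asIso ((ε A).app (X, C)) : _ ≅ Q.obj (X ⊗ C)), trivial⟩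
  have hz : IsZero ((X ⊗ C).X i) :=
    isZero_tensor_X X C s c i (fun p hp => CochainComplex.isZero_of_isStrictlyLE X s p hp) hC hi
  rw [← cancel_mono j.hom, zero_comp]
  exact hom_T_Q_eq_zero (X ⊗ C) i hz _

variable [HasLTen₃ A] [IsSymMonoidal A] [HasRHom A]

/-- `H^t RHom(X, Y) = Hom(X[-t], Y)` (vanishing form) -/
lemma hom_T_RHom_eq_zero (t : ℤ) (X Y : Dual.D A) (h : ∀ f : X⟦-t⟧ ⟶ Y, f = 0)
    (g : T A t ⟶ (RHomR A X).obj Y) : g = 0 := by
  obtain ⟨e⟩ := nonempty_T_iso (A := A) t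
  obtain ⟨e'⟩ := nonempty_unitShiftTensorObjIso (-t) X
  obtain ⟨j, -⟩ : ∃ _ : X⟦-t⟧ ≅ (LTen₂ A).obj (T A t, X), True :=
    ⟨e'.symm ≪≫ (LTen₂ A).mapIso (Iso.prod e.symm (Iso.refl X)), trivial⟩
  have h0 : (rhomHomEquiv (T A t) X Y).symm g = 0 := by
    rw [← cancel_epi j.hom, comp_zero]
    exact h _
  calc g = rhomHomEquiv (T A t) X Y ((rhomHomEquiv (T A t) X Y).symm g) :=
        (Equiv.apply_symm_apply _ _).symm
    _ = rhomHomEquiv (T A t) X Y 0 := by rw [h0]
    _ = 0 := by rw [Adjunction.homEquiv_unit, Functor.map_zero, comp_zero]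

section Inj

variable (L M : Dual.D A) (n : ℤ) (hL : DerivedCategory.IsGE L n)
  (I : DRing.Cx A) (a' b' : ℤ) (hIv : DRing.VanishesOutside I a' b')
  (hI : DRing.TermwiseInjective I) (eM : DRing.toD I ≅ M)

include hL hIv hI eM

lemma isLE_RHom : DerivedCategory.IsLE ((RHomR A L).obj M) (b' - n) := by
  apply isLE_of_hom_T_eq_zero
  intro t ht g
  apply hom_T_RHom_eq_zero t _ _ _ g
  intro f
  haveI := hL
  have hs : DerivedCategory.IsGE (L⟦-t⟧) (n + t) :=
    TStructure.t.isGE_shift L n (-t) (n + t) (by omega)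
  exact hom_eq_zero_of_isGE_of_inj _ M (n + t) b' hs I hI a' hIv eM (by omega) f

lemma hom_T_GF_eq_zero (X : Dual.D A) (c : ℤ) (hX : DerivedCategory.IsLE X c) (i : ℤ)
    (hi : b' - n + c < i) (g : T A i ⟶ (RHomR A ((RHomR A X).obj L)).obj M) : g = 0 := by
  apply hom_T_RHom_eq_zero i _ _ _ g
  intro f
  haveI := hL
  haveI := hX
  have hY : DerivedCategory.IsGE ((RHomR A X).obj L) (n - c) := by
    apply isGE_of_hom_T_eq_zero
    intro t ht g'
    apply hom_T_RHom_eq_zero t _ _ _ g'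
    intro f'
    haveI : DerivedCategory.IsLE (X⟦-t⟧) (c + t) :=
      TStructure.t.isLE_shift X c (-t) (c + t) (by omega)
    exact TStructure.t.zero f' (c + t) n (by omega)
  haveI := hY
  have hs : DerivedCategory.IsGE (((RHomR A X).obj L)⟦-i⟧) (n - c + i) :=
    TStructure.t.isGE_shift _ (n - c) (-i) (n - c + i) (by omega)
  exact hom_eq_zero_of_isGE_of_inj _ M (n - c + i) b' hs I hI a' hIv eM (by omega) f

end Inj

omit [HasLTen A] [HasLTen₃ A] [IsSymMonoidal A] [HasRHom A] in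
lemma isPerfect_kerLE (E : DRing.Cx A) (b : ℤ) (hb : DRing.VanishesAbove E b)
    (hf : DRing.TermwiseFiniteFree E) (c : ℤ) :
    DRing.IsPerfect A (Q.obj (KFlat11.kerLE E c)) := by
  refine ⟨KFlat11.kerLE E c, c + 1, b, ?_, ?_, ⟨Iso.refl _⟩⟩
  · rintro i (hi | hi)
    · exact KFlat11.isZero_kerLE_X E c i (by omega)
    · exact IsZero.of_mono ((KFlat11.ιGT E c).f i) (hb i hi)
  · intro i
    by_cases hi : c < i
    · haveI := KFlat11.isIso_ιGT_f E c i hi
      let e : (KFlat11.kerLE E c).X i ≃ₗ[A] E.X i :=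
        (asIso ((KFlat11.ιGT E c).f i)).toLinearEquiv
      obtain ⟨h1, h2⟩ := hf i
      exact ⟨Module.Finite.equiv e.symm, Module.Projective.of_equiv e.symm⟩
    · have hz := KFlat11.isZero_kerLE_X E c i (by omega)
      haveI : Subsingleton ((KFlat11.kerLE E c).X i) := ModuleCat.subsingleton_of_isZero hz
      exact ⟨inferInstance, inferInstance⟩

omit [HasLTen A] [HasLTen₃ A] [IsSymMonoidal A] [HasRHom A] in
lemma isKProjective_sigLE (E : DRing.Cx A) (hf : DRing.TermwiseFiniteFree E) (c : ℤ) :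
    (KFlat11.sigLE E c).IsKProjective := by
  haveI : ∀ j, Projective ((KFlat11.sigLE E c).X j) := fun j => by
    by_cases hj : j ≤ c
    · haveI := KFlat11.isIso_πLE_f E c j hj
      obtain ⟨-, h2⟩ := hf j
      haveI : Module.Projective A (E.X j) := Module.Projective.of_free
      exact Projective.of_iso (asIso ((KFlat11.πLE E c).f j)) inferInstance
    · exact (KFlat11.isZero_sigLE_X E c j (by omega)).projective
  exact CochainComplex.isKProjective_of_projective (KFlat11.sigLE E c) c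

theorem main (K L M : Dual.D A) (hK : DRing.IsPseudoCoherent' A K) (n : ℤ)
    (hL : DerivedCategory.IsGE L n) (hM : DRing.HasFiniteInjDim A M) :
    IsIso (evalHom K L M) := by
  obtain ⟨E, b, hb, hf, ⟨eK⟩⟩ := hK
  obtain ⟨a', b', I, hIv, hI, ⟨eM⟩⟩ := hM
  suffices h : IsIso (evalHom (Q.obj E) L M) from
    (NatTrans.isIso_app_iff_of_iso (evalHomNat L M) eK).mp h
  apply isIso_of_bijective
  intro i
  obtain ⟨c, hc⟩ : ∃ c : ℤ, b' - n + c + 1 < i := ⟨i - b' + n - 2, by omega⟩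
  have hS := KFlat11.shortExact E c
  have hTr := triangleOfSES_distinguished hS
  have h1 : IsIso (evalHom (Q.obj (KFlat11.kerLE E c)) L M) :=
    isIso_evalHom_of_isPerfect _ L M (isPerfect_kerLE E b hb hf c)
  haveI := isKProjective_sigLE E hf c
  have hle : DerivedCategory.IsLE (Q.obj (KFlat11.sigLE E c)) c := inferInstance
  have hle' : DerivedCategory.IsLE ((Q.obj (KFlat11.sigLE E c))⟦(-1 : ℤ)⟧) (c + 1) :=
    TStructure.t.isLE_shift _ c (-1) (c + 1) (by omega)
  have hR := isLE_RHom L M n hL I a' b' hIv hI eM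
  have hF3 : ∀ g : T A i ⟶ (LTen₂ A).obj ((RHomR A L).obj M, Q.obj (KFlat11.sigLE E c)),
      g = 0 := fun g =>
    hom_T_LTen_eq_zero _ (b' - n) hR (KFlat11.sigLE E c) c
      (fun j hj => KFlat11.isZero_sigLE_X E c j hj) (kflat_of_isKProjective _) i (by omega) g
  have hG3 : ∀ g : T A i ⟶
      (RHomR A ((RHomR A (Q.obj (KFlat11.sigLE E c))).obj L)).obj M, g = 0 := fun g =>
    hom_T_GF_eq_zero L M n hL I a' b' hIv hI eM _ c hle i (by omega) g
  have hG3' : ∀ g : T A i ⟶
      (RHomR A ((RHomR A ((Q.obj (KFlat11.sigLE E c))⟦(-1 : ℤ)⟧)).obj L)).obj M, g = 0 :=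
    fun g => hom_T_GF_eq_zero L M n hL I a' b' hIv hI eM _ (c + 1) hle' i (by omega) g
  exact bijective_app_obj₂ (evalHomNat L M) (midExact_LTen_obj _) (midExact_GF L M)
    (triangleOfSES hS) hTr (T A i) h1 hF3 hG3 hG3'

end Groth.Agent.Helper6.DTenH
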