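import Mathlib

set_option autoImplicit false
set_option linter.style.haveILetI false
set_option linter.unusedSectionVars false

namespace Groth.Agent.Helper6.Davis

variable {R : Type*} [CommRing R]

theorem exists_mem_notMem_of_finset (s : Finset (Ideal R)) (P : Ideal R) (hP : P.IsPrime)
    (J : Ideal R) (hJ : ¬ J ≤ P) :
    ∃ z ∈ J, z ∉ P ∧ ∀ Q ∈ s, ¬ Q ≤ P → z ∈ Q := by
  classical
  induction s using Finset.induction_on with
  | empty =>
    obtain ⟨z, hzJ, hzP⟩ := SetLike.not_le_iff_exists.mp hJ
    exact ⟨z, hzJ, hzP, fun Q hQ => absurd hQ (Finset.notMem_empty Q)⟩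
  | insert Q s hQs ih =>
    obtain ⟨z, hzJ, hzP, hz⟩ := ih
    by_cases hQP : Q ≤ P
    · refine ⟨z, hzJ, hzP, fun Q' hQ' hQ'P => ?_⟩
      rcases Finset.mem_insert.mp hQ' with h | hQ'
      · exact absurd (by rw [h]; exact hQP) hQ'P
      · exact hz Q' hQ' hQ'P
    · obtain ⟨w, hwQ, hwP⟩ := SetLike.not_le_iff_exists.mp hQP
      refine ⟨z * w, J.mul_mem_right w hzJ, ?_, fun Q' hQ' hQ'P => ?_⟩
      · intro h
        rcases hP.mem_or_mem h with h | h
        · exact hzP h
        · exact hwP h
      · rcases Finset.mem_insert.mp hQ' with h | hQ'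
        · rw [h]; exact Ideal.mul_mem_left _ z hwQ
        · exact Ideal.mul_mem_right w _ (hz Q' hQ' hQ'P)

/-- Coset prime avoidance: if `J` is contained in none of finitely many primes, some element of
`x + J` avoids all of them. -/
theorem exists_add_notMem (J : Ideal R) (x : R) (s : Finset (Ideal R))
    (hs : ∀ P ∈ s, P.IsPrime) (hJ : ∀ P ∈ s, ¬ J ≤ P) :
    ∃ y ∈ J, ∀ P ∈ s, x + y ∉ P := by
  classical
  induction s using Finset.induction_on with
  | empty => exact ⟨0, J.zero_mem, fun P hP => absurd hP (Finset.notMem_empty P)⟩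
  | insert P s hPs ih =>
    obtain ⟨y, hyJ, hy⟩ := ih (fun Q hQ => hs Q (Finset.mem_insert_of_mem hQ))
      (fun Q hQ => hJ Q (Finset.mem_insert_of_mem hQ))
    have hPprime : P.IsPrime := hs P (Finset.mem_insert_self P s)
    by_cases hxy : x + y ∈ P
    · obtain ⟨z, hzJ, hzP, hz⟩ := exists_mem_notMem_of_finset s P hPprime J
        (hJ P (Finset.mem_insert_self P s))
      have key : x + (y + z) ∉ P := by
        intro h
        apply hzP
        have : z = x + (y + z) - (x + y) := by ring
        rw [this]
        exact P.sub_mem h hxy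
      refine ⟨y + z, J.add_mem hyJ hzJ, fun Q hQ => ?_⟩
      rcases Finset.mem_insert.mp hQ with h | hQ
      · rw [h]; exact key
      · by_cases hQP : Q ≤ P
        · exact fun h => key (hQP h)
        · intro h
          apply hy Q hQ
          have : x + y = x + (y + z) - z := by ring
          rw [this]
          exact Q.sub_mem h (hz Q hQ hQP)
    · refine ⟨y, hyJ, fun Q hQ => ?_⟩
      rcases Finset.mem_insert.mp hQ with h | hQ
      · rw [h]; exact hxy
      · exact hy Q hQ

end Groth.Agent.Helper6.Davis
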