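import Mathlib

set_option autoImplicit false

namespace Groth.Agent.Helper6.DecInert

open Pointwise

variable (B : Type*) [CommRing B] (Γ : Type*) [Group Γ] [Finite Γ] [MulSemiringAction Γ B]
  (Ω : Subgroup Γ)

instance isInv : Algebra.IsInvariant (FixedPoints.subring B Ω) B Ω :=
  ⟨fun b hb => ⟨⟨b, hb⟩, rfl⟩⟩

omit [Finite Γ] in
theorem mem_fixed_iff (x : B) : x ∈ FixedPoints.subring B Ω ↔ ∀ ω ∈ Ω, ω • x = x := by
  constructor
  · intro h ω hω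
    exact h ⟨ω, hω⟩
  · intro h ω
    exact h ω.1 ω.2

variable {B Γ}

theorem dec (P : Ideal B) [P.IsPrime] (γ : Γ)
    (h : ∀ x : B, (∀ ω ∈ Ω, ω • x = x) → (x ∈ P ↔ γ • x ∈ P)) :
    ∃ ω ∈ Ω, ∀ x : B, x ∈ P ↔ (γ * ω) • x ∈ P := by
  haveI : Finite Ω := inferInstance
  have hP' : (γ⁻¹ • P).IsPrime := Ideal.IsPrime.smul γ⁻¹
  have hmem : ∀ x, x ∈ γ⁻¹ • P ↔ γ • x ∈ P := by
    intro x
    rw [Ideal.mem_pointwise_smul_iff_inv_smul_mem, inv_inv]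
  have hunder : P.under (FixedPoints.subring B Ω) = (γ⁻¹ • P).under (FixedPoints.subring B Ω) := by
    ext a
    rw [Ideal.under_def, Ideal.under_def, Ideal.mem_comap, Ideal.mem_comap, hmem]
    exact h a.1 ((mem_fixed_iff B Γ Ω a.1).1 a.2)
  obtain ⟨ω, hω⟩ := Algebra.IsInvariant.exists_smul_of_under_eq (FixedPoints.subring B Ω) B Ω P
    (γ⁻¹ • P) hunder
  refine ⟨ω.1, ω.2, fun x => ?_⟩
  rw [mul_smul, ← hmem, hω, Ideal.mem_pointwise_smul_iff_inv_smul_mem]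
  have : ω⁻¹ • (ω.1 • x) = x := by
    change (ω⁻¹ : Ω) • ((ω : Ω) • x) = x
    rw [inv_smul_smul]
  rw [this]


theorem inert (P : Ideal B) [P.IsPrime] (γ : Γ)
    (h2 : ∀ x : B, (∀ ω ∈ Ω, ω • x = x) → γ • x - x ∈ P) :
    ∃ ω ∈ Ω, ∀ x : B, (γ * ω) • x - x ∈ P := by
  haveI : Finite Ω := inferInstance
  have h : ∀ x : B, (∀ ω ∈ Ω, ω • x = x) → (x ∈ P ↔ γ • x ∈ P) := by
    intro x hx
    have := h2 x hx
    constructor
    · intro hxP
      have : γ • x = (γ • x - x) + x := by ring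
      rw [this]
      exact P.add_mem (h2 x hx) hxP
    · intro hgx
      have : x = γ • x - (γ • x - x) := by ring
      rw [this]
      exact P.sub_mem hgx (h2 x hx)
  obtain ⟨ω₁, hω₁, hstab⟩ := dec Ω P γ h
  set γ₁ := γ * ω₁ with hγ₁
  -- the ring automorphism of B ⧸ P induced by γ₁
  let e : B ≃+* B := MulSemiringAction.toRingEquiv Γ B γ₁
  have he : ∀ x, e x = γ₁ • x := fun x => rfl
  have hmap : P = Ideal.map (e : B →+* B) P := by
    ext x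
    rw [Ideal.map_comap_of_equiv, Ideal.mem_comap]
    have : e.symm x = γ₁⁻¹ • x := rfl
    rw [this, hstab (γ₁⁻¹ • x), smul_inv_smul]
  let σ₀ : (B ⧸ P) ≃+* (B ⧸ P) := Ideal.quotientEquiv P P e hmap
  have hσ₀ : ∀ b : B, σ₀ (Ideal.Quotient.mk P b) = Ideal.Quotient.mk P (γ₁ • b) := by
    intro b
    rfl
  let p := P.under (FixedPoints.subring B Ω)
  have hcomm : ∀ x : (FixedPoints.subring B Ω) ⧸ p,
      σ₀ (algebraMap _ (B ⧸ P) x) = algebraMap _ (B ⧸ P) x := by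
    intro x
    obtain ⟨a, rfl⟩ := Ideal.Quotient.mk_surjective x
    rw [Ideal.Quotient.algebraMap_mk_of_liesOver, hσ₀, Ideal.Quotient.eq]
    have ha : ∀ ω ∈ Ω, ω • (a : B) = a := (mem_fixed_iff B Γ Ω a.1).1 a.2
    have : γ₁ • (algebraMap (FixedPoints.subring B Ω) B a) = γ • (a : B) := by
      change (γ * ω₁) • (a : B) = γ • (a : B)
      rw [mul_smul, ha ω₁ hω₁]
    rw [this]
    exact h2 a.1 ha
  let σ : (B ⧸ P) ≃ₐ[(FixedPoints.subring B Ω) ⧸ p] (B ⧸ P) := AlgEquiv.ofRingEquiv (f := σ₀) hcomm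
  obtain ⟨g, hg⟩ := Ideal.Quotient.stabilizerHom_surjective Ω p P σ.symm
  refine ⟨ω₁ * g.1.1, Ω.mul_mem hω₁ g.1.2, fun x => ?_⟩
  rw [← mul_assoc, mul_smul, ← Ideal.Quotient.eq, ← hσ₀]
  have h3 : Ideal.Quotient.mk P ((g.1.1 : Γ) • x) = σ.symm (Ideal.Quotient.mk P x) := by
    rw [← hg]
    rfl
  rw [h3]
  exact σ.apply_symm_apply _

end Groth.Agent.Helper6.DecInert
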