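import Mathlib
import Groth.Agent.Helper1.Horseshoe
import Groth.Prelude.Def_RDerDelta

set_option autoImplicit false
set_option linter.style.haveILetI false
set_option linter.unusedSectionVars false
set_option linter.unusedVariables false

/-!
# Middle exactness of the long exact sequence of right derived functors; dévissage of finite `ℓ`-groups
-/

namespace Groth.Agent.Helper6.DepthFlcA

open CategoryTheory CategoryTheory.Limits

universe w v u v' u'

section Mid

variable {C : Type u} [Category.{v} C] [Abelian C] [HasInjectiveResolutions C]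
  {D : Type u'} [Category.{v'} D] [Abelian D] (F : C ⥤ D) [F.Additive]

open Groth.Agent.Helper1.Horseshoe

/-- exactness of `RⁿF(X₁) → RⁿF(X₂) → RⁿF(X₃)` -/
theorem exact_rightDerived_mid (S : ShortComplex C) (hS : S.ShortExact) (n : ℕ) :
    (ShortComplex.mk ((F.rightDerived n).map S.f) ((F.rightDerived n).map S.g)
      (by rw [← Functor.map_comp, S.zero, Functor.map_zero])).Exact := by
  obtain ⟨I⟩ := (HasInjectiveResolutions.out S.X₁).out
  obtain ⟨J⟩ := (HasInjectiveResolutions.out S.X₃).out
  obtain ⟨M, α, β, w, h₁, h₂, hsp⟩ := exists_res S hS I J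
  have hT : ((ShortComplex.mk α β w).map
      (F.mapHomologicalComplex (ComplexShape.up ℕ))).ShortExact :=
    HomologicalComplex.shortExact_of_degreewise_shortExact _
      (fun n => (((hsp n).some).map F).shortExact)
  have nat₁ := InjectiveResolution.isoRightDerivedObj_hom_naturality S.f I M α h₁ F n
  have nat₂ := InjectiveResolution.isoRightDerivedObj_hom_naturality S.g M J β h₂ F n
  refine ShortComplex.exact_of_iso ?_ (hT.homology_exact₂ n)
  refine ShortComplex.isoMk (I.isoRightDerivedObj F n).symm (M.isoRightDerivedObj F n).symm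
    (J.isoRightDerivedObj F n).symm ?_ ?_
  · exact (Iso.inv_comp_eq _).2 (((Iso.eq_comp_inv _).2 nat₁).trans (Category.assoc _ _ _))
  · exact (Iso.inv_comp_eq _).2 (((Iso.eq_comp_inv _).2 nat₂).trans (Category.assoc _ _ _))

theorem isZero_rightDerived_X₂ (S : ShortComplex C) (hS : S.ShortExact) (n : ℕ)
    (h₁ : IsZero ((F.rightDerived n).obj S.X₁)) (h₃ : IsZero ((F.rightDerived n).obj S.X₃)) :
    IsZero ((F.rightDerived n).obj S.X₂) :=
  (exact_rightDerived_mid F S hS n).isZero_of_both_zeros (h₁.eq_of_src _ _) (h₃.eq_of_tgt _ _)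

end Mid

section Devissage

variable (Pr : AddCommGrpCat.{w} → Prop) (ℓ : ℕ) [hℓ : Fact ℓ.Prime]
  (hiso : ∀ A B : AddCommGrpCat.{w}, (A ≅ B) → Pr A → Pr B)
  (hses : ∀ S : ShortComplex AddCommGrpCat.{w}, S.ShortExact → Pr S.X₁ → Pr S.X₃ → Pr S.X₂)
  (h0 : ∀ A : AddCommGrpCat.{w}, IsZero A → Pr A)
  (h1 : Pr (AddCommGrpCat.of (ULift.{w} (ZMod ℓ))))

/-- an element of order `ℓ` in a non-trivial `ℓ`-group -/
lemma exists_order_ell {N : Type*} [AddCommGroup N] (hN : ∀ x : N, ∃ k : ℕ, ℓ ^ k • x = 0)
    (x : N) (hx : x ≠ 0) : ∃ m : N, m ≠ 0 ∧ ℓ • m = 0 := by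
  classical
  have hk := Nat.find_spec (hN x)
  have hk1 : 1 ≤ Nat.find (hN x) := by
    by_contra h
    have h0' : Nat.find (hN x) = 0 := by omega
    rw [h0', pow_zero, one_smul] at hk
    exact hx hk
  obtain ⟨k, hk'⟩ : ∃ k, Nat.find (hN x) = k + 1 := ⟨Nat.find (hN x) - 1, by omega⟩
  refine ⟨ℓ ^ k • x, ?_, ?_⟩
  · intro h
    have := Nat.find_min (hN x) (m := k) (by omega)
    exact this h
  · rw [← mul_smul, ← pow_succ', ← hk']
    exact hk

/-- the embedding `ℤ/ℓ → N` with image generated by an element of order `ℓ` -/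
noncomputable def emb {N : Type*} [AddCommGroup N] (m : N) (hm : ℓ • m = 0) : ZMod ℓ →+ N :=
  ZMod.lift ℓ ⟨zmultiplesHom N m, by
    rw [zmultiplesHom_apply, natCast_zsmul]
    exact hm⟩

lemma emb_natCast {N : Type*} [AddCommGroup N] (m : N) (hm : ℓ • m = 0) (a : ℕ) :
    emb ℓ m hm (a : ZMod ℓ) = a • m := by
  have : ((a : ℤ) : ZMod ℓ) = (a : ZMod ℓ) := by norm_cast
  rw [← this]
  unfold emb
  rw [ZMod.lift_coe]
  simp

lemma emb_injective {N : Type*} [AddCommGroup N] (m : N) (hm : ℓ • m = 0) (hm0 : m ≠ 0) :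
    Function.Injective (emb ℓ m hm) := by
  rw [injective_iff_map_eq_zero]
  intro a ha
  by_contra ha0
  apply hm0
  have h1' : (a⁻¹ * a : ZMod ℓ) = 1 := inv_mul_cancel₀ ha0
  have h2 : (a⁻¹ * a : ZMod ℓ) = (a⁻¹).val • a := by
    rw [nsmul_eq_mul, ZMod.natCast_zmod_val]
  have h3 : emb ℓ m hm (1 : ZMod ℓ) = m := by
    have := emb_natCast ℓ m hm 1
    rwa [Nat.cast_one, one_smul] at this
  rw [← h3, ← h1', h2, map_nsmul, ha, smul_zero]

include hiso hses h0 h1 in
theorem devissage : ∀ (c : ℕ) (N : AddCommGrpCat.{w}) [Finite N], Nat.card N = c →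
    (∀ x : N, ∃ k : ℕ, ℓ ^ k • x = 0) → Pr N := by
  intro c
  induction c using Nat.strong_induction_on with
  | _ c ih =>
    intro N _ hc hN
    by_cases hsub : Subsingleton N
    · exact h0 N (AddCommGrpCat.isZero_of_subsingleton N)
    · rw [not_subsingleton_iff_nontrivial] at hsub
      obtain ⟨x, hx⟩ := exists_ne (0 : N)
      obtain ⟨m, hm0, hm⟩ := exists_order_ell ℓ hN x hx
      let φ : ZMod ℓ →+ N := emb ℓ m hm
      have hφ : Function.Injective φ := emb_injective ℓ m hm hm0
      let K : AddSubgroup N := φ.range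
      let Q : AddCommGrpCat.{w} := AddCommGrpCat.of (N ⧸ K)
      let f : AddCommGrpCat.of (ULift.{w} (ZMod ℓ)) ⟶ N :=
        AddCommGrpCat.ofHom (φ.comp AddEquiv.ulift.toAddMonoidHom)
      let g : N ⟶ Q := AddCommGrpCat.ofHom (QuotientAddGroup.mk' K)
      have hfg : f ≫ g = 0 := by
        refine AddCommGrpCat.hom_ext (AddMonoidHom.ext fun a => ?_)
        show QuotientAddGroup.mk' K (φ (AddEquiv.ulift a)) = 0
        rw [QuotientAddGroup.mk'_apply, QuotientAddGroup.eq_zero_iff]
        exact ⟨_, rfl⟩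
      let S : ShortComplex AddCommGrpCat.{w} := ShortComplex.mk f g hfg
      have hS : S.ShortExact := by
        haveI : Mono S.f := by
          rw [AddCommGrpCat.mono_iff_injective]
          exact hφ.comp AddEquiv.ulift.injective
        haveI : Epi S.g := by
          rw [AddCommGrpCat.epi_iff_surjective]
          exact QuotientAddGroup.mk'_surjective K
        refine ShortComplex.ShortExact.mk ?_
        rw [ShortComplex.ab_exact_iff]
        intro x₂ hx₂
        have hx₂' : QuotientAddGroup.mk' K x₂ = 0 := hx₂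
        rw [QuotientAddGroup.mk'_apply, QuotientAddGroup.eq_zero_iff] at hx₂'
        obtain ⟨a, ha⟩ := hx₂'
        exact ⟨AddEquiv.ulift.symm a, ha⟩
      have hQfin : Finite Q := inferInstanceAs (Finite (N ⧸ K))
      have hQ : ∀ q : Q, ∃ k : ℕ, ℓ ^ k • q = 0 := by
        intro q
        obtain ⟨y, rfl⟩ := QuotientAddGroup.mk'_surjective K q
        obtain ⟨k, hk⟩ := hN y
        exact ⟨k, by rw [← map_nsmul, hk, map_zero]⟩
      have hcard : Nat.card Q < c := by
        rw [← hc]
        haveI := Fintype.ofFinite N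
        haveI := Fintype.ofFinite (N ⧸ K)
        rw [Nat.card_eq_fintype_card, Nat.card_eq_fintype_card]
        refine Fintype.card_lt_of_surjective_not_injective (QuotientAddGroup.mk' K)
          (QuotientAddGroup.mk'_surjective K) ?_
        intro hinj
        apply hm0
        apply hinj
        rw [map_zero, QuotientAddGroup.mk'_apply, QuotientAddGroup.eq_zero_iff]
        refine ⟨1, ?_⟩
        have := emb_natCast ℓ m hm 1
        rwa [Nat.cast_one, one_smul] at this
      exact hses S hS h1 (ih (Nat.card Q) hcard Q rfl hQ)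

end Devissage

end Groth.Agent.Helper6.DepthFlcA
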