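import Mathlib
import Groth.Prelude.Def_EtBase
import Groth.Agent.Helper9.EtStalkExact
import Groth.Agent.Helper9.EtStalkPull

set_option autoImplicit false
set_option linter.style.haveILetI false
set_option linter.unusedSectionVars false
set_option linter.unusedVariables false

/-!
# An abelian étale sheaf which vanishes étale locally is zero
-/

namespace Groth.Agent.Helper6.EtLocC

open CategoryTheory CategoryTheory.Limits AlgebraicGeometry Opposite

universe u

variable {X : Scheme.{u}}

theorem isZero_of_etale_local (G : EtCoh.Ab X)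
    (hloc : ∀ x : X, ∃ (V : Scheme.{u}) (v : V ⟶ X) (_ : Etale v) (y : V), v y = x ∧
      IsZero ((EtCoh.pull v).obj G)) : IsZero G := by
  apply Groth.Agent.Helper9.EtStalkExact.isZero_of_stalks
  intro Ω _ _ ξ
  obtain ⟨V, v, hv, y, hy, hz⟩ := hloc (ξ default)
  obtain ⟨l, hl, -⟩ := Scheme.exists_fac_of_etale_of_isSepClosed v ξ y hy
  subst hl
  exact ((EtCoh.stalk l).map_isZero hz).of_iso
    ((Groth.Agent.Helper9.EtStalkPull.stalkPullIso v l).app G).symm

end Groth.Agent.Helper6.EtLocC
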