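import Mathlib
import Groth.Prelude.Def_EtDepth
import Groth.Agent.Helper4.OverEtC
import Groth.Agent.Helper4.ConstLoc
import Groth.Agent.Helper4.LcExtB
import Groth.Agent.Helper6.EtLocB
import Groth.Agent.Helper6.EtLocC
import Groth.Agent.Helper6.DepthFlcA

set_option autoImplicit false
set_option linter.style.haveILetI false
set_option linter.unusedSectionVars false
set_option linter.unusedVariables false

/-!
# Étale depth of finite locally constant `ℓ`-torsion sheaves
-/

namespace Groth.Agent.Helper6.DepthFlcB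

open CategoryTheory CategoryTheory.Limits AlgebraicGeometry Opposite
open Groth.Agent.Helper4.ConstLoc Groth.Agent.Helper4.EtGeom Groth.Agent.Helper4.OverEtC
  Groth.Agent.Helper4.LcExtB

universe u

section ConstExact

variable (Y : Scheme.{u})

instance : (Functor.const Y.Etaleᵒᵖ : AddCommGrpCat.{u + 1} ⥤ _).Additive where
  map_add := by
    intros
    ext
    rfl

instance : PreservesFiniteLimits (Functor.const Y.Etaleᵒᵖ : AddCommGrpCat.{u + 1} ⥤ _) :=
  ⟨fun J _ _ => preservesLimitsOfShape_of_evaluation _ _ (fun k =>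
    (inferInstanceAs (PreservesLimitsOfShape J (𝟭 AddCommGrpCat.{u + 1}))))⟩

instance : PreservesFiniteColimits (Functor.const Y.Etaleᵒᵖ : AddCommGrpCat.{u + 1} ⥤ _) :=
  ⟨fun J _ _ => preservesColimitsOfShape_of_evaluation _ _ (fun k =>
    (inferInstanceAs (PreservesColimitsOfShape J (𝟭 AddCommGrpCat.{u + 1}))))⟩

instance : (constantSheaf Y.smallEtaleTopology AddCommGrpCat.{u + 1}).Additive := by
  unfold constantSheaf
  infer_instance

instance : PreservesFiniteLimits (constantSheaf Y.smallEtaleTopology AddCommGrpCat.{u + 1}) := by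
  unfold constantSheaf
  infer_instance

instance : PreservesFiniteColimits (constantSheaf Y.smallEtaleTopology AddCommGrpCat.{u + 1}) := by
  unfold constantSheaf
  haveI : PreservesFiniteColimits (presheafToSheaf Y.smallEtaleTopology AddCommGrpCat.{u + 1}) := by
    haveI : PreservesColimitsOfSize.{0, 0}
        (presheafToSheaf Y.smallEtaleTopology AddCommGrpCat.{u + 1}) :=
      (sheafificationAdjunction Y.smallEtaleTopology AddCommGrpCat.{u + 1}).leftAdjoint_preservesColimits
    exact PreservesColimitsOfSize.preservesFiniteColimits _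
  infer_instance

lemma shortExact_const (S : ShortComplex AddCommGrpCat.{u + 1}) (hS : S.ShortExact) :
    (S.map (constantSheaf Y.smallEtaleTopology AddCommGrpCat.{u + 1})).ShortExact :=
  hS.map_of_exact _

end ConstExact

section Torsion

variable {X V : Scheme.{u}} (v : V ⟶ X) [Etale v]

/-- the value group of a constant restriction of an `ℓ`-torsion sheaf is an `ℓ`-group -/
lemma ell_group_of_const (ℓ : ℕ) (F : EtCoh.Ab X) (hFt : EtDepth.IsLTorsion ℓ F)
    (N : AddCommGrpCat.{u + 1}) (e : (EtCoh.pull v).obj F ≅ cS V N) (y : V) (m : N) :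
    ∃ k : ℕ, ℓ ^ k • m = 0 := by
  obtain ⟨e', -⟩ : ∃ e' : (EtShriek.restrAlong v).obj F ≅ cS V N, True :=
    ⟨((Groth.Agent.Helper9.EtShriekOpen.pullIsoRestr v).app F).symm ≪≫ e, trivial⟩
  obtain ⟨t, ht⟩ : ∃ t : ((EtShriek.restrAlong v).obj F).obj.obj (op (EtCoh.top V)),
      e'.hom.hom.app (op (EtCoh.top V)) t = (η V N).app (op (EtCoh.top V)) m := by
    refine ⟨e'.inv.hom.app (op (EtCoh.top V)) ((η V N).app (op (EtCoh.top V)) m), ?_⟩
    have h1 : e'.inv.hom.app (op (EtCoh.top V)) ≫ e'.hom.hom.app (op (EtCoh.top V)) = 𝟙 _ := by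
      rw [← NatTrans.comp_app, ← ObjectProperty.FullSubcategory.comp_hom, e'.inv_hom_id]
      rfl
    exact ConcreteCategory.congr_hom h1 _
  let T : Sieve ((EtShriek.compEtale v).obj (EtCoh.top V)) :=
    { arrows := fun W g => ∃ k : ℕ, ℓ ^ k • (F.obj.map g.op t) = 0
      downward_closed := by
        rintro W W' g ⟨k, hk⟩ h
        refine ⟨k, ?_⟩
        rw [op_comp, Functor.map_comp, ConcreteCategory.comp_apply, ← map_nsmul, hk, map_zero] }
  have hT : T ∈ X.smallEtaleTopology ((EtShriek.compEtale v).obj (EtCoh.top V)) := by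
    rw [mem_iff]
    intro x
    obtain ⟨V', g, ⟨v', hv'⟩, k, hk⟩ := hFt ((EtShriek.compEtale v).obj (EtCoh.top V)) t x
    exact ⟨V', g, v', ⟨k, hk⟩, hv'⟩
  obtain ⟨W', g, x', -, k, hk⟩ := rel_cover v (EtCoh.top V) T hT y
  refine ⟨k, ?_⟩
  apply const_injective N W' x'
  have h2 : e'.hom.hom.app (op W') (((EtShriek.restrAlong v).obj F).obj.map g.op t) =
      (η V N).app (op W') m := by
    rw [hom_map, ht, η_map]
  have hk' : ℓ ^ k • (((EtShriek.restrAlong v).obj F).obj.map g.op t) = 0 := hk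
  calc (η V N).app (op W') (ℓ ^ k • m) = ℓ ^ k • (η V N).app (op W') m := map_nsmul _ _ _
    _ = ℓ ^ k • e'.hom.hom.app (op W') (((EtShriek.restrAlong v).obj F).obj.map g.op t) := by
      rw [h2]
    _ = e'.hom.hom.app (op W') (ℓ ^ k • (((EtShriek.restrAlong v).obj F).obj.map g.op t)) :=
      (map_nsmul _ _ _).symm
    _ = e'.hom.hom.app (op W') 0 := congrArg _ hk'
    _ = 0 := map_zero _
    _ = (η V N).app (op W') 0 := (map_zero _).symm

end Torsion

section Main

variable {X U : Scheme.{u}} (j : U ⟶ X)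

theorem depthGE_flc (ℓ : ℕ) (hℓ : ℓ.Prime) (n : ℕ)
    (hX : EtDepth.DepthGE j (EtCoh.const X (ZMod ℓ)) n) (F : EtCoh.Ab X)
    (hFlc : EtCoh.IsFiniteLocallyConstant F) (hFt : EtDepth.IsLTorsion ℓ F) :
    EtDepth.DepthGE j F n := by
  intro p hp
  apply Groth.Agent.Helper6.EtLocC.isZero_of_etale_local
  intro x
  obtain ⟨ι, Vf, hcov, hM⟩ := (flc_iff F).1 hFlc
  obtain ⟨i, y, hy⟩ := hcov x
  obtain ⟨M, iM, fM, ⟨e⟩⟩ := hM i
  haveI : Etale (homS (Vf i)) := (Vf i).prop
  refine ⟨(Vf i).left, homS (Vf i), inferInstance, y, hy, ?_⟩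
  have hsq : IsPullback (pullback.fst j (homS (Vf i))) (pullback.snd j (homS (Vf i))) j
      (homS (Vf i)) := IsPullback.of_hasPullback j (homS (Vf i))
  haveI : Etale (pullback.fst j (homS (Vf i))) := inferInstance
  obtain ⟨e1⟩ := Groth.Agent.Helper6.EtLocB.nonempty_locCoh_iso j (homS (Vf i))
    (pullback.snd j (homS (Vf i))) (pullback.fst j (homS (Vf i))) hsq F p
  refine IsZero.of_iso ?_ (e1 ≪≫ (EtDual.locCoh (pullback.snd j (homS (Vf i))) p).mapIso e)
  have hV : ∀ q : ℕ, q < n → IsZero ((EtDual.locCoh (pullback.snd j (homS (Vf i))) q).obj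
      (cS (Vf i).left (AddCommGrpCat.of (ULift.{u + 1} (ZMod ℓ))))) := by
    intro q hq
    obtain ⟨e2⟩ := Groth.Agent.Helper6.EtLocB.nonempty_locCoh_iso j (homS (Vf i))
      (pullback.snd j (homS (Vf i))) (pullback.fst j (homS (Vf i))) hsq
      (EtCoh.const X (ZMod ℓ)) q
    have hz : IsZero ((EtCoh.pull (homS (Vf i))).obj
        ((EtDual.locCoh j q).obj (EtCoh.const X (ZMod ℓ)))) := Functor.map_isZero _ (hX q hq)
    exact hz.of_iso ((EtDual.locCoh (pullback.snd j (homS (Vf i))) q).mapIso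
      (EtCore.pullConst (homS (Vf i)) (ZMod ℓ)).symm ≪≫ e2.symm)
  haveI : Fact ℓ.Prime := ⟨hℓ⟩
  have hgrp : ∀ m : (AddCommGrpCat.of (ULift.{u + 1} M) : AddCommGrpCat.{u + 1}),
      ∃ k : ℕ, ℓ ^ k • m = 0 :=
    ell_group_of_const (homS (Vf i)) ℓ F hFt _ e y
  exact Groth.Agent.Helper6.DepthFlcA.devissage
    (fun N => ∀ q : ℕ, q < n → IsZero ((EtDual.locCoh (pullback.snd j (homS (Vf i))) q).obj
      (cS (Vf i).left N))) ℓ
    (fun A B a h q hq => (h q hq).of_iso
      ((EtDual.locCoh (pullback.snd j (homS (Vf i))) q).mapIso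
        ((constantSheaf (Vf i).left.smallEtaleTopology AddCommGrpCat.{u + 1}).mapIso a.symm)))
    (fun S hS h₁ h₃ q hq => Groth.Agent.Helper6.DepthFlcA.isZero_rightDerived_X₂
      (EtDual.secSupp (pullback.snd j (homS (Vf i))))
      (S.map (constantSheaf (Vf i).left.smallEtaleTopology AddCommGrpCat.{u + 1}))
      (shortExact_const (Vf i).left S hS) q (h₁ q hq) (h₃ q hq))
    (fun A hA q hq => Functor.map_isZero
      ((EtDual.secSupp (pullback.snd j (homS (Vf i)))).rightDerived q)
      (Functor.map_isZero (constantSheaf (Vf i).left.smallEtaleTopology AddCommGrpCat.{u + 1}) hA))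
    hV _ (AddCommGrpCat.of (ULift.{u + 1} M)) rfl hgrp p hp

end Main

end Groth.Agent.Helper6.DepthFlcB
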