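import Mathlib
import Groth.Prelude.Def_EtDepth
import Groth.Agent.Helper9.EtMV1
import Groth.Agent.Helper9.EtMV2
import Groth.Agent.Helper9.EtStalkExact
import Groth.Agent.Helper9.ExtObjDelta
import Groth.Agent.Helper6.DepthMono

set_option autoImplicit false
set_option linter.style.haveILetI false
set_option linter.unusedSectionVars false
set_option linter.unusedVariables false

/-!
# Local cohomology groups as `Ext` groups out of `ℤ_X / j_! ℤ_U`
-/

namespace Groth.Agent.Helper6.DepthResA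

open CategoryTheory CategoryTheory.Limits AlgebraicGeometry Opposite Abelian
open Groth.Agent.Helper9.EtMV1 Groth.Agent.Helper9.EtStalkExact Groth.Agent.Helper6.DepthMono

universe u

variable {U X : Scheme.{u}} (j : U ⟶ X) [IsOpenImmersion j]

theorem mono_c : Mono (c j) := by
  rw [mono_iff_stalks]
  intro Ω _ _ ξ
  by_cases hx : ξ.base default ∈ Set.range j.base
  · have hr : Set.range ξ.base ⊆ Set.range j.base := by
      rintro _ ⟨p, rfl⟩
      rw [Subsingleton.elim p default]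
      exact hx
    have hfac : IsOpenImmersion.lift j ξ hr ≫ j = ξ := IsOpenImmersion.lift_fac j ξ hr
    have := Groth.Agent.Helper9.EtMV2.isIso_stalk_c j (IsOpenImmersion.lift j ξ hr)
    rw [hfac] at this
    exact ((ConcreteCategory.isIso_iff_bijective _).1 this).1
  · have hd : Disjoint (Set.range ξ.base) (Set.range j.base) := by
      rw [Set.disjoint_left]
      rintro _ ⟨p, rfl⟩ hcon
      rw [Subsingleton.elim p default] at hcon
      exact hx hcon
    have hz := Groth.Agent.Helper9.EtMV2.isZero_stalk_K j ξ hd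
    haveI := AddCommGrpCat.subsingleton_of_isZero hz
    exact Function.injective_of_subsingleton _

/-- `ℤ_X / j_! ℤ_U` -/
noncomputable def Q : EtCoh.Ab X := cokernel (c j)

/-- the projection -/
noncomputable def π : EtCoh.const X ℤ ⟶ Q j := cokernel.π (c j)

lemma c_π : c j ≫ π j = 0 := cokernel.condition (c j)

instance : Epi (π j) := inferInstanceAs (Epi (cokernel.π (c j)))

/-- the defining short exact sequence -/
noncomputable def S : ShortComplex (EtCoh.Ab X) := ShortComplex.mk (c j) (π j) (c_π j)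

lemma shortExact_S : (S j).ShortExact :=
  { exact := ShortComplex.exact_cokernel (c j)
    mono_f := mono_c j
    epi_g := inferInstanceAs (Epi (π j)) }

lemma comp_eq_zero_iff {F : EtCoh.Ab X} (ψ : EtCoh.const X ℤ ⟶ F) :
    c j ≫ ψ = 0 ↔ ψ ≫ EtDual.unitApp j F = 0 := by
  constructor
  · intro h
    apply comp_unit_eq_zero_of_pull_map_eq_zero
    have h1 : (adj j).unit.app (EtCoh.const U ℤ) ≫ (EtCoh.pull j).map (c j ≫ ψ) = 0 := by
      rw [h, Functor.map_zero, comp_zero]
    rw [Functor.map_comp, ← Category.assoc, unit_c] at h1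
    exact (cancel_epi (EtCore.pullConst j ℤ).inv).1 (h1.trans comp_zero.symm)
  · intro h
    have h0 : (EtCoh.pull j).map ψ = 0 := pull_map_eq_zero_of_comp_unit j ψ h
    apply ((adj j).homEquiv _ _).injective
    rw [Adjunction.homEquiv_unit, Adjunction.homEquiv_unit, Functor.map_comp, h0, comp_zero,
      Functor.map_zero, comp_zero]

lemma lift_cond {F : EtCoh.Ab X} (φ : Q j ⟶ F) : (π j ≫ φ) ≫ EtDual.unitApp j F = 0 :=
  (comp_eq_zero_iff j _).1 (by rw [← Category.assoc, c_π, zero_comp])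

/-- maps out of `Q` are maps from `ℤ` into the sections with support -/
noncomputable def homQ (F : EtCoh.Ab X) :
    (Q j ⟶ F) →+ (EtCoh.const X ℤ ⟶ (EtDual.secSupp j).obj F) where
  toFun φ := kernel.lift (EtDual.unitApp j F) (π j ≫ φ) (lift_cond j φ)
  map_zero' := by
    rw [← cancel_mono (kernel.ι (EtDual.unitApp j F)), kernel.lift_ι, comp_zero, zero_comp]
  map_add' φ φ' := by
    rw [← cancel_mono (kernel.ι (EtDual.unitApp j F)), kernel.lift_ι, Preadditive.add_comp,
      kernel.lift_ι, kernel.lift_ι, Preadditive.comp_add]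

lemma homQ_ι (F : EtCoh.Ab X) (φ : Q j ⟶ F) :
    homQ j F φ ≫ kernel.ι (EtDual.unitApp j F) = π j ≫ φ :=
  kernel.lift_ι _ _ _

lemma homQ_bijective (F : EtCoh.Ab X) : Function.Bijective (homQ j F) := by
  constructor
  · rw [injective_iff_map_eq_zero]
    intro φ h
    have h1 := homQ_ι j F φ
    rw [h, zero_comp] at h1
    rw [← cancel_epi (π j), ← h1, comp_zero]
  · intro ψ
    have hc : c j ≫ ψ ≫ kernel.ι (EtDual.unitApp j F) = 0 :=
      (comp_eq_zero_iff j _).2 (by rw [Category.assoc, kernel.condition, comp_zero])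
    refine ⟨cokernel.desc (c j) (ψ ≫ kernel.ι (EtDual.unitApp j F)) hc, ?_⟩
    rw [← cancel_mono (kernel.ι (EtDual.unitApp j F)), homQ_ι]
    exact cokernel.π_desc _ _ _

/-- the equivalence -/
noncomputable def homQEquiv (F : EtCoh.Ab X) :
    (Q j ⟶ F) ≃+ (EtCoh.const X ℤ ⟶ (EtDual.secSupp j).obj F) :=
  AddEquiv.ofBijective (homQ j F) (homQ_bijective j F)

lemma homQ_naturality {F F' : EtCoh.Ab X} (f : F ⟶ F') (φ : Q j ⟶ F) :
    homQ j F' (φ ≫ f) = homQ j F φ ≫ (EtDual.secSupp j).map f := by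
  rw [← cancel_mono (kernel.ι (EtDual.unitApp j F')), homQ_ι, Category.assoc]
  have h1 : (EtDual.secSupp j).map f ≫ kernel.ι (EtDual.unitApp j F') =
      kernel.ι (EtDual.unitApp j F) ≫ f := kernel.lift_ι _ _ _
  rw [h1, ← Category.assoc (homQ j F φ), homQ_ι, Category.assoc]

/-- `Ext^0(Q, F) ≃ Ext^0(ℤ, Γ_Y F)` -/
noncomputable def extEquiv (F : EtCoh.Ab X) :
    Ext.{u + 1} (Q j) F 0 ≃+ Ext.{u + 1} (EtCoh.const X ℤ) ((EtDual.secSupp j).obj F) 0 :=
  Ext.addEquiv₀.trans ((homQEquiv j F).trans Ext.addEquiv₀.symm)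

lemma addEquiv₀_mk₀ {𝒜 : Type*} [Category 𝒜] [Abelian 𝒜] [HasExt.{u + 1} 𝒜] {A B : 𝒜}
    (a : A ⟶ B) : Ext.addEquiv₀ (Ext.mk₀ a) = a := by
  rw [← Ext.addEquiv₀_symm_apply, AddEquiv.apply_symm_apply]

lemma extEquiv_mk₀ (F : EtCoh.Ab X) (φ : Q j ⟶ F) :
    extEquiv j F (Ext.mk₀ φ) = Ext.mk₀ (homQ j F φ) := by
  simp only [extEquiv, AddEquiv.trans_apply, addEquiv₀_mk₀, Ext.addEquiv₀_symm_apply]
  rfl

open Groth.Agent.Helper9.ExtObjDelta in
/-- the first natural isomorphism -/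
noncomputable def eA : T.{u + 1} (Q j) 0 ≅ EtDual.secSupp j ⋙ T.{u + 1} (EtCoh.const X ℤ) 0 :=
  NatIso.ofComponents (fun F => (extEquiv j F).toAddCommGrpIso) (by
    intro F F' f
    ext x
    obtain ⟨φ, rfl⟩ := (Ext.mk₀_bijective _ _).2 x
    change extEquiv j F' ((Ext.mk₀ φ).comp (Ext.mk₀ f) (add_zero 0)) =
      (extEquiv j F (Ext.mk₀ φ)).comp (Ext.mk₀ ((EtDual.secSupp j).map f)) (add_zero 0)
    rw [Ext.mk₀_comp_mk₀, extEquiv_mk₀, extEquiv_mk₀, Ext.mk₀_comp_mk₀, homQ_naturality])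

open Groth.Agent.Helper9.ExtObjDelta in
/-- global sections as `Ext^0(ℤ, -)` -/
noncomputable def eB : T.{u + 1} (EtCoh.const X ℤ) 0 ≅
    sheafToPresheaf X.smallEtaleTopology AddCommGrpCat.{u + 1} ⋙
      (evaluation X.Etaleᵒᵖ AddCommGrpCat.{u + 1}).obj (op (EtCoh.top X)) :=
  NatIso.ofComponents
    (fun F => (Sheaf.H.equiv₀ F (EtCore.topIsTerminal X)).toAddCommGrpIso) (by
    intro F G f
    ext x
    exact (Sheaf.H.equiv₀_naturality (EtCore.topIsTerminal X) f x).symm)

open Groth.Agent.Helper9.ExtObjDelta in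
/-- sections with support as `Ext^0(Q, -)` -/
noncomputable def e : T.{u + 1} (Q j) 0 ≅ EtDual.gammaSupp j :=
  eA j ≪≫ Functor.isoWhiskerLeft (EtDual.secSupp j) eB

/-- the local cohomology groups are `Ext` groups -/
theorem nonempty_HY_iso (F : EtCoh.Ab X) (p : ℕ) :
    Nonempty ((EtDual.HY j p).obj F ≅ AddCommGrpCat.of (Ext.{u + 1} (Q j) F p)) := by
  obtain ⟨i⟩ := Groth.Agent.Helper9.ExtObjDelta.nonempty_iso_rightDerived (Q j)
    (EtDual.gammaSupp j) (e j) p
  exact ⟨i.app F⟩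

theorem isZero_HY_iff (F : EtCoh.Ab X) (p : ℕ) :
    IsZero ((EtDual.HY j p).obj F) ↔ ∀ x : Ext.{u + 1} (Q j) F p, x = 0 := by
  obtain ⟨i⟩ := nonempty_HY_iso j F p
  constructor
  · intro h x
    have h' : IsZero (AddCommGrpCat.of (Ext.{u + 1} (Q j) F p)) := h.of_iso i.symm
    haveI := AddCommGrpCat.subsingleton_of_isZero h'
    exact Subsingleton.elim (α := Ext.{u + 1} (Q j) F p) _ _
  · intro h
    haveI : Subsingleton (Ext.{u + 1} (Q j) F p) := ⟨fun a b => (h a).trans (h b).symm⟩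
    exact (AddCommGrpCat.isZero_of_subsingleton _).of_iso i

end Groth.Agent.Helper6.DepthResA
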