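import Mathlib

set_option autoImplicit false
set_option linter.style.haveILetI false
set_option linter.unusedSectionVars false
set_option linter.unusedVariables false

/-!
# Vanishing of `Ext^p(S.X₃, F)` in low degrees in terms of `Ext^p(S.X₂, F) → Ext^p(S.X₁, F)`
-/

namespace Groth.Agent.Helper6.DepthResB

open CategoryTheory CategoryTheory.Limits Abelian

universe w v u

variable {𝒜 : Type u} [Category.{v} 𝒜] [Abelian 𝒜] [HasExt.{w} 𝒜]
  {S : ShortComplex 𝒜} (hS : S.ShortExact) (F : 𝒜)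

include hS in
lemma injective_of_vanishing (p : ℕ) (hQ : ∀ x : Ext.{w} S.X₃ F p, x = 0) :
    Function.Injective ((Ext.mk₀ S.f).precomp F (zero_add p)) := by
  rw [injective_iff_map_eq_zero]
  intro a ha
  obtain ⟨x, hx⟩ := Ext.contravariant_sequence_exact₂ hS F a ha
  rw [hQ x, Ext.comp_zero] at hx
  exact hx.symm

include hS in
lemma surjective_of_vanishing (p : ℕ) (hQ : ∀ x : Ext.{w} S.X₃ F (p + 1), x = 0) :
    Function.Surjective ((Ext.mk₀ S.f).precomp F (zero_add p)) := by
  intro x₁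
  obtain ⟨x₂, h⟩ := Ext.contravariant_sequence_exact₁ hS F x₁ (n₁ := p + 1) (by omega) (hQ _)
  exact ⟨x₂, h⟩

include hS in
lemma vanishing_of_injective (p : ℕ)
    (hinj : Function.Injective ((Ext.mk₀ S.f).precomp F (zero_add p)))
    (hsurj : ∀ p', p' + 1 = p → Function.Surjective ((Ext.mk₀ S.f).precomp F (zero_add p')))
    (x₃ : Ext.{w} S.X₃ F p) : x₃ = 0 := by
  have h1 : (Ext.mk₀ S.f).comp ((Ext.mk₀ S.g).comp x₃ (zero_add p)) (zero_add p) = 0 := by
    rw [← Ext.comp_assoc_of_second_deg_zero, Ext.mk₀_comp_mk₀, S.zero, Ext.mk₀_zero,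
      Ext.zero_comp]
  have h2 : (Ext.mk₀ S.g).comp x₃ (zero_add p) = 0 := by
    apply hinj
    rw [map_zero]
    exact h1
  cases p with
  | zero =>
    haveI := hS.epi_g
    apply Ext.precomp_mk₀_injective_of_epi F S.g
    rw [map_zero]
    exact h2
  | succ p' =>
    obtain ⟨x₁, hx₁⟩ := Ext.contravariant_sequence_exact₃ hS F x₃ h2 (n₀ := p') (by omega)
    obtain ⟨x₂, rfl⟩ := hsurj p' rfl x₁
    rw [← hx₁]
    exact hS.extClass_comp_assoc x₂

include hS in
theorem vanishing_iff (n : ℕ) :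
    (∀ p, p < n → ∀ x : Ext.{w} S.X₃ F p, x = 0) ↔
      (∀ p, p + 1 < n → Function.Bijective ((Ext.mk₀ S.f).precomp F (zero_add p))) ∧
      (∀ p, p + 1 = n → Function.Injective ((Ext.mk₀ S.f).precomp F (zero_add p))) := by
  constructor
  · intro h
    refine ⟨fun p hp => ⟨injective_of_vanishing hS F p (h p (by omega)),
      surjective_of_vanishing hS F p (h (p + 1) hp)⟩,
      fun p hp => injective_of_vanishing hS F p (h p (by omega))⟩
  · rintro ⟨hb, hi⟩ p hp x
    refine vanishing_of_injective hS F p ?_ (fun p' hp' => (hb p' (by omega)).2) x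
    by_cases h : p + 1 < n
    · exact (hb p h).1
    · exact hi p (by omega)

end Groth.Agent.Helper6.DepthResB
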