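import Mathlib
import Groth.Prelude.Def_EtDual
import Groth.Agent.Helper4.LcExtB
import Groth.Agent.Helper4.EtSecPullEt
import Groth.Agent.Helper9.EtShriekOpen
import Groth.Agent.Helper9.EtJCont

set_option autoImplicit false
set_option linter.style.haveILetI false
set_option linter.unusedSectionVars false
set_option linter.unusedVariables false

/-!
# Tensor products of abelian étale sheaves and restriction to étale neighbourhoods
-/

namespace Groth.Agent.Helper6.TateLocA

open CategoryTheory CategoryTheory.Limits AlgebraicGeometry Opposite TensorProduct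

universe u

variable {X : Scheme.{u}}

/-- the ℤ-linear map on sections induced by a morphism of sheaves -/
noncomputable abbrev lin {F F' : EtCoh.Ab X} (φ : F ⟶ F') (W : X.Etaleᵒᵖ) :
    F.obj.obj W →ₗ[ℤ] F'.obj.obj W := (φ.hom.app W).hom.toIntLinearMap

lemma lin_nat {F F' : EtCoh.Ab X} (φ : F ⟶ F') {W W' : X.Etaleᵒᵖ} (f : W ⟶ W') :
    (lin φ W').comp (EtDual.resLin F f) = (EtDual.resLin F' f).comp (lin φ W) := by
  refine LinearMap.ext fun a => ?_
  have := ConcreteCategory.congr_hom (φ.hom.naturality f) a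
  exact this

lemma lin_id (F : EtCoh.Ab X) (W : X.Etaleᵒᵖ) : lin (𝟙 F) W = LinearMap.id := by
  refine LinearMap.ext fun a => ?_
  rfl

lemma lin_comp {F F' F'' : EtCoh.Ab X} (φ : F ⟶ F') (φ' : F' ⟶ F'') (W : X.Etaleᵒᵖ) :
    lin (φ ≫ φ') W = (lin φ' W).comp (lin φ W) := by
  refine LinearMap.ext fun a => ?_
  rfl

lemma ofHom_map_comp {A B C A' B' C' : Type (u + 1)} [AddCommGroup A] [AddCommGroup B]
    [AddCommGroup C] [AddCommGroup A'] [AddCommGroup B'] [AddCommGroup C']
    (a : A →ₗ[ℤ] B) (b : B →ₗ[ℤ] C) (a' : A' →ₗ[ℤ] B') (b' : B' →ₗ[ℤ] C') :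
    AddCommGrpCat.ofHom (TensorProduct.map a a').toAddMonoidHom ≫
        AddCommGrpCat.ofHom (TensorProduct.map b b').toAddMonoidHom =
      AddCommGrpCat.ofHom (TensorProduct.map (b.comp a) (b'.comp a')).toAddMonoidHom := by
  rw [TensorProduct.map_comp]
  rfl

noncomputable def tensorPreMap {F F' G G' : EtCoh.Ab X} (φ : F ⟶ F') (ψ : G ⟶ G') :
    EtDual.tensorPre F G ⟶ EtDual.tensorPre F' G' where
  app W := AddCommGrpCat.ofHom (TensorProduct.map (lin φ W) (lin ψ W)).toAddMonoidHom
  naturality W W' f := by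
    show AddCommGrpCat.ofHom (TensorProduct.map (EtDual.resLin F f)
        (EtDual.resLin G f)).toAddMonoidHom ≫
        AddCommGrpCat.ofHom (TensorProduct.map (lin φ W') (lin ψ W')).toAddMonoidHom =
      AddCommGrpCat.ofHom (TensorProduct.map (lin φ W) (lin ψ W)).toAddMonoidHom ≫
        AddCommGrpCat.ofHom (TensorProduct.map (EtDual.resLin F' f)
          (EtDual.resLin G' f)).toAddMonoidHom
    rw [ofHom_map_comp, ofHom_map_comp, lin_nat, lin_nat]

lemma tensorPreMap_id (F G : EtCoh.Ab X) : tensorPreMap (𝟙 F) (𝟙 G) = 𝟙 _ := by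
  refine NatTrans.ext (funext fun W => ?_)
  show AddCommGrpCat.ofHom (TensorProduct.map (lin (𝟙 F) W) (lin (𝟙 G) W)).toAddMonoidHom = 𝟙 _
  rw [lin_id, lin_id, TensorProduct.map_id]
  rfl

lemma tensorPreMap_comp {F F' F'' G G' G'' : EtCoh.Ab X} (φ : F ⟶ F') (φ' : F' ⟶ F'')
    (ψ : G ⟶ G') (ψ' : G' ⟶ G'') :
    tensorPreMap (φ ≫ φ') (ψ ≫ ψ') = tensorPreMap φ ψ ≫ tensorPreMap φ' ψ' := by
  refine NatTrans.ext (funext fun W => ?_)
  show AddCommGrpCat.ofHom (TensorProduct.map (lin (φ ≫ φ') W)
      (lin (ψ ≫ ψ') W)).toAddMonoidHom =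
    AddCommGrpCat.ofHom (TensorProduct.map (lin φ W) (lin ψ W)).toAddMonoidHom ≫
      AddCommGrpCat.ofHom (TensorProduct.map (lin φ' W) (lin ψ' W)).toAddMonoidHom
  rw [ofHom_map_comp, lin_comp, lin_comp]

/-- the tensor product of abelian sheaves is functorial for isomorphisms -/
noncomputable def tensorAbIso {F F' G G' : EtCoh.Ab X} (a : F ≅ F') (b : G ≅ G') :
    EtDual.tensorAb F G ≅ EtDual.tensorAb F' G' :=
  (presheafToSheaf X.smallEtaleTopology AddCommGrpCat.{u + 1}).mapIso
    { hom := tensorPreMap a.hom b.hom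
      inv := tensorPreMap a.inv b.inv
      hom_inv_id := by rw [← tensorPreMap_comp, a.hom_inv_id, b.hom_inv_id, tensorPreMap_id]
      inv_hom_id := by rw [← tensorPreMap_comp, a.inv_hom_id, b.inv_hom_id, tensorPreMap_id] }

section Restr

variable {V : Scheme.{u}} (v : V ⟶ X) [Etale v]

/-- the presheaf tensor product commutes with restriction -/
noncomputable def tensorPreRestr (F G : EtCoh.Ab X) :
    (EtShriek.compEtale v).op ⋙ EtDual.tensorPre F G ≅
      EtDual.tensorPre ((EtShriek.restrAlong v).obj F) ((EtShriek.restrAlong v).obj G) :=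
  NatIso.ofComponents (fun W => Iso.refl _) (by
    intro W W' f
    show ((EtShriek.compEtale v).op ⋙ EtDual.tensorPre F G).map f ≫ 𝟙 _ =
      𝟙 _ ≫ ((EtShriek.compEtale v).op ⋙ EtDual.tensorPre F G).map f
    rw [Category.comp_id, Category.id_comp])

/-- the tensor product of abelian sheaves commutes with restriction to an étale neighbourhood -/
noncomputable def restrTensorIso (F G : EtCoh.Ab X) :
    (EtShriek.restrAlong v).obj (EtDual.tensorAb F G) ≅
      EtDual.tensorAb ((EtShriek.restrAlong v).obj F) ((EtShriek.restrAlong v).obj G) :=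
  (((EtShriek.compEtale v).pushforwardContinuousSheafificationCompatibility AddCommGrpCat.{u + 1}
    V.smallEtaleTopology X.smallEtaleTopology).app (EtDual.tensorPre F G)).symm ≪≫
    (presheafToSheaf V.smallEtaleTopology AddCommGrpCat.{u + 1}).mapIso (tensorPreRestr v F G)

/-- the tensor product of abelian sheaves commutes with pullback to an étale neighbourhood -/
noncomputable def pullTensorIso (F G : EtCoh.Ab X) :
    (EtCoh.pull v).obj (EtDual.tensorAb F G) ≅
      EtDual.tensorAb ((EtCoh.pull v).obj F) ((EtCoh.pull v).obj G) :=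
  (Groth.Agent.Helper9.EtShriekOpen.pullIsoRestr v).app _ ≪≫ restrTensorIso v F G ≪≫
    tensorAbIso ((Groth.Agent.Helper9.EtShriekOpen.pullIsoRestr v).app F).symm
      ((Groth.Agent.Helper9.EtShriekOpen.pullIsoRestr v).app G).symm

end Restr

end Groth.Agent.Helper6.TateLocA
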