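import Mathlib
import Groth.Prelude.Def_EtDual
import Groth.Prelude.Def_EtCore
import Groth.Agent.Helper6.TateLocA

set_option autoImplicit false
set_option linter.style.haveILetI false
set_option linter.unusedSectionVars false
set_option linter.unusedVariables false

/-!
# `μ_n` and the Tate twists restrict to étale neighbourhoods
-/

namespace Groth.Agent.Helper6.TateLocB

open CategoryTheory CategoryTheory.Limits AlgebraicGeometry Opposite TensorProduct
open Groth.Agent.Helper6.TateLocA

universe u

variable {X V : Scheme.{u}} (v : V ⟶ X) [Etale v]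

instance : (EtShriek.restrAlong v).Additive :=
  (Groth.Agent.Helper9.EtShriekOpen.sheafAdj v).left_adjoint_additive

/-- `G_m` restricts to `G_m` -/
noncomputable def restrGmIso : (EtShriek.restrAlong v).obj (EtCoh.Gm X) ≅ EtCoh.Gm V := Iso.refl _

lemma restr_powMap (n : ℕ) :
    (EtShriek.restrAlong v).map (EtCoh.powMap X n) ≫ (restrGmIso v).hom =
      (restrGmIso v).hom ≫ EtCoh.powMap V n := by
  unfold EtCoh.powMap
  rw [Functor.map_nsmul, CategoryTheory.Functor.map_id, Preadditive.nsmul_comp,
    Preadditive.comp_nsmul, Category.id_comp, Category.comp_id]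

/-- `μ_n` restricts to `μ_n` -/
noncomputable def restrMuIso (n : ℕ) : (EtShriek.restrAlong v).obj (EtCoh.mu X n) ≅ EtCoh.mu V n :=
  PreservesKernel.iso (EtShriek.restrAlong v) (EtCoh.powMap X n) ≪≫
    kernel.mapIso _ _ (restrGmIso v) (restrGmIso v) (restr_powMap v n)

/-- `μ_n` pulls back to `μ_n` along an étale morphism -/
noncomputable def pullMuIso (n : ℕ) : (EtCoh.pull v).obj (EtCoh.mu X n) ≅ EtCoh.mu V n :=
  (Groth.Agent.Helper9.EtShriekOpen.pullIsoRestr v).app _ ≪≫ restrMuIso v n

/-- the Tate twists pull back to the Tate twists along an étale morphism -/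
noncomputable def pullTateIso (n : ℕ) :
    ∀ c : ℕ, (EtCoh.pull v).obj (EtDual.tate X n c) ≅ EtDual.tate V n c
  | 0 => EtCore.pullConst v (ZMod n)
  | c + 1 => pullTensorIso v (EtDual.tate X n c) (EtCoh.mu X n) ≪≫
      tensorAbIso (pullTateIso n c) (pullMuIso v n)

end Groth.Agent.Helper6.TateLocB
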