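import Mathlib
import Groth.Prelude.Def_EtDual
import Groth.Agent.Helper4.ConstLoc
import Groth.Agent.Helper4.SuppA
import Groth.Agent.Helper4.MuConstC
import Groth.Agent.Helper9.StalkFinA
import Groth.Agent.Helper6.TateLocA

set_option autoImplicit false
set_option linter.style.haveILetI false
set_option linter.unusedSectionVars false
set_option linter.unusedVariables false

/-!
# Tensor products of constant sheaves; the Tate twists are constant when `μ_n` is
-/

namespace Groth.Agent.Helper6.TateLocC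

open CategoryTheory CategoryTheory.Limits AlgebraicGeometry Opposite TensorProduct
open Groth.Agent.Helper4.ConstLoc Groth.Agent.Helper4.EtGeom Groth.Agent.Helper6.TateLocA
open Groth.Agent.Helper9.EtStalkExact Groth.Agent.Helper9.StalkFinA

universe u

variable {Y : Scheme.{u}}

attribute [local instance] ab5_ab preservesFilteredColimits_forget_ab

/-- evaluation at a point: constants are a direct summand of the sections of a constant sheaf over a
non-empty scheme -/
lemma exists_retraction (N : AddCommGrpCat.{u + 1}) (W : Y.Etale) (x : W.left) :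
    ∃ r : (cS Y N).obj.obj (op W) ⟶ N, (η Y N).app (op W) ≫ r = 𝟙 N := by
  obtain ⟨ξ, -⟩ : ∃ ξ : Spec (CommRingCat.of (SeparableClosure (W.left.residueField x))) ⟶ W.left,
    True := ⟨geomPt x, trivial⟩
  obtain ⟨ξY, hξY⟩ : ∃ ξY : Spec (CommRingCat.of (SeparableClosure (W.left.residueField x))) ⟶ Y,
    ξ ≫ W.hom = ξY := ⟨_, rfl⟩
  let l : (Scheme.pointSmallEtale ξY).fiber.obj W := mkPt ξY ξ hξY
  haveI : IsIso ((Scheme.pointSmallEtale ξY).presheafFiber.map (η Y N)) := by
    rw [← isIso_iff_of_reflects_iso _ (forget AddCommGrpCat.{u + 1}), isIso_iff_bijective]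
    exact (Scheme.pointSmallEtale ξY).toPresheafFiber_map_bijective (η Y N)
  refine ⟨(Scheme.pointSmallEtale ξY).toPresheafFiber W l (cS Y N).obj ≫
    inv ((Scheme.pointSmallEtale ξY).presheafFiber.map (η Y N)) ≫
    (Groth.Agent.Helper4.SuppA.presheafFiberConst ξY N).hom, ?_⟩
  have h1 : (η Y N).app (op W) ≫
      (Scheme.pointSmallEtale ξY).toPresheafFiber W l (cS Y N).obj =
      (Scheme.pointSmallEtale ξY).toPresheafFiber W l (P Y N) ≫
        (Scheme.pointSmallEtale ξY).presheafFiber.map (η Y N) :=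
    ((Scheme.pointSmallEtale ξY).toPresheafFiber_naturality (η Y N) W l).symm
  rw [← Category.assoc, h1, Category.assoc, IsIso.hom_inv_id_assoc]
  exact IsColimit.comp_coconePointUniqueUpToIso_hom
    ((Scheme.pointSmallEtale ξY).isColimitPresheafFiberCocone (P Y N))
    (isColimitConstCocone _ N) (op (⟨W, l⟩ : (Scheme.pointSmallEtale ξY).fiber.Elements))

variable (A B : AddCommGrpCat.{u + 1})

/-- `η` as a linear map -/
noncomputable abbrev ηl (N : AddCommGrpCat.{u + 1}) (W : Y.Etaleᵒᵖ) :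
    N →ₗ[ℤ] (cS Y N).obj.obj W :=
  ((η Y N).app W).hom.toIntLinearMap

lemma ηl_nat (N : AddCommGrpCat.{u + 1}) {W W' : Y.Etaleᵒᵖ} (f : W ⟶ W') :
    (EtDual.resLin (cS Y N) f).comp (ηl N W) = ηl N W' := by
  refine LinearMap.ext fun a => ?_
  have := ConcreteCategory.congr_hom ((η Y N).naturality f) a
  exact this.symm

/-- the comparison map from the constant presheaf `A ⊗ B` -/
noncomputable def φ : P Y (AddCommGrpCat.of (A ⊗[ℤ] B)) ⟶ EtDual.tensorPre (cS Y A) (cS Y B) where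
  app W := AddCommGrpCat.ofHom (TensorProduct.map (ηl A W) (ηl B W)).toAddMonoidHom
  naturality W W' f := by
    show 𝟙 _ ≫ AddCommGrpCat.ofHom (TensorProduct.map (ηl A W') (ηl B W')).toAddMonoidHom =
      AddCommGrpCat.ofHom (TensorProduct.map (ηl A W) (ηl B W)).toAddMonoidHom ≫
        AddCommGrpCat.ofHom (TensorProduct.map (EtDual.resLin (cS Y A) f)
          (EtDual.resLin (cS Y B) f)).toAddMonoidHom
    rw [Category.id_comp, ofHom_map_comp, ηl_nat, ηl_nat]

lemma surj_aux (W : Y.Etale)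
    (t : (cS Y A).obj.obj (op W) ⊗[ℤ] (cS Y B).obj.obj (op W)) :
    Presheaf.imageSieve (φ A B) (U := W) t ∈ Y.smallEtaleTopology W := by
  induction t using TensorProduct.induction_on with
  | zero =>
    refine Y.smallEtaleTopology.superset_covering ?_ (Y.smallEtaleTopology.top_mem W)
    intro W' g _
    exact ⟨0, (map_zero _).trans (map_zero _).symm⟩
  | tmul a b =>
    rw [mem_iff]
    intro x
    obtain ⟨W₁, g₁, x₁, a₀, hx₁, ha⟩ := exists_const A W a x
    obtain ⟨W₂, g₂, x₂, b₀, hx₂, hb⟩ := exists_const B W₁ ((cS Y B).obj.map g₁.op b) x₁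
    have ha' : (cS Y A).obj.map (g₂ ≫ g₁).op a = (η Y A).app (op W₂) a₀ := by
      rw [op_comp, Functor.map_comp, ConcreteCategory.comp_apply, ha, η_map]
    have hb' : (cS Y B).obj.map (g₂ ≫ g₁).op b = (η Y B).app (op W₂) b₀ := by
      rw [op_comp, Functor.map_comp, ConcreteCategory.comp_apply, hb]
    refine ⟨W₂, g₂ ≫ g₁, x₂, ⟨a₀ ⊗ₜ[ℤ] b₀, ?_⟩, ?_⟩
    · show ((η Y A).app (op W₂) a₀) ⊗ₜ[ℤ] ((η Y B).app (op W₂) b₀) =
        ((cS Y A).obj.map (g₂ ≫ g₁).op a) ⊗ₜ[ℤ] ((cS Y B).obj.map (g₂ ≫ g₁).op b)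
      rw [ha', hb']
    · have : (g₂ ≫ g₁).left x₂ = g₁.left (g₂.left x₂) := rfl
      rw [this, hx₂, hx₁]
  | add t₁ t₂ h₁ h₂ =>
    refine Y.smallEtaleTopology.superset_covering ?_
      (Y.smallEtaleTopology.intersection_covering h₁ h₂)
    rintro W' g ⟨⟨z₁, e₁⟩, ⟨z₂, e₂⟩⟩
    exact ⟨z₁ + z₂, (map_add _ _ _).trans ((congrArg₂ (· + ·) e₁ e₂).trans (map_add _ _ _).symm)⟩

instance : Presheaf.IsLocallySurjective Y.smallEtaleTopology (φ A B) where
  imageSieve_mem {W} t := surj_aux A B W t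

lemma inj_aux (W : Y.Etale) (x : W.left) :
    Function.Injective (TensorProduct.map (ηl A (op W)) (ηl B (op W))) := by
  obtain ⟨rA, hA⟩ := exists_retraction A W x
  obtain ⟨rB, hB⟩ := exists_retraction B W x
  have hA' : rA.hom.toIntLinearMap.comp (ηl A (op W)) = LinearMap.id := by
    refine LinearMap.ext fun a => ?_
    exact ConcreteCategory.congr_hom hA a
  have hB' : rB.hom.toIntLinearMap.comp (ηl B (op W)) = LinearMap.id := by
    refine LinearMap.ext fun a => ?_
    exact ConcreteCategory.congr_hom hB a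
  have hl : Function.LeftInverse (TensorProduct.map rA.hom.toIntLinearMap rB.hom.toIntLinearMap)
      (TensorProduct.map (ηl A (op W)) (ηl B (op W))) := by
    intro z
    rw [← LinearMap.comp_apply, ← TensorProduct.map_comp, hA', hB', TensorProduct.map_id]
    rfl
  exact hl.injective

instance : Presheaf.IsLocallyInjective Y.smallEtaleTopology (φ A B) where
  equalizerSieve_mem {W} z z' h := by
    rw [mem_iff]
    intro x
    have hzz : z = z' := inj_aux A B W.unop x h
    subst hzz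
    exact ⟨W.unop, 𝟙 _, x, rfl, rfl⟩

/-- the tensor product of constant sheaves is constant -/
noncomputable def tensorConstIso :
    EtDual.tensorAb (cS Y A) (cS Y B) ≅ cS Y (AddCommGrpCat.of (A ⊗[ℤ] B)) := by
  haveI : IsIso ((presheafToSheaf Y.smallEtaleTopology AddCommGrpCat.{u + 1}).map (φ A B)) :=
    (Y.smallEtaleTopology.W_iff (φ A B)).1 (Y.smallEtaleTopology.W_of_isLocallyBijective (φ A B))
  exact (asIso ((presheafToSheaf Y.smallEtaleTopology AddCommGrpCat.{u + 1}).map (φ A B))).symm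

lemma zmod_key (n : ℕ) (t : (ZMod n) ⊗[ℤ] (ZMod n)) :
    (TensorProduct.lift (LinearMap.mul ℤ (ZMod n)) t) ⊗ₜ[ℤ] (1 : ZMod n) = t := by
  induction t using TensorProduct.induction_on with
  | zero => rw [map_zero, TensorProduct.zero_tmul]
  | tmul a b =>
    obtain ⟨k, rfl⟩ := ZMod.intCast_surjective b
    rw [TensorProduct.lift.tmul, LinearMap.mul_apply']
    have h1 : (a * (k : ZMod n)) = k • a := by rw [zsmul_eq_mul, mul_comm]
    rw [h1, TensorProduct.smul_tmul, zsmul_eq_mul, mul_one]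
  | add x y hx hy => rw [map_add, TensorProduct.add_tmul, hx, hy]

/-- `ℤ/n ⊗ ℤ/n ≅ ℤ/n` -/
noncomputable def zmodTensor (n : ℕ) : (ZMod n) ⊗[ℤ] (ZMod n) ≃ₗ[ℤ] ZMod n :=
  { TensorProduct.lift (LinearMap.mul ℤ (ZMod n)) with
    invFun := fun a => a ⊗ₜ[ℤ] (1 : ZMod n)
    left_inv := fun t => zmod_key n t
    right_inv := fun a => by
      show TensorProduct.lift (LinearMap.mul ℤ (ZMod n)) (a ⊗ₜ[ℤ] (1 : ZMod n)) = a
      rw [TensorProduct.lift.tmul, LinearMap.mul_apply', mul_one] }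

/-- `ℤ/n ⊗ ℤ/n ≅ ℤ/n`, one universe up -/
noncomputable def zmodTensorULift (n : ℕ) :
    AddCommGrpCat.of ((AddCommGrpCat.of (ULift.{u + 1} (ZMod n))) ⊗[ℤ]
      (AddCommGrpCat.of (ULift.{u + 1} (ZMod n)))) ≅ AddCommGrpCat.of (ULift.{u + 1} (ZMod n)) :=
  AddEquiv.toAddCommGrpIso
    (((TensorProduct.congr ULift.moduleEquiv ULift.moduleEquiv).trans
      ((zmodTensor n).trans ULift.moduleEquiv.symm)).toAddEquiv)

/-- `ℤ/n ⊗ ℤ/n ≅ ℤ/n` for the constant sheaves -/
noncomputable def constTensorIso (n : ℕ) :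
    EtDual.tensorAb (EtCoh.const Y (ZMod n)) (EtCoh.const Y (ZMod n)) ≅ EtCoh.const Y (ZMod n) :=
  tensorConstIso _ _ ≪≫
    (constantSheaf Y.smallEtaleTopology AddCommGrpCat.{u + 1}).mapIso (zmodTensorULift n)

open Groth.Agent.Helper4.MuConstC Groth.Agent.Helper4.MuConstA in
/-- `μ_n` is constant when there is a root of the cyclotomic polynomial -/
theorem nonempty_mu_iso_const (n : ℕ) (hn : 1 ≤ n) (hunit : IsUnit (n : Γ(Y, ⊤))) (ζ : Γ(Y, ⊤))
    (hζ : Polynomial.aeval ζ (Polynomial.cyclotomic n ℤ) = 0) :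
    Nonempty (EtCoh.mu Y n ≅ EtCoh.const Y (ZMod n)) := by
  have hζn : ζ ^ n = 1 := pow_eq_one n ζ hζ
  have hu : IsUnit ζ := IsUnit.of_pow_eq_one hζn (by omega)
  obtain ⟨ζu, rfl⟩ := hu
  have hζn' : ζu ^ n = 1 := by
    apply Units.ext
    rw [Units.val_pow_eq_pow_val, hζn]
    rfl
  haveI := isIso_ψ Y n ζu hζn' hn hunit hζ
  exact ⟨(asIso (ψ Y n ζu hζn')).symm⟩

/-- the Tate twists are constant when there is a root of the cyclotomic polynomial -/
theorem nonempty_tate_iso_const (n : ℕ) (hn : 1 ≤ n) (hunit : IsUnit (n : Γ(Y, ⊤))) (ζ : Γ(Y, ⊤))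
    (hζ : Polynomial.aeval ζ (Polynomial.cyclotomic n ℤ) = 0) :
    ∀ c : ℕ, Nonempty (EtDual.tate Y n c ≅ EtCoh.const Y (ZMod n))
  | 0 => ⟨Iso.refl _⟩
  | c + 1 => by
    obtain ⟨e⟩ := nonempty_tate_iso_const n hn hunit ζ hζ c
    obtain ⟨m⟩ := nonempty_mu_iso_const n hn hunit ζ hζ
    exact ⟨tensorAbIso e m ≪≫ constTensorIso n⟩

end Groth.Agent.Helper6.TateLocC
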