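import Mathlib
import Groth.Prelude.Def_EtBase
import Groth.Agent.Helper9.RootCover
import Groth.Agent.Helper9.EtStalkAlgClosed

set_option autoImplicit false
set_option linter.style.haveILetI false
set_option linter.unusedSectionVars false
set_option linter.unusedVariables false

/-!
# Étale neighbourhoods carrying a root of the cyclotomic polynomial
-/

namespace Groth.Agent.Helper6.TateLocD

open CategoryTheory AlgebraicGeometry Polynomial Opposite
open Groth.Agent.Helper9.RootCover

universe u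

/-- the standard étale pair `(Φ_n, 1)` when `n` is invertible -/
noncomputable def pair {A : Type u} [CommRing A] (n : ℕ) (hn : 1 ≤ n) (u : A)
    (hu : u * (n : A) = 1) : StandardEtalePair A where
  f := cyclotomic n A
  monic_f := cyclotomic.monic n A
  g := 1
  cond := by
    obtain ⟨m, rfl⟩ : ∃ m, n = m + 1 := ⟨n - 1, by omega⟩
    obtain ⟨Q, hQ⟩ : ∃ Q : A[X], Q = ∏ i ∈ Nat.properDivisors (m + 1), cyclotomic i A := ⟨_, rfl⟩
    have hprod : cyclotomic (m + 1) A * Q = X ^ (m + 1) - 1 := by
      rw [← prod_cyclotomic_eq_X_pow_sub_one (Nat.succ_pos m) A,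
        ← Nat.cons_self_properDivisors (Nat.succ_ne_zero m), Finset.prod_cons, hQ]
    have hder : derivative (cyclotomic (m + 1) A) * Q + cyclotomic (m + 1) A * derivative Q =
        C ((m + 1 : ℕ) : A) * X ^ m := by
      have := congrArg derivative hprod
      rw [derivative_mul, derivative_sub, derivative_X_pow, derivative_one, sub_zero,
        Nat.add_sub_cancel] at this
      exact this
    have hu' : (C u : A[X]) * C ((m + 1 : ℕ) : A) = 1 := by rw [← C_mul, hu, C_1]
    refine ⟨C u * X * Q, C u * X * derivative Q - Q, 0, ?_⟩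
    rw [pow_zero]
    linear_combination (C u * X) * hder - hprod + (X ^ (m + 1)) * hu'

theorem one_le_of_isUnit {X : Scheme.{u}} (n : ℕ) (hn : IsUnit (n : Γ(X, ⊤))) (x : X) : 1 ≤ n := by
  by_contra h
  have h0 : n = 0 := by omega
  subst h0
  have h1 := hn.map (X.presheaf.germ ⊤ x trivial).hom
  rw [Nat.cast_zero, map_zero] at h1
  exact not_isUnit_zero h1

theorem exists_etale_nbhd_cyclotomic (X : Scheme.{u}) (n : ℕ) (hn : IsUnit (n : Γ(X, ⊤))) (x : X) :
    ∃ (V : Scheme.{u}) (v : V ⟶ X) (_ : Etale v) (y : V), v y = x ∧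
      IsUnit (n : Γ(V, ⊤)) ∧ ∃ ζ : Γ(V, ⊤), aeval ζ (cyclotomic n ℤ) = 0 := by
  have h1 : 1 ≤ n := one_le_of_isUnit n hn x
  obtain ⟨W, hW, hxW, -⟩ := exists_isAffineOpen_mem_and_subset (x := x) (U := (⊤ : X.Opens)) trivial
  haveI : IsAffine W := hW
  have hnW : IsUnit (n : Γ(W, ⊤)) := by
    have := hn.map W.ι.appTop.hom
    rwa [map_natCast] at this
  obtain ⟨u, hu⟩ := hnW.exists_left_inv
  let P := pair n h1 u hu
  -- the geometric point
  let x' : (W : Scheme.{u}) := ⟨x, hxW⟩
  obtain ⟨l, hl⟩ : ∃ l : Spec (CommRingCat.of (AlgebraicClosure ((W : Scheme.{u}).residueField x'))) ⟶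
      (W : Scheme.{u}), l default = x' :=
    ⟨Groth.Agent.Helper9.EtStalkAlgClosed.geomPt x', Groth.Agent.Helper9.EtStalkAlgClosed.geomPt_default x'⟩
  obtain ⟨z, hz⟩ := IsAlgClosed.exists_root
    (cyclotomic n (AlgebraicClosure ((W : Scheme.{u}).residueField x')))
    (degree_cyclotomic_pos n _ (by omega)).ne'
  obtain ⟨v₀, hv₀⟩ := exists_lift P l z
    (by
      show ((cyclotomic n Γ(W, ⊤)).map _).eval z = 0
      rw [map_cyclotomic]
      exact hz)
    (by
      show ((1 : Γ(W, ⊤)[X]).map _).eval z ≠ 0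
      rw [Polynomial.map_one, eval_one]
      exact one_ne_zero)
  refine ⟨Spec (CommRingCat.of P.Ring), q P ≫ W.ι, inferInstance, v₀ default, ?_, ?_, t P, ?_⟩
  · rw [← Scheme.Hom.comp_apply, ← Category.assoc, hv₀, Scheme.Hom.comp_apply, hl]
    rfl
  · have := hn.map (q P ≫ W.ι).appTop.hom
    rwa [map_natCast] at this
  · have h := eval_t_f P
    have hPf : P.f = cyclotomic n Γ(W, ⊤) := rfl
    rw [hPf, map_cyclotomic, ← map_cyclotomic_int, Polynomial.eval_map] at h
    rw [aeval_def, algebraMap_int_eq]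
    exact h

end Groth.Agent.Helper6.TateLocD
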