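import Mathlib
import Groth.Prelude.Def_EtDual
import Groth.Agent.Helper6.EtLocB
import Groth.Agent.Helper6.EtLocC
import Groth.Agent.Helper6.TateLocB
import Groth.Agent.Helper6.TateLocC
import Groth.Agent.Helper6.TateLocD
import Groth.Agent.Helper6.EdgeOutIso2
import Groth.Agent.Helper6.DepthMono

set_option autoImplicit false
set_option linter.style.haveILetI false
set_option linter.unusedSectionVars false
set_option linter.unusedVariables false

/-!
# Local cohomology sheaves of the Tate twists vanish where those of `ℤ/n` do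
-/

namespace Groth.Agent.Helper6.TateLocE

open CategoryTheory CategoryTheory.Limits AlgebraicGeometry Opposite

universe u

variable {X U : Scheme.{u}} (j : U ⟶ X)

/-- étale locally the Tate twists are constant, so their local cohomology sheaves vanish where those
of `ℤ/n` do -/
theorem isZero_locCoh_tate (n : ℕ) (hn : IsUnit (n : Γ(X, ⊤))) (c p : ℕ)
    (h : IsZero ((EtDual.locCoh j p).obj (EtCoh.const X (ZMod n)))) :
    IsZero ((EtDual.locCoh j p).obj (EtDual.tate X n c)) := by
  apply Groth.Agent.Helper6.EtLocC.isZero_of_etale_local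
  intro x
  obtain ⟨V, v, hv, y, hy, hnV, ζ, hζ⟩ :=
    Groth.Agent.Helper6.TateLocD.exists_etale_nbhd_cyclotomic X n hn x
  have h1 : 1 ≤ n := Groth.Agent.Helper6.TateLocD.one_le_of_isUnit n hn x
  refine ⟨V, v, hv, y, hy, ?_⟩
  have hsq : IsPullback (pullback.fst j v) (pullback.snd j v) j v := IsPullback.of_hasPullback j v
  haveI : Etale (pullback.fst j v) := inferInstance
  obtain ⟨e1⟩ := Groth.Agent.Helper6.EtLocB.nonempty_locCoh_iso j v (pullback.snd j v)
    (pullback.fst j v) hsq (EtDual.tate X n c) p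
  obtain ⟨e2⟩ := Groth.Agent.Helper6.EtLocB.nonempty_locCoh_iso j v (pullback.snd j v)
    (pullback.fst j v) hsq (EtCoh.const X (ZMod n)) p
  obtain ⟨e3⟩ := Groth.Agent.Helper6.TateLocC.nonempty_tate_iso_const (Y := V) n h1 hnV ζ hζ c
  have e4 : (EtCoh.pull v).obj (EtDual.tate X n c) ≅ (EtCoh.pull v).obj (EtCoh.const X (ZMod n)) :=
    Groth.Agent.Helper6.TateLocB.pullTateIso v n c ≪≫ e3 ≪≫ (EtCore.pullConst v (ZMod n)).symm
  have hz : IsZero ((EtCoh.pull v).obj ((EtDual.locCoh j p).obj (EtCoh.const X (ZMod n)))) :=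
    Functor.map_isZero _ h
  exact hz.of_iso (e1 ≪≫ (EtDual.locCoh (pullback.snd j v) p).mapIso e4 ≪≫ e2.symm)

/-- the local-to-global edge map in the first non-vanishing degree of the local cohomology sheaves -/
theorem nonempty_HY_iso_sections [IsOpenImmersion j] (T : EtCoh.Ab X) (N : ℕ)
    (hT : ∀ p : ℕ, p < N → IsZero ((EtDual.locCoh j p).obj T)) :
    Nonempty ((EtDual.HY j N).obj T ≅ ((EtDual.locCoh j N).obj T).obj.obj (op (EtCoh.top X))) := by
  have hX : ∀ m, Groth.Agent.Helper6.EdgeOutIso.Acy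
      (sheafToPresheaf X.smallEtaleTopology AddCommGrpCat.{u + 1} ⋙
        (evaluation X.Etaleᵒᵖ AddCommGrpCat.{u + 1}).obj (op (EtCoh.top X)))
      ((EtDual.secSupp j).obj ((injectiveResolution T).cocomplex.X m)) := by
    intro m q
    haveI := Groth.Agent.Helper6.DepthMono.injective_secSupp j
      ((injectiveResolution T).cocomplex.X m)
    exact Functor.isZero_rightDerived_obj_injective_succ _ _ _
  have hiso := Groth.Agent.Helper6.EdgeOutIso2.isIso_edgeOut_of_vanishing
    (sheafToPresheaf X.smallEtaleTopology AddCommGrpCat.{u + 1} ⋙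
      (evaluation X.Etaleᵒᵖ AddCommGrpCat.{u + 1}).obj (op (EtCoh.top X)))
    (EtDual.secSupp j) T N hX hT
  exact ⟨@asIso _ _ _ _ _ hiso⟩

end Groth.Agent.Helper6.TateLocE
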