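import Mathlib
import Groth.Prelude.Def_EtDepth
import Groth.Agent.Helper6.DepthResA
import Groth.Agent.Helper6.DepthResB
import Groth.Agent.Helper6.EtLocB
import Groth.Agent.Helper6.TateLocE
import Groth.Agent.Helper9.EtShriekOpen

set_option autoImplicit false
set_option linter.style.haveILetI false
set_option linter.unusedSectionVars false
set_option linter.unusedVariables false

/-!
# Étale depth in terms of restriction maps on cohomology
-/

namespace Groth.Agent.Helper6.DepthResC

open CategoryTheory CategoryTheory.Limits AlgebraicGeometry Opposite Abelian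
open Groth.Agent.Helper9.EtMV1 Groth.Agent.Helper6.DepthResA

universe u

section One

variable {U X : Scheme.{u}} (j : U ⟶ X) [IsOpenImmersion j]

lemma Hpull_eq [PreservesFiniteLimits (EtCoh.pull j)] (F : EtCoh.Ab X) (p : ℕ) :
    ⇑(EtCore.Hpull j F p) = ⇑(θ j F p) ∘ ⇑((Ext.mk₀ (c j)).precomp F (zero_add p)) := by
  funext x
  exact (θ_c j F p x).symm

theorem isZero_HY_iff_Hpull [PreservesFiniteLimits (EtCoh.pull j)] (F : EtCoh.Ab X) (n : ℕ) :
    (∀ p, p < n → IsZero ((EtDual.HY j p).obj F)) ↔
      (∀ p, p + 1 < n → Function.Bijective (EtCore.Hpull j F p)) ∧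
      (∀ p, p + 1 = n → Function.Injective (EtCore.Hpull j F p)) := by
  have key := Groth.Agent.Helper6.DepthResB.vanishing_iff (shortExact_S j) F n
  have h1 : (∀ p, p < n → IsZero ((EtDual.HY j p).obj F)) ↔
      (∀ p, p < n → ∀ x : Ext.{u + 1} (Q j) F p, x = 0) :=
    forall₂_congr (fun p _ => isZero_HY_iff j F p)
  rw [h1]
  refine key.trans (and_congr (forall₂_congr fun p _ => ?_) (forall₂_congr fun p _ => ?_))
  · rw [Hpull_eq]
    exact ((θ j F p).bijective.of_comp_iff' _).symm
  · rw [Hpull_eq]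
    exact ((θ j F p).injective.of_comp_iff _).symm

end One

lemma isZero_of_sections {X : Scheme.{u}} (H : EtCoh.Ab X)
    (h : ∀ W : X.Etale, IsZero (H.obj.obj (op W))) : IsZero H := by
  rw [IsZero.iff_id_eq_zero]
  apply Sheaf.hom_ext
  apply NatTrans.ext
  funext W
  exact (h W.unop).eq_of_src _ _

section Loc

variable {X U X' : Scheme.{u}} (j : U ⟶ X) [IsOpenImmersion j] (g : X' ⟶ X) [Etale g]

lemma nonempty_locCoh_iso' (F : EtCoh.Ab X) (p : ℕ) :
    Nonempty ((EtCoh.pull g).obj ((EtDual.locCoh j p).obj F) ≅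
      (EtDual.locCoh (pullback.snd j g) p).obj ((EtCoh.pull g).obj F)) :=
  Groth.Agent.Helper6.EtLocB.nonempty_locCoh_iso j g (pullback.snd j g) (pullback.fst j g)
    (IsPullback.of_hasPullback j g) F p

theorem isZero_HY_of_depthGE (F : EtCoh.Ab X) (n : ℕ) (h : EtDepth.DepthGE j F n) (p : ℕ)
    (hp : p < n) :
    IsZero ((EtDual.HY (pullback.snd j g) p).obj ((EtCoh.pull g).obj F)) := by
  have hloc : ∀ q, q < n →
      IsZero ((EtDual.locCoh (pullback.snd j g) q).obj ((EtCoh.pull g).obj F)) := by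
    intro q hq
    obtain ⟨e⟩ := nonempty_locCoh_iso' j g F q
    exact (Functor.map_isZero (EtCoh.pull g) (h q hq)).of_iso e.symm
  obtain ⟨e⟩ := Groth.Agent.Helper6.TateLocE.nonempty_HY_iso_sections (pullback.snd j g)
    ((EtCoh.pull g).obj F) p (fun q hq => hloc q (by omega))
  exact (Functor.map_isZero (sheafToPresheaf X'.smallEtaleTopology AddCommGrpCat.{u + 1} ⋙
    (evaluation X'.Etaleᵒᵖ AddCommGrpCat.{u + 1}).obj (op (EtCoh.top X'))) (hloc p hp)).of_iso e

end Loc

section Conv

variable {X U : Scheme.{u}} (j : U ⟶ X) [IsOpenImmersion j]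

/-- an object of the small étale site is the image of the terminal object of its own site -/
noncomputable def isoW (W : X.Etale) :
    haveI : Etale W.hom := W.prop
    (EtShriek.compEtale W.hom).obj (EtCoh.top W.left) ≅ W :=
  haveI : Etale W.hom := W.prop
  MorphismProperty.Over.isoMk (Iso.refl _)
    ((Category.id_comp W.hom).trans (Category.id_comp W.hom).symm)

theorem depthGE_of_isZero_HY (F : EtCoh.Ab X) (n : ℕ)
    (h : ∀ (X' : Scheme.{u}) (g : X' ⟶ X) [Etale g], ∀ p, p < n →
      IsZero ((EtDual.HY (pullback.snd j g) p).obj ((EtCoh.pull g).obj F))) :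
    EtDepth.DepthGE j F n := by
  intro p
  induction p using Nat.strong_induction_on with
  | _ p ih =>
    intro hp
    apply isZero_of_sections
    intro W
    haveI : Etale W.hom := W.prop
    have hloc : ∀ q, q < p →
        IsZero ((EtDual.locCoh (pullback.snd j W.hom) q).obj ((EtCoh.pull W.hom).obj F)) := by
      intro q hq
      obtain ⟨e⟩ := nonempty_locCoh_iso' j W.hom F q
      exact (Functor.map_isZero (EtCoh.pull W.hom) (ih q hq (by omega))).of_iso e.symm
    obtain ⟨e⟩ := Groth.Agent.Helper6.TateLocE.nonempty_HY_iso_sections (pullback.snd j W.hom)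
      ((EtCoh.pull W.hom).obj F) p hloc
    obtain ⟨e2⟩ := nonempty_locCoh_iso' j W.hom F p
    have hz := h W.left W.hom p hp
    have h1 : IsZero (((EtDual.locCoh (pullback.snd j W.hom) p).obj
        ((EtCoh.pull W.hom).obj F)).obj.obj (op (EtCoh.top W.left))) := hz.of_iso e.symm
    have h2 : IsZero (((EtCoh.pull W.hom).obj ((EtDual.locCoh j p).obj F)).obj.obj
        (op (EtCoh.top W.left))) :=
      h1.of_iso ((sheafToPresheaf W.left.smallEtaleTopology AddCommGrpCat.{u + 1} ⋙
        (evaluation W.left.Etaleᵒᵖ AddCommGrpCat.{u + 1}).obj (op (EtCoh.top W.left))).mapIso e2)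
    have h3 : IsZero (((EtShriek.restrAlong W.hom).obj ((EtDual.locCoh j p).obj F)).obj.obj
        (op (EtCoh.top W.left))) :=
      h2.of_iso ((sheafToPresheaf W.left.smallEtaleTopology AddCommGrpCat.{u + 1} ⋙
        (evaluation W.left.Etaleᵒᵖ AddCommGrpCat.{u + 1}).obj (op (EtCoh.top W.left))).mapIso
          ((Groth.Agent.Helper9.EtShriekOpen.pullIsoRestr W.hom).app _).symm)
    exact h3.of_iso (((EtDual.locCoh j p).obj F).obj.mapIso (isoW W).op)

end Conv

theorem main {X U : Scheme.{u}} (j : U ⟶ X) [IsOpenImmersion j] (F : EtCoh.Ab X) (n : ℕ) :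
    EtDepth.DepthGE j F n ↔ ∀ (X' : Scheme.{u}) (g : X' ⟶ X) [Etale g]
      [PreservesFiniteLimits (EtCoh.pull (pullback.snd j g))],
      (∀ p : ℕ, p + 1 < n →
        Function.Bijective (EtCore.Hpull (pullback.snd j g) ((EtCoh.pull g).obj F) p)) ∧
      (∀ p : ℕ, p + 1 = n →
        Function.Injective (EtCore.Hpull (pullback.snd j g) ((EtCoh.pull g).obj F) p)) := by
  constructor
  · intro h X' g _ _
    exact (isZero_HY_iff_Hpull (pullback.snd j g) _ n).1
      (fun p hp => isZero_HY_of_depthGE j g F n h p hp)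
  · intro h
    apply depthGE_of_isZero_HY
    intro X' g _ p hp
    haveI : PreservesFiniteLimits (EtCoh.pull (pullback.snd j g)) :=
      Groth.Agent.Helper9.EtMV1.preservesFiniteLimits_pull _
    exact (isZero_HY_iff_Hpull (pullback.snd j g) _ n).2 (h X' g) p hp

end Groth.Agent.Helper6.DepthResC
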