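import Mathlib

set_option autoImplicit false
set_option linter.style.haveILetI false
set_option linter.unusedSectionVars false

/-!
# Determinants on contractible complexes of finite free modules

Sylvester's identity for linear maps, block-triangular determinants via idempotents, and the
telescoping identity `∏_{i even} det g_i = ∏_{i odd} det g_i` for an endomorphism `g` of a bounded
contractible complex of finite free modules.
-/

namespace Groth.Agent.Helper6.DetCx

universe u v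

section basic

variable {R : Type u} [CommRing R]
variable {M : Type v} [AddCommGroup M] [Module R M] [Module.Free R M] [Module.Finite R M]
variable {N : Type v} [AddCommGroup N] [Module R N] [Module.Free R N] [Module.Finite R N]

theorem sylv (f : N →ₗ[R] M) (h : M →ₗ[R] N) :
    LinearMap.det (LinearMap.id + f ∘ₗ h) = LinearMap.det (LinearMap.id + h ∘ₗ f) := by
  classical
  let bM := Module.Free.chooseBasis R M
  let bN := Module.Free.chooseBasis R N
  haveI : Fintype (Module.Free.ChooseBasisIndex R M) := Module.Free.ChooseBasisIndex.fintype R M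
  haveI : Fintype (Module.Free.ChooseBasisIndex R N) := Module.Free.ChooseBasisIndex.fintype R N
  rw [← LinearMap.det_toMatrix bM, ← LinearMap.det_toMatrix bN, map_add, map_add,
    LinearMap.toMatrix_id, LinearMap.toMatrix_id, LinearMap.toMatrix_comp bM bN bM,
    LinearMap.toMatrix_comp bN bM bN]
  exact Matrix.det_one_add_mul_comm _ _

theorem sylvEnd (a b : Module.End R M) :
    LinearMap.det (1 + a * b) = LinearMap.det (1 + b * a) := sylv a b

theorem bt_int (π ρ G : Module.End R M) (h1 : π + ρ = 1) (h2 : π * π = π)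
    (h4 : ρ * G * π = 0) :
    LinearMap.det G =
      LinearMap.det (1 + π * (G - 1) * π) * LinearMap.det (1 + ρ * (G - 1) * ρ) := by
  have hρ : ρ = 1 - π := eq_sub_of_add_eq' h1
  have hπρ : π * ρ = 0 := by rw [hρ, mul_sub, mul_one, h2, sub_self]
  have hρπ : ρ * π = 0 := by rw [hρ, sub_mul, one_mul, h2, sub_self]
  have hρρ : ρ * ρ = ρ := by
    have : ρ * ρ = ρ * (π + ρ) - ρ * π := by rw [mul_add]; abel
    rw [this, h1, mul_one, hρπ, sub_zero]
  have hππ' : ∀ x, π * (π * x) = π * x := fun x => by rw [← mul_assoc, h2]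
  have hπρ' : ∀ x, π * (ρ * x) = 0 := fun x => by rw [← mul_assoc, hπρ, zero_mul]
  have hρπ' : ∀ x, ρ * (π * x) = 0 := fun x => by rw [← mul_assoc, hρπ, zero_mul]
  have hρρ' : ∀ x, ρ * (ρ * x) = ρ * x := fun x => by rw [← mul_assoc, hρρ]
  have hρGπ : ρ * (G * π) = 0 := by rw [← mul_assoc]; exact h4
  have hρGπ' : ∀ x, ρ * (G * (π * x)) = 0 := fun x => by
    rw [← mul_assoc, ← mul_assoc, h4, zero_mul]
  have hG : G = π * (G * π) + π * (G * ρ) + ρ * (G * ρ) := by
    calc G = (π + ρ) * (G * (π + ρ)) := by rw [h1, one_mul, mul_one]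
      _ = _ := by
        simp only [mul_add, add_mul, hρGπ, add_zero]
        abel
  have e1 : 1 + π * (G - 1) * π = π * (G * π) + ρ := by
    rw [mul_sub, sub_mul, mul_one, h2, mul_assoc]
    nth_rewrite 1 [← h1]
    abel
  have e2 : 1 + ρ * (G - 1) * ρ = π + ρ * (G * ρ) := by
    rw [mul_sub, sub_mul, mul_one, hρρ, mul_assoc]
    nth_rewrite 1 [← h1]
    abel
  have e3 : G = (π + ρ * (G * ρ)) * (1 + π * (G * ρ)) * (π * (G * π) + ρ) := by
    have : (π + ρ * (G * ρ)) * (1 + π * (G * ρ)) * (π * (G * π) + ρ) =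
        π * (G * π) + π * (G * ρ) + ρ * (G * ρ) := by
      simp only [mul_add, add_mul, mul_one, mul_assoc, hπρ, hρρ, hππ',
        hρπ', mul_zero, add_zero, zero_add]
      abel
    rw [this]
    exact hG
  have e4 : LinearMap.det (1 + π * (G * ρ)) = 1 := by
    rw [sylvEnd, mul_assoc, hρπ, mul_zero, add_zero, map_one]
  rw [e1, e2]
  conv_lhs => rw [e3]
  rw [map_mul, map_mul, e4, mul_one, mul_comm]

variable {M' : Type v} [AddCommGroup M'] [Module R M'] [Module.Free R M'] [Module.Finite R M']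
variable {M'' : Type v} [AddCommGroup M''] [Module R M''] [Module.Free R M''] [Module.Finite R M'']

theorem bt (i : M' →ₗ[R] M) (r : M →ₗ[R] M') (j : M'' →ₗ[R] M) (q : M →ₗ[R] M'')
    (hri : ∀ x, r (i x) = x) (hqj : ∀ x, q (j x) = x) (hsum : ∀ x, i (r x) + j (q x) = x)
    (G : M →ₗ[R] M) (G' : M' →ₗ[R] M') (G'' : M'' →ₗ[R] M'')
    (hG' : ∀ x, G (i x) = i (G' x)) (hG'' : ∀ x, q (G x) = G'' (q x)) :
    LinearMap.det G = LinearMap.det G' * LinearMap.det G'' := by
  have hqi : ∀ x, q (i x) = 0 := by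
    intro x
    have h := hsum (i x)
    rw [hri] at h
    have h0 : j (q (i x)) = 0 := by simpa using h
    have h' := congrArg q h0
    rwa [hqj, map_zero] at h'
  have hrj : ∀ x, r (j x) = 0 := by
    intro x
    have h := hsum (j x)
    rw [hqj] at h
    have h0 : i (r (j x)) = 0 := by simpa using h
    have h' := congrArg r h0
    rwa [hri, map_zero] at h'
  obtain ⟨π, hπ⟩ : ∃ π : Module.End R M, π = i ∘ₗ r := ⟨_, rfl⟩
  obtain ⟨ρ, hρ⟩ : ∃ ρ : Module.End R M, ρ = j ∘ₗ q := ⟨_, rfl⟩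
  have h1 : π + ρ = 1 := by
    subst hπ hρ
    exact LinearMap.ext fun x => hsum x
  have h2 : π * π = π := by
    subst hπ
    refine LinearMap.ext fun x => ?_
    show i (r (i (r x))) = i (r x)
    rw [hri]
  have h4 : ρ * G * π = 0 := by
    subst hπ hρ
    refine LinearMap.ext fun x => ?_
    show j (q (G (i (r x)))) = 0
    rw [hG', hqi, map_zero]
  rw [bt_int π ρ G h1 h2 h4]
  congr 1
  · have e : (1 : Module.End R M) + π * (G - 1) * π =
        LinearMap.id + i ∘ₗ (r ∘ₗ (G - LinearMap.id) ∘ₗ i ∘ₗ r) := by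
      subst hπ
      rfl
    rw [e, sylv]
    congr 1
    refine LinearMap.ext fun x => ?_
    show x + r (G (i (r (i x))) - i (r (i x))) = G' x
    rw [hri, hG', map_sub, hri, hri]
    abel
  · have e : (1 : Module.End R M) + ρ * (G - 1) * ρ =
        LinearMap.id + j ∘ₗ (q ∘ₗ (G - LinearMap.id) ∘ₗ j ∘ₗ q) := by
      subst hρ
      rfl
    rw [e, sylv]
    congr 1
    refine LinearMap.ext fun x => ?_
    show x + q (G (j (q (j x))) - j (q (j x))) = G'' x
    rw [hqj, map_sub, hG'', hqj]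
    abel

end basic

section finprod

variable {Mo : Type*} [CommMonoid Mo]

/-- shift by one from even to odd integers -/
def eEO : {i : ℤ // Even i} ≃ {j : ℤ // Odd j} where
  toFun i := ⟨i.1 + 1, i.2.add_one⟩
  invFun j := ⟨j.1 - 1, by obtain ⟨m, hm⟩ := j.2; exact ⟨m, by omega⟩⟩
  left_inv i := Subtype.ext (by simp)
  right_inv j := Subtype.ext (by simp)

/-- shift by one from odd to even integers -/
def eOE : {i : ℤ // Odd i} ≃ {j : ℤ // Even j} where
  toFun i := ⟨i.1 + 1, i.2.add_one⟩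
  invFun j := ⟨j.1 - 1, by obtain ⟨m, hm⟩ := j.2; exact ⟨m - 1, by omega⟩⟩
  left_inv i := Subtype.ext (by simp)
  right_inv j := Subtype.ext (by simp)

theorem shiftEO (f : ℤ → Mo) :
    ∏ᶠ (i : {i : ℤ // Even i}), f (i.1 + 1) = ∏ᶠ (j : {j : ℤ // Odd j}), f j.1 :=
  finprod_comp_equiv eEO (f := fun j : {j : ℤ // Odd j} => f j.1)

theorem shiftOE (f : ℤ → Mo) :
    ∏ᶠ (i : {i : ℤ // Odd i}), f (i.1 + 1) = ∏ᶠ (j : {j : ℤ // Even j}), f j.1 :=
  finprod_comp_equiv eOE (f := fun j : {j : ℤ // Even j} => f j.1)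

theorem fin_sub {P : ℤ → Prop} (f : ℤ → Mo) (hf : f.mulSupport.Finite) :
    (Function.mulSupport fun i : {i : ℤ // P i} => f i.1).Finite :=
  hf.preimage (Subtype.val_injective.injOn)

theorem fin_sub' {P : ℤ → Prop} (f : ℤ → Mo) (hf : f.mulSupport.Finite) :
    (Function.mulSupport fun i : {i : ℤ // P i} => f (i.1 + 1)).Finite := by
  refine hf.preimage (f := fun i : {i : ℤ // P i} => i.1 + 1) ?_
  intro x _ y _ hxy
  exact Subtype.ext (by simpa using hxy)

theorem finprod_even_odd (f : ℤ → Mo) (hf : f.mulSupport.Finite) (D : ℤ → Mo)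
    (hD : ∀ j, D j = f j * f (j + 1)) :
    ∏ᶠ (i : {i : ℤ // Even i}), D i.1 = ∏ᶠ (i : {i : ℤ // Odd i}), D i.1 := by
  calc ∏ᶠ (i : {i : ℤ // Even i}), D i.1
      = ∏ᶠ (i : {i : ℤ // Even i}), f i.1 * f (i.1 + 1) := by simp only [hD]
    _ = (∏ᶠ (i : {i : ℤ // Even i}), f i.1) * ∏ᶠ (i : {i : ℤ // Even i}), f (i.1 + 1) :=
        finprod_mul_distrib (fin_sub f hf) (fin_sub' f hf)
    _ = (∏ᶠ (i : {i : ℤ // Even i}), f i.1) * ∏ᶠ (i : {i : ℤ // Odd i}), f i.1 := by
        rw [shiftEO]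
    _ = (∏ᶠ (i : {i : ℤ // Odd i}), f i.1) * ∏ᶠ (i : {i : ℤ // Odd i}), f (i.1 + 1) := by
        rw [shiftOE, mul_comm]
    _ = ∏ᶠ (i : {i : ℤ // Odd i}), f i.1 * f (i.1 + 1) :=
        (finprod_mul_distrib (fin_sub f hf) (fin_sub' f hf)).symm
    _ = ∏ᶠ (i : {i : ℤ // Odd i}), D i.1 := by simp only [hD]

theorem cross (p q : ℤ → Mo) (hp : p.mulSupport.Finite) (hq : q.mulSupport.Finite)
    (h : ∏ᶠ (i : {i : ℤ // Even i}), (p (i.1 + 1) * q i.1) =
      ∏ᶠ (i : {i : ℤ // Odd i}), (p (i.1 + 1) * q i.1)) :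
    (∏ᶠ (i : {i : ℤ // Even i}), p i.1) * (∏ᶠ (i : {i : ℤ // Odd i}), q i.1) =
      (∏ᶠ (i : {i : ℤ // Odd i}), p i.1) * (∏ᶠ (i : {i : ℤ // Even i}), q i.1) := by
  rw [finprod_mul_distrib (fin_sub' p hp) (fin_sub q hq),
    finprod_mul_distrib (fin_sub' p hp) (fin_sub q hq), shiftEO, shiftOE] at h
  exact h.symm

end finprod

section cx

variable {R : Type u} [CommRing R] (C : ℤ → Type v) [∀ i, AddCommGroup (C i)]
  [∀ i, Module R (C i)] [∀ i, Module.Free R (C i)] [∀ i, Module.Finite R (C i)]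
  (d s : ∀ i j, C i →ₗ[R] C j) (g : ∀ i, C i →ₗ[R] C i)

/-- the determinant of `g` on the cycles (computed on the whole module) -/
noncomputable def alpha (i j : ℤ) : R :=
  LinearMap.det (LinearMap.id + (g j - LinearMap.id) ∘ₗ d i j ∘ₗ s j i)

theorem step (h i j k : ℤ)
    (ha : ∀ x, d i j (d h i x) = 0) (he : ∀ x, d j k (d i j x) = 0)
    (hb : ∀ x, d h i (s i h x) + s j i (d i j x) = x)
    (hc : ∀ x, d i j (s j i x) + s k j (d j k x) = x)
    (hgi : ∀ x, g j (d i j x) = d i j (g i x)) (hgj : ∀ x, g k (d j k x) = d j k (g j x)) :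
    LinearMap.det (g j) = alpha C d s g i j * alpha C d s g j k := by
  obtain ⟨π, hπ⟩ : ∃ π : Module.End R (C j), π = d i j ∘ₗ s j i := ⟨_, rfl⟩
  obtain ⟨ρ, hρ⟩ : ∃ ρ : Module.End R (C j), ρ = s k j ∘ₗ d j k := ⟨_, rfl⟩
  have h1 : π + ρ = 1 := by
    subst hπ hρ
    exact LinearMap.ext fun x => hc x
  have hsd : ∀ x, s j i (d i j x) = x - d h i (s i h x) := fun x => eq_sub_of_add_eq' (hb x)
  have h2 : π * π = π := by
    subst hπ
    refine LinearMap.ext fun x => ?_
    show d i j (s j i (d i j (s j i x))) = d i j (s j i x)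
    rw [hsd, map_sub, ha, sub_zero]
  have h4 : ρ * g j * π = 0 := by
    subst hπ hρ
    refine LinearMap.ext fun x => ?_
    show s k j (d j k (g j (d i j (s j i x)))) = 0
    rw [hgi, he, map_zero]
  rw [bt_int π ρ (g j) h1 h2 h4]
  congr 1
  · rw [mul_assoc, sylvEnd, mul_assoc, h2]
    subst hπ
    rfl
  · have e1 : (1 : Module.End R (C j)) + ρ * (g j - 1) * ρ =
        LinearMap.id + s k j ∘ₗ (d j k ∘ₗ (g j - LinearMap.id) ∘ₗ s k j ∘ₗ d j k) := by
      subst hρ
      rfl
    rw [e1, sylv]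
    unfold alpha
    congr 1
    refine LinearMap.ext fun x => ?_
    have hy : d j k (s k j (d j k (s k j x))) = d j k (s k j x) := by
      have h' : s k j (d j k (s k j x)) = s k j x - d i j (s j i (s k j x)) :=
        eq_sub_of_add_eq' (hc (s k j x))
      rw [h', map_sub, he, sub_zero]
    show x + d j k (g j (s k j (d j k (s k j x))) - s k j (d j k (s k j x))) =
      x + (g k (d j k (s k j x)) - d j k (s k j x))
    rw [map_sub, ← hgj, hy]

theorem evenOdd (hdd : ∀ i j k (x : C i), d j k (d i j x) = 0)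
    (hs : ∀ h i j, h + 1 = i → i + 1 = j → ∀ x, d h i (s i h x) + s j i (d i j x) = x)
    (hg : ∀ i j x, g j (d i j x) = d i j (g i x))
    (a b : ℤ) (hb : ∀ i, i < a ∨ b < i → Subsingleton (C i)) :
    ∏ᶠ (i : {i : ℤ // Even i}), LinearMap.det (g i.1) =
      ∏ᶠ (i : {i : ℤ // Odd i}), LinearMap.det (g i.1) := by
  obtain ⟨f, hf⟩ : ∃ f : ℤ → R, f = fun j => alpha C d s g (j - 1) j := ⟨_, rfl⟩
  have hstep : ∀ j, LinearMap.det (g j) = f j * f (j + 1) := by
    intro j
    have := step C d s g (j - 1 - 1) (j - 1) j (j + 1) (hdd _ _ _) (hdd _ _ _)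
      (hs _ _ _ (by ring) (by ring)) (hs _ _ _ (by ring) rfl) (hg _ _) (hg _ _)
    rw [this, hf]
    simp only
    rw [show j + 1 - 1 = j by ring]
  have hf1 : ∀ j, (j < a ∨ b < j) → f j = 1 := by
    intro j hj
    haveI := hb j hj
    rw [hf]
    exact LinearMap.det_eq_one_of_subsingleton _
  have hfin : f.mulSupport ⊆ Set.Icc a b := by
    intro j hj
    by_contra hcon
    apply hj
    apply hf1
    simp only [Set.mem_Icc, not_and_or, not_le] at hcon
    exact hcon
  have hfinite : f.mulSupport.Finite := (Set.finite_Icc a b).subset hfin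
  exact finprod_even_odd f hfinite (fun j => LinearMap.det (g j)) hstep

end cx

end Groth.Agent.Helper6.DetCx
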