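import Mathlib
import Groth.Prelude.Def_SGA4hB
import Groth.Agent.Helper6.DetCx1
import Groth.Agent.Helper6.KProjQ
import Groth.Agent.Helper6.KProjRes

set_option autoImplicit false
set_option linter.style.haveILetI false
set_option linter.unusedSectionVars false

/-!
# The characteristic series of an endomorphism of a bounded complex of finite free modules
is invariant under isomorphisms in the derived category
-/

open CategoryTheory CategoryTheory.Limits Polynomial TensorProduct CochainComplex HomComplex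

attribute [local instance] HasDerivedCategory.standard

namespace Groth.Agent.Helper6.DetCx

universe u

variable {A : Type u} [CommRing A]

lemma subsingleton_tensor (M : Type u) [AddCommGroup M] [Module A M] [Subsingleton M] :
    Subsingleton (A[X] ⊗[A] M) := by
  have h0 : ∀ z : A[X] ⊗[A] M, z = 0 := fun z => by
    induction z using TensorProduct.induction_on with
    | zero => rfl
    | tmul p m => rw [Subsingleton.elim m 0, TensorProduct.tmul_zero]
    | add x y hx hy => rw [hx, hy, add_zero]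
  exact ⟨fun x y => by rw [h0 x, h0 y]⟩

lemma detOneSub_eq_one_of_isZero (M : ModuleCat.{u} A) (w : M ⟶ M) (h : IsZero M) :
    SGA4h.detOneSub M w = 1 := by
  haveI : Subsingleton M := ModuleCat.subsingleton_of_isZero h
  haveI : Subsingleton (A[X] ⊗[A] M) := subsingleton_tensor M
  exact LinearMap.det_eq_one_of_subsingleton _

lemma bc_comp_apply {M N P : ModuleCat.{u} A} (f : M ⟶ N) (g : N ⟶ P) (x : A[X] ⊗[A] M) :
    g.hom.baseChange A[X] (f.hom.baseChange A[X] x) = (f ≫ g).hom.baseChange A[X] x := by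
  rw [ModuleCat.hom_comp, LinearMap.baseChange_comp]
  rfl

lemma bc_id_apply {M : ModuleCat.{u} A} (x : A[X] ⊗[A] M) :
    (𝟙 M : M ⟶ M).hom.baseChange A[X] x = x := by
  rw [ModuleCat.hom_id, LinearMap.baseChange_id]
  rfl

lemma bc_zero_apply {M N : ModuleCat.{u} A} (x : A[X] ⊗[A] M) :
    (0 : M ⟶ N).hom.baseChange A[X] x = 0 := by
  rw [ModuleCat.hom_zero, LinearMap.baseChange_zero]
  rfl

lemma bc_add_apply {M N : ModuleCat.{u} A} (f g : M ⟶ N) (x : A[X] ⊗[A] M) :
    (f + g).hom.baseChange A[X] x = f.hom.baseChange A[X] x + g.hom.baseChange A[X] x := by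
  rw [ModuleCat.hom_add, LinearMap.baseChange_add]
  rfl

theorem detOneSub_mul {M M' M'' : ModuleCat.{u} A}
    [Module.Free A M] [Module.Finite A M] [Module.Free A M'] [Module.Finite A M']
    [Module.Free A M''] [Module.Finite A M'']
    (i : M' ⟶ M) (r : M ⟶ M') (j : M'' ⟶ M) (q : M ⟶ M'')
    (hri : i ≫ r = 𝟙 _) (hqj : j ≫ q = 𝟙 _) (hsum : r ≫ i + q ≫ j = 𝟙 _)
    (w : M ⟶ M) (w' : M' ⟶ M') (w'' : M'' ⟶ M'') (hw' : i ≫ w = w' ≫ i)
    (hw'' : w ≫ q = q ≫ w'') :
    SGA4h.detOneSub M w = SGA4h.detOneSub M' w' * SGA4h.detOneSub M'' w'' := by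
  unfold SGA4h.detOneSub
  refine bt (i.hom.baseChange A[X]) (r.hom.baseChange A[X]) (j.hom.baseChange A[X])
    (q.hom.baseChange A[X]) ?_ ?_ ?_ _ _ _ ?_ ?_
  · intro x
    rw [bc_comp_apply, hri, bc_id_apply]
  · intro x
    rw [bc_comp_apply, hqj, bc_id_apply]
  · intro x
    rw [bc_comp_apply, bc_comp_apply, ← bc_add_apply, hsum, bc_id_apply]
  · intro x
    show i.hom.baseChange A[X] x - (X : A[X]) • w.hom.baseChange A[X] (i.hom.baseChange A[X] x) =
      i.hom.baseChange A[X] (x - (X : A[X]) • w'.hom.baseChange A[X] x)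
    rw [bc_comp_apply, hw', ← bc_comp_apply, map_sub, map_smul]
  · intro x
    show q.hom.baseChange A[X] (x - (X : A[X]) • w.hom.baseChange A[X] x) =
      q.hom.baseChange A[X] x - (X : A[X]) • w''.hom.baseChange A[X] (q.hom.baseChange A[X] x)
    rw [map_sub, map_smul, bc_comp_apply, hw'', ← bc_comp_apply]

theorem detEven_eq_detOdd_of_contractible (C : CochainComplex (ModuleCat.{u} A) ℤ) (w : C ⟶ C)
    (hC : Homotopy (𝟙 C) 0) [∀ i, Module.Free A (C.X i)] [∀ i, Module.Finite A (C.X i)]
    (a b : ℤ) (hb : ∀ i, i < a ∨ b < i → IsZero (C.X i)) :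
    SGA4h.detEven C w = SGA4h.detOdd C w := by
  unfold SGA4h.detEven SGA4h.detOdd SGA4h.detOneSub
  refine evenOdd (R := A[X]) (fun i => A[X] ⊗[A] (C.X i))
    (fun i j => (C.d i j).hom.baseChange A[X]) (fun i j => (hC.hom i j).hom.baseChange A[X])
    (fun i => LinearMap.id - (X : A[X]) • (w.f i).hom.baseChange A[X]) ?_ ?_ ?_ a b ?_
  · intro i j k x
    show (C.d j k).hom.baseChange A[X] ((C.d i j).hom.baseChange A[X] x) = 0
    rw [bc_comp_apply, C.d_comp_d, bc_zero_apply]
  · intro h i j hhi hij x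
    show (C.d h i).hom.baseChange A[X] ((hC.hom i h).hom.baseChange A[X] x) +
      (hC.hom j i).hom.baseChange A[X] ((C.d i j).hom.baseChange A[X] x) = x
    have hcomm := hC.comm i
    rw [dNext_eq hC.hom (show (ComplexShape.up ℤ).Rel i j from hij),
      prevD_eq hC.hom (show (ComplexShape.up ℤ).Rel h i from hhi)] at hcomm
    simp only [HomologicalComplex.id_f, HomologicalComplex.zero_f, add_zero] at hcomm
    rw [bc_comp_apply, bc_comp_apply, ← bc_add_apply, add_comm, ← hcomm, bc_id_apply]
  · intro i j x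
    show (C.d i j).hom.baseChange A[X] x -
        (X : A[X]) • (w.f j).hom.baseChange A[X] ((C.d i j).hom.baseChange A[X] x) =
      (C.d i j).hom.baseChange A[X] (x - (X : A[X]) • (w.f i).hom.baseChange A[X] x)
    rw [bc_comp_apply, ← w.comm i j, ← bc_comp_apply, map_sub, map_smul]
  · intro i hi
    haveI : Subsingleton (C.X i) := ModuleCat.subsingleton_of_isZero (hb i hi)
    exact subsingleton_tensor (C.X i)

section main

variable {K K' : CochainComplex (ModuleCat.{u} A) ℤ} (f : K ⟶ K')

/-- the terms of the mapping cone are products -/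
noncomputable def coneEquiv (i j : ℤ) (hij : i + 1 = j) :
    (mappingCone f).X i ≃ₗ[A] (K.X j × K'.X i) where
  toFun x := (((mappingCone.fst f).1.v i j hij).hom x,
    ((mappingCone.snd f).v i i (add_zero i)).hom x)
  map_add' x y := by simp
  map_smul' c x := by simp
  invFun y := ((mappingCone.inl f).v j i (by omega)).hom y.1 + ((mappingCone.inr f).f i).hom y.2
  left_inv x := by
    have h := congrArg (fun φ => φ.hom x) (mappingCone.id_X f i j hij)
    simpa using h
  right_inv y := by
    have h1 := fun z => congrArg (fun φ => φ.hom z) (mappingCone.inl_v_fst_v f j i hij)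
    have h2 := fun z => congrArg (fun φ => φ.hom z) (mappingCone.inl_v_snd_v f j i (by omega))
    have h3 := fun z => congrArg (fun φ => φ.hom z) (mappingCone.inr_f_fst_v f i j hij)
    have h4 := fun z => congrArg (fun φ => φ.hom z) (mappingCone.inr_f_snd_v f i)
    simp only [ModuleCat.hom_comp, LinearMap.comp_apply, ModuleCat.hom_id, LinearMap.id_apply,
      ModuleCat.hom_zero, LinearMap.zero_apply] at h1 h2 h3 h4
    refine Prod.ext ?_ ?_
    · show ((mappingCone.fst f).1.v i j hij).hom (_ + _) = y.1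
      rw [map_add, h1, h3, add_zero]
    · show ((mappingCone.snd f).v i i (add_zero i)).hom (_ + _) = y.2
      rw [map_add, h2, h4, zero_add]

variable {f}

lemma mapOfHomotopy_fst {u : K ⟶ K} {u' : K' ⟶ K'} (H : Homotopy (f ≫ u') (u ≫ f)) (i j : ℤ)
    (hij : i + 1 = j) :
    (mappingCone.mapOfHomotopy H).f i ≫ (mappingCone.fst f).1.v i j hij =
      (mappingCone.fst f).1.v i j hij ≫ u.f j := by
  rw [mappingCone.ext_from_iff f j i hij]
  constructor
  · simp [mappingCone.mapOfHomotopy]
  · simp [mappingCone.mapOfHomotopy]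

theorem main (a b : ℤ) [K.IsStrictlyGE a] [K.IsStrictlyLE b] [K'.IsStrictlyGE a]
    [K'.IsStrictlyLE b]
    (hK : ∀ i : ℤ, Module.Finite A (K.X i) ∧ Module.Free A (K.X i))
    (hK' : ∀ i : ℤ, Module.Finite A (K'.X i) ∧ Module.Free A (K'.X i))
    (u : K ⟶ K) (u' : K' ⟶ K') (φ : DerivedCategory.Q.obj K ≅ DerivedCategory.Q.obj K')
    (hφ : DerivedCategory.Q.map u ≫ φ.hom = φ.hom ≫ DerivedCategory.Q.map u') :
    SGA4h.detEven K u * SGA4h.detOdd K' u' = SGA4h.detOdd K u * SGA4h.detEven K' u' := by
  haveI : ∀ i, Module.Finite A (K.X i) := fun i => (hK i).1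
  haveI : ∀ i, Module.Free A (K.X i) := fun i => (hK i).2
  haveI : ∀ i, Module.Finite A (K'.X i) := fun i => (hK' i).1
  haveI : ∀ i, Module.Free A (K'.X i) := fun i => (hK' i).2
  haveI : ∀ i, Projective (K.X i) := fun i =>
    (IsProjective.iff_projective (R := A) (K.X i)).mp Module.Projective.of_free
  haveI : ∀ i, Projective (K'.X i) := fun i =>
    (IsProjective.iff_projective (R := A) (K'.X i)).mp Module.Projective.of_free
  haveI : K.IsKProjective := isKProjective_of_projective K b
  haveI : K'.IsKProjective := isKProjective_of_projective K' b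
  obtain ⟨f, hf⟩ := KProjQ.Q_map_surjective K K' φ.hom
  have hcomm : DerivedCategory.Q.map (f ≫ u') = DerivedCategory.Q.map (u ≫ f) := by
    rw [Functor.map_comp, Functor.map_comp, hf, hφ]
  obtain ⟨H⟩ := KProjQ.homotopy_of_Q_map_eq (f ≫ u') (u ≫ f) hcomm
  obtain ⟨w, hw⟩ : ∃ w : mappingCone f ⟶ mappingCone f, w = mappingCone.mapOfHomotopy H :=
    ⟨_, rfl⟩
  haveI : IsIso (DerivedCategory.Q.map f) := by rw [hf]; infer_instance
  have hz : IsZero (DerivedCategory.Q.obj (mappingCone f)) :=
    (Pretriangulated.Triangle.isZero₃_iff_isIso₁ _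
      (DerivedCategory.mappingCone_triangle_distinguished f)).mpr ‹_›
  haveI : (mappingCone f).IsKProjective := KProjRes.isKProjective_mappingCone f
  obtain ⟨hC⟩ := KProjQ.homotopy_of_Q_map_eq (𝟙 (mappingCone f)) 0 (hz.eq_of_src _ _)
  haveI : ∀ i, Module.Free A ((mappingCone f).X i) := fun i =>
    Module.Free.of_equiv (coneEquiv f i (i + 1) rfl).symm
  haveI : ∀ i, Module.Finite A ((mappingCone f).X i) := fun i =>
    Module.Finite.equiv (coneEquiv f i (i + 1) rfl).symm
  have hbdd : ∀ i, i < a - 1 ∨ b < i → IsZero ((mappingCone f).X i) := by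
    intro i hi
    rw [mappingCone.isZero_X_iff]
    rcases hi with hi | hi
    · exact ⟨K.isZero_of_isStrictlyGE a _ (by omega), K'.isZero_of_isStrictlyGE a _ (by omega)⟩
    · exact ⟨K.isZero_of_isStrictlyLE b _ (by omega), K'.isZero_of_isStrictlyLE b _ (by omega)⟩
  have hEO := detEven_eq_detOdd_of_contractible (mappingCone f) w hC (a - 1) b hbdd
  have key : ∀ i, SGA4h.detOneSub ((mappingCone f).X i) (w.f i) =
      SGA4h.detOneSub (K.X (i + 1)) (u.f (i + 1)) * SGA4h.detOneSub (K'.X i) (u'.f i) := by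
    intro i
    rw [detOneSub_mul ((mappingCone.inr f).f i) ((mappingCone.snd f).v i i (add_zero i))
      ((mappingCone.inl f).v (i + 1) i (by omega)) ((mappingCone.fst f).1.v i (i + 1) rfl)
      (mappingCone.inr_f_snd_v f i) (mappingCone.inl_v_fst_v f (i + 1) i rfl)
      (by rw [add_comm]; exact mappingCone.id_X f i (i + 1) rfl) (w.f i) (u'.f i) (u.f (i + 1))
      (by
        rw [hw]
        exact congrArg (fun ψ => ψ.f i) (mappingCone.triangleMapOfHomotopy_comm₂ H))
      (by rw [hw]; exact mapOfHomotopy_fst H i (i + 1) rfl)]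
    exact mul_comm _ _
  unfold SGA4h.detEven SGA4h.detOdd at hEO ⊢
  simp only [key] at hEO
  refine cross (fun i => SGA4h.detOneSub (K.X i) (u.f i))
    (fun i => SGA4h.detOneSub (K'.X i) (u'.f i)) ?_ ?_ hEO
  · refine (Set.finite_Icc a b).subset fun i hi => ?_
    by_contra hcon
    apply hi
    simp only [Set.mem_Icc, not_and_or, not_le] at hcon
    rcases hcon with hcon | hcon
    · exact detOneSub_eq_one_of_isZero _ _ (K.isZero_of_isStrictlyGE a _ hcon)
    · exact detOneSub_eq_one_of_isZero _ _ (K.isZero_of_isStrictlyLE b _ hcon)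
  · refine (Set.finite_Icc a b).subset fun i hi => ?_
    by_contra hcon
    apply hi
    simp only [Set.mem_Icc, not_and_or, not_le] at hcon
    rcases hcon with hcon | hcon
    · exact detOneSub_eq_one_of_isZero _ _ (K'.isZero_of_isStrictlyGE a _ hcon)
    · exact detOneSub_eq_one_of_isZero _ _ (K'.isZero_of_isStrictlyLE b _ hcon)

end main

end Groth.Agent.Helper6.DetCx
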