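import Mathlib

universe u

namespace Groth.Agent.Helper6.DetFF

open Polynomial

variable (A : Type u) [CommRing A] (n : ℕ)

/-- the polynomial ring in the entries -/
abbrev S' := MvPolynomial (Fin n × Fin n) A

/-- the generic matrix -/
noncomputable abbrev Y : Matrix (Fin n) (Fin n) (S' A n) := Matrix.mvPolynomialX (Fin n) (Fin n) A

/-- `det (t + Y)` -/
noncomputable abbrev P : (S' A n)[X] := (-(Y A n)).charpoly

/-- `S'[t] / det (t + Y)` -/
abbrev Q := AdjoinRoot (P A n)

/-- the generic determinant -/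
noncomputable abbrev D : S' A n := (Y A n).det

/-- the quotient by the generic determinant -/
abbrev B := S' A n ⧸ Ideal.span {D A n}

theorem P_monic : (P A n).Monic := Matrix.charpoly_monic _

theorem P_coeff_zero : (P A n).coeff 0 = D A n := by
  have h := Matrix.det_eq_sign_charpoly_coeff (-(Y A n))
  rw [Matrix.det_neg, Fintype.card_fin] at h
  have h2 : ((-1 : S' A n) ^ n) * ((-1 : S' A n) ^ n) = 1 := by
    rw [← mul_pow]
    simp
  calc (P A n).coeff 0 = ((-1 : S' A n) ^ n * (-1 : S' A n) ^ n) * (P A n).coeff 0 := by rw [h2, one_mul]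
    _ = (-1 : S' A n) ^ n * ((-1 : S' A n) ^ n * (P A n).coeff 0) := by ring
    _ = (-1 : S' A n) ^ n * ((-1 : S' A n) ^ n * D A n) := by rw [← h]
    _ = ((-1 : S' A n) ^ n * (-1 : S' A n) ^ n) * D A n := by ring
    _ = D A n := by rw [h2, one_mul]

/-- the map `x_ab ↦ y_ab + δ_ab t` -/
noncomputable def i₀ : S' A n →ₐ[A] Q A n :=
  MvPolynomial.aeval (fun p : Fin n × Fin n =>
    AdjoinRoot.of (P A n) (MvPolynomial.X p) + if p.1 = p.2 then AdjoinRoot.root (P A n) else 0)

theorem i₀_D : i₀ A n (D A n) = 0 := by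
  unfold D
  rw [AlgHom.map_det]
  have h1 : (i₀ A n).mapMatrix (Y A n) =
      (AdjoinRoot.mk (P A n)).mapMatrix (Matrix.charmatrix (-(Y A n))) := by
    ext a b
    rw [AlgHom.mapMatrix_apply, Matrix.map_apply]
    show i₀ A n (MvPolynomial.X (a, b)) = _
    rw [i₀, MvPolynomial.aeval_X, RingHom.mapMatrix_apply, Matrix.map_apply]
    show AdjoinRoot.of (P A n) (MvPolynomial.X (a, b)) + (if a = b then AdjoinRoot.root (P A n) else 0) = _
    by_cases hab : a = b
    · subst hab
      rw [Matrix.charmatrix_apply_eq, if_pos rfl, map_sub, AdjoinRoot.mk_X, AdjoinRoot.mk_C,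
        Matrix.neg_apply, map_neg, sub_neg_eq_add, add_comm]
      rfl
    · rw [Matrix.charmatrix_apply_ne _ _ _ hab, if_neg hab, add_zero, map_neg, AdjoinRoot.mk_C,
        Matrix.neg_apply, map_neg, neg_neg]
      rfl
  rw [h1, ← RingHom.map_det]
  exact AdjoinRoot.mk_self

/-- the section `B → Q` -/
noncomputable def ι : B A n →ₐ[A] Q A n :=
  Ideal.Quotient.liftₐ (Ideal.span {D A n}) (i₀ A n) (by
    intro a ha
    obtain ⟨c, rfl⟩ := Ideal.mem_span_singleton'.mp ha
    rw [map_mul, i₀_D, mul_zero])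

/-- the retraction `Q → B` -/
noncomputable def r : Q A n →ₐ[A] B A n :=
  AdjoinRoot.liftAlgHom (P A n) (Ideal.Quotient.mkₐ A (Ideal.span {D A n})) 0 (by
    rw [Polynomial.eval₂_at_zero, P_coeff_zero]
    exact Ideal.Quotient.eq_zero_iff_mem.mpr (Ideal.mem_span_singleton_self _))

theorem r_comp_ι : (r A n).comp (ι A n) = AlgHom.id A (B A n) := by
  apply Ideal.Quotient.algHom_ext
  apply MvPolynomial.algHom_ext
  intro p
  rw [AlgHom.comp_apply, AlgHom.comp_apply, Ideal.Quotient.mkₐ_eq_mk, AlgHom.comp_apply,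
    Ideal.Quotient.mkₐ_eq_mk, AlgHom.id_apply]
  show r A n (i₀ A n (MvPolynomial.X p)) = _
  rw [i₀, MvPolynomial.aeval_X, map_add, r, AdjoinRoot.liftAlgHom_of]
  split_ifs
  · rw [AdjoinRoot.liftAlgHom_root, add_zero]
    rfl
  · rw [map_zero, add_zero]
    rfl

instance : Module.Free (S' A n) (Q A n) := (P_monic A n).free_adjoinRoot

instance : Module.Free A (Q A n) := Module.Free.trans (R := A) (S := S' A n) (M := Q A n)

theorem main (hn : 0 < n) : Module.FaithfullyFlat A (B A n) := by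
  haveI : Module.Flat A (B A n) :=
    Module.Flat.of_retract (M := Q A n) (ι A n).toLinearMap (r A n).toLinearMap (by
      have := r_comp_ι A n
      exact LinearMap.ext fun x => AlgHom.congr_fun this x)
  refine ⟨fun m hm htop => ?_⟩
  haveI : Nontrivial A := ⟨⟨0, 1, fun h => hm.ne_top ((Ideal.eq_top_iff_one m).mpr (by rw [← h]; exact m.zero_mem))⟩⟩
  haveI : Nontrivial (Q A n) := by
    let b := (AdjoinRoot.powerBasis' (P_monic A n)).basis
    have hd : (AdjoinRoot.powerBasis' (P_monic A n)).dim = n := by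
      rw [AdjoinRoot.powerBasis'_dim, Matrix.charpoly_natDegree_eq_dim, Fintype.card_fin]
    exact ⟨⟨b ⟨0, by rw [hd]; exact hn⟩, 0, b.ne_zero _⟩⟩
  have hQ : m • (⊤ : Submodule A (Q A n)) ≠ ⊤ := Module.FaithfullyFlat.submodule_ne_top hm
  apply hQ
  have h1 : (1 : B A n) ∈ m • (⊤ : Submodule A (B A n)) := by
    rw [htop]
    exact Submodule.mem_top
  have h2 : (ι A n) 1 ∈ (m • (⊤ : Submodule A (B A n))).map (ι A n).toLinearMap :=
    Submodule.mem_map_of_mem h1
  rw [Submodule.map_smul'', map_one] at h2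
  have h3 : (1 : Q A n) ∈ m • (⊤ : Submodule A (Q A n)) :=
    Submodule.smul_mono le_rfl le_top h2
  rw [Ideal.smul_top_eq_map] at h3 ⊢
  have h4 : Ideal.map (algebraMap A (Q A n)) m = ⊤ := (Ideal.eq_top_iff_one _).mpr h3
  rw [h4]
  rfl

end Groth.Agent.Helper6.DetFF
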