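import Mathlib
import Groth.Prelude.Def_FibCat2
import Groth.Prelude.Def_W4stkcategoriessitesFib

/-!
# Helper6: the diagonal of a base change is a base change of the diagonal (plain categories)
-/

set_option autoImplicit false
universe v u

namespace Groth.Agent.Helper6.DiagBCPlain
open CategoryTheory CategoryTheory.Limits CategoricalPullback

variable {X Y V : Type u} [Category.{v} X] [Category.{v} Y] [Category.{v} V] (p : X ⥤ Y) (q : V ⥤ Y)

/-- the diagonal of `U = X ×_Y V` over `V` -/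
abbrev LU : CategoricalPullback p q ⥤ CategoricalPullback (π₂ p q) (π₂ p q) :=
  (CatCommSqOver.toFunctorToCategoricalPullback (π₂ p q) (π₂ p q) (CategoricalPullback p q)).obj
    ⟨𝟭 _, 𝟭 _, Iso.refl _⟩

/-- the diagonal of `X` over `Y` -/
abbrev FX : X ⥤ CategoricalPullback p p :=
  (CatCommSqOver.toFunctorToCategoricalPullback p p X).obj ⟨𝟭 _, 𝟭 _, Iso.refl _⟩

/-- the cospan transform -/
abbrev psi : CatCospanTransform (π₂ p q) (π₂ p q) p p :=
  ⟨π₁ p q, q, π₁ p q, ⟨(CatCommSq.iso (π₁ p q) (π₂ p q) p q).symm⟩,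
    ⟨(CatCommSq.iso (π₁ p q) (π₂ p q) p q).symm⟩⟩

/-- the induced functor `U ×_V U ⥤ X ×_Y X` -/
noncomputable abbrev GU : CategoricalPullback (π₂ p q) (π₂ p q) ⥤ CategoricalPullback p p :=
  FibCat.categoricalPullbackMap (psi p q)

theorem GU_obj_fst (w : CategoricalPullback (π₂ p q) (π₂ p q)) : ((GU p q).obj w).fst = w.fst.fst := rfl
theorem GU_obj_snd (w : CategoricalPullback (π₂ p q) (π₂ p q)) : ((GU p q).obj w).snd = w.snd.fst := rfl
theorem GU_obj_iso_hom (w : CategoricalPullback (π₂ p q) (π₂ p q)) :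
    ((GU p q).obj w).iso.hom = w.fst.iso.hom ≫ q.map w.iso.hom ≫ w.snd.iso.inv := by
  simp [GU, FibCat.categoricalPullbackMap]
  rfl
theorem GU_map_fst {w w' : CategoricalPullback (π₂ p q) (π₂ p q)} (b : w ⟶ w') :
    ((GU p q).map b).fst = b.fst.fst := rfl
theorem GU_map_snd {w w' : CategoricalPullback (π₂ p q) (π₂ p q)} (b : w ⟶ w') :
    ((GU p q).map b).snd = b.snd.fst := rfl

/-- the 2-isomorphism with identity components -/
noncomputable def eIso : π₁ p q ⋙ FX p ≅ LU p q ⋙ GU p q :=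
  NatIso.ofComponents
    (fun u => CategoricalPullback.mkIso (Iso.refl _) (Iso.refl _) (by
      change p.map (𝟙 _) ≫ ((GU p q).obj ((LU p q).obj u)).iso.hom = 𝟙 _ ≫ p.map (𝟙 _)
      rw [GU_obj_iso_hom]
      change p.map (𝟙 _) ≫ (u.iso.hom ≫ q.map (𝟙 u.snd) ≫ u.iso.inv) = 𝟙 _ ≫ p.map (𝟙 _)
      simp))
    (by
      intro u u' g
      apply CategoricalPullback.hom_ext
      · change g.fst ≫ 𝟙 _ = 𝟙 _ ≫ g.fst
        simp
      · change g.fst ≫ 𝟙 _ = 𝟙 _ ≫ g.fst
        simp)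

theorem eIso_fst (u : CategoricalPullback p q) : ((eIso p q).hom.app u).fst = 𝟙 _ := rfl
theorem eIso_snd (u : CategoricalPullback p q) : ((eIso p q).hom.app u).snd = 𝟙 _ := rfl

/-- the comparison functor -/
noncomputable abbrev Phi : CategoricalPullback p q ⥤ CategoricalPullback (FX p) (GU p q) :=
  (CatCommSqOver.toFunctorToCategoricalPullback (FX p) (GU p q) (CategoricalPullback p q)).obj
    ⟨π₁ p q, LU p q, eIso p q⟩

instance Phi_faithful : (Phi p q).Faithful where
  map_injective := by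
    intro u u' g g' h
    have h2 : ((Phi p q).map g).snd.fst = ((Phi p q).map g').snd.fst := by rw [h]
    exact h2

instance Phi_full : (Phi p q).Full where
  map_surjective := by
    intro u u' m
    -- m = (a, b)
    have hw := m.w
    have hw1 : (m.fst ≫ 𝟙 _ : u.fst ⟶ u'.fst) = 𝟙 _ ≫ m.snd.fst.fst := by
      have := congrArg (fun t => t.fst) hw
      exact this
    have hw2 : (m.fst ≫ 𝟙 _ : u.fst ⟶ u'.fst) = 𝟙 _ ≫ m.snd.snd.fst := by
      have := congrArg (fun t => t.snd) hw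
      exact this
    have hb : m.snd.fst.snd ≫ 𝟙 _ = 𝟙 _ ≫ m.snd.snd.snd := m.snd.w
    have hw1' : m.fst = m.snd.fst.fst := (Category.comp_id _).symm.trans (hw1.trans (Category.id_comp _))
    have hw2' : m.fst = m.snd.snd.fst := (Category.comp_id _).symm.trans (hw2.trans (Category.id_comp _))
    have hb' : m.snd.fst.snd = m.snd.snd.snd :=
      (Category.comp_id _).symm.trans (hb.trans (Category.id_comp _))
    have h12 : m.snd.fst = m.snd.snd := by
      apply CategoricalPullback.hom_ext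
      · exact hw1'.symm.trans hw2'
      · exact hb'
    refine ⟨m.snd.fst, ?_⟩
    apply CategoricalPullback.hom_ext
    · exact hw1'.symm
    · apply CategoricalPullback.hom_ext
      · rfl
      · exact h12

instance Phi_essSurj : (Phi p q).EssSurj where
  mem_essImage := by
    intro z
    let u₁ : CategoricalPullback p q := z.snd.fst
    let u₂ : CategoricalPullback p q := z.snd.snd
    let I₁ : z.fst ≅ u₁.fst := (π₁ p p).mapIso z.iso
    let I₂ : z.fst ≅ u₂.fst := (π₂ p p).mapIso z.iso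
    let e₂ : u₁.snd ≅ u₂.snd := z.snd.iso
    have hι : p.map I₁.hom ≫ (u₁.iso.hom ≫ q.map e₂.hom ≫ u₂.iso.inv) = 𝟙 _ ≫ p.map I₂.hom := by
      have := z.iso.hom.w
      rw [GU_obj_iso_hom] at this
      exact this
    let γ : u₁ ≅ u₂ := CategoricalPullback.mkIso (I₁.symm ≪≫ I₂) e₂ (by
      change p.map (I₁.inv ≫ I₂.hom) ≫ u₂.iso.hom = u₁.iso.hom ≫ q.map e₂.hom
      rw [Category.id_comp] at hι
      rw [p.map_comp, ← hι]
      simp only [Category.assoc, Iso.inv_hom_id, Category.comp_id]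
      rw [← p.map_comp_assoc, Iso.inv_hom_id, p.map_id, Category.id_comp])
    let β : (LU p q).obj u₁ ≅ z.snd := CategoricalPullback.mkIso (Iso.refl u₁) γ (by
      change 𝟙 u₁.snd ≫ z.snd.iso.hom = 𝟙 _ ≫ z.snd.iso.hom
      rfl)
    refine ⟨u₁, ⟨CategoricalPullback.mkIso I₁.symm β ?_⟩⟩
    apply CategoricalPullback.hom_ext
    · change I₁.inv ≫ I₁.hom = 𝟙 _ ≫ 𝟙 _
      simp
    · change I₁.inv ≫ I₂.hom = 𝟙 _ ≫ (I₁.inv ≫ I₂.hom)
      simp

theorem Phi_isEquivalence : (Phi p q).IsEquivalence where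

/-- S6447 -/
theorem main : ∃ e, (∀ u, (e.hom.app u).fst = 𝟙 _ ∧ (e.hom.app u).snd = 𝟙 _) ∧ FibCat.IsTwoCart
      (CategoricalPullback.π₁ p q) (LU p q) (FX p) (GU p q) e :=
  ⟨eIso p q, fun u => ⟨rfl, rfl⟩, Phi_isEquivalence p q⟩

end Groth.Agent.Helper6.DiagBCPlain
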