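import Mathlib
import Groth.Agent.Helper6.FpAlg
import Groth.Agent.Helper6.TauLib
import Groth.Agent.Helper6.AlgStDiag
import Groth.Agent.Helper6.DiagRed

/-!
# Helper6: the diagonal of a map of 2-fibre products
-/

set_option autoImplicit false
set_option linter.style.haveILetI false
set_option linter.unusedVariables false
universe w' v' w v u v₇ u₇ v₆ u₆ v₅ u₅ v₄ u₄ v₃ u₃ v₂ u₂ v₁ u₁

namespace Groth.Agent.Helper6.DiagFpMap
open CategoryTheory Functor FibCat Limits AlgebraicGeometry Opposite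
open Groth.Agent.Helper3 Groth.Agent.Helper6.FpTools Groth.Agent.Helper6.AlgStInv
open Groth.Agent.Helper6.DiagRed Groth.Agent.Helper6.FpAlg AlgSp

section General

variable {C : Type u₁} [Category.{v₁} C]
variable {𝒜 : BasedCategory.{v₂, u₂} C} {𝒳 : BasedCategory.{v₃, u₃} C}
  {𝒴 : BasedCategory.{v₄, u₄} C} {𝒮 : BasedCategory.{v₅, u₅} C} {F : 𝒳 ⥤ᵇ 𝒮} {G : 𝒴 ⥤ᵇ 𝒮}

/-- two functors into a 2-fibre product with compatibly isomorphic projections are isomorphic -/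
def isoOfProjW (G₁ G₂ : 𝒜 ⥤ᵇ fp F G)
    (α₁ : BasedFunctor.comp G₁ (fpFst F G) ≅ BasedFunctor.comp G₂ (fpFst F G))
    (α₂ : BasedFunctor.comp G₁ (fpSnd F G) ≅ BasedFunctor.comp G₂ (fpSnd F G))
    (hw : ∀ a, F.map (appIso α₁ a).hom ≫ (G₂.obj a).obj.iso.hom =
      (G₁.obj a).obj.iso.hom ≫ G.map (appIso α₂ a).hom) : G₁ ≅ G₂ :=
  BasedNatIso.mkNatIso
    (NatIso.ofComponents (fun a => fpMkIso (appIso α₁ a) (appIso α₂ a) (hw a))
      (fun {a a'} g => fp_hom_ext (appIso_hom_naturality α₁ g) (appIso_hom_naturality α₂ g)))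
    (fun a => fpMkIso_lift _ _ _ (appIso_hom_lift α₁ a rfl))

end General

section AlgStPart

variable {S : Scheme.{u}} {𝒳 𝒴 𝒳' 𝒴' 𝒵 : AlgSt.Cat S}

/-- the diagonal of a functor only depends on the functor up to equivalences of source and target -/
theorem diag_iff_of_square (P : MorphismProperty (Sp S)) (f : 𝒳 ⥤ᵇ 𝒴) (f' : 𝒳' ⥤ᵇ 𝒴')
    (E₁ : 𝒳' ⥤ᵇ 𝒳) (E₃ : 𝒴' ⥤ᵇ 𝒴) (h₁ : IsEquivOver E₁) (h₃ : IsEquivOver E₃)
    (θ : BasedFunctor.comp f' E₃ ≅ BasedFunctor.comp E₁ f) :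
    AlgSt.RepByAlgSpWith P (diag f) ↔ AlgSt.RepByAlgSpWith P (diag f') :=
  repByAlgSpWith_iff_of_square P (diag f) (diag f') E₁ (prodFun f f' E₁ E₃ θ) h₁
    (isEquivOver_prodFun _ _ _ _ _ h₁ h₃) (diagSq _ _ _ _ _)

/-- the diagonal of `𝒰 ×_𝒵 𝒴 ⟶ 𝒳 ×_𝒵 𝒴` -/
theorem diag_pasteInner (P : MorphismProperty (Sp S)) {𝒰 : AlgSt.Cat S} (u : 𝒰 ⥤ᵇ 𝒳) (f : 𝒳 ⥤ᵇ 𝒵)
    (h : 𝒴 ⥤ᵇ 𝒵) (hu : AlgSt.RepByAlgSpWith P (diag u)) :
    AlgSt.RepByAlgSpWith P (diag (pasteInner u f h)) := by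
  have h1 : AlgSt.RepByAlgSpWith P (diag (fpFst (fpFst f h) u)) :=
    Groth.Agent.Helper6.AlgStDiag.repByAlgSpWith_diag_fpFst P u (fpFst f h) hu
  exact (diag_iff_of_square P (fpFst (fpFst f h) u) (pasteInner u f h)
    (BasedFunctor.comp (pasteLeft u f h) (fpSwap u (fpFst f h))) (BasedFunctor.id _)
    (isEquivOver_comp (isEquivOver_pasteLeft u f h) (isEquivOver_fpSwap _ _)) (isEquivOver_id _)
    (Iso.refl _)).1 h1

/-- the diagonal of `𝒳 ×_𝒵 𝒱 ⟶ 𝒳 ×_𝒵 𝒴` -/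
theorem diag_rightMap (P : MorphismProperty (Sp S)) {𝒱 : AlgSt.Cat S} (f : 𝒳 ⥤ᵇ 𝒵) (h : 𝒴 ⥤ᵇ 𝒵)
    (v : 𝒱 ⥤ᵇ 𝒴) (hv : AlgSt.RepByAlgSpWith P (diag v)) :
    AlgSt.RepByAlgSpWith P (diag (rightMap f h v)) :=
  (diag_iff_of_square P (pasteInner v h f) (rightMap f h v) (fpSwap f (BasedFunctor.comp v h))
    (fpSwap f h) (isEquivOver_fpSwap _ _) (isEquivOver_fpSwap _ _) (Iso.refl _)).1
    (diag_pasteInner P v h f hv)

/-- S17274 for a general good covering notion -/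
theorem diag_fpMap {τ : CovNotion S} (hτ : Groth.Agent.Helper6.TauLib.GoodCov τ)
    (h𝒳 : IsFibGrpd 𝒳.p) (h𝒳' : IsFibGrpd 𝒳'.p) (h𝒴 : IsFibGrpd 𝒴.p) (h𝒴' : IsFibGrpd 𝒴'.p)
    (h𝒵 : IsFibGrpd 𝒵.p)
    (P : MorphismProperty (Sp S))
    (hPc : ∀ ⦃X Y Z : Sp S⦄, IsAlgSpace X → IsAlgSpace Y → IsAlgSpace Z →
      ∀ (a : X ⟶ Y) (b : Y ⟶ Z), P a → P b → P (a ≫ b))
    (hP : IsLocalOnBase τ P)
    (p' : 𝒳' ⥤ᵇ 𝒵) (q' : 𝒴' ⥤ᵇ 𝒵) (f : 𝒳 ⥤ᵇ 𝒳') (g : 𝒴 ⥤ᵇ 𝒴')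
    (e : BasedFunctor.comp (BasedFunctor.comp (fpFst (BasedFunctor.comp f p') (BasedFunctor.comp g q')) f) p' ≅
      BasedFunctor.comp (BasedFunctor.comp (fpSnd (BasedFunctor.comp f p') (BasedFunctor.comp g q')) g) q')
    (he : ∀ x, e.hom.toNatTrans.app x = x.obj.iso.hom)
    (hf : AlgSt.RepByAlgSpWith P (diag f)) (hg : AlgSt.RepByAlgSpWith P (diag g)) :
    AlgSt.RepByAlgSpWith P (diag
      (fpLift (BasedFunctor.comp (fpFst (BasedFunctor.comp f p') (BasedFunctor.comp g q')) f)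
        (BasedFunctor.comp (fpSnd (BasedFunctor.comp f p') (BasedFunctor.comp g q')) g) e)) := by
  let A := pasteInner f p' (BasedFunctor.comp g q')
  let B := rightMap p' q' g
  have hA : AlgSt.RepByAlgSpWith P (diag A) := diag_pasteInner P f p' _ hf
  have hB : AlgSt.RepByAlgSpWith P (diag B) := diag_rightMap P p' q' g hg
  have hAB : AlgSt.RepByAlgSpWith P (diag (BasedFunctor.comp A B)) :=
    Groth.Agent.Helper6.TauLib.repByAlgSpWith_diag_comp hτ (isFibGrpd_fp _ _ h𝒳 h𝒴 h𝒵)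
      (isFibGrpd_fp _ _ h𝒳' h𝒴 h𝒵) P hPc hP A B hA hB
  have ι : fpLift (BasedFunctor.comp (fpFst (BasedFunctor.comp f p') (BasedFunctor.comp g q')) f)
      (BasedFunctor.comp (fpSnd (BasedFunctor.comp f p') (BasedFunctor.comp g q')) g) e ≅
      BasedFunctor.comp A B :=
    isoOfProjW _ _ (Iso.refl _) (Iso.refl _) (fun a => by
      change p'.map (𝟙 _) ≫ a.obj.iso.hom = e.hom.toNatTrans.app a ≫ q'.map (𝟙 _)
      rw [he]
      exact (congrArg (fun m => m ≫ a.obj.iso.hom) (p'.toFunctor.map_id _)).trans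
        ((Category.id_comp _).trans ((Category.comp_id _).symm.trans
          (congrArg (fun m => a.obj.iso.hom ≫ m) (q'.toFunctor.map_id _)).symm)))
  exact (diag_iff_of_square P (BasedFunctor.comp A B)
    (fpLift (BasedFunctor.comp (fpFst (BasedFunctor.comp f p') (BasedFunctor.comp g q')) f)
      (BasedFunctor.comp (fpSnd (BasedFunctor.comp f p') (BasedFunctor.comp g q')) g) e)
    (BasedFunctor.id _) (BasedFunctor.id _)
    (isEquivOver_id _) (isEquivOver_id _) ι).1 hAB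

end AlgStPart

end Groth.Agent.Helper6.DiagFpMap
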