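import Mathlib
import Groth.Agent.Helper5.FpqcLocP
import Groth.Agent.Helper6.LocalFppf

/-!
# Helper6: quasi-finite ring maps codescend along faithfully flat maps; locally quasi-finite
morphisms of algebraic spaces are fpqc local on the base
-/

set_option autoImplicit false
set_option linter.style.haveILetI false
set_option linter.unusedVariables false
universe u

namespace Groth.Agent.Helper6.LqfDescent
open CategoryTheory AlgebraicGeometry TensorProduct

theorem quasiFinite_of_faithfullyFlat {R S T : Type u} [CommRing R] [CommRing S] [CommRing T]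
    [Algebra R S] [Algebra R T] [Module.FaithfullyFlat R S]
    [Algebra.QuasiFinite S (S ⊗[R] T)] : Algebra.QuasiFinite R T := by
  refine ⟨fun P hP => ?_⟩
  obtain ⟨⟨Q, hQ⟩, hQP⟩ := PrimeSpectrum.comap_surjective_of_faithfullyFlat (A := R) (B := S) ⟨P, hP⟩
  have hQP' : Q.under R = P := congrArg PrimeSpectrum.asIdeal hQP
  haveI : Q.LiesOver P := ⟨hQP'.symm⟩
  let := Localization.AtPrime.algebraOfLiesOver P Q
  let e : Q.Fiber (S ⊗[R] T) ≃ₐ[Q.ResidueField] Q.ResidueField ⊗[P.ResidueField] (P.Fiber T) :=
    (Algebra.TensorProduct.cancelBaseChange _ _ _ _ _).trans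
      (Algebra.TensorProduct.cancelBaseChange _ _ _ _ _).symm
  haveI : Module.Finite Q.ResidueField (Q.ResidueField ⊗[P.ResidueField] (P.Fiber T)) :=
    .of_surjective e.toLinearMap e.surjective
  exact Module.Finite.of_finite_tensorProduct_of_faithfullyFlat Q.ResidueField

theorem codescendsAlong_faithfullyFlat :
    RingHom.CodescendsAlong RingHom.QuasiFinite RingHom.FaithfullyFlat := by
  refine .mk _ RingHom.QuasiFinite.respectsIso fun R S T _ _ _ _ _ h h' ↦ ?_
  rw [RingHom.quasiFinite_algebraMap] at h' ⊢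
  rw [RingHom.faithfullyFlat_algebraMap_iff] at h
  exact quasiFinite_of_faithfullyFlat (S := S)

instance : MorphismProperty.DescendsAlong @LocallyQuasiFinite
    (@Surjective ⊓ @Flat ⊓ @QuasiCompact) :=
  HasRingHomProperty.descendsAlong_flat codescendsAlong_faithfullyFlat

open AlgSp Groth.Agent.Helper4.SDClasses

variable (S : Scheme.{u})

set_option backward.isDefEq.respectTransparency.types false in
theorem lqf_fpqc : IsLocalOnBase (IsFpqcCover (S := S))
    (LocP (@LocallyQuasiFinite ⊓ @LocallyOfFiniteType)) :=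
  Groth.Agent.Helper5.FpqcLocP.isLocalOnBase_locP _ good_lqf

theorem lqf_qc_fpqc : IsLocalOnBase (IsFpqcCover (S := S))
    (fun _ _ f => LocP (@LocallyQuasiFinite ⊓ @LocallyOfFiniteType) f ∧ IsQuasiCompactMor f) :=
  Groth.Agent.Helper6.LocalFppf.inf (lqf_fpqc S) (Groth.Agent.S10519.result S)

theorem lqf_fppf : IsLocalOnBase (IsFppfCover (S := S))
    (LocP (@LocallyQuasiFinite ⊓ @LocallyOfFiniteType)) :=
  Groth.Agent.Helper6.LocalFppf.fppf_of_fpqc (lqf_fpqc S)

end Groth.Agent.Helper6.LqfDescent
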