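import Mathlib
import Groth.Agent.Helper6.LqfDescent
import Groth.Agent.Helper6.SpAtlas

/-!
# Helper6: locally quasi-finite diagonals (quasi-DM morphisms)
-/

set_option autoImplicit false
set_option linter.style.haveILetI false
set_option linter.unusedVariables false
universe u

namespace Groth.Agent.Helper6.DiagLqf
open CategoryTheory Functor FibCat Limits AlgebraicGeometry Opposite
open Groth.Agent.Helper3 Groth.Agent.Helper6.FpTools
open Groth.Agent.Helper6.DiagRep AlgSp Groth.Agent.Helper4.SDClasses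

theorem lqf_of_unram {X Y : Scheme.{u}} (g : X ⟶ Y) [LocallyOfFiniteType g] [FormallyUnramified g] :
    LocallyQuasiFinite g := by
  rw [locallyQuasiFinite_iff]
  intro U hU V hV e
  have h1 : (g.appLE U V e).hom.FiniteType :=
    HasRingHomProperty.appLE @LocallyOfFiniteType g inferInstance ⟨U, hU⟩ ⟨V, hV⟩ e
  have h2 : (g.appLE U V e).hom.FormallyUnramified :=
    HasRingHomProperty.appLE @FormallyUnramified g inferInstance ⟨U, hU⟩ ⟨V, hV⟩ e
  algebraize [(g.appLE U V e).hom]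
  rw [← (g.appLE U V e).hom.algebraMap_toAlgebra, RingHom.quasiFinite_algebraMap]
  infer_instance

variable {S : Scheme.{u}}

theorem unram_le_lqf : (AlgSp.LocP (@LocallyOfFiniteType ⊓ @FormallyUnramified) :
    MorphismProperty (AlgSp.Sp S)) ≤ AlgSp.LocP (@LocallyQuasiFinite ⊓ @LocallyOfFiniteType) :=
  fun X Y f hf => Groth.Agent.Helper5.SrcEt.locP_mono (fun g hg => by
    haveI : LocallyOfFiniteType g := hg.1
    haveI : FormallyUnramified g := hg.2
    exact ⟨lqf_of_unram g, hg.1⟩) f hf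

theorem lqf_comp : ∀ ⦃X Y Z : AlgSp.Sp S⦄, AlgSp.IsAlgSpace X → AlgSp.IsAlgSpace Y →
    AlgSp.IsAlgSpace Z → ∀ (a : X ⟶ Y) (b : Y ⟶ Z),
      AlgSp.LocP (@LocallyQuasiFinite ⊓ @LocallyOfFiniteType) a →
      AlgSp.LocP (@LocallyQuasiFinite ⊓ @LocallyOfFiniteType) b →
      AlgSp.LocP (@LocallyQuasiFinite ⊓ @LocallyOfFiniteType) (a ≫ b) :=
  Groth.Agent.Helper6.SpAtlas.locP_comp' _ good_lqf

/-- a functor representable by algebraic spaces is quasi-DM -/
theorem isQuasiDMMor {𝒳 𝒴 : AlgSt.Cat S} (f : 𝒳 ⥤ᵇ 𝒴) (hf : AlgSt.RepByAlgSp1 f) :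
    AlgSt.IsQuasiDMMor f :=
  Groth.Agent.Helper6.ToSpace.repByAlgSpWith_mono unram_le_lqf (isDMMor f hf)

end Groth.Agent.Helper6.DiagLqf
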