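import Mathlib
import Groth.Agent.Helper6.UnivInj
import Groth.Agent.Helper4.AlgSpGeomPt

/-!
# Helper6: surjectivity of the diagonal and lifting of isomorphisms over algebraically closed fields
-/

set_option autoImplicit false
set_option linter.style.haveILetI false
set_option linter.unusedVariables false
universe u

namespace Groth.Agent.Helper6.DiagSurj
open CategoryTheory Functor FibCat Limits AlgebraicGeometry Opposite
open Groth.Agent.Helper3 Stk Groth.Agent.Helper6.OfPsh Groth.Agent.Helper6.OfPshHom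
open Groth.Agent.Helper6.FpTools Groth.Agent.Helper6.OfPshFp Groth.Agent.Helper6.AlgStRep
open Groth.Agent.Helper6.AlgStEquiv Groth.Agent.Helper6.AlgStInv Groth.Agent.Helper6.AlgStPsh
open Groth.Agent.Helper6.DiagRed Groth.Agent.Helper6.RepDiag Groth.Agent.Helper6.RepComp
open Groth.Agent.Helper6.DiagRep Groth.Agent.Helper6.AlgStPts Groth.Agent.Helper6.StPts
open Groth.Agent.Helper6.SmLoc Groth.Agent.Helper6.ChartOver Groth.Agent.Helper6.StTop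
open Groth.Agent.Helper6.QcMor2 Groth.Agent.Helper6.SpAtlas Groth.Agent.Helper4.SDClasses
open Groth.Agent.Helper6.Descent1 Groth.Agent.Helper6.Descent2 Groth.Agent.Helper6.LocQ0
open Groth.Agent.Helper6.LocQ1 Groth.Agent.Helper6.LocQ2 Groth.Agent.Helper6.AlgStBC
open Groth.Agent.Helper6.OverRep Groth.Agent.Helper6.LocQ3 Groth.Agent.Helper6.LocQ4
open Groth.Agent.Helper6.FlatST Groth.Agent.Helper6.DiagLft Groth.Agent.Helper6.ToSpace
open Groth.Agent.Helper6.LocQ5 Groth.Agent.Helper6.UnivInj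
open AlgSp


variable {S : Scheme.{u}} {𝒳 𝒴 : AlgSt.Cat S}

set_option backward.isDefEq.respectTransparency.types false in
/-- a nonempty algebraic space locally of finite type over an algebraically closed field has a
rational point -/
theorem exists_obj_over_id {k : Type u} [Field k] [IsAlgClosed k]
    (s : Spec (CommRingCat.of k) ⟶ S) {𝒲 : AlgSt.Cat S} (φ : 𝒲 ⥤ᵇ overCat (Over.mk s))
    (F : AlgSp.Space S) (e : AlgSt.ofSp F.obj ⥤ᵇ 𝒲) (he : IsEquivOver e)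
    (hlft : LocP @LocallyOfFiniteType (AlgSt.spMapOfOver (BasedFunctor.comp e φ)))
    (hne : Nonempty (AlgSt.Points 𝒲)) :
    ∃ t : 𝒲.obj, Nonempty (φ.obj t ≅ Over.mk (𝟙 (Over.mk s))) := by
  let U : Over S := Over.mk s
  obtain ⟨c, ⟨θ⟩⟩ := exists_ofSpMap_iso (BasedFunctor.comp e φ)
  rw [spMapOfOver_congr θ, spMapOfOver_ofSpMap_toOverCat] at hlft
  obtain ⟨W, p, hpe, hps⟩ := F.property.atlas
  obtain ⟨h, hh⟩ := (yon S).map_surjective (p ≫ c)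
  haveI hlfth : LocallyOfFiniteType h.left :=
    hlft p (𝟙 _) h hpe (repWith_id _ U) (by rw [hh, Category.comp_id])
  haveI : Nonempty ↥W.left := by
    obtain ⟨q⟩ := hne
    obtain ⟨q', -⟩ := points_map_surjective_of_isEquivOver e he q
    obtain ⟨r, -⟩ := sigma_surjective F.obj q'
    obtain ⟨r', -⟩ := Groth.Agent.Helper4.AlgSpPts.isSurjectiveMor_of_repWith p hps r
    exact ⟨(AlgSp.Points.schemeEquiv W).symm r'⟩
  obtain ⟨σ, hσ⟩ := Groth.Agent.Helper4.AlgSpGeomPt.exists_section_of_lft_over_algClosed h.left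
  have hw : h.left ≫ U.hom = W.hom := Over.w h
  have hσ' : σ ≫ W.hom = U.hom := by
    rw [← hw, ← Category.assoc, hσ]
    exact Category.id_comp _
  let σ' : U ⟶ W := Over.homMk σ hσ'
  have hσh : σ' ≫ h = 𝟙 U := by
    apply Over.OverMorphism.ext
    exact hσ
  have κ : BasedFunctor.comp (atlasChart p) (BasedFunctor.comp e φ) ≅ AlgSt.overMap h :=
    whiskerLeftIso' (atlasChart p) θ ≪≫ whiskerLeftIso' (AlgSt.ofOverCat _)
      (whiskerRightIso' (eqToIso (congrArg AlgSt.ofSpMap hh.symm)) (AlgSt.toOverCat U))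
  let a : Over W := (AlgSt.overMap σ').obj (Over.mk (𝟙 U))
  refine ⟨e.obj ((atlasChart p).obj a), ⟨appIso κ a ≪≫ ?_⟩⟩
  exact Over.isoMk (Iso.refl _) (by
    change 𝟙 _ ≫ 𝟙 U = (𝟙 U ≫ σ') ≫ h
    rw [Category.id_comp, Category.id_comp, hσh])

set_option backward.isDefEq.respectTransparency.types false in
/-- S12832, forward direction -/
theorem lift_hom_of_isSurjective_diag (h𝒳 : AlgSt.IsAlgStack Scheme.fppfPrecoverage 𝒳)
    (h𝒴 : AlgSt.IsAlgStack Scheme.fppfPrecoverage 𝒴) (f : 𝒳 ⥤ᵇ 𝒴)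
    (hΔ : AlgSt.IsSurjective (FibCat.diag f))
    (k : Type u) [Field k] [IsAlgClosed k] (s : Spec (CommRingCat.of k) ⟶ S) (a₁ a₂ : 𝒳.obj)
    (h₁ : 𝒳.p.obj a₁ = Over.mk s) (h₂ : 𝒳.p.obj a₂ = Over.mk s) (β : f.obj a₁ ⟶ f.obj a₂)
    (hβ : 𝒴.p.IsHomLift (𝟙 (Over.mk s)) β) :
    ∃ α : a₁ ⟶ a₂, 𝒳.p.IsHomLift (𝟙 (Over.mk s)) α ∧ f.map α = β := by
  have hX : IsFibGrpd 𝒳.p := h𝒳.isStack.1
  have hY : IsFibGrpd 𝒴.p := h𝒴.isStack.1
  let U : Over S := Over.mk s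
  haveI := hβ
  haveI : IsIso β := FibGrpd.isIso_of_lift_id hY (U := U) β
  have hβ' : 𝒴.p.IsHomLift (𝟙 (𝒳.p.obj a₁)) β := lift_id_transport h₁.symm _ hβ
  let w₀ : (fp f f).obj := ⟨⟨a₁, a₂, asIso β⟩, hβ'⟩
  have hw₀ : (fp f f).p.obj w₀ = U := h₁
  have hfp : IsFibGrpd (fp f f).p := isFibGrpd_fp f f hX hX hY
  haveI := TwoYoneda.evalAtId_isEquivalence_of_isFibGrpd (𝒳 := fp f f) U hfp
  obtain ⟨Wc, ⟨j⟩⟩ := Functor.EssSurj.mem_essImage (F := FibCat.evalAtId (fp f f) U) ⟨w₀, hw₀⟩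
  let j' : Wc.obj (Over.mk (𝟙 U)) ≅ w₀ := (Functor.Fiber.fiberInclusion).mapIso j
  obtain ⟨F, e, he, hF⟩ := lft_diag h𝒳 h𝒴 f U Wc
  obtain ⟨x₀⟩ : Nonempty (Spec (CommRingCat.of k)) := inferInstance
  obtain ⟨q, hq⟩ := hΔ (AlgSt.Points.map Wc (chartPt U x₀))
  obtain ⟨pt, -, -⟩ := exists_points_fp hX hfp (isFibGrpd_overCat U) (diag f) Wc (chartPt U x₀) q
    hq.symm
  obtain ⟨t, ⟨γ⟩⟩ := exists_obj_over_id s (fpFst Wc (diag f)) F e he hF ⟨pt⟩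
  let x : 𝒳.obj := t.obj.snd
  let ιt : Wc.obj t.obj.fst ≅ (diag f).obj x := t.obj.iso
  let Λ : (diag f).obj x ≅ w₀ := ιt.symm ≪≫ Wc.toFunctor.mapIso γ ≪≫ j'
  let u₁' : a₁ ⟶ x := Λ.inv.hom.fst
  let u₁ : x ⟶ a₁ := Λ.hom.hom.fst
  let u₂ : x ⟶ a₂ := Λ.hom.hom.snd
  have hw : f.map u₁ ≫ β = 𝟙 _ ≫ f.map u₂ := Λ.hom.hom.w
  have hinv : u₁' ≫ u₁ = 𝟙 a₁ := congrArg (fun m => m.hom.fst) Λ.inv_hom_id
  refine ⟨u₁' ≫ u₂, ?_, ?_⟩
  · haveI l1 : 𝒳.p.IsHomLift ((fp f f).p.map Λ.inv) u₁' :=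
      Functor.IsHomLift.map (p := 𝒳.p) u₁'
    haveI l2 : 𝒳.p.IsHomLift ((fp f f).p.map Λ.hom) u₂ := fp_isHomLift_snd f f Λ.hom
    have l3 : 𝒳.p.IsHomLift ((fp f f).p.map Λ.inv ≫ (fp f f).p.map Λ.hom) (u₁' ≫ u₂) :=
      inferInstance
    rw [← Functor.map_comp, Iso.inv_hom_id] at l3
    have e0 : (fp f f).p.map (𝟙 w₀) = 𝟙 _ := (fp f f).p.map_id w₀
    rw [e0] at l3
    exact lift_id_transport h₁ _ l3
  · rw [f.map_comp]
    have : f.map u₂ = f.map u₁ ≫ β := by rw [hw, Category.id_comp]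
    rw [this, ← Category.assoc, ← f.map_comp, hinv]
    exact (congrArg (fun m => m ≫ β) (f.toFunctor.map_id a₁)).trans (Category.id_comp β)

set_option backward.isDefEq.respectTransparency.types false in
/-- S12832, backward direction -/
theorem isSurjective_diag_of_lift_hom (h𝒳 : AlgSt.IsAlgStack Scheme.fppfPrecoverage 𝒳)
    (h𝒴 : AlgSt.IsAlgStack Scheme.fppfPrecoverage 𝒴) (f : 𝒳 ⥤ᵇ 𝒴)
    (H : ∀ (k : Type u) [Field k] [IsAlgClosed k] (s : Spec (CommRingCat.of k) ⟶ S) (a₁ a₂ : 𝒳.obj)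
        (_ : 𝒳.p.obj a₁ = Over.mk s) (_ : 𝒳.p.obj a₂ = Over.mk s) (β : f.obj a₁ ⟶ f.obj a₂),
        𝒴.p.IsHomLift (𝟙 (Over.mk s)) β →
          ∃ α : a₁ ⟶ a₂, 𝒳.p.IsHomLift (𝟙 (Over.mk s)) α ∧ f.map α = β) :
    AlgSt.IsSurjective (FibCat.diag f) := by
  have hX : IsFibGrpd 𝒳.p := h𝒳.isStack.1
  have hY : IsFibGrpd 𝒴.p := h𝒴.isStack.1
  have hfp : IsFibGrpd (fp f f).p := isFibGrpd_fp f f hX hX hY
  intro w
  obtain ⟨P, rfl⟩ := AlgSt.Points.mk_surjective w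
  let k : Type u := AlgebraicClosure P.K
  let ρ : Spec (CommRingCat.of k) ⟶ Spec (CommRingCat.of P.K) :=
    Spec.map (CommRingCat.ofHom (algebraMap P.K k))
  let αo : Over.mk (ρ ≫ P.str) ⟶ Over.mk P.str := Over.homMk ρ rfl
  obtain ⟨P', e, he⟩ := FibGrpd.exists_lift' hfp P.lies αo
  haveI := he
  have hP' : (fp f f).p.obj P' = Over.mk (ρ ≫ P.str) := IsHomLift.domain_eq (fp f f).p αo e
  have h1 : 𝒳.p.obj P'.obj.fst = Over.mk (ρ ≫ P.str) := hP'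
  have h2 : 𝒳.p.obj P'.obj.snd = Over.mk (ρ ≫ P.str) := (Fp.snd_obj_eq f f P').trans hP'
  have hι : 𝒴.p.IsHomLift (𝟙 (𝒳.p.obj P'.obj.fst)) P'.obj.iso.hom := P'.property
  obtain ⟨α, hα, hfα⟩ := H k (ρ ≫ P.str) P'.obj.fst P'.obj.snd h1 h2 P'.obj.iso.hom
    (lift_id_transport h1 _ hι)
  let m : (diag f).obj P'.obj.fst ⟶ P' :=
    ObjectProperty.homMk
      { fst := 𝟙 _
        snd := α
        w := by
          change f.map (𝟙 _) ≫ P'.obj.iso.hom = 𝟙 _ ≫ f.map α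
          rw [hfα, Category.id_comp]
          exact (congrArg (fun m => m ≫ P'.obj.iso.hom) (f.toFunctor.map_id _)).trans
            (Category.id_comp _) }
  let Q : AlgSt.FPt 𝒳 := ⟨k, ρ ≫ P.str, P'.obj.fst, h1⟩
  refine ⟨AlgSt.Points.mk Q, ?_⟩
  rw [AlgSt.Points.map_mk]
  apply AlgSt.Points.sound
  exact ⟨Q.map (diag f), 𝟙 _, m ≫ e, trivial⟩

end Groth.Agent.Helper6.DiagSurj
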