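import Groth.Prelude.Def_GLin
import Groth.Agent.Helper6.Laur

set_option autoImplicit false
universe u
open LaurentPolynomial Polynomial
open scoped TensorProduct

namespace Groth.Agent.Helper6.MuOrbit

open GLin Groth.Agent.Helper6.Laur

section Counit
variable {k : Type u} [Field k] {A : Type u} [CommRing A] [Bialgebra k A]
  {R : Type u} [CommRing R] [Algebra k R] [HopfRep.Comod k A R] [IsCoactAlg k A R]

theorem counit_orbitHom (x : R →ₐ[k] k) (f : R) :
    Coalgebra.counit (R := k) (orbitHom k A x f) = x f := by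
  have key : (Coalgebra.counit (R := k) (A := A)) ∘ₗ (Algebra.TensorProduct.lid k A).toLinearMap ∘ₗ
      (Algebra.TensorProduct.map x (AlgHom.id k A)).toLinearMap =
      (x.toLinearMap ∘ₗ (TensorProduct.rid k R).toLinearMap) ∘ₗ
        (Coalgebra.counit (R := k) (A := A)).lTensor R := by
    apply TensorProduct.ext'
    intro r a
    simp [Algebra.smul_def, mul_comm]
  have h1 := LinearMap.congr_fun key (HopfRep.Comod.coact (k := k) (A := A) f)
  have h2 := LinearMap.congr_fun (HopfRep.Comod.counit_comp (k := k) (A := A) (V := R)) f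
  simp only [LinearMap.comp_apply] at h1 h2
  change Coalgebra.counit (R := k) ((Algebra.TensorProduct.lid k A)
    ((Algebra.TensorProduct.map x (AlgHom.id k A)) (HopfRep.Comod.coact (k := k) (A := A) f))) = _
  refine h1.trans ?_
  rw [h2]
  simp

theorem counit_lamOrbit (lam : A →ₐc[k] k[T;T⁻¹]) (x : R →ₐ[k] k) (f : R) :
    Coalgebra.counit (R := k) (lamOrbit k A lam x f) = x f := by
  change Coalgebra.counit (R := k) (lam (orbitHom k A x f)) = _
  rw [CoalgHomClass.counit_comp_apply, counit_orbitHom]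

end Counit

section Main
variable {k : Type u} [Field k] {A : Type u} [CommRing A] [Bialgebra k A]
  {ι : Type u} [Fintype ι] [HopfRep.Comod k A (MvPolynomial ι k)] [GLin.IsCoactAlg k A (MvPolynomial ι k)]
  (lam : A →ₐc[k] k[T;T⁻¹]) (v : ι → k)

/-- the coordinates of the orbit -/
noncomputable def cc (i : ι) : k[T;T⁻¹] := lamOrbit k A lam (vecPt k ι v) (MvPolynomial.X i)

theorem lamOrbit_eq : lamOrbit k A lam (vecPt k ι v) = MvPolynomial.aeval (cc lam v) := by
  apply MvPolynomial.algHom_ext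
  intro i
  rw [MvPolynomial.aeval_X]
  rfl

theorem isMu_iff (m : ℤ) : IsMu k A lam v m ↔ Mu (cc lam v) m := Iff.rfl

theorem cc_ne (hv : v ≠ 0) : ∃ i, cc lam v i ≠ 0 := by
  by_contra hcon
  push Not at hcon
  apply hv
  funext i
  have h := counit_lamOrbit lam (vecPt k ι v) (MvPolynomial.X i)
  change Coalgebra.counit (R := k) (cc lam v i) = _ at h
  rw [hcon i, map_zero] at h
  rw [vecPt, MvPolynomial.aeval_X] at h
  exact h.symm

theorem existsUnique_isMu (hv : v ≠ 0) : ∃! m : ℤ, IsMu k A lam v m := by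
  have hne := Supp_nonempty (cc lam v) (cc_ne lam v hv)
  refine ⟨-((Supp (cc lam v)).min' hne), ?_, ?_⟩
  · change IsMu k A lam v _
    rw [isMu_iff, mu_iff_min _ hne, neg_neg]
  · intro m hm
    rw [isMu_iff, mu_iff_min _ hne] at hm
    omega

theorem trichotomy (hv : v ≠ 0) :
    (¬ GLin.HasLimit k A lam (GLin.vecPt k ι v) ↔ ∃ m : ℤ, GLin.IsMu k A lam v m ∧ 0 < m) ∧
      ((GLin.HasLimit k A lam (GLin.vecPt k ι v) ∧
          ¬ GLin.IsLimit k A lam (GLin.vecPt k ι v) (GLin.vecPt k ι (fun _ => (0 : k)))) ↔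
        GLin.IsMu k A lam v 0) ∧
      (GLin.IsLimit k A lam (GLin.vecPt k ι v) (GLin.vecPt k ι (fun _ => (0 : k))) ↔
        ∃ m : ℤ, GLin.IsMu k A lam v m ∧ m < 0) := by
  have hne := Supp_nonempty (cc lam v) (cc_ne lam v hv)
  have hH : GLin.HasLimit k A lam (GLin.vecPt k ι v) ↔ 0 ≤ (Supp (cc lam v)).min' hne := by
    rw [← ext_iff_min (cc lam v) hne, HasLimit, lamOrbit_eq]
  have hL : GLin.IsLimit k A lam (GLin.vecPt k ι v) (GLin.vecPt k ι (fun _ => (0 : k))) ↔
      0 < (Supp (cc lam v)).min' hne := by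
    rw [← lim_zero_iff_min (cc lam v) hne, IsLimit, lamOrbit_eq]
  refine ⟨?_, ?_, ?_⟩
  · rw [hH]
    constructor
    · intro h
      refine ⟨-((Supp (cc lam v)).min' hne), ?_, by omega⟩
      rw [isMu_iff, mu_iff_min _ hne, neg_neg]
    · rintro ⟨m, hm, hpos⟩
      rw [isMu_iff, mu_iff_min _ hne] at hm
      omega
  · rw [hH, hL, isMu_iff, mu_iff_min _ hne]
    constructor
    · intro h; omega
    · intro h; omega
  · rw [hL]
    constructor
    · intro h
      refine ⟨-((Supp (cc lam v)).min' hne), ?_, by omega⟩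
      rw [isMu_iff, mu_iff_min _ hne, neg_neg]
    · rintro ⟨m, hm, hneg⟩
      rw [isMu_iff, mu_iff_min _ hne] at hm
      omega

end Main

end Groth.Agent.Helper6.MuOrbit
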