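import Mathlib
import Groth.Prelude.Def_GLin
import Groth.Agent.Helper6.MuOrbit

set_option autoImplicit false
universe u
open LaurentPolynomial Polynomial
open scoped TensorProduct

namespace Groth.Agent.Helper6.DiagWt

open GLin Groth.Agent.Helper6.Laur Groth.Agent.Helper6.MuOrbit

section Matrix
variable {k : Type u} [Field k] {A : Type u} [CommRing A] [Bialgebra k A]
  {ι : Type u} [Fintype ι] [HopfRep.Comod k A (MvPolynomial ι k)]
  (M : ι → ι → A)
  (hM : ∀ i, HopfRep.Comod.coact (k := k) (A := A) (MvPolynomial.X i : MvPolynomial ι k) =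
    ∑ j, (MvPolynomial.X j : MvPolynomial ι k) ⊗ₜ[k] M i j)

/-- coefficient of `X l` -/
noncomputable def phi (l : ι) : MvPolynomial ι k →ₗ[k] k := MvPolynomial.lcoeff k (Finsupp.single l 1)

theorem phi_X [DecidableEq ι] (l l' : ι) :
    phi (k := k) l (MvPolynomial.X l') = if l' = l then 1 else 0 := by
  unfold phi
  rw [MvPolynomial.lcoeff_apply, MvPolynomial.coeff_X]
  congr 1
  apply propext
  constructor
  · intro h
    exact Finsupp.single_left_injective one_ne_zero h
  · intro h; rw [h]

include hM in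
theorem comul_M (i l : ι) :
    Coalgebra.comul (R := k) (M i l) = ∑ j, M j l ⊗ₜ[k] M i j := by
  classical
  have h := LinearMap.congr_fun (HopfRep.Comod.coassoc (k := k) (A := A) (V := MvPolynomial ι k))
    (MvPolynomial.X i)
  have h2 := congrArg (fun z => (TensorProduct.lid k (A ⊗[k] A))
    ((phi (k := k) l).rTensor (A ⊗[k] A) z)) h
  simp only [LinearMap.comp_apply, hM, map_sum, LinearMap.rTensor_tmul, LinearEquiv.coe_coe,
    TensorProduct.sum_tmul, TensorProduct.assoc_tmul, LinearMap.lTensor_tmul, phi_X,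
    TensorProduct.lid_tmul, ite_smul, one_smul, zero_smul, Finset.sum_ite_eq',
    Finset.mem_univ, if_true] at h2
  exact h2.symm

include hM in
theorem counit_M [DecidableEq ι] (i l : ι) :
    Coalgebra.counit (R := k) (M i l) = if i = l then 1 else 0 := by
  have h := LinearMap.congr_fun (HopfRep.Comod.counit_comp (k := k) (A := A)
    (V := MvPolynomial ι k)) (MvPolynomial.X i)
  have h2 := congrArg (fun z => (TensorProduct.lid k k)
    ((phi (k := k) l).rTensor k z)) h
  simp only [LinearMap.comp_apply, hM, map_sum, LinearMap.rTensor_tmul,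
    LinearMap.lTensor_tmul, phi_X, LinearMap.flip_apply, TensorProduct.mk_apply,
    TensorProduct.lid_tmul, smul_eq_mul, mul_one, ite_mul, one_mul, zero_mul, Finset.sum_ite_eq',
    Finset.mem_univ, if_true] at h2
  exact h2

variable [GLin.IsCoactAlg k A (MvPolynomial ι k)]

include hM in
theorem orbitHom_X (v : ι → k) (i : ι) :
    orbitHom k A (vecPt k ι v) (MvPolynomial.X i) = ∑ j, v j • M i j := by
  unfold orbitHom
  simp only [AlgHom.comp_apply, coactAlgHom_apply, hM, map_sum,
    Algebra.TensorProduct.map_tmul, vecPt, MvPolynomial.aeval_X,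
    AlgHom.coe_id, id_eq]
  apply Finset.sum_congr rfl
  intro j _
  exact Algebra.TensorProduct.lid_tmul _ _

include hM in
theorem cc_eq (lam : A →ₐc[k] k[T;T⁻¹]) (v : ι → k) (i : ι) :
    cc lam v i = ∑ j, v j • lam (M i j) := by
  unfold cc lamOrbit
  rw [AlgHom.comp_apply, orbitHom_X M hM, map_sum]
  apply Finset.sum_congr rfl
  intro j _
  rw [map_smul]
  rfl

end Matrix

section Basis
variable {k : Type u} [Field k] {A : Type u} [CommRing A] [Bialgebra k A]

variable (k A) in
/-- the set of group-like elements -/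
abbrev Grp : Set A := {a : A | IsGroupLikeElem k a}

/-- the basis of group-like elements of a diagonalizable bialgebra -/
noncomputable def glBasis (hdiag : HopfRep.IsDiagonalizable k A) : Module.Basis (Grp k A) k A :=
  Module.Basis.mk (v := fun a : Grp k A => (a : A)) linearIndepOn_isGroupLikeElem (by
    rw [Subtype.range_coe]
    exact hdiag.ge)

variable (hdiag : HopfRep.IsDiagonalizable k A)

theorem glBasis_apply (ψ : Grp k A) : glBasis hdiag ψ = (ψ : A) :=
  Module.Basis.mk_apply _ _ ψ

/-- coordinate functional -/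
noncomputable def c (ψ : Grp k A) : A →ₗ[k] k := (glBasis hdiag).coord ψ

theorem c_apply [DecidableEq (Grp k A)] (ψ ψ' : Grp k A) :
    c hdiag ψ (ψ' : A) = if ψ' = ψ then 1 else 0 := by
  unfold c
  rw [← glBasis_apply hdiag ψ', Module.Basis.coord_apply, Module.Basis.repr_self,
    Finsupp.single_apply]

/-- `(c α ⊗ c β) ∘ Δ = [α = β] c α` -/
theorem c_c_comul [DecidableEq (Grp k A)] (α β : Grp k A) (a : A) :
    (TensorProduct.lid k k) ((TensorProduct.map (c hdiag α) (c hdiag β))
      (Coalgebra.comul (R := k) a)) = if α = β then c hdiag α a else 0 := by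
  have : (TensorProduct.lid k k).toLinearMap ∘ₗ (TensorProduct.map (c hdiag α) (c hdiag β)) ∘ₗ
      (Coalgebra.comul (R := k) (A := A)) = if α = β then c hdiag α else 0 := by
    apply (glBasis hdiag).ext
    intro ψ
    rw [glBasis_apply]
    simp only [LinearMap.comp_apply, LinearEquiv.coe_coe]
    rw [ψ.2.comul_eq_tmul_self, TensorProduct.map_tmul, TensorProduct.lid_tmul, c_apply, c_apply,
      smul_eq_mul]
    by_cases h1 : ψ = α
    · subst h1
      by_cases h2 : ψ = β
      · subst h2
        simp [c_apply]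
      · rw [if_neg h2, if_neg h2]
        simp
    · rw [if_neg h1]
      split_ifs <;> simp [c_apply, h1]
  have h2 := LinearMap.congr_fun this a
  simp only [LinearMap.comp_apply, LinearEquiv.coe_coe] at h2
  rw [h2]
  split_ifs <;> rfl

theorem counit_eq_sum (a : A) :
    Coalgebra.counit (R := k) a = ∑ ψ ∈ ((glBasis hdiag).repr a).support, c hdiag ψ a := by
  conv_lhs => rw [← (glBasis hdiag).linearCombination_repr a, Finsupp.linearCombination_apply,
    Finsupp.sum, map_sum]
  apply Finset.sum_congr rfl
  intro ψ _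
  rw [map_smul, glBasis_apply, ψ.2.counit_eq_one, smul_eq_mul, mul_one]
  rfl

theorem eq_sum_c (a : A) :
    a = ∑ ψ ∈ ((glBasis hdiag).repr a).support, c hdiag ψ a • (ψ : A) := by
  conv_lhs => rw [← (glBasis hdiag).linearCombination_repr a, Finsupp.linearCombination_apply,
    Finsupp.sum]
  apply Finset.sum_congr rfl
  intro ψ _
  rw [glBasis_apply]
  rfl

theorem c_eq_zero_of_notMem (a : A) (ψ : Grp k A) (h : ψ ∉ ((glBasis hdiag).repr a).support) :
    c hdiag ψ a = 0 := by
  rw [Finsupp.notMem_support_iff] at h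
  exact h

end Basis

section Main
variable {k : Type u} [Field k] {A : Type u} [CommRing A] [Bialgebra k A]
  {ι : Type u} [Fintype ι] [HopfRep.Comod k A (MvPolynomial ι k)]
  (hdiag : HopfRep.IsDiagonalizable k A)
  (M : ι → ι → A)
  (hM : ∀ i, HopfRep.Comod.coact (k := k) (A := A) (MvPolynomial.X i : MvPolynomial ι k) =
    ∑ j, (MvPolynomial.X j : MvPolynomial ι k) ⊗ₜ[k] M i j)

/-- coefficient matrices of the weight decomposition -/
noncomputable def Pm (ψ : Grp k A) : Matrix ι ι k := fun i j => c hdiag ψ (M i j)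

include hM in
theorem Pm_mul [DecidableEq (Grp k A)] (α β : Grp k A) :
    Pm hdiag M β * Pm hdiag M α = if α = β then Pm hdiag M α else 0 := by
  ext i l
  rw [Matrix.mul_apply]
  have h := c_c_comul hdiag α β (M i l)
  rw [comul_M M hM, map_sum, map_sum] at h
  simp only [TensorProduct.map_tmul, TensorProduct.lid_tmul, smul_eq_mul] at h
  split_ifs with hab
  · rw [if_pos hab] at h
    refine Eq.trans ?_ h
    apply Finset.sum_congr rfl
    intro j _
    exact mul_comm _ _
  · rw [if_neg hab] at h
    rw [Matrix.zero_apply]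
    refine Eq.trans ?_ h
    apply Finset.sum_congr rfl
    intro j _
    exact mul_comm _ _

include hM in
theorem Pm_sum [DecidableEq ι] (S : Finset (Grp k A))
    (hS : ∀ i l, ((glBasis hdiag).repr (M i l)).support ⊆ S) :
    ∑ ψ ∈ S, Pm hdiag M ψ = 1 := by
  ext i l
  rw [Matrix.sum_apply, Matrix.one_apply, ← counit_M M hM i l, counit_eq_sum hdiag (M i l)]
  symm
  apply Finset.sum_subset (hS i l)
  intro ψ _ hψ
  exact c_eq_zero_of_notMem hdiag _ ψ hψ

variable [GLin.IsCoactAlg k A (MvPolynomial ι k)]

include hM in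
theorem cc_eq_sum (S : Finset (Grp k A))
    (hS : ∀ i l, ((glBasis hdiag).repr (M i l)).support ⊆ S)
    (lam : A →ₐc[k] k[T;T⁻¹]) (v : ι → k) (i : ι) :
    cc lam v i = ∑ ψ ∈ S, (Matrix.mulVec (Pm hdiag M ψ) v i) • lam (ψ : A) := by
  rw [cc_eq M hM]
  have h1 : ∀ j, lam (M i j) = ∑ ψ ∈ S, Pm hdiag M ψ i j • lam (ψ : A) := by
    intro j
    conv_lhs => rw [eq_sum_c hdiag (M i j)]
    rw [map_sum]
    rw [Finset.sum_subset (hS i j)]
    · apply Finset.sum_congr rfl
      intro ψ _
      rw [map_smul]
      rfl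
    · intro ψ _ hψ
      rw [c_eq_zero_of_notMem hdiag _ ψ hψ, zero_smul, map_zero]
  simp only [h1, Finset.smul_sum, smul_smul]
  rw [Finset.sum_comm]
  apply Finset.sum_congr rfl
  intro ψ _
  rw [Matrix.mulVec, dotProduct, Finset.sum_smul]
  apply Finset.sum_congr rfl
  intro j _
  rw [mul_comm]

theorem coeff_sum_smul_T {J : Type*} [Fintype J] (a : J → k) (e : J → ℤ) (n : ℤ) :
    (∑ j, a j • (T (e j) : k[T;T⁻¹])).coeff n = ∑ j, if e j = n then a j else 0 := by
  rw [AddMonoidAlgebra.coeff_sum, Finsupp.finsetSum_apply]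
  apply Finset.sum_congr rfl
  intro j _
  rw [AddMonoidAlgebra.coeff_smul, Finsupp.smul_apply]
  change a j • (Finsupp.single (e j) (1 : k)) n = _
  rw [Finsupp.single_apply]
  split_ifs <;> simp

include hdiag hM in
theorem main_aux :
    ∃ (N : ℕ) (χ : Fin N → A), (∀ j, IsGroupLikeElem k (χ j)) ∧
      ∀ v : ι → k, v ≠ 0 → ∃ I : Finset (Fin N), I.Nonempty ∧
        ∀ (lam : A →ₐc[k] k[T;T⁻¹]) (e : Fin N → ℤ), (∀ j, lam (χ j) = LaurentPolynomial.T (e j)) →
          ∀ m : ℤ, GLin.IsMu k A lam v m ↔ ((∀ j ∈ I, -e j ≤ m) ∧ ∃ j ∈ I, m = -e j) := by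
  classical
  let S : Finset (Grp k A) := Finset.univ.biUnion (fun i => Finset.univ.biUnion (fun l =>
    ((glBasis hdiag).repr (M i l)).support))
  have hS : ∀ i l, ((glBasis hdiag).repr (M i l)).support ⊆ S := by
    intro i l ψ hψ
    simp only [S, Finset.mem_biUnion, Finset.mem_univ, true_and]
    exact ⟨i, l, hψ⟩
  let σ := S.equivFin
  let ψf : Fin S.card → Grp k A := fun j => ((σ.symm j : S) : Grp k A)
  have hψinj : Function.Injective ψf := fun a b h => σ.symm.injective (Subtype.ext h)
  have hreidx : ∀ {β : Type u} [AddCommMonoid β] (f : Grp k A → β),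
      ∑ j, f (ψf j) = ∑ ψ ∈ S, f ψ := by
    intro β _ f
    rw [← Finset.sum_coe_sort S f]
    exact Equiv.sum_comp σ.symm (fun s : S => f s.1)
  refine ⟨S.card, fun j => (ψf j : A), fun j => (ψf j).2, ?_⟩
  intro v hv
  let w : Fin S.card → (ι → k) := fun j => Matrix.mulVec (Pm hdiag M (ψf j)) v
  have hsum : ∑ j, w j = v := by
    have := hreidx (fun ψ => Matrix.mulVec (Pm hdiag M ψ) v)
    change ∑ j, w j = _ at this
    rw [this, ← Matrix.sum_mulVec, Pm_sum hdiag M hM S hS, Matrix.one_mulVec]
  refine ⟨Finset.univ.filter (fun j => w j ≠ 0), ?_, ?_⟩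
  · by_contra hemp
    rw [Finset.not_nonempty_iff_eq_empty, Finset.filter_eq_empty_iff] at hemp
    apply hv
    rw [← hsum]
    apply Finset.sum_eq_zero
    intro j hj
    have := hemp hj
    push Not at this
    exact this
  · intro lam e he m
    have hcc : ∀ i n, (cc lam v i).coeff n = ∑ j, if e j = n then w j i else 0 := by
      intro i n
      rw [cc_eq_sum hdiag M hM S hS lam v i,
        ← hreidx (fun ψ => (Matrix.mulVec (Pm hdiag M ψ) v i) • lam (ψ : A))]
      simp only [he]
      exact coeff_sum_smul_T (fun j => w j i) e n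
    have hcoef : ∀ n, (∃ i, (cc lam v i).coeff n ≠ 0) ↔
        ∃ j ∈ Finset.univ.filter (fun j => w j ≠ 0), e j = n := by
      intro n
      constructor
      · rintro ⟨i, hi⟩
        by_contra hcon
        push Not at hcon
        apply hi
        rw [hcc]
        apply Finset.sum_eq_zero
        intro j _
        split_ifs with hej
        · have hj : j ∉ Finset.univ.filter (fun j => w j ≠ 0) := fun hj => hcon j hj hej
          rw [Finset.mem_filter] at hj
          push Not at hj
          rw [hj (Finset.mem_univ j)]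
          rfl
        · rfl
      · rintro ⟨j0, hj0, hej0⟩
        rw [Finset.mem_filter] at hj0
        by_contra hcon
        push Not at hcon
        apply hj0.2
        -- u := the vector of coefficients at n, which vanishes
        have hu : (∑ j, if e j = n then w j else 0) = 0 := by
          funext i
          rw [Finset.sum_apply, Pi.zero_apply, ← hcon i, hcc]
          apply Finset.sum_congr rfl
          intro j _
          split_ifs <;> rfl
        have h2 := congrArg (Matrix.mulVec (Pm hdiag M (ψf j0))) hu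
        rw [Matrix.mulVec_zero, Matrix.mulVec_sum] at h2
        rw [← h2]
        symm
        rw [Finset.sum_eq_single j0]
        · rw [if_pos hej0]
          change Matrix.mulVec (Pm hdiag M (ψf j0)) (Matrix.mulVec (Pm hdiag M (ψf j0)) v) = _
          rw [Matrix.mulVec_mulVec, Pm_mul hdiag M hM, if_pos rfl]
        · intro j _ hjne
          split_ifs
          · change Matrix.mulVec (Pm hdiag M (ψf j0)) (Matrix.mulVec (Pm hdiag M (ψf j)) v) = _
            rw [Matrix.mulVec_mulVec, Pm_mul hdiag M hM,
              if_neg (fun h => hjne (hψinj h)), Matrix.zero_mulVec]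
          · exact Matrix.mulVec_zero _
        · intro h; exact absurd (Finset.mem_univ j0) h
    rw [isMu_iff, mu_iff]
    constructor
    · rintro ⟨h1, h2⟩
      refine ⟨?_, ?_⟩
      · intro j hj
        by_contra hlt
        push Not at hlt
        obtain ⟨i, hi⟩ := (hcoef (e j)).2 ⟨j, hj, rfl⟩
        exact hi (h1 i (e j) (by omega))
      · obtain ⟨j, hj, hej⟩ := (hcoef (-m)).1 h2
        exact ⟨j, hj, by omega⟩
    · rintro ⟨h1, j, hj, hej⟩
      refine ⟨?_, ?_⟩
      · intro i n hn
        by_contra hne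
        obtain ⟨j', hj', hej'⟩ := (hcoef n).1 ⟨i, hne⟩
        have := h1 j' hj'
        omega
      · exact (hcoef (-m)).2 ⟨j, hj, by omega⟩

end Main

end Groth.Agent.Helper6.DiagWt
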