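import Mathlib

/-!
# The different ideal commutes with localization of the base
-/

set_option autoImplicit false
set_option linter.style.haveILetI false
set_option linter.unusedSectionVars false
set_option linter.unusedVariables false

namespace Groth.Agent.Helper6.DiffLoc

open nonZeroDivisors
open scoped Pointwise

universe u

section Core

variable (A B Aₛ Bₛ K L : Type*) [CommRing A] [CommRing B] [CommRing Aₛ] [CommRing Bₛ]
  [Field K] [Field L]
  [Algebra A B] [Algebra A Aₛ] [Algebra B Bₛ] [Algebra Aₛ Bₛ] [Algebra A Bₛ]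
  [IsScalarTower A Aₛ Bₛ] [IsScalarTower A B Bₛ]
  [Algebra A K] [Algebra Aₛ K] [IsScalarTower A Aₛ K]
  [Algebra B L] [Algebra Bₛ L] [IsScalarTower B Bₛ L]
  [Algebra K L] [Algebra A L] [Algebra Aₛ L]
  [IsScalarTower A K L] [IsScalarTower A B L] [IsScalarTower Aₛ K L] [IsScalarTower Aₛ Bₛ L]
  (S : Submonoid A) [IsLocalization S Aₛ] [IsLocalization (Algebra.algebraMapSubmonoid B S) Bₛ]

theorem mem_traceDual_one_iff (x : L) :
    x ∈ Submodule.traceDual A K (1 : Submodule B L) ↔
      ∀ b : B, ∃ a : A, algebraMap A K a = Algebra.trace K L (x * algebraMap B L b) := by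
  rw [Submodule.mem_traceDual]
  constructor
  · intro h b
    have := h (algebraMap B L b) (Submodule.mem_one.2 ⟨b, rfl⟩)
    rw [Algebra.traceForm_apply] at this
    exact this
  · intro h y hy
    obtain ⟨b, rfl⟩ := Submodule.mem_one.1 hy
    rw [Algebra.traceForm_apply]
    exact h b

theorem trace_mul_algebraMap (y : L) (u : K) :
    Algebra.trace K L (y * algebraMap K L u) = Algebra.trace K L y * u := by
  rw [mul_comm y, ← Algebra.smul_def, map_smul, smul_eq_mul, mul_comm]

include S in
theorem traceDual_loc (hS : S ≤ A⁰) [IsDomain A] [IsFractionRing A K] [Module.Finite A B] :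
    Submodule.traceDual Aₛ K (1 : Submodule Bₛ L) =
      Submodule.span Bₛ ((Submodule.traceDual A K (1 : Submodule B L) : Submodule B L) : Set L) := by
  classical
  have hu : ∀ s ∈ S, algebraMap A K s ≠ 0 := fun s hs =>
    IsFractionRing.to_map_ne_zero_of_mem_nonZeroDivisors (hS hs)
  have hAL : ∀ a : A, algebraMap A L a = algebraMap K L (algebraMap A K a) := fun a =>
    IsScalarTower.algebraMap_apply A K L a
  have hABL : ∀ a : A, algebraMap B L (algebraMap A B a) = algebraMap A L a := fun a =>
    (IsScalarTower.algebraMap_apply A B L a).symm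
  have hBBL : ∀ b : B, algebraMap Bₛ L (algebraMap B Bₛ b) = algebraMap B L b := fun b =>
    (IsScalarTower.algebraMap_apply B Bₛ L b).symm
  have hAAK : ∀ a : A, algebraMap Aₛ K (algebraMap A Aₛ a) = algebraMap A K a := fun a =>
    (IsScalarTower.algebraMap_apply A Aₛ K a).symm
  apply le_antisymm
  · intro x hx
    rw [mem_traceDual_one_iff] at hx
    obtain ⟨G, hG⟩ := (Module.Finite.fg_top : (⊤ : Submodule A B).FG)
    have h : ∀ g : B, ∃ a' : Aₛ, algebraMap Aₛ K a' = Algebra.trace K L (x * algebraMap B L g) := by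
      intro g
      obtain ⟨a', ha'⟩ := hx (algebraMap B Bₛ g)
      exact ⟨a', by rw [ha', hBBL]⟩
    choose a' ha' using h
    obtain ⟨s, hs⟩ := IsLocalization.exist_integer_multiples_of_finset S (G.image a')
    have hx₁ : algebraMap A L s * x ∈ Submodule.traceDual A K (1 : Submodule B L) := by
      rw [mem_traceDual_one_iff]
      intro b
      have hb : b ∈ Submodule.span A (G : Set B) := by rw [hG]; trivial
      induction hb using Submodule.span_induction with
      | mem g hg =>
        obtain ⟨a, ha⟩ := hs (a' g) (Finset.mem_image_of_mem a' hg)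
        refine ⟨a, ?_⟩
        have e : algebraMap A L s * x * algebraMap B L g =
            (x * algebraMap B L g) * algebraMap K L (algebraMap A K s) := by rw [hAL]; ring
        rw [e, trace_mul_algebraMap, ← ha' g, ← hAAK a, ha, Algebra.smul_def, map_mul, hAAK,
          mul_comm]
      | zero => exact ⟨0, by simp⟩
      | add b₁ b₂ _ _ h₁ h₂ =>
        obtain ⟨a₁, h₁⟩ := h₁
        obtain ⟨a₂, h₂⟩ := h₂
        exact ⟨a₁ + a₂, by rw [map_add, map_add, mul_add, map_add, h₁, h₂]⟩
      | smul r b _ hb =>
        obtain ⟨a, ha⟩ := hb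
        refine ⟨r * a, ?_⟩
        have e : algebraMap A L s * x * algebraMap B L (r • b) =
            (algebraMap A L s * x * algebraMap B L b) * algebraMap K L (algebraMap A K r) := by
          rw [Algebra.smul_def, map_mul, hABL, hAL r]; ring
        rw [e, trace_mul_algebraMap, ← ha, map_mul, mul_comm]
    have hmem : algebraMap A B s ∈ Algebra.algebraMapSubmonoid B S :=
      Algebra.mem_algebraMapSubmonoid_of_mem s
    obtain ⟨β, hβ⟩ : ∃ β : Bₛ, β = IsLocalization.mk' Bₛ (1 : B) ⟨algebraMap A B s, hmem⟩ :=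
      ⟨_, rfl⟩
    have hβ1 : β * algebraMap B Bₛ (algebraMap A B s) = 1 := by
      rw [hβ]
      have := IsLocalization.mk'_spec Bₛ (1 : B) ⟨algebraMap A B s, hmem⟩
      rw [map_one] at this
      exact this
    have hβ2 : algebraMap Bₛ L β * algebraMap A L s = 1 := by
      have := congrArg (algebraMap Bₛ L) hβ1
      rw [map_mul, hBBL, hABL, map_one] at this
      exact this
    have hxeq : x = β • (algebraMap A L s * x) := by
      rw [Algebra.smul_def, ← mul_assoc, hβ2, one_mul]
    rw [hxeq]
    exact Submodule.smul_mem _ β (Submodule.subset_span hx₁)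
  · rw [Submodule.span_le]
    intro x hx
    have hx' := (mem_traceDual_one_iff A B K L x).1 hx
    show x ∈ Submodule.traceDual Aₛ K (1 : Submodule Bₛ L)
    rw [mem_traceDual_one_iff]
    intro b'
    obtain ⟨⟨b, ⟨t, ht⟩⟩, hb⟩ := IsLocalization.surj (Algebra.algebraMapSubmonoid B S) b'
    obtain ⟨s, hs, rfl⟩ := ht
    obtain ⟨a, ha⟩ := hx' b
    refine ⟨IsLocalization.mk' Aₛ a ⟨s, hs⟩, ?_⟩
    have e1 : algebraMap Bₛ L b' * algebraMap K L (algebraMap A K s) = algebraMap B L b := by
      have := congrArg (algebraMap Bₛ L) hb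
      simp only [map_mul, hBBL, hABL, hAL] at this
      exact this
    have e2 : Algebra.trace K L (x * algebraMap Bₛ L b') * algebraMap A K s =
        algebraMap A K a := by
      rw [← trace_mul_algebraMap, mul_assoc, e1, ha]
    have e3 : algebraMap Aₛ K (IsLocalization.mk' Aₛ a ⟨s, hs⟩) * algebraMap A K s =
        algebraMap A K a := by
      have := congrArg (algebraMap Aₛ K) (IsLocalization.mk'_spec Aₛ a ⟨s, hs⟩)
      simp only [map_mul, hAAK] at this
      exact this
    exact mul_right_cancel₀ (hu s hs) (e3.trans e2.symm)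

theorem coe_different_mul_traceDual [IsDomain A] [IsFractionRing A K] [FiniteDimensional K L]
    [Algebra.IsSeparable K L] [IsIntegralClosure B A L] [IsIntegrallyClosed A]
    [IsDedekindDomain B] [Module.IsTorsionFree A B] [IsFractionRing B L] :
    IsLocalization.coeSubmodule L (differentIdeal A B) *
      Submodule.traceDual A K (1 : Submodule B L) = 1 := by
  have h := coeIdeal_differentIdeal A K L B
  have hne : FractionalIdeal.dual A K (1 : FractionalIdeal B⁰ L) ≠ 0 :=
    FractionalIdeal.dual_ne_zero A K one_ne_zero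
  have h2 : ((differentIdeal A B : Ideal B) : FractionalIdeal B⁰ L) *
      FractionalIdeal.dual A K 1 = 1 := by
    rw [h, inv_mul_cancel₀ hne]
  have h3 := congrArg (fun I : FractionalIdeal B⁰ L => (I : Submodule B L)) h2
  simp only [FractionalIdeal.coe_mul, FractionalIdeal.coe_coeIdeal,
    FractionalIdeal.coe_dual_one, FractionalIdeal.coe_one] at h3
  exact h3

include S in
theorem core (hS : S ≤ A⁰) [IsDomain A] [IsDomain Aₛ] [IsFractionRing A K] [IsFractionRing Aₛ K]
    [IsIntegrallyClosed A] [IsIntegrallyClosed Aₛ] [IsDedekindDomain B] [IsDedekindDomain Bₛ]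
    [IsFractionRing B L] [IsFractionRing Bₛ L]
    [FiniteDimensional K L] [Algebra.IsSeparable K L]
    [IsIntegralClosure B A L] [IsIntegralClosure Bₛ Aₛ L]
    [Module.IsTorsionFree A B] [Module.IsTorsionFree Aₛ Bₛ] [Module.Finite A B] :
    Ideal.map (algebraMap B Bₛ) (differentIdeal A B) = differentIdeal Aₛ Bₛ := by
  apply IsFractionRing.coeSubmodule_injective Bₛ L
  have h1 := coe_different_mul_traceDual A B K L
  have h2 := coe_different_mul_traceDual Aₛ Bₛ K L
  have h3 := traceDual_loc A B Aₛ Bₛ K L S hS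
  obtain ⟨cD, hcD⟩ : ∃ cD : Submodule B L,
      cD = IsLocalization.coeSubmodule L (differentIdeal A B) := ⟨_, rfl⟩
  obtain ⟨T, hT⟩ : ∃ T : Submodule B L, T = Submodule.traceDual A K (1 : Submodule B L) :=
    ⟨_, rfl⟩
  obtain ⟨cD', hcD'⟩ : ∃ cD' : Submodule Bₛ L,
      cD' = IsLocalization.coeSubmodule L (differentIdeal Aₛ Bₛ) := ⟨_, rfl⟩
  obtain ⟨T', hT'⟩ : ∃ T' : Submodule Bₛ L,
      T' = Submodule.traceDual Aₛ K (1 : Submodule Bₛ L) := ⟨_, rfl⟩
  rw [← hcD, ← hT] at h1
  rw [← hcD', ← hT'] at h2
  rw [← hT, ← hT'] at h3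
  obtain ⟨N, hN⟩ : ∃ N : Submodule Bₛ L, N = Submodule.span Bₛ (cD : Set L) := ⟨_, rfl⟩
  have hBBL : ∀ b : B, algebraMap Bₛ L (algebraMap B Bₛ b) = algebraMap B L b := fun b =>
    (IsScalarTower.algebraMap_apply B Bₛ L b).symm
  have hmapN : IsLocalization.coeSubmodule L (Ideal.map (algebraMap B Bₛ) (differentIdeal A B)) =
      N := by
    rw [Ideal.map, IsLocalization.coeSubmodule_span, hN, hcD, IsLocalization.coeSubmodule,
      Submodule.map_coe, Set.image_image]
    congr 1
    ext y
    simp only [Set.mem_image, SetLike.mem_coe, Algebra.linearMap_apply, hBBL]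
  have hNT : N * T' = 1 := by
    rw [hN, h3, Submodule.span_mul_span]
    have e : Submodule.span Bₛ ((cD : Set L) * (T : Set L)) =
        Submodule.span Bₛ ((cD * T : Submodule B L) : Set L) := by
      rw [Submodule.mul_eq_span_mul_set, Submodule.span_span_of_tower]
    rw [e, h1]
    apply le_antisymm
    · rw [Submodule.span_le]
      rintro y hy
      obtain ⟨b, rfl⟩ := Submodule.mem_one.1 hy
      exact Submodule.mem_one.2 ⟨algebraMap B Bₛ b, hBBL b⟩
    · rw [Submodule.one_eq_span, Submodule.span_le]
      rintro y hy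
      rw [Set.mem_singleton_iff] at hy
      subst hy
      exact Submodule.subset_span (Submodule.mem_one.2 ⟨1, map_one _⟩)
  rw [hmapN, ← hcD']
  calc N = N * (cD' * T') := by rw [h2, mul_one]
    _ = (N * T') * cD' := by rw [mul_comm cD' T', mul_assoc]
    _ = cD' := by rw [hNT, one_mul]

end Core

section Final

attribute [local instance] FractionRing.liftAlgebra

theorem main (A B : Type u) [CommRing A] [CommRing B]
    [IsDedekindDomain A] [IsDedekindDomain B] [Algebra A B] [Module.Finite A B]
    [Module.IsTorsionFree A B]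
    [Algebra.IsSeparable (FractionRing A) (FractionRing B)]
    (S : Submonoid A) (hS : S ≤ nonZeroDivisors A)
    (Aₛ Bₛ : Type u) [CommRing Aₛ] [CommRing Bₛ] [Algebra A Aₛ] [Algebra B Bₛ] [Algebra Aₛ Bₛ]
    [Algebra A Bₛ] [IsScalarTower A Aₛ Bₛ] [IsScalarTower A B Bₛ]
    [IsLocalization S Aₛ] [IsLocalization (Algebra.algebraMapSubmonoid B S) Bₛ]
    [IsDomain Aₛ] [IsIntegrallyClosed Aₛ] [IsDedekindDomain Bₛ] [Module.IsTorsionFree Aₛ Bₛ] :
    Ideal.map (algebraMap B Bₛ) (differentIdeal A B) = differentIdeal Aₛ Bₛ := by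
  have hunitA : ∀ y : S, IsUnit (algebraMap A (FractionRing A) y) := fun y =>
    IsUnit.mk0 _ (IsFractionRing.to_map_ne_zero_of_mem_nonZeroDivisors (hS y.2))
  letI algAK : Algebra Aₛ (FractionRing A) := (IsLocalization.lift (M := S) hunitA).toAlgebra
  haveI : IsScalarTower A Aₛ (FractionRing A) :=
    IsScalarTower.of_algebraMap_eq (fun x => (IsLocalization.lift_eq hunitA x).symm)
  haveI : IsFractionRing Aₛ (FractionRing A) :=
    IsFractionRing.isFractionRing_of_isDomain_of_isLocalization S Aₛ (FractionRing A)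
  have hinj : Function.Injective (algebraMap A B) := FaithfulSMul.algebraMap_injective A B
  have hSB : Algebra.algebraMapSubmonoid B S ≤ B⁰ := by
    rintro _ ⟨s, hs, rfl⟩
    apply mem_nonZeroDivisors_of_ne_zero
    intro h0
    have : s = 0 := hinj (by rw [h0, map_zero])
    exact nonZeroDivisors.ne_zero (hS hs) this
  have hunitB : ∀ y : Algebra.algebraMapSubmonoid B S,
      IsUnit (algebraMap B (FractionRing B) y) := fun y =>
    IsUnit.mk0 _ (IsFractionRing.to_map_ne_zero_of_mem_nonZeroDivisors (hSB y.2))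
  letI algBL : Algebra Bₛ (FractionRing B) :=
    (IsLocalization.lift (M := Algebra.algebraMapSubmonoid B S) hunitB).toAlgebra
  haveI : IsScalarTower B Bₛ (FractionRing B) :=
    IsScalarTower.of_algebraMap_eq (fun x => (IsLocalization.lift_eq hunitB x).symm)
  haveI : IsFractionRing Bₛ (FractionRing B) :=
    IsFractionRing.isFractionRing_of_isDomain_of_isLocalization
      (Algebra.algebraMapSubmonoid B S) Bₛ (FractionRing B)
  letI algAL : Algebra Aₛ (FractionRing B) :=
    ((algebraMap (FractionRing A) (FractionRing B)).comp (algebraMap Aₛ (FractionRing A))).toAlgebra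
  haveI : IsScalarTower Aₛ (FractionRing A) (FractionRing B) :=
    IsScalarTower.of_algebraMap_eq (fun _ => rfl)
  haveI : IsScalarTower Aₛ Bₛ (FractionRing B) := by
    apply IsScalarTower.of_algebraMap_eq'
    apply IsLocalization.ringHom_ext S
    ext a
    simp only [RingHom.comp_apply]
    rw [IsScalarTower.algebraMap_apply Aₛ (FractionRing A) (FractionRing B),
      ← IsScalarTower.algebraMap_apply A Aₛ (FractionRing A),
      ← IsScalarTower.algebraMap_apply A (FractionRing A) (FractionRing B),
      ← IsScalarTower.algebraMap_apply A Aₛ Bₛ,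
      IsScalarTower.algebraMap_apply A B Bₛ,
      ← IsScalarTower.algebraMap_apply B Bₛ (FractionRing B),
      ← IsScalarTower.algebraMap_apply A B (FractionRing B)]
  haveI : Algebra.IsIntegral A B := Algebra.IsIntegral.of_finite A B
  haveI : Module.Finite Aₛ Bₛ := Module.Finite.of_isLocalization A B S
  haveI : Algebra.IsIntegral Aₛ Bₛ := Algebra.IsIntegral.of_finite Aₛ Bₛ
  haveI : IsLocalization (Algebra.algebraMapSubmonoid B A⁰) (FractionRing B) :=
    IsIntegralClosure.isLocalization A (FractionRing A) (FractionRing B) B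
  haveI : FiniteDimensional (FractionRing A) (FractionRing B) :=
    Module.Finite.of_isLocalization A B A⁰
  exact core A B Aₛ Bₛ (FractionRing A) (FractionRing B) S hS

end Final

end Groth.Agent.Helper6.DiffLoc
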