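import Mathlib
import Groth.Agent.Helper6.Dim1Rel
import Groth.Agent.Helper6.Dim1Colon

set_option autoImplicit false

namespace Groth.Agent.Helper6.Dim1

open Function
open scoped Pointwise

universe u

variable {R : Type u} [CommRing R] [IsNoetherianRing R] [IsLocalRing R]

theorem isMaximal_iff_eq_closedPoint (p : PrimeSpectrum R) :
    p.asIdeal.IsMaximal ↔ p.asIdeal = IsLocalRing.maximalIdeal R :=
  ⟨fun h => IsLocalRing.eq_maximalIdeal h, fun h => h ▸ IsLocalRing.maximalIdeal.isMaximal R⟩

theorem goodSupp_of_supportDim (M : Type u) [AddCommGroup M] [Module R M] [Module.Finite R M]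
    (x : R) (h1 : Module.supportDim R M ≤ 1)
    (h0 : Module.supportDim R (QuotSMulTop x M) ≤ 0) : GoodSupp x M := by
  intro p hp
  by_cases hpm : p.asIdeal.IsMaximal
  · exact Or.inl hpm
  right
  let m : PrimeSpectrum R := IsLocalRing.closedPoint R
  have hple : p ≤ m := IsLocalRing.le_maximalIdeal p.isPrime.ne_top
  have hpne : p ≠ m := by
    intro h
    apply hpm
    rw [h]
    exact IsLocalRing.maximalIdeal.isMaximal R
  have hplt : p < m := lt_of_le_of_ne hple hpne
  have hmS : m ∈ Module.support R M := Module.mem_support_mono hple hp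
  constructor
  · intro hxp
    have hp' : p ∈ Module.support R (QuotSMulTop x M) := by
      rw [Module.support_quotSMulTop]
      refine ⟨hp, ?_⟩
      rw [PrimeSpectrum.mem_zeroLocus]
      intro y hy
      rw [Set.mem_singleton_iff] at hy
      rw [hy]
      exact hxp
    have hm' : m ∈ Module.support R (QuotSMulTop x M) := Module.mem_support_mono hple hp'
    unfold Module.supportDim at h0
    have hmax := (Order.krullDim_nonpos_iff_forall_isMax.mp h0)
      (⟨p, hp'⟩ : ↥(Module.support R (QuotSMulTop x M)))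
    have hle : (⟨m, hm'⟩ : ↥(Module.support R (QuotSMulTop x M))) ≤ ⟨p, hp'⟩ :=
      hmax (b := ⟨m, hm'⟩) hple
    exact absurd (lt_of_lt_of_le hplt hle) (lt_irrefl _)
  · intro q hq hpq
    let q' : PrimeSpectrum R := ⟨q, hq⟩
    have hpq' : p < q' := hpq
    have hq'S : q' ∈ Module.support R M := Module.mem_support_mono (le_of_lt hpq') hp
    by_contra hqm
    have hq'le : q' ≤ m := IsLocalRing.le_maximalIdeal hq.ne_top
    have hq'ne : q' ≠ m := by
      intro h
      apply hqm
      have : q = m.asIdeal := congrArg PrimeSpectrum.asIdeal h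
      rw [this]
      exact IsLocalRing.maximalIdeal.isMaximal R
    have hq'lt : q' < m := lt_of_le_of_ne hq'le hq'ne
    unfold Module.supportDim at h1
    rcases (Order.krullDim_le_one_iff.mp h1) (⟨q', hq'S⟩ : ↥(Module.support R M)) with hmin | hmax
    · have hle : (⟨q', hq'S⟩ : ↥(Module.support R M)) ≤ ⟨p, hp⟩ :=
        hmin (b := ⟨p, hp⟩) (le_of_lt hpq')
      exact absurd (lt_of_lt_of_le hpq' hle) (lt_irrefl _)
    · have hle : (⟨m, hmS⟩ : ↥(Module.support R M)) ≤ ⟨q', hq'S⟩ :=
        hmax (b := ⟨m, hmS⟩) (le_of_lt hq'lt)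
      exact absurd (lt_of_lt_of_le hq'lt hle) (lt_irrefl _)

theorem main_S1833 (M : Type u) [AddCommGroup M] [Module R M] [Module.Finite R M] (x : R)
    (h1 : Module.supportDim R M ≤ 1)
    (h0 : Module.supportDim R (M ⧸ x • (⊤ : Submodule R M)) ≤ 0) :
    Module.length R (M ⧸ x • (⊤ : Submodule R M)) =
      Module.length R (LinearMap.ker (LinearMap.lsmul R M x)) +
        ∑ᶠ (p : PrimeSpectrum R)
          (_ : p ∈ Module.support R M ∧ p.asIdeal ≠ IsLocalRing.maximalIdeal R),
          Ring.ord (R ⧸ p.asIdeal) (Ideal.Quotient.mk p.asIdeal x) *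
            Module.length (Localization.AtPrime p.asIdeal)
              (LocalizedModule p.asIdeal.primeCompl M) := by
  classical
  have hG := goodSupp_of_supportDim M x h1 h0
  have hPR := (PR_all x M hG).2
  have hT : T x M = LinearMap.lsmul R M x := by
    ext m
    rfl
  rw [hT] at hPR
  change Module.length R (QuotSMulTop x M) = _
  rw [hPR]
  congr 1
  unfold rhoR
  refine finsum_congr (fun p => ?_)
  rw [finsum_eq_if, finsum_eq_if]
  by_cases hpm : p.asIdeal.IsMaximal
  · have h1' : ¬ (p ∈ nonMax R) := fun h => h hpm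
    have h2' : ¬ (p ∈ Module.support R M ∧ p.asIdeal ≠ IsLocalRing.maximalIdeal R) :=
      fun h => h.2 ((isMaximal_iff_eq_closedPoint p).mp hpm)
    rw [if_neg h1', if_neg h2']
  · have h1' : p ∈ nonMax R := hpm
    rw [if_pos h1']
    by_cases hpS : p ∈ Module.support R M
    · have h2' : p ∈ Module.support R M ∧ p.asIdeal ≠ IsLocalRing.maximalIdeal R :=
        ⟨hpS, fun h => hpm ((isMaximal_iff_eq_closedPoint p).mpr h)⟩
      rw [if_pos h2', term_eq, mul_comm]
      congr 1
      exact (length_quot_quot p.asIdeal x).symm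
    · have h2' : ¬ (p ∈ Module.support R M ∧ p.asIdeal ≠ IsLocalRing.maximalIdeal R) :=
        fun h => hpS h.1
      rw [if_neg h2', term_eq]
      have : Lq M p = 0 := by
        unfold Lq
        rw [Module.length_eq_zero_iff]
        exact Module.notMem_support_iff.mp hpS
      rw [this, zero_mul]

end Groth.Agent.Helper6.Dim1
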