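import Mathlib
import Groth.Agent.Helper6.Dim1RelB

set_option autoImplicit false

namespace Groth.Agent.Helper6.Dim1

open Function
open scoped Pointwise

universe u

variable {B : Type u} [CommRing B] [IsNoetherianRing B] [IsLocalRing B]

theorem length_quot_sup_eq_one_iff (t : B) (p : Ideal B) [p.IsPrime] :
    Module.length B (B ⧸ (p ⊔ Ideal.span {t})) = 1 ↔
      Ideal.map (Ideal.Quotient.mk p) (IsLocalRing.maximalIdeal B) =
        Ideal.span {Ideal.Quotient.mk p t} := by
  have hsurj : Surjective (Ideal.Quotient.mk p) := Ideal.Quotient.mk_surjective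
  have hple : p ≤ IsLocalRing.maximalIdeal B :=
    IsLocalRing.le_maximalIdeal (Ideal.IsPrime.ne_top inferInstance)
  rw [Module.length_eq_one_iff, isSimpleModule_iff_isCoatom, ← Ideal.isMaximal_def]
  have hmapspan : Ideal.map (Ideal.Quotient.mk p) (Ideal.span {t}) =
      Ideal.span {Ideal.Quotient.mk p t} := by
    rw [Ideal.map_span, Set.image_singleton]
  constructor
  · intro hmax
    have h1 : p ⊔ Ideal.span {t} = IsLocalRing.maximalIdeal B :=
      IsLocalRing.eq_maximalIdeal hmax
    rw [← h1, Ideal.map_sup, Ideal.map_quotient_self, bot_sup_eq, hmapspan]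
  · intro h
    have h2 := congrArg (Ideal.comap (Ideal.Quotient.mk p)) h
    rw [← hmapspan, Ideal.comap_map_of_surjective _ hsurj, Ideal.comap_map_of_surjective _ hsurj,
      ← RingHom.ker_eq_comap_bot, Ideal.mk_ker, sup_eq_left.mpr hple] at h2
    rw [sup_comm, ← h2]
    exact IsLocalRing.maximalIdeal.isMaximal B

section

variable (t : B) (M : Type u) [AddCommGroup M] [Module B M] [Module.Finite B M]

/-- lengths at the minimal primes of the annihilator. -/
noncomputable def LpB (p : (Module.annihilator B M).minimalPrimes) : ℕ∞ :=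
  haveI : p.1.IsPrime := p.2.1.1
  Module.length (Localization.AtPrime p.1) (LocalizedModule p.1.primeCompl M)

/-- colength of `p + (t)`. -/
noncomputable def cpB (p : (Module.annihilator B M).minimalPrimes) : ℕ∞ :=
  Module.length B (B ⧸ (p.1 ⊔ Ideal.span {t}))

theorem mem_mp_imp (hdim : 0 < Module.supportDim B M) (p : PrimeSpectrum B)
    (hp : p.asIdeal ∈ (Module.annihilator B M).minimalPrimes) :
    p ∈ nonMax B ∧ p ∈ Module.support B M := by
  have hpS : p ∈ Module.support B M := Module.mem_support_iff_of_finite.mpr hp.1.2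
  refine ⟨?_, hpS⟩
  intro hmax
  have hpm : p.asIdeal = IsLocalRing.maximalIdeal B := IsLocalRing.eq_maximalIdeal hmax
  unfold Module.supportDim at hdim
  obtain ⟨x, y, hxy⟩ := Order.krullDim_pos_iff.mp hdim
  have hxle : x.1.asIdeal ≤ p.asIdeal := by
    rw [hpm]
    exact IsLocalRing.le_maximalIdeal x.1.isPrime.ne_top
  have hyle : y.1.asIdeal ≤ p.asIdeal := by
    rw [hpm]
    exact IsLocalRing.le_maximalIdeal y.1.isPrime.ne_top
  have hpx : p.asIdeal ≤ x.1.asIdeal :=
    hp.2 ⟨x.1.isPrime, Module.annihilator_le_of_mem_support x.2⟩ hxle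
  have hyx : y.1 ≤ x.1 := hyle.trans hpx
  exact absurd (lt_of_lt_of_le hxy hyx) (lt_irrefl _)

theorem mem_mp_of (hG : GoodSupp t M) (p : PrimeSpectrum B) (hnm : p ∈ nonMax B)
    (hpS : p ∈ Module.support B M) :
    p.asIdeal ∈ (Module.annihilator B M).minimalPrimes := by
  have hann : Module.annihilator B M ≤ p.asIdeal := Module.annihilator_le_of_mem_support hpS
  haveI := p.isPrime
  obtain ⟨p', hp', hp'le⟩ := Ideal.exists_minimalPrimes_le hann
  by_cases heq : p' = p.asIdeal
  · rw [← heq]
    exact hp'
  · exfalso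
    have hlt : p' < p.asIdeal := lt_of_le_of_ne hp'le heq
    let P' : PrimeSpectrum B := ⟨p', hp'.1.1⟩
    have hP'S : P' ∈ Module.support B M := Module.mem_support_iff_of_finite.mpr hp'.1.2
    rcases hG P' hP'S with hmax | ⟨_, habove⟩
    · have : p' = p.asIdeal := hmax.eq_of_le p.isPrime.ne_top hp'le
      exact heq this
    · exact hnm (habove p.asIdeal p.isPrime hlt)

theorem key_identity_B (ht : t ∈ IsLocalRing.maximalIdeal B)
    (hdim : 0 < Module.supportDim B M)
    (hfin : Module.length B (M ⧸ (Ideal.span {t} • (⊤ : Submodule B M))) ≠ ⊤) :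
    Module.length B (M ⧸ (Ideal.span {t} • (⊤ : Submodule B M))) =
      Module.length B (LinearMap.ker (T t M)) +
        ∑ᶠ p : (Module.annihilator B M).minimalPrimes, LpB M p * cpB t M p := by
  classical
  have heq : (Ideal.span ({t} : Set B) • (⊤ : Submodule B M)) = t • (⊤ : Submodule B M) :=
    Submodule.ideal_span_singleton_smul t ⊤
  rw [(Submodule.quotEquivOfEq _ _ heq).length_eq] at hfin ⊢
  have hG := goodSupp_of_length_quot_ne_top t ht M hfin
  have hPR := (PR_all t M hG).2
  change Module.length B (QuotSMulTop t M) = _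
  rw [hPR]
  congr 1
  unfold rhoR
  -- pass to the set of minimal primes of the annihilator
  have h1 : ∑ᶠ p ∈ nonMax B, term t M p =
      ∑ᶠ p ∈ {p : PrimeSpectrum B | p.asIdeal ∈ (Module.annihilator B M).minimalPrimes},
        term t M p := by
    refine finsum_congr (fun p => ?_)
    rw [finsum_eq_if, finsum_eq_if]
    by_cases hp : p.asIdeal ∈ (Module.annihilator B M).minimalPrimes
    · have h2 : p ∈ {p : PrimeSpectrum B | p.asIdeal ∈ (Module.annihilator B M).minimalPrimes} := hp
      rw [if_pos h2, if_pos (mem_mp_imp M hdim p hp).1]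
    · have h2 : ¬ (p ∈ {p : PrimeSpectrum B |
          p.asIdeal ∈ (Module.annihilator B M).minimalPrimes}) := hp
      rw [if_neg h2]
      by_cases hnm : p ∈ nonMax B
      · rw [if_pos hnm, term_eq]
        have hpS : p ∉ Module.support B M := fun h => hp (mem_mp_of t M hG p hnm h)
        have : Lq M p = 0 := by
          unfold Lq
          rw [Module.length_eq_zero_iff]
          exact Module.notMem_support_iff.mp hpS
        rw [this, zero_mul]
      · rw [if_neg hnm]
  rw [h1]
  let e : {q : PrimeSpectrum B // q ∈ {p : PrimeSpectrum B |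
      p.asIdeal ∈ (Module.annihilator B M).minimalPrimes}} ≃
      ↥((Module.annihilator B M).minimalPrimes) :=
    { toFun := fun q => ⟨q.1.asIdeal, q.2⟩
      invFun := fun p => ⟨⟨p.1, p.2.1.1⟩, p.2⟩
      left_inv := fun q => rfl
      right_inv := fun p => rfl }
  rw [← finsum_set_coe_eq_finsum_mem, ← finsum_comp_equiv e.symm]
  rfl

theorem main_S12132 (ht : t ∈ IsLocalRing.maximalIdeal B)
    (hdim : 0 < Module.supportDim B M)
    (hfin : Module.length B (M ⧸ (Ideal.span {t} • (⊤ : Submodule B M))) ≠ ⊤) :
    (∑ᶠ p : (Module.annihilator B M).minimalPrimes, LpB M p) ≤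
      Module.length B (M ⧸ (Ideal.span {t} • (⊤ : Submodule B M))) ∧
    ((∑ᶠ p : (Module.annihilator B M).minimalPrimes, LpB M p) =
      Module.length B (M ⧸ (Ideal.span {t} • (⊤ : Submodule B M))) ↔
    IsSMulRegular M t ∧
      ∀ p : (Module.annihilator B M).minimalPrimes,
        Ideal.map (Ideal.Quotient.mk p.1) (IsLocalRing.maximalIdeal B) =
          Ideal.span {Ideal.Quotient.mk p.1 t}) := by
  have hkey := key_identity_B t M ht hdim hfin
  have heq : (Ideal.span ({t} : Set B) • (⊤ : Submodule B M)) = t • (⊤ : Submodule B M) :=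
    Submodule.ideal_span_singleton_smul t ⊤
  have hfin' : Module.length B (QuotSMulTop t M) ≠ ⊤ := by
    rw [← (Submodule.quotEquivOfEq _ _ heq).length_eq]
    exact hfin
  have hG := goodSupp_of_length_quot_ne_top t ht M hfin'
  rw [hkey] at hfin ⊢
  haveI : Fintype ↥((Module.annihilator B M).minimalPrimes) :=
    (Ideal.finite_minimalPrimes_of_isNoetherianRing B _).fintype
  rw [finsum_eq_sum_of_fintype, finsum_eq_sum_of_fintype] at *
  have hc1 : ∀ p : (Module.annihilator B M).minimalPrimes, 1 ≤ cpB t M p := by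
    intro p
    haveI : p.1.IsPrime := p.2.1.1
    unfold cpB
    rw [Order.one_le_iff_pos, Module.length_pos_iff]
    apply Ideal.Quotient.nontrivial_iff.mpr
    intro htop
    have hle : p.1 ⊔ Ideal.span {t} ≤ IsLocalRing.maximalIdeal B :=
      sup_le (IsLocalRing.le_maximalIdeal (Ideal.IsPrime.ne_top inferInstance))
        ((Ideal.span_singleton_le_iff_mem _).mpr ht)
    rw [htop] at hle
    exact (IsLocalRing.maximalIdeal.isMaximal B).ne_top (top_le_iff.mp hle)
  have hL1 : ∀ p : (Module.annihilator B M).minimalPrimes, LpB M p ≠ 0 := by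
    intro p
    have hS := (mem_mp_imp M hdim ⟨p.1, p.2.1.1⟩ p.2).2
    unfold LpB
    rw [ne_eq, Module.length_eq_zero_iff, not_subsingleton_iff_nontrivial]
    exact hS
  refine ⟨?_, ?_⟩
  · refine le_trans ?_ le_add_self
    refine Finset.sum_le_sum (fun p _ => ?_)
    calc LpB M p = LpB M p * 1 := (mul_one _).symm
      _ ≤ LpB M p * cpB t M p := by gcongr; exact hc1 p
  · have hK0 : Module.length B (LinearMap.ker (T t M)) ≠ ⊤ := hG.length_ker_ne_top
    have hsumfin : ∑ p : (Module.annihilator B M).minimalPrimes, LpB M p * cpB t M p ≠ ⊤ := by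
      intro htop
      apply hfin
      rw [htop]
      simp
    have hfinp : ∀ p : (Module.annihilator B M).minimalPrimes, LpB M p * cpB t M p ≠ ⊤ := by
      intro p htop
      apply hsumfin
      rw [eq_top_iff, ← htop]
      exact Finset.single_le_sum (f := fun p => LpB M p * cpB t M p) (fun _ _ => zero_le)
        (Finset.mem_univ p)
    have hcfin : ∀ p : (Module.annihilator B M).minimalPrimes, cpB t M p ≠ ⊤ := by
      intro p htop
      apply hfinp p
      rw [htop]
      exact ENat.mul_top (hL1 p)
    rw [enat_sum_eq_iff (fun p => LpB M p) (fun p => cpB t M p) _ hc1 hcfin hK0 hfinp]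
    have hB : Module.length B (LinearMap.ker (T t M)) = 0 ↔ IsSMulRegular M t := by
      rw [Module.length_eq_zero_iff, Submodule.subsingleton_iff_eq_bot, LinearMap.ker_eq_bot]
      rfl
    rw [hB]
    refine and_congr_right (fun _ => forall_congr' (fun p => ?_))
    haveI : p.1.IsPrime := p.2.1.1
    constructor
    · intro h
      rcases h with h | h
      · exact absurd h (hL1 p)
      · exact (length_quot_sup_eq_one_iff t p.1).mp h
    · intro h
      exact Or.inr ((length_quot_sup_eq_one_iff t p.1).mpr h)

end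

end Groth.Agent.Helper6.Dim1
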