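import Mathlib
import Groth.Agent.Helper6.LBCCompute
import Groth.Agent.Helper3.DRing1

set_option autoImplicit false

/-!
# Derived base change of perfect complexes
-/

namespace Groth.Agent.Helper6.LBCPerf
open CategoryTheory Limits DerivedCategory Groth.Agent.Helper6.LBCCompute
open Groth.Agent.Helper3.DRingLib

attribute [local instance] HasDerivedCategory.standard

universe u

variable {A B : Type u} [CommRing A] [CommRing B] (φ : A →+* B) [DRing.HasLBaseChange φ]

theorem isPerfect_LBaseChange (K : Dual.D A) (hK : DRing.IsPerfect A K) :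
    DRing.IsPerfect B ((DRing.LBaseChange φ).obj K) := by
  obtain ⟨E, a, b, hv, hf, ⟨e⟩⟩ := hK
  letI : Algebra A B := φ.toAlgebra
  have hkp : E.IsKProjective :=
    isKProjective_of_vanishesAbove E b (fun i hi => hv i (Or.inr hi)) (fun i => (hf i).2)
  refine ⟨(bcCx A B).obj E, a, b, bcCx_vanishesOutside B E a b hv,
    bcCx_termwiseFiniteProjective B E hf, ⟨?_⟩⟩
  exact (lbcIso φ E).symm ≪≫ (DRing.LBaseChange φ).mapIso e

end Groth.Agent.Helper6.LBCPerf
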