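import Mathlib
import Groth.Prelude.Def_DTen6
import Groth.Agent.Helper6.TenCompute

set_option autoImplicit false

/-!
# The mixed derived tensor products are computed by K-flat complexes; the two legs into the
triple mixed derived tensor product are isomorphisms
-/

open CategoryTheory CategoryTheory.Limits DerivedCategory MonoidalCategory

universe u

attribute [local instance] HasDerivedCategory.standard

namespace Groth.Agent.Helper6.MixCompute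

open TenCx SplitIso

/-- the tensor product of two K-flat complexes is K-flat -/
lemma kflat_tensor {A : Type u} [CommRing A] {K K' : DRing.Cx A} (hK : KFlat K) (hK' : KFlat K') :
    KFlat (K ⊗ K') := by
  intro L hL
  have h1 : Acyc (L ⊗ K) := hK L hL
  have h2 : Acyc ((L ⊗ K) ⊗ K') := hK' _ h1
  exact acyc_of_iso (α_ L K K') h2

section Mix

variable {R A : Type u} [CommRing R] [CommRing A] (φ : R →+* A) [DTen.HasLTenMix φ]

/-- the mixed derived tensor product is computed as soon as the first complex is K-flat -/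
theorem isIso_εMix_of_kflat (K : DRing.Cx R) (L : DRing.Cx A) (hK : KFlat K) :
    IsIso ((DTen.εMix φ).app (K, L)) := by
  obtain ⟨P, f, hP, hPf, -, hf, -⟩ := KProjRes.exists_resolution K
  obtain ⟨P', f', hP', hPf', -, hf', -⟩ := KProjRes.exists_resolution L
  haveI := hP
  haveI := hP'
  haveI := isIso_εMix φ P P'
  have hn := (DTen.εMix φ).naturality (Prod.mkHom f f' : (P, P') ⟶ (K, L))
  haveI : IsIso (Q.map f) := by
    rw [DerivedCategory.isIso_Q_map_iff_quasiIso]; exact hf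
  haveI : IsIso (Q.map f') := by
    rw [DerivedCategory.isIso_Q_map_iff_quasiIso]; exact hf'
  haveI : IsIso ((DTen.QMix R A).map (Prod.mkHom f f' : (P, P') ⟶ (K, L))) :=
    (isIso_prod_iff _ _).mpr ⟨inferInstanceAs (IsIso (Q.map f)), inferInstanceAs (IsIso (Q.map f'))⟩
  haveI : IsIso ((DTen.QMix R A ⋙ DTen.LTenMix φ).map (Prod.mkHom f f' : (P, P') ⟶ (K, L))) := by
    rw [Functor.comp_map]
    infer_instance
  haveI : IsIso ((DTen.mix₂ φ).map (Prod.mkHom f f' : (P, P') ⟶ (K, L))) := by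
    show IsIso (Q.map ((DTen.mixT φ).map (Prod.mkHom f f' : (P, P') ⟶ (K, L))))
    rw [DerivedCategory.isIso_Q_map_iff_quasiIso, TenHtpy.mixT_map]
    show QuasiIso ((DTen.extCx φ).map f ⊗ₘ f')
    rw [MonoidalCategory.tensorHom_def]
    haveI := quasiIso_whiskerRight hPf' _ (ExtKFlat.quasiIso_ext_of_kflat φ f hPf hK hf)
    haveI := quasiIso_whiskerLeft (ExtKFlat.kflat_ext φ hK) f' hf'
    infer_instance
  have h2 : (DTen.εMix φ).app (K, L) =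
      inv ((DTen.QMix R A ⋙ DTen.LTenMix φ).map (Prod.mkHom f f' : (P, P') ⟶ (K, L))) ≫
        (DTen.εMix φ).app (P, P') ≫ (DTen.mix₂ φ).map (Prod.mkHom f f' : (P, P') ⟶ (K, L)) := by
    rw [← hn, IsIso.inv_hom_id_assoc]
  rw [h2]
  infer_instance

end Mix

section Triple

variable {A B C : Type u} [CommRing A] [CommRing B] [CommRing C] (φ : A →+* B) (ψ : B →+* C)

lemma mixT₃_map {X Y : DRing.Cx A × (DRing.Cx B × DRing.Cx C)} (f : X ⟶ Y) :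
    (DTen.mixT₃ φ ψ).map f =
      (DTen.extCx ψ).map ((DTen.extCx φ).map f.1 ⊗ₘ f.2.1) ⊗ₘ f.2.2 := by
  show (DTen.mixT ψ).map (Prod.mkHom ((DTen.mixT φ).map (Prod.mkHom f.1 f.2.1)) f.2.2) = _
  rw [TenHtpy.mixT_map, TenHtpy.mixT_map]

lemma htpyInv_mix₃ : ProdCounit3.HtpyInv₃ (DTen.mix₃ φ ψ) := by
  intro X Y f g ⟨h1⟩ ⟨h2⟩ ⟨h3⟩
  show Q.map ((DTen.mixT₃ φ ψ).map f) = Q.map ((DTen.mixT₃ φ ψ).map g)
  rw [mixT₃_map, mixT₃_map]
  exact KProjQ.Q_map_eq_of_homotopy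
    (TenHtpy.tensorHomHomotopy ((ModuleCat.extendScalars.{u, u, u} ψ).mapHomotopy
      (TenHtpy.tensorHomHomotopy ((ModuleCat.extendScalars.{u, u, u} φ).mapHomotopy h1) h2)) h3)

section

variable [DTen.HasLTenMix₃ φ ψ]

instance : (DTen.LTenMix₃ φ ψ).IsRightKanExtension (DTen.εMix₃ φ ψ) := by
  have h : ((DTen.mix₃ φ ψ).totalLeftDerived (DTen.QMix₃ A B C)
      (DTen.qisMix₃ A B C)).IsLeftDerivedFunctor
      ((DTen.mix₃ φ ψ).totalLeftDerivedCounit (DTen.QMix₃ A B C) (DTen.qisMix₃ A B C))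
      (DTen.qisMix₃ A B C) := inferInstance
  exact h.isRightKanExtension

theorem isIso_εMix₃ (P₁ : DRing.Cx A) (P₂ : DRing.Cx B) (P₃ : DRing.Cx C) [P₁.IsKProjective]
    [P₂.IsKProjective] [P₃.IsKProjective] : IsIso ((DTen.εMix₃ φ ψ).app (P₁, (P₂, P₃))) :=
  ProdCounit3.isIso_app (DTen.mix₃ φ ψ) (DTen.LTenMix₃ φ ψ) (DTen.εMix₃ φ ψ) P₁ P₂ P₃
    (htpyInv_mix₃ φ ψ)

end

theorem isIso_β₃L [DTen.HasLTenMix φ] [DTen.HasLTenMix ψ] (P₁ : DRing.Cx A) (P₂ : DRing.Cx B)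
    (P₃ : DRing.Cx C) (h₁ : KFlat P₁) (h₂ : KFlat P₂) :
    IsIso ((DTen.β₃L φ ψ).app (P₁, (P₂, P₃))) := by
  haveI := isIso_εMix_of_kflat φ P₁ P₂ h₁
  have hk : KFlat ((DTen.mixT φ).obj (P₁, P₂)) := kflat_tensor (ExtKFlat.kflat_ext φ h₁) h₂
  haveI := isIso_εMix_of_kflat ψ ((DTen.mixT φ).obj (P₁, P₂)) P₃ hk
  haveI : IsIso (Prod.mkHom ((DTen.εMix φ).app (P₁, P₂)) (𝟙 (DerivedCategory.Q.obj P₃))) :=
    (isIso_prod_iff _ _).mpr ⟨inferInstance, inferInstance⟩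
  show IsIso ((DTen.LTenMix ψ).map (Prod.mkHom ((DTen.εMix φ).app (P₁, P₂))
    (𝟙 (DerivedCategory.Q.obj P₃))) ≫ (DTen.εMix ψ).app ((DTen.mixT φ).obj (P₁, P₂), P₃))
  infer_instance

theorem isIso_β₃R [DTen.HasLTenMix ψ] [DTen.HasLTenMix (ψ.comp φ)] (P₁ : DRing.Cx A)
    (P₂ : DRing.Cx B) (P₃ : DRing.Cx C) (h₁ : KFlat P₁) (h₂ : KFlat P₂) :
    IsIso ((DTen.β₃R φ ψ).app (P₁, (P₂, P₃))) := by
  haveI := isIso_εMix_of_kflat ψ P₂ P₃ h₂
  haveI := isIso_εMix_of_kflat (ψ.comp φ) P₁ ((DTen.mixT ψ).obj (P₂, P₃)) h₁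
  haveI : IsIso (Prod.mkHom (𝟙 (DerivedCategory.Q.obj P₁)) ((DTen.εMix ψ).app (P₂, P₃))) :=
    (isIso_prod_iff _ _).mpr ⟨inferInstance, inferInstance⟩
  show IsIso ((DTen.LTenMix (ψ.comp φ)).map (Prod.mkHom (𝟙 (DerivedCategory.Q.obj P₁))
    ((DTen.εMix ψ).app (P₂, P₃))) ≫
    (DTen.εMix (ψ.comp φ)).app (P₁, (DTen.mixT ψ).obj (P₂, P₃)) ≫
      DerivedCategory.Q.map ((DTen.θ₃ φ ψ).inv.app (P₁, (P₂, P₃))))
  infer_instance

variable [DTen.HasLTenMix φ] [DTen.HasLTenMix ψ] [DTen.HasLTenMix (ψ.comp φ)]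
  [DTen.HasLTenMix₃ φ ψ]

theorem isIso_legs (E : Dual.D A) (F : Dual.D B) (G : Dual.D C) :
    IsIso ((DTen.leg₃L φ ψ).app (E, (F, G))) ∧ IsIso ((DTen.leg₃R φ ψ).app (E, (F, G))) := by
  obtain ⟨P₁, hP₁, hf₁, ⟨i₁⟩⟩ := exists_kproj_Q E
  obtain ⟨P₂, hP₂, hf₂, ⟨i₂⟩⟩ := exists_kproj_Q F
  obtain ⟨P₃, hP₃, hf₃, ⟨i₃⟩⟩ := exists_kproj_Q G
  haveI := hP₁
  haveI := hP₂
  haveI := hP₃
  haveI := isIso_εMix₃ φ ψ P₁ P₂ P₃
  have hL : IsIso ((DTen.leg₃L φ ψ).app ((DTen.QMix₃ A B C).obj (P₁, (P₂, P₃)))) := by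
    have hfac := DTen.leg₃L_fac φ ψ (P₁, (P₂, P₃))
    haveI := isIso_β₃L φ ψ P₁ P₂ P₃ hf₁ hf₂
    have h : (DTen.leg₃L φ ψ).app ((DTen.QMix₃ A B C).obj (P₁, (P₂, P₃))) =
        (DTen.β₃L φ ψ).app (P₁, (P₂, P₃)) ≫ inv ((DTen.εMix₃ φ ψ).app (P₁, (P₂, P₃))) := by
      rw [← hfac, Category.assoc, IsIso.hom_inv_id, Category.comp_id]
    rw [h]
    infer_instance
  have hR : IsIso ((DTen.leg₃R φ ψ).app ((DTen.QMix₃ A B C).obj (P₁, (P₂, P₃)))) := by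
    have hfac := DTen.leg₃R_fac φ ψ (P₁, (P₂, P₃))
    haveI := isIso_β₃R φ ψ P₁ P₂ P₃ hf₁ hf₂
    have h : (DTen.leg₃R φ ψ).app ((DTen.QMix₃ A B C).obj (P₁, (P₂, P₃))) =
        (DTen.β₃R φ ψ).app (P₁, (P₂, P₃)) ≫ inv ((DTen.εMix₃ φ ψ).app (P₁, (P₂, P₃))) := by
      rw [← hfac, Category.assoc, IsIso.hom_inv_id, Category.comp_id]
    rw [h]
    infer_instance
  exact ⟨(NatTrans.isIso_app_iff_of_iso (DTen.leg₃L φ ψ) (Iso.prod i₁ (Iso.prod i₂ i₃))).mp hL,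
    (NatTrans.isIso_app_iff_of_iso (DTen.leg₃R φ ψ) (Iso.prod i₁ (Iso.prod i₂ i₃))).mp hR⟩

end Triple

end Groth.Agent.Helper6.MixCompute
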