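import Mathlib
import Groth.Prelude.Def_DualSh
import Groth.Agent.S1820
import Groth.Agent.Helper9.RD4
import Groth.Agent.Helper6.HasLBC

/-!
# `φ^! = Lφ^*` for a flat epimorphism of finite type (e.g. an open immersion of affine schemes)
-/

set_option autoImplicit false
set_option linter.style.haveILetI false
set_option linter.unusedSectionVars false

universe u
open CategoryTheory CategoryTheory.Limits DerivedCategory TensorProduct MonoidalCategory
attribute [local instance] HasDerivedCategory.standard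

namespace Groth.Agent.Helper6.OpenShr
open Groth.Agent.Helper6 Groth.Agent.Helper9 AlgebraicGeometry

section unit

variable (A : Type u) [CommRing A]

/-- `- ⊗ 𝟙 ⋙ Q ≅ Q` -/
noncomputable def tensorUnitQIso :
    Q ⋙ 𝟭 (Dual.D A) ≅ DRing.tensorCxQ A (𝟙_ (DRing.Cx A)) :=
  Functor.rightUnitor _ ≪≫ (Functor.leftUnitor _).symm ≪≫
    Functor.isoWhiskerRight (rightUnitorNatIso (DRing.Cx A)).symm Q

instance isLeftDerived_id :
    (𝟭 (Dual.D A)).IsLeftDerivedFunctor (tensorUnitQIso A).hom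
      (HomologicalComplex.quasiIso (ModuleCat.{u} A) (ComplexShape.up ℤ)) :=
  Functor.isLeftDerivedFunctor_of_inverts _ _ _

instance hasLTensorCx_unit : DRing.HasLTensorCx A (𝟙_ (DRing.Cx A)) :=
  Functor.HasLeftDerivedFunctor.mk' (𝟭 (Dual.D A)) (tensorUnitQIso A).hom

/-- `- ⊗^L A[0] ≅ id` -/
noncomputable def ltensorUnitIso : DRing.LTensorCx A (𝟙_ (DRing.Cx A)) ≅ 𝟭 (Dual.D A) :=
  Functor.leftDerivedUnique _ _
    ((DRing.tensorCxQ A (𝟙_ (DRing.Cx A))).totalLeftDerivedCounit Q
      (HomologicalComplex.quasiIso (ModuleCat.{u} A) (ComplexShape.up ℤ)))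
    (tensorUnitQIso A).hom
    (HomologicalComplex.quasiIso (ModuleCat.{u} A) (ComplexShape.up ℤ))

end unit

section openImm

variable {R R' : Type u} [CommRing R] [CommRing R'] [Algebra R R']

theorem flat_of_isOpenImmersion
    (hopen : IsOpenImmersion (Spec.map (CommRingCat.ofHom (algebraMap R R')))) :
    Module.Flat R R' := by
  have h1 : Flat (Spec.map (CommRingCat.ofHom (algebraMap R R'))) := inferInstance
  have h2 := (HasRingHomProperty.Spec_iff (P := @Flat)).mp h1
  exact RingHom.flat_algebraMap_iff.mp h2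

theorem isEpi_of_isOpenImmersion
    (hopen : IsOpenImmersion (Spec.map (CommRingCat.ofHom (algebraMap R R')))) :
    Algebra.IsEpi R R' := by
  have hm : Mono (Spec.map (CommRingCat.ofHom (algebraMap R R'))) := inferInstance
  have : Epi (CommRingCat.ofHom (algebraMap R R')) := by
    refine ⟨fun {T} g h hgh => ?_⟩
    apply Spec.map_injective
    rw [← cancel_mono (Spec.map (CommRingCat.ofHom (algebraMap R R'))), ← Spec.map_comp,
      ← Spec.map_comp, hgh]
  exact CommRingCat.epi_iff_epi.mp this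

end openImm

section epi

variable (R A : Type u) [CommRing R] [CommRing A] [IsNoetherianRing R] [IsNoetherianRing A]
  [Algebra R A] [Module.Flat R A] [hepi : Algebra.IsEpi R A]
  (n : ℕ) (ψ : MvPolynomial (Fin n) R →ₐ[R] A) (hψ : Function.Surjective ψ)
  [DRing.HasLBaseChange (algebraMap R (MvPolynomial (Fin n) R))]
  (Rψ : Dual.D (MvPolynomial (Fin n) R) ⥤ Dual.D A) (adj : DRing.restrictD ψ.toRingHom ⊣ Rψ)

theorem lmul'_bijective : Function.Bijective (Algebra.TensorProduct.lmul' R (S := A)) := by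
  refine ⟨?_, fun a => ⟨a ⊗ₜ 1, by simp⟩⟩
  intro x y hxy
  exact hepi.injective_lift_mul hxy

include hψ adj in
/-- `φ^!(R) ≅ A` for a flat epimorphism of finite type -/
theorem shriek_unit_iso :
    Nonempty (Dual2.shriekVia n Rψ (Dual.inD R R) ≅ Dual.inD A A) := by
  obtain ⟨e, he⟩ : ∃ e : (A ⊗[R] A) ≃+* A,
      e.toRingHom = (Algebra.TensorProduct.lmul' R (S := A)).toRingHom :=
    ⟨RingEquiv.ofBijective (Algebra.TensorProduct.lmul' R (S := A)).toRingHom
      (lmul'_bijective R A), RingHom.ext fun _ => rfl⟩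
  haveI := HasLBC.hasLBaseChange (Algebra.TensorProduct.includeLeftRingHom : A →+* A ⊗[R] A)
  haveI := HasLBC.hasLBaseChange e.toRingHom
  haveI := HasLBC.hasLBaseChange (RingHom.id A)
  have a1 : DRing.restrictD e.toRingHom ⊣ DRing.restrictD e.symm.toRingHom :=
    (SV1.restrictDEquiv e).toAdjunction
  have adjμ : DRing.restrictD (Algebra.TensorProduct.lmul' R (S := A)).toRingHom ⊣
      DRing.restrictD e.symm.toRingHom := he ▸ a1
  obtain ⟨i1⟩ := RD4.main R A n ψ hψ Rψ adj _ adjμ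
  obtain ⟨i2⟩ := SV1.rightAdj_ringEquiv e a1
  obtain ⟨i3⟩ := SV1.lbc_comp (Algebra.TensorProduct.includeLeftRingHom : A →+* A ⊗[R] A)
    e.toRingHom (RingHom.id A) (by
      rw [he]
      ext a
      simp)
  obtain ⟨i4⟩ := SV1.lbc_id (RingHom.id A) rfl
  exact ⟨(i4.app _).symm ≪≫ i3.app _ ≪≫ (i2.app _).symm ≪≫ i1⟩

include hψ adj in
/-- `φ^!(K) ≅ K ⊗^L_R A` for a flat epimorphism of finite type -/
theorem shriek_iso_lbc [DRing.HasLBaseChange (algebraMap R A)] (K : Dual.D R) :
    Nonempty (Dual2.shriekVia n Rψ K ≅ (DRing.LBaseChange (algebraMap R A)).obj K) := by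
  obtain ⟨i5⟩ := shriek_unit_iso R A n ψ hψ Rψ adj
  have hW : Nonempty (DRing.toD (𝟙_ (DRing.Cx A)) ≅ Dual2.shriekVia n Rψ (Dual.inD R R)) :=
    ⟨i5.symm⟩
  obtain ⟨i6⟩ := Groth.Agent.S1820.result R A n ψ hψ Rψ adj (𝟙_ (DRing.Cx A)) hW K
  exact ⟨i6 ≪≫ (ltensorUnitIso A).app _⟩

end epi

end Groth.Agent.Helper6.OpenShr
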