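import Mathlib
import Groth.Prelude.Def_Disc
import Groth.Prelude.Def_DualSh
import Groth.Agent.Helper6.Coext4
import Groth.Agent.Helper6.OpenShr1
import Groth.Agent.Helper6.LocExt5
import Groth.Agent.Helper3.DRingPC2
import Groth.Agent.Helper3.DRingInjAmp
import Groth.Agent.Helper9.RD4
import Groth.Agent.Helper9.BR3
import Groth.Agent.S1799
import Groth.Agent.S1784

/-!
# `H^0` of the upper shriek of a finite map followed by an open immersion
-/

set_option autoImplicit false
set_option linter.style.haveILetI false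
set_option linter.unusedSectionVars false

universe u
open CategoryTheory CategoryTheory.Limits Pretriangulated DerivedCategory TensorProduct
attribute [local instance] HasDerivedCategory.standard

namespace Groth.Agent.Helper6.DiscShr
open Groth.Agent.Helper3.DRingLib Groth.Agent.Helper6.Coext Groth.Agent.Helper6.LocExt
  Groth.Agent.Helper6 Groth.Agent.Helper9 AlgebraicGeometry

section H0

variable {R : Type u} [CommRing R]

/-- `H^0` of a complex vanishing in degree `-1` is the kernel of `d^0` -/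
noncomputable def h0EquivKer (C : DRing.Cx R) (hC : IsZero (C.X (-1))) :
    Dual.HD R (DRing.toD C) 0 ≃ₗ[R] LinearMap.ker (C.d 0 1).hom :=
  (((homologyFunctorFactors (ModuleCat.{u} R) 0).app C) ≪≫
    (C.isoHomologyπ (-1) 0 (by simp) (hC.eq_of_src _ _)).symm ≪≫
    cyclesIsoKer C 0 1 (by norm_num)).toLinearEquiv

/-- the kernel of `d^0` of a model of `A[0]` is `A` -/
noncomputable def thetaEquiv (E : DRing.Cx R) (hE : IsZero (E.X (-1)))
    (e : DRing.toD E ≅ Dual.inD R R) : LinearMap.ker (E.d 0 1).hom ≃ₗ[R] R :=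
  (h0EquivKer E hE).symm ≪≫ₗ
    ((homologyFunctor (ModuleCat.{u} R) 0).mapIso e).toLinearEquiv ≪≫ₗ
    (HDinDIso (ModuleCat.of R R)).toLinearEquiv

end H0

section crux

variable {A B : Type u} [CommRing A] [CommRing B] [Algebra A B]

variable (E : DRing.Cx A) (θ : LinearMap.ker (E.d 0 1).hom ≃ₗ[A] A)

/-- the raw `A`-linear map `B_A → E^0` attached to a functional -/
noncomputable def toLin (ω : Disc.Omega A B) : BA (algebraMap A B) →ₗ[A] E.X 0 :=
  (LinearMap.ker (E.d 0 1).hom).subtype ∘ₗ θ.symm.toLinearMap ∘ₗ ω.toLinearMap ∘ₗ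
    (eBA (A := A) (B := B)).symm.toLinearMap

lemma toLin_apply (ω : Disc.Omega A B) (x : BA (algebraMap A B)) :
    toLin E θ ω x =
      ((θ.symm (ω.toLinearMap ((eBA (A := A) (B := B)).symm x)) :
        LinearMap.ker (E.d 0 1).hom) : E.X 0) := rfl

lemma d_comp_toLin (ω : Disc.Omega A B) : (E.d 0 1).hom ∘ₗ toLin E θ ω = 0 := by
  apply LinearMap.ext
  intro x
  exact LinearMap.mem_ker.mp (θ.symm (ω.toLinearMap ((eBA (A := A) (B := B)).symm x))).2

lemma toLin_add (ω ω' : Disc.Omega A B) :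
    toLin E θ (ω + ω') = toLin E θ ω + toLin E θ ω' := by
  apply LinearMap.ext
  intro x
  rw [LinearMap.add_apply, toLin_apply, toLin_apply, toLin_apply, Disc.Omega.add_toLinearMap,
    LinearMap.add_apply, map_add, Submodule.coe_add]

lemma toLin_smul (b : B) (ω : Disc.Omega A B) :
    toLin E θ (b • ω) = b • toLin E θ ω := by
  apply LinearMap.ext
  intro x
  obtain ⟨y, rfl⟩ := (eBA (A := A) (B := B)).surjective x
  have h0 : (b • toLin E θ ω) (eBA (A := A) (B := B) y) =
      toLin E θ ω (eBA (A := A) (B := B) (y * b)) := rfl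
  rw [h0, toLin_apply, toLin_apply, Disc.Omega.smul_toLinearMap_apply,
    LinearEquiv.symm_apply_apply, LinearEquiv.symm_apply_apply, mul_comm]

/-- the kernel of `d^0` on the coextended complex -/
noncomputable abbrev KerC : Submodule B (((cCx (algebraMap A B)).obj E).X 0) :=
  LinearMap.ker (((cCx (algebraMap A B)).obj E).d 0 1).hom

/-- from functionals to cocycles -/
noncomputable def omegaToKer (ω : Disc.Omega A B) : KerC (B := B) E :=
  ⟨(show ((cCx (algebraMap A B)).obj E).X 0 from toLin E θ ω), by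
    rw [LinearMap.mem_ker]
    exact d_comp_toLin E θ ω⟩

/-- the underlying linear map of a cocycle -/
noncomputable def kerLin (g : KerC (B := B) E) : BA (algebraMap A B) →ₗ[A] E.X 0 := g.1

lemma d_comp_kerLin (g : KerC (B := B) E) : (E.d 0 1).hom ∘ₗ kerLin E g = 0 :=
  LinearMap.mem_ker.mp g.2

/-- from cocycles to functionals -/
noncomputable def kerToOmega (g : KerC (B := B) E) : Disc.Omega A B :=
  ⟨θ.toLinearMap ∘ₗ LinearMap.codRestrict (LinearMap.ker (E.d 0 1).hom) (kerLin E g)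
      (fun x => LinearMap.mem_ker.mpr (LinearMap.congr_fun (d_comp_kerLin E g) x)) ∘ₗ
    (eBA (A := A) (B := B)).toLinearMap⟩

lemma kerLin_omegaToKer (ω : Disc.Omega A B) : kerLin E (omegaToKer E θ ω) = toLin E θ ω := rfl

lemma kerLin_injective : Function.Injective (kerLin (B := B) E) := fun _ _ h => Subtype.ext h

lemma kerLin_add (g g' : KerC (B := B) E) : kerLin E (g + g') = kerLin E g + kerLin E g' := rfl

lemma kerLin_smul (b : B) (g : KerC (B := B) E) : kerLin E (b • g) = b • kerLin E g := rfl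

/-- **`Hom_A(B, A) ≃ Z^0(Hom_A(B, E))`** -/
noncomputable def omegaEquivKer : Disc.Omega A B ≃ₗ[B] KerC (B := B) E where
  toFun := omegaToKer E θ
  invFun := kerToOmega E θ
  map_add' ω ω' := by
    apply kerLin_injective
    rw [kerLin_add, kerLin_omegaToKer, kerLin_omegaToKer, kerLin_omegaToKer, toLin_add]
  map_smul' b ω := by
    apply kerLin_injective
    rw [RingHom.id_apply, kerLin_smul, kerLin_omegaToKer, kerLin_omegaToKer, toLin_smul]
  left_inv ω := by
    apply Disc.Omega.ext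
    apply LinearMap.ext
    intro b
    show θ (⟨toLin E θ ω (eBA (A := A) (B := B) b), _⟩ : LinearMap.ker (E.d 0 1).hom) = _
    have h : (⟨toLin E θ ω (eBA (A := A) (B := B) b),
        LinearMap.mem_ker.mpr (LinearMap.congr_fun (d_comp_toLin E θ ω) _)⟩ :
        LinearMap.ker (E.d 0 1).hom) = θ.symm (ω.toLinearMap b) := Subtype.ext rfl
    rw [h, θ.apply_symm_apply]
  right_inv g := by
    apply kerLin_injective
    rw [kerLin_omegaToKer]
    apply LinearMap.ext
    intro x
    rw [toLin_apply]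
    show ((θ.symm (θ (⟨kerLin E g x, _⟩ : LinearMap.ker (E.d 0 1).hom)) :
      LinearMap.ker (E.d 0 1).hom) : E.X 0) = _
    rw [θ.symm_apply_apply]

variable [IsNoetherianRing A] [Module.Finite A B]

/-- **`H^0(RHom_A(B, A)) = Hom_A(B, A)`** for a finite algebra over a Noetherian ring -/
theorem nonempty_HD_coext_equiv (R' : Dual.D A ⥤ Dual.D B)
    (adjR : DRing.restrictD (algebraMap A B) ⊣ R') :
    Nonempty (Dual.HD B (R'.obj (Dual.inD A A)) 0 ≃ₗ[B] Disc.Omega A B) := by
  have h := isCoext_of_adj (algebraMap A B) R' adjR (Dual.inD A A)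
  obtain ⟨E, hE0, hKI, ⟨e⟩, ⟨i⟩⟩ := exists_model_of_isCoext (Dual.inD A A) 0
    (fun i hi => RD4.subsingleton_HD_inD_neg i hi) _ _ h
  have hE : IsZero (E.X (-1)) := hE0 (-1) (by norm_num)
  have hC : IsZero (((cCx (algebraMap A B)).obj E).X (-1)) :=
    Functor.map_isZero (cF (algebraMap A B)) hE
  exact ⟨((homologyFunctor (ModuleCat.{u} B) 0).mapIso i).toLinearEquiv.symm ≪≫ₗ
    h0EquivKer _ hC ≪≫ₗ (omegaEquivKer E (thetaEquiv E hE e)).symm⟩

end crux

section main

variable (A B B' : Type u) [CommRing A] [CommRing B] [CommRing B'] [IsNoetherianRing A]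
  [IsNoetherianRing B] [Algebra A B] [Algebra A B'] [Algebra B' B] [IsScalarTower A B' B]
  [Module.Finite A B']
  (hopen : IsOpenImmersion (Spec.map (CommRingCat.ofHom (algebraMap B' B))))
  (n : ℕ) (ψ : MvPolynomial (Fin n) A →ₐ[A] B) (hψ : Function.Surjective ψ)
  [DRing.HasLBaseChange (algebraMap A (MvPolynomial (Fin n) A))]
  (Rψ : Dual.D (MvPolynomial (Fin n) A) ⥤ Dual.D B) (adj : DRing.restrictD ψ.toRingHom ⊣ Rψ)

include hopen hψ adj in
theorem main : Nonempty (Dual.HD B (Dual2.shriekVia n Rψ (Dual.inD A A)) 0 ≃ₗ[B]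
    (B ⊗[B'] Disc.Omega A B')) := by
  haveI : IsNoetherianRing B' := IsNoetherianRing.of_finite A B'
  haveI : Module.Flat B' B := OpenShr.flat_of_isOpenImmersion hopen
  haveI : Algebra.IsEpi B' B := OpenShr.isEpi_of_isOpenImmersion hopen
  haveI hft : Algebra.FiniteType B' B := by
    have h1 : LocallyOfFiniteType (Spec.map (CommRingCat.ofHom (algebraMap B' B))) :=
      inferInstance
    have h2 := (HasRingHomProperty.Spec_iff (P := @LocallyOfFiniteType)).mp h1
    exact RingHom.finiteType_algebraMap.mp h2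
  haveI hft' : Algebra.FiniteType A B' := inferInstance
  obtain ⟨n₁, ψ₁, hψ₁⟩ := Algebra.FiniteType.iff_quotient_mvPolynomial''.mp hft'
  obtain ⟨m, χ, hχ⟩ := Algebra.FiniteType.iff_quotient_mvPolynomial''.mp hft
  haveI := HasLBC.hasLBaseChange (algebraMap A (MvPolynomial (Fin n₁) A))
  haveI := HasLBC.hasLBaseChange (algebraMap B' (MvPolynomial (Fin m) B'))
  haveI := HasLBC.hasLBaseChange (algebraMap B' B)
  haveI := BR3.isLeftAdjoint_restrictD ψ₁.toRingHom
  let Rψ₁ := (DRing.restrictD ψ₁.toRingHom).rightAdjoint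
  have adj₁ : DRing.restrictD ψ₁.toRingHom ⊣ Rψ₁ := Adjunction.ofIsLeftAdjoint _
  haveI := BR3.isLeftAdjoint_restrictD χ.toRingHom
  let Rχ := (DRing.restrictD χ.toRingHom).rightAdjoint
  have adjχ : DRing.restrictD χ.toRingHom ⊣ Rχ := Adjunction.ofIsLeftAdjoint _
  haveI := BR3.isLeftAdjoint_restrictD (algebraMap A B')
  let R' := (DRing.restrictD (algebraMap A B')).rightAdjoint
  have adjR : DRing.restrictD (algebraMap A B') ⊣ R' := Adjunction.ofIsLeftAdjoint _
  obtain ⟨e1⟩ := Groth.Agent.S1799.result A B' B n₁ ψ₁ hψ₁ Rψ₁ adj₁ m χ hχ Rχ adjχ n ψ hψ Rψ adj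
    (Dual.inD A A) 0 (fun i hi => RD4.subsingleton_HD_inD_neg i hi)
  obtain ⟨e2⟩ := Groth.Agent.S1784.result A B' n₁ ψ₁ hψ₁ Rψ₁ adj₁ R' adjR (Dual.inD A A)
  obtain ⟨e3⟩ := OpenShr.shriek_iso_lbc B' B m χ hχ Rχ adjχ (R'.obj (Dual.inD A A))
  let e2' : Dual2.shriekVia m Rχ (Dual2.shriekVia n₁ Rψ₁ (Dual.inD A A)) ≅
      Dual2.shriekVia m Rχ (R'.obj (Dual.inD A A)) :=
    (shiftFunctor (Dual.D B) (m : ℤ)).mapIso (Rχ.mapIso
      ((DRing.LBaseChange (algebraMap B' (MvPolynomial (Fin m) B'))).mapIso e2))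
  let e4 := lbcIsoBcD B' B (R'.obj (Dual.inD A A))
  obtain ⟨e5⟩ := nonempty_HD_bcD_equiv B (R'.obj (Dual.inD A A)) 0
  obtain ⟨e6⟩ := nonempty_HD_coext_equiv R' adjR
  let E := e1 ≪≫ e2' ≪≫ e3 ≪≫ e4
  exact ⟨((homologyFunctor (ModuleCat.{u} B) 0).mapIso E).toLinearEquiv ≪≫ₗ e5 ≪≫ₗ
    TensorProduct.AlgebraTensorModule.congr (LinearEquiv.refl B B) e6⟩

end main

end Groth.Agent.Helper6.DiscShr
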