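import Mathlib
import Groth.Prelude.Def_EtBase
import Groth.Prelude.Def_EtCore
import Groth.Prelude.Def_EtShriek2
import Groth.Agent.Helper4.ExtShiftR
import Groth.Agent.Helper9.ExtNat
import Groth.Agent.Helper9.EtJCont
import Groth.Agent.Helper9.EtPushInj
import Groth.Agent.Helper9.EtDisjGlue
import Groth.Agent.Helper6.GalDescC
import Groth.Agent.Helper6.GalDescD
import Groth.Agent.Helper6.GalDescE

/-! A cohomology class on a disjoint union of étale pieces vanishes if its restrictions do. -/

set_option autoImplicit false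
set_option linter.style.haveILetI false
set_option linter.unusedSectionVars false
set_option linter.unusedVariables false
set_option linter.unusedSimpArgs false

universe u

open CategoryTheory CategoryTheory.Limits Opposite AlgebraicGeometry Abelian

namespace Groth.Agent.Helper6.DisjCohA

open Groth.Agent.Helper9 Groth.Agent.Helper6.GalDescD Groth.Agent.Helper6.GalDescE

variable {X : Scheme.{u}} {μ : Type*} (U : μ → Scheme.{u}) (j : ∀ k, U k ⟶ X) [∀ k, Etale (j k)]

lemma πj_left_apply {V : Scheme.{u}} (i : V ⟶ X) [Etale i] (z : (jObj i).left) :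
    (πj i).left z = i z := by
  have h1 : (πj i).left ≫ (EtCoh.top X).hom = (jObj i).hom := MorphismProperty.Over.w (πj i)
  have h2 : (πj i).left = 𝟙 V ≫ i := (Category.comp_id _).symm.trans h1
  rw [h2, Category.id_comp]
  rfl

include U in
set_option backward.isDefEq.respectTransparency.types false in
theorem eq_zero_of_restr_eq_zero (hmono : ∀ k, Mono (j k))
    (hsurj : ∀ x : X, ∃ (k : μ) (z : U k), j k z = x)
    (hdisj : ∀ a b, a ≠ b → ∀ (za : U a) (zb : U b), j a za ≠ j b zb) :
    ∀ (n : ℕ) (F : EtCoh.Ab X) (α : Ext.{u + 1} (EtCoh.const X ℤ) F (n + 1)),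
      (∀ k, (α.mapExactFunctor (EtShriek.restrAlong (j k)) : Ext.{u + 1} _ _ (n + 1)) = 0) →
        α = 0
  | 0, F, α, hα => by
    have hS := ExtNat.sc_shortExact F
    obtain ⟨y, rfl⟩ := ExtNat.exists_comp_extClass α
    obtain ⟨s, rfl⟩ := (Ext.mk₀_bijective _ _).2 y
    let S := ExtNat.sc F
    -- local lifts
    have hloc : ∀ k, ∃ τ : S.X₂.obj.obj (op (jObj (j k))),
        (S.g.hom.app (op (jObj (j k)))).hom τ =
          (S.X₃.obj.map (πj (j k)).op).hom ((s.hom.app (op (EtCoh.top X))).hom (one X)) := by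
      intro k
      have hk := hα k
      rw [Ext.mapExactFunctor_comp, Ext.mapExactFunctor_extClass, Ext.mapExactFunctor_mk₀] at hk
      obtain ⟨z, hz⟩ := Ext.covariant_sequence_exact₃ _ (hS.map_of_exact (EtShriek.restrAlong (j k)))
        _ rfl hk
      obtain ⟨t, rfl⟩ := (Ext.mk₀_bijective _ _).2 z
      rw [Ext.mk₀_comp_mk₀] at hz
      have hz' : t ≫ (EtShriek.restrAlong (j k)).map S.g = (EtShriek.restrAlong (j k)).map s :=
        (Ext.mk₀_bijective _ _).1 hz
      refine ⟨(t.hom.app (op (EtCoh.top (U k)))).hom (oneJ (j := j k)), ?_⟩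
      have h1 := congrArg (fun w => (w.hom.app (op (EtCoh.top (U k)))).hom (oneJ (j := j k))) hz'
      refine h1.trans ?_
      exact NatTrans.naturality_apply s.hom (πj (j k)).op (one X)
    choose τ hτ using hloc
    have hmono' : ∀ k, Mono (πj (j k)) := fun k => by
      apply EtDisjGlue.mono_of_mono_left
      have h1 : (πj (j k)).left ≫ (EtCoh.top X).hom = (jObj (j k)).hom :=
        MorphismProperty.Over.w (πj (j k))
      have h2 : (πj (j k)).left = 𝟙 (U k) ≫ j k := (Category.comp_id _).symm.trans h1
      rw [h2, Category.id_comp]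
      exact hmono k
    have hsurj' : ∀ x : (EtCoh.top X).left, ∃ (k : μ) (z : (jObj (j k)).left),
        (πj (j k)).left z = x := by
      intro x
      obtain ⟨k, z, hz⟩ := hsurj x
      exact ⟨k, z, (πj_left_apply (j k) z).trans hz⟩
    have hdisj' : ∀ a b, a ≠ b → ∀ (za : (jObj (j a)).left) (zb : (jObj (j b)).left),
        (πj (j a)).left za ≠ (πj (j b)).left zb := by
      intro a b hab za zb
      rw [πj_left_apply, πj_left_apply]
      exact hdisj a b hab za zb
    obtain ⟨T, hT, -⟩ := EtDisjGlue.existsUnique_glue (fun k => jObj (j k)) (fun k => πj (j k))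
      hmono' hsurj' hdisj' (S.X₂.obj ⋙ forget AddCommGrpCat) (GalDescC.isSheaf_forget S.X₂) τ
    obtain ⟨T', -, hT'⟩ := EtDisjGlue.existsUnique_glue (fun k => jObj (j k)) (fun k => πj (j k))
      hmono' hsurj' hdisj' (S.X₃.obj ⋙ forget AddCommGrpCat) (GalDescC.isSheaf_forget S.X₃)
      (fun k => (S.X₃.obj.map (πj (j k)).op).hom ((s.hom.app (op (EtCoh.top X))).hom (one X)))
    have h1 : (S.g.hom.app (op (EtCoh.top X))).hom T = T' := by
      apply hT'
      intro k
      show (S.X₃.obj.map (πj (j k)).op).hom ((S.g.hom.app (op (EtCoh.top X))).hom T) = _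
      have hn := NatTrans.naturality_apply S.g.hom (πj (j k)).op T
      rw [← hn, ← hτ k]
      congr 1
      exact hT k
    have h2 : (s.hom.app (op (EtCoh.top X))).hom (one X) = T' := hT' _ (fun k => rfl)
    have hs : fromElt S.X₂ T ≫ S.g = s := by
      apply hom_ext_one
      rw [h2, ← h1]
      show (S.g.hom.app _).hom (((fromElt S.X₂ T).hom.app _).hom (one X)) = _
      rw [fromElt_one]
    exact Groth.Agent.Helper4.ExtShiftR.comp_extClass_eq_zero S hS (fromElt S.X₂ T) s hs
  | n + 1, F, α, hα => by
    have hS := ExtNat.sc_shortExact F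
    obtain ⟨y, rfl⟩ := ExtNat.exists_comp_extClass α
    have hy : y = 0 := by
      apply eq_zero_of_restr_eq_zero hmono hsurj hdisj n
      intro k
      have hk := hα k
      rw [Ext.mapExactFunctor_comp, Ext.mapExactFunctor_extClass] at hk
      obtain ⟨z, hz⟩ := Ext.covariant_sequence_exact₃ _ (hS.map_of_exact (EtShriek.restrAlong (j k)))
        _ rfl hk
      haveI : Injective ((ExtNat.sc F).map (EtShriek.restrAlong (j k))).X₂ :=
        EtPushInj.injective_restrAlong (j k) _
      have hz0 : z = 0 := Ext.eq_zero_of_injective _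
      rw [← hz, hz0, Ext.zero_comp]
      rfl
    rw [hy, Ext.zero_comp]

end Groth.Agent.Helper6.DisjCohA
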