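import Mathlib

/-! DVR of characteristic `p` with `[k : k^p] = p`: `R = ⊕_{i<p} π^i R^p`, and `Ω_R` free on `dπ`. -/

set_option autoImplicit false
universe u

namespace Groth.Agent.Helper6.DvrP

open Polynomial

variable (p : ℕ) [hp : Fact p.Prime] {R : Type u} [CommRing R] [IsDomain R]
  [IsDiscreteValuationRing R] [CharP R p] (π : R)

/-- `N c = Σ_{i<p} π^i c_i^p`. -/
def N (c : Fin p → R) : R := ∑ i : Fin p, π ^ (i : ℕ) * c i ^ p

omit [IsDomain R] [IsDiscreteValuationRing R] in
theorem N_add (c d : Fin p → R) : N p π (c + d) = N p π c + N p π d := by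
  unfold N
  rw [← Finset.sum_add_distrib]
  apply Finset.sum_congr rfl
  intro i _
  rw [Pi.add_apply, add_pow_char, mul_add]

omit [IsDomain R] [IsDiscreteValuationRing R] in
theorem N_sub (c d : Fin p → R) : N p π (c - d) = N p π c - N p π d := by
  unfold N
  rw [← Finset.sum_sub_distrib]
  apply Finset.sum_congr rfl
  intro i _
  rw [Pi.sub_apply, sub_pow_char, mul_sub]

omit [IsDomain R] [IsDiscreteValuationRing R] [CharP R p] hp in
theorem N_mul (a : R) (c : Fin p → R) : N p π (fun i => a * c i) = a ^ p * N p π c := by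
  unfold N
  rw [Finset.mul_sum]
  apply Finset.sum_congr rfl
  intro i _
  rw [mul_pow]; ring

variable {π}

omit [CharP R p] in
/-- Claim B. -/
theorem dvd_of_pow_dvd_N (hπ : Irreducible π) (c : Fin p → R) (h : π ^ p ∣ N p π c) :
    ∀ i : Fin p, π ∣ c i := by
  classical
  have hprime : Prime π := hπ.prime
  have key : ∀ n : ℕ, ∀ i : Fin p, (i : ℕ) = n → π ∣ c i := by
    intro n
    induction n using Nat.strong_induction_on with
    | _ n ih =>
      intro i hi
      have h1 : π ^ ((i : ℕ) + 1) ∣ N p π c := dvd_trans (pow_dvd_pow π i.2) h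
      have hsplit : N p π c = π ^ (i : ℕ) * c i ^ p +
          ∑ j ∈ Finset.univ.erase i, π ^ (j : ℕ) * c j ^ p := by
        unfold N
        exact (Finset.add_sum_erase _ (fun j : Fin p => π ^ (j : ℕ) * c j ^ p) (Finset.mem_univ i)).symm
      have h2 : π ^ ((i : ℕ) + 1) ∣ ∑ j ∈ Finset.univ.erase i, π ^ (j : ℕ) * c j ^ p := by
        apply Finset.dvd_sum
        intro j hj
        have hji : j ≠ i := (Finset.mem_erase.1 hj).1
        rcases lt_or_gt_of_ne (fun h => hji (Fin.ext h) : (j : ℕ) ≠ (i : ℕ)) with hlt | hgt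
        · have : π ∣ c j := ih j (hi ▸ hlt) j rfl
          have h3 : π ^ p ∣ c j ^ p := pow_dvd_pow_of_dvd this p
          exact dvd_mul_of_dvd_right (dvd_trans (pow_dvd_pow π i.2) h3) _
        · exact dvd_mul_of_dvd_left (pow_dvd_pow π hgt) _
      rw [hsplit] at h1
      have h4 : π ^ ((i : ℕ) + 1) ∣ π ^ (i : ℕ) * c i ^ p := (dvd_add_left h2).1 h1
      rw [pow_succ, mul_dvd_mul_iff_left (pow_ne_zero _ hπ.ne_zero)] at h4
      exact hprime.dvd_of_dvd_pow h4
  intro i
  exact key i i rfl

theorem eq_zero_of_forall_pow_dvd (hπ : Irreducible π) (x : R) (h : ∀ n : ℕ, π ^ n ∣ x) : x = 0 := by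
  by_contra hx
  obtain ⟨m, u, rfl⟩ := IsDiscreteValuationRing.eq_unit_mul_pow_irreducible hx hπ
  have h1 := h (m + 1)
  rw [pow_succ, mul_comm (u : R), mul_dvd_mul_iff_left (pow_ne_zero _ hπ.ne_zero)] at h1
  exact hπ.not_isUnit (isUnit_of_dvd_unit h1 u.isUnit)

theorem N_eq_zero (hπ : Irreducible π) (c : Fin p → R) (h : N p π c = 0) : c = 0 := by
  have key : ∀ n : ℕ, ∀ c : Fin p → R, N p π c = 0 → ∀ i, π ^ n ∣ c i := by
    intro n
    induction n with
    | zero => intro c _ i; simp
    | succ n ih =>
      intro c hc i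
      have hdiv := dvd_of_pow_dvd_N p hπ c (by rw [hc]; exact dvd_zero _)
      choose c' hc' using hdiv
      have h1 : N p π c = π ^ p * N p π c' := by
        rw [← N_mul]; congr 1; funext i; exact hc' i
      rw [hc] at h1
      have h2 : N p π c' = 0 := by
        rcases mul_eq_zero.1 h1.symm with h | h
        · exact absurd h (pow_ne_zero _ hπ.ne_zero)
        · exact h
      rw [hc' i, pow_succ, mul_comm]
      exact mul_dvd_mul_left _ (ih c' h2 i)
  funext i
  exact eq_zero_of_forall_pow_dvd hπ _ (fun n => key n c h i)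

theorem N_injective (hπ : Irreducible π) : Function.Injective (N p π) := by
  intro c d h
  have := N_eq_zero p hπ (c - d) (by rw [N_sub, h, sub_self])
  exact sub_eq_zero.1 this

theorem exists_of_pow_mul_eq (hπ : Irreducible π) (n : ℕ) :
    ∀ (c : Fin p → R) (r : R), π ^ (p * n) * r = N p π c → ∃ c' : Fin p → R, r = N p π c' := by
  induction n with
  | zero => intro c r h; exact ⟨c, by simpa using h⟩
  | succ n ih =>
    intro c r h
    have hdiv := dvd_of_pow_dvd_N p hπ c (by
      rw [← h, mul_add, mul_one, pow_add, mul_comm (π ^ (p * n)), mul_assoc]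
      exact Dvd.intro _ rfl)
    choose c' hc' using hdiv
    have h1 : N p π c = π ^ p * N p π c' := by
      rw [← N_mul]; congr 1; funext i; exact hc' i
    rw [h1, mul_add, mul_one, pow_add, mul_comm (π ^ (p * n)), mul_assoc] at h
    have h2 := mul_left_cancel₀ (pow_ne_zero _ hπ.ne_zero) h
    exact ih c' r h2


section frac

variable (kp : Subfield (FractionRing R))
  (hkp : ∀ x : FractionRing R, x ∈ kp ↔ ∃ y : FractionRing R, y ^ p = x)

include hkp in
theorem linearIndependent_pow (hπ : Irreducible π) :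
    LinearIndependent kp (fun i : Fin p => (algebraMap R (FractionRing R) π) ^ (i : ℕ)) := by
  classical
  rw [Fintype.linearIndependent_iff]
  intro g hg i
  have hex : ∀ i, ∃ a : FractionRing R, a ^ p = (g i : FractionRing R) := fun i =>
    (hkp _).1 (g i).2
  choose a ha using hex
  obtain ⟨s, hs⟩ := IsLocalization.exist_integer_multiples_of_finite (nonZeroDivisors R) a
  choose b hb using hs
  have hs0 : algebraMap R (FractionRing R) (s : R) ≠ 0 := by
    intro h
    exact nonZeroDivisors.ne_zero s.2 ((IsFractionRing.injective R (FractionRing R))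
      (by rw [h, map_zero]))
  have h1 : algebraMap R (FractionRing R) (N p π b) = 0 := by
    unfold N
    rw [map_sum]
    have : ∀ i : Fin p, algebraMap R (FractionRing R) (π ^ (i : ℕ) * b i ^ p) =
        (algebraMap R (FractionRing R) (s : R)) ^ p *
          (g i • (algebraMap R (FractionRing R) π) ^ (i : ℕ)) := by
      intro i
      rw [map_mul, map_pow, map_pow, hb i, Algebra.smul_def, mul_pow, Subfield.smul_def,
        smul_eq_mul, ← ha i]
      ring
    simp_rw [this]
    rw [← Finset.mul_sum, hg, mul_zero]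
  have h2 : N p π b = 0 := (IsFractionRing.injective R (FractionRing R)) (by rw [h1, map_zero])
  have h3 : b = 0 := N_eq_zero p hπ b h2
  have h4 : a i = 0 := by
    have := hb i
    rw [h3, Pi.zero_apply, map_zero, Algebra.smul_def] at this
    exact (mul_eq_zero.1 this.symm).resolve_left hs0
  have h5 : (g i : FractionRing R) = 0 := by
    rw [← ha i, h4, zero_pow (hp.out.ne_zero)]
  exact Subtype.ext h5

include hkp in
theorem exists_frac_decomp (hdeg : Module.finrank kp (FractionRing R) = p) (hπ : Irreducible π)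
    (x : FractionRing R) :
    ∃ a : Fin p → FractionRing R,
      x = ∑ i : Fin p, (algebraMap R (FractionRing R) π) ^ (i : ℕ) * a i ^ p := by
  classical
  have hli := linearIndependent_pow p kp hkp hπ
  let B := basisOfLinearIndependentOfCardEqFinrank hli (by rw [Fintype.card_fin, hdeg])
  have hB : ∀ i, B i = (algebraMap R (FractionRing R) π) ^ (i : ℕ) := fun i => by
    simp [B]
  have hex : ∀ i, ∃ a : FractionRing R, a ^ p = (B.repr x i : FractionRing R) := fun i =>
    (hkp _).1 (B.repr x i).2
  choose a ha using hex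
  refine ⟨a, ?_⟩
  conv_lhs => rw [← B.sum_repr x]
  apply Finset.sum_congr rfl
  intro i _
  rw [hB, Subfield.smul_def, smul_eq_mul, ha, mul_comm]

include hkp in
theorem exists_decomp (hdeg : Module.finrank kp (FractionRing R) = p) (hπ : Irreducible π)
    (r : R) : ∃ c : Fin p → R, r = N p π c := by
  classical
  obtain ⟨a, ha⟩ := exists_frac_decomp p kp hkp hdeg hπ (algebraMap R (FractionRing R) r)
  obtain ⟨s, hs⟩ := IsLocalization.exist_integer_multiples_of_finite (nonZeroDivisors R) a
  choose b hb using hs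
  have hs0 : (s : R) ≠ 0 := nonZeroDivisors.ne_zero s.2
  -- s^p * r = N b
  have h1 : (s : R) ^ p * r = N p π b := by
    apply IsFractionRing.injective R (FractionRing R)
    unfold N
    rw [map_mul, map_pow, ha, map_sum, Finset.mul_sum]
    apply Finset.sum_congr rfl
    intro i _
    rw [map_mul, map_pow, map_pow, hb i, Algebra.smul_def, mul_pow]
    ring
  obtain ⟨n, u, hsu⟩ := IsDiscreteValuationRing.eq_unit_mul_pow_irreducible hs0 hπ
  have h2 : π ^ (p * n) * r = N p π (fun i => ((u⁻¹ : Rˣ) : R) * b i) := by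
    rw [N_mul, ← h1, hsu, mul_pow, ← mul_assoc, ← mul_assoc, ← mul_pow, Units.inv_mul, one_pow,
      one_mul, ← pow_mul, mul_comm n p]
  exact exists_of_pow_mul_eq p hπ n _ r h2

end frac


section deriv

variable (π)

/-- `Φ(Σ a_j X^j) = Σ a_j^p π^j`. -/
noncomputable def Phi : R[X] →+* R := Polynomial.eval₂RingHom (frobenius R p) π

omit [IsDomain R] [IsDiscreteValuationRing R] in
theorem Phi_apply (P : R[X]) : Phi p π P = Polynomial.eval₂ (frobenius R p) π P := rfl

omit [IsDomain R] [IsDiscreteValuationRing R] in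
theorem Phi_lowdeg (P : R[X]) (hP : P.natDegree < p) :
    Phi p π P = N p π (fun i => P.coeff i) := by
  rw [Phi_apply, Polynomial.eval₂_eq_sum_range' _ hP, Finset.sum_range]
  unfold N
  apply Finset.sum_congr rfl
  intro i _
  rw [frobenius_def, mul_comm]

omit [IsDomain R] [IsDiscreteValuationRing R] in
theorem Phi_q : Phi p π (X ^ p - C π) = 0 := by
  rw [Phi_apply, Polynomial.eval₂_sub, Polynomial.eval₂_pow, Polynomial.eval₂_X,
    Polynomial.eval₂_C, frobenius_def, sub_self]

variable {π}

theorem Phi_derivative_eq_zero (hπ : Irreducible π) (P : R[X]) (hP : Phi p π P = 0) :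
    Phi p π (derivative P) = 0 := by
  have hq : (X ^ p - C π : R[X]).Monic := monic_X_pow_sub_C π hp.out.ne_zero
  have hdecomp := Polynomial.modByMonic_add_div P (X ^ p - C π)
  set P₀ := P %ₘ (X ^ p - C π) with hP₀
  set Q := P /ₘ (X ^ p - C π) with hQ
  have h1 : Phi p π P₀ = 0 := by
    have := congrArg (Phi p π) hdecomp
    rw [map_add, map_mul, Phi_q, zero_mul, add_zero, hP] at this
    exact this
  have hdeg : P₀.natDegree < p := by
    by_cases h0 : P₀ = 0
    · rw [h0, natDegree_zero]; exact hp.out.pos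
    · have := Polynomial.degree_modByMonic_lt P hq
      rw [degree_X_pow_sub_C hp.out.pos] at this
      exact (Polynomial.natDegree_lt_iff_degree_lt h0).2 this
  have h2 : (fun i : Fin p => P₀.coeff i) = 0 := by
    apply N_eq_zero p hπ
    rw [← Phi_lowdeg p π P₀ hdeg, h1]
  have h3 : P₀ = 0 := by
    ext i
    rw [coeff_zero]
    by_cases hi : i < p
    · exact congrFun h2 ⟨i, hi⟩
    · exact coeff_eq_zero_of_natDegree_lt (lt_of_lt_of_le hdeg (not_lt.1 hi))
  rw [h3, zero_add] at hdecomp
  rw [← hdecomp, derivative_mul, map_add, map_mul, map_mul, Phi_q, zero_mul, add_zero,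
    derivative_sub, derivative_C, sub_zero, derivative_X_pow, CharP.cast_eq_zero, map_zero,
    zero_mul, map_zero, zero_mul]

theorem Phi_surjective (kp : Subfield (FractionRing R))
    (hkp : ∀ x : FractionRing R, x ∈ kp ↔ ∃ y : FractionRing R, y ^ p = x)
    (hdeg : Module.finrank kp (FractionRing R) = p) (hπ : Irreducible π) :
    Function.Surjective (Phi p π) := by
  intro r
  obtain ⟨c, hc⟩ := exists_decomp p kp hkp hdeg hπ r
  refine ⟨∑ i : Fin p, C (c i) * X ^ (i : ℕ), ?_⟩
  rw [hc, map_sum]
  unfold N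
  apply Finset.sum_congr rfl
  intro i _
  rw [Phi_apply, Polynomial.eval₂_mul, Polynomial.eval₂_C, Polynomial.eval₂_pow,
    Polynomial.eval₂_X, frobenius_def, mul_comm]


/-- The derivation `∂/∂π` of `R`. -/
theorem exists_derivation (kp : Subfield (FractionRing R))
    (hkp : ∀ x : FractionRing R, x ∈ kp ↔ ∃ y : FractionRing R, y ^ p = x)
    (hdeg : Module.finrank kp (FractionRing R) = p) (hπ : Irreducible π) :
    ∃ δ : Derivation ℤ R R, δ π = 1 := by
  classical
  have hsurj := Phi_surjective p kp hkp hdeg hπ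
  have hker := Phi_derivative_eq_zero p hπ
  choose σ hσ using hsurj
  let d : R → R := fun r => Phi p π (derivative (σ r))
  have hd : ∀ P : R[X], d (Phi p π P) = Phi p π (derivative P) := by
    intro P
    have h0 : Phi p π (σ (Phi p π P) - P) = 0 := by rw [map_sub, hσ, sub_self]
    have := hker _ h0
    rw [derivative_sub, map_sub, sub_eq_zero] at this
    exact this
  have hadd : ∀ a b, d (a + b) = d a + d b := by
    intro a b
    obtain ⟨P, rfl⟩ : ∃ P, Phi p π P = a := ⟨σ a, hσ a⟩
    obtain ⟨Q, rfl⟩ : ∃ Q, Phi p π Q = b := ⟨σ b, hσ b⟩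
    rw [← map_add, hd, hd, hd, derivative_add, map_add]
  have hmul : ∀ a b, d (a * b) = a * d b + b * d a := by
    intro a b
    obtain ⟨P, rfl⟩ : ∃ P, Phi p π P = a := ⟨σ a, hσ a⟩
    obtain ⟨Q, rfl⟩ : ∃ Q, Phi p π Q = b := ⟨σ b, hσ b⟩
    rw [← map_mul, hd, hd, hd, derivative_mul, map_add, map_mul, map_mul]
    ring
  have hzero : d 0 = 0 := by
    have := hadd 0 0
    rw [add_zero] at this
    exact left_eq_add.mp this
  have hone : d 1 = 0 := by
    have := hd 1
    rw [map_one, derivative_one, map_zero] at this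
    exact this
  let dAdd : R →+ R := { toFun := d, map_zero' := hzero, map_add' := hadd }
  let δ : Derivation ℤ R R :=
    { toLinearMap := dAdd.toIntLinearMap
      map_one_eq_zero' := hone
      leibniz' := fun a b => by
        show d (a * b) = a • d b + b • d a
        rw [hmul, smul_eq_mul, smul_eq_mul] }
  refine ⟨δ, ?_⟩
  show d π = 1
  have := hd X
  rw [Phi_apply, Polynomial.eval₂_X, derivative_X, Phi_apply, Polynomial.eval₂_one] at this
  exact this

omit [IsDomain R] [IsDiscreteValuationRing R] in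
theorem D_N_mem (c : Fin p → R) :
    ∃ r : R, KaehlerDifferential.D ℤ R (N p π c) = r • KaehlerDifferential.D ℤ R π := by
  classical
  unfold N
  refine ⟨∑ i : Fin p, c i ^ p * ((i : ℕ) * π ^ ((i : ℕ) - 1)), ?_⟩
  rw [map_sum, Finset.sum_smul]
  apply Finset.sum_congr rfl
  intro i _
  rw [Derivation.leibniz, Derivation.leibniz_pow, Derivation.leibniz_pow]
  have h0 : (p : ℕ) • (c i ^ (p - 1) • KaehlerDifferential.D ℤ R (c i)) = 0 := by
    rw [← Nat.cast_smul_eq_nsmul R, CharP.cast_eq_zero, zero_smul]
  rw [h0, smul_zero, zero_add, ← Nat.cast_smul_eq_nsmul R, smul_smul, smul_smul, mul_assoc]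

theorem bijective_smul_D (kp : Subfield (FractionRing R))
    (hkp : ∀ x : FractionRing R, x ∈ kp ↔ ∃ y : FractionRing R, y ^ p = x)
    (hdeg : Module.finrank kp (FractionRing R) = p) (hπ : Irreducible π) :
    Function.Bijective (fun r : R => r • KaehlerDifferential.D ℤ R π) := by
  constructor
  · obtain ⟨δ, hδ⟩ := exists_derivation p kp hkp hdeg hπ
    intro a b hab
    have := congrArg δ.liftKaehlerDifferential hab
    simp only [map_smul, Derivation.liftKaehlerDifferential_comp_D, hδ, smul_eq_mul,
      mul_one] at this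
    exact this
  · intro ω
    have hω : ω ∈ Submodule.span R (Set.range (KaehlerDifferential.D ℤ R)) := by
      rw [KaehlerDifferential.span_range_derivation]; trivial
    induction hω using Submodule.span_induction with
    | mem x hx =>
      obtain ⟨r, rfl⟩ := hx
      obtain ⟨c, rfl⟩ := exists_decomp p kp hkp hdeg hπ r
      obtain ⟨r', hr'⟩ := D_N_mem p (π := π) c
      exact ⟨r', hr'.symm⟩
    | zero => exact ⟨0, zero_smul _ _⟩
    | add x y _ _ hx hy =>
      obtain ⟨a, rfl⟩ := hx
      obtain ⟨b, rfl⟩ := hy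
      exact ⟨a + b, add_smul _ _ _⟩
    | smul a x _ hx =>
      obtain ⟨b, rfl⟩ := hx
      exact ⟨a * b, mul_smul _ _ _⟩

end deriv

end Groth.Agent.Helper6.DvrP
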