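import Groth.Prelude.Def_AlgSpMor5
import Groth.Agent.Helper4.AlgSpPtsDesc
import Groth.Agent.Helper4.AlgSpPB
import Groth.Agent.Helper4.AlgSpDiag
import Groth.Agent.Helper4.AlgSpLocP2
import Groth.Agent.Helper4.AlgSpLocPBC
import Groth.Agent.Helper4.AlgSpLocPComp
import Groth.Agent.Helper4.SDClasses
import Groth.Agent.Helper5.AlgSpProper
import Groth.Agent.Helper5.DvrProper
import Mathlib

/-!
# Helper6: separatedness via uniqueness in the valuative criterion for discrete valuation rings
-/

set_option autoImplicit false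
universe u
open CategoryTheory CategoryTheory.Limits AlgebraicGeometry Opposite

namespace Groth.Agent.Helper6.DvrSep

open AlgSp Groth.Agent.Helper4.AlgSpPtsDesc Groth.Agent.Helper4.SDClasses

variable {S : Scheme.{u}}

theorem isLocNoethSp_of_locP_lft {X Y : Sp S} (hX : IsAlgSpace X) (f : X ⟶ Y)
    (hf : LocP @LocallyOfFiniteType f) (hY : IsLocNoethSp Y) : IsLocNoethSp X := by
  obtain ⟨V, v, hve, hvs, hVn⟩ := hY
  obtain ⟨U, u, hue, hus⟩ := hX.atlas
  obtain ⟨E, e, c, hee, hes, h1, h2, h3, -⟩ :=
    Groth.Agent.Helper4.AlgSpLocP2.exists_chart f u hue hus v hve hvs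
  have hl : LocallyOfFiniteType c.left := hf _ v c h1 hve h3
  have hVn' : IsLocallyNoetherian V.left := hVn
  exact ⟨E, _, h1, h2, LocallyOfFiniteType.isLocallyNoetherian c.left⟩

set_option backward.isDefEq.respectTransparency.types false in
/-- S10064, the converse direction -/
theorem isSeparatedMor_of_dvr_uniq {X Y : Sp S} (hX : IsAlgSpace X) (hY : IsAlgSpace Y) (f : X ⟶ Y)
    (hqs : IsQuasiSeparatedMor f) (hft : LocP @LocallyOfFiniteType f) (hYn : IsLocNoethSp Y)
    (H : ∀ sq : ValSq f, IsDiscreteValuationRing sq.A → sq.HasUniq) : IsSeparatedMor f := by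
  apply Groth.Agent.Helper5.AlgSpProper.isSeparatedMor_of_diagonal_univClosed hX f
  have sqD : IsPullback (pullback.fst f f) (pullback.snd f f) f f := IsPullback.of_hasPullback f f
  have hD : IsAlgSpace (pullback f f) :=
    Groth.Agent.Helper4.AlgSpPB.isAlgSpace_of_isPullback hY.diag hX hX f f _ _ sqD
  have hG := good_lft.{u}
  have hsnd : LocP @LocallyOfFiniteType (pullback.snd f f) := by
    have := hG.bc
    have := hG.comp
    exact Groth.Agent.Helper4.AlgSpLocPBC.locP_of_isPullback @LocallyOfFiniteType hG.etale_le hG.sd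
      hX hY f f _ _ sqD hft
  have hDY : LocP @LocallyOfFiniteType (pullback.snd f f ≫ f) :=
    Groth.Agent.Helper4.AlgSpLocPComp.locP_comp _ hG hX _ f hsnd hft
  obtain ⟨T₀, q, hqe, hqs', hTn⟩ := isLocNoethSp_of_locP_lft hD _ hDY hYn
  haveI : IsLocallyNoetherian T₀.left := hTn
  obtain ⟨h1, h2, h3, -⟩ := Groth.Agent.Helper4.AlgSpDiag.diagonal_properties hX f
  have hr := h1.rep
  have sq : IsPullback (hr.fst q) ((yon S).map (hr.snd q)) (pullback.diagonal f) q :=
    hr.isPullback q
  refine univClosed_descend hD.diag hqe hqs' sq ?_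
  haveI e1 : LocallyOfFiniteType (hr.snd q).left := h1.property _ _ _ sq
  haveI e2 : Mono (hr.snd q).left := h2.property _ _ _ sq
  haveI e3 : QuasiCompact (hr.snd q).left := hqs.property _ _ _ sq
  generalize hr.snd q = e at sq e1 e2 e3
  generalize hr.fst q = t at sq
  apply isUnivClosedMor_of_repWith
  rw [repWith_yon_map_iff]
  apply Groth.Agent.Helper5.DvrProper.universallyClosed_of_dvrExistence
  intro A _ _ hdvr x y hxy
  let jA : Spec (CommRingCat.of (FractionRing A)) ⟶ Spec (CommRingCat.of A) :=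
    Spec.map (CommRingCat.ofHom (algebraMap A (FractionRing A)))
  let yo : Over.mk (y ≫ T₀.hom) ⟶ T₀ := Over.homMk y rfl
  have hxw : x ≫ (hr.pullback q).hom = jA ≫ y ≫ T₀.hom := by
    rw [← Over.w e, ← Category.assoc, hxy, Category.assoc]
  let xo : Over.mk (jA ≫ y ≫ T₀.hom) ⟶ hr.pullback q := Over.homMk x hxw
  let jo : Over.mk (jA ≫ y ≫ T₀.hom) ⟶ Over.mk (y ≫ T₀.hom) := Over.homMk jA rfl
  have hxc : xo ≫ e = jo ≫ yo := by
    ext
    exact hxy
  let b : (yon S).obj (Over.mk (y ≫ T₀.hom)) ⟶ pullback f f := (yon S).map yo ≫ q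
  let l₁ := b ≫ pullback.fst f f
  let l₂ := b ≫ pullback.snd f f
  let top := (yon S).map xo ≫ t
  have htop : top ≫ pullback.diagonal f = (yon S).map jo ≫ b := by
    calc ((yon S).map xo ≫ t) ≫ pullback.diagonal f
        = (yon S).map xo ≫ (t ≫ pullback.diagonal f) := by simp only [Category.assoc]
      _ = ((yon S).map xo ≫ (yon S).map e) ≫ q := by rw [sq.w]; simp only [Category.assoc]
      _ = _ := by
        rw [← Functor.map_comp, hxc, Functor.map_comp]
        simp only [Category.assoc]
        rfl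
  have h₁ : (yon S).map jo ≫ l₁ = top := by
    calc (yon S).map jo ≫ b ≫ pullback.fst f f = ((yon S).map jo ≫ b) ≫ pullback.fst f f := by
          simp only [Category.assoc]
      _ = top := by rw [← htop, Category.assoc, pullback.diagonal_fst, Category.comp_id]
  have h₂ : (yon S).map jo ≫ l₂ = top := by
    calc (yon S).map jo ≫ b ≫ pullback.snd f f = ((yon S).map jo ≫ b) ≫ pullback.snd f f := by
          simp only [Category.assoc]
      _ = top := by rw [← htop, Category.assoc, pullback.diagonal_snd, Category.comp_id]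
  let sqf : ValSq f :=
    { A := A, K := FractionRing A, str := y ≫ T₀.hom, top := top, bot := l₁ ≫ f,
      comm := by rw [← h₁, Category.assoc] }
  have h12 : l₁ = l₂ := H sqf hdvr l₁ l₂ h₁ rfl h₂ (by
    change (b ≫ pullback.snd f f) ≫ f = (b ≫ pullback.fst f f) ≫ f
    simp only [Category.assoc, pullback.condition])
  have hb : l₁ ≫ pullback.diagonal f = (yon S).map yo ≫ q := by
    apply pullback.hom_ext
    · rw [Category.assoc, pullback.diagonal_fst, Category.comp_id]
    · rw [Category.assoc, pullback.diagonal_snd, Category.comp_id]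
      exact h12
  obtain ⟨lo, hlo⟩ := (yon S).map_surjective (sq.lift l₁ ((yon S).map yo) hb)
  have hle : lo ≫ e = yo := (yon S).map_injective (by
    rw [Functor.map_comp, hlo]
    exact sq.lift_snd _ _ _)
  have hle' : lo.left ≫ e.left = y := congrArg (fun k => k.left) hle
  refine ⟨lo.left, hle', ?_⟩
  rw [← cancel_mono e.left, Category.assoc, hle', hxy]

end Groth.Agent.Helper6.DvrSep
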