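import Mathlib

set_option autoImplicit false
universe u
open CategoryTheory
open scoped TensorProduct

namespace Groth.Agent.Helper6.EW

variable (K : Type u) [Field K]
  (L : FGModuleCat.{u} K ⥤ ModuleCat.{u} K) [L.Additive] [Functor.Linear K L]

/-- the unit object -/
abbrev one : FGModuleCat.{u} K := FGModuleCat.of K K

variable {K}

/-- `1 ↦ v` -/
noncomputable def ev (V : FGModuleCat.{u} K) (v : V) : one K ⟶ V :=
  (FGModuleCat.ofHom (LinearMap.toSpanSingleton K V v) : FGModuleCat.of K K ⟶ V)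

theorem ev_apply (V : FGModuleCat.{u} K) (v : V) (c : K) : (ev V v).hom.hom c = c • v := rfl

theorem ev_add (V : FGModuleCat.{u} K) (v w : V) : ev V (v + w) = ev V v + ev V w := by
  apply FGModuleCat.hom_ext
  apply LinearMap.ext
  intro c
  change c • (v + w) = c • v + c • w
  rw [smul_add]

theorem ev_smul (V : FGModuleCat.{u} K) (a : K) (v : V) : ev V (a • v) = a • ev V v := by
  apply FGModuleCat.hom_ext
  apply LinearMap.ext
  intro c
  change c • (a • v) = a • (c • v)
  rw [smul_comm]

theorem ev_comp {V W : FGModuleCat.{u} K} (f : V ⟶ W) (v : V) :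
    ev V v ≫ f = ev W (f.hom.hom v) := by
  apply FGModuleCat.hom_ext
  apply LinearMap.ext
  intro c
  change f.hom.hom (c • v) = c • f.hom.hom v
  rw [map_smul]

/-- the bilinear map `L(K) × V → L(V)` -/
noncomputable def β (V : FGModuleCat.{u} K) : (L.obj (one K)) →ₗ[K] V →ₗ[K] (L.obj V) :=
  LinearMap.mk₂ K (fun x v => (L.map (ev V v)).hom x)
    (fun x y v => map_add _ x y)
    (fun c x v => map_smul _ c x)
    (fun x v w => by
      change (L.map (ev V (v + w))).hom x = _
      rw [ev_add, Functor.map_add, ModuleCat.hom_add, LinearMap.add_apply])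
    (fun c x v => by
      change (L.map (ev V (c • v))).hom x = _
      rw [ev_smul, Functor.map_smul, ModuleCat.hom_smul, LinearMap.smul_apply])

theorem β_apply (V : FGModuleCat.{u} K) (x : L.obj (one K)) (v : V) :
    β L V x v = (L.map (ev V v)).hom x := rfl

/-- coordinate maps -/
noncomputable def co (V : FGModuleCat.{u} K) {n : ℕ} (b : Module.Basis (Fin n) K V) (i : Fin n) :
    V ⟶ one K :=
  (FGModuleCat.ofHom (b.coord i) : FGModuleCat.of K V ⟶ FGModuleCat.of K K)

theorem co_apply (V : FGModuleCat.{u} K) {n : ℕ} (b : Module.Basis (Fin n) K V) (i : Fin n) (v : V) :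
    (co V b i).hom.hom v = b.coord i v := rfl

theorem sum_co_ev (V : FGModuleCat.{u} K) {n : ℕ} (b : Module.Basis (Fin n) K V) :
    ∑ i, co V b i ≫ ev V (b i) = 𝟙 V := by
  apply FGModuleCat.hom_ext
  apply LinearMap.ext
  intro v
  have h : ∀ (s : Finset (Fin n)), (∑ i ∈ s, co V b i ≫ ev V (b i)).hom.hom v =
      ∑ i ∈ s, (b.coord i v) • b i := by
    intro s
    induction s using Finset.induction_on with
    | empty => rfl
    | insert a s ha ih =>
      rw [Finset.sum_insert ha, Finset.sum_insert ha, ← ih]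
      rfl
  rw [h]
  exact b.sum_repr v

theorem ev_co (V : FGModuleCat.{u} K) {n : ℕ} (b : Module.Basis (Fin n) K V) (i : Fin n) (v : V) :
    ev V v ≫ co V b i = (b.coord i v) • 𝟙 (one K) := by
  apply FGModuleCat.hom_ext
  apply LinearMap.ext
  intro c
  change b.coord i (c • v) = (b.coord i v) • c
  rw [map_smul, smul_eq_mul, smul_eq_mul, mul_comm]

/-- the inverse map -/
noncomputable def θ (V : FGModuleCat.{u} K) {n : ℕ} (b : Module.Basis (Fin n) K V) :
    (L.obj V) →ₗ[K] (L.obj (one K)) ⊗[K] V :=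
  ∑ i, ((TensorProduct.mk K (L.obj (one K)) V).flip (b i)).comp (L.map (co V b i)).hom

theorem θ_apply (V : FGModuleCat.{u} K) {n : ℕ} (b : Module.Basis (Fin n) K V) (y : L.obj V) :
    θ L V b y = ∑ i, ((L.map (co V b i)).hom y) ⊗ₜ[K] b i := by
  rw [θ, LinearMap.sum_apply]
  rfl

theorem lift_θ (V : FGModuleCat.{u} K) {n : ℕ} (b : Module.Basis (Fin n) K V) (y : L.obj V) :
    TensorProduct.lift (β L V) (θ L V b y) = y := by
  rw [θ_apply, map_sum]
  have h1 : ∀ i, TensorProduct.lift (β L V) (((L.map (co V b i)).hom y) ⊗ₜ[K] b i) =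
      (L.map (co V b i ≫ ev V (b i))).hom y := by
    intro i
    rw [TensorProduct.lift.tmul, β_apply, Functor.map_comp]
    rfl
  rw [Finset.sum_congr rfl (fun i _ => h1 i)]
  have h2 : (L.map (∑ i, co V b i ≫ ev V (b i))).hom y =
      ∑ i, (L.map (co V b i ≫ ev V (b i))).hom y := by
    rw [Functor.map_sum, ModuleCat.hom_sum, LinearMap.sum_apply]
  rw [← h2, sum_co_ev, L.map_id]
  rfl

theorem θ_lift (V : FGModuleCat.{u} K) {n : ℕ} (b : Module.Basis (Fin n) K V)
    (t : (L.obj (one K)) ⊗[K] V) :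
    θ L V b (TensorProduct.lift (β L V) t) = t := by
  induction t using TensorProduct.induction_on with
  | zero => simp
  | add x y hx hy => rw [map_add, map_add, hx, hy]
  | tmul x v =>
    rw [TensorProduct.lift.tmul, β_apply, θ_apply]
    have h1 : ∀ i, ((L.map (co V b i)).hom ((L.map (ev V v)).hom x)) ⊗ₜ[K] b i =
        x ⊗ₜ[K] ((b.coord i v) • b i) := by
      intro i
      have : (L.map (co V b i)).hom ((L.map (ev V v)).hom x) =
          (L.map (ev V v ≫ co V b i)).hom x := by
        rw [Functor.map_comp]; rfl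
      rw [this, ev_co, Functor.map_smul, L.map_id, ModuleCat.hom_smul, LinearMap.smul_apply,
        TensorProduct.smul_tmul]
      rfl
    rw [Finset.sum_congr rfl (fun i _ => h1 i), ← TensorProduct.tmul_sum]
    congr 1
    exact b.sum_repr v

/-- the component equivalence -/
noncomputable def equiv (V : FGModuleCat.{u} K) : ((L.obj (one K)) ⊗[K] V) ≃ₗ[K] (L.obj V) :=
  LinearEquiv.ofLinear (TensorProduct.lift (β L V)) (θ L V (Module.finBasis K V))
    (LinearMap.ext (lift_θ L V _)) (LinearMap.ext (θ_lift L V _))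

theorem equiv_tmul (V : FGModuleCat.{u} K) (x : L.obj (one K)) (v : V) :
    equiv L V (x ⊗ₜ[K] v) = (L.map (ev V v)).hom x := rfl

theorem main :
    Nonempty (L ≅ (ModuleCat.isFG.{u} K).ι ⋙ MonoidalCategory.tensorLeft (L.obj (FGModuleCat.of K K))) := by
  refine ⟨(NatIso.ofComponents (fun V => (equiv L V).toModuleIso) ?_).symm⟩
  intro V W f
  apply ModuleCat.hom_ext
  apply TensorProduct.ext'
  intro x v
  change equiv L W (x ⊗ₜ[K] f.hom.hom v) = (L.map f).hom (equiv L V (x ⊗ₜ[K] v))
  rw [equiv_tmul, equiv_tmul, ← ev_comp, L.map_comp]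
  rfl

end Groth.Agent.Helper6.EW
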