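import Mathlib
import Groth.Agent.Helper6.IsoGen

set_option backward.isDefEq.respectTransparency false
set_option backward.isDefEq.respectTransparency.types false

namespace Groth.Agent.Helper6.EWMod1

open CategoryTheory Limits TensorProduct

universe u

variable {A B : Type u} [CommRing A] [CommRing B]

/-- `a ↦ a • m` as a morphism `A ⟶ M` -/
noncomputable abbrev hat (M : ModuleCat.{u} A) (m : M) : ModuleCat.of A A ⟶ M :=
  ModuleCat.ofHom (LinearMap.toSpanSingleton A M m)

theorem hat_add (M : ModuleCat.{u} A) (m m' : M) : hat M (m + m') = hat M m + hat M m' := by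
  apply ModuleCat.hom_ext
  refine LinearMap.ext_ring ?_
  simp

theorem hat_zero (M : ModuleCat.{u} A) : hat M (0 : M) = 0 := by
  apply ModuleCat.hom_ext
  refine LinearMap.ext_ring ?_
  simp

theorem hat_comp {M N : ModuleCat.{u} A} (f : M ⟶ N) (m : M) : hat M m ≫ f = hat N (f m) := by
  apply ModuleCat.hom_ext
  refine LinearMap.ext_ring ?_
  simp

theorem hat_smul (M : ModuleCat.{u} A) (a : A) (m : M) :
    hat (ModuleCat.of A A) a ≫ hat M m = hat M (a • m) := by
  apply ModuleCat.hom_ext
  refine LinearMap.ext_ring ?_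
  simp

theorem hat_one : hat (ModuleCat.of A A) (1 : A) = 𝟙 _ := by
  apply ModuleCat.hom_ext
  refine LinearMap.ext_ring ?_
  simp

theorem smul_id_eq_hat (a : A) : a • 𝟙 (ModuleCat.of A A) = hat (ModuleCat.of A A) a := by
  apply ModuleCat.hom_ext
  refine LinearMap.ext_ring ?_
  simp

theorem additive_of_pfc (F : ModuleCat.{u} A ⥤ ModuleCat.{u} B) [PreservesFiniteColimits F] :
    F.Additive := by
  haveI : F.PreservesZeroMorphisms := Functor.preservesZeroMorphisms_of_preserves_initial_object
  haveI := preservesBinaryBiproducts_of_preservesBinaryCoproducts F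
  exact Functor.additive_of_preservesBinaryBiproducts F

variable (F : ModuleCat.{u} A ⥤ ModuleCat.{u} B) [F.Additive]

/-- the `A`-action on `F(A)` by functoriality -/
noncomputable def ρ : A →+* Module.End B (F.obj (ModuleCat.of A A)) where
  toFun a := (F.map (hat (ModuleCat.of A A) a)).hom
  map_one' := by rw [hat_one, F.map_id]; rfl
  map_mul' a b := by
    have : hat (ModuleCat.of A A) (a * b) = hat _ b ≫ hat _ a := by
      rw [hat_smul]
      congr 1
      exact mul_comm a b
    rw [this, F.map_comp]; rfl
  map_zero' := by rw [hat_zero, F.map_zero]; rfl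
  map_add' a b := by rw [hat_add, F.map_add]; rfl

@[instance_reducible]
noncomputable def modA : Module A (F.obj (ModuleCat.of A A)) := Module.compHom _ (ρ F)

attribute [local instance] modA

theorem smul_def (a : A) (k : F.obj (ModuleCat.of A A)) :
    a • k = (F.map (hat (ModuleCat.of A A) a)).hom k := rfl

theorem smulComm : SMulCommClass A B (F.obj (ModuleCat.of A A)) :=
  ⟨fun a b k => by
    show (ρ F a) (b • k) = b • (ρ F a) k
    exact map_smul _ _ _⟩

attribute [local instance] smulComm

noncomputable def β (M : ModuleCat.{u} A) : (F.obj (ModuleCat.of A A)) →+ M →+ (F.obj M) :=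
  AddMonoidHom.mk' (fun k => AddMonoidHom.mk' (fun m => (F.map (hat M m)).hom k)
    (fun m m' => by rw [hat_add, F.map_add]; rfl))
    (fun k k' => by ext m; simp)

noncomputable def η₀ (M : ModuleCat.{u} A) : (F.obj (ModuleCat.of A A)) ⊗[A] M →+ F.obj M :=
  TensorProduct.liftAddHom (β F M) (fun a k m => by
    show (F.map (hat M m)).hom (a • k) = (F.map (hat M (a • m))).hom k
    rw [smul_def, ← hat_smul, F.map_comp]; rfl)

@[simp] theorem η₀_tmul (M : ModuleCat.{u} A) (k : F.obj (ModuleCat.of A A)) (m : M) :
    η₀ F M (k ⊗ₜ m) = (F.map (hat M m)).hom k := by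
  simp [η₀, β]

noncomputable def ηlin (M : ModuleCat.{u} A) :
    (F.obj (ModuleCat.of A A)) ⊗[A] M →ₗ[B] F.obj M where
  toFun := η₀ F M
  map_add' := map_add _
  map_smul' b x := by
    induction x using TensorProduct.induction_on with
    | zero => simp
    | tmul k m => simp [TensorProduct.smul_tmul']
    | add x y hx hy => simp only [smul_add, map_add, hx, hy]

@[simp] theorem ηlin_apply (M : ModuleCat.{u} A) (x) : ηlin F M x = η₀ F M x := rfl

theorem η_nat {M N : ModuleCat.{u} A} (f : M ⟶ N) (x : (F.obj (ModuleCat.of A A)) ⊗[A] M) :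
    η₀ F N (LinearMap.lTensor _ f.hom x) = (F.map f).hom (η₀ F M x) := by
  induction x using TensorProduct.induction_on with
  | zero => simp
  | tmul k m =>
    simp only [LinearMap.lTensor_tmul, η₀_tmul]
    rw [← hat_comp, F.map_comp]; rfl
  | add x y hx hy => simp only [map_add, hx, hy]

noncomputable def KA : ModuleCat.{u} A := ModuleCat.of A (F.obj (ModuleCat.of A A))

noncomputable def τ : (MonoidalCategory.tensorLeft (KA F) ⋙ forget₂ (ModuleCat.{u} A) AddCommGrpCat.{u}) ⟶
    (F ⋙ forget₂ (ModuleCat.{u} B) AddCommGrpCat.{u}) where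
  app M := AddCommGrpCat.ofHom (η₀ F M)
  naturality M N f := by
    ext x
    exact η_nat F f x

theorem η₀_A_bij : Function.Bijective (η₀ F (ModuleCat.of A A)) := by
  have : ⇑(η₀ F (ModuleCat.of A A)) = ⇑(TensorProduct.rid A (F.obj (ModuleCat.of A A))) := by
    funext x
    induction x using TensorProduct.induction_on with
    | zero => simp
    | tmul k a =>
      rw [η₀_tmul, TensorProduct.rid_tmul, smul_def]
    | add x y hx hy => simp only [map_add, hx, hy]
  rw [this]; exact (TensorProduct.rid A _).bijective

theorem η₀_bij [PreservesFiniteColimits F]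
    (hsum : ∀ J : Type u, PreservesColimitsOfShape (Discrete J) F) (M : ModuleCat.{u} A) :
    Function.Bijective (η₀ F M) := by
  haveI : IsIso ((τ F).app (ModuleCat.of A A)) :=
    (ConcreteCategory.isIso_iff_bijective _).mpr (η₀_A_bij F)
  haveI := IsoGen.isIso_app_of_all (τ F) (fun I => inferInstance)
    (fun I => by haveI := hsum I; infer_instance) M
  exact (ConcreteCategory.isIso_iff_bijective ((τ F).app M)).mp inferInstance

theorem η₀_bij_fp [PreservesFiniteColimits F] (M : ModuleCat.{u} A)
    [Module.FinitePresentation A M] : Function.Bijective (η₀ F M) := by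
  haveI : IsIso ((τ F).app (ModuleCat.of A A)) :=
    (ConcreteCategory.isIso_iff_bijective _).mpr (η₀_A_bij F)
  haveI := IsoGen.isIso_app_of_fp (τ F) M
  exact (ConcreteCategory.isIso_iff_bijective ((τ F).app M)).mp inferInstance

noncomputable def ηe [PreservesFiniteColimits F]
    (hsum : ∀ J : Type u, PreservesColimitsOfShape (Discrete J) F) (M : ModuleCat.{u} A) :
    ((F.obj (ModuleCat.of A A)) ⊗[A] M) ≃ₗ[B] F.obj M :=
  LinearEquiv.ofBijective (ηlin F M) (η₀_bij F hsum M)

@[simp] theorem ηe_apply [PreservesFiniteColimits F]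
    (hsum : ∀ J : Type u, PreservesColimitsOfShape (Discrete J) F) (M : ModuleCat.{u} A) (x) :
    ηe F hsum M x = η₀ F M x := rfl

end Groth.Agent.Helper6.EWMod1
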