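import Mathlib
import Groth.Agent.Helper6.EWMod1

set_option backward.isDefEq.respectTransparency false
set_option backward.isDefEq.respectTransparency.types false

namespace Groth.Agent.Helper6.EWMod2

open CategoryTheory Limits TensorProduct
open Groth.Agent.Helper6.EWMod1

universe u

variable {A B : Type u} [CommRing A] [CommRing B]
variable (F F' : ModuleCat.{u} A ⥤ ModuleCat.{u} B) [F.Additive] [F'.Additive]

attribute [local instance] modA smulComm

section RLin
open scoped ModuleCat.Algebra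
variable (R : Type u) [CommRing R] [Algebra R A] [Algebra R B] [F.Linear R]

theorem r_compat (r : R) (x : F.obj (ModuleCat.of A A)) :
    algebraMap R A r • x = algebraMap R B r • x := by
  have h := F.map_smul r (𝟙 (ModuleCat.of A A))
  have key : F.map (hat (ModuleCat.of A A) (algebraMap R A r)) = r • F.map (𝟙 _) := by
    rw [← h]
    congr 1
    apply ModuleCat.hom_ext
    refine LinearMap.ext_ring ?_
    simp
    show algebraMap R A r = algebraMap R A r • (1 : A)
    simp
  rw [smul_def, key, F.map_id]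
  rfl

end RLin

theorem nat_ext [PreservesFiniteColimits F]
    (hsum : ∀ J : Type u, PreservesColimitsOfShape (Discrete J) F)
    (t t' : F ⟶ F') (h : t.app (ModuleCat.of A A) = t'.app (ModuleCat.of A A)) : t = t' := by
  ext M x
  obtain ⟨y, rfl⟩ := (η₀_bij F hsum M).2 x
  induction y using TensorProduct.induction_on with
  | zero => simp
  | tmul k m =>
    rw [η₀_tmul]
    have e1 := congrArg (fun g => g.hom k) (t.naturality (hat M m))
    have e2 := congrArg (fun g => g.hom k) (t'.naturality (hat M m))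
    simp only [ModuleCat.hom_comp, LinearMap.comp_apply] at e1 e2
    exact e1.trans ((congrArg (fun g => (F'.map (hat M m)).hom (g.hom k)) h).trans e2.symm)
  | add x y hx hy => simp only [map_add, hx, hy]

variable {F F'}

/-- `A`-linear version of `φ` -/
noncomputable def φA (φ : F.obj (ModuleCat.of A A) ⟶ F'.obj (ModuleCat.of A A))
    (hφ : ∀ a : A, F.map (hat _ a) ≫ φ = φ ≫ F'.map (hat _ a)) :
    (F.obj (ModuleCat.of A A)) →ₗ[A] (F'.obj (ModuleCat.of A A)) where
  toFun := φ.hom
  map_add' := map_add _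
  map_smul' a k := by
    have := congrArg (fun g => g.hom k) (hφ a)
    simp only [ModuleCat.hom_comp, LinearMap.comp_apply] at this
    exact this

@[simp] theorem φA_apply (φ : F.obj (ModuleCat.of A A) ⟶ F'.obj (ModuleCat.of A A))
    (hφ : ∀ a : A, F.map (hat _ a) ≫ φ = φ ≫ F'.map (hat _ a)) (k) :
    φA φ hφ k = φ.hom k := rfl

noncomputable def rT (ψ : (F.obj (ModuleCat.of A A)) →ₗ[A] (F'.obj (ModuleCat.of A A)))
    (hψ : ∀ (b : B) k, ψ (b • k) = b • ψ k) (M : ModuleCat.{u} A) :
    (F.obj (ModuleCat.of A A)) ⊗[A] M →ₗ[B] (F'.obj (ModuleCat.of A A)) ⊗[A] M where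
  toFun := LinearMap.rTensor M ψ
  map_add' := map_add _
  map_smul' b y := by
    induction y using TensorProduct.induction_on with
    | zero => simp
    | tmul k m => simp [TensorProduct.smul_tmul', hψ]
    | add x y hx hy => simp only [smul_add, map_add, hx, hy]

variable [PreservesFiniteColimits F]
  (hsum : ∀ J : Type u, PreservesColimitsOfShape (Discrete J) F)
  (φ : F.obj (ModuleCat.of A A) ⟶ F'.obj (ModuleCat.of A A))
  (hφ : ∀ a : A, F.map (hat _ a) ≫ φ = φ ≫ F'.map (hat _ a))

noncomputable def tLin (M : ModuleCat.{u} A) : F.obj M →ₗ[B] F'.obj M :=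
  (ηlin F' M) ∘ₗ (rT (φA φ hφ) (fun b k => map_smul φ.hom b k) M) ∘ₗ
    (ηe F hsum M).symm.toLinearMap

theorem tLin_η (M : ModuleCat.{u} A) (y : (F.obj (ModuleCat.of A A)) ⊗[A] M) :
    tLin hsum φ hφ M (η₀ F M y) = η₀ F' M (LinearMap.rTensor M (φA φ hφ) y) := by
  have : (ηe F hsum M).symm (η₀ F M y) = y := (ηe F hsum M).symm_apply_apply y
  show η₀ F' M (LinearMap.rTensor M (φA φ hφ) ((ηe F hsum M).symm (η₀ F M y))) = _
  rw [this]

noncomputable def tNat : F ⟶ F' where
  app M := ModuleCat.ofHom (tLin hsum φ hφ M)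
  naturality M N f := by
    ext x
    obtain ⟨y, rfl⟩ := (η₀_bij F hsum M).2 x
    show tLin hsum φ hφ N ((F.map f).hom (η₀ F M y)) =
      (F'.map f).hom (tLin hsum φ hφ M (η₀ F M y))
    rw [← η_nat, tLin_η, tLin_η, ← η_nat]
    congr 1
    have h1 := LinearMap.congr_fun (LinearMap.rTensor_comp_lTensor _ (φA φ hφ) f.hom) y
    have h2 := LinearMap.congr_fun (LinearMap.lTensor_comp_rTensor _ (φA φ hφ) f.hom) y
    simp only [LinearMap.comp_apply] at h1 h2
    rw [h1, h2]

theorem tNat_app_A : (tNat hsum φ hφ).app (ModuleCat.of A A) = φ := by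
  ext x
  have hx : x = η₀ F (ModuleCat.of A A) (x ⊗ₜ (1 : A)) := by
    rw [η₀_tmul, hat_one, F.map_id]; rfl
  show tLin hsum φ hφ _ x = φ.hom x
  conv_lhs => rw [hx]
  rw [tLin_η, LinearMap.rTensor_tmul, η₀_tmul, hat_one, F'.map_id]
  rfl

include hsum in
theorem exists_nat_iff :
    (∃ t : F ⟶ F', t.app (ModuleCat.of A A) = φ) ↔
      ∀ a : A, F.map (hat _ a) ≫ φ = φ ≫ F'.map (hat _ a) := by
  constructor
  · rintro ⟨t, rfl⟩ a
    exact t.naturality _
  · intro hφ
    exact ⟨tNat hsum φ hφ, tNat_app_A hsum φ hφ⟩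

end Groth.Agent.Helper6.EWMod2
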