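import Groth.Prelude.Def_EssDim
import Mathlib

/-!
# Essential dimension does not increase under base field extension
-/

set_option autoImplicit false
set_option linter.style.haveILetI false
set_option linter.unusedSectionVars false
set_option linter.unusedVariables false

namespace Groth.Agent.Helper6.EdBC

open CategoryTheory Opposite AlgebraicGeometry

universe w u

section Field

variable {k K L : Type u} [Field k] [Field K] [Field L] [Algebra k K] [Algebra K L]
    [Algebra k L] [IsScalarTower k K L]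

/-- the inclusion of an intermediate field `E` of `L/k` into an intermediate field `KE` of `L/K`
containing it -/
noncomputable def incl (E : IntermediateField k L) (KE : IntermediateField K L)
    (h : ∀ x : E, (x : L) ∈ KE) : E →ₐ[k] KE where
  toFun x := ⟨x, h x⟩
  map_one' := rfl
  map_mul' _ _ := rfl
  map_zero' := rfl
  map_add' _ _ := rfl
  commutes' _ := Subtype.ext rfl

theorem incl_coe (E : IntermediateField k L) (KE : IntermediateField K L)
    (h : ∀ x : E, (x : L) ∈ KE) (x : E) : ((incl E KE h x : KE) : L) = x := rfl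

theorem incl_injective (E : IntermediateField k L) (KE : IntermediateField K L)
    (h : ∀ x : E, (x : L) ∈ KE) : Function.Injective (incl E KE h) := by
  intro a b hab
  apply Subtype.ext
  have := congrArg (fun z : KE => (z : L)) hab
  exact this

theorem trdeg_le (E : IntermediateField k L) (KE : IntermediateField K L)
    (hEKE : ∀ x : E, (x : L) ∈ KE)
    (hle : ∀ x ∈ KE, x ∈ IntermediateField.adjoin K (E : Set L)) :
    Algebra.trdeg K KE ≤ Algebra.trdeg k E := by
  obtain ⟨ι, hι⟩ : ∃ ι : E →ₐ[k] KE, ι = incl E KE hEKE := ⟨_, rfl⟩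
  have hιc : ∀ x : E, ((ι x : KE) : L) = x := fun x => by rw [hι]; rfl
  have hιinj : Function.Injective ι := hι ▸ incl_injective E KE hEKE
  obtain ⟨s, hs⟩ := exists_isTranscendenceBasis k E
  have halgE := hs.isAlgebraic
  rw [← hs.cardinalMk_eq_trdeg]
  obtain ⟨s', hs'⟩ : ∃ s' : Set KE, s' = ι '' s := ⟨_, rfl⟩
  have hcard : Cardinal.mk s' ≤ Cardinal.mk s := hs' ▸ Cardinal.mk_image_le
  refine le_trans ?_ hcard
  haveI : Algebra.IsAlgebraic (Algebra.adjoin K s') KE := by
    obtain ⟨F₀, hF₀⟩ : ∃ F₀ : Subalgebra K KE, F₀ = Algebra.adjoin K s' := ⟨_, rfl⟩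
    rw [← hF₀]
    obtain ⟨R₀, hR₀⟩ : ∃ R₀ : Subalgebra k E,
        R₀ = Algebra.adjoin k (Set.range ((↑) : s → E)) := ⟨_, rfl⟩
    rw [← hR₀] at halgE
    have hmem' : ∀ r ∈ Algebra.adjoin k (Set.range ((↑) : s → E)), ι r ∈ F₀ := by
      intro r hr
      induction hr using Algebra.adjoin_induction with
      | mem x hx =>
        obtain ⟨⟨y, hy⟩, rfl⟩ := hx
        rw [hF₀, hs']
        exact Algebra.subset_adjoin ⟨y, hy, rfl⟩
      | algebraMap a =>
        rw [ι.commutes, IsScalarTower.algebraMap_apply k K KE]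
        exact F₀.algebraMap_mem _
      | add x y _ _ hx hy => rw [map_add]; exact F₀.add_mem hx hy
      | mul x y _ _ hx hy => rw [map_mul]; exact F₀.mul_mem hx hy
    have hmem : ∀ r : R₀, ι (r : E) ∈ F₀ := fun r => hmem' r (hR₀ ▸ r.2)
    obtain ⟨φ, hφ⟩ : ∃ φ : R₀ →+* F₀, ∀ r, ((φ r : F₀) : KE) = ι (r : E) :=
      ⟨((ι : E →+* KE).comp R₀.val.toRingHom).codRestrict F₀ hmem, fun r => rfl⟩
    have hφinj : Function.Injective φ := by
      intro a b hab
      have := congrArg (fun z : F₀ => (z : KE)) hab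
      simp only [hφ] at this
      exact Subtype.ext (hιinj this)
    have hEalg : ∀ e : E, IsAlgebraic F₀ (ι e) := fun e =>
      IsAlgebraic.ringHom_of_comp_eq φ (ι : E →+* KE) (halgE.isAlgebraic e) hφinj
        (RingHom.ext fun r => hφ r)
    have hge : ∀ x ∈ IntermediateField.adjoin K (E : Set L), x ∈ KE :=
      IntermediateField.adjoin_le_iff.2 (fun x hx => hEKE ⟨x, hx⟩)
    have key : ∀ x (hx : x ∈ IntermediateField.adjoin K (E : Set L)) (h : x ∈ KE),
        IsAlgebraic F₀ (⟨x, h⟩ : KE) := by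
      intro x hx
      induction hx using IntermediateField.adjoin_induction with
      | mem x hx =>
        intro h
        have : (⟨x, h⟩ : KE) = ι ⟨x, hx⟩ := Subtype.ext (hιc ⟨x, hx⟩).symm
        rw [this]
        exact hEalg ⟨x, hx⟩
      | algebraMap a =>
        intro h
        have : (⟨algebraMap K L a, h⟩ : KE) = algebraMap F₀ KE (algebraMap K F₀ a) :=
          Subtype.ext rfl
        rw [this]
        exact isAlgebraic_algebraMap _
      | add x y hx hy ihx ihy =>
        intro h
        have hx' := hge x hx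
        have hy' := hge y hy
        have : (⟨x + y, h⟩ : KE) = ⟨x, hx'⟩ + ⟨y, hy'⟩ := rfl
        rw [this]
        exact (ihx hx').add (ihy hy')
      | inv x hx ih =>
        intro h
        have hx' := hge x hx
        have : (⟨x⁻¹, h⟩ : KE) = (⟨x, hx'⟩ : KE)⁻¹ := rfl
        rw [this]
        exact (ih hx').inv
      | mul x y hx hy ihx ihy =>
        intro h
        have hx' := hge x hx
        have hy' := hge y hy
        have : (⟨x * y, h⟩ : KE) = ⟨x, hx'⟩ * ⟨y, hy'⟩ := rfl
        rw [this]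
        exact (ihx hx').mul (ihy hy')
    constructor
    rintro ⟨y, hy⟩
    exact key y (hle y hy) hy
  exact Algebra.IsAlgebraic.trdeg_le_cardinalMk K s'

end Field

section Cat

variable {k K : Type u} [Field k] [Field K] [Algebra k K]

/-- the base change functor on `Over` categories -/
noncomputable abbrev bc (k K : Type u) [Field k] [Field K] [Algebra k K] :
    Over (Spec (CommRingCat.of K)) ⥤ Over (Spec (CommRingCat.of k)) :=
  Over.map (Spec.map (CommRingCat.ofHom (algebraMap k K)))

/-- `Spec M` over `K` pushed to `k` is `Spec M` over `k` -/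
noncomputable def phi (M : Type u) [Field M] [Algebra K M] [Algebra k M] [IsScalarTower k K M] :
    (bc k K).obj (SGA7.pt (K := K) M) ≅ SGA7.pt (K := k) M :=
  Over.isoMk (Iso.refl _) (by
    show 𝟙 _ ≫ Spec.map (CommRingCat.ofHom (algebraMap k M)) =
      Spec.map (CommRingCat.ofHom (algebraMap K M)) ≫
        Spec.map (CommRingCat.ofHom (algebraMap k K))
    rw [Category.id_comp, ← Spec.map_comp, ← CommRingCat.ofHom_comp,
      ← IsScalarTower.algebraMap_eq])

theorem phi_hom_left (M : Type u) [Field M] [Algebra K M] [Algebra k M] [IsScalarTower k K M] :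
    (phi (k := k) (K := K) M).hom.left = 𝟙 _ := rfl

variable {L : Type u} [Field L] [Algebra K L] [Algebra k L] [IsScalarTower k K L]

theorem comm_sq (E : IntermediateField k L) (KE : IntermediateField K L)
    (h : ∀ x : E, (x : L) ∈ KE) :
    (bc k K).map (EssDim.resPt KE.val) ≫ (phi (k := k) (K := K) KE).hom ≫
        EssDim.resPt (incl E KE h) =
      (phi (k := k) (K := K) L).hom ≫ EssDim.resPt E.val := by
  apply Over.OverMorphism.ext
  simp only [Over.comp_left, phi_hom_left, Over.map_map_left, EssDim.resPt_left,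
    Category.id_comp]
  rw [← Spec.map_comp, ← CommRingCat.ofHom_comp]
  rfl

variable (P : (Over (Spec (CommRingCat.of k)))ᵒᵖ ⥤ Type w)

theorem edAt_le (ξ : EssDim.FPt (k := K) ((bc k K).op ⋙ P) L) :
    (EssDim.edAt (k := K) ((bc k K).op ⋙ P) ξ : WithBot ℕ∞) ≤ EssDim.ed P := by
  obtain ⟨ξ', hξ'⟩ : ∃ ξ' : EssDim.FPt P L, ξ' = P.map (phi (k := k) (K := K) L).inv.op ξ :=
    ⟨_, rfl⟩
  have hξ : ξ = P.map (phi (k := k) (K := K) L).hom.op ξ' := by
    rw [hξ', ← FunctorToTypes.map_comp_apply, ← op_comp, Iso.hom_inv_id, op_id,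
      FunctorToTypes.map_id_apply]
  obtain ⟨⟨E, hE⟩, hEeq⟩ : ∃ E : {E : IntermediateField k L // EssDim.Descends P ξ' E},
      Cardinal.toENat (Algebra.trdeg k E.1) = EssDim.edAt P ξ' := by
    haveI : Nonempty {E : IntermediateField k L // EssDim.Descends P ξ' E} :=
      ⟨⟨⊤, EssDim.descends_top ξ'⟩⟩
    exact csInf_mem (Set.range_nonempty _)
  refine le_trans ?_ (EssDim.edAt_le_ed ξ')
  rw [← hEeq, WithBot.coe_le_coe]
  obtain ⟨ξ₀, hξ₀⟩ := hE
  obtain ⟨KE, hKE⟩ : ∃ KE : IntermediateField K L,
      KE = IntermediateField.adjoin K (E : Set L) := ⟨_, rfl⟩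
  have hEKE : ∀ x : E, (x : L) ∈ KE := fun x => hKE ▸ IntermediateField.subset_adjoin K _ x.2
  have hle : ∀ x ∈ KE, x ∈ IntermediateField.adjoin K (E : Set L) := fun x hx => hKE ▸ hx
  refine le_trans (EssDim.edAt_le_of_descends (K := KE) ?_)
    (OrderHomClass.mono Cardinal.toENat (trdeg_le E KE hEKE hle))
  refine ⟨P.map (phi (k := k) (K := K) KE).hom.op
    (P.map (EssDim.resPt (incl E KE hEKE)).op ξ₀), ?_⟩
  show P.map ((bc k K).map (EssDim.resPt KE.val)).op
    (P.map (phi (k := k) (K := K) KE).hom.op (P.map (EssDim.resPt (incl E KE hEKE)).op ξ₀)) = ξ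
  rw [hξ, ← hξ₀]
  show _ = P.map (phi (k := k) (K := K) L).hom.op (P.map (EssDim.resPt E.val).op ξ₀)
  simp only [← FunctorToTypes.map_comp_apply, ← op_comp]
  rw [comm_sq]

end Cat

theorem main (k : Type u) [Field k] (K : Type u) [Field K] [Algebra k K]
    (P : (Over (Spec (CommRingCat.of k)))ᵒᵖ ⥤ Type w) :
    EssDim.ed (k := K) ((Over.map (Spec.map (CommRingCat.ofHom (algebraMap k K)))).op ⋙ P) ≤
      EssDim.ed P := by
  refine iSup_le fun L => iSup_le fun hF => iSup_le fun hA => iSup_le fun ξ => ?_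
  letI : Algebra k L := ((algebraMap K L).comp (algebraMap k K)).toAlgebra
  haveI : IsScalarTower k K L := IsScalarTower.of_algebraMap_eq (fun _ => rfl)
  exact edAt_le P ξ

end Groth.Agent.Helper6.EdBC
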