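import Mathlib
import Groth.Agent.Helper1.DeltaHom

set_option autoImplicit false
set_option linter.style.haveILetI false
set_option linter.unusedSectionVars false
set_option linter.unusedVariables false
set_option linter.unusedSimpArgs false

/-!
# Edge maps `SᵖF ⟶ Hᵖ` for a "composite" of δ-functors: injectivity and exactness in the
first degree where the obstruction groups vanish (abstract dimension shifting, no spectral
sequences)
-/

namespace Groth.Agent.Helper6.EdgeAbs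
open CategoryTheory Limits Groth.Agent.Helper1.DeltaFun

universe v₁ v₂ v₃ u₁ u₂ u₃
variable {𝒜 : Type u₁} [Category.{v₁} 𝒜] [Abelian 𝒜] [EnoughInjectives 𝒜]
  {ℬ : Type u₂} [Category.{v₂} ℬ] [Abelian ℬ]
  {𝒞 : Type u₃} [Category.{v₃} 𝒞] [Abelian 𝒞]

/-- the data: `RF` plays the role of the derived functors of `F`, `S` of those of a functor `G`,
`H` of those of `F ⋙ G`; `α` are the edge maps `RᵖG(F K) ⟶ Rᵖ(GF)(K)`, `β` the edge maps
`Rᵖ(GF)(K) ⟶ G(RᵖF K)`. -/
structure Data (F : 𝒜 ⥤ ℬ) (𝒞 : Type u₃) [Category.{v₃} 𝒞] [Abelian 𝒞] where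
  RF : DeltaFunctor 𝒜 ℬ
  S : DeltaFunctor ℬ 𝒞
  H : DeltaFunctor 𝒜 𝒞
  eF : RF.T 0 ≅ F
  α : ∀ p : ℕ, F ⋙ S.T p ⟶ H.T p
  β : ∀ p : ℕ, H.T p ⟶ RF.T p ⋙ S.T 0
  hRF : RF.Effaceable
  hS : S.Effaceable
  hH : H.Effaceable
  hinj : ∀ (I : 𝒜) [Injective I], Injective (F.obj I)
  hα0 : ∀ K, IsIso ((α 0).app K)
  hS0 : ∀ {X Y : ℬ} (f : X ⟶ Y) [Mono f], Mono ((S.T 0).map f)
  hαδ : ∀ (SK : ShortComplex 𝒜) (hSK : SK.ShortExact) (SM : ShortComplex ℬ)
      (hSM : SM.ShortExact)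
      (a₁ : SM.X₁ ⟶ F.obj SK.X₁) (a₂ : SM.X₂ ⟶ F.obj SK.X₂) (a₃ : SM.X₃ ⟶ F.obj SK.X₃)
      (c₁ : SM.f ≫ a₂ = a₁ ≫ F.map SK.f) (c₂ : SM.g ≫ a₃ = a₂ ≫ F.map SK.g) (p : ℕ),
      S.δ SM hSM p ≫ (S.T (p + 1)).map a₁ ≫ (α (p + 1)).app SK.X₁ =
        (S.T p).map a₃ ≫ (α p).app SK.X₃ ≫ H.δ SK hSK p
  hβδ : ∀ (SK : ShortComplex 𝒜) (hSK : SK.ShortExact) (p : ℕ),
      H.δ SK hSK p ≫ (β (p + 1)).app SK.X₁ = (β p).app SK.X₃ ≫ (S.T 0).map (RF.δ SK hSK p)

variable {F : 𝒜 ⥤ ℬ} [F.Additive] [PreservesFiniteLimits F] (D : Data F 𝒞) (K : 𝒜)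

/-- `F K → F I → M` with `M` the cokernel -/
noncomputable abbrev SM (F : 𝒜 ⥤ ℬ) [F.Additive] [PreservesFiniteLimits F] (K : 𝒜) : ShortComplex ℬ :=
  ShortComplex.mk (F.map (E K).f) (cokernel.π (F.map (E K).f)) (cokernel.condition _)

lemma hSM (F : 𝒜 ⥤ ℬ) [F.Additive] [PreservesFiniteLimits F] (K : 𝒜) : (SM F K).ShortExact where
  exact := ShortComplex.exact_cokernel _
  mono_f := by
    haveI := (hE K).mono_f
    show Mono (F.map (E K).f)
    infer_instance
  epi_g := by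
    show Epi (cokernel.π (F.map (E K).f))
    infer_instance

/-- `M → F N` -/
noncomputable def j (F : 𝒜 ⥤ ℬ) [F.Additive] [PreservesFiniteLimits F] (K : 𝒜) : cokernel (F.map (E K).f) ⟶ F.obj (E K).X₃ :=
  cokernel.desc (F.map (E K).f) (F.map (E K).g) (by rw [← F.map_comp, (E K).zero, F.map_zero])

lemma π_j : cokernel.π (F.map (E K).f) ≫ j F K = F.map (E K).g := cokernel.π_desc _ _ _

instance : Mono (j F K) := by
  haveI := (hE K).mono_f
  have h : ((E K).map F).Exact :=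
    (hE K).exact.map_of_mono_of_preservesKernel F (hE K).mono_f inferInstance
  exact h.mono_cokernelDesc

/-- `F N → R¹F K` -/
noncomputable def r : F.obj (E K).X₃ ⟶ (D.RF.T 1).obj K :=
  D.eF.inv.app (E K).X₃ ≫ D.RF.δ (E K) (hE K) 0

instance : Epi (r D K) := by
  haveI := epi_δ_E D.RF D.hRF K 0
  unfold r
  infer_instance

lemma j_r : j F K ≫ r D K = 0 := by
  rw [← cancel_epi (cokernel.π (F.map (E K).f)), ← Category.assoc, π_j, comp_zero]
  unfold r
  rw [← Category.assoc, D.eF.inv.naturality, Category.assoc, D.RF.w₃, comp_zero]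

/-- `M → F N → R¹F K` -/
noncomputable abbrev S3 : ShortComplex ℬ := ShortComplex.mk (j F K) (r D K) (j_r D K)

lemma hS3 : (S3 D K).ShortExact where
  exact := by
    -- compare with `F I → F N → R¹F K`
    have w : F.map (E K).g ≫ r D K = 0 := by rw [← π_j, Category.assoc, j_r, comp_zero]
    have h1 : (ShortComplex.mk (F.map (E K).g) (r D K) w).Exact := by
      have h0 := D.RF.exact₃ (E K) (hE K) 0
      let φ : ShortComplex.mk _ _ (D.RF.w₃ (E K) (hE K) 0) ⟶
          ShortComplex.mk (F.map (E K).g) (r D K) w :=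
        { τ₁ := D.eF.hom.app _
          τ₂ := D.eF.hom.app _
          τ₃ := 𝟙 _
          comm₁₂ := by
            dsimp
            exact (D.eF.hom.naturality _).symm
          comm₂₃ := by
            dsimp
            unfold r
            rw [Category.comp_id, Iso.hom_inv_id_app_assoc] }
      haveI : IsIso φ.τ₁ := by dsimp [φ]; infer_instance
      haveI : IsIso φ.τ₂ := by dsimp [φ]; infer_instance
      haveI : IsIso φ.τ₃ := by dsimp [φ]; infer_instance
      exact (ShortComplex.exact_iff_of_epi_of_isIso_of_mono φ).1 h0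
    let ψ : ShortComplex.mk (F.map (E K).g) (r D K) w ⟶ S3 D K :=
      { τ₁ := cokernel.π (F.map (E K).f)
        τ₂ := 𝟙 _
        τ₃ := 𝟙 _
        comm₁₂ := by
          dsimp [S3]
          rw [Category.comp_id, π_j]
        comm₂₃ := by
          dsimp [S3]
          rw [Category.comp_id, Category.id_comp] }
    haveI : Epi ψ.τ₁ := by dsimp [ψ]; infer_instance
    haveI : IsIso ψ.τ₂ := by dsimp [ψ]; infer_instance
    haveI : Mono ψ.τ₃ := by dsimp [ψ]; infer_instance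
    exact (ShortComplex.exact_iff_of_epi_of_isIso_of_mono ψ).1 h1
  mono_f := by dsimp [S3]; infer_instance
  epi_g := by dsimp [S3]; infer_instance

/-- `F I` is injective hence `S`-acyclic -/
lemma isZero_S_FI (p : ℕ) : IsZero ((D.S.T (p + 1)).obj (SM F K).X₂) := by
  haveI : Injective (SM F K).X₂ := D.hinj (E K).X₂
  exact D.hS _ p

lemma epi_δS (p : ℕ) : Epi (D.S.δ (SM F K) (hSM F K) p) :=
  (D.S.exact₁ (SM F K) (hSM F K) p).epi_f ((isZero_S_FI D K p).eq_of_tgt _ _)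

lemma mono_δS (p : ℕ) : Mono (D.S.δ (SM F K) (hSM F K) (p + 1)) :=
  (D.S.exact₃ (SM F K) (hSM F K) (p + 1)).mono_g ((isZero_S_FI D K p).eq_of_src _ _)

lemma isIso_δS (p : ℕ) : IsIso (D.S.δ (SM F K) (hSM F K) (p + 1)) := by
  haveI := epi_δS D K (p + 1)
  haveI := mono_δS D K p
  exact isIso_of_mono_of_epi _

lemma epi_δH (p : ℕ) : Epi (D.H.δ (E K) (hE K) p) := epi_δ_E D.H D.hH K p

lemma mono_δH (p : ℕ) : Mono (D.H.δ (E K) (hE K) (p + 1)) :=
  (D.H.exact₃ (E K) (hE K) (p + 1)).mono_g ((D.hH (E K).X₂ p).eq_of_src _ _)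

lemma isIso_δH (p : ℕ) : IsIso (D.H.δ (E K) (hE K) (p + 1)) := by
  haveI := epi_δH D K (p + 1)
  haveI := mono_δH D K p
  exact isIso_of_mono_of_epi _

lemma isIso_δRF (p : ℕ) : IsIso (D.RF.δ (E K) (hE K) (p + 1)) := by
  haveI := epi_δ_E D.RF D.hRF K (p + 1)
  haveI : Mono (D.RF.δ (E K) (hE K) (p + 1)) :=
    (D.RF.exact₃ (E K) (hE K) (p + 1)).mono_g ((D.hRF (E K).X₂ p).eq_of_src _ _)
  exact isIso_of_mono_of_epi _

/-- the basic relation -/
lemma star (p : ℕ) :
    D.S.δ (SM F K) (hSM F K) p ≫ (D.α (p + 1)).app K =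
      (D.S.T p).map (j F K) ≫ (D.α p).app (E K).X₃ ≫ D.H.δ (E K) (hE K) p := by
  have := D.hαδ (E K) (hE K) (SM F K) (hSM F K) (𝟙 _) (𝟙 _) (j F K)
    (by simp) (by dsimp; rw [π_j, Category.id_comp]) p
  rw [CategoryTheory.Functor.map_id, Category.id_comp] at this
  exact this

/-- transport of `IsZero` along the isomorphisms `RF^{q+1} N ≅ RF^{q+2} K` -/
lemma isZero_S_RF_N (p q : ℕ) (h : IsZero ((D.S.T p).obj ((D.RF.T (q + 2)).obj K))) :
    IsZero ((D.S.T p).obj ((D.RF.T (q + 1)).obj (E K).X₃)) := by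
  haveI := isIso_δRF D K q
  exact IsZero.of_iso h ((D.S.T p).mapIso (asIso (D.RF.δ (E K) (hE K) (q + 1))))

/-- the base case: `α¹` is always a monomorphism -/
lemma mono_alpha_one : Mono ((D.α 1).app K) := by
  apply Preadditive.mono_of_cancel_zero
  intro A t ht
  haveI := epi_δS D K 0
  obtain ⟨A', π', hπ', y, hy⟩ :=
    surjective_up_to_refinements_of_epi (D.S.δ (SM F K) (hSM F K) 0) t
  have h1 : (y ≫ (D.S.T 0).map (j F K) ≫ (D.α 0).app (E K).X₃) ≫ D.H.δ (E K) (hE K) 0 = 0 := by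
    rw [Category.assoc, Category.assoc, ← star D K 0, ← Category.assoc, ← hy, Category.assoc,
      ht, comp_zero]
  obtain ⟨A'', π'', hπ'', z, hz⟩ :=
    (D.H.exact₃ (E K) (hE K) 0).exact_up_to_refinements _ h1
  haveI := D.hα0 (E K).X₂
  haveI := D.hα0 (E K).X₃
  haveI : Mono ((D.S.T 0).map (j F K)) := D.hS0 _
  have nat : (D.S.T 0).map (F.map (E K).g) ≫ (D.α 0).app (E K).X₃ =
      (D.α 0).app (E K).X₂ ≫ (D.H.T 0).map (E K).g := (D.α 0).naturality (E K).g
  have h2 : (z ≫ inv ((D.α 0).app (E K).X₂)) ≫ (D.S.T 0).map (cokernel.π (F.map (E K).f)) =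
      π'' ≫ y := by
    rw [← cancel_mono ((D.S.T 0).map (j F K) ≫ (D.α 0).app (E K).X₃)]
    rw [Category.assoc, ← Category.assoc ((D.S.T 0).map (cokernel.π (F.map (E K).f))),
      ← Functor.map_comp, π_j, nat, Category.assoc, IsIso.inv_hom_id_assoc]
    rw [Category.assoc]
    exact hz.symm
  have h3 : (π'' ≫ π') ≫ t = 0 := by
    rw [Category.assoc, hy, ← Category.assoc, ← h2, Category.assoc]
    have := D.S.w₃ (SM F K) (hSM F K) 0
    rw [this, comp_zero]
  haveI : Epi (π'' ≫ π') := epi_comp _ _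
  exact (cancel_epi (π'' ≫ π')).1 (h3.trans comp_zero.symm)

/-- `α^{m+1}` is a monomorphism when the obstruction groups vanish and `β^m` is an epimorphism -/
theorem mono_alpha (m : ℕ) : ∀ K : 𝒜,
    (∀ q : ℕ, 1 ≤ q → q + 1 ≤ m → IsZero ((D.S.T (m - q)).obj ((D.RF.T q).obj K))) →
    (1 ≤ m → Epi ((D.β m).app K)) → Mono ((D.α (m + 1)).app K) := by
  induction m with
  | zero => exact fun K _ _ => mono_alpha_one D K
  | succ m ih =>
    intro K ha hb
    -- `α^{m+1}_N` is a monomorphism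
    have hN : Mono ((D.α (m + 1)).app (E K).X₃) := by
      apply ih
      · intro q h1 h2
        obtain ⟨q', rfl⟩ : ∃ q', q = q' + 1 := ⟨q - 1, by omega⟩
        apply isZero_S_RF_N
        have := ha (q' + 2) (by omega) (by omega)
        have e : m + 1 - (q' + 2) = m - (q' + 1) := by omega
        rw [e] at this
        exact this
      · intro hm
        obtain ⟨m', rfl⟩ : ∃ m', m = m' + 1 := ⟨m - 1, by omega⟩
        have hβ := D.hβδ (E K) (hE K) (m' + 1)
        haveI := isIso_δH D K m'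
        haveI := isIso_δRF D K m'
        haveI : Epi ((D.β (m' + 1 + 1)).app K) := hb (by omega)
        have : (D.β (m' + 1)).app (E K).X₃ =
            D.H.δ (E K) (hE K) (m' + 1) ≫ (D.β (m' + 1 + 1)).app K ≫
              inv ((D.S.T 0).map (D.RF.δ (E K) (hE K) (m' + 1))) := by
          rw [← Category.assoc, hβ, Category.assoc, IsIso.hom_inv_id, Category.comp_id]
        rw [this]
        infer_instance
    -- `S^{m+1}(j)` is a monomorphism
    have hj : Mono ((D.S.T (m + 1)).map (j F K)) := by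
      apply (D.S.exact₁ (S3 D K) (hS3 D K) m).mono_g
      cases m with
      | zero =>
        -- `S⁰(r)` is an epimorphism
        have hβ := D.hβδ (E K) (hE K) 0
        haveI := epi_δH D K 0
        haveI : Epi ((D.β (0 + 1)).app K) := hb (by omega)
        haveI : Epi ((D.β 0).app (E K).X₃ ≫ (D.S.T 0).map (D.RF.δ (E K) (hE K) 0)) := by
          rw [← hβ]; infer_instance
        haveI : Epi ((D.S.T 0).map (D.RF.δ (E K) (hE K) 0)) := epi_of_epi ((D.β 0).app (E K).X₃) _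
        haveI : Epi ((D.S.T 0).map (r D K)) := by
          unfold r
          rw [Functor.map_comp]
          infer_instance
        rw [← cancel_epi ((D.S.T 0).map (r D K))]
        exact (D.S.w₃ (S3 D K) (hS3 D K) 0).trans comp_zero.symm
      | succ m' =>
        have := ha 1 le_rfl (by omega)
        have e : m' + 1 + 1 - 1 = m' + 1 := by omega
        rw [e] at this
        exact this.eq_of_src _ _
    -- conclusion
    haveI := isIso_δS D K m
    haveI := isIso_δH D K m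
    have hst := star D K (m + 1)
    have : (D.α (m + 1 + 1)).app K = inv (D.S.δ (SM F K) (hSM F K) (m + 1)) ≫
        (D.S.T (m + 1)).map (j F K) ≫ (D.α (m + 1)).app (E K).X₃ ≫
          D.H.δ (E K) (hE K) (m + 1) := by
      rw [← hst, IsIso.inv_hom_id_assoc]
    rw [this]
    infer_instance

section ExactPart

variable (hαβ0 : ∀ K, (D.α 0).app K ≫ (D.β 0).app K = (D.S.T 0).map (D.eF.inv.app K))
  (hS₂ : ∀ (S' : ShortComplex ℬ) (_ : S'.ShortExact) (n : ℕ)
    (w : (D.S.T n).map S'.f ≫ (D.S.T n).map S'.g = 0), (ShortComplex.mk _ _ w).Exact)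
  (hSz : ∀ (n : ℕ) (X Y : ℬ), (D.S.T n).map (0 : X ⟶ Y) = 0)

include hαβ0 hS₂ hSz in
/-- base case of exactness at `H¹` -/
lemma exact_one {A : 𝒞} (t : A ⟶ (D.H.T 1).obj K) (ht : t ≫ (D.β 1).app K = 0) :
    ∃ (A' : 𝒞) (π : A' ⟶ A) (_ : Epi π) (x : A' ⟶ (D.S.T 1).obj (F.obj K)),
      π ≫ t = x ≫ (D.α 1).app K := by
  haveI := epi_δH D K 0
  obtain ⟨A', π', hπ', ν, hν⟩ := surjective_up_to_refinements_of_epi (D.H.δ (E K) (hE K) 0) t
  have hβ := D.hβδ (E K) (hE K) 0
  have h1 : ν ≫ (D.β 0).app (E K).X₃ ≫ (D.S.T 0).map (D.RF.δ (E K) (hE K) 0) = 0 := by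
    rw [← hβ, ← Category.assoc, ← hν, Category.assoc, ht, comp_zero]
  have w : (D.S.T 0).map (j F K) ≫ (D.S.T 0).map (r D K) = 0 := by
    rw [← Functor.map_comp, j_r, hSz]
  have h2 : (ν ≫ (D.β 0).app (E K).X₃ ≫ (D.S.T 0).map (D.eF.hom.app (E K).X₃)) ≫
      (D.S.T 0).map (r D K) = 0 := by
    unfold r
    rw [Functor.map_comp, Category.assoc, Category.assoc, ← Category.assoc
      ((D.S.T 0).map (D.eF.hom.app (E K).X₃)), ← Functor.map_comp, Iso.hom_inv_id_app,
      CategoryTheory.Functor.map_id, Category.id_comp]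
    exact h1
  obtain ⟨A'', π'', hπ'', μ, hμ⟩ :=
    (hS₂ (S3 D K) (hS3 D K) 0 w).exact_up_to_refinements _ h2
  haveI := D.hα0 (E K).X₃
  have h3 : (D.β 0).app (E K).X₃ ≫ (D.S.T 0).map (D.eF.hom.app (E K).X₃) =
      inv ((D.α 0).app (E K).X₃) := by
    rw [← cancel_epi ((D.α 0).app (E K).X₃), ← Category.assoc, hαβ0, ← Functor.map_comp,
      Iso.inv_hom_id_app, CategoryTheory.Functor.map_id, IsIso.hom_inv_id]
    rfl
  have h4 : π'' ≫ ν = μ ≫ (D.S.T 0).map (j F K) ≫ (D.α 0).app (E K).X₃ := by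
    have : π'' ≫ ν ≫ inv ((D.α 0).app (E K).X₃) = μ ≫ (D.S.T 0).map (j F K) := by
      rw [← h3]; exact hμ
    rw [← Category.assoc μ, ← this, Category.assoc, Category.assoc, IsIso.inv_hom_id,
      Category.comp_id]
  refine ⟨A'', π'' ≫ π', epi_comp _ _, μ ≫ D.S.δ (SM F K) (hSM F K) 0, ?_⟩
  have hst : D.S.δ (SM F K) (hSM F K) 0 ≫ (D.α 1).app K =
      (D.S.T 0).map (j F K) ≫ (D.α 0).app (E K).X₃ ≫ D.H.δ (E K) (hE K) 0 := star D K 0
  rw [Category.assoc, Category.assoc, hst, hν, ← Category.assoc, h4, Category.assoc,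
    Category.assoc]

include hαβ0 hS₂ hSz in
/-- exactness at `H^{m+1}`: what is killed by `β^{m+1}` comes from `α^{m+1}`, up to refinements -/
theorem exact_alpha_beta (m : ℕ) : ∀ K : 𝒜,
    (∀ q : ℕ, 1 ≤ q → q ≤ m → IsZero ((D.S.T (m + 1 - q)).obj ((D.RF.T q).obj K))) →
    ∀ {A : 𝒞} (t : A ⟶ (D.H.T (m + 1)).obj K), t ≫ (D.β (m + 1)).app K = 0 →
      ∃ (A' : 𝒞) (π : A' ⟶ A) (_ : Epi π) (x : A' ⟶ (D.S.T (m + 1)).obj (F.obj K)),
        π ≫ t = x ≫ (D.α (m + 1)).app K := by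
  induction m with
  | zero => exact fun K _ A t ht => exact_one D K hαβ0 hS₂ hSz t ht
  | succ m ih =>
    intro K ha A t ht
    haveI := isIso_δH D K m
    haveI := isIso_δRF D K m
    haveI := isIso_δS D K m
    have hβ := D.hβδ (E K) (hE K) (m + 1)
    have h1 : (t ≫ inv (D.H.δ (E K) (hE K) (m + 1))) ≫ (D.β (m + 1)).app (E K).X₃ = 0 := by
      rw [← cancel_mono ((D.S.T 0).map (D.RF.δ (E K) (hE K) (m + 1))), Category.assoc,
        Category.assoc, ← hβ, IsIso.inv_hom_id_assoc, ht, zero_comp]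
    obtain ⟨A', π', hπ', y, hy⟩ := ih (E K).X₃ (by
      intro q h1 h2
      obtain ⟨q', rfl⟩ : ∃ q', q = q' + 1 := ⟨q - 1, by omega⟩
      apply isZero_S_RF_N
      have := ha (q' + 2) (by omega) (by omega)
      have e : m + 1 + 1 - (q' + 2) = m + 1 - (q' + 1) := by omega
      rw [e] at this
      exact this) _ h1
    have hz : IsZero ((D.S.T (m + 1)).obj ((D.RF.T 1).obj K)) := by
      have := ha 1 le_rfl (by omega)
      have e : m + 1 + 1 - 1 = m + 1 := by omega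
      rw [e] at this
      exact this
    haveI : Epi ((D.S.T (m + 1)).map (j F K)) :=
      (hS₂ (S3 D K) (hS3 D K) (m + 1) (hz.eq_of_tgt _ _)).epi_f (hz.eq_of_tgt _ _)
    obtain ⟨A'', π'', hπ'', y', hy'⟩ :=
      surjective_up_to_refinements_of_epi ((D.S.T (m + 1)).map (j F K)) y
    refine ⟨A'', π'' ≫ π', epi_comp _ _, y' ≫ D.S.δ (SM F K) (hSM F K) (m + 1), ?_⟩
    rw [Category.assoc, Category.assoc, star D K (m + 1), ← Category.assoc y', ← hy',
      Category.assoc, ← Category.assoc y, ← hy, Category.assoc, Category.assoc,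
      IsIso.inv_hom_id, Category.comp_id]

end ExactPart

end Groth.Agent.Helper6.EdgeAbs
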