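import Mathlib
import Groth.Prelude.Def_RDer

set_option autoImplicit false
set_option linter.style.haveILetI false
set_option linter.unusedSectionVars false
set_option linter.unusedVariables false

/-!
# The first edge map `R^q Ψ (Φ X) ⟶ R^q (Φ ⋙ Ψ) X` is an isomorphism when `R^{>0} Φ X = 0`

If `Φ` is left exact, preserves injectives and `R^{q+1} Φ X = 0` for all `q`, then `Φ` of an injective
resolution of `X` is an injective resolution of `Φ X`; the comparison from the chosen resolution is a
homotopy equivalence, and stays so after applying `Ψ`.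
-/

universe v₁ v₂ v₃ u₁ u₂ u₃

open CategoryTheory CategoryTheory.Limits HomologicalComplex

namespace Groth.Agent.Helper6.EdgeInIso

noncomputable section

variable {A : Type u₁} [Category.{v₁} A] [Abelian A] [HasInjectiveResolutions A]
  {B : Type u₂} [Category.{v₂} B] [Abelian B] [HasInjectiveResolutions B]
  {C : Type u₃} [Category.{v₃} C] [Abelian C]
  (Φ : A ⥤ B) [Φ.Additive] [Φ.PreservesInjectiveObjects] [PreservesFiniteLimits Φ]

lemma mapAug_f_zero {X : A} {I : CochainComplex A ℕ} (ι : (CochainComplex.single₀ A).obj X ⟶ I) :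
    (RDer.mapAug Φ ι).f 0 = Φ.map (ι.f 0) := by
  simp [RDer.mapAug, HomologicalComplex.singleMapHomologicalComplex_inv_app_self]
  exact Category.id_comp _

lemma quasiIso_mapAug {X : A} (I : InjectiveResolution X)
    (h : ∀ q : ℕ, IsZero ((Φ.rightDerived (q + 1)).obj X)) : QuasiIso (RDer.mapAug Φ I.ι) := by
  refine ⟨fun n => ?_⟩
  cases n with
  | zero =>
    rw [CochainComplex.quasiIsoAt₀_iff, ShortComplex.quasiIso_iff_of_zeros]
    · rw [ShortComplex.exact_and_mono_f_iff_f_is_kernel]
      refine ⟨IsLimit.ofIsoLimit (KernelFork.mapIsLimit _ I.isLimitKernelFork Φ) ?_⟩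
      refine Fork.ext (Iso.refl _) ?_
      exact (Category.id_comp _).trans (mapAug_f_zero Φ I.ι)
    · simp; rfl
    · simp; rfl
    · simp; rfl
  | succ n =>
    rw [quasiIsoAt_iff_exactAt _ _ (CochainComplex.exactAt_succ_single_obj _ _),
      exactAt_iff_isZero_homology]
    exact (h n).of_iso (I.isoRightDerivedObj Φ (n + 1)).symm

/-- `Φ` of an injective resolution of `X` is an injective resolution of `Φ X` when `R^{>0}Φ X = 0`. -/
def mapRes {X : A} (I : InjectiveResolution X)
    (h : ∀ q : ℕ, IsZero ((Φ.rightDerived (q + 1)).obj X)) : InjectiveResolution (Φ.obj X) where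
  cocomplex := (Φ.mapHomologicalComplex _).obj I.cocomplex
  injective n := Φ.injective_obj (I.cocomplex.X n)
  ι := RDer.mapAug Φ I.ι
  quasiIso := quasiIso_mapAug Φ I h

omit [HasInjectiveResolutions A] [HasInjectiveResolutions B] in
lemma ι_descToInjectives {Y : B} (J I' : InjectiveResolution Y) :
    J.ι ≫ RDer.descToInjectives (𝟙 Y) J.cocomplex J.ι I'.cocomplex I'.ι = I'.ι := by
  apply HomologicalComplex.from_single_hom_ext
  rw [HomologicalComplex.comp_f, RDer.ι_descToInjectives_f_zero, Category.id_comp]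

omit [HasInjectiveResolutions A] [HasInjectiveResolutions B] in
/-- The comparison between two injective resolutions of the same object induces an isomorphism on the
homology after applying any additive functor. -/
lemma isIso_homologyMap_desc (Ψ : B ⥤ C) [Ψ.Additive] {Y : B} (J I' : InjectiveResolution Y) (q : ℕ) :
    IsIso (HomologicalComplex.homologyMap ((Ψ.mapHomologicalComplex _).map
      (RDer.descToInjectives (𝟙 Y) J.cocomplex J.ι I'.cocomplex I'.ι)) q) := by
  set φ := RDer.descToInjectives (𝟙 Y) J.cocomplex J.ι I'.cocomplex I'.ι with hφ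
  let ψ : I'.cocomplex ⟶ J.cocomplex := InjectiveResolution.desc (𝟙 Y) J I'
  have hφι : J.ι ≫ φ = I'.ι := ι_descToInjectives J I'
  have hψι : I'.ι ≫ ψ = J.ι := by
    have := InjectiveResolution.desc_commutes (𝟙 Y) J I'
    rw [CategoryTheory.Functor.map_id, Category.id_comp] at this
    exact this
  have H1 : Homotopy (φ ≫ ψ) (𝟙 J.cocomplex) :=
    InjectiveResolution.descHomotopy (𝟙 Y) _ _
      (by rw [reassoc_of% hφι, hψι]; simp) (by simp)
  have H2 : Homotopy (ψ ≫ φ) (𝟙 I'.cocomplex) :=
    InjectiveResolution.descHomotopy (𝟙 Y) _ _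
      (by rw [reassoc_of% hψι, hφι]; simp) (by simp)
  have e1 := (Ψ.mapHomotopy H1).homologyMap_eq q
  have e2 := (Ψ.mapHomotopy H2).homologyMap_eq q
  rw [Functor.map_comp, HomologicalComplex.homologyMap_comp, CategoryTheory.Functor.map_id,
    HomologicalComplex.homologyMap_id] at e1 e2
  exact ⟨⟨_, e1, e2⟩⟩

theorem isIso_edgeIn (Ψ : B ⥤ C) [Ψ.Additive] (X : A)
    (h : ∀ q : ℕ, IsZero ((Φ.rightDerived (q + 1)).obj X)) (p : ℕ) :
    IsIso (RDer.edgeIn Φ Ψ p X) := by
  have h1 := isIso_homologyMap_desc Ψ (injectiveResolution (Φ.obj X))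
    (mapRes Φ (injectiveResolution X) h) p
  have h1' : IsIso ((HomologicalComplex.homologyFunctor C _ p).map ((Ψ.mapHomologicalComplex _).map
      (RDer.descToInjectives (𝟙 (Φ.obj X)) (injectiveResolution (Φ.obj X)).cocomplex
        (injectiveResolution (Φ.obj X)).ι
        ((Φ.mapHomologicalComplex _).obj (injectiveResolution X).cocomplex)
        (RDer.mapAug Φ (injectiveResolution X).ι)))) := h1
  unfold RDer.edgeIn
  infer_instance

end

end Groth.Agent.Helper6.EdgeInIso
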