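import Mathlib
import Groth.Prelude.Def_SGA4a
import Groth.Agent.Helper6.GiraudSh

/-!
# Helper6: effective universal equivalence relations and the canonical topology.
-/

set_option autoImplicit false
set_option linter.style.haveILetI false
set_option linter.unusedVariables false
set_option backward.isDefEq.respectTransparency false
set_option backward.isDefEq.respectTransparency.types false
universe u

namespace Groth.Agent.Helper6.EffUniv
open CategoryTheory Limits Opposite

section General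
universe v' u'
variable {E : Type u'} [Category.{v'} E] {R X : E} {p₁ p₂ : R ⟶ X}

/-- A pushout square with equal legs gives a coequalizer. -/
noncomputable def isColimitCoforkOfIsPushout {B : E} {π : X ⟶ B} (hpo : IsPushout p₁ p₂ π π) :
    IsColimit (Cofork.ofπ π hpo.w) :=
  Cofork.IsColimit.mk _ (fun s => hpo.desc s.π s.π s.condition)
    (fun s => hpo.inl_desc _ _ _)
    (fun s m hm => hpo.hom_ext ((hpo.inl_desc _ _ _).symm ▸ hm) ((hpo.inr_desc _ _ _).symm ▸ hm))

theorem isPushout_of_isColimit_cofork {c : Cofork p₁ p₂} (hc : IsColimit c) (r : X ⟶ R)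
    (hr1 : r ≫ p₁ = 𝟙 X) (hr2 : r ≫ p₂ = 𝟙 X) : IsPushout p₁ p₂ c.π c.π := by
  have key : ∀ s : PushoutCocone p₁ p₂, s.inl = s.inr := fun s => by
    calc s.inl = (r ≫ p₁) ≫ s.inl := by rw [hr1, Category.id_comp]
      _ = (r ≫ p₂) ≫ s.inr := by rw [Category.assoc, s.condition, Category.assoc]
      _ = s.inr := by rw [hr2, Category.id_comp]
  have hs : ∀ s : PushoutCocone p₁ p₂, p₁ ≫ s.inl = p₂ ≫ s.inl := fun s => by
    rw [s.condition, key s]
  refine ⟨⟨c.condition⟩, ⟨PushoutCocone.IsColimit.mk c.condition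
    (fun s => Cofork.IsColimit.desc hc s.inl (hs s)) ?_ ?_ ?_⟩⟩
  · intro s
    exact Cofork.IsColimit.π_desc' hc s.inl (hs s)
  · intro s
    rw [← key s]
    exact Cofork.IsColimit.π_desc' hc s.inl (hs s)
  · intro s m hm _
    apply Cofork.IsColimit.hom_ext hc
    rw [hm]
    exact (Cofork.IsColimit.π_desc' hc s.inl (hs s)).symm

end General

variable {C : Type u} [SmallCategory C]

/-- The Yoneda embedding into sheaves for the canonical topology. -/
noncomputable abbrev y : C ⥤ Sheaf (Sheaf.canonicalTopology C) (Type u) :=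
  (Sheaf.canonicalTopology C).yoneda

instance : PreservesLimitsOfShape WalkingCospan (y (C := C)) := by
  haveI : PreservesLimitsOfShape WalkingCospan
      (y (C := C) ⋙ sheafToPresheaf (Sheaf.canonicalTopology C) (Type u)) :=
    (inferInstance : PreservesLimitsOfShape WalkingCospan (yoneda : C ⥤ _))
  exact preservesLimitsOfShape_of_reflects_of_preserves _
    (sheafToPresheaf (Sheaf.canonicalTopology C) (Type u))

theorem existsUnique_desc {R X B : C} {p₁ p₂ : R ⟶ X} {π : X ⟶ B} (hpb : IsPullback p₁ p₂ π π)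
    (hcov : Sieve.generate (Presieve.singleton π) ∈ Sheaf.canonicalTopology C B)
    (Z : Sheaf (Sheaf.canonicalTopology C) (Type u)) (g : y.obj X ⟶ Z)
    (hg : y.map p₁ ≫ g = y.map p₂ ≫ g) :
    ∃! h : y.obj B ⟶ Z, y.map π ≫ h = g := by
  have hZ : Presieve.IsSheafFor Z.obj (Presieve.singleton π) := by
    rw [Presieve.isSheafFor_iff_generate]
    exact ((isSheaf_iff_isSheaf_of_type _ _).1 Z.property) _ hcov
  let z : Z.obj.obj (op X) := yonedaEquiv g.hom
  have hz : Z.obj.map p₁.op z = Z.obj.map p₂.op z := by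
    have h1 : yoneda.map p₁ ≫ g.hom = yoneda.map p₂ ≫ g.hom :=
      (sheafToPresheaf _ _).congr_map hg
    rw [yonedaEquiv_naturality, yonedaEquiv_naturality, h1]
  obtain ⟨w, hw, hw'⟩ := Presieve.isSheafFor_singleton.1 hZ z (by
    intro T a b hab
    obtain ⟨t, ea, eb⟩ : ∃ t : T ⟶ R, t ≫ p₁ = a ∧ t ≫ p₂ = b :=
      ⟨hpb.lift a b hab, hpb.lift_fst _ _ _, hpb.lift_snd _ _ _⟩
    subst ea eb
    rw [op_comp, op_comp, Functor.map_comp_apply, Functor.map_comp_apply, hz])
  refine ⟨⟨yonedaEquiv.symm w⟩, ?_, ?_⟩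
  · apply Sheaf.hom_ext
    apply yonedaEquiv.injective
    show yonedaEquiv (yoneda.map π ≫ yonedaEquiv.symm w) = z
    rw [← yonedaEquiv_naturality, Equiv.apply_symm_apply]
    exact hw
  · intro h' hh'
    apply Sheaf.hom_ext
    apply yonedaEquiv.injective
    show yonedaEquiv h'.hom = yonedaEquiv (yonedaEquiv.symm w)
    rw [Equiv.apply_symm_apply]
    apply hw'
    rw [yonedaEquiv_naturality]
    exact congrArg yonedaEquiv ((sheafToPresheaf _ _).congr_map hh')

section Pullbacks
variable [HasPullbacks C]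

theorem generate_singleton_mem_canonical {X B : C} (π : X ⟶ B)
    (heff : ∀ (B' : C) (g : B' ⟶ B), EffectiveEpi (pullback.snd π g)) :
    Sieve.generate (Presieve.singleton π) ∈ Sheaf.canonicalTopology C B := by
  apply Sheaf.mem_finestTopology_of_forall_isSheafFor
  rintro P ⟨W, rfl⟩ Y f
  rw [← Sieve.pullbackArrows_comm, Presieve.pullback_singleton, ← Presieve.isSheafFor_iff_generate]
  haveI := heff Y f
  exact Presieve.IsSheafFor.singleton_of_isRepresentable_of_effectiveEpi _ _

theorem effectiveEpi_snd_of_mem {X B : C} (π : X ⟶ B)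
    (hcov : Sieve.generate (Presieve.singleton π) ∈ Sheaf.canonicalTopology C B)
    (B' : C) (g : B' ⟶ B) : EffectiveEpi (pullback.snd π g) := by
  rw [← Sieve.effectiveEpimorphic_singleton,
    Presieve.EffectiveEpimorphic.iff_forall_isSheafFor_yoneda]
  intro W
  rw [Presieve.isSheafFor_iff_generate, ← Presieve.pullback_singleton, Sieve.pullbackArrows_comm]
  exact Sheaf.isSheaf_yoneda_obj W _ ((Sheaf.canonicalTopology C).pullback_stable g hcov)

end Pullbacks

theorem generate_singleton_mem_of_epi {X B : C} (π : X ⟶ B) [Epi (y.map π)] :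
    Sieve.generate (Presieve.singleton π) ∈ Sheaf.canonicalTopology C B := by
  haveI : Sheaf.IsLocallySurjective (y.map π) :=
    (Sheaf.isLocallySurjective_iff_epi _).2 inferInstance
  have h0 := Presheaf.imageSieve_mem (Sheaf.canonicalTopology C) (y.map π).hom (U := op B) (𝟙 B)
  refine (Sheaf.canonicalTopology C).superset_covering ?_ h0
  rintro V k ⟨t, ht⟩
  have ht' : t ≫ π = k ≫ 𝟙 B := ht
  exact ⟨X, t, π, ⟨⟩, by rw [ht', Category.comp_id]⟩


section Main
variable [HasPullbacks C] {R X : C} {p₁ p₂ : R ⟶ X}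

theorem isEquivRel_yoneda (hR : SGA4.IsEquivRel p₁ p₂) :
    SGA4.IsEquivRel (y.map p₁) (y.map p₂) := by
  intro T
  refine ⟨?_, ⟨?_, ?_, ?_⟩⟩
  · intro f f' hff'
    have h1 : f ≫ y.map p₁ = f' ≫ y.map p₁ := congrArg Prod.fst hff'
    have h2 : f ≫ y.map p₂ = f' ≫ y.map p₂ := congrArg Prod.snd hff'
    apply Sheaf.hom_ext
    ext U t
    apply (hR U.unop).1
    have e1 := ConcreteCategory.congr_hom
      (congrArg (fun k => NatTrans.app k U) ((sheafToPresheaf _ _).congr_map h1)) t
    have e2 := ConcreteCategory.congr_hom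
      (congrArg (fun k => NatTrans.app k U) ((sheafToPresheaf _ _).congr_map h2)) t
    exact Prod.ext e1 e2
  · intro a
    obtain ⟨r, hr1, hr2⟩ := (hR X).2.refl (𝟙 X)
    refine ⟨a ≫ y.map r, ?_, ?_⟩
    · rw [Category.assoc, ← y.map_comp, hr1, y.map_id, Category.comp_id]
    · rw [Category.assoc, ← y.map_comp, hr2, y.map_id, Category.comp_id]
  · rintro a b ⟨f, hf1, hf2⟩
    obtain ⟨σ, hσ1, hσ2⟩ := (hR R).2.symm ⟨𝟙 R, Category.id_comp _, Category.id_comp _⟩
    refine ⟨f ≫ y.map σ, ?_, ?_⟩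
    · rw [Category.assoc, ← y.map_comp, hσ1, hf2]
    · rw [Category.assoc, ← y.map_comp, hσ2, hf1]
  · rintro a b c' ⟨f, hf1, hf2⟩ ⟨f', hf'1, hf'2⟩
    obtain ⟨τ, hτ1, hτ2⟩ := (hR (pullback p₂ p₁)).2.trans
      ⟨pullback.fst p₂ p₁, rfl, rfl⟩ ⟨pullback.snd p₂ p₁, pullback.condition.symm, rfl⟩
    have hpb : IsPullback (y.map (pullback.fst p₂ p₁)) (y.map (pullback.snd p₂ p₁))
        (y.map p₂) (y.map p₁) := (IsPullback.of_hasPullback p₂ p₁).map y
    have hcomm : f ≫ y.map p₂ = f' ≫ y.map p₁ := hf2.trans hf'1.symm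
    refine ⟨hpb.lift f f' hcomm ≫ y.map τ, ?_, ?_⟩
    · rw [Category.assoc, ← y.map_comp, hτ1, y.map_comp, ← Category.assoc, hpb.lift_fst, hf1]
    · rw [Category.assoc, ← y.map_comp, hτ2, y.map_comp, ← Category.assoc, hpb.lift_snd, hf'2]

/-- The comparison between the sheafified Yoneda embedding and `y`. -/
noncomputable def εIso :
    (yoneda ⋙ presheafToSheaf (Sheaf.canonicalTopology C) (Type u)) ≅ y (C := C) :=
  NatIso.ofComponents
    (fun X => asIso ((sheafificationAdjunction (Sheaf.canonicalTopology C) (Type u)).counit.app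
      (y.obj X)))
    (fun f => (sheafificationAdjunction (Sheaf.canonicalTopology C) (Type u)).counit.naturality
      (y.map f))

theorem forward (c : Cofork p₁ p₂) (hc : IsColimit c)
    (h : SGA4.IsEffectiveUniversalEquivRel p₁ p₂) :
    Nonempty (IsColimit (y.mapCocone c)) := by
  obtain ⟨B, π, hpb, hpo, heff⟩ := h
  have hc' : IsColimit (Cofork.ofπ π hpo.w) := isColimitCoforkOfIsPushout hpo
  have hcov := generate_singleton_mem_canonical π heff
  have h1 : IsColimit (Cofork.ofπ (y.map π) (by rw [← y.map_comp, hpo.w, y.map_comp]) :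
      Cofork (y.map p₁) (y.map p₂)) :=
    Cofork.IsColimit.ofExistsUnique (fun s => existsUnique_desc hpb hcov s.pt s.π s.condition)
  have h2 : IsColimit (y.mapCocone (Cofork.ofπ π hpo.w)) :=
    (isColimitMapCoconeCoforkEquiv y hpo.w).symm h1
  exact ⟨h2.ofIsoColimit ((Cocone.functoriality _ y).mapIso (hc'.uniqueUpToIso hc))⟩

theorem backward (hR : SGA4.IsEquivRel p₁ p₂) (c : Cofork p₁ p₂) (hc : IsColimit c)
    (h : IsColimit (y.mapCocone c)) : SGA4.IsEffectiveUniversalEquivRel p₁ p₂ := by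
  have ec : c ≅ Cofork.ofπ c.π c.condition := Cofork.ext (Iso.refl _) (by simp)
  have h1 : IsColimit (y.mapCocone (Cofork.ofπ c.π c.condition)) :=
    h.ofIsoColimit ((Cocone.functoriality _ y).mapIso ec)
  have hcq : IsColimit (Cofork.ofπ (y.map c.π) (by rw [← y.map_comp, c.condition, y.map_comp]) :
      Cofork (y.map p₁) (y.map p₂)) := (isColimitMapCoconeCoforkEquiv y c.condition) h1
  haveI : Epi (y.map c.π) := by
    have := epi_of_isColimit_cofork hcq
    simpa using this
  have hcov := generate_singleton_mem_of_epi c.π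
  obtain ⟨r, hr1, hr2⟩ := (hR X).2.refl (𝟙 X)
  refine ⟨c.pt, c.π, ?_, isPushout_of_isColimit_cofork hc r hr1 hr2,
    fun B' g => effectiveEpi_snd_of_mem c.π hcov B' g⟩
  obtain ⟨B', π', hpb', hpo', -⟩ :=
    GiraudSh.isEffectiveUniversal (y.map p₁) (y.map p₂) (isEquivRel_yoneda hR)
  have hπ' : IsColimit (Cofork.ofπ π' hpo'.w) := isColimitCoforkOfIsPushout hpo'
  let i : B' ≅ y.obj c.pt := hπ'.coconePointUniqueUpToIso hcq
  have hi : π' ≫ i.hom = y.map c.π :=
    IsColimit.comp_coconePointUniqueUpToIso_hom hπ' hcq WalkingParallelPair.one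
  have hpbQ : IsPullback (y.map p₁) (y.map p₂) (y.map c.π) (y.map c.π) :=
    hpb'.of_iso (Iso.refl _) (Iso.refl _) (Iso.refl _) i (by simp) (by simp)
      (by simpa using hi) (by simpa using hi)
  exact IsPullback.of_map y c.condition hpbQ

theorem main (hR : SGA4.IsEquivRel p₁ p₂) (c : Cofork p₁ p₂) (hc : IsColimit c) :
    SGA4.IsEffectiveUniversalEquivRel p₁ p₂ ↔
      Nonempty (IsColimit ((yoneda ⋙ presheafToSheaf (Sheaf.canonicalTopology C)
        (Type u)).mapCocone c)) := by
  constructor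
  · intro h
    obtain ⟨h1⟩ := forward c hc h
    exact ⟨(IsColimit.mapCoconeEquiv εIso.symm h1)⟩
  · rintro ⟨h⟩
    exact backward hR c hc (IsColimit.mapCoconeEquiv εIso h)

end Main

end Groth.Agent.Helper6.EffUniv
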