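import Groth.Agent.Helper6.WeierPts
import Groth.Agent.Helper6.HyperUniq
import Groth.Agent.Helper5.FFAut2
import Groth.Agent.Helper5.FFWeier

set_option autoImplicit false
set_option linter.style.haveILetI false

/-!
# Automorphisms and places with the non-gap `2`
-/

namespace Groth.Agent.Helper6.WeierHyp

open FunFld
open Groth.Agent.Helper5
open scoped IntermediateField

universe u v
variable {k : Type u} {K : Type v} [Field k] [Field K] [Algebra k K]

/-- the fixed field of an automorphism -/
def fixedIF (σ : K ≃ₐ[k] K) : IntermediateField k K where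
  carrier := {z | σ z = z}
  mul_mem' {a b} ha hb := by
    show σ (a * b) = a * b
    rw [map_mul, ha, hb]
  add_mem' {a b} ha hb := by
    show σ (a + b) = a + b
    rw [map_add, ha, hb]
  algebraMap_mem' c := σ.commutes c
  inv_mem' a ha := by
    show σ a⁻¹ = a⁻¹
    rw [map_inv₀, ha]

theorem apply_eq_of_mem_adjoin (σ : K ≃ₐ[k] K) {x : K} (hx : σ x = x) {z : K}
    (hz : z ∈ k⟮x⟯) : σ z = z := by
  have hle : k⟮x⟯ ≤ fixedIF σ := IntermediateField.adjoin_simple_le_iff.mpr hx
  exact hle hz

theorem comapPlace_injective (σ : K ≃ₐ[k] K) {P Q : Place k K}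
    (h : FF.comapPlace σ P = FF.comapPlace σ Q) : P = Q := by
  rw [← FF.comapPlace_comapPlace_symm σ P, h, FF.comapPlace_comapPlace_symm]

theorem single_comapPlace (σ : K ≃ₐ[k] K) (P Q : Place k K) (a : ℤ) :
    (Finsupp.single (FF.comapPlace σ P) a : Divisor k K) (FF.comapPlace σ Q) =
      (Finsupp.single P a : Divisor k K) Q := by
  classical
  by_cases h : Q = P
  · subst h
    rw [Finsupp.single_eq_same, Finsupp.single_eq_same]
  · rw [Finsupp.single_eq_of_ne h, Finsupp.single_eq_of_ne]
    intro h'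
    exact h (comapPlace_injective σ h')

theorem mem_L_comapPlace_iff (σ : K ≃ₐ[k] K) (P : Place k K) (a : ℤ) (z : K) :
    z ∈ L (Finsupp.single (FF.comapPlace σ P) a : Divisor k K) ↔
      σ z ∈ L (Finsupp.single P a : Divisor k K) := by
  rw [FF.mem_L_iff, FF.mem_L_iff]
  constructor
  · intro h Q
    have := h (FF.comapPlace σ Q)
    rwa [single_comapPlace, FF.comapPlace_val] at this
  · intro h Q
    have h1 := h (FF.comapPlace σ.symm Q)
    have h2 : FF.comapPlace σ (FF.comapPlace σ.symm Q) = Q := FF.comapPlace_symm_comapPlace σ Q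
    rw [← h2, single_comapPlace, FF.comapPlace_val]
    exact h1

theorem isGap_comapPlace_iff (σ : K ≃ₐ[k] K) (P : Place k K) (m : ℕ) :
    FF.IsGap (FF.comapPlace σ P) m ↔ FF.IsGap P m := by
  unfold FF.IsGap
  constructor
  · intro h
    ext w
    have h1 := mem_L_comapPlace_iff σ P (m : ℤ) (σ.symm w)
    have h2 := mem_L_comapPlace_iff σ P ((m : ℤ) - 1) (σ.symm w)
    rw [σ.apply_symm_apply] at h1 h2
    rw [← h1, ← h2, h]
  · intro h
    ext z
    rw [mem_L_comapPlace_iff, mem_L_comapPlace_iff, h]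

/-- a function of degree two with its only pole at a place where `2` is not a gap -/
theorem exists_hyper (hK : IsFunctionField k K) (hg : 0 < genus k K) (P : Place k K)
    (hP : P.deg = 1) (h2 : ¬ FF.IsGap P 2) :
    ∃ x : K, x ≠ 0 ∧ x ∈ L (Finsupp.single P (2 : ℤ) : Divisor k K) ∧ P.ord x = -2 ∧
      Transcendental k x ∧ Module.finrank k⟮x⟯ K = 2 ∧
      ∀ z ∈ L (Finsupp.single P (2 : ℤ) : Divisor k K),
        ∃ a b : k, z = algebraMap k K a + algebraMap k K b * x := by
  classical
  obtain ⟨x, hx0, hxL, hord⟩ := (FF.not_isGap_iff P 2).mp h2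
  push_cast at hxL hord
  have hxk : x ∉ Set.range (algebraMap k K) := by
    rintro ⟨c, rfl⟩
    rw [FF.ord_algebraMap] at hord
    omega
  have htr := FF.transcendental_of_not_mem_range hK hxk
  have hpole : (-(FunFld.div k x)) ⊔ 0 = (Finsupp.single P (2 : ℤ) : Divisor k K) := by
    ext Q
    rw [Finsupp.sup_apply, Finsupp.neg_apply, FF.div_apply hK, Finsupp.zero_apply]
    by_cases hQ : Q = P
    · subst hQ
      rw [Finsupp.single_eq_same, hord]
      simp
    · rw [Finsupp.single_eq_of_ne hQ]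
      have := ((FF.mem_L_single_iff P 2 hx0).mp hxL).2 Q hQ
      exact sup_eq_right.mpr (by omega)
  have hfr : Module.finrank k⟮x⟯ K = 2 := by
    have h1 := FF.deg_poles_eq hK htr
    rw [hpole, FF.deg_single, hP] at h1
    have : ((2 : ℕ) : ℤ) = (Module.finrank k⟮x⟯ K : ℤ) := by rw [← h1]; simp
    exact_mod_cast this.symm
  refine ⟨x, hx0, hxL, hord, htr, hfr, ?_⟩
  intro z hz
  obtain ⟨c, hc⟩ := FF.exists_sub_smul_mem P hP 2 hx0 hord hxL hz
  have h21 : ((2 : ℤ) - 1) = 1 := by norm_num
  rw [h21] at hc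
  have hell1 := FF.ell_single_one_of_genus_pos hK hg P hP
  have hone : (1 : K) ∈ L (Finsupp.single P (1 : ℤ) : Divisor k K) := by
    have h0 : (0 : Divisor k K) ≤ Finsupp.single P (1 : ℤ) := by
      have := FF.single_mono (k := k) (K := K) P (show (0 : ℤ) ≤ 1 by norm_num)
      rwa [Finsupp.single_zero] at this
    apply FF.L_mono h0
    rw [FF.L_zero hK]
    exact Submodule.one_le.mp le_rfl
  unfold ell at hell1
  have h3 := (finrank_eq_one_iff_of_nonzero'
    (⟨1, hone⟩ : L (Finsupp.single P (1 : ℤ) : Divisor k K))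
    (by intro h; exact one_ne_zero (congrArg Subtype.val h))).mp hell1 ⟨_, hc⟩
  obtain ⟨a, ha⟩ := h3
  have ha' : a • (1 : K) = z - c • x := congrArg Subtype.val ha
  refine ⟨a, c, ?_⟩
  rw [Algebra.smul_def, mul_one, Algebra.smul_def] at ha'
  rw [ha']; ring

theorem adjoin_sub_const (x : K) (c : k) : k⟮x - algebraMap k K c⟯ = k⟮x⟯ := by
  apply le_antisymm
  · rw [IntermediateField.adjoin_simple_le_iff]
    exact sub_mem (IntermediateField.mem_adjoin_simple_self k x) (IntermediateField.algebraMap_mem _ c)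
  · rw [IntermediateField.adjoin_simple_le_iff]
    have h1 := IntermediateField.mem_adjoin_simple_self k (x - algebraMap k K c)
    have h2 := add_mem h1 (IntermediateField.algebraMap_mem k⟮x - algebraMap k K c⟯ c)
    rwa [sub_add_cancel] at h2

/-- an automorphism fixing the pole of `x` and three more places fixes `x` -/
theorem sigma_x_eq [IsAlgClosed k] (hK : IsFunctionField k K) (σ : K ≃ₐ[k] K) (P₀ : Place k K)
    {x : K} (hx0 : x ≠ 0) (hxL : x ∈ L (Finsupp.single P₀ (2 : ℤ) : Divisor k K))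
    (htr : Transcendental k x) (hfr : Module.finrank k⟮x⟯ K = 2)
    (hspan : ∀ z ∈ L (Finsupp.single P₀ (2 : ℤ) : Divisor k K),
        ∃ a b : k, z = algebraMap k K a + algebraMap k K b * x)
    (h₀ : FF.comapPlace σ P₀ = P₀)
    (P₁ P₂ P₃ : Place k K) (h12 : P₁ ≠ P₂) (h13 : P₁ ≠ P₃) (h23 : P₂ ≠ P₃)
    (h1 : P₁ ≠ P₀) (h2 : P₂ ≠ P₀) (h3 : P₃ ≠ P₀)
    (hf1 : FF.comapPlace σ P₁ = P₁) (hf2 : FF.comapPlace σ P₂ = P₂)
    (hf3 : FF.comapPlace σ P₃ = P₃) : σ x = x := by
  classical
  have hσL : σ x ∈ L (Finsupp.single P₀ (2 : ℤ) : Divisor k K) := by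
    have := (mem_L_comapPlace_iff σ P₀ 2 x)
    rw [h₀] at this
    exact this.mp hxL
  obtain ⟨a, b, hab⟩ := hspan _ hσL
  -- the relation at a fixed place
  have key : ∀ P : Place k K, P ≠ P₀ → FF.comapPlace σ P = P →
      ∃ c : k, P.1 (x - algebraMap k K c) < 1 ∧ a + b * c - c = 0 := by
    intro P hP hfix
    have hPx : P.1 x ≤ 1 := by
      have := (FF.mem_L_iff _ _).mp hxL P
      rwa [Finsupp.single_eq_of_ne hP, WithZero.exp_zero] at this
    obtain ⟨c, hc⟩ := FF.exists_const_of_deg_one P (FF.deg_eq_one_of_isAlgClosed hK P) hPx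
    refine ⟨c, hc, ?_⟩
    have h4 : P.1 (σ (x - algebraMap k K c)) < 1 := by
      rw [← FF.comapPlace_val, hfix]; exact hc
    rw [map_sub, σ.commutes, hab] at h4
    have h5 : algebraMap k K (a + b * c - c) =
        (algebraMap k K a + algebraMap k K b * x - algebraMap k K c) -
          algebraMap k K b * (x - algebraMap k K c) := by
      rw [map_sub, map_add, map_mul]; ring
    have h6 : P.1 (algebraMap k K b * (x - algebraMap k K c)) < 1 := by
      rw [map_mul]
      calc P.1 (algebraMap k K b) * P.1 (x - algebraMap k K c)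
          ≤ 1 * P.1 (x - algebraMap k K c) := mul_le_mul' (P.2.1 b) le_rfl
        _ = P.1 (x - algebraMap k K c) := one_mul _
        _ < 1 := hc
    have h7 : P.1 (algebraMap k K (a + b * c - c)) < 1 := by
      rw [h5]
      exact lt_of_le_of_lt (Valuation.map_sub _ _ _) (max_lt h4 h6)
    by_contra hne
    rw [FF.val_algebraMap P hne] at h7
    exact lt_irrefl _ h7
  obtain ⟨c₁, hc₁, e₁⟩ := key P₁ h1 hf1
  obtain ⟨c₂, hc₂, e₂⟩ := key P₂ h2 hf2
  obtain ⟨c₃, hc₃, e₃⟩ := key P₃ h3 hf3
  have hb : b = 1 := by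
    by_contra hb1
    have hb' : 1 - b ≠ 0 := sub_ne_zero.mpr (Ne.symm hb1)
    have e12 : c₁ = c₂ := by
      have : (1 - b) * (c₁ - c₂) = 0 := by linear_combination e₂ - e₁
      rcases mul_eq_zero.mp this with h | h
      · exact absurd h hb'
      · exact sub_eq_zero.mp h
    have e13 : c₁ = c₃ := by
      have : (1 - b) * (c₁ - c₃) = 0 := by linear_combination e₃ - e₁
      rcases mul_eq_zero.mp this with h | h
      · exact absurd h hb'
      · exact sub_eq_zero.mp h
    rw [← e12] at hc₂
    rw [← e13] at hc₃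
    have hy0 : x - algebraMap k K c₁ ≠ 0 := by
      intro h
      apply htr
      rw [sub_eq_zero.mp h]
      exact isAlgebraic_algebraMap c₁
    have htr' : Transcendental k (x - algebraMap k K c₁) := by
      intro h
      apply htr
      have := h.add (isAlgebraic_algebraMap (R := k) (A := K) c₁)
      rwa [sub_add_cancel] at this
    have hcard := FF.card_le_deg_zeros hK ({P₁, P₂, P₃} : Finset (Place k K)) (by
      intro Q hQ
      simp only [Finset.mem_insert, Finset.mem_singleton] at hQ
      rcases hQ with rfl | rfl | rfl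
      · exact hc₁
      · exact hc₂
      · exact hc₃) hy0
    rw [FF.deg_zeros_eq hK htr', FF.finrank_congr (adjoin_sub_const x c₁), hfr] at hcard
    have h3' : ({P₁, P₂, P₃} : Finset (Place k K)).card = 3 := by
      rw [Finset.card_insert_of_notMem, Finset.card_insert_of_notMem, Finset.card_singleton]
      · simpa using h23
      · simp only [Finset.mem_insert, Finset.mem_singleton, not_or]
        exact ⟨h12, h13⟩
    rw [h3'] at hcard
    norm_num at hcard
  have ha : a = 0 := by
    rw [hb] at e₁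
    linear_combination e₁
  rw [hab, ha, hb, map_zero, map_one, zero_add, one_mul]

/-- an automorphism fixing `x` fixes every place at which `2` is not a gap -/
theorem comapPlace_eq_of_sigma_x [IsAlgClosed k] (hK : IsFunctionField k K)
    (hg : 2 ≤ genus k K) (σ : K ≃ₐ[k] K) {x : K} (hfr : Module.finrank k⟮x⟯ K = 2)
    (hσ : σ x = x) (P : Place k K) (h2 : ¬ FF.IsGap P 2) : FF.comapPlace σ P = P := by
  classical
  have hP := FF.deg_eq_one_of_isAlgClosed hK P
  obtain ⟨y, hy0, hyL, hyord, -, hyfr, -⟩ := exists_hyper hK (by omega) P hP h2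
  have heq := HyperUniq.adjoin_eq_of_finrank_two hK hg y x hyfr hfr
  have hymem : y ∈ k⟮x⟯ := by rw [← heq]; exact IntermediateField.mem_adjoin_simple_self k y
  have hσy := apply_eq_of_mem_adjoin σ hσ hymem
  by_contra hne
  have h1 := (FF.mem_L_iff _ _).mp hyL (FF.comapPlace σ P)
  rw [Finsupp.single_eq_of_ne hne, WithZero.exp_zero, FF.comapPlace_val, hσy,
    FF.val_eq_exp_neg_ord P hy0, hyord, ← WithZero.exp_zero, WithZero.exp_le_exp] at h1
  omega

end Groth.Agent.Helper6.WeierHyp
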