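import Mathlib
import Groth.Agent.Helper6.WeierHyp
import Groth.Agent.Helper6.HypGenus
import Groth.Agent.Helper5.FFWeier3

set_option autoImplicit false
set_option linter.style.haveILetI false
set_option linter.unusedSectionVars false

/-!
# Automorphisms of a Weierstrass function field fixing the point at infinity
-/

namespace Groth.Agent.Helper6.EllAut

open FunFld Polynomial
open Groth.Agent.Helper5
open scoped IntermediateField

section quad

variable {F E L : Type*} [Field F] [Field E] [Algebra F E] [CommRing L]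

/-- extending a ring homomorphism along a quadratic extension `E = F(y)`, `y² = c` -/
theorem exists_ringHom_of_sq (hdeg : Module.finrank F E = 2) {y : E}
    (hy : y ∉ Set.range (algebraMap F E)) {c : F} (hyc : y ^ 2 = algebraMap F E c)
    (φ : F →+* L) (y' : L) (hy' : y' ^ 2 = φ c) :
    ∃ ψ : E →+* L, (∀ r : F, ψ (algebraMap F E r) = φ r) ∧ ψ y = y' := by
  haveI : FiniteDimensional F E := Module.finite_of_finrank_pos (by rw [hdeg]; norm_num)
  obtain ⟨g, hg⟩ : ∃ g : F[X], g = X ^ 2 - C c := ⟨_, rfl⟩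
  have hmonic : g.Monic := by rw [hg]; exact monic_X_pow_sub_C c two_ne_zero
  have hnat : g.natDegree = 2 := by rw [hg]; exact natDegree_X_pow_sub_C
  have hroot : g.eval₂ ((Algebra.ofId F E : F →ₐ[F] E) : F →+* E) y = 0 := by
    rw [hg, eval₂_sub, eval₂_pow, eval₂_X, eval₂_C]
    show y ^ 2 - algebraMap F E c = 0
    rw [hyc, sub_self]
  obtain ⟨θ, hθ⟩ : ∃ θ : AdjoinRoot g →ₐ[F] E,
      θ = AdjoinRoot.liftAlgHom g (Algebra.ofId F E) y hroot := ⟨_, rfl⟩
  have hθroot : θ (AdjoinRoot.root g) = y := by rw [hθ, AdjoinRoot.liftAlgHom_root]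
  have hθof : ∀ r : F, θ (AdjoinRoot.of g r) = algebraMap F E r := by
    intro r
    rw [hθ, AdjoinRoot.liftAlgHom_of]
    rfl
  have hsurj : Function.Surjective θ := by
    intro z
    obtain ⟨a, b, rfl⟩ := HypGenus.exists_repr hdeg hy z
    refine ⟨AdjoinRoot.of g a + AdjoinRoot.of g b * AdjoinRoot.root g, ?_⟩
    rw [map_add, map_mul, hθroot, hθof, hθof]
  haveI : Module.Finite F (AdjoinRoot g) := hmonic.finite_adjoinRoot
  have hfr : Module.finrank F (AdjoinRoot g) = 2 := by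
    rw [(AdjoinRoot.powerBasis' hmonic).finrank, AdjoinRoot.powerBasis'_dim, hnat]
  have hinj : Function.Injective θ := by
    have h1 := LinearMap.injective_iff_surjective_of_finrank_eq_finrank (f := θ.toLinearMap)
      (by rw [hfr, hdeg])
    exact h1.2 hsurj
  obtain ⟨e, he⟩ : ∃ e : AdjoinRoot g ≃ₐ[F] E, ∀ w, e w = θ w :=
    ⟨AlgEquiv.ofBijective θ ⟨hinj, hsurj⟩, fun w => rfl⟩
  have hlift : g.eval₂ φ y' = 0 := by
    rw [hg, eval₂_sub, eval₂_pow, eval₂_X, eval₂_C, hy', sub_self]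
  refine ⟨(AdjoinRoot.lift φ y' hlift).comp (e.symm.toAlgHom : E →ₐ[F] AdjoinRoot g).toRingHom,
    ?_, ?_⟩
  · intro r
    have h1 : e.symm (algebraMap F E r) = AdjoinRoot.of g r := by
      rw [← hθof r, ← he, e.symm_apply_apply]
    show AdjoinRoot.lift φ y' hlift (e.symm (algebraMap F E r)) = φ r
    rw [h1, AdjoinRoot.lift_of]
  · have h1 : e.symm y = AdjoinRoot.root g := by
      rw [← hθroot, ← he, e.symm_apply_apply]
    show AdjoinRoot.lift φ y' hlift (e.symm y) = y'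
    rw [h1, AdjoinRoot.lift_root]

end quad

section field

variable {k : Type*} [Field k]

/-- `n`-th roots of unity as elements of the field -/
def rootsEquiv (n : ℕ) (hn : n ≠ 0) : ↥(rootsOfUnity n k) ≃ {ζ : k // ζ ^ n = 1} where
  toFun z := ⟨((z : kˣ) : k), (mem_rootsOfUnity' n (z : kˣ)).1 z.2⟩
  invFun ζ := ⟨Units.mk0 ζ.1 (fun h => by
      have := ζ.2
      rw [h, zero_pow hn] at this
      exact zero_ne_one this), (mem_rootsOfUnity' n _).2 ζ.2⟩
  left_inv z := by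
    apply Subtype.ext
    apply Units.ext
    rfl
  right_inv ζ := rfl

theorem zeta_of_uv {a b u v : k} (hu : u ≠ 0) (hv : v ≠ 0) (h1 : v ^ 2 = u ^ 3)
    (h2 : v ^ 2 * a = a * u) (h3 : v ^ 2 * b = b) :
    ∃ ζ : k, ζ ≠ 0 ∧ ζ ^ 2 = u ∧ ζ ^ 3 = v ∧ a * (ζ ^ 4 - 1) = 0 ∧ b * (ζ ^ 6 - 1) = 0 := by
  refine ⟨v / u, div_ne_zero hv hu, ?_, ?_, ?_, ?_⟩
  · rw [div_pow, h1, div_eq_iff (pow_ne_zero 2 hu)]
    ring
  · rw [div_pow, div_eq_iff (pow_ne_zero 3 hu), ← h1]
    ring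
  · have e4 : (v / u) ^ 4 = u ^ 2 := by
      rw [div_pow, div_eq_iff (pow_ne_zero 4 hu)]
      calc v ^ 4 = (v ^ 2) ^ 2 := by ring
        _ = (u ^ 3) ^ 2 := by rw [h1]
        _ = u ^ 2 * u ^ 4 := by ring
    rw [e4]
    have h5 : u * (a * (u ^ 2 - 1)) = 0 := by linear_combination h2 - a * h1
    exact (mul_eq_zero.1 h5).resolve_left hu
  · have e6 : (v / u) ^ 6 = v ^ 2 := by
      rw [div_pow, div_eq_iff (pow_ne_zero 6 hu)]
      calc v ^ 6 = v ^ 2 * (v ^ 2) ^ 2 := by ring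
        _ = v ^ 2 * (u ^ 3) ^ 2 := by rw [h1]
        _ = v ^ 2 * u ^ 6 := by ring
    rw [e6]
    linear_combination h3

open Classical in
theorem pow_iff {a b : k} (hdisc : 4 * a ^ 3 + 27 * b ^ 2 ≠ 0) (ζ : k) :
    (a * (ζ ^ 4 - 1) = 0 ∧ b * (ζ ^ 6 - 1) = 0) ↔
      ζ ^ (if a = 0 then 6 else if b = 0 then 4 else 2) = 1 := by
  by_cases ha : a = 0
  · have hb : b ≠ 0 := by
      rintro rfl
      apply hdisc
      rw [ha]
      ring
    rw [if_pos ha, ha]
    constructor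
    · rintro ⟨-, h⟩
      exact sub_eq_zero.1 ((mul_eq_zero.1 h).resolve_left hb)
    · intro h
      rw [h]
      constructor <;> ring
  · rw [if_neg ha]
    by_cases hb : b = 0
    · rw [if_pos hb, hb]
      constructor
      · rintro ⟨h, -⟩
        exact sub_eq_zero.1 ((mul_eq_zero.1 h).resolve_left ha)
      · intro h
        rw [h]
        constructor <;> ring
    · rw [if_neg hb]
      constructor
      · rintro ⟨h4, h6⟩
        have e4 : ζ ^ 4 = 1 := sub_eq_zero.1 ((mul_eq_zero.1 h4).resolve_left ha)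
        have e6 : ζ ^ 6 = 1 := sub_eq_zero.1 ((mul_eq_zero.1 h6).resolve_left hb)
        calc ζ ^ 2 = ζ ^ 4 * ζ ^ 2 := by rw [e4, one_mul]
          _ = ζ ^ 6 := by ring
          _ = 1 := e6
      · intro h
        have e4 : ζ ^ 4 = 1 := by
          calc ζ ^ 4 = (ζ ^ 2) ^ 2 := by ring
            _ = 1 := by rw [h]; ring
        have e6 : ζ ^ 6 = 1 := by
          calc ζ ^ 6 = (ζ ^ 2) ^ 3 := by ring
            _ = 1 := by rw [h]; ring
        rw [e4, e6]
        constructor <;> ring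

end field

section ff

universe u v
variable {k : Type u} {K : Type v} [Field k] [Field K] [Algebra k K]

theorem bound (P : Place k K) {m w : K} {n n' : ℤ} (hm : P.1 m = WithZero.exp n)
    (hw : P.1 w ≤ WithZero.exp n') (hn : n' ≤ n) (c : k) :
    P.1 (algebraMap k K c * m + w) ≤ WithZero.exp n := by
  refine (P.1.map_add _ _).trans (max_le ?_ (hw.trans (WithZero.exp_le_exp.2 hn)))
  rw [map_mul, hm]
  exact (mul_le_mul' (P.2.1 c) le_rfl).trans_eq (one_mul _)

theorem peel (P : Place k K) {m w : K} {n n' : ℤ} (hm : P.1 m = WithZero.exp n)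
    (hw : P.1 w ≤ WithZero.exp n') (hn : n' < n) (c : k)
    (h : algebraMap k K c * m + w = 0) : c = 0 ∧ w = 0 := by
  have hc : c = 0 := by
    by_contra hc
    have h1 : P.1 (algebraMap k K c * m) = WithZero.exp n := by
      rw [map_mul, FF.val_algebraMap P hc, one_mul, hm]
    have h2 : P.1 w < P.1 (algebraMap k K c * m) := by
      rw [h1]
      exact lt_of_le_of_lt hw (WithZero.exp_lt_exp.2 hn)
    have h3 := Valuation.map_add_eq_of_lt_left P.1 h2
    rw [h, map_zero, h1] at h3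
    exact WithZero.exp_ne_zero h3.symm
  refine ⟨hc, ?_⟩
  rw [hc, map_zero, zero_mul, zero_add] at h
  exact h

theorem algEquiv_ext {x y : K} (hxy : IntermediateField.adjoin k ({x, y} : Set K) = ⊤)
    {σ σ' : K ≃ₐ[k] K} (h1 : σ x = σ' x) (h2 : σ y = σ' y) : σ = σ' := by
  have hle : IntermediateField.adjoin k ({x, y} : Set K) ≤
      WeierHyp.fixedIF (σ.trans σ'.symm) := by
    rw [IntermediateField.adjoin_le_iff]
    intro z hz
    rcases hz with h | h
    · rw [h]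
      show σ'.symm (σ x) = x
      rw [h1, σ'.symm_apply_apply]
    · rw [Set.mem_singleton_iff] at h
      rw [h]
      show σ'.symm (σ y) = y
      rw [h2, σ'.symm_apply_apply]
  rw [hxy, top_le_iff] at hle
  ext z
  have hz : z ∈ WeierHyp.fixedIF (σ.trans σ'.symm) := by rw [hle]; trivial
  have h3 : σ'.symm (σ z) = z := hz
  have h4 := congrArg σ' h3
  rw [σ'.apply_symm_apply] at h4
  exact h4

/-- an automorphism with prescribed scalings of the generators -/
theorem exists_algEquiv {x y : K} (hx : Transcendental k x)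
    (hfr : Module.finrank k⟮x⟯ K = 2)
    (hxy : IntermediateField.adjoin k ({x, y} : Set K) = ⊤)
    (f : k[X]) (heq : y ^ 2 = aeval x f) {u v : k} (hu : u ≠ 0) (hv : v ≠ 0)
    (hrel : (algebraMap k K v * y) ^ 2 = aeval (algebraMap k K u * x) f) :
    ∃ σ : K ≃ₐ[k] K, σ x = algebraMap k K u * x ∧ σ y = algebraMap k K v * y := by
  obtain ⟨x', hx'_def⟩ : ∃ x' : K, x' = algebraMap k K u * x := ⟨_, rfl⟩
  have hx' : Transcendental k x' := by
    intro halg
    apply hx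
    have h1 : x = algebraMap k K u⁻¹ * x' := by
      rw [hx'_def, ← mul_assoc, ← map_mul, inv_mul_cancel₀ hu, map_one, one_mul]
    rw [h1]
    exact (isAlgebraic_algebraMap _).mul halg
  have hyF : y ∉ Set.range (algebraMap k⟮x⟯ K) := by
    rintro ⟨w, hw⟩
    have hle : IntermediateField.adjoin k ({x, y} : Set K) ≤ k⟮x⟯ := by
      rw [IntermediateField.adjoin_le_iff]
      intro z hz
      rcases hz with h | h
      · rw [h]
        exact IntermediateField.mem_adjoin_simple_self k x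
      · rw [Set.mem_singleton_iff] at h
        rw [h, ← hw]
        exact w.2
    rw [hxy, top_le_iff] at hle
    have h1 := FF.finrank_congr (K := K) hle
    rw [hfr, IntermediateField.finrank_top] at h1
    omega
  -- the base homomorphism
  obtain ⟨gen, hgen⟩ : ∃ gen : k⟮x⟯, gen = IntermediateField.AdjoinSimple.gen k x := ⟨_, rfl⟩
  have hgenK : (gen : K) = x := by rw [hgen]; rfl
  obtain ⟨φ₀, hφ₀⟩ : ∃ φ₀ : k⟮x⟯ →ₐ[k] K, φ₀ gen = x' := by
    refine ⟨(IntermediateField.val k⟮x'⟯).comp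
      (((RatFunc.algEquivOfTranscendental x hx).symm.trans
        (RatFunc.algEquivOfTranscendental x' hx')) : k⟮x⟯ →ₐ[k] k⟮x'⟯), ?_⟩
    rw [hgen]
    show ((RatFunc.algEquivOfTranscendental x' hx')
      ((RatFunc.algEquivOfTranscendental x hx).symm
        (IntermediateField.AdjoinSimple.gen k x)) : K) = x'
    rw [RatFunc.algEquivOfTranscendental_symm_gen, RatFunc.algEquivOfTranscendental_X]
  obtain ⟨c, hc⟩ : ∃ c : k⟮x⟯, c = aeval gen f := ⟨_, rfl⟩
  have hcK : algebraMap k⟮x⟯ K c = aeval x f := by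
    rw [hc, ← Polynomial.aeval_algebraMap_apply]
    show aeval (gen : K) f = aeval x f
    rw [hgenK]
  have hφc : φ₀ c = aeval x' f := by
    rw [hc, ← Polynomial.aeval_algHom_apply, hφ₀]
  obtain ⟨ψ, hψF, hψy⟩ := exists_ringHom_of_sq hfr hyF (c := c) (by rw [hcK]; exact heq)
    (φ₀ : k⟮x⟯ →+* K) (algebraMap k K v * y) (by
      show (algebraMap k K v * y) ^ 2 = φ₀ c
      rw [hφc, hx'_def]
      exact hrel)
  have hψx : ψ x = x' := by
    have h1 : ψ (gen : K) = φ₀ gen := hψF gen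
    rw [hgenK, hφ₀] at h1
    exact h1
  have hψk : ∀ r : k, ψ (algebraMap k K r) = algebraMap k K r := by
    intro r
    have h1 := hψF (algebraMap k k⟮x⟯ r)
    rw [← IsScalarTower.algebraMap_apply] at h1
    rw [h1]
    exact φ₀.commutes r
  obtain ⟨σ₁, hσ₁⟩ : ∃ σ₁ : K →ₐ[k] K, ∀ z, σ₁ z = ψ z :=
    ⟨{ toRingHom := ψ, commutes' := hψk }, fun z => rfl⟩
  have hsurj : Function.Surjective σ₁ := by
    rw [← AlgHom.fieldRange_eq_top, ← top_le_iff, ← hxy, IntermediateField.adjoin_le_iff]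
    intro z hz
    rcases hz with h | h
    · rw [h]
      refine AlgHom.mem_fieldRange.2 ⟨algebraMap k K u⁻¹ * x, ?_⟩
      rw [map_mul, σ₁.commutes, hσ₁, hψx, hx'_def, ← mul_assoc, ← map_mul, inv_mul_cancel₀ hu,
        map_one, one_mul]
    · rw [Set.mem_singleton_iff] at h
      rw [h]
      refine AlgHom.mem_fieldRange.2 ⟨algebraMap k K v⁻¹ * y, ?_⟩
      rw [map_mul, σ₁.commutes, hσ₁, hψy, ← mul_assoc, ← map_mul, inv_mul_cancel₀ hv,
        map_one, one_mul]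
  obtain ⟨σ, hσ⟩ : ∃ σ : K ≃ₐ[k] K, ∀ z, σ z = σ₁ z :=
    ⟨AlgEquiv.ofBijective σ₁ ⟨σ₁.toRingHom.injective, hsurj⟩, fun z => rfl⟩
  refine ⟨σ, ?_, ?_⟩
  · rw [hσ, hσ₁, hψx, hx'_def]
  · rw [hσ, hσ₁, hψy]

/-- the shape of an automorphism fixing the place `P` -/
theorem analysis [IsAlgClosed k] (h2 : (2 : k) ≠ 0) (h3 : (3 : k) ≠ 0)
    (hK : IsFunctionField k K) (hgen : genus k K = 1) (P : Place k K) (a b : k) {x y : K}
    (heq : y ^ 2 = x ^ 3 + algebraMap k K a * x + algebraMap k K b)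
    (hx : x ∈ L (Finsupp.single P (2 : ℤ) : Divisor k K)) (hx2 : P.ord x = -2)
    (hy : y ∈ L (Finsupp.single P (3 : ℤ) : Divisor k K)) (hy3 : P.ord y = -3)
    (σ : K ≃ₐ[k] K) (hσ : ∀ z : K, P.1 (σ z) = P.1 z) :
    ∃ u v : k, u ≠ 0 ∧ v ≠ 0 ∧ v ^ 2 = u ^ 3 ∧ v ^ 2 * a = a * u ∧ v ^ 2 * b = b ∧
      σ x = algebraMap k K u * x ∧ σ y = algebraMap k K v * y := by
  have hP := FF.deg_eq_one_of_isAlgClosed hK P
  have hx0 : x ≠ 0 := by
    rintro rfl
    rw [FF.ord_zero] at hx2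
    omega
  have hy0 : y ≠ 0 := by
    rintro rfl
    rw [FF.ord_zero] at hy3
    omega
  have hxv : P.1 x = WithZero.exp (2 : ℤ) := by
    rw [FF.val_eq_exp_neg_ord P hx0, hx2, neg_neg]
  have hyv : P.1 y = WithZero.exp (3 : ℤ) := by
    rw [FF.val_eq_exp_neg_ord P hy0, hy3, neg_neg]
  have hx2v : P.1 (x ^ 2) = WithZero.exp (4 : ℤ) := by
    rw [map_pow, hxv, ← WithZero.exp_nsmul]; norm_num
  have hx3v : P.1 (x ^ 3) = WithZero.exp (6 : ℤ) := by
    rw [map_pow, hxv, ← WithZero.exp_nsmul]; norm_num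
  have hxyv : P.1 (x * y) = WithZero.exp (5 : ℤ) := by
    rw [map_mul, hxv, hyv, ← WithZero.exp_add]; norm_num
  have hcP : FF.comapPlace σ P = P := FF.place_ext fun z => by
    rw [FF.comapPlace_val]; exact hσ z
  have hσx : σ x ∈ L (Finsupp.single P (2 : ℤ) : Divisor k K) :=
    (WeierHyp.mem_L_comapPlace_iff σ P 2 x).1 (by rw [hcP]; exact hx)
  have hσy : σ y ∈ L (Finsupp.single P (3 : ℤ) : Divisor k K) :=
    (WeierHyp.mem_L_comapPlace_iff σ P 3 y).1 (by rw [hcP]; exact hy)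
  obtain ⟨u, hu⟩ := FF.exists_sub_smul_mem P hP 2 hx0 hx2 hx hσx
  rw [show (2 : ℤ) - 1 = 1 by norm_num] at hu
  obtain ⟨r, hr⟩ := FF.L_single_one_genus_one hK hgen P hP hu
  obtain ⟨v, hv⟩ := FF.exists_sub_smul_mem P hP 3 hy0 hy3 hy hσy
  rw [show (3 : ℤ) - 1 = 2 by norm_num] at hv
  obtain ⟨s, hs⟩ := FF.exists_sub_smul_mem P hP 2 hx0 hx2 hx hv
  rw [show (2 : ℤ) - 1 = 1 by norm_num] at hs
  obtain ⟨t, ht⟩ := FF.L_single_one_genus_one hK hgen P hP hs
  have ex : σ x = algebraMap k K u * x + algebraMap k K r := by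
    rw [← hr, Algebra.smul_def]; ring
  have ey : σ y = algebraMap k K v * y + algebraMap k K s * x + algebraMap k K t := by
    rw [← ht, Algebra.smul_def, Algebra.smul_def]; ring
  have hrel : σ y ^ 2 = σ x ^ 3 + algebraMap k K a * σ x + algebraMap k K b := by
    rw [← map_pow, heq, map_add, map_add, map_mul, map_pow, σ.commutes, σ.commutes]
  rw [ex, ey] at hrel
  obtain ⟨c6, hc6⟩ : ∃ c : k, c = v ^ 2 - u ^ 3 := ⟨_, rfl⟩
  obtain ⟨c5, hc5⟩ : ∃ c : k, c = 2 * v * s := ⟨_, rfl⟩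
  obtain ⟨c4, hc4⟩ : ∃ c : k, c = s ^ 2 - 3 * u ^ 2 * r := ⟨_, rfl⟩
  obtain ⟨c3, hc3⟩ : ∃ c : k, c = 2 * v * t := ⟨_, rfl⟩
  obtain ⟨c2, hc2⟩ : ∃ c : k, c = v ^ 2 * a + 2 * s * t - 3 * u * r ^ 2 - a * u := ⟨_, rfl⟩
  obtain ⟨c0, hc0⟩ : ∃ c : k, c = v ^ 2 * b + t ^ 2 - r ^ 3 - a * r - b := ⟨_, rfl⟩
  have h6 : algebraMap k K c6 * x ^ 3 + (algebraMap k K c5 * (x * y) +
      (algebraMap k K c4 * x ^ 2 + (algebraMap k K c3 * y +
        (algebraMap k K c2 * x + algebraMap k K c0)))) = 0 := by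
    rw [hc6, hc5, hc4, hc3, hc2, hc0]
    simp only [map_sub, map_add, map_mul, map_pow, map_ofNat]
    linear_combination hrel - (algebraMap k K v) ^ 2 * heq
  have b0 : P.1 (algebraMap k K c0) ≤ WithZero.exp (0 : ℤ) := by
    rw [WithZero.exp_zero]; exact P.2.1 c0
  have b2 := bound P hxv b0 (by norm_num) c2
  have b3 := bound P hyv b2 (by norm_num) c3
  have b4 := bound P hx2v b3 (by norm_num) c4
  have b5 := bound P hxyv b4 (by norm_num) c5
  obtain ⟨e6, r5⟩ := peel P hx3v b5 (by norm_num) c6 h6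
  obtain ⟨e5, r4⟩ := peel P hxyv b4 (by norm_num) c5 r5
  obtain ⟨e4, r3⟩ := peel P hx2v b3 (by norm_num) c4 r4
  obtain ⟨e3, r2⟩ := peel P hyv b2 (by norm_num) c3 r3
  obtain ⟨e2, r0⟩ := peel P hxv b0 (by norm_num) c2 r2
  have e0 : c0 = 0 := (map_eq_zero_iff _ (algebraMap k K).injective).1 r0
  rw [hc6] at e6
  rw [hc5] at e5
  rw [hc4] at e4
  rw [hc3] at e3
  rw [hc2] at e2
  rw [hc0] at e0
  have hu0 : u ≠ 0 := by
    intro hu0
    have h1 := hσ x
    rw [ex, hu0, map_zero, zero_mul, zero_add, hxv] at h1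
    have h2' := P.2.1 r
    rw [h1, ← WithZero.exp_zero, WithZero.exp_le_exp] at h2'
    omega
  have hv0 : v ≠ 0 := by
    intro hv0
    apply hu0
    have h1 : u ^ 3 = 0 := by
      rw [hv0] at e6
      linear_combination -e6
    exact (pow_eq_zero_iff (by norm_num : (3 : ℕ) ≠ 0)).1 h1
  have hs0 : s = 0 := by
    rcases mul_eq_zero.1 e5 with h | h
    · rcases mul_eq_zero.1 h with h' | h'
      · exact absurd h' h2
      · exact absurd h' hv0
    · exact h
  have ht0 : t = 0 := by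
    rcases mul_eq_zero.1 e3 with h | h
    · rcases mul_eq_zero.1 h with h' | h'
      · exact absurd h' h2
      · exact absurd h' hv0
    · exact h
  have hr0 : r = 0 := by
    rw [hs0] at e4
    have h1 : 3 * u ^ 2 * r = 0 := by linear_combination -e4
    rcases mul_eq_zero.1 h1 with h | h
    · rcases mul_eq_zero.1 h with h' | h'
      · exact absurd h' h3
      · exact absurd h' (pow_ne_zero 2 hu0)
    · exact h
  refine ⟨u, v, hu0, hv0, ?_, ?_, ?_, ?_, ?_⟩
  · linear_combination e6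
  · rw [hs0, ht0, hr0] at e2
    linear_combination e2
  · rw [ht0, hr0] at e0
    linear_combination e0
  · rw [ex, hr0, map_zero, add_zero]
  · rw [ey, hs0, ht0, map_zero, zero_mul, add_zero, add_zero]

open Classical in
theorem s19397 [IsAlgClosed k] (h2 : (2 : k) ≠ 0) (h3 : (3 : k) ≠ 0)
    (hK : IsFunctionField k K) (hgen : genus k K = 1) (P : Place k K)
    (a b : k) (hdisc : 4 * a ^ 3 + 27 * b ^ 2 ≠ 0) (x y : K)
    (heq : y ^ 2 = x ^ 3 + algebraMap k K a * x + algebraMap k K b)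
    (hxy : IntermediateField.adjoin k ({x, y} : Set K) = ⊤)
    (hx : x ∈ L (Finsupp.single P 2)) (hx2 : P.ord x = -2)
    (hy : y ∈ L (Finsupp.single P 3)) (hy3 : P.ord y = -3) :
    Nat.card {σ : K ≃ₐ[k] K // ∀ z : K, P.1 (σ z) = P.1 z} =
      if a = 0 then 6 else if b = 0 then 4 else 2 := by
  obtain ⟨n, hn⟩ : ∃ n : ℕ, n = if a = 0 then 6 else if b = 0 then 4 else 2 := ⟨_, rfl⟩
  rw [← hn]
  have hP := FF.deg_eq_one_of_isAlgClosed hK P
  have hx0 : x ≠ 0 := by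
    rintro rfl
    rw [FF.ord_zero] at hx2
    omega
  have hy0 : y ≠ 0 := by
    rintro rfl
    rw [FF.ord_zero] at hy3
    omega
  have hxv : P.1 x = WithZero.exp (2 : ℤ) := by
    rw [FF.val_eq_exp_neg_ord P hx0, hx2, neg_neg]
  obtain ⟨hxtr, hfrZ⟩ := FF.finrank_adjoin_of_pole hK hP hx0 (by norm_num : (0 : ℤ) < 2) hx hx2
  have hfr : Module.finrank k⟮x⟯ K = 2 := by exact_mod_cast hfrZ
  have hn0 : n ≠ 0 := by
    rw [hn]; split_ifs <;> norm_num
  have hnk : (n : k) ≠ 0 := by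
    rw [hn]
    split_ifs
    · have e : ((6 : ℕ) : k) = 2 * 3 := by norm_num
      rw [e]; exact mul_ne_zero h2 h3
    · have e : ((4 : ℕ) : k) = 2 * 2 := by norm_num
      rw [e]; exact mul_ne_zero h2 h2
    · have e : ((2 : ℕ) : k) = 2 := by norm_num
      rw [e]; exact h2
  -- construction
  have hB : ∀ ζ : k, ζ ^ n = 1 → ∃ σ : K ≃ₐ[k] K, (∀ z, P.1 (σ z) = P.1 z) ∧
      σ x = algebraMap k K (ζ ^ 2) * x ∧ σ y = algebraMap k K (ζ ^ 3) * y := by
    intro ζ hζ
    have hζ0 : ζ ≠ 0 := by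
      rintro rfl
      rw [zero_pow hn0] at hζ
      exact zero_ne_one hζ
    obtain ⟨h4, h6⟩ := (pow_iff hdisc ζ).2 (by rw [← hn]; exact hζ)
    obtain ⟨f, hf⟩ : ∃ f : k[X], f = X ^ 3 + C a * X + C b := ⟨_, rfl⟩
    have hfx : ∀ w : K, aeval w f = w ^ 3 + algebraMap k K a * w + algebraMap k K b := by
      intro w
      rw [hf, map_add, map_add, map_mul, map_pow, aeval_X, aeval_C, aeval_C]
    obtain ⟨σ, hσx, hσy⟩ := exists_algEquiv hxtr hfr hxy f (by rw [hfx]; exact heq)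
      (pow_ne_zero 2 hζ0) (pow_ne_zero 3 hζ0) (by
        rw [hfx, mul_pow, heq]
        have e1 : algebraMap k K a * algebraMap k K (ζ ^ 4) = algebraMap k K a := by
          rw [← map_mul]; congr 1; linear_combination h4
        have e2 : algebraMap k K b * algebraMap k K (ζ ^ 6) = algebraMap k K b := by
          rw [← map_mul]; congr 1; linear_combination h6
        simp only [map_pow] at e1 e2 ⊢
        linear_combination (x * algebraMap k K ζ ^ 2) * e1 + e2)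
    refine ⟨σ, ?_, hσx, hσy⟩
    have hcP : FF.comapPlace σ P = P := by
      by_contra hne
      have h1 := (FF.mem_L_iff _ _).1 hx (FF.comapPlace σ P)
      rw [Finsupp.single_eq_of_ne hne, WithZero.exp_zero, FF.comapPlace_val, hσx, map_mul,
        FF.val_algebraMap P (pow_ne_zero 2 hζ0), one_mul, hxv, ← WithZero.exp_zero,
        WithZero.exp_le_exp] at h1
      omega
    intro z
    exact congrArg (fun Q : Place k K => Q.1 z) hcP
  -- analysis
  have hA : ∀ σ : {σ : K ≃ₐ[k] K // ∀ z : K, P.1 (σ z) = P.1 z},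
      ∃ ζ : {ζ : k // ζ ^ n = 1},
        σ.1 x = algebraMap k K (ζ.1 ^ 2) * x ∧ σ.1 y = algebraMap k K (ζ.1 ^ 3) * y := by
    rintro ⟨σ, hσ⟩
    obtain ⟨u, v, hu, hv, h1, h2', h3', hσx, hσy⟩ :=
      analysis h2 h3 hK hgen P a b heq hx hx2 hy hy3 σ hσ
    obtain ⟨ζ, -, hζ2, hζ3, h4, h6⟩ := zeta_of_uv hu hv h1 h2' h3'
    refine ⟨⟨ζ, ?_⟩, ?_, ?_⟩
    · rw [hn]; exact (pow_iff hdisc ζ).1 ⟨h4, h6⟩
    · rw [hζ2]; exact hσx
    · rw [hζ3]; exact hσy
  choose Φ hΦ using hA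
  have hinj : Function.Injective Φ := by
    intro σ σ' h
    obtain ⟨h1, h2'⟩ := hΦ σ
    obtain ⟨h3', h4⟩ := hΦ σ'
    rw [h] at h1 h2'
    apply Subtype.ext
    exact algEquiv_ext hxy (h1.trans h3'.symm) (h2'.trans h4.symm)
  have hsurj : Function.Surjective Φ := by
    rintro ⟨ζ, hζ⟩
    obtain ⟨σ, hσP, hσx, hσy⟩ := hB ζ hζ
    refine ⟨⟨σ, hσP⟩, ?_⟩
    obtain ⟨h1, h2'⟩ := hΦ ⟨σ, hσP⟩
    obtain ⟨ζ', hζ'⟩ : ∃ ζ', ζ' = Φ ⟨σ, hσP⟩ := ⟨_, rfl⟩
    rw [← hζ'] at h1 h2' ⊢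
    have hζ0 : ζ ≠ 0 := by
      rintro rfl
      rw [zero_pow hn0] at hζ
      exact zero_ne_one hζ
    have e2 : ζ'.1 ^ 2 = ζ ^ 2 := by
      have h : algebraMap k K (ζ'.1 ^ 2) * x = algebraMap k K (ζ ^ 2) * x := h1.symm.trans hσx
      exact (algebraMap k K).injective (mul_right_cancel₀ hx0 h)
    have e3 : ζ'.1 ^ 3 = ζ ^ 3 := by
      have h : algebraMap k K (ζ'.1 ^ 3) * y = algebraMap k K (ζ ^ 3) * y := h2'.symm.trans hσy
      exact (algebraMap k K).injective (mul_right_cancel₀ hy0 h)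
    apply Subtype.ext
    show ζ'.1 = ζ
    have h5 : ζ'.1 * ζ ^ 2 = ζ * ζ ^ 2 := by
      calc ζ'.1 * ζ ^ 2 = ζ'.1 * ζ'.1 ^ 2 := by rw [e2]
        _ = ζ'.1 ^ 3 := by ring
        _ = ζ ^ 3 := e3
        _ = ζ * ζ ^ 2 := by ring
    exact mul_right_cancel₀ (pow_ne_zero 2 hζ0) h5
  rw [Nat.card_congr (Equiv.ofBijective Φ ⟨hinj, hsurj⟩), ← Nat.card_congr (rootsEquiv n hn0)]
  haveI : NeZero (n : k) := ⟨hnk⟩
  haveI : NeZero n := ⟨hn0⟩
  exact HasEnoughRootsOfUnity.natCard_rootsOfUnity k n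

end ff

end Groth.Agent.Helper6.EllAut
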