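import Mathlib
import Groth.Agent.Helper6.PlaneMain
import Groth.Agent.Helper5.FFProj5
import Groth.Agent.Helper5.FFProj6

set_option autoImplicit false
set_option linter.style.haveILetI false

/-!
# Affine charts of a projective map: generic coordinate, finite generation, conductor
-/

namespace Groth.Agent.Helper6.EmbChart

open FunFld
open Groth.Agent.Helper5
open Groth.Agent.Helper6.PlaneGenus
open scoped IntermediateField

universe u v
variable {k : Type u} {K : Type v} [Field k] [Field K] [Algebra k K]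
variable {ι : Type*} [Fintype ι]

/-- coefficient vectors whose combination has valuation `< exp m` at `Q`. -/
def badSub (f : ι → K) (Q : Place k K) (m : ℤ) : Submodule k (ι → k) where
  carrier := {c | Q.1 (∑ i, c i • f i) < WithZero.exp m}
  zero_mem' := by
    show Q.1 (∑ i, (0 : ι → k) i • f i) < WithZero.exp m
    simp [WithZero.exp_pos]
  add_mem' := by
    intro a b ha hb
    show Q.1 (∑ i, (a + b) i • f i) < WithZero.exp m
    have e : ∑ i, (a + b) i • f i = ∑ i, a i • f i + ∑ i, b i • f i := by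
      rw [← Finset.sum_add_distrib]
      exact Finset.sum_congr rfl fun i _ => by rw [Pi.add_apply, add_smul]
    rw [e]
    exact lt_of_le_of_lt (Q.1.map_add _ _) (max_lt ha hb)
  smul_mem' := by
    intro r a ha
    show Q.1 (∑ i, (r • a) i • f i) < WithZero.exp m
    have e : ∑ i, (r • a) i • f i = algebraMap k K r * ∑ i, a i • f i := by
      rw [Finset.mul_sum]
      exact Finset.sum_congr rfl fun i _ => by
        rw [Pi.smul_apply, smul_eq_mul, mul_smul, Algebra.smul_def]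
    rw [e, map_mul]
    calc Q.1 (algebraMap k K r) * Q.1 (∑ i, a i • f i)
        ≤ 1 * Q.1 (∑ i, a i • f i) := mul_le_mul' (Q.2.1 r) le_rfl
      _ = Q.1 (∑ i, a i • f i) := one_mul _
      _ < _ := ha

theorem exists_generic_comb [IsAlgClosed k] [Nonempty ι] (hK : IsFunctionField k K) (f : ι → K)
    (i₀ : ι) (h1 : f i₀ = 1) :
    ∃ c : ι → k, ∀ Q ∈ (mapDiv k f).support,
      Q.1 (∑ i, c i • f i) = WithZero.exp (mapDiv k f Q) := by
  classical
  haveI : Infinite k := IsAlgClosed.instInfinite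
  obtain ⟨A, hA⟩ : ∃ A : Divisor k K, A = mapDiv k f := ⟨_, rfl⟩
  rw [← hA]
  have hne : ∀ Q : ↥A.support, badSub f Q.1 (A Q.1) ≠ ⊤ := by
    intro Q h
    obtain ⟨i, hi⟩ := exists_val_eq_exp_mapDiv hK f i₀ h1 Q.1
    rw [← hA] at hi
    have hmem : (Pi.single i 1 : ι → k) ∈ badSub f Q.1 (A Q.1) := by rw [h]; trivial
    have hlt : Q.1.1 (∑ i', (Pi.single i 1 : ι → k) i' • f i') < WithZero.exp (A Q.1) := hmem
    have e : ∑ i', (Pi.single i 1 : ι → k) i' • f i' = f i := by
      rw [Finset.sum_eq_single i]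
      · rw [Pi.single_eq_same, one_smul]
      · intro b _ hb; rw [Pi.single_eq_of_ne hb, zero_smul]
      · intro h; exact absurd (Finset.mem_univ i) h
    rw [e, hi] at hlt
    exact lt_irrefl _ hlt
  obtain ⟨c, hc⟩ := Submodule.exists_forall_notMem_of_forall_ne_top
    (fun Q : ↥A.support => badSub f Q.1 (A Q.1)) hne
  refine ⟨c, fun Q hQ => ?_⟩
  have h2 : ¬ Q.1 (∑ i, c i • f i) < WithZero.exp (A Q) := hc ⟨Q, hQ⟩
  have h3 : Q.1 (∑ i, c i • f i) ≤ WithZero.exp (A Q) := by
    apply Valuation.map_sum_le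
    intro i _
    rw [Algebra.smul_def, map_mul]
    calc Q.1 (algebraMap k K (c i)) * Q.1 (f i) ≤ 1 * Q.1 (f i) := mul_le_mul' (Q.2.1 _) le_rfl
      _ = Q.1 (f i) := one_mul _
      _ ≤ _ := by rw [hA]; exact val_le_exp_mapDiv hK f Q i
  exact le_antisymm h3 (not_lt.mp h2)

/-- an affine chart with a generic coordinate `g` whose pole divisor is the chart divisor `A`. -/
structure GenChart (f : ι → K) (g : K) (A : Divisor k K) (e : ℕ) : Prop where
  hf_le : ∀ (Q : Place k K) (i : ι), Q.1 (f i) ≤ WithZero.exp (A Q)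
  hA0 : ∀ Q : Place k K, 0 ≤ A Q
  hg_mem : g ∈ Algebra.adjoin k (Set.range f)
  hg_le : ∀ Q : Place k K, Q.1 g ≤ WithZero.exp (A Q)
  hg_eq : ∀ Q ∈ A.support, Q.1 g = WithZero.exp (A Q)
  htr : Transcendental k g
  hdeg : A.deg = (e : ℤ)
  he1 : 1 ≤ e
  hgen : IntermediateField.adjoin k (Set.range f) = ⊤

theorem exists_genChart [IsAlgClosed k] [Nonempty ι] (hK : IsFunctionField k K) (f : ι → K)
    (i₀ : ι) (h1 : f i₀ = 1) (hgen : IntermediateField.adjoin k (Set.range f) = ⊤) :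
    ∃ (g : K) (e : ℕ), GenChart f g (mapDiv k f) e := by
  classical
  obtain ⟨c, hc⟩ := exists_generic_comb hK f i₀ h1
  obtain ⟨A, hA⟩ : ∃ A : Divisor k K, A = mapDiv k f := ⟨_, rfl⟩
  rw [← hA] at hc ⊢
  obtain ⟨g, hg⟩ : ∃ g : K, g = ∑ i, c i • f i := ⟨_, rfl⟩
  rw [← hg] at hc
  have hf_le : ∀ (Q : Place k K) (i : ι), Q.1 (f i) ≤ WithZero.exp (A Q) := by
    intro Q i; rw [hA]; exact val_le_exp_mapDiv hK f Q i
  have hA0 : ∀ Q : Place k K, 0 ≤ A Q := by
    intro Q
    have h := hf_le Q i₀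
    rw [h1, map_one, ← WithZero.exp_zero, WithZero.exp_le_exp] at h
    exact h
  have hg_mem : g ∈ Algebra.adjoin k (Set.range f) := by
    rw [hg]
    exact Subalgebra.sum_mem _ fun i _ =>
      Subalgebra.smul_mem _ (Algebra.subset_adjoin (Set.mem_range_self i)) _
  have hg_le : ∀ Q : Place k K, Q.1 g ≤ WithZero.exp (A Q) := by
    intro Q
    rw [hg]
    apply Valuation.map_sum_le
    intro i _
    rw [Algebra.smul_def, map_mul]
    calc Q.1 (algebraMap k K (c i)) * Q.1 (f i) ≤ 1 * Q.1 (f i) := mul_le_mul' (Q.2.1 _) le_rfl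
      _ = Q.1 (f i) := one_mul _
      _ ≤ _ := hf_le Q i
  have hKne : ∃ z : K, z ∉ Set.range (algebraMap k K) := by
    obtain ⟨z, hz, -⟩ := hK.1
    refine ⟨z, ?_⟩
    rintro ⟨a, rfl⟩
    exact hz (isAlgebraic_algebraMap a)
  have htr : Transcendental k g := by
    apply FF.transcendental_of_not_mem_range hK
    rintro ⟨a, ha⟩
    have hsupp : A.support = ∅ := by
      by_contra hne
      obtain ⟨Q, hQ⟩ := Finset.nonempty_iff_ne_empty.mpr hne
      have h1' := hc Q hQ
      rw [← ha] at h1'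
      have h2 := Q.2.1 a
      have hm : 0 < A Q := lt_of_le_of_ne (hA0 Q) (Ne.symm (Finsupp.mem_support_iff.mp hQ))
      rw [h1', ← WithZero.exp_zero, WithZero.exp_le_exp] at h2
      omega
    have hA0' : ∀ Q, A Q = 0 := fun Q =>
      Finsupp.notMem_support_iff.mp (by rw [hsupp]; exact Finset.notMem_empty Q)
    have hfk : ∀ i, f i ∈ Set.range (algebraMap k K) := fun i =>
      FF.mem_range_of_forall_val_le_one hK (fun Q => by
        have := hf_le Q i; rwa [hA0' Q, WithZero.exp_zero] at this)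
    obtain ⟨z, hz⟩ := hKne
    have hzmem : z ∈ IntermediateField.adjoin k (Set.range f) := by rw [hgen]; trivial
    have hbot : IntermediateField.adjoin k (Set.range f) ≤ ⊥ := by
      rw [IntermediateField.adjoin_le_iff]
      intro w hw
      obtain ⟨i, rfl⟩ := hw
      exact IntermediateField.mem_bot.mpr (hfk i)
    exact hz (IntermediateField.mem_bot.mp (hbot hzmem))
  have hg0 : g ≠ 0 := by
    intro h
    exact htr (h ▸ isAlgebraic_zero)
  have hpole : (-(FunFld.div k g)) ⊔ 0 = A := by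
    ext Q
    rw [Finsupp.sup_apply, Finsupp.neg_apply, Finsupp.zero_apply, FF.div_apply hK]
    by_cases hQ : Q ∈ A.support
    · have h2 := FF.ord_eq_of_val_eq Q (hc Q hQ)
      rw [h2, neg_neg]
      exact sup_eq_left.mpr (hA0 Q)
    · have hAQ : A Q = 0 := Finsupp.notMem_support_iff.mp hQ
      have h1' := hg_le Q
      rw [hAQ, WithZero.exp_zero] at h1'
      have h2 := (FF.ord_nonneg_iff Q hg0).mpr h1'
      rw [hAQ]
      exact sup_eq_right.mpr (by omega)
  have hdeg : A.deg = Module.finrank k⟮g⟯ K := by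
    rw [← hpole]; exact FF.deg_poles_eq hK htr
  haveI : FiniteDimensional k⟮g⟯ K := FF.finiteDimensional_adjoin hK htr
  exact ⟨g, Module.finrank k⟮g⟯ K,
    { hf_le := hf_le, hA0 := hA0, hg_mem := hg_mem, hg_le := hg_le, hg_eq := hc, htr := htr,
      hdeg := hdeg, he1 := Module.finrank_pos, hgen := hgen }⟩

section

variable {f : ι → K} {g : K} {A : Divisor k K} {e : ℕ}

theorem GenChart.g_ne_zero (G : GenChart f g A e) : g ≠ 0 := by
  intro h
  exact G.htr (h ▸ isAlgebraic_zero)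

/-- elements of the chart ring are regular where the chart divisor vanishes. -/
theorem GenChart.val_le_one (G : GenChart f g A e) (Q : Place k K) (hQ : A Q = 0) {r : K}
    (hr : r ∈ Algebra.adjoin k (Set.range f)) : Q.1 r ≤ 1 := by
  induction hr using Algebra.adjoin_induction with
  | mem x hx =>
    obtain ⟨i, rfl⟩ := hx
    have := G.hf_le Q i
    rwa [hQ, WithZero.exp_zero] at this
  | algebraMap c => exact Q.2.1 c
  | add x y _ _ hx hy => exact (Q.1.map_add _ _).trans (max_le hx hy)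
  | mul x y _ _ hx hy => rw [map_mul]; exact mul_le_one' hx hy

theorem GenChart.L_step (hK : IsFunctionField k K) (G : GenChart f g A e) (m : ℕ)
    (hm : 2 * (genus k K : ℤ) - 1 ≤ m * e) :
    L ((m + 2) • A) ≤
      Submodule.map (LinearMap.mulLeft k g) (L ((m + 1) • A)) ⊔ L ((m + 1) • A) := by
  classical
  haveI := FF.finiteDimensional_L hK (m • A)
  haveI := FF.finiteDimensional_L hK ((m + 1) • A)
  haveI := FF.finiteDimensional_L hK ((m + 2) • A)
  have hg0 := G.g_ne_zero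
  have hinj : Function.Injective (LinearMap.mulLeft k g) := mul_right_injective₀ hg0
  have hgV_le : Submodule.map (LinearMap.mulLeft k g) (L ((m + 1) • A)) ≤ L ((m + 2) • A) := by
    rintro _ ⟨v, hv, rfl⟩
    rw [FF.mem_L_iff]
    intro Q
    rw [FF.nsmul_apply']
    have hv' := (FF.mem_L_iff _ _).mp hv Q
    rw [FF.nsmul_apply'] at hv'
    show Q.1 (g * v) ≤ _
    rw [map_mul]
    calc Q.1 g * Q.1 v ≤ WithZero.exp (A Q) * WithZero.exp (((m + 1 : ℕ) : ℤ) * A Q) :=
          mul_le_mul' (G.hg_le Q) hv'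
      _ = WithZero.exp (((m + 2 : ℕ) : ℤ) * A Q) := by
          rw [← WithZero.exp_add]; congr 1; push_cast; ring
  have hV_le : L ((m + 1) • A) ≤ L ((m + 2) • A) := by
    apply FF.L_mono
    intro Q
    rw [FF.nsmul_apply', FF.nsmul_apply']
    have := G.hA0 Q
    push_cast
    nlinarith
  have hinf : Submodule.map (LinearMap.mulLeft k g) (L ((m + 1) • A)) ⊓ L ((m + 1) • A) ≤
      Submodule.map (LinearMap.mulLeft k g) (L (m • A)) := by
    rintro w ⟨⟨v, hv, rfl⟩, hw⟩
    refine ⟨v, ?_, rfl⟩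
    show v ∈ L (m • A)
    rw [FF.mem_L_iff]
    intro Q
    rw [FF.nsmul_apply']
    by_cases hQ : Q ∈ A.support
    · have hgQ := G.hg_eq Q hQ
      have h1 := (FF.mem_L_iff _ _).mp hw Q
      rw [FF.nsmul_apply'] at h1
      have h2 : Q.1 (g * v) ≤ WithZero.exp (((m + 1 : ℕ) : ℤ) * A Q) := h1
      rw [map_mul, hgQ] at h2
      calc Q.1 v = (WithZero.exp (A Q))⁻¹ * (WithZero.exp (A Q) * Q.1 v) := by
            rw [inv_mul_cancel_left₀ WithZero.exp_ne_zero]
        _ ≤ (WithZero.exp (A Q))⁻¹ * WithZero.exp (((m + 1 : ℕ) : ℤ) * A Q) :=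
            mul_le_mul' le_rfl h2
        _ = WithZero.exp ((m : ℤ) * A Q) := by
            rw [← WithZero.exp_neg, ← WithZero.exp_add]; congr 1; push_cast; ring
    · have hAQ : A Q = 0 := Finsupp.notMem_support_iff.mp hQ
      have h1 := (FF.mem_L_iff _ _).mp hv Q
      rw [FF.nsmul_apply', hAQ, mul_zero] at h1
      rw [hAQ, mul_zero]; exact h1
  have hℓ : ∀ j : ℕ, m ≤ j →
      (Module.finrank k (L (j • A)) : ℤ) = j * e + 1 - genus k K := by
    intro j hj
    have hdegj : (j • A).deg = (j : ℤ) * e := by rw [FF.deg_nsmul, G.hdeg]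
    have h5 : (m : ℤ) * e ≤ (j : ℤ) * e :=
      mul_le_mul_of_nonneg_right (by exact_mod_cast hj) (Nat.cast_nonneg e)
    have := FF.ell_eq_of_deg_ge hK (j • A) (by rw [hdegj]; linarith)
    rw [hdegj] at this
    exact this
  have h1 := hℓ m le_rfl
  have h2 := hℓ (m + 1) (by omega)
  have h3 := hℓ (m + 2) (by omega)
  have hfr : Module.finrank k (Submodule.map (LinearMap.mulLeft k g) (L ((m + 1) • A))) =
      Module.finrank k (L ((m + 1) • A)) :=
    (Submodule.equivMapOfInjective _ hinj _).finrank_eq.symm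
  have hfr' : Module.finrank k (Submodule.map (LinearMap.mulLeft k g) (L (m • A))) =
      Module.finrank k (L (m • A)) :=
    (Submodule.equivMapOfInjective _ hinj _).finrank_eq.symm
  have hsum := Submodule.finrank_sup_add_finrank_inf_eq
    (Submodule.map (LinearMap.mulLeft k g) (L ((m + 1) • A))) (L ((m + 1) • A))
  have hinf_le := Submodule.finrank_mono hinf
  have hge : Module.finrank k (L ((m + 2) • A)) ≤
      Module.finrank k ↥(Submodule.map (LinearMap.mulLeft k g) (L ((m + 1) • A)) ⊔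
        L ((m + 1) • A)) := by
    zify at hsum hinf_le hfr hfr' ⊢
    push_cast at h1 h2 h3
    linarith
  exact (Submodule.eq_of_le_of_finrank_le (sup_le hgV_le hV_le) hge).ge

theorem GenChart.mul_mem_of_mem_L (hK : IsFunctionField k K) (G : GenChart f g A e)
    (R : Subalgebra k K) (hgR : g ∈ R) (b : K) (m₀ : ℕ)
    (hm₀ : 2 * (genus k K : ℤ) - 1 ≤ m₀ * e)
    (hb : ∀ w ∈ L ((m₀ + 1) • A), b * w ∈ R) :
    ∀ m : ℕ, ∀ w ∈ L ((m₀ + 1 + m) • A), b * w ∈ R := by
  intro m
  induction m with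
  | zero => intro w hw; exact hb w hw
  | succ m ih =>
    intro w hw
    have e1 : m₀ + 1 + (m + 1) = (m₀ + m) + 2 := by omega
    have e2 : m₀ + 1 + m = (m₀ + m) + 1 := by omega
    rw [e1] at hw
    rw [e2] at ih
    have hm : 2 * (genus k K : ℤ) - 1 ≤ ((m₀ + m : ℕ) : ℤ) * e := by
      have h5 : (m₀ : ℤ) * e ≤ ((m₀ + m : ℕ) : ℤ) * e :=
        mul_le_mul_of_nonneg_right (by exact_mod_cast Nat.le_add_right m₀ m) (Nat.cast_nonneg e)
      linarith
    have hstep := G.L_step hK (m₀ + m) hm hw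
    obtain ⟨y, hy, v', hv', hyv⟩ := Submodule.mem_sup.mp hstep
    obtain ⟨v, hv, rfl⟩ := hy
    rw [← hyv]
    have e3 : b * ((LinearMap.mulLeft k g) v + v') = g * (b * v) + b * v' := by
      show b * (g * v + v') = _
      ring
    rw [e3]
    exact R.add_mem (R.mul_mem hgR (ih v hv)) (ih v' hv')

theorem GenChart.exists_mem_L (hK : IsFunctionField k K) (G : GenChart f g A e) (z : K)
    (hz : ∀ Q : Place k K, A Q = 0 → Q.1 z ≤ 1) (m₁ : ℕ) :
    ∃ m, m₁ ≤ m ∧ z ∈ L (m • A) := by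
  classical
  by_cases hz0 : z = 0
  · exact ⟨m₁, le_rfl, by rw [hz0]; exact Submodule.zero_mem _⟩
  obtain ⟨E, hE⟩ : ∃ E : Divisor k K, E = (-(FunFld.div k z)) ⊔ 0 := ⟨_, rfl⟩
  obtain ⟨m₂, hm₂⟩ : ∃ m₂ : ℕ, m₂ = E.support.sup (fun Q => (E Q).toNat) := ⟨_, rfl⟩
  refine ⟨max m₁ m₂, le_max_left _ _, ?_⟩
  rw [FF.mem_L_iff]
  intro Q
  rw [FF.nsmul_apply']
  by_cases hAQ : A Q = 0
  · rw [hAQ, mul_zero, WithZero.exp_zero]; exact hz Q hAQ
  · have hA1 : 1 ≤ A Q := by have := G.hA0 Q; omega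
    have hEQ : E Q = (-(Q.ord z)) ⊔ 0 := by
      rw [hE, Finsupp.sup_apply, Finsupp.neg_apply, FF.div_apply hK, Finsupp.zero_apply]
    have hEle : E Q ≤ m₂ := by
      by_cases hQ : Q ∈ E.support
      · have h5 := Finset.le_sup (f := fun Q => (E Q).toNat) hQ
        rw [← hm₂] at h5
        have h0 : 0 ≤ E Q := by rw [hEQ]; exact le_sup_right
        have h6 : ((E Q).toNat : ℤ) ≤ m₂ := by exact_mod_cast h5
        rwa [Int.toNat_of_nonneg h0] at h6
      · rw [Finsupp.notMem_support_iff.mp hQ]; exact Nat.cast_nonneg _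
    rw [FF.val_le_exp_iff Q hz0]
    have h1 : -(Q.ord z) ≤ E Q := by rw [hEQ]; exact le_sup_left
    have h2 : (m₂ : ℤ) ≤ ((max m₁ m₂ : ℕ) : ℤ) := by exact_mod_cast le_max_right _ _
    have h3 : ((max m₁ m₂ : ℕ) : ℤ) ≤ ((max m₁ m₂ : ℕ) : ℤ) * A Q :=
      le_mul_of_one_le_right (Nat.cast_nonneg _) hA1
    linarith

end

theorem exists_common_denominator (R : Subalgebra k K)
    (hR : ∀ z : K, ∃ a ∈ R, ∃ b ∈ R, b ≠ 0 ∧ z * b = a) (s : Finset K) :
    ∃ b ∈ R, b ≠ 0 ∧ ∀ w ∈ Submodule.span k (s : Set K), b * w ∈ R := by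
  classical
  induction s using Finset.induction_on with
  | empty =>
    refine ⟨1, R.one_mem, one_ne_zero, ?_⟩
    intro w hw
    rw [Finset.coe_empty, Submodule.span_empty, Submodule.mem_bot] at hw
    rw [hw, mul_zero]; exact R.zero_mem
  | insert x s' _ ih =>
    obtain ⟨b', hb'R, hb'0, hb'⟩ := ih
    obtain ⟨a₀, ha₀, b₀, hb₀, hb₀0, hxb⟩ := hR x
    refine ⟨b' * b₀, R.mul_mem hb'R hb₀, mul_ne_zero hb'0 hb₀0, ?_⟩
    intro w hw
    rw [Finset.coe_insert, Submodule.mem_span_insert] at hw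
    obtain ⟨c, v, hv, rfl⟩ := hw
    have e : b' * b₀ * (c • x + v) = c • (b' * a₀) + b₀ * (b' * v) := by
      rw [← hxb, Algebra.smul_def, Algebra.smul_def]; ring
    rw [e]
    exact R.add_mem (R.smul_mem (R.mul_mem hb'R ha₀) c) (R.mul_mem hb₀ (hb' v hv))

section

variable {f : ι → K} {g : K} {A : Divisor k K} {e : ℕ}

/-- the conductor of the chart ring: a nonzero `b` in the chart ring multiplying every function
regular on the chart into the chart ring. -/
theorem GenChart.exists_conductor (hK : IsFunctionField k K) (G : GenChart f g A e) :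
    ∃ b ∈ Algebra.adjoin k (Set.range f), b ≠ 0 ∧
      ∀ z : K, (∀ Q : Place k K, A Q = 0 → Q.1 z ≤ 1) →
        b * z ∈ Algebra.adjoin k (Set.range f) := by
  classical
  obtain ⟨m₀, hm₀⟩ : ∃ m₀ : ℕ, m₀ = 2 * genus k K := ⟨_, rfl⟩
  have hm₀' : 2 * (genus k K : ℤ) - 1 ≤ m₀ * e := by
    rw [hm₀]
    have : (1 : ℤ) ≤ e := by exact_mod_cast G.he1
    push_cast
    nlinarith [Nat.cast_nonneg (α := ℤ) (genus k K)]
  haveI := FF.finiteDimensional_L hK ((m₀ + 1) • A)
  obtain ⟨s, hs⟩ := Module.Finite.iff_fg.mp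
    (inferInstance : Module.Finite k (L ((m₀ + 1) • A)))
  have hR : ∀ z : K, ∃ a ∈ Algebra.adjoin k (Set.range f),
      ∃ b ∈ Algebra.adjoin k (Set.range f), b ≠ 0 ∧ z * b = a := by
    intro z
    have hz : z ∈ IntermediateField.adjoin k (Set.range f) := by rw [G.hgen]; trivial
    obtain ⟨a, ha, b, hb, hab⟩ := IntermediateField.mem_adjoin_iff_div.mp hz
    by_cases hb0 : b = 0
    · refine ⟨0, Subalgebra.zero_mem _, 1, Subalgebra.one_mem _, one_ne_zero, ?_⟩
      rw [hab, hb0, div_zero, zero_mul]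
    · exact ⟨a, ha, b, hb, hb0, by rw [hab, div_mul_cancel₀ _ hb0]⟩
  obtain ⟨b, hbR, hb0, hb⟩ := exists_common_denominator _ hR s
  rw [hs] at hb
  refine ⟨b, hbR, hb0, ?_⟩
  intro z hz
  obtain ⟨m, hm, hzm⟩ := G.exists_mem_L hK z hz (m₀ + 1)
  obtain ⟨m', rfl⟩ := Nat.exists_eq_add_of_le hm
  exact G.mul_mem_of_mem_L hK _ G.hg_mem b m₀ hm₀' hb m' z hzm

end

end Groth.Agent.Helper6.EmbChart
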