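import Mathlib
import Groth.Agent.Helper6.EmbChart

set_option autoImplicit false
set_option linter.style.haveILetI false
set_option linter.unusedSectionVars false

/-!
# Local rings of a birational projective map: conductor bound, finiteness of singular places,
unibranch-plus-uniformizer criterion
-/

namespace Groth.Agent.Helper6.EmbLoc

open FunFld
open Groth.Agent.Helper5
open Groth.Agent.Helper6.PlaneGenus Groth.Agent.Helper6.PlaneAlg Groth.Agent.Helper6.EmbChart
open scoped IntermediateField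

universe u v
variable {k : Type u} {K : Type v} [Field k] [Field K] [Algebra k K]
variable {ι : Type*} [Fintype ι]

/-- the chart coordinates have common residues at `P` and `Q`. -/
def Fib (f : ι → K) (P Q : Place k K) : Prop :=
  ∀ i, ∃ c : k, P.1 (f i - algebraMap k K c) < 1 ∧ Q.1 (f i - algebraMap k K c) < 1

section

variable {f : ι → K} {g : K} {A : Divisor k K} {e : ℕ}

theorem _root_.Groth.Agent.Helper6.EmbChart.GenChart.exists_separating [IsAlgClosed k] (hK : IsFunctionField k K)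
    (G : GenChart f g A e) (P Q : Place k K) (hP : A P = 0) (hQ : A Q = 0)
    (hne : ¬ Fib f P Q) :
    ∃ h ∈ Algebra.adjoin k (Set.range f), P.1 h = 1 ∧ Q.1 h < 1 := by
  have hex : ∃ i, ∀ c : k,
      ¬ (P.1 (f i - algebraMap k K c) < 1 ∧ Q.1 (f i - algebraMap k K c) < 1) := by
    by_contra hcon
    apply hne
    intro i
    by_contra hi
    exact hcon ⟨i, fun c hc => hi ⟨c, hc⟩⟩
  obtain ⟨i, hi⟩ := hex
  have hQi : Q.1 (f i) ≤ 1 := by
    have := G.hf_le Q i; rwa [hQ, WithZero.exp_zero] at this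
  have hPi : P.1 (f i) ≤ 1 := by
    have := G.hf_le P i; rwa [hP, WithZero.exp_zero] at this
  obtain ⟨c, hc⟩ := FF.exists_const_of_deg_one Q (FF.deg_eq_one_of_isAlgClosed hK Q) hQi
  refine ⟨f i - algebraMap k K c, Subalgebra.sub_mem _
    (Algebra.subset_adjoin (Set.mem_range_self i)) (Subalgebra.algebraMap_mem _ c), ?_, hc⟩
  have hle : P.1 (f i - algebraMap k K c) ≤ 1 :=
    (Valuation.map_sub _ _ _).trans (max_le hPi (P.2.1 c))
  have hnlt : ¬ P.1 (f i - algebraMap k K c) < 1 := fun h => hi c ⟨h, hc⟩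
  exact le_antisymm hle (not_lt.mp hnlt)

theorem _root_.Groth.Agent.Helper6.EmbChart.GenChart.exists_vanishing [IsAlgClosed k] (hK : IsFunctionField k K)
    (G : GenChart f g A e) (P : Place k K) (hP : A P = 0) (ex : Place k K → ℕ)
    (T : Finset (Place k K)) (hT : ∀ Q ∈ T, A Q = 0 ∧ ¬ Fib f P Q) :
    ∃ w ∈ Algebra.adjoin k (Set.range f), P.1 w = 1 ∧
      ∀ Q ∈ T, Q.1 w ≤ WithZero.exp (-(ex Q : ℤ)) := by
  classical
  induction T using Finset.induction_on with
  | empty =>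
    exact ⟨1, Subalgebra.one_mem _, map_one _, fun Q hQ => absurd hQ (Finset.notMem_empty Q)⟩
  | insert Q T' hQT ih =>
    obtain ⟨w', hw'R, hw'P, hw'⟩ := ih (fun Q' hQ' => hT Q' (Finset.mem_insert_of_mem hQ'))
    obtain ⟨hAQ, hfib⟩ := hT Q (Finset.mem_insert_self Q T')
    obtain ⟨h, hhR, hhP, hhQ⟩ := G.exists_separating hK P Q hP hAQ hfib
    refine ⟨w' * h ^ ex Q, Subalgebra.mul_mem _ hw'R (Subalgebra.pow_mem _ hhR _),
      by rw [map_mul, map_pow, hw'P, hhP, one_pow, one_mul], ?_⟩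
    intro Q' hQ'
    rw [map_mul, map_pow]
    rcases Finset.mem_insert.mp hQ' with hEq | hQ''
    · rw [hEq]
      have h1 : Q.1 w' ≤ 1 := G.val_le_one Q hAQ hw'R
      have h2 : Q.1 h ≤ WithZero.exp (-1 : ℤ) := (FF.lt_one_iff_le_exp_neg_one _).mp hhQ
      calc Q.1 w' * Q.1 h ^ ex Q ≤ 1 * WithZero.exp (-1 : ℤ) ^ ex Q :=
            mul_le_mul' h1 (pow_le_pow_left' h2 _)
        _ = WithZero.exp (-(ex Q : ℤ)) := by
            rw [one_mul, ← WithZero.exp_nsmul]; congr 1
            rw [nsmul_eq_mul, mul_neg, mul_one]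
    · have hA' := (hT Q' hQ').1
      have h1 := hw' Q' hQ''
      have h2 : Q'.1 h ≤ 1 := G.val_le_one Q' hA' hhR
      calc Q'.1 w' * Q'.1 h ^ ex Q ≤ WithZero.exp (-(ex Q' : ℤ)) * 1 :=
            mul_le_mul' h1 (pow_le_one' h2 _)
        _ = _ := mul_one _

/-- the local conductor criterion: if `z / b` is regular along the fibre of `P`, then `z` lies in
the local ring of the chart at `P`. -/
theorem _root_.Groth.Agent.Helper6.EmbChart.GenChart.inLoc_of_le [IsAlgClosed k] (hK : IsFunctionField k K) (G : GenChart f g A e)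
    {b : K} (hb0 : b ≠ 0)
    (hb : ∀ z : K, (∀ Q : Place k K, A Q = 0 → Q.1 z ≤ 1) →
      b * z ∈ Algebra.adjoin k (Set.range f))
    (P : Place k K) (hP : A P = 0) (z : K)
    (hz : ∀ Q : Place k K, A Q = 0 → Fib f P Q → Q.1 z ≤ Q.1 b) :
    ∃ u ∈ Algebra.adjoin k (Set.range f), ∃ w ∈ Algebra.adjoin k (Set.range f),
      P.1 w = 1 ∧ z * w = u := by
  classical
  by_cases hz0 : z = 0
  · exact ⟨0, Subalgebra.zero_mem _, 1, Subalgebra.one_mem _, map_one _, by rw [hz0, zero_mul]⟩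
  obtain ⟨y, hy⟩ : ∃ y : K, y = z / b := ⟨_, rfl⟩
  have hy0 : y ≠ 0 := by rw [hy]; exact div_ne_zero hz0 hb0
  obtain ⟨E, hE⟩ : ∃ E : Divisor k K, E = (-(FunFld.div k y)) ⊔ 0 := ⟨_, rfl⟩
  have hEQ : ∀ Q : Place k K, E Q = (-(Q.ord y)) ⊔ 0 := by
    intro Q
    rw [hE, Finsupp.sup_apply, Finsupp.neg_apply, FF.div_apply hK, Finsupp.zero_apply]
  have hyE : ∀ Q : Place k K, Q.1 y ≤ WithZero.exp (E Q) := by
    intro Q
    rw [FF.val_le_exp_iff Q hy0, hEQ]
    have := le_sup_left (a := -(Q.ord y)) (b := 0)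
    omega
  obtain ⟨w, hwR, hwP, hw⟩ := G.exists_vanishing hK P hP (fun Q => (E Q).toNat)
    (E.support.filter fun Q => A Q = 0 ∧ ¬ Fib f P Q)
    (by intro Q hQ; exact (Finset.mem_filter.mp hQ).2)
  have hreg : ∀ Q : Place k K, A Q = 0 → Q.1 (y * w) ≤ 1 := by
    intro Q hAQ
    rw [map_mul]
    have hwQ : Q.1 w ≤ 1 := G.val_le_one Q hAQ hwR
    by_cases hfib : Fib f P Q
    · have h1 : Q.1 y ≤ 1 := by
        rw [hy, map_div₀]
        exact (div_le_one₀ (FF.val_pos Q hb0)).mpr (hz Q hAQ hfib)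
      exact mul_le_one' h1 hwQ
    · by_cases hQE : Q ∈ E.support
      · have hQT : Q ∈ E.support.filter fun Q => A Q = 0 ∧ ¬ Fib f P Q :=
          Finset.mem_filter.mpr ⟨hQE, hAQ, hfib⟩
        have h1 := hw Q hQT
        have h0 : 0 ≤ E Q := by rw [hEQ]; exact le_sup_right
        rw [Int.toNat_of_nonneg h0] at h1
        calc Q.1 y * Q.1 w ≤ WithZero.exp (E Q) * WithZero.exp (-(E Q)) :=
              mul_le_mul' (hyE Q) h1
          _ = 1 := by rw [← WithZero.exp_add, add_neg_cancel, WithZero.exp_zero]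
      · have h1 := hyE Q
        rw [Finsupp.notMem_support_iff.mp hQE, WithZero.exp_zero] at h1
        exact mul_le_one' h1 hwQ
  have hmem := hb (y * w) hreg
  refine ⟨z * w, ?_, w, hwR, hwP, rfl⟩
  have e1 : b * (y * w) = z * w := by rw [hy]; field_simp
  rwa [e1] at hmem

end

/-- a lower bound for the valuations of a nonzero element. -/
theorem exists_bound (hK : IsFunctionField k K) {b : K} (hb0 : b ≠ 0) :
    ∃ N : ℕ, ∀ Q : Place k K, WithZero.exp (-(N : ℤ)) ≤ Q.1 b := by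
  classical
  obtain ⟨E, hE⟩ : ∃ E : Divisor k K, E = (FunFld.div k b) ⊔ 0 := ⟨_, rfl⟩
  refine ⟨E.support.sup (fun Q => (E Q).toNat), fun Q => ?_⟩
  have hEQ : E Q = (Q.ord b) ⊔ 0 := by
    rw [hE, Finsupp.sup_apply, FF.div_apply hK, Finsupp.zero_apply]
  have hEle : E Q ≤ ((E.support.sup (fun Q => (E Q).toNat) : ℕ) : ℤ) := by
    by_cases hQ : Q ∈ E.support
    · have h5 := Finset.le_sup (f := fun Q => (E Q).toNat) hQ
      have h0 : 0 ≤ E Q := by rw [hEQ]; exact le_sup_right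
      have h6 : ((E Q).toNat : ℤ) ≤ ((E.support.sup (fun Q => (E Q).toNat) : ℕ) : ℤ) := by
        exact_mod_cast h5
      rwa [Int.toNat_of_nonneg h0] at h6
    · rw [Finsupp.notMem_support_iff.mp hQ]; exact Nat.cast_nonneg _
  rw [FF.val_eq_exp_neg_ord Q hb0, WithZero.exp_le_exp]
  have h1 : Q.ord b ≤ E Q := by rw [hEQ]; exact le_sup_left
  omega

section Phi

variable {n : ℕ}

theorem adjoin_ratio_eq_top {ι' : Type*} (φ : ι' → K) (j₀ j : ι') (hj₀ : φ j₀ ≠ 0) (hj : φ j ≠ 0)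
    (h : IntermediateField.adjoin k (Set.range fun i => φ i / φ j₀) = ⊤) :
    IntermediateField.adjoin k (Set.range fun i => φ i / φ j) = ⊤ := by
  rw [eq_top_iff, ← h, IntermediateField.adjoin_le_iff]
  intro w hw
  obtain ⟨i, rfl⟩ := hw
  have e : φ i / φ j₀ = (φ i / φ j) / (φ j₀ / φ j) := by field_simp
  show φ i / φ j₀ ∈ IntermediateField.adjoin k (Set.range fun i => φ i / φ j)
  rw [e]
  exact div_mem (IntermediateField.subset_adjoin k _ ⟨i, rfl⟩)
    (IntermediateField.subset_adjoin k _ ⟨j₀, rfl⟩)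

theorem chart_zero_iff (hK : IsFunctionField k K) (φ : Fin (n + 1) → K) (j : Fin (n + 1))
    (hj : φ j ≠ 0) (P : Place k K) :
    mapDiv k (fun i => φ i / φ j) P = 0 ↔ ∀ i, P.1 (φ i) ≤ P.1 (φ j) := by
  have hpos := FF.val_pos P hj
  constructor
  · intro h i
    have h1 := val_le_exp_mapDiv hK (fun i => φ i / φ j) P i
    rw [h, WithZero.exp_zero, map_div₀] at h1
    exact (div_le_one₀ hpos).mp h1
  · intro h
    obtain ⟨i, hi⟩ := exists_val_eq_exp_mapDiv hK (fun i => φ i / φ j) j (div_self hj) P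
    have h1 : P.1 (φ i / φ j) ≤ 1 := by
      rw [map_div₀]; exact (div_le_one₀ hpos).mpr (h i)
    have h2 : P.1 ((fun i => φ i / φ j) j) ≤ WithZero.exp (mapDiv k (fun i => φ i / φ j) P) :=
      val_le_exp_mapDiv hK (fun i => φ i / φ j) P j
    have h3 : P.1 ((fun i => φ i / φ j) j) = 1 := by
      show P.1 (φ j / φ j) = 1
      rw [div_self hj, map_one]
    rw [h3, ← WithZero.exp_zero, WithZero.exp_le_exp] at h2
    have h4 : P.1 ((fun i => φ i / φ j) i) ≤ 1 := h1
    rw [hi, ← WithZero.exp_zero, WithZero.exp_le_exp] at h4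
    omega

theorem sameImage_symm {ι' : Type*} (φ : ι' → K) (P Q : Place k K) (h : SameImage φ P Q) :
    SameImage φ Q P := by
  obtain ⟨j, hj, hP, hQ, hres⟩ := h
  refine ⟨j, hj, hQ, hP, fun i => ?_⟩
  obtain ⟨c, h1, h2⟩ := hres i
  exact ⟨c, h2, h1⟩

/-- S12532: the conductor bound. -/
theorem s12532 [IsAlgClosed k] (hK : IsFunctionField k K)
    (φ : Fin (n + 1) → K) (hφ : LinearIndependent k φ)
    (hbir : IntermediateField.adjoin k (Set.range fun i => φ i / φ 0) = ⊤) (P : Place k K) :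
    ∃ N : ℕ, ∀ z : K, (∀ Q : Place k K, SameImage φ P Q → Q.1 z ≤ WithZero.exp (-(N : ℤ))) →
      InLocRing φ P z := by
  obtain ⟨j, hj0, hjmax⟩ := FF.exists_least_order φ hφ P
  have hgen := adjoin_ratio_eq_top φ 0 j (hφ.ne_zero 0) hj0 hbir
  obtain ⟨g, e, G⟩ := exists_genChart hK (fun i => φ i / φ j) j (div_self hj0) hgen
  obtain ⟨b, hbR, hb0, hb⟩ := G.exists_conductor hK
  obtain ⟨N, hN⟩ := exists_bound hK hb0
  refine ⟨N, fun z hz => ?_⟩
  have hP : mapDiv k (fun i => φ i / φ j) P = 0 := (chart_zero_iff hK φ j hj0 P).mpr hjmax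
  obtain ⟨u, hu, w, hw, hw1, hzw⟩ := G.inLoc_of_le hK hb0 hb P hP z (fun Q hAQ hfib => by
    have hQmax := (chart_zero_iff hK φ j hj0 Q).mp hAQ
    exact (hz Q ⟨j, hj0, hjmax, hQmax, hfib⟩).trans (hN Q))
  exact ⟨j, hj0, hjmax, u, hu, w, hw, hw1, hzw⟩

/-- S11058: a birational projective map has only finitely many singular places. -/
theorem s11058 [IsAlgClosed k] (hK : IsFunctionField k K) (hn : 1 ≤ n)
    (φ : Fin (n + 1) → K) (hφ : LinearIndependent k φ)
    (hbir : IntermediateField.adjoin k (Set.range fun i => φ i / φ 0) = ⊤) :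
    {P : Place k K | ¬ IsNonsingularAt φ P}.Finite := by
  classical
  haveI : Infinite k := IsAlgClosed.instInfinite
  have h00 := hφ.ne_zero 0
  obtain ⟨g, e, G⟩ := exists_genChart hK (fun i => φ i / φ 0) 0 (div_self h00) hbir
  obtain ⟨A, hA⟩ : ∃ A : Divisor k K, A = mapDiv k (fun i => φ i / φ 0) := ⟨_, rfl⟩
  rw [← hA] at G
  obtain ⟨b, hbR, hb0, hb⟩ := G.exists_conductor hK
  have hfin1 : {P : Place k K | A P ≠ 0}.Finite := by
    refine (A.support.finite_toSet).subset ?_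
    intro P hP
    exact Finset.mem_coe.mpr (Finsupp.mem_support_iff.mpr hP)
  have hfin2 : {Q : Place k K | Q.1 b < 1}.Finite := FF.finite_zeros' hK hb0
  have hfin3 : (⋃ Q ∈ {Q : Place k K | Q.1 b < 1}, {P : Place k K | SameImage φ Q P}).Finite :=
    Set.Finite.biUnion hfin2 (fun Q _ => FF.finite_fibre hK hn φ hφ Q)
  apply (hfin1.union hfin3).subset
  intro P hPsing
  by_contra hPgood
  apply hPsing
  have hAP : A P = 0 := by
    by_contra h; exact hPgood (Or.inl h)
  have hnz : ∀ Q : Place k K, SameImage φ Q P → ¬ Q.1 b < 1 := by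
    intro Q hQP hQb
    apply hPgood
    right
    rw [Set.mem_iUnion₂]
    exact ⟨Q, hQb, hQP⟩
  have hPmax : ∀ i, P.1 (φ i) ≤ P.1 (φ 0) := (chart_zero_iff hK φ 0 h00 P).mp (by rw [← hA]; exact hAP)
  have hsame : ∀ Q : Place k K, A Q = 0 → Fib (fun i => φ i / φ 0) P Q → SameImage φ P Q := by
    intro Q hAQ hfib
    exact ⟨0, h00, hPmax, (chart_zero_iff hK φ 0 h00 Q).mp (by rw [← hA]; exact hAQ), hfib⟩
  -- the fibre of `P` is `{P}`
  have hfibre : ∀ Q : Place k K, A Q = 0 → Fib (fun i => φ i / φ 0) P Q → Q = P := by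
    intro Q hAQ hfib
    by_contra hQP
    obtain ⟨m, hm⟩ : ∃ m : ℕ, m = 2 * genus k K + 1 := ⟨_, rfl⟩
    obtain ⟨F, hF⟩ : ∃ F : Divisor k K, F = m • A - Finsupp.single P 1 := ⟨_, rfl⟩
    have hFdeg : 2 * (genus k K : ℤ) ≤ F.deg := by
      rw [hF, FF.deg_sub, FF.deg_nsmul, G.hdeg, FF.deg_single, FF.deg_eq_one_of_isAlgClosed hK P,
        hm]
      have : (1 : ℤ) ≤ e := by exact_mod_cast G.he1
      push_cast
      nlinarith [Nat.cast_nonneg (α := ℤ) (genus k K)]
    have hFpos : 0 < ell F := by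
      have h1 := FF.ell_eq_of_deg_ge hK F (by omega)
      have : (0 : ℤ) < ell F := by omega
      exact_mod_cast this
    obtain ⟨s, hsL, hs0, hsord⟩ := FF.exists_generic hK F {Q} hFpos
      (fun Q' _ => FF.ell_step_lt hK F Q' hFdeg)
    have hFQ : F Q = 0 := by
      rw [hF, Finsupp.sub_apply, FF.nsmul_apply', hAQ, mul_zero,
        Finsupp.single_eq_of_ne (fun h => hQP h), sub_zero]
    have hFP : F P = -1 := by
      rw [hF, Finsupp.sub_apply, FF.nsmul_apply', hAP, mul_zero, Finsupp.single_eq_same, zero_sub]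
    have hsQ : Q.1 s = 1 := by
      rw [FF.val_eq_exp_neg_ord Q hs0, hsord Q (Finset.mem_singleton_self Q), hFQ, neg_neg,
        WithZero.exp_zero]
    have hsP : P.1 s < 1 := by
      have h1 := (FF.mem_L_iff _ _).mp hsL P
      rw [hFP] at h1
      exact (FF.lt_one_iff_le_exp_neg_one _).mpr h1
    have hsreg : ∀ Q' : Place k K, A Q' = 0 → Q'.1 s ≤ 1 := by
      intro Q' hAQ'
      have h1 := (FF.mem_L_iff _ _).mp hsL Q'
      refine h1.trans ?_
      rw [← WithZero.exp_zero, WithZero.exp_le_exp, hF, Finsupp.sub_apply, FF.nsmul_apply', hAQ',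
        mul_zero, zero_sub, neg_nonpos]
      by_cases hQ'P : Q' = P
      · rw [hQ'P, Finsupp.single_eq_same]; norm_num
      · rw [Finsupp.single_eq_of_ne (fun h => hQ'P h)]
    have hr := hb s hsreg
    obtain ⟨c, hc1, hc2⟩ := FF.exists_common_residue (fun i => φ i / φ 0) P Q hfib hr
    have hbP : P.1 b ≤ 1 := G.val_le_one P hAP hbR
    have hrP : P.1 (b * s) < 1 := by
      rw [map_mul]
      calc P.1 b * P.1 s ≤ 1 * P.1 s := mul_le_mul' hbP le_rfl
        _ = P.1 s := one_mul _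
        _ < 1 := hsP
    have hc0 : c = 0 := (FF.val_lt_one_iff_of_residue P hc1).mp hrP
    have hrQ : Q.1 (b * s) < 1 := (FF.val_lt_one_iff_of_residue Q hc2).mpr hc0
    rw [map_mul, hsQ, mul_one] at hrQ
    exact hnz Q (sameImage_symm φ P Q (hsame Q hAQ hfib)) hrQ
  intro z hz
  have hPP : Fib (fun i => φ i / φ 0) P P := by
    intro i
    have hle : P.1 (φ i / φ 0) ≤ 1 := by
      have := G.hf_le P i; rwa [hAP, WithZero.exp_zero] at this
    obtain ⟨c, hc⟩ := FF.exists_const_of_deg_one P (FF.deg_eq_one_of_isAlgClosed hK P) hle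
    exact ⟨c, hc, hc⟩
  have hbP1 : 1 ≤ P.1 b := not_lt.mp (hnz P (hsame P hAP hPP))
  obtain ⟨u, hu, w, hw, hw1, hzw⟩ := G.inLoc_of_le hK hb0 hb P hAP z (fun Q hAQ hfib => by
    rw [hfibre Q hAQ hfib]
    exact hz.trans hbP1)
  exact ⟨0, h00, hPmax, u, hu, w, hw, hw1, hzw⟩

/-- the local ring of a chart ring at a place, as a subalgebra. -/
def locSubalgebra (R : Subalgebra k K) (P : Place k K) : Subalgebra k K where
  carrier := {z | ∃ u ∈ R, ∃ w ∈ R, P.1 w = 1 ∧ z * w = u}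
  mul_mem' := by
    rintro z₁ z₂ ⟨u₁, hu₁, w₁, hw₁, hw₁', h₁⟩ ⟨u₂, hu₂, w₂, hw₂, hw₂', h₂⟩
    refine ⟨u₁ * u₂, R.mul_mem hu₁ hu₂, w₁ * w₂, R.mul_mem hw₁ hw₂,
      by rw [map_mul, hw₁', hw₂', one_mul], ?_⟩
    rw [← h₁, ← h₂]; ring
  add_mem' := by
    rintro z₁ z₂ ⟨u₁, hu₁, w₁, hw₁, hw₁', h₁⟩ ⟨u₂, hu₂, w₂, hw₂, hw₂', h₂⟩
    refine ⟨u₁ * w₂ + u₂ * w₁, R.add_mem (R.mul_mem hu₁ hw₂) (R.mul_mem hu₂ hw₁), w₁ * w₂,
      R.mul_mem hw₁ hw₂, by rw [map_mul, hw₁', hw₂', one_mul], ?_⟩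
    rw [← h₁, ← h₂]; ring
  algebraMap_mem' := fun c =>
    ⟨algebraMap k K c, R.algebraMap_mem c, 1, R.one_mem, map_one _, mul_one _⟩

theorem mem_locSubalgebra (R : Subalgebra k K) (P : Place k K) (z : K) :
    z ∈ locSubalgebra R P ↔ ∃ u ∈ R, ∃ w ∈ R, P.1 w = 1 ∧ z * w = u := Iff.rfl

/-- S11065. -/
theorem s11065 [IsAlgClosed k] (hK : IsFunctionField k K)
    (φ : Fin (n + 1) → K) (hφ : LinearIndependent k φ)
    (hbir : IntermediateField.adjoin k (Set.range fun i => φ i / φ 0) = ⊤) (P : Place k K) :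
    IsNonsingularAt φ P ↔
      (∀ Q : Place k K, (∀ z : K, InLocRing φ P z → Q.1 z ≤ 1) → Q = P) ∧
        ∃ t : K, InLocRing φ P t ∧ P.1 t = WithZero.exp (-1) := by
  constructor
  · intro hns
    refine ⟨fun Q hQ => (FF.eq_of_O_le (fun y hy => hQ y (hns y hy))).symm, ?_⟩
    obtain ⟨t, ht⟩ := FF.exists_uniformizer P
    refine ⟨t, hns t ?_, ht⟩
    rw [ht, ← WithZero.exp_zero, WithZero.exp_le_exp]; norm_num
  · rintro ⟨huniq, t, htloc, ht⟩
    obtain ⟨j, hj0, hjmax⟩ := FF.exists_least_order φ hφ P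
    have hgen := adjoin_ratio_eq_top φ 0 j (hφ.ne_zero 0) hj0 hbir
    obtain ⟨g, e, G⟩ := exists_genChart hK (fun i => φ i / φ j) j (div_self hj0) hgen
    obtain ⟨A, hA⟩ : ∃ A : Divisor k K, A = mapDiv k (fun i => φ i / φ j) := ⟨_, rfl⟩
    rw [← hA] at G
    obtain ⟨b, hbR, hb0, hb⟩ := G.exists_conductor hK
    have hAP : A P = 0 := by rw [hA]; exact (chart_zero_iff hK φ j hj0 P).mpr hjmax
    have hfibre : ∀ Q : Place k K, A Q = 0 → Fib (fun i => φ i / φ j) P Q → Q = P := by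
      intro Q hAQ hfib
      apply huniq
      have hsame : SameImage φ P Q :=
        ⟨j, hj0, hjmax, (chart_zero_iff hK φ j hj0 Q).mp (by rw [← hA]; exact hAQ), hfib⟩
      intro z hz
      exact ((FF.sameImage_iff hK φ hφ P Q).mp hsame z hz).1
    obtain ⟨R, hR⟩ : ∃ R : Subalgebra k K,
        R = Algebra.adjoin k (Set.range fun i => φ i / φ j) := ⟨_, rfl⟩
    rw [← hR] at hb hbR
    have hgR : ∀ {u w z : K}, u ∈ R → w ∈ R → P.1 w = 1 → z * w = u → InLocRing φ P z := by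
      intro u w z hu hw hw1 hzw
      rw [hR] at hu hw
      exact ⟨j, hj0, hjmax, u, hu, w, hw, hw1, hzw⟩
    have hloc_t : t ∈ locSubalgebra R P := by
      obtain ⟨j', hj'0, hj'max, u, hu, w, hw, hw1, hzw⟩ := htloc
      exact transfer φ P R (φ j) j' hj0 hj'0
        (fun i => by rw [hR]; exact Algebra.subset_adjoin ⟨i, rfl⟩)
        (le_antisymm (hjmax j') (hj'max j)) hu hw hw1 hzw
    have ht0 : t ≠ 0 := FF.ne_zero_of_val_eq_exp P ht
    have hbP : P.1 b ≤ 1 := G.val_le_one P hAP (by rw [← hR]; exact hbR)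
    obtain ⟨N, hN⟩ : ∃ N : ℕ, P.1 b = WithZero.exp (-(N : ℤ)) := by
      have h0 : 0 ≤ P.ord b := (FF.ord_nonneg_iff P hb0).mpr hbP
      refine ⟨(P.ord b).toNat, ?_⟩
      rw [Int.toNat_of_nonneg h0]
      exact FF.val_eq_exp_neg_ord P hb0
    have hH : ∀ d : ℕ, ∀ z : K, P.1 z ≤ WithZero.exp (-((N - d : ℕ) : ℤ)) →
        z ∈ locSubalgebra R P := by
      intro d
      induction d with
      | zero =>
        intro z hz
        rw [Nat.sub_zero, ← hN] at hz
        have h5 := G.inLoc_of_le hK hb0 (by rw [← hR]; exact hb) P hAP z (fun Q hAQ hfib => by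
          rw [hfibre Q hAQ hfib]; exact hz)
        rw [← hR] at h5
        exact h5
      | succ d ih =>
        intro z hz
        by_cases hd : N ≤ d
        · have e1 : N - (d + 1) = N - d := by omega
          rw [e1] at hz
          exact ih z hz
        · obtain ⟨m, hm⟩ : ∃ m : ℕ, m = N - (d + 1) := ⟨_, rfl⟩
          have e1 : N - d = m + 1 := by omega
          rw [← hm] at hz
          rw [e1] at ih
          -- expand `z = c t^m + (y - c) t^m`
          obtain ⟨y, hy⟩ : ∃ y : K, y = z / t ^ m := ⟨_, rfl⟩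
          have htm0 : t ^ m ≠ 0 := pow_ne_zero _ ht0
          have htm : P.1 (t ^ m) = WithZero.exp (-(m : ℤ)) := by
            rw [map_pow, ht, ← WithZero.exp_nsmul]; congr 1
            rw [nsmul_eq_mul, mul_neg, mul_one]
          have hyle : P.1 y ≤ 1 := by
            rw [hy, map_div₀, htm]
            exact (div_le_one₀ WithZero.exp_pos).mpr hz
          obtain ⟨c, hc⟩ := FF.exists_const_of_deg_one P (FF.deg_eq_one_of_isAlgClosed hK P) hyle
          have hc' : P.1 (y - algebraMap k K c) ≤ WithZero.exp (-1 : ℤ) :=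
            (FF.lt_one_iff_le_exp_neg_one _).mp hc
          have hz_eq : z = algebraMap k K c * t ^ m + (y - algebraMap k K c) * t ^ m := by
            rw [hy]; field_simp; ring
          have h1 : (y - algebraMap k K c) * t ^ m ∈ locSubalgebra R P := by
            apply ih
            rw [map_mul, htm]
            calc P.1 (y - algebraMap k K c) * WithZero.exp (-(m : ℤ))
                ≤ WithZero.exp (-1 : ℤ) * WithZero.exp (-(m : ℤ)) := mul_le_mul' hc' le_rfl
              _ = WithZero.exp (-((m + 1 : ℕ) : ℤ)) := by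
                  rw [← WithZero.exp_add]; congr 1; push_cast; ring
          rw [hz_eq]
          exact Subalgebra.add_mem _
            (Subalgebra.mul_mem _ (Subalgebra.algebraMap_mem _ c) (Subalgebra.pow_mem _ hloc_t m))
            h1
    intro z hz
    have h1 := hH N z (by rw [Nat.sub_self]; simpa using hz)
    obtain ⟨u, hu, w, hw, hw1, hzw⟩ := h1
    exact hgR hu hw hw1 hzw

end Phi

end Groth.Agent.Helper6.EmbLoc
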