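import Mathlib
import Groth.Agent.Helper6.EmbLoc

set_option autoImplicit false
set_option linter.style.haveILetI false
set_option linter.unusedSectionVars false

/-!
# Criteria for nonsingularity of a birational projective map at a place
-/

namespace Groth.Agent.Helper6.EmbCrit

open FunFld
open Groth.Agent.Helper5
open Groth.Agent.Helper6.PlaneGenus Groth.Agent.Helper6.PlaneAlg Groth.Agent.Helper6.EmbChart
open Groth.Agent.Helper6.EmbLoc
open scoped IntermediateField

universe u v
variable {k : Type u} {K : Type v} [Field k] [Field K] [Algebra k K]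

theorem lt_exp_iff (a : WithZero (Multiplicative ℤ)) (m : ℤ) :
    a < WithZero.exp m ↔ a ≤ WithZero.exp (m - 1) := by
  have h := WithZero.lt_mul_exp_iff_le (x := a) (y := WithZero.exp (m - 1)) WithZero.exp_ne_zero
  rw [← WithZero.exp_add, sub_add_cancel] at h
  exact h

theorem exists_val_eq' (hK : IsFunctionField k K) {ι : Type*} [Fintype ι] [Nonempty ι]
    (φ : ι → K) (hne : ∀ i, φ i ≠ 0) (P : Place k K) :
    ∃ i, P.1 (φ i) = WithZero.exp (mapDiv k φ P) := by
  obtain ⟨i, -, hi⟩ := Finset.exists_mem_eq_inf' Finset.univ_nonempty (fun i => P.ord (φ i))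
  rw [FG.mapDiv_apply hK.1, hi]
  exact ⟨i, FF.val_eq_exp_neg_ord P (hne i)⟩

theorem mem_L_sub_single_iff (F : Divisor k K) (Q : Place k K) (v : K) :
    v ∈ L (F - Finsupp.single Q 1) ↔ v ∈ L F ∧ Q.1 v ≤ WithZero.exp (F Q - 1) := by
  classical
  constructor
  · intro h
    refine ⟨fun R => ?_, ?_⟩
    · refine (h R).trans ?_
      rw [WithZero.exp_le_exp, Finsupp.sub_apply]
      by_cases hR : R = Q
      · rw [hR, Finsupp.single_eq_same]; omega
      · rw [Finsupp.single_eq_of_ne hR, sub_zero]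
    · have := h Q
      rwa [Finsupp.sub_apply, Finsupp.single_eq_same] at this
  · rintro ⟨h1, h2⟩ R
    by_cases hR : R = Q
    · rw [hR, Finsupp.sub_apply, Finsupp.single_eq_same]; exact h2
    · rw [Finsupp.sub_apply, Finsupp.single_eq_of_ne hR, sub_zero]; exact h1 R

theorem exact_val_of_not_mem (F : Divisor k K) (Q : Place k K) {v : K} (hv : v ∈ L F)
    (hnot : v ∉ L (F - Finsupp.single Q 1)) : Q.1 v = WithZero.exp (F Q) := by
  apply le_antisymm (hv Q)
  by_contra hlt
  rw [not_le, lt_exp_iff] at hlt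
  exact hnot ((mem_L_sub_single_iff F Q v).mpr ⟨hv, hlt⟩)

theorem finrank_inf_step [IsAlgClosed k] (hK : IsFunctionField k K) (W : Submodule k K)
    [FiniteDimensional k W] (F : Divisor k K) (Q : Place k K) :
    Module.finrank k ↥(W ⊓ L (F + Finsupp.single Q 1)) ≤ Module.finrank k ↥(W ⊓ L F) + 1 := by
  classical
  obtain ⟨t, ht⟩ := FF.exists_uniformizer Q
  haveI : FiniteDimensional k ↥(W ⊓ L (F + Finsupp.single Q 1)) :=
    Submodule.finiteDimensional_of_le inf_le_left
  haveI : FiniteDimensional k ↥(W ⊓ L F) := Submodule.finiteDimensional_of_le inf_le_left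
  let ψ : ↥(W ⊓ L (F + Finsupp.single Q 1)) →ₗ[k] IsLocalRing.ResidueField Q.O :=
    (FF.stepMap F Q t ht).comp (Submodule.inclusion inf_le_right)
  have h1 := LinearMap.finrank_range_add_finrank_ker ψ
  have hdeg : Module.finrank k (IsLocalRing.ResidueField Q.O) = 1 :=
    FF.deg_eq_one_of_isAlgClosed hK Q
  haveI : FiniteDimensional k (IsLocalRing.ResidueField Q.O) :=
    Module.finite_of_finrank_pos (by rw [hdeg]; norm_num)
  have h3 : Module.finrank k (LinearMap.range ψ) ≤ 1 := by
    rw [← hdeg]; exact Submodule.finrank_le _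
  let ι' : LinearMap.ker ψ →ₗ[k] ↥(W ⊓ L F) :=
    { toFun := fun x => ⟨x.1.1, x.1.2.1,
        (FF.mem_ker_stepMap F Q t ht (Submodule.inclusion inf_le_right x.1)).mp x.2⟩
      map_add' := fun _ _ => rfl
      map_smul' := fun _ _ => rfl }
  have hι' : Function.Injective ι' := by
    intro x y h
    apply Subtype.ext; apply Subtype.ext
    exact congrArg (fun z : ↥(W ⊓ L F) => z.1) h
  have h2 : Module.finrank k (LinearMap.ker ψ) ≤ Module.finrank k ↥(W ⊓ L F) :=
    LinearMap.finrank_le_finrank_of_injective hι'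
  omega

theorem finrank_inf_step' [IsAlgClosed k] (hK : IsFunctionField k K) (W : Submodule k K)
    [FiniteDimensional k W] (F : Divisor k K) (Q : Place k K) :
    Module.finrank k ↥(W ⊓ L F) ≤ Module.finrank k ↥(W ⊓ L (F - Finsupp.single Q 1)) + 1 := by
  have := finrank_inf_step hK W (F - Finsupp.single Q 1) Q
  rwa [sub_add_cancel] at this

theorem mul_mem_span_of_mem_span_div {n : ℕ} (φ : Fin (n + 1) → K) (j : Fin (n + 1))
    (hj : φ j ≠ 0) {t : K} (ht : t ∈ Submodule.span k (Set.range fun i => φ i / φ j)) :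
    t * φ j ∈ Submodule.span k (Set.range φ) := by
  induction ht using Submodule.span_induction with
  | mem x hx =>
    obtain ⟨i, rfl⟩ := hx
    show φ i / φ j * φ j ∈ _
    rw [div_mul_cancel₀ _ hj]
    exact Submodule.subset_span ⟨i, rfl⟩
  | zero => rw [zero_mul]; exact Submodule.zero_mem _
  | add x y _ _ hx hy => rw [add_mul]; exact Submodule.add_mem _ hx hy
  | smul r x _ hx => rw [smul_mul_assoc]; exact Submodule.smul_mem _ r hx

section Main

variable {n : ℕ}

/-- elements of the local ring are regular at `P`. -/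
theorem val_le_one_of_inLocRing (φ : Fin (n + 1) → K) (P : Place k K) {z : K}
    (hz : InLocRing φ P z) : P.1 z ≤ 1 := by
  obtain ⟨j, hj0, hjmax, u, hu, w, hw, hw1, hzw⟩ := hz
  have hreg : ∀ r ∈ Algebra.adjoin k (Set.range fun i => φ i / φ j), P.1 r ≤ 1 := by
    intro r hr
    induction hr using Algebra.adjoin_induction with
    | mem x hx =>
      obtain ⟨i, rfl⟩ := hx
      show P.1 (φ i / φ j) ≤ 1
      rw [map_div₀]
      exact (div_le_one₀ (FF.val_pos P hj0)).mpr (hjmax i)
    | algebraMap c => exact P.2.1 c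
    | add x y _ _ hx hy => exact (P.1.map_add _ _).trans (max_le hx hy)
    | mul x y _ _ hx hy => rw [map_mul]; exact mul_le_one' hx hy
  have h1 : P.1 z = P.1 u := by rw [← hzw, map_mul, hw1, mul_one]
  rw [h1]; exact hreg u hu

/-- units of the valuation ring lying in the local ring have their inverse in the local ring. -/
theorem inLocRing_inv (φ : Fin (n + 1) → K) (P : Place k K) {z : K}
    (hz : InLocRing φ P z) (h1 : P.1 z = 1) : InLocRing φ P z⁻¹ := by
  obtain ⟨j, hj0, hjmax, u, hu, w, hw, hw1, hzw⟩ := hz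
  have hz0 : z ≠ 0 := by rintro rfl; simp at h1
  refine ⟨j, hj0, hjmax, w, hw, u, hu, ?_, ?_⟩
  · rw [← hzw, map_mul, h1, hw1, one_mul]
  · rw [← hzw, inv_mul_cancel_left₀ hz0]

theorem inLocRing_sub_const (φ : Fin (n + 1) → K) (P : Place k K) {z : K}
    (hz : InLocRing φ P z) (c : k) : InLocRing φ P (z - algebraMap k K c) := by
  obtain ⟨j, hj0, hjmax, u, hu, w, hw, hw1, hzw⟩ := hz
  refine ⟨j, hj0, hjmax, u - algebraMap k K c * w, Subalgebra.sub_mem _ hu
    (Subalgebra.mul_mem _ (Subalgebra.algebraMap_mem _ c) hw), w, hw, hw1, ?_⟩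
  rw [← hzw]; ring

/-- a place dominating the local ring at `P` has the same image as `P`. -/
theorem sameImage_of_dominates [IsAlgClosed k] (hK : IsFunctionField k K)
    (φ : Fin (n + 1) → K) (hφ : LinearIndependent k φ) (P Q : Place k K)
    (hdom : ∀ z : K, InLocRing φ P z → Q.1 z ≤ 1) : SameImage φ P Q := by
  rw [FF.sameImage_iff hK φ hφ P Q]
  intro z hz
  refine ⟨hdom z hz, ?_, ?_⟩
  · intro hQz
    by_contra hPz
    have hP1 : P.1 z = 1 := le_antisymm (val_le_one_of_inLocRing φ P hz) (not_lt.mp hPz)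
    have h2 := hdom _ (inLocRing_inv φ P hz hP1)
    have hz0 : z ≠ 0 := by rintro rfl; simp at hP1
    rw [map_inv₀, inv_le_one₀ (FF.val_pos Q hz0)] at h2
    exact absurd hQz (not_lt.mpr h2)
  · intro hPz
    by_contra hQz
    have hQ1 : Q.1 z = 1 := le_antisymm (hdom z hz) (not_lt.mp hQz)
    obtain ⟨c, hc⟩ := FF.exists_const_of_deg_one Q (FF.deg_eq_one_of_isAlgClosed hK Q) hQ1.le
    have hc0 : c ≠ 0 := by
      intro h0
      have := (FF.val_lt_one_iff_of_residue Q hc).mpr h0
      rw [hQ1] at this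
      exact lt_irrefl _ this
    have hw : InLocRing φ P (z - algebraMap k K c) := inLocRing_sub_const φ P hz c
    have hP1 : P.1 (z - algebraMap k K c) = 1 := by
      have e : z - algebraMap k K c - algebraMap k K (-c) = z := by rw [map_neg]; ring
      exact FF.val_eq_one_of_residue P (c := -c) (by rw [e]; exact hPz) (neg_ne_zero.mpr hc0)
    have h2 := hdom _ (inLocRing_inv φ P hw hP1)
    have hw0 : z - algebraMap k K c ≠ 0 := by
      intro h0; rw [h0, map_zero] at hP1; exact zero_ne_one hP1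
    rw [map_inv₀, inv_le_one₀ (FF.val_pos Q hw0)] at h2
    exact absurd hc (not_lt.mpr h2)

/-- the tangent condition at `P` under nonsingularity: a section with exact order `1 - D P`. -/
theorem exists_tangent [IsAlgClosed k] (hK : IsFunctionField k K)
    (φ : Fin (n + 1) → K) (P : Place k K) (j : Fin (n + 1)) (hj0 : φ j ≠ 0)
    (hjmax : ∀ i, P.1 (φ i) ≤ P.1 (φ j)) (hns : IsNonsingularAt φ P) :
    ∃ v ∈ Submodule.span k (Set.range φ), P.1 v = WithZero.exp (-1) * P.1 (φ j) := by
  obtain ⟨t₀, ht₀⟩ := FF.exists_uniformizer P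
  have ht₀le : P.1 t₀ ≤ 1 := by
    rw [ht₀, ← WithZero.exp_zero, WithZero.exp_le_exp]; norm_num
  obtain ⟨j', hj'0, hj'max, u, hu, w, hw, hw1, hzw⟩ := hns t₀ ht₀le
  obtain ⟨U, hU, W, hW, hW1, hzW⟩ := transfer φ P
    (Algebra.adjoin k (Set.range fun i => φ i / φ j)) (φ j) j' hj0 hj'0
    (fun i => Algebra.subset_adjoin ⟨i, rfl⟩) (le_antisymm (hjmax j') (hj'max j)) hu hw hw1 hzw
  have e : (fun i => (fun i => φ i / φ j) i / (fun i => φ i / φ j) j) = fun i => φ i / φ j := by
    funext i
    show φ i / φ j / (φ j / φ j) = φ i / φ j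
    rw [div_self hj0, div_one]
  have hloc' : InLocRing (fun i => φ i / φ j) P t₀ := by
    refine ⟨j, ?_, ?_, U, ?_, W, ?_, hW1, hzW⟩
    · show φ j / φ j ≠ 0
      rw [div_self hj0]; exact one_ne_zero
    · intro i
      show P.1 (φ i / φ j) ≤ P.1 (φ j / φ j)
      rw [div_self hj0, map_one, map_div₀]
      exact (div_le_one₀ (FF.val_pos P hj0)).mpr (hjmax i)
    · rw [e]; exact hU
    · rw [e]; exact hW
  have heff : (1 : K) ∈ Submodule.span k (Set.range fun i => φ i / φ j) :=
    Submodule.subset_span ⟨j, div_self hj0⟩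
  have hnorm : ∀ i, P.1 ((fun i => φ i / φ j) i) ≤ 1 := by
    intro i
    show P.1 (φ i / φ j) ≤ 1
    rw [map_div₀]
    exact (div_le_one₀ (FF.val_pos P hj0)).mpr (hjmax i)
  obtain ⟨t', ht'span, ht'⟩ :=
    (FF.locParam_iff hK (fun i => φ i / φ j) P heff hnorm).mp ⟨t₀, hloc', ht₀⟩
  exact ⟨t' * φ j, mul_mem_span_of_mem_span_div φ j hj0 ht'span, by rw [map_mul, ht']⟩

/-- the separation property at `(P, Q)`. -/
def Sep (V : Submodule k K) (D : Divisor k K) (P Q : Place k K) : Prop :=
  ∃ v ∈ V ⊓ L (D - Finsupp.single P 1), v ∉ L (D - Finsupp.single P 1 - Finsupp.single Q 1)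

theorem sub_sub_apply_self (D : Divisor k K) (P : Place k K) :
    (D - Finsupp.single P 1 - Finsupp.single P 1 : Divisor k K) P = D P - 2 := by
  rw [Finsupp.sub_apply, Finsupp.sub_apply, Finsupp.single_eq_same]; ring

/-- `IsNonsingularAt` is equivalent to the separation property at all `Q`. -/
theorem nonsingular_iff_sep [IsAlgClosed k] (hK : IsFunctionField k K)
    (φ : Fin (n + 1) → K) (hφ : LinearIndependent k φ)
    (hbir : IntermediateField.adjoin k (Set.range fun i => φ i / φ 0) = ⊤) (P : Place k K) :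
    IsNonsingularAt φ P ↔
      ∀ Q : Place k K, Sep (Submodule.span k (Set.range φ)) (mapDiv k φ) P Q := by
  classical
  obtain ⟨V, hV⟩ : ∃ V : Submodule k K, V = Submodule.span k (Set.range φ) := ⟨_, rfl⟩
  obtain ⟨D, hD⟩ : ∃ D : Divisor k K, D = mapDiv k φ := ⟨_, rfl⟩
  rw [← hV, ← hD]
  haveI : FiniteDimensional k V := by
    rw [hV]; exact FiniteDimensional.span_of_finite k (Set.finite_range φ)
  have hle : ∀ (Q : Place k K) (i : Fin (n + 1)), Q.1 (φ i) ≤ WithZero.exp (D Q) := by
    intro Q i; rw [hD]; exact val_le_exp_mapDiv hK φ Q i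
  have hatt : ∀ Q : Place k K, ∃ i, Q.1 (φ i) = WithZero.exp (D Q) := by
    intro Q; rw [hD]; exact exists_val_eq' hK φ (fun i => hφ.ne_zero i) Q
  have hVL : V ≤ L D := by
    rw [hV, Submodule.span_le]
    rintro _ ⟨i, rfl⟩
    exact fun Q => hle Q i
  have hmemV : ∀ i, φ i ∈ V := fun i => by rw [hV]; exact Submodule.subset_span ⟨i, rfl⟩
  obtain ⟨j, hj0, hjmax⟩ := FF.exists_least_order φ hφ P
  have hmaxval : ∀ (Q : Place k K) (j' : Fin (n + 1)), (∀ i, Q.1 (φ i) ≤ Q.1 (φ j')) →
      Q.1 (φ j') = WithZero.exp (D Q) := by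
    intro Q j' hj'
    obtain ⟨i, hi⟩ := hatt Q
    refine le_antisymm (hle Q j') ?_
    rw [← hi]; exact hj' i
  have hjP : P.1 (φ j) = WithZero.exp (D P) := hmaxval P j hjmax
  have hR : ∀ v ∈ V, v / φ j ∈ Algebra.adjoin k (Set.range fun i => φ i / φ j) := by
    intro v hv
    rw [hV] at hv
    exact FF.div_mem_adjoin_of_mem_span φ j hv
  have hloc : ∀ v ∈ V, InLocRing φ P (v / φ j) := fun v hv =>
    ⟨j, hj0, hjmax, v / φ j, hR v hv, 1, Subalgebra.one_mem _, map_one _, mul_one _⟩
  constructor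
  · intro hns Q
    by_cases hQP : Q = P
    · -- tangent direction
      rw [hQP]
      obtain ⟨v, hvV, hvP⟩ := exists_tangent hK φ P j hj0 hjmax hns
      rw [← hV] at hvV
      rw [hjP, ← WithZero.exp_add] at hvP
      have hvL : v ∈ L (D - Finsupp.single P 1) := by
        rw [mem_L_sub_single_iff]
        refine ⟨hVL hvV, ?_⟩
        rw [hvP, WithZero.exp_le_exp]; omega
      refine ⟨v, ⟨hvV, hvL⟩, ?_⟩
      intro hcon
      have h1 := hcon P
      rw [sub_sub_apply_self, hvP, WithZero.exp_le_exp] at h1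
      omega
    · by_contra hno
      have hsub : ∀ v ∈ V ⊓ L (D - Finsupp.single P 1),
          v ∈ L (D - Finsupp.single P 1 - Finsupp.single Q 1) := by
        intro v hv
        by_contra hv'
        exact hno ⟨v, hv, hv'⟩
      -- V_P ≤ V_Q
      have hPQ : V ⊓ L (D - Finsupp.single P 1) ≤ V ⊓ L (D - Finsupp.single Q 1) := by
        intro v hv
        refine ⟨hv.1, ?_⟩
        have h1 := hsub v hv
        rw [mem_L_sub_single_iff] at h1
        show v ∈ L (D - Finsupp.single Q 1)
        rw [mem_L_sub_single_iff]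
        refine ⟨hVL hv.1, ?_⟩
        have h2 := h1.2
        rwa [Finsupp.sub_apply, Finsupp.single_eq_of_ne hQP, sub_zero] at h2
      -- equality of the two hyperplanes
      obtain ⟨jQ, hjQ0, hjQmax⟩ := FF.exists_least_order φ hφ Q
      have hjQval := hmaxval Q jQ hjQmax
      have hltQ : Module.finrank k ↥(V ⊓ L (D - Finsupp.single Q 1)) < Module.finrank k ↥V := by
        apply Submodule.finrank_lt_finrank_of_lt
        refine lt_of_le_of_ne inf_le_left ?_
        intro h
        have h1 : φ jQ ∈ V ⊓ L (D - Finsupp.single Q 1) := by rw [h]; exact hmemV jQ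
        have h2 := ((mem_L_sub_single_iff D Q _).mp h1.2).2
        rw [hjQval, WithZero.exp_le_exp] at h2
        omega
      have hstepP := finrank_inf_step' hK V D P
      rw [inf_eq_left.mpr hVL] at hstepP
      haveI : FiniteDimensional k ↥(V ⊓ L (D - Finsupp.single Q 1)) :=
        Submodule.finiteDimensional_of_le inf_le_left
      have hEq : V ⊓ L (D - Finsupp.single P 1) = V ⊓ L (D - Finsupp.single Q 1) :=
        Submodule.eq_of_le_of_finrank_le hPQ (by omega)
      -- `φ j` has exact order at `Q`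
      have hjQ' : Q.1 (φ j) = WithZero.exp (D Q) := by
        apply exact_val_of_not_mem D Q (hVL (hmemV j))
        intro hcon
        have h1 : φ j ∈ V ⊓ L (D - Finsupp.single P 1) := by
          rw [hEq]; exact ⟨hmemV j, hcon⟩
        have h2 := ((mem_L_sub_single_iff D P _).mp h1.2).2
        rw [hjP, WithZero.exp_le_exp] at h2
        omega
      have hQmax : ∀ i, Q.1 (φ i) ≤ Q.1 (φ j) := fun i => by rw [hjQ']; exact hle Q i
      have hres : ∀ i, ∃ c : k, P.1 (φ i / φ j - algebraMap k K c) < 1 ∧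
          Q.1 (φ i / φ j - algebraMap k K c) < 1 := by
        intro i
        have hle1 : P.1 (φ i / φ j) ≤ 1 := by
          rw [map_div₀]; exact (div_le_one₀ (FF.val_pos P hj0)).mpr (hjmax i)
        obtain ⟨c, hc⟩ := FF.exists_const_of_deg_one P (FF.deg_eq_one_of_isAlgClosed hK P) hle1
        refine ⟨c, hc, ?_⟩
        obtain ⟨v, hv⟩ : ∃ v : K, v = φ i - c • φ j := ⟨_, rfl⟩
        have hvV : v ∈ V := by
          rw [hv]; exact Submodule.sub_mem _ (hmemV i) (Submodule.smul_mem _ c (hmemV j))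
        have hvz : v = (φ i / φ j - algebraMap k K c) * φ j := by
          rw [hv, sub_mul, div_mul_cancel₀ _ hj0, Algebra.smul_def]
        have hvP : v ∈ L (D - Finsupp.single P 1) := by
          rw [mem_L_sub_single_iff]
          refine ⟨hVL hvV, ?_⟩
          rw [← lt_exp_iff, hvz, map_mul, hjP]
          calc P.1 (φ i / φ j - algebraMap k K c) * WithZero.exp (D P)
              < 1 * WithZero.exp (D P) := by
                exact mul_lt_mul_of_pos_right hc WithZero.exp_pos
            _ = _ := one_mul _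
        have hvQ : v ∈ V ⊓ L (D - Finsupp.single Q 1) := by rw [← hEq]; exact ⟨hvV, hvP⟩
        have h2 := ((mem_L_sub_single_iff D Q _).mp hvQ.2).2
        rw [← lt_exp_iff, hvz, map_mul, hjQ'] at h2
        by_contra hge
        rw [not_lt] at hge
        have : WithZero.exp (D Q) ≤ Q.1 (φ i / φ j - algebraMap k K c) * WithZero.exp (D Q) := by
          calc WithZero.exp (D Q) = 1 * WithZero.exp (D Q) := (one_mul _).symm
            _ ≤ _ := mul_le_mul' hge le_rfl
        exact absurd h2 (not_lt.mpr this)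
      have hsame : SameImage φ P Q := ⟨j, hj0, hjmax, hQmax, hres⟩
      have hdom := (FF.sameImage_iff hK φ hφ P Q).mp hsame
      have hPQeq : P = Q := FF.eq_of_O_le (fun y hy => (hdom y (hns y hy)).1)
      exact hQP hPQeq.symm
  · intro hsep
    rw [s11065 hK φ hφ hbir P]
    constructor
    · intro Q hdom
      by_contra hQP
      obtain ⟨v, hv, hvnot⟩ := hsep Q
      have hvQ : Q.1 v = WithZero.exp (D Q) := by
        have := exact_val_of_not_mem (D - Finsupp.single P 1) Q hv.2 hvnot
        rwa [Finsupp.sub_apply, Finsupp.single_eq_of_ne hQP, sub_zero] at this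
      have hsame := sameImage_of_dominates hK φ hφ P Q hdom
      have hz := hloc v hv.1
      have hPz : P.1 (v / φ j) < 1 := by
        have h2 := ((mem_L_sub_single_iff D P _).mp hv.2).2
        rw [← lt_exp_iff] at h2
        rw [map_div₀, hjP]
        exact (div_lt_one₀ WithZero.exp_pos).mpr h2
      have hQz := ((FF.sameImage_iff hK φ hφ P Q).mp hsame _ hz).2.mpr hPz
      -- but `j` is also maximal at `Q`
      have hQmax : ∀ i, Q.1 (φ i) ≤ Q.1 (φ j) := by
        intro i
        have h3 := hdom _ (hloc (φ i) (hmemV i))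
        rw [map_div₀] at h3
        exact (div_le_one₀ (FF.val_pos Q hj0)).mp h3
      have hjQ := hmaxval Q j hQmax
      rw [map_div₀, hvQ, hjQ, div_self WithZero.exp_ne_zero] at hQz
      exact lt_irrefl _ hQz
    · obtain ⟨v, hv, hvnot⟩ := hsep P
      have hvP : P.1 v = WithZero.exp (D P - 1) := by
        have := exact_val_of_not_mem (D - Finsupp.single P 1) P hv.2 hvnot
        rwa [Finsupp.sub_apply, Finsupp.single_eq_same] at this
      refine ⟨v / φ j, hloc v hv.1, ?_⟩
      rw [map_div₀, hvP, hjP, ← WithZero.exp_sub]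
      congr 1
      ring

/-- S11055. -/
theorem s11055 [IsAlgClosed k] (hK : IsFunctionField k K)
    (φ : Fin (n + 1) → K) (hφ : LinearIndependent k φ)
    (hbir : IntermediateField.adjoin k (Set.range fun i => φ i / φ 0) = ⊤) (P : Place k K) :
    IsNonsingularAt φ P ↔ ∀ Q : Place k K,
      Module.finrank k ↥(Submodule.span k (Set.range φ) ⊓
          L (mapDiv k φ - Finsupp.single P 1 - Finsupp.single Q 1)) + 2 =
        Module.finrank k ↥(Submodule.span k (Set.range φ)) := by
  classical
  rw [nonsingular_iff_sep hK φ hφ hbir P]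
  obtain ⟨V, hV⟩ : ∃ V : Submodule k K, V = Submodule.span k (Set.range φ) := ⟨_, rfl⟩
  obtain ⟨D, hD⟩ : ∃ D : Divisor k K, D = mapDiv k φ := ⟨_, rfl⟩
  rw [← hV, ← hD]
  haveI : FiniteDimensional k V := by
    rw [hV]; exact FiniteDimensional.span_of_finite k (Set.finite_range φ)
  have hle : ∀ (Q : Place k K) (i : Fin (n + 1)), Q.1 (φ i) ≤ WithZero.exp (D Q) := by
    intro Q i; rw [hD]; exact val_le_exp_mapDiv hK φ Q i
  have hatt : ∀ Q : Place k K, ∃ i, Q.1 (φ i) = WithZero.exp (D Q) := by
    intro Q; rw [hD]; exact exists_val_eq' hK φ (fun i => hφ.ne_zero i) Q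
  have hVL : V ≤ L D := by
    rw [hV, Submodule.span_le]
    rintro _ ⟨i, rfl⟩
    exact fun Q => hle Q i
  have hmemV : ∀ i, φ i ∈ V := fun i => by rw [hV]; exact Submodule.subset_span ⟨i, rfl⟩
  have hstep1 := finrank_inf_step' hK V D P
  rw [inf_eq_left.mpr hVL] at hstep1
  have hlt1 : Module.finrank k ↥(V ⊓ L (D - Finsupp.single P 1)) < Module.finrank k ↥V := by
    apply Submodule.finrank_lt_finrank_of_lt
    refine lt_of_le_of_ne inf_le_left ?_
    intro h
    obtain ⟨i, hi⟩ := hatt P
    have h1 : φ i ∈ V ⊓ L (D - Finsupp.single P 1) := by rw [h]; exact hmemV i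
    have h2 := ((mem_L_sub_single_iff D P _).mp h1.2).2
    rw [hi, WithZero.exp_le_exp] at h2
    omega
  have hmono : ∀ Q : Place k K, V ⊓ L (D - Finsupp.single P 1 - Finsupp.single Q 1) ≤
      V ⊓ L (D - Finsupp.single P 1) := by
    intro Q v hv
    exact ⟨hv.1, ((mem_L_sub_single_iff _ Q v).mp hv.2).1⟩
  constructor
  · intro hsep Q
    obtain ⟨v, hv, hvnot⟩ := hsep Q
    have hstep2 := finrank_inf_step' hK V (D - Finsupp.single P 1) Q
    haveI : FiniteDimensional k ↥(V ⊓ L (D - Finsupp.single P 1)) :=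
      Submodule.finiteDimensional_of_le inf_le_left
    have hlt2 : Module.finrank k ↥(V ⊓ L (D - Finsupp.single P 1 - Finsupp.single Q 1)) <
        Module.finrank k ↥(V ⊓ L (D - Finsupp.single P 1)) := by
      apply Submodule.finrank_lt_finrank_of_lt
      refine lt_of_le_of_ne (hmono Q) ?_
      intro h
      have h1 : v ∈ V ⊓ L (D - Finsupp.single P 1 - Finsupp.single Q 1) := by rw [h]; exact hv
      exact hvnot h1.2
    omega
  · intro hdim Q
    by_contra hno
    have hsub : V ⊓ L (D - Finsupp.single P 1) ≤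
        V ⊓ L (D - Finsupp.single P 1 - Finsupp.single Q 1) := by
      intro v hv
      refine ⟨hv.1, ?_⟩
      by_contra hv'
      exact hno ⟨v, hv, hv'⟩
    haveI : FiniteDimensional k ↥(V ⊓ L (D - Finsupp.single P 1 - Finsupp.single Q 1)) :=
      Submodule.finiteDimensional_of_le inf_le_left
    have h1 := Submodule.finrank_mono hsub
    have h2 := hdim Q
    omega

end Main

end Groth.Agent.Helper6.EmbCrit
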