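import Mathlib
import Groth.Agent.Lead.RegLocal
import Groth.Agent.Helper1.FlatSpanFinrank
import Groth.Agent.Helper6.FlatReg

/-!
# Embedding dimension along a flat local homomorphism with regular closed fibre
-/

set_option autoImplicit false
universe u

namespace Groth.Agent.Helper6.EmbDimFlat

open IsLocalRing
open scoped Pointwise

section One
variable {R : Type u} [CommRing R]

lemma spanFinrank_le_map_add_one [IsNoetherianRing R] (I : Ideal R) (x : R) (hx : x ∈ I) :
    I.spanFinrank ≤ (I.map (Ideal.Quotient.mk (Ideal.span {x}))).spanFinrank + 1 := by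
  classical
  set mk := Ideal.Quotient.mk (Ideal.span {x}) with hmk
  set J := I.map mk with hJ
  have hfg : J.FG := J.fg_of_isNoetherianRing
  have hGfin : (Submodule.generators J).Finite := Submodule.FG.finite_generators hfg
  have hGspan : Submodule.span _ (Submodule.generators J) = J := Submodule.span_generators J
  have hGcard : (Submodule.generators J).ncard = J.spanFinrank :=
    Submodule.FG.generators_ncard hfg
  have hlift : ∀ g ∈ Submodule.generators J, ∃ a ∈ I, mk a = g := by
    intro g hg
    have : g ∈ J := by rw [← hGspan]; exact Submodule.subset_span hg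
    exact (Ideal.mem_map_iff_of_surjective mk Ideal.Quotient.mk_surjective).mp this
  choose! l hlI hl using hlift
  set T : Set R := insert x (l '' Submodule.generators J) with hT
  have hTfin : T.Finite := (hGfin.image l).insert x
  have hTspan : Ideal.span T = I := by
    apply le_antisymm
    · rw [Ideal.span_le]
      rintro t (rfl | ⟨g, hg, rfl⟩)
      · exact hx
      · exact hlI g hg
    · intro b hb
      have h1 : mk b ∈ Ideal.map mk (Ideal.span (l '' Submodule.generators J)) := by
        rw [Ideal.map_span, ← Set.image_comp]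
        have : (mk ∘ l) '' Submodule.generators J = Submodule.generators J := by
          ext g; constructor
          · rintro ⟨g', hg', rfl⟩
            simpa [hl g' hg'] using hg'
          · intro hg; exact ⟨g, hg, hl g hg⟩
        rw [this]
        show mk b ∈ Submodule.span _ _
        rw [hGspan]; exact Ideal.mem_map_of_mem _ hb
      obtain ⟨c, hc, hcb⟩ :=
        (Ideal.mem_map_iff_of_surjective mk Ideal.Quotient.mk_surjective).mp h1
      have h2 : b - c ∈ Ideal.span {x} := by
        rw [← Ideal.Quotient.eq]; exact hcb.symm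
      have h3 : b = c + (b - c) := by ring
      rw [h3]
      refine Ideal.add_mem _ (Ideal.span_mono (Set.subset_insert _ _) hc) ?_
      exact Ideal.span_mono (by simp [hT]) h2
  calc I.spanFinrank = (Submodule.span R T).spanFinrank := by rw [← hTspan]
    _ ≤ T.ncard := Submodule.spanFinrank_span_le_ncard_of_finite hTfin
    _ ≤ (l '' Submodule.generators J).ncard + 1 := Set.ncard_insert_le _ _
    _ ≤ (Submodule.generators J).ncard + 1 := by
        gcongr; exact Set.ncard_image_le hGfin
    _ = J.spanFinrank + 1 := by rw [hGcard]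

lemma span_ne_top [IsLocalRing R] {x : R} (hx : x ∈ maximalIdeal R) :
    Ideal.span {x} ≠ ⊤ := by
  intro h
  have : Ideal.span {x} ≤ maximalIdeal R := (Ideal.span_singleton_le_iff_mem _).mpr hx
  rw [h] at this
  exact (maximalIdeal.isMaximal R).ne_top (top_le_iff.mp this)

lemma spanFinrank_quot_add_one [IsLocalRing R] [IsNoetherianRing R] {x : R}
    (hx : x ∈ maximalIdeal R) (hx2 : x ∉ maximalIdeal R ^ 2)
    [IsLocalRing (R ⧸ Ideal.span {x})] :
    (maximalIdeal (R ⧸ Ideal.span {x})).spanFinrank + 1 = (maximalIdeal R).spanFinrank := by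
  obtain ⟨hl, hmax⟩ := Groth.Agent.Lead.RegLocal.quotient_local (span_ne_top hx)
  have h1 := Groth.Agent.Lead.RegLocal.spanFinrank_map_quotient_le hx hx2
  have h2 := spanFinrank_le_map_add_one (maximalIdeal R) x hx
  rw [hmax] at h1 h2
  omega

end One

section Main

variable (A : Type u) [CommRing A] [IsLocalRing A] [IsNoetherianRing A]

theorem main : ∀ (r : ℕ) (B : Type u) [CommRing B] [IsLocalRing B] [IsNoetherianRing B]
    [Algebra A B] [IsLocalHom (algebraMap A B)] [Module.Flat A B] (F : Type u) [CommRing F]
    [IsRegularLocalRing F] (π : B →+* F) (_ : Function.Surjective π)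
    (_ : RingHom.ker π = (maximalIdeal A).map (algebraMap A B)),
    (maximalIdeal F).spanFinrank = r →
    (maximalIdeal B).spanFinrank = r + (maximalIdeal A).spanFinrank := by
  intro r
  induction r with
  | zero =>
    intro B _ _ _ _ _ _ F _ _ π hπ hker h0
    have hloc : IsLocalHom π := IsLocalHom.of_surjective π hπ
    have hcomap : (maximalIdeal F).comap π = maximalIdeal B :=
      ((IsLocalRing.local_hom_TFAE π).out 0 4).mp hloc
    have hmF : maximalIdeal F = ⊥ := by
      have hfg : (maximalIdeal F).FG := (maximalIdeal F).fg_of_isNoetherianRing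
      exact (Submodule.spanFinrank_eq_zero_iff_eq_bot hfg).mp h0
    have hmB : (maximalIdeal A).map (algebraMap A B) = maximalIdeal B := by
      rw [← hker, ← hcomap, hmF]; rfl
    rw [zero_add]
    exact Groth.Agent.Helper1.FlatSpanFinrank.spanFinrank_eq hmB
  | succ r ih =>
    intro B _ _ _ _ _ _ F _ _ π hπ hker hr
    have hloc : IsLocalHom π := IsLocalHom.of_surjective π hπ
    have hcomap : (maximalIdeal F).comap π = maximalIdeal B :=
      ((IsLocalRing.local_hom_TFAE π).out 0 4).mp hloc
    haveI : IsDomain F := Groth.Agent.Lead.RegLocal.isDomain_of_isRegularLocalRing F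
    -- an element of `m_F \ m_F²`
    have hdimF : ¬ ringKrullDim F ≤ 0 := by
      rw [← IsRegularLocalRing.spanFinrank_maximalIdeal, hr]
      intro h
      have : ((r + 1 : ℕ) : WithBot ℕ∞) ≤ ((0 : ℕ) : WithBot ℕ∞) := by exact_mod_cast h
      have := Nat.cast_le.mp this
      omega
    obtain ⟨y, hy, hy2, -⟩ :=
      Groth.Agent.Lead.RegLocal.exists_mem_notMem_sq_minimalPrimes hdimF
    obtain ⟨x, rfl⟩ := hπ y
    have hx : x ∈ maximalIdeal B := by rw [← hcomap]; exact hy
    have hx2 : x ∉ maximalIdeal B ^ 2 := by
      intro h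
      apply hy2
      have h1 : π x ∈ Ideal.map π (maximalIdeal B ^ 2) := Ideal.mem_map_of_mem _ h
      rw [Ideal.map_pow] at h1
      refine Ideal.pow_right_mono ?_ 2 h1
      rw [Ideal.map_le_iff_le_comap, hcomap]
    have hy0 : π x ≠ 0 := by
      intro h; apply hy2; rw [h]; exact zero_mem _
    -- the quotients
    obtain ⟨hlB, hmaxB⟩ := Groth.Agent.Lead.RegLocal.quotient_local (span_ne_top hx)
    obtain ⟨hregF, -, hlF, hμF⟩ :=
      Groth.Agent.Lead.RegLocal.quotient_isRegularLocalRing hy hy2
    have hmkloc : IsLocalHom (Ideal.Quotient.mk (Ideal.span {x})) :=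
      IsLocalHom.of_surjective _ Ideal.Quotient.mk_surjective
    haveI : IsLocalHom (algebraMap A (B ⧸ Ideal.span {x})) := by
      have : algebraMap A (B ⧸ Ideal.span {x}) =
          (Ideal.Quotient.mk (Ideal.span {x})).comp (algebraMap A B) := rfl
      rw [this]
      exact RingHom.isLocalHom_comp _ _
    -- flatness of the quotient
    have hreg : Groth.Agent.Helper6.FlatReg.RegMod (A := A) (N := B) x := by
      intro n hn
      rw [Ideal.smul_top_eq_map] at hn ⊢
      rw [Submodule.restrictScalars_mem, ← hker, RingHom.mem_ker] at hn ⊢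
      rw [smul_eq_mul, map_mul] at hn
      exact (mul_eq_zero.mp hn).resolve_left hy0
    haveI : Module.Flat A (B ⧸ Ideal.span {x}) := by
      have hfl := Groth.Agent.Helper6.FlatReg.flat_quotSMulTop (A := A) (N := B) x hreg
      have heq : (Ideal.span {x} : Submodule B B) = x • (⊤ : Submodule B B) := by
        ext z
        rw [Submodule.mem_smul_pointwise_iff_exists, Ideal.mem_span_singleton']
        constructor
        · rintro ⟨w, rfl⟩
          exact ⟨w, trivial, by rw [smul_eq_mul, mul_comm]⟩
        · rintro ⟨w, -, rfl⟩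
          exact ⟨w, by rw [smul_eq_mul, mul_comm]⟩
      exact Module.Flat.of_linearEquiv
        ((Submodule.quotEquivOfEq _ _ heq).restrictScalars A)
    -- the induced map
    have hle : Ideal.span {x} ≤ (Ideal.span {π x}).comap π := by
      rw [Ideal.span_singleton_le_iff_mem, Ideal.mem_comap]
      exact Ideal.mem_span_singleton_self _
    let π₁ : (B ⧸ Ideal.span {x}) →+* (F ⧸ Ideal.span {π x}) :=
      Ideal.quotientMap (Ideal.span {π x}) π hle
    have hπ₁ : Function.Surjective π₁ := Ideal.quotientMap_surjective hπ
    have hker₁ : RingHom.ker π₁ =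
        (maximalIdeal A).map (algebraMap A (B ⧸ Ideal.span {x})) := by
      have hmm : (maximalIdeal A).map (algebraMap A (B ⧸ Ideal.span {x})) =
          (RingHom.ker π).map (Ideal.Quotient.mk (Ideal.span {x})) := by
        rw [hker, Ideal.map_map]; rfl
      rw [hmm]
      apply le_antisymm
      · intro b hb
        obtain ⟨b, rfl⟩ := Ideal.Quotient.mk_surjective b
        rw [RingHom.mem_ker, Ideal.quotientMap_mk, Ideal.Quotient.eq_zero_iff_mem,
          Ideal.mem_span_singleton'] at hb
        obtain ⟨c', hc'⟩ := hb
        obtain ⟨c, rfl⟩ := hπ c'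
        have h1 : b - c * x ∈ RingHom.ker π := by
          rw [RingHom.mem_ker, map_sub, map_mul, hc', sub_self]
        have h2 : Ideal.Quotient.mk (Ideal.span {x}) b =
            Ideal.Quotient.mk (Ideal.span {x}) (b - c * x) := by
          rw [Ideal.Quotient.eq]
          have : b - (b - c * x) = c * x := by ring
          rw [this]
          exact Ideal.mul_mem_left _ _ (Ideal.mem_span_singleton_self x)
        rw [h2]
        exact Ideal.mem_map_of_mem _ h1
      · rw [Ideal.map_le_iff_le_comap]
        intro z hz
        rw [Ideal.mem_comap, RingHom.mem_ker, Ideal.quotientMap_mk]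
        rw [RingHom.mem_ker] at hz
        rw [hz, map_zero]
    have hμF₁ : (maximalIdeal (F ⧸ Ideal.span {π x})).spanFinrank = r := by omega
    have h1 := ih (B ⧸ Ideal.span {x}) (F ⧸ Ideal.span {π x}) π₁ hπ₁ hker₁ hμF₁
    have h2 := spanFinrank_quot_add_one hx hx2
    omega

end Main

end Groth.Agent.Helper6.EmbDimFlat
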