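import Mathlib
import Groth.Agent.Helper6.EmbCrit

set_option autoImplicit false
set_option linter.style.haveILetI false
set_option linter.unusedSectionVars false

/-!
# Nonsingularity via a hyperplane section of multiplicity one
-/

namespace Groth.Agent.Helper6.EmbHyp

open FunFld
open Groth.Agent.Helper5
open Groth.Agent.Helper6.PlaneGenus Groth.Agent.Helper6.PlaneAlg Groth.Agent.Helper6.EmbChart
open Groth.Agent.Helper6.EmbLoc Groth.Agent.Helper6.EmbCrit
open scoped IntermediateField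

universe u v
variable {k : Type u} {K : Type v} [Field k] [Field K] [Algebra k K]
variable {n : ℕ}

theorem s11076 [IsAlgClosed k] (hK : IsFunctionField k K) (hn : 1 ≤ n)
    (φ : Fin (n + 1) → K) (hφ : LinearIndependent k φ)
    (hbir : IntermediateField.adjoin k (Set.range fun i => φ i / φ 0) = ⊤) (P : Place k K) :
    IsNonsingularAt φ P ↔ ∃ c : Fin (n + 1) → k, ∑ i, c i • φ i ≠ 0 ∧
      ∑ᶠ Q ∈ {Q : Place k K | SameImage φ P Q},
        ((mapDiv k φ) Q + Q.ord (∑ i, c i • φ i)) = 1 := by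
  classical
  obtain ⟨V, hV⟩ : ∃ V : Submodule k K, V = Submodule.span k (Set.range φ) := ⟨_, rfl⟩
  obtain ⟨D, hD⟩ : ∃ D : Divisor k K, D = mapDiv k φ := ⟨_, rfl⟩
  rw [← hD]
  have hle : ∀ (Q : Place k K) (i : Fin (n + 1)), Q.1 (φ i) ≤ WithZero.exp (D Q) := by
    intro Q i; rw [hD]; exact val_le_exp_mapDiv hK φ Q i
  have hatt : ∀ Q : Place k K, ∃ i, Q.1 (φ i) = WithZero.exp (D Q) := by
    intro Q; rw [hD]; exact exists_val_eq' hK φ (fun i => hφ.ne_zero i) Q
  have hVL : V ≤ L D := by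
    rw [hV, Submodule.span_le]
    rintro _ ⟨i, rfl⟩
    exact fun Q => hle Q i
  have hmemV : ∀ i, φ i ∈ V := fun i => by rw [hV]; exact Submodule.subset_span ⟨i, rfl⟩
  obtain ⟨j, hj0, hjmax⟩ := FF.exists_least_order φ hφ P
  have hmaxval : ∀ (Q : Place k K) (j' : Fin (n + 1)), (∀ i, Q.1 (φ i) ≤ Q.1 (φ j')) →
      Q.1 (φ j') = WithZero.exp (D Q) := by
    intro Q j' hj'
    obtain ⟨i, hi⟩ := hatt Q
    refine le_antisymm (hle Q j') ?_
    rw [← hi]; exact hj' i
  have hjP : P.1 (φ j) = WithZero.exp (D P) := hmaxval P j hjmax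
  have hloc : ∀ v ∈ V, InLocRing φ P (v / φ j) := by
    intro v hv
    rw [hV] at hv
    exact ⟨j, hj0, hjmax, v / φ j, FF.div_mem_adjoin_of_mem_span φ j hv, 1, Subalgebra.one_mem _,
      map_one _, mul_one _⟩
  have hrefl : SameImage φ P P := by
    refine ⟨j, hj0, hjmax, hjmax, fun i => ?_⟩
    have hle1 : P.1 (φ i / φ j) ≤ 1 := by
      rw [map_div₀]; exact (div_le_one₀ (FF.val_pos P hj0)).mpr (hjmax i)
    obtain ⟨c, hc⟩ := FF.exists_const_of_deg_one P (FF.deg_eq_one_of_isAlgClosed hK P) hle1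
    exact ⟨c, hc, hc⟩
  -- at places of the fibre, `j` is maximal too
  have hjQ : ∀ Q : Place k K, SameImage φ P Q → Q.1 (φ j) = WithZero.exp (D Q) := by
    intro Q hsame
    have hdom := (FF.sameImage_iff hK φ hφ P Q).mp hsame
    apply hmaxval Q j
    intro i
    have h3 := (hdom _ (hloc (φ i) (hmemV i))).1
    rw [map_div₀] at h3
    exact (div_le_one₀ (FF.val_pos Q hj0)).mp h3
  constructor
  · intro hns
    have hfib : ∀ Q : Place k K, SameImage φ P Q → Q = P := by
      intro Q hsame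
      have hdom := (FF.sameImage_iff hK φ hφ P Q).mp hsame
      exact ((s11065 hK φ hφ hbir P).mp hns).1 Q (fun z hz => (hdom z hz).1)
    have hsep := (nonsingular_iff_sep hK φ hφ hbir P).mp hns P
    rw [← hV, ← hD] at hsep
    obtain ⟨v, hv, hvnot⟩ := hsep
    have hvP : P.1 v = WithZero.exp (D P - 1) := by
      have := exact_val_of_not_mem (D - Finsupp.single P 1) P hv.2 hvnot
      rwa [Finsupp.sub_apply, Finsupp.single_eq_same] at this
    have hvV := hv.1
    rw [hV] at hvV
    obtain ⟨c, hc⟩ := (Submodule.mem_span_range_iff_exists_fun k).mp hvV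
    have hv0 : v ≠ 0 := FF.ne_zero_of_val_eq_exp P hvP
    refine ⟨c, by rw [hc]; exact hv0, ?_⟩
    have hset : {Q : Place k K | SameImage φ P Q} = {P} := by
      ext Q
      constructor
      · intro h; exact hfib Q h
      · intro h; rw [Set.mem_singleton_iff] at h; rw [h]; exact hrefl
    rw [hset, finsum_mem_singleton, hc, FF.ord_eq_of_val_eq P hvP]
    ring
  · rintro ⟨c, hs0, hsum⟩
    obtain ⟨s, hs⟩ : ∃ s : K, s = ∑ i, c i • φ i := ⟨_, rfl⟩
    rw [← hs] at hs0 hsum
    have hsV : s ∈ V := by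
      rw [hs, hV]
      exact Submodule.sum_mem _ fun i _ => Submodule.smul_mem _ _ (Submodule.subset_span ⟨i, rfl⟩)
    have hsL := hVL hsV
    have hg0 : ∀ Q : Place k K, 0 ≤ D Q + Q.ord s := by
      intro Q
      have := (FF.mem_L_iff_ord D hs0).mp hsL Q
      omega
    have hSfin := FF.finite_fibre hK hn φ hφ P
    rw [finsum_mem_eq_finite_toFinset_sum _ hSfin] at hsum
    have hmemT : ∀ Q : Place k K, Q ∈ hSfin.toFinset ↔ SameImage φ P Q := by
      intro Q; rw [Set.Finite.mem_toFinset]; rfl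
    have hz := hloc s hsV
    -- `g Q ≥ 1` iff `z` vanishes at `Q`
    have hg1 : ∀ Q : Place k K, SameImage φ P Q →
        (Q.1 (s / φ j) < 1 ↔ 1 ≤ D Q + Q.ord s) := by
      intro Q hsame
      rw [map_div₀, hjQ Q hsame, div_lt_one₀ WithZero.exp_pos, FF.val_lt_exp_iff Q hs0]
      constructor <;> intro h <;> omega
    have hPz : P.1 (s / φ j) < 1 := by
      by_contra hPz
      have hall : ∀ Q ∈ hSfin.toFinset, D Q + Q.ord s = 0 := by
        intro Q hQ
        have hsame := (hmemT Q).mp hQ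
        have hdom := (FF.sameImage_iff hK φ hφ P Q).mp hsame
        have h1 : ¬ Q.1 (s / φ j) < 1 := fun h => hPz ((hdom _ hz).2.mp h)
        rw [hg1 Q hsame] at h1
        have := hg0 Q
        omega
      rw [Finset.sum_eq_zero hall] at hsum
      exact zero_ne_one hsum
    have hall1 : ∀ Q ∈ hSfin.toFinset, 1 ≤ D Q + Q.ord s := by
      intro Q hQ
      have hsame := (hmemT Q).mp hQ
      have hdom := (FF.sameImage_iff hK φ hφ P Q).mp hsame
      exact (hg1 Q hsame).mp ((hdom _ hz).2.mpr hPz)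
    have hPT : P ∈ hSfin.toFinset := (hmemT P).mpr hrefl
    have hsplit := Finset.add_sum_erase hSfin.toFinset (fun Q => D Q + Q.ord s) hPT
    rw [hsum] at hsplit
    have hfibT : ∀ Q ∈ hSfin.toFinset, Q = P := by
      intro Q hQ
      by_contra hQP
      have hQe : Q ∈ hSfin.toFinset.erase P := Finset.mem_erase.mpr ⟨hQP, hQ⟩
      have h1 : D Q + Q.ord s ≤ ∑ Q' ∈ hSfin.toFinset.erase P, (D Q' + Q'.ord s) :=
        Finset.single_le_sum (f := fun Q' => D Q' + Q'.ord s) (fun Q' _ => hg0 Q') hQe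
      have h2 := hall1 Q hQ
      have h3 := hall1 P hPT
      have h4 : (fun Q => D Q + Q.ord s) P = D P + P.ord s := rfl
      omega
    have hgP : D P + P.ord s = 1 := by
      have h1 : D P + P.ord s ≤ ∑ Q' ∈ hSfin.toFinset, (D Q' + Q'.ord s) :=
        Finset.single_le_sum (f := fun Q' => D Q' + Q'.ord s) (fun Q' _ => hg0 Q') hPT
      have h3 := hall1 P hPT
      omega
    rw [s11065 hK φ hφ hbir P]
    constructor
    · intro Q hdom
      have hsame := sameImage_of_dominates hK φ hφ P Q hdom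
      exact hfibT Q ((hmemT Q).mpr hsame)
    · refine ⟨s / φ j, hz, ?_⟩
      rw [map_div₀, hjP, FF.val_eq_exp_neg_ord P hs0, ← WithZero.exp_sub]
      congr 1
      omega

end Groth.Agent.Helper6.EmbHyp
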