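import Mathlib
import Groth.Agent.Helper6.OpenSub5
import Groth.Agent.S12774

/-!
# Helper6: the substack which is the essential image of an immersion
-/

set_option autoImplicit false
set_option linter.style.haveILetI false
set_option linter.unusedVariables false
universe u

namespace Groth.Agent.Helper6.EssImSub
open CategoryTheory Functor FibCat Limits AlgebraicGeometry Opposite
open Groth.Agent.Helper3 Stk Groth.Agent.Helper6.OfPsh Groth.Agent.Helper6.OfPshHom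
open Groth.Agent.Helper6.FpTools Groth.Agent.Helper6.OfPshFp Groth.Agent.Helper6.AlgStRep
open Groth.Agent.Helper6.AlgStEquiv Groth.Agent.Helper6.AlgStInv Groth.Agent.Helper6.AlgStPsh
open Groth.Agent.Helper6.DiagRed Groth.Agent.Helper6.RepDiag Groth.Agent.Helper6.RepComp
open Groth.Agent.Helper6.DiagRep Groth.Agent.Helper6.AlgStPts Groth.Agent.Helper6.StPts
open Groth.Agent.Helper6.SmLoc Groth.Agent.Helper6.ChartOver Groth.Agent.Helper6.StTop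
open Groth.Agent.Helper6.QcMor2 Groth.Agent.Helper6.SpAtlas Groth.Agent.Helper4.SDClasses
open Groth.Agent.Helper6.Descent1 Groth.Agent.Helper6.Descent2 Groth.Agent.Helper6.LocQ0
open Groth.Agent.Helper6.LocQ1 Groth.Agent.Helper6.LocQ2 Groth.Agent.Helper6.AlgStBC
open Groth.Agent.Helper6.OverRep Groth.Agent.Helper6.LocQ3 Groth.Agent.Helper6.LocQ4
open Groth.Agent.Helper6.FlatST Groth.Agent.Helper6.DiagLft Groth.Agent.Helper6.ToSpace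
open Groth.Agent.Helper6.LocQ5 Groth.Agent.Helper6.OpenSub1 Groth.Agent.Helper6.OpenSub2
open Groth.Agent.Helper6.OpenSub3 Groth.Agent.Helper6.OpenSub4 Groth.Agent.Helper6.OpenSub5
open AlgSp


variable {S : Scheme.{u}} {𝒵 𝒳 : AlgSt.Cat S}

/-- the essential image of a functor -/
def EssIm (i : 𝒵 ⥤ᵇ 𝒳) : 𝒳.obj → Prop := fun x => ∃ z, Nonempty (i.obj z ≅ x)

theorem essIm_closedUnderIso (i : 𝒵 ⥤ᵇ 𝒳) : ObjectProperty.IsClosedUnderIsomorphisms (EssIm i) :=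
  ⟨fun e ⟨z, ⟨j⟩⟩ => ⟨z, ⟨j ≪≫ e⟩⟩⟩

/-- the corestriction of a functor to its essential image -/
def toEssIm (i : 𝒵 ⥤ᵇ 𝒳) : 𝒵 ⥤ᵇ AlgSt.fullSub 𝒳 (EssIm i) :=
  liftSub (EssIm i) i (fun z => ⟨z, ⟨Iso.refl _⟩⟩)

theorem toEssIm_comp (i : 𝒵 ⥤ᵇ 𝒳) :
    BasedFunctor.comp (toEssIm i) (AlgSt.subIncl 𝒳 (EssIm i)) = i := rfl

/-- a fully faithful functor between categories fibred in groupoids is an equivalence onto its
essential image -/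
theorem isEquivOver_toEssIm (h𝒵 : IsFibGrpd 𝒵.p) (h𝒳 : IsFibGrpd 𝒳.p) (i : 𝒵 ⥤ᵇ 𝒳)
    [i.toFunctor.Full] [i.toFunctor.Faithful] : IsEquivOver (toEssIm i) := by
  rw [isEquivOver_iff]
  refine ⟨⟨fun {z z'} φ => ?_⟩, ⟨fun {z z'} φ ψ h => ?_⟩, ?_⟩
  · refine ⟨i.toFunctor.preimage ((AlgSt.subIncl 𝒳 (EssIm i)).map φ), ?_⟩
    apply (AlgSt.subIncl 𝒳 (EssIm i)).toFunctor.map_injective
    exact i.toFunctor.map_preimage _
  · apply i.toFunctor.map_injective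
    exact congrArg (fun t => (AlgSt.subIncl 𝒳 (EssIm i)).map t) h
  · intro x'
    obtain ⟨z, ⟨e⟩⟩ := x'.property
    let β : 𝒳.p.obj (i.obj z) ≅ 𝒳.p.obj x'.obj := 𝒳.p.mapIso e
    obtain ⟨z', ψ, hψ⟩ := FibGrpd.exists_lift' h𝒵 (i.w_obj z).symm β.inv
    haveI := hψ
    haveI h1 : 𝒳.p.IsHomLift β.inv (i.map ψ) := inferInstance
    haveI h2 : 𝒳.p.IsHomLift β.hom e.hom := Functor.IsHomLift.map (p := 𝒳.p) e.hom
    have h3 : 𝒳.p.IsHomLift (β.inv ≫ β.hom) (i.map ψ ≫ e.hom) := inferInstance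
    rw [Iso.inv_hom_id] at h3
    haveI := h3
    haveI : IsIso (i.map ψ ≫ e.hom) :=
      FibGrpd.isIso_of_lift_id h𝒳 (U := 𝒳.p.obj x'.obj) (i.map ψ ≫ e.hom)
    let ε : i.obj z' ≅ x'.obj := asIso (i.map ψ ≫ e.hom)
    let ε₀ : (AlgSt.subIncl 𝒳 (EssIm i)).obj ((toEssIm i).obj z') ≅
        (AlgSt.subIncl 𝒳 (EssIm i)).obj x' := ε
    let ε' : (toEssIm i).obj z' ≅ x' := (AlgSt.subIncl 𝒳 (EssIm i)).toFunctor.preimageIso ε₀
    refine ⟨z', ε', ?_⟩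
    have hε : (AlgSt.subIncl 𝒳 (EssIm i)).map ε'.hom = ε.hom :=
      (AlgSt.subIncl 𝒳 (EssIm i)).toFunctor.map_preimage _
    haveI : 𝒳.p.IsHomLift (𝟙 ((AlgSt.fullSub 𝒳 (EssIm i)).p.obj x'))
        ((AlgSt.subIncl 𝒳 (EssIm i)).map ε'.hom) := by
      rw [hε]
      exact h3
    exact (AlgSt.subIncl 𝒳 (EssIm i)).isHomLift_map _ _

/-- the inclusion of the essential image inherits the properties of a fully faithful functor -/
theorem rep_subIncl_essIm (P : MorphismProperty (Sp S)) (h𝒵 : IsFibGrpd 𝒵.p) (h𝒳 : IsFibGrpd 𝒳.p)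
    (i : 𝒵 ⥤ᵇ 𝒳) [i.toFunctor.Full] [i.toFunctor.Faithful] (hi : AlgSt.RepByAlgSpWith P i) :
    AlgSt.RepByAlgSpWith P (AlgSt.subIncl 𝒳 (EssIm i)) := by
  obtain ⟨K, hK, -, ⟨ε⟩⟩ := EquivOver.symm (isEquivOver_toEssIm h𝒵 h𝒳 i)
  have h1 : AlgSt.RepByAlgSpWith P (BasedFunctor.comp K i) := rep_equiv_comp P K hK i hi
  have e : AlgSt.subIncl 𝒳 (EssIm i) ≅ BasedFunctor.comp K i :=
    (whiskerRightIso' ε (AlgSt.subIncl 𝒳 (EssIm i))).symm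
  exact Groth.Agent.Helper6.AlgStSpMap.repByAlgSpWith_of_iso P e h1

set_option backward.isDefEq.respectTransparency.types false in
/-- S12878 -/
theorem exists_unique_locClosedSubstack (h𝒵 : AlgSt.IsAlgStack Scheme.fppfPrecoverage 𝒵)
    (h𝒳 : AlgSt.IsAlgStack Scheme.fppfPrecoverage 𝒳) (i : 𝒵 ⥤ᵇ 𝒳) (hi : AlgSt.IsImm i) :
    ∃ Q : 𝒳.obj → Prop,
      (AlgSt.IsLocClosedSubstack 𝒳 Q Scheme.fppfPrecoverage ∧
        (∃ i' : 𝒵 ⥤ᵇ AlgSt.fullSub 𝒳 Q, FibCat.IsEquivOver i' ∧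
          Nonempty (BasedFunctor.comp i' (AlgSt.subIncl 𝒳 Q) ≅ i)) ∧
        (AlgSt.IsClosedImm i → AlgSt.IsClosedSubstack 𝒳 Q Scheme.fppfPrecoverage) ∧
        (AlgSt.IsOpenImm i → AlgSt.IsOpenSubstack 𝒳 Q Scheme.fppfPrecoverage)) ∧
      ∀ Q' : 𝒳.obj → Prop, AlgSt.IsLocClosedSubstack 𝒳 Q' Scheme.fppfPrecoverage →
        (∃ i' : 𝒵 ⥤ᵇ AlgSt.fullSub 𝒳 Q', FibCat.IsEquivOver i' ∧
          Nonempty (BasedFunctor.comp i' (AlgSt.subIncl 𝒳 Q') ≅ i)) → Q' = Q := by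
  have hZ : IsFibGrpd 𝒵.p := h𝒵.isStack.1
  have hX : IsFibGrpd 𝒳.p := h𝒳.isStack.1
  have hmono : AlgSt.IsMono i :=
    repByAlgSpWith_mono (fun _ _ f hf => (MorphismProperty.monomorphisms.iff f).2
      (Groth.Agent.Helper4.AlgSpBasic.mono_of_repWith
        (fun g hg => by haveI : IsImmersion g := hg; infer_instance) f hf)) hi
  obtain ⟨hfull, hfaith⟩ := Groth.Agent.S12774.result hZ hX i hmono
  have hE := isEquivOver_toEssIm hZ hX i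
  have hA : AlgSt.IsAlgStack Scheme.fppfPrecoverage (AlgSt.fullSub 𝒳 (EssIm i)) :=
    (isAlgStack_iff_of_isEquivOver _ (toEssIm i) hE).1 h𝒵
  refine ⟨EssIm i, ⟨⟨essIm_closedUnderIso i, hA, rep_subIncl_essIm _ hZ hX i hi⟩,
    ⟨toEssIm i, hE, ⟨Iso.refl _⟩⟩,
    fun hc => ⟨essIm_closedUnderIso i, hA, rep_subIncl_essIm _ hZ hX i hc⟩,
    fun ho => ⟨essIm_closedUnderIso i, hA, rep_subIncl_essIm _ hZ hX i ho⟩⟩, ?_⟩
  rintro Q' ⟨hQ'i, -, -⟩ ⟨i', hi', ⟨θ⟩⟩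
  funext x
  apply propext
  constructor
  · intro hx
    obtain ⟨z, e, -⟩ := EquivOver.exists_iso hi' (⟨x, hx⟩ : (AlgSt.fullSub 𝒳 Q').obj)
    exact ⟨z, ⟨(appIso θ z).symm ≪≫ (AlgSt.subIncl 𝒳 Q').toFunctor.mapIso e⟩⟩
  · rintro ⟨z, ⟨e⟩⟩
    haveI := hQ'i
    exact ObjectProperty.prop_of_iso Q' (appIso θ z ≪≫ e) (i'.obj z).property

end Groth.Agent.Helper6.EssImSub
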