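import Mathlib
import Groth.Agent.Helper7.PC

/-!
# Helper6: local constructibility descends along étale surjective morphisms of schemes
-/

set_option autoImplicit false
set_option linter.style.haveILetI false
set_option linter.unusedVariables false
universe u

namespace Groth.Agent.Helper6.EtLC
open CategoryTheory Limits AlgebraicGeometry Opposite Topology TopologicalSpace
open scoped Set.Notation

/-- affine target -/
theorem lc_of_preimage_affine {W V : Scheme.{u}} [IsAffine V] (g : W ⟶ V) [Etale g] [Surjective g]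
    (T : Set V) (h : IsLocallyConstructible (g ⁻¹' T)) : IsLocallyConstructible T := by
  let U : W.affineOpens → V.Opens := fun i =>
    ⟨Set.range (i.1.ι ≫ g), (i.1.ι ≫ g).isOpenMap.isOpen_range⟩
  have hU : IsOpenCover U := by
    apply top_unique
    intro v _
    obtain ⟨w, rfl⟩ := g.surjective v
    have hw : w ∈ (⨆ i : W.affineOpens, (i : W.Opens)) := by
      rw [iSup_affineOpens_eq_top]; trivial
    obtain ⟨i, hi⟩ := Opens.mem_iSup.1 hw
    exact Opens.mem_iSup.2 ⟨i, ⟨⟨w, hi⟩, rfl⟩⟩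
  refine IsLocallyConstructible.of_isOpenCover' hU fun i => ?_
  haveI : IsAffine (i.1 : Scheme) := i.2
  haveI : QuasiCompact (i.1.ι ≫ g) :=
    HasAffineProperty.iff_of_isAffine.mpr (inferInstance : CompactSpace (i.1 : Scheme))
  have h1 : IsLocallyConstructible (i.1.ι ⁻¹' (g ⁻¹' T)) :=
    h.preimage_of_isOpenEmbedding i.1.ι.isOpenEmbedding
  have h2 := (i.1.ι ≫ g).isLocallyConstructible_image h1
  have e : T ∩ (U i : Set V) = (i.1.ι ≫ g) '' (i.1.ι ⁻¹' (g ⁻¹' T)) := by
    ext v
    constructor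
    · rintro ⟨hvT, hv⟩
      obtain ⟨z, rfl⟩ : ∃ z, (i.1.ι ≫ g) z = v := hv
      exact ⟨z, hvT, rfl⟩
    · rintro ⟨z, hz, rfl⟩
      exact ⟨hz, (⟨z, rfl⟩ : ∃ z', (i.1.ι ≫ g) z' = (i.1.ι ≫ g) z)⟩
  rw [e]
  exact h2

/-- Local constructibility can be tested after an étale surjective base change. -/
theorem lc_of_preimage {W V : Scheme.{u}} (g : W ⟶ V) [Etale g] [Surjective g]
    (T : Set V) (h : IsLocallyConstructible (g ⁻¹' T)) : IsLocallyConstructible T := by
  refine IsLocallyConstructible.of_isOpenCover (U := fun i : V.affineOpens => (i : V.Opens))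
    (iSup_affineOpens_eq_top V) fun i => ?_
  haveI : IsAffine (i.1 : Scheme) := i.2
  haveI : Surjective (g ∣_ i.1) := IsZariskiLocalAtTarget.restrict ‹_› i.1
  have key : IsLocallyConstructible (i.1.ι ⁻¹' T) := by
    refine lc_of_preimage_affine (g ∣_ i.1) (i.1.ι ⁻¹' T) ?_
    have := h.preimage_of_isOpenEmbedding (g ⁻¹ᵁ i.1).ι.isOpenEmbedding
    have e : (g ∣_ i.1) ⁻¹' (i.1.ι ⁻¹' T) = (g ⁻¹ᵁ i.1).ι ⁻¹' (g ⁻¹' T) := by
      ext z
      simp only [Set.mem_preimage]
      rw [← Scheme.Hom.comp_apply, ← Scheme.Hom.comp_apply, morphismRestrict_ι]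
    rw [e]
    exact this
  exact key

end Groth.Agent.Helper6.EtLC
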