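import Mathlib

namespace Groth.Agent.Helper6.EtPrim

open Polynomial

universe u

section card
variable (K L : Type u) [Field K] [CommRing L] [Algebra K L] [Module.Finite K L] [IsReduced L]
  [Algebra.IsSeparable K L] (Ω : Type u) [Field Ω] [Algebra K Ω] [IsAlgClosed Ω]

theorem isSeparable_quot (m : Ideal L) : Algebra.IsSeparable K (L ⧸ m) := by
  constructor
  intro y
  obtain ⟨x, rfl⟩ := Ideal.Quotient.mk_surjective y
  have hx : IsSeparable K x := Algebra.IsSeparable.isSeparable K x
  have hint : IsIntegral K x := Algebra.IsIntegral.isIntegral x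
  have h0 : aeval (Ideal.Quotient.mk m x) (minpoly K x) = 0 := by
    have := aeval_algHom_apply (Ideal.Quotient.mkₐ K m) x (minpoly K x)
    rw [Ideal.Quotient.mkₐ_eq_mk] at this
    rw [this, minpoly.aeval, map_zero]
  exact hx.of_dvd (minpoly.dvd K _ h0)

attribute [local instance] Ideal.Quotient.field in
theorem card_quot (m : MaximalSpectrum L) :
    Nat.card ((L ⧸ m.asIdeal) →ₐ[K] Ω) = Module.finrank K (L ⧸ m.asIdeal) := by
  haveI := m.isMaximal
  haveI := isSeparable_quot K L m.asIdeal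
  rw [← Field.finSepDegree_eq_of_isAlgClosed K (L ⧸ m.asIdeal) Ω,
    Field.finSepDegree_eq_finrank_of_isSeparable]

theorem finrank_eq_sum [Fintype (MaximalSpectrum L)] :
    Module.finrank K L = ∑ m : MaximalSpectrum L, Module.finrank K (L ⧸ m.asIdeal) := by
  haveI : IsArtinianRing L := IsArtinianRing.of_finite K L
  have e := ((IsArtinianRing.equivPi L).restrictScalars K).toLinearEquiv
  rw [e.finrank_eq, Module.finrank_pi_fintype]

/-- the map from the disjoint union of the embeddings of the residue fields -/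
noncomputable def sigmaMap :
    (Σ m : MaximalSpectrum L, ((L ⧸ m.asIdeal) →ₐ[K] Ω)) → (L →ₐ[K] Ω) :=
  fun p => p.2.comp (Ideal.Quotient.mkₐ K p.1.asIdeal)

attribute [local instance] Ideal.Quotient.field in
theorem sigmaMap_injective : Function.Injective (sigmaMap K L Ω) := by
  rintro ⟨m, f⟩ ⟨m', f'⟩ h
  have hker : ∀ (m : MaximalSpectrum L) (f : (L ⧸ m.asIdeal) →ₐ[K] Ω) (x : L),
      (f.comp (Ideal.Quotient.mkₐ K m.asIdeal)) x = 0 ↔ x ∈ m.asIdeal := by
    intro m f x
    haveI := m.isMaximal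
    rw [AlgHom.comp_apply, Ideal.Quotient.mkₐ_eq_mk, map_eq_zero_iff f f.toRingHom.injective,
      Ideal.Quotient.eq_zero_iff_mem]
  have hm : m = m' := by
    apply MaximalSpectrum.ext
    ext x
    rw [← hker m f x, ← hker m' f' x]
    have : sigmaMap K L Ω ⟨m, f⟩ = sigmaMap K L Ω ⟨m', f'⟩ := h
    show (sigmaMap K L Ω ⟨m, f⟩) x = 0 ↔ (sigmaMap K L Ω ⟨m', f'⟩) x = 0
    rw [this]
  subst hm
  congr 1
  apply AlgHom.ext
  intro y
  obtain ⟨x, rfl⟩ := Ideal.Quotient.mk_surjective y
  exact AlgHom.congr_fun h x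

theorem card_ge : Module.finrank K L ≤ Nat.card (L →ₐ[K] Ω) := by
  classical
  haveI : IsArtinianRing L := IsArtinianRing.of_finite K L
  haveI : Fintype (MaximalSpectrum L) := Fintype.ofFinite _
  haveI : Finite (L →ₐ[K] Ω) := by
    have := cardinalMk_algHom K L Ω
    exact Cardinal.mk_lt_aleph0_iff.1 (lt_of_le_of_lt this (Cardinal.natCast_lt_aleph0))
  rw [finrank_eq_sum K L]
  have h1 : ∀ m : MaximalSpectrum L, Module.finrank K (L ⧸ m.asIdeal) =
      Nat.card ((L ⧸ m.asIdeal) →ₐ[K] Ω) := fun m => (card_quot K L Ω m).symm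
  simp_rw [h1]
  haveI : ∀ m : MaximalSpectrum L, Finite ((L ⧸ m.asIdeal) →ₐ[K] Ω) := by
    intro m
    exact Finite.of_injective (fun f => sigmaMap K L Ω ⟨m, f⟩)
      (fun f f' h => by
        have := sigmaMap_injective K L Ω h
        simpa using this)
  rw [← Nat.card_sigma]
  exact Nat.card_le_card_of_injective _ (sigmaMap_injective K L Ω)

theorem card_le : Nat.card (L →ₐ[K] Ω) ≤ Module.finrank K L := by
  have h := cardinalMk_algHom K L Ω
  rw [Module.finrank_linearMap_self] at h
  have hfin : Finite (L →ₐ[K] Ω) :=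
    Cardinal.mk_lt_aleph0_iff.1 (lt_of_le_of_lt h (Cardinal.natCast_lt_aleph0))
  rw [← Nat.cast_le (α := Cardinal), Nat.cast_card]
  exact h

end card

end Groth.Agent.Helper6.EtPrim
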