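import Mathlib
import Groth.Agent.Helper6.EtPrim1

namespace Groth.Agent.Helper6.EtPrim

open Polynomial

universe u

variable (K L : Type u) [Field K] [CommRing L] [Algebra K L] [Module.Finite K L] [IsReduced L]
  [Algebra.IsSeparable K L]

/-- if the values `φ w` are pairwise distinct then `w` generates. -/
theorem adjoin_eq_top_of_injective (Ω : Type u) [Field Ω] [Algebra K Ω] [IsAlgClosed Ω] (w : L)
    (hw : Function.Injective (fun φ : L →ₐ[K] Ω => φ w)) :
    Algebra.adjoin K ({w} : Set L) = ⊤ := by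
  classical
  have hcard_le := card_le K L Ω
  have hcard_ge := card_ge K L Ω
  haveI hfin : Finite (L →ₐ[K] Ω) := by
    have h := cardinalMk_algHom K L Ω
    exact Cardinal.mk_lt_aleph0_iff.1 (lt_of_le_of_lt h (Cardinal.natCast_lt_aleph0))
  haveI : Fintype (L →ₐ[K] Ω) := Fintype.ofFinite _
  have hint : IsIntegral K w := Algebra.IsIntegral.isIntegral w
  set μ := minpoly K w with hμ
  have hμ0 : μ ≠ 0 := minpoly.ne_zero hint
  have hμΩ0 : μ.map (algebraMap K Ω) ≠ 0 :=
    (Polynomial.map_ne_zero_iff (algebraMap K Ω).injective).2 hμ0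
  -- roots
  let Z : Finset Ω := Finset.univ.image (fun φ : L →ₐ[K] Ω => φ w)
  have hZcard : Z.card = Nat.card (L →ₐ[K] Ω) := by
    rw [Finset.card_image_of_injective _ hw, Finset.card_univ, Nat.card_eq_fintype_card]
  have hsub : Z.val ⊆ (μ.map (algebraMap K Ω)).roots := by
    intro y hy
    rw [Finset.mem_val, Finset.mem_image] at hy
    obtain ⟨φ, -, rfl⟩ := hy
    rw [mem_roots hμΩ0, IsRoot.def, eval_map, ← aeval_def, aeval_algHom_apply, hμ, minpoly.aeval,
      map_zero]
  have h1 := card_le_degree_of_subset_roots hsub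
  rw [hZcard, natDegree_map] at h1
  -- dimension of adjoin
  have e := (AlgEquiv.adjoinSingletonEquivAdjoinRootMinpoly K w).toLinearEquiv
  have h2 : Module.finrank K (Algebra.adjoin K ({w} : Set L)) = μ.natDegree := by
    rw [e.finrank_eq, (AdjoinRoot.powerBasis hμ0).finrank, AdjoinRoot.powerBasis_dim]
  have h3 : Module.finrank K (Subalgebra.toSubmodule (Algebra.adjoin K ({w} : Set L))) =
      Module.finrank K L := by
    have h4 : Module.finrank K (Subalgebra.toSubmodule (Algebra.adjoin K ({w} : Set L))) ≤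
        Module.finrank K L := Submodule.finrank_le _
    have h5 : Module.finrank K (Subalgebra.toSubmodule (Algebra.adjoin K ({w} : Set L))) =
        μ.natDegree := h2
    omega
  exact Algebra.toSubmodule_eq_top.1 (Submodule.eq_top_of_finrank_eq h3)

theorem main (z t : L)
    (hgen : Algebra.adjoin K ({z, t} : Set L) = ⊤) (S : Finset K)
    (hS : Module.finrank K L ^ (4 * Module.finrank K L) ≤ S.card) :
    ∃ c ∈ S, Algebra.adjoin K ({c • z + t} : Set L) = ⊤ := by
  classical
  set n := Module.finrank K L with hn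
  by_cases hn0 : n = 0
  · -- trivial ring
    haveI : Subsingleton L := Module.finrank_zero_iff.1 hn0
    have hpos : 0 < S.card := by
      rw [hn0] at hS
      simpa using hS
    obtain ⟨c, hc⟩ := Finset.card_pos.1 hpos
    refine ⟨c, hc, ?_⟩
    rw [eq_top_iff]
    intro x _
    rw [Subsingleton.elim x 0]
    exact zero_mem _
  let Ω := AlgebraicClosure K
  have hcard_le := card_le K L Ω
  haveI hfin : Finite (L →ₐ[K] Ω) := by
    have h := cardinalMk_algHom K L Ω
    exact Cardinal.mk_lt_aleph0_iff.1 (lt_of_le_of_lt h (Cardinal.natCast_lt_aleph0))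
  haveI : Fintype (L →ₐ[K] Ω) := Fintype.ofFinite _
  by_contra hcon
  push Not at hcon
  -- every c in S is bad
  have hbad : ∀ c ∈ S, ∃ p : (L →ₐ[K] Ω) × (L →ₐ[K] Ω), p.1 ≠ p.2 ∧
      p.1 (c • z + t) = p.2 (c • z + t) := by
    intro c hc
    have h1 := hcon c hc
    by_contra h2
    push Not at h2
    refine h1 (adjoin_eq_top_of_injective K L Ω (c • z + t) ?_)
    intro φ ψ hφψ
    by_contra hne
    exact h2 (φ, ψ) hne hφψ
  haveI : Nonempty (L →ₐ[K] Ω) := by
    have h1 := card_ge K L Ω
    have h2 : 0 < Nat.card (L →ₐ[K] Ω) := by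
      have : 1 ≤ n := Nat.one_le_iff_ne_zero.2 hn0
      omega
    exact (Nat.card_pos_iff.1 h2).1
  choose! f hf1 hf2 using hbad
  have hmaps : Set.MapsTo f (S : Set K)
      ((Finset.univ : Finset (L →ₐ[K] Ω)).offDiag : Set ((L →ₐ[K] Ω) × (L →ₐ[K] Ω))) := by
    intro c hc
    rw [Finset.mem_coe, Finset.mem_offDiag]
    exact ⟨Finset.mem_univ _, Finset.mem_univ _, hf1 c hc⟩
  have hinj : Set.InjOn f (S : Set K) := by
    intro c hc c' hc' hcc'
    by_contra hne
    have h1 := hf2 c hc
    have h2 := hf2 c' hc'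
    rw [← hcc'] at h2
    have h3 := hf1 c hc
    simp only [map_add, map_smul] at h1 h2
    -- (c - c') • (φ z - ψ z) = 0
    have h4 : (c - c') • ((f c).1 z - (f c).2 z) = 0 := by
      have : c • (f c).1 z - c' • (f c).1 z = c • (f c).2 z - c' • (f c).2 z := by
        have e1 : c • (f c).1 z - c' • (f c).1 z =
            (c • (f c).1 z + (f c).1 t) - (c' • (f c).1 z + (f c).1 t) := by ring
        have e2 : c • (f c).2 z - c' • (f c).2 z =
            (c • (f c).2 z + (f c).2 t) - (c' • (f c).2 z + (f c).2 t) := by ring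
        rw [e1, e2, h1, h2]
      rw [sub_smul, smul_sub, smul_sub]
      rw [sub_eq_sub_iff_add_eq_add] at this
      rw [sub_eq_zero, sub_eq_sub_iff_add_eq_add]
      rw [this]
      abel
    have hcc : c - c' ≠ 0 := sub_ne_zero.2 hne
    have h5 : (f c).1 z = (f c).2 z := by
      rcases smul_eq_zero.1 h4 with h | h
      · exact absurd h hcc
      · exact sub_eq_zero.1 h
    have h6 : (f c).1 t = (f c).2 t := by
      rw [h5] at h1
      exact add_left_cancel h1
    apply h3
    refine AlgHom.ext_of_adjoin_eq_top hgen ?_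
    intro x hx
    rcases hx with rfl | rfl
    · exact h5
    · exact h6
  have hle := Finset.card_le_card_of_injOn f hmaps hinj
  rw [Finset.offDiag_card, Finset.card_univ, ← Nat.card_eq_fintype_card] at hle
  have hX : Nat.card (L →ₐ[K] Ω) ≤ n := hcard_le
  have hpos : 1 ≤ n := Nat.one_le_iff_ne_zero.2 hn0
  have hpow : n * n ≤ n ^ (4 * n) := by
    calc n * n = n ^ 2 := (sq n).symm
      _ ≤ n ^ (4 * n) := Nat.pow_le_pow_right hpos (by omega)
  have hlt : Nat.card (L →ₐ[K] Ω) * Nat.card (L →ₐ[K] Ω) - Nat.card (L →ₐ[K] Ω) < n * n := by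
    have hXpos : 1 ≤ Nat.card (L →ₐ[K] Ω) := by
      have := card_ge K L Ω
      omega
    have : Nat.card (L →ₐ[K] Ω) * Nat.card (L →ₐ[K] Ω) ≤ n * n := Nat.mul_le_mul hX hX
    have h' : 0 < Nat.card (L →ₐ[K] Ω) * Nat.card (L →ₐ[K] Ω) := Nat.mul_pos hXpos hXpos
    omega
  omega

end Groth.Agent.Helper6.EtPrim
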