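import Groth.Agent.Helper6.LftST
import Groth.Agent.Helper3.SmoothEtSec
import Mathlib

/-!
# Helper6: every smooth covering of an algebraic space is refined by an étale covering
-/

set_option autoImplicit false
universe u
open CategoryTheory CategoryTheory.Limits AlgebraicGeometry Opposite

namespace Groth.Agent.Helper6.EtRefine

open AlgSp Groth.Agent.Helper4.SDClasses Groth.Agent.Helper6.LftST

variable {S : Scheme.{u}}

set_option backward.isDefEq.respectTransparency.types false in
/-- through every point of a chart of `X`, a smooth covering of `X` admits an étale-local section -/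
theorem exists_etale_lift {X : Space S} {ι : Type u} (Xi : ι → Space S) (g : ∀ i, Xi i ⟶ X)
    (h : IsSmCover (fun i => (Xi i).obj) (fun i => (g i).hom)) (U : Over S)
    (a : (yon S).obj U ⟶ X.obj) (s : ↥U.left) :
    ∃ (W : Over S) (c : W ⟶ U) (w : ↥W.left) (i : ι) (r : (yon S).obj W ⟶ (Xi i).obj),
      Etale c.left ∧ c.left w = s ∧ r ≫ (g i).hom = (yon S).map c ≫ a := by
  obtain ⟨i, xi, hxi⟩ := h.2 (Points.map a (Points.schemeHomeo U s))
  obtain ⟨A, e, l, v, hef, hev, hl, -⟩ :=
    exists_smooth_chart X.property (Xi i).property (g i).hom (h.1 i) U a s xi hxi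
  haveI := hef
  obtain ⟨S', g', s', hg', hgs, k, hk⟩ :=
    Groth.Agent.Helper3.SmoothEtSec.main e.left s ⟨v, hev⟩
  let W : Over S := Over.mk (g' ≫ U.hom)
  let c : W ⟶ U := Over.homMk g' rfl
  let kj : W ⟶ A := Over.homMk k (by
    change k ≫ A.hom = g' ≫ U.hom
    rw [← hk, Category.assoc, Over.w e])
  have hkc : kj ≫ e = c := by
    apply Over.OverMorphism.ext
    exact hk
  refine ⟨W, c, s', i, (yon S).map kj ≫ l, hg', hgs, ?_⟩
  rw [Category.assoc, hl, ← Category.assoc, ← Functor.map_comp, hkc]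

set_option backward.isDefEq.respectTransparency.types false in
/-- S10509 -/
theorem main (X : Space S) {ι : Type u} (Xi : ι → Space S) (g : ∀ i, Xi i ⟶ X)
    (h : IsSmCover (fun i => (Xi i).obj) (fun i => (g i).hom)) :
    ∃ (κ : Type u) (U : κ → Space S) (c : ∀ j, U j ⟶ X),
      IsEtCover (fun j => (U j).obj) (fun j => (c j).hom) ∧
      ∀ j, ∃ (i : ι) (r : U j ⟶ Xi i), r ≫ g i = c j := by
  obtain ⟨U₀, a, hae, has⟩ := X.property.atlas
  choose W c w i r hc hcw hr using fun s : ↥U₀.left => exists_etale_lift Xi g h U₀ a s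
  refine ⟨↥U₀.left, fun s => ⟨(yon S).obj (W s), IsAlgSpace.yon_obj (W s)⟩,
    fun s => ObjectProperty.homMk ((yon S).map (c s) ≫ a), ⟨fun s => ?_, fun x => ?_⟩, fun s => ?_⟩
  · have h1 : RepWith @Etale ((yon S).map (c s) ≫ a) :=
      Groth.Agent.Helper4.AlgSpSrc.repWith_comp _ ((repWith_yon_map_iff @Etale (c s)).2 (hc s)) hae
    intro T φ hφ
    exact Groth.Agent.Helper4.AlgSpSrc.repWith_comp _ hφ h1
  · obtain ⟨p, hp⟩ := Groth.Agent.Helper4.AlgSpPts.isSurjectiveMor_of_repWith a has x
    obtain ⟨s, rfl⟩ := (Points.schemeHomeo U₀).surjective p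
    refine ⟨s, Points.schemeHomeo (W s) (w s), ?_⟩
    change Points.map ((yon S).map (c s) ≫ a) _ = x
    rw [Points.map_comp, Points.map_yon_map_apply, hcw s, hp]
  · exact ⟨i s, ObjectProperty.homMk (r s), ObjectProperty.hom_ext _ (hr s)⟩

end Groth.Agent.Helper6.EtRefine
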