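import Mathlib
import Groth.Prelude.Def_W4c1chowmix47Eta
import Groth.Agent.Helper6.EtaAway
import Groth.Agent.Helper6.EtaRel

/-!
# Bijectivity of `qRel` and localization away from an element
-/

set_option autoImplicit false
universe u
open EtaPt

namespace Groth.Agent.Helper6.EtaAwayBij

open Groth.Agent.Helper6.EtaAway

variable (η : EtaPt.FieldEndo.{u}) {A B : Type u} [CommRing A] [CommRing B]

/-- every element of `A_f` times a power of `f` comes from `A` -/
lemma exists_mul_pow_eq (f : A) (x : Localization.Away f) :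
    ∃ (a : A) (n : ℕ), x * algebraMap A (Localization.Away f) f ^ n =
      algebraMap A (Localization.Away f) a := by
  obtain ⟨⟨a, ⟨_, n, rfl⟩⟩, h⟩ := IsLocalization.surj (Submonoid.powers f) x
  exact ⟨a, n, by rw [← map_pow]; exact h⟩

lemma isUnit_pow (f : A) (n : ℕ) : IsUnit (algebraMap A (Localization.Away f) f ^ n) :=
  (IsLocalization.Away.algebraMap_isUnit f).pow n

lemma awayMap_algebraMap (φ : A →+* B) (f : A) (a : A) :
    Localization.awayMap φ f (algebraMap A (Localization.Away f) a) =
      algebraMap B (Localization.Away (φ f)) (φ a) :=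
  congrArg (fun ψ => ψ a) (awayMap_comp φ f)

/-- **S19575** -/
theorem bijective_qRel_awayMap (hA : (minimalPrimes A).Finite) (φ : A →+* B)
    (h : Function.Bijective (η.qRel φ)) (f : A) :
    Function.Bijective (η.qRel (Localization.awayMap φ f)) := by
  obtain ⟨-, h2⟩ := rel_away η hA φ f
  have hinj : Function.Injective φ := (Groth.Agent.Helper6.EtaRel.qRel_injective_iff η φ).mp h.1
  constructor
  · rw [Groth.Agent.Helper6.EtaRel.qRel_injective_iff, injective_iff_map_eq_zero]
    intro x hx
    obtain ⟨a, n, hxa⟩ := exists_mul_pow_eq f x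
    have h3 : algebraMap B (Localization.Away (φ f)) (φ a) = 0 := by
      rw [← awayMap_algebraMap, ← hxa, map_mul, hx, zero_mul]
    rw [IsLocalization.map_eq_zero_iff (Submonoid.powers (φ f))] at h3
    obtain ⟨⟨_, m, rfl⟩, hm⟩ := h3
    have h4 : φ (f ^ m * a) = 0 := by rw [map_mul, map_pow]; exact hm
    have h5 : f ^ m * a = 0 := hinj (h4.trans (map_zero φ).symm)
    have h6 : algebraMap A (Localization.Away f) a = 0 := by
      rw [IsLocalization.map_eq_zero_iff (Submonoid.powers f)]
      exact ⟨⟨f ^ m, m, rfl⟩, h5⟩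
    rw [h6] at hxa
    exact (isUnit_pow f n).mul_left_eq_zero.mp hxa
  · rintro ⟨y, hy⟩
    obtain ⟨x, hx, n, hyx⟩ := h2 y hy
    obtain ⟨a, ha⟩ := h.2 ⟨x, hx⟩
    have hax : φ a = x := congrArg Subtype.val ha
    obtain ⟨u, hu⟩ := isUnit_pow f n
    refine ⟨algebraMap A (Localization.Away f) a * ↑u⁻¹, Subtype.ext ?_⟩
    change Localization.awayMap φ f (algebraMap A (Localization.Away f) a * ↑u⁻¹) = y
    have hv : IsUnit (algebraMap B (Localization.Away (φ f)) (φ f) ^ n) :=
      (IsLocalization.Away.algebraMap_isUnit (φ f)).pow n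
    apply hv.mul_left_injective
    change _ * _ = _ * _
    rw [hyx, ← hax, ← awayMap_algebraMap φ f a, ← awayMap_algebraMap φ f f, ← map_pow, ← map_mul,
      mul_assoc, ← hu, Units.inv_mul, mul_one]

/-- **S19576** -/
theorem bijective_qRel_of_awayMap (hA : (minimalPrimes A).Finite) (φ : A →+* B)
    (s : Finset A) (hspan : Ideal.span (s : Set A) = ⊤)
    (h : ∀ f ∈ s, Function.Bijective (η.qRel (Localization.awayMap φ f))) :
    Function.Bijective (η.qRel φ) := by
  constructor
  · rw [Groth.Agent.Helper6.EtaRel.qRel_injective_iff, injective_iff_map_eq_zero]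
    intro a ha
    -- a vanishes in every A_f
    have h1 : ∀ f ∈ s, ∃ n : ℕ, f ^ n * a = 0 := by
      intro f hf
      have hinj : Function.Injective (Localization.awayMap φ f) :=
        (Groth.Agent.Helper6.EtaRel.qRel_injective_iff η _).mp (h f hf).1
      have h2 : algebraMap A (Localization.Away f) a = 0 := by
        apply hinj
        rw [awayMap_algebraMap, ha, map_zero, map_zero]
      rw [IsLocalization.map_eq_zero_iff (Submonoid.powers f)] at h2
      obtain ⟨⟨_, m, rfl⟩, hm⟩ := h2
      exact ⟨m, hm⟩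
    choose! n hn using h1
    -- the annihilator of `a` contains powers of all `f ∈ s`
    have h3 : (1 : A) ∈ Ideal.span ((fun f : A => f ^ (s.sup n)) '' (s : Set A)) := by
      rw [← Ideal.eq_top_iff_one]
      exact Ideal.span_pow_eq_top _ hspan _
    have h4 : Ideal.span ((fun f : A => f ^ (s.sup n)) '' (s : Set A)) ≤
        LinearMap.ker (LinearMap.mulRight A a) := by
      rw [Ideal.span_le]
      rintro _ ⟨f, hf, rfl⟩
      have hle : n f ≤ s.sup n := Finset.le_sup (f := n) hf
      show f ^ (s.sup n) * a = 0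
      rw [← Nat.sub_add_cancel hle, pow_add, mul_assoc, hn f hf, mul_zero]
    have h5 := h4 h3
    simpa using h5
  · rintro ⟨b, hb⟩
    -- locally `b` comes from `A`
    have h1 : ∀ f ∈ s, ∃ (n : ℕ) (a : A), φ f ^ n * b = φ a := by
      intro f hf
      obtain ⟨h1', -⟩ := rel_away η hA φ f
      have hb' : algebraMap B (Localization.Away (φ f)) b ∈ η.rel (Localization.awayMap φ f) :=
        h1' ⟨b, hb, rfl⟩
      obtain ⟨x, hx⟩ := (h f hf).2 ⟨_, hb'⟩
      have hx' : Localization.awayMap φ f x = algebraMap B (Localization.Away (φ f)) b :=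
        congrArg Subtype.val hx
      obtain ⟨a, n, hxa⟩ := exists_mul_pow_eq f x
      have h2 : algebraMap B (Localization.Away (φ f)) (φ f ^ n * b) =
          algebraMap B (Localization.Away (φ f)) (φ a) := by
        have e1 : Localization.awayMap φ f (x * algebraMap A (Localization.Away f) f ^ n) =
            algebraMap B (Localization.Away (φ f)) b *
              algebraMap B (Localization.Away (φ f)) (φ f) ^ n := by
          rw [map_mul, hx', map_pow, awayMap_algebraMap]
        rw [← awayMap_algebraMap φ f a, ← hxa, e1, map_mul, map_pow, mul_comm]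
      rw [IsLocalization.eq_iff_exists (Submonoid.powers (φ f))] at h2
      obtain ⟨⟨_, m, rfl⟩, hm⟩ := h2
      refine ⟨m + n, f ^ m * a, ?_⟩
      rw [pow_add, mul_assoc, map_mul, map_pow]
      exact hm
    choose! n a hna using h1
    -- uniform exponent
    have h2 : ∀ f ∈ s, φ f ^ (s.sup n) * b = φ (f ^ (s.sup n - n f) * a f) := by
      intro f hf
      have hle : n f ≤ s.sup n := Finset.le_sup (f := n) hf
      rw [map_mul, map_pow, ← hna f hf, ← mul_assoc, ← pow_add, Nat.sub_add_cancel hle]
    have h3 : (1 : A) ∈ Ideal.span ((fun f : A => f ^ (s.sup n)) '' (s : Set A)) := by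
      rw [← Ideal.eq_top_iff_one]
      exact Ideal.span_pow_eq_top _ hspan _
    -- the set of `c` with `φ c * b ∈ range φ` is an ideal containing the `f ^ N`
    let J : Ideal A :=
      { carrier := {c | ∃ a' : A, φ c * b = φ a'}
        add_mem' := by
          rintro c c' ⟨a1, h1⟩ ⟨a2, h2⟩
          exact ⟨a1 + a2, by rw [map_add, add_mul, h1, h2, map_add]⟩
        zero_mem' := ⟨0, by rw [map_zero, zero_mul]⟩
        smul_mem' := by
          rintro r c ⟨a1, h1⟩
          exact ⟨r * a1, by rw [smul_eq_mul, map_mul, mul_assoc, h1, map_mul]⟩ }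
    have h4 : Ideal.span ((fun f : A => f ^ (s.sup n)) '' (s : Set A)) ≤ J := by
      rw [Ideal.span_le]
      rintro _ ⟨f, hf, rfl⟩
      exact ⟨f ^ (s.sup n - n f) * a f, by rw [map_pow]; exact h2 f hf⟩
    obtain ⟨a', ha'⟩ := h4 h3
    rw [map_one, one_mul] at ha'
    exact ⟨a', Subtype.ext ha'.symm⟩

end Groth.Agent.Helper6.EtaAwayBij
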