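import Mathlib
import Groth.Prelude.Def_W4c1chowmix47Eta
import Groth.Agent.Helper6.EtaSpec
import Groth.Agent.Helper6.EtaPrime
import Groth.Agent.Helper6.EtaBasic

/-!
# Maps `M A → M B` compatible with `Nmap f`
-/

set_option autoImplicit false
universe u
open EtaPt

namespace Groth.Agent.Helper6.EtaMmap

variable (η : EtaPt.FieldEndo.{u}) {A B : Type u} [CommRing A] [CommRing B]

/-- the kernel of `t` consists of nilpotent elements -/
lemma isNilpotent_of_t_eq_zero (c : B) (hc : η.t B c = 0) : IsNilpotent c := by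
  rw [nilpotent_iff_mem_prime]
  intro J hJ
  have h1 : η.t B c ⟨J, hJ⟩ = 0 := by rw [hc]; rfl
  have h2 : η.eta (J.ResidueField) (algebraMap B J.ResidueField c) = 0 := h1
  have h3 : algebraMap B J.ResidueField c = 0 :=
    (η.eta J.ResidueField).injective (h2.trans (map_zero _).symm)
  exact Ideal.algebraMap_residueField_eq_zero.mp h3

variable (f : A →+* B) (g : η.M A →+* η.M B)
  (hg : ∀ x : η.M A, ((g x : η.M B) : η.N B) = η.Nmap f (x : η.N A))

include hg in
lemma comm : g.comp (η.q A) = (η.q B).comp f := by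
  refine RingHom.ext fun a => ?_
  apply Subtype.ext
  have h1 := hg (η.q A a)
  refine h1.trans ?_
  exact η.Nmap_t_apply f a

include hg in
/-- **S19577** -/
theorem isIntegral_iff_and_comap_surjective_iff (hA : (minimalPrimes A).Finite)
    (hB : (minimalPrimes B).Finite) :
    (f.IsIntegral ↔ g.IsIntegral) ∧
      (Function.Surjective (PrimeSpectrum.comap f) ↔
        Function.Surjective (PrimeSpectrum.comap g)) := by
  have hc := comm η f g hg
  have hqA := Groth.Agent.Helper6.EtaSpec.q_isIntegral η hA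
  have hqB := Groth.Agent.Helper6.EtaSpec.q_isIntegral η hB
  have hbA := Groth.Agent.Helper6.EtaPrime.comap_q_bijective η hA
  have hbB := Groth.Agent.Helper6.EtaPrime.comap_q_bijective η hB
  refine ⟨⟨fun hf => ?_, fun hgi => ?_⟩, ⟨fun hs => ?_, fun hs => ?_⟩⟩
  · apply RingHom.IsIntegral.tower_top (η.q A) g
    rw [hc]
    exact RingHom.IsIntegral.trans f (η.q B) hf hqB
  · have h1 : ((η.q B).comp f).IsIntegral := by
      rw [← hc]
      exact RingHom.IsIntegral.trans (η.q A) g hqA hgi
    intro b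
    obtain ⟨p, hp, hpe⟩ := h1 (η.q B b)
    rw [← Polynomial.hom_eval₂] at hpe
    have h2 : η.t B (Polynomial.eval₂ f b p) = 0 := congrArg Subtype.val hpe
    obtain ⟨k, hk⟩ := isNilpotent_of_t_eq_zero η _ h2
    refine ⟨p ^ k, hp.pow k, ?_⟩
    rw [Polynomial.eval₂_pow, hk]
  · intro P'
    obtain ⟨Q, hQ⟩ := hs (PrimeSpectrum.comap (η.q A) P')
    obtain ⟨Q', hQ'⟩ := hbB.2 Q
    refine ⟨Q', hbA.1 ?_⟩
    rw [← PrimeSpectrum.comap_comp_apply, hc, PrimeSpectrum.comap_comp_apply, hQ', hQ]
  · intro P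
    obtain ⟨P', hP'⟩ := hbA.2 P
    obtain ⟨Q', hQ'⟩ := hs P'
    refine ⟨PrimeSpectrum.comap (η.q B) Q', ?_⟩
    rw [← PrimeSpectrum.comap_comp_apply, ← hc, PrimeSpectrum.comap_comp_apply, hQ', hP']

include hg in
theorem residue_factor (hA : (minimalPrimes A).Finite) (hB : (minimalPrimes B).Finite)
    (hbij : Function.Bijective g) (Q : PrimeSpectrum B) (P : PrimeSpectrum A)
    (hP : P.asIdeal = Q.asIdeal.comap f) :
    ∃ φ : Q.asIdeal.ResidueField →+* η.obj P.asIdeal.ResidueField,
      φ.comp (Ideal.ResidueField.map P.asIdeal Q.asIdeal f hP) =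
        η.eta P.asIdeal.ResidueField := by
  have hc := comm η f g hg
  obtain ⟨Q', rfl⟩ := (Groth.Agent.Helper6.EtaPrime.comap_q_bijective η hB).2 Q
  have hP2 : P = PrimeSpectrum.comap (η.q A) (PrimeSpectrum.comap g Q') := by
    apply PrimeSpectrum.ext
    rw [hP]
    show Ideal.comap f (Ideal.comap (η.q B) Q'.asIdeal) =
      Ideal.comap (η.q A) (Ideal.comap g Q'.asIdeal)
    rw [Ideal.comap_comap, Ideal.comap_comap, hc]
  subst hP2
  let e : η.M A ≃+* η.M B := RingEquiv.ofBijective g hbij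
  have hQ'P' : Q'.asIdeal =
      (PrimeSpectrum.comap g Q').asIdeal.comap (e.symm : η.M B →+* η.M A) := by
    ext y
    show y ∈ Q'.asIdeal ↔ g (e.symm y) ∈ Q'.asIdeal
    rw [show g (e.symm y) = y from e.apply_symm_apply y]
  refine ⟨((Groth.Agent.Helper6.EtaPrime.φQ η hA (PrimeSpectrum.comap g Q')).comp
    (Ideal.ResidueField.map Q'.asIdeal (PrimeSpectrum.comap g Q').asIdeal
      (e.symm : η.M B →+* η.M A) hQ'P')).comp
    (Ideal.ResidueField.map (PrimeSpectrum.comap (η.q B) Q').asIdeal Q'.asIdeal (η.q B) rfl), ?_⟩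
  apply Groth.Agent.Helper6.EtaBasic.residueField_hom_ext
  refine RingHom.ext fun a => ?_
  simp only [RingHom.comp_apply]
  have h1 : η.q B (f a) = g (η.q A a) := (congrArg (fun ψ => ψ a) hc).symm
  have e1 : Ideal.ResidueField.map (PrimeSpectrum.comap (η.q A) (PrimeSpectrum.comap g Q')).asIdeal
      (PrimeSpectrum.comap (η.q B) Q').asIdeal f hP (algebraMap A _ a) = algebraMap B _ (f a) :=
    Ideal.ResidueField.map_algebraMap _ _ _ _ _
  have e2 : Ideal.ResidueField.map (PrimeSpectrum.comap (η.q B) Q').asIdeal Q'.asIdeal (η.q B) rfl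
      (algebraMap B _ (f a)) = algebraMap _ _ (η.q B (f a)) :=
    Ideal.ResidueField.map_algebraMap _ _ _ _ _
  have e3 : Ideal.ResidueField.map Q'.asIdeal (PrimeSpectrum.comap g Q').asIdeal
      (e.symm : η.M B →+* η.M A) hQ'P' (algebraMap _ _ (η.q B (f a))) =
        algebraMap _ _ ((e.symm : η.M B →+* η.M A) (η.q B (f a))) :=
    Ideal.ResidueField.map_algebraMap _ _ _ _ _
  have h2 : (e.symm : η.M B →+* η.M A) (η.q B (f a)) = η.q A a := by
    rw [h1]
    exact e.symm_apply_apply _
  rw [e1]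
  refine (congrArg (fun z => Groth.Agent.Helper6.EtaPrime.φQ η hA (PrimeSpectrum.comap g Q')
    (Ideal.ResidueField.map Q'.asIdeal (PrimeSpectrum.comap g Q').asIdeal
      (e.symm : η.M B →+* η.M A) hQ'P' z)) e2).trans ?_
  rw [e3, h2, Groth.Agent.Helper6.EtaPrime.φQ_algebraMap]
  rfl

include hg in
/-- **S19578** -/
theorem comap_bijective_and_residue_factor (hA : (minimalPrimes A).Finite)
    (hB : (minimalPrimes B).Finite) (hbij : Function.Bijective g) :
    Function.Bijective (PrimeSpectrum.comap f) ∧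
      ∀ Q : PrimeSpectrum B,
        ∃ φ : Q.asIdeal.ResidueField →+* η.obj (PrimeSpectrum.comap f Q).asIdeal.ResidueField,
          φ.comp (Ideal.ResidueField.map (PrimeSpectrum.comap f Q).asIdeal Q.asIdeal f rfl) =
            η.eta (PrimeSpectrum.comap f Q).asIdeal.ResidueField := by
  refine ⟨?_, fun Q => residue_factor η f g hg hA hB hbij Q (PrimeSpectrum.comap f Q) rfl⟩
  have hc := comm η f g hg
  have hbA := Groth.Agent.Helper6.EtaPrime.comap_q_bijective η hA
  have hbB := Groth.Agent.Helper6.EtaPrime.comap_q_bijective η hB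
  let e : η.M A ≃+* η.M B := RingEquiv.ofBijective g hbij
  have hbg : Function.Bijective (PrimeSpectrum.comap g) := by
    have := (PrimeSpectrum.comapEquiv e).symm.bijective
    exact this
  have h1 : (PrimeSpectrum.comap f) ∘ (PrimeSpectrum.comap (η.q B)) =
      (PrimeSpectrum.comap (η.q A)) ∘ (PrimeSpectrum.comap g) := by
    funext Q'
    show PrimeSpectrum.comap f (PrimeSpectrum.comap (η.q B) Q') =
      PrimeSpectrum.comap (η.q A) (PrimeSpectrum.comap g Q')
    rw [← PrimeSpectrum.comap_comp_apply, ← PrimeSpectrum.comap_comp_apply, hc]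
  have h2 : Function.Bijective ((PrimeSpectrum.comap f) ∘ (PrimeSpectrum.comap (η.q B))) := by
    rw [h1]
    exact hbA.comp hbg
  exact (Function.Bijective.of_comp_iff _ hbB).mp h2

end Groth.Agent.Helper6.EtaMmap
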