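import Mathlib
import Groth.Agent.Helper6.EtaVal

set_option autoImplicit false

universe u

namespace Groth.Agent.Helper6.EtaVal2

open EtaPt EtaPt.FieldEndo Groth.Agent.Helper6.EtaBasic Groth.Agent.Helper6.EtaDom
  Groth.Agent.Helper6.EtaSpec Groth.Agent.Helper6.EtaPrime Groth.Agent.Helper6.EtaBij
  Groth.Agent.Helper6.EtaRel Groth.Agent.Helper6.EtaLift Groth.Agent.Helper6.EtaUniq
  Groth.Agent.Helper6.EtaVal

variable (η : FieldEndo.{u}) (R : Type u) [CommRing R] [IsDomain R] [ValuationRing R]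

theorem integral_or_inv (y : η.obj (gen R).asIdeal.ResidueField) :
    (ιp η (gen R)).IsIntegralElem y ∨ (ιp η (gen R)).IsIntegralElem y⁻¹ := by
  obtain ⟨n, k, hk⟩ := η.exists_pow_mem_range_eta (gen R).asIdeal.ResidueField y
  haveI := ringExpChar.expChar (gen R).asIdeal.ResidueField
  have hpos : ringExpChar (gen R).asIdeal.ResidueField ^ n ≠ 0 :=
    pow_ne_zero _ (expChar_pos (gen R).asIdeal.ResidueField _).ne'
  set m := ringExpChar (gen R).asIdeal.ResidueField ^ n with hm
  have aux : ∀ (z : η.obj (gen R).asIdeal.ResidueField) (r : R),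
      z ^ m = η.eta _ (algebraMap R _ r) → (ιp η (gen R)).IsIntegralElem z := by
    intro z r hz
    refine ⟨Polynomial.X ^ m - Polynomial.C r, Polynomial.monic_X_pow_sub_C _ hpos, ?_⟩
    rw [Polynomial.eval₂_sub, Polynomial.eval₂_pow, Polynomial.eval₂_X, Polynomial.eval₂_C, hz]
    exact sub_self _
  rcases ValuationRing.isInteger_or_isInteger R k with ⟨r, hr⟩ | ⟨r, hr⟩
  · left
    exact aux y r (by rw [hr, hk])
  · right
    exact aux y⁻¹ r (by rw [hr, map_inv₀, hk, inv_pow])

theorem main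
    (hη : η.InV R ∨ ∀ (k : Type u) [Field k], ringChar k = ringChar R →
      Function.Bijective (η.eta k) → PerfectField k) :
    IsDomain (η.M R) ∧ PreValuationRing (η.M R) ∧
      (∀ y : η.obj (gen R).asIdeal.ResidueField, ∃ a b : η.M R,
        (b : η.N R) (gen R) ≠ 0 ∧ y * (b : η.N R) (gen R) = (a : η.N R) (gen R)) ∧
      (fun x : η.N R => x (gen R)) '' (η.M R : Set (η.N R)) ∩
          Set.range (η.eta (gen R).asIdeal.ResidueField) =
        Set.range (ιp η (gen R)) := by
  have himg := image_generic_eq η R hη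
  have hinj := injOn_generic' η R
  let ev : η.M R →+* η.obj (gen R).asIdeal.ResidueField := πp η (gen R)
  have hev : Function.Injective ev := by
    intro a b hab
    exact Subtype.ext (hinj a.2 b.2 hab)
  have hlift : ∀ y, (ιp η (gen R)).IsIntegralElem y → ∃ c : η.M R, ev c = y := by
    intro y hy
    have : y ∈ (fun x : η.N R => x (gen R)) '' (η.M R : Set (η.N R)) := by rw [himg]; exact hy
    obtain ⟨x, hx, rfl⟩ := this
    exact ⟨⟨x, hx⟩, rfl⟩
  refine ⟨Function.Injective.isDomain ev hev, ⟨?_⟩, ?_, ?_⟩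
  · intro a b
    by_cases hb : ev b = 0
    · have hb0 : b = 0 := hev (by rw [hb, map_zero])
      exact ⟨0, Or.inl (by rw [hb0, mul_zero])⟩
    by_cases ha : ev a = 0
    · have ha0 : a = 0 := hev (by rw [ha, map_zero])
      exact ⟨0, Or.inr (by rw [ha0, mul_zero])⟩
    rcases integral_or_inv η R (ev a / ev b) with h | h
    · obtain ⟨c, hc⟩ := hlift _ h
      refine ⟨c, Or.inr (hev ?_)⟩
      rw [map_mul, hc, mul_div_cancel₀ _ hb]
    · obtain ⟨c, hc⟩ := hlift _ h
      refine ⟨c, Or.inl (hev ?_)⟩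
      rw [map_mul, hc, inv_div, mul_div_cancel₀ _ ha]
  · intro y
    rcases integral_or_inv η R y with h | h
    · obtain ⟨c, hc⟩ := hlift _ h
      refine ⟨c, 1, ?_, ?_⟩
      · change ev 1 ≠ 0
        rw [map_one]; exact one_ne_zero
      · change y * ev 1 = ev c
        rw [map_one, mul_one, hc]
    · by_cases hy : y = 0
      · refine ⟨0, 1, ?_, ?_⟩
        · change ev 1 ≠ 0
          rw [map_one]; exact one_ne_zero
        · change y * ev 1 = ev 0
          rw [map_one, mul_one, map_zero, hy]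
      · obtain ⟨c, hc⟩ := hlift _ h
        refine ⟨1, c, ?_, ?_⟩
        · change ev c ≠ 0
          rw [hc]; exact inv_ne_zero hy
        · change y * ev c = ev 1
          rw [hc, map_one, mul_inv_cancel₀ hy]
  · ext y
    constructor
    · rintro ⟨⟨x, hx, rfl⟩, ⟨k, hk⟩⟩
      have h1 : (ιp η (gen R)).IsIntegralElem (η.eta _ k) := by
        rw [hk]; exact isIntegralElem_component η (gen R) hx
      have h2 : IsIntegral R k := isIntegral_of_eta η k h1
      obtain ⟨r, rfl⟩ := IsIntegrallyClosed.algebraMap_eq_of_integral h2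
      exact ⟨r, hk⟩
    · rintro ⟨r, rfl⟩
      exact ⟨⟨η.t R r, η.t_mem_M R r, rfl⟩, ⟨algebraMap R _ r, rfl⟩⟩

end Groth.Agent.Helper6.EtaVal2
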