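import Mathlib
universe u
namespace Groth.Agent.Helper6.EulerCx

section
variable {S : Type u} [CommRing S] [IsLocalRing S] (N : ℤ → Type u) [∀ i, AddCommGroup (N i)]
  [∀ i, Module S (N i)] [∀ i, Module.Free S (N i)] [∀ i, Module.Finite S (N i)]
  (δ : ∀ i, N i →ₗ[S] N (i + 1)) (hex : ∀ i, Function.Exact (δ i) (δ (i + 1)))

include hex in
theorem step (i : ℤ) (hproj : Module.Projective S (LinearMap.ker (δ (i + 1)))) :
    Module.Projective S (LinearMap.ker (δ i)) ∧
      Nonempty (N i ≃ₗ[S] (LinearMap.ker (δ i) × LinearMap.ker (δ (i + 1)))) := by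
  -- δ i corestricted to the kernel of the next map
  let d : N i →ₗ[S] LinearMap.ker (δ (i + 1)) :=
    LinearMap.codRestrict _ (δ i) (fun x => (hex i (δ i x)).mpr ⟨x, rfl⟩)
  have hd : Function.Surjective d := by
    rintro ⟨y, hy⟩
    obtain ⟨x, rfl⟩ := (hex i y).mp hy
    exact ⟨x, rfl⟩
  obtain ⟨σ, hσ⟩ := Module.projective_lifting_property d LinearMap.id hd
  have hσ' : ∀ c, d (σ c) = c := fun c => LinearMap.congr_fun hσ c
  have hdx : ∀ x, ((d x : LinearMap.ker (δ (i + 1))) : N (i + 1)) = δ i x := fun x => rfl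
  let r : N i →ₗ[S] LinearMap.ker (δ i) :=
    LinearMap.codRestrict _ (LinearMap.id - σ.comp d) (fun x => by
      have h1 : δ i (σ (d x)) = δ i x := by rw [← hdx (σ (d x)), hσ']; rfl
      simp only [LinearMap.mem_ker, LinearMap.sub_apply, LinearMap.id_coe, id_eq,
        LinearMap.coe_comp, Function.comp_apply, map_sub, h1, sub_self])
  have hr : ∀ x, ((r x : LinearMap.ker (δ i)) : N i) = x - σ (d x) := fun x => rfl
  have hdk : ∀ a : LinearMap.ker (δ i), d a = 0 := by
    intro a
    apply Subtype.ext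
    rw [hdx]
    exact a.2
  have hrk : ∀ a : LinearMap.ker (δ i), r a = a := by
    intro a
    apply Subtype.ext
    rw [hr, hdk, map_zero, sub_zero]
  refine ⟨Module.Projective.of_split (LinearMap.ker (δ i)).subtype r (LinearMap.ext hrk), ⟨?_⟩⟩
  refine LinearEquiv.ofLinear (r.prod d) ((LinearMap.ker (δ i)).subtype.coprod σ) ?_ ?_
  · apply LinearMap.ext
    rintro ⟨a, c⟩
    have h1 : r ((a : N i) + σ c) = a := by
      apply Subtype.ext
      rw [hr, map_add, hdk, zero_add, hσ']
      abel
    have h2 : d ((a : N i) + σ c) = c := by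
      rw [map_add, hdk, zero_add, hσ']
    exact Prod.ext h1 h2
  · apply LinearMap.ext
    intro x
    show ((r x : LinearMap.ker (δ i)) : N i) + σ (d x) = x
    rw [hr]; abel

include hex in
theorem euler_zero (s : Finset ℤ) (hs : ∀ i, i ∉ s → Subsingleton (N i)) :
    ∑ i ∈ s, ((i.negOnePow : ℤˣ) : ℤ) * (Module.finrank S (N i) : ℤ) = 0 := by
  -- an upper bound for the support
  obtain ⟨b, hb⟩ : ∃ b : ℤ, ∀ i ∈ s, i ≤ b := by
    by_cases hne : s.Nonempty
    · exact ⟨s.max' hne, fun i hi => s.le_max' i hi⟩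
    · exact ⟨0, fun i hi => absurd ⟨i, hi⟩ hne⟩
  have hsubK : ∀ i, i ∉ s → Subsingleton (LinearMap.ker (δ i)) := fun i hi =>
    haveI := hs i hi
    inferInstance
  have hproj : ∀ (k : ℕ) (i : ℤ), b < i + k → Module.Projective S (LinearMap.ker (δ i)) := by
    intro k
    induction k with
    | zero =>
      intro i hi
      haveI := hsubK i (fun h => by have := hb i h; simp at hi; omega)
      infer_instance
    | succ k ih =>
      intro i hi
      exact (step N δ hex i (ih (i + 1) (by push_cast at hi ⊢; omega))).1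
  have hprojAll : ∀ i, Module.Projective S (LinearMap.ker (δ i)) := fun i =>
    hproj (b - i + 1).toNat i (by omega)
  haveI : ∀ i, Module.Finite S (LinearMap.ker (δ i)) := fun i => by
    obtain ⟨e⟩ := (step N δ hex i (hprojAll (i + 1))).2
    exact Module.Finite.of_surjective ((LinearMap.fst S _ _).comp e.toLinearMap)
      (fun a => ⟨e.symm (a, 0), by simp⟩)
  haveI : ∀ i, Module.Free S (LinearMap.ker (δ i)) := fun i =>
    haveI := hprojAll i
    Module.free_of_flat_of_isLocalRing
  let z : ℤ → ℤ := fun i => (Module.finrank S (LinearMap.ker (δ i)) : ℤ)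
  have hz : ∀ i, (Module.finrank S (N i) : ℤ) = z i + z (i + 1) := by
    intro i
    obtain ⟨e⟩ := (step N δ hex i (hprojAll (i + 1))).2
    rw [e.finrank_eq, Module.finrank_prod]
    push_cast
    rfl
  have hz0 : ∀ i, i ∉ s → z i = 0 := by
    intro i hi
    haveI := hsubK i hi
    simp only [z]
    rw [Module.finrank_zero_of_subsingleton]; rfl
  have hz1 : ∀ i, i ∉ s → z (i + 1) = 0 := by
    intro i hi
    haveI := hs i hi
    have : LinearMap.ker (δ (i + 1)) = ⊥ := by
      rw [LinearMap.exact_iff.mp (hex i), LinearMap.range_eq_bot]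
      apply LinearMap.ext
      intro x
      rw [Subsingleton.elim x 0, map_zero, map_zero]
    simp only [z]
    rw [this, finrank_bot]; rfl
  let u : ℤ → ℤ := fun i => ((i.negOnePow : ℤˣ) : ℤ) * z i
  have hterm : ∀ i, ((i.negOnePow : ℤˣ) : ℤ) * (Module.finrank S (N i) : ℤ) = u i - u (i + 1) := by
    intro i
    simp only [u]
    rw [hz, Int.negOnePow_succ]
    push_cast
    ring
  simp_rw [hterm]
  rw [Finset.sum_sub_distrib, sub_eq_zero]
  have hinj : Function.Injective (fun i : ℤ => i + 1) := fun a b h => by simpa using h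
  have h1 : ∑ i ∈ s, u (i + 1) = ∑ j ∈ s.image (fun i => i + 1), u j := by
    rw [Finset.sum_image (fun a _ b _ h => hinj h)]
  rw [h1]
  have h2 : ∑ i ∈ s, u i = ∑ i ∈ s ∪ s.image (fun i => i + 1), u i := by
    apply Finset.sum_subset Finset.subset_union_left
    intro j _ hj
    simp only [u, hz0 j hj, mul_zero]
  have h3 : ∑ j ∈ s.image (fun i => i + 1), u j = ∑ i ∈ s ∪ s.image (fun i => i + 1), u i := by
    apply Finset.sum_subset Finset.subset_union_right
    intro j _ hj
    have hj' : j - 1 ∉ s := by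
      intro h
      apply hj
      exact Finset.mem_image.mpr ⟨j - 1, h, by ring⟩
    have := hz1 (j - 1) hj'
    rw [sub_add_cancel] at this
    simp only [u, this, mul_zero]
  rw [h2, h3]

end

open CategoryTheory in
/-- local exactness from vanishing of localized homology -/
theorem local_exact {A : Type u} [CommRing A] (P : CochainComplex (ModuleCat.{u} A) ℤ)
    (M : Submonoid A) (i : ℤ)
    (h : Subsingleton (LocalizedModule M (P.homology (i + 1))))
    (z : P.X (i + 1)) (hz : (P.d (i + 1) (i + 1 + 1)).hom z = 0) :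
    ∃ r ∈ M, ∃ y : P.X i, (P.d i (i + 1)).hom y = r • z := by
  let T := P.sc' i (i + 1) (i + 1 + 1)
  let e1 : P.homology (i + 1) ≅ T.homology :=
    ShortComplex.homologyMapIso (P.isoSc' i (i + 1) (i + 1 + 1) (by simp) (by simp))
  let e : (P.homology (i + 1)) ≃ₗ[A]
      (LinearMap.ker T.g.hom ⧸ LinearMap.range T.moduleCatToCycles) :=
    (e1 ≪≫ T.moduleCatHomologyIso).toLinearEquiv
  have hz' : z ∈ LinearMap.ker T.g.hom := hz
  obtain ⟨r, hr, hr0⟩ := LocalizedModule.subsingleton_iff.mp h
    (e.symm (Submodule.Quotient.mk ⟨z, hz'⟩))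
  rw [← map_smul, ← Submodule.Quotient.mk_smul] at hr0
  have h0 := e.symm.injective (hr0.trans (map_zero _).symm)
  rw [Submodule.Quotient.mk_eq_zero] at h0
  obtain ⟨y, hy⟩ := h0
  refine ⟨r, hr, y, ?_⟩
  exact congrArg Subtype.val hy

open CategoryTheory in
theorem main {A : Type u} [CommRing A]
    (P : CochainComplex (ModuleCat.{u} A) ℤ) (s : Finset ℤ)
    (hP : ∀ i : ℤ, Module.Finite A (P.X i) ∧ Module.Projective A (P.X i))
    (hs : ∀ i : ℤ, i ∉ s → Limits.IsZero (P.X i))
    (hsupp : ∀ q : PrimeSpectrum A, q.asIdeal ∈ minimalPrimes A →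
      ∀ i : ℤ, Subsingleton (LocalizedModule q.asIdeal.primeCompl (P.homology i))) :
    ∀ x : PrimeSpectrum A,
      (s.sum fun i => ((i.negOnePow : ℤˣ) : ℤ) * (Module.rankAtStalk (R := A) (P.X i) x : ℤ)) = 0 := by
  intro x
  obtain ⟨q, hq, hqx⟩ := Ideal.exists_minimalPrimes_le (bot_le : (⊥ : Ideal A) ≤ x.asIdeal)
  haveI : q.IsPrime := hq.1.1
  haveI : ∀ i, Module.Finite A (P.X i) := fun i => (hP i).1
  haveI : ∀ i, Module.Projective A (P.X i) := fun i => (hP i).2
  let Q : PrimeSpectrum A := ⟨q, inferInstance⟩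
  have hrk : ∀ i, Module.rankAtStalk (R := A) (P.X i) x = Module.rankAtStalk (R := A) (P.X i) Q :=
    fun i => (Module.rankAtStalk_eq_of_le_of_finite_of_flat (P.X i) (p := Q) (q := x) hqx).symm
  simp_rw [hrk]
  let N : ℤ → Type u := fun i => LocalizedModule q.primeCompl (P.X i)
  haveI : ∀ i, Module.Free (Localization.AtPrime q) (N i) := fun i =>
    Module.free_of_flat_of_isLocalRing
  let δ : ∀ i, N i →ₗ[Localization.AtPrime q] N (i + 1) := fun i =>
    LocalizedModule.map q.primeCompl (P.d i (i + 1)).hom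
  have hex : ∀ i, Function.Exact (δ i) (δ (i + 1)) := by
    intro i y
    constructor
    · intro hy
      induction y using LocalizedModule.induction_on with
      | h m t =>
        have hy1 : LocalizedModule.mk ((P.d (i + 1) (i + 1 + 1)).hom m) t =
            (0 : LocalizedModule q.primeCompl (P.X (i + 1 + 1))) := by
          rw [← LocalizedModule.map_mk]; exact hy
        clear hy
        rename' hy1 => hy
        rw [← LocalizedModule.zero_mk (1 : q.primeCompl), LocalizedModule.mk_eq] at hy
        obtain ⟨c, hc⟩ := hy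
        simp only [one_smul, smul_zero] at hc
        have hcm : (P.d (i + 1) (i + 1 + 1)).hom ((c : A) • m) = 0 := by
          rw [map_smul]; exact hc
        obtain ⟨r, hr, y', hy'⟩ := local_exact P q.primeCompl i (hsupp Q hq (i + 1)) _ hcm
        refine ⟨LocalizedModule.mk y' (⟨r, hr⟩ * c * t), ?_⟩
        show LocalizedModule.map q.primeCompl (P.d i (i + 1)).hom
          (LocalizedModule.mk y' (⟨r, hr⟩ * c * t)) = _
        rw [LocalizedModule.map_mk, hy', ← mul_smul]
        exact LocalizedModule.mk_cancel_common_left (⟨r, hr⟩ * c) t m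
    · rintro ⟨y', rfl⟩
      induction y' using LocalizedModule.induction_on with
      | h m t =>
        have : (P.d (i + 1) (i + 1 + 1)).hom ((P.d i (i + 1)).hom m) = 0 := by
          have := P.d_comp_d i (i + 1) (i + 1 + 1)
          exact congrArg (fun f => f.hom m) this
        show LocalizedModule.map q.primeCompl (P.d (i + 1) (i + 1 + 1)).hom
          (LocalizedModule.map q.primeCompl (P.d i (i + 1)).hom (LocalizedModule.mk m t)) = 0
        rw [LocalizedModule.map_mk, LocalizedModule.map_mk, this, LocalizedModule.zero_mk]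
  have hsN : ∀ i, i ∉ s → Subsingleton (N i) := by
    intro i hi
    haveI : Subsingleton (P.X i) := ModuleCat.subsingleton_of_isZero (hs i hi)
    infer_instance
  exact euler_zero N δ hex s hsN

end Groth.Agent.Helper6.EulerCx
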