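import Mathlib
import Groth.Prelude.Def_W4c4cptpiccptjacBI
import Groth.Agent.Helper8.BasicIneq
import Groth.Agent.Helper7.CapBI2

/-!
# Exceptional vertices and the Basic Inequality: edge bookkeeping
-/

set_option autoImplicit false
set_option linter.style.haveILetI false
set_option linter.unusedSectionVars false

universe u
open Finset

namespace Groth.Agent.Helper6.ExcBI

open LabGraph Groth.Agent.Helper8

variable {V E : Type u} [Fintype V] [Fintype E] [DecidableEq V] [DecidableEq E]

/-- multiplicity of `v` as an end of `e` -/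
def mult (ends : E → V × V) (v : V) (e : E) : ℤ :=
  (if (ends e).1 = v then 1 else 0) + (if (ends e).2 = v then 1 else 0)

/-- indicator of the cut set of `Y` -/
def cind (ends : E → V × V) (Y : Finset V) (e : E) : ℤ :=
  if ((ends e).1 ∈ Y ∧ (ends e).2 ∉ Y) ∨ ((ends e).1 ∉ Y ∧ (ends e).2 ∈ Y) then 1 else 0

theorem cut_eq (ends : E → V × V) (Y : Finset V) : (cut ends Y : ℤ) = ∑ e, cind ends Y e :=
  cut_eq_sum ends Y

theorem mult_nonneg (ends : E → V × V) (v : V) (e : E) : 0 ≤ mult ends v e := by
  unfold mult; split_ifs <;> norm_num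

theorem cind_nonneg (ends : E → V × V) (Y : Finset V) (e : E) : 0 ≤ cind ends Y e := by
  unfold cind; split_ifs <;> norm_num

theorem cind_le_one (ends : E → V × V) (Y : Finset V) (e : E) : cind ends Y e ≤ 1 := by
  unfold cind; split_ifs <;> norm_num

theorem sum_mult (ends : E → V × V) (v : V) :
    ∑ e, mult ends v e = (endCount ends Finset.univ v : ℤ) := by
  unfold mult endCount
  push_cast
  rfl

theorem endCount_exc (ends : E → V × V) (w : V → ℕ) (v : V) (hv : IsExceptional ends w v) :
    endCount ends Finset.univ v = 2 := by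
  obtain ⟨_, hnl, hcut⟩ := hv
  rw [← hcut, cut, Finset.card_filter, endCount]
  refine Finset.sum_congr rfl fun e _ => ?_
  have := hnl e
  by_cases h1 : (ends e).1 = v <;> by_cases h2 : (ends e).2 = v
  · exact absurd (Prod.ext h1 h2 : ends e = (v, v)) this
  · simp [h1, h2]
  · simp [h1, h2]
  · simp [h1, h2]

theorem sum_mult_exc (ends : E → V × V) (w : V → ℕ) (v : V) (hv : IsExceptional ends w v) :
    ∑ e, mult ends v e = 2 := by
  rw [sum_mult, endCount_exc ends w v hv]; norm_num

theorem kap_exc (ends : E → V × V) (w : V → ℕ) (v : V) (hv : IsExceptional ends w v) :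
    2 * (w v : ℤ) - 2 + (endCount ends Finset.univ v : ℤ) = 0 := by
  rw [endCount_exc ends w v hv, hv.1]; norm_num

theorem K_pos (ends : E → V × V) (w : V → ℕ) (hg : 2 ≤ genus ends w) :
    0 < canDeg ends w Finset.univ := by
  rw [canDeg_univ]; linarith

theorem canDeg_insert_exc (ends : E → V × V) (w : V → ℕ) (Z : Finset V) (x : V)
    (hx : IsExceptional ends w x) (hxZ : x ∉ Z) :
    canDeg ends w (insert x Z) = canDeg ends w Z := by
  unfold canDeg
  rw [Finset.sum_insert hxZ, kap_exc ends w x hx, zero_add]

theorem canDeg_congr_exc (ends : E → V × V) (w : V → ℕ) (S : Finset V)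
    (hS : ∀ v ∈ S, IsExceptional ends w v) (A B : Finset V)
    (h : ∀ u, u ∉ S → (u ∈ A ↔ u ∈ B)) : canDeg ends w A = canDeg ends w B := by
  have key : ∀ A : Finset V, canDeg ends w A =
      ∑ v, if v ∈ A then (2 * (w v : ℤ) - 2 + (endCount ends Finset.univ v : ℤ)) else 0 := by
    intro A; unfold canDeg; rw [Finset.sum_ite_mem, Finset.univ_inter]
  rw [key A, key B]
  refine Finset.sum_congr rfl fun v _ => ?_
  by_cases hv : v ∈ S
  · rw [kap_exc ends w v (hS v hv)]; simp
  · simp only [h v hv]

/-! ### twists of indicator-like functions -/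

theorem twist_const (ends : E → V × V) (φ : V → ℤ) (c : ℤ) (hφ : ∀ u, φ u = c) (v : V) :
    twist ends φ v = 0 := by
  unfold twist; simp [hφ]

theorem twist_term_nonpos (ends : E → V × V) (φ : V → ℤ) (x : V) (hmax : ∀ u, φ u ≤ φ x) (e : E) :
    ((if (ends e).1 = x then φ (ends e).2 - φ (ends e).1 else 0) +
      (if (ends e).2 = x then φ (ends e).1 - φ (ends e).2 else 0)) ≤ 0 := by
  refine add_nonpos ?_ ?_
  · split_ifs with h
    · rw [h]; linarith [hmax (ends e).2]
    · exact le_rfl
  · split_ifs with h
    · rw [h]; linarith [hmax (ends e).1]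
    · exact le_rfl

theorem twist_nonpos_of_max (ends : E → V × V) (φ : V → ℤ) (x : V) (hmax : ∀ u, φ u ≤ φ x) :
    twist ends φ x ≤ 0 := by
  unfold twist
  exact Finset.sum_nonpos fun e _ => twist_term_nonpos ends φ x hmax e

theorem twist_le_neg_one (ends : E → V × V) (φ : V → ℤ) (x : V) (hmax : ∀ u, φ u ≤ φ x) (e0 : E)
    (h0 : ((ends e0).1 = x ∧ φ (ends e0).2 < φ x) ∨ ((ends e0).2 = x ∧ φ (ends e0).1 < φ x)) :
    twist ends φ x ≤ -1 := by
  unfold twist
  calc ∑ e, ((if (ends e).1 = x then φ (ends e).2 - φ (ends e).1 else 0) +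
        (if (ends e).2 = x then φ (ends e).1 - φ (ends e).2 else 0))
      ≤ ∑ e, (if e = e0 then (-1 : ℤ) else 0) := by
        refine Finset.sum_le_sum fun e _ => ?_
        by_cases he : e = e0
        · rw [he, if_pos rfl]
          have hA : (if (ends e0).1 = x then φ (ends e0).2 - φ (ends e0).1 else 0) ≤ 0 := by
            split_ifs with h
            · rw [h]; linarith [hmax (ends e0).2]
            · exact le_rfl
          have hB : (if (ends e0).2 = x then φ (ends e0).1 - φ (ends e0).2 else 0) ≤ 0 := by
            split_ifs with h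
            · rw [h]; linarith [hmax (ends e0).1]
            · exact le_rfl
          rcases h0 with ⟨h1, h2⟩ | ⟨h1, h2⟩
          · have hA' : (if (ends e0).1 = x then φ (ends e0).2 - φ (ends e0).1 else 0) ≤ -1 := by
              rw [if_pos h1, h1]; omega
            linarith
          · have hB' : (if (ends e0).2 = x then φ (ends e0).1 - φ (ends e0).2 else 0) ≤ -1 := by
              rw [if_pos h1, h1]; omega
            linarith
        · rw [if_neg he]; exact twist_term_nonpos ends φ x hmax e
    _ = -1 := by simp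

/-! ### adding an exceptional vertex adjacent to `Z` does not increase the cut -/

theorem cind_insert_le (ends : E → V × V) (Z : Finset V) (x : V) (e : E) :
    cind ends (insert x Z) e ≤ cind ends Z e + mult ends x e := by
  unfold cind mult
  generalize ends e = p
  obtain ⟨a, b⟩ := p
  simp only [Finset.mem_insert]
  split_ifs <;> simp_all

theorem cut_insert_le (ends : E → V × V) (w : V → ℕ) (Z : Finset V) (x y : V)
    (hx : IsExceptional ends w x) (hxZ : x ∉ Z) (hyZ : y ∈ Z) (e0 : E)
    (h0 : ((ends e0).1 = x ∧ (ends e0).2 = y) ∨ ((ends e0).1 = y ∧ (ends e0).2 = x)) :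
    (cut ends (insert x Z) : ℤ) ≤ cut ends Z := by
  have hxy : x ≠ y := fun h => hxZ (h ▸ hyZ)
  have hyx : y ≠ x := fun h => hxy h.symm
  rw [cut_eq, cut_eq]
  have hsum := sum_mult_exc ends w x hx
  have hterm : ∀ e, cind ends (insert x Z) e ≤
      cind ends Z e + mult ends x e - (if e = e0 then 2 else 0) := by
    intro e
    by_cases he : e = e0
    · rw [he, if_pos rfl]
      unfold cind mult
      rcases h0 with ⟨h1, h2⟩ | ⟨h1, h2⟩
      · rw [h1, h2]; simp [hxZ, hyZ, hyx]
      · rw [h1, h2]; simp [hxZ, hyZ, hyx]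
    · rw [if_neg he, sub_zero]; exact cind_insert_le ends Z x e
  calc ∑ e, cind ends (insert x Z) e
      ≤ ∑ e, (cind ends Z e + mult ends x e - (if e = e0 then 2 else 0)) :=
        Finset.sum_le_sum fun e _ => hterm e
    _ = ∑ e, cind ends Z e + ∑ e, mult ends x e - 2 := by
        rw [Finset.sum_sub_distrib, Finset.sum_add_distrib]; simp
    _ = ∑ e, cind ends Z e := by rw [hsum]; ring

/-! ### decomposition of edge sums along a set of pairwise non-adjacent loopless vertices -/

theorem sum_decomp (ends : E → V × V) (S : Finset V)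
    (hq : ∀ e : E, ¬ ((ends e).1 ∈ S ∧ (ends e).2 ∈ S)) (f : E → ℤ) :
    ∑ e, f e = ∑ e, (if (ends e).1 ∉ S ∧ (ends e).2 ∉ S then f e else 0) +
      ∑ v ∈ S, ∑ e, mult ends v e * f e := by
  rw [Finset.sum_comm, ← Finset.sum_add_distrib]
  refine Finset.sum_congr rfl fun e _ => ?_
  have hs : ∑ v ∈ S, mult ends v e * f e =
      ((if (ends e).1 ∈ S then 1 else 0) + (if (ends e).2 ∈ S then 1 else 0)) * f e := by
    rw [← Finset.sum_mul]
    congr 1
    unfold mult
    rw [Finset.sum_add_distrib, Finset.sum_ite_eq, Finset.sum_ite_eq]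
  rw [hs]
  have := hq e
  by_cases h1 : (ends e).1 ∈ S <;> by_cases h2 : (ends e).2 ∈ S
  · exact absurd ⟨h1, h2⟩ this
  · simp [h1, h2]
  · simp [h1, h2]
  · simp [h1, h2]

section hat

variable (ends : E → V × V) (w : V → ℕ) (S : Finset V)
  (hS : ∀ v ∈ S, IsExceptional ends w v)
  (hq : ∀ e : E, ¬ ((ends e).1 ∈ S ∧ (ends e).2 ∈ S))
  (Y W What : Finset V)
  (hW : ∀ v, v ∈ W ↔ v ∈ Y ∧ v ∉ S)
  (hWhat : ∀ v, v ∈ What ↔ v ∈ W ∨ (v ∈ S ∧ ∀ e : E, ((ends e).1 = v → (ends e).2 ∈ W) ∧
    ((ends e).2 = v → (ends e).1 ∈ W)))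

include hW hWhat in
theorem hat_iff_W (u : V) (hu : u ∉ S) : u ∈ What ↔ u ∈ W := by
  rw [hWhat u]
  constructor
  · rintro (h | ⟨h, _⟩)
    · exact h
    · exact absurd h hu
  · exact Or.inl

include hW in
theorem W_iff_Y (u : V) (hu : u ∉ S) : u ∈ W ↔ u ∈ Y := by
  rw [hW u]
  exact ⟨fun h => h.1, fun h => ⟨h, hu⟩⟩

include hW hWhat in
theorem hat_iff_Y (u : V) (hu : u ∉ S) : u ∈ What ↔ u ∈ Y :=
  (hat_iff_W ends S Y W What hW hWhat u hu).trans (W_iff_Y S Y W hW u hu)

include hS hq hW hWhat in
theorem pervertex (v : V) (hv : v ∈ S) :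
    ∑ e, mult ends v e * cind ends What e ≤ ∑ e, mult ends v e * cind ends Y e := by
  have hvW : v ∉ W := fun h => ((hW v).mp h).2 hv
  have F1 := hat_iff_Y ends S Y W What hW hWhat
  have F1' := hat_iff_W ends S Y W What hW hWhat
  have F3a : ∀ e, (ends e).1 = v → (ends e).2 ∉ S := fun e h1 h2 => hq e ⟨h1 ▸ hv, h2⟩
  have F3b : ∀ e, (ends e).2 = v → (ends e).1 ∉ S := fun e h2 h1 => hq e ⟨h1, h2 ▸ hv⟩
  have hmult0 : ∀ e, (ends e).1 ≠ v → (ends e).2 ≠ v → mult ends v e = 0 := by
    intro e h1 h2; unfold mult; rw [if_neg h1, if_neg h2]; rfl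
  by_cases hvh : v ∈ What
  · -- all edges at v go into W
    have hall : ∀ e : E, ((ends e).1 = v → (ends e).2 ∈ W) ∧ ((ends e).2 = v → (ends e).1 ∈ W) := by
      rcases (hWhat v).mp hvh with h | ⟨_, h⟩
      · exact absurd h hvW
      · exact h
    have hterm : ∀ e, mult ends v e * cind ends What e = 0 := by
      intro e
      by_cases h1 : (ends e).1 = v
      · have h2 : (ends e).2 ∈ What := (F1' _ (F3a e h1)).mpr ((hall e).1 h1)
        have h1' : (ends e).1 ∈ What := h1 ▸ hvh
        have : cind ends What e = 0 := by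
          unfold cind; rw [if_neg]
          rintro (⟨_, hb⟩ | ⟨ha, _⟩)
          · exact hb h2
          · exact ha h1'
        rw [this, mul_zero]
      · by_cases h2 : (ends e).2 = v
        · have h1'' : (ends e).1 ∈ What := (F1' _ (F3b e h2)).mpr ((hall e).2 h2)
          have h2' : (ends e).2 ∈ What := h2 ▸ hvh
          have : cind ends What e = 0 := by
            unfold cind; rw [if_neg]
            rintro (⟨_, hb⟩ | ⟨ha, _⟩)
            · exact hb h2'
            · exact ha h1''
          rw [this, mul_zero]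
        · rw [hmult0 e h1 h2, zero_mul]
    rw [Finset.sum_congr rfl (fun e _ => hterm e), Finset.sum_const_zero]
    exact Finset.sum_nonneg fun e _ => mul_nonneg (mult_nonneg ends v e) (cind_nonneg ends Y e)
  · by_cases hvY : v ∈ Y
    · -- the interesting case
      have hex : ∃ e0 : E, ((ends e0).1 = v ∧ (ends e0).2 ∉ W) ∨ ((ends e0).2 = v ∧ (ends e0).1 ∉ W) := by
        by_contra hno
        apply hvh
        rw [hWhat v]
        right
        refine ⟨hv, fun e => ⟨fun h1 => ?_, fun h2 => ?_⟩⟩
        · by_contra hc; exact hno ⟨e, Or.inl ⟨h1, hc⟩⟩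
        · by_contra hc; exact hno ⟨e, Or.inr ⟨h2, hc⟩⟩
      obtain ⟨e0, h0⟩ := hex
      have hsum := sum_mult_exc ends w v (hS v hv)
      have hterm : ∀ e, mult ends v e * cind ends What e ≤
          mult ends v e * cind ends Y e + mult ends v e - (if e = e0 then 2 else 0) := by
        intro e
        by_cases he : e = e0
        · rw [he, if_pos rfl]
          rcases h0 with ⟨h1, h2⟩ | ⟨h1, h2⟩
          · have huS := F3a e0 h1
            have hu1 : (ends e0).2 ∉ What := fun h => h2 ((F1' _ huS).mp h)
            have hu2 : (ends e0).2 ∉ Y := fun h => h2 ((W_iff_Y S Y W hW _ huS).mpr h)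
            have hne : (ends e0).2 ≠ v := fun h => huS (h ▸ hv)
            have c1 : cind ends What e0 = 0 := by
              unfold cind; rw [if_neg]
              rintro (⟨ha, _⟩ | ⟨_, hb⟩)
              · exact hvh (h1 ▸ ha)
              · exact hu1 hb
            have c2 : cind ends Y e0 = 1 := by
              unfold cind; rw [if_pos]
              exact Or.inl ⟨h1 ▸ hvY, hu2⟩
            have m1 : mult ends v e0 = 1 := by
              unfold mult; rw [if_pos h1, if_neg hne]; rfl
            rw [c1, c2, m1]; norm_num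
          · have huS := F3b e0 h1
            have hu1 : (ends e0).1 ∉ What := fun h => h2 ((F1' _ huS).mp h)
            have hu2 : (ends e0).1 ∉ Y := fun h => h2 ((W_iff_Y S Y W hW _ huS).mpr h)
            have hne : (ends e0).1 ≠ v := fun h => huS (h ▸ hv)
            have c1 : cind ends What e0 = 0 := by
              unfold cind; rw [if_neg]
              rintro (⟨ha, _⟩ | ⟨_, hb⟩)
              · exact hu1 ha
              · exact hvh (h1 ▸ hb)
            have c2 : cind ends Y e0 = 1 := by
              unfold cind; rw [if_pos]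
              exact Or.inr ⟨hu2, h1 ▸ hvY⟩
            have m1 : mult ends v e0 = 1 := by
              unfold mult; rw [if_neg hne, if_pos h1]; rfl
            rw [c1, c2, m1]; norm_num
        · rw [if_neg he, sub_zero]
          have a1 := mul_le_mul_of_nonneg_left (cind_le_one ends What e) (mult_nonneg ends v e)
          have a2 := mul_nonneg (mult_nonneg ends v e) (cind_nonneg ends Y e)
          linarith
      calc ∑ e, mult ends v e * cind ends What e
          ≤ ∑ e, (mult ends v e * cind ends Y e + mult ends v e - (if e = e0 then 2 else 0)) :=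
            Finset.sum_le_sum fun e _ => hterm e
        _ = ∑ e, mult ends v e * cind ends Y e + ∑ e, mult ends v e - 2 := by
            rw [Finset.sum_sub_distrib, Finset.sum_add_distrib]; simp
        _ = ∑ e, mult ends v e * cind ends Y e := by rw [hsum]; ring
    · -- termwise equal
      refine le_of_eq (Finset.sum_congr rfl fun e _ => ?_)
      by_cases h1 : (ends e).1 = v
      · have hb := F1 _ (F3a e h1)
        have ha1 : (ends e).1 ∉ What := h1 ▸ hvh
        have ha2 : (ends e).1 ∉ Y := h1 ▸ hvY
        have : cind ends What e = cind ends Y e := by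
          unfold cind
          simp only [ha1, ha2, hb, false_and, not_false_eq_true, true_and, false_or]
        rw [this]
      · by_cases h2 : (ends e).2 = v
        · have ha := F1 _ (F3b e h2)
          have hb1 : (ends e).2 ∉ What := h2 ▸ hvh
          have hb2 : (ends e).2 ∉ Y := h2 ▸ hvY
          have : cind ends What e = cind ends Y e := by
            unfold cind
            simp only [hb1, hb2, ha, and_false, not_false_eq_true, and_true, or_false]
          rw [this]
        · rw [hmult0 e h1 h2, zero_mul, zero_mul]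

include hS hq hW hWhat in
theorem cut_hat_le : (cut ends What : ℤ) ≤ cut ends Y := by
  rw [cut_eq, cut_eq, sum_decomp ends S hq (cind ends What), sum_decomp ends S hq (cind ends Y)]
  refine add_le_add ?_ ?_
  · refine le_of_eq (Finset.sum_congr rfl fun e _ => ?_)
    split_ifs with h
    · have h1 := hat_iff_Y ends S Y W What hW hWhat _ h.1
      have h2 := hat_iff_Y ends S Y W What hW hWhat _ h.2
      unfold cind
      simp only [h1, h2]
    · rfl
  · exact Finset.sum_le_sum fun v hv => pervertex ends w S hS hq Y W What hW hWhat v hv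

end hat

end Groth.Agent.Helper6.ExcBI
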