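import Mathlib

set_option autoImplicit false

namespace Groth.Agent.Helper6.ExpSubst

open PowerSeries

/-- `E f = exp(f)`. -/
noncomputable def E (f : ℚ⟦X⟧) : ℚ⟦X⟧ := (PowerSeries.exp ℚ).subst f

theorem hasSubst_of {f : ℚ⟦X⟧} (hf : constantCoeff f = 0) : HasSubst f :=
  HasSubst.of_constantCoeff_zero' hf

theorem derivative_E {f : ℚ⟦X⟧} (hf : constantCoeff f = 0) :
    d⁄dX ℚ (E f) = E f * d⁄dX ℚ f := by
  unfold E
  rw [derivative_subst (hasSubst_of hf), derivative_exp]

theorem constantCoeff_E {f : ℚ⟦X⟧} (hf : constantCoeff f = 0) :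
    constantCoeff (E f) = 1 := by
  unfold E
  have h1 : PowerSeries.exp ℚ = 1 + (PowerSeries.exp ℚ - 1) := by ring
  rw [h1, subst_add (hasSubst_of hf)]
  have h2 : (1 : ℚ⟦X⟧).subst f = 1 := by
    rw [← coe_substAlgHom (hasSubst_of hf), map_one]
  rw [h2, map_add, map_one]
  have h3 : constantCoeff ((PowerSeries.exp ℚ - 1).subst f) = 0 := by
    have := constantCoeff_subst_eq_zero (a := f) hf (PowerSeries.exp ℚ - 1)
      (by simp [constantCoeff_exp])
    exact this
  rw [h3, add_zero]

/-- ODE uniqueness: a series with zero derivative and constant coefficient `1` is `1`. -/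
theorem eq_one_of_derivative_zero {y : ℚ⟦X⟧} (hd : d⁄dX ℚ y = 0) (hc : constantCoeff y = 1) :
    y = 1 := by
  apply derivative.ext
  · rw [hd]; simp
  · rw [hc]; simp

theorem E_mul_E_neg {f : ℚ⟦X⟧} (hf : constantCoeff f = 0) : E f * E (-f) = 1 := by
  have hnf : constantCoeff (-f) = 0 := by simp [hf]
  apply eq_one_of_derivative_zero
  · rw [Derivation.leibniz, derivative_E hf, derivative_E hnf]
    simp only [smul_eq_mul, map_neg]
    ring
  · rw [map_mul, constantCoeff_E hf, constantCoeff_E hnf, mul_one]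

theorem E_add {f g : ℚ⟦X⟧} (hf : constantCoeff f = 0) (hg : constantCoeff g = 0) :
    E (f + g) = E f * E g := by
  have hnf : constantCoeff (-f) = 0 := by simp [hf]
  have hng : constantCoeff (-g) = 0 := by simp [hg]
  have hfg : constantCoeff (f + g) = 0 := by simp [hf, hg]
  have key : E (f + g) * (E (-f) * E (-g)) = 1 := by
    apply eq_one_of_derivative_zero
    · rw [Derivation.leibniz, Derivation.leibniz, derivative_E hfg, derivative_E hnf,
        derivative_E hng]
      simp only [smul_eq_mul, map_neg, map_add]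
      ring
    · rw [map_mul, map_mul, constantCoeff_E hfg, constantCoeff_E hnf, constantCoeff_E hng]
      simp
  calc E (f + g) = E (f + g) * ((E f * E (-f)) * (E g * E (-g))) := by
        rw [E_mul_E_neg hf, E_mul_E_neg hg]; ring
    _ = (E (f + g) * (E (-f) * E (-g))) * (E f * E g) := by ring
    _ = E f * E g := by rw [key, one_mul]

theorem E_zero : E 0 = 1 := by
  have h := E_add (f := 0) (g := 0) (by simp) (by simp)
  rw [add_zero] at h
  have h2 := E_mul_E_neg (f := 0) (by simp)
  rw [neg_zero] at h2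
  rw [← h2]; exact h

theorem E_sum {ι : Type*} (s : Finset ι) (f : ι → ℚ⟦X⟧)
    (hf : ∀ i ∈ s, constantCoeff (f i) = 0) :
    E (∑ i ∈ s, f i) = ∏ i ∈ s, E (f i) := by
  classical
  induction s using Finset.induction_on with
  | empty => simp [E_zero]
  | insert a s ha ih =>
    rw [Finset.sum_insert ha, Finset.prod_insert ha, E_add, ih]
    · intro i hi; exact hf i (Finset.mem_insert_of_mem hi)
    · exact hf a (Finset.mem_insert_self a s)
    · rw [map_sum]
      exact Finset.sum_eq_zero fun i hi => hf i (Finset.mem_insert_of_mem hi)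

theorem E_nsmul {f : ℚ⟦X⟧} (hf : constantCoeff f = 0) (m : ℕ) : E (m • f) = E f ^ m := by
  induction m with
  | zero => simp [E_zero]
  | succ m ih =>
    rw [succ_nsmul, E_add _ hf, ih, pow_succ]
    simp [hf]

/-- The series `L_a = Σ_{v ≥ 1} a^v X^v / v = -log(1 - aX)`. -/
noncomputable def L (a : ℚ) : ℚ⟦X⟧ :=
  PowerSeries.mk fun v : ℕ => if v = 0 then (0 : ℚ) else a ^ v / (v : ℚ)

theorem constantCoeff_L (a : ℚ) : constantCoeff (L a) = 0 := by
  rw [← coeff_zero_eq_constantCoeff_apply]
  simp [L]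

theorem derivative_L_mul (a : ℚ) : d⁄dX ℚ (L a) * (1 - C a * X) = C a := by
  have h1 : d⁄dX ℚ (L a) = PowerSeries.mk fun v : ℕ => a ^ (v + 1) := by
    ext n
    rw [coeff_derivative, coeff_mk]
    simp only [L, coeff_mk]
    rw [if_neg (Nat.succ_ne_zero n)]
    have : ((n : ℚ) + 1) ≠ 0 := by positivity
    push_cast
    field_simp
  rw [h1]
  ext n
  rw [mul_sub, mul_one, map_sub, coeff_mk, ← mul_assoc, coeff_C]
  cases n with
  | zero =>
    rw [coeff_zero_mul_X]; simp
  | succ n =>
    rw [coeff_succ_mul_X, mul_comm, coeff_C_mul, coeff_mk]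
    simp only [Nat.succ_ne_zero, if_false]
    ring

theorem E_L_mul (a : ℚ) : E (L a) * (1 - C a * X) = 1 := by
  apply eq_one_of_derivative_zero
  · rw [Derivation.leibniz, derivative_E (constantCoeff_L a)]
    have h := derivative_L_mul a
    have h2 : d⁄dX ℚ (1 - C a * X) = - C a := by
      rw [map_sub, Derivation.leibniz, Derivation.map_one_eq_zero]; simp
    rw [h2]
    simp only [smul_eq_mul]
    linear_combination (E (L a)) * h
  · rw [map_mul, constantCoeff_E (constantCoeff_L a)]
    simp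

theorem E_neg_L (a : ℚ) : E (-(L a)) = 1 - C a * X := by
  have h1 := E_mul_E_neg (constantCoeff_L a)
  have h2 := E_L_mul a
  calc E (-(L a)) = (E (L a) * (1 - C a * X)) * E (-(L a)) := by rw [h2, one_mul]
    _ = (E (L a) * E (-(L a))) * (1 - C a * X) := by ring
    _ = 1 - C a * X := by rw [h1, one_mul]

/-- One factor of the main identity. -/
theorem factor (a : ℚ) (r : ℤ) :
    E (r • L a) * (1 - C a * X) ^ r.toNat = (1 - C a * X) ^ (-r).toNat := by
  rcases le_total 0 r with hr | hr
  · obtain ⟨m, rfl⟩ := Int.eq_ofNat_of_zero_le hr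
    have h0 : (-(m : ℤ)).toNat = 0 := by simp
    rw [h0, pow_zero, Int.toNat_natCast, natCast_zsmul, E_nsmul (constantCoeff_L a), ← mul_pow,
      E_L_mul, one_pow]
  · obtain ⟨m, hm⟩ := Int.eq_ofNat_of_zero_le (neg_nonneg.mpr hr)
    have hr' : r = -(m : ℤ) := by omega
    subst hr'
    have h0 : (-(m : ℤ)).toNat = 0 := by simp
    rw [h0, pow_zero, mul_one, neg_neg, Int.toNat_natCast, neg_smul, natCast_zsmul, ← smul_neg,
      E_nsmul (by simp [constantCoeff_L]), E_neg_L]

theorem main (c : ℤ →₀ ℤ) (q : ℚ) :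
    (PowerSeries.exp ℚ).subst
        (PowerSeries.mk fun v : ℕ => if v = 0 then (0 : ℚ)
          else (c.sum fun (n : ℤ) (r : ℤ) => (r : ℚ) * q ^ (n * (v : ℤ))) / (v : ℚ))
      * ∏ n ∈ c.support, (1 - PowerSeries.C (q ^ n) * PowerSeries.X) ^ (c n).toNat
    = ∏ n ∈ c.support, (1 - PowerSeries.C (q ^ n) * PowerSeries.X) ^ (-(c n)).toNat := by
  have hsum : (PowerSeries.mk fun v : ℕ => if v = 0 then (0 : ℚ)
          else (c.sum fun (n : ℤ) (r : ℤ) => (r : ℚ) * q ^ (n * (v : ℤ))) / (v : ℚ))
      = ∑ n ∈ c.support, (c n) • L (q ^ n) := by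
    ext v
    rw [coeff_mk, map_sum]
    by_cases hv : v = 0
    · subst hv
      rw [if_pos rfl]
      symm
      apply Finset.sum_eq_zero
      intro n _
      rw [coeff_zero_eq_constantCoeff_apply]
      rw [zsmul_eq_mul, map_mul, constantCoeff_L, mul_zero]
    · rw [if_neg hv, Finsupp.sum, Finset.sum_div]
      apply Finset.sum_congr rfl
      intro n _
      rw [zsmul_eq_mul]
      have : ((c n : ℤ) : ℚ⟦X⟧) = C ((c n : ℤ) : ℚ) := by simp
      rw [this, coeff_C_mul]
      simp only [L, coeff_mk, if_neg hv]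
      rw [zpow_mul, zpow_natCast]
      ring
  change E _ * _ = _
  rw [hsum, E_sum, ← Finset.prod_mul_distrib]
  · apply Finset.prod_congr rfl
    intro n _
    exact factor (q ^ n) (c n)
  · intro n _
    rw [zsmul_eq_mul, map_mul, constantCoeff_L, mul_zero]

end Groth.Agent.Helper6.ExpSubst
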