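import Mathlib
import Groth.Prelude.Def_Wider

/-!
# Artin–Rees for `Ext`: restricting an `Ext` class to `I^n M` factors through `I^{n-c} N`
-/

set_option autoImplicit false
set_option linter.style.haveILetI false
set_option linter.unusedSectionVars false

universe u
open CategoryTheory CategoryTheory.Limits Pretriangulated DerivedCategory
attribute [local instance] HasDerivedCategory.standard

namespace Groth.Agent.Helper6.ExtAR

variable {A : Type u} [CommRing A]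

/-- short complex of modules from linear maps -/
noncomputable def sc {X Y Z : Type u} [AddCommGroup X] [Module A X] [AddCommGroup Y] [Module A Y]
    [AddCommGroup Z] [Module A Z] (f : X →ₗ[A] Y) (g : Y →ₗ[A] Z) (h : g ∘ₗ f = 0) :
    ShortComplex (ModuleCat.{u} A) :=
  ShortComplex.mk (ModuleCat.ofHom f) (ModuleCat.ofHom g) (by
    rw [← ModuleCat.ofHom_comp, h]; rfl)

lemma sc_shortExact {X Y Z : Type u} [AddCommGroup X] [Module A X] [AddCommGroup Y] [Module A Y]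
    [AddCommGroup Z] [Module A Z] (f : X →ₗ[A] Y) (g : Y →ₗ[A] Z) (h : g ∘ₗ f = 0)
    (hf : Function.Injective f) (hg : Function.Surjective g) (hfg : Function.Exact f g) :
    (sc f g h).ShortExact := by
  haveI : Mono (sc f g h).f := (ModuleCat.mono_iff_injective _).mpr hf
  haveI : Epi (sc f g h).g := (ModuleCat.epi_iff_surjective _).mpr hg
  exact ShortComplex.ShortExact.mk
    ((ShortComplex.ShortExact.moduleCat_exact_iff_function_exact _).mpr hfg)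

/-- no higher `Ext` out of a projective module -/
lemma hom_proj_eq_zero (F N : ModuleCat.{u} A) [Projective F] (q : ℕ)
    (g : (singleFunctor (ModuleCat.{u} A) 0).obj F ⟶
      ((singleFunctor (ModuleCat.{u} A) 0).obj N)⟦((q + 1 : ℕ) : ℤ)⟧) : g = 0 := by
  have h : (Abelian.Ext.homAddEquiv (X := F) (Y := N) (n := q + 1)).symm g = 0 :=
    Abelian.Ext.eq_zero_of_projective _
  have h2 : g = Abelian.Ext.homAddEquiv ((Abelian.Ext.homAddEquiv (X := F) (Y := N)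
      (n := q + 1)).symm g) := (AddEquiv.apply_symm_apply _ _).symm
  rw [h2, h, map_zero]

/-- a purely categorical diagram chase -/
lemma chain_aux {C : Type*} [Category C] {P3' P3 K1' K1 Nq1 Nq1' W W' : C}
    (δ₁ : P3' ⟶ K1') (δ₀ : P3 ⟶ K1) (t3 : P3' ⟶ P3) (t1 : K1' ⟶ K1)
    (hδ : δ₁ ≫ t1 = t3 ≫ δ₀) (ψ : K1 ⟶ Nq1) (e : P3 ⟶ Nq1) (he : e = δ₀ ≫ ψ)
    (ι1 : Nq1' ⟶ Nq1) (ιq1 : W' ⟶ W) (a : Nq1 ⟶ W) (b : W ⟶ Nq1) (hab : a ≫ b = 𝟙 _)
    (b' : W' ⟶ Nq1') (hnat : b' ≫ ι1 = ιq1 ≫ b) (x : K1' ⟶ W') (y : K1 ⟶ W)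
    (hy : y = ψ ≫ a) (h1 : x ≫ ιq1 = t1 ≫ y) :
    (δ₁ ≫ x ≫ b') ≫ ι1 = t3 ≫ e := by
  subst he hy
  calc (δ₁ ≫ x ≫ b') ≫ ι1 = δ₁ ≫ x ≫ (b' ≫ ι1) := by simp only [Category.assoc]
    _ = δ₁ ≫ (x ≫ ιq1) ≫ b := by rw [hnat]; simp only [Category.assoc]
    _ = δ₁ ≫ (t1 ≫ ψ ≫ a) ≫ b := by rw [h1]
    _ = (δ₁ ≫ t1) ≫ ψ := by simp only [Category.assoc, hab, Category.comp_id]
    _ = t3 ≫ δ₀ ≫ ψ := by rw [hδ, Category.assoc]

/-- the categorical induction step -/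
theorem step_core {S₀ S₁ : ShortComplex (ModuleCat.{u} A)} (h₀ : S₀.ShortExact)
    (h₁ : S₁.ShortExact) (φ : S₁ ⟶ S₀) {N' N K' : ModuleCat.{u} A} (ι : N' ⟶ N)
    (j : S₁.X₁ ⟶ K') (κ : K' ⟶ S₀.X₁) (hj : j ≫ κ = φ.τ₁) (q : ℕ)
    (hvan : ∀ g : (singleFunctor (ModuleCat.{u} A) 0).obj S₀.X₂ ⟶
      ((singleFunctor (ModuleCat.{u} A) 0).obj N)⟦((q + 1 : ℕ) : ℤ)⟧, g = 0)
    (hIH : ∀ eK : (singleFunctor (ModuleCat.{u} A) 0).obj S₀.X₁ ⟶
        ((singleFunctor (ModuleCat.{u} A) 0).obj N)⟦(q : ℤ)⟧,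
      ∃ eK' : (singleFunctor (ModuleCat.{u} A) 0).obj K' ⟶
          ((singleFunctor (ModuleCat.{u} A) 0).obj N')⟦(q : ℤ)⟧,
        eK' ≫ ((singleFunctor (ModuleCat.{u} A) 0).map ι)⟦(q : ℤ)⟧' =
          (singleFunctor (ModuleCat.{u} A) 0).map κ ≫ eK)
    (e : (singleFunctor (ModuleCat.{u} A) 0).obj S₀.X₃ ⟶
      ((singleFunctor (ModuleCat.{u} A) 0).obj N)⟦((q + 1 : ℕ) : ℤ)⟧) :
    ∃ e' : (singleFunctor (ModuleCat.{u} A) 0).obj S₁.X₃ ⟶
        ((singleFunctor (ModuleCat.{u} A) 0).obj N')⟦((q + 1 : ℕ) : ℤ)⟧,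
      e' ≫ ((singleFunctor (ModuleCat.{u} A) 0).map ι)⟦((q + 1 : ℕ) : ℤ)⟧' =
        (singleFunctor (ModuleCat.{u} A) 0).map φ.τ₃ ≫ e := by
  have hT := h₀.singleTriangle_distinguished
  obtain ⟨ψ, hψ⟩ := Triangle.yoneda_exact₃ _ hT e (hvan _)
  obtain ⟨sA, hsA⟩ : ∃ sA : shiftFunctor (DerivedCategory (ModuleCat.{u} A)) ((q + 1 : ℕ) : ℤ) ≅
      shiftFunctor (DerivedCategory (ModuleCat.{u} A)) (q : ℤ) ⋙
        shiftFunctor (DerivedCategory (ModuleCat.{u} A)) (1 : ℤ), True :=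
    ⟨shiftFunctorAdd' (DerivedCategory (ModuleCat.{u} A)) (q : ℤ) 1 ((q + 1 : ℕ) : ℤ)
      (by push_cast; ring), trivial⟩
  obtain ⟨eK, heK⟩ : ∃ eK : (singleFunctor (ModuleCat.{u} A) 0).obj S₀.X₁ ⟶
      ((singleFunctor (ModuleCat.{u} A) 0).obj N)⟦(q : ℤ)⟧,
      eK⟦(1 : ℤ)⟧' = ψ ≫ sA.hom.app ((singleFunctor (ModuleCat.{u} A) 0).obj N) :=
    ⟨(shiftFunctor (DerivedCategory (ModuleCat.{u} A)) (1 : ℤ)).preimage
      (ψ ≫ sA.hom.app ((singleFunctor (ModuleCat.{u} A) 0).obj N)), Functor.map_preimage _ _⟩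
  obtain ⟨eK', heK'⟩ := hIH eK
  have hnat : sA.inv.app ((singleFunctor (ModuleCat.{u} A) 0).obj N') ≫
      ((singleFunctor (ModuleCat.{u} A) 0).map ι)⟦((q + 1 : ℕ) : ℤ)⟧' =
      (((singleFunctor (ModuleCat.{u} A) 0).map ι)⟦(q : ℤ)⟧')⟦(1 : ℤ)⟧' ≫
        sA.inv.app ((singleFunctor (ModuleCat.{u} A) 0).obj N) :=
    (sA.inv.naturality ((singleFunctor (ModuleCat.{u} A) 0).map ι)).symm
  have hδ : h₁.singleδ ≫ ((singleFunctor (ModuleCat.{u} A) 0).map φ.τ₁)⟦(1 : ℤ)⟧' =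
      (singleFunctor (ModuleCat.{u} A) 0).map φ.τ₃ ≫ h₀.singleδ :=
    (ShortComplex.ShortExact.singleTriangle.map h₁ h₀ φ).comm₃
  have hψ' : e = h₀.singleδ ≫ ψ := hψ
  have h1 : ((singleFunctor (ModuleCat.{u} A) 0).map j ≫ eK')⟦(1 : ℤ)⟧' ≫
      (((singleFunctor (ModuleCat.{u} A) 0).map ι)⟦(q : ℤ)⟧')⟦(1 : ℤ)⟧' =
      ((singleFunctor (ModuleCat.{u} A) 0).map φ.τ₁)⟦(1 : ℤ)⟧' ≫ eK⟦(1 : ℤ)⟧' := by
    rw [← Functor.map_comp, ← Functor.map_comp, Category.assoc, heK', ← Category.assoc,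
      ← Functor.map_comp, hj]
  refine ⟨h₁.singleδ ≫ ((singleFunctor (ModuleCat.{u} A) 0).map j ≫ eK')⟦(1 : ℤ)⟧' ≫
    sA.inv.app ((singleFunctor (ModuleCat.{u} A) 0).obj N'), ?_⟩
  exact chain_aux h₁.singleδ h₀.singleδ ((singleFunctor (ModuleCat.{u} A) 0).map φ.τ₃)
    (((singleFunctor (ModuleCat.{u} A) 0).map φ.τ₁)⟦(1 : ℤ)⟧') hδ ψ e hψ'
    (((singleFunctor (ModuleCat.{u} A) 0).map ι)⟦((q + 1 : ℕ) : ℤ)⟧')
    ((((singleFunctor (ModuleCat.{u} A) 0).map ι)⟦(q : ℤ)⟧')⟦(1 : ℤ)⟧')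
    (sA.hom.app ((singleFunctor (ModuleCat.{u} A) 0).obj N))
    (sA.inv.app ((singleFunctor (ModuleCat.{u} A) 0).obj N))
    (Iso.hom_inv_id_app sA _)
    (sA.inv.app ((singleFunctor (ModuleCat.{u} A) 0).obj N')) hnat
    (((singleFunctor (ModuleCat.{u} A) 0).map j ≫ eK')⟦(1 : ℤ)⟧') (eK⟦(1 : ℤ)⟧') heK h1

section Main

variable [IsNoetherianRing A] (I : Ideal A) (N : Type u) [AddCommGroup N] [Module A N]

/-- the inductive statement -/
def R (q : ℕ) : Prop :=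
  ∀ (M : Type u) [AddCommGroup M] [Module A M] [Module.Finite A M],
    ∃ c : ℕ, ∀ n m : ℕ, m + c ≤ n →
      ∀ e : Dual.inD A M ⟶ (Dual.inD A N)⟦(q : ℤ)⟧,
        ∃ e' : Dual.inD A ↥(I ^ n • ⊤ : Submodule A M) ⟶
            (Dual.inD A ↥(I ^ m • ⊤ : Submodule A N))⟦(q : ℤ)⟧,
          e' ≫ ((singleFunctor (ModuleCat.{u} A) 0).map
              (ModuleCat.ofHom (I ^ m • ⊤ : Submodule A N).subtype))⟦(q : ℤ)⟧' =
            (singleFunctor (ModuleCat.{u} A) 0).map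
              (ModuleCat.ofHom (I ^ n • ⊤ : Submodule A M).subtype) ≫ e

lemma map_mem_pow_smul {M M' : Type u} [AddCommGroup M] [Module A M] [AddCommGroup M']
    [Module A M'] (ψ : M →ₗ[A] M') (n m : ℕ) (hmn : m ≤ n) (x : M)
    (hx : x ∈ (I ^ n • ⊤ : Submodule A M)) : ψ x ∈ (I ^ m • ⊤ : Submodule A M') := by
  have h1 : (I ^ n • ⊤ : Submodule A M).map ψ ≤ I ^ m • ⊤ := by
    rw [Submodule.map_smul'']
    exact Submodule.smul_mono (Ideal.pow_le_pow_right hmn) le_top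
  exact h1 ⟨x, hx, rfl⟩

theorem R_zero : R I N 0 := by
  intro M _ _ _
  refine ⟨0, fun n m hnm e => ?_⟩
  obtain ⟨sZ, -⟩ : ∃ sZ : shiftFunctor (DerivedCategory (ModuleCat.{u} A)) ((0 : ℕ) : ℤ) ≅
      𝟭 (DerivedCategory (ModuleCat.{u} A)), True :=
    ⟨shiftFunctorZero' (DerivedCategory (ModuleCat.{u} A)) ((0 : ℕ) : ℤ) (by simp), trivial⟩
  obtain ⟨ψ, hψ⟩ := (singleFunctor (ModuleCat.{u} A) 0).map_surjective
    (e ≫ sZ.hom.app (Dual.inD A N))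
  let ψn : ↥(I ^ n • ⊤ : Submodule A M) →ₗ[A] ↥(I ^ m • ⊤ : Submodule A N) :=
    (ψ.hom.domRestrict (I ^ n • ⊤ : Submodule A M)).codRestrict (I ^ m • ⊤ : Submodule A N)
      (fun x => map_mem_pow_smul I ψ.hom n m (by omega) x.1 x.2)
  have hcomm : ModuleCat.ofHom ψn ≫ ModuleCat.ofHom (I ^ m • ⊤ : Submodule A N).subtype =
      ModuleCat.ofHom (I ^ n • ⊤ : Submodule A M).subtype ≫ ψ := rfl
  refine ⟨(singleFunctor (ModuleCat.{u} A) 0).map (ModuleCat.ofHom ψn) ≫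
    sZ.inv.app (Dual.inD A ↥(I ^ m • ⊤ : Submodule A N)), ?_⟩
  have hnat : sZ.inv.app (Dual.inD A ↥(I ^ m • ⊤ : Submodule A N)) ≫
      ((singleFunctor (ModuleCat.{u} A) 0).map
        (ModuleCat.ofHom (I ^ m • ⊤ : Submodule A N).subtype))⟦((0 : ℕ) : ℤ)⟧' =
      (singleFunctor (ModuleCat.{u} A) 0).map
        (ModuleCat.ofHom (I ^ m • ⊤ : Submodule A N).subtype) ≫ sZ.inv.app (Dual.inD A N) :=
    (sZ.inv.naturality _).symm
  rw [Category.assoc, hnat, ← Category.assoc, ← Functor.map_comp, hcomm, Functor.map_comp, hψ,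
    Category.assoc, Category.assoc, Iso.hom_inv_id_app, Category.comp_id]

section Step

variable {M : Type u} [AddCommGroup M] [Module A M] {F : Type u} [AddCommGroup F] [Module A F]
  (π : F →ₗ[A] M)

/-- `K ∩ I^n F` -/
def Kn (n : ℕ) : Submodule A F := (I ^ n • ⊤ : Submodule A F) ⊓ LinearMap.ker π

/-- `I^n F → I^n M` -/
def gn (n : ℕ) : ↥(I ^ n • ⊤ : Submodule A F) →ₗ[A] ↥(I ^ n • ⊤ : Submodule A M) :=
  π.restrict (fun x hx => map_mem_pow_smul I π n n le_rfl x hx)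

/-- `K ∩ I^n F → I^n F` -/
def fn (n : ℕ) : ↥(Kn I π n) →ₗ[A] ↥(I ^ n • ⊤ : Submodule A F) :=
  Submodule.inclusion inf_le_left

lemma gn_fn (n : ℕ) : gn I π n ∘ₗ fn I π n = 0 := by
  refine LinearMap.ext fun x => Subtype.ext ?_
  exact LinearMap.mem_ker.mp x.2.2

lemma gn_surjective (hπ : Function.Surjective π) (n : ℕ) : Function.Surjective (gn I π n) := by
  rintro ⟨y, hy⟩
  have h1 : (I ^ n • ⊤ : Submodule A M) = (I ^ n • ⊤ : Submodule A F).map π := by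
    rw [Submodule.map_smul'', Submodule.map_top, LinearMap.range_eq_top.mpr hπ]
  rw [h1] at hy
  obtain ⟨x, hx, rfl⟩ := hy
  exact ⟨⟨x, hx⟩, Subtype.ext rfl⟩

lemma exact_fn_gn (n : ℕ) : Function.Exact (fn I π n) (gn I π n) := by
  intro x
  constructor
  · intro hx
    have h0 : π x.1 = 0 := congrArg Subtype.val hx
    exact ⟨⟨x.1, x.2, LinearMap.mem_ker.mpr h0⟩, Subtype.ext rfl⟩
  · rintro ⟨k, rfl⟩
    exact Subtype.ext (LinearMap.mem_ker.mp k.2.2)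

/-- the SES `0 → K → F → M → 0` -/
noncomputable def S0 : ShortComplex (ModuleCat.{u} A) :=
  sc (LinearMap.ker π).subtype π (LinearMap.ext fun x => LinearMap.mem_ker.mp x.2)

lemma S0_shortExact (hπ : Function.Surjective π) : (S0 π).ShortExact :=
  sc_shortExact _ _ _ (Submodule.injective_subtype _) hπ (LinearMap.exact_subtype_ker_map π)

/-- the SES `0 → K ∩ I^n F → I^n F → I^n M → 0` -/
noncomputable def S1 (n : ℕ) : ShortComplex (ModuleCat.{u} A) :=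
  sc (fn I π n) (gn I π n) (gn_fn I π n)

lemma S1_shortExact (hπ : Function.Surjective π) (n : ℕ) : (S1 I π n).ShortExact :=
  sc_shortExact _ _ _ (Submodule.inclusion_injective _) (gn_surjective I π hπ n)
    (exact_fn_gn I π n)

/-- the inclusion of SES's -/
noncomputable def φ (n : ℕ) : S1 I π n ⟶ S0 π where
  τ₁ := ModuleCat.ofHom (Submodule.inclusion (inf_le_right : Kn I π n ≤ LinearMap.ker π))
  τ₂ := ModuleCat.ofHom (I ^ n • ⊤ : Submodule A F).subtype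
  τ₃ := ModuleCat.ofHom (I ^ n • ⊤ : Submodule A M).subtype
  comm₁₂ := ModuleCat.hom_ext (LinearMap.ext fun _ => rfl)
  comm₂₃ := ModuleCat.hom_ext (LinearMap.ext fun _ => rfl)

lemma mem_AR (c₀ : ℕ) (hc₀ : ∀ n ≥ c₀, (I ^ n • ⊤ ⊓ LinearMap.ker π : Submodule A F) =
      I ^ (n - c₀) • (I ^ c₀ • ⊤ ⊓ LinearMap.ker π)) (n : ℕ) (hn : c₀ ≤ n) (x : ↥(Kn I π n)) :
    Submodule.inclusion (inf_le_right : Kn I π n ≤ LinearMap.ker π) x ∈
      (I ^ (n - c₀) • ⊤ : Submodule A ↥(LinearMap.ker π)) := by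
  have h1 : x.1 ∈ (I ^ n • ⊤ ⊓ LinearMap.ker π : Submodule A F) := x.2
  rw [hc₀ n hn] at h1
  have h2 : (I ^ (n - c₀) • (I ^ c₀ • ⊤ ⊓ LinearMap.ker π) : Submodule A F) ≤
      (I ^ (n - c₀) • ⊤ : Submodule A ↥(LinearMap.ker π)).map (LinearMap.ker π).subtype := by
    rw [Submodule.map_smul'', Submodule.map_subtype_top]
    exact Submodule.smul_mono le_rfl inf_le_right
  obtain ⟨y, hy, hyx⟩ := h2 h1
  have : Submodule.inclusion (inf_le_right : Kn I π n ≤ LinearMap.ker π) x = y :=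
    Subtype.ext hyx.symm
  rw [this]
  exact hy

/-- the Artin–Rees map `K ∩ I^n F → I^{n-c₀} K` -/
noncomputable def jl (c₀ : ℕ) (hc₀ : ∀ n ≥ c₀, (I ^ n • ⊤ ⊓ LinearMap.ker π : Submodule A F) =
      I ^ (n - c₀) • (I ^ c₀ • ⊤ ⊓ LinearMap.ker π)) (n : ℕ) (hn : c₀ ≤ n) :
    ↥(Kn I π n) →ₗ[A] ↥(I ^ (n - c₀) • ⊤ : Submodule A ↥(LinearMap.ker π)) :=
  (Submodule.inclusion (inf_le_right : Kn I π n ≤ LinearMap.ker π)).codRestrict _
    (mem_AR I π c₀ hc₀ n hn)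

lemma jl_comp (c₀ : ℕ) (hc₀ : ∀ n ≥ c₀, (I ^ n • ⊤ ⊓ LinearMap.ker π : Submodule A F) =
      I ^ (n - c₀) • (I ^ c₀ • ⊤ ⊓ LinearMap.ker π)) (n : ℕ) (hn : c₀ ≤ n) :
    ModuleCat.ofHom (jl I π c₀ hc₀ n hn) ≫
      ModuleCat.ofHom (I ^ (n - c₀) • ⊤ : Submodule A ↥(LinearMap.ker π)).subtype =
      (φ I π n).τ₁ :=
  ModuleCat.hom_ext (LinearMap.ext fun _ => rfl)

end Step

theorem R_succ (q : ℕ) (ih : R I N q) : R I N (q + 1) := by
  intro M _ _ _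
  obtain ⟨r, π, hπ⟩ := Module.Finite.exists_fin' A M
  obtain ⟨c₀, hc₀⟩ := Ideal.exists_pow_inf_eq_pow_smul I (LinearMap.ker π)
  obtain ⟨cK, hcK⟩ := ih ↥(LinearMap.ker π)
  refine ⟨c₀ + cK, fun n m hnm e => ?_⟩
  have hn : c₀ ≤ n := by omega
  haveI : Projective (ModuleCat.of A (Fin r → A)) :=
    (IsProjective.iff_projective (Fin r → A)).mp inferInstance
  have hvan : ∀ g : (singleFunctor (ModuleCat.{u} A) 0).obj (S0 π).X₂ ⟶
      ((singleFunctor (ModuleCat.{u} A) 0).obj (ModuleCat.of A N))⟦((q + 1 : ℕ) : ℤ)⟧, g = 0 :=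
    fun g => hom_proj_eq_zero (ModuleCat.of A (Fin r → A)) (ModuleCat.of A N) q g
  have hIH : ∀ eK : (singleFunctor (ModuleCat.{u} A) 0).obj (S0 π).X₁ ⟶
        ((singleFunctor (ModuleCat.{u} A) 0).obj (ModuleCat.of A N))⟦(q : ℤ)⟧,
      ∃ eK' : (singleFunctor (ModuleCat.{u} A) 0).obj
          (ModuleCat.of A ↥(I ^ (n - c₀) • ⊤ : Submodule A ↥(LinearMap.ker π))) ⟶
          ((singleFunctor (ModuleCat.{u} A) 0).obj
            (ModuleCat.of A ↥(I ^ m • ⊤ : Submodule A N)))⟦(q : ℤ)⟧,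
        eK' ≫ ((singleFunctor (ModuleCat.{u} A) 0).map
          (ModuleCat.ofHom (I ^ m • ⊤ : Submodule A N).subtype))⟦(q : ℤ)⟧' =
          (singleFunctor (ModuleCat.{u} A) 0).map
            (ModuleCat.ofHom (I ^ (n - c₀) • ⊤ : Submodule A ↥(LinearMap.ker π)).subtype) ≫ eK :=
    fun eK => hcK (n - c₀) m (by omega) eK
  have key := step_core (S₀ := S0 π) (S₁ := S1 I π n) (S0_shortExact π hπ)
    (S1_shortExact I π hπ n) (φ I π n)
    (N' := ModuleCat.of A ↥(I ^ m • ⊤ : Submodule A N)) (N := ModuleCat.of A N)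
    (K' := ModuleCat.of A ↥(I ^ (n - c₀) • ⊤ : Submodule A ↥(LinearMap.ker π)))
    (ModuleCat.ofHom (I ^ m • ⊤ : Submodule A N).subtype)
    (ModuleCat.ofHom (jl I π c₀ hc₀ n hn))
    (ModuleCat.ofHom (I ^ (n - c₀) • ⊤ : Submodule A ↥(LinearMap.ker π)).subtype)
    (jl_comp I π c₀ hc₀ n hn) q hvan hIH e
  exact key

theorem R_all (q : ℕ) : R I N q := by
  induction q with
  | zero => exact R_zero I N
  | succ q ih => exact R_succ I N q ih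

end Main

end Groth.Agent.Helper6.ExtAR
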