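import Mathlib
import Groth.Prelude.Def_ExtPow2
import Groth.Agent.Helper6.PnCohA

set_option autoImplicit false
set_option linter.style.haveILetI false
set_option linter.unusedSectionVars false
set_option linter.unusedVariables false
set_option linter.unusedSimpArgs false

/-!
# The first exterior power of a module is the module itself; a vanishing lemma for `H⁰` of a cokernel
-/

namespace Groth.Agent.Helper6.ExtOne

open CategoryTheory CategoryTheory.Limits AlgebraicGeometry Opposite TopologicalSpace
open Groth.Agent.Helper1.HHLes

universe u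

variable {X : Scheme.{u}}

/-- `E` is a first exterior power of itself -/
theorem isExtPow_one (E : X.Modules) : ExtPow.IsExtPow 1 E E := by
  refine ⟨fun U => (exteriorPower.oneEquiv Γ(X, U.1) (E.val.obj (op U.1))).symm, ?_⟩
  intro U V h e
  simp only [LinearEquiv.symm_symm]
  rw [exteriorPower.oneEquiv_ιMulti, exteriorPower.oneEquiv_ιMulti]

variable (A : Type u) [CommRing A] [X.Over (Spec (CommRingCat.of A))]

include A in
/-- `H⁰` of the last term of a short exact sequence vanishes when `H⁰` of the middle term and
`H¹` of the first term do -/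
theorem subsingleton_H0_X₃ (S : ShortComplex X.Modules) (hS : S.ShortExact)
    (h2 : Subsingleton (Coh.HH X S.X₂ 0)) (h1 : Subsingleton (Coh.HH X S.X₁ 1)) :
    Subsingleton (Coh.HH X S.X₃ 0) := by
  refine ⟨fun x y => ?_⟩
  have h : ∀ z : Coh.HH X S.X₃ 0, z = 0 := by
    intro z
    obtain ⟨w, rfl⟩ := (exact_g_δ A S hS 0 z).1 (Subsingleton.elim _ _)
    rw [Subsingleton.elim w 0, map_zero]
  rw [h x, h y]

end Groth.Agent.Helper6.ExtOne
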