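import Mathlib
import Groth.Prelude.Def_DRing4
import Groth.Agent.Helper6.RelPerfBC

/-!
# Lifting complexes along `R → R/I`: module level lemmas
-/

set_option autoImplicit false
set_option linter.style.haveILetI false
set_option linter.unusedSectionVars false

universe u
open CategoryTheory TensorProduct

namespace Groth.Agent.Helper6.LiftCx

variable {R : Type u} [CommRing R] (I : Ideal R)

lemma one_tmul_surjective (X : Type u) [AddCommGroup X] [Module R X] (t : (R ⧸ I) ⊗[R] X) :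
    ∃ x : X, (1 : R ⧸ I) ⊗ₜ[R] x = t :=
  TensorProduct.mk_surjective R X (R ⧸ I) Ideal.Quotient.mk_surjective t

lemma mem_smul_top_of_one_tmul (X : Type u) [AddCommGroup X] [Module R X] (x : X)
    (h : (1 : R ⧸ I) ⊗ₜ[R] x = 0) : x ∈ I • (⊤ : Submodule R X) := by
  have h1 := Groth.Agent.Helper6.RelPerfBC.mem_smul_top_of_one_tmul_eq_zero
    (A := R) (B := R ⧸ I) Ideal.Quotient.mk_surjective X x h
  have hk : RingHom.ker (algebraMap R (R ⧸ I)) = I := by
    rw [Ideal.Quotient.algebraMap_eq]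
    exact Ideal.mk_ker
  rw [hk] at h1
  exact h1

lemma subsingleton_tensor (X : Type u) [AddCommGroup X] [Module R X] [Subsingleton X] :
    Subsingleton ((R ⧸ I) ⊗[R] X) := by
  refine ⟨fun a b => ?_⟩
  have h : ∀ t : (R ⧸ I) ⊗[R] X, t = 0 := fun t => by
    induction t using TensorProduct.induction_on with
    | zero => rfl
    | tmul s x => rw [Subsingleton.elim x 0, TensorProduct.tmul_zero]
    | add a b ha hb => rw [ha, hb, add_zero]
  rw [h a, h b]

/-- lifting linear maps from a projective module -/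
theorem exists_lTensor_eq {X Y : Type u} [AddCommGroup X] [Module R X] [AddCommGroup Y]
    [Module R Y] [Module.Projective R X]
    (w : (R ⧸ I) ⊗[R] X →ₗ[R ⧸ I] (R ⧸ I) ⊗[R] Y) :
    ∃ v : X →ₗ[R] Y, ∀ t, (v.lTensor (R ⧸ I)) t = w t := by
  let π : Y →ₗ[R] (R ⧸ I) ⊗[R] Y := TensorProduct.mk R (R ⧸ I) Y 1
  have hπ : Function.Surjective π :=
    TensorProduct.mk_surjective R Y (R ⧸ I) Ideal.Quotient.mk_surjective
  let w₀ : X →ₗ[R] (R ⧸ I) ⊗[R] Y :=
    (w.restrictScalars R) ∘ₗ (TensorProduct.mk R (R ⧸ I) X 1)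
  obtain ⟨v, hv⟩ := Module.projective_lifting_property π w₀ hπ
  refine ⟨v, fun t => ?_⟩
  induction t using TensorProduct.induction_on with
  | zero => rw [map_zero, map_zero]
  | tmul s x =>
    have h1 : (1 : R ⧸ I) ⊗ₜ[R] v x = w ((1 : R ⧸ I) ⊗ₜ[R] x) := LinearMap.congr_fun hv x
    rw [LinearMap.lTensor_tmul]
    have h2 : s ⊗ₜ[R] v x = s • ((1 : R ⧸ I) ⊗ₜ[R] v x) := by
      rw [TensorProduct.smul_tmul', smul_eq_mul, mul_one]
    have h3 : s ⊗ₜ[R] x = s • ((1 : R ⧸ I) ⊗ₜ[R] x) := by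
      rw [TensorProduct.smul_tmul', smul_eq_mul, mul_one]
    rw [h2, h1, h3, map_smul]
  | add a b ha hb => rw [map_add, map_add, ha, hb]

/-- base change of the kernel of a split surjection -/
theorem exists_kerEquiv {X Y : Type u} [AddCommGroup X] [Module R X] [AddCommGroup Y]
    [Module R Y] [Module.Projective R Y] (f : X →ₗ[R] Y) (hf : Function.Surjective f)
    {M N : Type u} [AddCommGroup M] [Module (R ⧸ I) M] [AddCommGroup N] [Module (R ⧸ I) N]
    (ε : (R ⧸ I) ⊗[R] X ≃ₗ[R ⧸ I] M) (g : M →ₗ[R ⧸ I] N)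
    (hker : ∀ t, g (ε t) = 0 ↔ (f.lTensor (R ⧸ I)) t = 0) :
    ∃ Θ : (R ⧸ I) ⊗[R] (LinearMap.ker f) ≃ₗ[R ⧸ I] LinearMap.ker g,
      ∀ t, ((Θ t : LinearMap.ker g) : M) =
        ε (((LinearMap.ker f).subtype.lTensor (R ⧸ I)) t) := by
  obtain ⟨σ, hσ⟩ := Module.projective_lifting_property f LinearMap.id hf
  have hfσ : ∀ y, f (σ y) = y := fun y => LinearMap.congr_fun hσ y
  let ρ : X →ₗ[R] LinearMap.ker f :=
    LinearMap.codRestrict (LinearMap.ker f) (LinearMap.id - σ ∘ₗ f) (fun x => by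
      rw [LinearMap.mem_ker, LinearMap.sub_apply, map_sub, LinearMap.id_apply,
        LinearMap.comp_apply, hfσ, sub_self])
  have hρι : ρ ∘ₗ (LinearMap.ker f).subtype = LinearMap.id := by
    apply LinearMap.ext
    intro k
    apply Subtype.ext
    show (k : X) - σ (f (k : X)) = k
    rw [LinearMap.mem_ker.mp k.2, map_zero, sub_zero]
  have hinj : Function.Injective ((LinearMap.ker f).subtype.lTensor (R ⧸ I)) := by
    apply Function.LeftInverse.injective (g := ρ.lTensor (R ⧸ I))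
    intro t
    rw [← LinearMap.comp_apply, ← LinearMap.lTensor_comp, hρι, LinearMap.lTensor_id,
      LinearMap.id_apply]
  have hex : Function.Exact ((LinearMap.ker f).subtype.lTensor (R ⧸ I))
      (f.lTensor (R ⧸ I)) :=
    lTensor_exact (R ⧸ I) (LinearMap.exact_subtype_ker_map f) hf
  let Θ₀ : (R ⧸ I) ⊗[R] (LinearMap.ker f) →ₗ[R ⧸ I] M :=
    ε.toLinearMap ∘ₗ ((LinearMap.ker f).subtype.baseChange (R ⧸ I))
  have hΘ₀ : ∀ t, Θ₀ t = ε (((LinearMap.ker f).subtype.lTensor (R ⧸ I)) t) := fun t => rfl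
  have hmem : ∀ t, Θ₀ t ∈ LinearMap.ker g := fun t => by
    rw [LinearMap.mem_ker, hΘ₀, hker]
    exact (hex _).mpr ⟨t, rfl⟩
  let Θ₁ : (R ⧸ I) ⊗[R] (LinearMap.ker f) →ₗ[R ⧸ I] LinearMap.ker g :=
    Θ₀.codRestrict _ hmem
  have hbij : Function.Bijective Θ₁ := by
    constructor
    · intro t t' h
      have h' : Θ₀ t = Θ₀ t' := congrArg Subtype.val h
      rw [hΘ₀, hΘ₀] at h'
      exact hinj (ε.injective h')
    · rintro ⟨m, hm⟩
      have h0 : (f.lTensor (R ⧸ I)) (ε.symm m) = 0 := by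
        rw [← hker, LinearEquiv.apply_symm_apply]
        exact LinearMap.mem_ker.mp hm
      obtain ⟨t, ht⟩ := (hex _).mp h0
      refine ⟨t, Subtype.ext ?_⟩
      show Θ₀ t = m
      rw [hΘ₀, ht, LinearEquiv.apply_symm_apply]
  exact ⟨LinearEquiv.ofBijective Θ₁ hbij, fun t => rfl⟩

section Pc

variable (Pc : ObjectProperty (ModuleCat.{u} R))

/-- hypothesis (1): members of the class are projective -/
def H1 : Prop := ∀ X : ModuleCat.{u} R, Pc X → Module.Projective R X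

/-- hypothesis (2): cancellation -/
def H2 : Prop := ∀ X Y : ModuleCat.{u} R, Pc X → Pc (ModuleCat.of R (X × Y)) → Pc Y

/-- hypothesis (3): Nakayama -/
def H3 : Prop := ∀ (X Y : ModuleCat.{u} R) (f : X ⟶ Y), Pc X → Pc Y →
    LinearMap.range f.hom ⊔ I • (⊤ : Submodule R Y) = ⊤ → Function.Surjective f.hom

theorem surjective_of_lTensor (h3 : H3 I Pc) {X Y : ModuleCat.{u} R} (hX : Pc X) (hY : Pc Y)
    (f : X →ₗ[R] Y) (hf : Function.Surjective (f.lTensor (R ⧸ I))) :
    Function.Surjective f := by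
  refine h3 X Y (ModuleCat.ofHom f) hX hY ?_
  rw [eq_top_iff]
  intro y _
  obtain ⟨t, ht⟩ := hf ((1 : R ⧸ I) ⊗ₜ[R] y)
  obtain ⟨x, rfl⟩ := one_tmul_surjective I X t
  rw [LinearMap.lTensor_tmul] at ht
  have h0 : (1 : R ⧸ I) ⊗ₜ[R] (y - f x) = 0 := by
    rw [TensorProduct.tmul_sub, ht, sub_self]
  have h1 := mem_smul_top_of_one_tmul I Y (y - f x) h0
  have hfx : f x ∈ LinearMap.range (ModuleCat.ofHom f).hom := ⟨x, rfl⟩
  have hy : y = f x + (y - f x) := by abel
  rw [hy]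
  exact Submodule.add_mem_sup hfx h1

theorem pc_ker [Pc.IsClosedUnderIsomorphisms] (h1 : H1 Pc) (h2 : H2 Pc) {X Y : ModuleCat.{u} R}
    (hX : Pc X) (hY : Pc Y) (f : X →ₗ[R] Y) (hf : Function.Surjective f) :
    Pc (ModuleCat.of R (LinearMap.ker f)) ∧ Pc (ModuleCat.of R (LinearMap.ker f × Y)) := by
  haveI : Module.Projective R Y := h1 Y hY
  obtain ⟨σ, hσ⟩ := Module.projective_lifting_property f LinearMap.id hf
  have hfσ : ∀ y, f (σ y) = y := fun y => LinearMap.congr_fun hσ y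
  let ρ : X →ₗ[R] LinearMap.ker f :=
    LinearMap.codRestrict (LinearMap.ker f) (LinearMap.id - σ ∘ₗ f) (fun x => by
      rw [LinearMap.mem_ker, LinearMap.sub_apply, map_sub, LinearMap.id_apply,
        LinearMap.comp_apply, hfσ, sub_self])
  let e : X ≃ₗ[R] (LinearMap.ker f × Y) :=
    LinearEquiv.ofLinear (LinearMap.prod ρ f) (LinearMap.coprod (LinearMap.ker f).subtype σ)
      (by
        apply LinearMap.ext
        rintro ⟨k, y⟩
        have hk : f (k : X) = 0 := LinearMap.mem_ker.mp k.2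
        apply Prod.ext
        · apply Subtype.ext
          show ((k : X) + σ y) - σ (f ((k : X) + σ y)) = k
          rw [map_add, hk, zero_add, hfσ]
          abel
        · show f ((k : X) + σ y) = y
          rw [map_add, hk, zero_add, hfσ])
      (by
        apply LinearMap.ext
        intro x
        show ((x - σ (f x)) : X) + σ (f x) = x
        abel)
  have hp1 : Pc (ModuleCat.of R (LinearMap.ker f × Y)) :=
    Pc.prop_of_iso (show X ≅ ModuleCat.of R (LinearMap.ker f × Y) from e.toModuleIso) hX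
  have hp2 : Pc (ModuleCat.of R (Y × LinearMap.ker f)) :=
    Pc.prop_of_iso (show X ≅ ModuleCat.of R (Y × LinearMap.ker f) from
      (e.trans (LinearEquiv.prodComm R _ _)).toModuleIso) hX
  exact ⟨h2 Y (ModuleCat.of R (LinearMap.ker f)) hY hp2, hp1⟩

theorem pc_punit [Pc.IsClosedUnderIsomorphisms] (h2 : H2 Pc) (X₀ : ModuleCat.{u} R)
    (hX₀ : Pc X₀) : Pc (ModuleCat.of R PUnit.{u + 1}) := by
  refine h2 X₀ (ModuleCat.of R PUnit.{u + 1}) hX₀ ?_
  exact Pc.prop_of_iso (show X₀ ≅ ModuleCat.of R (X₀ × PUnit.{u + 1}) from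
    (LinearEquiv.prodUnique (R := R) (M := X₀) (M₂ := PUnit.{u + 1})).symm.toModuleIso) hX₀

/-- the inductive step: lifting the kernel of a surjection -/
theorem step [Pc.IsClosedUnderIsomorphisms] (h1 : H1 Pc) (h2 : H2 Pc) (h3 : H3 I Pc)
    (X K' : ModuleCat.{u} R) (hX : Pc X) (hK' : Pc K')
    {M N : Type u} [AddCommGroup M] [Module (R ⧸ I) M] [AddCommGroup N] [Module (R ⧸ I) N]
    (ε : (R ⧸ I) ⊗[R] X ≃ₗ[R ⧸ I] M) (θ' : (R ⧸ I) ⊗[R] K' ≃ₗ[R ⧸ I] N)
    (g : M →ₗ[R ⧸ I] N) (hg : Function.Surjective g) :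
    ∃ K : ModuleCat.{u} R, Pc K ∧ Pc (ModuleCat.of R (K × K')) ∧
      Nonempty ((R ⧸ I) ⊗[R] K ≃ₗ[R ⧸ I] LinearMap.ker g) := by
  haveI : Module.Projective R X := h1 X hX
  haveI : Module.Projective R K' := h1 K' hK'
  obtain ⟨f, hf⟩ := exists_lTensor_eq I (X := X) (Y := K')
    (θ'.symm.toLinearMap ∘ₗ g ∘ₗ ε.toLinearMap)
  have hkey : ∀ t, θ' ((f.lTensor (R ⧸ I)) t) = g (ε t) := fun t => by
    rw [hf]
    exact θ'.apply_symm_apply _
  have hfs : Function.Surjective (f.lTensor (R ⧸ I)) := by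
    intro t'
    obtain ⟨m, hm⟩ := hg (θ' t')
    refine ⟨ε.symm m, θ'.injective ?_⟩
    rw [hkey, LinearEquiv.apply_symm_apply, hm]
  have hsurj : Function.Surjective f := surjective_of_lTensor I Pc h3 hX hK' f hfs
  obtain ⟨hpK, hpKK'⟩ := pc_ker Pc h1 h2 hX hK' f hsurj
  obtain ⟨Θ, -⟩ := exists_kerEquiv I f hsurj ε g (fun t => by
    rw [← hkey]
    exact ⟨fun h => θ'.injective (h.trans (map_zero θ').symm), fun h => by rw [h, map_zero]⟩)
  exact ⟨ModuleCat.of R (LinearMap.ker f), hpK, hpKK', ⟨Θ⟩⟩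

end Pc

end Groth.Agent.Helper6.LiftCx
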