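import Mathlib
import Groth.Prelude.Def_DRing4
import Groth.Agent.Helper6.LiftCx1
import Groth.Agent.Helper6.LBCFibre
import Groth.Agent.Helper6.LBCCompute
import Groth.Agent.Helper3.DRingTor1

/-!
# Lifting acyclic complexes along `R → R/I`
-/

set_option autoImplicit false
set_option linter.style.haveILetI false
set_option linter.unusedSectionVars false

universe u
open CategoryTheory TensorProduct

namespace Groth.Agent.Helper6.LiftCx
open Groth.Agent.Helper3.DRingLib Groth.Agent.Helper6.LBCCompute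

variable {R : Type u} [CommRing R] (I : Ideal R)

/-- cycles -/
noncomputable def Zc (E : DRing.Cx (R ⧸ I)) (j : ℤ) : Submodule (R ⧸ I) (E.X j) :=
  LinearMap.ker (E.d j (j + 1)).hom

/-- `d : E^j → Z^{j+1}` -/
noncomputable def gmap (E : DRing.Cx (R ⧸ I)) (j : ℤ) : E.X j →ₗ[R ⧸ I] Zc I E (j + 1) :=
  LinearMap.codRestrict (Zc I E (j + 1)) (E.d j (j + 1)).hom (fun x => by
    show (E.d (j + 1) (j + 1 + 1)).hom ((E.d j (j + 1)).hom x) = 0
    rw [← LinearMap.comp_apply, ← ModuleCat.hom_comp, E.d_comp_d, ModuleCat.hom_zero,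
      LinearMap.zero_apply])

lemma gmap_surjective (E : DRing.Cx (R ⧸ I)) (hEa : E.Acyclic) (j : ℤ) :
    Function.Surjective (gmap I E j) := by
  rintro ⟨z, hz⟩
  obtain ⟨y, hy⟩ := (exactAt_iff_forall E j (j + 1) (j + 1 + 1) rfl rfl).mp (hEa (j + 1)) z hz
  exact ⟨y, Subtype.ext hy⟩

lemma ker_gmap (E : DRing.Cx (R ⧸ I)) (j : ℤ) : LinearMap.ker (gmap I E j) = Zc I E j :=
  LinearMap.ker_codRestrict _ _ _

lemma subsingleton_Zc (E : DRing.Cx (R ⧸ I)) (j : ℤ) (h : Limits.IsZero (E.X j)) :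
    Subsingleton (Zc I E j) := by
  haveI := ModuleCat.subsingleton_of_isZero h
  exact ⟨fun a b => Subtype.ext (Subsingleton.elim _ _)⟩

variable (Pc : ObjectProperty (ModuleCat.{u} R))

/-- a lift of the module of cycles -/
structure CycLift (E : DRing.Cx (R ⧸ I)) (j : ℤ) where
  /-- the module -/
  K : ModuleCat.{u} R
  /-- it is in the class -/
  pc : Pc K
  /-- it lifts the cycles -/
  θ : (R ⧸ I) ⊗[R] K ≃ₗ[R ⧸ I] Zc I E j

theorem cycLift_step [Pc.IsClosedUnderIsomorphisms] (h1 : H1 Pc) (h2 : H2 Pc) (h3 : H3 I Pc)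
    (E : DRing.Cx (R ⧸ I)) (hEa : E.Acyclic)
    (hEt : ∀ i : ℤ, ∃ X : ModuleCat.{u} R, Pc X ∧
      Nonempty ((R ⧸ I) ⊗[R] X ≃ₗ[R ⧸ I] E.X i))
    (j j' : ℤ) (hj : j + 1 = j') (L' : CycLift I Pc E j') :
    ∃ L : CycLift I Pc E j, Pc (ModuleCat.of R (L.K × L'.K)) := by
  subst hj
  obtain ⟨X, hX, ⟨ε⟩⟩ := hEt j
  obtain ⟨K, hK, hKK', ⟨Θ⟩⟩ := step I Pc h1 h2 h3 X L'.K hX L'.pc ε L'.θ (gmap I E j)
    (gmap_surjective I E hEa j)
  exact ⟨⟨K, hK, Θ.trans (LinearEquiv.ofEq _ _ (ker_gmap I E j))⟩, hKK'⟩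

theorem exists_seq [Pc.IsClosedUnderIsomorphisms] (h1 : H1 Pc) (h2 : H2 Pc) (h3 : H3 I Pc)
    (E : DRing.Cx (R ⧸ I)) (b : ℤ) (hEb : DRing.VanishesAbove E b) (hEa : E.Acyclic)
    (hEt : ∀ i : ℤ, ∃ X : ModuleCat.{u} R, Pc X ∧
      Nonempty ((R ⧸ I) ⊗[R] X ≃ₗ[R ⧸ I] E.X i)) :
    ∃ Kn : ℕ → ModuleCat.{u} R, Subsingleton (Kn 0) ∧ (∀ n, Pc (Kn n)) ∧
      (∀ n, Pc (ModuleCat.of R (Kn (n + 1) × Kn n))) ∧
      (∀ n : ℕ, Nonempty ((R ⧸ I) ⊗[R] Kn n ≃ₗ[R ⧸ I] Zc I E (b + 1 - (n : ℤ)))) := by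
  obtain ⟨X₀, hX₀, -⟩ := hEt b
  have hp0 := pc_punit Pc h2 X₀ hX₀
  haveI : Subsingleton (Zc I E (b + 1 - ((0 : ℕ) : ℤ))) :=
    subsingleton_Zc I E _ (hEb _ (by simp))
  haveI : Subsingleton ((R ⧸ I) ⊗[R] (ModuleCat.of R PUnit.{u + 1})) :=
    subsingleton_tensor I PUnit.{u + 1}
  let base : CycLift I Pc E (b + 1 - ((0 : ℕ) : ℤ)) :=
    ⟨ModuleCat.of R PUnit.{u + 1}, hp0, LinearEquiv.ofSubsingleton _ _⟩
  let seq : (n : ℕ) → CycLift I Pc E (b + 1 - (n : ℤ)) := fun n =>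
    Nat.rec (motive := fun n => CycLift I Pc E (b + 1 - (n : ℤ))) base
      (fun n L => Classical.choose (cycLift_step I Pc h1 h2 h3 E hEa hEt
        (b + 1 - ((n + 1 : ℕ) : ℤ)) (b + 1 - (n : ℤ)) (by push_cast; ring) L)) n
  refine ⟨fun n => (seq n).K, ?_, fun n => (seq n).pc, fun n => ?_, fun n => ⟨(seq n).θ⟩⟩
  · show Subsingleton PUnit.{u + 1}
    infer_instance
  · exact Classical.choose_spec (cycLift_step I Pc h1 h2 h3 E hEa hEt
      (b + 1 - ((n + 1 : ℕ) : ℤ)) (b + 1 - (n : ℤ)) (by push_cast; ring) (seq n))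

/-- **Lifting acyclic complexes** -/
theorem exists_acyclic_lift [Pc.IsClosedUnderIsomorphisms] (h1 : H1 Pc) (h2 : H2 Pc)
    (h3 : H3 I Pc) (E : DRing.Cx (R ⧸ I)) (b : ℤ) (hEb : DRing.VanishesAbove E b)
    (hEa : E.Acyclic)
    (hEt : ∀ i : ℤ, ∃ X : ModuleCat.{u} R, Pc X ∧
      Nonempty ((R ⧸ I) ⊗[R] X ≃ₗ[R ⧸ I] E.X i)) :
    ∃ P : DRing.Cx R, DRing.VanishesAbove P b ∧ P.Acyclic ∧ (∀ i : ℤ, Pc (P.X i)) ∧
      Nonempty ((bcCxF (algebraMap R (R ⧸ I))).obj P ≅ E) := by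
  obtain ⟨Kn, hK0, hKpc, hKprod, hKθ⟩ := exists_seq I Pc h1 h2 h3 E b hEb hEa hEt
  let Kz : ℤ → ModuleCat.{u} R := fun j => Kn (b + 1 - j).toNat
  have hKz_big : ∀ j, b < j → Subsingleton (Kz j) := fun j hj => by
    show Subsingleton (Kn (b + 1 - j).toNat)
    have h0 : (b + 1 - j).toNat = 0 := by omega
    rw [h0]
    exact hK0
  have hKzprod : ∀ j, Pc (ModuleCat.of R (Kz j × Kz (j + 1))) := fun j => by
    show Pc (ModuleCat.of R (Kn (b + 1 - j).toNat × Kn (b + 1 - (j + 1)).toNat))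
    by_cases hj : j ≤ b
    · have e1 : (b + 1 - j).toNat = (b + 1 - (j + 1)).toNat + 1 := by omega
      rw [e1]
      exact hKprod _
    · have e0 : (b + 1 - j).toNat = 0 := by omega
      have e1 : (b + 1 - (j + 1)).toNat = 0 := by omega
      rw [e0, e1]
      haveI := hK0
      exact Pc.prop_of_iso (show Kn 0 ≅ ModuleCat.of R (Kn 0 × Kn 0) from
        (LinearEquiv.ofSubsingleton (R := R) (Kn 0) (Kn 0 × Kn 0)).toModuleIso) (hKpc 0)
  have hθz : ∀ j, Nonempty ((R ⧸ I) ⊗[R] Kz j ≃ₗ[R ⧸ I] Zc I E j) := fun j => by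
    by_cases hj : j ≤ b + 1
    · have e1 : b + 1 - ((b + 1 - j).toNat : ℤ) = j := by omega
      have h := hKθ (b + 1 - j).toNat
      rw [e1] at h
      exact h
    · haveI : Subsingleton (Kz j) := hKz_big j (by omega)
      haveI := subsingleton_tensor I (Kz j)
      haveI : Subsingleton (Zc I E j) := subsingleton_Zc I E j (hEb j (by omega))
      exact ⟨LinearEquiv.ofSubsingleton _ _⟩
  have θz : ∀ j, (R ⧸ I) ⊗[R] Kz j ≃ₗ[R ⧸ I] Zc I E j := fun j => (hθz j).some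
  haveI hprojK : ∀ j, Module.Projective R (Kz j) := fun j => h1 _ (hKpc _)
  have hprojZ : ∀ j, Module.Projective (R ⧸ I) (Zc I E j) := fun j =>
    Module.Projective.of_equiv (θz j)
  have hσ : ∀ j, ∃ σ : Zc I E (j + 1) →ₗ[R ⧸ I] E.X j,
      gmap I E j ∘ₗ σ = LinearMap.id := fun j => by
    haveI := hprojZ (j + 1)
    exact Module.projective_lifting_property (gmap I E j) LinearMap.id
      (gmap_surjective I E hEa j)
  choose σ hσ using hσ
  have hgσ : ∀ j w, gmap I E j (σ j w) = w := fun j w => LinearMap.congr_fun (hσ j) w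
  have hΨ : ∀ j, ∃ Ψ : (Zc I E j × Zc I E (j + 1)) ≃ₗ[R ⧸ I] E.X j,
      ∀ z w, Ψ (z, w) = (z : E.X j) + σ j w := fun j => by
    let F : (Zc I E j × Zc I E (j + 1)) →ₗ[R ⧸ I] E.X j :=
      LinearMap.coprod (Zc I E j).subtype (σ j)
    have hgz : ∀ z : Zc I E j, gmap I E j (z : E.X j) = 0 := fun z => by
      apply Subtype.ext
      exact LinearMap.mem_ker.mp z.2
    have hbij : Function.Bijective F := by
      constructor
      · refine (injective_iff_map_eq_zero F).mpr ?_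
        rintro ⟨z, w⟩ h
        have h' : (z : E.X j) + σ j w = 0 := h
        have h2 := congrArg (gmap I E j) h'
        rw [map_add, hgz, hgσ, zero_add, map_zero] at h2
        subst h2
        rw [map_zero, add_zero] at h'
        exact Prod.ext (Subtype.ext h') rfl
      · intro e
        have hmem : e - σ j (gmap I E j e) ∈ Zc I E j := by
          show (E.d j (j + 1)).hom (e - σ j (gmap I E j e)) = 0
          rw [map_sub]
          have h4 : (E.d j (j + 1)).hom (σ j (gmap I E j e)) =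
              ((gmap I E j (σ j (gmap I E j e)) : Zc I E (j + 1)) : E.X (j + 1)) := rfl
          rw [h4, hgσ]
          exact sub_self _
        refine ⟨(⟨_, hmem⟩, gmap I E j e), ?_⟩
        show (e - σ j (gmap I E j e)) + σ j (gmap I E j e) = e
        abel
    exact ⟨LinearEquiv.ofBijective F hbij, fun z w => rfl⟩
  choose Ψ hΨ using hΨ
  let Φ : ∀ j, (R ⧸ I) ⊗[R] (Kz j × Kz (j + 1)) ≃ₗ[R ⧸ I] E.X j := fun j =>
    (TensorProduct.prodRight R (R ⧸ I) (R ⧸ I) (Kz j) (Kz (j + 1))).trans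
      ((LinearEquiv.prodCongr (θz j) (θz (j + 1))).trans (Ψ j))
  have hΦ : ∀ j (s : R ⧸ I) (x : Kz j) (y : Kz (j + 1)),
      Φ j (s ⊗ₜ[R] (x, y)) =
        ((θz j (s ⊗ₜ[R] x) : Zc I E j) : E.X j) + σ j (θz (j + 1) (s ⊗ₜ[R] y)) :=
    fun j s x y => hΨ j _ _
  let dP : ∀ j, (Kz j × Kz (j + 1)) →ₗ[R] (Kz (j + 1) × Kz (j + 1 + 1)) := fun j =>
    (LinearMap.inl R (Kz (j + 1)) (Kz (j + 1 + 1))) ∘ₗ (LinearMap.snd R (Kz j) (Kz (j + 1)))
  let P : DRing.Cx R := CochainComplex.of (fun j => ModuleCat.of R (Kz j × Kz (j + 1)))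
    (fun j => ModuleCat.ofHom (dP j)) (fun j => by
      apply ModuleCat.hom_ext
      apply LinearMap.ext
      rintro ⟨x, y⟩
      rfl)
  have hd : ∀ j, P.d j (j + 1) = ModuleCat.ofHom (dP j) := fun j =>
    CochainComplex.of_d (fun j => ModuleCat.of R (Kz j × Kz (j + 1)))
      (fun j => ModuleCat.ofHom (dP j)) j
  have hPv : DRing.VanishesAbove P b := fun i hi => by
    haveI := hKz_big i hi
    haveI := hKz_big (i + 1) (by omega)
    exact ModuleCat.isZero_of_subsingleton (ModuleCat.of R (Kz i × Kz (i + 1)))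
  have hPa : P.Acyclic := by
    intro j
    obtain ⟨i, rfl⟩ : ∃ i, j = i + 1 := ⟨j - 1, by omega⟩
    rw [exactAt_iff_forall P i (i + 1) (i + 1 + 1) rfl rfl]
    rintro ⟨x, y⟩ hxy
    rw [hd (i + 1)] at hxy
    have hy : y = 0 := congrArg Prod.fst hxy
    refine ⟨((0 : Kz i), x), ?_⟩
    rw [hd i, hy]
    rfl
  have hcomm : ∀ j (t : (R ⧸ I) ⊗[R] (Kz j × Kz (j + 1))),
      Φ (j + 1) (((dP j).lTensor (R ⧸ I)) t) = (E.d j (j + 1)).hom (Φ j t) := fun j t => by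
    induction t using TensorProduct.induction_on with
    | zero => simp only [map_zero]
    | tmul s xy =>
      obtain ⟨x, y⟩ := xy
      rw [LinearMap.lTensor_tmul]
      have h1 : dP j (x, y) = (y, (0 : Kz (j + 1 + 1))) := rfl
      rw [h1, hΦ, hΦ, TensorProduct.tmul_zero, map_zero, map_zero, add_zero, map_add]
      have h2 : (E.d j (j + 1)).hom ((θz j (s ⊗ₜ[R] x) : Zc I E j) : E.X j) = 0 :=
        LinearMap.mem_ker.mp (θz j (s ⊗ₜ[R] x)).2
      have h3 : (E.d j (j + 1)).hom (σ j (θz (j + 1) (s ⊗ₜ[R] y))) =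
          ((θz (j + 1) (s ⊗ₜ[R] y) : Zc I E (j + 1)) : E.X (j + 1)) :=
        congrArg Subtype.val (hgσ j (θz (j + 1) (s ⊗ₜ[R] y)))
      rw [h2, h3, zero_add]
    | add a b ha hb => simp only [map_add, ha, hb]
  refine ⟨P, hPv, hPa, fun i => hKzprod i, ⟨HomologicalComplex.Hom.isoOfComponents
    (fun j => ((extendScalarsEquiv (B := R ⧸ I) (P.X j)).trans (Φ j)).toModuleIso) ?_⟩⟩
  intro i j hij
  obtain rfl : i + 1 = j := hij
  apply ModuleCat.hom_ext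
  apply LinearMap.ext
  intro t
  have n1 := Groth.Agent.Helper6.LBCFibre.extendScalarsEquiv_naturality (R ⧸ I)
    (P.d i (i + 1)) t
  show (E.d i (i + 1)).hom (Φ i (extendScalarsEquiv (B := R ⧸ I) (P.X i) t)) =
    Φ (i + 1) (extendScalarsEquiv (B := R ⧸ I) (P.X (i + 1))
      (((ModuleCat.extendScalars (algebraMap R (R ⧸ I))).map (P.d i (i + 1))).hom t))
  rw [n1, hd i]
  exact (hcomm i _).symm

end Groth.Agent.Helper6.LiftCx
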