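import Mathlib
import Groth.Prelude.Def_DRing4
import Groth.Agent.Helper6.LiftCx2
import Groth.Agent.Helper9.Leray2

/-!
# Lifting complexes along `R → R/I`: chain level tools
-/

set_option autoImplicit false
set_option linter.style.haveILetI false
set_option linter.unusedSectionVars false

universe u
open CategoryTheory CategoryTheory.Limits Pretriangulated TensorProduct
attribute [local instance] HasDerivedCategory.standard

namespace Groth.Agent.Helper6.LiftCx
open Groth.Agent.Helper3.DRingLib Groth.Agent.Helper6.LBCCompute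

section Lift

variable {R : Type u} [CommRing R] (I : Ideal R)

/-- every map between base changes of `X` (projective) and `Y` is a base change -/
theorem exists_map_eq (X Y : ModuleCat.{u} R) [Module.Projective R X]
    (w : (ModuleCat.extendScalars.{u, u, u} (algebraMap R (R ⧸ I))).obj X ⟶
      (ModuleCat.extendScalars.{u, u, u} (algebraMap R (R ⧸ I))).obj Y) :
    ∃ v : X ⟶ Y, (ModuleCat.extendScalars.{u, u, u} (algebraMap R (R ⧸ I))).map v = w := by
  obtain ⟨v₀, hv₀⟩ := exists_lTensor_eq I (X := X) (Y := Y)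
    ((extendScalarsEquiv (B := R ⧸ I) Y).toLinearMap ∘ₗ w.hom ∘ₗ
      (extendScalarsEquiv (B := R ⧸ I) X).symm.toLinearMap)
  refine ⟨ModuleCat.ofHom v₀, ?_⟩
  apply ModuleCat.hom_ext
  apply LinearMap.ext
  intro x
  apply (extendScalarsEquiv (B := R ⧸ I) Y).injective
  have n1 := Groth.Agent.Helper6.LBCFibre.extendScalarsEquiv_naturality (R ⧸ I)
    (ModuleCat.ofHom v₀) x
  refine n1.trans ((hv₀ (extendScalarsEquiv (B := R ⧸ I) X x)).trans ?_)
  show extendScalarsEquiv (B := R ⧸ I) Y (w.hom ((extendScalarsEquiv (B := R ⧸ I) X).symm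
    (extendScalarsEquiv (B := R ⧸ I) X x))) = _
  rw [LinearEquiv.symm_apply_apply]

/-- lifting chain maps out of a complex whose base change is contractible -/
theorem exists_lift_of_contractible (A W : DRing.Cx R)
    (hAp : ∀ i, Module.Projective R (A.X i))
    (hh : Homotopy (𝟙 ((bcCxF (algebraMap R (R ⧸ I))).obj A)) 0)
    (μ : (bcCxF (algebraMap R (R ⧸ I))).obj A ⟶ (bcCxF (algebraMap R (R ⧸ I))).obj W) :
    ∃ ψ₀ : A ⟶ W, (bcCxF (algebraMap R (R ⧸ I))).map ψ₀ = μ := by
  have hex : ∀ i j, ∃ v : A.X i ⟶ W.X j,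
      (ModuleCat.extendScalars.{u, u, u} (algebraMap R (R ⧸ I))).map v =
        hh.hom i j ≫ μ.f j := fun i j => by
    haveI := hAp i
    exact exists_map_eq I (A.X i) (W.X j) (hh.hom i j ≫ μ.f j)
  choose v hv using hex
  have hμ : μ = Homotopy.nullHomotopicMap (fun i j => hh.hom i j ≫ μ.f j) := by
    refine HomologicalComplex.hom_ext _ _ (fun i => ?_)
    have h := (hh.compRight μ).comm i
    simp only [Category.id_comp, Limits.zero_comp, HomologicalComplex.zero_f, add_zero] at h
    exact h
  refine ⟨Homotopy.nullHomotopicMap v, ?_⟩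
  refine (Homotopy.map_nullHomotopicMap
    (ModuleCat.extendScalars.{u, u, u} (algebraMap R (R ⧸ I))) v).trans ?_
  have hfun : (fun i j => (ModuleCat.extendScalars.{u, u, u} (algebraMap R (R ⧸ I))).map
      (v i j)) = fun i j => hh.hom i j ≫ μ.f j := funext fun i => funext fun j => hv i j
  show Homotopy.nullHomotopicMap (fun i j =>
    (ModuleCat.extendScalars.{u, u, u} (algebraMap R (R ⧸ I))).map (v i j)) = μ
  rw [hfun]
  exact hμ.symm

end Lift

section Ker

variable {R : Type u} [CommRing R] {A W : DRing.Cx R} (f : A ⟶ W)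

lemma ker_d_mem (i j : ℤ) (x : A.X i) (hx : x ∈ LinearMap.ker (f.f i).hom) :
    (A.d i j).hom x ∈ LinearMap.ker (f.f j).hom := by
  rw [LinearMap.mem_ker] at hx ⊢
  have h := congrArg (fun g => g.hom x) (f.comm i j)
  have h' : (W.d i j).hom ((f.f i).hom x) = (f.f j).hom ((A.d i j).hom x) := h
  rw [← h', hx, map_zero]

/-- the kernel of a morphism of complexes, concretely -/
noncomputable def kerCx : DRing.Cx R where
  X i := ModuleCat.of R (LinearMap.ker (f.f i).hom)
  d i j := ModuleCat.ofHom (LinearMap.restrict (A.d i j).hom (ker_d_mem f i j))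
  shape i j hij := by
    apply ModuleCat.hom_ext
    apply LinearMap.ext
    intro x
    apply Subtype.ext
    show (A.d i j).hom (x : A.X i) = 0
    rw [A.shape i j hij]
    rfl
  d_comp_d' i j k _ _ := by
    apply ModuleCat.hom_ext
    apply LinearMap.ext
    intro x
    apply Subtype.ext
    show (A.d j k).hom ((A.d i j).hom (x : A.X i)) = 0
    rw [← LinearMap.comp_apply, ← ModuleCat.hom_comp, A.d_comp_d]
    rfl

/-- the inclusion of the kernel -/
noncomputable def kerι : kerCx f ⟶ A where
  f i := ModuleCat.ofHom (LinearMap.ker (f.f i).hom).subtype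
  comm' i j _ := by
    apply ModuleCat.hom_ext
    rfl

lemma kerι_comp : kerι f ≫ f = 0 := by
  ext i x
  exact LinearMap.mem_ker.mp x.2

theorem nonempty_iso_of_acyclic (hf : ∀ i, Function.Surjective (f.f i).hom) (hA : A.Acyclic) :
    Nonempty (DerivedCategory.Q.obj W ≅ (DerivedCategory.Q.obj (kerCx f))⟦(1 : ℤ)⟧) := by
  let S : ShortComplex (DRing.Cx R) := ShortComplex.mk (kerι f) f (kerι_comp f)
  have hS : S.ShortExact := by
    apply HomologicalComplex.shortExact_of_degreewise_shortExact
    intro i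
    apply ModuleCat.shortComplex_shortExact
    · exact LinearMap.exact_subtype_ker_map (f.f i).hom
    · exact Subtype.val_injective
    · exact hf i
  have hT := DerivedCategory.triangleOfSES_distinguished hS
  have hz : IsZero (DerivedCategory.triangleOfSES hS).obj₂ :=
    (Groth.Agent.Helper9.Leray2.isZero_Q_obj_iff A).mpr hA
  have hiso : IsIso (DerivedCategory.triangleOfSES hS).mor₃ :=
    (Triangle.isZero₂_iff_isIso₃ _ hT).mp hz
  exact ⟨@asIso _ _ _ _ (DerivedCategory.triangleOfSES hS).mor₃ hiso⟩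

end Ker

section Cone

open CochainComplex HomComplex

variable {A' : Type u} [CommRing A'] {F G : DRing.Cx A'} (α : F ⟶ G)

lemma cone_fst_inl (i : ℤ) (q : F.X (i + 1)) :
    ((mappingCone.fst α).1.v i (i + 1) rfl).hom
      (((mappingCone.inl α).v (i + 1) i (by omega)).hom q) = q :=
  congrArg (fun g => g.hom q) (mappingCone.inl_v_fst_v α (i + 1) i rfl)

lemma cone_snd_inl (i : ℤ) (q : F.X (i + 1)) :
    ((mappingCone.snd α).v i i (add_zero i)).hom
      (((mappingCone.inl α).v (i + 1) i (by omega)).hom q) = 0 :=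
  congrArg (fun g => g.hom q) (mappingCone.inl_v_snd_v α (i + 1) i (by omega))

lemma cone_fst_inr (i : ℤ) (e : G.X i) :
    ((mappingCone.fst α).1.v i (i + 1) rfl).hom (((mappingCone.inr α).f i).hom e) = 0 :=
  congrArg (fun g => g.hom e) (mappingCone.inr_f_fst_v α i (i + 1) rfl)

lemma cone_snd_inr (i : ℤ) (e : G.X i) :
    ((mappingCone.snd α).v i i (add_zero i)).hom (((mappingCone.inr α).f i).hom e) = e :=
  congrArg (fun g => g.hom e) (mappingCone.inr_f_snd_v α i)

lemma cone_id (i : ℤ) (c : (mappingCone α).X i) :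
    ((mappingCone.inl α).v (i + 1) i (by omega)).hom
        (((mappingCone.fst α).1.v i (i + 1) rfl).hom c) +
      ((mappingCone.inr α).f i).hom (((mappingCone.snd α).v i i (add_zero i)).hom c) = c :=
  congrArg (fun g => g.hom c) (mappingCone.id_X α i (i + 1) rfl)

/-- the terms of the mapping cone -/
noncomputable def coneEquiv (i : ℤ) : (mappingCone α).X i ≃ₗ[A'] (F.X (i + 1) × G.X i) :=
  LinearEquiv.ofBijective
    (LinearMap.prod ((mappingCone.fst α).1.v i (i + 1) rfl).hom
      ((mappingCone.snd α).v i i (add_zero i)).hom)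
    ⟨by
      refine (injective_iff_map_eq_zero _).mpr ?_
      intro c hc
      have h1 : ((mappingCone.fst α).1.v i (i + 1) rfl).hom c = 0 := congrArg Prod.fst hc
      have h2 : ((mappingCone.snd α).v i i (add_zero i)).hom c = 0 := congrArg Prod.snd hc
      rw [← cone_id α i c, h1, h2, map_zero, map_zero, add_zero],
    by
      rintro ⟨q, e⟩
      refine ⟨((mappingCone.inl α).v (i + 1) i (by omega)).hom q +
        ((mappingCone.inr α).f i).hom e, ?_⟩
      apply Prod.ext
      · show ((mappingCone.fst α).1.v i (i + 1) rfl).hom _ = q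
        rw [map_add, cone_fst_inl, cone_fst_inr, add_zero]
      · show ((mappingCone.snd α).v i i (add_zero i)).hom _ = e
        rw [map_add, cone_snd_inl, cone_snd_inr, zero_add]⟩

set_option backward.isDefEq.respectTransparency false in
lemma triangle_mor₃_f (i : ℤ) :
    (mappingCone.triangle α).mor₃.f i =
      -((mappingCone.fst α).1.v i (i + 1) rfl ≫ (F.shiftFunctorObjXIso 1 i (i + 1) rfl).inv) := by
  apply mappingCone.ext_from α (i + 1) i rfl
  · rw [mappingCone.inl_v_triangle_mor₃_f]
    simp
  · rw [mappingCone.inr_f_triangle_mor₃_f]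
    simp

lemma mor₃_apply (i : ℤ) (c : (mappingCone α).X i) :
    ((mappingCone.triangle α).mor₃.f i).hom c =
      -((F.shiftFunctorObjXIso 1 i (i + 1) rfl).inv.hom
        (((mappingCone.fst α).1.v i (i + 1) rfl).hom c)) := by
  rw [triangle_mor₃_f]
  rfl

lemma shiftIso_inv_injective (i : ℤ) (z : F.X (i + 1))
    (h : (F.shiftFunctorObjXIso 1 i (i + 1) rfl).inv.hom z = 0) : z = 0 := by
  have h1 := congrArg (fun g => g.hom z) (F.shiftFunctorObjXIso 1 i (i + 1) rfl).inv_hom_id
  have h2 : (F.shiftFunctorObjXIso 1 i (i + 1) rfl).hom.hom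
      ((F.shiftFunctorObjXIso 1 i (i + 1) rfl).inv.hom z) = z := h1
  rw [h, map_zero] at h2
  exact h2.symm

lemma mor₃_eq_zero_iff (i : ℤ) (c : (mappingCone α).X i) :
    ((mappingCone.triangle α).mor₃.f i).hom c = 0 ↔
      ((mappingCone.fst α).1.v i (i + 1) rfl).hom c = 0 := by
  rw [mor₃_apply]
  constructor
  · intro h
    exact shiftIso_inv_injective i _ (neg_eq_zero.mp h)
  · intro h
    exact neg_eq_zero.mpr ((congrArg (fun z => (F.shiftFunctorObjXIso 1 i (i + 1) rfl).inv.hom z)
      h).trans (map_zero _))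

lemma mor₃_surjective (i : ℤ) :
    Function.Surjective ((mappingCone.triangle α).mor₃.f i).hom := by
  intro y
  refine ⟨((mappingCone.inl α).v (i + 1) i (by omega)).hom
    (-((F.shiftFunctorObjXIso 1 i (i + 1) rfl).hom.hom y)), ?_⟩
  rw [mor₃_apply, cone_fst_inl, map_neg, neg_neg]
  exact congrArg (fun g => g.hom y) (F.shiftFunctorObjXIso 1 i (i + 1) rfl).hom_inv_id

end Cone

end Groth.Agent.Helper6.LiftCx
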