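import Mathlib
import Groth.Prelude.Def_DRing4
import Groth.Agent.Helper6.LiftCx3

/-!
# Lifting complexes along `R → R/I`: the kernel of the lifted projection
-/

set_option autoImplicit false
set_option linter.style.haveILetI false
set_option linter.unusedSectionVars false

universe u
open CategoryTheory CategoryTheory.Limits Pretriangulated TensorProduct
attribute [local instance] HasDerivedCategory.standard

namespace Groth.Agent.Helper6.LiftCx
open Groth.Agent.Helper3.DRingLib Groth.Agent.Helper6.LBCCompute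
open CochainComplex HomComplex

lemma bijective_of_isIso {S : Type u} [Ring S] {X Y : ModuleCat.{u} S} (f : X ⟶ Y) [IsIso f] :
    Function.Bijective f.hom :=
  ConcreteCategory.bijective_of_isIso f

variable {R : Type u} [CommRing R] (I : Ideal R)

lemma bc_proj (X : ModuleCat.{u} R) [Module.Projective R X] :
    Module.Projective (R ⧸ I)
      ((ModuleCat.extendScalars.{u, u, u} (algebraMap R (R ⧸ I))).obj X) :=
  Module.Projective.of_equiv (extendScalarsEquiv (B := R ⧸ I) X).symm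

lemma bc_kproj (A : DRing.Cx R) (c : ℤ) (hAv : DRing.VanishesAbove A c)
    (hAp : ∀ i, Module.Projective R (A.X i)) :
    ((bcCxF (algebraMap R (R ⧸ I))).obj A).IsKProjective := by
  refine isKProjective_of_vanishesAbove _ c (fun i hi =>
    Functor.map_isZero (ModuleCat.extendScalars.{u, u, u} (algebraMap R (R ⧸ I))) (hAv i hi))
    (fun i => ?_)
  haveI := hAp i
  exact bc_proj I (A.X i)

section Main

variable (Q₀ : DRing.Cx R) (E : DRing.Cx (R ⧸ I))
  (α : (bcCxF (algebraMap R (R ⧸ I))).obj Q₀ ⟶ E) (A : DRing.Cx R)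
  (ψ : (bcCxF (algebraMap R (R ⧸ I))).obj A ≅ mappingCone α)
  (ψ₀ : A ⟶ Q₀⟦(1 : ℤ)⟧)
  (sh : ((bcCxF (algebraMap R (R ⧸ I))).obj Q₀)⟦(1 : ℤ)⟧ ⟶
    (bcCxF (algebraMap R (R ⧸ I))).obj (Q₀⟦(1 : ℤ)⟧)) [IsIso sh]
  (hψ₀ : (bcCxF (algebraMap R (R ⧸ I))).map ψ₀ =
    ψ.hom ≫ (mappingCone.triangle α).mor₃ ≫ sh)
  (hψ₀surj : ∀ i, Function.Surjective (ψ₀.f i).hom)
  (hQproj : ∀ i, Module.Projective R (Q₀.X i))

/-- the comparison map to the cone -/
noncomputable def kap : (bcCxF (algebraMap R (R ⧸ I))).obj (kerCx ψ₀) ⟶ mappingCone α :=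
  (bcCxF (algebraMap R (R ⧸ I))).map (kerι ψ₀) ≫ ψ.hom

include hψ₀ in
lemma kap_mor₃ : kap I Q₀ E α A ψ ψ₀ ≫ (mappingCone.triangle α).mor₃ = 0 := by
  have h1 : (kap I Q₀ E α A ψ ψ₀ ≫ (mappingCone.triangle α).mor₃) ≫ sh = 0 := by
    have h2 : (kap I Q₀ E α A ψ ψ₀ ≫ (mappingCone.triangle α).mor₃) ≫ sh =
        (bcCxF (algebraMap R (R ⧸ I))).map (kerι ψ₀) ≫
          (ψ.hom ≫ (mappingCone.triangle α).mor₃ ≫ sh) := by
      unfold kap
      simp only [Category.assoc]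
    rw [h2, ← hψ₀, ← Functor.map_comp, kerι_comp, Functor.map_zero]
  exact (cancel_mono sh).mp (h1.trans zero_comp.symm)

include hψ₀ in
lemma kap_fst (i : ℤ) (x : ((bcCxF (algebraMap R (R ⧸ I))).obj (kerCx ψ₀)).X i) :
    ((mappingCone.fst α).1.v i (i + 1) rfl).hom (((kap I Q₀ E α A ψ ψ₀).f i).hom x) = 0 :=
  (mor₃_eq_zero_iff α i _).mp
    (congrArg (fun g => (g.f i).hom x) (kap_mor₃ I Q₀ E α A ψ ψ₀ sh hψ₀))

include hψ₀ in
/-- the comparison map to `E` -/
noncomputable def chi : (bcCxF (algebraMap R (R ⧸ I))).obj (kerCx ψ₀) ⟶ E where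
  f i := (kap I Q₀ E α A ψ ψ₀).f i ≫ (mappingCone.snd α).v i i (add_zero i)
  comm' i j hij := by
    obtain rfl : i + 1 = j := hij
    apply ModuleCat.hom_ext
    apply LinearMap.ext
    intro x
    show (E.d i (i + 1)).hom (((mappingCone.snd α).v i i (add_zero i)).hom
        (((kap I Q₀ E α A ψ ψ₀).f i).hom x)) =
      ((mappingCone.snd α).v (i + 1) (i + 1) (add_zero (i + 1))).hom
        (((kap I Q₀ E α A ψ ψ₀).f (i + 1)).hom
          ((((bcCxF (algebraMap R (R ⧸ I))).obj (kerCx ψ₀)).d i (i + 1)).hom x))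
    have hk : ((kap I Q₀ E α A ψ ψ₀).f (i + 1)).hom
        ((((bcCxF (algebraMap R (R ⧸ I))).obj (kerCx ψ₀)).d i (i + 1)).hom x) =
        ((mappingCone α).d i (i + 1)).hom (((kap I Q₀ E α A ψ ψ₀).f i).hom x) :=
      (congrArg (fun g => g.hom x) ((kap I Q₀ E α A ψ ψ₀).comm i (i + 1))).symm
    have hds : ((mappingCone.snd α).v (i + 1) (i + 1) (add_zero (i + 1))).hom
        (((mappingCone α).d i (i + 1)).hom (((kap I Q₀ E α A ψ ψ₀).f i).hom x)) =
        (α.f (i + 1)).hom (((mappingCone.fst α).1.v i (i + 1) rfl).hom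
          (((kap I Q₀ E α A ψ ψ₀).f i).hom x)) +
        (E.d i (i + 1)).hom (((mappingCone.snd α).v i i (add_zero i)).hom
          (((kap I Q₀ E α A ψ ψ₀).f i).hom x)) :=
      congrArg (fun g => g.hom (((kap I Q₀ E α A ψ ψ₀).f i).hom x))
        (mappingCone.d_snd_v α i (i + 1) rfl)
    rw [hk, hds, kap_fst I Q₀ E α A ψ ψ₀ sh hψ₀, map_zero, zero_add]

include hψ₀ hψ₀surj hQproj in
lemma chi_bijective (i : ℤ) :
    Function.Bijective ((chi I Q₀ E α A ψ ψ₀ sh hψ₀).f i).hom := by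
  haveI : Module.Projective R ((Q₀⟦(1 : ℤ)⟧).X i) := hQproj (i + 1)
  haveI : IsIso (sh.f i) :=
    inferInstanceAs (IsIso ((HomologicalComplex.eval _ _ i).map sh))
  haveI : IsIso (ψ.hom.f i) :=
    inferInstanceAs (IsIso ((HomologicalComplex.eval _ _ i).map ψ.hom))
  let ψi : ((bcCxF (algebraMap R (R ⧸ I))).obj A).X i ≃ₗ[R ⧸ I] (mappingCone α).X i :=
    LinearEquiv.ofBijective (ψ.hom.f i).hom (bijective_of_isIso (ψ.hom.f i))
  let ε : (R ⧸ I) ⊗[R] (A.X i) ≃ₗ[R ⧸ I] (mappingCone α).X i :=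
    (extendScalarsEquiv (B := R ⧸ I) (A.X i)).symm.trans ψi
  have hε : ∀ t, ε t = (ψ.hom.f i).hom ((extendScalarsEquiv (B := R ⧸ I) (A.X i)).symm t) :=
    fun t => rfl
  have key : ∀ t : (R ⧸ I) ⊗[R] (A.X i), ((ψ₀.f i).hom.lTensor (R ⧸ I)) t =
      extendScalarsEquiv (B := R ⧸ I) ((Q₀⟦(1 : ℤ)⟧).X i)
        ((sh.f i).hom (((mappingCone.triangle α).mor₃.f i).hom (ε t))) := fun t => by
    have n1 := Groth.Agent.Helper6.LBCFibre.extendScalarsEquiv_naturality (R ⧸ I) (ψ₀.f i)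
      ((extendScalarsEquiv (B := R ⧸ I) (A.X i)).symm t)
    rw [LinearEquiv.apply_symm_apply] at n1
    rw [← n1]
    have h2 : ((ModuleCat.extendScalars.{u, u, u} (algebraMap R (R ⧸ I))).map (ψ₀.f i)).hom
        ((extendScalarsEquiv (B := R ⧸ I) (A.X i)).symm t) =
        (sh.f i).hom (((mappingCone.triangle α).mor₃.f i).hom (ε t)) :=
      congrArg (fun g => (g.f i).hom ((extendScalarsEquiv (B := R ⧸ I) (A.X i)).symm t)) hψ₀
    rw [h2]
  obtain ⟨Θ, hΘ⟩ := exists_kerEquiv I (ψ₀.f i).hom (hψ₀surj i) ε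
    ((mappingCone.triangle α).mor₃.f i).hom (fun t => by
      rw [key]
      constructor
      · intro h
        exact (congrArg (fun z => extendScalarsEquiv (B := R ⧸ I) ((Q₀⟦(1 : ℤ)⟧).X i)
          ((sh.f i).hom z)) h).trans
          ((congrArg (extendScalarsEquiv (B := R ⧸ I) ((Q₀⟦(1 : ℤ)⟧).X i))
            (map_zero (sh.f i).hom)).trans (map_zero _))
      · intro h
        have h1 := (extendScalarsEquiv (B := R ⧸ I) ((Q₀⟦(1 : ℤ)⟧).X i)).injective
          (h.trans (map_zero _).symm)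
        exact (bijective_of_isIso (sh.f i)).1 (h1.trans (map_zero _).symm))
  have hκΘ : ∀ x : ((bcCxF (algebraMap R (R ⧸ I))).obj (kerCx ψ₀)).X i,
      ((kap I Q₀ E α A ψ ψ₀).f i).hom x =
        ((Θ (extendScalarsEquiv (B := R ⧸ I) ((kerCx ψ₀).X i) x) :
          LinearMap.ker ((mappingCone.triangle α).mor₃.f i).hom) : (mappingCone α).X i) :=
    fun x => by
    rw [hΘ, hε]
    show (ψ.hom.f i).hom (((ModuleCat.extendScalars.{u, u, u} (algebraMap R (R ⧸ I))).map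
      ((kerι ψ₀).f i)).hom x) = _
    congr 1
    exact (LinearEquiv.eq_symm_apply (extendScalarsEquiv (B := R ⧸ I) (A.X i))).mpr
      (Groth.Agent.Helper6.LBCFibre.extendScalarsEquiv_naturality (R ⧸ I) ((kerι ψ₀).f i) x)
  have hχ : ∀ x, ((chi I Q₀ E α A ψ ψ₀ sh hψ₀).f i).hom x =
      ((mappingCone.snd α).v i i (add_zero i)).hom (((kap I Q₀ E α A ψ ψ₀).f i).hom x) :=
    fun x => rfl
  have hcone : ∀ x, ((kap I Q₀ E α A ψ ψ₀).f i).hom x =
      ((mappingCone.inr α).f i).hom (((chi I Q₀ E α A ψ ψ₀ sh hψ₀).f i).hom x) := fun x => by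
    have h := cone_id α i (((kap I Q₀ E α A ψ ψ₀).f i).hom x)
    rw [kap_fst I Q₀ E α A ψ ψ₀ sh hψ₀, map_zero, zero_add] at h
    rw [hχ]
    exact h.symm
  constructor
  · intro x x' hxx
    have h1 : ((kap I Q₀ E α A ψ ψ₀).f i).hom x = ((kap I Q₀ E α A ψ ψ₀).f i).hom x' := by
      rw [hcone x, hcone x', hxx]
    rw [hκΘ, hκΘ] at h1
    have h2 := Θ.injective (Subtype.ext h1)
    exact (extendScalarsEquiv (B := R ⧸ I) ((kerCx ψ₀).X i)).injective h2
  · intro e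
    have hc : ((mappingCone.inr α).f i).hom e ∈
        LinearMap.ker ((mappingCone.triangle α).mor₃.f i).hom := by
      show ((mappingCone.triangle α).mor₃.f i).hom (((mappingCone.inr α).f i).hom e) = 0
      exact (mor₃_eq_zero_iff α i _).mpr (cone_fst_inr α i e)
    refine ⟨(extendScalarsEquiv (B := R ⧸ I) ((kerCx ψ₀).X i)).symm
      (Θ.symm ⟨_, hc⟩), ?_⟩
    rw [hχ, hκΘ, LinearEquiv.apply_symm_apply, LinearEquiv.apply_symm_apply]
    exact cone_snd_inr α i e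

include hψ₀ hψ₀surj hQproj in
theorem nonempty_bc_ker_iso :
    Nonempty ((bcCxF (algebraMap R (R ⧸ I))).obj (kerCx ψ₀) ≅ E) := by
  haveI : ∀ i, IsIso ((chi I Q₀ E α A ψ ψ₀ sh hψ₀).f i) := fun i =>
    (ConcreteCategory.isIso_iff_bijective _).mpr
      (chi_bijective I Q₀ E α A ψ ψ₀ sh hψ₀ hψ₀surj hQproj i)
  haveI : IsIso (chi I Q₀ E α A ψ ψ₀ sh hψ₀) := HomologicalComplex.Hom.isIso_of_components _
  exact ⟨asIso (chi I Q₀ E α A ψ ψ₀ sh hψ₀)⟩

end Main

end Groth.Agent.Helper6.LiftCx
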