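import Mathlib
import Groth.Prelude.Def_DRing4
import Groth.Agent.Helper6.LiftCx4

/-!
# Lifting complexes along `R → R/I`: main theorem
-/

set_option autoImplicit false
set_option linter.style.haveILetI false
set_option linter.unusedSectionVars false

universe u
open CategoryTheory CategoryTheory.Limits Pretriangulated TensorProduct
attribute [local instance] HasDerivedCategory.standard

namespace Groth.Agent.Helper6.LiftCx
open Groth.Agent.Helper3.DRingLib Groth.Agent.Helper6.LBCCompute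
open CochainComplex HomComplex

variable {R : Type u} [CommRing R] (I : Ideal R) (Pc : ObjectProperty (ModuleCat.{u} R))

/-- hypothesis (2'): closed under products -/
def H2' : Prop := ∀ X Y : ModuleCat.{u} R, Pc X → Pc Y → Pc (ModuleCat.of R (X × Y))

/-- **Lifting complexes** representing `K ⊗ᴸ R/I` to complexes representing `K` -/
theorem exists_lift [Pc.IsClosedUnderIsomorphisms] (h1 : H1 Pc) (h2 : H2 Pc) (h2' : H2' Pc)
    (h3 : H3 I Pc) [DRing.HasLBaseChange (algebraMap R (R ⧸ I))]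
    (K : Dual.D R) (Q₀ : DRing.Cx R) (c : ℤ) (hQv : DRing.VanishesAbove Q₀ c)
    (hQpc : ∀ i : ℤ, Pc (Q₀.X i)) (e₀ : DRing.toD Q₀ ≅ K)
    (E : DRing.Cx (R ⧸ I)) (b : ℤ) (hEb : DRing.VanishesAbove E b)
    (hEt : ∀ i : ℤ, ∃ X : ModuleCat.{u} R, Pc X ∧
      Nonempty ((R ⧸ I) ⊗[R] X ≃ₗ[R ⧸ I] E.X i))
    (eE : DRing.toD E ≅ (DRing.LBaseChange (algebraMap R (R ⧸ I))).obj K) :
    ∃ (P : DRing.Cx R) (b' : ℤ), DRing.VanishesAbove P b' ∧ (∀ i : ℤ, Pc (P.X i)) ∧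
      Nonempty (DRing.toD P ≅ K) ∧
      Nonempty ((bcCxF (algebraMap R (R ⧸ I))).obj P ≅ E) := by
  have hQproj : ∀ i, Module.Projective R (Q₀.X i) := fun i => h1 _ (hQpc i)
  haveI : Q₀.IsKProjective := isKProjective_of_vanishesAbove Q₀ c hQv hQproj
  have hQbv : DRing.VanishesAbove ((bcCxF (algebraMap R (R ⧸ I))).obj Q₀) c := fun i hi =>
    Functor.map_isZero (ModuleCat.extendScalars.{u, u, u} (algebraMap R (R ⧸ I))) (hQv i hi)
  haveI : ((bcCxF (algebraMap R (R ⧸ I))).obj Q₀).IsKProjective := bc_kproj I Q₀ c hQv hQproj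
  let e : DRing.toD ((bcCxF (algebraMap R (R ⧸ I))).obj Q₀) ≅ DRing.toD E :=
    (lbcIso (algebraMap R (R ⧸ I)) Q₀).symm ≪≫
      (DRing.LBaseChange (algebraMap R (R ⧸ I))).mapIso e₀ ≪≫ eE.symm
  obtain ⟨α, hα⟩ := exists_Q_map_eq ((bcCxF (algebraMap R (R ⧸ I))).obj Q₀) E e.hom
  haveI : QuasiIso α := by
    rw [← DerivedCategory.isIso_Q_map_iff_quasiIso, hα]
    infer_instance
  have hCa : (mappingCone α).Acyclic :=
    (Groth.Agent.Helper9.Leray2.quasiIso_iff_acyclic_mappingCone α).mp inferInstance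
  have hCv : DRing.VanishesAbove (mappingCone α) (max b c) := fun i hi => by
    rw [mappingCone.isZero_X_iff]
    exact ⟨hQbv (i + 1) (by omega), hEb i (by omega)⟩
  have hCt : ∀ i : ℤ, ∃ X : ModuleCat.{u} R, Pc X ∧
      Nonempty ((R ⧸ I) ⊗[R] X ≃ₗ[R ⧸ I] (mappingCone α).X i) := fun i => by
    obtain ⟨XE, hXE, ⟨εE⟩⟩ := hEt i
    refine ⟨ModuleCat.of R (Q₀.X (i + 1) × XE), h2' _ _ (hQpc (i + 1)) hXE, ⟨?_⟩⟩
    exact (TensorProduct.prodRight R (R ⧸ I) (R ⧸ I) (Q₀.X (i + 1)) XE).trans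
      ((LinearEquiv.prodCongr (extendScalarsEquiv (B := R ⧸ I) (Q₀.X (i + 1))).symm εE).trans
        (coneEquiv α i).symm)
  obtain ⟨A, hAv, hAa, hApc, ⟨ψ⟩⟩ :=
    exists_acyclic_lift I Pc h1 h2 h3 (mappingCone α) (max b c) hCv hCa hCt
  have hAproj : ∀ i, Module.Projective R (A.X i) := fun i => h1 _ (hApc i)
  have hAba : ((bcCxF (algebraMap R (R ⧸ I))).obj A).Acyclic := fun n =>
    (hCa n).of_iso ψ.symm
  haveI : ((bcCxF (algebraMap R (R ⧸ I))).obj A).IsKProjective :=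
    bc_kproj I A (max b c) hAv hAproj
  have hh : Homotopy (𝟙 ((bcCxF (algebraMap R (R ⧸ I))).obj A)) 0 :=
    IsKProjective.homotopyZero _ hAba
  obtain ⟨sh, hshdef⟩ : ∃ sh : ((bcCxF (algebraMap R (R ⧸ I))).obj Q₀)⟦(1 : ℤ)⟧ ⟶
      (bcCxF (algebraMap R (R ⧸ I))).obj (Q₀⟦(1 : ℤ)⟧),
      sh = ((ModuleCat.extendScalars.{u, u, u}
        (algebraMap R (R ⧸ I))).mapCochainComplexShiftIso 1).inv.app Q₀ := ⟨_, rfl⟩
  haveI : IsIso sh := by
    rw [hshdef]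
    infer_instance
  obtain ⟨ψ₀, hψ₀⟩ := exists_lift_of_contractible I A (Q₀⟦(1 : ℤ)⟧) hAproj hh
    (ψ.hom ≫ (mappingCone.triangle α).mor₃ ≫ sh)
  have hWpc : ∀ i, Pc ((Q₀⟦(1 : ℤ)⟧).X i) := fun i => hQpc (i + 1)
  have hμsurj : ∀ i, Function.Surjective
      ((ψ.hom ≫ (mappingCone.triangle α).mor₃ ≫ sh).f i).hom := fun i => by
    haveI : IsIso (sh.f i) :=
      inferInstanceAs (IsIso ((HomologicalComplex.eval _ _ i).map sh))
    haveI : IsIso (ψ.hom.f i) :=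
      inferInstanceAs (IsIso ((HomologicalComplex.eval _ _ i).map ψ.hom))
    intro y
    obtain ⟨y1, hy1⟩ := (bijective_of_isIso (sh.f i)).2 y
    obtain ⟨c', hc'⟩ := mor₃_surjective α i y1
    obtain ⟨x, hx⟩ := (bijective_of_isIso (ψ.hom.f i)).2 c'
    refine ⟨x, ?_⟩
    show (sh.f i).hom (((mappingCone.triangle α).mor₃.f i).hom ((ψ.hom.f i).hom x)) = y
    rw [hx, hc', hy1]
  have hψ₀surj : ∀ i, Function.Surjective (ψ₀.f i).hom := fun i => by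
    refine surjective_of_lTensor I Pc h3 (hApc i) (hWpc i) (ψ₀.f i).hom ?_
    intro t'
    obtain ⟨x, hx⟩ := hμsurj i
      ((extendScalarsEquiv (B := R ⧸ I) ((Q₀⟦(1 : ℤ)⟧).X i)).symm t')
    refine ⟨extendScalarsEquiv (B := R ⧸ I) (A.X i) x, ?_⟩
    have n1 := Groth.Agent.Helper6.LBCFibre.extendScalarsEquiv_naturality (R ⧸ I) (ψ₀.f i) x
    have h2 : ((ModuleCat.extendScalars.{u, u, u} (algebraMap R (R ⧸ I))).map (ψ₀.f i)).hom x =
        ((ψ.hom ≫ (mappingCone.triangle α).mor₃ ≫ sh).f i).hom x :=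
      congrArg (fun g => (g.f i).hom x) hψ₀
    refine n1.symm.trans ?_
    rw [h2, hx, LinearEquiv.apply_symm_apply]
  have hPpc : ∀ i, Pc ((kerCx ψ₀).X i) := fun i =>
    (pc_ker Pc h1 h2 (hApc i) (hWpc i) (ψ₀.f i).hom (hψ₀surj i)).1
  have hPv : DRing.VanishesAbove (kerCx ψ₀) (max b c) := fun i hi => by
    haveI := ModuleCat.subsingleton_of_isZero (hAv i hi)
    haveI : Subsingleton (LinearMap.ker (ψ₀.f i).hom) :=
      ⟨fun a b => Subtype.ext (Subsingleton.elim _ _)⟩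
    exact ModuleCat.isZero_of_subsingleton (ModuleCat.of R (LinearMap.ker (ψ₀.f i).hom))
  obtain ⟨iso1⟩ := nonempty_iso_of_acyclic ψ₀ hψ₀surj hAa
  let iso2 : DerivedCategory.Q.obj (Q₀⟦(1 : ℤ)⟧) ≅ (DerivedCategory.Q.obj Q₀)⟦(1 : ℤ)⟧ :=
    (DerivedCategory.Q.commShiftIso (1 : ℤ)).app Q₀
  let iso3 : DRing.toD (kerCx ψ₀) ≅ DRing.toD Q₀ :=
    (CategoryTheory.shiftFunctor (DerivedCategory (ModuleCat.{u} R)) (1 : ℤ)).preimageIso (iso1.symm ≪≫ iso2)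
  exact ⟨kerCx ψ₀, max b c, hPv, hPpc, ⟨iso3 ≪≫ e₀⟩,
    nonempty_bc_ker_iso I Q₀ E α A ψ ψ₀ sh hψ₀ hψ₀surj hQproj⟩

end Groth.Agent.Helper6.LiftCx
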