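import Mathlib
import Groth.Prelude.Def_DRing4
import Groth.Agent.Helper6.LiftCx5

/-!
# Lifting complexes along `R → R/I` for `I` in the Jacobson radical
-/

set_option autoImplicit false
set_option linter.style.haveILetI false
set_option linter.unusedSectionVars false

universe u
open CategoryTheory CategoryTheory.Limits Pretriangulated DerivedCategory TensorProduct
attribute [local instance] HasDerivedCategory.standard

namespace Groth.Agent.Helper6.LiftJac
open Groth.Agent.Helper3.DRingLib Groth.Agent.Helper6.LBCCompute Groth.Agent.Helper6.LiftCx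

variable {R : Type u} [CommRing R] (I : Ideal R)

/-- Nakayama's lemma gives hypothesis (3) -/
lemma h3_of_jac (hI : I ≤ Ideal.jacobson (⊥ : Ideal R)) (Pc : ObjectProperty (ModuleCat.{u} R))
    (hfin : ∀ X : ModuleCat.{u} R, Pc X → Module.Finite R X) : H3 I Pc := fun X Y f _ hY h => by
  haveI := hfin Y hY
  have htop : (⊤ : Submodule R Y) ≤ LinearMap.range f.hom :=
    Submodule.le_of_le_smul_of_le_jacobson_bot Module.Finite.fg_top hI (le_of_eq h.symm)
  exact LinearMap.range_eq_top.mp (top_le_iff.mp htop)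

lemma surj_of_lTensor_surj (hI : I ≤ Ideal.jacobson (⊥ : Ideal R)) {X Y : Type u}
    [AddCommGroup X] [Module R X] [AddCommGroup Y] [Module R Y] [Module.Finite R Y]
    (f : X →ₗ[R] Y) (hf : Function.Surjective (f.lTensor (R ⧸ I))) : Function.Surjective f := by
  have htop : (⊤ : Submodule R Y) ≤ LinearMap.range f := by
    refine Submodule.le_of_le_smul_of_le_jacobson_bot Module.Finite.fg_top hI ?_
    intro y _
    obtain ⟨t, ht⟩ := hf ((1 : R ⧸ I) ⊗ₜ[R] y)
    obtain ⟨x, rfl⟩ := one_tmul_surjective I X t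
    rw [LinearMap.lTensor_tmul] at ht
    have h0 : (1 : R ⧸ I) ⊗ₜ[R] (y - f x) = 0 := by
      rw [TensorProduct.tmul_sub, ht, sub_self]
    have h1 := mem_smul_top_of_one_tmul I Y (y - f x) h0
    have hy : y = f x + (y - f x) := by abel
    rw [hy]
    exact Submodule.add_mem_sup (LinearMap.mem_range_self f x) h1
  exact LinearMap.range_eq_top.mp (top_le_iff.mp htop)

lemma ker_finite {F X : Type u} [AddCommGroup F] [Module R F] [AddCommGroup X] [Module R X]
    [Module.Finite R F] [Module.Projective R X] (v : F →ₗ[R] X) (hv : Function.Surjective v) :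
    Module.Finite R (LinearMap.ker v) := by
  obtain ⟨σ, hσ⟩ := Module.projective_lifting_property v LinearMap.id hv
  have hvσ : ∀ y, v (σ y) = y := fun y => LinearMap.congr_fun hσ y
  let ρ : F →ₗ[R] LinearMap.ker v :=
    LinearMap.codRestrict (LinearMap.ker v) (LinearMap.id - σ ∘ₗ v) (fun x => by
      rw [LinearMap.mem_ker, LinearMap.sub_apply, map_sub, LinearMap.id_apply,
        LinearMap.comp_apply, hvσ, sub_self])
  refine Module.Finite.of_surjective ρ (fun k => ⟨(k : F), ?_⟩)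
  apply Subtype.ext
  show (k : F) - σ (v (k : F)) = k
  rw [LinearMap.mem_ker.mp k.2, map_zero, sub_zero]

/-- lifting finite free modules -/
theorem free_lift (V : Type u) [AddCommGroup V] [Module (R ⧸ I) V] [Module.Finite (R ⧸ I) V]
    [Module.Free (R ⧸ I) V] :
    ∃ F : ModuleCat.{u} R, Module.Finite R F ∧ Module.Free R F ∧
      Nonempty ((R ⧸ I) ⊗[R] F ≃ₗ[R ⧸ I] V) := by
  classical
  rcases subsingleton_or_nontrivial (R ⧸ I) with hs | hn
  · haveI : Subsingleton V := Module.subsingleton (R ⧸ I) V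
    haveI : Subsingleton ((R ⧸ I) ⊗[R] (ModuleCat.of R PUnit.{u + 1})) :=
      subsingleton_tensor I PUnit.{u + 1}
    exact ⟨ModuleCat.of R PUnit.{u + 1}, inferInstanceAs (Module.Finite R PUnit.{u + 1}),
      inferInstanceAs (Module.Free R PUnit.{u + 1}), ⟨LinearEquiv.ofSubsingleton _ _⟩⟩
  · let bV := Module.Free.chooseBasis (R ⧸ I) V
    haveI : Finite (Module.Free.ChooseBasisIndex (R ⧸ I) V) := Module.Finite.finite_basis bV
    refine ⟨ModuleCat.of R (Module.Free.ChooseBasisIndex (R ⧸ I) V →₀ R),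
      inferInstanceAs (Module.Finite R (Module.Free.ChooseBasisIndex (R ⧸ I) V →₀ R)),
      inferInstanceAs (Module.Free R (Module.Free.ChooseBasisIndex (R ⧸ I) V →₀ R)), ⟨?_⟩⟩
    exact (TensorProduct.finsuppScalarRight R (R ⧸ I) (R ⧸ I)
      (Module.Free.ChooseBasisIndex (R ⧸ I) V)).trans bV.repr.symm

/-- freeness lifts for finite projective modules when `I` is in the Jacobson radical -/
theorem free_of_bc_free (hI : I ≤ Ideal.jacobson (⊥ : Ideal R)) (X : Type u) [AddCommGroup X]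
    [Module R X] [Module.Finite R X] [Module.Projective R X]
    [Module.Free (R ⧸ I) ((R ⧸ I) ⊗[R] X)] : Module.Free R X := by
  haveI : Module.Finite (R ⧸ I) ((R ⧸ I) ⊗[R] X) := inferInstance
  obtain ⟨F, hFfin, hFfree, ⟨β⟩⟩ := free_lift I ((R ⧸ I) ⊗[R] X)
  haveI := hFfin
  haveI := hFfree
  haveI : Module.Projective R F := inferInstance
  obtain ⟨v, hv⟩ := exists_lTensor_eq I (X := F) (Y := X) β.toLinearMap
  have hvs : Function.Surjective v := surj_of_lTensor_surj I hI v (fun t => by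
    obtain ⟨t', ht'⟩ := β.surjective t
    exact ⟨t', (hv t').trans ht'⟩)
  obtain ⟨Θ, -⟩ := exists_kerEquiv I v hvs (LinearEquiv.refl (R ⧸ I) ((R ⧸ I) ⊗[R] F))
    β.toLinearMap (fun t => by
      show β t = 0 ↔ (v.lTensor (R ⧸ I)) t = 0
      rw [hv]
      rfl)
  have hsub : ∀ t : (R ⧸ I) ⊗[R] (LinearMap.ker v), t = 0 := fun t => by
    apply Θ.injective
    apply Subtype.ext
    have h := (Θ t).2
    have h' : β ((Θ t : LinearMap.ker β.toLinearMap) : (R ⧸ I) ⊗[R] F) = 0 :=
      LinearMap.mem_ker.mp h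
    rw [map_zero]
    exact β.injective (h'.trans (map_zero β).symm)
  have hle : (⊤ : Submodule R (LinearMap.ker v)) ≤ I • ⊤ := fun x _ =>
    mem_smul_top_of_one_tmul I (LinearMap.ker v) x (hsub _)
  haveI : Module.Finite R (LinearMap.ker v) := ker_finite v hvs
  have hbot : (⊤ : Submodule R (LinearMap.ker v)) = ⊥ :=
    Submodule.eq_bot_of_le_smul_of_le_jacobson_bot I ⊤ Module.Finite.fg_top hle hI
  have hinj : Function.Injective v := by
    refine (injective_iff_map_eq_zero v).mpr (fun x hx => ?_)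
    have hmem : (⟨x, hx⟩ : LinearMap.ker v) ∈ (⊤ : Submodule R (LinearMap.ker v)) := trivial
    rw [hbot, Submodule.mem_bot] at hmem
    exact congrArg Subtype.val hmem
  exact Module.Free.of_equiv (LinearEquiv.ofBijective v ⟨hinj, hvs⟩)

/-- the common part of the two lifting theorems -/
theorem main_jac (hI : I ≤ Ideal.jacobson (⊥ : Ideal R))
    [DRing.HasLBaseChange (algebraMap R (R ⧸ I))]
    (Pc : ObjectProperty (ModuleCat.{u} R)) [Pc.IsClosedUnderIsomorphisms]
    (h1 : H1 Pc) (h2 : H2 Pc) (h2' : H2' Pc)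
    (hfin : ∀ X : ModuleCat.{u} R, Pc X → Module.Finite R X)
    (hfree : ∀ X : ModuleCat.{u} R, Module.Finite R X → Module.Free R X → Pc X)
    (K : Dual.D R) (hK : DRing.IsPseudoCoherent' R K)
    (E : DRing.Cx (R ⧸ I)) (b : ℤ) (hEb : DRing.VanishesAbove E b)
    (hEt : ∀ i : ℤ, ∃ X : ModuleCat.{u} R, Pc X ∧
      Nonempty ((R ⧸ I) ⊗[R] X ≃ₗ[R ⧸ I] E.X i))
    (eE : DRing.toD E ≅ (DRing.LBaseChange (algebraMap R (R ⧸ I))).obj K) :
    ∃ (P : DRing.Cx R) (b' : ℤ), DRing.VanishesAbove P b' ∧ (∀ i : ℤ, Pc (P.X i)) ∧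
      Nonempty (DRing.toD P ≅ K) ∧ Nonempty ((bcCxF (algebraMap R (R ⧸ I))).obj P ≅ E) ∧
      ∀ i : ℤ, Module.Free (R ⧸ I) (E.X i) → Module.Free R (P.X i) := by
  obtain ⟨Q₀, c, hQv, hQff, ⟨e₀⟩⟩ := hK
  have hQpc : ∀ i, Pc (Q₀.X i) := fun i => hfree _ (hQff i).1 (hQff i).2
  obtain ⟨P, b', hPv, hPpc, hPK, ⟨eP⟩⟩ := exists_lift I Pc h1 h2 h2' (h3_of_jac I hI Pc hfin)
    K Q₀ c hQv hQpc e₀ E b hEb hEt eE
  refine ⟨P, b', hPv, hPpc, hPK, ⟨eP⟩, fun i hfr => ?_⟩
  haveI := hfin _ (hPpc i)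
  haveI := h1 _ (hPpc i)
  haveI := hfr
  let ei : (R ⧸ I) ⊗[R] (P.X i) ≃ₗ[R ⧸ I] E.X i :=
    (extendScalarsEquiv (B := R ⧸ I) (P.X i)).symm.trans
      ((HomologicalComplex.eval _ _ i).mapIso eP).toLinearEquiv
  haveI : Module.Free (R ⧸ I) ((R ⧸ I) ⊗[R] (P.X i)) := Module.Free.of_equiv ei.symm
  exact free_of_bc_free I hI (P.X i)

end Groth.Agent.Helper6.LiftJac
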