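import Mathlib
import Groth.Prelude.Def_DRing4
import Groth.Agent.Helper6.LiftJac
import Groth.Agent.Helper6.LBCFibre
import Groth.Agent.Helper6.MinCx1

/-!
# Minimal free representatives of pseudo-coherent complexes over a local ring
-/

set_option autoImplicit false
set_option linter.style.haveILetI false
set_option linter.unusedSectionVars false

universe u
open CategoryTheory CategoryTheory.Limits Pretriangulated DerivedCategory TensorProduct
attribute [local instance] HasDerivedCategory.standard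

namespace Groth.Agent.Helper6.MinCx
open Groth.Agent.Helper3.DRingLib Groth.Agent.Helper6.LBCCompute Groth.Agent.Helper6.LiftCx
  Groth.Agent.Helper6.LiftJac

variable {R : Type u} [CommRing R] (I : Ideal R)

/-- finite projective modules -/
def fpPc : ObjectProperty (ModuleCat.{u} R) :=
  fun X => Module.Finite R X ∧ Module.Projective R X

instance : (fpPc (R := R)).IsClosedUnderIsomorphisms := ⟨fun {X Y} e hX => by
  haveI : Module.Finite R X := hX.1
  haveI : Module.Projective R X := hX.2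
  exact ⟨Module.Finite.equiv e.toLinearEquiv, Module.Projective.of_equiv e.toLinearEquiv⟩⟩

lemma fp_h1 : H1 (fpPc (R := R)) := fun _ hX => hX.2

lemma fp_h2 : H2 (fpPc (R := R)) := fun X Y _ hXY => by
  haveI : Module.Finite R (X × Y) := hXY.1
  haveI : Module.Projective R (X × Y) := hXY.2
  exact ⟨Module.Finite.of_surjective (LinearMap.snd R X Y) LinearMap.snd_surjective,
    Module.Projective.of_split (LinearMap.inr R X Y) (LinearMap.snd R X Y)
      (LinearMap.ext fun y => rfl)⟩

lemma fp_h2' : H2' (fpPc (R := R)) := fun X Y hX hY => by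
  haveI : Module.Finite R X := hX.1
  haveI : Module.Projective R X := hX.2
  haveI : Module.Finite R Y := hY.1
  haveI : Module.Projective R Y := hY.2
  exact ⟨(inferInstance : Module.Finite R (X × Y)),
    (inferInstance : Module.Projective R (X × Y))⟩

lemma fp_fin : ∀ X : ModuleCat.{u} R, fpPc X → Module.Finite R X := fun _ hX => hX.1

lemma fp_free : ∀ X : ModuleCat.{u} R, Module.Finite R X → Module.Free R X → fpPc X :=
  fun X hf hfr => ⟨hf, by haveI := hfr; infer_instance⟩

lemma bc_finite (X : ModuleCat.{u} R) [Module.Finite R X] :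
    Module.Finite (R ⧸ I)
      ((ModuleCat.extendScalars.{u, u, u} (algebraMap R (R ⧸ I))).obj X) :=
  Module.Finite.equiv (extendScalarsEquiv (B := R ⧸ I) X).symm

lemma bc_finrank [Nontrivial (R ⧸ I)] (X : ModuleCat.{u} R) [Module.Free R X] :
    Module.finrank (R ⧸ I)
      ((ModuleCat.extendScalars.{u, u, u} (algebraMap R (R ⧸ I))).obj X) =
      Module.finrank R X := by
  haveI : Nontrivial R := (algebraMap R (R ⧸ I)).domain_nontrivial
  exact (extendScalarsEquiv (B := R ⧸ I) X).finrank_eq.trans Module.finrank_baseChange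

variable [DRing.HasLBaseChange (algebraMap R (R ⧸ I))]

/-- the fibre computed by a K-projective representative -/
noncomputable def fibreIso (K : Dual.D R) (P : DRing.Cx R) [P.IsKProjective]
    (e : DRing.toD P ≅ K) :
    (DRing.LBaseChange (algebraMap R (R ⧸ I))).obj K ≅
      DRing.toD ((bcCxF (algebraMap R (R ⧸ I))).obj P) :=
  (DRing.LBaseChange (algebraMap R (R ⧸ I))).mapIso e.symm ≪≫ lbcIso (algebraMap R (R ⧸ I)) P

/-- the cohomology of the fibre computed by a K-projective representative -/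
noncomputable def hdEquiv (K : Dual.D R) (P : DRing.Cx R) [P.IsKProjective]
    (e : DRing.toD P ≅ K) (i : ℤ) :
    Dual.HD (R ⧸ I) ((DRing.LBaseChange (algebraMap R (R ⧸ I))).obj K) i ≃ₗ[R ⧸ I]
      ((bcCxF (algebraMap R (R ⧸ I))).obj P).homology i :=
  ((DerivedCategory.homologyFunctor (ModuleCat.{u} (R ⧸ I)) i).mapIso (fibreIso I K P e) ≪≫
    (DerivedCategory.homologyFunctorFactors (ModuleCat.{u} (R ⧸ I)) i).app
      ((bcCxF (algebraMap R (R ⧸ I))).obj P)).toLinearEquiv

/-- being a minimal free representative -/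
def IsMinimal (K : Dual.D R) (P : DRing.Cx R) : Prop :=
  (∃ b : ℤ, DRing.VanishesAbove P b) ∧
    (∀ i : ℤ, Module.Free R (P.X i) ∧ Module.Finite R (P.X i) ∧
      Module.finrank R (P.X i) = Module.finrank (R ⧸ I)
        (Dual.HD (R ⧸ I) ((DRing.LBaseChange (algebraMap R (R ⧸ I))).obj K) i)) ∧
    Nonempty (DRing.toD P ≅ K)

variable [hmax : I.IsMaximal]

theorem exists_minimal (hI : I ≤ Ideal.jacobson (⊥ : Ideal R)) (K : Dual.D R)
    (hK : DRing.IsPseudoCoherent' R K) :
    (∀ i : ℤ, Module.Finite (R ⧸ I)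
      (Dual.HD (R ⧸ I) ((DRing.LBaseChange (algebraMap R (R ⧸ I))).obj K) i)) ∧
    (∃ b : ℤ, ∀ i : ℤ, b < i → Subsingleton
      (Dual.HD (R ⧸ I) ((DRing.LBaseChange (algebraMap R (R ⧸ I))).obj K) i)) ∧
    ∃ P : DRing.Cx R, IsMinimal I K P := by
  letI : Field (R ⧸ I) := Ideal.Quotient.field I
  obtain ⟨Q₀, c, hQv, hQff, ⟨e₀⟩⟩ := hK
  have hQp : ∀ i, Module.Projective R (Q₀.X i) := fun i => by
    haveI := (hQff i).2
    infer_instance
  haveI : Q₀.IsKProjective := isKProjective_of_vanishesAbove Q₀ c hQv hQp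
  let E₀ : DRing.Cx (R ⧸ I) := (bcCxF (algebraMap R (R ⧸ I))).obj Q₀
  have hE₀fin : ∀ i, Module.Finite (R ⧸ I) (E₀.X i) := fun i => by
    haveI := (hQff i).1
    exact bc_finite I (Q₀.X i)
  have hHfin : ∀ i, Module.Finite (R ⧸ I) (E₀.homology i) := fun i => by
    haveI := hE₀fin i
    exact finite_homology E₀ i
  have hE₀v : ∀ i, c < i → IsZero (E₀.X i) := fun i hi =>
    Functor.map_isZero (ModuleCat.extendScalars.{u, u, u} (algebraMap R (R ⧸ I))) (hQv i hi)
  have hHv : ∀ i, c < i → IsZero (E₀.homology i) := fun i hi =>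
    isZero_homology E₀ i (hE₀v i hi)
  let θ := fun i => hdEquiv I K Q₀ e₀ i
  refine ⟨fun i => ?_, ⟨c, fun i hi => ?_⟩, ?_⟩
  · haveI := hHfin i
    exact Module.Finite.equiv (θ i).symm
  · haveI : Subsingleton (E₀.homology i) := ModuleCat.subsingleton_of_isZero (hHv i hi)
    exact (θ i).toEquiv.subsingleton
  · obtain ⟨s, hs⟩ := exists_sec E₀
    let E : DRing.Cx (R ⧸ I) := zeroCx (fun i => E₀.homology i)
    haveI : QuasiIso (secMap E₀ s) := quasiIso_secMap E₀ s hs
    haveI : IsIso (DerivedCategory.Q.map (secMap E₀ s)) :=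
      (DerivedCategory.isIso_Q_map_iff_quasiIso _ _).mpr inferInstance
    let eE : DRing.toD E ≅ (DRing.LBaseChange (algebraMap R (R ⧸ I))).obj K :=
      asIso (DerivedCategory.Q.map (secMap E₀ s)) ≪≫ (fibreIso I K Q₀ e₀).symm
    have hEb : DRing.VanishesAbove E c := fun i hi => hHv i hi
    have hEt : ∀ i : ℤ, ∃ X : ModuleCat.{u} R, fpPc X ∧
        Nonempty ((R ⧸ I) ⊗[R] X ≃ₗ[R ⧸ I] E.X i) := fun i => by
      haveI : Module.Finite (R ⧸ I) (E.X i) := hHfin i
      haveI : Module.Free (R ⧸ I) (E.X i) := Module.Free.of_divisionRing _ _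
      obtain ⟨F, hF1, hF2, hF3⟩ := free_lift I (E.X i)
      exact ⟨F, fp_free F hF1 hF2, hF3⟩
    obtain ⟨P, b', hPv, hPpc, ⟨eP⟩, ⟨eb⟩, hPfree⟩ := main_jac I hI fpPc fp_h1 fp_h2 fp_h2' fp_fin
      fp_free K ⟨Q₀, c, hQv, hQff, ⟨e₀⟩⟩ E c hEb hEt eE
    refine ⟨P, ⟨b', hPv⟩, fun i => ?_, ⟨eP⟩⟩
    haveI : Module.Free R (P.X i) := hPfree i (Module.Free.of_divisionRing _ _)
    haveI : Module.Finite R (P.X i) := (hPpc i).1
    refine ⟨inferInstance, inferInstance, ?_⟩
    have e1 : ((bcCxF (algebraMap R (R ⧸ I))).obj P).X i ≃ₗ[R ⧸ I] E.X i :=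
      ((HomologicalComplex.eval _ _ i).mapIso eb).toLinearEquiv
    exact (bc_finrank I (P.X i)).symm.trans (e1.trans (θ i).symm).finrank_eq

theorem bc_d_zero (K : Dual.D R) (P : DRing.Cx R) (hP : IsMinimal I K P) :
    ∀ i j, ((bcCxF (algebraMap R (R ⧸ I))).obj P).d i j = 0 := by
  letI : Field (R ⧸ I) := Ideal.Quotient.field I
  obtain ⟨⟨b, hPv⟩, hP, ⟨e⟩⟩ := hP
  have hPp : ∀ i, Module.Projective R (P.X i) := fun i => by
    haveI := (hP i).1
    infer_instance
  haveI : P.IsKProjective := isKProjective_of_vanishesAbove P b hPv hPp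
  have key : ∀ i, ((bcCxF (algebraMap R (R ⧸ I))).obj P).d i (i + 1) = 0 := fun i => by
    haveI := (hP i).1
    haveI := (hP i).2.1
    haveI : Module.Finite (R ⧸ I) (((bcCxF (algebraMap R (R ⧸ I))).obj P).X i) :=
      bc_finite I (P.X i)
    apply d_eq_zero_of_finrank_eq
    exact (hdEquiv I K P e i).finrank_eq.symm.trans
      ((hP i).2.2.symm.trans (bc_finrank I (P.X i)).symm)
  intro i j
  by_cases hij : i + 1 = j
  · subst hij
    exact key i
  · exact ((bcCxF (algebraMap R (R ⧸ I))).obj P).shape i j hij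

theorem minimal_unique (hI : I ≤ Ideal.jacobson (⊥ : Ideal R)) (K : Dual.D R)
    (P Q : DRing.Cx R) (hP : IsMinimal I K P) (hQ : IsMinimal I K Q) : Nonempty (P ≅ Q) := by
  have hdP := bc_d_zero I K P hP
  have hdQ := bc_d_zero I K Q hQ
  obtain ⟨⟨bP, hPv⟩, hP, ⟨eP⟩⟩ := hP
  obtain ⟨⟨bQ, hQv⟩, hQ, ⟨eQ⟩⟩ := hQ
  have hPp : ∀ i, Module.Projective R (P.X i) := fun i => by
    haveI := (hP i).1
    infer_instance
  have hQp : ∀ i, Module.Projective R (Q.X i) := fun i => by
    haveI := (hQ i).1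
    infer_instance
  haveI : P.IsKProjective := isKProjective_of_vanishesAbove P bP hPv hPp
  haveI : Q.IsKProjective := isKProjective_of_vanishesAbove Q bQ hQv hQp
  obtain ⟨f, hf⟩ := exists_Q_map_eq P Q (eP ≪≫ eQ.symm).hom
  haveI : IsIso (DerivedCategory.Q.map f) := by
    rw [hf]
    infer_instance
  have hnat := lbcIso_hom_naturality (algebraMap R (R ⧸ I)) f
  haveI : IsIso (DerivedCategory.Q.map ((bcCxF (algebraMap R (R ⧸ I))).map f)) := by
    have h : DerivedCategory.Q.map ((bcCxF (algebraMap R (R ⧸ I))).map f) =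
        (lbcIso (algebraMap R (R ⧸ I)) P).inv ≫
          (DRing.LBaseChange (algebraMap R (R ⧸ I))).map (DerivedCategory.Q.map f) ≫
            (lbcIso (algebraMap R (R ⧸ I)) Q).hom := by
      rw [hnat, Iso.inv_hom_id_assoc]
    rw [h]
    infer_instance
  have hqi : QuasiIso ((bcCxF (algebraMap R (R ⧸ I))).map f) :=
    (DerivedCategory.isIso_Q_map_iff_quasiIso _ _).mp inferInstance
  have hiso : ∀ i, IsIso (f.f i) := fun i => by
    haveI : IsIso (((bcCxF (algebraMap R (R ⧸ I))).map f).f i) :=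
      isIso_f_of_d_zero _ i ((quasiIso_iff _).mp hqi i) hdP hdQ
    have hbij : Function.Bijective (((bcCxF (algebraMap R (R ⧸ I))).map f).f i).hom :=
      bijective_of_isIso _
    have hls : Function.Surjective ((f.f i).hom.lTensor (R ⧸ I)) := by
      intro t
      obtain ⟨x, hx⟩ := hbij.2 ((extendScalarsEquiv (B := R ⧸ I) (Q.X i)).symm t)
      refine ⟨extendScalarsEquiv (B := R ⧸ I) (P.X i) x, ?_⟩
      exact ((Groth.Agent.Helper6.LBCFibre.extendScalarsEquiv_naturality (R ⧸ I)
        (f.f i) x).symm.trans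
        ((congrArg (extendScalarsEquiv (B := R ⧸ I) (Q.X i)) hx).trans
          (LinearEquiv.apply_symm_apply _ t)))
    haveI := (hQ i).2.1
    have hsurj : Function.Surjective (f.f i).hom := surj_of_lTensor_surj I hI (f.f i).hom hls
    haveI := (hP i).1
    haveI := (hP i).2.1
    haveI := (hQ i).1
    have hbij' : Function.Bijective (f.f i).hom :=
      OrzechProperty.bijective_of_surjective_of_finrank_le (f.f i).hom hsurj
        (le_of_eq ((hP i).2.2.trans (hQ i).2.2.symm))
    exact (ConcreteCategory.isIso_iff_bijective _).mpr hbij'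
  haveI := hiso
  haveI : IsIso f := HomologicalComplex.Hom.isIso_of_components f
  exact ⟨asIso f⟩

end Groth.Agent.Helper6.MinCx
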