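import Mathlib
import Groth.Prelude.Def_DRing4
import Groth.Agent.Helper6.MinCx2
import Groth.Agent.Helper6.TenFin
import Groth.Agent.Helper6.DualCx

/-!
# Minimal complexes: tensor products and the unit object
-/

set_option autoImplicit false
set_option linter.style.haveILetI false
set_option linter.unusedSectionVars false

universe u
open CategoryTheory CategoryTheory.Limits MonoidalCategory TensorProduct
attribute [local instance] HasDerivedCategory.standard

namespace Groth.Agent.Helper6.InvObj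
open Groth.Agent.Helper3.DRingLib Groth.Agent.Helper6.LBCCompute Groth.Agent.Helper6.MinCx
  Groth.Agent.Helper6.TenCx Groth.Agent.Helper6.DualCx

variable {R : Type u} [CommRing R] (I : Ideal R)

section Mem

lemma map_mem_smul_top {M N : Type u} [AddCommGroup M] [AddCommGroup N] [Module R M] [Module R N]
    (g : M →ₗ[R] N) {x : M} (hx : x ∈ I • (⊤ : Submodule R M)) :
    g x ∈ I • (⊤ : Submodule R N) := by
  have h1 : g x ∈ Submodule.map g (I • (⊤ : Submodule R M)) := Submodule.mem_map_of_mem hx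
  rw [Submodule.map_smul''] at h1
  exact Submodule.smul_mono le_rfl le_top h1

lemma tmul_eq_zero_of_mem {N : Type u} [AddCommGroup N] [Module R N] (b : R ⧸ I) {y : N}
    (hy : y ∈ I • (⊤ : Submodule R N)) : b ⊗ₜ[R] y = (0 : (R ⧸ I) ⊗[R] N) := by
  have h1 : (1 : R ⧸ I) ⊗ₜ[R] y = (0 : (R ⧸ I) ⊗[R] N) := by
    apply (TensorProduct.quotTensorEquivQuotSMul N I).injective
    rw [TensorProduct.quotTensorEquivQuotSMul_mk_one_tmul, map_zero]
    exact (Submodule.Quotient.mk_eq_zero _).mpr hy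
  have h2 : b ⊗ₜ[R] y = b • ((1 : R ⧸ I) ⊗ₜ[R] y) := by
    rw [TensorProduct.smul_tmul', smul_eq_mul, mul_one]
  rw [h2, h1, smul_zero]

lemma mem_smul_of_bc_zero {M N : ModuleCat.{u} R} (f : M ⟶ N)
    (hf : (ModuleCat.extendScalars.{u, u, u} (algebraMap R (R ⧸ I))).map f = 0) (x : M) :
    f x ∈ I • (⊤ : Submodule R N) := by
  have h0 : ((ModuleCat.extendScalars.{u, u, u} (algebraMap R (R ⧸ I))).map f).hom
      ((extendScalarsEquiv (B := R ⧸ I) M).symm ((1 : R ⧸ I) ⊗ₜ[R] x)) = 0 := by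
    rw [hf]
    rfl
  have h2 : (f.hom.lTensor (R ⧸ I)) ((1 : R ⧸ I) ⊗ₜ[R] x) = 0 := by
    have h1 := Groth.Agent.Helper6.LBCFibre.extendScalarsEquiv_naturality (R ⧸ I) f
      ((extendScalarsEquiv (B := R ⧸ I) M).symm ((1 : R ⧸ I) ⊗ₜ[R] x))
    rw [LinearEquiv.apply_symm_apply] at h1
    rw [← h1, h0, map_zero]
  rw [LinearMap.lTensor_tmul] at h2
  have h3 := congrArg (TensorProduct.quotTensorEquivQuotSMul N I) h2
  rw [TensorProduct.quotTensorEquivQuotSMul_mk_one_tmul, map_zero] at h3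
  exact (Submodule.Quotient.mk_eq_zero _).mp h3

lemma bc_zero_of_mem_smul {M N : ModuleCat.{u} R} (f : M ⟶ N)
    (hf : ∀ x : M, f x ∈ I • (⊤ : Submodule R N)) :
    (ModuleCat.extendScalars.{u, u, u} (algebraMap R (R ⧸ I))).map f = 0 := by
  have h1 : f.hom.lTensor (R ⧸ I) = 0 := by
    apply TensorProduct.ext'
    intro b x
    rw [LinearMap.lTensor_tmul, LinearMap.zero_apply]
    exact tmul_eq_zero_of_mem I b (hf x)
  apply ModuleCat.hom_ext
  apply LinearMap.ext
  intro t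
  apply (extendScalarsEquiv (B := R ⧸ I) N).injective
  refine (Groth.Agent.Helper6.LBCFibre.extendScalarsEquiv_naturality (R ⧸ I) f t).trans ?_
  rw [h1, LinearMap.zero_apply]
  exact (map_zero _).symm

lemma rTensor_mem {M M' K : Type u} [AddCommGroup M] [AddCommGroup M'] [AddCommGroup K]
    [Module R M] [Module R M'] [Module R K] (f : M →ₗ[R] M')
    (hf : ∀ x, f x ∈ I • (⊤ : Submodule R M')) (t : M ⊗[R] K) :
    f.rTensor K t ∈ I • (⊤ : Submodule R (M' ⊗[R] K)) := by
  induction t using TensorProduct.induction_on with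
  | zero =>
    rw [map_zero]
    exact Submodule.zero_mem _
  | tmul m k =>
    rw [LinearMap.rTensor_tmul]
    exact map_mem_smul_top I ((TensorProduct.mk R M' K).flip k) (hf m)
  | add a b ha hb =>
    rw [map_add]
    exact Submodule.add_mem _ ha hb

lemma lTensor_mem {M K K' : Type u} [AddCommGroup M] [AddCommGroup K] [AddCommGroup K']
    [Module R M] [Module R K] [Module R K'] (f : K →ₗ[R] K')
    (hf : ∀ x, f x ∈ I • (⊤ : Submodule R K')) (t : M ⊗[R] K) :
    f.lTensor M t ∈ I • (⊤ : Submodule R (M ⊗[R] K')) := by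
  induction t using TensorProduct.induction_on with
  | zero =>
    rw [map_zero]
    exact Submodule.zero_mem _
  | tmul m k =>
    rw [LinearMap.lTensor_tmul]
    exact map_mem_smul_top I (TensorProduct.mk R M K' m) (hf k)
  | add a b ha hb =>
    rw [map_add]
    exact Submodule.add_mem _ ha hb

lemma whiskerRight_mem {M M' : ModuleCat.{u} R} (f : M ⟶ M') (K : ModuleCat.{u} R)
    (hf : ∀ x : M, f x ∈ I • (⊤ : Submodule R M')) (t : ↑(M ⊗ K)) :
    (f ▷ K) t ∈ I • (⊤ : Submodule R ↑(M' ⊗ K)) :=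
  rTensor_mem I f.hom hf t

lemma whiskerLeft_mem (M : ModuleCat.{u} R) {K K' : ModuleCat.{u} R} (f : K ⟶ K')
    (hf : ∀ x : K, f x ∈ I • (⊤ : Submodule R K')) (t : ↑(M ⊗ K)) :
    (M ◁ f) t ∈ I • (⊤ : Submodule R ↑(M ⊗ K')) :=
  lTensor_mem I f.hom hf t

lemma tensor_d_mem (L K : DRing.Cx R)
    (hL : ∀ (i j : ℤ) (x : L.X i), L.d i j x ∈ I • (⊤ : Submodule R (L.X j)))
    (hK : ∀ (i j : ℤ) (x : K.X i), K.d i j x ∈ I • (⊤ : Submodule R (K.X j)))
    (n n' : ℤ) (z : (L ⊗ K).X n) :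
    (L ⊗ K).d n n' z ∈ I • (⊤ : Submodule R ((L ⊗ K).X n')) := by
  by_cases hn : n + 1 = n'
  · induction z using TenCx.induction_on with
    | h0 =>
      rw [map_zero]
      exact Submodule.zero_mem _
    | hadd x y hx hy =>
      rw [map_add]
      exact Submodule.add_mem _ hx hy
    | hι p q hpq t =>
      rw [ι_d_apply L K p q n n' hpq hn t]
      refine Submodule.add_mem _ ?_ ?_
      · exact map_mem_smul_top I (ι L K (p + 1) q n' (by omega)).hom
          (whiskerRight_mem I (L.d p (p + 1)) (K.X q) (hL p (p + 1)) t)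
      · rw [Units.smul_def]
        refine zsmul_mem ?_ _
        exact map_mem_smul_top I (ι L K p (q + 1) n' (by omega)).hom
          (whiskerLeft_mem I (L.X p) (K.d q (q + 1)) (hK q (q + 1)) t)
  · have h0 : (L ⊗ K).d n n' = 0 := (L ⊗ K).shape n n' hn
    rw [h0]
    exact Submodule.zero_mem _

end Mem

section Minimal

variable [DRing.HasLBaseChange (algebraMap R (R ⧸ I))]

lemma isMinimal_of_iso {K K' : Dual.D R} (e : K ≅ K') {P : DRing.Cx R}
    (h : IsMinimal I K P) : IsMinimal I K' P := by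
  obtain ⟨hb, hX, ⟨eP⟩⟩ := h
  refine ⟨hb, fun i => ⟨(hX i).1, (hX i).2.1, ?_⟩, ⟨eP ≪≫ e⟩⟩
  rw [(hX i).2.2]
  exact ((DerivedCategory.homologyFunctor (ModuleCat.{u} (R ⧸ I)) i).mapIso
    ((DRing.LBaseChange (algebraMap R (R ⧸ I))).mapIso e)).toLinearEquiv.finrank_eq

variable [hmax : I.IsMaximal]

theorem isMinimal_self (P : DRing.Cx R) (b : ℤ) (hv : DRing.VanishesAbove P b)
    (hfree : ∀ i, Module.Free R (P.X i)) (hfin : ∀ i, Module.Finite R (P.X i))
    (hd : ∀ i j, ((bcCxF (algebraMap R (R ⧸ I))).obj P).d i j = 0) :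
    IsMinimal I (DRing.toD P) P := by
  letI : Field (R ⧸ I) := Ideal.Quotient.field I
  have hPp : ∀ i, Module.Projective R (P.X i) := fun i => by
    haveI := hfree i
    infer_instance
  haveI : P.IsKProjective := isKProjective_of_vanishesAbove P b hv hPp
  refine ⟨⟨b, hv⟩, fun i => ⟨hfree i, hfin i, ?_⟩, ⟨Iso.refl _⟩⟩
  haveI := hfree i
  let E : DRing.Cx (R ⧸ I) := (bcCxF (algebraMap R (R ⧸ I))).obj P
  haveI := E.isIso_iCycles i (i + 1) (CochainComplex.next ℤ i) (hd _ _)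
  haveI := E.isIso_homologyπ (i - 1) i (CochainComplex.prev ℤ i) (hd _ _)
  let e1 : E.homology i ≅ E.X i := (asIso (E.homologyπ i)).symm ≪≫ asIso (E.iCycles i)
  have h1 := (hdEquiv I (DRing.toD P) P (Iso.refl _) i).finrank_eq
  have h2 := e1.toLinearEquiv.finrank_eq
  have h3 := bc_finrank I (P.X i)
  exact h3.symm.trans (h2.symm.trans h1.symm)

theorem isMinimal_tensor (K₁ K₂ : Dual.D R) (P₁ P₂ : DRing.Cx R) (h₁ : IsMinimal I K₁ P₁)
    (h₂ : IsMinimal I K₂ P₂) : IsMinimal I (DRing.toD (P₁ ⊗ P₂)) (P₁ ⊗ P₂) := by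
  have hd₁ := bc_d_zero I K₁ P₁ h₁
  have hd₂ := bc_d_zero I K₂ P₂ h₂
  obtain ⟨⟨b₁, hv₁⟩, hP₁, -⟩ := h₁
  obtain ⟨⟨b₂, hv₂⟩, hP₂, -⟩ := h₂
  refine isMinimal_self I (P₁ ⊗ P₂) (b₁ + b₂)
    (Groth.Agent.Helper6.TenFin.vanishesAbove_tensor P₁ P₂ b₁ b₂ hv₁ hv₂)
    (Groth.Agent.Helper6.TenFin.free_X P₁ P₂ (fun i => (hP₁ i).1) (fun i => (hP₂ i).1))
    (Groth.Agent.Helper6.TenFin.finite_X P₁ P₂ b₁ b₂ hv₁ hv₂ (fun i => (hP₁ i).2.1)
      (fun i => (hP₂ i).2.1)) ?_
  intro i j
  exact bc_zero_of_mem_smul I ((P₁ ⊗ P₂).d i j) (fun z => tensor_d_mem I P₁ P₂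
    (fun a b x => mem_smul_of_bc_zero I (P₁.d a b) (hd₁ a b) x)
    (fun a b x => mem_smul_of_bc_zero I (P₂.d a b) (hd₂ a b) x) i j z)

theorem isMinimal_sg : IsMinimal I (Dual.inD R R) (sg (ModuleCat.of R R)) := by
  have hz : ∀ i : ℤ, i ≠ 0 → IsZero ((sg (ModuleCat.of R R)).X i) := fun i hi =>
    HomologicalComplex.isZero_single_obj_X (ComplexShape.up ℤ) 0 (ModuleCat.of R R) i hi
  let e0 : (sg (ModuleCat.of R R)).X 0 ≅ ModuleCat.of R R :=
    HomologicalComplex.singleObjXSelf (ComplexShape.up ℤ) 0 (ModuleCat.of R R)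
  haveI : Module.Free R (ModuleCat.of R R) := Module.Free.self R
  haveI : Module.Finite R (ModuleCat.of R R) := Module.Finite.self R
  have hfree : ∀ i, Module.Free R ((sg (ModuleCat.of R R)).X i) := fun i => by
    by_cases hi : i = 0
    · subst hi
      exact Module.Free.of_equiv e0.toLinearEquiv.symm
    · haveI : Subsingleton ((sg (ModuleCat.of R R)).X i) :=
        ModuleCat.subsingleton_of_isZero (hz i hi)
      exact Module.Free.of_subsingleton R _
  have hfin : ∀ i, Module.Finite R ((sg (ModuleCat.of R R)).X i) := fun i => by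
    by_cases hi : i = 0
    · subst hi
      exact Module.Finite.equiv e0.toLinearEquiv.symm
    · haveI : Subsingleton ((sg (ModuleCat.of R R)).X i) :=
        ModuleCat.subsingleton_of_isZero (hz i hi)
      infer_instance
  have hm := isMinimal_self I (sg (ModuleCat.of R R)) 0 (fun i hi => hz i (by omega)) hfree hfin
    (fun i j => by
      show (ModuleCat.extendScalars.{u, u, u} (algebraMap R (R ⧸ I))).map
        ((sg (ModuleCat.of R R)).d i j) = 0
      have h0 : (sg (ModuleCat.of R R)).d i j = 0 :=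
        HomologicalComplex.single_obj_d (ComplexShape.up ℤ) 0 (ModuleCat.of R R) i j
      rw [h0, Functor.map_zero])
  exact isMinimal_of_iso I
    ((DerivedCategory.singleFunctorIsoCompQ (ModuleCat.{u} R) 0).app (ModuleCat.of R R)).symm hm

end Minimal

end Groth.Agent.Helper6.InvObj
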