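import Mathlib
import Groth.Prelude.Def_DRing4
import Groth.Agent.Helper6.LTenCxCompute
import Groth.Agent.Helper6.KProjRes
import Groth.Agent.Helper6.TenCxQis

set_option autoImplicit false

/-!
# The homology of `X ⊗^L K` via a K-flat resolution of `K`
-/

namespace Groth.Agent.Helper6.LTenCxCompute
open CategoryTheory Limits DerivedCategory MonoidalCategory
open Groth.Agent.Helper6.TenCx

attribute [local instance] HasDerivedCategory.standard

universe u

variable {A : Type u} [CommRing A]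

/-- `X ⊗^L K ≅ X ⊗ P` in `D(A)` for a K-flat resolution `P → K` -/
theorem nonempty_iso (K : DRing.Cx A) [DRing.HasLTensorCx A K] {P : DRing.Cx A} (πK : P ⟶ K)
    (hq : QuasiIso πK) (hP : KFlat P) (X : DRing.Cx A) :
    Nonempty ((DRing.LTensorCx A K).obj (DRing.toD X) ≅ DRing.toD (X ⊗ P)) := by
  obtain ⟨PX, πX, hPX1, hPX2, -, hπX, -⟩ := Groth.Agent.Helper6.KProjRes.exists_resolution X
  haveI := hPX1
  haveI : IsIso (Q.map πX) := (isIso_Q_map_iff_quasiIso (ModuleCat.{u} A) _).mpr hπX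
  haveI : IsIso (Q.map (PX ◁ πK)) :=
    (isIso_Q_map_iff_quasiIso (ModuleCat.{u} A) _).mpr (quasiIso_whiskerLeft hPX2 πK hq)
  haveI : IsIso (Q.map (πX ▷ P)) :=
    (isIso_Q_map_iff_quasiIso (ModuleCat.{u} A) _).mpr (quasiIso_whiskerRight hP πX hπX)
  exact ⟨(DRing.LTensorCx A K).mapIso (asIso (Q.map πX)).symm ≪≫ ltcIso K PX ≪≫
    (asIso (Q.map (PX ◁ πK))).symm ≪≫ asIso (Q.map (πX ▷ P))⟩

theorem subsingleton_HD_iff (K : DRing.Cx A) [DRing.HasLTensorCx A K] {P : DRing.Cx A}
    (πK : P ⟶ K) (hq : QuasiIso πK) (hP : KFlat P) (X : DRing.Cx A) (i : ℤ) :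
    Subsingleton (Dual.HD A ((DRing.LTensorCx A K).obj (DRing.toD X)) i) ↔
      (X ⊗ P).ExactAt i := by
  obtain ⟨e1⟩ := nonempty_iso K πK hq hP X
  let e2 : (DerivedCategory.homologyFunctor (ModuleCat.{u} A) i).obj
      ((DRing.LTensorCx A K).obj (DRing.toD X)) ≅ (X ⊗ P).homology i :=
    (DerivedCategory.homologyFunctor (ModuleCat.{u} A) i).mapIso e1 ≪≫
      (DerivedCategory.homologyFunctorFactors (ModuleCat.{u} A) i).app _
  rw [HomologicalComplex.exactAt_iff_isZero_homology]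
  constructor
  · intro h
    exact (ModuleCat.isZero_of_subsingleton _).of_iso e2.symm
  · intro h
    exact ModuleCat.subsingleton_of_isZero (h.of_iso e2)

end Groth.Agent.Helper6.LTenCxCompute
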