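import Mathlib
import Groth.Prelude.Def_DRing4
import Groth.Agent.Helper6.InvObj1
import Groth.Agent.Helper6.HasLBC
import Groth.Agent.Helper6.CohPC
import Groth.Agent.Helper6.LTenCxHD

/-!
# Invertible objects of `D(A)` over a local Noetherian ring are shifts of `A`
-/

set_option autoImplicit false
set_option linter.style.haveILetI false
set_option linter.unusedSectionVars false

universe u
open CategoryTheory CategoryTheory.Limits MonoidalCategory TensorProduct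
attribute [local instance] HasDerivedCategory.standard

namespace Groth.Agent.Helper6.InvObj
open Groth.Agent.Helper3.DRingLib Groth.Agent.Helper6.LBCCompute Groth.Agent.Helper6.MinCx
  Groth.Agent.Helper6.TenCx Groth.Agent.Helper6.DualCx

variable {A : Type u} [CommRing A]

theorem rank_analysis [Nontrivial A] (P₁ P₂ : DRing.Cx A) (b₁ b₂ : ℤ)
    (hv₁ : DRing.VanishesAbove P₁ b₁) (hv₂ : DRing.VanishesAbove P₂ b₂)
    (hX₁ : ∀ i, Module.Free A (P₁.X i) ∧ Module.Finite A (P₁.X i))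
    (hX₂ : ∀ i, Module.Free A (P₂.X i) ∧ Module.Finite A (P₂.X i))
    (θ : P₁ ⊗ P₂ ≅ sg (ModuleCat.of A A)) :
    ∃ p₀ : ℤ, (∀ i, i ≠ p₀ → IsZero (P₁.X i)) ∧ Nonempty (A ≃ₗ[A] P₁.X p₀) ∧
      (∀ i, i ≠ -p₀ → IsZero (P₂.X i)) ∧ Nonempty (A ≃ₗ[A] P₂.X (-p₀)) := by
  have hsgn : ∀ n : ℤ, n ≠ 0 → Module.finrank A ((sg (ModuleCat.of A A)).X n) = 0 := fun n hn => by
    haveI : Subsingleton ((sg (ModuleCat.of A A)).X n) := ModuleCat.subsingleton_of_isZero
      (HomologicalComplex.isZero_single_obj_X (ComplexShape.up ℤ) 0 (ModuleCat.of A A) n hn)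
    exact Module.finrank_zero_of_subsingleton
  have hsg0 : Module.finrank A ((sg (ModuleCat.of A A)).X 0) = 1 :=
    ((HomologicalComplex.singleObjXSelf (ComplexShape.up ℤ) 0
      (ModuleCat.of A A)).toLinearEquiv.finrank_eq).trans (Module.finrank_self A)
  have hθ : ∀ n, Module.finrank A ((P₁ ⊗ P₂).X n) =
      Module.finrank A ((sg (ModuleCat.of A A)).X n) := fun n =>
    ((HomologicalComplex.eval _ _ n).mapIso θ).toLinearEquiv.finrank_eq
  have hfinT : ∀ n, Module.Finite A ((P₁ ⊗ P₂).X n) := fun n =>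
    Groth.Agent.Helper6.TenFin.finite_X P₁ P₂ b₁ b₂ hv₁ hv₂ (fun i => (hX₁ i).2)
      (fun i => (hX₂ i).2) n
  have hle : ∀ p q n : ℤ, p + q = n →
      Module.finrank A (P₁.X p) * Module.finrank A (P₂.X q) ≤
        Module.finrank A ((sg (ModuleCat.of A A)).X n) := fun p q n hpq => by
    haveI := (hX₁ p).1
    haveI := (hX₁ p).2
    haveI := (hX₂ q).1
    haveI := (hX₂ q).2
    haveI := hfinT n
    have ht : Module.finrank A ↑(P₁.X p ⊗ P₂.X q) =
        Module.finrank A (P₁.X p) * Module.finrank A (P₂.X q) :=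
      Module.finrank_tensorProduct (R := A) (S := A) (M := P₁.X p) (M' := P₂.X q)
    have hinj : Function.Injective (ι P₁ P₂ p q n hpq).hom :=
      Function.LeftInverse.injective (g := (π P₁ P₂ p q n hpq).hom)
        (fun t => π_ι_self P₁ P₂ p q n hpq t)
    have h1 := LinearMap.finrank_le_finrank_of_injective hinj
    exact (ht.symm.trans_le h1).trans_eq (hθ n)
  have hex : ∃ p₀ : ℤ, Module.finrank A (P₁.X p₀) ≠ 0 ∧ Module.finrank A (P₂.X (-p₀)) ≠ 0 := by
    by_contra hcon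
    push_neg at hcon
    have hz : IsZero ((P₁ ⊗ P₂).X 0) := by
      apply Groth.Agent.Helper6.TenFin.isZero_X
      intro p q hpq
      have hq : q = -p := by omega
      subst hq
      by_cases hp : Module.finrank A (P₁.X p) = 0
      · left
        haveI := (hX₁ p).1
        haveI := (hX₁ p).2
        haveI := (Module.finrank_eq_zero_iff_of_free A (P₁.X p)).mp hp
        exact ModuleCat.isZero_of_subsingleton _
      · right
        haveI := (hX₂ (-p)).1
        haveI := (hX₂ (-p)).2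
        haveI := (Module.finrank_eq_zero_iff_of_free A (P₂.X (-p))).mp (hcon p hp)
        exact ModuleCat.isZero_of_subsingleton _
    haveI : Subsingleton ((P₁ ⊗ P₂).X 0) := ModuleCat.subsingleton_of_isZero hz
    have h0 : Module.finrank A ((P₁ ⊗ P₂).X 0) = 0 := Module.finrank_zero_of_subsingleton
    rw [hθ 0, hsg0] at h0
    exact one_ne_zero h0
  obtain ⟨p₀, ha, hb⟩ := hex
  have hab : Module.finrank A (P₁.X p₀) * Module.finrank A (P₂.X (-p₀)) ≤ 1 := by
    have h1 := hle p₀ (-p₀) 0 (by omega)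
    rwa [hsg0] at h1
  have hab1 : Module.finrank A (P₁.X p₀) * Module.finrank A (P₂.X (-p₀)) = 1 := by
    have h1 := Nat.mul_ne_zero ha hb
    omega
  have ha1 := Nat.eq_one_of_mul_eq_one_right hab1
  have hb1 := Nat.eq_one_of_mul_eq_one_left hab1
  refine ⟨p₀, fun i hi => ?_, ?_, fun i hi => ?_, ?_⟩
  · have h1 := hle i (-p₀) (i + -p₀) rfl
    rw [hsgn (i + -p₀) (by omega), hb1, mul_one] at h1
    haveI := (hX₁ i).1
    haveI := (hX₁ i).2
    haveI := (Module.finrank_eq_zero_iff_of_free A (P₁.X i)).mp (Nat.le_zero.mp h1)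
    exact ModuleCat.isZero_of_subsingleton _
  · haveI := (hX₁ p₀).1
    exact Module.nonempty_linearEquiv_of_finrank_eq_one ha1
  · have h1 := hle p₀ i (p₀ + i) rfl
    rw [hsgn (p₀ + i) (by omega), ha1, one_mul] at h1
    haveI := (hX₂ i).1
    haveI := (hX₂ i).2
    haveI := (Module.finrank_eq_zero_iff_of_free A (P₂.X i)).mp (Nat.le_zero.mp h1)
    exact ModuleCat.isZero_of_subsingleton _
  · haveI := (hX₂ (-p₀)).1
    exact Module.nonempty_linearEquiv_of_finrank_eq_one hb1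

theorem toD_iso_shift (P : DRing.Cx A) (k m : ℤ) (hkm : m + k = 0)
    (hz : ∀ i : ℤ, i ≠ k → IsZero (P.X i)) (u : A ≃ₗ[A] P.X k) :
    Nonempty (DRing.toD P ≅ (Dual.inD A A)⟦m⟧) := by
  haveI : P.IsStrictlyGE k :=
    (CochainComplex.isStrictlyGE_iff P k).mpr (fun i (hi : i < k) => hz i (by omega))
  haveI : P.IsStrictlyLE k :=
    (CochainComplex.isStrictlyLE_iff P k).mpr (fun i (hi : k < i) => hz i (by omega))
  obtain ⟨M, ⟨e⟩⟩ := CochainComplex.exists_iso_single P k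
  let eM : M ≅ ModuleCat.of A A :=
    (HomologicalComplex.singleObjXSelf (ComplexShape.up ℤ) k M).symm ≪≫
      ((HomologicalComplex.eval _ _ k).mapIso e).symm ≪≫ u.symm.toModuleIso
  exact ⟨DerivedCategory.Q.mapIso (e ≪≫ (HomologicalComplex.single _ _ k).mapIso eM) ≪≫
    ((DerivedCategory.singleFunctorIsoCompQ (ModuleCat.{u} A) k).app (ModuleCat.of A A)).symm ≪≫
    (((DerivedCategory.singleFunctors (ModuleCat.{u} A)).shiftIso m k 0 hkm).app
      (ModuleCat.of A A)).symm⟩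

theorem main [IsNoetherianRing A] (I : Ideal A) [hmax : I.IsMaximal]
    (hI : I ≤ Ideal.jacobson (⊥ : Ideal A)) (L : Dual.D A) (E : DRing.Cx A)
    [DRing.HasLTensorCx A E]
    (hLfin : ∀ i : ℤ, Module.Finite A (Dual.HD A L i))
    (hLbdd : ∃ b : ℤ, ∀ i : ℤ, b < i → Subsingleton (Dual.HD A L i))
    (hEfin : ∀ i : ℤ, Module.Finite A (Dual.HD A (DRing.toD E) i))
    (hEbdd : ∃ b : ℤ, ∀ i : ℤ, b < i → Subsingleton (Dual.HD A (DRing.toD E) i))
    (h : Nonempty ((DRing.LTensorCx A E).obj L ≅ Dual.inD A A)) :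
    ∃ n : ℤ, Nonempty (L ≅ (Dual.inD A A)⟦n⟧) ∧
      Nonempty (DRing.toD E ≅ (Dual.inD A A)⟦(-n)⟧) := by
  haveI : DRing.HasLBaseChange (algebraMap A (A ⧸ I)) :=
    Groth.Agent.Helper6.HasLBC.hasLBaseChange _
  letI : Field (A ⧸ I) := Ideal.Quotient.field I
  haveI : Nontrivial A := (algebraMap A (A ⧸ I)).domain_nontrivial
  have hR : ∀ J : Ideal A, J.FG → Module.FinitePresentation A J :=
    fun J _ => Module.finitePresentation_of_finite A J
  have hLpc : DRing.IsPseudoCoherent' A L :=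
    (Groth.Agent.Helper6.CohPC.main hR L hLbdd 0).2.2
      (fun i => by
        haveI := hLfin i
        exact Module.finitePresentation_of_finite A _)
  have hEpc : DRing.IsPseudoCoherent' A (DRing.toD E) :=
    (Groth.Agent.Helper6.CohPC.main hR (DRing.toD E) hEbdd 0).2.2
      (fun i => by
        haveI := hEfin i
        exact Module.finitePresentation_of_finite A _)
  obtain ⟨-, -, P₁, hP₁⟩ := exists_minimal I hI L hLpc
  obtain ⟨-, -, P₂, hP₂⟩ := exists_minimal I hI (DRing.toD E) hEpc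
  have hPt : IsMinimal I (DRing.toD (P₁ ⊗ P₂)) (P₁ ⊗ P₂) :=
    isMinimal_tensor I L (DRing.toD E) P₁ P₂ hP₁ hP₂
  obtain ⟨⟨b₁, hv₁⟩, hX₁, ⟨e₁⟩⟩ := hP₁
  obtain ⟨⟨b₂, hv₂⟩, hX₂, ⟨e₂⟩⟩ := hP₂
  have hp₂ : ∀ i, Module.Projective A (P₂.X i) := fun i => by
    haveI := (hX₂ i).1
    infer_instance
  haveI : P₂.IsKProjective := isKProjective_of_vanishesAbove P₂ b₂ hv₂ hp₂
  obtain ⟨π₂, hπ₂⟩ := exists_Q_map_eq P₂ E e₂.hom
  have hq₂ : QuasiIso π₂ := by
    haveI : IsIso (DerivedCategory.Q.map π₂) := by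
      rw [hπ₂]
      infer_instance
    exact (DerivedCategory.isIso_Q_map_iff_quasiIso _ _).mp inferInstance
  have hkf : KFlat P₂ := kflat_of_boundedAbove_flat P₂ b₂ hv₂ (fun i => by
    haveI := (hX₂ i).1
    infer_instance)
  obtain ⟨e₃⟩ := Groth.Agent.Helper6.LTenCxCompute.nonempty_iso E π₂ hq₂ hkf P₁
  obtain ⟨h⟩ := h
  have hPt' : IsMinimal I (Dual.inD A A) (P₁ ⊗ P₂) :=
    isMinimal_of_iso I (e₃.symm ≪≫ (DRing.LTensorCx A E).mapIso e₁ ≪≫ h) hPt
  obtain ⟨θ⟩ := minimal_unique I hI (Dual.inD A A) (P₁ ⊗ P₂) (sg (ModuleCat.of A A)) hPt'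
    (isMinimal_sg I)
  obtain ⟨p₀, hz₁, ⟨u₁⟩, hz₂, ⟨u₂⟩⟩ := rank_analysis P₁ P₂ b₁ b₂ hv₁ hv₂
    (fun i => ⟨(hX₁ i).1, (hX₁ i).2.1⟩) (fun i => ⟨(hX₂ i).1, (hX₂ i).2.1⟩) θ
  obtain ⟨t₁⟩ := toD_iso_shift P₁ p₀ (-p₀) (by omega) hz₁ u₁
  obtain ⟨t₂⟩ := toD_iso_shift P₂ (-p₀) (-(-p₀)) (by omega) hz₂ u₂
  exact ⟨-p₀, ⟨e₁.symm ≪≫ t₁⟩, ⟨e₂.symm ≪≫ t₂⟩⟩

end Groth.Agent.Helper6.InvObj
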