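import Mathlib
import Groth.Agent.Helper6.DSch7
import Groth.Agent.Helper6.InvObj2
import Groth.Agent.Helper6.FBC7
import Groth.Agent.Helper9.SV1
import Groth.Agent.Helper9.RHB3
import Groth.Agent.Helper7.SegGorD

/-!
# Gorenstein fibres and invertibility of the relative dualizing complex (formal part)
-/

set_option autoImplicit false
set_option linter.style.haveILetI false
set_option linter.unusedSectionVars false

universe u
open CategoryTheory CategoryTheory.Limits Pretriangulated DerivedCategory TensorProduct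
attribute [local instance] HasDerivedCategory.standard

namespace Groth.Agent.Helper6.ShrGor
open Groth.Agent.Helper3.DRingLib Groth.Agent.Helper6.DK Groth.Agent.Helper6.LD
  Groth.Agent.Helper6.LocExt Groth.Agent.Helper6.DSch Groth.Agent.Helper6.FlatBC IsLocalRing
  Groth.Agent.Helper6 Groth.Agent.Helper9 Groth.Agent.Helper7 Groth.Agent.Helper6.GorLoc

section basic
variable {R S T : Type u} [CommRing R] [CommRing S] [CommRing T]

/-- derived base change of the unit -/
noncomputable def lbcSelf (φ : R →+* S) [DRing.HasLBaseChange φ] :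
    (DRing.LBaseChange φ).obj (Dual.inD R R) ≅ Dual.inD S S :=
  Groth.Agent.Helper9.RHB3.lbcUnit φ (Groth.Agent.Helper6.LBCAdj.adj φ)

/-- derived base change commutes with shifts -/
noncomputable def lbcShift (φ : R →+* S) [DRing.HasLBaseChange φ] (X : Dual.D R) (n : ℤ) :
    (DRing.LBaseChange φ).obj (X⟦n⟧) ≅ ((DRing.LBaseChange φ).obj X)⟦n⟧ := by
  letI := (Groth.Agent.Helper6.LBCAdj.adj φ).leftAdjointCommShift ℤ
  exact ((DRing.LBaseChange φ).commShiftIso n).app X

/-- transfer of a local trivialisation along a further base change -/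
theorem lbc_trans_shift (φ : R →+* S) (ψ : S →+* T) (χ : R →+* T) (h : χ = ψ.comp φ)
    [DRing.HasLBaseChange φ] [DRing.HasLBaseChange ψ] [DRing.HasLBaseChange χ]
    (D : Dual.D R) (n : ℤ)
    (e : (DRing.LBaseChange φ).obj D ≅ (Dual.inD S S)⟦n⟧) :
    Nonempty ((DRing.LBaseChange χ).obj D ≅ (Dual.inD T T)⟦n⟧) := by
  obtain ⟨e1⟩ := Groth.Agent.Helper9.SV1.lbc_comp φ ψ χ h
  exact ⟨e1.app D ≪≫ (DRing.LBaseChange ψ).mapIso e ≪≫ lbcShift ψ _ n ≪≫
    (shiftFunctor (Dual.D T) n).mapIso (lbcSelf ψ)⟩

end basic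

section fibre

lemma isUnit_quot (S : Type u) [CommRing S] [IsLocalRing S] (x : S ⧸ maximalIdeal S)
    (hx : x ≠ 0) : IsUnit x := by
  obtain ⟨s, rfl⟩ := Ideal.Quotient.mk_surjective x
  have hs : s ∉ maximalIdeal S := fun h => hx (Ideal.Quotient.eq_zero_iff_mem.mpr h)
  exact (IsLocalRing.notMem_maximalIdeal.mp hs).map (Ideal.Quotient.mk _)

lemma finrank_HD_inD_zero (κ : Type u) [CommRing κ] [Nontrivial κ] (j : ℤ) (hj : j = 0) :
    Module.finrank κ (Dual.HD κ (Dual.inD κ κ) j) = 1 := by
  subst hj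
  exact (((DerivedCategory.singleFunctorCompHomologyFunctorIso (ModuleCat.{u} κ) 0).app
    (ModuleCat.of κ κ)).toLinearEquiv.finrank_eq).trans (Module.finrank_self κ)

variable (S : Type u) [CommRing S] [IsNoetherianRing S] [IsLocalRing S]

/-- an object with finite cohomology, bounded above, whose derived fibre at the closed point is
a shift of the residue field, is a shift of the ring -/
theorem iso_shift_of_fibre
    [DRing.HasLBaseChange (algebraMap S (S ⧸ maximalIdeal S))]
    (K : Dual.D S)
    (hKfin : ∀ i : ℤ, Module.Finite S (Dual.HD S K i))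
    (hKbdd : ∃ b : ℤ, ∀ i : ℤ, b < i → Subsingleton (Dual.HD S K i))
    (n : ℤ)
    (e : (DRing.LBaseChange (algebraMap S (S ⧸ maximalIdeal S))).obj K ≅
      (Dual.inD (S ⧸ maximalIdeal S) (S ⧸ maximalIdeal S))⟦n⟧) :
    Nonempty (K ≅ (Dual.inD S S)⟦n⟧) := by
  have hI : maximalIdeal S ≤ Ideal.jacobson (⊥ : Ideal S) := by
    rw [IsLocalRing.jacobson_eq_maximalIdeal ⊥ bot_ne_top]
  have hR : ∀ J : Ideal S, J.FG → Module.FinitePresentation S J :=
    fun J _ => Module.finitePresentation_of_finite S J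
  have hKpc : DRing.IsPseudoCoherent' S K :=
    (Groth.Agent.Helper6.CohPC.main hR K hKbdd 0).2.2
      (fun i => by
        haveI := hKfin i
        exact Module.finitePresentation_of_finite S _)
  obtain ⟨-, -, P, hP⟩ := Groth.Agent.Helper6.MinCx.exists_minimal (maximalIdeal S) hI K hKpc
  obtain ⟨⟨b, hv⟩, hX, ⟨eP⟩⟩ := hP
  have hrank : ∀ i : ℤ, Module.finrank S (P.X i) = Module.finrank (S ⧸ maximalIdeal S)
      (Dual.HD (S ⧸ maximalIdeal S)
        (Dual.inD (S ⧸ maximalIdeal S) (S ⧸ maximalIdeal S)) (n + i)) := fun i =>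
    (hX i).2.2.trans
    ((((DerivedCategory.homologyFunctor _ i).mapIso e).toLinearEquiv ≪≫ₗ
      ((homologyShiftNatIso (A := S ⧸ maximalIdeal S) n i (n + i) rfl).app _).toLinearEquiv).finrank_eq)
  have hz : ∀ i : ℤ, i ≠ -n → IsZero (P.X i) := by
    intro i hi
    haveI : Subsingleton (Dual.HD (S ⧸ maximalIdeal S)
        (Dual.inD (S ⧸ maximalIdeal S) (S ⧸ maximalIdeal S)) (n + i)) := by
      rcases lt_or_gt_of_ne (show n + i ≠ 0 by omega) with h | h
      · exact subsingleton_HD_of_isGE _ 0 _ h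
      · exact subsingleton_HD_of_isLE _ 0 _ h
    have h0 : Module.finrank S (P.X i) = 0 :=
      (hrank i).trans (Module.finrank_zero_of_subsingleton)
    haveI := (hX i).1
    haveI := (hX i).2.1
    haveI := (Module.finrank_eq_zero_iff_of_free S (P.X i)).mp h0
    exact ModuleCat.isZero_of_subsingleton _
  have h1 : Module.finrank S (P.X (-n)) = 1 :=
    (hrank (-n)).trans (finrank_HD_inD_zero (S ⧸ maximalIdeal S) (n + -n) (by omega))
  haveI := (hX (-n)).1
  obtain ⟨u⟩ := Module.nonempty_linearEquiv_of_finrank_eq_one h1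
  obtain ⟨θ⟩ := Groth.Agent.Helper6.InvObj.toD_iso_shift P (-n) n (by omega) hz u
  exact ⟨eP.symm ≪≫ θ⟩

end fibre

section spread

variable {A : Type u} [CommRing A] [IsNoetherianRing A]

/-- spreading out a trivialisation at a prime -/
theorem exists_away_of_atPrime (D : Dual.D A) (a b : ℤ) [D.IsGE a] [D.IsLE b]
    (hf : ∀ i : ℤ, Module.Finite A (Dual.HD A D i)) (q : PrimeSpectrum A) (m : ℤ)
    (e : (bcD A (Localization.AtPrime q.asIdeal)).obj D ≅
      (Dual.inD (Localization.AtPrime q.asIdeal) (Localization.AtPrime q.asIdeal))⟦m⟧) :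
    ∃ t : A, t ∉ q.asIdeal ∧ Nonempty ((bcD A (Localization.Away t)).obj D ≅
      (Dual.inD (Localization.Away t) (Localization.Away t))⟦m⟧) := by
  haveI : ((Dual.inD A A)⟦m⟧).IsGE (0 - m) :=
    TStructure.t.isGE_shift (Dual.inD A A) 0 m (0 - m) (by omega)
  haveI : ((Dual.inD A A)⟦m⟧).IsLE (0 - m) :=
    TStructure.t.isLE_shift (Dual.inD A A) 0 m (0 - m) (by omega)
  have hYfin : ∀ i : ℤ, Module.Finite A (Dual.HD A ((Dual.inD A A)⟦m⟧) i) := fun i => by
    haveI := finite_HD_inD (A := A) A (m + i)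
    exact Module.Finite.equiv
      ((homologyShiftNatIso (A := A) m i (m + i) rfl).app (Dual.inD A A)).toLinearEquiv.symm
  let ψ : (bcD A (Localization.AtPrime q.asIdeal)).obj D ≅
      (bcD A (Localization.AtPrime q.asIdeal)).obj ((Dual.inD A A)⟦m⟧) :=
    e ≪≫ (shiftFunctor (Dual.D (Localization.AtPrime q.asIdeal)) m).mapIso
        (bcDSelfIso (Localization.AtPrime q.asIdeal)).symm ≪≫
      (((bcD A (Localization.AtPrime q.asIdeal)).commShiftIso m).app (Dual.inD A A)).symm
  obtain ⟨t, htp, ⟨θ⟩⟩ := spread_iso_away D ((Dual.inD A A)⟦m⟧)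
    (pc_of_finite D b hf) a b (0 - m) (0 - m) hf hYfin q ψ
  exact ⟨t, htp, ⟨θ ≪≫ (((bcD A (Localization.Away t)).commShiftIso m).app (Dual.inD A A)) ≪≫
    (shiftFunctor (Dual.D (Localization.Away t)) m).mapIso (bcDSelfIso (Localization.Away t))⟩⟩

/-- from the residue field at a prime to a basic open neighbourhood -/
theorem exists_away_of_residue (D : Dual.D A)
    (hb : ∃ a b : ℤ, ∀ i : ℤ, (i < a ∨ b < i) → Subsingleton (Dual.HD A D i))
    (hf : ∀ i : ℤ, Module.Finite A (Dual.HD A D i)) (q : PrimeSpectrum A) (m : ℤ)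
    [DRing.HasLBaseChange (algebraMap A (Localization.AtPrime q.asIdeal ⧸
      maximalIdeal (Localization.AtPrime q.asIdeal)))]
    (e : (DRing.LBaseChange (algebraMap A (Localization.AtPrime q.asIdeal ⧸
      maximalIdeal (Localization.AtPrime q.asIdeal)))).obj D ≅
        (Dual.inD (Localization.AtPrime q.asIdeal ⧸ maximalIdeal (Localization.AtPrime q.asIdeal))
          (Localization.AtPrime q.asIdeal ⧸ maximalIdeal (Localization.AtPrime q.asIdeal)))⟦m⟧) :
    ∃ t : A, t ∉ q.asIdeal ∧ Nonempty ((bcD A (Localization.Away t)).obj D ≅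
      (Dual.inD (Localization.Away t) (Localization.Away t))⟦m⟧) := by
  obtain ⟨a, b, hab⟩ := hb
  haveI : D.IsGE a := isGE_of_HD D a (fun i hi => hab i (Or.inl hi))
  haveI : D.IsLE b := isLE_of_HD D b (fun i hi => hab i (Or.inr hi))
  haveI : IsNoetherianRing (Localization.AtPrime q.asIdeal) :=
    IsLocalization.isNoetherianRing q.asIdeal.primeCompl _ inferInstance
  haveI := HasLBC.hasLBaseChange (algebraMap A (Localization.AtPrime q.asIdeal))
  haveI := HasLBC.hasLBaseChange (algebraMap (Localization.AtPrime q.asIdeal)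
    (Localization.AtPrime q.asIdeal ⧸ maximalIdeal (Localization.AtPrime q.asIdeal)))
  obtain ⟨c⟩ := SV1.lbc_comp (algebraMap A (Localization.AtPrime q.asIdeal))
    (algebraMap (Localization.AtPrime q.asIdeal)
      (Localization.AtPrime q.asIdeal ⧸ maximalIdeal (Localization.AtPrime q.asIdeal)))
    (algebraMap A (Localization.AtPrime q.asIdeal ⧸ maximalIdeal (Localization.AtPrime q.asIdeal)))
    (IsScalarTower.algebraMap_eq A (Localization.AtPrime q.asIdeal) _)
  have hKfin : ∀ i : ℤ, Module.Finite (Localization.AtPrime q.asIdeal)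
      (Dual.HD (Localization.AtPrime q.asIdeal)
        ((bcD A (Localization.AtPrime q.asIdeal)).obj D) i) :=
    fun i => FBC.finite_HD_bcD (Localization.AtPrime q.asIdeal) D hf i
  have hKbdd : ∃ b' : ℤ, ∀ i : ℤ, b' < i → Subsingleton
      (Dual.HD (Localization.AtPrime q.asIdeal)
        ((bcD A (Localization.AtPrime q.asIdeal)).obj D) i) := ⟨b, fun i hi => by
    obtain ⟨l⟩ := nonempty_HD_bcD_equiv (Localization.AtPrime q.asIdeal) D i
    haveI := hab i (Or.inr hi)
    haveI : Subsingleton (Localization.AtPrime q.asIdeal ⊗[A] Dual.HD A D i) := ⟨fun x y => by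
      have h0 : ∀ z : Localization.AtPrime q.asIdeal ⊗[A] Dual.HD A D i, z = 0 := fun z => by
        induction z using TensorProduct.induction_on with
        | zero => rfl
        | tmul s x => rw [Subsingleton.elim x 0, TensorProduct.tmul_zero]
        | add x y hx hy => rw [hx, hy, add_zero]
      rw [h0 x, h0 y]⟩
    exact l.toEquiv.subsingleton⟩
  obtain ⟨θ⟩ := iso_shift_of_fibre (Localization.AtPrime q.asIdeal)
    ((bcD A (Localization.AtPrime q.asIdeal)).obj D) hKfin hKbdd m
    ((DRing.LBaseChange (algebraMap (Localization.AtPrime q.asIdeal)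
      (Localization.AtPrime q.asIdeal ⧸ maximalIdeal (Localization.AtPrime q.asIdeal)))).mapIso
        (lbcIsoBcD A (Localization.AtPrime q.asIdeal) D).symm ≪≫ (c.app D).symm ≪≫ e)
  exact exists_away_of_atPrime D a b hf q m θ

end spread

section field

/-- over a Gorenstein ring the derived fibres of a dualizing complex at points with values in a
field are shifts of the field -/
theorem fibre_iso_of_gorenstein {B F : Type u} [CommRing B] [IsNoetherianRing B] [CommRing F]
    [IsDomain F] (hF : ∀ x : F, x ≠ 0 → IsUnit x)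
    (ω : Dual.D B) (hω : Dual.IsDualizing B ω)
    (hG : ∀ (Q : Ideal B) [Q.IsPrime], LocCoh.IsGorensteinLocalRing (Localization.AtPrime Q))
    (β : B →+* F) [DRing.HasLBaseChange β] :
    ∃ m : ℤ, Nonempty ((DRing.LBaseChange β).obj ω ≅ (Dual.inD F F)⟦m⟧) := by
  haveI hQ : (RingHom.ker β).IsPrime := RingHom.ker_isPrime β
  obtain ⟨t, m, ht, ⟨θ⟩⟩ := exists_away_iso_shift ω hω ⟨RingHom.ker β, hQ⟩ (hG (RingHom.ker β))
  haveI := HasLBC.hasLBaseChange (algebraMap B (Localization.Away t))
  have hu : IsUnit (β t) := hF _ (fun h => ht ((RingHom.mem_ker).mpr h))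
  obtain ⟨ρ, hρ⟩ : ∃ ρ : Localization.Away t →+* F,
      β = ρ.comp (algebraMap B (Localization.Away t)) :=
    ⟨IsLocalization.Away.lift t hu, (IsLocalization.Away.lift_comp t hu).symm⟩
  haveI := HasLBC.hasLBaseChange ρ
  exact ⟨m, lbc_trans_shift (algebraMap B (Localization.Away t)) ρ β hρ ω m
    (lbcIsoBcD B (Localization.Away t) ω ≪≫ θ)⟩

/-- the point of the fibre over `p` defined by a prime `q` over `p` -/
theorem exists_beta (R A : Type u) [CommRing R] [CommRing A] [Algebra R A] (q : Ideal A)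
    [q.IsPrime] (p : Ideal R) [p.IsPrime] (hpq : p = q.comap (algebraMap R A)) :
    ∃ β : (p.ResidueField ⊗[R] A) →+*
        (Localization.AtPrime q ⧸ maximalIdeal (Localization.AtPrime q)),
      β.comp (Algebra.TensorProduct.includeRight : A →ₐ[R] p.ResidueField ⊗[R] A).toRingHom =
        algebraMap A (Localization.AtPrime q ⧸ maximalIdeal (Localization.AtPrime q)) := by
  have hmem : ∀ r : R,
      algebraMap R (Localization.AtPrime q ⧸ maximalIdeal (Localization.AtPrime q)) r = 0 ↔
        r ∈ p := by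
    intro r
    rw [IsScalarTower.algebraMap_apply R (Localization.AtPrime q)
        (Localization.AtPrime q ⧸ maximalIdeal (Localization.AtPrime q)),
      Ideal.Quotient.algebraMap_eq, Ideal.Quotient.eq_zero_iff_mem,
      IsScalarTower.algebraMap_apply R A (Localization.AtPrime q),
      IsLocalization.AtPrime.to_map_mem_maximal_iff (Localization.AtPrime q) q, hpq,
      Ideal.mem_comap]
  let f : p.ResidueField →ₐ[R]
      (Localization.AtPrime q ⧸ maximalIdeal (Localization.AtPrime q)) :=
    Ideal.ResidueField.liftₐ p (Algebra.ofId R _)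
      (fun r hr => (RingHom.mem_ker).mpr ((hmem r).mpr hr))
      (fun r hr => by
        show IsUnit (algebraMap R
          (Localization.AtPrime q ⧸ maximalIdeal (Localization.AtPrime q)) r)
        exact isUnit_quot _ _ (fun h => hr ((hmem r).mp h)))
  refine ⟨(Algebra.TensorProduct.lift f (IsScalarTower.toAlgHom R A
    (Localization.AtPrime q ⧸ maximalIdeal (Localization.AtPrime q)))
      (fun _ _ => Commute.all _ _)).toRingHom, ?_⟩
  ext a
  show (Algebra.TensorProduct.lift f (IsScalarTower.toAlgHom R A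
    (Localization.AtPrime q ⧸ maximalIdeal (Localization.AtPrime q)))
      (fun _ _ => Commute.all _ _)) ((1 : p.ResidueField) ⊗ₜ[R] a) = _
  rw [Algebra.TensorProduct.lift_tmul, map_one, one_mul]
  rfl

end field

section main

variable (R A : Type u) [CommRing R] [CommRing A] [IsNoetherianRing A] [Algebra R A]
  (D : Dual.D A)
  (hb : ∃ a b : ℤ, ∀ i : ℤ, (i < a ∨ b < i) → Subsingleton (Dual.HD A D i))
  (hf : ∀ i : ℤ, Module.Finite A (Dual.HD A D i))
  (hfib : ∀ (k : Type u) [Field k] [Algebra R k]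
    [DRing.HasLBaseChange (Algebra.TensorProduct.includeRight : A →ₐ[R] k ⊗[R] A).toRingHom],
    Dual.IsDualizing (k ⊗[R] A)
      ((DRing.LBaseChange (Algebra.TensorProduct.includeRight : A →ₐ[R] k ⊗[R] A).toRingHom).obj D))

include hb hf hfib in
theorem forward (p : Ideal R) [p.IsPrime]
    (hG : LocCoh.IsGorensteinRing (A ⊗[R] p.ResidueField)) (q : PrimeSpectrum A)
    (hpq : p = q.asIdeal.comap (algebraMap R A))
    [hL : ∀ f : A, DRing.HasLBaseChange (algebraMap A (Localization.Away f))] :
    ∃ (f : A) (_ : f ∉ q.asIdeal) (m : ℤ),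
      Nonempty ((DRing.LBaseChange (algebraMap A (Localization.Away f))).obj D ≅
        (Dual.inD (Localization.Away f) (Localization.Away f))⟦m⟧) := by
  haveI := HasLBC.hasLBaseChange
    (Algebra.TensorProduct.includeRight : A →ₐ[R] p.ResidueField ⊗[R] A).toRingHom
  have hωB := hfib p.ResidueField
  haveI : IsNoetherianRing (p.ResidueField ⊗[R] A) := hωB.isNoetherianRing
  haveI hGB : LocCoh.IsGorensteinRing (p.ResidueField ⊗[R] A) :=
    SegGor.gorenstein_of_ringEquiv (Algebra.TensorProduct.comm R A p.ResidueField).toRingEquiv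
  obtain ⟨β, hβ⟩ := exists_beta R A q.asIdeal p hpq
  haveI := HasLBC.hasLBaseChange β
  obtain ⟨m, ⟨e1⟩⟩ := fibre_iso_of_gorenstein (isUnit_quot (Localization.AtPrime q.asIdeal))
    _ hωB (fun Q _ => hGB.isGorensteinLocalRing_localization Q) β
  haveI := HasLBC.hasLBaseChange (algebraMap A (Localization.AtPrime q.asIdeal ⧸
    maximalIdeal (Localization.AtPrime q.asIdeal)))
  obtain ⟨c⟩ := SV1.lbc_comp
    (Algebra.TensorProduct.includeRight : A →ₐ[R] p.ResidueField ⊗[R] A).toRingHom β
    (algebraMap A (Localization.AtPrime q.asIdeal ⧸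
      maximalIdeal (Localization.AtPrime q.asIdeal))) hβ.symm
  obtain ⟨t, ht, ⟨θ⟩⟩ := exists_away_of_residue D hb hf q m (c.app D ≪≫ e1)
  exact ⟨t, ht, m, ⟨lbcIsoBcD A (Localization.Away t) D ≪≫ θ⟩⟩

include hfib in
theorem backward [hL : ∀ f : A, DRing.HasLBaseChange (algebraMap A (Localization.Away f))]
    (hloc : ∀ q : PrimeSpectrum A, ∃ (f : A) (_ : f ∉ q.asIdeal) (m : ℤ),
      Nonempty ((DRing.LBaseChange (algebraMap A (Localization.Away f))).obj D ≅
        (Dual.inD (Localization.Away f) (Localization.Away f))⟦m⟧))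
    (k : Type u) [Field k] [Algebra R k] : LocCoh.IsGorensteinRing (A ⊗[R] k) := by
  haveI := HasLBC.hasLBaseChange (Algebra.TensorProduct.includeRight : A →ₐ[R] k ⊗[R] A).toRingHom
  have hωB := hfib k
  haveI : IsNoetherianRing (k ⊗[R] A) := hωB.isNoetherianRing
  haveI hGB : LocCoh.IsGorensteinRing (k ⊗[R] A) :=
    { isGorensteinLocalRing_localization := fun Q hQ => by
        obtain ⟨f, hfq, m, ⟨e⟩⟩ := hloc ⟨Q.comap
          (Algebra.TensorProduct.includeRight : A →ₐ[R] k ⊗[R] A).toRingHom, inferInstance⟩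
        have hfQ : (Algebra.TensorProduct.includeRight : A →ₐ[R] k ⊗[R] A).toRingHom f ∈
            Q.primeCompl := hfq
        have hunit : IsUnit (((algebraMap (k ⊗[R] A) (Localization.AtPrime Q)).comp
            (Algebra.TensorProduct.includeRight : A →ₐ[R] k ⊗[R] A).toRingHom) f) :=
          IsLocalization.map_units (Localization.AtPrime Q) ⟨_, hfQ⟩
        obtain ⟨ψ', hψ'⟩ : ∃ ψ' : Localization.Away f →+* Localization.AtPrime Q,
            (algebraMap (k ⊗[R] A) (Localization.AtPrime Q)).comp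
              (Algebra.TensorProduct.includeRight : A →ₐ[R] k ⊗[R] A).toRingHom =
              ψ'.comp (algebraMap A (Localization.Away f)) :=
          ⟨IsLocalization.Away.lift f hunit, (IsLocalization.Away.lift_comp f hunit).symm⟩
        haveI := HasLBC.hasLBaseChange ψ'
        haveI := HasLBC.hasLBaseChange ((algebraMap (k ⊗[R] A) (Localization.AtPrime Q)).comp
          (Algebra.TensorProduct.includeRight : A →ₐ[R] k ⊗[R] A).toRingHom)
        haveI := HasLBC.hasLBaseChange (algebraMap (k ⊗[R] A) (Localization.AtPrime Q))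
        obtain ⟨e1⟩ := lbc_trans_shift (algebraMap A (Localization.Away f)) ψ' _ hψ' D m e
        obtain ⟨e2⟩ := SV1.lbc_comp
          (Algebra.TensorProduct.includeRight : A →ₐ[R] k ⊗[R] A).toRingHom
          (algebraMap (k ⊗[R] A) (Localization.AtPrime Q))
          ((algebraMap (k ⊗[R] A) (Localization.AtPrime Q)).comp
            (Algebra.TensorProduct.includeRight : A →ₐ[R] k ⊗[R] A).toRingHom) rfl
        have hd := isDualizing_bcD Q.primeCompl (Localization.AtPrime Q) _ hωB
        haveI : IsNoetherianRing (Localization.AtPrime Q) := hd.isNoetherianRing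
        have hd' : Dual.IsDualizing (Localization.AtPrime Q)
            ((Dual.inD (Localization.AtPrime Q) (Localization.AtPrime Q))⟦m⟧) :=
          isDualizing_of_iso ((lbcIsoBcD (k ⊗[R] A) (Localization.AtPrime Q) _).symm ≪≫
            (e2.app D).symm ≪≫ e1) hd
        obtain ⟨n0, hn0⟩ := Groth.Agent.Helper6.DualSelf.exists_injdim_of_isDualizing
          (Localization.AtPrime Q) (isDualizing_of_shift _ m hd')
        exact { exists_hasInjectiveDimensionLT := ⟨n0, hn0⟩ } }
  exact SegGor.gorenstein_of_ringEquiv (Algebra.TensorProduct.comm R k A).toRingEquiv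

include hb hf hfib in
theorem main [hL : ∀ f : A, DRing.HasLBaseChange (algebraMap A (Localization.Away f))] :
    (∀ p : PrimeSpectrum R, LocCoh.IsGorensteinRing (A ⊗[R] p.asIdeal.ResidueField)) ↔
      (∀ q : PrimeSpectrum A, ∃ (f : A) (_ : f ∉ q.asIdeal) (m : ℤ),
        Nonempty ((DRing.LBaseChange (algebraMap A (Localization.Away f))).obj D ≅
          (Dual.inD (Localization.Away f) (Localization.Away f))⟦m⟧)) := by
  constructor
  · intro hG q
    exact forward R A D hb hf hfib (q.asIdeal.comap (algebraMap R A))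
      (hG ⟨q.asIdeal.comap (algebraMap R A), inferInstance⟩) q rfl
  · intro hloc p
    exact backward R A D hfib hloc p.asIdeal.ResidueField

end main

end Groth.Agent.Helper6.ShrGor
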