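import Mathlib
import Groth.Prelude.Def_DualSh
import Groth.Agent.Helper6.GorFib1
import Groth.Agent.Helper6.Coext4
import Groth.Agent.Helper6.FBC2
import Groth.Agent.Helper6.LD1
import Groth.Agent.Helper6.LD4
import Groth.Agent.Helper6.InvLoc
import Groth.Agent.Helper6.LocExt5
import Groth.Agent.Helper6.HasLBC
import Groth.Agent.Helper6.ShrGor1
import Groth.Agent.Helper3.DRingPC2
import Groth.Agent.Helper3.DRingDev
import Groth.Agent.Helper9.BR3

/-!
# `H^j(RHom_T(T/J, K))` as `Ext^j_T(T/J, K)`, semilinearly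
-/

set_option autoImplicit false
set_option linter.style.haveILetI false
set_option linter.unusedSectionVars false

universe u
open CategoryTheory CategoryTheory.Limits Pretriangulated DerivedCategory TensorProduct
attribute [local instance] HasDerivedCategory.standard

namespace Groth.Agent.Helper6.ExtShr
open Groth.Agent.Helper3.DRingLib Groth.Agent.Helper6.Coext Groth.Agent.Helper6.LocExt
  Groth.Agent.Helper6.FBC Groth.Agent.Helper6.GorFib Groth.Agent.Helper6.FlatBC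
  Groth.Agent.Helper6 Groth.Agent.Helper9

section Semi

variable {T : Type u} [CommRing T] (J : Ideal T) (K : Dual.D T) (Y : Dual.D (T ⧸ J))
  (ε : (DRing.restrictD (algebraMap T (T ⧸ J))).obj Y ⟶ K)
  (h : IsCoext (algebraMap T (T ⧸ J)) K Y ε)

/-- the representing bijection, additive -/
noncomputable def coextAdd (X : Dual.D (T ⧸ J)) :
    (X ⟶ Y) ≃+ ((DRing.restrictD (algebraMap T (T ⧸ J))).obj X ⟶ K) :=
  { Equiv.ofBijective
      (fun g : X ⟶ Y => (DRing.restrictD (algebraMap T (T ⧸ J))).map g ≫ ε) (h X) with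
    map_add' := fun g g' => by
      show (DRing.restrictD (algebraMap T (T ⧸ J))).map (g + g') ≫ ε =
        (DRing.restrictD (algebraMap T (T ⧸ J))).map g ≫ ε +
          (DRing.restrictD (algebraMap T (T ⧸ J))).map g' ≫ ε
      rw [Functor.map_add, Preadditive.add_comp] }

lemma coextAdd_apply (X : Dual.D (T ⧸ J)) (g : X ⟶ Y) :
    coextAdd J K Y ε h X g = (DRing.restrictD (algebraMap T (T ⧸ J))).map g ≫ ε := rfl

lemma coextAdd_smul (X : Dual.D (T ⧸ J)) (t : T) (g : X ⟶ Y) :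
    coextAdd J K Y ε h X (algebraMap T (T ⧸ J) t • g) = t • coextAdd J K Y ε h X g := by
  rw [coextAdd_apply, coextAdd_apply]
  have h1 := RD_map_smul' (A := T) (B := T ⧸ J) t g
  rw [h1, Linear.smul_comp]

/-- `T/J` in degree `j` over `T` is the restriction of `T/J` in degree `j` over `T/J` -/
noncomputable def τ (j : ℤ) :
    (singleFunctor (ModuleCat.{u} T) j).obj (ModuleCat.of T (T ⧸ J)) ≅
      (DRing.restrictD (algebraMap T (T ⧸ J))).obj (Gn (T ⧸ J) j) :=
  (singleFunctor (ModuleCat.{u} T) j).mapIso (quotRestrIso J) ≪≫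
    (rDSingle (algebraMap T (T ⧸ J)) j (ModuleCat.of (T ⧸ J) (T ⧸ J))).symm

/-- the `T`-linear part of the comparison -/
noncomputable def linPart (j : ℤ) :
    ((DRing.restrictD (algebraMap T (T ⧸ J))).obj (Gn (T ⧸ J) j) ⟶ K) ≃ₗ[T]
      (Dual.inD T (T ⧸ J) ⟶ K⟦j⟧) :=
  Linear.homCongr T (τ J j).symm (Iso.refl K) ≪≫ₗ
    Linear.homCongr T
      (((DerivedCategory.singleFunctors (ModuleCat.{u} T)).shiftIso (-j) j 0 (by omega)).app
        (ModuleCat.of T (T ⧸ J))).symm (Iso.refl K) ≪≫ₗ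
    Groth.Agent.Helper6.LD.shiftHomEquiv' (Dual.inD T (T ⧸ J)) K (-j) j (by omega)

/-- **`H^j(Y) ≃ Hom_{D(T)}(T/J, K[j])`** for a coextension `Y` of `K`, additive and semilinear -/
noncomputable def Φadd (j : ℤ) : Dual.HD (T ⧸ J) Y j ≃+ (Dual.inD T (T ⧸ J) ⟶ K⟦j⟧) :=
  ((LinearEquiv.ofBijective (ev Y j) (ev_bijective Y j)).symm.toAddEquiv).trans
    ((coextAdd J K Y ε h (Gn (T ⧸ J) j)).trans (linPart J K j).toAddEquiv)

lemma Φadd_smul (j : ℤ) (t : T) (w : Dual.HD (T ⧸ J) Y j) :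
    Φadd J K Y ε h j (algebraMap T (T ⧸ J) t • w) = t • Φadd J K Y ε h j w := by
  show (linPart J K j) (coextAdd J K Y ε h _
      ((LinearEquiv.ofBijective (ev Y j) (ev_bijective Y j)).symm
        (algebraMap T (T ⧸ J) t • w))) =
    t • (linPart J K j) (coextAdd J K Y ε h _
      ((LinearEquiv.ofBijective (ev Y j) (ev_bijective Y j)).symm w))
  rw [LinearEquiv.map_smul, coextAdd_smul, LinearEquiv.map_smul]

end Semi

section ExtCmp

variable {T : Type u} [CommRing T] (J : Ideal T) (Y : Dual.D (T ⧸ J))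
  (ε : (DRing.restrictD (algebraMap T (T ⧸ J))).obj Y ⟶ Dual.inD T T)
  (h : IsCoext (algebraMap T (T ⧸ J)) (Dual.inD T T) Y ε)

/-- **`H^m(RHom_T(T/J, T)) ≃ Ext^m_T(T/J, T)`**, additive and semilinear -/
noncomputable def extAdd (m : ℕ) : Dual.HD (T ⧸ J) Y (m : ℤ) ≃+
    Abelian.Ext.{u} (ModuleCat.of T (T ⧸ J)) (ModuleCat.of T T) m :=
  (Φadd J (Dual.inD T T) Y ε h (m : ℤ)).trans
    (Abelian.Ext.homLinearEquiv (R := T) (X := ModuleCat.of T (T ⧸ J))
      (Y := ModuleCat.of T T) (n := m)).symm.toAddEquiv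

lemma extAdd_smul (m : ℕ) (t : T) (w : Dual.HD (T ⧸ J) Y (m : ℤ)) :
    extAdd J Y ε h m (algebraMap T (T ⧸ J) t • w) = t • extAdd J Y ε h m w := by
  show (Abelian.Ext.homLinearEquiv (R := T) (X := ModuleCat.of T (T ⧸ J))
      (Y := ModuleCat.of T T) (n := m)).symm
        (Φadd J (Dual.inD T T) Y ε h (m : ℤ) (algebraMap T (T ⧸ J) t • w)) =
    t • (Abelian.Ext.homLinearEquiv (R := T) (X := ModuleCat.of T (T ⧸ J))
      (Y := ModuleCat.of T T) (n := m)).symm (Φadd J (Dual.inD T T) Y ε h (m : ℤ) w)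
  rw [Φadd_smul]
  exact LinearEquiv.map_smul _ t _

include h in
/-- negative cohomology vanishes -/
lemma subsingleton_HD_neg (j : ℤ) (hj : j < 0) : Subsingleton (Dual.HD (T ⧸ J) Y j) := by
  haveI : Subsingleton (Dual.inD T (T ⧸ J) ⟶ (Dual.inD T T)⟦j⟧) := by
    refine ⟨fun f g => ?_⟩
    have hsh : ((Dual.inD T T)⟦j⟧).IsGE (-j) :=
      TStructure.t.isGE_shift (Dual.inD T T) 0 j (-j) (by omega)
    have h0 : ∀ f : Dual.inD T (T ⧸ J) ⟶ (Dual.inD T T)⟦j⟧, f = 0 := fun f =>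
      TStructure.t.zero_of_isLE_of_isGE f 0 (-j) (by omega) inferInstance hsh
    rw [h0 f, h0 g]
  exact (Φadd J (Dual.inD T T) Y ε h j).toEquiv.subsingleton

end ExtCmp

end Groth.Agent.Helper6.ExtShr
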