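import Mathlib
import Groth.Prelude.Def_DRing4
import Groth.Agent.Helper6.RHomInj
import Groth.Agent.Helper6.DualCx
import Groth.Agent.Helper3.DRing1
import Groth.Agent.Helper3.DRingInjAmp

set_option autoImplicit false
set_option linter.style.haveILetI false
set_option linter.unusedSectionVars false

/-!
# The dual of a perfect complex is perfect, and biduality
-/

universe u
open CategoryTheory Limits DerivedCategory

namespace Groth.Agent.Helper6.PerfDual
open Groth.Agent.Helper6.DualCx Groth.Agent.Helper6.HomCxPre Groth.Agent.Helper6.RHomInj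

attribute [local instance] HasDerivedCategory.standard

variable {A : Type u} [CommRing A]

/-- `RHom(E, A) ≅ Hom•(P, A[0])` for a bounded above complex of projectives `P` quasi-isomorphic
to `E` -/
theorem rhom_dual (P : DRing.Cx A) (b : ℤ) (hPb : DRing.VanishesAbove P b)
    (hPp : ∀ i, Module.Projective A (P.X i)) (K : Dual.D A) (eP : DRing.toD P ≅ K)
    (E : DRing.Cx A) (eK : DRing.toD E ≅ K) [DRing.HasRHomCx E] :
    Nonempty ((DRing.RHomCx E).obj (Dual.inD A A) ≅
      DRing.toD (DRing.homCx P (sg (ModuleCat.of A A)))) := by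
  haveI : P.IsKProjective :=
    Groth.Agent.Helper3.DRingLib.isKProjective_of_vanishesAbove P b hPb hPp
  obtain ⟨I, hI0, hIinj, ⟨eI⟩⟩ :=
    Groth.Agent.Helper3.DRingLib.exists_injective_rep (Dual.inD A A) 0
  haveI : I.IsKInjective :=
    Groth.Agent.Helper3.DRingLib.isKInjective_of_vanishesBelow I 0 hI0 hIinj
  obtain ⟨s, hs⟩ := Groth.Agent.Helper6.KProjQ.Q_map_surjective P E (eP.hom ≫ eK.inv)
  haveI : IsIso (Q.map s) := by
    rw [hs]
    infer_instance
  haveI : QuasiIso s := (isIso_Q_map_iff_quasiIso (ModuleCat.{u} A) s).mp inferInstance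
  let eω : Dual.inD A A ≅ Q.obj (sg (ModuleCat.of A A)) :=
    (DerivedCategory.singleFunctorIsoCompQ (ModuleCat.{u} A) 0).app (ModuleCat.of A A)
  obtain ⟨t, ht⟩ := Groth.Agent.Helper9.PerfCone.exists_map_eq_of_isKInjective
    (sg (ModuleCat.of A A)) I (eω.inv ≫ eI.inv)
  haveI : IsIso (Q.map t) := by
    rw [ht]
    infer_instance
  haveI : QuasiIso t := (isIso_Q_map_iff_quasiIso (ModuleCat.{u} A) t).mp inferInstance
  haveI := quasiIso_homCxPre s I
  haveI := Groth.Agent.Helper6.RHomProj.quasiIso_homCxMap P t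
  haveI : IsIso (Q.map (homCxPre s I)) :=
    (isIso_Q_map_iff_quasiIso (ModuleCat.{u} A) _).mpr inferInstance
  haveI : IsIso (Q.map (DRing.homCxMap P t)) :=
    (isIso_Q_map_iff_quasiIso (ModuleCat.{u} A) _).mpr inferInstance
  exact ⟨(DRing.RHomCx E).mapIso eI.symm ≪≫ rhomIso E I ≪≫ asIso (Q.map (homCxPre s I)) ≪≫
    (asIso (Q.map (DRing.homCxMap P t))).symm⟩

theorem main (K : Dual.D A) (hK : DRing.IsPerfect A K)
    (E : DRing.Cx A) (eK : DRing.toD E ≅ K) [DRing.HasRHomCx E] :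
    DRing.IsPerfect A ((DRing.RHomCx E).obj (Dual.inD A A)) ∧
      ∀ (E' : DRing.Cx A) (_ : DRing.toD E' ≅ (DRing.RHomCx E).obj (Dual.inD A A))
        [DRing.HasRHomCx E'],
        Nonempty ((DRing.RHomCx E').obj (Dual.inD A A) ≅ K) := by
  obtain ⟨P, a, b, hv, hp, ⟨eP⟩⟩ := hK
  have hPb : DRing.VanishesAbove P b := fun i hi => hv i (Or.inr hi)
  obtain ⟨φ⟩ := rhom_dual P b hPb (fun i => (hp i).2) K eP E eK
  have hPdv : DRing.VanishesOutside (DRing.homCx P (sg (ModuleCat.of A A))) (-b) (-a) := by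
    intro i hi
    refine dual_term_isZero P (ModuleCat.of A A) (show -i + i = 0 by omega) (hv (-i) ?_)
    omega
  have hPdp : DRing.TermwiseFiniteProjective (DRing.homCx P (sg (ModuleCat.of A A))) :=
    fun i => dual_term_props P (show -i + i = 0 by omega) (hp (-i)).1 (hp (-i)).2
  refine ⟨⟨_, -b, -a, hPdv, hPdp, ⟨φ.symm⟩⟩, ?_⟩
  intro E' eK' _
  obtain ⟨φ'⟩ := rhom_dual (DRing.homCx P (sg (ModuleCat.of A A))) (-a)
    (fun i hi => hPdv i (Or.inr hi)) (fun i => (hPdp i).2) _ φ.symm E' eK'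
  exact ⟨φ' ≪≫ (Q.mapIso (ddIso P hp)).symm ≪≫ eP⟩

end Groth.Agent.Helper6.PerfDual
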