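import Mathlib
import Groth.Agent.Helper6.ExtShr1
import Groth.Agent.S1786

/-!
# `Ext^{N-n}_P(P/I, P)` invertible iff Gorenstein fibres
-/

set_option autoImplicit false
set_option linter.style.haveILetI false
set_option linter.unusedSectionVars false

universe u
open CategoryTheory CategoryTheory.Limits Pretriangulated DerivedCategory TensorProduct
attribute [local instance] HasDerivedCategory.standard

namespace Groth.Agent.Helper6.ExtShr
open Groth.Agent.Helper3.DRingLib Groth.Agent.Helper6.Coext Groth.Agent.Helper6.LocExt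
  Groth.Agent.Helper6.FBC Groth.Agent.Helper6.GorFib Groth.Agent.Helper6.FlatBC
  Groth.Agent.Helper6 Groth.Agent.Helper9

section Loc

variable {B : Type u} [CommRing B]

/-- cohomology of a localization -/
theorem nonempty_HD_lbc_equiv (g : B) [DRing.HasLBaseChange (algebraMap B (Localization.Away g))]
    (Z : Dual.D B) (i : ℤ) :
    Nonempty (Dual.HD (Localization.Away g)
        ((DRing.LBaseChange (algebraMap B (Localization.Away g))).obj Z) i
      ≃ₗ[Localization.Away g] LocalizedModule.Away g (Dual.HD B Z i)) := by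
  obtain ⟨e5⟩ := nonempty_HD_bcD_equiv (Localization.Away g) Z i
  exact ⟨((homologyFunctor (ModuleCat.{u} (Localization.Away g)) i).mapIso
      (lbcIsoBcD B (Localization.Away g) Z)).toLinearEquiv ≪≫ₗ e5 ≪≫ₗ
    (IsLocalizedModule.isBaseChange (Submonoid.powers g) (Localization.Away g)
      (LocalizedModule.mkLinearMap (Submonoid.powers g) (Dual.HD B Z i))).equiv⟩

lemma subsingleton_localizedModule (S : Submonoid B) (M : Type u) [AddCommGroup M] [Module B M]
    [Subsingleton M] : Subsingleton (LocalizedModule S M) := by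
  refine ⟨fun x y => ?_⟩
  induction x using LocalizedModule.induction_on with
  | _ m s =>
    induction y using LocalizedModule.induction_on with
    | _ m' s' =>
      rw [Subsingleton.elim m 0, Subsingleton.elim m' 0, LocalizedModule.zero_mk,
        LocalizedModule.zero_mk]

lemma nonempty_HD_unit_shift (S : Type u) [CommRing S] (m i : ℤ) (h : m + i = 0) :
    Nonempty (Dual.HD S ((Dual.inD S S)⟦m⟧) i ≃ₗ[S] S) :=
  ⟨hdShift (Dual.inD S S) m i 0 h ≪≫ₗ (HDinDIso (ModuleCat.of S S)).toLinearEquiv⟩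

/-- if a localization of `Z` is a shifted unit and `Z` has cohomology only in degree `k`, the
localization of `H^k(Z)` is free of rank one -/
theorem loc_free_of_iso (f : B) [DRing.HasLBaseChange (algebraMap B (Localization.Away f))]
    [Nontrivial (Localization.Away f)] (Z : Dual.D B) (k : ℤ)
    (hZ : ∀ i : ℤ, i ≠ k → Subsingleton (Dual.HD B Z i)) (m : ℤ)
    (e : (DRing.LBaseChange (algebraMap B (Localization.Away f))).obj Z ≅
      (Dual.inD (Localization.Away f) (Localization.Away f))⟦m⟧) :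
    Nonempty (LocalizedModule.Away f (Dual.HD B Z k) ≃ₗ[Localization.Away f]
      Localization.Away f) := by
  obtain ⟨e1⟩ := nonempty_HD_lbc_equiv f Z (-m)
  obtain ⟨e3⟩ := nonempty_HD_unit_shift (Localization.Away f) m (-m) (by omega)
  let e2 := ((homologyFunctor (ModuleCat.{u} (Localization.Away f)) (-m)).mapIso e).toLinearEquiv
  by_cases hk : -m = k
  · subst hk
    exact ⟨e1.symm ≪≫ₗ e2 ≪≫ₗ e3⟩
  · exfalso
    haveI := hZ (-m) hk
    haveI : Subsingleton (LocalizedModule.Away f (Dual.HD B Z (-m))) :=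
      subsingleton_localizedModule _ _
    haveI : Subsingleton (Localization.Away f) :=
      (e1.symm ≪≫ₗ e2 ≪≫ₗ e3).symm.toEquiv.subsingleton
    exact false_of_nontrivial_of_subsingleton (Localization.Away f)

/-- conversely -/
theorem iso_of_loc_free (f : B) [DRing.HasLBaseChange (algebraMap B (Localization.Away f))]
    (Z : Dual.D B) (k : ℤ)
    (hZ : ∀ i : ℤ, i ≠ k → Subsingleton (Dual.HD B Z i))
    (u : LocalizedModule.Away f (Dual.HD B Z k) ≃ₗ[Localization.Away f] Localization.Away f) :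
    Nonempty ((DRing.LBaseChange (algebraMap B (Localization.Away f))).obj Z ≅
      (Dual.inD (Localization.Away f) (Localization.Away f))⟦-k⟧) := by
  have hsub : ∀ i : ℤ, i ≠ k → Subsingleton (Dual.HD (Localization.Away f)
      ((DRing.LBaseChange (algebraMap B (Localization.Away f))).obj Z) i) := fun i hi => by
    obtain ⟨e1⟩ := nonempty_HD_lbc_equiv f Z i
    haveI := hZ i hi
    haveI : Subsingleton (LocalizedModule.Away f (Dual.HD B Z i)) :=
      subsingleton_localizedModule _ _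
    exact e1.toEquiv.subsingleton
  haveI : ((DRing.LBaseChange (algebraMap B (Localization.Away f))).obj Z).IsGE k :=
    isGE_of_HD _ k (fun i hi => hsub i (by omega))
  haveI : ((DRing.LBaseChange (algebraMap B (Localization.Away f))).obj Z).IsLE k :=
    isLE_of_HD _ k (fun i hi => hsub i (by omega))
  obtain ⟨e0⟩ := exists_iso_single_HD
    ((DRing.LBaseChange (algebraMap B (Localization.Away f))).obj Z) k
  obtain ⟨e1⟩ := nonempty_HD_lbc_equiv f Z k
  exact ⟨e0 ≪≫ (shiftFunctor (Dual.D (Localization.Away f)) (-k)).mapIso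
    ((singleFunctor (ModuleCat.{u} (Localization.Away f)) 0).mapIso (e1 ≪≫ₗ u).toModuleIso)⟩

lemma nontrivial_away_of_notMem (q : Ideal B) [q.IsPrime] (f : B) (hf : f ∉ q) :
    Nontrivial (Localization.Away f) := by
  have hu : IsUnit (algebraMap B (Localization.AtPrime q) f) :=
    IsLocalization.map_units (Localization.AtPrime q) (⟨f, hf⟩ : q.primeCompl)
  exact (IsLocalization.Away.lift (S := Localization.Away f) f hu).domain_nontrivial

end Loc

section Generic

variable {T : Type u} [CommRing T] (J : Ideal T) (Y : Dual.D (T ⧸ J))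
  (ε : (DRing.restrictD (algebraMap T (T ⧸ J))).obj Y ⟶ Dual.inD T T)
  (h : IsCoext (algebraMap T (T ⧸ J)) (Dual.inD T T) Y ε)
  (N n : ℕ) (hnN : n ≤ N)
  (hvan : ∀ j : ℕ, j ≠ N - n →
    Subsingleton (Abelian.Ext.{u} (ModuleCat.of T (T ⧸ J)) (ModuleCat.of T T) j))

include h hnN hvan in
lemma subsingleton_HD_shift (i : ℤ) (hi : i ≠ -(n : ℤ)) :
    Subsingleton (Dual.HD (T ⧸ J) (Y⟦(N : ℤ)⟧) i) := by
  have e := hdShift Y (N : ℤ) i ((N : ℤ) + i) rfl
  suffices Subsingleton (Dual.HD (T ⧸ J) Y ((N : ℤ) + i)) from e.toEquiv.subsingleton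
  by_cases hneg : (N : ℤ) + i < 0
  · exact subsingleton_HD_neg J Y ε h _ hneg
  · obtain ⟨m, hm⟩ := Int.eq_ofNat_of_zero_le (by omega : 0 ≤ (N : ℤ) + i)
    rw [hm]
    have hmc : m ≠ N - n := by
      intro hmc
      apply hi
      have h1 : ((N - n : ℕ) : ℤ) = (N : ℤ) - n := Nat.cast_sub hnN
      omega
    haveI := hvan m hmc
    exact (extAdd J Y ε h m).toEquiv.subsingleton

/-- the comparison of `H^{-n}` with `Ext^{N-n}` -/
noncomputable def Wadd : Dual.HD (T ⧸ J) (Y⟦(N : ℤ)⟧) (-(n : ℤ)) ≃+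
    Abelian.Ext.{u} (ModuleCat.of T (T ⧸ J)) (ModuleCat.of T T) (N - n) :=
  (hdShift Y (N : ℤ) (-(n : ℤ)) ((N - n : ℕ) : ℤ)
    (by rw [Nat.cast_sub hnN]; ring)).toAddEquiv.trans (extAdd J Y ε h (N - n))

lemma Wadd_smul (t : T) (w : Dual.HD (T ⧸ J) (Y⟦(N : ℤ)⟧) (-(n : ℤ))) :
    Wadd J Y ε h N n hnN (algebraMap T (T ⧸ J) t • w) = t • Wadd J Y ε h N n hnN w := by
  show extAdd J Y ε h (N - n) ((hdShift Y (N : ℤ) (-(n : ℤ)) ((N - n : ℕ) : ℤ) _)
      (algebraMap T (T ⧸ J) t • w)) =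
    t • extAdd J Y ε h (N - n) ((hdShift Y (N : ℤ) (-(n : ℤ)) ((N - n : ℕ) : ℤ) _) w)
  rw [LinearEquiv.map_smul, extAdd_smul]

include h hnN hvan in
theorem exists_invertible
    [hL : ∀ f : T ⧸ J, DRing.HasLBaseChange (algebraMap (T ⧸ J) (Localization.Away f))]
    (hloc : ∀ q : PrimeSpectrum (T ⧸ J), ∃ (f : T ⧸ J) (_ : f ∉ q.asIdeal) (m : ℤ),
      Nonempty ((DRing.LBaseChange (algebraMap (T ⧸ J) (Localization.Away f))).obj
          (Y⟦(N : ℤ)⟧) ≅
        (Dual.inD (Localization.Away f) (Localization.Away f))⟦m⟧)) :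
    ∃ (L : Type u) (_ : AddCommGroup L) (_ : Module (T ⧸ J) L), Module.Invertible (T ⧸ J) L ∧
      Nonempty (RestrictScalars T (T ⧸ J) L ≃ₗ[T]
        Abelian.Ext.{u} (ModuleCat.of T (T ⧸ J)) (ModuleCat.of T T) (N - n)) := by
  have hZ := subsingleton_HD_shift J Y ε h N n hnN hvan
  have hinv : Module.Invertible (T ⧸ J) (Dual.HD (T ⧸ J) (Y⟦(N : ℤ)⟧) (-(n : ℤ))) := by
    apply InvLoc.main (T ⧸ J) (Dual.HD (T ⧸ J) (Y⟦(N : ℤ)⟧) (-(n : ℤ)))
      {g | Nonempty (LocalizedModule.Away g (Dual.HD (T ⧸ J) (Y⟦(N : ℤ)⟧) (-(n : ℤ)))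
        ≃ₗ[Localization.Away g] Localization.Away g)}
    · by_contra hne
      obtain ⟨q, hq, hle⟩ := Ideal.exists_le_maximal _ hne
      haveI := hq.isPrime
      obtain ⟨f, hf, m, ⟨e⟩⟩ := hloc ⟨q, hq.isPrime⟩
      haveI := nontrivial_away_of_notMem q f hf
      exact hf (hle (Ideal.subset_span (loc_free_of_iso f _ _ hZ m e)))
    · intro f hf
      exact hf
  refine ⟨Dual.HD (T ⧸ J) (Y⟦(N : ℤ)⟧) (-(n : ℤ)), inferInstance, inferInstance, hinv, ⟨?_⟩⟩
  exact
    { toFun := fun l => Wadd J Y ε h N n hnN (RestrictScalars.addEquiv T (T ⧸ J) _ l)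
      invFun := fun x =>
        (RestrictScalars.addEquiv T (T ⧸ J) _).symm ((Wadd J Y ε h N n hnN).symm x)
      map_add' := fun l l' => by rw [map_add, map_add]
      map_smul' := fun t l => by
        rw [RestrictScalars.addEquiv_map_smul, Wadd_smul]
        rfl
      left_inv := fun l => by simp
      right_inv := fun x => by simp }

include h hnN hvan in
theorem loc_of_invertible
    [hL : ∀ f : T ⧸ J, DRing.HasLBaseChange (algebraMap (T ⧸ J) (Localization.Away f))]
    (L : Type u) [AddCommGroup L] [Module (T ⧸ J) L] [Module.Invertible (T ⧸ J) L]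
    (e : RestrictScalars T (T ⧸ J) L ≃ₗ[T]
      Abelian.Ext.{u} (ModuleCat.of T (T ⧸ J)) (ModuleCat.of T T) (N - n)) :
    ∀ q : PrimeSpectrum (T ⧸ J), ∃ (f : T ⧸ J) (_ : f ∉ q.asIdeal) (m : ℤ),
      Nonempty ((DRing.LBaseChange (algebraMap (T ⧸ J) (Localization.Away f))).obj
          (Y⟦(N : ℤ)⟧) ≅
        (Dual.inD (Localization.Away f) (Localization.Away f))⟦m⟧) := by
  have hZ := subsingleton_HD_shift J Y ε h N n hnN hvan
  let f₀ : Dual.HD (T ⧸ J) (Y⟦(N : ℤ)⟧) (-(n : ℤ)) ≃+ L :=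
    (Wadd J Y ε h N n hnN).trans
      (e.symm.toAddEquiv.trans (RestrictScalars.addEquiv T (T ⧸ J) L))
  have hf₀ : ∀ (b : T ⧸ J) (w : Dual.HD (T ⧸ J) (Y⟦(N : ℤ)⟧) (-(n : ℤ))),
      f₀ (b • w) = b • f₀ w := by
    intro b w
    obtain ⟨t, rfl⟩ := Ideal.Quotient.mk_surjective b
    show RestrictScalars.addEquiv T (T ⧸ J) L
      (e.symm (Wadd J Y ε h N n hnN (algebraMap T (T ⧸ J) t • w))) = _
    rw [Wadd_smul, LinearEquiv.map_smul, RestrictScalars.addEquiv_map_smul]
    rfl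
  let eWL : Dual.HD (T ⧸ J) (Y⟦(N : ℤ)⟧) (-(n : ℤ)) ≃ₗ[T ⧸ J] L :=
    { f₀ with map_smul' := hf₀ }
  haveI : Module.Invertible (T ⧸ J) (Dual.HD (T ⧸ J) (Y⟦(N : ℤ)⟧) (-(n : ℤ))) :=
    Module.Invertible.congr eWL.symm
  intro q
  obtain ⟨s, hs, hfree⟩ := Module.Invertible.exists_finset_free_localization (R := T ⧸ J)
    (M := Dual.HD (T ⧸ J) (Y⟦(N : ℤ)⟧) (-(n : ℤ)))
  have hex : ∃ r ∈ s, r ∉ q.asIdeal := by
    by_contra hcon
    push Not at hcon
    have hle : Ideal.span (s : Set (T ⧸ J)) ≤ q.asIdeal :=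
      Ideal.span_le.mpr (fun r hr => hcon r hr)
    rw [hs] at hle
    exact q.isPrime.ne_top (top_le_iff.mp hle)
  obtain ⟨r, hrs, hrq⟩ := hex
  obtain ⟨u⟩ := Module.Invertible.free_iff_linearEquiv.mp (hfree r hrs)
  obtain ⟨i⟩ := iso_of_loc_free r (Y⟦(N : ℤ)⟧) (-(n : ℤ)) hZ u
  exact ⟨r, hrq, -(-(n : ℤ)), ⟨i⟩⟩

end Generic

section Main

open scoped TensorProduct

theorem main (A : Type u) [CommRing A] [IsNoetherianRing A] (N n : ℕ) (hnN : n ≤ N) (I : Ideal (MvPolynomial (Fin N) A)) [Module.Flat A (MvPolynomial (Fin N) A ⧸ I)] (hvan : ∀ j : ℕ, j ≠ N - n → Subsingleton (Abelian.Ext (ModuleCat.of (MvPolynomial (Fin N) A) (MvPolynomial (Fin N) A ⧸ I)) (ModuleCat.of (MvPolynomial (Fin N) A) (MvPolynomial (Fin N) A)) j)) : (∃ (L : Type u) (_ : AddCommGroup L) (_ : Module (MvPolynomial (Fin N) A ⧸ I) L), Module.Invertible (MvPolynomial (Fin N) A ⧸ I) L ∧ Nonempty (RestrictScalars (MvPolynomial (Fin N) A) (MvPolynomial (Fin N) A ⧸ I) L ≃ₗ[(MvPolynomial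 (Fin N) A)] Abelian.Ext (ModuleCat.of (MvPolynomial (Fin N) A) (MvPolynomial (Fin N) A ⧸ I)) (ModuleCat.of (MvPolynomial (Fin N) A) (MvPolynomial (Fin N) A)) (N - n))) ↔ ∀ p : PrimeSpectrum A, LocCoh.IsGorensteinRing ((MvPolynomial (Fin N) A ⧸ I) ⊗[A] p.asIdeal.ResidueField) := by
  haveI := HasLBC.hasLBaseChange (algebraMap A (MvPolynomial (Fin N) A))
  let ψ : MvPolynomial (Fin N) A →ₐ[A] (MvPolynomial (Fin N) A ⧸ I) :=
    IsScalarTower.toAlgHom A _ _
  have hψ : Function.Surjective ψ := Ideal.Quotient.mk_surjective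
  haveI := BR3.isLeftAdjoint_restrictD
    (algebraMap (MvPolynomial (Fin N) A) (MvPolynomial (Fin N) A ⧸ I))
  let Rψ := (DRing.restrictD
    (algebraMap (MvPolynomial (Fin N) A) (MvPolynomial (Fin N) A ⧸ I))).rightAdjoint
  have adj' : DRing.restrictD
      (algebraMap (MvPolynomial (Fin N) A) (MvPolynomial (Fin N) A ⧸ I)) ⊣ Rψ :=
    Adjunction.ofIsLeftAdjoint _
  have adj : DRing.restrictD ψ.toRingHom ⊣ Rψ := adj'
  haveI hL : ∀ f : MvPolynomial (Fin N) A ⧸ I, DRing.HasLBaseChange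
      (algebraMap (MvPolynomial (Fin N) A ⧸ I) (Localization.Away f)) :=
    fun f => HasLBC.hasLBaseChange _
  have key := Groth.Agent.S1786.result A (MvPolynomial (Fin N) A ⧸ I) N ψ hψ Rψ adj
  have hco := (isCoext_of_adj _ Rψ adj'
    ((DRing.LBaseChange (algebraMap A (MvPolynomial (Fin N) A))).obj (Dual.inD A A))).of_iso
      (ShrGor.lbcSelf (algebraMap A (MvPolynomial (Fin N) A)))
  constructor
  · rintro ⟨L, iL1, iL2, hinv, ⟨e⟩⟩
    rw [key]
    exact loc_of_invertible I _ _ hco N n hnN hvan L e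
  · intro hG
    exact exists_invertible I _ _ hco N n hnN hvan (key.mp hG)

end Main

end Groth.Agent.Helper6.ExtShr
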