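import Mathlib

/-!
# Linear algebra core for "Ext map zero iff Tor map zero"
-/

set_option autoImplicit false
set_option linter.style.haveILetI false
set_option linter.unusedSectionVars false

universe u

open TensorProduct

namespace Groth.Agent.Helper6.ExtTor

variable {R : Type u} [CommRing R]
variable {U₁ U₀ V₂ V₁ : Type u} [AddCommGroup U₁] [Module R U₁] [AddCommGroup U₀] [Module R U₀]
  [AddCommGroup V₂] [Module R V₂] [AddCommGroup V₁] [Module R V₁]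

theorem tor_of_ext (d : U₁ →ₗ[R] U₀) (d' : V₂ →ₗ[R] V₁) (ψ : U₁ →ₗ[R] V₁)
    (hE : ∃ w : U₀ →ₗ[R] (V₁ ⧸ LinearMap.range d'), w ∘ₗ d = (LinearMap.range d').mkQ ∘ₗ ψ)
    (N : Type u) [AddCommGroup N] [Module R N] (z : U₁ ⊗[R] N) (hz : d.rTensor N z = 0) :
    ∃ b : V₂ ⊗[R] N, d'.rTensor N b = ψ.rTensor N z := by
  obtain ⟨w, hw⟩ := hE
  have hex : Function.Exact (d'.rTensor N) ((LinearMap.range d').mkQ.rTensor N) :=
    rTensor_exact N (LinearMap.exact_map_mkQ_range d') (Submodule.mkQ_surjective _)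
  have h0 : (LinearMap.range d').mkQ.rTensor N (ψ.rTensor N z) = 0 := by
    rw [← LinearMap.comp_apply, ← LinearMap.rTensor_comp, ← hw, LinearMap.rTensor_comp,
      LinearMap.comp_apply, hz, map_zero]
  exact (hex _).mp h0

section Coord

variable {ι₁ ι₀ : Type u} [Fintype ι₁] [Fintype ι₀] [DecidableEq ι₁] [DecidableEq ι₀]

/-- the (transposed) matrix map -/
def Tmap (A : ι₁ → ι₀ → R) : (ι₀ → R) →ₗ[R] (ι₁ → R) where
  toFun c i := ∑ j, A i j * c j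
  map_add' c c' := by
    ext i
    simp only [Pi.add_apply, mul_add, Finset.sum_add_distrib]
  map_smul' r c := by
    ext i
    simp only [Pi.smul_apply, smul_eq_mul, RingHom.id_apply, Finset.mul_sum]
    refine Finset.sum_congr rfl fun j _ => ?_
    ring

lemma Tmap_apply (A : ι₁ → ι₀ → R) (c : ι₀ → R) (i : ι₁) : Tmap A c i = ∑ j, A i j * c j := rfl

lemma Tmap_single (A : ι₁ → ι₀ → R) (j : ι₀) :
    Tmap A (Pi.single j 1) = ∑ i, A i j • (Pi.single i (1 : R) : ι₁ → R) := by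
  ext i'
  rw [Tmap_apply, Finset.sum_apply]
  simp only [Pi.smul_apply, Pi.single_apply, smul_eq_mul, mul_ite, mul_one, mul_zero]
  rw [Finset.sum_ite_eq', Finset.sum_ite_eq]
  simp

lemma ev_lTensor (N₀ : Type u) [AddCommGroup N₀] [Module R N₀] (A : ι₁ → ι₀ → R)
    (y' : N₀ ⊗[R] (ι₀ → R)) (i : ι₁) :
    piScalarRightHom R R N₀ ι₁ ((Tmap A).lTensor N₀ y') i =
      ∑ j, A i j • piScalarRightHom R R N₀ ι₀ y' j := by
  induction y' using TensorProduct.induction_on with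
  | zero => simp
  | tmul n f =>
    rw [LinearMap.lTensor_tmul, piScalarRightHom_tmul, piScalarRightHom_tmul]
    show (Tmap A f) i • n = ∑ j, A i j • (f j • n)
    rw [Tmap_apply, Finset.sum_smul]
    refine Finset.sum_congr rfl fun j _ => ?_
    rw [mul_smul]
  | add x y hx hy =>
    simp only [map_add, Pi.add_apply, hx, hy, smul_add, Finset.sum_add_distrib]

variable (b₁ : Module.Basis ι₁ R U₁) (b₀ : Module.Basis ι₀ R U₀) (d : U₁ →ₗ[R] U₀)

/-- matrix coefficients of `d` -/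
noncomputable def coef : ι₁ → ι₀ → R := fun i j => b₀.repr (d (b₁ i)) j

/-- the test module (transpose of `coker d`) -/
abbrev TestMod : Type u := (ι₁ → R) ⧸ LinearMap.range (Tmap (coef b₁ b₀ d))

/-- the quotient map onto the test module -/
noncomputable def qmap : (ι₁ → R) →ₗ[R] TestMod b₁ b₀ d := (LinearMap.range (Tmap (coef b₁ b₀ d))).mkQ

/-- the canonical cycle -/
noncomputable def zelt : U₁ ⊗[R] TestMod b₁ b₀ d := ∑ i, b₁ i ⊗ₜ[R] qmap b₁ b₀ d (Pi.single i 1)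

lemma qmap_T (c : ι₀ → R) : qmap b₁ b₀ d (Tmap (coef b₁ b₀ d) c) = 0 := by
  show (LinearMap.range (Tmap (coef b₁ b₀ d))).mkQ (Tmap (coef b₁ b₀ d) c) = 0
  rw [Submodule.mkQ_apply, Submodule.Quotient.mk_eq_zero]
  exact LinearMap.mem_range_self _ c

lemma d_basis (i : ι₁) : d (b₁ i) = ∑ j, coef b₁ b₀ d i j • b₀ j :=
  (b₀.sum_repr (d (b₁ i))).symm

lemma zelt_cycle : d.rTensor (TestMod b₁ b₀ d) (zelt b₁ b₀ d) = 0 := by
  show d.rTensor (TestMod b₁ b₀ d) (∑ i, b₁ i ⊗ₜ[R] qmap b₁ b₀ d (Pi.single i 1)) = 0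
  rw [map_sum]
  have h1 : ∀ i, d.rTensor (TestMod b₁ b₀ d) (b₁ i ⊗ₜ[R] qmap b₁ b₀ d (Pi.single i 1)) =
      ∑ j, b₀ j ⊗ₜ[R] qmap b₁ b₀ d (coef b₁ b₀ d i j • Pi.single i 1) := by
    intro i
    rw [LinearMap.rTensor_tmul, d_basis b₁ b₀ d i, TensorProduct.sum_tmul]
    refine Finset.sum_congr rfl fun j _ => ?_
    rw [TensorProduct.smul_tmul, map_smul]
  rw [Finset.sum_congr rfl fun i _ => h1 i, Finset.sum_comm]
  refine Finset.sum_eq_zero fun j _ => ?_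
  rw [← TensorProduct.tmul_sum, ← map_sum, ← Tmap_single (coef b₁ b₀ d) j, qmap_T,
    TensorProduct.tmul_zero]

include b₁ b₀ in
theorem ext_of_tor_basis (d' : V₂ →ₗ[R] V₁) (ψ : U₁ →ₗ[R] V₁)
    (hT : ∀ (N : Type u) [AddCommGroup N] [Module R N] (z : U₁ ⊗[R] N), d.rTensor N z = 0 →
      ∃ b : V₂ ⊗[R] N, d'.rTensor N b = ψ.rTensor N z) :
    ∃ w : U₀ →ₗ[R] (V₁ ⧸ LinearMap.range d'), w ∘ₗ d = (LinearMap.range d').mkQ ∘ₗ ψ := by
  obtain ⟨b, hb⟩ := hT (TestMod b₁ b₀ d) (zelt b₁ b₀ d) (zelt_cycle b₁ b₀ d)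
  obtain ⟨g, hgdef⟩ : ∃ g : U₁ →ₗ[R] (V₁ ⧸ LinearMap.range d'),
      g = (LinearMap.range d').mkQ ∘ₗ ψ := ⟨_, rfl⟩
  have hg : g.rTensor (TestMod b₁ b₀ d) (zelt b₁ b₀ d) = 0 := by
    rw [hgdef, LinearMap.rTensor_comp, LinearMap.comp_apply, ← hb, ← LinearMap.comp_apply,
      ← LinearMap.rTensor_comp, LinearMap.range_mkQ_comp, LinearMap.rTensor_zero,
      LinearMap.zero_apply]
  obtain ⟨y, hydef⟩ : ∃ y : (V₁ ⧸ LinearMap.range d') ⊗[R] (ι₁ → R),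
      y = ∑ i, g (b₁ i) ⊗ₜ[R] (Pi.single i (1 : R) : ι₁ → R) := ⟨_, rfl⟩
  have hy : (qmap b₁ b₀ d).lTensor (V₁ ⧸ LinearMap.range d') y = 0 := by
    rw [← hg, hydef]
    show _ = g.rTensor (TestMod b₁ b₀ d) (∑ i, b₁ i ⊗ₜ[R] qmap b₁ b₀ d (Pi.single i 1))
    rw [map_sum, map_sum]
    refine Finset.sum_congr rfl fun i _ => ?_
    rw [LinearMap.lTensor_tmul, LinearMap.rTensor_tmul]
  have hex : Function.Exact ((Tmap (coef b₁ b₀ d)).lTensor (V₁ ⧸ LinearMap.range d'))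
      ((qmap b₁ b₀ d).lTensor (V₁ ⧸ LinearMap.range d')) :=
    lTensor_exact _ (LinearMap.exact_map_mkQ_range (Tmap (coef b₁ b₀ d)))
      (Submodule.mkQ_surjective _)
  obtain ⟨y', hy'⟩ := (hex y).mp hy
  refine ⟨b₀.constr R (piScalarRightHom R R (V₁ ⧸ LinearMap.range d') ι₀ y'),
    b₁.ext fun i => ?_⟩
  rw [LinearMap.comp_apply, d_basis b₁ b₀ d i, map_sum, ← hgdef]
  simp only [map_smul, Module.Basis.constr_basis]
  rw [← ev_lTensor, hy', hydef, map_sum, Finset.sum_apply]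
  simp only [piScalarRightHom_tmul, Pi.single_apply, ite_smul, one_smul, zero_smul]
  rw [Finset.sum_ite_eq]
  simp

end Coord

theorem ext_of_tor [Module.Free R U₁] [Module.Finite R U₁] [Module.Free R U₀]
    [Module.Finite R U₀] (d : U₁ →ₗ[R] U₀) (d' : V₂ →ₗ[R] V₁) (ψ : U₁ →ₗ[R] V₁)
    (hT : ∀ (N : Type u) [AddCommGroup N] [Module R N] (z : U₁ ⊗[R] N), d.rTensor N z = 0 →
      ∃ b : V₂ ⊗[R] N, d'.rTensor N b = ψ.rTensor N z) :
    ∃ w : U₀ →ₗ[R] (V₁ ⧸ LinearMap.range d'), w ∘ₗ d = (LinearMap.range d').mkQ ∘ₗ ψ := by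
  classical
  exact ext_of_tor_basis (Module.Free.chooseBasis R U₁) (Module.Free.chooseBasis R U₀) d d' ψ hT

end Groth.Agent.Helper6.ExtTor
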