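import Mathlib

/-!
# Element-level criterion for `homologyMap φ j = 0` (complexes of modules, any shape)
-/

set_option autoImplicit false
set_option linter.style.haveILetI false
set_option linter.unusedSectionVars false

universe v u
open CategoryTheory CategoryTheory.Limits

namespace Groth.Agent.Helper6.HomElem

variable {R : Type u} [Ring R] {ι : Type*} {c : ComplexShape ι}
variable {K L : HomologicalComplex (ModuleCat.{v} R) c} (φ : K ⟶ L)

lemma exists_cycle (K : HomologicalComplex (ModuleCat.{v} R) c) (j k : ι) (hk : c.next j = k)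
    (z : K.X j) (hz : K.d j k z = 0) : ∃ w : K.cycles j, K.iCycles j w = z := by
  let g : ModuleCat.of R (LinearMap.ker (K.d j k).hom) ⟶ K.X j :=
    ModuleCat.ofHom (LinearMap.ker (K.d j k).hom).subtype
  have hg : g ≫ K.d j k = 0 := ModuleCat.hom_ext (LinearMap.ext fun t => LinearMap.mem_ker.mp t.2)
  refine ⟨(K.liftCycles g k hk hg).hom ⟨z, LinearMap.mem_ker.mpr hz⟩, ?_⟩
  exact congrArg (fun f => f.hom (⟨z, LinearMap.mem_ker.mpr hz⟩ : LinearMap.ker (K.d j k).hom))
    (K.liftCycles_i g k hk hg)

lemma homologyπ_eq_zero_iff (L : HomologicalComplex (ModuleCat.{v} R) c) (i j : ι)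
    (hi : c.prev j = i) (w : L.cycles j) :
    L.homologyπ j w = 0 ↔ ∃ y : L.X i, L.toCycles i j y = w := by
  constructor
  · intro h
    have hS : (ShortComplex.mk (L.toCycles i j) (L.homologyπ j)
        (L.toCycles_comp_homologyπ i j)).Exact :=
      ShortComplex.exact_of_g_is_cokernel _ (L.homologyIsCokernel i j hi)
    exact (ShortComplex.moduleCat_exact_iff _).mp hS w h
  · rintro ⟨y, rfl⟩
    exact congrArg (fun f => f.hom y) (L.toCycles_comp_homologyπ i j)

theorem homologyMap_eq_zero_iff (i j k : ι) (hi : c.prev j = i) (hk : c.next j = k) :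
    HomologicalComplex.homologyMap φ j = 0 ↔
      ∀ z : K.X j, K.d j k z = 0 → ∃ y : L.X i, L.d i j y = φ.f j z := by
  have hnat := HomologicalComplex.homologyπ_naturality φ j
  have e1 : ∀ y : L.X i, L.iCycles j (L.toCycles i j y) = L.d i j y := fun y =>
    congrArg (fun f => f.hom y) (L.toCycles_i i j)
  have e2 : ∀ w : K.cycles j, L.iCycles j (HomologicalComplex.cyclesMap φ j w) =
      φ.f j (K.iCycles j w) := fun w =>
    congrArg (fun f => f.hom w) (HomologicalComplex.cyclesMap_i φ j)
  constructor
  · intro h z hz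
    obtain ⟨w, hw⟩ := exists_cycle K j k hk z hz
    have h1 : L.homologyπ j (HomologicalComplex.cyclesMap φ j w) = 0 := by
      have h2 := congrArg (fun f => f.hom w) hnat
      rw [h] at h2
      exact h2.symm
    obtain ⟨y, hy⟩ := (homologyπ_eq_zero_iff L i j hi _).mp h1
    refine ⟨y, ?_⟩
    rw [← e1, hy, e2, hw]
  · intro h
    rw [← cancel_epi (K.homologyπ j), hnat, comp_zero]
    refine ModuleCat.hom_ext (LinearMap.ext fun w => ?_)
    show L.homologyπ j (HomologicalComplex.cyclesMap φ j w) = 0
    have hz : K.d j k (K.iCycles j w) = 0 := congrArg (fun f => f.hom w) (K.iCycles_d j k)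
    obtain ⟨y, hy⟩ := h _ hz
    refine (homologyπ_eq_zero_iff L i j hi _).mpr ⟨y, ?_⟩
    have hinj : Function.Injective (L.iCycles j) :=
      (ModuleCat.mono_iff_injective _).mp inferInstance
    apply hinj
    rw [e1, hy, e2]

end Groth.Agent.Helper6.HomElem
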