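import Mathlib
import Groth.Agent.Helper1.TorBalanceNat2
import Groth.Agent.Helper3.FinFreeRes
import Groth.Agent.Helper6.HomElem3
import Groth.Agent.Helper6.ExtTor1

/-!
# `Ext^{e+1}(α, -) = 0` iff `Tor_{e+1}(α, -) = 0` for `α : M → M'` with `M` finite (Noetherian ring)
-/

set_option autoImplicit false
set_option linter.style.haveILetI false
set_option linter.unusedSectionVars false

universe u w

open CategoryTheory CategoryTheory.Limits MonoidalCategory Abelian

attribute [local instance] HasDerivedCategory.standard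

namespace Groth.Agent.Helper6.ExtTor

open Groth.Agent.Helper1.TorLib Groth.Agent.Helper1.FlatCx Groth.Agent.Helper6.HomElem

variable {R : Type u} [CommRing R]

lemma exists_cast {D : Type*} [Category D] [HasShift D ℤ] [HasZeroMorphisms D] {k k' : ℤ}
    (h : k = k') {A Y : D} (φ : A ⟶ Y⟦k⟧) :
    ∃ φ' : A ⟶ Y⟦k'⟧, ∀ {B : D} (f : B ⟶ A), f ≫ φ = 0 ↔ f ≫ φ' = 0 := by
  subst h
  exact ⟨φ, fun _ => Iff.rfl⟩

section

variable {X X' : ModuleCat.{u} R} (P : ProjectiveResolution X) (P' : ProjectiveResolution X')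
  (a : X ⟶ X') (φ : ProjectiveResolution.Hom P P' a)

lemma tor_iff_TmapL (n : ℕ) (N : ModuleCat.{u} R) :
    ((Tor (ModuleCat.{u} R) n).map a).app N = 0 ↔ TmapL φ.hom n N = 0 := by
  have comm0 : φ.hom.f 0 ≫ P'.π.f 0 = P.π.f 0 ≫ a := by
    have := φ.hom_f_zero_comp_π_f_zero
    simpa using this
  have key : ((Tor (ModuleCat.{u} R) n).map a).app N ≫
      torBalanceHom (FlatResolution.ofProjectiveResolution P') n N =
      torBalanceHom (FlatResolution.ofProjectiveResolution P) n N ≫ TmapL φ.hom n N :=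
    torBalanceHom_natM (FlatResolution.ofProjectiveResolution P)
      (FlatResolution.ofProjectiveResolution P') a φ.hom
      (opcyclesZeroIso_nat a P P' φ.hom comm0) n N
  constructor
  · intro h
    rw [h, zero_comp] at key
    exact (cancel_epi (torBalanceHom (FlatResolution.ofProjectiveResolution P) n N)).mp
      (key.symm.trans comp_zero.symm)
  · intro h
    have h2 : torBalanceHom (FlatResolution.ofProjectiveResolution P) n N ≫ TmapL φ.hom n N = 0 :=
      (congrArg (fun t => torBalanceHom (FlatResolution.ofProjectiveResolution P) n N ≫ t)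
        h).trans comp_zero
    exact (cancel_mono (torBalanceHom (FlatResolution.ofProjectiveResolution P') n N)).mp
      ((key.trans h2).trans zero_comp.symm)

lemma TmapL_eq_zero_iff (e : ℕ) (N : ModuleCat.{u} R) :
    TmapL φ.hom (e + 1) N = 0 ↔
      ∀ z : (CohIII.tensorObj P.complex N).X (e + 1),
        (CohIII.tensorObj P.complex N).d (e + 1) e z = 0 →
        ∃ y : (CohIII.tensorObj P'.complex N).X (e + 2),
          (CohIII.tensorObj P'.complex N).d (e + 2) (e + 1) y = (tL φ.hom N).f (e + 1) z :=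
  homologyMap_eq_zero_iff (tL φ.hom N) (e + 2) (e + 1) e (ChainComplex.prev ℕ (e + 1))
    (ChainComplex.next_nat_succ e)

section ExtSide

variable [HasExt.{w} (ModuleCat.{u} R)]

lemma ext_iff (e : ℕ) :
    (∀ (N : ModuleCat.{u} R) (x : Ext X' N (e + 1)), (Ext.mk₀ a).comp x (zero_add _) = 0) ↔
    (∀ (N : ModuleCat.{u} R) (v : P'.complex.X (e + 1) ⟶ N),
      P'.complex.d (e + 2) (e + 1) ≫ v = 0 →
      ∃ t : P.complex.X e ⟶ N, P.complex.d (e + 1) e ≫ t = φ.hom.f (e + 1) ≫ v) := by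
  constructor
  · intro h N v hv
    have h1 := h N (P'.extMk v (e + 2) rfl hv)
    rw [ProjectiveResolution.mk₀_comp_extMk v (e + 2) rfl hv φ] at h1
    exact (P.extMk_eq_zero_iff _ (e + 2) rfl _ e rfl).mp h1
  · intro h N x
    obtain ⟨v, hv, rfl⟩ := P'.extMk_surjective x (e + 2) rfl
    rw [ProjectiveResolution.mk₀_comp_extMk v (e + 2) rfl hv φ]
    exact (P.extMk_eq_zero_iff _ (e + 2) rfl _ e rfl).mpr (h N v hv)

lemma comp_eq_zero_iff {N : ModuleCat.{u} R} {n : ℕ} (x : Ext X' N n) :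
    (Ext.mk₀ a).comp x (zero_add n) = 0 ↔
      (DerivedCategory.singleFunctor (ModuleCat.{u} R) 0).map a ≫ x.hom = 0 := by
  constructor
  · intro h
    have h1 := congrArg (fun y => Ext.hom y) h
    simp only [Ext.comp_hom, Ext.mk₀_hom, ShiftedHom.mk₀_comp, Ext.zero_hom] at h1
    exact h1
  · intro h
    apply Ext.ext
    rw [Ext.comp_hom, Ext.mk₀_hom, ShiftedHom.mk₀_comp, Ext.zero_hom]
    exact h

end ExtSide

/-- the universal factorisation condition -/
def Cond (e : ℕ) : Prop :=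
  ∃ t : ↑(P.complex.X e) →ₗ[R]
      (↑(P'.complex.X (e + 1)) ⧸ LinearMap.range (P'.complex.d (e + 2) (e + 1)).hom),
    t ∘ₗ (P.complex.d (e + 1) e).hom =
      (LinearMap.range (P'.complex.d (e + 2) (e + 1)).hom).mkQ ∘ₗ (φ.hom.f (e + 1)).hom

lemma cond_iff (e : ℕ) :
    Cond P P' a φ e ↔
    (∀ (N : ModuleCat.{u} R) (v : P'.complex.X (e + 1) ⟶ N),
      P'.complex.d (e + 2) (e + 1) ≫ v = 0 →
      ∃ t : P.complex.X e ⟶ N, P.complex.d (e + 1) e ≫ t = φ.hom.f (e + 1) ≫ v) := by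
  constructor
  · rintro ⟨t₀, ht₀⟩ N v hv
    have hle : LinearMap.range (P'.complex.d (e + 2) (e + 1)).hom ≤ LinearMap.ker v.hom := by
      rintro _ ⟨s, rfl⟩
      exact LinearMap.mem_ker.mpr (congrArg (fun f => f.hom s) hv)
    refine ⟨ModuleCat.ofHom
      ((LinearMap.range (P'.complex.d (e + 2) (e + 1)).hom).liftQ v.hom hle ∘ₗ t₀), ?_⟩
    refine ModuleCat.hom_ext (LinearMap.ext fun s => ?_)
    have h1 : t₀ ((P.complex.d (e + 1) e).hom s) =
        (LinearMap.range (P'.complex.d (e + 2) (e + 1)).hom).mkQ ((φ.hom.f (e + 1)).hom s) :=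
      congrArg (fun f => f s) ht₀
    show (LinearMap.range (P'.complex.d (e + 2) (e + 1)).hom).liftQ v.hom hle
        (t₀ ((P.complex.d (e + 1) e).hom s)) = v.hom ((φ.hom.f (e + 1)).hom s)
    rw [h1, Submodule.mkQ_apply, Submodule.liftQ_apply]
  · intro h
    obtain ⟨t, ht⟩ := h (ModuleCat.of R
        (↑(P'.complex.X (e + 1)) ⧸ LinearMap.range (P'.complex.d (e + 2) (e + 1)).hom))
      (ModuleCat.ofHom (LinearMap.range (P'.complex.d (e + 2) (e + 1)).hom).mkQ)
      (ModuleCat.hom_ext (LinearMap.range_mkQ_comp _))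
    exact ⟨t.hom, congrArg ModuleCat.Hom.hom ht⟩

end

theorem main [IsNoetherianRing R] (M M' : Type u) [AddCommGroup M] [Module R M]
    [Module.Finite R M] [AddCommGroup M'] [Module R M'] (α : M →ₗ[R] M') (e : ℕ) :
    (∀ (N : Type u) [AddCommGroup N] [Module R N]
      (φ : (DerivedCategory.singleFunctor (ModuleCat.{u} R) 0).obj (ModuleCat.of R M') ⟶
        ((DerivedCategory.singleFunctor (ModuleCat.{u} R) 0).obj (ModuleCat.of R N))⟦((e : ℤ) + 1)⟧),
      (DerivedCategory.singleFunctor (ModuleCat.{u} R) 0).map (ModuleCat.ofHom α) ≫ φ = 0) ↔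
    (∀ (N : Type u) [AddCommGroup N] [Module R N],
      ((Tor (ModuleCat.{u} R) (e + 1)).map (ModuleCat.ofHom α)).app (ModuleCat.of R N) = 0) := by
  obtain ⟨P, hP⟩ := Groth.Agent.Helper3.FinFreeRes.exists_finite_free_resolution
    (ModuleCat.of R M)
  obtain ⟨P', -⟩ : ∃ P' : ProjectiveResolution (ModuleCat.of R M'), True :=
    ⟨ProjectiveResolution.of _, trivial⟩
  obtain ⟨φ⟩ : Nonempty (ProjectiveResolution.Hom P P' (ModuleCat.ofHom α)) :=
    ⟨⟨ProjectiveResolution.lift (ModuleCat.ofHom α) P P', by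
      rw [ChainComplex.single₀_map_f_zero]
      exact ProjectiveResolution.lift_commutes_zero _ P P'⟩⟩
  haveI := (hP e).1
  haveI := (hP e).2
  haveI := (hP (e + 1)).1
  haveI := (hP (e + 1)).2
  constructor
  · intro hE N _ _
    -- (E) ⇒ (E') ⇒ (E'') ⇒ Cond
    have hE' : ∀ (N' : ModuleCat.{u} R) (x : Ext.{u} (ModuleCat.of R M') N' (e + 1)),
        (Ext.mk₀ (ModuleCat.ofHom α)).comp x (zero_add _) = 0 := by
      intro N' x
      rw [comp_eq_zero_iff]
      obtain ⟨φ', hφ'⟩ := exists_cast (k := ((e + 1 : ℕ) : ℤ)) (k' := (e : ℤ) + 1)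
        (by push_cast; ring) x.hom
      rw [hφ']
      exact hE N' φ'
    have hC : Cond P P' (ModuleCat.ofHom α) φ e :=
      (cond_iff P P' _ φ e).mpr ((ext_iff P P' _ φ e).mp hE')
    rw [tor_iff_TmapL P P' _ φ, TmapL_eq_zero_iff]
    intro z hz
    exact tor_of_ext (P.complex.d (e + 1) e).hom (P'.complex.d (e + 2) (e + 1)).hom
      (φ.hom.f (e + 1)).hom hC N z hz
  · intro hT
    have hC : Cond P P' (ModuleCat.ofHom α) φ e := by
      refine ext_of_tor (P.complex.d (e + 1) e).hom (P'.complex.d (e + 2) (e + 1)).hom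
        (φ.hom.f (e + 1)).hom ?_
      intro N _ _ z hz
      have h1 := hT N
      rw [tor_iff_TmapL P P' _ φ, TmapL_eq_zero_iff] at h1
      exact h1 z hz
    have hE' : ∀ (N' : ModuleCat.{u} R) (x : Ext.{u} (ModuleCat.of R M') N' (e + 1)),
        (Ext.mk₀ (ModuleCat.ofHom α)).comp x (zero_add _) = 0 :=
      (ext_iff P P' _ φ e).mpr ((cond_iff P P' _ φ e).mp hC)
    intro N _ _ φ₀
    obtain ⟨φ', hφ'⟩ := exists_cast (k := (e : ℤ) + 1) (k' := ((e + 1 : ℕ) : ℤ))
      (by push_cast; ring) φ₀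
    rw [hφ']
    obtain ⟨x, hx⟩ : ∃ x : Ext.{u} (ModuleCat.of R M') (ModuleCat.of R N) (e + 1),
        x.hom = φ' := ⟨Ext.homEquiv.symm φ', Equiv.apply_symm_apply _ _⟩
    rw [← hx]
    exact (comp_eq_zero_iff _ x).mp (hE' _ x)

end Groth.Agent.Helper6.ExtTor
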