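import Mathlib
import Groth.Prelude.Def_Hyper
import Groth.Agent.Helper6.SRCov

/-!
# Helper6: sections of `FormalCoproduct.yoneda.obj K`, and local surjectivity of coverings.
-/

set_option autoImplicit false
set_option linter.style.haveILetI false
set_option linter.unusedVariables false
set_option backward.isDefEq.respectTransparency false
set_option backward.isDefEq.respectTransparency.types false
universe u

namespace Groth.Agent.Helper6.FCY
open CategoryTheory Limits Opposite Hyper

variable {C : Type u} [SmallCategory C]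

/-- The section of `FormalCoproduct.yoneda.obj K` over `U` attached to `m : incl U ⟶ K`. -/
noncomputable def elt {K : FormalCoproduct.{u} C} {U : C}
    (m : (FormalCoproduct.incl C).obj U ⟶ K) :
    (FormalCoproduct.yoneda.obj K).obj (op U) :=
  (Sigma.ι (fun i => yoneda.obj (K.obj i)) (m.f PUnit.unit)).app (op U) (m.φ PUnit.unit)

lemma exists_elt {K : FormalCoproduct.{u} C} {U : C}
    (x : (FormalCoproduct.yoneda.obj K).obj (op U)) :
    ∃ m : (FormalCoproduct.incl C).obj U ⟶ K, elt m = x := by
  have hc := isColimitOfPreserves ((evaluation Cᵒᵖ (Type u)).obj (op U))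
    (colimit.isColimit (Discrete.functor (fun i : K.I => yoneda.obj (K.obj i))))
  obtain ⟨⟨j⟩, y, hy⟩ := Types.jointly_surjective_of_isColimit hc x
  exact ⟨FormalCoproduct.Hom.fromIncl j y, hy⟩

lemma map_elt {K L : FormalCoproduct.{u} C} (f : K ⟶ L) {U : C}
    (m : (FormalCoproduct.incl C).obj U ⟶ K) :
    (FormalCoproduct.yoneda.map f).app (op U) (elt m) = elt (m ≫ f) := by
  have h : Sigma.ι (fun i => yoneda.obj (K.obj i)) (m.f PUnit.unit) ≫
      FormalCoproduct.yoneda.map f =
      yoneda.map (f.φ (m.f PUnit.unit)) ≫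
        Sigma.ι (fun i => yoneda.obj (L.obj i)) (f.f (m.f PUnit.unit)) := by
    simp [FormalCoproduct.yoneda]
    rfl
  have h2 := congrArg (fun t => NatTrans.app t (op U)) h
  exact ConcreteCategory.congr_hom h2 (m.φ PUnit.unit)

lemma restrict_elt {K : FormalCoproduct.{u} C} {U V : C} (k : V ⟶ U)
    (m : (FormalCoproduct.incl C).obj U ⟶ K) :
    (FormalCoproduct.yoneda.obj K).map k.op (elt m) =
      elt ((FormalCoproduct.incl C).map k ≫ m) := by
  have h := (Sigma.ι (fun i => yoneda.obj (K.obj i)) (m.f PUnit.unit)).naturality k.op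
  exact (ConcreteCategory.congr_hom h (m.φ PUnit.unit)).symm

theorem isLocallySurjective_of_isSRCovering (J : GrothendieckTopology C)
    {K L : FormalCoproduct.{u} C} (f : K ⟶ L) (hf : IsSRCovering J f) :
    Presheaf.IsLocallySurjective J (FormalCoproduct.yoneda.map f) := by
  constructor
  intro U x
  obtain ⟨m, rfl⟩ := exists_elt x
  obtain ⟨S, hS, hS'⟩ := SRCov.exists_of_isSRCovering J hf (m.f PUnit.unit)
  refine J.superset_covering ?_ (J.pullback_stable (m.φ PUnit.unit) hS)
  intro V k hk
  obtain ⟨i, e, a, ha⟩ := hS' (k ≫ m.φ PUnit.unit) hk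
  refine ⟨elt (FormalCoproduct.Hom.fromIncl i a), ?_⟩
  rw [map_elt, restrict_elt]
  congr 1
  refine FormalCoproduct.hom_ext ?_ ?_
  · funext x; exact e
  · intro x
    exact (Category.assoc _ _ _).trans ha.symm

end Groth.Agent.Helper6.FCY
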