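import Mathlib
import Groth.Prelude.Def_EtBase
import Groth.Prelude.Def_EtCore
import Groth.Agent.Helper6.GalDescA
import Groth.Agent.Helper6.GalDescC
import Groth.Agent.Helper6.GalDescD
import Groth.Agent.Helper6.FEtTrA

/-! The trace `F(X') → F(X)` for an étale `f : X' → X` split by a surjective étale `ψ : Y → X`. -/

set_option autoImplicit false
set_option linter.style.haveILetI false
set_option linter.unusedSectionVars false
set_option linter.unusedVariables false
set_option linter.unusedSimpArgs false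

universe u

open CategoryTheory CategoryTheory.Limits Opposite AlgebraicGeometry

namespace Groth.Agent.Helper6.FEtTrB

open Groth.Agent.Helper6.FEtTrA Groth.Agent.Helper6.GalDescD

section Perm

variable {X X' Y : Scheme.{u}} (f : X' ⟶ X) [Etale f] (ψ : Y ⟶ X) {n : ℕ}
  (inj : Fin n → (Y ⟶ pullback f ψ))
  (hinj : ∀ i, inj i ≫ pullback.snd f ψ = 𝟙 Y) (hc : IsColimit (Cofan.mk (pullback f ψ) inj))

include hinj hc in
theorem exists_perm_open {V : Scheme.{u}} (a b : V ⟶ Y) (hab : a ≫ ψ = b ≫ ψ) (z : V) :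
    ∃ (σ : Equiv.Perm (Fin n)) (W : V.Opens), z ∈ W ∧
      ∀ i, W.ι ≫ a ≫ e f ψ inj i = W.ι ≫ b ≫ e f ψ inj (σ i) := by
  let zb := V.fromSpecResidueField z
  have hcomp : ∀ i, ∃ j, zb ≫ a ≫ e f ψ inj i = (zb ≫ b) ≫ e f ψ inj j := by
    intro i
    refine @complete _ _ _ f ψ n inj hinj hc (V.residueField z) _ (zb ≫ b) (zb ≫ a ≫ e f ψ inj i) ?_
    rw [Category.assoc, Category.assoc, e_comp f ψ inj hinj, Category.assoc, hab]
  choose σ hσ using hcomp
  have hσinj : Function.Injective σ := by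
    intro i i' hii
    have h1 : (zb ≫ a) ≫ e f ψ inj i = (zb ≫ a) ≫ e f ψ inj i' := by
      rw [Category.assoc, Category.assoc, hσ i, hσ i', hii]
    exact @distinct _ _ _ f ψ n inj hinj hc (V.residueField z) _ (zb ≫ a) i i' h1
  have hopen : ∀ i, ∃ W : V.Opens, z ∈ W ∧
      W.ι ≫ (a ≫ e f ψ inj i) = W.ι ≫ (b ≫ e f ψ inj (σ i)) := by
    intro i
    refine exists_open_eq f _ _ ?_ z ?_
    · rw [Category.assoc, Category.assoc, e_comp f ψ inj hinj, e_comp f ψ inj hinj, hab]
    · rw [hσ i, Category.assoc]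
  choose Wi hzi hWi using hopen
  let W : V.Opens := ⟨⋂ i, (Wi i : Set V), isOpen_iInter_of_finite (fun i => (Wi i).isOpen)⟩
  refine ⟨Equiv.ofBijective σ (Finite.injective_iff_bijective.mp hσinj), W,
    Set.mem_iInter.2 hzi, ?_⟩
  intro i
  have hle : W ≤ Wi i := fun w hw => Set.mem_iInter.1 hw i
  have h1 : W.ι = V.homOfLE hle ≫ (Wi i).ι := (Scheme.homOfLE_ι V hle).symm
  rw [h1, Category.assoc, Category.assoc, hWi i]
  rfl

end Perm

section Trace

lemma res_res {X : Scheme.{u}} (P : EtCoh.Ab X) {A B C : X.Etale} (a : A ⟶ B) (b : B ⟶ C)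
    (x : P.obj.obj (op C)) :
    (P.obj.map a.op).hom ((P.obj.map b.op).hom x) = (P.obj.map (a ≫ b).op).hom x := by
  rw [op_comp, P.obj.map_comp]
  rfl

lemma res_eq {X : Scheme.{u}} (P : EtCoh.Ab X) {A C : X.Etale} {c c' : A ⟶ C} (e : c = c')
    (x : P.obj.obj (op C)) : (P.obj.map c.op).hom x = (P.obj.map c'.op).hom x := by
  rw [e]

variable {X X' Y : Scheme.{u}} (f : X' ⟶ X) [Etale f] (ψ : Y ⟶ X) [Etale ψ] [Surjective ψ] {n : ℕ}
  (inj : Fin n → (Y ⟶ pullback f ψ))
  (hinj : ∀ i, inj i ≫ pullback.snd f ψ = 𝟙 Y) (hc : IsColimit (Cofan.mk (pullback f ψ) inj))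

/-- `Y` as an object of the small étale site -/
noncomputable abbrev Yo : X.Etale := Scheme.Etale.mk ψ

/-- the sections in the small étale site -/
noncomputable def eo (i : Fin n) : Yo ψ ⟶ jObj f :=
  MorphismProperty.Over.homMk (e f ψ inj i) (by
    show e f ψ inj i ≫ (𝟙 _ ≫ f) = ψ
    rw [Category.id_comp, e_comp f ψ inj hinj])

lemma eo_left (i : Fin n) : (eo f ψ inj hinj i).left = e f ψ inj i := rfl

/-- the projection to the terminal object -/
noncomputable abbrev πY : Yo ψ ⟶ EtCoh.top X := (EtCore.topIsTerminal X).from _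

/-- `Σ_i e_i^* h` -/
noncomputable def pre (F : EtCoh.Ab X) (h : F.obj.obj (op (jObj f))) : F.obj.obj (op (Yo ψ)) :=
  ∑ i, (F.obj.map (eo f ψ inj hinj i).op).hom h

set_option backward.isDefEq.respectTransparency.types false in
include hc in
theorem pre_eq (F : EtCoh.Ab X) (h : F.obj.obj (op (jObj f))) (W : X.Etale) (g1 g2 : W ⟶ Yo ψ) :
    (F.obj.map g1.op).hom (pre f ψ inj hinj F h) = (F.obj.map g2.op).hom (pre f ψ inj hinj F h) := by
  have hab : g1.left ≫ ψ = g2.left ≫ ψ :=
    (MorphismProperty.Over.w g1).trans (MorphismProperty.Over.w g2).symm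
  choose σ Wz hz hW using fun z : W.left => exists_perm_open f ψ inj hinj hc g1.left g2.left hab z
  let O : W.left → X.Etale := fun z => Scheme.Etale.mk ((Wz z).ι ≫ W.hom)
  let ι : ∀ z, O z ⟶ W := fun z => MorphismProperty.Over.homMk (Wz z).ι rfl
  have hcomp : ∀ z i, ι z ≫ g1 ≫ eo f ψ inj hinj i = ι z ≫ g2 ≫ eo f ψ inj hinj (σ z i) := by
    intro z i
    apply MorphismProperty.Over.Hom.ext
    exact hW z i
  refine GalDescA.ext_of_jointly_surjective (F.obj ⋙ forget AddCommGrpCat)
    (GalDescC.isSheaf_forget F) O ι ?_ _ _ ?_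
  · intro z
    exact ⟨z, ⟨z, hz z⟩, rfl⟩
  · intro z
    show (F.obj.map (ι z).op).hom ((F.obj.map g1.op).hom (pre f ψ inj hinj F h)) =
      (F.obj.map (ι z).op).hom ((F.obj.map g2.op).hom (pre f ψ inj hinj F h))
    unfold pre
    simp only [map_sum]
    have h1 : ∀ i, (F.obj.map (ι z).op).hom ((F.obj.map g1.op).hom
        ((F.obj.map (eo f ψ inj hinj i).op).hom h)) =
        (F.obj.map (ι z ≫ g1 ≫ eo f ψ inj hinj i).op).hom h := fun i =>
      (congrArg _ (res_res F _ _ _)).trans (res_res F _ _ _)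
    have h2 : ∀ i, (F.obj.map (ι z).op).hom ((F.obj.map g2.op).hom
        ((F.obj.map (eo f ψ inj hinj i).op).hom h)) =
        (F.obj.map (ι z ≫ g2 ≫ eo f ψ inj hinj i).op).hom h := fun i =>
      (congrArg _ (res_res F _ _ _)).trans (res_res F _ _ _)
    simp only [h1, h2]
    rw [← Equiv.sum_comp (σ z) (fun i => (F.obj.map (ι z ≫ g2 ≫ eo f ψ inj hinj i).op).hom h)]
    refine Finset.sum_congr rfl (fun i _ => ?_)
    exact res_eq F (hcomp z i) h

lemma πY_left : (πY ψ).left = ψ := by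
  have h1 : (πY ψ).left ≫ 𝟙 X = ψ := MorphismProperty.Over.w (πY ψ)
  exact (Category.comp_id _).symm.trans h1

set_option backward.isDefEq.respectTransparency.types false in
include hc in
theorem existsUnique_tr (F : EtCoh.Ab X) (h : F.obj.obj (op (jObj f))) :
    ∃! t : F.obj.obj (op (EtCoh.top X)),
      (F.obj.map (πY ψ).op).hom t = pre f ψ inj hinj F h := by
  let P := F.obj ⋙ forget AddCommGrpCat
  have hP := GalDescC.isSheaf_forget F
  have hcov : Sieve.ofArrows (fun _ : Unit => Yo ψ) (fun _ => πY ψ) ∈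
      X.smallEtaleTopology (EtCoh.top X) := by
    rw [Scheme.ofArrows_mem_smallEtaleTopology_iff]
    ext t
    simp only [Set.mem_iUnion, Set.mem_range, Set.mem_univ, iff_true]
    obtain ⟨y, hy⟩ := (inferInstance : Surjective ψ).surj t
    refine ⟨(), y, ?_⟩
    rw [πY_left]
    exact hy
  have hsh : Presieve.IsSheafFor P (Presieve.ofArrows (fun _ : Unit => Yo ψ) (fun _ => πY ψ)) :=
    (Presieve.isSheafFor_iff_generate _).2 (hP _ hcov)
  have key := (Presieve.isSheafFor_arrows_iff P (fun _ : Unit => πY ψ)).1 hsh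
    (fun _ => pre f ψ inj hinj F h) ?_
  · obtain ⟨t, ht, hu⟩ := key
    exact ⟨t, ht (), fun t' ht' => hu t' (fun _ => ht')⟩
  · intro _ _ W g1 g2 hg
    exact pre_eq f ψ inj hinj hc F h W g1 g2

/-- the trace -/
noncomputable def tr (F : EtCoh.Ab X) (h : F.obj.obj (op (jObj f))) :
    F.obj.obj (op (EtCoh.top X)) :=
  (existsUnique_tr f ψ inj hinj hc F h).exists.choose

lemma tr_spec (F : EtCoh.Ab X) (h : F.obj.obj (op (jObj f))) :
    (F.obj.map (πY ψ).op).hom (tr f ψ inj hinj hc F h) = pre f ψ inj hinj F h :=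
  (existsUnique_tr f ψ inj hinj hc F h).exists.choose_spec

lemma tr_unique (F : EtCoh.Ab X) (h : F.obj.obj (op (jObj f)))
    (t : F.obj.obj (op (EtCoh.top X)))
    (ht : (F.obj.map (πY ψ).op).hom t = pre f ψ inj hinj F h) : t = tr f ψ inj hinj hc F h :=
  (existsUnique_tr f ψ inj hinj hc F h).unique ht (tr_spec f ψ inj hinj hc F h)

/-- the trace data -/
noncomputable def traceData : TraceData f n where
  tr := tr f ψ inj hinj hc
  nat := by
    intro F G φ h
    apply tr_unique
    have hn := NatTrans.naturality_apply φ.hom (πY ψ).op (tr f ψ inj hinj hc F h)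
    rw [← hn, tr_spec]
    unfold pre
    rw [map_sum]
    refine Finset.sum_congr rfl (fun i _ => ?_)
    exact NatTrans.naturality_apply φ.hom (eo f ψ inj hinj i).op h
  res := by
    intro F h0
    symm
    apply tr_unique
    unfold pre
    have h1 : ∀ i, (F.obj.map (eo f ψ inj hinj i).op).hom ((F.obj.map (πj f).op).hom h0) =
        (F.obj.map (πY ψ).op).hom h0 := fun i =>
      (res_res F _ _ h0).trans (res_eq F ((EtCore.topIsTerminal X).hom_ext _ _) h0)
    simp only [h1]
    rw [Finset.sum_const, Finset.card_univ, Fintype.card_fin, map_nsmul]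

end Trace

end Groth.Agent.Helper6.FEtTrB
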