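import Mathlib

/-! The rank of a finite étale morphism at a point is the cardinality of a geometric fibre. -/

set_option autoImplicit false
set_option linter.style.haveILetI false
set_option linter.unusedSectionVars false
set_option linter.unusedVariables false
set_option linter.unusedSimpArgs false

universe u

open CategoryTheory CategoryTheory.Limits Opposite AlgebraicGeometry

namespace Groth.Agent.Helper6.FEtTrC

theorem card_primeSpectrum_eq_finrank (Ω B : Type u) [Field Ω] [IsSepClosed Ω] [CommRing B]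
    [Algebra Ω B] [Algebra.Etale Ω B] : Nat.card (PrimeSpectrum B) = Module.finrank Ω B := by
  obtain ⟨I, _, Ai, _, _, e, hAi⟩ := (Algebra.Etale.iff_exists_algEquiv_prod Ω B).mp inferInstance
  letI : Fintype I := Fintype.ofFinite I
  have h1 : ∀ i, Module.finrank Ω (Ai i) = 1 := by
    intro i
    haveI := (hAi i).1
    haveI := (hAi i).2
    have hb := IsSepClosed.algebraMap_bijective Ω (Ai i)
    have := (AlgEquiv.ofBijective (Algebra.ofId Ω (Ai i)) hb).toLinearEquiv.finrank_eq
    rw [← this, Module.finrank_self]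
  have h2 : Module.finrank Ω B = Fintype.card I := by
    haveI : ∀ i, Module.Finite Ω (Ai i) := fun i => (hAi i).1
    rw [LinearEquiv.finrank_eq e.toLinearEquiv, Module.finrank_pi_fintype]
    simp [h1]
  have h3 : Nat.card (PrimeSpectrum B) = Nat.card (PrimeSpectrum (Π i, Ai i)) :=
    Nat.card_congr (PrimeSpectrum.comapEquiv e.toRingEquiv).toEquiv
  have h4 : Nat.card (PrimeSpectrum (Π i, Ai i)) = Nat.card (Σ i, PrimeSpectrum (Ai i)) :=
    (Nat.card_congr (Equiv.ofBijective _ (PrimeSpectrum.sigmaToPi_bijective Ai))).symm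
  rw [h3, h4, h2, Nat.card_sigma]
  simp

set_option backward.isDefEq.respectTransparency.types false in
theorem card_eq_finrank (Ω : Type u) [Field Ω] [IsSepClosed Ω] {Z : Scheme.{u}}
    (g : Z ⟶ Spec (CommRingCat.of Ω)) [IsFinite g] [Etale g] (pt : ↥(Spec (CommRingCat.of Ω))) :
    Nat.card Z = g.finrank pt := by
  haveI : IsAffine Z := isAffine_of_isAffineHom g
  let B : CommRingCat := Γ(Z, ⊤)
  let φ : CommRingCat.of Ω ⟶ B := Spec.preimage (Z.isoSpec.inv ≫ g)
  have hφ : Spec.map φ = Z.isoSpec.inv ≫ g := Spec.map_preimage _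
  have hfin : φ.hom.Finite := (IsFinite.SpecMap_iff _).1 (by rw [hφ]; infer_instance)
  have hflat : φ.hom.Flat := Flat.SpecMap_iff.1 (by rw [hφ]; infer_instance)
  have het : φ.hom.Etale :=
    (HasRingHomProperty.Spec_iff (P := @Etale)).mp (by rw [hφ]; infer_instance)
  have h1 : g.finrank = (Spec.map φ).finrank := by
    rw [hφ, Scheme.Hom.finrank_comp_left_of_isIso]
  rw [h1, Scheme.Hom.finrank_SpecMap_eq_finrank hfin hflat]
  letI : Algebra Ω B := φ.hom.toAlgebra
  haveI hA : Algebra.Etale Ω B := RingHom.etale_algebraMap.mp het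
  have h2 : φ.hom.finrank pt = Module.finrank Ω B := by
    have h3 : φ.hom = algebraMap Ω B := rfl
    rw [h3, RingHom.finrank_algebraMap, Module.rankAtStalk_eq_finrank_of_free]
    rfl
  rw [h2, ← card_primeSpectrum_eq_finrank Ω B]
  exact Nat.card_congr (Z.isoSpec.hom.homeomorph.toEquiv)

set_option backward.isDefEq.respectTransparency.types false in
theorem finrank_eq_of_card {X X' : Scheme.{u}} (f : X' ⟶ X) [IsFinite f] [Etale f] (d : ℕ)
    (hd : ∀ (Ω : Type u) [Field Ω] [IsSepClosed Ω] (ξ : Spec (CommRingCat.of Ω) ⟶ X),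
      Nat.card ↥(pullback f ξ) = d) (s : X) : f.finrank s = d := by
  let Ω := SeparableClosure (X.residueField s)
  let ξ : Spec (CommRingCat.of Ω) ⟶ X :=
    Spec.map (CommRingCat.ofHom (algebraMap (X.residueField s) Ω)) ≫ X.fromSpecResidueField s
  obtain ⟨pt⟩ : Nonempty ↥(Spec (CommRingCat.of Ω)) := inferInstance
  have hpt : ξ pt = s := by
    rw [Scheme.Hom.comp_apply, Scheme.fromSpecResidueField_apply]
  have h1 := Scheme.Hom.finrank_pullback_snd f ξ pt
  rw [hpt] at h1
  rw [← h1, ← card_eq_finrank Ω (pullback.snd f ξ) pt]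
  exact hd Ω ξ

end Groth.Agent.Helper6.FEtTrC
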