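import Mathlib
import Groth.Prelude.Def_EtBase
import Groth.Prelude.Def_EtAcyc
import Groth.Agent.Helper6.TorsShift
import Groth.Agent.Helper6.GalDescA
import Groth.Agent.Helper6.GalDescC
import Groth.Agent.Helper6.GalDescI

/-! Multiplication by `d` is an isomorphism on an `L`-torsion sheaf when `d` is prime to `L`. -/

set_option autoImplicit false
set_option linter.style.haveILetI false
set_option linter.unusedSectionVars false
set_option linter.unusedVariables false
set_option linter.unusedSimpArgs false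

universe u

open CategoryTheory CategoryTheory.Limits Opposite AlgebraicGeometry Abelian

namespace Groth.Agent.Helper6.FEtTrD

variable {X : Scheme.{u}}

lemma coprime_of_primesIn {L : Set ℕ} {d m : ℕ} (hL : ∀ p : ℕ, p.Prime → p ∈ L → ¬ p ∣ d)
    (hm : EtAcyc.PrimesIn L m) : Nat.Coprime m d :=
  Nat.coprime_of_dvd (fun p hp hpm hpd => hL p hp (hm.2 p hp hpm) hpd)

lemma bezout {A : Type*} [AddCommGroup A] {m d : ℕ} (h : Nat.Coprime m d) (s : A)
    (hs : m • s = 0) : ∃ t : A, d • t = s ∧ (d • s = 0 → s = 0) := by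
  obtain ⟨a, b, hab⟩ := (Nat.Coprime.isCoprime h)
  have h1 : s = (a * (m : ℤ)) • s + (b * (d : ℤ)) • s := by
    rw [← add_smul, hab, one_smul]
  have h2 : (a * (m : ℤ)) • s = 0 := by
    rw [mul_smul, natCast_zsmul, hs, smul_zero]
  rw [h2, zero_add] at h1
  refine ⟨b • s, ?_, ?_⟩
  · rw [← natCast_zsmul, ← mul_smul, mul_comm]
    exact h1.symm
  · intro hds
    rw [h1, mul_smul, natCast_zsmul, hds, smul_zero]

set_option backward.isDefEq.respectTransparency.types false in
theorem isIso_nsmul {L : Set ℕ} {d : ℕ} (hL : ∀ p : ℕ, p.Prime → p ∈ L → ¬ p ∣ d)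
    (F : EtCoh.Ab X) (hF : EtAcyc.IsLTorsion L F) : IsIso (d • 𝟙 F) := by
  have happ : ∀ (U : X.Etale) (s : F.obj.obj (op U)),
      ((d • 𝟙 F : F ⟶ F).hom.app (op U)).hom s = d • s := fun U s =>
    TorsShift.nsmul_id_app F d U s
  haveI : Mono (d • 𝟙 F) := by
    haveI : ∀ U, Mono ((d • 𝟙 F : F ⟶ F).hom.app U) := by
      intro U
      rw [AddCommGrpCat.mono_iff_injective, injective_iff_map_eq_zero]
      intro s hs
      have hs' : d • s = 0 := (happ U.unop s).symm.trans hs
      choose V g m hv hm hms using fun x : U.unop.left => hF U.unop s x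
      refine GalDescA.ext_of_jointly_surjective (F.obj ⋙ forget AddCommGrpCat)
        (GalDescC.isSheaf_forget F) V g ?_ _ _ ?_
      · intro x
        obtain ⟨v, hv'⟩ := hv x
        exact ⟨x, v, hv'⟩
      · intro x
        show (F.obj.map (g x).op).hom s = (F.obj.map (g x).op).hom 0
        rw [map_zero]
        obtain ⟨t, -, h0⟩ := bezout (coprime_of_primesIn hL (hm x)) _ (hms x)
        apply h0
        rw [← map_nsmul, hs', map_zero]
    haveI : Mono (d • 𝟙 F : F ⟶ F).hom := NatTrans.mono_of_mono_app _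
    exact Sheaf.Hom.mono_of_presheaf_mono _ _ _
  haveI : Epi (d • 𝟙 F) := by
    rw [← Sheaf.isLocallySurjective_iff_epi']
    constructor
    intro U s
    rw [GalDescI.mem_iff]
    intro x
    obtain ⟨V, g, m, ⟨v, hv⟩, hm, hms⟩ := hF U s x
    obtain ⟨t, ht, -⟩ := bezout (coprime_of_primesIn hL hm) _ hms
    refine ⟨V, g, v, ⟨t, ?_⟩, inferInstance, hv⟩
    exact (happ V t).trans ht
  exact isIso_of_mono_of_epi _

theorem eq_zero_of_nsmul_eq_zero {L : Set ℕ} {d : ℕ}
    (hL : ∀ p : ℕ, p.Prime → p ∈ L → ¬ p ∣ d)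
    (F : EtCoh.Ab X) (hF : EtAcyc.IsLTorsion L F) (q : ℕ) (z : EtCoh.H X F q) (hz : d • z = 0) :
    z = 0 := by
  haveI := isIso_nsmul hL F hF
  have h1 : z.comp (Abelian.Ext.mk₀ (d • 𝟙 F)) (add_zero _) = 0 := by
    rw [TorsShift.comp_mk₀_nsmul, Abelian.Ext.comp_mk₀_id, hz]
  have h2 : (z.comp (Abelian.Ext.mk₀ (d • 𝟙 F)) (add_zero _)).comp
      (Abelian.Ext.mk₀ (inv (d • 𝟙 F))) (add_zero _) = z := by
    rw [Abelian.Ext.comp_assoc_of_third_deg_zero, Abelian.Ext.mk₀_comp_mk₀, IsIso.hom_inv_id,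
      Abelian.Ext.comp_mk₀_id]
  rw [← h2, h1, Abelian.Ext.zero_comp]

end Groth.Agent.Helper6.FEtTrD
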