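import Mathlib
import Groth.Prelude.Def_EtBase
import Groth.Prelude.Def_EtCore
import Groth.Prelude.Def_EtAcyc
import Groth.Agent.Helper3.FRank2
import Groth.Agent.Helper6.GalDescG
import Groth.Agent.Helper6.FEtTrB
import Groth.Agent.Helper6.FEtTrC
import Groth.Agent.Helper6.FEtTrD

/-! Restriction–corestriction for a finite étale cover of constant degree. -/

set_option autoImplicit false
set_option linter.style.haveILetI false
set_option linter.unusedSectionVars false
set_option linter.unusedVariables false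
set_option linter.unusedSimpArgs false

universe u

open CategoryTheory CategoryTheory.Limits Opposite AlgebraicGeometry Abelian

namespace Groth.Agent.Helper6.FEtTrE

variable {X X' : Scheme.{u}} (f : X' ⟶ X) [IsFinite f] [Etale f]

/-- a class killed by pullback to a finite étale cover of constant degree `d` is killed by `d` -/
theorem nsmul_eq_zero (d : ℕ)
    (hd : ∀ (Ω : Type u) [Field Ω] [IsSepClosed Ω] (ξ : Spec (CommRingCat.of Ω) ⟶ X),
      Nat.card ↥(pullback f ξ) = d)
    [PreservesFiniteLimits (EtCoh.pull f)] (F : EtCoh.Ab X) (q : ℕ) (z : EtCoh.H X F q)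
    (hz : EtCore.Hpull f F q z = 0) : d • z = 0 := by
  have hrank : ∀ s, f.finrank s = d := FEtTrC.finrank_eq_of_card f d hd
  obtain ⟨Y, ψ, hψf, hψe, hψs, -, inj, hinj, ⟨hc⟩⟩ := Groth.Agent.Helper3.FSplit.splitDeg d f hrank
  haveI := hψe
  haveI := hψs
  let T := FEtTrB.traceData f ψ inj hinj hc
  exact GalDescG.nsmul_eq_zero_of_Hpull_eq_zero f (GalDescD.cor T) (GalDescD.cor_counit T) z hz

theorem main (d : ℕ)
    (hd : ∀ (Ω : Type u) [Field Ω] [IsSepClosed Ω] (ξ : Spec (CommRingCat.of Ω) ⟶ X),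
      Nat.card ↥(pullback f ξ) = d)
    (L : Set ℕ) (hL : ∀ p : ℕ, p.Prime → p ∈ L → ¬ p ∣ d) (F : EtCoh.Ab X)
    (hF : EtAcyc.IsLTorsion L F)
    [PreservesFiniteLimits (EtCoh.pull f)] (q : ℕ)
    (h : Subsingleton (EtCoh.H X' ((EtCoh.pull f).obj F) q)) :
    Subsingleton (EtCoh.H X F q) := by
  refine ⟨fun a b => ?_⟩
  suffices hz : ∀ z : EtCoh.H X F q, z = 0 by rw [hz a, hz b]
  intro z
  have hz : EtCore.Hpull f F q z = 0 := Subsingleton.elim _ _
  exact FEtTrD.eq_zero_of_nsmul_eq_zero hL F hF q z (nsmul_eq_zero f d hd F q z hz)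

end Groth.Agent.Helper6.FEtTrE
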