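import Mathlib
import Groth.Agent.Helper5.FFRR
import Groth.Agent.Helper5.WrLocal3
import Groth.Agent.Helper5.FGStep
import Groth.Agent.Helper5.FGOrd

set_option linter.style.haveILetI false
set_option autoImplicit false

open FunFld
open Groth.Agent.Helper5

namespace Groth.Agent.Helper6.FFG1Basis

variable {k K : Type*} [Field k] [Field K] [Algebra k K]

theorem ne_zero_of_ord_ne_zero (P : Place k K) {x : K} (h : P.ord x ≠ 0) : x ≠ 0 := by
  rintro rfl
  apply h
  simp [Place.ord]

theorem basis_L (hK : IsFunctionField k K) (hgen : genus k K = 1) (P : Place k K)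
    (hP : P.deg = 1) (f g : K)
    (hf : f ∈ L (Finsupp.single P 2)) (hf2 : P.ord f = -2)
    (hg : g ∈ L (Finsupp.single P 3)) (hg3 : P.ord g = -3) (n : ℕ) (hn : 2 ≤ n) :
    LinearIndependent k
        (Sum.elim (fun i : Fin (n / 2 + 1) => f ^ (i : ℕ))
          (fun i : Fin ((n - 1) / 2) => f ^ (i : ℕ) * g)) ∧
      Submodule.span k (Set.range
        (Sum.elim (fun i : Fin (n / 2 + 1) => f ^ (i : ℕ))
          (fun i : Fin ((n - 1) / 2) => f ^ (i : ℕ) * g))) =
        L (Finsupp.single P (n : ℤ)) := by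
  classical
  have hf0 : f ≠ 0 := ne_zero_of_ord_ne_zero P (by rw [hf2]; norm_num)
  have hg0 : g ≠ 0 := ne_zero_of_ord_ne_zero P (by rw [hg3]; norm_num)
  have hvf : P.1 f = WithZero.exp (2 : ℤ) := by
    rw [FG.val_eq_exp_neg_ord P hf0, hf2]; norm_num
  have hvg : P.1 g = WithZero.exp (3 : ℤ) := by
    rw [FG.val_eq_exp_neg_ord P hg0, hg3]; norm_num
  obtain ⟨b, hb⟩ : ∃ b : Fin (n / 2 + 1) ⊕ Fin ((n - 1) / 2) → K,
      b = Sum.elim (fun i : Fin (n / 2 + 1) => f ^ (i : ℕ))
        (fun i : Fin ((n - 1) / 2) => f ^ (i : ℕ) * g) := ⟨_, rfl⟩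
  rw [← hb]
  obtain ⟨w, hw⟩ : ∃ w : Fin (n / 2 + 1) ⊕ Fin ((n - 1) / 2) → ℤ,
      w = Sum.elim (fun i : Fin (n / 2 + 1) => 2 * ((i : ℕ) : ℤ))
        (fun i : Fin ((n - 1) / 2) => 2 * ((i : ℕ) : ℤ) + 3) := ⟨_, rfl⟩
  have hval : ∀ x, P.1 (b x) = WithZero.exp (w x) := by
    intro x
    rw [hb, hw]
    rcases x with i | i
    · simp only [Sum.elim_inl]
      rw [map_pow, hvf, ← WithZero.exp_nsmul]
      congr 1
      rw [nsmul_eq_mul]; ring
    · simp only [Sum.elim_inr]
      rw [map_mul, map_pow, hvf, hvg, ← WithZero.exp_nsmul, ← WithZero.exp_add]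
      congr 1
      rw [nsmul_eq_mul]; ring
  have hwinj : Function.Injective w := by
    intro x y hxy
    rw [hw] at hxy
    rcases x with i | i <;> rcases y with j | j <;> simp only [Sum.elim_inl, Sum.elim_inr] at hxy
    · congr 1; apply Fin.ext; omega
    · omega
    · omega
    · congr 1; apply Fin.ext; omega
  have hwle : ∀ x, w x ≤ (n : ℤ) := by
    intro x
    rw [hw]
    rcases x with i | i
    · simp only [Sum.elim_inl]
      have := i.2
      omega
    · simp only [Sum.elim_inr]
      have := i.2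
      omega
  have h0 : ∀ x, b x ≠ 0 := by
    intro x hx
    have := hval x
    rw [hx, map_zero] at this
    exact WithZero.exp_ne_zero this.symm
  have hinj : Function.Injective fun x => P.1 (b x) := by
    intro x y hxy
    simp only [hval] at hxy
    exact hwinj (WithZero.exp_injective hxy)
  have hLI : LinearIndependent k b := Wr.linearIndependent_of_val_injective P b h0 hinj
  refine ⟨hLI, ?_⟩
  have hmem : ∀ x, b x ∈ L (Finsupp.single P (n : ℤ)) := by
    intro x Q
    by_cases hQ : Q = P
    · subst hQ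
      rw [Finsupp.single_eq_same, hval, WithZero.exp_le_exp]
      exact hwle x
    · rw [Finsupp.single_eq_of_ne hQ, WithZero.exp_zero]
      have hfQ : Q.1 f ≤ 1 := by
        have := hf Q
        rwa [Finsupp.single_eq_of_ne hQ, WithZero.exp_zero] at this
      have hgQ : Q.1 g ≤ 1 := by
        have := hg Q
        rwa [Finsupp.single_eq_of_ne hQ, WithZero.exp_zero] at this
      rw [hb]
      rcases x with i | i
      · simp only [Sum.elim_inl]
        rw [map_pow]
        exact pow_le_one₀ zero_le hfQ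
      · simp only [Sum.elim_inr]
        rw [map_mul, map_pow]
        exact mul_le_one' (pow_le_one₀ zero_le hfQ) hgQ
  have hle : Submodule.span k (Set.range b) ≤ L (Finsupp.single P (n : ℤ)) := by
    rw [Submodule.span_le]
    rintro _ ⟨x, rfl⟩
    exact hmem x
  haveI : FiniteDimensional k (L (Finsupp.single P (n : ℤ) : Divisor k K)) :=
    FG.finiteDimensional_L hK.1 _
  apply Submodule.eq_of_le_of_finrank_eq hle
  rw [finrank_span_eq_card hLI, Fintype.card_sum, Fintype.card_fin, Fintype.card_fin]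
  have hdeg : FunFld.Divisor.deg (Finsupp.single P (n : ℤ) : Divisor k K) = n := by
    rw [FG.deg_single, hP]; simp
  have hell := FF.ell_eq_of_deg_ge hK (Finsupp.single P (n : ℤ)) (by rw [hdeg, hgen]; omega)
  rw [hdeg, hgen] at hell
  have hell' : (Module.finrank k (L (Finsupp.single P (n : ℤ) : Divisor k K)) : ℤ) = n := by
    have : (ell (Finsupp.single P (n : ℤ) : Divisor k K) : ℤ) = n := by rw [hell]; simp
    exact this
  omega

end Groth.Agent.Helper6.FFG1Basis
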