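import Mathlib
import Groth.Agent.Helper5.FGStep

set_option linter.style.haveILetI false
set_option autoImplicit false

open FunFld
open Groth.Agent.Helper5

namespace Groth.Agent.Helper6.FFLinSer

variable {k K : Type*} [Field k] [Field K] [Algebra k K]

/-- two elements of a space of dimension at most one are proportional. -/
theorem exists_smul_of_finrank_le_one {W : Submodule k K} [FiniteDimensional k W]
    (h : Module.finrank k W ≤ 1) {s s' : K} (hs : s ∈ W) (hs' : s' ∈ W) (hs0 : s ≠ 0) :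
    ∃ c : k, s' = c • s := by
  obtain ⟨v, hv⟩ := finrank_le_one_iff.mp h
  obtain ⟨a, ha⟩ := hv ⟨s, hs⟩
  obtain ⟨b, hb⟩ := hv ⟨s', hs'⟩
  have ha0 : a ≠ 0 := by
    rintro rfl
    rw [zero_smul] at ha
    exact hs0 (congrArg Subtype.val ha).symm
  refine ⟨b * a⁻¹, ?_⟩
  have h1 : s = a • (v : K) := (congrArg Subtype.val ha).symm
  have h2 : s' = b • (v : K) := (congrArg Subtype.val hb).symm
  rw [h1, h2, smul_smul, mul_assoc, inv_mul_cancel₀ ha0, mul_one]

theorem L_inf_le {D₁ D₂ D₃ : Divisor k K} (h : ∀ R, D₃ R = D₁ R ∨ D₃ R = D₂ R) :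
    L D₁ ⊓ L D₂ ≤ L D₃ := by
  rintro x ⟨h1, h2⟩ R
  rcases h R with h3 | h3
  · rw [h3]; exact h1 R
  · rw [h3]; exact h2 R

theorem no_common (D : Divisor k K) (V : Submodule k K) (r : ℕ)
    (hr : Module.finrank k ↥V = r + 1) (P : Place k K)
    (hns : ∀ R : Place k K,
      Module.finrank k ↥(V ⊓ L (D - Finsupp.single R (r : ℤ))) ≤ 1 ∧
        V ⊓ L (D - Finsupp.single R ((r : ℤ) + 2)) = ⊥)
    (hns' : ∀ R : Place k K,
      Module.finrank k ↥(V ⊓ L (D - Finsupp.single P 1 - Finsupp.single R ((r : ℤ) - 1))) ≤ 1 ∧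
        V ⊓ L (D - Finsupp.single P 1 - Finsupp.single R ((r : ℤ) + 1)) = ⊥)
    (Q : Place k K) (hQP : Q ≠ P) :
    ¬ (V ⊓ L (D - Finsupp.single Q ((r : ℤ) + 1)) ≠ ⊥ ∧
       V ⊓ L (D - Finsupp.single P 1 - Finsupp.single Q (r : ℤ)) ≠ ⊥) := by
  classical
  rintro ⟨h1, h2⟩
  haveI : FiniteDimensional k V := Module.finite_of_finrank_pos (by rw [hr]; omega)
  obtain ⟨s, hs, hs0⟩ := Submodule.exists_mem_ne_zero_of_ne_bot h1
  obtain ⟨s', hs', hs'0⟩ := Submodule.exists_mem_ne_zero_of_ne_bot h2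
  haveI : FiniteDimensional k ↥(V ⊓ L (D - Finsupp.single Q (r : ℤ))) :=
    Submodule.finiteDimensional_of_le inf_le_left
  have hle1 : D - Finsupp.single Q ((r : ℤ) + 1) ≤ D - Finsupp.single Q (r : ℤ) := by
    intro R
    rw [Finsupp.sub_apply, Finsupp.sub_apply, Finsupp.single_apply, Finsupp.single_apply]
    split_ifs <;> omega
  have hle2 : D - Finsupp.single P 1 - Finsupp.single Q (r : ℤ) ≤
      D - Finsupp.single Q (r : ℤ) := by
    intro R
    rw [Finsupp.sub_apply, Finsupp.sub_apply, Finsupp.sub_apply, Finsupp.single_apply,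
      Finsupp.single_apply]
    split_ifs <;> omega
  have hsW : s ∈ V ⊓ L (D - Finsupp.single Q (r : ℤ)) := ⟨hs.1, FG.L_mono hle1 hs.2⟩
  have hs'W : s' ∈ V ⊓ L (D - Finsupp.single Q (r : ℤ)) := ⟨hs'.1, FG.L_mono hle2 hs'.2⟩
  obtain ⟨c, hc⟩ := exists_smul_of_finrank_le_one (hns Q).1 hsW hs'W hs0
  have hc0 : c ≠ 0 := by
    rintro rfl
    rw [zero_smul] at hc
    exact hs'0 hc
  have hs2 : s ∈ L (D - Finsupp.single P 1 - Finsupp.single Q (r : ℤ)) := by
    have : s = c⁻¹ • s' := by rw [hc, smul_smul, inv_mul_cancel₀ hc0, one_smul]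
    rw [this]
    exact Submodule.smul_mem _ _ hs'.2
  have hs3 : s ∈ L (D - Finsupp.single P 1 - Finsupp.single Q ((r : ℤ) + 1)) := by
    refine L_inf_le (D₁ := D - Finsupp.single Q ((r : ℤ) + 1))
      (D₂ := D - Finsupp.single P 1 - Finsupp.single Q (r : ℤ)) (fun R => ?_) ⟨hs.2, hs2⟩
    simp only [Finsupp.sub_apply, Finsupp.single_apply]
    by_cases hRQ : Q = R
    · have hRP : ¬ P = R := fun h => hQP (hRQ.trans h.symm)
      left
      rw [if_pos hRQ, if_neg hRP]; ring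
    · right
      rw [if_neg hRQ, if_neg hRQ]
  have hbot := (hns' Q).2
  have hmem : s ∈ V ⊓ L (D - Finsupp.single P 1 - Finsupp.single Q ((r : ℤ) + 1)) :=
    ⟨hs.1, hs3⟩
  rw [hbot, Submodule.mem_bot] at hmem
  exact hs0 hmem

end Groth.Agent.Helper6.FFLinSer
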