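import Mathlib
import Groth.Agent.Helper5.FFRR
import Groth.Agent.Helper5.FFGenusOne
import Groth.Agent.Helper5.FFGaps2
import Groth.Agent.Helper6.FFLinSer

set_option linter.style.haveILetI false
set_option autoImplicit false

open FunFld
open Groth.Agent.Helper5

namespace Groth.Agent.Helper6.FFG2

variable {k K : Type*} [Field k] [Field K] [Algebra k K]

/-- pointwise evaluation of divisor expressions. -/
macro "dsolve" : tactic =>
  `(tactic| (simp only [Finsupp.add_apply, Finsupp.sub_apply, Finsupp.neg_apply,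
      Finsupp.single_apply, Finsupp.zero_apply]; (try split_ifs) <;> omega))

theorem mem_L_iff_nonneg (hK : IsFunctionField k K) (D : Divisor k K) {x : K} (hx0 : x ≠ 0) :
    x ∈ L D ↔ 0 ≤ D + FunFld.div k x := by
  rw [FF.mem_L_iff_ord D hx0]
  constructor
  · intro h P
    have := h P
    rw [Finsupp.add_apply, FF.div_apply hK, Finsupp.zero_apply]
    omega
  · intro h P
    have := h P
    rw [Finsupp.add_apply, FF.div_apply hK, Finsupp.zero_apply] at this
    omega

theorem exists_mem_L_of_ell_pos {D : Divisor k K} (h : 0 < ell D) :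
    ∃ u : K, u ≠ 0 ∧ u ∈ L D := by
  have hne : L D ≠ ⊥ := FF.L_ne_bot_of_ell_pos h
  obtain ⟨u, hu, hu0⟩ := Submodule.exists_mem_ne_zero_of_ne_bot hne
  exact ⟨u, hu0, hu⟩

/-- a divisor of degree zero with a nonzero section is principal (up to sign). -/
theorem exists_div_eq_neg (hK : IsFunctionField k K) {D : Divisor k K} (hdeg : D.deg = 0)
    (h : 0 < ell D) : ∃ u : K, u ≠ 0 ∧ FunFld.div k u = -D := by
  obtain ⟨u, hu0, hu⟩ := exists_mem_L_of_ell_pos h
  refine ⟨u, hu0, ?_⟩
  have hE : 0 ≤ D + FunFld.div k u := (mem_L_iff_nonneg hK D hu0).mp hu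
  have hzero : D + FunFld.div k u = 0 := by
    by_contra hne
    have := FF.deg_pos_of_pos hK hE hne
    rw [FF.deg_add, FF.deg_div hK, hdeg] at this
    omega
  exact eq_neg_of_add_eq_zero_right hzero

theorem deg_single' (hd1 : ∀ P : Place k K, P.deg = 1) (P : Place k K) (n : ℤ) :
    FunFld.Divisor.deg (Finsupp.single P n : Divisor k K) = n := by
  rw [FF.deg_single, hd1]; simp

theorem ell_neg_single (hK : IsFunctionField k K) (hd1 : ∀ P : Place k K, P.deg = 1)
    (P : Place k K) : ell (-(Finsupp.single P 1) : Divisor k K) = 0 := by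
  unfold ell
  rw [FF.L_eq_bot_of_deg_neg hK _ (by rw [FF.deg_neg, deg_single' hd1]; norm_num), finrank_bot]

/-- in genus two, a point is a base point of `C + P`. -/
theorem L_canonical_add_single (hK : IsFunctionField k K) (hg : genus k K = 2)
    (hd1 : ∀ P : Place k K, P.deg = 1) {C : Divisor k K} (hC : IsCanonical k K C)
    (P : Place k K) : L (C + Finsupp.single P 1) = L C := by
  classical
  obtain ⟨hellC, hdegC⟩ := FF.ell_canonical hK hC
  have hrr := FF.riemann_roch hK C hC (C + Finsupp.single P 1)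
  have h1 : C - (C + Finsupp.single P 1) = -(Finsupp.single P 1) := by abel
  rw [h1, ell_neg_single hK hd1, FF.deg_add, deg_single' hd1, hdegC, hg] at hrr
  haveI : FiniteDimensional k (L (C + Finsupp.single P 1 : Divisor k K)) :=
    FG.finiteDimensional_L hK.1 _
  symm
  apply Submodule.eq_of_le_of_finrank_eq
  · exact FG.L_mono (by intro R; dsolve)
  · have h2 : (Module.finrank k (L C) : ℤ) = 2 := by
      have : (ell C : ℤ) = 2 := by rw [hellC, hg]; rfl
      exact this
    have h3 : (Module.finrank k (L (C + Finsupp.single P 1 : Divisor k K)) : ℤ) = 2 := by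
      have h4 : (ell (C + Finsupp.single P 1 : Divisor k K) : ℤ) = 2 := by
        push_cast at hrr; omega
      exact h4
    omega

/-- S17249 -/
theorem no_two_sub_point [IsAlgClosed k] (hK : IsFunctionField k K) (hg : genus k K = 2)
    (C : Divisor k K) (hC : IsCanonical k K C) (A P Q : Place k K)
    (hA : Module.finrank k ↥(L (Finsupp.single A (2 : ℤ) : Divisor k K)) = 1) (hQ : Q ≠ A) :
    ¬ (Module.finrank k ↥(L (C + Finsupp.single A (2 : ℤ) - Finsupp.single P (1 : ℤ) -
          Finsupp.single Q (3 : ℤ))) = 1 ∧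
       Module.finrank k ↥(L (C + Finsupp.single A (2 : ℤ) - Finsupp.single P (1 : ℤ) -
          Finsupp.single Q (1 : ℤ))) = 2) := by
  classical
  rintro ⟨-, h2⟩
  have hd1 : ∀ P : Place k K, P.deg = 1 := FF.deg_eq_one_of_isAlgClosed hK
  obtain ⟨hellC, hdegC⟩ := FF.ell_canonical hK hC
  obtain ⟨D, hD⟩ : ∃ D : Divisor k K, D = C + Finsupp.single A (2 : ℤ) -
      Finsupp.single P (1 : ℤ) - Finsupp.single Q (1 : ℤ) := ⟨_, rfl⟩
  rw [← hD] at h2
  have hdegD : D.deg = 2 := by
    rw [hD, FF.deg_sub, FF.deg_sub, FF.deg_add, deg_single' hd1, deg_single' hd1,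
      deg_single' hd1, hdegC, hg]
    norm_num
  have hrr := FF.riemann_roch hK C hC D
  have hellD : (ell D : ℤ) = 2 := by exact_mod_cast h2
  rw [hellD, hdegD, hg] at hrr
  have hpos : 0 < ell (C - D) := by
    have : (ell (C - D) : ℤ) = 1 := by push_cast at hrr; omega
    omega
  have hdeg0 : (C - D).deg = 0 := by rw [FF.deg_sub, hdegC, hdegD, hg]; norm_num
  obtain ⟨u, hu0, hu⟩ := exists_div_eq_neg hK hdeg0 hpos
  have hv0 : u⁻¹ ≠ 0 := inv_ne_zero hu0
  have hdivv : FunFld.div k u⁻¹ = C - D := by rw [FF.div_inv hK, hu, neg_neg]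
  have hvmem : u⁻¹ ∈ L (Finsupp.single A (2 : ℤ) : Divisor k K) := by
    rw [mem_L_iff_nonneg hK _ hv0, hdivv, hD]
    intro R
    dsolve
  have h1mem : (1 : K) ∈ L (Finsupp.single A (2 : ℤ) : Divisor k K) := by
    intro R
    rw [map_one, ← WithZero.exp_zero, WithZero.exp_le_exp, Finsupp.single_apply]
    split_ifs <;> norm_num
  haveI : FiniteDimensional k (L (Finsupp.single A (2 : ℤ) : Divisor k K)) :=
    FG.finiteDimensional_L hK.1 _
  obtain ⟨c, hc⟩ := FFLinSer.exists_smul_of_finrank_le_one hA.le h1mem hvmem one_ne_zero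
  have halg : IsAlgebraic k u⁻¹ := by
    rw [hc, Algebra.smul_def, mul_one]
    exact isAlgebraic_algebraMap c
  have hz := FF.div_eq_zero_of_isAlgebraic hK halg
  rw [hdivv, hD] at hz
  have hzQ := DFunLike.congr_fun hz Q
  have hQA : ¬ A = Q := fun h => hQ h.symm
  simp only [Finsupp.add_apply, Finsupp.sub_apply, Finsupp.single_apply, Finsupp.zero_apply,
    if_neg hQA, if_true] at hzQ
  split_ifs at hzQ <;> omega

/-- S17250 -/
theorem no_three_sub_point [IsAlgClosed k] (hK : IsFunctionField k K) (hg : genus k K = 2)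
    (C : Divisor k K) (hC : IsCanonical k K C) (A P Q : Place k K) (hP : P ≠ A) :
    ¬ (Module.finrank k ↥(L (C + Finsupp.single A (3 : ℤ) - Finsupp.single P (1 : ℤ) -
          Finsupp.single Q (4 : ℤ))) = 1 ∧
       Module.finrank k ↥(L (C + Finsupp.single A (3 : ℤ) - Finsupp.single P (1 : ℤ) -
          Finsupp.single Q (2 : ℤ))) = 2) := by
  classical
  rintro ⟨h1, h2⟩
  have hd1 : ∀ P : Place k K, P.deg = 1 := FF.deg_eq_one_of_isAlgClosed hK
  obtain ⟨hellC, hdegC⟩ := FF.ell_canonical hK hC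
  obtain ⟨D, hD⟩ : ∃ D : Divisor k K, D = C + Finsupp.single A (3 : ℤ) -
      Finsupp.single P (1 : ℤ) - Finsupp.single Q (2 : ℤ) := ⟨_, rfl⟩
  obtain ⟨D', hD'⟩ : ∃ D' : Divisor k K, D' = C + Finsupp.single A (3 : ℤ) -
      Finsupp.single P (1 : ℤ) - Finsupp.single Q (4 : ℤ) := ⟨_, rfl⟩
  rw [← hD] at h2
  rw [← hD'] at h1
  have hdegD : D.deg = 2 := by
    rw [hD, FF.deg_sub, FF.deg_sub, FF.deg_add, deg_single' hd1, deg_single' hd1,
      deg_single' hd1, hdegC, hg]
    norm_num
  have hdegD' : D'.deg = 0 := by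
    rw [hD', FF.deg_sub, FF.deg_sub, FF.deg_add, deg_single' hd1, deg_single' hd1,
      deg_single' hd1, hdegC, hg]
    norm_num
  have hrr := FF.riemann_roch hK C hC D
  have hellD : (ell D : ℤ) = 2 := by exact_mod_cast h2
  rw [hellD, hdegD, hg] at hrr
  have hpos : 0 < ell (C - D) := by
    have : (ell (C - D) : ℤ) = 1 := by push_cast at hrr; omega
    omega
  have hdeg0 : (C - D).deg = 0 := by rw [FF.deg_sub, hdegC, hdegD, hg]; norm_num
  obtain ⟨u, hu0, hu⟩ := exists_div_eq_neg hK hdeg0 hpos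
  have hpos' : 0 < ell D' := by
    have : ell D' = 1 := h1
    omega
  obtain ⟨w, hw0, hw⟩ := exists_div_eq_neg hK hdegD' hpos'
  have hz0 : u * (u * w) ≠ 0 := mul_ne_zero hu0 (mul_ne_zero hu0 hw0)
  have hdivz : FunFld.div k (u * (u * w)) = -(C - D) + (-(C - D) + -D') := by
    rw [FF.div_mul hK hu0 (mul_ne_zero hu0 hw0), FF.div_mul hK hu0 hw0, hu, hw]
  have hzmem : u * (u * w) ∈ L (C + Finsupp.single P 1) := by
    rw [mem_L_iff_nonneg hK _ hz0, hdivz, hD, hD']
    intro R
    dsolve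
  rw [L_canonical_add_single hK hg hd1 hC P, mem_L_iff_nonneg hK _ hz0, hdivz, hD, hD'] at hzmem
  have hzP := hzmem P
  have hAP : ¬ A = P := fun h => hP h.symm
  simp only [Finsupp.add_apply, Finsupp.sub_apply, Finsupp.neg_apply, Finsupp.single_apply,
    Finsupp.zero_apply, if_neg hAP, if_true] at hzP
  split_ifs at hzP <;> omega

/-- S17251 -/
theorem no_common_one_three [IsAlgClosed k] (hK : IsFunctionField k K) (hg : genus k K = 2)
    (C : Divisor k K) (hC : IsCanonical k K C) (B Q : Place k K)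
    (hB : Module.finrank k ↥(L (Finsupp.single B (2 : ℤ) : Divisor k K)) = 1) (hQ : Q ≠ B) :
    ¬ (Module.finrank k ↥(L (C + Finsupp.single B (1 : ℤ) - Finsupp.single Q (2 : ℤ))) = 1 ∧
       Module.finrank k ↥(L (C + Finsupp.single B (3 : ℤ) - Finsupp.single Q (4 : ℤ))) = 1) := by
  classical
  rintro ⟨h1, h2⟩
  have hd1 : ∀ P : Place k K, P.deg = 1 := FF.deg_eq_one_of_isAlgClosed hK
  obtain ⟨hellC, hdegC⟩ := FF.ell_canonical hK hC
  have hBQ : ¬ B = Q := fun h => hQ h.symm
  -- step 1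
  obtain ⟨D₁, hD₁⟩ : ∃ D₁ : Divisor k K, D₁ = C + Finsupp.single B (1 : ℤ) -
      Finsupp.single Q (2 : ℤ) := ⟨_, rfl⟩
  rw [← hD₁] at h1
  have hdegD₁ : D₁.deg = 1 := by
    rw [hD₁, FF.deg_sub, FF.deg_add, deg_single' hd1, deg_single' hd1, hdegC, hg]
    norm_num
  have hrr1 := FF.riemann_roch hK C hC D₁
  have hellD₁ : (ell D₁ : ℤ) = 1 := by exact_mod_cast h1
  rw [hellD₁, hdegD₁, hg] at hrr1
  have hpos1 : 0 < ell (C - D₁) := by
    have : (ell (C - D₁) : ℤ) = 1 := by push_cast at hrr1; omega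
    omega
  obtain ⟨u, hu0, hu⟩ := exists_mem_L_of_ell_pos hpos1
  have hu2Q : u ∈ L (Finsupp.single Q (2 : ℤ) : Divisor k K) := by
    refine FG.L_mono (fun R => ?_) hu
    rw [hD₁]
    dsolve
  have h1mem : (1 : K) ∈ L (Finsupp.single Q (2 : ℤ) : Divisor k K) := by
    intro R
    rw [map_one, ← WithZero.exp_zero, WithZero.exp_le_exp, Finsupp.single_apply]
    split_ifs <;> norm_num
  haveI : FiniteDimensional k (L (Finsupp.single Q (2 : ℤ) : Divisor k K)) :=
    FG.finiteDimensional_L hK.1 _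
  have hell2Q : 2 ≤ ell (Finsupp.single Q (2 : ℤ) : Divisor k K) := by
    by_contra hlt
    have hle : Module.finrank k (L (Finsupp.single Q (2 : ℤ) : Divisor k K)) ≤ 1 := by
      have : ell (Finsupp.single Q (2 : ℤ) : Divisor k K) ≤ 1 := by omega
      exact this
    obtain ⟨c, hc⟩ := FFLinSer.exists_smul_of_finrank_le_one hle h1mem hu2Q one_ne_zero
    have halg : IsAlgebraic k u := by
      rw [hc, Algebra.smul_def, mul_one]
      exact isAlgebraic_algebraMap c
    have hz := FF.div_eq_zero_of_isAlgebraic hK halg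
    have hnn := (mem_L_iff_nonneg hK _ hu0).mp hu
    rw [hz, add_zero, hD₁] at hnn
    have hnnB := hnn B
    simp only [Finsupp.add_apply, Finsupp.sub_apply, Finsupp.single_apply,
      Finsupp.zero_apply, if_neg hQ, if_true] at hnnB
    omega
  -- step 2
  have hrr2 := FF.riemann_roch hK C hC (Finsupp.single Q (2 : ℤ))
  rw [deg_single' hd1, hg] at hrr2
  have hpos2 : 0 < ell (C - Finsupp.single Q (2 : ℤ)) := by
    have : (2 : ℤ) ≤ (ell (Finsupp.single Q (2 : ℤ) : Divisor k K) : ℤ) := by exact_mod_cast hell2Q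
    have h3 : (1 : ℤ) ≤ (ell (C - Finsupp.single Q (2 : ℤ)) : ℤ) := by push_cast at hrr2; omega
    omega
  have hdeg2 : FunFld.Divisor.deg (C - Finsupp.single Q (2 : ℤ)) = 0 := by
    rw [FF.deg_sub, deg_single' hd1, hdegC, hg]; norm_num
  obtain ⟨w, hw0, hw⟩ := exists_div_eq_neg hK hdeg2 hpos2
  -- step 3
  have hww0 : w * w ≠ 0 := mul_ne_zero hw0 hw0
  have hD₂ : Finsupp.single B (3 : ℤ) - C =
      C + Finsupp.single B (3 : ℤ) - Finsupp.single Q (4 : ℤ) + FunFld.div k (w * w) := by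
    rw [FF.div_mul hK hw0 hw0, hw]
    ext R
    dsolve
  have hell3 : ell (Finsupp.single B (3 : ℤ) - C) = 1 := by
    rw [hD₂, FF.ell_add_div hK _ hww0]
    exact h2
  obtain ⟨z, hz0, hz⟩ := exists_mem_L_of_ell_pos (D := Finsupp.single B (3 : ℤ) - C)
    (by rw [hell3]; norm_num)
  have hE : 0 ≤ Finsupp.single B (3 : ℤ) - C + FunFld.div k z := (mem_L_iff_nonneg hK _ hz0).mp hz
  have hdegE : FunFld.Divisor.deg (Finsupp.single B (3 : ℤ) - C + FunFld.div k z) = 1 := by
    rw [FF.deg_add, FF.deg_sub, deg_single' hd1, FF.deg_div hK, hdegC, hg]; norm_num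
  obtain ⟨R, -, hR⟩ := FF.effective_deg_one hK hE hdegE
  have hdivz : FunFld.div k z = Finsupp.single R 1 - (Finsupp.single B (3 : ℤ) - C) :=
    eq_sub_of_add_eq' hR
  -- step 4
  have hzi0 : z⁻¹ ≠ 0 := inv_ne_zero hz0
  have hdivzi : FunFld.div k z⁻¹ = -(Finsupp.single R 1 - (Finsupp.single B (3 : ℤ) - C)) := by
    rw [FF.div_inv hK, hdivz]
  have hzimem : z⁻¹ ∈ L (C + Finsupp.single R 1) := by
    rw [mem_L_iff_nonneg hK _ hzi0, hdivzi]
    intro S
    dsolve
  rw [L_canonical_add_single hK hg hd1 hC R, mem_L_iff_nonneg hK _ hzi0, hdivzi] at hzimem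
  have hRB : B = R := by
    have h3 := hzimem R
    simp only [Finsupp.add_apply, Finsupp.sub_apply, Finsupp.neg_apply, Finsupp.single_apply,
      Finsupp.zero_apply, if_true] at h3
    by_contra hne
    rw [if_neg hne] at h3
    omega
  subst hRB
  -- step 5
  have hC2 : C = Finsupp.single B (2 : ℤ) + FunFld.div k z := by
    rw [hdivz]
    ext S
    dsolve
  have hcontra : ell C = 1 := by
    rw [hC2, FF.ell_add_div hK _ hz0]
    exact hB
  rw [hellC, hg] at hcontra
  omega

end Groth.Agent.Helper6.FFG2
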