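import Mathlib
import Groth.Agent.Helper6.FFLinSer
import Groth.Agent.Helper5.FFGaps2

set_option linter.style.haveILetI false
set_option autoImplicit false

open FunFld
open Groth.Agent.Helper5

namespace Groth.Agent.Helper6.FFLinSer

variable {k K : Type*} [Field k] [Field K] [Algebra k K]

/-- one more vanishing condition costs at most `deg P` dimensions. -/
theorem finrank_inf_step (hK : IsFunctionField k K) (V : Submodule k K) [FiniteDimensional k V]
    (A : Divisor k K) (P : Place k K) :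
    Module.finrank k ↥(V ⊓ L (A + Finsupp.single P 1)) ≤
      Module.finrank k ↥(V ⊓ L A) + P.deg := by
  obtain ⟨t, ht⟩ := FG.exists_uniformizer P
  haveI := FG.finiteDimensional_residueField hK.1 P
  haveI : FiniteDimensional k ↥(V ⊓ L (A + Finsupp.single P 1)) :=
    Submodule.finiteDimensional_of_le inf_le_left
  let φ : ↥(V ⊓ L (A + Finsupp.single P 1)) →ₗ[k] IsLocalRing.ResidueField P.O :=
    (FG.stepMap A P t ht).comp (Submodule.inclusion inf_le_right)
  let ι : LinearMap.ker φ →ₗ[k] ↥(V ⊓ L A) :=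
    { toFun := fun x => ⟨x.1.1, x.1.2.1, by
        have h1 : Submodule.inclusion inf_le_right x.1 ∈
            LinearMap.ker (FG.stepMap A P t ht) := LinearMap.mem_ker.mpr (LinearMap.mem_ker.mp x.2)
        exact (FG.mem_ker_stepMap A P t ht _).mp h1⟩
      map_add' := fun x y => rfl
      map_smul' := fun c x => rfl }
  have hι : Function.Injective ι := by
    intro x y h
    apply Subtype.ext; apply Subtype.ext
    exact congrArg (fun z : ↥(V ⊓ L A) => z.1) h
  have h1 := LinearMap.finrank_range_add_finrank_ker φ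
  have h2 : Module.finrank k (LinearMap.ker φ) ≤ Module.finrank k ↥(V ⊓ L A) :=
    LinearMap.finrank_le_finrank_of_injective hι
  have h3 : Module.finrank k (LinearMap.range φ) ≤ P.deg := Submodule.finrank_le _
  omega

/-- the spaces `V ∩ L(D - iP - jQ)`. -/
noncomputable abbrev W (V : Submodule k K) (D : Divisor k K) (P Q : Place k K) (i j : ℤ) : Submodule k K :=
  V ⊓ L (D - Finsupp.single P i - Finsupp.single Q j)

section

variable (V : Submodule k K) [FiniteDimensional k V] (D : Divisor k K) (P Q : Place k K)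

instance (i j : ℤ) : FiniteDimensional k ↥(W V D P Q i j) :=
  Submodule.finiteDimensional_of_le inf_le_left

theorem W_mono {i i' j j' : ℤ} (hi : i ≤ i') (hj : j ≤ j') :
    Module.finrank k ↥(W V D P Q i' j') ≤ Module.finrank k ↥(W V D P Q i j) := by
  classical
  apply Submodule.finrank_mono
  refine inf_le_inf_left V (FG.L_mono fun R => ?_)
  simp only [Finsupp.sub_apply, Finsupp.single_apply]
  split_ifs <;> omega

theorem W_step_left (hK : IsFunctionField k K) (hP : P.deg = 1) {i i' : ℤ} (h : i' = i + 1) (j : ℤ) :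
    Module.finrank k ↥(W V D P Q i j) ≤ Module.finrank k ↥(W V D P Q i' j) + 1 := by
  have h1 := finrank_inf_step hK V (D - Finsupp.single P i' - Finsupp.single Q j) P
  have h2 : D - Finsupp.single P i' - Finsupp.single Q j + Finsupp.single P 1 =
      D - Finsupp.single P i - Finsupp.single Q j := by
    rw [h, Finsupp.single_add]; abel
  rw [h2, hP] at h1
  exact h1

theorem W_step_right (hK : IsFunctionField k K) (hQ : Q.deg = 1) (i : ℤ) {j j' : ℤ} (h : j' = j + 1) :
    Module.finrank k ↥(W V D P Q i j) ≤ Module.finrank k ↥(W V D P Q i j') + 1 := by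
  have h1 := finrank_inf_step hK V (D - Finsupp.single P i - Finsupp.single Q j') Q
  have h2 : D - Finsupp.single P i - Finsupp.single Q j' + Finsupp.single Q 1 =
      D - Finsupp.single P i - Finsupp.single Q j := by
    rw [h, Finsupp.single_add]; abel
  rw [h2, hQ] at h1
  exact h1

theorem W_super (hPQ : P ≠ Q) {i i' j j' : ℤ} (hi : i' = i + 1) (hj : j' = j + 1) :
    Module.finrank k ↥(W V D P Q i' j) + Module.finrank k ↥(W V D P Q i j') ≤
      Module.finrank k ↥(W V D P Q i j) + Module.finrank k ↥(W V D P Q i' j') := by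
  classical
  have h1 := Submodule.finrank_sup_add_finrank_inf_eq (W V D P Q i' j) (W V D P Q i j')
  have h2 : Module.finrank k ↥(W V D P Q i' j ⊔ W V D P Q i j') ≤
      Module.finrank k ↥(W V D P Q i j) := by
    apply Submodule.finrank_mono
    refine sup_le (inf_le_inf_left V (FG.L_mono fun R => ?_))
      (inf_le_inf_left V (FG.L_mono fun R => ?_))
    · simp only [Finsupp.sub_apply, Finsupp.single_apply]
      split_ifs <;> omega
    · simp only [Finsupp.sub_apply, Finsupp.single_apply]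
      split_ifs <;> omega
  have h3 : Module.finrank k ↥(W V D P Q i' j ⊓ W V D P Q i j') ≤
      Module.finrank k ↥(W V D P Q i' j') := by
    apply Submodule.finrank_mono
    rintro x ⟨⟨hx1, hx2⟩, ⟨-, hx3⟩⟩
    refine ⟨hx1, L_inf_le (fun R => ?_) ⟨hx2, hx3⟩⟩
    simp only [Finsupp.sub_apply, Finsupp.single_apply]
    by_cases hRP : P = R
    · have hRQ : ¬ Q = R := fun h => hPQ (hRP.trans h.symm)
      left
      rw [if_pos hRP, if_neg hRQ, if_neg hRQ]
    · right
      rw [if_neg hRP, if_neg hRP]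
  omega

end

theorem special_iff [IsAlgClosed k] (hK : IsFunctionField k K) (D : Divisor k K)
    (V : Submodule k K) (r : ℕ) (hr : Module.finrank k ↥V = r + 1)
    (P Q : Place k K) (hPQ : P ≠ Q) (a b : ℕ) :
    ((2 ≤ Module.finrank k ↥(V ⊓ L (D - Finsupp.single P (a : ℤ) - Finsupp.single Q ((b : ℤ) - 1 : ℤ))) ∨
        1 ≤ Module.finrank k ↥(V ⊓ L (D - Finsupp.single P (a : ℤ) - Finsupp.single Q ((b : ℤ) + 1 : ℤ)))) ∧
      (2 ≤ Module.finrank k ↥(V ⊓ L (D - Finsupp.single P ((a : ℤ) - 1 : ℤ) - Finsupp.single Q (b : ℤ))) ∨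
        1 ≤ Module.finrank k ↥(V ⊓ L (D - Finsupp.single P ((a : ℤ) + 1 : ℤ) - Finsupp.single Q (b : ℤ))))) ↔
    (1 ≤ Module.finrank k ↥(V ⊓ L (D - Finsupp.single P ((a : ℤ) + 1 : ℤ) - Finsupp.single Q ((b : ℤ) + 1 : ℤ))) ∨
      3 ≤ Module.finrank k ↥(V ⊓ L (D - Finsupp.single P ((a : ℤ) - 1 : ℤ) - Finsupp.single Q ((b : ℤ) - 1 : ℤ))) ∨
      (1 ≤ Module.finrank k ↥(V ⊓ L (D - Finsupp.single P (a : ℤ) - Finsupp.single Q ((b : ℤ) + 1 : ℤ))) ∧
        2 ≤ Module.finrank k ↥(V ⊓ L (D - Finsupp.single P ((a : ℤ) - 1 : ℤ) - Finsupp.single Q (b : ℤ)))) ∨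
      (1 ≤ Module.finrank k ↥(V ⊓ L (D - Finsupp.single P ((a : ℤ) + 1 : ℤ) - Finsupp.single Q (b : ℤ))) ∧
        2 ≤ Module.finrank k ↥(V ⊓ L (D - Finsupp.single P (a : ℤ) - Finsupp.single Q ((b : ℤ) - 1 : ℤ))))) := by
  haveI : FiniteDimensional k V := Module.finite_of_finrank_pos (by rw [hr]; omega)
  have hP : P.deg = 1 := FF.deg_eq_one_of_isAlgClosed hK P
  have hQ : Q.deg = 1 := FF.deg_eq_one_of_isAlgClosed hK Q
  -- monotonicity
  have m1 := W_mono V D P Q (i := (a : ℤ)) (i' := (a : ℤ) + 1) (j := (b : ℤ) + 1)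
    (j' := (b : ℤ) + 1) (by omega) le_rfl
  have m2 := W_mono V D P Q (i := (a : ℤ) + 1) (i' := (a : ℤ) + 1) (j := (b : ℤ))
    (j' := (b : ℤ) + 1) le_rfl (by omega)
  have m3 := W_mono V D P Q (i := (a : ℤ)) (i' := (a : ℤ)) (j := (b : ℤ) - 1)
    (j' := (b : ℤ)) le_rfl (by omega)
  -- steps
  have s1 := W_step_left V D P Q hK hP (i := (a : ℤ) - 1) (i' := (a : ℤ)) (by ring) ((b : ℤ) - 1)
  have s2 := W_step_right V D P Q hK hQ ((a : ℤ) - 1) (j := (b : ℤ) - 1) (j' := (b : ℤ)) (by ring)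
  have s3 := W_step_left V D P Q hK hP (i := (a : ℤ)) (i' := (a : ℤ) + 1) rfl (b : ℤ)
  -- supermodularity
  have u1 := W_super V D P Q hPQ (i := (a : ℤ) - 1) (i' := (a : ℤ)) (j := (b : ℤ) - 1)
    (j' := (b : ℤ)) (by ring) (by ring)
  have u2 := W_super V D P Q hPQ (i := (a : ℤ)) (i' := (a : ℤ) + 1) (j := (b : ℤ))
    (j' := (b : ℤ) + 1) rfl rfl
  simp only [W] at m1 m2 m3 s1 s2 s3 u1 u2
  constructor
  · rintro ⟨h1 | h1, h2 | h2⟩ <;> omega
  · rintro (h | h | ⟨h1, h2⟩ | ⟨h1, h2⟩) <;> constructor <;> omega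

end Groth.Agent.Helper6.FFLinSer
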