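import Mathlib
import Groth.Prelude.Def_W4c1famcyclesFFR

set_option autoImplicit false
set_option linter.style.haveILetI false
set_option linter.unusedSectionVars false
set_option backward.isDefEq.respectTransparency false

universe u

open Polynomial TensorProduct

namespace Groth.Agent.Helper6.FFRDet

section CharpolySES

variable {R V : Type*} [CommRing R] [AddCommGroup V] [Module R V] [Module.Free R V]
  [Module.Finite R V]
  (W : Submodule R V) [Module.Free R W] [Module.Finite R W] [Module.Free R (V ⧸ W)]

open Module.Basis in
theorem charpoly_eq_restrict_mul_mapQ (e : V →ₗ[R] V) (he : W ≤ W.comap e) :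
    e.charpoly = (e.restrict he).charpoly * (W.mapQ W e he).charpoly := by
  let m := Module.Free.ChooseBasisIndex R W
  let bW : Module.Basis m R W := Module.Free.chooseBasis R W
  let n := Module.Free.ChooseBasisIndex R (V ⧸ W)
  let bQ : Module.Basis n R (V ⧸ W) := Module.Free.chooseBasis R (V ⧸ W)
  let b := sumQuot bW bQ
  let A : Matrix m m R := LinearMap.toMatrix bW bW (e.restrict he)
  let B : Matrix m n R := Matrix.of fun i l ↦
    ((sumQuot bW bQ).repr (e ((sumQuot bW bQ) (Sum.inr l)))) (Sum.inl i)
  let D : Matrix n n R := LinearMap.toMatrix bQ bQ (W.mapQ W e he)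
  suffices LinearMap.toMatrix b b e = Matrix.fromBlocks A B 0 D by
    rw [← LinearMap.charpoly_toMatrix e b, this, ← LinearMap.charpoly_toMatrix (e.restrict he) bW,
      ← LinearMap.charpoly_toMatrix (W.mapQ W e he) bQ, Matrix.charpoly_fromBlocks_zero₂₁]
  ext u v
  cases u with
  | inl i =>
    cases v with
    | inl k =>
      simp only [b, sumQuot_inl, Matrix.fromBlocks_apply₁₁, A, LinearMap.toMatrix_apply]
      apply sumQuot_repr_inl_of_mem
    | inr l => simp [b, LinearMap.toMatrix_apply, Matrix.fromBlocks_apply₁₂, B]
  | inr j =>
    cases v with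
    | inl k =>
      suffices W.mkQ (e (bW k)) = 0 by simp [LinearMap.toMatrix_apply, b, this]
      rw [← LinearMap.mem_ker, Submodule.ker_mkQ]
      exact he (Submodule.coe_mem (bW k))
    | inr l =>
      simp only [LinearMap.toMatrix_apply, sumQuot_repr_inr,
        Matrix.fromBlocks_apply₂₂, b, D]
      rw [← sumQuot_inr bW bQ l, W.mapQ_apply]
      simp

end CharpolySES

section SES

variable {R N P M : Type*} [CommRing R] [AddCommGroup N] [AddCommGroup P] [AddCommGroup M]
  [Module R N] [Module R P] [Module R M]

/-- Multiplicativity of the characteristic polynomial along a short exact sequence of finite free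
modules with compatible endomorphisms. -/
theorem charpoly_ses [Module.Free R N] [Module.Finite R N] [Module.Free R P] [Module.Finite R P]
    [Module.Free R M] [Module.Finite R M]
    (i : N →ₗ[R] P) (q : P →ₗ[R] M) (hi : Function.Injective i) (hq : Function.Surjective q)
    (hex : Function.Exact i q)
    (ψ : N →ₗ[R] N) (χ : P →ₗ[R] P) (φ : M →ₗ[R] M)
    (h1 : ∀ x, χ (i x) = i (ψ x)) (h2 : ∀ x, q (χ x) = φ (q x)) :
    χ.charpoly = ψ.charpoly * φ.charpoly := by
  have hr : LinearMap.range i = LinearMap.ker q := hex.linearMap_ker_eq.symm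
  let eN : N ≃ₗ[R] LinearMap.ker q :=
    (LinearEquiv.ofInjective i hi).trans (LinearEquiv.ofEq _ _ hr)
  let eM : (P ⧸ LinearMap.ker q) ≃ₗ[R] M := q.quotKerEquivOfSurjective hq
  have heN : ∀ n, ((eN n : LinearMap.ker q) : P) = i n := fun n => rfl
  haveI : Module.Free R (LinearMap.ker q) := Module.Free.of_equiv eN
  haveI : Module.Finite R (LinearMap.ker q) := Module.Finite.equiv eN
  haveI : Module.Free R (P ⧸ LinearMap.ker q) := Module.Free.of_equiv eM.symm
  have he : LinearMap.ker q ≤ (LinearMap.ker q).comap χ := by
    intro x hx
    rw [Submodule.mem_comap, LinearMap.mem_ker, h2, LinearMap.mem_ker.mp hx, map_zero]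
  rw [charpoly_eq_restrict_mul_mapQ (LinearMap.ker q) χ he]
  have e1 : χ.restrict he = eN.conj ψ := by
    refine LinearMap.ext fun x => ?_
    obtain ⟨n, rfl⟩ := eN.surjective x
    apply Subtype.ext
    rw [LinearMap.coe_restrict_apply, heN, h1, LinearEquiv.conj_apply_apply,
      LinearEquiv.symm_apply_apply, heN]
  have e2 : (LinearMap.ker q).mapQ (LinearMap.ker q) χ he = eM.symm.conj φ := by
    refine LinearMap.ext fun x => ?_
    obtain ⟨p, rfl⟩ := Submodule.Quotient.mk_surjective _ x
    rw [LinearEquiv.conj_apply_apply, LinearEquiv.symm_symm]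
    have h3 : eM (Submodule.Quotient.mk p) = q p :=
      LinearMap.quotKerEquivOfSurjective_apply_mk q hq p
    rw [h3, ← h2, ← LinearMap.quotKerEquivOfSurjective_apply_mk q hq (χ p)]
    change _ = eM.symm (eM _)
    rw [LinearEquiv.symm_apply_apply]
    rfl
  rw [e1, e2, LinearEquiv.charpoly_conj, LinearEquiv.charpoly_conj]

/-- If the cokernel in a short exact sequence over a local ring is free, then the kernel is
free (when finite and the middle is free). -/
theorem free_ker_of_free_quot [IsLocalRing R] [Module.Free R P] [Module.Finite R N]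
    [Module.Free R M]
    (i : N →ₗ[R] P) (q : P →ₗ[R] M) (hi : Function.Injective i) (hq : Function.Surjective q)
    (hex : Function.Exact i q) : Module.Free R N := by
  obtain ⟨j, hj⟩ := Module.projective_lifting_property q LinearMap.id hq
  have hjq : ∀ m, q (j m) = m := fun m => LinearMap.congr_fun hj m
  have hmem : ∀ x : P, ((LinearMap.id : P →ₗ[R] P) - j ∘ₗ q) x ∈ LinearMap.range i := by
    intro x
    rw [← hex.linearMap_ker_eq, LinearMap.mem_ker]
    simp only [LinearMap.sub_apply, LinearMap.id_apply, LinearMap.comp_apply, map_sub, hjq,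
      sub_self]
  let r : P →ₗ[R] N := (LinearEquiv.ofInjective i hi).symm.toLinearMap ∘ₗ
    LinearMap.codRestrict (LinearMap.range i) ((LinearMap.id : P →ₗ[R] P) - j ∘ₗ q) hmem
  have hri : r ∘ₗ i = LinearMap.id := by
    refine LinearMap.ext fun n => ?_
    apply hi
    have h0 : q (i n) = 0 := hex.apply_apply_eq_zero n
    have h4 : ∀ y : LinearMap.range i,
        i ((LinearEquiv.ofInjective i hi).symm y) = (y : P) := by
      intro y
      have := (LinearEquiv.ofInjective i hi).apply_symm_apply y
      exact congrArg Subtype.val this
    show i ((LinearEquiv.ofInjective i hi).symm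
      (LinearMap.codRestrict (LinearMap.range i) ((LinearMap.id : P →ₗ[R] P) - j ∘ₗ q) hmem (i n))) = i n
    rw [h4]
    simp only [LinearMap.codRestrict_apply, LinearMap.sub_apply, LinearMap.id_apply,
      LinearMap.comp_apply, h0, map_zero, sub_zero]
  haveI : Module.Projective R N := Module.Projective.of_split i r hri
  exact Module.free_of_flat_of_isLocalRing

end SES

section Det

variable {R M : Type*} [CommRing R] [AddCommGroup M] [Module R M] [Module.Free R M]
  [Module.Finite R M]

theorem det_eq_charpoly_neg_coeff (f : M →ₗ[R] M) :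
    LinearMap.det f = (-f).charpoly.coeff 0 := by
  have h1 := LinearMap.det_eq_sign_charpoly_coeff (-f)
  have h2 : LinearMap.det (-f) = (-1) ^ Module.finrank R M * LinearMap.det f := by
    rw [← neg_one_smul R f, LinearMap.det_smul]
  rw [h2] at h1
  have h3 : ((-1 : R) ^ Module.finrank R M) * ((-1) ^ Module.finrank R M) = 1 := by
    rw [← mul_pow]
    simp
  calc LinearMap.det f
      = ((-1 : R) ^ Module.finrank R M * (-1) ^ Module.finrank R M) * LinearMap.det f := by
        rw [h3, one_mul]
    _ = (-1) ^ Module.finrank R M * ((-1) ^ Module.finrank R M * LinearMap.det f) := by ring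
    _ = (-1) ^ Module.finrank R M * ((-1) ^ Module.finrank R M * (-f).charpoly.coeff 0) := by
        rw [h1]
    _ = (-f).charpoly.coeff 0 := by rw [← mul_assoc, h3, one_mul]

end Det

section Loc

variable {A : Type*} [CommRing A] (S : Submonoid A) {M : Type*} [AddCommGroup M] [Module A M]

theorem charpoly_localized [Module.Free A M] [Module.Finite A M]
    [Module.Free (Localization S) (LocalizedModule S M)]
    [Module.Finite (Localization S) (LocalizedModule S M)]
    (φ : M →ₗ[A] M) :
    (LocalizedModule.map S φ).charpoly = φ.charpoly.map (algebraMap A (Localization S)) := by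
  let b := Module.Free.chooseBasis A M
  let b' := b.ofIsLocalizedModule (Localization S) S (LocalizedModule.mkLinearMap S M)
  rw [← LinearMap.charpoly_toMatrix φ b, ← LinearMap.charpoly_toMatrix (LocalizedModule.map S φ) b',
    ← Matrix.charpoly_map]
  congr 1
  ext i j
  rw [Matrix.map_apply, LinearMap.toMatrix_apply, LinearMap.toMatrix_apply]
  have h1 : b' j = LocalizedModule.mkLinearMap S M (b j) :=
    Module.Basis.ofIsLocalizedModule_apply _ _ _ _ _
  rw [h1, LocalizedModule.mkLinearMap_apply, LocalizedModule.map_mk,
    ← LocalizedModule.mkLinearMap_apply]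
  exact Module.Basis.ofIsLocalizedModule_repr_apply _ _ _ _ _ _

end Loc

section Local

variable {R : Type*} [CommRing R] [IsLocalRing R]

theorem mem_smul_top_of_one_tmul_eq_zero {Q : Type*} [AddCommGroup Q] [Module R Q] (y : Q)
    (h : (1 : IsLocalRing.ResidueField R) ⊗ₜ[R] y = 0) :
    y ∈ IsLocalRing.maximalIdeal R • (⊤ : Submodule R Q) := by
  have h1 := TensorProduct.quotTensorEquivQuotSMul_mk_tmul (M := Q) (IsLocalRing.maximalIdeal R) 1 y
  have h2 : ((Ideal.Quotient.mk (IsLocalRing.maximalIdeal R) 1) ⊗ₜ[R] y :
      (R ⧸ IsLocalRing.maximalIdeal R) ⊗[R] Q) = 0 := by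
    rw [map_one]
    exact h
  rw [h2, map_zero, one_smul] at h1
  exact (Submodule.Quotient.mk_eq_zero _).mp h1.symm

theorem one_tmul_eq_zero_of_mem_smul_top {Q : Type*} [AddCommGroup Q] [Module R Q] (y : Q)
    (h : y ∈ IsLocalRing.maximalIdeal R • (⊤ : Submodule R Q)) :
    (1 : IsLocalRing.ResidueField R) ⊗ₜ[R] y = 0 := by
  refine Submodule.smul_induction_on h ?_ ?_
  · intro a ha y' _
    rw [TensorProduct.tmul_smul, TensorProduct.smul_tmul']
    have : a • (1 : IsLocalRing.ResidueField R) = 0 := by
      rw [Algebra.smul_def, mul_one]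
      exact (IsLocalRing.residue_eq_zero_iff a).mpr ha
    rw [this, TensorProduct.zero_tmul]
  · intro y1 y2 h1 h2
    rw [TensorProduct.tmul_add, h1, h2, add_zero]

theorem exists_one_tmul {N : Type*} [AddCommGroup N] [Module R N]
    (t : IsLocalRing.ResidueField R ⊗[R] N) :
    ∃ n : N, t = (1 : IsLocalRing.ResidueField R) ⊗ₜ[R] n := by
  induction t using TensorProduct.induction_on with
  | zero => exact ⟨0, (TensorProduct.tmul_zero _ _).symm⟩
  | tmul c n =>
    obtain ⟨a, rfl⟩ := IsLocalRing.residue_surjective c
    refine ⟨a • n, ?_⟩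
    rw [TensorProduct.tmul_smul, TensorProduct.smul_tmul']
    congr 1
    rw [Algebra.smul_def, mul_one]
    rfl
  | add x y hx hy =>
    obtain ⟨n, rfl⟩ := hx
    obtain ⟨n', rfl⟩ := hy
    exact ⟨n + n', (TensorProduct.tmul_add _ _ _).symm⟩

/-- Over a local ring of depth zero (the maximal ideal kills a nonzero element), an injective
map from a finite free module stays injective modulo the maximal ideal. -/
theorem lTensor_residue_injective {N P : Type*} [AddCommGroup N] [AddCommGroup P] [Module R N]
    [Module R P] [Module.Free R N] [Module.Finite R N]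
    (z : R) (hz : z ≠ 0) (hmz : ∀ a ∈ IsLocalRing.maximalIdeal R, a * z = 0)
    (i : N →ₗ[R] P) (hi : Function.Injective i) :
    Function.Injective (i.lTensor (IsLocalRing.ResidueField R)) := by
  rw [injective_iff_map_eq_zero]
  intro t ht
  obtain ⟨n, rfl⟩ := exists_one_tmul t
  rw [LinearMap.lTensor_tmul] at ht
  have h1 : i n ∈ IsLocalRing.maximalIdeal R • (⊤ : Submodule R P) :=
    mem_smul_top_of_one_tmul_eq_zero _ ht
  have h2 : z • i n = 0 := by
    refine Submodule.smul_induction_on h1 ?_ ?_
    · intro a ha y' _
      rw [smul_smul, mul_comm, hmz a ha, zero_smul]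
    · intro y1 y2 e1 e2
      rw [smul_add, e1, e2, add_zero]
  have h3 : z • n = 0 := by
    apply hi
    rw [map_smul, h2, map_zero]
  apply one_tmul_eq_zero_of_mem_smul_top
  let b := Module.Free.chooseBasis R N
  have h4 : ∀ k, b.repr n k ∈ IsLocalRing.maximalIdeal R := by
    intro k
    by_contra hk
    have hu : IsUnit (b.repr n k) := by
      by_contra hnu
      exact hk ((IsLocalRing.mem_maximalIdeal _).mpr hnu)
    have h5 : z * b.repr n k = 0 := by
      have := congrArg (fun v => b.repr v k) h3
      simpa using this
    exact hz ((hu.mul_left_eq_zero).mp h5)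
  rw [← b.sum_repr n]
  refine Submodule.sum_mem _ fun k _ => ?_
  exact Submodule.smul_mem_smul (h4 k) Submodule.mem_top

end Local

section FFR

theorem finite_of_ffr (A : Type u) [CommRing A] (n : ℕ) (M : Type u) [AddCommGroup M]
    [Module A M] (h : FamCyc.HasFiniteFreeResolutionLE A n M) : Module.Finite A M := by
  cases n with
  | zero =>
    rw [FamCyc.HasFiniteFreeResolutionLE] at h
    exact h.2
  | succ n =>
    rw [FamCyc.HasFiniteFreeResolutionLE] at h
    obtain ⟨k, f, hf, -⟩ := h
    exact Module.Finite.of_surjective f hf

/-- Auslander–Buchsbaum in depth zero: at an associated prime of the ring, a module with a finite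
free resolution is free. -/
theorem free_localized_of_ffr (A : Type u) [CommRing A] (p : Ideal A) [p.IsPrime] (x : A)
    (hx : ∀ r : A, r ∈ p ↔ r * x = 0) (n : ℕ) :
    ∀ (M : Type u) [AddCommGroup M] [Module A M], FamCyc.HasFiniteFreeResolutionLE A n M →
      Module.Free (Localization.AtPrime p) (LocalizedModule p.primeCompl M) := by
  have hz : algebraMap A (Localization.AtPrime p) x ≠ 0 := by
    intro h0
    obtain ⟨s, hs⟩ := (IsLocalization.map_eq_zero_iff p.primeCompl _ x).mp h0
    exact s.2 ((hx _).mpr hs)
  have hmz : ∀ a ∈ IsLocalRing.maximalIdeal (Localization.AtPrime p),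
      a * algebraMap A (Localization.AtPrime p) x = 0 := by
    intro a ha
    obtain ⟨a0, s, rfl⟩ := IsLocalization.exists_mk'_eq p.primeCompl a
    have ha0 : a0 ∈ p := (IsLocalization.AtPrime.mk'_mem_maximal_iff _ p a0 s).mp ha
    have h1 : IsLocalization.mk' (Localization.AtPrime p) a0 s *
        algebraMap A (Localization.AtPrime p) s = algebraMap A _ a0 :=
      IsLocalization.mk'_spec _ a0 s
    have h2 : (IsLocalization.mk' (Localization.AtPrime p) a0 s *
        algebraMap A (Localization.AtPrime p) x) * algebraMap A (Localization.AtPrime p) s = 0 := by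
      rw [mul_right_comm, h1, ← map_mul, (hx a0).mp ha0, map_zero]
    exact ((IsLocalization.map_units (Localization.AtPrime p) s).mul_left_eq_zero).mp h2
  induction n with
  | zero =>
    intro M _ _ hM
    rw [FamCyc.HasFiniteFreeResolutionLE] at hM
    haveI := hM.1
    exact Module.free_of_isLocalizedModule p.primeCompl
      (LocalizedModule.mkLinearMap p.primeCompl M)
  | succ n ih =>
    intro M _ _ hM
    rw [FamCyc.HasFiniteFreeResolutionLE] at hM
    obtain ⟨k, f, hf, hN⟩ := hM
    haveI : Module.Free (Localization.AtPrime p)
        (LocalizedModule p.primeCompl (LinearMap.ker f)) := ih _ hN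
    haveI : Module.Finite A (LinearMap.ker f) := finite_of_ffr A n _ hN
    haveI : Module.Free (Localization.AtPrime p) (LocalizedModule p.primeCompl (Fin k → A)) :=
      Module.free_of_isLocalizedModule p.primeCompl
        (LocalizedModule.mkLinearMap p.primeCompl (Fin k → A))
    have hex : Function.Exact (LocalizedModule.map p.primeCompl (LinearMap.ker f).subtype)
        (LocalizedModule.map p.primeCompl f) :=
      LocalizedModule.map_exact p.primeCompl _ _ (LinearMap.exact_subtype_ker_map f)
    have hi := LocalizedModule.map_injective p.primeCompl _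
      (Submodule.injective_subtype (LinearMap.ker f))
    have hinj := lTensor_residue_injective (R := Localization.AtPrime p)
      (N := LocalizedModule p.primeCompl (LinearMap.ker f))
      (P := LocalizedModule p.primeCompl (Fin k → A)) _ hz hmz
      (LocalizedModule.map p.primeCompl (LinearMap.ker f).subtype) hi
    have hres := Module.free_of_lTensor_residueField_injective (R := Localization.AtPrime p)
      (M := LocalizedModule p.primeCompl (LinearMap.ker f))
      (N := LocalizedModule p.primeCompl (Fin k → A))
      (P := LocalizedModule p.primeCompl M)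
      (LocalizedModule.map p.primeCompl (LinearMap.ker f).subtype)
      (LocalizedModule.map p.primeCompl f)
      (LocalizedModule.map_surjective p.primeCompl f hf) hex hinj
    exact hres

/-- The determinant polynomial of an endomorphism of a module with a finite free resolution, as a
quotient of two monic polynomials. -/
theorem exists_polys (A : Type u) [CommRing A] (n : ℕ) :
    ∀ (M : Type u) [AddCommGroup M] [Module A M], FamCyc.HasFiniteFreeResolutionLE A n M →
    ∀ φ : M →ₗ[A] M, ∃ a b : A[X], a.Monic ∧ b.Monic ∧
      ∀ (p : Ideal A) [p.IsPrime]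
        [Module.Free (Localization.AtPrime p) (LocalizedModule p.primeCompl M)]
        [Module.Finite (Localization.AtPrime p) (LocalizedModule p.primeCompl M)],
        a.map (algebraMap A (Localization.AtPrime p)) =
          b.map (algebraMap A (Localization.AtPrime p)) *
            (LocalizedModule.map p.primeCompl φ).charpoly := by
  induction n with
  | zero =>
    intro M _ _ hM φ
    rw [FamCyc.HasFiniteFreeResolutionLE] at hM
    haveI := hM.1
    haveI := hM.2
    refine ⟨φ.charpoly, 1, φ.charpoly_monic, monic_one, ?_⟩
    intro p _ _ _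
    rw [Polynomial.map_one, one_mul]
    exact (charpoly_localized p.primeCompl φ).symm
  | succ n ih =>
    intro M _ _ hM φ
    rw [FamCyc.HasFiniteFreeResolutionLE] at hM
    obtain ⟨k, f, hf, hN⟩ := hM
    obtain ⟨φ0, hφ0⟩ := Module.projective_lifting_property f (φ ∘ₗ f) hf
    have hφ0' : ∀ v, f (φ0 v) = φ (f v) := fun v => LinearMap.congr_fun hφ0 v
    have hmem : ∀ v ∈ LinearMap.ker f, φ0 v ∈ LinearMap.ker f := by
      intro v hv
      rw [LinearMap.mem_ker, hφ0', LinearMap.mem_ker.mp hv, map_zero]
    obtain ⟨a', b', ha', hb', hloc'⟩ := ih _ hN (φ0.restrict hmem)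
    haveI : Module.Finite A (LinearMap.ker f) := finite_of_ffr A n _ hN
    refine ⟨φ0.charpoly * b', a', φ0.charpoly_monic.mul hb', ha', ?_⟩
    intro p _ _ _
    haveI : Module.Free (Localization.AtPrime p) (LocalizedModule p.primeCompl (Fin k → A)) :=
      Module.free_of_isLocalizedModule p.primeCompl
        (LocalizedModule.mkLinearMap p.primeCompl (Fin k → A))
    have hex : Function.Exact (LocalizedModule.map p.primeCompl (LinearMap.ker f).subtype)
        (LocalizedModule.map p.primeCompl f) :=
      LocalizedModule.map_exact p.primeCompl _ _ (LinearMap.exact_subtype_ker_map f)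
    have hi := LocalizedModule.map_injective p.primeCompl _
      (Submodule.injective_subtype (LinearMap.ker f))
    have hq := LocalizedModule.map_surjective p.primeCompl f hf
    have hfreeN := free_ker_of_free_quot (R := Localization.AtPrime p)
      (N := LocalizedModule p.primeCompl (LinearMap.ker f))
      (P := LocalizedModule p.primeCompl (Fin k → A))
      (M := LocalizedModule p.primeCompl M)
      (LocalizedModule.map p.primeCompl (LinearMap.ker f).subtype)
      (LocalizedModule.map p.primeCompl f) hi hq hex
    haveI : Module.Free (Localization.AtPrime p)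
        (LocalizedModule p.primeCompl (LinearMap.ker f)) := hfreeN
    have hmul := charpoly_ses (R := Localization.AtPrime p)
      (N := LocalizedModule p.primeCompl (LinearMap.ker f))
      (P := LocalizedModule p.primeCompl (Fin k → A))
      (M := LocalizedModule p.primeCompl M)
      (LocalizedModule.map p.primeCompl (LinearMap.ker f).subtype)
      (LocalizedModule.map p.primeCompl f) hi hq hex
      (LocalizedModule.map p.primeCompl (φ0.restrict hmem))
      (LocalizedModule.map p.primeCompl φ0) (LocalizedModule.map p.primeCompl φ)
      (by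
        intro y
        induction y using LocalizedModule.induction_on with
        | h v s =>
          rw [LocalizedModule.map_mk, LocalizedModule.map_mk, LocalizedModule.map_mk,
            LocalizedModule.map_mk]
          rfl)
      (by
        intro y
        induction y using LocalizedModule.induction_on with
        | h v s =>
          rw [LocalizedModule.map_mk, LocalizedModule.map_mk, LocalizedModule.map_mk,
            LocalizedModule.map_mk, hφ0'])
    rw [Polynomial.map_mul, ← charpoly_localized p.primeCompl φ0, hmul, hloc' p]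
    ring

end FFR

end Groth.Agent.Helper6.FFRDet
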