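import Mathlib
import Groth.Agent.Helper5.FGRam4

set_option linter.style.haveILetI false
set_option autoImplicit false

open FunFld Polynomial
open Groth.Agent.Helper5

namespace Groth.Agent.Helper6.FFRamQ

variable {k K K' : Type*} [Field k] [Field K] [Field K'] [Algebra k K] [Algebra K K']
  [Algebra k K'] [IsScalarTower k K K']

/-- membership in the `n`-th ramification group (in the indexing of the statements). -/
def InG (Q : Place k K') (n : ℤ) (σ : K' ≃ₐ[K] K') : Prop :=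
  ∀ x : K', Q.1 x ≤ 1 → Q.1 (σ x - x) ≤ WithZero.exp (-n)

variable {Q : Place k K'}

theorem InG.mono {n m : ℤ} {σ : K' ≃ₐ[K] K'} (h : InG Q m σ) (hnm : n ≤ m) : InG Q n σ :=
  fun x hx => (h x hx).trans (WithZero.exp_le_exp.mpr (by omega))

theorem InG.val_map {n : ℤ} {σ : K' ≃ₐ[K] K'} (h : InG Q n σ) (hn : 1 ≤ n) (x : K') :
    Q.1 (σ x) = Q.1 x :=
  FG.val_map_of_mem_G1 Q σ (h.mono hn) x

theorem InG.val_map_inv {n : ℤ} {σ : K' ≃ₐ[K] K'} (h : InG Q n σ) (hn : 1 ≤ n) (x : K') :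
    Q.1 (σ⁻¹ x) = Q.1 x := by
  have h1 : σ (σ⁻¹ x) = x := by
    rw [← AlgEquiv.mul_apply, mul_inv_cancel, AlgEquiv.one_apply]
  rw [← h.val_map hn (σ⁻¹ x), h1]

theorem InG.mul {n : ℤ} {σ τ : K' ≃ₐ[K] K'} (hσ : InG Q n σ) (hτ : InG Q n τ) (hn : 1 ≤ n) :
    InG Q n (σ * τ) := by
  intro x hx
  have : (σ * τ) x - x = σ (τ x - x) + (σ x - x) := by
    rw [AlgEquiv.mul_apply, map_sub]; ring
  rw [this]
  apply Valuation.map_add_le
  · rw [hσ.val_map hn]; exact hτ x hx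
  · exact hσ x hx

theorem InG.one (n : ℤ) : InG Q n (1 : K' ≃ₐ[K] K') := fun x _ => by simp

theorem InG.pow {n : ℤ} {σ : K' ≃ₐ[K] K'} (hσ : InG Q n σ) (hn : 1 ≤ n) (m : ℕ) :
    InG Q n (σ ^ m) := by
  induction m with
  | zero => rw [pow_zero]; exact InG.one n
  | succ m ih => rw [pow_succ]; exact ih.mul hσ hn

theorem InG.shift {n : ℤ} {σ : K' ≃ₐ[K] K'} (hσ : InG Q n σ) (hn : 1 ≤ n) {t : K'}
    (ht : Q.1 t = WithZero.exp (-1 : ℤ)) :
    ∀ (m : ℕ) (z : K'), Q.1 z ≤ WithZero.exp (-(m : ℤ)) →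
      Q.1 (σ z - z) ≤ WithZero.exp (-((m : ℤ) + n - 1)) := by
  have ht0 : t ≠ 0 := FG.ne_zero_of_val_eq_exp Q ht
  have ht1 : Q.1 t ≤ 1 := by rw [ht]; exact FG.exp_neg_one_lt_one.le
  intro m
  induction m with
  | zero =>
    intro z hz
    rw [Nat.cast_zero, neg_zero, WithZero.exp_zero] at hz
    exact (hσ z hz).trans (WithZero.exp_le_exp.mpr (by push_cast; omega))
  | succ m ih =>
    intro z hz
    obtain ⟨z', hz'def⟩ : ∃ z' : K', z' = z / t := ⟨_, rfl⟩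
    have hz_eq : z = t * z' := by rw [hz'def]; field_simp
    have hz' : Q.1 z' ≤ WithZero.exp (-(m : ℤ)) := by
      rw [hz'def, map_div₀, ht, div_eq_mul_inv, ← WithZero.exp_neg, neg_neg]
      calc Q.1 z * WithZero.exp (1 : ℤ)
          ≤ WithZero.exp (-((m + 1 : ℕ) : ℤ)) * WithZero.exp (1 : ℤ) := mul_le_mul' hz le_rfl
        _ = WithZero.exp (-(m : ℤ)) := by
            rw [← WithZero.exp_add]; congr 1; push_cast; ring
    have hdecomp : σ z - z = (σ t - t) * σ z' + t * (σ z' - z') := by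
      rw [hz_eq, map_mul]; ring
    rw [hdecomp]
    apply Valuation.map_add_le
    · rw [map_mul, hσ.val_map hn]
      calc Q.1 (σ t - t) * Q.1 z'
          ≤ WithZero.exp (-n) * WithZero.exp (-(m : ℤ)) := mul_le_mul' (hσ t ht1) hz'
        _ = WithZero.exp (-(((m + 1 : ℕ) : ℤ) + n - 1)) := by
            rw [← WithZero.exp_add]; congr 1; push_cast; ring
    · rw [map_mul, ht]
      calc WithZero.exp (-1 : ℤ) * Q.1 (σ z' - z')
          ≤ WithZero.exp (-1 : ℤ) * WithZero.exp (-((m : ℤ) + n - 1)) :=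
            mul_le_mul' le_rfl (ih _ hz')
        _ = WithZero.exp (-(((m + 1 : ℕ) : ℤ) + n - 1)) := by
            rw [← WithZero.exp_add]; congr 1; push_cast; ring

/-- for `z` in the `i`-th power of the maximal ideal, `σ z - z` lies in the `(i+1)`-st. -/
theorem InG.shift' {i : ℕ} (hi : 2 ≤ i) {σ : K' ≃ₐ[K] K'} (hσ : InG Q (i : ℤ) σ) (z : K')
    (hz : Q.1 z ≤ WithZero.exp (-(i : ℤ))) :
    Q.1 (σ z - z) ≤ WithZero.exp (-((i : ℤ) + 1)) := by
  obtain ⟨t, ht⟩ := FG.exists_uniformizer Q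
  exact (hσ.shift (by omega) ht i z hz).trans (WithZero.exp_le_exp.mpr (by omega))

theorem comm_step {i : ℕ} (hi : 2 ≤ i) {σ τ : K' ≃ₐ[K] K'} (hσ : InG Q (i : ℤ) σ)
    (hτ : InG Q (i : ℤ) τ) (x : K') (hx : Q.1 x ≤ 1) :
    Q.1 (σ (τ x) - τ (σ x)) ≤ WithZero.exp (-((i : ℤ) + 1)) := by
  have h1 : σ (τ x) - τ (σ x) =
      (σ (τ x - x) - (τ x - x)) - (τ (σ x - x) - (σ x - x)) := by
    simp only [map_sub]; ring
  rw [h1]
  exact Valuation.map_sub_le _ (hσ.shift' hi _ (hτ x hx)) (hτ.shift' hi _ (hσ x hx))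

theorem comm_mem {i : ℕ} (hi : 2 ≤ i) {σ τ : K' ≃ₐ[K] K'} (hσ : InG Q (i : ℤ) σ)
    (hτ : InG Q (i : ℤ) τ) : InG Q ((i : ℤ) + 1) (σ * τ * σ⁻¹ * τ⁻¹) := by
  intro y hy
  have hi1 : (1 : ℤ) ≤ (i : ℤ) := by omega
  obtain ⟨x, hxdef⟩ : ∃ x : K', x = σ⁻¹ (τ⁻¹ y) := ⟨_, rfl⟩
  have hx : Q.1 x ≤ 1 := by
    rw [hxdef, hσ.val_map_inv hi1, hτ.val_map_inv hi1]; exact hy
  have h1 : τ (σ x) = y := by
    rw [hxdef]
    have : σ (σ⁻¹ (τ⁻¹ y)) = τ⁻¹ y := by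
      rw [← AlgEquiv.mul_apply, mul_inv_cancel, AlgEquiv.one_apply]
    rw [this, ← AlgEquiv.mul_apply, mul_inv_cancel, AlgEquiv.one_apply]
  have h2 : (σ * τ * σ⁻¹ * τ⁻¹) y = σ (τ x) := by
    rw [hxdef]; rfl
  rw [h2]
  conv_lhs => rw [← h1]
  exact comm_step hi hσ hτ x hx

theorem pow_step {i : ℕ} (hi : 2 ≤ i) {σ : K' ≃ₐ[K] K'} (hσ : InG Q (i : ℤ) σ) :
    ∀ (m : ℕ) (x : K'), Q.1 x ≤ 1 →
      Q.1 ((σ ^ m) x - x - (m : K') * (σ x - x)) ≤ WithZero.exp (-((i : ℤ) + 1)) := by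
  have hi1 : (1 : ℤ) ≤ (i : ℤ) := by omega
  intro m
  induction m with
  | zero =>
    intro x _
    simp
  | succ m ih =>
    intro x hx
    have h1 : (σ ^ (m + 1)) x - x - ((m + 1 : ℕ) : K') * (σ x - x) =
        ((σ ^ m) x - x - (m : K') * (σ x - x)) +
          ((σ ^ m) (σ x - x) - (σ x - x)) := by
      rw [pow_succ, AlgEquiv.mul_apply, map_sub]; push_cast; ring
    rw [h1]
    exact Valuation.map_add_le _ (ih x hx) ((hσ.pow hi1 m).shift' hi _ (hσ x hx))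

theorem main [FiniteDimensional K K'] (Q : Place k K') (i : ℕ) (hi : 2 ≤ i)
    (σ τ : K' ≃ₐ[K] K')
    (hσ : ∀ x : K', Q.1 x ≤ 1 → Q.1 (σ x - x) ≤ WithZero.exp (-(i : ℤ)))
    (hτ : ∀ x : K', Q.1 x ≤ 1 → Q.1 (τ x - x) ≤ WithZero.exp (-(i : ℤ))) :
    (∀ x : K', Q.1 x ≤ 1 →
      Q.1 ((σ * τ * σ⁻¹ * τ⁻¹) x - x) ≤ WithZero.exp (-((i + 1) : ℤ))) ∧
    (ringChar K = 0 → (∀ x : K', Q.1 x ≤ 1 →
      Q.1 (σ x - x) ≤ WithZero.exp (-((i + 1) : ℤ)))) ∧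
    ∀ p : ℕ, p.Prime → ringChar K = p → (∀ x : K', Q.1 x ≤ 1 →
      Q.1 ((σ ^ p) x - x) ≤ WithZero.exp (-((i + 1) : ℤ))) := by
  refine ⟨comm_mem hi hσ hτ, ?_, ?_⟩
  · intro h0 x hx
    obtain ⟨m, hm⟩ : ∃ m : ℕ, m = orderOf σ := ⟨_, rfl⟩
    have hmpos : 0 < m := by rw [hm]; exact orderOf_pos σ
    have hpow : σ ^ m = 1 := by rw [hm]; exact pow_orderOf_eq_one σ
    have h1 := pow_step hi hσ m x hx
    rw [hpow, AlgEquiv.one_apply, sub_self, zero_sub, Valuation.map_neg, map_mul] at h1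
    have hmk : (m : k) ≠ 0 := by
      intro h
      have h2 : (m : K) = 0 := by
        have := congrArg (algebraMap k K) h
        rwa [map_natCast, map_zero] at this
      rw [ringChar.spec, h0, zero_dvd_iff] at h2
      omega
    have h3 : Q.1 (m : K') = 1 := by
      have := FG.val_algebraMap Q hmk
      rwa [map_natCast] at this
    rwa [h3, one_mul] at h1
  · intro p _ hp x hx
    have h1 := pow_step hi hσ p x hx
    have hpK : (p : K) = 0 := by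
      rw [← hp]; exact ringChar.Nat.cast_ringChar
    have hpK' : (p : K') = 0 := by
      have := congrArg (algebraMap K K') hpK
      rwa [map_natCast, map_zero] at this
    rwa [hpK', zero_mul, sub_zero] at h1

end Groth.Agent.Helper6.FFRamQ
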