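import Mathlib
universe u
namespace Groth.Agent.Helper6.FFRes

open Submodule in
/-- In a local ring of "depth zero" (some nonzero `w` killed by the maximal ideal), an element of a free module
with trivial annihilator has a unit coordinate, hence admits a functional taking value one. -/
theorem exists_functional {S : Type u} [CommRing S] [IsLocalRing S] (w : S) (hw : w ≠ 0)
    (hmw : ∀ a ∈ IsLocalRing.maximalIdeal S, a * w = 0)
    {F : Type u} [AddCommGroup F] [Module S F] [Module.Free S F] (x : F)
    (hx : ∀ a : S, a • x = 0 → a = 0) : ∃ φ : F →ₗ[S] S, φ x = 1 := by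
  let b := Module.Free.chooseBasis S F
  by_cases h : ∀ i, b.repr x i ∈ IsLocalRing.maximalIdeal S
  · exfalso
    apply hw
    apply hx
    apply b.repr.injective
    ext i
    simp only [map_smul, Finsupp.smul_apply, smul_eq_mul, map_zero, Finsupp.zero_apply]
    rw [mul_comm]
    exact hmw _ (h i)
  · push Not at h
    obtain ⟨i, hi⟩ := h
    have hu : IsUnit (b.repr x i) := by
      by_contra hnu
      exact hi ((IsLocalRing.mem_maximalIdeal _).mpr hnu)
    obtain ⟨u, hu⟩ := hu
    refine ⟨(↑u⁻¹ : S) • b.coord i, ?_⟩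
    simp only [LinearMap.smul_apply, Module.Basis.coord_apply, smul_eq_mul, ← hu]
    exact u.inv_mul

theorem free_quotient_span {S : Type u} [CommRing S] [IsLocalRing S] (w : S) (hw : w ≠ 0)
    (hmw : ∀ a ∈ IsLocalRing.maximalIdeal S, a * w = 0) :
    ∀ (r : ℕ) (F : Type u) [AddCommGroup F] [Module S F] [Module.Free S F] [Module.Finite S F]
      (v : Fin r → F), LinearIndependent S v →
      Module.Free S (F ⧸ Submodule.span S (Set.range v)) ∧
        Module.finrank S (F ⧸ Submodule.span S (Set.range v)) + r = Module.finrank S F := by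
  intro r
  induction r with
  | zero =>
    intro F _ _ _ _ v hv
    have h0 : Submodule.span S (Set.range v) = ⊥ := by
      rw [Submodule.span_eq_bot]
      rintro _ ⟨i, rfl⟩
      exact i.elim0
    let e : (F ⧸ Submodule.span S (Set.range v)) ≃ₗ[S] F := Submodule.quotEquivOfEqBot _ h0
    exact ⟨Module.Free.of_equiv e.symm, by rw [add_zero]; exact e.finrank_eq⟩
  | succ r ih =>
    intro F _ _ _ _ v hv
    have hx : ∀ a : S, a • v 0 = 0 → a = 0 := by
      intro a ha
      have := Fintype.linearIndependent_iff.mp hv (fun i => if i = 0 then a else 0) (by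
        rw [Finset.sum_eq_single 0]
        · simpa using ha
        · intro j _ hj; simp [hj]
        · intro h; exact absurd (Finset.mem_univ _) h) 0
      simpa using this
    obtain ⟨φ, hφ⟩ := exists_functional w hw hmw (v 0) hx
    -- projection onto ker φ
    let ρ : F →ₗ[S] LinearMap.ker φ :=
      LinearMap.codRestrict (LinearMap.ker φ) (LinearMap.id - (LinearMap.toSpanSingleton S F (v 0)).comp φ)
        (fun y => by
          simp only [LinearMap.mem_ker, LinearMap.sub_apply, LinearMap.id_coe, id_eq,
            LinearMap.coe_comp, Function.comp_apply, LinearMap.toSpanSingleton_apply, map_sub,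
            map_smul, hφ, smul_eq_mul, mul_one, sub_self])
    have hρ : ∀ y : F, ((ρ y : LinearMap.ker φ) : F) = y - φ y • v 0 := fun y => rfl
    have hρk : ∀ y : LinearMap.ker φ, ρ y = y := by
      intro y
      apply Subtype.ext
      rw [hρ, LinearMap.mem_ker.mp y.2, zero_smul, sub_zero]
    have hρ0 : ρ (v 0) = 0 := by
      apply Subtype.ext
      rw [hρ, hφ, one_smul, sub_self]; rfl
    haveI : Module.Finite S (LinearMap.ker φ) :=
      Module.Finite.of_surjective ρ (fun y => ⟨y, hρk y⟩)
    haveI : Module.Projective S (LinearMap.ker φ) :=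
      Module.Projective.of_split (LinearMap.ker φ).subtype ρ (LinearMap.ext hρk)
    haveI : Module.Free S (LinearMap.ker φ) := Module.free_of_flat_of_isLocalRing
    -- F ≃ S × ker φ
    let e₁ : F ≃ₗ[S] S × LinearMap.ker φ :=
      LinearEquiv.ofLinear (φ.prod ρ)
        ((LinearMap.toSpanSingleton S F (v 0)).coprod (LinearMap.ker φ).subtype)
        (by
          apply LinearMap.ext
          rintro ⟨a, y⟩
          have h1 : φ (a • v 0 + (y : F)) = a := by
            rw [map_add, map_smul, hφ, LinearMap.mem_ker.mp y.2, smul_eq_mul, mul_one, add_zero]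
          have h2 : ρ (a • v 0 + (y : F)) = y := by
            rw [map_add, map_smul, hρ0, smul_zero, zero_add, hρk]
          exact Prod.ext h1 h2)
        (by
          apply LinearMap.ext
          intro y
          show φ y • v 0 + ((ρ y : LinearMap.ker φ) : F) = y
          rw [hρ]; abel)
    have hrank : Module.finrank S F = 1 + Module.finrank S (LinearMap.ker φ) := by
      rw [e₁.finrank_eq, Module.finrank_prod, Module.finrank_self]
    -- the new family
    let v' : Fin r → LinearMap.ker φ := fun i => ρ (v i.succ)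
    have hv' : LinearIndependent S v' := by
      rw [Fintype.linearIndependent_iff]
      intro g hg i
      have h1 : ∑ j, g j • ((v' j : LinearMap.ker φ) : F) = 0 := by
        have := congrArg (fun y : LinearMap.ker φ => (y : F)) hg
        simpa using this
      simp only [v', hρ, smul_sub, Finset.sum_sub_distrib, smul_smul] at h1
      rw [← Finset.sum_smul] at h1
      have h2 := Fintype.linearIndependent_iff.mp hv
        (Fin.cons (-(∑ j, g j * φ (v j.succ))) g) (by
          rw [Fin.sum_univ_succ]
          simp only [Fin.cons_zero, Fin.cons_succ, neg_smul]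
          rw [add_comm, ← sub_eq_add_neg]
          exact h1) i.succ
      simpa using h2
    obtain ⟨hfree, hfr⟩ := ih (LinearMap.ker φ) v' hv'
    -- the comparison map
    let g : F →ₗ[S] (LinearMap.ker φ ⧸ Submodule.span S (Set.range v')) :=
      (Submodule.mkQ _).comp ρ
    have hgsurj : Function.Surjective g := by
      intro y
      obtain ⟨y, rfl⟩ := Submodule.mkQ_surjective _ y
      exact ⟨y, by simp only [g, LinearMap.coe_comp, Function.comp_apply, hρk]⟩
    have hv'mem : ∀ i, ((v' i : LinearMap.ker φ) : F) ∈ Submodule.span S (Set.range v) := by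
      intro i
      simp only [v', hρ]
      exact Submodule.sub_mem _ (Submodule.subset_span ⟨_, rfl⟩)
        (Submodule.smul_mem _ _ (Submodule.subset_span ⟨_, rfl⟩))
    have hker : LinearMap.ker g = Submodule.span S (Set.range v) := by
      apply le_antisymm
      · intro y hy
        have hy' : ρ y ∈ Submodule.span S (Set.range v') := by
          simpa [g] using hy
        have h3 : ((ρ y : LinearMap.ker φ) : F) ∈ Submodule.span S (Set.range v) := by
          have : Submodule.map (LinearMap.ker φ).subtype (Submodule.span S (Set.range v')) ≤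
              Submodule.span S (Set.range v) := by
            rw [Submodule.map_span, Submodule.span_le]
            rintro _ ⟨_, ⟨i, rfl⟩, rfl⟩
            exact hv'mem i
          exact this ⟨_, hy', rfl⟩
        have : y = ((ρ y : LinearMap.ker φ) : F) + φ y • v 0 := by rw [hρ]; abel
        rw [this]
        exact Submodule.add_mem _ h3 (Submodule.smul_mem _ _ (Submodule.subset_span ⟨_, rfl⟩))
      · rw [Submodule.span_le]
        rintro _ ⟨i, rfl⟩
        refine Fin.cases ?_ (fun j => ?_) i
        · simp [g, hρ0]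
        · simp only [SetLike.mem_coe, LinearMap.mem_ker, g, LinearMap.coe_comp,
            Function.comp_apply, Submodule.mkQ_apply, Submodule.Quotient.mk_eq_zero]
          exact Submodule.subset_span ⟨j, rfl⟩
    let e₂ : (F ⧸ Submodule.span S (Set.range v)) ≃ₗ[S]
        (LinearMap.ker φ ⧸ Submodule.span S (Set.range v')) :=
      (Submodule.quotEquivOfEq _ _ hker.symm).trans (LinearMap.quotKerEquivOfSurjective g hgsurj)
    refine ⟨Module.Free.of_equiv e₂.symm, ?_⟩
    rw [e₂.finrank_eq, hrank]
    omega

theorem free_quotient_of_free {S : Type u} [CommRing S] [IsLocalRing S] (w : S) (hw : w ≠ 0)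
    (hmw : ∀ a ∈ IsLocalRing.maximalIdeal S, a * w = 0)
    (F : Type u) [AddCommGroup F] [Module S F] [Module.Free S F] [Module.Finite S F]
    (K : Submodule S F) [Module.Free S K] [Module.Finite S K] :
    Module.Free S (F ⧸ K) ∧ Module.finrank S (F ⧸ K) + Module.finrank S K = Module.finrank S F := by
  let b := Module.finBasis S K
  let v : Fin (Module.finrank S K) → F := fun i => ((b i : K) : F)
  have hv : LinearIndependent S v :=
    b.linearIndependent.map' K.subtype (Submodule.ker_subtype K)
  have hspan : Submodule.span S (Set.range v) = K := by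
    have : Set.range v = K.subtype '' Set.range b := by
      rw [← Set.range_comp]; rfl
    rw [this, ← Submodule.map_span, b.span_eq, Submodule.map_top, Submodule.range_subtype]
  have := free_quotient_span w hw hmw _ F v hv
  rw [hspan] at this
  exact this

/-- alternating ranks -/
def rk (n : ℕ → ℕ) (e : ℕ) : ℕ → ℤ
  | 0 => n e
  | d + 1 => n (e - 1 - d) - rk n e d

theorem local_ranks {S : Type u} [CommRing S] [IsLocalRing S] [IsNoetherianRing S]
    (w : S) (hw : w ≠ 0) (hmw : ∀ a ∈ IsLocalRing.maximalIdeal S, a * w = 0)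
    (n : ℕ → ℕ) (f : ∀ i, (Fin (n (i + 1)) → S) →ₗ[S] (Fin (n i) → S)) (e : ℕ)
    (hex : ∀ i, i + 2 ≤ e → Function.Exact (f (i + 1)) (f i))
    (hinj : Function.Injective (f (e - 1))) :
    ∀ d i, i + d + 1 = e → Module.Free S (LinearMap.range (f i)) ∧
      (Module.finrank S (LinearMap.range (f i)) : ℤ) = rk n e d := by
  intro d
  induction d with
  | zero =>
    intro i hi
    have hie : e - 1 = i := by omega
    rw [hie] at hinj
    let eq : (Fin (n (i + 1)) → S) ≃ₗ[S] LinearMap.range (f i) := LinearEquiv.ofInjective (f i) hinj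
    refine ⟨Module.Free.of_equiv eq, ?_⟩
    rw [← eq.finrank_eq, Module.finrank_fin_fun, rk]
    have : i + 1 = e := by omega
    rw [this]
  | succ d ih =>
    intro i hi
    obtain ⟨hfree, hrk⟩ := ih (i + 1) (by omega)
    have hK : LinearMap.ker (f i) = LinearMap.range (f (i + 1)) :=
      (LinearMap.exact_iff.mp (hex i (by omega)))
    haveI : Module.Free S (LinearMap.ker (f i)) := hK ▸ hfree
    obtain ⟨hq, hqr⟩ := free_quotient_of_free w hw hmw (Fin (n (i + 1)) → S) (LinearMap.ker (f i))
    let eq : ((Fin (n (i + 1)) → S) ⧸ LinearMap.ker (f i)) ≃ₗ[S] LinearMap.range (f i) :=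
      (f i).quotKerEquivRange
    refine ⟨Module.Free.of_equiv eq, ?_⟩
    have h1 : e - 1 - d = i + 1 := by omega
    rw [← eq.finrank_eq, rk, h1, ← hrk]
    rw [Module.finrank_fin_fun] at hqr
    have h2 : Module.finrank S (LinearMap.ker (f i)) = Module.finrank S (LinearMap.range (f (i + 1))) := by
      rw [hK]
    rw [h2] at hqr
    omega

theorem local_ideal_rank {S : Type u} [CommRing S] [IsLocalRing S] [IsNoetherianRing S]
    (w : S) (hw : w ≠ 0) (hmw : ∀ a ∈ IsLocalRing.maximalIdeal S, a * w = 0)
    (n : ℕ → ℕ) (f : ∀ i, (Fin (n (i + 1)) → S) →ₗ[S] (Fin (n i) → S)) (e : ℕ) (he : 1 ≤ e)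
    (hex : ∀ i, i + 2 ≤ e → Function.Exact (f (i + 1)) (f i))
    (hinj : Function.Injective (f (e - 1)))
    (g : (Fin (n 0) → S) →ₗ[S] S) (hg : Function.Exact (f 0) g) :
    Module.Free S (LinearMap.range g) ∧
      (Module.finrank S (LinearMap.range g) : ℤ) = n 0 - rk n e (e - 1) := by
  obtain ⟨hfree, hrk⟩ := local_ranks w hw hmw n f e hex hinj (e - 1) 0 (by omega)
  have hK : LinearMap.ker g = LinearMap.range (f 0) := LinearMap.exact_iff.mp hg
  haveI : Module.Free S (LinearMap.ker g) := hK ▸ hfree
  obtain ⟨hq, hqr⟩ := free_quotient_of_free w hw hmw (Fin (n 0) → S) (LinearMap.ker g)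
  let eq : ((Fin (n 0) → S) ⧸ LinearMap.ker g) ≃ₗ[S] LinearMap.range g := g.quotKerEquivRange
  refine ⟨Module.Free.of_equiv eq, ?_⟩
  rw [← eq.finrank_eq, ← hrk]
  rw [Module.finrank_fin_fun] at hqr
  have h2 : Module.finrank S (LinearMap.ker g) = Module.finrank S (LinearMap.range (f 0)) := by
    rw [hK]
  rw [h2] at hqr
  omega

/-- coordinatewise localization map -/
noncomputable abbrev loc (R : Type u) [CommRing R] (S : Type u) [CommRing S] [Algebra R S] (m : ℕ) :
    (Fin m → R) →ₗ[R] (Fin m → S) :=
  LinearMap.pi fun i => (Algebra.linearMap R S) ∘ₗ LinearMap.proj i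

theorem at_assoc {R : Type u} [CommRing R] [IsNoetherianRing R]
    (P : Ideal R) [P.IsPrime] (z : R) (hz : P = Submodule.colon (⊥ : Submodule R R) {z})
    (e : ℕ) (he : 1 ≤ e) (n : ℕ → ℕ) (A : (i : ℕ) → Matrix (Fin (n i)) (Fin (n (i + 1))) R)
    (π : (Fin (n 0) → R) →ₗ[R] R)
    (h0 : LinearMap.ker π = LinearMap.range (A 0).mulVecLin)
    (hA : ∀ i, i + 2 ≤ e → LinearMap.ker (A i).mulVecLin = LinearMap.range (A (i + 1)).mulVecLin)
    (hlast : LinearMap.ker (A (e - 1)).mulVecLin = ⊥) :
    ∃ g : (Fin (n 0) → Localization.AtPrime P) →ₗ[Localization.AtPrime P] Localization.AtPrime P,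
      Module.Free (Localization.AtPrime P) (LinearMap.range g) ∧
      (Module.finrank (Localization.AtPrime P) (LinearMap.range g) : ℤ) = n 0 - rk n e (e - 1) ∧
      (∀ v : Fin (n 0) → R, g (fun j => algebraMap R (Localization.AtPrime P) (v j)) =
        algebraMap R (Localization.AtPrime P) (π v)) ∧
      (∀ y ∈ LinearMap.range g, algebraMap R (Localization.AtPrime P) z * y = 0 ∨
        ¬ (LinearMap.range π ≤ P)) := by
  let S := Localization.AtPrime P
  let M := P.primeCompl
  let w : S := algebraMap R S z
  have hw : w ≠ 0 := by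
    intro h0
    obtain ⟨m, hm⟩ := (IsLocalization.map_eq_zero_iff M S z).mp h0
    apply m.2
    show (m : R) ∈ P
    rw [hz, Submodule.mem_colon_singleton, Submodule.mem_bot]
    exact hm
  have hmw : ∀ a ∈ IsLocalRing.maximalIdeal S, a * w = 0 := by
    have hle : Ideal.map (algebraMap R S) P ≤ LinearMap.ker (LinearMap.toSpanSingleton S S w) := by
      rw [Ideal.map_le_iff_le_comap]
      intro p hp
      rw [hz, Submodule.mem_colon_singleton, Submodule.mem_bot] at hp
      show algebraMap R S p ∈ LinearMap.ker (LinearMap.toSpanSingleton S S w)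
      rw [LinearMap.mem_ker, LinearMap.toSpanSingleton_apply, smul_eq_mul, ← map_mul]
      rw [smul_eq_mul] at hp
      rw [hp, map_zero]
    intro a ha
    rw [← IsLocalization.AtPrime.map_eq_maximalIdeal P S] at ha
    have := hle ha
    rwa [LinearMap.mem_ker, LinearMap.toSpanSingleton_apply, smul_eq_mul] at this
  let f : ∀ i, (Fin (n (i + 1)) → S) →ₗ[S] (Fin (n i) → S) := fun i =>
    LinearMap.extendScalarsOfIsLocalization M S
      (IsLocalizedModule.map M (loc R S (n (i + 1))) (loc R S (n i)) (A i).mulVecLin)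
  let g : (Fin (n 0) → S) →ₗ[S] S :=
    LinearMap.extendScalarsOfIsLocalization M S
      (IsLocalizedModule.map M (loc R S (n 0)) (Algebra.linearMap R S) π)
  have hex : ∀ i, i + 2 ≤ e → Function.Exact (f (i + 1)) (f i) := by
    intro i hi
    exact IsLocalizedModule.map_exact M (loc R S _) (loc R S _) (loc R S _) _ _
      (LinearMap.exact_iff.mpr (hA i hi))
  have hinj : Function.Injective (f (e - 1)) :=
    IsLocalizedModule.map_injective M (loc R S _) (loc R S _) _ (LinearMap.ker_eq_bot.mp hlast)
  have hg : Function.Exact (f 0) g :=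
    IsLocalizedModule.map_exact M (loc R S _) (loc R S _) (Algebra.linearMap R S) _ _
      (LinearMap.exact_iff.mpr h0)
  obtain ⟨hfree, hrank⟩ := local_ideal_rank w hw hmw n f e he hex hinj g hg
  have hgloc : ∀ v : Fin (n 0) → R, g (fun j => algebraMap R S (v j)) = algebraMap R S (π v) := by
    intro v
    exact IsLocalizedModule.map_apply M (loc R S (n 0)) (Algebra.linearMap R S) π v
  refine ⟨g, hfree, hrank, hgloc, ?_⟩
  rintro y ⟨v', rfl⟩
  by_cases hle : LinearMap.range π ≤ P
  · left
    obtain ⟨⟨v, s⟩, hvs⟩ := IsLocalizedModule.surj M (loc R S (n 0)) v'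
    have h1 : algebraMap R S (s : R) * g v' = algebraMap R S (π v) := by
      rw [← hgloc v, ← smul_eq_mul, ← map_smul]
      congr 1
      have hvs' : (s : R) • v' = fun j => algebraMap R S (v j) := hvs
      rw [← hvs']
      ext j
      simp only [Pi.smul_apply, smul_eq_mul, Algebra.smul_def]
      rfl
    have h2 : π v * z = 0 := by
      have : π v ∈ P := hle ⟨v, rfl⟩
      rw [hz, Submodule.mem_colon_singleton, Submodule.mem_bot] at this
      exact this
    have hu : IsUnit (algebraMap R S (s : R)) := IsLocalization.map_units S s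
    have h3 : algebraMap R S (s : R) * (algebraMap R S z * g v') = 0 := by
      rw [mul_left_comm, h1, ← map_mul, mul_comm, h2, map_zero]
    exact (hu.mul_right_eq_zero).mp h3
  · right; exact hle

theorem exists_nzd {R : Type u} [CommRing R] [IsNoetherianRing R]
    (e : ℕ) (he : 1 ≤ e) (n : ℕ → ℕ) (A : (i : ℕ) → Matrix (Fin (n i)) (Fin (n (i + 1))) R)
    (π : (Fin (n 0) → R) →ₗ[R] R) (hI : LinearMap.range π ≠ ⊥)
    (h0 : LinearMap.ker π = LinearMap.range (A 0).mulVecLin)
    (hA : ∀ i, i + 2 ≤ e → LinearMap.ker (A i).mulVecLin = LinearMap.range (A (i + 1)).mulVecLin)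
    (hlast : LinearMap.ker (A (e - 1)).mulVecLin = ⊥) :
    ∃ x : R, x ∈ LinearMap.range π ∧ x ∈ nonZeroDivisors R := by
  by_contra hcon
  push Not at hcon
  -- the ideal is contained in an associated prime
  have hfin : (associatedPrimes R R).Finite := associatedPrimes.finite R R
  have hsub : ((LinearMap.range π : Ideal R) : Set R) ⊆
      ⋃ P ∈ ((hfin.toFinset : Finset (Ideal R)) : Set (Ideal R)), (P : Set R) := by
    intro x hx
    have hx' : x ∈ (nonZeroDivisors R : Set R)ᶜ := hcon x hx
    rw [← biUnion_associatedPrimes_eq_compl_nonZeroDivisors R] at hx'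
    simpa using hx'
  obtain ⟨P₀, hP₀, hle⟩ := (Ideal.subset_union_prime (f := fun P : Ideal R => P) ⊥ ⊥
    (fun P hP _ _ => (hfin.mem_toFinset.mp hP).isPrime)).mp hsub
  have hP₀' : IsAssociatedPrime P₀ R := hfin.mem_toFinset.mp hP₀
  obtain ⟨hprime₀, z, hz⟩ := isAssociatedPrime_iff.mp hP₀'
  haveI := hprime₀
  have hmemP₀ : ∀ x : R, x * z = 0 → x ∈ P₀ := by
    intro x hx
    rw [hz, Submodule.mem_colon_singleton, Submodule.mem_bot]
    exact hx
  obtain ⟨g, hfree, hrank, hgloc, hkill⟩ := at_assoc P₀ z hz e he n A π h0 hA hlast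
  -- Euler characteristic is zero
  have hχ : (n 0 : ℤ) - rk n e (e - 1) = 0 := by
    rw [← hrank]
    norm_cast
    rw [Module.finrank_eq_zero_iff_of_free]
    by_contra hns
    rw [not_subsingleton_iff_nontrivial, ← Module.finrank_pos_iff_of_free (R := Localization.AtPrime P₀)] at hns
    let b := Module.finBasis (Localization.AtPrime P₀) (LinearMap.range g)
    have hk : algebraMap R (Localization.AtPrime P₀) z • b ⟨0, hns⟩ = 0 := by
      apply Subtype.ext
      have := (hkill _ (b ⟨0, hns⟩).2).resolve_right (not_not.mpr hle)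
      rw [Submodule.coe_smul, smul_eq_mul, Submodule.coe_zero]
      exact this
    have h1 := congrArg (fun t => b.repr t ⟨0, hns⟩) hk
    simp only [map_smul, Module.Basis.repr_self, Finsupp.smul_apply, Finsupp.single_eq_same,
      smul_eq_mul, mul_one, map_zero, Finsupp.zero_apply] at h1
    obtain ⟨m, hm⟩ := (IsLocalization.map_eq_zero_iff P₀.primeCompl _ z).mp h1
    exact m.2 (hmemP₀ _ hm)
  -- a nonzero element of the ideal
  obtain ⟨a, ha, ha0⟩ := (Submodule.ne_bot_iff _).mp hI
  obtain ⟨v, rfl⟩ := ha
  obtain ⟨P, hP, hann⟩ := exists_le_isAssociatedPrime_of_isNoetherianRing R (π v) ha0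
  obtain ⟨hprime, z', hz'⟩ := isAssociatedPrime_iff.mp hP
  haveI := hprime
  obtain ⟨g', hfree', hrank', hgloc', -⟩ := at_assoc P z' hz' e he n A π h0 hA hlast
  rw [hχ] at hrank'
  norm_cast at hrank'
  rw [Module.finrank_eq_zero_iff_of_free] at hrank'
  have h1 : (⟨_, ⟨_, hgloc' v⟩⟩ : LinearMap.range g') = 0 := Subsingleton.elim _ _
  have h2 : algebraMap R (Localization.AtPrime P) (π v) = 0 := congrArg Subtype.val h1
  obtain ⟨m, hm⟩ := (IsLocalization.map_eq_zero_iff P.primeCompl _ _).mp h2
  apply m.2
  apply hann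
  rw [Submodule.mem_colon_singleton, Submodule.mem_bot]
  exact hm

end Groth.Agent.Helper6.FFRes
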