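import Mathlib
import Groth.Agent.Helper6.FFTower

set_option linter.style.haveILetI false
set_option autoImplicit false

open FunFld Polynomial
open Groth.Agent.Helper5
open scoped Pointwise

namespace Groth.Agent.Helper6.FFTower

section Cond

variable {L : Type*} [Field L]

/-- a map stabilises `A` and induces the identity on its residue field. -/
def CondI (A : ValuationSubring L) (f : L → L) : Prop :=
  ∃ h : ∀ x, f x ∈ A ↔ x ∈ A,
    ∀ a : A, IsLocalRing.residue A ⟨f a.1, (h a.1).mpr a.2⟩ = IsLocalRing.residue A a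

theorem mem_inertia_map_iff {F : Type*} [Field F] [Algebra F L] (A : ValuationSubring L)
    (σ : L ≃ₐ[F] L) :
    σ ∈ (A.inertiaSubgroup F).map (A.decompositionSubgroup F).subtype ↔ CondI A σ := by
  constructor
  · rintro ⟨⟨σ, hσ⟩, hI, rfl⟩
    have hstab : σ • A = A := hσ
    have h : ∀ x, σ x ∈ A ↔ x ∈ A := by
      intro x
      have h1 : σ • x ∈ σ • A ↔ x ∈ A := ValuationSubring.smul_mem_pointwise_smul_iff
      rw [hstab] at h1
      exact h1
    refine ⟨h, fun a => ?_⟩
    have h2 : MulSemiringAction.toRingAut (A.decompositionSubgroup F)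
        (IsLocalRing.ResidueField A) ⟨σ, hσ⟩ = 1 := hI
    have h3 := RingEquiv.congr_fun h2 (IsLocalRing.residue A a)
    exact h3
  · rintro ⟨h, hres⟩
    have hstab : σ • A = A := by
      ext x
      rw [ValuationSubring.mem_pointwise_smul_iff_inv_smul_mem]
      have h1 : σ (σ⁻¹ • x) = x := by
        show σ (σ⁻¹ x) = x
        rw [← AlgEquiv.mul_apply, mul_inv_cancel, AlgEquiv.one_apply]
      rw [← h (σ⁻¹ • x), h1]
    refine ⟨⟨σ, hstab⟩, ?_, rfl⟩
    show MulSemiringAction.toRingAut (A.decompositionSubgroup F)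
        (IsLocalRing.ResidueField A) ⟨σ, hstab⟩ = 1
    apply RingEquiv.ext
    intro y
    obtain ⟨a, rfl⟩ := IsLocalRing.residue_surjective y
    exact hres a

end Cond

section Grp

variable {K K' : Type*} [Field K] [Field K'] [Algebra K K']

theorem card_inertia_tower (A : ValuationSubring K') (E : IntermediateField K K') :
    Nat.card (A.inertiaSubgroup ↥E) =
      Nat.card ↥((A.inertiaSubgroup K).map (A.decompositionSubgroup K).subtype ⊓
        E.fixingSubgroup) := by
  rw [← Subgroup.card_map_of_injective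
    (Subgroup.subtype_injective (A.decompositionSubgroup ↥E))]
  refine Nat.card_congr (Equiv.ofBijective
    (fun τ => (⟨(τ.1).restrictScalars K, Subgroup.mem_inf.mpr ⟨?_, ?_⟩⟩ :
      ↥((A.inertiaSubgroup K).map (A.decompositionSubgroup K).subtype ⊓ E.fixingSubgroup)))
    ⟨?_, ?_⟩)
  · exact (mem_inertia_map_iff A _).mpr ((mem_inertia_map_iff A τ.1).mp τ.2)
  · rw [IntermediateField.mem_fixingSubgroup_iff]
    intro x hx
    exact τ.1.commutes ⟨x, hx⟩
  · intro τ₁ τ₂ h
    apply Subtype.ext
    apply AlgEquiv.ext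
    intro x
    have := congrArg (fun σ : ↥((A.inertiaSubgroup K).map
      (A.decompositionSubgroup K).subtype ⊓ E.fixingSubgroup) => σ.1 x) h
    exact this
  · rintro ⟨σ, hσ⟩
    obtain ⟨hσ1, hσ2⟩ := Subgroup.mem_inf.mp hσ
    refine ⟨⟨E.fixingSubgroupEquiv ⟨σ, hσ2⟩, ?_⟩, ?_⟩
    · exact (mem_inertia_map_iff A _).mpr ((mem_inertia_map_iff A σ).mp hσ1)
    · apply Subtype.ext
      apply AlgEquiv.ext
      intro x
      rfl

end Grp

end Groth.Agent.Helper6.FFTower
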