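import Mathlib
import Groth.Agent.Helper6.FFTower2

set_option linter.style.haveILetI false
set_option autoImplicit false

open FunFld Polynomial
open Groth.Agent.Helper5
open scoped Pointwise

namespace Groth.Agent.Helper6.FFTower

theorem range_pow_sub {a b : ℕ}
    (h : Set.range (fun γ : WithZero (Multiplicative ℤ) => γ ^ a) ⊆
      Set.range (fun γ : WithZero (Multiplicative ℤ) => γ ^ b)) : b ∣ a := by
  obtain ⟨γ, hγ⟩ := h ⟨WithZero.exp (1 : ℤ), rfl⟩
  have hγ' : γ ^ b = WithZero.exp (1 : ℤ) ^ a := hγ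
  rcases Nat.eq_zero_or_pos b with hb | hb
  · subst hb
    rw [pow_zero, ← WithZero.exp_nsmul, ← WithZero.exp_zero] at hγ'
    have h0 := WithZero.exp_injective hγ'
    rw [nsmul_eq_mul, mul_one] at h0
    have ha : a = 0 := by exact_mod_cast h0.symm
    rw [ha]
  · have hγ0 : γ ≠ 0 := by
      rintro rfl
      rw [zero_pow hb.ne'] at hγ'
      exact (pow_ne_zero a WithZero.exp_ne_zero) hγ'.symm
    rw [← WithZero.exp_log hγ0, ← WithZero.exp_nsmul, ← WithZero.exp_nsmul] at hγ'
    have h1 := WithZero.exp_injective hγ'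
    rw [nsmul_eq_mul, nsmul_eq_mul, mul_one] at h1
    exact Int.natCast_dvd_natCast.mp ⟨_, h1.symm⟩

theorem range_pow_eq_iff {d e : ℕ} :
    Set.range (fun γ : WithZero (Multiplicative ℤ) => γ ^ d) =
      Set.range (fun γ : WithZero (Multiplicative ℤ) => γ ^ e) ↔ d = e := by
  constructor
  · intro h
    exact Nat.dvd_antisymm (range_pow_sub h.ge) (range_pow_sub h.le)
  · rintro rfl; rfl

section Final

variable {k K K' : Type*} [Field k] [Field K] [Field K'] [Algebra k K] [Algebra K K']
  [Algebra k K'] [IsScalarTower k K K']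

theorem range_comap_eq {F : Type*} [Field F] [Algebra k F] [Algebra F K'] {Q : Place k K'}
    {P : Place k F} {d : ℕ} (hd : IsOverWith Q P d) :
    Set.range (Q.1.comap (algebraMap F K')) =
      Set.range (fun γ : WithZero (Multiplicative ℤ) => γ ^ d) := by
  ext z
  constructor
  · rintro ⟨x, rfl⟩
    exact ⟨P.1 x, (hd x).symm⟩
  · rintro ⟨γ, rfl⟩
    obtain ⟨x, hx⟩ := P.2.2 γ
    exact ⟨x, by rw [Valuation.comap_apply, hd x, hx]⟩

theorem isScalarTower_mid (E : IntermediateField K K') : IsScalarTower k ↥E K' :=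
  IsScalarTower.of_algebraMap_eq fun _ => rfl

theorem exists_place_inter [FiniteDimensional K K'] [IsGalois K K'] (hK : IsFunctionField k K)
    (Q : Place k K') [Algebra.IsSeparable k (IsLocalRing.ResidueField Q.O)]
    (E : IntermediateField K K') :
    ∃ QE : Place k ↥E, IsOverWith Q QE
      (Nat.card ↥(((Q.O).inertiaSubgroup K).map ((Q.O).decompositionSubgroup K).subtype ⊓
        E.fixingSubgroup)) := by
  haveI : IsScalarTower k ↥E K' := isScalarTower_mid E
  have hE : FG.IsFF k ↥E := FG.isFF_of_finite hK.1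
  obtain ⟨QE, d, hd, hcard⟩ := transport hE Q
  rw [card_inertia_tower] at hcard
  rw [← hcard] at hd
  exact ⟨QE, hd⟩

theorem unram_iff [FiniteDimensional K K'] [IsGalois K K'] (hK : IsFunctionField k K)
    (Q : Place k K') [Algebra.IsSeparable k (IsLocalRing.ResidueField Q.O)]
    (E : IntermediateField K K') :
    Set.range (Q.1.comap (algebraMap E K')) = Set.range (Q.1.comap (algebraMap K K')) ↔
      E ≤ IntermediateField.fixedField
        (((Q.O).inertiaSubgroup K).map ((Q.O).decompositionSubgroup K).subtype) := by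
  obtain ⟨P, e, he⟩ := FG.exists_isOverWith hK.1 Q
  have hcardI : Nat.card ((Q.O).inertiaSubgroup K) = e := FFInertia.card_inertia hK he
  obtain ⟨IG, hIG⟩ : ∃ IG : Subgroup (K' ≃ₐ[K] K'),
      IG = ((Q.O).inertiaSubgroup K).map ((Q.O).decompositionSubgroup K).subtype := ⟨_, rfl⟩
  have hcardIG : Nat.card IG = e := by
    rw [hIG, Subgroup.card_map_of_injective (Subgroup.subtype_injective _), hcardI]
  obtain ⟨QE, hQE⟩ := exists_place_inter hK Q E
  rw [← hIG] at hQE ⊢
  rw [range_comap_eq hQE, range_comap_eq he, range_pow_eq_iff, IntermediateField.le_iff_le]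
  constructor
  · intro h
    have h1 : IG ⊓ E.fixingSubgroup = IG :=
      Subgroup.eq_of_le_of_card_ge inf_le_left (by rw [h, hcardIG])
    rw [← h1]; exact inf_le_right
  · intro h
    rw [inf_eq_left.mpr h, hcardIG]

theorem tot_ram [FiniteDimensional K K'] [IsGalois K K'] (hK : IsFunctionField k K)
    (Q : Place k K') [Algebra.IsSeparable k (IsLocalRing.ResidueField Q.O)] :
    let K₁ : IntermediateField K K' := IntermediateField.fixedField
        (((Q.O).inertiaSubgroup K).map ((Q.O).decompositionSubgroup K).subtype)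
    ∃ Q₁ : FunFld.Place k K₁, FunFld.IsOverWith Q Q₁ (Module.finrank K₁ K') := by
  intro K₁
  obtain ⟨IG, hIG⟩ : ∃ IG : Subgroup (K' ≃ₐ[K] K'),
      IG = ((Q.O).inertiaSubgroup K).map ((Q.O).decompositionSubgroup K).subtype := ⟨_, rfl⟩
  obtain ⟨QE, hQE⟩ := exists_place_inter hK Q K₁
  refine ⟨QE, ?_⟩
  have h1 : K₁.fixingSubgroup = IG := by
    rw [hIG]; exact IntermediateField.fixingSubgroup_fixedField _
  have h2 : Module.finrank ↥K₁ K' = Nat.card IG := by
    rw [hIG]; exact IntermediateField.finrank_fixedField_eq_card _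
  rw [h2]
  rw [← hIG, h1, inf_idem] at hQE
  exact hQE

end Final

end Groth.Agent.Helper6.FFTower
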