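import Mathlib
import Groth.Agent.Helper6.LubinTate

/-!
# Lubin–Tate lemma: composition and linear parts
-/

namespace Groth.Agent.Helper6.LubinTate

open MvPowerSeries

variable {R : Type*} [CommRing R]

section Semi
variable {σ τ : Type*}

/-- `Semi f₁ f₂ φ` : `f₁(φ) = φ(f₂(X))`. -/
def Semi (f₁ f₂ : PowerSeries R) (φ : MvPowerSeries σ R) : Prop :=
  PowerSeries.subst φ f₁ = subst (av f₂) φ

theorem semi_iff {f₁ f₂ : PowerSeries R} {φ : MvPowerSeries σ R} :
    Semi f₁ f₂ φ ↔ T f₁ f₂ φ = 0 := sub_eq_zero.symm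

theorem av_unit (f : PowerSeries R) : av (σ := Unit) f = fun _ => f := by
  funext i
  exact PowerSeries.X_subst f

theorem semi_unit_iff {f₁ f₂ g : PowerSeries R} :
    Semi f₁ f₂ (g : MvPowerSeries Unit R) ↔ PowerSeries.subst g f₁ = PowerSeries.subst f₂ g := by
  rw [Semi, av_unit]
  rfl

theorem Semi.comp [Finite σ] [Finite τ] {f₁ f₂ f₃ : PowerSeries R}
    (h₂ : PowerSeries.constantCoeff f₂ = 0) (h₃ : PowerSeries.constantCoeff f₃ = 0)
    {F : MvPowerSeries σ R} (hF0 : constantCoeff F = 0) (hF : Semi f₁ f₂ F)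
    {b : σ → MvPowerSeries τ R} (hb0 : ∀ s, constantCoeff (b s) = 0)
    (hb : ∀ s, Semi f₂ f₃ (b s)) : Semi f₁ f₃ (subst b F) := by
  have Hb : HasSubst b := hasSubst_of_constantCoeff_zero hb0
  have HF : PowerSeries.HasSubst F := .of_constantCoeff_zero hF0
  unfold Semi
  have e1 : PowerSeries.subst (subst b F) f₁ = subst b (PowerSeries.subst F f₁) := by
    rw [PowerSeries.subst_def, PowerSeries.subst_def, subst_comp_subst_apply HF.const Hb]
  rw [e1, hF, subst_comp_subst_apply (hasSubst_av f₂ h₂) Hb,
    subst_comp_subst_apply Hb (hasSubst_av f₃ h₃)]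
  congr 1
  funext s
  have e2 : subst b (av f₂ s) = PowerSeries.subst (b s) f₂ := by
    rw [av, PowerSeries.subst_def, subst_comp_subst_apply (PowerSeries.HasSubst.X s).const Hb,
      PowerSeries.subst_def]
    congr 1
    funext _
    exact subst_X Hb s
  rw [e2]
  exact hb s

theorem semi_X [Finite σ] (f : PowerSeries R) (hf : PowerSeries.constantCoeff f = 0) (s : σ) :
    Semi f f (X s : MvPowerSeries σ R) := by
  unfold Semi
  rw [subst_X (hasSubst_av f hf)]
  rfl

end Semi

section Agree
variable {σ τ : Type*}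

/-- agreement up to order 2 -/
def Agree (p q : MvPowerSeries τ R) : Prop := (2 : ℕ∞) ≤ (p - q).order

theorem Agree.refl (p : MvPowerSeries τ R) : Agree p p := by simp [Agree]

theorem Agree.symm {p q : MvPowerSeries τ R} (h : Agree p q) : Agree q p := by
  unfold Agree at *
  rw [← neg_sub, order_neg]
  exact h

theorem Agree.trans {p q r : MvPowerSeries τ R} (h : Agree p q) (h' : Agree q r) :
    Agree p r := by
  unfold Agree at *
  have e : p - r = (p - q) + (q - r) := by ring
  rw [e]
  exact le_trans (le_min h h') min_order_le_add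

theorem Agree.add {p q p' q' : MvPowerSeries τ R} (h : Agree p q) (h' : Agree p' q') :
    Agree (p + p') (q + q') := by
  unfold Agree at *
  have e : p + p' - (q + q') = (p - q) + (p' - q') := by ring
  rw [e]
  exact le_trans (le_min h h') min_order_le_add

theorem Agree.smul {p q : MvPowerSeries τ R} (c : R) (h : Agree p q) :
    Agree (c • p) (c • q) := by
  unfold Agree at *
  rw [← smul_sub]
  exact le_trans h le_order_smul

theorem Agree.coeff_eq {p q : MvPowerSeries τ R} (h : Agree p q) (d : τ →₀ ℕ)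
    (hd : d.degree < 2) : coeff d p = coeff d q := by
  have := coeff_of_lt_order (d := d) (lt_of_lt_of_le (by exact_mod_cast hd) h)
  rwa [map_sub, sub_eq_zero] at this

theorem agree_of_coeff_eq {p q : MvPowerSeries τ R}
    (h : ∀ d : τ →₀ ℕ, d.degree < 2 → coeff d p = coeff d q) : Agree p q := by
  have : ((2 : ℕ) : ℕ∞) ≤ (p - q).order :=
    nat_le_order (fun d hd => by rw [map_sub, h d hd, sub_self])
  exact_mod_cast this

theorem Agree.constantCoeff_eq {p q : MvPowerSeries τ R} (h : Agree p q) :
    constantCoeff p = constantCoeff q := by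
  have := h.coeff_eq 0 (by simp)
  simpa using this

theorem agree_subst [Finite σ] {a : σ → MvPowerSeries τ R}
    (ha0 : ∀ s, constantCoeff (a s) = 0) {F G : MvPowerSeries σ R} (h : Agree F G) :
    Agree (subst a F) (subst a G) := by
  have Ha : HasSubst a := hasSubst_of_constantCoeff_zero ha0
  unfold Agree at *
  rw [← subst_sub Ha]
  refine le_trans ?_ (le_order_subst Ha _)
  have h1 : (1 : ℕ∞) ≤ ⨅ i, (a i).order :=
    le_iInf (fun i => one_le_order_iff_constCoeff_eq_zero.mpr (ha0 i))
  calc (2 : ℕ∞) = 1 * 2 := by simp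
    _ ≤ _ := mul_le_mul' h1 h

theorem agree_psubst {b : MvPowerSeries τ R} (hb0 : constantCoeff b = 0)
    {g g' : PowerSeries R} (h : Agree (g : MvPowerSeries Unit R) g') :
    Agree (PowerSeries.subst b g) (PowerSeries.subst b g') :=
  agree_subst (fun _ => hb0) h

/-- degree `< 2` exponents -/
theorem degree_lt_two {d : τ →₀ ℕ} (hd : d.degree < 2) :
    d = 0 ∨ ∃ i, d = Finsupp.single i 1 := by
  rcases Nat.lt_or_ge d.degree 1 with h | h
  · left
    exact (Finsupp.degree_eq_zero_iff d).mp (by omega)
  · right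
    have h1 : d.degree = 1 := by omega
    have : d ∈ Set.range (fun a : τ => Finsupp.single a 1) := by
      rw [Finsupp.range_single_one]; exact h1
    obtain ⟨i, hi⟩ := this
    exact ⟨i, hi.symm⟩

theorem agree_X0_add_X1 {F : MvPowerSeries (Fin 2) R} (h0 : constantCoeff F = 0)
    (h1 : coeff (Finsupp.single 0 1) F = 1) (h2 : coeff (Finsupp.single 1 1) F = 1) :
    Agree F (X 0 + X 1) := by
  classical
  apply agree_of_coeff_eq
  intro d hd
  rcases degree_lt_two hd with rfl | ⟨i, rfl⟩
  · simp [h0]
  · fin_cases i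
    · simp [h1, coeff_index_single_X]
    · simp [h2, coeff_index_single_X]

theorem coeff_of_agree_X0_add_X1 {F : MvPowerSeries (Fin 2) R} (h : Agree F (X 0 + X 1)) :
    constantCoeff F = 0 ∧ coeff (Finsupp.single 0 1) F = 1 ∧
      coeff (Finsupp.single 1 1) F = 1 := by
  classical
  refine ⟨?_, ?_, ?_⟩
  · rw [h.constantCoeff_eq]; simp
  · rw [h.coeff_eq _ (by simp)]; simp [coeff_index_single_X]
  · rw [h.coeff_eq _ (by simp)]; simp [coeff_index_single_X]

theorem agree_smul_X {g : PowerSeries R} {c : R} (h0 : PowerSeries.constantCoeff g = 0)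
    (h1 : PowerSeries.coeff 1 g = c) :
    Agree (g : MvPowerSeries Unit R) (c • (PowerSeries.X : PowerSeries R)) := by
  classical
  apply agree_of_coeff_eq
  intro d hd
  rcases degree_lt_two hd with rfl | ⟨i, rfl⟩
  · have : constantCoeff (g : MvPowerSeries Unit R) = 0 := h0
    have e0 : constantCoeff (PowerSeries.X : PowerSeries R) = 0 :=
      PowerSeries.constantCoeff_X
    simp [this, e0]
  · have e1 : coeff (Finsupp.single i 1) (g : MvPowerSeries Unit R) = c := h1
    rw [e1, map_smul]
    have e2 : coeff (Finsupp.single i 1) (PowerSeries.X : PowerSeries R) = 1 :=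
      PowerSeries.coeff_one_X
    rw [e2, smul_eq_mul, mul_one]

theorem coeff_one_of_agree {g g' : PowerSeries R} (h : Agree (g : MvPowerSeries Unit R) g') :
    PowerSeries.coeff 1 g = PowerSeries.coeff 1 g' :=
  h.coeff_eq (Finsupp.single () 1) (by simp)

end Agree

end Groth.Agent.Helper6.LubinTate
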