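import Mathlib
import Groth.Agent.Helper6.LubinTate

/-!
# Abstract degree-by-degree solving of equations `T φ = 0` in power series

`T` is an operator on power series whose "linearization" in degree `m` is multiplication by
`lam m`.
-/

namespace Groth.Agent.Helper6.SeriesRec

open MvPowerSeries
open Groth.Agent.Helper6.LubinTate (exists_seq)

variable {R : Type*} [CommRing R] {σ : Type*}

theorem unique_of_linearization (T : MvPowerSeries σ R → MvPowerSeries σ R) (lam : ℕ → R)
    (n₀ : ℕ)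
    (hT : ∀ φ ψ : MvPowerSeries σ R, constantCoeff φ = 0 → constantCoeff ψ = 0 → ∀ m : ℕ,
      n₀ ≤ m → (m : ℕ∞) ≤ (φ - ψ).order → ∀ e : σ →₀ ℕ, e.degree ≤ m →
      coeff e (T φ) - coeff e (T ψ) = lam m * (coeff e φ - coeff e ψ))
    (hreg : ∀ m, n₀ ≤ m → ∀ x : R, lam m * x = 0 → x = 0)
    {φ ψ : MvPowerSeries σ R} (hφ : constantCoeff φ = 0) (hψ : constantCoeff ψ = 0)
    (hTe : T φ = T ψ) (h2 : (n₀ : ℕ∞) ≤ (φ - ψ).order) : φ = ψ := by
  have key : ∀ m : ℕ, n₀ ≤ m → (m : ℕ∞) ≤ (φ - ψ).order := by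
    intro m hm
    induction m, hm using Nat.le_induction with
    | base => exact h2
    | succ m hm ih =>
      apply nat_le_order
      intro d hd
      have := hT φ ψ hφ hψ m hm ih d (by omega)
      rw [hTe, sub_self] at this
      rw [map_sub]
      exact hreg m hm _ this.symm
  have : (φ - ψ).order = ⊤ := by
    rw [ENat.eq_top_iff_forall_ge]
    intro m
    exact le_trans (by exact_mod_cast (by omega : m ≤ m + n₀)) (key (m + n₀) (by omega))
  rw [order_eq_top_iff, sub_eq_zero] at this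
  exact this

theorem exists_zero_of_linearization (T : MvPowerSeries σ R → MvPowerSeries σ R) (lam : ℕ → R)
    (n₀ : ℕ) (hn₀ : 1 ≤ n₀)
    (hT : ∀ φ ψ : MvPowerSeries σ R, constantCoeff φ = 0 → constantCoeff ψ = 0 → ∀ m : ℕ,
      n₀ ≤ m → (m : ℕ∞) ≤ (φ - ψ).order → ∀ e : σ →₀ ℕ, e.degree ≤ m →
      coeff e (T φ) - coeff e (T ψ) = lam m * (coeff e φ - coeff e ψ))
    (hdiv : ∀ φ : MvPowerSeries σ R, constantCoeff φ = 0 → ∀ e : σ →₀ ℕ, n₀ ≤ e.degree →
      lam e.degree ∣ coeff e (T φ))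
    (L : MvPowerSeries σ R) (hL0 : constantCoeff L = 0) (hL : (n₀ : ℕ∞) ≤ (T L).order) :
    ∃ φ : MvPowerSeries σ R, constantCoeff φ = 0 ∧ (n₀ : ℕ∞) ≤ (φ - L).order ∧ T φ = 0 := by
  classical
  -- the step
  have step : ∀ (n : ℕ) (φ : MvPowerSeries σ R), (constantCoeff φ = 0 ∧
      ((n + n₀ : ℕ) : ℕ∞) ≤ (T φ).order) →
      ∃ φ' : MvPowerSeries σ R, (constantCoeff φ' = 0 ∧
        ((n + 1 + n₀ : ℕ) : ℕ∞) ≤ (T φ').order) ∧
        ((n + n₀ : ℕ) : ℕ∞) ≤ (φ' - φ).order := by
    rintro n φ ⟨hφ, hTφ⟩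
    have hc : ∀ e : σ →₀ ℕ, ∃ c : R, n₀ ≤ e.degree →
        coeff e (T φ) = lam e.degree * c := by
      intro e
      by_cases he : n₀ ≤ e.degree
      · obtain ⟨c, hc⟩ := hdiv φ hφ e he
        exact ⟨c, fun _ => hc⟩
      · exact ⟨0, fun h => absurd h he⟩
    choose c hc using hc
    let Δ : MvPowerSeries σ R := fun e => if e.degree = n + n₀ then - c e else 0
    have hΔ : ∀ e, coeff e Δ = if e.degree = n + n₀ then - c e else 0 := fun e => rfl
    have hΔord : ((n + n₀ : ℕ) : ℕ∞) ≤ Δ.order :=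
      nat_le_order (fun d hd => by rw [hΔ, if_neg (by omega)])
    have hΔ0 : constantCoeff Δ = 0 := by
      rw [← coeff_zero_eq_constantCoeff_apply, hΔ, if_neg]
      simp only [map_zero]
      omega
    have hφΔ : constantCoeff (φ + Δ) = 0 := by simp [hφ, hΔ0]
    have hsub : φ + Δ - φ = Δ := by ring
    refine ⟨φ + Δ, ⟨hφΔ, ?_⟩, by rw [hsub]; exact hΔord⟩
    apply nat_le_order
    intro d hd
    have := hT (φ + Δ) φ hφΔ hφ (n + n₀) (by omega) (by rw [hsub]; exact hΔord) d (by omega)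
    rw [map_add, add_sub_cancel_left, hΔ] at this
    rw [sub_eq_iff_eq_add] at this
    rw [this]
    by_cases hd2 : d.degree = n + n₀
    · rw [if_pos hd2, hc d (by omega), hd2]
      ring
    · rw [if_neg hd2, mul_zero, zero_add]
      exact coeff_of_lt_order
        (lt_of_lt_of_le (by exact_mod_cast (by omega : d.degree < n + n₀)) hTφ)
  obtain ⟨s, hs0, hsP, hsQ⟩ := exists_seq
    (fun n (φ : MvPowerSeries σ R) => constantCoeff φ = 0 ∧
      ((n + n₀ : ℕ) : ℕ∞) ≤ (T φ).order)
    (fun n φ φ' => ((n + n₀ : ℕ) : ℕ∞) ≤ (φ' - φ).order) L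
    ⟨hL0, by simpa using hL⟩ step
  have hmono : ∀ n k : ℕ, ((n + n₀ : ℕ) : ℕ∞) ≤ (s (n + k) - s n).order := by
    intro n k
    induction k with
    | zero => simp
    | succ k ih =>
      have e : s (n + (k + 1)) - s n = (s (n + k + 1) - s (n + k)) + (s (n + k) - s n) := by
        rw [← add_assoc]; ring
      rw [e]
      refine le_trans (le_min ?_ ih) min_order_le_add
      exact le_trans (by exact_mod_cast (by omega : n + n₀ ≤ n + k + n₀)) (hsQ (n + k))
  let φ : MvPowerSeries σ R := fun e => coeff e (s e.degree)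
  have hφ : ∀ e, coeff e φ = coeff e (s e.degree) := fun e => rfl
  have hlim : ∀ n : ℕ, ((n + n₀ : ℕ) : ℕ∞) ≤ (φ - s n).order := by
    intro n
    apply nat_le_order
    intro d hd
    rw [map_sub, hφ, sub_eq_zero]
    rcases Nat.lt_or_ge n d.degree with h | h
    · obtain ⟨k, hk⟩ := Nat.exists_eq_add_of_le h.le
      have := coeff_of_lt_order (d := d) (lt_of_lt_of_le (by exact_mod_cast hd) (hmono n k))
      rw [map_sub, sub_eq_zero] at this
      rw [hk, this]
    · obtain ⟨k, hk⟩ := Nat.exists_eq_add_of_le h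
      have := coeff_of_lt_order (d := d) (lt_of_lt_of_le
        (by exact_mod_cast (by omega : d.degree < d.degree + n₀)) (hmono d.degree k))
      rw [map_sub, sub_eq_zero] at this
      rw [hk, this]
  have hφ0 : constantCoeff φ = 0 := by
    rw [← coeff_zero_eq_constantCoeff_apply, hφ, map_zero, hs0,
      coeff_zero_eq_constantCoeff_apply, hL0]
  refine ⟨φ, hφ0, ?_, ?_⟩
  · have := hlim 0
    rw [hs0] at this
    simpa using this
  · have key : ∀ n : ℕ, ((n + n₀ : ℕ) : ℕ∞) ≤ (T φ).order := by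
      intro n
      have e : T φ = (T φ - T (s n)) + T (s n) := by ring
      rw [e]
      refine le_trans (le_min ?_ (hsP n).2) min_order_le_add
      apply nat_le_order
      intro d hd
      have := hT φ (s n) hφ0 (hsP n).1 (n + n₀) (by omega) (hlim n) d hd.le
      rw [map_sub, this, ← map_sub,
        coeff_of_lt_order (lt_of_lt_of_le (by exact_mod_cast hd) (hlim n)), mul_zero]
    have : (T φ).order = ⊤ := by
      rw [ENat.eq_top_iff_forall_ge]
      intro m
      exact le_trans (by exact_mod_cast (by omega : m ≤ m + n₀)) (key m)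
    rw [order_eq_top_iff] at this
    exact this

end Groth.Agent.Helper6.SeriesRec
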