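import Mathlib
import Groth.Agent.Helper6.SeriesRec
import Groth.Agent.Helper6.LubinTateComp

/-!
# Inverse series of a one-dimensional formal group law
-/

namespace Groth.Agent.Helper6.FGInv

open MvPowerSeries
open Groth.Agent.Helper6.LubinTate

variable {R : Type*} [CommRing R]

theorem prod_pair {τ : Type*} (a : Fin 2 → MvPowerSeries τ R) (d : Fin 2 →₀ ℕ) :
    (d.prod fun s k => a s ^ k) = a 0 ^ d 0 * a 1 ^ d 1 := by
  rw [Finsupp.prod_fintype _ _ (fun _ => pow_zero _), Fin.prod_univ_two]

theorem constantCoeff_X' : constantCoeff ((PowerSeries.X : PowerSeries R) : MvPowerSeries Unit R) = 0 :=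
  PowerSeries.constantCoeff_X

theorem hasSubst_pair {g : MvPowerSeries Unit R} (hg : constantCoeff g = 0) :
    HasSubst (![PowerSeries.X, g] : Fin 2 → MvPowerSeries Unit R) := by
  apply hasSubst_of_constantCoeff_zero
  intro s
  fin_cases s
  · exact constantCoeff_X'
  · exact hg

theorem coeff_subst_pair_sub (P : MvPowerSeries (Fin 2) R)
    (hP1 : coeff (Finsupp.single 1 1) P = 1) {g g' : MvPowerSeries Unit R}
    (hg : constantCoeff g = 0) (hg' : constantCoeff g' = 0) {m : ℕ}
    (h : (m : ℕ∞) ≤ (g - g').order) (e : Unit →₀ ℕ)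
    (he : e.degree ≤ m) :
    coeff e (subst (![PowerSeries.X, g] : Fin 2 → MvPowerSeries Unit R) P) -
      coeff e (subst (![PowerSeries.X, g'] : Fin 2 → MvPowerSeries Unit R) P) =
      1 * (coeff e g - coeff e g') := by
  have Hg := hasSubst_pair hg
  have Hg' := hasSubst_pair hg'
  rw [coeff_subst Hg, coeff_subst Hg', ← finsum_sub_distrib (coeff_subst_finite Hg P e)
    (coeff_subst_finite Hg' P e)]
  rw [finsum_eq_single _ (Finsupp.single 1 1)]
  · rw [prod_pair, prod_pair, hP1]
    simp
  · intro d hd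
    rw [prod_pair, prod_pair, ← smul_sub, ← map_sub]
    simp only [Matrix.cons_val_zero, Matrix.cons_val_one]
    rw [← mul_sub]
    rcases Nat.eq_zero_or_pos (d 1) with h1 | h1
    · rw [h1]; simp
    · obtain ⟨k, hk⟩ : ∃ k, d 1 = k + 1 := ⟨d 1 - 1, by omega⟩
      have hk0 : 1 ≤ d 0 + k := by
        by_contra hcon
        apply hd
        ext s
        fin_cases s
        · simp; omega
        · simp; omega
      have hz : coeff e ((PowerSeries.X : MvPowerSeries Unit R) ^ d 0 *
          (g ^ (k + 1) - g' ^ (k + 1))) = 0 := by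
        apply coeff_of_lt_order
        refine lt_of_lt_of_le ?_ (le_trans (add_le_add
          (le_order_pow_of_constantCoeff_eq_zero (d 0) constantCoeff_X')
          (le_order_pow_sub_pow hg hg' h k)) le_order_mul)
        exact_mod_cast (by omega : e.degree < d 0 + (m + k))
      rw [hk, hz, smul_zero]

/-- existence of a "right inverse" for a series `P(X,Y) = … + Y + …` -/
theorem exists_right_inverse (P : MvPowerSeries (Fin 2) R) (hP0 : constantCoeff P = 0)
    (hP1 : coeff (Finsupp.single 1 1) P = 1) :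
    ∃ g : PowerSeries R, PowerSeries.constantCoeff g = 0 ∧
      subst (![PowerSeries.X, g] : Fin 2 → MvPowerSeries Unit R) P = 0 := by
  obtain ⟨g, hg0, -, hg⟩ := SeriesRec.exists_zero_of_linearization
    (fun g : MvPowerSeries Unit R => subst (![PowerSeries.X, g] : Fin 2 → MvPowerSeries Unit R) P)
    (fun _ => 1) 1 le_rfl
    (fun φ ψ hφ hψ m _ h e he => coeff_subst_pair_sub P hP1 hφ hψ h e he)
    (fun _ _ _ _ => one_dvd _) 0 (by simp) (by
      have h0 : constantCoeff (0 : MvPowerSeries Unit R) = 0 := by simp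
      have := constantCoeff_subst_eq_zero (hasSubst_pair h0) (a := (![PowerSeries.X, 0] :
        Fin 2 → MvPowerSeries Unit R)) (by
          intro s
          fin_cases s
          · exact constantCoeff_X'
          · exact h0) hP0
      exact_mod_cast one_le_order_iff_constCoeff_eq_zero.mpr this)
  exact ⟨g, hg0, hg⟩

theorem left_eq_right (F : FormalGroup R) {k g : PowerSeries R}
    (hk0 : k.constantCoeff = 0) (hg0 : g.constantCoeff = 0)
    (hk : F.toPowerSeries.subst ![k, PowerSeries.X] = (0 : PowerSeries R))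
    (hg : F.toPowerSeries.subst ![PowerSeries.X, g] = (0 : PowerSeries R)) : k = g := by
  have Hk : PowerSeries.HasSubst k := .of_constantCoeff_zero' hk0
  have Hg : PowerSeries.HasSubst g := .of_constantCoeff_zero' hg0
  have HX : PowerSeries.HasSubst (PowerSeries.X : PowerSeries R) := PowerSeries.HasSubst.X'
  calc k = F.toPowerSeries.subst ![k, 0] := (F.add_zero Hk).symm
    _ = F.toPowerSeries.subst ![k, F.toPowerSeries.subst ![PowerSeries.X, g]] := by rw [hg]
    _ = F.toPowerSeries.subst ![F.toPowerSeries.subst ![k, PowerSeries.X], g] :=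
      (F.assoc' Hk HX Hg).symm
    _ = F.toPowerSeries.subst ![0, g] := by rw [hk]
    _ = g := F.zero_add Hg

/-- S15058 -/
theorem main (F : FormalGroup R) :
    ∃ g : PowerSeries R, g.constantCoeff = 0 ∧
      F.toPowerSeries.subst ![PowerSeries.X, g] = (0 : PowerSeries R) ∧
      F.toPowerSeries.subst ![g, PowerSeries.X] = (0 : PowerSeries R) ∧
      ∀ k : PowerSeries R, k.constantCoeff = 0 →
        (F.toPowerSeries.subst ![PowerSeries.X, k] = (0 : PowerSeries R) ∨
          F.toPowerSeries.subst ![k, PowerSeries.X] = (0 : PowerSeries R)) → k = g := by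
  obtain ⟨g, hg0, hg⟩ := exists_right_inverse F.toPowerSeries F.zero_constantCoeff F.lin_coeff_Y
  have hsw0 : ∀ s : Fin 2, constantCoeff
      ((![X 1, X 0] : Fin 2 → MvPowerSeries (Fin 2) R) s) = 0 := by
    intro s
    fin_cases s
    · exact constantCoeff_X _
    · exact constantCoeff_X _
  have Hsw : HasSubst (![X 1, X 0] : Fin 2 → MvPowerSeries (Fin 2) R) :=
    hasSubst_of_constantCoeff_zero hsw0
  have hP'0 := constantCoeff_subst_eq_zero Hsw hsw0 F.zero_constantCoeff
  have hA : Agree (subst (![X 1, X 0] : Fin 2 → MvPowerSeries (Fin 2) R) F.toPowerSeries)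
      (X 0 + X 1) := by
    have := agree_subst hsw0
      (agree_X0_add_X1 F.zero_constantCoeff F.lin_coeff_X F.lin_coeff_Y)
    rw [subst_add Hsw, subst_X Hsw, subst_X Hsw] at this
    simp only [Matrix.cons_val_zero, Matrix.cons_val_one] at this
    rwa [add_comm] at this
  have hP'1 := (coeff_of_agree_X0_add_X1 hA).2.2
  obtain ⟨g', hg'0, hg'⟩ := exists_right_inverse _ hP'0 hP'1
  have hg'' : F.toPowerSeries.subst ![g', PowerSeries.X] = (0 : PowerSeries R) := by
    rw [← hg', subst_comp_subst_apply Hsw (hasSubst_pair hg'0)]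
    congr 1
    funext s
    fin_cases s
    · simp [subst_X (hasSubst_pair hg'0)]
    · simp [subst_X (hasSubst_pair hg'0)]
  have e := left_eq_right F hg'0 hg0 hg'' hg
  subst e
  refine ⟨g', hg'0, hg, hg'', ?_⟩
  rintro k hk0 (hk | hk)
  · exact (left_eq_right F hg'0 hk0 hg'' hk).symm
  · exact left_eq_right F hk0 hg0 hk hg

end Groth.Agent.Helper6.FGInv
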