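import Mathlib
import Groth.Agent.Helper6.FPTopos2

set_option backward.isDefEq.respectTransparency false
set_option backward.isDefEq.respectTransparency.types false
set_option autoImplicit false

universe u

open CategoryTheory CategoryTheory.Limits Opposite
open Groth.Agent.Helper2.TF1

namespace Groth.Agent.Helper6.FPTopos

attribute [local instance] Cardinal.fact_isRegular_aleph0

variable {C : Type u} [SmallCategory C] {J : GrothendieckTopology C}

section Diagram

variable {X₀ R : Sheaf J (Type u)} (p₁ p₂ : R ⟶ X₀) {B : Type u} (H : B → Sheaf J (Type u))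
  (h : ∀ β, H β ⟶ R)

noncomputable abbrev aF (s : Finset B) : (∐ fun β : s => H β) ⟶ X₀ :=
  Sigma.desc (fun β : s => h β ≫ p₁)

noncomputable abbrev bF (s : Finset B) : (∐ fun β : s => H β) ⟶ X₀ :=
  Sigma.desc (fun β : s => h β ≫ p₂)

lemma ab_cond {s t : Finset B} (hst : s ≤ t) :
    aF p₁ H h s ≫ coequalizer.π (aF p₁ H h t) (bF p₂ H h t) =
      bF p₂ H h s ≫ coequalizer.π (aF p₁ H h t) (bF p₂ H h t) := by
  apply Sigma.hom_ext
  intro β
  rw [Sigma.ι_desc_assoc, Sigma.ι_desc_assoc]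
  have e1 : h β ≫ p₁ = Sigma.ι (fun γ : t => H γ) ⟨β.1, hst β.2⟩ ≫ aF p₁ H h t := by
    rw [Sigma.ι_desc]
  have e2 : h β ≫ p₂ = Sigma.ι (fun γ : t => H γ) ⟨β.1, hst β.2⟩ ≫ bF p₂ H h t := by
    rw [Sigma.ι_desc]
  rw [e1, e2, Category.assoc, Category.assoc, coequalizer.condition]

/-- the filtered diagram of finite partial quotients -/
noncomputable def Dq : Finset B ⥤ Sheaf J (Type u) where
  obj s := coequalizer (aF p₁ H h s) (bF p₂ H h s)
  map {s t} e := coequalizer.desc (coequalizer.π _ _) (ab_cond p₁ p₂ H h (leOfHom e))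
  map_id s := by apply coequalizer.hom_ext; simp
  map_comp f g := by apply coequalizer.hom_ext; simp

lemma π_map {s t : Finset B} (e : s ⟶ t) :
    coequalizer.π (aF p₁ H h s) (bF p₂ H h s) ≫ (Dq p₁ p₂ H h).map e =
      coequalizer.π (aF p₁ H h t) (bF p₂ H h t) :=
  coequalizer.π_desc _ _

end Diagram

theorem retract_of_isFP (hE : ToposFin.HasCoherentGenerators J) (X : Sheaf J (Type u))
    (hX : ToposFin.IsFP X) :
    ∃ (X₀ X₁ : Sheaf J (Type u)) (a b : X₁ ⟶ X₀) (i : X ⟶ coequalizer a b)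
      (p : coequalizer a b ⟶ X), ToposFin.IsCoherent X₀ ∧ ToposFin.IsCoherent X₁ ∧
        i ≫ p = 𝟙 X := by
  classical
  have hqc : ToposFin.IsQC X := FiltQC.isQC_of_injective X (fun I _ _ D => (hX I D).1)
  obtain ⟨ι, F, π, hF, hπ⟩ := hE X
  obtain ⟨s, hs⟩ := (isQC_iff X).1 hqc ι F π ((epi_sigma_iff_ljs π).1 hπ)
  obtain ⟨X₀, q, hX₀, hq⟩ : ∃ (X₀ : Sheaf J (Type u)) (q : X₀ ⟶ X),
      ToposFin.IsCoherent X₀ ∧ Epi q :=
    ⟨∐ (fun i : s => F i), Sigma.desc (fun i : s => π i),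
      isCoherent_sigma _ (fun i => hF i), (epi_sigma_iff_ljs _).2 hs⟩
  obtain ⟨R, p₁, p₂, hpb⟩ : ∃ (R : Sheaf J (Type u)) (p₁ p₂ : R ⟶ X₀), IsPullback p₁ p₂ q q :=
    ⟨pullback q q, pullback.fst q q, pullback.snd q q, IsPullback.of_hasPullback q q⟩
  obtain ⟨B, H, h, hH, hh⟩ := hE R
  have hje : JE H h := (epi_sigma_iff_je h).1 hh
  let D := Dq p₁ p₂ H h
  -- maps to X
  have hθc : ∀ t : Finset B, aF p₁ H h t ≫ q = bF p₂ H h t ≫ q := by
    intro t
    apply Sigma.hom_ext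
    intro β
    rw [Sigma.ι_desc_assoc, Sigma.ι_desc_assoc, Category.assoc, Category.assoc, hpb.w]
  let θc : Cocone D :=
    { pt := X
      ι :=
        { app := fun t => coequalizer.desc q (hθc t)
          naturality := by
            intro t t' e
            apply coequalizer.hom_ext
            simp only [Functor.const_obj_obj, Functor.const_obj_map, Category.comp_id]
            rw [← Category.assoc, π_map p₁ p₂ H h e, coequalizer.π_desc, coequalizer.π_desc] } }
  let θ : colimit D ⟶ X := colimit.desc D θc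
  -- the map ρ
  obtain ⟨ρ, hρ⟩ : ∃ ρ : X₀ ⟶ colimit D, ∀ t : Finset B,
      ρ = coequalizer.π (aF p₁ H h t) (bF p₂ H h t) ≫ colimit.ι D t := by
    refine ⟨coequalizer.π (aF p₁ H h ∅) (bF p₂ H h ∅) ≫ colimit.ι D ∅, fun t => ?_⟩
    have e : (∅ : Finset B) ⟶ t := homOfLE (Finset.empty_subset _)
    rw [← colimit.w D e, ← Category.assoc]
    congr 1
    exact π_map p₁ p₂ H h e
  have hρc : p₁ ≫ ρ = p₂ ≫ ρ := by
    apply hje
    intro β
    rw [hρ {β}]
    have e1 : h β ≫ p₁ = Sigma.ι (fun γ : ({β} : Finset B) => H γ)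
        ⟨β, Finset.mem_singleton_self β⟩ ≫ aF p₁ H h {β} := by
      rw [Sigma.ι_desc]
    have e2 : h β ≫ p₂ = Sigma.ι (fun γ : ({β} : Finset B) => H γ)
        ⟨β, Finset.mem_singleton_self β⟩ ≫ bF p₂ H h {β} := by
      rw [Sigma.ι_desc]
    have e3 : h β ≫ p₁ ≫ coequalizer.π (aF p₁ H h {β}) (bF p₂ H h {β}) =
        h β ≫ p₂ ≫ coequalizer.π (aF p₁ H h {β}) (bF p₂ H h {β}) := by
      rw [← Category.assoc, ← Category.assoc, e1, e2, Category.assoc, Category.assoc,
        coequalizer.condition]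
    calc h β ≫ p₁ ≫ coequalizer.π (aF p₁ H h {β}) (bF p₂ H h {β}) ≫ colimit.ι D {β}
        = (h β ≫ p₁ ≫ coequalizer.π (aF p₁ H h {β}) (bF p₂ H h {β})) ≫ colimit.ι D {β} := by
          simp only [Category.assoc]
      _ = (h β ≫ p₂ ≫ coequalizer.π (aF p₁ H h {β}) (bF p₂ H h {β})) ≫ colimit.ι D {β} := by
          rw [e3]
      _ = _ := by simp only [Category.assoc]
  -- σ
  have hqljs : LJS (fun _ : PUnit.{1} => X₀) (fun _ => q) := (epi_iff_ljs q).1 hq
  obtain ⟨σ, hσ⟩ := FiltCoh.glue (fun _ : PUnit.{1} => X₀) (fun _ => q) hqljs (fun _ => ρ)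
    (fun _ _ => by
      have e1 : pullback.fst q q = hpb.isoPullback.inv ≫ p₁ := by simp
      have e2 : pullback.snd q q = hpb.isoPullback.inv ≫ p₂ := by simp
      rw [e1, e2, Category.assoc, Category.assoc, hρc])
  have hσq : q ≫ σ = ρ := hσ PUnit.unit
  have hσθ : σ ≫ θ = 𝟙 X := by
    haveI := hq
    rw [← cancel_epi q, ← Category.assoc, hσq, hρ ∅, Category.assoc]
    have : colimit.ι D ∅ ≫ θ = θc.ι.app ∅ := colimit.ι_desc _ _
    rw [this, Category.comp_id]
    exact coequalizer.π_desc _ _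
  -- finite presentation
  obtain ⟨a, ha⟩ := (hX (Finset B) D).2 σ
  obtain ⟨t, σt, rfl⟩ := Types.jointly_surjective' a
  rw [FiltQC.post_ι] at ha
  refine ⟨X₀, ∐ (fun β : t => H β), aF p₁ H h t, bF p₂ H h t, σt, θc.ι.app t, hX₀,
    isCoherent_sigma _ (fun β => hH β), ?_⟩
  have : θc.ι.app t = colimit.ι D t ≫ θ := (colimit.ι_desc _ _).symm
  rw [this, ← Category.assoc]
  have ha' : σt ≫ colimit.ι D t = σ := ha
  rw [ha', hσθ]

theorem isFP_of_retract (hE : ToposFin.HasCoherentGenerators J) (X : Sheaf J (Type u))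
    (X₀ X₁ : Sheaf J (Type u)) (a b : X₁ ⟶ X₀) (i : X ⟶ coequalizer a b)
    (p : coequalizer a b ⟶ X) (h₀ : ToposFin.IsCoherent X₀) (h₁ : ToposFin.IsCoherent X₁)
    (hip : i ≫ p = 𝟙 X) : ToposFin.IsFP X := by
  have hQC := hasQCGenerators_of_coh hE
  have hfpcoh : ∀ X : Sheaf J (Type u), ToposFin.IsCoherent X → ToposFin.IsFP X :=
    fun X hX I _ _ D => FiltCoh.bijective_of_coherent D hQC X hX
  rw [isFP_iff]
  haveI := isClosedUnderColimitsOfShape_isCardinalPresentable (Sheaf J (Type u))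
    (κ := Cardinal.aleph0.{u}) (J := WalkingParallelPair)
    (by rw [hasCardinalLT_aleph0_iff]; infer_instance)
  have hc : isCardinalPresentable (Sheaf J (Type u)) Cardinal.aleph0.{u} (coequalizer a b) :=
    ObjectProperty.prop_colimit (isCardinalPresentable (Sheaf J (Type u))
      Cardinal.aleph0.{u}) (parallelPair a b) (by
        rintro (_ | _)
        · exact (isFP_iff _).1 (hfpcoh _ h₁)
        · exact (isFP_iff _).1 (hfpcoh _ h₀))
  haveI : IsCardinalPresentable (coequalizer a b) Cardinal.aleph0.{u} := hc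
  exact Retract.isCardinalPresentable ⟨i, p, hip⟩ Cardinal.aleph0.{u}

end Groth.Agent.Helper6.FPTopos
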