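import Mathlib
import Groth.Prelude.Def_Coh
import Groth.Agent.S0002
import Groth.Agent.Helper1.Dev4

/-!
# Cohomology of the cokernel of Frobenius on a Frobenius split proper scheme over a perfect field
-/

set_option autoImplicit false
set_option linter.style.haveILetI false
set_option linter.unusedSectionVars false
set_option linter.unusedVariables false
set_option linter.unusedSimpArgs false

universe u

open CategoryTheory CategoryTheory.Limits Opposite AlgebraicGeometry

namespace Groth.Agent.Helper6.FSplitCoh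

section Alg

variable {k : Type*} [Field k] (p : ℕ) [ExpChar k p] [PerfectRing k p]
variable {V : Type*} [AddCommGroup V] [Module k V] [Module.Finite k V]

/-- an injective `p`-linear endomorphism of a finite dimensional vector space over a perfect field is
surjective -/
theorem surjective_of_injective (ψ : V →+ V) (hψ : ∀ (c : k) (v : V), ψ (c • v) = c ^ p • ψ v)
    (hinj : Function.Injective ψ) : Function.Surjective ψ := by
  classical
  let b := Module.finBasis k V
  have key : ∀ g : Fin (Module.finrank k V) → k,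
      ∑ i, g i • ψ (b i) = ψ (∑ i, (frobeniusEquiv k p).symm (g i) • b i) := by
    intro g
    rw [map_sum]
    refine Finset.sum_congr rfl (fun i _ => ?_)
    rw [hψ, frobeniusEquiv_symm_pow_p]
  have hli : LinearIndependent k (fun i => ψ (b i)) := by
    rw [Fintype.linearIndependent_iff]
    intro g hg i
    rw [key g] at hg
    have h0 : ∑ i, (frobeniusEquiv k p).symm (g i) • b i = 0 :=
      hinj (hg.trans (map_zero ψ).symm)
    have h1 := Fintype.linearIndependent_iff.1 b.linearIndependent _ h0 i
    exact (RingEquiv.map_eq_zero_iff _).1 h1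
  have hspan : Submodule.span k (Set.range (fun i => ψ (b i))) = ⊤ :=
    hli.span_eq_top_of_card_eq_finrank' (by simp)
  intro v
  have hv : v ∈ Submodule.span k (Set.range (fun i => ψ (b i))) := by
    rw [hspan]; trivial
  obtain ⟨g, hg⟩ := (Submodule.mem_span_range_iff_exists_fun k).1 hv
  exact ⟨_, ((key g).symm.trans hg)⟩

end Alg

section Coh

variable (p : ℕ) (k : Type u) [Field k] [ExpChar k p] [PerfectRing k p]
  (X : Scheme.{u}) [X.Over (Spec (CommRingCat.of k))]

variable (φ : Coh.toAb (Coh.structureModule X) ⟶ Coh.toAb (Coh.structureModule X))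
  (hφ : ∀ (U : X.Opens) (t : Γ(X, U)), φ.hom.app (op U) t = t ^ p)

include hφ in
lemma smul_comp_frob (r : Γ(X, ⊤)) :
    Coh.smulAb (Coh.structureModule X) r ≫ φ =
      φ ≫ Coh.smulAb (Coh.structureModule X) (r ^ p) := by
  apply Sheaf.hom_ext
  apply NatTrans.ext
  funext U
  obtain ⟨U⟩ := U
  ext t
  have h1 : ∀ t' : Γ(X, U), φ.hom.app (op U)
      (((X.presheaf.map (homOfLE (le_top : U ≤ ⊤)).op).hom r * t' : Γ(X, U))) =
      ((X.presheaf.map (homOfLE (le_top : U ≤ ⊤)).op).hom (r ^ p) *
        @id Γ(X, U) (φ.hom.app (op U) t') : Γ(X, U)) := by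
    intro t'
    rw [hφ, hφ, mul_pow, map_pow]
    rfl
  exact h1 t

include hφ in
lemma H_frob_smul (i : ℕ) (c : k) (x : Coh.HH X (Coh.structureModule X) i) :
    Sheaf.H.map φ i (c • x) = c ^ p • Sheaf.H.map φ i x := by
  show Sheaf.H.map φ i (Sheaf.H.map (Coh.smulAb (Coh.structureModule X)
      (Coh.toGlobal (X ↘ Spec (CommRingCat.of k)) c)) i x) =
    Sheaf.H.map (Coh.smulAb (Coh.structureModule X)
      (Coh.toGlobal (X ↘ Spec (CommRingCat.of k)) (c ^ p))) i (Sheaf.H.map φ i x)
  rw [← Sheaf.H.map_comp_apply, ← Sheaf.H.map_comp_apply, smul_comp_frob p X φ hφ, map_pow]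
  rfl

variable [IsProper (X ↘ Spec (CommRingCat.of k))]

include k hφ in
theorem main (s : Coh.toAb (Coh.structureModule X) ⟶ Coh.toAb (Coh.structureModule X))
    (hs : φ ≫ s = 𝟙 _) (i : ℕ) : Subsingleton (Sheaf.H (cokernel φ) i) := by
  haveI : Module.Finite k (Coh.HH X (Coh.structureModule X) i) :=
    Groth.Agent.S0002.result k X (Coh.structureModule X)
      (Groth.Agent.Helper1.Dev.isCoh_structureModule X) i
  have hinj : Function.Injective (Sheaf.H.map φ i) := by
    intro x y hxy
    have h := congrArg (Sheaf.H.map s i) hxy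
    rwa [← Sheaf.H.map_comp_apply, ← Sheaf.H.map_comp_apply, hs, Sheaf.H.map_id_apply,
      Sheaf.H.map_id_apply] at h
  have hsurj : Function.Surjective (Sheaf.H.map φ i) :=
    surjective_of_injective (k := k) p (Sheaf.H.map φ i) (H_frob_smul p k X φ hφ i) hinj
  let σ : cokernel φ ⟶ Coh.toAb (Coh.structureModule X) :=
    cokernel.desc φ (𝟙 _ - s ≫ φ) (by
      rw [Preadditive.comp_sub, Category.comp_id, ← Category.assoc, hs, Category.id_comp,
        sub_self])
  have hσ : σ ≫ cokernel.π φ = 𝟙 _ := by
    rw [← cancel_epi (cokernel.π φ), cokernel.π_desc_assoc, Preadditive.sub_comp,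
      Category.id_comp, Category.assoc, cokernel.condition, comp_zero, sub_zero,
      Category.comp_id]
  refine subsingleton_of_forall_eq 0 (fun y => ?_)
  have h1 : y = Sheaf.H.map (cokernel.π φ) i (Sheaf.H.map σ i y) := by
    rw [← Sheaf.H.map_comp_apply, hσ, Sheaf.H.map_id_apply]
  obtain ⟨x', hx'⟩ := hsurj (Sheaf.H.map σ i y)
  rw [h1, ← hx', ← Sheaf.H.map_comp_apply, cokernel.condition]
  show x'.comp (Abelian.Ext.mk₀ 0) (add_zero i) = 0
  rw [Abelian.Ext.mk₀_zero, Abelian.Ext.comp_zero]

end Coh

end Groth.Agent.Helper6.FSplitCoh
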