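import Mathlib
import Groth.Agent.Helper9.NoethObj2

/-!
# Faithful exact left adjoints into Grothendieck abelian categories

`F : A ⥤ B` faithful exact with right adjoint `G` commuting with filtered colimits, `B`
Grothendieck abelian with a small separating family `s`.  We show `A` is AB5, well-powered,
and that the subobjects `X ×_{GFX} G N ⊆ X` (`N` a finite sup of images of the `s i` in `F X`)
are jointly epimorphic and range over an essentially small family.
-/

set_option autoImplicit false

namespace Groth.Agent.Helper6.FaithAdj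

open CategoryTheory CategoryTheory.Limits

universe w u₁ u₂

section General

variable {A : Type u₁} [Category.{w} A] [Abelian A]
  {B : Type u₂} [Category.{w} B] [Abelian B]
  (F : A ⥤ B) [F.Additive] [F.Faithful] [PreservesFiniteLimits F] [PreservesFiniteColimits F]

theorem sub_le_of_map_le {a : A} (S S' : Subobject a)
    (h : Subobject.mk (F.map S.arrow) ≤ Subobject.mk (F.map S'.arrow)) : S ≤ S' := by
  have hz : S.arrow ≫ cokernel.π S'.arrow = 0 := by
    apply F.map_injective
    have e := Subobject.ofMkLEMk_comp h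
    calc F.map (S.arrow ≫ cokernel.π S'.arrow)
        = F.map S.arrow ≫ F.map (cokernel.π S'.arrow) := F.map_comp _ _
      _ = (Subobject.ofMkLEMk _ _ h ≫ F.map S'.arrow) ≫ F.map (cokernel.π S'.arrow) := by rw [e]
      _ = 0 := by rw [Category.assoc, ← F.map_comp, cokernel.condition, F.map_zero, comp_zero]
      _ = F.map 0 := (F.map_zero _ _).symm
  exact Subobject.le_of_comm (Abelian.monoLift S'.arrow S.arrow hz) (Abelian.monoLift_comp _ _ _)

theorem map_sub_le {a : A} (S S' : Subobject a) (h : S ≤ S') :
    Subobject.mk (F.map S.arrow) ≤ Subobject.mk (F.map S'.arrow) :=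
  Subobject.mk_le_mk_of_comm (F.map (Subobject.ofLE S S' h))
    (by rw [← F.map_comp, Subobject.ofLE_arrow])

theorem map_sub_strictMono (a : A) :
    StrictMono (fun S : Subobject a => Subobject.mk (F.map S.arrow)) := by
  intro S S' hSS'
  rw [lt_iff_le_not_ge] at hSS' ⊢
  exact ⟨map_sub_le F S S' hSS'.1, fun h => hSS'.2 (sub_le_of_map_le F S' S h)⟩

theorem map_sub_injective (a : A) :
    Function.Injective (fun S : Subobject a => Subobject.mk (F.map S.arrow)) := by
  intro S S' h
  exact le_antisymm (sub_le_of_map_le F S S' (le_of_eq h)) (sub_le_of_map_le F S' S (le_of_eq h.symm))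

theorem noeth_of_map (a : A) (h : IsNoetherianObject (F.obj a)) : IsNoetherianObject a := by
  rw [Groth.Agent.Helper9.NoethObj.noeth_iff] at h ⊢
  exact (map_sub_strictMono F a).wellFoundedGT

include F in
theorem wellPowered_of_faithful [WellPowered.{w} B] : WellPowered.{w} A :=
  ⟨fun a => small_of_injective (map_sub_injective F a)⟩

variable (G : B ⥤ A) (adj : F ⊣ G)

include adj in
theorem ab5 [HasColimitsOfSize.{w, w} A] [HasColimitsOfSize.{w, w} B] [AB5OfSize.{w, w} B] :
    AB5OfSize.{w, w} A := by
  haveI : F.ReflectsIsomorphisms :=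
    reflectsIsomorphisms_of_reflectsMonomorphisms_of_reflectsEpimorphisms F
  haveI : ReflectsFiniteLimits F := ⟨fun J _ _ => reflectsLimitsOfShape_of_reflectsIsomorphisms⟩
  haveI : PreservesColimitsOfSize.{w, w} F := adj.leftAdjoint_preservesColimits
  exact ⟨fun J _ _ => HasExactColimitsOfShape.domain_of_functor J F⟩

theorem exists_sub_coker {U N : B} (p : U ⟶ N) [Epi p] :
    ∃ K : Subobject U, Nonempty (cokernel K.arrow ≅ N) := by
  refine ⟨Subobject.mk (kernel.ι p), ⟨?_⟩⟩
  have h : (Subobject.mk (kernel.ι p)).arrow =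
      (Subobject.underlyingIso (kernel.ι p)).hom ≫ kernel.ι p :=
    (Subobject.underlyingIso_hom_comp_eq_mk _).symm
  exact cokernelIsoOfEq h ≪≫ cokernelEpiComp _ _ ≪≫
    (colimit.isColimit (parallelPair (kernel.ι p) 0)).coconePointUniqueUpToIso
      (Abelian.epiIsCokernelOfKernel (limit.cone (parallelPair p 0)) (limit.isLimit _))

theorem groth_of_sep [HasColimitsOfSize.{w, w} B] [AB5OfSize.{w, w} B] {ι : Type w} (s : ι → B)
    (hsep : ∀ ⦃X Y : B⦄ (f g : X ⟶ Y), (∀ (i : ι) (h : s i ⟶ X), h ≫ f = h ≫ g) → f = g) :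
    IsGrothendieckAbelian.{w} B :=
  { hasSeparator := ⟨⟨∐ s, (isSeparator_sigma s).2 (fun _ _ f g h =>
      hsep f g (fun i u => h (s i) (ObjectProperty.ofObj_apply s i) u))⟩⟩ }

theorem pullback_jointly_epi [HasColimitsOfSize.{w, w} A] {J : Type w} [SmallCategory J]
    [IsFiltered J] [HasExactColimitsOfShape J A] {K : J ⥤ A} {c : Cocone K} (hc : IsColimit c)
    {X Y : A} (f : X ⟶ c.pt) (u v : X ⟶ Y)
    (h : ∀ j, pullback.snd (c.ι.app j) f ≫ u = pullback.snd (c.ι.app j) f ≫ v) : u = v := by
  haveI := IsFiltered.isConnected J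
  refine (hc.pullbackOfHasExactColimitsOfShape f).hom_ext (fun j => ?_)
  rw [← cancel_epi (pullbackObjIso _ _ _).inv]
  simpa using h j

end General

end Groth.Agent.Helper6.FaithAdj
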