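import Mathlib
import Groth.Agent.Helper6.FaithAdj

set_option autoImplicit false

namespace Groth.Agent.Helper6.FaithAdj

open CategoryTheory CategoryTheory.Limits

universe w u₁ u₂

section BSide

variable {B : Type u₂} [Category.{w} B] [Abelian B] {ι : Type w} (s : ι → B)

abbrev Idx (M : B) : Type w := Finset (Σ i : ι, (s i ⟶ M))

instance (M : B) : IsFiltered (Idx s M) := by
  classical
  exact isFiltered_of_semilatticeSup_nonempty _

noncomputable def Nsub (M : B) (T : Idx s M) : Subobject M :=
  T.sup (fun t => imageSubobject t.2)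

theorem Nsub_mono (M : B) : Monotone (Nsub s M) := fun _ _ h => Finset.sup_mono h

theorem factors_image {X Y : B} (g : X ⟶ Y) : (imageSubobject g).Factors g := by
  have := Subobject.factors_comp_arrow (P := imageSubobject g) (factorThruImageSubobject g)
  rwa [imageSubobject_arrow_comp] at this

theorem Nsub_factors (M : B) (T : Idx s M) (t : Σ i : ι, (s i ⟶ M)) (ht : t ∈ T) :
    (Nsub s M T).Factors t.2 :=
  Subobject.factors_of_le _
    (Finset.le_sup (f := fun t : Σ i : ι, (s i ⟶ M) => imageSubobject t.2) ht) (factors_image _)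

theorem noeth_Nsub (hsN : ∀ i, IsNoetherianObject (s i)) (M : B) (T : Idx s M) :
    IsNoetherianObject ((Nsub s M T : Subobject M) : B) :=
  Groth.Agent.Helper9.NoethObj.qe_noeth.finset_sup T (fun t => s t.1) (fun t => t.2)
    (fun t => hsN t.1)

/-- `Nsub T` is a quotient of the finite coproduct of the `s t.1`, `t ∈ T`. -/
theorem exists_epi_Nsub (M : B) (T : Idx s M) :
    ∃ (n : ℕ) (i : Fin n → ι) (p : (∐ fun k => s (i k)) ⟶ ((Nsub s M T : Subobject M) : B)),
      Epi p := by
  classical
  let N := Nsub s M T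
  have hfac : ∀ t : ↥T, N.Factors t.1.2 := fun t => Nsub_factors s M T t.1 t.2
  let h : (∐ fun t : ↥T => s t.1.1) ⟶ (N : B) :=
    Sigma.desc (fun t => N.factorThru t.1.2 (hfac t))
  let σ : (∐ fun t : ↥T => s t.1.1) ⟶ M := Sigma.desc (fun t => t.1.2)
  have hσ : h ≫ N.arrow = σ := by
    apply Sigma.hom_ext
    intro t
    simp [h, σ]
  have h2 : imageSubobject σ ≤ N := imageSubobject_le σ h hσ
  have h1 : N ≤ imageSubobject σ := by
    apply Finset.sup_le
    intro t ht
    exact imageSubobject_le t.2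
      (Sigma.ι (fun t : ↥T => s t.1.1) ⟨t, ht⟩ ≫ factorThruImageSubobject σ) (by simp [σ])
  have hh : h = factorThruImageSubobject σ ≫ Subobject.ofLE _ _ h2 := by
    rw [← cancel_mono N.arrow, hσ, Category.assoc, Subobject.ofLE_arrow,
      imageSubobject_arrow_comp]
  haveI : IsIso (Subobject.ofLE _ _ h2) := ⟨⟨Subobject.ofLE _ _ h1, by simp, by simp⟩⟩
  haveI : Epi h := by rw [hh]; infer_instance
  let e : Fin T.card ≃ ↥T := T.equivFin.symm
  exact ⟨T.card, fun k => (e k).1.1, (Sigma.reindex e (fun t : ↥T => s t.1.1)).hom ≫ h,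
    epi_comp _ _⟩

variable [IsGrothendieckAbelian.{w} B]
  (hsep : ∀ ⦃X Y : B⦄ (f g : X ⟶ Y), (∀ (i : ι) (h : s i ⟶ X), h ≫ f = h ≫ g) → f = g)

include hsep in
theorem iSup_Nsub (M : B) : (⨆ T : Idx s M, Nsub s M T) = ⊤ := by
  have hfac : ∀ (i : ι) (h : s i ⟶ M), (⨆ T : Idx s M, Nsub s M T).Factors h := by
    intro i h
    have h1 : Nsub s M {⟨i, h⟩} ≤ ⨆ T : Idx s M, Nsub s M T :=
      le_iSup (fun T : Idx s M => Nsub s M T) _
    exact Subobject.factors_of_le _ h1
      (Nsub_factors s M _ ⟨i, h⟩ (Finset.mem_singleton_self _))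
  haveI : Epi (⨆ T : Idx s M, Nsub s M T).arrow := by
    apply Preadditive.epi_of_cancel_zero
    intro Z g hg
    apply hsep
    intro i h
    rw [comp_zero, ← Subobject.factorThru_arrow _ h (hfac i h), Category.assoc, hg, comp_zero]
  haveI : IsIso (⨆ T : Idx s M, Nsub s M T).arrow := isIso_of_mono_of_epi _
  exact Subobject.eq_top_of_isIso_arrow _

noncomputable def D (M : B) : Idx s M ⥤ MonoOver M :=
  (Nsub_mono s M).functor ⋙ Subobject.representative

noncomputable def c0 (M : B) : Cocone (D s M ⋙ MonoOver.forget M) where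
  pt := Over.mk (𝟙 M)
  ι :=
    { app := fun T => Over.homMk ((D s M).obj T).arrow (by simp)
      naturality := fun T T' f => by
        ext
        simp }

include hsep in
noncomputable def isColimitB (M : B) : IsColimit ((Over.forget M).mapCocone (c0 s M)) := by
  haveI : Mono (c0 s M).pt.hom := by dsimp [c0]; infer_instance
  apply IsGrothendieckAbelian.isColimitMapCoconeOfSubobjectMkEqISup (D s M) (c0 s M)
  have h1 : Subobject.mk (c0 s M).pt.hom = ⊤ := (Subobject.top_eq_id M).symm
  have h2 : ∀ T, Subobject.mk ((D s M).obj T).obj.hom = Nsub s M T :=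
    fun T => Subobject.mk_arrow _
  exact h1.trans ((iSup_Nsub s hsep M).symm.trans (iSup_congr fun T => (h2 T).symm))

end BSide

end Groth.Agent.Helper6.FaithAdj
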