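import Mathlib
import Groth.Agent.Helper6.FaithAdjB

set_option autoImplicit false

namespace Groth.Agent.Helper6.FaithAdj

open CategoryTheory CategoryTheory.Limits

universe w u₁ u₂

section ASide

variable {A : Type u₁} [Category.{w} A] [Abelian A] [HasColimitsOfSize.{w, w} A]
  {B : Type u₂} [Category.{w} B] [Abelian B] [IsGrothendieckAbelian.{w} B]
  {ι : Type w} (s : ι → B)
  (hsep : ∀ ⦃X Y : B⦄ (f g : X ⟶ Y), (∀ (i : ι) (h : s i ⟶ X), h ≫ f = h ≫ g) → f = g)
  (F : A ⥤ B) (G : B ⥤ A) (adj : F ⊣ G) [F.Additive] [F.Faithful]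
  [PreservesFiniteLimits F] [PreservesFiniteColimits F]
  [PreservesFilteredColimitsOfSize.{w, w} G]

/-- the subobject `X ×_{GFX} G N_T` of `X` -/
noncomputable abbrev Q (X : A) (T : Idx s (F.obj X)) : A :=
  pullback (G.map (Nsub s (F.obj X) T).arrow) (adj.unit.app X)

noncomputable abbrev q (X : A) (T : Idx s (F.obj X)) : Q s F G adj X T ⟶ X :=
  pullback.snd (G.map (Nsub s (F.obj X) T).arrow) (adj.unit.app X)

noncomputable abbrev r (X : A) (T : Idx s (F.obj X)) :
    Q s F G adj X T ⟶ G.obj ((Nsub s (F.obj X) T : Subobject (F.obj X)) : B) :=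
  pullback.fst (G.map (Nsub s (F.obj X) T).arrow) (adj.unit.app X)

include hsep in
theorem sepA {X Y : A} (u v : X ⟶ Y)
    (h : ∀ T : Idx s (F.obj X), q s F G adj X T ≫ u = q s F G adj X T ≫ v) : u = v := by
  haveI := ab5 F G adj
  have hG := isColimitOfPreserves G (isColimitB s hsep (F.obj X))
  exact pullback_jointly_epi hG (adj.unit.app X) u v h

instance mono_q (X : A) (T : Idx s (F.obj X)) : Mono (q s F G adj X T) := by
  haveI : G.PreservesMonomorphisms := Functor.preservesMonomorphisms_of_adjunction adj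
  infer_instance

instance mono_r (X : A) (T : Idx s (F.obj X)) : Mono (r s F G adj X T) := by
  infer_instance

/-- the comparison `F (X ×_{GFX} G N_T) ⟶ N_T` -/
noncomputable abbrev m (X : A) (T : Idx s (F.obj X)) :
    F.obj (Q s F G adj X T) ⟶ ((Nsub s (F.obj X) T : Subobject (F.obj X)) : B) :=
  F.map (r s F G adj X T) ≫ adj.counit.app _

theorem m_arrow (X : A) (T : Idx s (F.obj X)) :
    m s F G adj X T ≫ (Nsub s (F.obj X) T).arrow = F.map (q s F G adj X T) := by
  have h1 := adj.counit_naturality (Nsub s (F.obj X) T).arrow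
  have h2 : r s F G adj X T ≫ G.map (Nsub s (F.obj X) T).arrow =
      q s F G adj X T ≫ adj.unit.app X := pullback.condition
  calc m s F G adj X T ≫ (Nsub s (F.obj X) T).arrow
      = F.map (r s F G adj X T) ≫ adj.counit.app _ ≫ (Nsub s (F.obj X) T).arrow :=
        Category.assoc _ _ _
    _ = F.map (r s F G adj X T) ≫ F.map (G.map (Nsub s (F.obj X) T).arrow) ≫
          adj.counit.app _ := by rw [h1]
    _ = F.map (r s F G adj X T ≫ G.map (Nsub s (F.obj X) T).arrow) ≫ adj.counit.app _ := by
        rw [F.map_comp, Category.assoc]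
    _ = F.map (q s F G adj X T ≫ adj.unit.app X) ≫ adj.counit.app _ := by rw [h2]
    _ = F.map (q s F G adj X T) := by
        rw [F.map_comp, Category.assoc, adj.left_triangle_components, Category.comp_id]

instance mono_m (X : A) (T : Idx s (F.obj X)) : Mono (m s F G adj X T) :=
  mono_of_mono_fac (m_arrow s F G adj X T)

theorem noeth_Q (hsN : ∀ i, IsNoetherianObject (s i)) (X : A) (T : Idx s (F.obj X)) :
    IsNoetherianObject (Q s F G adj X T) := by
  haveI := noeth_Nsub s hsN (F.obj X) T
  exact noeth_of_map F _ (isNoetherianObject_of_mono (m s F G adj X T))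

theorem q_mono_T (X : A) {T T' : Idx s (F.obj X)} (hTT' : T ≤ T') :
    Subobject.mk (q s F G adj X T) ≤ Subobject.mk (q s F G adj X T') := by
  have hle := Nsub_mono s (F.obj X) hTT'
  exact Subobject.mk_le_mk_of_comm
    (pullback.lift (r s F G adj X T ≫ G.map (Subobject.ofLE _ _ hle)) (q s F G adj X T)
      (by rw [Category.assoc, ← G.map_comp, Subobject.ofLE_arrow, pullback.condition]))
    (pullback.lift_snd _ _ _)

include hsep adj in
/-- A noetherian object of `A` has noetherian image in `B`. -/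
theorem noeth_map (hsN : ∀ i, IsNoetherianObject (s i)) (a : A) (ha : IsNoetherianObject a) :
    IsNoetherianObject (F.obj a) := by
  haveI := ha
  classical
  let Sq : Idx s (F.obj a) → Subobject a := fun T => Subobject.mk (q s F G adj a T)
  have hmono : Monotone Sq := fun T T' h => q_mono_T s F G adj a h
  obtain ⟨m₀, ⟨T₀, rfl⟩, hmax⟩ := WellFounded.has_min
    (wellFounded_gt : WellFounded ((· > ·) : Subobject a → Subobject a → Prop))
    (Set.range Sq) ⟨_, ⟨∅, rfl⟩⟩
  have hle : ∀ T, Sq T ≤ Sq T₀ := by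
    intro T
    have h1 : Sq T₀ ≤ Sq (T ∪ T₀) := hmono Finset.subset_union_right
    have h2 : Sq (T ∪ T₀) = Sq T₀ := by
      by_contra hne
      exact hmax _ ⟨_, rfl⟩ (lt_of_le_of_ne h1 (Ne.symm hne))
    exact (hmono Finset.subset_union_left).trans h2.le
  haveI : Epi (q s F G adj a T₀) := by
    constructor
    intro Y u v huv
    apply sepA s hsep F G adj u v
    intro T
    have e := Subobject.ofMkLEMk_comp (hle T)
    rw [← e, Category.assoc, Category.assoc, huv]
  haveI : IsIso (q s F G adj a T₀) := isIso_of_mono_of_epi _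
  haveI := noeth_Nsub s hsN (F.obj a) T₀
  exact isNoetherianObject_of_mono (F.map (inv (q s F G adj a T₀)) ≫ m s F G adj a T₀)

end ASide

end Groth.Agent.Helper6.FaithAdj
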