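import Mathlib
import Groth.Agent.Helper6.FaithAdjC

set_option autoImplicit false

namespace Groth.Agent.Helper6.FaithAdj

open CategoryTheory CategoryTheory.Limits

universe w u₁ u₂

section Small

variable {A : Type u₁} [Category.{w} A] [Abelian A] [HasColimitsOfSize.{w, w} A]
  [WellPowered.{w} A]
  {B : Type u₂} [Category.{w} B] [Abelian B] [IsGrothendieckAbelian.{w} B]
  {ι : Type w} (s : ι → B)
  (hsep : ∀ ⦃X Y : B⦄ (f g : X ⟶ Y), (∀ (i : ι) (h : s i ⟶ X), h ≫ f = h ≫ g) → f = g)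
  (F : A ⥤ B) (G : B ⥤ A) (adj : F ⊣ G) [F.Additive] [F.Faithful]
  [PreservesFiniteLimits F] [PreservesFiniteColimits F]
  [PreservesFilteredColimitsOfSize.{w, w} G]

/-- index set for quotients of finite coproducts of the `s i` -/
abbrev K1 : Type w :=
  Σ (n : ℕ) (i : Fin n → ι), Shrink.{w} (Subobject (∐ fun k => s (i k)))

noncomputable def rep1 (k : K1 s) : B :=
  cokernel ((equivShrink.{w} (Subobject (∐ fun j => s (k.2.1 j)))).symm k.2.2).arrow

/-- index set for subobjects of `G` of such quotients -/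
abbrev K0 : Type w := Σ k : K1 s, Shrink.{w} (Subobject (G.obj (rep1 s k)))

noncomputable def t0 (k : K0 s G) : A :=
  (((equivShrink.{w} (Subobject (G.obj (rep1 s k.1)))).symm k.2 : Subobject (G.obj (rep1 s k.1))) : A)

theorem exists_rep1 (M : B) (T : Idx s M) :
    ∃ k : K1 s, Nonempty (rep1 s k ≅ ((Nsub s M T : Subobject M) : B)) := by
  obtain ⟨n, i, p, hp⟩ := exists_epi_Nsub s M T
  obtain ⟨K, ⟨φ⟩⟩ := exists_sub_coker p
  refine ⟨⟨n, i, equivShrink.{w} _ K⟩, ?_⟩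
  show Nonempty (cokernel ((equivShrink.{w} (Subobject (∐ fun j => s (i j)))).symm
    (equivShrink.{w} _ K)).arrow ≅ _)
  rw [Equiv.symm_apply_apply]
  exact ⟨φ⟩

theorem exists_t0 {N : B} (k₁ : K1 s) (e : rep1 s k₁ ≅ N) {P : A} (ρ₀ : P ⟶ G.obj N) [Mono ρ₀] :
    ∃ k : K0 s G, Nonempty (t0 s G k ≅ P) := by
  let ρ : P ⟶ G.obj (rep1 s k₁) := ρ₀ ≫ G.map e.inv
  haveI : Mono ρ := mono_comp _ _
  refine ⟨⟨k₁, equivShrink _ (Subobject.mk ρ)⟩, ?_⟩
  show Nonempty ((((equivShrink.{w} (Subobject (G.obj (rep1 s k₁)))).symm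
    (equivShrink.{w} _ (Subobject.mk ρ)) : Subobject (G.obj (rep1 s k₁))) : A) ≅ P)
  rw [Equiv.symm_apply_apply]
  exact ⟨Subobject.underlyingIso ρ⟩

theorem exists_t0_Q (X : A) (T : Idx s (F.obj X)) :
    ∃ k : K0 s G, Nonempty (t0 s G k ≅ Q s F G adj X T) := by
  obtain ⟨k₁, ⟨e⟩⟩ := exists_rep1 s (F.obj X) T
  exact exists_t0 s G k₁ e (r s F G adj X T)

include hsep adj in
theorem isSeparating_t0 :
    ObjectProperty.IsSeparating (ObjectProperty.ofObj (t0 s G)) := by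
  intro X Y u v h
  apply sepA s hsep F G adj u v
  intro T
  obtain ⟨k, ⟨e⟩⟩ := exists_t0_Q s F G adj X T
  have h1 := h (t0 s G k) (ObjectProperty.ofObj_apply _ k) (e.hom ≫ q s F G adj X T)
  rw [Category.assoc, Category.assoc] at h1
  exact (cancel_epi e.hom).1 h1

include hsep adj in
theorem isSeparating_t0_noeth (hsN : ∀ i, IsNoetherianObject (s i)) ⦃X Y : A⦄ (u v : X ⟶ Y)
    (h : ∀ (k : {k : K0 s G // IsNoetherianObject (t0 s G k)}) (f : t0 s G k.1 ⟶ X),
      f ≫ u = f ≫ v) : u = v := by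
  apply sepA s hsep F G adj u v
  intro T
  obtain ⟨k, ⟨e⟩⟩ := exists_t0_Q s F G adj X T
  have hk : IsNoetherianObject (t0 s G k) := by
    haveI := noeth_Q s F G adj hsN X T
    exact isNoetherianObject_of_mono e.hom
  have h1 := h ⟨k, hk⟩ (e.hom ≫ q s F G adj X T)
  rw [Category.assoc, Category.assoc] at h1
  exact (cancel_epi e.hom).1 h1

end Small

end Groth.Agent.Helper6.FaithAdj
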