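import Mathlib
import Groth.Prelude.Def_FibSite

set_option autoImplicit false
universe v₃ u₃ v₂ u₂ v₁ u₁
open CategoryTheory CategoryTheory.Limits Opposite Pseudofunctor Pseudofunctor.CoGrothendieck Bicategory

namespace Groth.Agent.Helper6.FibSiteLib

variable {𝒮 : Type u₁} [Category.{v₁} 𝒮] (F : Pseudofunctor (LocallyDiscrete 𝒮ᵒᵖ) Cat.{v₂, u₂})

set_option backward.isDefEq.respectTransparency false in
set_option backward.defeqAttrib.useBackward true in
attribute [local simp] PrelaxFunctor.map₂_eqToHom in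
/-- Lemma D. -/
theorem ι_map_comp {Y X : ∫ᶜ F} {W : F.obj ⟨op Y.base⟩} (g : W ⟶ Y.fiber) (h : Y ⟶ X) :
    (ι F Y.base).map g ≫ h = (⟨h.base, g ≫ h.fiber⟩ : (⟨Y.base, W⟩ : ∫ᶜ F) ⟶ X) := by
  refine Hom.ext _ _ (by simp) ?_
  simp [F.mapComp_id_right_inv_app, Strict.rightUnitor_eqToIso, ← NatTrans.naturality_assoc,
        ← Cat.Hom₂.comp_app]

set_option backward.isDefEq.respectTransparency false in
set_option backward.defeqAttrib.useBackward true in
attribute [local simp] PrelaxFunctor.map₂_eqToHom in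
/-- Lemma C. -/
theorem comp_ι_map {Z : ∫ᶜ F} {B : 𝒮} {V U : F.obj ⟨op B⟩} (r : V ⟶ U) (b : Z.base ⟶ B)
    (c : Z.fiber ⟶ (F.map b.op.toLoc).toFunctor.obj V) :
    (⟨b, c⟩ : Z ⟶ (⟨B, V⟩ : ∫ᶜ F)) ≫ (ι F B).map r =
      (⟨b, c ≫ (F.map b.op.toLoc).toFunctor.map r⟩ : Z ⟶ (⟨B, U⟩ : ∫ᶜ F)) := by
  refine Hom.ext _ _ (by simp) ?_
  simp [F.mapComp_id_left_inv_app, Strict.leftUnitor_eqToIso]
  have e : (F.map b.op.toLoc).toFunctor.map ((F.mapId ⟨op B⟩).inv.toNatTrans.app U) ≫
      (F.map b.op.toLoc).toFunctor.map ((F.mapId ⟨op B⟩).hom.toNatTrans.app U) = 𝟙 _ := by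
    rw [← Functor.map_comp, ← Cat.Hom₂.comp_app]
    simp
  rw [reassoc_of% e]

variable (J : FibSite.Topologies F)

/-- The topology on `∫ᶜ F` whose covering sieves are those containing the image of a covering sieve of a
fibre. -/
def fibTop (hF : FibSite.IsPreFibSite F J) : GrothendieckTopology (∫ᶜ F) where
  sieves X := {S | ∃ R ∈ J X.base X.fiber, Sieve.functorPushforward (ι F X.base) R ≤ S}
  top_mem' X := ⟨⊤, (J X.base).top_mem X.fiber, le_top⟩
  pullback_stable' := by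
    rintro X Y S h ⟨R, hR, hle⟩
    haveI := hF h.base
    have h1 : R.functorPushforward (FibSite.invImage F h.base) ∈
        J Y.base ((FibSite.invImage F h.base).obj X.fiber) :=
      (CoverPreserving.of_isContinuous (FibSite.invImage F h.base) (J X.base) (J Y.base)).cover_preserve hR
    refine ⟨(R.functorPushforward (FibSite.invImage F h.base)).pullback h.fiber,
      (J Y.base).pullback_stable h.fiber h1, ?_⟩
    rintro Z k ⟨W, g, a, hg, rfl⟩
    obtain ⟨V, r, c, hr, hc⟩ := hg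
    change S ((a ≫ (ι F Y.base).map g) ≫ h)
    let m : (⟨Y.base, W⟩ : ∫ᶜ F) ⟶ (⟨X.base, V⟩ : ∫ᶜ F) := ⟨h.base, c⟩
    have e0 : (ι F Y.base).map g ≫ h = m ≫ (ι F X.base).map r :=
      (ι_map_comp F g h).trans
        ((congrArg (fun t => (⟨h.base, t⟩ : (⟨Y.base, W⟩ : ∫ᶜ F) ⟶ X)) hc).trans
          (comp_ι_map F (Z := (⟨Y.base, W⟩ : ∫ᶜ F)) r h.base c).symm)
    have hS1 : S ((ι F X.base).map r) := hle _ ⟨V, r, 𝟙 _, hr, (Category.id_comp _).symm⟩
    have hS2 : S ((a ≫ m) ≫ (ι F X.base).map r) := S.downward_closed hS1 (a ≫ m)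
    have e : (a ≫ (ι F Y.base).map g) ≫ h = (a ≫ m) ≫ (ι F X.base).map r :=
      (Category.assoc a _ h).trans ((congrArg (fun t => a ≫ t) e0).trans (Category.assoc a m _).symm)
    rw [e]
    exact hS2
  transitive' := by
    rintro X S ⟨R, hR, hle⟩ S' hS'
    have key : ∀ ⦃V : F.obj ⟨op X.base⟩⦄ (r : V ⟶ X.fiber), R r →
        ∃ Rr ∈ J X.base V, Sieve.functorPushforward (ι F X.base) Rr ≤ S'.pullback ((ι F X.base).map r) := by
      intro V r hr
      exact hS' (hle _ ⟨V, r, 𝟙 _, hr, (Category.id_comp _).symm⟩)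
    choose Rr hRr hRr' using key
    refine ⟨Sieve.bind R Rr, (J X.base).bind_covering hR (fun V r hr => hRr r hr), ?_⟩
    rintro Z k ⟨W, g, a, hg, rfl⟩
    obtain ⟨V, g', r, hr, hg', rfl⟩ := hg
    rw [Functor.map_comp]
    apply S'.downward_closed
    exact hRr' r hr _ ⟨W, g', 𝟙 _, hg', (Category.id_comp _).symm⟩

theorem totalTopology_eq (hF : FibSite.IsPreFibSite F J) :
    FibSite.totalTopology F J = fibTop F J hF := by
  apply le_antisymm
  · apply FibSite.totalTopology_le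
    intro S U R hR
    exact ⟨R, hR, le_refl _⟩
  · rintro X S ⟨R, hR, hle⟩
    exact (FibSite.totalTopology F J).superset_covering hle
      (FibSite.functorPushforward_mem_totalTopology hR)

theorem mem_totalTopology_iff (hF : FibSite.IsPreFibSite F J) (X : ∫ᶜ F) (S : Sieve X) :
    S ∈ FibSite.totalTopology F J X ↔
      ∃ R ∈ J X.base X.fiber, Sieve.functorPushforward (ι F X.base) R ≤ S := by
  rw [totalTopology_eq F J hF]
  rfl

end Groth.Agent.Helper6.FibSiteLib
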