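import Mathlib
import Groth.Prelude.Def_FibSite
import Groth.Agent.Helper6.FibSiteLib

/-!
# Helper6: right Kan extensions along a fibre inclusion of a fibred category, computed on another fibre

For `b` a presheaf of sets on the fibre `F(p)`, the right Kan extension `E` of `b` along
`ι_p : F(p) ⥤ ∫ᶜ F` has `E(q, y) = ∏_{f : p ⟶ q} b(f^* y)`.
-/

set_option autoImplicit false
set_option backward.isDefEq.respectTransparency false
set_option backward.defeqAttrib.useBackward true
universe u
open CategoryTheory CategoryTheory.Limits Opposite Pseudofunctor Pseudofunctor.CoGrothendieck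

namespace Groth.Agent.Helper6.FibKan

variable {𝒮 : Type u} [SmallCategory 𝒮] (F : Pseudofunctor (LocallyDiscrete 𝒮ᵒᵖ) Cat.{u, u})

section Kap
variable {p q : 𝒮}

/-- the canonical morphism `(p, f^* y) ⟶ (q, y)` over `f` -/
def kap (f : p ⟶ q) (y : F.obj ⟨op q⟩) :
    (ι F p).obj ((FibSite.invImage F f).obj y) ⟶ (ι F q).obj y :=
  ⟨f, 𝟙 _⟩

theorem ι_map_comp_kap {W : F.obj ⟨op p⟩} (f : p ⟶ q) (y : F.obj ⟨op q⟩)
    (φ : W ⟶ (FibSite.invImage F f).obj y) :
    (ι F p).map φ ≫ kap F f y = (⟨f, φ⟩ : (ι F p).obj W ⟶ (ι F q).obj y) :=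
  (FibSiteLib.ι_map_comp F (Y := (ι F p).obj ((FibSite.invImage F f).obj y))
    (X := (ι F q).obj y) (W := W) φ (kap F f y)).trans
    (congrArg (fun t => (⟨f, t⟩ : (ι F p).obj W ⟶ (ι F q).obj y)) (Category.comp_id φ))

theorem fac {W : F.obj ⟨op p⟩} {y : F.obj ⟨op q⟩} (h : (ι F p).obj W ⟶ (ι F q).obj y) :
    (ι F p).map (X := W) (Y := (FibSite.invImage F h.base).obj y) h.fiber ≫ kap F h.base y = h :=
  ι_map_comp_kap F h.base y h.fiber

theorem kap_naturality (f : p ⟶ q) {y y' : F.obj ⟨op q⟩} (r : y ⟶ y') :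
    (ι F p).map ((FibSite.invImage F f).map r) ≫ kap F f y' = kap F f y ≫ (ι F q).map r := by
  rw [ι_map_comp_kap]
  have h := FibSiteLib.comp_ι_map F (Z := (ι F p).obj ((FibSite.invImage F f).obj y)) r f (𝟙 _)
  exact (h.trans (congrArg (fun t => (⟨f, t⟩ :
    (ι F p).obj ((FibSite.invImage F f).obj y) ⟶ (ι F q).obj y')) (Category.id_comp _))).symm

end Kap

section Ran
variable {p : 𝒮} (b : (F.obj ⟨op p⟩)ᵒᵖ ⥤ Type u)

/-- the right Kan extension of `b` along the fibre inclusion -/
noncomputable abbrev E : (∫ᶜ F)ᵒᵖ ⥤ Type u := (ι F p).op.ran.obj b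

/-- its counit -/
noncomputable abbrev ε : (ι F p).op ⋙ E F b ⟶ b := (ι F p).op.ranCounit.app b

variable {q : 𝒮}

/-- the projection to the factor indexed by `f` -/
noncomputable def proj (f : p ⟶ q) (y : F.obj ⟨op q⟩) :
    (E F b).obj (op ((ι F q).obj y)) ⟶ b.obj (op ((FibSite.invImage F f).obj y)) :=
  (E F b).map (kap F f y).op ≫ (ε F b).app (op ((FibSite.invImage F f).obj y))

theorem proj_naturality (f : p ⟶ q) {y y' : F.obj ⟨op q⟩} (r : y ⟶ y') :
    (E F b).map ((ι F q).map r).op ≫ proj F b f y =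
      proj F b f y' ≫ b.map ((FibSite.invImage F f).map r).op := by
  unfold proj
  have h1 : (E F b).map ((ι F q).map r).op ≫ (E F b).map (kap F f y).op =
      (E F b).map (kap F f y').op ≫ (E F b).map ((ι F p).map ((FibSite.invImage F f).map r)).op := by
    rw [← Functor.map_comp, ← Functor.map_comp, ← op_comp, ← op_comp, kap_naturality]
  have h2 := (ε F b).naturality ((FibSite.invImage F f).map r).op
  rw [Category.assoc, ← h2, ← Category.assoc, ← Category.assoc, h1]
  rfl

/-- the limit cone property -/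
noncomputable def hl (y : F.obj ⟨op q⟩) :
    IsLimit ((Functor.RightExtension.mk _ (ε F b)).coneAt (op ((ι F q).obj y))) :=
  (ι F p).op.isPointwiseRightKanExtensionRanCounit b (op ((ι F q).obj y))

/-- the structured arrow of `kap` -/
def g₀ (f : p ⟶ q) (y : F.obj ⟨op q⟩) : StructuredArrow (op ((ι F q).obj y)) (ι F p).op :=
  StructuredArrow.mk (Y := op ((FibSite.invImage F f).obj y)) (kap F f y).op

/-- every structured arrow receives a map from one of the `g₀` -/
def toG (y : F.obj ⟨op q⟩) (g : StructuredArrow (op ((ι F q).obj y)) (ι F p).op) :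
    g₀ F g.hom.unop.base y ⟶ g :=
  StructuredArrow.homMk (g.hom.unop.fiber).op (by
    apply Quiver.Hom.unop_inj
    exact fac F g.hom.unop)

/-- the candidate family -/
def tau (y : F.obj ⟨op q⟩) (t : ∀ f : p ⟶ q, b.obj (op ((FibSite.invImage F f).obj y)))
    {W : F.obj ⟨op p⟩} (h : (ι F p).obj W ⟶ (ι F q).obj y) : b.obj (op W) :=
  b.map (X := op ((FibSite.invImage F h.base).obj y)) (Y := op W) h.fiber.op (t h.base)

theorem tau_comp (y : F.obj ⟨op q⟩) (t : ∀ f : p ⟶ q, b.obj (op ((FibSite.invImage F f).obj y)))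
    {W W' : F.obj ⟨op p⟩} (μ : W' ⟶ W) (h : (ι F p).obj W ⟶ (ι F q).obj y) :
    tau F b y t ((ι F p).map μ ≫ h) = b.map μ.op (tau F b y t h) := by
  have e2 : tau F b y t ((ι F p).map μ ≫ h) =
      tau F b y t (⟨h.base, μ ≫ h.fiber⟩ : (ι F p).obj W' ⟶ (ι F q).obj y) :=
    congrArg (fun h' : (ι F p).obj W' ⟶ (ι F q).obj y => tau F b y t h')
      (FibSiteLib.ι_map_comp F (Y := (ι F p).obj W) (X := (ι F q).obj y) (W := W') μ h)
  rw [e2]
  exact Functor.map_comp_apply b h.fiber.op μ.op (t h.base)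

theorem bijective_proj (y : F.obj ⟨op q⟩) :
    Function.Bijective (fun (s : (E F b).obj (op ((ι F q).obj y))) (f : p ⟶ q) =>
      proj F b f y s) := by
  let c := (Functor.RightExtension.mk _ (ε F b)).coneAt (op ((ι F q).obj y))
  have hc := (Types.isLimit_iff c).1 ⟨hl F b y⟩
  have hπ : ∀ (g : StructuredArrow (op ((ι F q).obj y)) (ι F p).op) (s : c.pt), c.π.app g s =
      b.map (g.hom.unop.fiber).op (proj F b g.hom.unop.base y s) := by
    intro g s
    exact (ConcreteCategory.congr_hom (c.w (toG F y g)) s).symm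
  constructor
  · intro s s' h
    have h' : ∀ f, proj F b f y s = proj F b f y s' := fun f => congrFun h f
    obtain ⟨x, -, hx⟩ := hc (fun g => c.π.app g s)
      (fun {g g'} m => ConcreteCategory.congr_hom (c.w m) s)
    have e1 : s = x := hx s (fun g => rfl)
    have e2 : s' = x := hx s' (fun g =>
      (hπ g s').trans ((congrArg _ (h' _).symm).trans (hπ g s).symm))
    exact e1.trans e2.symm
  · intro t
    obtain ⟨x, hx, -⟩ := hc (fun g => tau F b y t (W := g.right.unop) g.hom.unop)
      (fun {g g'} m => by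
        have hw : g'.hom.unop = (ι F p).map m.right.unop ≫ g.hom.unop :=
          congrArg Quiver.Hom.unop (StructuredArrow.w m).symm
        exact ((congrArg (fun h' : (ι F p).obj g'.right.unop ⟶ (ι F q).obj y =>
          tau F b y t h') hw).trans (tau_comp F b y t m.right.unop g.hom.unop)).symm)
    refine ⟨x, funext fun f => ?_⟩
    have h := hx (g₀ F f y)
    refine Eq.trans ?_ (h.trans ?_)
    · rfl
    · change b.map (𝟙 _) (t f) = t f
      simp

end Ran

end Groth.Agent.Helper6.FibKan
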