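import Mathlib
import Groth.Prelude.Def_FibSite
import Groth.Agent.Helper6.FibKan1

/-!
# Helper6: `restr_q ∘ coextend_p` is the product of the direct images along the `f^*`, `f : p ⟶ q`
-/

set_option autoImplicit false
set_option backward.isDefEq.respectTransparency false
set_option backward.defeqAttrib.useBackward true
universe u
open CategoryTheory CategoryTheory.Limits Opposite Pseudofunctor Pseudofunctor.CoGrothendieck

namespace Groth.Agent.Helper6.FibKan

variable {𝒮 : Type u} [SmallCategory 𝒮] (F : Pseudofunctor (LocallyDiscrete 𝒮ᵒᵖ) Cat.{u, u})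

section Presheaf
variable {p q : 𝒮}

/-- presheaf-level projection as a natural transformation -/
noncomputable def projNat (b : (F.obj ⟨op p⟩)ᵒᵖ ⥤ Type u) (f : p ⟶ q) :
    (ι F q).op ⋙ E F b ⟶ (FibSite.invImage F f).op ⋙ b where
  app x := proj F b f x.unop
  naturality x x' r := proj_naturality F b f r.unop

theorem projNat_naturality {b b' : (F.obj ⟨op p⟩)ᵒᵖ ⥤ Type u} (β : b ⟶ b') (f : p ⟶ q) :
    Functor.whiskerLeft (ι F q).op ((ι F p).op.ran.map β) ≫ projNat F b' f =
      projNat F b f ≫ Functor.whiskerLeft (FibSite.invImage F f).op β := by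
  ext x : 2
  change ((ι F p).op.ran.map β).app (op ((ι F q).obj x.unop)) ≫ proj F b' f x.unop =
    proj F b f x.unop ≫ β.app (op ((FibSite.invImage F f).obj x.unop))
  unfold proj
  have h1 := ((ι F p).op.ran.map β).naturality (kap F f x.unop).op
  have h2 := congrArg (fun t => t.app (op ((FibSite.invImage F f).obj x.unop)))
    ((ι F p).op.ranCounit.naturality β)
  change ((ι F p).op.ran.map β).app (op ((ι F p).obj ((FibSite.invImage F f).obj x.unop))) ≫
      (ε F b').app (op ((FibSite.invImage F f).obj x.unop)) =
    (ε F b).app (op ((FibSite.invImage F f).obj x.unop)) ≫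
      β.app (op ((FibSite.invImage F f).obj x.unop)) at h2
  rw [← Category.assoc, ← h1, Category.assoc, h2, Category.assoc]

end Presheaf

section Sheaf
variable (J : FibSite.Topologies F)
  [∀ S, (ι F S).IsContinuous (J S) (FibSite.totalTopology F J)]
  [∀ S, (ι F S).IsCocontinuous (J S) (FibSite.totalTopology F J)]
  [∀ (R S : 𝒮) (f : R ⟶ S), (FibSite.invImage F f).IsContinuous (J S) (J R)]

/-- `b ↦ (coextend_p b)|_{F(q)}` -/
noncomputable abbrev RR (p q : 𝒮) : Sheaf (J p) (Type u) ⥤ Sheaf (J q) (Type u) :=
  FibSite.coextend F J (Type u) p ⋙ FibSite.restr F J (Type u) q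

variable {p q : 𝒮}

/-- the projections, as natural transformations -/
noncomputable def πN (f : p ⟶ q) :
    RR F J p q ⟶ (FibSite.invImage F f).sheafPushforwardContinuous (Type u) (J q) (J p) where
  app b := ⟨projNat F b.obj f⟩
  naturality b b' β := by
    apply Sheaf.hom_ext
    exact projNat_naturality F β.hom f

/-- the fan of projections is a product -/
noncomputable def isLimitFan (b : Sheaf (J p) (Type u)) :
    IsLimit (Fan.mk ((RR F J p q).obj b) (fun f : p ⟶ q => (πN F J f).app b)) := by
  apply isLimitOfReflects (sheafToPresheaf (J q) (Type u))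
  apply evaluationJointlyReflectsLimits
  intro x
  refine Nonempty.some ((Types.isLimit_iff _).2 ?_)
  intro s hs
  have hb := bijective_proj F b.obj (q := q) x.unop
  obtain ⟨z, hz⟩ := hb.2 (fun f => s ⟨f⟩)
  refine ⟨z, ?_, ?_⟩
  · rintro ⟨f⟩
    exact congrFun hz f
  · intro z' hz'
    apply hb.1
    funext f
    exact (hz' ⟨f⟩).trans (congrFun hz f).symm

/-- if there is only one `f : p ⟶ q` the projection is an isomorphism -/
theorem isIso_πN_of_unique (f : p ⟶ q) (hf : ∀ g : p ⟶ q, g = f) : IsIso (πN F J f) := by
  rw [NatTrans.isIso_iff_isIso_app]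
  intro b
  haveI : IsIso ((sheafToPresheaf (J q) (Type u)).map ((πN F J f).app b)) := by
    change IsIso (projNat F b.obj f)
    rw [NatTrans.isIso_iff_isIso_app]
    intro x
    change IsIso (proj F b.obj f x.unop)
    rw [isIso_iff_bijective]
    have hb := bijective_proj F b.obj (q := q) x.unop
    constructor
    · intro s s' h
      apply hb.1
      funext g
      obtain rfl := hf g
      exact h
    · intro t
      obtain ⟨z, hz⟩ := hb.2 (fun g => by
        obtain rfl := hf g
        exact t)
      refine ⟨z, ?_⟩
      have := congrFun hz f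
      simpa using this
  exact isIso_of_reflects_iso _ (sheafToPresheaf (J q) (Type u))

end Sheaf

end Groth.Agent.Helper6.FibKan
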