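import Mathlib
import Groth.Prelude.Def_FibSite
import Groth.Agent.Helper6.FibSiteLib

set_option autoImplicit false
universe w t v₃ u₃ v₂ u₂ v₁ u₁
open CategoryTheory CategoryTheory.Limits Opposite Pseudofunctor Pseudofunctor.CoGrothendieck Bicategory

namespace Groth.Agent.Helper6.FibSiteLib

section Sep
variable {C : Type u₁} [Category.{v₁} C] {D : Type u₂} [Category.{v₂} D]
  (J : GrothendieckTopology C) (K : GrothendieckTopology D) (u : C ⥤ D) [u.IsContinuous J K]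

theorem sep_lemma (G : Dᵒᵖ ⥤ Type t) (hG : Presieve.IsSeparated K G) [HasWeakSheafify K (Type t)]
    [K.WEqualsLocallyBijective (Type t)]
    {X : C} (R : Sieve X) (hR : R ∈ J X) (z : Presieve.FamilyOfElements (u.op ⋙ G) R.arrows)
    (hz : z.Compatible) {Z : D} {V₁ V₂ : C} (r₁ : V₁ ⟶ X) (r₂ : V₂ ⟶ X) (h₁ : R r₁) (h₂ : R r₂)
    (γ₁ : Z ⟶ u.obj V₁) (γ₂ : Z ⟶ u.obj V₂) (e : γ₁ ≫ u.map r₁ = γ₂ ≫ u.map r₂) :
    G.map γ₁.op (z r₁ h₁) = G.map γ₂.op (z r₂ h₂) := by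
  let η : G ⟶ sheafify K G := toSheafify K G
  have hinj : ∀ Y, Function.Injective (η.app Y) := by
    have := (Presheaf.isLocallyInjective_iff_injective_of_separated K η
      (show Presieve.IsSeparated K (G ⋙ forget (Type t)) from hG)).1 inferInstance
    exact this
  have hGa : Presheaf.IsSheaf K (sheafify K G) := ((presheafToSheaf K (Type t)).obj G).property
  have hsh : Presieve.IsSheaf J (u.op ⋙ sheafify K G) :=
    u.op_comp_isSheaf_of_types J K ⟨sheafify K G, hGa⟩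
  let z' : Presieve.FamilyOfElements (u.op ⋙ sheafify K G) R.arrows :=
    Presieve.FamilyOfElements.map z (Functor.whiskerLeft u.op η)
  have hz' : z'.Compatible := Presieve.FamilyOfElements.Compatible.map _ hz
  let s := (hsh R hR).amalgamate z' hz'
  have hs : ∀ {V : C} (r : V ⟶ X) (hr : R r),
      (sheafify K G).map (u.map r).op s = η.app (op (u.obj V)) (z r hr) :=
    fun r hr => (hsh R hR).valid_glue hz' r hr
  apply hinj (op Z)
  have n₁ : η.app (op Z) (G.map γ₁.op (z r₁ h₁)) = (sheafify K G).map γ₁.op (η.app _ (z r₁ h₁)) :=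
    NatTrans.naturality_apply η γ₁.op (z r₁ h₁)
  have n₂ : η.app (op Z) (G.map γ₂.op (z r₂ h₂)) = (sheafify K G).map γ₂.op (η.app _ (z r₂ h₂)) :=
    NatTrans.naturality_apply η γ₂.op (z r₂ h₂)
  rw [n₁, n₂, ← hs r₁ h₁, ← hs r₂ h₂, ← Functor.map_comp_apply, ← Functor.map_comp_apply,
    ← op_comp, ← op_comp, e]

theorem map_map_apply (P : Dᵒᵖ ⥤ Type t) {X Y Z : D} (f : X ⟶ Y) (g : Y ⟶ Z) (s : P.obj (op Z)) :
    P.map f.op (P.map g.op s) = P.map (f ≫ g).op s := by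
  rw [op_comp, Functor.map_comp_apply]

variable {D' : Type u₂} [Category.{v₂} D'] (K' : GrothendieckTopology D')

theorem essSmall' : EssentiallySmall.{max u₂ v₂ w} D' := by
  rw [essentiallySmall_iff]
  constructor
  · infer_instance
  · infer_instance

theorem hasSheafify_big : HasSheafify K' (Type (max u₂ v₂ w)) := by
  haveI : EssentiallySmall.{max u₂ v₂ w} D' := essSmall'.{w}
  exact hasSheafifyEssentiallySmallSite K' (Type (max u₂ v₂ w))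

theorem wEq_big : K'.WEqualsLocallyBijective (Type (max u₂ v₂ w)) := by
  haveI : EssentiallySmall.{max u₂ v₂ w} D' := essSmall'.{w}
  haveI := hasSheafify_big.{w} K'
  exact GrothendieckTopology.WEqualsLocallyBijective.ofEssentiallySmall K'

end Sep

variable {𝒮 : Type u₁} [Category.{v₁} 𝒮] (F : Pseudofunctor (LocallyDiscrete 𝒮ᵒᵖ) Cat.{v₂, u₂})
  (J : FibSite.Topologies F)

/-- The restriction to a fibre of a sheaf for the total topology is separated. -/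
theorem isSeparated_fibre (ℱ : (∫ᶜ F)ᵒᵖ ⥤ Type t)
    (hℱ : Presieve.IsSheaf (FibSite.totalTopology F J) ℱ) (B : 𝒮) :
    Presieve.IsSeparated (J B) ((ι F B).op ⋙ ℱ) := by
  intro W T hT x t₁ t₂ h₁ h₂
  have hT' : T.functorPushforward (ι F B) ∈ FibSite.totalTopology F J ((ι F B).obj W) :=
    FibSite.functorPushforward_mem_totalTopology hT
  apply (hℱ.isSeparated _ hT').ext
  rintro Y _ ⟨V, g, a, hg, rfl⟩
  have e₁ : ℱ.map ((ι F B).map g).op t₁ = x g hg := h₁ g hg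
  have e₂ : ℱ.map ((ι F B).map g).op t₂ = x g hg := h₂ g hg
  rw [op_comp, Functor.map_comp_apply, Functor.map_comp_apply, e₁, e₂]


/-- The key well-definedness statement. -/
theorem key (hF : FibSite.IsPreFibSite F J) (ℱ : (∫ᶜ F)ᵒᵖ ⥤ Type (max u₂ v₂ w))
    (hℱ : Presieve.IsSheaf (FibSite.totalTopology F J) ℱ) {B : 𝒮} {U : F.obj ⟨op B⟩} (R : Sieve U)
    (hR : R ∈ J B U) (x : Presieve.FamilyOfElements ((ι F B).op ⋙ ℱ) R.arrows) (hx : x.Compatible)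
    {Z : ∫ᶜ F} {V₁ V₂ : F.obj ⟨op B⟩} (a₁ : Z ⟶ (ι F B).obj V₁) (a₂ : Z ⟶ (ι F B).obj V₂)
    {r₁ : V₁ ⟶ U} {r₂ : V₂ ⟶ U} (h₁ : R r₁) (h₂ : R r₂)
    (e : a₁ ≫ (ι F B).map r₁ = a₂ ≫ (ι F B).map r₂) :
    ℱ.map a₁.op (x r₁ h₁) = ℱ.map a₂.op (x r₂ h₂) := by
  obtain ⟨B', W⟩ := Z
  obtain ⟨b₁, α₁⟩ := a₁
  obtain ⟨b₂, α₂⟩ := a₂
  change B' ⟶ B at b₁ b₂
  have e' : (⟨b₁, α₁ ≫ (F.map b₁.op.toLoc).toFunctor.map r₁⟩ : (⟨B', W⟩ : ∫ᶜ F) ⟶ (⟨B, U⟩ : ∫ᶜ F)) =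
      ⟨b₂, α₂ ≫ (F.map b₂.op.toLoc).toFunctor.map r₂⟩ :=
    (comp_ι_map F (Z := (⟨B', W⟩ : ∫ᶜ F)) r₁ b₁ α₁).symm.trans
      (e.trans (comp_ι_map F (Z := (⟨B', W⟩ : ∫ᶜ F)) r₂ b₂ α₂))
  have hb : b₁ = b₂ := congrArg Hom.base e'
  subst hb
  have hfib : α₁ ≫ (FibSite.invImage F b₁).map r₁ = α₂ ≫ (FibSite.invImage F b₁).map r₂ := by
    have := Hom.congr e'
    simpa using this
  haveI := hF b₁
  haveI := hasSheafify_big.{w} (J B')
  haveI := wEq_big.{w} (J B')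
  have hxs := (Presieve.compatible_iff_sieveCompatible x).1 hx
  let z : Presieve.FamilyOfElements ((FibSite.invImage F b₁).op ⋙ (ι F B').op ⋙ ℱ) R.arrows :=
    fun V r hr => ℱ.map (cartesianLift V b₁).op (x r hr)
  have hz : z.Compatible := by
    rw [Presieve.compatible_iff_sieveCompatible]
    intro V V' r m hr
    have hx' : x (m ≫ r) (R.downward_closed hr m) = ℱ.map ((ι F B).map m).op (x r hr) := hxs r m hr
    have hm : (ι F B').map ((FibSite.invImage F b₁).map m) ≫ cartesianLift V b₁ =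
        cartesianLift V' b₁ ≫ (ι F B).map m :=
      (ι_map_comp F (Y := (⟨B', (FibSite.invImage F b₁).obj V⟩ : ∫ᶜ F))
        ((FibSite.invImage F b₁).map m) (cartesianLift V b₁)).trans
        ((congrArg (fun t => (⟨b₁, t⟩ : (⟨B', (FibSite.invImage F b₁).obj V'⟩ : ∫ᶜ F) ⟶ (⟨B, V⟩ : ∫ᶜ F)))
          ((Category.comp_id _).trans (Category.id_comp _).symm)).trans
          (comp_ι_map F (Z := (⟨B', (FibSite.invImage F b₁).obj V'⟩ : ∫ᶜ F)) m b₁ (𝟙 _)).symm)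
    change ℱ.map (cartesianLift V' b₁).op (x (m ≫ r) _) =
      ℱ.map ((ι F B').map ((FibSite.invImage F b₁).map m)).op (ℱ.map (cartesianLift V b₁).op (x r hr))
    rw [hx']
    exact (map_map_apply ℱ _ _ _).trans
      ((congrArg (fun k => ℱ.map (Quiver.Hom.op k) (x r hr)) hm.symm).trans (map_map_apply ℱ _ _ _).symm)
  have fac : ∀ {V : F.obj ⟨op B⟩} (α : W ⟶ (FibSite.invImage F b₁).obj V),
      (⟨b₁, α⟩ : (⟨B', W⟩ : ∫ᶜ F) ⟶ (⟨B, V⟩ : ∫ᶜ F)) = (ι F B').map α ≫ cartesianLift V b₁ := fun {V} α =>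
    ((ι_map_comp F (Y := (⟨B', (FibSite.invImage F b₁).obj V⟩ : ∫ᶜ F)) α (cartesianLift V b₁)).trans
      (congrArg (fun t => (⟨b₁, t⟩ : (⟨B', W⟩ : ∫ᶜ F) ⟶ (⟨B, V⟩ : ∫ᶜ F))) (Category.comp_id α))).symm
  have := sep_lemma (J B) (J B') (FibSite.invImage F b₁) ((ι F B').op ⋙ ℱ)
    (isSeparated_fibre F J ℱ hℱ B') R hR z hz r₁ r₂ h₁ h₂ α₁ α₂ hfib
  change ℱ.map (Quiver.Hom.op (⟨b₁, α₁⟩ : (⟨B', W⟩ : ∫ᶜ F) ⟶ (⟨B, V₁⟩ : ∫ᶜ F))) (x r₁ h₁) =
    ℱ.map (Quiver.Hom.op (⟨b₁, α₂⟩ : (⟨B', W⟩ : ∫ᶜ F) ⟶ (⟨B, V₂⟩ : ∫ᶜ F))) (x r₂ h₂)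
  have g₁ : ℱ.map (Quiver.Hom.op (⟨b₁, α₁⟩ : (⟨B', W⟩ : ∫ᶜ F) ⟶ (⟨B, V₁⟩ : ∫ᶜ F))) (x r₁ h₁) =
      ((ι F B').op ⋙ ℱ).map α₁.op (z r₁ h₁) :=
    (congrArg (fun k => ℱ.map (Quiver.Hom.op k) (x r₁ h₁)) (fac α₁)).trans
      (map_map_apply ℱ _ _ _).symm
  have g₂ : ℱ.map (Quiver.Hom.op (⟨b₁, α₂⟩ : (⟨B', W⟩ : ∫ᶜ F) ⟶ (⟨B, V₂⟩ : ∫ᶜ F))) (x r₂ h₂) =
      ((ι F B').op ⋙ ℱ).map α₂.op (z r₂ h₂) :=
    (congrArg (fun k => ℱ.map (Quiver.Hom.op k) (x r₂ h₂)) (fac α₂)).trans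
      (map_map_apply ℱ _ _ _).symm
  exact g₁.trans (this.trans g₂.symm)


/-- The restriction to a fibre of a sheaf of sets for the total topology is a sheaf. -/
theorem isSheaf_fibre (hF : FibSite.IsPreFibSite F J) (ℱ : (∫ᶜ F)ᵒᵖ ⥤ Type (max u₂ v₂ w))
    (hℱ : Presieve.IsSheaf (FibSite.totalTopology F J) ℱ) (B : 𝒮) :
    Presieve.IsSheaf (J B) ((ι F B).op ⋙ ℱ) := by
  intro U R hR x hx
  have hR' : R.functorPushforward (ι F B) ∈ FibSite.totalTopology F J ((ι F B).obj U) :=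
    FibSite.functorPushforward_mem_totalTopology hR
  have H := hℱ _ hR'
  have hcomp : (x.functorPushforward (ι F B)).Compatible := by
    rintro Z₁ Z₂ W g₁ g₂ f₁' f₂' H₁ H₂ eq
    unfold Presieve.FamilyOfElements.functorPushforward
    rcases Presieve.getFunctorPushforwardStructure H₁ with ⟨X₁, f₁, h₁, hf₁, rfl⟩
    rcases Presieve.getFunctorPushforwardStructure H₂ with ⟨X₂, f₂, h₂, hf₂, rfl⟩
    suffices ℱ.map (g₁ ≫ h₁).op (x f₁ hf₁) = ℱ.map (g₂ ≫ h₂).op (x f₂ hf₂) by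
      simpa using this
    apply key F J hF ℱ hℱ R hR x hx _ _ hf₁ hf₂
    simpa using eq
  have happ : ∀ {V : F.obj ⟨op B⟩} (f : V ⟶ U) (hf : R f),
      x.functorPushforward (ι F B) ((ι F B).map f) (Presieve.image_mem_functorPushforward (ι F B) R.arrows hf) =
        x f hf := by
    intro V f hf
    unfold Presieve.FamilyOfElements.functorPushforward
    rcases Presieve.getFunctorPushforwardStructure
      (Presieve.image_mem_functorPushforward (ι F B) R.arrows hf) with ⟨X, g, f', hg, eq⟩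
    have k := key F J hF ℱ hℱ R hR x hx f' (𝟙 _) hg hf (by simp [eq])
    rw [op_id, ℱ.map_id] at k
    exact k
  apply existsUnique_of_exists_of_unique
  · exact ⟨H.amalgamate (x.functorPushforward (ι F B)) hcomp,
      fun V f hf => (H.isAmalgamation hcomp ((ι F B).map f) _).trans (happ f hf)⟩
  · intro y₁ y₂ hy₁ hy₂
    apply (hℱ.isSeparated _ hR').ext
    rintro Y _ ⟨Z, g, h, hg, rfl⟩
    simpa using congrArg _ ((hy₁ g hg).trans (hy₂ g hg).symm)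

/-- The fibre inclusions of a pre-fibred site are continuous for the total topology. -/
theorem isContinuous_ι (hF : FibSite.IsPreFibSite F J) (B : 𝒮) :
    (ι F B).IsContinuous (J B) (FibSite.totalTopology F J) where
  op_comp_isSheaf_of_types G :=
    isSheaf_fibre.{max u₁ v₁} F J hF G.obj ((isSheaf_iff_isSheaf_of_type _ _).1 G.property) B

end Groth.Agent.Helper6.FibSiteLib
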