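import Mathlib
import Groth.Prelude.Def_FibSite
import Groth.Agent.Helper6.FibKan2
import Groth.Agent.Helper6.FibSiteCont
import Groth.Agent.S13510

/-!
# Helper6: exactness of functors into sheaves on the total site is tested on the fibres;
the extension from the fibre over a terminal object is exact.
-/

set_option autoImplicit false
set_option backward.isDefEq.respectTransparency false
set_option backward.defeqAttrib.useBackward true
universe v₁ u₁ u
open CategoryTheory CategoryTheory.Limits Opposite Pseudofunctor Pseudofunctor.CoGrothendieck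

namespace Groth.Agent.Helper6.FibKan

variable {𝒮 : Type u} [SmallCategory 𝒮] (F : Pseudofunctor (LocallyDiscrete 𝒮ᵒᵖ) Cat.{u, u})
  (J : FibSite.Topologies F)

theorem preservesFiniteLimits_of_restr
    [∀ S, (ι F S).IsContinuous (J S) (FibSite.totalTopology F J)]
    {A : Type u₁} [Category.{v₁} A]
    (G : A ⥤ Sheaf (FibSite.totalTopology F J) (Type u))
    (h : ∀ j, PreservesFiniteLimits (G ⋙ FibSite.restr F J (Type u) j)) :
    PreservesFiniteLimits G := by
  refine ⟨fun K _ _ => ⟨fun {D} => ⟨fun {c} hc => ⟨?_⟩⟩⟩⟩
  apply isLimitOfReflects (sheafToPresheaf (FibSite.totalTopology F J) (Type u))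
  apply evaluationJointlyReflectsLimits
  rintro ⟨⟨j, x⟩⟩
  haveI := h j
  have h1 : IsLimit ((G ⋙ FibSite.restr F J (Type u) j).mapCone c) := isLimitOfPreserves _ hc
  have h2 := isLimitOfPreserves (sheafToPresheaf (J j) (Type u)) h1
  have h3 := isLimitOfPreserves ((evaluation _ _).obj (op x)) h2
  exact h3

theorem preservesFiniteLimits_extend_of_isTerminal (hF : FibSite.IsFibSite F J) (i : 𝒮)
    (hi : IsTerminal i)
    [∀ S, (ι F S).IsContinuous (J S) (FibSite.totalTopology F J)]
    [((ι F i).sheafPushforwardContinuous (Type u) (J i) (FibSite.totalTopology F J)).IsRightAdjoint] :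
    PreservesFiniteLimits (FibSite.extend F J (Type u) i) := by
  haveI : ∀ S, (ι F S).IsCocontinuous (J S) (FibSite.totalTopology F J) :=
    fun S => Groth.Agent.S13510.result F J hF.isPreFibSite S
  haveI : ∀ (R S : 𝒮) (f : R ⟶ S), (FibSite.invImage F f).IsContinuous (J S) (J R) :=
    fun R S f => hF.isPreFibSite f
  apply preservesFiniteLimits_of_restr F J
  intro j
  have hf : ∀ g : j ⟶ i, g = hi.from j := fun g => hi.hom_ext _ _
  obtain ⟨hc, hra, hpl⟩ := hF (hi.from j)
  let adj₁ := (ι F i).sheafAdjunctionContinuous (Type u) (J i) (FibSite.totalTopology F J)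
  let adj₂ := (ι F j).sheafAdjunctionCocontinuous (Type u) (J j) (FibSite.totalTopology F J)
  let adjL := adj₁.comp adj₂
  let adjR := (FibSite.invImage F (hi.from j)).sheafAdjunctionContinuous (Type u) (J i) (J j)
  haveI := isIso_πN_of_unique F J (hi.from j) hf
  let iso := asIso (πN F J (hi.from j))
  let e := adjL.leftAdjointUniq (adjR.ofNatIsoRight iso.symm)
  exact preservesFiniteLimits_of_natIso e.symm

end Groth.Agent.Helper6.FibKan
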