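import Mathlib
import Groth.Prelude.Def_FibSite
import Groth.Agent.Helper6.FibSiteLib
import Groth.Agent.Helper6.FibSiteCont

set_option autoImplicit false
universe w t v₃ u₃ v₂ u₂ v₁ u₁
open CategoryTheory CategoryTheory.Limits Opposite Pseudofunctor Pseudofunctor.CoGrothendieck Bicategory

namespace Groth.Agent.Helper6.FibSiteLib

variable {𝒮 : Type u₁} [Category.{v₁} 𝒮] (F : Pseudofunctor (LocallyDiscrete 𝒮ᵒᵖ) Cat.{v₂, u₂})
  (J : FibSite.Topologies F)

/-- A presheaf all of whose restrictions to the fibres are separated is separated for the image of a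
fibre covering. -/
theorem isSeparatedFor_image (Q : (∫ᶜ F)ᵒᵖ ⥤ Type t) {B : 𝒮} {U : F.obj ⟨op B⟩} (R : Sieve U)
    (hsep : Presieve.IsSeparatedFor ((ι F B).op ⋙ Q) R.arrows) :
    Presieve.IsSeparatedFor Q (R.functorPushforward (ι F B)).arrows := by
  intro y t₁ t₂ h₁ h₂
  apply hsep.ext
  intro V r hr
  have hm : (R.functorPushforward (ι F B)) ((ι F B).map r) :=
    ⟨V, r, 𝟙 _, hr, (Category.id_comp _).symm⟩
  exact (h₁ _ hm).trans (h₂ _ hm).symm

/-- A presheaf whose restriction to a fibre is a sheaf for `R` is a sheaf for the image of `R`. -/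
theorem isSheafFor_image (Q : (∫ᶜ F)ᵒᵖ ⥤ Type t) {B : 𝒮} {U : F.obj ⟨op B⟩} (R : Sieve U)
    (hsh : Presieve.IsSheafFor ((ι F B).op ⋙ Q) R.arrows) :
    Presieve.IsSheafFor Q (R.functorPushforward (ι F B)).arrows := by
  rw [← Presieve.isSeparatedFor_and_exists_isAmalgamation_iff_isSheafFor]
  refine ⟨isSeparatedFor_image F Q R hsh.isSeparatedFor, ?_⟩
  intro y hy
  have hys := (Presieve.compatible_iff_sieveCompatible y).1 hy
  have hm : ∀ {V : F.obj ⟨op B⟩} (r : V ⟶ U), R r → (R.functorPushforward (ι F B)) ((ι F B).map r) :=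
    fun {V} r hr => ⟨V, r, 𝟙 _, hr, (Category.id_comp _).symm⟩
  let x : Presieve.FamilyOfElements ((ι F B).op ⋙ Q) R.arrows := fun V r hr => y ((ι F B).map r) (hm r hr)
  have hx : x.Compatible := by
    rw [Presieve.compatible_iff_sieveCompatible]
    intro V V' r m hr
    have := hys ((ι F B).map r) ((ι F B).map m) (hm r hr)
    change y ((ι F B).map (m ≫ r)) _ = Q.map ((ι F B).map m).op (y ((ι F B).map r) _)
    rw [← this]
    congr 1
    exact (ι F B).map_comp m r
  refine ⟨hsh.amalgamate x hx, ?_⟩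
  rintro Z h ⟨V, r, a, hr, rfl⟩
  have e1 : Q.map ((ι F B).map r).op (hsh.amalgamate x hx) = x r hr := hsh.valid_glue hx r hr
  have e2 := hys ((ι F B).map r) a (hm r hr)
  rw [op_comp, Functor.map_comp_apply, e1]
  exact e2.symm

/-- A presheaf of sets on the total category all of whose restrictions to the fibres are sheaves is a
sheaf for the total topology. -/
theorem isSheaf_total_of_fibre (hF : FibSite.IsPreFibSite F J) (Q : (∫ᶜ F)ᵒᵖ ⥤ Type t)
    (h : ∀ B : 𝒮, Presieve.IsSheaf (J B) ((ι F B).op ⋙ Q)) :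
    Presieve.IsSheaf (FibSite.totalTopology F J) Q := by
  intro X T hT
  obtain ⟨R, hR, hle⟩ := (mem_totalTopology_iff F J hF X T).1 hT
  refine Presieve.isSheafFor_subsieve_aux Q hle (isSheafFor_image F Q R (h X.base R hR)) ?_
  intro Y f hf
  have hp : (R.functorPushforward (ι F X.base)).pullback f ∈ FibSite.totalTopology F J Y :=
    (FibSite.totalTopology F J).pullback_stable f
      (FibSite.functorPushforward_mem_totalTopology hR)
  obtain ⟨R', hR', hle'⟩ := (mem_totalTopology_iff F J hF Y _).1 hp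
  have hsep := isSeparatedFor_image F Q R' ((h Y.base R' hR').isSeparatedFor)
  intro y t₁ t₂ h₁ h₂
  apply hsep.ext
  intro Z k hk
  exact (h₁ k (hle' _ hk)).trans (h₂ k (hle' _ hk)).symm

end Groth.Agent.Helper6.FibSiteLib
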