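import Mathlib
import Groth.Prelude.Def_FibSite
import Groth.Agent.Helper6.FibKan3
import Groth.Agent.S13512

/-!
# Helper6: a cartesian functor between fibred sites which is fibrewise a morphism of sites
induces a morphism of the total sites
-/

set_option autoImplicit false
set_option backward.isDefEq.respectTransparency false
set_option backward.defeqAttrib.useBackward true
universe u
open CategoryTheory CategoryTheory.Limits Opposite Pseudofunctor Pseudofunctor.CoGrothendieck Bicategory
open scoped CategoryTheory.Pseudofunctor.StrongTrans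
open CategoryTheory.Pseudofunctor.StrongTrans

namespace Groth.Agent.Helper6.FibKan

theorem ranCounit_naturality_app {C D H : Type*} [Category C] [Category D] [Category H]
    (L : C ⥤ D) [∀ P : C ⥤ H, L.HasRightKanExtension P] {b b' : C ⥤ H} (β : b ⟶ b') (w : C) :
    (L.ran.map β).app (L.obj w) ≫ (L.ranCounit.app b').app w =
      (L.ranCounit.app b).app w ≫ β.app w :=
  congrArg (fun t => t.app w) (L.ranCounit.naturality β)

variable {𝒮 : Type u} [SmallCategory 𝒮] {F G : Pseudofunctor (LocallyDiscrete 𝒮ᵒᵖ) Cat.{u, u}}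
  (α : G ⟶ F)

/-- the fibre functor of `α` -/
abbrev αS (S : 𝒮) : G.obj ⟨op S⟩ ⥤ F.obj ⟨op S⟩ := (α.app ⟨op S⟩).toFunctor

theorem map_ι_map (S : 𝒮) {x y : G.obj ⟨op S⟩} (r : x ⟶ y) :
    (CoGrothendieck.map α).map ((ι G S).map r) = (ι F S).map ((αS α S).map r) := by
  refine Hom.ext _ _ rfl ?_
  simp [naturality_id_hom_app, Cat.Hom.id_toFunctor, ← Category.assoc, ← Functor.map_comp]
  have e : (G.mapId ⟨op S⟩).inv.toNatTrans.app y ≫ (G.mapId ⟨op S⟩).hom.toNatTrans.app y = 𝟙 _ := by
    rw [← Cat.Hom₂.comp_app]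
    simp
  rw [Category.assoc, e]
  erw [Category.comp_id]

/-- `ι ⋙ M ≅ α_S ⋙ ι` -/
def ιMIso (S : 𝒮) : ι G S ⋙ CoGrothendieck.map α ≅ αS α S ⋙ ι F S :=
  NatIso.ofComponents (fun _ => Iso.refl _) (fun {x y} r =>
    (Category.comp_id _).trans ((map_ι_map α S r).trans (Category.id_comp _).symm))

theorem isContinuous_map (J : FibSite.Topologies F) (K : FibSite.Topologies G)
    (hF : FibSite.IsPreFibSite F J) (hG : FibSite.IsPreFibSite G K)
    (hα : ∀ S, (αS α S).IsContinuous (K S) (J S)) :
    (CoGrothendieck.map α).IsContinuous (FibSite.totalTopology G K) (FibSite.totalTopology F J) := by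
  rw [Groth.Agent.S13512.result G K hG (FibSite.totalTopology F J) (CoGrothendieck.map α)]
  intro S
  haveI := hα S
  haveI := FibSiteLib.isContinuous_ι F J hF S
  haveI : (αS α S ⋙ ι F S).IsContinuous (K S) (FibSite.totalTopology F J) :=
    Functor.isContinuous_comp (αS α S) (ι F S) (K S) (J S) (FibSite.totalTopology F J)
  exact Functor.isContinuous_of_iso (ιMIso α S).symm (K S) (FibSite.totalTopology F J)

section Presheaf
variable {T : 𝒮} (b : (F.obj ⟨op T⟩)ᵒᵖ ⥤ Type u)

/-- the presheaf `α_T^* b` -/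
abbrev cOf : (G.obj ⟨op T⟩)ᵒᵖ ⥤ Type u := (αS α T).op ⋙ b

/-- the map whose adjunct is the comparison -/
noncomputable def φ : (ι G T).op ⋙ (CoGrothendieck.map α).op ⋙ E F b ⟶ cOf α b where
  app w := (FibKan.ε F b).app (op ((αS α T).obj w.unop))
  naturality w w' r := by
    have h := (FibKan.ε F b).naturality ((αS α T).map r.unop).op
    have e : ((ι G T).op ⋙ (CoGrothendieck.map α).op ⋙ E F b).map r =
        ((ι F T).op ⋙ E F b).map ((αS α T).map r.unop).op := by
      change (E F b).map ((CoGrothendieck.map α).map ((ι G T).map r.unop)).op = _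
      rw [map_ι_map]
      rfl
    rw [e]
    exact h

/-- the comparison `M^*(Ran_F b) ⟶ Ran_G(α_T^* b)` -/
noncomputable def Θp : (CoGrothendieck.map α).op ⋙ E F b ⟶ E G (cOf α b) :=
  (E G (cOf α b)).liftOfIsRightKanExtension (FibKan.ε G (cOf α b)) _ (φ α b)

theorem Θp_fac_app (w : (G.obj ⟨op T⟩)ᵒᵖ) :
    (Θp α b).app ((ι G T).op.obj w) ≫ (FibKan.ε G (cOf α b)).app w = (φ α b).app w :=
  Functor.liftOfIsRightKanExtension_fac_app _ _ _ _ _

theorem Θp_naturality {b b' : (F.obj ⟨op T⟩)ᵒᵖ ⥤ Type u} (β : b ⟶ b') :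
    Functor.whiskerLeft (CoGrothendieck.map α).op ((ι F T).op.ran.map β) ≫ Θp α b' =
      Θp α b ≫ (ι G T).op.ran.map (Functor.whiskerLeft (αS α T).op β) := by
  apply Functor.hom_ext_of_isRightKanExtension (E G (cOf α b')) (FibKan.ε G (cOf α b'))
  ext w : 2
  have hG := ranCounit_naturality_app (ι G T).op (Functor.whiskerLeft (αS α T).op β) w
  have hF := ranCounit_naturality_app (ι F T).op β (op ((αS α T).obj w.unop))
  have f1 := Θp_fac_app α b w
  have f2 := Θp_fac_app α b' w
  change ((ι F T).op.ran.map β).app (op ((ι F T).obj ((αS α T).obj w.unop))) ≫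
      (Θp α b').app ((ι G T).op.obj w) ≫ (FibKan.ε G (cOf α b')).app w =
    (Θp α b).app ((ι G T).op.obj w) ≫
      ((ι G T).op.ran.map (Functor.whiskerLeft (αS α T).op β)).app ((ι G T).op.obj w) ≫
        (FibKan.ε G (cOf α b')).app w
  rw [f2, hG, ← Category.assoc, f1]
  exact hF

theorem isIso_fiber_map_kap {S : 𝒮} (f : T ⟶ S) (x : G.obj ⟨op S⟩) :
    IsIso ((CoGrothendieck.map α).map (kap G f x)).fiber := by
  have h : ((CoGrothendieck.map α).map (kap G f x)).fiber =
      (αS α T).map (𝟙 _) ≫ (α.naturality f.op.toLoc).hom.toNatTrans.app x := rfl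
  rw [h]
  infer_instance

theorem Θp_proj {S : 𝒮} (f : T ⟶ S) (x : G.obj ⟨op S⟩) :
    (Θp α b).app (op ((ι G S).obj x)) ≫ proj G (cOf α b) f x =
      proj F b f ((αS α S).obj x) ≫
        b.map (((CoGrothendieck.map α).map (kap G f x)).fiber).op := by
  obtain ⟨μ, hμ⟩ : ∃ μ : (αS α T).obj ((FibSite.invImage G f).obj x) ⟶
      (FibSite.invImage F f).obj ((αS α S).obj x),
      μ = ((CoGrothendieck.map α).map (kap G f x)).fiber := ⟨_, rfl⟩
  rw [← hμ]
  have hk : (CoGrothendieck.map α).map (kap G f x) =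
      (ι F T).map μ ≫ kap F f ((αS α S).obj x) := by
    rw [hμ]
    exact (fac F ((CoGrothendieck.map α).map (kap G f x))).symm
  have hn := (Θp α b).naturality (kap G f x).op
  have hf := Θp_fac_app α b (op ((FibSite.invImage G f).obj x))
  have hε := (FibKan.ε F b).naturality μ.op
  unfold proj
  calc (Θp α b).app (op ((ι G S).obj x)) ≫ (E G (cOf α b)).map (kap G f x).op ≫
        (FibKan.ε G (cOf α b)).app (op ((FibSite.invImage G f).obj x))
      = (((CoGrothendieck.map α).op ⋙ E F b).map (kap G f x).op ≫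
          (Θp α b).app (op ((ι G T).obj ((FibSite.invImage G f).obj x)))) ≫
          (FibKan.ε G (cOf α b)).app (op ((FibSite.invImage G f).obj x)) := by
        rw [hn, Category.assoc]
    _ = ((CoGrothendieck.map α).op ⋙ E F b).map (kap G f x).op ≫
          (φ α b).app (op ((FibSite.invImage G f).obj x)) := by
        rw [Category.assoc]
        congr 1
    _ = (E F b).map ((CoGrothendieck.map α).map (kap G f x)).op ≫
          (FibKan.ε F b).app (op ((αS α T).obj ((FibSite.invImage G f).obj x))) := rfl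
    _ = (E F b).map ((ι F T).map μ ≫ kap F f ((αS α S).obj x)).op ≫
          (FibKan.ε F b).app (op ((αS α T).obj ((FibSite.invImage G f).obj x))) := by
        rw [hk]
    _ = (E F b).map (kap F f ((αS α S).obj x)).op ≫ (E F b).map ((ι F T).map μ).op ≫
          (FibKan.ε F b).app (op ((αS α T).obj ((FibSite.invImage G f).obj x))) := by
        rw [op_comp, Functor.map_comp, Category.assoc]
    _ = (E F b).map (kap F f ((αS α S).obj x)).op ≫
          (FibKan.ε F b).app (op ((FibSite.invImage F f).obj ((αS α S).obj x))) ≫ b.map μ.op := by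
        congr 1
    _ = _ := (Category.assoc _ _ _).symm

theorem bijective_Θp_app (X : (∫ᶜ G)ᵒᵖ) : Function.Bijective ((Θp α b).app X) := by
  obtain ⟨⟨S, x⟩⟩ := X
  have hF := bijective_proj F b (q := S) ((αS α S).obj x)
  have hG := bijective_proj G (cOf α b) (q := S) x
  have key : ∀ (f : T ⟶ S) (s : ((CoGrothendieck.map α).op ⋙ E F b).obj (op ⟨S, x⟩)),
      proj G (cOf α b) f x ((Θp α b).app (op ⟨S, x⟩) s) =
        b.map (((CoGrothendieck.map α).map (kap G f x)).fiber).op
          (proj F b f ((αS α S).obj x) s) := fun f s =>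
    ConcreteCategory.congr_hom (Θp_proj α b f x) s
  have hμ : ∀ f : T ⟶ S,
      Function.Bijective (b.map (((CoGrothendieck.map α).map (kap G f x)).fiber).op) := fun f => by
    haveI := isIso_fiber_map_kap α f x
    exact (isIso_iff_bijective _).1 inferInstance
  constructor
  · intro s s' h
    apply hF.1
    funext f
    apply (hμ f).1
    have k1 := key f s
    have k2 := key f s'
    rw [h] at k1
    exact k1.symm.trans k2
  · intro t
    obtain ⟨s, hs⟩ := hF.2 (fun f => ((hμ f).2 (proj G (cOf α b) f x t)).choose)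
    refine ⟨s, hG.1 (funext fun f => ?_)⟩
    refine (key f s).trans ?_
    have h1 := congrFun hs f
    have h2 := ((hμ f).2 (proj G (cOf α b) f x t)).choose_spec
    exact (congrArg _ h1).trans h2

end Presheaf

end Groth.Agent.Helper6.FibKan
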