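import Mathlib
import Groth.Prelude.Def_FibSite
import Groth.Agent.Helper6.FibKan4

/-!
# Helper6: the total functor of a fibrewise morphism of fibred sites is a morphism of sites
-/

set_option autoImplicit false
set_option backward.isDefEq.respectTransparency false
set_option backward.defeqAttrib.useBackward true
universe u
open CategoryTheory CategoryTheory.Limits Opposite Pseudofunctor Pseudofunctor.CoGrothendieck
open scoped CategoryTheory.Pseudofunctor.StrongTrans
open CategoryTheory.Pseudofunctor.StrongTrans

namespace Groth.Agent.Helper6.FibKan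

variable {𝒮 : Type u} [SmallCategory 𝒮] {F G : Pseudofunctor (LocallyDiscrete 𝒮ᵒᵖ) Cat.{u, u}}
  (α : G ⟶ F)

section Sheaf
variable (J : FibSite.Topologies F) (K : FibSite.Topologies G)
  [∀ S, (ι F S).IsContinuous (J S) (FibSite.totalTopology F J)]
  [∀ S, (ι F S).IsCocontinuous (J S) (FibSite.totalTopology F J)]
  [∀ S, (ι G S).IsContinuous (K S) (FibSite.totalTopology G K)]
  [∀ S, (ι G S).IsCocontinuous (K S) (FibSite.totalTopology G K)]
  [(CoGrothendieck.map α).IsContinuous (FibSite.totalTopology G K) (FibSite.totalTopology F J)]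
  [∀ S, (αS α S).IsContinuous (K S) (J S)]

/-- the comparison of right adjoints -/
noncomputable def ΘN (T : 𝒮) :
    FibSite.coextend F J (Type u) T ⋙ (CoGrothendieck.map α).sheafPushforwardContinuous (Type u)
        (FibSite.totalTopology G K) (FibSite.totalTopology F J) ⟶
      (αS α T).sheafPushforwardContinuous (Type u) (K T) (J T) ⋙
        FibSite.coextend G K (Type u) T where
  app b := ⟨Θp α b.obj⟩
  naturality b b' β := by
    apply Sheaf.hom_ext
    exact Θp_naturality α β.hom

theorem isIso_ΘN (T : 𝒮) : IsIso (ΘN α J K T) := by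
  rw [NatTrans.isIso_iff_isIso_app]
  intro b
  haveI : IsIso ((sheafToPresheaf (FibSite.totalTopology G K) (Type u)).map
      ((ΘN α J K T).app b)) := by
    change IsIso (Θp α b.obj)
    rw [NatTrans.isIso_iff_isIso_app]
    intro X
    rw [isIso_iff_bijective]
    exact bijective_Θp_app α b.obj X
  exact isIso_of_reflects_iso _ (sheafToPresheaf (FibSite.totalTopology G K) (Type u))

end Sheaf

theorem main (J : FibSite.Topologies F) (K : FibSite.Topologies G)
    (hF : FibSite.IsFibSite F J) (hG : FibSite.IsFibSite G K)
    (hα : ∀ S : 𝒮, ∃ (_ : (α.app ⟨op S⟩).toFunctor.IsContinuous (K S) (J S))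
      (_ : ((α.app ⟨op S⟩).toFunctor.sheafPushforwardContinuous (Type u) (K S) (J S)).IsRightAdjoint),
      PreservesFiniteLimits ((α.app ⟨op S⟩).toFunctor.sheafPullback (Type u) (K S) (J S))) :
    ∃ (_ : (Pseudofunctor.CoGrothendieck.map α).IsContinuous
        (FibSite.totalTopology G K) (FibSite.totalTopology F J))
      (_ : ((Pseudofunctor.CoGrothendieck.map α).sheafPushforwardContinuous (Type u)
        (FibSite.totalTopology G K) (FibSite.totalTopology F J)).IsRightAdjoint),
      PreservesFiniteLimits ((Pseudofunctor.CoGrothendieck.map α).sheafPullback (Type u)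
        (FibSite.totalTopology G K) (FibSite.totalTopology F J)) := by
  haveI : ∀ S, (ι F S).IsContinuous (J S) (FibSite.totalTopology F J) :=
    fun S => FibSiteLib.isContinuous_ι F J hF.isPreFibSite S
  haveI : ∀ S, (ι G S).IsContinuous (K S) (FibSite.totalTopology G K) :=
    fun S => FibSiteLib.isContinuous_ι G K hG.isPreFibSite S
  haveI : ∀ S, (ι F S).IsCocontinuous (J S) (FibSite.totalTopology F J) :=
    fun S => Groth.Agent.S13510.result F J hF.isPreFibSite S
  haveI : ∀ S, (ι G S).IsCocontinuous (K S) (FibSite.totalTopology G K) :=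
    fun S => Groth.Agent.S13510.result G K hG.isPreFibSite S
  haveI hcont : ∀ S, (αS α S).IsContinuous (K S) (J S) := fun S => (hα S).fst
  haveI hM : (CoGrothendieck.map α).IsContinuous (FibSite.totalTopology G K)
      (FibSite.totalTopology F J) :=
    isContinuous_map α J K hF.isPreFibSite hG.isPreFibSite hcont
  refine ⟨hM, inferInstance, ?_⟩
  apply preservesFiniteLimits_of_restr F J
  intro T
  obtain ⟨h1, h2, h3⟩ := hα T
  let adjP := (CoGrothendieck.map α).sheafAdjunctionContinuous (Type u)
    (FibSite.totalTopology G K) (FibSite.totalTopology F J)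
  let adjF := (ι F T).sheafAdjunctionCocontinuous (Type u) (J T) (FibSite.totalTopology F J)
  let adjL := adjP.comp adjF
  let adjG := (ι G T).sheafAdjunctionCocontinuous (Type u) (K T) (FibSite.totalTopology G K)
  let adjα := (αS α T).sheafAdjunctionContinuous (Type u) (K T) (J T)
  let adjR := adjG.comp adjα
  haveI := isIso_ΘN α J K T
  let iso := asIso (ΘN α J K T)
  let e := adjL.leftAdjointUniq (adjR.ofNatIsoRight iso.symm)
  haveI : PreservesFiniteLimits (FibSite.restr G K (Type u) T) := by
    haveI : PreservesLimitsOfSize.{0, 0} (FibSite.restr G K (Type u) T) := inferInstance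
    exact PreservesLimitsOfSize.preservesFiniteLimits _
  haveI : PreservesFiniteLimits (FibSite.restr G K (Type u) T ⋙
      (αS α T).sheafPullback (Type u) (K T) (J T)) := comp_preservesFiniteLimits _ _
  exact preservesFiniteLimits_of_natIso e.symm

end Groth.Agent.Helper6.FibKan
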