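import Mathlib
import Groth.Prelude.Def_FibSite
import Groth.Agent.Helper6.FibKan5
import Groth.Agent.Helper6.AdjCoprod
import Groth.Agent.Helper6.VKSh

/-!
# Helper6: a cartesian functor between fibred sites inducing a morphism of the total sites
is fibrewise a morphism of sites
-/

set_option autoImplicit false
set_option backward.isDefEq.respectTransparency false
set_option backward.defeqAttrib.useBackward true
universe v₁ u₁ u
open CategoryTheory CategoryTheory.Limits Opposite Pseudofunctor Pseudofunctor.CoGrothendieck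
open scoped CategoryTheory.Pseudofunctor.StrongTrans
open CategoryTheory.Pseudofunctor.StrongTrans

namespace Groth.Agent.Helper6.FibKan

section AdjNat
variable {A : Type*} [Category A] {B : Type*} [Category B]
  {L : A ⥤ B} {R : B ⥤ A} (adj : L ⊣ R) {I : Type*} {Lf : I → (A ⥤ B)} {Rf : I → (B ⥤ A)}
  (adjf : ∀ f, Lf f ⊣ Rf f) (π : ∀ f, R ⟶ Rf f)

/-- the injections of `AdjCoprod` as natural transformations -/
def injNat (f : I) : Lf f ⟶ L where
  app a := AdjCoprod.inj adj adjf π a f
  naturality a a' g := by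
    apply ((adjf f).homEquiv a (L.obj a')).injective
    have h1 : (adjf f).homEquiv a (L.obj a') ((Lf f).map g ≫ AdjCoprod.inj adj adjf π a' f) =
        g ≫ (adj.unit.app a' ≫ (π f).app (L.obj a')) := by
      rw [Adjunction.homEquiv_naturality_left]
      congr 1
      exact Equiv.apply_symm_apply _ _
    have h2 : (adjf f).homEquiv a (L.obj a') (AdjCoprod.inj adj adjf π a f ≫ L.map g) =
        (adj.unit.app a ≫ R.map (L.map g)) ≫ (π f).app (L.obj a') := by
      rw [AdjCoprod.homEquiv_inj_comp, Adjunction.homEquiv_unit]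
    rw [h1, h2, ← Category.assoc]
    congr 1
    exact adj.unit.naturality g

end AdjNat

variable {𝒮 : Type u} [SmallCategory 𝒮]

section OneSite
variable (F : Pseudofunctor (LocallyDiscrete 𝒮ᵒᵖ) Cat.{u, u}) (J : FibSite.Topologies F)
  [∀ S, (ι F S).IsContinuous (J S) (FibSite.totalTopology F J)]
  [∀ S, (ι F S).IsCocontinuous (J S) (FibSite.totalTopology F J)]
  [∀ (R S : 𝒮) (f : R ⟶ S), (FibSite.invImage F f).IsContinuous (J S) (J R)]

/-- `a ↦ (extend_i a)|_{F(j)}` -/
noncomputable abbrev LL (i j : 𝒮) : Sheaf (J i) (Type u) ⥤ Sheaf (J j) (Type u) :=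
  FibSite.extend F J (Type u) i ⋙ FibSite.restr F J (Type u) j

/-- inverse image of sheaves along `f^*` -/
noncomputable abbrev PhiF {i j : 𝒮} (f : j ⟶ i) : Sheaf (J i) (Type u) ⥤ Sheaf (J j) (Type u) :=
  (FibSite.invImage F f).sheafPullback (Type u) (J i) (J j)

/-- the adjunction `extend_i ⋙ restr_j ⊣ coextend_j ⋙ restr_i` -/
noncomputable def adjLL (i j : 𝒮) : LL F J i j ⊣ RR F J j i :=
  ((ι F i).sheafAdjunctionContinuous (Type u) (J i) (FibSite.totalTopology F J)).comp
    ((ι F j).sheafAdjunctionCocontinuous (Type u) (J j) (FibSite.totalTopology F J))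

/-- the injections of the summands -/
noncomputable def injLL {i j : 𝒮} (f : j ⟶ i) : PhiF F J f ⟶ LL F J i j :=
  injNat (adjLL F J i j)
    (fun f => (FibSite.invImage F f).sheafAdjunctionContinuous (Type u) (J i) (J j))
    (fun f => πN F J f) f

/-- `(extend_i a)|_{F(j)}` is the coproduct of the inverse images of `a` -/
noncomputable def isColimitLL (i j : 𝒮) (a : Sheaf (J i) (Type u)) :
    IsColimit (Cofan.mk ((LL F J i j).obj a) (fun f : j ⟶ i => (injLL F J f).app a)) :=
  AdjCoprod.isColimitCofan (adjLL F J i j)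
    (fun f => (FibSite.invImage F f).sheafAdjunctionContinuous (Type u) (J i) (J j))
    (fun f => πN F J f) (fun b => isLimitFan F J b) a

theorem isVanKampenLL (i j : 𝒮) (a : Sheaf (J i) (Type u)) :
    IsVanKampenColimit (Cofan.mk ((LL F J i j).obj a) (fun f : j ⟶ i => (injLL F J f).app a)) :=
  VKSh.isVanKampenColimit_sheaf (J j) _ _ (isColimitLL F J i j a)

/-- `(𝟙 S)^* ≅ 𝟭` -/
noncomputable def invImageIdIso (S : 𝒮) : FibSite.invImage F (𝟙 S) ≅ 𝟭 (F.obj ⟨op S⟩) :=
  Cat.Hom.toNatIso (F.mapId ⟨op S⟩)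

/-- inverse image of sheaves along `(𝟙 S)^*` is the identity -/
noncomputable def phiIdIso (S : 𝒮) : PhiF F J (𝟙 S) ≅ 𝟭 (Sheaf (J S) (Type u)) :=
  (((FibSite.invImage F (𝟙 S)).sheafAdjunctionContinuous (Type u) (J S) (J S)).ofNatIsoRight
    (Functor.sheafPushforwardContinuousId' (eF'' := invImageIdIso F S) (A := Type u)
      (J := J S))).leftAdjointUniq Adjunction.id

theorem preservesCospan_of_restr
    {A : Type u₁} [Category.{v₁} A]
    (H : A ⥤ Sheaf (FibSite.totalTopology F J) (Type u))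
    (h : ∀ j, PreservesLimitsOfShape WalkingCospan (H ⋙ FibSite.restr F J (Type u) j)) :
    PreservesLimitsOfShape WalkingCospan H := by
  refine ⟨fun {D} => ⟨fun {c} hc => ⟨?_⟩⟩⟩
  apply isLimitOfReflects (sheafToPresheaf (FibSite.totalTopology F J) (Type u))
  apply evaluationJointlyReflectsLimits
  rintro ⟨⟨j, x⟩⟩
  haveI := h j
  have h1 : IsLimit ((H ⋙ FibSite.restr F J (Type u) j).mapCone c) := isLimitOfPreserves _ hc
  have h2 := isLimitOfPreserves (sheafToPresheaf (J j) (Type u)) h1
  have h3 := isLimitOfPreserves ((evaluation _ _).obj (op x)) h2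
  exact h3

end OneSite

variable {F G : Pseudofunctor (LocallyDiscrete 𝒮ᵒᵖ) Cat.{u, u}} (α : G ⟶ F)
  (J : FibSite.Topologies F) (K : FibSite.Topologies G)

section StepA
variable
  [∀ S, (ι F S).IsContinuous (J S) (FibSite.totalTopology F J)]
  [∀ S, (ι F S).IsCocontinuous (J S) (FibSite.totalTopology F J)]
  [∀ (R S : 𝒮) (f : R ⟶ S), (FibSite.invImage F f).IsContinuous (J S) (J R)]
  [∀ S, (ι G S).IsContinuous (K S) (FibSite.totalTopology G K)]
  [(CoGrothendieck.map α).IsContinuous (FibSite.totalTopology G K) (FibSite.totalTopology F J)]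

/-- the class of sheaves on the fibre over `S` whose restriction along `α_S` is a sheaf -/
def InC (S : 𝒮) (Q : Sheaf (J S) (Type u)) : Prop :=
  Presheaf.IsSheaf (K S) ((αS α S).op ⋙ Q.obj)

theorem inC_restr (S : 𝒮) (P : Sheaf (FibSite.totalTopology F J) (Type u)) :
    InC α J K S ((FibSite.restr F J (Type u) S).obj P) := by
  haveI : (ι G S ⋙ CoGrothendieck.map α).IsContinuous (K S) (FibSite.totalTopology F J) :=
    Functor.isContinuous_comp (ι G S) (CoGrothendieck.map α) (K S) (FibSite.totalTopology G K)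
      (FibSite.totalTopology F J)
  haveI : (αS α S ⋙ ι F S).IsContinuous (K S) (FibSite.totalTopology F J) :=
    Functor.isContinuous_of_iso (ιMIso α S) (K S) (FibSite.totalTopology F J)
  exact Functor.op_comp_isSheaf (αS α S ⋙ ι F S) (K S) (FibSite.totalTopology F J) P

omit [∀ S, (ι F S).IsContinuous (J S) (FibSite.totalTopology F J)]
  [∀ S, (ι F S).IsCocontinuous (J S) (FibSite.totalTopology F J)]
  [∀ (R S : 𝒮) (f : R ⟶ S), (FibSite.invImage F f).IsContinuous (J S) (J R)]
  [∀ S, (ι G S).IsContinuous (K S) (FibSite.totalTopology G K)]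
  [(CoGrothendieck.map α).IsContinuous (FibSite.totalTopology G K) (FibSite.totalTopology F J)] in
theorem InC.of_iso {S : 𝒮} {Q Q' : Sheaf (J S) (Type u)} (h : InC α J K S Q) (e : Q ≅ Q') :
    InC α J K S Q' :=
  (Presheaf.isSheaf_of_iso_iff (Functor.isoWhiskerLeft (αS α S).op
    ((sheafToPresheaf _ _).mapIso e))).1 h

omit [∀ S, (ι F S).IsContinuous (J S) (FibSite.totalTopology F J)]
  [∀ S, (ι F S).IsCocontinuous (J S) (FibSite.totalTopology F J)]
  [∀ (R S : 𝒮) (f : R ⟶ S), (FibSite.invImage F f).IsContinuous (J S) (J R)]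
  [∀ S, (ι G S).IsContinuous (K S) (FibSite.totalTopology G K)]
  [(CoGrothendieck.map α).IsContinuous (FibSite.totalTopology G K) (FibSite.totalTopology F J)] in
theorem InC.of_isPullback {S : 𝒮} {P X Y Z : Sheaf (J S) (Type u)} {fst : P ⟶ X} {snd : P ⟶ Y}
    {f : X ⟶ Z} {g : Y ⟶ Z} (sq : IsPullback fst snd f g) (hX : InC α J K S X)
    (hY : InC α J K S Y) (hZ : InC α J K S Z) : InC α J K S P := by
  let Ψ : Sheaf (J S) (Type u) ⥤ ((G.obj ⟨op S⟩)ᵒᵖ ⥤ Type u) :=
    sheafToPresheaf (J S) (Type u) ⋙ (Functor.whiskeringLeft _ _ _).obj (αS α S).op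
  have sqΨ : IsPullback (Ψ.map fst) (Ψ.map snd) (Ψ.map f) (Ψ.map g) := sq.map Ψ
  let X' : Sheaf (K S) (Type u) := ⟨Ψ.obj X, hX⟩
  let Y' : Sheaf (K S) (Type u) := ⟨Ψ.obj Y, hY⟩
  let Z' : Sheaf (K S) (Type u) := ⟨Ψ.obj Z, hZ⟩
  let f' : X' ⟶ Z' := ⟨Ψ.map f⟩
  let g' : Y' ⟶ Z' := ⟨Ψ.map g⟩
  have sq' : IsPullback ((sheafToPresheaf (K S) (Type u)).map (pullback.fst f' g'))
      ((sheafToPresheaf (K S) (Type u)).map (pullback.snd f' g')) (Ψ.map f) (Ψ.map g) :=
    (IsPullback.of_hasPullback f' g').map (sheafToPresheaf (K S) (Type u))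
  have e : Ψ.obj P ≅ (pullback f' g').obj := sqΨ.isoIsPullback _ _ sq'
  exact (Presheaf.isSheaf_of_iso_iff e).2 (pullback f' g').property

/-- Step A: the fibre functors are continuous -/
theorem isContinuous_fibre (S : 𝒮) : (αS α S).IsContinuous (K S) (J S) := by
  constructor
  intro Q
  rw [← isSheaf_iff_isSheaf_of_type]
  change InC α J K S Q
  let Φ := PhiF F J (𝟙 S)
  let L := LL F J S S
  let T1 : Sheaf (J S) (Type u) := ⊤_ _
  have sq : IsPullback ((injLL F J (𝟙 S)).app Q) (Φ.map (terminal.from Q))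
      (L.map (terminal.from Q)) ((injLL F J (𝟙 S)).app T1) :=
    VKSh.isPullback_inj (cA := Cofan.mk (L.obj Q) fun f : S ⟶ S => (injLL F J f).app Q)
      (cB := Cofan.mk (L.obj T1) fun f : S ⟶ S => (injLL F J f).app T1)
      (isVanKampenLL F J S S T1) (isColimitLL F J S S Q)
      (fun f => (PhiF F J f).map (terminal.from Q)) (L.map (terminal.from Q))
      (fun f => ((injLL F J f).naturality (terminal.from Q)).symm) (𝟙 S)
  have h1 : InC α J K S (L.obj Q) := inC_restr α J K S _
  have h0 : InC α J K S (L.obj T1) := inC_restr α J K S _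
  have h2 : InC α J K S (Φ.obj T1) := by
    have e1 : Φ.obj T1 ≅ T1 := (phiIdIso F J S).app T1
    have e2 : (FibSite.restr F J (Type u) S).obj (⊤_ _) ≅ T1 :=
      PreservesTerminal.iso (FibSite.restr F J (Type u) S)
    exact (inC_restr α J K S (⊤_ _)).of_iso α J K (e2 ≪≫ e1.symm)
  have h3 : InC α J K S (Φ.obj Q) := InC.of_isPullback α J K sq h1 h2 h0
  exact h3.of_iso α J K ((phiIdIso F J S).app Q)

end StepA

section StepC
variable
  [∀ S, (ι F S).IsContinuous (J S) (FibSite.totalTopology F J)]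
  [∀ S, (ι F S).IsCocontinuous (J S) (FibSite.totalTopology F J)]
  [∀ S, (ι G S).IsContinuous (K S) (FibSite.totalTopology G K)]
  [∀ S, (ι G S).IsCocontinuous (K S) (FibSite.totalTopology G K)]
  [∀ (R S : 𝒮) (f : R ⟶ S), (FibSite.invImage G f).IsContinuous (K S) (K R)]
  [(CoGrothendieck.map α).IsContinuous (FibSite.totalTopology G K) (FibSite.totalTopology F J)]
  [∀ S, (αS α S).IsContinuous (K S) (J S)]

/-- Step C: the inverse images along the fibre functors are left exact -/
theorem preservesFiniteLimits_fibre (hG : FibSite.IsFibSite G K)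
    [PreservesFiniteLimits ((CoGrothendieck.map α).sheafPullback (Type u)
      (FibSite.totalTopology G K) (FibSite.totalTopology F J))] (S : 𝒮) :
    PreservesFiniteLimits ((αS α S).sheafPullback (Type u) (K S) (J S)) := by
  let Λ := (αS α S).sheafPullback (Type u) (K S) (J S)
  let Ms := (CoGrothendieck.map α).sheafPullback (Type u)
    (FibSite.totalTopology G K) (FibSite.totalTopology F J)
  let adjP := (CoGrothendieck.map α).sheafAdjunctionContinuous (Type u)
    (FibSite.totalTopology G K) (FibSite.totalTopology F J)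
  let adjF := (ι F S).sheafAdjunctionCocontinuous (Type u) (J S) (FibSite.totalTopology F J)
  let adjL := adjP.comp adjF
  let adjG := (ι G S).sheafAdjunctionCocontinuous (Type u) (K S) (FibSite.totalTopology G K)
  let adjα := (αS α S).sheafAdjunctionContinuous (Type u) (K S) (J S)
  let adjR := adjG.comp adjα
  haveI := isIso_ΘN α J K S
  let iso := asIso (ΘN α J K S)
  let e : Ms ⋙ FibSite.restr F J (Type u) S ≅ FibSite.restr G K (Type u) S ⋙ Λ :=
    adjL.leftAdjointUniq (adjR.ofNatIsoRight iso.symm)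
  haveI : PreservesFiniteLimits (FibSite.restr F J (Type u) S) := by
    haveI : PreservesLimitsOfSize.{0, 0} (FibSite.restr F J (Type u) S) := inferInstance
    exact PreservesLimitsOfSize.preservesFiniteLimits _
  haveI : PreservesFiniteLimits (FibSite.restr G K (Type u) S) := by
    haveI : PreservesLimitsOfSize.{0, 0} (FibSite.restr G K (Type u) S) := inferInstance
    exact PreservesLimitsOfSize.preservesFiniteLimits _
  have hext : PreservesLimitsOfShape WalkingCospan (FibSite.extend G K (Type u) S) := by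
    apply preservesCospan_of_restr G K
    intro T
    apply VKSh.PresPB.preserves
    apply VKSh.presPB_of_summands (LL G K S T) (fun f => PhiF G K f) (fun f => injLL G K f)
      (isColimitLL G K S T) (isVanKampenLL G K S T)
    intro f
    obtain ⟨_, _, h3⟩ := hG f
    haveI := h3
    exact VKSh.presPB_of_preserves _
  have h3 : VKSh.PresPB (FibSite.extend G K (Type u) S ⋙ Ms ⋙ FibSite.restr F J (Type u) S) :=
    (VKSh.presPB_of_preserves _).comp ((VKSh.presPB_of_preserves Ms).comp
      (VKSh.presPB_of_preserves _))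
  have h4 : VKSh.PresPB (LL G K S S ⋙ Λ) :=
    h3.of_iso (Functor.isoWhiskerLeft (FibSite.extend G K (Type u) S) e ≪≫
      (Functor.associator _ _ _).symm)
  haveI : PreservesColimitsOfSize.{u, u} Λ := adjα.leftAdjoint_preservesColimits
  have h5 : VKSh.PresPB (PhiF G K (𝟙 S) ⋙ Λ) :=
    VKSh.presPB_summand (LL G K S S ⋙ Λ) (fun f : S ⟶ S => PhiF G K f ⋙ Λ)
      (fun f => Functor.whiskerRight (injLL G K f) Λ)
      (fun a => isColimitCofanMkObjOfIsColimit Λ _ _ (isColimitLL G K S S a))
      (fun a => VKSh.isVanKampenColimit_sheaf (J S) _ _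
        (isColimitCofanMkObjOfIsColimit Λ _ _ (isColimitLL G K S S a)))
      h4 (𝟙 S)
  have h6 : VKSh.PresPB Λ :=
    h5.of_iso (Functor.isoWhiskerRight (phiIdIso G K S) Λ ≪≫ Functor.leftUnitor Λ)
  haveI : PreservesLimitsOfShape WalkingCospan Λ := h6.preserves
  haveI : PreservesLimit (Functor.empty.{0} (Sheaf (K S) (Type u))) Λ := by
    haveI : PreservesFiniteLimits (Ms ⋙ FibSite.restr F J (Type u) S) :=
      comp_preservesFiniteLimits _ _
    let T0 : Sheaf (FibSite.totalTopology G K) (Type u) := ⊤_ _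
    have i1 : (FibSite.restr G K (Type u) S).obj T0 ≅ ⊤_ _ := PreservesTerminal.iso _
    have i2 : (Ms ⋙ FibSite.restr F J (Type u) S).obj T0 ≅ ⊤_ _ := PreservesTerminal.iso _
    exact preservesTerminal_of_iso Λ (Λ.mapIso i1.symm ≪≫ (e.app T0).symm ≪≫ i2)
  haveI : PreservesLimitsOfShape (Discrete.{0} PEmpty) Λ :=
    preservesLimitsOfShape_pempty_of_preservesTerminal Λ
  exact preservesFiniteLimits_of_preservesTerminal_and_pullbacks Λ

end StepC

theorem mainConv (hF : FibSite.IsFibSite F J) (hG : FibSite.IsFibSite G K)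
    (hα : ∃ (_ : (Pseudofunctor.CoGrothendieck.map α).IsContinuous
        (FibSite.totalTopology G K) (FibSite.totalTopology F J))
      (_ : ((Pseudofunctor.CoGrothendieck.map α).sheafPushforwardContinuous (Type u)
        (FibSite.totalTopology G K) (FibSite.totalTopology F J)).IsRightAdjoint),
      PreservesFiniteLimits ((Pseudofunctor.CoGrothendieck.map α).sheafPullback (Type u)
        (FibSite.totalTopology G K) (FibSite.totalTopology F J))) (S : 𝒮) :
    ∃ (_ : (α.app ⟨op S⟩).toFunctor.IsContinuous (K S) (J S))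
      (_ : ((α.app ⟨op S⟩).toFunctor.sheafPushforwardContinuous (Type u) (K S) (J S)).IsRightAdjoint),
      PreservesFiniteLimits ((α.app ⟨op S⟩).toFunctor.sheafPullback (Type u) (K S) (J S)) := by
  obtain ⟨hM, hR, hE⟩ := hα
  haveI : ∀ S, (ι F S).IsContinuous (J S) (FibSite.totalTopology F J) :=
    fun S => FibSiteLib.isContinuous_ι F J hF.isPreFibSite S
  haveI : ∀ S, (ι G S).IsContinuous (K S) (FibSite.totalTopology G K) :=
    fun S => FibSiteLib.isContinuous_ι G K hG.isPreFibSite S
  haveI : ∀ S, (ι F S).IsCocontinuous (J S) (FibSite.totalTopology F J) :=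
    fun S => Groth.Agent.S13510.result F J hF.isPreFibSite S
  haveI : ∀ S, (ι G S).IsCocontinuous (K S) (FibSite.totalTopology G K) :=
    fun S => Groth.Agent.S13510.result G K hG.isPreFibSite S
  haveI : ∀ (R S : 𝒮) (f : R ⟶ S), (FibSite.invImage F f).IsContinuous (J S) (J R) :=
    fun R S f => hF.isPreFibSite f
  haveI : ∀ (R S : 𝒮) (f : R ⟶ S), (FibSite.invImage G f).IsContinuous (K S) (K R) :=
    fun R S f => hG.isPreFibSite f
  haveI hcont : ∀ S, (αS α S).IsContinuous (K S) (J S) := fun S => isContinuous_fibre α J K S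
  refine ⟨hcont S, inferInstance, ?_⟩
  exact preservesFiniteLimits_fibre α J K hG S

end Groth.Agent.Helper6.FibKan
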