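import Mathlib
import Groth.Prelude.Def_FibSite
import Groth.Agent.Helper6.FibKan6

/-!
# Helper6: a class of sheaves on a fibre which is closed under isomorphisms and pullbacks and
contains the restrictions of the sheaves on the total site contains every sheaf;
local isomorphisms on a fibre are detected after left Kan extension to the total site
-/

set_option autoImplicit false
set_option backward.isDefEq.respectTransparency false
set_option backward.defeqAttrib.useBackward true
universe u
open CategoryTheory CategoryTheory.Limits Opposite Pseudofunctor Pseudofunctor.CoGrothendieck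

namespace Groth.Agent.Helper6.FibKan

variable {𝒮 : Type u} [SmallCategory 𝒮]
  (F : Pseudofunctor (LocallyDiscrete 𝒮ᵒᵖ) Cat.{u, u}) (J : FibSite.Topologies F)

section
variable
  [∀ S, (ι F S).IsContinuous (J S) (FibSite.totalTopology F J)]
  [∀ S, (ι F S).IsCocontinuous (J S) (FibSite.totalTopology F J)]
  [∀ (R S : 𝒮) (f : R ⟶ S), (FibSite.invImage F f).IsContinuous (J S) (J R)]

theorem forall_of_restr (S : 𝒮) (𝒞 : Sheaf (J S) (Type u) → Prop)
    (hiso : ∀ ⦃Q Q' : Sheaf (J S) (Type u)⦄, 𝒞 Q → (Q ≅ Q') → 𝒞 Q')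
    (hpb : ∀ ⦃P X Y Z : Sheaf (J S) (Type u)⦄ ⦃fst : P ⟶ X⦄ ⦃snd : P ⟶ Y⦄ ⦃f : X ⟶ Z⦄
      ⦃g : Y ⟶ Z⦄, IsPullback fst snd f g → 𝒞 X → 𝒞 Y → 𝒞 Z → 𝒞 P)
    (hres : ∀ P : Sheaf (FibSite.totalTopology F J) (Type u),
      𝒞 ((FibSite.restr F J (Type u) S).obj P))
    (Q : Sheaf (J S) (Type u)) : 𝒞 Q := by
  let Φ := PhiF F J (𝟙 S)
  let L := LL F J S S
  let T1 : Sheaf (J S) (Type u) := ⊤_ _
  have sq : IsPullback ((injLL F J (𝟙 S)).app Q) (Φ.map (terminal.from Q))
      (L.map (terminal.from Q)) ((injLL F J (𝟙 S)).app T1) :=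
    VKSh.isPullback_inj (cA := Cofan.mk (L.obj Q) fun f : S ⟶ S => (injLL F J f).app Q)
      (cB := Cofan.mk (L.obj T1) fun f : S ⟶ S => (injLL F J f).app T1)
      (isVanKampenLL F J S S T1) (isColimitLL F J S S Q)
      (fun f => (PhiF F J f).map (terminal.from Q)) (L.map (terminal.from Q))
      (fun f => ((injLL F J f).naturality (terminal.from Q)).symm) (𝟙 S)
  have h1 : 𝒞 (L.obj Q) := hres _
  have h0 : 𝒞 (L.obj T1) := hres _
  have h2 : 𝒞 (Φ.obj T1) := by
    have e1 : Φ.obj T1 ≅ T1 := (phiIdIso F J S).app T1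
    have e2 : (FibSite.restr F J (Type u) S).obj (⊤_ _) ≅ T1 :=
      PreservesTerminal.iso (FibSite.restr F J (Type u) S)
    exact hiso (hres (⊤_ _)) (e2 ≪≫ e1.symm)
  have h3 : 𝒞 (Φ.obj Q) := hpb sq h1 h2 h0
  exact hiso h3 ((phiIdIso F J S).app Q)

end

theorem W_iff_W_lan (hF : FibSite.IsPreFibSite F J) (i : 𝒮)
    {R : (F.obj ⟨op i⟩)ᵒᵖ ⥤ Type u} {U : F.obj ⟨op i⟩} (u : R ⟶ yoneda.obj U) :
    (J i).W u ↔ (FibSite.totalTopology F J).W (((ι F i).op.lan (H := Type u)).map u) := by
  haveI : ∀ S, (ι F S).IsContinuous (J S) (FibSite.totalTopology F J) :=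
    fun S => FibSiteLib.isContinuous_ι F J hF S
  haveI : ∀ S, (ι F S).IsCocontinuous (J S) (FibSite.totalTopology F J) :=
    fun S => Groth.Agent.S13510.result F J hF S
  haveI : ∀ (R S : 𝒮) (f : R ⟶ S), (FibSite.invImage F f).IsContinuous (J S) (J R) :=
    fun R S f => hF f
  let adj := (ι F i).op.lanAdjunction (Type u)
  constructor
  · intro hu
    exact Functor.W_map_of_adjunction_of_isContinuous (J := J i)
      (K := FibSite.totalTopology F J) (ι F i) _ adj u hu
  · intro h Z hZ
    refine forall_of_restr F J i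
      (fun Q => Function.Bijective (fun g : yoneda.obj U ⟶ Q.obj => u ≫ g)) ?_ ?_ ?_ ⟨Z, hZ⟩
    · intro Q Q' hQ e
      let e' : Q.obj ≅ Q'.obj := (sheafToPresheaf _ _).mapIso e
      constructor
      · intro g g' hgg
        have h1 : u ≫ (g ≫ e'.inv) = u ≫ (g' ≫ e'.inv) := by
          rw [← Category.assoc, ← Category.assoc]
          exact congrArg (fun t => t ≫ e'.inv) hgg
        have h2 := hQ.1 h1
        calc g = (g ≫ e'.inv) ≫ e'.hom := by rw [Category.assoc, e'.inv_hom_id, Category.comp_id]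
          _ = (g' ≫ e'.inv) ≫ e'.hom := by rw [h2]
          _ = g' := by rw [Category.assoc, e'.inv_hom_id, Category.comp_id]
      · intro k
        obtain ⟨g, hg⟩ := hQ.2 (k ≫ e'.inv)
        refine ⟨g ≫ e'.hom, ?_⟩
        change u ≫ g ≫ e'.hom = k
        have hg' : u ≫ g = k ≫ e'.inv := hg
        rw [← Category.assoc, hg', Category.assoc, e'.inv_hom_id, Category.comp_id]
    · intro P X Y Z' fst snd f g sq hX hY hZ'
      have sqp : IsPullback ((sheafToPresheaf (J i) (Type u)).map fst)
          ((sheafToPresheaf (J i) (Type u)).map snd) ((sheafToPresheaf (J i) (Type u)).map f)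
          ((sheafToPresheaf (J i) (Type u)).map g) := sq.map (sheafToPresheaf (J i) (Type u))
      constructor
      · intro a a' haa
        have haa' : u ≫ a = u ≫ a' := haa
        apply sqp.hom_ext
        · apply hX.1
          change u ≫ a ≫ _ = u ≫ a' ≫ _
          rw [← Category.assoc, haa', Category.assoc]
        · apply hY.1
          change u ≫ a ≫ _ = u ≫ a' ≫ _
          rw [← Category.assoc, haa', Category.assoc]
      · intro k
        obtain ⟨a, ha⟩ := hX.2 (k ≫ (sheafToPresheaf (J i) (Type u)).map fst)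
        obtain ⟨b, hb⟩ := hY.2 (k ≫ (sheafToPresheaf (J i) (Type u)).map snd)
        have ha' : u ≫ a = k ≫ (sheafToPresheaf (J i) (Type u)).map fst := ha
        have hb' : u ≫ b = k ≫ (sheafToPresheaf (J i) (Type u)).map snd := hb
        have hab : a ≫ (sheafToPresheaf (J i) (Type u)).map f =
            b ≫ (sheafToPresheaf (J i) (Type u)).map g := by
          apply hZ'.1
          change u ≫ a ≫ _ = u ≫ b ≫ _
          rw [← Category.assoc, ha', ← Category.assoc, hb', Category.assoc, Category.assoc, sqp.w]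
        refine ⟨sqp.lift a b hab, ?_⟩
        change u ≫ sqp.lift a b hab = k
        apply sqp.hom_ext
        · rw [Category.assoc, sqp.lift_fst, ha']
        · rw [Category.assoc, sqp.lift_snd, hb']
    · intro P
      have h1 := h P.obj P.property
      rwa [adj.map_comp_bijective_iff] at h1

end Groth.Agent.Helper6.FibKan
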