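import Mathlib
import Groth.Prelude.Def_FibSite

/-!
# Helper6: the inclusion of the fibre over a terminal object is fully faithful
-/

set_option autoImplicit false
universe v₂ u₂ v₁ u₁
open CategoryTheory CategoryTheory.Limits Opposite Pseudofunctor Pseudofunctor.CoGrothendieck Bicategory

namespace Groth.Agent.Helper6.FibSiteLib

variable {𝒮 : Type u₁} [Category.{v₁} 𝒮] (F : Pseudofunctor (LocallyDiscrete 𝒮ᵒᵖ) Cat.{v₂, u₂})

set_option backward.isDefEq.respectTransparency false in
set_option backward.defeqAttrib.useBackward true in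
theorem faithful_ι (i : 𝒮) : (ι F i).Faithful := by
  refine ⟨fun {V V'} r r' h => ?_⟩
  have hfib := Hom.congr h
  simp at hfib
  have h3 : (F.mapId ⟨op i⟩).inv.toNatTrans.app V' ≫ (F.mapId ⟨op i⟩).hom.toNatTrans.app V' = 𝟙 _ := by
    rw [← Cat.Hom₂.comp_app]
    simp
  have k : ∀ s : V ⟶ V', s = (s ≫ (F.mapId ⟨op i⟩).inv.toNatTrans.app V') ≫
      (F.mapId ⟨op i⟩).hom.toNatTrans.app V' := by
    intro s
    rw [Category.assoc, h3]
    exact (Category.comp_id s).symm
  rw [k r, k r', hfib]

set_option backward.isDefEq.respectTransparency false in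
set_option backward.defeqAttrib.useBackward true in
theorem full_ι (i : 𝒮) (hi : IsTerminal i) : (ι F i).Full := by
  refine ⟨fun {V V'} a => ?_⟩
  obtain ⟨b, α⟩ := a
  change i ⟶ i at b
  have hb : 𝟙 i = b := hi.hom_ext _ _
  subst hb
  refine ⟨α ≫ (F.mapId ⟨op i⟩).hom.toNatTrans.app V', ?_⟩
  refine Hom.ext _ _ rfl ?_
  simp

end Groth.Agent.Helper6.FibSiteLib
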