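import Mathlib

/-!
# `(κ ⊗[A] B) ⊗[B] M ≃ κ ⊗[A] M`, naturally in the `B`-module `M`
-/

set_option autoImplicit false
universe u

open TensorProduct

namespace Groth.Agent.Helper6.FibreEquiv

variable {A B : Type u} [CommRing A] [CommRing B] [Algebra A B] (κ : Type u) [CommRing κ]
  [Algebra A κ]

attribute [local instance] Algebra.TensorProduct.rightAlgebra

/-- the swap `κ ⊗[A] B ≃ B ⊗[A] κ` is `B`-linear -/
noncomputable def commB : (κ ⊗[A] B) ≃ₗ[B] (B ⊗[A] κ) :=
  { (TensorProduct.comm A κ B).toAddEquiv with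
    map_smul' := by
      intro b t
      show (TensorProduct.comm A κ B) (b • t) = b • (TensorProduct.comm A κ B) t
      induction t using TensorProduct.induction_on with
      | zero => simp
      | tmul x y =>
        simp [Algebra.smul_def, Algebra.TensorProduct.right_algebraMap_apply, smul_tmul']
      | add x y hx hy =>
        rw [smul_add, map_add, map_add, smul_add, hx, hy] }

@[simp] lemma commB_tmul (x : κ) (b : B) : commB (A := A) κ (x ⊗ₜ[A] b) = b ⊗ₜ[A] x := rfl

variable (M : Type u) [AddCommGroup M] [Module A M] [Module B M] [IsScalarTower A B M]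

/-- `(κ ⊗[A] B) ⊗[B] M ≃ κ ⊗[A] M` -/
noncomputable def fibreEquiv : ((κ ⊗[A] B) ⊗[B] M) ≃+ (κ ⊗[A] M) :=
  ((TensorProduct.comm B (κ ⊗[A] B) M).toAddEquiv.trans
    ((TensorProduct.congr (LinearEquiv.refl B M) (commB (A := A) κ)).toAddEquiv)).trans
    (((TensorProduct.AlgebraTensorModule.cancelBaseChange A B B M κ).toAddEquiv).trans
      (TensorProduct.comm A M κ).toAddEquiv)

@[simp] lemma fibreEquiv_tmul (x : κ) (b : B) (m : M) :
    fibreEquiv (A := A) (B := B) κ M ((x ⊗ₜ[A] b) ⊗ₜ[B] m) = x ⊗ₜ[A] (b • m) := by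
  simp [fibreEquiv]

end Groth.Agent.Helper6.FibreEquiv
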