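import Mathlib
import Groth.Prelude.Def_Wider
import Groth.Prelude.Def_DRing2
import Groth.Prelude.Def_DDual2
import Groth.Agent.Helper3.DRingRestr
import Groth.Agent.Helper6.LBCJac
import Groth.Agent.Helper6.TorAmpPd
import Groth.Agent.Helper6.FibreEquiv

/-!
# Fibres of a complex over a flat algebra whose fibre rings have finite global dimension
-/

set_option autoImplicit false
universe u

open CategoryTheory Limits DerivedCategory TensorProduct
attribute [local instance] HasDerivedCategory.standard

namespace Groth.Agent.Helper6.FibreGl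

open Groth.Agent.Helper3.DRingLib Groth.Agent.Helper6.LBCCompute Groth.Agent.Helper6.LBCFibre
  Groth.Agent.Helper6.LBCFibreGlobal Groth.Agent.Helper6.LBCJac Groth.Agent.Helper6.FibreEquiv

variable {A B : Type u} [CommRing A] [CommRing B] [Algebra A B] (κ : Type u) [CommRing κ]
  [Algebra A κ]

attribute [local instance] Algebra.TensorProduct.rightAlgebra

section modules

variable {M M' M'' : Type u} [AddCommGroup M] [Module A M] [Module B M] [IsScalarTower A B M]
  [AddCommGroup M'] [Module A M'] [Module B M'] [IsScalarTower A B M']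
  [AddCommGroup M''] [Module A M''] [Module B M''] [IsScalarTower A B M'']

lemma fibreEquiv_natural (f : M →ₗ[B] M') (t : (κ ⊗[A] B) ⊗[B] M) :
    fibreEquiv (A := A) κ M' (f.lTensor (κ ⊗[A] B) t) =
      (f.restrictScalars A).lTensor κ (fibreEquiv (A := A) κ M t) := by
  induction t using TensorProduct.induction_on with
  | zero => simp
  | add x y hx hy => rw [map_add, map_add, map_add, map_add, hx, hy]
  | tmul c m =>
    induction c using TensorProduct.induction_on with
    | zero => simp
    | add x y hx hy =>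
      rw [add_tmul, map_add, map_add, map_add, map_add, hx, hy]
    | tmul x b => simp

lemma exact_lTensor_fibre (f : M →ₗ[B] M') (g : M' →ₗ[B] M'')
    (h : Function.Exact ((f.restrictScalars A).lTensor κ) ((g.restrictScalars A).lTensor κ)) :
    Function.Exact (f.lTensor (κ ⊗[A] B)) (g.lTensor (κ ⊗[A] B)) := by
  intro y
  constructor
  · intro hy
    have h1 : (g.restrictScalars A).lTensor κ (fibreEquiv (A := A) κ M' y) = 0 := by
      rw [← fibreEquiv_natural, hy, map_zero]
    obtain ⟨x, hx⟩ := (h _).1 h1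
    refine ⟨(fibreEquiv (A := A) κ M).symm x, ?_⟩
    apply (fibreEquiv (A := A) κ M').injective
    rw [fibreEquiv_natural, AddEquiv.apply_symm_apply, hx]
  · rintro ⟨x, rfl⟩
    apply (fibreEquiv (A := A) κ M'').injective
    rw [fibreEquiv_natural, fibreEquiv_natural, map_zero]
    exact (h _).2 ⟨_, rfl⟩

end modules

/-- transfer of exactness of the fibre: from `κ ⊗[A] E` to `(κ ⊗[A] B) ⊗[B] E` -/
lemma exactAt_fibre (E : DRing.Cx B) (j : ℤ)
    (h : ((bcCx A κ).obj ((rCx (algebraMap A B)).obj E)).ExactAt j) :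
    ((bcCx B (κ ⊗[A] B)).obj E).ExactAt j := by
  have h1 := exact_lTensor_of_exactAt_bcCx κ ((rCx (algebraMap A B)).obj E) (j - 1) j (j + 1)
    (by omega) rfl h
  apply exactAt_bcCx_of_exact_lTensor (κ ⊗[A] B) E (j - 1) j (j + 1) (by omega) rfl
  letI : Module A (E.X (j - 1)) := Module.compHom (E.X (j - 1)) (algebraMap A B)
  letI : Module A (E.X j) := Module.compHom (E.X j) (algebraMap A B)
  letI : Module A (E.X (j + 1)) := Module.compHom (E.X (j + 1)) (algebraMap A B)
  haveI : IsScalarTower A B (E.X (j - 1)) := IsScalarTower.of_algebraMap_smul (fun r m => rfl)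
  haveI : IsScalarTower A B (E.X j) := IsScalarTower.of_algebraMap_smul (fun r m => rfl)
  haveI : IsScalarTower A B (E.X (j + 1)) := IsScalarTower.of_algebraMap_smul (fun r m => rfl)
  have i1 : IsScalarTower A B (E.X (j - 1)) := inferInstance
  have := @exact_lTensor_fibre A B _ _ _ κ _ _ (E.X (j - 1)) (E.X j) (E.X (j + 1)) _ _ _ _ _ _ _ _ _ _ _ _
    (E.d (j - 1) j).hom (E.d j (j + 1)).hom h1
  exact this

section gl

variable {C L : Type u} [CommRing C] [CommRing L] (ψ : C →+* L)

/-- over a ring of global dimension `≤ d`, a bounded above complex of flat modules with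
cohomology in `[a, b]` has all its base changes with cohomology in `[a - d, b]` -/
theorem exactAt_bcCxF_of_globalDim (d : ℕ)
    (hgl : ∀ (M : Type u) [AddCommGroup M] [Module C M],
      HasProjectiveDimensionLT (ModuleCat.of C M) (d + 1))
    (F : DRing.Cx C) (b₀ : ℤ) (hv : DRing.VanishesAbove F b₀) (hf : DRing.TermwiseFlat F)
    (a b : ℤ) (h : ∀ i : ℤ, (i < a ∨ b < i) → F.ExactAt i) (i : ℤ) (hi : i < a - d ∨ b < i) :
    ((bcCxF ψ).obj F).ExactAt i := by
  have hHD : ∀ i : ℤ, (i < a ∨ b < i) → Subsingleton (Dual.HD C (DRing.toD F) i) := by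
    intro i hi
    have h1 := h i hi
    rw [HomologicalComplex.exactAt_iff_isZero_homology] at h1
    exact ModuleCat.subsingleton_of_isZero (h1.of_iso (homologyToDIso F i))
  have hta := (Groth.Agent.Helper6.TorAmpPd.main d hgl).2 (DRing.toD F) a b hHD
  rw [hasTorAmplitudeIn_iff'] at hta
  obtain ⟨hle, hge⟩ := hta
  letI : Algebra C L := ψ.toAlgebra
  have key : (DRing.tensorCx F (ModuleCat.of C L)).ExactAt i := by
    rcases hi with hi | hi
    · exact hge.forall_rep F b₀ hv hf (Iso.refl _) _ i hi
    · obtain ⟨P, hP, pP, ⟨e⟩⟩ := exists_projective_rep (DRing.toD F) b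
      have fP : DRing.TermwiseFlat P := fun i => by
        have := pP i
        infer_instance
      rw [← exactAt_tensorCx_iff_of_iso b b₀ hP hv fP hf e (ModuleCat.of C L) i]
      exact exactAt_of_isZero_X _ i (tensorCx_isZero_X P _ i (hP i hi))
  exact exactAt_bcCx_of_exactAt_tensorCx L F i key

end gl

section main

variable {L : Type u} [CommRing L] (χ : (κ ⊗[A] B) →+* L)

/-- if the fibre ring `κ ⊗[A] B` has global dimension `≤ d` and `κ ⊗[A] E` has cohomology in
`[a, b]`, then every base change of `E` factoring through `κ ⊗[A] B` has cohomology in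
`[a - d, b]` -/
theorem exactAt_of_fibre (d : ℕ)
    (hgl : ∀ (M : Type u) [AddCommGroup M] [Module (κ ⊗[A] B) M],
      HasProjectiveDimensionLT (ModuleCat.of (κ ⊗[A] B) M) (d + 1))
    (E : DRing.Cx B) (b₀ : ℤ) (hv : DRing.VanishesAbove E b₀) (hf : DRing.TermwiseFlat E)
    (a b : ℤ)
    (h : ∀ i : ℤ, (i < a ∨ b < i) →
      ((bcCx A κ).obj ((rCx (algebraMap A B)).obj E)).ExactAt i)
    (i : ℤ) (hi : i < a - d ∨ b < i) :
    ((bcCxF (χ.comp (algebraMap B (κ ⊗[A] B)))).obj E).ExactAt i := by
  have h1 := exactAt_bcCxF_of_globalDim χ d hgl ((bcCx B (κ ⊗[A] B)).obj E) b₀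
    (bcCx_vanishesAbove (κ ⊗[A] B) E b₀ hv) (bcCx_termwiseFlat (κ ⊗[A] B) E hf) a b
    (fun j hj => exactAt_fibre κ E j (h j hj)) i hi
  exact exactAt_of_iso (bcCxFComp (algebraMap B (κ ⊗[A] B)) χ E).symm i h1

end main

end Groth.Agent.Helper6.FibreGl
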