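import Mathlib
import Groth.Agent.Helper6.FibreGl

/-!
# Tensor exactness from tor amplitude, for bounded above flat representatives
-/

set_option autoImplicit false
universe u

open CategoryTheory Limits DerivedCategory TensorProduct
attribute [local instance] HasDerivedCategory.standard

namespace Groth.Agent.Helper6.FibreGl

open Groth.Agent.Helper3.DRingLib Groth.Agent.Helper6.LBCCompute Groth.Agent.Helper6.LBCFibre
  Groth.Agent.Helper6.LBCFibreGlobal Groth.Agent.Helper6.LBCJac

variable {C : Type u} [CommRing C]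

theorem exactAt_tensorCx_of_hasTorAmplitudeIn (F : DRing.Cx C) (b₀ : ℤ)
    (hv : DRing.VanishesAbove F b₀) (hf : DRing.TermwiseFlat F) (a b : ℤ)
    (hta : DRing.HasTorAmplitudeIn C a b (DRing.toD F)) (N : ModuleCat.{u} C) (i : ℤ)
    (hi : i < a ∨ b < i) : (DRing.tensorCx F N).ExactAt i := by
  rw [hasTorAmplitudeIn_iff'] at hta
  obtain ⟨hle, hge⟩ := hta
  rcases hi with hi | hi
  · exact hge.forall_rep F b₀ hv hf (Iso.refl _) _ i hi
  · obtain ⟨P, hP, pP, ⟨e⟩⟩ := exists_projective_rep (DRing.toD F) b
    have fP : DRing.TermwiseFlat P := fun i => by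
      have := pP i
      infer_instance
    rw [← exactAt_tensorCx_iff_of_iso b b₀ hP hv fP hf e N i]
    exact exactAt_of_isZero_X _ i (tensorCx_isZero_X P _ i (hP i hi))

end Groth.Agent.Helper6.FibreGl
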