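import Groth.Agent.Helper9.FM3
import Groth.Prelude.Def_SpSeq
import Mathlib

/-!
# Pullbacks and pushouts of filtered objects of an abelian category, and strictness of the
projections (via the Freyd–Mitchell toolkit of Helper9)
-/

set_option autoImplicit false
set_option linter.style.haveILetI false
set_option linter.unusedSectionVars false

namespace Groth.Agent.Helper6.FilPB

open CategoryTheory CategoryTheory.Limits SpSeq SpSeq.FilObj
open Groth.Agent.Helper9.FM

universe v u

section General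

variable {C : Type u} [Category.{v} C] [Abelian C]

theorem fst_inl_apply {X Y : C} (x : (F C).obj X) :
    m (biprod.fst : X ⊞ Y ⟶ X) (m (biprod.inl : X ⟶ X ⊞ Y) x) = x := by
  rw [← m_comp_apply, biprod.inl_fst, m_id]; rfl

theorem fst_inr_apply {X Y : C} (y : (F C).obj Y) :
    m (biprod.fst : X ⊞ Y ⟶ X) (m (biprod.inr : Y ⟶ X ⊞ Y) y) = 0 := by
  rw [← m_comp_apply, biprod.inr_fst, m_zero]; rfl

theorem snd_inl_apply {X Y : C} (x : (F C).obj X) :
    m (biprod.snd : X ⊞ Y ⟶ Y) (m (biprod.inl : X ⟶ X ⊞ Y) x) = 0 := by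
  rw [← m_comp_apply, biprod.inl_snd, m_zero]; rfl

theorem snd_inr_apply {X Y : C} (y : (F C).obj Y) :
    m (biprod.snd : X ⊞ Y ⟶ Y) (m (biprod.inr : Y ⟶ X ⊞ Y) y) = y := by
  rw [← m_comp_apply, biprod.inr_snd, m_id]; rfl

theorem exists_of_isPullback {P X Y Z : C} {fst : P ⟶ X} {snd : P ⟶ Y} {f : X ⟶ Z} {g : Y ⟶ Z}
    (h : IsPullback fst snd f g) (x : (F C).obj X) (y : (F C).obj Y) (hxy : m f x = m g y) :
    ∃ p, m fst p = x ∧ m snd p = y := by
  have hex := h.exact_shortComplex'
  rw [exact_iff] at hex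
  have hex' : ∀ z, m (biprod.desc f (-g)) z = 0 → ∃ p, m (biprod.lift fst snd) p = z := hex
  obtain ⟨p, hp⟩ := hex' (m biprod.inl x + m biprod.inr y) (by
    rw [map_add, ← m_comp_apply, ← m_comp_apply, biprod.inl_desc, biprod.inr_desc, m_neg,
      LinearMap.neg_apply, hxy, add_neg_cancel])
  refine ⟨p, ?_, ?_⟩
  · have := congrArg (m biprod.fst) hp
    rw [biprod_lift_fst_apply, map_add, fst_inl_apply, fst_inr_apply, add_zero] at this
    exact this
  · have := congrArg (m biprod.snd) hp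
    rw [biprod_lift_snd_apply, map_add, snd_inl_apply, snd_inr_apply, zero_add] at this
    exact this

theorem exists_of_isPushout {X₁ X₂ X₃ X₄ : C} {f : X₁ ⟶ X₂} {g : X₁ ⟶ X₃} {inl : X₂ ⟶ X₄}
    {inr : X₃ ⟶ X₄} (h : IsPushout f g inl inr) (x : (F C).obj X₂) (y : (F C).obj X₃)
    (hxy : m inl x + m inr y = 0) : ∃ k, m f k = x ∧ m g k = -y := by
  have hex := h.exact_shortComplex
  rw [exact_iff] at hex
  have hex' : ∀ z, m (biprod.desc inl inr) z = 0 → ∃ p, m (biprod.lift f (-g)) p = z := hex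
  obtain ⟨k, hk⟩ := hex' (m biprod.inl x + m biprod.inr y) (by
    rw [map_add, ← m_comp_apply, ← m_comp_apply, biprod.inl_desc, biprod.inr_desc, hxy])
  refine ⟨k, ?_, ?_⟩
  · have := congrArg (m biprod.fst) hk
    rw [biprod_lift_fst_apply, map_add, fst_inl_apply, fst_inr_apply, add_zero] at this
    exact this
  · have := congrArg (m biprod.snd) hk
    rw [biprod_lift_snd_apply, map_add, snd_inl_apply, snd_inr_apply, zero_add, m_neg,
      LinearMap.neg_apply] at this
    rw [← this, neg_neg]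

end General

variable {A : Type u} [Category.{v} A] [Abelian A]

theorem comp_hom {K L M : FilObj A} (f : K ⟶ L) (g : L ⟶ M) : (f ≫ g).hom = f.hom ≫ g.hom := rfl

theorem id_hom (K : FilObj A) : (𝟙 K : K ⟶ K).hom = 𝟙 K.obj := rfl

/-- compatibility with the filtrations, in module language -/
theorem compat_iff {X Y : FilObj A} (h : X.obj ⟶ Y.obj) (p : ℤ) :
    X.fil p ≤ (Subobject.pullback h).obj (Y.fil p) ↔
      (sub (X.fil p)).map (m h) ≤ sub (Y.fil p) := by
  rw [sub_le_iff, sub_pullback, Submodule.map_le_iff_le_comap]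

theorem map_le {X Y : FilObj A} (h : X ⟶ Y) (p : ℤ) :
    (sub (X.fil p)).map (m h.hom) ≤ sub (Y.fil p) :=
  (compat_iff h.hom p).1 (h.compat p)

theorem mem_of_mem {X Y : FilObj A} (h : X ⟶ Y) (p : ℤ) {x : (F A).obj X.obj}
    (hx : x ∈ sub (X.fil p)) : m h.hom x ∈ sub (Y.fil p) :=
  map_le h p ⟨x, hx, rfl⟩

theorem isStrict_iff {K L : FilObj A} (f : K ⟶ L) :
    IsStrict f ↔ ∀ p, (sub (K.fil p)).map (m f.hom) = LinearMap.range (m f.hom) ⊓ sub (L.fil p) := by
  unfold IsStrict
  refine forall_congr' fun p => ?_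
  rw [eq_iff_sub_eq, sub_image_comp, Groth.Agent.Helper9.FM.sub_inf, sub_image]

theorem iso_hom_inv_apply {X Y : FilObj A} (e : X ≅ Y) (x : (F A).obj X.obj) :
    m e.inv.hom (m e.hom.hom x) = x := by
  rw [← m_comp_apply, ← comp_hom, e.hom_inv_id, id_hom, m_id]; rfl

theorem iso_inv_hom_apply {X Y : FilObj A} (e : X ≅ Y) (y : (F A).obj Y.obj) :
    m e.hom.hom (m e.inv.hom y) = y := by
  rw [← m_comp_apply, ← comp_hom, e.inv_hom_id, id_hom, m_id]; rfl

theorem iso_map_sub {X Y : FilObj A} (e : X ≅ Y) (p : ℤ) :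
    (sub (X.fil p)).map (m e.hom.hom) = sub (Y.fil p) := by
  apply le_antisymm (map_le e.hom p)
  intro y hy
  exact ⟨m e.inv.hom y, mem_of_mem e.inv p hy, iso_inv_hom_apply e y⟩

theorem isStrict_iso_comp {X Y Z : FilObj A} (e : X ≅ Y) (h : Y ⟶ Z) (hh : IsStrict h) :
    IsStrict (e.hom ≫ h) := by
  rw [isStrict_iff] at hh ⊢
  intro p
  have hsurj : LinearMap.range (m e.hom.hom) = ⊤ :=
    LinearMap.range_eq_top.2 fun y => ⟨m e.inv.hom y, iso_inv_hom_apply e y⟩
  rw [comp_hom, m_comp, Submodule.map_comp, iso_map_sub, hh p, LinearMap.range_comp, hsurj,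
    Submodule.map_top]

theorem isStrict_comp_iso {X Y Z : FilObj A} (h : X ⟶ Y) (e : Y ≅ Z) (hh : IsStrict h) :
    IsStrict (h ≫ e.hom) := by
  rw [isStrict_iff] at hh ⊢
  intro p
  have hinj : Function.Injective (m e.hom.hom) := by
    intro a b hab
    rw [← iso_hom_inv_apply e a, ← iso_hom_inv_apply e b, hab]
  rw [comp_hom, m_comp, Submodule.map_comp, hh p, LinearMap.range_comp, ← iso_map_sub e p,
    Submodule.map_inf _ hinj]

section Pullback

variable {K L M : FilObj A} (f : L ⟶ K) (g : M ⟶ K)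

/-- the pullback of filtered objects -/
noncomputable abbrev pbObj : FilObj A where
  obj := pullback f.hom g.hom
  fil p := (Subobject.pullback (pullback.fst f.hom g.hom)).obj (L.fil p) ⊓
    (Subobject.pullback (pullback.snd f.hom g.hom)).obj (M.fil p)
  anti := fun _ _ hpq => inf_le_inf ((Subobject.pullback _).monotone (L.anti hpq))
    ((Subobject.pullback _).monotone (M.anti hpq))

noncomputable def pbFst : pbObj f g ⟶ L := ⟨pullback.fst f.hom g.hom, fun _ => inf_le_left⟩

noncomputable def pbSnd : pbObj f g ⟶ M := ⟨pullback.snd f.hom g.hom, fun _ => inf_le_right⟩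

theorem pb_condition : pbFst f g ≫ f = pbSnd f g ≫ g := Hom.ext pullback.condition

theorem sub_pbObj_fil (p : ℤ) : sub ((pbObj f g).fil p) =
    (sub (L.fil p)).comap (m (pullback.fst f.hom g.hom)) ⊓
      (sub (M.fil p)).comap (m (pullback.snd f.hom g.hom)) := by
  have h := Groth.Agent.Helper9.FM.sub_inf
    ((Subobject.pullback (pullback.fst f.hom g.hom)).obj (L.fil p))
    ((Subobject.pullback (pullback.snd f.hom g.hom)).obj (M.fil p))
  rw [sub_pullback, sub_pullback] at h
  exact h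

noncomputable def pbLift (s : PullbackCone f g) : s.pt ⟶ pbObj f g where
  hom := pullback.lift s.fst.hom s.snd.hom (congrArg Hom.hom s.condition)
  compat p := by
    refine (compat_iff (X := s.pt) (Y := pbObj f g)
      (pullback.lift s.fst.hom s.snd.hom (congrArg Hom.hom s.condition)) p).2 ?_
    rintro _ ⟨x, hx, rfl⟩
    rw [sub_pbObj_fil]
    refine ⟨?_, ?_⟩
    · show m (pullback.fst f.hom g.hom) (m (pullback.lift s.fst.hom s.snd.hom _) x) ∈ sub (L.fil p)
      rw [← m_comp_apply, pullback.lift_fst]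
      exact mem_of_mem s.fst p hx
    · show m (pullback.snd f.hom g.hom) (m (pullback.lift s.fst.hom s.snd.hom _) x) ∈ sub (M.fil p)
      rw [← m_comp_apply, pullback.lift_snd]
      exact mem_of_mem s.snd p hx

noncomputable def pbIsLimit :
    IsLimit (PullbackCone.mk (pbFst f g) (pbSnd f g) (pb_condition f g)) :=
  PullbackCone.IsLimit.mk _ (fun s => pbLift f g s)
    (fun _ => Hom.ext (pullback.lift_fst _ _ _))
    (fun _ => Hom.ext (pullback.lift_snd _ _ _))
    (fun _ _ h1 h2 => Hom.ext (pullback.hom_ext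
      ((congrArg Hom.hom h1).trans (pullback.lift_fst _ _ _).symm)
      ((congrArg Hom.hom h2).trans (pullback.lift_snd _ _ _).symm)))

theorem hasPullback : HasPullback f g := HasLimit.mk ⟨_, pbIsLimit f g⟩

theorem isPullback_pb : IsPullback (pbFst f g) (pbSnd f g) f g :=
  IsPullback.of_isLimit (pbIsLimit f g)

theorem isStrict_pbSnd (hf : IsStrict f) : IsStrict (pbSnd f g) := by
  rw [isStrict_iff] at hf ⊢
  intro p
  apply le_antisymm
  · rintro _ ⟨x, hx, rfl⟩
    exact ⟨⟨x, rfl⟩, mem_of_mem (pbSnd f g) p hx⟩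
  · rintro y ⟨⟨x, rfl⟩, hy⟩
    have h1 : m g.hom (m (pbSnd f g).hom x) ∈ LinearMap.range (m f.hom) ⊓ sub (K.fil p) := by
      refine ⟨⟨m (pbFst f g).hom x, ?_⟩, mem_of_mem g p hy⟩
      rw [← m_comp_apply, ← m_comp_apply, ← comp_hom, ← comp_hom, pb_condition]
    rw [← hf p] at h1
    obtain ⟨l, hl, hle⟩ := h1
    obtain ⟨x', hx1, hx2⟩ :=
      exists_of_isPullback (IsPullback.of_hasPullback f.hom g.hom) l _ hle
    refine ⟨x', ?_, hx2⟩
    rw [sub_pbObj_fil]
    refine ⟨?_, ?_⟩
    · show m (pullback.fst f.hom g.hom) x' ∈ sub (L.fil p)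
      rw [hx1]; exact hl
    · show m (pullback.snd f.hom g.hom) x' ∈ sub (M.fil p)
      rw [hx2]; exact hy

theorem isStrict_snd_of_isPullback (P : FilObj A) (g' : P ⟶ L) (f' : P ⟶ M)
    (hP : IsPullback g' f' f g) (hf : IsStrict f) : IsStrict f' := by
  have h := isStrict_iso_comp (hP.isoIsPullback _ _ (isPullback_pb f g)) (pbSnd f g)
    (isStrict_pbSnd f g hf)
  rwa [IsPullback.isoIsPullback_hom_snd] at h

end Pullback

section Pushout

variable {K L M : FilObj A} (f : K ⟶ L) (g : K ⟶ M)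

/-- the pushout of filtered objects -/
noncomputable abbrev poObj : FilObj A where
  obj := pushout f.hom g.hom
  fil p := imageSubobject ((L.fil p).arrow ≫ pushout.inl f.hom g.hom) ⊔
    imageSubobject ((M.fil p).arrow ≫ pushout.inr f.hom g.hom)
  anti := fun _ _ hpq => by
    rw [sub_le_iff, Groth.Agent.Helper9.FM.sub_sup, Groth.Agent.Helper9.FM.sub_sup, sub_image_comp, sub_image_comp, sub_image_comp,
      sub_image_comp]
    exact sup_le_sup (Submodule.map_mono (sub_mono (L.anti hpq)))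
      (Submodule.map_mono (sub_mono (M.anti hpq)))

theorem sub_poObj_fil (p : ℤ) : sub ((poObj f g).fil p) =
    (sub (L.fil p)).map (m (pushout.inl f.hom g.hom)) ⊔
      (sub (M.fil p)).map (m (pushout.inr f.hom g.hom)) := by
  have h := Groth.Agent.Helper9.FM.sub_sup
    (imageSubobject ((L.fil p).arrow ≫ pushout.inl f.hom g.hom))
    (imageSubobject ((M.fil p).arrow ≫ pushout.inr f.hom g.hom))
  rw [sub_image_comp, sub_image_comp] at h
  exact h

noncomputable def poInl : L ⟶ poObj f g :=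
  ⟨pushout.inl f.hom g.hom, fun p =>
    (compat_iff (X := L) (Y := poObj f g) (pushout.inl f.hom g.hom) p).2
      (by rw [sub_poObj_fil]; exact le_sup_left)⟩

noncomputable def poInr : M ⟶ poObj f g :=
  ⟨pushout.inr f.hom g.hom, fun p =>
    (compat_iff (X := M) (Y := poObj f g) (pushout.inr f.hom g.hom) p).2
      (by rw [sub_poObj_fil]; exact le_sup_right)⟩

theorem po_condition : f ≫ poInl f g = g ≫ poInr f g := Hom.ext pushout.condition

noncomputable def poDesc (s : PushoutCocone f g) : poObj f g ⟶ s.pt where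
  hom := pushout.desc s.inl.hom s.inr.hom (congrArg Hom.hom s.condition)
  compat p := by
    refine (compat_iff (X := poObj f g) (Y := s.pt)
      (pushout.desc s.inl.hom s.inr.hom (congrArg Hom.hom s.condition)) p).2 ?_
    rw [sub_poObj_fil, Submodule.map_sup]
    apply sup_le
    · rintro _ ⟨_, ⟨x, hx, rfl⟩, rfl⟩
      rw [← m_comp_apply, pushout.inl_desc]
      exact mem_of_mem s.inl p hx
    · rintro _ ⟨_, ⟨x, hx, rfl⟩, rfl⟩
      rw [← m_comp_apply, pushout.inr_desc]
      exact mem_of_mem s.inr p hx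

noncomputable def poIsColimit :
    IsColimit (PushoutCocone.mk (poInl f g) (poInr f g) (po_condition f g)) :=
  PushoutCocone.IsColimit.mk _ (fun s => poDesc f g s)
    (fun _ => Hom.ext (pushout.inl_desc _ _ _))
    (fun _ => Hom.ext (pushout.inr_desc _ _ _))
    (fun _ _ h1 h2 => Hom.ext (pushout.hom_ext
      ((congrArg Hom.hom h1).trans (pushout.inl_desc _ _ _).symm)
      ((congrArg Hom.hom h2).trans (pushout.inr_desc _ _ _).symm)))

theorem hasPushout : HasPushout f g := HasColimit.mk ⟨_, poIsColimit f g⟩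

theorem isPushout_po : IsPushout f g (poInl f g) (poInr f g) :=
  IsPushout.of_isColimit (poIsColimit f g)

theorem isStrict_poInr (hf : IsStrict f) : IsStrict (poInr f g) := by
  rw [isStrict_iff] at hf ⊢
  intro p
  apply le_antisymm
  · rintro _ ⟨x, hx, rfl⟩
    exact ⟨⟨x, rfl⟩, mem_of_mem (poInr f g) p hx⟩
  · rintro y ⟨⟨z, rfl⟩, hy⟩
    rw [sub_poObj_fil] at hy
    obtain ⟨_, ⟨l, hl, rfl⟩, _, ⟨mm, hmm, rfl⟩, hsum⟩ := Submodule.mem_sup.1 hy
    have hsum' : m (pushout.inl f.hom g.hom) l + m (pushout.inr f.hom g.hom) mm =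
        m (pushout.inr f.hom g.hom) z := hsum
    have h0 : m (pushout.inl f.hom g.hom) l + m (pushout.inr f.hom g.hom) (mm - z) = 0 := by
      rw [map_sub, ← add_sub_assoc, hsum', sub_self]
    obtain ⟨k, hk1, -⟩ :=
      exists_of_isPushout (IsPushout.of_hasPushout f.hom g.hom) l (mm - z) h0
    have h1 : l ∈ LinearMap.range (m f.hom) ⊓ sub (L.fil p) := ⟨⟨k, hk1⟩, hl⟩
    rw [← hf p] at h1
    obtain ⟨k', hk', hk'e⟩ := h1
    refine ⟨m g.hom k' + mm, Submodule.add_mem _ (mem_of_mem g p hk') hmm, ?_⟩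
    show m (pushout.inr f.hom g.hom) (m g.hom k' + mm) = m (pushout.inr f.hom g.hom) z
    rw [map_add, ← m_comp_apply, ← pushout.condition, m_comp_apply, hk'e]
    exact hsum'

theorem isStrict_inr_of_isPushout (P : FilObj A) (g' : L ⟶ P) (f' : M ⟶ P)
    (hP : IsPushout f g g' f') (hf : IsStrict f) : IsStrict f' := by
  have h := isStrict_comp_iso (poInr f g) ((isPushout_po f g).isoIsPushout _ _ hP)
    (isStrict_poInr f g hf)
  rwa [IsPushout.inr_isoIsPushout_hom] at h

end Pushout

end Groth.Agent.Helper6.FilPB
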