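import Mathlib
import Groth.Prelude.Def_DRing4
import Groth.Agent.Helper6.TenCx
import Groth.Agent.Helper6.TenCxSig

/-!
# Tensoring complexes of modules with a fixed complex preserves colimits;
filtered colimits of acyclic complexes are acyclic
-/

set_option autoImplicit false
universe w w' u
open CategoryTheory CategoryTheory.Limits MonoidalCategory

namespace Groth.Agent.Helper6.FiltTen

open Groth.Agent.Helper6.TenCx

variable {R : Type u} [CommRing R]

section preserves

variable {J : Type w} [Category.{w'} J] [HasColimitsOfShape J (ModuleCat.{u} R)]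
  (X : DRing.Cx R) (G : J ⥤ DRing.Cx R) (c : Cocone G)
  (hc : IsColimit c)

noncomputable instance (J : Type w) [Category.{w'} J] (M : ModuleCat.{u} R) :
    PreservesColimitsOfShape J (tensorLeft M) :=
  (ihom.adjunction M).leftAdjoint_preservesColimits.preservesColimitsOfShape

/-- the colimit cocones `X^p ⊗ G_j^q → X^p ⊗ c^q` -/
noncomputable def isColimitPQ (p q : ℤ) :
    IsColimit ((tensorLeft (X.X p)).mapCocone
      ((HomologicalComplex.eval (ModuleCat.{u} R) (ComplexShape.up ℤ) q).mapCocone c)) :=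
  isColimitOfPreserves _ (isColimitOfPreserves _ hc)

variable {X G c}

lemma aux1 {K K' : DRing.Cx R} {A : ModuleCat.{u} R} {m : ℤ} (p q : ℤ) (h : p + q = m)
    (f : K ⟶ K') (a : (X ⊗ K').X m ⟶ A) (b : (X ⊗ K).X m ⟶ A)
    (h1 : (X ◁ f).f m ≫ a = b) :
    (X.X p ◁ f.f q) ≫ ι X K' p q m h ≫ a = ι X K p q m h ≫ b := by
  rw [← h1, ι_whiskerLeft_assoc]

/-- the cocone used to define the components of `desc` -/
noncomputable def coconePQ {m : ℤ}
    (s : Cocone ((G ⋙ tensorLeft X) ⋙
      HomologicalComplex.eval (ModuleCat.{u} R) (ComplexShape.up ℤ) m))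
    (p q : ℤ) (h : p + q = m) :
    Cocone ((G ⋙ HomologicalComplex.eval (ModuleCat.{u} R) (ComplexShape.up ℤ) q) ⋙
      tensorLeft (X.X p)) where
  pt := s.pt
  ι :=
    { app := fun j => ι X (G.obj j) p q m h ≫ s.ι.app j
      naturality := fun j k f => by
        have h1 : (X ◁ G.map f).f m ≫ s.ι.app k = s.ι.app j := s.w f
        refine Eq.trans ?_ (Category.comp_id _).symm
        exact aux1 p q h (G.map f) (s.ι.app k) (s.ι.app j) h1 }

noncomputable def descPQ {m : ℤ}
    (s : Cocone ((G ⋙ tensorLeft X) ⋙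
      HomologicalComplex.eval (ModuleCat.{u} R) (ComplexShape.up ℤ) m))
    (p q : ℤ) (h : p + q = m) : X.X p ⊗ c.pt.X q ⟶ s.pt :=
  (isColimitPQ X G c hc p q).desc (coconePQ s p q h)

lemma fac_descPQ {m : ℤ}
    (s : Cocone ((G ⋙ tensorLeft X) ⋙
      HomologicalComplex.eval (ModuleCat.{u} R) (ComplexShape.up ℤ) m))
    (p q : ℤ) (h : p + q = m) (j : J) :
    (X.X p ◁ (c.ι.app j).f q) ≫ descPQ hc s p q h = ι X (G.obj j) p q m h ≫ s.ι.app j :=
  (isColimitPQ X G c hc p q).fac (coconePQ s p q h) j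

noncomputable def desc {m : ℤ}
    (s : Cocone ((G ⋙ tensorLeft X) ⋙
      HomologicalComplex.eval (ModuleCat.{u} R) (ComplexShape.up ℤ) m)) :
    (X ⊗ c.pt).X m ⟶ s.pt :=
  HomologicalComplex.mapBifunctorDesc (fun p q h => descPQ hc s p q h)

lemma ι_desc {m : ℤ}
    (s : Cocone ((G ⋙ tensorLeft X) ⋙
      HomologicalComplex.eval (ModuleCat.{u} R) (ComplexShape.up ℤ) m))
    (p q : ℤ) (h : p + q = m) :
    ι X c.pt p q m h ≫ desc hc s = descPQ hc s p q h :=
  HomologicalComplex.ι_mapBifunctorDesc _ p q h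

variable (X G c)

/-- `X ⊗ -` preserves colimits, degreewise -/
noncomputable def isColimitEval (m : ℤ) :
    IsColimit ((HomologicalComplex.eval (ModuleCat.{u} R) (ComplexShape.up ℤ) m).mapCocone
      ((tensorLeft X).mapCocone c)) where
  desc s := desc hc s
  fac s j := by
    apply TenCx.hom_ext
    intro p q h
    refine Eq.trans (aux1 p q h (c.ι.app j) (desc hc s) _ rfl).symm ?_
    refine Eq.trans ?_ (fac_descPQ hc s p q h j)
    exact congrArg (fun t => (X.X p ◁ (c.ι.app j).f q) ≫ t) (ι_desc hc s p q h)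
  uniq s f hf := by
    apply TenCx.hom_ext
    intro p q h
    rw [ι_desc]
    apply (isColimitPQ X G c hc p q).hom_ext
    intro j
    have h1 : (X ◁ c.ι.app j).f m ≫ f = s.ι.app j := hf j
    refine Eq.trans ?_ (fac_descPQ hc s p q h j).symm
    exact aux1 p q h (c.ι.app j) f (s.ι.app j) h1

noncomputable def isColimitTensorLeft : IsColimit ((tensorLeft X).mapCocone c) :=
  HomologicalComplex.isColimitOfEval _ _ (fun m => isColimitEval X G c hc m)

end preserves

noncomputable instance preservesColimitsOfShape_tensorLeft {J : Type w} [Category.{w'} J]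
    [HasColimitsOfShape J (ModuleCat.{u} R)]
    (X : DRing.Cx R) : PreservesColimitsOfShape J (tensorLeft X) :=
  ⟨fun {G} => ⟨fun {c} hc => ⟨isColimitTensorLeft X G c hc⟩⟩⟩

section filtered

variable {J : Type w} [Category.{w'} J] [IsFiltered J] [HasColimitsOfShape J (ModuleCat.{u} R)]
  [PreservesColimitsOfShape J (forget (ModuleCat.{u} R))]
  (G : J ⥤ DRing.Cx R) (c : Cocone G)
  (hc : IsColimit c)

include hc

theorem exists_rep (i : ℤ) (y : c.pt.X i) :
    ∃ (j : J) (x : (G.obj j).X i), (c.ι.app j).f i x = y := by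
  have hci := isColimitOfPreserves (HomologicalComplex.eval (ModuleCat.{u} R)
    (ComplexShape.up ℤ) i) hc
  obtain ⟨n, x, hx⟩ := Concrete.isColimit_exists_rep
    (G ⋙ HomologicalComplex.eval (ModuleCat.{u} R) (ComplexShape.up ℤ) i) hci y
  exact ⟨n, x, hx⟩

theorem exists_map_eq_zero (i : ℤ) (j : J) (x : (G.obj j).X i)
    (hx : (c.ι.app j).f i x = 0) :
    ∃ (k : J) (f : j ⟶ k), (G.map f).f i x = 0 := by
  have hci := isColimitOfPreserves (HomologicalComplex.eval (ModuleCat.{u} R)
    (ComplexShape.up ℤ) i) hc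
  let x' : ((G ⋙ HomologicalComplex.eval (ModuleCat.{u} R) (ComplexShape.up ℤ) i).obj j) := x
  let z' : ((G ⋙ HomologicalComplex.eval (ModuleCat.{u} R) (ComplexShape.up ℤ) i).obj j) := 0
  have h1 : ((HomologicalComplex.eval (ModuleCat.{u} R) (ComplexShape.up ℤ) i).mapCocone
      c).ι.app j x' =
      ((HomologicalComplex.eval (ModuleCat.{u} R) (ComplexShape.up ℤ) i).mapCocone c).ι.app j
        z' := by
    refine Eq.trans hx ?_
    exact (map_zero ((c.ι.app j).f i).hom).symm
  obtain ⟨k, f, g, hfg⟩ := (Concrete.isColimit_rep_eq_iff_exists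
    (G ⋙ HomologicalComplex.eval (ModuleCat.{u} R) (ComplexShape.up ℤ) i) hci x' z').mp h1
  refine ⟨k, f, ?_⟩
  refine Eq.trans hfg ?_
  exact map_zero ((G.map g).f i).hom

/-- a filtered colimit of acyclic complexes of modules is acyclic -/
theorem acyclic_of_isColimit (h : ∀ (j : J) (i : ℤ), IsZero ((G.obj j).homology i)) (i : ℤ) :
    IsZero (c.pt.homology i) := by
  rw [← HomologicalComplex.exactAt_iff_isZero_homology,
    Groth.Agent.Helper3.DRingLib.exactAt_iff_forall c.pt (i - 1) i (i + 1) (by omega) rfl]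
  intro z hz
  obtain ⟨j, x, rfl⟩ := exists_rep G c hc i z
  have h1 : (c.ι.app j).f (i + 1) ((G.obj j).d i (i + 1) x) = 0 := by
    have := TenCx.hom_comm_apply (c.ι.app j) i (i + 1) x
    rw [← this]
    exact hz
  obtain ⟨k, f, hk⟩ := exists_map_eq_zero G c hc (i + 1) j _ h1
  have hex : (G.obj k).ExactAt i :=
    (HomologicalComplex.exactAt_iff_isZero_homology _ i).mpr (h k i)
  rw [Groth.Agent.Helper3.DRingLib.exactAt_iff_forall (G.obj k) (i - 1) i (i + 1)
    (by omega) rfl] at hex
  obtain ⟨w, hw⟩ := hex ((G.map f).f i x) (by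
    have := TenCx.hom_comm_apply (G.map f) i (i + 1) x
    rw [this]
    exact hk)
  refine ⟨(c.ι.app k).f (i - 1) w, ?_⟩
  have h2 := TenCx.hom_comm_apply (c.ι.app k) (i - 1) i w
  refine h2.trans ?_
  rw [hw]
  have h3 : G.map f ≫ c.ι.app k = c.ι.app j := c.w f
  rw [← h3]
  rfl

end filtered

/-- filtered colimits of K-flat complexes are K-flat (cocone form) -/
theorem kflat_of_isColimit {J : Type w} [Category.{w'} J] [IsFiltered J]
    [HasColimitsOfShape J (ModuleCat.{u} R)]
    [PreservesColimitsOfShape J (forget (ModuleCat.{u} R))] (G : J ⥤ DRing.Cx R)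
    (c : Cocone G) (hc : IsColimit c) (h : ∀ j, KFlat (G.obj j)) : KFlat c.pt := by
  intro L hL i
  exact acyclic_of_isColimit (G ⋙ tensorLeft L) ((tensorLeft L).mapCocone c)
    (isColimitTensorLeft L G c hc) (fun j i => h j L hL i) i

end Groth.Agent.Helper6.FiltTen
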