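import Mathlib
import Groth.Prelude.Def_Wider
import Groth.Agent.Helper6.DK1
import Groth.Agent.Helper6.LD3
import Groth.Agent.Helper6.Matlis2

/-!
# A fully faithful linear endofunctor of the category of finite length modules over a
Noetherian local ring is isomorphic to the identity
-/

set_option autoImplicit false
set_option linter.style.haveILetI false
set_option linter.unusedSectionVars false

universe u
open CategoryTheory IsLocalRing

namespace Groth.Agent.Helper6.FinLenEq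

variable {A : Type u} [CommRing A]

section lin

variable {X Y Z : Dual.FinLen A}

/-- the underlying linear map -/
def toLin (f : X ⟶ Y) : X.obj →ₗ[A] Y.obj := f.hom.hom

/-- a morphism from a linear map -/
def ofLin (φ : X.obj →ₗ[A] Y.obj) : X ⟶ Y := ObjectProperty.homMk (ModuleCat.ofHom φ)

lemma toLin_ofLin (φ : X.obj →ₗ[A] Y.obj) : toLin (ofLin φ) = φ := rfl
lemma ofLin_toLin (f : X ⟶ Y) : ofLin (toLin f) = f := rfl
lemma toLin_injective : Function.Injective (toLin : (X ⟶ Y) → (X.obj →ₗ[A] Y.obj)) :=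
  fun f g h => by rw [← ofLin_toLin f, ← ofLin_toLin g, h]
lemma ofLin_comp (φ : X.obj →ₗ[A] Y.obj) (ψ : Y.obj →ₗ[A] Z.obj) :
    ofLin (ψ ∘ₗ φ) = ofLin φ ≫ ofLin ψ := rfl
lemma ofLin_add (φ ψ : X.obj →ₗ[A] Y.obj) : ofLin (φ + ψ) = ofLin φ + ofLin ψ := rfl
lemma ofLin_smul (a : A) (φ : X.obj →ₗ[A] Y.obj) : ofLin (a • φ) = a • ofLin φ := rfl
lemma ofLin_id : ofLin (LinearMap.id : X.obj →ₗ[A] X.obj) = 𝟙 X := rfl
lemma toLin_comp (f : X ⟶ Y) (g : Y ⟶ Z) : toLin (f ≫ g) = toLin g ∘ₗ toLin f := rfl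
lemma toLin_add (f g : X ⟶ Y) : toLin (f + g) = toLin f + toLin g := rfl
lemma toLin_smul (a : A) (f : X ⟶ Y) : toLin (a • f) = a • toLin f := rfl
lemma toLin_id : toLin (𝟙 X) = LinearMap.id := rfl

/-- an isomorphism from a linear equivalence -/
def isoOf (e : X.obj ≃ₗ[A] Y.obj) : X ≅ Y where
  hom := ofLin e.toLinearMap
  inv := ofLin e.symm.toLinearMap
  hom_inv_id := toLin_injective (by
    rw [toLin_comp, toLin_ofLin, toLin_ofLin, toLin_id]
    exact LinearMap.ext (fun x => e.symm_apply_apply x))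
  inv_hom_id := toLin_injective (by
    rw [toLin_comp, toLin_ofLin, toLin_ofLin, toLin_id]
    exact LinearMap.ext (fun x => e.apply_symm_apply x))

end lin

section functor

variable (F : Dual.FinLen A ⥤ Dual.FinLen A) [F.Additive] [F.Linear A]
variable {X Y Z : Dual.FinLen A}

/-- the action of the functor on linear maps -/
def FL (φ : X.obj →ₗ[A] Y.obj) : (F.obj X).obj →ₗ[A] (F.obj Y).obj := toLin (F.map (ofLin φ))

lemma FL_comp (φ : X.obj →ₗ[A] Y.obj) (ψ : Y.obj →ₗ[A] Z.obj) :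
    FL F (ψ ∘ₗ φ) = FL F ψ ∘ₗ FL F φ := by
  unfold FL
  rw [ofLin_comp, F.map_comp, toLin_comp]

lemma FL_add (φ ψ : X.obj →ₗ[A] Y.obj) : FL F (φ + ψ) = FL F φ + FL F ψ := by
  unfold FL
  rw [ofLin_add, F.map_add, toLin_add]

lemma FL_smul (a : A) (φ : X.obj →ₗ[A] Y.obj) : FL F (a • φ) = a • FL F φ := by
  unfold FL
  rw [ofLin_smul, F.map_smul, toLin_smul]

lemma FL_id : FL F (LinearMap.id : X.obj →ₗ[A] X.obj) = LinearMap.id := by
  unfold FL
  rw [ofLin_id, F.map_id, toLin_id]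

lemma FL_zero : FL F (0 : X.obj →ₗ[A] Y.obj) = 0 := by
  have h := FL_smul F (0 : A) (0 : X.obj →ₗ[A] Y.obj)
  rwa [zero_smul, zero_smul] at h

lemma FL_toLin (f : X ⟶ Y) : FL F (toLin f) = toLin (F.map f) := by
  unfold FL
  rw [ofLin_toLin]

lemma FL_injective [F.Faithful] :
    Function.Injective (FL F : (X.obj →ₗ[A] Y.obj) → ((F.obj X).obj →ₗ[A] (F.obj Y).obj)) := by
  intro φ ψ h
  have h1 : ofLin φ = ofLin ψ := F.map_injective (toLin_injective h)
  rw [← toLin_ofLin φ, ← toLin_ofLin ψ, h1]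

lemma FL_surjective [F.Full] (θ : (F.obj X).obj →ₗ[A] (F.obj Y).obj) :
    ∃ φ : X.obj →ₗ[A] Y.obj, FL F φ = θ := by
  obtain ⟨f, hf⟩ := F.map_surjective (ofLin θ)
  exact ⟨toLin f, by rw [FL_toLin, hf, toLin_ofLin]⟩

lemma FL_kills (a : A) (h : ∀ x : X.obj, a • x = 0) (y : (F.obj X).obj) : a • y = 0 := by
  have h0 : a • (LinearMap.id : X.obj →ₗ[A] X.obj) = 0 :=
    LinearMap.ext fun x => by
      rw [LinearMap.smul_apply, LinearMap.id_apply, LinearMap.zero_apply]
      exact h x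
  have h1 := FL_smul F a (LinearMap.id : X.obj →ₗ[A] X.obj)
  rw [h0, FL_zero, FL_id] at h1
  have h2 := LinearMap.congr_fun h1 y
  rw [LinearMap.zero_apply, LinearMap.smul_apply, LinearMap.id_apply] at h2
  exact h2.symm

end functor

section quot

lemma quot_ext {J : Ideal A} {W : Type u} [AddCommGroup W] [Module A W]
    {φ ψ : (A ⧸ J) →ₗ[A] W} (h : φ (Submodule.Quotient.mk (1 : A)) = ψ (Submodule.Quotient.mk (1 : A))) :
    φ = ψ := by
  apply LinearMap.ext
  intro z
  obtain ⟨a, rfl⟩ := Submodule.Quotient.mk_surjective _ z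
  have h1 : (Submodule.Quotient.mk a : A ⧸ J) = a • (Submodule.Quotient.mk (1 : A) : A ⧸ J) := by
    rw [← Submodule.Quotient.mk_smul, smul_eq_mul, mul_one]
  rw [h1, map_smul, map_smul, h]

/-- the map `A/J → W`, `1 ↦ w` -/
def phi (J : Ideal A) {W : Type u} [AddCommGroup W] [Module A W] (w : W)
    (hw : ∀ a ∈ J, a • w = 0) : (A ⧸ J) →ₗ[A] W :=
  Submodule.liftQ J (LinearMap.toSpanSingleton A W w) (fun a ha => by
    rw [LinearMap.mem_ker, LinearMap.toSpanSingleton_apply]
    exact hw a ha)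

lemma phi_mk (J : Ideal A) {W : Type u} [AddCommGroup W] [Module A W] (w : W)
    (hw : ∀ a ∈ J, a • w = 0) (a : A) : phi J w hw (Submodule.Quotient.mk a) = a • w := by
  unfold phi
  rw [Submodule.liftQ_apply, LinearMap.toSpanSingleton_apply]

lemma phi_one (J : Ideal A) {W : Type u} [AddCommGroup W] [Module A W] (w : W)
    (hw : ∀ a ∈ J, a • w = 0) : phi J w hw (Submodule.Quotient.mk (1 : A)) = w := by
  rw [phi_mk, one_smul]

end quot

/-- generators -/
def IsGen (A : Type u) [CommRing A] {M : Type u} [AddCommGroup M] [Module A M] (y : M) : Prop :=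
  ∀ w : M, ∃ a : A, a • y = w

lemma quot_gen (J : Ideal A) : IsGen A (Submodule.Quotient.mk (1 : A) : A ⧸ J) := by
  intro w
  obtain ⟨b, rfl⟩ := Submodule.Quotient.mk_surjective _ w
  refine ⟨b, ?_⟩
  rw [← Submodule.Quotient.mk_smul, smul_eq_mul, mul_one]

lemma quot_killed (J : Ideal A) (a : A) (ha : a ∈ J) (y : A ⧸ J) : a • y = 0 := by
  obtain ⟨b, rfl⟩ := Submodule.Quotient.mk_surjective _ y
  rw [← Submodule.Quotient.mk_smul, Submodule.Quotient.mk_eq_zero, smul_eq_mul]
  exact Ideal.mul_mem_right _ _ ha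

lemma mem_of_smul_one_eq_zero (J : Ideal A) (a : A)
    (h : a • (Submodule.Quotient.mk (1 : A) : A ⧸ J) = 0) : a ∈ J := by
  rw [← Submodule.Quotient.mk_smul, Submodule.Quotient.mk_eq_zero, smul_eq_mul, mul_one] at h
  exact h

variable [IsLocalRing A]

section cyc

lemma exists_ne_zero_map (W S : Type u) [AddCommGroup W] [Module A W] [Module.Finite A W]
    [Nontrivial W] (hW : ∀ a ∈ maximalIdeal A, ∀ w : W, a • w = 0)
    [AddCommGroup S] [Module A S] [Nontrivial S]
    (hS : ∀ a ∈ maximalIdeal A, ∀ s : S, a • s = 0) : ∃ μ : W →ₗ[A] S, μ ≠ 0 := by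
  obtain ⟨k, ⟨e⟩⟩ := Groth.Agent.Helper6.DK.exists_equiv_pi (maximalIdeal A) W hW
  have hk : 1 ≤ k := Groth.Agent.Helper6.DK.one_le_of_equiv (maximalIdeal A) W
    (not_subsingleton W) k e
  obtain ⟨s, hs⟩ := exists_ne (0 : S)
  let i : Fin k := ⟨0, hk⟩
  refine ⟨(phi (maximalIdeal A) s (fun a ha => hS a ha s)) ∘ₗ
    (LinearMap.proj i : (Fin k → A ⧸ maximalIdeal A) →ₗ[A] (A ⧸ maximalIdeal A)) ∘ₗ
      e.toLinearMap, fun h => hs ?_⟩
  have h1 := LinearMap.congr_fun h (e.symm (Pi.single i (Submodule.Quotient.mk (1 : A))))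
  rw [LinearMap.comp_apply, LinearMap.comp_apply, LinearEquiv.coe_coe, e.apply_symm_apply,
    LinearMap.proj_apply, Pi.single_eq_same, phi_one, LinearMap.zero_apply] at h1
  exact h1

theorem exists_gen_of_hom_cyclic (Y S : Type u) [AddCommGroup Y] [Module A Y] [Module.Finite A Y]
    [AddCommGroup S] [Module A S] [Nontrivial S]
    (hS : ∀ a ∈ maximalIdeal A, ∀ s : S, a • s = 0) (θ : Y →ₗ[A] S)
    (hθ : ∀ l : Y →ₗ[A] S, ∃ a : A, l = a • θ) : ∃ y₀ : Y, IsGen A y₀ := by
  classical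
  obtain ⟨y₀, hy₀⟩ : ∃ y₀ : Y, θ ≠ 0 → θ y₀ ≠ 0 := by
    by_cases h0 : θ = 0
    · exact ⟨0, fun h => (h h0).elim⟩
    · have : ∃ y₀, θ y₀ ≠ 0 := by
        by_contra h
        push Not at h
        exact h0 (LinearMap.ext h)
      obtain ⟨y₀, h⟩ := this
      exact ⟨y₀, fun _ => h⟩
  refine ⟨y₀, ?_⟩
  have htop : Submodule.span A {y₀} ⊔ maximalIdeal A • (⊤ : Submodule A Y) = ⊤ := by
    by_contra hne
    haveI : Nontrivial (Y ⧸ (Submodule.span A {y₀} ⊔ maximalIdeal A • (⊤ : Submodule A Y))) :=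
      Submodule.Quotient.nontrivial_iff.mpr hne
    have hW : ∀ a ∈ maximalIdeal A, ∀ w : Y ⧸ (Submodule.span A {y₀} ⊔
        maximalIdeal A • (⊤ : Submodule A Y)), a • w = 0 := by
      intro a ha w
      obtain ⟨y, rfl⟩ := Submodule.Quotient.mk_surjective _ w
      rw [← Submodule.Quotient.mk_smul, Submodule.Quotient.mk_eq_zero]
      exact Submodule.mem_sup_right (Submodule.smul_mem_smul ha Submodule.mem_top)
    obtain ⟨μ, hμ⟩ := exists_ne_zero_map _ S hW hS
    obtain ⟨a, ha⟩ := hθ (μ ∘ₗ (Submodule.span A {y₀} ⊔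
      maximalIdeal A • (⊤ : Submodule A Y)).mkQ)
    have hl0 : (μ ∘ₗ (Submodule.span A {y₀} ⊔
        maximalIdeal A • (⊤ : Submodule A Y)).mkQ) y₀ = 0 := by
      rw [LinearMap.comp_apply, Submodule.mkQ_apply,
        (Submodule.Quotient.mk_eq_zero _).mpr
          (Submodule.mem_sup_left (Submodule.mem_span_singleton_self y₀)), map_zero]
    have hlne : μ ∘ₗ (Submodule.span A {y₀} ⊔
        maximalIdeal A • (⊤ : Submodule A Y)).mkQ ≠ 0 := by
      intro h
      apply hμ
      apply LinearMap.ext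
      intro w
      obtain ⟨y, rfl⟩ := Submodule.Quotient.mk_surjective _ w
      exact LinearMap.congr_fun h y
    by_cases ham : a ∈ maximalIdeal A
    · apply hlne
      rw [ha]
      apply LinearMap.ext
      intro y
      rw [LinearMap.smul_apply, LinearMap.zero_apply]
      exact hS a ham _
    · have hu : IsUnit a := IsLocalRing.notMem_maximalIdeal.mp ham
      obtain ⟨u, rfl⟩ := hu
      have hθ0 : θ ≠ 0 := by
        intro h
        apply hlne
        rw [ha, h, smul_zero]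
      have h1 : (u : A) • θ y₀ = 0 := by
        rw [← LinearMap.smul_apply, ← ha]
        exact hl0
      have h2 : θ y₀ = 0 := by
        have := congrArg (fun s => ((u⁻¹ : Aˣ) : A) • s) h1
        simpa [smul_smul] using this
      exact hy₀ hθ0 h2
  have hspan : (⊤ : Submodule A Y) ≤ Submodule.span A {y₀} := by
    refine Submodule.le_of_le_smul_of_le_jacobson_bot (Module.Finite.fg_top)
      (le_of_eq (IsLocalRing.jacobson_eq_maximalIdeal ⊥ bot_ne_top).symm) ?_
    rw [htop]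
  intro w
  exact Submodule.mem_span_singleton.mp (hspan Submodule.mem_top)

end cyc

variable [IsNoetherianRing A]

/-- `A/m^(n+1)` as an object -/
noncomputable abbrev P (n : ℕ) : Dual.FinLen A :=
  ⟨ModuleCat.of A (A ⧸ maximalIdeal A ^ (n + 1)),
    Groth.Agent.Helper6.Matlis.isFiniteLength_quot_pow (n + 1)⟩

lemma P_killed (n : ℕ) (a : A) (ha : a ∈ maximalIdeal A ^ (n + 1)) (y : (P (A := A) n).obj) :
    a • y = 0 := quot_killed _ a ha y

instance (n : ℕ) : Nontrivial (P (A := A) n).obj :=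
  Ideal.Quotient.nontrivial_iff.mpr (fun h => (maximalIdeal.isMaximal A).ne_top
    (top_le_iff.mp (h ▸ Ideal.pow_le_self (Nat.succ_ne_zero n))))

instance finite_obj (X : Dual.FinLen A) : Module.Finite A X.obj := by
  haveI := (isFiniteLength_iff_isNoetherian_isArtinian.mp X.property).1
  infer_instance

/-- `X` is killed by `m^(n+1)` -/
def K (n : ℕ) (X : Dual.FinLen A) : Prop := ∀ a ∈ maximalIdeal A ^ (n + 1), ∀ x : X.obj, a • x = 0

lemma K_succ {n : ℕ} {X : Dual.FinLen A} (h : K n X) : K (n + 1) X :=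
  fun a ha x => h a (Ideal.pow_le_pow_right (Nat.le_succ _) ha) x

lemma K_le {n m : ℕ} (hnm : n ≤ m) {X : Dual.FinLen A} (h : K n X) : K m X :=
  fun a ha x => h a (Ideal.pow_le_pow_right (Nat.succ_le_succ hnm) ha) x

lemma exists_K (X : Dual.FinLen A) : ∃ n, K n X := by
  obtain ⟨n, hn⟩ := Groth.Agent.Helper6.LD.exists_pow_kills X.obj X.property
  exact ⟨n, fun a ha x => hn a (Ideal.pow_le_pow_right (Nat.le_succ _) ha) x⟩

lemma K_P (n : ℕ) : K n (P (A := A) n) := fun a ha y => P_killed n a ha y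

/-- the map `A/m^(n+1) → X`, `1 ↦ x` -/
noncomputable def phiX (n : ℕ) (X : Dual.FinLen A) (hX : K n X) (x : X.obj) :
    (P (A := A) n).obj →ₗ[A] X.obj :=
  phi (maximalIdeal A ^ (n + 1)) x (fun a ha => hX a ha x)

/-- the unit of `A/m^(n+1)` -/
noncomputable def one (n : ℕ) : (P (A := A) n).obj := Submodule.Quotient.mk (1 : A)

lemma phiX_one (n : ℕ) (X : Dual.FinLen A) (hX : K n X) (x : X.obj) :
    phiX n X hX x (one n) = x := phi_one _ _ _

lemma phiX_ext {n : ℕ} {X : Dual.FinLen A} {φ ψ : (P (A := A) n).obj →ₗ[A] X.obj}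
    (h : φ (one n) = ψ (one n)) : φ = ψ := quot_ext h

lemma phiX_add (n : ℕ) (X : Dual.FinLen A) (hX : K n X) (x y : X.obj) :
    phiX n X hX (x + y) = phiX n X hX x + phiX n X hX y :=
  phiX_ext (by rw [LinearMap.add_apply, phiX_one, phiX_one, phiX_one])

lemma phiX_smul (n : ℕ) (X : Dual.FinLen A) (hX : K n X) (a : A) (x : X.obj) :
    phiX n X hX (a • x) = a • phiX n X hX x :=
  phiX_ext (by rw [LinearMap.smul_apply, phiX_one, phiX_one])

lemma comp_phiX (n : ℕ) {X X' : Dual.FinLen A} (hX : K n X) (hX' : K n X')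
    (f : X.obj →ₗ[A] X'.obj) (x : X.obj) : f ∘ₗ phiX n X hX x = phiX n X' hX' (f x) :=
  phiX_ext (by rw [LinearMap.comp_apply, phiX_one, phiX_one])

lemma eq_phiX (n : ℕ) (X : Dual.FinLen A) (hX : K n X) (φ : (P (A := A) n).obj →ₗ[A] X.obj) :
    φ = phiX n X hX (φ (one n)) :=
  phiX_ext (by rw [phiX_one])

lemma one_gen (n : ℕ) : IsGen A (one (A := A) n) := quot_gen _

/-- the projection `A/m^(n+2) → A/m^(n+1)` -/
noncomputable def pr (n : ℕ) : (P (A := A) (n + 1)).obj →ₗ[A] (P (A := A) n).obj :=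
  phiX (n + 1) (P n) (K_succ (K_P n)) (one n)

/-- the projection `A/m^(n+1) → A/m` -/
noncomputable def pr0 (n : ℕ) : (P (A := A) n).obj →ₗ[A] (P (A := A) 0).obj :=
  phiX n (P 0) (K_le (Nat.zero_le n) (K_P 0)) (one 0)

lemma phiX_comp_pr (n : ℕ) (X : Dual.FinLen A) (hX : K n X) (x : X.obj) :
    phiX n X hX x ∘ₗ pr n = phiX (n + 1) X (K_succ hX) x :=
  phiX_ext (by
    unfold pr
    rw [LinearMap.comp_apply, phiX_one, phiX_one, phiX_one])

section main

variable (F : Dual.FinLen A ⥤ Dual.FinLen A) [F.Additive] [F.Linear A] [F.Full] [F.Faithful]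

lemma nontrivial_F (X : Dual.FinLen A) [Nontrivial X.obj] : Nontrivial (F.obj X).obj := by
  by_contra h
  rw [not_nontrivial_iff_subsingleton] at h
  have h1 : FL F (LinearMap.id : X.obj →ₗ[A] X.obj) = FL F 0 :=
    LinearMap.ext (fun y => Subsingleton.elim _ _)
  have h2 := FL_injective F h1
  obtain ⟨x, y, hxy⟩ := exists_pair_ne X.obj
  have hx := LinearMap.congr_fun h2 x
  have hy := LinearMap.congr_fun h2 y
  rw [LinearMap.id_apply, LinearMap.zero_apply] at hx hy
  exact hxy (hx.trans hy.symm)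

lemma F_killed (n : ℕ) (X : Dual.FinLen A) (hX : K n X) : K n (F.obj X) :=
  fun a ha y => FL_kills F a (fun x => hX a ha x) y

lemma exists_gen (n : ℕ) : ∃ y : (F.obj (P (A := A) n)).obj, IsGen A y := by
  haveI := nontrivial_F F (P (A := A) 0)
  have hS : ∀ a ∈ maximalIdeal A, ∀ s : (F.obj (P (A := A) 0)).obj, a • s = 0 := by
    intro a ha s
    exact F_killed F 0 (P 0) (K_P 0) a (by rwa [zero_add, pow_one]) s
  refine exists_gen_of_hom_cyclic (F.obj (P (A := A) n)).obj (F.obj (P (A := A) 0)).obj hS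
    (FL F (pr0 n)) (fun l => ?_)
  obtain ⟨φ, rfl⟩ := FL_surjective F l
  obtain ⟨b, hb⟩ := one_gen (A := A) 0 (φ (one n))
  refine ⟨b, ?_⟩
  rw [← FL_smul]
  congr 1
  apply phiX_ext
  unfold pr0
  rw [LinearMap.smul_apply, phiX_one, hb]

lemma ann_gen (n : ℕ) (y : (F.obj (P (A := A) n)).obj) (hy : IsGen A y) (a : A) (h : a • y = 0) :
    a ∈ maximalIdeal A ^ (n + 1) := by
  have hall : ∀ w : (F.obj (P (A := A) n)).obj, a • w = 0 := by
    intro w
    obtain ⟨b, rfl⟩ := hy w
    rw [smul_comm, h, smul_zero]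
  have h1 : FL F (a • (LinearMap.id : (P (A := A) n).obj →ₗ[A] (P (A := A) n).obj)) = FL F 0 := by
    rw [FL_smul, FL_id, FL_zero]
    apply LinearMap.ext
    intro w
    rw [LinearMap.smul_apply, LinearMap.id_apply, LinearMap.zero_apply]
    exact hall w
  have h2 := LinearMap.congr_fun (FL_injective F h1) (one n)
  rw [LinearMap.smul_apply, LinearMap.id_apply, LinearMap.zero_apply] at h2
  exact mem_of_smul_one_eq_zero _ a h2

/-- the map `A/m^(n+1) → F(A/m^(n+1))`, `1 ↦ y` -/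
noncomputable def genMap (n : ℕ) (y : (F.obj (P (A := A) n)).obj) :
    (P (A := A) n).obj →ₗ[A] (F.obj (P (A := A) n)).obj :=
  phiX n (F.obj (P n)) (F_killed F n (P n) (K_P n)) y

lemma genMap_bijective (n : ℕ) (y : (F.obj (P (A := A) n)).obj) (hy : IsGen A y) :
    Function.Bijective (genMap F n y) := by
  constructor
  · rw [injective_iff_map_eq_zero]
    intro z hz
    obtain ⟨a, rfl⟩ := one_gen (A := A) n z
    have h1 : genMap F n y (one n) = y := phiX_one _ _ _ _
    rw [map_smul, h1] at hz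
    exact P_killed n a (ann_gen F n y hy a hz) (one n)
  · intro w
    obtain ⟨a, rfl⟩ := hy w
    have h1 : genMap F n y (one n) = y := phiX_one _ _ _ _
    exact ⟨a • one n, by rw [map_smul, h1]⟩

/-- a map out of `F(A/m^(n+1))` with prescribed value on a generator -/
lemma exists_map_of_gen (n : ℕ) (y : (F.obj (P (A := A) n)).obj) (hy : IsGen A y)
    (X : Dual.FinLen A) (hX : K n X) (w : X.obj) :
    ∃ l : (F.obj (P (A := A) n)).obj →ₗ[A] X.obj, l y = w := by
  let e := LinearEquiv.ofBijective (genMap F n y) (genMap_bijective F n y hy)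
  refine ⟨phiX n X hX w ∘ₗ e.symm.toLinearMap, ?_⟩
  have h1 : e (one n) = y := phiX_one n (F.obj (P n)) (F_killed F n (P n) (K_P n)) y
  rw [LinearMap.comp_apply, LinearEquiv.coe_coe, ← h1, e.symm_apply_apply, phiX_one]

lemma step (n : ℕ) (y : (F.obj (P (A := A) n)).obj) (hy : IsGen A y) :
    ∃ y' : (F.obj (P (A := A) (n + 1))).obj, IsGen A y' ∧ FL F (pr n) y' = y := by
  obtain ⟨y'', hy''⟩ := exists_gen F (n + 1)
  have hz : IsGen A (FL F (pr n) y'') := by
    intro w
    obtain ⟨l, hl⟩ := exists_map_of_gen F (n + 1) y'' hy'' (F.obj (P n))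
      (K_succ (F_killed F n (P n) (K_P n))) w
    obtain ⟨φ, rfl⟩ := FL_surjective F l
    obtain ⟨b, hb⟩ := one_gen (A := A) n (φ (one (n + 1)))
    refine ⟨b, ?_⟩
    have h1 : φ = b • pr n := by
      apply phiX_ext
      unfold pr
      rw [LinearMap.smul_apply, phiX_one, hb]
    rw [← hl, h1, FL_smul, LinearMap.smul_apply]
  obtain ⟨c', hc'⟩ := hz y
  obtain ⟨c, hc⟩ := hy (FL F (pr n) y'')
  haveI := nontrivial_F F (P (A := A) n)
  have h1 : (1 - c' * c) • y = 0 := by
    rw [sub_smul, one_smul, mul_smul, hc, hc', sub_self]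
  have h2 : 1 - c' * c ∈ maximalIdeal A :=
    Ideal.pow_le_self (Nat.succ_ne_zero n) (ann_gen F n y hy _ h1)
  have hu : IsUnit c' := by
    apply IsLocalRing.notMem_maximalIdeal.mp
    intro hmem
    have h3 : (1 : A) ∈ maximalIdeal A := by
      have := Ideal.add_mem _ h2 (Ideal.mul_mem_right c _ hmem)
      rwa [sub_add_cancel] at this
    exact (maximalIdeal.isMaximal A).ne_top ((Ideal.eq_top_iff_one _).mpr h3)
  obtain ⟨u, rfl⟩ := hu
  refine ⟨(u : A) • y'', ?_, ?_⟩
  · intro w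
    obtain ⟨a, rfl⟩ := hy'' w
    refine ⟨a * ((u⁻¹ : Aˣ) : A), ?_⟩
    rw [smul_smul, mul_assoc, Units.inv_mul, mul_one]
  · rw [map_smul, hc']

/-- a compatible system of generators -/
noncomputable def gens : (n : ℕ) → {y : (F.obj (P (A := A) n)).obj // IsGen A y}
  | 0 => ⟨Classical.choose (exists_gen F 0), Classical.choose_spec (exists_gen F 0)⟩
  | n + 1 => ⟨Classical.choose (step F n (gens n).1 (gens n).2),
      (Classical.choose_spec (step F n (gens n).1 (gens n).2)).1⟩

lemma gens_compat (n : ℕ) : FL F (pr n) (gens F (n + 1)).1 = (gens F n).1 :=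
  (Classical.choose_spec (step F n (gens F n).1 (gens F n).2)).2

/-- the comparison map -/
noncomputable def eta (n : ℕ) (X : Dual.FinLen A) (hX : K n X) : X.obj →ₗ[A] (F.obj X).obj where
  toFun x := FL F (phiX n X hX x) (gens F n).1
  map_add' x y := by rw [phiX_add, FL_add, LinearMap.add_apply]
  map_smul' a x := by rw [phiX_smul, FL_smul, LinearMap.smul_apply, RingHom.id_apply]

lemma eta_apply (n : ℕ) (X : Dual.FinLen A) (hX : K n X) (x : X.obj) :
    eta F n X hX x = FL F (phiX n X hX x) (gens F n).1 := rfl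

lemma eta_succ (n : ℕ) (X : Dual.FinLen A) (hX : K n X) :
    eta F (n + 1) X (K_succ hX) = eta F n X hX := by
  apply LinearMap.ext
  intro x
  rw [eta_apply, eta_apply, ← phiX_comp_pr n X hX x, FL_comp, LinearMap.comp_apply, gens_compat]

lemma eta_le (n m : ℕ) (hnm : n ≤ m) (X : Dual.FinLen A) (hX : K n X) :
    eta F m X (K_le hnm hX) = eta F n X hX := by
  induction m, hnm using Nat.le_induction with
  | base => rfl
  | succ m hm ih => rw [← ih]; exact eta_succ F m X (K_le hm hX)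

lemma eta_natural (n : ℕ) {X X' : Dual.FinLen A} (hX : K n X) (hX' : K n X')
    (f : X.obj →ₗ[A] X'.obj) (x : X.obj) :
    FL F f (eta F n X hX x) = eta F n X' hX' (f x) := by
  rw [eta_apply, eta_apply, ← comp_phiX n hX hX' f x, FL_comp, LinearMap.comp_apply]

lemma eta_bijective (n : ℕ) (X : Dual.FinLen A) (hX : K n X) :
    Function.Bijective (eta F n X hX) := by
  constructor
  · rw [injective_iff_map_eq_zero]
    intro x hx
    rw [eta_apply] at hx
    have h0 : FL F (phiX n X hX x) = FL F 0 := by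
      rw [FL_zero]
      apply LinearMap.ext
      intro w
      obtain ⟨a, rfl⟩ := (gens F n).2 w
      rw [map_smul, hx, smul_zero, LinearMap.zero_apply]
    have h1 := LinearMap.congr_fun (FL_injective F h0) (one n)
    rwa [phiX_one, LinearMap.zero_apply] at h1
  · intro w
    obtain ⟨l, hl⟩ := exists_map_of_gen F n (gens F n).1 (gens F n).2 (F.obj X)
      (F_killed F n X hX) w
    obtain ⟨φ, rfl⟩ := FL_surjective F l
    refine ⟨φ (one n), ?_⟩
    rw [eta_apply, ← eq_phiX n X hX φ, hl]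

/-- the level of an object -/
noncomputable def lev (X : Dual.FinLen A) : ℕ := Classical.choose (exists_K X)

lemma lev_spec (X : Dual.FinLen A) : K (lev X) X := Classical.choose_spec (exists_K X)

/-- the comparison isomorphism -/
noncomputable def etaEquiv (X : Dual.FinLen A) : X.obj ≃ₗ[A] (F.obj X).obj :=
  LinearEquiv.ofBijective (eta F (lev X) X (lev_spec X)) (eta_bijective F _ X _)

theorem main : Nonempty (F ≅ 𝟭 (Dual.FinLen A)) := by
  refine ⟨(NatIso.ofComponents (fun X => isoOf (etaEquiv F X)) ?_).symm⟩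
  intro X X' f
  apply toLin_injective
  show toLin (f ≫ ofLin (etaEquiv F X').toLinearMap) =
    toLin (ofLin (etaEquiv F X).toLinearMap ≫ F.map f)
  rw [toLin_comp, toLin_comp, toLin_ofLin, toLin_ofLin, ← FL_toLin]
  apply LinearMap.ext
  intro x
  rw [LinearMap.comp_apply, LinearMap.comp_apply, LinearEquiv.coe_coe, LinearEquiv.coe_coe]
  show eta F (lev X') X' (lev_spec X') (toLin f x) =
    FL F (toLin f) (eta F (lev X) X (lev_spec X) x)
  rw [← eta_le F (lev X') (max (lev X) (lev X')) (le_max_right _ _) X' (lev_spec X'),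
    ← eta_le F (lev X) (max (lev X) (lev X')) (le_max_left _ _) X (lev_spec X)]
  exact (eta_natural F _ _ _ (toLin f) x).symm

end main

end Groth.Agent.Helper6.FinLenEq
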