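import Mathlib

universe u

open CategoryTheory CategoryTheory.Limits AlgebraicGeometry

namespace Groth.Agent.Helper6.FixPt

noncomputable section

variable {X S : Scheme.{u}} (p : X ⟶ S) [IsSeparated p]

/-- a morphism `a : X ⟶ X` over `S`, as a morphism in `Over S` -/
def ovHom (a : X ⟶ X) (ha : a ≫ p = p) : Over.mk p ⟶ Over.mk p := Over.homMk a ha

/-- the equalizer of `a` and `𝟙` over `S` -/
def eqObj (a : X ⟶ X) (ha : a ≫ p = p) : Scheme.{u} :=
  (equalizer (ovHom p a ha) (𝟙 (Over.mk p))).left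

def eqι (a : X ⟶ X) (ha : a ≫ p = p) : eqObj p a ha ⟶ X :=
  (equalizer.ι (ovHom p a ha) (𝟙 (Over.mk p))).left

instance (a : X ⟶ X) (ha : a ≫ p = p) : IsClosedImmersion (eqι p a ha) := by
  haveI : IsSeparated (Over.mk p).hom := by simpa using ‹IsSeparated p›
  exact isClosedImmersion_equalizer_ι_left (ovHom p a ha) (𝟙 (Over.mk p))

lemma eqι_comp (a : X ⟶ X) (ha : a ≫ p = p) : eqι p a ha ≫ a = eqι p a ha := by
  have h := equalizer.condition (ovHom p a ha) (𝟙 (Over.mk p))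
  have h2 := congrArg CommaMorphism.left h
  have h5 : eqι p a ha ≫ a = eqι p a ha ≫ 𝟙 X := h2
  rw [h5, Category.comp_id]

/-- lift to the equalizer -/
def eqLift (a : X ⟶ X) (ha : a ≫ p = p) {T : Scheme.{u}} (x : T ⟶ X) (hx : x ≫ a = x) :
    T ⟶ eqObj p a ha :=
  (equalizer.lift (f := ovHom p a ha) (g := 𝟙 (Over.mk p))
    (Over.homMk x rfl : Over.mk (x ≫ p) ⟶ Over.mk p) (by
      ext
      simp [ovHom, hx])).left

lemma eqLift_fac (a : X ⟶ X) (ha : a ≫ p = p) {T : Scheme.{u}} (x : T ⟶ X) (hx : x ≫ a = x) :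
    eqLift p a ha x hx ≫ eqι p a ha = x := by
  have h := equalizer.lift_ι (f := ovHom p a ha) (g := 𝟙 (Over.mk p))
    (Over.homMk x rfl : Over.mk (x ≫ p) ⟶ Over.mk p) (by
      ext
      simp [ovHom, hx])
  have h2 := congrArg CommaMorphism.left h
  exact h2

theorem main (G : Type u) [Group G] [Finite G] (ρ : G →* Aut X)
    (hρ : ∀ g : G, (ρ g).hom ≫ p = p) :
    ∃ (Z : Scheme.{u}) (i : Z ⟶ X), IsClosedImmersion i ∧ (∀ g : G, i ≫ (ρ g).hom = i) ∧
      ∀ (T : Scheme.{u}) (x : T ⟶ X), (∀ g : G, x ≫ (ρ g).hom = x) → ∃! z : T ⟶ Z, z ≫ i = x := by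
  classical
  let I : X.IdealSheafData := ⨆ g : G, (eqι p (ρ g).hom (hρ g)).ker
  refine ⟨I.subscheme, I.subschemeι, inferInstance, ?_, ?_⟩
  · intro g
    have hle : (eqι p (ρ g).hom (hρ g)).ker ≤ I.subschemeι.ker := by
      rw [Scheme.IdealSheafData.ker_subschemeι]
      exact le_iSup (fun g : G => (eqι p (ρ g).hom (hρ g)).ker) g
    have hfac := IsClosedImmersion.lift_fac (eqι p (ρ g).hom (hρ g)) I.subschemeι hle
    rw [← hfac, Category.assoc, eqι_comp]
  · intro T x hx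
    have hle : I.subschemeι.ker ≤ x.ker := by
      rw [Scheme.IdealSheafData.ker_subschemeι]
      refine iSup_le fun g => ?_
      have := eqLift_fac p (ρ g).hom (hρ g) x (hx g)
      rw [← this]
      exact Scheme.Hom.le_ker_comp _ _
    refine ⟨IsClosedImmersion.lift I.subschemeι x hle, IsClosedImmersion.lift_fac _ _ _, ?_⟩
    intro z hz
    rw [← cancel_mono I.subschemeι, hz, IsClosedImmersion.lift_fac]

end

end Groth.Agent.Helper6.FixPt
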