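import Mathlib
import Groth.Agent.Helper6.FlatDepth

/-!
# `I`-depth of a flat module is at least the `I`-depth of its closed fibre
-/

set_option autoImplicit false
universe u
open TensorProduct IsLocalRing RingTheory.Sequence
open scoped Pointwise

namespace Groth.Agent.Helper6.FlatDepthI

open Groth.Agent.Helper6.FlatReg Groth.Agent.Helper6.FlatDepth Groth.Agent.Helper2
open Groth.Agent.Helper9.DepthKer

variable {A B : Type u} [CommRing A] [CommRing B]
    [IsNoetherianRing A] [IsNoetherianRing B] [IsLocalRing A] [IsLocalRing B] [Algebra A B]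
    [IsLocalHom (algebraMap A B)]

/-- `y` regular on `N/mN` implies `y` regular on `N` (flat, finite). -/
lemma isSMulRegular_of_regMod (N : Type u) [AddCommGroup N] [Module B N] [Module A N]
    [IsScalarTower A B N] [Module.Finite B N] [Module.Flat A N] (y : B)
    (h : RegMod (A := A) (N := N) y) : IsSMulRegular N y := by
  have h1 := isSMulRegular_tensor y h A
  let e : N ⊗[A] A ≃ₗ[B] N := TensorProduct.AlgebraTensorModule.rid A B N
  intro a b hab
  have h2 : y • e.symm a = y • e.symm b := by rw [← map_smul, ← map_smul]; exact congrArg _ hab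
  exact e.symm.injective (h1 h2)

theorem idealDepth_ge_fib (I : Ideal B) (hI : I ≠ ⊤) : ∀ (n : ℕ) (N : Type u) [AddCommGroup N]
    [Module B N] [Module A N] [IsScalarTower A B N] [Module.Finite B N] [Nontrivial N]
    [Module.Flat A N], (n : ℕ∞) ≤ LocCoh.idealDepth I (EGA4.FibMod A B N) →
    (n : ℕ∞) ≤ LocCoh.idealDepth I N := by
  have hIm : I ≤ maximalIdeal B := IsLocalRing.le_maximalIdeal hI
  intro n
  induction n with
  | zero => intro N _ _ _ _ _ _ _ _; exact bot_le
  | succ n ih =>
    intro N _ _ _ _ _ _ _ hn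
    have hFnt : Nontrivial (EGA4.FibMod A B N) := Groth.Agent.Helper2.DepthFlat.fibMod_nontrivial
    have hIF : I • (⊤ : Submodule B (EGA4.FibMod A B N)) ≠ ⊤ := by
      intro h
      apply Depth.smul_top_ne_top B (EGA4.FibMod A B N)
      exact eq_top_iff.2 (h.symm.le.trans (Submodule.smul_mono_left hIm))
    have hIN : I • (⊤ : Submodule B N) ≠ ⊤ := by
      intro h
      apply Depth.smul_top_ne_top B N
      exact eq_top_iff.2 (h.symm.le.trans (Submodule.smul_mono_left hIm))
    obtain ⟨rs, hreg, hmem, hlen⟩ := exists_of_le_idealDepth I (EGA4.FibMod A B N) (n + 1)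
      (by omega) hn hIF
    match rs, hreg, hmem, hlen with
    | y :: rs', hreg, hmem, _ =>
      have hy : y ∈ I := hmem y List.mem_cons_self
      have hyreg : IsSMulRegular (EGA4.FibMod A B N) y :=
        ((isWeaklyRegular_cons_iff _ y rs').mp hreg).1
      have h1 := DepthCM.idealDepth_quotSMulTop I (EGA4.FibMod A B N) hIF y hy hyreg
      have hRM : RegMod (A := A) (N := N) y := regMod_of_isSMulRegular y hyreg
      haveI : Module.Flat A (QuotSMulTop y N) := flat_quotSMulTop y hRM
      haveI : Nontrivial (QuotSMulTop y N) := quotSMulTop_nontrivial N y (hIm hy)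
      have h2 : (n : ℕ∞) ≤ LocCoh.idealDepth I (EGA4.FibMod A B (QuotSMulTop y N)) := by
        rw [DepthCM.idealDepth_congr I (fibQuotEquiv y (EGA4.mB A B))]
        rw [← h1] at hn
        have : ((n : ℕ∞) + 1) ≤ LocCoh.idealDepth I (QuotSMulTop y (EGA4.FibMod A B N)) + 1 := by
          exact_mod_cast hn
        exact (ENat.add_le_add_iff_right (ENat.one_ne_top)).mp this
      have h3 := ih (QuotSMulTop y N) h2
      have hyN : IsSMulRegular N y := isSMulRegular_of_regMod N y hRM
      have h4 := DepthCM.idealDepth_quotSMulTop I N hIN y hy hyN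
      rw [← h4]
      push_cast
      exact add_le_add h3 le_rfl

end Groth.Agent.Helper6.FlatDepthI
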