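import Mathlib
import Groth.Prelude.Def_Desc

/-! `T`-points of constant schemes `K × S = ∐_K S` are locally constant functions `T → K`. -/

set_option autoImplicit false
set_option linter.style.haveILetI false
set_option linter.unusedSectionVars false
set_option linter.unusedVariables false
set_option linter.unusedSimpArgs false

universe w u

open CategoryTheory CategoryTheory.Limits Opposite AlgebraicGeometry

namespace Groth.Agent.Helper6.FlcRepA

variable (S : Scheme.{u}) (K : Type w) [Small.{u} K]

/-- the constant scheme `K × S` -/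
noncomputable abbrev cSch : Scheme.{u} := ∐ fun _ : K => S

/-- the structure morphism of the constant scheme -/
noncomputable abbrev cHom : cSch S K ⟶ S := Sigma.desc fun _ : K => 𝟙 S

/-- the constant scheme over `S` -/
noncomputable abbrev cObj : Over S := Over.mk (cHom S K)

variable {S K}

/-- the `k`-th copy -/
noncomputable abbrev inj (k : K) : S ⟶ cSch S K := Sigma.ι (fun _ : K => S) k

@[reassoc (attr := simp)]
lemma inj_cHom (k : K) : inj (S := S) k ≫ cHom S K = 𝟙 S := by
  simp [inj, cHom]

variable {T : Scheme.{u}}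

lemma exists_inj (z : cSch S K) : ∃ (k : K) (y : S), inj k y = z := by
  obtain ⟨k, y, h⟩ := (sigmaOpenCover (fun _ : K => S)).exists_eq z
  exact ⟨k, y, h⟩

/-- the index of the sheet containing the image of a point -/
noncomputable def idx (v : T ⟶ cSch S K) (t : T) : K :=
  (exists_inj (v t)).choose

lemma idx_spec (v : T ⟶ cSch S K) (t : T) :
    ∃ y : S, inj (idx v t) y = v t :=
  (exists_inj (v t)).choose_spec

lemma idx_eq_iff (v : T ⟶ cSch S K) (t : T) (k : K) :
    idx v t = k ↔ v t ∈ Set.range (inj (S := S) k) := by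
  constructor
  · rintro rfl
    obtain ⟨y, hy⟩ := idx_spec v t
    exact ⟨y, hy⟩
  · rintro ⟨y, hy⟩
    obtain ⟨y', hy'⟩ := idx_spec v t
    have h := (sigmaι_eq_iff (fun _ : K => S) (idx v t) k y' y).1 (hy'.trans hy.symm)
    exact (Sigma.mk.inj_iff.1 h).1

lemma idx_comp {T' : Scheme.{u}} (g : T' ⟶ T) (v : T ⟶ cSch S K) (t' : T') :
    idx (g ≫ v) t' = idx v (g t') := rfl

lemma isLocallyConstant_idx (v : T ⟶ cSch S K) : IsLocallyConstant (idx v) := by
  rw [IsLocallyConstant.iff_isOpen_fiber]
  intro k
  have : idx v ⁻¹' {k} = v ⁻¹' (Set.range (inj (S := S) k)) := by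
    ext t
    exact idx_eq_iff v t k
  rw [this]
  exact (inj (S := S) k).isOpenEmbedding.isOpen_range.preimage v.continuous

lemma idx_inj (k : K) (x : T ⟶ S) (t : T) : idx (x ≫ inj k) t = k := by
  rw [idx_eq_iff]
  exact ⟨x t, rfl⟩

/-- the locally constant function attached to a point -/
noncomputable def idxLC (v : T ⟶ cSch S K) : LocallyConstant T K :=
  ⟨idx v, isLocallyConstant_idx v⟩

section glue

variable (x : T ⟶ S) (s : LocallyConstant T K)

/-- the fibres of a locally constant function, as opens -/
def fib (k : K) : T.Opens := ⟨s ⁻¹' {k}, s.isLocallyConstant.isOpen_fiber k⟩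

lemma isOpenCover_fib : TopologicalSpace.IsOpenCover (fib s) := by
  apply TopologicalSpace.IsOpenCover.mk
  ext t
  simp only [TopologicalSpace.Opens.coe_iSup, Set.mem_iUnion, SetLike.mem_coe,
    TopologicalSpace.Opens.coe_top, Set.mem_univ, iff_true]
  exact ⟨s t, rfl⟩

/-- the open cover by fibres -/
noncomputable def fibCover : T.OpenCover := T.openCoverOfIsOpenCover (fib s) (isOpenCover_fib s)

lemma glue_compat (k k' : K) :
    pullback.fst ((fibCover s).f k) ((fibCover s).f k') ≫ ((fib s k).ι ≫ x ≫ inj k) =
      pullback.snd ((fibCover s).f k) ((fibCover s).f k') ≫ ((fib s k').ι ≫ x ≫ inj k') := by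
  by_cases h : k = k'
  · subst h
    have hm : pullback.fst ((fibCover s).f k) ((fibCover s).f k) =
        pullback.snd ((fibCover s).f k) ((fibCover s).f k) := by
      have : Mono ((fibCover s).f k) := by
        show Mono (fib s k).ι
        infer_instance
      rw [← cancel_mono ((fibCover s).f k)]
      exact pullback.condition
    rw [hm]
  · have : IsEmpty ↥(pullback ((fibCover s).f k) ((fibCover s).f k')) := by
      constructor
      intro z
      have h1 : (pullback.fst ((fibCover s).f k) ((fibCover s).f k') ≫ (fibCover s).f k) z =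
          (pullback.snd ((fibCover s).f k) ((fibCover s).f k') ≫ (fibCover s).f k') z := by
        rw [pullback.condition]
      have h2 : s ((pullback.fst ((fibCover s).f k) ((fibCover s).f k') ≫ (fibCover s).f k) z) = k :=
        ((pullback.fst ((fibCover s).f k) ((fibCover s).f k')) z).2
      have h3 : s ((pullback.snd ((fibCover s).f k) ((fibCover s).f k') ≫ (fibCover s).f k') z)
          = k' :=
        ((pullback.snd ((fibCover s).f k) ((fibCover s).f k')) z).2
      rw [h1, h3] at h2
      exact h h2.symm
    exact (isInitialOfIsEmpty (X := pullback ((fibCover s).f k) ((fibCover s).f k'))).hom_ext _ _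

/-- the point attached to a locally constant function -/
noncomputable def glue : T ⟶ cSch S K :=
  (fibCover s).glueMorphisms (fun k => (fib s k).ι ≫ x ≫ inj k) (glue_compat x s)

@[reassoc]
lemma ι_glue (k : K) : (fib s k).ι ≫ glue x s = (fib s k).ι ≫ x ≫ inj k :=
  (fibCover s).ι_glueMorphisms _ (glue_compat x s) k

lemma hom_ext_fib {Y : Scheme.{u}} (f g : T ⟶ Y)
    (h : ∀ k : K, (fib s k).ι ≫ f = (fib s k).ι ≫ g) : f = g :=
  (fibCover s).hom_ext f g h

lemma glue_cHom : glue x s ≫ cHom S K = x := by
  apply hom_ext_fib s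
  intro k
  rw [ι_glue_assoc]
  simp

lemma idx_glue (t : T) : idx (glue x s) t = s t := by
  have ht : t ∈ fib s (s t) := rfl
  have h1 : glue x s t = ((fib s (s t)).ι ≫ glue x s) ⟨t, ht⟩ := rfl
  rw [idx_eq_iff, h1, ι_glue]
  exact ⟨x t, rfl⟩

end glue

lemma glue_idx (v : T ⟶ cSch S K) : glue (v ≫ cHom S K) (idxLC v) = v := by
  apply hom_ext_fib (idxLC v)
  intro k
  rw [ι_glue]
  -- on the fibre, `v` factors through the `k`-th sheet
  have hr : Set.range ((fib (idxLC v) k).ι ≫ v) ⊆ Set.range (inj (S := S) k) := by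
    rintro _ ⟨z, rfl⟩
    exact (idx_eq_iff v z.1 k).1 z.2
  let w : (fib (idxLC v) k).toScheme ⟶ S :=
    IsOpenImmersion.lift (inj k) ((fib (idxLC v) k).ι ≫ v) hr
  have hw : w ≫ inj k = (fib (idxLC v) k).ι ≫ v := IsOpenImmersion.lift_fac _ _ hr
  have hw' : w = (fib (idxLC v) k).ι ≫ v ≫ cHom S K := by
    rw [← Category.assoc, ← hw, Category.assoc, inj_cHom, Category.comp_id]
  rw [← hw, hw']
  simp only [Category.assoc]

/-- `T`-points of the constant scheme over `x` are the locally constant functions -/
noncomputable def ptsEquiv (x : T ⟶ S) : Desc.Lifts (cObj S K) x ≃ LocallyConstant T K where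
  toFun v := idxLC v.1
  invFun s := ⟨glue x s, glue_cHom x s⟩
  left_inv v := by
    apply Subtype.ext
    obtain ⟨v, h⟩ := v
    have h' : v ≫ cHom S K = x := h
    subst h'
    exact glue_idx v
  right_inv s := by
    ext t
    exact idx_glue x s t

lemma ptsEquiv_apply (x : T ⟶ S) (v : Desc.Lifts (cObj S K) x) (t : T) :
    ptsEquiv x v t = idx v.1 t := rfl

lemma idx_ptsEquiv_symm (x : T ⟶ S) (s : LocallyConstant T K) (t : T) :
    idx ((ptsEquiv x).symm s).1 t = s t := idx_glue x s t

end Groth.Agent.Helper6.FlcRepA
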