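import Mathlib
import Groth.Prelude.Def_EtBase

/-! Local trivialisation data for a presheaf of sets on the small étale site and the associated
transition functions. -/

set_option autoImplicit false
set_option linter.style.haveILetI false
set_option linter.unusedSectionVars false
set_option linter.unusedVariables false
set_option linter.unusedSimpArgs false

universe w u

open CategoryTheory CategoryTheory.Limits Opposite AlgebraicGeometry

namespace Groth.Agent.Helper6.FlcRepB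

variable {X : Scheme.{u}} (G : X.Etaleᵒᵖ ⥤ Type (u + 1)) {ι : Type u} (U : ι → X.Etale)

/-- local trivialisation data: over every étale `W` mapping to `U i`, sections of `G` are
locally constant functions with values in `K i`, compatibly with restriction -/
structure LocData where
  /-- the values -/
  K : ι → Type w
  /-- sections as locally constant functions -/
  sec : ∀ (i : ι) (W : X.Etale) (a : W ⟶ U i), G.obj (op W) ≃ LocallyConstant W.left (K i)
  /-- naturality -/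
  nat : ∀ (i : ι) {W W' : X.Etale} (h : W' ⟶ W) (a : W ⟶ U i) (s : G.obj (op W)) (w' : W'.left),
    sec i W' (h ≫ a) (G.map h.op s) w' = sec i W a s (h.left w')

variable {G U}

instance etale_hom (V : X.Etale) : Etale V.hom := V.prop

/-- the fibre product `U i ×_X U j` as an object of the small étale site -/
noncomputable def P (U : ι → X.Etale) (i j : ι) : X.Etale :=
  Scheme.Etale.mk (pullback.fst (U i).hom (U j).hom ≫ (U i).hom)

/-- first projection -/
noncomputable def pr1 (i j : ι) : P U i j ⟶ U i :=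
  MorphismProperty.Over.homMk (pullback.fst (U i).hom (U j).hom) rfl

/-- second projection -/
noncomputable def pr2 (i j : ι) : P U i j ⟶ U j :=
  MorphismProperty.Over.homMk (pullback.snd (U i).hom (U j).hom) pullback.condition.symm

/-- the pairing -/
noncomputable def pair {W : X.Etale} {i j : ι} (a : W ⟶ U i) (b : W ⟶ U j) : W ⟶ P U i j :=
  MorphismProperty.Over.homMk (pullback.lift a.left b.left
    ((MorphismProperty.Over.w a).trans (MorphismProperty.Over.w b).symm)) (by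
      show pullback.lift _ _ _ ≫ pullback.fst _ _ ≫ _ = _
      rw [pullback.lift_fst_assoc]
      exact MorphismProperty.Over.w a)

@[simp] lemma pair_left {W : X.Etale} {i j : ι} (a : W ⟶ U i) (b : W ⟶ U j) :
    (pair a b).left = pullback.lift a.left b.left
      ((MorphismProperty.Over.w a).trans (MorphismProperty.Over.w b).symm) := rfl

@[reassoc (attr := simp)]
lemma pair_pr1 {W : X.Etale} {i j : ι} (a : W ⟶ U i) (b : W ⟶ U j) : pair a b ≫ pr1 i j = a := by
  apply MorphismProperty.Over.Hom.ext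
  exact pullback.lift_fst _ _ _

@[reassoc (attr := simp)]
lemma pair_pr2 {W : X.Etale} {i j : ι} (a : W ⟶ U i) (b : W ⟶ U j) : pair a b ≫ pr2 i j = b := by
  apply MorphismProperty.Over.Hom.ext
  exact pullback.lift_snd _ _ _

lemma hom_ext_P {T : Scheme.{u}} {i j : ι} (z z' : T ⟶ (P U i j).left)
    (h1 : z ≫ (pr1 i j).left = z' ≫ (pr1 i j).left)
    (h2 : z ≫ (pr2 i j).left = z' ≫ (pr2 i j).left) : z = z' :=
  pullback.hom_ext h1 h2

lemma pair_left_pr1 {W : X.Etale} {i j : ι} (a : W ⟶ U i) (b : W ⟶ U j) :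
    (pair a b).left ≫ (pr1 i j).left = a.left := pullback.lift_fst _ _ _

lemma pair_left_pr2 {W : X.Etale} {i j : ι} (a : W ⟶ U i) (b : W ⟶ U j) :
    (pair a b).left ≫ (pr2 i j).left = b.left := pullback.lift_snd _ _ _

variable (D : LocData.{w} G U)

/-- the transition functions -/
noncomputable def θ (i j : ι) (p : (P U i j).left) (n : D.K i) : D.K j :=
  D.sec j (P U i j) (pr2 i j)
    ((D.sec i (P U i j) (pr1 i j)).symm (LocallyConstant.const _ n)) p

/-- an open subscheme as an object of the small étale site -/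
noncomputable def opn (W : X.Etale) (O : W.left.Opens) : X.Etale := Scheme.Etale.mk (O.ι ≫ W.hom)

/-- the inclusion of an open subscheme -/
noncomputable def opnι (W : X.Etale) (O : W.left.Opens) : opn W O ⟶ W :=
  MorphismProperty.Over.homMk O.ι rfl

/-- the key formula: sections seen through two trivialisations differ by the transition
function -/
theorem sec_eq {W : X.Etale} {i j : ι} (a : W ⟶ U i) (b : W ⟶ U j) (s : G.obj (op W))
    (w : W.left) :
    D.sec j W b s w = θ D i j ((pair a b).left w) (D.sec i W a s w) := by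
  set n := D.sec i W a s w with hn
  let O : W.left.Opens := ⟨(D.sec i W a s) ⁻¹' {n}, (D.sec i W a s).isLocallyConstant.isOpen_fiber n⟩
  let o : opn W O ⟶ W := opnι W O
  let w₀ : (opn W O).left := ⟨w, rfl⟩
  have hw₀ : o.left w₀ = w := rfl
  let t := (D.sec i (P U i j) (pr1 i j)).symm (LocallyConstant.const _ n)
  have e1 : (o ≫ pair a b) ≫ pr1 i j = o ≫ a := by rw [Category.assoc, pair_pr1]
  have e2 : (o ≫ pair a b) ≫ pr2 i j = o ≫ b := by rw [Category.assoc, pair_pr2]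
  have key : G.map o.op s = G.map (o ≫ pair a b).op t := by
    apply (D.sec i (opn W O) (o ≫ a)).injective
    ext w'
    rw [D.nat i o a s w']
    have h1 : D.sec i W a s (o.left w') = n := w'.2
    rw [h1, ← e1, D.nat i (o ≫ pair a b) (pr1 i j) t w']
    have h3 : D.sec i (P U i j) (pr1 i j) t = LocallyConstant.const _ n :=
      Equiv.apply_symm_apply _ _
    rw [h3]
    rfl
  have h2 := D.nat j o b s w₀
  rw [hw₀] at h2
  rw [← h2, key, ← e2, D.nat j (o ≫ pair a b) (pr2 i j) t w₀]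
  rfl

lemma sec_const {W : X.Etale} {i j : ι} (a : W ⟶ U i) (b : W ⟶ U j) (n : D.K i) (w : W.left) :
    D.sec j W b ((D.sec i W a).symm (LocallyConstant.const _ n)) w =
      θ D i j ((pair a b).left w) n := by
  rw [sec_eq D a b, Equiv.apply_symm_apply]
  rfl

section points

variable {T : Scheme.{u}}

/-- a pair of points of `U i`, `U j` over the same point of `X`, as a point of the fibre product -/
noncomputable def pt2 {i j : ι} (x₀ : T ⟶ (U i).left) (x₁ : T ⟶ (U j).left)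
    (h : x₀ ≫ (U i).hom = x₁ ≫ (U j).hom) : T ⟶ (P U i j).left :=
  pullback.lift x₀ x₁ h

lemma pt2_pr1 {i j : ι} (x₀ : T ⟶ (U i).left) (x₁ : T ⟶ (U j).left)
    (h : x₀ ≫ (U i).hom = x₁ ≫ (U j).hom) : pt2 x₀ x₁ h ≫ (pr1 i j).left = x₀ :=
  pullback.lift_fst _ _ _

lemma pt2_pr2 {i j : ι} (x₀ : T ⟶ (U i).left) (x₁ : T ⟶ (U j).left)
    (h : x₀ ≫ (U i).hom = x₁ ≫ (U j).hom) : pt2 x₀ x₁ h ≫ (pr2 i j).left = x₁ :=
  pullback.lift_snd _ _ _

lemma pt2_comp {T' : Scheme.{u}} (g : T' ⟶ T) {i j : ι} (x₀ : T ⟶ (U i).left)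
    (x₁ : T ⟶ (U j).left) (h : x₀ ≫ (U i).hom = x₁ ≫ (U j).hom)
    (h' : (g ≫ x₀) ≫ (U i).hom = (g ≫ x₁) ≫ (U j).hom) :
    pt2 (g ≫ x₀) (g ≫ x₁) h' = g ≫ pt2 x₀ x₁ h := by
  apply hom_ext_P
  · rw [Category.assoc, pt2_pr1, pt2_pr1]
  · rw [Category.assoc, pt2_pr2, pt2_pr2]

/-- the triple fibre product -/
noncomputable def P3 (U : ι → X.Etale) (i j k : ι) : X.Etale :=
  Scheme.Etale.mk (pullback.fst (P U i j).hom (U k).hom ≫ (P U i j).hom)

/-- projections from the triple fibre product -/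
noncomputable def q12 (i j k : ι) : P3 U i j k ⟶ P U i j :=
  MorphismProperty.Over.homMk (pullback.fst (P U i j).hom (U k).hom) rfl

/-- third projection -/
noncomputable def q3 (i j k : ι) : P3 U i j k ⟶ U k :=
  MorphismProperty.Over.homMk (pullback.snd (P U i j).hom (U k).hom) pullback.condition.symm

/-- a triple of points as a point of the triple fibre product -/
noncomputable def pt3 {i j k : ι} (x₀ : T ⟶ (U i).left) (x₁ : T ⟶ (U j).left)
    (x₂ : T ⟶ (U k).left) (h₀₁ : x₀ ≫ (U i).hom = x₁ ≫ (U j).hom)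
    (h₁₂ : x₁ ≫ (U j).hom = x₂ ≫ (U k).hom) : T ⟶ (P3 U i j k).left :=
  pullback.lift (pt2 x₀ x₁ h₀₁) x₂ (by
    show pullback.lift _ _ _ ≫ pullback.fst _ _ ≫ _ = _
    rw [pullback.lift_fst_assoc, h₀₁, h₁₂])

variable {i j k : ι} (x₀ : T ⟶ (U i).left) (x₁ : T ⟶ (U j).left)
    (x₂ : T ⟶ (U k).left) (h₀₁ : x₀ ≫ (U i).hom = x₁ ≫ (U j).hom)
    (h₁₂ : x₁ ≫ (U j).hom = x₂ ≫ (U k).hom)

lemma pt3_a : pt3 x₀ x₁ x₂ h₀₁ h₁₂ ≫ (q12 i j k ≫ pr1 i j).left = x₀ := by
  show pullback.lift _ _ _ ≫ pullback.fst _ _ ≫ pullback.fst _ _ = _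
  rw [pullback.lift_fst_assoc]
  exact pullback.lift_fst _ _ _

lemma pt3_b : pt3 x₀ x₁ x₂ h₀₁ h₁₂ ≫ (q12 i j k ≫ pr2 i j).left = x₁ := by
  show pullback.lift _ _ _ ≫ pullback.fst _ _ ≫ pullback.snd _ _ = _
  rw [pullback.lift_fst_assoc]
  exact pullback.lift_snd _ _ _

lemma pt3_c : pt3 x₀ x₁ x₂ h₀₁ h₁₂ ≫ (q3 i j k).left = x₂ := by
  show pullback.lift _ _ _ ≫ pullback.snd _ _ = _
  exact pullback.lift_snd _ _ _

lemma pt3_pair_ab :
    pt3 x₀ x₁ x₂ h₀₁ h₁₂ ≫ (pair (q12 i j k ≫ pr1 i j) (q12 i j k ≫ pr2 i j)).left =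
      pt2 x₀ x₁ h₀₁ := by
  apply hom_ext_P
  · rw [Category.assoc, pair_left_pr1, pt3_a, pt2_pr1]
  · rw [Category.assoc, pair_left_pr2, pt3_b, pt2_pr2]

lemma pt3_pair_bc :
    pt3 x₀ x₁ x₂ h₀₁ h₁₂ ≫ (pair (q12 i j k ≫ pr2 i j) (q3 i j k)).left =
      pt2 x₁ x₂ h₁₂ := by
  apply hom_ext_P
  · rw [Category.assoc, pair_left_pr1, pt3_b, pt2_pr1]
  · rw [Category.assoc, pair_left_pr2, pt3_c, pt2_pr2]

lemma pt3_pair_ac :
    pt3 x₀ x₁ x₂ h₀₁ h₁₂ ≫ (pair (q12 i j k ≫ pr1 i j) (q3 i j k)).left =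
      pt2 x₀ x₂ (h₀₁.trans h₁₂) := by
  apply hom_ext_P
  · rw [Category.assoc, pair_left_pr1, pt3_a, pt2_pr1]
  · rw [Category.assoc, pair_left_pr2, pt3_c, pt2_pr2]

/-- the cocycle identity, pointwise -/
theorem θ_comp (t : T) (n : D.K i) :
    θ D j k (pt2 x₁ x₂ h₁₂ t) (θ D i j (pt2 x₀ x₁ h₀₁ t) n) =
      θ D i k (pt2 x₀ x₂ (h₀₁.trans h₁₂) t) n := by
  let a : P3 U i j k ⟶ U i := q12 i j k ≫ pr1 i j
  let b : P3 U i j k ⟶ U j := q12 i j k ≫ pr2 i j
  let c : P3 U i j k ⟶ U k := q3 i j k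
  let w : (P3 U i j k).left := pt3 x₀ x₁ x₂ h₀₁ h₁₂ t
  let s := (D.sec i (P3 U i j k) a).symm (LocallyConstant.const _ n)
  have hab : (pair a b).left w = pt2 x₀ x₁ h₀₁ t := by
    rw [← pt3_pair_ab x₀ x₁ x₂ h₀₁ h₁₂]
    rfl
  have hbc : (pair b c).left w = pt2 x₁ x₂ h₁₂ t := by
    rw [← pt3_pair_bc x₀ x₁ x₂ h₀₁ h₁₂]
    rfl
  have hac : (pair a c).left w = pt2 x₀ x₂ (h₀₁.trans h₁₂) t := by
    rw [← pt3_pair_ac x₀ x₁ x₂ h₀₁ h₁₂]
    rfl
  have h1 : D.sec j (P3 U i j k) b s w = θ D i j (pt2 x₀ x₁ h₀₁ t) n := by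
    rw [← hab]
    exact sec_const D a b n w
  have h2 : D.sec k (P3 U i j k) c s w = θ D i k (pt2 x₀ x₂ (h₀₁.trans h₁₂) t) n := by
    rw [← hac]
    exact sec_const D a c n w
  have h3 := sec_eq D b c s w
  rw [hbc, h1, h2] at h3
  exact h3.symm

/-- the transition function on the diagonal is the identity -/
theorem θ_self (x : T ⟶ (U i).left) (t : T) (n : D.K i) : θ D i i (pt2 x x rfl t) n = n := by
  have h := sec_const D (𝟙 (U i)) (𝟙 (U i)) n (x t)
  rw [Equiv.apply_symm_apply] at h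
  have e : x ≫ (pair (𝟙 (U i)) (𝟙 (U i))).left = pt2 x x rfl := by
    apply hom_ext_P
    · rw [Category.assoc, pair_left_pr1, pt2_pr1]
      exact Category.comp_id x
    · rw [Category.assoc, pair_left_pr2, pt2_pr2]
      exact Category.comp_id x
  rw [← e]
  exact h.symm

end points

end Groth.Agent.Helper6.FlcRepB
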