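import Mathlib
import Groth.Prelude.Def_DescFam
import Groth.Agent.Helper6.FlcRepA
import Groth.Agent.Helper6.FlcRepB

/-! The descent datum attached to local trivialisation data. -/

set_option autoImplicit false
set_option linter.style.haveILetI false
set_option linter.unusedSectionVars false
set_option linter.unusedVariables false
set_option linter.unusedSimpArgs false

universe w u

open CategoryTheory CategoryTheory.Limits Opposite AlgebraicGeometry

namespace Groth.Agent.Helper6.FlcRepC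

open Groth.Agent.Helper6.FlcRepA Groth.Agent.Helper6.FlcRepB

variable {X : Scheme.{u}} {G : X.Etaleᵒᵖ ⥤ Type (u + 1)} {ι : Type u} {U : ι → X.Etale}
  (D : LocData.{w} G U)

lemma isLocallyConstant_θ (i j : ι) (n : D.K i) :
    IsLocallyConstant (fun p : (P U i j).left => θ D i j p n) :=
  (D.sec j (P U i j) (pr2 i j)
    ((D.sec i (P U i j) (pr1 i j)).symm (LocallyConstant.const _ n))).isLocallyConstant

variable {T : Scheme.{u}}

/-- the transition on locally constant functions -/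
noncomputable def trLC {i j : ι} (z : T ⟶ (P U i j).left) (s : LocallyConstant T (D.K i)) :
    LocallyConstant T (D.K j) :=
  ⟨fun t => θ D i j (z t) (s t), by
    rw [IsLocallyConstant.iff_exists_open]
    intro t₀
    refine ⟨(s ⁻¹' {s t₀}) ∩ (z ⁻¹' ((fun p => θ D i j p (s t₀)) ⁻¹' {θ D i j (z t₀) (s t₀)})),
      ?_, ⟨rfl, rfl⟩, ?_⟩
    · exact (s.isLocallyConstant.isOpen_fiber _).inter
        (((isLocallyConstant_θ D i j (s t₀)).isOpen_fiber _).preimage z.continuous)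
    · rintro t ⟨h1, h2⟩
      have h1' : s t = s t₀ := h1
      have h2' : θ D i j (z t) (s t₀) = θ D i j (z t₀) (s t₀) := h2
      show θ D i j (z t) (s t) = θ D i j (z t₀) (s t₀)
      rw [h1', h2']⟩

@[simp] lemma trLC_apply {i j : ι} (z : T ⟶ (P U i j).left) (s : LocallyConstant T (D.K i))
    (t : T) : trLC D z s t = θ D i j (z t) (s t) := rfl

lemma trLC_trLC {i j k : ι} (x₀ : T ⟶ (U i).left) (x₁ : T ⟶ (U j).left) (x₂ : T ⟶ (U k).left)
    (h₀₁ : x₀ ≫ (U i).hom = x₁ ≫ (U j).hom) (h₁₂ : x₁ ≫ (U j).hom = x₂ ≫ (U k).hom)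
    (s : LocallyConstant T (D.K i)) :
    trLC D (pt2 x₁ x₂ h₁₂) (trLC D (pt2 x₀ x₁ h₀₁) s) = trLC D (pt2 x₀ x₂ (h₀₁.trans h₁₂)) s := by
  ext t
  exact θ_comp D x₀ x₁ x₂ h₀₁ h₁₂ t (s t)

lemma trLC_self {i : ι} (x : T ⟶ (U i).left) (s : LocallyConstant T (D.K i)) :
    trLC D (pt2 x x rfl) s = s := by
  ext t
  exact θ_self D x t (s t)

lemma trLC_inv {i j : ι} (x₀ : T ⟶ (U i).left) (x₁ : T ⟶ (U j).left)
    (h : x₀ ≫ (U i).hom = x₁ ≫ (U j).hom) (s : LocallyConstant T (D.K i)) :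
    trLC D (pt2 x₁ x₀ h.symm) (trLC D (pt2 x₀ x₁ h) s) = s :=
  (trLC_trLC D x₀ x₁ x₀ h h.symm s).trans (trLC_self D x₀ s)

variable [∀ i, Small.{u} (D.K i)]

/-- the constant schemes -/
noncomputable def obj (i : ι) : Over (U i).left := cObj (U i).left (D.K i)

/-- the gluing bijections -/
noncomputable def φ {i j : ι} (x₀ : T ⟶ (U i).left) (x₁ : T ⟶ (U j).left)
    (h : x₀ ≫ (U i).hom = x₁ ≫ (U j).hom) :
    Desc.Lifts (obj D i) x₀ ≃ Desc.Lifts (obj D j) x₁ where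
  toFun v := (ptsEquiv x₁).symm (trLC D (pt2 x₀ x₁ h) (ptsEquiv x₀ v))
  invFun v := (ptsEquiv x₀).symm (trLC D (pt2 x₁ x₀ h.symm) (ptsEquiv x₁ v))
  left_inv v :=
    ((congrArg (fun s => (ptsEquiv x₀).symm (trLC D (pt2 x₁ x₀ h.symm) s))
      (Equiv.apply_symm_apply (ptsEquiv x₁) _)).trans
      (congrArg (ptsEquiv x₀).symm (trLC_inv D x₀ x₁ h _))).trans
      (Equiv.symm_apply_apply _ v)
  right_inv v :=
    ((congrArg (fun s => (ptsEquiv x₁).symm (trLC D (pt2 x₀ x₁ h) s))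
      (Equiv.apply_symm_apply (ptsEquiv x₀) _)).trans
      (congrArg (ptsEquiv x₁).symm (trLC_inv D x₁ x₀ h.symm _))).trans
      (Equiv.symm_apply_apply _ v)

lemma idx_φ {i j : ι} (x₀ : T ⟶ (U i).left) (x₁ : T ⟶ (U j).left)
    (h : x₀ ≫ (U i).hom = x₁ ≫ (U j).hom) (v : Desc.Lifts (obj D i) x₀) (t : T) :
    idx (φ D x₀ x₁ h v).1 t = θ D i j (pt2 x₀ x₁ h t) (idx v.1 t) :=
  idx_ptsEquiv_symm x₁ _ t

/-- two points of a constant scheme over the same point with the same index function agree -/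
lemma lifts_ext {S : Scheme.{u}} {K : Type w} [Small.{u} K] {T : Scheme.{u}}
    (v v' : T ⟶ cSch S K) (h : v ≫ cHom S K = v' ≫ cHom S K) (hi : ∀ t, idx v t = idx v' t) :
    v = v' := by
  have := (ptsEquiv (K := K) (v' ≫ cHom S K)).injective
    (a₁ := ⟨v, h⟩) (a₂ := ⟨v', rfl⟩) (by ext t; exact hi t)
  exact congrArg Subtype.val this

/-- the descent datum -/
noncomputable def dd : Desc.SchDDFam (fun i => (U i).hom) where
  obj i := obj D i
  φ T i j x₀ x₁ h := φ D x₀ x₁ h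
  φ_natural T T' g i j x₀ x₁ h y₀ y₁ hy₀ hy₁ h' v v' hv' := by
    subst hy₀ hy₁
    apply lifts_ext
    · have e1 : (φ D (g ≫ x₀) (g ≫ x₁) h' v').1 ≫ cHom _ _ = g ≫ x₁ := (φ D _ _ h' v').2
      have e2 : (φ D x₀ x₁ h v).1 ≫ cHom _ _ = x₁ := (φ D _ _ h v).2
      exact e1.trans ((congrArg (fun m => g ≫ m) e2).symm.trans (Category.assoc _ _ _).symm)
    · intro t'
      have h1 := idx_φ D (g ≫ x₀) (g ≫ x₁) h' v' t'
      have h2 := idx_φ D x₀ x₁ h v (g t')
      have h3 : idx v'.1 t' = idx v.1 (g t') := by rw [hv']; rfl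
      have h4 : pt2 (g ≫ x₀) (g ≫ x₁) h' t' = pt2 x₀ x₁ h (g t') := by
        rw [pt2_comp g x₀ x₁ h h']; rfl
      refine h1.trans ?_
      rw [h3, h4]
      exact h2.symm
  φ_self T i x v :=
    (congrArg (ptsEquiv x).symm (trLC_self D x _)).trans (Equiv.symm_apply_apply _ v)
  φ_comp T i j k x₀ x₁ x₂ h₀₁ h₁₂ v :=
    (congrArg (fun s => (ptsEquiv x₂).symm (trLC D (pt2 x₁ x₂ h₁₂) s))
      (Equiv.apply_symm_apply (ptsEquiv x₁) _)).trans
      (congrArg (ptsEquiv x₂).symm (trLC_trLC D x₀ x₁ x₂ h₀₁ h₁₂ _))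

@[simp] lemma dd_obj (i : ι) : (dd D).obj i = obj D i := rfl

lemma dd_φ {i j : ι} (x₀ : T ⟶ (U i).left) (x₁ : T ⟶ (U j).left)
    (h : x₀ ≫ (U i).hom = x₁ ≫ (U j).hom) : (dd D).φ x₀ x₁ h = φ D x₀ x₁ h := rfl

end Groth.Agent.Helper6.FlcRepC
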