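import Mathlib

universe u

namespace Groth.Agent.Helper6.GeomTr3

open CategoryTheory CategoryTheory.Limits AlgebraicGeometry

theorem isFinite_sigmaDesc (ι : Type u) [Finite ι] :
    ∀ {X : Scheme.{u}} (Y : ι → Scheme.{u}) (f : ∀ i, Y i ⟶ X),
      (∀ i, IsFinite (f i)) → IsFinite (Sigma.desc f) := by
  refine Finite.induction_empty_option (P := fun ι => ∀ {X : Scheme.{u}} (Y : ι → Scheme.{u})
    (f : ∀ i, Y i ⟶ X), (∀ i, IsFinite (f i)) → IsFinite (Sigma.desc f)) ?_ ?_ ?_ ι
  · intro α β e h X Y f hf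
    haveI h1 : IsFinite (Sigma.desc (f := Y ∘ e) (fun a => f (e a))) :=
      h (Y ∘ e) (fun a => f (e a)) (fun a => hf _)
    have e1 : Sigma.desc f = (Sigma.reindex e Y).inv ≫ Sigma.desc (f := Y ∘ e) (fun a => f (e a)) := by
      rw [Iso.eq_inv_comp]
      ext a
      simp only [Function.comp_apply, Sigma.ι_reindex_hom_assoc, colimit.ι_desc, Cofan.mk_pt, Cofan.mk_ι_app]
    rw [e1]
    infer_instance
  · intro X Y f _
    haveI : IsEmpty ↥(∐ Y) := by
      constructor
      intro x
      obtain ⟨i, -⟩ := (sigmaOpenCover Y).exists_eq x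
      exact i.elim
    infer_instance
  · intro α _ h X Y f hf
    have h1 : IsFinite (Sigma.desc (fun a => f (some a))) :=
      h (fun a => Y (some a)) (fun a => f (some a)) (fun a => hf _)
    haveI := hf none
    haveI h2 : IsFinite (coprod.desc (f none) (Sigma.desc (fun a => f (some a)))) := inferInstance
    let φ : Y none ⨿ (∐ fun a => Y (some a)) ⟶ ∐ Y :=
      coprod.desc (Sigma.ι Y none) (Sigma.desc (fun a => Sigma.ι Y (some a)))
    let ψ : ∐ Y ⟶ Y none ⨿ (∐ fun a => Y (some a)) :=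
      Sigma.desc (fun o => match o with
        | none => coprod.inl
        | some a => Sigma.ι (fun a => Y (some a)) a ≫ coprod.inr)
    have hψn : Sigma.ι Y none ≫ ψ = coprod.inl := Sigma.ι_desc _ _
    have hψs : ∀ a, Sigma.ι Y (some a) ≫ ψ = Sigma.ι (fun a => Y (some a)) a ≫ coprod.inr :=
      fun a => Sigma.ι_desc _ _
    have hφl : coprod.inl ≫ φ = Sigma.ι Y none := coprod.inl_desc _ _
    have hφr : ∀ a, Sigma.ι (fun a => Y (some a)) a ≫ coprod.inr ≫ φ = Sigma.ι Y (some a) := by
      intro a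
      have : coprod.inr ≫ φ = Sigma.desc (fun a => Sigma.ι Y (some a)) := coprod.inr_desc _ _
      rw [this]
      exact Sigma.ι_desc _ _
    have hψφ : ψ ≫ φ = 𝟙 _ := by
      apply Sigma.hom_ext
      intro o
      cases o with
      | none => rw [reassoc_of% hψn, hφl, Category.comp_id]
      | some a => rw [reassoc_of% (hψs a), hφr, Category.comp_id]
    have hφψ : φ ≫ ψ = 𝟙 _ := by
      apply coprod.hom_ext
      · rw [reassoc_of% hφl, hψn, Category.comp_id]
      · apply Sigma.hom_ext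
        intro a
        rw [reassoc_of% (hφr a), hψs, Category.comp_id]
    haveI : IsIso ψ := ⟨φ, hψφ, hφψ⟩
    have e1 : Sigma.desc f = ψ ≫ coprod.desc (f none) (Sigma.desc (fun a => f (some a))) := by
      apply Sigma.hom_ext
      intro o
      cases o with
      | none => rw [reassoc_of% hψn, coprod.inl_desc]; exact Sigma.ι_desc _ _
      | some a =>
        rw [reassoc_of% (hψs a), coprod.inr_desc]
        rw [Sigma.ι_desc (f := fun a => Y (some a)) (fun a => f (some a)) a]
        exact Sigma.ι_desc _ _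
    rw [e1]
    infer_instance

theorem graphCover {X S Y : Scheme.{u}} (q : X ⟶ S) [IsFinite q]
    {G : Type u} [Group G] [Finite G] (ρ : G →* Aut X)
    (htrans : ∀ (Ω : Type u) [Field Ω] [IsAlgClosed Ω] (τ₁ τ₂ : Spec (CommRingCat.of Ω) ⟶ X),
      τ₁ ≫ q = τ₂ ≫ q → ∃ g : G, τ₁ ≫ (ρ g).hom = τ₂)
    (r : Y ⟶ X) (υ : (∐ fun _ : G => Y) ⟶ pullback (r ≫ q) q)
    (hυ₁ : ∀ σ : G, Sigma.ι (fun _ : G => Y) σ ≫ υ ≫ pullback.fst (r ≫ q) q = 𝟙 Y)
    (hυ₂ : ∀ σ : G, Sigma.ι (fun _ : G => Y) σ ≫ υ ≫ pullback.snd (r ≫ q) q = r ≫ (ρ σ).hom) :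
    IsFinite υ ∧ Surjective υ := by
  constructor
  · have e1 : υ ≫ pullback.fst (r ≫ q) q = Sigma.desc (fun _ : G => 𝟙 Y) := by
      apply Sigma.hom_ext
      intro σ
      rw [hυ₁, Sigma.ι_desc]
    haveI : IsFinite (υ ≫ pullback.fst (r ≫ q) q) := by
      rw [e1]
      exact isFinite_sigmaDesc G _ _ (fun _ => inferInstance)
    exact IsFinite.of_comp υ (pullback.fst (r ≫ q) q)
  · constructor
    intro z
    let P := pullback (r ≫ q) q
    let K := P.residueField z
    let Ω := AlgebraicClosure K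
    let t : Spec (CommRingCat.of Ω) ⟶ P :=
      Spec.map (CommRingCat.ofHom (algebraMap K Ω)) ≫ P.fromSpecResidueField z
    let cp : ↥(Spec (CommRingCat.of Ω)) := IsLocalRing.closedPoint Ω
    have ht : t cp = z := by
      simp only [t, Scheme.Hom.comp_apply]
      exact Scheme.fromSpecResidueField_apply _ _
    obtain ⟨g, hg⟩ := htrans Ω (t ≫ pullback.fst _ _ ≫ r) (t ≫ pullback.snd _ _) (by
      simp only [Category.assoc]
      rw [pullback.condition])
    have key : t = (t ≫ pullback.fst _ _) ≫ Sigma.ι (fun _ : G => Y) g ≫ υ := by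
      apply pullback.hom_ext
      · simp only [Category.assoc]
        rw [hυ₁, Category.comp_id]
      · simp only [Category.assoc]
        rw [hυ₂, ← hg]
        simp only [Category.assoc]
    refine ⟨Sigma.ι (fun _ : G => Y) g ((pullback.fst (r ≫ q) q) z), ?_⟩
    rw [← ht]
    conv_rhs => rw [key]
    simp only [Scheme.Hom.comp_apply]

end Groth.Agent.Helper6.GeomTr3
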