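import Mathlib
import Groth.Agent.S1133
import Groth.Agent.S9858
import Groth.Agent.Helper6.FlcRepC
import Groth.Agent.Helper6.FlcRepC0
import Groth.Agent.Helper6.GeomTr3
import Groth.Agent.Helper5.FppfLocT1
import Groth.Agent.Lead.SchDescent2

/-! Effectivity of the descent datum attached to local trivialisation data, and properties of
the descended scheme. -/

set_option autoImplicit false
set_option linter.style.haveILetI false
set_option linter.unusedSectionVars false
set_option linter.unusedVariables false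
set_option linter.unusedSimpArgs false

universe w u

open CategoryTheory CategoryTheory.Limits Opposite AlgebraicGeometry

namespace Groth.Agent.Helper6.FlcRepD

open Groth.Agent.Helper6.FlcRepA Groth.Agent.Helper6.FlcRepB Groth.Agent.Helper6.FlcRepC

section const

variable (S : Scheme.{u}) (K : Type w) [Finite K]

instance small_of_finite : Small.{u} K := by
  obtain ⟨n, ⟨e⟩⟩ := Finite.exists_equiv_fin K
  exact ⟨⟨ULift.{u} (Fin n), ⟨e.trans Equiv.ulift.symm⟩⟩⟩

theorem isFinite_cHom : IsFinite (cHom S K) := by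
  obtain ⟨n, ⟨e⟩⟩ := Finite.exists_equiv_fin K
  let ε : ULift.{u} (Fin n) ≃ K := Equiv.ulift.trans e.symm
  have h1 : IsFinite (Sigma.desc (fun _ : ULift.{u} (Fin n) => 𝟙 S)) :=
    Groth.Agent.Helper6.GeomTr3.isFinite_sigmaDesc _ _ _ (fun _ => inferInstance)
  have e1 : cHom S K = (Sigma.reindex ε (fun _ : K => S)).inv ≫
      Sigma.desc (fun _ : ULift.{u} (Fin n) => 𝟙 S) := by
    rw [Iso.eq_inv_comp]
    apply Sigma.hom_ext
    intro a
    simp
  rw [e1]
  exact (MorphismProperty.cancel_left_of_respectsIso @IsFinite _ _).2 h1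

theorem etale_cHom : Etale (cHom S K) := by
  rw [IsZariskiLocalAtSource.iff_of_openCover (P := @Etale) (sigmaOpenCover (fun _ : K => S))]
  intro k
  have h : ∀ k' : K, Etale (Sigma.ι (fun _ : K => S) k' ≫ cHom S K) := by
    intro k'
    have h1 : Sigma.ι (fun _ : K => S) k' ≫ cHom S K = 𝟙 S := inj_cHom k'
    rw [h1]
    infer_instance
  exact h k

end const

variable {X : Scheme.{u}} {G : X.Etaleᵒᵖ ⥤ Type (u + 1)} {ι : Type u} {U : ι → X.Etale}
  (D : LocData.{w} G U) [∀ i, Finite (D.K i)]

theorem mem_fpqc (hU : EtCoh.Covers U) :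
    Presieve.ofArrows (fun i => (U i).left) (fun i => (U i).hom) ∈ Scheme.fpqcPrecoverage X := by
  apply Scheme.fppfPrecoverage_le_fpqcPrecoverage
  rw [Scheme.fppfPrecoverage, Scheme.ofArrows_mem_precoverage_iff]
  refine ⟨fun x => ?_, fun i => ⟨inferInstance, inferInstance⟩⟩
  obtain ⟨i, y, hy⟩ := hU x
  exact ⟨i, y, hy⟩

/-- the descent datum is effective -/
theorem effective (hU : EtCoh.Covers U) : (dd D).IsEffective := by
  refine Groth.Agent.S9858.result (@IsAffineHom) ?_ ?_ (fun i => (U i).hom) (mem_fpqc hU) (dd D) ?_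
  · intro m Y V q hq
    exact Groth.Agent.Helper6.FlcRepC0.isAffineHom_sigmaMap q hq
  · intro X' S' p hX hS hfl hsurj DD hDD
    haveI := hX
    haveI := hS
    haveI := hfl
    haveI := hsurj
    haveI : IsAffineHom DD.obj.hom := hDD
    haveI : IsAffineHom p := isAffineHom_of_isAffine p
    exact Groth.Agent.S1133.result p DD
  · intro i
    haveI := isFinite_cHom (U i).left (D.K i)
    show IsAffineHom (cHom (U i).left (D.K i))
    infer_instance

end Groth.Agent.Helper6.FlcRepD
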