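import Mathlib
import Groth.Agent.Helper6.FlcRepD

/-! The descended scheme: finite étale, and its points over objects mapping to some `U i`. -/

set_option autoImplicit false
set_option linter.style.haveILetI false
set_option linter.unusedSectionVars false
set_option linter.unusedVariables false
set_option linter.unusedSimpArgs false

universe w u

open CategoryTheory CategoryTheory.Limits Opposite AlgebraicGeometry

namespace Groth.Agent.Helper6.FlcRepE

open Groth.Agent.Helper6.FlcRepA Groth.Agent.Helper6.FlcRepB Groth.Agent.Helper6.FlcRepC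
  Groth.Agent.Helper6.FlcRepD

variable {X : Scheme.{u}} {G : X.Etaleᵒᵖ ⥤ Type (u + 1)} {ι : Type u} {U : ι → X.Etale}
  (D : LocData.{w} G U) [∀ i, Finite (D.K i)]

theorem mem_fppf (hU : EtCoh.Covers U) :
    Presieve.ofArrows (fun i => (U i).left) (fun i => (U i).hom) ∈ Scheme.fppfPrecoverage X := by
  rw [Scheme.fppfPrecoverage, Scheme.ofArrows_mem_precoverage_iff]
  refine ⟨fun x => ?_, fun i => ⟨inferInstance, inferInstance⟩⟩
  obtain ⟨i, y, hy⟩ := hU x
  exact ⟨i, y, hy⟩

variable {Y : Over X} (Ψ : (Desc.toDDFam (fun i => (U i).hom)).obj Y ≅ dd D)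

/-- the component isomorphisms -/
noncomputable def cIso (i : ι) : Over.mk (pullback.fst (U i).hom Y.hom) ≅ obj D i where
  hom := Ψ.hom.hom i
  inv := Ψ.inv.hom i
  hom_inv_id := congrArg (fun a => Desc.SchDDFam.Hom.hom a i) Ψ.hom_inv_id
  inv_hom_id := congrArg (fun a => Desc.SchDDFam.Hom.hom a i) Ψ.inv_hom_id

lemma fst_eq (i : ι) :
    pullback.fst (U i).hom Y.hom = (cIso D Ψ i).hom.left ≫ cHom (U i).left (D.K i) :=
  (Over.w (cIso D Ψ i).hom).symm

include Ψ in
theorem prop_hom (P : MorphismProperty Scheme.{u}) [P.IsLocalAtTarget Scheme.fppfPrecoverage]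
    (hU : EtCoh.Covers U) (hP : ∀ i, P (cHom (U i).left (D.K i))) : P Y.hom := by
  have key : ∀ i, P (pullback.snd Y.hom (U i).hom) := by
    intro i
    have e : pullback.snd Y.hom (U i).hom =
        (pullbackSymmetry Y.hom (U i).hom).hom ≫ (cIso D Ψ i).hom.left ≫
          cHom (U i).left (D.K i) := by
      rw [← fst_eq, pullbackSymmetry_hom_comp_fst]
    rw [e]
    have h1 : IsIso (cIso D Ψ i).hom.left :=
      (inferInstance : IsIso ((Over.forget _).map (cIso D Ψ i).hom))
    exact (MorphismProperty.cancel_left_of_respectsIso P _ _).2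
      ((MorphismProperty.cancel_left_of_respectsIso P _ _).2 (hP i))
  refine MorphismProperty.IsLocalAtTarget.of_forall_pullbackSnd (K := Scheme.fppfPrecoverage)
    (R := Presieve.ofArrows (fun i => (U i).left) (fun i => (U i).hom)) (mem_fppf hU) ?_
  rintro _ _ _ ⟨i⟩
  exact key i

include Ψ in
theorem isFinite_hom (hU : EtCoh.Covers U) : IsFinite Y.hom := by
  have : MorphismProperty.IsLocalAtTarget (@IsFinite : MorphismProperty Scheme.{u})
      Scheme.fppfPrecoverage :=
    Groth.Agent.Helper5.FppfLocT.isLocalAtTarget_fppf _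
  exact prop_hom D Ψ @IsFinite hU (fun i => isFinite_cHom _ _)

include Ψ in
theorem etale_hom (hU : EtCoh.Covers U) : Etale Y.hom := by
  have := Groth.Agent.Helper5.FppfLocT.etale_fppf.{u}
  exact prop_hom D Ψ @Etale hU (fun i => etale_cHom _ _)

section pts

variable (hEt : Etale Y.hom)

/-- the descended object of the small étale site -/
noncomputable def Yet (hEt : Etale Y.hom) : X.Etale := @Scheme.Etale.mk X Y.left Y.hom hEt

variable {W : X.Etale} {i : ι} (a : W ⟶ U i)

/-- the point of the pullback attached to a map to the descended object -/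
noncomputable def lft (g : W ⟶ Yet hEt) :
    Desc.Lifts (Over.mk (pullback.fst (U i).hom Y.hom)) a.left :=
  ⟨pullback.lift a.left g.left
    ((MorphismProperty.Over.w a).trans (MorphismProperty.Over.w g).symm),
    pullback.lift_fst _ _ _⟩

lemma lft_snd (g : W ⟶ Yet hEt) : (lft hEt a g).1 ≫ pullback.snd (U i).hom Y.hom = g.left :=
  pullback.lift_snd _ _ _

lemma lft_fst (g : W ⟶ Yet hEt) : (lft hEt a g).1 ≫ pullback.fst (U i).hom Y.hom = a.left :=
  pullback.lift_fst _ _ _

/-- maps to the descended object are the points of the pullback over `a` -/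
noncomputable def liftEquiv :
    (W ⟶ Yet hEt) ≃ Desc.Lifts (Over.mk (pullback.fst (U i).hom Y.hom)) a.left where
  toFun g := lft hEt a g
  invFun v := MorphismProperty.Over.homMk (v.1 ≫ pullback.snd (U i).hom Y.hom) (by
    show (v.1 ≫ pullback.snd (U i).hom Y.hom) ≫ Y.hom = W.hom
    have e : v.1 ≫ pullback.fst (U i).hom Y.hom = a.left := v.2
    rw [Category.assoc, ← pullback.condition, ← Category.assoc, e]
    exact MorphismProperty.Over.w a)
  left_inv g := by
    apply MorphismProperty.Over.Hom.ext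
    exact lft_snd hEt a g
  right_inv v := by
    apply Subtype.ext
    apply pullback.hom_ext
    · exact (lft_fst hEt a _).trans v.2.symm
    · exact lft_snd hEt a _

/-- transport of points along the isomorphism of descent data -/
noncomputable def pushEquiv {T : Scheme.{u}} (x : T ⟶ (U i).left) :
    Desc.Lifts (Over.mk (pullback.fst (U i).hom Y.hom)) x ≃ Desc.Lifts (obj D i) x where
  toFun v := Desc.SchDDFam.Hom.push Ψ.hom v
  invFun v := Desc.SchDDFam.Hom.push Ψ.inv v
  left_inv v := by
    apply Subtype.ext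
    show (v.1 ≫ (Ψ.hom.hom i).left) ≫ (Ψ.inv.hom i).left = v.1
    have e : (Ψ.hom.hom i).left ≫ (Ψ.inv.hom i).left = 𝟙 _ :=
      congrArg CommaMorphism.left (cIso D Ψ i).hom_inv_id
    exact (Category.assoc _ _ _).trans ((congrArg (fun m => v.1 ≫ m) e).trans
      (Category.comp_id _))
  right_inv v := by
    apply Subtype.ext
    show (v.1 ≫ (Ψ.inv.hom i).left) ≫ (Ψ.hom.hom i).left = v.1
    have e : (Ψ.inv.hom i).left ≫ (Ψ.hom.hom i).left = 𝟙 _ :=
      congrArg CommaMorphism.left (cIso D Ψ i).inv_hom_id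
    exact (Category.assoc _ _ _).trans ((congrArg (fun m => v.1 ≫ m) e).trans
      (Category.comp_id _))

lemma pushEquiv_val {T : Scheme.{u}} (x : T ⟶ (U i).left)
    (v : Desc.Lifts (Over.mk (pullback.fst (U i).hom Y.hom)) x) :
    (pushEquiv D Ψ x v).1 = v.1 ≫ (Ψ.hom.hom i).left := rfl

/-- maps from `W` to the descended object are the sections of `G` over `W` -/
noncomputable def Φ : (W ⟶ Yet hEt) ≃ G.obj (op W) :=
  (liftEquiv hEt a).trans ((pushEquiv D Ψ a.left).trans
    ((ptsEquiv (S := (U i).left) (K := D.K i) a.left).trans (D.sec i W a).symm))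

lemma sec_Φ (g : W ⟶ Yet hEt) (w : W.left) :
    D.sec i W a (Φ D Ψ hEt a g) w = idx ((lft hEt a g).1 ≫ (Ψ.hom.hom i).left) w := by
  have h : D.sec i W a (Φ D Ψ hEt a g) =
      ptsEquiv (S := (U i).left) (K := D.K i) a.left (pushEquiv D Ψ a.left (lft hEt a g)) :=
    Equiv.apply_symm_apply _ _
  rw [h]
  rfl

/-- independence of the chosen trivialisation -/
theorem Φ_indep {j : ι} (b : W ⟶ U j) (g : W ⟶ Yet hEt) : Φ D Ψ hEt a g = Φ D Ψ hEt b g := by
  apply (D.sec j W b).injective
  ext w
  rw [sec_Φ, sec_eq D a b, sec_Φ]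
  have h : a.left ≫ (U i).hom = b.left ≫ (U j).hom :=
    (MorphismProperty.Over.w a).trans (MorphismProperty.Over.w b).symm
  have hc := Ψ.hom.comm a.left b.left h (lft hEt a g) (pushEquiv D Ψ a.left (lft hEt a g)) rfl
  have hcan : ((Desc.canonicalDDFam (fun i => (U i).hom) Y).φ a.left b.left h (lft hEt a g)).1 =
      (lft hEt b g).1 := by
    apply pullback.hom_ext
    · exact (pullback.lift_fst _ _ _).trans (lft_fst hEt b g).symm
    · refine (pullback.lift_snd _ _ _).trans ?_
      exact (lft_snd hEt a g).trans (lft_snd hEt b g).symm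
  have h2 := idx_φ D a.left b.left h (pushEquiv D Ψ a.left (lft hEt a g)) w
  have h3 : ((dd D).φ a.left b.left h (pushEquiv D Ψ a.left (lft hEt a g))).1 =
      (lft hEt b g).1 ≫ (Ψ.hom.hom j).left := by
    rw [← hcan]
    exact hc
  rw [dd_φ] at h3
  exact (h2.symm.trans (congrArg (fun m => idx m w) h3))

/-- naturality -/
theorem Φ_nat {W' : X.Etale} (h : W' ⟶ W) (g : W ⟶ Yet hEt) :
    Φ D Ψ hEt (h ≫ a) (h ≫ g) = G.map h.op (Φ D Ψ hEt a g) := by
  apply (D.sec i W' (h ≫ a)).injective
  ext w'
  rw [sec_Φ, D.nat i h a, sec_Φ]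
  have e : (lft hEt (h ≫ a) (h ≫ g)).1 = h.left ≫ (lft hEt a g).1 := by
    apply pullback.hom_ext
    · rw [Category.assoc, lft_fst, lft_fst]
      rfl
    · rw [Category.assoc, lft_snd, lft_snd]
      rfl
  rw [e, Category.assoc]
  rfl

end pts

end Groth.Agent.Helper6.FlcRepE
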