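import Mathlib

/-! The small étale topology of a scheme is subcanonical. -/

set_option autoImplicit false

universe u

open CategoryTheory CategoryTheory.Limits Opposite AlgebraicGeometry

namespace Groth.Agent.Helper6.SmallSub

theorem etaleSub : Scheme.etaleTopology.{u}.Subcanonical :=
  .of_le (Scheme.etaleTopology_le_proetaleTopology.trans Scheme.proetaleTopology_le_fpqcTopology)

theorem le_prec : Scheme.precoverage (@Etale : MorphismProperty Scheme.{u}) ≤
    MorphismProperty.precoverage (@Etale : MorphismProperty Scheme.{u}) := inf_le_right

theorem smallEtale_eq (X : Scheme.{u}) : X.smallEtaleTopology =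
    ((Scheme.precoverage (@Etale : MorphismProperty Scheme.{u})).comap
      (MorphismProperty.Over.forget @Etale ⊤ X ⋙ CategoryTheory.Over.forget X)).toGrothendieck := by
  rw [MorphismProperty.toGrothendieck_comap_forget_eq_restrictedTopology _ le_prec]
  rfl

theorem isContinuous_forget (X : Scheme.{u}) :
    (MorphismProperty.Over.forget @Etale ⊤ X).IsContinuous X.smallEtaleTopology
      (Scheme.etaleTopology.over X) := by
  rw [smallEtale_eq]
  exact MorphismProperty.isContinuous_comap_forget _ le_prec

/-- the small étale topology is subcanonical -/
theorem subcanonical (X : Scheme.{u}) : X.smallEtaleTopology.Subcanonical := by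
  have := etaleSub.{u}
  have := isContinuous_forget X
  exact GrothendieckTopology.subcanonical_of_full_of_faithful
    (MorphismProperty.Over.forget @Etale ⊤ X) _ (Scheme.etaleTopology.over X)

/-- representable presheaves, lifted one universe, are sheaves on the small étale site -/
theorem isSheaf_yoneda_ulift {X : Scheme.{u}} (V : X.Etale) :
    Presheaf.IsSheaf X.smallEtaleTopology (yoneda.obj V ⋙ uliftFunctor.{u + 1}) := by
  have := subcanonical X
  rw [isSheaf_iff_isSheaf_of_type, Presieve.isSheaf_comp_uliftFunctor_iff]
  exact GrothendieckTopology.Subcanonical.isSheaf_of_isRepresentable _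

end Groth.Agent.Helper6.SmallSub
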