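import Mathlib
import Groth.Agent.Helper6.FlcRepE
import Groth.Agent.Helper6.SmallSub
import Groth.Agent.Helper4.EtGeom

/-! A sheaf of sets on the small étale site with finite local trivialisation data is
representable by a finite étale scheme. -/

set_option autoImplicit false
set_option linter.style.haveILetI false
set_option linter.unusedSectionVars false
set_option linter.unusedVariables false
set_option linter.unusedSimpArgs false

universe w u

open CategoryTheory CategoryTheory.Limits Opposite AlgebraicGeometry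

namespace Groth.Agent.Helper6.FlcRepF

open Groth.Agent.Helper6.FlcRepA Groth.Agent.Helper6.FlcRepB Groth.Agent.Helper6.FlcRepC
  Groth.Agent.Helper6.FlcRepD Groth.Agent.Helper6.FlcRepE

variable {X : Scheme.{u}} {ι : Type u} (U : ι → X.Etale)

/-- objects mapping to some member of the family -/
def sm : ObjectProperty X.Etale := fun W => ∃ i, Nonempty (W ⟶ U i)

/-- `V ×_X U i` -/
noncomputable def prd (V : X.Etale) (i : ι) : X.Etale :=
  Scheme.Etale.mk (pullback.fst V.hom (U i).hom ≫ V.hom)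

/-- first projection -/
noncomputable def prd1 (V : X.Etale) (i : ι) : prd U V i ⟶ V :=
  MorphismProperty.Over.homMk (pullback.fst V.hom (U i).hom) rfl

/-- second projection -/
noncomputable def prd2 (V : X.Etale) (i : ι) : prd U V i ⟶ U i :=
  MorphismProperty.Over.homMk (pullback.snd V.hom (U i).hom) pullback.condition.symm

theorem isCoverDense (hU : EtCoh.Covers U) : (sm U).ι.IsCoverDense X.smallEtaleTopology where
  is_cover V := by
    rw [Groth.Agent.Helper4.EtGeom.mem_iff]
    intro x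
    obtain ⟨i, y, hy⟩ := hU (V.hom x)
    obtain ⟨z, hz1, hz2⟩ := Scheme.Pullback.exists_preimage_pullback (f := V.hom)
      (g := (U i).hom) x y hy.symm
    refine ⟨prd U V i, prd1 U V i, z, ?_, hz1⟩
    exact ⟨⟨⟨prd U V i, ⟨i, ⟨prd2 U V i⟩⟩⟩, 𝟙 _, prd1 U V i, Category.id_comp _⟩⟩

variable {U}

/-- a chosen index -/
noncomputable def cIdx (W : (sm U).FullSubcategory) : ι := W.property.choose

/-- a chosen map -/
noncomputable def cMap (W : (sm U).FullSubcategory) : W.obj ⟶ U (cIdx W) :=
  W.property.choose_spec.some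

variable {G : X.Etaleᵒᵖ ⥤ Type (u + 1)} (D : LocData.{w} G U) [∀ i, Finite (D.K i)]
  {Y : Over X} (Ψ : (Desc.toDDFam (fun i => (U i).hom)).obj Y ≅ dd D) (hEt : Etale Y.hom)

/-- the isomorphism over the dense subcategory -/
noncomputable def restrIso :
    (sm U).ι.op ⋙ (yoneda.obj (Yet hEt) ⋙ uliftFunctor.{u + 1}) ≅ (sm U).ι.op ⋙ G :=
  NatIso.ofComponents
    (fun W => (Equiv.ulift.trans (Φ D Ψ hEt (cMap W.unop))).toIso) (by
      intro W W' h
      ext ⟨g⟩
      show Φ D Ψ hEt (cMap W'.unop) (h.unop.hom ≫ g) =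
        G.map h.unop.hom.op (Φ D Ψ hEt (cMap W.unop) g)
      rw [← Φ_nat]
      exact Φ_indep D Ψ hEt _ _ _)

include D in
/-- the abstract representability theorem -/
theorem exists_rep (hG : Presheaf.IsSheaf X.smallEtaleTopology G) (hU : EtCoh.Covers U) :
    ∃ (V : X.Etale) (_ : IsFinite V.hom),
      Nonempty (G ≅ yoneda.obj V ⋙ uliftFunctor.{u + 1}) := by
  obtain ⟨Y, ⟨Ψ⟩⟩ := effective D hU
  have hEt : Etale Y.hom := etale_hom D Ψ hU
  have hFin : IsFinite Y.hom := isFinite_hom D Ψ hU
  refine ⟨Yet hEt, hFin, ⟨?_⟩⟩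
  have := isCoverDense U hU
  let ℱ : Sheaf X.smallEtaleTopology (Type (u + 1)) :=
    ⟨yoneda.obj (Yet hEt) ⋙ uliftFunctor.{u + 1}, SmallSub.isSheaf_yoneda_ulift _⟩
  let 𝒢 : Sheaf X.smallEtaleTopology (Type (u + 1)) := ⟨G, hG⟩
  exact (Functor.IsCoverDense.Types.presheafIso (G := (sm U).ι) (ℱ := ℱ) (ℱ' := 𝒢)
    (restrIso D Ψ hEt)).symm

end Groth.Agent.Helper6.FlcRepF
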