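import Mathlib
import Groth.Agent.Helper6.ConstValA
import Groth.Agent.Helper6.FlcRepB
import Groth.Agent.Helper4.OverEtC

/-! Local trivialisation data from a trivialisation of the restriction of an abelian sheaf. -/

set_option autoImplicit false
set_option linter.style.haveILetI false
set_option linter.unusedSectionVars false
set_option linter.unusedVariables false
set_option linter.unusedSimpArgs false

universe u

open CategoryTheory CategoryTheory.Limits Opposite AlgebraicGeometry

namespace Groth.Agent.Helper6.FlcRepG

open Groth.Agent.Helper4.ConstLoc Groth.Agent.Helper6.ConstValA Groth.Agent.Helper6.FlcRepB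

section val

variable {Y : Scheme.{u}} (N : AddCommGrpCat.{u + 1})

lemma val_injective (V : Y.Etale) (t t' : (cS Y N).obj.obj (op V))
    (h : ∀ x, val N V t x = val N V t' x) : t = t' := by
  apply sec_ext
  intro x
  obtain ⟨W, g, w, n, hw, hn⟩ := exists_const_fin N 2 V ![t, t'] x
  refine ⟨W, g, w, hw, ?_⟩
  have e0 : (cS Y N).obj.map g.op t = (η Y N).app (op W) (n 0) := hn 0
  have e1 : (cS Y N).obj.map g.op t' = (η Y N).app (op W) (n 1) := hn 1
  have h0 : val N V t x = n 0 := val_eq N V t x g w hw _ e0
  have h1 : val N V t' x = n 1 := val_eq N V t' x g w hw _ e1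
  have : n 0 = n 1 := by rw [← h0, ← h1, h x]
  rw [e0, e1, this]

/-- the value function of a section, as a locally constant function -/
noncomputable def valLC (V : Y.Etale) (t : (cS Y N).obj.obj (op V)) : LocallyConstant V.left N :=
  ⟨val N V t, isLocallyConstant_val N V t⟩

lemma valLC_bijective (V : Y.Etale) : Function.Bijective (valLC N V) := by
  constructor
  · intro t t' h
    exact val_injective N V t t' (fun x => congrArg (fun f : LocallyConstant V.left N => f x) h)
  · intro φ
    obtain ⟨t, ht⟩ := exists_section N V φ φ.isLocallyConstant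
    exact ⟨t, LocallyConstant.ext ht⟩

end val

section sec

variable {X : Scheme.{u}} (F : EtCoh.Ab X) (V : X.Etale) (N : AddCommGrpCat.{u + 1})
  (E : (EtShriek.compEtale V.hom).op ⋙ F.obj ≅ (cS V.left N).obj)

/-- an object over `V` as an étale `V`-scheme -/
noncomputable def loc {W : X.Etale} (a : W ⟶ V) : V.left.Etale := Scheme.Etale.mk a.left

/-- the comparison -/
noncomputable def κ {W : X.Etale} (a : W ⟶ V) :
    (EtShriek.compEtale V.hom).obj (loc V a) ≅ W :=
  MorphismProperty.Over.isoMk (Iso.refl _) (by
    show 𝟙 _ ≫ W.hom = a.left ≫ V.hom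
    rw [Category.id_comp]
    exact (MorphismProperty.Over.w a).symm)

/-- sections as locally constant functions -/
noncomputable def secFun {W : X.Etale} (a : W ⟶ V) (s : F.obj.obj (op W)) :
    LocallyConstant W.left N :=
  valLC N (loc V a) (E.hom.app (op (loc V a)) (F.obj.map (κ V a).hom.op s))

lemma secFun_bijective {W : X.Etale} (a : W ⟶ V) : Function.Bijective (secFun F V N E a) := by
  have h1 : Function.Bijective (F.obj.map (κ V a).hom.op) :=
    ConcreteCategory.bijective_of_isIso _
  have h2 : Function.Bijective (E.hom.app (op (loc V a))) :=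
    ConcreteCategory.bijective_of_isIso _
  exact (valLC_bijective N (loc V a)).comp (h2.comp h1)

/-- the induced map of étale `V`-schemes -/
noncomputable def locMap {W W' : X.Etale} (h : W' ⟶ W) (a : W ⟶ V) :
    loc V (h ≫ a) ⟶ loc V a :=
  MorphismProperty.Over.homMk h.left rfl

lemma κ_nat {W W' : X.Etale} (h : W' ⟶ W) (a : W ⟶ V) :
    (κ V (h ≫ a)).hom ≫ h = (EtShriek.compEtale V.hom).map (locMap V h a) ≫ (κ V a).hom := by
  apply MorphismProperty.Over.Hom.ext
  show 𝟙 _ ≫ h.left = h.left ≫ 𝟙 _
  rw [Category.id_comp, Category.comp_id]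

lemma secFun_nat {W W' : X.Etale} (h : W' ⟶ W) (a : W ⟶ V) (s : F.obj.obj (op W))
    (w' : W'.left) :
    secFun F V N E (h ≫ a) (F.obj.map h.op s) w' = secFun F V N E a s (h.left w') := by
  have e1 : F.obj.map (κ V (h ≫ a)).hom.op (F.obj.map h.op s) =
      F.obj.map ((EtShriek.compEtale V.hom).map (locMap V h a)).op
        (F.obj.map (κ V a).hom.op s) := by
    rw [← ConcreteCategory.comp_apply, ← ConcreteCategory.comp_apply, ← Functor.map_comp,
      ← Functor.map_comp, ← op_comp, ← op_comp, κ_nat]
  have e2 : E.hom.app (op (loc V (h ≫ a)))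
      (F.obj.map ((EtShriek.compEtale V.hom).map (locMap V h a)).op
        (F.obj.map (κ V a).hom.op s)) =
      (cS V.left N).obj.map (locMap V h a).op
        (E.hom.app (op (loc V a)) (F.obj.map (κ V a).hom.op s)) := by
    have := ConcreteCategory.congr_hom (E.hom.naturality (locMap V h a).op)
      (F.obj.map (κ V a).hom.op s)
    simpa using this
  show val N (loc V (h ≫ a)) _ w' = val N (loc V a) _ (h.left w')
  rw [e1, e2, val_map]
  rfl

end sec

end Groth.Agent.Helper6.FlcRepG
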