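import Mathlib
import Groth.Agent.Helper6.FlcRepF
import Groth.Agent.Helper6.FlcRepG
import Groth.Agent.Helper6.GalDescC
import Groth.Agent.Helper9.EtShriekOpen
import Groth.Agent.Helper9.EtJCont

/-! Finite locally constant abelian sheaves are representable by finite étale schemes. -/

set_option autoImplicit false
set_option linter.style.haveILetI false
set_option linter.unusedSectionVars false
set_option linter.unusedVariables false
set_option linter.unusedSimpArgs false

universe u

open CategoryTheory CategoryTheory.Limits Opposite AlgebraicGeometry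

namespace Groth.Agent.Helper6.FlcRepH

open Groth.Agent.Helper4.ConstLoc Groth.Agent.Helper6.FlcRepB Groth.Agent.Helper6.FlcRepG

theorem rep_of_flc {X : Scheme.{u}} (F : EtCoh.Ab X) (h : EtCoh.IsFiniteLocallyConstant F) :
    ∃ (U : X.Etale) (_ : IsFinite U.hom),
      Nonempty (F.obj ⋙ forget AddCommGrpCat.{u + 1} ≅ yoneda.obj U ⋙ uliftFunctor.{u + 1}) := by
  obtain ⟨ι, V, hV, hM⟩ := (Groth.Agent.Helper4.OverEtC.flc_iff F).1 h
  choose M iM fM eM using hM
  haveI : ∀ i, EtShriek.JCont (V i).hom := fun i =>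
    Groth.Agent.Helper9.EtJCont.jCont_of_etale _
  let N : ι → AddCommGrpCat.{u + 1} := fun i => AddCommGrpCat.of (ULift.{u + 1} (M i))
  let ε : ∀ i, (EtShriek.restrAlong (V i).hom).obj F ≅ cS (V i).left (N i) := fun i =>
    (Groth.Agent.Helper9.EtShriekOpen.pullIsoRestr (V i).hom).symm.app F ≪≫ (eM i).some
  let E : ∀ i, (EtShriek.compEtale (V i).hom).op ⋙ F.obj ≅ (cS (V i).left (N i)).obj := fun i =>
    (sheafToPresheaf _ _).mapIso (ε i)
  let D : LocData.{u + 1} (F.obj ⋙ forget AddCommGrpCat.{u + 1}) V :=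
    { K := fun i => N i
      sec := fun i W a => Equiv.ofBijective (secFun F (V i) (N i) (E i) a)
        (secFun_bijective F (V i) (N i) (E i) a)
      nat := fun i W W' h a s w' => secFun_nat F (V i) (N i) (E i) h a s w' }
  haveI : ∀ i, Finite (D.K i) := fun i => inferInstanceAs (Finite (ULift.{u + 1} (M i)))
  obtain ⟨U, hU, ⟨e⟩⟩ := Groth.Agent.Helper6.FlcRepF.exists_rep D
    ((isSheaf_iff_isSheaf_of_type _ _).2 (Groth.Agent.Helper6.GalDescC.isSheaf_forget F)) hV
  exact ⟨U, hU, ⟨e⟩⟩

end Groth.Agent.Helper6.FlcRepH
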