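import Mathlib
import Groth.Prelude.Def_CohProp
import Groth.Prelude.Def_EtOpen
import Groth.Agent.Helper6.FlcRepF
import Groth.Agent.Helper6.ConstValS

/-! Finite locally constant sheaves of sets are representable by finite étale schemes. -/

set_option autoImplicit false
set_option linter.style.haveILetI false
set_option linter.unusedSectionVars false
set_option linter.unusedVariables false
set_option linter.unusedSimpArgs false

universe u

open CategoryTheory CategoryTheory.Limits Opposite AlgebraicGeometry

namespace Groth.Agent.Helper6.FlcRepS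

open Groth.Agent.Helper6.FlcRepB Groth.Agent.Helper6.ConstValS

section sec

variable {X : Scheme.{u}} (F : EtDesc.Sh X) (V : X.Etale) (N : Type (u + 1))
  (e : F.over V ≅ (CohProp.constSh X N).over V)

/-- sections as locally constant functions -/
noncomputable def secFun {W : X.Etale} (a : W ⟶ V) (s : F.obj.obj (op W)) :
    LocallyConstant W.left N :=
  valLC N W (e.hom.hom.app (op (Over.mk a)) s)

lemma secFun_bijective {W : X.Etale} (a : W ⟶ V) : Function.Bijective (secFun F V N e a) := by
  have h2 : Function.Bijective (e.hom.hom.app (op (Over.mk a))) := by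
    have : IsIso (e.hom.hom.app (op (Over.mk a))) :=
      inferInstanceAs (IsIso (((sheafToPresheaf _ _).mapIso e).hom.app (op (Over.mk a))))
    exact ConcreteCategory.bijective_of_isIso _
  exact (valLC_bijective N W).comp h2

lemma secFun_nat {W W' : X.Etale} (h : W' ⟶ W) (a : W ⟶ V) (s : F.obj.obj (op W))
    (w' : W'.left) :
    secFun F V N e (h ≫ a) (F.obj.map h.op s) w' = secFun F V N e a s (h.left w') := by
  let hh : Over.mk (h ≫ a) ⟶ Over.mk a := Over.homMk h rfl
  have e2 : e.hom.hom.app (op (Over.mk (h ≫ a))) (F.obj.map h.op s) =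
      (cS X N).obj.map h.op (e.hom.hom.app (op (Over.mk a)) s) := by
    have := ConcreteCategory.congr_hom (e.hom.hom.naturality hh.op) s
    exact this
  show val N W' _ w' = val N W _ (h.left w')
  rw [e2, val_map]

end sec

theorem rep_of_flc {X : Scheme.{u}} (F : EtDesc.Sh X) (hF : CohProp.IsFinLocConstSet F) :
    ∃ (U : X.Etale) (_ : IsFinite U.hom), Nonempty (F ≅ EtDesc.repSh U) := by
  obtain ⟨ι, V, hV, hM⟩ := hF
  choose M fM eM using hM
  let D : LocData.{u + 1} F.obj V :=
    { K := fun i => M i
      sec := fun i W a => Equiv.ofBijective (secFun F (V i) (M i) (eM i).some a)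
        (secFun_bijective F (V i) (M i) (eM i).some a)
      nat := fun i W W' h a s w' => secFun_nat F (V i) (M i) (eM i).some h a s w' }
  haveI : ∀ i, Finite (D.K i) := fM
  obtain ⟨U, hU, ⟨ε⟩⟩ := Groth.Agent.Helper6.FlcRepF.exists_rep D F.property hV
  refine ⟨U, hU, ⟨?_⟩⟩
  let R : Sheaf X.smallEtaleTopology (Type (u + 1)) :=
    ⟨yoneda.obj U ⋙ uliftFunctor.{u + 1}, SmallSub.isSheaf_yoneda_ulift U⟩
  exact (fullyFaithfulSheafToPresheaf _ _).preimageIso (X := F) (Y := R) ε ≪≫
    sheafificationIso R

end Groth.Agent.Helper6.FlcRepS
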