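import Mathlib
import Groth.Prelude.Def_CohProp
import Groth.Prelude.Def_EtOpen
import Groth.Agent.Helper6.FlcRepA
import Groth.Agent.Helper6.FlcRepB
import Groth.Agent.Helper6.SmallSub
import Groth.Agent.Helper6.ConstValS

/-! Trivialisations of presheaves of sets from sections-as-locally-constant-functions, and the
sheaf represented by a split étale scheme. -/

set_option autoImplicit false
set_option linter.style.haveILetI false
set_option linter.unusedSectionVars false
set_option linter.unusedVariables false
set_option linter.unusedSimpArgs false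

universe w u

open CategoryTheory CategoryTheory.Limits Opposite AlgebraicGeometry

namespace Groth.Agent.Helper6.FlcRepT

open Groth.Agent.Helper6.FlcRepA Groth.Agent.Helper6.FlcRepB Groth.Agent.Helper6.ConstValS

section triv

variable {S : Scheme.{u}} (G : S.Etaleᵒᵖ ⥤ Type (u + 1)) (V : S.Etale) (N : Type (u + 1))
  (sec : ∀ (W : S.Etale) (a : W ⟶ V), G.obj (op W) ≃ LocallyConstant W.left N)
  (nat : ∀ {W W' : S.Etale} (h : W' ⟶ W) (a : W ⟶ V) (s : G.obj (op W)) (w' : W'.left),
    sec W' (h ≫ a) (G.map h.op s) w' = sec W a s (h.left w'))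

/-- the value equivalence -/
noncomputable def valEquiv (W : S.Etale) : (cS S N).obj.obj (op W) ≃ LocallyConstant W.left N :=
  Equiv.ofBijective (valLC N W) (valLC_bijective N W)

include nat in
/-- a presheaf whose sections over objects over `V` are locally constant functions is constant
over `V` -/
noncomputable def trivIso :
    (Over.forget V).op ⋙ G ≅ (Over.forget V).op ⋙ (cS S N).obj :=
  NatIso.ofComponents
    (fun A => ((sec A.unop.left A.unop.hom).trans (valEquiv N A.unop.left).symm).toIso) (by
      intro A B h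
      ext s
      apply (valEquiv N B.unop.left).injective
      apply LocallyConstant.ext
      intro w'
      have hw : h.unop.left ≫ A.unop.hom = B.unop.hom := Over.w h.unop
      show valEquiv N B.unop.left ((valEquiv N B.unop.left).symm
          (sec B.unop.left B.unop.hom (G.map h.unop.left.op s))) w' =
        valLC N B.unop.left ((cS S N).obj.map h.unop.left.op
          ((valEquiv N A.unop.left).symm (sec A.unop.left A.unop.hom s))) w'
      rw [Equiv.apply_symm_apply]
      have h1 : valLC N B.unop.left ((cS S N).obj.map h.unop.left.op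
          ((valEquiv N A.unop.left).symm (sec A.unop.left A.unop.hom s))) w' =
          valLC N A.unop.left ((valEquiv N A.unop.left).symm (sec A.unop.left A.unop.hom s))
            (h.unop.left.left w') := val_map N h.unop.left _ w'
      rw [h1]
      have h2 : valLC N A.unop.left ((valEquiv N A.unop.left).symm
          (sec A.unop.left A.unop.hom s)) = sec A.unop.left A.unop.hom s :=
        Equiv.apply_symm_apply (valEquiv N A.unop.left) _
      rw [h2, ← nat h.unop.left A.unop.hom s w']
      congr 1
      · exact congrArg (fun m => sec B.unop.left m (G.map h.unop.left.op s)) hw.symm)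

end triv

section split

variable {S X V X'' : Scheme.{u}} (f : X ⟶ S) [Etale f] (g : V ⟶ S) [Etale g]
  (g' : X'' ⟶ X) (f' : X'' ⟶ V) (hpb : IsPullback g' f' f g)
  (K : Type w) [Small.{u} K] (c : cSch V K ≅ X'') (hc : c.hom ≫ f' = cHom V K)

variable {W : S.Etale} (a : W ⟶ Scheme.Etale.mk g)

/-- the point of the pullback attached to a map to `X` -/
noncomputable def lft (t : W ⟶ Scheme.Etale.mk f) : W.left ⟶ X'' :=
  hpb.lift t.left a.left ((MorphismProperty.Over.w t).trans (MorphismProperty.Over.w a).symm)

lemma lft_fst (t : W ⟶ Scheme.Etale.mk f) : lft f g g' f' hpb a t ≫ g' = t.left :=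
  hpb.lift_fst _ _ _

lemma lft_snd (t : W ⟶ Scheme.Etale.mk f) : lft f g g' f' hpb a t ≫ f' = a.left :=
  hpb.lift_snd _ _ _

include hc in
lemma inv_cHom : c.inv ≫ cHom V K = f' := by
  rw [Iso.inv_comp_eq]
  exact hc.symm

/-- maps to `X` as points of the constant scheme over `a` -/
noncomputable def ptEquiv : (W ⟶ Scheme.Etale.mk f) ≃ Desc.Lifts (cObj V K) a.left where
  toFun t := ⟨lft f g g' f' hpb a t ≫ c.inv,
    (Category.assoc _ _ _).trans ((congrArg (fun m => lft f g g' f' hpb a t ≫ m)
      (inv_cHom f' K c hc)).trans (lft_snd f g g' f' hpb a t))⟩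
  invFun v := MorphismProperty.Over.homMk (v.1 ≫ c.hom ≫ g') (by
    show (v.1 ≫ c.hom ≫ g') ≫ f = W.hom
    have h1 : v.1 ≫ cHom V K = a.left := v.2
    have h2 : (v.1 ≫ c.hom ≫ g') ≫ f = (v.1 ≫ cHom V K) ≫ g := by
      simp only [Category.assoc]
      rw [hpb.w, ← hc]
      simp only [Category.assoc]
    rw [h2, h1]
    exact MorphismProperty.Over.w a)
  left_inv t := by
    apply MorphismProperty.Over.Hom.ext
    show (lft f g g' f' hpb a t ≫ c.inv) ≫ c.hom ≫ g' = t.left
    rw [Category.assoc, Iso.inv_hom_id_assoc]
    exact lft_fst f g g' f' hpb a t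
  right_inv v := by
    apply Subtype.ext
    show lft f g g' f' hpb a _ ≫ c.inv = v.1
    rw [Iso.comp_inv_eq]
    apply hpb.hom_ext
    · exact (lft_fst f g g' f' hpb a _).trans (Category.assoc _ _ _).symm
    · refine (lft_snd f g g' f' hpb a _).trans ?_
      have h1 : v.1 ≫ cHom V K = a.left := v.2
      rw [Category.assoc, hc]
      exact h1.symm

/-- sections of the represented presheaf as locally constant functions -/
noncomputable def secS :
    (yoneda.obj (Scheme.Etale.mk f) ⋙ uliftFunctor.{u + 1}).obj (op W) ≃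
      LocallyConstant W.left K :=
  Equiv.ulift.trans ((ptEquiv f g g' f' hpb K c hc a).trans (ptsEquiv a.left))

lemma secS_apply (t : W ⟶ Scheme.Etale.mk f) (w : W.left) :
    secS f g g' f' hpb K c hc a ⟨t⟩ w = idx (lft f g g' f' hpb a t ≫ c.inv) w := rfl

lemma secS_nat {W' : S.Etale} (h : W' ⟶ W)
    (s : (yoneda.obj (Scheme.Etale.mk f) ⋙ uliftFunctor.{u + 1}).obj (op W)) (w' : W'.left) :
    secS f g g' f' hpb K c hc (h ≫ a)
      ((yoneda.obj (Scheme.Etale.mk f) ⋙ uliftFunctor.{u + 1}).map h.op s) w' =
      secS f g g' f' hpb K c hc a s (h.left w') := by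
  obtain ⟨t⟩ := s
  have e : lft f g g' f' hpb (h ≫ a) (h ≫ t) = h.left ≫ lft f g g' f' hpb a t := by
    apply hpb.hom_ext
    · rw [lft_fst, Category.assoc, lft_fst]
      rfl
    · rw [lft_snd, Category.assoc, lft_snd]
      rfl
  show idx (lft f g g' f' hpb (h ≫ a) (h ≫ t) ≫ c.inv) w' =
    idx (lft f g g' f' hpb a t ≫ c.inv) (h.left w')
  rw [e, Category.assoc]
  rfl

end split

end Groth.Agent.Helper6.FlcRepT
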