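import Mathlib
import Groth.Agent.Helper6.FlcRepT
import Groth.Agent.Helper6.FlcRepD
import Groth.Agent.Helper3.FRank2

/-! The sheaf represented by a finite étale scheme is finite locally constant. -/

set_option autoImplicit false
set_option linter.style.haveILetI false
set_option linter.unusedSectionVars false
set_option linter.unusedVariables false
set_option linter.unusedSimpArgs false

universe u

open CategoryTheory CategoryTheory.Limits Opposite AlgebraicGeometry

namespace Groth.Agent.Helper6.FlcRepU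

open Groth.Agent.Helper6.FlcRepA Groth.Agent.Helper6.FlcRepB Groth.Agent.Helper6.ConstValS
  Groth.Agent.Helper6.FlcRepT Groth.Agent.Helper6.FlcRepD

section split

variable {S X V X'' : Scheme.{u}} (f : X ⟶ S) [Etale f] (g : V ⟶ S) [Etale g]
  (g' : X'' ⟶ X) (f' : X'' ⟶ V) (hpb : IsPullback g' f' f g)
  {n : ℕ} (inj : Fin n → (V ⟶ X'')) (hinj : ∀ i, inj i ≫ f' = 𝟙 V)
  (hcol : IsColimit (Cofan.mk X'' inj))

/-- the colimit cofan reindexed by the lifted index type -/
noncomputable def hcol' :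
    IsColimit (Cofan.mk X'' (fun k : ULift.{u + 1} (Fin n) => inj k.down)) :=
  Cofan.IsColimit.mk _ (fun s => Cofan.IsColimit.desc hcol (fun i => s.inj ⟨i⟩))
    (fun s k => by
      show inj k.down ≫ _ = _
      exact Cofan.IsColimit.fac hcol _ k.down)
    (fun s m hm => Cofan.IsColimit.hom_ext hcol _ _ (fun i => by
      have h1 := hm ⟨i⟩
      have h2 : (Cofan.mk X'' inj).inj i ≫ Cofan.IsColimit.desc hcol (fun i => s.inj ⟨i⟩) =
        s.inj ⟨i⟩ := Cofan.IsColimit.fac hcol _ i
      exact h1.trans h2.symm))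

/-- the splitting isomorphism -/
noncomputable def cI : cSch V (ULift.{u + 1} (Fin n)) ≅ X'' :=
  (coproductIsCoproduct (fun _ : ULift.{u + 1} (Fin n) => V)).coconePointUniqueUpToIso
    (hcol' inj hcol)

lemma ι_cI (k : ULift.{u + 1} (Fin n)) :
    Sigma.ι (fun _ : ULift.{u + 1} (Fin n) => V) k ≫ (cI inj hcol).hom = inj k.down :=
  IsColimit.comp_coconePointUniqueUpToIso_hom
    (coproductIsCoproduct (fun _ : ULift.{u + 1} (Fin n) => V)) (hcol' inj hcol) ⟨k⟩

include hinj in
lemma cI_f' : (cI inj hcol).hom ≫ f' = cHom V (ULift.{u + 1} (Fin n)) := by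
  apply Sigma.hom_ext
  intro k
  rw [← Category.assoc, ι_cI, hinj]
  exact (inj_cHom (S := V) k).symm

include hpb hinj hcol in
/-- the represented sheaf is constant over `V` -/
theorem nonempty_triv :
    Nonempty ((EtDesc.repSh (Scheme.Etale.mk f)).over (Scheme.Etale.mk g) ≅
      (CohProp.constSh S (ULift.{u + 1} (Fin n))).over (Scheme.Etale.mk g)) := by
  let R : Sheaf S.smallEtaleTopology (Type (u + 1)) :=
    ⟨yoneda.obj (Scheme.Etale.mk f) ⋙ uliftFunctor.{u + 1},
      SmallSub.isSheaf_yoneda_ulift (Scheme.Etale.mk f)⟩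
  have e1 : EtDesc.repSh (Scheme.Etale.mk f) ≅ R := (sheafificationIso R).symm
  have e2 : R.over (Scheme.Etale.mk g) ≅
      (CohProp.constSh S (ULift.{u + 1} (Fin n))).over (Scheme.Etale.mk g) :=
    (fullyFaithfulSheafToPresheaf _ _).preimageIso
      (trivIso (yoneda.obj (Scheme.Etale.mk f) ⋙ uliftFunctor.{u + 1}) (Scheme.Etale.mk g)
        (ULift.{u + 1} (Fin n))
        (fun W a => secS f g g' f' hpb (ULift.{u + 1} (Fin n)) (cI inj hcol)
          (cI_f' f' inj hinj hcol) a)
        (fun h a s w' => secS_nat f g g' f' hpb (ULift.{u + 1} (Fin n)) (cI inj hcol)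
          (cI_f' f' inj hinj hcol) a h s w'))
  exact ⟨(S.smallEtaleTopology.overPullback (Type (u + 1)) (Scheme.Etale.mk g)).mapIso e1 ≪≫ e2⟩

end split

theorem exists_triv {S X : Scheme.{u}} (f : X ⟶ S) [Etale f] [IsFinite f] (y : S) :
    ∃ (V : Scheme.{u}) (g : V ⟶ S) (_ : Etale g) (n : ℕ), (∃ v : V, g v = y) ∧
      Nonempty ((EtDesc.repSh (Scheme.Etale.mk f)).over (Scheme.Etale.mk g) ≅
        (CohProp.constSh S (ULift.{u + 1} (Fin n))).over (Scheme.Etale.mk g)) := by
  let n := f.finrank y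
  have hlc := Scheme.Hom.isLocallyConstant_finrank f
  let U : S.Opens := ⟨f.finrank ⁻¹' {n}, hlc.isOpen_fiber n⟩
  let φ := pullback.snd f U.ι
  have hrank : ∀ s, φ.finrank s = n := by
    intro s
    have h1 : U.ι s ∈ Set.range U.ι := ⟨s, rfl⟩
    rw [Scheme.Opens.range_ι] at h1
    exact (Scheme.Hom.finrank_pullback_snd f U.ι s).trans h1
  obtain ⟨V, ψ, hψf, hψe, hψs, -, inj, hinj, ⟨hcol⟩⟩ :=
    Groth.Agent.Helper3.FSplit.splitDeg n φ hrank
  let g : V ⟶ S := ψ ≫ U.ι
  have hge : Etale g := inferInstance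
  let f' : pullback φ ψ ⟶ V := pullback.snd φ ψ
  let g' : pullback φ ψ ⟶ X := pullback.fst φ ψ ≫ pullback.fst f U.ι
  have hpb : IsPullback g' f' f g :=
    ((IsPullback.of_hasPullback φ ψ).flip.paste_vert (IsPullback.of_hasPullback f U.ι).flip).flip
  have hyU : y ∈ U := rfl
  obtain ⟨v, hv⟩ := hψs.surj ⟨y, hyU⟩
  have hgv : g v = y := by
    show (ψ ≫ U.ι) v = y
    rw [Scheme.Hom.comp_apply, hv]
    rfl
  exact ⟨V, g, hge, n, ⟨v, hgv⟩, nonempty_triv f g g' f' hpb inj hinj hcol⟩

/-- the sheaf represented by a finite étale scheme is finite locally constant -/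
theorem flc_repSh (S X : Scheme.{u}) (f : X ⟶ S) [Etale f] [IsFinite f] :
    CohProp.IsFinLocConstSet (EtDesc.repSh (Scheme.Etale.mk f)) := by
  choose V g hg n hv e using exists_triv f
  refine ⟨S, fun y => @Scheme.Etale.mk S (V y) (g y) (hg y), ?_, fun y =>
    ⟨ULift.{u + 1} (Fin (n y)), inferInstance, e y⟩⟩
  intro x
  obtain ⟨v, hv'⟩ := hv x
  exact ⟨x, v, hv'⟩

end Groth.Agent.Helper6.FlcRepU
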