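import Mathlib

/-!
# Module-level lemmas on power torsion and base change
-/

set_option autoImplicit false
universe u
open TensorProduct

namespace Groth.Agent.Helper6.TorsMod

variable {A : Type u} [CommRing A]

/-- every element is killed by a power of `g` -/
def TorsEl (g : A) (N : Type u) [AddCommGroup N] [Module A N] : Prop :=
  ∀ x : N, ∃ n : ℕ, g ^ n • x = 0

/-- `g` acts bijectively -/
def BijEl (g : A) (N : Type u) [AddCommGroup N] [Module A N] : Prop :=
  Function.Bijective (fun x : N => g • x)

section transport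

variable {N N' : Type u} [AddCommGroup N] [Module A N] [AddCommGroup N'] [Module A N']

lemma TorsEl.of_equiv {g : A} (e : N ≃ₗ[A] N') (h : TorsEl g N) : TorsEl g N' := by
  intro x
  obtain ⟨n, hn⟩ := h (e.symm x)
  refine ⟨n, ?_⟩
  have := congrArg e hn
  rwa [map_smul, e.apply_symm_apply, map_zero] at this

lemma BijEl.of_equiv {g : A} (e : N ≃ₗ[A] N') (h : BijEl g N) : BijEl g N' := by
  have : (fun x : N' => g • x) = e ∘ (fun x : N => g • x) ∘ e.symm := by
    funext x
    simp
  unfold BijEl
  rw [this]
  exact e.bijective.comp (h.comp e.symm.bijective)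

lemma subsingleton_of_tors_bij {g : A} (h1 : TorsEl g N) (h2 : BijEl g N) : Subsingleton N := by
  refine ⟨fun x y => ?_⟩
  have key : ∀ z : N, z = 0 := by
    intro z
    obtain ⟨n, hn⟩ := h1 z
    induction n with
    | zero => simpa using hn
    | succ n ih =>
      apply ih
      apply h2.1
      show g • (g ^ n • z) = g • 0
      rw [smul_zero, ← mul_smul, ← pow_succ', hn]
  rw [key x, key y]

end transport

section tensor

variable (B : Type u) [CommRing B] [Algebra A B] {N : Type u} [AddCommGroup N] [Module A N]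

lemma TorsEl.tensor {g : A} (h : TorsEl g N) : TorsEl g (B ⊗[A] N) := by
  intro w
  induction w using TensorProduct.induction_on with
  | zero => exact ⟨0, by simp⟩
  | tmul b x =>
    obtain ⟨n, hn⟩ := h x
    exact ⟨n, by rw [← TensorProduct.tmul_smul, hn, tmul_zero]⟩
  | add a b ha hb =>
    obtain ⟨n, hn⟩ := ha
    obtain ⟨m, hm⟩ := hb
    refine ⟨n + m, ?_⟩
    have h1 : g ^ (n + m) • a = 0 := by
      rw [pow_add, mul_comm, mul_smul, hn, smul_zero]
    have h2 : g ^ (n + m) • b = 0 := by
      rw [pow_add, mul_smul, hm, smul_zero]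
    rw [smul_add, h1, h2, add_zero]

lemma BijEl.tensor {g : A} (h : BijEl g N) : BijEl g (B ⊗[A] N) := by
  let e : N ≃ₗ[A] N := LinearEquiv.ofBijective (g • LinearMap.id)
    (show Function.Bijective (fun x : N => g • x) from h)
  have : (fun w : B ⊗[A] N => g • w) = (LinearEquiv.lTensor B e : B ⊗[A] N → B ⊗[A] N) := by
    funext w
    induction w using TensorProduct.induction_on with
    | zero => simp
    | tmul b x =>
      rw [← TensorProduct.tmul_smul]
      rfl
    | add a b ha hb =>
      rw [smul_add, map_add, ha, hb]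
  unfold BijEl
  rw [this]
  exact (LinearEquiv.lTensor B e).bijective

end tensor

section away

variable (f : A) {N : Type u} [AddCommGroup N] [Module A N]

lemma away_mk_ker (x : N) (h : (1 : Localization.Away f) ⊗ₜ[A] x = 0) : ∃ n : ℕ, f ^ n • x = 0 := by
  have h0 : TensorProduct.mk A (Localization.Away f) N 1 x =
      TensorProduct.mk A (Localization.Away f) N 1 0 := by
    rw [map_zero]
    exact h
  obtain ⟨n, hn⟩ := IsLocalizedModule.Away.exists_of_eq (f := TensorProduct.mk A (Localization.Away f) N 1) f h0
  exact ⟨n, by rw [hn, smul_zero]⟩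

lemma away_mk_surj (w : Localization.Away f ⊗[A] N) :
    ∃ (n : ℕ) (y : N), f ^ n • w = (1 : Localization.Away f) ⊗ₜ[A] y :=
  IsLocalizedModule.Away.surj (TensorProduct.mk A (Localization.Away f) N 1) f w

lemma away_bijEl : BijEl f (Localization.Away f ⊗[A] N) := by
  have h := IsLocalizedModule.Away.isUnit_algebraMap
    (TensorProduct.mk A (Localization.Away f) N 1) f
  obtain ⟨u, hu⟩ := h
  have h1 : ∀ w : Localization.Away f ⊗[A] N, (u : Module.End A _) w = f • w := by
    intro w
    rw [hu]
    rfl
  constructor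
  · intro x y hxy
    have : (u : Module.End A _) x = (u : Module.End A _) y := by
      rw [h1, h1]
      exact hxy
    have h2 := congrArg ((u⁻¹ : (Module.End A _)ˣ) : Module.End A _) this
    rwa [← Module.End.mul_apply, ← Module.End.mul_apply, Units.inv_mul, Module.End.one_apply,
      Module.End.one_apply] at h2
  · intro y
    refine ⟨((u⁻¹ : (Module.End A _)ˣ) : Module.End A _) y, ?_⟩
    show f • _ = y
    rw [← h1, ← Module.End.mul_apply, Units.mul_inv, Module.End.one_apply]

lemma away_mk_bijective (h : BijEl f N) :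
    Function.Bijective (fun x : N => (1 : Localization.Away f) ⊗ₜ[A] x) := by
  have hpow : ∀ n : ℕ, Function.Bijective (fun x : N => f ^ n • x) := by
    intro n
    induction n with
    | zero =>
      simp only [pow_zero, one_smul]
      exact Function.bijective_id
    | succ n ih =>
      have : (fun x : N => f ^ (n + 1) • x) = (fun x : N => f • x) ∘ (fun x : N => f ^ n • x) := by
        funext x
        simp [pow_succ', mul_smul]
      rw [this]
      exact h.comp ih
  have hpow' : ∀ n : ℕ, Function.Injective (fun w : Localization.Away f ⊗[A] N => f ^ n • w) := by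
    intro n
    induction n with
    | zero =>
      simp only [pow_zero, one_smul]
      exact Function.injective_id
    | succ n ih =>
      have : (fun w : Localization.Away f ⊗[A] N => f ^ (n + 1) • w) =
          (fun w => f • w) ∘ (fun w => f ^ n • w) := by
        funext x
        simp [pow_succ', mul_smul]
      rw [this]
      exact (away_bijEl f).1.comp ih
  constructor
  · intro x y hxy
    have h0 : (1 : Localization.Away f) ⊗ₜ[A] (x - y) = 0 := by
      rw [tmul_sub]
      exact sub_eq_zero.mpr hxy
    obtain ⟨n, hn⟩ := away_mk_ker f (x - y) h0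
    have := (hpow n).1 (hn.trans (smul_zero _).symm)
    exact sub_eq_zero.mp this
  · intro w
    obtain ⟨n, y, hy⟩ := away_mk_surj f w
    obtain ⟨y', hy'⟩ := (hpow n).2 y
    refine ⟨y', ?_⟩
    apply hpow' n
    show f ^ n • ((1 : Localization.Away f) ⊗ₜ[A] y') = f ^ n • w
    rw [hy, ← hy', TensorProduct.tmul_smul]

end away


section formal

variable {B : Type u} [CommRing B] [Algebra A B] (I : Ideal A)

/-- the canonical map `N → B ⊗ N` -/
noncomputable abbrev mkB (N : Type u) [AddCommGroup N] [Module A N] : N →ₗ[A] B ⊗[A] N :=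
  TensorProduct.mk A B N 1

lemma tmul_eq_zero_of_mem_map {N : Type u} [AddCommGroup N] [Module A N] (x : N)
    (hx : ∀ a ∈ I, a • x = 0) (c : B) (hc : c ∈ I.map (algebraMap A B)) : c ⊗ₜ[A] x = 0 := by
  have key : ∀ c ∈ I.map (algebraMap A B), ∀ b' : B, (b' * c) ⊗ₜ[A] x = 0 := by
    intro c hc
    refine Submodule.span_induction ?_ ?_ ?_ ?_ hc
    · rintro _ ⟨i, hi, rfl⟩ b'
      have : b' * algebraMap A B i = i • b' := by rw [Algebra.smul_def, mul_comm]
      rw [this, TensorProduct.smul_tmul, hx i hi, tmul_zero]
    · intro b'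
      rw [mul_zero, zero_tmul]
    · intro c1 c2 _ _ h1 h2 b'
      rw [mul_add, add_tmul, h1, h2, add_zero]
    · intro r c _ h b'
      rw [smul_eq_mul, ← mul_assoc]
      exact h _
  have := key c hc 1
  rwa [one_mul] at this

variable (hs : Function.Surjective
    ((Ideal.Quotient.mk (I.map (algebraMap A B))).comp (algebraMap A B)))
  (hk : RingHom.ker ((Ideal.Quotient.mk (I.map (algebraMap A B))).comp (algebraMap A B)) = I)

include hs in
lemma mkB_surjective_of_killed (N : Type u) [AddCommGroup N] [Module A N]
    (hN : ∀ a ∈ I, ∀ x : N, a • x = 0) : Function.Surjective (mkB (A := A) (B := B) N) := by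
  intro w
  induction w using TensorProduct.induction_on with
  | zero => exact ⟨0, map_zero _⟩
  | tmul b x =>
    obtain ⟨a, ha⟩ := hs (Ideal.Quotient.mk _ b)
    have hmem : b - algebraMap A B a ∈ I.map (algebraMap A B) := by
      rw [← Ideal.Quotient.eq]
      exact ha.symm
    refine ⟨a • x, ?_⟩
    show (1 : B) ⊗ₜ[A] (a • x) = b ⊗ₜ x
    have h0 := tmul_eq_zero_of_mem_map I x (fun a' ha' => hN a' ha' x) _ hmem
    rw [sub_tmul, sub_eq_zero] at h0
    rw [h0, ← TensorProduct.smul_tmul, Algebra.smul_def, mul_one]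
  | add w1 w2 h1 h2 =>
    obtain ⟨y1, rfl⟩ := h1
    obtain ⟨y2, rfl⟩ := h2
    exact ⟨y1 + y2, map_add _ _ _⟩

/-- the `A`-linear map `A → B/IB` -/
noncomputable def qLin : A →ₗ[A] (B ⧸ I.map (algebraMap A B)) :=
  Algebra.linearMap A (B ⧸ I.map (algebraMap A B))

lemma qLin_apply (a : A) : qLin (B := B) I a = Ideal.Quotient.mk _ (algebraMap A B a) := rfl

include hs in
lemma qLin_surjective : Function.Surjective (qLin (B := B) I) := hs

include hk in
lemma qLin_ker : LinearMap.ker (qLin (B := B) I) = I := by
  ext a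
  rw [LinearMap.mem_ker, qLin_apply]
  conv_rhs => rw [← hk]
  rfl

/-- the retraction `B → A/I` -/
noncomputable def ρ : B →ₗ[A] A ⧸ I :=
  (Submodule.quotEquivOfEq (LinearMap.ker (qLin (B := B) I)) I (qLin_ker I hk)).toLinearMap ∘ₗ
    ((qLin (B := B) I).quotKerEquivOfSurjective (qLin_surjective I hs)).symm.toLinearMap ∘ₗ
      (Ideal.Quotient.mkₐ A (I.map (algebraMap A B))).toLinearMap

lemma ρ_algebraMap (a : A) : ρ I hs hk (algebraMap A B a) = Ideal.Quotient.mk I a := by
  unfold ρ
  simp only [LinearMap.comp_apply, LinearEquiv.coe_coe, AlgHom.toLinearMap_apply,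
    Ideal.Quotient.mkₐ_eq_mk]
  have h1 : ((qLin (B := B) I).quotKerEquivOfSurjective (qLin_surjective I hs)).symm
      (Ideal.Quotient.mk _ (algebraMap A B a)) = Submodule.Quotient.mk a := by
    rw [LinearEquiv.symm_apply_eq]
    rfl
  rw [h1]
  rfl

include hs hk in
lemma mkB_injective_of_killed (N : Type u) [AddCommGroup N] [Module A N]
    (hN : ∀ a ∈ I, ∀ x : N, a • x = 0) : Function.Injective (mkB (A := A) (B := B) N) := by
  rw [injective_iff_map_eq_zero]
  intro x hx
  have h1 : (LinearMap.rTensor N (ρ I hs hk)) ((1 : B) ⊗ₜ[A] x) = 0 := by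
    have : (1 : B) ⊗ₜ[A] x = 0 := hx
    rw [this, map_zero]
  rw [LinearMap.rTensor_tmul] at h1
  have h2 : ρ I hs hk (1 : B) = Ideal.Quotient.mk I 1 := by
    have := ρ_algebraMap I hs hk 1
    rwa [map_one] at this
  rw [h2] at h1
  have h3 := congrArg (TensorProduct.quotTensorEquivQuotSMul N I) h1
  rw [TensorProduct.quotTensorEquivQuotSMul_mk_tmul, map_zero, one_smul,
    Submodule.Quotient.mk_eq_zero] at h3
  have h4 : (I • (⊤ : Submodule A N)) ≤ ⊥ := by
    rw [Submodule.smul_le]
    intro a ha y _
    rw [Submodule.mem_bot]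
    exact hN a ha y
  exact (Submodule.mem_bot A).mp (h4 h3)


variable [Module.Flat A B]

lemma lTensor_mkB {N N' : Type u} [AddCommGroup N] [Module A N] [AddCommGroup N'] [Module A N']
    (g : N →ₗ[A] N') (x : N) :
    (LinearMap.lTensor B g) (mkB (A := A) (B := B) N x) = mkB (A := A) (B := B) N' (g x) := rfl

include hs hk in
/-- modules killed by a power of `I` -/
theorem mkB_bijective_of_pow_killed (n : ℕ) :
    ∀ (N : Type u) [AddCommGroup N] [Module A N], (∀ a ∈ I ^ n, ∀ x : N, a • x = 0) →
      Function.Bijective (mkB (A := A) (B := B) N) := by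
  induction n with
  | zero =>
    intro N _ _ hN
    have h0 : ∀ x : N, x = 0 := fun x => by
      have h1 : (1 : A) ∈ I ^ 0 := by
        rw [pow_zero, Ideal.one_eq_top]
        trivial
      have := hN 1 h1 x
      rwa [one_smul] at this
    constructor
    · intro x y _
      rw [h0 x, h0 y]
    · intro w
      refine ⟨0, ?_⟩
      rw [map_zero]
      induction w using TensorProduct.induction_on with
      | zero => rfl
      | tmul b x => rw [h0 x, tmul_zero]
      | add a b ha hb => rw [← ha, ← hb, add_zero]
  | succ n ih =>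
    intro N _ _ hN
    let N' : Submodule A N := I • ⊤
    have hN' : ∀ a ∈ I ^ n, ∀ y : N', a • y = 0 := by
      intro a ha y
      apply Subtype.ext
      show a • (y : N) = 0
      have hy : (y : N) ∈ I • (⊤ : Submodule A N) := y.2
      refine Submodule.smul_induction_on hy ?_ ?_
      · intro i hi x _
        rw [← mul_smul]
        exact hN _ (by rw [pow_succ]; exact Ideal.mul_mem_mul ha hi) x
      · intro x y hx hy
        rw [smul_add, hx, hy, add_zero]
    have hN'' : ∀ a ∈ I, ∀ z : N ⧸ N', a • z = 0 := by
      intro a ha z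
      obtain ⟨x, rfl⟩ := Submodule.Quotient.mk_surjective _ z
      rw [← Submodule.Quotient.mk_smul, Submodule.Quotient.mk_eq_zero]
      exact Submodule.smul_mem_smul ha Submodule.mem_top
    have ih' := ih N' hN'
    have hq := mkB_surjective_of_killed (B := B) I hs (N ⧸ N') hN''
    have hqi := mkB_injective_of_killed (B := B) I hs hk (N ⧸ N') hN''
    have hex : Function.Exact (LinearMap.lTensor B N'.subtype) (LinearMap.lTensor B N'.mkQ) :=
      lTensor_exact B (LinearMap.exact_subtype_mkQ N') (Submodule.mkQ_surjective N')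
    have hinj : Function.Injective (LinearMap.lTensor B N'.subtype) :=
      Module.Flat.lTensor_preserves_injective_linearMap _ N'.subtype_injective
    constructor
    · rw [injective_iff_map_eq_zero]
      intro x hx
      have h1 : mkB (A := A) (B := B) (N ⧸ N') (N'.mkQ x) = 0 := by
        rw [← lTensor_mkB, hx, map_zero]
      have h2 : N'.mkQ x = 0 := by
        apply hqi
        rw [h1, map_zero]
      have h3 : x ∈ N' := (Submodule.Quotient.mk_eq_zero N').mp h2
      have h4 : mkB (A := A) (B := B) N' ⟨x, h3⟩ = 0 := by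
        apply hinj
        rw [lTensor_mkB, map_zero]
        exact hx
      have h5 : (⟨x, h3⟩ : N') = 0 := by
        apply ih'.1
        rw [h4, map_zero]
      exact congrArg Subtype.val h5
    · intro w
      obtain ⟨y'', hy''⟩ := hq (LinearMap.lTensor B N'.mkQ w)
      obtain ⟨y, rfl⟩ := Submodule.Quotient.mk_surjective _ y''
      have h1 : LinearMap.lTensor B N'.mkQ (w - mkB (A := A) (B := B) N y) = 0 := by
        rw [map_sub, lTensor_mkB, ← hy'']
        exact sub_self _
      obtain ⟨w', hw'⟩ := (hex _).mp h1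
      obtain ⟨z, rfl⟩ := ih'.2 w'
      refine ⟨y + (z : N), ?_⟩
      rw [map_add]
      have h2 : mkB (A := A) (B := B) N (z : N) = w - mkB (A := A) (B := B) N y := by
        rw [← hw']
        rfl
      rw [h2]
      abel

include hs hk in
/-- **formal glueing**: `N → B ⊗ N` is bijective for `I`-power torsion modules -/
theorem mkB_bijective_of_powerTorsion (N : Type u) [AddCommGroup N] [Module A N]
    (hN : ∀ x : N, ∃ n : ℕ, ∀ a ∈ I ^ n, a • x = 0) :
    Function.Bijective (mkB (A := A) (B := B) N) := by
  have hcyc : ∀ x : N, ∃ n : ℕ, ∀ a ∈ I ^ n, ∀ y : Submodule.span A {x}, a • y = 0 := by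
    intro x
    obtain ⟨n, hn⟩ := hN x
    refine ⟨n, fun a ha y => ?_⟩
    apply Subtype.ext
    obtain ⟨r, hr⟩ := Submodule.mem_span_singleton.mp y.2
    show a • (y : N) = 0
    rw [← hr, smul_comm, hn a ha, smul_zero]
  constructor
  · rw [injective_iff_map_eq_zero]
    intro x hx
    obtain ⟨n, hn⟩ := hcyc x
    have hb := mkB_bijective_of_pow_killed (B := B) I hs hk n (Submodule.span A {x}) hn
    have hinj : Function.Injective (LinearMap.lTensor B (Submodule.span A {x}).subtype) :=
      Module.Flat.lTensor_preserves_injective_linearMap _ (Submodule.subtype_injective _)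
    have hx' : mkB (A := A) (B := B) (Submodule.span A {x})
        ⟨x, Submodule.mem_span_singleton_self x⟩ = 0 := by
      apply hinj
      rw [lTensor_mkB, map_zero]
      exact hx
    have : (⟨x, Submodule.mem_span_singleton_self x⟩ : Submodule.span A {x}) = 0 := by
      apply hb.1
      rw [hx', map_zero]
    exact congrArg Subtype.val this
  · intro w
    induction w using TensorProduct.induction_on with
    | zero => exact ⟨0, map_zero _⟩
    | tmul b x =>
      obtain ⟨n, hn⟩ := hcyc x
      have hb := mkB_bijective_of_pow_killed (B := B) I hs hk n (Submodule.span A {x}) hn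
      obtain ⟨z, hz⟩ := hb.2 (b ⊗ₜ[A] (⟨x, Submodule.mem_span_singleton_self x⟩ :
        Submodule.span A {x}))
      refine ⟨(z : N), ?_⟩
      have := congrArg (LinearMap.lTensor B (Submodule.span A {x}).subtype) hz
      rw [lTensor_mkB] at this
      exact this
    | add w1 w2 h1 h2 =>
      obtain ⟨y1, rfl⟩ := h1
      obtain ⟨y2, rfl⟩ := h2
      exact ⟨y1 + y2, map_add _ _ _⟩

/-- torsion with respect to the generators gives power torsion -/
lemma powerTorsion_of_torsEl (fs : List A) (N : Type u) [AddCommGroup N] [Module A N]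
    (h : ∀ f ∈ fs, TorsEl f N) (x : N) :
    ∃ n : ℕ, ∀ a ∈ (Ideal.span {a | a ∈ fs}) ^ n, a • x = 0 := by
  let J : Ideal A := (Submodule.span A {x}).annihilator
  have hJ : ∀ a : A, a ∈ J ↔ a • x = 0 := by
    intro a
    rw [Submodule.mem_annihilator_span_singleton]
  have hle : Ideal.span {a | a ∈ fs} ≤ J.radical := by
    rw [Ideal.span_le]
    intro f hf
    obtain ⟨n, hn⟩ := h f hf x
    exact ⟨n, (hJ _).mpr hn⟩
  have hfg : (Ideal.span {a | a ∈ fs}).FG := by
    classical
    refine ⟨fs.toFinset, ?_⟩
    congr 1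
    ext a
    simp
  obtain ⟨n, hn⟩ := Ideal.exists_pow_le_of_le_radical_of_fg hle hfg
  exact ⟨n, fun a ha => (hJ a).mp (hn ha)⟩

end formal

end Groth.Agent.Helper6.TorsMod
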