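import Mathlib
import Groth.Agent.Helper6.TorsMod

/-!
# Formal glueing for flat maps: the cartesian square lemma
-/

set_option autoImplicit false
universe u

namespace Groth.Agent.Helper6.FormalGlue

open TensorProduct Groth.Agent.Helper6.TorsMod

variable {A : Type u} [CommRing A]

lemma torsEl_span_singleton {M : Type u} [AddCommGroup M] [Module A M] (f : A) (m : M)
    (h : ∃ n : ℕ, f ^ n • m = 0) : TorsEl f (Submodule.span A {m}) := by
  obtain ⟨n, hn⟩ := h
  rintro ⟨y, hy⟩
  obtain ⟨r, rfl⟩ := Submodule.mem_span_singleton.mp hy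
  refine ⟨n, ?_⟩
  apply Subtype.ext
  show f ^ n • r • m = 0
  rw [smul_comm, hn, smul_zero]

variable {B : Type u} [CommRing B] [Algebra A B] [Module.Flat A B] (I : Ideal A)
  (hs : Function.Surjective
    ((Ideal.Quotient.mk (I.map (algebraMap A B))).comp (algebraMap A B)))
  (hk : RingHom.ker ((Ideal.Quotient.mk (I.map (algebraMap A B))).comp (algebraMap A B)) = I)
  (fs : List A) (hfs : Ideal.span {a | a ∈ fs} = I)

include hs hk hfs

lemma mkB_bijective_of_torsEl (N : Type u) [AddCommGroup N] [Module A N]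
    (hN : ∀ f ∈ fs, TorsEl f N) : Function.Bijective (mkB (A := A) (B := B) N) := by
  subst hfs
  exact mkB_bijective_of_powerTorsion _ hs hk N (powerTorsion_of_torsEl fs N hN)

lemma eq_zero_of_tmul_eq_zero {M : Type u} [AddCommGroup M] [Module A M] (m : M)
    (h0 : (1 : B) ⊗ₜ[A] m = 0) (ht : ∀ f ∈ fs, ∃ n : ℕ, f ^ n • m = 0) : m = 0 := by
  let N : Submodule A M := Submodule.span A {m}
  have hb := mkB_bijective_of_torsEl I hs hk fs hfs N
    (fun f hf => torsEl_span_singleton f m (ht f hf))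
  have hinj : Function.Injective (N.subtype.lTensor B) :=
    Module.Flat.lTensor_preserves_injective_linearMap _ (Submodule.injective_subtype N)
  let m' : N := ⟨m, Submodule.mem_span_singleton_self m⟩
  have h1 : N.subtype.lTensor B ((1 : B) ⊗ₜ[A] m') = 0 := by
    rw [LinearMap.lTensor_tmul]
    exact h0
  have h2 : (1 : B) ⊗ₜ[A] m' = 0 := hinj (h1.trans (map_zero _).symm)
  have h3 : m' = 0 := hb.1 (h2.trans (map_zero (mkB (A := A) (B := B) N)).symm)
  exact congrArg Subtype.val h3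

/-- **the cartesian square lemma** -/
theorem cart {M P : Type u} [AddCommGroup M] [Module A M] [AddCommGroup P] [Module A P]
    (φ : M →ₗ[A] P) (x : B ⊗[A] M) (h : P)
    (hker : ∀ μ : M, φ μ = 0 → ∀ f ∈ fs, ∃ n : ℕ, f ^ n • μ = 0)
    (hcok : ∀ f ∈ fs, ∃ n : ℕ, f ^ n • h ∈ LinearMap.range φ)
    (he : φ.lTensor B x = (1 : B) ⊗ₜ[A] h) :
    ∃ μ : M, (1 : B) ⊗ₜ[A] μ = x ∧ φ μ = h := by
  -- step 1: `h` is in the range of `φ`
  let π : P →ₗ[A] P ⧸ LinearMap.range φ := (LinearMap.range φ).mkQ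
  have hπφ : π ∘ₗ φ = 0 := LinearMap.range_mkQ_comp φ
  have h1 : (1 : B) ⊗ₜ[A] (π h) = 0 := by
    have : π.lTensor B (φ.lTensor B x) = 0 := by
      rw [← LinearMap.comp_apply, ← LinearMap.lTensor_comp, hπφ, LinearMap.lTensor_zero,
        LinearMap.zero_apply]
    rw [he, LinearMap.lTensor_tmul] at this
    exact this
  have h2 : π h = 0 := by
    refine eq_zero_of_tmul_eq_zero I hs hk fs hfs (π h) h1 ?_
    intro f hf
    obtain ⟨n, hn⟩ := hcok f hf
    refine ⟨n, ?_⟩
    rw [← map_smul]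
    exact (Submodule.Quotient.mk_eq_zero _).mpr hn
  obtain ⟨μ₀, hμ₀⟩ : h ∈ LinearMap.range φ := (Submodule.Quotient.mk_eq_zero _).mp h2
  -- step 2: correct by an element of the kernel
  let K : Submodule A M := LinearMap.ker φ
  have hex : Function.Exact (K.subtype.lTensor B) (φ.lTensor B) :=
    Module.Flat.lTensor_exact B (LinearMap.exact_subtype_ker_map φ)
  have h3 : φ.lTensor B (x - (1 : B) ⊗ₜ[A] μ₀) = 0 := by
    rw [map_sub, he, LinearMap.lTensor_tmul, hμ₀, sub_self]
  obtain ⟨y, hy⟩ := (hex _).mp h3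
  have hb := mkB_bijective_of_torsEl (B := B) I hs hk fs hfs K (by
    intro f hf ⟨k, hk'⟩
    obtain ⟨n, hn⟩ := hker k hk' f hf
    exact ⟨n, Subtype.ext hn⟩)
  obtain ⟨k, rfl⟩ := hb.2 y
  refine ⟨μ₀ + k, ?_, ?_⟩
  · have : K.subtype.lTensor B (mkB (A := A) (B := B) K k) = (1 : B) ⊗ₜ[A] (k : M) := by
      show K.subtype.lTensor B ((1 : B) ⊗ₜ[A] k) = _
      rw [LinearMap.lTensor_tmul]
      rfl
    rw [tmul_add, ← this, hy]
    abel
  · rw [map_add, hμ₀]
    have : φ (k : M) = 0 := k.2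
    rw [this, add_zero]

section fin

omit hs hk hfs

/-- the exponent-bounded version of the cartesian lemma, for a finite family of generators -/
lemma lTensor_pi_pow_smul {M : Type u} [AddCommGroup M] [Module A M] {t : ℕ} (f : Fin t → A)
    (k : ℕ) (x : B ⊗[A] M) (i : Fin t) :
    TensorProduct.piRight A A B (fun _ : Fin t => M)
      ((LinearMap.pi (fun i => (f i ^ k) • (LinearMap.id : M →ₗ[A] M))).lTensor B x) i =
        f i ^ k • x := by
  induction x using TensorProduct.induction_on with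
  | zero => simp
  | tmul b μ =>
    rw [LinearMap.lTensor_tmul, TensorProduct.piRight_apply, TensorProduct.piRightHom_tmul]
    show b ⊗ₜ[A] (f i ^ k • μ) = _
    rw [TensorProduct.tmul_smul]
  | add x y hx hy =>
    rw [map_add, map_add, Pi.add_apply, hx, hy, smul_add]

end fin

/-- **formal glueing**, concrete form with exponents -/
theorem glue_fin {M : Type u} [AddCommGroup M] [Module A M] {t : ℕ} (f : Fin t → A)
    (hf : fs = List.ofFn f) (x : B ⊗[A] M) (N : ℕ) (m : Fin t → M)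
    (ha : ∀ i : Fin t, ∃ e : ℕ, f i ^ e • f i ^ N • x = f i ^ e • ((1 : B) ⊗ₜ[A] m i))
    (hb : ∀ i j : Fin t, ∃ e : ℕ, (f i * f j) ^ e • (f j ^ N • m i - f i ^ N • m j) = 0) :
    ∃ μ : M, (1 : B) ⊗ₜ[A] μ = x ∧ ∀ i : Fin t, ∃ e : ℕ, f i ^ e • f i ^ N • μ = f i ^ e • m i := by
  choose ea hea using ha
  choose eb heb using hb
  let E : ℕ := (Finset.univ.sup ea) ⊔ (Finset.univ.sup fun i => Finset.univ.sup (eb i))
  have hEa : ∀ i, ea i ≤ E := fun i =>
    le_trans (Finset.le_sup (f := ea) (Finset.mem_univ i)) le_sup_left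
  have hEb : ∀ i j, eb i j ≤ E := fun i j =>
    le_trans (le_trans (Finset.le_sup (f := eb i) (Finset.mem_univ j))
      (Finset.le_sup (f := fun i => Finset.univ.sup (eb i)) (Finset.mem_univ i))) le_sup_right
  have hea' : ∀ i, f i ^ E • f i ^ N • x = f i ^ E • ((1 : B) ⊗ₜ[A] m i) := by
    intro i
    have := congrArg (fun z => f i ^ (E - ea i) • z) (hea i)
    simp only [← mul_smul, ← pow_add] at this
    rw [← add_assoc, Nat.sub_add_cancel (hEa i)] at this
    rw [← mul_smul, ← pow_add]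
    exact this
  have heb' : ∀ i j, (f i * f j) ^ E • (f j ^ N • m i - f i ^ N • m j) = 0 := by
    intro i j
    have := congrArg (fun z => (f i * f j) ^ (E - eb i j) • z) (heb i j)
    simp only [← mul_smul, ← pow_add, smul_zero] at this
    rw [Nat.sub_add_cancel (hEb i j)] at this
    exact this
  let φ : M →ₗ[A] (Fin t → M) := LinearMap.pi (fun i => (f i ^ (N + E)) • (LinearMap.id : M →ₗ[A] M))
  have hφ : ∀ μ i, φ μ i = f i ^ (N + E) • μ := fun μ i => rfl
  let h : Fin t → M := fun i => f i ^ E • m i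
  have key : ∃ μ : M, (1 : B) ⊗ₜ[A] μ = x ∧ φ μ = h := by
    refine cart I hs hk fs hfs φ x h ?_ ?_ ?_
    · intro μ hμ g hg
      rw [hf, List.mem_ofFn] at hg
      obtain ⟨i, rfl⟩ := hg
      exact ⟨N + E, (hφ μ i).symm.trans (congrFun hμ i)⟩
    · intro g hg
      rw [hf, List.mem_ofFn] at hg
      obtain ⟨j, rfl⟩ := hg
      refine ⟨N + E, f j ^ E • m j, ?_⟩
      funext i
      rw [hφ]
      show _ = f j ^ (N + E) • (f i ^ E • m i)
      have := heb' i j
      rw [mul_pow, smul_sub, ← mul_smul, ← mul_smul, sub_eq_zero] at this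
      rw [← mul_smul, ← mul_smul, pow_add, pow_add]
      have e1 : f i ^ N * f i ^ E * f j ^ E = f i ^ E * f j ^ E * f i ^ N := by ring
      have e2 : f j ^ N * f j ^ E * f i ^ E = f i ^ E * f j ^ E * f j ^ N := by ring
      rw [e1, e2]
      exact this.symm
    · apply (TensorProduct.piRight A A B (fun _ : Fin t => M)).injective
      funext i
      rw [lTensor_pi_pow_smul, TensorProduct.piRight_apply, TensorProduct.piRightHom_tmul]
      show _ = (1 : B) ⊗ₜ[A] (f i ^ E • m i)
      rw [TensorProduct.tmul_smul, ← hea' i, ← mul_smul, ← pow_add, add_comm]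
  obtain ⟨μ, hμ1, hμ2⟩ := key
  refine ⟨μ, hμ1, fun i => ⟨E, ?_⟩⟩
  have := congrFun hμ2 i
  rw [hφ] at this
  have this' : f i ^ (N + E) • μ = f i ^ E • m i := this
  rw [← this', ← mul_smul, ← pow_add, add_comm]

end Groth.Agent.Helper6.FormalGlue
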