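import Mathlib
import Groth.Prelude.Def_QuadSing
import Groth.Agent.Helper6.FormalIFTApp

/-!
# Quadratic singularities: Jacobian ideal of a nondegenerate quadratic series
-/

namespace Groth.Agent.Helper6.FormalQuad

open MvPowerSeries
open Groth.Agent.Helper6.FormalIFT

variable {R : Type*} [CommRing R] {N : ℕ}

theorem linMat_pderiv (f : MvPowerSeries (Fin N) R) :
    linMat (fun i => pderiv R i f) = VanCyc.polarMatrix (VanCyc.quadPart f) := by
  ext i j
  change coeff (Finsupp.single j 1) (pderiv R i f) = _
  rw [coeff_pderiv, VanCyc.polarMatrix]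
  by_cases hij : i = j
  · subst hij
    rw [if_pos rfl, VanCyc.quadPart, if_pos rfl, ← Finsupp.single_add, Finsupp.single_eq_same]
    norm_num
    ring
  · rw [if_neg hij]
    have h0 : (Finsupp.single j 1 : Fin N →₀ ℕ) i = 0 := by
      rw [Finsupp.single_apply, if_neg (fun h => hij h.symm)]
    rw [h0]
    by_cases hlt : i < j
    · rw [if_pos hlt, VanCyc.quadPart, if_neg hij, if_pos hlt, add_comm]
      simp
    · have hji : j < i := lt_of_le_of_ne (not_lt.mp hlt) (fun h => hij h.symm)
      rw [if_neg hlt, VanCyc.quadPart, if_neg (fun h => hij h.symm), if_pos hji]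
      simp

theorem constantCoeff_pderiv (f : MvPowerSeries (Fin N) R) (i : Fin N) :
    constantCoeff (pderiv R i f) = coeff (Finsupp.single i 1) f := by
  rw [← coeff_zero_eq_constantCoeff_apply, coeff_pderiv]
  simp

/-- S8719 -/
theorem span_pderiv_eq (k : Type*) [Field k] (n : ℕ)
    (f : MvPowerSeries (Fin (n + 1)) k) (hf : VanCyc.NondegQuadSeries f) :
    Ideal.span (Set.range fun i : Fin (n + 1) => MvPowerSeries.pderiv k i f) =
      IsLocalRing.maximalIdeal (MvPowerSeries (Fin (n + 1)) k) := by
  apply span_eq_maximalIdeal_of_isUnit_det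
  · intro i
    rw [constantCoeff_pderiv]
    exact hf.1.2 i
  · rw [linMat_pderiv]
    exact hf.2

end Groth.Agent.Helper6.FormalQuad
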