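import Mathlib
import Groth.Prelude.Def_QuadSing
import Groth.Agent.Helper6.FormalMorseApp
import Groth.Agent.Helper6.FormalQuad

/-!
# Formal Morse lemma: the milestone statements
-/

namespace Groth.Agent.Helper6.FormalMorse

open MvPowerSeries
open Groth.Agent.Helper6.SeriesVec
open Groth.Agent.Helper6.FormalIFT
open Groth.Agent.Helper6.FormalQuad

variable {R : Type*} [CommRing R] {n : ℕ}

theorem Hmat_eq_polarMatrix (c : Fin n → Fin n → R) (hc : ∀ i j, j < i → c i j = 0) :
    Hmat c = VanCyc.polarMatrix c := by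
  ext i j
  rw [Hmat, VanCyc.polarMatrix]
  by_cases hij : i = j
  · subst hij; rw [if_pos rfl]; ring
  · rw [if_neg hij]
    by_cases hlt : i < j
    · rw [if_pos hlt, hc j i hlt, add_zero]
    · have hji : j < i := lt_of_le_of_ne (not_lt.mp hlt) (fun h => hij h.symm)
      rw [if_neg hlt, hc i j hji, zero_add]

theorem quadPart_upper (f : MvPowerSeries (Fin n) R) (i j : Fin n) (h : j < i) :
    VanCyc.quadPart f i j = 0 := by
  rw [VanCyc.quadPart, if_neg (ne_of_gt h), if_neg (not_lt.mpr h.le)]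

theorem quadPart_eq (f : MvPowerSeries (Fin n) R) (i j : Fin n) (h : i ≤ j) :
    VanCyc.quadPart f i j = coeff (Finsupp.single i 1 + Finsupp.single j 1) f := by
  rw [VanCyc.quadPart]
  by_cases hij : i = j
  · subst hij
    rw [if_pos rfl, ← Finsupp.single_add]
  · rw [if_neg hij, if_pos (lt_of_le_of_ne h hij)]

/-- S3206 -/
theorem formal_morse (k : Type) [Field k] (n : ℕ) (f : MvPowerSeries (Fin n) k)
    (hf0 : MvPowerSeries.constantCoeff f = 0)
    (hJ : Ideal.span (Set.range fun i : Fin n => MvPowerSeries.pderiv k i f) =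
      IsLocalRing.maximalIdeal (MvPowerSeries (Fin n) k)) :
    ∃ (ε : Fin n → MvPowerSeries (Fin n) k)
      (_ : ∀ i (m : Fin n →₀ ℕ), m.degree < 2 → MvPowerSeries.coeff m (ε i) = 0)
      (q : MvPolynomial (Fin n) k) (_ : q.IsHomogeneous 2)
      (_ : MvPowerSeries.HasSubst (fun i : Fin n => MvPowerSeries.X i + ε i)),
      f = MvPowerSeries.subst (fun i : Fin n => MvPowerSeries.X i + ε i)
        (q : MvPowerSeries (Fin n) k) := by
  obtain ⟨hy0, hdet⟩ := isUnit_det_linMat_of_span_field (fun i => pderiv k i f) hJ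
  have hf1 : ∀ i, coeff (Finsupp.single i 1) f = 0 := fun i => by
    rw [← constantCoeff_pderiv]; exact hy0 i
  rw [linMat_pderiv, ← Hmat_eq_polarMatrix _ (quadPart_upper f)] at hdet
  obtain ⟨u, hu, hQ⟩ := morse (VanCyc.quadPart f) hdet f 2 le_rfl
    (le_order_Qs_zero_sub _ (quadPart_upper f) f hf0 hf1 (quadPart_eq f))
  have hu0 : ∀ i, constantCoeff (u i) = 0 := hu.constantCoeff (by omega)
  refine ⟨u, fun i m hm => hu.coeff_eq_zero i hm, Qpoly (VanCyc.quadPart f),
    Qpoly_isHomogeneous _, hasSubst_of_constantCoeff_zero (fun i => by simp [hu0 i]), ?_⟩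
  rw [subst_coe_Qpoly _ hu0, hQ]

end Groth.Agent.Helper6.FormalMorse
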