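import Mathlib
import Groth.Prelude.Def_QuadSing
import Groth.Agent.Helper6.FormalMorseRes

/-!
# Quadratic normal form over a ring (VanCyc S16230)
-/

namespace Groth.Agent.Helper6.FormalMorse

open MvPowerSeries
open Groth.Agent.Helper6.SeriesVec
open Groth.Agent.Helper6.FormalIFT
open Groth.Agent.Helper6.FormalQuad

variable {A : Type*} [CommRing A] {n : ℕ}

/-- upper-triangular part of a table -/
def upper (q : Fin n → Fin n → A) : Fin n → Fin n → A := fun i j => if i ≤ j then q i j else 0

theorem upper_upper (q : Fin n → Fin n → A) (i j : Fin n) (h : j < i) : upper q i j = 0 := by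
  rw [upper, if_neg (not_le.mpr h)]

theorem quadPoly_eq_Qpoly (q : Fin n → Fin n → A) : VanCyc.quadPoly q = Qpoly (upper q) := by
  rw [VanCyc.quadPoly, Qpoly]
  refine Finset.sum_congr rfl (fun i _ => Finset.sum_congr rfl (fun j _ => ?_))
  rw [upper]
  split_ifs <;> simp

theorem polarMatrix_upper (q : Fin n → Fin n → A) :
    VanCyc.polarMatrix (upper q) = VanCyc.polarMatrix q := by
  ext i j
  rw [VanCyc.polarMatrix, VanCyc.polarMatrix]
  by_cases hij : i = j
  · subst hij
    rw [if_pos rfl, if_pos rfl, upper, if_pos le_rfl]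
  · rw [if_neg hij, if_neg hij]
    by_cases hlt : i < j
    · rw [if_pos hlt, if_pos hlt, upper, if_pos hlt.le]
    · have hji : j ≤ i := not_lt.mp hlt
      rw [if_neg hlt, if_neg hlt, upper, if_pos hji]

theorem linMat_X_add {m : ℕ} (hm : 2 ≤ m) {u : Fin n → MvPowerSeries (Fin n) A}
    (hu : OrdGE m u) : linMat (fun i => X i + u i) = 1 := by
  classical
  ext i j
  change coeff (Finsupp.single j 1) (X i + u i) = _
  rw [map_add, hu.coeff_eq_zero i (by rw [Finsupp.degree_single]; omega), add_zero,
    coeff_index_single_X, Matrix.one_apply]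
  by_cases hij : i = j
  · subst hij; simp
  · rw [if_neg hij, if_neg (fun h => hij h.symm)]

theorem subst_bijective_of_inverse {y z : Fin n → MvPowerSeries (Fin n) A}
    (hy0 : ∀ i, constantCoeff (y i) = 0) (hz0 : ∀ i, constantCoeff (z i) = 0)
    (hz : ∀ i, subst z (y i) = X i) (hz' : ∀ i, subst y (z i) = X i) :
    Function.Bijective (subst z : MvPowerSeries (Fin n) A → MvPowerSeries (Fin n) A) := by
  have Hz : HasSubst z := hasSubst_of_constantCoeff_zero hz0
  have Hy : HasSubst y := hasSubst_of_constantCoeff_zero hy0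
  refine ⟨Function.LeftInverse.injective (g := subst y) ?_,
    Function.RightInverse.surjective (g := subst y) ?_⟩
  · intro f
    rw [subst_comp_subst_apply Hz Hy, (funext hz' : (fun s => subst y (z s)) = X), subst_self]
    rfl
  · intro f
    rw [subst_comp_subst_apply Hy Hz, (funext hz : (fun s => subst z (y s)) = X), subst_self]
    rfl

/-- S16230 (no locality needed) -/
theorem quadratic_normal_form (n m : ℕ) (hm : 2 ≤ m)
    (q : Fin n → Fin n → A) (hq : VanCyc.QuadNondeg q) (a : A)
    (F : MvPowerSeries (Fin n) A)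
    (hF : ∀ e : Fin n →₀ ℕ, e.degree ≤ m →
      MvPowerSeries.coeff e F = MvPowerSeries.coeff e
        ((VanCyc.quadPoly q + MvPolynomial.C a : MvPolynomial (Fin n) A) :
          MvPowerSeries (Fin n) A)) :
    ∃ h : Fin n → MvPowerSeries (Fin n) A,
      (∀ (i : Fin n) (e : Fin n →₀ ℕ), e.degree < m → MvPowerSeries.coeff e (h i) = 0) ∧
      MvPowerSeries.HasSubst (fun i => MvPowerSeries.X i + h i) ∧
      MvPowerSeries.subst (fun i => MvPowerSeries.X i + h i) F =
        ((VanCyc.quadPoly q + MvPolynomial.C a : MvPolynomial (Fin n) A) :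
          MvPowerSeries (Fin n) A) ∧
      Nonempty ((MvPowerSeries (Fin n) A ⧸ Ideal.span {F}) ≃ₐ[A]
        (MvPowerSeries (Fin n) A ⧸ Ideal.span
          {((VanCyc.quadPoly q + MvPolynomial.C a : MvPolynomial (Fin n) A) :
            MvPowerSeries (Fin n) A)})) := by
  set c := upper q with hcdef
  have hdet : IsUnit (Hmat c).det := by
    rw [Hmat_eq_polarMatrix c (upper_upper q), polarMatrix_upper]
    exact hq
  have hG : ((VanCyc.quadPoly q + MvPolynomial.C a : MvPolynomial (Fin n) A) :
      MvPowerSeries (Fin n) A) = Qs c 0 + C a := by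
    rw [MvPolynomial.coe_add, MvPolynomial.coe_C, quadPoly_eq_Qpoly, Qs_zero]
  rw [hG] at hF ⊢
  have hF' : ((m + 1 : ℕ) : ℕ∞) ≤ (Qs c 0 - (F - C a)).order := by
    apply nat_le_order
    intro e he
    have := hF e (by omega)
    rw [map_sub, map_sub, this, map_add]
    ring
  obtain ⟨u, hu, hQ⟩ := morse c hdet (F - C a) m hm hF'
  have hu0 : ∀ i, constantCoeff (u i) = 0 := hu.constantCoeff (by omega)
  have hy0 : ∀ i, constantCoeff (X i + u i) = 0 := fun i => by simp [hu0 i]
  have Hy : HasSubst (fun i => X i + u i) := hasSubst_of_constantCoeff_zero hy0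
  have hlin : linMat (fun i => X i + u i) = 1 := linMat_X_add hm hu
  obtain ⟨z, hz0, hz, hz', -⟩ := exists_inverse (fun i => X i + u i) hy0
    (by rw [hlin, Matrix.det_one]; exact isUnit_one)
  have Hz : HasSubst z := hasSubst_of_constantCoeff_zero hz0
  have hzX : (fun i => X i + (z i - X i)) = z := by
    funext i; ring
  have hFeq : F = subst (fun i => X i + u i) (Qs c 0 + C a) := by
    rw [subst_add Hy, subst_C, Qs_zero, subst_coe_Qpoly c hu0, hQ]
    ring
  have hzF : subst z F = Qs c 0 + C a := by
    rw [hFeq, subst_comp_subst_apply Hy Hz,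
      (funext hz : (fun s => subst z ((fun i => X i + u i) s)) = X), subst_self]
    rfl
  refine ⟨fun i => z i - X i, ?_, ?_, ?_, ?_⟩
  · intro i e he
    have e1 : z i - X i = - subst z (u i) := by
      have := hz i
      rw [subst_add Hz, subst_X Hz] at this
      rw [← this]; ring
    change coeff e (z i - X i) = 0
    rw [e1, map_neg, neg_eq_zero]
    apply coeff_of_lt_order
    refine lt_of_lt_of_le ?_ (le_order_subst Hz (u i))
    have h1 : (1 : ℕ∞) ≤ ⨅ i, (z i).order :=
      le_iInf (fun i => one_le_order_iff_constCoeff_eq_zero.mpr (hz0 i))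
    have h2 : (m : ℕ∞) ≤ (⨅ i, (z i).order) * (u i).order := by
      calc (m : ℕ∞) = 1 * m := by simp
        _ ≤ _ := mul_le_mul' h1 (hu i)
    exact lt_of_lt_of_le (by exact_mod_cast he) h2
  · rw [hzX]; exact Hz
  · rw [hzX]; exact hzF
  · have hbij : Function.Bijective (substAlgHom (R := A) Hz) := by
      rw [coe_substAlgHom]
      exact subst_bijective_of_inverse hy0 hz0 hz hz'
    let φ : MvPowerSeries (Fin n) A ≃ₐ[A] MvPowerSeries (Fin n) A :=
      AlgEquiv.ofBijective (substAlgHom (R := A) Hz) hbij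
    refine ⟨Ideal.quotientEquivAlg _ _ φ ?_⟩
    rw [Ideal.map_span, Set.image_singleton]
    congr 2
    change _ = substAlgHom (R := A) Hz F
    rw [coe_substAlgHom, hzF]

end Groth.Agent.Helper6.FormalMorse
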