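import Mathlib
import Groth.Agent.Helper6.IsoGen
import Groth.Agent.Helper6.EWMod1

set_option backward.isDefEq.respectTransparency false
set_option backward.isDefEq.respectTransparency.types false

namespace Groth.Agent.Helper6.FpFun1

open CategoryTheory Limits
open Groth.Agent.Helper6.EWMod1

universe u v' u'

abbrev fpP (A : Type u) [CommRing A] : ObjectProperty (ModuleCat.{u} A) :=
  fun M => Module.FinitePresentation A M

abbrev FP (A : Type u) [CommRing A] := (fpP A).FullSubcategory

variable {A : Type u} [CommRing A]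

instance : (fpP A).ContainsZero :=
  ⟨⟨ModuleCat.of A PUnit, ModuleCat.isZero_of_subsingleton _,
    (inferInstance : Module.FinitePresentation A PUnit.{u + 1})⟩⟩

noncomputable def bicone (X Y : FP A) : BinaryBicone X Y where
  pt := ⟨X.obj ⊞ Y.obj, by
    haveI : Module.FinitePresentation A X.obj := X.property
    haveI : Module.FinitePresentation A Y.obj := Y.property
    exact Module.FinitePresentation.of_equiv
      (ModuleCat.biprodIsoProd X.obj Y.obj).symm.toLinearEquiv⟩
  fst := ObjectProperty.homMk biprod.fst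
  snd := ObjectProperty.homMk biprod.snd
  inl := ObjectProperty.homMk biprod.inl
  inr := ObjectProperty.homMk biprod.inr
  inl_fst := by apply ObjectProperty.hom_ext; exact biprod.inl_fst
  inl_snd := by apply ObjectProperty.hom_ext; exact biprod.inl_snd
  inr_fst := by apply ObjectProperty.hom_ext; exact biprod.inr_fst
  inr_snd := by apply ObjectProperty.hom_ext; exact biprod.inr_snd

instance : HasBinaryBiproducts (FP A) :=
  ⟨fun X Y => HasBinaryBiproduct.mk ⟨bicone X Y, isBinaryBilimitOfTotal (bicone X Y) (by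
    apply ObjectProperty.hom_ext
    exact biprod.total)⟩⟩

noncomputable abbrev oA : FP A := ⟨ModuleCat.of A A, (inferInstance : Module.FinitePresentation A A)⟩

noncomputable abbrev hatC (X : FP A) (m : X.obj) : (oA : FP A) ⟶ X := ObjectProperty.homMk (hat X.obj m)

noncomputable abbrev oFree (I : Type u) [Finite I] : FP A :=
  ⟨ModuleCat.of A (I →₀ A), (inferInstance : Module.FinitePresentation A (I →₀ A))⟩

noncomputable abbrev injC (I : Type u) [Finite I] (i : I) : (oA : FP A) ⟶ oFree I :=
  ObjectProperty.homMk (ModuleCat.ofHom (Finsupp.lsingle i))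

noncomputable def freeIsColimit (I : Type u) [Finite I] :
    IsColimit (Cofan.mk (oFree (A := A) I) (injC I)) :=
  Cofan.IsColimit.mk _
    (fun s => ObjectProperty.homMk
      (ModuleCat.ofHom (Finsupp.lsum ℕ (fun i => (s.inj i).hom.hom))))
    (fun s i => by
      apply ObjectProperty.hom_ext
      apply ModuleCat.hom_ext
      refine LinearMap.ext_ring ?_
      simp)
    (fun s m hm => by
      apply ObjectProperty.hom_ext
      apply ModuleCat.hom_ext
      refine Finsupp.lhom_ext' (fun i => LinearMap.ext_ring ?_)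
      have h := congrArg (fun f => f.hom.hom (1 : A)) (hm i)
      simpa using h)

theorem hatC_comp {X Y : FP A} (g : X ⟶ Y) (m : X.obj) : hatC X m ≫ g = hatC Y (g.hom m) := by
  apply ObjectProperty.hom_ext
  exact hat_comp g.hom m

theorem hatC_add (X : FP A) (m m' : X.obj) : hatC X (m + m') = hatC X m + hatC X m' := by
  apply ObjectProperty.hom_ext
  exact hat_add X.obj m m'

theorem hatC_zero (X : FP A) : hatC X (0 : X.obj) = 0 := by
  apply ObjectProperty.hom_ext
  exact hat_zero X.obj

theorem hatC_single (I : Type u) [Finite I] (i : I) (b : A) :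
    hatC (oFree I) (Finsupp.single i b) = hatC oA b ≫ injC I i := by
  apply ObjectProperty.hom_ext
  apply ModuleCat.hom_ext
  refine LinearMap.ext_ring ?_
  simp

variable {B : Type u'} [Category.{v'} B] [Preadditive B] [HasFiniteBiproducts B] [HasCokernels B]

theorem additive_of_pfc (F : FP A ⥤ B) [PreservesFiniteColimits F] : F.Additive := by
  haveI : F.PreservesZeroMorphisms := Functor.preservesZeroMorphisms_of_preserves_initial_object
  haveI := preservesBinaryBiproducts_of_preservesBinaryCoproducts F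
  exact Functor.additive_of_preservesBinaryBiproducts F

variable (F F' : FP A ⥤ B) [PreservesFiniteColimits F] [PreservesFiniteColimits F']

theorem jointEpi (X : FP A) {Z : B} (g g' : F.obj X ⟶ Z)
    (h : ∀ m : X.obj, F.map (hatC X m) ≫ g = F.map (hatC X m) ≫ g') : g = g' := by
  haveI : Module.FinitePresentation A X.obj := X.property
  obtain ⟨n, m, f, p, hp, hfp⟩ := IsoGen.exists_fp_presentation X.obj
  let I := ULift.{u} (Fin n)
  let pC : oFree I ⟶ X := ObjectProperty.homMk p
  haveI : Epi pC := by
    haveI : Epi ((fpP A).ι.map pC) := (ModuleCat.epi_iff_surjective _).mpr hp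
    exact Functor.epi_of_epi_map (fpP A).ι inferInstance
  haveI : Epi (F.map pC) := inferInstance
  rw [← cancel_epi (F.map pC)]
  have hc := isColimitCofanMkObjOfIsColimit F _ _ (freeIsColimit (A := A) I)
  refine Cofan.IsColimit.hom_ext hc _ _ (fun i => ?_)
  show F.map (injC I i) ≫ F.map pC ≫ g = F.map (injC I i) ≫ F.map pC ≫ g'
  have e : injC I i ≫ pC = hatC X (p.hom (Finsupp.single i 1)) := by
    apply ObjectProperty.hom_ext
    apply ModuleCat.hom_ext
    refine LinearMap.ext_ring ?_
    simp
    rfl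
  rw [← F.map_comp_assoc, ← F.map_comp_assoc, e]
  exact h _

def Compat (φ : F.obj oA ⟶ F'.obj oA) (X : FP A) (t : F.obj X ⟶ F'.obj X) : Prop :=
  ∀ m : X.obj, F.map (hatC X m) ≫ t = φ ≫ F'.map (hatC X m)

theorem nat_of_compat (φ : F.obj oA ⟶ F'.obj oA) {X Y : FP A} (g : X ⟶ Y)
    (tX : F.obj X ⟶ F'.obj X) (tY : F.obj Y ⟶ F'.obj Y)
    (hX : Compat F F' φ X tX) (hY : Compat F F' φ Y tY) :
    F.map g ≫ tY = tX ≫ F'.map g := by
  apply jointEpi F X
  intro m
  rw [← F.map_comp_assoc, hatC_comp, hY, reassoc_of% (hX m), ← F'.map_comp, hatC_comp]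

variable (φ : F.obj oA ⟶ F'.obj oA)
  (hφ : ∀ a : A, F.map (hatC oA a) ≫ φ = φ ≫ F'.map (hatC oA a))

include hφ in
theorem exists_compat_free (I : Type u) [Finite I] :
    ∃ t : F.obj (oFree I) ⟶ F'.obj (oFree I), Compat F F' φ (oFree I) t := by
  haveI := additive_of_pfc F
  haveI := additive_of_pfc F'
  have hc := isColimitCofanMkObjOfIsColimit F _ _ (freeIsColimit (A := A) I)
  refine ⟨Cofan.IsColimit.desc hc (fun i => φ ≫ F'.map (injC I i)), ?_⟩
  have hfac : ∀ i, F.map (injC I i) ≫ Cofan.IsColimit.desc hc (fun i => φ ≫ F'.map (injC I i)) =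
      φ ≫ F'.map (injC I i) := fun i => Cofan.IsColimit.fac hc _ i
  intro m
  induction m using Finsupp.induction_linear with
  | zero =>
    rw [hatC_zero, F.map_zero, F'.map_zero, zero_comp, comp_zero]
  | add f g hf hg =>
    rw [hatC_add, F.map_add, F'.map_add, Preadditive.add_comp, Preadditive.comp_add, hf, hg]
  | single i b =>
    rw [hatC_single, F.map_comp, F'.map_comp, Category.assoc, hfac, reassoc_of% (hφ b)]

include hφ in
theorem exists_compat (X : FP A) : ∃ t : F.obj X ⟶ F'.obj X, Compat F F' φ X t := by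
  haveI := additive_of_pfc F
  haveI := additive_of_pfc F'
  haveI : Module.FinitePresentation A X.obj := X.property
  obtain ⟨n, m, f, p, hp, hfp⟩ := IsoGen.exists_fp_presentation X.obj
  let I := ULift.{u} (Fin n)
  let I' := ULift.{u} (Fin m)
  let pC : oFree I ⟶ X := ObjectProperty.homMk p
  let fC : oFree I' ⟶ oFree I := ObjectProperty.homMk f
  obtain ⟨t₀, h₀⟩ := exists_compat_free F F' φ hφ I
  obtain ⟨t₁, h₁⟩ := exists_compat_free F F' φ hφ I'
  have w : f ≫ p = 0 := by
    apply ModuleCat.hom_ext
    apply LinearMap.ext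
    intro x
    have : f.hom x ∈ LinearMap.ker p.hom := hfp ▸ LinearMap.mem_range_self _ x
    simpa using this
  have wC : fC ≫ pC = 0 := by
    apply ObjectProperty.hom_ext
    exact w
  let S : ShortComplex (ModuleCat.{u} A) := ShortComplex.mk f p w
  have hS : S.Exact := (ShortComplex.moduleCat_exact_iff_range_eq_ker S).mpr hfp
  haveI : Epi S.g := (ModuleCat.epi_iff_surjective _).mpr hp
  have hcok : IsColimit (CokernelCofork.ofπ pC wC) :=
    isColimitOfReflects (fpP A).ι
      ((CokernelCofork.isColimitMapCoconeEquiv _ _).symm hS.gIsCokernel)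
  have hFcok := CokernelCofork.mapIsColimit _ hcok F
  have hnat := nat_of_compat F F' φ fC t₁ t₀ h₁ h₀
  have hz : F.map fC ≫ t₀ ≫ F'.map pC = 0 := by
    rw [reassoc_of% hnat, ← F'.map_comp, wC, F'.map_zero, comp_zero]
  refine ⟨hFcok.desc (CokernelCofork.ofπ (t₀ ≫ F'.map pC) hz), ?_⟩
  have hfac : F.map pC ≫ hFcok.desc (CokernelCofork.ofπ (t₀ ≫ F'.map pC) hz) = t₀ ≫ F'.map pC :=
    hFcok.fac _ WalkingParallelPair.one
  intro x
  obtain ⟨y, rfl⟩ := hp x
  have e : hatC X (p.hom y) = hatC (oFree I) y ≫ pC := (hatC_comp pC y).symm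
  rw [e, F.map_comp, F'.map_comp, Category.assoc, hfac, reassoc_of% (h₀ y)]

include hφ in
theorem exists_nat : ∃ t : F ⟶ F', t.app oA = φ := by
  choose t ht using exists_compat F F' φ hφ
  refine ⟨{ app := t, naturality := fun X Y g => nat_of_compat F F' φ g (t X) (t Y) (ht X) (ht Y) }, ?_⟩
  apply jointEpi F oA
  intro a
  exact (ht oA a).trans (hφ a).symm

theorem nat_ext (t t' : F ⟶ F') (h : t.app oA = t'.app oA) : t = t' := by
  ext X
  apply jointEpi F X
  intro m
  rw [t.naturality, t'.naturality, h]

end Groth.Agent.Helper6.FpFun1
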