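import Mathlib
import Groth.Agent.Helper6.FpFun1

set_option backward.isDefEq.respectTransparency false
set_option backward.isDefEq.respectTransparency.types false

namespace Groth.Agent.Helper6.FpFun2

open CategoryTheory Limits
open Groth.Agent.Helper6.EWMod1 Groth.Agent.Helper6.FpFun1

universe u v' u'

/-- an action of the ring `A` on the object `K` -/
class KAct (A : Type u) [CommRing A] {B : Type u'} [Category.{v'} B] [Preadditive B] (K : B) where
  κ : A →+* End K

variable {A : Type u} [CommRing A] {B : Type u'} [Category.{v'} B] [Preadditive B]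
variable (K : B) [KAct A K]

instance homMod (Z : B) : Module A (K ⟶ Z) where
  smul a g := (KAct.κ (A := A) (K := K) a : K ⟶ K) ≫ g
  one_smul g := by
    show (KAct.κ (A := A) (K := K) 1 : K ⟶ K) ≫ g = g
    rw [map_one]; exact Category.id_comp g
  mul_smul a b g := by
    show (KAct.κ (A := A) (K := K) (a * b) : K ⟶ K) ≫ g =
      (KAct.κ (A := A) (K := K) a : K ⟶ K) ≫ (KAct.κ (A := A) (K := K) b : K ⟶ K) ≫ g
    rw [mul_comm, map_mul, End.mul_def, Category.assoc]
  smul_zero a := by
    show (KAct.κ (A := A) (K := K) a : K ⟶ K) ≫ (0 : K ⟶ Z) = 0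
    exact comp_zero
  smul_add a g h := by
    show (KAct.κ (A := A) (K := K) a : K ⟶ K) ≫ (g + h) = _ ≫ g + _ ≫ h
    exact Preadditive.comp_add _ _ _ _ _ _
  add_smul a b g := by
    show (KAct.κ (A := A) (K := K) (a + b) : K ⟶ K) ≫ g = _ ≫ g + _ ≫ g
    rw [map_add]; exact Preadditive.add_comp _ _ _ _ _ _
  zero_smul g := by
    show (KAct.κ (A := A) (K := K) 0 : K ⟶ K) ≫ g = 0
    rw [map_zero]; exact zero_comp

theorem smul_def {Z : B} (a : A) (g : K ⟶ Z) :
    a • g = (KAct.κ (A := A) (K := K) a : K ⟶ K) ≫ g := rfl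

/-- post-composition as an `A`-linear map -/
def postL {T Z : B} (g : T ⟶ Z) : (K ⟶ T) →ₗ[A] (K ⟶ Z) where
  toFun h := h ≫ g
  map_add' h h' := Preadditive.add_comp _ _ _ _ _ _
  map_smul' a h := by
    show ((KAct.κ (A := A) (K := K) a : K ⟶ K) ≫ h) ≫ g = (KAct.κ (A := A) (K := K) a : K ⟶ K) ≫ h ≫ g
    exact Category.assoc _ _ _

@[simp] theorem postL_apply {T Z : B} (g : T ⟶ Z) (h : K ⟶ T) : postL (A := A) K g h = h ≫ g := rfl

/-- a universal `A`-balanced pairing `K × M → T`, i.e. `T = K ⊗_A M` -/
structure KT (M : Type u) [AddCommGroup M] [Module A M] where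
  T : B
  u : M →ₗ[A] (K ⟶ T)
  desc : ∀ {Z : B}, (M →ₗ[A] (K ⟶ Z)) → (T ⟶ Z)
  fac : ∀ {Z : B} (v : M →ₗ[A] (K ⟶ Z)) (m : M), u m ≫ desc v = v m
  uniq : ∀ {Z : B} (g g' : T ⟶ Z), (∀ m, u m ≫ g = u m ≫ g') → g = g'

variable {K}

/-- transport along a linear equivalence -/
def KT.congr {M M' : Type u} [AddCommGroup M] [Module A M] [AddCommGroup M'] [Module A M']
    (k : KT (A := A) K M) (e : M ≃ₗ[A] M') : KT (A := A) K M' where
  T := k.T
  u := k.u ∘ₗ e.symm.toLinearMap
  desc v := k.desc (v ∘ₗ e.toLinearMap)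
  fac v m := by
    show k.u (e.symm m) ≫ k.desc (v ∘ₗ e.toLinearMap) = v m
    rw [k.fac]; simp
  uniq g g' h := by
    apply k.uniq
    intro m
    have := h (e m)
    simpa using this

/-- canonical iso between two universal pairings -/
def KT.iso {M : Type u} [AddCommGroup M] [Module A M] (k k' : KT (A := A) K M) : k.T ≅ k'.T where
  hom := k.desc k'.u
  inv := k'.desc k.u
  hom_inv_id := by
    apply k.uniq
    intro m
    rw [← Category.assoc, k.fac, k'.fac, Category.comp_id]
  inv_hom_id := by
    apply k'.uniq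
    intro m
    rw [← Category.assoc, k'.fac, k.fac, Category.comp_id]

theorem KT.u_iso_hom {M : Type u} [AddCommGroup M] [Module A M] (k k' : KT (A := A) K M) (m : M) :
    k.u m ≫ (k.iso k').hom = k'.u m := k.fac _ m

variable (K)

/-- the pairing for `M = A` -/
def ktA : KT (A := A) K A where
  T := K
  u := LinearMap.toSpanSingleton A (K ⟶ K) (𝟙 K)
  desc v := v 1
  fac v m := by
    show (m • (𝟙 K : K ⟶ K)) ≫ v 1 = v m
    rw [smul_def, Category.comp_id, ← smul_def, ← map_smul, smul_eq_mul, mul_one]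
  uniq g g' h := by
    have := h 1
    simpa using this

theorem ktA_u (a : A) : (ktA (A := A) K).u a = (KAct.κ (A := A) (K := K) a : K ⟶ K) := by
  show a • (𝟙 K : K ⟶ K) = _
  rw [smul_def, Category.comp_id]

variable [HasFiniteBiproducts B] [HasCokernels B]

/-- the pairing for a finite free module -/
noncomputable def ktFree (I : Type u) [Fintype I] : KT (A := A) K (I →₀ A) where
  T := ⨁ fun _ : I => K
  u := Finsupp.linearCombination A (fun i => biproduct.ι (fun _ : I => K) i)
  desc v := biproduct.desc (fun i => v (Finsupp.single i 1))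
  fac v m := by
    have : (postL (A := A) K (biproduct.desc (fun i => v (Finsupp.single i 1)))) ∘ₗ
        (Finsupp.linearCombination A (fun i => biproduct.ι (fun _ : I => K) i)) = v := by
      refine Finsupp.lhom_ext (fun i b => ?_)
      simp only [LinearMap.comp_apply, Finsupp.linearCombination_single, postL_apply]
      rw [smul_def, Category.assoc, biproduct.ι_desc, ← smul_def, ← map_smul, Finsupp.smul_single,
        smul_eq_mul, mul_one]
    exact LinearMap.congr_fun this m
  uniq g g' h := by
    refine biproduct.hom_ext' _ _ (fun i => ?_)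
    have := h (Finsupp.single i 1)
    simpa using this

variable {K}

/-- the pairing for a quotient by the range of a map -/
noncomputable def ktQuot {L N : Type u} [AddCommGroup L] [Module A L] [AddCommGroup N] [Module A N]
    (kL : KT (A := A) K L) (kN : KT (A := A) K N) (f : L →ₗ[A] N) :
    KT (A := A) K (N ⧸ LinearMap.range f) :=
  let θ : kL.T ⟶ kN.T := kL.desc (kN.u ∘ₗ f)
  have hθ : ∀ l, kL.u l ≫ θ = kN.u (f l) := fun l => kL.fac _ l
  have hle : LinearMap.range f ≤ LinearMap.ker ((postL (A := A) K (cokernel.π θ)) ∘ₗ kN.u) := by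
    rintro _ ⟨l, rfl⟩
    show kN.u (f l) ≫ cokernel.π θ = 0
    rw [← hθ, Category.assoc, cokernel.condition, comp_zero]
  { T := cokernel θ
    u := Submodule.liftQ _ ((postL (A := A) K (cokernel.π θ)) ∘ₗ kN.u) hle
    desc := fun v => cokernel.desc θ (kN.desc (v ∘ₗ (LinearMap.range f).mkQ)) (by
      apply kL.uniq
      intro l
      rw [← Category.assoc, hθ, kN.fac, comp_zero]
      show v ((LinearMap.range f).mkQ (f l)) = 0
      rw [Submodule.mkQ_apply, (Submodule.Quotient.mk_eq_zero _).mpr (LinearMap.mem_range_self f l)]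
      exact map_zero v)
    fac := fun v q => by
      obtain ⟨n, rfl⟩ := Submodule.mkQ_surjective _ q
      show (kN.u n ≫ cokernel.π θ) ≫ cokernel.desc θ _ _ = v _
      rw [Category.assoc, cokernel.π_desc, kN.fac]
      rfl
    uniq := fun g g' h => by
      rw [← cancel_epi (cokernel.π θ)]
      apply kN.uniq
      intro n
      have := h ((LinearMap.range f).mkQ n)
      simpa using this }

variable (K)

theorem exists_KT (M : Type u) [AddCommGroup M] [Module A M] [Module.FinitePresentation A M] :
    Nonempty (KT (A := A) K M) := by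
  obtain ⟨n, m, f, p, hp, hfp⟩ := IsoGen.exists_fp_presentation (ModuleCat.of A M)
  let e : ((ULift.{u} (Fin n) →₀ A) ⧸ LinearMap.range f.hom) ≃ₗ[A] M :=
    (Submodule.quotEquivOfEq _ _ hfp).trans (p.hom.quotKerEquivOfSurjective hp)
  exact ⟨(ktQuot (ktFree K (ULift.{u} (Fin m))) (ktFree K (ULift.{u} (Fin n))) f.hom).congr e⟩

end Groth.Agent.Helper6.FpFun2
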