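import Mathlib
import Groth.Agent.Helper6.FpFun2

set_option backward.isDefEq.respectTransparency false
set_option backward.isDefEq.respectTransparency.types false

namespace Groth.Agent.Helper6.FpFun3

open CategoryTheory Limits
open Groth.Agent.Helper6.EWMod1 Groth.Agent.Helper6.FpFun1 Groth.Agent.Helper6.FpFun2

universe u v' u'

variable {A : Type u} [CommRing A]

/-! ### cokernels in the category of finitely presented modules -/

noncomputable def cokObj {X Y : FP A} (f : X ⟶ Y) : FP A :=
  ⟨ModuleCat.of A (Y.obj ⧸ LinearMap.range f.hom.hom), by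
    haveI : Module.FinitePresentation A X.obj := X.property
    haveI : Module.FinitePresentation A Y.obj := Y.property
    refine Module.finitePresentation_of_surjective (LinearMap.range f.hom.hom).mkQ
      (Submodule.mkQ_surjective _) ?_
    rw [Submodule.ker_mkQ, LinearMap.range_eq_map]
    exact Submodule.FG.map _ Module.Finite.fg_top⟩

noncomputable def cokπ {X Y : FP A} (f : X ⟶ Y) : Y ⟶ cokObj f :=
  ObjectProperty.homMk (ModuleCat.ofHom (LinearMap.range f.hom.hom).mkQ)

theorem cok_w {X Y : FP A} (f : X ⟶ Y) : f ≫ cokπ f = 0 := by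
  apply ObjectProperty.hom_ext
  apply ModuleCat.hom_ext
  apply LinearMap.ext
  intro x
  show Submodule.Quotient.mk (f.hom.hom x) = 0
  exact (Submodule.Quotient.mk_eq_zero _).mpr (LinearMap.mem_range_self _ x)

noncomputable def cokIsColimit {X Y : FP A} (f : X ⟶ Y) :
    IsColimit (CokernelCofork.ofπ (cokπ f) (cok_w f)) := by
  let S : ShortComplex (ModuleCat.{u} A) :=
    ShortComplex.mk f.hom (cokπ f).hom (congrArg (fun g => g.hom) (cok_w f))
  have hS : S.Exact := (ShortComplex.moduleCat_exact_iff_range_eq_ker S).mpr (by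
    show LinearMap.range f.hom.hom = LinearMap.ker (LinearMap.range f.hom.hom).mkQ
    rw [Submodule.ker_mkQ])
  haveI : Epi S.g := (ModuleCat.epi_iff_surjective _).mpr (Submodule.mkQ_surjective _)
  exact isColimitOfReflects (fpP A).ι
    ((CokernelCofork.isColimitMapCoconeEquiv _ _).symm hS.gIsCokernel)

instance : HasCokernels (FP A) := ⟨fun f => ⟨⟨⟨_, cokIsColimit f⟩⟩⟩⟩

instance : HasCoequalizers (FP A) := Preadditive.hasCoequalizers_of_hasCokernels

instance : HasFiniteCoproducts (FP A) := hasFiniteCoproducts_of_has_binary_and_initial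

/-! ### the functor `K ⊗_A -` -/

variable {B : Type u'} [Category.{v'} B] [Preadditive B] [HasFiniteBiproducts B] [HasCokernels B]
variable (K : B) [KAct A K]

noncomputable def kt (X : FP A) : KT (A := A) K X.obj :=
  haveI : Module.FinitePresentation A X.obj := X.property
  Classical.choice (exists_KT K X.obj)

noncomputable def Ffun : FP A ⥤ B where
  obj X := (kt K X).T
  map {X Y} g := (kt K X).desc ((kt K Y).u ∘ₗ g.hom.hom)
  map_id X := by
    apply (kt K X).uniq
    intro m
    rw [(kt K X).fac, Category.comp_id]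
    rfl
  map_comp {X Y Z} g h := by
    apply (kt K X).uniq
    intro m
    rw [(kt K X).fac, ← Category.assoc, (kt K X).fac]
    exact ((kt K Y).fac ((kt K Z).u ∘ₗ h.hom.hom) (g.hom.hom m)).symm

theorem u_map {X Y : FP A} (g : X ⟶ Y) (m : X.obj) :
    (kt K X).u m ≫ (Ffun K).map g = (kt K Y).u (g.hom.hom m) := (kt K X).fac _ m

instance : (Ffun (A := A) K).Additive where
  map_add {X Y g g'} := by
    apply (kt K X).uniq
    intro m
    rw [u_map, Preadditive.comp_add, u_map, u_map]
    show (kt K Y).u (g.hom.hom m + g'.hom.hom m) = _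
    rw [map_add]

noncomputable def eIso : (Ffun (A := A) K).obj oA ≅ K := (kt K oA).iso (ktA K)

theorem e_compat (a : A) : (Ffun K).map (hatC oA a) ≫ (eIso K).hom =
    (eIso K).hom ≫ (KAct.κ (A := A) (K := K) a : K ⟶ K) := by
  apply (kt K oA).uniq
  intro m
  rw [← Category.assoc, u_map, ← Category.assoc]
  erw [KT.u_iso_hom, KT.u_iso_hom]
  rw [ktA_u, ktA_u]
  show (KAct.κ (A := A) (K := K) (m * a) : K ⟶ K) = KAct.κ (A := A) (K := K) m ≫ KAct.κ (A := A) (K := K) a
  rw [mul_comm, map_mul, End.mul_def]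

theorem map_cok_w {X Y : FP A} (f : X ⟶ Y) : (Ffun K).map f ≫ (Ffun K).map (cokπ f) = 0 := by
  rw [← Functor.map_comp, cok_w, Functor.map_zero]

noncomputable def mapCokIsColimit {X Y : FP A} (f : X ⟶ Y) :
    IsColimit (CokernelCofork.ofπ ((Ffun K).map (cokπ f)) (map_cok_w K f)) := by
  have hle : ∀ {Z : B} (g' : (Ffun K).obj Y ⟶ Z), (Ffun K).map f ≫ g' = 0 →
      LinearMap.range f.hom.hom ≤ LinearMap.ker ((postL (A := A) K g') ∘ₗ (kt K Y).u) := by
    intro Z g' hg'
    rintro _ ⟨x, rfl⟩
    show (kt K Y).u (f.hom.hom x) ≫ g' = 0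
    rw [← u_map, Category.assoc, hg', comp_zero]
  refine CokernelCofork.IsColimit.ofπ _ _
    (fun {Z} g' hg' => (kt K (cokObj f)).desc
      (Submodule.liftQ _ ((postL (A := A) K g') ∘ₗ (kt K Y).u) (hle g' hg')))
    (fun {Z} g' hg' => ?_) (fun {Z} g' hg' m hm => ?_)
  · apply (kt K Y).uniq
    intro y
    rw [← Category.assoc, u_map, (kt K (cokObj f)).fac]
    rfl
  · apply (kt K (cokObj f)).uniq
    intro q
    obtain ⟨y, rfl⟩ := Submodule.mkQ_surjective _ q
    rw [(kt K (cokObj f)).fac]
    have h1 := u_map K (cokπ f) y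
    have h2 : (kt K (cokObj f)).u ((LinearMap.range f.hom.hom).mkQ y) ≫ m =
        (kt K Y).u y ≫ g' := by
      rw [← hm, ← Category.assoc, h1]
      rfl
    rw [h2]
    rfl

instance {X Y : FP A} (f : X ⟶ Y) : PreservesColimit (parallelPair f 0) (Ffun (A := A) K) :=
  preservesColimit_of_preserves_colimit_cocone (cokIsColimit f)
    ((CokernelCofork.isColimitMapCoconeEquiv _ _).symm (mapCokIsColimit K f))

instance : PreservesFiniteColimits (Ffun (A := A) K) :=
  Functor.preservesFiniteColimits_of_preservesCokernels _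

end Groth.Agent.Helper6.FpFun3
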