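import Mathlib
import Groth.Prelude.Def_FibCat2
import Groth.Agent.Helper3.EquivOver
import Groth.Agent.Helper3.Fp
import Groth.Agent.Helper6.FpTools
import Groth.Agent.Helper6.FpPaste

/-!
# Helper6: for a fully faithful `i`, the square of diagonals of `g ∘ i` and `g` is 2-cartesian
-/

set_option autoImplicit false
set_option linter.style.haveILetI false
universe v₇ u₇ v₆ u₆ v₅ u₅ v₄ u₄ v₃ u₃ v₂ u₂ v u

namespace Groth.Agent.Helper6.FpTools
open CategoryTheory Functor FibCat Limits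
open Groth.Agent.Helper3

variable {C : Type u} [Category.{v} C]

section MonoSq

variable {𝒳 : BasedCategory.{v₂, u₂} C} {𝒳' : BasedCategory.{v₃, u₃} C} {𝒴 : BasedCategory.{v₄, u₄} C}
  (i : 𝒳 ⥤ᵇ 𝒳') (g : 𝒳' ⥤ᵇ 𝒴)

/-- `𝒳 ×_𝒴 𝒳 ⟶ 𝒳' ×_𝒴 𝒳'`. -/
abbrev sqF : fp (BasedFunctor.comp i g) (BasedFunctor.comp i g) ⥤ᵇ fp g g :=
  fpLift (BasedFunctor.comp (fpFst (BasedFunctor.comp i g) (BasedFunctor.comp i g)) i)
    (BasedFunctor.comp (fpSnd (BasedFunctor.comp i g) (BasedFunctor.comp i g)) i)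
    (fpIso (BasedFunctor.comp i g) (BasedFunctor.comp i g))

/-- The comparison functor `𝒳 ⟶ (𝒳 ×_𝒴 𝒳) ×_{𝒳' ×_𝒴 𝒳'} 𝒳'`. -/
abbrev sqΛ : 𝒳 ⥤ᵇ fp (sqF i g) (diag g) :=
  fpLift (F := sqF i g) (G := diag g) (diag (BasedFunctor.comp i g)) i (Iso.refl _)

theorem sqΛ_faithful : (sqΛ i g).toFunctor.Faithful := by
  refine ⟨fun {x y} φ ψ h => ?_⟩
  exact congrArg (fun t => t.hom.fst.hom.fst) h

theorem sqΛ_full [i.toFunctor.Faithful] : (sqΛ i g).toFunctor.Full := by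
  refine ⟨fun {x y} t => ?_⟩
  let a₁ : x ⟶ y := t.hom.fst.hom.fst
  let a₂ : x ⟶ y := t.hom.fst.hom.snd
  let b : i.obj x ⟶ i.obj y := t.hom.snd
  have hw := t.hom.w
  have h1 : i.map a₁ ≫ 𝟙 (i.obj y) = 𝟙 (i.obj x) ≫ b := congrArg (fun s => s.hom.fst) hw
  have h2 : i.map a₂ ≫ 𝟙 (i.obj y) = 𝟙 (i.obj x) ≫ b := congrArg (fun s => s.hom.snd) hw
  rw [Category.comp_id, Category.id_comp] at h1 h2
  have h3 : a₁ = a₂ := i.toFunctor.map_injective (h1.trans h2.symm)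
  refine ⟨a₁, ?_⟩
  apply fp_hom_ext
  · apply fp_hom_ext
    · rfl
    · exact h3
  · exact h1

theorem sqΛ_essSurj [i.toFunctor.Full] [i.toFunctor.Faithful] (z : (fp (sqF i g) (diag g)).obj) :
    ∃ (x : 𝒳.obj) (e : (sqΛ i g).obj x ≅ z),
      (fp (sqF i g) (diag g)).p.IsHomLift (𝟙 ((fp (sqF i g) (diag g)).p.obj z)) e.hom := by
  let w : (fp (BasedFunctor.comp i g) (BasedFunctor.comp i g)).obj := z.obj.fst
  let x₁ : 𝒳.obj := w.obj.fst
  let x₂ : 𝒳.obj := w.obj.snd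
  let α : g.obj (i.obj x₁) ≅ g.obj (i.obj x₂) := w.obj.iso
  let x' : 𝒳'.obj := z.obj.snd
  let β : (sqF i g).obj w ≅ (diag g).obj x' := z.obj.iso
  let β₁ : i.obj x₁ ≅ x' := ⟨β.hom.hom.fst, β.inv.hom.fst,
    congrArg (fun s => s.hom.fst) β.hom_inv_id, congrArg (fun s => s.hom.fst) β.inv_hom_id⟩
  let β₂ : i.obj x₂ ≅ x' := ⟨β.hom.hom.snd, β.inv.hom.snd,
    congrArg (fun s => s.hom.snd) β.hom_inv_id, congrArg (fun s => s.hom.snd) β.inv_hom_id⟩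
  have hβ : g.map β₁.hom ≫ 𝟙 (g.obj x') = α.hom ≫ g.map β₂.hom := β.hom.hom.w
  rw [Category.comp_id] at hβ
  -- the isomorphism `γ : x₁ ≅ x₂`
  let γ : x₁ ≅ x₂ := i.toFunctor.preimageIso (β₁ ≪≫ β₂.symm)
  have hγ : i.map γ.hom = β₁.hom ≫ β₂.inv := i.toFunctor.map_preimage _
  have hα : α.hom = g.map (i.map γ.hom) := by
    rw [hγ]
    change α.hom = g.toFunctor.map (β₁.hom ≫ β₂.inv)
    rw [Functor.map_comp]
    change α.hom = g.map β₁.hom ≫ g.map β₂.inv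
    rw [hβ, Category.assoc]
    have : g.map β₂.hom ≫ g.map β₂.inv = 𝟙 _ := by
      change g.toFunctor.map β₂.hom ≫ g.toFunctor.map β₂.inv = 𝟙 _
      rw [← Functor.map_comp, β₂.hom_inv_id]
      exact g.toFunctor.map_id _
    rw [this, Category.comp_id]
  -- the first component of the isomorphism
  let e₁ : (diag (BasedFunctor.comp i g)).obj x₁ ≅ w :=
    fpMkIso (x := (diag (BasedFunctor.comp i g)).obj x₁) (z := w) (Iso.refl x₁) γ (by
      change (BasedFunctor.comp i g).map (𝟙 x₁) ≫ α.hom = 𝟙 _ ≫ g.map (i.map γ.hom)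
      rw [Category.id_comp, ← hα]
      have : (BasedFunctor.comp i g).map (𝟙 x₁) = 𝟙 _ := (BasedFunctor.comp i g).toFunctor.map_id _
      rw [this]
      exact Category.id_comp _)
  refine ⟨x₁, fpMkIso (x := (sqΛ i g).obj x₁) (z := z) e₁ β₁ ?_, ?_⟩
  · apply fp_hom_ext
    · change i.map (𝟙 x₁) ≫ β₁.hom = 𝟙 _ ≫ β₁.hom
      have : i.map (𝟙 x₁) = 𝟙 _ := i.toFunctor.map_id _
      rw [this]
    · change i.map γ.hom ≫ β₂.hom = 𝟙 _ ≫ β₁.hom
      rw [hγ, Category.assoc, Iso.inv_hom_id, Category.comp_id, Category.id_comp]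
  · apply fpMkIso_lift
    apply fpMkIso_lift
    exact IsHomLift.id rfl

/-- For `i` full and faithful, the square of the diagonals of `g ∘ i` and of `g` is 2-cartesian. -/
theorem isEquivOver_sqΛ [i.toFunctor.Full] [i.toFunctor.Faithful] : IsEquivOver (sqΛ i g) := by
  rw [isEquivOver_iff]
  exact ⟨sqΛ_full i g, sqΛ_faithful i g, sqΛ_essSurj i g⟩

end MonoSq

end Groth.Agent.Helper6.FpTools
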