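import Mathlib
import Groth.Agent.Helper6.FppfSm1

/-!
# Helper6: étaleness descends along faithfully flat finitely presented ring maps on the source
-/

set_option autoImplicit false
universe u
open TensorProduct Polynomial

namespace Groth.Agent.Helper6.FppfEt1

/-- an algebra all of whose elements are roots of separable polynomials is formally unramified -/
theorem formallyUnramified_of_forall_separable (k C : Type u) [CommRing k] [CommRing C]
    [Algebra k C] (H : ∀ x : C, ∃ g : k[X], g.Separable ∧ aeval x g = 0) :
    Algebra.FormallyUnramified k C := by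
  rw [Algebra.FormallyUnramified.iff_comp_injective]
  intro B _ _ I hI f₁ f₂ e
  ext x
  obtain ⟨g, hg, hgx⟩ := H x
  have hmem : f₁ x - f₂ x ∈ I := by
    simpa [Ideal.Quotient.mk_eq_mk_iff_sub_mem] using AlgHom.congr_fun e x
  have h1 := Polynomial.eval_add_of_sq_eq_zero (g.map (algebraMap k B)) (f₂ x)
    (f₁ x - f₂ x) (show (f₁ x - f₂ x) ^ 2 ∈ ⊥ from hI ▸ Ideal.pow_mem_pow hmem 2)
  simp only [add_sub_cancel, eval_map_algebraMap, aeval_algHom_apply, hgx, map_zero,
    derivative_map, zero_add] at h1
  obtain ⟨a, b, hab⟩ := hg
  have hu : IsUnit (aeval x (derivative g)) := by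
    have h2 := congrArg (aeval x) hab
    rw [map_add, map_mul, map_mul, hgx, mul_zero, zero_add, map_one] at h2
    exact IsUnit.of_mul_eq_one _ (by rw [mul_comm]; exact h2)
  rwa [eq_comm, (hu.map f₂).mul_right_eq_zero, sub_eq_zero] at h1


/-- every element of an étale algebra over a separably closed field is a root of a separable
polynomial -/
theorem exists_separable_of_etale_sepClosed (T A' : Type u) [Field T] [IsSepClosed T]
    [CommRing A'] [Algebra T A'] [Algebra.Etale T A'] (y : A') :
    ∃ g : T[X], g.Separable ∧ aeval y g = 0 := by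
  classical
  haveI : Algebra.FormallyEtale T A' := inferInstance
  haveI : Module.Finite T A' := Algebra.FormallyUnramified.finite_of_free T A'
  haveI : IsArtinianRing A' := isArtinian_of_tower T inferInstance
  haveI : Fintype (PrimeSpectrum A') := Fintype.ofFinite _
  let e : A' →ₐ[T] (PrimeSpectrum A' → T) :=
    (Algebra.FormallyEtale.equivPiOfIsSepClosed T A').toAlgHom
  have he : Function.Injective e := (Algebra.FormallyEtale.equivPiOfIsSepClosed T A').injective
  let v : PrimeSpectrum A' → T := e y
  let s : Finset T := Finset.univ.image v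
  refine ⟨∏ c ∈ s, (X - C c), ?_, ?_⟩
  · rw [separable_prod_X_sub_C_iff' (f := fun c : T => c)]
    intro a _ b _ h
    exact h
  · apply he
    rw [map_zero, ← aeval_algHom_apply]
    funext p
    have h1 := aeval_algHom_apply (Pi.evalAlgHom T (fun _ : PrimeSpectrum A' => T) p) (e y)
      (∏ c ∈ s, (X - C c))
    show (Pi.evalAlgHom T (fun _ : PrimeSpectrum A' => T) p) (aeval (e y) (∏ c ∈ s, (X - C c))) = 0
    rw [← h1]
    show aeval (v p) (∏ c ∈ s, (X - C c)) = 0
    rw [map_prod]
    apply Finset.prod_eq_zero (Finset.mem_image_of_mem v (Finset.mem_univ p))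
    simp

/-- a subalgebra (more generally, an algebra injecting into) an étale algebra over a separably
closed field is formally unramified -/
theorem formallyUnramified_of_injective_etale_sepClosed (T A A' : Type u) [Field T]
    [IsSepClosed T] [CommRing A] [CommRing A'] [Algebra T A] [Algebra T A'] [Algebra.Etale T A']
    (ι : A →ₐ[T] A') (hι : Function.Injective ι) : Algebra.FormallyUnramified T A := by
  apply formallyUnramified_of_forall_separable
  intro x
  obtain ⟨g, hg, hgx⟩ := exists_separable_of_etale_sepClosed T A' (ι x)
  refine ⟨g, hg, hι ?_⟩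
  rw [map_zero, ← aeval_algHom_apply, hgx]


attribute [local instance] Algebra.TensorProduct.rightAlgebra

set_option synthInstance.maxHeartbeats 400000 in
set_option maxHeartbeats 1000000 in
/-- Étaleness descends along a faithfully flat finitely presented map on the source side. -/
theorem etale_of_flat_faithfullyFlat (R B B' : Type u) [CommRing R] [CommRing B]
    [CommRing B'] [Algebra R B] [Algebra B B'] [Algebra R B'] [IsScalarTower R B B']
    [Algebra.FinitePresentation B B'] [Module.FaithfullyFlat B B'] [Algebra.Etale R B'] :
    Algebra.Etale R B := by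
  haveI : Algebra.Smooth R B' := inferInstance
  haveI : Algebra.Smooth R B :=
    Groth.Agent.Helper6.FppfSm1.smooth_of_flat_faithfullyFlat R B B'
  haveI : Algebra.FinitePresentation R B := inferInstance
  haveI : Module.Flat R B := Algebra.Smooth.flat R B
  suffices h : Algebra.FormallyUnramified R B from Algebra.Etale.of_formallyUnramified_of_flat
  rw [Algebra.formallyUnramified_iff, ← Module.support_eq_empty_iff (R := B),
    Set.eq_empty_iff_forall_notMem]
  intro q hq
  rw [Module.mem_support_iff_nontrivial_residueField_tensorProduct] at hq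
  let T := AlgebraicClosure q.asIdeal.ResidueField
  haveI : IsScalarTower B q.asIdeal.ResidueField T := inferInstance
  haveI : IsScalarTower R B T := inferInstance
  -- the geometric fibre
  let φ : T ⊗[R] B →ₐ[T] T ⊗[R] B' :=
    Algebra.TensorProduct.map (AlgHom.id T T) (IsScalarTower.toAlgHom R B B')
  have hφ : Function.Injective φ :=
    (Groth.Agent.Helper6.FppfSm1.faithfullyFlat_tensor_map R T B B').injective
  haveI : Algebra.Etale T (T ⊗[R] B') := inferInstance
  haveI hun : Algebra.FormallyUnramified T (T ⊗[R] B) :=
    formallyUnramified_of_injective_etale_sepClosed T (T ⊗[R] B) (T ⊗[R] B') φ hφ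
  have h5 : Subsingleton (T ⊗[R] Ω[B⁄R]) :=
    (KaehlerDifferential.tensorKaehlerEquivBase R T B (T ⊗[R] B)).subsingleton
  have h6 : Subsingleton (T ⊗[B] Ω[B⁄R]) :=
    (TensorProduct.mapOfCompatibleSMul_surjective B R T T (Ω[B⁄R])).subsingleton
  have h7 : Subsingleton (q.asIdeal.ResidueField ⊗[B] Ω[B⁄R]) := by
    haveI : Subsingleton (T ⊗[q.asIdeal.ResidueField] (q.asIdeal.ResidueField ⊗[B] Ω[B⁄R])) :=
      (TensorProduct.AlgebraTensorModule.cancelBaseChange B q.asIdeal.ResidueField T T
        (Ω[B⁄R])).subsingleton
    exact Module.FaithfullyFlat.lTensor_reflects_triviality q.asIdeal.ResidueField T _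
  exact not_subsingleton _ h7

end Groth.Agent.Helper6.FppfEt1
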