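import Groth.Agent.Helper6.LfpST
import Groth.Agent.Helper6.FppfSD2
import Mathlib

/-!
# Helper6: `LocP @LocallyOfFiniteType` and `LocP @LocallyOfFinitePresentation` are fppf local on
the source (algebraic spaces)
-/

set_option autoImplicit false
universe u
open CategoryTheory CategoryTheory.Limits AlgebraicGeometry Opposite

namespace Groth.Agent.Helper6.FppfSD3

open AlgSp Groth.Agent.Helper4.SDClasses Groth.Agent.Helper5.FpqcRef
open Groth.Agent.Helper4.AlgSpPtsDesc Groth.Agent.Helper6.DiagLft Groth.Agent.Helper6.FlatST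
open Groth.Agent.Helper6.LftST

variable {S : Scheme.{u}}

theorem lfp_le_lft : (AlgSp.LocP @LocallyOfFinitePresentation : MorphismProperty (AlgSp.Sp S)) ≤
    AlgSp.LocP @LocallyOfFiniteType :=
  fun X Y f hf => Groth.Agent.Helper5.SrcEt.locP_mono
    (fun g hg => by have : LocallyOfFinitePresentation g := hg; infer_instance) f hf

set_option backward.isDefEq.respectTransparency.types false in
/-- an fppf chart of the base change of a flat lfp morphism through a given point -/
theorem exists_fppf_chart {X Y : Sp S} (hX : IsAlgSpace X) (hY : IsAlgSpace Y) (f : Y ⟶ X)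
    (hf1 : LocP @Flat f) (hf2 : LocP @LocallyOfFinitePresentation f)
    (Z : Over S) (h : (yon S).obj Z ⟶ X) (z : ↥Z.left) (y : Points Y)
    (hy : Points.map f y = Points.map h (Points.schemeHomeo Z z)) :
    ∃ (V : Over S) (c : V ⟶ Z) (l : (yon S).obj V ⟶ Y) (v : ↥V.left),
      Flat c.left ∧ LocallyOfFinitePresentation c.left ∧ c.left v = z ∧
      l ≫ f = (yon S).map c ≫ h ∧ (RepWith @Etale h → RepWith @Etale l) := by
  have sq : IsPullback (pullback.fst f h) (pullback.snd f h) f h := IsPullback.of_hasPullback _ _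
  have hF : IsAlgSpace (pullback f h) :=
    Groth.Agent.Helper4.AlgSpPB.isAlgSpace_of_isPullback hX.diag hY (IsAlgSpace.yon_obj Z)
      f h _ _ sq
  obtain ⟨w, hw1, hw2⟩ := exists_point_of_isPullback sq y _ hy
  obtain ⟨A, a, hae, has⟩ := hF.atlas
  obtain ⟨r, hr⟩ := Groth.Agent.Helper4.AlgSpPts.isSurjectiveMor_of_repWith a has w
  obtain ⟨v, rfl⟩ := (Points.schemeHomeo A).surjective r
  obtain ⟨c, hc⟩ := (yon S).map_surjective (a ≫ pullback.snd f h)
  have hide : RepWith @Etale (𝟙 ((yon S).obj Z)) := repWith_id _ _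
  have hcomm : a ≫ pullback.snd f h = (yon S).map c ≫ 𝟙 _ := by
    rw [hc, Category.comp_id]
  have hG1 : Good (@Flat : MorphismProperty Scheme.{u}) := good_flat
  have hG2 : Good (@LocallyOfFinitePresentation : MorphismProperty Scheme.{u}) := good_lfp
  have hs1 : LocP @Flat (pullback.snd f h) := by
    have := hG1.bc
    have := hG1.comp
    exact Groth.Agent.Helper4.AlgSpLocPBC.locP_of_isPullback @Flat hG1.etale_le hG1.sd hY hX
      f h _ _ sq hf1
  have hs2 : LocP @LocallyOfFinitePresentation (pullback.snd f h) := by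
    have := hG2.bc
    have := hG2.comp
    exact Groth.Agent.Helper4.AlgSpLocPBC.locP_of_isPullback @LocallyOfFinitePresentation
      hG2.etale_le hG2.sd hY hX f h _ _ sq hf2
  refine ⟨A, c, a ≫ pullback.fst f h, v, hs1 _ _ c hae hide hcomm, hs2 _ _ c hae hide hcomm,
    ?_, ?_, fun hh => ?_⟩
  · apply (Points.schemeHomeo Z).injective
    rw [← Points.map_yon_map_apply, hc, Points.map_comp, hr, hw2]
  · rw [Category.assoc, sq.w, ← Category.assoc, hc]
  · have i1 := repWith_isStableUnderBaseChange (S := S) @Etale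
    have hfst : RepWith @Etale (pullback.fst f h) := MorphismProperty.of_isPullback sq.flip hh
    exact Groth.Agent.Helper4.AlgSpSrc.repWith_comp _ hae hfst

set_option backward.isDefEq.respectTransparency.types false in
/-- S10550 -/
theorem isLocalOnSource_fppf_locP_lft :
    IsLocalOnSource (IsFppfCover (S := S)) (LocP @LocallyOfFiniteType) := by
  intro ι X Xi g hX hXi hcov Y f hY
  constructor
  · intro hf i
    exact Groth.Agent.Helper4.AlgSpLocPComp.locP_comp @LocallyOfFiniteType good_lft hX (g i) f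
      (lfp_le_lft _ (hcov.1 i).2) hf
  · intro hgf U V a b k hae hbe hcomm
    refine Groth.Agent.Helper6.FppfSD2.lft_of_family k.left fun u => ?_
    obtain ⟨i, xi, hxi⟩ := hcov.2 (Points.map a (Points.schemeHomeo U u))
    obtain ⟨A, e, l, v, hef, hefp, hev, hl, hle⟩ :=
      exists_fppf_chart hX (hXi i) (g i) (hcov.1 i).1 (hcov.1 i).2 U a u xi hxi
    refine ⟨A.left, e.left, v, hef, hefp, hev, ?_⟩
    have : l ≫ (g i ≫ f) = (yon S).map (e ≫ k) ≫ b := by
      rw [← Category.assoc, hl, Category.assoc, hcomm, Functor.map_comp, Category.assoc]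
    exact hgf i l b (e ≫ k) (hle hae) hbe this

set_option backward.isDefEq.respectTransparency.types false in
/-- S10549 -/
theorem isLocalOnSource_fppf_locP_lfp :
    IsLocalOnSource (IsFppfCover (S := S)) (LocP @LocallyOfFinitePresentation) := by
  intro ι X Xi g hX hXi hcov Y f hY
  constructor
  · intro hf i
    exact Groth.Agent.Helper4.AlgSpLocPComp.locP_comp @LocallyOfFinitePresentation good_lfp hX
      (g i) f (hcov.1 i).2 hf
  · intro hgf U V a b k hae hbe hcomm
    refine Groth.Agent.Helper6.FppfSD2.lfp_of_family k.left fun u => ?_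
    obtain ⟨i, xi, hxi⟩ := hcov.2 (Points.map a (Points.schemeHomeo U u))
    obtain ⟨A, e, l, v, hef, hefp, hev, hl, hle⟩ :=
      exists_fppf_chart hX (hXi i) (g i) (hcov.1 i).1 (hcov.1 i).2 U a u xi hxi
    refine ⟨A.left, e.left, v, hef, hefp, hev, ?_⟩
    have : l ≫ (g i ≫ f) = (yon S).map (e ≫ k) ≫ b := by
      rw [← Category.assoc, hl, Category.assoc, hcomm, Functor.map_comp, Category.assoc]
    exact hgf i l b (e ≫ k) (hle hae) hbe this

/-- a surjective flat lfp morphism is an fppf covering -/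
theorem isFppfCover_single {X Y : Sp S} (f : X ⟶ Y) (hs : IsSurjectiveMor f)
    (hfl : LocP @Flat f) (hfp : LocP @LocallyOfFinitePresentation f) :
    IsFppfCover (fun _ : PUnit.{u + 1} => X) (fun _ => f) :=
  ⟨fun _ => ⟨hfl, hfp⟩, fun y => ⟨PUnit.unit, hs y⟩⟩

/-- S10558 -/
theorem locP_of_fppf_comp {X Y B : Sp S} (hX : IsAlgSpace X) (hY : IsAlgSpace Y)
    (hB : IsAlgSpace B) (f : X ⟶ Y) (q : Y ⟶ B)
    (hs : IsSurjectiveMor f) (hfl : LocP @Flat f) (hfp : LocP @LocallyOfFinitePresentation f) :
    (LocP @LocallyOfFinitePresentation (f ≫ q) → LocP @LocallyOfFinitePresentation q) ∧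
    (LocP @LocallyOfFiniteType (f ≫ q) → LocP @LocallyOfFiniteType q) := by
  have hcov := isFppfCover_single f hs hfl hfp
  constructor
  · intro h
    exact (isLocalOnSource_fppf_locP_lfp (fun _ : PUnit.{u + 1} => X) (fun _ => f) hY
      (fun _ => hX) hcov q hB).2 (fun _ => h)
  · intro h
    exact (isLocalOnSource_fppf_locP_lft (fun _ : PUnit.{u + 1} => X) (fun _ => f) hY
      (fun _ => hX) hcov q hB).2 (fun _ => h)

end Groth.Agent.Helper6.FppfSD3
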