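import Mathlib
import Groth.Agent.Helper6.FppfEt1
import Groth.Agent.Helper6.FppfSm2
import Groth.Agent.Helper6.FppfSD3
import Groth.Agent.Helper5.AlgSpEt2

/-!
# Helper6: étaleness descends along fppf surjections on the source (schemes, algebraic spaces)
-/

set_option autoImplicit false
universe u
open TensorProduct AlgebraicGeometry CategoryTheory CategoryTheory.Limits

namespace Groth.Agent.Helper6.FppfEt2

/-- Ring-hom form of étale descent. -/
theorem ringHom_etale_of_comp {R B B' : Type u} [CommRing R] [CommRing B] [CommRing B']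
    (f : R →+* B) (g : B →+* B') (hg : g.FinitePresentation) (hgf : g.FaithfullyFlat)
    (h : (g.comp f).Etale) : f.Etale := by
  algebraize [f, g, g.comp f]
  exact Groth.Agent.Helper6.FppfEt1.etale_of_flat_faithfullyFlat R B B'

/-- Étaleness descends along fppf surjections on the source. -/
theorem etale_of_comp_fppf {A B C : Scheme.{u}} (e : A ⟶ B) (h : B ⟶ C)
    [Flat e] [LocallyOfFinitePresentation e] [Surjective e] [Etale (e ≫ h)] :
    Etale h := by
  have : MorphismProperty.RespectsRight @Etale @IsOpenImmersion :=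
    ⟨fun i hi f hf => by
      have : IsOpenImmersion i := hi
      have : Etale f := hf
      show Etale (f ≫ i)
      infer_instance⟩
  exact Groth.Agent.Helper6.FppfSD2.sd_of_ringHom @Etale
    (fun f g hg hgf h => ringHom_etale_of_comp f g hg hgf h) e h inferInstance

set_option backward.isDefEq.respectTransparency.types false in
/-- étaleness can be checked after precomposing with a jointly surjective family of
flat locally finitely presented maps -/
theorem etale_of_family {U V : Scheme.{u}} (k : U ⟶ V)
    (H : ∀ u : U, ∃ (A : Scheme.{u}) (e : A ⟶ U) (a : A), Flat e ∧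
      LocallyOfFinitePresentation e ∧ e a = u ∧ Etale (e ≫ k)) :
    Etale k := by
  choose A e a he hefp hea hek using H
  haveI : ∀ u, Flat (e u) := he
  haveI : ∀ u, LocallyOfFinitePresentation (e u) := hefp
  haveI : ∀ u, Etale (e u ≫ k) := hek
  haveI : Flat (Sigma.desc e) :=
    IsZariskiLocalAtSource.sigmaDesc (P := @Flat) (fun u => inferInstance)
  haveI : LocallyOfFinitePresentation (Sigma.desc e) :=
    IsZariskiLocalAtSource.sigmaDesc (P := @LocallyOfFinitePresentation) (fun u => inferInstance)
  haveI : Surjective (Sigma.desc e) := by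
    refine ⟨fun u => ⟨(Sigma.ι A u) (a u), ?_⟩⟩
    rw [← Scheme.Hom.comp_apply, Sigma.ι_desc]
    exact hea u
  haveI : Etale (Sigma.desc e ≫ k) := by
    have h1 : Sigma.desc e ≫ k = Sigma.desc (fun u => e u ≫ k) := by
      apply Sigma.hom_ext
      intro u
      rw [Sigma.ι_desc_assoc, Sigma.ι_desc]
    rw [h1]
    exact IsZariskiLocalAtSource.sigmaDesc (P := @Etale) (fun u => inferInstance)
  exact etale_of_comp_fppf (Sigma.desc e) k

open AlgSp Groth.Agent.Helper6.FppfSD3

variable {S : Scheme.{u}}

set_option backward.isDefEq.respectTransparency.types false in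
/-- `LocP P` descends along fppf surjections on the source, for `P` descending along fppf
families of schemes -/
theorem locP_of_comp_fppf (P : MorphismProperty Scheme.{u})
    (hfam : ∀ {U V : Scheme.{u}} (k : U ⟶ V),
      (∀ u : U, ∃ (A : Scheme.{u}) (e : A ⟶ U) (a : A), Flat e ∧
        LocallyOfFinitePresentation e ∧ e a = u ∧ P (e ≫ k)) → P k)
    {X Y B : Sp S} (hX : IsAlgSpace X) (hY : IsAlgSpace Y) (f : X ⟶ Y) (q : Y ⟶ B)
    (hs : IsSurjectiveMor f) (hfl : LocP @Flat f) (hfp : LocP @LocallyOfFinitePresentation f)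
    (h : LocP P (f ≫ q)) : LocP P q := by
  intro U V a b k hae hbe hcomm
  refine hfam k.left fun u => ?_
  obtain ⟨xi, hxi⟩ := hs (Points.map a (Points.schemeHomeo U u))
  obtain ⟨A, e, l, v, hef, hefp, hev, hl, hle⟩ :=
    exists_fppf_chart hY hX f hfl hfp U a u xi hxi
  refine ⟨A.left, e.left, v, hef, hefp, hev, ?_⟩
  have : l ≫ (f ≫ q) = (yon S).map (e ≫ k) ≫ b := by
    rw [← Category.assoc, hl, Category.assoc, hcomm, Functor.map_comp, Category.assoc]
  exact h l b (e ≫ k) (hle hae) hbe this

/-- S10560 -/
theorem smooth_etale_of_fppf_comp {X Y B : Sp S} (hX : IsAlgSpace X) (hY : IsAlgSpace Y)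
    (hB : IsAlgSpace B) (f : X ⟶ Y) (q : Y ⟶ B)
    (hs : IsSurjectiveMor f) (hfl : LocP @Flat f) (hfp : LocP @LocallyOfFinitePresentation f) :
    (LocP @Smooth (f ≫ q) → LocP @Smooth q) ∧ (IsEtaleMor (f ≫ q) → IsEtaleMor q) := by
  constructor
  · intro h
    exact locP_of_comp_fppf @Smooth
      (fun k H => Groth.Agent.Helper6.FppfSm2.smooth_of_family k H) hX hY f q hs hfl hfp h
  · intro h
    apply Groth.Agent.Helper5.AlgSpEt.isEtaleMor_of_locP_etale hY hB
    exact locP_of_comp_fppf @Etale (fun k H => etale_of_family k H) hX hY f q hs hfl hfp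
      (Groth.Agent.Helper5.AlgSpEt.locP_etale_of_isEtaleMor _ h)

end Groth.Agent.Helper6.FppfEt2
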