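import Mathlib
import Groth.Prelude.Def_W4bk4goldsch45
import Groth.Agent.Helper5.FGExist
import Groth.Agent.Helper5.FFExpand
import Groth.Agent.Helper5.FGBasic
import Groth.Agent.Helper6.FFZeta1

set_option backward.isDefEq.respectTransparency false
set_option backward.isDefEq.respectTransparency.types false
set_option autoImplicit false
set_option linter.style.haveILetI false

open FunFld Polynomial TensorProduct

namespace Groth.Agent.Helper6.FrobPlace

open Groth.Agent.Helper5

/-- the fixed points of the `q`-power map in an extension of a finite field `F` with `q`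
elements are the elements of `F` -/
theorem mem_range_of_pow_card_eq {F L : Type*} [Field F] [Finite F] [Field L] (f : F →+* L)
    (c : L) (hc : c ^ Nat.card F = c) : c ∈ Set.range f := by
  classical
  haveI := Fintype.ofFinite F
  obtain ⟨N, hN⟩ : ∃ N, N = Fintype.card F := ⟨_, rfl⟩
  have hN1 : 1 < N := hN ▸ Fintype.one_lt_card
  have hne : (X ^ N - X : L[X]) ≠ 0 := FiniteField.X_pow_card_sub_X_ne_zero L hN1
  have key : Finset.univ.image f = (X ^ N - X : L[X]).roots.toFinset := by
    apply Finset.eq_of_subset_of_card_le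
    · intro y hy
      obtain ⟨a, -, rfl⟩ := Finset.mem_image.mp hy
      rw [Multiset.mem_toFinset, mem_roots hne, IsRoot.def, eval_sub, eval_pow, eval_X,
        ← map_pow, hN, FiniteField.pow_card, sub_self]
    · rw [Finset.card_image_of_injective _ f.injective, Finset.card_univ, ← hN]
      calc (X ^ N - X : L[X]).roots.toFinset.card ≤ Multiset.card (X ^ N - X : L[X]).roots :=
            Multiset.toFinset_card_le _
        _ ≤ (X ^ N - X : L[X]).natDegree := Polynomial.card_roots' _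
        _ = N := FiniteField.X_pow_card_sub_X_natDegree_eq L hN1
  have : c ∈ (X ^ N - X : L[X]).roots.toFinset := by
    rw [Multiset.mem_toFinset, mem_roots hne, IsRoot.def, eval_sub, eval_pow, eval_X, hN,
      ← Nat.card_eq_fintype_card, hc, sub_self]
  rw [← key] at this
  obtain ⟨a, -, ha⟩ := Finset.mem_image.mp this
  exact ⟨a, ha⟩

theorem exists_root_close {kb Kb : Type*} [Field kb] [IsAlgClosed kb] [Field Kb] [Algebra kb Kb]
    (v : Valuation Kb (WithZero (Multiplicative ℤ))) (g : kb[X]) (hg : g.Monic) (z : Kb)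
    (h : v (aeval z g) < 1) : ∃ c : kb, v (z - algebraMap kb Kb c) < 1 := by
  have hs := IsAlgClosed.splits g
  have h1 : aeval z g = (g.roots.map (fun c => z - algebraMap kb Kb c)).prod := by
    conv_lhs => rw [hs.eq_prod_roots_of_monic hg]
    rw [map_multiset_prod, Multiset.map_map]
    congr 1
    apply Multiset.map_congr rfl
    intro c _
    simp
  by_contra hcon
  push Not at hcon
  rw [h1, map_multiset_prod, Multiset.map_map] at h
  have : 1 ≤ (g.roots.map (⇑v ∘ fun c => z - algebraMap kb Kb c)).prod := by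
    apply Multiset.one_le_prod_of_one_le
    intro y hy
    obtain ⟨c, -, rfl⟩ := Multiset.mem_map.mp hy
    exact hcon c
  exact absurd h (not_lt.mpr this)

section
variable {k K kb Kb : Type*} [Field k] [Field K] [Algebra k K] [Field kb] [Algebra k kb]
  [Field Kb] [Algebra K Kb] [Algebra kb Kb]

theorem const_val_one (Q : Place kb Kb) {c : kb} (hc0 : c ≠ 0) :
    Q.1 (algebraMap kb Kb c) = 1 := by
  apply le_antisymm (Q.2.1 c)
  have h1 := Q.2.1 c⁻¹
  rw [map_inv₀, map_inv₀] at h1
  have hne : algebraMap kb Kb c ≠ 0 := by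
    intro h
    exact hc0 ((map_eq_zero (algebraMap kb Kb)).mp h)
  have hpos : 0 < Q.1 (algebraMap kb Kb c) := zero_lt_iff.mpr ((Valuation.ne_zero_iff _).mpr hne)
  exact (inv_le_one₀ hpos).mp h1

theorem exists_repr
    (hc : ∀ c : k, algebraMap K Kb (algebraMap k K c) = algebraMap kb Kb (algebraMap k kb c))
    (hgen : Algebra.adjoin K (Set.range (algebraMap kb Kb)) = ⊤)
    {ι : Type*} (ℬ : Module.Basis ι k kb) (z : Kb) :
    ∃ c : ι →₀ K, z = c.sum fun i y => algebraMap kb Kb (ℬ i) * algebraMap K Kb y := by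
  letI : Algebra k Kb := ((algebraMap K Kb).comp (algebraMap k K)).toAlgebra
  haveI : IsScalarTower k K Kb := IsScalarTower.of_algebraMap_eq fun _ => rfl
  haveI : IsScalarTower k kb Kb := IsScalarTower.of_algebraMap_eq fun c => hc c
  have hsurj : Function.Surjective (Algebra.TensorProduct.productMap
      (IsScalarTower.toAlgHom k kb Kb) (IsScalarTower.toAlgHom k K Kb)) := by
    intro y
    have hy : y ∈ Algebra.adjoin K (Set.range (algebraMap kb Kb)) := by
      rw [hgen]
      exact Algebra.mem_top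
    induction hy using Algebra.adjoin_induction with
    | mem y hy =>
      obtain ⟨c, rfl⟩ := hy
      exact ⟨c ⊗ₜ 1, by simp⟩
    | algebraMap x => exact ⟨1 ⊗ₜ x, by simp⟩
    | add x y _ _ hx hy =>
      obtain ⟨a, rfl⟩ := hx
      obtain ⟨b, rfl⟩ := hy
      exact ⟨a + b, map_add _ _ _⟩
    | mul x y _ _ hx hy =>
      obtain ⟨a, rfl⟩ := hx
      obtain ⟨b, rfl⟩ := hy
      exact ⟨a * b, map_mul _ _ _⟩
  obtain ⟨w, rfl⟩ := hsurj z
  obtain ⟨c, rfl⟩ := TensorProduct.eq_repr_basis_left ℬ w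
  refine ⟨c, ?_⟩
  rw [map_finsuppSum]
  apply Finsupp.sum_congr
  intro i _
  simp

/-- the key computation at a rational place -/
theorem val_sum_eq_one
    (hc : ∀ c : k, algebraMap K Kb (algebraMap k K c) = algebraMap kb Kb (algebraMap k kb c))
    (Q : Place kb Kb) (P : Place k K)
    (hP : ∀ x : K, Q.1 (algebraMap K Kb x) ≤ 1 ↔ P.1 x ≤ 1) (hdeg : P.deg = 1)
    {ι : Type*} (ℬ : Module.Basis ι k kb) (s : Finset ι) (u : ι → K) (i0 : ι) (hi0 : i0 ∈ s)
    (hu : ∀ i ∈ s, Q.1 (algebraMap K Kb (u i)) ≤ 1) (hu0 : u i0 = 1) :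
    Q.1 (∑ i ∈ s, algebraMap kb Kb (ℬ i) * algebraMap K Kb (u i)) = 1 := by
  classical
  have hlt : ∀ x : K, P.1 x < 1 → Q.1 (algebraMap K Kb x) < 1 := by
    intro x hx
    by_contra hge
    rw [not_lt] at hge
    have hx0 : x ≠ 0 := by
      rintro rfl
      rw [map_zero, map_zero] at hge
      exact absurd hge (not_le.mpr zero_lt_one)
    have h1 : Q.1 (algebraMap K Kb x⁻¹) ≤ 1 := by
      rw [map_inv₀, map_inv₀]
      exact inv_le_one_of_one_le₀ hge
    have h2 := (hP x⁻¹).mp h1
    rw [map_inv₀] at h2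
    have hpos : 0 < P.1 x := zero_lt_iff.mpr (P.1.ne_zero_iff.mpr hx0)
    have := (inv_le_one₀ hpos).mp h2
    exact absurd hx (not_lt.mpr this)
  let a : ι → k := fun i => Ex.cst P (u i)
  have ha : ∀ i ∈ s, P.1 (u i - algebraMap k K (a i)) < 1 := fun i hi =>
    Ex.cst_spec P hdeg ((hP (u i)).mp (hu i hi))
  have hsplit : ∑ i ∈ s, algebraMap kb Kb (ℬ i) * algebraMap K Kb (u i) =
      algebraMap kb Kb (∑ i ∈ s, a i • ℬ i) +
        ∑ i ∈ s, algebraMap kb Kb (ℬ i) * algebraMap K Kb (u i - algebraMap k K (a i)) := by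
    rw [map_sum, ← Finset.sum_add_distrib]
    apply Finset.sum_congr rfl
    intro i _
    rw [Algebra.smul_def, map_mul, ← hc, map_sub]
    ring
  have hcne : ∑ i ∈ s, a i • ℬ i ≠ 0 := by
    intro h0
    have := linearIndependent_iff'.mp ℬ.linearIndependent s a h0 i0 hi0
    have h1 := ha i0 hi0
    rw [this, hu0, map_zero, sub_zero, map_one] at h1
    exact lt_irrefl _ h1
  have hQc : Q.1 (algebraMap kb Kb (∑ i ∈ s, a i • ℬ i)) = 1 := const_val_one Q hcne
  have hrest : Q.1 (∑ i ∈ s, algebraMap kb Kb (ℬ i) *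
      algebraMap K Kb (u i - algebraMap k K (a i))) < 1 := by
    apply Valuation.map_sum_lt _ one_ne_zero
    intro i hi
    rw [map_mul]
    calc Q.1 (algebraMap kb Kb (ℬ i)) * Q.1 (algebraMap K Kb (u i - algebraMap k K (a i)))
        ≤ 1 * Q.1 (algebraMap K Kb (u i - algebraMap k K (a i))) :=
          mul_le_mul' (Q.2.1 _) le_rfl
      _ = Q.1 (algebraMap K Kb (u i - algebraMap k K (a i))) := one_mul _
      _ < 1 := hlt _ (ha i hi)
  rw [hsplit, Valuation.map_add_eq_of_lt_left, hQc]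
  rw [hQc]
  exact hrest

theorem frob_of_deg_one [Finite k]
    (hc : ∀ c : k, algebraMap K Kb (algebraMap k K c) = algebraMap kb Kb (algebraMap k kb c))
    (hgen : Algebra.adjoin K (Set.range (algebraMap kb Kb)) = ⊤)
    (F : Kb →+* Kb) (hF1 : ∀ c : kb, F (algebraMap kb Kb c) = algebraMap kb Kb c)
    (hF2 : ∀ x : K, F (algebraMap K Kb x) = algebraMap K Kb x ^ Nat.card k)
    (Q : Place kb Kb) (P : Place k K)
    (hP : ∀ x : K, Q.1 (algebraMap K Kb x) ≤ 1 ↔ P.1 x ≤ 1) (hdeg : P.deg = 1) (z : Kb) :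
    Q.1 (F z) < 1 ↔ Q.1 z < 1 := by
  classical
  obtain ⟨q, hq⟩ : ∃ q, q = Nat.card k := ⟨_, rfl⟩
  have hq0 : q ≠ 0 := by
    rw [hq]
    exact Nat.card_pos.ne'
  rw [← hq] at hF2
  obtain ⟨c, rfl⟩ := exists_repr hc hgen (Module.Basis.ofVectorSpace k kb) z
  by_cases hs : c.support = ∅
  · have : c = 0 := Finsupp.support_eq_empty.mp hs
    subst this
    simp
  · have hne : c.support.Nonempty := Finset.nonempty_iff_ne_empty.mpr hs
    obtain ⟨i0, hi0, hmax⟩ := Finset.exists_max_image c.support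
      (fun i => Q.1 (algebraMap K Kb (c i))) hne
    have hy0 : c i0 ≠ 0 := Finsupp.mem_support_iff.mp hi0
    obtain ⟨y0, hy0def⟩ : ∃ y0, y0 = c i0 := ⟨_, rfl⟩
    rw [← hy0def] at hy0 hmax
    have hy0' : algebraMap K Kb y0 ≠ 0 := by
      intro h
      exact hy0 ((map_eq_zero (algebraMap K Kb)).mp h)
    have hpos : 0 < Q.1 (algebraMap K Kb y0) :=
      zero_lt_iff.mpr ((Valuation.ne_zero_iff _).mpr hy0')
    obtain ⟨u, hudef⟩ : ∃ u : _ → K, u = fun i => c i / y0 := ⟨_, rfl⟩
    have hu0 : u i0 = 1 := by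
      rw [hudef]
      show c i0 / y0 = 1
      rw [← hy0def]
      exact div_self hy0
    have hu : ∀ i ∈ c.support, Q.1 (algebraMap K Kb (u i)) ≤ 1 := by
      intro i hi
      rw [hudef]
      show Q.1 (algebraMap K Kb (c i / y0)) ≤ 1
      rw [map_div₀, map_div₀]
      exact (div_le_one₀ hpos).mpr (hmax i hi)
    have hcu : ∀ i, algebraMap K Kb (c i) = algebraMap K Kb y0 * algebraMap K Kb (u i) := by
      intro i
      rw [← map_mul, hudef]
      congr 1
      field_simp
    have hz : (c.sum fun i y => algebraMap kb Kb ((Module.Basis.ofVectorSpace k kb) i) *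
          algebraMap K Kb y) =
        algebraMap K Kb y0 * ∑ i ∈ c.support,
          algebraMap kb Kb ((Module.Basis.ofVectorSpace k kb) i) * algebraMap K Kb (u i) := by
      unfold Finsupp.sum
      rw [Finset.mul_sum]
      apply Finset.sum_congr rfl
      intro i _
      dsimp only
      rw [hcu i]
      ring
    have hFz : F (c.sum fun i y => algebraMap kb Kb ((Module.Basis.ofVectorSpace k kb) i) *
          algebraMap K Kb y) =
        algebraMap K Kb y0 ^ q * ∑ i ∈ c.support,
          algebraMap kb Kb ((Module.Basis.ofVectorSpace k kb) i) *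
            algebraMap K Kb (u i ^ q) := by
      rw [hz, map_mul, hF2, map_sum]
      congr 1
      apply Finset.sum_congr rfl
      intro i _
      rw [map_mul, hF1, hF2, map_pow]
    have h1 := val_sum_eq_one hc Q P hP hdeg (Module.Basis.ofVectorSpace k kb) c.support u i0
      hi0 hu hu0
    have h2 := val_sum_eq_one hc Q P hP hdeg (Module.Basis.ofVectorSpace k kb) c.support
      (fun i => u i ^ q) i0 hi0
      (fun i hi => by
        show Q.1 (algebraMap K Kb (u i ^ q)) ≤ 1
        rw [map_pow, map_pow]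
        exact pow_le_one' (hu i hi) q)
      (by
        show u i0 ^ q = 1
        rw [hu0, one_pow])
    rw [hFz, hz, map_mul, map_mul, h1, h2, mul_one, mul_one, map_pow]
    exact pow_lt_one_iff hq0

theorem exists_place_of_frob [Finite k] [IsAlgClosure k kb] (hK : IsFunctionField k K)
    (hc : ∀ c : k, algebraMap K Kb (algebraMap k K c) = algebraMap kb Kb (algebraMap k kb c))
    (hgen : Algebra.adjoin K (Set.range (algebraMap kb Kb)) = ⊤)
    (F : Kb →+* Kb) (hF1 : ∀ c : kb, F (algebraMap kb Kb c) = algebraMap kb Kb c)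
    (hF2 : ∀ x : K, F (algebraMap K Kb x) = algebraMap K Kb x ^ Nat.card k)
    (Q : Place kb Kb) (hQ : ∀ z : Kb, Q.1 (F z) < 1 ↔ Q.1 z < 1) :
    ∃ P : Place k K, (∀ x : K, Q.1 (algebraMap K Kb x) ≤ 1 ↔ P.1 x ≤ 1) ∧ P.deg = 1 := by
  classical
  obtain ⟨q, hq⟩ : ∃ q, q = Nat.card k := ⟨_, rfl⟩
  rw [← hq] at hF2
  letI : Algebra k Kb := ((algebraMap K Kb).comp (algebraMap k K)).toAlgebra
  haveI : IsScalarTower k K Kb := IsScalarTower.of_algebraMap_eq fun _ => rfl
  haveI : IsScalarTower k kb Kb := IsScalarTower.of_algebraMap_eq fun c => hc c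
  haveI : IsAlgClosed kb := IsAlgClosure.isAlgClosed k
  have halgKb : ∀ y : Kb, IsAlgebraic K y := by
    intro y
    have hy : y ∈ Algebra.adjoin K (Set.range (algebraMap kb Kb)) := by
      rw [hgen]
      exact Algebra.mem_top
    have hle : Algebra.adjoin K (Set.range (algebraMap kb Kb)) ≤ integralClosure K Kb := by
      apply Algebra.adjoin_le
      rintro _ ⟨c, rfl⟩
      have h1 : IsIntegral k c := (Algebra.IsAlgebraic.isAlgebraic c).isIntegral
      have h2 : IsIntegral k (algebraMap kb Kb c) := h1.map (IsScalarTower.toAlgHom k kb Kb)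
      exact h2.tower_top
    exact (hle hy).isAlgebraic
  obtain ⟨v, hv_def⟩ : ∃ v : Valuation K (WithZero (Multiplicative ℤ)),
      v = Q.1.comap (algebraMap K Kb) := ⟨_, rfl⟩
  have hvapp : ∀ y : K, v y = Q.1 (algebraMap K Kb y) := fun y => by rw [hv_def]; rfl
  have hvk : ∀ c : k, v (algebraMap k K c) ≤ 1 := by
    intro c
    rw [hvapp, hc]
    exact Q.2.1 _
  have hvpos : ∀ y : K, y ≠ 0 → 0 < v y := fun y hy => zero_lt_iff.mpr (v.ne_zero_iff.mpr hy)
  obtain ⟨x, hx0, hx⟩ : ∃ x : K, x ≠ 0 ∧ v x < 1 := by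
    by_contra hcon
    push Not at hcon
    have hle : ∀ c : K, Q.1 (algebraMap K Kb c) ≤ 1 := by
      intro c
      by_cases hc0 : c = 0
      · rw [hc0, map_zero, map_zero]
        exact zero_le_one
      · have h1 := hcon c⁻¹ (inv_ne_zero hc0)
        rw [map_inv₀] at h1
        rw [← hvapp]
        exact (one_le_inv₀ (hvpos c hc0)).mp h1
    obtain ⟨y, hy⟩ := Q.2.2 (WithZero.exp (1 : ℤ))
    have := FG.gval_le_one_of_isAlgebraic Q.1 hle (halgKb y)
    rw [hy, ← WithZero.exp_zero, WithZero.exp_le_exp] at this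
    omega
  have hxO : v.valuationSubring.valuation x < 1 :=
    (Valuation.isEquiv_valuation_valuationSubring v).lt_one_iff_lt_one.mp hx
  obtain ⟨P, hP1', hP2'⟩ := FG.exists_place_of_valuationSubring hK.1 v.valuationSubring
    (fun c => hvk c) hx0 hxO
  have hP1 : ∀ y : K, v y ≤ 1 → P.1 y ≤ 1 := fun y hy => hP1' y hy
  have hP2 : ∀ y : K, v y < 1 → P.1 y < 1 := fun y hy =>
    hP2' y ((Valuation.isEquiv_valuation_valuationSubring v).lt_one_iff_lt_one.mp hy)
  have hP3 : ∀ y : K, P.1 y ≤ 1 → v y ≤ 1 := by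
    intro y hy
    by_contra hlt
    rw [not_le] at hlt
    have hy0 : y ≠ 0 := by
      rintro rfl
      simp at hlt
    have h1 : v y⁻¹ < 1 := by
      rw [map_inv₀]
      exact (inv_lt_one₀ (hvpos y hy0)).mpr hlt
    have h2 := hP2 _ h1
    rw [map_inv₀] at h2
    have hpos : 0 < P.1 y := zero_lt_iff.mpr (P.1.ne_zero_iff.mpr hy0)
    have := (inv_lt_one₀ hpos).mp h2
    exact absurd hy (not_le.mpr this)
  have hP4 : ∀ y : K, P.1 y < 1 → v y < 1 := by
    intro y hy
    by_contra hge
    rw [not_lt] at hge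
    have hy0 : y ≠ 0 := by
      rintro rfl
      rw [map_zero] at hge
      exact absurd hge (not_le.mpr zero_lt_one)
    have h1 : v y⁻¹ ≤ 1 := by
      rw [map_inv₀]
      exact inv_le_one_of_one_le₀ hge
    have h2 := hP1 _ h1
    rw [map_inv₀] at h2
    have hpos : 0 < P.1 y := zero_lt_iff.mpr (P.1.ne_zero_iff.mpr hy0)
    have := (inv_le_one₀ hpos).mp h2
    exact absurd hy (not_lt.mpr this)
  refine ⟨P, fun y => ⟨fun h => hP1 y (by rw [hvapp]; exact h),
    fun h => by rw [← hvapp]; exact hP3 y h⟩, ?_⟩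
  haveI hfd : FiniteDimensional k (IsLocalRing.ResidueField P.O) :=
    FF.finiteDimensional_residueField hK P
  haveI : Finite (IsLocalRing.ResidueField P.O) := Module.finite_of_finite k
  haveI := Fintype.ofFinite (IsLocalRing.ResidueField P.O)
  obtain ⟨N, hN⟩ : ∃ N, N = Fintype.card (IsLocalRing.ResidueField P.O) := ⟨_, rfl⟩
  have hN1 : 1 < N := hN ▸ Fintype.one_lt_card
  have hconst : ∀ x : K, P.1 x ≤ 1 → ∃ a : k, P.1 (x - algebraMap k K a) < 1 := by
    intro x hxP
    obtain ⟨xo, hxo⟩ : ∃ xo : P.O, xo = ⟨x, hxP⟩ := ⟨_, rfl⟩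
    have h1 : IsLocalRing.residue P.O (xo ^ N - xo) = 0 := by
      rw [map_sub, map_pow, hN, FiniteField.pow_card, sub_self]
    have h2 : P.1 (x ^ N - x) < 1 := by
      have := (FG.residue_eq_zero_iff P (xo ^ N - xo)).mp h1
      rw [hxo] at this
      exact this
    have h3 : Q.1 (algebraMap K Kb (x ^ N - x)) < 1 := by
      rw [← hvapp]
      exact hP4 _ h2
    have hg : (X ^ N - X : kb[X]).Monic :=
      monic_X_pow_sub (by rw [degree_X]; exact_mod_cast hN1)
    have h4 : aeval (algebraMap K Kb x) (X ^ N - X : kb[X]) = algebraMap K Kb (x ^ N - x) := by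
      simp
    obtain ⟨c, hcz⟩ := exists_root_close Q.1 _ hg (algebraMap K Kb x) (by rw [h4]; exact h3)
    obtain ⟨z, hz⟩ : ∃ z, z = algebraMap K Kb x := ⟨_, rfl⟩
    rw [← hz] at hcz
    have hz1 : Q.1 z ≤ 1 := by
      rw [hz, ← hvapp]
      exact hP3 x hxP
    have h5 : Q.1 (F (z - algebraMap kb Kb c)) < 1 := (hQ _).mpr hcz
    rw [map_sub, hF1, hz, hF2, ← hz] at h5
    have h6 : Q.1 (z ^ q - algebraMap kb Kb c ^ q) < 1 := by
      rw [← geom_sum₂_mul, map_mul]
      have hsum : Q.1 (∑ i ∈ Finset.range q, z ^ i * algebraMap kb Kb c ^ (q - 1 - i)) ≤ 1 := by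
        apply Valuation.map_sum_le
        intro i _
        rw [map_mul, map_pow, map_pow]
        exact mul_le_one' (pow_le_one' hz1 i) (pow_le_one' (Q.2.1 c) _)
      calc Q.1 (∑ i ∈ Finset.range q, z ^ i * algebraMap kb Kb c ^ (q - 1 - i)) *
            Q.1 (z - algebraMap kb Kb c)
          ≤ 1 * Q.1 (z - algebraMap kb Kb c) := mul_le_mul' hsum le_rfl
        _ = Q.1 (z - algebraMap kb Kb c) := one_mul _
        _ < 1 := hcz
    have h7 : Q.1 (algebraMap kb Kb (c ^ q - c)) < 1 := by
      have : algebraMap kb Kb (c ^ q - c) =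
          (z ^ q - algebraMap kb Kb c) - (z ^ q - algebraMap kb Kb c ^ q) := by
        rw [map_sub, map_pow]
        ring
      rw [this]
      exact lt_of_le_of_lt (Valuation.map_sub _ _ _) (max_lt h5 h6)
    have h8 : c ^ q - c = 0 := by
      by_contra hne
      rw [const_val_one Q hne] at h7
      exact lt_irrefl _ h7
    obtain ⟨a, ha⟩ := mem_range_of_pow_card_eq (algebraMap k kb) c
      (by rw [← hq]; exact sub_eq_zero.mp h8)
    refine ⟨a, ?_⟩
    apply hP2
    rw [hvapp, map_sub, hc, ha, ← hz]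
    exact hcz
  show Module.finrank k (IsLocalRing.ResidueField P.O) = 1
  rw [finrank_eq_one_iff_of_nonzero' (1 : IsLocalRing.ResidueField P.O) one_ne_zero]
  intro w
  obtain ⟨xo, rfl⟩ := IsLocalRing.residue_surjective w
  obtain ⟨a, ha⟩ := hconst xo.1 xo.2
  refine ⟨a, ?_⟩
  have h2 : IsLocalRing.residue P.O (xo - algebraMap k P.O a) = 0 := by
    rw [FG.residue_eq_zero_iff]
    exact ha
  rw [map_sub, sub_eq_zero] at h2
  rw [h2]
  exact (Algebra.algebraMap_eq_smul_one (A := IsLocalRing.ResidueField P.O) a).symm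

end

end Groth.Agent.Helper6.FrobPlace
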