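import Mathlib
import Groth.Agent.Lead.FtPts
import Groth.Agent.S9341
import Groth.Agent.Helper5.Decent2
import Groth.Agent.Helper5.SrcEt
import Groth.Agent.Helper5.UnramLqf
import Groth.Agent.Helper4.AlgSpLocPChart
import Groth.Agent.Helper4.AlgSpPts
import Groth.Agent.Helper4.AlgSpQC2
import Groth.Agent.Helper4.AlgSpPtsDesc
import Groth.Agent.Helper4.SDClasses

/-!
# Helper6: finite type points of algebraic spaces
-/

set_option autoImplicit false
set_option linter.style.haveILetI false
set_option linter.unusedVariables false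
universe u

namespace Groth.Agent.Helper6.FtSp
open CategoryTheory Limits AlgebraicGeometry Opposite AlgSp IsLocalRing
open Groth.Agent.Helper4.AlgSpQC2 Groth.Agent.Helper4.AlgSpPtsDesc Groth.Agent.Helper4.SDClasses

variable {S : Scheme.{u}}

/-- finite type points of a sheaf -/
def IsFtPt (X : Sp S) (x : Points X) : Prop :=
  ∃ (k : Type u) (_ : Field k) (str : Spec (CommRingCat.of k) ⟶ S)
    (ξ : (yon S).obj (Over.mk str) ⟶ X),
    LocP @LocallyOfFiniteType ξ ∧ Points.ofPt ξ (IsLocalRing.closedPoint k) = x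

set_option backward.isDefEq.respectTransparency.types false in
/-- a finite type point of an étale chart gives a finite type point -/
theorem isFtPt_of_chart {X : Sp S} {U : Over S} (φ : (yon S).obj U ⟶ X) (hφ : RepWith @Etale φ)
    (u : U.left) (hu : LocallyOfFiniteType (U.left.fromSpecResidueField u)) :
    IsFtPt X (Points.ofPt φ u) := by
  let T : Over S := Over.mk (U.left.fromSpecResidueField u ≫ U.hom)
  let g : T ⟶ U := Over.homMk (U.left.fromSpecResidueField u) rfl
  refine ⟨U.left.residueField u, inferInstance, U.left.fromSpecResidueField u ≫ U.hom,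
    (yon S).map g ≫ φ, ?_, ?_⟩
  · exact Groth.Agent.Helper4.AlgSpLocPChart.locP_of_one_chart _ good_lft ((yon S).map g ≫ φ)
      (𝟙 _) φ g (repWith_id @Etale T) (repWith_id @Surjective T) hφ (Category.id_comp _) hu
  · rw [ofPt_yon_map_comp]
    congr 1
    exact Scheme.fromSpecResidueField_apply _ _

set_option backward.isDefEq.respectTransparency.types false in
/-- every point of an étale chart over a finite type point is a finite type point -/
theorem ft_of_isFtPt {X : Sp S} {x : Points X} (hx : IsFtPt X x) {U : Over S}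
    (φ : (yon S).obj U ⟶ X) (hφ : RepWith @Etale φ) (u : U.left) (hu : Points.ofPt φ u = x) :
    LocallyOfFiniteType (U.left.fromSpecResidueField u) := by
  obtain ⟨k, _, str, ξ, hξ, rfl⟩ := hx
  have sq := hφ.rep.isPullback ξ
  obtain ⟨g, hg⟩ := (yon S).map_surjective (hφ.rep.fst ξ)
  rw [← hg] at sq
  have he : Etale (hφ.rep.snd ξ).left := hφ.property ξ _ _ sq
  clear hg
  generalize hφ.rep.snd ξ = e at sq he
  generalize hφ.rep.pullback ξ = W at g e sq he
  obtain ⟨w, hw1, hw2⟩ := Groth.Agent.Helper5.Decent2.exists_scheme_point_of_isPullback sq u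
    (closedPoint k) hu
  have hgl : LocallyOfFiniteType g.left :=
    hξ ((yon S).map e) φ g ((repWith_yon_map_iff _ _).2 he) hφ sq.w.symm
  have hlqf : LocallyQuasiFinite e.left :=
    Groth.Agent.Helper5.UnramLqf.locallyQuasiFinite_of_unramified e.left
  have hd := Scheme.Hom.isDiscrete_preimage_singleton e.left
    ((closedPoint k : ↥(Spec (CommRingCat.of k))))
  have huniv : e.left ⁻¹' {(closedPoint k : ↥(Spec (CommRingCat.of k)))} = Set.univ := by
    ext w'
    simp only [Set.mem_preimage, Set.mem_univ, iff_true]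
    exact (inferInstance : Subsingleton (PrimeSpectrum k)).elim _ _
  have hd' : _root_.IsDiscrete (Set.univ : Set ↥W.left) := by
    rw [← huniv]
    exact hd
  rw [isDiscrete_univ_iff] at hd'
  have hcl : IsClosed ({w} : Set ↥W.left) := isClosed_discrete _
  have hci : IsClosedImmersion (W.left.fromSpecResidueField w) :=
    isClosed_singleton_iff_isClosedImmersion.mp hcl
  have hft : LocallyOfFiniteType (W.left.fromSpecResidueField w) := inferInstance
  have := Groth.Agent.Lead.FtPts.ft_image g.left w hft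
  rwa [hw1] at this


set_option backward.isDefEq.respectTransparency.types false in
/-- S9975 -/
theorem isFtPt_iff_chart {X : Sp S} (hX : IsAlgSpace X) (x : Points X) :
    IsFtPt X x ↔ ∃ (U : Over S) (φ : (yon S).obj U ⟶ X) (u : ↥U.left), RepWith @Etale φ ∧
        IsClosed ({u} : Set ↥U.left) ∧ Points.ofPt φ u = x := by
  constructor
  · intro hx
    obtain ⟨U₀, φ₀, hφe, hφs⟩ := hX.atlas
    obtain ⟨r, hr⟩ := Groth.Agent.Helper4.AlgSpPts.isSurjectiveMor_of_repWith φ₀ hφs x
    obtain ⟨u₀, rfl⟩ := (Points.schemeHomeo U₀).surjective r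
    rw [ofPt_eq_map_schemeHomeo] at hr
    have hft := ft_of_isFtPt hx φ₀ hφe u₀ hr
    obtain ⟨V, hV, hs, hcl⟩ := (Groth.Agent.Lead.FtPts.ft_iff U₀.left u₀).1 hft
    refine ⟨opOver U₀ V, (yon S).map (opι U₀ V) ≫ φ₀, ⟨u₀, hs⟩, ?_, hcl, ?_⟩
    · exact Groth.Agent.Helper4.AlgSpSrc.repWith_comp _
        ((repWith_yon_map_iff @Etale (opι U₀ V)).2 (inferInstanceAs (Etale V.ι))) hφe
    · rw [ofPt_yon_map_comp]
      exact hr
  · rintro ⟨U, φ, u, hφ, hcl, rfl⟩
    have hci : IsClosedImmersion (U.left.fromSpecResidueField u) :=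
      isClosed_singleton_iff_isClosedImmersion.mp hcl
    exact isFtPt_of_chart φ hφ u inferInstance

set_option backward.isDefEq.respectTransparency.types false in
/-- a finite type point in the image of a morphism locally of finite type lifts to a finite
type point -/
theorem exists_ft_preimage {T S' : Scheme.{u}} (f : T ⟶ S') [LocallyOfFiniteType f] (s : S')
    (hs : LocallyOfFiniteType (S'.fromSpecResidueField s)) (x : T) (hx : f x = s) :
    ∃ t : T, LocallyOfFiniteType (T.fromSpecResidueField t) ∧ f t = s := by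
  obtain ⟨p₀, -, -⟩ := Scheme.Pullback.exists_preimage_pullback (f := f)
    (g := S'.fromSpecResidueField s) x (IsLocalRing.closedPoint (S'.residueField s))
    (by rw [hx, Scheme.fromSpecResidueField_apply])
  haveI : JacobsonSpace (Spec (S'.residueField s)) :=
    PrimeSpectrum.isJacobsonRing_iff_jacobsonSpace.mp inferInstance
  haveI : JacobsonSpace ↑(pullback f (S'.fromSpecResidueField s)) :=
    LocallyOfFiniteType.jacobsonSpace (pullback.snd f (S'.fromSpecResidueField s))
  obtain ⟨p, -, hp⟩ := nonempty_inter_closedPoints (X := ↑(pullback f (S'.fromSpecResidueField s)))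
    (Z := Set.univ) ⟨p₀, trivial⟩ isClosed_univ.isLocallyClosed
  haveI : IsClosedImmersion ((pullback f (S'.fromSpecResidueField s)).fromSpecResidueField p) :=
    isClosed_singleton_iff_isClosedImmersion.mp hp
  have h1 := Groth.Agent.Lead.FtPts.ft_of_lft_from_field
    (L := (pullback f (S'.fromSpecResidueField s)).residueField p)
    ((pullback f (S'.fromSpecResidueField s)).fromSpecResidueField p ≫
      pullback.fst f (S'.fromSpecResidueField s))
  rw [Scheme.Hom.comp_apply, Scheme.fromSpecResidueField_apply] at h1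
  refine ⟨pullback.fst f (S'.fromSpecResidueField s) p, h1, ?_⟩
  rw [← Scheme.Hom.comp_apply, pullback.condition, Scheme.Hom.comp_apply,
    Scheme.fromSpecResidueField_apply]

set_option backward.isDefEq.respectTransparency.types false in
/-- S9976 -/
theorem exists_isFtPt_over {X Y : Sp S} (hX : IsAlgSpace X) (hY : IsAlgSpace Y) (f : X ⟶ Y)
    (hf : LocP @LocallyOfFiniteType f) (hs : IsSurjectiveMor f) (y : Points Y)
    (hy : IsFtPt Y y) : ∃ x : Points X, Points.map f x = y ∧ IsFtPt X x := by
  obtain ⟨x₀, hx₀⟩ := hs y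
  obtain ⟨U, V, a, b, h, u, hae, hbe, hcomm, hu⟩ :=
    Groth.Agent.Helper5.SrcEt.exists_chart_at hX hY f x₀
  have hlft : LocallyOfFiniteType h.left := hf a b h hae hbe hcomm
  have hv : Points.ofPt b (h.left u) = y := by
    rw [← ofPt_yon_map_comp, ← hcomm, ← Points.map_ofPt, hu, hx₀]
  have hvft := ft_of_isFtPt hy b hbe (h.left u) hv
  obtain ⟨t, htft, ht⟩ := exists_ft_preimage h.left (h.left u) hvft u rfl
  refine ⟨Points.ofPt a t, ?_, isFtPt_of_chart a hae t htft⟩
  rw [Points.map_ofPt, hcomm, ofPt_yon_map_comp, ht, hv]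

set_option backward.isDefEq.respectTransparency.types false in
/-- S9977, first part -/
theorem exists_isFtPt_of_isLocallyClosed {X : Sp S} (hX : IsAlgSpace X) (T : Set (Points X))
    (hT : IsLocallyClosed T) (hne : T.Nonempty) : ∃ x ∈ T, IsFtPt X x := by
  obtain ⟨U, φ, hφe, hφs⟩ := hX.atlas
  obtain ⟨x₀, hx₀⟩ := hne
  obtain ⟨r, hr⟩ := Groth.Agent.Helper4.AlgSpPts.isSurjectiveMor_of_repWith φ hφs x₀
  obtain ⟨u₀, rfl⟩ := (Points.schemeHomeo U).surjective r
  rw [ofPt_eq_map_schemeHomeo] at hr
  have hT' : IsLocallyClosed (Points.ofPt φ ⁻¹' T) := hT.preimage (Points.continuous_ofPt φ)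
  obtain ⟨u, huT, hu⟩ := (Groth.Agent.S9341.result U.left).1 _ hT' ⟨u₀, by
    show Points.ofPt φ u₀ ∈ T
    rw [hr]
    exact hx₀⟩
  exact ⟨Points.ofPt φ u, huT, isFtPt_of_chart φ hφe u hu⟩

/-- S9977, second part -/
theorem subset_closure_isFtPt {X : Sp S} (hX : IsAlgSpace X) (T : Set (Points X))
    (hT : IsClosed T) : T ⊆ closure {x | x ∈ T ∧ IsFtPt X x} := by
  intro z hz
  rw [mem_closure_iff]
  intro N hN hzN
  obtain ⟨x, ⟨hxT, hxN⟩, hx⟩ := exists_isFtPt_of_isLocallyClosed hX (T ∩ N)
    (hT.isLocallyClosed.inter hN.isLocallyClosed) ⟨z, hz, hzN⟩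
  exact ⟨x, hxN, hxT, hx⟩

end Groth.Agent.Helper6.FtSp
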