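import Groth.Agent.Helper5.FFExact
import Groth.Agent.Helper5.FFGenusOne

set_option autoImplicit false
set_option linter.style.haveILetI false

/-!
# Weights of hyperplanes of `L(gA)` on a genus-one function field
-/

namespace Groth.Agent.Helper6.G1Wt

open FunFld
open Groth.Agent.Helper5

universe u v
variable {k : Type u} {K : Type v} [Field k] [Field K] [Algebra k K]

theorem finrank_L_of_deg_pos (hK : IsFunctionField k K) (hg1 : genus k K = 1) (D : Divisor k K)
    (hD : 1 ≤ D.deg) : (Module.finrank k (L D) : ℤ) = D.deg := by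
  have h := FF.ell_eq_of_deg_ge hK D (by rw [hg1]; push_cast; omega)
  rw [hg1] at h
  unfold ell at h
  push_cast at h
  omega

theorem finrank_L_of_deg_neg (hK : IsFunctionField k K) (D : Divisor k K) (hD : D.deg < 0) :
    Module.finrank k (L D) = 0 := by
  rw [FF.L_eq_bot_of_deg_neg hK D hD, finrank_bot]

theorem finrank_L_le_one [IsAlgClosed k] (hK : IsFunctionField k K) (hg1 : genus k K = 1)
    (D : Divisor k K) (hD : D.deg = 0) : Module.finrank k (L D) ≤ 1 := by
  obtain ⟨P⟩ := FF.nonempty_place hK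
  have hP := FF.deg_eq_one_of_isAlgClosed hK P
  have hle : D ≤ D + Finsupp.single P (1 : ℤ) := by
    intro R
    rw [Finsupp.add_apply]
    have := FF.single_mono (k := k) (K := K) P (show (0 : ℤ) ≤ 1 by norm_num) R
    rw [Finsupp.single_zero, Finsupp.zero_apply] at this
    omega
  have hdeg : (D + Finsupp.single P (1 : ℤ)).deg = 1 := by
    rw [FF.deg_add, FF.deg_single, hD, hP]; norm_num
  have h1 := finrank_L_of_deg_pos hK hg1 (D + Finsupp.single P (1 : ℤ)) (le_of_eq hdeg.symm)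
  rw [hdeg] at h1
  haveI := FF.finiteDimensional_L hK (D + Finsupp.single P (1 : ℤ))
  have h2 := Submodule.finrank_mono (FF.L_mono hle)
  omega

theorem principal_of_ne_bot (hK : IsFunctionField k K) (D : Divisor k K) (hD : D.deg = 0)
    (hne : L D ≠ ⊥) : ∃ x : K, x ≠ 0 ∧ FunFld.div k x = -D := by
  obtain ⟨x, hx0, hx⟩ := (FF.L_ne_bot_iff hK D).mp hne
  refine ⟨x, hx0, ?_⟩
  have hdeg : (D + FunFld.div k x).deg = 0 := by rw [FF.deg_add, FF.deg_div hK, hD, add_zero]
  have hz : D + FunFld.div k x = 0 := by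
    by_contra hne'
    have := FF.deg_pos_of_pos hK hx hne'
    omega
  exact eq_neg_of_add_eq_zero_right hz

theorem deg_single_sub_single [IsAlgClosed k] (hK : IsFunctionField k K) (A Q : Place k K)
    (a j : ℤ) :
    FunFld.Divisor.deg (Finsupp.single A a - Finsupp.single Q j : Divisor k K) = a - j := by
  rw [FF.deg_sub, FF.deg_single, FF.deg_single, FF.deg_eq_one_of_isAlgClosed hK A,
    FF.deg_eq_one_of_isAlgClosed hK Q]
  simp

theorem inf_L_sub_single_le (A Q : Place k K) (hQA : Q ≠ A) (a b j : ℤ) :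
    L (Finsupp.single A a : Divisor k K) ⊓ L (Finsupp.single A b - Finsupp.single Q j) ≤
      L (Finsupp.single A a - Finsupp.single Q j) := by
  rintro f ⟨h1, h2⟩
  rw [FF.mem_L_iff]
  intro R
  by_cases hR : R = Q
  · subst hR
    have := (FF.mem_L_iff _ _).mp h2 R
    rw [Finsupp.sub_apply, Finsupp.single_eq_of_ne hQA] at this ⊢
    exact this
  · have := (FF.mem_L_iff _ _).mp h1 R
    rw [Finsupp.sub_apply, Finsupp.single_eq_of_ne hR, sub_zero]
    exact this

theorem finrank_inf_add_le {V U X : Submodule k K} [FiniteDimensional k V] (hUV : U ≤ V) :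
    Module.finrank k ↥(V ⊓ X) + Module.finrank k ↥U ≤
      Module.finrank k ↥(U ⊓ X) + Module.finrank k ↥V := by
  haveI : FiniteDimensional k ↥(V ⊓ X) := Submodule.finiteDimensional_of_le inf_le_left
  haveI : FiniteDimensional k ↥U := Submodule.finiteDimensional_of_le hUV
  have h := Submodule.finrank_sup_add_finrank_inf_eq (V ⊓ X) U
  have e : (V ⊓ X) ⊓ U = U ⊓ X := by
    rw [inf_comm, ← inf_assoc, inf_eq_left.mpr hUV]
  rw [e] at h
  have h2 : Module.finrank k ↥((V ⊓ X) ⊔ U) ≤ Module.finrank k ↥V :=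
    Submodule.finrank_mono (sup_le inf_le_left hUV)
  omega

/-- `(g-2)(A-Q) ∼ 0` and `g(A-Q) ∼ 0` with `g` odd force `A = Q` in positive genus -/
theorem no_double_torsion [IsAlgClosed k] (hK : IsFunctionField k K) (hg1 : genus k K = 1)
    (A Q : Place k K) (hQA : Q ≠ A) (g : ℕ) (hodd : Odd g) (j₁ j₂ : ℤ)
    (hj₁ : j₁ = (g : ℤ) - 2) (hj₂ : j₂ = g)
    (h1 : L (Finsupp.single A ((g : ℤ) - 2) - Finsupp.single Q j₁ : Divisor k K) ≠ ⊥)
    (h2 : L (Finsupp.single A (g : ℤ) - Finsupp.single Q j₂ : Divisor k K) ≠ ⊥) : False := by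
  subst hj₁ hj₂
  obtain ⟨x₁, hx₁0, hx₁⟩ := principal_of_ne_bot hK _ (by rw [deg_single_sub_single hK]; ring) h1
  obtain ⟨x₂, hx₂0, hx₂⟩ := principal_of_ne_bot hK _ (by rw [deg_single_sub_single hK]; ring) h2
  obtain ⟨m, hm⟩ := hodd
  have hu0 : x₂ * x₁⁻¹ ≠ 0 := mul_ne_zero hx₂0 (inv_ne_zero hx₁0)
  have hw0 : x₂ * ((x₂ * x₁⁻¹) ^ m)⁻¹ ≠ 0 :=
    mul_ne_zero hx₂0 (inv_ne_zero (pow_ne_zero m hu0))
  apply hQA
  apply FF.eq_of_single_sub_single_eq_div hK (by omega) Q A
    (FF.deg_eq_one_of_isAlgClosed hK Q) (FF.deg_eq_one_of_isAlgClosed hK A)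
    (x₂ * ((x₂ * x₁⁻¹) ^ m)⁻¹) hw0
  ext R
  have e1 : R.ord x₁ = -((Finsupp.single A ((g : ℤ) - 2) - Finsupp.single Q ((g : ℤ) - 2) :
      Divisor k K) R) := by
    rw [← FF.div_apply hK, hx₁, Finsupp.neg_apply]
  have e2 : R.ord x₂ = -((Finsupp.single A (g : ℤ) - Finsupp.single Q (g : ℤ) :
      Divisor k K) R) := by
    rw [← FF.div_apply hK, hx₂, Finsupp.neg_apply]
  rw [FF.div_apply hK, FF.ord_mul R hx₂0 (inv_ne_zero (pow_ne_zero m hu0)), FF.ord_inv,
    FF.ord_pow, FF.ord_mul R hx₂0 (inv_ne_zero hx₁0), FF.ord_inv, e1, e2]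
  simp only [Finsupp.sub_apply]
  by_cases hRA : R = A
  · subst hRA
    rw [Finsupp.single_eq_same, Finsupp.single_eq_same, Finsupp.single_eq_same,
      Finsupp.single_eq_of_ne (Ne.symm hQA), Finsupp.single_eq_of_ne (Ne.symm hQA),
      Finsupp.single_eq_of_ne (Ne.symm hQA)]
    subst hm
    push_cast
    ring
  · by_cases hRQ : R = Q
    · subst hRQ
      rw [Finsupp.single_eq_same, Finsupp.single_eq_same, Finsupp.single_eq_same,
        Finsupp.single_eq_of_ne hRA, Finsupp.single_eq_of_ne hRA, Finsupp.single_eq_of_ne hRA]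
      subst hm
      push_cast
      ring
    · rw [Finsupp.single_eq_of_ne hRA, Finsupp.single_eq_of_ne hRA, Finsupp.single_eq_of_ne hRA,
        Finsupp.single_eq_of_ne hRQ, Finsupp.single_eq_of_ne hRQ, Finsupp.single_eq_of_ne hRQ]
      ring

theorem sum_aux (h : ℕ) : ∑ x ∈ Finset.range h, (x + 2) + 1 = (h + 2).choose 2 := by
  induction h with
  | zero => simp
  | succ n ih =>
    have e : (n + 1 + 2).choose 2 = (n + 2).choose 1 + (n + 2).choose 2 :=
      Nat.choose_succ_succ (n + 2) 1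
    rw [Finset.sum_range_succ, e, Nat.choose_one_right]
    omega

theorem sum_aux2 (h : ℕ) : ∑ x ∈ Finset.range h, (x + 1) = (h + 1).choose 2 := by
  induction h with
  | zero => simp
  | succ n ih =>
    have e : (n + 1 + 1).choose 2 = (n + 1).choose 1 + (n + 1).choose 2 :=
      Nat.choose_succ_succ (n + 1) 1
    rw [Finset.sum_range_succ, e, Nat.choose_one_right]
    omega

theorem split4 (F : ℕ → ℕ) (a b : ℕ) :
    ∑ n ∈ Finset.range (a + 4 + b), F n =
      ∑ x ∈ Finset.range a, F x + (F a + F (a + 1) + F (a + 2) + F (a + 3)) +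
        ∑ x ∈ Finset.range b, F (a + 4 + x) := by
  rw [Finset.sum_range_add, Finset.sum_range_add]
  have e4 : ∑ x ∈ Finset.range 4, F (a + x) = F a + F (a + 1) + F (a + 2) + F (a + 3) := by
    simp [Finset.sum_range_succ]
  rw [e4]

theorem split2 (F : ℕ → ℕ) (a b : ℕ) :
    ∑ n ∈ Finset.range (a + 1 + b + 1), F n =
      ∑ x ∈ Finset.range a, F x + F a + ∑ x ∈ Finset.range b, F (a + 1 + x) + F (a + 1 + b) := by
  rw [Finset.sum_range_succ, Finset.sum_range_add, Finset.sum_range_succ]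

/-- weight of the hyperplane at a place other than the pole -/
theorem weight_off_pole [IsAlgClosed k] (hK : IsFunctionField k K) (hg1 : genus k K = 1)
    (g : ℕ) (hodd : Odd g) (h3 : 3 ≤ g) (A : Place k K)
    (V₁ : Submodule k K) (hlo : L (Finsupp.single A ((g : ℤ) - 2)) ≤ V₁)
    (hhi : V₁ ≤ L (Finsupp.single A (g : ℤ))) (hdim : Module.finrank k ↥V₁ + 1 = g)
    (Q : Place k K) (hQ : Q ≠ A) :
    (∑ n ∈ Finset.range (2 * g - 2), Module.finrank k
        ↥(V₁ ⊓ L (Finsupp.single A (2 * (g : ℤ) - 2) - Finsupp.single Q ((n : ℤ) + 1)))) ≤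
      (g - 1).choose 2 + 2 := by
  classical
  obtain ⟨h, hgh⟩ : ∃ h, g = h + 3 := ⟨g - 3, by omega⟩
  haveI : FiniteDimensional k ↥V₁ := by
    haveI := FF.finiteDimensional_L hK (Finsupp.single A (g : ℤ))
    exact Submodule.finiteDimensional_of_le hhi
  have hA := FF.deg_eq_one_of_isAlgClosed hK A
  obtain ⟨F, hF⟩ : ∃ F : ℕ → ℕ, ∀ n, F n = Module.finrank k
      ↥(V₁ ⊓ L (Finsupp.single A (2 * (g : ℤ) - 2) - Finsupp.single Q ((n : ℤ) + 1))) :=
    ⟨_, fun _ => rfl⟩
  have hU : Module.finrank k (L (Finsupp.single A ((g : ℤ) - 2) : Divisor k K)) + 2 = g := by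
    have := finrank_L_of_deg_pos hK hg1 (Finsupp.single A ((g : ℤ) - 2)) (by
      rw [FF.deg_single, hA]; push_cast; omega)
    rw [FF.deg_single, hA] at this
    push_cast at this
    omega
  have hB1 : ∀ n : ℕ, F n ≤ Module.finrank k
      (L (Finsupp.single A ((g : ℤ) - 2) - Finsupp.single Q ((n : ℤ) + 1) : Divisor k K)) + 1 := by
    intro n
    rw [hF n]
    have h1 := finrank_inf_add_le
      (X := L (Finsupp.single A (2 * (g : ℤ) - 2) - Finsupp.single Q ((n : ℤ) + 1))) hlo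
    haveI := FF.finiteDimensional_L hK
      (Finsupp.single A ((g : ℤ) - 2) - Finsupp.single Q ((n : ℤ) + 1))
    have h2 := Submodule.finrank_mono
      (inf_L_sub_single_le A Q hQ ((g : ℤ) - 2) (2 * (g : ℤ) - 2) ((n : ℤ) + 1))
    omega
  have hB2 : ∀ n : ℕ, F n ≤ Module.finrank k
      (L (Finsupp.single A (g : ℤ) - Finsupp.single Q ((n : ℤ) + 1) : Divisor k K)) := by
    intro n
    rw [hF n]
    haveI := FF.finiteDimensional_L hK
      (Finsupp.single A (g : ℤ) - Finsupp.single Q ((n : ℤ) + 1))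
    exact Submodule.finrank_mono ((inf_le_inf_right _ hhi).trans
      (inf_L_sub_single_le A Q hQ (g : ℤ) (2 * (g : ℤ) - 2) ((n : ℤ) + 1)))
  have hdeg1 : ∀ n : ℕ, FunFld.Divisor.deg (Finsupp.single A ((g : ℤ) - 2) -
      Finsupp.single Q ((n : ℤ) + 1) : Divisor k K) = (h : ℤ) - n := by
    intro n; rw [deg_single_sub_single hK, hgh]; push_cast; ring
  have hdeg2 : ∀ n : ℕ, FunFld.Divisor.deg (Finsupp.single A (g : ℤ) -
      Finsupp.single Q ((n : ℤ) + 1) : Divisor k K) = (h : ℤ) + 2 - n := by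
    intro n; rw [deg_single_sub_single hK, hgh]; push_cast; ring
  have hlow : ∀ n, n < h → F n ≤ h + 1 - n := by
    intro n hn
    have h1 := hB1 n
    have h2 := finrank_L_of_deg_pos hK hg1
      (Finsupp.single A ((g : ℤ) - 2) - Finsupp.single Q ((n : ℤ) + 1)) (by rw [hdeg1 n]; omega)
    rw [hdeg1 n] at h2
    omega
  have hδ := finrank_L_le_one hK hg1
    (Finsupp.single A ((g : ℤ) - 2) - Finsupp.single Q ((h : ℤ) + 1)) (by rw [hdeg1 h]; ring)
  have hFh := hB1 h
  have hFh1 : F (h + 1) ≤ 1 := by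
    have h1 := hB1 (h + 1)
    have h2 := finrank_L_of_deg_neg hK
      (Finsupp.single A ((g : ℤ) - 2) - Finsupp.single Q (((h + 1 : ℕ) : ℤ) + 1))
      (by rw [hdeg1 (h + 1)]; push_cast; omega)
    omega
  have hδ' := finrank_L_le_one hK hg1
    (Finsupp.single A (g : ℤ) - Finsupp.single Q (((h + 2 : ℕ) : ℤ) + 1))
    (by rw [hdeg2 (h + 2)]; push_cast; ring)
  have hFh2 := hB2 (h + 2)
  have hhigh : ∀ n, h + 3 ≤ n → F n = 0 := by
    intro n hn
    have h1 := hB2 n
    have h2 := finrank_L_of_deg_neg hK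
      (Finsupp.single A (g : ℤ) - Finsupp.single Q ((n : ℤ) + 1)) (by rw [hdeg2 n]; omega)
    omega
  have hδδ : Module.finrank k
      (L (Finsupp.single A ((g : ℤ) - 2) - Finsupp.single Q ((h : ℤ) + 1) : Divisor k K)) +
      Module.finrank k
      (L (Finsupp.single A (g : ℤ) - Finsupp.single Q (((h + 2 : ℕ) : ℤ) + 1) : Divisor k K)) ≤
        1 := by
    by_contra hcon
    apply no_double_torsion hK hg1 A Q hQ g hodd ((h : ℤ) + 1) (((h + 2 : ℕ) : ℤ) + 1)
      (by rw [hgh]; push_cast; ring) (by rw [hgh]; push_cast; ring)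
    · intro hbot
      rw [hbot, finrank_bot] at hcon
      omega
    · intro hbot
      rw [hbot, finrank_bot] at hcon
      omega
  have hsumF : (∑ n ∈ Finset.range (2 * g - 2), Module.finrank k
      ↥(V₁ ⊓ L (Finsupp.single A (2 * (g : ℤ) - 2) - Finsupp.single Q ((n : ℤ) + 1)))) =
      ∑ n ∈ Finset.range (2 * g - 2), F n :=
    Finset.sum_congr rfl fun n _ => (hF n).symm
  have e : 2 * g - 2 = h + 4 + h := by omega
  rw [hsumF, e, split4]
  have hs1 : ∑ x ∈ Finset.range h, F x ≤ ∑ x ∈ Finset.range h, (h + 1 - x) :=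
    Finset.sum_le_sum fun x hx => hlow x (Finset.mem_range.mp hx)
  have hs3 : ∑ x ∈ Finset.range h, F (h + 4 + x) = 0 :=
    Finset.sum_eq_zero fun x _ => hhigh _ (by omega)
  have hs1' : ∑ x ∈ Finset.range h, (h + 1 - x) = ∑ x ∈ Finset.range h, (x + 2) := by
    rw [← Finset.sum_range_reflect (fun x => x + 2) h]
    apply Finset.sum_congr rfl
    intro x hx
    have := Finset.mem_range.mp hx
    omega
  have hs1'' := sum_aux h
  have hchoose : (g - 1).choose 2 = (h + 2).choose 2 := by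
    have : g - 1 = h + 2 := by omega
    rw [this]
  have hF3 := hhigh (h + 3) le_rfl
  rw [hchoose, hs3]
  omega

/-- weight of the hyperplane at the pole -/
theorem weight_at_pole [IsAlgClosed k] (hK : IsFunctionField k K) (hg1 : genus k K = 1)
    (g : ℕ) (h3 : 3 ≤ g) (A : Place k K)
    (V₁ : Submodule k K) (hlo : L (Finsupp.single A ((g : ℤ) - 2)) ≤ V₁)
    (hhi : V₁ ≤ L (Finsupp.single A (g : ℤ))) (hdim : Module.finrank k ↥V₁ + 1 = g) :
    ∃ ε : ℕ, ε ≤ 1 ∧
      (∑ n ∈ Finset.range (2 * g - 2), Module.finrank k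
        ↥(V₁ ⊓ L (Finsupp.single A (2 * (g : ℤ) - 2) - Finsupp.single A ((n : ℤ) + 1)))) =
      (g - 1).choose 2 + (g - 1) ^ 2 + ε := by
  classical
  obtain ⟨h, hgh⟩ : ∃ h, g = h + 3 := ⟨g - 3, by omega⟩
  haveI : FiniteDimensional k ↥V₁ := by
    haveI := FF.finiteDimensional_L hK (Finsupp.single A (g : ℤ))
    exact Submodule.finiteDimensional_of_le hhi
  have hA := FF.deg_eq_one_of_isAlgClosed hK A
  obtain ⟨F, hF⟩ : ∃ F : ℕ → ℕ, ∀ n, F n = Module.finrank k
      ↥(V₁ ⊓ L (Finsupp.single A (2 * (g : ℤ) - 2 - ((n : ℤ) + 1)) : Divisor k K)) :=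
    ⟨_, fun _ => rfl⟩
  have hsumF : (∑ n ∈ Finset.range (2 * g - 2), Module.finrank k
      ↥(V₁ ⊓ L (Finsupp.single A (2 * (g : ℤ) - 2) - Finsupp.single A ((n : ℤ) + 1)))) =
      ∑ n ∈ Finset.range (2 * g - 2), F n :=
    Finset.sum_congr rfl fun n _ => by rw [hF n, ← Finsupp.single_sub]
  have hfr : ∀ m : ℤ, 1 ≤ m →
      (Module.finrank k (L (Finsupp.single A m : Divisor k K)) : ℤ) = m := by
    intro m hm
    have := finrank_L_of_deg_pos hK hg1 (Finsupp.single A m) (by rw [FF.deg_single, hA]; simpa using hm)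
    rw [FF.deg_single, hA] at this
    simpa using this
  have hU := hfr ((g : ℤ) - 2) (by omega)
  -- high range
  have hhigh : ∀ n, n ≤ h → F n = h + 2 := by
    intro n hn
    rw [hF n, inf_eq_left.mpr (hhi.trans (FF.L_mono (FF.single_mono (k := k) (K := K) A
      (show (g : ℤ) ≤ 2 * (g : ℤ) - 2 - ((n : ℤ) + 1) by omega))))]
    omega
  -- middle
  have hmid1 : h + 1 ≤ F (h + 1) := by
    rw [hF (h + 1)]
    haveI : FiniteDimensional k ↥(V₁ ⊓ L (Finsupp.single A
        (2 * (g : ℤ) - 2 - (((h + 1 : ℕ) : ℤ) + 1)) : Divisor k K)) :=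
      Submodule.finiteDimensional_of_le inf_le_left
    have := Submodule.finrank_mono (le_inf hlo (FF.L_mono (FF.single_mono (k := k) (K := K) A
      (show (g : ℤ) - 2 ≤ 2 * (g : ℤ) - 2 - (((h + 1 : ℕ) : ℤ) + 1) by push_cast; omega))))
    omega
  have hmid2 : F (h + 1) ≤ h + 2 := by
    rw [hF (h + 1)]
    have := Submodule.finrank_mono (inf_le_left : V₁ ⊓ L (Finsupp.single A
        (2 * (g : ℤ) - 2 - (((h + 1 : ℕ) : ℤ) + 1)) : Divisor k K) ≤ V₁)
    omega
  -- low range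
  have hlowr : ∀ x, x ≤ h → F (h + 1 + 1 + x) = h + 1 - x := by
    intro x hx
    rw [hF (h + 1 + 1 + x), inf_eq_right.mpr ((FF.L_mono (FF.single_mono (k := k) (K := K) A
      (show 2 * (g : ℤ) - 2 - (((h + 1 + 1 + x : ℕ) : ℤ) + 1) ≤ (g : ℤ) - 2 by
        push_cast; omega))).trans hlo)]
    have := hfr (2 * (g : ℤ) - 2 - (((h + 1 + 1 + x : ℕ) : ℤ) + 1)) (by push_cast; omega)
    push_cast at this ⊢
    omega
  have hlast : F (h + 1 + 1 + (h + 1)) = 1 := by
    rw [hF (h + 1 + 1 + (h + 1))]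
    have e0 : 2 * (g : ℤ) - 2 - (((h + 1 + 1 + (h + 1) : ℕ) : ℤ) + 1) = 0 := by
      push_cast; omega
    rw [e0, Finsupp.single_zero, inf_eq_right.mpr ((FF.L_mono (by
      have := FF.single_mono (k := k) (K := K) A (show (0 : ℤ) ≤ (g : ℤ) - 2 by omega)
      rwa [Finsupp.single_zero] at this)).trans hlo)]
    have := FF.ell_zero hK
    unfold ell at this
    exact this
  refine ⟨F (h + 1) - (h + 1), by omega, ?_⟩
  have e : 2 * g - 2 = (h + 1) + 1 + (h + 1) + 1 := by omega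
  rw [hsumF, e, split2]
  have hs1 : ∑ x ∈ Finset.range (h + 1), F x = ∑ _x ∈ Finset.range (h + 1), (h + 2) :=
    Finset.sum_congr rfl fun x hx => hhigh x (by have := Finset.mem_range.mp hx; omega)
  have hs2 : ∑ x ∈ Finset.range (h + 1), F (h + 1 + 1 + x) =
      ∑ x ∈ Finset.range (h + 1), (h + 1 - x) :=
    Finset.sum_congr rfl fun x hx => hlowr x (by have := Finset.mem_range.mp hx; omega)
  have hs2' : ∑ x ∈ Finset.range (h + 1), (h + 1 - x) = ∑ x ∈ Finset.range (h + 1), (x + 1) := by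
    rw [← Finset.sum_range_reflect (fun x => x + 1) (h + 1)]
    apply Finset.sum_congr rfl
    intro x hx
    have := Finset.mem_range.mp hx
    omega
  have hg1' : g - 1 = h + 2 := by omega
  have e2 : (h + 2) ^ 2 = (h + 1) * (h + 2) + (h + 2) := by ring
  have hs3 : ∑ x ∈ Finset.range (h + 1), (x + 1) = (h + 2).choose 2 := sum_aux2 (h + 1)
  rw [hs1, hs2, hs2', hs3, Finset.sum_const, Finset.card_range, smul_eq_mul, hlast,
    hg1', e2]
  omega

end Groth.Agent.Helper6.G1Wt
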