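import Mathlib

set_option autoImplicit false

namespace Groth.Agent.Helper6.GaChar

open Finset Polynomial

section core

variable {p : ℕ} [hp : Fact p.Prime] {A : Type*} [CommRing A] [CharP A p]

/-- coefficients of the truncated exponential -/
noncomputable def E (a : A) (j : ℕ) : A := Ring.inverse (j.factorial : A) * a ^ j

/-- character sequence up to level `n` -/
def IsChar (p n : ℕ) (c : ℕ → A) : Prop :=
  c 0 = 1 ∧ ∀ i j, i < p ^ n → j < p ^ n → ((i + j).choose i : A) * c (i + j) = c i * c j

/-- the truncated exponential polynomial `exp_p(a X^q)` -/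
noncomputable def F (p : ℕ) (a : A) (q : ℕ) : A[X] :=
  ∑ j ∈ range p, C (E a j) * X ^ (j * q)

omit [CharP A p] in
lemma isUnit_fact (hA : CharP A p) {j : ℕ} (hj : j < p) : IsUnit (j.factorial : A) :=
  (IsUnit.natCast_factorial_iff_of_charP p).2 hj

lemma E_zero (a : A) : E a 0 = 1 := by simp [E]

lemma E_succ (a : A) {d : ℕ} (hd : d + 1 < p) :
    ((d + 1 : ℕ) : A) * E a (d + 1) = E a d * a := by
  have hu : IsUnit ((d + 1).factorial : A) := isUnit_fact (p := p) inferInstance hd
  have hu' : IsUnit (d.factorial : A) := isUnit_fact (p := p) inferInstance (by omega)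
  have h1 : ((d + 1 : ℕ) : A) * Ring.inverse ((d + 1).factorial : A) = Ring.inverse (d.factorial : A) := by
    have e1 : ((d + 1).factorial : A) = ((d + 1 : ℕ) : A) * (d.factorial : A) := by
      rw [Nat.factorial_succ, Nat.cast_mul]
    have : ((d + 1 : ℕ) : A) * Ring.inverse ((d + 1).factorial : A) * (d.factorial : A) = 1 := by
      rw [mul_right_comm, ← e1, Ring.mul_inverse_cancel _ hu]
    calc ((d + 1 : ℕ) : A) * Ring.inverse ((d + 1).factorial : A)
        = ((d + 1 : ℕ) : A) * Ring.inverse ((d + 1).factorial : A) *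
            ((d.factorial : A) * Ring.inverse (d.factorial : A)) := by
          rw [Ring.mul_inverse_cancel _ hu', mul_one]
      _ = Ring.inverse (d.factorial : A) := by
          rw [← mul_assoc, this, one_mul]
  unfold E
  rw [← mul_assoc, h1, pow_succ, mul_assoc]

lemma isChar_small {n : ℕ} {c : ℕ → A} (h : IsChar p (n + 1) c) {d : ℕ} (hd : d < p) :
    c d = E (c 1) d := by
  have hp1 : 1 < p := hp.out.one_lt
  have hpn : p ≤ p ^ (n + 1) := by
    calc p = p ^ 1 := (pow_one p).symm
      _ ≤ p ^ (n + 1) := Nat.pow_le_pow_right (by omega) (by omega)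
  induction d with
  | zero => rw [h.1, E_zero]
  | succ d ih =>
    have ih' := ih (by omega)
    have h2 := h.2 d 1 (by omega) (by omega)
    rw [Nat.choose_succ_self_right, ih'] at h2
    have hu : IsUnit ((d + 1 : ℕ) : A) := by
      rw [CharP.isUnit_natCast_iff hp.out]
      intro hdvd
      have := Nat.le_of_dvd (by omega) hdvd
      omega
    have h3 := E_succ (p := p) (c 1) hd
    rw [← h2] at h3
    exact (hu.mul_left_cancel h3).symm

lemma isChar_pow_eq_zero {n : ℕ} {c : ℕ → A} (h : IsChar p (n + 1) c) : c 1 ^ p = 0 := by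
  have hp1 : 1 < p := hp.out.one_lt
  have hpn : p ≤ p ^ (n + 1) := by
    calc p = p ^ 1 := (pow_one p).symm
      _ ≤ p ^ (n + 1) := Nat.pow_le_pow_right (by omega) (by omega)
  have h2 := h.2 (p - 1) 1 (by omega) (by omega)
  have e : p - 1 + 1 = p := by omega
  rw [e] at h2
  have hc : ((p.choose (p - 1) : ℕ) : A) = 0 := by
    rw [CharP.cast_eq_zero_iff A p]
    exact hp.out.dvd_choose_self (by omega) (by omega)
  rw [hc, zero_mul, isChar_small h (by omega : p - 1 < p)] at h2
  have hu : IsUnit ((p - 1).factorial : A) := isUnit_fact (p := p) inferInstance (by omega)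
  unfold E at h2
  have : c 1 ^ p = ((p - 1).factorial : A) * (Ring.inverse ((p - 1).factorial : A) * c 1 ^ (p - 1) * c 1) := by
    rw [mul_assoc, Ring.mul_inverse_cancel_left _ _ hu, ← pow_succ, e]
  rw [this, ← h2, mul_zero]

lemma isChar_shift {n : ℕ} {c : ℕ → A} (h : IsChar p (n + 1) c) :
    IsChar p n (fun k => c (p * k)) := by
  refine ⟨by simpa using h.1, fun i j hi hj => ?_⟩
  have hpos : 0 < p := hp.out.pos
  have h2 := h.2 (p * i) (p * j) (by rw [pow_succ']; exact Nat.mul_lt_mul_of_pos_left hi hpos)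
    (by rw [pow_succ']; exact Nat.mul_lt_mul_of_pos_left hj hpos)
  have hc : (((p * i + p * j).choose (p * i) : ℕ) : A) = (((i + j).choose i : ℕ) : A) := by
    rw [← mul_add]
    exact CharP.natCast_eq_natCast' A p Choose.choose_mul_mul_modEq_choose_nat
  rw [hc, ← mul_add] at h2
  exact h2

lemma isChar_digit {n : ℕ} {c : ℕ → A} (h : IsChar p (n + 1) c) {k d : ℕ} (hk : k < p ^ n)
    (hd : d < p) : c (p * k + d) = c (p * k) * E (c 1) d := by
  have hpos : 0 < p := hp.out.pos
  have hp1 : 1 < p := hp.out.one_lt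
  have hpn : p ≤ p ^ (n + 1) := by
    calc p = p ^ 1 := (pow_one p).symm
      _ ≤ p ^ (n + 1) := Nat.pow_le_pow_right (by omega) (by omega)
  have h2 := h.2 (p * k) d (by rw [pow_succ']; exact Nat.mul_lt_mul_of_pos_left hk hpos) (by omega)
  have hc : (((p * k + d).choose (p * k) : ℕ) : A) = 1 := by
    have h3 : (p * k + d).choose (p * k) ≡ 1 [MOD p] := by
      refine (Choose.choose_modEq_choose_mod_mul_choose_div_nat (p := p)).trans ?_
      have e1 : (p * k + d) % p = d := by
        rw [Nat.mul_add_mod, Nat.mod_eq_of_lt hd]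
      have e2 : (p * k) % p = 0 := Nat.mul_mod_right p k
      have e3 : (p * k + d) / p = k := by
        rw [Nat.mul_add_div hpos, Nat.div_eq_of_lt hd, add_zero]
      have e4 : (p * k) / p = k := Nat.mul_div_cancel_left k hpos
      rw [e1, e2, e3, e4, Nat.choose_zero_right, Nat.choose_self]
    simpa using CharP.natCast_eq_natCast' A p h3
  rw [hc, one_mul, isChar_small h hd] at h2
  exact h2

lemma isChar_nilp : ∀ (n : ℕ) (c : ℕ → A), IsChar p n c → ∀ i, i < n → c (p ^ i) ^ p = 0 := by
  intro n
  induction n with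
  | zero => intro c _ i hi; omega
  | succ n ih =>
    intro c h i hi
    cases i with
    | zero => simpa using isChar_pow_eq_zero h
    | succ i =>
      have := ih _ (isChar_shift h) i (by omega)
      simpa [pow_succ'] using this

omit hp [CharP A p] in
lemma sum_range_mul' {M : Type*} [AddCommMonoid M] (g : ℕ → M) (m q : ℕ) :
    ∑ x ∈ range (m * q), g x = ∑ k ∈ range m, ∑ d ∈ range q, g (q * k + d) := by
  induction m with
  | zero => simp
  | succ m ih =>
    rw [Nat.succ_mul, sum_range_add, ih, sum_range_succ]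
    congr 2
    ext d
    rw [mul_comm]

omit hp [CharP A p] in
lemma expand_F (a : A) (q : ℕ) : expand A p (F p a q) = F p a (p * q) := by
  unfold F
  rw [map_sum]
  refine sum_congr rfl fun j _ => ?_
  rw [map_mul, expand_C, map_pow, expand_X, ← pow_mul]
  congr 2
  ring

lemma isChar_prod : ∀ (n : ℕ) (c : ℕ → A), IsChar p n c →
    ∑ k ∈ range (p ^ n), C (c k) * X ^ k = ∏ i ∈ range n, F p (c (p ^ i)) (p ^ i) := by
  intro n
  induction n with
  | zero => intro c h; simp [h.1]
  | succ n ih =>
    intro c h
    have ih' := ih _ (isChar_shift h)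
    rw [prod_range_succ', pow_succ, sum_range_mul']
    have e1 : ∏ i ∈ range n, F p (c (p ^ (i + 1))) (p ^ (i + 1)) =
        expand A p (∏ i ∈ range n, F p (c (p * p ^ i)) (p ^ i)) := by
      rw [map_prod]
      refine prod_congr rfl fun i _ => ?_
      rw [expand_F, pow_succ']
    rw [e1, ← ih', map_sum, sum_mul]
    refine sum_congr rfl fun k hk => ?_
    have hk' : k < p ^ n := mem_range.1 hk
    unfold F
    rw [mul_sum]
    refine sum_congr rfl fun d hd => ?_
    have hd' : d < p := mem_range.1 hd
    rw [isChar_digit h hk' hd', map_mul (expand A p), expand_C, map_pow, expand_X, C_mul, pow_zero,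
      mul_one, pow_add, ← pow_mul]
    ring

/-- Main structure theorem: a polynomial of degree `< p ^ n` whose coefficients form a character
sequence is the product of truncated exponentials. -/
theorem eq_prod_of_isChar {n : ℕ} (f : A[X]) (hdeg : f.natDegree < p ^ n)
    (h : IsChar p n f.coeff) :
    f = ∏ i ∈ range n, F p (f.coeff (p ^ i)) (p ^ i) := by
  rw [← isChar_prod n _ h]
  exact as_sum_range_C_mul_X_pow' f hdeg

end core


section coeff

variable {A : Type*} [CommRing A]

lemma single_add_single_eq (m l i j : ℕ) :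
    ((Finsupp.single 0 m + Finsupp.single 1 l : Fin 2 →₀ ℕ) =
      Finsupp.single 0 i + Finsupp.single 1 j) ↔ m = i ∧ l = j := by
  constructor
  · intro h
    have h0 := DFunLike.congr_fun h 0
    have h1 := DFunLike.congr_fun h 1
    simp at h0 h1
    exact ⟨h0, h1⟩
  · rintro ⟨rfl, rfl⟩; rfl

lemma coeff_add_pow (k i j : ℕ) :
    MvPolynomial.coeff (Finsupp.single 0 i + Finsupp.single 1 j)
      ((MvPolynomial.X 0 + MvPolynomial.X 1 : MvPolynomial (Fin 2) A) ^ k) =
    if k = i + j then ((k.choose i : ℕ) : A) else 0 := by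
  rw [add_pow, MvPolynomial.coeff_sum]
  have key : ∀ m ∈ range (k + 1),
      MvPolynomial.coeff (Finsupp.single 0 i + Finsupp.single 1 j)
        ((MvPolynomial.X 0 : MvPolynomial (Fin 2) A) ^ m * MvPolynomial.X 1 ^ (k - m) *
          ((k.choose m : ℕ) : MvPolynomial (Fin 2) A)) =
      if m = i ∧ k - m = j then ((k.choose m : ℕ) : A) else 0 := by
    intro m _
    rw [MvPolynomial.X_pow_eq_monomial, MvPolynomial.X_pow_eq_monomial, MvPolynomial.monomial_mul,
      mul_one, ← map_natCast (MvPolynomial.C (σ := Fin 2) (R := A)), mul_comm,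
      MvPolynomial.C_mul_monomial, MvPolynomial.coeff_monomial, mul_one]
    simp only [single_add_single_eq]
  rw [sum_congr rfl key]
  by_cases hk : k = i + j
  · subst hk
    rw [if_pos rfl, sum_eq_single i]
    · rw [if_pos ⟨rfl, by omega⟩]
    · intro m _ hm
      rw [if_neg (fun h => hm h.1)]
    · intro hi
      exfalso; apply hi; rw [mem_range]; omega
  · rw [if_neg hk]
    refine sum_eq_zero fun m hm => ?_
    rw [if_neg]
    rintro ⟨rfl, rfl⟩
    rw [mem_range] at hm
    omega

lemma coeff_aeval_add (f : Polynomial A) (i j : ℕ) :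
    MvPolynomial.coeff (Finsupp.single 0 i + Finsupp.single 1 j)
      (Polynomial.aeval (MvPolynomial.X 0 + MvPolynomial.X 1 : MvPolynomial (Fin 2) A) f) =
    (((i + j).choose i : ℕ) : A) * f.coeff (i + j) := by
  induction f using Polynomial.induction_on' with
  | add f g hf hg => rw [map_add, MvPolynomial.coeff_add, hf, hg, Polynomial.coeff_add, mul_add]
  | monomial k a =>
    rw [Polynomial.aeval_monomial, MvPolynomial.algebraMap_eq, MvPolynomial.coeff_C_mul,
      coeff_add_pow, Polynomial.coeff_monomial]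
    by_cases hk : k = i + j
    · subst hk; rw [if_pos rfl, if_pos rfl, mul_comm]
    · rw [if_neg hk, if_neg hk, mul_zero, mul_zero]

lemma coeff_aeval_mul (f g : Polynomial A) (i j : ℕ) :
    MvPolynomial.coeff (Finsupp.single 0 i + Finsupp.single 1 j)
      (Polynomial.aeval (MvPolynomial.X 0 : MvPolynomial (Fin 2) A) f *
        Polynomial.aeval (MvPolynomial.X 1 : MvPolynomial (Fin 2) A) g) =
    f.coeff i * g.coeff j := by
  induction f using Polynomial.induction_on' with
  | add f1 f2 h1 h2 =>
    rw [map_add, add_mul, MvPolynomial.coeff_add, h1, h2, Polynomial.coeff_add, add_mul]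
  | monomial k a =>
    induction g using Polynomial.induction_on' with
    | add g1 g2 h1 h2 =>
      rw [map_add, mul_add, MvPolynomial.coeff_add, h1, h2, Polynomial.coeff_add, mul_add]
    | monomial l b =>
      rw [Polynomial.aeval_monomial, Polynomial.aeval_monomial, MvPolynomial.algebraMap_eq,
        MvPolynomial.X_pow_eq_monomial, MvPolynomial.X_pow_eq_monomial,
        MvPolynomial.C_mul_monomial, MvPolynomial.C_mul_monomial, MvPolynomial.monomial_mul,
        MvPolynomial.coeff_monomial, Polynomial.coeff_monomial, Polynomial.coeff_monomial,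
        mul_one, mul_one]
      simp only [single_add_single_eq]
      by_cases hk : k = i
      · by_cases hl : l = j
        · rw [if_pos ⟨hk, hl⟩, if_pos hk, if_pos hl]
        · rw [if_neg (fun h => hl h.2), if_neg hl, mul_zero]
      · rw [if_neg (fun h => hk h.1), if_neg hk, zero_mul]

/-- membership in the monomial ideal `(X₀^N, X₁^N)` kills low coefficients -/
lemma coeff_eq_zero_of_mem (N : ℕ) (x : MvPolynomial (Fin 2) A)
    (hx : x ∈ Ideal.span {(MvPolynomial.X 0 ^ N : MvPolynomial (Fin 2) A), MvPolynomial.X 1 ^ N})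
    {i j : ℕ} (hi : i < N) (hj : j < N) :
    MvPolynomial.coeff (Finsupp.single 0 i + Finsupp.single 1 j) x = 0 := by
  have e : ({(MvPolynomial.X 0 ^ N : MvPolynomial (Fin 2) A), MvPolynomial.X 1 ^ N} : Set _) =
      (fun s => MvPolynomial.monomial s (1 : A)) ''
        ({Finsupp.single 0 N, Finsupp.single 1 N} : Set (Fin 2 →₀ ℕ)) := by
    rw [Set.image_pair, MvPolynomial.X_pow_eq_monomial, MvPolynomial.X_pow_eq_monomial]
  rw [e, MvPolynomial.mem_ideal_span_monomial_image] at hx
  by_contra hne
  have hmem : (Finsupp.single 0 i + Finsupp.single 1 j : Fin 2 →₀ ℕ) ∈ x.support :=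
    MvPolynomial.mem_support_iff.2 hne
  obtain ⟨s, hs, hle⟩ := hx _ hmem
  rcases hs with rfl | rfl
  · have := hle 0
    simp at this
    omega
  · have := hle 1
    simp at this
    omega

end coeff


section trunc

variable {p : ℕ} [hp : Fact p.Prime] {A : Type*} [CommRing A] [CharP A p]

/-- a truncated character has a character sequence of coefficients -/
theorem isChar_of_trunc (n : ℕ) (f : Polynomial A) (h0 : f.eval 0 = 1)
    (hmul : Ideal.Quotient.mk
        (Ideal.span {(MvPolynomial.X 0 ^ p ^ n : MvPolynomial (Fin 2) A), MvPolynomial.X 1 ^ p ^ n})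
        (Polynomial.aeval (MvPolynomial.X 0 + MvPolynomial.X 1 : MvPolynomial (Fin 2) A) f) =
      Ideal.Quotient.mk
        (Ideal.span {(MvPolynomial.X 0 ^ p ^ n : MvPolynomial (Fin 2) A), MvPolynomial.X 1 ^ p ^ n})
        (Polynomial.aeval (MvPolynomial.X 0 : MvPolynomial (Fin 2) A) f *
          Polynomial.aeval (MvPolynomial.X 1 : MvPolynomial (Fin 2) A) f)) :
    IsChar p n f.coeff := by
  refine ⟨by rw [Polynomial.coeff_zero_eq_eval_zero, h0], fun i j hi hj => ?_⟩
  rw [Ideal.Quotient.eq] at hmul
  have := coeff_eq_zero_of_mem (p ^ n) _ hmul hi hj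
  rw [MvPolynomial.coeff_sub, coeff_aeval_add, coeff_aeval_mul, sub_eq_zero] at this
  exact this

end trunc

end Groth.Agent.Helper6.GaChar
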