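import Mathlib
import Groth.Agent.Helper6.GaChar

set_option autoImplicit false

namespace Groth.Agent.Helper6.GaChar

open Finset Polynomial

section expmul

variable {p : ℕ} [hp : Fact p.Prime] {A : Type*} [CommRing A] [CharP A p]

lemma E_mul_E (a : A) {m l : ℕ} (h : m + l < p) :
    E a m * E a l = (((m + l).choose m : ℕ) : A) * E a (m + l) := by
  have hu : IsUnit ((m + l).factorial : A) := isUnit_fact (p := p) inferInstance h
  have hum : IsUnit (m.factorial : A) := isUnit_fact (p := p) inferInstance (by omega)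
  have hul : IsUnit (l.factorial : A) := isUnit_fact (p := p) inferInstance (by omega)
  have e1 : (((m + l).choose m : ℕ) : A) * (m.factorial : A) * (l.factorial : A) =
      ((m + l).factorial : A) := by
    have := Nat.choose_mul_factorial_mul_factorial (Nat.le_add_right m l)
    rw [Nat.add_sub_cancel_left] at this
    rw [← Nat.cast_mul, ← Nat.cast_mul, this]
  have e2 : (((m + l).choose m : ℕ) : A) * Ring.inverse ((m + l).factorial : A) =
      Ring.inverse (m.factorial : A) * Ring.inverse (l.factorial : A) := by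
    calc (((m + l).choose m : ℕ) : A) * Ring.inverse ((m + l).factorial : A)
        = (((m + l).choose m : ℕ) : A) * ((m.factorial : A) * Ring.inverse (m.factorial : A)) *
            ((l.factorial : A) * Ring.inverse (l.factorial : A)) *
            Ring.inverse ((m + l).factorial : A) := by
          rw [Ring.mul_inverse_cancel _ hum, Ring.mul_inverse_cancel _ hul, mul_one, mul_one]
      _ = ((((m + l).choose m : ℕ) : A) * (m.factorial : A) * (l.factorial : A)) *
            Ring.inverse ((m + l).factorial : A) *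
            (Ring.inverse (m.factorial : A) * Ring.inverse (l.factorial : A)) := by ring
      _ = Ring.inverse (m.factorial : A) * Ring.inverse (l.factorial : A) := by
          rw [e1, Ring.mul_inverse_cancel _ hu, one_mul]
  unfold E
  calc Ring.inverse (m.factorial : A) * a ^ m * (Ring.inverse (l.factorial : A) * a ^ l)
      = Ring.inverse (m.factorial : A) * Ring.inverse (l.factorial : A) * a ^ (m + l) := by
        rw [pow_add]; ring
    _ = (((m + l).choose m : ℕ) : A) * (Ring.inverse ((m + l).factorial : A) * a ^ (m + l)) := by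
        rw [← e2]; ring

omit hp [CharP A p] in
lemma E_mul_E_eq_zero {a : A} (ha : a ^ p = 0) {m l : ℕ} (h : p ≤ m + l) :
    E a m * E a l = 0 := by
  unfold E
  have : a ^ m * a ^ l = 0 := by
    rw [← pow_add, ← Nat.sub_add_cancel h, pow_add, ha, mul_zero]
  calc Ring.inverse (m.factorial : A) * a ^ m * (Ring.inverse (l.factorial : A) * a ^ l)
      = Ring.inverse (m.factorial : A) * Ring.inverse (l.factorial : A) * (a ^ m * a ^ l) := by ring
    _ = 0 := by rw [this, mul_zero]

omit hp [CharP A p] in
lemma tri_sum {M : Type*} [AddCommMonoid M] (q : ℕ) (G : ℕ → ℕ → M)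
    (hG : ∀ m l, q ≤ m + l → G m l = 0) :
    ∑ j ∈ range q, ∑ x ∈ antidiagonal j, G x.1 x.2 = ∑ m ∈ range q, ∑ l ∈ range q, G m l := by
  have h1 : ∀ j, ∑ x ∈ antidiagonal j, G x.1 x.2 = ∑ k ∈ range (j + 1), G k (j - k) := fun j =>
    Finset.Nat.sum_antidiagonal_eq_sum_range_succ (fun a b => G a b) j
  simp_rw [h1]
  rw [sum_range_diag_flip]
  refine sum_congr rfl fun m hm => ?_
  refine sum_subset (range_subset_range.2 (Nat.sub_le q m)) fun l _ hl => ?_
  apply hG
  rw [mem_range] at hl
  omega

variable {B : Type*} [CommRing B] [Algebra A B]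

/-- the truncated exponential is multiplicative on nilpotent-of-order-p arguments -/
lemma expp_add {a : A} (ha : a ^ p = 0) (s t : B) :
    ∑ j ∈ range p, algebraMap A B (E a j) * (s + t) ^ j =
      (∑ j ∈ range p, algebraMap A B (E a j) * s ^ j) *
        (∑ j ∈ range p, algebraMap A B (E a j) * t ^ j) := by
  rw [sum_mul_sum]
  have hG : ∀ m l, p ≤ m + l →
      algebraMap A B (E a m) * s ^ m * (algebraMap A B (E a l) * t ^ l) = 0 := by
    intro m l h
    calc algebraMap A B (E a m) * s ^ m * (algebraMap A B (E a l) * t ^ l)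
        = algebraMap A B (E a m * E a l) * (s ^ m * t ^ l) := by rw [map_mul]; ring
      _ = 0 := by rw [E_mul_E_eq_zero ha h, map_zero, zero_mul]
  rw [← tri_sum p _ hG]
  refine sum_congr rfl fun j hj => ?_
  rw [(Commute.all s t).add_pow', mul_sum]
  refine sum_congr rfl fun x hx => ?_
  have hx' : x.1 + x.2 = j := mem_antidiagonal.1 hx
  have hj' : j < p := mem_range.1 hj
  have := E_mul_E (p := p) a (m := x.1) (l := x.2) (by omega)
  rw [hx'] at this
  calc algebraMap A B (E a j) * (j.choose x.1 • (s ^ x.1 * t ^ x.2))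
      = algebraMap A B (((j.choose x.1 : ℕ) : A) * E a j) * (s ^ x.1 * t ^ x.2) := by
        rw [nsmul_eq_mul, map_mul, map_natCast]; ring
    _ = algebraMap A B (E a x.1) * s ^ x.1 * (algebraMap A B (E a x.2) * t ^ x.2) := by
        rw [← this, map_mul]; ring

omit hp [CharP A p] in
lemma aeval_F (a : A) (q : ℕ) (y : B) :
    aeval y (F p a q) = ∑ j ∈ range p, algebraMap A B (E a j) * (y ^ q) ^ j := by
  unfold F
  rw [map_sum]
  refine sum_congr rfl fun j _ => ?_
  rw [map_mul, aeval_C, map_pow, aeval_X, ← pow_mul, mul_comm q j]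

lemma aeval_F_add [CharP B p] {a : A} (ha : a ^ p = 0) (n : ℕ) (u v : B) :
    aeval (u + v) (F p a (p ^ n)) = aeval u (F p a (p ^ n)) * aeval v (F p a (p ^ n)) := by
  rw [aeval_F, aeval_F, aeval_F, add_pow_char_pow, expp_add ha]

omit [CharP A p] in
lemma eval_zero_F (a : A) {q : ℕ} (hq : q ≠ 0) : (F p a q).eval 0 = 1 := by
  unfold F
  rw [eval_finsetSum, sum_eq_single 0]
  · simp [E]
  · intro j _ hj
    rw [eval_mul, eval_pow, eval_X, zero_pow (Nat.mul_ne_zero hj hq), mul_zero]
  · intro h
    exfalso; apply h; rw [mem_range]; exact hp.out.pos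

/-- a finite product of truncated exponentials is a polynomial character -/
theorem prod_F_isCharacter [CharP B p] (N : ℕ) (a : ℕ → A) (ha : ∀ n, a n ^ p = 0) (u v : B) :
    aeval (u + v) (∏ n ∈ range N, F p (a n) (p ^ n)) =
      aeval u (∏ n ∈ range N, F p (a n) (p ^ n)) * aeval v (∏ n ∈ range N, F p (a n) (p ^ n)) := by
  rw [map_prod, map_prod, map_prod, ← prod_mul_distrib]
  exact prod_congr rfl fun n _ => aeval_F_add (ha n) n u v

omit [CharP A p] in
theorem eval_zero_prod_F (N : ℕ) (a : ℕ → A) :
    (∏ n ∈ range N, F p (a n) (p ^ n)).eval 0 = 1 := by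
  rw [eval_prod]
  exact prod_eq_one fun n _ => eval_zero_F (a n) (pow_ne_zero n hp.out.ne_zero)

end expmul

end Groth.Agent.Helper6.GaChar
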