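import Mathlib
import Groth.Agent.Helper6.GaExp

set_option autoImplicit false

namespace Groth.Agent.Helper6.GaChar

open Finset

section ps

variable {A : Type*} [CommRing A]

lemma eq_single_add_single (e : Fin 2 →₀ ℕ) :
    e = Finsupp.single 0 (e 0) + Finsupp.single 1 (e 1) := by
  ext k
  fin_cases k <;> simp

lemma hasSubst_add : PowerSeries.HasSubst
    (MvPowerSeries.X 0 + MvPowerSeries.X 1 : MvPowerSeries (Fin 2) A) :=
  (PowerSeries.HasSubst.X 0).add (PowerSeries.HasSubst.X 1)

lemma ps_coeff_add_pow (k i j : ℕ) :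
    MvPowerSeries.coeff (Finsupp.single 0 i + Finsupp.single 1 j)
      ((MvPowerSeries.X 0 + MvPowerSeries.X 1 : MvPowerSeries (Fin 2) A) ^ k) =
    if k = i + j then ((k.choose i : ℕ) : A) else 0 := by
  have : (MvPowerSeries.X 0 + MvPowerSeries.X 1 : MvPowerSeries (Fin 2) A) ^ k =
      (((MvPolynomial.X 0 + MvPolynomial.X 1 : MvPolynomial (Fin 2) A) ^ k :
        MvPolynomial (Fin 2) A) : MvPowerSeries (Fin 2) A) := by
    rw [MvPolynomial.coe_pow, MvPolynomial.coe_add, MvPolynomial.coe_X, MvPolynomial.coe_X]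
  rw [this, MvPolynomial.coeff_coe, coeff_add_pow]

lemma ps_coeff_subst_add (χ : PowerSeries A) (i j : ℕ) :
    MvPowerSeries.coeff (Finsupp.single 0 i + Finsupp.single 1 j)
      (PowerSeries.subst (MvPowerSeries.X 0 + MvPowerSeries.X 1 : MvPowerSeries (Fin 2) A) χ) =
    (((i + j).choose i : ℕ) : A) * PowerSeries.coeff (i + j) χ := by
  rw [PowerSeries.coeff_subst hasSubst_add, finsum_eq_single _ (i + j)]
  · rw [ps_coeff_add_pow, if_pos rfl, smul_eq_mul, mul_comm]
  · intro d hd
    rw [ps_coeff_add_pow, if_neg hd, smul_zero]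

lemma ps_coeff_subst_mul (χ ψ : PowerSeries A) (i j : ℕ) :
    MvPowerSeries.coeff (Finsupp.single 0 i + Finsupp.single 1 j)
      (PowerSeries.subst (MvPowerSeries.X 0 : MvPowerSeries (Fin 2) A) χ *
        PowerSeries.subst (MvPowerSeries.X 1 : MvPowerSeries (Fin 2) A) ψ) =
    PowerSeries.coeff i χ * PowerSeries.coeff j ψ := by
  classical
  rw [MvPowerSeries.coeff_mul, sum_eq_single (Finsupp.single 0 i, Finsupp.single 1 j)]
  · rw [PowerSeries.coeff_subst_single, PowerSeries.coeff_subst_single]
    simp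
  · rintro ⟨x, y⟩ hxy hne
    rw [HasAntidiagonal.mem_antidiagonal] at hxy
    simp only at hxy
    rw [PowerSeries.coeff_subst_single, PowerSeries.coeff_subst_single]
    by_cases hx : x = Finsupp.single 0 (x 0)
    · by_cases hy : y = Finsupp.single 1 (y 1)
      · exfalso
        apply hne
        have h0 := DFunLike.congr_fun hxy 0
        have h1 := DFunLike.congr_fun hxy 1
        have hy0 : y 0 = 0 := by rw [hy]; simp
        have hx1 : x 1 = 0 := by rw [hx]; simp
        simp only [Finsupp.add_apply, hy0, hx1] at h0 h1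
        simp at h0 h1
        rw [Prod.mk.injEq]
        exact ⟨by rw [hx, h0], by rw [hy, h1]⟩
      · rw [if_neg hy, mul_zero]
    · rw [if_neg hx, zero_mul]
  · intro h
    exfalso; apply h
    rw [HasAntidiagonal.mem_antidiagonal]

/-- the character identity for a power series is equivalent to the coefficient identity -/
theorem ps_char_iff (χ : PowerSeries A) :
    PowerSeries.subst (MvPowerSeries.X 0 + MvPowerSeries.X 1 : MvPowerSeries (Fin 2) A) χ =
        PowerSeries.subst (MvPowerSeries.X 0 : MvPowerSeries (Fin 2) A) χ *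
          PowerSeries.subst (MvPowerSeries.X 1 : MvPowerSeries (Fin 2) A) χ ↔
      ∀ i j, (((i + j).choose i : ℕ) : A) * PowerSeries.coeff (i + j) χ =
        PowerSeries.coeff i χ * PowerSeries.coeff j χ := by
  constructor
  · intro h i j
    rw [← ps_coeff_subst_add, ← ps_coeff_subst_mul, h]
  · intro h
    ext e
    rw [eq_single_add_single e, ps_coeff_subst_add, ps_coeff_subst_mul, h]

end ps

section final

variable {p : ℕ} [hp : Fact p.Prime] {A : Type*} [CommRing A] [CharP A p]

omit hp [CharP A p] in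
lemma trunc_eq_sum (n : ℕ) (χ : PowerSeries A) :
    PowerSeries.trunc n χ = ∑ k ∈ range n, Polynomial.C (PowerSeries.coeff k χ) * Polynomial.X ^ k := by
  ext k
  rw [PowerSeries.coeff_trunc, Polynomial.finsetSum_coeff]
  simp only [Polynomial.coeff_C_mul, Polynomial.coeff_X_pow]
  by_cases hk : k < n
  · rw [if_pos hk, sum_eq_single k]
    · simp
    · intro b _ hb; rw [if_neg (Ne.symm hb), mul_zero]
    · intro h; exfalso; exact h (mem_range.2 hk)
  · rw [if_neg hk]
    symm
    refine sum_eq_zero fun b hb => ?_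
    rw [mem_range] at hb
    rw [if_neg (by omega), mul_zero]

/-- coefficient identity for a finite product of truncated exponentials -/
lemma coeff_prod_F (N : ℕ) (a : ℕ → A) (ha : ∀ n, a n ^ p = 0) (i j : ℕ) :
    (((i + j).choose i : ℕ) : A) * (∏ n ∈ range N, F p (a n) (p ^ n)).coeff (i + j) =
      (∏ n ∈ range N, F p (a n) (p ^ n)).coeff i * (∏ n ∈ range N, F p (a n) (p ^ n)).coeff j := by
  rw [← coeff_aeval_add, ← coeff_aeval_mul, prod_F_isCharacter (p := p) N a ha]

end final

end Groth.Agent.Helper6.GaChar
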