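import Mathlib
import Groth.Agent.Helper6.GaPS

set_option autoImplicit false

namespace Groth.Agent.Helper6.GaChar

open Finset

section rat

variable {A : Type*} [CommRing A] [Algebra ℚ A]

/-- `1 / k!` in a ℚ-algebra -/
noncomputable def w (A : Type*) [CommRing A] [Algebra ℚ A] (k : ℕ) : A :=
  algebraMap ℚ A (1 / (k.factorial : ℚ))

lemma w_zero : w A 0 = 1 := by simp [w]

lemma succ_mul_w (k : ℕ) : ((k + 1 : ℕ) : A) * w A (k + 1) = w A k := by
  unfold w
  rw [← map_natCast (algebraMap ℚ A), ← map_mul]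
  congr 1
  rw [Nat.factorial_succ]
  have h1 : ((k + 1 : ℕ) : ℚ) ≠ 0 := by positivity
  have h2 : ((k.factorial : ℕ) : ℚ) ≠ 0 := by positivity
  push_cast
  field_simp

lemma choose_mul_w (i j : ℕ) : (((i + j).choose i : ℕ) : A) * w A (i + j) = w A i * w A j := by
  unfold w
  rw [← map_natCast (algebraMap ℚ A), ← map_mul, ← map_mul]
  congr 1
  rw [Nat.cast_add_choose]
  have h1 : ((i.factorial : ℕ) : ℚ) ≠ 0 := by positivity
  have h2 : ((j.factorial : ℕ) : ℚ) ≠ 0 := by positivity
  have h3 : (((i + j).factorial : ℕ) : ℚ) ≠ 0 := by positivity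
  field_simp

lemma isUnit_natCast_succ (k : ℕ) : IsUnit ((k + 1 : ℕ) : A) := by
  rw [← map_natCast (algebraMap ℚ A)]
  apply IsUnit.map
  rw [isUnit_iff_ne_zero]
  positivity

lemma isUnit_w (k : ℕ) : IsUnit (w A k) := by
  unfold w
  apply IsUnit.map
  rw [isUnit_iff_ne_zero]
  positivity

/-- a character sequence over a ℚ-algebra is exponential -/
lemma ratChar_eq (c : ℕ → A) (h0 : c 0 = 1)
    (h : ∀ i j, (((i + j).choose i : ℕ) : A) * c (i + j) = c i * c j) (k : ℕ) :
    c k = c 1 ^ k * w A k := by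
  induction k with
  | zero => rw [h0, pow_zero, w_zero, one_mul]
  | succ k ih =>
    have h2 := h k 1
    rw [Nat.choose_succ_self_right, ih] at h2
    apply (isUnit_natCast_succ (A := A) k).mul_left_cancel
    rw [h2, pow_succ, ← succ_mul_w k]
    ring

lemma ratChar_of (a : A) (i j : ℕ) :
    (((i + j).choose i : ℕ) : A) * (a ^ (i + j) * w A (i + j)) =
      (a ^ i * w A i) * (a ^ j * w A j) := by
  calc (((i + j).choose i : ℕ) : A) * (a ^ (i + j) * w A (i + j))
      = a ^ (i + j) * ((((i + j).choose i : ℕ) : A) * w A (i + j)) := by ring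
    _ = (a ^ i * w A i) * (a ^ j * w A j) := by rw [choose_mul_w, pow_add]; ring

lemma coeff_rescale_exp (a : A) (k : ℕ) :
    PowerSeries.coeff k (PowerSeries.rescale a (PowerSeries.exp A)) = a ^ k * w A k := by
  rw [PowerSeries.coeff_rescale, PowerSeries.coeff_exp]
  rfl

/-- polynomial version of `ps_char_iff` -/
theorem poly_char_iff (f : Polynomial A) :
    Polynomial.aeval (MvPolynomial.X 0 + MvPolynomial.X 1 : MvPolynomial (Fin 2) A) f =
        Polynomial.aeval (MvPolynomial.X 0 : MvPolynomial (Fin 2) A) f *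
          Polynomial.aeval (MvPolynomial.X 1 : MvPolynomial (Fin 2) A) f ↔
      ∀ i j, (((i + j).choose i : ℕ) : A) * f.coeff (i + j) = f.coeff i * f.coeff j := by
  constructor
  · intro h i j
    rw [← coeff_aeval_add, ← coeff_aeval_mul, h]
  · intro h
    ext e
    rw [eq_single_add_single e, coeff_aeval_add, coeff_aeval_mul, h]

end rat

end Groth.Agent.Helper6.GaChar
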