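import Mathlib
import Groth.Prelude.Def_EtBase
import Groth.Prelude.Def_EtCore
import Groth.Agent.Helper6.TorsShift
import Groth.Agent.Helper6.GalDescI

/-! `H^i(k, ℤ) ≃ H^{i-1}(k, ℚ/ℤ)` for `i ≥ 2`. -/

set_option autoImplicit false
set_option linter.style.haveILetI false
set_option linter.unusedSectionVars false
set_option linter.unusedVariables false
set_option linter.unusedSimpArgs false

universe u

open CategoryTheory CategoryTheory.Limits Opposite AlgebraicGeometry Abelian

namespace Groth.Agent.Helper6.GalDescJ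

section Const

variable (Y : Scheme.{u})

instance pfc_const : PreservesFiniteColimits (Functor.const Y.Etaleᵒᵖ : AddCommGrpCat.{u + 1} ⥤ _) :=
  ⟨fun J _ _ => preservesColimitsOfShape_of_evaluation _ _ (fun k =>
    (inferInstanceAs (PreservesColimitsOfShape J (𝟭 AddCommGrpCat.{u + 1}))))⟩

instance additive_constantSheaf :
    (constantSheaf Y.smallEtaleTopology AddCommGrpCat.{u + 1}).Additive := by
  unfold constantSheaf
  infer_instance

instance pfl_constantSheaf :
    PreservesFiniteLimits (constantSheaf Y.smallEtaleTopology AddCommGrpCat.{u + 1}) := by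
  unfold constantSheaf
  infer_instance

instance pfc_constantSheaf :
    PreservesFiniteColimits (constantSheaf Y.smallEtaleTopology AddCommGrpCat.{u + 1}) := by
  unfold constantSheaf
  haveI : PreservesFiniteColimits (presheafToSheaf Y.smallEtaleTopology AddCommGrpCat.{u + 1}) := by
    haveI : PreservesColimitsOfSize.{0, 0}
        (presheafToSheaf Y.smallEtaleTopology AddCommGrpCat.{u + 1}) :=
      (sheafificationAdjunction Y.smallEtaleTopology AddCommGrpCat.{u + 1}).leftAdjoint_preservesColimits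
    exact PreservesColimitsOfSize.preservesFiniteColimits _
  infer_instance

end Const

/-- lift a group hom through `ULift` -/
noncomputable def liftHom {A B : Type} [AddCommGroup A] [AddCommGroup B] (f : A →+ B) :
    AddCommGrpCat.of (ULift.{u + 1} A) ⟶ AddCommGrpCat.of (ULift.{u + 1} B) :=
  AddCommGrpCat.ofHom ((AddEquiv.ulift.symm.toAddMonoidHom.comp f).comp AddEquiv.ulift.toAddMonoidHom)

lemma liftHom_apply {A B : Type} [AddCommGroup A] [AddCommGroup B] (f : A →+ B)
    (x : ULift.{u + 1} A) : (liftHom f).hom x = ⟨f x.down⟩ := rfl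

/-- `0 → ℤ → ℚ → ℚ/ℤ → 0` -/
noncomputable def scAb : ShortComplex AddCommGrpCat.{u + 1} :=
  ShortComplex.mk (liftHom (Int.castAddHom ℚ))
    (liftHom (QuotientAddGroup.mk' (AddSubgroup.zmultiples (1 : ℚ)))) (by
      ext ⟨n⟩
      show ((n : ℚ) : ℚ ⧸ AddSubgroup.zmultiples (1 : ℚ)) = 0
      rw [QuotientAddGroup.eq_zero_iff]
      exact ⟨n, by simp⟩)

lemma scAb_shortExact : scAb.{u}.ShortExact := by
  refine ShortComplex.ShortExact.mk' ?_ ?_ ?_
  · rw [ShortComplex.ab_exact_iff]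
    intro x hx
    have h1 : (QuotientAddGroup.mk' (AddSubgroup.zmultiples (1 : ℚ))) x.down = 0 :=
      congrArg ULift.down hx
    rw [QuotientAddGroup.mk'_apply, QuotientAddGroup.eq_zero_iff] at h1
    obtain ⟨n, hn⟩ := h1
    refine ⟨⟨n⟩, ?_⟩
    apply ULift.ext
    show ((n : ℤ) : ℚ) = x.down
    rw [← hn]
    simp
  · rw [AddCommGrpCat.mono_iff_injective]
    intro a b hab
    apply ULift.ext
    have := congrArg ULift.down hab
    exact Int.cast_injective this
  · rw [AddCommGrpCat.epi_iff_surjective]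
    intro y
    obtain ⟨q, hq⟩ := QuotientAddGroup.mk'_surjective (AddSubgroup.zmultiples (1 : ℚ)) y.down
    exact ⟨⟨q⟩, ULift.ext _ _ hq⟩

variable (k : Type u) [Field k]

/-- the sequence of constant sheaves -/
noncomputable def scSh : ShortComplex (EtCoh.Ab (Spec (CommRingCat.of k))) :=
  scAb.{u}.map (constantSheaf (Spec (CommRingCat.of k)).smallEtaleTopology AddCommGrpCat.{u + 1})

lemma scSh_shortExact : (scSh k).ShortExact :=
  scAb_shortExact.map_of_exact _

lemma isIso_nsmul_Q (n : ℕ) (hn : 0 < n) :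
    IsIso (n • 𝟙 (EtCoh.const (Spec (CommRingCat.of k)) ℚ)) := by
  have h1 : n • 𝟙 (EtCoh.const (Spec (CommRingCat.of k)) ℚ) =
      (constantSheaf (Spec (CommRingCat.of k)).smallEtaleTopology AddCommGrpCat.{u + 1}).map
        (n • 𝟙 (AddCommGrpCat.of (ULift.{u + 1} ℚ))) := by
    rw [Functor.map_nsmul, CategoryTheory.Functor.map_id]
  rw [h1]
  have h2 : IsIso (n • 𝟙 (AddCommGrpCat.of (ULift.{u + 1} ℚ))) := by
    rw [ConcreteCategory.isIso_iff_bijective]
    have hn' : (n : ℚ) ≠ 0 := Nat.cast_ne_zero.mpr hn.ne'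
    constructor
    · intro a b hab
      have h3 : n • a = n • b := hab
      apply ULift.ext
      have h4 : n • a.down = n • b.down := congrArg ULift.down h3
      rw [nsmul_eq_mul, nsmul_eq_mul] at h4
      exact mul_left_cancel₀ hn' h4
    · intro b
      refine ⟨⟨b.down / n⟩, ?_⟩
      show n • (⟨b.down / n⟩ : ULift.{u + 1} ℚ) = b
      apply ULift.ext
      show n • (b.down / n) = b.down
      rw [nsmul_eq_mul, mul_div_cancel₀ _ hn']
  infer_instance

lemma subsingleton_H_Q (i : ℕ) (hi : 0 < i) :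
    Subsingleton (EtCoh.H (Spec (CommRingCat.of k)) (EtCoh.const (Spec (CommRingCat.of k)) ℚ) i) := by
  refine ⟨fun x y => ?_⟩
  suffices h : ∀ z : EtCoh.H (Spec (CommRingCat.of k)) (EtCoh.const (Spec (CommRingCat.of k)) ℚ) i,
      z = 0 by rw [h x, h y]
  intro z
  obtain ⟨i', rfl⟩ := Nat.exists_eq_succ_of_ne_zero hi.ne'
  obtain ⟨d, hd, hz⟩ := isOfFinAddOrder_iff_nsmul_eq_zero.1
    (Groth.Agent.Helper6.GalDescI.isOfFinAddOrder k i' _ z)
  have := isIso_nsmul_Q k d hd
  have h1 : z.comp (Abelian.Ext.mk₀ (d • 𝟙 (EtCoh.const (Spec (CommRingCat.of k)) ℚ)))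
      (add_zero _) = 0 := by
    rw [Groth.Agent.Helper6.TorsShift.comp_mk₀_nsmul, Abelian.Ext.comp_mk₀_id, hz]
  have h2 : (z.comp (Abelian.Ext.mk₀ (d • 𝟙 (EtCoh.const (Spec (CommRingCat.of k)) ℚ)))
      (add_zero _)).comp
      (Abelian.Ext.mk₀ (inv (d • 𝟙 (EtCoh.const (Spec (CommRingCat.of k)) ℚ)))) (add_zero _) = z := by
    rw [Abelian.Ext.comp_assoc_of_third_deg_zero, Abelian.Ext.mk₀_comp_mk₀, IsIso.hom_inv_id,
      Abelian.Ext.comp_mk₀_id]
  rw [← h2, h1, Abelian.Ext.zero_comp]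

theorem main (i : ℕ) (hi : 2 ≤ i) :
    Nonempty (EtCoh.H (Spec (CommRingCat.of k)) (EtCoh.const (Spec (CommRingCat.of k)) ℤ) i ≃+
      EtCoh.H (Spec (CommRingCat.of k))
        (EtCoh.const (Spec (CommRingCat.of k)) (ℚ ⧸ AddSubgroup.zmultiples (1 : ℚ))) (i - 1)) := by
  obtain ⟨j, rfl⟩ : ∃ j, i = j + 1 + 1 := ⟨i - 2, by omega⟩
  have hS := scSh_shortExact k
  let δ : EtCoh.H (Spec (CommRingCat.of k))
        (EtCoh.const (Spec (CommRingCat.of k)) (ℚ ⧸ AddSubgroup.zmultiples (1 : ℚ))) (j + 1) →+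
      EtCoh.H (Spec (CommRingCat.of k)) (EtCoh.const (Spec (CommRingCat.of k)) ℤ) (j + 1 + 1) :=
    hS.extClass.postcomp _ rfl
  have hδ : Function.Bijective δ := by
    constructor
    · refine (injective_iff_map_eq_zero δ).2 ?_
      intro y hy
      obtain ⟨x₂, hx₂⟩ := Ext.covariant_sequence_exact₃ _ hS y rfl hy
      have := subsingleton_H_Q k (j + 1) (Nat.succ_pos j)
      have h0 : x₂ = 0 := Subsingleton.elim (α := EtCoh.H (Spec (CommRingCat.of k))
        (EtCoh.const (Spec (CommRingCat.of k)) ℚ) (j + 1)) _ _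
      rw [← hx₂, h0, Ext.zero_comp]
      rfl
    · intro x
      have := subsingleton_H_Q k (j + 1 + 1) (Nat.succ_pos _)
      have h0 : x.comp (Ext.mk₀ (scSh k).f) (add_zero _) = 0 :=
        Subsingleton.elim (α := EtCoh.H (Spec (CommRingCat.of k))
          (EtCoh.const (Spec (CommRingCat.of k)) ℚ) (j + 1 + 1)) _ _
      obtain ⟨x₃, hx₃⟩ := Ext.covariant_sequence_exact₁ _ hS x h0 rfl
      exact ⟨x₃, hx₃⟩
  exact ⟨(AddEquiv.ofBijective δ hδ).symm⟩

end Groth.Agent.Helper6.GalDescJ
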