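import Mathlib
import Groth.Prelude.Def_EtBase
import Groth.Prelude.Def_EtCore
import Groth.Agent.Helper9.HpullComp
import Groth.Agent.Helper6.GalDescF
import Groth.Agent.Helper6.GalDescG
import Groth.Agent.Helper6.GalDescK

/-! A class of order prime to `p` killed by a finite separable extension is killed by one of
degree prime to `p` (Sylow argument). -/

set_option autoImplicit false
set_option linter.style.haveILetI false
set_option linter.unusedSectionVars false
set_option linter.unusedVariables false
set_option linter.unusedSimpArgs false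

universe u

open CategoryTheory CategoryTheory.Limits Opposite AlgebraicGeometry Abelian

namespace Groth.Agent.Helper6.GalDescL

open Groth.Agent.Helper9 Groth.Agent.Helper6.GalDescB

/-- étaleness of `Spec` of an algebra map between finite separable extensions -/
theorem etale_specMap {K : Type u} [Field K] {E E' : Type u} [Field E] [Field E'] [Algebra K E]
    [Algebra K E'] [FiniteDimensional K E] [Algebra.IsSeparable K E] [FiniteDimensional K E']
    [Algebra.IsSeparable K E'] (τ : E →ₐ[K] E') :
    Etale (Spec.map (CommRingCat.ofHom τ.toRingHom)) := by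
  have h1 : Spec.map (CommRingCat.ofHom τ.toRingHom) ≫ str K E = str K E' := by
    show Spec.map _ ≫ Spec.map _ = Spec.map _
    rw [← Spec.map_comp, ← CommRingCat.ofHom_comp]
    exact congrArg (fun t => Spec.map (CommRingCat.ofHom t)) τ.comp_algebraMap
  haveI : Etale (Spec.map (CommRingCat.ofHom τ.toRingHom) ≫ str K E) := by
    rw [h1]; infer_instance
  exact Etale.of_comp _ (str K E)

theorem main (K : Type u) [Field K] (F : EtCoh.Ab (Spec (CommRingCat.of K))) (i : ℕ)
    (α : EtCoh.H (Spec (CommRingCat.of K)) F i) (L : Type u) [Field L] [Algebra K L]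
    [FiniteDimensional K L] [Algebra.IsSeparable K L]
    [PreservesFiniteLimits (EtCoh.pull (Spec.map (CommRingCat.ofHom (algebraMap K L))))]
    (hα : EtCore.Hpull (Spec.map (CommRingCat.ofHom (algebraMap K L))) F i α = 0) (p : ℕ)
    (hp : p.Prime) (hpα : ¬ p ∣ addOrderOf α) :
    ∃ (L' : Type u) (_ : Field L') (_ : Algebra K L') (_ : FiniteDimensional K L')
      (_ : Algebra.IsSeparable K L'),
      ¬ p ∣ Module.finrank K L' ∧
        ∀ [PreservesFiniteLimits (EtCoh.pull (Spec.map (CommRingCat.ofHom (algebraMap K L'))))],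
          EtCore.Hpull (Spec.map (CommRingCat.ofHom (algebraMap K L'))) F i α = 0 := by
  haveI : Fact p.Prime := ⟨hp⟩
  obtain ⟨M, _, _, _, _, _, hsplit⟩ := GalDescF.exists_galois_closure K L
  haveI : IsGalois K M := ⟨⟩
  -- an embedding of `L` into `M`
  have hcard : Fintype.card (L →ₐ[K] M) = Module.finrank K L := AlgHom.card_of_splits K L M hsplit
  have hne : Nonempty (L →ₐ[K] M) := by
    rw [← Fintype.card_pos_iff, hcard]
    exact Module.finrank_pos
  obtain ⟨ι⟩ := hne
  -- `α` dies over `M`
  have hM_et : Etale (Spec.map (CommRingCat.ofHom (algebraMap K M))) := etale_str K M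
  have hM_pfl := GalDescK.pfl_pull (Spec.map (CommRingCat.ofHom (algebraMap K M)))
  have hι_et : Etale (Spec.map (CommRingCat.ofHom ι.toRingHom)) := etale_specMap ι
  have hι_pfl := GalDescK.pfl_pull (Spec.map (CommRingCat.ofHom ι.toRingHom))
  have wι : Spec.map (CommRingCat.ofHom ι.toRingHom) ≫
      Spec.map (CommRingCat.ofHom (algebraMap K L)) =
      Spec.map (CommRingCat.ofHom (algebraMap K M)) := by
    rw [← Spec.map_comp, ← CommRingCat.ofHom_comp]
    exact congrArg (fun t => Spec.map (CommRingCat.ofHom t)) ι.comp_algebraMap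
  have hαM : EtCore.Hpull (Spec.map (CommRingCat.ofHom (algebraMap K M))) F i α = 0 := by
    rw [← HpullComp.HpullVia_Hpull _ _ _ wι F i α, hα, map_zero]
  -- the Sylow fixed field
  obtain ⟨P⟩ : Nonempty (Sylow p (M ≃ₐ[K] M)) := inferInstance
  let L' : IntermediateField K M := IntermediateField.fixedField (P : Subgroup (M ≃ₐ[K] M))
  have hdeg : Module.finrank K L' = (P : Subgroup (M ≃ₐ[K] M)).index := by
    rw [IntermediateField.finrank_eq_fixingSubgroup_index, IntermediateField.fixingSubgroup_fixedField]
  have hnd : ¬ p ∣ Module.finrank K L' := by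
    rw [hdeg]
    exact P.not_dvd_index
  have hML' : ∃ n, Module.finrank L' M = p ^ n := by
    rw [IntermediateField.finrank_fixedField_eq_card]
    exact (IsPGroup.iff_card).1 P.isPGroup'
  refine ⟨L', inferInstance, inferInstance, inferInstance, inferInstance, hnd, ?_⟩
  intro hpfl
  set β := EtCore.Hpull (Spec.map (CommRingCat.ofHom (algebraMap K L'))) F i α with hβ
  -- `β` dies over `M`
  have hf_et : Etale (Spec.map (CommRingCat.ofHom (algebraMap L' M))) := etale_str L' M
  have hf_pfl := GalDescK.pfl_pull (Spec.map (CommRingCat.ofHom (algebraMap L' M)))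
  have w' : Spec.map (CommRingCat.ofHom (algebraMap L' M)) ≫
      Spec.map (CommRingCat.ofHom (algebraMap K L')) =
      Spec.map (CommRingCat.ofHom (algebraMap K M)) := by
    rw [← Spec.map_comp, ← CommRingCat.ofHom_comp]
    rfl
  have hβM : EtCore.Hpull (Spec.map (CommRingCat.ofHom (algebraMap L' M)))
      ((EtCoh.pull (Spec.map (CommRingCat.ofHom (algebraMap K L')))).obj F) i β = 0 := by
    have h1 := HpullComp.HpullVia_Hpull _ _ _ w' F i α
    rw [hαM] at h1
    -- `HpullVia` is an isomorphism applied to `Hpull`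
    have h2 : ((EtCoh.HF _ i).map (((EtCore.pullComp _ _).symm ≪≫ EtCore.pullCongr w').app F).hom).hom
        (EtCore.Hpull (Spec.map (CommRingCat.ofHom (algebraMap L' M)))
          ((EtCoh.pull (Spec.map (CommRingCat.ofHom (algebraMap K L')))).obj F) i β) = 0 := h1
    have h3 := congrArg
      ((EtCoh.HF _ i).map (((EtCore.pullComp _ _).symm ≪≫ EtCore.pullCongr w').app F).inv).hom h2
    rw [map_zero] at h3
    refine Eq.trans ?_ h3
    have h4 := congrArg (fun t => t.hom (EtCore.Hpull (Spec.map (CommRingCat.ofHom (algebraMap L' M)))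
          ((EtCoh.pull (Spec.map (CommRingCat.ofHom (algebraMap K L')))).obj F) i β))
      (((EtCoh.HF _ i).mapIso (((EtCore.pullComp _ _).symm ≪≫ EtCore.pullCongr w').app F)).hom_inv_id)
    exact h4.symm
  have h5 := GalDescG.field_main L' _ i β M hβM
  obtain ⟨n, hn⟩ := hML'
  rw [hn] at h5
  have h6 : addOrderOf α • β = 0 := by
    rw [hβ, ← map_nsmul, addOrderOf_nsmul_eq_zero, map_zero]
  have d1 : addOrderOf β ∣ p ^ n := addOrderOf_dvd_of_nsmul_eq_zero h5
  have d2 : addOrderOf β ∣ addOrderOf α := addOrderOf_dvd_of_nsmul_eq_zero h6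
  have hcop : Nat.Coprime (p ^ n) (addOrderOf α) :=
    Nat.Coprime.pow_left n ((Nat.Prime.coprime_iff_not_dvd hp).2 hpα)
  have d3 := Nat.dvd_gcd d1 d2
  rw [hcop.gcd_eq_one, Nat.dvd_one] at d3
  exact AddMonoid.addOrderOf_eq_one_iff.1 d3

end Groth.Agent.Helper6.GalDescL
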