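import Groth.Agent.Helper6.SubmE
import Groth.Agent.Helper6.SuppBij

set_option autoImplicit false
set_option linter.style.haveILetI false
set_option linter.unusedSectionVars false
set_option linter.unusedVariables false
set_option linter.unusedSimpArgs false

/-!
# Gluing along arbitrary families, and other small tools
-/

universe u

open CategoryTheory CategoryTheory.Limits Opposite AlgebraicGeometry

namespace Groth.Agent.Helper6.SubmF

open Groth.Agent.Helper4.ConstLoc Groth.Agent.Helper6.SubmC Groth.Agent.Helper9.EtStalkExact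

attribute [local instance] preservesFilteredColimits_forget_ab

variable {Y : Scheme.{u}}

/-- a monomorphism of abelian sheaves is injective on sections -/
theorem injective_app_of_mono {F G : EtCoh.Ab Y} (φ : F ⟶ G) [Mono φ] (U : Y.Etale) :
    Function.Injective (φ.hom.app (op U)).hom := by
  have h1 : Mono ((sheafToPresheaf _ _).map φ) := inferInstance
  have h2 : Mono (φ.hom.app (op U)) := (NatTrans.mono_iff_mono_app φ.hom).1 h1 (op U)
  exact (AddCommGrpCat.mono_iff_injective _).1 h2

/-- gluing sections of an étale sheaf along a covering family -/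
theorem exists_glue_family (H : EtCoh.Ab Y) (T : Y.Etale) {ι : Type*} (W : ι → Y.Etale)
    (π : ∀ i, W i ⟶ T)
    (hcov : ∀ x : T.left, ∃ (i : ι) (y : (W i).left), (π i).left y = x)
    (s : ∀ i, H.obj.obj (op (W i)))
    (hcompat : ∀ (i j : ι) (C : Y.Etale) (g₁ : C ⟶ W i) (g₂ : C ⟶ W j), g₁ ≫ π i = g₂ ≫ π j →
      H.obj.map g₁.op (s i) = H.obj.map g₂.op (s j)) :
    ∃ t : H.obj.obj (op T), ∀ i, H.obj.map (π i).op t = s i := by
  have hP : Presheaf.IsSheaf Y.smallEtaleTopology (H.obj ⋙ forget AddCommGrpCat.{u + 1}) :=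
    (Presheaf.isSheaf_iff_isSheaf_forget _ H.obj (forget _)).1 H.property
  have hP' : Presieve.IsSheaf Y.smallEtaleTopology (H.obj ⋙ forget AddCommGrpCat.{u + 1}) :=
    (isSheaf_iff_isSheaf_of_type _ _).1 hP
  have hmem : Sieve.ofArrows W π ∈ Y.smallEtaleTopology T :=
    Groth.Agent.Helper4.EtGeom.ofArrows_mem W π hcov
  have h2 : Presieve.IsSheafFor (H.obj ⋙ forget AddCommGrpCat.{u + 1}) (Presieve.ofArrows W π) :=
    (Presieve.isSheafFor_iff_generate _).2 (hP' _ hmem)
  have hx : Presieve.Arrows.Compatible (H.obj ⋙ forget AddCommGrpCat.{u + 1}) π s := by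
    intro i k C gi gk hg
    exact hcompat i k C gi gk hg
  obtain ⟨t, ht, -⟩ := (Presieve.isSheafFor_arrows_iff _ _).1 h2 s hx
  exact ⟨t, ht⟩

variable {X : Scheme.{u}} (P : EtCoh.Ab X) {Ω : Type u} [Field Ω] [IsSepClosed Ω]
  (ζ : Spec (CommRingCat.of Ω) ⟶ X)

set_option backward.isDefEq.respectTransparency.types false in
/-- equal germs give local agreement -/
theorem agreeAt_of_germ' (U : X.Etale) (α β : P.obj.obj (op U))
    (l : (Scheme.pointSmallEtale ζ).fiber.obj U)
    (h : (Scheme.pointSmallEtale ζ).toPresheafFiber U l P.obj α =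
      (Scheme.pointSmallEtale ζ).toPresheafFiber U l P.obj β) :
    AgreeAt P U α β ((show Spec (CommRingCat.of Ω) ⟶ U.left from l.left) default) := by
  obtain ⟨W, g, y', hy', hg⟩ := ((Scheme.pointSmallEtale ζ).toPresheafFiber_eq_iff' U l α β).1 h
  let yl : Spec (CommRingCat.of Ω) ⟶ W.left := y'.left
  refine ⟨W, g, yl default, ?_, hg⟩
  rw [← hy']
  show g.left (yl default) = (yl ≫ g.left) default
  rw [Scheme.Hom.comp_apply]

end Groth.Agent.Helper6.SubmF
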