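import Groth.Agent.Helper6.ConstValA
import Groth.Agent.Helper6.SubmF
import Groth.Agent.Helper6.SuppBij

set_option autoImplicit false
set_option linter.style.haveILetI false
set_option linter.unusedSectionVars false
set_option linter.unusedVariables false
set_option linter.unusedSimpArgs false

/-!
# Subsheaves of constant sheaves on an irreducible scheme determined by the generic stalk
-/

universe u

open CategoryTheory CategoryTheory.Limits Opposite AlgebraicGeometry

namespace Groth.Agent.Helper6.GenStalk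

open Groth.Agent.Helper4.ConstLoc Groth.Agent.Helper6.ConstValA Groth.Agent.Helper9.EtStalkExact

attribute [local instance] preservesFilteredColimits_forget_ab

variable {Y : Scheme.{u}}

theorem val_const_map {N₁ N₂ : AddCommGrpCat.{u + 1}} (h : N₁ ⟶ N₂) (V : Y.Etale)
    (s : (cS Y N₁).obj.obj (op V)) (x : V.left) :
    val N₂ V (((constantSheaf Y.smallEtaleTopology AddCommGrpCat.{u + 1}).map h).hom.app (op V) s) x
      = h (val N₁ V s x) := by
  obtain ⟨W, g, w, hw, hn⟩ := val_spec N₁ V s x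
  refine val_eq N₂ V _ x g w hw _ ?_
  rw [← hom_map, hn, const_map_η]

theorem eq_of_val_eq (N : AddCommGrpCat.{u + 1}) (V : Y.Etale) (t₁ t₂ : (cS Y N).obj.obj (op V))
    (h : ∀ x, val N V t₁ x = val N V t₂ x) : t₁ = t₂ := by
  apply sec_ext
  intro x
  obtain ⟨W₁, g₁, w₁, hw₁, hn₁⟩ := val_spec N V t₁ x
  obtain ⟨W₂, g₂, w₂, hw₂, hn₂⟩ := val_spec N V t₂ x
  obtain ⟨W, p₁, p₂, w, hp, hp1, hp2⟩ :=
    Groth.Agent.Helper6.SuppBij.exists_fibre g₁ g₂ w₁ w₂ (hw₁.trans hw₂.symm)
  refine ⟨W, p₁ ≫ g₁, w, ?_, ?_⟩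
  · show g₁.left (p₁.left w) = x
    rw [show p₁.left w = w₁ from hp1, hw₁]
  · have e1 : (cS Y N).obj.map (p₁ ≫ g₁).op t₁ = (η Y N).app (op W) (val N V t₁ x) := by
      rw [op_comp, Functor.map_comp, ConcreteCategory.comp_apply, hn₁, η_map]
    have e2 : (cS Y N).obj.map (p₁ ≫ g₁).op t₂ = (η Y N).app (op W) (val N V t₂ x) := by
      rw [hp, op_comp, Functor.map_comp, ConcreteCategory.comp_apply, hn₂, η_map]
    rw [e1, e2, h x]

variable {X : Scheme.{u}} [IrreducibleSpace ↥X] {Ω : Type u} [Field Ω] [IsSepClosed Ω]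
  (ξ : Spec (CommRingCat.of Ω) ⟶ X) (hξ : ξ.base default = genericPoint ↥X)

include hξ in
set_option backward.isDefEq.respectTransparency.types false in
theorem val_mem_range {N' N : AddCommGrpCat.{u + 1}} (ι : N' ⟶ N) (G : EtCoh.Ab X)
    (a : cS X N' ⟶ G) (b : G ⟶ cS X N)
    (hab : a ≫ b = (constantSheaf X.smallEtaleTopology AddCommGrpCat.{u + 1}).map ι)
    (hst : Function.Surjective ((EtCoh.stalk ξ).map a)) (V : X.Etale) (t : G.obj.obj (op V))
    (v : V.left) : val N V (b.hom.app (op V) t) v ∈ Set.range ι := by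
  haveI : Etale V.hom := V.prop
  set β := b.hom.app (op V) t with hβ
  have hgen : genericPoint ↥X ⤳ V.hom v := genericPoint_specializes _
  obtain ⟨z, hzv, hz⟩ := (Flat.generalizingMap V.hom) hgen
  have hzv' : val N V β z = val N V β v := by
    have hlc := isLocallyConstant_val N V β
    have hopen : IsOpen {w | val N V β w = val N V β v} := hlc.isOpen_fiber _
    exact hzv.mem_open hopen rfl
  rw [← hzv']
  obtain ⟨y₀, hy₀, hy₀z⟩ :=
    Scheme.exists_fac_of_etale_of_isSepClosed V.hom ξ z (hz.trans hξ.symm)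
  let Φ := Scheme.pointSmallEtale ξ
  let y : Φ.fiber.obj V := Over.homMk y₀ hy₀
  obtain ⟨τ, hτ⟩ := hst (Φ.toPresheafFiber V y G.obj t)
  obtain ⟨W, yW, s', rfl⟩ := Φ.toPresheafFiber_jointly_surjective τ
  have h1 : Φ.toPresheafFiber W yW G.obj (a.hom.app (op W) s') =
      Φ.toPresheafFiber V y G.obj t := by
    rw [← Φ.toPresheafFiber_naturality_apply]
    exact hτ
  haveI := Φ.isCofiltered
  let e₁ : Φ.fiber.Elements := ⟨W, yW⟩
  let e₂ : Φ.fiber.Elements := ⟨V, y⟩
  let g₁ := IsCofiltered.minToLeft e₁ e₂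
  let g₂ := IsCofiltered.minToRight e₁ e₂
  have h2 : Φ.toPresheafFiber (IsCofiltered.min e₁ e₂).1 (IsCofiltered.min e₁ e₂).2 G.obj
        (G.obj.map g₁.1.op (a.hom.app (op W) s')) =
      Φ.toPresheafFiber (IsCofiltered.min e₁ e₂).1 (IsCofiltered.min e₁ e₂).2 G.obj
        (G.obj.map g₂.1.op t) := by
    rw [Φ.toPresheafFiber_w_apply, Φ.toPresheafFiber_w_apply, g₁.2, g₂.2]
    exact h1
  obtain ⟨D, k, yD, hk, hD⟩ := (Φ.toPresheafFiber_eq_iff' _ _ _ _).1 h2
  let p₁ : D ⟶ W := k ≫ g₁.1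
  let p₂ : D ⟶ V := k ≫ g₂.1
  have hp₂ : Φ.fiber.map p₂ yD = y := by
    show Φ.fiber.map (k ≫ g₂.1) yD = y
    rw [Functor.map_comp]
    show Φ.fiber.map g₂.1 (Φ.fiber.map k yD) = y
    rw [hk]
    exact g₂.2
  have hD' : G.obj.map p₁.op (a.hom.app (op W) s') = G.obj.map p₂.op t := by
    show G.obj.map (k ≫ g₁.1).op _ = G.obj.map (k ≫ g₂.1).op _
    rw [op_comp, op_comp, Functor.map_comp, Functor.map_comp, ConcreteCategory.comp_apply,
      ConcreteCategory.comp_apply]
    exact hD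
  let d : D.left := (show Spec (CommRingCat.of Ω) ⟶ D.left from yD.left) default
  have hd : p₂.left d = z := by
    have := congrArg (fun m : Φ.fiber.obj V =>
      (show Spec (CommRingCat.of Ω) ⟶ V.left from m.left) default) hp₂
    exact this.trans hy₀z
  have e1 : (cS X N).obj.map p₂.op β = (cS X N).obj.map p₁.op
      (((constantSheaf X.smallEtaleTopology AddCommGrpCat.{u + 1}).map ι).hom.app (op W) s') := by
    rw [hβ, ← hom_map, ← hD', hom_map, ← hab]
    rfl
  refine ⟨val N' W s' (p₁.left d), ?_⟩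
  symm
  calc val N V β z = val N V β (p₂.left d) := by rw [hd]
    _ = val N D ((cS X N).obj.map p₂.op β) d := (val_map N p₂ β d).symm
    _ = val N D ((cS X N).obj.map p₁.op
          (((constantSheaf X.smallEtaleTopology AddCommGrpCat.{u + 1}).map ι).hom.app (op W) s')) d := by
        rw [e1]
    _ = val N W (((constantSheaf X.smallEtaleTopology AddCommGrpCat.{u + 1}).map ι).hom.app (op W) s')
          (p₁.left d) := val_map N p₁ _ d
    _ = ι (val N' W s' (p₁.left d)) := val_const_map ι W s' _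

include hξ in
theorem isIso_of_stalk {N' N : AddCommGrpCat.{u + 1}} (ι : N' ⟶ N) (hι : Function.Injective ι)
    (G : EtCoh.Ab X) (a : cS X N' ⟶ G) (b : G ⟶ cS X N) [Mono a] [Mono b]
    (hab : a ≫ b = (constantSheaf X.smallEtaleTopology AddCommGrpCat.{u + 1}).map ι)
    (hst : IsIso ((EtCoh.stalk ξ).map a)) : IsIso a := by
  have hsurj : Function.Surjective ((EtCoh.stalk ξ).map a) :=
    ((ConcreteCategory.isIso_iff_bijective _).1 hst).2
  suffices h : ∀ V : X.Etale, Function.Bijective (a.hom.app (op V)) by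
    haveI : ∀ V : X.Etaleᵒᵖ, IsIso (a.hom.app V) := fun V =>
      (ConcreteCategory.isIso_iff_bijective _).2 (h V.unop)
    haveI : IsIso a.hom := NatIso.isIso_of_isIso_app _
    exact (isIso_iff_of_reflects_iso a (sheafToPresheaf _ _)).1 ‹_›
  intro V
  refine ⟨SubmF.injective_app_of_mono a V, fun t => ?_⟩
  have hmem := val_mem_range ξ hξ ι G a b hab hsurj V t
  choose φ' hφ' using hmem
  have hlc : IsLocallyConstant φ' := by
    have hlc0 := isLocallyConstant_val N V (b.hom.app (op V) t)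
    rw [IsLocallyConstant.iff_exists_open] at hlc0 ⊢
    intro x
    obtain ⟨U, hU, hxU, hUc⟩ := hlc0 x
    refine ⟨U, hU, hxU, fun x' hx' => hι ?_⟩
    rw [hφ', hφ', hUc x' hx']
  obtain ⟨s, hs⟩ := exists_section N' V φ' hlc
  refine ⟨s, ?_⟩
  apply SubmF.injective_app_of_mono b V
  have e : b.hom.app (op V) (a.hom.app (op V) s) =
      ((constantSheaf X.smallEtaleTopology AddCommGrpCat.{u + 1}).map ι).hom.app (op V) s := by
    rw [← hab]
    rfl
  rw [e]
  apply eq_of_val_eq
  intro x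
  rw [val_const_map, hs, hφ']

end Groth.Agent.Helper6.GenStalk
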