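import Mathlib

universe u

namespace Groth.Agent.Helper6.GeomTr

open CategoryTheory AlgebraicGeometry

theorem fieldStep {K L Ω : Type u} [Field K] [Field L] [Field Ω] [Algebra K L] [Normal K L]
    (ι₁ ι₂ : L →+* Ω) (h : ι₁.comp (algebraMap K L) = ι₂.comp (algebraMap K L)) :
    ∃ σ : L ≃ₐ[K] L, ∀ z, ι₂ z = ι₁ (σ z) := by
  letI : Algebra L Ω := ι₁.toAlgebra
  letI : Algebra K Ω := (ι₁.comp (algebraMap K L)).toAlgebra
  haveI : IsScalarTower K L Ω := IsScalarTower.of_algebraMap_eq (fun _ => rfl)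
  let ι₂' : L →ₐ[K] Ω := { ι₂ with commutes' := fun r => (RingHom.congr_fun h r).symm }
  refine ⟨Normal.algHomEquivAut K Ω L ι₂', fun z => ?_⟩
  have := (Normal.algHomEquivAut K Ω L).left_inv ι₂'
  exact (AlgHom.congr_fun this z).symm

theorem main {X S : Scheme.{u}} (q : X ⟶ S) {G : Type u} [Group G] (ρ : G →* Aut X)
    (hρ : ∀ g : G, (ρ g).hom ≫ q = q)
    (h1 : ∀ x y : X, q x = q y → ∃ g : G, (ρ g).hom x = y)
    (h2 : ∀ x : X, @Normal (S.residueField (q x)) (X.residueField x) _ _ (q.residueFieldMap x).hom.toAlgebra)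
    (h3 : ∀ (x : X) (σ : X.residueField x ≅ X.residueField x), q.residueFieldMap x ≫ σ.hom = q.residueFieldMap x →
      ∃ g : G, X.fromSpecResidueField x ≫ (ρ g).hom = Spec.map σ.hom ≫ X.fromSpecResidueField x)
    (Ω : Type u) [Field Ω] [IsAlgClosed Ω] (τ₁ τ₂ : Spec (CommRingCat.of Ω) ⟶ X) (hτ : τ₁ ≫ q = τ₂ ≫ q) :
    ∃ g : G, τ₁ ≫ (ρ g).hom = τ₂ := by
  -- reduce to the same point
  let cp : ↥(Spec (CommRingCat.of Ω)) := IsLocalRing.closedPoint Ω
  have hq : q (τ₁ cp) = q (τ₂ cp) := by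
    rw [← Scheme.Hom.comp_apply, ← Scheme.Hom.comp_apply, hτ]
  obtain ⟨g₀, hg₀⟩ := h1 _ _ hq
  -- key statement for two maps at the same point
  have key : ∀ (x : X) (ι₁ ι₂ : X.residueField x ⟶ CommRingCat.of Ω),
      (Spec.map ι₁ ≫ X.fromSpecResidueField x) ≫ q = (Spec.map ι₂ ≫ X.fromSpecResidueField x) ≫ q →
      ∃ g : G, (Spec.map ι₁ ≫ X.fromSpecResidueField x) ≫ (ρ g).hom =
        Spec.map ι₂ ≫ X.fromSpecResidueField x := by
    intro x ι₁ ι₂ h
    simp only [Category.assoc] at h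
    rw [← Scheme.Hom.SpecMap_residueFieldMap_fromSpecResidueField, ← Spec.map_comp_assoc,
      ← Spec.map_comp_assoc, cancel_mono] at h
    have h' : q.residueFieldMap x ≫ ι₁ = q.residueFieldMap x ≫ ι₂ := Spec.map_injective h
    letI := (q.residueFieldMap x).hom.toAlgebra
    haveI := h2 x
    obtain ⟨σ, hσ⟩ := fieldStep (K := S.residueField (q x)) ι₁.hom ι₂.hom (by
      ext z
      exact congrArg (fun f => f.hom z) h')
    let σi : X.residueField x ≅ X.residueField x := σ.toRingEquiv.toCommRingCatIso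
    obtain ⟨g, hg⟩ := h3 x σi (by
      ext z
      exact σ.commutes z)
    refine ⟨g, ?_⟩
    rw [Category.assoc, hg, ← Category.assoc, ← Spec.map_comp]
    congr 2
    ext z
    exact (hσ z).symm
  -- factor both maps through the residue field of x₂
  set x₂ := τ₂ cp with hx₂
  have e₂ := Scheme.descResidueField_stalkClosedPointTo_fromSpecResidueField Ω X τ₂
  have hpt : (τ₁ ≫ (ρ g₀).hom) cp = x₂ := by
    rw [Scheme.Hom.comp_apply]; exact hg₀
  have e₁ := Scheme.descResidueField_stalkClosedPointTo_fromSpecResidueField Ω X (τ₁ ≫ (ρ g₀).hom)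
  rw [← Scheme.residueFieldCongr_fromSpecResidueField hpt.symm, ← Spec.map_comp_assoc] at e₁
  have hcond : (τ₁ ≫ (ρ g₀).hom) ≫ q = τ₂ ≫ q := by
    rw [Category.assoc, hρ, hτ]
  rw [← e₁, ← e₂] at hcond
  obtain ⟨g, hg⟩ := key x₂ _ _ hcond
  rw [e₁, e₂] at hg
  refine ⟨g * g₀, ?_⟩
  rw [← hg, Category.assoc]
  congr 1
  rw [map_mul]
  rfl

end Groth.Agent.Helper6.GeomTr
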