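import Mathlib

universe u

namespace Groth.Agent.Helper6.GeomTr2

open CategoryTheory CategoryTheory.Limits AlgebraicGeometry

/-- geometric transitivity ⇒ for every point `z` of `Y ×_S X` there is `g` such that
the geometric point over `z` is a graph point. -/
theorem geomPt {X S Y : Scheme.{u}} (q : X ⟶ S) {G : Type u} [Group G] (ρ : G →* Aut X)
    (htrans : ∀ (Ω : Type u) [Field Ω] [IsAlgClosed Ω] (τ₁ τ₂ : Spec (CommRingCat.of Ω) ⟶ X),
      τ₁ ≫ q = τ₂ ≫ q → ∃ g : G, τ₁ ≫ (ρ g).hom = τ₂)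
    (r : Y ⟶ X) (z : ↥(pullback (r ≫ q) q)) :
    ∃ g : G, (ρ g).hom (r (pullback.fst (r ≫ q) q z)) = pullback.snd (r ≫ q) q z := by
  let P := pullback (r ≫ q) q
  let K := P.residueField z
  let Ω := AlgebraicClosure K
  let t : Spec (CommRingCat.of Ω) ⟶ P :=
    Spec.map (CommRingCat.ofHom (algebraMap K Ω)) ≫ P.fromSpecResidueField z
  let cp : ↥(Spec (CommRingCat.of Ω)) := IsLocalRing.closedPoint Ω
  have ht : t cp = z := by
    simp only [t, Scheme.Hom.comp_apply]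
    exact Scheme.fromSpecResidueField_apply _ _
  obtain ⟨g, hg⟩ := htrans Ω (t ≫ pullback.fst _ _ ≫ r) (t ≫ pullback.snd _ _) (by
    simp only [Category.assoc]
    rw [pullback.condition])
  refine ⟨g, ?_⟩
  have := congrArg (fun f => f cp) hg
  simp only [Scheme.Hom.comp_apply, ht] at this
  exact this

theorem ptTrans {X S : Scheme.{u}} (q : X ⟶ S) {G : Type u} [Group G] (ρ : G →* Aut X)
    (htrans : ∀ (Ω : Type u) [Field Ω] [IsAlgClosed Ω] (τ₁ τ₂ : Spec (CommRingCat.of Ω) ⟶ X),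
      τ₁ ≫ q = τ₂ ≫ q → ∃ g : G, τ₁ ≫ (ρ g).hom = τ₂)
    (x y : X) (h : q x = q y) : ∃ g : G, (ρ g).hom x = y := by
  obtain ⟨z, hzx, hzy⟩ := Scheme.Pullback.exists_preimage_pullback (f := 𝟙 X ≫ q) (g := q) x y
    (by simpa using h)
  obtain ⟨g, hg⟩ := geomPt q ρ htrans (𝟙 X) z
  refine ⟨g, ?_⟩
  rw [hzx, hzy] at hg
  simpa using hg

theorem compStep {X S : Scheme.{u}} (q : X ⟶ S) {G : Type u} [Group G] (ρ : G →* Aut X)
    (hpt : ∀ x y : X, q x = q y → ∃ g : G, (ρ g).hom x = y)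
    (T₀ T : Set X) (hT₀ : T₀ ∈ irreducibleComponents ↥X) (hT : T ∈ irreducibleComponents ↥X)
    (h0 : Set.image (fun x => q x) T₀ = Set.univ) :
    ∃ g : G, Set.image (fun x => (ρ g).hom x) T₀ = T := by
  have hTirr : IsIrreducible T := hT.1
  have hTcl : IsClosed T := isClosed_of_mem_irreducibleComponents T hT
  obtain ⟨ξ, hξ⟩ := QuasiSober.sober hTirr hTcl
  have : q ξ ∈ Set.image (fun x => q x) T₀ := by rw [h0]; trivial
  obtain ⟨x, hx, hxq⟩ := this
  obtain ⟨g, hg⟩ := hpt x ξ hxq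
  refine ⟨g, ?_⟩
  let e : X ≃ₜ X := Scheme.homeoOfIso (ρ g)
  have he : ∀ y, e y = (ρ g).hom y := fun y => rfl
  have himg : IsIrreducible (Set.image (fun x => (ρ g).hom x) T₀) :=
    hT₀.1.image _ (ρ g).hom.continuous.continuousOn
  have hcl : IsClosed (Set.image (fun x => (ρ g).hom x) T₀) :=
    e.isClosedMap _ (isClosed_of_mem_irreducibleComponents T₀ hT₀)
  have hsub : T ⊆ Set.image (fun x => (ρ g).hom x) T₀ := by
    rw [← hξ.def]
    apply hcl.closure_subset_iff.mpr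
    rintro _ rfl
    exact ⟨x, hx, hg⟩
  exact (hT.eq_of_subset himg hsub).symm

theorem comps {X S : Scheme.{u}} [IrreducibleSpace ↥S] (q : X ⟶ S) [IsFinite q] [Surjective q]
    {G : Type u} [Group G] (ρ : G →* Aut X)
    (hρ : ∀ g : G, (ρ g).hom ≫ q = q)
    (hpt : ∀ x y : X, q x = q y → ∃ g : G, (ρ g).hom x = y) :
    (∀ T ∈ irreducibleComponents ↥X, Set.image (fun x => q x) T = Set.univ) ∧
      ∀ T₁ ∈ irreducibleComponents ↥X, ∀ T₂ ∈ irreducibleComponents ↥X,
        ∃ g : G, Set.image (fun x => (ρ g).hom x) T₁ = T₂ := by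
  have h1 : ∀ T ∈ irreducibleComponents ↥X, Set.image (fun x => q x) T = Set.univ := by
    obtain ⟨ξ, hξ⟩ := q.surjective (genericPoint S)
    have hT₀ := irreducibleComponent_mem_irreducibleComponents ξ
    have h0 : Set.image (fun x => q x) (irreducibleComponent ξ) = Set.univ := by
      have hcl : IsClosed (Set.image (fun x => q x) (irreducibleComponent ξ)) :=
        q.isClosedMap _ isClosed_irreducibleComponent
      rw [← Set.univ_subset_iff, ← (genericPoint_spec S).def]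
      apply hcl.closure_subset_iff.mpr
      rintro _ rfl
      exact ⟨ξ, mem_irreducibleComponent, hξ⟩
    intro T hT
    obtain ⟨g, rfl⟩ := compStep q ρ hpt _ T hT₀ hT h0
    rw [Set.image_image]
    rw [← h0]
    congr 1
    ext x
    exact congrArg (fun f : X ⟶ S => f x) (hρ g)
  exact ⟨h1, fun T₁ hT₁ T₂ hT₂ => compStep q ρ hpt T₁ T₂ hT₁ hT₂ (h1 T₁ hT₁)⟩

end Groth.Agent.Helper6.GeomTr2
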