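import Mathlib
import Groth.Prelude.Def_SGA1
import Groth.Agent.Helper6.GeomTr3

universe u w

namespace Groth.Agent.Helper6.GeomTr4

open CategoryTheory CategoryTheory.Limits AlgebraicGeometry
open Groth.Agent.Helper6.GeomTr3

theorem univSubm_of_finite_surj {X Y : Scheme.{u}} (f : X ⟶ Y) [IsFinite f] [Surjective f] :
    SGA1.UnivSubmersive f := by
  intro X' Y' i₁ i₂ f' h
  have hs : Surjective f' := MorphismProperty.of_isPullback h.flip inferInstance
  have hc : UniversallyClosed f' := MorphismProperty.of_isPullback h.flip inferInstance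
  exact IsClosedMap.isQuotientMap f'.isClosedMap f'.continuous f'.surjective

/-- A finite family of finite morphisms, jointly surjective, satisfies the qfh-cover hypotheses. -/
theorem sheafFor_of_finite {T : Scheme.{u}} (F : Scheme.{u}ᵒᵖ ⥤ Type w)
    (hF : ∀ ⦃T : Scheme.{u}⦄ (E : PreZeroHypercover.{u} T), Finite E.I₀ →
      (∀ i, LocallyOfFiniteType (E.f i)) → (∀ i, QuasiCompact (E.f i)) →
      (∀ i, LocallyQuasiFinite (E.f i)) → SGA1.UnivSubmersive (Sigma.desc E.f) →
      Presieve.IsSheafFor F E.presieve₀)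
    (E : PreZeroHypercover.{u} T) [Finite E.I₀] (hfin : ∀ i, IsFinite (E.f i))
    (hsurj : Surjective (Sigma.desc E.f)) :
    Presieve.IsSheafFor F E.presieve₀ := by
  haveI := isFinite_sigmaDesc E.I₀ E.X E.f hfin
  exact hF E inferInstance (fun i => inferInstance) (fun i => inferInstance)
    (fun i => inferInstance) (univSubm_of_finite_surj _)

theorem main {X S : Scheme.{u}} (q : X ⟶ S) [IsFinite q] [Surjective q]
    {G : Type u} [Group G] [Finite G] (ρ : G →* Aut X) (hρ : ∀ g : G, (ρ g).hom ≫ q = q)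
    (htrans : ∀ (Ω : Type u) [Field Ω] [IsAlgClosed Ω] (τ₁ τ₂ : Spec (CommRingCat.of Ω) ⟶ X),
      τ₁ ≫ q = τ₂ ≫ q → ∃ g : G, τ₁ ≫ (ρ g).hom = τ₂)
    (F : Scheme.{u}ᵒᵖ ⥤ Type w)
    (hF : ∀ ⦃T : Scheme.{u}⦄ (E : PreZeroHypercover.{u} T), Finite E.I₀ →
      (∀ i, LocallyOfFiniteType (E.f i)) → (∀ i, QuasiCompact (E.f i)) →
      (∀ i, LocallyQuasiFinite (E.f i)) → SGA1.UnivSubmersive (Sigma.desc E.f) →
      Presieve.IsSheafFor F E.presieve₀) :
    Function.Injective (F.map q.op) ∧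
      Set.range (F.map q.op) = {f : F.obj (Opposite.op X) | ∀ g : G, F.map (ρ g).hom.op f = f} := by
  have mc : ∀ {A B C : Scheme.{u}} (f : A ⟶ B) (g : B ⟶ C) (a : F.obj (Opposite.op C)),
      F.map f.op (F.map g.op a) = F.map (f ≫ g).op a := by
    intro A B C f g a
    rw [op_comp, Functor.map_comp_apply]
  -- the cover {q}
  let E₁ : PreZeroHypercover.{u} S := ⟨PUnit.{u+1}, fun _ => X, fun _ => q⟩
  have hE₁ : Presieve.IsSheafFor F E₁.presieve₀ := by
    refine sheafFor_of_finite F hF E₁ (fun _ => inferInstanceAs (IsFinite q)) ?_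
    have : Sigma.ι E₁.X PUnit.unit ≫ Sigma.desc E₁.f = q := Sigma.ι_desc _ _
    have hs : Surjective (Sigma.ι E₁.X PUnit.unit ≫ Sigma.desc E₁.f) := by rw [this]; infer_instance
    exact Surjective.of_comp (Sigma.ι E₁.X PUnit.unit) _
  rw [Presieve.isSheafFor_arrows_iff] at hE₁
  -- the cover of the fibre square by graphs
  let P := pullback (𝟙 X ≫ q) q
  let γ : G → (X ⟶ P) := fun g => pullback.lift (𝟙 X) (ρ g).hom (by
    rw [Category.id_comp, Category.id_comp, hρ])
  let E₂ : PreZeroHypercover.{u} P := ⟨G, fun _ => X, γ⟩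
  have hγ₁ : ∀ g, γ g ≫ pullback.fst (𝟙 X ≫ q) q = 𝟙 X := fun g => pullback.lift_fst _ _ _
  have hγ₂ : ∀ g, γ g ≫ pullback.snd (𝟙 X ≫ q) q = (ρ g).hom := fun g => pullback.lift_snd _ _ _
  have hE₂ : Presieve.IsSheafFor F E₂.presieve₀ := by
    have hgc := graphCover q ρ htrans (𝟙 X) (Sigma.desc γ)
      (fun σ => by rw [Sigma.ι_desc_assoc]; exact hγ₁ σ)
      (fun σ => by rw [Sigma.ι_desc_assoc]; exact (hγ₂ σ).trans (Category.id_comp _).symm)
    refine sheafFor_of_finite F hF E₂ (fun g => ?_) hgc.2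
    haveI : IsFinite (γ g ≫ pullback.fst (𝟙 X ≫ q) q) := by rw [hγ₁]; infer_instance
    exact IsFinite.of_comp (γ g) (pullback.fst (𝟙 X ≫ q) q)
  rw [Presieve.isSheafFor_arrows_iff] at hE₂
  have sep₂ : ∀ a b : F.obj (Opposite.op P), (∀ g, F.map (γ g).op a = F.map (γ g).op b) → a = b := by
    intro a b hab
    obtain ⟨t, _, ht⟩ := hE₂ (fun g => F.map (γ g).op a) (by
      intro i j Z gi gj h
      show F.map gi.op (F.map (γ i).op a) = F.map gj.op (F.map (γ j).op a)
      rw [mc, mc, show gi ≫ γ i = gj ≫ γ j from h])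
    rw [ht a (fun _ => rfl), ht b (fun g => (hab g).symm)]
  constructor
  · intro a b hab
    obtain ⟨t, _, ht⟩ := hE₁ (fun _ => F.map q.op a) (by
      intro i j Z gi gj h
      show F.map gi.op (F.map q.op a) = F.map gj.op (F.map q.op a)
      rw [mc, mc, show gi ≫ q = gj ≫ q from h])
    rw [ht a (fun _ => rfl), ht b (fun _ => hab.symm)]
  · ext f
    constructor
    · rintro ⟨a, rfl⟩ g
      rw [mc, hρ]
    · intro hf
      have hf' : ∀ g : G, F.map (ρ g).hom.op f = f := hf
      have key : F.map (pullback.fst (𝟙 X ≫ q) q).op f = F.map (pullback.snd (𝟙 X ≫ q) q).op f := by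
        apply sep₂
        intro g
        rw [mc, mc, hγ₁, hγ₂, hf' g]
        simp
      obtain ⟨t, ht, _⟩ := hE₁ (fun _ => f) (by
        intro i j Z gi gj h
        have h' : gi ≫ q = gj ≫ q := h
        let l : Z ⟶ P := pullback.lift gi gj (by rw [Category.id_comp, h'])
        have h1 : gi = l ≫ pullback.fst (𝟙 X ≫ q) q := (pullback.lift_fst _ _ _).symm
        have h2 : gj = l ≫ pullback.snd (𝟙 X ≫ q) q := (pullback.lift_snd _ _ _).symm
        show F.map gi.op f = F.map gj.op f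
        rw [h1, h2, ← mc, ← mc, key])
      exact ⟨t, ht PUnit.unit⟩

end Groth.Agent.Helper6.GeomTr4
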