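import Mathlib
import Groth.Agent.Helper9.ExtNat

/-! Low-degree consequences of the Leray spectral sequence, abstractly: for an adjunction `L ⊣ R`
between abelian categories with `L` exact, the canonical map `Ext^1(A, R F) → Ext^1(L A, F)` is
injective, and so is `Ext^2(A, R F) → Ext^2(L A, F)` when `R^1 R F = 0`. -/

set_option autoImplicit false
set_option linter.style.haveILetI false
set_option linter.unusedSectionVars false
set_option linter.unusedVariables false
set_option linter.unusedSimpArgs false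

universe w v₁ v₂ u₁ u₂

namespace Groth.Agent.Helper6.LerayLowA

open CategoryTheory CategoryTheory.Limits Abelian Groth.Agent.Helper9.ExtNat

variable {𝒜 : Type u₁} [Category.{v₁} 𝒜] [Abelian 𝒜] {ℬ : Type u₂} [Category.{v₂} ℬ] [Abelian ℬ]
  [HasExt.{w} 𝒜] [HasExt.{w} ℬ]
  {L : 𝒜 ⥤ ℬ} {R : ℬ ⥤ 𝒜} (adj : L ⊣ R) [L.Additive]
  [PreservesFiniteLimits L] [PreservesFiniteColimits L]

/-- `Ext^n(A, R F) → Ext^n(L A, F)` -/
noncomputable def φ (A : 𝒜) (F : ℬ) (n : ℕ) : Ext.{w} A (R.obj F) n →+ Ext.{w} (L.obj A) F n :=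
  ((Ext.mk₀ (adj.counit.app F)).postcomp (L.obj A) (add_zero n)).comp
    (L.mapExtAddHom A (R.obj F) n)

lemma φ_apply (A : 𝒜) (F : ℬ) (n : ℕ) (e : Ext.{w} A (R.obj F) n) :
    φ adj A F n e = (e.mapExactFunctor L).comp (Ext.mk₀ (adj.counit.app F)) (add_zero n) := rfl

omit [PreservesFiniteLimits L] [PreservesFiniteColimits L] [L.Additive] in
lemma comp_extClass_map {A : 𝒜} {T : ShortComplex 𝒜} (hT : T.ShortExact) {S : ShortComplex ℬ}
    (hS : S.ShortExact) [L.Additive] [PreservesFiniteLimits L] [PreservesFiniteColimits L]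
    (τ : T.map L ⟶ S) {n : ℕ} (β : Ext.{w} A T.X₃ n) :
    ((β.comp hT.extClass rfl : Ext.{w} A T.X₁ (n + 1)).mapExactFunctor L).comp
        (Ext.mk₀ τ.τ₁) (add_zero (n + 1)) =
      ((β.mapExactFunctor L).comp (Ext.mk₀ τ.τ₃) (add_zero n)).comp hS.extClass rfl := by
  have hnat := ShortComplex.ShortExact.extClass_naturality (hT.map_of_exact L) hS τ
  rw [Ext.mapExactFunctor_comp, Ext.mapExactFunctor_extClass]
  exact (Ext.comp_assoc_of_third_deg_zero _ _ _ _).trans
    ((congrArg (fun z => (β.mapExactFunctor L).comp z rfl) hnat).trans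
      (Ext.comp_assoc_of_second_deg_zero _ _ _ _).symm)

variable [EnoughInjectives ℬ]

theorem φ_injective_one (A : 𝒜) (F : ℬ) : Function.Injective (φ adj A F 1) := by
  rw [injective_iff_map_eq_zero]
  intro ξ hξ
  rw [φ_apply] at hξ
  haveI : R.Additive := adj.right_adjoint_additive
  haveI : PreservesLimitsOfSize.{0, 0} R := adj.rightAdjoint_preservesLimits
  let S := sc F
  have hS : S.ShortExact := sc_shortExact F
  haveI : Mono S.f := hS.mono_f
  haveI : Mono (R.map S.f) := inferInstance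
  haveI : Injective (R.obj S.X₂) := Injective.injective_of_adjoint adj _
  let T : ShortComplex 𝒜 :=
    ShortComplex.mk (R.map S.f) (cokernel.π (R.map S.f)) (cokernel.condition _)
  have hT : T.ShortExact := ⟨ShortComplex.exact_cokernel _⟩
  let κ : T.X₃ ⟶ R.obj S.X₃ :=
    cokernel.desc (R.map S.f) (R.map S.g) (by rw [← R.map_comp, S.zero, R.map_zero])
  have hκ : T.g ≫ κ = R.map S.g := cokernel.π_desc _ _ _
  have hRS : (S.map R).Exact :=
    hS.exact.map_of_mono_of_preservesKernel R hS.mono_f inferInstance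
  haveI : Mono κ := hRS.mono_cokernelDesc
  -- ξ comes from β : A ⟶ T.X₃
  have h0 : ξ.comp (Ext.mk₀ T.f) (add_zero 1) = 0 := Ext.eq_zero_of_injective _
  obtain ⟨β₀, hβ₀⟩ := Ext.covariant_sequence_exact₁ A hT ξ h0 rfl
  obtain ⟨β, rfl⟩ := (Ext.mk₀_bijective A T.X₃).2 β₀
  -- the morphism of short complexes
  let τ : T.map L ⟶ S := ShortComplex.homMk (adj.counit.app S.X₁) (adj.counit.app S.X₂)
    (L.map κ ≫ adj.counit.app S.X₃) (by
      show adj.counit.app _ ≫ S.f = L.map (R.map S.f) ≫ adj.counit.app _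
      exact (adj.counit.naturality S.f).symm) (by
      show adj.counit.app _ ≫ S.g = L.map (cokernel.π (R.map S.f)) ≫ L.map κ ≫ adj.counit.app _
      rw [← L.map_comp_assoc]
      erw [hκ]
      exact (adj.counit.naturality S.g).symm)
  have key := comp_extClass_map (L := L) hT hS τ (Ext.mk₀ β)
  rw [hβ₀] at key
  have hξ' : (((Ext.mk₀ β).mapExactFunctor L).comp (Ext.mk₀ τ.τ₃) (add_zero 0)).comp
      hS.extClass rfl = (0 : Ext.{w} (L.obj A) S.X₁ 1) := key.symm.trans hξ
  obtain ⟨γ₀, hγ₀⟩ := Ext.covariant_sequence_exact₃ (L.obj A) hS _ rfl hξ'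
  obtain ⟨γ, rfl⟩ := (Ext.mk₀_bijective _ _).2 γ₀
  rw [Ext.mapExactFunctor_mk₀, Ext.mk₀_comp_mk₀, Ext.mk₀_comp_mk₀] at hγ₀
  have hγ : γ ≫ S.g = L.map β ≫ L.map κ ≫ adj.counit.app S.X₃ :=
    (Ext.mk₀_bijective _ _).1 hγ₀
  -- adjoint of γ
  let β' : A ⟶ R.obj S.X₂ := adj.homEquiv A S.X₂ γ
  have hβ' : β' ≫ T.g = β := by
    rw [← cancel_mono κ, Category.assoc, hκ]
    have h1 : β' ≫ R.map S.g = adj.homEquiv A S.X₃ (γ ≫ S.g) :=
      (adj.homEquiv_naturality_right γ S.g).symm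
    rw [h1, hγ, ← L.map_comp_assoc]
    have h2 : L.map (β ≫ κ) ≫ adj.counit.app S.X₃ = (adj.homEquiv A S.X₃).symm (β ≫ κ) :=
      (Adjunction.homEquiv_counit adj _ _ _).symm
    rw [h2, Equiv.apply_symm_apply]
  rw [← hβ₀, ← hβ', ← Ext.mk₀_comp_mk₀, Ext.comp_assoc_of_second_deg_zero, hT.comp_extClass,
    Ext.comp_zero]

theorem φ_injective_two (A : 𝒜) {S : ShortComplex ℬ} (hS : S.ShortExact) [Injective S.X₂]
    [Epi (R.map S.g)] : Function.Injective (φ adj A S.X₁ 2) := by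
  rw [injective_iff_map_eq_zero]
  intro ξ hξ
  rw [φ_apply] at hξ
  haveI : R.Additive := adj.right_adjoint_additive
  haveI : PreservesLimitsOfSize.{0, 0} R := adj.rightAdjoint_preservesLimits
  haveI : Mono S.f := hS.mono_f
  haveI : Mono (R.map S.f) := inferInstance
  haveI : Injective (R.obj S.X₂) := Injective.injective_of_adjoint adj _
  have hRS : (S.map R).Exact :=
    hS.exact.map_of_mono_of_preservesKernel R hS.mono_f inferInstance
  haveI : Mono (S.map R).f := ‹Mono (R.map S.f)›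
  haveI : Epi (S.map R).g := ‹Epi (R.map S.g)›
  haveI : Injective (S.map R).X₂ := ‹Injective (R.obj S.X₂)›
  have hT : (S.map R).ShortExact := ⟨hRS⟩
  have h0 : ξ.comp (Ext.mk₀ (S.map R).f) (add_zero 2) = 0 := Ext.eq_zero_of_injective _
  obtain ⟨β, hβ⟩ := Ext.covariant_sequence_exact₁ A hT ξ h0 rfl
  let τ : (S.map R).map L ⟶ S := ShortComplex.homMk (adj.counit.app S.X₁) (adj.counit.app S.X₂)
    (adj.counit.app S.X₃) (adj.counit.naturality S.f).symm (adj.counit.naturality S.g).symm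
  have key := comp_extClass_map (L := L) hT hS τ β
  rw [hβ] at key
  have h1 : (φ adj A S.X₃ 1 β).comp hS.extClass rfl = (0 : Ext.{w} (L.obj A) S.X₁ 2) :=
    key.symm.trans hξ
  obtain ⟨x₂, hx₂⟩ := Ext.covariant_sequence_exact₃ (L.obj A) hS _ rfl h1
  have hx0 : x₂ = 0 := Ext.eq_zero_of_injective _
  have h2 : φ adj A S.X₃ 1 β = 0 := by rw [← hx₂, hx0, Ext.zero_comp]
  have h3 : β = 0 := (injective_iff_map_eq_zero _).1 (φ_injective_one adj A S.X₃) β h2
  rw [← hβ, h3, Ext.zero_comp]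
  rfl

end Groth.Agent.Helper6.LerayLowA
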