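import Mathlib
import Groth.Prelude.Def_EtBase
import Groth.Prelude.Def_EtCore
import Groth.Prelude.Def_EtLim
import Groth.Agent.Helper6.LerayLowA

/-! Low-degree Leray for étale sheaves: `H^1(X, u_* F) → H^1(Y, F)` is injective, and
`H^2(X, u_* F) → H^2(Y, F)` is injective when `R^1 u_* F = 0`. -/

set_option autoImplicit false
set_option linter.style.haveILetI false
set_option linter.unusedSectionVars false
set_option linter.unusedVariables false
set_option linter.unusedSimpArgs false

universe u

open CategoryTheory CategoryTheory.Limits Opposite AlgebraicGeometry Abelian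

namespace Groth.Agent.Helper6.LerayLowB

open Groth.Agent.Helper6.LerayLowA

variable {X Y : Scheme.{u}} (f : X ⟶ Y) [PreservesFiniteLimits (EtCoh.pull f)]

lemma HofPush_eq (F : EtCoh.Ab X) (n : ℕ) (ζ : EtCoh.H Y ((EtCoh.push f).obj F) n) :
    EtLim.HofPush f F n ζ =
      (Ext.mk₀ (EtCore.pullConst f ℤ).inv).comp (φ (EtCoh.pullPushAdj f) _ F n ζ) (zero_add n) := by
  show Sheaf.H.map ((EtCoh.pullPushAdj f).counit.app F) n
      (EtCore.Hpull f ((EtCoh.push f).obj F) n ζ) = _
  rw [Sheaf.H.map_apply, φ_apply]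
  simp only [EtCore.Hpull, AddMonoidHom.coe_comp, AddMonoidHom.mk'_apply, Function.comp_apply,
    Functor.mapExtAddHom_apply]
  exact Ext.comp_assoc_of_third_deg_zero _ _ _ _

lemma injective_of_φ (F : EtCoh.Ab X) (n : ℕ)
    (h : Function.Injective (φ (EtCoh.pullPushAdj f) (EtCoh.const Y ℤ) F n)) :
    Function.Injective (EtLim.HofPush f F n) := by
  intro a b hab
  rw [HofPush_eq, HofPush_eq] at hab
  apply h
  have h1 := congrArg (fun t => (Ext.mk₀ (EtCore.pullConst f ℤ).hom).comp t (zero_add n)) hab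
  simp only [Ext.mk₀_comp_mk₀_assoc, Iso.hom_inv_id, Ext.mk₀_id_comp] at h1
  exact h1

theorem HofPush_injective_one (F : EtCoh.Ab X) : Function.Injective (EtLim.HofPush f F 1) :=
  injective_of_φ f F 1 (φ_injective_one _ _ _)

theorem HofPush_injective_two {S : ShortComplex (EtCoh.Ab X)} (hS : S.ShortExact)
    [Injective S.X₂] [Epi ((EtCoh.push f).map S.g)] :
    Function.Injective (EtLim.HofPush f S.X₁ 2) :=
  injective_of_φ f S.X₁ 2 (φ_injective_two _ _ hS)

end Groth.Agent.Helper6.LerayLowB
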