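import Mathlib
import Groth.Prelude.Def_EtBase
import Groth.Prelude.Def_EtCore
import Groth.Agent.Helper4.ConstLoc
import Groth.Agent.Helper6.GalDescA
import Groth.Agent.Helper6.GalDescC
import Groth.Agent.Helper6.GalDescD
import Groth.Agent.Helper6.GalDescI
import Groth.Agent.Helper6.GalDescJ

/-! `H^1(Spec k, M) = 0` for the constant sheaf of a torsion-free abelian group `M`. -/

set_option autoImplicit false
set_option linter.style.haveILetI false
set_option linter.unusedSectionVars false
set_option linter.unusedVariables false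
set_option linter.unusedSimpArgs false

universe u

open CategoryTheory CategoryTheory.Limits Opposite AlgebraicGeometry Abelian

namespace Groth.Agent.Helper6.LerayLowF

open Groth.Agent.Helper4.ConstLoc Groth.Agent.Helper9

lemma comp_nsmul' {𝒜 : Type*} [Category 𝒜] [Abelian 𝒜] [HasExt.{u + 1} 𝒜] {A B C : 𝒜} {a b c : ℕ}
    (x : Ext.{u + 1} A B a) (y : Ext.{u + 1} B C b)
    (h : a + b = c) (N : ℕ) : x.comp (N • y) h = N • x.comp y h := by
  induction N with
  | zero => rw [zero_nsmul, zero_nsmul, Ext.comp_zero]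
  | succ N ih => rw [succ_nsmul, succ_nsmul, Ext.comp_add, ih]

variable (k : Type u) [Field k]

/-- global sections of a constant sheaf over a field are constants -/
lemma exists_const_top (N : AddCommGrpCat.{u + 1})
    (t : (cS (Spec (CommRingCat.of k)) N).obj.obj (op (EtCoh.top (Spec (CommRingCat.of k))))) :
    ∃ n : N, t = (η (Spec (CommRingCat.of k)) N).app (op (EtCoh.top _)) n := by
  obtain ⟨pt⟩ : Nonempty ↥(Spec (CommRingCat.of k)) := inferInstance
  obtain ⟨W', g, x', n, hx, hn⟩ := exists_const N (EtCoh.top (Spec (CommRingCat.of k))) t pt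
  refine ⟨n, ?_⟩
  apply GalDescA.ext_of_jointly_surjective ((cS (Spec (CommRingCat.of k)) N).obj ⋙ forget _)
    (GalDescC.isSheaf_forget _) (fun _ : Unit => W') (fun _ => g) ?_ _ _ ?_
  · intro x
    exact ⟨(), x', Subsingleton.elim (α := PrimeSpectrum k) _ _⟩
  · intro _
    exact hn.trans (η_map N g n).symm

theorem H1_const_eq_zero (M : Type) [AddCommGroup M] [IsAddTorsionFree M]
    (x : EtCoh.H (Spec (CommRingCat.of k)) (EtCoh.const (Spec (CommRingCat.of k)) M) 1) :
    x = 0 := by
  obtain ⟨d, hd, hx⟩ := isOfFinAddOrder_iff_nsmul_eq_zero.1 (GalDescI.isOfFinAddOrder k 0 _ x)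
  let N : AddCommGrpCat.{u + 1} := AddCommGrpCat.of (ULift.{u + 1} M)
  let fN : N ⟶ N := d • 𝟙 N
  haveI : Mono fN := by
    rw [AddCommGrpCat.mono_iff_injective]
    intro a b hab
    have h1 : d • a = d • b := by
      have := hab
      simpa [fN] using this
    have h2 : d • a.down = d • b.down := congrArg ULift.down h1
    exact ULift.ext _ _ (nsmul_right_injective hd.ne' h2)
  let S : ShortComplex AddCommGrpCat.{u + 1} :=
    ShortComplex.mk fN (cokernel.π fN) (cokernel.condition _)
  have hS : S.ShortExact := ⟨ShortComplex.exact_cokernel _⟩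
  let C := constantSheaf (Spec (CommRingCat.of k)).smallEtaleTopology AddCommGrpCat.{u + 1}
  have hS' := hS.map_of_exact C
  have hf : C.map fN = d • 𝟙 (C.obj N) := by
    show C.map (d • 𝟙 N) = _
    rw [Functor.map_nsmul, C.map_id]
  have h0 : x.comp (Ext.mk₀ (S.map C).f) (add_zero 1) = 0 := by
    show x.comp (Ext.mk₀ (C.map fN)) (add_zero 1) = 0
    rw [hf, GalDescI.mk₀_nsmul, comp_nsmul', Ext.comp_mk₀_id]
    exact hx
  obtain ⟨y, hy⟩ := Ext.covariant_sequence_exact₁ _ hS' x h0 rfl
  obtain ⟨ψ, rfl⟩ := (Ext.mk₀_bijective _ _).2 y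
  obtain ⟨nbar, hnbar⟩ := exists_const_top k S.X₃
    ((ψ.hom.app (op (EtCoh.top _))).hom (GalDescD.one _))
  have hsurj : Function.Surjective S.g.hom := by
    haveI : Epi S.g := hS.epi_g
    exact (AddCommGrpCat.epi_iff_surjective S.g).1 inferInstance
  obtain ⟨n, rfl⟩ := hsurj nbar
  let ψ' : EtCoh.const (Spec (CommRingCat.of k)) ℤ ⟶ (S.map C).X₂ :=
    GalDescD.fromElt _ ((η (Spec (CommRingCat.of k)) N).app (op (EtCoh.top _)) n)
  have hψ : ψ' ≫ (S.map C).g = ψ := by
    apply GalDescD.hom_ext_one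
    rw [hnbar]
    show ((C.map S.g).hom.app _).hom ((ψ'.hom.app _).hom (GalDescD.one _)) = _
    rw [GalDescD.fromElt_one]
    exact const_map_η S.g (EtCoh.top _) n
  have hz : (Ext.mk₀ (S.map C).g).comp hS'.extClass (zero_add 1) = (0 : Ext.{u + 1} _ _ 1) :=
    hS'.comp_extClass
  rw [← hy, ← hψ, ← Ext.mk₀_comp_mk₀, Ext.comp_assoc_of_second_deg_zero, hz, Ext.comp_zero]
  rfl

end Groth.Agent.Helper6.LerayLowF
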