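import Mathlib
import Groth.Prelude.Def_EtBase
import Groth.Prelude.Def_EtCore
import Groth.Prelude.Def_EtLim
import Groth.Prelude.Def_Hensel
import Groth.Prelude.Def_CAlg2
import Groth.Agent.Helper5.UnrGu13
import Groth.Agent.Helper2.Unibr6
import Groth.Agent.Helper1.HensStrict
import Groth.Agent.Helper6.ConstUnitB
import Groth.Agent.Helper6.LerayLowB
import Groth.Agent.Helper6.LerayLowF
import Groth.Agent.S0101

/-! `H¹(X, M_X) = 0` for `X` irreducible and geometrically unibranch, `M` torsion-free. -/

set_option autoImplicit false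
set_option linter.style.haveILetI false
set_option linter.unusedSectionVars false
set_option linter.unusedVariables false
set_option linter.unusedSimpArgs false

universe u

open CategoryTheory CategoryTheory.Limits Opposite AlgebraicGeometry TopologicalSpace

namespace Groth.Agent.Helper6.GeomUniH1

open Groth.Agent.Helper4.ConstLoc Groth.Agent.Helper6.ConstUnitA IsLocalRing
  Groth.Agent.Helper1.Hens Groth.Agent.Helper1

lemma hasUniqueMinimalPrime_of_irreducibleSpace (S : Type u) [CommRing S]
    [IrreducibleSpace (PrimeSpectrum S)] : CAlgX.HasUniqueMinimalPrime S := by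
  have h1 : (nilradical S).IsPrime := by
    have := (PrimeSpectrum.isIrreducible_iff_vanishingIdeal_isPrime
      (s := (Set.univ : Set (PrimeSpectrum S)))).1 (IrreducibleSpace.isIrreducible_univ _)
    rwa [PrimeSpectrum.vanishingIdeal_univ] at this
  refine ⟨nilradical S, ⟨⟨h1, bot_le⟩, fun q hq _ => ?_⟩, fun q hq => ?_⟩
  · haveI := hq.1
    exact nilradical_le_prime q
  · haveI := hq.1.1
    exact le_antisymm (hq.2 ⟨h1, bot_le⟩ (nilradical_le_prime q)) (nilradical_le_prime q)

theorem isGeomUnibranch_of_forall (A : Type u) [CommRing A] [IsLocalRing A]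
    (h : ∀ (R : Type u) [CommRing R] [IsLocalRing R] [Algebra A R]
      [IsLocalHom (algebraMap A R)] [Hensel.IsStrictHenselization A R],
      IrreducibleSpace (PrimeSpectrum R)) : CAlg2.IsGeomUnibranch A := by
  letI : Algebra A (SeparableClosure (ResidueField A)) :=
    ((algebraMap (ResidueField A) (SeparableClosure (ResidueField A))).comp
      (IsLocalRing.residue A)).toAlgebra
  haveI : IsScalarTower A (ResidueField A) (SeparableClosure (ResidueField A)) :=
    IsScalarTower.of_algebraMap_eq (fun _ => rfl)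
  haveI hS : Hensel.IsStrictHenselization A (Hens A (SeparableClosure (ResidueField A))) :=
    isStrictHenselization
  haveI := h (Hens A (SeparableClosure (ResidueField A)))
  exact (Groth.Agent.Helper2.Unibr6.s2135 A (Hens A (SeparableClosure (ResidueField A)))).2
    (hasUniqueMinimalPrime_of_irreducibleSpace _)

variable {X : Scheme.{u}} [IrreducibleSpace X]

lemma nonempty_bc {X' : Scheme.{u}} (f : X' ⟶ X) (hf : genericPoint X ∈ Set.range f)
    (W : X.Etale) (hW : Nonempty W.left) : Nonempty ((EtCoh.bc f).obj W).left := by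
  obtain ⟨w₀⟩ := hW
  have hopen : IsOpen (Set.range W.hom) := W.hom.isOpenMap.isOpen_range
  have hmem : genericPoint X ∈ Set.range W.hom := by
    rw [(genericPoint_spec X).mem_open_set_iff hopen]
    exact ⟨W.hom w₀, trivial, w₀, rfl⟩
  obtain ⟨w, hw⟩ := hmem
  obtain ⟨x', hx'⟩ := hf
  obtain ⟨z, -, -⟩ := Scheme.Pullback.exists_preimage_pullback (f := W.hom) (g := f) w x'
    (hw.trans hx'.symm)
  exact ⟨z⟩

theorem exists_nbhd (hY : ∀ x : X, CAlg2.IsGeomUnibranch (X.presheaf.stalk x))
    {X' : Scheme.{u}} (f : X' ⟶ X) [IsPreimmersion f] (hf : Set.range f ⊆ {genericPoint X})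
    (U : X.Etale) (p : U.left) :
    ∃ (W : X.Etale) (g : W ⟶ U) (w : W.left), g.left w = p ∧
      PreconnectedSpace ((EtCoh.bc f).obj W).left := by
  obtain ⟨h1, h2⟩ := Groth.Agent.Helper5.UnrGu.s2787 (Y := X) (U.hom : U.left ⟶ X) hY
  obtain ⟨Z, ⟨hZ, hpZ⟩, -⟩ := h1 p
  obtain ⟨hZo, hZu⟩ := h2 Z hZ
  let Zo : U.left.Opens := ⟨Z, hZo⟩
  let W : X.Etale := Scheme.Etale.mk (Zo.ι ≫ U.hom)
  let g : W ⟶ U := MorphismProperty.Over.homMk Zo.ι rfl
  refine ⟨W, g, ⟨p, hpZ⟩, rfl, ?_⟩
  have hsub : Subsingleton ((EtCoh.bc f).obj W).left := by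
    constructor
    intro a b
    have key : ∀ z : ↥(pullback W.hom f), (Zo.ι (pullback.fst W.hom f z)) ∈ Z ∧
        U.hom.base (Zo.ι (pullback.fst W.hom f z)) = genericPoint X := by
      intro z
      refine ⟨(pullback.fst W.hom f z).2, ?_⟩
      have h3 : W.hom (pullback.fst W.hom f z) = f (pullback.snd W.hom f z) := by
        rw [← Scheme.Hom.comp_apply, pullback.condition, Scheme.Hom.comp_apply]
      exact h3.trans (hf ⟨_, rfl⟩)
    haveI : IsPreimmersion (pullback.fst W.hom f) := inferInstance
    apply (pullback.fst W.hom f).isEmbedding.injective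
    apply Zo.ι.isEmbedding.injective
    exact hZu.unique (key a) (key b)
  infer_instance

theorem isIso_c_generic (hY : ∀ x : X, CAlg2.IsGeomUnibranch (X.presheaf.stalk x))
    (N : AddCommGrpCat.{u + 1}) : IsIso (c (X.fromSpecResidueField (genericPoint X)) N) := by
  apply ConstUnitB.isIso_c N
  · intro W hW
    refine nonempty_bc _ ?_ W hW
    rw [Scheme.range_fromSpecResidueField]
    exact rfl
  · intro U p
    exact exists_nbhd hY _ (Scheme.range_fromSpecResidueField _).subset U p

omit [IrreducibleSpace X] in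
theorem H1_push_const (x : X) (M : Type) [AddCommGroup M] [IsAddTorsionFree M] :
    Subsingleton (EtCoh.H X ((EtCoh.push (X.fromSpecResidueField x)).obj
      (EtCoh.const (Spec (X.residueField x)) M)) 1) := by
  have hpfl : Limits.PreservesFiniteLimits (EtCoh.pull (X.fromSpecResidueField x)) :=
    Groth.Agent.S0101.result _
  refine ⟨fun a b => ?_⟩
  apply Groth.Agent.Helper6.LerayLowB.HofPush_injective_one (X.fromSpecResidueField x)
  have h := @Groth.Agent.Helper6.LerayLowF.H1_const_eq_zero (X.residueField x) inferInstance M _ _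
  exact (h (EtLim.HofPush (X.fromSpecResidueField x) _ 1 a)).trans
    (h (EtLim.HofPush (X.fromSpecResidueField x) _ 1 b)).symm

theorem main (hY : ∀ x : X, CAlg2.IsGeomUnibranch (X.presheaf.stalk x))
    (M : Type) [AddCommGroup M] [IsAddTorsionFree M] :
    Subsingleton (EtCoh.H X (EtCoh.const X M) 1) := by
  haveI := isIso_c_generic hY (AddCommGrpCat.of (ULift.{u + 1} M))
  have e := (EtCoh.HF X 1).mapIso
    (asIso (c (X.fromSpecResidueField (genericPoint X)) (AddCommGrpCat.of (ULift.{u + 1} M))))
  exact @Equiv.subsingleton _ _ e.addCommGroupIsoToAddEquiv.toEquiv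
    (H1_push_const (genericPoint X) M)

end Groth.Agent.Helper6.GeomUniH1
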