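import Mathlib
import Groth.Agent.Helper6.GerbNat2
import Groth.Agent.S12794

/-!
# Helper6: a morphism of gerbes inducing bijections on automorphism groups of pullbacks of a
global object is an equivalence
-/

set_option autoImplicit false
set_option linter.style.haveILetI false
set_option linter.unusedVariables false
universe v u

namespace Groth.Agent.Helper6.GerbEquiv
open CategoryTheory Functor FibCat Limits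
open Groth.Agent.Helper3 Groth.Agent.Helper6.StkGlue Groth.Agent.Helper6.GerbNat

variable {C : Type u} [Category.{v} C]

theorem lift_id_transport {𝒯 : BasedCategory.{v, max u v} C} {W : C} {a b : 𝒯.obj} (m : a ⟶ b)
    (hm : 𝒯.p.IsHomLift (𝟙 W) m) : 𝒯.p.IsHomLift (𝟙 (𝒯.p.obj a)) m := by
  have hW : 𝒯.p.obj a = W := IsHomLift.domain_eq 𝒯.p (𝟙 W) m
  have : ∀ (Z : C) (hZ : Z = W), 𝒯.p.IsHomLift (𝟙 Z) m := by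
    intro Z hZ
    subst hZ
    exact hm
  exact this _ hW

section

variable {𝒳 𝒴 : BasedCategory.{v, max u v} C} (hfg𝒳 : IsFibGrpd 𝒳.p) (hfg𝒴 : IsFibGrpd 𝒴.p)
  (φ : 𝒳 ⥤ᵇ 𝒴) (s : 𝒳.obj)
  (hφ : ∀ (x : 𝒳.obj) (c : x ⟶ s), Function.Bijective (Gerb.autMap φ x))

include hfg𝒳 hfg𝒴 hφ in
theorem eq_of_map_eq {z b : 𝒳.obj} (c : z ⟶ s) {W V : C} (f : W ⟶ V) (m m' : z ⟶ b)
    (hm : 𝒳.p.IsHomLift f m) (hm' : 𝒳.p.IsHomLift f m') (h : φ.map m = φ.map m') : m = m' := by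
  obtain ⟨α, hα1, hα2⟩ := exists_factor hfg𝒳 f m' hm' m hm
  have hα1' : 𝒳.p.IsHomLift (𝟙 (𝒳.p.obj z)) α := lift_id_transport α hα1
  haveI := FibGrpd.isGroupoid_fiber hfg𝒳 (𝒳.p.obj z)
  let αf : Gerb.fib z ⟶ Gerb.fib z := ⟨α, hα1'⟩
  let αA : Gerb.AutO z := asIso αf
  have hφm' : 𝒴.p.IsHomLift f (φ.map m') :=
    @BasedFunctor.preserves_isHomLift _ _ _ _ φ _ _ _ _ f m' hm'
  have hφα : 𝒴.p.IsHomLift (𝟙 W) (φ.map α) :=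
    @BasedFunctor.preserves_isHomLift _ _ _ _ φ _ _ _ _ (𝟙 W) α hα1
  have hW : 𝒴.p.obj (φ.obj z) = W := IsHomLift.domain_eq 𝒴.p (𝟙 W) (φ.map α)
  have hid : 𝒴.p.IsHomLift (𝟙 W) (𝟙 (φ.obj z)) := IsHomLift.id hW
  have e1 : φ.map α = 𝟙 (φ.obj z) := by
    refine cart_ext hfg𝒴 f (𝟙 W) (φ.map m') hφm' _ _ hφα hid ?_
    rw [← φ.toFunctor.map_comp, hα2, Category.id_comp, h]
  have e2 : Gerb.autMap φ z αA = 1 := by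
    apply Aut.ext
    apply Functor.Fiber.hom_ext
    exact e1
  have e3 : αA = 1 := (hφ z c).1 (e2.trans (map_one _).symm)
  have e4 : α = 𝟙 z := congrArg (fun a : Gerb.AutO z => a.hom.1) e3
  rw [← hα2, e4, Category.id_comp]

include hfg𝒳 hfg𝒴 hφ in
theorem exists_map_eq {z b : 𝒳.obj} (c : z ⟶ s) {W V : C} (f : W ⟶ V) (m₀ : z ⟶ b)
    (hm₀ : 𝒳.p.IsHomLift f m₀) (n' : φ.obj z ⟶ φ.obj b) (hn' : 𝒴.p.IsHomLift f n') :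
    ∃ m : z ⟶ b, 𝒳.p.IsHomLift f m ∧ φ.map m = n' := by
  have hφm₀ : 𝒴.p.IsHomLift f (φ.map m₀) :=
    @BasedFunctor.preserves_isHomLift _ _ _ _ φ _ _ _ _ f m₀ hm₀
  obtain ⟨β, hβ1, hβ2⟩ := exists_factor hfg𝒴 f (φ.map m₀) hφm₀ n' hn'
  have hβ1' : 𝒴.p.IsHomLift (𝟙 (𝒴.p.obj (φ.obj z))) β := lift_id_transport β hβ1
  haveI := FibGrpd.isGroupoid_fiber hfg𝒴 (𝒴.p.obj (φ.obj z))
  let βf : Gerb.fib (φ.obj z) ⟶ Gerb.fib (φ.obj z) := ⟨β, hβ1'⟩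
  let βA : Gerb.AutO (φ.obj z) := asIso βf
  obtain ⟨α, hα⟩ := (hφ z c).2 βA
  have hα1 : φ.map α.hom.1 = β := congrArg (fun a : Gerb.AutO (φ.obj z) => a.hom.1) hα
  refine ⟨α.hom.1 ≫ m₀, ?_, ?_⟩
  · exact @IsHomLift.comp_lift_id_left' _ _ _ _ 𝒳.p _ _ _ (𝒳.p.obj z) α.hom.1 α.hom.2 _ _ f m₀ hm₀
  · rw [φ.toFunctor.map_comp, hα1, hβ2]

include hfg𝒳 in
theorem exists_to_s (hterm : ∀ (T : C) (h₁ h₂ : T ⟶ 𝒳.p.obj s), h₁ = h₂) {W V : C} {y : 𝒳.obj}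
    (f : W ⟶ V) (hf : Rt hfg𝒳 s V y f) {z : 𝒳.obj} (ψ : z ⟶ y) (hψ : 𝒳.p.IsHomLift f ψ) :
    Nonempty (z ⟶ s) := by
  obtain ⟨w, a', c, ha'⟩ := hf
  obtain ⟨ψ', -, -⟩ := exists_factor hfg𝒳 f a' ha' ψ hψ
  exact ⟨ψ' ≫ c⟩

include hfg𝒳 in
theorem exists_local_hom (hterm : ∀ (T : C) (h₁ h₂ : T ⟶ 𝒳.p.obj s), h₁ = h₂) {W V : C}
    {b : 𝒳.obj} (f : W ⟶ V) (hf : Rt hfg𝒳 s V b f) {z : 𝒳.obj} (cz : z ⟶ s)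
    (hz : 𝒳.p.obj z = W) : ∃ m₀ : z ⟶ b, 𝒳.p.IsHomLift f m₀ := by
  obtain ⟨w₁, b', c₁, hb'⟩ := hf
  have hw₁ : W = 𝒳.p.obj w₁ := (IsHomLift.domain_eq 𝒳.p f b').symm
  let π₁ : W ⟶ 𝒳.p.obj s := eqToHom hw₁ ≫ 𝒳.p.map c₁
  let πz : W ⟶ 𝒳.p.obj s := eqToHom hz.symm ≫ 𝒳.p.map cz
  have hc₁ : 𝒳.p.IsHomLift π₁ c₁ := inferInstance
  have hcz : 𝒳.p.IsHomLift π₁ cz := by
    rw [hterm _ π₁ πz]
    infer_instance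
  obtain ⟨κ, hκ1, hκ2⟩ := exists_factor hfg𝒳 π₁ c₁ hc₁ cz hcz
  exact ⟨κ ≫ b', @IsHomLift.comp_lift_id_left _ _ _ _ 𝒳.p _ _ _ _ _ f b' hb' κ hκ1⟩

include hfg𝒳 hfg𝒴 hφ in
theorem main (J : GrothendieckTopology C) (hst𝒳 : Stk.IsStack J 𝒳) (hst𝒴 : Stk.IsStack J 𝒴)
    (hgb𝒳 : Gerb.IsGerbeOver J (FibCat.toSelf 𝒳)) (hgb𝒴 : Gerb.IsGerbeOver J (FibCat.toSelf 𝒴))
    (hterm : ∀ (T : C) (h₁ h₂ : T ⟶ 𝒳.p.obj s), h₁ = h₂)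
    (hmap : ∀ T : C, Nonempty (T ⟶ 𝒳.p.obj s)) : FibCat.IsEquivOver φ := by
  have hcov : ∀ (U : C) (y : 𝒳.obj) (hy : 𝒳.p.obj y = U), Rt hfg𝒳 s U y ∈ J U := by
    intro U y hy
    subst hy
    exact rt_mem J hfg𝒳 hgb𝒳 s hmap y
  -- faithful
  haveI hfaith : φ.toFunctor.Faithful := by
    refine FibGrpd.faithful_of_fiber φ hfg𝒳 hfg𝒴 (fun U => ⟨fun {a b} m₁ m₂ h => ?_⟩)
    have h' : φ.map m₁.1 = φ.map m₂.1 := congrArg Subtype.val h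
    apply Functor.Fiber.hom_ext
    haveI : (Stk.resSieve (Rt hfg𝒳 s U a.1) 𝒳).IsEquivalence := hst𝒳.2 _ (hcov U a.1 a.2)
    refine @Groth.Agent.Helper6.StkLocal.hom_ext_of_locally _ _ 𝒳 hfg𝒳 U
      (Rt hfg𝒳 s U a.1) inferInstance _ _ a.2 _ _ m₁.2 m₂.2 ?_
    intro W f₀ hf₀ z ψ hψ
    obtain ⟨cz⟩ := exists_to_s hfg𝒳 s hterm f₀ hf₀ ψ hψ
    refine eq_of_map_eq hfg𝒳 hfg𝒴 φ s hφ cz f₀ _ _
      (@IsHomLift.comp_lift_id_right _ _ _ _ 𝒳.p _ _ _ _ _ f₀ ψ hψ m₁.1 m₁.2)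
      (@IsHomLift.comp_lift_id_right _ _ _ _ 𝒳.p _ _ _ _ _ f₀ ψ hψ m₂.1 m₂.2) ?_
    rw [φ.toFunctor.map_comp, φ.toFunctor.map_comp]
    exact congrArg (fun t => φ.map ψ ≫ t) h'
  -- full
  haveI hfull : φ.toFunctor.Full := by
    refine FibGrpd.full_of_fiber φ hfg𝒳 hfg𝒴 (fun U => ⟨fun {a b} n => ?_⟩)
    let R : Sieve U := Rt hfg𝒳 s U a.1 ⊓ Rt hfg𝒳 s U b.1
    have hR : R ∈ J U := J.intersection_covering (hcov U a.1 a.2) (hcov U b.1 b.2)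
    haveI : (Stk.resSieve R 𝒳).IsEquivalence := hst𝒳.2 _ hR
    haveI : (Stk.resSieve R 𝒴).IsEquivalence := hst𝒴.2 _ hR
    have hn : 𝒴.p.IsHomLift (𝟙 U) n.1 := n.2
    have hex : ∀ ⦃W : C⦄ (f : W ⟶ U), R f → ∀ (z : 𝒳.obj) (ψ : z ⟶ a.1), 𝒳.p.IsHomLift f ψ →
        ∃ m : z ⟶ b.1, 𝒳.p.IsHomLift f m ∧ φ.map m = φ.map ψ ≫ n.1 := by
      intro W f hf z ψ hψ
      obtain ⟨cz⟩ := exists_to_s hfg𝒳 s hterm f hf.1 ψ hψ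
      obtain ⟨m₀, hm₀⟩ := exists_local_hom hfg𝒳 s hterm f hf.2 cz (IsHomLift.domain_eq 𝒳.p f ψ)
      have hφψ : 𝒴.p.IsHomLift f (φ.map ψ) :=
        @BasedFunctor.preserves_isHomLift _ _ _ _ φ _ _ _ _ f ψ hψ
      have hn' : 𝒴.p.IsHomLift f (φ.map ψ ≫ n.1) :=
        @IsHomLift.comp_lift_id_right _ _ _ _ 𝒴.p _ _ _ _ _ f (φ.map ψ) hφψ n.1 hn
      exact exists_map_eq hfg𝒳 hfg𝒴 φ s hφ cz f m₀ hm₀ _ hn'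
    have huniq : ∀ ⦃W : C⦄ (f : W ⟶ U), R f → ∀ (z : 𝒳.obj) (ψ : z ⟶ a.1) (m m' : z ⟶ b.1),
        𝒳.p.IsHomLift f ψ → 𝒳.p.IsHomLift f m → 𝒳.p.IsHomLift f m' →
        φ.map m = φ.map ψ ≫ n.1 → φ.map m' = φ.map ψ ≫ n.1 → m = m' := by
      intro W f hf z ψ m m' hψ hm hm' hP hP'
      obtain ⟨cz⟩ := exists_to_s hfg𝒳 s hterm f hf.1 ψ hψ
      exact eq_of_map_eq hfg𝒳 hfg𝒴 φ s hφ cz f m m' hm hm' (hP.trans hP'.symm)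
    have hstab : ∀ (z z' : 𝒳.obj) (χ : z' ⟶ z) (ψ : z ⟶ a.1) (m : z ⟶ b.1),
        φ.map m = φ.map ψ ≫ n.1 → φ.map (χ ≫ m) = φ.map (χ ≫ ψ) ≫ n.1 := by
      intro z z' χ ψ m hP
      rw [φ.toFunctor.map_comp, hP, φ.toFunctor.map_comp, Category.assoc]
      rfl
    obtain ⟨γ, hγ1, hγ2⟩ := exists_hom_of_locally hfg𝒳 R a.2 b.2
      (fun z ψ m => φ.map m = φ.map ψ ≫ n.1) hex huniq hstab
    refine ⟨⟨γ, hγ1⟩, ?_⟩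
    apply Functor.Fiber.hom_ext
    change φ.map γ = n.1
    have hφγ : 𝒴.p.IsHomLift (𝟙 U) (φ.map γ) :=
      @BasedFunctor.preserves_isHomLift _ _ _ _ φ _ _ _ _ (𝟙 U) γ hγ1
    refine @Groth.Agent.Helper6.StkLocal.hom_ext_of_locally _ _ 𝒴 hfg𝒴 U R inferInstance _ _
      ((φ.w_obj a.1).trans a.2) _ _ hφγ hn ?_
    intro W f hf z' ψ' hψ'
    obtain ⟨w, a', c, ha'⟩ := hf.1
    have hφa' : 𝒴.p.IsHomLift f (φ.map a') :=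
      @BasedFunctor.preserves_isHomLift _ _ _ _ φ _ _ _ _ f a' ha'
    obtain ⟨ψ'', h1, h2⟩ := exists_factor hfg𝒴 f (φ.map a') hφa' ψ' hψ'
    have := hγ2 f hf w a' ha'
    rw [← h2, Category.assoc, ← φ.toFunctor.map_comp, this, Category.assoc]
    rfl
  -- locally essentially surjective
  refine (Groth.Agent.S12794.result J hst𝒳 hst𝒴 φ).2 ?_
  intro y
  have hX : 𝒴.p.obj (φ.obj s) = 𝒳.p.obj s := φ.w_obj s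
  have hmap' : ∀ T : C, Nonempty (T ⟶ 𝒴.p.obj (φ.obj s)) := fun T => by
    obtain ⟨π⟩ := hmap T
    exact ⟨π ≫ eqToHom hX.symm⟩
  refine ⟨Rt hfg𝒴 (φ.obj s) (𝒴.p.obj y) y, rt_mem J hfg𝒴 hgb𝒴 (φ.obj s) hmap' y, ?_⟩
  intro W f hf
  obtain ⟨w, a, c, ha⟩ := hf
  obtain ⟨π⟩ := hmap W
  obtain ⟨x', c₀, hc₀⟩ := hfg𝒳.exists_lift π
  have hφc₀ : 𝒴.p.IsHomLift π (φ.map c₀) :=
    @BasedFunctor.preserves_isHomLift _ _ _ _ φ _ _ _ _ π c₀ hc₀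
  have hw : W = 𝒴.p.obj w := (IsHomLift.domain_eq 𝒴.p f a).symm
  let πc : W ⟶ 𝒳.p.obj s := eqToHom hw ≫ 𝒴.p.map c ≫ eqToHom hX
  have hc : 𝒴.p.IsHomLift π c := by
    rw [hterm _ π πc]
    infer_instance
  obtain ⟨θ, hθ1, hθ2⟩ := exists_factor hfg𝒴 π c hc (φ.map c₀) hφc₀
  exact ⟨x', θ ≫ a, @IsHomLift.comp_lift_id_left _ _ _ _ 𝒴.p _ _ _ _ _ f a ha θ hθ1⟩

end

end Groth.Agent.Helper6.GerbEquiv
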