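import Mathlib
import Groth.Prelude.Def_FibCat2
import Groth.Agent.Helper3.FibGrpd

/-!
# Helper6: the topology inherited by a category fibred in groupoids
-/

set_option autoImplicit false
universe v₂ u₂ v u

namespace Groth.Agent.Helper6.RestrTop
open CategoryTheory Functor FibCat Limits
open Groth.Agent.Helper3

variable {C : Type u} [Category.{v} C] {𝒳 : Type u₂} [Category.{v₂} 𝒳] (p : 𝒳 ⥤ C)

theorem eq_eqToHom_comp_map {x y : 𝒳} {V : C} (g : V ⟶ p.obj y) (φ : x ⟶ y) [p.IsHomLift g φ] :
    g = eqToHom (IsHomLift.domain_eq p g φ).symm ≫ p.map φ := by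
  have h := IsHomLift.fac' p g φ
  rw [h]
  simp

/-- The sieves whose image generates a covering sieve. -/
def inheritedTopology (hp : IsFibGrpd p) (J : GrothendieckTopology C) : GrothendieckTopology 𝒳 where
  sieves x := {S | S.functorPushforward p ∈ J (p.obj x)}
  top_mem' x := by
    refine J.superset_covering ?_ (J.top_mem _)
    intro V f _
    obtain ⟨y, φ, hφ⟩ := hp.exists_lift (x := x) f
    haveI := hφ
    exact ⟨y, φ, eqToHom (IsHomLift.domain_eq p f φ).symm, trivial, eq_eqToHom_comp_map p f φ⟩
  pullback_stable' x y S f hS := by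
    refine J.superset_covering ?_ (J.pullback_stable (p.map f) hS)
    intro V g hg
    obtain ⟨z, h, k, hSh, hk⟩ := hg
    obtain ⟨y', g', hg'⟩ := hp.exists_lift (x := y) g
    haveI := hg'
    haveI : p.IsHomLift (g ≫ p.map f) (g' ≫ f) := inferInstance
    haveI := FibGrpd.isStronglyCartesian hp (p.map h) h
    let χ : y' ⟶ z := IsStronglyCartesian.map p (p.map h) h hk (g' ≫ f)
    have hχ : χ ≫ h = g' ≫ f := IsStronglyCartesian.fac p (p.map h) h hk (g' ≫ f)
    refine ⟨y', g', eqToHom (IsHomLift.domain_eq p g g').symm, ?_, eq_eqToHom_comp_map p g g'⟩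
    change S (g' ≫ f)
    rw [← hχ]
    exact S.downward_closed hSh χ
  transitive' x S hS R hR := by
    refine J.transitive hS (R.functorPushforward p) ?_
    intro V g hg
    obtain ⟨z, h, k, hSh, hk⟩ := hg
    have h1 : (R.pullback h).functorPushforward p ∈ J (p.obj z) := hR hSh
    refine J.superset_covering ?_ (J.pullback_stable k h1)
    intro W m hm
    obtain ⟨z', h', k', hRh, hk'⟩ := hm
    refine ⟨z', h' ≫ h, k', hRh, ?_⟩
    rw [hk, ← Category.assoc, hk', Category.assoc, ← p.map_comp]

theorem restrictedTopology_eq (hp : IsFibGrpd p) (J : GrothendieckTopology C) :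
    p.restrictedTopology J = inheritedTopology p hp J := by
  apply le_antisymm
  · rw [Functor.restrictedTopology, Precoverage.toGrothendieck_le_iff_le_toPrecoverage]
    intro x R hR
    rw [GrothendieckTopology.mem_toPrecoverage_iff]
    change (Sieve.generate R).functorPushforward p ∈ J (p.obj x)
    rw [← Sieve.generate_map_eq_functorPushforward]
    exact hR
  · intro x S hS
    exact Functor.mem_restrictedTopology_of_functorPushforward_mem hS

theorem mem_restrictedTopology_iff (hp : IsFibGrpd p) (J : GrothendieckTopology C) {x : 𝒳}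
    (S : Sieve x) : S ∈ p.restrictedTopology J x ↔ S.functorPushforward p ∈ J (p.obj x) := by
  rw [restrictedTopology_eq p hp J]
  rfl

end Groth.Agent.Helper6.RestrTop
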