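import Mathlib
import Groth.Prelude.Def_FibCat2
import Groth.Prelude.Def_AlgSt
import Groth.Agent.Helper3.FibGrpd

/-!
# Helper6: pulling back a functor into a category fibred in groupoids along a natural transformation of
base functors (strictification of "weak" functors over the base).
-/

set_option autoImplicit false
set_option linter.style.haveILetI false
set_option linter.unusedVariables false
universe v₃ u₃ v₂ u₂ v u

namespace Groth.Agent.Helper6.StkPull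
open CategoryTheory Functor FibCat
open Groth.Agent.Helper3

section Plain

variable {C : Type u} [Category.{v} C] {𝒳 : Type u₂} [Category.{v₂} 𝒳] (p : 𝒳 ⥤ C)

theorem base_eq {R S : C} {a b : 𝒳} (f f' : R ⟶ S) (φ : a ⟶ b) (h : p.IsHomLift f φ)
    (h' : p.IsHomLift f' φ) : f = f' := by
  haveI := h
  haveI := h'
  exact (IsHomLift.fac p f φ).trans (IsHomLift.fac p f' φ).symm

theorem exists_map (hp : IsFibGrpd p) {R S R' : C} (f : R ⟶ S) (g : R' ⟶ R) (f' : R' ⟶ S)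
    (hf' : f' = g ≫ f) {a b a' : 𝒳} (φ : a ⟶ b) (hφ : p.IsHomLift f φ) (φ' : a' ⟶ b)
    (hφ' : p.IsHomLift f' φ') : ∃ m : a' ⟶ a, p.IsHomLift g m ∧ m ≫ φ = φ' := by
  haveI := hφ
  haveI := hφ'
  haveI := FibGrpd.isStronglyCartesian hp f φ
  obtain ⟨m, ⟨h1, h2⟩, -⟩ := IsStronglyCartesian.universal_property p f φ g f' hf' φ'
  exact ⟨m, h1, h2⟩

theorem map_ext (hp : IsFibGrpd p) {R S R' : C} (f : R ⟶ S) (g : R' ⟶ R) {a b a' : 𝒳} (φ : a ⟶ b)
    (hφ : p.IsHomLift f φ) (m m' : a' ⟶ a) (hm : p.IsHomLift g m) (hm' : p.IsHomLift g m')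
    (h : m ≫ φ = m' ≫ φ) : m = m' := by
  haveI := hφ
  haveI := hm
  haveI := hm'
  haveI := FibGrpd.isStronglyCartesian hp f φ
  exact IsStronglyCartesian.ext p f φ g h

theorem map_comp_eqToHom {R S : C} {a b : 𝒳} (f : R ⟶ S) (φ : a ⟶ b) (hφ : p.IsHomLift f φ)
    (h : p.obj b = S) : p.map φ ≫ eqToHom h = eqToHom (IsHomLift.domain_eq p f φ) ≫ f := by
  haveI := hφ
  subst_hom_lift p f φ
  simp

theorem lift_id_of_lift_eqToHom {R S : C} (h : R = S) {a b : 𝒳} (ψ : a ⟶ b)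
    (hψ : p.IsHomLift (eqToHom h) ψ) : p.IsHomLift (𝟙 S) ψ := by
  subst h
  simpa using hψ

theorem lift_inv_of {R S : C} {a b : 𝒳} (f : R ⟶ S) (f' : S ⟶ R) (φ : a ⟶ b) (φ' : b ⟶ a)
    (hf : f ≫ f' = 𝟙 R) (hf' : f' ≫ f = 𝟙 S) (hφ : φ ≫ φ' = 𝟙 a) (hφ' : φ' ≫ φ = 𝟙 b)
    (h : p.IsHomLift f φ) : p.IsHomLift f' φ' := by
  haveI : p.IsHomLift (⟨f, f', hf, hf'⟩ : R ≅ S).hom (⟨φ, φ', hφ, hφ'⟩ : a ≅ b).hom := h
  exact IsHomLift.inv_lift_inv p (⟨f, f', hf, hf'⟩ : R ≅ S) (⟨φ, φ', hφ, hφ'⟩ : a ≅ b)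

end Plain

section Pull

variable {B : Type u} [Category.{v} B] {𝒯 : BasedCategory.{v₂, u₂} B} {𝒜 : BasedCategory.{v₃, u₃} B}

/-- Pullback of a functor `D` (lying over `E`) along a natural transformation `θ : 𝒜.p ⟶ E`. -/
theorem exists_pull (h𝒯 : IsFibGrpd 𝒯.p) (D : 𝒜.obj ⥤ 𝒯.obj) (E : 𝒜.obj ⥤ B)
    (hDE : ∀ {a a' : 𝒜.obj} (g : a ⟶ a'), 𝒯.p.IsHomLift (E.map g) (D.map g)) (θ : 𝒜.p ⟶ E) :
    ∃ (D' : 𝒜 ⥤ᵇ 𝒯) (φ : D'.toFunctor ⟶ D), ∀ a, 𝒯.p.IsHomLift (θ.app a) (φ.app a) := by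
  have hobj : ∀ a : 𝒜.obj, ∃ (t : 𝒯.obj) (φ : t ⟶ D.obj a), 𝒯.p.IsHomLift (θ.app a) φ := fun a => by
    haveI := hDE (𝟙 a)
    exact FibGrpd.exists_lift' h𝒯 (IsHomLift.codomain_eq 𝒯.p (E.map (𝟙 a)) (D.map (𝟙 a))) (θ.app a)
  choose t φ hφ using hobj
  have hm : ∀ (a a' : 𝒜.obj) (g : a ⟶ a'), ∃ m : t a ⟶ t a', 𝒯.p.IsHomLift (𝒜.p.map g) m ∧
      m ≫ φ a' = φ a ≫ D.map g := by
    intro a a' g
    haveI := hφ a
    haveI := hDE g
    exact exists_map 𝒯.p h𝒯 (θ.app a') (𝒜.p.map g) (θ.app a ≫ E.map g) (θ.naturality g).symm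
      (φ a') (hφ a') (φ a ≫ D.map g) inferInstance
  choose M hM1 hM2 using hm
  have huniq : ∀ (a a' : 𝒜.obj) (g : a ⟶ a') (m : t a ⟶ t a'), 𝒯.p.IsHomLift (𝒜.p.map g) m →
      m ≫ φ a' = φ a ≫ D.map g → m = M a a' g := fun a a' g m h1 h2 =>
    map_ext 𝒯.p h𝒯 (θ.app a') (𝒜.p.map g) (φ a') (hφ a') m (M a a' g) h1 (hM1 a a' g)
      (h2.trans (hM2 a a' g).symm)
  have ht : ∀ a, 𝒯.p.obj (t a) = 𝒜.p.obj a := fun a => by
    haveI := hφ a
    exact IsHomLift.domain_eq 𝒯.p (θ.app a) (φ a)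
  let D'f : 𝒜.obj ⥤ 𝒯.obj :=
    { obj := t
      map := fun {a a'} g => M a a' g
      map_id := fun a => by
        symm
        apply huniq
        · rw [𝒜.p.map_id]; exact IsHomLift.id (ht a)
        · rw [D.map_id, Category.id_comp, Category.comp_id]
      map_comp := fun {a a' a''} g g' => by
        symm
        apply huniq
        · rw [𝒜.p.map_comp]
          haveI := hM1 a a' g
          haveI := hM1 a' a'' g'
          infer_instance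
        · calc (M a a' g ≫ M a' a'' g') ≫ φ a'' = M a a' g ≫ (M a' a'' g' ≫ φ a'') :=
                Category.assoc _ _ _
            _ = M a a' g ≫ (φ a' ≫ D.map g') := by rw [hM2 a' a'' g']
            _ = (M a a' g ≫ φ a') ≫ D.map g' := (Category.assoc _ _ _).symm
            _ = (φ a ≫ D.map g) ≫ D.map g' := by rw [hM2 a a' g]
            _ = φ a ≫ D.map (g ≫ g') := by rw [Category.assoc, D.map_comp] }
  let D' : 𝒜 ⥤ᵇ 𝒯 :=
    { toFunctor := D'f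
      w := by
        refine CategoryTheory.Functor.ext (fun a => ht a) (fun a a' g => ?_)
        haveI := hM1 a a' g
        exact IsHomLift.fac' 𝒯.p (𝒜.p.map g) (M a a' g) }
  exact ⟨D', { app := φ, naturality := fun a a' g => hM2 a a' g }, hφ⟩

end Pull

end Groth.Agent.Helper6.StkPull
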