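import Mathlib
import Groth.Prelude.Def_FibCat2
import Groth.Prelude.Def_AlgSt
import Groth.Agent.Helper3.FibGrpd
import Groth.Agent.Helper6.StkFp

/-!
# Helper6: relative gluing — if `𝒴` glues along `ι` and all the 2-fibre products `ℬ ×_𝒴 𝒳` glue along `ι`,
then `𝒳` glues along `ι`.
-/

set_option autoImplicit false
set_option linter.style.haveILetI false
universe v₇ u₇ v₆ u₆ v₅ u₅ v₄ u₄ v₃ u₃ v₂ u₂ v u

namespace Groth.Agent.Helper6.StkRel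
open CategoryTheory Functor FibCat Limits
open Groth.Agent.Helper3 Groth.Agent.Helper6.FpTools Groth.Agent.Helper6.StkFp

variable {C : Type u} [Category.{v} C]
variable {𝒜 : BasedCategory.{v₅, u₅} C} {ℬ : BasedCategory.{v₆, u₆} C}
  {𝒳 : BasedCategory.{v₂, u₂} C} {𝒴 : BasedCategory.{v₃, u₃} C}

/-- 2-morphisms into a category fibred in groupoids are invertible. -/
noncomputable def isoOfFibGrpd (h : IsFibGrpd 𝒴.p) {F G : 𝒜 ⥤ᵇ 𝒴} (α : F ⟶ G) : F ≅ G :=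
  BasedNatIso.mkNatIso
    (NatIso.ofComponents
      (fun a => @asIso _ _ _ _ (α.toNatTrans.app a)
        (@FibGrpd.isIso_of_lift_id _ _ _ _ 𝒴.p h (𝒜.p.obj a) _ _ (α.toNatTrans.app a) (α.isHomLift' a)))
      (fun f => α.toNatTrans.naturality f))
    (fun a => α.isHomLift' a)

theorem isoOfFibGrpd_hom (h : IsFibGrpd 𝒴.p) {F G : 𝒜 ⥤ᵇ 𝒴} (α : F ⟶ G) :
    (isoOfFibGrpd h α).hom = α := by
  apply BasedNatTrans.homCategory.ext
  rfl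

theorem isoOfFibGrpd_hom_app (h : IsFibGrpd 𝒴.p) {F G : 𝒜 ⥤ᵇ 𝒴} (α : F ⟶ G) (a : 𝒜.obj) :
    (isoOfFibGrpd h α).hom.toNatTrans.app a = α.toNatTrans.app a := rfl

variable (ι : 𝒜 ⥤ᵇ ℬ) (j : 𝒳 ⥤ᵇ 𝒴)

theorem restr_faithful_of_rel (h𝒴 : IsFibGrpd 𝒴.p) [(Stk.restr ι 𝒴).Faithful]
    (h : ∀ y : ℬ ⥤ᵇ 𝒴, (Stk.restr ι (fp y j)).Faithful) : (Stk.restr ι 𝒳).Faithful := by
  refine ⟨fun {X X'} α₁ α₂ hα => ?_⟩
  have hα' : ∀ a : 𝒜.obj, α₁.toNatTrans.app (ι.obj a) = α₂.toNatTrans.app (ι.obj a) := fun a =>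
    congrArg (fun t : BasedFunctor.comp ι X ⟶ BasedFunctor.comp ι X' => t.toNatTrans.app a) hα
  have hj : BasedCategory.whiskerRight α₁ j = BasedCategory.whiskerRight α₂ j := by
    apply (Stk.restr ι 𝒴).map_injective
    apply BasedNatTrans.homCategory.ext
    ext a
    change j.map (α₁.toNatTrans.app (ι.obj a)) = j.map (α₂.toNatTrans.app (ι.obj a))
    rw [hα' a]
  have hj' : ∀ w : ℬ.obj, j.map (α₁.toNatTrans.app w) = j.map (α₂.toNatTrans.app w) := fun w =>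
    congrArg (fun t : BasedFunctor.comp X j ⟶ BasedFunctor.comp X' j => t.toNatTrans.app w) hj
  let y : ℬ ⥤ᵇ 𝒴 := BasedFunctor.comp X j
  let P : ℬ ⥤ᵇ fp y j := fpLift (BasedFunctor.id ℬ) X (Iso.refl _)
  let P' : ℬ ⥤ᵇ fp y j := fpLift (BasedFunctor.id ℬ) X'
    (isoOfFibGrpd h𝒴 (BasedCategory.whiskerRight α₁ j))
  have hw₁ : ∀ w : ℬ.obj, y.map ((𝟙 (BasedFunctor.id ℬ) : BasedFunctor.id ℬ ⟶ BasedFunctor.id ℬ).toNatTrans.app w) ≫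
      (P'.obj w).obj.iso.hom = (P.obj w).obj.iso.hom ≫ j.map (α₁.toNatTrans.app w) := by
    intro w
    change y.map (𝟙 w) ≫ j.map (α₁.toNatTrans.app w) = 𝟙 _ ≫ j.map (α₁.toNatTrans.app w)
    exact congrArg (fun t => t ≫ j.map (α₁.toNatTrans.app w)) (y.map_id w)
  have hw₂ : ∀ w : ℬ.obj, y.map ((𝟙 (BasedFunctor.id ℬ) : BasedFunctor.id ℬ ⟶ BasedFunctor.id ℬ).toNatTrans.app w) ≫
      (P'.obj w).obj.iso.hom = (P.obj w).obj.iso.hom ≫ j.map (α₂.toNatTrans.app w) := by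
    intro w
    exact (hw₁ w).trans (congrArg (fun t => (P.obj w).obj.iso.hom ≫ t) (hj' w))
  let δ₁ : P ⟶ P' := fpNatTrans y j P P' (𝟙 (BasedFunctor.id ℬ)) α₁ hw₁
  let δ₂ : P ⟶ P' := fpNatTrans y j P P' (𝟙 (BasedFunctor.id ℬ)) α₂ hw₂
  have hδ : δ₁ = δ₂ := by
    haveI := h y
    apply (Stk.restr ι (fp y j)).map_injective
    apply fp_natTrans_ext
    · intro a
      rfl
    · intro a
      exact hα' a
  apply BasedNatTrans.homCategory.ext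
  ext w
  exact congrArg (fun t : P ⟶ P' => (t.toNatTrans.app w).hom.snd) hδ

theorem restr_full_of_rel (h𝒴 : IsFibGrpd 𝒴.p) [(Stk.restr ι 𝒴).Full]
    (h : ∀ y : ℬ ⥤ᵇ 𝒴, (Stk.restr ι (fp y j)).Full) : (Stk.restr ι 𝒳).Full := by
  refine ⟨fun {X X'} γ => ?_⟩
  change BasedFunctor.comp ι X ⟶ BasedFunctor.comp ι X' at γ
  let γj : (Stk.restr ι 𝒴).obj (BasedFunctor.comp X j) ⟶ (Stk.restr ι 𝒴).obj (BasedFunctor.comp X' j) :=
    BasedCategory.whiskerRight γ j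
  obtain ⟨β, hβ⟩ := (Stk.restr ι 𝒴).map_surjective γj
  have hβ' : ∀ a : 𝒜.obj, β.toNatTrans.app (ι.obj a) = j.map (γ.toNatTrans.app a) := fun a =>
    congrArg (fun t : (Stk.restr ι 𝒴).obj (BasedFunctor.comp X j) ⟶
      (Stk.restr ι 𝒴).obj (BasedFunctor.comp X' j) => t.toNatTrans.app a) hβ
  let y : ℬ ⥤ᵇ 𝒴 := BasedFunctor.comp X j
  let P : ℬ ⥤ᵇ fp y j := fpLift (BasedFunctor.id ℬ) X (Iso.refl _)
  let P' : ℬ ⥤ᵇ fp y j := fpLift (BasedFunctor.id ℬ) X' (isoOfFibGrpd h𝒴 β)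
  have hw : ∀ a : 𝒜.obj, y.map ((𝟙 ι : ι ⟶ ι).toNatTrans.app a) ≫
      ((BasedFunctor.comp ι P').obj a).obj.iso.hom =
        ((BasedFunctor.comp ι P).obj a).obj.iso.hom ≫ j.map (γ.toNatTrans.app a) := by
    intro a
    change y.map (𝟙 (ι.obj a)) ≫ β.toNatTrans.app (ι.obj a) = 𝟙 _ ≫ j.map (γ.toNatTrans.app a)
    rw [hβ' a]
    exact congrArg (fun t => t ≫ j.map (γ.toNatTrans.app a)) (y.map_id (ι.obj a))
  let γ' : (Stk.restr ι (fp y j)).obj P ⟶ (Stk.restr ι (fp y j)).obj P' :=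
    fpNatTrans y j (BasedFunctor.comp ι P) (BasedFunctor.comp ι P') (𝟙 ι) γ hw
  haveI := h y
  obtain ⟨δ, hδ⟩ := (Stk.restr ι (fp y j)).map_surjective γ'
  have hδ' : ∀ a : 𝒜.obj, (δ.toNatTrans.app (ι.obj a)).hom.snd = γ.toNatTrans.app a := fun a =>
    congrArg (fun t : (Stk.restr ι (fp y j)).obj P ⟶ (Stk.restr ι (fp y j)).obj P' =>
      (t.toNatTrans.app a).hom.snd) hδ
  let α : X ⟶ X' := BasedCategory.whiskerRight δ (fpSnd y j)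
  refine ⟨α, ?_⟩
  apply BasedNatTrans.homCategory.ext
  ext a
  exact hδ' a

theorem restr_essSurj_of_rel [(Stk.restr ι 𝒴).EssSurj]
    (h : ∀ y : ℬ ⥤ᵇ 𝒴, (Stk.restr ι (fp y j)).EssSurj) : (Stk.restr ι 𝒳).EssSurj := by
  refine ⟨fun D => ?_⟩
  change 𝒜 ⥤ᵇ 𝒳 at D
  let Y : ℬ ⥤ᵇ 𝒴 := (Stk.restr ι 𝒴).objPreimage (BasedFunctor.comp D j)
  let ε : BasedFunctor.comp ι Y ≅ BasedFunctor.comp D j :=
    (Stk.restr ι 𝒴).objObjPreimageIso (BasedFunctor.comp D j)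
  let D' : 𝒜 ⥤ᵇ fp Y j := fpLift ι D ε
  haveI := h Y
  let P : ℬ ⥤ᵇ fp Y j := (Stk.restr ι (fp Y j)).objPreimage D'
  let θ : BasedFunctor.comp ι P ≅ D' := (Stk.restr ι (fp Y j)).objObjPreimageIso D'
  let X : ℬ ⥤ᵇ 𝒳 := BasedFunctor.comp P (fpSnd Y j)
  exact ⟨X, ⟨whiskerRightIso' θ (fpSnd Y j)⟩⟩

/-- Relative gluing. -/
theorem restr_isEquivalence_of_rel (h𝒴 : IsFibGrpd 𝒴.p) [(Stk.restr ι 𝒴).IsEquivalence]
    (h : ∀ y : ℬ ⥤ᵇ 𝒴, (Stk.restr ι (fp y j)).IsEquivalence) : (Stk.restr ι 𝒳).IsEquivalence :=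
  { faithful := restr_faithful_of_rel ι j h𝒴 (fun y => (h y).faithful)
    full := restr_full_of_rel ι j h𝒴 (fun y => (h y).full)
    essSurj := restr_essSurj_of_rel ι j (fun y => (h y).essSurj) }

end Groth.Agent.Helper6.StkRel
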