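import Mathlib
import Groth.Prelude.Def_FibCat2
import Groth.Prelude.Def_AlgSt
import Groth.Agent.Helper3.FibGrpd
import Groth.Agent.Helper6.StkPull
import Groth.Agent.Helper6.StkRel
import Groth.Agent.S6416

/-!
# Helper6: relative gluing with strict fibres.  For `q : Y ⥤ 𝒳.obj` fibred in groupoids over a category `𝒳`
fibred in groupoids over `C`: sections of `Y` over `C` glue along `ι` as soon as sections of `𝒳` do and,
for every `y : ℬ ⥤ᵇ 𝒳`, sections of `Y` over `𝒳` along `y` glue along `ι`; and conversely.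
-/

set_option autoImplicit false
set_option linter.style.haveILetI false
set_option linter.unusedVariables false
universe v₆ u₆ v₅ u₅ v₃ u₃ v₂ u₂ v u

namespace Groth.Agent.Helper6.StkSRel
open CategoryTheory Functor FibCat
open Groth.Agent.Helper3 Groth.Agent.Helper6.StkPull

variable {C : Type u} [Category.{v} C] {𝒳 : BasedCategory.{v₂, u₂} C}
variable {Y : Type u₃} [Category.{v₃} Y] (q : Y ⥤ 𝒳.obj)
variable {𝒜 : BasedCategory.{v₅, u₅} C} {ℬ : BasedCategory.{v₆, u₆} C}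

/-- `Y` over `𝒳`. -/
abbrev ov : BasedCategory.{v₃, u₃} 𝒳.obj := BasedCategory.ofFunctor q

/-- `Y` over `C`. -/
abbrev tot : BasedCategory.{v₃, u₃} C := BasedCategory.ofFunctor (q ⋙ 𝒳.p)

/-- The projection `Y ⟶ 𝒳` over `C`. -/
def proj : tot q ⥤ᵇ 𝒳 where
  toFunctor := q
  w := rfl

/-- The source of `y`, viewed over `𝒳` through `y`. -/
abbrev src (y : ℬ ⥤ᵇ 𝒳) : BasedCategory.{v₆, u₆} 𝒳.obj := BasedCategory.ofFunctor y.toFunctor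

/-- `ι` viewed over `𝒳`. -/
def srcMap (ι : 𝒜 ⥤ᵇ ℬ) (y : ℬ ⥤ᵇ 𝒳) : src (BasedFunctor.comp ι y) ⥤ᵇ src y where
  toFunctor := ι.toFunctor
  w := rfl

theorem lift_tot {R S : C} {x x' : 𝒳.obj} (g : R ⟶ S) (f : x ⟶ x') {a b : Y} (ψ : a ⟶ b)
    (h1 : q.IsHomLift f ψ) (h2 : 𝒳.p.IsHomLift g f) : (q ⋙ 𝒳.p).IsHomLift g ψ := by
  obtain ⟨⟩ := h1
  obtain ⟨⟩ := h2
  exact IsHomLift.map (q ⋙ 𝒳.p) ψ

/-- A section over `𝒳` along `y`, viewed as a section over `C`. -/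
def toC {y : ℬ ⥤ᵇ 𝒳} (H : src y ⥤ᵇ ov q) : ℬ ⥤ᵇ tot q where
  toFunctor := H.toFunctor
  w := (congrArg (fun F : ℬ.obj ⥤ 𝒳.obj => F ⋙ 𝒳.p)
    (H.w : H.toFunctor ⋙ q = y.toFunctor)).trans y.w

def toCHom {y : ℬ ⥤ᵇ 𝒳} {H H' : src y ⥤ᵇ ov q} (α : H ⟶ H') : toC q H ⟶ toC q H' where
  toNatTrans := α.toNatTrans
  isHomLift' := fun b => by
    have h1 : q.IsHomLift (𝟙 (y.obj b)) (α.toNatTrans.app b) := α.isHomLift' b
    have h2 : 𝒳.p.IsHomLift (𝟙 (ℬ.p.obj b)) (𝟙 (y.obj b)) := IsHomLift.id (y.w_obj b)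
    exact lift_tot q _ _ _ h1 h2

def ofC {y : ℬ ⥤ᵇ 𝒳} {H H' : src y ⥤ᵇ ov q} (δ : toC q H ⟶ toC q H')
    (hδ : ∀ b, q.IsHomLift (𝟙 (y.obj b)) (δ.toNatTrans.app b)) : H ⟶ H' where
  toNatTrans := δ.toNatTrans
  isHomLift' := hδ

def toCIso {y : ℬ ⥤ᵇ 𝒳} {H H' : src y ⥤ᵇ ov q} (θ : H ≅ H') : toC q H ≅ toC q H' where
  hom := toCHom q θ.hom
  inv := toCHom q θ.inv
  hom_inv_id := by
    apply BasedNatTrans.homCategory.ext
    exact congrArg (fun t : H ⟶ H => t.toNatTrans) θ.hom_inv_id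
  inv_hom_id := by
    apply BasedNatTrans.homCategory.ext
    exact congrArg (fun t : H' ⟶ H' => t.toNatTrans) θ.inv_hom_id

theorem iso_app_hom_inv {𝒟 : BasedCategory.{v₃, u₃} C} {F F' : ℬ ⥤ᵇ 𝒟} (ξ : F ≅ F') (b : ℬ.obj) :
    ξ.hom.toNatTrans.app b ≫ ξ.inv.toNatTrans.app b = 𝟙 (F.obj b) :=
  congrArg (fun t : F ⟶ F => t.toNatTrans.app b) ξ.hom_inv_id

theorem iso_app_inv_hom {𝒟 : BasedCategory.{v₃, u₃} C} {F F' : ℬ ⥤ᵇ 𝒟} (ξ : F ≅ F') (b : ℬ.obj) :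
    ξ.inv.toNatTrans.app b ≫ ξ.hom.toNatTrans.app b = 𝟙 (F'.obj b) :=
  congrArg (fun t : F' ⟶ F' => t.toNatTrans.app b) ξ.inv_hom_id

/-- Transport of a section over `C` along an isomorphism of its image in `𝒳`. -/
theorem exists_transport (hq : IsFibGrpd q) (h𝒳 : IsFibGrpd 𝒳.p) (y : ℬ ⥤ᵇ 𝒳) (G' : ℬ ⥤ᵇ tot q)
    (ξ : y ≅ BasedFunctor.comp G' (proj q)) :
    ∃ (G'' : src y ⥤ᵇ ov q) (K : toC q G'' ≅ G'),
      (∀ b, q.IsHomLift (ξ.hom.toNatTrans.app b) (K.hom.toNatTrans.app b)) ∧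
      (∀ b, q.IsHomLift (ξ.inv.toNatTrans.app b) (K.inv.toNatTrans.app b)) := by
  obtain ⟨D', φ, hφ⟩ := exists_pull (𝒯 := ov q) (𝒜 := src y) hq G'.toFunctor (G'.toFunctor ⋙ q)
    (fun g => IsHomLift.map q (G'.map g)) ξ.hom.toNatTrans
  let κ : toC q D' ⟶ G' :=
    { toNatTrans := φ
      isHomLift' := fun b => lift_tot q (𝟙 _) (ξ.hom.toNatTrans.app b) (φ.app b) (hφ b)
        (ξ.hom.isHomLift' b) }
  have h𝒵 : IsFibGrpd (tot q).p := Groth.Agent.S6416.result q 𝒳.p hq h𝒳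
  let K : toC q D' ≅ G' := StkRel.isoOfFibGrpd h𝒵 κ
  have hK1 : ∀ b, q.IsHomLift (ξ.hom.toNatTrans.app b) (K.hom.toNatTrans.app b) := fun b => hφ b
  refine ⟨D', K, hK1, fun b => ?_⟩
  exact lift_inv_of q (ξ.hom.toNatTrans.app b) (ξ.inv.toNatTrans.app b) (K.hom.toNatTrans.app b)
    (K.inv.toNatTrans.app b) (iso_app_hom_inv ξ b) (iso_app_inv_hom ξ b) (iso_app_hom_inv K b)
    (iso_app_inv_hom K b) (hK1 b)

variable (ι : 𝒜 ⥤ᵇ ℬ)

theorem lift_comp_inv {y : ℬ ⥤ᵇ 𝒳} {F' : ℬ ⥤ᵇ 𝒳} (ξ : y ≅ F') (b : ℬ.obj) {s t t'' : Y}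
    (m : s ⟶ t) (κi : t ⟶ t'') (h1 : q.IsHomLift (ξ.hom.toNatTrans.app b) m)
    (h2 : q.IsHomLift (ξ.inv.toNatTrans.app b) κi) : q.IsHomLift (𝟙 (y.obj b)) (m ≫ κi) := by
  haveI := h1
  haveI := h2
  have l3 : q.IsHomLift (ξ.hom.toNatTrans.app b ≫ ξ.inv.toNatTrans.app b) (m ≫ κi) := inferInstance
  rw [iso_app_hom_inv ξ b] at l3
  exact l3

theorem restr_faithful_of_strict (hq : IsFibGrpd q) (h𝒳 : IsFibGrpd 𝒳.p)
    [(Stk.restr ι 𝒳).Faithful]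
    (H : ∀ y : ℬ ⥤ᵇ 𝒳, (Stk.restr (srcMap ι y) (ov q)).Faithful) :
    (Stk.restr ι (tot q)).Faithful := by
  refine ⟨fun {G G'} α β h => ?_⟩
  have h' : ∀ a : 𝒜.obj, α.toNatTrans.app (ι.obj a) = β.toNatTrans.app (ι.obj a) := fun a =>
    congrArg (fun t : BasedFunctor.comp ι G ⟶ BasedFunctor.comp ι G' => t.toNatTrans.app a) h
  let y : ℬ ⥤ᵇ 𝒳 := BasedFunctor.comp G (proj q)
  have hj : BasedCategory.whiskerRight α (proj q) = BasedCategory.whiskerRight β (proj q) := by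
    apply (Stk.restr ι 𝒳).map_injective
    apply BasedNatTrans.homCategory.ext
    ext a
    change q.map (α.toNatTrans.app (ι.obj a)) = q.map (β.toNatTrans.app (ι.obj a))
    rw [h' a]
  have hj' : ∀ b : ℬ.obj, q.map (α.toNatTrans.app b) = q.map (β.toNatTrans.app b) := fun b =>
    congrArg (fun t : y ⟶ BasedFunctor.comp G' (proj q) => t.toNatTrans.app b) hj
  let ξ : y ≅ BasedFunctor.comp G' (proj q) :=
    StkRel.isoOfFibGrpd h𝒳 (BasedCategory.whiskerRight α (proj q))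
  have hξ : ∀ b : ℬ.obj, ξ.hom.toNatTrans.app b = q.map (α.toNatTrans.app b) := fun b => rfl
  obtain ⟨G'', K, hK1, hK2⟩ := exists_transport q hq h𝒳 y G' ξ
  let G₀ : src y ⥤ᵇ ov q := { toFunctor := G.toFunctor, w := rfl }
  let δ₁ : toC q G₀ ⟶ toC q G'' := α ≫ K.inv
  let δ₂ : toC q G₀ ⟶ toC q G'' := β ≫ K.inv
  have hδ₁ : ∀ b, q.IsHomLift (𝟙 (y.obj b)) (δ₁.toNatTrans.app b) := fun b => by
    refine lift_comp_inv q ξ b (α.toNatTrans.app b) (K.inv.toNatTrans.app b) ?_ (hK2 b)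
    rw [hξ b]
    exact IsHomLift.map q _
  have hδ₂ : ∀ b, q.IsHomLift (𝟙 (y.obj b)) (δ₂.toNatTrans.app b) := fun b => by
    refine lift_comp_inv q ξ b (β.toNatTrans.app b) (K.inv.toNatTrans.app b) ?_ (hK2 b)
    rw [hξ b, hj' b]
    exact IsHomLift.map q _
  have hE : ofC q δ₁ hδ₁ = ofC q δ₂ hδ₂ := by
    haveI := H y
    apply (Stk.restr (srcMap ι y) (ov q)).map_injective
    apply BasedNatTrans.homCategory.ext
    ext a
    change α.toNatTrans.app (ι.obj a) ≫ K.inv.toNatTrans.app (ι.obj a) =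
      β.toNatTrans.app (ι.obj a) ≫ K.inv.toNatTrans.app (ι.obj a)
    rw [h' a]
  have hδ : α ≫ K.inv = β ≫ K.inv := by
    apply BasedNatTrans.homCategory.ext
    exact congrArg (fun t : G₀ ⟶ G'' => t.toNatTrans) hE
  exact (cancel_mono K.inv).1 hδ

theorem restr_full_of_strict (hq : IsFibGrpd q) (h𝒳 : IsFibGrpd 𝒳.p)
    [(Stk.restr ι 𝒳).Full]
    (H : ∀ y : ℬ ⥤ᵇ 𝒳, (Stk.restr (srcMap ι y) (ov q)).Full) :
    (Stk.restr ι (tot q)).Full := by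
  refine ⟨fun {G G'} γ => ?_⟩
  change BasedFunctor.comp ι G ⟶ BasedFunctor.comp ι G' at γ
  let y : ℬ ⥤ᵇ 𝒳 := BasedFunctor.comp G (proj q)
  let γj : (Stk.restr ι 𝒳).obj y ⟶ (Stk.restr ι 𝒳).obj (BasedFunctor.comp G' (proj q)) :=
    BasedCategory.whiskerRight γ (proj q)
  obtain ⟨ξ', hξ'⟩ := (Stk.restr ι 𝒳).map_surjective γj
  have hξ'a : ∀ a : 𝒜.obj, ξ'.toNatTrans.app (ι.obj a) = q.map (γ.toNatTrans.app a) := fun a =>
    congrArg (fun t : (Stk.restr ι 𝒳).obj y ⟶ (Stk.restr ι 𝒳).obj (BasedFunctor.comp G' (proj q)) =>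
      t.toNatTrans.app a) hξ'
  let ξ : y ≅ BasedFunctor.comp G' (proj q) := StkRel.isoOfFibGrpd h𝒳 ξ'
  have hξ : ∀ b : ℬ.obj, ξ.hom.toNatTrans.app b = ξ'.toNatTrans.app b := fun b => rfl
  obtain ⟨G'', K, hK1, hK2⟩ := exists_transport q hq h𝒳 y G' ξ
  let G₀ : src y ⥤ᵇ ov q := { toFunctor := G.toFunctor, w := rfl }
  let γc : toC q (BasedFunctor.comp (srcMap ι y) G₀) ⟶ toC q (BasedFunctor.comp (srcMap ι y) G'') :=
    γ ≫ BasedCategory.whiskerLeft ι K.inv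
  have hγc : ∀ a : 𝒜.obj, q.IsHomLift (𝟙 ((BasedFunctor.comp ι y).obj a)) (γc.toNatTrans.app a) :=
    fun a => by
      refine lift_comp_inv q ξ (ι.obj a) (γ.toNatTrans.app a) (K.inv.toNatTrans.app (ι.obj a)) ?_
        (hK2 (ι.obj a))
      rw [hξ, hξ'a a]
      exact IsHomLift.map q _
  let γ₁ : (Stk.restr (srcMap ι y) (ov q)).obj G₀ ⟶ (Stk.restr (srcMap ι y) (ov q)).obj G'' :=
    ofC q γc hγc
  haveI := H y
  obtain ⟨α₀, hα₀⟩ := (Stk.restr (srcMap ι y) (ov q)).map_surjective γ₁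
  have hα₀a : ∀ a : 𝒜.obj, α₀.toNatTrans.app (ι.obj a) =
      γ.toNatTrans.app a ≫ K.inv.toNatTrans.app (ι.obj a) := fun a =>
    congrArg (fun t : (Stk.restr (srcMap ι y) (ov q)).obj G₀ ⟶
      (Stk.restr (srcMap ι y) (ov q)).obj G'' => t.toNatTrans.app a) hα₀
  let α : G ⟶ G' := (toCHom q α₀ : toC q G₀ ⟶ toC q G'') ≫ K.hom
  refine ⟨α, ?_⟩
  apply BasedNatTrans.homCategory.ext
  ext a
  change α₀.toNatTrans.app (ι.obj a) ≫ K.hom.toNatTrans.app (ι.obj a) = γ.toNatTrans.app a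
  have e1 := iso_app_inv_hom K (ι.obj a)
  have e2 : α₀.toNatTrans.app (ι.obj a) ≫ K.hom.toNatTrans.app (ι.obj a) =
      (γ.toNatTrans.app a ≫ K.inv.toNatTrans.app (ι.obj a)) ≫ K.hom.toNatTrans.app (ι.obj a) :=
    congrArg (fun t => t ≫ K.hom.toNatTrans.app (ι.obj a)) (hα₀a a)
  exact e2.trans ((Category.assoc _ _ _).trans
    ((congrArg (fun t => γ.toNatTrans.app a ≫ t) e1).trans (Category.comp_id _)))

theorem restr_essSurj_of_strict (hq : IsFibGrpd q) (h𝒳 : IsFibGrpd 𝒳.p)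
    [(Stk.restr ι 𝒳).EssSurj]
    (H : ∀ y : ℬ ⥤ᵇ 𝒳, (Stk.restr (srcMap ι y) (ov q)).EssSurj) :
    (Stk.restr ι (tot q)).EssSurj := by
  refine ⟨fun D => ?_⟩
  change 𝒜 ⥤ᵇ tot q at D
  let y : ℬ ⥤ᵇ 𝒳 := (Stk.restr ι 𝒳).objPreimage (BasedFunctor.comp D (proj q))
  let ε : BasedFunctor.comp ι y ≅ BasedFunctor.comp D (proj q) :=
    (Stk.restr ι 𝒳).objObjPreimageIso (BasedFunctor.comp D (proj q))
  obtain ⟨D'', K, -, -⟩ := exists_transport q hq h𝒳 (BasedFunctor.comp ι y) D ε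
  haveI := H y
  let G₁ : src y ⥤ᵇ ov q := (Stk.restr (srcMap ι y) (ov q)).objPreimage D''
  let θ : BasedFunctor.comp (srcMap ι y) G₁ ≅ D'' :=
    (Stk.restr (srcMap ι y) (ov q)).objObjPreimageIso D''
  exact ⟨toC q G₁, ⟨toCIso q θ ≪≫ K⟩⟩

/-- Relative gluing with strict fibres. -/
theorem restr_isEquivalence_of_strict (hq : IsFibGrpd q) (h𝒳 : IsFibGrpd 𝒳.p)
    [(Stk.restr ι 𝒳).IsEquivalence]
    (H : ∀ y : ℬ ⥤ᵇ 𝒳, (Stk.restr (srcMap ι y) (ov q)).IsEquivalence) :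
    (Stk.restr ι (tot q)).IsEquivalence :=
  { faithful := restr_faithful_of_strict q ι hq h𝒳 (fun y => (H y).faithful)
    full := restr_full_of_strict q ι hq h𝒳 (fun y => (H y).full)
    essSurj := restr_essSurj_of_strict q ι hq h𝒳 (fun y => (H y).essSurj) }

end Groth.Agent.Helper6.StkSRel
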