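import Mathlib
import Groth.Prelude.Def_FibCat2
import Groth.Prelude.Def_AlgSt
import Groth.Agent.Helper3.FibGrpd
import Groth.Agent.Helper6.StkPull

/-!
# Helper6: restriction along a functor over the base which is an equivalence of categories is an
equivalence on categories of sections of a category fibred in groupoids.
-/

set_option autoImplicit false
set_option linter.style.haveILetI false
set_option linter.unusedVariables false
universe v₄ u₄ v₃ u₃ v₂ u₂ v u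

namespace Groth.Agent.Helper6.StkWeq
open CategoryTheory Functor FibCat
open Groth.Agent.Helper3 Groth.Agent.Helper6.StkPull

variable {B : Type u} [Category.{v} B]
variable {𝒜 : BasedCategory.{v₂, u₂} B} {ℬ : BasedCategory.{v₃, u₃} B} {𝒴 : BasedCategory.{v₄, u₄} B}
variable (T : 𝒜 ⥤ᵇ ℬ)

theorem restr_faithful [T.toFunctor.EssSurj] : (Stk.restr T 𝒴).Faithful := by
  refine ⟨fun {G G'} α β h => ?_⟩
  have h' : ∀ a : 𝒜.obj, α.toNatTrans.app (T.obj a) = β.toNatTrans.app (T.obj a) := fun a =>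
    congrArg (fun t : BasedFunctor.comp T G ⟶ BasedFunctor.comp T G' => t.toNatTrans.app a) h
  apply BasedNatTrans.homCategory.ext
  ext b
  let a := T.toFunctor.objPreimage b
  let e : T.obj a ≅ b := T.toFunctor.objObjPreimageIso b
  have n1 : G.map e.hom ≫ α.toNatTrans.app b = α.toNatTrans.app (T.obj a) ≫ G'.map e.hom :=
    α.toNatTrans.naturality e.hom
  have n2 : G.map e.hom ≫ β.toNatTrans.app b = β.toNatTrans.app (T.obj a) ≫ G'.map e.hom :=
    β.toNatTrans.naturality e.hom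
  haveI : IsIso (G.map e.hom) := Functor.map_isIso G.toFunctor e.hom
  exact (cancel_epi (G.map e.hom)).1 (by rw [n1, n2, h' a])

theorem restr_full [T.toFunctor.IsEquivalence] : (Stk.restr T 𝒴).Full := by
  refine ⟨fun {G G'} γ => ?_⟩
  change BasedFunctor.comp T G ⟶ BasedFunctor.comp T G' at γ
  obtain ⟨c, hc, hcl, hceq⟩ : ∃ c : ∀ a : 𝒜.obj, G.obj (T.obj a) ⟶ G'.obj (T.obj a),
      (∀ {a a' : 𝒜.obj} (k : a ⟶ a'), G.map (T.map k) ≫ c a' = c a ≫ G'.map (T.map k)) ∧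
      (∀ a : 𝒜.obj, 𝒴.p.IsHomLift (𝟙 (ℬ.p.obj (T.obj a))) (c a)) ∧
      (∀ a : 𝒜.obj, c a = γ.toNatTrans.app a) :=
    ⟨fun a => γ.toNatTrans.app a, fun k => γ.toNatTrans.naturality k,
      fun a => γ.isHomLift (T.w_obj a).symm, fun a => rfl⟩
  let a : ℬ.obj → 𝒜.obj := fun b => T.toFunctor.objPreimage b
  let e : ∀ b, T.obj (a b) ≅ b := fun b => T.toFunctor.objObjPreimageIso b
  have hnat : ∀ {b b' : ℬ.obj} (g : b ⟶ b'),
      G.map g ≫ (G.map (e b').inv ≫ c (a b') ≫ G'.map (e b').hom) =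
        (G.map (e b).inv ≫ c (a b) ≫ G'.map (e b).hom) ≫ G'.map g := by
    intro b b' g
    let k : a b ⟶ a b' := T.toFunctor.preimage ((e b).hom ≫ g ≫ (e b').inv)
    have hk : T.map k = (e b).hom ≫ g ≫ (e b').inv := T.toFunctor.map_preimage _
    have nγ : G.map (T.map k) ≫ c (a b') = c (a b) ≫ G'.map (T.map k) := hc k
    have h1 : G.map g ≫ G.map (e b').inv = G.map (e b).inv ≫ G.map (T.map k) := by
      rw [← G.map_comp, ← G.map_comp, hk]
      simp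
    have h2 : G'.map (T.map k) ≫ G'.map (e b').hom = G'.map (e b).hom ≫ G'.map g := by
      rw [← G'.map_comp, ← G'.map_comp, hk]
      simp
    calc G.map g ≫ (G.map (e b').inv ≫ c (a b') ≫ G'.map (e b').hom)
        = (G.map g ≫ G.map (e b').inv) ≫ c (a b') ≫ G'.map (e b').hom := by
          simp only [Category.assoc]
      _ = G.map (e b).inv ≫ (G.map (T.map k) ≫ c (a b')) ≫ G'.map (e b').hom := by
          rw [h1]; simp only [Category.assoc]
      _ = G.map (e b).inv ≫ c (a b) ≫ (G'.map (T.map k) ≫ G'.map (e b').hom) := by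
          rw [nγ]; simp only [Category.assoc]
      _ = (G.map (e b).inv ≫ c (a b) ≫ G'.map (e b).hom) ≫ G'.map g := by
          rw [h2]; simp only [Category.assoc]
  have hlift : ∀ b, 𝒴.p.IsHomLift (𝟙 (ℬ.p.obj b))
      (G.map (e b).inv ≫ c (a b) ≫ G'.map (e b).hom) := by
    intro b
    haveI h0 := hcl (a b)
    haveI h1 : 𝒴.p.IsHomLift (ℬ.p.map (e b).inv) (G.map (e b).inv) := inferInstance
    haveI h2 : 𝒴.p.IsHomLift (ℬ.p.map (e b).hom) (G'.map (e b).hom) := inferInstance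
    have h3 : 𝒴.p.IsHomLift (ℬ.p.map (e b).inv ≫ 𝟙 _ ≫ ℬ.p.map (e b).hom)
        (G.map (e b).inv ≫ c (a b) ≫ G'.map (e b).hom) := inferInstance
    have h4 : ℬ.p.map (e b).inv ≫ 𝟙 _ ≫ ℬ.p.map (e b).hom = 𝟙 (ℬ.p.obj b) := by
      rw [Category.id_comp, ← ℬ.p.map_comp, Iso.inv_hom_id, ℬ.p.map_id]
    rw [← h4]
    exact h3
  let α : G ⟶ G' :=
    { toNatTrans :=
        { app := fun b => G.map (e b).inv ≫ c (a b) ≫ G'.map (e b).hom
          naturality := fun b b' g => hnat g }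
      isHomLift' := hlift }
  refine ⟨α, ?_⟩
  apply BasedNatTrans.homCategory.ext
  ext a'
  change G.map (e (T.obj a')).inv ≫ c (a (T.obj a')) ≫ G'.map (e (T.obj a')).hom =
    γ.toNatTrans.app a'
  rw [← hceq a']
  let κ : a (T.obj a') ⟶ a' := T.toFunctor.preimage (e (T.obj a')).hom
  have hκ : T.map κ = (e (T.obj a')).hom := T.toFunctor.map_preimage _
  have nγ : G.map (T.map κ) ≫ c a' = c (a (T.obj a')) ≫ G'.map (T.map κ) := hc κ
  rw [hκ] at nγ
  rw [← nγ, ← Category.assoc, ← G.map_comp, Iso.inv_hom_id, G.map_id, Category.id_comp]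

theorem restr_essSurj (h𝒴 : IsFibGrpd 𝒴.p) [T.toFunctor.IsEquivalence] :
    (Stk.restr T 𝒴).EssSurj := by
  refine ⟨fun D => ?_⟩
  change 𝒜 ⥤ᵇ 𝒴 at D
  obtain ⟨Ti, cI, uI, hcI, huI, tri, hcIiso, huIiso⟩ : ∃ (Ti : ℬ.obj ⥤ 𝒜.obj)
      (cI : ∀ b : ℬ.obj, b ⟶ T.obj (Ti.obj b)) (uI : ∀ a : 𝒜.obj, Ti.obj (T.obj a) ⟶ a),
      (∀ {b b' : ℬ.obj} (g : b ⟶ b'), g ≫ cI b' = cI b ≫ T.map (Ti.map g)) ∧
      (∀ {a a' : 𝒜.obj} (k : a ⟶ a'), Ti.map (T.map k) ≫ uI a' = uI a ≫ k) ∧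
      (∀ a : 𝒜.obj, cI (T.obj a) ≫ T.map (uI a) = 𝟙 (T.obj a)) ∧
      (∀ b, IsIso (cI b)) ∧ (∀ a, IsIso (uI a)) :=
    ⟨T.toFunctor.asEquivalence.inverse, fun b => T.toFunctor.asEquivalence.counitInv.app b,
      fun a => T.toFunctor.asEquivalence.unitInv.app a,
      fun g => T.toFunctor.asEquivalence.counitInv.naturality g,
      fun k => T.toFunctor.asEquivalence.unitInv.naturality k,
      fun a => T.toFunctor.asEquivalence.counitInv_functor_comp a,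
      fun b => (inferInstance : IsIso (T.toFunctor.asEquivalence.counitInv.app b)),
      fun a => (inferInstance : IsIso (T.toFunctor.asEquivalence.unitInv.app a))⟩
  obtain ⟨t, ht, hteq⟩ : ∃ t : ∀ a : 𝒜.obj, ℬ.p.obj (T.obj a) ⟶ 𝒜.p.obj a,
      (∀ {a a' : 𝒜.obj} (k : a ⟶ a'), ℬ.p.map (T.map k) ≫ t a' = t a ≫ 𝒜.p.map k) ∧
      (∀ a, t a = eqToHom (T.w_obj a)) :=
    ⟨fun a => (eqToHom T.w : T.toFunctor ⋙ ℬ.p ⟶ 𝒜.p).app a,
      fun k => (eqToHom T.w : T.toFunctor ⋙ ℬ.p ⟶ 𝒜.p).naturality k,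
      fun a => eqToHom_app T.w a⟩
  haveI := hcIiso
  haveI := huIiso
  haveI htiso : ∀ a, IsIso (t a) := fun a => by rw [hteq]; infer_instance
  let D₀ : ℬ.obj ⥤ 𝒴.obj := Ti ⋙ D.toFunctor
  let E : ℬ.obj ⥤ B := Ti ⋙ 𝒜.p
  have hDE : ∀ {b b' : ℬ.obj} (g : b ⟶ b'), 𝒴.p.IsHomLift (E.map g) (D₀.map g) := by
    intro b b' g
    show 𝒴.p.IsHomLift (𝒜.p.map (Ti.map g)) (D.map (Ti.map g))
    infer_instance
  let θ : ℬ.p ⟶ E :=
    { app := fun b => ℬ.p.map (cI b) ≫ t (Ti.obj b)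
      naturality := fun b b' g => by
        change ℬ.p.map g ≫ ℬ.p.map (cI b') ≫ t (Ti.obj b') =
          (ℬ.p.map (cI b) ≫ t (Ti.obj b)) ≫ 𝒜.p.map (Ti.map g)
        rw [← Category.assoc, ← ℬ.p.map_comp, hcI g, ℬ.p.map_comp, Category.assoc, ht (Ti.map g),
          Category.assoc] }
  obtain ⟨G, φ, hφ⟩ := exists_pull h𝒴 D₀ E hDE θ
  obtain ⟨f, hfnat, hflift⟩ : ∃ f : ∀ b : ℬ.obj, G.obj b ⟶ D.obj (Ti.obj b),
      (∀ {b b' : ℬ.obj} (g : b ⟶ b'), G.map g ≫ f b' = f b ≫ D.map (Ti.map g)) ∧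
      (∀ b, 𝒴.p.IsHomLift (ℬ.p.map (cI b) ≫ t (Ti.obj b)) (f b)) :=
    ⟨fun b => φ.app b, fun g => φ.naturality g, hφ⟩
  haveI hfiso : ∀ b, IsIso (f b) := fun b => by
    haveI := hflift b
    exact FibGrpd.isIso_of_lift_iso h𝒴 (ℬ.p.map (cI b) ≫ t (Ti.obj b)) (f b)
  have key : ∀ a : 𝒜.obj, (ℬ.p.map (cI (T.obj a)) ≫ t (Ti.obj (T.obj a))) ≫ 𝒜.p.map (uI a) =
      eqToHom (T.w_obj a) := by
    intro a
    rw [Category.assoc, ← ht (uI a), ← Category.assoc, ← ℬ.p.map_comp, tri, ℬ.p.map_id,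
      Category.id_comp, hteq]
  refine ⟨G, ⟨BasedNatIso.mkNatIso
    (NatIso.ofComponents
      (fun a => (asIso (f (T.obj a)) : G.obj (T.obj a) ≅ D.obj (Ti.obj (T.obj a))) ≪≫
        D.toFunctor.mapIso (asIso (uI a))) ?_) ?_⟩⟩
  · intro a a' k
    change G.map (T.map k) ≫ (f (T.obj a') ≫ D.map (uI a')) =
      (f (T.obj a) ≫ D.map (uI a)) ≫ D.map k
    rw [← Category.assoc, hfnat (T.map k), Category.assoc, Category.assoc, ← D.map_comp,
      ← D.map_comp, huI k]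
  · intro a
    change 𝒴.p.IsHomLift (𝟙 (𝒜.p.obj a)) (f (T.obj a) ≫ D.map (uI a))
    haveI := hflift (T.obj a)
    have h3 : 𝒴.p.IsHomLift ((ℬ.p.map (cI (T.obj a)) ≫ t (Ti.obj (T.obj a))) ≫ 𝒜.p.map (uI a))
        (f (T.obj a) ≫ D.map (uI a)) := inferInstance
    rw [key a] at h3
    exact lift_id_of_lift_eqToHom 𝒴.p _ _ h3

/-- Restriction along an equivalence of categories over the base is an equivalence. -/
theorem restr_isEquivalence (h𝒴 : IsFibGrpd 𝒴.p) [T.toFunctor.IsEquivalence] :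
    (Stk.restr T 𝒴).IsEquivalence :=
  { faithful := restr_faithful T
    full := restr_full T
    essSurj := restr_essSurj T h𝒴 }

end Groth.Agent.Helper6.StkWeq
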