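import Mathlib
import Groth.Prelude.Def_FibCat2
import Groth.Prelude.Def_AlgSt
import Groth.Agent.Helper3.FibGrpd
import Groth.Agent.Helper6.StkPull
import Groth.Agent.Helper6.StkWeq
import Groth.Agent.Helper6.StkSRel
import Groth.Agent.Helper6.RestrTop

/-!
# Helper6: for `y : C/U ⟶ 𝒳` over `C`, the functor `C/U ⟶ 𝒳/y(𝟙_U)` is an equivalence over `𝒳`,
compatible with sieves; consequences for gluing.
-/

set_option autoImplicit false
set_option linter.style.haveILetI false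
set_option linter.unusedVariables false
universe v₄ u₄ v₂ u₂ v u

namespace Groth.Agent.Helper6.StkOverT
open CategoryTheory Functor FibCat
open Groth.Agent.Helper3 Groth.Agent.Helper6.StkPull Groth.Agent.Helper6.StkSRel

variable {C : Type u} [Category.{v} C] {𝒳 : BasedCategory.{v₂, u₂} C} {U : C}

abbrev one (U : C) : Over U := Over.mk (𝟙 U)

def tX (a : Over U) : a ⟶ one U := Over.homMk a.hom (by simp)

theorem htX {a a' : Over U} (k : a ⟶ a') : k ≫ tX a' = tX a := by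
  ext
  simp [tX]

variable (y : overCat U ⥤ᵇ 𝒳)

/-- The underlying functor of `y`, with source typed as `Over U`. -/
abbrev yf : Over U ⥤ 𝒳.obj := y.toFunctor

theorem hU : 𝒳.p.obj ((yf y).obj (one U)) = U := y.w_obj (one U)

theorem lift_map {a a' : Over U} (k : a ⟶ a') : 𝒳.p.IsHomLift k.left ((yf y).map k) :=
  @BasedFunctor.preserves_isHomLift _ _ _ _ y _ _ _ _ k.left k
    (Functor.IsHomLift.map (p := (overCat U).p) k)

theorem lift_tX (a : Over U) : 𝒳.p.IsHomLift a.hom ((yf y).map (tX a)) := lift_map y (tX a)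

theorem map_tX {a a' : Over U} (k : a ⟶ a') :
    (yf y).map k ≫ (yf y).map (tX a') = (yf y).map (tX a) := by
  rw [← (yf y).map_comp, htX]

/-- The functor `C/U ⥤ 𝒳/y(𝟙_U)`. -/
def Tfun : Over U ⥤ Over ((yf y).obj (one U)) where
  obj a := Over.mk ((yf y).map (tX a))
  map {a a'} k := Over.homMk ((yf y).map k) (map_tX y k)
  map_id a := by
    ext
    exact (yf y).map_id a
  map_comp k k' := by
    ext
    exact (yf y).map_comp k k'

/-- The same functor, over `𝒳`. -/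
def T : src y ⥤ᵇ overCat ((yf y).obj (one U)) where
  toFunctor := Tfun y
  w := rfl

theorem Tfun_faithful : (Tfun y).Faithful := by
  refine ⟨fun {a a'} k k' h => ?_⟩
  have h1 : (yf y).map k = (yf y).map k' :=
    congrArg (fun m : (Tfun y).obj a ⟶ (Tfun y).obj a' => m.left) h
  have l2 : 𝒳.p.IsHomLift k'.left ((yf y).map k) := by
    rw [h1]
    exact lift_map y k'
  exact Over.OverMorphism.ext (base_eq 𝒳.p k.left k'.left ((yf y).map k) (lift_map y k) l2)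

theorem exists_base {a a' : Over U} (φ : (yf y).obj a ⟶ (yf y).obj a') :
    ∃ k₀ : a.left ⟶ a'.left, 𝒳.p.IsHomLift k₀ φ := by
  have h2 : 𝒳.p.IsHomLift (eqToHom (y.w_obj a).symm ≫ 𝒳.p.map φ ≫ eqToHom (y.w_obj a')) φ :=
    inferInstance
  exact ⟨_, h2⟩

theorem Tfun_full (h𝒳 : IsFibGrpd 𝒳.p) : (Tfun y).Full := by
  refine ⟨fun {a a'} g => ?_⟩
  obtain ⟨φ, hφ, hφg⟩ : ∃ φ : (yf y).obj a ⟶ (yf y).obj a',
      φ ≫ (yf y).map (tX a') = (yf y).map (tX a) ∧ φ = g.left := ⟨g.left, Over.w g, rfl⟩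
  obtain ⟨k₀, l0⟩ := exists_base y φ
  have hk₀ : k₀ ≫ a'.hom = a.hom := by
    have l1 : 𝒳.p.IsHomLift (k₀ ≫ a'.hom) (φ ≫ (yf y).map (tX a')) := by
      haveI := l0
      haveI := lift_tX y a'
      infer_instance
    rw [hφ] at l1
    exact base_eq 𝒳.p _ _ _ l1 (lift_tX y a)
  let k : a ⟶ a' := Over.homMk k₀ hk₀
  have hk : (yf y).map k = φ := by
    refine map_ext 𝒳.p h𝒳 a'.hom k₀ ((yf y).map (tX a')) (lift_tX y a') ((yf y).map k) φ
      (lift_map y k) l0 ?_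
    rw [map_tX, hφ]
  refine ⟨k, Over.OverMorphism.ext ?_⟩
  exact hk.trans hφg

theorem Tfun_exists (h𝒳 : IsFibGrpd 𝒳.p) (w : Over ((yf y).obj (one U))) :
    ∃ (a : Over U) (e : (Tfun y).obj a ≅ w),
      ∀ R : Sieve U, R.arrows (𝒳.p.map w.hom ≫ eqToHom (hU y)) → R.arrows a.hom := by
  let a : Over U := Over.mk (𝒳.p.map w.hom ≫ eqToHom (hU y))
  have l1 : 𝒳.p.IsHomLift a.hom w.hom := by
    show 𝒳.p.IsHomLift (𝒳.p.map w.hom ≫ eqToHom (hU y)) w.hom
    infer_instance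
  obtain ⟨μ, hμ1, hμ2⟩ := exists_map 𝒳.p h𝒳 a.hom (𝟙 _) a.hom (Category.id_comp _).symm w.hom l1
    ((yf y).map (tX a)) (lift_tX y a)
  haveI := hμ1
  haveI : IsIso μ := FibGrpd.isIso_of_lift_id h𝒳 (U := a.left) μ
  let eμ : (yf y).obj a ≅ w.left := asIso μ
  exact ⟨a, Over.isoMk eμ hμ2, fun R hR => hR⟩

theorem Tfun_isEquivalence (h𝒳 : IsFibGrpd 𝒳.p) : (Tfun y).IsEquivalence :=
  { faithful := Tfun_faithful y
    full := Tfun_full y h𝒳
    essSurj := ⟨fun w => by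
      obtain ⟨a, e, -⟩ := Tfun_exists y h𝒳 w
      exact ⟨a, ⟨e⟩⟩⟩ }

variable (R : Sieve U)

/-- The sieve on `y(𝟙_U)` corresponding to `R`. -/
def R' : Sieve ((yf y).obj (one U)) :=
  Sieve.functorPullback 𝒳.p (R.pullback (eqToHom (hU y)))

theorem R'_iff {x' : 𝒳.obj} (f' : x' ⟶ (yf y).obj (one U)) :
    (R' y R).arrows f' ↔ R.arrows (𝒳.p.map f' ≫ eqToHom (hU y)) := Iff.rfl

theorem mem_R' (b : R.arrows.category) : (R' y R).arrows ((Tfun y).obj b.obj).hom := by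
  rw [R'_iff]
  show R.arrows (𝒳.p.map ((yf y).map (tX b.obj)) ≫ eqToHom (hU y))
  rw [map_comp_eqToHom 𝒳.p b.obj.hom ((yf y).map (tX b.obj)) (lift_tX y b.obj) (hU y)]
  exact R.downward_closed b.property _

/-- `T` restricted to the sieves. -/
def TR : src (BasedFunctor.comp (Stk.sieveIncl R) y) ⥤ᵇ Stk.sieveCat (R' y R) where
  toFunctor := ObjectProperty.lift _ (ObjectProperty.ι _ ⋙ Tfun y) (fun b => mem_R' y R b)
  w := rfl

theorem TR_isEquivalence (h𝒳 : IsFibGrpd 𝒳.p) : (TR y R).toFunctor.IsEquivalence := by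
  haveI := Tfun_faithful y
  haveI := Tfun_full y h𝒳
  refine { faithful := ?_, full := ?_, essSurj := ⟨fun w => ?_⟩ }
  · show (ObjectProperty.lift _ (ObjectProperty.ι _ ⋙ Tfun y) (fun b => mem_R' y R b)).Faithful
    infer_instance
  · show (ObjectProperty.lift _ (ObjectProperty.ι _ ⋙ Tfun y) (fun b => mem_R' y R b)).Full
    infer_instance
  · obtain ⟨a, e, ha⟩ := Tfun_exists y h𝒳 w.obj
    have haR : R.arrows a.hom := ha R ((R'_iff y R w.obj.hom).1 w.property)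
    exact ⟨⟨a, haR⟩, ⟨ObjectProperty.isoMk _ e⟩⟩

theorem covering (h𝒳 : IsFibGrpd 𝒳.p) (J : GrothendieckTopology C) (hR : R ∈ J U) :
    R' y R ∈ 𝒳.p.restrictedTopology J ((yf y).obj (one U)) := by
  rw [RestrTop.mem_restrictedTopology_iff 𝒳.p h𝒳 J]
  have h1 : R.pullback (eqToHom (hU y)) ∈ J (𝒳.p.obj ((yf y).obj (one U))) :=
    J.pullback_stable _ hR
  refine J.superset_covering ?_ h1
  intro W g hg
  obtain ⟨z, f', hf'⟩ := h𝒳.exists_lift (x := (yf y).obj (one U)) g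
  haveI := hf'
  refine ⟨z, f', eqToHom (IsHomLift.domain_eq 𝒳.p g f').symm, ?_,
    RestrTop.eq_eqToHom_comp_map 𝒳.p g f'⟩
  rw [R'_iff, map_comp_eqToHom 𝒳.p (g ≫ eqToHom (hU y)) f' inferInstance (hU y)]
  exact R.downward_closed hg _

/-- The square of restrictions commutes. -/
def sqIso (𝒴 : BasedCategory.{v₄, u₄} 𝒳.obj) :
    Stk.restr (T y) 𝒴 ⋙ Stk.restr (srcMap (Stk.sieveIncl R) y) 𝒴 ≅
      Stk.resSieve (R' y R) 𝒴 ⋙ Stk.restr (TR y R) 𝒴 :=
  NatIso.ofComponents (fun G => Iso.refl _) (fun {G G'} α => by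
    dsimp only [Iso.refl_hom]
    erw [Category.comp_id, Category.id_comp]
    apply BasedNatTrans.homCategory.ext
    rfl)

/-- If `𝒴` (fibred in groupoids over `𝒳`) glues along the sieve `R'` on `y(𝟙_U)`, then sections of `𝒴`
along `y` glue along `R`. -/
theorem restr_srcMap_isEquivalence (h𝒳 : IsFibGrpd 𝒳.p) (𝒴 : BasedCategory.{v₄, u₄} 𝒳.obj)
    (h𝒴 : IsFibGrpd 𝒴.p) (h : (Stk.resSieve (R' y R) 𝒴).IsEquivalence) :
    (Stk.restr (srcMap (Stk.sieveIncl R) y) 𝒴).IsEquivalence := by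
  haveI : (T y).toFunctor.IsEquivalence := Tfun_isEquivalence y h𝒳
  haveI := TR_isEquivalence y R h𝒳
  haveI e1 : (Stk.restr (T y) 𝒴).IsEquivalence := StkWeq.restr_isEquivalence (T y) h𝒴
  haveI e2 : (Stk.restr (TR y R) 𝒴).IsEquivalence := StkWeq.restr_isEquivalence (TR y R) h𝒴
  haveI := h
  haveI : (Stk.restr (T y) 𝒴 ⋙ Stk.restr (srcMap (Stk.sieveIncl R) y) 𝒴).IsEquivalence :=
    Functor.isEquivalence_of_iso (sqIso y R 𝒴).symm
  exact Functor.isEquivalence_of_comp_left (Stk.restr (T y) 𝒴) _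

end Groth.Agent.Helper6.StkOverT
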