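import Mathlib
import Groth.Prelude.Def_FibCat2
import Groth.Prelude.Def_AlgSt
import Groth.Agent.Helper3.FibGrpd
import Groth.Agent.Helper6.StkPull
import Groth.Agent.Helper6.StkRel
import Groth.Agent.Helper6.StkSRel

/-!
# Helper6: converse of relative gluing with strict fibres: if sections of `𝒳` and of `Y` over `C` glue
along `ι`, then for every `y : ℬ ⥤ᵇ 𝒳` sections of `Y` over `𝒳` along `y` glue along `ι`.
-/

set_option autoImplicit false
set_option linter.style.haveILetI false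
set_option linter.unusedVariables false
universe v₇ u₇ v₆ u₆ v₅ u₅ v₃ u₃ v₂ u₂ v u

namespace Groth.Agent.Helper6.StkSRelConv
open CategoryTheory Functor FibCat
open Groth.Agent.Helper3 Groth.Agent.Helper6.StkPull Groth.Agent.Helper6.StkSRel

variable {C : Type u} [Category.{v} C] {𝒳 : BasedCategory.{v₂, u₂} C}
variable {Y : Type u₃} [Category.{v₃} Y] (q : Y ⥤ 𝒳.obj)
variable {𝒜 : BasedCategory.{v₅, u₅} C} {ℬ : BasedCategory.{v₆, u₆} C}

theorem lift_id_of_lift_eqToHom' {D : Type*} [Category D] {E : Type*} [Category E] (p : E ⥤ D)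
    {R S : D} (h : R = S) {a b : E} (ψ : a ⟶ b)
    (hψ : p.IsHomLift (eqToHom h) ψ) : p.IsHomLift (𝟙 R) ψ := by
  subst h
  simpa using hψ

theorem eqToHom_id_eqToHom {D : Type*} [Category D] {x y z : D} (h1 : x = y) (h2 : y = z) :
    eqToHom h1 ≫ 𝟙 y ≫ eqToHom h2 = eqToHom (h1.trans h2) := by
  subst h1
  subst h2
  simp

theorem comp_eq_eqToHom_of {D : Type*} [Category D] {x z w : D} (f : x ⟶ z) (g : z ⟶ w)
    (hh : w = x) (e : f ≫ g ≫ eqToHom hh = 𝟙 x) : f ≫ g = eqToHom hh.symm := by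
  subst hh
  simpa using e

theorem lift_id_comp_of {s t u : Y} {x : 𝒳.obj} (k : s ⟶ t) (m : t ⟶ u) (f : x ⟶ q.obj t)
    (hk : q.IsHomLift f k) (h : x = q.obj u) (e : f ≫ q.map m = eqToHom h) :
    q.IsHomLift (𝟙 x) (k ≫ m) := by
  haveI := hk
  have l1 : q.IsHomLift (f ≫ q.map m) (k ≫ m) := inferInstance
  rw [e] at l1
  exact lift_id_of_lift_eqToHom' q _ _ l1

/-- The 2-morphism between two functors over `C` with equal underlying functors. -/
def strictHom {𝒟 : BasedCategory.{v₇, u₇} C} (F F' : 𝒟 ⥤ᵇ 𝒳) (h : F.toFunctor = F'.toFunctor) :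
    F ⟶ F' where
  toNatTrans := eqToHom h
  isHomLift' := fun b => by
    rw [eqToHom_app]
    exact IsHomLift.eqToHom_domain_lift_id _ (F.w_obj b)

theorem strictHom_app {𝒟 : BasedCategory.{v₇, u₇} C} (F F' : 𝒟 ⥤ᵇ 𝒳)
    (h : F.toFunctor = F'.toFunctor) (b : 𝒟.obj) :
    (strictHom F F' h).toNatTrans.app b = eqToHom (Functor.congr_obj h b) :=
  eqToHom_app h b

variable (ι : 𝒜 ⥤ᵇ ℬ)

theorem srcMap_faithful [(Stk.restr ι (tot q)).Faithful] (y : ℬ ⥤ᵇ 𝒳) :
    (Stk.restr (srcMap ι y) (ov q)).Faithful := by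
  refine ⟨fun {H H'} α₀ β₀ h => ?_⟩
  have h' : ∀ a : 𝒜.obj, α₀.toNatTrans.app (ι.obj a) = β₀.toNatTrans.app (ι.obj a) := fun a =>
    congrArg (fun t : BasedFunctor.comp (srcMap ι y) H ⟶ BasedFunctor.comp (srcMap ι y) H' =>
      t.toNatTrans.app a) h
  have h2 : toCHom q α₀ = toCHom q β₀ := by
    apply (Stk.restr ι (tot q)).map_injective
    apply BasedNatTrans.homCategory.ext
    ext a
    exact h' a
  apply BasedNatTrans.homCategory.ext
  exact congrArg (fun t : toC q H ⟶ toC q H' => t.toNatTrans) h2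

theorem srcMap_full [(Stk.restr ι 𝒳).Faithful] [(Stk.restr ι (tot q)).Full] (y : ℬ ⥤ᵇ 𝒳) :
    (Stk.restr (srcMap ι y) (ov q)).Full := by
  refine ⟨fun {H H'} γ₀ => ?_⟩
  change BasedFunctor.comp (srcMap ι y) H ⟶ BasedFunctor.comp (srcMap ι y) H' at γ₀
  let γ : (Stk.restr ι (tot q)).obj (toC q H) ⟶ (Stk.restr ι (tot q)).obj (toC q H') :=
    toCHom q γ₀
  obtain ⟨α, hα⟩ := (Stk.restr ι (tot q)).map_surjective γ
  have hαa : ∀ a : 𝒜.obj, α.toNatTrans.app (ι.obj a) = γ₀.toNatTrans.app a := fun a =>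
    congrArg (fun t : (Stk.restr ι (tot q)).obj (toC q H) ⟶ (Stk.restr ι (tot q)).obj (toC q H') =>
      t.toNatTrans.app a) hα
  have hHH' : (BasedFunctor.comp (toC q H) (proj q)).toFunctor =
      (BasedFunctor.comp (toC q H') (proj q)).toFunctor :=
    (H.w : H.toFunctor ⋙ q = y.toFunctor).trans (H'.w : H'.toFunctor ⋙ q = y.toFunctor).symm
  have hI : BasedCategory.whiskerRight α (proj q) =
      strictHom (BasedFunctor.comp (toC q H) (proj q)) (BasedFunctor.comp (toC q H') (proj q)) hHH' := by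
    apply (Stk.restr ι 𝒳).map_injective
    apply BasedNatTrans.homCategory.ext
    ext a
    change q.map (α.toNatTrans.app (ι.obj a)) = (strictHom _ _ hHH').toNatTrans.app (ι.obj a)
    haveI : q.IsHomLift (𝟙 (y.obj (ι.obj a))) (γ₀.toNatTrans.app a) := γ₀.isHomLift' a
    have e := IsHomLift.fac' q (𝟙 (y.obj (ι.obj a))) (γ₀.toNatTrans.app a)
    have e' : q.map (γ₀.toNatTrans.app a) = eqToHom (Functor.congr_obj hHH' (ι.obj a)) :=
      e.trans (eqToHom_id_eqToHom _ _)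
    exact (congrArg (fun t => q.map t) (hαa a)).trans
      (e'.trans (strictHom_app _ _ hHH' (ι.obj a)).symm)
  have hlift : ∀ b : ℬ.obj, q.IsHomLift (𝟙 (y.obj b)) (α.toNatTrans.app b) := by
    intro b
    have e : q.map (α.toNatTrans.app b) = eqToHom (Functor.congr_obj hHH' b) := by
      have := congrArg (fun t : BasedFunctor.comp (toC q H) (proj q) ⟶
        BasedFunctor.comp (toC q H') (proj q) => t.toNatTrans.app b) hI
      exact this.trans (strictHom_app _ _ hHH' b)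
    refine IsHomLift.of_fac' q (𝟙 (y.obj b)) (α.toNatTrans.app b) (H.w_obj b) (H'.w_obj b) ?_
    exact e.trans (eqToHom_id_eqToHom _ _).symm
  refine ⟨ofC q α hlift, ?_⟩
  apply BasedNatTrans.homCategory.ext
  ext a
  exact hαa a

theorem srcMap_essSurj (hq : IsFibGrpd q) (h𝒳 : IsFibGrpd 𝒳.p) [(Stk.restr ι 𝒳).Full]
    [(Stk.restr ι (tot q)).EssSurj] (y : ℬ ⥤ᵇ 𝒳) :
    (Stk.restr (srcMap ι y) (ov q)).EssSurj := by
  refine ⟨fun D₀ => ?_⟩
  change src (BasedFunctor.comp ι y) ⥤ᵇ ov q at D₀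
  let Dc : 𝒜 ⥤ᵇ tot q := toC q D₀
  let G : ℬ ⥤ᵇ tot q := (Stk.restr ι (tot q)).objPreimage Dc
  let θ : BasedFunctor.comp ι G ≅ Dc := (Stk.restr ι (tot q)).objObjPreimageIso Dc
  have hD : (BasedFunctor.comp Dc (proj q)).toFunctor = (BasedFunctor.comp ι y).toFunctor := D₀.w
  let ζ : (Stk.restr ι 𝒳).obj (BasedFunctor.comp G (proj q)) ⟶ (Stk.restr ι 𝒳).obj y :=
    (BasedCategory.whiskerRight θ.hom (proj q) : BasedFunctor.comp (BasedFunctor.comp ι G) (proj q) ⟶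
      BasedFunctor.comp Dc (proj q)) ≫ strictHom _ _ hD
  obtain ⟨ξ', hξ'⟩ := (Stk.restr ι 𝒳).map_surjective ζ
  have hξ'a : ∀ a : 𝒜.obj, ξ'.toNatTrans.app (ι.obj a) =
      q.map (θ.hom.toNatTrans.app a) ≫ eqToHom (Functor.congr_obj hD a) := fun a => by
    have := congrArg (fun t : (Stk.restr ι 𝒳).obj (BasedFunctor.comp G (proj q)) ⟶
      (Stk.restr ι 𝒳).obj y => t.toNatTrans.app a) hξ'
    exact this.trans (congrArg (fun t => q.map (θ.hom.toNatTrans.app a) ≫ t)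
      (strictHom_app _ _ hD a))
  let ξ : y ≅ BasedFunctor.comp G (proj q) := (StkRel.isoOfFibGrpd h𝒳 ξ').symm
  have hξinv : ∀ b : ℬ.obj, ξ.inv.toNatTrans.app b = ξ'.toNatTrans.app b := fun b => rfl
  obtain ⟨G'', K, hK1, hK2⟩ := exists_transport q hq h𝒳 y G ξ
  let δ : toC q (BasedFunctor.comp (srcMap ι y) G'') ⟶ toC q D₀ :=
    BasedCategory.whiskerLeft ι K.hom ≫ θ.hom
  have hδ : ∀ a : 𝒜.obj, q.IsHomLift (𝟙 ((BasedFunctor.comp ι y).obj a)) (δ.toNatTrans.app a) := by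
    intro a
    have e1 := iso_app_hom_inv ξ (ι.obj a)
    have e2 : ξ.inv.toNatTrans.app (ι.obj a) =
        q.map (θ.hom.toNatTrans.app a) ≫ eqToHom (Functor.congr_obj hD a) :=
      (hξinv (ι.obj a)).trans (hξ'a a)
    have e3 : ξ.hom.toNatTrans.app (ι.obj a) ≫ q.map (θ.hom.toNatTrans.app a) ≫
        eqToHom (Functor.congr_obj hD a) = 𝟙 _ :=
      (congrArg (fun t => ξ.hom.toNatTrans.app (ι.obj a) ≫ t) e2).symm.trans e1
    have e := comp_eq_eqToHom_of _ _ _ e3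
    exact lift_id_comp_of q (K.hom.toNatTrans.app (ι.obj a)) (θ.hom.toNatTrans.app a)
      (ξ.hom.toNatTrans.app (ι.obj a)) (hK1 (ι.obj a)) _ e
  let δ₀ : BasedFunctor.comp (srcMap ι y) G'' ⟶ D₀ := ofC q δ hδ
  exact ⟨G'', ⟨StkRel.isoOfFibGrpd (𝒴 := ov q) hq δ₀⟩⟩

/-- Converse of relative gluing with strict fibres. -/
theorem srcMap_isEquivalence (hq : IsFibGrpd q) (h𝒳 : IsFibGrpd 𝒳.p)
    [(Stk.restr ι 𝒳).IsEquivalence] [(Stk.restr ι (tot q)).IsEquivalence] (y : ℬ ⥤ᵇ 𝒳) :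
    (Stk.restr (srcMap ι y) (ov q)).IsEquivalence :=
  { faithful := srcMap_faithful q ι y
    full := srcMap_full q ι y
    essSurj := srcMap_essSurj q ι hq h𝒳 y }

end Groth.Agent.Helper6.StkSRelConv
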