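import Mathlib
import Groth.Prelude.Def_FibCat2
import Groth.Prelude.Def_AlgSt
import Groth.Agent.Helper3.FibGrpd
import Groth.Agent.Helper6.StkPull
import Groth.Agent.Helper6.StkWeq
import Groth.Agent.Helper6.StkSRel
import Groth.Agent.Helper6.StkOverT
import Groth.Agent.Helper6.StkSRelConv

/-!
# Helper6: transfer of gluing along an isomorphism of objects of the base, and the converse transfer
for `StkOverT`.
-/

set_option autoImplicit false
set_option linter.style.haveILetI false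
set_option linter.unusedVariables false
universe v₄ u₄ v₂ u₂ v u

namespace Groth.Agent.Helper6.StkOverIso
open CategoryTheory Functor FibCat
open Groth.Agent.Helper3 Groth.Agent.Helper6.StkPull Groth.Agent.Helper6.StkSRel
open Groth.Agent.Helper6.StkOverT

section Iso

variable {B : Type u} [Category.{v} B] {y₁ y₀ : B} (e : y₁ ≅ y₀)

/-- `B/y₁ ⥤ B/y₀` over `B`. -/
def M : overCat y₁ ⥤ᵇ overCat y₀ where
  toFunctor := Over.map e.hom
  w := rfl

variable (S₀ : Sieve y₀)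

theorem mem_MR (b : (S₀.pullback e.hom).arrows.category) :
    S₀.arrows ((Over.map e.hom).obj b.obj).hom := by
  have := b.property
  simpa using this

/-- The same functor restricted to sieves. -/
def MR : Stk.sieveCat (S₀.pullback e.hom) ⥤ᵇ Stk.sieveCat S₀ where
  toFunctor := ObjectProperty.lift _ (ObjectProperty.ι _ ⋙ Over.map e.hom) (fun b => mem_MR e S₀ b)
  w := rfl

theorem MR_isEquivalence : (MR e S₀).toFunctor.IsEquivalence := by
  refine { faithful := ?_, full := ?_, essSurj := ⟨fun w => ?_⟩ }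
  · show (ObjectProperty.lift _ (ObjectProperty.ι _ ⋙ Over.map e.hom)
      (fun b => mem_MR e S₀ b)).Faithful
    infer_instance
  · show (ObjectProperty.lift _ (ObjectProperty.ι _ ⋙ Over.map e.hom)
      (fun b => mem_MR e S₀ b)).Full
    infer_instance
  · have ha : (S₀.pullback e.hom).arrows (w.obj.hom ≫ e.inv) := by
      show S₀.arrows ((w.obj.hom ≫ e.inv) ≫ e.hom)
      rw [Category.assoc, Iso.inv_hom_id, Category.comp_id]
      exact w.property
    refine ⟨⟨Over.mk (w.obj.hom ≫ e.inv), ha⟩, ⟨ObjectProperty.isoMk _ ?_⟩⟩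
    refine Over.isoMk (Iso.refl _) ?_
    show 𝟙 _ ≫ w.obj.hom = (w.obj.hom ≫ e.inv) ≫ e.hom
    rw [Category.id_comp, Category.assoc, Iso.inv_hom_id, Category.comp_id]

/-- The square of restrictions commutes. -/
def sqIso (𝒵 : BasedCategory.{v₄, u₄} B) :
    Stk.restr (M e) 𝒵 ⋙ Stk.resSieve (S₀.pullback e.hom) 𝒵 ≅
      Stk.resSieve S₀ 𝒵 ⋙ Stk.restr (MR e S₀) 𝒵 :=
  NatIso.ofComponents (fun G => Iso.refl _) (fun {G G'} α => by
    dsimp only [Iso.refl_hom]
    erw [Category.comp_id, Category.id_comp]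
    apply BasedNatTrans.homCategory.ext
    rfl)

theorem resSieve_isEquivalence_of_pullback (𝒵 : BasedCategory.{v₄, u₄} B) (h𝒵 : IsFibGrpd 𝒵.p)
    (h : (Stk.resSieve (S₀.pullback e.hom) 𝒵).IsEquivalence) :
    (Stk.resSieve S₀ 𝒵).IsEquivalence := by
  haveI : (M e).toFunctor.IsEquivalence := by
    show (Over.map e.hom).IsEquivalence
    infer_instance
  haveI := MR_isEquivalence e S₀
  haveI e1 : (Stk.restr (M e) 𝒵).IsEquivalence := StkWeq.restr_isEquivalence (M e) h𝒵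
  haveI e2 : (Stk.restr (MR e S₀) 𝒵).IsEquivalence := StkWeq.restr_isEquivalence (MR e S₀) h𝒵
  haveI := h
  haveI : (Stk.resSieve S₀ 𝒵 ⋙ Stk.restr (MR e S₀) 𝒵).IsEquivalence :=
    Functor.isEquivalence_of_iso (sqIso e S₀ 𝒵)
  exact Functor.isEquivalence_of_comp_right (Stk.resSieve S₀ 𝒵) (Stk.restr (MR e S₀) 𝒵)

end Iso

section Conv

variable {C : Type u} [Category.{v} C] {𝒳 : BasedCategory.{v₂, u₂} C} {U : C}
  (y : overCat U ⥤ᵇ 𝒳) (R : Sieve U)

/-- Converse of `StkOverT.restr_srcMap_isEquivalence`. -/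
theorem resSieve_R'_isEquivalence (h𝒳 : IsFibGrpd 𝒳.p) (𝒴 : BasedCategory.{v₄, u₄} 𝒳.obj)
    (h𝒴 : IsFibGrpd 𝒴.p) (h : (Stk.restr (srcMap (Stk.sieveIncl R) y) 𝒴).IsEquivalence) :
    (Stk.resSieve (R' y R) 𝒴).IsEquivalence := by
  haveI : (T y).toFunctor.IsEquivalence := Tfun_isEquivalence y h𝒳
  haveI := TR_isEquivalence y R h𝒳
  haveI e1 : (Stk.restr (T y) 𝒴).IsEquivalence := StkWeq.restr_isEquivalence (T y) h𝒴
  haveI e2 : (Stk.restr (TR y R) 𝒴).IsEquivalence := StkWeq.restr_isEquivalence (TR y R) h𝒴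
  haveI := h
  haveI : (Stk.resSieve (R' y R) 𝒴 ⋙ Stk.restr (TR y R) 𝒴).IsEquivalence :=
    Functor.isEquivalence_of_iso (StkOverT.sqIso y R 𝒴)
  exact Functor.isEquivalence_of_comp_right (Stk.resSieve (R' y R) 𝒴) (Stk.restr (TR y R) 𝒴)

end Conv

section Corr

variable {C : Type u} [Category.{v} C] {𝒳 : BasedCategory.{v₂, u₂} C}

/-- The sieve `R'` attached to the pushforward of a sieve `S₀` on `y₀`, for `y` with `y(𝟙) ≅ y₀`, is
the pullback of `S₀`. -/
theorem R'_pushforward_eq (h𝒳 : IsFibGrpd 𝒳.p) {y₀ : 𝒳.obj} (S₀ : Sieve y₀)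
    (y : overCat (𝒳.p.obj y₀) ⥤ᵇ 𝒳) (e : (yf y).obj (one (𝒳.p.obj y₀)) ≅ y₀)
    (he : 𝒳.p.IsHomLift (𝟙 (𝒳.p.obj y₀)) e.hom) :
    R' y (S₀.functorPushforward 𝒳.p) = S₀.pullback e.hom := by
  have key : 𝒳.p.map e.hom = eqToHom (hU y) := by
    haveI := he
    have := IsHomLift.fac' 𝒳.p (𝟙 (𝒳.p.obj y₀)) e.hom
    exact this.trans (Groth.Agent.Helper6.StkSRelConv.eqToHom_id_eqToHom _ _)
  ext x' f''
  rw [R'_iff]
  show (S₀.functorPushforward 𝒳.p).arrows (𝒳.p.map f'' ≫ eqToHom (hU y)) ↔ S₀.arrows (f'' ≫ e.hom)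
  rw [← key, ← 𝒳.p.map_comp]
  constructor
  · rintro ⟨Z, f', h, hf', heq⟩
    have l1 : 𝒳.p.IsHomLift (h ≫ 𝒳.p.map f') (f'' ≫ e.hom) := by
      rw [← heq]
      infer_instance
    obtain ⟨m, -, hm⟩ := exists_map 𝒳.p h𝒳 (𝒳.p.map f') h (h ≫ 𝒳.p.map f') rfl f' inferInstance
      (f'' ≫ e.hom) l1
    rw [← hm]
    exact S₀.downward_closed hf' m
  · intro h
    exact ⟨_, f'' ≫ e.hom, 𝟙 _, h, (Category.id_comp _).symm⟩

end Corr

end Groth.Agent.Helper6.StkOverIso
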