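import Mathlib
import Groth.Prelude.Def_FibCat2
import Groth.Prelude.Def_AlgSt
import Groth.Agent.Helper3.FibGrpd
import Groth.Agent.Helper3.TwoYoneda
import Groth.Agent.Helper6.StkOverIso
import Groth.Agent.Helper6.StkSRelConv
import Groth.Agent.Helper6.RestrTop

/-!
# Helper6: a category fibred in groupoids over a stack `𝒴`, which is a stack over `C`, is a stack over `𝒴`
(for the restricted topology).
-/

set_option autoImplicit false
set_option linter.style.haveILetI false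
set_option linter.unusedVariables false
universe v u

namespace Groth.Agent.Helper6.StkBase
open CategoryTheory Functor FibCat
open Groth.Agent.Helper3 Groth.Agent.Helper6.StkSRel Groth.Agent.Helper6.StkOverT

variable {C : Type u} [Category.{v} C]

theorem isStack_over (J : GrothendieckTopology C) {𝒴 : BasedCategory.{v, max u v} C}
    (h𝒴 : Stk.IsStack J 𝒴) {X : Type (max u v)} [Category.{v} X] (Ff : X ⥤ 𝒴.obj)
    (h𝒳 : Stk.IsStack J (BasedCategory.ofFunctor (Ff ⋙ 𝒴.p))) (hF : IsFibGrpd Ff) :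
    Stk.IsStack (𝒴.p.restrictedTopology J) (BasedCategory.ofFunctor Ff) := by
  obtain ⟨hfg𝒳, hst𝒳⟩ := h𝒳
  obtain ⟨hfg𝒴, hst𝒴⟩ := h𝒴
  refine ⟨hF, ?_⟩
  intro y₀ S₀ hS₀
  have hR : S₀.functorPushforward 𝒴.p ∈ J (𝒴.p.obj y₀) :=
    (Groth.Agent.Helper6.RestrTop.mem_restrictedTopology_iff 𝒴.p hfg𝒴 J S₀).1 hS₀
  haveI := TwoYoneda.evalAtId_isEquivalence_of_isFibGrpd (𝒳 := 𝒴) (𝒴.p.obj y₀) hfg𝒴
  obtain ⟨y, ⟨ε⟩⟩ := Functor.EssSurj.mem_essImage (F := FibCat.evalAtId 𝒴 (𝒴.p.obj y₀))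
    (⟨y₀, rfl⟩ : 𝒴.p.Fiber (𝒴.p.obj y₀))
  let e : (yf y).obj (one (𝒴.p.obj y₀)) ≅ y₀ :=
    ⟨ε.hom.1, ε.inv.1, congrArg Subtype.val ε.hom_inv_id, congrArg Subtype.val ε.inv_hom_id⟩
  have he : 𝒴.p.IsHomLift (𝟙 (𝒴.p.obj y₀)) e.hom := ε.hom.2
  haveI i1 : (Stk.restr (Stk.sieveIncl (S₀.functorPushforward 𝒴.p)) 𝒴).IsEquivalence :=
    hst𝒴 _ hR
  haveI i2 : (Stk.restr (Stk.sieveIncl (S₀.functorPushforward 𝒴.p)) (tot Ff)).IsEquivalence :=
    hst𝒳 _ hR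
  have h1 := Groth.Agent.Helper6.StkSRelConv.srcMap_isEquivalence Ff
    (Stk.sieveIncl (S₀.functorPushforward 𝒴.p)) hF hfg𝒴 y
  have h2 := Groth.Agent.Helper6.StkOverIso.resSieve_R'_isEquivalence y (S₀.functorPushforward 𝒴.p)
    hfg𝒴 (ov Ff) hF h1
  rw [Groth.Agent.Helper6.StkOverIso.R'_pushforward_eq hfg𝒴 S₀ y e he] at h2
  exact Groth.Agent.Helper6.StkOverIso.resSieve_isEquivalence_of_pullback e S₀ (ov Ff) hF h2

end Groth.Agent.Helper6.StkBase
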