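import Mathlib
import Groth.Prelude.Def_StGerb
import Groth.Agent.Helper3.FibGrpd
import Groth.Agent.Helper6.RestrTop
import Groth.Agent.Helper6.StkTools
import Groth.Agent.S12804

set_option backward.isDefEq.respectTransparency false
set_option backward.isDefEq.respectTransparency.types false
set_option autoImplicit false

universe v₄ u₄ v₃ u₃ v₂ u₂ v u

open CategoryTheory Functor FibCat Limits
open Groth.Agent.Helper3

namespace Groth.Agent.Helper6.GerbRes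

variable {C : Type u} [Category.{v} C] (J : GrothendieckTopology C)

section A

variable {𝒳 : BasedCategory.{v₂, u₂} C} {𝒳' : BasedCategory.{v₃, u₃} C}
  {𝒴 : BasedCategory.{v₄, u₄} C}

/-- A form of `LocSurjHom` allowing a propositional equality of base objects. -/
theorem locSurjHom' {F : 𝒳 ⥤ᵇ 𝒴} (hF : Gerb.LocSurjHom J F) (x x' : 𝒳.obj) (U : C)
    (hU : 𝒳.p.obj x = U) (b : F.obj x ⟶ F.obj x') (hb : 𝒴.p.IsHomLift (𝟙 U) b) :
    ∃ R ∈ J U, ∀ ⦃V : C⦄ (f : V ⟶ U), R f →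
      ∃ (x₀ : 𝒳.obj) (φ : x₀ ⟶ x) (ψ : x₀ ⟶ x'),
        𝒳.p.IsHomLift f φ ∧ 𝒳.p.IsHomLift f ψ ∧ F.map φ ≫ b = F.map ψ := by
  subst hU
  exact hF x x' b hb

theorem isGerbeOver_of_comp (a : 𝒳 ⥤ᵇ 𝒳') (ha : IsEquivOver a) (F' : 𝒳' ⥤ᵇ 𝒴)
    (hF : Gerb.IsGerbeOver J (BasedFunctor.comp a F')) : Gerb.IsGerbeOver J F' := by
  obtain ⟨G, -, ⟨ε⟩⟩ := ha
  refine ⟨?_, ?_⟩
  · intro y
    obtain ⟨R, hR, h⟩ := hF.1 y
    refine ⟨R, hR, fun V f hf => ?_⟩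
    obtain ⟨x, g, hg⟩ := h f hf
    exact ⟨a.obj x, g, hg⟩
  · intro x x' b hb
    haveI := hb
    have hx' : 𝒳'.p.obj x' = 𝒳'.p.obj x :=
      (F'.w_obj x').symm.trans (IsHomLift.codomain_eq 𝒴.p (𝟙 (𝒳'.p.obj x)) b)
    let εx : a.obj (G.obj x) ⟶ x := ε.hom.toNatTrans.app x
    let εx' : a.obj (G.obj x') ⟶ x' := ε.hom.toNatTrans.app x'
    let εi : x' ⟶ a.obj (G.obj x') := ε.inv.toNatTrans.app x'
    have hεε : εi ≫ εx' = 𝟙 x' := by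
      have := congrArg (fun t => t.toNatTrans.app x') ε.inv_hom_id
      exact this
    haveI h1 : 𝒳'.p.IsHomLift (𝟙 (𝒳'.p.obj x)) εx := ε.hom.isHomLift' x
    haveI h2 : 𝒳'.p.IsHomLift (𝟙 (𝒳'.p.obj x)) εx' := BasedNatTrans.isHomLift ε.hom hx'
    haveI h3 : 𝒳'.p.IsHomLift (𝟙 (𝒳'.p.obj x)) εi := BasedNatTrans.isHomLift ε.inv hx'
    haveI h4 : 𝒴.p.IsHomLift (𝟙 (𝒳'.p.obj x)) (F'.map εx) := inferInstance
    haveI h5 : 𝒴.p.IsHomLift (𝟙 (𝒳'.p.obj x)) (F'.map εi) := inferInstance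
    let b₁ : (BasedFunctor.comp a F').obj (G.obj x) ⟶ (BasedFunctor.comp a F').obj (G.obj x') :=
      F'.map εx ≫ b ≫ F'.map εi
    have hb₁ : 𝒴.p.IsHomLift (𝟙 (𝒳'.p.obj x)) b₁ := by
      haveI : 𝒴.p.IsHomLift (𝟙 (𝒳'.p.obj x)) (b ≫ F'.map εi) := inferInstance
      show 𝒴.p.IsHomLift (𝟙 (𝒳'.p.obj x)) (F'.map εx ≫ b ≫ F'.map εi)
      infer_instance
    obtain ⟨R, hR, h⟩ := locSurjHom' J hF.2 (G.obj x) (G.obj x') (𝒳'.p.obj x) (G.w_obj x) b₁ hb₁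
    refine ⟨R, hR, fun V f hf => ?_⟩
    obtain ⟨x₀, φ₁, ψ₁, hφ₁, hψ₁, e⟩ := h f hf
    haveI := hφ₁
    haveI := hψ₁
    haveI : 𝒳'.p.IsHomLift f (a.map φ₁) := inferInstance
    haveI : 𝒳'.p.IsHomLift f (a.map ψ₁) := inferInstance
    refine ⟨a.obj x₀, a.map φ₁ ≫ εx, a.map ψ₁ ≫ εx', inferInstance, inferInstance, ?_⟩
    have e' : F'.map (a.map φ₁) ≫ F'.map εx ≫ b ≫ F'.map εi = F'.map (a.map ψ₁) := e
    calc F'.map (a.map φ₁ ≫ εx) ≫ b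
        = (F'.map (a.map φ₁) ≫ F'.map εx ≫ b ≫ F'.map εi) ≫ F'.map εx' := by
          simp only [Functor.map_comp, Category.assoc]
          rw [← F'.map_comp εi εx', hεε, F'.map_id, Category.comp_id]
      _ = F'.map (a.map ψ₁ ≫ εx') := by rw [e', Functor.map_comp]

end A

section B

variable {𝒳' 𝒴 : BasedCategory.{v, max u v} C}

/-- the sieve of arrows whose source is in the image of `F'`. -/
def imSieve (F' : 𝒳' ⥤ᵇ 𝒴) (hF' : IsFibGrpd F'.toFunctor) (y : 𝒴.obj) : Sieve y where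
  arrows y' _ := ∃ x : 𝒳'.obj, F'.obj x = y'
  downward_closed := by
    rintro y' y'' h ⟨x, hx⟩ k
    obtain ⟨x'', κ, hκ⟩ := FibGrpd.exists_lift' hF' hx k
    haveI := hκ
    exact ⟨x'', IsHomLift.domain_eq F'.toFunctor k κ⟩

/-- the sieve of arrows along which `x` and `x'` become connected. -/
def connSieve (F' : 𝒳' ⥤ᵇ 𝒴) (hF' : IsFibGrpd F'.toFunctor) (x x' : 𝒳'.obj)
    (b : F'.obj x ⟶ F'.obj x') : Sieve (F'.obj x) where
  arrows y' h := ∃ (x₀ : 𝒳'.obj) (φ : x₀ ⟶ x) (ψ : x₀ ⟶ x'),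
    F'.toFunctor.IsHomLift h φ ∧ F'.toFunctor.IsHomLift h ψ ∧ F'.map φ ≫ b = F'.map ψ
  downward_closed := by
    rintro y' y'' h ⟨x₀, φ, ψ, hφ, hψ, e⟩ k
    haveI := hφ
    haveI := hψ
    have hx : F'.obj x₀ = y' := IsHomLift.domain_eq F'.toFunctor h φ
    obtain ⟨x'', κ, hκ⟩ := FibGrpd.exists_lift' hF' hx k
    haveI := hκ
    refine ⟨x'', κ ≫ φ, κ ≫ ψ, inferInstance, inferInstance, ?_⟩
    rw [Functor.map_comp, Category.assoc, e, ← Functor.map_comp]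

theorem isGerbeOver_toSelf (F' : 𝒳' ⥤ᵇ 𝒴) (hF' : IsFibGrpd F'.toFunctor)
    (h𝒴 : IsFibGrpd 𝒴.p) (hG : Gerb.IsGerbeOver J F') :
    Gerb.IsGerbeOver (𝒴.p.restrictedTopology J)
      (FibCat.toSelf (BasedCategory.ofFunctor F'.toFunctor)) := by
  refine ⟨?_, ?_⟩
  · intro y
    obtain ⟨R₀, hR₀, h⟩ := hG.1 y
    refine ⟨imSieve F' hF' y, ?_, ?_⟩
    · refine (RestrTop.mem_restrictedTopology_iff 𝒴.p h𝒴 J _).2 ?_
      refine J.superset_covering ?_ hR₀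
      intro V f hf
      obtain ⟨x, g, hg⟩ := h f hf
      haveI := hg
      exact ⟨F'.obj x, g, eqToHom (IsHomLift.domain_eq 𝒴.p f g).symm, ⟨x, rfl⟩,
        RestrTop.eq_eqToHom_comp_map 𝒴.p f g⟩
    · rintro y' k ⟨x, hx⟩
      subst hx
      exact ⟨x, k, IsHomLift.map (𝟭 _) k⟩
  · intro x x' b hb
    haveI hb0 : (𝟭 𝒴.obj).IsHomLift (𝟙 (F'.obj x)) b := hb
    have e : F'.obj x' = F'.obj x := IsHomLift.codomain_eq (𝟭 𝒴.obj) (𝟙 (F'.obj x)) b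
    have hbe : b = eqToHom e.symm := by
      have := IsHomLift.fac' (𝟭 𝒴.obj) (𝟙 (F'.obj x)) b
      simpa using this
    have hb' : 𝒴.p.IsHomLift (𝟙 (𝒳'.p.obj x)) b := by
      rw [hbe]
      exact IsHomLift.eqToHom_domain_lift_id e.symm (F'.w_obj x)
    obtain ⟨R₁, hR₁, h⟩ := hG.2 x x' b hb'
    refine ⟨connSieve F' hF' x x' b, ?_, ?_⟩
    · refine (RestrTop.mem_restrictedTopology_iff 𝒴.p h𝒴 J _).2 ?_
      refine J.superset_covering ?_ (J.pullback_stable (eqToHom (F'.w_obj x)) hR₁)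
      intro V f hf
      obtain ⟨x₀, φ, ψ, hφ, hψ, eq⟩ := h _ hf
      haveI := hφ
      haveI := hψ
      haveI h6 : 𝒴.p.IsHomLift (f ≫ eqToHom (F'.w_obj x)) (F'.map φ) := inferInstance
      have hV : 𝒴.p.obj (F'.obj x₀) = V :=
        IsHomLift.domain_eq 𝒴.p (f ≫ eqToHom (F'.w_obj x)) (F'.map φ)
      refine ⟨F'.obj x₀, F'.map φ, eqToHom hV.symm, ⟨x₀, φ, ψ, IsHomLift.map _ φ, ?_, eq⟩, ?_⟩
      · refine IsHomLift.of_fac' _ _ _ rfl e ?_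
        rw [← eq, hbe]
        simp
      · have := IsHomLift.fac 𝒴.p (f ≫ eqToHom (F'.w_obj x)) (F'.map φ)
        rw [← cancel_mono (eqToHom (F'.w_obj x)), Category.assoc]
        exact this
    · intro V f hf
      exact hf

end B

section Main

variable {𝒳 𝒴 𝒳' : BasedCategory.{v, max u v} C}

theorem main (h𝒳 : Stk.IsStack J 𝒳) (h𝒴 : Stk.IsStack J 𝒴) (a : 𝒳 ⥤ᵇ 𝒳') (ha : IsEquivOver a)
    (F' : 𝒳' ⥤ᵇ 𝒴) (hF' : IsFibGrpd F'.toFunctor)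
    (hF : Gerb.IsGerbeOver J (BasedFunctor.comp a F')) :
    Gerb.IsGerbe (𝒴.p.restrictedTopology J) (BasedCategory.ofFunctor F'.toFunctor) := by
  have h𝒳' : Stk.IsStack J 𝒳' := (StkTools.isStack_iff_of_isEquivOver J a ha).1 h𝒳
  exact ⟨Groth.Agent.S12804.result J h𝒳' h𝒴 F' hF',
    isGerbeOver_toSelf J F' hF' h𝒴.1 (isGerbeOver_of_comp J a ha F' hF)⟩

end Main

end Groth.Agent.Helper6.GerbRes
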