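import Mathlib
import Groth.Agent.Helper1.DerTrunc2

/-!
# Artin–Rees and the ghost lemma: `J^{n+m} X → J^m X` is zero in the derived category

For a bounded complex `X` of finite modules over a Noetherian ring whose cohomology is killed by
an ideal `J`, the inclusions `J^{n+m} X ⊆ J^m X` vanish in the derived category for `n` large,
uniformly in `m`.  The subcomplexes `J^i X` are given abstractly (`Data`).
-/

set_option autoImplicit false
set_option linter.style.haveILetI false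
set_option linter.unusedSectionVars false

universe w u
open CategoryTheory CategoryTheory.Limits

namespace Groth.Agent.Helper6.GhostAR

variable {A : Type u} [CommRing A]

section Homology

variable (X : CochainComplex (ModuleCat.{u} A) ℤ)

lemma exists_cycle (q : ℤ) (z : X.X q) (hz : (X.d q (q + 1)).hom z = 0) :
    ∃ ζ : X.cycles q, (X.iCycles q).hom ζ = z := by
  let k : ModuleCat.of A A ⟶ X.X q := ModuleCat.ofHom (LinearMap.toSpanSingleton A (X.X q) z)
  have hk : k ≫ X.d q (q + 1) = 0 := by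
    refine ModuleCat.hom_ext (LinearMap.ext_ring ?_)
    show (X.d q (q + 1)).hom (LinearMap.toSpanSingleton A (X.X q) z 1) = 0
    rw [LinearMap.toSpanSingleton_apply, one_smul]
    exact hz
  refine ⟨(X.liftCycles k (q + 1) (by simp) hk).hom (1 : A), ?_⟩
  have h := congrArg (fun f => f.hom (1 : A)) (X.liftCycles_i k (q + 1) (by simp) hk)
  have h2 : k.hom (1 : A) = z := by
    show LinearMap.toSpanSingleton A (X.X q) z 1 = z
    rw [LinearMap.toSpanSingleton_apply, one_smul]
  exact h.trans h2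

lemma exists_d_eq_smul (q : ℤ) (x : A) (hx : ∀ c : X.homology q, x • c = 0)
    (z : X.X q) (hz : (X.d q (q + 1)).hom z = 0) :
    ∃ y : X.X (q - 1), (X.d (q - 1) q).hom y = x • z := by
  obtain ⟨ζ, hζ⟩ := exists_cycle X q z hz
  have h0 : (X.homologyπ q).hom (x • ζ) = 0 := by
    rw [map_smul]
    exact hx _
  let S : ShortComplex (ModuleCat.{u} A) :=
    ShortComplex.mk (X.toCycles (q - 1) q) (X.homologyπ q) (X.toCycles_comp_homologyπ (q - 1) q)
  have hS : S.Exact := ShortComplex.exact_of_g_is_cokernel S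
    (X.homologyIsCokernel (q - 1) q (by simp))
  obtain ⟨y, hy⟩ := (ShortComplex.moduleCat_exact_iff S).1 hS (x • ζ) h0
  refine ⟨y, ?_⟩
  have h1 : (X.iCycles q).hom ((X.toCycles (q - 1) q).hom y) = (X.d (q - 1) q).hom y :=
    congrArg (fun f => f.hom y) (X.toCycles_i (q - 1) q)
  rw [← h1]
  have hy' : (X.toCycles (q - 1) q).hom y = x • ζ := hy
  rw [hy', map_smul, hζ]

lemma homologyMap_eq_zero {Y Y' : CochainComplex (ModuleCat.{u} A) ℤ} (t : Y ⟶ Y') (q : ℤ)
    (h : ∀ z : Y.X q, (Y.d q (q + 1)).hom z = 0 →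
      ∃ w : Y'.X (q - 1), (Y'.d (q - 1) q).hom w = (t.f q).hom z) :
    HomologicalComplex.homologyMap t q = 0 := by
  rw [← cancel_epi (Y.homologyπ q), comp_zero, HomologicalComplex.homologyπ_naturality]
  refine ModuleCat.hom_ext (LinearMap.ext fun ζ => ?_)
  obtain ⟨w, hw⟩ := h ((Y.iCycles q).hom ζ)
    (congrArg (fun f => f.hom ζ) (Y.iCycles_d q (q + 1)))
  have h1 : (HomologicalComplex.cyclesMap t q).hom ζ = (Y'.toCycles (q - 1) q).hom w := by
    apply (ModuleCat.mono_iff_injective (Y'.iCycles q)).mp inferInstance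
    have e1 : (Y'.iCycles q).hom ((HomologicalComplex.cyclesMap t q).hom ζ) =
        (t.f q).hom ((Y.iCycles q).hom ζ) :=
      congrArg (fun f => f.hom ζ) (HomologicalComplex.cyclesMap_i t q)
    have e2 : (Y'.iCycles q).hom ((Y'.toCycles (q - 1) q).hom w) = (Y'.d (q - 1) q).hom w :=
      congrArg (fun f => f.hom w) (Y'.toCycles_i (q - 1) q)
    exact e1.trans (hw.symm.trans e2.symm)
  show (Y'.homologyπ q).hom ((HomologicalComplex.cyclesMap t q).hom ζ) = 0
  rw [h1]
  exact congrArg (fun f => f.hom w) (Y'.toCycles_comp_homologyπ (q - 1) q)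

end Homology

section AR

variable [IsNoetherianRing A] (J : Ideal A) {M : Type u} [AddCommGroup M] [Module A M]
  [Module.Finite A M]

/-- Artin–Rees in the form used here -/
lemma exists_AR (Z : Submodule A M) :
    ∃ c : ℕ, ∀ B : Submodule A M, J • Z ≤ B → ∀ i k : ℕ, i + c + 1 ≤ k →
      (J ^ k • ⊤ ⊓ Z : Submodule A M) ≤ J ^ i • B := by
  obtain ⟨c, hc⟩ := Ideal.exists_pow_inf_eq_pow_smul J Z
  refine ⟨c, fun B hB i k hk => ?_⟩
  rw [hc k (by omega)]
  calc J ^ (k - c) • (J ^ c • ⊤ ⊓ Z) ≤ J ^ (i + 1) • Z :=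
        Submodule.smul_mono (Ideal.pow_le_pow_right (by omega)) inf_le_right
    _ = J ^ i • (J • Z) := by rw [pow_succ, Submodule.mul_smul]
    _ ≤ J ^ i • B := Submodule.smul_mono le_rfl hB

end AR

section Main

variable [IsNoetherianRing A]

/-- abstract model of the subcomplexes `J^i X ⊆ X` -/
structure Data (J : Ideal A) (X : CochainComplex (ModuleCat.{u} A) ℤ) where
  Y : ℕ → CochainComplex (ModuleCat.{u} A) ℤ
  μ : ∀ i, Y i ⟶ X
  t : ∀ i j : ℕ, i ≤ j → (Y j ⟶ Y i)
  μ_inj : ∀ i q, Function.Injective ((μ i).f q).hom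
  μ_mem : ∀ i q (w : (Y i).X q), ((μ i).f q).hom w ∈ (J ^ i • ⊤ : Submodule A (X.X q))
  μ_surj : ∀ i q (y : X.X q), y ∈ (J ^ i • ⊤ : Submodule A (X.X q)) →
    ∃ w, ((μ i).f q).hom w = y
  t_μ : ∀ i j h, t i j h ≫ μ i = μ j

variable {J : Ideal A} {X : CochainComplex (ModuleCat.{u} A) ℤ} (D : Data J X)

lemma Data.mono_μ (i : ℕ) : Mono (D.μ i) := by
  haveI : ∀ q, Mono ((D.μ i).f q) := fun q =>
    (ModuleCat.mono_iff_injective _).mpr (D.μ_inj i q)
  exact HomologicalComplex.mono_of_mono_f _ inferInstance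

lemma Data.t_comp (h i j : ℕ) (hhi : h ≤ i) (hij : i ≤ j) :
    D.t i j hij ≫ D.t h i hhi = D.t h j (hhi.trans hij) := by
  haveI := D.mono_μ h
  rw [← cancel_mono (D.μ h), Category.assoc, D.t_μ, D.t_μ, D.t_μ]

lemma Data.t_self (i : ℕ) : D.t i i le_rfl = 𝟙 _ := by
  haveI := D.mono_μ i
  rw [← cancel_mono (D.μ i), D.t_μ, Category.id_comp]

lemma Data.μ_d (i : ℕ) (q q' : ℤ) (w : (D.Y i).X q) :
    ((D.μ i).f q').hom (((D.Y i).d q q').hom w) = (X.d q q').hom (((D.μ i).f q).hom w) :=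
  (congrArg (fun f => f.hom w) ((D.μ i).comm q q')).symm

lemma Data.t_μ_apply (i j : ℕ) (h : i ≤ j) (q : ℤ) (z : (D.Y j).X q) :
    ((D.μ i).f q).hom (((D.t i j h).f q).hom z) = ((D.μ j).f q).hom z :=
  congrArg (fun f => (f.f q).hom z) (D.t_μ i j h)

/-- the key cycle-to-boundary statement -/
lemma Data.key (a b : ℤ) (hX : ∀ q : ℤ, q < a ∨ b < q → IsZero (X.X q))
    (hfin : ∀ q : ℤ, Module.Finite A (X.X q))
    (hJ : ∀ q : ℤ, ∀ x ∈ J, ∀ c : X.homology q, x • c = 0) :
    ∃ s : ℕ, ∀ (i j : ℕ) (h : i + s ≤ j) (q : ℤ) (z : (D.Y j).X q),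
      ((D.Y j).d q (q + 1)).hom z = 0 →
      ∃ w : (D.Y i).X (q - 1),
        ((D.Y i).d (q - 1) q).hom w = ((D.t i j (le_trans (Nat.le_add_right i s) h)).f q).hom z := by
  haveI := hfin
  have hc : ∀ q : ℤ, ∃ c : ℕ, ∀ B : Submodule A (X.X q),
      J • LinearMap.ker (X.d q (q + 1)).hom ≤ B → ∀ i k : ℕ, i + c + 1 ≤ k →
      (J ^ k • ⊤ ⊓ LinearMap.ker (X.d q (q + 1)).hom : Submodule A (X.X q)) ≤ J ^ i • B :=
    fun q => exists_AR J _
  choose c hc using hc
  refine ⟨(Finset.Icc a b).sup c + 1, fun i j h q z hz => ?_⟩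
  by_cases hq : a ≤ q ∧ q ≤ b
  · have hcq : c q ≤ (Finset.Icc a b).sup c :=
      Finset.le_sup (f := c) (Finset.mem_Icc.mpr hq)
    have hJZ : J • LinearMap.ker (X.d q (q + 1)).hom ≤ LinearMap.range (X.d (q - 1) q).hom := by
      rw [Submodule.smul_le]
      intro x hx z hz
      obtain ⟨y, hy⟩ := exists_d_eq_smul X q x (hJ q x hx) z (LinearMap.mem_ker.mp hz)
      exact ⟨y, hy⟩
    have hmem : ((D.μ j).f q).hom z ∈
        (J ^ j • ⊤ ⊓ LinearMap.ker (X.d q (q + 1)).hom : Submodule A (X.X q)) := by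
      refine ⟨D.μ_mem j q z, ?_⟩
      rw [SetLike.mem_coe, LinearMap.mem_ker, ← D.μ_d, hz, map_zero]
    have h2 := hc q _ hJZ i j (by omega) hmem
    rw [LinearMap.range_eq_map, ← Submodule.map_smul''] at h2
    obtain ⟨y, hy, hyz⟩ := h2
    obtain ⟨w, hw⟩ := D.μ_surj i (q - 1) y hy
    refine ⟨w, D.μ_inj i q ?_⟩
    rw [D.μ_d, hw, hyz, D.t_μ_apply]
  · have hz0 : IsZero (X.X q) := hX q (by omega)
    haveI : Subsingleton (X.X q) := ModuleCat.subsingleton_of_isZero hz0
    refine ⟨0, D.μ_inj i q (Subsingleton.elim _ _)⟩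

variable [HasDerivedCategory.{w} (ModuleCat.{u} A)]

lemma Data.isStrictlyGE (a b : ℤ) (hX : ∀ q : ℤ, q < a ∨ b < q → IsZero (X.X q)) (i : ℕ) :
    (D.Y i).IsStrictlyGE a := by
  rw [CochainComplex.isStrictlyGE_iff]
  intro q hq
  haveI : Subsingleton (X.X q) := ModuleCat.subsingleton_of_isZero (hX q (Or.inl hq))
  haveI : Subsingleton ((D.Y i).X q) := (D.μ_inj i q).subsingleton
  exact ModuleCat.isZero_of_subsingleton _

lemma Data.isStrictlyLE (a b : ℤ) (hX : ∀ q : ℤ, q < a ∨ b < q → IsZero (X.X q)) (i : ℕ) :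
    (D.Y i).IsStrictlyLE b := by
  rw [CochainComplex.isStrictlyLE_iff]
  intro q hq
  haveI : Subsingleton (X.X q) := ModuleCat.subsingleton_of_isZero (hX q (Or.inr hq))
  haveI : Subsingleton ((D.Y i).X q) := (D.μ_inj i q).subsingleton
  exact ModuleCat.isZero_of_subsingleton _

open Groth.Agent.Helper1.DerTrunc in
/-- **Main theorem**: the inclusions `J^{n+m}X → J^mX` vanish in the derived category. -/
theorem Data.main (a b : ℤ) (hX : ∀ q : ℤ, q < a ∨ b < q → IsZero (X.X q))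
    (hfin : ∀ q : ℤ, Module.Finite A (X.X q))
    (hJ : ∀ q : ℤ, ∀ x ∈ J, ∀ c : X.homology q, x • c = 0) :
    ∃ n : ℕ, ∀ (m : ℕ) (h : m ≤ n + m), DerivedCategory.Q.map (D.t m (n + m) h) = 0 := by
  obtain ⟨s, hs⟩ := D.key a b hX hfin hJ
  set n0 : ℕ := (b - a).toNat with hn0
  refine ⟨(n0 + 1) * s, fun m h => ?_⟩
  -- the sequence
  let e : ℕ → ℕ := fun k => (n0 + 1 - k) * s + m
  have he : ∀ k, e (k + 1) ≤ e k := fun k =>
    Nat.add_le_add_right (Nat.mul_le_mul_right s (Nat.sub_le_sub_left (Nat.le_succ k) _)) m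
  let Xs : ℕ → DerivedCategory (ModuleCat.{u} A) := fun k => DerivedCategory.Q.obj (D.Y (e k))
  let f : ∀ k, Xs k ⟶ Xs (k + 1) := fun k => DerivedCategory.Q.map (D.t (e (k + 1)) (e k) (he k))
  have hGE : ∀ k, k ≤ n0 + 1 → (Xs k).IsGE a := fun k _ => by
    haveI := D.isStrictlyGE a b hX (e k)
    show (DerivedCategory.Q.obj (D.Y (e k))).IsGE a
    infer_instance
  have hLE : ∀ k, k ≤ n0 + 1 → (Xs k).IsLE (a + n0) := fun k _ => by
    haveI := D.isStrictlyLE a b hX (e k)
    haveI : (DerivedCategory.Q.obj (D.Y (e k))).IsLE b := inferInstance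
    exact DerivedCategory.TStructure.t.isLE_of_le (DerivedCategory.Q.obj (D.Y (e k))) b (a + n0)
      (by omega)
  have hz : ∀ k, k ≤ n0 → ∀ q : ℤ,
      (DerivedCategory.homologyFunctor (ModuleCat.{u} A) q).map (f k) = 0 := by
    intro k hk q
    have hek : e (k + 1) + s ≤ e k := by
      show (n0 + 1 - (k + 1)) * s + m + s ≤ (n0 + 1 - k) * s + m
      have : n0 + 1 - k = (n0 + 1 - (k + 1)) + 1 := by omega
      rw [this, Nat.add_mul, one_mul]
      omega
    have h0 : HomologicalComplex.homologyMap (D.t (e (k + 1)) (e k) (he k)) q = 0 :=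
      homologyMap_eq_zero _ q (fun z hz => hs (e (k + 1)) (e k) hek q z hz)
    have hnat := (DerivedCategory.homologyFunctorFactors (ModuleCat.{u} A) q).hom.naturality
      (D.t (e (k + 1)) (e k) (he k))
    have h1 : (DerivedCategory.homologyFunctor (ModuleCat.{u} A) q).map (f k) ≫
        (DerivedCategory.homologyFunctorFactors (ModuleCat.{u} A) q).hom.app (D.Y (e (k + 1))) =
        0 := by
      have : (DerivedCategory.homologyFunctor (ModuleCat.{u} A) q).map (f k) ≫
          (DerivedCategory.homologyFunctorFactors (ModuleCat.{u} A) q).hom.app (D.Y (e (k + 1))) =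
          (DerivedCategory.homologyFunctorFactors (ModuleCat.{u} A) q).hom.app (D.Y (e k)) ≫
            HomologicalComplex.homologyMap (D.t (e (k + 1)) (e k) (he k)) q := hnat
      exact this.trans ((congrArg (fun t => (DerivedCategory.homologyFunctorFactors (ModuleCat.{u} A) q).hom.app (D.Y (e k)) ≫ t) h0).trans comp_zero)
    have h2 : (DerivedCategory.homologyFunctor (ModuleCat.{u} A) q).map (f k) =
        ((DerivedCategory.homologyFunctor (ModuleCat.{u} A) q).map (f k) ≫
          (DerivedCategory.homologyFunctorFactors (ModuleCat.{u} A) q).hom.app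
            (D.Y (e (k + 1)))) ≫
          (DerivedCategory.homologyFunctorFactors (ModuleCat.{u} A) q).inv.app
            (D.Y (e (k + 1))) := by
      rw [Category.assoc, Iso.hom_inv_id_app]
      exact (Category.comp_id _).symm
    rw [h2, h1, zero_comp]
  have hzero := compR_eq_zero n0 a Xs f hGE hLE hz
  -- identify the composite
  have hcomp : ∀ k : ℕ, ∀ hk : e k ≤ e 0,
      compR k Xs f = DerivedCategory.Q.map (D.t (e k) (e 0) hk) := by
    intro k
    induction k with
    | zero =>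
      intro hk
      show 𝟙 _ = _
      rw [D.t_self, CategoryTheory.Functor.map_id]
    | succ k ih =>
      intro hk
      have hk' : e k ≤ e 0 := by
        show (n0 + 1 - k) * s + m ≤ (n0 + 1 - 0) * s + m
        exact Nat.add_le_add_right (Nat.mul_le_mul_right s (Nat.sub_le_sub_left (Nat.zero_le k) _)) m
      show compR k Xs f ≫ f k = _
      rw [ih hk', ← Functor.map_comp, D.t_comp]
  have hfinal : ∀ (i : ℕ) (hi : i = m) (hh : i ≤ e 0),
      DerivedCategory.Q.map (D.t i (e 0) hh) = 0 →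
      DerivedCategory.Q.map (D.t m (e 0) (hi ▸ hh)) = 0 := by
    intro i hi hh h0
    subst hi
    exact h0
  have hem : e (n0 + 1) = m := by
    show (n0 + 1 - (n0 + 1)) * s + m = m
    rw [Nat.sub_self, Nat.zero_mul, Nat.zero_add]
  have hk0 : e (n0 + 1) ≤ e 0 := by
    show (n0 + 1 - (n0 + 1)) * s + m ≤ (n0 + 1 - 0) * s + m
    exact Nat.add_le_add_right (Nat.mul_le_mul_right s
      (Nat.sub_le_sub_left (Nat.zero_le (n0 + 1)) _)) m
  have h3 := hfinal (e (n0 + 1)) hem hk0 (by rw [← hcomp (n0 + 1) hk0]; exact hzero)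
  exact h3

end Main

end Groth.Agent.Helper6.GhostAR
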