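import Mathlib
import Groth.Agent.Helper6.GhostAR1

/-!
# The subcomplexes `J^i ⊗ K` of a complex of flat modules, as `GhostAR.Data`
-/

set_option autoImplicit false
set_option linter.style.haveILetI false
set_option linter.unusedSectionVars false

universe w u
open CategoryTheory CategoryTheory.Limits MonoidalCategory

namespace Groth.Agent.Helper6.GhostAR

variable {A : Type u} [CommRing A] (K : CochainComplex (ModuleCat.{u} A) ℤ)

/-- the complex `I ⊗ K` -/
noncomputable abbrev tenCx (I : Ideal A) : CochainComplex (ModuleCat.{u} A) ℤ :=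
  (((curriedTensor (ModuleCat.{u} A)).obj (ModuleCat.of A ↥I)).mapHomologicalComplex
    (ComplexShape.up ℤ)).obj K

/-- the map `I ⊗ K → I' ⊗ K` for `I ≤ I'` -/
noncomputable abbrev tenMap {I I' : Ideal A} (h : I ≤ I') : tenCx K I ⟶ tenCx K I' :=
  (NatTrans.mapHomologicalComplex ((curriedTensor (ModuleCat.{u} A)).map
    (ModuleCat.ofHom (Submodule.inclusion h))) (ComplexShape.up ℤ)).app K

/-- multiplication `I ⊗ M → M` -/
noncomputable def mulHom (I : Ideal A) (M : ModuleCat.{u} A) : (ModuleCat.of A ↥I ⊗ M) ⟶ M :=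
  ModuleCat.ofHom ((TensorProduct.lid A M).toLinearMap ∘ₗ LinearMap.rTensor M I.subtype)

lemma mulHom_tmul (I : Ideal A) (M : ModuleCat.{u} A) (a : I) (x : M) :
    (mulHom I M).hom (a ⊗ₜ[A] x) = (a : A) • x := by
  show (TensorProduct.lid A M) (LinearMap.rTensor M I.subtype (a ⊗ₜ[A] x)) = _
  rw [LinearMap.rTensor_tmul, TensorProduct.lid_tmul]
  rfl

lemma tenCx_d_tmul (I : Ideal A) (i j : ℤ) (a : I) (x : K.X i) :
    ((tenCx K I).d i j).hom (a ⊗ₜ[A] x) = a ⊗ₜ[A] (K.d i j).hom x := rfl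

lemma tenMap_f_tmul {I I' : Ideal A} (h : I ≤ I') (q : ℤ) (a : I) (x : K.X q) :
    ((tenMap K h).f q).hom (a ⊗ₜ[A] x) = (Submodule.inclusion h a) ⊗ₜ[A] x := rfl

/-- the multiplication map `I ⊗ K → K` -/
noncomputable def muCx (I : Ideal A) : tenCx K I ⟶ K where
  f q := mulHom I (K.X q)
  comm' i j _ := by
    refine ModuleCat.hom_ext (TensorProduct.ext' fun a x => ?_)
    show (K.d i j).hom ((mulHom I (K.X i)).hom (a ⊗ₜ[A] x)) =
      (mulHom I (K.X j)).hom (((tenCx K I).d i j).hom (a ⊗ₜ[A] x))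
    rw [tenCx_d_tmul, mulHom_tmul, mulHom_tmul, map_smul]

lemma muCx_f (I : Ideal A) (q : ℤ) : (muCx K I).f q = mulHom I (K.X q) := rfl

lemma mulHom_injective (I : Ideal A) (M : ModuleCat.{u} A) [Module.Flat A M] :
    Function.Injective (mulHom I M).hom := by
  show Function.Injective ((TensorProduct.lid A M).toLinearMap ∘ₗ LinearMap.rTensor M I.subtype)
  rw [LinearMap.coe_comp]
  exact (TensorProduct.lid A M).injective.comp
    (Module.Flat.rTensor_preserves_injective_linearMap I.subtype Subtype.val_injective)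

lemma mulHom_mem (I : Ideal A) (M : ModuleCat.{u} A) (w : (ModuleCat.of A ↥I ⊗ M : ModuleCat.{u} A)) :
    (mulHom I M).hom w ∈ (I • ⊤ : Submodule A M) := by
  induction w using TensorProduct.induction_on with
  | zero => rw [map_zero]; exact Submodule.zero_mem _
  | tmul a x =>
    rw [mulHom_tmul]
    exact Submodule.smul_mem_smul a.2 Submodule.mem_top
  | add w w' hw hw' => rw [map_add]; exact Submodule.add_mem _ hw hw'

lemma mulHom_surj (I : Ideal A) (M : ModuleCat.{u} A) (y : M) (hy : y ∈ (I • ⊤ : Submodule A M)) :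
    ∃ w, (mulHom I M).hom w = y := by
  refine Submodule.smul_induction_on hy (fun a ha x _ => ?_) (fun y y' hy hy' => ?_)
  · exact ⟨(⟨a, ha⟩ : I) ⊗ₜ[A] x, mulHom_tmul I M ⟨a, ha⟩ x⟩
  · obtain ⟨w, rfl⟩ := hy
    obtain ⟨w', rfl⟩ := hy'
    exact ⟨w + w', map_add _ _ _⟩

lemma tenMap_muCx {I I' : Ideal A} (h : I ≤ I') : tenMap K h ≫ muCx K I' = muCx K I := by
  ext q : 1
  refine ModuleCat.hom_ext (TensorProduct.ext' fun a x => ?_)
  show (mulHom I' (K.X q)).hom (((tenMap K h).f q).hom (a ⊗ₜ[A] x)) =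
    (mulHom I (K.X q)).hom (a ⊗ₜ[A] x)
  rw [tenMap_f_tmul, mulHom_tmul, mulHom_tmul]
  rfl

/-- the data `J^i ⊗ K` for a complex of flat modules -/
noncomputable def dataOfFlat (J : Ideal A) (hflat : ∀ q, Module.Flat A (K.X q)) : Data J K where
  Y i := tenCx K (J ^ i)
  μ i := muCx K (J ^ i)
  t i j h := tenMap K (Ideal.pow_le_pow_right h)
  μ_inj i q := by
    haveI := hflat q
    exact mulHom_injective (J ^ i) (K.X q)
  μ_mem i q w := mulHom_mem (J ^ i) (K.X q) w
  μ_surj i q y hy := mulHom_surj (J ^ i) (K.X q) y hy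
  t_μ i j h := tenMap_muCx K _

end Groth.Agent.Helper6.GhostAR
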