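import Mathlib
import Groth.Prelude.Def_SGA4a

/-!
# Helper6: Giraud's theorem, part 1 (the `E`-side).
-/

set_option backward.isDefEq.respectTransparency false
set_option backward.isDefEq.respectTransparency.types false
set_option autoImplicit false
set_option linter.unusedVariables false

universe w v u

open CategoryTheory CategoryTheory.Limits Opposite

namespace Groth.Agent.Helper6.Gir

variable {E : Type v} [Category.{u} E] [HasFiniteLimits E]
variable {C : Type u} [SmallCategory C] (ι : C ⥤ E)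

/-- the detecting hypothesis, phrased through a functor from a small category -/
def Det : Prop :=
  ∀ ⦃X Y : E⦄ (f : X ⟶ Y),
    (∀ (c : C) (h : ι.obj c ⟶ Y), ∃! h' : ι.obj c ⟶ X, h' ≫ f = h) → IsIso f

variable {ι}

theorem Det.sep (hD : Det ι) {T W : E} (u v : T ⟶ W)
    (h : ∀ (c : C) (b : ι.obj c ⟶ T), b ≫ u = b ≫ v) : u = v := by
  haveI : IsIso (equalizer.ι u v) := by
    apply hD
    intro c b
    refine ⟨equalizer.lift b (h c b), equalizer.lift_ι _ _, ?_⟩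
    intro b' hb'
    apply equalizer.hom_ext
    rw [hb', equalizer.lift_ι]
  exact eq_of_epi_equalizer

theorem Det.isIso_of_mono (hD : Det ι) {X Y : E} (m : X ⟶ Y) [Mono m]
    (h : ∀ (c : C) (a : ι.obj c ⟶ Y), ∃ a' : ι.obj c ⟶ X, a' ≫ m = a) : IsIso m := by
  apply hD
  intro c a
  obtain ⟨a', ha'⟩ := h c a
  exact ⟨a', ha', fun b hb => (cancel_mono m).1 (hb.trans ha'.symm)⟩

/-- base change of a universal coproduct is a coproduct -/
theorem isColimit_pullback_cofan {I : Type w} {X : I → E} (c : Cofan X)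
    (hu : IsUniversalColimit c) {T : E} (t : T ⟶ c.pt) :
    Nonempty (IsColimit (Cofan.mk T (fun i => pullback.snd (c.inj i) t))) := by
  refine hu (Cofan.mk T (fun i => pullback.snd (c.inj i) t))
    (Discrete.natTrans (fun i => pullback.fst (c.inj i.as) t)) t ?_
    (NatTrans.Equifibered.of_discrete _) ?_
  · ext ⟨i⟩
    exact pullback.condition
  · rintro ⟨i⟩
    exact (IsPullback.of_hasPullback (c.inj i) t).flip

/-- the decomposition lemma -/
theorem dec (hD : Det ι) {I : Type w} {X : I → E} (c : Cofan X) (hu : IsUniversalColimit c)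
    {T W : E} (t : T ⟶ c.pt) (u v : T ⟶ W)
    (h : ∀ (i : I) (e : C) (b : ι.obj e ⟶ T) (k : ι.obj e ⟶ X i),
      b ≫ t = k ≫ c.inj i → b ≫ u = b ≫ v) : u = v := by
  obtain ⟨hc'⟩ := isColimit_pullback_cofan c hu t
  apply Cofan.IsColimit.hom_ext hc'
  intro i
  show pullback.snd (c.inj i) t ≫ u = pullback.snd (c.inj i) t ≫ v
  apply hD.sep
  intro e b'
  have := h i e (b' ≫ pullback.snd (c.inj i) t) (b' ≫ pullback.fst (c.inj i) t)
    (by rw [Category.assoc, Category.assoc, pullback.condition])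
  simpa only [Category.assoc] using this

theorem isEquivRel_kernelPair {P X : E} (p : P ⟶ X) :
    SGA4.IsEquivRel (pullback.fst p p) (pullback.snd p p) := by
  intro T
  have key : ∀ a b : T ⟶ P, (∃ f : T ⟶ pullback p p,
      f ≫ pullback.fst p p = a ∧ f ≫ pullback.snd p p = b) ↔ a ≫ p = b ≫ p := by
    intro a b
    constructor
    · rintro ⟨f, rfl, rfl⟩
      rw [Category.assoc, Category.assoc, pullback.condition]
    · intro h
      exact ⟨pullback.lift a b h, pullback.lift_fst _ _ _, pullback.lift_snd _ _ _⟩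
  refine ⟨?_, ⟨?_, ?_, ?_⟩⟩
  · intro f f' hff'
    have h1 : f ≫ pullback.fst p p = f' ≫ pullback.fst p p := congrArg Prod.fst hff'
    have h2 : f ≫ pullback.snd p p = f' ≫ pullback.snd p p := congrArg Prod.snd hff'
    exact pullback.hom_ext h1 h2
  · intro a
    exact (key a a).2 rfl
  · intro a b hab
    exact (key b a).2 ((key a b).1 hab).symm
  · intro a b c hab hbc
    exact (key a c).2 (((key a b).1 hab).trans ((key b c).1 hbc))

/-- hypothesis c) of Giraud's theorem -/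
def HC (E : Type v) [Category.{u} E] [HasFiniteLimits E] : Prop :=
  ∀ (R A : E) (p₁ p₂ : R ⟶ A), SGA4.IsEquivRel p₁ p₂ → SGA4.IsEffectiveUniversalEquivRel p₁ p₂

/-- image factorisation -/
theorem exists_image_fac (hc : HC E) {P X : E} (p : P ⟶ X) :
    ∃ (B : E) (π : P ⟶ B) (m : B ⟶ X), π ≫ m = p ∧ Mono m ∧
      (∀ (B' : E) (g : B' ⟶ B), EffectiveEpi (pullback.snd π g)) ∧
      (∀ {W : E} (y : P ⟶ W), pullback.fst p p ≫ y = pullback.snd p p ≫ y →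
        ∃ n : B ⟶ W, π ≫ n = y) := by
  obtain ⟨B, π, hpb, hpo, heff⟩ := hc _ _ _ _ (isEquivRel_kernelPair p)
  obtain ⟨m, hm⟩ : ∃ m : B ⟶ X, π ≫ m = p :=
    ⟨hpo.desc p p pullback.condition, hpo.inl_desc _ _ _⟩
  refine ⟨B, π, m, hm, ⟨fun {T} u v huv => ?_⟩, heff,
    fun y hy => ⟨hpo.desc y y hy, hpo.inl_desc _ _ _⟩⟩
  haveI h1 := heff T u
  haveI h2 := heff (pullback π u) (pullback.snd π u ≫ v)
  obtain ⟨s₁, hs₁⟩ : ∃ s₁ : pullback π u ⟶ T, s₁ = pullback.snd π u := ⟨_, rfl⟩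
  obtain ⟨f₁, hf₁⟩ : ∃ f₁ : pullback π u ⟶ P, f₁ = pullback.fst π u := ⟨_, rfl⟩
  have c₁ : f₁ ≫ π = s₁ ≫ u := by rw [hs₁, hf₁, pullback.condition]
  obtain ⟨s₂, hs₂⟩ : ∃ s₂ : pullback π (pullback.snd π u ≫ v) ⟶ pullback π u,
    s₂ = pullback.snd π (pullback.snd π u ≫ v) := ⟨_, rfl⟩
  obtain ⟨f₂, hf₂⟩ : ∃ f₂ : pullback π (pullback.snd π u ≫ v) ⟶ P,
    f₂ = pullback.fst π (pullback.snd π u ≫ v) := ⟨_, rfl⟩
  have c₂ : f₂ ≫ π = s₂ ≫ s₁ ≫ v := by rw [hs₂, hf₂, hs₁, pullback.condition]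
  haveI : Epi s₁ := by rw [hs₁]; infer_instance
  haveI : Epi s₂ := by rw [hs₂]; infer_instance
  have e1 : (s₂ ≫ f₁) ≫ π = (s₂ ≫ s₁) ≫ u := by rw [Category.assoc, c₁, Category.assoc]
  have e2 : f₂ ≫ π = (s₂ ≫ s₁) ≫ v := by rw [c₂, Category.assoc]
  have e3 : (s₂ ≫ f₁) ≫ p = f₂ ≫ p := by
    calc (s₂ ≫ f₁) ≫ p = (s₂ ≫ f₁) ≫ π ≫ m := by rw [hm]
      _ = ((s₂ ≫ s₁) ≫ u) ≫ m := by rw [← Category.assoc, e1]
      _ = ((s₂ ≫ s₁) ≫ v) ≫ m := by rw [Category.assoc, huv, ← Category.assoc]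
      _ = f₂ ≫ p := by rw [← e2, Category.assoc, hm]
  have e4 : (s₂ ≫ f₁) ≫ π = f₂ ≫ π := by
    calc (s₂ ≫ f₁) ≫ π = (pullback.lift (s₂ ≫ f₁) f₂ e3 ≫ pullback.fst p p) ≫ π := by
          rw [pullback.lift_fst]
      _ = pullback.lift (s₂ ≫ f₁) f₂ e3 ≫ pullback.snd p p ≫ π := by
          rw [Category.assoc, hpb.w]
      _ = f₂ ≫ π := by rw [← Category.assoc, pullback.lift_snd]
  have e5 : (s₂ ≫ s₁) ≫ u = (s₂ ≫ s₁) ≫ v := by rw [← e1, e4, e2]
  exact (cancel_epi (s₂ ≫ s₁)).1 e5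

/-- fullness of `X ↦ Hom(ι -, X)` -/
theorem full_aux (hb : SGA4.HasDisjointUniversalCoproducts.{v, u} E) (hc : HC E) (hD : Det ι)
    [ι.Full] {X W : E} (y : ∀ d : C, (ι.obj d ⟶ X) → (ι.obj d ⟶ W))
    (hy : ∀ (d d' : C) (k : d' ⟶ d) (a : ι.obj d ⟶ X), y d' (ι.map k ≫ a) = ι.map k ≫ y d a) :
    ∃ x : X ⟶ W, ∀ (d : C) (a : ι.obj d ⟶ X), a ≫ x = y d a := by
  obtain ⟨c, hcol, -, hu⟩ := hb (Σ d : C, (ι.obj d ⟶ X)) (fun i => ι.obj i.1)
  obtain ⟨p, hp⟩ : ∃ p : c.pt ⟶ X, ∀ i, c.inj i ≫ p = i.2 :=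
    ⟨Cofan.IsColimit.desc hcol (fun i => i.2), fun i => Cofan.IsColimit.fac hcol _ i⟩
  obtain ⟨yy, hyy⟩ : ∃ yy : c.pt ⟶ W, ∀ i, c.inj i ≫ yy = y i.1 i.2 :=
    ⟨Cofan.IsColimit.desc hcol (fun i => y i.1 i.2), fun i => Cofan.IsColimit.fac hcol _ i⟩
  obtain ⟨B, π, m, hm, hmono, heff, hdesc⟩ := exists_image_fac hc p
  haveI : IsIso m := hD.isIso_of_mono m (fun d a => ⟨c.inj ⟨d, a⟩ ≫ π, by
    rw [Category.assoc, hm, hp]⟩)
  have key : pullback.fst p p ≫ yy = pullback.snd p p ≫ yy := by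
    apply dec hD c hu (pullback.fst p p)
    intro i e b k hbk
    apply dec hD c hu (b ≫ pullback.snd p p)
    intro j e' b' k' hb'k'
    obtain ⟨k₁, hk₁⟩ : ∃ k₁ : e' ⟶ i.1, ι.map k₁ = b' ≫ k := ⟨ι.preimage _, ι.map_preimage _⟩
    obtain ⟨k₂, hk₂⟩ : ∃ k₂ : e' ⟶ j.1, ι.map k₂ = k' := ⟨ι.preimage _, ι.map_preimage _⟩
    have hL : b' ≫ b ≫ pullback.fst p p ≫ yy = y e' (ι.map k₁ ≫ i.2) := by
      rw [hy, hk₁, ← hyy i, ← Category.assoc b, hbk]
      simp only [Category.assoc]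
    have hR : b' ≫ b ≫ pullback.snd p p ≫ yy = y e' (ι.map k₂ ≫ j.2) := by
      rw [hy, hk₂, ← hyy j, ← Category.assoc b, ← Category.assoc b', hb'k']
      simp only [Category.assoc]
    have hE : ι.map k₁ ≫ i.2 = ι.map k₂ ≫ j.2 := by
      rw [hk₁, hk₂, ← hp i, ← hp j]
      calc (b' ≫ k) ≫ c.inj i ≫ p = b' ≫ (k ≫ c.inj i) ≫ p := by simp only [Category.assoc]
        _ = b' ≫ (b ≫ pullback.fst p p) ≫ p := by rw [hbk]
        _ = (b' ≫ b ≫ pullback.snd p p) ≫ p := by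
            simp only [Category.assoc]; rw [pullback.condition]
        _ = k' ≫ c.inj j ≫ p := by rw [hb'k', Category.assoc]
    rw [hL, hR, hE]
  obtain ⟨n, hn⟩ := hdesc yy key
  refine ⟨inv m ≫ n, fun d a => ?_⟩
  have h1 : a ≫ inv m = c.inj ⟨d, a⟩ ≫ π := by
    rw [IsIso.comp_inv_eq, Category.assoc, hm, hp]
  rw [← Category.assoc, h1, Category.assoc, hn, hyy]

/-- effective epimorphic families, in unbundled form -/
def Eff {I : Type w} {T : E} {Y : I → E} (q : ∀ i, Y i ⟶ T) : Prop :=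
  ∀ (W : E) (y : ∀ i, Y i ⟶ W),
    (∀ (Z : E) (i j : I) (g₁ : Z ⟶ Y i) (g₂ : Z ⟶ Y j),
      g₁ ≫ q i = g₂ ≫ q j → g₁ ≫ y i = g₂ ≫ y j) →
    ∃ x : T ⟶ W, (∀ i, q i ≫ x = y i) ∧ ∀ x' : T ⟶ W, (∀ i, q i ≫ x' = y i) → x' = x

theorem eff_of_universal {I : Type w} {X : I → E} (c : Cofan X) (hu : IsUniversalColimit c)
    {T : E} (t : T ⟶ c.pt) : Eff (fun i => pullback.snd (c.inj i) t) := by
  obtain ⟨hc'⟩ := isColimit_pullback_cofan c hu t
  intro W y _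
  refine ⟨Cofan.IsColimit.desc hc' y, fun i => Cofan.IsColimit.fac hc' _ i, ?_⟩
  intro x' hx'
  apply Cofan.IsColimit.hom_ext hc'
  intro i
  exact (hx' i).trans (Cofan.IsColimit.fac hc' _ i).symm

theorem eff_of_effectiveEpi {Y T : E} (f : Y ⟶ T) [EffectiveEpi f] :
    Eff (fun _ : PUnit.{1} => f) := by
  intro W y hy
  refine ⟨EffectiveEpi.desc f (y PUnit.unit) (fun g₁ g₂ h => hy _ _ _ g₁ g₂ h),
    fun _ => EffectiveEpi.fac f _ _, ?_⟩
  intro x' hx'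
  exact EffectiveEpi.uniq f _ _ x' (hx' PUnit.unit)

/-- a map to the empty coproduct forces initiality -/
theorem isInitial_of_hom (hb : SGA4.HasDisjointUniversalCoproducts.{v, u} E) :
    ∃ (O : E) (_ : IsInitial O), ∀ (T : E) (_ : T ⟶ O), Nonempty (IsInitial T) := by
  obtain ⟨X0, hX0⟩ : ∃ X0 : PEmpty.{u + 1} → E, X0 = fun i => i.elim := ⟨_, rfl⟩
  obtain ⟨c, hcol, -, hu⟩ := hb PEmpty X0
  refine ⟨c.pt, isColimitChangeEmptyCocone E hcol (asEmptyCocone c.pt) (Iso.refl _), ?_⟩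
  intro T f
  obtain ⟨h⟩ := hu (Cofan.mk T (fun i => i.elim) : Cofan X0)
    (Discrete.natTrans (fun i => i.as.elim)) f (by ext ⟨i⟩; exact i.elim)
    (NatTrans.Equifibered.of_discrete _) (by rintro ⟨i⟩; exact i.elim)
  exact ⟨isColimitChangeEmptyCocone E h (asEmptyCocone T) (Iso.refl _)⟩

/-- disjointness, in the form we use it -/
theorem isInitial_of_ne (hb : SGA4.HasDisjointUniversalCoproducts.{v, u} E) {I : Type w}
    {X : I → E} [CoproductDisjoint X] (c : Cofan X) (hcol : IsColimit c) {i j : I} (hij : i ≠ j)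
    {T : E} (k : T ⟶ X i) (k' : T ⟶ X j) (hk : k ≫ c.inj i = k' ≫ c.inj j) :
    Nonempty (IsInitial T) := by
  obtain ⟨O, hO, hstrict⟩ := isInitial_of_hom hb
  have h0 : IsInitial (pullback (c.inj i) (c.inj j)) :=
    IsInitial.ofCoproductDisjointOfIsColimitOfIsLimit hij hcol
      (pullback.isLimit (c.inj i) (c.inj j))
  exact hstrict T (pullback.lift k k' hk ≫ h0.to O)

end Groth.Agent.Helper6.Gir
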