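import Mathlib
import Groth.Prelude.Def_SGA4a
import Groth.Agent.Helper6.Gir1
import Groth.Agent.Helper6.FiltCoh

/-!
# Helper6: Giraud's theorem, part 2 (the topology, the functor `Φ`, covering families).
-/

set_option backward.isDefEq.respectTransparency false
set_option backward.isDefEq.respectTransparency.types false
set_option autoImplicit false
set_option linter.unusedVariables false

universe w v u

open CategoryTheory CategoryTheory.Limits Opposite
open Groth.Agent.Helper2.TF1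

namespace Groth.Agent.Helper6.Gir

variable {E : Type v} [Category.{u} E] [HasFiniteLimits E]
variable {C : Type u} [SmallCategory C] (ι : C ⥤ E)

/-- the presheaf `Hom(ι -, X)` -/
def Φ₀ : E ⥤ Cᵒᵖ ⥤ Type u := yoneda ⋙ (Functor.whiskeringLeft _ _ _).obj ι.op

/-- the topology -/
def J : GrothendieckTopology C := Sheaf.finestTopology (Set.range (Φ₀ ι).obj)

/-- the functor to sheaves -/
def Φ : E ⥤ Sheaf (J ι) (Type u) :=
  ObjectProperty.lift _ (Φ₀ ι) (fun X =>
    (isSheaf_iff_isSheaf_of_type _ _).2 (Sheaf.sheaf_for_finestTopology _ ⟨X, rfl⟩))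

/-- the sieve of maps along which `s` lifts to a member of the family -/
def cov {I : Type w} {X : E} {Y : I → E} (g : ∀ i, Y i ⟶ X) {c : C} (s : ι.obj c ⟶ X) :
    Sieve c where
  arrows d f := ∃ (i : I) (b : ι.obj d ⟶ Y i), b ≫ g i = ι.map f ≫ s
  downward_closed := by
    rintro d d' f ⟨i, b, hb⟩ k
    exact ⟨i, ι.map k ≫ b, by rw [Category.assoc, hb, ι.map_comp, Category.assoc]⟩

theorem cov_pullback {I : Type w} {X : E} {Y : I → E} (g : ∀ i, Y i ⟶ X) {c : C}
    (s : ι.obj c ⟶ X) {c' : C} (h : c' ⟶ c) :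
    (cov ι g s).pullback h = cov ι g (ι.map h ≫ s) := by
  ext d f
  show (∃ (i : I) (b : ι.obj d ⟶ Y i), b ≫ g i = ι.map (f ≫ h) ≫ s) ↔
    (∃ (i : I) (b : ι.obj d ⟶ Y i), b ≫ g i = ι.map f ≫ ι.map h ≫ s)
  rw [ι.map_comp, Category.assoc]

variable {ι}

theorem isSheafFor_cov (hb : SGA4.HasDisjointUniversalCoproducts.{v, u} E) (hc : HC E)
    (hD : Det ι) [ι.Full] [ι.Faithful] {I : Type w} {X : E} {Y : I → E} (g : ∀ i, Y i ⟶ X)
    (hg : ∀ (c : C) (s : ι.obj c ⟶ X), Eff (fun i => pullback.snd (g i) s))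
    (W : E) {c : C} (s : ι.obj c ⟶ X) :
    Presieve.IsSheafFor ((Φ₀ ι).obj W) (cov ι g s).arrows := by
  intro x hx
  have hx' := (Presieve.compatible_iff_sieveCompatible x).1 hx
  have hirr : ∀ {d : C} (f f' : d ⟶ c) (hf : (cov ι g s).arrows f) (hf' : (cov ι g s).arrows f'),
      f = f' → x f hf = x f' hf' := by
    intro d f f' hf hf' e
    subst e
    rfl
  have hmem : ∀ (i : I) (d : C) (b : ι.obj d ⟶ pullback (g i) s),
      (cov ι g s).arrows (ι.preimage (b ≫ pullback.snd (g i) s)) := fun i d b =>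
    ⟨i, b ≫ pullback.fst (g i) s, by
      rw [ι.map_preimage, Category.assoc, Category.assoc, pullback.condition]⟩
  have hY : ∀ i, ∃ yi : pullback (g i) s ⟶ W, ∀ (d : C) (b : ι.obj d ⟶ pullback (g i) s)
      (f : d ⟶ c) (hf : (cov ι g s).arrows f), ι.map f = b ≫ pullback.snd (g i) s →
      b ≫ yi = x f hf := by
    intro i
    obtain ⟨yi, hyi⟩ := full_aux hb hc hD (X := pullback (g i) s) (W := W)
      (fun d b => x (ι.preimage (b ≫ pullback.snd (g i) s)) (hmem i d b)) (by
        intro d d' k b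
        have h1 := hx' (ι.preimage (b ≫ pullback.snd (g i) s)) k (hmem i d b)
        refine Eq.trans (hirr _ _ _ _ ?_) h1
        apply ι.map_injective
        rw [ι.map_preimage, ι.map_comp, ι.map_preimage, Category.assoc])
    refine ⟨yi, fun d b f hf hfb => ?_⟩
    rw [hyi]
    apply hirr
    apply ι.map_injective
    rw [ι.map_preimage, hfb]
  choose yy hyy using hY
  obtain ⟨x₀, hx₀, hx₀u⟩ := hg c s W yy (by
    intro Z i j g₁ g₂ h12
    apply hD.sep
    intro d t
    rw [← Category.assoc, ← Category.assoc]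
    rw [hyy i d (t ≫ g₁) (ι.preimage ((t ≫ g₁) ≫ pullback.snd (g i) s)) (hmem i d _)
      (ι.map_preimage _),
      hyy j d (t ≫ g₂) (ι.preimage ((t ≫ g₁) ≫ pullback.snd (g i) s)) (hmem i d _) (by
        rw [ι.map_preimage, Category.assoc, Category.assoc, h12])])
  refine ⟨x₀, ?_, ?_⟩
  · intro d f hf
    obtain ⟨i, b, hb'⟩ := hf
    show ι.map f ≫ x₀ = x f _
    have e1 : pullback.lift b (ι.map f) hb' ≫ pullback.snd (g i) s = ι.map f :=
      pullback.lift_snd _ _ _
    have e2 : pullback.snd (g i) s ≫ x₀ = yy i := hx₀ i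
    calc ι.map f ≫ x₀ = pullback.lift b (ι.map f) hb' ≫ pullback.snd (g i) s ≫ x₀ := by
          rw [← Category.assoc, e1]
      _ = pullback.lift b (ι.map f) hb' ≫ yy i := by rw [e2]
      _ = x f _ := hyy i d _ f _ e1.symm
  · intro t ht
    have ht2 : ∀ (d : C) (f : d ⟶ c) (hf : (cov ι g s).arrows f),
        ι.map f ≫ (t : ι.obj c ⟶ W) = x f hf := fun d f hf => ht f hf
    show (t : ι.obj c ⟶ W) = x₀
    apply hx₀u
    intro i
    show pullback.snd (g i) s ≫ (t : ι.obj c ⟶ W) = yy i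
    apply hD.sep
    intro d b
    have e0 := hyy i d b (ι.preimage (b ≫ pullback.snd (g i) s)) (hmem i d b) (ι.map_preimage _)
    calc b ≫ pullback.snd (g i) s ≫ (t : ι.obj c ⟶ W)
        = (b ≫ pullback.snd (g i) s) ≫ (t : ι.obj c ⟶ W) := (Category.assoc _ _ _).symm
      _ = ι.map (ι.preimage (b ≫ pullback.snd (g i) s)) ≫ (t : ι.obj c ⟶ W) := by
          rw [ι.map_preimage]
      _ = x _ (hmem i d b) := ht2 _ _ _
      _ = b ≫ yy i := e0.symm

theorem cov_mem (hb : SGA4.HasDisjointUniversalCoproducts.{v, u} E) (hc : HC E)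
    (hD : Det ι) [ι.Full] [ι.Faithful] {I : Type w} {X : E} {Y : I → E} (g : ∀ i, Y i ⟶ X)
    (hg : ∀ (c : C) (s : ι.obj c ⟶ X), Eff (fun i => pullback.snd (g i) s))
    {c : C} (s : ι.obj c ⟶ X) : cov ι g s ∈ J ι c := by
  apply Sheaf.mem_finestTopology_of_forall_isSheafFor
  rintro P ⟨W, rfl⟩ c' h
  rw [cov_pullback]
  exact isSheafFor_cov hb hc hD g hg W (ι.map h ≫ s)

theorem faithful_Φ (hD : Det ι) : (Φ ι).Faithful where
  map_injective {X W} f g hfg := by
    apply hD.sep
    intro d a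
    have h1 : (Φ₀ ι).map f = (Φ₀ ι).map g := congrArg (fun k => k.hom) hfg
    have h2 := ConcreteCategory.congr_hom
      (congrArg (fun k : (Φ₀ ι).obj X ⟶ (Φ₀ ι).obj W => k.app (op d)) h1) a
    exact h2

theorem full_Φ (hb : SGA4.HasDisjointUniversalCoproducts.{v, u} E) (hc : HC E)
    (hD : Det ι) [ι.Full] : (Φ ι).Full where
  map_surjective {X W} φ := by
    obtain ⟨x, hx⟩ := full_aux hb hc hD (X := X) (W := W)
      (fun d a => φ.hom.app (op d) a) (by
        intro d d' k a
        exact NatTrans.naturality_apply φ.hom k.op a)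
    refine ⟨x, ?_⟩
    apply Sheaf.hom_ext
    ext ⟨d⟩ a
    exact hx d a

/-- sectionwise form of the gluing lemma -/
theorem glue' {J' : GrothendieckTopology C} {I : Type w} {X Z : Sheaf J' (Type u)}
    (F : I → Sheaf J' (Type u)) (π : ∀ i, F i ⟶ X) (hπ : LJS F π) (g : ∀ i, F i ⟶ Z)
    (hg : ∀ (i j : I) (d : C) (a : (F i).obj.obj (op d)) (b : (F j).obj.obj (op d)),
      (π i).hom.app (op d) a = (π j).hom.app (op d) b →
      (g i).hom.app (op d) a = (g j).hom.app (op d) b) :
    ∃ h : X ⟶ Z, ∀ i, π i ≫ h = g i := by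
  apply FiltCoh.glue F π hπ g
  intro i j
  apply Sheaf.hom_ext
  ext ⟨d⟩ t
  have h0 : pullback.fst (π i) (π j) ≫ π i = pullback.snd (π i) (π j) ≫ π j := pullback.condition
  have h1 := ConcreteCategory.congr_hom
    (congrArg (fun k : pullback (π i) (π j) ⟶ X => k.hom.app (op d)) h0) t
  exact hg i j d _ _ h1

end Groth.Agent.Helper6.Gir
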