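import Mathlib
import Groth.Prelude.Def_SGA4a
import Groth.Agent.Helper6.Gir2

/-!
# Helper6: Giraud's theorem, part 3 (essential surjectivity and the theorem).
-/

set_option backward.isDefEq.respectTransparency false
set_option backward.isDefEq.respectTransparency.types false
set_option autoImplicit false
set_option linter.unusedVariables false

universe w v u

open CategoryTheory CategoryTheory.Limits Opposite
open Groth.Agent.Helper2.TF1

namespace Groth.Agent.Helper6.Gir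

variable {E : Type v} [Category.{u} E] [HasFiniteLimits E]
variable {C : Type u} [SmallCategory C] {ι : C ⥤ E}

theorem strict (hb : SGA4.HasDisjointUniversalCoproducts.{v, u} E) {T T' : E} (hT : IsInitial T)
    (f : T' ⟶ T) : Nonempty (IsInitial T') := by
  obtain ⟨O, hO, hs⟩ := isInitial_of_hom hb
  exact hs T' (f ≫ hT.to O)

theorem bot_mem (hb : SGA4.HasDisjointUniversalCoproducts.{v, u} E) {d : C}
    (h : Nonempty (IsInitial (ι.obj d))) : (⊥ : Sieve d) ∈ J ι d := by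
  obtain ⟨hd⟩ := h
  apply Sheaf.mem_finestTopology_of_forall_isSheafFor
  rintro P ⟨W, rfl⟩ d' f
  obtain ⟨hd'⟩ := strict hb hd (ι.map f)
  intro x hx
  refine ⟨(hd'.to W : ι.obj d' ⟶ W), ?_, ?_⟩
  · intro d'' k hk
    exact False.elim hk
  · intro t _
    exact hd'.hom_ext _ _

/-- the map from a generator to a sheaf determined by a section -/
noncomputable def σ [ι.Full] [ι.Faithful] (F : Sheaf (J ι) (Type u)) (c : C) (s : F.obj.obj (op c)) :
    (Φ ι).obj (ι.obj c) ⟶ F :=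
  ⟨{ app := fun d => TypeCat.ofHom
        (fun k : ι.obj d.unop ⟶ ι.obj c => F.obj.map (ι.preimage k).op s)
     naturality := by
      intro d d' h
      ext k
      have e1 : ι.preimage (ι.map h.unop ≫ k) = h.unop ≫ ι.preimage k := by
        apply ι.map_injective
        rw [ι.map_preimage, ι.map_comp, ι.map_preimage]
      show F.obj.map (ι.preimage (ι.map h.unop ≫ k)).op s =
        F.obj.map h (F.obj.map (ι.preimage k).op s)
      rw [e1, ← Functor.map_comp_apply]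
      rfl }⟩

theorem essSurj_aux (hb : SGA4.HasDisjointUniversalCoproducts.{v, u} E) (hc : HC E)
    (hD : Det ι) [ι.Full] [ι.Faithful] (F : Sheaf (J ι) (Type u)) :
    ∃ X : E, Nonempty ((Φ ι).obj X ≅ F) := by
  -- Step 1: the coproduct of generators indexed by sections of `F`
  obtain ⟨cA, hcolA, hdisj, huA⟩ := hb (Σ c : C, F.obj.obj (op c)) (fun i => ι.obj i.1)
  haveI := hdisj
  have hljsA : LJS (fun i : (Σ c : C, F.obj.obj (op c)) => (Φ ι).obj (ι.obj i.1))
      (fun i => (Φ ι).map (cA.inj i)) := by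
    intro d a
    refine ⟨cov ι cA.inj (a : ι.obj d ⟶ cA.pt),
      cov_mem hb hc hD cA.inj (fun c s => eff_of_universal cA huA s) _, ?_⟩
    rintro d' f ⟨i, b, hb'⟩
    exact ⟨i, b, hb'⟩
  -- Step 2: the map `α`
  obtain ⟨α, hα⟩ := glue' _ _ hljsA (fun i => σ F i.1 i.2) (by
    intro i j d k k' hkk'
    by_cases hij : i = j
    · subst hij
      haveI := Mono.of_coproductDisjoint hcolA i
      have hkk'' : (k : ι.obj d ⟶ ι.obj i.1) ≫ cA.inj i = (k' : ι.obj d ⟶ ι.obj i.1) ≫ cA.inj i :=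
        hkk'
      have e : (k : ι.obj d ⟶ ι.obj i.1) = k' := (cancel_mono (cA.inj i)).1 hkk''
      rw [e]
    · have hkk'' : (k : ι.obj d ⟶ ι.obj i.1) ≫ cA.inj i = (k' : ι.obj d ⟶ ι.obj j.1) ≫ cA.inj j :=
        hkk'
      have hinit := isInitial_of_ne hb cA hcolA hij _ _ hkk''
      exact sheaf_sep F (bot_mem hb hinit) (fun V g hg => False.elim hg))
  have hα' : ∀ (i : Σ c : C, F.obj.obj (op c)) (d : C) (k : ι.obj d ⟶ ι.obj i.1),
      α.hom.app (op d) (k ≫ cA.inj i) = F.obj.map (ι.preimage k).op i.2 := by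
    intro i d k
    have h1 := ConcreteCategory.congr_hom
      (congrArg (fun m : (Φ ι).obj (ι.obj i.1) ⟶ F => m.hom.app (op d)) (hα i)) k
    exact h1
  have natα : ∀ (d d' : C) (f : d' ⟶ d) (a : ι.obj d ⟶ cA.pt),
      α.hom.app (op d') (ι.map f ≫ a) = F.obj.map f.op (α.hom.app (op d) a) :=
    fun d d' f a => NatTrans.naturality_apply α.hom f.op a
  -- Step 3: the kernel relation and its image
  obtain ⟨Rel, hRel⟩ : ∃ Rel : ∀ d : C, (ι.obj d ⟶ cA.pt) → (ι.obj d ⟶ cA.pt) → Prop,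
      ∀ d a a', Rel d a a' ↔ α.hom.app (op d) a = α.hom.app (op d) a' :=
    ⟨_, fun _ _ _ => Iff.rfl⟩
  obtain ⟨cR, hcolR, -, huR⟩ := hb
    (Σ d : C, {p : (ι.obj d ⟶ cA.pt) × (ι.obj d ⟶ cA.pt) // Rel d p.1 p.2})
    (fun j => ι.obj j.1)
  obtain ⟨r, hr⟩ : ∃ r : cR.pt ⟶ cA.pt ⨯ cA.pt,
      ∀ j, cR.inj j ≫ r = prod.lift j.2.1.1 j.2.1.2 :=
    ⟨Cofan.IsColimit.desc hcolR _, fun j => Cofan.IsColimit.fac hcolR _ j⟩
  obtain ⟨R', πr, mr, hfac, hmono, heffr, -⟩ := exists_image_fac hc r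
  haveI := hmono
  have claimA : ∀ (d : C) (a a' : ι.obj d ⟶ cA.pt),
      (∃ b : ι.obj d ⟶ R', b ≫ mr ≫ prod.fst = a ∧ b ≫ mr ≫ prod.snd = a') ↔ Rel d a a' := by
    intro d a a'
    constructor
    · rintro ⟨b, rfl, rfl⟩
      rw [hRel]
      apply sheaf_sep F (cov_mem hb hc hD (fun _ : PUnit.{1} => πr)
        (fun c s => by haveI := heffr _ s; exact eff_of_effectiveEpi (pullback.snd πr s)) b)
      rintro d' f ⟨i0, t0, ht0⟩
      obtain ⟨t, ht'⟩ : ∃ t : ι.obj d' ⟶ cR.pt, t ≫ πr = ι.map f ≫ b := ⟨t0, ht0⟩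
      apply sheaf_sep F (cov_mem hb hc hD cR.inj (fun c s => eff_of_universal cR huR s) t)
      rintro d'' f' ⟨j, k, hk⟩
      have h1 : ∀ a : ι.obj d ⟶ cA.pt,
          F.obj.map f'.op (F.obj.map f.op (α.hom.app (op d) a)) =
            α.hom.app (op d'') (ι.map f' ≫ ι.map f ≫ a) := fun a => by rw [natα, natα]
      have e0 : ι.map f' ≫ ι.map f ≫ b ≫ mr = k ≫ prod.lift j.2.1.1 j.2.1.2 := by
        calc ι.map f' ≫ ι.map f ≫ b ≫ mr = ι.map f' ≫ (ι.map f ≫ b) ≫ mr := by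
              simp only [Category.assoc]
          _ = ι.map f' ≫ (t ≫ πr) ≫ mr := by rw [ht']
          _ = (ι.map f' ≫ t) ≫ πr ≫ mr := by simp only [Category.assoc]
          _ = (k ≫ cR.inj j) ≫ r := by rw [hk, hfac]
          _ = k ≫ prod.lift j.2.1.1 j.2.1.2 := by rw [Category.assoc, hr]
      have e1 : ι.map f' ≫ ι.map f ≫ b ≫ mr ≫ prod.fst = k ≫ j.2.1.1 := by
        have := congrArg (fun z => z ≫ prod.fst) e0
        simpa only [Category.assoc, prod.lift_fst] using this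
      have e2 : ι.map f' ≫ ι.map f ≫ b ≫ mr ≫ prod.snd = k ≫ j.2.1.2 := by
        have := congrArg (fun z => z ≫ prod.snd) e0
        simpa only [Category.assoc, prod.lift_snd] using this
      rw [h1, h1, e1, e2]
      obtain ⟨k₀, rfl⟩ : ∃ k₀, ι.map k₀ = k := ⟨ι.preimage k, ι.map_preimage k⟩
      rw [natα, natα, (hRel _ _ _).1 j.2.2]
    · intro h
      refine ⟨cR.inj ⟨d, ⟨(a, a'), h⟩⟩ ≫ πr, ?_, ?_⟩
      · rw [Category.assoc, ← Category.assoc πr, hfac, ← Category.assoc, hr, prod.lift_fst]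
      · rw [Category.assoc, ← Category.assoc πr, hfac, ← Category.assoc, hr, prod.lift_snd]
  -- Step 4: the image is an equivalence relation
  obtain ⟨p₁, hp₁⟩ : ∃ p₁ : R' ⟶ cA.pt, p₁ = mr ≫ prod.fst := ⟨_, rfl⟩
  obtain ⟨p₂, hp₂⟩ : ∃ p₂ : R' ⟶ cA.pt, p₂ = mr ≫ prod.snd := ⟨_, rfl⟩
  have claimB : ∀ (T : E) (a b : T ⟶ cA.pt), (∃ f : T ⟶ R', f ≫ p₁ = a ∧ f ≫ p₂ = b) ↔
      ∀ (d : C) (t : ι.obj d ⟶ T), Rel d (t ≫ a) (t ≫ b) := by
    intro T a b
    constructor
    · rintro ⟨f, rfl, rfl⟩ d t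
      exact (claimA d _ _).1 ⟨t ≫ f, by rw [hp₁, Category.assoc], by rw [hp₂, Category.assoc]⟩
    · intro h
      haveI : IsIso (pullback.snd mr (prod.lift a b)) := hD.isIso_of_mono _ (fun d t => by
        obtain ⟨b₀, hb1, hb2⟩ := (claimA d _ _).2 (h d t)
        refine ⟨pullback.lift b₀ t ?_, pullback.lift_snd _ _ _⟩
        apply Limits.prod.hom_ext
        · rw [Category.assoc, Category.assoc, prod.lift_fst, hb1]
        · rw [Category.assoc, Category.assoc, prod.lift_snd, hb2])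
      refine ⟨inv (pullback.snd mr (prod.lift a b)) ≫ pullback.fst mr (prod.lift a b), ?_, ?_⟩
      · rw [hp₁, Category.assoc, ← Category.assoc (pullback.fst _ _), pullback.condition,
          Category.assoc, prod.lift_fst, IsIso.inv_hom_id_assoc]
      · rw [hp₂, Category.assoc, ← Category.assoc (pullback.fst _ _), pullback.condition,
          Category.assoc, prod.lift_snd, IsIso.inv_hom_id_assoc]
  have hER : SGA4.IsEquivRel p₁ p₂ := by
    intro T
    refine ⟨?_, ⟨?_, ?_, ?_⟩⟩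
    · intro f f' hff'
      have h1 : f ≫ p₁ = f' ≫ p₁ := congrArg Prod.fst hff'
      have h2 : f ≫ p₂ = f' ≫ p₂ := congrArg Prod.snd hff'
      rw [← cancel_mono mr]
      apply Limits.prod.hom_ext
      · rw [Category.assoc, Category.assoc, ← hp₁]; exact h1
      · rw [Category.assoc, Category.assoc, ← hp₂]; exact h2
    · intro a
      exact (claimB T a a).2 (fun d t => (hRel _ _ _).2 rfl)
    · intro a b hab
      exact (claimB T b a).2 (fun d t =>
        (hRel _ _ _).2 ((hRel _ _ _).1 ((claimB T a b).1 hab d t)).symm)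
    · intro a b c hab hbc
      exact (claimB T a c).2 (fun d t => (hRel _ _ _).2
        (((hRel _ _ _).1 ((claimB T a b).1 hab d t)).trans
          ((hRel _ _ _).1 ((claimB T b c).1 hbc d t))))
  -- Step 5: the quotient
  obtain ⟨X, π, hpb, hpo, heff⟩ := hc R' cA.pt p₁ p₂ hER
  have claimC : ∀ (d : C) (a a' : ι.obj d ⟶ cA.pt),
      a ≫ π = a' ≫ π ↔ α.hom.app (op d) a = α.hom.app (op d) a' := by
    intro d a a'
    rw [← hRel, ← claimA]
    constructor
    · intro h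
      exact ⟨hpb.lift a a' h, by rw [← hp₁]; exact hpb.lift_fst _ _ _,
        by rw [← hp₂]; exact hpb.lift_snd _ _ _⟩
    · rintro ⟨b, rfl, rfl⟩
      rw [← hp₁, ← hp₂, Category.assoc, Category.assoc, hpb.w]
  have hljsπ : LJS (fun _ : PUnit.{1} => (Φ ι).obj cA.pt) (fun _ => (Φ ι).map π) := by
    intro d s
    refine ⟨cov ι (fun _ : PUnit.{1} => π) (s : ι.obj d ⟶ X),
      cov_mem hb hc hD (fun _ : PUnit.{1} => π)
        (fun c s => by haveI := heff _ s; exact eff_of_effectiveEpi (pullback.snd π s)) _, ?_⟩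
    rintro d' f ⟨i, b, hb'⟩
    exact ⟨i, b, hb'⟩
  have hljsα : LJS (fun _ : PUnit.{1} => (Φ ι).obj cA.pt) (fun _ => α) := by
    intro d s
    refine ⟨⊤, (J ι).top_mem d, ?_⟩
    intro d' f _
    refine ⟨PUnit.unit, (ι.map f ≫ cA.inj ⟨d, s⟩ : ι.obj d' ⟶ cA.pt), ?_⟩
    show α.hom.app (op d') (ι.map f ≫ cA.inj ⟨d, s⟩) = F.obj.map f.op s
    rw [hα' ⟨d, s⟩ d' (ι.map f), ι.preimage_map]
  obtain ⟨h₁, hh₁⟩ := glue' (fun _ : PUnit.{1} => (Φ ι).obj cA.pt) (fun _ => (Φ ι).map π)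
    hljsπ (fun _ => α) (by
      intro _ _ d a a' h
      exact (claimC d a a').1 h)
  obtain ⟨h₂, hh₂⟩ := glue' (fun _ : PUnit.{1} => (Φ ι).obj cA.pt) (fun _ => α)
    hljsα (fun _ => (Φ ι).map π) (by
      intro _ _ d a a' h
      exact (claimC d a a').2 h)
  have hh₁' : (Φ ι).map π ≫ h₁ = α := hh₁ PUnit.unit
  have hh₂' : α ≫ h₂ = (Φ ι).map π := hh₂ PUnit.unit
  refine ⟨X, ⟨⟨h₁, h₂, ?_, ?_⟩⟩⟩
  · apply hljsπ.hom_ext
    intro _
    show (Φ ι).map π ≫ h₁ ≫ h₂ = (Φ ι).map π ≫ 𝟙 _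
    rw [← Category.assoc, hh₁', hh₂', Category.comp_id]
  · apply hljsα.hom_ext
    intro _
    show α ≫ h₂ ≫ h₁ = α ≫ 𝟙 _
    rw [← Category.assoc, hh₂', hh₁', Category.comp_id]

/-- Giraud's theorem -/
theorem main (hb : SGA4.HasDisjointUniversalCoproducts.{v, u} E)
    (hc : ∀ (R A : E) (p₁ p₂ : R ⟶ A), SGA4.IsEquivRel p₁ p₂ →
      SGA4.IsEffectiveUniversalEquivRel p₁ p₂)
    (hd : ∃ P : ObjectProperty E, ObjectProperty.Small.{u} P ∧ P.IsDetecting) :
    SGA4.IsTopos.{v, u} E := by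
  obtain ⟨P, hPs, hPd⟩ := hd
  haveI : Small.{u} (Subtype P) := hPs
  obtain ⟨F, hF⟩ : ∃ F : Shrink.{u} (Subtype P) → E,
      ∀ s, F s = ((equivShrink (Subtype P)).symm s).1 := ⟨_, fun _ => rfl⟩
  have hD : Det (inducedFunctor F) := by
    intro X Y f hf
    apply hPd
    intro G hG h
    obtain ⟨c, rfl⟩ : ∃ c : InducedCategory E F, (inducedFunctor F).obj c = G :=
      ⟨equivShrink _ ⟨G, hG⟩, by
        show F (equivShrink _ ⟨G, hG⟩) = G
        rw [hF, Equiv.symm_apply_apply]⟩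
    exact hf c h
  haveI := faithful_Φ hD
  haveI := full_Φ hb hc hD
  haveI : (Φ (inducedFunctor F)).EssSurj := ⟨fun Y => by
    obtain ⟨X, ⟨e⟩⟩ := essSurj_aux hb hc hD Y
    exact ⟨X, ⟨e⟩⟩⟩
  haveI : (Φ (inducedFunctor F)).IsEquivalence := {}
  exact ⟨InducedCategory E F, inferInstance, J (inducedFunctor F),
    ⟨(Φ (inducedFunctor F)).asEquivalence⟩⟩

end Groth.Agent.Helper6.Gir
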