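import Mathlib
import Groth.Prelude.Def_SGA4a
import Groth.Agent.Helper6.GiraudSh
import Groth.Agent.Helper6.EffUniv
import Groth.Agent.Helper6.VKSh

/-!
# Helper6: glued topoi, part 1 (exactness properties of the comma category).
-/

set_option backward.isDefEq.respectTransparency false
set_option backward.isDefEq.respectTransparency.types false
set_option autoImplicit false
set_option linter.unusedVariables false

universe v₁ u₁ v₂ u₂ u

open CategoryTheory CategoryTheory.Limits Opposite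

namespace Groth.Agent.Helper6.Glue

section General

variable {E : Type v₁} [Category.{u₁} E] {E' : Type v₂} [Category.{u₂} E'] [HasFiniteLimits E]
  [HasFiniteLimits E'] (U : E ⥤ E') [PreservesFiniteLimits U]

theorem isEquivRel_map {R A : E} {p₁ p₂ : R ⟶ A} (hR : SGA4.IsEquivRel p₁ p₂) :
    SGA4.IsEquivRel (U.map p₁) (U.map p₂) := by
  intro T
  refine ⟨?_, ⟨?_, ?_, ?_⟩⟩
  · haveI : Mono (prod.lift p₁ p₂) := ⟨fun {Z} g g' hgg' => (hR Z).1 (by
        have h1 := congrArg (fun k => k ≫ prod.fst) hgg'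
        have h2 := congrArg (fun k => k ≫ prod.snd) hgg'
        simp only [Category.assoc, prod.lift_fst, prod.lift_snd] at h1 h2
        exact Prod.ext h1 h2)⟩
    intro f f' hff'
    have h1 : f ≫ U.map p₁ = f' ≫ U.map p₁ := congrArg Prod.fst hff'
    have h2 : f ≫ U.map p₂ = f' ≫ U.map p₂ := congrArg Prod.snd hff'
    haveI : Mono (U.map (prod.lift p₁ p₂)) := inferInstance
    rw [← cancel_mono (U.map (prod.lift p₁ p₂)), ← cancel_mono (prodComparison U A A)]
    apply Limits.prod.hom_ext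
    · simp only [Category.assoc, prodComparison_fst, ← U.map_comp, prod.lift_fst]
      exact h1
    · simp only [Category.assoc, prodComparison_snd, ← U.map_comp, prod.lift_snd]
      exact h2
  · intro a
    obtain ⟨r, hr1, hr2⟩ := (hR A).2.refl (𝟙 A)
    refine ⟨a ≫ U.map r, ?_, ?_⟩
    · rw [Category.assoc, ← U.map_comp, hr1, U.map_id, Category.comp_id]
    · rw [Category.assoc, ← U.map_comp, hr2, U.map_id, Category.comp_id]
  · rintro a b ⟨f, hf1, hf2⟩
    obtain ⟨σ, hσ1, hσ2⟩ := (hR R).2.symm ⟨𝟙 R, Category.id_comp _, Category.id_comp _⟩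
    refine ⟨f ≫ U.map σ, ?_, ?_⟩
    · rw [Category.assoc, ← U.map_comp, hσ1, hf2]
    · rw [Category.assoc, ← U.map_comp, hσ2, hf1]
  · rintro a b c' ⟨f, hf1, hf2⟩ ⟨f', hf'1, hf'2⟩
    obtain ⟨τ, hτ1, hτ2⟩ := (hR (pullback p₂ p₁)).2.trans
      ⟨pullback.fst p₂ p₁, rfl, rfl⟩ ⟨pullback.snd p₂ p₁, pullback.condition.symm, rfl⟩
    have hpb : IsPullback (U.map (pullback.fst p₂ p₁)) (U.map (pullback.snd p₂ p₁))
        (U.map p₂) (U.map p₁) := (IsPullback.of_hasPullback p₂ p₁).map U
    have hcomm : f ≫ U.map p₂ = f' ≫ U.map p₁ := hf2.trans hf'1.symm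
    refine ⟨hpb.lift f f' hcomm ≫ U.map τ, ?_, ?_⟩
    · rw [Category.assoc, ← U.map_comp, hτ1, U.map_comp, ← Category.assoc, hpb.lift_fst, hf1]
    · rw [Category.assoc, ← U.map_comp, hτ2, U.map_comp, ← Category.assoc, hpb.lift_snd, hf'2]

end General

variable {C D : Type u} [SmallCategory C] [SmallCategory D] {J : GrothendieckTopology C}
  {K : GrothendieckTopology D}

set_option synthInstance.maxHeartbeats 20000 in
noncomputable instance instHCSh {C : Type u} [SmallCategory C] {J : GrothendieckTopology C} :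
    HasColimitsOfSize.{u, u} (Sheaf J (Type u)) :=
  Sheaf.instHasColimitsOfSize

/-- pullbacks of epimorphisms of sheaves of sets are epimorphisms -/
theorem epi_of_isPullback {P X Y Z : Sheaf J (Type u)} {fst : P ⟶ X} {snd : P ⟶ Y} {f : X ⟶ Z}
    {g : Y ⟶ Z} (h : IsPullback fst snd f g) [Epi f] : Epi snd := by
  haveI hπ : Sheaf.IsLocallySurjective f := (Sheaf.isLocallySurjective_iff_epi f).2 inferInstance
  haveI : Sheaf.IsLocallySurjective snd := by
    refine ⟨fun {U} s' => ?_⟩
    have h0 := Presheaf.imageSieve_mem J f.hom (U := op U) (g.hom.app (op U) s')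
    refine J.superset_covering ?_ h0
    rintro V k ⟨t, ht⟩
    have sq : IsPullback (fst.hom.app (op V)) (snd.hom.app (op V)) (f.hom.app (op V))
        (g.hom.app (op V)) := (h.map (sheafToPresheaf J (Type u))).app (op V)
    have heq : f.hom.app (op V) t = g.hom.app (op V) (Y.obj.map k.op s') := by
      rw [ht]
      exact (NatTrans.naturality_apply g.hom k.op s').symm
    obtain ⟨z, -, hz⟩ := Types.exists_of_isPullback sq t (Y.obj.map k.op s') heq
    exact ⟨z, hz⟩
  exact (Sheaf.isLocallySurjective_iff_epi snd).1 inferInstance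

variable (ρ : Sheaf J (Type u) ⥤ Sheaf K (Type u)) [PreservesFiniteLimits ρ]

/-- the glued category -/
abbrev G := Comma (𝟭 (Sheaf K (Type u))) ρ

instance : PreservesFiniteLimits (Comma.fst (𝟭 (Sheaf K (Type u))) ρ) :=
  ⟨fun I _ _ => ⟨fun {F} => preservesLimit_of_preserves_limit_cone
    (Comma.coneOfPreservesIsLimit F (limit.isLimit _) (limit.isLimit _)) (limit.isLimit _)⟩⟩

instance : PreservesFiniteLimits (Comma.snd (𝟭 (Sheaf K (Type u))) ρ) :=
  ⟨fun I _ _ => ⟨fun {F} => preservesLimit_of_preserves_limit_cone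
    (Comma.coneOfPreservesIsLimit F (limit.isLimit _) (limit.isLimit _)) (limit.isLimit _)⟩⟩

section Components

variable {C' : Type u} [SmallCategory C'] {J' : GrothendieckTopology C'} {E : Type (u + 1)}
  [Category.{u} E] [HasFiniteLimits E] (U : E ⥤ Sheaf J' (Type u)) [PreservesFiniteLimits U]

theorem component_isPullback {R A B : E} {p₁ p₂ : R ⟶ A} (hR : SGA4.IsEquivRel p₁ p₂) {π : A ⟶ B}
    (w : p₁ ≫ π = p₂ ≫ π) (hcU : IsColimit (U.mapCocone (Cofork.ofπ π w))) :
    IsPullback (U.map p₁) (U.map p₂) (U.map π) (U.map π) ∧ Epi (U.map π) := by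
  have hU := isEquivRel_map U hR
  obtain ⟨B', π', hpb', hpo', heff'⟩ := GiraudSh.isEffectiveUniversal _ _ hU
  have hcq : IsColimit (Cofork.ofπ (U.map π) (by rw [← U.map_comp, w, U.map_comp]) :
      Cofork (U.map p₁) (U.map p₂)) := (isColimitMapCoconeCoforkEquiv U w) hcU
  have hπ' : IsColimit (Cofork.ofπ π' hpo'.w) := EffUniv.isColimitCoforkOfIsPushout hpo'
  let i : B' ≅ U.obj B := hπ'.coconePointUniqueUpToIso hcq
  have hi : π' ≫ i.hom = U.map π :=
    IsColimit.comp_coconePointUniqueUpToIso_hom hπ' hcq WalkingParallelPair.one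
  refine ⟨hpb'.of_iso (Iso.refl _) (Iso.refl _) (Iso.refl _) i (by simp) (by simp)
      (by simpa using hi) (by simpa using hi), ?_⟩
  have := epi_of_isColimit_cofork hcq
  simpa using this

noncomputable def component_coeq {A B B' : E} (π : A ⟶ B) (g : B' ⟶ B) [Epi (U.map π)] :
    IsColimit (U.mapCocone (Cofork.ofπ (pullback.snd π g)
      (pullback.condition : pullback.fst (pullback.snd π g) (pullback.snd π g) ≫ pullback.snd π g =
        pullback.snd (pullback.snd π g) (pullback.snd π g) ≫ pullback.snd π g))) := by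
  haveI : Epi (U.map (pullback.snd π g)) :=
    epi_of_isPullback ((IsPullback.of_hasPullback π g).map U)
  haveI : IsRegularEpi (U.map (pullback.snd π g)) := IsRegularEpiCategory.regularEpiOfEpi _
  have hk : IsKernelPair (U.map (pullback.snd π g))
      (U.map (pullback.fst (pullback.snd π g) (pullback.snd π g)))
      (U.map (pullback.snd (pullback.snd π g) (pullback.snd π g))) :=
    (IsPullback.of_hasPullback (pullback.snd π g) (pullback.snd π g)).map U
  exact (isColimitMapCoconeCoforkEquiv U _).symm hk.toCoequalizer'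

end Components

variable {ρ}

theorem mono_of_components {A B : G ρ} (f : A ⟶ B) [Mono f.left] [Mono f.right] : Mono f :=
  ⟨fun g h hgh => by
    refine CommaMorphism.ext ?_ ?_
    · rw [← cancel_mono f.left]
      exact congrArg CommaMorphism.left hgh
    · rw [← cancel_mono f.right]
      exact congrArg CommaMorphism.right hgh⟩

/-- an object with initial components is initial -/
def isInitialOfComponents {A : G ρ} (h₁ : IsInitial A.left) (h₂ : IsInitial A.right) :
    IsInitial A :=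
  IsInitial.ofUniqueHom (fun B => ⟨h₁.to B.left, h₂.to B.right, h₁.hom_ext _ _⟩)
    (fun B m => by
      refine CommaMorphism.ext ?_ ?_
      · exact h₁.hom_ext _ _
      · exact h₂.hom_ext _ _)

variable (ρ)

theorem hb : SGA4.HasDisjointUniversalCoproducts.{u + 1, u} (G ρ) := by
  intro ι X
  refine ⟨Cofan.mk (∐ X) (Sigma.ι X), coproductIsCoproduct X, ?_, ?_⟩
  · constructor
    · intro c hc i j hij s hs
      have hvk₁ := VKSh.isVanKampenColimit_sheaf K _ _
        (isColimitOfPreserves (Comma.fst (𝟭 (Sheaf K (Type u))) ρ) hc)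
      have hvk₂ := VKSh.isVanKampenColimit_sheaf J _ _
        (isColimitOfPreserves (Comma.snd (𝟭 (Sheaf K (Type u))) ρ) hc)
      have hp₁ := isPullback_initial_to_of_cofan_isVanKampen hvk₁ ⟨i⟩ ⟨j⟩
        (fun h => hij (congrArg Discrete.as h))
      have hp₂ := isPullback_initial_to_of_cofan_isVanKampen hvk₂ ⟨i⟩ ⟨j⟩
        (fun h => hij (congrArg Discrete.as h))
      have hs₁ := (IsPullback.of_isLimit hs).map (Comma.fst (𝟭 (Sheaf K (Type u))) ρ)
      have hs₂ := (IsPullback.of_isLimit hs).map (Comma.snd (𝟭 (Sheaf K (Type u))) ρ)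
      have e₁ : s.pt.left ≅ ⊥_ _ := hs₁.isoIsPullback _ _ hp₁
      have e₂ : s.pt.right ≅ ⊥_ _ := hs₂.isoIsPullback _ _ hp₂
      exact ⟨isInitialOfComponents (initialIsInitial.ofIso e₁.symm)
        (initialIsInitial.ofIso e₂.symm)⟩
    · intro c hc i
      have hvk₁ := VKSh.isVanKampenColimit_sheaf K _ _
        (isColimitOfPreserves (Comma.fst (𝟭 (Sheaf K (Type u))) ρ) hc)
      have hvk₂ := VKSh.isVanKampenColimit_sheaf J _ _
        (isColimitOfPreserves (Comma.snd (𝟭 (Sheaf K (Type u))) ρ) hc)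
      haveI : Mono (c.inj i).left := mono_of_cofan_isVanKampen hvk₁ ⟨i⟩
      haveI : Mono (c.inj i).right := mono_of_cofan_isVanKampen hvk₂ ⟨i⟩
      exact mono_of_components _
  · intro F' c' α f hα heq H
    have hvk₁ := VKSh.isVanKampenColimit_sheaf K _ _
      (isColimitOfPreserves (Comma.fst (𝟭 (Sheaf K (Type u))) ρ) (coproductIsCoproduct X))
    have hvk₂ := VKSh.isVanKampenColimit_sheaf J _ _
      (isColimitOfPreserves (Comma.snd (𝟭 (Sheaf K (Type u))) ρ) (coproductIsCoproduct X))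
    obtain ⟨h₁⟩ := hvk₁.isUniversal ((Comma.fst (𝟭 (Sheaf K (Type u))) ρ).mapCocone c')
      (Functor.whiskerRight α _) ((Comma.fst (𝟭 (Sheaf K (Type u))) ρ).map f) (by
        refine NatTrans.ext (funext fun j => ?_)
        have := congrArg (fun t => (Comma.fst (𝟭 (Sheaf K (Type u))) ρ).map (t.app j)) hα
        simpa using this)
      (NatTrans.Equifibered.of_discrete _)
      (fun j => (H j).map (Comma.fst (𝟭 (Sheaf K (Type u))) ρ))
    obtain ⟨h₂⟩ := hvk₂.isUniversal ((Comma.snd (𝟭 (Sheaf K (Type u))) ρ).mapCocone c')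
      (Functor.whiskerRight α _) ((Comma.snd (𝟭 (Sheaf K (Type u))) ρ).map f) (by
        refine NatTrans.ext (funext fun j => ?_)
        have := congrArg (fun t => (Comma.snd (𝟭 (Sheaf K (Type u))) ρ).map (t.app j)) hα
        simpa using this)
      (NatTrans.Equifibered.of_discrete _)
      (fun j => (H j).map (Comma.snd (𝟭 (Sheaf K (Type u))) ρ))
    exact ⟨Comma.fstSndJointlyReflectColimit h₁ h₂⟩

theorem hc (R A : G ρ) (p₁ p₂ : R ⟶ A) (hR : SGA4.IsEquivRel p₁ p₂) :
    SGA4.IsEffectiveUniversalEquivRel p₁ p₂ := by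
  have w : p₁ ≫ coequalizer.π p₁ p₂ = p₂ ≫ coequalizer.π p₁ p₂ := coequalizer.condition _ _
  have hcoeq : IsColimit (Cofork.ofπ (coequalizer.π p₁ p₂) w) := coequalizerIsCoequalizer p₁ p₂
  obtain ⟨r, hr1, hr2⟩ := (hR A).2.refl (𝟙 A)
  obtain ⟨hpb₁, hepi₁⟩ := component_isPullback (Comma.fst (𝟭 (Sheaf K (Type u))) ρ) hR w
    (isColimitOfPreserves _ hcoeq)
  obtain ⟨hpb₂, hepi₂⟩ := component_isPullback (Comma.snd (𝟭 (Sheaf K (Type u))) ρ) hR w
    (isColimitOfPreserves _ hcoeq)
  have hlim : IsLimit (PullbackCone.mk p₁ p₂ w) := Comma.fstSndJointlyReflectLimit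
    ((isLimitMapConePullbackConeEquiv (Comma.fst (𝟭 (Sheaf K (Type u))) ρ) w).symm hpb₁.isLimit)
    ((isLimitMapConePullbackConeEquiv (Comma.snd (𝟭 (Sheaf K (Type u))) ρ) w).symm hpb₂.isLimit)
  refine ⟨coequalizer p₁ p₂, coequalizer.π p₁ p₂, IsPullback.of_isLimit' ⟨w⟩ hlim,
    EffUniv.isPushout_of_isColimit_cofork (c := Cofork.ofπ (coequalizer.π p₁ p₂) w) hcoeq r hr1 hr2,
    ?_⟩
  intro B' g
  haveI := hepi₁
  haveI := hepi₂
  have hq := Comma.fstSndJointlyReflectColimit
    (component_coeq (Comma.fst (𝟭 (Sheaf K (Type u))) ρ) (coequalizer.π p₁ p₂) g)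
    (component_coeq (Comma.snd (𝟭 (Sheaf K (Type u))) ρ) (coequalizer.π p₁ p₂) g)
  rw [← isRegularEpi_iff_effectiveEpi]
  exact ⟨⟨Cofork.IsColimit.regularEpi hq⟩⟩

end Groth.Agent.Helper6.Glue
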