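import Mathlib
import Groth.Prelude.Def_SGA4a
import Groth.Agent.Helper6.Glue1
import Groth.Agent.Helper6.Gir3
import Groth.Agent.Helper2.TF2
import Groth.Agent.S3082

/-!
# Helper6: glued topoi, part 2 (a small detecting family, and the theorem).
-/

set_option backward.isDefEq.respectTransparency false
set_option backward.isDefEq.respectTransparency.types false
set_option autoImplicit false
set_option linter.unusedVariables false

universe u

open CategoryTheory CategoryTheory.Limits Opposite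
open Groth.Agent.Helper2.TF1

namespace Groth.Agent.Helper6.Glue

variable {C D : Type u} [SmallCategory C] [SmallCategory D] {J : GrothendieckTopology C}
  {K : GrothendieckTopology D} (ρ : Sheaf J (Type u) ⥤ Sheaf K (Type u))

theorem sol_loc [ρ.IsAccessible.{u}] :
    ∃ (Q : ObjectProperty (Cᵒᵖ ⥤ Type u)) (_ : ObjectProperty.Small.{u} Q),
      ∀ (X : Sheaf J (Type u)) (d : D) (σ : (ρ.obj X).obj.obj (op d)),
        ∃ S ∈ K d, ∀ ⦃d' : D⦄ (h : d' ⟶ d), S h →
          ∃ (X₀ : Cᵒᵖ ⥤ Type u) (_ : Q X₀)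
            (t₀ : (ρ.obj ((presheafToSheaf J (Type u)).obj X₀)).obj.obj (op d'))
            (m : (presheafToSheaf J (Type u)).obj X₀ ⟶ X),
            (ρ.map m).hom.app (op d') t₀ = (ρ.obj X).obj.map h.op σ := by
  obtain ⟨κ, hκ, hρ⟩ := Functor.IsAccessible.exists_cardinal (F := ρ)
  haveI := hκ
  haveI := hρ
  obtain ⟨P₀, hP₀s, hP₀⟩ := HasCardinalFilteredGenerator.exists_generator (Cᵒᵖ ⥤ Type u) κ
  haveI := hP₀s
  obtain ⟨Q, hQs, hQle, hQiso⟩ := ObjectProperty.EssentiallySmall.exists_small_le.{u} P₀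
  refine ⟨Q, hQs, ?_⟩
  intro X d σ
  obtain ⟨I, _, _, ⟨pres⟩⟩ := hP₀.exists_colimitsOfShape X.obj
  have hc1 : IsColimit ((presheafToSheaf J (Type u)).mapCocone (Cocone.mk _ pres.ι)) :=
    isColimitOfPreserves (presheafToSheaf J (Type u)) pres.isColimit
  haveI : PreservesColimitsOfShape I ρ := ρ.preservesColimitsOfShape_of_isCardinalAccessible κ I
  have hc2 : IsColimit (ρ.mapCocone
      ((presheafToSheaf J (Type u)).mapCocone (Cocone.mk _ pres.ι))) :=
    isColimitOfPreserves ρ hc1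
  obtain ⟨ε, hε⟩ : ∃ ε : (presheafToSheaf J (Type u)).obj X.obj ≅ X, True :=
    ⟨asIso ((sheafificationAdjunction J (Type u)).counit.app X), trivial⟩
  have hljs : LJS (fun i : I => ρ.obj ((presheafToSheaf J (Type u)).obj (pres.diag.obj i)))
      (fun i => ρ.map ((presheafToSheaf J (Type u)).map (pres.ι.app i))) :=
    ljs_iff_je.2 (fun Z f g hfg => hc2.hom_ext (fun i => hfg i))
  obtain ⟨S, hS, hSx⟩ := hljs d ((ρ.map ε.inv).hom.app (op d) σ)
  refine ⟨S, hS, fun d' h hh => ?_⟩
  obtain ⟨i, t, ht⟩ := hSx h hh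
  obtain ⟨X₀, hX₀, ⟨e⟩⟩ := hQiso _ (pres.prop_diag_obj i)
  refine ⟨X₀, hX₀, (ρ.map ((presheafToSheaf J (Type u)).map e.hom)).hom.app (op d') t,
    (presheafToSheaf J (Type u)).map e.inv ≫
      (presheafToSheaf J (Type u)).map (pres.ι.app i) ≫ ε.hom, ?_⟩
  have e1 : ρ.map ((presheafToSheaf J (Type u)).map e.hom) ≫
      ρ.map ((presheafToSheaf J (Type u)).map e.inv ≫
        (presheafToSheaf J (Type u)).map (pres.ι.app i) ≫ ε.hom) =
      ρ.map ((presheafToSheaf J (Type u)).map (pres.ι.app i)) ≫ ρ.map ε.hom := by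
    rw [← ρ.map_comp, ← ρ.map_comp, ← Category.assoc, ← CategoryTheory.Functor.map_comp,
      e.hom_inv_id, CategoryTheory.Functor.map_id, Category.id_comp]
  have e2 := ConcreteCategory.congr_hom (congrArg (fun k :
    ρ.obj ((presheafToSheaf J (Type u)).obj (pres.diag.obj i)) ⟶ ρ.obj X => k.hom.app (op d')) e1) t
  have e3 : (ρ.map ε.hom).hom.app (op d) ((ρ.map ε.inv).hom.app (op d) σ) = σ := by
    have e4 : ρ.map ε.inv ≫ ρ.map ε.hom = 𝟙 _ := by rw [← ρ.map_comp, ε.inv_hom_id, ρ.map_id]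
    exact ConcreteCategory.congr_hom (congrArg (fun k : ρ.obj X ⟶ ρ.obj X => k.hom.app (op d)) e4) σ
  refine e2.trans ?_
  show (ρ.map ε.hom).hom.app (op d')
    ((ρ.map ((presheafToSheaf J (Type u)).map (pres.ι.app i))).hom.app (op d') t) = _
  have ht' : (ρ.map ((presheafToSheaf J (Type u)).map (pres.ι.app i))).hom.app (op d') t =
      (ρ.obj ((presheafToSheaf J (Type u)).obj X.obj)).obj.map h.op
        ((ρ.map ε.inv).hom.app (op d) σ) := ht
  rw [ht']
  have e5 := NatTrans.naturality_apply (ρ.map ε.hom).hom h.op ((ρ.map ε.inv).hom.app (op d) σ)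
  rw [e5, e3]

open GiraudSh in
theorem elEquiv_symm_comp {A B : Sheaf K (Type u)} (d : D) (x : A.obj.obj (op d)) (g : A ⟶ B) :
    (elEquiv A d).symm x ≫ g = (elEquiv B d).symm (g.hom.app (op d) x) := by
  apply (elEquiv B d).injective
  rw [elEquiv_comp, Equiv.apply_symm_apply, Equiv.apply_symm_apply]

/-- generators of the first kind -/
noncomputable def g1 (c : C) : G ρ :=
  { left := ⊥_ (Sheaf K (Type u))
    right := (presheafToSheaf J (Type u)).obj (yoneda.obj c)
    hom := initial.to _ }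

/-- generators of the second kind -/
noncomputable def g2 (d : D) (X₀ : Cᵒᵖ ⥤ Type u)
    (t₀ : (ρ.obj ((presheafToSheaf J (Type u)).obj X₀)).obj.obj (op d)) : G ρ :=
  { left := (presheafToSheaf K (Type u)).obj (yoneda.obj d)
    right := (presheafToSheaf J (Type u)).obj X₀
    hom := (GiraudSh.elEquiv _ d).symm t₀ }

variable {ρ}

/-- morphisms out of generators of the second kind -/
noncomputable def mk2 (A : G ρ) {d : D} {X₀ : Cᵒᵖ ⥤ Type u}
    {t₀ : (ρ.obj ((presheafToSheaf J (Type u)).obj X₀)).obj.obj (op d)}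
    (y : A.left.obj.obj (op d)) (m : (presheafToSheaf J (Type u)).obj X₀ ⟶ A.right)
    (h : (ρ.map m).hom.app (op d) t₀ = A.hom.hom.app (op d) y) : g2 ρ d X₀ t₀ ⟶ A :=
  { left := (GiraudSh.elEquiv A.left d).symm y
    right := m
    w := by
      show (GiraudSh.elEquiv A.left d).symm y ≫ A.hom =
        (GiraudSh.elEquiv _ d).symm t₀ ≫ ρ.map m
      rw [elEquiv_symm_comp, elEquiv_symm_comp]
      exact congrArg _ h.symm }

theorem wsec {A B : G ρ} (f : A ⟶ B) (d : D) (y : A.left.obj.obj (op d)) :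
    (ρ.map f.right).hom.app (op d) (A.hom.hom.app (op d) y) =
      B.hom.hom.app (op d) (f.left.hom.app (op d) y) := by
  have h0 : f.left ≫ B.hom = A.hom ≫ ρ.map f.right := f.w
  have h1 := ConcreteCategory.congr_hom
    (congrArg (fun k : A.left ⟶ ρ.obj B.right => k.hom.app (op d)) h0) y
  exact h1.symm

variable (ρ)

theorem exists_detecting [PreservesFiniteLimits ρ] [ρ.IsAccessible.{u}] :
    ∃ P : ObjectProperty (G ρ), ObjectProperty.Small.{u} P ∧ P.IsDetecting := by
  obtain ⟨Q, hQs, hsol⟩ := sol_loc ρ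
  haveI := hQs
  obtain ⟨gen, hgen⟩ : ∃ gen : (C ⊕ (Σ d : D, Σ X₀ : Subtype Q,
      (ρ.obj ((presheafToSheaf J (Type u)).obj X₀.1)).obj.obj (op d))) → G ρ,
      gen = Sum.elim (g1 ρ) (fun x => g2 ρ x.1 x.2.1.1 x.2.2) := ⟨_, rfl⟩
  refine ⟨ObjectProperty.ofObj gen, inferInstance, ?_⟩
  intro A B f hf
  have hf1 : ∀ (c : C) (h : g1 ρ c ⟶ B), ∃! h' : g1 ρ c ⟶ A, h' ≫ f = h := fun c => by
    have := hf _ (ObjectProperty.ofObj_apply gen (Sum.inl c))
    rw [hgen] at this
    exact this
  have hf2 : ∀ (d : D) (X₀ : Cᵒᵖ ⥤ Type u) (hX₀ : Q X₀)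
      (t₀ : (ρ.obj ((presheafToSheaf J (Type u)).obj X₀)).obj.obj (op d))
      (h : g2 ρ d X₀ t₀ ⟶ B), ∃! h' : g2 ρ d X₀ t₀ ⟶ A, h' ≫ f = h := fun d X₀ hX₀ t₀ => by
    have := hf _ (ObjectProperty.ofObj_apply gen (Sum.inr ⟨d, ⟨X₀, hX₀⟩, t₀⟩))
    rw [hgen] at this
    exact this
  -- Step 1: the right component is an isomorphism
  haveI hb : IsIso f.right := by
    apply (Groth.Agent.S3082.result J Set.univ ?_) f.right
    · intro G' hG' s
      obtain ⟨⟨c, _⟩⟩ := hG'
      obtain ⟨h', hh', hu⟩ := hf1 c ⟨initial.to _, s, initial.hom_ext _ _⟩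
      refine ⟨h'.right, congrArg CommaMorphism.right hh', ?_⟩
      intro s' hs'
      have := hu ⟨initial.to _, s', initial.hom_ext _ _⟩
        (CommaMorphism.ext (initial.hom_ext _ _) hs')
      exact (congrArg CommaMorphism.right this)
    · intro X
      refine ⟨PUnit, fun _ => X, fun _ => 𝟙 X, ?_, fun _ => Set.mem_univ _⟩
      have : Sieve.ofArrows (fun _ : PUnit.{u + 1} => X) (fun _ => 𝟙 X) = ⊤ :=
        Sieve.id_mem_iff_eq_top.1 ⟨X, 𝟙 X, 𝟙 X, ⟨PUnit.unit⟩, Category.id_comp _⟩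
      rw [this]
      exact J.top_mem X
  have hinvb : ∀ (d : D) (x : (ρ.obj A.right).obj.obj (op d)),
      (ρ.map (inv f.right)).hom.app (op d) ((ρ.map f.right).hom.app (op d) x) = x := by
    intro d x
    have e4 : ρ.map f.right ≫ ρ.map (inv f.right) = 𝟙 _ := by
      rw [← ρ.map_comp, IsIso.hom_inv_id, ρ.map_id]
    exact ConcreteCategory.congr_hom
      (congrArg (fun k : ρ.obj A.right ⟶ ρ.obj A.right => k.hom.app (op d)) e4) x
  have hbinv : ∀ (d : D) (x : (ρ.obj B.right).obj.obj (op d)),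
      (ρ.map f.right).hom.app (op d) ((ρ.map (inv f.right)).hom.app (op d) x) = x := by
    intro d x
    have e4 : ρ.map (inv f.right) ≫ ρ.map f.right = 𝟙 _ := by
      rw [← ρ.map_comp, IsIso.inv_hom_id, ρ.map_id]
    exact ConcreteCategory.congr_hom
      (congrArg (fun k : ρ.obj B.right ⟶ ρ.obj B.right => k.hom.app (op d)) e4) x
  -- Step 2: injectivity of the left component on sections
  have inj : ∀ (d : D) (y₁ y₂ : A.left.obj.obj (op d)),
      f.left.hom.app (op d) y₁ = f.left.hom.app (op d) y₂ → y₁ = y₂ := by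
    intro d y₁ y₂ hy
    have hσ : A.hom.hom.app (op d) y₂ = A.hom.hom.app (op d) y₁ := by
      rw [← hinvb d (A.hom.hom.app (op d) y₂), ← hinvb d (A.hom.hom.app (op d) y₁), wsec, wsec, hy]
    obtain ⟨S, hS, hSx⟩ := hsol A.right d (A.hom.hom.app (op d) y₁)
    apply sheaf_sep A.left hS
    intro d' h hh
    obtain ⟨X₀, hX₀, t₀, m, hm⟩ := hSx h hh
    have k1 : (ρ.map m).hom.app (op d') t₀ = A.hom.hom.app (op d') (A.left.obj.map h.op y₁) :=
      hm.trans (NatTrans.naturality_apply A.hom.hom h.op y₁).symm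
    have k2 : (ρ.map m).hom.app (op d') t₀ = A.hom.hom.app (op d') (A.left.obj.map h.op y₂) := by
      rw [hm, ← hσ]
      exact (NatTrans.naturality_apply A.hom.hom h.op y₂).symm
    have h12 : mk2 A (A.left.obj.map h.op y₁) m k1 ≫ f = mk2 A (A.left.obj.map h.op y₂) m k2 ≫ f := by
      refine CommaMorphism.ext ?_ rfl
      show (GiraudSh.elEquiv A.left d').symm (A.left.obj.map h.op y₁) ≫ f.left =
        (GiraudSh.elEquiv A.left d').symm (A.left.obj.map h.op y₂) ≫ f.left
      rw [elEquiv_symm_comp, elEquiv_symm_comp]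
      have n1 := NatTrans.naturality_apply f.left.hom h.op y₁
      have n2 := NatTrans.naturality_apply f.left.hom h.op y₂
      rw [n1, n2, hy]
    have h3 := (hf2 d' X₀ hX₀ t₀ (mk2 A (A.left.obj.map h.op y₁) m k1 ≫ f)).unique rfl h12.symm
    have h4 : (GiraudSh.elEquiv A.left d').symm (A.left.obj.map h.op y₁) =
        (GiraudSh.elEquiv A.left d').symm (A.left.obj.map h.op y₂) :=
      congrArg CommaMorphism.left h3
    exact (GiraudSh.elEquiv A.left d').symm.injective h4
  -- Step 3: surjectivity of the left component on sections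
  have surj : ∀ (d : D) (y' : B.left.obj.obj (op d)),
      ∃ y : A.left.obj.obj (op d), f.left.hom.app (op d) y = y' := by
    intro d y'
    obtain ⟨S, hS, hSx⟩ := hsol A.right d
      ((ρ.map (inv f.right)).hom.app (op d) (B.hom.hom.app (op d) y'))
    have key : ∀ ⦃d' : D⦄ (h : d' ⟶ d), S h →
        ∃ y : A.left.obj.obj (op d'), f.left.hom.app (op d') y = B.left.obj.map h.op y' := by
      intro d' h hh
      obtain ⟨X₀, hX₀, t₀, m, hm⟩ := hSx h hh
      have kB : (ρ.map (m ≫ f.right)).hom.app (op d') t₀ =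
          B.hom.hom.app (op d') (B.left.obj.map h.op y') := by
        have e1 : (ρ.map (m ≫ f.right)).hom.app (op d') t₀ =
            (ρ.map f.right).hom.app (op d') ((ρ.map m).hom.app (op d') t₀) := by
          rw [ρ.map_comp]
          rfl
        rw [e1, hm]
        have n1 := NatTrans.naturality_apply (ρ.map f.right).hom h.op
          ((ρ.map (inv f.right)).hom.app (op d) (B.hom.hom.app (op d) y'))
        rw [n1, hbinv]
        exact (NatTrans.naturality_apply B.hom.hom h.op y').symm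
      obtain ⟨h', hh', -⟩ := hf2 d' X₀ hX₀ t₀ (mk2 B (B.left.obj.map h.op y') (m ≫ f.right) kB)
      refine ⟨GiraudSh.elEquiv A.left d' h'.left, ?_⟩
      rw [← GiraudSh.elEquiv_comp]
      have h5 : h'.left ≫ f.left = (GiraudSh.elEquiv B.left d').symm (B.left.obj.map h.op y') :=
        congrArg CommaMorphism.left hh'
      rw [h5, Equiv.apply_symm_apply]
    have hsh := (isSheaf_iff_isSheaf_of_type _ _).1 A.left.property
    obtain ⟨x, hx⟩ : ∃ x : Presieve.FamilyOfElements A.left.obj S.arrows,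
        ∀ ⦃d' : D⦄ (h : d' ⟶ d) (hh : S.arrows h),
          f.left.hom.app (op d') (x h hh) = B.left.obj.map h.op y' :=
      ⟨fun d' h hh => (key h hh).choose, fun d' h hh => (key h hh).choose_spec⟩
    have hcomp : x.Compatible := by
      rw [Presieve.compatible_iff_sieveCompatible]
      intro d' d'' h k hh
      apply inj
      rw [hx]
      have n1 := NatTrans.naturality_apply f.left.hom k.op (x h hh)
      rw [n1, hx, op_comp, Functor.map_comp_apply]
    refine ⟨(hsh S hS).amalgamate x hcomp, ?_⟩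
    apply sheaf_sep B.left hS
    intro d' h hh
    have n1 := NatTrans.naturality_apply f.left.hom h.op ((hsh S hS).amalgamate x hcomp)
    rw [← n1, (hsh S hS).valid_glue hcomp h hh, hx]
  -- Step 4: assemble
  haveI : IsIso f.left := by
    haveI : IsIso ((sheafToPresheaf K (Type u)).map f.left) := by
      rw [NatTrans.isIso_iff_isIso_app]
      rintro ⟨d⟩
      rw [isIso_iff_bijective]
      exact ⟨fun y₁ y₂ h => inj d y₁ y₂ h, fun y' => surj d y'⟩
    exact isIso_of_reflects_iso f.left (sheafToPresheaf K (Type u))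
  have hfeq : f = (Comma.isoMk (asIso f.left) (asIso f.right) f.w).hom :=
    CommaMorphism.ext rfl rfl
  rw [hfeq]
  infer_instance

/-- the glued category is a topos -/
theorem main [PreservesFiniteLimits ρ] [ρ.IsAccessible.{u}] :
    SGA4.IsTopos.{u + 1, u} (Comma (𝟭 (Sheaf K (Type u))) ρ) :=
  Gir.main (hb ρ) (hc ρ) (exists_detecting ρ)

end Groth.Agent.Helper6.Glue
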