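import Mathlib

/-! Gluing along generic fibre and a faithfully flat cover: `B = (K ⊗ B) ∩ (A ⊗ B)`. -/

set_option autoImplicit false
universe u

open TensorProduct

namespace Groth.Agent.Helper6.GlueKA

variable (R : Type u) [CommRing R] [IsDomain R] (K : Type u) [Field K] [Algebra R K] [IsFractionRing R K]
  (A : Type u) [CommRing A] [Algebra R A] [Module.FaithfullyFlat R A]
  (B : Type u) [CommRing B] [Algebra R B] [Module.Flat R B]

theorem exists_denominator (x : K ⊗[R] B) :
    ∃ s : R, s ≠ 0 ∧ ∃ c : B, s • x = (1 : K) ⊗ₜ[R] c := by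
  induction x using TensorProduct.induction_on with
  | zero => exact ⟨1, one_ne_zero, 0, by simp⟩
  | tmul k b =>
    obtain ⟨r, s, hs, rfl⟩ := IsFractionRing.div_surjective (A := R) k
    have hs0 : s ≠ 0 := nonZeroDivisors.ne_zero hs
    have hsK : algebraMap R K s ≠ 0 := by
      intro h
      exact hs0 ((IsFractionRing.injective R K) (by rw [h, map_zero]))
    refine ⟨s, hs0, r • b, ?_⟩
    rw [TensorProduct.smul_tmul', Algebra.smul_def, mul_div_cancel₀ _ hsK,
      ← TensorProduct.smul_tmul, Algebra.smul_def, mul_one]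
  | add x y hx hy =>
    obtain ⟨s, hs, c, hc⟩ := hx
    obtain ⟨t, ht, d, hd⟩ := hy
    refine ⟨s * t, mul_ne_zero hs ht, t • c + s • d, ?_⟩
    rw [smul_add, mul_smul, mul_smul, smul_comm s t x, hc, hd, TensorProduct.tmul_add,
      TensorProduct.tmul_smul, TensorProduct.tmul_smul]


omit [IsDomain R] in
theorem map_id_eq_rTensor {A₁ A₂ : Type u} [CommRing A₁] [CommRing A₂] [Algebra R A₁] [Algebra R A₂]
    (f : A₁ →ₐ[R] A₂) (z : A₁ ⊗[R] B) :
    Algebra.TensorProduct.map f (AlgHom.id R B) z = LinearMap.rTensor B f.toLinearMap z := by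
  induction z using TensorProduct.induction_on with
  | zero => simp
  | tmul a b => simp
  | add x y hx hy => simp only [map_add, hx, hy]

theorem jA_injective :
    Function.Injective (Algebra.TensorProduct.map
      (Algebra.TensorProduct.includeRight : A →ₐ[R] K ⊗[R] A) (AlgHom.id R B)) := by
  have hinj : Function.Injective (Algebra.TensorProduct.includeRight : A →ₐ[R] K ⊗[R] A) :=
    Algebra.TensorProduct.includeRight_injective (IsFractionRing.injective R K)
  have := Module.Flat.rTensor_preserves_injective_linearMap (M := B)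
    (Algebra.TensorProduct.includeRight : A →ₐ[R] K ⊗[R] A).toLinearMap hinj
  intro z w hzw
  rw [map_id_eq_rTensor, map_id_eq_rTensor] at hzw
  exact this hzw

theorem mk_injective : Function.Injective (fun c : B => (1 : K) ⊗ₜ[R] c) := by
  have := Module.Flat.tensorProduct_mk_injective R B K
  exact this

/-- if `1 ⊗ c = s • y` in `A ⊗ B` with `A` faithfully flat then `c ∈ s B`. -/
theorem exists_eq_smul_of_tmul_eq_smul (s : R) (c : B) (y : A ⊗[R] B)
    (h : (1 : A) ⊗ₜ[R] c = s • y) : ∃ c₀ : B, c = s • c₀ := by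
  let N : Submodule R B := LinearMap.range (LinearMap.lsmul R B s)
  have hkill : ∀ z : A ⊗[R] (B ⧸ N), s • z = 0 := by
    intro z
    induction z using TensorProduct.induction_on with
    | zero => simp
    | tmul a n =>
      rw [← TensorProduct.tmul_smul]
      obtain ⟨b, rfl⟩ := Submodule.Quotient.mk_surjective N n
      rw [← Submodule.Quotient.mk_smul, (Submodule.Quotient.mk_eq_zero N).2 (⟨b, rfl⟩ : s • b ∈ N),
        TensorProduct.tmul_zero]
    | add x y hx hy => rw [smul_add, hx, hy, add_zero]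
  have h1 : (1 : A) ⊗ₜ[R] (N.mkQ c) = 0 := by
    have : LinearMap.lTensor A N.mkQ ((1 : A) ⊗ₜ[R] c) = LinearMap.lTensor A N.mkQ (s • y) := by
      rw [h]
    rw [LinearMap.lTensor_tmul, map_smul, hkill] at this
    exact this
  have h2 : N.mkQ c = 0 :=
    Module.FaithfullyFlat.tensorProduct_mk_injective (A := R) (B := A) (B ⧸ N)
      (by simpa using h1)
  rw [Submodule.mkQ_apply, Submodule.Quotient.mk_eq_zero] at h2
  obtain ⟨c₀, hc₀⟩ := h2
  exact ⟨c₀, hc₀.symm⟩

theorem key (x : K ⊗[R] B) (y : A ⊗[R] B)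
    (h : Algebra.TensorProduct.map (Algebra.TensorProduct.includeLeft : K →ₐ[R] K ⊗[R] A)
          (AlgHom.id R B) x =
        Algebra.TensorProduct.map (Algebra.TensorProduct.includeRight : A →ₐ[R] K ⊗[R] A)
          (AlgHom.id R B) y) :
    ∃ c : B, x = (1 : K) ⊗ₜ[R] c ∧ y = (1 : A) ⊗ₜ[R] c := by
  obtain ⟨s, hs, c', hc'⟩ := exists_denominator R K B x
  -- s • y = 1 ⊗ c'
  have hy : s • y = (1 : A) ⊗ₜ[R] c' := by
    apply jA_injective R K A B
    rw [map_smul, ← h, ← map_smul, hc']
    simp
  obtain ⟨c, rfl⟩ := exists_eq_smul_of_tmul_eq_smul R A B s c' y hy.symm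
  have hsK : algebraMap R K s ≠ 0 := by
    intro h0
    exact hs ((IsFractionRing.injective R K) (by rw [h0, map_zero]))
  refine ⟨c, ?_, ?_⟩
  · -- x = 1 ⊗ c
    rw [TensorProduct.tmul_smul] at hc'
    have h1 : (algebraMap R K s) • x = (algebraMap R K s) • ((1 : K) ⊗ₜ[R] c) := by
      rw [algebraMap_smul, algebraMap_smul]; exact hc'
    exact smul_right_injective _ hsK h1
  · -- y = 1 ⊗ c : torsion-freeness of A ⊗ B
    rw [TensorProduct.tmul_smul] at hy
    have hflat : Module.Flat R (A ⊗[R] B) := inferInstance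
    have : s • (y - (1 : A) ⊗ₜ[R] c) = 0 := by rw [smul_sub, hy, sub_self]
    have htf : Module.IsTorsionFree R (A ⊗[R] B) := inferInstance
    have := (smul_eq_zero_iff_right hs).1 this
    exact sub_eq_zero.1 this

end Groth.Agent.Helper6.GlueKA
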