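import Mathlib
import Groth.Agent.Helper6.GaChar

set_option autoImplicit false
set_option backward.isDefEq.respectTransparency false
set_option backward.isDefEq.respectTransparency.types false

namespace Groth.Agent.Helper6.Laz

open Finset

variable {R : Type*} [CommRing R]

/-- coefficient of `X₀^i X₁^j` -/
noncomputable def co (F : MvPolynomial (Fin 2) R) (i j : ℕ) : R :=
  MvPolynomial.coeff (Finsupp.single 0 i + Finsupp.single 1 j) F

lemma fin2_decomp (m : Fin 2 →₀ ℕ) : m = Finsupp.single 0 (m 0) + Finsupp.single 1 (m 1) := by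
  ext i
  fin_cases i <;> simp

lemma ext2 {F G : MvPolynomial (Fin 2) R} (h : ∀ i j, co F i j = co G i j) : F = G := by
  refine MvPolynomial.ext _ _ fun m => ?_
  rw [fin2_decomp m]
  exact h _ _

lemma co_add (F G : MvPolynomial (Fin 2) R) (i j : ℕ) :
    co (F + G) i j = co F i j + co G i j := MvPolynomial.coeff_add _ _ _

lemma co_sub (F G : MvPolynomial (Fin 2) R) (i j : ℕ) :
    co (F - G) i j = co F i j - co G i j := by
  unfold co; rw [MvPolynomial.coeff_sub]

lemma co_neg (F : MvPolynomial (Fin 2) R) (i j : ℕ) :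
    co (-F) i j = -co F i j := by
  unfold co; rw [MvPolynomial.coeff_neg]

lemma co_zero (i j : ℕ) : co (0 : MvPolynomial (Fin 2) R) i j = 0 := MvPolynomial.coeff_zero _

lemma co_C_mul (r : R) (F : MvPolynomial (Fin 2) R) (i j : ℕ) :
    co (MvPolynomial.C r * F) i j = r * co F i j := MvPolynomial.coeff_C_mul _ _ _

lemma co_sum {ι : Type*} (s : Finset ι) (f : ι → MvPolynomial (Fin 2) R) (i j : ℕ) :
    co (∑ x ∈ s, f x) i j = ∑ x ∈ s, co (f x) i j := MvPolynomial.coeff_sum _ _ _

lemma mono_eq (a b : ℕ) (r : R) :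
    MvPolynomial.monomial (Finsupp.single (0 : Fin 2) a + Finsupp.single 1 b) r =
      MvPolynomial.C r * MvPolynomial.X 0 ^ a * MvPolynomial.X 1 ^ b := by
  rw [MvPolynomial.X_pow_eq_monomial, MvPolynomial.X_pow_eq_monomial, MvPolynomial.C_mul_monomial,
    MvPolynomial.monomial_mul, mul_one, mul_one]

lemma co_monomial (a b : ℕ) (r : R) (i j : ℕ) :
    co (MvPolynomial.monomial (Finsupp.single 0 a + Finsupp.single 1 b) r) i j =
      if a = i ∧ b = j then r else 0 := by
  unfold co
  rw [MvPolynomial.coeff_monomial]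
  simp only [GaChar.single_add_single_eq]

lemma co_X_pow_mul (a b i j : ℕ) :
    co (MvPolynomial.X 0 ^ a * MvPolynomial.X 1 ^ b : MvPolynomial (Fin 2) R) i j =
      if a = i ∧ b = j then 1 else 0 := by
  have := co_monomial (R := R) a b 1 i j
  rwa [mono_eq, MvPolynomial.C_1, one_mul] at this

lemma ind2 {motive : MvPolynomial (Fin 2) R → Prop} (F : MvPolynomial (Fin 2) R)
    (hm : ∀ a b r, motive (MvPolynomial.monomial (Finsupp.single 0 a + Finsupp.single 1 b) r))
    (ha : ∀ p q, motive p → motive q → motive (p + q)) : motive F := by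
  induction F using MvPolynomial.induction_on' with
  | monomial u r => rw [fin2_decomp u]; exact hm _ _ _
  | add p q hp hq => exact ha p q hp hq

lemma aeval_mono {B : Type*} [CommRing B] [Algebra R B] (x y : B) (a b : ℕ) (r : R) :
    MvPolynomial.aeval ![x, y]
        (MvPolynomial.monomial (Finsupp.single 0 a + Finsupp.single 1 b) r) =
      algebraMap R B r * x ^ a * y ^ b := by
  rw [mono_eq, map_mul, map_mul, map_pow, map_pow, MvPolynomial.aeval_X, MvPolynomial.aeval_X,
    MvPolynomial.aeval_C]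
  rfl

/-- swapping the variables swaps the coefficients -/
lemma co_sw (F : MvPolynomial (Fin 2) R) (i j : ℕ) :
    co (MvPolynomial.aeval ![(MvPolynomial.X 1 : MvPolynomial (Fin 2) R), MvPolynomial.X 0] F) i j =
      co F j i := by
  refine ind2 (motive := fun F => co (MvPolynomial.aeval
    ![(MvPolynomial.X 1 : MvPolynomial (Fin 2) R), MvPolynomial.X 0] F) i j = co F j i) F
    (fun a b r => ?_) (fun p q hp hq => ?_)
  · rw [aeval_mono, MvPolynomial.algebraMap_eq, mul_assoc, mul_comm (MvPolynomial.X 1 ^ a),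
      ← mul_assoc, ← mono_eq, co_monomial, co_monomial]
    by_cases h : b = i ∧ a = j
    · rw [if_pos h, if_pos ⟨h.2, h.1⟩]
    · rw [if_neg h, if_neg (fun h' => h ⟨h'.2, h'.1⟩)]
  · rw [map_add, co_add, co_add, hp, hq]

section Q

open Polynomial in
lemma t1 (F : MvPolynomial (Fin 2) R) (k j l : ℕ) :
    co ((MvPolynomial.aeval ![(Polynomial.X : Polynomial (MvPolynomial (Fin 2) R)),
        Polynomial.C (MvPolynomial.X 0 + MvPolynomial.X 1)] F).coeff k) j l =
      (((j + l).choose j : ℕ) : R) * co F k (j + l) := by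
  refine ind2 (motive := fun F => co ((MvPolynomial.aeval
    ![(Polynomial.X : Polynomial (MvPolynomial (Fin 2) R)),
        Polynomial.C (MvPolynomial.X 0 + MvPolynomial.X 1)] F).coeff k) j l =
      (((j + l).choose j : ℕ) : R) * co F k (j + l)) F (fun a b r => ?_) (fun p q hp hq => ?_)
  · rw [aeval_mono, Polynomial.algebraMap_apply, MvPolynomial.algebraMap_eq, ← Polynomial.C_pow,
      mul_assoc, Polynomial.coeff_C_mul, Polynomial.coeff_mul_C, Polynomial.coeff_X_pow,
      co_C_mul, co_monomial]
    by_cases h1 : k = a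
    · subst h1
      rw [if_pos rfl, one_mul]
      unfold co
      rw [GaChar.coeff_add_pow]
      by_cases h2 : b = j + l
      · subst h2
        rw [if_pos rfl, if_pos ⟨rfl, rfl⟩, mul_comm]
      · rw [if_neg h2, if_neg (fun h => h2 h.2), mul_zero, mul_zero]
    · rw [if_neg h1, zero_mul, if_neg (fun h => h1 h.1.symm), co_zero, mul_zero, mul_zero]
  · rw [map_add, Polynomial.coeff_add, co_add, co_add, hp, hq, mul_add]

lemma t4 (F : MvPolynomial (Fin 2) R) (k j l : ℕ) :
    co ((MvPolynomial.aeval ![(Polynomial.X : Polynomial (MvPolynomial (Fin 2) R)),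
        Polynomial.C (MvPolynomial.X 0)] F).coeff k) j l =
      if l = 0 then co F k j else 0 := by
  refine ind2 (motive := fun F => co ((MvPolynomial.aeval
    ![(Polynomial.X : Polynomial (MvPolynomial (Fin 2) R)),
        Polynomial.C (MvPolynomial.X 0)] F).coeff k) j l =
      if l = 0 then co F k j else 0) F (fun a b r => ?_) (fun p q hp hq => ?_)
  · rw [aeval_mono, Polynomial.algebraMap_apply, MvPolynomial.algebraMap_eq, ← Polynomial.C_pow,
      mul_assoc, Polynomial.coeff_C_mul, Polynomial.coeff_mul_C, Polynomial.coeff_X_pow,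
      co_C_mul, co_monomial]
    have hX : (MvPolynomial.X 0 ^ b : MvPolynomial (Fin 2) R) =
        MvPolynomial.X 0 ^ b * MvPolynomial.X 1 ^ 0 := by rw [pow_zero, mul_one]
    by_cases h1 : k = a
    · subst h1
      rw [if_pos rfl, one_mul, hX, co_X_pow_mul]
      by_cases hl : l = 0
      · subst hl
        rw [if_pos rfl]
        by_cases hb : b = j
        · rw [if_pos (⟨hb, rfl⟩ : b = j ∧ 0 = 0), if_pos (⟨rfl, hb⟩ : k = k ∧ b = j), mul_one]
        · rw [if_neg (fun (h : b = j ∧ 0 = 0) => hb h.1),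
            if_neg (fun (h : k = k ∧ b = j) => hb h.2), mul_zero]
      · rw [if_neg hl, if_neg (fun (h : b = j ∧ 0 = l) => hl h.2.symm), mul_zero]
    · rw [if_neg h1, zero_mul, co_zero, mul_zero,
        if_neg (fun (h : a = k ∧ b = j) => h1 h.1.symm)]
      split_ifs <;> rfl
  · rw [map_add, Polynomial.coeff_add, co_add, hp, hq]
    split_ifs
    · rw [co_add]
    · rw [add_zero]

lemma t2 (F : MvPolynomial (Fin 2) R) (k j l : ℕ) :
    co ((MvPolynomial.aeval ![(Polynomial.C (MvPolynomial.X 0) :
        Polynomial (MvPolynomial (Fin 2) R)), Polynomial.C (MvPolynomial.X 1)] F).coeff k) j l =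
      if k = 0 then co F j l else 0 := by
  refine ind2 (motive := fun F => co ((MvPolynomial.aeval ![(Polynomial.C (MvPolynomial.X 0) :
        Polynomial (MvPolynomial (Fin 2) R)), Polynomial.C (MvPolynomial.X 1)] F).coeff k) j l =
      if k = 0 then co F j l else 0) F (fun a b r => ?_) (fun p q hp hq => ?_)
  · rw [aeval_mono, Polynomial.algebraMap_apply, MvPolynomial.algebraMap_eq, ← Polynomial.C_pow,
      ← Polynomial.C_pow, ← Polynomial.C_mul, ← Polynomial.C_mul, Polynomial.coeff_C, ← mono_eq]
    split_ifs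
    · rfl
    · rw [co_zero]
  · rw [map_add, Polynomial.coeff_add, co_add, hp, hq]
    split_ifs
    · rw [co_add]
    · rw [add_zero]

lemma t3 (F : MvPolynomial (Fin 2) R) (k j l : ℕ) :
    co ((MvPolynomial.aeval ![(Polynomial.X + Polynomial.C (MvPolynomial.X 0) :
        Polynomial (MvPolynomial (Fin 2) R)), Polynomial.C (MvPolynomial.X 1)] F).coeff k) j l =
      (((j + k).choose k : ℕ) : R) * co F (j + k) l := by
  refine ind2 (motive := fun F => co ((MvPolynomial.aeval ![(Polynomial.X +
      Polynomial.C (MvPolynomial.X 0) : Polynomial (MvPolynomial (Fin 2) R)),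
      Polynomial.C (MvPolynomial.X 1)] F).coeff k) j l =
      (((j + k).choose k : ℕ) : R) * co F (j + k) l) F (fun a b r => ?_) (fun p q hp hq => ?_)
  · rw [aeval_mono, Polynomial.algebraMap_apply, MvPolynomial.algebraMap_eq, ← Polynomial.C_pow,
      mul_assoc, Polynomial.coeff_C_mul, Polynomial.coeff_mul_C, Polynomial.coeff_X_add_C_pow,
      co_monomial]
    have e : (MvPolynomial.C r : MvPolynomial (Fin 2) R) *
        (MvPolynomial.X 0 ^ (a - k) * ((a.choose k : ℕ) : MvPolynomial (Fin 2) R) *
          MvPolynomial.X 1 ^ b) =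
        MvPolynomial.C (r * ((a.choose k : ℕ) : R)) *
          (MvPolynomial.X 0 ^ (a - k) * MvPolynomial.X 1 ^ b) := by
      rw [map_mul, map_natCast]
      ring
    rw [e, co_C_mul, co_X_pow_mul]
    by_cases hb : b = l
    · by_cases ha : a = j + k
      · subst ha hb
        rw [if_pos (⟨by omega, rfl⟩ : j + k - k = j ∧ b = b),
          if_pos (⟨rfl, rfl⟩ : j + k = j + k ∧ b = b), mul_one, mul_comm]
      · rw [if_neg (fun (h : a = j + k ∧ b = l) => ha h.1), mul_zero]
        by_cases h3 : a - k = j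
        · have hak : a < k := by omega
          rw [Nat.choose_eq_zero_of_lt hak, Nat.cast_zero, mul_zero, zero_mul]
        · rw [if_neg (fun (h : a - k = j ∧ b = l) => h3 h.1), mul_zero]
    · rw [if_neg (fun (h : a - k = j ∧ b = l) => hb h.2),
        if_neg (fun (h : a = j + k ∧ b = l) => hb h.2), mul_zero, mul_zero]
  · rw [map_add, Polynomial.coeff_add, co_add, co_add, hp, hq, mul_add]

end Q

/-- the cocycle operator -/
noncomputable def PhiL : MvPolynomial (Fin 2) R →ₗ[R] MvPolynomial (Fin 3) R :=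
  (MvPolynomial.aeval ![(MvPolynomial.X 0 : MvPolynomial (Fin 3) R),
      MvPolynomial.X 1 + MvPolynomial.X 2]).toLinearMap
    + (MvPolynomial.aeval ![(MvPolynomial.X 1 : MvPolynomial (Fin 3) R),
      MvPolynomial.X 2]).toLinearMap
    - (MvPolynomial.aeval ![(MvPolynomial.X 0 + MvPolynomial.X 1 : MvPolynomial (Fin 3) R),
      MvPolynomial.X 2]).toLinearMap
    - (MvPolynomial.aeval ![(MvPolynomial.X 0 : MvPolynomial (Fin 3) R),
      MvPolynomial.X 1]).toLinearMap

lemma PhiL_apply (F : MvPolynomial (Fin 2) R) :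
    PhiL F = MvPolynomial.aeval ![(MvPolynomial.X 0 : MvPolynomial (Fin 3) R),
      MvPolynomial.X 1 + MvPolynomial.X 2] F
    + MvPolynomial.aeval ![(MvPolynomial.X 1 : MvPolynomial (Fin 3) R), MvPolynomial.X 2] F
    - MvPolynomial.aeval ![(MvPolynomial.X 0 + MvPolynomial.X 1 : MvPolynomial (Fin 3) R),
      MvPolynomial.X 2] F
    - MvPolynomial.aeval ![(MvPolynomial.X 0 : MvPolynomial (Fin 3) R), MvPolynomial.X 1] F :=
  rfl

noncomputable def theta : MvPolynomial (Fin 3) R →ₐ[R] Polynomial (MvPolynomial (Fin 2) R) :=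
  MvPolynomial.aeval ![Polynomial.X, Polynomial.C (MvPolynomial.X 0),
    Polynomial.C (MvPolynomial.X 1)]

lemma theta_aeval (g : Fin 2 → MvPolynomial (Fin 3) R) (F : MvPolynomial (Fin 2) R) :
    theta (MvPolynomial.aeval g F) = MvPolynomial.aeval (fun i => theta (g i)) F :=
  DFunLike.congr_fun (MvPolynomial.comp_aeval (R := R) (f := g) theta) F

lemma theta_PhiL (F : MvPolynomial (Fin 2) R) :
    theta (PhiL F) =
      MvPolynomial.aeval ![(Polynomial.X : Polynomial (MvPolynomial (Fin 2) R)),
        Polynomial.C (MvPolynomial.X 0 + MvPolynomial.X 1)] F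
      + MvPolynomial.aeval ![(Polynomial.C (MvPolynomial.X 0) :
        Polynomial (MvPolynomial (Fin 2) R)), Polynomial.C (MvPolynomial.X 1)] F
      - MvPolynomial.aeval ![(Polynomial.X + Polynomial.C (MvPolynomial.X 0) :
        Polynomial (MvPolynomial (Fin 2) R)), Polynomial.C (MvPolynomial.X 1)] F
      - MvPolynomial.aeval ![(Polynomial.X : Polynomial (MvPolynomial (Fin 2) R)),
        Polynomial.C (MvPolynomial.X 0)] F := by
  have e1 : (fun i => theta (![(MvPolynomial.X 0 : MvPolynomial (Fin 3) R),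
      MvPolynomial.X 1 + MvPolynomial.X 2] i)) =
      ![(Polynomial.X : Polynomial (MvPolynomial (Fin 2) R)),
        Polynomial.C (MvPolynomial.X 0 + MvPolynomial.X 1)] := by
    funext i; fin_cases i <;> simp [theta]
  have e2 : (fun i => theta (![(MvPolynomial.X 1 : MvPolynomial (Fin 3) R),
      MvPolynomial.X 2] i)) =
      ![(Polynomial.C (MvPolynomial.X 0) : Polynomial (MvPolynomial (Fin 2) R)),
        Polynomial.C (MvPolynomial.X 1)] := by
    funext i; fin_cases i <;> simp [theta]
  have e3 : (fun i => theta (![(MvPolynomial.X 0 + MvPolynomial.X 1 : MvPolynomial (Fin 3) R),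
      MvPolynomial.X 2] i)) =
      ![(Polynomial.X + Polynomial.C (MvPolynomial.X 0) :
        Polynomial (MvPolynomial (Fin 2) R)), Polynomial.C (MvPolynomial.X 1)] := by
    funext i; fin_cases i <;> simp [theta]
  have e4 : (fun i => theta (![(MvPolynomial.X 0 : MvPolynomial (Fin 3) R),
      MvPolynomial.X 1] i)) =
      ![(Polynomial.X : Polynomial (MvPolynomial (Fin 2) R)),
        Polynomial.C (MvPolynomial.X 0)] := by
    funext i; fin_cases i <;> simp [theta]
  rw [PhiL_apply, map_sub, map_sub, map_add, theta_aeval, theta_aeval, theta_aeval, theta_aeval,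
    e1, e2, e3, e4]

/-- all coefficient equations of the cocycle identity -/
lemma coc {F : MvPolynomial (Fin 2) R} (h : PhiL F = 0) (k j l : ℕ) :
    (((j + l).choose j : ℕ) : R) * co F k (j + l) + (if k = 0 then co F j l else 0)
      - (((j + k).choose k : ℕ) : R) * co F (j + k) l - (if l = 0 then co F k j else 0) = 0 := by
  have h2 := congrArg (fun q => co (Polynomial.coeff q k) j l) (theta_PhiL F)
  rw [h, map_zero, Polynomial.coeff_zero, co_zero, Polynomial.coeff_sub, Polynomial.coeff_sub,
    Polynomial.coeff_add, co_sub, co_sub, co_add, t1, t2, t3, t4] at h2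
  exact h2.symm

lemma coc_row0 {F : MvPolynomial (Fin 2) R} (h : PhiL F = 0) (l : ℕ) (hl : 1 ≤ l) :
    co F 0 l = 0 := by
  have := coc h 0 0 l
  rw [zero_add, Nat.choose_zero_right, Nat.cast_one, one_mul, if_pos rfl, add_zero,
    Nat.choose_zero_right, Nat.cast_one, one_mul, if_neg (by omega)] at this
  linear_combination this

lemma coc_row1 {F : MvPolynomial (Fin 2) R} (h : PhiL F = 0) (j l : ℕ) (hl : 1 ≤ l) :
    ((j + 1 : ℕ) : R) * co F (j + 1) l = (((j + l).choose j : ℕ) : R) * co F 1 (j + l) := by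
  have := coc h 1 j l
  rw [if_neg one_ne_zero, add_zero, Nat.choose_one_right, if_neg (by omega), sub_zero,
    sub_eq_zero] at this
  exact this.symm

end Groth.Agent.Helper6.Laz
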