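import Mathlib
import Groth.Agent.Helper6.Laz1

set_option autoImplicit false
set_option backward.isDefEq.respectTransparency false
set_option backward.isDefEq.respectTransparency.types false

namespace Groth.Agent.Helper6.Laz

open Finset

variable {R : Type*} [CommRing R]

/-- additive coboundary of a one-variable polynomial -/
noncomputable def dl (G : Polynomial R) : MvPolynomial (Fin 2) R :=
  Polynomial.aeval (MvPolynomial.X 0 + MvPolynomial.X 1 : MvPolynomial (Fin 2) R) G
    - Polynomial.aeval (MvPolynomial.X 0 : MvPolynomial (Fin 2) R) G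
    - Polynomial.aeval (MvPolynomial.X 1 : MvPolynomial (Fin 2) R) G

/-- the polynomial `((X+Y)^p - X^p - Y^p)/p` -/
noncomputable def Cp (p : ℕ) (R : Type*) [CommRing R] : MvPolynomial (Fin 2) R :=
  ∑ j ∈ Finset.Ioo 0 p, MvPolynomial.C ((p.choose j / p : ℕ) : R) * MvPolynomial.X 0 ^ j *
    MvPolynomial.X 1 ^ (p - j)

lemma dl_add (G H : Polynomial R) : dl (G + H) = dl G + dl H := by
  unfold dl
  rw [map_add, map_add, map_add]
  ring

lemma co_aeval_X0 (G : Polynomial R) (i j : ℕ) :
    co (Polynomial.aeval (MvPolynomial.X 0 : MvPolynomial (Fin 2) R) G) i j =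
      if j = 0 then G.coeff i else 0 := by
  have := GaChar.coeff_aeval_mul G (1 : Polynomial R) i j
  rw [map_one, mul_one, Polynomial.coeff_one] at this
  unfold co
  rw [this]
  split_ifs <;> simp

lemma co_aeval_X1 (G : Polynomial R) (i j : ℕ) :
    co (Polynomial.aeval (MvPolynomial.X 1 : MvPolynomial (Fin 2) R) G) i j =
      if i = 0 then G.coeff j else 0 := by
  have := GaChar.coeff_aeval_mul (1 : Polynomial R) G i j
  rw [map_one, one_mul, Polynomial.coeff_one] at this
  unfold co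
  rw [this]
  split_ifs <;> simp

lemma co_dl (G : Polynomial R) (i j : ℕ) :
    co (dl G) i j = (((i + j).choose i : ℕ) : R) * G.coeff (i + j)
      - (if j = 0 then G.coeff i else 0) - (if i = 0 then G.coeff j else 0) := by
  unfold dl
  rw [co_sub, co_sub, co_aeval_X0, co_aeval_X1]
  congr 2
  exact GaChar.coeff_aeval_add G i j

/-- coefficients of `Cp` -/
def cpco (p : ℕ) (R : Type*) [CommRing R] (i j : ℕ) : R :=
  if 0 < i ∧ i < p ∧ i + j = p then ((p.choose i / p : ℕ) : R) else 0

lemma co_Cp (p : ℕ) (i l : ℕ) : co (Cp p R) i l = cpco p R i l := by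
  unfold Cp cpco
  rw [co_sum]
  have key : ∀ j ∈ Ioo 0 p, co (MvPolynomial.C ((p.choose j / p : ℕ) : R) * MvPolynomial.X 0 ^ j *
      MvPolynomial.X 1 ^ (p - j)) i l =
      if j = i then (if p - i = l then ((p.choose i / p : ℕ) : R) else 0) else 0 := by
    intro j _
    rw [← mono_eq, co_monomial]
    by_cases h1 : j = i
    · subst h1
      rw [if_pos rfl]
      by_cases h2 : p - j = l
      · rw [if_pos h2, if_pos ⟨rfl, h2⟩]
      · rw [if_neg h2, if_neg (fun h => h2 h.2)]
    · rw [if_neg h1, if_neg (fun h => h1 h.1)]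
  rw [Finset.sum_congr rfl key, Finset.sum_ite_eq']
  by_cases h : 0 < i ∧ i < p ∧ i + l = p
  · rw [if_pos h, if_pos (Finset.mem_Ioo.2 ⟨h.1, h.2.1⟩), if_pos (by omega)]
  · rw [if_neg h]
    by_cases h' : i ∈ Ioo 0 p
    · rw [if_pos h', if_neg]
      rw [Finset.mem_Ioo] at h'
      omega
    · rw [if_neg h']

lemma cpco_symm (p : ℕ) (i j : ℕ) : cpco p R i j = cpco p R j i := by
  unfold cpco
  by_cases h : 0 < i ∧ i < p ∧ i + j = p
  · have h' : 0 < j ∧ j < p ∧ j + i = p := by omega
    rw [if_pos h, if_pos h', Nat.choose_symm_of_eq_add (by omega : p = i + j)]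
  · have h' : ¬ (0 < j ∧ j < p ∧ j + i = p) := by omega
    rw [if_neg h, if_neg h']

lemma co_expand_mul {q : ℕ} (hq : q ≠ 0) (F : MvPolynomial (Fin 2) R) (i j : ℕ) :
    co (MvPolynomial.expand q F) (q * i) (q * j) = co F i j := by
  unfold co
  have : (Finsupp.single (0 : Fin 2) (q * i) + Finsupp.single 1 (q * j)) =
      q • (Finsupp.single (0 : Fin 2) i + Finsupp.single 1 j) := by
    rw [smul_add, Finsupp.smul_single, Finsupp.smul_single, smul_eq_mul, smul_eq_mul]
  rw [this, MvPolynomial.coeff_expand_smul q hq]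

lemma co_expand_left {q : ℕ} (F : MvPolynomial (Fin 2) R) {i j : ℕ} (h : ¬ q ∣ i) :
    co (MvPolynomial.expand q F) i j = 0 := by
  unfold co
  apply MvPolynomial.coeff_expand_of_not_dvd (i := (0 : Fin 2))
  simpa using h

lemma co_expand_right {q : ℕ} (F : MvPolynomial (Fin 2) R) {i j : ℕ} (h : ¬ q ∣ j) :
    co (MvPolynomial.expand q F) i j = 0 := by
  unfold co
  apply MvPolynomial.coeff_expand_of_not_dvd (i := (1 : Fin 2))
  simpa using h

/-- symmetric polynomials in two variables -/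
def Sym (F : MvPolynomial (Fin 2) R) : Prop := ∀ i j, co F i j = co F j i

lemma sym_iff (F : MvPolynomial (Fin 2) R) :
    MvPolynomial.aeval ![(MvPolynomial.X 1 : MvPolynomial (Fin 2) R), MvPolynomial.X 0] F = F ↔
      Sym F := by
  constructor
  · intro h i j
    have := co_sw F i j
    rwa [h] at this
  · intro h
    apply ext2
    intro i j
    rw [co_sw, h]

lemma Sym.add {F G : MvPolynomial (Fin 2) R} (hF : Sym F) (hG : Sym G) : Sym (F + G) := by
  intro i j; rw [co_add, co_add, hF, hG]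

lemma Sym.sub {F G : MvPolynomial (Fin 2) R} (hF : Sym F) (hG : Sym G) : Sym (F - G) := by
  intro i j; rw [co_sub, co_sub, hF, hG]

lemma Sym.C_mul {F : MvPolynomial (Fin 2) R} (hF : Sym F) (r : R) :
    Sym (MvPolynomial.C r * F) := by
  intro i j; rw [co_C_mul, co_C_mul, hF]

lemma Sym.sum {ι : Type*} (s : Finset ι) {f : ι → MvPolynomial (Fin 2) R}
    (h : ∀ x ∈ s, Sym (f x)) : Sym (∑ x ∈ s, f x) := by
  intro i j
  rw [co_sum, co_sum]
  exact Finset.sum_congr rfl fun x hx => h x hx i j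

lemma sym_dl (G : Polynomial R) : Sym (dl G) := by
  intro i j
  rw [co_dl, co_dl, add_comm j i, Nat.choose_symm_add]
  ring

lemma sym_Cp (p : ℕ) : Sym (Cp p R) := by
  intro i j
  rw [co_Cp, co_Cp, cpco_symm]

lemma Sym.expand {F : MvPolynomial (Fin 2) R} (hF : Sym F) {q : ℕ} (hq : q ≠ 0) :
    Sym (MvPolynomial.expand q F) := by
  intro i j
  by_cases hi : q ∣ i
  · by_cases hj : q ∣ j
    · obtain ⟨i', rfl⟩ := hi
      obtain ⟨j', rfl⟩ := hj
      rw [co_expand_mul hq, co_expand_mul hq, hF]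
    · rw [co_expand_right F hj, co_expand_left F hj]
  · rw [co_expand_left F hi, co_expand_right F hi]

/-! ### the cocycle operator on the basic polynomials -/

lemma aeval_dl {B : Type*} [CommRing B] [Algebra R B] (φ : MvPolynomial (Fin 2) R →ₐ[R] B)
    (G : Polynomial R) :
    φ (dl G) = Polynomial.aeval (φ (MvPolynomial.X 0) + φ (MvPolynomial.X 1)) G
      - Polynomial.aeval (φ (MvPolynomial.X 0)) G - Polynomial.aeval (φ (MvPolynomial.X 1)) G := by
  unfold dl
  rw [map_sub, map_sub, ← Polynomial.aeval_algHom_apply, ← Polynomial.aeval_algHom_apply,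
    ← Polynomial.aeval_algHom_apply, map_add]

lemma PhiL_dl (G : Polynomial R) : PhiL (dl G) = 0 := by
  rw [PhiL_apply, aeval_dl, aeval_dl, aeval_dl, aeval_dl]
  simp only [MvPolynomial.aeval_X, Matrix.cons_val_zero, Matrix.cons_val_one]
  rw [add_assoc (MvPolynomial.X 0 : MvPolynomial (Fin 3) R)]
  ring

lemma aeval_expand_comm {p : ℕ} (g : Fin 2 → MvPolynomial (Fin 3) R)
    (hg : ∀ i, MvPolynomial.expand p (g i) = g i ^ p) (G : MvPolynomial (Fin 2) R) :
    MvPolynomial.aeval g (MvPolynomial.expand p G) =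
      MvPolynomial.expand p (MvPolynomial.aeval g G) := by
  rw [MvPolynomial.aeval_expand, MvPolynomial.aeval_eq_bind₁, MvPolynomial.aeval_eq_bind₁,
    MvPolynomial.expand_bind₁]
  have : (fun i => MvPolynomial.expand p (g i)) = g ^ p := funext hg
  rw [this]

lemma PhiL_expand {p : ℕ} [Fact p.Prime] [CharP R p] (G : MvPolynomial (Fin 2) R) :
    PhiL (MvPolynomial.expand p G) = MvPolynomial.expand p (PhiL G) := by
  rw [PhiL_apply, PhiL_apply, map_sub, map_sub, map_add]
  rw [aeval_expand_comm _ _ G, aeval_expand_comm _ _ G, aeval_expand_comm _ _ G,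
    aeval_expand_comm _ _ G]
  · intro i; fin_cases i <;> simp
  · intro i; fin_cases i <;> simp [add_pow_char]
  · intro i; fin_cases i <;> simp
  · intro i; fin_cases i <;> simp [add_pow_char]

lemma PhiL_map {S : Type*} [CommRing S] (f : R →+* S) (F : MvPolynomial (Fin 2) R) :
    PhiL (MvPolynomial.map f F) = MvPolynomial.map f (PhiL F) := by
  have key : ∀ (g : Fin 2 → MvPolynomial (Fin 3) R) (g' : Fin 2 → MvPolynomial (Fin 3) S),
      (∀ i, MvPolynomial.map f (g i) = g' i) →
      MvPolynomial.map f (MvPolynomial.aeval g F) =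
        MvPolynomial.aeval g' (MvPolynomial.map f F) := by
    intro g g' hg
    rw [MvPolynomial.aeval_eq_bind₁, MvPolynomial.aeval_eq_bind₁, MvPolynomial.map_bind₁]
    have : (fun i => MvPolynomial.map f (g i)) = g' := funext hg
    rw [this]
  rw [PhiL_apply, PhiL_apply, map_sub, map_sub, map_add,
    key _ ![(MvPolynomial.X 0 : MvPolynomial (Fin 3) S), MvPolynomial.X 1 + MvPolynomial.X 2],
    key _ ![(MvPolynomial.X 1 : MvPolynomial (Fin 3) S), MvPolynomial.X 2],
    key _ ![(MvPolynomial.X 0 + MvPolynomial.X 1 : MvPolynomial (Fin 3) S), MvPolynomial.X 2],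
    key _ ![(MvPolynomial.X 0 : MvPolynomial (Fin 3) S), MvPolynomial.X 1]]
  · intro i; fin_cases i <;> simp
  · intro i; fin_cases i <;> simp
  · intro i; fin_cases i <;> simp
  · intro i; fin_cases i <;> simp

lemma p_mul_CpZ (p : ℕ) [hp : Fact p.Prime] :
    (p : MvPolynomial (Fin 2) ℤ) * Cp p ℤ = dl (Polynomial.X ^ p : Polynomial ℤ) := by
  unfold dl Cp
  rw [map_pow, map_pow, map_pow, Polynomial.aeval_X, Polynomial.aeval_X, Polynomial.aeval_X,
    add_pow]
  have hr : Finset.range (p + 1) = insert p (insert 0 (Finset.Ioo 0 p)) := by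
    ext x
    simp only [Finset.mem_range, Finset.mem_insert, Finset.mem_Ioo]
    have := hp.out.pos
    omega
  have hp0 : p ≠ 0 := hp.out.ne_zero
  rw [hr, Finset.sum_insert (by simp [hp0]), Finset.sum_insert (by simp), Finset.mul_sum]
  simp only [Nat.sub_self, pow_zero, mul_one, Nat.choose_self, Nat.cast_one, Nat.sub_zero,
    Nat.choose_zero_right, one_mul]
  have key : ∀ j ∈ Finset.Ioo 0 p, (p : MvPolynomial (Fin 2) ℤ) *
      (MvPolynomial.C ((p.choose j / p : ℕ) : ℤ) * MvPolynomial.X 0 ^ j *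
        MvPolynomial.X 1 ^ (p - j)) =
      MvPolynomial.X 0 ^ j * MvPolynomial.X 1 ^ (p - j) *
        ((p.choose j : ℕ) : MvPolynomial (Fin 2) ℤ) := by
    intro j hj
    rw [Finset.mem_Ioo] at hj
    have hd : p ∣ p.choose j := hp.out.dvd_choose_self (by omega) hj.2
    have e : ((p.choose j : ℕ) : MvPolynomial (Fin 2) ℤ) =
        (p : MvPolynomial (Fin 2) ℤ) * MvPolynomial.C ((p.choose j / p : ℕ) : ℤ) := by
      rw [map_natCast, ← Nat.cast_mul, Nat.mul_div_cancel' hd]
    rw [e]
    ring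
  rw [Finset.sum_congr rfl key]
  ring

lemma PhiL_CpZ (p : ℕ) [hp : Fact p.Prime] : PhiL (Cp p ℤ) = 0 := by
  have h := congrArg PhiL (p_mul_CpZ p)
  rw [PhiL_dl, ← nsmul_eq_mul, map_nsmul] at h
  exact (smul_eq_zero.1 h).resolve_left hp.out.ne_zero

lemma Cp_map (p : ℕ) (R : Type*) [CommRing R] :
    MvPolynomial.map (Int.castRingHom R) (Cp p ℤ) = Cp p R := by
  unfold Cp
  rw [map_sum]
  refine Finset.sum_congr rfl fun j _ => ?_
  rw [map_mul, map_mul, map_pow, map_pow, MvPolynomial.map_C, MvPolynomial.map_X,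
    MvPolynomial.map_X, eq_intCast, Int.cast_natCast]

lemma PhiL_Cp (p : ℕ) [hp : Fact p.Prime] : PhiL (Cp p R) = 0 := by
  rw [← Cp_map, PhiL_map, PhiL_CpZ, map_zero]

end Groth.Agent.Helper6.Laz
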