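import Mathlib
import Groth.Agent.Helper6.Laz2

set_option autoImplicit false
set_option backward.isDefEq.respectTransparency false
set_option backward.isDefEq.respectTransparency.types false

namespace Groth.Agent.Helper6.Laz

open Finset

variable {R : Type*} [CommRing R]

/-- all coefficients of total degree `> D` vanish -/
def Bdd (D : ℕ) (F : MvPolynomial (Fin 2) R) : Prop := ∀ i j, D < i + j → co F i j = 0

lemma exists_bdd (F : MvPolynomial (Fin 2) R) : ∃ D, Bdd D F := by
  refine ⟨F.support.sup (fun u => u 0 + u 1), fun i j h => ?_⟩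
  by_contra hne
  have hmem : (Finsupp.single (0 : Fin 2) i + Finsupp.single 1 j) ∈ F.support :=
    MvPolynomial.mem_support_iff.2 hne
  have h2 : i + j ≤ F.support.sup (fun u => u 0 + u 1) :=
    calc i + j = (fun u : Fin 2 →₀ ℕ => u 0 + u 1)
          (Finsupp.single (0 : Fin 2) i + Finsupp.single 1 j) := by simp
      _ ≤ _ := Finset.le_sup (f := fun u : Fin 2 →₀ ℕ => u 0 + u 1) hmem
  omega

lemma aeval_pow_eq_expand (q : ℕ) (F : MvPolynomial (Fin 2) R) :
    MvPolynomial.aeval ![(MvPolynomial.X 0 : MvPolynomial (Fin 2) R) ^ q, MvPolynomial.X 1 ^ q] F =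
      MvPolynomial.expand q F := by
  have : (![(MvPolynomial.X 0 : MvPolynomial (Fin 2) R) ^ q, MvPolynomial.X 1 ^ q]) =
      fun i => MvPolynomial.X i ^ q := by
    funext i; fin_cases i <;> rfl
  rw [this]
  rfl

lemma expand_dl {p : ℕ} [Fact p.Prime] [CharP R p] (G : Polynomial R) :
    MvPolynomial.expand p (dl G) = dl (Polynomial.expand R p G) := by
  rw [aeval_dl, MvPolynomial.expand_X, MvPolynomial.expand_X]
  unfold dl
  rw [Polynomial.expand_aeval, Polynomial.expand_aeval, Polynomial.expand_aeval, add_pow_char]

lemma PhiL_expand_pow {p : ℕ} [hp : Fact p.Prime] [CharP R p] (i : ℕ) :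
    PhiL (MvPolynomial.expand (p ^ i) (Cp p R)) = 0 := by
  induction i with
  | zero => rw [pow_zero, MvPolynomial.expand_one_apply, PhiL_Cp]
  | succ i ih => rw [pow_succ', MvPolynomial.expand_mul, PhiL_expand, ih, map_zero]

theorem main_aux {p : ℕ} [hp : Fact p.Prime] [CharP R p] :
    ∀ (D : ℕ) (F : MvPolynomial (Fin 2) R), Bdd D F → Sym F → PhiL F = 0 →
    ∃ (G : Polynomial R) (N : ℕ) (r : ℕ → R),
      F = dl G + ∑ i ∈ range N, MvPolynomial.C (r i) *
        MvPolynomial.expand (p ^ i) (Cp p R) := by
  intro D
  induction D using Nat.strong_induction_on with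
  | _ D ih =>
  intro F hB hS hF
  have hp0 : p ≠ 0 := hp.out.ne_zero
  have hppos : 0 < p := hp.out.pos
  have hp1 : 1 < p := hp.out.one_lt
  have hn0 : ∀ l, 1 ≤ l → co F 0 l = 0 := fun l hl => coc_row0 hF l hl
  have hn0' : ∀ l, 1 ≤ l → co F l 0 = 0 := fun l hl => (hS l 0).trans (hn0 l hl)
  have hss : ∀ j l, 1 ≤ l → ((j + 1 : ℕ) : R) * co F (j + 1) l =
      (((j + l).choose j : ℕ) : R) * co F 1 (j + l) := fun j l hl => coc_row1 hF j l hl
  rcases Nat.eq_zero_or_pos D with hD | hD
  · -- base case
    subst hD
    refine ⟨-Polynomial.C (co F 0 0), 0, fun _ => 0, ?_⟩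
    rw [Finset.range_zero, Finset.sum_empty, add_zero]
    apply ext2
    intro i j
    have h1 : ∀ n, (-Polynomial.C (co F 0 0)).coeff n = if n = 0 then -co F 0 0 else 0 := by
      intro n
      rw [Polynomial.coeff_neg, Polynomial.coeff_C]
      split_ifs <;> simp
    rw [co_dl, h1, h1, h1]
    by_cases hi : i = 0
    · by_cases hj : j = 0
      · subst hi hj
        simp
      · rw [hB i j (by omega)]
        simp [hi, hj]
    · rw [hB i j (by omega)]
      by_cases hj : j = 0
      · simp [hi, hj]
      · simp [hi, hj]
  · -- inductive step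
    obtain ⟨qc, hqc⟩ : ∃ qc : ℕ → R, ∀ d, qc d = if d = 0 then -co F 0 0 else
        if p ∣ d then 0 else Ring.inverse ((d : ℕ) : R) * co F 1 (d - 1) := ⟨_, fun _ => rfl⟩
    have hqc0 : ∀ d, D < d → qc d = 0 := by
      intro d hd
      rw [hqc, if_neg (by omega)]
      split_ifs
      · rfl
      · rw [hB 1 (d - 1) (by omega), mul_zero]
    obtain ⟨q, hq⟩ : ∃ q : Polynomial R, ∀ d, q.coeff d = qc d := by
      refine ⟨∑ d ∈ range (D + 1), Polynomial.C (qc d) * Polynomial.X ^ d, fun d => ?_⟩
      rw [Polynomial.finset_sum_coeff]
      simp only [Polynomial.coeff_C_mul_X_pow]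
      rw [Finset.sum_ite_eq]
      split_ifs with h
      · rfl
      · rw [hqc0 d (by rw [mem_range] at h; omega)]
    obtain ⟨cc, hcc⟩ : ∃ cc : R, cc = co F 1 (p - 1) := ⟨_, rfl⟩
    obtain ⟨m, hm⟩ : ∃ m : MvPolynomial (Fin 2) R,
        m = F - dl q - MvPolynomial.C cc * Cp p R := ⟨_, rfl⟩
    have hm_co : ∀ i j, co m i j = co F i j - ((((i + j).choose i : ℕ) : R) * qc (i + j)
        - (if j = 0 then qc i else 0) - (if i = 0 then qc j else 0)) - cc * cpco p R i j := by
      intro i j
      rw [hm, co_sub, co_sub, co_dl, co_C_mul, co_Cp, hq, hq, hq]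
    have hmS : Sym m := by
      rw [hm]
      exact (hS.sub (sym_dl q)).sub ((sym_Cp p).C_mul cc)
    have hm0 : ∀ i j, ¬ p ∣ i → co m i j = 0 := by
      intro i j hi
      have hi0 : i ≠ 0 := by rintro rfl; exact hi (dvd_zero p)
      have hiu : IsUnit ((i : ℕ) : R) := (CharP.isUnit_natCast_iff hp.out).2 hi
      rw [hm_co, if_neg hi0, sub_zero]
      rcases Nat.eq_zero_or_pos j with hj | hj
      · subst hj
        have hcp : cpco p R i 0 = 0 := by
          unfold cpco
          rw [if_neg (by omega)]
        rw [hn0' i (by omega), if_pos rfl, add_zero, Nat.choose_self, Nat.cast_one, one_mul,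
          sub_self, hcp, mul_zero, sub_zero, sub_zero]
      · rw [if_neg (by omega : ¬ j = 0), sub_zero]
        have key := hss (i - 1) j hj
        rw [Nat.sub_add_cancel (by omega : 1 ≤ i)] at key
        have hd1 : i - 1 + j = i + j - 1 := by omega
        rw [hd1] at key
        by_cases hpd : p ∣ i + j
        · by_cases hdp : i + j = p
          · -- total degree exactly p
            have hqcd : qc (i + j) = 0 := by rw [hqc, if_neg (by omega), if_pos hpd]
            have hcp : cpco p R i j = ((p.choose i / p : ℕ) : R) := by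
              unfold cpco
              rw [if_pos ⟨by omega, by omega, hdp⟩]
            rw [hqcd, mul_zero, sub_zero, hcp, hcc]
            have hnat : (i + j - 1).choose (i - 1) = (p.choose i / p) * i := by
              have h1 : p * (p - 1).choose (i - 1) = p.choose i * i := by
                have := Nat.add_one_mul_choose_eq (p - 1) (i - 1)
                rwa [Nat.sub_add_cancel (by omega : 1 ≤ p),
                  Nat.sub_add_cancel (by omega : 1 ≤ i)] at this
              have hd : p ∣ p.choose i := hp.out.dvd_choose_self hi0 (by omega)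
              have h2 : p * ((p.choose i / p) * i) = p.choose i * i := by
                rw [← mul_assoc, Nat.mul_div_cancel' hd]
              have e : i + j - 1 = p - 1 := by omega
              rw [e]
              exact Nat.eq_of_mul_eq_mul_left hppos (h1.trans h2.symm)
            have e : i + j - 1 = p - 1 := by omega
            rw [hnat, e] at key
            rw [sub_eq_zero]
            apply hiu.mul_left_cancel
            rw [key, Nat.cast_mul]
            ring
          · -- total degree a proper multiple of p
            have hqcd : qc (i + j) = 0 := by rw [hqc, if_neg (by omega), if_pos hpd]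
            have hcp : cpco p R i j = 0 := by
              unfold cpco
              rw [if_neg (by omega)]
            rw [hqcd, mul_zero, sub_zero, hcp, mul_zero, sub_zero]
            obtain ⟨t, ht⟩ := hpd
            have ht0 : t ≠ 0 := by rintro rfl; omega
            have ht1 : t ≠ 1 := by rintro rfl; omega
            obtain ⟨s, rfl⟩ : ∃ s, t = s + 1 := ⟨t - 1, by omega⟩
            have hs : 1 ≤ s := by omega
            have ht' : i + j = p * s + p := by rw [ht]; ring
            have hps : p ≤ p * s := Nat.le_mul_of_pos_right p (by omega)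
            have hc1 : co F 1 (i + j - 1) = 0 := by
              have k2 := hss (p - 1) (i + j - p) (by omega)
              rw [Nat.sub_add_cancel (by omega : 1 ≤ p), CharP.cast_eq_zero R p, zero_mul] at k2
              have e : p - 1 + (i + j - p) = i + j - 1 := by omega
              rw [e] at k2
              have hl : (((i + j - 1).choose (p - 1) : ℕ) : R) = 1 := by
                have h3 : (i + j - 1).choose (p - 1) ≡ 1 [MOD p] := by
                  refine (Choose.choose_modEq_choose_mod_mul_choose_div_nat (p := p)).trans ?_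
                  have e0 : i + j - 1 = p * s + (p - 1) := by omega
                  have e1 : (i + j - 1) % p = p - 1 := by
                    rw [e0, Nat.mul_add_mod, Nat.mod_eq_of_lt (by omega)]
                  have e2 : (p - 1) % p = p - 1 := Nat.mod_eq_of_lt (by omega)
                  have e3 : (i + j - 1) / p = s := by
                    rw [e0, Nat.mul_add_div hppos, Nat.div_eq_of_lt (by omega), add_zero]
                  have e4 : (p - 1) / p = 0 := Nat.div_eq_of_lt (by omega)
                  rw [e1, e2, e3, e4, Nat.choose_self, Nat.choose_zero_right]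
                simpa using CharP.natCast_eq_natCast' R p h3
              rw [hl, one_mul] at k2
              exact k2.symm
            rw [hc1, mul_zero] at key
            exact (hiu.mul_right_eq_zero).1 key
        · -- total degree prime to p
          have hd0 : i + j ≠ 0 := by omega
          have hdu : IsUnit ((i + j : ℕ) : R) := (CharP.isUnit_natCast_iff hp.out).2 hpd
          have hqcd : qc (i + j) = Ring.inverse ((i + j : ℕ) : R) * co F 1 (i + j - 1) := by
            rw [hqc, if_neg hd0, if_neg hpd]
          have hcp : cpco p R i j = 0 := by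
            unfold cpco
            rw [if_neg]
            rintro ⟨_, _, h⟩
            exact hpd (h ▸ dvd_rfl)
          rw [hqcd, hcp, mul_zero, sub_zero, sub_eq_zero]
          apply hiu.mul_left_cancel
          rw [key]
          have hnat : (i + j) * (i + j - 1).choose (i - 1) = (i + j).choose i * i := by
            have := Nat.add_one_mul_choose_eq (i + j - 1) (i - 1)
            rwa [Nat.sub_add_cancel (by omega : 1 ≤ i + j),
              Nat.sub_add_cancel (by omega : 1 ≤ i)] at this
          have hnat' : (((i + j : ℕ) : R)) * (((i + j - 1).choose (i - 1) : ℕ) : R) =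
              (((i + j).choose i : ℕ) : R) * ((i : ℕ) : R) := by
            rw [← Nat.cast_mul, ← Nat.cast_mul, hnat]
          calc (((i + j - 1).choose (i - 1) : ℕ) : R) * co F 1 (i + j - 1)
              = (((i + j : ℕ) : R) * Ring.inverse ((i + j : ℕ) : R)) *
                  ((((i + j - 1).choose (i - 1) : ℕ) : R) * co F 1 (i + j - 1)) := by
                rw [Ring.mul_inverse_cancel _ hdu, one_mul]
            _ = ((((i + j : ℕ) : R)) * (((i + j - 1).choose (i - 1) : ℕ) : R)) *
                  (Ring.inverse ((i + j : ℕ) : R) * co F 1 (i + j - 1)) := by ring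
            _ = ((i : ℕ) : R) * ((((i + j).choose i : ℕ) : R) *
                  (Ring.inverse ((i + j : ℕ) : R) * co F 1 (i + j - 1))) := by
                rw [hnat']; ring
    have hm0' : ∀ i j, ¬ p ∣ j → co m i j = 0 := fun i j hj => (hmS i j).trans (hm0 j i hj)
    have hmB : Bdd D m := by
      intro i j hij
      rw [hm_co, hB i j hij, hqc0 (i + j) hij]
      have h1 : (if j = 0 then qc i else 0) = 0 := by
        split_ifs with h
        · exact hqc0 i (by omega)
        · rfl
      have h2 : (if i = 0 then qc j else 0) = 0 := by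
        split_ifs with h
        · exact hqc0 j (by omega)
        · rfl
      have h3 : cc * cpco p R i j = 0 := by
        unfold cpco
        split_ifs with h
        · rw [hcc, hB 1 (p - 1) (by omega), zero_mul]
        · rw [mul_zero]
      rw [h1, h2, h3]
      ring
    obtain ⟨mt, hmt⟩ : ∃ mt : MvPolynomial (Fin 2) R,
        ∀ i j, co mt i j = co m (p * i) (p * j) := by
      refine ⟨∑ a ∈ range (D + 1), ∑ b ∈ range (D + 1),
        MvPolynomial.monomial (Finsupp.single (0 : Fin 2) a + Finsupp.single 1 b)
          (co m (p * a) (p * b)), fun i j => ?_⟩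
      simp only [co_sum, co_monomial]
      by_cases hij : i ≤ D ∧ j ≤ D
      · rw [Finset.sum_eq_single i]
        · rw [Finset.sum_eq_single j]
          · rw [if_pos ⟨rfl, rfl⟩]
          · intro b _ hb
            exact if_neg (fun h => hb h.2)
          · intro h
            exact absurd (mem_range.2 (by omega)) h
        · intro a _ ha
          exact Finset.sum_eq_zero fun b _ => if_neg (fun h => ha h.1)
        · intro h
          exact absurd (mem_range.2 (by omega)) h
      · rw [hmB (p * i) (p * j) ?_]
        · refine Finset.sum_eq_zero fun a ha => Finset.sum_eq_zero fun b hb => if_neg ?_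
          rintro ⟨rfl, rfl⟩
          rw [mem_range] at ha hb
          omega
        · have h1 : i ≤ p * i := Nat.le_mul_of_pos_left i hppos
          have h2 : j ≤ p * j := Nat.le_mul_of_pos_left j hppos
          omega
    have hexp : MvPolynomial.expand p mt = m := by
      apply ext2
      intro i j
      by_cases hi : p ∣ i
      · by_cases hj : p ∣ j
        · obtain ⟨i', rfl⟩ := hi
          obtain ⟨j', rfl⟩ := hj
          rw [co_expand_mul hp0, hmt]
        · rw [co_expand_right mt hj, hm0' i j hj]
      · rw [co_expand_left mt hi, hm0 i j hi]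
    have hmtB : Bdd (D / p) mt := by
      intro i j hij
      rw [hmt]
      apply hmB
      have := (Nat.div_lt_iff_lt_mul hppos).1 hij
      calc D < (i + j) * p := this
        _ = p * i + p * j := by ring
    have hmtS : Sym mt := fun i j => by rw [hmt, hmt, hmS]
    have hmF : PhiL m = 0 := by
      rw [hm, map_sub, map_sub, hF, PhiL_dl, ← MvPolynomial.smul_eq_C_mul, map_smul, PhiL_Cp,
        smul_zero, sub_zero, sub_zero]
    have hmtF : PhiL mt = 0 := by
      apply MvPolynomial.expand_injective hppos
      rw [map_zero, ← PhiL_expand, hexp, hmF]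
    obtain ⟨G', N', r', hG'⟩ := ih (D / p) (Nat.div_lt_self hD hp1) mt hmtB hmtS hmtF
    obtain ⟨r, hr0, hrs⟩ : ∃ r : ℕ → R, r 0 = cc ∧ ∀ i, r (i + 1) = r' i :=
      ⟨fun i => Nat.casesOn i cc r', rfl, fun _ => rfl⟩
    refine ⟨q + Polynomial.expand R p G', N' + 1, r, ?_⟩
    have hF' : F = dl q + MvPolynomial.C cc * Cp p R + MvPolynomial.expand p mt := by
      rw [hexp, hm]; ring
    have e2 : ∀ i, MvPolynomial.expand p (MvPolynomial.C (r' i) *
        MvPolynomial.expand (p ^ i) (Cp p R)) =
        MvPolynomial.C (r' i) * MvPolynomial.expand (p ^ (i + 1)) (Cp p R) := by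
      intro i
      rw [map_mul, MvPolynomial.expand_C, ← MvPolynomial.expand_mul, ← pow_succ']
    rw [hF', hG', map_add, map_sum, dl_add, Finset.sum_range_succ', expand_dl]
    simp only [e2, hr0, hrs, pow_zero, MvPolynomial.expand_one_apply]
    ring

/-- Lazard's lemma in characteristic `p`: symmetric 2-cocycles. -/
theorem main {p : ℕ} [hp : Fact p.Prime] [CharP R p] (F : MvPolynomial (Fin 2) R)
    (hsym : MvPolynomial.aeval ![(MvPolynomial.X 1 : MvPolynomial (Fin 2) R),
      MvPolynomial.X 0] F = F)
    (hcoc : PhiL F = 0) :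
    ∃ (G : Polynomial R) (N : ℕ) (r : ℕ → R),
      F = dl G + ∑ i ∈ range N, MvPolynomial.C (r i) *
        MvPolynomial.expand (p ^ i) (Cp p R) := by
  obtain ⟨D, hD⟩ := exists_bdd F
  exact main_aux D F hD ((sym_iff F).1 hsym) hcoc

theorem converse {p : ℕ} [hp : Fact p.Prime] [CharP R p] (G : Polynomial R) (N : ℕ) (r : ℕ → R) :
    MvPolynomial.aeval ![(MvPolynomial.X 1 : MvPolynomial (Fin 2) R), MvPolynomial.X 0]
      (dl G + ∑ i ∈ range N, MvPolynomial.C (r i) * MvPolynomial.expand (p ^ i) (Cp p R)) =
      (dl G + ∑ i ∈ range N, MvPolynomial.C (r i) * MvPolynomial.expand (p ^ i) (Cp p R)) ∧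
    PhiL (dl G + ∑ i ∈ range N, MvPolynomial.C (r i) *
      MvPolynomial.expand (p ^ i) (Cp p R)) = 0 := by
  constructor
  · rw [sym_iff]
    exact (sym_dl G).add (Sym.sum _ fun i _ =>
      ((sym_Cp p).expand (pow_ne_zero i hp.out.ne_zero)).C_mul (r i))
  · rw [map_add, PhiL_dl, map_sum, zero_add]
    refine Finset.sum_eq_zero fun i _ => ?_
    rw [← MvPolynomial.smul_eq_C_mul, map_smul, PhiL_expand_pow, smul_zero]

end Groth.Agent.Helper6.Laz
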