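import Mathlib
import Groth.Agent.Helper6.Laz3

set_option autoImplicit false
set_option backward.isDefEq.respectTransparency false
set_option backward.isDefEq.respectTransparency.types false

namespace Groth.Agent.Helper6.GmE

open Groth.Agent.Helper6.Laz

variable {R : Type*} [CommRing R]

/-- swap of the two variables -/
noncomputable def sw : MvPolynomial (Fin 2) R →ₐ[R] MvPolynomial (Fin 2) R :=
  MvPolynomial.aeval ![MvPolynomial.X 1, MvPolynomial.X 0]

/-- `f` splits the multiplicative cocycle `h` -/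
def Spl (f : Polynomial R) (h : MvPolynomial (Fin 2) R) : Prop :=
  Polynomial.aeval (MvPolynomial.X 0 + MvPolynomial.X 1 : MvPolynomial (Fin 2) R) f =
    Polynomial.aeval (MvPolynomial.X 0 : MvPolynomial (Fin 2) R) f *
      Polynomial.aeval (MvPolynomial.X 1 : MvPolynomial (Fin 2) R) f * h

/-- multiplicative 2-cocycle identity -/
def MCoc (h : MvPolynomial (Fin 2) R) : Prop :=
  MvPolynomial.aeval ![(MvPolynomial.X 1 : MvPolynomial (Fin 3) R), MvPolynomial.X 2] h *
      MvPolynomial.aeval ![(MvPolynomial.X 0 : MvPolynomial (Fin 3) R),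
        MvPolynomial.X 1 + MvPolynomial.X 2] h =
    MvPolynomial.aeval ![(MvPolynomial.X 0 + MvPolynomial.X 1 : MvPolynomial (Fin 3) R),
        MvPolynomial.X 2] h *
      MvPolynomial.aeval ![(MvPolynomial.X 0 : MvPolynomial (Fin 3) R), MvPolynomial.X 1] h

def MSym (h : MvPolynomial (Fin 2) R) : Prop := sw h = h

def Good (h : MvPolynomial (Fin 2) R) : Prop := ∃ f : Polynomial R, IsUnit f ∧ Spl f h

lemma Spl.mul {f f' : Polynomial R} {h h' : MvPolynomial (Fin 2) R} (hf : Spl f h)
    (hf' : Spl f' h') : Spl (f * f') (h * h') := by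
  unfold Spl at *
  rw [map_mul, map_mul, map_mul, hf, hf']
  ring

lemma spl_one : Spl (1 : Polynomial R) 1 := by
  unfold Spl
  simp

lemma Good.mul {h h' : MvPolynomial (Fin 2) R} (h1 : Good h) (h2 : Good h') : Good (h * h') := by
  obtain ⟨f, hf, hs⟩ := h1
  obtain ⟨f', hf', hs'⟩ := h2
  exact ⟨f * f', hf.mul hf', hs.mul hs'⟩

lemma good_one : Good (1 : MvPolynomial (Fin 2) R) := ⟨1, isUnit_one, spl_one⟩

/-- the coboundary of a unit `f`, written with the inverse `f'` -/
noncomputable def partner (f f' : Polynomial R) : MvPolynomial (Fin 2) R :=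
  Polynomial.aeval (MvPolynomial.X 0 + MvPolynomial.X 1 : MvPolynomial (Fin 2) R) f *
    Polynomial.aeval (MvPolynomial.X 0 : MvPolynomial (Fin 2) R) f' *
    Polynomial.aeval (MvPolynomial.X 1 : MvPolynomial (Fin 2) R) f'

lemma spl_partner {f f' : Polynomial R} (hff : f * f' = 1) : Spl f (partner f f') := by
  unfold Spl partner
  have h0 : Polynomial.aeval (MvPolynomial.X 0 : MvPolynomial (Fin 2) R) f *
      Polynomial.aeval (MvPolynomial.X 0 : MvPolynomial (Fin 2) R) f' = 1 := by
    rw [← map_mul, hff, map_one]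
  have h1 : Polynomial.aeval (MvPolynomial.X 1 : MvPolynomial (Fin 2) R) f *
      Polynomial.aeval (MvPolynomial.X 1 : MvPolynomial (Fin 2) R) f' = 1 := by
    rw [← map_mul, hff, map_one]
  generalize Polynomial.aeval (MvPolynomial.X 0 + MvPolynomial.X 1 : MvPolynomial (Fin 2) R) f = u
  generalize Polynomial.aeval (MvPolynomial.X 0 : MvPolynomial (Fin 2) R) f = a0 at *
  generalize Polynomial.aeval (MvPolynomial.X 1 : MvPolynomial (Fin 2) R) f = a1 at *
  generalize Polynomial.aeval (MvPolynomial.X 0 : MvPolynomial (Fin 2) R) f' = b0 at *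
  generalize Polynomial.aeval (MvPolynomial.X 1 : MvPolynomial (Fin 2) R) f' = b1 at *
  linear_combination (-u) * h0 + (-u * a0 * b0) * h1

lemma Spl.msym {f : Polynomial R} {k : MvPolynomial (Fin 2) R} (hs : Spl f k) (hf : IsUnit f) :
    MSym k := by
  unfold MSym
  unfold Spl at hs
  have h1 := congrArg sw hs
  have e0 : sw (MvPolynomial.X 0 : MvPolynomial (Fin 2) R) = MvPolynomial.X 1 := by simp [sw]
  have e1 : sw (MvPolynomial.X 1 : MvPolynomial (Fin 2) R) = MvPolynomial.X 0 := by simp [sw]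
  rw [map_mul, map_mul, ← Polynomial.aeval_algHom_apply, ← Polynomial.aeval_algHom_apply,
    ← Polynomial.aeval_algHom_apply, map_add, e0, e1, add_comm] at h1
  have hu : IsUnit (Polynomial.aeval (MvPolynomial.X 0 : MvPolynomial (Fin 2) R) f *
      Polynomial.aeval (MvPolynomial.X 1 : MvPolynomial (Fin 2) R) f) :=
    (hf.map _).mul (hf.map _)
  apply hu.mul_left_cancel
  rw [← hs, mul_comm (Polynomial.aeval (MvPolynomial.X 0 : MvPolynomial (Fin 2) R) f)]
  exact h1.symm

lemma Spl.mcoc {f : Polynomial R} {k : MvPolynomial (Fin 2) R} (hs : Spl f k) (hf : IsUnit f) :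
    MCoc k := by
  unfold MCoc
  unfold Spl at hs
  have s1 := congrArg (MvPolynomial.aeval ![(MvPolynomial.X 1 : MvPolynomial (Fin 3) R),
    MvPolynomial.X 2]) hs
  have s2 := congrArg (MvPolynomial.aeval ![(MvPolynomial.X 0 : MvPolynomial (Fin 3) R),
    MvPolynomial.X 1 + MvPolynomial.X 2]) hs
  have s3 := congrArg (MvPolynomial.aeval ![(MvPolynomial.X 0 + MvPolynomial.X 1 :
    MvPolynomial (Fin 3) R), MvPolynomial.X 2]) hs
  have s4 := congrArg (MvPolynomial.aeval ![(MvPolynomial.X 0 : MvPolynomial (Fin 3) R),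
    MvPolynomial.X 1]) hs
  rw [map_mul, map_mul, ← Polynomial.aeval_algHom_apply, ← Polynomial.aeval_algHom_apply,
    ← Polynomial.aeval_algHom_apply, map_add] at s1 s2 s3 s4
  simp only [MvPolynomial.aeval_X, Matrix.cons_val_zero, Matrix.cons_val_one] at s1 s2 s3 s4
  rw [add_assoc] at s3
  have hu : IsUnit (Polynomial.aeval (MvPolynomial.X 0 : MvPolynomial (Fin 3) R) f *
      Polynomial.aeval (MvPolynomial.X 1 : MvPolynomial (Fin 3) R) f *
      Polynomial.aeval (MvPolynomial.X 2 : MvPolynomial (Fin 3) R) f) :=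
    ((hf.map _).mul (hf.map _)).mul (hf.map _)
  apply hu.mul_left_cancel
  generalize MvPolynomial.aeval ![(MvPolynomial.X 1 : MvPolynomial (Fin 3) R),
    MvPolynomial.X 2] k = A at *
  generalize MvPolynomial.aeval ![(MvPolynomial.X 0 : MvPolynomial (Fin 3) R),
    MvPolynomial.X 1 + MvPolynomial.X 2] k = B at *
  generalize MvPolynomial.aeval ![(MvPolynomial.X 0 + MvPolynomial.X 1 :
    MvPolynomial (Fin 3) R), MvPolynomial.X 2] k = C' at *
  generalize MvPolynomial.aeval ![(MvPolynomial.X 0 : MvPolynomial (Fin 3) R),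
    MvPolynomial.X 1] k = D at *
  generalize Polynomial.aeval (MvPolynomial.X 0 : MvPolynomial (Fin 3) R) f = f0 at *
  generalize Polynomial.aeval (MvPolynomial.X 1 : MvPolynomial (Fin 3) R) f = f1 at *
  generalize Polynomial.aeval (MvPolynomial.X 2 : MvPolynomial (Fin 3) R) f = f2 at *
  linear_combination (-(f0 * B)) * s1 - s2 + s3 + (f2 * C') * s4

lemma aeval_one_add {σ τ : Type*} (φ : MvPolynomial σ R →ₐ[R] MvPolynomial τ R) (a : R)
    (μ : MvPolynomial σ R) :
    φ (1 + MvPolynomial.C a * μ) = 1 + MvPolynomial.C a * φ μ := by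
  rw [map_add, map_one, map_mul, ← MvPolynomial.algebraMap_eq, AlgHom.commutes,
    MvPolynomial.algebraMap_eq]

lemma one_add_mul' {A : Type*} [CommRing A] {c : A} (hcc : c * c = 0) (x y : A) :
    (1 + c * x) * (1 + c * y) = 1 + c * (x + y) := by
  linear_combination (x * y) * hcc

lemma C_mul_C_eq_zero {σ : Type*} {a : R} (haa : a * a = 0) :
    (MvPolynomial.C a : MvPolynomial σ R) * MvPolynomial.C a = 0 := by
  rw [← map_mul, haa, map_zero]

lemma mcoc_one_add {a : R} (haa : a * a = 0) {μ : MvPolynomial (Fin 2) R}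
    (h : MCoc (1 + MvPolynomial.C a * μ)) : MvPolynomial.C a * PhiL μ = 0 := by
  unfold MCoc at h
  rw [aeval_one_add, aeval_one_add, aeval_one_add, aeval_one_add] at h
  rw [PhiL_apply]
  have hcc := C_mul_C_eq_zero (σ := Fin 3) haa
  generalize MvPolynomial.aeval ![(MvPolynomial.X 1 : MvPolynomial (Fin 3) R),
    MvPolynomial.X 2] μ = A at *
  generalize MvPolynomial.aeval ![(MvPolynomial.X 0 : MvPolynomial (Fin 3) R),
    MvPolynomial.X 1 + MvPolynomial.X 2] μ = B at *
  generalize MvPolynomial.aeval ![(MvPolynomial.X 0 + MvPolynomial.X 1 :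
    MvPolynomial (Fin 3) R), MvPolynomial.X 2] μ = C' at *
  generalize MvPolynomial.aeval ![(MvPolynomial.X 0 : MvPolynomial (Fin 3) R),
    MvPolynomial.X 1] μ = D at *
  linear_combination h - (A * B - C' * D) * hcc

lemma msym_one_add {a : R} {μ : MvPolynomial (Fin 2) R}
    (h : MSym (1 + MvPolynomial.C a * μ)) : MvPolynomial.C a * (sw μ - μ) = 0 := by
  unfold MSym at h
  rw [aeval_one_add] at h
  linear_combination h

/-- additive symmetric cocycle modulo the annihilator of `a` -/
def ACoc (a : R) (ν : MvPolynomial (Fin 2) R) : Prop :=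
  MvPolynomial.C a * PhiL ν = 0 ∧ MvPolynomial.C a * (sw ν - ν) = 0

lemma acoc_of_one_add {a : R} (haa : a * a = 0) {μ : MvPolynomial (Fin 2) R}
    (h1 : MCoc (1 + MvPolynomial.C a * μ)) (h2 : MSym (1 + MvPolynomial.C a * μ)) : ACoc a μ :=
  ⟨mcoc_one_add haa h1, msym_one_add h2⟩

lemma ACoc.sub {a : R} {ν ξ : MvPolynomial (Fin 2) R} (h1 : ACoc a ν) (h2 : ACoc a ξ) :
    ACoc a (ν - ξ) := by
  refine ⟨?_, ?_⟩
  · rw [map_sub, mul_sub, h1.1, h2.1, sub_zero]
  · rw [map_sub]
    linear_combination h1.2 - h2.2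

lemma ACoc.sum {a : R} {ι : Type*} (s : Finset ι) {μ : ι → MvPolynomial (Fin 2) R}
    (h : ∀ i ∈ s, ACoc a (μ i)) : ACoc a (∑ i ∈ s, μ i) := by
  refine ⟨?_, ?_⟩
  · rw [map_sum, Finset.mul_sum]
    exact Finset.sum_eq_zero fun i hi => (h i hi).1
  · rw [map_sum, ← Finset.sum_sub_distrib, Finset.mul_sum]
    exact Finset.sum_eq_zero fun i hi => (h i hi).2

lemma acoc_dl (a : R) (G : Polynomial R) : ACoc a (dl G) := by
  refine ⟨by rw [PhiL_dl, mul_zero], ?_⟩
  have : sw (dl G) = dl G := (sym_iff (dl G)).2 (sym_dl G)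
  rw [this, sub_self, mul_zero]

/-- `1 + a μ` is split by a unit -/
def Gd (a : R) (μ : MvPolynomial (Fin 2) R) : Prop := Good (1 + MvPolynomial.C a * μ)

lemma Gd.add {a : R} (haa : a * a = 0) {μ μ' : MvPolynomial (Fin 2) R} (h1 : Gd a μ)
    (h2 : Gd a μ') : Gd a (μ + μ') := by
  unfold Gd
  rw [← one_add_mul' (C_mul_C_eq_zero haa)]
  exact h1.mul h2

lemma Gd.congr {a : R} {μ μ' : MvPolynomial (Fin 2) R}
    (h : MvPolynomial.C a * μ = MvPolynomial.C a * μ') (h1 : Gd a μ) : Gd a μ' := by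
  unfold Gd at *
  rw [← h]
  exact h1

lemma gd_zero (a : R) : Gd a (0 : MvPolynomial (Fin 2) R) := by
  unfold Gd
  rw [mul_zero, add_zero]
  exact good_one

lemma Gd.sum {a : R} (haa : a * a = 0) {ι : Type*} (s : Finset ι)
    {μ : ι → MvPolynomial (Fin 2) R} (h : ∀ i ∈ s, Gd a (μ i)) : Gd a (∑ i ∈ s, μ i) := by
  classical
  induction s using Finset.induction_on with
  | empty => rw [Finset.sum_empty]; exact gd_zero a
  | insert i s hi ih =>
    rw [Finset.sum_insert hi]
    exact Gd.add haa (h i (Finset.mem_insert_self i s))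
      (ih fun j hj => h j (Finset.mem_insert_of_mem hj))

lemma gd_dl {a : R} (haa : a * a = 0) (G : Polynomial R) : Gd a (dl G) := by
  have hcc : (Polynomial.C a : Polynomial R) * Polynomial.C a = 0 := by
    rw [← map_mul, haa, map_zero]
  refine ⟨1 + Polynomial.C a * G, ?_, ?_⟩
  · refine IsUnit.of_mul_eq_one (1 - Polynomial.C a * G) ?_
    linear_combination (-(G * G)) * hcc
  · unfold Spl
    have e : ∀ w : MvPolynomial (Fin 2) R, Polynomial.aeval w (1 + Polynomial.C a * G) =
        1 + MvPolynomial.C a * Polynomial.aeval w G := by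
      intro w
      rw [map_add, map_one, map_mul, Polynomial.aeval_C, MvPolynomial.algebraMap_eq]
    rw [e, e, e, one_add_mul' (C_mul_C_eq_zero haa), one_add_mul' (C_mul_C_eq_zero haa)]
    unfold dl
    congr 2
    ring

end Groth.Agent.Helper6.GmE
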