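import Mathlib
import Groth.Agent.Helper6.GmE1

set_option autoImplicit false
set_option backward.isDefEq.respectTransparency false
set_option backward.isDefEq.respectTransparency.types false

namespace Groth.Agent.Helper6.GmE

open Groth.Agent.Helper6.Laz

variable {R : Type*} [CommRing R]

/-- annihilator of `a` -/
def annI (a : R) : Ideal R := LinearMap.ker (LinearMap.mulLeft R a)

lemma mem_annI {a x : R} : x ∈ annI a ↔ a * x = 0 := by
  unfold annI
  rw [LinearMap.mem_ker, LinearMap.mulLeft_apply]

lemma map_eq_zero_of_C_mul {σ : Type*} {a : R} {ξ : MvPolynomial σ R}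
    (h : MvPolynomial.C a * ξ = 0) :
    MvPolynomial.map (Ideal.Quotient.mk (annI a)) ξ = 0 := by
  ext m
  rw [MvPolynomial.coeff_map, MvPolynomial.coeff_zero, Ideal.Quotient.eq_zero_iff_mem, mem_annI]
  have := congrArg (MvPolynomial.coeff m) h
  rwa [MvPolynomial.coeff_C_mul, MvPolynomial.coeff_zero] at this

lemma C_mul_of_map_eq_zero {σ : Type*} {a : R} {ξ : MvPolynomial σ R}
    (h : MvPolynomial.map (Ideal.Quotient.mk (annI a)) ξ = 0) :
    MvPolynomial.C a * ξ = 0 := by
  ext m
  rw [MvPolynomial.coeff_C_mul, MvPolynomial.coeff_zero, ← mem_annI,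
    ← Ideal.Quotient.eq_zero_iff_mem]
  have := congrArg (MvPolynomial.coeff m) h
  rwa [MvPolynomial.coeff_map, MvPolynomial.coeff_zero] at this

lemma map_aeval_comm {S : Type*} [CommRing S] (f : R →+* S) {σ τ : Type*}
    (g : σ → MvPolynomial τ R) (g' : σ → MvPolynomial τ S)
    (hg : ∀ i, MvPolynomial.map f (g i) = g' i) (F : MvPolynomial σ R) :
    MvPolynomial.map f (MvPolynomial.aeval g F) = MvPolynomial.aeval g' (MvPolynomial.map f F) := by
  rw [MvPolynomial.aeval_eq_bind₁, MvPolynomial.aeval_eq_bind₁, MvPolynomial.map_bind₁]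
  have : (fun i => MvPolynomial.map f (g i)) = g' := funext hg
  rw [this]

lemma map_sw {S : Type*} [CommRing S] (f : R →+* S) (F : MvPolynomial (Fin 2) R) :
    MvPolynomial.map f (sw F) = sw (MvPolynomial.map f F) := by
  unfold sw
  apply map_aeval_comm
  intro i
  fin_cases i <;> simp

lemma map_aeval_poly {S : Type*} [CommRing S] (f : R →+* S) {σ : Type*} (w : MvPolynomial σ R)
    (G : Polynomial R) :
    MvPolynomial.map f (Polynomial.aeval w G) =
      Polynomial.aeval (MvPolynomial.map f w) (G.map f) := by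
  rw [Polynomial.aeval_def, Polynomial.aeval_def, Polynomial.hom_eval₂, Polynomial.eval₂_map]
  congr 1
  refine RingHom.ext fun a => ?_
  simp [MvPolynomial.algebraMap_eq]

lemma map_dl {S : Type*} [CommRing S] (f : R →+* S) (G : Polynomial R) :
    MvPolynomial.map f (dl G) = dl (G.map f) := by
  unfold dl
  rw [map_sub, map_sub, map_aeval_poly, map_aeval_poly, map_aeval_poly, map_add,
    MvPolynomial.map_X, MvPolynomial.map_X]

lemma map_Cp {S : Type*} [CommRing S] (f : R →+* S) (p : ℕ) :
    MvPolynomial.map f (Cp p R) = Cp p S := by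
  unfold Cp
  rw [map_sum]
  refine Finset.sum_congr rfl fun j _ => ?_
  rw [map_mul, map_mul, map_pow, map_pow, MvPolynomial.map_C, MvPolynomial.map_X,
    MvPolynomial.map_X, map_natCast]

/-- Lazard's lemma modulo the annihilator of `a` -/
theorem lz {p : ℕ} [hp : Fact p.Prime] [CharP R p] (a : R) (ν : MvPolynomial (Fin 2) R)
    (hν : ACoc a ν) :
    ∃ (G : Polynomial R) (N : ℕ) (r : ℕ → R),
      MvPolynomial.C a * ν = MvPolynomial.C a * (dl G + ∑ i ∈ Finset.range N,
        MvPolynomial.C (r i) * MvPolynomial.expand (p ^ i) (Cp p R)) := by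
  by_cases ha : a = 0
  · subst ha
    exact ⟨0, 0, fun _ => 0, by simp⟩
  · haveI : CharP (R ⧸ annI a) p := CharP.quotient' p (annI a) (by
      intro x hx
      rw [mem_annI] at hx
      by_cases hpx : p ∣ x
      · exact (CharP.cast_eq_zero_iff R p x).2 hpx
      · exfalso
        have hu : IsUnit ((x : ℕ) : R) := (CharP.isUnit_natCast_iff hp.out).2 hpx
        exact ha ((hu.mul_left_eq_zero).1 hx))
    have h1 : PhiL (MvPolynomial.map (Ideal.Quotient.mk (annI a)) ν) = 0 := by
      rw [PhiL_map, map_eq_zero_of_C_mul hν.1]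
    have h2 : MvPolynomial.aeval ![(MvPolynomial.X 1 : MvPolynomial (Fin 2) (R ⧸ annI a)),
        MvPolynomial.X 0] (MvPolynomial.map (Ideal.Quotient.mk (annI a)) ν) =
        MvPolynomial.map (Ideal.Quotient.mk (annI a)) ν := by
      have h := map_eq_zero_of_C_mul hν.2
      rw [map_sub, sub_eq_zero, map_sw] at h
      exact h
    obtain ⟨Gb, N, rb, h3⟩ := Laz.main (p := p) _ h2 h1
    obtain ⟨G, rfl⟩ := Polynomial.map_surjective (Ideal.Quotient.mk (annI a))
      Ideal.Quotient.mk_surjective Gb
    choose r hr using fun i => Ideal.Quotient.mk_surjective (rb i)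
    refine ⟨G, N, r, ?_⟩
    rw [← sub_eq_zero, ← mul_sub]
    apply C_mul_of_map_eq_zero
    rw [map_sub, h3, map_add, map_dl, map_sum, sub_eq_zero]
    congr 1
    refine Finset.sum_congr rfl fun i _ => ?_
    rw [map_mul, MvPolynomial.map_C, MvPolynomial.map_expand, map_Cp, hr]

end Groth.Agent.Helper6.GmE
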