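import Mathlib
import Groth.Agent.Helper6.GmE2

set_option autoImplicit false
set_option backward.isDefEq.respectTransparency false
set_option backward.isDefEq.respectTransparency.types false

namespace Groth.Agent.Helper6.GmE

open Groth.Agent.Helper6.Laz Finset

variable {R : Type*} [CommRing R]

/-- restriction to the line `(T, sT)` -/
noncomputable def sig (s : ℕ) : MvPolynomial (Fin 2) R →ₐ[R] Polynomial R :=
  MvPolynomial.aeval ![(Polynomial.X : Polynomial R), Polynomial.C ((s : ℕ) : R) * Polynomial.X]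

/-- `f ↦ f(sT)` -/
noncomputable def phiA (s : ℕ) : Polynomial R →ₐ[R] Polynomial R :=
  Polynomial.aeval (Polynomial.C ((s : ℕ) : R) * Polynomial.X : Polynomial R)

lemma sig_X0 (s : ℕ) : sig s (MvPolynomial.X 0 : MvPolynomial (Fin 2) R) = Polynomial.X := by
  simp [sig]

lemma sig_X1 (s : ℕ) : sig s (MvPolynomial.X 1 : MvPolynomial (Fin 2) R) =
    Polynomial.C ((s : ℕ) : R) * Polynomial.X := by
  simp [sig]

lemma sig_C (s : ℕ) (a : R) : sig s (MvPolynomial.C a) = Polynomial.C a := by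
  simp [sig]

lemma sig_aeval (s : ℕ) (w : MvPolynomial (Fin 2) R) (f : Polynomial R) :
    sig s (Polynomial.aeval w f) = Polynomial.aeval (sig s w) f :=
  (Polynomial.aeval_algHom_apply (sig s) w f).symm

lemma sig_aeval_X0 (s : ℕ) (f : Polynomial R) :
    sig s (Polynomial.aeval (MvPolynomial.X 0 : MvPolynomial (Fin 2) R) f) = f := by
  rw [sig_aeval, sig_X0, Polynomial.aeval_X_left_apply]

lemma sig_aeval_X1 (s : ℕ) (f : Polynomial R) :
    sig s (Polynomial.aeval (MvPolynomial.X 1 : MvPolynomial (Fin 2) R) f) = phiA s f := by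
  rw [sig_aeval, sig_X1]
  rfl

lemma sig_aeval_add (s : ℕ) (f : Polynomial R) :
    sig s (Polynomial.aeval (MvPolynomial.X 0 + MvPolynomial.X 1 : MvPolynomial (Fin 2) R) f) =
      phiA (s + 1) f := by
  rw [sig_aeval, map_add, sig_X0, sig_X1]
  unfold phiA
  congr 2
  push_cast
  rw [map_add, map_one]
  ring

lemma phiA_one (f : Polynomial R) : phiA 1 f = f := by
  unfold phiA
  rw [Nat.cast_one, map_one, one_mul, Polynomial.aeval_X_left_apply]

lemma phiA_p {p : ℕ} [CharP R p] (f : Polynomial R) : phiA p f = Polynomial.C (f.coeff 0) := by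
  unfold phiA
  rw [CharP.cast_eq_zero R p, map_zero, zero_mul, ← Polynomial.coeff_zero_eq_aeval_zero']
  rfl

/-- sum of the restrictions to the lines `(T, sT)`, `0 < s < p` -/
noncomputable def Lam (p : ℕ) : MvPolynomial (Fin 2) R →ₗ[R] Polynomial R :=
  ∑ t ∈ range (p - 1), (sig (t + 1)).toLinearMap

lemma Lam_apply (p : ℕ) (ξ : MvPolynomial (Fin 2) R) :
    Lam p ξ = ∑ t ∈ range (p - 1), sig (t + 1) ξ := by
  simp [Lam, LinearMap.sum_apply]

lemma Lam_C_mul (p : ℕ) (a : R) (ξ : MvPolynomial (Fin 2) R) :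
    Lam p (MvPolynomial.C a * ξ) = Polynomial.C a * Lam p ξ := by
  rw [← MvPolynomial.smul_eq_C_mul, map_smul, Polynomial.smul_eq_C_mul]

lemma Lam_dl {p : ℕ} [hp : Fact p.Prime] [CharP R p] (G : Polynomial R) :
    Lam p (dl G) = Polynomial.C (G.coeff 0) := by
  rw [Lam_apply]
  have h1 : ∀ t, sig (t + 1) (dl G) = (phiA (t + 1 + 1) G - phiA (t + 1) G) - G := by
    intro t
    unfold dl
    rw [map_sub, map_sub, sig_aeval_add, sig_aeval_X0, sig_aeval_X1]
    ring
  simp only [h1]
  have h2 : ∑ t ∈ range (p - 1), (phiA (t + 1 + 1) G - phiA (t + 1) G) =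
      phiA (p - 1 + 1) G - phiA (0 + 1) G :=
    Finset.sum_range_sub (fun t => phiA (t + 1) G) (p - 1)
  rw [Finset.sum_sub_distrib, h2, Finset.sum_const, Finset.card_range,
    Nat.sub_add_cancel hp.out.one_le, phiA_p, zero_add, phiA_one]
  have h3 : (p - 1) • G + G = 0 := by
    rw [← succ_nsmul, Nat.sub_add_cancel hp.out.one_le, nsmul_eq_mul, CharP.cast_eq_zero, zero_mul]
  linear_combination -h3

/-! ### the sum of the values of `Cp` on the lines -/

/-- `((1+s)^p - s^p - 1)/p` -/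
def cpN (p s : ℕ) : ℕ := ∑ j ∈ Ioo 0 p, (p.choose j / p) * s ^ (p - j)

lemma one_add_pow_eq (p : ℕ) [hp : Fact p.Prime] (s : ℕ) :
    (1 + s) ^ p = s ^ p + 1 + p * cpN p s := by
  rw [add_pow]
  have hr : Finset.range (p + 1) = insert p (insert 0 (Finset.Ioo 0 p)) := by
    ext x
    simp only [Finset.mem_range, Finset.mem_insert, Finset.mem_Ioo]
    have := hp.out.pos
    omega
  have hp0 : p ≠ 0 := hp.out.ne_zero
  rw [hr, Finset.sum_insert (by simp [hp0]), Finset.sum_insert (by simp)]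
  simp only [one_pow, one_mul, Nat.sub_self, pow_zero, Nat.choose_self, Nat.cast_one, Nat.sub_zero,
    Nat.choose_zero_right, mul_one, Nat.cast_id]
  unfold cpN
  rw [Finset.mul_sum]
  have key : ∀ j ∈ Ioo 0 p, s ^ (p - j) * p.choose j = p * ((p.choose j / p) * s ^ (p - j)) := by
    intro j hj
    rw [Finset.mem_Ioo] at hj
    have hd : p ∣ p.choose j := hp.out.dvd_choose_self (by omega) hj.2
    rw [← mul_assoc, Nat.mul_div_cancel' hd, mul_comm]
  rw [Finset.sum_congr rfl key]
  ring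

lemma sum_cpN (p : ℕ) [hp : Fact p.Prime] :
    ∑ t ∈ range (p - 1), cpN p (t + 1) + 1 = p ^ (p - 1) := by
  have hp1 : 1 ≤ p := hp.out.one_le
  have h : ∀ t, (t + 2) ^ p = (t + 1) ^ p + 1 + p * cpN p (t + 1) := by
    intro t
    have := one_add_pow_eq p (t + 1)
    rwa [show 1 + (t + 1) = t + 2 by ring] at this
  have hA : ∑ t ∈ range (p - 1), (t + 2) ^ p =
      ∑ t ∈ range (p - 1), (t + 1) ^ p + (p - 1) + p * ∑ t ∈ range (p - 1), cpN p (t + 1) := by
    rw [Finset.sum_congr rfl fun t _ => h t, Finset.sum_add_distrib, Finset.sum_add_distrib,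
      Finset.sum_const, Finset.card_range, smul_eq_mul, mul_one, Finset.mul_sum]
  have hB1 := Finset.sum_range_succ' (fun t => (t + 1) ^ p) (p - 1)
  have hB2 := Finset.sum_range_succ (fun t => (t + 1) ^ p) (p - 1)
  simp only [zero_add, one_pow, Nat.sub_add_cancel hp1] at hB1 hB2
  have hpp : p ^ p = p * p ^ (p - 1) := by
    rw [← pow_succ', Nat.sub_add_cancel hp1]
  have e : p * (∑ t ∈ range (p - 1), cpN p (t + 1) + 1) = p * p ^ (p - 1) := by
    rw [← hpp, mul_add, mul_one]
    have h5 : ∑ t ∈ range (p - 1), (t + 1 + 1) ^ p = ∑ t ∈ range (p - 1), (t + 2) ^ p := rfl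
    rw [h5] at hB1
    omega
  exact Nat.eq_of_mul_eq_mul_left hp.out.pos e

lemma natCast_pow_pow {p : ℕ} [hp : Fact p.Prime] [CharP R p] (s i : ℕ) :
    ((s : ℕ) : R) ^ (p ^ i) = s := by
  induction i with
  | zero => rw [pow_zero, pow_one]
  | succ i ih =>
    rw [pow_succ, pow_mul, ih]
    have := map_natCast (frobenius R p) s
    rwa [frobenius_def] at this

lemma sig_expand_Cp {p : ℕ} [hp : Fact p.Prime] [CharP R p] (s i : ℕ) :
    sig s (MvPolynomial.expand (p ^ i) (Cp p R)) =
      Polynomial.C ((cpN p s : ℕ) : R) * Polynomial.X ^ (p ^ i * p) := by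
  unfold sig
  rw [MvPolynomial.aeval_expand]
  unfold Cp cpN
  rw [map_sum, Nat.cast_sum, map_sum, Finset.sum_mul]
  refine Finset.sum_congr rfl fun j hj => ?_
  rw [Finset.mem_Ioo] at hj
  rw [map_mul, map_mul, map_pow, map_pow, MvPolynomial.aeval_C, MvPolynomial.aeval_X,
    MvPolynomial.aeval_X]
  simp only [Pi.pow_apply, Matrix.cons_val_zero, Matrix.cons_val_one]
  rw [mul_pow, ← Polynomial.C_pow, natCast_pow_pow, Nat.cast_mul, Nat.cast_pow, map_mul, map_pow,
    Polynomial.algebraMap_apply, Algebra.algebraMap_self_apply]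
  have e : p ^ i * p = p ^ i * j + p ^ i * (p - j) := by
    rw [← mul_add]
    congr 1
    omega
  rw [e, pow_add, pow_mul, pow_mul]
  ring

lemma Lam_expand_Cp {p : ℕ} [hp : Fact p.Prime] [CharP R p] (i : ℕ) :
    Lam p (MvPolynomial.expand (p ^ i) (Cp p R)) = -Polynomial.X ^ (p ^ (i + 1)) := by
  rw [Lam_apply]
  simp only [sig_expand_Cp]
  rw [← Finset.sum_mul, ← map_sum, ← Nat.cast_sum, ← pow_succ]
  have h := sum_cpN p
  have h2 : ((∑ t ∈ range (p - 1), cpN p (t + 1) : ℕ) : R) = -1 := by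
    have h3 := congrArg (Nat.cast : ℕ → R) h
    rw [Nat.cast_add, Nat.cast_one, Nat.cast_pow, CharP.cast_eq_zero R p,
      zero_pow (by have := hp.out.two_le; omega)] at h3
    linear_combination h3
  rw [h2, map_neg, map_one, neg_one_mul]

/-! ### the invariant of a split cocycle -/

lemma prod_one_add {A : Type*} [CommRing A] {c : A} (hcc : c * c = 0) {ι : Type*} (s : Finset ι)
    (x : ι → A) : ∏ i ∈ s, (1 + c * x i) = 1 + c * ∑ i ∈ s, x i := by
  classical
  induction s using Finset.induction_on with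
  | empty => simp
  | insert i s hi ih => rw [Finset.prod_insert hi, Finset.sum_insert hi, ih, one_add_mul' hcc]

theorem Lam_spl {p : ℕ} [hp : Fact p.Prime] [CharP R p] {a : R} (haa : a * a = 0)
    {f : Polynomial R} (hf : IsUnit f) (hf0 : f.coeff 0 = 1) {μ : MvPolynomial (Fin 2) R}
    (hs : Spl f (1 + MvPolynomial.C a * μ)) :
    f ^ p * (1 + Polynomial.C a * Lam p μ) = 1 := by
  have hp1 : 1 ≤ p := hp.out.one_le
  have hcc : (Polynomial.C a : Polynomial R) * Polynomial.C a = 0 := by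
    rw [← map_mul, haa, map_zero]
  have key : ∀ s, phiA (s + 1) f = f * phiA s f * (1 + Polynomial.C a * sig s μ) := by
    intro s
    unfold Spl at hs
    have := congrArg (sig s) hs
    rw [map_mul, map_mul, sig_aeval_add, sig_aeval_X0, sig_aeval_X1, map_add, map_one, map_mul,
      sig_C] at this
    exact this
  obtain ⟨g, hg⟩ : ∃ g : ℕ → Polynomial R, ∀ t, g t = phiA (t + 1) f := ⟨_, fun _ => rfl⟩
  have hgs : ∀ t, g (t + 1) = f * g t * (1 + Polynomial.C a * sig (t + 1) μ) := by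
    intro t
    rw [hg, hg]
    exact key (t + 1)
  have h1 : ∏ t ∈ range (p - 1), g (t + 1) = f ^ (p - 1) * (∏ t ∈ range (p - 1), g t) *
      ∏ t ∈ range (p - 1), (1 + Polynomial.C a * sig (t + 1) μ) := by
    simp only [hgs]
    rw [Finset.prod_mul_distrib, Finset.prod_mul_distrib, Finset.prod_const, Finset.card_range]
  have h2 : (∏ t ∈ range (p - 1), g (t + 1)) * g 0 = (∏ t ∈ range (p - 1), g t) * g (p - 1) := by
    rw [← Finset.prod_range_succ', ← Finset.prod_range_succ]
  have hg0 : g 0 = f := by rw [hg, zero_add, phiA_one]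
  have hgp : g (p - 1) = 1 := by
    rw [hg, Nat.sub_add_cancel hp1, phiA_p, hf0, map_one]
  have hQ : ∏ t ∈ range (p - 1), (1 + Polynomial.C a * sig (t + 1) μ) =
      1 + Polynomial.C a * Lam p μ := by
    rw [prod_one_add hcc, Lam_apply]
  have hu : IsUnit (∏ t ∈ range (p - 1), g t) :=
    Finset.prod_induction g IsUnit (fun _ _ => IsUnit.mul) isUnit_one
      (fun t _ => by rw [hg]; exact hf.map (phiA (t + 1)))
  rw [h1, hQ, hg0, hgp, mul_one] at h2
  apply hu.mul_left_cancel
  rw [mul_one]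
  have hfp : f ^ p = f ^ (p - 1) * f := by
    conv_lhs => rw [← Nat.sub_add_cancel hp1]
    rw [pow_succ]
  rw [hfp]
  linear_combination h2

end Groth.Agent.Helper6.GmE
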