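import Mathlib
import Groth.Agent.Helper6.GmE3
import Groth.Agent.Helper6.GaExp

set_option autoImplicit false
set_option backward.isDefEq.respectTransparency false
set_option backward.isDefEq.respectTransparency.types false

namespace Groth.Agent.Helper6.GmE

open Groth.Agent.Helper6.Laz Groth.Agent.Helper6.GaChar Finset

variable {p : ℕ} [hp : Fact p.Prime] {R : Type*} [CommRing R] [CharP R p]

/-- the truncated exponential is multiplicative up to a multiple of `β ^ p` -/
lemma expp_mul_mod {B : Type*} [CommRing B] [Algebra R B] (β : R) (s t : B) :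
    ∃ W : B, (∑ j ∈ range p, algebraMap R B (E β j) * s ^ j) *
        (∑ j ∈ range p, algebraMap R B (E β j) * t ^ j) =
      ∑ j ∈ range p, algebraMap R B (E β j) * (s + t) ^ j + algebraMap R B (β ^ p) * W := by
  rw [sum_mul_sum]
  obtain ⟨G, hG⟩ : ∃ G : ℕ → ℕ → B, ∀ m l, G m l =
      algebraMap R B (E β m) * s ^ m * (algebraMap R B (E β l) * t ^ l) := ⟨_, fun _ _ => rfl⟩
  simp only [← hG]
  refine ⟨∑ m ∈ range p, ∑ l ∈ range p, if m + l < p then 0 else
    algebraMap R B (Ring.inverse (m.factorial : R) * Ring.inverse (l.factorial : R) *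
      β ^ (m + l - p)) * (s ^ m * t ^ l), ?_⟩
  have hsplit : ∀ m l, G m l = (if m + l < p then G m l else 0) +
      algebraMap R B (β ^ p) * (if m + l < p then 0 else
        algebraMap R B (Ring.inverse (m.factorial : R) * Ring.inverse (l.factorial : R) *
          β ^ (m + l - p)) * (s ^ m * t ^ l)) := by
    intro m l
    by_cases h : m + l < p
    · rw [if_pos h, if_pos h, mul_zero, add_zero]
    · rw [if_neg h, if_neg h, zero_add, hG]
      unfold E
      have h1 : β ^ m * β ^ l = β ^ p * β ^ (m + l - p) := by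
        rw [← pow_add, ← pow_add]
        congr 1
        omega
      have e : Ring.inverse (m.factorial : R) * β ^ m * (Ring.inverse (l.factorial : R) * β ^ l) =
          β ^ p * (Ring.inverse (m.factorial : R) * Ring.inverse (l.factorial : R) *
            β ^ (m + l - p)) := by
        linear_combination (Ring.inverse (m.factorial : R) * Ring.inverse (l.factorial : R)) * h1
      rw [← mul_assoc (algebraMap R B (β ^ p)), ← map_mul, ← e]
      simp only [map_mul]
      ring
  rw [Finset.sum_congr rfl fun m _ => Finset.sum_congr rfl fun l _ => hsplit m l]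
  simp only [Finset.sum_add_distrib, ← Finset.mul_sum]
  congr 1
  rw [← tri_sum p (fun m l => if m + l < p then G m l else 0) (fun m l h => if_neg (by omega))]
  refine sum_congr rfl fun j hj => ?_
  rw [(Commute.all s t).add_pow', mul_sum]
  refine sum_congr rfl fun x hx => ?_
  have hx' : x.1 + x.2 = j := mem_antidiagonal.1 hx
  have hj' : j < p := mem_range.1 hj
  rw [if_pos (by omega), hG]
  have := E_mul_E (p := p) β (m := x.1) (l := x.2) (by omega)
  rw [hx'] at this
  symm
  calc algebraMap R B (E β j) * (j.choose x.1 • (s ^ x.1 * t ^ x.2))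
      = algebraMap R B (((j.choose x.1 : ℕ) : R) * E β j) * (s ^ x.1 * t ^ x.2) := by
        rw [nsmul_eq_mul, map_mul, map_natCast]; ring
    _ = algebraMap R B (E β x.1) * s ^ x.1 * (algebraMap R B (E β x.2) * t ^ x.2) := by
        rw [← this, map_mul]; ring

lemma F_mul_mod (β : R) (i : ℕ) :
    ∃ W : MvPolynomial (Fin 2) R,
      Polynomial.aeval (MvPolynomial.X 0 : MvPolynomial (Fin 2) R) (F p β (p ^ i)) *
        Polynomial.aeval (MvPolynomial.X 1 : MvPolynomial (Fin 2) R) (F p β (p ^ i)) =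
      Polynomial.aeval (MvPolynomial.X 0 + MvPolynomial.X 1 : MvPolynomial (Fin 2) R)
        (F p β (p ^ i)) + MvPolynomial.C (β ^ p) * W := by
  obtain ⟨W, hW⟩ := expp_mul_mod (p := p) (B := MvPolynomial (Fin 2) R) β
    (MvPolynomial.X 0 ^ p ^ i) (MvPolynomial.X 1 ^ p ^ i)
  refine ⟨W, ?_⟩
  rw [aeval_F, aeval_F, aeval_F, add_pow_char_pow, hW, MvPolynomial.algebraMap_eq]

lemma F_pow_p (β : R) (q : ℕ) (hb : β ^ p * β ^ p = 0) :
    (F p β q) ^ p = 1 + Polynomial.C (β ^ p) * Polynomial.X ^ (q * p) := by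
  unfold F
  rw [sum_pow_char]
  have hp2 : 2 ≤ p := hp.out.two_le
  rw [← Finset.sum_subset (Finset.range_subset_range.2 hp2)]
  · rw [Finset.sum_range_succ, Finset.sum_range_one]
    have e0 : (Polynomial.C (E β 0) * Polynomial.X ^ (0 * q) : Polynomial R) ^ p = 1 := by
      rw [E_zero, zero_mul, pow_zero, map_one, one_mul, one_pow]
    have e1 : (Polynomial.C (E β 1) * Polynomial.X ^ (1 * q) : Polynomial R) ^ p =
        Polynomial.C (β ^ p) * Polynomial.X ^ (q * p) := by
      have : E β 1 = β := by simp [E]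
      rw [this, one_mul, mul_pow, ← Polynomial.C_pow, ← pow_mul]
    rw [e0, e1]
  · intro j _ hj
    rw [Finset.mem_range, not_lt] at hj
    rw [mul_pow, ← Polynomial.C_pow]
    have : E β j ^ p = 0 := by
      unfold E
      rw [mul_pow, ← pow_mul, mul_comm j p, pow_mul]
      have h2 : (β ^ p) ^ j = 0 := by
        obtain ⟨k, rfl⟩ : ∃ k, j = 2 + k := ⟨j - 2, by omega⟩
        rw [pow_add, sq, hb, zero_mul]
      rw [h2, mul_zero]
    rw [this, map_zero, zero_mul]

omit [CharP R p] in
lemma F_coeff_zero (β : R) {q : ℕ} (hq : q ≠ 0) : (F p β q).coeff 0 = 1 := by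
  rw [Polynomial.coeff_zero_eq_eval_zero, eval_zero_F β hq]

lemma F_isUnit (β : R) (q : ℕ) (hb : β ^ p * β ^ p = 0) : IsUnit (F p β q) := by
  have h := F_pow_p β q hb
  have hu : IsUnit (F p β q ^ p) := by
    rw [h]
    have hn : IsNilpotent (Polynomial.C (β ^ p) * Polynomial.X ^ (q * p) : Polynomial R) :=
      ⟨2, by rw [sq, mul_mul_mul_comm, ← map_mul, hb, map_zero, zero_mul]⟩
    exact hn.isUnit_one_add
  exact (isUnit_pow_iff hp.out.ne_zero).1 hu

/-- the truncated exponential with `β ^ p = a r` splits a cocycle congruent to `1` modulo `a` -/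
theorem te_mu {a r β : R} (haa : a * a = 0) (hβ : β ^ p = a * r) (i : ℕ) :
    ∃ μ : MvPolynomial (Fin 2) R, Spl (F p β (p ^ i)) (1 + MvPolynomial.C a * μ) := by
  have hb : β ^ p * β ^ p = 0 := by
    rw [hβ]
    linear_combination (r * r) * haa
  obtain ⟨W, hW⟩ := F_mul_mod (p := p) β i
  obtain ⟨f', hff⟩ := (F_isUnit β (p ^ i) hb).exists_right_inv
  refine ⟨-(MvPolynomial.C r * W * Polynomial.aeval
    (MvPolynomial.X 0 + MvPolynomial.X 1 : MvPolynomial (Fin 2) R) f'), ?_⟩
  unfold Spl
  have huu : Polynomial.aeval (MvPolynomial.X 0 + MvPolynomial.X 1 : MvPolynomial (Fin 2) R)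
      (F p β (p ^ i)) * Polynomial.aeval
      (MvPolynomial.X 0 + MvPolynomial.X 1 : MvPolynomial (Fin 2) R) f' = 1 := by
    rw [← map_mul, hff, map_one]
  rw [hβ, map_mul] at hW
  have hcc := C_mul_C_eq_zero (σ := Fin 2) haa
  generalize Polynomial.aeval (MvPolynomial.X 0 + MvPolynomial.X 1 : MvPolynomial (Fin 2) R)
    (F p β (p ^ i)) = u at *
  generalize Polynomial.aeval (MvPolynomial.X 0 + MvPolynomial.X 1 : MvPolynomial (Fin 2) R)
    f' = u' at *
  generalize Polynomial.aeval (MvPolynomial.X 0 : MvPolynomial (Fin 2) R) (F p β (p ^ i)) = a0 at *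
  generalize Polynomial.aeval (MvPolynomial.X 1 : MvPolynomial (Fin 2) R) (F p β (p ^ i)) = a1 at *
  linear_combination (-(1 + MvPolynomial.C a * (-(MvPolynomial.C r * W * u')))) * hW +
    (MvPolynomial.C a * MvPolynomial.C r * W) * huu +
    ((MvPolynomial.C r * W) ^ 2 * u') * hcc

end Groth.Agent.Helper6.GmE
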