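import Mathlib
import Groth.Agent.Helper6.GmE4

set_option autoImplicit false
set_option backward.isDefEq.respectTransparency false
set_option backward.isDefEq.respectTransparency.types false

namespace Groth.Agent.Helper6.GmE

open Groth.Agent.Helper6.Laz Groth.Agent.Helper6.GaChar Finset

variable {p : ℕ} [hp : Fact p.Prime] {R : Type*} [CommRing R] [CharP R p]

/-- `Λ` of a Lazard normal form -/
lemma Lam_normal (G : Polynomial R) (N : ℕ) (r : ℕ → R) :
    Lam p (dl G + ∑ i ∈ range N, MvPolynomial.C (r i) *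
        MvPolynomial.expand (p ^ i) (Cp p R)) =
      Polynomial.C (G.coeff 0) -
        ∑ i ∈ range N, Polynomial.C (r i) * Polynomial.X ^ (p ^ (i + 1)) := by
  rw [map_add, map_sum, Lam_dl, sub_eq_add_neg, ← Finset.sum_neg_distrib]
  congr 1
  refine Finset.sum_congr rfl fun i _ => ?_
  rw [Lam_C_mul, Lam_expand_Cp, mul_neg]

/-- the principal square-zero step -/
theorem psz (hFr : Function.Surjective (frobenius R p)) {a : R} (haa : a * a = 0)
    {ν : MvPolynomial (Fin 2) R} (hν : ACoc a ν) : Gd a ν := by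
  obtain ⟨G, N, r, h1⟩ := lz (p := p) a ν hν
  choose β hβ using fun i : ℕ => hFr (a * r i)
  have hβ' : ∀ i, β i ^ p = a * r i := fun i => by
    rw [← frobenius_def]
    exact hβ i
  have hbb : ∀ i, β i ^ p * β i ^ p = 0 := fun i => by
    rw [hβ']
    linear_combination (r i * r i) * haa
  choose μ hμ using fun i : ℕ => te_mu (p := p) haa (hβ' i) i
  have hq : ∀ i : ℕ, p ^ i ≠ 0 := fun i => pow_ne_zero i hp.out.ne_zero
  have hfu : ∀ i, IsUnit (F p (β i) (p ^ i)) := fun i => F_isUnit (β i) (p ^ i) (hbb i)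
  have hμA : ∀ i, ACoc a (μ i) := fun i =>
    acoc_of_one_add haa ((hμ i).mcoc (hfu i)) ((hμ i).msym (hfu i))
  have hμG : ∀ i, Gd a (μ i) := fun i => ⟨_, hfu i, hμ i⟩
  have hcc : (Polynomial.C a : Polynomial R) * Polynomial.C a = 0 := by
    rw [← map_mul, haa, map_zero]
  have hμL : ∀ i, Polynomial.C a * Lam p (μ i) =
      -(Polynomial.C a * (Polynomial.C (r i) * Polynomial.X ^ (p ^ (i + 1)))) := by
    intro i
    have h := Lam_spl (p := p) haa (hfu i) (F_coeff_zero (β i) (hq i)) (hμ i)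
    rw [F_pow_p (β i) (p ^ i) (hbb i), hβ' i, map_mul, ← pow_succ] at h
    linear_combination h - (Polynomial.C (r i) * Polynomial.X ^ (p ^ (i + 1)) * Lam p (μ i)) * hcc
  obtain ⟨ν', hν'def⟩ : ∃ ν' : MvPolynomial (Fin 2) R, ν' = ν - dl G - ∑ i ∈ range N, μ i :=
    ⟨_, rfl⟩
  have hν' : ACoc a ν' := by
    rw [hν'def]
    exact (hν.sub (acoc_dl a G)).sub (ACoc.sum _ fun i _ => hμA i)
  obtain ⟨G', N', r', h2⟩ := lz (p := p) a ν' hν'
  have hL1 : Polynomial.C a * Lam p ν' = 0 := by
    have eν : Lam p ν' = Lam p ν - Lam p (dl G) - ∑ i ∈ range N, Lam p (μ i) := by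
      rw [hν'def, map_sub, map_sub, map_sum]
    have e1 := congrArg (Lam p) h1
    rw [Lam_C_mul, Lam_C_mul, Lam_normal] at e1
    have e2 : Polynomial.C a * ∑ i ∈ range N, Lam p (μ i) =
        -(Polynomial.C a * ∑ i ∈ range N, Polynomial.C (r i) * Polynomial.X ^ (p ^ (i + 1))) := by
      rw [Finset.mul_sum, Finset.sum_congr rfl fun i _ => hμL i, Finset.sum_neg_distrib,
        Finset.mul_sum]
    rw [eν, Lam_dl]
    linear_combination e1 - e2
  have hL2 : Polynomial.C a * Lam p ν' = Polynomial.C a * (Polynomial.C (G'.coeff 0) -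
      ∑ i ∈ range N', Polynomial.C (r' i) * Polynomial.X ^ (p ^ (i + 1))) := by
    have e := congrArg (Lam p) h2
    rwa [Lam_C_mul, Lam_C_mul, Lam_normal] at e
  have hr' : ∀ j ∈ range N', a * r' j = 0 := by
    intro j hj
    have e := congrArg (fun q => Polynomial.coeff q (p ^ (j + 1))) (hL2.symm.trans hL1)
    simp only [Polynomial.coeff_C_mul, Polynomial.coeff_sub, Polynomial.coeff_zero,
      Polynomial.finset_sum_coeff, Polynomial.coeff_X_pow, mul_ite, mul_one, mul_zero] at e
    rw [Polynomial.coeff_C, if_neg (pow_ne_zero _ hp.out.ne_zero), zero_sub] at e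
    have hinj : ∀ i, (p ^ (j + 1) = p ^ (i + 1)) ↔ j = i := fun i => by
      rw [(Nat.pow_right_injective hp.out.two_le).eq_iff]
      omega
    simp only [hinj] at e
    rw [Finset.sum_ite_eq, if_pos hj, mul_neg, neg_eq_zero] at e
    exact e
  have h3 : MvPolynomial.C a * ν' = MvPolynomial.C a * dl G' := by
    rw [h2, mul_add, Finset.mul_sum, Finset.sum_eq_zero, add_zero]
    intro i hi
    rw [← mul_assoc, ← map_mul, hr' i hi, map_zero, zero_mul]
  have hdecomp : ν = dl G + ∑ i ∈ range N, μ i + ν' := by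
    rw [hν'def]
    ring
  rw [hdecomp]
  exact Gd.add haa (Gd.add haa (gd_dl haa G) (Gd.sum haa _ fun i _ => hμG i))
    (Gd.congr h3.symm (gd_dl haa G'))

end Groth.Agent.Helper6.GmE
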