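import Mathlib
import Groth.Agent.Helper6.GmE5

set_option autoImplicit false
set_option backward.isDefEq.respectTransparency false
set_option backward.isDefEq.respectTransparency.types false

namespace Groth.Agent.Helper6.GmE

open Groth.Agent.Helper6.Laz Groth.Agent.Helper6.GaChar Finset

universe u

section basics

variable {R : Type*} [CommRing R]

lemma MCoc.mul {h k : MvPolynomial (Fin 2) R} (hh : MCoc h) (hk : MCoc k) : MCoc (h * k) := by
  unfold MCoc at *
  rw [map_mul, map_mul, map_mul, map_mul]
  generalize MvPolynomial.aeval ![(MvPolynomial.X 1 : MvPolynomial (Fin 3) R),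
    MvPolynomial.X 2] h = Ah at *
  generalize MvPolynomial.aeval ![(MvPolynomial.X 0 : MvPolynomial (Fin 3) R),
    MvPolynomial.X 1 + MvPolynomial.X 2] h = Bh at *
  generalize MvPolynomial.aeval ![(MvPolynomial.X 0 + MvPolynomial.X 1 :
    MvPolynomial (Fin 3) R), MvPolynomial.X 2] h = Ch at *
  generalize MvPolynomial.aeval ![(MvPolynomial.X 0 : MvPolynomial (Fin 3) R),
    MvPolynomial.X 1] h = Dh at *
  generalize MvPolynomial.aeval ![(MvPolynomial.X 1 : MvPolynomial (Fin 3) R),
    MvPolynomial.X 2] k = Ak at *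
  generalize MvPolynomial.aeval ![(MvPolynomial.X 0 : MvPolynomial (Fin 3) R),
    MvPolynomial.X 1 + MvPolynomial.X 2] k = Bk at *
  generalize MvPolynomial.aeval ![(MvPolynomial.X 0 + MvPolynomial.X 1 :
    MvPolynomial (Fin 3) R), MvPolynomial.X 2] k = Ck at *
  generalize MvPolynomial.aeval ![(MvPolynomial.X 0 : MvPolynomial (Fin 3) R),
    MvPolynomial.X 1] k = Dk at *
  linear_combination (Ak * Bk) * hh + (Ch * Dh) * hk

lemma MSym.mul {h k : MvPolynomial (Fin 2) R} (hh : MSym h) (hk : MSym k) : MSym (h * k) := by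
  unfold MSym at *
  rw [map_mul, hh, hk]

lemma spl_one_iff {x : MvPolynomial (Fin 2) R} (h : Spl 1 x) : x = 1 := by
  unfold Spl at h
  rw [map_one, map_one, map_one, one_mul, one_mul] at h
  exact h.symm

lemma Spl.map {S : Type*} [CommRing S] (φ : R →+* S) {f : Polynomial R}
    {h : MvPolynomial (Fin 2) R} (hs : Spl f h) :
    Spl (f.map φ) (MvPolynomial.map φ h) := by
  unfold Spl at *
  have := congrArg (MvPolynomial.map φ) hs
  rw [map_mul, map_mul, map_aeval_poly, map_aeval_poly, map_aeval_poly, map_add,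
    MvPolynomial.map_X, MvPolynomial.map_X] at this
  exact this

lemma MCoc.map {S : Type*} [CommRing S] (φ : R →+* S) {h : MvPolynomial (Fin 2) R}
    (hh : MCoc h) : MCoc (MvPolynomial.map φ h) := by
  unfold MCoc at *
  have := congrArg (MvPolynomial.map φ) hh
  rw [map_mul, map_mul,
    map_aeval_comm φ ![(MvPolynomial.X 1 : MvPolynomial (Fin 3) R), MvPolynomial.X 2]
      ![(MvPolynomial.X 1 : MvPolynomial (Fin 3) S), MvPolynomial.X 2]
      (by intro i; fin_cases i <;> simp),
    map_aeval_comm φ ![(MvPolynomial.X 0 : MvPolynomial (Fin 3) R),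
        MvPolynomial.X 1 + MvPolynomial.X 2]
      ![(MvPolynomial.X 0 : MvPolynomial (Fin 3) S), MvPolynomial.X 1 + MvPolynomial.X 2]
      (by intro i; fin_cases i <;> simp),
    map_aeval_comm φ ![(MvPolynomial.X 0 + MvPolynomial.X 1 : MvPolynomial (Fin 3) R),
        MvPolynomial.X 2]
      ![(MvPolynomial.X 0 + MvPolynomial.X 1 : MvPolynomial (Fin 3) S), MvPolynomial.X 2]
      (by intro i; fin_cases i <;> simp),
    map_aeval_comm φ ![(MvPolynomial.X 0 : MvPolynomial (Fin 3) R), MvPolynomial.X 1]
      ![(MvPolynomial.X 0 : MvPolynomial (Fin 3) S), MvPolynomial.X 1]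
      (by intro i; fin_cases i <;> simp)] at this
  exact this

lemma MSym.map {S : Type*} [CommRing S] (φ : R →+* S) {h : MvPolynomial (Fin 2) R}
    (hh : MSym h) : MSym (MvPolynomial.map φ h) := by
  unfold MSym at *
  rw [← map_sw, hh]

lemma exists_mv_of_map_eq_one {σ : Type*} {a : R} {x : MvPolynomial σ R}
    (h : MvPolynomial.map (Ideal.Quotient.mk (Ideal.span {a})) x = 1) :
    ∃ μ, x = 1 + MvPolynomial.C a * μ := by
  have hm : x - 1 ∈ Ideal.map (MvPolynomial.C : R →+* MvPolynomial σ R) (Ideal.span {a}) := by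
    rw [MvPolynomial.mem_map_C_iff]
    intro m
    rw [← Ideal.Quotient.eq_zero_iff_mem, ← MvPolynomial.coeff_map, map_sub, h, map_one, sub_self,
      MvPolynomial.coeff_zero]
  rw [Ideal.map_span, Set.image_singleton, Ideal.mem_span_singleton'] at hm
  obtain ⟨μ, hμ⟩ := hm
  exact ⟨μ, by linear_combination -hμ⟩

lemma exists_poly_of_map_eq_one {a : R} {x : Polynomial R}
    (h : x.map (Ideal.Quotient.mk (Ideal.span {a})) = 1) :
    ∃ w, x = 1 + Polynomial.C a * w := by
  have hm : x - 1 ∈ Ideal.map (Polynomial.C : R →+* Polynomial R) (Ideal.span {a}) := by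
    rw [Ideal.mem_map_C_iff]
    intro n
    rw [← Ideal.Quotient.eq_zero_iff_mem, ← Polynomial.coeff_map, Polynomial.map_sub, h,
      Polynomial.map_one, sub_self, Polynomial.coeff_zero]
  rw [Ideal.map_span, Set.image_singleton, Ideal.mem_span_singleton'] at hm
  obtain ⟨w, hw⟩ := hm
  exact ⟨w, by linear_combination -hw⟩

lemma isUnit_of_map_quot {a : R} (haa : a * a = 0) {f : Polynomial R}
    (h : IsUnit (f.map (Ideal.Quotient.mk (Ideal.span {a})))) : IsUnit f := by
  obtain ⟨gb, hg⟩ := h.exists_right_inv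
  obtain ⟨g, rfl⟩ := Polynomial.map_surjective _ Ideal.Quotient.mk_surjective gb
  rw [← Polynomial.map_mul] at hg
  obtain ⟨w, hw⟩ := exists_poly_of_map_eq_one hg
  have hn : IsNilpotent (Polynomial.C a * w) :=
    ⟨2, by rw [sq, mul_mul_mul_comm, ← map_mul, haa, map_zero, zero_mul]⟩
  have : IsUnit (f * g) := by
    rw [hw]
    exact hn.isUnit_one_add
  exact isUnit_of_mul_isUnit_left this

end basics

section main

variable {p : ℕ} [hp : Fact p.Prime]

theorem step {R : Type*} [CommRing R] [CharP R p] (hFr : Function.Surjective (frobenius R p))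
    {a : R} (haa : a * a = 0) {h : MvPolynomial (Fin 2) R} (hc : MCoc h) (hsy : MSym h)
    (hbar : Good (MvPolynomial.map (Ideal.Quotient.mk (Ideal.span {a})) h)) : Good h := by
  obtain ⟨fb, hfbu, hfbs⟩ := hbar
  obtain ⟨f, rfl⟩ := Polynomial.map_surjective _ Ideal.Quotient.mk_surjective fb
  have hfu : IsUnit f := isUnit_of_map_quot haa hfbu
  obtain ⟨f', hff⟩ := hfu.exists_right_inv
  have hff' : f' * f = 1 := by rw [mul_comm]; exact hff
  have hf'u : IsUnit f' := IsUnit.of_mul_eq_one f hff'
  have hk := spl_partner hff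
  have hk' := spl_partner hff'
  have hkk : partner f f' * partner f' f = 1 := by
    have := hk.mul hk'
    rw [hff] at this
    exact spl_one_iff this
  have h2c : MCoc (h * partner f' f) := hc.mul (hk'.mcoc hf'u)
  have h2s : MSym (h * partner f' f) := hsy.mul (hk'.msym hf'u)
  have h2m : MvPolynomial.map (Ideal.Quotient.mk (Ideal.span {a})) (h * partner f' f) = 1 := by
    rw [map_mul]
    have := hfbs.mul (hk'.map (Ideal.Quotient.mk (Ideal.span {a})))
    rw [← Polynomial.map_mul, hff, Polynomial.map_one] at this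
    exact spl_one_iff this
  obtain ⟨μ, hμ⟩ := exists_mv_of_map_eq_one h2m
  rw [hμ] at h2c h2s
  have hG : Gd a μ := psz (p := p) hFr haa (acoc_of_one_add haa h2c h2s)
  have hGk : Good (partner f f') := ⟨f, hfu, hk⟩
  unfold Gd at hG
  have h3 := Good.mul hG hGk
  rw [← hμ] at h3
  have e : h * partner f' f * partner f f' = h := by
    rw [mul_assoc, mul_comm (partner f' f), hkk, mul_one]
  rwa [e] at h3

lemma charP_quot {R : Type*} [CommRing R] [CharP R p] {a : R} (haa : a * a = 0) :
    CharP (R ⧸ Ideal.span {a}) p :=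
  CharP.quotient' p _ (by
    intro n hn
    by_cases hpn : p ∣ n
    · exact (CharP.cast_eq_zero_iff R p n).2 hpn
    · have hu : IsUnit ((n : ℕ) : R) := (CharP.isUnit_natCast_iff hp.out).2 hpn
      rw [Ideal.mem_span_singleton'] at hn
      obtain ⟨z, hz⟩ := hn
      have h0 : ((n : ℕ) : R) * ((n : ℕ) : R) = 0 := by
        rw [← hz]
        linear_combination (z * z) * haa
      exact (hu.mul_right_eq_zero).1 h0)

lemma frob_quot {R : Type*} [CommRing R] [CharP R p] (I : Ideal R) [CharP (R ⧸ I) p]
    (hFr : Function.Surjective (frobenius R p)) :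
    Function.Surjective (frobenius (R ⧸ I) p) := by
  intro y
  obtain ⟨y, rfl⟩ := Ideal.Quotient.mk_surjective y
  obtain ⟨z, rfl⟩ := hFr y
  exact ⟨Ideal.Quotient.mk I z, by rw [frobenius_def, frobenius_def, map_pow]⟩

lemma good_of_zero {R : Type*} [CommRing R] {ι : Type} (x : ι → R) (hx : ∀ i, x i = 0)
    {h : MvPolynomial (Fin 2) R}
    (hco : ∀ m, MvPolynomial.coeff m (h - 1) ∈ Ideal.span (Set.range x)) : Good h := by
  have hb : Ideal.span (Set.range x) = ⊥ := by
    rw [Ideal.span_eq_bot]
    rintro _ ⟨i, rfl⟩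
    exact hx i
  have h1 : h - 1 = 0 := by
    ext m
    have := hco m
    rw [hb, Ideal.mem_bot] at this
    rw [this, MvPolynomial.coeff_zero]
  rw [sub_eq_zero] at h1
  rw [h1]
  exact good_one

theorem good_of_nilp : ∀ (E : ℕ) (R : Type u) [CommRing R] [CharP R p],
    Function.Surjective (frobenius R p) → ∀ (ι : Type) [Fintype ι] (x : ι → R) (e : ι → ℕ),
    (∀ i, x i ^ e i = 0) → ∑ i, e i ≤ E → ∀ h : MvPolynomial (Fin 2) R, MCoc h → MSym h →
    (∀ m, MvPolynomial.coeff m (h - 1) ∈ Ideal.span (Set.range x)) → Good h := by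
  intro E
  induction E with
  | zero =>
    intro R _ _ hFr ι _ x e hxe hsum h hc hs hco
    by_cases hx : ∀ i, x i = 0
    · exact good_of_zero x hx hco
    · exfalso
      push_neg at hx
      obtain ⟨i₀, hi₀⟩ := hx
      have h1 : e i₀ ≤ ∑ i, e i :=
        Finset.single_le_sum (fun i _ => Nat.zero_le (e i)) (Finset.mem_univ i₀)
      have h2 : e i₀ = 0 := by omega
      have h3 := hxe i₀
      rw [h2, pow_zero] at h3
      exact hi₀ (by rw [← mul_one (x i₀), h3, mul_zero])
  | succ E ih =>
    intro R _ _ hFr ι _ x e hxe hsum h hc hs hco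
    classical
    by_cases hx : ∀ i, x i = 0
    · exact good_of_zero x hx hco
    · push_neg at hx
      obtain ⟨i₀, hi₀⟩ := hx
      have he2 : 2 ≤ e i₀ := by
        by_contra hlt
        have h01 : e i₀ = 0 ∨ e i₀ = 1 := by omega
        rcases h01 with h0 | h1
        · have h3 := hxe i₀
          rw [h0, pow_zero] at h3
          exact hi₀ (by rw [← mul_one (x i₀), h3, mul_zero])
        · have h3 := hxe i₀
          rw [h1, pow_one] at h3
          exact hi₀ h3
      obtain ⟨a, ha⟩ : ∃ a : R, a = x i₀ ^ (e i₀ - 1) := ⟨_, rfl⟩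
      have haa : a * a = 0 := by
        rw [ha, ← pow_add]
        have : e i₀ - 1 + (e i₀ - 1) = e i₀ + (e i₀ - 2) := by omega
        rw [this, pow_add, hxe i₀, zero_mul]
      haveI : CharP (R ⧸ Ideal.span {a}) p := charP_quot haa
      have hFr' : Function.Surjective (frobenius (R ⧸ Ideal.span {a}) p) :=
        frob_quot (Ideal.span {a}) hFr
      apply step hFr haa hc hs
      refine ih (R ⧸ Ideal.span {a}) hFr' ι (fun i => Ideal.Quotient.mk (Ideal.span {a}) (x i))
        (Function.update e i₀ (e i₀ - 1)) ?_ ?_ _ (hc.map _) (hs.map _) ?_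
      · intro i
        by_cases hi : i = i₀
        · subst hi
          rw [Function.update_self, ← map_pow, ← ha]
          exact Ideal.Quotient.eq_zero_iff_mem.2 (Ideal.mem_span_singleton_self a)
        · rw [Function.update_of_ne hi, ← map_pow, hxe i, map_zero]
      · rw [Finset.sum_update_of_mem (Finset.mem_univ i₀), Finset.sdiff_singleton_eq_erase]
        have := Finset.add_sum_erase Finset.univ e (Finset.mem_univ i₀)
        omega
      · intro m
        have e1 : MvPolynomial.coeff m
            (MvPolynomial.map (Ideal.Quotient.mk (Ideal.span {a})) h - 1) =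
            Ideal.Quotient.mk (Ideal.span {a}) (MvPolynomial.coeff m (h - 1)) := by
          rw [← MvPolynomial.coeff_map, map_sub, map_one]
        rw [e1]
        have h5 := Ideal.mem_map_of_mem (Ideal.Quotient.mk (Ideal.span {a})) (hco m)
        rwa [Ideal.map_span, ← Set.range_comp] at h5

/-- Every symmetric multiplicative 2-cocycle `h(X,Y)` with `h(X,0) = 1` on the additive group,
over a ring of characteristic `p` with surjective Frobenius, is a coboundary. -/
theorem main (R : Type u) [CommRing R] [CharP R p]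
    (hF : Function.Surjective (frobenius R p)) (h : MvPolynomial (Fin 2) R) (hu : IsUnit h)
    (h0 : MvPolynomial.aeval ![(MvPolynomial.X 0 : MvPolynomial (Fin 2) R), 0] h = 1)
    (hsymm : MvPolynomial.aeval ![(MvPolynomial.X 1 : MvPolynomial (Fin 2) R),
      MvPolynomial.X 0] h = h)
    (hcoc : MCoc h) : Good h := by
  classical
  rw [MvPolynomial.isUnit_iff] at hu
  have hc0 : MvPolynomial.coeff 0 h = 1 := by
    have e := congrArg (MvPolynomial.aeval (0 : Fin 2 → R)) h0
    have e2 : MvPolynomial.aeval (0 : Fin 2 → R)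
        (MvPolynomial.aeval ![(MvPolynomial.X 0 : MvPolynomial (Fin 2) R), 0] h) =
        MvPolynomial.aeval (0 : Fin 2 → R) h := by
      have h5 := DFunLike.congr_fun (MvPolynomial.comp_aeval (R := R)
        (f := ![(MvPolynomial.X 0 : MvPolynomial (Fin 2) R), 0])
        (MvPolynomial.aeval (0 : Fin 2 → R))) h
      rw [AlgHom.comp_apply] at h5
      rw [h5]
      congr 2
      funext i
      fin_cases i <;> simp
    rw [e2, map_one, MvPolynomial.aeval_zero, Algebra.algebraMap_self_apply] at e
    rwa [MvPolynomial.constantCoeff_eq] at e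
  have hnil : ∀ m, IsNilpotent (MvPolynomial.coeff m (h - 1)) := by
    intro m
    by_cases hm : m = 0
    · subst hm
      rw [MvPolynomial.coeff_sub, hc0, MvPolynomial.coeff_zero_one, sub_self]
      exact IsNilpotent.zero
    · rw [MvPolynomial.coeff_sub, MvPolynomial.coeff_one, if_neg (Ne.symm hm), sub_zero]
      exact hu.2 m hm
  choose e he using fun i : {m // m ∈ (h - 1).support} => hnil i.1
  refine good_of_nilp (p := p) (∑ i, e i) R hF {m // m ∈ (h - 1).support}
    (fun i => MvPolynomial.coeff i.1 (h - 1)) e he le_rfl h hcoc hsymm ?_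
  intro m
  by_cases hm : m ∈ (h - 1).support
  · exact Ideal.subset_span ⟨⟨m, hm⟩, rfl⟩
  · rw [MvPolynomial.notMem_support_iff.1 hm]
    exact zero_mem _

end main

end Groth.Agent.Helper6.GmE
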