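import Mathlib
import Groth.Prelude.Def_CAlg
import Groth.Agent.Helper6.GorenFinDim
import Groth.Agent.Helper1.TorCrit

/-!
# Reflexive modules over a one-dimensional Gorenstein ring have `Ext^1(M, S) = 0`
-/

set_option autoImplicit false
universe u

namespace Groth.Agent.Helper6.GorenRefl

open CategoryTheory Abelian
open Groth.Agent.Helper1.TorLib

variable (S : Type u) [CommRing S] [IsNoetherianRing S]
  (M : Type u) [AddCommGroup M] [Module S M] [Module.Finite S M]

/-- a torsionless finite module embeds in a finite free module -/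
theorem exists_embedding (h : Function.Injective (Module.Dual.eval S M)) :
    ∃ (a : ℕ) (ι : M →ₗ[S] (Fin a → S)), Function.Injective ι := by
  obtain ⟨a, π, hπ⟩ := Module.Finite.exists_fin' S (Module.Dual S M)
  refine ⟨a, LinearMap.pi fun i => π (Pi.single i 1), ?_⟩
  rw [injective_iff_map_eq_zero]
  intro m hm
  apply (injective_iff_map_eq_zero _).mp h
  ext φ
  obtain ⟨v, rfl⟩ := hπ φ
  show π v m = 0
  have hv : v = ∑ i, v i • (Pi.single i 1 : Fin a → S) := by
    ext j
    simp [Finset.sum_apply, Pi.single_apply]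
  rw [hv, map_sum, LinearMap.sum_apply]
  apply Finset.sum_eq_zero
  intro i _
  rw [map_smul, LinearMap.smul_apply]
  have := congrFun hm i
  simp only [LinearMap.pi_apply, Pi.zero_apply] at this
  rw [this, smul_zero]

theorem main (hG : LocCoh.IsGorensteinRing S) (hdim : ringKrullDim S = 1)
    [Module.IsReflexive S M] :
    Subsingleton (Ext (ModuleCat.of S M) (ModuleCat.of S S) 1) := by
  obtain ⟨a, ι, hι⟩ := exists_embedding S M (Module.bijective_dual_eval S M).1
  have hinj : HasInjectiveDimensionLE (ModuleCat.of S S) 1 :=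
    Groth.Agent.Helper6.GorenFinDim.injdim_le S hG 1 (by rw [hdim]; rfl)
  have hS := scOfLinear_shortExact ι (LinearMap.range ι).mkQ hι
    (Submodule.mkQ_surjective _) (LinearMap.exact_map_mkQ_range ι)
  haveI : Projective (scOfLinear ι (LinearMap.range ι).mkQ (LinearMap.exact_map_mkQ_range ι)).X₂ :=
    (inferInstance : Projective (ModuleCat.of S (Fin a → S)))
  refine ⟨fun x y => ?_⟩
  have key : ∀ z : Ext (ModuleCat.of S M) (ModuleCat.of S S) 1, z = 0 := by
    intro z
    have h2 : hS.extClass.comp z (rfl : 1 + 1 = 2) = 0 := by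
      haveI : Subsingleton (Ext (scOfLinear ι (LinearMap.range ι).mkQ
          (LinearMap.exact_map_mkQ_range ι)).X₃ (ModuleCat.of S S) 2) :=
        HasInjectiveDimensionLT.subsingleton (ModuleCat.of S S) 2 2 le_rfl _
      exact Subsingleton.elim _ _
    obtain ⟨w, hw⟩ := Ext.contravariant_sequence_exact₁ hS (ModuleCat.of S S) z rfl h2
    rw [← hw, Ext.eq_zero_of_projective w, Ext.comp_zero]
    rfl
  rw [key x, key y]

end Groth.Agent.Helper6.GorenRefl
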