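import Mathlib
import Groth.Agent.Helper9.HilbB

set_option autoImplicit false
set_option linter.style.haveILetI false
set_option linter.unusedSectionVars false
set_option linter.unusedVariables false
set_option linter.unusedSimpArgs false

/-!
# Graded lattices with operators: stable families are eventually generated
(a consequence of the abstract graded Hilbert basis theorem `Helper9.HilbB.HB`)
-/

namespace Groth.Agent.Helper6.GrHA

open Groth.Agent.Helper9 Groth.Agent.Helper9.HilbB

universe u₁ u₂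

variable {ι : Type u₁} {L : ℕ → Type u₂} [∀ q, Lattice (L q)] [∀ q, OrderBot (L q)]
  (O : Ops ι L) (l : List ι)

theorem ssup_mono {α : Type*} [SemilatticeSup α] [OrderBot α] {l : List ι} {f g : ι → α}
    (h : ∀ j ∈ l, f j ≤ g j) : ssup l f ≤ ssup l g :=
  ssup_le fun j hj => (h j hj).trans (le_ssup hj)

/-- keep the degrees `≤ d`, generate above -/
def trunc (N : ∀ q, L q) (d : ℕ) : ∀ q, L q
  | 0 => N 0
  | q + 1 => if q + 1 ≤ d then N (q + 1) else ssup l (fun j => O.τ j q (trunc N d q))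

variable {O l}

theorem trunc_zero (N : ∀ q, L q) (d : ℕ) : trunc O l N d 0 = N 0 := rfl

theorem trunc_succ_of_le (N : ∀ q, L q) {d q : ℕ} (h : q + 1 ≤ d) :
    trunc O l N d (q + 1) = N (q + 1) := by
  show (if q + 1 ≤ d then N (q + 1) else _) = _
  rw [if_pos h]

theorem trunc_succ_of_not_le (N : ∀ q, L q) {d q : ℕ} (h : ¬ q + 1 ≤ d) :
    trunc O l N d (q + 1) = ssup l (fun j => O.τ j q (trunc O l N d q)) := by
  show (if q + 1 ≤ d then N (q + 1) else _) = _
  rw [if_neg h]

theorem trunc_eq (N : ∀ q, L q) {d q : ℕ} (h : q ≤ d) : trunc O l N d q = N q := by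
  cases q with
  | zero => rfl
  | succ q => exact trunc_succ_of_le N h

theorem trunc_le (N : ∀ q, L q) (hN : ∀ j ∈ l, ∀ q, O.τ j q (N q) ≤ N (q + 1)) (d : ℕ) :
    ∀ q, trunc O l N d q ≤ N q := by
  intro q
  induction q with
  | zero => exact le_rfl
  | succ q ih =>
    by_cases h : q + 1 ≤ d
    · rw [trunc_succ_of_le N h]
    · rw [trunc_succ_of_not_le N h]
      exact ssup_le fun j hj => ((O.gc j q).monotone_l ih).trans (hN j hj q)

theorem trunc_stable (N : ∀ q, L q) (hN : ∀ j ∈ l, ∀ q, O.τ j q (N q) ≤ N (q + 1)) (d : ℕ) :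
    ∀ j ∈ l, ∀ q, O.τ j q (trunc O l N d q) ≤ trunc O l N d (q + 1) := by
  intro j hj q
  by_cases h : q + 1 ≤ d
  · rw [trunc_succ_of_le N h]
    exact ((O.gc j q).monotone_l (trunc_le N hN d q)).trans (hN j hj q)
  · rw [trunc_succ_of_not_le N h]
    exact le_ssup (f := fun j => O.τ j q (trunc O l N d q)) hj

theorem trunc_mono (N : ∀ q, L q) (hN : ∀ j ∈ l, ∀ q, O.τ j q (N q) ≤ N (q + 1)) {d d' : ℕ}
    (hd : d ≤ d') : ∀ q, trunc O l N d q ≤ trunc O l N d' q := by
  intro q
  induction q with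
  | zero => exact le_rfl
  | succ q ih =>
    by_cases h : q + 1 ≤ d
    · rw [trunc_succ_of_le N h, trunc_succ_of_le N (h.trans hd)]
    · by_cases h' : q + 1 ≤ d'
      · rw [trunc_succ_of_le N h']
        exact trunc_le N hN d (q + 1)
      · rw [trunc_succ_of_not_le N h, trunc_succ_of_not_le N h']
        exact ssup_mono fun j _ => (O.gc j q).monotone_l ih

/-- a stable family below a family generated in degree zero is generated in bounded degrees -/
theorem eventually_generated [∀ q, IsModularLattice (L q)] [WellFoundedGT (L 0)]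
    (G : ∀ q, L q) (hG : ∀ q, G (q + 1) ≤ ssup l (fun j => O.τ j q (G q)))
    (N : ∀ q, L q) (hN : ∀ j ∈ l, ∀ q, O.τ j q (N q) ≤ N (q + 1)) (hNG : N ≤ G) :
    ∃ d : ℕ, ∀ q, d ≤ q → N (q + 1) = ssup l (fun j => O.τ j q (N q)) := by
  have hwf := HB O l G hG
  rw [wellFoundedGT_iff_monotone_chain_condition] at hwf
  have hst : ∀ d, ∀ j ∈ l, T O j (trunc O l N d) ≤ trunc O l N d := by
    intro d j hj q
    cases q with
    | zero => exact bot_le
    | succ q => exact trunc_stable N hN d j hj q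
  obtain ⟨d₀, hd₀⟩ := hwf ⟨fun d => ⟨trunc O l N d, hst d,
    fun q => (trunc_le N hN d q).trans (hNG q)⟩, fun d d' h => trunc_mono N hN h⟩
  have hd₀' : ∀ d, d₀ ≤ d → trunc O l N d₀ = trunc O l N d :=
    fun d hd => congrArg Subtype.val (hd₀ d hd)
  refine ⟨d₀, fun q hq => ?_⟩
  have h1 : N (q + 1) = trunc O l N d₀ (q + 1) := by
    rw [hd₀' (q + 1) (hq.trans (Nat.le_succ q)), trunc_eq N le_rfl]
  have h2 : trunc O l N d₀ q = N q := by
    rw [hd₀' q hq, trunc_eq N le_rfl]
  rw [h1, trunc_succ_of_not_le N (by omega), h2]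

end Groth.Agent.Helper6.GrHA
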