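import Mathlib
import Groth.Agent.Helper6.GrHA
import Groth.Agent.Helper9.FM2
import Groth.Agent.Helper9.FM3
import Groth.Agent.Helper9.ARHilb

set_option autoImplicit false
set_option linter.style.haveILetI false
set_option linter.unusedSectionVars false
set_option linter.unusedVariables false
set_option linter.unusedSimpArgs false

/-!
# Graded objects with commuting degree-one operators in an abelian category: dévissage

A graded object `M` generated in degree zero under finitely many commuting operators, with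
Noetherian components, lies in a weak Serre class as soon as finitely many test objects
(subquotients of the components) do.
-/

namespace Groth.Agent.Helper6.GrHB

open CategoryTheory CategoryTheory.Limits
open Groth.Agent.Helper9 Groth.Agent.Helper9.FM Groth.Agent.Helper9.HilbB
open Groth.Agent.Helper6.GrHA

universe w v u

variable {C : Type u} [Category.{v} C] [Abelian C] {ι : Type w}

/-- a graded object with commuting operators of degree one -/
structure GrMod (C : Type u) [Category.{v} C] (ι : Type w) where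
  obj : ℕ → C
  t : ι → ∀ q, obj q ⟶ obj (q + 1)
  comm : ∀ i j q, t i q ≫ t j (q + 1) = t j q ≫ t i (q + 1)

/-- weak Serre classes of objects -/
structure WS (Pr : C → Prop) : Prop where
  iso : ∀ {P Q : C}, (P ≅ Q) → Pr P → Pr Q
  zero : ∀ {P : C}, IsZero P → Pr P
  ker : ∀ {P Q : C} (f : P ⟶ Q), Pr P → Pr Q → Pr (kernel f)
  coker : ∀ {P Q : C} (f : P ⟶ Q), Pr P → Pr Q → Pr (cokernel f)
  ext : ∀ (S : ShortComplex C), S.ShortExact → Pr S.X₁ → Pr S.X₃ → Pr S.X₂

section lattice

theorem sub_ssup {Y : C} (l : List ι) (f : ι → Subobject Y) :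
    sub (ssup l f) = ssup l (fun j => sub (f j)) := by
  induction l with
  | nil => exact sub_bot Y
  | cons i l ih =>
    show sub (f i ⊔ ssup l f) = sub (f i) ⊔ ssup l (fun j => sub (f j))
    rw [FM.sub_sup, ih]

theorem map_ssup {R : Type*} [Ring R] {V W : Type*} [AddCommGroup V] [Module R V]
    [AddCommGroup W] [Module R W] (φ : V →ₗ[R] W) (l : List ι) (S : ι → Submodule R V) :
    (ssup l S).map φ = ssup l (fun j => (S j).map φ) := by
  induction l with
  | nil => exact Submodule.map_bot φ
  | cons i l ih =>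
    show (S i ⊔ ssup l S).map φ = (S i).map φ ⊔ ssup l (fun j => (S j).map φ)
    rw [Submodule.map_sup, ih]

end lattice

variable (M : GrMod C ι)

/-- the operators on the lattices of subobjects -/
noncomputable def ops : Ops ι (fun q => Subobject (M.obj q)) where
  τ j q S := imageSubobject (S.arrow ≫ M.t j q)
  ρ j q S' := (Subobject.pullback (M.t j q)).obj S'
  gc j q := by
    intro S S'
    rw [sub_le_iff, sub_le_iff, sub_image_comp, sub_pullback]
    exact Submodule.map_le_iff_le_comap
  frob j q a b := by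
    rw [sub_le_iff, FM.sub_inf, sub_image_comp, sub_image_comp, FM.sub_inf, sub_pullback]
    rintro _ ⟨⟨x, hx, rfl⟩, hb⟩
    exact ⟨x, ⟨hx, hb⟩, rfl⟩
  comm i j q a := by
    rw [eq_iff_sub_eq, sub_image_comp, sub_image_comp, sub_image_comp, sub_image_comp,
      ← Submodule.map_comp, ← Submodule.map_comp, ← m_comp, ← m_comp, M.comm]

theorem sub_τ (j : ι) (q : ℕ) (S : Subobject (M.obj q)) :
    sub ((ops M).τ j q S) = (sub S).map (m (M.t j q)) := sub_image_comp S (M.t j q)

/-- generated in degree zero by the operators in `l` -/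
def GrMod.GenBy (l : List ι) : Prop :=
  ∀ q, ssup l (fun j => LinearMap.range (m (M.t j q))) = ⊤

/-- the graded kernel of an operator -/
@[reducible] noncomputable def GrMod.ker (t₀ : ι) : GrMod C ι where
  obj q := kernel (M.t t₀ q)
  t j q := kernel.map (M.t t₀ q) (M.t t₀ (q + 1)) (M.t j q) (M.t j (q + 1)) (M.comm t₀ j q)
  comm i j q := by
    rw [← cancel_mono (kernel.ι _)]
    simp only [Category.assoc, kernel.lift_ι, kernel.lift_ι_assoc, kernel.map]
    rw [M.comm]

/-- the graded cokernel of an operator, shifted by one -/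
@[reducible] noncomputable def GrMod.coker (t₀ : ι) : GrMod C ι where
  obj q := cokernel (M.t t₀ q)
  t j q := cokernel.map (M.t t₀ q) (M.t t₀ (q + 1)) (M.t j q) (M.t j (q + 1)) (M.comm t₀ j q)
  comm i j q := by
    rw [← cancel_epi (cokernel.π _)]
    simp only [cokernel.π_desc_assoc, cokernel.π_desc, Category.assoc, cokernel.map]
    rw [← Category.assoc, M.comm, Category.assoc]

/-- shifting degrees -/
@[reducible] def GrMod.shift (d : ℕ) : GrMod C ι where
  obj q := M.obj (d + q)
  t j q := M.t j (d + q)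
  comm i j q := M.comm i j (d + q)

theorem ker_ι_t (t₀ j : ι) (q : ℕ) :
    (M.ker t₀).t j q ≫ kernel.ι (M.t t₀ (q + 1)) = kernel.ι (M.t t₀ q) ≫ M.t j q := by
  unfold GrMod.ker
  simp [kernel.map]

theorem coker_π_t (t₀ j : ι) (q : ℕ) :
    cokernel.π (M.t t₀ q) ≫ (M.coker t₀).t j q = M.t j (q + 1) ≫ cokernel.π (M.t t₀ (q + 1)) := by
  unfold GrMod.coker
  simp [cokernel.map]

theorem range_kernel_ι {X Y : C} (f : X ⟶ Y) :
    LinearMap.range (m (kernel.ι f)) = LinearMap.ker (m f) := by
  apply le_antisymm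
  · rintro _ ⟨x, rfl⟩
    show m f (m (kernel.ι f) x) = 0
    rw [← m_comp_apply, kernel.condition]
    simp
  · intro x hx
    obtain ⟨k, hk⟩ := exists_kernel_ι_eq f x hx
    exact ⟨k, hk⟩

/-- the cokernel is generated by the remaining operators -/
theorem genBy_coker (t₀ : ι) (l' : List ι) (h : M.GenBy (t₀ :: l')) : (M.coker t₀).GenBy l' := by
  intro q
  have h1 := h (q + 1)
  have hπ : Function.Surjective (m (cokernel.π (M.t t₀ (q + 1)))) := cokernel_π_surjective _
  have h2 : (⊤ : Submodule (R C) ((F C).obj (M.obj (q + 1 + 1)))).map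
      (m (cokernel.π (M.t t₀ (q + 1)))) = ⊤ := by
    rw [Submodule.map_top]
    exact LinearMap.range_eq_top.2 hπ
  refine Eq.trans ?_ h2
  rw [← h1]
  show _ = (LinearMap.range (m (M.t t₀ (q + 1))) ⊔
    ssup l' (fun j => LinearMap.range (m (M.t j (q + 1))))).map _
  rw [Submodule.map_sup, map_ssup]
  have h3 : (LinearMap.range (m (M.t t₀ (q + 1)))).map (m (cokernel.π (M.t t₀ (q + 1)))) = ⊥ := by
    rw [← LinearMap.range_comp, ← m_comp, cokernel.condition]
    rw [eq_bot_iff]
    rintro _ ⟨x, rfl⟩
    simp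
  rw [h3, bot_sup_eq]
  congr 1
  funext j
  rw [← LinearMap.range_comp, ← m_comp, ← coker_π_t, m_comp, LinearMap.range_comp]
  have h4 : LinearMap.range (m (cokernel.π (M.t t₀ q))) = ⊤ :=
    LinearMap.range_eq_top.2 (cokernel_π_surjective _)
  rw [h4, Submodule.map_top]

/-- the kernel is eventually generated by the remaining operators -/
theorem genBy_ker (t₀ : ι) (l' : List ι) (h : M.GenBy (t₀ :: l'))
    [IsNoetherianObject (M.obj 0)] : ∃ d : ℕ, ((M.ker t₀).shift d).GenBy l' := by
  haveI : WellFoundedGT (Subobject (M.obj 0)) := inferInstance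
  let l := t₀ :: l'
  have hG : ∀ q, (⊤ : Subobject (M.obj (q + 1))) ≤
      ssup l (fun j => (ops M).τ j q (⊤ : Subobject (M.obj q))) := by
    intro q
    rw [sub_le_iff, sub_ssup, sub_top]
    have := h q
    rw [← this]
    refine ssup_mono fun j _ => ?_
    rw [sub_τ, sub_top, Submodule.map_top]
  let N : ∀ q, Subobject (M.obj q) := fun q => kernelSubobject (M.t t₀ q)
  have hN : ∀ j ∈ l, ∀ q, (ops M).τ j q (N q) ≤ N (q + 1) := by
    intro j _ q
    rw [sub_le_iff, sub_τ, sub_kernel, sub_kernel]
    rintro _ ⟨x, hx, rfl⟩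
    show m (M.t t₀ (q + 1)) (m (M.t j q) x) = 0
    rw [← m_comp_apply, ← M.comm t₀ j q, m_comp_apply]
    have hx' : m (M.t t₀ q) x = 0 := hx
    rw [hx', map_zero]
  obtain ⟨d, hd⟩ := eventually_generated (O := ops M) (l := l) (fun q => ⊤) hG N hN
    (fun q => le_top)
  refine ⟨d, fun q => ?_⟩
  have h1 := hd (d + q) (Nat.le_add_right d q)
  rw [eq_iff_sub_eq, sub_ssup, sub_kernel] at h1
  -- push forward along the injective inclusion of the kernel
  have hinj : Function.Injective (m (kernel.ι (M.t t₀ (d + q + 1)))) := kernel_ι_injective _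
  refine Submodule.map_injective_of_injective hinj (?_ :
    (ssup l' (fun j => LinearMap.range (m ((M.ker t₀).t j (d + q))))).map
      (m (kernel.ι (M.t t₀ (d + q + 1)))) =
    (⊤ : Submodule (R C) ((F C).obj (kernel (M.t t₀ (d + q + 1))))).map
      (m (kernel.ι (M.t t₀ (d + q + 1)))))
  rw [Submodule.map_top, range_kernel_ι, h1, map_ssup]
  show _ = sub ((ops M).τ t₀ (d + q) (N (d + q))) ⊔
    ssup l' (fun j => sub ((ops M).τ j (d + q) (N (d + q))))
  have h2 : sub ((ops M).τ t₀ (d + q) (N (d + q))) = ⊥ := by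
    rw [sub_τ, sub_kernel, eq_bot_iff]
    rintro _ ⟨x, hx, rfl⟩
    exact hx
  rw [h2, bot_sup_eq]
  congr 1
  funext j
  rw [sub_τ, sub_kernel, ← LinearMap.range_comp, ← m_comp, ker_ι_t, m_comp, LinearMap.range_comp,
    range_kernel_ι]

variable (Qr : C → Prop)
  (hsub : ∀ {P Q : C} (i : P ⟶ Q) [Mono i], Qr Q → Qr P)
  (hquot : ∀ {P Q : C} (p : P ⟶ Q) [Epi p], Qr P → Qr Q)
  (hnoeth : ∀ P : C, Qr P → IsNoetherianObject P)

include hsub hquot hnoeth in
/-- the dévissage -/
theorem main (l : List ι) : ∀ M : GrMod C ι, (∀ q, Qr (M.obj q)) → M.GenBy l →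
    ∃ Ls : List C, (∀ E ∈ Ls, Qr E) ∧
      ∀ Pr : C → Prop, WS Pr → (∀ E ∈ Ls, Pr E) → ∀ q, Pr (M.obj q) := by
  induction l with
  | nil =>
    intro M hM hgen
    refine ⟨[M.obj 0], fun E hE => ?_, fun Pr hPr hL q => ?_⟩
    · rw [List.mem_singleton] at hE
      rw [hE]
      exact hM 0
    · cases q with
      | zero => exact hL _ (List.mem_singleton.2 rfl)
      | succ q =>
        apply hPr.zero
        rw [isZero_iff]
        have h1 : (⊥ : Submodule (R C) ((F C).obj (M.obj (q + 1)))) = ⊤ := hgen q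
        exact ⟨fun a b => by
          have ha : a ∈ (⊥ : Submodule (R C) ((F C).obj (M.obj (q + 1)))) := by
            rw [h1]; trivial
          have hb : b ∈ (⊥ : Submodule (R C) ((F C).obj (M.obj (q + 1)))) := by
            rw [h1]; trivial
          rw [(Submodule.mem_bot _).1 ha, (Submodule.mem_bot _).1 hb]⟩
  | cons t₀ l' ih =>
    intro M hM hgen
    haveI : IsNoetherianObject (M.obj 0) := hnoeth _ (hM 0)
    obtain ⟨d, hd⟩ := genBy_ker M t₀ l' hgen
    have hKq : ∀ q, Qr (kernel (M.t t₀ q)) := fun q => hsub (kernel.ι (M.t t₀ q)) (hM q)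
    have hQq : ∀ q, Qr (cokernel (M.t t₀ q)) := fun q => hquot (cokernel.π (M.t t₀ q)) (hM (q + 1))
    obtain ⟨LQ, hLQ, hLQ'⟩ := ih (M.coker t₀) hQq (genBy_coker M t₀ l' hgen)
    obtain ⟨LK, hLK, hLK'⟩ := ih ((M.ker t₀).shift d) (fun q => hKq (d + q)) hd
    refine ⟨LQ ++ LK ++ (List.range d).map (fun q => kernel (M.t t₀ q)) ++ [M.obj 0], ?_, ?_⟩
    · intro E hE
      simp only [List.mem_append, List.mem_map, List.mem_range, List.mem_singleton] at hE
      rcases hE with ((hE | hE) | ⟨q, _, rfl⟩) | rfl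
      · exact hLQ E hE
      · exact hLK E hE
      · exact hKq q
      · exact hM 0
    · intro Pr hPr hL
      have hL1 : ∀ E ∈ LQ, Pr E := fun E hE => hL E
        (List.mem_append_left _ (List.mem_append_left _ (List.mem_append_left _ hE)))
      have hL2 : ∀ E ∈ LK, Pr E := fun E hE => hL E
        (List.mem_append_left _ (List.mem_append_left _ (List.mem_append_right _ hE)))
      have hL3 : ∀ q, q < d → Pr (kernel (M.t t₀ q)) := fun q hq => hL _
        (List.mem_append_left _ (List.mem_append_right _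
          (List.mem_map.2 ⟨q, List.mem_range.2 hq, rfl⟩)))
      have hL4 : Pr (M.obj 0) := hL _ (List.mem_append_right _ (List.mem_singleton.2 rfl))
      have hQ : ∀ q, Pr (cokernel (M.t t₀ q)) := hLQ' Pr hPr hL1
      have hK' : ∀ q, Pr (kernel (M.t t₀ (d + q))) := hLK' Pr hPr hL2
      have hK : ∀ q, Pr (kernel (M.t t₀ q)) := by
        intro q
        rcases Nat.lt_or_ge q d with hq | hq
        · exact hL3 q hq
        · obtain ⟨e, rfl⟩ := Nat.exists_eq_add_of_le hq
          exact hK' e
      intro q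
      induction q with
      | zero => exact hL4
      | succ q ihq =>
        have h1 : Pr (Abelian.coimage (M.t t₀ q)) := hPr.coker (kernel.ι (M.t t₀ q)) (hK q) ihq
        have h2 : Pr (Abelian.image (M.t t₀ q)) := hPr.iso (Abelian.coimageIsoImage (M.t t₀ q)) h1
        let S : ShortComplex C := ShortComplex.mk (kernel.ι (cokernel.π (M.t t₀ q)))
          (cokernel.π (M.t t₀ q)) (kernel.condition _)
        have hS : S.ShortExact :=
          { exact := ShortComplex.exact_kernel _
            mono_f := inferInstanceAs (Mono (kernel.ι _))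
            epi_g := inferInstanceAs (Epi (cokernel.π _)) }
        exact hPr.ext S hS h2 (hQ q)

end Groth.Agent.Helper6.GrHB
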