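import Mathlib
import Groth.Prelude.Def_ARSys
import Groth.Agent.Helper6.GrHB
import Groth.Agent.Helper4.AdicKer

set_option autoImplicit false
set_option linter.style.haveILetI false
set_option linter.unusedSectionVars false
set_option linter.unusedVariables false
set_option linter.unusedSimpArgs false

/-!
# The graded object of an adic system, and the dévissage for adic systems

For an adic system `X` (for an ideal generated by a finite list) with Noetherian components, there
are finitely many test objects (subquotients of the components) such that any weak Serre class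
containing them contains all the components `X_n`.
-/

namespace Groth.Agent.Helper6.GrHC

open CategoryTheory CategoryTheory.Limits Opposite
open Groth.Agent.Helper9 Groth.Agent.Helper9.FM Groth.Agent.Helper9.HilbB
open Groth.Agent.Helper6.GrHA Groth.Agent.Helper6.GrHB
open Groth.Agent.Helper4.AdicKer

universe w v u

variable {C : Type u} [Category.{v} C] [Abelian C] {A : Type w} [CommRing A] [Linear A C]
  {J : Ideal A} {X : ARSys.PS C} (hX : ARSys.IsAdic J X)

include hX

theorem epi_tr {n k : ℕ} (h : n ≤ k) : Epi (ARSys.tr X h) := epi_of_isQuot _ (hX.2 n k h)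

theorem exists_up (j : ↥J) (n : ℕ) : ∃ ψ : X.obj (op n) ⟶ X.obj (op (n + 1)),
    ARSys.tr X (Nat.le_succ n) ≫ ψ = j.1 • 𝟙 (X.obj (op (n + 1))) := by
  have hk : ARSys.HomKilledBy (J ^ (n + 1)) (j.1 • 𝟙 (X.obj (op (n + 1)))) := by
    intro b hb
    rw [smul_smul]
    exact hX.1 (n + 1) (b * j.1) (by rw [pow_succ]; exact Ideal.mul_mem_mul hb j.2)
  obtain ⟨ψ, hψ, -⟩ := (hX.2 n (n + 1) (Nat.le_succ n)).2 _ _ hk
  exact ⟨ψ, hψ⟩

/-- multiplication by an element of the ideal, raising the level -/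
noncomputable def up (j : ↥J) (n : ℕ) : X.obj (op n) ⟶ X.obj (op (n + 1)) :=
  (exists_up hX j n).choose

theorem tr_up (j : ↥J) (n : ℕ) :
    ARSys.tr X (Nat.le_succ n) ≫ up hX j n = j.1 • 𝟙 (X.obj (op (n + 1))) :=
  (exists_up hX j n).choose_spec

theorem up_tr (j : ↥J) (n : ℕ) :
    up hX j n ≫ ARSys.tr X (Nat.le_succ n) = j.1 • 𝟙 (X.obj (op n)) := by
  haveI := epi_tr hX (Nat.le_succ n)
  rw [← cancel_epi (ARSys.tr X (Nat.le_succ n)), ← Category.assoc, tr_up, Linear.smul_comp,
    Category.id_comp, Linear.comp_smul, Category.comp_id]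

theorem up_comm (i j : ↥J) (n : ℕ) :
    up hX i n ≫ up hX j (n + 1) = up hX j n ≫ up hX i (n + 1) := by
  haveI := epi_tr hX (Nat.le_succ n)
  haveI := epi_tr hX (Nat.le_succ (n + 1))
  rw [← cancel_epi (ARSys.tr X (Nat.le_succ n)), ← Category.assoc, ← Category.assoc, tr_up, tr_up,
    Linear.smul_comp, Linear.smul_comp, Category.id_comp, Category.id_comp,
    ← cancel_epi (ARSys.tr X (Nat.le_succ (n + 1))), Linear.comp_smul, Linear.comp_smul, tr_up,
    tr_up, smul_smul, smul_smul, mul_comm]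

theorem ker_smul (j : ↥J) (q : ℕ) :
    kernel.ι (ARSys.tr X (Nat.le_succ q)) ≫ (j.1 • 𝟙 (X.obj (op (q + 1)))) = 0 := by
  rw [← tr_up hX j q, ← Category.assoc, kernel.condition, zero_comp]

/-- the graded object `(J^{q+1} X_{q+1})_q` with the operators induced by the elements of `J` -/
@[reducible] noncomputable def gr : GrMod C ↥J where
  obj q := kernel (ARSys.tr X (Nat.le_succ q))
  t j q := kernel.lift (ARSys.tr X (Nat.le_succ (q + 1)))
    (kernel.ι (ARSys.tr X (Nat.le_succ q)) ≫ up hX j (q + 1)) (by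
      rw [Category.assoc, up_tr hX, ker_smul hX])
  comm i j q := by
    rw [← cancel_mono (kernel.ι _)]
    simp only [Category.assoc, kernel.lift_ι, kernel.lift_ι_assoc]
    rw [up_comm hX]

theorem gr_t_ι (j : ↥J) (q : ℕ) :
    (gr hX).t j q ≫ kernel.ι (ARSys.tr X (Nat.le_succ (q + 1))) =
      kernel.ι (ARSys.tr X (Nat.le_succ q)) ≫ up hX j (q + 1) := by
  unfold gr
  simp

theorem gr_genBy (l : List ↥J) (hl : J = Ideal.span {r | ∃ j ∈ l, (j : A) = r}) :
    (gr hX).GenBy l := by
  intro q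
  have h1 := ARHilb.genLE J hX l hl (q + 1)
  have e1 : ARSys.Fsub X (q + 1 + 1) (q + 1 + 1) =
      kernelSubobject (ARSys.tr X (Nat.le_succ (q + 1))) := by
    change (if h : q + 1 ≤ q + 1 + 1 then kernelSubobject (ARSys.tr X h) else ⊥) = _
    rw [dif_pos (Nat.le_succ (q + 1))]
  have e2 : ARSys.Fsub X (q + 1) (q + 1) = kernelSubobject (ARSys.tr X (Nat.le_succ q)) := by
    change (if h : q ≤ q + 1 then kernelSubobject (ARSys.tr X h) else ⊥) = _
    rw [dif_pos (Nat.le_succ q)]
  rw [e1, e2, sub_le_iff, sub_ssup, sub_kernel] at h1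
  have hinj : Function.Injective (m (kernel.ι (ARSys.tr X (Nat.le_succ (q + 1))))) :=
    kernel_ι_injective _
  refine Submodule.map_injective_of_injective hinj (?_ :
    (ssup l (fun j => LinearMap.range (m ((gr hX).t j q)))).map
      (m (kernel.ι (ARSys.tr X (Nat.le_succ (q + 1))))) =
    (⊤ : Submodule (R C) ((F C).obj (kernel (ARSys.tr X (Nat.le_succ (q + 1)))))).map
      (m (kernel.ι (ARSys.tr X (Nat.le_succ (q + 1))))))
  rw [Submodule.map_top, range_kernel_ι, map_ssup]
  have hsurj : Function.Surjective (m (ARSys.tr X (Nat.le_succ (q + 1)))) :=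
    (epi_iff _).1 (epi_tr hX _)
  have key : ∀ j : ↥J, (LinearMap.range (m ((gr hX).t j q))).map
      (m (kernel.ι (ARSys.tr X (Nat.le_succ (q + 1))))) =
      sub (ARHilb.tau X j.1 (q + 1) (kernelSubobject (ARSys.tr X (Nat.le_succ q)))) := by
    intro j
    rw [ARHilb.sub_tau, sub_kernel, ← tr_up hX j (q + 1), m_comp, Submodule.map_comp,
      Submodule.map_comap_eq_of_surjective hsurj, ← LinearMap.range_comp, ← m_comp, gr_t_ι,
      m_comp, LinearMap.range_comp, range_kernel_ι]
  apply le_antisymm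
  · refine ssup_le fun j hj => ?_
    rw [key j]
    rintro _ ⟨y, rfl⟩
    have : ARHilb.tau X j.1 (q + 1) (kernelSubobject (ARSys.tr X (Nat.le_succ q))) ≤
        kernelSubobject (ARSys.tr X (Nat.le_succ (q + 1))) := by
      rw [sub_le_iff, ARHilb.sub_tau, sub_kernel, sub_kernel]
      rintro _ ⟨x, hx, rfl⟩
      show m (ARSys.tr X (Nat.le_succ (q + 1))) (m (j.1 • 𝟙 _) x) = 0
      rw [ARHilb.act_tr]
      have hx' : m (ARSys.tr X (Nat.le_succ q)) (m (ARSys.tr X (Nat.le_succ (q + 1))) x) = 0 := hx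
      have h3 := ARHilb.adic_kills J hX j.1 j.2 q _ hx'
      exact h3
    have h2 := (sub_le_iff _ _).1 this ⟨y, rfl⟩
    rwa [sub_kernel] at h2
  · refine h1.trans (ssup_mono fun j _ => ?_)
    rw [key j]

variable (Qr : C → Prop)
  (hsub : ∀ {P Q : C} (i : P ⟶ Q) [Mono i], Qr Q → Qr P)
  (hquot : ∀ {P Q : C} (p : P ⟶ Q) [Epi p], Qr P → Qr Q)
  (hnoeth : ∀ P : C, Qr P → IsNoetherianObject P)

include hsub hquot hnoeth in
/-- the dévissage for adic systems -/
theorem adic_main (l : List ↥J) (hl : J = Ideal.span {r | ∃ j ∈ l, (j : A) = r})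
    (hQ : ∀ n, Qr (X.obj (op n))) :
    ∃ Ls : List C, (∀ E ∈ Ls, Qr E) ∧
      ∀ Pr : C → Prop, WS Pr → (∀ E ∈ Ls, Pr E) → ∀ n, Pr (X.obj (op n)) := by
  obtain ⟨L₀, hL₀, hL₀'⟩ := GrHB.main Qr hsub hquot hnoeth l (gr hX)
    (fun q => by
      haveI : Mono (kernel.ι (ARSys.tr X (Nat.le_succ q))) := inferInstance
      exact hsub (kernel.ι (ARSys.tr X (Nat.le_succ q))) (hQ (q + 1))) (gr_genBy hX l hl)
  refine ⟨X.obj (op 0) :: L₀, ?_, ?_⟩
  · intro E hE
    rcases List.mem_cons.1 hE with rfl | hE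
    · exact hQ 0
    · exact hL₀ E hE
  · intro Pr hPr hL n
    have hgr : ∀ q, Pr (kernel (ARSys.tr X (Nat.le_succ q))) :=
      hL₀' Pr hPr (fun E hE => hL E (List.mem_cons_of_mem _ hE))
    induction n with
    | zero => exact hL _ List.mem_cons_self
    | succ n ih =>
      let S : ShortComplex C := ShortComplex.mk (kernel.ι (ARSys.tr X (Nat.le_succ n)))
        (ARSys.tr X (Nat.le_succ n)) (kernel.condition _)
      have hS : S.ShortExact :=
        { exact := ShortComplex.exact_kernel _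
          mono_f := inferInstanceAs (Mono (kernel.ι _))
          epi_g := epi_tr hX _ }
      exact hPr.ext S hS (hgr n) ih

end Groth.Agent.Helper6.GrHC
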