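import Mathlib

set_option autoImplicit false

/-!
Ungraded part of the comparison `*E(R/m) = E(R/m)`: an `m`-power-torsion module over a Noetherian ring
(with `m` maximal) which has the extension property for the single ideal `m` is injective.
-/

namespace Groth.Agent.Helper6.TorsBaer

universe u

variable {R : Type u} [CommRing R] [IsNoetherianRing R] (m : Ideal R) [hm : m.IsMaximal]
  {E : Type u} [AddCommGroup E] [Module R E]

omit [IsNoetherianRing R] hm in
/-- a socle element modulo `J`. -/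
theorem exists_socle {N : ℕ} {J : Ideal R} (hN : m ^ N ≤ J) (hJ : J ≠ ⊤) :
    ∃ y : R, y ∉ J ∧ ∀ r ∈ m, r * y ∈ J := by
  classical
  have hex : ∃ j, m ^ j ≤ J := ⟨N, hN⟩
  set j₀ := Nat.find hex with hj₀
  have h1 : m ^ j₀ ≤ J := Nat.find_spec hex
  have h0 : j₀ ≠ 0 := by
    intro h
    rw [h, pow_zero, Ideal.one_eq_top, top_le_iff] at h1
    exact hJ h1
  obtain ⟨j, hj⟩ := Nat.exists_eq_succ_of_ne_zero h0
  have h2 : ¬ m ^ j ≤ J := Nat.find_min hex (by omega)
  obtain ⟨y, hy, hyJ⟩ := SetLike.not_le_iff_exists.mp h2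
  refine ⟨y, hyJ, fun r hr => h1 ?_⟩
  rw [hj, pow_succ']
  exact Ideal.mul_mem_mul hr hy

omit [IsNoetherianRing R] in
theorem mem_of_mul_mem {J : Ideal R} {y : R} (hy : y ∉ J) (hmy : ∀ r ∈ m, r * y ∈ J) {s : R}
    (hs : s * y ∈ J) : s ∈ m := by
  by_contra hsm
  obtain ⟨t, i, hi, hti⟩ := hm.exists_inv hsm
  apply hy
  have : y = t * (s * y) + i * y := by
    calc y = (t * s + i) * y := by rw [hti, one_mul]
      _ = _ := by ring
  rw [this]
  exact J.add_mem (J.mul_mem_left _ hs) (hmy i hi)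

omit [IsNoetherianRing R] in
/-- one-step extension. -/
theorem exists_step
    (hA : ∀ φ : m →ₗ[R] E, ∃ e : E, ∀ (r : R) (hr : r ∈ m), φ ⟨r, hr⟩ = r • e)
    {J : Ideal R} (h : J →ₗ[R] E) {y : R} (hy : y ∉ J) (hmy : ∀ r ∈ m, r * y ∈ J) :
    ∃ (J' : Ideal R) (h' : J' →ₗ[R] E), J < J' ∧
      ∀ (x : R) (hx : x ∈ J) (hx' : x ∈ J'), h' ⟨x, hx'⟩ = h ⟨x, hx⟩ := by
  classical
  -- the map m → E
  let φ : m →ₗ[R] E :=
    { toFun := fun r => h ⟨r.1 * y, hmy r.1 r.2⟩
      map_add' := by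
        intro a b
        rw [← map_add]
        congr 1
        apply Subtype.ext
        simp [add_mul]
      map_smul' := by
        intro c a
        rw [RingHom.id_apply, ← map_smul]
        congr 1
        apply Subtype.ext
        simp [mul_assoc] }
  obtain ⟨e, he⟩ := hA φ
  have he' : ∀ (r : R) (hr : r ∈ m), h ⟨r * y, hmy r hr⟩ = r • e := fun r hr => he r hr
  have hcolon : ∀ {s : R}, s * y ∈ J → s ∈ m := fun hs => mem_of_mul_mem m hy hmy hs
  have key : ∀ (c : R) (hc : c * y ∈ J), h ⟨c * y, hc⟩ = c • e := fun c hc => he' c (hcolon hc)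
  let f₁ : R →ₗ.[R] E := ⟨J, h⟩
  have H : ∀ c : R, c • y = 0 → c • e = 0 := by
    intro c hc
    have hcJ : c * y ∈ J := by
      rw [← smul_eq_mul, hc]; exact J.zero_mem
    rw [← key c hcJ]
    have : (⟨c * y, hcJ⟩ : J) = 0 := Subtype.ext (by simpa using hc)
    rw [this, map_zero]
  let f₂ : R →ₗ.[R] E := LinearPMap.mkSpanSingleton' y e H
  have hcompat : ∀ (x : f₁.domain) (z : f₂.domain), (x : R) = z → f₁ x = f₂ z := by
    intro x z hxz
    obtain ⟨c, hc⟩ := Submodule.mem_span_singleton.mp z.2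
    have hcJ : c * y ∈ J := by
      have : c * y = x.1 := by rw [hxz, ← hc, smul_eq_mul]
      rw [this]; exact x.2
    have hmem : c • y ∈ f₂.domain := by
      change c • y ∈ Submodule.span R {y}
      exact Submodule.mem_span_singleton.mpr ⟨c, rfl⟩
    have hz : z = ⟨c • y, hmem⟩ := Subtype.ext hc.symm
    have hval : f₂ ⟨c • y, hmem⟩ = c • e := by
      have := LinearPMap.mkSpanSingleton'_apply y e H c hmem
      rwa [RingHom.id_apply] at this
    have hx : x = ⟨c * y, hcJ⟩ := Subtype.ext (by rw [hxz, ← hc, smul_eq_mul])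
    rw [hz, hval, hx]
    exact key c hcJ
  let f := f₁.sup f₂ hcompat
  have hle : f₁ ≤ f := LinearPMap.left_le_sup f₁ f₂ hcompat
  refine ⟨f.domain, f.toFun, ?_, ?_⟩
  · refine lt_of_le_of_ne hle.1 ?_
    intro heq
    apply hy
    have : y ∈ f.domain := by
      change y ∈ f₁.domain ⊔ f₂.domain
      exact Submodule.mem_sup_right (Submodule.mem_span_singleton_self y)
    rw [← heq] at this
    exact this
  · intro x hx hx'
    exact (hle.2 (x := ⟨x, hx⟩) (y := ⟨x, hx'⟩) rfl).symm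

/-- extension from ideals containing a power of `m`. -/
theorem exists_extension_of_pow_le
    (hA : ∀ φ : m →ₗ[R] E, ∃ e : E, ∀ (r : R) (hr : r ∈ m), φ ⟨r, hr⟩ = r • e)
    (N : ℕ) (J : Ideal R) :
    m ^ N ≤ J → ∀ h : J →ₗ[R] E, ∃ g' : R →ₗ[R] E, ∀ (x : R) (hx : x ∈ J), g' x = h ⟨x, hx⟩ := by
  induction J using IsNoetherian.induction with
  | hgt J ih =>
    intro hNJ h
    by_cases hJ : J = ⊤
    · refine ⟨h.comp (LinearEquiv.ofTop J hJ).symm.toLinearMap, fun x hx => ?_⟩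
      rfl
    · obtain ⟨y, hy, hmy⟩ := exists_socle m hNJ hJ
      obtain ⟨J', h', hlt, hh'⟩ := exists_step m hA h hy hmy
      obtain ⟨g', hg'⟩ := ih J' hlt (hNJ.trans hlt.le) h'
      refine ⟨g', fun x hx => ?_⟩
      rw [hg' x (hlt.le hx), hh' x hx]

omit hm in
/-- uniform torsion exponent on a finitely generated source. -/
theorem exists_pow_smul_eq_zero (htors : ∀ x : E, ∃ n : ℕ, ∀ r ∈ m ^ n, r • x = 0)
    {I : Ideal R} (g : I →ₗ[R] E) : ∃ n : ℕ, ∀ r ∈ m ^ n, ∀ a : I, r • g a = 0 := by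
  classical
  obtain ⟨S, hS⟩ := (Module.finite_def.mp (inferInstance : Module.Finite R I))
  choose nn hnn using htors
  refine ⟨S.sup (fun a => nn (g a)), fun r hr => ?_⟩
  let T : Submodule R I :=
    { carrier := {a | r • g a = 0}
      add_mem' := by
        intro a b ha hb
        change r • g (a + b) = 0
        rw [map_add, smul_add, ha, hb, add_zero]
      zero_mem' := by
        change r • g 0 = 0
        rw [map_zero, smul_zero]
      smul_mem' := by
        intro c a ha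
        change r • g (c • a) = 0
        rw [map_smul, smul_comm, ha, smul_zero] }
  have hT : T = ⊤ := by
    rw [eq_top_iff, ← hS, Submodule.span_le]
    intro a ha
    change r • g a = 0
    apply hnn (g a) r
    exact Ideal.pow_le_pow_right (Finset.le_sup (f := fun a => nn (g a)) ha) hr
  intro a
  have : a ∈ T := by rw [hT]; trivial
  exact this

/-- `g` vanishes on `I ⊓ m^N` for large `N`. -/
theorem exists_vanishing (htors : ∀ x : E, ∃ n : ℕ, ∀ r ∈ m ^ n, r • x = 0)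
    {I : Ideal R} (g : I →ₗ[R] E) :
    ∃ N : ℕ, ∀ (x : R) (hx : x ∈ I), x ∈ m ^ N → g ⟨x, hx⟩ = 0 := by
  obtain ⟨n, hn⟩ := exists_pow_smul_eq_zero m htors g
  obtain ⟨k, hk⟩ := Ideal.exists_pow_inf_eq_pow_smul m (I : Submodule R R)
  refine ⟨n + k, fun x hx hxN => ?_⟩
  have h1 : x ∈ m ^ (n + k) • (⊤ : Submodule R R) ⊓ I := by
    refine Submodule.mem_inf.mpr ⟨?_, hx⟩
    rw [Ideal.smul_top_eq_map]
    simpa using hxN
  rw [hk (n + k) (Nat.le_add_left k n), Nat.add_sub_cancel] at h1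
  have h2 : ∀ z ∈ m ^ n • (m ^ k • (⊤ : Submodule R R) ⊓ I), ∃ hz : z ∈ I, g ⟨z, hz⟩ = 0 := by
    intro z hz
    refine Submodule.smul_induction_on hz ?_ ?_
    · intro r hr a ha
      have haI : a ∈ I := (Submodule.mem_inf.mp ha).2
      refine ⟨I.mul_mem_left r haI, ?_⟩
      have : (⟨r • a, I.mul_mem_left r haI⟩ : I) = r • ⟨a, haI⟩ := rfl
      rw [this, map_smul]
      exact hn r hr _
    · intro a b ha hb
      obtain ⟨ha1, ha2⟩ := ha
      obtain ⟨hb1, hb2⟩ := hb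
      refine ⟨I.add_mem ha1 hb1, ?_⟩
      have : (⟨a + b, I.add_mem ha1 hb1⟩ : I) = ⟨a, ha1⟩ + ⟨b, hb1⟩ := rfl
      rw [this, map_add, ha2, hb2, add_zero]
  obtain ⟨_, hz⟩ := h2 x h1
  exact hz

theorem baer (htors : ∀ x : E, ∃ n : ℕ, ∀ r ∈ m ^ n, r • x = 0)
    (hA : ∀ φ : m →ₗ[R] E, ∃ e : E, ∀ (r : R) (hr : r ∈ m), φ ⟨r, hr⟩ = r • e) :
    Module.Baer R E := by
  intro I g
  obtain ⟨N, hN⟩ := exists_vanishing m htors g
  let f₁ : R →ₗ.[R] E := ⟨I, g⟩
  let f₂ : R →ₗ.[R] E := ⟨m ^ N, 0⟩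
  have hcompat : ∀ (x : f₁.domain) (z : f₂.domain), (x : R) = z → f₁ x = f₂ z := by
    intro x z hxz
    change g x = 0
    have : x = ⟨x.1, x.2⟩ := rfl
    rw [this]
    apply hN
    rw [hxz]
    exact z.2
  let f := f₁.sup f₂ hcompat
  have hle : f₁ ≤ f := LinearPMap.left_le_sup f₁ f₂ hcompat
  have hdom : m ^ N ≤ f.domain := by
    change m ^ N ≤ f₁.domain ⊔ f₂.domain
    exact le_sup_right
  obtain ⟨g', hg'⟩ := exists_extension_of_pow_le m hA N f.domain hdom f.toFun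
  refine ⟨g', fun x hx => ?_⟩
  rw [hg' x (hle.1 hx)]
  exact (hle.2 (x := ⟨x, hx⟩) (y := ⟨x, hle.1 hx⟩) rfl).symm

theorem injective (htors : ∀ x : E, ∃ n : ℕ, ∀ r ∈ m ^ n, r • x = 0)
    (hA : ∀ φ : m →ₗ[R] E, ∃ e : E, ∀ (r : R) (hr : r ∈ m), φ ⟨r, hr⟩ = r • e) :
    Module.Injective R E :=
  (baer m htors hA).injective

end Groth.Agent.Helper6.TorsBaer
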