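import Mathlib
import Groth.Prelude.Def_GrLC
import Groth.Prelude.Def_Wider
import Groth.Agent.Helper6.GrExt
import Groth.Agent.Helper6.GrPrime
import Groth.Agent.Helper6.GrCon
import Groth.Agent.Helper6.GrMod
import Groth.Agent.Helper6.TorsBaer

set_option autoImplicit false

namespace Groth.Agent.Helper6.GrHullInj

open DirectSum Groth.Agent.Helper6.GrMod Groth.Agent.Helper6.GrCon

universe u

variable {ι : Type} [AddCommGroup ι] [DecidableEq ι] {R : Type u} [CommRing R] [IsNoetherianRing R]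
  (𝒜 : ι → AddSubgroup R) [GradedRing 𝒜] (m : HomogeneousIdeal 𝒜)
  {E : Type u} [AddCommGroup E] [Module R E] (𝓔 : ι → AddSubgroup E) [Decomposition 𝓔]
  [SetLike.GradedSMul 𝒜 𝓔]

/-- every linear map from a homogeneous ideal to a `*`injective module extends to `R`. -/
theorem exists_smul_eq (hE : GrLC.IsStarInj 𝒜 𝓔) (φ : m.toIdeal →ₗ[R] E) :
    ∃ e : E, ∀ (r : R) (hr : r ∈ m.toIdeal), φ ⟨r, hr⟩ = r • e := by
  have hm : (m.toIdeal : Submodule R R).IsHomogeneous 𝒜 := m.isHomogeneous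
  let A : GrLC.GMod.{u} 𝒜 := subGMod 𝒜 𝒜 (m.toIdeal : Submodule R R) hm
  let B : GrLC.GMod.{u} 𝒜 := GrLC.GMod.of 𝒜 R 𝒜
  let f : A.carrier →ₗ[R] B.carrier := (m.toIdeal : Submodule R R).subtype
  have hf : GrLC.IsGrHom A.gr B.gr f := fun i x hx => hx
  have hinj : Function.Injective f := Subtype.val_injective
  haveI : Module.Finite R A.carrier := (inferInstance : Module.Finite R ↥m.toIdeal)
  obtain ⟨ψ, hψ⟩ := Groth.Agent.Helper6.GrExt.exists_extension 𝒜 𝓔 hE A B f hf hinj φ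
  let ψ' : R →ₗ[R] E := ψ
  refine ⟨ψ' (1 : R), fun r hr => ?_⟩
  have h1 : φ ⟨r, hr⟩ = ψ' r := by
    rw [← hψ]; rfl
  rw [h1]
  calc ψ' r = ψ' (r • (1 : R)) := by rw [smul_eq_mul, mul_one]
    _ = r • ψ' 1 := map_smul ψ' r 1

theorem main [hmax : m.toIdeal.IsMaximal] (e : (R ⧸ m.toIdeal) →ₗ[R] E)
    (he : GrLC.IsStarInjHull 𝒜 (GrLC.quotGr 𝒜 m) 𝓔 e) : InjHull.IsInjectiveHull e := by
  haveI : m.toIdeal.IsPrime := hmax.isPrime
  have hess : InjHull.IsEssentialInj e :=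
    isEssentialInj_of_isStarEss' 𝒜 (GrLC.quotGr 𝒜 m) 𝓔 he.toIsStarEss
      (Groth.Agent.Helper6.GrPrime.range_isHomogeneous_quot 𝒜 m 𝓔 he.grHom)
  have htop := Groth.Agent.Helper6.GrPrime.gam_eq_top 𝒜 m 𝓔 e he
  have htors : ∀ x : E, ∃ n : ℕ, ∀ r ∈ m.toIdeal ^ n, r • x = 0 := by
    intro x
    have : x ∈ GrLC.gam m.toIdeal E := by rw [htop]; trivial
    exact this
  exact ⟨hess, Groth.Agent.Helper6.TorsBaer.injective m.toIdeal htors
    (exists_smul_eq 𝒜 m 𝓔 he.starInj)⟩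

end Groth.Agent.Helper6.GrHullInj
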