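import Mathlib

set_option autoImplicit false

namespace Groth.Agent.Helper6.GrVeronese

open DirectSum

variable {R A : Type*} [CommRing R] [CommRing A] [Algebra R A]
  (𝒜 : ℤ → Submodule R A) [GradedAlgebra 𝒜]
  {p : ℕ} (f : Fin p → A) (deg : Fin p → ℤ)

/-- span of the monomials `c * f^α` with `c` homogeneous of degree `≤ 0`, of total degree `N`. -/
def Mono (N : ℤ) : Submodule R A :=
  Submodule.span R { x | ∃ (n : ℤ) (c : A) (α : Fin p → ℕ), n ≤ 0 ∧ c ∈ 𝒜 n ∧
    n + ∑ i, (α i : ℤ) * deg i = N ∧ x = c * ∏ i, f i ^ α i }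

omit [GradedAlgebra 𝒜] in
theorem prod_add_single (β : Fin p → ℕ) (i : Fin p) (k : ℕ) :
    ∏ j, f j ^ ((β + Pi.single i k : Fin p → ℕ) j) = (∏ j, f j ^ β j) * f i ^ k := by
  simp only [Pi.add_apply, pow_add, Finset.prod_mul_distrib]
  congr 1
  rw [Finset.prod_eq_single i]
  · rw [Pi.single_eq_same]
  · intro j _ hj
    rw [Pi.single_eq_of_ne hj, pow_zero]
  · intro h; exact absurd (Finset.mem_univ _) h

omit [GradedAlgebra 𝒜] in
theorem sum_add_single (β : Fin p → ℕ) (i : Fin p) (k : ℕ) :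
    ∑ j, (((β + Pi.single i k : Fin p → ℕ) j : ℕ) : ℤ) * deg j = ∑ j, (β j : ℤ) * deg j + k * deg i := by
  simp only [Pi.add_apply, Nat.cast_add, add_mul, Finset.sum_add_distrib]
  congr 1
  rw [Finset.sum_eq_single i]
  · rw [Pi.single_eq_same]
  · intro j _ hj
    rw [Pi.single_eq_of_ne hj, Nat.cast_zero, zero_mul]
  · intro h; exact absurd (Finset.mem_univ _) h

omit [GradedAlgebra 𝒜] in
theorem mono_mul (N : ℤ) (j : Fin p) {x : A} (hx : x ∈ Mono 𝒜 f deg N) :
    x * f j ∈ Mono 𝒜 f deg (N + deg j) := by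
  unfold Mono at hx ⊢
  induction hx using Submodule.span_induction with
  | mem x hx =>
    obtain ⟨n, c, α, hn, hc, hN, rfl⟩ := hx
    refine Submodule.subset_span ⟨n, c, α + Pi.single j 1, hn, hc, ?_, ?_⟩
    · rw [sum_add_single deg, ← hN]
      push_cast
      ring
    · rw [prod_add_single f, pow_one, mul_assoc]
  | zero => rw [zero_mul]; exact Submodule.zero_mem _
  | add x y _ _ hx hy => rw [add_mul]; exact Submodule.add_mem _ hx hy
  | smul r x _ hx => rw [smul_mul_assoc]; exact Submodule.smul_mem _ r hx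

theorem le_mono (hdeg : ∀ i, 0 < deg i) (hf : ∀ i, f i ∈ 𝒜 (deg i))
    (hgen : Ideal.span {a : A | ∃ n : ℤ, 0 < n ∧ a ∈ 𝒜 n} = Ideal.span (Set.range f)) :
    ∀ (m : ℕ) (N : ℤ), N.toNat = m → 𝒜 N ≤ Mono 𝒜 f deg N := by
  intro m
  induction m using Nat.strong_induction_on with
  | _ m ih =>
    intro N hNm x hx
    by_cases hN : N ≤ 0
    · refine Submodule.subset_span ⟨N, x, 0, hN, hx, ?_, ?_⟩
      · simp
      · simp
    · push Not at hN
      have h1 : x ∈ Ideal.span (Set.range f) := by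
        rw [← hgen]
        exact Ideal.subset_span ⟨N, hN, hx⟩
      obtain ⟨c, hc⟩ := (Ideal.mem_span_range_iff_exists_fun (R := A)).1 h1
      have h2 : x = ∑ i, (decompose 𝒜 (c i) (N - deg i) : A) * f i := by
        have h3 : GradedRing.proj 𝒜 N x = x := by
          rw [GradedRing.proj_apply, DirectSum.decompose_of_mem_same 𝒜 hx]
        rw [← h3, ← hc, map_sum]
        refine Finset.sum_congr rfl fun i _ => ?_
        rw [GradedRing.proj_apply]
        have := DirectSum.coe_decompose_mul_add_of_right_mem 𝒜 (i := N - deg i) (j := deg i)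
          (a := c i) (b := f i) (hf i)
        rw [sub_add_cancel] at this
        exact this
      rw [h2]
      refine Submodule.sum_mem _ fun i _ => ?_
      have h4 : ((decompose 𝒜 (c i) (N - deg i) : 𝒜 (N - deg i)) : A) ∈
          Mono 𝒜 f deg (N - deg i) := by
        have hlt : (N - deg i).toNat < m := by
          have := hdeg i
          omega
        exact ih _ hlt (N - deg i) rfl (SetLike.coe_mem _)
      have := mono_mul 𝒜 f deg (N - deg i) i h4
      rw [sub_add_cancel] at this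
      exact this


theorem prod_mem (hf : ∀ i, f i ∈ 𝒜 (deg i)) (β : Fin p → ℕ) :
    ∏ j, f j ^ β j ∈ 𝒜 (∑ j, (β j : ℤ) * deg j) := by
  refine SetLike.prod_mem_graded _ _ _ fun j _ => ?_
  have := SetLike.pow_mem_graded (β j) (hf j)
  rwa [nsmul_eq_mul] at this

theorem mono_le (hdeg : ∀ i, 0 < deg i) (hf : ∀ i, f i ∈ 𝒜 (deg i))
    (d : ℤ) (hd : 0 < d) (hdvd : ∀ i, deg i ∣ d) (N : ℤ) (hN : d * p - ∑ i, deg i < N) :
    Mono 𝒜 f deg N ≤ 𝒜 d * 𝒜 (N - d) := by
  unfold Mono
  rw [Submodule.span_le]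
  rintro x ⟨n, c, α, hn, hc, hsum, rfl⟩
  choose e he using hdvd
  -- pigeonhole
  have hex : ∃ i, e i ≤ (α i : ℤ) := by
    by_contra hcon
    push Not at hcon
    have h1 : ∀ i, (α i : ℤ) * deg i ≤ d - deg i := by
      intro i
      have h2 : (α i : ℤ) + 1 ≤ e i := hcon i
      have h3 : ((α i : ℤ) + 1) * deg i ≤ e i * deg i :=
        mul_le_mul_of_nonneg_right h2 (hdeg i).le
      have h4 : d = e i * deg i := by rw [he i]; ring
      rw [h4]
      linarith
    have h5 : ∑ i, (α i : ℤ) * deg i ≤ ∑ i : Fin p, (d - deg i) := Finset.sum_le_sum fun i _ => h1 i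
    rw [Finset.sum_sub_distrib, Finset.sum_const, Finset.card_univ, Fintype.card_fin,
      nsmul_eq_mul] at h5
    have : (p : ℤ) * d = d * p := mul_comm _ _
    linarith
  obtain ⟨i, hi⟩ := hex
  have hei : 0 ≤ e i := by
    by_contra hneg
    push Not at hneg
    have : deg i * e i < 0 := mul_neg_of_pos_of_neg (hdeg i) hneg
    rw [← he i] at this
    omega
  obtain ⟨k, hk⟩ : ∃ k : ℕ, (k : ℤ) = e i := ⟨(e i).toNat, Int.toNat_of_nonneg hei⟩
  have hkα : k ≤ α i := by
    have : (k : ℤ) ≤ (α i : ℤ) := by rw [hk]; exact hi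
    exact_mod_cast this
  set β : Fin p → ℕ := α - Pi.single i k with hβ
  have hαβ : α = β + Pi.single i k := by
    ext j
    by_cases hj : j = i
    · subst hj
      simp only [hβ, Pi.add_apply, Pi.sub_apply, Pi.single_eq_same]
      omega
    · simp [hβ, Pi.single_eq_of_ne hj]
  have hprod : c * ∏ j, f j ^ α j = f i ^ k * (c * ∏ j, f j ^ β j) := by
    conv_lhs => rw [hαβ]
    rw [prod_add_single f]
    ring
  have hsumβ : ∑ j, (α j : ℤ) * deg j = ∑ j, (β j : ℤ) * deg j + k * deg i := by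
    conv_lhs => rw [hαβ]
    exact sum_add_single deg β i k
  have hkd : (k : ℤ) * deg i = d := by rw [hk, he i]; ring
  rw [SetLike.mem_coe, hprod]
  refine Submodule.mul_mem_mul ?_ ?_
  · have := SetLike.pow_mem_graded k (hf i)
    rwa [nsmul_eq_mul, hkd] at this
  · have h1 := SetLike.mul_mem_graded hc (prod_mem 𝒜 f deg hf β)
    have h2 : n + ∑ j, (β j : ℤ) * deg j = N - d := by
      rw [← hsum, hsumβ, hkd]; ring
    rwa [h2] at h1

theorem main (hdeg : ∀ i, 0 < deg i) (hf : ∀ i, f i ∈ 𝒜 (deg i))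
    (hgen : Ideal.span {a : A | ∃ n : ℤ, 0 < n ∧ a ∈ 𝒜 n} = Ideal.span (Set.range f))
    (d : ℤ) (hd : 0 < d) (hdvd : ∀ i, deg i ∣ d) (N : ℤ) (hN : d * p - ∑ i, deg i < N) :
    𝒜 N = 𝒜 d * 𝒜 (N - d) := by
  apply le_antisymm
  · exact (le_mono 𝒜 f deg hdeg hf hgen _ N rfl).trans (mono_le 𝒜 f deg hdeg hf d hd hdvd N hN)
  · rw [Submodule.mul_le]
    intro a ha b hb
    have := SetLike.mul_mem_graded ha hb
    rwa [add_sub_cancel] at this

end Groth.Agent.Helper6.GrVeronese
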