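import Mathlib
import Groth.Agent.Helper6.GrVeronese
import Groth.Prelude.Def_GrLC

set_option autoImplicit false

namespace Groth.Agent.Helper6.GrTors

open DirectSum Groth.Agent.Helper6.GrVeronese

variable {R A : Type*} [CommRing R] [CommRing A] [Algebra R A]
  (𝒜 : ℤ → Submodule R A) [GradedAlgebra 𝒜]
  {p : ℕ} (f : Fin p → A) (deg : Fin p → ℤ)

theorem pow_le_piece (d : ℤ) (n : ℕ) : (𝒜 d) ^ n ≤ 𝒜 (n * d) := by
  induction n with
  | zero =>
    rw [pow_zero, Submodule.one_eq_range]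
    rintro _ ⟨r, rfl⟩
    simp only [Nat.cast_zero, zero_mul]
    exact SetLike.algebraMap_mem_graded 𝒜 r
  | succ n ih =>
    rw [pow_succ, Submodule.mul_le]
    intro a ha b hb
    have := SetLike.mul_mem_graded (ih ha) hb
    have e : (n : ℤ) * d + d = ((n + 1 : ℕ) : ℤ) * d := by push_cast; ring
    rwa [e] at this

/-- the annihilator ideal of an element -/
def annEl {M : Type*} [AddCommGroup M] [Module A M] (x : M) : Ideal A :=
  LinearMap.ker (LinearMap.toSpanSingleton A M x)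

theorem mem_annEl {M : Type*} [AddCommGroup M] [Module A M] (x : M) (a : A) :
    a ∈ annEl x ↔ a • x = 0 := by
  simp [annEl]

theorem one_to_three (hdeg : ∀ i, 0 < deg i) (hf : ∀ i, f i ∈ 𝒜 (deg i))
    (hgen : Ideal.span {a : A | ∃ n : ℤ, 0 < n ∧ a ∈ 𝒜 n} = Ideal.span (Set.range f))
    (d : ℤ) (hd : 0 < d) (hdvd : ∀ i, deg i ∣ d)
    {M : Type*} [AddCommGroup M] [Module A M] (x : M) (n : ℕ)
    (hn : ∀ r ∈ (Ideal.span (Set.range f)) ^ n, r • x = 0) :
    ∀ N : ℤ, (n : ℤ) * d ≤ N → ∀ r ∈ 𝒜 N, r • x = 0 := by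
  intro N hN r hr
  have hle : ∀ i, deg i ≤ d := fun i => Int.le_of_dvd hd (hdvd i)
  have h1 := le_mono 𝒜 f deg hdeg hf hgen _ N rfl hr
  have h2 : Mono 𝒜 f deg N ≤ (annEl x).restrictScalars R := by
    unfold Mono
    rw [Submodule.span_le]
    rintro y ⟨m, c, α, hm, hc, hsum, rfl⟩
    rw [SetLike.mem_coe, Submodule.restrictScalars_mem, mem_annEl]
    have h3 : (n : ℤ) ≤ ∑ i, (α i : ℤ) := by
      have h4 : ∑ i, (α i : ℤ) * deg i ≤ ∑ i, (α i : ℤ) * d :=
        Finset.sum_le_sum fun i _ => mul_le_mul_of_nonneg_left (hle i) (Int.natCast_nonneg _)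
      rw [← Finset.sum_mul] at h4
      have h5 : (n : ℤ) * d ≤ (∑ i, (α i : ℤ)) * d := by linarith
      exact le_of_mul_le_mul_right h5 hd
    have h6 : n ≤ ∑ i, α i := by exact_mod_cast h3
    have h7 : ∏ i, f i ^ α i ∈ (Ideal.span (Set.range f)) ^ (∑ i, α i) := by
      rw [← Finset.prod_pow_eq_pow_sum]
      exact Ideal.prod_mem_prod fun i _ =>
        Ideal.pow_mem_pow (Ideal.subset_span (Set.mem_range_self i)) _
    have h8 : c * ∏ i, f i ^ α i ∈ (Ideal.span (Set.range f)) ^ n :=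
      Ideal.mul_mem_left _ _ (Ideal.pow_le_pow_right h6 h7)
    exact hn _ h8
  have := h2 h1
  rwa [Submodule.restrictScalars_mem, mem_annEl] at this

theorem two_to_one (hf : ∀ i, f i ∈ 𝒜 (deg i)) (hdeg : ∀ i, 0 < deg i)
    (d : ℤ) (hd : 0 < d) (hdvd : ∀ i, deg i ∣ d)
    {M : Type*} [AddCommGroup M] [Module A M] (x : M) (n₀ : ℕ)
    (hn : ∀ r ∈ (𝒜 d) ^ n₀, r • x = 0) :
    ∃ n : ℕ, ∀ r ∈ (Ideal.span (Set.range f)) ^ n, r • x = 0 := by
  have h1 : Ideal.span (Set.range f) ≤ (annEl x).radical := by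
    rw [Ideal.span_le]
    rintro _ ⟨i, rfl⟩
    obtain ⟨e, he⟩ := hdvd i
    have hei : 0 ≤ e := by
      by_contra hneg
      push Not at hneg
      have : deg i * e < 0 := mul_neg_of_pos_of_neg (hdeg i) hneg
      rw [← he] at this
      omega
    obtain ⟨k, hk⟩ : ∃ k : ℕ, (k : ℤ) = e := ⟨e.toNat, Int.toNat_of_nonneg hei⟩
    refine ⟨k * n₀, ?_⟩
    rw [mem_annEl, pow_mul]
    apply hn
    apply Submodule.pow_mem_pow
    have := SetLike.pow_mem_graded k (hf i)
    have hkd : k • deg i = d := by rw [nsmul_eq_mul, hk, he]; ring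
    rwa [hkd] at this
  have hfg : (Ideal.span (Set.range f)).FG := by
    classical
    exact ⟨(Finset.univ.image f), by simp⟩
  obtain ⟨n, hn'⟩ := Ideal.exists_pow_le_of_le_radical_of_fg h1 hfg
  exact ⟨n, fun r hr => (mem_annEl x r).1 (hn' hr)⟩

end Groth.Agent.Helper6.GrTors
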