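import Mathlib

/-!
# Torsion in the cokernel of a connected symmetric integer matrix with positive kernel vector
-/

set_option autoImplicit false
set_option linter.style.haveILetI false
set_option linter.unusedSectionVars false

namespace Groth.Agent.Helper6.GraphLap

open Finset Matrix Module

variable {n : ℕ}

/-- connectivity: a function constant along edges is constant. -/
lemma const_of_edges {α : Type*} (A : Matrix (Fin n) (Fin n) ℤ) (hsymm : A.IsSymm)
    (hA : ∀ i j, i ≠ j → 0 ≤ A i j)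
    (hconn : ∀ I : Finset (Fin n), I.Nonempty → I ≠ univ → ∃ i ∈ I, ∃ j ∉ I, A i j ≠ 0)
    (u : Fin n → α) (hu : ∀ a b, a < b → 0 < A a b → u b = u a) (i j : Fin n) : u i = u j := by
  classical
  by_contra hne
  obtain ⟨I, hI⟩ : ∃ I : Finset (Fin n), I = univ.filter (fun k => u k = u i) := ⟨_, rfl⟩
  have hmem : ∀ k, k ∈ I ↔ u k = u i := by
    intro k
    rw [hI]
    simp
  have hiI : i ∈ I := (hmem i).2 rfl
  have hjI : j ∉ I := fun h => hne ((hmem j).1 h).symm
  have hIne : I ≠ univ := fun h => hjI (h ▸ mem_univ j)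
  obtain ⟨a, haI, b, hbI, hab⟩ := hconn I ⟨i, hiI⟩ hIne
  have hua : u a = u i := (hmem a).1 haI
  have hub : u b ≠ u i := fun h => hbI ((hmem b).2 h)
  have hne' : a ≠ b := by
    rintro rfl
    exact hbI haI
  have hpos : 0 < A a b := lt_of_le_of_ne (hA a b hne') (Ne.symm hab)
  rcases lt_or_gt_of_ne hne' with hlt | hgt
  · exact hub ((hu a b hlt hpos).trans hua)
  · have hpos' : 0 < A b a := by
      rw [hsymm.apply a b]
      exact hpos
    exact hub ((hu b a hgt hpos').symm.trans hua)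

section field

variable (F : Type*) [Field F] (Ab : Matrix (Fin n) (Fin n) F) (mb : Fin n → F)
  (P : Fin n × Fin n → Prop) [DecidablePred P]

/-- incidence matrix -/
def Bm : Matrix {p : Fin n × Fin n // P p} (Fin n) F := fun e i =>
  (if e.1.2 = i then 1 else 0) - (if e.1.1 = i then 1 else 0)

variable {F}

/-- the flow attached to `x` -/
def q (x : Fin n → F) (p : Fin n × Fin n) : F :=
  Ab p.1 p.2 * (mb p.1 * x p.2 - mb p.2 * x p.1)

def Psi : (Fin n → F) →ₗ[F] ({p : Fin n × Fin n // P p} → F) where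
  toFun x e := q Ab mb x e.1
  map_add' x y := by
    funext e
    simp only [q, Pi.add_apply]
    ring
  map_smul' c x := by
    funext e
    simp only [q, Pi.smul_apply, smul_eq_mul, RingHom.id_apply]
    ring

lemma Psi_apply (x : Fin n → F) (e : {p : Fin n × Fin n // P p}) :
    Psi Ab mb P x e = q Ab mb x e.1 := rfl

lemma Bm_mulVec (u : Fin n → F) (e : {p : Fin n × Fin n // P p}) :
    (Bm F P *ᵥ u) e = u e.1.2 - u e.1.1 := by
  simp only [Matrix.mulVec, dotProduct, Bm, sub_mul, ite_mul, one_mul, zero_mul,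
    Finset.sum_sub_distrib, Finset.sum_ite_eq, Finset.mem_univ, if_true]

lemma ker_Bm_le (hn : 0 < n)
    (hconn : ∀ u : Fin n → F, (∀ a b, P (a, b) → u b = u a) → ∀ i j, u i = u j) :
    finrank F (LinearMap.ker (Bm F P).mulVecLin) ≤ 1 := by
  have hone : (fun _ => 1 : Fin n → F) ≠ 0 := fun h => one_ne_zero (congrFun h ⟨0, hn⟩)
  have h1 : LinearMap.ker (Bm F P).mulVecLin ≤ Submodule.span F {(fun _ => 1 : Fin n → F)} := by
    intro u hu
    rw [LinearMap.mem_ker, Matrix.mulVecLin_apply] at hu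
    have hu' : ∀ a b, P (a, b) → u b = u a := by
      intro a b hab
      have h2 := congrFun hu ⟨(a, b), hab⟩
      rw [Bm_mulVec] at h2
      exact sub_eq_zero.1 h2
    have hc := hconn u hu'
    rw [Submodule.mem_span_singleton]
    refine ⟨u ⟨0, hn⟩, funext fun i => ?_⟩
    simp only [Pi.smul_apply, smul_eq_mul, mul_one]
    exact hc _ _
  exact (Submodule.finrank_mono h1).trans (finrank_span_singleton hone).le

lemma rank_Bm_ge (hn : 0 < n)
    (hconn : ∀ u : Fin n → F, (∀ a b, P (a, b) → u b = u a) → ∀ i j, u i = u j) :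
    n ≤ (Bm F P).rank + 1 := by
  have h1 := LinearMap.finrank_range_add_finrank_ker (Bm F P).mulVecLin
  rw [Module.finrank_fin_fun] at h1
  have h2 := ker_Bm_le P hn hconn
  unfold Matrix.rank
  omega

lemma finrank_ker_transpose (hn : 0 < n)
    (hconn : ∀ u : Fin n → F, (∀ a b, P (a, b) → u b = u a) → ∀ i j, u i = u j) :
    finrank F (LinearMap.ker (Bm F P)ᵀ.mulVecLin) + n ≤
      Fintype.card {p : Fin n × Fin n // P p} + 1 := by
  have h1 := LinearMap.finrank_range_add_finrank_ker (Bm F P)ᵀ.mulVecLin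
  rw [Module.finrank_fintype_fun_eq_card] at h1
  have h2 : finrank F (LinearMap.range (Bm F P)ᵀ.mulVecLin) = (Bm F P).rank := by
    rw [← Matrix.rank_transpose]
    rfl
  have h3 := rank_Bm_ge P hn hconn
  omega

lemma Psi_mem_ker (hsym : Ab.IsSymm) (hP1 : ∀ a b, P (a, b) → a < b)
    (hP2 : ∀ a b, a < b → ¬ P (a, b) → Ab a b = 0)
    (hAm : Ab *ᵥ mb = 0) (x : Fin n → F) (hx : Ab *ᵥ x = 0) :
    (Bm F P)ᵀ *ᵥ (Psi Ab mb P x) = 0 := by
  funext i
  have hq_symm : ∀ a b, q Ab mb x (a, b) = - q Ab mb x (b, a) := by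
    intro a b
    simp only [q]
    rw [hsym.apply a b]
    ring
  have hq_self : ∀ a, q Ab mb x (a, a) = 0 := by
    intro a
    simp only [q]
    ring
  have hqz : ∀ a b, Ab a b = 0 → q Ab mb x (a, b) = 0 := by
    intro a b h
    simp only [q, h, zero_mul]
  have hsum : ∑ j, q Ab mb x (i, j) = 0 := by
    have h1 : ∑ j, q Ab mb x (i, j) = mb i * (Ab *ᵥ x) i - x i * (Ab *ᵥ mb) i := by
      simp only [q, Matrix.mulVec, dotProduct, Finset.mul_sum, ← Finset.sum_sub_distrib]
      refine Finset.sum_congr rfl fun j _ => ?_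
      ring
    rw [h1, congrFun hx i, congrFun hAm i]
    simp
  have hT1 : ∑ e : {p : Fin n × Fin n // P p}, (if e.1.2 = i then q Ab mb x e.1 else 0) =
      ∑ a, (if P (a, i) then q Ab mb x (a, i) else 0) := by
    have h0 := Finset.sum_subtype (p := P) (F := inferInstance) (univ.filter P) (fun p => by simp)
      (fun p : Fin n × Fin n => if p.2 = i then q Ab mb x p else 0)
    refine h0.symm.trans ?_
    rw [Finset.sum_filter, Fintype.sum_prod_type]
    refine Finset.sum_congr rfl fun a _ => ?_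
    rw [Finset.sum_eq_single i]
    · simp
    · intro b _ hb
      simp [hb]
    · intro h
      exact absurd (mem_univ i) h
  have hT2 : ∑ e : {p : Fin n × Fin n // P p}, (if e.1.1 = i then q Ab mb x e.1 else 0) =
      ∑ b, (if P (i, b) then q Ab mb x (i, b) else 0) := by
    have h0 := Finset.sum_subtype (p := P) (F := inferInstance) (univ.filter P) (fun p => by simp)
      (fun p : Fin n × Fin n => if p.1 = i then q Ab mb x p else 0)
    refine h0.symm.trans ?_
    rw [Finset.sum_filter, Fintype.sum_prod_type, Finset.sum_eq_single i]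
    · refine Finset.sum_congr rfl fun b _ => ?_
      simp
    · intro a _ ha
      apply Finset.sum_eq_zero
      intro b _
      simp [ha]
    · intro h
      exact absurd (mem_univ i) h
  have hterm : ∀ j, (if P (j, i) then q Ab mb x (j, i) else 0) -
      (if P (i, j) then q Ab mb x (i, j) else 0) = - q Ab mb x (i, j) := by
    intro j
    rcases lt_trichotomy j i with h | h | h
    · have hnP : ¬ P (i, j) := fun hP => lt_asymm h (hP1 i j hP)
      rw [if_neg hnP, sub_zero]
      by_cases hP : P (j, i)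
      · rw [if_pos hP, hq_symm j i]
      · rw [if_neg hP]
        have h0 : Ab i j = 0 := (hsym.apply i j).symm.trans (hP2 j i h hP)
        rw [hqz i j h0, neg_zero]
    · rw [h]
      simp [hq_self]
    · have hnP : ¬ P (j, i) := fun hP => lt_asymm h (hP1 j i hP)
      rw [if_neg hnP, zero_sub]
      by_cases hP : P (i, j)
      · rw [if_pos hP]
      · rw [if_neg hP, hqz i j (hP2 i j h hP)]
  calc ((Bm F P)ᵀ *ᵥ Psi Ab mb P x) i
      = ∑ e : {p : Fin n × Fin n // P p}, (if e.1.2 = i then q Ab mb x e.1 else 0) -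
        ∑ e : {p : Fin n × Fin n // P p}, (if e.1.1 = i then q Ab mb x e.1 else 0) := by
        simp only [Matrix.mulVec, dotProduct, Matrix.transpose_apply, Bm, Psi_apply, sub_mul,
          ite_mul, one_mul, zero_mul, Finset.sum_sub_distrib]
    _ = ∑ j, ((if P (j, i) then q Ab mb x (j, i) else 0) -
          (if P (i, j) then q Ab mb x (i, j) else 0)) := by
        rw [hT1, hT2, Finset.sum_sub_distrib]
    _ = ∑ j, - q Ab mb x (i, j) := Finset.sum_congr rfl fun j _ => hterm j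
    _ = 0 := by rw [Finset.sum_neg_distrib, hsum, neg_zero]

theorem finrank_ker_add_le (hn : 0 < n) (hsym : Ab.IsSymm) (hmb : ∀ i, mb i ≠ 0)
    (hAm : Ab *ᵥ mb = 0) (hP1 : ∀ a b, P (a, b) → a < b)
    (hP1' : ∀ a b, P (a, b) → Ab a b ≠ 0) (hP2 : ∀ a b, a < b → ¬ P (a, b) → Ab a b = 0)
    (hconn : ∀ u : Fin n → F, (∀ a b, P (a, b) → u b = u a) → ∀ i j, u i = u j) :
    finrank F (LinearMap.ker Ab.mulVecLin) + n ≤ (univ.filter P).card + 2 := by
  obtain ⟨V, hV⟩ : ∃ V, V = LinearMap.ker Ab.mulVecLin := ⟨_, rfl⟩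
  rw [← hV]
  obtain ⟨Ψ', hΨ'⟩ : ∃ Ψ' : V →ₗ[F] ({p : Fin n × Fin n // P p} → F),
      Ψ' = (Psi Ab mb P).domRestrict V := ⟨_, rfl⟩
  have hΨ'app : ∀ x : V, Ψ' x = Psi Ab mb P (x : Fin n → F) := by
    intro x
    rw [hΨ']
    rfl
  have h1 := LinearMap.finrank_range_add_finrank_ker Ψ'
  have h2 : LinearMap.range Ψ' ≤ LinearMap.ker (Bm F P)ᵀ.mulVecLin := by
    rintro _ ⟨x, rfl⟩
    rw [LinearMap.mem_ker, Matrix.mulVecLin_apply, hΨ'app]
    have hx : Ab *ᵥ (x : Fin n → F) = 0 := by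
      have h3 : (x : Fin n → F) ∈ LinearMap.ker Ab.mulVecLin := hV ▸ x.2
      rw [LinearMap.mem_ker, Matrix.mulVecLin_apply] at h3
      exact h3
    exact Psi_mem_ker Ab mb P hsym hP1 hP2 hAm x hx
  have h3 : finrank F (LinearMap.ker Ψ') ≤ 1 := by
    have hmV : mb ∈ V := by
      rw [hV, LinearMap.mem_ker, Matrix.mulVecLin_apply]
      exact hAm
    have h4 : LinearMap.ker Ψ' ≤ Submodule.span F {(⟨mb, hmV⟩ : V)} := by
      intro x hx
      rw [LinearMap.mem_ker, hΨ'app] at hx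
      have hx' : ∀ a b, P (a, b) →
          (x : Fin n → F) b / mb b = (x : Fin n → F) a / mb a := by
        intro a b hab
        have h5 := congrFun hx ⟨(a, b), hab⟩
        have h6 : Ab a b * (mb a * (x : Fin n → F) b - mb b * (x : Fin n → F) a) = 0 := h5
        have h7 := (mul_eq_zero.1 h6).resolve_left (hP1' a b hab)
        rw [div_eq_div_iff (hmb b) (hmb a)]
        linear_combination h7
      have hc := hconn (fun k => (x : Fin n → F) k / mb k) hx'
      rw [Submodule.mem_span_singleton]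
      refine ⟨(x : Fin n → F) ⟨0, hn⟩ / mb ⟨0, hn⟩, Subtype.ext (funext fun k => ?_)⟩
      have h8 : (x : Fin n → F) k / mb k = (x : Fin n → F) ⟨0, hn⟩ / mb ⟨0, hn⟩ := hc k ⟨0, hn⟩
      simp only [Submodule.coe_smul, Pi.smul_apply, smul_eq_mul]
      rw [← h8]
      field_simp [hmb k]
    exact (Submodule.finrank_mono h4).trans ((finrank_span_le_card _).trans (by simp))
  have h5 := finrank_ker_transpose P hn hconn
  have h6 := Submodule.finrank_mono h2
  have hcard : Fintype.card {p : Fin n × Fin n // P p} = (univ.filter P).card :=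
    Fintype.card_subtype P
  omega

end field

section counting

variable (ℓ : ℕ) [Fact ℓ.Prime]

lemma map_cast_mulVec (A : Matrix (Fin n) (Fin n) ℤ) (y : Fin n → ℤ) :
    (A.map (Int.cast : ℤ → ZMod ℓ)) *ᵥ (fun i => ((y i : ℤ) : ZMod ℓ)) =
      fun i => (((A *ᵥ y) i : ℤ) : ZMod ℓ) := by
  funext i
  simp only [Matrix.mulVec, dotProduct, Matrix.map_apply, Int.cast_sum, Int.cast_mul]

theorem card_torsion_mul_le (A : Matrix (Fin n) (Fin n) ℤ) (m : Fin n → ℤ) (hAm : A *ᵥ m = 0)
    (hn : 0 < n) (hℓm : ∀ i, ¬ ((ℓ : ℤ) ∣ m i)) :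
    Nat.card (Submodule.torsionBy ℤ
        ((Fin n → ℤ) ⧸ LinearMap.range (Matrix.mulVecLin A)) (ℓ : ℤ)) * ℓ
      ≤ ℓ ^ finrank (ZMod ℓ) (LinearMap.ker (A.map (Int.cast : ℤ → ZMod ℓ)).mulVecLin) := by
  classical
  have hℓ0 : (ℓ : ℤ) ≠ 0 := by exact_mod_cast (Fact.out : ℓ.Prime).ne_zero
  obtain ⟨red, hred⟩ : ∃ red : (Fin n → ℤ) → (Fin n → ZMod ℓ),
      red = fun y i => ((y i : ℤ) : ZMod ℓ) := ⟨_, rfl⟩
  have hred_app : ∀ y i, red y i = ((y i : ℤ) : ZMod ℓ) := by
    intro y i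
    rw [hred]
  have hred_mulVec : ∀ y, (A.map (Int.cast : ℤ → ZMod ℓ)) *ᵥ red y = red (A *ᵥ y) := by
    intro y
    rw [hred]
    exact map_cast_mulVec ℓ A y
  have hred_zero : ∀ y, red y = 0 → ∃ z : Fin n → ℤ, y = (ℓ : ℤ) • z := by
    intro y hy
    have h1 : ∀ i, (ℓ : ℤ) ∣ y i := fun i =>
      (ZMod.intCast_zmod_eq_zero_iff_dvd (y i) ℓ).1 (by rw [← hred_app]; exact congrFun hy i)
    choose z hz using h1
    exact ⟨z, funext fun i => by simp [hz i]⟩
  obtain ⟨V, hV⟩ : ∃ V, V = LinearMap.ker (A.map (Int.cast : ℤ → ZMod ℓ)).mulVecLin :=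
    ⟨_, rfl⟩
  rw [← hV]
  have h1 : ∀ t : Submodule.torsionBy ℤ
      ((Fin n → ℤ) ⧸ LinearMap.range (Matrix.mulVecLin A)) (ℓ : ℤ),
      ∃ x y : Fin n → ℤ, (Submodule.Quotient.mk x :
        (Fin n → ℤ) ⧸ LinearMap.range (Matrix.mulVecLin A)) = t ∧ A *ᵥ y = (ℓ : ℤ) • x := by
    intro t
    obtain ⟨x, hx⟩ := Submodule.Quotient.mk_surjective _
      (t : (Fin n → ℤ) ⧸ LinearMap.range (Matrix.mulVecLin A))
    have ht : (ℓ : ℤ) • (t : (Fin n → ℤ) ⧸ LinearMap.range (Matrix.mulVecLin A)) = 0 := by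
      have h2 := t.2
      rwa [Submodule.mem_torsionBy_iff] at h2
    rw [← hx, ← Submodule.Quotient.mk_smul, Submodule.Quotient.mk_eq_zero] at ht
    obtain ⟨y, hy⟩ := ht
    exact ⟨x, y, hx, hy⟩
  choose X Y hX hY using h1
  have hzero_red : ∀ x : Fin n → ℤ, red ((ℓ : ℤ) • x) = 0 := by
    intro x
    funext i
    rw [hred_app]
    simp
  have hmbV : red m ∈ V := by
    rw [hV, LinearMap.mem_ker, Matrix.mulVecLin_apply, hred_mulVec, hAm]
    funext i
    rw [hred_app]
    simp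
  have hYV : ∀ t, red (Y t) ∈ V := by
    intro t
    rw [hV, LinearMap.mem_ker, Matrix.mulVecLin_apply, hred_mulVec, hY, hzero_red]
  obtain ⟨g, hg⟩ : ∃ g : (Submodule.torsionBy ℤ
      ((Fin n → ℤ) ⧸ LinearMap.range (Matrix.mulVecLin A)) (ℓ : ℤ)) × ZMod ℓ → V,
      ∀ p, ((g p : V) : Fin n → ZMod ℓ) = red (Y p.1) + p.2 • red m :=
    ⟨fun p => ⟨red (Y p.1) + p.2 • red m, V.add_mem (hYV p.1) (V.smul_mem _ hmbV)⟩,
      fun p => rfl⟩
  have hginj : Function.Injective g := by
    rintro ⟨t, c⟩ ⟨t', c'⟩ h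
    have h0 : red (Y t) + c • red m = red (Y t') + c' • red m := by
      have h2 := congrArg (fun v : V => (v : Fin n → ZMod ℓ)) h
      simpa only [hg] using h2
    obtain ⟨a, rfl⟩ := ZMod.intCast_surjective c
    obtain ⟨a', rfl⟩ := ZMod.intCast_surjective c'
    have h2 : red (Y t - Y t' + (a - a') • m) = 0 := by
      funext i
      have h3 := congrFun h0 i
      simp only [hred_app, Pi.add_apply, Pi.smul_apply, smul_eq_mul, Pi.sub_apply, Int.cast_add,
        Int.cast_sub, Int.cast_mul, Pi.zero_apply] at h3 ⊢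
      linear_combination h3
    obtain ⟨z, hz⟩ := hred_zero _ h2
    have h3 : (ℓ : ℤ) • (X t - X t') = (ℓ : ℤ) • (A *ᵥ z) := by
      have h4 := congrArg (fun v => A *ᵥ v) hz
      simp only [Matrix.mulVec_add, Matrix.mulVec_sub, Matrix.mulVec_smul, hY, hAm, smul_zero,
        add_zero] at h4
      rw [smul_sub]
      exact h4
    have h4 : X t - X t' = A *ᵥ z := smul_right_injective (Fin n → ℤ) hℓ0 h3
    have htt : t = t' := by
      apply Subtype.ext
      rw [← hX t, ← hX t', ← sub_eq_zero, ← Submodule.Quotient.mk_sub,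
        Submodule.Quotient.mk_eq_zero, h4]
      exact ⟨z, rfl⟩
    subst htt
    have h5 : ((a : ZMod ℓ) - (a' : ZMod ℓ)) • red m = 0 := by
      rw [sub_smul, sub_eq_zero]
      exact add_left_cancel h0
    have h6 : red m ⟨0, hn⟩ ≠ 0 := by
      rw [hred_app, Ne, ZMod.intCast_zmod_eq_zero_iff_dvd]
      exact hℓm _
    have h7 := congrFun h5 ⟨0, hn⟩
    simp only [Pi.smul_apply, smul_eq_mul, Pi.zero_apply] at h7
    have h8 := (mul_eq_zero.1 h7).resolve_right h6
    rw [sub_eq_zero.1 h8]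
  have hcard := Nat.card_le_card_of_injective g hginj
  rw [Nat.card_prod, Nat.card_zmod] at hcard
  have hV' : Nat.card V = ℓ ^ finrank (ZMod ℓ) V := by
    rw [Module.natCard_eq_pow_finrank (K := ZMod ℓ) (V := V), Nat.card_zmod]
  rwa [hV'] at hcard

end counting

end Groth.Agent.Helper6.GraphLap
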