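import Mathlib
import Groth.Agent.Helper1.TorBalance

/-!
# Dimension shifting for `Tor` along a complex of flat modules
-/

set_option autoImplicit false
set_option linter.style.haveILetI false
set_option linter.unusedSectionVars false

universe u
open CategoryTheory CategoryTheory.Limits MonoidalCategory
open Groth.Agent.Helper1.TorLib

namespace Groth.Agent.Helper6.Gtor

variable {A : Type u} [CommRing A]

/-- `Tor_i(X, N)` is concentrated in degree `d` with value `T`. -/
def TorConc (X N T : ModuleCat.{u} A) (d : ℕ) : Prop :=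
  (∀ i : ℕ, i ≠ d → IsZero (((Tor (ModuleCat.{u} A) i).obj X).obj N)) ∧
    Nonempty (((Tor (ModuleCat.{u} A) d).obj X).obj N ≅ T)

lemma TorConc.of_iso {X X' N T : ModuleCat.{u} A} {d : ℕ} (e : X ≅ X') (h : TorConc X N T d) :
    TorConc X' N T d := by
  refine ⟨fun i hi => (h.1 i hi).of_iso ?_, ?_⟩
  · exact (((Tor (ModuleCat.{u} A) i).mapIso e).app N).symm
  · obtain ⟨φ⟩ := h.2
    exact ⟨(((Tor (ModuleCat.{u} A) d).mapIso e).app N).symm ≪≫ φ⟩

lemma TorConc.of_iso_right {X N T T' : ModuleCat.{u} A} {d : ℕ} (e : T ≅ T') (h : TorConc X N T d) :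
    TorConc X N T' d := by
  refine ⟨h.1, ?_⟩
  obtain ⟨φ⟩ := h.2
  exact ⟨φ ≪≫ e⟩

lemma torConc_of_flat (X N : ModuleCat.{u} A) [Module.Flat A X] : TorConc X N (X ⊗ N) 0 := by
  refine ⟨fun i hi => ?_, ⟨(torZeroNatIso N).app X⟩⟩
  obtain ⟨j, rfl⟩ : ∃ j, i = j + 1 := ⟨i - 1, by omega⟩
  exact isZero_tor_of_flat_left X N j

lemma torConc_step {S : ShortComplex (ModuleCat.{u} A)} (hS : S.ShortExact) (N T : ModuleCat.{u} A)
    [Module.Flat A S.X₂] (h0 : Subsingleton (TensorProduct A S.X₂ N)) (d : ℕ)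
    (h : TorConc S.X₁ N T d) : TorConc S.X₃ N T (d + 1) := by
  have hz0 : IsZero (((Tor (ModuleCat.{u} A) 0).obj S.X₂).obj N) := by
    refine IsZero.of_iso ?_ ((torZeroNatIso N).app S.X₂)
    haveI : Subsingleton ((tensorRight N).obj S.X₂ : ModuleCat.{u} A) := h0
    exact ModuleCat.isZero_of_subsingleton _
  have hz : ∀ i, IsZero (((Tor (ModuleCat.{u} A) i).obj S.X₂).obj N) := by
    intro i
    cases i with
    | zero => exact hz0
    | succ j => exact isZero_tor_of_flat_left S.X₂ N j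
  have hiso : ∀ i, IsIso (torδ N hS i) := by
    intro i
    haveI : Mono (torδ N hS i) := (tor_exact₃ N hS i).mono_g ((hz (i + 1)).eq_of_src _ _)
    haveI : Epi (torδ N hS i) := (tor_exact₁ N hS i).epi_f ((hz i).eq_of_tgt _ _)
    exact isIso_of_mono_of_epi _
  have hz3 : IsZero (((Tor (ModuleCat.{u} A) 0).obj S.X₃).obj N) := by
    refine IsZero.of_iso ?_ ((torZeroNatIso N).app S.X₃)
    haveI : Subsingleton (TensorProduct A S.X₃ N) := by
      haveI := hS.epi_g
      have hsurj : Function.Surjective S.g.hom := (ModuleCat.epi_iff_surjective S.g).mp inferInstance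
      exact (LinearMap.rTensor_surjective N hsurj).subsingleton
    haveI : Subsingleton ((tensorRight N).obj S.X₃ : ModuleCat.{u} A) :=
      (inferInstance : Subsingleton (TensorProduct A S.X₃ N))
    exact ModuleCat.isZero_of_subsingleton _
  refine ⟨fun i hi => ?_, ?_⟩
  · cases i with
    | zero => exact hz3
    | succ j =>
      haveI := hiso j
      exact (h.1 j (by omega)).of_iso (asIso (torδ N hS j))
  · obtain ⟨φ⟩ := h.2
    haveI := hiso d
    exact ⟨asIso (torδ N hS d) ≪≫ φ⟩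

/-- **Dimension shifting.** -/
theorem torConc_opcycles (C : CochainComplex (ModuleCat.{u} A) ℤ) (N : ModuleCat.{u} A)
    (hflat : ∀ j : ℤ, Module.Flat A (C.X j)) (hneg : IsZero (C.X (-1))) (d : ℕ)
    (hex : ∀ j : ℕ, j < d → C.ExactAt (j : ℤ))
    (hten : ∀ j : ℕ, 1 ≤ j → j ≤ d → Subsingleton (TensorProduct A (C.X (j : ℤ)) N)) :
    TorConc (C.opcycles (d : ℤ)) N (C.X 0 ⊗ N) d := by
  induction d with
  | zero =>
    haveI := hflat 0
    haveI : IsIso (C.pOpcycles 0) :=
      C.isIso_pOpcycles (-1) 0 (by simp) (hneg.eq_of_src _ _)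
    exact (torConc_of_flat (C.X 0) N).of_iso (asIso (C.pOpcycles 0))
  | succ n ih =>
    have ih' := ih (fun j hj => hex j (by omega)) (fun j h1 h2 => hten j h1 (by omega))
    have hrel : (ComplexShape.up ℤ).Rel (n : ℤ) ((n + 1 : ℕ) : ℤ) := by
      show (n : ℤ) + 1 = ((n + 1 : ℕ) : ℤ)
      push_cast
      rfl
    have hS := opcyclesSC_shortExact C (n : ℤ) ((n + 1 : ℕ) : ℤ) hrel (hex n (by omega))
    haveI : Module.Flat A (opcyclesSC C (n : ℤ) ((n + 1 : ℕ) : ℤ)).X₂ := hflat _
    exact torConc_step hS N _ (hten (n + 1) (by omega) le_rfl) n ih'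

end Groth.Agent.Helper6.Gtor
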