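import Mathlib
import Groth.Prelude.Def_DerCA
import Groth.Agent.Helper1.ExtCechBot

/-!
# The terms of the extended Čech complex: flatness, tensor vanishing, amplitude
-/

set_option autoImplicit false
set_option linter.style.haveILetI false
set_option linter.unusedSectionVars false

universe u
open CategoryTheory CategoryTheory.Limits CochainComplex HomologicalComplex DerCA

namespace Groth.Agent.Helper6.Gtor

variable {R : Type u} [CommRing R]

lemma flat_prod (X Y : Type u) [AddCommGroup X] [Module R X] [AddCommGroup Y] [Module R Y]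
    [Module.Flat R X] [Module.Flat R Y] : Module.Flat R (X × Y) := by
  rw [Module.Flat.iff_lTensor_preserves_injective_linearMap]
  intro N N' _ _ _ _ f hf
  rw [injective_iff_map_eq_zero]
  intro t ht
  have h1 : LinearMap.rTensor N (LinearMap.fst R X Y) t = 0 := by
    apply Module.Flat.lTensor_preserves_injective_linearMap (M := X) f hf
    rw [map_zero]
    have h := LinearMap.congr_fun ((LinearMap.lTensor_comp_rTensor (f := LinearMap.fst R X Y) (g := f)).trans
      (LinearMap.rTensor_comp_lTensor (f := LinearMap.fst R X Y) (g := f)).symm) t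
    simp only [LinearMap.comp_apply] at h
    rw [h, ht, map_zero]
  have h2 : LinearMap.rTensor N (LinearMap.snd R X Y) t = 0 := by
    apply Module.Flat.lTensor_preserves_injective_linearMap (M := Y) f hf
    rw [map_zero]
    have h := LinearMap.congr_fun ((LinearMap.lTensor_comp_rTensor (f := LinearMap.snd R X Y) (g := f)).trans
      (LinearMap.rTensor_comp_lTensor (f := LinearMap.snd R X Y) (g := f)).symm) t
    simp only [LinearMap.comp_apply] at h
    rw [h, ht, map_zero]
  have hid : LinearMap.inl R X Y ∘ₗ LinearMap.fst R X Y + LinearMap.inr R X Y ∘ₗ LinearMap.snd R X Y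
      = LinearMap.id := by
    ext <;> simp
  have h3 : t = LinearMap.rTensor N (LinearMap.inl R X Y ∘ₗ LinearMap.fst R X Y +
      LinearMap.inr R X Y ∘ₗ LinearMap.snd R X Y) t := by
    rw [hid, LinearMap.rTensor_id, LinearMap.id_apply]
  rw [h3, LinearMap.rTensor_add, LinearMap.add_apply, LinearMap.rTensor_comp,
    LinearMap.rTensor_comp, LinearMap.comp_apply, LinearMap.comp_apply, h1, h2, map_zero, map_zero,
    add_zero]

lemma flat_localizedModule (g : R) (Y : Type u) [AddCommGroup Y] [Module R Y] [Module.Flat R Y] :
    Module.Flat R (LocalizedModule (Submonoid.powers g) Y) := by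
  haveI : Module.Flat R (Localization (Submonoid.powers g)) :=
    IsLocalization.flat (Localization (Submonoid.powers g)) (Submonoid.powers g)
  exact Module.Flat.trans R (Localization (Submonoid.powers g))
    (LocalizedModule (Submonoid.powers g) Y)

lemma flat_biprod (X Y : ModuleCat.{u} R) [Module.Flat R X] [Module.Flat R Y] :
    Module.Flat R (X ⊞ Y : ModuleCat.{u} R) := by
  haveI : Module.Flat R (↑X × ↑Y) := flat_prod X Y
  exact Module.Flat.of_linearEquiv (ModuleCat.biprodIsoProd X Y).toLinearEquiv

/-- the terms of the Čech complex of a flat module are flat -/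
lemma flat_extCech_X (M : ModuleCat.{u} R) [Module.Flat R M] :
    ∀ (fs : List R) (n : ℤ), Module.Flat R ((extCech M fs).X n)
  | [], n => by
    by_cases h : n = 0
    · subst h
      exact Module.Flat.of_linearEquiv
        (HomologicalComplex.singleObjXSelf (ComplexShape.up ℤ) 0 M).toLinearEquiv
    · haveI : Subsingleton ((extCech M []).X n) := ModuleCat.subsingleton_of_isZero
        (HomologicalComplex.isZero_single_obj_X (ComplexShape.up ℤ) 0 M n h)
      infer_instance
  | g :: gs, n => by
    haveI := flat_extCech_X M gs n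
    haveI := flat_extCech_X M gs (n - 1)
    haveI : Module.Flat R (((locCx (Submonoid.powers g)).obj (extCech M gs)).X (n - 1)) :=
      flat_localizedModule g ((extCech M gs).X (n - 1))
    haveI := flat_biprod ((extCech M gs).X n)
      (((locCx (Submonoid.powers g)).obj (extCech M gs)).X (n - 1))
    exact Module.Flat.of_linearEquiv
      (mappingCoconeXIso (locCxUnit (Submonoid.powers g) (extCech M gs)) n).toLinearEquiv

lemma subsingleton_tensor_of_subsingleton (X N : Type u) [AddCommGroup X] [Module R X]
    [AddCommGroup N] [Module R N] [Subsingleton X] : Subsingleton (TensorProduct R X N) := by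
  have key : ∀ t : TensorProduct R X N, t = 0 := by
    intro t
    induction t using TensorProduct.induction_on with
    | zero => rfl
    | tmul x y => rw [Subsingleton.elim x 0, TensorProduct.zero_tmul]
    | add a b ha hb => rw [ha, hb, add_zero]
  exact ⟨fun a b => by rw [key a, key b]⟩

lemma subsingleton_tensor_localized (g : R) (Y N : Type u) [AddCommGroup Y] [Module R Y]
    [AddCommGroup N] [Module R N] (hg : ∀ y : N, g • y = 0) :
    Subsingleton (TensorProduct R (LocalizedModule (Submonoid.powers g) Y) N) := by
  have key : ∀ t : TensorProduct R (LocalizedModule (Submonoid.powers g) Y) N, t = 0 := by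
    intro t
    induction t using TensorProduct.induction_on with
    | zero => rfl
    | tmul x y =>
      have hu := IsLocalizedModule.map_units (S := Submonoid.powers g)
        (LocalizedModule.mkLinearMap (Submonoid.powers g) Y) ⟨g, 1, pow_one g⟩
      obtain ⟨x', hx'⟩ := ((Module.End.isUnit_iff _).1 hu).2 x
      rw [Module.algebraMap_end_apply] at hx'
      rw [← hx']
      show (g • x') ⊗ₜ[R] y = 0
      rw [TensorProduct.smul_tmul, hg, TensorProduct.tmul_zero]
    | add a b ha hb => rw [ha, hb, add_zero]
  exact ⟨fun a b => by rw [key a, key b]⟩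

lemma subsingleton_tensor_of_iso_biprod {Z X Y : ModuleCat.{u} R} (e : Z ≅ X ⊞ Y)
    (N : Type u) [AddCommGroup N] [Module R N]
    [Subsingleton (TensorProduct R X N)] [Subsingleton (TensorProduct R Y N)] :
    Subsingleton (TensorProduct R Z N) := by
  have key : ∀ t : TensorProduct R Z N, t = 0 := by
    intro t
    induction t using TensorProduct.induction_on with
    | zero => rfl
    | tmul z y =>
      have hz : z = (e.hom ≫ biprod.fst ≫ biprod.inl ≫ e.inv).hom z +
          (e.hom ≫ biprod.snd ≫ biprod.inr ≫ e.inv).hom z := by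
        have h1 : e.hom ≫ biprod.fst ≫ biprod.inl ≫ e.inv + e.hom ≫ biprod.snd ≫ biprod.inr ≫ e.inv
            = 𝟙 Z := by
          rw [← Preadditive.comp_add, ← Category.assoc biprod.fst, ← Category.assoc biprod.snd,
            ← Preadditive.add_comp, biprod.total, Category.id_comp, e.hom_inv_id]
        have h2 := congrArg (fun f : Z ⟶ Z => f.hom z) h1
        exact h2.symm
      have h3 : ((e.hom ≫ biprod.fst ≫ biprod.inl ≫ e.inv).hom z) ⊗ₜ[R] y = 0 := by
        have : ((e.hom ≫ biprod.fst ≫ biprod.inl ≫ e.inv).hom z) ⊗ₜ[R] y =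
            LinearMap.rTensor N (biprod.inl ≫ e.inv : X ⟶ Z).hom
              (((e.hom ≫ biprod.fst).hom z) ⊗ₜ[R] y) := rfl
        rw [this, Subsingleton.elim (((e.hom ≫ biprod.fst).hom z) ⊗ₜ[R] y) 0, map_zero]
      have h4 : ((e.hom ≫ biprod.snd ≫ biprod.inr ≫ e.inv).hom z) ⊗ₜ[R] y = 0 := by
        have : ((e.hom ≫ biprod.snd ≫ biprod.inr ≫ e.inv).hom z) ⊗ₜ[R] y =
            LinearMap.rTensor N (biprod.inr ≫ e.inv : Y ⟶ Z).hom
              (((e.hom ≫ biprod.snd).hom z) ⊗ₜ[R] y) := rfl
        rw [this, Subsingleton.elim (((e.hom ≫ biprod.snd).hom z) ⊗ₜ[R] y) 0, map_zero]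
      rw [hz, TensorProduct.add_tmul, h3, h4, add_zero]
    | add a b ha hb => rw [ha, hb, add_zero]
  exact ⟨fun a b => by rw [key a, key b]⟩

/-- in positive degrees the terms of the Čech complex die after tensoring with a module killed
by the elements -/
lemma subsingleton_tensor_extCech (M : ModuleCat.{u} R) (N : Type u) [AddCommGroup N]
    [Module R N] : ∀ (fs : List R), (∀ g ∈ fs, ∀ y : N, g • y = 0) → ∀ n : ℤ, 1 ≤ n →
      Subsingleton (TensorProduct R ((extCech M fs).X n) N)
  | [], _, n, hn => by
    haveI : Subsingleton ((extCech M []).X n) := ModuleCat.subsingleton_of_isZero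
      (HomologicalComplex.isZero_single_obj_X (ComplexShape.up ℤ) 0 M n (by omega))
    exact subsingleton_tensor_of_subsingleton _ N
  | g :: gs, hgs, n, hn => by
    haveI := subsingleton_tensor_extCech M N gs
      (fun a ha => hgs a (List.mem_cons_of_mem _ ha)) n hn
    haveI : Subsingleton (TensorProduct R
        (((locCx (Submonoid.powers g)).obj (extCech M gs)).X (n - 1)) N) :=
      subsingleton_tensor_localized g ((extCech M gs).X (n - 1)) N (hgs g List.mem_cons_self)
    exact subsingleton_tensor_of_iso_biprod
      (mappingCoconeXIso (locCxUnit (Submonoid.powers g) (extCech M gs)) n) N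

/-- the Čech complex vanishes above the number of elements -/
lemma isZero_extCech_X_of_length_lt (M : ModuleCat.{u} R) :
    ∀ (fs : List R) (n : ℤ), (fs.length : ℤ) < n → IsZero ((extCech M fs).X n)
  | [], n, hn => HomologicalComplex.isZero_single_obj_X _ _ _ _ (by
      simp only [List.length_nil, Nat.cast_zero] at hn
      omega)
  | f :: fs, n, hn => by
    have hn' : (fs.length : ℤ) + 1 < n := by
      simp only [List.length_cons, Nat.cast_add, Nat.cast_one] at hn
      exact hn
    have h1 : IsZero ((extCech M fs).X (n + -1 + 1)) :=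
      isZero_extCech_X_of_length_lt M fs _ (by omega)
    have h2 : IsZero (((locCx (Submonoid.powers f)).obj (extCech M fs)).X (n + -1)) :=
      (locFunctor (Submonoid.powers f)).map_isZero
        (isZero_extCech_X_of_length_lt M fs _ (by omega))
    exact (mappingCone.isZero_X_iff
      (locCxUnit (Submonoid.powers f) (extCech M fs)) (n + -1)).2 ⟨h1, h2⟩

/-- the inclusion of `M` as the degree zero term -/
noncomputable def inc (M : ModuleCat.{u} R) : ∀ fs : List R, M ⟶ (extCech M fs).X 0
  | [] => (HomologicalComplex.singleObjXSelf (ComplexShape.up ℤ) 0 M).inv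
  | g :: gs => inc M gs ≫
      (mappingCocone.inl (locCxUnit (Submonoid.powers g) (extCech M gs))).v 0 0 (add_zero 0)

lemma isIso_inl_zero {K L : CochainComplex (ModuleCat.{u} R) ℤ} (φ : K ⟶ L)
    (hL : IsZero (L.X (-1))) : IsIso ((mappingCocone.inl φ).v 0 0 (add_zero 0)) := by
  refine ⟨⟨(mappingCocone.fst φ).f 0, mappingCocone.inl_v_fst_f φ 0, ?_⟩⟩
  have h := mappingCocone.id_X φ 0 (-1) (by norm_num)
  have h0 : (mappingCocone.snd φ).v 0 (-1) (by norm_num) = 0 := hL.eq_of_tgt _ _
  rw [h0, zero_comp, add_zero] at h
  exact h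

lemma isIso_inc (M : ModuleCat.{u} R) : ∀ fs : List R, IsIso (inc M fs)
  | [] => by
    show IsIso (HomologicalComplex.singleObjXSelf (ComplexShape.up ℤ) 0 M).inv
    infer_instance
  | g :: gs => by
    haveI := isIso_inc M gs
    haveI := isIso_inl_zero (locCxUnit (Submonoid.powers g) (extCech M gs))
      ((locFunctor (Submonoid.powers g)).map_isZero
        (Groth.Agent.Helper1.ExtCech.isZero_X_of_neg M gs (-1) (by norm_num)))
    show IsIso (inc M gs ≫
      (mappingCocone.inl (locCxUnit (Submonoid.powers g) (extCech M gs))).v 0 0 (add_zero 0))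
    infer_instance

end Groth.Agent.Helper6.Gtor
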