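import Mathlib
import Groth.Agent.Helper6.Gtor1
import Groth.Agent.Helper6.Gtor2
import Groth.Agent.Helper1.ExtCechLC
import Groth.Agent.Helper1.GorTopD
import Groth.Agent.S0302

/-!
# `Tor_i(E, k)` over a Gorenstein local ring
-/

set_option autoImplicit false
set_option linter.style.haveILetI false
set_option linter.unusedSectionVars false

universe u
open CategoryTheory CategoryTheory.Limits MonoidalCategory IsLocalRing

namespace Groth.Agent.Helper6.Gtor

variable (A : Type u) [CommRing A] [LocCoh.IsGorensteinLocalRing A]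

/-- a system of parameters -/
lemma exists_sop (d : ℕ) (hd : ringKrullDim A = d) :
    ∃ xs : List A, xs.length = d ∧ (∀ x ∈ xs, x ∈ maximalIdeal A) ∧
      (Ideal.span {a | a ∈ xs}).radical = (maximalIdeal A).radical := by
  classical
  obtain ⟨s, hs, hcard⟩ := Ideal.exists_finset_card_eq_height_of_isNoetherianRing (maximalIdeal A)
  have hset : {a | a ∈ s.toList} = (s : Set A) := by
    ext a
    simp
  refine ⟨s.toList, ?_, ?_, ?_⟩
  · rw [Finset.length_toList]
    have h1 : (((s.card : ℕ∞)) : WithBot ℕ∞) = ((d : ℕ∞) : WithBot ℕ∞) := by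
      rw [hcard, IsLocalRing.maximalIdeal_height_eq_ringKrullDim, hd]
      rfl
    have h2 : (s.card : ℕ∞) = (d : ℕ∞) := WithBot.coe_injective h1
    exact_mod_cast h2
  · intro x hx
    exact hs.1.2 (Ideal.subset_span (by simpa using hx))
  · rw [hset, (Ideal.IsPrime.radical inferInstance : (maximalIdeal A).radical = maximalIdeal A)]
    apply le_antisymm
    · exact (Ideal.IsPrime.radical_le_iff inferInstance).2 hs.1.2
    · rw [Ideal.radical_eq_sInf]
      apply le_sInf
      rintro p ⟨hJp, hp⟩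
      exact hs.2 ⟨hp, hJp⟩ (le_maximalIdeal hp.ne_top)

lemma lc_subsingleton_of_lt (d : ℕ) (hd : ringKrullDim A = d) (i : ℕ) (hi : i < d) :
    Subsingleton (LocCoh.H (maximalIdeal A) i A) := by
  have hcm : LocCoh.IsCohenMacaulayLocalRing A := Groth.Agent.Helper6.Bass.cm_of_gorenstein
  have hdepth : LocCoh.depth A A = d := by
    have h1 := hcm.supportDim_eq_depth
    rw [Module.supportDim_self_eq_ringKrullDim, hd] at h1
    have : ((d : ℕ∞) : WithBot ℕ∞) = ((LocCoh.depth A A : ℕ∞) : WithBot ℕ∞) := h1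
    exact (WithBot.coe_injective this).symm
  have hIM : maximalIdeal A • (⊤ : Submodule A A) ≠ ⊤ :=
    Groth.Agent.Helper2.Depth.smul_top_ne_top A A
  exact (Groth.Agent.Helper1.LocCohDepth.le_idealDepth_iff_lc (maximalIdeal A) A hIM d).1
    hdepth.ge i hi

theorem main (d : ℕ) (hd : ringKrullDim A = d) (E : Type u) [AddCommGroup E] [Module A E]
    (f : ResidueField A →ₗ[A] E) (hf : InjHull.IsInjectiveHull f) :
    TorConc (ModuleCat.of A E) (ModuleCat.of A (ResidueField A))
      (ModuleCat.of A (ResidueField A)) d := by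
  obtain ⟨xs, hlen, hmem, hrad⟩ := exists_sop A d hd
  obtain ⟨C, hC⟩ : ∃ C, C = DerCA.extCech (ModuleCat.of A A) xs := ⟨_, rfl⟩
  haveI : Module.Flat A (ModuleCat.of A A) := (inferInstance : Module.Flat A A)
  have hflat : ∀ j : ℤ, Module.Flat A (C.X j) := by
    intro j
    rw [hC]
    exact flat_extCech_X (ModuleCat.of A A) xs j
  have hneg : IsZero (C.X (-1)) := by
    rw [hC]
    exact Groth.Agent.Helper1.ExtCech.isZero_X_of_neg _ xs (-1) (by norm_num)
  have hH : ∀ j : ℕ, Nonempty (C.homology (j : ℤ) ≅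
      (localCohomology (maximalIdeal A) j).obj (ModuleCat.of A A)) := by
    intro j
    obtain ⟨e⟩ := Groth.Agent.Helper1.ExtCech.nonempty_extCechH_iso_lc xs (ModuleCat.of A A) j
    rw [hC]
    exact ⟨e ≪≫ (localCohomology.isoOfSameRadical hrad j).app _⟩
  have hex : ∀ j : ℕ, j < d → C.ExactAt (j : ℤ) := by
    intro j hj
    rw [HomologicalComplex.exactAt_iff_isZero_homology]
    obtain ⟨e⟩ := hH j
    refine IsZero.of_iso ?_ e
    exact ModuleCat.isZero_iff_subsingleton.2 (lc_subsingleton_of_lt A d hd j hj)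
  have hten : ∀ j : ℕ, 1 ≤ j → j ≤ d →
      Subsingleton (TensorProduct A (C.X (j : ℤ)) (ModuleCat.of A (ResidueField A))) := by
    intro j h1 _
    rw [hC]
    refine subsingleton_tensor_extCech (ModuleCat.of A A) (ResidueField A) xs (fun g hg y => ?_)
      (j : ℤ) (by exact_mod_cast h1)
    rw [Algebra.smul_def, IsLocalRing.ResidueField.algebraMap_eq,
      (IsLocalRing.residue_eq_zero_iff g).2 (hmem g hg), zero_mul]
  have key := torConc_opcycles C (ModuleCat.of A (ResidueField A)) hflat hneg d hex hten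
  have hzero : IsZero (C.X ((d : ℤ) + 1)) := by
    rw [hC]
    exact isZero_extCech_X_of_length_lt _ xs _ (by rw [hlen]; omega)
  haveI : IsIso (C.homologyι (d : ℤ)) :=
    C.isIso_homologyι (d : ℤ) ((d : ℤ) + 1) (by simp) (hzero.eq_of_tgt _ _)
  obtain ⟨e1⟩ := hH d
  obtain ⟨g, hg⟩ := Groth.Agent.Helper1.GorTop.exists_isInjectiveHull (R := A) d hd
  obtain ⟨e2, -⟩ := Groth.Agent.S0302.result A (ResidueField A)
    (LocCoh.H (maximalIdeal A) d A) E g hg f hf
  have eE : C.opcycles (d : ℤ) ≅ ModuleCat.of A E :=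
    (asIso (C.homologyι (d : ℤ))).symm ≪≫ e1 ≪≫ e2.toModuleIso
  haveI := isIso_inc (ModuleCat.of A A) xs
  have e0 : ModuleCat.of A A ≅ C.X 0 := by
    rw [hC]
    exact asIso (inc (ModuleCat.of A A) xs)
  have eT : C.X 0 ⊗ ModuleCat.of A (ResidueField A) ≅ ModuleCat.of A (ResidueField A) :=
    (whiskerRightIso e0.symm (ModuleCat.of A (ResidueField A))) ≪≫
      (λ_ (ModuleCat.of A (ResidueField A)))
  exact (key.of_iso eE).of_iso_right eT

end Groth.Agent.Helper6.Gtor
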