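import Mathlib

/-! Rank one descent: a unit cocycle in `B ⊗ B` for a flat `A`-algebra `B` yields functions
`m` with `1 ⊗ m = g (m ⊗ 1)` generating the unit ideal. -/

set_option autoImplicit false
set_option linter.style.haveILetI false
set_option linter.unusedSectionVars false
set_option linter.unusedVariables false
set_option linter.unusedSimpArgs false

universe u

open TensorProduct

namespace Groth.Agent.Helper6.H90A

section Explicit

variable {A B : Type u} [CommRing A] [CommRing B] [Algebra A B]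

/-- `a ⊗ b ↦ a ⊗ (b ⊗ 1)` -/
noncomputable def P12 : B ⊗[A] B →ₐ[A] B ⊗[A] (B ⊗[A] B) :=
  Algebra.TensorProduct.map (AlgHom.id A B) Algebra.TensorProduct.includeLeft

/-- `a ⊗ b ↦ a ⊗ (1 ⊗ b)` -/
noncomputable def P13 : B ⊗[A] B →ₐ[A] B ⊗[A] (B ⊗[A] B) :=
  Algebra.TensorProduct.map (AlgHom.id A B) Algebra.TensorProduct.includeRight

/-- `c ↦ 1 ⊗ c` -/
noncomputable def P23 : B ⊗[A] B →ₐ[A] B ⊗[A] (B ⊗[A] B) :=
  Algebra.TensorProduct.includeRight

/-- `b ↦ 1 ⊗ b - g (b ⊗ 1)` -/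
noncomputable def φ (g : B ⊗[A] B) : B →ₗ[A] B ⊗[A] B :=
  (Algebra.TensorProduct.includeRight : B →ₐ[A] B ⊗[A] B).toLinearMap -
    (LinearMap.mulLeft A g) ∘ₗ (Algebra.TensorProduct.includeLeft : B →ₐ[A] B ⊗[A] B).toLinearMap

lemma φ_apply (g : B ⊗[A] B) (b : B) : φ g b = (1 : B) ⊗ₜ[A] b - g * (b ⊗ₜ[A] 1) := rfl

lemma lTensor_φ (g : B ⊗[A] B) (y : B ⊗[A] B) :
    (φ g).lTensor B y = P13 y - P23 g * P12 y := by
  induction y using TensorProduct.induction_on with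
  | zero => simp
  | tmul a b =>
    rw [LinearMap.lTensor_tmul, φ_apply, TensorProduct.tmul_sub]
    simp only [P12, P13, P23, Algebra.TensorProduct.map_tmul, AlgHom.coe_id, id_eq,
      Algebra.TensorProduct.includeLeft_apply, Algebra.TensorProduct.includeRight_apply,
      Algebra.TensorProduct.tmul_mul_tmul, one_mul]
  | add y₁ y₂ h₁ h₂ =>
    rw [map_add, map_add, map_add, h₁, h₂, mul_add]
    abel

/-- total multiplication `a ⊗ (b ⊗ c) ↦ a b c` -/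
noncomputable def m3 : B ⊗[A] (B ⊗[A] B) →ₐ[A] B :=
  (Algebra.TensorProduct.lmul' A (S := B)).comp
    (Algebra.TensorProduct.map (AlgHom.id A B) (Algebra.TensorProduct.lmul' A (S := B)))

lemma m3_P12 (y : B ⊗[A] B) : m3 (P12 y) = Algebra.TensorProduct.lmul' A (S := B) y := by
  induction y using TensorProduct.induction_on with
  | zero => simp
  | tmul a b => simp [m3, P12]
  | add y₁ y₂ h₁ h₂ => rw [map_add, map_add, map_add, h₁, h₂]

lemma m3_P13 (y : B ⊗[A] B) : m3 (P13 y) = Algebra.TensorProduct.lmul' A (S := B) y := by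
  induction y using TensorProduct.induction_on with
  | zero => simp
  | tmul a b => simp [m3, P13]
  | add y₁ y₂ h₁ h₂ => rw [map_add, map_add, map_add, h₁, h₂]

lemma m3_P23 (y : B ⊗[A] B) : m3 (P23 y) = Algebra.TensorProduct.lmul' A (S := B) y := by
  simp [m3, P23]

theorem exists_sum [Module.Flat A B] (g : B ⊗[A] B) (hu : IsUnit g)
    (hg : P13 g = P12 g * P23 g) :
    ∃ (n : ℕ) (b m : Fin n → B), (∀ k, (1 : B) ⊗ₜ[A] m k = g * (m k ⊗ₜ[A] 1)) ∧
      ∑ k, b k * m k = 1 := by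
  have hex : Function.Exact (LinearMap.ker (φ g)).subtype (φ g) :=
    LinearMap.exact_subtype_ker_map (φ g)
  have hex' := Module.Flat.lTensor_exact B hex
  have h0 : (φ g).lTensor B g = 0 := by
    rw [lTensor_φ, hg, mul_comm]
    exact sub_self _
  obtain ⟨z, hz⟩ := (hex' g).1 h0
  obtain ⟨n, b, m, rfl⟩ := TensorProduct.exists_sum_tmul_eq z
  refine ⟨n, b, fun k => (m k : B), fun k => ?_, ?_⟩
  · have := (m k).2
    rw [LinearMap.mem_ker, φ_apply, sub_eq_zero] at this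
    exact this
  · have hmul : Algebra.TensorProduct.lmul' A (S := B) g = 1 := by
      have h1 := congrArg m3 hg
      rw [map_mul, m3_P13, m3_P12, m3_P23] at h1
      have hu' : IsUnit (Algebra.TensorProduct.lmul' A (S := B) g) := hu.map _
      obtain ⟨w, hw⟩ := hu'
      rw [← hw] at h1 ⊢
      have h2 : (w : B) * 1 = (w : B) * (w : B) := by rw [mul_one]; exact h1
      exact (w.mul_right_inj.1 h2).symm
    have h3 := congrArg (Algebra.TensorProduct.lmul' A (S := B)) hz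
    rw [hmul, map_sum, map_sum] at h3
    rw [← h3]
    refine Finset.sum_congr rfl fun k _ => ?_
    simp

end Explicit

section Cat

open CategoryTheory CategoryTheory.Limits

theorem exists_sum_of_isPushout {A B C₂ C₃ : CommRingCat.{u}} (f : A ⟶ B) (hf : f.hom.Flat)
    (i₁ i₂ : B ⟶ C₂) (H₂ : IsPushout f f i₁ i₂)
    (j₁ : B ⟶ C₃) (j₂₃ : C₂ ⟶ C₃) (H₃ : IsPushout f (f ≫ i₁) j₁ j₂₃)
    (j₁₂ j₁₃ : C₂ ⟶ C₃) (h12a : i₁ ≫ j₁₂ = j₁) (h12b : i₂ ≫ j₁₂ = i₁ ≫ j₂₃)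
    (h13a : i₁ ≫ j₁₃ = j₁) (h13b : i₂ ≫ j₁₃ = i₂ ≫ j₂₃)
    (g : C₂) (hu : IsUnit g) (hg : j₁₃ g = j₁₂ g * j₂₃ g) :
    ∃ (n : ℕ) (b m : Fin n → B), (∀ k, i₂ (m k) = g * i₁ (m k)) ∧ ∑ k, b k * m k = 1 := by
  algebraize [f.hom]
  have hfl : Module.Flat A B := hf
  let e₂ : (B ⊗[A] B) ≃+* C₂ :=
    ((CommRingCat.isPushout_tensorProduct A B B).isoIsPushout B B H₂).commRingCatIsoToRingEquiv
  have he₂l : ∀ a : B, e₂ (a ⊗ₜ[A] 1) = i₁ a := fun a =>
    congr($(IsPushout.inl_isoIsPushout_hom B B (CommRingCat.isPushout_tensorProduct A B B) H₂).hom a)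
  have he₂r : ∀ b : B, e₂ ((1 : B) ⊗ₜ[A] b) = i₂ b := fun b =>
    congr($(IsPushout.inr_isoIsPushout_hom B B (CommRingCat.isPushout_tensorProduct A B B) H₂).hom b)
  have he₂ : ∀ a b : B, e₂ (a ⊗ₜ[A] b) = i₁ a * i₂ b := fun a b => by
    have : a ⊗ₜ[A] b = (a ⊗ₜ[A] 1) * ((1 : B) ⊗ₜ[A] b) := by
      rw [Algebra.TensorProduct.tmul_mul_tmul, mul_one, one_mul]
    rw [this, map_mul, he₂l, he₂r]
  letI : Algebra A C₂ := (f ≫ i₁).hom.toAlgebra
  let e₂' : (B ⊗[A] B) ≃ₐ[A] C₂ :=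
    { e₂ with
      commutes' := fun a => by
        show e₂ (algebraMap A B a ⊗ₜ[A] 1) = i₁ (f a)
        exact he₂l _ }
  have he₂' : ∀ y, e₂' y = e₂ y := fun _ => rfl
  let e₃ : (B ⊗[A] C₂) ≃+* C₃ :=
    ((CommRingCat.isPushout_tensorProduct A B C₂).isoIsPushout B C₂ H₃).commRingCatIsoToRingEquiv
  have he₃l : ∀ a : B, e₃ (a ⊗ₜ[A] 1) = j₁ a := fun a =>
    congr($(IsPushout.inl_isoIsPushout_hom B C₂ (CommRingCat.isPushout_tensorProduct A B C₂) H₃).hom a)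
  have he₃r : ∀ c : C₂, e₃ ((1 : B) ⊗ₜ[A] c) = j₂₃ c := fun c =>
    congr($(IsPushout.inr_isoIsPushout_hom B C₂ (CommRingCat.isPushout_tensorProduct A B C₂) H₃).hom c)
  have he₃ : ∀ (a : B) (c : C₂), e₃ (a ⊗ₜ[A] c) = j₁ a * j₂₃ c := fun a c => by
    have : a ⊗ₜ[A] c = (a ⊗ₜ[A] 1) * ((1 : B) ⊗ₜ[A] c) := by
      rw [Algebra.TensorProduct.tmul_mul_tmul, mul_one, one_mul]
    rw [this, map_mul, he₃l, he₃r]
  let F : (B ⊗[A] (B ⊗[A] B)) ≃ₐ[A] (B ⊗[A] C₂) :=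
    Algebra.TensorProduct.congr (AlgEquiv.refl : B ≃ₐ[A] B) e₂'
  have hF : ∀ (a : B) (c : B ⊗[A] B), F (a ⊗ₜ[A] c) = a ⊗ₜ[A] e₂ c := fun a c => by
    simp [F, he₂']
  let E : (B ⊗[A] (B ⊗[A] B)) → C₃ := fun w => e₃ (F w)
  have hEinj : Function.Injective E := e₃.injective.comp F.injective
  have hEmul : ∀ w w', E (w * w') = E w * E w' := fun w w' => by
    show e₃ (F (w * w')) = _
    rw [map_mul, map_mul]
  have h12a' : ∀ a, j₁₂ (i₁ a) = j₁ a := fun a => congr($(h12a).hom a)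
  have h12b' : ∀ a, j₁₂ (i₂ a) = j₂₃ (i₁ a) := fun a => congr($(h12b).hom a)
  have h13a' : ∀ a, j₁₃ (i₁ a) = j₁ a := fun a => congr($(h13a).hom a)
  have h13b' : ∀ a, j₁₃ (i₂ a) = j₂₃ (i₂ a) := fun a => congr($(h13b).hom a)
  have hE13 : ∀ y, E (P13 y) = j₁₃ (e₂ y) := by
    intro y
    induction y using TensorProduct.induction_on with
    | zero => simp [E]
    | tmul a b =>
      show e₃ (F (P13 (a ⊗ₜ[A] b))) = _
      have : P13 (a ⊗ₜ[A] b) = a ⊗ₜ[A] ((1 : B) ⊗ₜ[A] b) := by simp [P13]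
      rw [this, hF, he₃, he₂r, he₂, map_mul, h13a', h13b']
    | add y₁ y₂ h₁ h₂ =>
      have hadd : E (P13 y₁ + P13 y₂) = E (P13 y₁) + E (P13 y₂) := by
        show e₃ (F _) = e₃ (F _) + e₃ (F _)
        rw [map_add, map_add]
      rw [map_add, hadd, h₁, h₂, map_add, map_add]
  have hE12 : ∀ y, E (P12 y) = j₁₂ (e₂ y) := by
    intro y
    induction y using TensorProduct.induction_on with
    | zero => simp [E]
    | tmul a b =>
      show e₃ (F (P12 (a ⊗ₜ[A] b))) = _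
      have : P12 (a ⊗ₜ[A] b) = a ⊗ₜ[A] (b ⊗ₜ[A] (1 : B)) := by simp [P12]
      rw [this, hF, he₃, he₂l, he₂, map_mul, h12a', h12b']
    | add y₁ y₂ h₁ h₂ =>
      have hadd : E (P12 y₁ + P12 y₂) = E (P12 y₁) + E (P12 y₂) := by
        show e₃ (F _) = e₃ (F _) + e₃ (F _)
        rw [map_add, map_add]
      rw [map_add, hadd, h₁, h₂, map_add, map_add]
  have hE23 : ∀ y, E (P23 y) = j₂₃ (e₂ y) := by
    intro y
    show e₃ (F (P23 y)) = _
    have : P23 y = (1 : B) ⊗ₜ[A] y := by simp [P23]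
    rw [this, hF, he₃r]
  have hcoc : P13 (e₂.symm g) = P12 (e₂.symm g) * P23 (e₂.symm g) := by
    apply hEinj
    rw [hEmul, hE13, hE12, hE23, RingEquiv.apply_symm_apply]
    exact hg
  have hu' : IsUnit (e₂.symm g) := hu.map e₂.symm
  obtain ⟨n, b, m, hm, hsum⟩ := exists_sum (e₂.symm g) hu' hcoc
  refine ⟨n, b, m, fun k => ?_, hsum⟩
  have h1 := congrArg e₂ (hm k)
  rw [map_mul, RingEquiv.apply_symm_apply, he₂r, he₂l] at h1
  exact h1

end Cat

end Groth.Agent.Helper6.H90A
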