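import Mathlib
import Groth.Prelude.Def_EtBase
import Groth.Prelude.Def_EtCore
import Groth.Prelude.Def_EtGm
import Groth.Agent.Helper6.GalDescC
import Groth.Agent.Helper6.GalDescI
import Groth.Agent.Helper6.GalDescN

/-! Small étale site tools: descent of sections along a surjection, sections of `G_m`,
local lifting along an epimorphism. -/

set_option autoImplicit false
set_option linter.style.haveILetI false
set_option linter.unusedSectionVars false
set_option linter.unusedVariables false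
set_option linter.unusedSimpArgs false

universe u

open CategoryTheory CategoryTheory.Limits Opposite AlgebraicGeometry

namespace Groth.Agent.Helper6.H90B

variable {X : Scheme.{u}}

set_option backward.isDefEq.respectTransparency.types false in
/-- descent of sections along a surjective morphism of the small étale site -/
theorem existsUnique_descent (F : EtCoh.Ab X) {T Y : X.Etale} (r : Y ⟶ T)
    (hr : ∀ t : T.left, ∃ y : Y.left, r.left y = t) (s : F.obj.obj (op Y))
    (hs : ∀ (W : X.Etale) (g1 g2 : W ⟶ Y), g1 ≫ r = g2 ≫ r →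
      (F.obj.map g1.op).hom s = (F.obj.map g2.op).hom s) :
    ∃! t : F.obj.obj (op T), (F.obj.map r.op).hom t = s := by
  have hP := GalDescC.isSheaf_forget F
  have hcov : Sieve.ofArrows (fun _ : Unit => Y) (fun _ => r) ∈ X.smallEtaleTopology T := by
    rw [Scheme.ofArrows_mem_smallEtaleTopology_iff]
    ext t
    simp only [Set.mem_iUnion, Set.mem_range, Set.mem_univ, iff_true]
    obtain ⟨y, hy⟩ := hr t
    exact ⟨(), y, hy⟩
  have hsh : Presieve.IsSheafFor (F.obj ⋙ forget AddCommGrpCat)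
      (Presieve.ofArrows (fun _ : Unit => Y) (fun _ => r)) :=
    (Presieve.isSheafFor_iff_generate _).2 (hP _ hcov)
  have key := (Presieve.isSheafFor_arrows_iff (F.obj ⋙ forget AddCommGrpCat)
    (fun _ : Unit => r)).1 hsh (fun _ => s) ?_
  · obtain ⟨t, ht, hu⟩ := key
    exact ⟨t, ht (), fun t' ht' => hu t' (fun _ => ht')⟩
  · intro _ _ W g1 g2 hg
    exact hs W g1 g2 hg

/-- units as sections of `G_m` -/
def gmOf (W : X.Etale) (β : (Γ(W.left, ⊤) : Type u)ˣ) : (EtCoh.Gm X).obj.obj (op W) :=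
  ULift.up (Additive.ofMul β)

/-- sections of `G_m` as units -/
def gmTo (W : X.Etale) (s : (EtCoh.Gm X).obj.obj (op W)) : (Γ(W.left, ⊤) : Type u)ˣ :=
  Additive.toMul (ULift.down s)

lemma gmOf_gmTo (W : X.Etale) (s : (EtCoh.Gm X).obj.obj (op W)) : gmOf W (gmTo W s) = s := rfl

lemma gmTo_gmOf (W : X.Etale) (β : (Γ(W.left, ⊤) : Type u)ˣ) : gmTo W (gmOf W β) = β := rfl

lemma gmTo_add (W : X.Etale) (s s' : (EtCoh.Gm X).obj.obj (op W)) :
    gmTo W (s + s') = gmTo W s * gmTo W s' := rfl

lemma gmTo_neg (W : X.Etale) (s : (EtCoh.Gm X).obj.obj (op W)) :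
    gmTo W (-s) = (gmTo W s)⁻¹ := rfl

lemma gmTo_sub (W : X.Etale) (s s' : (EtCoh.Gm X).obj.obj (op W)) :
    gmTo W (s - s') = gmTo W s / gmTo W s' := rfl

lemma gmTo_injective (W : X.Etale) : Function.Injective (gmTo (X := X) W) := fun a b h =>
  (gmOf_gmTo W a).symm.trans ((congrArg (gmOf W) h).trans (gmOf_gmTo W b))

lemma gmTo_map {W W' : X.Etale} (φ : W' ⟶ W) (s : (EtCoh.Gm X).obj.obj (op W)) :
    gmTo W' (((EtCoh.Gm X).obj.map φ.op).hom s) = Units.map (φ.left.appTop.hom : _ →* _) (gmTo W s) :=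
  rfl

lemma gmOf_map {W W' : X.Etale} (φ : W' ⟶ W) (β : (Γ(W.left, ⊤) : Type u)ˣ) :
    ((EtCoh.Gm X).obj.map φ.op).hom (gmOf W β) = gmOf W' (Units.map (φ.left.appTop.hom : _ →* _) β) :=
  rfl

/-- local lifting along an epimorphism -/
theorem exists_local_lift {I Q : EtCoh.Ab X} (π : I ⟶ Q) [Epi π] (T : X.Etale)
    (q : Q.obj.obj (op T)) (x : T.left) :
    ∃ (V : X.Etale) (g : V ⟶ T) (v : V.left) (t : I.obj.obj (op V)), g.left v = x ∧
      (π.hom.app (op V)).hom t = (Q.obj.map g.op).hom q := by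
  have hls : Sheaf.IsLocallySurjective π := (Sheaf.isLocallySurjective_iff_epi' _ π).2 inferInstance
  have hmem := Presheaf.imageSieve_mem X.smallEtaleTopology π.hom q
  obtain ⟨V, g, v, ⟨t, ht⟩, -, hv⟩ := (GalDescI.mem_iff T _).1 hmem x
  exact ⟨V, g, v, t, hv, ht⟩

end Groth.Agent.Helper6.H90B
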