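import Mathlib
import Groth.Prelude.Def_EtBase

/-! Affine refinement of an étale neighbourhood. -/

set_option autoImplicit false
set_option linter.style.haveILetI false
set_option linter.unusedSectionVars false
set_option linter.unusedVariables false
set_option linter.unusedSimpArgs false

universe u

open CategoryTheory CategoryTheory.Limits Opposite AlgebraicGeometry

namespace Groth.Agent.Helper6.H90C

/-- every point of the source of an open morphism has an affine open neighbourhood mapping onto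
an affine open of the target -/
theorem exists_affine_refinement' {Y X : Scheme.{u}} (h : Y ⟶ X) (ho : IsOpenMap h) (v : Y) :
    ∃ (U₀ : X.Opens) (V₂ : Y.Opens), IsAffineOpen U₀ ∧ IsAffineOpen V₂ ∧ v ∈ V₂ ∧
      (h '' (V₂ : Set Y)) = (U₀ : Set X) := by
  obtain ⟨_, ⟨X₀, hX₀, rfl⟩, hxX₀, -⟩ :=
    X.isBasis_affineOpens.exists_subset_of_mem_open (Set.mem_univ (h v)) isOpen_univ
  obtain ⟨_, ⟨V₁, hV₁, rfl⟩, hvV₁, hV₁X₀⟩ :=
    Y.isBasis_affineOpens.exists_subset_of_mem_open hxX₀ (X₀.2.preimage h.continuous)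
  let W : X.Opens := ⟨h '' (V₁ : Set Y), ho _ V₁.2⟩
  have hxW : h v ∈ W := ⟨v, hvV₁, rfl⟩
  obtain ⟨a, haW, hxa⟩ := IsAffineOpen.exists_basicOpen_le hX₀ (V := W) ⟨h v, hxW⟩ hxX₀
  have hle : V₁ ≤ h ⁻¹ᵁ X₀ := hV₁X₀
  have hb := Scheme.basicOpen_appLE h V₁ X₀ hle a
  refine ⟨X.basicOpen a, Y.basicOpen (h.appLE X₀ V₁ hle a), hX₀.basicOpen a,
    hV₁.basicOpen _, ?_, ?_⟩
  · rw [hb]
    exact ⟨hvV₁, hxa⟩
  · rw [hb]
    ext y
    constructor
    · rintro ⟨z, ⟨-, hz⟩, rfl⟩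
      exact hz
    · intro hy
      obtain ⟨z, hz, rfl⟩ := haW hy
      exact ⟨z, ⟨hz, hy⟩, rfl⟩

theorem exists_affine_refinement {X : Scheme.{u}} (V : X.Etale) (v : V.left) :
    ∃ (U₀ : X.Opens) (V₂ : V.left.Opens), IsAffineOpen U₀ ∧ IsAffineOpen V₂ ∧ v ∈ V₂ ∧
      ((V.hom : V.left ⟶ X) '' (V₂ : Set V.left)) = (U₀ : Set X) :=
  exists_affine_refinement' (V.hom : V.left ⟶ X) (V.hom : V.left ⟶ X).isOpenMap v

end Groth.Agent.Helper6.H90C
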