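import Mathlib
import Groth.Prelude.Def_EtBase
import Groth.Prelude.Def_EtCore
import Groth.Prelude.Def_EtGm
import Groth.Agent.Helper6.H90A
import Groth.Agent.Helper6.H90B
import Groth.Agent.Helper6.GalDescN
import Groth.Agent.Helper6.GalDescA
import Groth.Agent.Helper6.GalDescC

/-! Zariski-local lifting of sections along `I → I/G_m` : the affine step. -/

set_option autoImplicit false
set_option linter.style.haveILetI false
set_option linter.unusedSectionVars false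
set_option linter.unusedVariables false
set_option linter.unusedSimpArgs false

universe u

open CategoryTheory CategoryTheory.Limits Opposite AlgebraicGeometry

namespace Groth.Agent.Helper6.H90D

open Groth.Agent.Helper6.H90B

section Scheme

/-- if `Σ b_k m_k = 1` then every point lies in some `D(m_k)` -/
theorem exists_mem_basicOpen_of_sum {Y : Scheme.{u}} (v : Y) {n : ℕ} (b m : Fin n → Γ(Y, ⊤))
    (h : ∑ k, b k * m k = 1) : ∃ k, v ∈ Y.basicOpen (m k) := by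
  by_contra hcon
  push Not at hcon
  have h1 : ∀ k, (Y.presheaf.germ ⊤ v trivial) (m k) ∈
      IsLocalRing.maximalIdeal (Y.presheaf.stalk v) := by
    intro k
    rw [IsLocalRing.mem_maximalIdeal, mem_nonunits_iff]
    intro hu
    exact hcon k ((Y.mem_basicOpen_top (m k) v).2 hu)
  have h2 : (Y.presheaf.germ ⊤ v trivial) (∑ k, b k * m k) ∈
      IsLocalRing.maximalIdeal (Y.presheaf.stalk v) := by
    rw [map_sum]
    refine Ideal.sum_mem _ fun k _ => ?_
    rw [map_mul]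
    exact Ideal.mul_mem_left _ _ (h1 k)
  rw [h, map_one] at h2
  exact (Ideal.ne_top_iff_one _).1 (IsLocalRing.maximalIdeal.isMaximal _).ne_top h2

/-- a function is a unit on its basic open -/
theorem isUnit_appTop_ι_basicOpen {Y : Scheme.{u}} (s : Γ(Y, ⊤)) :
    IsUnit ((Y.basicOpen s).ι.appTop s) := by
  have h1 : (Y.basicOpen s).toScheme.basicOpen ((Y.basicOpen s).ι.appTop s) = ⊤ := by
    rw [← Scheme.preimage_basicOpen_top]
    exact (Y.basicOpen s).ι_preimage_self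
  apply (Y.basicOpen s).toScheme.toRingedSpace.isUnit_of_isUnit_germ
  intro x hx
  have hx' : x ∈ (Y.basicOpen s).toScheme.basicOpen ((Y.basicOpen s).ι.appTop s) := by
    rw [h1]; trivial
  exact ((Y.basicOpen s).toScheme.mem_basicOpen_top _ x).1 hx'

end Scheme

variable {X : Scheme.{u}}

/-- restriction -/
abbrev res (F : EtCoh.Ab X) {W W' : X.Etale} (φ : W' ⟶ W) (s : F.obj.obj (op W)) :
    F.obj.obj (op W') := (F.obj.map φ.op).hom s

lemma res_comp (F : EtCoh.Ab X) {W W' W'' : X.Etale} (φ : W'' ⟶ W') (ψ : W' ⟶ W)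
    (s : F.obj.obj (op W)) : res F (φ ≫ ψ) s = res F φ (res F ψ s) := by
  show (F.obj.map (φ ≫ ψ).op).hom s = _
  rw [op_comp, F.obj.map_comp]
  rfl

lemma res_sub (F : EtCoh.Ab X) {W W' : X.Etale} (φ : W' ⟶ W) (a b : F.obj.obj (op W)) :
    res F φ (a - b) = res F φ a - res F φ b := map_sub _ _ _

lemma res_add (F : EtCoh.Ab X) {W W' : X.Etale} (φ : W' ⟶ W) (a b : F.obj.obj (op W)) :
    res F φ (a + b) = res F φ a + res F φ b := map_add _ _ _

lemma res_zero (F : EtCoh.Ab X) {W W' : X.Etale} (φ : W' ⟶ W) :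
    res F φ (0 : F.obj.obj (op W)) = 0 := map_zero _

lemma res_nat {F G : EtCoh.Ab X} (α : F ⟶ G) {W W' : X.Etale} (φ : W' ⟶ W)
    (s : F.obj.obj (op W)) :
    (α.hom.app (op W')).hom (res F φ s) = res G φ ((α.hom.app (op W)).hom s) :=
  NatTrans.naturality_apply α.hom φ.op s


/-- value of a section of `G_m` as a function -/
def gmVal {Y : Scheme.{u}} (h : Y ⟶ X) [Etale h]
    (γ : (EtCoh.Gm X).obj.obj (op (Scheme.Etale.mk h))) : Γ(Y, ⊤) :=
  (gmTo (Scheme.Etale.mk h) γ).val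

lemma isUnit_gmVal {Y : Scheme.{u}} (h : Y ⟶ X) [Etale h]
    (γ : (EtCoh.Gm X).obj.obj (op (Scheme.Etale.mk h))) : IsUnit (gmVal h γ) :=
  (gmTo (Scheme.Etale.mk h) γ).isUnit

section Main

variable {I Q : EtCoh.Ab X} (f : EtCoh.Gm X ⟶ I) (π : I ⟶ Q) (w : f ≫ π = 0)
  (hS : (ShortComplex.mk f π w).ShortExact)

/-- morphisms of the small étale site from scheme morphisms -/
abbrev hm {Y Z : Scheme.{u}} (hY : Y ⟶ X) (hZ : Z ⟶ X) [Etale hY] [Etale hZ] (k : Y ⟶ Z)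
    (e : k ≫ hZ = hY) : Scheme.Etale.mk hY ⟶ Scheme.Etale.mk hZ :=
  MorphismProperty.Over.homMk k e

include hS in
set_option maxHeartbeats 800000 in
theorem exists_cocycle_data
    {U₀ V₂ : Scheme.{u}} [IsAffine U₀] [IsAffine V₂] (u : U₀ ⟶ X) [Etale u] (pl : V₂ ⟶ U₀)
    [Etale pl]
    (q₀ : Q.obj.obj (op (Scheme.Etale.mk u))) (t : I.obj.obj (op (Scheme.Etale.mk (pl ≫ u))))
    (ht : (π.hom.app _).hom t = res Q (hm (pl ≫ u) u pl rfl) q₀) :
    ∃ (γ : (EtCoh.Gm X).obj.obj (op (Scheme.Etale.mk (pullback.fst pl pl ≫ pl ≫ u)))),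
      (f.hom.app _).hom γ =
        res I (hm (pullback.fst pl pl ≫ pl ≫ u) (pl ≫ u) (pullback.snd pl pl)
          (by rw [← Category.assoc, ← pullback.condition, Category.assoc])) t -
        res I (hm (pullback.fst pl pl ≫ pl ≫ u) (pl ≫ u) (pullback.fst pl pl) rfl) t ∧
      ∃ (n : ℕ) (b m : Fin n → Γ(V₂, ⊤)),
        (∀ k, (pullback.snd pl pl).appTop (m k) =
          gmVal (pullback.fst pl pl ≫ pl ≫ u) γ * (pullback.fst pl pl).appTop (m k)) ∧
        ∑ k, b k * m k = 1 := by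
  have hcond : pullback.fst pl pl ≫ pl = pullback.snd pl pl ≫ pl := pullback.condition
  have hc₃ : pullback.fst pl (pullback.fst pl pl ≫ pl) ≫ pl =
      pullback.snd pl (pullback.fst pl pl ≫ pl) ≫ pullback.fst pl pl ≫ pl := pullback.condition
  let q₁ := pullback.fst pl (pullback.fst pl pl ≫ pl)
  let q₂₃ := pullback.snd pl (pullback.fst pl pl ≫ pl)
  let q₁₂ : pullback pl (pullback.fst pl pl ≫ pl) ⟶ pullback pl pl :=
    pullback.lift q₁ (q₂₃ ≫ pullback.fst pl pl) (by rw [Category.assoc]; exact hc₃)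
  let q₁₃ : pullback pl (pullback.fst pl pl ≫ pl) ⟶ pullback pl pl :=
    pullback.lift q₁ (q₂₃ ≫ pullback.snd pl pl) (by rw [Category.assoc, ← hcond]; exact hc₃)
  have h12f : q₁₂ ≫ pullback.fst pl pl = q₁ := pullback.lift_fst _ _ _
  have h12s : q₁₂ ≫ pullback.snd pl pl = q₂₃ ≫ pullback.fst pl pl := pullback.lift_snd _ _ _
  have h13f : q₁₃ ≫ pullback.fst pl pl = q₁ := pullback.lift_fst _ _ _
  have h13s : q₁₃ ≫ pullback.snd pl pl = q₂₃ ≫ pullback.snd pl pl := pullback.lift_snd _ _ _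
  have hsndw : pullback.snd pl pl ≫ pl ≫ u = pullback.fst pl pl ≫ pl ≫ u := by
    rw [← Category.assoc, ← hcond, Category.assoc]
  have h23w : q₂₃ ≫ pullback.fst pl pl ≫ pl ≫ u = q₁ ≫ pl ≫ u := by
    have := congrArg (fun k => k ≫ u) hc₃
    simpa only [Category.assoc] using this.symm
  let p := hm (pl ≫ u) u pl rfl
  let a₁ := hm (pullback.fst pl pl ≫ pl ≫ u) (pl ≫ u) (pullback.fst pl pl) rfl
  let a₂ := hm (pullback.fst pl pl ≫ pl ≫ u) (pl ≫ u) (pullback.snd pl pl) hsndw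
  let c₁₂ := hm (q₁ ≫ pl ≫ u) (pullback.fst pl pl ≫ pl ≫ u) q₁₂
    (by rw [← Category.assoc, h12f])
  let c₁₃ := hm (q₁ ≫ pl ≫ u) (pullback.fst pl pl ≫ pl ≫ u) q₁₃
    (by rw [← Category.assoc, h13f])
  let c₂₃ := hm (q₁ ≫ pl ≫ u) (pullback.fst pl pl ≫ pl ≫ u) q₂₃ h23w
  have hap : a₁ ≫ p = a₂ ≫ p := by
    apply MorphismProperty.Over.Hom.ext
    exact hcond
  have e1 : c₁₃ ≫ a₁ = c₁₂ ≫ a₁ := by
    apply MorphismProperty.Over.Hom.ext
    exact h13f.trans h12f.symm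
  have e2 : c₁₃ ≫ a₂ = c₂₃ ≫ a₂ := by
    apply MorphismProperty.Over.Hom.ext
    exact h13s
  have e3 : c₁₂ ≫ a₂ = c₂₃ ≫ a₁ := by
    apply MorphismProperty.Over.Hom.ext
    exact h12s
  have hG : (π.hom.app _).hom (res I a₂ t - res I a₁ t) = 0 := by
    rw [map_sub, res_nat, res_nat, ht, ← res_comp, ← res_comp, hap, sub_self]
  obtain ⟨γ, hγ⟩ := GalDescN.exact_sections hS _ _ hG
  refine ⟨γ, hγ, ?_⟩
  have hcoc : res (EtCoh.Gm X) c₁₃ γ = res (EtCoh.Gm X) c₁₂ γ + res (EtCoh.Gm X) c₂₃ γ := by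
    apply GalDescN.injective_sections hS
    show (f.hom.app _).hom _ = (f.hom.app _).hom _
    rw [map_add, res_nat, res_nat, res_nat]
    have hγ' : (f.hom.app _).hom γ = res I a₂ t - res I a₁ t := hγ
    rw [hγ', res_sub, res_sub, res_sub, ← res_comp, ← res_comp, ← res_comp, ← res_comp,
      ← res_comp, ← res_comp, e1, e2, e3]
    abel
  have hgu : gmTo _ (res (EtCoh.Gm X) c₁₃ γ) =
      gmTo _ (res (EtCoh.Gm X) c₁₂ γ + res (EtCoh.Gm X) c₂₃ γ) := congrArg (gmTo _) hcoc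
  rw [gmTo_add, gmTo_map, gmTo_map, gmTo_map] at hgu
  have hg := congrArg Units.val hgu
  have H₂ := isPushout_appTop_of_isPullback (IsPullback.of_hasPullback pl pl)
  have H₃ := isPushout_appTop_of_isPullback
    (IsPullback.of_hasPullback pl (pullback.fst pl pl ≫ pl))
  have hflat : pl.appTop.hom.Flat :=
    (HasRingHomProperty.iff_of_isAffine (P := @Flat)).1 inferInstance
  exact H90A.exists_sum_of_isPushout pl.appTop hflat (pullback.fst pl pl).appTop
    (pullback.snd pl pl).appTop H₂ q₁.appTop q₂₃.appTop H₃ q₁₂.appTop q₁₃.appTop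
    (by rw [← Scheme.Hom.comp_appTop, h12f])
    (by rw [← Scheme.Hom.comp_appTop, h12s, Scheme.Hom.comp_appTop])
    (by rw [← Scheme.Hom.comp_appTop, h13f])
    (by rw [← Scheme.Hom.comp_appTop, h13s, Scheme.Hom.comp_appTop])
    (gmVal (pullback.fst pl pl ≫ pl ≫ u) γ) (isUnit_gmVal _ γ) hg

include w in
lemma π_f_apply (W : X.Etale) (s : (EtCoh.Gm X).obj.obj (op W)) :
    (π.hom.app (op W)).hom ((f.hom.app (op W)).hom s) = 0 := by
  have := congrArg (fun α : EtCoh.Gm X ⟶ Q => (α.hom.app (op W)).hom s) w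
  exact this

include hS in
set_option maxHeartbeats 800000 in
theorem exists_lift_affine
    {U₀ V₂ : Scheme.{u}} [IsAffine U₀] [IsAffine V₂] (u : U₀ ⟶ X) [Etale u] (pl : V₂ ⟶ U₀)
    [Etale pl]
    (q₀ : Q.obj.obj (op (Scheme.Etale.mk u))) (t : I.obj.obj (op (Scheme.Etale.mk (pl ≫ u))))
    (ht : (π.hom.app _).hom t = res Q (hm (pl ≫ u) u pl rfl) q₀) (v : V₂) :
    ∃ (O : U₀.Opens), pl v ∈ O ∧ ∃ tU : I.obj.obj (op (Scheme.Etale.mk (O.ι ≫ u))),
      (π.hom.app _).hom tU = res Q (hm (O.ι ≫ u) u O.ι rfl) q₀ := by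
  obtain ⟨γ, hγ, n, b, m, hm', hsum⟩ := exists_cocycle_data f π w hS u pl q₀ t ht
  obtain ⟨k, hk⟩ := exists_mem_basicOpen_of_sum v b m hsum
  let D : V₂.Opens := V₂.basicOpen (m k)
  let O : U₀.Opens := ⟨pl '' (D : Set V₂), pl.isOpenMap _ D.2⟩
  refine ⟨O, ⟨v, hk, rfl⟩, ?_⟩
  let eU : (Γ(↑D, ⊤) : Type u)ˣ := (isUnit_appTop_ι_basicOpen (m k)).unit
  have heU : (eU : Γ(↑D, ⊤)) = D.ι.appTop (m k) := (isUnit_appTop_ι_basicOpen (m k)).unit_spec
  have hrange : Set.range (D.ι ≫ pl) ⊆ Set.range O.ι := by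
    rintro _ ⟨z, rfl⟩
    rw [Scheme.Opens.range_ι]
    exact ⟨D.ι z, z.2, rfl⟩
  let rl : (↑D : Scheme.{u}) ⟶ ↑O := IsOpenImmersion.lift O.ι (D.ι ≫ pl) hrange
  have hrl : rl ≫ O.ι = D.ι ≫ pl := IsOpenImmersion.lift_fac _ _ _
  let p := hm (pl ≫ u) u pl rfl
  let a₁ := hm (pullback.fst pl pl ≫ pl ≫ u) (pl ≫ u) (pullback.fst pl pl) rfl
  let a₂ := hm (pullback.fst pl pl ≫ pl ≫ u) (pl ≫ u) (pullback.snd pl pl)
    (by rw [← Category.assoc, ← pullback.condition, Category.assoc])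
  let d := hm (D.ι ≫ pl ≫ u) (pl ≫ u) D.ι rfl
  let r := hm (D.ι ≫ pl ≫ u) (O.ι ≫ u) rl (by rw [← Category.assoc, hrl, Category.assoc])
  let jO := hm (O.ι ≫ u) u O.ι rfl
  have hrj : r ≫ jO = d ≫ p := by
    apply MorphismProperty.Over.Hom.ext
    exact hrl
  have hsurj : ∀ y : (Scheme.Etale.mk (O.ι ≫ u)).left, ∃ z : (Scheme.Etale.mk (D.ι ≫ pl ≫ u)).left,
      r.left z = y := by
    intro y
    obtain ⟨z, hz, hzy⟩ := y.2
    refine ⟨⟨z, hz⟩, ?_⟩
    apply O.ι.isOpenEmbedding.injective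
    have h1 : O.ι (rl ⟨z, hz⟩) = pl (D.ι ⟨z, hz⟩) := by
      rw [← Scheme.Hom.comp_apply, hrl, Scheme.Hom.comp_apply]
    exact h1.trans hzy
  let e : (EtCoh.Gm X).obj.obj (op (Scheme.Etale.mk (D.ι ≫ pl ≫ u))) := gmOf _ eU
  have hdesc : ∀ (W : X.Etale) (g1 g2 : W ⟶ Scheme.Etale.mk (D.ι ≫ pl ≫ u)), g1 ≫ r = g2 ≫ r →
      res I g1 (res I d t - (f.hom.app _).hom e) = res I g2 (res I d t - (f.hom.app _).hom e) := by
    intro W g1 g2 hg
    obtain ⟨g1l, hg1l⟩ : ∃ x : W.left ⟶ (↑D : Scheme.{u}), x = g1.left := ⟨_, rfl⟩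
    obtain ⟨g2l, hg2l⟩ : ∃ x : W.left ⟶ (↑D : Scheme.{u}), x = g2.left := ⟨_, rfl⟩
    have h1 : g1l ≫ rl = g2l ≫ rl := by
      rw [hg1l, hg2l]
      exact congrArg (fun k => k.left) hg
    have hgl : (g1l ≫ D.ι) ≫ pl = (g2l ≫ D.ι) ≫ pl := by
      rw [Category.assoc, Category.assoc, ← hrl, ← Category.assoc, ← Category.assoc, h1]
    have hw1 : g1l ≫ D.ι ≫ pl ≫ u = W.hom := by
      rw [hg1l]
      exact Over.w g1.hom
    let hh : W ⟶ Scheme.Etale.mk (pullback.fst pl pl ≫ pl ≫ u) :=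
      MorphismProperty.Over.homMk (pullback.lift (g1l ≫ D.ι) (g2l ≫ D.ι) hgl) (by
        show pullback.lift (g1l ≫ D.ι) (g2l ≫ D.ι) hgl ≫ pullback.fst pl pl ≫ pl ≫ u =
          W.hom
        rw [← Category.assoc, pullback.lift_fst, Category.assoc]
        exact hw1)
    have hh1 : hh ≫ a₁ = g1 ≫ d := by
      apply MorphismProperty.Over.Hom.ext
      refine (pullback.lift_fst _ _ _).trans ?_
      rw [hg1l]
      rfl
    have hh2 : hh ≫ a₂ = g2 ≫ d := by
      apply MorphismProperty.Over.Hom.ext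
      refine (pullback.lift_snd _ _ _).trans ?_
      rw [hg2l]
      rfl
    have hγ' : (f.hom.app _).hom γ = res I a₂ t - res I a₁ t := hγ
    have k1 : (f.hom.app _).hom (res (EtCoh.Gm X) hh γ) =
        res I (g2 ≫ d) t - res I (g1 ≫ d) t := by
      rw [res_nat, hγ', res_sub, ← res_comp, ← res_comp, hh1, hh2]
    have k2 : res (EtCoh.Gm X) g2 e = res (EtCoh.Gm X) hh γ + res (EtCoh.Gm X) g1 e := by
      apply gmTo_injective
      rw [gmTo_add, gmTo_map, gmTo_map, gmTo_map]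
      apply Units.ext
      show g2.left.appTop (eU : Γ(↑D, ⊤)) =
        hh.left.appTop ((gmTo _ γ).val) * g1.left.appTop (eU : Γ(↑D, ⊤))
      rw [heU, ← hg1l, ← hg2l]
      have l2 : g2l.appTop (D.ι.appTop (m k)) =
          hh.left.appTop ((pullback.snd pl pl).appTop (m k)) := by
        have := congrArg (fun φ => φ.appTop (m k)) (pullback.lift_snd (g1l ≫ D.ι)
          (g2l ≫ D.ι) hgl)
        exact this.symm
      have l1 : g1l.appTop (D.ι.appTop (m k)) =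
          hh.left.appTop ((pullback.fst pl pl).appTop (m k)) := by
        have := congrArg (fun φ => φ.appTop (m k)) (pullback.lift_fst (g1l ≫ D.ι)
          (g2l ≫ D.ι) hgl)
        exact this.symm
      refine l2.trans (Eq.trans ?_
        (congrArg (fun z => hh.left.appTop ((gmTo _ γ).val) * z) l1.symm))
      exact (congrArg (fun z => hh.left.appTop z) (hm' k)).trans (map_mul _ _ _)
    rw [res_sub, res_sub, ← res_comp, ← res_comp, ← res_nat, ← res_nat, k2, map_add, k1]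
    abel
  obtain ⟨tU, htU, -⟩ := existsUnique_descent I r hsurj _ hdesc
  refine ⟨tU, ?_⟩
  apply GalDescA.ext_of_jointly_surjective (Q.obj ⋙ forget AddCommGrpCat)
    (GalDescC.isSheaf_forget Q) (fun _ : Unit => Scheme.Etale.mk (D.ι ≫ pl ≫ u)) (fun _ => r)
    (fun y => by obtain ⟨z, hz⟩ := hsurj y; exact ⟨(), z, hz⟩)
  intro _
  show res Q r ((π.hom.app _).hom tU) = res Q r (res Q jO q₀)
  have htU' : res I r tU = res I d t - (f.hom.app _).hom e := htU
  rw [← res_nat, htU', map_sub, π_f_apply f π w, sub_zero, res_nat, ht, ← res_comp, ← res_comp,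
    hrj]

end Main

end Groth.Agent.Helper6.H90D
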