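import Mathlib
import Groth.Prelude.Def_EtBase
import Groth.Prelude.Def_EtCore
import Groth.Prelude.Def_EtGm
import Groth.Agent.Helper6.H90C
import Groth.Agent.Helper6.H90D

/-! Zariski-local lifting of global sections along `I → I/G_m`. -/

set_option autoImplicit false
set_option linter.style.haveILetI false
set_option linter.unusedSectionVars false
set_option linter.unusedVariables false
set_option linter.unusedSimpArgs false

universe u

open CategoryTheory CategoryTheory.Limits Opposite AlgebraicGeometry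

namespace Groth.Agent.Helper6.H90E

open Groth.Agent.Helper6.H90B Groth.Agent.Helper6.H90D

variable {X : Scheme.{u}} {I Q : EtCoh.Ab X} (f : EtCoh.Gm X ⟶ I) (π : I ⟶ Q) (w : f ≫ π = 0)
  (hS : (ShortComplex.mk f π w).ShortExact)

/-- the object of the small étale site of an open subscheme -/
noncomputable abbrev opObj (U : X.Opens) : X.Etale := Scheme.Etale.mk U.ι

/-- the map to the terminal object -/
noncomputable abbrev toTop (W : X.Etale) : W ⟶ EtCoh.top X := (EtCore.topIsTerminal X).from W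

include hS in
set_option maxHeartbeats 800000 in
theorem exists_zariski_lift (q : Q.obj.obj (op (EtCoh.top X))) (x : X) :
    ∃ (U : X.Opens), x ∈ U ∧ ∃ tU : I.obj.obj (op (opObj U)),
      (π.hom.app _).hom tU = res Q (toTop (opObj U)) q := by
  haveI : Epi π := hS.epi_g
  obtain ⟨V, g, v, t, hv, ht⟩ := exists_local_lift π (EtCoh.top X) q x
  have hVx : (V.hom : V.left ⟶ X) v = x := by
    have h1 : g.left ≫ (EtCoh.top X).hom = V.hom := Over.w g.hom
    have h2 : (V.hom : V.left ⟶ X) = g.left := by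
      rw [← h1]
      exact (Category.comp_id _)
    rw [h2]
    exact hv
  obtain ⟨U₀, V₂, hU₀, hV₂, hvV₂, himg⟩ := H90C.exists_affine_refinement V v
  haveI : IsAffine (↑U₀ : Scheme.{u}) := hU₀
  haveI : IsAffine (↑V₂ : Scheme.{u}) := hV₂
  have hrange : Set.range (V₂.ι ≫ (V.hom : V.left ⟶ X)) ⊆ Set.range U₀.ι := by
    rintro _ ⟨z, rfl⟩
    rw [Scheme.Opens.range_ι, ← himg]
    exact ⟨V₂.ι z, z.2, rfl⟩
  let pl : (↑V₂ : Scheme.{u}) ⟶ ↑U₀ :=
    IsOpenImmersion.lift U₀.ι (V₂.ι ≫ (V.hom : V.left ⟶ X)) hrange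
  have hpl : pl ≫ U₀.ι = V₂.ι ≫ (V.hom : V.left ⟶ X) := IsOpenImmersion.lift_fac _ _ _
  haveI : Etale (V₂.ι ≫ (V.hom : V.left ⟶ X)) := inferInstance
  haveI : Etale pl := by
    refine MorphismProperty.of_postcomp (W := @Etale) (W' := @IsOpenImmersion) pl U₀.ι
      inferInstance ?_
    rw [hpl]
    infer_instance
  -- sections
  let ι₂ : Scheme.Etale.mk (pl ≫ U₀.ι) ⟶ V := MorphismProperty.Over.homMk V₂.ι hpl.symm
  let q₀ : Q.obj.obj (op (Scheme.Etale.mk U₀.ι)) := res Q (toTop _) q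
  have ht₂ : (π.hom.app _).hom (res I ι₂ t) = res Q (hm (pl ≫ U₀.ι) U₀.ι pl rfl) q₀ := by
    rw [res_nat, ht, ← res_comp, ← res_comp]
    exact congrArg (fun k => res Q k q) ((EtCore.topIsTerminal X).hom_ext _ _)
  obtain ⟨O, hO, tU, htU⟩ := exists_lift_affine f π w hS U₀.ι pl q₀ (res I ι₂ t) ht₂ ⟨v, hvV₂⟩
  refine ⟨U₀.ι ''ᵁ O, ?_, ?_⟩
  · refine ⟨pl ⟨v, hvV₂⟩, hO, ?_⟩
    have h1 : U₀.ι (pl ⟨v, hvV₂⟩) = (V.hom : V.left ⟶ X) (V₂.ι ⟨v, hvV₂⟩) := by
      rw [← Scheme.Hom.comp_apply, hpl, Scheme.Hom.comp_apply]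
    exact h1.trans hVx
  · let ψ : opObj (U₀.ι ''ᵁ O) ⟶ Scheme.Etale.mk (O.ι ≫ U₀.ι) :=
      MorphismProperty.Over.homMk (U₀.ι.isoImage O).inv (U₀.ι.isoImage_inv_ι O)
    refine ⟨res I ψ tU, ?_⟩
    rw [res_nat, htU, ← res_comp, ← res_comp]
    exact congrArg (fun k => res Q k q) ((EtCore.topIsTerminal X).hom_ext _ _)

end Groth.Agent.Helper6.H90E
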