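import Mathlib
import Groth.Prelude.Def_EtBase
import Groth.Prelude.Def_EtCore
import Groth.Prelude.Def_EtGm
import Groth.Agent.Helper6.H90E
import Groth.Agent.Helper9.GabB

/-! Hilbert 90: classes in `H¹(X_et, G_m)` are Zariski locally trivial. -/

set_option autoImplicit false
set_option linter.style.haveILetI false
set_option linter.unusedSectionVars false
set_option linter.unusedVariables false
set_option linter.unusedSimpArgs false

universe u

open CategoryTheory CategoryTheory.Limits Opposite AlgebraicGeometry Abelian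

namespace Groth.Agent.Helper6.H90F

open Groth.Agent.Helper6.H90B Groth.Agent.Helper6.H90D Groth.Agent.Helper6.H90E
open Groth.Agent.Helper9.GabA Groth.Agent.Helper9.GabB Groth.Agent.Helper9.EtMV1

variable {X : Scheme.{u}}

/-- comparison of the two incarnations of an open as an object of the étale site -/
noncomputable def κ (U : X.Opens) : Oobj U ⟶ opObj U :=
  MorphismProperty.Over.homMk (𝟙 _) (by
    show 𝟙 _ ≫ U.ι = 𝟙 _ ≫ U.ι
    rfl)

set_option maxHeartbeats 800000 in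
theorem main (c : EtCoh.H X (EtCoh.Gm X) 1) (x : X) :
    ∃ U : X.Opens, x ∈ U ∧ ∀ [PreservesFiniteLimits (EtCoh.pull U.ι)],
      EtCore.Hpull U.ι (EtCoh.Gm X) 1 c = 0 := by
  let I : EtCoh.Ab X := Injective.under (EtCoh.Gm X)
  let f : EtCoh.Gm X ⟶ I := Injective.ι (EtCoh.Gm X)
  let π : I ⟶ cokernel f := cokernel.π f
  have w : f ≫ π = 0 := cokernel.condition f
  have hS : (ShortComplex.mk f π w).ShortExact := ⟨ShortComplex.exact_cokernel f⟩
  have hc0 : c.comp (Ext.mk₀ f) (add_zero 1) = 0 := Ext.eq_zero_of_injective _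
  obtain ⟨qt, hqt⟩ := Ext.covariant_sequence_exact₁ _ hS c hc0 (rfl : 0 + 1 = 1)
  obtain ⟨φ, rfl⟩ := (Ext.mk₀_bijective _ _).2 qt
  let q : (cokernel f).obj.obj (op (EtCoh.top X)) := (φ.hom.app _).hom oneX
  obtain ⟨U, hxU, tU, htU⟩ := exists_zariski_lift f π w hS q x
  refine ⟨U, hxU, ?_⟩
  intro inst
  obtain ⟨ψ, hψ⟩ := ev_surjective U I (res I (κ U) tU)
  have hψπ : ψ ≫ π = cO U ≫ φ := by
    apply ev_injective U
    rw [ev_naturality, ev_naturality, hψ, ev_cO]
    have h1 : (π.hom.app (op (Oobj U))).hom (res I (κ U) tU) = res _ (κ U) ((π.hom.app _).hom tU) :=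
      res_nat π (κ U) tU
    refine h1.trans ?_
    rw [htU, ← res_comp]
    have h2 : κ U ≫ toTop (opObj U) = tO U := (EtCore.topIsTerminal X).hom_ext _ _
    rw [h2]
    exact (res_nat φ (tO U) oneX).symm
  rw [← θ_c U.ι (EtCoh.Gm X) 1 c, ← hqt]
  have h3 : (Ext.mk₀ (cO U)).comp ((Ext.mk₀ φ).comp hS.extClass (rfl : 0 + 1 = 1)) (zero_add 1) = 0 := by
    rw [← Ext.comp_assoc (Ext.mk₀ (cO U)) (Ext.mk₀ φ) hS.extClass (zero_add 0) (rfl : 0 + 1 = 1)
      (by omega), Ext.mk₀_comp_mk₀]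
    have h4 : cO U ≫ φ = ψ ≫ π := hψπ.symm
    rw [h4, ← Ext.mk₀_comp_mk₀, Ext.comp_assoc (Ext.mk₀ ψ) (Ext.mk₀ π) hS.extClass (zero_add 0)
      (rfl : 0 + 1 = 1) (by omega)]
    have h5 : (Ext.mk₀ π).comp hS.extClass (rfl : 0 + 1 = 1) = 0 := hS.comp_extClass
    rw [h5, Ext.comp_zero]
  rw [h3, map_zero]

end Groth.Agent.Helper6.H90F
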