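import Mathlib

set_option autoImplicit false
set_option linter.style.haveILetI false
set_option linter.unusedSectionVars false
set_option linter.unusedVariables false

/-!
# Comparison of `Ext` groups along an exact functor: a morphism of δ-functors which is bijective in
degree zero is bijective in all degrees, when the source is effaceable by injectives whose images
are acyclic.
-/

open CategoryTheory CategoryTheory.Limits Abelian

universe w₁ w₂ v₁ v₂ u₁ u₂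

namespace Groth.Agent.Helper6.HModA

variable {𝒜 : Type u₁} [Category.{v₁} 𝒜] [Abelian 𝒜] [HasExt.{w₁} 𝒜]
  {ℬ : Type u₂} [Category.{v₂} ℬ] [Abelian ℬ] [HasExt.{w₂} ℬ]
  (U : 𝒜 ⥤ ℬ) [U.Additive] [PreservesFiniteLimits U] [PreservesFiniteColimits U]
  {O : 𝒜} {O' : ℬ} (ι : O' ⟶ U.obj O)

/-- the comparison map `Ext^n(O, F) → Ext^n(O', U F)` -/
noncomputable def θ (F : 𝒜) (n : ℕ) : Ext.{w₁} O F n →+ Ext.{w₂} O' (U.obj F) n :=
  AddMonoidHom.comp
    (AddMonoidHom.mk' (fun e => (Ext.mk₀ ι).comp e (zero_add n))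
      (fun _ _ => Ext.comp_add _ _ _ _))
    (U.mapExtAddHom _ _ n)

lemma θ_apply (F : 𝒜) (n : ℕ) (e : Ext.{w₁} O F n) :
    θ U ι F n e = (Ext.mk₀ ι).comp (e.mapExactFunctor U) (zero_add n) := rfl

lemma θ_comp_mk₀ {F G : 𝒜} (f : F ⟶ G) (n : ℕ) (e : Ext.{w₁} O F n) :
    θ U ι G n (e.comp (Ext.mk₀ f) (add_zero n)) =
      (θ U ι F n e).comp (Ext.mk₀ (U.map f)) (add_zero n) := by
  rw [θ_apply, θ_apply, Ext.mapExactFunctor_comp, Ext.mapExactFunctor_mk₀,
    Ext.comp_assoc_of_third_deg_zero]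

lemma θ_comp_extClass {S : ShortComplex 𝒜} (hS : S.ShortExact) (n : ℕ)
    (e : Ext.{w₁} O S.X₃ n) :
    θ U ι S.X₁ (n + 1) (e.comp hS.extClass rfl) =
      (θ U ι S.X₃ n e).comp (hS.map_of_exact U).extClass rfl := by
  rw [θ_apply, θ_apply, Ext.mapExactFunctor_comp, Ext.mapExactFunctor_extClass]
  exact (Ext.comp_assoc _ _ _ (zero_add n) rfl (by omega)).symm

lemma θ_mk₀ (F : 𝒜) (φ : O ⟶ F) : θ U ι F 0 (Ext.mk₀ φ) = Ext.mk₀ (ι ≫ U.map φ) := by
  rw [θ_apply, Ext.mapExactFunctor_mk₀, Ext.mk₀_comp_mk₀]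

lemma θ_zero_bijective (F : 𝒜)
    (h : Function.Bijective (fun φ : O ⟶ F => ι ≫ U.map φ)) :
    Function.Bijective (θ U ι F 0) := by
  constructor
  · intro e₁ e₂ he
    obtain ⟨φ₁, rfl⟩ := (Ext.mk₀_bijective O F).2 e₁
    obtain ⟨φ₂, rfl⟩ := (Ext.mk₀_bijective O F).2 e₂
    rw [θ_mk₀, θ_mk₀] at he
    rw [h.1 ((Ext.mk₀_bijective _ _).1 he)]
  · intro y
    obtain ⟨ψ, rfl⟩ := (Ext.mk₀_bijective O' (U.obj F)).2 y
    obtain ⟨φ, rfl⟩ := h.2 ψ
    exact ⟨Ext.mk₀ φ, θ_mk₀ U ι F φ⟩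

theorem θ_bijective
    (h0 : ∀ F : 𝒜, Function.Bijective (θ U ι F 0))
    (heff : ∀ F : 𝒜, ∃ (J : 𝒜) (i : F ⟶ J), Mono i ∧ Injective J ∧
      ∀ (n : ℕ) (x : Ext.{w₂} O' (U.obj J) (n + 1)), x = 0)
    (n : ℕ) : ∀ F : 𝒜, Function.Bijective (θ U ι F n) := by
  induction n with
  | zero => exact h0
  | succ n ih =>
    intro F
    obtain ⟨J, i, hi, hJ, hacyc⟩ := heff F
    let S : ShortComplex 𝒜 := ShortComplex.mk i (cokernel.π i) (cokernel.condition i)
    have hS : S.ShortExact :=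
      { exact := ShortComplex.exact_cokernel i
        mono_f := hi
        epi_g := by dsimp [S]; infer_instance }
    have hS' := hS.map_of_exact U
    haveI : Injective S.X₂ := hJ
    constructor
    · rw [injective_iff_map_eq_zero]
      intro w hw
      have hwJ : w.comp (Ext.mk₀ S.f) (add_zero (n + 1)) = 0 := Ext.eq_zero_of_injective _
      obtain ⟨x, rfl⟩ := Ext.covariant_sequence_exact₁ O hS w hwJ rfl
      have hw2 : (θ U ι S.X₃ n x).comp (hS.map_of_exact U).extClass rfl = 0 :=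
        (θ_comp_extClass U ι hS n x).symm.trans hw
      obtain ⟨v, hv⟩ := Ext.covariant_sequence_exact₃ O' hS' _ rfl hw2
      obtain ⟨v', rfl⟩ := (ih S.X₂).2 v
      have h1 : θ U ι S.X₃ n (v'.comp (Ext.mk₀ S.g) (add_zero n)) = θ U ι S.X₃ n x := by
        rw [θ_comp_mk₀]; exact hv
      have h2 := (ih S.X₃).1 h1
      rw [← h2, Ext.comp_assoc_of_second_deg_zero, hS.comp_extClass, Ext.comp_zero]
    · intro y
      have hyJ : y.comp (Ext.mk₀ (S.map U).f) (add_zero (n + 1)) = 0 := hacyc n _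
      obtain ⟨z, rfl⟩ := Ext.covariant_sequence_exact₁ O' hS' y hyJ rfl
      obtain ⟨x, rfl⟩ := (ih S.X₃).2 z
      exact ⟨x.comp hS.extClass rfl, θ_comp_extClass U ι hS n x⟩

end Groth.Agent.Helper6.HModA
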