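import Mathlib

set_option autoImplicit false
set_option linter.style.haveILetI false
set_option linter.unusedSectionVars false
set_option linter.unusedVariables false

/-!
# Injective abelian sheaves have injective groups of sections; short exactness from sections
-/

open CategoryTheory CategoryTheory.Limits Opposite Abelian

universe u

namespace Groth.Agent.Helper6.HModB

instance ab4u : AB4OfSize.{u} AddCommGrpCat.{u + 1} :=
  AB4OfSize_shrink.{u, u + 1} AddCommGrpCat.{u + 1}

variable {C : Type (u + 1)} [Category.{u} C] (J : GrothendieckTopology C)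

section Eval

set_option backward.isDefEq.respectTransparency false in
theorem map_app_eq (c t : Cᵒᵖ) {X Y : AddCommGrpCat.{u + 1}} (f : X ⟶ Y) :
    ((evaluationLeftAdjoint AddCommGrpCat.{u + 1} c).map f).app t =
      Limits.Sigma.map (fun _ : c ⟶ t => f) := by
  apply Sigma.hom_ext
  intro h
  simp

instance preservesMono_evalLeft (c : Cᵒᵖ) :
    (evaluationLeftAdjoint AddCommGrpCat.{u + 1} c).PreservesMonomorphisms where
  preserves {X Y} f hf := by
    haveI : ∀ t, Mono (((evaluationLeftAdjoint AddCommGrpCat.{u + 1} c).map f).app t) :=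
      fun t => by
        haveI : ∀ j : (c ⟶ t), Mono ((fun _ : c ⟶ t => f) j) := fun _ => hf
        have h1 : Mono (Limits.Sigma.map (fun _ : c ⟶ t => f)) := inferInstance
        rw [map_app_eq]
        exact h1
    apply NatTrans.mono_of_mono_app

variable [HasSheafify J AddCommGrpCat.{u + 1}]

/-- evaluation of sheaves at `V` is a right adjoint -/
noncomputable def evalAdj (V : C) :
    (evaluationLeftAdjoint AddCommGrpCat.{u + 1} (op V) ⋙
        presheafToSheaf J AddCommGrpCat.{u + 1}) ⊣
      (sheafToPresheaf J AddCommGrpCat.{u + 1} ⋙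
        (evaluation Cᵒᵖ AddCommGrpCat.{u + 1}).obj (op V)) :=
  (evaluationAdjunctionRight AddCommGrpCat.{u + 1} (op V)).comp
    (sheafificationAdjunction J AddCommGrpCat.{u + 1})

theorem injective_sections (I : Sheaf J AddCommGrpCat.{u + 1}) [Injective I] (V : C) :
    Injective (I.obj.obj (op V)) :=
  Injective.injective_of_adjoint (evalAdj J V) I

lemma exact_of_evaluation {K : Type*} [Category K] {A : Type*} [Category A] [Abelian A]
    (S : ShortComplex (K ⥤ A))
    (h : ∀ q, (S.map ((evaluation K A).obj q)).Exact) : S.Exact := by
  simp only [ShortComplex.exact_iff_isZero_homology] at h ⊢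
  rw [Functor.isZero_iff]
  intro q
  exact IsZero.of_iso (h q) (S.mapHomologyIso ((evaluation K A).obj q)).symm

/-- a short complex of sheaves which is short exact on all sections is short exact -/
theorem shortExact_of_sections (S : ShortComplex (Sheaf J AddCommGrpCat.{u + 1}))
    (h : ∀ V : Cᵒᵖ, (S.map (sheafToPresheaf J AddCommGrpCat.{u + 1} ⋙
      (evaluation Cᵒᵖ AddCommGrpCat.{u + 1}).obj V)).ShortExact) : S.ShortExact := by
  have hP : (S.map (sheafToPresheaf J AddCommGrpCat.{u + 1})).ShortExact :=
    { exact := exact_of_evaluation _ (fun V => (h V).exact)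
      mono_f := by
        haveI : ∀ V, Mono ((S.map (sheafToPresheaf J AddCommGrpCat.{u + 1})).f.app V) :=
          fun V => (h V).mono_f
        exact NatTrans.mono_of_mono_app _
      epi_g := by
        haveI : ∀ V, Epi ((S.map (sheafToPresheaf J AddCommGrpCat.{u + 1})).g.app V) :=
          fun V => (h V).epi_g
        exact NatTrans.epi_of_epi_app _ }
  have h2 := hP.map_of_exact (presheafToSheaf J AddCommGrpCat.{u + 1})
  exact ShortComplex.shortExact_of_iso
    (S.mapNatIso (sheafificationNatIso J AddCommGrpCat.{u + 1})).symm h2

end Eval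

end Groth.Agent.Helper6.HModB
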