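import Mathlib
import Groth.Agent.Helper6.HModB
import Groth.Agent.Helper6.ZarEpsB

set_option autoImplicit false
set_option linter.style.haveILetI false
set_option linter.unusedSectionVars false
set_option linter.unusedVariables false

/-!
# The sheaves `V ↦ Hom(Q, I(V))` for an injective abelian sheaf `I` are acyclic
-/

open CategoryTheory CategoryTheory.Limits Opposite Abelian

universe w u

namespace Groth.Agent.Helper6.HModC

open Groth.Agent.Helper6.HModB

variable {C : Type (u + 1)} [Category.{u} C] (J : GrothendieckTopology C)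

/-- `Hom(Q, -)` on abelian groups -/
noncomputable abbrev Hfun (Q : AddCommGrpCat.{u + 1}) :
    AddCommGrpCat.{u + 1} ⥤ AddCommGrpCat.{u + 1} :=
  preadditiveCoyoneda.obj (op Q)

instance hasSheafCompose_Hfun (Q : AddCommGrpCat.{u + 1}) : J.HasSheafCompose (Hfun Q) :=
  haveI : PreservesLimitsOfSize.{u, u + 1} (Hfun Q) :=
    preservesLimitsOfSize_shrink.{u + 1, u + 1, u, u + 1} _
  hasSheafCompose_of_preservesLimitsOfSize (J := J) (F := Hfun Q)

/-- the sheaf `V ↦ Hom(Q, I(V))` -/
noncomputable abbrev E (Q : AddCommGrpCat.{u + 1}) :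
    Sheaf J AddCommGrpCat.{u + 1} ⥤ Sheaf J AddCommGrpCat.{u + 1} :=
  sheafCompose J (Hfun Q)

/-- contravariant functoriality in `Q` -/
noncomputable abbrev Emap {P Q : AddCommGrpCat.{u + 1}} (b : P ⟶ Q) : E J Q ⟶ E J P :=
  sheafCompose_map J (preadditiveCoyoneda.map b.op)

lemma Emap_app_apply {P Q : AddCommGrpCat.{u + 1}} (b : P ⟶ Q)
    (I : Sheaf J AddCommGrpCat.{u + 1}) (V : Cᵒᵖ) (x : Q ⟶ I.obj.obj V) :
    (((Emap J b).app I).hom.app V).hom x = b ≫ x := rfl

/-- the short complex `Hom(T.X₃, I) ⟶ Hom(T.X₂, I) ⟶ Hom(T.X₁, I)` -/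
noncomputable def SE (T : ShortComplex AddCommGrpCat.{u + 1}) (I : Sheaf J AddCommGrpCat.{u + 1}) :
    ShortComplex (Sheaf J AddCommGrpCat.{u + 1}) :=
  ShortComplex.mk ((Emap J T.g).app I) ((Emap J T.f).app I) (by
    apply Sheaf.hom_ext
    ext V x
    show T.f ≫ (T.g ≫ x) = 0
    rw [← Category.assoc, T.zero, zero_comp])

theorem SE_sections {T : ShortComplex AddCommGrpCat.{u + 1}} (hT : T.ShortExact)
    (I : Sheaf J AddCommGrpCat.{u + 1}) (hI : ∀ V : Cᵒᵖ, Injective (I.obj.obj V)) (V : Cᵒᵖ) :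
    ((SE J T I).map (sheafToPresheaf J AddCommGrpCat.{u + 1} ⋙
      (evaluation Cᵒᵖ AddCommGrpCat.{u + 1}).obj V)).ShortExact := by
  haveI := hT.mono_f
  haveI := hT.epi_g
  haveI : Injective (((sheafToPresheaf J AddCommGrpCat.{u + 1}).obj I).obj V) := hI V
  refine { exact := ?_, mono_f := ?_, epi_g := ?_ }
  · rw [ShortComplex.ab_exact_iff]
    intro x₂ hx₂
    have h : T.f ≫ x₂ = 0 := hx₂
    refine ⟨hT.gIsCokernel.desc (CokernelCofork.ofπ x₂ h), ?_⟩
    exact Cofork.IsColimit.π_desc hT.gIsCokernel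
  · refine (AddCommGrpCat.mono_iff_injective _).2 (fun x y h => ?_)
    have h' : T.g ≫ x = T.g ≫ y := h
    exact (cancel_epi T.g).1 h'
  · refine (AddCommGrpCat.epi_iff_surjective _).2 (fun y => ?_)
    exact ⟨Injective.factorThru
        (show T.X₁ ⟶ ((sheafToPresheaf J AddCommGrpCat.{u + 1}).obj I).obj V from y) T.f,
      Injective.comp_factorThru
        (show T.X₁ ⟶ ((sheafToPresheaf J AddCommGrpCat.{u + 1}).obj I).obj V from y) T.f⟩

theorem SE_shortExact {T : ShortComplex AddCommGrpCat.{u + 1}} (hT : T.ShortExact)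
    [HasSheafify J AddCommGrpCat.{u + 1}]
    (I : Sheaf J AddCommGrpCat.{u + 1}) (hI : ∀ V : Cᵒᵖ, Injective (I.obj.obj V)) :
    (SE J T I).ShortExact :=
  shortExact_of_sections J _ (SE_sections J hT I hI)

section Free

variable (A : Type (u + 1))

/-- the free abelian group on `A` -/
noncomputable abbrev Pfree : AddCommGrpCat.{u + 1} := AddCommGrpCat.of (A →₀ ℤ)

/-- homomorphisms out of the free group -/
noncomputable def liftEquiv (M : Type (u + 1)) [AddCommGroup M] :
    (A → M) ≃+ ((A →₀ ℤ) →+ M) :=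
  (AddEquiv.piCongrRight (fun _ : A => zmultiplesAddHom M)).trans Finsupp.liftAddHom

@[simp]
lemma liftEquiv_apply_single (M : Type (u + 1)) [AddCommGroup M] (t : A → M) (a : A) :
    liftEquiv A M t (Finsupp.single a 1) = t a := by
  simp [liftEquiv]

lemma hom_ext_free {M : AddCommGrpCat.{u + 1}} (x y : Pfree A ⟶ M)
    (h : ∀ a, x.hom (Finsupp.single a 1) = y.hom (Finsupp.single a 1)) : x = y := by
  apply AddCommGrpCat.hom_ext
  apply Finsupp.addHom_ext'
  intro a
  apply AddMonoidHom.ext_int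
  exact h a

/-- tupling of morphisms into `Hom(Pfree A, M)` -/
noncomputable def tuple {N M : AddCommGrpCat.{u + 1}} (t : A → (N ⟶ M)) :
    N ⟶ (Hfun (Pfree A)).obj M :=
  AddCommGrpCat.ofHom
    ((AddCommGrpCat.homAddEquiv (M := Pfree A) (N := M)).symm.toAddMonoidHom.comp
      ((liftEquiv A M).toAddMonoidHom.comp (AddMonoidHom.pi fun a => (t a).hom)))

lemma tuple_apply_single {N M : AddCommGrpCat.{u + 1}} (t : A → (N ⟶ M)) (s : N) (a : A) :
    (show Pfree A ⟶ M from (tuple A t).hom s).hom (Finsupp.single a 1) = (t a).hom s := by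
  show liftEquiv A M (fun a => (t a).hom s) (Finsupp.single a 1) = (t a).hom s
  rw [liftEquiv_apply_single]

/-- evaluation at the generator `a` -/
noncomputable def evA (a : A) : Hfun (Pfree A) ⟶ 𝟭 AddCommGrpCat.{u + 1} where
  app M := AddCommGrpCat.ofHom
    { toFun := fun x => (show Pfree A ⟶ M from x).hom (Finsupp.single a 1)
      map_zero' := rfl
      map_add' := fun x y => rfl }
  naturality M N f := by
    ext x
    rfl

/-- the projection `Hom(Pfree A, I) ⟶ I` at the generator `a` -/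
noncomputable def πA (I : Sheaf J AddCommGrpCat.{u + 1}) (a : A) :
    (E J (Pfree A)).obj I ⟶ I :=
  ⟨Functor.whiskerLeft I.obj (evA A a) ≫ (Functor.rightUnitor I.obj).hom⟩

theorem injective_E_free (I : Sheaf J AddCommGrpCat.{u + 1}) [Injective I] :
    Injective ((E J (Pfree A)).obj I) := by
  constructor
  intro G G' f m _
  let ga : A → (G' ⟶ I) := fun a => Injective.factorThru (f ≫ πA J A I a) m
  have hga : ∀ a, m ≫ ga a = f ≫ πA J A I a := fun a => Injective.comp_factorThru _ _
  let g : G' ⟶ (E J (Pfree A)).obj I := ⟨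
    { app := fun V => tuple A (fun a => (ga a).hom.app V)
      naturality := by
        intro V W r
        ext s
        refine hom_ext_free A (M := I.obj.obj W) _ _ (fun a => ?_)
        have h1 := tuple_apply_single A (fun a => (ga a).hom.app W) ((G'.obj.map r).hom s) a
        have h2 := tuple_apply_single A (fun a => (ga a).hom.app V) s a
        have h3 := ConcreteCategory.congr_hom ((ga a).hom.naturality r) s
        exact h1.trans (h3.trans (congrArg (I.obj.map r).hom h2.symm)) }⟩
  refine ⟨g, ?_⟩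
  apply Sheaf.hom_ext
  ext V s
  refine hom_ext_free A (M := I.obj.obj V) _ _ (fun a => ?_)
  have h1 := tuple_apply_single A (fun a => (ga a).hom.app V) ((m.hom.app V).hom s) a
  have h4 := congrArg (fun φ : G ⟶ I => (φ.hom.app V).hom s) (hga a)
  exact h1.trans h4

end Free

section Pres

variable (Q : AddCommGrpCat.{u + 1})

/-- the canonical surjection from the free group on the underlying set of `Q` -/
noncomputable def bQ : Pfree (Q : Type (u + 1)) ⟶ Q :=
  AddCommGrpCat.ofHom (liftEquiv (Q : Type (u + 1)) Q id)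

instance epi_bQ : Epi (bQ Q) :=
  (AddCommGrpCat.epi_iff_surjective _).2 (fun q => ⟨Finsupp.single q 1, by
    show liftEquiv (Q : Type (u + 1)) Q id (Finsupp.single q 1) = q
    rw [liftEquiv_apply_single]; rfl⟩)

/-- the free presentation of `Q` -/
noncomputable def TQ : ShortComplex AddCommGrpCat.{u + 1} :=
  ShortComplex.mk (kernel.ι (bQ Q)) (bQ Q) (kernel.condition _)

lemma TQ_shortExact : (TQ Q).ShortExact :=
  { exact := ShortComplex.exact_kernel _
    mono_f := by dsimp [TQ]; infer_instance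
    epi_g := by dsimp [TQ]; infer_instance }

end Pres

section Acyc

variable [HasSheafify J AddCommGrpCat.{u + 1}] [HasExt.{w} (Sheaf J AddCommGrpCat.{u + 1})]
  {T : C} (hT : IsTerminal T)

include hT in
theorem acyclic_E (I : Sheaf J AddCommGrpCat.{u + 1}) [Injective I] (n : ℕ) :
    ∀ (Q : AddCommGrpCat.{u + 1}) (x : Sheaf.H.{w} ((E J Q).obj I) (n + 1)), x = 0 := by
  have hI : ∀ V : Cᵒᵖ, Injective (I.obj.obj V) := fun V => injective_sections J I V.unop
  induction n with
  | zero =>
    intro Q x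
    have hS := SE_shortExact J (TQ_shortExact Q) I hI
    haveI : Injective (SE J (TQ Q) I).X₂ := injective_E_free J _ I
    have hsurj : Function.Surjective ((SE J (TQ Q) I).g.hom.app (op T)) :=
      (AddCommGrpCat.epi_iff_surjective _).1
        (SE_sections J (TQ_shortExact Q) I hI (op T)).epi_g
    exact Groth.Agent.Helper6.ZarEpsB.ext_X₁_eq_zero hS _ 0
      (fun x₂ => Ext.eq_zero_of_injective x₂)
      (fun x₃ => Groth.Agent.Helper6.ZarEpsB.exists_lift_H0 hT hsurj x₃) x
  | succ m ih =>
    intro Q x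
    have hS := SE_shortExact J (TQ_shortExact Q) I hI
    haveI : Injective (SE J (TQ Q) I).X₂ := injective_E_free J _ I
    exact Groth.Agent.Helper6.ZarEpsB.ext_X₁_eq_zero hS _ (m + 1)
      (fun x₂ => Ext.eq_zero_of_injective x₂)
      (fun x₃ => ⟨0, by rw [Ext.zero_comp]; exact (ih (TQ Q).X₁ x₃).symm⟩) x

end Acyc

end Groth.Agent.Helper6.HModC
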