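import Mathlib
import Groth.Agent.Helper6.HModC

set_option autoImplicit false
set_option linter.style.haveILetI false
set_option linter.unusedSectionVars false
set_option linter.unusedVariables false

/-!
# Coinduced modules: the right adjoint of the forgetful functor from modules to abelian groups
-/

open CategoryTheory CategoryTheory.Limits Opposite Abelian

universe w u

namespace Groth.Agent.Helper6.HModD

/-- the coinduced module `Hom_ℤ(Λ, M)` -/
def CoInd (Λ : Type w) [CommRing Λ] (M : Type w) [AddCommGroup M] : Type w := Λ →+ M

namespace CoInd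

variable {Λ : Type w} [CommRing Λ] {M N : Type w} [AddCommGroup M] [AddCommGroup N]

instance : AddCommGroup (CoInd Λ M) := inferInstanceAs (AddCommGroup (Λ →+ M))

/-- the underlying homomorphism -/
def toHom (φ : CoInd Λ M) : Λ →+ M := φ

/-- the element attached to a homomorphism -/
def ofHom (φ : Λ →+ M) : CoInd Λ M := φ

@[simp] lemma toHom_ofHom (φ : Λ →+ M) : toHom (ofHom φ) = φ := rfl
@[simp] lemma ofHom_toHom (φ : CoInd Λ M) : ofHom (toHom φ) = φ := rfl
@[simp] lemma toHom_add (φ ψ : CoInd Λ M) : toHom (φ + ψ) = toHom φ + toHom ψ := rfl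
@[simp] lemma toHom_zero : toHom (0 : CoInd Λ M) = 0 := rfl

lemma ext {φ ψ : CoInd Λ M} (h : ∀ x, toHom φ x = toHom ψ x) : φ = ψ :=
  AddMonoidHom.ext h

instance : SMul Λ (CoInd Λ M) := ⟨fun r φ => ofHom ((toHom φ).comp (AddMonoidHom.mulLeft r))⟩

@[simp] lemma smul_apply (r x : Λ) (φ : CoInd Λ M) : toHom (r • φ) x = toHom φ (r * x) := rfl

instance : Module Λ (CoInd Λ M) where
  one_smul φ := ext (fun x => by simp)
  mul_smul r s φ := ext (fun x => by
    simp only [smul_apply]
    congr 1
    ring)
  smul_zero r := ext (fun x => by simp)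
  smul_add r φ ψ := ext (fun x => by simp)
  add_smul r s φ := ext (fun x => by simp [add_mul])
  zero_smul φ := ext (fun x => by simp)

end CoInd

variable (Λ : Type w) [CommRing Λ]

/-- the coinduction functor -/
noncomputable def coext : AddCommGrpCat.{w} ⥤ ModuleCat.{w} Λ where
  obj M := ModuleCat.of Λ (CoInd Λ M)
  map {M N} f := ModuleCat.ofHom
    { toFun := fun φ => CoInd.ofHom (f.hom.comp (CoInd.toHom φ))
      map_add' := fun φ ψ => CoInd.ext (fun x => by simp)
      map_smul' := fun r φ => CoInd.ext (fun x => rfl) }
  map_id M := by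
    ext φ
    exact CoInd.ext (fun x => rfl)
  map_comp f g := by
    ext φ
    exact CoInd.ext (fun x => rfl)

/-- `forget₂ ⊣ coext` -/
noncomputable def adj0 :
    forget₂ (ModuleCat.{w} Λ) AddCommGrpCat.{w} ⊣ coext Λ :=
  Adjunction.mkOfHomEquiv
    { homEquiv := fun N M =>
        { toFun := fun h => ModuleCat.ofHom
            { toFun := fun n => CoInd.ofHom
                { toFun := fun r => h.hom (show N from r • n)
                  map_zero' := by
                    show h.hom (show N from (0 : Λ) • n) = 0
                    rw [zero_smul]; exact map_zero h.hom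
                  map_add' := fun r s => by
                    show h.hom (show N from (r + s) • n) = _
                    rw [add_smul]; exact map_add h.hom _ _ }
              map_add' := fun n n' => CoInd.ext (fun r => by
                show h.hom (show N from r • (n + n')) = _
                rw [smul_add]; exact map_add h.hom _ _)
              map_smul' := fun r n => CoInd.ext (fun s => by
                show h.hom (show N from s • (r • n)) = h.hom (show N from (r * s) • n)
                rw [smul_smul, mul_comm]) }
          invFun := fun g => AddCommGrpCat.ofHom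
            { toFun := fun n => CoInd.toHom (g.hom (show N from n)) 1
              map_zero' := by
                show CoInd.toHom (g.hom (0 : N)) 1 = 0
                rw [map_zero]; rfl
              map_add' := fun n n' => by
                show CoInd.toHom (g.hom ((show N from n) + (show N from n'))) 1 = _
                rw [map_add]; rfl }
          left_inv := fun h => by
            ext n
            show h.hom (show N from (1 : Λ) • (show N from n)) = h.hom n
            rw [one_smul]
          right_inv := fun g => by
            ext n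
            refine CoInd.ext (fun r => ?_)
            have h1 : g.hom (r • n) = r • g.hom n := map_smul g.hom r n
            show CoInd.toHom (g.hom (r • n)) 1 = CoInd.toHom (g.hom n) r
            rw [h1]
            show CoInd.toHom (show CoInd Λ M from g.hom n) (r * 1) = _
            rw [mul_one] }
      homEquiv_naturality_left_symm := fun f g => by
        ext n
        rfl
      homEquiv_naturality_right := fun f g => by
        ext n
        exact CoInd.ext (fun r => rfl) }

section Sheaf

variable {C : Type (u + 1)} [Category.{u} C] (J : GrothendieckTopology C)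
  (Λ' : Type (u + 1)) [CommRing Λ']

instance hasSheafCompose_coext : J.HasSheafCompose (coext Λ') :=
  haveI : PreservesLimitsOfSize.{u, u + 1} (coext Λ') := (adj0 Λ').rightAdjoint_preservesLimits
  hasSheafCompose_of_preservesLimitsOfSize (J := J) (F := coext Λ')

/-- the forgetful functor on sheaves -/
noncomputable abbrev US : Sheaf J (ModuleCat.{u + 1} Λ') ⥤ Sheaf J AddCommGrpCat.{u + 1} :=
  sheafCompose J (forget₂ (ModuleCat.{u + 1} Λ') AddCommGrpCat.{u + 1})

/-- coinduction on sheaves -/
noncomputable abbrev RS : Sheaf J AddCommGrpCat.{u + 1} ⥤ Sheaf J (ModuleCat.{u + 1} Λ') :=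
  sheafCompose J (coext Λ')

/-- the adjunction on sheaves -/
noncomputable def adjS : US J Λ' ⊣ RS J Λ' :=
  ((adj0 Λ').whiskerRight Cᵒᵖ).restrictFullyFaithful
    (fullyFaithfulSheafToPresheaf J _) (fullyFaithfulSheafToPresheaf J _)
    (Iso.refl _) (Iso.refl _)

/-- the underlying abelian group of the coinduced module is `Hom(Λ, -)` -/
noncomputable def coextIso :
    coext Λ' ⋙ forget₂ (ModuleCat.{u + 1} Λ') AddCommGrpCat.{u + 1} ≅
      HModC.Hfun (AddCommGrpCat.of Λ') :=
  NatIso.ofComponents
    (fun M => (AddCommGrpCat.homAddEquiv (M := AddCommGrpCat.of Λ') (N := M)).symm.toAddCommGrpIso)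
    (by
      intro M N f
      ext φ
      rfl)

/-- the underlying abelian sheaf of the coinduced sheaf -/
noncomputable def isoURI (I : Sheaf J AddCommGrpCat.{u + 1}) :
    (US J Λ').obj ((RS J Λ').obj I) ≅ (HModC.E J (AddCommGrpCat.of Λ')).obj I where
  hom := ⟨Functor.whiskerLeft I.obj (coextIso Λ').hom⟩
  inv := ⟨Functor.whiskerLeft I.obj (coextIso Λ').inv⟩
  hom_inv_id := by
    apply Sheaf.hom_ext
    ext V : 2
    exact (coextIso Λ').hom_inv_id_app _
  inv_hom_id := by
    apply Sheaf.hom_ext
    ext V : 2
    exact (coextIso Λ').inv_hom_id_app _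

end Sheaf

lemma ext_eq_zero_of_iso {𝒜 : Type*} [Category 𝒜] [Abelian 𝒜] [HasExt.{w} 𝒜]
    {A B X : 𝒜} (e : A ≅ B) {n : ℕ}
    (h : ∀ y : Ext.{w} X B n, y = 0) (x : Ext.{w} X A n) : x = 0 := by
  have h1 : x = (x.comp (Ext.mk₀ e.hom) (add_zero n)).comp (Ext.mk₀ e.inv) (add_zero n) := by
    rw [Ext.comp_assoc_of_third_deg_zero, Ext.mk₀_comp_mk₀, e.hom_inv_id, Ext.comp_mk₀_id]
  rw [h1, h (x.comp (Ext.mk₀ e.hom) (add_zero n)), Ext.zero_comp]

end Groth.Agent.Helper6.HModD
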