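import Mathlib
import Groth.Prelude.Def_SixF2
import Groth.Agent.Helper6.HModA
import Groth.Agent.Helper6.HModD

set_option autoImplicit false
set_option linter.style.haveILetI false
set_option linter.unusedSectionVars false
set_option linter.unusedVariables false

/-!
# Cohomology of étale sheaves of modules agrees with that of the underlying abelian sheaf
-/

open CategoryTheory CategoryTheory.Limits Opposite Abelian AlgebraicGeometry

universe u

namespace Groth.Agent.Helper6.HModE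

open Groth.Agent.Helper6.HModA Groth.Agent.Helper6.HModC Groth.Agent.Helper6.HModD

variable (Λ : Type (u + 1)) [CommRing Λ] (X : Scheme.{u})

lemma key (F : EtModW.Mod Λ X) (φ : EtSix.constΛ Λ X ⟶ F) :
    (((EtCore.constAdj X).homEquiv _ _
      (EtSix.intToConstΛ Λ X ≫ (EtModD.forgetToAb Λ X).map φ)).hom ⟨1⟩ :
        ((EtModD.forgetToAb Λ X).obj F).obj.obj (op (EtCoh.top X))) =
    (((EtSix.constModAdj Λ X).homEquiv _ _ φ).hom (1 : Λ) : F.obj.obj (op (EtCoh.top X))) := by
  rw [Adjunction.homEquiv_naturality_right]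
  have h1 : (EtCore.constAdj X).homEquiv _ _ (EtSix.intToConstΛ Λ X) = EtSix.oneSection Λ X :=
    Equiv.apply_symm_apply _ _
  rw [h1, Adjunction.homEquiv_unit]
  show (φ.hom.app (op (EtCoh.top X))).hom ((EtSix.oneSection Λ X).hom ⟨1⟩) =
    (φ.hom.app (op (EtCoh.top X))).hom
      (((EtSix.constModAdj Λ X).unit.app (ModuleCat.of Λ Λ)).hom (1 : Λ))
  congr 1
  exact one_zsmul _

lemma hom_ext_ulift {M : AddCommGrpCat.{u + 1}}
    (f g : AddCommGrpCat.of (ULift.{u + 1} ℤ) ⟶ M) (h : f.hom ⟨1⟩ = g.hom ⟨1⟩) : f = g :=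
  (AddCommGrpCat.uliftZMultiplesAddEquiv M).injective h

theorem Φ_bijective (F : EtModW.Mod Λ X) :
    Function.Bijective (fun φ : EtSix.constΛ Λ X ⟶ F =>
      EtSix.intToConstΛ Λ X ≫ (EtModD.forgetToAb Λ X).map φ) := by
  constructor
  · intro φ₁ φ₂ h
    have h2 : ((EtSix.constModAdj Λ X).homEquiv _ _ φ₁).hom (1 : Λ) =
        ((EtSix.constModAdj Λ X).homEquiv _ _ φ₂).hom (1 : Λ) := by
      have k1 := key Λ X F φ₁
      have k2 := key Λ X F φ₂
      have h' : EtSix.intToConstΛ Λ X ≫ (EtModD.forgetToAb Λ X).map φ₁ =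
          EtSix.intToConstΛ Λ X ≫ (EtModD.forgetToAb Λ X).map φ₂ := h
      rw [h'] at k1
      exact k1.symm.trans k2
    have h3 : (EtSix.constModAdj Λ X).homEquiv _ _ φ₁ =
        (EtSix.constModAdj Λ X).homEquiv _ _ φ₂ :=
      ModuleCat.hom_ext (LinearMap.ext_ring h2)
    exact ((EtSix.constModAdj Λ X).homEquiv _ _).injective h3
  · intro ψ
    let s : F.obj.obj (op (EtCoh.top X)) :=
      (((EtCore.constAdj X).homEquiv _ _ ψ).hom ⟨1⟩ :
        ((EtModD.forgetToAb Λ X).obj F).obj.obj (op (EtCoh.top X)))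
    let φ : EtSix.constΛ Λ X ⟶ F :=
      ((EtSix.constModAdj Λ X).homEquiv _ _).symm
        (ModuleCat.ofHom (LinearMap.toSpanSingleton Λ _ s))
    refine ⟨φ, ?_⟩
    apply ((EtCore.constAdj X).homEquiv _ _).injective
    apply hom_ext_ulift
    refine (key Λ X F φ).trans ?_
    show ((EtSix.constModAdj Λ X).homEquiv _ _
      (((EtSix.constModAdj Λ X).homEquiv _ _).symm
        (ModuleCat.ofHom (LinearMap.toSpanSingleton Λ _ s)))).hom (1 : Λ) = s
    rw [Equiv.apply_symm_apply]
    exact LinearMap.toSpanSingleton_apply_one Λ _ s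

variable [PreservesFiniteLimits (EtModD.forgetToAb Λ X)]
  [PreservesFiniteColimits (EtModD.forgetToAb Λ X)] [(EtModD.forgetToAb Λ X).Additive]

theorem heff (F : EtModW.Mod Λ X) :
    ∃ (Jm : EtModW.Mod Λ X) (i : F ⟶ Jm), Mono i ∧ Injective Jm ∧
      ∀ (n : ℕ) (x : Ext.{u + 1}
        ((constantSheaf X.smallEtaleTopology AddCommGrpCat.{u + 1}).obj
          (AddCommGrpCat.of (ULift.{u + 1} ℤ)))
        ((EtModD.forgetToAb Λ X).obj Jm) (n + 1)), x = 0 := by
  let adj := adjS X.smallEtaleTopology Λ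
  let I := Injective.under ((EtModD.forgetToAb Λ X).obj F)
  let j : (EtModD.forgetToAb Λ X).obj F ⟶ I := Injective.ι _
  refine ⟨(RS X.smallEtaleTopology Λ).obj I, adj.homEquiv F I j, ?_, ?_, ?_⟩
  · refine ⟨fun {Z} g₁ g₂ h => ?_⟩
    have h1 := congrArg (adj.homEquiv _ _).symm h
    rw [Adjunction.homEquiv_naturality_left_symm, Adjunction.homEquiv_naturality_left_symm,
      Equiv.symm_apply_apply] at h1
    exact (EtModD.forgetToAb Λ X).map_injective ((cancel_mono j).1 h1)
  · exact Injective.injective_of_adjoint adj I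
  · intro n x
    exact ext_eq_zero_of_iso (isoURI X.smallEtaleTopology Λ I)
      (acyclic_E.{u + 1, u} X.smallEtaleTopology (EtCore.topIsTerminal X) I n
        (AddCommGrpCat.of Λ)) x

theorem main (F : EtModW.Mod Λ X) (n : ℕ) : Function.Bijective (EtSix.HModToH Λ F n) :=
  θ_bijective (EtModD.forgetToAb Λ X) (EtSix.intToConstΛ Λ X)
    (fun F => θ_zero_bijective _ _ F (Φ_bijective Λ X F)) (heff Λ X) n F

end Groth.Agent.Helper6.HModE
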