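import Mathlib
import Groth.Prelude.Def_HRes
import Groth.Agent.Helper9.ExtNat
import Groth.Agent.Helper9.ExtRetr

set_option autoImplicit false
set_option linter.style.haveILetI false
set_option linter.unusedSectionVars false
set_option linter.unusedVariables false

/-!
# Pseudofunctoriality of the restriction maps on big-site cohomology
-/

namespace Groth.Agent.Helper6.HResCoh

open CategoryTheory CategoryTheory.Limits AlgebraicGeometry Opposite Abelian

universe u

variable (K : Precoverage Scheme.{u})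

/-- the constant presheaf -/
abbrev cP (S : Scheme.{u}) (M : AddCommGrpCat.{u + 1}) : (Over S)ᵒᵖ ⥤ AddCommGrpCat.{u + 1} :=
  (Functor.const _).obj M

/-- the constant sheaf -/
noncomputable abbrev cS (S : Scheme.{u}) (M : AddCommGrpCat.{u + 1}) : BigSite.Ab K S :=
  (constantSheaf (QuotSh.J K S) AddCommGrpCat.{u + 1}).obj M

/-- the sheafification map of the constant presheaf -/
noncomputable abbrev tS (S : Scheme.{u}) (M : AddCommGrpCat.{u + 1}) : cP S M ⟶ (cS K S M).obj :=
  toSheafify (QuotSh.J K S) (cP S M)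

lemma tS_naturality {S : Scheme.{u}} (M : AddCommGrpCat.{u + 1}) {U V : Over S} (a : U ⟶ V) :
    (tS K S M).app (op V) ≫ (cS K S M).obj.map a.op = (tS K S M).app (op U) :=
  ((tS K S M).naturality a.op).symm.trans (Category.id_comp _)

lemma pullConst_inv_hom {S T : Scheme.{u}} (f : T ⟶ S) (M : AddCommGrpCat.{u + 1}) :
    tS K T M ≫ (HRes.pullConst K f M).inv.hom = (Over.map f).op.whiskerLeft (tS K S M) :=
  Functor.toSheafify_pullbackSheafificationCompatibility (Over.map f) AddCommGrpCat.{u + 1}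
    (QuotSh.J K T) (QuotSh.J K S) (cP S M)

lemma pullConst_inv_hom_app {S T : Scheme.{u}} (f : T ⟶ S) (M : AddCommGrpCat.{u + 1})
    (U : (Over T)ᵒᵖ) :
    (tS K T M).app U ≫ (HRes.pullConst K f M).inv.hom.app U =
      (tS K S M).app (op ((Over.map f).obj (unop U))) :=
  NatTrans.congr_app (pullConst_inv_hom K f M) U

theorem pullConst_id (S : Scheme.{u}) (M : AddCommGrpCat.{u + 1}) :
    (HRes.pullConst K (𝟙 S) M).inv ≫
      ((K.toGrothendieck).overMapPullbackId AddCommGrpCat.{u + 1} S).hom.app (cS K S M) =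
        𝟙 (cS K S M) := by
  apply Sheaf.hom_ext
  refine sheafify_hom_ext (QuotSh.J K S) _ _ (cS K S M).property ?_
  refine NatTrans.ext (funext fun U => ?_)
  show (tS K S M).app U ≫ ((HRes.pullConst K (𝟙 S) M).inv.hom.app U ≫
    (((K.toGrothendieck).overMapPullbackId AddCommGrpCat.{u + 1} S).hom.app (cS K S M)).hom.app U) =
    (tS K S M).app U ≫ 𝟙 _
  have h2 := GrothendieckTopology.overMapPullbackId_hom_app_hom_app (K.toGrothendieck)
    AddCommGrpCat.{u + 1} S (cS K S M) U
  refine (Category.assoc _ _ _).symm.trans ((congrArg₂ (fun a b => a ≫ b)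
    (pullConst_inv_hom_app K (𝟙 S) M U) h2).trans ?_)
  exact (tS_naturality K M ((Over.mapId S).inv.app (unop U))).trans (Category.comp_id _).symm

theorem pullConst_comp {S T T' : Scheme.{u}} (f : T ⟶ S) (g : T' ⟶ T) (M : AddCommGrpCat.{u + 1}) :
    (HRes.pullConst K g M).inv ≫
      (BigSite.pullBig K g AddCommGrpCat.{u + 1}).map (HRes.pullConst K f M).inv ≫
      ((K.toGrothendieck).overMapPullbackComp AddCommGrpCat.{u + 1} g f).hom.app (cS K S M) =
        (HRes.pullConst K (g ≫ f) M).inv := by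
  apply Sheaf.hom_ext
  refine sheafify_hom_ext (QuotSh.J K T') _ _
    ((BigSite.pullBig K (g ≫ f) AddCommGrpCat.{u + 1}).obj (cS K S M)).property ?_
  refine NatTrans.ext (funext fun U => ?_)
  show (tS K T' M).app U ≫ ((HRes.pullConst K g M).inv.hom.app U ≫
    ((HRes.pullConst K f M).inv.hom.app (op ((Over.map g).obj (unop U))) ≫
    (((K.toGrothendieck).overMapPullbackComp AddCommGrpCat.{u + 1} g f).hom.app
      (cS K S M)).hom.app U)) =
    (tS K T' M).app U ≫ (HRes.pullConst K (g ≫ f) M).inv.hom.app U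
  have h2 := GrothendieckTopology.overMapPullbackComp_hom_app_hom_app (K.toGrothendieck)
    AddCommGrpCat.{u + 1} g f (cS K S M) U
  refine Eq.trans ?_ (pullConst_inv_hom_app K (g ≫ f) M U).symm
  refine (Category.assoc _ _ _).symm.trans ?_
  refine (congrArg (fun a => a ≫ _) (pullConst_inv_hom_app K g M U)).trans ?_
  refine (Category.assoc _ _ _).symm.trans ?_
  refine (congrArg₂ (fun a b => a ≫ b)
    (pullConst_inv_hom_app K f M (op ((Over.map g).obj (unop U)))) h2).trans ?_
  exact tS_naturality K M ((Over.mapComp g f).hom.app (unop U))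

open Groth.Agent.Helper9 in
theorem pull_id (S : Scheme.{u}) (F : BigSite.Ab K S) (n : ℕ) (x : BigSite.H K S F n) :
    Sheaf.H.map (((K.toGrothendieck).overMapPullbackId AddCommGrpCat.{u + 1} S).hom.app F) n
      (HRes.pull K (𝟙 S) F n x) = x := by
  have hnat := ExtNat.mapExactFunctor_natTrans
    (BigSite.pullBig K (𝟙 S) AddCommGrpCat.{u + 1}) (𝟭 (BigSite.Ab K S))
    ((K.toGrothendieck).overMapPullbackId AddCommGrpCat.{u + 1} S).hom n x
  rw [ExtRetr.mapExactFunctor_id] at hnat
  rw [HRes.pull_apply, Sheaf.H.map_apply, Ext.comp_assoc_of_third_deg_zero, hnat,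
    Ext.mk₀_comp_mk₀_assoc, pullConst_id, Ext.mk₀_id_comp]

open Groth.Agent.Helper9 in
theorem pull_comp {S T T' : Scheme.{u}} (f : T ⟶ S) (g : T' ⟶ T) (F : BigSite.Ab K S) (n : ℕ)
    (x : BigSite.H K S F n) :
    HRes.pull K (g ≫ f) F n x =
      Sheaf.H.map (((K.toGrothendieck).overMapPullbackComp AddCommGrpCat.{u + 1} g f).hom.app F) n
        (HRes.pull K g ((BigSite.pullBig K f AddCommGrpCat.{u + 1}).obj F) n
          (HRes.pull K f F n x)) := by
  haveI : PreservesFiniteLimits (BigSite.pullBig K f AddCommGrpCat.{u + 1} ⋙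
      BigSite.pullBig K g AddCommGrpCat.{u + 1}) := comp_preservesFiniteLimits _ _
  haveI : PreservesFiniteColimits (BigSite.pullBig K f AddCommGrpCat.{u + 1} ⋙
      BigSite.pullBig K g AddCommGrpCat.{u + 1}) := comp_preservesFiniteColimits _ _
  have hnat := ExtNat.mapExactFunctor_natTrans
    (BigSite.pullBig K f AddCommGrpCat.{u + 1} ⋙ BigSite.pullBig K g AddCommGrpCat.{u + 1})
    (BigSite.pullBig K (g ≫ f) AddCommGrpCat.{u + 1})
    ((K.toGrothendieck).overMapPullbackComp AddCommGrpCat.{u + 1} g f).hom n x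
  have hcomp := ExtNat.mapExactFunctor_comp_functor
    (BigSite.pullBig K f AddCommGrpCat.{u + 1}) (BigSite.pullBig K g AddCommGrpCat.{u + 1}) n x
  rw [HRes.pull_apply, HRes.pull_apply, HRes.pull_apply, Sheaf.H.map_apply,
    Ext.mapExactFunctor_comp, Ext.mapExactFunctor_mk₀, hcomp,
    Ext.comp_assoc_of_third_deg_zero, Ext.comp_assoc_of_third_deg_zero, hnat,
    Ext.mk₀_comp_mk₀_assoc, Ext.mk₀_comp_mk₀_assoc, Category.assoc, pullConst_comp]

end Groth.Agent.Helper6.HResCoh
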