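import Mathlib
import Groth.Agent.Helper6.HSBound

/-! Regular local rings are characterised by the Hilbert function of the maximal ideal. -/

set_option autoImplicit false
universe u

namespace Groth.Agent.Helper6.HSBound

open IsLocalRing

variable (A : Type u) [CommRing A] [IsLocalRing A] [IsNoetherianRing A]

/-- existence of a system of parameters -/
theorem exists_sop : ∃ (d : ℕ) (f : Fin d → A), (d : WithBot ℕ∞) ≤ ringKrullDim A ∧
    Ideal.span (Set.range f) ≤ maximalIdeal A ∧
    Module.length A (A ⧸ Ideal.span (Set.range f)) ≠ ⊤ := by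
  classical
  have hmtop : (maximalIdeal A).height ≠ ⊤ := Ideal.height_ne_top Ideal.IsPrime.ne_top'
  set d0 := (maximalIdeal A).height.toNat with hd0
  have hd0' : ((d0 : ℕ) : ℕ∞) = (maximalIdeal A).height := ENat.natCast_toNat hmtop
  obtain ⟨J, hJm, hJr, hJh⟩ := _root_.exists_spanRank_le_and_le_height_of_le_height
    (maximalIdeal A) d0 (le_of_eq hd0')
  have hJfg : J.FG := IsNoetherian.noetherian J
  rw [Submodule.FG.spanRank_le_iff hJfg] at hJr
  obtain ⟨s, hs, hsJ⟩ := Submodule.FG.exists_span_finset_card_eq_spanFinrank hJfg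
  refine ⟨s.card, fun i => (s.equivFin.symm i : A), ?_, ?_, ?_⟩
  · rw [← maximalIdeal_height_eq_ringKrullDim, ← hd0']
    have : s.card ≤ d0 := hs ▸ hJr
    exact_mod_cast this
  all_goals
    have hrange : Set.range (fun i => (s.equivFin.symm i : A)) = (s : Set A) := by
      ext x
      constructor
      · rintro ⟨i, rfl⟩
        exact (s.equivFin.symm i).2
      · intro hx
        exact ⟨s.equivFin ⟨x, hx⟩, by simp⟩
    rw [hrange]
    change Ideal.span (s : Set A) = J at hsJ
    rw [hsJ]
  · exact hJm
  · apply Groth.Agent.Helper6.Dim1.length_ne_top_of_support_maximal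
    intro p hp
    rw [Module.support_eq_zeroLocus, Ideal.annihilator_quotient] at hp
    have hJp : J ≤ p.asIdeal := hp
    have hpm : p.asIdeal ≤ maximalIdeal A := le_maximalIdeal p.2.ne_top
    have h1 : (maximalIdeal A).height ≤ p.asIdeal.height := by
      rw [← hd0']
      exact hJh.trans (Ideal.height_mono hJp)
    have := Ideal.eq_of_le_of_height_le (I := p.asIdeal) (h := hpm) (h_height := h1)
    rw [this]
    infer_instance

/-- arithmetic: the binomial growth contradiction -/
theorem arith (e d' L : ℕ) (hlt : d' < e)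
    (h : ∀ n : ℕ, 1 ≤ n → (n - 1 + e).choose (n - 1) ≤ (n + d' - 1).choose d' * L) : False := by
  set n := (d' + 1) * L + 1 with hn
  have hn1 : 1 ≤ n := by omega
  have h1 := h n hn1
  -- `C(n-1+e, n-1) ≥ C(n+d', n-1) = C(n+d', d'+1)`
  have h2 : (n + d').choose (n - 1) ≤ (n - 1 + e).choose (n - 1) :=
    Nat.choose_le_choose _ (by omega)
  have h3 : (n + d').choose (n - 1) = (n + d').choose (d' + 1) := by
    rw [← Nat.choose_symm (by omega : n - 1 ≤ n + d')]
    congr 1
    omega
  have h4 : (n + d') * (n + d' - 1).choose d' = (n + d').choose (d' + 1) * (d' + 1) := by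
    have := Nat.add_one_mul_choose_eq (n + d' - 1) d'
    have e1 : n + d' - 1 + 1 = n + d' := by omega
    rw [e1] at this
    exact this
  have hpos : 0 < (n + d' - 1).choose d' := Nat.choose_pos (by omega)
  have h5 : (n + d') * (n + d' - 1).choose d' ≤ ((d' + 1) * L) * (n + d' - 1).choose d' := by
    rw [h4, ← h3]
    calc (n + d').choose (n - 1) * (d' + 1)
        ≤ ((n + d' - 1).choose d' * L) * (d' + 1) := Nat.mul_le_mul_right _ (h2.trans h1)
      _ = ((d' + 1) * L) * (n + d' - 1).choose d' := by ring
  have h6 := Nat.le_of_mul_le_mul_right h5 hpos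
  omega

/-- the key inequality: the embedding dimension is bounded by the dimension as soon as the Hilbert
function of `𝔪` is that of a polynomial ring in `e` variables. -/
theorem finrank_le_dim_of_length (e : ℕ)
    (h : ∀ s : ℕ, Module.length A (A ⧸ maximalIdeal A ^ (s + 1)) = ((s + e).choose s : ℕ∞)) :
    (e : WithBot ℕ∞) ≤ ringKrullDim A := by
  obtain ⟨d', f, hd', hfm, hL⟩ := exists_sop A
  by_contra hcon
  have hlt : d' < e := by
    by_contra hge
    push Not at hge
    apply hcon
    refine le_trans ?_ hd'
    exact_mod_cast hge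
  obtain ⟨L, hLe⟩ := ENat.ne_top_iff_exists.mp hL
  refine arith e d' L hlt fun n hn => ?_
  obtain ⟨s, rfl⟩ : ∃ s, n = s + 1 := ⟨n - 1, by omega⟩
  have h1 := h s
  have h2 := length_le_choose f (s + 1) (by omega)
  have h3 : Module.length A (A ⧸ maximalIdeal A ^ (s + 1)) ≤
      Module.length A (A ⧸ Ideal.span (Set.range f) ^ (s + 1)) :=
    Module.length_le_of_surjective _
      (Submodule.factor_surjective (Ideal.pow_right_mono hfm (s + 1)))
  rw [h1] at h3
  rw [← hLe] at h2
  have h4 := h3.trans h2
  have e1 : s + 1 - 1 = s := by omega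
  rw [e1]
  exact_mod_cast h4

theorem main_S5778 :
    IsRegularLocalRing A ↔
      ∀ s : ℕ, Module.length A (A ⧸ IsLocalRing.maximalIdeal A ^ (s + 1)) =
        ((s + Module.finrank (IsLocalRing.ResidueField A)
          (IsLocalRing.CotangentSpace A)).choose s : ℕ∞) := by
  constructor
  · intro hreg s
    have hfin := (IsRegularLocalRing.iff_finrank_cotangentSpace A).mp hreg
    set e := Module.finrank (IsLocalRing.ResidueField A) (IsLocalRing.CotangentSpace A) with he
    rw [Groth.Agent.Helper4.RegLength.main A e hfin.symm (s + 1) (by omega)]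
    have e1 : s + 1 + e - 1 = s + e := by omega
    rw [e1, Nat.choose_symm_add]
  · intro h
    apply IsRegularLocalRing.of_spanFinrank_maximalIdeal_le
    rw [spanFinrank_maximalIdeal_eq_finrank_cotangentSpace]
    exact finrank_le_dim_of_length A _ h

end Groth.Agent.Helper6.HSBound
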