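import Mathlib
import Groth.Prelude.Def_EtDual
import Groth.Prelude.Def_EtCore
import Groth.Agent.Helper1.FunLES
import Groth.Agent.Helper1.DerLES
import Groth.Agent.Helper6.DepthMono
import Groth.Agent.Helper6.EtLocA
import Groth.Agent.Helper6.EtLocB

set_option autoImplicit false
set_option linter.style.haveILetI false
set_option linter.unusedSectionVars false
set_option linter.unusedVariables false

/-!
# The long exact sequence of local cohomology groups for `Z ⊆ Y ⊆ X`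
-/

namespace Groth.Agent.Helper6.HYTriple

open CategoryTheory CategoryTheory.Limits AlgebraicGeometry Opposite
open Groth.Agent.Helper9.EtLocCohSeq Groth.Agent.Helper6.DepthMono

universe u

/-- global sections -/
noncomputable abbrev Ψ (X : Scheme.{u}) : EtCoh.Ab X ⥤ AddCommGrpCat.{u + 1} :=
  sheafToPresheaf X.smallEtaleTopology AddCommGrpCat.{u + 1} ⋙
    (evaluation X.Etaleᵒᵖ AddCommGrpCat.{u + 1}).obj (op (EtCoh.top X))

variable {X X' U : Scheme.{u}} (j' : U ⟶ X') (k' : X' ⟶ X) [IsOpenImmersion k']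
  [IsOpenImmersion j']

lemma isPullback_sq : IsPullback (𝟙 U) j' (j' ≫ k') k' := by
  have h1 : IsPullback (𝟙 U) j' j' (𝟙 X') := IsPullback.of_horiz_isIso ⟨by simp⟩
  have h2 : IsPullback (𝟙 X') (𝟙 X') k' k' := IsKernelPair.id_of_mono k'
  have h3 := h1.paste_vert h2
  rwa [Category.comp_id] at h3

/-- `Γ_{Y} ∘ k'^* ≅ k'^* ∘ Γ_{Y'}` -/
noncomputable def θ : EtDual.secSupp (j' ≫ k') ⋙ EtCoh.pull k' ≅
    EtCoh.pull k' ⋙ EtDual.secSupp j' :=
  Groth.Agent.Helper6.EtLocB.secSuppIso (j' ≫ k') k' j' (𝟙 U) (isPullback_sq j' k')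

/-- the inclusion `Γ_Z ⟶ Γ_Y` of sheaves -/
noncomputable def a₀ : EtDual.secSupp k' ⟶ EtDual.secSupp (j' ≫ k') :=
  (secSuppCompIso j' k').inv ≫ Functor.whiskerLeft (EtDual.secSupp (j' ≫ k')) (α k') ≫
    (Functor.rightUnitor _).hom

lemma a₀_app (F : EtCoh.Ab X) : (a₀ j' k').app F =
    (secSuppCompIso j' k').inv.app F ≫ (α k').app ((EtDual.secSupp (j' ≫ k')).obj F) := by
  simp only [a₀, NatTrans.comp_app, Functor.whiskerLeft_app, Functor.rightUnitor_hom_app]
  exact congrArg _ (Category.comp_id _)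

/-- restriction of global sections to `X'` -/
noncomputable def ρ : Ψ X ⟶ EtCoh.pull k' ⋙ Ψ X' :=
  Functor.whiskerRight (β k') (Ψ X) ≫ Functor.whiskerLeft (EtCoh.pull k') (EtCore.pushGsecIso k').hom

lemma ρ_app (G : EtCoh.Ab X) : (ρ k').app G =
    (Ψ X).map ((β k').app G) ≫ (EtCore.pushGsecIso k').hom.app ((EtCoh.pull k').obj G) := rfl

/-- the first map -/
noncomputable def αT : EtDual.gammaSupp k' ⟶ EtDual.gammaSupp (j' ≫ k') :=
  Functor.whiskerRight (a₀ j' k') (Ψ X)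

/-- the second map -/
noncomputable def βT : EtDual.gammaSupp (j' ≫ k') ⟶ EtCoh.pull k' ⋙ EtDual.gammaSupp j' :=
  Functor.whiskerLeft (EtDual.secSupp (j' ≫ k')) (ρ k') ≫
    Functor.whiskerRight (θ j' k').hom (Ψ X')

lemma αT_app (F : EtCoh.Ab X) : (αT j' k').app F = (Ψ X).map ((a₀ j' k').app F) := rfl

lemma βT_app (F : EtCoh.Ab X) : (βT j' k').app F =
    ((Ψ X).map ((β k').app ((EtDual.secSupp (j' ≫ k')).obj F)) ≫
      (EtCore.pushGsecIso k').hom.app ((EtCoh.pull k').obj ((EtDual.secSupp (j' ≫ k')).obj F))) ≫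
      (Ψ X').map ((θ j' k').hom.app F) := rfl

lemma comp_zero_aux {C : Type*} [Category C] [HasZeroMorphisms C] {A B D E G : C} (a : A ⟶ B)
    (b : B ⟶ D) (p : D ⟶ E) (q : E ⟶ G) (h : a ≫ b = 0) : a ≫ (b ≫ p) ≫ q = 0 := by
  rw [← Category.assoc, ← Category.assoc, h, zero_comp, zero_comp]

lemma wT : αT j' k' ≫ βT j' k' = 0 := by
  refine NatTrans.ext (funext fun F => ?_)
  have h0 : ((secSuppCompIso j' k').inv.app F ≫ (α k').app ((EtDual.secSupp (j' ≫ k')).obj F)) ≫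
      (β k').app ((EtDual.secSupp (j' ≫ k')).obj F) = 0 := by
    rw [Category.assoc, w_app, comp_zero]
  have e : (Ψ X).map ((a₀ j' k').app F) ≫
      (Ψ X).map ((β k').app ((EtDual.secSupp (j' ≫ k')).obj F)) = 0 := by
    rw [a₀_app, ← Functor.map_comp, h0, Functor.map_zero]
  exact comp_zero_aux _ _ _ _ e

instance additive_F₃ : (EtCoh.pull k' ⋙ EtDual.gammaSupp j').Additive := inferInstance

lemma shortExact_inj (I : EtCoh.Ab X) [Injective I] :
    (Groth.Agent.Helper1.FunLES.sc (αT j' k') (βT j' k') (wT j' k') I).ShortExact := by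
  haveI hG : Injective ((EtDual.secSupp (j' ≫ k')).obj I) := injective_secSupp (j' ≫ k') I
  haveI hZ : Injective ((EtDual.secSupp k').obj ((EtDual.secSupp (j' ≫ k')).obj I)) :=
    injective_secSupp k' _
  have hS := Groth.Agent.Helper9.EtLocCohSeq.shortExact_inj k' ((EtDual.secSupp (j' ≫ k')).obj I)
  haveI : Injective (Groth.Agent.Helper1.FunLES.sc (α k') (β k')
      (Groth.Agent.Helper9.EtLocCohSeq.w k') ((EtDual.secSupp (j' ≫ k')).obj I)).X₁ := hZ
  have hS' := Groth.Agent.Helper1.DerLES.shortExact_map (Ψ X) _ hS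
    (Functor.isZero_rightDerived_obj_injective_succ _ _ _)
  refine ShortComplex.shortExact_of_iso ?_ hS'
  refine ShortComplex.isoMk ((Ψ X).mapIso ((secSuppCompIso j' k').app I)) (Iso.refl _)
    ((EtCore.pushGsecIso k').app ((EtCoh.pull k').obj ((EtDual.secSupp (j' ≫ k')).obj I)) ≪≫
      (Ψ X').mapIso ((θ j' k').app I)) ?_ ?_
  · change (Ψ X).map ((secSuppCompIso j' k').hom.app I) ≫ (Ψ X).map ((a₀ j' k').app I) =
      (Ψ X).map ((α k').app ((EtDual.secSupp (j' ≫ k')).obj I)) ≫ 𝟙 _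
    rw [Category.comp_id, a₀_app, ← Functor.map_comp, Iso.hom_inv_id_app_assoc]
  · change 𝟙 _ ≫ (((Ψ X).map ((β k').app ((EtDual.secSupp (j' ≫ k')).obj I)) ≫
        (EtCore.pushGsecIso k').hom.app ((EtCoh.pull k').obj ((EtDual.secSupp (j' ≫ k')).obj I))) ≫
        (Ψ X').map ((θ j' k').hom.app I)) =
      (Ψ X).map ((β k').app ((EtDual.secSupp (j' ≫ k')).obj I)) ≫
        ((EtCore.pushGsecIso k').hom.app ((EtCoh.pull k').obj ((EtDual.secSupp (j' ≫ k')).obj I)) ≫
          (Ψ X').map ((θ j' k').hom.app I))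
    rw [Category.id_comp, Category.assoc]

/-- the comparison of local cohomology groups when those with supports in `Z` vanish -/
theorem nonempty_HY_iso (T : EtCoh.Ab X) (n : ℕ) (h0 : IsZero ((EtDual.HY k' n).obj T))
    (h1 : IsZero ((EtDual.HY k' (n + 1)).obj T)) :
    Nonempty ((EtDual.HY (j' ≫ k') n).obj T ≅ (EtDual.HY j' n).obj ((EtCoh.pull k').obj T)) := by
  obtain ⟨w₂, e₂⟩ := Groth.Agent.Helper1.FunLES.les₂ (αT j' k') (βT j' k') (wT j' k')
    (fun I _ => shortExact_inj j' k' I) n T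
  obtain ⟨w₃, e₃⟩ := Groth.Agent.Helper1.FunLES.les₃ (αT j' k') (βT j' k') (wT j' k')
    (fun I _ => shortExact_inj j' k' I) n T
  haveI hm : Mono ((NatTrans.rightDerived (βT j' k') n).app T) := e₂.mono_g (h0.eq_of_src _ _)
  haveI he : Epi ((NatTrans.rightDerived (βT j' k') n).app T) := e₃.epi_f (h1.eq_of_tgt _ _)
  have hiso : IsIso ((NatTrans.rightDerived (βT j' k') n).app T) :=
    @isIso_of_mono_of_epi _ _ _ _ _ _ hm he
  exact ⟨@asIso _ _ _ _ _ hiso ≪≫
    Groth.Agent.Helper6.EtLocA.derivedIso (EtCoh.pull k') (𝟭 AddCommGrpCat.{u + 1})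
      (EtCoh.pull k' ⋙ EtDual.gammaSupp j') (EtDual.gammaSupp j') (Functor.rightUnitor _) T n⟩

end Groth.Agent.Helper6.HYTriple
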