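import Mathlib

set_option autoImplicit false

namespace Groth.Agent.Helper6.HasseCoeff

open MvPolynomial

/-- the constant exponent vector -/
noncomputable def cst (n N : ℕ) : Fin (n + 1) →₀ ℕ :=
  Finsupp.equivFunOnFinite.symm fun _ : Fin (n + 1) => N

@[simp] theorem cst_apply (n N : ℕ) (i : Fin (n + 1)) : cst n N i = N := rfl

theorem coeff_pow_char {R : Type*} [CommRing R] (p : ℕ) [hp : Fact p.Prime] [CharP R p] {n : ℕ}
    (h : MvPolynomial (Fin (n + 1)) R) (y : Fin (n + 1) →₀ ℕ) (hy : ∃ i, ¬ p ∣ y i) :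
    coeff y (h ^ p) = 0 := by
  haveI : ExpChar R p := ExpChar.prime hp.out
  obtain ⟨i, hi⟩ := hy
  rw [← map_frobenius_expand p, coeff_map, coeff_expand_of_not_dvd h hi, map_zero]

theorem coeff_pow_char_smul {R : Type*} [CommRing R] (p : ℕ) [hp : Fact p.Prime] [CharP R p] {n : ℕ}
    (h : MvPolynomial (Fin (n + 1)) R) (y : Fin (n + 1) →₀ ℕ) :
    coeff (p • y) (h ^ p) = (coeff y h) ^ p := by
  haveI : ExpChar R p := ExpChar.prime hp.out
  rw [← map_frobenius_expand p, coeff_map, coeff_expand_smul p hp.out.ne_zero, frobenius_def]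

theorem step {R : Type*} [CommRing R] (p : ℕ) [hp : Fact p.Prime] [CharP R p] {n : ℕ}
    (g h : MvPolynomial (Fin (n + 1)) R) (hg : g.IsHomogeneous ((n + 1) * (p - 1))) (N : ℕ) :
    coeff (cst n (p * N + (p - 1))) (g * h ^ p) =
      coeff (cst n (p - 1)) g * (coeff (cst n N) h) ^ p := by
  classical
  have hp1 : 1 ≤ p := hp.out.one_le
  rw [coeff_mul, Finset.sum_eq_single (cst n (p - 1), p • cst n N)]
  · rw [coeff_pow_char_smul]
  · rintro ⟨x, y⟩ hxy hne
    rw [Finset.HasAntidiagonal.mem_antidiagonal] at hxy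
    simp only at hxy
    by_contra hcon
    have hx : coeff x g ≠ 0 := fun h0 => hcon (by rw [h0, zero_mul])
    have hyc : coeff y (h ^ p) ≠ 0 := fun h0 => hcon (by rw [h0, mul_zero])
    have hdvd : ∀ i, p ∣ y i := by
      by_contra hnd
      push Not at hnd
      exact hyc (coeff_pow_char p h y hnd)
    have hdeg : ∑ i, x i = (n + 1) * (p - 1) := by
      have := hg hx
      have h2 : (Finsupp.weight (1 : Fin (n + 1) → ℕ)) x = Finsupp.degree x := by
        rw [Finsupp.degree_eq_weight_one]; rfl
      rw [h2, Finsupp.degree_eq_sum] at this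
      exact this
    have hxy' : ∀ i, x i + y i = p * N + (p - 1) := by
      intro i
      have := DFunLike.congr_fun hxy i
      simpa using this
    have hge : ∀ i, p - 1 ≤ x i := by
      intro i
      obtain ⟨t, ht⟩ := hdvd i
      have h1 := hxy' i
      rw [ht] at h1
      -- x i = p * N + (p-1) - p * t, so x i ≡ p-1 mod p
      by_contra hlt
      push Not at hlt
      have h2 : p * t ≤ p * N + (p - 1) := by omega
      have h3 : t ≤ N := by
        by_contra h4
        push Not at h4
        have : p * (N + 1) ≤ p * t := Nat.mul_le_mul_left p h4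
        rw [Nat.mul_add, Nat.mul_one] at this
        omega
      have h5 : p * t ≤ p * N := Nat.mul_le_mul_left p h3
      omega
    have heq : ∀ i, x i = p - 1 := by
      have hsum : ∑ i : Fin (n + 1), (x i - (p - 1)) = 0 := by
        have h1 : ∑ i : Fin (n + 1), (x i - (p - 1)) + ∑ _i : Fin (n + 1), (p - 1) = ∑ i, x i := by
          rw [← Finset.sum_add_distrib]
          exact Finset.sum_congr rfl fun i _ => Nat.sub_add_cancel (hge i)
        rw [hdeg, Finset.sum_const, Finset.card_univ, Fintype.card_fin, smul_eq_mul] at h1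
        omega
      intro i
      have := (Finset.sum_eq_zero_iff.1 hsum) i (Finset.mem_univ i)
      have := hge i
      omega
    apply hne
    have hx' : x = cst n (p - 1) := by
      ext i
      rw [heq i, cst_apply]
    have hy' : y = p • cst n N := by
      ext i
      have := hxy' i
      rw [heq i] at this
      simp only [Finsupp.smul_apply, cst_apply, smul_eq_mul]
      omega
    rw [hx', hy']
  · intro hnot
    exfalso
    apply hnot
    rw [Finset.HasAntidiagonal.mem_antidiagonal]
    ext i
    simp only [Finsupp.add_apply, Finsupp.smul_apply, cst_apply, smul_eq_mul]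
    omega

theorem iter {R : Type*} [CommRing R] (p : ℕ) [hp : Fact p.Prime] [CharP R p] {n : ℕ}
    (g : MvPolynomial (Fin (n + 1)) R) (hg : g.IsHomogeneous ((n + 1) * (p - 1))) (a : ℕ) :
    ∃ s : ℕ, (p - 1) * s = p ^ a - 1 ∧ (a ≠ 0 → s ≠ 0) ∧
      coeff (cst n (p ^ a - 1)) (g ^ s) = (coeff (cst n (p - 1)) g) ^ s := by
  have hp1 : 1 ≤ p := hp.out.one_le
  induction a with
  | zero =>
    refine ⟨0, by simp, by simp, ?_⟩
    simp only [pow_zero, Nat.sub_self]
    rw [MvPolynomial.coeff_one, if_pos]
    ext i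
    simp
  | succ a ih =>
    obtain ⟨s, hs1, _, hs3⟩ := ih
    have hpa : 1 ≤ p ^ a := Nat.one_le_pow _ _ (by omega)
    have e1 : p ^ (a + 1) - 1 = p * (p ^ a - 1) + (p - 1) := by
      rw [pow_succ, Nat.mul_sub, Nat.mul_one, mul_comm]
      have : p * 1 ≤ p * p ^ a := Nat.mul_le_mul_left p hpa
      omega
    refine ⟨1 + p * s, ?_, by omega, ?_⟩
    · rw [e1, ← hs1]
      ring
    · rw [e1, pow_add, pow_one, mul_comm p s, pow_mul, step p g (g ^ s) hg, hs3, pow_add, pow_one,
        pow_mul]

end Groth.Agent.Helper6.HasseCoeff
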