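import Mathlib

set_option autoImplicit false
set_option linter.style.haveILetI false
set_option linter.unusedSectionVars false

open Polynomial
open scoped Classical

namespace Groth.Agent.Helper6.HasseDav

variable {F : Type} [Field F] [Fintype F] {R : Type} [CommRing R] [IsDomain R]

/-- The multiplicative weight on monic polynomials. -/
noncomputable def lam (χ : MulChar F R) (ψ : AddChar F R) (f : F[X]) : R :=
  ψ (-f.nextCoeff) * χ ((-1) ^ f.natDegree * f.coeff 0)

variable (χ : MulChar F R) (ψ : AddChar F R)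

theorem lam_one : lam χ ψ 1 = 1 := by
  simp [lam, nextCoeff]

theorem lam_mul {f g : F[X]} (hf : f.Monic) (hg : g.Monic) :
    lam χ ψ (f * g) = lam χ ψ f * lam χ ψ g := by
  unfold lam
  rw [hf.nextCoeff_mul hg, hf.natDegree_mul hg, mul_coeff_zero, neg_add, AddChar.map_add_eq_mul,
    pow_add, show (-1 : F) ^ f.natDegree * (-1) ^ g.natDegree * (f.coeff 0 * g.coeff 0) =
      ((-1) ^ f.natDegree * f.coeff 0) * ((-1) ^ g.natDegree * g.coeff 0) by ring, map_mul]
  ring

theorem lam_pow {f : F[X]} (hf : f.Monic) (m : ℕ) :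
    lam χ ψ (f ^ m) = lam χ ψ f ^ m := by
  induction m with
  | zero => simp [lam_one]
  | succ m ih => rw [pow_succ, lam_mul χ ψ (hf.pow m) hf, ih, pow_succ]

/-- The finite set of monic polynomials of degree `n`. -/
noncomputable def M (n : ℕ) : Finset F[X] :=
  (Finset.univ : Finset (Fin n → F)).map
    (((monicEquivDegreeLT n).trans (degreeLTEquiv F n).toEquiv).symm.toEmbedding.trans
      ⟨Subtype.val, Subtype.val_injective⟩)

theorem mem_M {n : ℕ} {f : F[X]} : f ∈ M n ↔ f.Monic ∧ f.natDegree = n := by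
  constructor
  · intro h
    obtain ⟨c, -, rfl⟩ := Finset.mem_map.1 h
    exact (((monicEquivDegreeLT n).trans (degreeLTEquiv F n).toEquiv).symm c).2
  · intro h
    refine Finset.mem_map.2 ⟨((monicEquivDegreeLT n).trans (degreeLTEquiv F n).toEquiv) ⟨f, h⟩,
      Finset.mem_univ _, ?_⟩
    simp

/-- The sum of the weights of monic polynomials of degree `n`. -/
noncomputable def h (n : ℕ) : R := ∑ f ∈ M n, lam χ ψ f

theorem h_zero : h χ ψ 0 = 1 := by
  have hM : (M 0 : Finset F[X]) = {1} := by
    ext f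
    rw [mem_M, Finset.mem_singleton]
    constructor
    · rintro ⟨hm, hd⟩
      exact eq_one_of_monic_natDegree_zero hm hd
    · rintro rfl
      exact ⟨monic_one, natDegree_one⟩
  unfold h
  rw [hM, Finset.sum_singleton, lam_one]

theorem h_one : h χ ψ 1 = ∑ a : F, χ a * ψ a := by
  have hM : (M 1 : Finset F[X]) = Finset.univ.image (fun a : F => X - C a) := by
    ext f
    rw [mem_M, Finset.mem_image]
    constructor
    · rintro ⟨hm, hd⟩
      refine ⟨-f.coeff 0, Finset.mem_univ _, ?_⟩
      have := hm.eq_X_add_C hd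
      rw [map_neg, sub_neg_eq_add]
      exact this.symm
    · rintro ⟨a, -, rfl⟩
      exact ⟨monic_X_sub_C a, natDegree_X_sub_C a⟩
  unfold h
  rw [hM, Finset.sum_image]
  · apply Finset.sum_congr rfl
    intro a _
    simp [lam, nextCoeff_X_sub_C, mul_comm]
  · intro a _ b _ hab
    have := congrArg (fun p : F[X] => p.coeff 0) hab
    simpa using this

theorem shift_mem {n : ℕ} (hn : 1 ≤ n) (c : F) {f : F[X]} (hf : f ∈ M n) :
    f + C c * X ^ (n - 1) ∈ M n := by
  rw [mem_M] at hf ⊢
  obtain ⟨hm, hd⟩ := hf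
  have hlt : (C c * X ^ (n - 1)).degree < f.degree := by
    rw [degree_eq_natDegree hm.ne_zero, hd]
    refine lt_of_le_of_lt (degree_C_mul_X_pow_le _ _) ?_
    exact_mod_cast (by omega : n - 1 < n)
  refine ⟨hm.add_of_left hlt, ?_⟩
  rw [natDegree_add_eq_left_of_degree_lt hlt, hd]

theorem lam_shift {n : ℕ} (hn : 2 ≤ n) (c : F) {f : F[X]} (hf : f ∈ M n) :
    lam χ ψ (f + C c * X ^ (n - 1)) = ψ (-c) * lam χ ψ f := by
  have hg := shift_mem (by omega : 1 ≤ n) c hf
  rw [mem_M] at hf hg
  obtain ⟨hm, hd⟩ := hf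
  obtain ⟨hm', hd'⟩ := hg
  unfold lam
  rw [nextCoeff_of_natDegree_pos (by omega), nextCoeff_of_natDegree_pos (by omega), hd, hd',
    coeff_add, coeff_add, coeff_C_mul_X_pow, coeff_C_mul_X_pow, if_pos rfl,
    if_neg (by omega : ¬ (0 = n - 1)), add_zero, neg_add, AddChar.map_add_eq_mul]
  ring

theorem h_eq_zero {ψ : AddChar F R} (hψ : ψ ≠ 1) {n : ℕ} (hn : 2 ≤ n) : h χ ψ n = 0 := by
  obtain ⟨t, ht⟩ : ∃ t, ψ t ≠ 1 := by
    by_contra hcon
    push Not at hcon
    apply hψ
    ext x
    simp [hcon x]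
  have key : h χ ψ n = ψ t * h χ ψ n := by
    unfold h
    rw [Finset.mul_sum]
    refine Finset.sum_bij' (fun f _ => f + C t * X ^ (n - 1))
      (fun f _ => f + C (-t) * X ^ (n - 1)) ?_ ?_ ?_ ?_ ?_
    · intro f hf
      exact shift_mem (by omega) t hf
    · intro f hf
      exact shift_mem (by omega) (-t) hf
    · intro f hf
      simp
    · intro f hf
      simp
    · intro f hf
      rw [lam_shift χ ψ hn t hf, ← mul_assoc, ← AddChar.map_add_eq_mul, add_neg_cancel,
        AddChar.map_zero_eq_one, one_mul]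
  have h2 : (1 - ψ t) * h χ ψ n = 0 := by
    rw [sub_mul, one_mul, ← key, sub_self]
  rcases mul_eq_zero.1 h2 with h3 | h3
  · exact absurd (sub_eq_zero.1 h3).symm ht
  · exact h3
/-- Irreducible monic polynomials of degree at most `N`. -/
noncomputable def Irr (N : ℕ) : Finset F[X] :=
  ((Finset.range (N + 1)).biUnion M).filter Irreducible

theorem mem_Irr {N : ℕ} {π : F[X]} :
    π ∈ Irr N ↔ π.Monic ∧ Irreducible π ∧ π.natDegree ≤ N := by
  unfold Irr
  rw [Finset.mem_filter, Finset.mem_biUnion]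
  constructor
  · rintro ⟨⟨d, hd, hπ⟩, hirr⟩
    rw [mem_M] at hπ
    rw [Finset.mem_range] at hd
    exact ⟨hπ.1, hirr, by omega⟩
  · rintro ⟨hm, hirr, hd⟩
    exact ⟨⟨π.natDegree, Finset.mem_range.2 (by omega), mem_M.2 ⟨hm, rfl⟩⟩, hirr⟩

theorem pow_dvd_iff_le_count {π f : F[X]} (hm : π.Monic) (hirr : Irreducible π) (hf : f ≠ 0)
    (m : ℕ) :
    π ^ m ∣ f ↔ m ≤ (UniqueFactorizationMonoid.normalizedFactors f).count π := by
  rw [UniqueFactorizationMonoid.dvd_iff_normalizedFactors_le_normalizedFactors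
      (pow_ne_zero m hirr.ne_zero) hf,
    UniqueFactorizationMonoid.normalizedFactors_pow,
    UniqueFactorizationMonoid.normalizedFactors_irreducible hirr,
    hm.normalize_eq_self, Multiset.nsmul_singleton, Multiset.le_count_iff_replicate_le]

theorem natDegree_eq_sum {N : ℕ} {f : F[X]} (hf : f.Monic) (hN : f.natDegree ≤ N) :
    f.natDegree = ∑ π ∈ Irr N, ∑ m ∈ Finset.Icc 1 N,
      if π ^ m ∣ f then π.natDegree else 0 := by
  obtain ⟨S, hS⟩ : ∃ S, S = UniqueFactorizationMonoid.normalizedFactors f := ⟨_, rfl⟩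
  have hf0 : f ≠ 0 := hf.ne_zero
  have hprod : S.prod = f := by
    rw [hS, UniqueFactorizationMonoid.prod_normalizedFactors_eq hf0, hf.normalize_eq_self]
  have hmem : ∀ p ∈ S, p.Monic ∧ Irreducible p ∧ p ∣ f := by
    intro p hp
    rw [hS] at hp
    have hirr := UniqueFactorizationMonoid.irreducible_of_normalized_factor p hp
    have hnorm := UniqueFactorizationMonoid.normalize_normalized_factor p hp
    refine ⟨?_, hirr, UniqueFactorizationMonoid.dvd_of_mem_normalizedFactors hp⟩
    rw [← hnorm]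
    exact monic_normalize hirr.ne_zero
  have h1 : f.natDegree = (S.map natDegree).sum := by
    rw [← hprod]
    exact natDegree_multiset_prod_of_monic S (fun p hp => (hmem p hp).1)
  rw [h1, Finset.sum_multiset_map_count]
  have hsub : S.toFinset ⊆ Irr N := by
    intro p hp
    rw [Multiset.mem_toFinset] at hp
    obtain ⟨a, b, c⟩ := hmem p hp
    exact mem_Irr.2 ⟨a, b, (natDegree_le_of_dvd c hf0).trans hN⟩
  rw [Finset.sum_subset hsub]
  · apply Finset.sum_congr rfl
    intro π hπ
    obtain ⟨hπm, hπi, hπd⟩ := mem_Irr.1 hπ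
    have hc : S.count π ≤ N := by
      have hdvd : π ^ (S.count π) ∣ f :=
        (pow_dvd_iff_le_count hπm hπi hf0 _).2 (by rw [hS])
      have := natDegree_le_of_dvd hdvd hf0
      rw [hπm.natDegree_pow] at this
      have hpos := hπi.natDegree_pos
      calc S.count π ≤ S.count π * π.natDegree := Nat.le_mul_of_pos_right _ hpos
        _ ≤ f.natDegree := this
        _ ≤ N := hN
    have hite : ∀ m ∈ Finset.Icc 1 N, (if π ^ m ∣ f then π.natDegree else 0) =
        if m ≤ S.count π then π.natDegree else 0 := by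
      intro m _
      exact if_congr (by rw [pow_dvd_iff_le_count hπm hπi hf0, hS]) rfl rfl
    rw [Finset.sum_congr rfl hite, ← Finset.sum_filter, Finset.sum_const, smul_eq_mul,
      smul_eq_mul]
    congr 1
    have hfil : (Finset.Icc 1 N).filter (fun m => m ≤ S.count π) = Finset.Icc 1 (S.count π) := by
      ext m
      simp only [Finset.mem_filter, Finset.mem_Icc]
      omega
    rw [hfil, Nat.card_Icc]
    omega
  · intro π _ hπ
    rw [Multiset.mem_toFinset] at hπ
    rw [Multiset.count_eq_zero_of_notMem hπ, zero_smul]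

theorem sum_filter_dvd {p : F[X]} (hp : p.Monic) (n : ℕ) :
    ∑ f ∈ (M n).filter (fun f => p ∣ f), lam χ ψ f =
      if p.natDegree ≤ n then lam χ ψ p * h χ ψ (n - p.natDegree) else 0 := by
  split_ifs with hle
  · have hset : (M n).filter (fun f => p ∣ f) =
        (M (n - p.natDegree)).image (fun g => p * g) := by
      ext f
      rw [Finset.mem_filter, Finset.mem_image, mem_M]
      constructor
      · rintro ⟨⟨hm, hd⟩, g, rfl⟩
        have hg : g.Monic := hp.of_mul_monic_left hm
        refine ⟨g, mem_M.2 ⟨hg, ?_⟩, rfl⟩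
        rw [hp.natDegree_mul hg] at hd
        omega
      · rintro ⟨g, hg, rfl⟩
        obtain ⟨hgm, hgd⟩ := mem_M.1 hg
        refine ⟨⟨hp.mul hgm, ?_⟩, dvd_mul_right _ _⟩
        rw [hp.natDegree_mul hgm, hgd]
        omega
    rw [hset, Finset.sum_image]
    · unfold h
      rw [Finset.mul_sum]
      apply Finset.sum_congr rfl
      intro g hg
      exact lam_mul χ ψ hp (mem_M.1 hg).1
    · intro a _ b _ hab
      exact mul_left_cancel₀ hp.ne_zero hab
  · apply Finset.sum_eq_zero
    intro f hf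
    exfalso
    obtain ⟨hf1, hf2⟩ := Finset.mem_filter.1 hf
    obtain ⟨hm, hd⟩ := mem_M.1 hf1
    have := natDegree_le_of_dvd hf2 hm.ne_zero
    omega

theorem newton {N n : ℕ} (hn : n ≤ N) :
    (n : R) * h χ ψ n = ∑ π ∈ Irr N, ∑ m ∈ Finset.Icc 1 N,
      (π.natDegree : R) * (if m * π.natDegree ≤ n then
        lam χ ψ π ^ m * h χ ψ (n - m * π.natDegree) else 0) := by
  have step1 : (n : R) * h χ ψ n = ∑ f ∈ M n, (∑ π ∈ Irr N, ∑ m ∈ Finset.Icc 1 N,
      if π ^ m ∣ f then (π.natDegree : R) else 0) * lam χ ψ f := by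
    unfold h
    rw [Finset.mul_sum]
    apply Finset.sum_congr rfl
    intro f hf
    obtain ⟨hm, hd⟩ := mem_M.1 hf
    have := natDegree_eq_sum hm (by omega : f.natDegree ≤ N)
    have h2 : (n : R) = ((∑ π ∈ Irr N, ∑ m ∈ Finset.Icc 1 N,
        if π ^ m ∣ f then π.natDegree else 0 : ℕ) : R) := by
      rw [← this, hd]
    rw [h2]
    push_cast
    rfl
  rw [step1]
  simp_rw [Finset.sum_mul]
  rw [Finset.sum_comm]
  apply Finset.sum_congr rfl
  intro π hπ
  rw [Finset.sum_comm]
  apply Finset.sum_congr rfl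
  intro m _
  obtain ⟨hπm, hπi, hπd⟩ := mem_Irr.1 hπ
  have := sum_filter_dvd χ ψ (hπm.pow m) n
  rw [hπm.natDegree_pow, lam_pow χ ψ hπm] at this
  rw [← this, Finset.mul_sum, Finset.sum_filter]
  apply Finset.sum_congr rfl
  intro f _
  split_ifs <;> simp

/-- The power sums. -/
noncomputable def P (N s : ℕ) : R :=
  ∑ π ∈ Irr N, ∑ m ∈ Finset.Icc 1 N,
    if m * π.natDegree = s then (π.natDegree : R) * lam χ ψ π ^ m else 0

theorem P_zero (N : ℕ) : P χ ψ N 0 = 0 := by
  unfold P
  apply Finset.sum_eq_zero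
  intro π hπ
  apply Finset.sum_eq_zero
  intro m hm
  obtain ⟨_, hπi, _⟩ := mem_Irr.1 hπ
  have := hπi.natDegree_pos
  rw [Finset.mem_Icc] at hm
  rw [if_neg]
  intro h0
  rcases Nat.mul_eq_zero.1 h0 with h1 | h1 <;> omega

theorem rec {ψ : AddChar F R} (hψ : ψ ≠ 1) {N n : ℕ} (hn1 : 1 ≤ n) (hn : n ≤ N) :
    (n : R) * h χ ψ n = P χ ψ N n + P χ ψ N (n - 1) * h χ ψ 1 := by
  rw [newton χ ψ hn]
  unfold P
  rw [Finset.sum_mul, ← Finset.sum_add_distrib]
  apply Finset.sum_congr rfl
  intro π hπ
  rw [Finset.sum_mul, ← Finset.sum_add_distrib]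
  apply Finset.sum_congr rfl
  intro m hm
  obtain ⟨_, hπi, _⟩ := mem_Irr.1 hπ
  have hpos := hπi.natDegree_pos
  rw [Finset.mem_Icc] at hm
  have he : 1 ≤ m * π.natDegree := Nat.mul_pos (by omega) hpos
  generalize m * π.natDegree = e at he ⊢
  by_cases h1 : e = n
  · subst h1
    rw [if_pos le_rfl, if_pos rfl, if_neg (by omega), Nat.sub_self, h_zero]
    ring
  · by_cases h2 : e = n - 1
    · rw [if_pos (by omega), if_neg h1, if_pos h2]
      have h3 : n - e = 1 := by omega
      rw [h3]
      ring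
    · rw [if_neg h1, if_neg h2]
      by_cases h3 : e ≤ n
      · rw [if_pos h3, h_eq_zero χ hψ (by omega : 2 ≤ n - e)]
        ring
      · rw [if_neg h3]
        ring

theorem neg_P {ψ : AddChar F R} (hψ : ψ ≠ 1) (N : ℕ) :
    ∀ n, 1 ≤ n → n ≤ N → -P χ ψ N n = (-h χ ψ 1) ^ n := by
  intro n
  induction n with
  | zero => intro h0; omega
  | succ k ih =>
    intro _ hk
    rcases Nat.eq_zero_or_pos k with rfl | hkpos
    · have := rec χ hψ (le_refl 1) hk
      simp only [Nat.sub_self, P_zero, zero_mul, add_zero, Nat.cast_one, one_mul] at this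
      rw [zero_add, pow_one, this]
    · have := rec χ hψ (by omega : 1 ≤ k + 1) hk
      rw [h_eq_zero χ hψ (by omega : 2 ≤ k + 1), mul_zero, Nat.add_sub_cancel] at this
      have ih' := ih hkpos (by omega)
      rw [pow_succ, ← ih']
      linear_combination this

section PartB

open IntermediateField

variable {F' : Type} [Field F'] [Fintype F'] [Algebra F F']

theorem phi_eq (x : F') :
    χ (Algebra.norm F x) * ψ (Algebra.trace F F' x) =
      lam χ ψ (minpoly F x) ^ Module.finrank F⟮x⟯ F' := by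
  have hx : IsIntegral F x := Algebra.IsIntegral.isIntegral x
  have hN : Algebra.norm F x = ((-1) ^ (minpoly F x).natDegree * (minpoly F x).coeff 0) ^
      Module.finrank F⟮x⟯ F' := by
    rw [Algebra.norm_eq_norm_adjoin F x]
    congr 1
    have := Algebra.PowerBasis.norm_gen_eq_coeff_zero_minpoly
      (IntermediateField.adjoin.powerBasis hx)
    rw [IntermediateField.adjoin.powerBasis_gen, IntermediateField.adjoin.powerBasis_dim,
      IntermediateField.minpoly_gen] at this
    exact this
  have hT : Algebra.trace F F' x = Module.finrank F⟮x⟯ F' • (-(minpoly F x).nextCoeff) := by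
    rw [trace_eq_finrank_mul_minpoly_nextCoeff, nsmul_eq_mul]
  rw [hN, hT, map_pow, AddChar.map_nsmul_eq_pow, ← mul_pow]
  unfold lam
  rw [mul_comm]

theorem minpoly_mem_Irr (x : F') :
    minpoly F x ∈ Irr (Module.finrank F F') ∧
      (minpoly F x).natDegree * Module.finrank F⟮x⟯ F' = Module.finrank F F' := by
  have hx : IsIntegral F x := Algebra.IsIntegral.isIntegral x
  have h2 : (minpoly F x).natDegree * Module.finrank F⟮x⟯ F' = Module.finrank F F' := by
    rw [← IntermediateField.adjoin.finrank hx, Module.finrank_mul_finrank]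
  refine ⟨mem_Irr.2 ⟨minpoly.monic hx, minpoly.irreducible hx, ?_⟩, h2⟩
  have : 0 < Module.finrank F F' := Module.finrank_pos
  exact Nat.le_of_dvd this ⟨_, h2.symm⟩

theorem card_fiber {π : F[X]} (hm : π.Monic) (hirr : Irreducible π)
    (hd : π.natDegree ∣ Module.finrank F F') :
    ((Finset.univ : Finset F').filter (fun x => minpoly F x = π)).card = π.natDegree := by
  obtain ⟨g, hg⟩ : ∃ g, g = π.map (algebraMap F F') := ⟨_, rfl⟩
  have hg0 : g ≠ 0 := by
    rw [hg]
    exact (hm.map _).ne_zero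
  have hdvd : g ∣ (X ^ Fintype.card F' - X : F'[X]) := by
    have h1 := hirr.natDegree_dvd_iff_dvd_X_pow_card_pow_sub_X.1 hd
    rw [Nat.card_eq_fintype_card, ← Module.card_eq_pow_finrank] at h1
    have h2 := Polynomial.map_dvd (algebraMap F F') h1
    simpa [hg] using h2
  obtain ⟨r, hr⟩ := hdvd
  have hcard : 1 < Fintype.card F' := Fintype.one_lt_card
  have hQ0 : (X ^ Fintype.card F' - X : F'[X]) ≠ 0 :=
    FiniteField.X_pow_card_sub_X_ne_zero F' hcard
  have hr0 : r ≠ 0 := by
    rintro rfl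
    rw [mul_zero] at hr
    exact hQ0 hr
  have hroots : (X ^ Fintype.card F' - X : F'[X]).roots = g.roots + r.roots := by
    rw [hr]
    exact roots_mul (mul_ne_zero hg0 hr0)
  have hQr := FiniteField.roots_X_pow_card_sub_X F'
  have hdeg : Fintype.card F' = g.natDegree + r.natDegree := by
    rw [← natDegree_mul hg0 hr0, ← hr, FiniteField.X_pow_card_sub_X_natDegree_eq F' hcard]
  have hcardroots : Fintype.card F' = Multiset.card g.roots + Multiset.card r.roots := by
    rw [← Multiset.card_add, ← hroots, hQr]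
    simp
  have hgc : Multiset.card g.roots = g.natDegree := by
    have := card_roots' g
    have := card_roots' r
    omega
  have hnd : g.roots.Nodup := by
    have hnd2 : (g.roots + r.roots).Nodup := by
      rw [← hroots, hQr]
      exact Finset.univ.nodup
    exact Multiset.nodup_of_le (Multiset.le_add_right _ _) hnd2
  have hset : (Finset.univ : Finset F').filter (fun x => minpoly F x = π) =
      g.roots.toFinset := by
    ext x
    rw [Finset.mem_filter, Multiset.mem_toFinset, mem_roots hg0, IsRoot.def, hg,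
      eval_map_algebraMap]
    constructor
    · rintro ⟨-, rfl⟩
      exact minpoly.aeval F x
    · intro h
      exact ⟨Finset.mem_univ _, (minpoly.eq_of_irreducible_of_monic hirr h hm).symm⟩
  rw [hset, Multiset.toFinset_card_of_nodup hnd, hgc, hg, natDegree_map]

theorem sum_eq_P :
    ∑ x : F', χ (Algebra.norm F x) * ψ (Algebra.trace F F' x) =
      P χ ψ (Module.finrank F F') (Module.finrank F F') := by
  obtain ⟨s, hs⟩ : ∃ s, s = Module.finrank F F' := ⟨_, rfl⟩
  have hspos : 0 < s := by
    rw [hs]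
    exact Module.finrank_pos
  rw [← hs]
  unfold P
  rw [← Finset.sum_fiberwise_of_maps_to (s := (Finset.univ : Finset F')) (t := Irr s)
    (g := fun x => minpoly F x) (fun x _ => by rw [hs]; exact (minpoly_mem_Irr x).1)]
  apply Finset.sum_congr rfl
  intro π hπ
  obtain ⟨hπm, hπi, hπd⟩ := mem_Irr.1 hπ
  have hpos := hπi.natDegree_pos
  by_cases hdvd : π.natDegree ∣ s
  · obtain ⟨m₀, hm₀⟩ := hdvd
    have hm₀pos : 1 ≤ m₀ := by
      rcases Nat.eq_zero_or_pos m₀ with rfl | h
      · omega
      · exact h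
    have hm₀le : m₀ ≤ s := by
      rw [hm₀]
      exact Nat.le_mul_of_pos_left _ hpos
    rw [Finset.sum_eq_single m₀]
    · rw [if_pos (by rw [hm₀, mul_comm])]
      have hterm : ∀ x ∈ (Finset.univ : Finset F').filter (fun x => minpoly F x = π),
          χ (Algebra.norm F x) * ψ (Algebra.trace F F' x) = lam χ ψ π ^ m₀ := by
        intro x hx
        obtain ⟨-, hx⟩ := Finset.mem_filter.1 hx
        rw [phi_eq, hx]
        congr 1
        have := (minpoly_mem_Irr (F := F) x).2
        rw [hx, ← hs, hm₀] at this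
        exact Nat.eq_of_mul_eq_mul_left hpos this
      rw [Finset.sum_congr rfl hterm, Finset.sum_const,
        card_fiber hπm hπi (by rw [← hs, hm₀]; exact dvd_mul_right _ _), nsmul_eq_mul]
    · intro m _ hne
      rw [if_neg]
      intro h
      apply hne
      rw [hm₀, mul_comm] at h
      exact Nat.eq_of_mul_eq_mul_left hpos h
    · intro h
      exact absurd (Finset.mem_Icc.2 ⟨hm₀pos, hm₀le⟩) h
  · rw [Finset.sum_eq_zero, Finset.sum_eq_zero]
    · intro m _
      rw [if_neg]
      intro h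
      exact hdvd ⟨m, by rw [← h, mul_comm]⟩
    · intro x hx
      exfalso
      obtain ⟨-, hx⟩ := Finset.mem_filter.1 hx
      apply hdvd
      have := (minpoly_mem_Irr (F := F) x).2
      rw [hx, ← hs] at this
      exact ⟨_, this.symm⟩

theorem hasse_davenport {ψ : AddChar F R} (hψ : ψ ≠ 1) :
    -(∑ x : F', χ (Algebra.norm F x) * ψ (Algebra.trace F F' x)) =
      (-(∑ x : F, χ x * ψ x)) ^ Module.finrank F F' := by
  rw [sum_eq_P, ← h_one]
  exact neg_P χ hψ _ _ Module.finrank_pos le_rfl

end PartB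

end Groth.Agent.Helper6.HasseDav
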