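import Mathlib
import Groth.Agent.Helper6.Dim1SnakeGen

set_option autoImplicit false

/-!
Two-periodic complexes `(M, N, φ, ψ)`: the two models of cohomology and their comparison.
-/

namespace Groth.Agent.Helper6.Herbrand

open Function Groth.Agent.Helper6.Dim1

universe u v

variable {R : Type u} [CommRing R]

section Single

variable {M N : Type v} [AddCommGroup M] [Module R M] [AddCommGroup N] [Module R N]
  (φ : M →ₗ[R] N) (ψ : N →ₗ[R] M)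

/-- the map `M ⧸ im ψ → ker ψ` induced by `φ`. -/
def bar (h : ψ ∘ₗ φ = 0) (h' : φ ∘ₗ ψ = 0) : (M ⧸ LinearMap.range ψ) →ₗ[R] LinearMap.ker ψ :=
  (LinearMap.range ψ).liftQ (φ.codRestrict (LinearMap.ker ψ) (fun x => LinearMap.congr_fun h x))
    (by
      rintro _ ⟨y, rfl⟩
      rw [LinearMap.mem_ker]
      apply Subtype.ext
      exact LinearMap.congr_fun h' y)

theorem bar_mk (h : ψ ∘ₗ φ = 0) (h' : φ ∘ₗ ψ = 0) (x : M) :
    (bar φ ψ h h' (Submodule.Quotient.mk x) : N) = φ x := rfl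

theorem range_bar (h : ψ ∘ₗ φ = 0) (h' : φ ∘ₗ ψ = 0) :
    LinearMap.range (bar φ ψ h h') = (LinearMap.range φ).submoduleOf (LinearMap.ker ψ) := by
  ext y
  change _ ↔ (y : N) ∈ LinearMap.range φ
  constructor
  · rintro ⟨z, rfl⟩
    obtain ⟨x, rfl⟩ := Submodule.Quotient.mk_surjective _ z
    exact ⟨x, rfl⟩
  · rintro ⟨x, hx⟩
    exact ⟨Submodule.Quotient.mk x, Subtype.ext hx⟩

/-- the cokernel model computes `perH ψ φ`. -/
theorem length_coker_bar (h : ψ ∘ₗ φ = 0) (h' : φ ∘ₗ ψ = 0) :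
    Module.length R (↥(LinearMap.ker ψ) ⧸ LinearMap.range (bar φ ψ h h')) =
      Module.length R (↥(LinearMap.ker ψ) ⧸
        (LinearMap.range φ).submoduleOf (LinearMap.ker ψ)) :=
  (Submodule.quotEquivOfEq _ _ (range_bar φ ψ h h')).length_eq

/-- the comparison map from the cokernel model of the swapped complex to the kernel model. -/
def thetaMap (h : ψ ∘ₗ φ = 0) (h' : φ ∘ₗ ψ = 0) :
    (↥(LinearMap.ker φ) ⧸ LinearMap.range (bar ψ φ h' h)) →ₗ[R]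
      LinearMap.ker (bar φ ψ h h') :=
  (LinearMap.range (bar ψ φ h' h)).liftQ
    (((LinearMap.range ψ).mkQ ∘ₗ (LinearMap.ker φ).subtype).codRestrict
      (LinearMap.ker (bar φ ψ h h')) (fun x => by
        rw [LinearMap.mem_ker]
        apply Subtype.ext
        exact x.2))
    (by
      rintro _ ⟨z, rfl⟩
      obtain ⟨y, rfl⟩ := Submodule.Quotient.mk_surjective _ z
      rw [LinearMap.mem_ker]
      apply Subtype.ext
      change Submodule.Quotient.mk (ψ y) = 0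
      rw [Submodule.Quotient.mk_eq_zero]
      exact ⟨y, rfl⟩)

theorem thetaMap_mk (h : ψ ∘ₗ φ = 0) (h' : φ ∘ₗ ψ = 0) (x : LinearMap.ker φ) :
    (thetaMap φ ψ h h' (Submodule.Quotient.mk x) : M ⧸ LinearMap.range ψ) =
      Submodule.Quotient.mk x.1 := rfl

theorem thetaMap_bijective (h : ψ ∘ₗ φ = 0) (h' : φ ∘ₗ ψ = 0) :
    Bijective (thetaMap φ ψ h h') := by
  constructor
  · rw [injective_iff_map_eq_zero]
    intro z hz
    obtain ⟨x, rfl⟩ := Submodule.Quotient.mk_surjective _ z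
    have h0 : (Submodule.Quotient.mk x.1 : M ⧸ LinearMap.range ψ) = 0 := by
      rw [← thetaMap_mk φ ψ h h' x, hz]
      rfl
    rw [Submodule.Quotient.mk_eq_zero] at h0
    obtain ⟨y, hy⟩ := h0
    rw [Submodule.Quotient.mk_eq_zero]
    exact ⟨Submodule.Quotient.mk y, Subtype.ext hy⟩
  · rintro ⟨z, hz⟩
    obtain ⟨x, rfl⟩ := Submodule.Quotient.mk_surjective _ z
    have hx : φ x = 0 := by
      rw [LinearMap.mem_ker] at hz
      exact congrArg Subtype.val hz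
    exact ⟨Submodule.Quotient.mk ⟨x, hx⟩, Subtype.ext rfl⟩

/-- the comparison isomorphism. -/
noncomputable def theta (h : ψ ∘ₗ φ = 0) (h' : φ ∘ₗ ψ = 0) :
    (↥(LinearMap.ker φ) ⧸ LinearMap.range (bar ψ φ h' h)) ≃ₗ[R] LinearMap.ker (bar φ ψ h h') :=
  LinearEquiv.ofBijective (thetaMap φ ψ h h') (thetaMap_bijective φ ψ h h')

theorem theta_mk (h : ψ ∘ₗ φ = 0) (h' : φ ∘ₗ ψ = 0) (x : LinearMap.ker φ) :
    (theta φ ψ h h' (Submodule.Quotient.mk x) : M ⧸ LinearMap.range ψ) =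
      Submodule.Quotient.mk x.1 := rfl

/-- the kernel model computes `perH φ ψ`. -/
theorem length_ker_bar (h : ψ ∘ₗ φ = 0) (h' : φ ∘ₗ ψ = 0) :
    Module.length R (LinearMap.ker (bar φ ψ h h')) =
      Module.length R (↥(LinearMap.ker φ) ⧸
        (LinearMap.range ψ).submoduleOf (LinearMap.ker φ)) := by
  rw [← (theta φ ψ h h').length_eq]
  exact length_coker_bar ψ φ h' h

end Single

section Morphism

variable {M₁ N₁ M₂ N₂ : Type v} [AddCommGroup M₁] [Module R M₁] [AddCommGroup N₁] [Module R N₁]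
  [AddCommGroup M₂] [Module R M₂] [AddCommGroup N₂] [Module R N₂]
  (φ₁ : M₁ →ₗ[R] N₁) (ψ₁ : N₁ →ₗ[R] M₁) (φ₂ : M₂ →ₗ[R] N₂) (ψ₂ : N₂ →ₗ[R] M₂)
  (f : M₁ →ₗ[R] M₂) (g : N₁ →ₗ[R] N₂)

/-- the commutative square of the `bar` maps. -/
theorem bar_square (h₁ : ψ₁ ∘ₗ φ₁ = 0) (h₁' : φ₁ ∘ₗ ψ₁ = 0) (h₂ : ψ₂ ∘ₗ φ₂ = 0)
    (h₂' : φ₂ ∘ₗ ψ₂ = 0) (cφ : g ∘ₗ φ₁ = φ₂ ∘ₗ f) (cψ : f ∘ₗ ψ₁ = ψ₂ ∘ₗ g) :
    (kerMap ψ₁ ψ₂ g f cψ).comp (bar φ₁ ψ₁ h₁ h₁') =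
      (bar φ₂ ψ₂ h₂ h₂').comp (cokerMap ψ₁ ψ₂ g f cψ) := by
  apply LinearMap.ext
  intro z
  obtain ⟨x, rfl⟩ := Submodule.Quotient.mk_surjective _ z
  apply Subtype.ext
  exact LinearMap.congr_fun cφ x

/-- naturality of the comparison isomorphism. -/
theorem theta_natural (h₁ : ψ₁ ∘ₗ φ₁ = 0) (h₁' : φ₁ ∘ₗ ψ₁ = 0) (h₂ : ψ₂ ∘ₗ φ₂ = 0)
    (h₂' : φ₂ ∘ₗ ψ₂ = 0) (cφ : g ∘ₗ φ₁ = φ₂ ∘ₗ f) (cψ : f ∘ₗ ψ₁ = ψ₂ ∘ₗ g) :
    (theta φ₂ ψ₂ h₂ h₂').toLinearMap ∘ₗ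
        cokerMap (bar ψ₁ φ₁ h₁' h₁) (bar ψ₂ φ₂ h₂' h₂) (cokerMap φ₁ φ₂ f g cφ)
          (kerMap φ₁ φ₂ f g cφ) (bar_square ψ₁ φ₁ ψ₂ φ₂ g f h₁' h₁ h₂' h₂ cψ cφ) =
      kerMap (bar φ₁ ψ₁ h₁ h₁') (bar φ₂ ψ₂ h₂ h₂') (cokerMap ψ₁ ψ₂ g f cψ)
          (kerMap ψ₁ ψ₂ g f cψ) (bar_square φ₁ ψ₁ φ₂ ψ₂ f g h₁ h₁' h₂ h₂' cφ cψ) ∘ₗ
        (theta φ₁ ψ₁ h₁ h₁').toLinearMap := by
  apply LinearMap.ext
  intro z
  obtain ⟨x, rfl⟩ := Submodule.Quotient.mk_surjective _ z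
  apply Subtype.ext
  rfl

end Morphism

section Conj

variable {X Y X' Y' : Type*} [AddCommGroup X] [Module R X] [AddCommGroup Y] [Module R Y]
  [AddCommGroup X'] [Module R X'] [AddCommGroup Y'] [Module R Y']

/-- conjugate maps have ranges of the same length. -/
theorem length_range_conj (θ₁ : X' ≃ₗ[R] X) (θ₂ : Y' ≃ₗ[R] Y) (a : X →ₗ[R] Y) (a' : X' →ₗ[R] Y')
    (hc : θ₂.toLinearMap ∘ₗ a' = a ∘ₗ θ₁.toLinearMap) :
    Module.length R (LinearMap.range a) = Module.length R (LinearMap.range a') := by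
  have hr : (LinearMap.range a').map θ₂.toLinearMap = LinearMap.range a := by
    rw [← LinearMap.range_comp, hc, LinearMap.range_comp, LinearEquiv.range, Submodule.map_top]
  rw [← hr]
  exact (θ₂.submoduleMap (LinearMap.range a')).length_eq.symm

end Conj

end Groth.Agent.Helper6.Herbrand
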