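import Mathlib
import Groth.Agent.Helper6.Herbrand1
import Groth.Prelude.Def_CycAlg

set_option autoImplicit false

/-!
The hexagon of a short exact sequence of two-periodic complexes, at the level of lengths.
-/

namespace Groth.Agent.Helper6.Herbrand

open Function Groth.Agent.Helper6.Dim1

universe u v

section SnakeFour

variable {R : Type*} [CommRing R] {M₁ M₂ M₃ N₁ N₂ N₃ : Type*}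
  [AddCommGroup M₁] [Module R M₁] [AddCommGroup M₂] [Module R M₂] [AddCommGroup M₃] [Module R M₃]
  [AddCommGroup N₁] [Module R N₁] [AddCommGroup N₂] [Module R N₂] [AddCommGroup N₃] [Module R N₃]
  (i₁ : M₁ →ₗ[R] N₁) (i₂ : M₂ →ₗ[R] N₂) (i₃ : M₃ →ₗ[R] N₃)
  (f₁ : M₁ →ₗ[R] M₂) (f₂ : M₂ →ₗ[R] M₃) (g₁ : N₁ →ₗ[R] N₂) (g₂ : N₂ →ₗ[R] N₃)

/-- the four length equations coming from the snake sequence. -/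
theorem snake_four (hf : Exact f₁ f₂) (hg : Exact g₁ g₂) (h₁ : g₁.comp i₁ = i₂.comp f₁)
    (h₂ : g₂.comp i₂ = i₃.comp f₂) (hf₂ : Surjective f₂) (hg₁ : Injective g₁) :
    ∃ rδ : ℕ∞,
      Module.length R (LinearMap.ker i₂) =
        Module.length R (LinearMap.range (kerMap i₁ i₂ f₁ g₁ h₁)) +
          Module.length R (LinearMap.range (kerMap i₂ i₃ f₂ g₂ h₂)) ∧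
      Module.length R (LinearMap.ker i₃) =
        Module.length R (LinearMap.range (kerMap i₂ i₃ f₂ g₂ h₂)) + rδ ∧
      Module.length R (N₁ ⧸ LinearMap.range i₁) =
        rδ + Module.length R (LinearMap.range (cokerMap i₁ i₂ f₁ g₁ h₁)) ∧
      Module.length R (N₂ ⧸ LinearMap.range i₂) =
        Module.length R (LinearMap.range (cokerMap i₁ i₂ f₁ g₁ h₁)) +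
          Module.length R (LinearMap.range (cokerMap i₂ i₃ f₂ g₂ h₂)) :=
  ⟨Module.length R (LinearMap.range (snakeδ i₁ i₂ i₃ f₁ f₂ g₁ g₂ hf hg h₁ h₂ hf₂ hg₁)),
    length_eq_range_add_range _ _ (exact_kerMap i₁ i₂ i₃ f₁ f₂ g₁ g₂ hf h₁ h₂ hg₁),
    length_eq_range_add_range _ _
      (exact_kerMap_snakeδ i₁ i₂ i₃ f₁ f₂ g₁ g₂ hf hg h₁ h₂ hf₂ hg₁),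
    length_eq_range_add_range _ _
      (exact_snakeδ_cokerMap i₁ i₂ i₃ f₁ f₂ g₁ g₂ hf hg h₁ h₂ hf₂ hg₁),
    length_eq_range_add_range _ _ (exact_cokerMap i₁ i₂ i₃ f₁ f₂ g₁ g₂ hg h₁ h₂ hf₂)⟩

end SnakeFour

section Arith

theorem hex_arith (x₁ x₂ x₃ y₁ y₂ y₃ k₁ k₂ d c₁ c₂ d' : ℕ∞) (e1 : x₂ = k₁ + k₂)
    (e2 : x₃ = k₂ + d) (e3 : y₁ = d + c₁) (e4 : y₂ = c₁ + c₂) (e5 : y₃ = c₂ + d')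
    (e6 : x₁ = d' + k₁) :
    x₂ + y₁ + y₃ = y₂ + x₁ + x₃ ∧
      (((x₁ ≠ ⊤ ∧ y₁ ≠ ⊤) ∧ (x₂ ≠ ⊤ ∧ y₂ ≠ ⊤)) ∨ ((x₁ ≠ ⊤ ∧ y₁ ≠ ⊤) ∧ (x₃ ≠ ⊤ ∧ y₃ ≠ ⊤)) ∨
        ((x₂ ≠ ⊤ ∧ y₂ ≠ ⊤) ∧ (x₃ ≠ ⊤ ∧ y₃ ≠ ⊤)) →
        (x₁ ≠ ⊤ ∧ y₁ ≠ ⊤) ∧ (x₂ ≠ ⊤ ∧ y₂ ≠ ⊤) ∧ (x₃ ≠ ⊤ ∧ y₃ ≠ ⊤)) := by
  subst e1 e2 e3 e4 e5 e6
  refine ⟨by ring, ?_⟩
  simp only [ne_eq, ENat.add_eq_top, not_or]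
  tauto

end Arith

section Three

variable {R : Type u} [CommRing R] {M₁ N₁ M₂ N₂ M₃ N₃ : Type v}
  [AddCommGroup M₁] [Module R M₁] [AddCommGroup N₁] [Module R N₁]
  [AddCommGroup M₂] [Module R M₂] [AddCommGroup N₂] [Module R N₂]
  [AddCommGroup M₃] [Module R M₃] [AddCommGroup N₃] [Module R N₃]
  (φ₁ : M₁ →ₗ[R] N₁) (ψ₁ : N₁ →ₗ[R] M₁) (φ₂ : M₂ →ₗ[R] N₂) (ψ₂ : N₂ →ₗ[R] M₂)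
  (φ₃ : M₃ →ₗ[R] N₃) (ψ₃ : N₃ →ₗ[R] M₃)
  (f₁ : M₁ →ₗ[R] M₂) (g₁ : N₁ →ₗ[R] N₂) (f₂ : M₂ →ₗ[R] M₃) (g₂ : N₂ →ₗ[R] N₃)

/-- half of the hexagon: the snake sequence of the `bar` maps. -/
theorem half_hexagon (h₁ : ψ₁ ∘ₗ φ₁ = 0) (h₁' : φ₁ ∘ₗ ψ₁ = 0) (h₂ : ψ₂ ∘ₗ φ₂ = 0)
    (h₂' : φ₂ ∘ₗ ψ₂ = 0) (h₃ : ψ₃ ∘ₗ φ₃ = 0) (h₃' : φ₃ ∘ₗ ψ₃ = 0)
    (cφ₁ : g₁ ∘ₗ φ₁ = φ₂ ∘ₗ f₁) (cψ₁ : f₁ ∘ₗ ψ₁ = ψ₂ ∘ₗ g₁)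
    (cφ₂ : g₂ ∘ₗ φ₂ = φ₃ ∘ₗ f₂) (cψ₂ : f₂ ∘ₗ ψ₂ = ψ₃ ∘ₗ g₂)
    (hf₁ : Injective f₁) (hg₁ : Injective g₁) (hf₂ : Surjective f₂) (hg₂ : Surjective g₂)
    (hM : Exact f₁ f₂) (hN : Exact g₁ g₂) :
    ∃ rδ : ℕ∞,
      Module.length R (LinearMap.ker (bar φ₂ ψ₂ h₂ h₂')) =
        Module.length R (LinearMap.range (kerMap (bar φ₁ ψ₁ h₁ h₁') (bar φ₂ ψ₂ h₂ h₂')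
          (cokerMap ψ₁ ψ₂ g₁ f₁ cψ₁) (kerMap ψ₁ ψ₂ g₁ f₁ cψ₁)
          (bar_square φ₁ ψ₁ φ₂ ψ₂ f₁ g₁ h₁ h₁' h₂ h₂' cφ₁ cψ₁))) +
        Module.length R (LinearMap.range (kerMap (bar φ₂ ψ₂ h₂ h₂') (bar φ₃ ψ₃ h₃ h₃')
          (cokerMap ψ₂ ψ₃ g₂ f₂ cψ₂) (kerMap ψ₂ ψ₃ g₂ f₂ cψ₂)
          (bar_square φ₂ ψ₂ φ₃ ψ₃ f₂ g₂ h₂ h₂' h₃ h₃' cφ₂ cψ₂))) ∧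
      Module.length R (LinearMap.ker (bar φ₃ ψ₃ h₃ h₃')) =
        Module.length R (LinearMap.range (kerMap (bar φ₂ ψ₂ h₂ h₂') (bar φ₃ ψ₃ h₃ h₃')
          (cokerMap ψ₂ ψ₃ g₂ f₂ cψ₂) (kerMap ψ₂ ψ₃ g₂ f₂ cψ₂)
          (bar_square φ₂ ψ₂ φ₃ ψ₃ f₂ g₂ h₂ h₂' h₃ h₃' cφ₂ cψ₂))) + rδ ∧
      Module.length R (↥(LinearMap.ker ψ₁) ⧸ LinearMap.range (bar φ₁ ψ₁ h₁ h₁')) =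
        rδ + Module.length R (LinearMap.range (cokerMap (bar φ₁ ψ₁ h₁ h₁') (bar φ₂ ψ₂ h₂ h₂')
          (cokerMap ψ₁ ψ₂ g₁ f₁ cψ₁) (kerMap ψ₁ ψ₂ g₁ f₁ cψ₁)
          (bar_square φ₁ ψ₁ φ₂ ψ₂ f₁ g₁ h₁ h₁' h₂ h₂' cφ₁ cψ₁))) ∧
      Module.length R (↥(LinearMap.ker ψ₂) ⧸ LinearMap.range (bar φ₂ ψ₂ h₂ h₂')) =
        Module.length R (LinearMap.range (cokerMap (bar φ₁ ψ₁ h₁ h₁') (bar φ₂ ψ₂ h₂ h₂')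
          (cokerMap ψ₁ ψ₂ g₁ f₁ cψ₁) (kerMap ψ₁ ψ₂ g₁ f₁ cψ₁)
          (bar_square φ₁ ψ₁ φ₂ ψ₂ f₁ g₁ h₁ h₁' h₂ h₂' cφ₁ cψ₁))) +
        Module.length R (LinearMap.range (cokerMap (bar φ₂ ψ₂ h₂ h₂') (bar φ₃ ψ₃ h₃ h₃')
          (cokerMap ψ₂ ψ₃ g₂ f₂ cψ₂) (kerMap ψ₂ ψ₃ g₂ f₂ cψ₂)
          (bar_square φ₂ ψ₂ φ₃ ψ₃ f₂ g₂ h₂ h₂' h₃ h₃' cφ₂ cψ₂))) :=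
  snake_four (bar φ₁ ψ₁ h₁ h₁') (bar φ₂ ψ₂ h₂ h₂') (bar φ₃ ψ₃ h₃ h₃')
    (cokerMap ψ₁ ψ₂ g₁ f₁ cψ₁) (cokerMap ψ₂ ψ₃ g₂ f₂ cψ₂)
    (kerMap ψ₁ ψ₂ g₁ f₁ cψ₁) (kerMap ψ₂ ψ₃ g₂ f₂ cψ₂)
    (exact_cokerMap ψ₁ ψ₂ ψ₃ g₁ g₂ f₁ f₂ hM cψ₁ cψ₂ hg₂)
    (exact_kerMap ψ₁ ψ₂ ψ₃ g₁ g₂ f₁ f₂ hN cψ₁ cψ₂ hf₁)
    (bar_square φ₁ ψ₁ φ₂ ψ₂ f₁ g₁ h₁ h₁' h₂ h₂' cφ₁ cψ₁)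
    (bar_square φ₂ ψ₂ φ₃ ψ₃ f₂ g₂ h₂ h₂' h₃ h₃' cφ₂ cψ₂)
    (cokerMap_surjective ψ₂ ψ₃ g₂ f₂ cψ₂ hf₂)
    (kerMap_injective ψ₁ ψ₂ g₁ f₁ cψ₁ hg₁)

/-- the comparison of ranges in the two halves. -/
theorem range_compare (h₁ : ψ₁ ∘ₗ φ₁ = 0) (h₁' : φ₁ ∘ₗ ψ₁ = 0) (h₂ : ψ₂ ∘ₗ φ₂ = 0)
    (h₂' : φ₂ ∘ₗ ψ₂ = 0) (cφ₁ : g₁ ∘ₗ φ₁ = φ₂ ∘ₗ f₁) (cψ₁ : f₁ ∘ₗ ψ₁ = ψ₂ ∘ₗ g₁) :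
    Module.length R (LinearMap.range (kerMap (bar φ₁ ψ₁ h₁ h₁') (bar φ₂ ψ₂ h₂ h₂')
          (cokerMap ψ₁ ψ₂ g₁ f₁ cψ₁) (kerMap ψ₁ ψ₂ g₁ f₁ cψ₁)
          (bar_square φ₁ ψ₁ φ₂ ψ₂ f₁ g₁ h₁ h₁' h₂ h₂' cφ₁ cψ₁))) =
      Module.length R (LinearMap.range (cokerMap (bar ψ₁ φ₁ h₁' h₁) (bar ψ₂ φ₂ h₂' h₂)
          (cokerMap φ₁ φ₂ f₁ g₁ cφ₁) (kerMap φ₁ φ₂ f₁ g₁ cφ₁)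
          (bar_square ψ₁ φ₁ ψ₂ φ₂ g₁ f₁ h₁' h₁ h₂' h₂ cψ₁ cφ₁))) :=
  length_range_conj (theta φ₁ ψ₁ h₁ h₁') (theta φ₂ ψ₂ h₂ h₂') _ _
    (theta_natural φ₁ ψ₁ φ₂ ψ₂ f₁ g₁ h₁ h₁' h₂ h₂' cφ₁ cψ₁)

/-- the hexagon at the level of lengths. -/
theorem hexagon_length (h₁ : ψ₁ ∘ₗ φ₁ = 0) (h₁' : φ₁ ∘ₗ ψ₁ = 0) (h₂ : ψ₂ ∘ₗ φ₂ = 0)
    (h₂' : φ₂ ∘ₗ ψ₂ = 0) (h₃ : ψ₃ ∘ₗ φ₃ = 0) (h₃' : φ₃ ∘ₗ ψ₃ = 0)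
    (cφ₁ : g₁ ∘ₗ φ₁ = φ₂ ∘ₗ f₁) (cψ₁ : f₁ ∘ₗ ψ₁ = ψ₂ ∘ₗ g₁)
    (cφ₂ : g₂ ∘ₗ φ₂ = φ₃ ∘ₗ f₂) (cψ₂ : f₂ ∘ₗ ψ₂ = ψ₃ ∘ₗ g₂)
    (hf₁ : Injective f₁) (hg₁ : Injective g₁) (hf₂ : Surjective f₂) (hg₂ : Surjective g₂)
    (hM : Exact f₁ f₂) (hN : Exact g₁ g₂) :
    Module.length R (CycAlg.perH φ₂ ψ₂) + Module.length R (CycAlg.perH ψ₁ φ₁) +
        Module.length R (CycAlg.perH ψ₃ φ₃) =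
      Module.length R (CycAlg.perH ψ₂ φ₂) + Module.length R (CycAlg.perH φ₁ ψ₁) +
        Module.length R (CycAlg.perH φ₃ ψ₃) ∧
    ((CycAlg.FinCoh R φ₁ ψ₁ ∧ CycAlg.FinCoh R φ₂ ψ₂) ∨ (CycAlg.FinCoh R φ₁ ψ₁ ∧ CycAlg.FinCoh R φ₃ ψ₃) ∨
      (CycAlg.FinCoh R φ₂ ψ₂ ∧ CycAlg.FinCoh R φ₃ ψ₃) →
      CycAlg.FinCoh R φ₁ ψ₁ ∧ CycAlg.FinCoh R φ₂ ψ₂ ∧ CycAlg.FinCoh R φ₃ ψ₃) := by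
  obtain ⟨d, a1, a2, a3, a4⟩ := half_hexagon φ₁ ψ₁ φ₂ ψ₂ φ₃ ψ₃ f₁ g₁ f₂ g₂ h₁ h₁' h₂ h₂' h₃ h₃'
    cφ₁ cψ₁ cφ₂ cψ₂ hf₁ hg₁ hf₂ hg₂ hM hN
  obtain ⟨d', b1, b2, b3, b4⟩ := half_hexagon ψ₁ φ₁ ψ₂ φ₂ ψ₃ φ₃ g₁ f₁ g₂ f₂ h₁' h₁ h₂' h₂ h₃' h₃
    cψ₁ cφ₁ cψ₂ cφ₂ hg₁ hf₁ hg₂ hf₂ hN hM
  rw [length_ker_bar] at a1 a2 b1 b2
  rw [length_coker_bar] at a3 a4 b3 b4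
  rw [range_compare ψ₁ φ₁ ψ₂ φ₂ g₁ f₁ h₁' h₁ h₂' h₂ cψ₁ cφ₁] at b1
  rw [range_compare ψ₂ φ₂ ψ₃ φ₃ g₂ f₂ h₂' h₂ h₃' h₃ cψ₂ cφ₂] at b1 b2
  rw [← range_compare φ₁ ψ₁ φ₂ ψ₂ f₁ g₁ h₁ h₁' h₂ h₂' cφ₁ cψ₁] at b3
  have key := hex_arith _ _ _ _ _ _ _ _ _ _ _ _ a1 a2 a3 a4 b2 b3
  refine ⟨key.1, ?_⟩
  intro hyp
  have := key.2 (by
    unfold CycAlg.FinCoh at hyp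
    simp only [lt_top_iff_ne_top] at hyp
    exact hyp)
  unfold CycAlg.FinCoh
  simp only [lt_top_iff_ne_top]
  exact this

end Three

end Groth.Agent.Helper6.Herbrand
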