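import Mathlib
import Groth.Agent.Helper6.Herbrand2

set_option autoImplicit false

/-!
Additivity of the Herbrand quotient on short exact sequences of two-periodic complexes.
-/

namespace Groth.Agent.Helper6.Herbrand

open Function

universe u v

theorem herbrand_arith (x₁ x₂ x₃ y₁ y₂ y₃ : ℕ∞) (e : x₂ + y₁ + y₃ = y₂ + x₁ + x₃)
    (hx₁ : x₁ < ⊤) (hy₁ : y₁ < ⊤) (hx₂ : x₂ < ⊤) (hy₂ : y₂ < ⊤) (hx₃ : x₃ < ⊤) (hy₃ : y₃ < ⊤) :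
    ((x₂.toNat : ℤ) - (y₂.toNat : ℤ)) =
      ((x₁.toNat : ℤ) - (y₁.toNat : ℤ)) + ((x₃.toNat : ℤ) - (y₃.toNat : ℤ)) := by
  lift x₁ to ℕ using hx₁.ne
  lift x₂ to ℕ using hx₂.ne
  lift x₃ to ℕ using hx₃.ne
  lift y₁ to ℕ using hy₁.ne
  lift y₂ to ℕ using hy₂.ne
  lift y₃ to ℕ using hy₃.ne
  simp only [ENat.toNat_natCast]
  have e' : x₂ + y₁ + y₃ = y₂ + x₁ + x₃ := by exact_mod_cast e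
  omega

theorem main_S1869 {R : Type u} [CommRing R] {M₁ N₁ M₂ N₂ M₃ N₃ : Type v}
    [AddCommGroup M₁] [Module R M₁] [AddCommGroup N₁] [Module R N₁]
    [AddCommGroup M₂] [Module R M₂] [AddCommGroup N₂] [Module R N₂]
    [AddCommGroup M₃] [Module R M₃] [AddCommGroup N₃] [Module R N₃]
    (φ₁ : M₁ →ₗ[R] N₁) (ψ₁ : N₁ →ₗ[R] M₁) (φ₂ : M₂ →ₗ[R] N₂) (ψ₂ : N₂ →ₗ[R] M₂)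
    (φ₃ : M₃ →ₗ[R] N₃) (ψ₃ : N₃ →ₗ[R] M₃)
    (h₁ : CycAlg.IsPeriodic φ₁ ψ₁) (h₂ : CycAlg.IsPeriodic φ₂ ψ₂) (h₃ : CycAlg.IsPeriodic φ₃ ψ₃)
    (f₁ : M₁ →ₗ[R] M₂) (g₁ : N₁ →ₗ[R] N₂) (f₂ : M₂ →ₗ[R] M₃) (g₂ : N₂ →ₗ[R] N₃)
    (cφ₁ : φ₂ ∘ₗ f₁ = g₁ ∘ₗ φ₁) (cψ₁ : ψ₂ ∘ₗ g₁ = f₁ ∘ₗ ψ₁)
    (cφ₂ : φ₃ ∘ₗ f₂ = g₂ ∘ₗ φ₂) (cψ₂ : ψ₃ ∘ₗ g₂ = f₂ ∘ₗ ψ₂)
    (hf₁ : Injective f₁) (hg₁ : Injective g₁) (hf₂ : Surjective f₂) (hg₂ : Surjective g₂)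
    (hM : LinearMap.range f₁ = LinearMap.ker f₂) (hN : LinearMap.range g₁ = LinearMap.ker g₂)
    (htwo : (CycAlg.FinCoh R φ₁ ψ₁ ∧ CycAlg.FinCoh R φ₂ ψ₂) ∨
      (CycAlg.FinCoh R φ₁ ψ₁ ∧ CycAlg.FinCoh R φ₃ ψ₃) ∨
      (CycAlg.FinCoh R φ₂ ψ₂ ∧ CycAlg.FinCoh R φ₃ ψ₃)) :
    CycAlg.FinCoh R φ₁ ψ₁ ∧ CycAlg.FinCoh R φ₂ ψ₂ ∧ CycAlg.FinCoh R φ₃ ψ₃ ∧
      CycAlg.herbrand R φ₂ ψ₂ = CycAlg.herbrand R φ₁ ψ₁ + CycAlg.herbrand R φ₃ ψ₃ := by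
  obtain ⟨key, fin⟩ := hexagon_length φ₁ ψ₁ φ₂ ψ₂ φ₃ ψ₃ f₁ g₁ f₂ g₂ h₁.2 h₁.1 h₂.2 h₂.1 h₃.2 h₃.1
    cφ₁.symm cψ₁.symm cφ₂.symm cψ₂.symm hf₁ hg₁ hf₂ hg₂
    (LinearMap.exact_iff.mpr hM.symm) (LinearMap.exact_iff.mpr hN.symm)
  obtain ⟨F1, F2, F3⟩ := fin htwo
  refine ⟨F1, F2, F3, ?_⟩
  unfold CycAlg.herbrand
  exact herbrand_arith _ _ _ _ _ _ key F1.1 F1.2 F2.1 F2.2 F3.1 F3.2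

end Groth.Agent.Helper6.Herbrand
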