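import Mathlib
import Groth.Agent.Helper6.Herbrand3
import Groth.Agent.S6464

set_option autoImplicit false

/-!
The Herbrand quotient is invariant under maps with kernel and cokernel of finite length.
-/

namespace Groth.Agent.Helper6.Herbrand

open Function

universe u v

theorem main_S1870 {R : Type u} [CommRing R] {M M' : Type v} [AddCommGroup M] [Module R M]
    [AddCommGroup M'] [Module R M'] (φ ψ : M →ₗ[R] M) (φ' ψ' : M' →ₗ[R] M')
    (h : CycAlg.IsPeriodic φ ψ) (h' : CycAlg.IsPeriodic φ' ψ') (f : M →ₗ[R] M')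
    (cφ : φ' ∘ₗ f = f ∘ₗ φ) (cψ : ψ' ∘ₗ f = f ∘ₗ ψ) (hfin : CycAlg.FinCoh R φ ψ)
    (hfin' : CycAlg.FinCoh R φ' ψ') (hker : Module.length R (LinearMap.ker f) < ⊤)
    (hcoker : Module.length R (M' ⧸ LinearMap.range f) < ⊤) :
    CycAlg.herbrand R φ ψ = CycAlg.herbrand R φ' ψ' := by
  have cφx : ∀ x, φ' (f x) = f (φ x) := fun x => LinearMap.congr_fun cφ x
  have cψx : ∀ x, ψ' (f x) = f (ψ x) := fun x => LinearMap.congr_fun cψ x
  have h1x : ∀ x, φ (ψ x) = 0 := fun x => LinearMap.congr_fun h.1 x
  have h2x : ∀ x, ψ (φ x) = 0 := fun x => LinearMap.congr_fun h.2 x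
  have h1x' : ∀ x, φ' (ψ' x) = 0 := fun x => LinearMap.congr_fun h'.1 x
  have h2x' : ∀ x, ψ' (φ' x) = 0 := fun x => LinearMap.congr_fun h'.2 x
  -- the kernel complex
  have hKφ : ∀ x ∈ LinearMap.ker f, φ x ∈ LinearMap.ker f := by
    intro x hx
    rw [LinearMap.mem_ker] at hx ⊢
    rw [← cφx, hx, map_zero]
  have hKψ : ∀ x ∈ LinearMap.ker f, ψ x ∈ LinearMap.ker f := by
    intro x hx
    rw [LinearMap.mem_ker] at hx ⊢
    rw [← cψx, hx, map_zero]
  let φK : LinearMap.ker f →ₗ[R] LinearMap.ker f := φ.restrict hKφ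
  let ψK : LinearMap.ker f →ₗ[R] LinearMap.ker f := ψ.restrict hKψ
  have hK : CycAlg.IsPeriodic φK ψK := by
    constructor
    · apply LinearMap.ext
      intro x
      apply Subtype.ext
      exact h1x x.1
    · apply LinearMap.ext
      intro x
      apply Subtype.ext
      exact h2x x.1
  obtain ⟨finK, eK⟩ := Groth.Agent.S6464.result φK ψK hK hker hker
  rw [sub_self] at eK
  -- the image complex
  have hIφ : ∀ y ∈ LinearMap.range f, φ' y ∈ LinearMap.range f := by
    rintro _ ⟨x, rfl⟩
    exact ⟨φ x, (cφx x).symm⟩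
  have hIψ : ∀ y ∈ LinearMap.range f, ψ' y ∈ LinearMap.range f := by
    rintro _ ⟨x, rfl⟩
    exact ⟨ψ x, (cψx x).symm⟩
  let φI : LinearMap.range f →ₗ[R] LinearMap.range f := φ'.restrict hIφ
  let ψI : LinearMap.range f →ₗ[R] LinearMap.range f := ψ'.restrict hIψ
  have hI : CycAlg.IsPeriodic φI ψI := by
    constructor
    · apply LinearMap.ext
      intro x
      apply Subtype.ext
      exact h1x' x.1
    · apply LinearMap.ext
      intro x
      apply Subtype.ext
      exact h2x' x.1
  -- the quotient complex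
  have hQφ : LinearMap.range f ≤ (LinearMap.range f).comap φ' := fun y hy => hIφ y hy
  have hQψ : LinearMap.range f ≤ (LinearMap.range f).comap ψ' := fun y hy => hIψ y hy
  let φQ : (M' ⧸ LinearMap.range f) →ₗ[R] (M' ⧸ LinearMap.range f) :=
    Submodule.mapQ _ _ φ' hQφ
  let ψQ : (M' ⧸ LinearMap.range f) →ₗ[R] (M' ⧸ LinearMap.range f) :=
    Submodule.mapQ _ _ ψ' hQψ
  have hQ : CycAlg.IsPeriodic φQ ψQ := by
    constructor
    · apply LinearMap.ext
      intro z
      obtain ⟨y, rfl⟩ := Submodule.Quotient.mk_surjective _ z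
      change Submodule.Quotient.mk (φ' (ψ' y)) = 0
      rw [h1x', Submodule.Quotient.mk_zero]
    · apply LinearMap.ext
      intro z
      obtain ⟨y, rfl⟩ := Submodule.Quotient.mk_surjective _ z
      change Submodule.Quotient.mk (ψ' (φ' y)) = 0
      rw [h2x', Submodule.Quotient.mk_zero]
  obtain ⟨finQ, eQ⟩ := Groth.Agent.S6464.result φQ ψQ hQ hcoker hcoker
  rw [sub_self] at eQ
  -- first sequence: ker f → M → range f
  have s1 := main_S1869 φK ψK φ ψ φI ψI hK h hI (LinearMap.ker f).subtype (LinearMap.ker f).subtype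
    f.rangeRestrict f.rangeRestrict
    (by apply LinearMap.ext; intro x; rfl) (by apply LinearMap.ext; intro x; rfl)
    (by
      apply LinearMap.ext
      intro x
      apply Subtype.ext
      exact cφx x)
    (by
      apply LinearMap.ext
      intro x
      apply Subtype.ext
      exact cψx x)
    (Submodule.injective_subtype _) (Submodule.injective_subtype _)
    f.surjective_rangeRestrict f.surjective_rangeRestrict
    (by rw [Submodule.range_subtype, LinearMap.ker_rangeRestrict])
    (by rw [Submodule.range_subtype, LinearMap.ker_rangeRestrict])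
    (Or.inl ⟨finK, hfin⟩)
  obtain ⟨-, -, finI, e1⟩ := s1
  -- second sequence: range f → M' → M' ⧸ range f
  have s2 := main_S1869 φI ψI φ' ψ' φQ ψQ hI h' hQ (LinearMap.range f).subtype
    (LinearMap.range f).subtype (LinearMap.range f).mkQ (LinearMap.range f).mkQ
    (by apply LinearMap.ext; intro x; rfl) (by apply LinearMap.ext; intro x; rfl)
    (by apply LinearMap.ext; intro x; rfl) (by apply LinearMap.ext; intro x; rfl)
    (Submodule.injective_subtype _) (Submodule.injective_subtype _)
    (Submodule.mkQ_surjective _) (Submodule.mkQ_surjective _)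
    (by rw [Submodule.range_subtype, Submodule.ker_mkQ])
    (by rw [Submodule.range_subtype, Submodule.ker_mkQ])
    (Or.inl ⟨finI, hfin'⟩)
  obtain ⟨-, -, -, e2⟩ := s2
  rw [e1, e2, eK, eQ, zero_add, add_zero]

end Groth.Agent.Helper6.Herbrand
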