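import Mathlib
import Groth.Agent.Helper6.SuppDimInj
import Groth.Prelude.Def_CycAlg

set_option autoImplicit false

/-!
Two commuting injective endomorphisms of a one-dimensional module give an exact periodic complex on
the quotient by the image of their composite.
-/

namespace Groth.Agent.Helper6.Herbrand

open Function

universe u v

theorem main_S6476 {A : Type u} [CommRing A] [IsNoetherianRing A] [IsLocalRing A] {M : Type v}
    [AddCommGroup M] [Module A M] [Module.Finite A M] (hdim : Module.supportDim A M = 1)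
    (φ ψ : M →ₗ[A] M) (hφ : Injective φ) (hψ : Injective ψ)
    (hcomm : Submodule.map φ (LinearMap.range ψ) = Submodule.map ψ (LinearMap.range φ))
    (φ' ψ' : (M ⧸ LinearMap.range (φ ∘ₗ ψ)) →ₗ[A] (M ⧸ LinearMap.range (φ ∘ₗ ψ)))
    (hφ' : φ' ∘ₗ (LinearMap.range (φ ∘ₗ ψ)).mkQ = (LinearMap.range (φ ∘ₗ ψ)).mkQ ∘ₗ φ)
    (hψ' : ψ' ∘ₗ (LinearMap.range (φ ∘ₗ ψ)).mkQ = (LinearMap.range (φ ∘ₗ ψ)).mkQ ∘ₗ ψ) :
    Module.length A (M ⧸ LinearMap.range (φ ∘ₗ ψ)) < ⊤ ∧ CycAlg.IsPeriodic φ' ψ' ∧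
      Subsingleton (CycAlg.perH φ' ψ') ∧ Subsingleton (CycAlg.perH ψ' φ') := by
  have hφx : ∀ x : M, φ' (Submodule.Quotient.mk x) = Submodule.Quotient.mk (φ x) :=
    fun x => LinearMap.congr_fun hφ' x
  have hψx : ∀ x : M, ψ' (Submodule.Quotient.mk x) = Submodule.Quotient.mk (ψ x) :=
    fun x => LinearMap.congr_fun hψ' x
  have hswap : ∀ x : M, ∃ w : M, ψ (φ x) = φ (ψ w) := by
    intro x
    have : ψ (φ x) ∈ Submodule.map ψ (LinearMap.range φ) := ⟨φ x, ⟨x, rfl⟩, rfl⟩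
    rw [← hcomm] at this
    obtain ⟨y, ⟨w, rfl⟩, hy⟩ := this
    exact ⟨w, hy.symm⟩
  have hswap' : ∀ x : M, ∃ w : M, φ (ψ x) = ψ (φ w) := by
    intro x
    have : φ (ψ x) ∈ Submodule.map φ (LinearMap.range ψ) := ⟨ψ x, ⟨x, rfl⟩, rfl⟩
    rw [hcomm] at this
    obtain ⟨y, ⟨w, rfl⟩, hy⟩ := this
    exact ⟨w, hy.symm⟩
  refine ⟨?_, ⟨?_, ?_⟩, ?_, ?_⟩
  · exact lt_top_iff_ne_top.mpr
      (SuppDimInj.length_coker_ne_top_of_injective hdim.le (φ ∘ₗ ψ) (hφ.comp hψ))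
  · apply LinearMap.ext
    intro z
    obtain ⟨x, rfl⟩ := Submodule.Quotient.mk_surjective _ z
    rw [LinearMap.comp_apply, hψx, hφx, LinearMap.zero_apply, Submodule.Quotient.mk_eq_zero]
    exact ⟨x, rfl⟩
  · apply LinearMap.ext
    intro z
    obtain ⟨x, rfl⟩ := Submodule.Quotient.mk_surjective _ z
    rw [LinearMap.comp_apply, hφx, hψx, LinearMap.zero_apply, Submodule.Quotient.mk_eq_zero]
    obtain ⟨w, hw⟩ := hswap x
    exact ⟨w, hw.symm⟩
  · unfold CycAlg.perH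
    rw [Submodule.Quotient.subsingleton_iff, Submodule.submoduleOf_eq_top]
    intro z hz
    obtain ⟨x, rfl⟩ := Submodule.Quotient.mk_surjective _ z
    rw [LinearMap.mem_ker, hφx, Submodule.Quotient.mk_eq_zero] at hz
    obtain ⟨w, hw⟩ := hz
    have hx : x = ψ w := hφ hw.symm
    exact ⟨Submodule.Quotient.mk w, by rw [hψx, hx]⟩
  · unfold CycAlg.perH
    rw [Submodule.Quotient.subsingleton_iff, Submodule.submoduleOf_eq_top]
    intro z hz
    obtain ⟨x, rfl⟩ := Submodule.Quotient.mk_surjective _ z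
    rw [LinearMap.mem_ker, hψx, Submodule.Quotient.mk_eq_zero] at hz
    obtain ⟨w, hw⟩ := hz
    obtain ⟨w', hw'⟩ := hswap' w
    have hx : x = φ w' := by
      apply hψ
      rw [← hw, ← hw']
      rfl
    exact ⟨Submodule.Quotient.mk w', by rw [hφx, hx]⟩

end Groth.Agent.Helper6.Herbrand
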