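import Mathlib
import Groth.Agent.Helper6.SuppDimInj
import Groth.Agent.Helper6.Dim1Dist
import Groth.Prelude.Def_CycAlg

set_option autoImplicit false

/-!
The effect of multiplying one of the maps of a (2,1)-periodic complex by a ring element.
-/

namespace Groth.Agent.Helper6.Herbrand

open Function Groth.Agent.Helper6.Dim1
open scoped Pointwise

universe u v

section Alg

variable {R : Type u} [CommRing R] {M : Type v} [AddCommGroup M] [Module R M]
  (φ ψ : M →ₗ[R] M) (x : R)

/-- `H¹` of `(M, xφ, ψ)`. -/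
theorem length_perH_smul_right (h : ψ ∘ₗ φ = 0) :
    Module.length R (CycAlg.perH ψ (x • φ)) =
      Module.length R (CycAlg.perH (0 : ↥(LinearMap.range φ) →ₗ[R] ↥(LinearMap.range φ))
        (x • LinearMap.id)) + Module.length R (CycAlg.perH ψ φ) := by
  have hPN : LinearMap.range (x • φ) ≤ LinearMap.range φ := by
    rintro _ ⟨m, rfl⟩
    exact ⟨x • m, by simp⟩
  have hNM : LinearMap.range φ ≤ LinearMap.ker ψ := by
    rintro _ ⟨m, rfl⟩
    exact LinearMap.congr_fun h m
  have hchain := length_chain (LinearMap.range (x • φ)) (LinearMap.range φ) (LinearMap.ker ψ)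
    hPN hNM
  change Module.length R (↥(LinearMap.ker ψ) ⧸
    Submodule.comap (LinearMap.ker ψ).subtype (LinearMap.range (x • φ))) = _
  rw [hchain]
  congr 1
  -- identify the first term
  let I := LinearMap.range φ
  let T : Submodule R ↥I := LinearMap.ker (0 : ↥I →ₗ[R] ↥I)
  have hT : T = ⊤ := LinearMap.ker_zero
  let e : ↥T ≃ₗ[R] ↥I := LinearEquiv.ofTop T hT
  symm
  refine (Submodule.Quotient.equiv _ _ e ?_).length_eq
  ext y
  constructor
  · rintro ⟨z, hz, rfl⟩
    obtain ⟨w, hw⟩ := hz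
    obtain ⟨m, hm⟩ := w.2
    refine ⟨m, ?_⟩
    have h1 : (x • (LinearMap.id : ↥I →ₗ[R] ↥I)) w = T.subtype z := hw
    have h2 : ((e z : ↥I) : M) = x • (w : M) := by
      change ((T.subtype z : ↥I) : M) = _
      rw [← h1]
      rfl
    change (x • φ) m = ((e z : ↥I) : M)
    rw [h2, ← hm]
    rfl
  · rintro ⟨m, hm⟩
    refine ⟨e.symm y, ?_, by simp⟩
    refine ⟨⟨φ m, ⟨m, rfl⟩⟩, ?_⟩
    apply Subtype.ext
    change x • φ m = ((e.symm y : ↥T) : ↥I)
    have : ((e.symm y : ↥T) : ↥I) = y := by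
      change e (e.symm y) = y
      simp
    rw [this]
    exact hm

/-- `H⁰` of `(M, xφ, ψ)`. -/
theorem length_perH_smul_left (h : φ ∘ₗ ψ = 0) :
    Module.length R (CycAlg.perH (x • φ) ψ) =
      Module.length R (CycAlg.perH φ ψ) +
        Module.length R (CycAlg.perH (x • (LinearMap.id : ↥(LinearMap.range φ) →ₗ[R] _))
          (0 : ↥(LinearMap.range φ) →ₗ[R] ↥(LinearMap.range φ))) := by
  have hPN : LinearMap.range ψ ≤ LinearMap.ker φ := by
    rintro _ ⟨m, rfl⟩
    exact LinearMap.congr_fun h m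
  have hNM : LinearMap.ker φ ≤ LinearMap.ker (x • φ) := by
    intro m hm
    rw [LinearMap.mem_ker] at hm ⊢
    rw [LinearMap.smul_apply, hm, smul_zero]
  have hchain := length_chain (LinearMap.range ψ) (LinearMap.ker φ) (LinearMap.ker (x • φ))
    hPN hNM
  change Module.length R (↥(LinearMap.ker (x • φ)) ⧸
    Submodule.comap (LinearMap.ker (x • φ)).subtype (LinearMap.range ψ)) = _
  rw [hchain]
  congr 1
  let I := LinearMap.range φ
  let K : Submodule R ↥I := LinearMap.ker (x • (LinearMap.id : ↥I →ₗ[R] ↥I))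
  -- the map `ker (xφ) → I[x]`
  let γ₀ : ↥(LinearMap.ker (x • φ)) →ₗ[R] ↥I :=
    (φ.rangeRestrict).comp (LinearMap.ker (x • φ)).subtype
  have hγ₀ : ∀ m, γ₀ m ∈ K := by
    intro m
    rw [LinearMap.mem_ker]
    apply Subtype.ext
    exact m.2
  let γ : ↥(LinearMap.ker (x • φ)) →ₗ[R] ↥K := γ₀.codRestrict K hγ₀
  have hγsurj : Surjective γ := by
    rintro ⟨⟨y, m, rfl⟩, hy⟩
    have hm : m ∈ LinearMap.ker (x • φ) := by
      rw [LinearMap.mem_ker] at hy ⊢
      exact congrArg Subtype.val hy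
    exact ⟨⟨m, hm⟩, rfl⟩
  have hγker : LinearMap.ker γ =
      Submodule.comap (LinearMap.ker (x • φ)).subtype (LinearMap.ker φ) := by
    ext m
    rw [LinearMap.mem_ker, Submodule.mem_comap, LinearMap.mem_ker]
    constructor
    · intro hm
      have := congrArg (fun z : ↥K => ((z : ↥I) : M)) hm
      exact this
    · intro hm
      apply Subtype.ext
      apply Subtype.ext
      exact hm
  have e1 : (↥(LinearMap.ker (x • φ)) ⧸
      Submodule.comap (LinearMap.ker (x • φ)).subtype (LinearMap.ker φ)) ≃ₗ[R] ↥K :=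
    (Submodule.quotEquivOfEq _ _ hγker.symm).trans (LinearMap.quotKerEquivOfSurjective γ hγsurj)
  have hbot : (LinearMap.range (0 : ↥I →ₗ[R] ↥I)).submoduleOf K = ⊥ := by
    rw [LinearMap.range_zero]
    ext z
    change (z : ↥I) ∈ (⊥ : Submodule R ↥I) ↔ z ∈ (⊥ : Submodule R ↥K)
    rw [Submodule.mem_bot, Submodule.mem_bot]
    exact ⟨fun h => Subtype.ext h, fun h => congrArg Subtype.val h⟩
  have e2 : (↥K ⧸ (LinearMap.range (0 : ↥I →ₗ[R] ↥I)).submoduleOf K) ≃ₗ[R] ↥K :=
    Submodule.quotEquivOfEqBot _ hbot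
  exact (e1.trans e2.symm).length_eq

end Alg

section Fin

variable {R : Type u} [CommRing R] [IsNoetherianRing R] [IsLocalRing R] {M : Type v}
  [AddCommGroup M] [Module R M] [Module.Finite R M]

/-- a finite module killed by `x` with support inside that of `M` has finite length. -/
theorem length_ne_top_of_smul_eq_zero (x : R)
    (hx : Module.supportDim R (M ⧸ x • (⊤ : Submodule R M)) ≤ 0)
    (N : Type v) [AddCommGroup N] [Module R N] [Module.Finite R N]
    (hN : ∀ n : N, x • n = 0) (hsupp : Module.support R N ⊆ Module.support R M) :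
    Module.length R N ≠ ⊤ := by
  apply SuppDimInj.length_ne_top_of_support_maximal'
  intro p hp
  have hxp : x ∈ p.asIdeal := by
    apply Module.annihilator_le_of_mem_support hp
    rw [Module.mem_annihilator]
    exact hN
  have hp' : p ∈ Module.support R (QuotSMulTop x M) := by
    rw [Module.support_quotSMulTop]
    refine ⟨hsupp hp, ?_⟩
    rw [PrimeSpectrum.mem_zeroLocus]
    intro y hy
    rw [Set.mem_singleton_iff] at hy
    rw [hy]
    exact hxp
  let m : PrimeSpectrum R := IsLocalRing.closedPoint R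
  have hple : p ≤ m := IsLocalRing.le_maximalIdeal p.isPrime.ne_top
  have hm' : m ∈ Module.support R (QuotSMulTop x M) := Module.mem_support_mono hple hp'
  have hx' : Module.supportDim R (QuotSMulTop x M) ≤ 0 := hx
  unfold Module.supportDim at hx'
  have hmax := (Order.krullDim_nonpos_iff_forall_isMax.mp hx')
    (⟨p, hp'⟩ : ↥(Module.support R (QuotSMulTop x M)))
  have hle : (⟨m, hm'⟩ : ↥(Module.support R (QuotSMulTop x M))) ≤ ⟨p, hp'⟩ :=
    hmax (b := ⟨m, hm'⟩) hple
  have hpm : p = m := le_antisymm hple hle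
  rw [hpm]
  exact IsLocalRing.maximalIdeal.isMaximal R

theorem length_perH_zero_smul_lt_top (x : R)
    (hx : Module.supportDim R (M ⧸ x • (⊤ : Submodule R M)) ≤ 0) (I : Submodule R M) :
    Module.length R (CycAlg.perH (0 : ↥I →ₗ[R] ↥I) (x • LinearMap.id)) < ⊤ := by
  haveI : IsNoetherian R M := isNoetherian_of_isNoetherianRing_of_finite R M
  rw [lt_top_iff_ne_top]
  apply length_ne_top_of_smul_eq_zero (M := M) x hx
  · intro n
    obtain ⟨z, rfl⟩ := Submodule.Quotient.mk_surjective _ n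
    rw [← Submodule.Quotient.mk_smul, Submodule.Quotient.mk_eq_zero]
    exact ⟨z.1, rfl⟩
  · intro p hp
    have h1 := Module.support_subset_of_surjective _ (Submodule.mkQ_surjective _) hp
    have h2 := Module.support_subset_of_injective _ (Submodule.injective_subtype _) h1
    exact Module.support_subset_of_injective _ (Submodule.injective_subtype _) h2

theorem length_perH_smul_zero_lt_top (x : R)
    (hx : Module.supportDim R (M ⧸ x • (⊤ : Submodule R M)) ≤ 0) (I : Submodule R M) :
    Module.length R (CycAlg.perH (x • (LinearMap.id : ↥I →ₗ[R] ↥I)) (0 : ↥I →ₗ[R] ↥I)) < ⊤ := by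
  haveI : IsNoetherian R M := isNoetherian_of_isNoetherianRing_of_finite R M
  rw [lt_top_iff_ne_top]
  apply length_ne_top_of_smul_eq_zero (M := M) x hx
  · intro n
    obtain ⟨z, rfl⟩ := Submodule.Quotient.mk_surjective _ n
    rw [← Submodule.Quotient.mk_smul]
    have : x • z = 0 := by
      apply Subtype.ext
      exact z.2
    rw [this, Submodule.Quotient.mk_zero]
  · intro p hp
    have h1 := Module.support_subset_of_surjective _ (Submodule.mkQ_surjective _) hp
    have h2 := Module.support_subset_of_injective _ (Submodule.injective_subtype _) h1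
    exact Module.support_subset_of_injective _ (Submodule.injective_subtype _) h2

end Fin

section Main

variable {R : Type u} [CommRing R] [IsNoetherianRing R] [IsLocalRing R] {M : Type v}
  [AddCommGroup M] [Module R M] [Module.Finite R M]

theorem smul_left_formula (φ ψ : M →ₗ[R] M) (hper : CycAlg.IsPeriodic φ ψ)
    (hfin : CycAlg.FinCoh R φ ψ) (x : R)
    (hx : Module.supportDim R (M ⧸ x • (⊤ : Submodule R M)) ≤ 0) :
    CycAlg.FinCoh R (x • φ) ψ ∧ CycAlg.herbrand R (x • φ) ψ = CycAlg.herbrand R φ ψ -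
      CycAlg.herbrand R (0 : ↥(LinearMap.range φ) →ₗ[R] ↥(LinearMap.range φ))
        (x • LinearMap.id) := by
  have e0 := length_perH_smul_left φ ψ x hper.1
  have e1 := length_perH_smul_right φ ψ x hper.2
  have hd := length_perH_zero_smul_lt_top x hx (LinearMap.range φ)
  have hc := length_perH_smul_zero_lt_top x hx (LinearMap.range φ)
  obtain ⟨ha, hb⟩ := hfin
  unfold CycAlg.FinCoh CycAlg.herbrand
  rw [e0, e1]
  clear e0 e1
  generalize Module.length R (CycAlg.perH φ ψ) = a at *
  generalize Module.length R (CycAlg.perH ψ φ) = b at *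
  generalize Module.length R (CycAlg.perH (0 : ↥(LinearMap.range φ) →ₗ[R] ↥(LinearMap.range φ))
    (x • LinearMap.id)) = d at *
  generalize Module.length R (CycAlg.perH (x • (LinearMap.id : ↥(LinearMap.range φ) →ₗ[R] _))
    (0 : ↥(LinearMap.range φ) →ₗ[R] ↥(LinearMap.range φ))) = c at *
  constructor
  · exact ⟨ENat.add_lt_top.mpr ⟨ha, hc⟩, ENat.add_lt_top.mpr ⟨hd, hb⟩⟩
  · lift a to ℕ using ha.ne
    lift b to ℕ using hb.ne
    lift c to ℕ using hc.ne
    lift d to ℕ using hd.ne
    have h1 : ((a : ℕ∞) + (c : ℕ∞)).toNat = a + c := by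
      rw [← Nat.cast_add, ENat.toNat_natCast]
    have h2 : ((d : ℕ∞) + (b : ℕ∞)).toNat = d + b := by
      rw [← Nat.cast_add, ENat.toNat_natCast]
    rw [h1, h2]
    simp only [ENat.toNat_natCast]
    push_cast
    ring

theorem main_S1832 (φ ψ : M →ₗ[R] M) (hper : CycAlg.IsPeriodic φ ψ)
    (hfin : CycAlg.FinCoh R φ ψ) (x : R)
    (hx : Module.supportDim R (M ⧸ x • (⊤ : Submodule R M)) ≤ 0) :
    (CycAlg.FinCoh R (x • φ) ψ ∧ CycAlg.herbrand R (x • φ) ψ = CycAlg.herbrand R φ ψ -
      CycAlg.herbrand R (0 : ↥(LinearMap.range φ) →ₗ[R] ↥(LinearMap.range φ))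
        (x • LinearMap.id)) ∧
    (CycAlg.FinCoh R φ (x • ψ) ∧ CycAlg.herbrand R φ (x • ψ) = CycAlg.herbrand R φ ψ +
      CycAlg.herbrand R (0 : ↥(LinearMap.range ψ) →ₗ[R] ↥(LinearMap.range ψ))
        (x • LinearMap.id)) := by
  refine ⟨smul_left_formula φ ψ hper hfin x hx, ?_⟩
  obtain ⟨hF, hE⟩ := smul_left_formula ψ φ ⟨hper.2, hper.1⟩ ⟨hfin.2, hfin.1⟩ x hx
  refine ⟨⟨hF.2, hF.1⟩, ?_⟩
  have hswap : ∀ (f g : M →ₗ[R] M), CycAlg.herbrand R f g = - CycAlg.herbrand R g f := by
    intro f g
    unfold CycAlg.herbrand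
    ring
  rw [hswap φ (x • ψ), hE, hswap φ ψ]
  ring

end Main

end Groth.Agent.Helper6.Herbrand
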