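import Mathlib
import Groth.Agent.Helper6.Herbrand7

set_option autoImplicit false

/-!
The Herbrand quotient of `(M, φ^i, φ^(n-i))` for a nilpotent endomorphism vanishes.
-/

namespace Groth.Agent.Helper6.Herbrand

open Function

universe u v

section Arith

theorem sum_reflect_shift (b : ℕ → ℕ∞) (n i : ℕ) (hi : i ≤ n) :
    ∑ k ∈ Finset.range i, b (n - 1 - k) + ∑ k ∈ Finset.range (n - i), b k =
      ∑ k ∈ Finset.range n, b k := by
  have hn : n = (n - i) + i := by omega
  conv_rhs => rw [hn, Finset.sum_range_add]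
  rw [add_comm]
  congr 1
  rw [← Finset.sum_range_reflect (fun k => b (n - i + k)) i]
  refine Finset.sum_congr rfl (fun k hk => ?_)
  rw [Finset.mem_range] at hk
  congr 1
  omega

theorem nilp_arith (n : ℕ) (a b c : ℕ → ℕ∞) (ha0 : a 0 = 0) (hb0 : b 0 = 0) (hc0 : c 0 = 0)
    (hbc : ∀ j, b (j + 1) + c j = b j + c (j + 1))
    (hab : ∀ j, j + 1 ≤ n → a (j + 1) + b j = a j + c (n - j - 1))
    (hc : ∀ j, j + 1 ≤ n → c j ≠ ⊤) (i : ℕ) (hi : i ≤ n) :
    a i ≠ ⊤ ∧ a i = a (n - i) := by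
  -- step 1
  have hbeq : ∀ j, j + 1 ≤ n → b j = c j := by
    intro j
    induction j with
    | zero => intro _; rw [hb0, hc0]
    | succ j ih =>
      intro hj
      have h1 := hbc j
      rw [ih (by omega), add_comm (c j)] at h1
      exact ENat.add_left_injective_of_ne_top (hc j (by omega)) h1
  have hbfin : ∀ j, j + 1 ≤ n → b j ≠ ⊤ := fun j hj => by rw [hbeq j hj]; exact hc j hj
  have hab' : ∀ j, j + 1 ≤ n → a (j + 1) + b j = a j + b (n - 1 - j) := by
    intro j hj
    rw [hab j hj, ← hbeq (n - j - 1) (by omega)]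
    congr 2
    omega
  -- step 3
  have hsum : ∀ j, j ≤ n → a j + ∑ k ∈ Finset.range j, b k =
      ∑ k ∈ Finset.range j, b (n - 1 - k) := by
    intro j
    induction j with
    | zero => intro _; simp [ha0]
    | succ j ih =>
      intro hj
      rw [Finset.sum_range_succ, Finset.sum_range_succ, ← ih (by omega)]
      calc a (j + 1) + (∑ k ∈ Finset.range j, b k + b j)
          = (a (j + 1) + b j) + ∑ k ∈ Finset.range j, b k := by ring
        _ = (a j + b (n - 1 - j)) + ∑ k ∈ Finset.range j, b k := by rw [hab' j hj]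
        _ = a j + ∑ k ∈ Finset.range j, b k + b (n - 1 - j) := by ring
  have hSfin : ∀ j, j ≤ n → ∑ k ∈ Finset.range j, b k ≠ ⊤ := by
    intro j hj
    rw [ne_eq, ENat.sum_eq_top]
    push Not
    intro k hk
    rw [Finset.mem_range] at hk
    exact hbfin k (by omega)
  have hTfin : ∀ j, j ≤ n → ∑ k ∈ Finset.range j, b (n - 1 - k) ≠ ⊤ := by
    intro j hj
    rw [ne_eq, ENat.sum_eq_top]
    push Not
    intro k hk
    rw [Finset.mem_range] at hk
    exact hbfin (n - 1 - k) (by omega)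
  have hafin : ∀ j, j ≤ n → a j ≠ ⊤ := by
    intro j hj htop
    have := hsum j hj
    rw [htop, top_add] at this
    exact hTfin j hj this.symm
  refine ⟨hafin i hi, ?_⟩
  have hi' : n - i ≤ n := Nat.sub_le n i
  have hni : n - (n - i) = i := Nat.sub_sub_self hi
  have e1 : a i + (∑ k ∈ Finset.range i, b k + ∑ k ∈ Finset.range (n - i), b k) =
      ∑ k ∈ Finset.range n, b k := by
    rw [← add_assoc, hsum i hi]
    exact sum_reflect_shift b n i hi
  have e2 : a (n - i) + (∑ k ∈ Finset.range i, b k + ∑ k ∈ Finset.range (n - i), b k) =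
      ∑ k ∈ Finset.range n, b k := by
    rw [add_comm (∑ k ∈ Finset.range i, b k), ← add_assoc, hsum (n - i) hi']
    have := sum_reflect_shift b n (n - i) hi'
    rw [hni] at this
    exact this
  have hfin : ∑ k ∈ Finset.range i, b k + ∑ k ∈ Finset.range (n - i), b k ≠ ⊤ := by
    simp only [ne_eq, ENat.add_eq_top, not_or]
    exact ⟨hSfin i hi, hSfin (n - i) hi'⟩
  exact ENat.add_left_injective_of_ne_top hfin (e1.trans e2.symm)

end Arith

section Main

variable {R : Type u} [CommRing R] {M : Type v} [AddCommGroup M] [Module R M]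

theorem main_S1831 (φ : M →ₗ[R] M) (n : ℕ) (_hn : 0 < n) (hφ : φ ^ n = 0)
    (hfin : Module.length R (CycAlg.perH φ (φ ^ (n - 1))) < ⊤) (i : ℕ) (hi : i ≤ n) :
    CycAlg.FinCoh R (φ ^ i) (φ ^ (n - i)) ∧ CycAlg.herbrand R (φ ^ i) (φ ^ (n - i)) = 0 := by
  have hfin' : ilen (I φ (n - 1)) (K φ 1) ≠ ⊤ := by
    have : ilen (I φ (n - 1)) (K φ 1) = Module.length R (CycAlg.perH φ (φ ^ (n - 1))) := by
      unfold ilen CycAlg.perH I
      rw [← ker_eq_K_one]
    rw [this]
    exact hfin.ne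
  have key : ∀ j, j ≤ n → aa φ n j ≠ ⊤ ∧ aa φ n j = aa φ n (n - j) := fun j hj =>
    nilp_arith n (aa φ n) (bb φ) (cc φ) (aa_zero φ n) (bb_zero φ) (cc_zero φ) (rel_bc φ)
      (fun j hj => rel_ab φ hφ j hj)
      (fun j hj => ne_top_of_le_ne_top hfin' (cc_le φ hφ j hj)) j hj
  have h0 : Module.length R (CycAlg.perH (φ ^ i) (φ ^ (n - i))) = aa φ n i := rfl
  have h1 : Module.length R (CycAlg.perH (φ ^ (n - i)) (φ ^ i)) = aa φ n (n - i) := by
    unfold aa ilen CycAlg.perH I K
    rw [Nat.sub_sub_self hi]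
  obtain ⟨k1, k2⟩ := key i hi
  obtain ⟨k3, -⟩ := key (n - i) (Nat.sub_le n i)
  constructor
  · unfold CycAlg.FinCoh
    rw [h0, h1]
    exact ⟨lt_top_iff_ne_top.mpr k1, lt_top_iff_ne_top.mpr k3⟩
  · unfold CycAlg.herbrand
    rw [h0, h1, ← k2, sub_self]

end Main

end Groth.Agent.Helper6.Herbrand
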