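import Mathlib
import Groth.Prelude.Def_CAlg
import Groth.Prelude.Def_CAlgX

universe u

namespace Groth.Agent.Helper6.HilbBurch

open Matrix
open scoped Pointwise

/-- the maximal minors of a `(t+1) × t` matrix -/
noncomputable def Δ {R : Type u} [CommRing R] {t : ℕ} (Ψ : Matrix (Fin (t + 1)) (Fin t) R)
    (i : Fin (t + 1)) : R := (Ψ.submatrix i.succAbove id).det

theorem minor_mem {R : Type u} [CommRing R] {t : ℕ} (Ψ : Matrix (Fin (t + 1)) (Fin t) R)
    (f : Fin t → Fin (t + 1)) (g : Fin t → Fin t) :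
    (Ψ.submatrix f g).det ∈ Ideal.span (Set.range (Δ Ψ)) := by
  classical
  by_cases hg : Function.Injective g
  · by_cases hf : Function.Injective f
    · -- f misses some i
      have hmiss : ∃ i, i ∉ Set.range f := by
        by_contra hcon
        push Not at hcon
        have hsurj : Function.Surjective f := fun i => hcon i
        have := Fintype.card_le_of_surjective f hsurj
        simp at this
      obtain ⟨i, hi⟩ := hmiss
      have hne : ∀ k, f k ≠ i := fun k hk => hi ⟨k, hk⟩
      choose τ hτ using fun k => Fin.exists_succAbove_eq (hne k)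
      have hτinj : Function.Injective τ := by
        intro a b hab
        apply hf
        rw [← hτ a, ← hτ b, hab]
      let τe : Equiv.Perm (Fin t) := Equiv.ofBijective τ (Finite.injective_iff_bijective.mp hτinj)
      let ge : Equiv.Perm (Fin t) := Equiv.ofBijective g (Finite.injective_iff_bijective.mp hg)
      have e1 : Ψ.submatrix f g = ((Ψ.submatrix i.succAbove id).submatrix τe id).submatrix id ge := by
        ext a b
        simp only [submatrix_apply, id_eq]
        rw [← hτ a]
        rfl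
      rw [e1, det_permute', det_permute]
      apply Ideal.mul_mem_left
      apply Ideal.mul_mem_left
      exact Ideal.subset_span ⟨i, rfl⟩
    · have : ∃ a b, a ≠ b ∧ f a = f b := by
        simp only [Function.Injective] at hf
        push Not at hf
        obtain ⟨a, b, h1, h2⟩ := hf
        exact ⟨a, b, h2, h1⟩
      obtain ⟨a, b, hab, hfab⟩ := this
      rw [det_zero_of_row_eq hab (by ext k; simp [submatrix_apply, hfab])]
      exact zero_mem _
  · have : ∃ a b, a ≠ b ∧ g a = g b := by
      simp only [Function.Injective] at hg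
      push Not at hg
      obtain ⟨a, b, h1, h2⟩ := hg
      exact ⟨a, b, h2, h1⟩
    obtain ⟨a, b, hab, hgab⟩ := this
    rw [det_zero_of_column_eq hab (by intro k; simp [submatrix_apply, hgab])]
    exact zero_mem _

theorem minorIdeal_eq {R : Type u} [CommRing R] {t : ℕ} (Ψ : Matrix (Fin (t + 1)) (Fin t) R) :
    CAlgX.minorIdeal Ψ t = Ideal.span (Set.range (Δ Ψ)) := by
  apply le_antisymm
  · rw [CAlgX.minorIdeal, Ideal.span_le]
    rintro _ ⟨⟨f, g⟩, rfl⟩
    exact minor_mem Ψ f g
  · rw [Ideal.span_le]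
    rintro _ ⟨i, rfl⟩
    exact Ideal.subset_span ⟨(i.succAbove, id), rfl⟩

/-- kernel elements are killed by maximal minors -/
theorem minor_smul_ker {R : Type u} [CommRing R] {t : ℕ} (Ψ : Matrix (Fin (t + 1)) (Fin t) R)
    (v : Fin t → R) (hv : Ψ *ᵥ v = 0) (j : Fin (t + 1)) : Δ Ψ j • v = 0 := by
  have h0 : (Ψ.submatrix j.succAbove id) *ᵥ v = 0 := by
    ext k
    have := congrFun hv (j.succAbove k)
    simpa [mulVec, dotProduct, submatrix_apply] using this
  have := congrArg (fun w => (adjugate (Ψ.submatrix j.succAbove id)) *ᵥ w) h0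
  simp only [mulVec_mulVec, adjugate_mul, mulVec_zero] at this
  rw [smul_mulVec, one_mulVec] at this
  exact this

/-- the augmented square matrix `[Ψ | v]` -/
def aug {R : Type u} [CommRing R] {t : ℕ} (Ψ : Matrix (Fin (t + 1)) (Fin t) R)
    (v : Fin (t + 1) → R) : Matrix (Fin (t + 1)) (Fin (t + 1)) R :=
  fun i => Fin.snoc (α := fun _ => R) (Ψ i) (v i)

theorem aug_sub {R : Type u} [CommRing R] {t : ℕ} (Ψ : Matrix (Fin (t + 1)) (Fin t) R)
    (v : Fin (t + 1) → R) (i : Fin (t + 1)) :
    ((aug Ψ v).submatrix i.succAbove (Fin.last t).succAbove).det = Δ Ψ i := by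
  unfold Δ
  congr 1
  ext a b
  simp [aug, submatrix_apply, Fin.succAbove_last]

theorem det_aug {R : Type u} [CommRing R] {t : ℕ} (Ψ : Matrix (Fin (t + 1)) (Fin t) R)
    (v : Fin (t + 1) → R) :
    (aug Ψ v).det = (-1) ^ t * ∑ i, v i * ((-1) ^ (i : ℕ) * Δ Ψ i) := by
  rw [det_succ_column _ (Fin.last t), Finset.mul_sum]
  apply Finset.sum_congr rfl
  intro i _
  rw [aug_sub]
  have : aug Ψ v i (Fin.last t) = v i := by simp [aug]
  rw [this, Fin.val_last, pow_add]
  ring

theorem minor_smul_mem {R : Type u} [CommRing R] {t : ℕ} (Ψ : Matrix (Fin (t + 1)) (Fin t) R)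
    (v : Fin (t + 1) → R) (hv : ∑ i, v i * ((-1) ^ (i : ℕ) * Δ Ψ i) = 0) (j : Fin (t + 1)) :
    ∃ w : Fin t → R, Δ Ψ j • v = Ψ *ᵥ w := by
  have hdet : (aug Ψ v).det = 0 := by rw [det_aug, hv, mul_zero]
  have hmul := mul_adjugate (aug Ψ v)
  rw [hdet, zero_smul] at hmul
  let w : Fin t → R := fun k => adjugate (aug Ψ v) (Fin.castSucc k) j
  have hlast : adjugate (aug Ψ v) (Fin.last t) j = (-1) ^ ((j : ℕ) + t) * Δ Ψ j := by
    rw [adjugate_fin_succ_eq_det_submatrix, aug_sub, Fin.val_last]
  refine ⟨(-((-1) ^ ((j : ℕ) + t))) • w, ?_⟩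
  ext i
  have hi := congrFun (congrFun hmul i) j
  rw [mul_apply, Fin.sum_univ_castSucc, hlast] at hi
  rw [Matrix.zero_apply] at hi
  have h1 : ∀ k : Fin t, aug Ψ v i (Fin.castSucc k) = Ψ i k := by intro k; simp [aug]
  have h2 : aug Ψ v i (Fin.last t) = v i := by simp [aug]
  simp only [h1, h2] at hi
  have hsq : ((-1 : R) ^ ((j : ℕ) + t)) * ((-1) ^ ((j : ℕ) + t)) = 1 := by
    rw [← pow_add, ← two_mul, pow_mul]; simp
  have hw : ∑ k, Ψ i k * w k = -(v i * ((-1) ^ ((j : ℕ) + t) * Δ Ψ j)) := by
    rw [eq_neg_iff_add_eq_zero]; exact hi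
  rw [mulVec_smul]
  simp only [Pi.smul_apply, smul_eq_mul, mulVec, dotProduct]
  rw [hw]
  linear_combination (-(Δ Ψ j * v i)) * hsq


/-- extracting a usable "regular pair" from `2 ≤ depth_I R` -/
theorem exists_pair {R : Type u} [CommRing R] (I : Ideal R) (h : 2 ≤ LocCoh.idealDepth I R) :
    ∃ x ∈ I, ∃ y ∈ I, (∀ m : R, x * m = 0 → m = 0) ∧
      ∀ m n : R, y * m = x * n → ∃ u, m = x * u := by
  unfold LocCoh.idealDepth at h
  split_ifs at h with htop
  · have hI : I = ⊤ := by
      have : I • (⊤ : Submodule R R) = I := by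
        rw [smul_eq_mul, Ideal.mul_top]
      rw [this] at htop
      exact htop
    refine ⟨1, hI ▸ Submodule.mem_top, 1, hI ▸ Submodule.mem_top, fun m hm => by simpa using hm,
      fun m n hmn => ⟨m, by simp⟩⟩
  · have hex : ∃ rs : List R, (RingTheory.Sequence.IsWeaklyRegular R rs ∧ ∀ r ∈ rs, r ∈ I) ∧
        2 ≤ rs.length := by
      by_contra hcon
      push Not at hcon
      have : (⨆ (rs : List R) (_ : RingTheory.Sequence.IsWeaklyRegular R rs ∧ ∀ r ∈ rs, r ∈ I),
          (rs.length : ℕ∞)) ≤ 1 := by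
        apply iSup₂_le
        intro rs hrs
        have := hcon rs hrs
        have h1 : rs.length ≤ 1 := by omega
        exact_mod_cast h1
      have := h.trans this
      norm_num at this
    obtain ⟨rs, ⟨hreg, hmem⟩, hlen⟩ := hex
    match rs, hreg, hmem, hlen with
    | x :: y :: rest, hreg, hmem, _ =>
      rw [RingTheory.Sequence.isWeaklyRegular_cons_iff, RingTheory.Sequence.isWeaklyRegular_cons_iff] at hreg
      obtain ⟨hx, hy, -⟩ := hreg
      refine ⟨x, hmem x (by simp), y, hmem y (by simp), ?_, ?_⟩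
      · intro m hm
        apply hx
        simpa using hm
      · intro m n hmn
        have h0 : y • (Submodule.Quotient.mk m : QuotSMulTop x R) = 0 := by
          rw [← Submodule.Quotient.mk_smul, Submodule.Quotient.mk_eq_zero]
          rw [Submodule.mem_smul_pointwise_iff_exists]
          exact ⟨n, Submodule.mem_top, by simpa [smul_eq_mul] using hmn.symm⟩
        have h1 : (Submodule.Quotient.mk m : QuotSMulTop x R) = 0 := by
          apply hy
          simpa using h0
        rw [Submodule.Quotient.mk_eq_zero, Submodule.mem_smul_pointwise_iff_exists] at h1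
        obtain ⟨u, -, hu⟩ := h1
        exact ⟨u, by simpa [smul_eq_mul] using hu.symm⟩

/-- the complex property: columns of `Ψ` are killed by the signed minors -/
theorem col_sum_zero {R : Type u} [CommRing R] {t : ℕ} (Ψ : Matrix (Fin (t + 1)) (Fin t) R)
    (k : Fin t) : ∑ i, Ψ i k * ((-1) ^ (i : ℕ) * Δ Ψ i) = 0 := by
  have hdet : (aug Ψ (fun i => Ψ i k)).det = 0 := by
    apply det_zero_of_column_eq (i := Fin.castSucc k) (j := Fin.last t) (Fin.castSucc_lt_last k).ne
    intro i
    simp [aug]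
  rw [det_aug] at hdet
  have hu : IsUnit ((-1 : R) ^ t) := (isUnit_one.neg).pow t
  exact (hu.mul_right_eq_zero).mp hdet

theorem main {R : Type u} [CommRing R] (t : ℕ)
    (Ψ : Matrix (Fin (t + 1)) (Fin t) R) (hdepth : 2 ≤ LocCoh.idealDepth (CAlgX.minorIdeal Ψ t) R)
    (a : R) (ha : a ∈ nonZeroDivisors R) :
    LinearMap.ker Ψ.mulVecLin = ⊥ ∧
      LinearMap.ker (Fintype.linearCombination R
          (fun i : Fin (t + 1) => a * ((-1 : R) ^ (i : ℕ) * (Ψ.submatrix i.succAbove id).det))) =
        LinearMap.range Ψ.mulVecLin ∧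
      LinearMap.range (Fintype.linearCombination R
          (fun i : Fin (t + 1) => a * ((-1 : R) ^ (i : ℕ) * (Ψ.submatrix i.succAbove id).det))) =
        Ideal.span {a} * CAlgX.minorIdeal Ψ t := by
  obtain ⟨x, hxI, y, hyI, hx, hxy⟩ := exists_pair _ hdepth
  rw [minorIdeal_eq] at hxI hyI
  -- injectivity
  have hker : ∀ v : Fin t → R, Ψ *ᵥ v = 0 → v = 0 := by
    intro v hv
    have hI : ∀ r ∈ Ideal.span (Set.range (Δ Ψ)), r • v = 0 := by
      intro r hr
      induction hr using Submodule.span_induction with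
      | mem r hr => obtain ⟨j, rfl⟩ := hr; exact minor_smul_ker Ψ v hv j
      | zero => simp
      | add r s _ _ h1 h2 => rw [add_smul, h1, h2, add_zero]
      | smul c r _ h1 => rw [smul_eq_mul, mul_smul, h1, smul_zero]
    have := hI x hxI
    ext k
    exact hx _ (by simpa using congrFun this k)
  have hpi : ∀ v : Fin (t + 1) → R, Fintype.linearCombination R
      (fun i : Fin (t + 1) => a * ((-1 : R) ^ (i : ℕ) * (Ψ.submatrix i.succAbove id).det)) v =
      a * ∑ i, v i * ((-1) ^ (i : ℕ) * Δ Ψ i) := by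
    intro v
    rw [Fintype.linearCombination_apply, Finset.mul_sum]
    apply Finset.sum_congr rfl
    intro i _
    simp only [smul_eq_mul, Δ]
    ring
  refine ⟨?_, ?_, ?_⟩
  · rw [LinearMap.ker_eq_bot']
    intro v hv
    exact hker v hv
  · apply le_antisymm
    · intro v hv
      rw [LinearMap.mem_ker, hpi] at hv
      have hv0 : ∑ i, v i * ((-1) ^ (i : ℕ) * Δ Ψ i) = 0 := by
        have := (mem_nonZeroDivisors_iff.mp ha).2 _ (by rw [mul_comm]; exact hv)
        exact this
      have hI : ∀ r ∈ Ideal.span (Set.range (Δ Ψ)), ∃ w : Fin t → R, r • v = Ψ *ᵥ w := by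
        intro r hr
        induction hr using Submodule.span_induction with
        | mem r hr => obtain ⟨j, rfl⟩ := hr; exact minor_smul_mem Ψ v hv0 j
        | zero => exact ⟨0, by simp⟩
        | add r s _ _ h1 h2 =>
          obtain ⟨w1, h1⟩ := h1
          obtain ⟨w2, h2⟩ := h2
          exact ⟨w1 + w2, by rw [add_smul, h1, h2, mulVec_add]⟩
        | smul c r _ h1 =>
          obtain ⟨w1, h1⟩ := h1
          exact ⟨c • w1, by rw [smul_eq_mul, mul_smul, h1, mulVec_smul]⟩
      obtain ⟨wx, hwx⟩ := hI x hxI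
      obtain ⟨wy, hwy⟩ := hI y hyI
      have h0 : y • wx = x • wy := by
        have : Ψ *ᵥ (y • wx - x • wy) = 0 := by
          rw [mulVec_sub, mulVec_smul, mulVec_smul, ← hwx, ← hwy, smul_smul, smul_smul, mul_comm,
            sub_self]
        exact sub_eq_zero.mp (hker _ this)
      have hu : ∀ k, ∃ u, wx k = x * u := fun k =>
        hxy (wx k) (wy k) (by simpa using congrFun h0 k)
      choose u hu using hu
      have hwx' : wx = x • u := by ext k; simpa using hu k
      refine ⟨u, ?_⟩
      rw [mulVecLin_apply]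
      rw [hwx', mulVec_smul] at hwx
      ext i
      have := congrFun hwx i
      simp only [Pi.smul_apply, smul_eq_mul] at this
      have h2 : x * (v i - (Ψ *ᵥ u) i) = 0 := by rw [mul_sub, this, sub_self]
      exact (sub_eq_zero.mp (hx _ h2)).symm
    · rintro _ ⟨w, rfl⟩
      rw [LinearMap.mem_ker, hpi, mulVecLin_apply]
      have : ∑ i, (Ψ *ᵥ w) i * ((-1) ^ (i : ℕ) * Δ Ψ i) = 0 := by
        simp only [mulVec, dotProduct, Finset.sum_mul]
        rw [Finset.sum_comm]
        apply Finset.sum_eq_zero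
        intro k _
        have := col_sum_zero Ψ k
        calc ∑ i, Ψ i k * w k * ((-1) ^ (i : ℕ) * Δ Ψ i)
            = w k * ∑ i, Ψ i k * ((-1) ^ (i : ℕ) * Δ Ψ i) := by
              rw [Finset.mul_sum]; apply Finset.sum_congr rfl; intro i _; ring
          _ = 0 := by rw [this, mul_zero]
      rw [this, mul_zero]
  · rw [Fintype.range_linearCombination, minorIdeal_eq, Ideal.span_mul_span']
    apply le_antisymm
    · rw [Submodule.span_le]
      rintro _ ⟨i, rfl⟩
      have h1 : a * Δ Ψ i ∈ Ideal.span ({a} * Set.range (Δ Ψ)) :=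
        Ideal.subset_span (Set.mul_mem_mul rfl ⟨i, rfl⟩)
      have : a * ((-1) ^ (i : ℕ) * (Ψ.submatrix i.succAbove id).det) =
          (-1) ^ (i : ℕ) * (a * Δ Ψ i) := by unfold Δ; ring
      show a * ((-1) ^ (i : ℕ) * (Ψ.submatrix i.succAbove id).det) ∈ Ideal.span ({a} * Set.range (Δ Ψ))
      rw [this]
      exact Ideal.mul_mem_left _ _ h1
    · rw [Ideal.span_le]
      rintro _ ⟨a', ha', _, ⟨i, rfl⟩, rfl⟩
      obtain rfl : a' = a := ha'
      have h1 : a' * ((-1) ^ (i : ℕ) * (Ψ.submatrix i.succAbove id).det) ∈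
          Submodule.span R (Set.range fun i : Fin (t + 1) =>
            a' * ((-1) ^ (i : ℕ) * (Ψ.submatrix i.succAbove id).det)) :=
        Submodule.subset_span ⟨i, rfl⟩
      have : a' * Δ Ψ i = (-1) ^ (i : ℕ) * (a' * ((-1) ^ (i : ℕ) * (Ψ.submatrix i.succAbove id).det)) := by
        have hsq : ((-1 : R) ^ (i : ℕ)) * ((-1) ^ (i : ℕ)) = 1 := by
          rw [← pow_add, ← two_mul, pow_mul]; simp
        unfold Δ
        linear_combination (-(a' * (Ψ.submatrix i.succAbove id).det)) * hsq
      show a' * Δ Ψ i ∈ Submodule.span R (Set.range fun i : Fin (t + 1) =>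
            a' * ((-1) ^ (i : ℕ) * (Ψ.submatrix i.succAbove id).det))
      rw [this]
      exact Submodule.smul_mem _ _ h1

end Groth.Agent.Helper6.HilbBurch
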