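import Mathlib
import Groth.Prelude.Def_CAlg
import Groth.Prelude.Def_CAlgX
import Groth.Agent.Helper6.FFRes
import Groth.Agent.Helper6.HilbBurch

universe u

namespace Groth.Agent.Helper6.HilbBurch2

open Matrix
open Groth.Agent.Helper6.FFRes Groth.Agent.Helper6.HilbBurch

/-- McCoy's theorem for injective matrices: the ideal of maximal minors is faithful. -/
theorem mccoy {R : Type u} [CommRing R] {m n : ℕ} (Ψ : Matrix (Fin n) (Fin m) R)
    (hinj : ∀ v : Fin m → R, Ψ *ᵥ v = 0 → v = 0) (c : R)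
    (hc : ∀ (f : Fin m → Fin n) (g : Fin m → Fin m), c * (Ψ.submatrix f g).det = 0) : c = 0 := by
  classical
  by_contra hc0
  let P : ℕ → Prop := fun r => ∃ (f : Fin r → Fin n) (g : Fin r → Fin m),
    c * (Ψ.submatrix f g).det ≠ 0
  have hP0 : P 0 := ⟨Fin.elim0, Fin.elim0, by simpa using hc0⟩
  have hPm : ¬ P m := by
    rintro ⟨f, g, h⟩
    exact h (hc f g)
  set r := Nat.findGreatest P m with hr
  have hPr : P r := Nat.findGreatest_spec (Nat.zero_le m) hP0
  have hrm : r < m := by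
    rcases (Nat.findGreatest_le (P := P) m).lt_or_eq with h | h
    · exact h
    · exact absurd (h ▸ hPr) hPm
  have hPr1 : ¬ P (r + 1) := Nat.findGreatest_is_greatest (Nat.lt_succ_self r) hrm
  obtain ⟨f, g, hδ⟩ := hPr
  have hmiss : ∃ b, b ∉ Set.range g := by
    by_contra hcon
    push Not at hcon
    have hsurj : Function.Surjective g := fun i => hcon i
    have := Fintype.card_le_of_surjective g hsurj
    simp at this
    omega
  obtain ⟨b₀, hb₀⟩ := hmiss
  let g' : Fin (r + 1) → Fin m := Fin.cons (α := fun _ => Fin m) b₀ g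
  let a : Fin (r + 1) → R := fun k =>
    c * ((-1) ^ (k : ℕ) * (Ψ.submatrix f (g' ∘ k.succAbove)).det)
  let v : Fin m → R := ∑ k : Fin (r + 1), Pi.single (g' k) (a k)
  have hv : Ψ *ᵥ v = 0 := by
    ext i
    have h1 : (Ψ *ᵥ v) i = ∑ k : Fin (r + 1), Ψ i (g' k) * a k := by
      simp only [mulVec, dotProduct, v, Finset.sum_apply, Finset.mul_sum]
      rw [Finset.sum_comm]
      apply Finset.sum_congr rfl
      intro k _
      rw [Finset.sum_eq_single (g' k)]
      · simp
      · intro j _ hj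
        simp [Pi.single_eq_of_ne hj]
      · intro h; exact absurd (Finset.mem_univ _) h
    rw [h1]
    have h2 : (Ψ.submatrix (Fin.cons (α := fun _ => Fin n) i f) g').det =
        ∑ k : Fin (r + 1), (-1) ^ (k : ℕ) * Ψ i (g' k) * (Ψ.submatrix f (g' ∘ k.succAbove)).det := by
      rw [det_succ_row_zero]
      apply Finset.sum_congr rfl
      intro k _
      congr 1
    have h3 : c * (Ψ.submatrix (Fin.cons (α := fun _ => Fin n) i f) g').det = 0 := by
      by_contra hne
      exact hPr1 ⟨_, _, hne⟩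
    rw [h2, Finset.mul_sum] at h3
    rw [Pi.zero_apply, ← h3]
    apply Finset.sum_congr rfl
    intro k _
    simp only [a]
    ring
  have hv0 := hinj v hv
  have hvb : v b₀ = c * (Ψ.submatrix f g).det := by
    simp only [v, Finset.sum_apply]
    rw [Fin.sum_univ_succ]
    have h0 : g' 0 = b₀ := rfl
    have hs : ∀ k : Fin r, g' k.succ = g k := fun k => by simp [g']
    rw [Finset.sum_eq_zero]
    · rw [h0, Pi.single_eq_same, add_zero]
      simp only [a, Fin.val_zero, pow_zero, one_mul]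
      congr 2
    · intro k _
      rw [hs, Pi.single_eq_of_ne]
      intro h
      exact hb₀ ⟨k, h.symm⟩
  rw [hv0] at hvb
  exact hδ hvb.symm

/-- faithful ideals contain regular elements (Noetherian case) -/
theorem exists_regular_in_ideal {R : Type u} [CommRing R] [IsNoetherianRing R]
    (M : Type u) [AddCommGroup M] [Module R M] [Module.Finite R M] (J : Ideal R)
    (h : ∀ z : M, (∀ r ∈ J, r • z = 0) → z = 0) : ∃ y ∈ J, IsSMulRegular M y := by
  by_contra hcon
  push Not at hcon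
  have hfin : (associatedPrimes R M).Finite := associatedPrimes.finite R M
  have hsub : ((J : Ideal R) : Set R) ⊆
      ⋃ P ∈ ((hfin.toFinset : Finset (Ideal R)) : Set (Ideal R)), (P : Set R) := by
    intro x hx
    have hx' : x ∈ { r : R | IsSMulRegular M r }ᶜ := hcon x hx
    rw [← biUnion_associatedPrimes_eq_compl_regular R M] at hx'
    simpa using hx'
  obtain ⟨P₀, hP₀, hle⟩ := (Ideal.subset_union_prime (f := fun P : Ideal R => P) ⊥ ⊥
    (fun P hP _ _ => (hfin.mem_toFinset.mp hP).isPrime)).mp hsub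
  have hP₀' : IsAssociatedPrime P₀ M := hfin.mem_toFinset.mp hP₀
  obtain ⟨hprime₀, z, hz⟩ := isAssociatedPrime_iff.mp hP₀'
  have hz0 : z = 0 := by
    apply h
    intro r hr
    have := hle hr
    rw [hz, Submodule.mem_colon_singleton, Submodule.mem_bot] at this
    exact this
  apply hprime₀.ne_top
  rw [hz, hz0]
  ext r
  simp [Submodule.mem_colon_singleton]

/-- `(★★)`: the reduction of `Ψ` mod a nonzerodivisor stays injective, hence McCoy applies. -/
theorem quot_faithful {R : Type u} [CommRing R] (m : ℕ)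
    (Ψ : Matrix (Fin (m + 1)) (Fin m) R) (π : (Fin (m + 1) → R) →ₗ[R] R)
    (hΨ : LinearMap.ker Ψ.mulVecLin = ⊥) (hex : LinearMap.ker π = LinearMap.range Ψ.mulVecLin)
    (x : R) (hx : ∀ r : R, x * r = 0 → r = 0) (z : R)
    (hz : ∀ (f : Fin m → Fin (m + 1)) (g : Fin m → Fin m),
      z * (Ψ.submatrix f g).det ∈ Ideal.span {x}) : z ∈ Ideal.span {x} := by
  let q := Ideal.Quotient.mk (Ideal.span {x})
  have hker : ∀ v : Fin m → R, Ψ *ᵥ v = 0 → v = 0 := by
    intro v hv
    have : v ∈ LinearMap.ker Ψ.mulVecLin := by rw [LinearMap.mem_ker, mulVecLin_apply, hv]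
    rw [hΨ] at this
    exact this
  have key := mccoy (Ψ.map q) ?_ (q z) ?_
  · exact Ideal.Quotient.eq_zero_iff_mem.mp key
  · intro vbar hvbar
    obtain ⟨v, rfl⟩ : ∃ v : Fin m → R, (fun i => q (v i)) = vbar := by
      choose v hv using fun i => Ideal.Quotient.mk_surjective (vbar i)
      exact ⟨v, funext hv⟩
    have h1 : ∀ i, (Ψ *ᵥ v) i ∈ Ideal.span {x} := by
      intro i
      rw [← Ideal.Quotient.eq_zero_iff_mem]
      have := congrFun hvbar i
      rw [Pi.zero_apply] at this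
      rw [← this]
      show q ((Ψ *ᵥ v) i) = _
      rw [RingHom.map_mulVec]
      rfl
    choose u hu using fun i => Ideal.mem_span_singleton'.mp (h1 i)
    have h2 : Ψ *ᵥ v = x • u := by
      ext i
      rw [Pi.smul_apply, smul_eq_mul, mul_comm]
      exact (hu i).symm
    have h3 : π (x • u) = 0 := by
      rw [← h2, ← LinearMap.mem_ker, hex]
      exact ⟨v, rfl⟩
    rw [map_smul, smul_eq_mul] at h3
    have h4 : u ∈ LinearMap.ker π := hx _ h3
    rw [hex] at h4
    obtain ⟨v', hv'⟩ := h4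
    rw [mulVecLin_apply] at hv'
    have h5 : Ψ *ᵥ (v - x • v') = 0 := by
      rw [mulVec_sub, mulVec_smul, hv', h2, sub_self]
    have h6 := sub_eq_zero.mp (hker _ h5)
    ext i
    rw [h6, Pi.smul_apply, smul_eq_mul, Pi.zero_apply]
    exact Ideal.Quotient.eq_zero_iff_mem.mpr (Ideal.mul_mem_right _ _ (Ideal.mem_span_singleton_self x))
  · intro f g
    have : (Ψ.map q).submatrix f g = (Ψ.submatrix f g).map q := rfl
    rw [this, ← RingHom.mapMatrix_apply, ← RingHom.map_det, ← map_mul]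
    exact Ideal.Quotient.eq_zero_iff_mem.mpr (hz f g)

theorem depth_two {R : Type u} [CommRing R] [IsNoetherianRing R] (m : ℕ)
    (Ψ : Matrix (Fin (m + 1)) (Fin m) R) (π : (Fin (m + 1) → R) →ₗ[R] R)
    (hΨ : LinearMap.ker Ψ.mulVecLin = ⊥) (hex : LinearMap.ker π = LinearMap.range Ψ.mulVecLin) :
    2 ≤ LocCoh.idealDepth (CAlgX.minorIdeal Ψ m) R := by
  set J := CAlgX.minorIdeal Ψ m with hJ
  have hdetJ : ∀ (f : Fin m → Fin (m + 1)) (g : Fin m → Fin m), (Ψ.submatrix f g).det ∈ J :=
    fun f g => Ideal.subset_span ⟨(f, g), rfl⟩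
  have hker : ∀ v : Fin m → R, Ψ *ᵥ v = 0 → v = 0 := by
    intro v hv
    have : v ∈ LinearMap.ker Ψ.mulVecLin := by rw [LinearMap.mem_ker, mulVecLin_apply, hv]
    rw [hΨ] at this
    exact this
  -- step 1: a nonzerodivisor in J
  obtain ⟨x, hxJ, hxreg⟩ := exists_regular_in_ideal R J (by
    intro z hz
    apply mccoy Ψ hker z
    intro f g
    have := hz _ (hdetJ f g)
    rw [smul_eq_mul, mul_comm] at this
    exact this)
  have hx : ∀ r : R, x * r = 0 → r = 0 := by
    intro r hr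
    apply hxreg
    simpa using hr
  unfold LocCoh.idealDepth
  split_ifs with htop
  · exact le_top
  · -- step 2: a regular element on R / xR
    obtain ⟨y, hyJ, hyreg⟩ := exists_regular_in_ideal (QuotSMulTop x R) J (by
      intro zbar hz
      obtain ⟨z, rfl⟩ := Submodule.Quotient.mk_surjective _ zbar
      rw [Submodule.Quotient.mk_eq_zero]
      have hmem : z ∈ Ideal.span {x} := by
        apply quot_faithful m Ψ π hΨ hex x hx z
        intro f g
        have := hz _ (hdetJ f g)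
        rw [← Submodule.Quotient.mk_smul, Submodule.Quotient.mk_eq_zero,
          Submodule.mem_smul_pointwise_iff_exists] at this
        obtain ⟨w, -, hw⟩ := this
        rw [Ideal.mem_span_singleton']
        exact ⟨w, by rw [mul_comm z, mul_comm w]; simpa [smul_eq_mul] using hw⟩
      rw [Submodule.mem_smul_pointwise_iff_exists]
      obtain ⟨w, hw⟩ := Ideal.mem_span_singleton'.mp hmem
      exact ⟨w, Submodule.mem_top, by rw [smul_eq_mul, mul_comm]; exact hw⟩)
    have hreg : RingTheory.Sequence.IsWeaklyRegular R [x, y] := by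
      rw [RingTheory.Sequence.isWeaklyRegular_cons_iff, RingTheory.Sequence.isWeaklyRegular_cons_iff]
      exact ⟨hxreg, hyreg, RingTheory.Sequence.IsWeaklyRegular.nil _ _⟩
    have hmem : ∀ r ∈ [x, y], r ∈ J := by
      intro r hr
      simp only [List.mem_cons, List.not_mem_nil, or_false] at hr
      rcases hr with rfl | rfl
      · exact hxJ
      · exact hyJ
    refine le_trans ?_ (le_iSup₂ (f := fun (rs : List R)
      (_ : RingTheory.Sequence.IsWeaklyRegular R rs ∧ ∀ r ∈ rs, r ∈ J) => (rs.length : ℕ∞))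
      [x, y] ⟨hreg, hmem⟩)
    simp

theorem nzd_and_rank {R : Type u} [CommRing R] [IsNoetherianRing R] (m n : ℕ)
    (Ψ : Matrix (Fin n) (Fin m) R) (π : (Fin n → R) →ₗ[R] R)
    (hΨ : LinearMap.ker Ψ.mulVecLin = ⊥) (hex : LinearMap.ker π = LinearMap.range Ψ.mulVecLin)
    (hI : LinearMap.range π ≠ ⊥) :
    (∃ x : R, x ∈ LinearMap.range π ∧ x ∈ nonZeroDivisors R) ∧ n = m + 1 := by
  let n' : ℕ → ℕ := fun i => Nat.rec n (fun _ _ => m) i
  let A : (i : ℕ) → Matrix (Fin (n' i)) (Fin (n' (i + 1))) R := fun i =>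
    Nat.rec (motive := fun i => Matrix (Fin (n' i)) (Fin (n' (i + 1))) R) Ψ (fun _ _ => 0) i
  have h0 : LinearMap.ker π = LinearMap.range (A 0).mulVecLin := hex
  have hA : ∀ i, i + 2 ≤ 1 → LinearMap.ker (A i).mulVecLin = LinearMap.range (A (i + 1)).mulVecLin := by
    intro i hi; omega
  have hlast : LinearMap.ker (A (1 - 1)).mulVecLin = ⊥ := hΨ
  obtain ⟨x, hxI, hxnzd⟩ := exists_nzd 1 le_rfl n' A π hI h0 hA hlast
  refine ⟨⟨x, hxI, hxnzd⟩, ?_⟩
  haveI : Nontrivial R := by
    by_contra hnt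
    rw [not_nontrivial_iff_subsingleton] at hnt
    apply hI
    rw [Submodule.eq_bot_iff]
    intro y _
    exact Subsingleton.elim _ _
  obtain ⟨P, hP⟩ := associatedPrimes.nonempty R R
  obtain ⟨hprime, z, hz⟩ := isAssociatedPrime_iff.mp hP
  haveI := hprime
  obtain ⟨g, hfree, hrank, hgloc, -⟩ := at_assoc P z hz 1 le_rfl n' A π h0 hA hlast
  obtain ⟨v, rfl⟩ := hxI
  have hxP : π v ∉ P := by
    intro hmem
    rw [hz, Submodule.mem_colon_singleton, Submodule.mem_bot, smul_eq_mul] at hmem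
    have hz0 : z = 0 := (mem_nonZeroDivisors_iff.mp hxnzd).1 z hmem
    apply hprime.ne_top
    rw [hz, hz0]
    ext r
    simp [Submodule.mem_colon_singleton]
  have hunit : IsUnit (algebraMap R (Localization.AtPrime P) (π v)) :=
    IsLocalization.map_units (Localization.AtPrime P) (⟨π v, hxP⟩ : P.primeCompl)
  have htop : LinearMap.range g = ⊤ := by
    apply Ideal.eq_top_of_isUnit_mem _ _ hunit
    exact ⟨_, hgloc v⟩
  rw [htop, finrank_top, Module.finrank_self] at hrank
  have h1 : rk n' 1 (1 - 1) = (m : ℤ) := rfl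
  have h2 : n' 0 = n := rfl
  rw [h1, h2] at hrank
  omega

theorem hb_main {R : Type u} [CommRing R] [IsNoetherianRing R] (m n : ℕ)
    (Ψ : Matrix (Fin n) (Fin m) R) (π : (Fin n → R) →ₗ[R] R)
    (hΨ : LinearMap.ker Ψ.mulVecLin = ⊥) (hex : LinearMap.ker π = LinearMap.range Ψ.mulVecLin)
    (hI : LinearMap.range π ≠ ⊥) :
    n = m + 1 ∧
      (∃ a : R, a ∈ nonZeroDivisors R ∧ LinearMap.range π = Ideal.span {a} * CAlgX.minorIdeal Ψ m) ∧
      2 ≤ LocCoh.idealDepth (CAlgX.minorIdeal Ψ m) R := by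
  obtain ⟨⟨x₀, hx₀I, hx₀⟩, hn⟩ := nzd_and_rank m n Ψ π hΨ hex hI
  subst hn
  have hdepth := depth_two m Ψ π hΨ hex
  refine ⟨rfl, ?_, hdepth⟩
  obtain ⟨-, hkerΔ, hrangeΔ⟩ := main m Ψ hdepth 1 (one_mem _)
  set Δm := Fintype.linearCombination R
    (fun i : Fin (m + 1) => 1 * ((-1 : R) ^ (i : ℕ) * (Ψ.submatrix i.succAbove id).det)) with hΔm
  have hJ : CAlgX.minorIdeal Ψ m = LinearMap.range Δm := by
    rw [hrangeΔ, Ideal.span_singleton_one, Ideal.top_mul]
  obtain ⟨x', hx'J, y', hy'J, hx', hpair⟩ := exists_pair _ hdepth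
  rw [hJ] at hx'J hy'J
  obtain ⟨vx, rfl⟩ := hx'J
  obtain ⟨vy, rfl⟩ := hy'J
  have claim1 : ∀ u, Δm u = 0 → π u = 0 := by
    intro u hu
    have : u ∈ LinearMap.ker Δm := hu
    rw [hkerΔ, ← hex] at this
    exact this
  have h1 : Δm vy * π vx = Δm vx * π vy := by
    have := claim1 (Δm vy • vx - Δm vx • vy) (by
      rw [map_sub, map_smul, map_smul, smul_eq_mul, smul_eq_mul, mul_comm, sub_self])
    rw [map_sub, map_smul, map_smul, smul_eq_mul, smul_eq_mul] at this
    exact sub_eq_zero.mp this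
  obtain ⟨a, ha⟩ := hpair _ _ h1
  have h2 : ∀ v, π v = a * Δm v := by
    intro v
    have := claim1 (Δm v • vx - Δm vx • v) (by
      rw [map_sub, map_smul, map_smul, smul_eq_mul, smul_eq_mul, mul_comm, sub_self])
    rw [map_sub, map_smul, map_smul, smul_eq_mul, smul_eq_mul, ha] at this
    have h3 : Δm vx * (π v - a * Δm v) = 0 := by linear_combination -this
    exact sub_eq_zero.mp (hx' _ h3)
  refine ⟨a, ?_, ?_⟩
  · obtain ⟨v₀, rfl⟩ := hx₀I
    rw [h2 v₀] at hx₀
    exact (mul_mem_nonZeroDivisors.mp hx₀).1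
  · rw [hJ]
    ext r
    constructor
    · rintro ⟨v, rfl⟩
      rw [h2 v]
      exact Ideal.mul_mem_mul (Ideal.mem_span_singleton_self a) ⟨v, rfl⟩
    · intro hr
      obtain ⟨j, ⟨v, rfl⟩, rfl⟩ := Ideal.mem_span_singleton_mul.mp hr
      exact ⟨v, h2 v⟩

end Groth.Agent.Helper6.HilbBurch2
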