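import Mathlib
import Groth.Agent.Helper6.HilbProj5
import Groth.Agent.Helper4.RegLength
import Groth.Agent.Helper6.SamuelBound

set_option autoImplicit false

/-!
# Hilbert function of a one-dimensional homogeneous complete intersection
-/

namespace Groth.Agent.Helper6.HilbProj

open MvPolynomial IsLocalRing

attribute [local instance] MvPolynomial.gradedAlgebra

universe u

section Sat

variable {k : Type u} [Field k] {σ : Type*}

theorem homogeneousComponent_homogeneousComponent_ne (x : MvPolynomial σ k) {i t : ℕ}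
    (h : i ≠ t) : homogeneousComponent t (homogeneousComponent i x) = 0 := by
  rw [homogeneousComponent_of_mem
    ((mem_homogeneousSubmodule _ _).2 (homogeneousComponent_isHomogeneous i x)), if_neg h.symm]

/-- a homogeneous ideal is saturated with respect to the complement of the irrelevant ideal -/
theorem mem_of_mul_mem_of_constantCoeff_ne_zero (J : Ideal (MvPolynomial σ k))
    (hJ : J.IsHomogeneous (homogeneousSubmodule σ k)) (s x : MvPolynomial σ k)
    (hs : constantCoeff s ≠ 0) (hsx : s * x ∈ J) : x ∈ J := by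
  classical
  have key : ∀ t : ℕ, homogeneousComponent t x ∈ J := by
    intro t
    induction t using Nat.strong_induction_on with
    | _ t ih =>
      set x' := x - ∑ i ∈ Finset.range t, homogeneousComponent i x with hx'
      have hsum : ∑ i ∈ Finset.range t, homogeneousComponent i x ∈ J :=
        J.sum_mem (fun i hi => ih i (Finset.mem_range.1 hi))
      have hsx' : s * x' ∈ J := by
        rw [hx', mul_sub]
        exact J.sub_mem hsx (J.mul_mem_left s hsum)
      have hx'm : x' ∈ idealOfVars σ k ^ t := by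
        rw [mem_pow_idealOfVars_iff']
        intro d hd
        rw [hx', coeff_sub, coeff_sum]
        simp_rw [coeff_homogeneousComponent]
        rw [Finset.sum_ite_eq, if_pos (Finset.mem_range.2 hd), sub_self]
      set c := constantCoeff s with hc
      have hsplus : s - C c ∈ idealOfVars σ k ^ 1 := by
        rw [mem_pow_idealOfVars_iff']
        intro d hd
        have hd0 : d = 0 := by
          have : d.degree = 0 := by omega
          exact (Finsupp.degree_eq_zero_iff d).1 this
        rw [hd0, coeff_sub, coeff_C, if_pos rfl, hc, constantCoeff_eq, sub_self]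
      have hprod : (s - C c) * x' ∈ idealOfVars σ k ^ (t + 1) := by
        rw [add_comm, pow_add]
        exact Ideal.mul_mem_mul hsplus hx'm
      have h1 : homogeneousComponent t (s * x') = C c * homogeneousComponent t x := by
        have : s * x' = C c * x' + (s - C c) * x' := by ring
        rw [this, map_add, homogeneousComponent_eq_zero_of_mem_pow t hprod, add_zero,
          homogeneousComponent_C_mul]
        congr 1
        rw [hx', map_sub, map_sum]
        rw [Finset.sum_eq_zero, sub_zero]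
        intro i hi
        exact homogeneousComponent_homogeneousComponent_ne x (Finset.mem_range.1 hi).ne
      have h2 := homogeneousComponent_mem J hJ t hsx'
      rw [h1] at h2
      have h3 := J.mul_mem_left (C c⁻¹) h2
      rwa [← mul_assoc, ← C_mul, inv_mul_cancel₀ hs, C_1, one_mul] at h3
  rw [← sum_homogeneousComponent x]
  exact J.sum_mem (fun i _ => key i)

end Sat


section HypSecReg

variable {k : Type u} [Field k] {σ : Type*}
  (I : Ideal (MvPolynomial σ k)) (f : MvPolynomial σ k) (d : ℕ)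

theorem μ_injective' (hreg : ∀ x : MvPolynomial σ k, f * x ∈ I → x ∈ I) (hf : f.IsHomogeneous d)
    (s : ℕ) : Function.Injective (μ I f d hf s) := by
  rw [injective_iff_map_eq_zero]
  intro x hx
  obtain ⟨x, rfl⟩ := Submodule.Quotient.mk_surjective _ x
  have h1 : Submodule.Quotient.mk (mulf f d hf s x) = (0 : _ ⧸ piece I (s + d)) := hx
  rw [Submodule.Quotient.mk_eq_zero, mem_piece_iff, mulf_coe] at h1
  rw [Submodule.Quotient.mk_eq_zero, mem_piece_iff]
  exact hreg _ h1

theorem H_hypSec' [Finite σ] (hI : I.IsHomogeneous (homogeneousSubmodule σ k))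
    (hreg : ∀ x : MvPolynomial σ k, f * x ∈ I → x ∈ I) (hf : f.IsHomogeneous d) (s : ℕ) :
    H I (s + d) = H I s + H (I ⊔ Ideal.span {f}) (s + d) := by
  have := Module.length_eq_add_of_exact (μ I f d hf s) (π I f (s + d))
    (μ_injective' I f d hreg hf s) (π_surjective I f (s + d)) (exact_μ_π I f d hI hf s)
  rw [length_piece_quot, length_piece_quot, length_piece_quot] at this
  exact_mod_cast this

end HypSecReg


section Step

open Polynomial Groth.Agent.Helper6.HSamuel

variable {k : Type u} [Field k] {σ : Type*} [Finite σ]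
  (I : Ideal (MvPolynomial σ k)) (f : MvPolynomial σ k) (d : ℕ)

/-- one step: the Hilbert polynomial of a regular hypersurface section -/
theorem hilbPoly_step (hI : I.IsHomogeneous (homogeneousSubmodule σ k))
    (hreg : ∀ x : MvPolynomial σ k, f * x ∈ I → x ∈ I) (hd : 0 < d) (hf : f.IsHomogeneous d)
    (P : ℚ[X]) (m₀ : ℕ) (hPH : ∀ m : ℕ, m₀ ≤ m → P.eval (m : ℚ) = (H I m : ℚ))
    (hdeg : 1 ≤ P.natDegree) :
    (∀ m : ℕ, m₀ + d ≤ m →
        (P - taylor (-(d : ℚ)) P).eval (m : ℚ) = (H (I ⊔ Ideal.span {f}) m : ℚ)) ∧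
      (P - taylor (-(d : ℚ)) P).natDegree = P.natDegree - 1 ∧
      (((P - taylor (-(d : ℚ)) P).natDegree.factorial : ℚ) *
        (P - taylor (-(d : ℚ)) P).leadingCoeff =
          (d : ℚ) * ((P.natDegree.factorial : ℚ) * P.leadingCoeff)) := by
  have hd0 : (d : ℚ) ≠ 0 := by
    have : d ≠ 0 := by omega
    exact_mod_cast this
  obtain ⟨hnat', hlc'⟩ := natDegree_leadingCoeff_sub_taylor P (d : ℚ) hd0 hdeg
  refine ⟨?_, hnat', ?_⟩
  · intro m hm
    obtain ⟨s, rfl⟩ : ∃ s, m = s + d := ⟨m - d, by omega⟩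
    rw [Polynomial.eval_sub, eval_taylor']
    have e1 : ((s + d : ℕ) : ℚ) + -(d : ℚ) = (s : ℚ) := by push_cast; ring
    rw [e1, hPH (s + d) (by omega), hPH s (by omega), H_hypSec' I f d hI hreg hf s]
    push_cast
    ring
  · rw [hnat', hlc']
    obtain ⟨m, hm⟩ : ∃ m, P.natDegree = m + 1 := ⟨P.natDegree - 1, by omega⟩
    rw [hm, Nat.add_sub_cancel, Nat.factorial_succ]
    push_cast
    ring

end Step


section Base

open Polynomial Groth.Agent.Helper6.HSamuel Groth.Agent.Helper6.HilbSerre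
  Groth.Agent.Helper6.SamuelTop Groth.Agent.Helper6.SamuelLimit Filter Topology

variable (k : Type u) [Field k] (n : ℕ)

theorem isHomogeneous_bot :
    (⊥ : Ideal (MvPolynomial (Fin (n + 1)) k)).IsHomogeneous
      (homogeneousSubmodule (Fin (n + 1)) k) :=
  Ideal.IsHomogeneous.bot (homogeneousSubmodule (Fin (n + 1)) k)

theorem dim_A : ringKrullDim (A k n) = ((n + 1 : ℕ) : WithBot ℕ∞) := by
  rw [IsLocalization.AtPrime.ringKrullDim_eq_height (idealOfVars (Fin (n + 1)) k) (A k n),
    Groth.Agent.Helper5.FtDim.height_of_isMaximal_mvPolynomial k (n + 1) _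
      (idealOfVars_isMaximal' k n)]
  rfl

instance : IsRegularLocalRing (A k n) :=
  IsRegularRing.isRegularLocalRing_localization (idealOfVars (Fin (n + 1)) k)

theorem chi_bot (t : ℕ) (ht : 1 ≤ t) :
    chi (maximalIdeal (A k n)) (A k n ⧸ IA k n ⊥) t = (((t + n).choose (n + 1) : ℕ) : ℤ) := by
  unfold chi
  rw [(quotSmulEquiv (IA k n ⊥) (maximalIdeal (A k n) ^ t)).length_eq]
  have h1 : IA k n ⊥ ⊔ maximalIdeal (A k n) ^ t = maximalIdeal (A k n) ^ t := by
    unfold IA
    rw [Ideal.map_bot, bot_sup_eq]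
  rw [h1, Groth.Agent.Helper4.RegLength.main (A k n) (n + 1) (dim_A k n) t ht, ENat.toNat_natCast]
  congr 2

/-- the Hilbert polynomial of the polynomial ring: degree `n`, normalized leading coefficient `1` -/
theorem exists_hilbPoly_bot : ∃ (P : ℚ[X]) (m₀ : ℕ),
    (∀ m : ℕ, m₀ ≤ m → P.eval (m : ℚ) = (H (⊥ : Ideal (MvPolynomial (Fin (n + 1)) k)) m : ℚ)) ∧
      P.natDegree = n ∧ (P.natDegree.factorial : ℚ) * P.leadingCoeff = 1 := by
  obtain ⟨Q, ⟨N, hN⟩, hdeg⟩ := exists_samuel_poly k n ⊥ (isHomogeneous_bot k n) bot_ne_top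
  have hdimR : ringKrullDim (MvPolynomial (Fin (n + 1)) k ⧸
      (⊥ : Ideal (MvPolynomial (Fin (n + 1)) k))) =
      ((n + 1 : ℕ) : WithBot ℕ∞) := by
    rw [ringKrullDim_eq_of_ringEquiv (RingEquiv.quotientBot (MvPolynomial (Fin (n + 1)) k)),
      Groth.Agent.Helper5.DimBC.dim_mvPolynomial]
  have hQnat : Q.natDegree = n + 1 := by
    rw [hdimR] at hdeg
    exact_mod_cast hdeg
  have hQ1 : 1 ≤ Q.natDegree := by omega
  obtain ⟨hnat', hlc'⟩ := natDegree_leadingCoeff_sub_taylor Q 1 one_ne_zero hQ1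
  have hHP : HasHP (chi (maximalIdeal (A k n)) (A k n ⧸ IA k n ⊥)) Q :=
    ⟨N, fun i hi => by rw [chi_eq k n ⊥ (isHomogeneous_bot k n), hN i hi]; push_cast; rfl⟩
  have hsd : Module.supportDim (A k n) (A k n ⧸ IA k n ⊥) ≤ ((n + 1 : ℕ) : WithBot ℕ∞) := by
    rw [supportDim_quot k n ⊥ (isHomogeneous_bot k n) bot_ne_top, hdimR]
  have hlim1 := tendsto_T_coeff (maximalIdeal (A k n)) (hI_max k n) (n + 1)
    (A k n ⧸ IA k n ⊥) hsd Q hHP
  have hlim2 : Tendsto (T (maximalIdeal (A k n)) (n + 1) (A k n ⧸ IA k n ⊥)) atTop (𝓝 1) := by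
    refine (Groth.Agent.Helper6.SamuelBound.tendsto_choose (n + 1)).congr' ?_
    filter_upwards [eventually_ge_atTop 1] with t ht
    rw [T_eq_chi, chi_bot k n t ht]
    have : t + (n + 1) - 1 = t + n := by omega
    rw [this]
    push_cast
    rfl
  have hone : (((n + 1).factorial : ℝ) * ((Q.coeff (n + 1) : ℚ) : ℝ)) = 1 :=
    tendsto_nhds_unique hlim1 hlim2
  have hone' : ((n + 1).factorial : ℚ) * Q.coeff (n + 1) = 1 := by exact_mod_cast hone
  refine ⟨taylor 1 (Q - taylor (-1) Q), N, ?_, ?_, ?_⟩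
  · intro m hm
    rw [eval_taylor', Polynomial.eval_sub, eval_taylor']
    have e1 : (m : ℚ) + 1 + -1 = (m : ℚ) := by ring
    have e2 : (m : ℚ) + 1 = ((m + 1 : ℕ) : ℚ) := by push_cast; ring
    rw [e1, e2, hN (m + 1) (by omega), hN m hm, Finset.sum_range_succ]
    push_cast
    ring
  · rw [natDegree_taylor, hnat', hQnat]
    rfl
  · rw [natDegree_taylor, leadingCoeff_taylor, hnat', hlc', hQnat, Nat.add_sub_cancel,
      leadingCoeff, hQnat]
    have hfac : ((n + 1).factorial : ℚ) = ((n : ℚ) + 1) * (n.factorial : ℚ) := by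
      rw [Nat.factorial_succ]
      push_cast
      ring
    rw [hfac] at hone'
    push_cast
    linear_combination hone'

end Base


section CI

open RingTheory.Sequence Module

variable (k : Type u) [Field k] (n : ℕ) (f : Fin n → MvPolynomial (Fin (n + 1)) k) (d : Fin n → ℕ)

theorem ofList_ofFn : Ideal.ofList (List.ofFn f) = Ideal.span (Set.range f) := by
  unfold Ideal.ofList
  congr 1
  ext x
  simp [List.mem_ofFn]

theorem isHomogeneous_ofList_take (hf : ∀ i, (f i).IsHomogeneous (d i)) (j : ℕ) :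
    (Ideal.ofList ((List.ofFn f).take j)).IsHomogeneous
      (homogeneousSubmodule (Fin (n + 1)) k) := by
  apply Ideal.homogeneous_span
  intro x hx
  have hx' : x ∈ List.ofFn f := List.mem_of_mem_take hx
  rw [List.mem_ofFn] at hx'
  obtain ⟨i, rfl⟩ := hx'
  exact ⟨d i, (mem_homogeneousSubmodule _ _).2 (hf i)⟩

theorem mem_idealOfVars_of_isHomogeneous {x : MvPolynomial (Fin (n + 1)) k} {e : ℕ} (he : 1 ≤ e)
    (hx : x.IsHomogeneous e) : x ∈ idealOfVars (Fin (n + 1)) k := by
  rw [mem_idealOfVars_iff, constantCoeff_eq]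
  exact hx.coeff_eq_zero (by simp; omega)

/-- the sequence is weakly regular in the local ring at the vertex -/
theorem isWeaklyRegular_map (hd : ∀ i, 1 ≤ d i) (hf : ∀ i, (f i).IsHomogeneous (d i))
    (hdim : ringKrullDim (MvPolynomial (Fin (n + 1)) k ⧸ Ideal.span (Set.range f)) = 1) :
    IsWeaklyRegular (A k n)
      ((List.ofFn f).map (algebraMap (MvPolynomial (Fin (n + 1)) k) (A k n))) := by
  set xs := (List.ofFn f).map (algebraMap (MvPolynomial (Fin (n + 1)) k) (A k n)) with hxs
  have hCM : LocCoh.IsCohenMacaulayModule (A k n) (A k n) :=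
    Groth.Agent.Helper2.RegCM.cm_of_isRegularLocalRing (A k n)
  have hJhom : (Ideal.span (Set.range f)).IsHomogeneous (homogeneousSubmodule (Fin (n + 1)) k) := by
    apply Ideal.homogeneous_span
    rintro _ ⟨i, rfl⟩
    exact ⟨d i, (mem_homogeneousSubmodule _ _).2 (hf i)⟩
  have hJtop : Ideal.span (Set.range f) ≠ ⊤ := by
    intro h
    rw [h] at hdim
    haveI : Subsingleton (MvPolynomial (Fin (n + 1)) k ⧸ (⊤ : Ideal _)) :=
      Ideal.Quotient.subsingleton_iff.2 rfl
    rw [ringKrullDim_eq_bot_of_subsingleton] at hdim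
    exact absurd hdim (by decide)
  have hmem : ∀ x ∈ xs, x ∈ maximalIdeal (A k n) := by
    intro x hx
    rw [hxs, List.mem_map] at hx
    obtain ⟨y, hy, rfl⟩ := hx
    rw [List.mem_ofFn] at hy
    obtain ⟨i, rfl⟩ := hy
    rw [IsLocalization.AtPrime.to_map_mem_maximal_iff (A k n) (idealOfVars (Fin (n + 1)) k)]
    exact mem_idealOfVars_of_isHomogeneous k n (hd i) (hf i)
  have hlen : xs.length = n := by rw [hxs, List.length_map, List.length_ofFn]
  have hIA : Ideal.ofList xs • (⊤ : Submodule (A k n) (A k n)) = IA k n (Ideal.span (Set.range f)) := by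
    rw [smul_eq_mul, Ideal.mul_top, hxs, ← Ideal.map_ofList, ofList_ofFn]
  apply Groth.Agent.Helper2.DepthCM2.weaklyRegular_of_dim_drop xs (A k n) hCM hmem
  rw [supportDim_eq_of_equiv (Submodule.quotEquivOfEq _ _ hIA),
    supportDim_quot k n _ hJhom hJtop, hdim, hlen, supportDim_self_eq_ringKrullDim, dim_A]
  push_cast
  rw [add_comm]

end CI


section CI2

open RingTheory.Sequence Module Polynomial

variable (k : Type u) [Field k] (n : ℕ) (f : Fin n → MvPolynomial (Fin (n + 1)) k) (d : Fin n → ℕ)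

/-- each `f j` is a nonzerodivisor modulo the previous ones -/
theorem regular_mod_prev (hd : ∀ i, 1 ≤ d i) (hf : ∀ i, (f i).IsHomogeneous (d i))
    (hdim : ringKrullDim (MvPolynomial (Fin (n + 1)) k ⧸ Ideal.span (Set.range f)) = 1)
    (j : ℕ) (hj : j < n) (x : MvPolynomial (Fin (n + 1)) k)
    (hx : f ⟨j, hj⟩ * x ∈ Ideal.ofList ((List.ofFn f).take j)) :
    x ∈ Ideal.ofList ((List.ofFn f).take j) := by
  set φ := algebraMap (MvPolynomial (Fin (n + 1)) k) (A k n) with hφ
  set xs := (List.ofFn f).map φ with hxs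
  have hwr := isWeaklyRegular_map k n f d hd hf hdim
  have hjl : j < xs.length := by rw [hxs, List.length_map, List.length_ofFn]; exact hj
  have hreg := hwr.regular_mod_prev j hjl
  have htake : Ideal.ofList (xs.take j) • (⊤ : Submodule (A k n) (A k n)) =
      (Ideal.ofList ((List.ofFn f).take j)).map φ := by
    rw [smul_eq_mul, Ideal.mul_top, hxs, ← List.map_take, Ideal.map_ofList]
  have hget : xs[j] = φ (f ⟨j, hj⟩) := by
    simp [hxs]
  have h0 : xs[j] • (Submodule.Quotient.mk (φ x) :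
      A k n ⧸ (Ideal.ofList (xs.take j) • (⊤ : Submodule (A k n) (A k n)))) =
      xs[j] • 0 := by
    rw [smul_zero, ← Submodule.Quotient.mk_smul, Submodule.Quotient.mk_eq_zero, htake, hget,
      smul_eq_mul, ← map_mul]
    exact Ideal.mem_map_of_mem φ hx
  have h1 := hreg h0
  rw [Submodule.Quotient.mk_eq_zero, htake,
    IsLocalization.algebraMap_mem_map_algebraMap_iff (idealOfVars (Fin (n + 1)) k).primeCompl] at h1
  obtain ⟨s, hs, hsx⟩ := h1
  have hs' : constantCoeff s ≠ 0 := fun h => hs ((mem_idealOfVars_iff k n s).2 h)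
  exact mem_of_mul_mem_of_constantCoeff_ne_zero _ (isHomogeneous_ofList_take k n f d hf j) s x hs' hsx

end CI2


section CI3

open RingTheory.Sequence Module Polynomial

variable (k : Type u) [Field k] (n : ℕ) (f : Fin n → MvPolynomial (Fin (n + 1)) k) (d : Fin n → ℕ)

theorem exists_hilbPoly_prefix (hd : ∀ i, 1 ≤ d i) (hf : ∀ i, (f i).IsHomogeneous (d i))
    (hdim : ringKrullDim (MvPolynomial (Fin (n + 1)) k ⧸ Ideal.span (Set.range f)) = 1) :
    ∀ j : ℕ, j ≤ n → ∃ (P : ℚ[X]) (m₁ : ℕ),
      (∀ m : ℕ, m₁ ≤ m →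
        P.eval (m : ℚ) = (H (Ideal.ofList ((List.ofFn f).take j)) m : ℚ)) ∧
      P.natDegree = n - j ∧
      (P.natDegree.factorial : ℚ) * P.leadingCoeff =
        ((∏ i ∈ Finset.range j, (if h : i < n then d ⟨i, h⟩ else 1) : ℕ) : ℚ) := by
  intro j
  induction j with
  | zero =>
    intro _
    obtain ⟨P, m₀, h1, h2, h3⟩ := exists_hilbPoly_bot k n
    refine ⟨P, m₀, ?_, by rw [h2]; rfl, by rw [h3]; simp⟩
    intro m hm
    rw [List.take_zero, Ideal.ofList_nil]
    exact h1 m hm
  | succ j ih =>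
    intro hj
    have hj' : j < n := by omega
    obtain ⟨P, m₁, h1, h2, h3⟩ := ih (by omega)
    have hlen : j < (List.ofFn f).length := by rw [List.length_ofFn]; exact hj'
    have hJ : Ideal.ofList ((List.ofFn f).take (j + 1)) =
        Ideal.ofList ((List.ofFn f).take j) ⊔ Ideal.span {f ⟨j, hj'⟩} := by
      rw [List.take_succ_eq_append_getElem hlen, Ideal.ofList_append, Ideal.ofList_singleton,
        List.getElem_ofFn]
    have hstep := hilbPoly_step (Ideal.ofList ((List.ofFn f).take j)) (f ⟨j, hj'⟩) (d ⟨j, hj'⟩)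
      (isHomogeneous_ofList_take k n f d hf j)
      (regular_mod_prev k n f d hd hf hdim j hj') (hd _) (hf _) P m₁ h1 (by omega)
    obtain ⟨s1, s2, s3⟩ := hstep
    refine ⟨P - taylor (-(d ⟨j, hj'⟩ : ℚ)) P, m₁ + d ⟨j, hj'⟩, ?_, ?_, ?_⟩
    · intro m hm
      rw [hJ]
      exact s1 m hm
    · rw [s2, h2]
      omega
    · rw [s3, h3, Finset.prod_range_succ, dif_pos hj']
      push_cast
      ring

theorem main4 (hd : ∀ i, 1 ≤ d i) (hf : ∀ i, (f i).IsHomogeneous (d i))
    (hdim : ringKrullDim (MvPolynomial (Fin (n + 1)) k ⧸ Ideal.span (Set.range f)) = 1) :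
    ∃ m₀ : ℕ, ∀ m : ℕ, m₀ ≤ m →
      Module.finrank k ↥(MvPolynomial.homogeneousSubmodule (Fin (n + 1)) k m) -
        Module.finrank k ↥((Ideal.span (Set.range f)).restrictScalars k ⊓
          MvPolynomial.homogeneousSubmodule (Fin (n + 1)) k m) =
      ∏ i : Fin n, d i := by
  obtain ⟨P, m₁, h1, h2, h3⟩ := exists_hilbPoly_prefix k n f d hd hf hdim n le_rfl
  have hfull : Ideal.ofList ((List.ofFn f).take n) = Ideal.span (Set.range f) := by
    rw [List.take_of_length_le (by rw [List.length_ofFn]), ofList_ofFn]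
  rw [hfull] at h1
  have hnat : P.natDegree = 0 := by omega
  have hprod : (∏ i ∈ Finset.range n, (if h : i < n then d ⟨i, h⟩ else 1)) = ∏ i : Fin n, d i := by
    rw [← Fin.prod_univ_eq_prod_range]
    exact Finset.prod_congr rfl (fun i _ => dif_pos i.2)
  rw [hnat, Nat.factorial_zero, Nat.cast_one, one_mul, hprod] at h3
  refine ⟨m₁, fun m hm => ?_⟩
  have h4 := h1 m hm
  rw [Polynomial.eq_C_of_natDegree_eq_zero hnat, Polynomial.eval_C] at h4
  have h5 : P.coeff 0 = P.leadingCoeff := by rw [leadingCoeff, hnat]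
  rw [h5, h3] at h4
  have h6 : (∏ i : Fin n, d i) = H (Ideal.span (Set.range f)) m := by exact_mod_cast h4
  rw [h6]
  rfl

end CI3

end Groth.Agent.Helper6.HilbProj
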