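import Mathlib

set_option backward.isDefEq.respectTransparency false
set_option backward.isDefEq.respectTransparency.types false
set_option autoImplicit false

universe u

namespace Groth.Agent.Helper6.Hirz

open MvPolynomial

theorem taylor1 {R : Type*} [CommRing R] (T : MvPolynomial (Fin 2) R)
    (c : Fin 2 → MvPolynomial (Fin 2) R) (H : MvPolynomial (Fin 2) R) :
    ∃ w, aeval (fun i => X i + c i * T) H
      = H + T * (c 0 * pderiv 0 H + c 1 * pderiv 1 H) + T ^ 2 * w := by
  induction H using MvPolynomial.induction_on with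
  | C a => exact ⟨0, by simp⟩
  | add p q hp hq =>
    obtain ⟨w1, h1⟩ := hp
    obtain ⟨w2, h2⟩ := hq
    refine ⟨w1 + w2, ?_⟩
    rw [map_add, h1, h2, map_add, map_add]
    ring
  | mul_X p j hp =>
    obtain ⟨w, h⟩ := hp
    refine ⟨w * X j + w * c j * T + (c 0 * pderiv 0 p + c 1 * pderiv 1 p) * c j, ?_⟩
    rw [map_mul, h, aeval_X]
    simp only [Derivation.leibniz, pderiv_X, smul_eq_mul]
    fin_cases j <;> simp <;> ring

theorem formallySmooth_of {k : Type u} [Field k] (F u v : MvPolynomial (Fin 2) k)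
    (h : u * F + v * pderiv 1 F = 1) :
    Algebra.FormallySmooth k (MvPolynomial (Fin 2) k ⧸ Ideal.span {F}) := by
  refine Algebra.FormallySmooth.of_comp_surjective fun B _ _ I hI φ => ?_
  have hs : Function.Surjective (Ideal.Quotient.mk I) := Ideal.Quotient.mk_surjective
  choose b hb using fun i : Fin 2 => hs (φ (Ideal.Quotient.mk _ (X i)))
  obtain ⟨w, hw⟩ := taylor1 F ![0, -v] F
  set G : Fin 2 → MvPolynomial (Fin 2) k := fun i => X i + ![0, -v] i * F with hG
  have hGF : aeval G F = F ^ 2 * (u + w) := by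
    rw [hw]
    simp only [Matrix.cons_val_zero, Matrix.cons_val_one]
    linear_combination (-F) * h
  let ψ0 : MvPolynomial (Fin 2) k →ₐ[k] B := aeval b
  have hψ0 : ∀ x, Ideal.Quotient.mk I (ψ0 x) = φ (Ideal.Quotient.mk _ x) := by
    intro x
    have : (Ideal.Quotient.mkₐ k I).comp ψ0
        = φ.comp (Ideal.Quotient.mkₐ k (Ideal.span {F})) := by
      apply MvPolynomial.algHom_ext
      intro i
      simp [ψ0, hb]
    exact DFunLike.congr_fun this x
  have ht : ψ0 F ∈ I := by
    rw [← Ideal.Quotient.eq_zero_iff_mem, hψ0,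
      Ideal.Quotient.eq_zero_iff_mem.mpr (Ideal.mem_span_singleton_self F), map_zero]
  let ψ : MvPolynomial (Fin 2) k →ₐ[k] B := ψ0.comp (aeval G)
  have hψF : ψ F = 0 := by
    show ψ0 (aeval G F) = 0
    rw [hGF, map_mul, map_pow]
    have h2 : ψ0 F ^ 2 ∈ I ^ 2 := Ideal.pow_mem_pow ht 2
    rw [hI] at h2
    rw [Ideal.mem_bot.mp h2, zero_mul]
  refine ⟨Ideal.Quotient.liftₐ (Ideal.span {F}) ψ ?_, ?_⟩
  · intro a ha
    obtain ⟨r, rfl⟩ := Ideal.mem_span_singleton'.mp ha
    rw [map_mul, hψF, mul_zero]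
  · apply Ideal.Quotient.algHom_ext
    apply MvPolynomial.algHom_ext
    intro i
    show Ideal.Quotient.mk I (ψ (X i)) = φ (Ideal.Quotient.mk _ (X i))
    have e1 : ψ (X i) = ψ0 (G i) := by
      show ψ0 (aeval G (X i)) = ψ0 (G i)
      rw [aeval_X]
    rw [e1, hψ0]
    congr 1
    rw [Ideal.Quotient.eq]
    have : G i - X i = ![0, -v] i * F := by simp [hG]
    rw [this]
    exact Ideal.mul_mem_left _ _ (Ideal.mem_span_singleton_self F)

theorem smooth_of {k : Type u} [Field k] (F u v : MvPolynomial (Fin 2) k)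
    (h : u * F + v * pderiv 1 F = 1) :
    Algebra.Smooth k (MvPolynomial (Fin 2) k ⧸ Ideal.span {F}) :=
  { formallySmooth := formallySmooth_of F u v h
    finitePresentation := Algebra.FinitePresentation.quotient ⟨{F}, by simp⟩ }

theorem not_formallySmooth_of {k : Type u} [Field k] (F : MvPolynomial (Fin 2) k) (hF : F ≠ 0)
    {L : Type*} [Field L] [Algebra k L] (pt : Fin 2 → L)
    (h0 : aeval pt F = 0) (h1 : ∀ i, aeval pt (pderiv i F) = 0) :
    ¬ Algebra.FormallySmooth k (MvPolynomial (Fin 2) k ⧸ Ideal.span {F}) := by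
  intro hsm
  have hle : Ideal.span {F ^ 2} ≤ Ideal.span {F} := by
    rw [Ideal.span_singleton_le_span_singleton]
    exact dvd_pow_self F two_ne_zero
  let g : (MvPolynomial (Fin 2) k ⧸ Ideal.span {F ^ 2}) →ₐ[k]
      (MvPolynomial (Fin 2) k ⧸ Ideal.span {F}) := Ideal.Quotient.factorₐ k hle
  have hgmk : ∀ a, g (Ideal.Quotient.mk _ a) = Ideal.Quotient.mk _ a := fun a => rfl
  have hg : Function.Surjective g := Ideal.Quotient.factor_surjective hle
  have hmem : ∀ x ∈ RingHom.ker (g : (MvPolynomial (Fin 2) k ⧸ Ideal.span {F ^ 2}) →+* (MvPolynomial (Fin 2) k ⧸ Ideal.span {F})), ∃ r, x = Ideal.Quotient.mk _ (r * F) := by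
    intro x hx
    obtain ⟨a, rfl⟩ := Ideal.Quotient.mk_surjective x
    rw [RingHom.mem_ker] at hx
    have hx' : Ideal.Quotient.mk (Ideal.span {F}) a = 0 := hx
    rw [Ideal.Quotient.eq_zero_iff_mem] at hx'
    obtain ⟨r, hr⟩ := Ideal.mem_span_singleton'.mp hx'
    exact ⟨r, by rw [hr]⟩
  have hnil : IsNilpotent (RingHom.ker (g : (MvPolynomial (Fin 2) k ⧸ Ideal.span {F ^ 2}) →+* (MvPolynomial (Fin 2) k ⧸ Ideal.span {F}))) := by
    refine ⟨2, ?_⟩
    rw [pow_two (RingHom.ker (g : (MvPolynomial (Fin 2) k ⧸ Ideal.span {F ^ 2}) →+* (MvPolynomial (Fin 2) k ⧸ Ideal.span {F}))), Ideal.zero_eq_bot, eq_bot_iff, Ideal.mul_le]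
    intro x hx y hy
    obtain ⟨r, rfl⟩ := hmem x hx
    obtain ⟨s, rfl⟩ := hmem y hy
    rw [Ideal.mem_bot, ← map_mul, Ideal.Quotient.eq_zero_iff_mem]
    refine Ideal.mem_span_singleton'.mpr ⟨r * s, by ring⟩
  let s := Algebra.FormallySmooth.liftOfSurjective
    (AlgHom.id k (MvPolynomial (Fin 2) k ⧸ Ideal.span {F})) g hg hnil
  have hs : ∀ x, g (s x) = x := fun x =>
    Algebra.FormallySmooth.liftOfSurjective_apply _ g hg hnil x
  choose G hG using fun i : Fin 2 =>
    Ideal.Quotient.mk_surjective (s (Ideal.Quotient.mk _ (X i)))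
  have hGX : ∀ i, G i - X i ∈ Ideal.span {F} := by
    intro i
    rw [← Ideal.Quotient.eq, ← hgmk (G i), hG, hs]
  choose c hc using fun i => Ideal.mem_span_singleton'.mp (hGX i)
  have hGc : G = fun i => X i + c i * F := by
    funext i
    rw [hc i]; ring
  have hcomp : s.comp (Ideal.Quotient.mkₐ k (Ideal.span {F}))
      = (Ideal.Quotient.mkₐ k (Ideal.span {F ^ 2})).comp (aeval G) := by
    apply MvPolynomial.algHom_ext
    intro i
    simp [hG]
  have hF2 : aeval G F ∈ Ideal.span {F ^ 2} := by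
    rw [← Ideal.Quotient.eq_zero_iff_mem]
    have := DFunLike.congr_fun hcomp F
    simp only [AlgHom.comp_apply, Ideal.Quotient.mkₐ_eq_mk] at this
    rw [← this, Ideal.Quotient.eq_zero_iff_mem.mpr (Ideal.mem_span_singleton_self F), map_zero]
  obtain ⟨r, hr⟩ := Ideal.mem_span_singleton'.mp hF2
  obtain ⟨w, hw⟩ := taylor1 F c F
  rw [← hGc, ← hr] at hw
  have key : F * (1 + c 0 * pderiv 0 F + c 1 * pderiv 1 F + F * w - r * F) = 0 := by
    linear_combination (-1 : MvPolynomial (Fin 2) k) * hw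
  have key2 := (mul_eq_zero.mp key).resolve_left hF
  have key3 := congrArg (aeval pt) key2
  simp [h0, h1] at key3

end Groth.Agent.Helper6.Hirz
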