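import Mathlib
import Groth.Agent.Helper6.HirzA

set_option backward.isDefEq.respectTransparency false
set_option backward.isDefEq.respectTransparency.types false
set_option autoImplicit false

universe u

namespace Groth.Agent.Helper6.Hirz

open MvPolynomial

variable {k : Type u} [Field k]

/-- A univariate polynomial as a polynomial in the variable `X 0`. -/
noncomputable def hat : Polynomial k →ₐ[k] MvPolynomial (Fin 2) k :=
  Polynomial.aeval (X 0 : MvPolynomial (Fin 2) k)

theorem hat_monomial (n : ℕ) (a : k) : hat (Polynomial.monomial n a) = C a * X 0 ^ n := by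
  simp [hat, Polynomial.aeval_monomial, MvPolynomial.algebraMap_eq]

theorem pderiv1_hat (f : Polynomial k) : pderiv 1 (hat f) = 0 := by
  induction f using Polynomial.induction_on' with
  | add p q hp hq => rw [map_add, map_add, hp, hq, add_zero]
  | monomial n a =>
    rw [hat_monomial]
    simp [Derivation.leibniz, Derivation.leibniz_pow, pderiv_X]

theorem pderiv0_hat (f : Polynomial k) : pderiv 0 (hat f) = hat (Polynomial.derivative f) := by
  induction f using Polynomial.induction_on' with
  | add p q hp hq => rw [map_add, map_add, hp, hq, map_add, map_add]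
  | monomial n a =>
    rw [hat_monomial, Polynomial.derivative_monomial, hat_monomial]
    simp [Derivation.leibniz, Derivation.leibniz_pow, pderiv_X]
    ring

theorem aeval_hat {S : Type*} [CommRing S] [Algebra k S] (pt : Fin 2 → S) (f : Polynomial k) :
    aeval pt (hat f) = Polynomial.aeval (pt 0) f := by
  have := Polynomial.aeval_algHom_apply (aeval pt : MvPolynomial (Fin 2) k →ₐ[k] S) (X 0) f
  rw [aeval_X] at this
  exact this.symm

theorem pderiv1_chart1 (f g : Polynomial k) : pderiv 1 (hat f + hat g * X 1) = hat g := by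
  simp [Derivation.leibniz, pderiv1_hat, pderiv_X]

theorem pderiv0_chart1 (f g : Polynomial k) :
    pderiv 0 (hat f + hat g * X 1)
      = hat (Polynomial.derivative f) + hat (Polynomial.derivative g) * X 1 := by
  simp [Derivation.leibniz, pderiv0_hat, pderiv_X]
  ring

theorem pderiv1_chart2 (f g : Polynomial k) : pderiv 1 (hat f * X 1 + hat g) = hat f := by
  simp [Derivation.leibniz, pderiv1_hat, pderiv_X]

theorem pderiv0_chart2 (f g : Polynomial k) :
    pderiv 0 (hat f * X 1 + hat g)
      = hat (Polynomial.derivative f) * X 1 + hat (Polynomial.derivative g) := by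
  simp [Derivation.leibniz, pderiv0_hat, pderiv_X]
  ring

theorem smooth_charts (f g : Polynomial k) (h : IsCoprime f g) :
    Algebra.Smooth k (MvPolynomial (Fin 2) k ⧸ Ideal.span {hat f + hat g * X 1}) ∧
    Algebra.Smooth k (MvPolynomial (Fin 2) k ⧸ Ideal.span {hat f * X 1 + hat g}) := by
  obtain ⟨a, b, hab⟩ := h
  have H : hat a * hat f + hat b * hat g = 1 := by
    rw [← map_mul, ← map_mul, ← map_add, hab, map_one]
  constructor
  · refine smooth_of _ (hat a) (hat b - hat a * X 1) ?_
    rw [pderiv1_chart1]
    linear_combination H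
  · refine smooth_of _ (hat b) (hat a - hat b * X 1) ?_
    rw [pderiv1_chart2]
    linear_combination H

theorem aeval_X_hat (f : Polynomial k) (c : Polynomial k) :
    aeval (![Polynomial.X, c] : Fin 2 → Polynomial k) (hat f) = f := by
  rw [aeval_hat]
  simp

theorem chart1_ne_zero (f g : Polynomial k) (h0 : f ≠ 0 ∨ g ≠ 0) : hat f + hat g * X 1 ≠ 0 := by
  intro h
  have e0 := congrArg (aeval (![Polynomial.X, 0] : Fin 2 → Polynomial k)) h
  have e1 := congrArg (aeval (![Polynomial.X, 1] : Fin 2 → Polynomial k)) h
  simp only [map_add, map_mul, aeval_X_hat, aeval_X, Matrix.cons_val_one, Matrix.cons_val_zero,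
    mul_zero, add_zero, mul_one, map_zero] at e0 e1
  rw [e0, zero_add] at e1
  rcases h0 with h0 | h0
  · exact h0 e0
  · exact h0 e1

theorem chart2_ne_zero (f g : Polynomial k) (h0 : f ≠ 0 ∨ g ≠ 0) : hat f * X 1 + hat g ≠ 0 := by
  intro h
  have e0 := congrArg (aeval (![Polynomial.X, 0] : Fin 2 → Polynomial k)) h
  have e1 := congrArg (aeval (![Polynomial.X, 1] : Fin 2 → Polynomial k)) h
  simp only [map_add, map_mul, aeval_X_hat, aeval_X, Matrix.cons_val_one, Matrix.cons_val_zero,
    mul_zero, zero_add, mul_one, map_zero] at e0 e1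
  rw [e0, add_zero] at e1
  rcases h0 with h0 | h0
  · exact h0 e1
  · exact h0 e0

theorem not_smooth_charts (f g : Polynomial k) (h0 : f ≠ 0 ∨ g ≠ 0)
    {L : Type*} [Field L] [Algebra k L] (x0 : L)
    (hf : Polynomial.aeval x0 f = 0) (hg : Polynomial.aeval x0 g = 0) :
    ¬ (Algebra.Smooth k (MvPolynomial (Fin 2) k ⧸ Ideal.span {hat f + hat g * X 1}) ∧
      Algebra.Smooth k (MvPolynomial (Fin 2) k ⧸ Ideal.span {hat f * X 1 + hat g})) := by
  rintro ⟨h1, h2⟩
  by_cases hd : Polynomial.aeval x0 (Polynomial.derivative g) = 0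
  · refine not_formallySmooth_of _ (chart2_ne_zero f g h0) (![x0, 0] : Fin 2 → L) ?_ ?_
      h2.formallySmooth
    · simp [aeval_hat, hf, hg]
    · intro i
      fin_cases i
      · show aeval _ (pderiv 0 _) = 0
        rw [pderiv0_chart2]
        simp [aeval_hat, hd]
      · show aeval _ (pderiv 1 _) = 0
        rw [pderiv1_chart2]
        simp [aeval_hat, hf]
  · refine not_formallySmooth_of _ (chart1_ne_zero f g h0)
      (![x0, - Polynomial.aeval x0 (Polynomial.derivative f)
        / Polynomial.aeval x0 (Polynomial.derivative g)] : Fin 2 → L) ?_ ?_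
      h1.formallySmooth
    · simp [aeval_hat, hf, hg]
    · intro i
      fin_cases i
      · show aeval _ (pderiv 0 _) = 0
        rw [pderiv0_chart1]
        simp [aeval_hat]
        field_simp
        ring
      · show aeval _ (pderiv 1 _) = 0
        rw [pderiv1_chart1]
        simp [aeval_hat, hg]

end Groth.Agent.Helper6.Hirz
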