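import Mathlib
import Groth.Agent.Helper6.HirzB

set_option backward.isDefEq.respectTransparency false
set_option backward.isDefEq.respectTransparency.types false
set_option autoImplicit false

universe u

namespace Groth.Agent.Helper6.Hirz

open Polynomial

variable {k : Type u} [Field k]

/-- The polynomial with a given coefficient vector. -/
noncomputable def pol {N : ℕ} (c : Fin (N + 1) → k) : k[X] :=
  ∑ j : Fin (N + 1), C (c j) * X ^ (j : ℕ)

theorem coeff_pol {N : ℕ} (c : Fin (N + 1) → k) (j : Fin (N + 1)) :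
    (pol c).coeff (j : ℕ) = c j := by
  unfold pol
  rw [finsetSum_coeff, Finset.sum_eq_single j]
  · simp
  · intro b _ hb
    rw [coeff_C_mul_X_pow, if_neg]
    intro h
    exact hb (Fin.ext h.symm)
  · simp

theorem natDegree_pol_le {N : ℕ} (c : Fin (N + 1) → k) : (pol c).natDegree ≤ N := by
  unfold pol
  refine natDegree_sum_le_of_forall_le _ _ (fun j _ => ?_)
  exact (natDegree_C_mul_X_pow_le _ _).trans (Nat.lt_succ_iff.mp j.2)

theorem pol_eq_zero {N : ℕ} (c : Fin (N + 1) → k) (h : pol c = 0) : c = 0 := by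
  funext j
  rw [← coeff_pol c j, h, coeff_zero]
  rfl

theorem reflect_pol {N : ℕ} (c : Fin (N + 1) → k) :
    reflect N (pol c) = ∑ j : Fin (N + 1), C (c j) * X ^ (N - (j : ℕ)) := by
  unfold pol
  have : ∀ (s : Finset (Fin (N + 1))),
      reflect N (∑ j ∈ s, C (c j) * X ^ (j : ℕ)) = ∑ j ∈ s, C (c j) * X ^ (N - (j : ℕ)) := by
    intro s
    induction s using Finset.induction_on with
    | empty => simp
    | insert a s ha ih =>
      rw [Finset.sum_insert ha, Finset.sum_insert ha, reflect_add, ih, reflect_C_mul_X_pow,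
        revAt_le (Nat.lt_succ_iff.mp a.2)]
  exact this _

theorem natDegree_le_of_mem_degreeLT {N : ℕ} {p : k[X]} (h : p ∈ degreeLT k (N + 1)) :
    p.natDegree ≤ N := by
  rw [mem_degreeLT] at h
  rw [natDegree_le_iff_coeff_eq_zero]
  intro M hM
  exact (degree_lt_iff_coeff_zero _ _).mp h M (by omega)

theorem coprime_of_resultant_ne_zero (f g : k[X]) (n : ℕ) (hf : f.natDegree ≤ 2)
    (hg : g.natDegree ≤ n + 1) (hR : resultant f g 2 (n + 1) ≠ 0) :
    IsCoprime f g ∧ IsCoprime (reflect 2 f) (reflect (n + 1) g) := by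
  have hinv : C (resultant f g 2 (n + 1))⁻¹ * C (resultant f g 2 (n + 1)) = (1 : k[X]) := by
    rw [← C_mul, inv_mul_cancel₀ hR, C_1]
  constructor
  · obtain ⟨p, q, -, -, e⟩ :=
      exists_mul_add_mul_eq_C_resultant f g hf hg (Or.inl two_ne_zero)
    exact ⟨C (resultant f g 2 (n + 1))⁻¹ * p, C (resultant f g 2 (n + 1))⁻¹ * q, by
      linear_combination (C (resultant f g 2 (n + 1))⁻¹) * e + hinv⟩
  · have hmem : (X : k[X]) ^ (n + 2) ∈ degreeLT k (2 + (n + 1)) := by
      rw [mem_degreeLT]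
      refine (degree_X_pow_le _).trans_lt ?_
      exact_mod_cast (by omega : n + 2 < 2 + (n + 1))
    have h1 := LinearMap.congr_fun (sylveserMap_comp_adjSylvester f g hf hg)
      ⟨X ^ (n + 2), hmem⟩
    have key : f * ((adjSylvester (m := 2) (n := n + 1) f g ⟨X ^ (n + 2), hmem⟩).2 : k[X])
        + g * ((adjSylvester (m := 2) (n := n + 1) f g ⟨X ^ (n + 2), hmem⟩).1 : k[X])
        = resultant f g 2 (n + 1) • X ^ (n + 2) := congrArg Subtype.val h1
    set p : k[X] := ((adjSylvester (m := 2) (n := n + 1) f g ⟨X ^ (n + 2), hmem⟩).1 : k[X])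
      with hp
    set q : k[X] := ((adjSylvester (m := 2) (n := n + 1) f g ⟨X ^ (n + 2), hmem⟩).2 : k[X])
      with hq
    have hpd : p.natDegree ≤ 1 := natDegree_le_of_mem_degreeLT (Subtype.property _)
    have hqd : q.natDegree ≤ n := natDegree_le_of_mem_degreeLT (Subtype.property _)
    have e1 : reflect (n + 2) (f * q) = reflect 2 f * reflect n q := by
      rw [show n + 2 = 2 + n by ring]
      exact reflect_mul f q hf hqd
    have e2 : reflect (n + 2) (g * p) = reflect (n + 1) g * reflect 1 p :=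
      reflect_mul g p hg hpd
    have e3 : reflect (n + 2) (resultant f g 2 (n + 1) • X ^ (n + 2))
        = C (resultant f g 2 (n + 1)) := by
      rw [smul_eq_C_mul, reflect_C_mul_X_pow, revAt_le le_rfl, Nat.sub_self, pow_zero, mul_one]
    have key' := congrArg (reflect (n + 2)) key
    rw [reflect_add, e1, e2, e3] at key'
    exact ⟨C (resultant f g 2 (n + 1))⁻¹ * reflect n q,
      C (resultant f g 2 (n + 1))⁻¹ * reflect 1 p, by
      linear_combination (C (resultant f g 2 (n + 1))⁻¹) * key' + hinv⟩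

theorem resultant_default_eq_zero (f g : k[X]) (m n : ℕ) (hf : f.natDegree ≤ m)
    (hg : g.natDegree ≤ n) (hc : f.coeff m ≠ 0 ∨ g.coeff n ≠ 0)
    (hR : resultant f g m n = 0) : resultant f g = 0 := by
  rcases hc with hc | hc
  · have hm : f.natDegree = m := natDegree_eq_of_le_of_coeff_ne_zero hf hc
    subst hm
    obtain ⟨j, rfl⟩ := Nat.exists_eq_add_of_le hg
    rw [resultant_add_right_deg _ _ _ _ j le_rfl] at hR
    rcases mul_eq_zero.mp hR with h | h
    · exact absurd h (pow_ne_zero j hc)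
    · exact h
  · have hn : g.natDegree = n := natDegree_eq_of_le_of_coeff_ne_zero hg hc
    subst hn
    obtain ⟨j, rfl⟩ := Nat.exists_eq_add_of_le hf
    rw [resultant_add_left_deg _ _ _ _ j le_rfl] at hR
    rcases mul_eq_zero.mp hR with h | h
    · rcases mul_eq_zero.mp h with h' | h'
      · exact absurd h' (pow_ne_zero _ (by simp))
      · exact absurd h' (pow_ne_zero j hc)
    · exact h

theorem common_root (f g : k[X]) (h0 : f ≠ 0 ∨ g ≠ 0) (hc : ¬ IsCoprime f g) :
    ∃ x : AlgebraicClosure k, aeval x f = 0 ∧ aeval x g = 0 := by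
  classical
  have hd0 : EuclideanDomain.gcd f g ≠ 0 := by
    intro h
    rw [EuclideanDomain.gcd_eq_zero_iff] at h
    rcases h0 with h0 | h0
    · exact h0 h.1
    · exact h0 h.2
  have hdu : ¬ IsUnit (EuclideanDomain.gcd f g) := by
    rw [EuclideanDomain.gcd_isUnit_iff]
    exact hc
  have hdeg : (EuclideanDomain.gcd f g).degree ≠ 0 := by
    intro h
    exact hdu (isUnit_iff_degree_eq_zero.mpr h)
  obtain ⟨x, hx⟩ := IsAlgClosed.exists_aeval_eq_zero (AlgebraicClosure k) _ hdeg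
  refine ⟨x, ?_, ?_⟩
  · obtain ⟨e, he⟩ := EuclideanDomain.gcd_dvd_left f g
    calc aeval x f = aeval x (EuclideanDomain.gcd f g * e) := by rw [← he]
      _ = 0 := by rw [map_mul, hx, zero_mul]
  · obtain ⟨e, he⟩ := EuclideanDomain.gcd_dvd_right f g
    calc aeval x g = aeval x (EuclideanDomain.gcd f g * e) := by rw [← he]
      _ = 0 := by rw [map_mul, hx, zero_mul]

theorem hat_pol {N : ℕ} (c : Fin (N + 1) → k) :
    hat (pol c) = ∑ j : Fin (N + 1), MvPolynomial.C (c j) * MvPolynomial.X 0 ^ (j : ℕ) := by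
  unfold pol
  rw [map_sum]
  refine Finset.sum_congr rfl (fun j _ => ?_)
  rw [Polynomial.C_mul_X_pow_eq_monomial, hat_monomial]

theorem hat_reflect_pol {N : ℕ} (c : Fin (N + 1) → k) :
    hat (reflect N (pol c))
      = ∑ j : Fin (N + 1), MvPolynomial.C (c j) * MvPolynomial.X 0 ^ (N - (j : ℕ)) := by
  rw [reflect_pol, map_sum]
  refine Finset.sum_congr rfl (fun j _ => ?_)
  rw [Polynomial.C_mul_X_pow_eq_monomial, hat_monomial]

theorem main (k : Type u) [Field k] (n : ℕ) (hn : 3 ≤ n)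
    (q : Fin 3 → k) (ξ : Fin (n + 1) → k) (hqξ : q ≠ 0 ∨ ξ ≠ 0) :
    (Algebra.Smooth k (MvPolynomial (Fin 2) k ⧸ Ideal.span ({(∑ i : Fin 3, MvPolynomial.C (q i) * MvPolynomial.X 0 ^ (i : ℕ)) + (∑ j : Fin (n + 1), MvPolynomial.C (ξ j) * MvPolynomial.X 0 ^ (j : ℕ)) * MvPolynomial.X 1} : Set (MvPolynomial (Fin 2) k))) ∧
      Algebra.Smooth k (MvPolynomial (Fin 2) k ⧸ Ideal.span ({(∑ i : Fin 3, MvPolynomial.C (q i) * MvPolynomial.X 0 ^ (i : ℕ)) * MvPolynomial.X 1 + (∑ j : Fin (n + 1), MvPolynomial.C (ξ j) * MvPolynomial.X 0 ^ (j : ℕ))} : Set (MvPolynomial (Fin 2) k))) ∧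
      Algebra.Smooth k (MvPolynomial (Fin 2) k ⧸ Ideal.span ({(∑ i : Fin 3, MvPolynomial.C (q i) * MvPolynomial.X 0 ^ (2 - (i : ℕ))) + (∑ j : Fin (n + 1), MvPolynomial.C (ξ j) * MvPolynomial.X 0 ^ (n - (j : ℕ))) * MvPolynomial.X 1} : Set (MvPolynomial (Fin 2) k))) ∧
      Algebra.Smooth k (MvPolynomial (Fin 2) k ⧸ Ideal.span ({(∑ i : Fin 3, MvPolynomial.C (q i) * MvPolynomial.X 0 ^ (2 - (i : ℕ))) * MvPolynomial.X 1 + (∑ j : Fin (n + 1), MvPolynomial.C (ξ j) * MvPolynomial.X 0 ^ (n - (j : ℕ)))} : Set (MvPolynomial (Fin 2) k)))) ↔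
    Polynomial.resultant (∑ i : Fin 3, Polynomial.C (q i) * Polynomial.X ^ (i : ℕ))
      (∑ j : Fin (n + 1), Polynomial.C (ξ j) * Polynomial.X ^ (j : ℕ)) 2 n ≠ 0 := by
  obtain ⟨n, rfl⟩ : ∃ n', n = n' + 1 := ⟨n - 1, by omega⟩
  have hQ : (pol q).natDegree ≤ 2 := natDegree_pol_le q
  have hΞ : (pol ξ).natDegree ≤ n + 1 := natDegree_pol_le ξ
  have h0 : pol q ≠ 0 ∨ pol ξ ≠ 0 := by
    rcases hqξ with h | h
    · exact Or.inl (fun e => h (pol_eq_zero q e))
    · exact Or.inr (fun e => h (pol_eq_zero ξ e))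
  have h0r : reflect 2 (pol q) ≠ 0 ∨ reflect (n + 1) (pol ξ) ≠ 0 := by
    rcases h0 with h | h
    · exact Or.inl (fun e => h (reflect_eq_zero_iff.mp e))
    · exact Or.inr (fun e => h (reflect_eq_zero_iff.mp e))
  rw [← hat_pol q, ← hat_pol ξ, ← hat_reflect_pol q, ← hat_reflect_pol ξ]
  show _ ↔ resultant (pol q) (pol ξ) 2 (n + 1) ≠ 0
  constructor
  · rintro ⟨s1, s2, s3, s4⟩ hR
    by_cases hinf : (pol q).coeff 2 = 0 ∧ (pol ξ).coeff (n + 1) = 0
    · refine not_smooth_charts _ _ h0r (0 : k) ?_ ?_ ⟨s3, s4⟩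
      · rw [← coeff_zero_eq_aeval_zero, coeff_reflect, revAt_le (Nat.zero_le _)]
        exact hinf.1
      · rw [← coeff_zero_eq_aeval_zero, coeff_reflect, revAt_le (Nat.zero_le _)]
        exact hinf.2
    · have hc : (pol q).coeff 2 ≠ 0 ∨ (pol ξ).coeff (n + 1) ≠ 0 := by
        by_contra hcon
        push Not at hcon
        exact hinf hcon
      have hres := resultant_default_eq_zero _ _ 2 (n + 1) hQ hΞ hc hR
      rw [resultant_eq_zero_iff] at hres
      obtain ⟨x, hx1, hx2⟩ := common_root _ _ h0 hres.2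
      exact not_smooth_charts _ _ h0 x hx1 hx2 ⟨s1, s2⟩
  · intro hR
    obtain ⟨c1, c2⟩ := coprime_of_resultant_ne_zero _ _ n hQ hΞ hR
    obtain ⟨s1, s2⟩ := smooth_charts _ _ c1
    obtain ⟨s3, s4⟩ := smooth_charts _ _ c2
    exact ⟨s1, s2, s3, s4⟩

end Groth.Agent.Helper6.Hirz
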