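import Mathlib
import Groth.Agent.Helper6.HomElem3

/-!
# The class map `ker d → H` for complexes of modules (any shape), with naturality
-/

set_option autoImplicit false
set_option linter.style.haveILetI false
set_option linter.unusedSectionVars false

universe v u
open CategoryTheory CategoryTheory.Limits

namespace Groth.Agent.Helper6.HomElem

variable {R : Type u} [Ring R] {ι : Type*} {c : ComplexShape ι}
variable (K : HomologicalComplex (ModuleCat.{v} R) c)

/-- cycles as a submodule -/
abbrev Zc (j k : ι) : Submodule R (K.X j) := LinearMap.ker (K.d j k).hom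

/-- from the submodule of cycles to the categorical cycles -/
noncomputable def toCyc (j k : ι) (hk : c.next j = k) : ModuleCat.of R (Zc K j k) ⟶ K.cycles j :=
  K.liftCycles (ModuleCat.ofHom (Zc K j k).subtype) k hk
    (ModuleCat.hom_ext (LinearMap.ext fun t => LinearMap.mem_ker.mp t.2))

lemma iCycles_toCyc (j k : ι) (hk : c.next j = k) (z : Zc K j k) :
    K.iCycles j ((toCyc K j k hk).hom z) = z.1 :=
  congrArg (fun f => f.hom z) (K.liftCycles_i (ModuleCat.ofHom (Zc K j k).subtype) k hk
    (ModuleCat.hom_ext (LinearMap.ext fun t => LinearMap.mem_ker.mp t.2)))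

lemma iCycles_injective (j : ι) : Function.Injective (K.iCycles j) :=
  (ModuleCat.mono_iff_injective _).mp inferInstance

/-- the class of a cycle -/
noncomputable def clsMap (j k : ι) (hk : c.next j = k) : Zc K j k →ₗ[R] K.homology j :=
  (toCyc K j k hk ≫ K.homologyπ j).hom

lemma clsMap_apply (j k : ι) (hk : c.next j = k) (z : Zc K j k) :
    clsMap K j k hk z = K.homologyπ j ((toCyc K j k hk).hom z) := rfl

lemma clsMap_surjective (j k : ι) (hk : c.next j = k) : Function.Surjective (clsMap K j k hk) := by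
  intro h
  obtain ⟨w, rfl⟩ := (ModuleCat.epi_iff_surjective (K.homologyπ j)).mp inferInstance h
  have hz : K.d j k (K.iCycles j w) = 0 := congrArg (fun f => f.hom w) (K.iCycles_d j k)
  refine ⟨⟨K.iCycles j w, LinearMap.mem_ker.mpr hz⟩, ?_⟩
  rw [clsMap_apply]
  congr 1
  apply iCycles_injective K j
  rw [iCycles_toCyc]

lemma clsMap_eq_zero_iff (i j k : ι) (hi : c.prev j = i) (hk : c.next j = k) (z : Zc K j k) :
    clsMap K j k hk z = 0 ↔ ∃ y : K.X i, K.d i j y = z.1 := by
  rw [clsMap_apply, homologyπ_eq_zero_iff K i j hi]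
  have e1 : ∀ y : K.X i, K.iCycles j (K.toCycles i j y) = K.d i j y := fun y =>
    congrArg (fun f => f.hom y) (K.toCycles_i i j)
  constructor
  · rintro ⟨y, hy⟩
    refine ⟨y, ?_⟩
    rw [← e1, hy, iCycles_toCyc]
  · rintro ⟨y, hy⟩
    refine ⟨y, ?_⟩
    apply iCycles_injective K j
    rw [e1, hy, iCycles_toCyc]

variable {K} {L : HomologicalComplex (ModuleCat.{v} R) c} (φ : K ⟶ L)

lemma map_mem_Zc (j k : ι) (z : Zc K j k) : φ.f j z.1 ∈ Zc L j k := by
  rw [LinearMap.mem_ker]
  have h := congrArg (fun f => f.hom z.1) (φ.comm j k)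
  have h' : L.d j k (φ.f j z.1) = φ.f k (K.d j k z.1) := h
  have hz : K.d j k z.1 = 0 := LinearMap.mem_ker.mp z.2
  rw [hz, map_zero] at h'
  exact h'

/-- naturality of the class map -/
lemma homologyMap_clsMap (j k : ι) (hk : c.next j = k) (z : Zc K j k) :
    HomologicalComplex.homologyMap φ j (clsMap K j k hk z) =
      clsMap L j k hk ⟨φ.f j z.1, map_mem_Zc φ j k z⟩ := by
  rw [clsMap_apply, clsMap_apply]
  have h1 := congrArg (fun f => f.hom ((toCyc K j k hk).hom z))
    (HomologicalComplex.homologyπ_naturality φ j)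
  have h1' : HomologicalComplex.homologyMap φ j (K.homologyπ j ((toCyc K j k hk).hom z)) =
      L.homologyπ j (HomologicalComplex.cyclesMap φ j ((toCyc K j k hk).hom z)) := h1
  rw [h1']
  congr 1
  apply iCycles_injective L j
  have e2 : L.iCycles j (HomologicalComplex.cyclesMap φ j ((toCyc K j k hk).hom z)) =
      φ.f j (K.iCycles j ((toCyc K j k hk).hom z)) :=
    congrArg (fun f => f.hom ((toCyc K j k hk).hom z)) (HomologicalComplex.cyclesMap_i φ j)
  rw [e2, iCycles_toCyc, iCycles_toCyc]

end Groth.Agent.Helper6.HomElem
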