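import Mathlib
import Groth.Agent.Helper6.HopfRey

/-!
Total integral ⇔ comodule retraction of the coaction `B → B ⊗ A`.
-/

set_option autoImplicit false

namespace Groth.Agent.Helper6.HopfInt

open TensorProduct Groth.Agent.Helper6.HopfSw Groth.Agent.Helper6.HopfRey

variable {k : Type*} [CommRing k] {A : Type*} [CommRing A] [HopfAlgebra k A]
variable {B : Type*} [CommRing B] [Algebra k B] [HopfRep.Comod k A B] [GLin.IsCoactAlg k A B]

/-- `(b' ⊗ a') ⊗ a ↦ b' * α (S a' * a)` -/
noncomputable def Gfull (α : A →ₗ[k] B) : (B ⊗[k] A) ⊗[k] A →ₗ[k] B :=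
  LinearMap.mul' k B ∘ₗ
    (α ∘ₗ LinearMap.mul' k A ∘ₗ (HopfAlgebraStruct.antipode (R := k) (A := A)).rTensor A).lTensor B ∘ₗ
    (TensorProduct.assoc k B A A).toLinearMap

omit [HopfRep.Comod k A B] [GLin.IsCoactAlg k A B] in
@[simp] theorem Gfull_tmul (α : A →ₗ[k] B) (b' : B) (a' a : A) :
    Gfull α ((b' ⊗ₜ[k] a') ⊗ₜ[k] a) = b' * α (HopfAlgebraStruct.antipode (R := k) a' * a) := by
  simp [Gfull]

/-- the retraction attached to a total integral -/
noncomputable def lam (α : A →ₗ[k] B) : B ⊗[k] A →ₗ[k] B :=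
  Gfull α ∘ₗ (HopfRep.Comod.coact (k := k) (A := A) (V := B)).rTensor A

omit [GLin.IsCoactAlg k A B] in
theorem lam_coact (α : A →ₗ[k] B) (hα1 : α 1 = 1) (b : B) :
    lam α (HopfRep.Comod.coact (k := k) (A := A) b) = b := by
  unfold lam
  rw [LinearMap.comp_apply, coassoc_apply]
  have key : ∀ z : B ⊗[k] A, Gfull α ((TensorProduct.assoc k B A A).symm
      ((Coalgebra.comul (R := k) (A := A)).lTensor B z)) =
      (TensorProduct.rid k B) ((Coalgebra.counit (R := k) (A := A)).lTensor B z) := by
    intro z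
    induction z using TensorProduct.induction_on with
    | zero => simp
    | add x y hx hy => simp only [map_add, hx, hy]
    | tmul b' a =>
      rw [LinearMap.lTensor_tmul, LinearMap.lTensor_tmul, TensorProduct.rid_tmul]
      have sub : ∀ w : A ⊗[k] A, Gfull α ((TensorProduct.assoc k B A A).symm (b' ⊗ₜ[k] w)) =
          b' * α (LinearMap.mul' k A ((HopfAlgebraStruct.antipode (R := k) (A := A)).rTensor A w)) := by
        intro w
        induction w using TensorProduct.induction_on with
        | zero => simp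
        | add x y hx hy => simp only [TensorProduct.tmul_add, map_add, mul_add, hx, hy]
        | tmul x y => simp
      rw [sub, HopfAlgebra.mul_antipode_rTensor_comul_apply, Algebra.algebraMap_eq_smul_one,
        map_smul, hα1, mul_smul_comm, mul_one]
  rw [key, rid_counit_apply]

theorem lam_isComodHom (α : A →ₗ[k] B) (hα : Hoch.IsComodHom A α) :
    HopfRep.Comod.coact (k := k) (A := A) (V := B) ∘ₗ lam α =
      (lam α).rTensor A ∘ₗ Hoch.Ind.coactAux k A B := by
  unfold Hoch.IsComodHom at hα
  have hα' : ∀ x : A, HopfRep.Comod.coact (k := k) (A := A) (α x) =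
      α.rTensor A (Coalgebra.comul (R := k) x) := fun x => LinearMap.congr_fun hα x
  let S : A →ₗ[k] A := HopfAlgebraStruct.antipode (R := k) (A := A)
  have hmul : ∀ (x : A) (u : A ⊗[k] A), ((1 : B) ⊗ₜ[k] x) * α.rTensor A u =
      α.rTensor A (((1 : A) ⊗ₜ[k] x) * u) := by
    intro x u
    induction u using TensorProduct.induction_on with
    | zero => simp
    | add u v hu hv => simp only [map_add, mul_add, hu, hv]
    | tmul p q => simp [Algebra.TensorProduct.tmul_mul_tmul]
  refine TensorProduct.ext' fun b a => ?_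
  simp only [LinearMap.comp_apply]
  -- R_a
  let Rw : A ⊗[k] A → (B ⊗[k] A →ₗ[k] B ⊗[k] A) := fun w =>
    LinearMap.mul' k (B ⊗[k] A) ∘ₗ TensorProduct.map
      (Algebra.TensorProduct.includeLeft : B →ₐ[k] B ⊗[k] A).toLinearMap
      (α.rTensor A ∘ₗ LinearMap.mulRight k w ∘ₗ
        (Algebra.TensorProduct.includeLeft : A →ₐ[k] A ⊗[k] A).toLinearMap ∘ₗ S)
  have hRw : ∀ (w : A ⊗[k] A) (b' : B) (a'' : A), Rw w (b' ⊗ₜ[k] a'') =
      (b' ⊗ₜ[k] (1 : A)) * α.rTensor A ((S a'' ⊗ₜ[k] (1 : A)) * w) := by
    intro w b' a''; simp [Rw]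
  let R : B ⊗[k] A →ₗ[k] B ⊗[k] A := Rw (Coalgebra.comul (R := k) a)
  have hR : ∀ (b' : B) (a'' : A), R (b' ⊗ₜ[k] a'') =
      (b' ⊗ₜ[k] (1 : A)) * α.rTensor A ((S a'' ⊗ₜ[k] (1 : A)) * Coalgebra.comul (R := k) a) := by
    intro b' a''; exact hRw _ b' a''
  -- LHS = R (ρ b)
  have hL : HopfRep.Comod.coact (k := k) (A := A) (lam α (b ⊗ₜ[k] a)) =
      R (HopfRep.Comod.coact (k := k) (A := A) b) := by
    -- Θ_a
    let Θ : (B ⊗[k] A) ⊗[k] A →ₗ[k] B ⊗[k] A :=
      LinearMap.mul' k (B ⊗[k] A) ∘ₗ TensorProduct.map LinearMap.id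
        (α.rTensor A ∘ₗ LinearMap.mulRight k (Coalgebra.comul (R := k) a) ∘ₗ
          (Coalgebra.comul (R := k) (A := A)) ∘ₗ S)
    have hΘ : ∀ (y : B ⊗[k] A) (a' : A), Θ (y ⊗ₜ[k] a') =
        y * α.rTensor A (Coalgebra.comul (R := k) (S a') * Coalgebra.comul (R := k) a) := by
      intro y a'; simp [Θ]
    have s1 : ∀ z : B ⊗[k] A, HopfRep.Comod.coact (k := k) (A := A) (Gfull α (z ⊗ₜ[k] a)) =
        Θ ((HopfRep.Comod.coact (k := k) (A := A) (V := B)).rTensor A z) := by
      intro z
      induction z using TensorProduct.induction_on with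
      | zero => simp
      | add x y hx hy => simp only [TensorProduct.add_tmul, map_add, hx, hy]
      | tmul b' a' =>
        rw [Gfull_tmul, GLin.IsCoactAlg.coact_mul (k := k) (A := A), hα', Bialgebra.comul_mul,
          LinearMap.rTensor_tmul, hΘ]
    have s2 : ∀ z : B ⊗[k] A, Θ ((TensorProduct.assoc k B A A).symm
        ((Coalgebra.comul (R := k) (A := A)).lTensor B z)) = R z := by
      intro z
      induction z using TensorProduct.induction_on with
      | zero => simp
      | add x y hx hy => simp only [map_add, hx, hy]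
      | tmul b' a'' =>
        rw [LinearMap.lTensor_tmul, hR]
        have sub : ∀ w : A ⊗[k] A, Θ ((TensorProduct.assoc k B A A).symm (b' ⊗ₜ[k] w)) =
            (b' ⊗ₜ[k] (1 : A)) * α.rTensor A
              (Algebra.TensorProduct.lift (Algebra.TensorProduct.includeRight : A →ₐ[k] A ⊗[k] A)
                ((Bialgebra.comulAlgHom k A).comp (HopfAlgebra.antipodeAlgHom k A))
                (fun _ _ => Commute.all _ _) w * Coalgebra.comul (R := k) a) := by
          intro w
          induction w using TensorProduct.induction_on with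
          | zero => simp
          | add x y hx hy => simp only [TensorProduct.tmul_add, map_add, add_mul, mul_add, hx, hy]
          | tmul x y =>
            rw [TensorProduct.assoc_symm_tmul, hΘ, Algebra.TensorProduct.lift_tmul]
            have e1 : (b' ⊗ₜ[k] x : B ⊗[k] A) = (b' ⊗ₜ[k] (1 : A)) * ((1 : B) ⊗ₜ[k] x) := by
              rw [Algebra.TensorProduct.tmul_mul_tmul, mul_one, one_mul]
            rw [e1, mul_assoc, hmul, mul_assoc]
            rfl
        rw [sub, key_A]
    show HopfRep.Comod.coact (k := k) (A := A)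
      (Gfull α ((HopfRep.Comod.coact (k := k) (A := A) (V := B)).rTensor A (b ⊗ₜ[k] a))) = _
    rw [LinearMap.rTensor_tmul, s1, coassoc_apply, s2]
  -- RHS = R (ρ b)
  have hRr : (lam α).rTensor A (Hoch.Ind.coactAux k A B (b ⊗ₜ[k] a)) =
      R (HopfRep.Comod.coact (k := k) (A := A) b) := by
    rw [Hoch.Ind.coactAux_tmul]
    -- general in w
    have sub : ∀ (z : B ⊗[k] A) (w : A ⊗[k] A),
        (Gfull α).rTensor A (((TensorProduct.assoc k (B ⊗[k] A) A A).symm (z ⊗ₜ[k] w))) =
        Rw w z := by
      intro z w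
      induction z using TensorProduct.induction_on with
      | zero => simp
      | add x y hx hy => simp only [TensorProduct.add_tmul, map_add, hx, hy]
      | tmul b' a'' =>
        rw [hRw]
        induction w using TensorProduct.induction_on with
        | zero => simp
        | add x y hx hy =>
          simp only [TensorProduct.tmul_add, map_add, mul_add, hx, hy]
        | tmul x y =>
          simp [Algebra.TensorProduct.tmul_mul_tmul, S]
    have e2 : ∀ w : A ⊗[k] A, (lam α).rTensor A ((TensorProduct.assoc k B A A).symm (b ⊗ₜ[k] w)) =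
        (Gfull α).rTensor A ((TensorProduct.assoc k (B ⊗[k] A) A A).symm
          ((HopfRep.Comod.coact (k := k) (A := A) b) ⊗ₜ[k] w)) := by
      intro w
      induction w using TensorProduct.induction_on with
      | zero => simp
      | add x y hx hy => simp only [TensorProduct.tmul_add, map_add, hx, hy]
      | tmul x y =>
        simp [lam]
    rw [e2, sub]
  rw [hL, hRr]

end Groth.Agent.Helper6.HopfInt
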