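import Groth.Agent.Helper6.AutFin
import Groth.Agent.Helper5.FFExact

set_option autoImplicit false
set_option linter.style.haveILetI false

/-!
# Hyperosculation points of a linear system are finite (characteristic zero);
torsion points on a genus-one function field
-/

namespace Groth.Agent.Helper6.HypOsc

open FunFld LocRes
open Groth.Agent.Helper5 Groth.Agent.Helper5.Wr
open scoped IntermediateField

universe u v
variable {k : Type u} {K : Type v} [Field k] [Field K] [Algebra k K]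

theorem mapDiv_le_ord_normalizer (hK : IsFunctionField k K) {n : ℕ} (φ : Fin (n + 1) → K)
    (hφ0 : ∀ i, φ i ≠ 0) (Q : Place k K) (y : K) (hy : y ≠ 0)
    (hnorm : ∀ i, Q.1 ((y • φ) i) ≤ 1) : mapDiv k φ Q ≤ Q.ord y := by
  rw [FG.mapDiv_apply hK.1]
  obtain ⟨i, -, hi⟩ := Finset.exists_mem_eq_inf' Finset.univ_nonempty (fun i => Q.ord (φ i))
  rw [hi]
  have h1 := hnorm i
  rw [Pi.smul_apply, smul_eq_mul, ← FF.ord_nonneg_iff Q (mul_ne_zero hy (hφ0 i)),
    FF.ord_mul Q hy (hφ0 i)] at h1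
  omega

/-- in characteristic zero, the places where some member of the linear system spanned by
`φ₀, …, φₙ` vanishes to order `≥ n + 1` (relative to the divisor of the system) are finite in
number: they lie in the support of the Weierstrass divisor. -/
theorem finite_hyperosc [IsAlgClosed k] [CharZero k] (hK : IsFunctionField k K) {n : ℕ}
    (φ : Fin (n + 1) → K) (hφ : LinearIndependent k φ) :
    Set.Finite {Q : Place k K | ∃ f ∈ Submodule.span k (Set.range φ), f ≠ 0 ∧
      ((n : ℤ) + 1) ≤ Q.ord f + mapDiv k φ Q} := by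
  classical
  have hgeo := FF.isGeometric_of_perfectField k K hK
  obtain ⟨s, hs, hsep⟩ := FF.exists_separating hK hgeo
  haveI := hsep
  haveI := FF.finiteDimensional_adjoin hK hs
  obtain ⟨H, hH⟩ := HasseBuild.exists_isHasseFamily s hs
  let Φ : Place k K → (K →ₐ[k] LaurentSeries k) := fun P =>
    Ex.Φ P (FF.deg_eq_one_of_isAlgClosed hK P) (Classical.choose_spec (FF.exists_uniformizer P))
  have hΦ : ∀ P : Place k K, IsExpansionAt P.1 (Φ P) := fun P => Ex.isExpansionAt_Φ P _ _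
  haveI : CharP k 0 := CharP.ofCharZero k
  have hJ := (isOrders_classical hK φ hφ 0 (Or.inl rfl) (AlgHom.id k K) hH).1 rfl
  obtain ⟨W, hW⟩ : ∃ W : Divisor k K,
      W = wDiv (AlgHom.id k K) H Φ s φ (fun l : Fin n => (l : ℕ) + 1) := ⟨_, rfl⟩
  apply Set.Finite.subset W.support.finite_toSet
  rintro Q ⟨f, hf, hf0, hord⟩
  rw [Finset.mem_coe, Finsupp.mem_support_iff]
  have hQ := FF.deg_eq_one_of_isAlgClosed hK Q
  have hφ0 : ∀ i, φ i ≠ 0 := fun i => hφ.ne_zero i
  obtain ⟨t, Ht, y, ht, hHt, hy, heff, hnorm, hψ, hJψ, hinv⟩ :=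
    WDivGlob.exists_local_normalisation hK φ hφ (AlgHom.id k K) Q hH _ hJ Φ hΦ
  rw [hW, ← hinv]
  obtain ⟨J', hJ'⟩ := exists_isOrdersAt hK Q hQ (y • φ) hψ heff hnorm ht hHt
  have hpos := one_le_ordersAt hK Q hQ (y • φ) hnorm ht hHt J' hJ'
  obtain ⟨hsum, -⟩ := sum_sub_le_wDiv hK Q hQ (AlgHom.id k K) (isFixedPt_id Q) (y • φ) hψ heff
    hnorm ht hHt _ hJψ J' hJ' Φ (hΦ Q)
  have hsum' : ∑ l : Fin n, ((J' l : ℤ) - (((l : ℕ) + 1 : ℕ) : ℤ)) ≤
      wDiv (AlgHom.id k K) Ht Φ t (y • φ) (fun l : Fin n => (l : ℕ) + 1) Q := hsum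
  have hge := WeierPts.order_ge J' hJ'.1 hpos
  have hyf0 : y * f ≠ 0 := mul_ne_zero hy hf0
  have hmem : y * f ∈ Submodule.span k (Set.range (y • φ)) := by
    rw [mem_span_smul_iff y hy, ← mul_assoc, inv_mul_cancel₀ hy, one_mul]; exact hf
  have hordy := mapDiv_le_ord_normalizer hK φ hφ0 Q y hy hnorm
  have hj : ((n : ℤ) + 1) ≤ Q.ord (y * f) := by rw [FF.ord_mul Q hy hf0]; omega
  obtain ⟨jn, hjn⟩ : ∃ jn : ℕ, (jn : ℤ) = Q.ord (y * f) :=
    ⟨(Q.ord (y * f)).toNat, Int.toNat_of_nonneg (by omega)⟩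
  have hjump : IsJump (IsLocalRing.ResidueField Q.O) (hcolAt Q Ht (y • φ)) (jn + 1) := by
    rw [isJump_hcolAt_iff hK Q hQ ht hHt (y • φ) hnorm jn]
    refine ⟨by omega, y * f, hmem, ?_⟩
    rw [FF.val_eq_exp_neg_ord Q hyf0, hjn]
  obtain ⟨l₀, hl₀⟩ := (hJ'.2 jn).mpr hjump
  have hterm : ∀ l ∈ Finset.univ, (0 : ℤ) ≤ (J' l : ℤ) - (((l : ℕ) + 1 : ℕ) : ℤ) := by
    intro l _
    have := hge l
    push_cast; omega
  have h1 := Finset.single_le_sum hterm (Finset.mem_univ l₀)
  have hl₀n : (l₀ : ℕ) < n := l₀.2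
  intro h0
  rw [h0] at hsum'
  omega

/-- on a function field of genus one over an algebraically closed field of characteristic zero,
for a fixed place `P` and `m ≥ 1` there are only finitely many places `Q` with `m Q ∼ m P`. -/
theorem finite_torsion [IsAlgClosed k] [CharZero k] (hK : IsFunctionField k K)
    (hg1 : genus k K = 1) (P : Place k K) (m : ℕ) (hm : 1 ≤ m) :
    Set.Finite {Q : Place k K | Q ≠ P ∧ ∃ h : K, h ≠ 0 ∧
      FunFld.div k h = Finsupp.single Q (m : ℤ) - Finsupp.single P (m : ℤ)} := by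
  classical
  obtain ⟨n, rfl⟩ : ∃ n, m = n + 1 := ⟨m - 1, by omega⟩
  have hP := FF.deg_eq_one_of_isAlgClosed hK P
  obtain ⟨D, hD⟩ : ∃ D : Divisor k K, D = Finsupp.single P ((n + 1 : ℕ) : ℤ) := ⟨_, rfl⟩
  have hdeg : D.deg = ((n + 1 : ℕ) : ℤ) := by
    rw [hD, FF.deg_single, hP]; simp
  have hell := FF.ell_eq_of_deg_ge hK D (by rw [hdeg, hg1]; push_cast; omega)
  rw [hdeg, hg1] at hell
  have hfr : Module.finrank k (L D) = n + 1 := by
    unfold ell at hell; push_cast at hell; omega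
  haveI : FiniteDimensional k (L D) := FF.finiteDimensional_L hK D
  let b := Module.finBasisOfFinrankEq k (L D) hfr
  let φ : Fin (n + 1) → K := fun i => (b i : K)
  have hφ : LinearIndependent k φ :=
    b.linearIndependent.map' (L D).subtype (Submodule.ker_subtype _)
  have hspan : Submodule.span k (Set.range φ) = L D := by
    have h1 : Set.range φ = (L D).subtype '' Set.range b := by
      rw [← Set.range_comp]; rfl
    rw [h1, ← Submodule.map_span, b.span_eq, Submodule.map_top, Submodule.range_subtype]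
  have hφ0 : ∀ i, φ i ≠ 0 := fun i => hφ.ne_zero i
  have hone : (1 : K) ∈ L D := by
    rw [hD, FF.mem_L_single_iff P _ one_ne_zero, FF.ord_one]
    refine ⟨by omega, fun Q _ => ?_⟩
    rw [FF.ord_one]
  apply Set.Finite.subset (finite_hyperosc hK φ hφ)
  rintro Q ⟨hQP, h, hh0, hdiv⟩
  have hordR : ∀ R : Place k K, R.ord h =
      (Finsupp.single Q ((n + 1 : ℕ) : ℤ) - Finsupp.single P ((n + 1 : ℕ) : ℤ) : Divisor k K) R := by
    intro R; rw [← hdiv, FF.div_apply hK]
  have hmemL : h ∈ L D := by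
    rw [hD, FF.mem_L_single_iff P _ hh0]
    refine ⟨?_, fun R hR => ?_⟩
    · rw [hordR P, Finsupp.sub_apply, Finsupp.single_eq_same,
        Finsupp.single_eq_of_ne (Ne.symm hQP)]
      omega
    · rw [hordR R, Finsupp.sub_apply, Finsupp.single_eq_of_ne hR, sub_zero]
      by_cases hRQ : R = Q
      · subst hRQ; rw [Finsupp.single_eq_same]; omega
      · rw [Finsupp.single_eq_of_ne hRQ]
  have hmd : 0 ≤ mapDiv k φ Q := by
    by_contra hneg
    have h1 : mapDiv k φ Q ≤ -1 := by omega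
    rw [mapDiv_apply_le_iff hK φ hφ0 Q (-1), hspan] at h1
    have h2 : Q.1 (1 : K) ≤ WithZero.exp (-1 : ℤ) := h1 hone
    rw [map_one] at h2
    exact absurd h2 (not_le.mpr FF.exp_neg_one_lt_one)
  refine ⟨h, by rw [hspan]; exact hmemL, hh0, ?_⟩
  rw [hordR Q, Finsupp.sub_apply, Finsupp.single_eq_same, Finsupp.single_eq_of_ne hQP]
  push_cast
  omega

end Groth.Agent.Helper6.HypOsc
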