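import Mathlib
import Groth.Agent.Helper1.TorCrit
import Groth.Agent.Helper6.Rees1
import Groth.Agent.Helper7.PdLen

/-!
# Two-periodicity over a hypersurface quotient: `Ext²_R(M, N)` is a quotient of `Hom`
-/

set_option autoImplicit false
universe u

namespace Groth.Agent.Helper6.Hyper

open TensorProduct CategoryTheory Abelian
open Groth.Agent.Helper1.TorLib

section Tensor

variable {S : Type u} [CommRing S] (f : S) {R : Type u} [CommRing R] [Algebra S R]
  (hπ : Function.Surjective (algebraMap S R))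
  (hker : RingHom.ker (algebraMap S R) = Ideal.span {f})

include hπ in
theorem exists_one_tmul (X : Type u) [AddCommGroup X] [Module S X] (z : R ⊗[S] X) :
    ∃ x : X, z = (1 : R) ⊗ₜ[S] x := by
  induction z with
  | zero => exact ⟨0, (TensorProduct.tmul_zero _ _).symm⟩
  | tmul r x =>
    obtain ⟨s, rfl⟩ := hπ r
    refine ⟨s • x, ?_⟩
    rw [TensorProduct.tmul_smul, TensorProduct.smul_tmul', Algebra.algebraMap_eq_smul_one]
  | add z w hz hw =>
    obtain ⟨x, rfl⟩ := hz
    obtain ⟨y, rfl⟩ := hw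
    exact ⟨x + y, (TensorProduct.tmul_add _ _ _).symm⟩

include hker in
theorem one_tmul_smul (X : Type u) [AddCommGroup X] [Module S X] (y : X) :
    (1 : R) ⊗ₜ[S] (f • y) = 0 := by
  have hf0 : algebraMap S R f = 0 := by
    rw [← RingHom.mem_ker, hker]
    exact Ideal.mem_span_singleton_self f
  rw [TensorProduct.tmul_smul, TensorProduct.smul_tmul', ← Algebra.algebraMap_eq_smul_one, hf0,
    TensorProduct.zero_tmul]

include hπ hker in
theorem one_tmul_eq_zero_iff (X : Type u) [AddCommGroup X] [Module S X] (x : X) :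
    (1 : R) ⊗ₜ[S] x = 0 ↔ ∃ y : X, x = f • y := by
  constructor
  · intro h
    have hπ' : Function.Surjective (Algebra.ofId S R) := hπ
    have hI : Ideal.span {f} = RingHom.ker (Algebra.ofId S R) := by
      rw [← hker]
      rfl
    let e : (S ⧸ Ideal.span {f}) ≃ₐ[S] R :=
      (Ideal.quotientEquivAlgOfEq S hI).trans (Ideal.quotientKerAlgEquivOfSurjective hπ')
    let Φ : R ⊗[S] X ≃ₗ[S] X ⧸ ((Ideal.span {f}) • (⊤ : Submodule S X)) :=
      (TensorProduct.congr e.symm.toLinearEquiv (LinearEquiv.refl S X)) ≪≫ₗ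
        TensorProduct.quotTensorEquivQuotSMul X _
    have h1 : Φ ((1 : R) ⊗ₜ[S] x) = Submodule.Quotient.mk x := by
      simp only [Φ, LinearEquiv.trans_apply, TensorProduct.congr_tmul, LinearEquiv.refl_apply,
        AlgEquiv.toLinearEquiv_apply, map_one,
        TensorProduct.quotTensorEquivQuotSMul_mk_one_tmul]
    rw [h] at h1
    rw [map_zero] at h1
    have h2 := (Submodule.Quotient.mk_eq_zero _).1 h1.symm
    rw [Submodule.ideal_span_singleton_smul] at h2
    obtain ⟨y, -, hy⟩ := (Submodule.mem_smul_pointwise_iff_exists _ _ _).1 h2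
    exact ⟨y, hy.symm⟩
  · rintro ⟨y, rfl⟩
    exact one_tmul_smul f hker X y

end Tensor

section Generic

variable {R : Type u} [CommRing R] {P1 P0 M N : Type u} [AddCommGroup P1] [Module R P1]
  [AddCommGroup P0] [Module R P0] [AddCommGroup M] [Module R M] [AddCommGroup N] [Module R N]

/-- If `P1 → P0 → M → 0` is exact with `P1`, `P0` projective and `Hom(ker(P1 → P0), N) = 0`,
then `Ext²(M, N) = 0`. -/
theorem ext_two_of_exact [Module.Projective R P1] [Module.Projective R P0]
    (α : P1 →ₗ[R] P0) (q : P0 →ₗ[R] M) (hq : Function.Surjective q) (hex : Function.Exact α q)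
    (hN : ∀ φ : LinearMap.ker α →ₗ[R] N, φ = 0) :
    Subsingleton (Ext (ModuleCat.of R M) (ModuleCat.of R N) 2) := by
  let α' : P1 →ₗ[R] LinearMap.ker q :=
    α.codRestrict (LinearMap.ker q) (fun z => hex.apply_apply_eq_zero z)
  have hα' : Function.Surjective α' := by
    rintro ⟨z, hz⟩
    obtain ⟨w, rfl⟩ := (hex z).1 hz
    exact ⟨w, Subtype.ext rfl⟩
  have hex' : Function.Exact (LinearMap.ker α).subtype α' := by
    intro y
    constructor
    · intro h
      exact ⟨⟨y, congrArg Subtype.val h⟩, rfl⟩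
    · rintro ⟨⟨z, hz⟩, rfl⟩
      exact Subtype.ext hz
  have hT1 := scOfLinear_shortExact (LinearMap.ker α).subtype α'
    (Submodule.injective_subtype _) hα' hex'
  have hT2 := scOfLinear_shortExact (LinearMap.ker q).subtype q
    (Submodule.injective_subtype _) hq (LinearMap.exact_subtype_ker_map q)
  have hP1 : Projective (ModuleCat.of R P1) := (IsProjective.iff_projective _).1 inferInstance
  have hP0 : Projective (ModuleCat.of R P0) := (IsProjective.iff_projective _).1 inferInstance
  -- step 1: `Ext¹(Ω, N) = 0`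
  have h1 : ∀ x : Ext (ModuleCat.of R (LinearMap.ker q)) (ModuleCat.of R N) 1, x = 0 := by
    refine (Rees.G2 hT1 (ModuleCat.of R N) 0 ?_).2 ?_
    · intro x
      exact Ext.eq_zero_of_projective (P := ModuleCat.of R P1) x
    · intro x₁
      obtain ⟨g, rfl⟩ := (Ext.mk₀_bijective _ _).2 x₁
      have hg : g.hom = 0 := hN g.hom
      have hg' : g = 0 := by
        ext y
        exact LinearMap.congr_fun hg y
      refine ⟨0, ?_⟩
      rw [hg', Ext.mk₀_zero, Ext.comp_zero]
  -- step 2: `Ext²(M, N) = 0`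
  have h2 : ∀ x : Ext (ModuleCat.of R M) (ModuleCat.of R N) 2, x = 0 := by
    refine (Rees.G1 hT2 (ModuleCat.of R N) 1 ?_ ?_).2 h1
    · intro x
      exact Ext.eq_zero_of_projective (P := ModuleCat.of R P0) x
    · intro x
      exact Ext.eq_zero_of_projective (P := ModuleCat.of R P0) x
  exact ⟨fun x y => by rw [h2 x, h2 y]⟩

end Generic

section Main

variable {S : Type u} [CommRing S] (f : S) {R : Type u} [CommRing R] [Algebra S R]
  (hπ : Function.Surjective (algebraMap S R))
  (hker : RingHom.ker (algebraMap S R) = Ideal.span {f})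
  {F : Type u} [AddCommGroup F] [Module S F]
  {M : Type u} [AddCommGroup M] [Module R M] [Module S M] [IsScalarTower S R M]
  (p : F →ₗ[S] M) (hp : Function.Surjective p)

/-- the augmentation `R ⊗ F → M` -/
noncomputable def qmap : R ⊗[S] F →ₗ[R] M := LinearMap.liftBaseChange R p

/-- the map `R ⊗ K → R ⊗ F` -/
noncomputable def amap : R ⊗[S] (LinearMap.ker p) →ₗ[R] R ⊗[S] F :=
  LinearMap.baseChange R (LinearMap.ker p).subtype

theorem qmap_one_tmul (x : F) : qmap (R := R) p ((1 : R) ⊗ₜ[S] x) = p x := by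
  rw [qmap, LinearMap.liftBaseChange_tmul, one_smul]

omit [Module R M] [IsScalarTower S R M] in
theorem amap_one_tmul (k : LinearMap.ker p) :
    amap (R := R) p ((1 : R) ⊗ₜ[S] k) = (1 : R) ⊗ₜ[S] (k : F) := by
  rw [amap, LinearMap.baseChange_tmul]
  rfl

include hp in
theorem qmap_surjective : Function.Surjective (qmap (R := R) p) := by
  intro m
  obtain ⟨x, rfl⟩ := hp m
  exact ⟨(1 : R) ⊗ₜ[S] x, qmap_one_tmul p x⟩

include hπ in
theorem exact_amap_qmap : Function.Exact (amap (R := R) p) (qmap (R := R) p) := by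
  intro z
  constructor
  · intro hz
    obtain ⟨x, rfl⟩ := exists_one_tmul hπ _ z
    rw [qmap_one_tmul] at hz
    exact ⟨(1 : R) ⊗ₜ[S] (⟨x, hz⟩ : LinearMap.ker p), amap_one_tmul p ⟨x, hz⟩⟩
  · rintro ⟨w, rfl⟩
    obtain ⟨k, rfl⟩ := exists_one_tmul hπ _ w
    rw [amap_one_tmul, qmap_one_tmul]
    exact k.2

include hπ hker in
theorem smul_ker_amap (a : R) (ha : a ∈ Module.annihilator R M)
    (z : R ⊗[S] (LinearMap.ker p)) (hz : z ∈ LinearMap.ker (amap (R := R) p)) : a • z = 0 := by
  obtain ⟨k, rfl⟩ := exists_one_tmul hπ _ z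
  have h1 : amap (R := R) p ((1 : R) ⊗ₜ[S] k) = 0 := LinearMap.mem_ker.1 hz
  rw [amap_one_tmul] at h1
  obtain ⟨s, hs⟩ := (one_tmul_eq_zero_iff f hπ hker F (k : F)).1 h1
  obtain ⟨t, rfl⟩ := hπ a
  have hts : t • s ∈ LinearMap.ker p := by
    rw [LinearMap.mem_ker, map_smul, ← algebraMap_smul R t (p s)]
    exact Module.mem_annihilator.1 ha _
  have h2 : (algebraMap S R t) • ((1 : R) ⊗ₜ[S] k) = (1 : R) ⊗ₜ[S] (t • k) := by
    rw [TensorProduct.tmul_smul, algebraMap_smul]
  rw [h2]
  have h3 : t • k = f • (⟨t • s, hts⟩ : LinearMap.ker p) := by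
    apply Subtype.ext
    change t • (k : F) = f • (t • s)
    rw [hs, smul_comm]
  rw [h3]
  exact one_tmul_smul f hker _ _

include hπ hp hker in
/-- `Ext²_R(M, N) = 0` as soon as every `R`-linear map to `N` from a module killed by `ann M`
vanishes, when `M` has a presentation over `S` with projective kernel. -/
theorem ext_two_subsingleton [Module.Projective S F] [Module.Projective S (LinearMap.ker p)]
    (N : Type u) [AddCommGroup N] [Module R N]
    (hN : ∀ (X : Type u) [AddCommGroup X] [Module R X],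
      (∀ a ∈ Module.annihilator R M, ∀ x : X, a • x = 0) → ∀ φ : X →ₗ[R] N, φ = 0) :
    Subsingleton (Ext (ModuleCat.of R M) (ModuleCat.of R N) 2) := by
  refine ext_two_of_exact (amap (R := R) p) (qmap (R := R) p) (qmap_surjective p hp)
    (exact_amap_qmap hπ p) ?_
  refine hN (LinearMap.ker (amap (R := R) p)) ?_
  intro a ha x
  apply Subtype.ext
  exact smul_ker_amap f hπ hker p a ha x.1 x.2

end Main

end Groth.Agent.Helper6.Hyper
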