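import Mathlib
import Groth.Prelude.Def_Hyper
import Groth.Agent.Helper6.SRCov

/-!
# Helper6: fibre products of hypercoverings.
-/

set_option autoImplicit false
set_option linter.style.haveILetI false
set_option linter.unusedVariables false
set_option backward.isDefEq.respectTransparency false
set_option backward.isDefEq.respectTransparency.types false
universe u

namespace Groth.Agent.Helper6.HyperPB
open CategoryTheory Limits Hyper Opposite

section Abstract

universe v' u'
variable {A : Type u'} [Category.{v'} A] [HasPullbacks A] (W : MorphismProperty A)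

/-- Abstract two-step factorisation of a map between fibre products. -/
theorem W_of_pullback_squares
    (hbc : ∀ {P X Y Z : A} (fst : P ⟶ X) (snd : P ⟶ Y) (f : X ⟶ Z) (g : Y ⟶ Z),
      IsPullback fst snd f g → W g → W fst)
    (hcomp : ∀ {X Y Z : A} (f : X ⟶ Y) (g : Y ⟶ Z), W f → W g → W (f ≫ g))
    {K L M P K' L' M' P' : A} {a : K ⟶ L} {b : M ⟶ L} {p1 : P ⟶ K} {p2 : P ⟶ M}
    {a' : K' ⟶ L'} {b' : M' ⟶ L'} {p1' : P' ⟶ K'} {p2' : P' ⟶ M'}
    (hP : IsPullback p1 p2 a b) (hP' : IsPullback p1' p2' a' b')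
    (ηK : K ⟶ K') (ηL : L ⟶ L') (ηM : M ⟶ M') (ηP : P ⟶ P')
    (h1 : ηP ≫ p1' = p1 ≫ ηK) (h2 : ηP ≫ p2' = p2 ≫ ηM)
    (ha : a ≫ ηL = ηK ≫ a') (hb : b ≫ ηL = ηM ≫ b')
    (hK : W ηK)
    (hγ : W (pullback.lift b ηM hb : M ⟶ pullback ηL b')) : W ηP := by
  let Q := pullback ηL b'
  let q1 : Q ⟶ L := pullback.fst ηL b'
  let q2 : Q ⟶ M' := pullback.snd ηL b'
  have hQ : IsPullback q1 q2 ηL b' := IsPullback.of_hasPullback ηL b'
  let γ : M ⟶ Q := pullback.lift b ηM hb
  have γ1 : γ ≫ q1 = b := pullback.lift_fst _ _ _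
  have γ2 : γ ≫ q2 = ηM := pullback.lift_snd _ _ _
  let R := pullback a q1
  let r1 : R ⟶ K := pullback.fst a q1
  let r2 : R ⟶ Q := pullback.snd a q1
  have hR : IsPullback r1 r2 a q1 := IsPullback.of_hasPullback a q1
  let φ1 : P ⟶ R := pullback.lift p1 (p2 ≫ γ) (by rw [Category.assoc, γ1]; exact hP.w)
  have φ1r1 : φ1 ≫ r1 = p1 := pullback.lift_fst _ _ _
  have φ1r2 : φ1 ≫ r2 = p2 ≫ γ := pullback.lift_snd _ _ _
  have hsq1 : IsPullback φ1 p2 r2 γ := by
    apply IsPullback.of_right (h₁₂ := r1) (h₂₂ := q1) (v₁₃ := a) ?_ φ1r2 hR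
    rw [φ1r1, γ1]; exact hP
  have hφ1 : W φ1 := hbc _ _ _ _ hsq1 hγ
  have hcomm : (r1 ≫ ηK) ≫ a' = (r2 ≫ q2) ≫ b' := by
    rw [Category.assoc, ← ha, ← Category.assoc, hR.w, Category.assoc, hQ.w, Category.assoc]
  let φ2 : R ⟶ P' := hP'.lift (r1 ≫ ηK) (r2 ≫ q2) hcomm
  have φ2p1 : φ2 ≫ p1' = r1 ≫ ηK := hP'.lift_fst _ _ _
  have φ2p2 : φ2 ≫ p2' = r2 ≫ q2 := hP'.lift_snd _ _ _
  have houter : IsPullback (r2 ≫ q2) r1 b' (a ≫ ηL) := hR.flip.paste_horiz hQ.flip
  have hsq2 : IsPullback φ2 r1 p1' ηK := by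
    apply IsPullback.of_right (h₁₂ := p2') (h₂₂ := a') (v₁₃ := b') ?_ φ2p1 hP'.flip
    rw [φ2p2, ← ha]; exact houter
  have hφ2 : W φ2 := hbc _ _ _ _ hsq2 hK
  have : ηP = φ1 ≫ φ2 := by
    apply hP'.hom_ext
    · rw [h1, Category.assoc, φ2p1, ← Category.assoc, φ1r1]
    · rw [h2, Category.assoc, φ2p2, ← Category.assoc, φ1r2, Category.assoc, γ2]
  rw [this]; exact hcomp _ _ hφ1 hφ2

end Abstract

variable {C : Type u} [SmallCategory C]

theorem isSRCovering_of_isPullback [HasPullbacks C] (J : GrothendieckTopology C)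
    {P X Y Z : FormalCoproduct.{u} C} (fst : P ⟶ X) (snd : P ⟶ Y) (f : X ⟶ Z) (g : Y ⟶ Z)
    (h : IsPullback fst snd f g) (hg : IsSRCovering J g) : IsSRCovering J fst := by
  have e : h.isoPullback.hom ≫ pullback.fst f g = fst := h.isoPullback_hom_fst
  rw [← e]
  exact SRCov.isSRCovering_comp J _ _ (SRCov.isSRCovering_of_isIso J _)
    (SRCov.isSRCovering_fst J g f hg)

theorem covers_of_isSRCovering_over (J : GrothendieckTopology C) (X : C)
    {P K : FormalCoproduct.{u} (Over X)} (f : P ⟶ K) (hf : IsSRCovering (J.over X) f)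
    (hK : Sieve.ofArrows (fun i => (K.obj i).left) (fun i => (K.obj i).hom) ∈ J X) :
    Sieve.ofArrows (fun i => (P.obj i).left) (fun i => (P.obj i).hom) ∈ J X := by
  refine J.transitive hK _ ?_
  intro Y h hh
  obtain ⟨i, g, rfl⟩ := (Sieve.mem_ofArrows_iff _ _ _).1 hh
  rw [Sieve.pullback_comp]
  apply J.pullback_stable
  have h1 := hf i
  rw [GrothendieckTopology.mem_over_iff] at h1
  refine J.superset_covering ?_ h1
  intro W k hk
  rw [Sieve.overEquiv_iff] at hk
  obtain ⟨⟨j, hj⟩, a, ha⟩ := (Sieve.mem_ofArrows_iff _ _ _).1 hk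
  show Sieve.ofArrows _ _ (k ≫ (K.obj i).hom)
  rw [Sieve.mem_ofArrows_iff]
  refine ⟨j, a.left, ?_⟩
  exact (Over.w a).symm


section Main

variable [HasPullbacks C] (J : GrothendieckTopology C) (X : C)
  [∀ (n : ℕ) (F : (SimplexCategory.Truncated n)ᵒᵖ ⥤ FormalCoproduct.{u} (Over X)),
      (SimplexCategory.Truncated.inclusion n).op.HasRightKanExtension F]

theorem isHypercovering_pullback
    {K L M P : SimplicialObject (FormalCoproduct.{u} (Over X))} (a : K ⟶ L) (b : M ⟶ L)
    (p1 : P ⟶ K) (p2 : P ⟶ M) (hP : IsPullback p1 p2 a b)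
    (hK : Hyper.IsHypercovering J X K)
    (h0 : Hyper.IsSRCovering (J.over X) (b.app (op (SimplexCategory.mk 0))))
    (hγ : ∀ (n : ℕ) (Q : FormalCoproduct.{u} (Over X))
      (q1 : Q ⟶ L.obj (op (SimplexCategory.mk (n + 1))))
      (q2 : Q ⟶ ((SimplicialObject.truncation n ⋙ SimplicialObject.Truncated.cosk n).obj M).obj
        (op (SimplexCategory.mk (n + 1))))
      (γ : M.obj (op (SimplexCategory.mk (n + 1))) ⟶ Q),
      IsPullback q1 q2 (((SimplicialObject.coskAdj n).unit.app L).app (op (SimplexCategory.mk (n + 1))))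
        (((SimplicialObject.truncation n ⋙ SimplicialObject.Truncated.cosk n).map b).app
          (op (SimplexCategory.mk (n + 1)))) →
      γ ≫ q1 = b.app (op (SimplexCategory.mk (n + 1))) →
      γ ≫ q2 = ((SimplicialObject.coskAdj n).unit.app M).app (op (SimplexCategory.mk (n + 1))) →
      Hyper.IsSRCovering (J.over X) γ) :
    Hyper.IsHypercovering J X P := by
  constructor
  · have hP0 := hP.map ((evaluation SimplexCategoryᵒᵖ (FormalCoproduct.{u} (Over X))).obj
      (op (SimplexCategory.mk 0)))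
    have : IsSRCovering (J.over X) (p1.app (op (SimplexCategory.mk 0))) :=
      isSRCovering_of_isPullback (J.over X) _ _ _ _ hP0 h0
    exact covers_of_isSRCovering_over J X _ this hK.1
  · intro n
    haveI : PreservesLimitsOfShape WalkingCospan
        (SimplicialObject.truncation (C := FormalCoproduct.{u} (Over X)) n) := by
      unfold SimplicialObject.truncation; infer_instance
    haveI : PreservesLimitsOfShape WalkingCospan
        (SimplicialObject.Truncated.cosk (C := FormalCoproduct.{u} (Over X)) n) :=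
      (SimplicialObject.coskAdj n).rightAdjoint_preservesLimits.preservesLimitsOfShape
    have hT := hP.map (SimplicialObject.truncation n ⋙ SimplicialObject.Truncated.cosk n)
    have hTΔ := hT.map ((evaluation SimplexCategoryᵒᵖ (FormalCoproduct.{u} (Over X))).obj
      (op (SimplexCategory.mk (n + 1))))
    have hPΔ := hP.map ((evaluation SimplexCategoryᵒᵖ (FormalCoproduct.{u} (Over X))).obj
      (op (SimplexCategory.mk (n + 1))))
    have nat : ∀ {A B : SimplicialObject (FormalCoproduct.{u} (Over X))} (f : A ⟶ B),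
        ((SimplicialObject.coskAdj n).unit.app A).app (op (SimplexCategory.mk (n + 1))) ≫
          ((SimplicialObject.truncation n ⋙ SimplicialObject.Truncated.cosk n).map f).app
            (op (SimplexCategory.mk (n + 1))) =
        f.app (op (SimplexCategory.mk (n + 1))) ≫
          ((SimplicialObject.coskAdj n).unit.app B).app (op (SimplexCategory.mk (n + 1))) := by
      intro A B f
      have := congrArg (fun t => NatTrans.app t (op (SimplexCategory.mk (n + 1))))
        ((SimplicialObject.coskAdj n).unit.naturality f)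
      exact this.symm
    exact W_of_pullback_squares (fun _ _ f => IsSRCovering (J.over X) f)
      (fun fst snd f g h hg => isSRCovering_of_isPullback (J.over X) fst snd f g h hg)
      (fun f g hf hg => SRCov.isSRCovering_comp (J.over X) f g hf hg)
      hPΔ hTΔ _ _ _ _ (nat p1) (nat p2) (nat a).symm (nat b).symm (hK.2 n)
      (hγ n _ _ _ _ (IsPullback.of_hasPullback _ _) (pullback.lift_fst _ _ _)
        (pullback.lift_snd _ _ _))

end Main

end Groth.Agent.Helper6.HyperPB
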