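import Groth.Agent.Helper6.FCYoneda
import Groth.Agent.Helper6.CoskZeroSR

/-!
# Helper6: a hypercovering of `X` is a hypercovering of the site `C/X`.
-/

set_option autoImplicit false
set_option linter.style.haveILetI false
set_option linter.unusedVariables false
set_option backward.isDefEq.respectTransparency false
set_option backward.isDefEq.respectTransparency.types false
universe u

namespace Groth.Agent.Helper6.HyperSite
open CategoryTheory Limits Opposite Hyper SimplicialObject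

variable {C : Type u} [SmallCategory C]

section General
variable (J : GrothendieckTopology C)

lemma subsingleton_terminal_obj (V : Cᵒᵖ) : Subsingleton ((⊤_ (Cᵒᵖ ⥤ Type u)).obj V) := by
  have h : IsTerminal (((evaluation Cᵒᵖ (Type u)).obj V).obj (⊤_ (Cᵒᵖ ⥤ Type u))) :=
    IsTerminal.isTerminalObj _ _ terminalIsTerminal
  exact @Unique.instSubsingleton _ ((Types.isTerminalEquivUnique _) h)

theorem isLocallySurjective_terminal_from (K₀ : FormalCoproduct.{u} C)
    (h : ∀ U : C, ∃ S ∈ J U, ∀ ⦃V : C⦄ (k : V ⟶ U), S k →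
      Nonempty ((FormalCoproduct.incl C).obj V ⟶ K₀)) :
    Presheaf.IsLocallySurjective J (terminal.from (FormalCoproduct.yoneda.obj K₀)) := by
  constructor
  intro U s
  obtain ⟨S, hS, hS'⟩ := h U
  refine J.superset_covering ?_ hS
  intro V k hk
  obtain ⟨m⟩ := hS' k hk
  refine ⟨FCY.elt m, ?_⟩
  haveI := subsingleton_terminal_obj (C := C) (op V)
  exact Subsingleton.elim _ _

variable [∀ (F : (SimplexCategory.Truncated 0)ᵒᵖ ⥤ FormalCoproduct.{u} C),
    (SimplexCategory.Truncated.inclusion 0).op.HasRightKanExtension F]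

lemma prod_ext_sections (A B : Cᵒᵖ ⥤ Type u) (V : Cᵒᵖ) (x y : (A ⨯ B).obj V)
    (h1 : (prod.fst : A ⨯ B ⟶ A).app V x = (prod.fst : A ⨯ B ⟶ A).app V y)
    (h2 : (prod.snd : A ⨯ B ⟶ B).app V x = (prod.snd : A ⨯ B ⟶ B).app V y) : x = y := by
  have hlim := isLimitOfPreserves ((evaluation Cᵒᵖ (Type u)).obj V) (limit.isLimit (pair A B))
  apply Concrete.isLimit_ext _ hlim
  rintro ⟨⟨⟩⟩
  · exact h1
  · exact h2

lemma fst_prod_lift_app {P A B : Cᵒᵖ ⥤ Type u} (a : P ⟶ A) (b : P ⟶ B) (V : Cᵒᵖ) (p : P.obj V) :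
    (prod.fst : A ⨯ B ⟶ A).app V ((prod.lift a b).app V p) = a.app V p :=
  ConcreteCategory.congr_hom (congrArg (fun t => NatTrans.app t V) (prod.lift_fst a b)) p

lemma snd_prod_lift_app {P A B : Cᵒᵖ ⥤ Type u} (a : P ⟶ A) (b : P ⟶ B) (V : Cᵒᵖ) (p : P.obj V) :
    (prod.snd : A ⨯ B ⟶ B).app V ((prod.lift a b).app V p) = b.app V p :=
  ConcreteCategory.congr_hom (congrArg (fun t => NatTrans.app t V) (prod.lift_snd a b)) p

lemma fst_map (A B : Cᵒᵖ ⥤ Type u) {U V : Cᵒᵖ} (k : U ⟶ V) (z : (A ⨯ B).obj U) :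
    (prod.fst : A ⨯ B ⟶ A).app V ((A ⨯ B).map k z) = A.map k ((prod.fst : A ⨯ B ⟶ A).app U z) :=
  ConcreteCategory.congr_hom ((prod.fst : A ⨯ B ⟶ A).naturality k) z

lemma snd_map (A B : Cᵒᵖ ⥤ Type u) {U V : Cᵒᵖ} (k : U ⟶ V) (z : (A ⨯ B).obj U) :
    (prod.snd : A ⨯ B ⟶ B).app V ((A ⨯ B).map k z) = B.map k ((prod.snd : A ⨯ B ⟶ B).app U z) :=
  ConcreteCategory.congr_hom ((prod.snd : A ⨯ B ⟶ B).naturality k) z

theorem isLocallySurjective_prod_lift (K : SimplicialObject (FormalCoproduct.{u} C))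
    (hη : IsSRCovering J (((coskAdj 0).unit.app K).app (op (SimplexCategory.mk 1)))) :
    Presheaf.IsLocallySurjective J
      (prod.lift (FormalCoproduct.yoneda.map (K.δ (1 : Fin 2)))
        (FormalCoproduct.yoneda.map (K.δ (0 : Fin 2)))) := by
  constructor
  intro U z
  obtain ⟨s, hs⟩ := FCY.exists_elt ((prod.fst : FormalCoproduct.yoneda.obj (K.obj (op (SimplexCategory.mk 0))) ⨯
    FormalCoproduct.yoneda.obj (K.obj (op (SimplexCategory.mk 0))) ⟶ _).app (op U) z)
  obtain ⟨t, ht⟩ := FCY.exists_elt ((prod.snd : FormalCoproduct.yoneda.obj (K.obj (op (SimplexCategory.mk 0))) ⨯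
    FormalCoproduct.yoneda.obj (K.obj (op (SimplexCategory.mk 0))) ⟶ _).app (op U) z)
  obtain ⟨S, hS, hS'⟩ := CoskZeroSR.exists_cover_lift J K hη U s t
  refine J.superset_covering ?_ hS
  intro V k hk
  obtain ⟨ℓ, h1, h0⟩ := hS' k hk
  refine ⟨FCY.elt ℓ, ?_⟩
  apply prod_ext_sections
  · rw [fst_prod_lift_app, fst_map, ← hs, FCY.map_elt, FCY.restrict_elt]
    exact congrArg FCY.elt h1
  · rw [snd_prod_lift_app, snd_map, ← ht, FCY.map_elt, FCY.restrict_elt]
    exact congrArg FCY.elt h0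

end General

theorem isHypercoveringSite_over [HasPullbacks C] (J : GrothendieckTopology C) (X : C)
    (K : SimplicialObject (FormalCoproduct.{u} (Over X)))
    [∀ (n : ℕ) (F : (SimplexCategory.Truncated n)ᵒᵖ ⥤ FormalCoproduct.{u} (Over X)),
      (SimplexCategory.Truncated.inclusion n).op.HasRightKanExtension F]
    (hK : Hyper.IsHypercovering J X K) : Hyper.IsHypercoveringSite (J.over X) K := by
  refine ⟨?_, ?_, ?_⟩
  · apply isLocallySurjective_terminal_from
    intro U
    refine ⟨(Sieve.overEquiv U).symm ((Sieve.ofArrows _ _).pullback U.hom),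
      GrothendieckTopology.overEquiv_symm_mem_over _ _ _ (J.pullback_stable U.hom hK.1), ?_⟩
    intro V k hk
    rw [Sieve.overEquiv_symm_iff] at hk
    obtain ⟨i, a, ha⟩ := (Sieve.mem_ofArrows_iff _ _ _).1 hk
    have hw : a ≫ ((K.obj (op (SimplexCategory.mk 0))).obj i).hom = V.hom := by
      rw [← ha, Over.w k]
    exact ⟨FormalCoproduct.Hom.fromIncl i (Over.homMk a hw)⟩
  · exact isLocallySurjective_prod_lift (J.over X) K (hK.2 0)
  · intro n hn
    exact FCY.isLocallySurjective_of_isSRCovering (J.over X) _ (hK.2 n)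

end Groth.Agent.Helper6.HyperSite
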