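import Mathlib
import Groth.Agent.Helper6.LocQ2
import Groth.Agent.S12945
import Groth.Agent.S12955
import Groth.Agent.Helper4.AlgSpBasic

/-!
# Helper6: immersions into locally Noetherian algebraic stacks
-/

set_option autoImplicit false
set_option linter.style.haveILetI false
set_option linter.unusedVariables false
universe u

namespace Groth.Agent.Helper6.ImmNoeth
open CategoryTheory Functor FibCat Limits AlgebraicGeometry Opposite
open Groth.Agent.Helper3 Stk Groth.Agent.Helper6.OfPsh Groth.Agent.Helper6.OfPshHom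
open Groth.Agent.Helper6.FpTools Groth.Agent.Helper6.AlgStRep
open Groth.Agent.Helper6.AlgStEquiv Groth.Agent.Helper6.AlgStInv Groth.Agent.Helper6.AlgStPsh
open Groth.Agent.Helper6.DiagRep Groth.Agent.Helper6.AlgStPts Groth.Agent.Helper6.StPts
open Groth.Agent.Helper6.SmLoc Groth.Agent.Helper6.ChartOver Groth.Agent.Helper6.StTop
open Groth.Agent.Helper6.QcMor Groth.Agent.Helper6.QcMor2 Groth.Agent.Helper6.QcMor3
open Groth.Agent.Helper6.SpAtlas Groth.Agent.Helper4.SDClasses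
open Groth.Agent.Helper6.Descent1 Groth.Agent.Helper6.Descent2 Groth.Agent.Helper6.LocQ0
open Groth.Agent.Helper6.LocQ1 Groth.Agent.Helper6.LocQ2 Groth.Agent.Helper6.AlgStBC
open Groth.Agent.Helper6.ToSpace Groth.Agent.Helper6.DiagLft
open AlgSp

variable {S : Scheme.{u}} {𝒳 𝒴 𝒵 : AlgSt.Cat S}

theorem qc_of_imm_locNoeth {X Y : Scheme.{u}} (f : X ⟶ Y) [IsImmersion f] [IsLocallyNoetherian Y] :
    QuasiCompact f := by
  rw [← f.liftCoborder_ι]
  infer_instance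

theorem repWith_of_isIso (P : MorphismProperty Scheme.{u}) (hid : ∀ X : Scheme.{u}, P (𝟙 X))
    [P.IsStableUnderBaseChange] {F G : Sp S} (f : F ⟶ G) [IsIso f] : RepWith P f := by
  apply MorphismProperty.relative.of_exists
  intro a g
  refine ⟨a, g ≫ inv f, 𝟙 a, ?_, hid _⟩
  rw [(yon S).map_id]
  exact IsPullback.of_vert_isIso ⟨by simp⟩

theorem qs_of_repWith_imm {F G : Sp S} (a : F ⟶ G) (ha : RepWith @IsImmersion a) :
    AlgSp.IsQuasiSeparatedMor a := by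
  haveI : Mono a := Groth.Agent.Helper4.AlgSpBasic.mono_of_repWith
    (fun g hg => by haveI := hg; infer_instance) a ha
  exact repWith_of_isIso @QuasiCompact (fun X => inferInstance) (pullback.diagonal a)

set_option backward.isDefEq.respectTransparency.types false in
/-- the quasi-compact part of S13017 -/
theorem isQuasiCompactMor_of_isImm (h𝒳 : AlgSt.IsAlgStack Scheme.fppfPrecoverage 𝒳)
    (h𝒴 : AlgSt.IsAlgStack Scheme.fppfPrecoverage 𝒴) (j : 𝒳 ⥤ᵇ 𝒴) (hj : AlgSt.IsImm j)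
    (hN : AlgSt.SmoothLocally (fun T ↦ IsLocallyNoetherian T) 𝒴) :
    AlgSt.IsQuasiCompactMor Scheme.fppfPrecoverage j := by
  rw [← repWith_qc_iff h𝒳 h𝒴 j (repByAlgSp1_of_with hj)]
  obtain ⟨V, y, hy₁, hy₂⟩ := h𝒴.atlas
  haveI hV : IsLocallyNoetherian V.left := hN V y hy₁
  refine descend _ Groth.Agent.Helper6.LocalFppf.quasiCompact j (repByAlgSp1_of_with hj) y
    (local_lift y (repByAlgSpWith_mono smooth_le_flat hy₁) (repByAlgSpWith_mono smooth_le_lfp hy₁) hy₂) ?_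
  obtain ⟨F, e, he, ha⟩ := hj V y
  obtain ⟨c, ⟨θ⟩⟩ := exists_ofSpMap_iso (BasedFunctor.comp e (fpFst y j))
  rw [spMapOfOver_congr θ, spMapOfOver_ofSpMap_toOverCat] at ha
  have hr := ha.rep
  have sq := hr.isPullback (𝟙 ((yon S).obj V))
  haveI hw : IsIso (hr.fst (𝟙 ((yon S).obj V))) := sq.isIso_fst_of_isIso
  haveI hQ : IsImmersion (hr.snd (𝟙 ((yon S).obj V))).left :=
    ((repWith_iff @IsImmersion c).1 ha).2 (𝟙 _) _ _ sq
  have key : hr.fst (𝟙 ((yon S).obj V)) ≫ c = (yon S).map (hr.snd (𝟙 ((yon S).obj V))) := by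
    rw [sq.w, Category.comp_id]
  have i1 := repWith_isStableUnderBaseChange (S := S) @QuasiCompact
  have hc : RepWith @QuasiCompact c := by
    rw [← MorphismProperty.cancel_left_of_respectsIso (RepWith @QuasiCompact)
      (hr.fst (𝟙 ((yon S).obj V))) c, key]
    exact (repWith_yon_map_iff _ _).2 (qc_of_imm_locNoeth _)
  have hc' : AlgSp.IsQuasiCompactMor c := Groth.Agent.Helper4.AlgSpQC.isQuasiCompactMor_of_repWith c hc
  have h1 : AlgSt.RepByAlgSpWith AlgSp.IsQuasiCompactMor (AlgSt.ofSpMap c) :=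
    rep_ofSpMap _ (fun X₁ Y₁ X₂ Y₂ _ _ _ _ a b a' b' sq ha =>
      Groth.Agent.Helper4.AlgSpQC.isQuasiCompactMor_of_isPullback sq ha)
      F.property (IsAlgSpace.yon_obj V) c hc'
  exact repByAlgSpWith_of_square' _ (fpFst y j) (AlgSt.ofSpMap c) e (AlgSt.toOverCat V) he
    (isEquivOver_toOverCat V) θ.symm h1

/-- S13017 -/
theorem locNoeth_and_qc_of_isImm (h𝒳 : AlgSt.IsAlgStack Scheme.fppfPrecoverage 𝒳)
    (h𝒴 : AlgSt.IsAlgStack Scheme.fppfPrecoverage 𝒴) (j : 𝒳 ⥤ᵇ 𝒴) (hj : AlgSt.IsImm j)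
    (hN : AlgSt.SmoothLocally (fun T ↦ IsLocallyNoetherian T) 𝒴) :
    AlgSt.SmoothLocally (fun T ↦ IsLocallyNoetherian T) 𝒳 ∧
      AlgSt.IsQuasiCompactMor Scheme.fppfPrecoverage j :=
  ⟨smoothLocally_locNoeth_of_locQ_lft j (locQ_lft_of_isImm h𝒴 j hj) hN,
    isQuasiCompactMor_of_isImm h𝒳 h𝒴 j hj hN⟩

set_option backward.isDefEq.respectTransparency.types false in
/-- S13018 -/
theorem noetherian_of_isImm (h𝒳 : AlgSt.IsAlgStack Scheme.fppfPrecoverage 𝒳)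
    (h𝒴 : AlgSt.IsAlgStack Scheme.fppfPrecoverage 𝒴) (j : 𝒳 ⥤ᵇ 𝒴) (hj : AlgSt.IsImm j)
    (hqc : AlgSt.IsQuasiCompact 𝒴) (hqs : AlgSt.IsQuasiSeparatedOver 𝒴)
    (hN : AlgSt.SmoothLocally (fun T ↦ IsLocallyNoetherian T) 𝒴) :
    AlgSt.IsQuasiCompact 𝒳 ∧ AlgSt.IsQuasiSeparatedOver 𝒳 ∧
      AlgSt.SmoothLocally (fun T ↦ IsLocallyNoetherian T) 𝒳 := by
  obtain ⟨h1, h2⟩ := locNoeth_and_qc_of_isImm h𝒳 h𝒴 j hj hN
  refine ⟨?_, ?_, h1⟩
  · have h3 := h2 𝒴 h𝒴 hqc (BasedFunctor.id 𝒴)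
    exact isQuasiCompact_of_isEquivOver
      (BasedFunctor.comp (fpSwap (BasedFunctor.id 𝒴) j) (fpFst j (BasedFunctor.id 𝒴)))
      (isEquivOver_comp (isEquivOver_fpSwap _ _)
        (isEquivOver_fpFst_of_isEquivOver j (BasedFunctor.id 𝒴) (isEquivOver_id 𝒴))) h3
  · have hjqs : AlgSt.IsQuasiSeparatedMor j :=
      (Groth.Agent.S12945.result S 𝒳 𝒴 h𝒳 h𝒴 j (repByAlgSp1_of_with hj)).2
        (repByAlgSpWith_mono (fun X Y a ha => qs_of_repWith_imm a ha) hj)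
    have h4 := Groth.Agent.S12955.result S 𝒳 𝒴 _ h𝒳 h𝒴 isAlgStack_selfOver j (toSelf 𝒴) hjqs hqs
    exact isQuasiSeparatedMor_of_iso (toSelfIso j) h4

end Groth.Agent.Helper6.ImmNoeth
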