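import Mathlib

/-!
Helper for S12109: left Kan extension along `F : C ⥤ C'` on presheaves and Ind-objects.
-/

open CategoryTheory Limits Opposite Functor

namespace Groth.Agent.Helper6.IndEquiv

universe u

variable {C : Type u} [SmallCategory C] {C' : Type u} [SmallCategory C'] (F : C ⥤ C')

/-- the left Kan extension functor on presheaves -/
noncomputable abbrev L : (Cᵒᵖ ⥤ Type u) ⥤ (C'ᵒᵖ ⥤ Type u) := F.op.lan

/-- `L (yoneda X) ≅ yoneda (F X)` -/
noncomputable def e (X : C) : (L F).obj (yoneda.obj X) ≅ yoneda.obj (F.obj X) :=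
  Functor.leftKanExtensionUnique ((L F).obj (yoneda.obj X)) (F.op.lanUnit.app (yoneda.obj X))
    (yoneda.obj (F.obj X)) (yonedaMap F X)

lemma unit_e (X : C) :
    F.op.lanUnit.app (yoneda.obj X) ≫ whiskerLeft F.op (e F X).hom = yonedaMap F X := by
  simp [e]

lemma e_nat {X Y : C} (f : X ⟶ Y) :
    (L F).map (yoneda.map f) ≫ (e F Y).hom = (e F X).hom ≫ yoneda.map (F.map f) := by
  apply Functor.hom_ext_of_isLeftKanExtension ((L F).obj (yoneda.obj X))
    (F.op.lanUnit.app (yoneda.obj X))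
  have h1 := (F.op.lanUnit (H := Type u)).naturality (yoneda.map f)
  simp only [Functor.id_map, Functor.comp_map, whiskeringLeft_obj_map] at h1
  rw [whiskerLeft_comp, whiskerLeft_comp, ← Category.assoc, ← Category.assoc, unit_e, ← h1,
    Category.assoc, unit_e]
  ext Z g
  simp [yonedaMap]

variable {F}

section Forward
variable (ha : ∀ (P Q : Cᵒᵖ ⥤ Type u), IsIndObject P → IsIndObject Q →
        Function.Bijective (fun φ : P ⟶ Q => (L F).map φ))

include ha
lemma faithful_of : F.Faithful where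
  map_injective {X Y} f g h := by
    have h1 : (L F).map (yoneda.map f) = (L F).map (yoneda.map g) := by
      rw [← cancel_mono (e F Y).hom, e_nat, e_nat, h]
    exact yoneda.map_injective ((ha _ _ (isIndObject_yoneda X) (isIndObject_yoneda Y)).1 h1)

lemma full_of : F.Full where
  map_surjective {X Y} h := by
    obtain ⟨φ, hφ⟩ := (ha _ _ (isIndObject_yoneda X) (isIndObject_yoneda Y)).2
      ((e F X).hom ≫ yoneda.map h ≫ (e F Y).inv)
    obtain ⟨f, rfl⟩ := yoneda.map_surjective φ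
    refine ⟨f, ?_⟩
    apply yoneda.map_injective
    rw [← cancel_epi (e F X).hom, ← e_nat]
    dsimp only at hφ
    rw [hφ]; simp

end Forward

lemma retract_of (hb : ∀ G' : C'ᵒᵖ ⥤ Type u, IsIndObject G' →
        ∃ P : Cᵒᵖ ⥤ Type u, IsIndObject P ∧ Nonempty ((L F).obj P ≅ G')) (X' : C') :
    ∃ (X : C) (i : X' ⟶ F.obj X) (r : F.obj X ⟶ X'), i ≫ r = 𝟙 X' := by
  obtain ⟨P, hP, ⟨iso⟩⟩ := hb (yoneda.obj X') (isIndObject_yoneda X')
  obtain ⟨pres⟩ := hP.nonempty_presentation
  haveI : PreservesColimitsOfSize.{u, u} (L F) :=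
    (F.op.lanAdjunction (Type u)).leftAdjoint_preservesColimits
  have hc : IsColimit (((evaluation _ _).obj (op X')).mapCocone ((L F).mapCocone pres.cocone)) :=
    isColimitOfPreserves _ (isColimitOfPreserves (L F) pres.coconeIsColimit)
  obtain ⟨j, ξ, hξ⟩ := Types.jointly_surjective_of_isColimit hc (yonedaEquiv iso.inv)
  let a : yoneda.obj X' ⟶ (L F).obj (yoneda.obj (pres.F.obj j)) := yonedaEquiv.symm ξ
  have ha : a ≫ (L F).map (pres.ι.app j) = iso.inv := by
    apply yonedaEquiv.injective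
    rw [yonedaEquiv_comp]
    simp only [a, Equiv.apply_symm_apply]
    exact hξ
  refine ⟨pres.F.obj j, yoneda.preimage (a ≫ (e F _).hom),
    yoneda.preimage ((e F _).inv ≫ (L F).map (pres.ι.app j) ≫ iso.hom), ?_⟩
  apply yoneda.map_injective
  rw [Functor.map_comp, Functor.map_preimage, Functor.map_preimage]
  simp only [Category.assoc, Iso.hom_inv_id_assoc]
  rw [← Category.assoc, ha]
  simp


section Backward
variable [F.Full] [F.Faithful]

lemma map_bijective (P Q : Cᵒᵖ ⥤ Type u) :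
    Function.Bijective (fun φ : P ⟶ Q => (L F).map φ) := by
  have : IsIso (F.op.lanAdjunction (Type u)).unit := inferInstance
  exact ((F.op.lanAdjunction (Type u)).fullyFaithfulLOfIsIsoUnit).map_bijective P Q

variable (hr : ∀ X' : C', ∃ (X : C) (i : X' ⟶ F.obj X) (r : F.obj X ⟶ X'), i ≫ r = 𝟙 X')

include hr

omit [F.Full] [F.Faithful] in
lemma R_faithful : ((whiskeringLeft Cᵒᵖ C'ᵒᵖ (Type u)).obj F.op).Faithful where
  map_injective {G₁ G₂} ψ ψ' h := by
    ext ⟨Y'⟩ x
    obtain ⟨X, i, r, hir⟩ := hr Y'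
    have h1 : ∀ (χ : G₁ ⟶ G₂), χ.app (op Y') = G₁.map r.op ≫ χ.app (op (F.obj X)) ≫ G₂.map i.op := by
      intro χ
      rw [← χ.naturality, ← Category.assoc, ← G₁.map_comp, ← op_comp, hir]
      simp
    have h2 : ψ.app (op (F.obj X)) = ψ'.app (op (F.obj X)) := congr_app h (op X)
    rw [h1 ψ, h1 ψ', h2]

lemma R_full : ((whiskeringLeft Cᵒᵖ C'ᵒᵖ (Type u)).obj F.op).Full where
  map_surjective {G₁ G₂} φ := by
    choose X i r hir using hr
    have hφ : ∀ {X₁ X₂ : C} (k : X₂ ⟶ X₁), G₁.map (F.map k).op ≫ φ.app (op X₂) =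
        φ.app (op X₁) ≫ G₂.map (F.map k).op := fun k => φ.naturality k.op
    refine ⟨{ app := fun Y' => G₁.map (r Y'.unop).op ≫ φ.app (op (X Y'.unop)) ≫ G₂.map (i Y'.unop).op
              naturality := ?_ }, ?_⟩
    · intro Y₁ Y₂ h
      obtain ⟨k, hk⟩ := F.map_surjective (r Y₂.unop ≫ h.unop ≫ i Y₁.unop)
      have e1 : (i Y₁.unop).op ≫ h = (F.map k).op ≫ (i Y₂.unop).op := by
        rw [hk, ← op_comp, ← Category.assoc, ← Category.assoc, hir, Category.id_comp]
        rfl
      have e2 : (r Y₁.unop).op ≫ (F.map k).op = h ≫ (r Y₂.unop).op := by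
        rw [hk, ← op_comp, Category.assoc, Category.assoc, hir, Category.comp_id]
        rfl
      have e1' : G₂.map (i Y₁.unop).op ≫ G₂.map h = G₂.map (F.map k).op ≫ G₂.map (i Y₂.unop).op := by
        rw [← G₂.map_comp, e1, G₂.map_comp]
      have e2' : G₁.map (r Y₁.unop).op ≫ G₁.map (F.map k).op = G₁.map h ≫ G₁.map (r Y₂.unop).op := by
        rw [← G₁.map_comp, e2, G₁.map_comp]
      simp only [Category.assoc]
      rw [e1', ← Category.assoc (φ.app _), ← hφ k, Category.assoc,
        ← Category.assoc (G₁.map (r Y₁.unop).op), e2', Category.assoc]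
    · ext ⟨X₀⟩ : 2
      dsimp
      obtain ⟨a, ha⟩ := F.map_surjective (i (F.obj X₀))
      obtain ⟨b, hb⟩ := F.map_surjective (r (F.obj X₀))
      have hab : a ≫ b = 𝟙 X₀ := F.map_injective (by rw [F.map_comp, ha, hb, hir, F.map_id])
      rw [← ha, ← hb, ← Category.assoc, hφ b, Category.assoc, ← G₂.map_comp, ← op_comp,
        ← F.map_comp, hab]
      simp

end Backward


/-- elements of `F.op ⋙ G'` to elements of `G'` -/
def elMap (F : C ⥤ C') (G' : C'ᵒᵖ ⥤ Type u) : (F.op ⋙ G').Elements ⥤ G'.Elements where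
  obj p := ⟨F.op.obj p.1, p.2⟩
  map f := ⟨F.op.map f.1, f.2⟩

instance [F.Faithful] (G' : C'ᵒᵖ ⥤ Type u) : (elMap F G').Faithful where
  map_injective {p q} f g h := by
    apply Subtype.ext
    apply F.op.map_injective
    exact congrArg Subtype.val h

instance [F.Full] (G' : C'ᵒᵖ ⥤ Type u) : (elMap F G').Full where
  map_surjective {p q} f := by
    obtain ⟨g, hg⟩ := F.op.map_surjective f.1
    refine ⟨⟨g, ?_⟩, ?_⟩
    · have := f.2
      rw [← hg] at this
      exact this
    · apply Subtype.ext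
      exact hg

section Backward
variable [F.Full] [F.Faithful]
variable (hr : ∀ X' : C', ∃ (X : C) (i : X' ⟶ F.obj X) (r : F.obj X ⟶ X'), i ≫ r = 𝟙 X')

include hr

lemma isIndObject_comp (G' : C'ᵒᵖ ⥤ Type u) (hG' : IsIndObject G') : IsIndObject (F.op ⋙ G') := by
  haveI := hG'.isFiltered
  haveI : IsFiltered G'.Elementsᵒᵖ :=
    IsFiltered.of_equivalence (CategoryOfElements.costructuredArrowYonedaEquivalence G').symm
  haveI : IsCofiltered G'.Elements := isCofiltered_of_isFiltered_op _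
  haveI : IsCofiltered (F.op ⋙ G').Elements := by
    refine IsCofiltered.of_exists_of_isCofiltered_of_fullyFaithful (elMap F G') (fun d => ?_)
    obtain ⟨⟨Y'⟩, t⟩ := d
    obtain ⟨X, i, r, hir⟩ := hr Y'
    refine ⟨⟨op X, G'.map r.op t⟩, ⟨⟨i.op, ?_⟩⟩⟩
    change G'.map i.op (G'.map r.op t) = t
    rw [← ConcreteCategory.comp_apply, ← G'.map_comp, ← op_comp, hir]
    simp
  haveI : IsFiltered (F.op ⋙ G').Elementsᵒᵖ := inferInstance
  haveI : IsFiltered (CostructuredArrow yoneda (F.op ⋙ G')) :=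
    IsFiltered.of_equivalence (CategoryOfElements.costructuredArrowYonedaEquivalence _)
  haveI : FinallySmall.{u} (CostructuredArrow yoneda (F.op ⋙ G')) :=
    finallySmall_of_essentiallySmall _
  exact isIndObject_of_isFiltered_of_finallySmall _

end Backward


section Final
variable [F.Full] [F.Faithful]

lemma exists_preimage
    (hr : ∀ X' : C', ∃ (X : C) (i : X' ⟶ F.obj X) (r : F.obj X ⟶ X'), i ≫ r = 𝟙 X')
    (G' : C'ᵒᵖ ⥤ Type u) (hG' : IsIndObject G') :
    ∃ P : Cᵒᵖ ⥤ Type u, IsIndObject P ∧ Nonempty ((L F).obj P ≅ G') := by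
  refine ⟨F.op ⋙ G', isIndObject_comp hr G' hG', ?_⟩
  haveI := R_full hr
  haveI := R_faithful hr
  exact ⟨asIso ((F.op.lanAdjunction (Type u)).counit.app G')⟩

end Final

end Groth.Agent.Helper6.IndEquiv
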