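import Mathlib

universe u v

open Polynomial

namespace Groth.Agent.Helper6.Inert1

variable {B : Type u} [CommRing B] {Γ : Type v} [Group Γ] [MulSemiringAction Γ B]

/-- the subring of `H`-invariants -/
def invSub (H : Subgroup Γ) : Subring B where
  carrier := {b | ∀ σ ∈ H, σ • b = b}
  mul_mem' := by
    intro a b ha hb σ hσ
    rw [smul_mul', ha σ hσ, hb σ hσ]
  one_mem' := by
    intro σ _
    exact smul_one σ
  add_mem' := by
    intro a b ha hb σ hσ
    rw [smul_add, ha σ hσ, hb σ hσ]
  zero_mem' := by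
    intro σ _
    exact smul_zero σ
  neg_mem' := by
    intro a ha σ hσ
    rw [smul_neg, ha σ hσ]

lemma mem_invSub {H : Subgroup Γ} {b : B} : b ∈ invSub (B := B) H ↔ ∀ σ ∈ H, σ • b = b := Iff.rfl

/-- orbit polynomial -/
noncomputable def orbPoly [Finite Γ] (H : Subgroup Γ) (b : B) : B[X] :=
  letI := Fintype.ofFinite H
  ∏ σ : H, (X - C ((σ : Γ) • b))

lemma orbPoly_monic [Finite Γ] (H : Subgroup Γ) (b : B) : (orbPoly H b).Monic := by
  unfold orbPoly
  exact monic_prod_of_monic _ _ fun σ _ => monic_X_sub_C _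

lemma orbPoly_eval [Finite Γ] (H : Subgroup Γ) (b : B) : (orbPoly H b).eval b = 0 := by
  unfold orbPoly
  letI := Fintype.ofFinite H
  rw [eval_prod]
  apply Finset.prod_eq_zero (Finset.mem_univ (1 : H))
  simp

lemma orbPoly_map [Finite Γ] (H : Subgroup Γ) (b : B) {E : Type*} [CommRing E] (f : B →+* E) :
    (orbPoly H b).map f =
      letI := Fintype.ofFinite H
      ∏ σ : H, (X - C (f ((σ : Γ) • b))) := by
  unfold orbPoly
  letI := Fintype.ofFinite H
  rw [Polynomial.map_prod]
  simp

/-- the coefficients of the orbit polynomial are invariant -/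
lemma orbPoly_coeff_mem [Finite Γ] (H : Subgroup Γ) (b : B) (n : ℕ) :
    (orbPoly H b).coeff n ∈ invSub (B := B) H := by
  intro σ hσ
  letI := Fintype.ofFinite H
  have h1 : σ • (orbPoly H b) = orbPoly H b := by
    unfold orbPoly
    rw [Finset.smul_prod']
    have : ∀ τ : H, σ • (X - C ((τ : Γ) • b) : B[X]) = X - C (((⟨σ, hσ⟩ * τ : H) : Γ) • b) := by
      intro τ
      rw [smul_sub, Polynomial.smul_X, Polynomial.smul_C, Subgroup.coe_mul, mul_smul]
    simp_rw [this]
    exact (Group.mulLeft_bijective (⟨σ, hσ⟩ : H)).prod_comp (fun τ : H => X - C ((τ : Γ) • b))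
  have h2 := congrArg (fun p => p.coeff n) h1
  simp only [Polynomial.coeff_smul] at h2
  exact h2

/-- `B` is integral over the invariants -/
instance isIntegral_invSub [Finite Γ] (H : Subgroup Γ) : Algebra.IsIntegral (invSub (B := B) H) B := by
  constructor
  intro b
  have hc : (↑(orbPoly H b).coeffs : Set B) ⊆ (invSub (B := B) H) := by
    intro c hc
    rw [Finset.mem_coe, Polynomial.mem_coeffs_iff] at hc
    obtain ⟨n, -, rfl⟩ := hc
    exact orbPoly_coeff_mem H b n
  refine ⟨(orbPoly H b).toSubring (invSub H) hc, ?_, ?_⟩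
  · exact (Polynomial.monic_toSubring _ _ _).mpr (orbPoly_monic H b)
  · rw [← Polynomial.eval_map]
    have : ((orbPoly H b).toSubring (invSub H) hc).map (algebraMap (invSub (B := B) H) B) =
        orbPoly H b := Polynomial.map_toSubring _ _ _
    rw [this, orbPoly_eval]

/-- lifting a polynomial with invariant coefficients -/
lemma exists_lift_poly (H : Subgroup Γ) (g : B[X]) (hg : ∀ n, g.coeff n ∈ invSub (B := B) H) :
    ∃ G : (invSub (B := B) H)[X], G.map (invSub (B := B) H).subtype = g := by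
  have hc : (↑g.coeffs : Set B) ⊆ (invSub (B := B) H) := by
    intro c hc
    rw [Finset.mem_coe, Polynomial.mem_coeffs_iff] at hc
    obtain ⟨n, -, rfl⟩ := hc
    exact hg n
  exact ⟨g.toSubring (invSub H) hc, Polynomial.map_toSubring _ _ _⟩

section decomp

variable (P : Ideal B)

/-- decomposition group, defined elementwise -/
def decomp (Γ : Type v) [Group Γ] [MulSemiringAction Γ B] (P : Ideal B) : Subgroup Γ where
  carrier := {σ | ∀ b, σ • b ∈ P ↔ b ∈ P}
  mul_mem' := by
    intro a b ha hb x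
    rw [mul_smul, ha, hb]
  one_mem' := by
    intro x
    rw [one_smul]
  inv_mem' := by
    intro a ha x
    rw [← ha (a⁻¹ • x), smul_inv_smul]

lemma mem_decomp {σ : Γ} : σ ∈ decomp Γ P ↔ ∀ b, σ • b ∈ P ↔ b ∈ P := Iff.rfl

lemma inertia_le_decomp : P.inertia Γ ≤ decomp Γ P := by
  intro τ hτ b
  have h := hτ b
  have h' : τ • b - b ∈ P := h
  constructor
  · intro h1
    have := P.sub_mem h1 h'
    simpa using this
  · intro h1
    have := P.add_mem h' h1
    simpa using this

lemma mem_inertia_iff {τ : Γ} : τ ∈ P.inertia Γ ↔ ∀ b, τ • b - b ∈ P := Iff.rfl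

/-- inertia is normalized by the decomposition group -/
lemma conj_mem_inertia {δ τ : Γ} (hδ : δ ∈ decomp Γ P) (hτ : τ ∈ P.inertia Γ) :
    δ⁻¹ * τ * δ ∈ P.inertia Γ := by
  rw [mem_inertia_iff]
  intro b
  have h1 : τ • (δ • b) - δ • b ∈ P := hτ (δ • b)
  have h2 : δ⁻¹ • (τ • (δ • b) - δ • b) ∈ P := ((decomp Γ P).inv_mem hδ _).mpr h1
  rw [smul_sub, inv_smul_smul] at h2
  rw [mul_smul, mul_smul]
  exact h2

/-- `δ` maps inertia invariants to inertia invariants -/
lemma smul_mem_invSub_inertia {δ : Γ} (hδ : δ ∈ decomp Γ P) {y : B}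
    (hy : y ∈ invSub (B := B) (P.inertia Γ)) : δ • y ∈ invSub (B := B) (P.inertia Γ) := by
  intro τ hτ
  have h := hy _ (conj_mem_inertia P hδ hτ)
  rw [mul_smul, mul_smul] at h
  have := congrArg (fun z => δ • z) h
  simp only [smul_inv_smul] at this
  exact this

end decomp

end Groth.Agent.Helper6.Inert1
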