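import Mathlib
import Groth.Agent.Helper6.Inert1

universe u v

open Polynomial

namespace Groth.Agent.Helper6.Inert2

open Groth.Agent.Helper6.Inert1

/-- field-theoretic core: `f_F, g_F ∈ F[X]`, mapping to `(X - ξ)^n` and a separable polynomial
vanishing at `ξ`; then `ξ` is in the image of `F` -/
theorem core {F E : Type*} [Field F] [Field E] (ι : F →+* E) (ξ : E) (n : ℕ) (hn : 1 ≤ n)
    (fF gF : F[X]) (hf : fF.map ι = (X - C ξ) ^ n) (hsep : (gF.map ι).Separable)
    (hroot : (gF.map ι).IsRoot ξ) : ∃ c : F, ι c = ξ := by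
  classical
  set d := EuclideanDomain.gcd fF gF with hd
  have hdE : EuclideanDomain.gcd (fF.map ι) (gF.map ι) = d.map ι := Polynomial.gcd_map ι
  have hprime : Prime (X - C ξ) := Polynomial.prime_X_sub_C ξ
  have h1 : (X - C ξ) ∣ d.map ι := by
    rw [← hdE]
    apply EuclideanDomain.dvd_gcd
    · rw [hf]
      exact dvd_pow_self _ (by omega)
    · exact Polynomial.dvd_iff_isRoot.mpr hroot
  have h2 : d.map ι ∣ (X - C ξ) ^ n := by
    rw [← hdE, ← hf]
    exact EuclideanDomain.gcd_dvd_left _ _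
  have h3 : d.map ι ∣ gF.map ι := by
    rw [← hdE]
    exact EuclideanDomain.gcd_dvd_right _ _
  obtain ⟨i, -, hi⟩ := (dvd_prime_pow hprime n).mp h2
  have hi1 : i = 1 := by
    have hge : 1 ≤ i := by
      by_contra hlt
      have : i = 0 := by omega
      rw [this, pow_zero] at hi
      have hu : IsUnit (d.map ι) := hi.symm.isUnit isUnit_one
      exact hprime.not_unit (isUnit_of_dvd_unit h1 hu)
    have hle : i ≤ 1 := by
      by_contra hgt
      have h2i : 2 ≤ i := by omega
      have h4 : (X - C ξ) * (X - C ξ) ∣ gF.map ι := by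
        have : (X - C ξ) ^ 2 ∣ (X - C ξ) ^ i := pow_dvd_pow _ h2i
        rw [pow_two] at this
        exact this.trans (hi.symm.dvd.trans h3)
      exact hprime.not_unit (hsep.squarefree _ h4)
    omega
  rw [hi1, pow_one] at hi
  have hdeg : (d.map ι).degree = 1 := by
    rw [Polynomial.degree_eq_degree_of_associated hi, Polynomial.degree_X_sub_C]
  rw [Polynomial.degree_map] at hdeg
  have hnat : d.natDegree = 1 := Polynomial.natDegree_eq_of_degree_eq_some hdeg
  obtain ⟨a, ha, b, hab⟩ := Polynomial.natDegree_eq_one.mp hnat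
  have hroot2 : (d.map ι).IsRoot ξ := Polynomial.dvd_iff_isRoot.mp h1
  rw [← hab] at hroot2
  simp only [Polynomial.map_add, Polynomial.map_mul, Polynomial.map_C, Polynomial.map_X,
    Polynomial.IsRoot.def, Polynomial.eval_add, Polynomial.eval_mul, Polynomial.eval_C,
    Polynomial.eval_X] at hroot2
  have hιa : ι a ≠ 0 := by
    intro h
    exact ha ((map_eq_zero ι).mp h)
  refine ⟨-b / a, ?_⟩
  rw [map_div₀, map_neg]
  field_simp
  linear_combination -hroot2

variable {B : Type u} [CommRing B] {Γ : Type v} [Group Γ] [Finite Γ] [MulSemiringAction Γ B]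

theorem partA (P : Ideal B) [P.IsMaximal] (x : B) (g : B[X])
    (hg : ∀ (i : ℕ) (γ : Γ), γ • g.coeff i = g.coeff i)
    (hsep : (g.map (Ideal.Quotient.mk P)).Separable) (hx : Polynomial.aeval x g ∈ P) :
    ∃ y : B, (∀ γ : Γ, γ ∈ P.inertia Γ → γ • y = y) ∧ x - y ∈ P := by
  classical
  set I := P.inertia Γ with hI
  set R := invSub (B := B) I with hR
  set Q := P.comap (algebraMap R B) with hQ
  haveI : Q.IsMaximal := Ideal.isMaximal_comap_of_isIntegral_of_isMaximal P
  letI : Field (R ⧸ Q) := Ideal.Quotient.field Q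
  letI : Field (B ⧸ P) := Ideal.Quotient.field P
  let ι : (R ⧸ Q) →+* (B ⧸ P) := Ideal.quotientMap P (algebraMap R B) le_rfl
  have hι : ∀ r : R, ι (Ideal.Quotient.mk Q r) = Ideal.Quotient.mk P (r : B) := fun r =>
    Ideal.quotientMap_mk
  have hcomp : ι.comp (Ideal.Quotient.mk Q) = (Ideal.Quotient.mk P).comp R.subtype := by
    ext r
    exact hι r
  obtain ⟨fR, hfR⟩ := exists_lift_poly I (orbPoly I x) (orbPoly_coeff_mem I x)
  obtain ⟨gR, hgR⟩ := exists_lift_poly I g (fun n σ _ => hg n σ)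
  set ξ : B ⧸ P := Ideal.Quotient.mk P x with hξ
  letI := Fintype.ofFinite I
  have hf : (fR.map (Ideal.Quotient.mk Q)).map ι = (X - C ξ) ^ (Fintype.card I) := by
    rw [Polynomial.map_map, hcomp, ← Polynomial.map_map, hfR, orbPoly_map]
    have : ∀ σ : I, (X - C ((Ideal.Quotient.mk P) ((σ : Γ) • x)) : (B ⧸ P)[X]) = X - C ξ := by
      intro σ
      have : (Ideal.Quotient.mk P) ((σ : Γ) • x) = ξ := by
        rw [hξ, Ideal.Quotient.eq]
        exact σ.2 x
      rw [this]
    rw [Finset.prod_congr rfl (fun σ _ => this σ), Finset.prod_const, Finset.card_univ]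
  have hgmap : (gR.map (Ideal.Quotient.mk Q)).map ι = g.map (Ideal.Quotient.mk P) := by
    rw [Polynomial.map_map, hcomp, ← Polynomial.map_map, hgR]
  have hroot : ((gR.map (Ideal.Quotient.mk Q)).map ι).IsRoot ξ := by
    rw [hgmap, Polynomial.IsRoot.def, hξ, Polynomial.eval_map, Polynomial.eval₂_hom]
    rw [Ideal.Quotient.eq_zero_iff_mem]
    have : Polynomial.aeval x g = Polynomial.eval x g := by
      rw [Polynomial.aeval_def]
      rfl
    rw [← this]
    exact hx
  have hcard : 1 ≤ Fintype.card I := Fintype.card_pos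
  obtain ⟨c, hc⟩ := core ι ξ (Fintype.card I) hcard _ _ hf (hgmap ▸ hsep) hroot
  obtain ⟨y, rfl⟩ := Ideal.Quotient.mk_surjective c
  refine ⟨(y : B), fun γ hγ => y.2 γ hγ, ?_⟩
  rw [← Ideal.Quotient.eq, ← hξ, ← hc, hι]

end Groth.Agent.Helper6.Inert2
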