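import Mathlib
import Groth.Agent.Helper6.Inert1

universe u v

open Polynomial

namespace Groth.Agent.Helper6.Inert3

open Groth.Agent.Helper6.Inert1

variable {B : Type u} [CommRing B] {Γ : Type v} [Group Γ] [MulSemiringAction Γ B]

section chi

variable (P : Ideal B)

/-- the character `b ↦ σ b mod P` -/
def chi (σ : Γ) : B →+* B ⧸ P :=
  (Ideal.Quotient.mk P).comp (MulSemiringAction.toRingHom Γ B σ)

lemma chi_apply (σ : Γ) (b : B) : chi P σ b = Ideal.Quotient.mk P (σ • b) := rfl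

lemma chi_one (b : B) : chi P (1 : Γ) b = Ideal.Quotient.mk P b := by
  rw [chi_apply, one_smul]

lemma chi_mul (σ ρ : Γ) (b : B) : chi P (σ * ρ) b = chi P σ (ρ • b) := by
  rw [chi_apply, chi_apply, mul_smul]

/-- for `σ ∈ D` and `τ ∈ I`, `χ_σ (τ b) = χ_σ b` -/
lemma chi_smul_inertia {σ τ : Γ} (hσ : σ ∈ decomp Γ P) (hτ : τ ∈ P.inertia Γ) (b : B) :
    chi P σ (τ • b) = chi P σ b := by
  rw [chi_apply, chi_apply, Ideal.Quotient.eq, ← smul_sub]
  exact (hσ _).mpr (hτ b)

lemma chi_of_mem_invSub_decomp {σ : Γ} (hσ : σ ∈ decomp Γ P) {e : B}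
    (he : e ∈ invSub (B := B) (decomp Γ P)) : chi P σ e = Ideal.Quotient.mk P e := by
  rw [chi_apply, he σ hσ]

/-- the induced endomorphism of the residue field -/
def bar {δ : Γ} (hδ : δ ∈ decomp Γ P) : (B ⧸ P) →+* (B ⧸ P) :=
  Ideal.Quotient.lift P (chi P δ) (fun b hb => by
    rw [chi_apply, Ideal.Quotient.eq_zero_iff_mem]
    exact (hδ b).mpr hb)

lemma bar_mk {δ : Γ} (hδ : δ ∈ decomp Γ P) (b : B) :
    bar P hδ (Ideal.Quotient.mk P b) = chi P δ b := by
  unfold bar
  rw [Ideal.Quotient.lift_mk]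

end chi

section norm

variable [Finite Γ]

/-- norm over a subgroup -/
noncomputable def normH (H : Subgroup Γ) (b : B) : B :=
  letI := Fintype.ofFinite H
  ∏ σ : H, (σ : Γ) • b

lemma normH_mem (H : Subgroup Γ) (b : B) : normH H b ∈ invSub (B := B) H := by
  intro σ hσ
  letI := Fintype.ofFinite H
  unfold normH
  rw [Finset.smul_prod']
  have : ∀ τ : H, σ • ((τ : Γ) • b) = ((⟨σ, hσ⟩ * τ : H) : Γ) • b := by
    intro τ
    rw [Subgroup.coe_mul, mul_smul]
  simp_rw [this]
  exact (Group.mulLeft_bijective (⟨σ, hσ⟩ : H)).prod_comp (fun τ : H => (τ : Γ) • b)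

end norm

section eElem

variable [Finite Γ]

theorem exists_e (P : Ideal B) [hP : P.IsMaximal] :
    ∃ e : B, e ∈ invSub (B := B) (decomp Γ P) ∧ Ideal.Quotient.mk P e = 1 ∧
      ∀ σ : Γ, σ ∉ decomp Γ P → σ • e ∈ P := by
  classical
  letI := Fintype.ofFinite Γ
  let s : Finset Γ := Finset.univ.filter (fun ρ => ρ ∉ decomp Γ P)
  let J : Ideal B := s.inf (fun ρ => P.comap (MulSemiringAction.toRingHom Γ B ρ))
  have hJ : ¬ J ≤ P := by
    intro hle
    obtain ⟨ρ, hρs, hρ⟩ := (Ideal.IsPrime.inf_le' hP.isPrime).mp hle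
    have hsurj : Function.Surjective (MulSemiringAction.toRingHom Γ B ρ) := by
      intro b
      exact ⟨ρ⁻¹ • b, by simp⟩
    have hmax : (P.comap (MulSemiringAction.toRingHom Γ B ρ)).IsMaximal :=
      Ideal.comap_isMaximal_of_surjective _ hsurj
    have heq : P.comap (MulSemiringAction.toRingHom Γ B ρ) = P := hmax.eq_of_le hP.ne_top hρ
    have hmem : ρ ∈ decomp Γ P := by
      intro b
      conv_rhs => rw [← heq]
      rfl
    exact (Finset.mem_filter.mp hρs).2 hmem
  have hsup : P ⊔ J = ⊤ := by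
    by_contra h
    have := hP.eq_of_le h le_sup_left
    apply hJ
    rw [this]
    exact le_sup_right
  have h1 : (1 : B) ∈ P ⊔ J := by rw [hsup]; exact Submodule.mem_top
  obtain ⟨p0, hp0, j, hj, hsum⟩ := Submodule.mem_sup.mp h1
  refine ⟨normH (decomp Γ P) j, normH_mem _ j, ?_, ?_⟩
  · unfold normH
    rw [map_prod]
    apply Finset.prod_eq_one
    intro δ _
    rw [← map_one (Ideal.Quotient.mk P), Ideal.Quotient.eq]
    have : (δ : Γ) • j - 1 = (δ : Γ) • (j - 1) := by rw [smul_sub, smul_one]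
    rw [this]
    apply (δ.2 _).mpr
    have : j - 1 = -p0 := by rw [← hsum]; ring
    rw [this]
    exact P.neg_mem hp0
  · intro σ hσ
    unfold normH
    rw [Finset.smul_prod']
    refine Ideal.mem_of_dvd P (Finset.dvd_prod_of_mem (fun δ : decomp Γ P => σ • ((δ : Γ) • j))
      (@Finset.mem_univ _ (Fintype.ofFinite _) (1 : decomp Γ P))) ?_
    simp only [Subgroup.coe_one, one_smul]
    have hσs : σ ∈ s := Finset.mem_filter.mpr ⟨Finset.mem_univ _, hσ⟩
    have : j ∈ P.comap (MulSemiringAction.toRingHom Γ B σ) :=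
      (Finset.inf_le hσs : J ≤ _) hj
    exact this

end eElem

section trace

variable [Finite Γ] (I : Subgroup Γ)

/-- coset trace -/
noncomputable def tr (r : B) : B :=
  letI := Fintype.ofFinite (Γ ⧸ I)
  ∑ q : Γ ⧸ I, (Quotient.out q : Γ) • r

lemma tr_mem {r : B} (hr : r ∈ invSub (B := B) I) : tr I r ∈ invSub (B := B) (⊤ : Subgroup Γ) := by
  intro σ _
  letI := Fintype.ofFinite (Γ ⧸ I)
  unfold tr
  rw [Finset.smul_sum]
  have key : ∀ q : Γ ⧸ I, σ • ((Quotient.out q : Γ) • r) = (Quotient.out (σ • q) : Γ) • r := by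
    intro q
    have h1 : ((σ * Quotient.out q : Γ) : Γ ⧸ I) = σ • q := by
      conv_rhs => rw [← QuotientGroup.out_eq' q]
      rfl
    have h2 : (Quotient.out (σ • q))⁻¹ * (σ * Quotient.out q) ∈ I := by
      apply QuotientGroup.eq.mp
      rw [QuotientGroup.out_eq', h1]
    have h3 := hr _ h2
    rw [mul_smul, mul_smul] at h3
    have h4 := congrArg (fun z => (Quotient.out (σ • q) : Γ) • z) h3
    simp only [smul_inv_smul] at h4
    exact h4
  simp_rw [key]
  exact (MulAction.bijective σ).sum_comp (fun q : Γ ⧸ I => (Quotient.out q : Γ) • r)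

lemma mk_tr (P : Ideal B) (r : B) :
    Ideal.Quotient.mk P (tr I r) =
      letI := Fintype.ofFinite (Γ ⧸ I)
      ∑ q : Γ ⧸ I, chi P (Quotient.out q : Γ) r := by
  unfold tr
  rw [map_sum]
  rfl

end trace

end Groth.Agent.Helper6.Inert3
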