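import Mathlib
import Groth.Agent.Helper6.Inert3

universe u v

open Polynomial

namespace Groth.Agent.Helper6.Inert4

open Groth.Agent.Helper6.Inert1 Groth.Agent.Helper6.Inert3

variable {B : Type u} [CommRing B] {Γ : Type v} [Group Γ] [MulSemiringAction Γ B]
  [Finite Γ] (P : Ideal B)

variable (Γ) in
open Classical in
/-- the `D/I`-part of the trace, mod `P` -/
noncomputable def TD (r : B) : B ⧸ P :=
  letI := Fintype.ofFinite (Γ ⧸ P.inertia Γ)
  ∑ q : Γ ⧸ P.inertia Γ,
    if (Quotient.out q : Γ) ∈ decomp Γ P then chi P (Quotient.out q : Γ) r else 0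

lemma mk_tr_mul_e {e : B} (he : e ∈ invSub (B := B) (decomp Γ P))
    (he1 : Ideal.Quotient.mk P e = 1) (he0 : ∀ σ : Γ, σ ∉ decomp Γ P → σ • e ∈ P) (r : B) :
    Ideal.Quotient.mk P (tr (P.inertia Γ) (r * e)) = TD Γ P r := by
  classical
  rw [mk_tr]
  unfold TD
  apply Finset.sum_congr rfl
  intro q _
  rw [map_mul]
  split_ifs with h
  · rw [chi_of_mem_invSub_decomp P h he, he1, mul_one]
  · have : chi P (Quotient.out q : Γ) e = 0 := by
      rw [chi_apply, Ideal.Quotient.eq_zero_iff_mem]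
      exact he0 _ h
    rw [this, mul_zero]

lemma TD_mul {t r : B} (hr : ∀ δ : Γ, δ ∈ decomp Γ P → chi P δ r = Ideal.Quotient.mk P r) :
    TD Γ P (t * r) = TD Γ P t * Ideal.Quotient.mk P r := by
  classical
  unfold TD
  rw [Finset.sum_mul]
  apply Finset.sum_congr rfl
  intro q _
  split_ifs with h
  · rw [map_mul, hr _ h]
  · rw [zero_mul]

variable [hP : P.IsMaximal]

/-- distinctness of the characters on the inertia ring -/
lemma exists_ne {σ σ' : Γ} (hσ : σ ∈ decomp Γ P) (hσ' : σ' ∈ decomp Γ P)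
    (hne : σ⁻¹ * σ' ∉ P.inertia Γ) :
    ∃ r : B, r ∈ invSub (B := B) (P.inertia Γ) ∧ chi P σ r ≠ chi P σ' r := by
  classical
  letI : Field (B ⧸ P) := Ideal.Quotient.field P
  by_contra hcon
  push Not at hcon
  rw [mem_inertia_iff] at hne
  push Not at hne
  obtain ⟨b, hb⟩ := hne
  letI := Fintype.ofFinite (P.inertia Γ)
  have hmap : (orbPoly (P.inertia Γ) b).map (chi P σ) = (orbPoly (P.inertia Γ) b).map (chi P σ') := by
    ext n
    rw [coeff_map, coeff_map]
    exact hcon _ (orbPoly_coeff_mem _ b n)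
  have hcalc : ∀ ρ : Γ, ρ ∈ decomp Γ P → (orbPoly (P.inertia Γ) b).map (chi P ρ) =
      (X - C (chi P ρ b)) ^ (Fintype.card (P.inertia Γ)) := by
    intro ρ hρ
    rw [orbPoly_map]
    rw [Finset.prod_congr rfl (fun τ _ => by rw [chi_smul_inertia P hρ τ.2]), Finset.prod_const,
      Finset.card_univ]
  rw [hcalc σ hσ, hcalc σ' hσ'] at hmap
  have hev := congrArg (Polynomial.eval (chi P σ b)) hmap
  have hcard : Fintype.card (P.inertia Γ) ≠ 0 := Fintype.card_ne_zero
  simp only [eval_pow, eval_sub, eval_X, eval_C, sub_self, zero_pow hcard] at hev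
  have h1 : chi P σ b = chi P σ' b := by
    have := pow_eq_zero_iff hcard |>.mp hev.symm
    exact sub_eq_zero.mp this
  rw [chi_apply, chi_apply, Ideal.Quotient.eq] at h1
  apply hb
  have h2 : σ⁻¹ • (σ • b - σ' • b) ∈ P := ((decomp Γ P).inv_mem hσ _).mpr h1
  rw [smul_sub, inv_smul_smul, ← mul_smul] at h2
  have := P.neg_mem h2
  rwa [neg_sub] at this

/-- Dedekind: the `D/I`-trace is not identically zero on the inertia ring -/
theorem exists_TD_ne_zero :
    ∃ t : B, t ∈ invSub (B := B) (P.inertia Γ) ∧ TD Γ P t ≠ 0 := by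
  classical
  letI : Field (B ⧸ P) := Ideal.Quotient.field P
  letI := Fintype.ofFinite (Γ ⧸ P.inertia Γ)
  set R := invSub (B := B) (P.inertia Γ) with hR
  let QD := {q : Γ ⧸ P.inertia Γ // (Quotient.out q : Γ) ∈ decomp Γ P}
  let ψ : QD → (R →* (B ⧸ P)) := fun q =>
    ((chi P (Quotient.out q.1 : Γ)).comp R.subtype : R →+* (B ⧸ P))
  have hψ : ∀ (q : QD) (r : R), ψ q r = chi P (Quotient.out q.1 : Γ) (r : B) := fun _ _ => rfl
  have hinj : Function.Injective ψ := by
    intro q q' hqq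
    by_contra hne
    have hne' : q.1 ≠ q'.1 := fun h => hne (Subtype.ext h)
    have h1 : (Quotient.out q.1 : Γ)⁻¹ * (Quotient.out q'.1 : Γ) ∉ P.inertia Γ := by
      intro hmem
      apply hne'
      have := QuotientGroup.eq.mpr hmem
      rwa [QuotientGroup.out_eq', QuotientGroup.out_eq'] at this
    obtain ⟨r, hr, hrne⟩ := exists_ne P q.2 q'.2 h1
    apply hrne
    have := DFunLike.congr_fun hqq ⟨r, hr⟩
    rwa [hψ, hψ] at this
  have hLI : LinearIndependent (B ⧸ P) (fun q : QD => (ψ q : R → B ⧸ P)) :=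
    (linearIndependent_monoidHom R (B ⧸ P)).comp ψ hinj
  by_contra hall
  push Not at hall
  have hq0 : (Quotient.out ((1 : Γ) : Γ ⧸ P.inertia Γ) : Γ) ∈ decomp Γ P := by
    apply inertia_le_decomp P
    have h : ((Quotient.out ((1 : Γ) : Γ ⧸ P.inertia Γ) : Γ) : Γ ⧸ P.inertia Γ) = ((1 : Γ) : Γ ⧸ P.inertia Γ) :=
      QuotientGroup.out_eq' _
    have := QuotientGroup.eq.mp h
    rw [mul_one] at this
    exact (Subgroup.inv_mem_iff _).mp this
  let q0 : QD := ⟨((1 : Γ) : Γ ⧸ P.inertia Γ), hq0⟩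
  have hsum : ∑ q : QD, (1 : B ⧸ P) • (ψ q : R → B ⧸ P) = 0 := by
    funext t
    rw [Finset.sum_apply]
    simp only [Pi.smul_apply, smul_eq_mul, one_mul, Pi.zero_apply]
    have h1 := hall (t : B) t.2
    unfold TD at h1
    rw [← h1]
    rw [← Finset.sum_filter]
    rw [Finset.sum_subtype (Finset.univ.filter
      (fun q : Γ ⧸ P.inertia Γ => (Quotient.out q : Γ) ∈ decomp Γ P))
      (p := fun q : Γ ⧸ P.inertia Γ => (Quotient.out q : Γ) ∈ decomp Γ P) (by simp)]
    rfl
  have := Fintype.linearIndependent_iff.mp hLI (fun _ => 1) hsum q0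
  exact one_ne_zero this

end Groth.Agent.Helper6.Inert4
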