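import Mathlib
import Groth.Agent.Helper6.Inert2
import Groth.Agent.Helper6.Inert4

universe u v

open Polynomial

namespace Groth.Agent.Helper6.Inert5

open Groth.Agent.Helper6.Inert1 Groth.Agent.Helper6.Inert3 Groth.Agent.Helper6.Inert4

variable {B : Type u} [CommRing B] {Γ : Type v} [Group Γ] [MulSemiringAction Γ B]
  [Finite Γ] (P : Ideal B) [hP : P.IsMaximal]

/-- every `D`-invariant residue of the inertia ring is the residue of a `Γ`-invariant -/
theorem exists_inv_lift (r : B) (hr : r ∈ invSub (B := B) (P.inertia Γ))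
    (hrD : ∀ δ : Γ, δ ∈ decomp Γ P → chi P δ r = Ideal.Quotient.mk P r) :
    ∃ a : B, a ∈ invSub (B := B) (⊤ : Subgroup Γ) ∧
      Ideal.Quotient.mk P a = Ideal.Quotient.mk P r := by
  classical
  letI : Field (B ⧸ P) := Ideal.Quotient.field P
  obtain ⟨e, heD, he1, he0⟩ := exists_e (Γ := Γ) P
  have heI : e ∈ invSub (B := B) (P.inertia Γ) := fun σ hσ => heD σ (inertia_le_decomp P hσ)
  obtain ⟨t, ht, htne⟩ := exists_TD_ne_zero (Γ := Γ) P
  set A := invSub (B := B) (⊤ : Subgroup Γ) with hA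
  set R := invSub (B := B) (P.inertia Γ) with hR
  -- a'' := tr (t * e), with residue u
  have h1 : t * e ∈ R := R.mul_mem ht heI
  have ha'' : tr (P.inertia Γ) (t * e) ∈ A := tr_mem _ h1
  have hu : Ideal.Quotient.mk P (tr (P.inertia Γ) (t * e)) = TD Γ P t := mk_tr_mul_e P heD he1 he0 t
  -- a' := tr (t * r * e), with residue u * mk r
  have h2 : t * r * e ∈ R := R.mul_mem (R.mul_mem ht hr) heI
  have ha' : tr (P.inertia Γ) (t * r * e) ∈ A := tr_mem _ h2
  have hu' : Ideal.Quotient.mk P (tr (P.inertia Γ) (t * r * e)) = TD Γ P t * Ideal.Quotient.mk P r := by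
    rw [mk_tr_mul_e P heD he1 he0 (t * r), TD_mul P hrD]
  -- inverse of u inside A
  set pA := P.comap (algebraMap A B) with hpA
  haveI : pA.IsMaximal := Ideal.isMaximal_comap_of_isIntegral_of_isMaximal P
  have hnot : (⟨_, ha''⟩ : A) ∉ pA := by
    intro hmem
    have : tr (P.inertia Γ) (t * e) ∈ P := hmem
    rw [← Ideal.Quotient.eq_zero_iff_mem, hu] at this
    exact htne this
  obtain ⟨v, i, hi, hvi⟩ := Ideal.IsMaximal.exists_inv ‹pA.IsMaximal› hnot
  have hiP : (i : B) ∈ P := hi
  have hv : Ideal.Quotient.mk P (v : B) * TD Γ P t = 1 := by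
    have h3 := congrArg (fun z : A => Ideal.Quotient.mk P (z : B)) hvi
    simp only [Subring.coe_add, Subring.coe_mul, Subring.coe_one, map_add, map_mul, map_one] at h3
    rw [Ideal.Quotient.eq_zero_iff_mem.mpr hiP, add_zero, hu] at h3
    exact h3
  refine ⟨(v : B) * tr (P.inertia Γ) (t * r * e), A.mul_mem v.2 ha', ?_⟩
  rw [map_mul, hu', ← mul_assoc, hv, one_mul]

theorem partB (x y : B) (hy : ∀ γ : Γ, γ ∈ P.inertia Γ → γ • y = y) (hxy : x - y ∈ P) :
    ∃ g : B[X], (∀ (i : ℕ) (γ : Γ), γ • g.coeff i = g.coeff i) ∧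
      (g.map (Ideal.Quotient.mk P)).Separable ∧ Polynomial.aeval x g ∈ P := by
  classical
  letI : Field (B ⧸ P) := Ideal.Quotient.field P
  letI := Fintype.ofFinite (decomp Γ P)
  set A := invSub (B := B) (⊤ : Subgroup Γ) with hA
  set R := invSub (B := B) (P.inertia Γ) with hR
  have hyR : y ∈ R := hy
  -- the set of conjugates
  let Sy : Finset (B ⧸ P) := Finset.univ.image (fun δ : decomp Γ P => chi P (δ : Γ) y)
  let m : (B ⧸ P)[X] := ∏ c ∈ Sy, (X - C c)
  have hsep : m.Separable :=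
    Polynomial.separable_prod_X_sub_C_iff'.mpr (fun a _ b _ h => h)
  have hroot : m.IsRoot (Ideal.Quotient.mk P y) := by
    have hmem : Ideal.Quotient.mk P y ∈ Sy := by
      apply Finset.mem_image.mpr
      exact ⟨1, Finset.mem_univ _, by rw [Subgroup.coe_one, chi_one]⟩
    rw [Polynomial.IsRoot.def, Polynomial.eval_prod]
    apply Finset.prod_eq_zero hmem
    simp
  -- coefficients are residues of elements of R
  let φR : R →+* (B ⧸ P) := (Ideal.Quotient.mk P).comp R.subtype
  have hmR : m ∈ Polynomial.lifts φR := by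
    rw [Polynomial.lifts_iff_liftsRing]
    apply Subring.prod_mem
    intro c hc
    apply Subring.sub_mem
    · rw [← Polynomial.lifts_iff_liftsRing]
      exact Polynomial.X_mem_lifts _
    · rw [← Polynomial.lifts_iff_liftsRing]
      obtain ⟨δ, -, rfl⟩ := Finset.mem_image.mp hc
      have hδy : (δ : Γ) • y ∈ R := smul_mem_invSub_inertia P δ.2 hyR
      have : chi P (δ : Γ) y = φR ⟨_, hδy⟩ := rfl
      rw [this]
      exact Polynomial.C_mem_lifts _ _
  obtain ⟨M, hM⟩ := (Polynomial.mem_lifts _).mp hmR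
  -- D-invariance of m
  have hinv : ∀ δ : Γ, ∀ hδ : δ ∈ decomp Γ P, m.map (bar P hδ) = m := by
    intro δ hδ
    have hinjbar : Function.Injective (bar P hδ) := (bar P hδ).injective
    have himage : Sy.image (bar P hδ) = Sy := by
      apply Finset.eq_of_subset_of_card_le
      · intro c hc
        obtain ⟨c', hc', rfl⟩ := Finset.mem_image.mp hc
        obtain ⟨δ', -, rfl⟩ := Finset.mem_image.mp hc'
        apply Finset.mem_image.mpr
        refine ⟨⟨δ, hδ⟩ * δ', Finset.mem_univ _, ?_⟩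
        rw [Subgroup.coe_mul, chi_mul, chi_apply P (δ' : Γ), bar_mk]
      · rw [Finset.card_image_of_injective _ hinjbar]
    show (∏ c ∈ Sy, (X - C c)).map (bar P hδ) = ∏ c ∈ Sy, (X - C c)
    rw [Polynomial.map_prod]
    conv_rhs => rw [← himage, Finset.prod_image (fun a _ b _ h => hinjbar h)]
    apply Finset.prod_congr rfl
    intro c _
    simp
  -- each coefficient of m is the residue of an invariant
  have hcoeff : ∀ n : ℕ, m.coeff n ∈ Set.range ((Ideal.Quotient.mk P).comp A.subtype) := by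
    intro n
    have h1 : m.coeff n = Ideal.Quotient.mk P ((M.coeff n : R) : B) := by
      rw [← hM, Polynomial.coeff_map]
      rfl
    have h2 : ∀ δ : Γ, δ ∈ decomp Γ P →
        chi P δ ((M.coeff n : R) : B) = Ideal.Quotient.mk P ((M.coeff n : R) : B) := by
      intro δ hδ
      rw [← bar_mk P hδ, ← h1]
      have := congrArg (fun p => p.coeff n) (hinv δ hδ)
      simp only [Polynomial.coeff_map] at this
      exact this
    obtain ⟨a, haA, ha⟩ := exists_inv_lift P ((M.coeff n : R) : B) (M.coeff n).2 h2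
    exact ⟨⟨a, haA⟩, by rw [h1, ← ha]; rfl⟩
  have hmA : m ∈ Polynomial.lifts ((Ideal.Quotient.mk P).comp A.subtype) :=
    (Polynomial.lifts_iff_coeff_lifts _).mpr hcoeff
  obtain ⟨G, hG⟩ := (Polynomial.mem_lifts _).mp hmA
  refine ⟨G.map A.subtype, ?_, ?_, ?_⟩
  · intro i γ
    rw [Polynomial.coeff_map]
    exact (G.coeff i).2 γ (Subgroup.mem_top γ)
  · rw [Polynomial.map_map, hG]
    exact hsep
  · rw [← Ideal.Quotient.eq_zero_iff_mem]
    have h1 : Polynomial.aeval x (G.map A.subtype) = Polynomial.eval x (G.map A.subtype) := by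
      rw [Polynomial.aeval_def]
      rfl
    rw [h1, ← Polynomial.eval₂_hom, ← Polynomial.eval_map, Polynomial.map_map, hG]
    have h2 : Ideal.Quotient.mk P x = Ideal.Quotient.mk P y := Ideal.Quotient.eq.mpr hxy
    rw [h2]
    exact hroot

theorem main (B : Type u) [CommRing B] (Γ : Type v) [Group Γ] [Finite Γ] [MulSemiringAction Γ B]
    (P : Ideal B) [P.IsMaximal] (x : B) :
    (∃ y : B, (∀ γ : Γ, γ ∈ P.inertia Γ → γ • y = y) ∧ x - y ∈ P) ↔
      ∃ g : Polynomial B, (∀ (i : ℕ) (γ : Γ), γ • g.coeff i = g.coeff i) ∧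
        (g.map (Ideal.Quotient.mk P)).Separable ∧ Polynomial.aeval x g ∈ P := by
  constructor
  · rintro ⟨y, hy, hxy⟩
    exact partB P x y hy hxy
  · rintro ⟨g, hg, hsep, hx⟩
    exact Groth.Agent.Helper6.Inert2.partA P x g hg hsep hx

end Groth.Agent.Helper6.Inert5
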