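import Mathlib
import Groth.Agent.Helper6.DiagRep4
import Groth.Agent.Helper6.AlgStSec
import Groth.Agent.Helper6.AlgStSpMap
import Groth.Agent.Helper6.DiagLft
import Groth.Agent.Helper6.ToSpace
import Groth.Agent.Helper3.InertiaFp
import Groth.Agent.Helper5.AlgSpUnram
import Groth.Agent.Helper6.LocQ0

/-!
# Helper6: the inertia stack and separation conditions
-/

set_option autoImplicit false
set_option linter.style.haveILetI false
set_option linter.unusedVariables false
universe w' v' w v u

namespace Groth.Agent.Helper6.InertSt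
open CategoryTheory Functor FibCat Limits AlgebraicGeometry Opposite
open Groth.Agent.Helper3 Stk Groth.Agent.Helper6.OfPsh Groth.Agent.Helper6.OfPshHom
open Groth.Agent.Helper6.FpTools Groth.Agent.Helper6.OfPshFp Groth.Agent.Helper6.AlgStRep
open Groth.Agent.Helper6.AlgStEquiv Groth.Agent.Helper6.AlgStInv Groth.Agent.Helper6.AlgStPsh
open Groth.Agent.Helper6.DiagRed Groth.Agent.Helper6.RepDiag Groth.Agent.Helper6.RepComp
open AlgSp Groth.Agent.Helper4.SDClasses Groth.Agent.Helper6.DiagRep Groth.Agent.Helper6.AlgStBC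
open Groth.Agent.Helper3.InertiaFp Groth.Agent.Helper6.AlgStSpMap Groth.Agent.Helper6.ToSpace
open Groth.Agent.Helper6.LocQ0 Groth.Agent.Helper6.DiagLft

variable {S : Scheme.{u}}

variable {𝒳 𝒴 : AlgSt.Cat S} (f : 𝒳 ⥤ᵇ 𝒴)

/-- the structure functor of the inertia is a base change of the diagonal -/
theorem rep_inertiaToBase (P : MorphismProperty (Sp S)) (h : AlgSt.RepByAlgSpWith P (diag f)) :
    AlgSt.RepByAlgSpWith P (inertiaToBase f) :=
  repByAlgSpWith_of_baseChange P (diag f) (diag f) (inertiaToBase f) (E f) (isEquivOver_E f)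
    (eqToIso (E_fst f)) h

/-- the neutral section of the inertia corresponds to the diagonal of the diagonal -/
def neutralIso : BasedFunctor.comp (inertiaNeutral f) (E f) ≅ diag (diag f) :=
  BasedNatIso.mkNatIso
    (NatIso.ofComponents
      (fun x => fpMkIso (x := (E f).obj ((inertiaNeutral f).obj x))
        (z := (diag (diag f)).obj x) (Iso.refl _) (Iso.refl _) (by
          apply fp_hom_ext
          · change 𝟙 _ ≫ 𝟙 _ = 𝟙 _ ≫ 𝟙 _
            rfl
          · change 𝟙 _ ≫ 𝟙 _ = 𝟙 _ ≫ 𝟙 _
            rfl))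
      (fun {x x'} k => by
        apply fp_hom_ext
        · change k ≫ 𝟙 _ = 𝟙 _ ≫ k
          rw [Category.comp_id, Category.id_comp]
        · change k ≫ 𝟙 _ = 𝟙 _ ≫ k
          rw [Category.comp_id, Category.id_comp]))
    (fun x => by
      apply fpMkIso_lift
      exact IsHomLift.id rfl)

theorem rep_neutral_iff (P : MorphismProperty (Sp S)) :
    AlgSt.RepByAlgSpWith P (inertiaNeutral f) ↔ AlgSt.RepByAlgSpWith P (diag (diag f)) := by
  rw [repByAlgSpWith_comp_equiv P (inertiaNeutral f) (E f) (isEquivOver_E f)]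
  exact ⟨repByAlgSpWith_of_iso P (neutralIso f).symm, repByAlgSpWith_of_iso P (neutralIso f)⟩

/-- the neutral section inherits the properties of the diagonal of the structure functor -/
theorem rep_neutral_of_diag (P : MorphismProperty (Sp S))
    (h : AlgSt.RepByAlgSpWith P (diag (inertiaToBase f))) :
    AlgSt.RepByAlgSpWith P (inertiaNeutral f) :=
  repByAlgSpWith_section P (inertiaToBase f) (inertiaNeutral f) (Iso.refl _) h

section Q

variable {F : Sp S} (hF : IsAlgSpace F) {U : Over S} (a : F ⟶ (yon S).obj U)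

include hF in
theorem hQ_of (P : MorphismProperty Scheme.{u})
    (h : RepWith P (pullback.diagonal a)) :
    RepBySpWith (RepWith P) (pullback.diagonal a).hom :=
  repBySpWith_of_representable _ _ (rep_diag hF a) (fun V ξ F' fst snd sq => by
    have i1 := repWith_isStableUnderBaseChange (S := S) P
    exact MorphismProperty.of_isPullback (P := RepWith (S := S) P) sq h)

include hF in
theorem repWith_of_hQ (P : MorphismProperty Scheme.{u}) [P.IsStableUnderBaseChange]
    (h : RepBySpWith (RepWith P) (pullback.diagonal a).hom) :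
    RepWith P (pullback.diagonal a) := by
  refine ⟨rep_diag hF a, ?_⟩
  intro V W g fst snd sq
  have h1 := ((repBySpWith_hom_iff _ _).1 h g fst ((yon S).map snd) sq).2
  exact (repWith_yon_map_iff P snd).1 h1

end Q

variable (h𝒳 : AlgSt.IsAlgStack Scheme.fppfPrecoverage 𝒳)
  (h𝒴 : AlgSt.IsAlgStack Scheme.fppfPrecoverage 𝒴)

include h𝒳 h𝒴 in
theorem rep1_diag : AlgSt.RepByAlgSp1 (diag f) := repByAlgSp1_of_with (lft_diag h𝒳 h𝒴 f)

include h𝒳 h𝒴 in
theorem rep1_inertiaToBase : AlgSt.RepByAlgSp1 (inertiaToBase f) :=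
  repByAlgSp1_of_with (rep_inertiaToBase f _ (lft_diag h𝒳 h𝒴 f))

include h𝒳 h𝒴 in
/-- S12972 -/
theorem tfae_inertia_separated :
    [AlgSt.RepByAlgSpWith AlgSp.IsSeparatedMor (inertiaToBase f),
      AlgSt.RepByAlgSpWith AlgSp.IsSeparatedMor (diag f),
      AlgSt.IsClosedImm (inertiaNeutral f)].TFAE := by
  tfae_have 2 → 1 := rep_inertiaToBase f _
  tfae_have 1 → 3 := fun h => rep_neutral_of_diag f _
    (((tfae_sep (inertiaToBase f) (rep1_inertiaToBase f h𝒳 h𝒴)).out 0 1).1 h)
  tfae_have 3 → 2 := fun h => ((tfae_sep (diag f) (rep1_diag f h𝒳 h𝒴)).out 0 1).2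
    ((rep_neutral_iff f _).1 h)
  tfae_finish

include h𝒳 h𝒴 in
/-- S12973 -/
theorem tfae_inertia_quasiSeparated :
    [AlgSt.RepByAlgSpWith AlgSp.IsQuasiSeparatedMor (inertiaToBase f),
      AlgSt.RepByAlgSpWith AlgSp.IsQuasiSeparatedMor (diag f),
      AlgSt.RepByAlgSpWith AlgSp.IsQuasiCompactMor (inertiaNeutral f)].TFAE := by
  tfae_have 2 → 1 := rep_inertiaToBase f _
  tfae_have 1 → 3 := fun h => rep_neutral_of_diag f _
    (((tfae_qs (inertiaToBase f) (rep1_inertiaToBase f h𝒳 h𝒴)).out 0 1).1 h)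
  tfae_have 3 → 2 := fun h => ((tfae_qs (diag f) (rep1_diag f h𝒳 h𝒴)).out 0 1).2
    ((rep_neutral_iff f _).1 h)
  tfae_finish

/-- a functor representable by algebraic spaces with diagonal representable by `P`-immersions -/
theorem rep_diag_of_charts (P : MorphismProperty Scheme.{u})
    (g : 𝒳 ⥤ᵇ 𝒴) (hg : AlgSt.RepByAlgSp1 g)
    (h : ∀ (T : Over S) (y : overCat T ⥤ᵇ 𝒴) (F : AlgSp.Space S) (e : AlgSt.ofSp F.obj ⥤ᵇ fp y g),
      IsEquivOver e → ∀ (a : F.obj ⟶ (yon S).obj T),
      (BasedFunctor.comp e (fpFst y g) ≅ BasedFunctor.comp (AlgSt.ofSpMap a) (AlgSt.toOverCat T)) →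
      RepWith P (pullback.diagonal a)) :
    AlgSt.RepByAlgSpWith (RepWith P) (diag g) :=
  master' g _ hg (fun T y F e he a θ => hQ_of F.property a P (h T y F e he a θ))

include h𝒳 h𝒴 in
/-- S12974 -/
theorem unram_inertiaToBase_iff :
    AlgSt.RepByAlgSpWith (AlgSp.LocP (@LocallyOfFiniteType ⊓ @FormallyUnramified)) (inertiaToBase f) ↔
      AlgSt.IsDMMor f := by
  have j1 := locP_respectsIso (S := S) @LocallyOfFiniteType
  have j2 := locP_respectsIso (S := S) (@LocallyOfFiniteType ⊓ @FormallyUnramified)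
  constructor
  · intro h
    have h1 : AlgSt.RepByAlgSpWith (RepWith @IsOpenImmersion) (diag (inertiaToBase f)) :=
      rep_diag_of_charts @IsOpenImmersion (inertiaToBase f) (rep1_inertiaToBase f h𝒳 h𝒴)
        (fun T y F e he a θ =>
          Groth.Agent.Helper5.AlgSpUnram.repWith_openImmersion_diagonal_of_unram F.property
            (IsAlgSpace.yon_obj T) a (chart_of_rep (inertiaToBase f) _ h T y F.obj e he a θ))
    have h2 : AlgSt.RepByAlgSpWith (RepWith @IsOpenImmersion) (diag (diag f)) :=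
      (rep_neutral_iff f _).1 (rep_neutral_of_diag f _ h1)
    exact rep_of_charts (diag f) _ (rep1_diag f h𝒳 h𝒴) (fun T y F e he a θ =>
      Groth.Agent.Helper5.AlgSpUnram.locP_unram_of_diagonal_openImmersion F.property a
        (chart_of_rep (diag f) _ (lft_diag h𝒳 h𝒴 f) T y F.obj e he a θ)
        (repWith_of_hQ F.property a @IsOpenImmersion
          (master_conv (diag f) _ h2 y F.property e he a θ)))
  · exact rep_inertiaToBase f _

instance respectsIso_isLocallySeparatedMor : (IsLocallySeparatedMor (S := S)).RespectsIso :=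
  respectsIso_of_bc _ (fun _ _ _ _ f _ _ _ sq h => by
    have i1 := repWith_isStableUnderBaseChange (S := S) @IsImmersion
    have h' : (RepWith (S := S) @IsImmersion).diagonal f := h
    exact MorphismProperty.of_isPullback (P := (RepWith (S := S) @IsImmersion).diagonal) sq h')

include h𝒳 h𝒴 in
/-- S19903 -/
theorem isImm_inertiaNeutral :
    (AlgSt.RepByAlgSpWith AlgSp.IsLocallySeparatedMor (inertiaToBase f) →
        AlgSt.IsImm (inertiaNeutral f)) ∧
      (AlgSt.RepByAlgSpWith AlgSp.IsLocallySeparatedMor (diag f) →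
        AlgSt.IsImm (inertiaNeutral f)) := by
  have key : AlgSt.RepByAlgSpWith AlgSp.IsLocallySeparatedMor (inertiaToBase f) →
      AlgSt.IsImm (inertiaNeutral f) := fun h =>
    rep_neutral_of_diag f _
      (rep_diag_of_charts @IsImmersion (inertiaToBase f) (rep1_inertiaToBase f h𝒳 h𝒴)
        (fun T y F e he a θ => chart_of_rep (inertiaToBase f) _ h T y F.obj e he a θ))
  exact ⟨key, fun h => key (rep_inertiaToBase f _ h)⟩

end Groth.Agent.Helper6.InertSt
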