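import Mathlib

set_option autoImplicit false
set_option linter.style.haveILetI false
set_option linter.unusedSectionVars false

universe v
open Polynomial

namespace Groth.Agent.Helper6.IntSqrtRoot

theorem coeff_comp_neg_X {R : Type*} [CommRing R] (p : R[X]) (k : ℕ) :
    (p.comp (-X)).coeff k = (-1) ^ k * p.coeff k := by
  induction p using Polynomial.induction_on' with
  | add p q hp hq => rw [add_comp, coeff_add, coeff_add, hp, hq, mul_add]
  | monomial e a =>
    rw [monomial_comp, neg_pow, coeff_monomial]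
    have h1 : (C a * ((-1) ^ e * X ^ e) : R[X]) = C (a * (-1) ^ e) * X ^ e := by
      rw [C_mul, mul_assoc]
      congr 2
      simp
    rw [h1, coeff_C_mul_X_pow]
    by_cases hek : e = k
    · subst hek
      simp [mul_comm]
    · simp [hek, Ne.symm hek]

theorem dvd_of_padic (n j : ℕ) (c : ℤ)
    (h : ∀ (ℓ : ℕ) [Fact ℓ.Prime], ℓ ∣ n → ((n : ℤ_[ℓ]) ^ j ∣ (c : ℤ_[ℓ]))) :
    ((n : ℤ) ^ j ∣ c) := by
  have h1 : ((n ^ j : ℕ) : ℤ) ∣ c := by
    rw [Int.natCast_dvd, Nat.dvd_iff_prime_pow_dvd_dvd]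
    intro p k hp hpk
    rcases Nat.eq_zero_or_pos k with rfl | hk
    · simp
    have hpn : p ∣ n := hp.dvd_of_dvd_pow ((dvd_pow_self p hk.ne').trans hpk)
    haveI : Fact p.Prime := ⟨hp⟩
    have h2 := h p hpn
    have h3 : ((p : ℤ_[p]) ^ k) ∣ (c : ℤ_[p]) := by
      refine Dvd.dvd.trans ?_ h2
      have h4 := Nat.cast_dvd_cast (α := ℤ_[p]) hpk
      simpa using h4
    rw [PadicInt.pow_p_dvd_int_iff] at h3
    have h5 : ((p ^ k : ℕ) : ℤ) ∣ c := by
      push_cast
      exact h3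
    exact Int.natCast_dvd.mp h5
  simpa using h1

theorem expand_charpoly_sq {R : Type*} [CommRing R] {g : ℕ} (M : Matrix (Fin g) (Fin g) R) :
    expand R 2 (M ^ 2).charpoly = M.charpoly * ((-1) ^ g * M.charpoly.comp (-X)) := by
  have hXM : Commute (Matrix.scalar (Fin g) (X : R[X])) ((C : R →+* R[X]).mapMatrix M) :=
    Matrix.scalar_commute _ (fun _ => Commute.all _ _) _
  -- left-hand side
  have h1 : expand R 2 (M ^ 2).charpoly =
      (Matrix.scalar (Fin g) (X : R[X]) ^ 2 - ((C : R →+* R[X]).mapMatrix M) ^ 2).det := by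
    rw [Matrix.charpoly, AlgHom.map_det]
    congr 1
    rw [← map_pow (Matrix.scalar (Fin g)), ← map_pow ((C : R →+* R[X]).mapMatrix)]
    ext i j
    by_cases hij : i = j
    · subst hij
      simp [Matrix.charmatrix_apply]
    · simp [Matrix.charmatrix_apply, hij]
  -- the other factor
  have h2 : (Matrix.scalar (Fin g) (X : R[X]) + (C : R →+* R[X]).mapMatrix M).det =
      (-1) ^ g * M.charpoly.comp (-X) := by
    have h3 : M.charpoly.comp (-X) =
        (-(Matrix.scalar (Fin g) (X : R[X]) + (C : R →+* R[X]).mapMatrix M)).det := by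
      rw [← coe_compRingHom_apply, Matrix.charpoly, RingHom.map_det]
      congr 1
      ext i j
      by_cases hij : i = j
      · subst hij
        simp [Matrix.charmatrix_apply, coe_compRingHom_apply]
        ring
      · simp [Matrix.charmatrix_apply, hij, coe_compRingHom_apply]
    rw [h3, Matrix.det_neg, Fintype.card_fin, ← mul_assoc, ← mul_pow]
    simp
  rw [h1, hXM.sq_sub_sq, Matrix.det_mul, h2, mul_comm]
  rfl

theorem coeff_dvd_padic (ℓ : ℕ) [Fact ℓ.Prime] (n g : ℕ) (h : ℤ[X]) (hmon : h.Monic)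
    (M B : Matrix (Fin g) (Fin g) ℤ_[ℓ]) (hM : M.charpoly = h.map (Int.castRingHom ℤ_[ℓ]))
    (hB : M ^ 2 = (n : ℤ_[ℓ]) • B) (k : ℕ) :
    ((n : ℤ_[ℓ]) ^ (h.natDegree - k)) ∣
      (((h * ((-1) ^ h.natDegree * h.comp (-X))).coeff (k * 2) : ℤ) : ℤ_[ℓ]) := by
  have hdg : h.natDegree = g := by
    have h1 := congrArg natDegree hM
    rw [Matrix.charpoly_natDegree_eq_dim, Fintype.card_fin, hmon.natDegree_map] at h1
    exact h1.symm
  have hmap : (h * ((-1) ^ h.natDegree * h.comp (-X))).map (Int.castRingHom ℤ_[ℓ]) =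
      expand ℤ_[ℓ] 2 (M ^ 2).charpoly := by
    rw [expand_charpoly_sq, hM, hdg]
    simp only [Polynomial.map_mul, Polynomial.map_pow, Polynomial.map_neg, Polynomial.map_one,
      Polynomial.map_comp, Polynomial.map_X]
  have hc : (((h * ((-1) ^ h.natDegree * h.comp (-X))).coeff (k * 2) : ℤ) : ℤ_[ℓ]) =
      (M ^ 2).charpoly.coeff k := by
    have h1 := congrArg (fun p => p.coeff (k * 2)) hmap
    simp only [coeff_map, eq_intCast] at h1
    rw [h1, mul_comm k 2, coeff_expand_mul' (by norm_num)]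
  rw [hc, hdg]
  have hmem : (M ^ 2).charpoly.coeff k ∈
      (Ideal.span {(n : ℤ_[ℓ])}) ^ (Fintype.card (Fin g) - k) :=
    Matrix.coeff_charpoly_mem_ideal_pow (fun i j => by
      rw [hB, Matrix.smul_apply, smul_eq_mul]
      exact Ideal.mul_mem_right _ _ (Ideal.mem_span_singleton_self _)) k
  rw [Fintype.card_fin, Ideal.span_singleton_pow, Ideal.mem_span_singleton] at hmem
  exact hmem

theorem main (n : ℕ) (hn : 0 < n) (g : ℕ) (f : Polynomial ℤ) (hf : f.Monic)
    (hA : ∀ (ℓ : ℕ) [Fact ℓ.Prime], ℓ ∣ n → ∃ A : Matrix (Fin g) (Fin g) ℤ_[ℓ],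
      A.charpoly = f.map (Int.castRingHom ℤ_[ℓ]) ∧
        ∃ B : Matrix (Fin g) (Fin g) ℤ_[ℓ], (A - 1) ^ 2 = (n : ℤ_[ℓ]) • B)
    (K : Type v) [Field K] [CharZero K] (α s : K) (hα : Polynomial.aeval α f = 0)
    (hs : s ^ 2 = (n : K)) :
    IsIntegral ℤ ((α - 1) / s) := by
  obtain ⟨h, hh⟩ : ∃ h : ℤ[X], h = f.comp (X + C 1) := ⟨_, rfl⟩
  have hmon : h.Monic := by
    rw [hh]
    exact hf.comp (monic_X_add_C 1) (by rw [natDegree_X_add_C]; exact one_ne_zero)
  obtain ⟨d, hd⟩ : ∃ d : ℕ, d = h.natDegree := ⟨_, rfl⟩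
  obtain ⟨E, hE⟩ : ∃ E : ℤ[X], E = h * ((-1) ^ h.natDegree * h.comp (-X)) := ⟨_, rfl⟩
  have h2mon : ((-1) ^ h.natDegree * h.comp (-X)).Monic :=
    hmon.neg_one_pow_natDegree_mul_comp_neg_X
  have Emon : E.Monic := by rw [hE]; exact hmon.mul h2mon
  have hd2 : ((-1) ^ h.natDegree * h.comp (-X)).natDegree = d := by
    have h1 : ((-1 : ℤ[X]) ^ h.natDegree) = C ((-1 : ℤ) ^ h.natDegree) := by simp
    rw [h1, natDegree_C_mul (pow_ne_zero _ (by norm_num)), natDegree_comp, natDegree_neg,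
      natDegree_X, mul_one, hd]
  have Edeg : E.natDegree = d + d := by
    rw [hE, hmon.natDegree_mul h2mon, hd2, hd]
  have Eeven : E.comp (-X) = E := by
    rw [hE, mul_comp, mul_comp, comp_neg_X_comp_neg_X, pow_comp, neg_comp, one_comp]
    ring
  have Eodd : ∀ i : ℕ, ¬ 2 ∣ i → E.coeff i = 0 := by
    intro i hi
    have h1 := coeff_comp_neg_X E i
    rw [Eeven] at h1
    have hodd : Odd i := by
      rw [← Nat.not_even_iff_odd, even_iff_two_dvd]
      exact hi
    rw [hodd.neg_one_pow] at h1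
    linarith
  have Ediv : ∀ k : ℕ, k ≤ d → (n : ℤ) ^ (d - k) ∣ E.coeff (k * 2) := by
    intro k _
    apply dvd_of_padic
    intro ℓ _ hℓ
    obtain ⟨A, hA1, B, hB⟩ := hA ℓ hℓ
    have hM : (A - 1).charpoly = h.map (Int.castRingHom ℤ_[ℓ]) := by
      have h1 := Matrix.charpoly_sub_scalar A (1 : ℤ_[ℓ])
      rw [map_one] at h1
      rw [h1, hA1, hh, Polynomial.map_comp]
      simp
    have h3 := coeff_dvd_padic ℓ n g h hmon (A - 1) B hM hB k
    rw [hE, hd]
    exact h3
  have hroot : aeval (α - 1) E = 0 := by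
    have h1 : aeval (α - 1) h = 0 := by
      rw [hh, aeval_comp, map_add, aeval_X, aeval_C, map_one, sub_add_cancel, hα]
    rw [hE, map_mul, h1, zero_mul]
  -- contraction
  obtain ⟨Et, hEt⟩ : ∃ Et : ℤ[X], Et = contract 2 E := ⟨_, rfl⟩
  have hEtc : ∀ k, Et.coeff k = E.coeff (k * 2) := by
    intro k
    rw [hEt, coeff_contract (by norm_num)]
  have hexp : expand ℤ 2 Et = E := by
    ext i
    rw [coeff_expand (by norm_num), hEtc]
    split_ifs with hdiv
    · rw [Nat.div_mul_cancel hdiv]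
    · exact (Eodd i hdiv).symm
  have hEtdeg : Et.natDegree < d + 1 := by
    rw [Nat.lt_succ_iff, natDegree_le_iff_coeff_eq_zero]
    intro N hN
    rw [hEtc]
    apply coeff_eq_zero_of_natDegree_lt
    rw [Edeg]
    omega
  choose! q hq using Ediv
  obtain ⟨P, hP⟩ : ∃ P : ℤ[X], P = ∑ k ∈ Finset.range (d + 1), C (q k) * X ^ k := ⟨_, rfl⟩
  have hqd : q d = 1 := by
    have h1 := hq d le_rfl
    rw [Nat.sub_self, pow_zero, one_mul] at h1
    rw [← h1]
    have h2 := Emon.coeff_natDegree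
    rw [Edeg] at h2
    rw [← h2]
    congr 1
    omega
  have Pmon : P.Monic := by
    apply monic_of_natDegree_le_of_coeff_eq_one d
    · rw [hP]
      apply natDegree_sum_le_of_forall_le
      intro k hk
      exact (natDegree_C_mul_X_pow_le _ _).trans (Nat.lt_succ_iff.mp (Finset.mem_range.mp hk))
    · rw [hP, finsetSum_coeff]
      simp only [coeff_C_mul_X_pow]
      rw [Finset.sum_ite_eq (Finset.range (d + 1)) d (fun k => q k)]
      simp [hqd]
  have hN : (n : K) ≠ 0 := Nat.cast_ne_zero.mpr hn.ne'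
  have hs0 : s ≠ 0 := by
    intro h0
    rw [h0] at hs
    exact hN (by rw [← hs]; ring)
  have hγ : ((α - 1) / s) ^ 2 = (α - 1) ^ 2 / (n : K) := by
    rw [div_pow, hs]
  have Proot : aeval (((α - 1) / s) ^ 2) P = 0 := by
    have h0 : aeval ((α - 1) ^ 2) Et = 0 := by
      rw [← expand_aeval, hexp, hroot]
    have key : ((n : K) ^ d) * aeval (((α - 1) / s) ^ 2) P = aeval ((α - 1) ^ 2) Et := by
      rw [aeval_eq_sum_range' hEtdeg, hP, map_sum, Finset.mul_sum]
      apply Finset.sum_congr rfl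
      intro k hk
      have hk' : k ≤ d := Nat.lt_succ_iff.mp (Finset.mem_range.mp hk)
      rw [hEtc, hq k hk', zsmul_eq_mul, map_mul, aeval_C, map_pow, aeval_X, eq_intCast, hγ, div_pow,
        ← pow_sub_mul_pow (n : K) hk']
      push_cast
      field_simp
    rw [h0] at key
    exact (mul_eq_zero.mp key).resolve_left (pow_ne_zero _ hN)
  have hint : IsIntegral ℤ (((α - 1) / s) ^ 2) := ⟨P, Pmon, by rw [← aeval_def]; exact Proot⟩
  exact IsIntegral.of_pow (by norm_num) hint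

end Groth.Agent.Helper6.IntSqrtRoot
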