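import Mathlib
import Groth.Prelude.Def_W4c2brnrinvarInvFld

set_option backward.isDefEq.respectTransparency false
set_option backward.isDefEq.respectTransparency.types false
set_option linter.style.haveILetI false
set_option autoImplicit false

open IntermediateField MvPolynomial

namespace Groth.Agent.Helper6.InvFldBasic

variable (σ : Type*) (k : Type*) [Field k]

theorem algInd_X : AlgebraicIndependent k (fun i : σ => (InvFld.X i : InvFld.Fld σ k)) :=
  (MvPolynomial.algebraicIndependent_X σ k).map'
    (f := IsScalarTower.toAlgHom k (MvPolynomial σ k) (InvFld.Fld σ k))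
    (IsFractionRing.injective (MvPolynomial σ k) (InvFld.Fld σ k))

theorem algebraMap_eq_aeval (a : MvPolynomial σ k) :
    algebraMap (MvPolynomial σ k) (InvFld.Fld σ k) a =
      aeval (fun i : σ => (InvFld.X i : InvFld.Fld σ k)) a := by
  have h := MvPolynomial.comp_aeval (R := k) (f := (X : σ → MvPolynomial σ k))
    (IsScalarTower.toAlgHom k (MvPolynomial σ k) (InvFld.Fld σ k))
  have h2 := AlgHom.congr_fun h a
  rw [AlgHom.comp_apply, aeval_X_left_apply] at h2
  exact h2

theorem algebraMap_mem_adjoin (a : MvPolynomial σ k) :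
    algebraMap (MvPolynomial σ k) (InvFld.Fld σ k) a ∈
      adjoin k (Set.range (fun i : σ => (InvFld.X i : InvFld.Fld σ k))) := by
  rw [algebraMap_eq_aeval]
  apply algebra_adjoin_le_adjoin k
  rw [Algebra.adjoin_range_eq_range_aeval]
  exact ⟨a, rfl⟩

theorem adjoin_X_eq_top :
    adjoin k (Set.range (fun i : σ => (InvFld.X i : InvFld.Fld σ k))) = ⊤ := by
  rw [eq_top_iff]
  intro z _
  obtain ⟨a, b, -, rfl⟩ := IsFractionRing.div_surjective (MvPolynomial σ k) z
  exact div_mem (algebraMap_mem_adjoin σ k a) (algebraMap_mem_adjoin σ k b)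

/-- two algebra maps out of the rational function field agreeing on the variables agree -/
theorem algHom_ext {L : Type*} [Field L] [Algebra k L] {f g : InvFld.Fld σ k →ₐ[k] L}
    (h : ∀ i, f (InvFld.X i) = g (InvFld.X i)) : f = g := by
  have h1 : (f : InvFld.Fld σ k →+* L) = (g : InvFld.Fld σ k →+* L) := by
    apply IsFractionRing.ringHom_ext (A := MvPolynomial σ k)
    intro a
    rw [algebraMap_eq_aeval]
    show f (aeval _ a) = g (aeval _ a)
    rw [← AlgHom.comp_apply, ← AlgHom.comp_apply, comp_aeval, comp_aeval]
    simp only [h]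
  exact AlgHom.ext fun z => RingHom.congr_fun h1 z

end Groth.Agent.Helper6.InvFldBasic
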