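import Mathlib
import Groth.Agent.Helper6.GLnH90

set_option backward.isDefEq.respectTransparency false
set_option backward.isDefEq.respectTransparency.types false
set_option linter.style.haveILetI false
set_option autoImplicit false

/-!
The "no-name lemma" for rational function fields: ingredients.
-/

open IntermediateField MvPolynomial

namespace Groth.Agent.Helper6.NoName

variable {k F : Type*} [Field k] [Field F] [Algebra k F]

/-! ### matrices of linear actions -/

theorem coef_unique {m : ℕ} {y : Fin m → F} (hy : LinearIndependent k y)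
    {M M' : Matrix (Fin m) (Fin m) k}
    (h : ∀ j, ∑ l, M l j • y l = ∑ l, M' l j • y l) : M = M' := by
  ext p j
  have h0 : ∑ l, (M l j - M' l j) • y l = 0 := by
    simp only [sub_smul, Finset.sum_sub_distrib, h j, sub_self]
  have := Fintype.linearIndependent_iff.mp hy (fun l => M l j - M' l j) h0 p
  exact sub_eq_zero.mp this

theorem exists_matrix_of_span {m : ℕ} (y : Fin m → F) (σ : F ≃ₐ[k] F)
    (h : ∀ j, σ (y j) ∈ Submodule.span k (Set.range y)) :
    ∃ M : Matrix (Fin m) (Fin m) k, ∀ j, σ (y j) = ∑ l, M l j • y l := by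
  have : ∀ j, ∃ c : Fin m → k, ∑ l, c l • y l = σ (y j) := fun j =>
    (Submodule.mem_span_range_iff_exists_fun k).mp (h j)
  choose c hc using this
  exact ⟨Matrix.of fun l j => c j l, fun j => (hc j).symm⟩

theorem matrix_mul_of_action {m : ℕ} {y : Fin m → F} (hy : LinearIndependent k y)
    {σ τ : F ≃ₐ[k] F} {Ms Mt Mst : Matrix (Fin m) (Fin m) k}
    (hs : ∀ j, σ (y j) = ∑ l, Ms l j • y l) (ht : ∀ j, τ (y j) = ∑ l, Mt l j • y l)
    (hst : ∀ j, (σ * τ) (y j) = ∑ l, Mst l j • y l) : Mst = Ms * Mt := by
  apply coef_unique hy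
  intro j
  rw [← hst j, AlgEquiv.mul_apply, ht j, map_sum]
  simp only [map_smul, hs, Finset.smul_sum, smul_smul, Matrix.mul_apply, Finset.sum_smul]
  rw [Finset.sum_comm]
  refine Finset.sum_congr rfl fun p _ => Finset.sum_congr rfl fun l _ => ?_
  rw [mul_comm]

theorem matrix_one_of_action {m : ℕ} {y : Fin m → F} (hy : LinearIndependent k y)
    {M : Matrix (Fin m) (Fin m) k} (h : ∀ j, y j = ∑ l, M l j • y l) : M = 1 := by
  apply coef_unique hy
  intro j
  rw [← h j]
  simp [Matrix.one_apply, ite_smul]

/-! ### stability of the field generated by a stable span -/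

theorem stable_of_gens {ι : Type*} (x : ι → F) (G : Subgroup (F ≃ₐ[k] F))
    (hx : ∀ σ ∈ G, ∀ i, σ (x i) ∈ Submodule.span k (Set.range x)) :
    ∀ σ ∈ G, ∀ a ∈ adjoin k (Set.range x), σ a ∈ adjoin k (Set.range x) := by
  intro σ hσ a ha
  have hle : adjoin k (Set.range x) ≤ (adjoin k (Set.range x)).comap (σ : F →ₐ[k] F) := by
    rw [adjoin_le_iff]
    rintro _ ⟨i, rfl⟩
    show σ (x i) ∈ adjoin k (Set.range x)
    have h1 := hx σ hσ i
    have h2 : Submodule.span k (Set.range x) ≤
        Subalgebra.toSubmodule (adjoin k (Set.range x)).toSubalgebra :=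
      Submodule.span_le.mpr (subset_adjoin k _)
    exact h2 h1
  exact hle ha

/-! ### the ring endomorphisms of `K` induced by `G` -/

section Rho

variable (G : Subgroup (F ≃ₐ[k] F)) (K : IntermediateField k F)
  (hK : ∀ σ ∈ G, ∀ a ∈ K, σ a ∈ K)

/-- the ring endomorphism of `K` induced by `g` -/
def rho (g : G) : ↥K →+* ↥K where
  toFun a := ⟨g.1 a.1, hK g.1 g.2 a.1 a.2⟩
  map_one' := Subtype.ext (map_one _)
  map_mul' a b := Subtype.ext (map_mul _ _ _)
  map_zero' := Subtype.ext (map_zero _)
  map_add' a b := Subtype.ext (map_add _ _ _)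

theorem rho_apply (g : G) (a : K) : ((rho G K hK g a : K) : F) = g.1 (a : F) := rfl

theorem rho_mul (g h : G) : (rho G K hK g).comp (rho G K hK h) = rho G K hK (g * h) := by
  ext a
  rfl

theorem rho_one : rho G K hK 1 = RingHom.id _ := by
  ext a
  rfl

/-- the action of `G` on `K` -/
@[reducible] def actK : MulSemiringAction ↥G ↥K where
  smul g a := rho G K hK g a
  one_smul a := Subtype.ext rfl
  mul_smul g h a := Subtype.ext rfl
  smul_zero g := map_zero (rho G K hK g)
  smul_add g a b := map_add (rho G K hK g) a b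
  smul_one g := map_one (rho G K hK g)
  smul_mul g a b := map_mul (rho G K hK g) a b

end Rho

end Groth.Agent.Helper6.NoName
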