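import Mathlib
import Groth.Agent.Helper6.NoName1

set_option backward.isDefEq.respectTransparency false
set_option backward.isDefEq.respectTransparency.types false
set_option linter.style.haveILetI false
set_option autoImplicit false

open IntermediateField MvPolynomial

namespace Groth.Agent.Helper6.NoName

variable {k F : Type*} [Field k] [Field F] [Algebra k F]

/-! ### Hilbert 90 for a finite group acting on `K` -/

theorem h90 (G : Subgroup (F ≃ₐ[k] F)) [Finite G] (K : IntermediateField k F)
    (hK : ∀ σ ∈ G, ∀ a ∈ K, σ a ∈ K)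
    (hfaith : ∀ σ ∈ G, (∀ a ∈ K, σ a = a) → σ = 1)
    {m : ℕ} (c : G → Matrix (Fin m) (Fin m) k) (hc1 : c 1 = 1)
    (hcm : ∀ g h, c (g * h) = c g * c h) :
    ∃ A : Matrix (Fin m) (Fin m) K, IsUnit A ∧ ∀ g : G, ∀ p j,
      ∑ l, algebraMap k F (c g p l) * g.1 (algebraMap K F (A l j)) = algebraMap K F (A p j) := by
  letI : MulSemiringAction G K := actK G K hK
  haveI : FaithfulSMul G K := ⟨fun {g h} hgh => by
    have h1 : h⁻¹ * g = 1 := by
      apply Subtype.ext
      apply hfaith _ (h⁻¹ * g).2
      intro a ha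
      have h2 : g.1 a = h.1 a := congrArg Subtype.val (hgh ⟨a, ha⟩)
      calc (h⁻¹ * g).1 a = h.1⁻¹ (g.1 a) := rfl
        _ = h.1⁻¹ (h.1 a) := by rw [h2]
        _ = (h.1⁻¹ * h.1) a := rfl
        _ = a := by rw [inv_mul_cancel]; rfl
    exact (inv_mul_eq_one.mp h1).symm⟩
  let e := FixedPoints.toAlgAutMulEquiv G K
  have he : ∀ (g : G) (z : K), e g z = g • z := fun g z => rfl
  let B : (K ≃ₐ[FixedPoints.subfield G K] K) → Matrix (Fin m) (Fin m) K :=
    fun τ => (algebraMap k K).mapMatrix (c (e.symm τ))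
  have hB1 : IsUnit (B 1) := by
    have : B 1 = 1 := by
      show (algebraMap k K).mapMatrix (c (e.symm 1)) = 1
      rw [map_one e.symm, hc1, map_one]
    rw [this]
    exact isUnit_one
  have hfix : ∀ (τ σ : K ≃ₐ[FixedPoints.subfield G K] K), (B τ).map σ = B τ := by
    intro τ σ
    obtain ⟨g, rfl⟩ := e.surjective σ
    refine Matrix.ext fun p j => ?_
    show e g ((algebraMap k K) (c (e.symm τ) p j)) = (algebraMap k K) (c (e.symm τ) p j)
    rw [he]
    apply Subtype.ext
    exact g.1.commutes _
  have hB : ∀ σ τ : K ≃ₐ[FixedPoints.subfield G K] K, B σ * (B τ).map σ = B (σ * τ) := by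
    intro σ τ
    rw [hfix]
    show (algebraMap k K).mapMatrix (c (e.symm σ)) * (algebraMap k K).mapMatrix (c (e.symm τ)) =
      (algebraMap k K).mapMatrix (c (e.symm (σ * τ)))
    rw [← map_mul, ← hcm, ← map_mul]
  obtain ⟨A, hAu, hA⟩ := GLnH90.exists_matrix m B hB1 hB
  refine ⟨A, hAu, fun g p j => ?_⟩
  have h1 := congrFun (congrFun (hA (e g)) p) j
  rw [Matrix.mul_apply] at h1
  have h2 := congrArg (algebraMap K F) h1
  rw [map_sum] at h2
  rw [← h2]
  refine Finset.sum_congr rfl fun l _ => ?_
  rw [map_mul]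
  show _ = algebraMap K F ((algebraMap k K) (c (e.symm (e g)) p l)) *
    algebraMap K F (e g (A l j))
  rw [e.symm_apply_apply, he]
  rfl

/-! ### algebraic independence: passing to the fraction field, linear substitutions -/

attribute [local instance] MvPolynomial.algebraMvPolynomial in
open IntermediateField.algebraAdjoinAdjoin in
theorem algInd_adjoin_field {ι κ : Type*} {x : ι → F} {y : κ → F}
    (h : AlgebraicIndependent ↥(Algebra.adjoin k (Set.range x)) y) :
    AlgebraicIndependent ↥(adjoin k (Set.range x)) y := by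
  rw [algebraicIndependent_iff_injective_aeval] at h ⊢
  rw [injective_iff_map_eq_zero]
  intro p hp
  obtain ⟨⟨a, s⟩, hs⟩ := IsLocalization.surj
    ((nonZeroDivisors ↥(Algebra.adjoin k (Set.range x))).map (C (σ := κ))) p
  have h1 : aeval y (algebraMap (MvPolynomial κ ↥(Algebra.adjoin k (Set.range x)))
      (MvPolynomial κ ↥(adjoin k (Set.range x))) a) = aeval y a := by
    rw [MvPolynomial.algebraMap_def, aeval_map_algebraMap]
  have h2 : aeval y a = 0 := by
    rw [← h1, ← hs, map_mul, hp, zero_mul]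
  have ha : a = 0 := h (h2.trans (map_zero _).symm)
  rw [ha, map_zero] at hs
  obtain ⟨s0, hs0, hs0'⟩ := s.2
  have hsne : algebraMap (MvPolynomial κ ↥(Algebra.adjoin k (Set.range x)))
      (MvPolynomial κ ↥(adjoin k (Set.range x))) (s : MvPolynomial κ _) ≠ 0 := by
    rw [← hs0', MvPolynomial.algebraMap_def]
    show map _ (C s0) ≠ 0
    rw [map_C]
    intro hC
    have h3 := (C_eq_zero).mp hC
    have h4 : s0 = 0 :=
      (FaithfulSMul.algebraMap_injective _ _) (h3.trans (map_zero _).symm)
    exact nonZeroDivisors.ne_zero hs0 h4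
  exact (mul_eq_zero.mp hs).resolve_right hsne

theorem algInd_linear_subst {L : Type*} [Field L] [Algebra L F] {m : ℕ} (y : Fin m → F)
    (hy : AlgebraicIndependent L y) (A : Matrix (Fin m) (Fin m) L) (hA : IsUnit A) :
    AlgebraicIndependent L (fun j => ∑ l, y l * algebraMap L F (A l j)) := by
  classical
  let φ : MvPolynomial (Fin m) L →ₐ[L] MvPolynomial (Fin m) L :=
    aeval (fun j => ∑ l, C (A l j) * X l)
  let ψ : MvPolynomial (Fin m) L →ₐ[L] MvPolynomial (Fin m) L :=
    aeval (fun j => ∑ l, C (A⁻¹ l j) * X l)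
  have hψφ : ψ.comp φ = AlgHom.id L _ := by
    apply MvPolynomial.algHom_ext
    intro j
    simp only [AlgHom.comp_apply, φ, ψ, aeval_X, map_sum, map_mul, AlgHom.id_apply]
    have hC : ∀ a : L, (aeval (fun j => ∑ l, C (A⁻¹ l j) * X l) :
        MvPolynomial (Fin m) L →ₐ[L] MvPolynomial (Fin m) L) (C a) = C a := fun a => by
      rw [aeval_C]; rfl
    simp only [hC, Finset.mul_sum]
    rw [Finset.sum_comm]
    have : ∀ p, ∑ l, C (A l j) * (C (A⁻¹ p l) * X p) =
        C ((A⁻¹ * A) p j) * (X p : MvPolynomial (Fin m) L) := by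
      intro p
      rw [Matrix.mul_apply, map_sum, Finset.sum_mul]
      refine Finset.sum_congr rfl fun l _ => ?_
      rw [map_mul]; ring
    simp only [this]
    rw [Matrix.nonsing_inv_mul A ((Matrix.isUnit_iff_isUnit_det A).mp hA)]
    simp [Matrix.one_apply]
  have hφinj : Function.Injective φ := by
    intro a b hab
    have := congrArg ψ hab
    rwa [← AlgHom.comp_apply, ← AlgHom.comp_apply, hψφ] at this
  have hcomp : (aeval (fun j => ∑ l, y l * algebraMap L F (A l j)) :
      MvPolynomial (Fin m) L →ₐ[L] F) = (aeval y).comp φ := by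
    apply MvPolynomial.algHom_ext
    intro j
    simp only [AlgHom.comp_apply, φ, aeval_X, map_sum, map_mul, aeval_C]
    refine Finset.sum_congr rfl fun l _ => mul_comm _ _
  rw [algebraicIndependent_iff_injective_aeval, hcomp, AlgHom.coe_comp]
  exact (algebraicIndependent_iff_injective_aeval.mp hy).comp hφinj

end Groth.Agent.Helper6.NoName
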