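import Mathlib
import Groth.Agent.Helper6.NoName2

set_option backward.isDefEq.respectTransparency false
set_option backward.isDefEq.respectTransparency.types false
set_option linter.style.haveILetI false
set_option autoImplicit false

open IntermediateField MvPolynomial

namespace Groth.Agent.Helper6.NoName

variable {k F : Type*} [Field k] [Field F] [Algebra k F]

/-- shortcut instance (the default search wanders off through `IntermediateField.toAlgebra`) -/
noncomputable local instance (priority := 10000) algKPoly (K : IntermediateField k F)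
    (σ : Type*) : Algebra ↥K (MvPolynomial σ ↥K) :=
  @AddMonoidAlgebra.algebra _ _ _ _ _ (Algebra.id _) _

section Inv

variable (G : Subgroup (F ≃ₐ[k] F)) (K : IntermediateField k F)
  (hK : ∀ σ ∈ G, ∀ a ∈ K, σ a ∈ K) {m : ℕ} (t : Fin m → F)
  (ht : ∀ g ∈ G, ∀ j, g (t j) = t j)

include ht in
theorem aeval_map_rho (g : G) (P : MvPolynomial (Fin m) K) :
    aeval t (map (rho G K hK g) P) = g.1 (aeval t P) := by
  have h : ((aeval t : MvPolynomial (Fin m) K →ₐ[K] F) : MvPolynomial (Fin m) K →+* F).comp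
      (map (rho G K hK g)) =
      ((g.1 : F ≃ₐ[k] F) : F →+* F).comp
        ((aeval t : MvPolynomial (Fin m) K →ₐ[K] F) : MvPolynomial (Fin m) K →+* F) := by
    apply MvPolynomial.ringHom_ext
    · intro a
      simp only [RingHom.comp_apply, RingHom.coe_coe, map_C, aeval_C]
      rfl
    · intro j
      simp only [RingHom.comp_apply, RingHom.coe_coe, map_X, aeval_X]
      exact (ht g.1 g.2 j).symm
  exact RingHom.congr_fun h P

theorem map_rho_prod [Fintype G] (h : G) (Q : MvPolynomial (Fin m) K) :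
    map (rho G K hK h) (∏ g : G, map (rho G K hK g) Q) = ∏ g : G, map (rho G K hK g) Q := by
  rw [map_prod]
  simp only [MvPolynomial.map_map, rho_mul]
  exact Fintype.prod_equiv (Equiv.mulLeft h) _ _ (fun g => rfl)

theorem aeval_mem_of_inv (S : MvPolynomial (Fin m) K)
    (hS : ∀ g : G, map (rho G K hK g) S = S) :
    aeval t S ∈ adjoin ↥(K ⊓ fixedField G) (Set.range t) := by
  rw [aeval_def, eval₂_eq']
  refine sum_mem fun d _ => mul_mem ?_
    (prod_mem fun j _ => pow_mem (subset_adjoin _ _ (Set.mem_range_self j)) _)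
  have hmem : ((coeff d S : K) : F) ∈ K ⊓ fixedField G := by
    refine IntermediateField.mem_inf.mpr ⟨(coeff d S).2, ?_⟩
    rw [mem_fixedField_iff]
    intro g hg
    have h1 := congrArg (coeff d) (hS ⟨g, hg⟩)
    rw [coeff_map] at h1
    exact congrArg Subtype.val h1
  exact (adjoin ↥(K ⊓ fixedField G) (Set.range t)).algebraMap_mem
    (⟨_, hmem⟩ : ↥(K ⊓ fixedField G))

include hK ht in
theorem fixed_le [Finite G] (hgen : adjoin ↥K (Set.range t) = ⊤)
    (hind : AlgebraicIndependent ↥K t)
    (f : F) (hf : ∀ g ∈ G, g f = f) :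
    f ∈ adjoin ↥(K ⊓ fixedField G) (Set.range t) := by
  classical
  letI := Fintype.ofFinite G
  have hf' : f ∈ adjoin ↥K (Set.range t) := hgen ▸ mem_top
  obtain ⟨P, Q, hPQ⟩ := (mem_adjoin_range_iff ↥K t f).mp hf'
  by_cases hQ : aeval t Q = 0
  · rw [hPQ, hQ, div_zero]
    exact zero_mem _
  obtain ⟨N, hN⟩ : ∃ N, N = ∏ g : G, map (rho G K hK g) Q := ⟨_, rfl⟩
  obtain ⟨R, hR⟩ : ∃ R, R = P * ∏ g ∈ Finset.univ.erase (1 : G), map (rho G K hK g) Q :=
    ⟨_, rfl⟩
  have hNinv : ∀ h : G, map (rho G K hK h) N = N := fun h => by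
    rw [hN]
    exact map_rho_prod G K hK h Q
  have hNsplit : N = Q * ∏ g ∈ Finset.univ.erase (1 : G), map (rho G K hK g) Q := by
    rw [hN, ← Finset.mul_prod_erase Finset.univ _ (Finset.mem_univ (1 : G)), rho_one,
      MvPolynomial.map_id]
  have hNt : aeval t N = ∏ g : G, g.1 (aeval t Q) := by
    rw [hN, map_prod]
    simp only [aeval_map_rho G K hK t ht]
  have hNt0 : aeval t N ≠ 0 := by
    rw [hNt]
    exact Finset.prod_ne_zero_iff.mpr fun g _ => (map_ne_zero_iff _ g.1.injective).mpr hQ
  have hfN : f * aeval t N = aeval t R := by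
    have hQ' := hQ
    rw [hNsplit, hR, map_mul, map_mul, hPQ]
    field_simp
  have hRinv : ∀ h : G, map (rho G K hK h) R = R := by
    intro h
    apply (algebraicIndependent_iff_injective_aeval.mp hind)
    rw [aeval_map_rho G K hK t ht, ← hfN, map_mul, hf h.1 h.2,
      ← aeval_map_rho G K hK t ht h N, hNinv h]
  have h1 := aeval_mem_of_inv G K hK t R hRinv
  have h2 := aeval_mem_of_inv G K hK t N hNinv
  have h3 : f = aeval t R / aeval t N := by
    rw [← hfN]
    field_simp
  rw [h3]
  exact div_mem h1 h2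

end Inv

/-! ### the main theorem -/

theorem main {n m : ℕ} (x : Fin n → F) (y : Fin m → F)
    (hind : AlgebraicIndependent k (Sum.elim y x))
    (hgen : adjoin k (Set.range x ∪ Set.range y) = ⊤)
    (G : Subgroup (F ≃ₐ[k] F)) [Finite G]
    (hx : ∀ σ ∈ G, ∀ i, σ (x i) ∈ Submodule.span k (Set.range x))
    (hy : ∀ σ ∈ G, ∀ j, σ (y j) ∈ Submodule.span k (Set.range y))
    (hfaith : ∀ σ ∈ G, (∀ i, σ (x i) = x i) → σ = 1) :
    ∃ t : Fin m → F,
      AlgebraicIndependent ↥(adjoin k (Set.range x) ⊓ fixedField G) t ∧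
      restrictScalars k (adjoin ↥(adjoin k (Set.range x) ⊓ fixedField G) (Set.range t)) =
        fixedField G := by
  classical
  obtain ⟨K, hKdef⟩ : ∃ K : IntermediateField k F, K = adjoin k (Set.range x) := ⟨_, rfl⟩
  have hK : ∀ σ ∈ G, ∀ a ∈ K, σ a ∈ K := by
    rw [hKdef]
    exact stable_of_gens x G hx
  have hxK : ∀ i, x i ∈ K := fun i => by
    rw [hKdef]
    exact subset_adjoin k _ ⟨i, rfl⟩
  have hfaith' : ∀ σ ∈ G, (∀ a ∈ K, σ a = a) → σ = 1 := fun σ hσ h =>
    hfaith σ hσ (fun i => h _ (hxK i))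
  have hyai : AlgebraicIndependent k y := by
    have := hind.comp Sum.inl Sum.inl_injective
    simpa using this
  have hyli : LinearIndependent k y := hyai.linearIndependent
  have hex : ∀ g : G, ∃ M : Matrix (Fin m) (Fin m) k, ∀ j, g.1 (y j) = ∑ l, M l j • y l :=
    fun g => exists_matrix_of_span y g.1 (hy g.1 g.2)
  choose c hc using hex
  have hc1 : c 1 = 1 := matrix_one_of_action hyli (fun j => hc 1 j)
  have hcm : ∀ g h, c (g * h) = c g * c h := fun g h =>
    matrix_mul_of_action hyli (hc g) (hc h) (hc (g * h))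
  obtain ⟨A, hAu, hA⟩ := h90 G K hK hfaith' c hc1 hcm
  have hdet : IsUnit A.det := (Matrix.isUnit_iff_isUnit_det A).mp hAu
  obtain ⟨t, htdef⟩ : ∃ t : Fin m → F, t = fun j => ∑ l, y l * algebraMap K F (A l j) :=
    ⟨_, rfl⟩
  have ht : ∀ g ∈ G, ∀ j, g (t j) = t j := by
    intro g hg j
    rw [htdef]
    simp only [map_sum, map_mul]
    have e1 : ∀ l, g (y l) = ∑ p, c ⟨g, hg⟩ p l • y p := hc ⟨g, hg⟩
    simp only [e1]
    calc ∑ l, (∑ p, c ⟨g, hg⟩ p l • y p) * g (algebraMap K F (A l j))
        = ∑ p, y p * ∑ l, algebraMap k F (c ⟨g, hg⟩ p l) * g (algebraMap K F (A l j)) := by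
          simp only [Finset.sum_mul, Finset.mul_sum, Algebra.smul_def]
          rw [Finset.sum_comm]
          refine Finset.sum_congr rfl fun p _ => Finset.sum_congr rfl fun l _ => ?_
          ring
      _ = ∑ p, y p * algebraMap K F (A p j) := by
          refine Finset.sum_congr rfl fun p _ => ?_
          rw [hA ⟨g, hg⟩ p j]
  have hyK : AlgebraicIndependent ↥K y := by
    rw [hKdef]
    exact algInd_adjoin_field (AlgebraicIndependent.sumElim_iff.mp hind).2
  have htK : AlgebraicIndependent ↥K t := by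
    rw [htdef]
    exact algInd_linear_subst y hyK A hAu
  have hyt : ∀ l, y l = ∑ j, t j * algebraMap K F (A⁻¹ j l) := by
    intro l
    rw [htdef]
    simp only [Finset.sum_mul]
    rw [Finset.sum_comm]
    have e2 : ∀ p, ∑ j, y p * algebraMap K F (A p j) * algebraMap K F (A⁻¹ j l) =
        y p * algebraMap K F ((A * A⁻¹) p l) := by
      intro p
      rw [Matrix.mul_apply, map_sum, Finset.mul_sum]
      refine Finset.sum_congr rfl fun j _ => ?_
      rw [map_mul]; ring
    simp only [e2]
    rw [Matrix.mul_nonsing_inv A hdet]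
    simp [Matrix.one_apply]
  have hgenK : adjoin ↥K (Set.range t) = ⊤ := by
    have h1 : (adjoin ↥K (Set.range t)).restrictScalars k = ⊤ := by
      rw [eq_top_iff, ← hgen, adjoin_le_iff]
      rintro a (⟨i, rfl⟩ | ⟨l, rfl⟩)
      · exact (adjoin ↥K (Set.range t)).algebraMap_mem (⟨x i, hxK i⟩ : ↥K)
      · show y l ∈ adjoin ↥K (Set.range t)
        rw [hyt l]
        exact sum_mem fun j _ => mul_mem (subset_adjoin _ _ ⟨j, rfl⟩)
          ((adjoin ↥K (Set.range t)).algebraMap_mem _)
    rw [eq_top_iff]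
    intro f _
    have h2 : f ∈ (adjoin ↥K (Set.range t)).restrictScalars k := h1 ▸ mem_top
    exact h2
  refine ⟨t, ?_, ?_⟩
  · rw [← hKdef]
    letI : Algebra ↥(K ⊓ fixedField G) ↥K :=
      (IntermediateField.inclusion (inf_le_left : K ⊓ fixedField G ≤ K)).toRingHom.toAlgebra
    haveI : IsScalarTower ↥(K ⊓ fixedField G) ↥K F := IsScalarTower.of_algebraMap_eq (fun _ => rfl)
    exact htK.restrictScalars (RingHom.injective _)
  · rw [← hKdef]
    apply le_antisymm
    · have key : ∀ f ∈ adjoin ↥(K ⊓ fixedField G) (Set.range t), ∀ g ∈ G, g f = f := by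
        intro f hf g hg
        induction hf using IntermediateField.adjoin_induction with
        | mem a ha =>
          obtain ⟨j, rfl⟩ := ha
          exact ht g hg j
        | algebraMap a =>
          exact (mem_fixedField_iff _ _).mp (IntermediateField.mem_inf.mp a.2).2 g hg
        | add a b _ _ iha ihb => rw [map_add, iha, ihb]
        | inv a _ iha => rw [map_inv₀, iha]
        | mul a b _ _ iha ihb => rw [map_mul, iha, ihb]
      intro f hf
      rw [mem_fixedField_iff]
      exact key f hf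
    · intro f hf
      have hf' : ∀ g ∈ G, g f = f := (mem_fixedField_iff _ _).mp hf
      exact fixed_le G K hK t ht hgenK htK f hf'

end Groth.Agent.Helper6.NoName
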