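import Mathlib
import Groth.Agent.Helper6.NoName3
import Groth.Agent.Helper6.InvFldBasic

set_option linter.style.haveILetI false
set_option autoImplicit false

open IntermediateField MvPolynomial

namespace Groth.Agent.Helper6.NoName

/-- the intermediate field obtained by restricting scalars has the same underlying field -/
noncomputable def restrictScalarsEquiv {k K0 F : Type*} [Field k] [Field K0] [Field F]
    [Algebra k K0] [Algebra k F] [Algebra K0 F] [IsScalarTower k K0 F]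
    (E : IntermediateField K0 F) : ↥E ≃ₐ[k] ↥(E.restrictScalars k) :=
  AlgEquiv.ofBijective
    { toFun := fun z => ⟨z.1, z.2⟩
      map_one' := rfl
      map_mul' := fun _ _ => rfl
      map_zero' := rfl
      map_add' := fun _ _ => rfl
      commutes' := fun _ => rfl }
    ⟨fun a b h => Subtype.ext (congrArg Subtype.val h), fun w => ⟨⟨w.1, w.2⟩, rfl⟩⟩

theorem half {k F L : Type*} [Field k] [Field F] [Algebra k F] [Field L] [Algebra k L]
    {n m : ℕ} (x : Fin n → F) (y : Fin m → F)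
    (hind : AlgebraicIndependent k (Sum.elim y x))
    (hgen : adjoin k (Set.range x ∪ Set.range y) = ⊤)
    (Γ : Subgroup (F ≃ₐ[k] F)) [Finite Γ]
    (hx : ∀ σ ∈ Γ, ∀ i, σ (x i) ∈ Submodule.span k (Set.range x))
    (hy : ∀ σ ∈ Γ, ∀ j, σ (y j) ∈ Submodule.span k (Set.range y))
    (hfaith : ∀ σ ∈ Γ, (∀ i, σ (x i) = x i) → σ = 1)
    (ι : L →ₐ[k] F) (hι : ι.fieldRange = adjoin k (Set.range x))
    (G : Subgroup (L ≃ₐ[k] L))
    (hC1 : ∀ γ ∈ Γ, ∃ g ∈ G, ∀ z, γ (ι z) = ι (g z))
    (hC2 : ∀ g ∈ G, ∃ γ ∈ Γ, ∀ z, γ (ι z) = ι (g z)) :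
    Nonempty (InvFld.Fld (Fin m) ↥(fixedField G) ≃ₐ[k] ↥(fixedField Γ)) := by
  obtain ⟨t, htind, hteq⟩ := main x y hind hgen Γ hx hy hfaith
  obtain ⟨K0, hK0⟩ : ∃ K0 : IntermediateField k F,
    K0 = adjoin k (Set.range x) ⊓ fixedField Γ := ⟨_, rfl⟩
  rw [← hK0] at htind hteq
  have hιinj : Function.Injective ι := (ι : L →+* F).injective
  have hmem : ∀ z : ↥(fixedField G), ι z.1 ∈ K0 := by
    intro z
    rw [hK0]
    refine IntermediateField.mem_inf.mpr ⟨?_, ?_⟩
    · rw [← hι]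
      exact ⟨z.1, rfl⟩
    · rw [mem_fixedField_iff]
      intro γ hγ
      obtain ⟨g, hg, hgz⟩ := hC1 γ hγ
      rw [hgz, (mem_fixedField_iff _ _).mp z.2 g hg]
  let f1 : ↥(fixedField G) →ₐ[k] ↥K0 :=
    { toFun := fun z => ⟨ι z.1, hmem z⟩
      map_one' := Subtype.ext (map_one ι)
      map_mul' := fun a b => Subtype.ext (map_mul ι _ _)
      map_zero' := Subtype.ext (map_zero ι)
      map_add' := fun a b => Subtype.ext (map_add ι _ _)
      commutes' := fun c => Subtype.ext (ι.commutes c) }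
  have hf1 : Function.Bijective f1 := by
    constructor
    · intro a b hab
      apply Subtype.ext
      apply hιinj
      exact congrArg Subtype.val hab
    · intro w
      have hw : w.1 ∈ adjoin k (Set.range x) ⊓ fixedField Γ := hK0 ▸ w.2
      obtain ⟨hw1, hw2⟩ := IntermediateField.mem_inf.mp hw
      rw [← hι] at hw1
      obtain ⟨z, hz0⟩ := hw1
      have hz : ι z = w.1 := hz0
      have hzG : z ∈ fixedField G := by
        rw [mem_fixedField_iff]
        intro g hg
        obtain ⟨γ, hγ, hγz⟩ := hC2 g hg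
        apply hιinj
        rw [← hγz, hz]
        exact (mem_fixedField_iff _ _).mp hw2 γ hγ
      exact ⟨⟨z, hzG⟩, Subtype.ext hz⟩
  let θ : ↥(fixedField G) ≃ₐ[k] ↥K0 := AlgEquiv.ofBijective f1 hf1
  let E1 : InvFld.Fld (Fin m) ↥(fixedField G) ≃ₐ[k] InvFld.Fld (Fin m) ↥K0 :=
    IsFractionRing.algEquivOfAlgEquiv (MvPolynomial.mapAlgEquiv (Fin m) θ)
  let E2 : InvFld.Fld (Fin m) ↥K0 ≃ₐ[k] ↥(adjoin ↥K0 (Set.range t)) :=
    (htind.aevalEquivField).restrictScalars k
  let E3 := restrictScalarsEquiv (k := k) (adjoin ↥K0 (Set.range t))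
  let E4 := IntermediateField.equivOfEq hteq
  exact ⟨E1.trans (E2.trans (E3.trans E4))⟩

end Groth.Agent.Helper6.NoName
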