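import Mathlib
import Groth.Agent.Helper6.NoName4

set_option linter.style.haveILetI false
set_option autoImplicit false

open IntermediateField MvPolynomial

namespace Groth.Agent.Helper6.InvFldLin

open InvFldBasic

section Rename

variable {α β : Type*} (k : Type*) [Field k]

/-- the embedding of rational function fields induced by an injective map of variables -/
noncomputable def renameFld (f : α → β) (hf : Function.Injective f) :
    InvFld.Fld α k →ₐ[k] InvFld.Fld β k :=
  IsFractionRing.liftAlgHom (A := MvPolynomial α k) (K := InvFld.Fld α k)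
    (g := (IsScalarTower.toAlgHom k (MvPolynomial β k) (InvFld.Fld β k)).comp
      (MvPolynomial.rename f))
    ((IsFractionRing.injective (MvPolynomial β k) (InvFld.Fld β k)).comp
      (MvPolynomial.rename_injective f hf))

theorem renameFld_algebraMap (f : α → β) (hf : Function.Injective f) (p : MvPolynomial α k) :
    renameFld k f hf (algebraMap (MvPolynomial α k) (InvFld.Fld α k) p) =
      algebraMap (MvPolynomial β k) (InvFld.Fld β k) (MvPolynomial.rename f p) := by
  rw [renameFld, IsFractionRing.liftAlgHom_apply, IsFractionRing.lift_algebraMap]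
  rfl

theorem renameFld_X (f : α → β) (hf : Function.Injective f) (i : α) :
    renameFld k f hf (InvFld.X i) = InvFld.X (f i) := by
  rw [InvFld.X, renameFld_algebraMap, MvPolynomial.rename_X]

theorem renameFld_fieldRange (f : α → β) (hf : Function.Injective f) :
    (renameFld k f hf).fieldRange =
      adjoin k (Set.range fun i : α => (InvFld.X (f i) : InvFld.Fld β k)) := by
  rw [AlgHom.fieldRange_eq_map, ← adjoin_X_eq_top α k, adjoin_map]
  congr 1
  ext z
  constructor
  · rintro ⟨_, ⟨i, rfl⟩, rfl⟩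
    exact ⟨i, (renameFld_X k f hf i).symm⟩
  · rintro ⟨i, rfl⟩
    exact ⟨_, ⟨i, rfl⟩, renameFld_X k f hf i⟩

end Rename

section Lin

variable (k : Type*) [Field k] {n m : ℕ}

/-- block-linear substitution on the polynomial ring -/
noncomputable def Phi (a : Matrix (Fin n) (Fin n) k) (b : Matrix (Fin m) (Fin m) k) :
    MvPolynomial (Fin n ⊕ Fin m) k →ₐ[k] MvPolynomial (Fin n ⊕ Fin m) k :=
  MvPolynomial.aeval (Sum.elim (fun i => ∑ j, C (a j i) * X (Sum.inl j))
    (fun i => ∑ j, C (b j i) * X (Sum.inr j)))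

variable (a a' : Matrix (Fin n) (Fin n) k) (b b' : Matrix (Fin m) (Fin m) k)

theorem Phi_X_inl (i : Fin n) :
    Phi k a b (X (Sum.inl i)) = ∑ j, C (a j i) * X (Sum.inl j) := by
  simp [Phi]

theorem Phi_X_inr (i : Fin m) :
    Phi k a b (X (Sum.inr i)) = ∑ j, C (b j i) * X (Sum.inr j) := by
  simp [Phi]

theorem Phi_C (c : k) : Phi k a b (C c) = C c := by
  rw [Phi, aeval_C]
  rfl

theorem Phi_comp : (Phi k a b).comp (Phi k a' b') = Phi k (a * a') (b * b') := by
  apply MvPolynomial.algHom_ext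
  rintro (i | i)
  · simp only [AlgHom.comp_apply, Phi_X_inl, map_sum, map_mul, Phi_C, Finset.mul_sum,
      Matrix.mul_apply, Finset.sum_mul]
    rw [Finset.sum_comm]
    refine Finset.sum_congr rfl fun l _ => Finset.sum_congr rfl fun j _ => ?_
    ring
  · simp only [AlgHom.comp_apply, Phi_X_inr, map_sum, map_mul, Phi_C, Finset.mul_sum,
      Matrix.mul_apply, Finset.sum_mul]
    rw [Finset.sum_comm]
    refine Finset.sum_congr rfl fun l _ => Finset.sum_congr rfl fun j _ => ?_
    ring

theorem Phi_one : Phi k (1 : Matrix (Fin n) (Fin n) k) (1 : Matrix (Fin m) (Fin m) k) =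
    AlgHom.id k _ := by
  apply MvPolynomial.algHom_ext
  rintro (i | i)
  · rw [Phi_X_inl, AlgHom.id_apply]
    simp [Matrix.one_apply, apply_ite (C (R := k) (σ := Fin n ⊕ Fin m)), ite_mul]
  · rw [Phi_X_inr, AlgHom.id_apply]
    simp [Matrix.one_apply, apply_ite (C (R := k) (σ := Fin n ⊕ Fin m)), ite_mul]

/-- the automorphism of the polynomial ring attached to invertible block matrices -/
noncomputable def PhiEquiv (h1 : a * a' = 1) (h2 : a' * a = 1) (h3 : b * b' = 1)
    (h4 : b' * b = 1) :
    MvPolynomial (Fin n ⊕ Fin m) k ≃ₐ[k] MvPolynomial (Fin n ⊕ Fin m) k :=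
  AlgEquiv.ofAlgHom (Phi k a b) (Phi k a' b') (by rw [Phi_comp, h1, h3, Phi_one])
    (by rw [Phi_comp, h2, h4, Phi_one])

/-- the automorphism of the rational function field attached to invertible block matrices -/
noncomputable def gam (h1 : a * a' = 1) (h2 : a' * a = 1) (h3 : b * b' = 1)
    (h4 : b' * b = 1) :
    InvFld.Fld (Fin n ⊕ Fin m) k ≃ₐ[k] InvFld.Fld (Fin n ⊕ Fin m) k :=
  IsFractionRing.algEquivOfAlgEquiv (PhiEquiv k a a' b b' h1 h2 h3 h4)

theorem gam_X_inl (h1 : a * a' = 1) (h2 : a' * a = 1) (h3 : b * b' = 1)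
    (h4 : b' * b = 1) (i : Fin n) :
    gam k a a' b b' h1 h2 h3 h4 (InvFld.X (Sum.inl i)) =
      ∑ j, a j i • (InvFld.X (Sum.inl j) : InvFld.Fld (Fin n ⊕ Fin m) k) := by
  rw [InvFld.X, gam, IsFractionRing.algEquivOfAlgEquiv_algebraMap]
  show algebraMap _ _ (Phi k a b (X (Sum.inl i))) = _
  rw [Phi_X_inl, map_sum]
  refine Finset.sum_congr rfl fun j _ => ?_
  rw [map_mul, Algebra.smul_def]
  congr 1

theorem gam_X_inr (h1 : a * a' = 1) (h2 : a' * a = 1) (h3 : b * b' = 1)
    (h4 : b' * b = 1) (i : Fin m) :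
    gam k a a' b b' h1 h2 h3 h4 (InvFld.X (Sum.inr i)) =
      ∑ j, b j i • (InvFld.X (Sum.inr j) : InvFld.Fld (Fin n ⊕ Fin m) k) := by
  rw [InvFld.X, gam, IsFractionRing.algEquivOfAlgEquiv_algebraMap]
  show algebraMap _ _ (Phi k a b (X (Sum.inr i))) = _
  rw [Phi_X_inr, map_sum]
  refine Finset.sum_congr rfl fun j _ => ?_
  rw [map_mul, Algebra.smul_def]
  congr 1

end Lin

end Groth.Agent.Helper6.InvFldLin
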