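import Mathlib
import Groth.Agent.Helper6.InvFldLin

set_option linter.style.haveILetI false
set_option autoImplicit false

open IntermediateField MvPolynomial

namespace Groth.Agent.Helper6.InvFldCore

open InvFldBasic InvFldLin

universe u

variable (k : Type u) [Field k]

theorem linInd_X (n : ℕ) :
    LinearIndependent k (fun i : Fin n => (InvFld.X i : InvFld.Fld (Fin n) k)) :=
  (algInd_X (Fin n) k).linearIndependent

/-- matrices of mutually inverse linear automorphisms are mutually inverse -/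
theorem matrix_inv (n : ℕ) (g : InvFld.Fld (Fin n) k ≃ₐ[k] InvFld.Fld (Fin n) k)
    {a a' : Matrix (Fin n) (Fin n) k}
    (ha : ∀ j, g (InvFld.X j) = ∑ l, a l j • (InvFld.X l : InvFld.Fld (Fin n) k))
    (ha' : ∀ j, g⁻¹ (InvFld.X j) = ∑ l, a' l j • (InvFld.X l : InvFld.Fld (Fin n) k)) :
    a * a' = 1 ∧ a' * a = 1 := by
  have h1 : ∀ j, (g * g⁻¹) (InvFld.X j) =
      ∑ l, (1 : Matrix (Fin n) (Fin n) k) l j • (InvFld.X l : InvFld.Fld (Fin n) k) := by
    intro j
    rw [mul_inv_cancel]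
    simp [Matrix.one_apply, ite_smul]
  have h2 : ∀ j, (g⁻¹ * g) (InvFld.X j) =
      ∑ l, (1 : Matrix (Fin n) (Fin n) k) l j • (InvFld.X l : InvFld.Fld (Fin n) k) := by
    intro j
    rw [inv_mul_cancel]
    simp [Matrix.one_apply, ite_smul]
  exact ⟨(NoName.matrix_mul_of_action (linInd_X k n) ha ha' h1).symm,
    (NoName.matrix_mul_of_action (linInd_X k n) ha' ha h2).symm⟩

theorem exists_gamma (n m : ℕ) (g : InvFld.Fld (Fin n) k ≃ₐ[k] InvFld.Fld (Fin n) k)
    (h : InvFld.Fld (Fin m) k ≃ₐ[k] InvFld.Fld (Fin m) k)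
    (hg : ∀ i, g (InvFld.X i) ∈ Submodule.span k
      (Set.range fun j : Fin n => (InvFld.X j : InvFld.Fld (Fin n) k)))
    (hg' : ∀ i, g⁻¹ (InvFld.X i) ∈ Submodule.span k
      (Set.range fun j : Fin n => (InvFld.X j : InvFld.Fld (Fin n) k)))
    (hh : ∀ i, h (InvFld.X i) ∈ Submodule.span k
      (Set.range fun j : Fin m => (InvFld.X j : InvFld.Fld (Fin m) k)))
    (hh' : ∀ i, h⁻¹ (InvFld.X i) ∈ Submodule.span k
      (Set.range fun j : Fin m => (InvFld.X j : InvFld.Fld (Fin m) k))) :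
    ∃ γ : InvFld.Fld (Fin n ⊕ Fin m) k ≃ₐ[k] InvFld.Fld (Fin n ⊕ Fin m) k,
      (∀ z, γ (renameFld k Sum.inl Sum.inl_injective z) =
        renameFld k Sum.inl Sum.inl_injective (g z)) ∧
      (∀ w, γ (renameFld k Sum.inr Sum.inr_injective w) =
        renameFld k Sum.inr Sum.inr_injective (h w)) := by
  obtain ⟨a, ha⟩ := NoName.exists_matrix_of_span
    (fun j : Fin n => (InvFld.X j : InvFld.Fld (Fin n) k)) g hg
  obtain ⟨a', ha'⟩ := NoName.exists_matrix_of_span
    (fun j : Fin n => (InvFld.X j : InvFld.Fld (Fin n) k)) g⁻¹ hg'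
  obtain ⟨b, hb⟩ := NoName.exists_matrix_of_span
    (fun j : Fin m => (InvFld.X j : InvFld.Fld (Fin m) k)) h hh
  obtain ⟨b', hb'⟩ := NoName.exists_matrix_of_span
    (fun j : Fin m => (InvFld.X j : InvFld.Fld (Fin m) k)) h⁻¹ hh'
  obtain ⟨h1, h2⟩ := matrix_inv k n g ha ha'
  obtain ⟨h3, h4⟩ := matrix_inv k m h hb hb'
  refine ⟨gam k a a' b b' h1 h2 h3 h4, ?_, ?_⟩
  · have e1 : (gam k a a' b b' h1 h2 h3 h4).toAlgHom.comp
        (renameFld k Sum.inl Sum.inl_injective) =
        (renameFld k Sum.inl Sum.inl_injective).comp g.toAlgHom := by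
      apply InvFldBasic.algHom_ext
      intro i
      show gam k a a' b b' h1 h2 h3 h4 (renameFld k Sum.inl Sum.inl_injective (InvFld.X i)) =
        renameFld k Sum.inl Sum.inl_injective (g (InvFld.X i))
      rw [renameFld_X, gam_X_inl, ha, map_sum]
      simp only [map_smul, renameFld_X]
    intro z
    exact AlgHom.congr_fun e1 z
  · have e1 : (gam k a a' b b' h1 h2 h3 h4).toAlgHom.comp
        (renameFld k Sum.inr Sum.inr_injective) =
        (renameFld k Sum.inr Sum.inr_injective).comp h.toAlgHom := by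
      apply InvFldBasic.algHom_ext
      intro i
      show gam k a a' b b' h1 h2 h3 h4 (renameFld k Sum.inr Sum.inr_injective (InvFld.X i)) =
        renameFld k Sum.inr Sum.inr_injective (h (InvFld.X i))
      rw [renameFld_X, gam_X_inr, hb, map_sum]
      simp only [map_smul, renameFld_X]
    intro w
    exact AlgHom.congr_fun e1 w

end Groth.Agent.Helper6.InvFldCore
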