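import Mathlib
import Groth.Agent.Helper6.InvFldCore

set_option linter.style.haveILetI false
set_option autoImplicit false

open IntermediateField MvPolynomial

namespace Groth.Agent.Helper6.InvFldCore

open InvFldBasic InvFldLin

universe u

variable (k : Type u) [Field k] (n m : ℕ)

/-- the embedding `k(x) → k(x,y)` -/
noncomputable abbrev i1 : InvFld.Fld (Fin n) k →ₐ[k] InvFld.Fld (Fin n ⊕ Fin m) k :=
  renameFld k Sum.inl Sum.inl_injective

/-- the embedding `k(y) → k(x,y)` -/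
noncomputable abbrev i2 : InvFld.Fld (Fin m) k →ₐ[k] InvFld.Fld (Fin n ⊕ Fin m) k :=
  renameFld k Sum.inr Sum.inr_injective

theorem i1_X (i : Fin n) : i1 k n m (InvFld.X i) = InvFld.X (Sum.inl i) :=
  renameFld_X k Sum.inl Sum.inl_injective i

theorem i2_X (j : Fin m) : i2 k n m (InvFld.X j) = InvFld.X (Sum.inr j) :=
  renameFld_X k Sum.inr Sum.inr_injective j

variable {k n m}

/-- the group of automorphisms of `k(x,y)` acting as `g` on `x` and as `e g` on `y` -/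
def Gam (G : Subgroup (InvFld.Fld (Fin n) k ≃ₐ[k] InvFld.Fld (Fin n) k))
    (H : Subgroup (InvFld.Fld (Fin m) k ≃ₐ[k] InvFld.Fld (Fin m) k)) (e : G ≃* H) :
    Subgroup (InvFld.Fld (Fin n ⊕ Fin m) k ≃ₐ[k] InvFld.Fld (Fin n ⊕ Fin m) k) where
  carrier := {γ | ∃ g : G, (∀ z, γ (i1 k n m z) = i1 k n m (g.1 z)) ∧
    (∀ w, γ (i2 k n m w) = i2 k n m ((e g).1 w))}
  mul_mem' := by
    rintro γ γ' ⟨g, hg1, hg2⟩ ⟨g', hg1', hg2'⟩
    refine ⟨g * g', fun z => ?_, fun w => ?_⟩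
    · show γ (γ' (i1 k n m z)) = i1 k n m (g.1 (g'.1 z))
      rw [hg1', hg1]
    · show γ (γ' (i2 k n m w)) = i2 k n m ((e (g * g')).1 w)
      rw [hg2', hg2, map_mul]
      rfl
  one_mem' := ⟨1, fun z => rfl, fun w => by rw [map_one]; rfl⟩
  inv_mem' := by
    rintro γ ⟨g, hg1, hg2⟩
    refine ⟨g⁻¹, fun z => ?_, fun w => ?_⟩
    · have h1 := hg1 (g.1.symm z)
      rw [g.1.apply_symm_apply] at h1
      show γ.symm (i1 k n m z) = i1 k n m (g.1.symm z)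
      rw [← h1, γ.symm_apply_apply]
    · have h1 := hg2 ((e g).1.symm w)
      rw [(e g).1.apply_symm_apply] at h1
      show γ.symm (i2 k n m w) = i2 k n m ((e g⁻¹).1 w)
      rw [map_inv]
      show γ.symm (i2 k n m w) = i2 k n m ((e g).1.symm w)
      rw [← h1, γ.symm_apply_apply]

theorem core (G : Subgroup (InvFld.Fld (Fin n) k ≃ₐ[k] InvFld.Fld (Fin n) k)) [Finite G]
    (H : Subgroup (InvFld.Fld (Fin m) k ≃ₐ[k] InvFld.Fld (Fin m) k)) [Finite H] (e : G ≃* H)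
    (hG : ∀ σ ∈ G, ∀ i : Fin n, σ (InvFld.X i) ∈ Submodule.span k
      (Set.range fun j : Fin n => (InvFld.X j : InvFld.Fld (Fin n) k)))
    (hH : ∀ τ ∈ H, ∀ i : Fin m, τ (InvFld.X i) ∈ Submodule.span k
      (Set.range fun j : Fin m => (InvFld.X j : InvFld.Fld (Fin m) k))) :
    Nonempty (InvFld.Fld (Fin m) ↥(fixedField G) ≃ₐ[k] InvFld.Fld (Fin n) ↥(fixedField H)) := by
  classical
  have hdet : ∀ γ γ' : InvFld.Fld (Fin n ⊕ Fin m) k ≃ₐ[k] InvFld.Fld (Fin n ⊕ Fin m) k,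
      (∀ z, γ (i1 k n m z) = γ' (i1 k n m z)) → (∀ w, γ (i2 k n m w) = γ' (i2 k n m w)) →
      γ = γ' := by
    intro γ γ' h1 h2
    have h3 : γ.toAlgHom = γ'.toAlgHom := by
      apply InvFldBasic.algHom_ext
      rintro (i | j)
      · have h4 := h1 (InvFld.X i)
        rwa [i1_X] at h4
      · have h4 := h2 (InvFld.X j)
        rwa [i2_X] at h4
    exact AlgEquiv.ext fun z => AlgHom.congr_fun h3 z
  have hΓex : ∀ g : G, ∃ γ ∈ Gam G H e, (∀ z, γ (i1 k n m z) = i1 k n m (g.1 z)) ∧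
      (∀ w, γ (i2 k n m w) = i2 k n m ((e g).1 w)) := by
    intro g
    obtain ⟨γ, h1, h2⟩ := exists_gamma k n m g.1 (e g).1 (hG g.1 g.2)
      (hG g.1⁻¹ (G.inv_mem g.2)) (hH (e g).1 (e g).2) (hH (e g).1⁻¹ (H.inv_mem (e g).2))
    exact ⟨γ, ⟨g, h1, h2⟩, h1, h2⟩
  haveI : Finite ↥(Gam G H e) := by
    have hch : ∀ γ : Gam G H e, ∃ g : G, (∀ z, γ.1 (i1 k n m z) = i1 k n m (g.1 z)) ∧
        (∀ w, γ.1 (i2 k n m w) = i2 k n m ((e g).1 w)) := fun γ => γ.2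
    choose f hf using hch
    apply Finite.of_injective f
    intro γ γ' hγ
    apply Subtype.ext
    apply hdet
    · intro z
      rw [(hf γ).1, (hf γ').1, hγ]
    · intro w
      rw [(hf γ).2, (hf γ').2, hγ]
  have hxΓ : ∀ σ ∈ Gam G H e, ∀ i : Fin n,
      σ (InvFld.X (Sum.inl i) : InvFld.Fld (Fin n ⊕ Fin m) k) ∈ Submodule.span k
        (Set.range fun j : Fin n => (InvFld.X (Sum.inl j) : InvFld.Fld (Fin n ⊕ Fin m) k)) := by
    rintro σ ⟨g, h1, -⟩ i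
    have e1 : σ (InvFld.X (Sum.inl i)) = i1 k n m (g.1 (InvFld.X i)) := by
      rw [← h1, i1_X]
    rw [e1]
    have h3 := Submodule.apply_mem_span_image_of_mem_span (i1 k n m).toLinearMap
      (hG g.1 g.2 i)
    refine Submodule.span_mono ?_ h3
    rintro _ ⟨_, ⟨j, rfl⟩, rfl⟩
    exact ⟨j, (i1_X k n m j).symm⟩
  have hyΓ : ∀ σ ∈ Gam G H e, ∀ i : Fin m,
      σ (InvFld.X (Sum.inr i) : InvFld.Fld (Fin n ⊕ Fin m) k) ∈ Submodule.span k
        (Set.range fun j : Fin m => (InvFld.X (Sum.inr j) : InvFld.Fld (Fin n ⊕ Fin m) k)) := by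
    rintro σ ⟨g, -, h2⟩ i
    have e1 : σ (InvFld.X (Sum.inr i)) = i2 k n m ((e g).1 (InvFld.X i)) := by
      rw [← h2, i2_X]
    rw [e1]
    have h3 := Submodule.apply_mem_span_image_of_mem_span (i2 k n m).toLinearMap
      (hH (e g).1 (e g).2 i)
    refine Submodule.span_mono ?_ h3
    rintro _ ⟨_, ⟨j, rfl⟩, rfl⟩
    exact ⟨j, (i2_X k n m j).symm⟩
  have hone : ∀ σ ∈ Gam G H e, ∀ g : G, (∀ z, σ (i1 k n m z) = i1 k n m (g.1 z)) →
      (∀ w, σ (i2 k n m w) = i2 k n m ((e g).1 w)) → g = 1 → σ = 1 := by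
    intro σ _ g h1 h2 hg
    apply hdet
    · intro z
      rw [h1, hg]
      rfl
    · intro w
      rw [h2, hg, map_one]
      rfl
  have hfaithx : ∀ σ ∈ Gam G H e,
      (∀ i : Fin n, σ (InvFld.X (Sum.inl i) : InvFld.Fld (Fin n ⊕ Fin m) k) =
        InvFld.X (Sum.inl i)) → σ = 1 := by
    intro σ hσ hfix
    obtain ⟨g, h1, h2⟩ := hσ
    refine hone σ ⟨g, h1, h2⟩ g h1 h2 ?_
    apply Subtype.ext
    have h3 : g.1.toAlgHom = AlgHom.id k _ := by
      apply InvFldBasic.algHom_ext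
      intro i
      apply (i1 k n m : InvFld.Fld (Fin n) k →+* InvFld.Fld (Fin n ⊕ Fin m) k).injective
      show i1 k n m (g.1 (InvFld.X i)) = i1 k n m (InvFld.X i)
      rw [← h1, i1_X]
      exact hfix i
    exact AlgEquiv.ext fun z => AlgHom.congr_fun h3 z
  have hfaithy : ∀ σ ∈ Gam G H e,
      (∀ i : Fin m, σ (InvFld.X (Sum.inr i) : InvFld.Fld (Fin n ⊕ Fin m) k) =
        InvFld.X (Sum.inr i)) → σ = 1 := by
    intro σ hσ hfix
    obtain ⟨g, h1, h2⟩ := hσ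
    refine hone σ ⟨g, h1, h2⟩ g h1 h2 ?_
    apply (MulEquiv.map_eq_one_iff e).mp
    apply Subtype.ext
    have h3 : (e g).1.toAlgHom = AlgHom.id k _ := by
      apply InvFldBasic.algHom_ext
      intro i
      apply (i2 k n m : InvFld.Fld (Fin m) k →+* InvFld.Fld (Fin n ⊕ Fin m) k).injective
      show i2 k n m ((e g).1 (InvFld.X i)) = i2 k n m (InvFld.X i)
      rw [← h2, i2_X]
      exact hfix i
    exact AlgEquiv.ext fun z => AlgHom.congr_fun h3 z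
  have hind2 : AlgebraicIndependent k
      (Sum.elim (fun i : Fin n => (InvFld.X (Sum.inl i) : InvFld.Fld (Fin n ⊕ Fin m) k))
        (fun j : Fin m => (InvFld.X (Sum.inr j) : InvFld.Fld (Fin n ⊕ Fin m) k))) := by
    have h := InvFldBasic.algInd_X (Fin n ⊕ Fin m) k
    convert h using 1
    funext s
    rcases s with i | j <;> rfl
  have hind1 : AlgebraicIndependent k
      (Sum.elim (fun j : Fin m => (InvFld.X (Sum.inr j) : InvFld.Fld (Fin n ⊕ Fin m) k))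
        (fun i : Fin n => (InvFld.X (Sum.inl i) : InvFld.Fld (Fin n ⊕ Fin m) k))) := by
    have h := (InvFldBasic.algInd_X (Fin n ⊕ Fin m) k).comp
      Sum.swap (Equiv.sumComm _ _).injective
    convert h using 1
    funext s
    rcases s with j | i <;> rfl
  have hgen1 : IntermediateField.adjoin k
      (Set.range (fun i : Fin n => (InvFld.X (Sum.inl i) : InvFld.Fld (Fin n ⊕ Fin m) k)) ∪
        Set.range (fun j : Fin m => (InvFld.X (Sum.inr j) : InvFld.Fld (Fin n ⊕ Fin m) k))) =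
      ⊤ := by
    rw [← InvFldBasic.adjoin_X_eq_top (Fin n ⊕ Fin m) k]
    congr 1
    ext z
    constructor
    · rintro (⟨i, rfl⟩ | ⟨j, rfl⟩)
      · exact ⟨Sum.inl i, rfl⟩
      · exact ⟨Sum.inr j, rfl⟩
    · rintro ⟨(i | j), rfl⟩
      · exact Or.inl ⟨i, rfl⟩
      · exact Or.inr ⟨j, rfl⟩
  have hgen2 : IntermediateField.adjoin k
      (Set.range (fun j : Fin m => (InvFld.X (Sum.inr j) : InvFld.Fld (Fin n ⊕ Fin m) k)) ∪
        Set.range (fun i : Fin n => (InvFld.X (Sum.inl i) : InvFld.Fld (Fin n ⊕ Fin m) k))) =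
      ⊤ := by
    rw [Set.union_comm]
    exact hgen1
  have hι₁ : (i1 k n m).fieldRange = adjoin k
      (Set.range fun i : Fin n => (InvFld.X (Sum.inl i) : InvFld.Fld (Fin n ⊕ Fin m) k)) :=
    renameFld_fieldRange k Sum.inl Sum.inl_injective
  have hι₂ : (i2 k n m).fieldRange = adjoin k
      (Set.range fun j : Fin m => (InvFld.X (Sum.inr j) : InvFld.Fld (Fin n ⊕ Fin m) k)) :=
    renameFld_fieldRange k Sum.inr Sum.inr_injective
  have C1 : ∀ γ ∈ Gam G H e, ∃ g ∈ G, ∀ z, γ (i1 k n m z) = i1 k n m (g z) := by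
    rintro γ ⟨g, h1, -⟩
    exact ⟨g.1, g.2, h1⟩
  have C2 : ∀ g ∈ G, ∃ γ ∈ Gam G H e, ∀ z, γ (i1 k n m z) = i1 k n m (g z) := by
    intro g hg
    obtain ⟨γ, hγ, h1, -⟩ := hΓex ⟨g, hg⟩
    exact ⟨γ, hγ, h1⟩
  have C1' : ∀ γ ∈ Gam G H e, ∃ h ∈ H, ∀ w, γ (i2 k n m w) = i2 k n m (h w) := by
    rintro γ ⟨g, -, h2⟩
    exact ⟨(e g).1, (e g).2, h2⟩
  have C2' : ∀ h ∈ H, ∃ γ ∈ Gam G H e, ∀ w, γ (i2 k n m w) = i2 k n m (h w) := by
    intro h hh
    obtain ⟨γ, hγ, -, h2⟩ := hΓex (e.symm ⟨h, hh⟩)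
    refine ⟨γ, hγ, fun w => ?_⟩
    rw [h2, e.apply_symm_apply]
  obtain ⟨E1⟩ := NoName.half _ _ hind1 hgen1 (Gam G H e) hxΓ hyΓ hfaithx (i1 k n m) hι₁ G C1 C2
  obtain ⟨E2⟩ := NoName.half _ _ hind2 hgen2 (Gam G H e) hyΓ hxΓ hfaithy (i2 k n m) hι₂ H C1' C2'
  exact ⟨E1.trans E2.symm⟩

end Groth.Agent.Helper6.InvFldCore
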