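import Mathlib
import Groth.Agent.Helper6.InvFldBasic

set_option linter.style.haveILetI false
set_option autoImplicit false

open IntermediateField MvPolynomial

namespace Groth.Agent.Helper6.InvFldSym

open InvFldBasic

universe u

variable (k : Type u) [Field k] (n : ℕ)

/-- the automorphism of `k(x_1, …, x_n)` permuting the variables -/
noncomputable def permAut (σ : Equiv.Perm (Fin n)) :
    InvFld.Fld (Fin n) k ≃ₐ[k] InvFld.Fld (Fin n) k :=
  IsFractionRing.algEquivOfAlgEquiv (MvPolynomial.renameEquiv k σ)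

theorem permAut_algebraMap (σ : Equiv.Perm (Fin n)) (p : MvPolynomial (Fin n) k) :
    permAut k n σ (algebraMap (MvPolynomial (Fin n) k) (InvFld.Fld (Fin n) k) p) =
      algebraMap (MvPolynomial (Fin n) k) (InvFld.Fld (Fin n) k) (rename σ p) := by
  rw [permAut, IsFractionRing.algEquivOfAlgEquiv_algebraMap]
  rfl

theorem permAut_X (σ : Equiv.Perm (Fin n)) (i : Fin n) :
    permAut k n σ (InvFld.X i) = InvFld.X (σ i) := by
  rw [InvFld.X, permAut_algebraMap, rename_X]

theorem permAut_mul (σ τ : Equiv.Perm (Fin n)) :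
    permAut k n (σ * τ) = permAut k n σ * permAut k n τ := by
  have h : (permAut k n (σ * τ)).toAlgHom = (permAut k n σ * permAut k n τ).toAlgHom := by
    apply InvFldBasic.algHom_ext
    intro i
    show permAut k n (σ * τ) (InvFld.X i) = permAut k n σ (permAut k n τ (InvFld.X i))
    rw [permAut_X, permAut_X, permAut_X]
    rfl
  exact AlgEquiv.ext fun z => AlgHom.congr_fun h z

theorem permAut_injective : Function.Injective (permAut k n) := by
  intro σ τ h
  refine Equiv.ext fun i => ?_
  have h1 : permAut k n σ (InvFld.X i) = permAut k n τ (InvFld.X i) := by rw [h]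
  rw [permAut_X, permAut_X] at h1
  exact (algInd_X (Fin n) k).injective h1

/-- the permutation action as a group homomorphism -/
noncomputable def permHom :
    Equiv.Perm (Fin n) →* (InvFld.Fld (Fin n) k ≃ₐ[k] InvFld.Fld (Fin n) k) :=
  MonoidHom.mk' (permAut k n) (permAut_mul k n)

theorem permHom_apply (σ : Equiv.Perm (Fin n)) : permHom k n σ = permAut k n σ := rfl

theorem permHom_injective : Function.Injective (permHom k n) := permAut_injective k n

/-- the elementary symmetric polynomials -/
noncomputable def epoly (i : Fin n) : MvPolynomial (Fin n) k := esymm (Fin n) k (i + 1)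

/-- the elementary symmetric functions -/
noncomputable def eF (i : Fin n) : InvFld.Fld (Fin n) k :=
  algebraMap (MvPolynomial (Fin n) k) (InvFld.Fld (Fin n) k) (epoly k n i)

theorem aeval_epoly_injective : Function.Injective
    (aeval (epoly k n) : MvPolynomial (Fin n) k →ₐ[k] MvPolynomial (Fin n) k) := by
  intro p q h
  apply (esymmAlgHom_fin_bijective k n).1
  apply Subtype.ext
  rw [esymmAlgHom_apply, esymmAlgHom_apply]
  exact h

theorem exists_of_symmetric (r : MvPolynomial (Fin n) k) (hr : r.IsSymmetric) :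
    ∃ q : MvPolynomial (Fin n) k, aeval (epoly k n) q = r := by
  obtain ⟨q, hq⟩ := (esymmAlgHom_fin_bijective k n).2
    (⟨r, hr⟩ : symmetricSubalgebra (Fin n) k)
  refine ⟨q, ?_⟩
  have := esymmAlgHom_apply (σ := Fin n) (R := k) (n := n) q
  rw [hq] at this
  exact this.symm

theorem algInd_eF : AlgebraicIndependent k (eF k n) :=
  (algebraicIndependent_iff_injective_aeval.mpr (aeval_epoly_injective k n)).map'
    (f := IsScalarTower.toAlgHom k (MvPolynomial (Fin n) k) (InvFld.Fld (Fin n) k))
    (IsFractionRing.injective (MvPolynomial (Fin n) k) (InvFld.Fld (Fin n) k))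

theorem eF_fixed (σ : Equiv.Perm (Fin n)) (i : Fin n) :
    permAut k n σ (eF k n i) = eF k n i := by
  rw [eF, permAut_algebraMap]
  congr 1
  exact esymm_isSymmetric (Fin n) k _ σ

theorem algebraMap_mem_of_symmetric (r : MvPolynomial (Fin n) k) (hr : r.IsSymmetric) :
    algebraMap (MvPolynomial (Fin n) k) (InvFld.Fld (Fin n) k) r ∈
      adjoin k (Set.range (eF k n)) := by
  obtain ⟨q, rfl⟩ := exists_of_symmetric k n r hr
  have h1 : algebraMap (MvPolynomial (Fin n) k) (InvFld.Fld (Fin n) k)
      (aeval (epoly k n) q) = aeval (eF k n) q := by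
    have h := MvPolynomial.comp_aeval (R := k) (f := epoly k n)
      (IsScalarTower.toAlgHom k (MvPolynomial (Fin n) k) (InvFld.Fld (Fin n) k))
    exact AlgHom.congr_fun h q
  rw [h1]
  apply algebra_adjoin_le_adjoin k
  rw [Algebra.adjoin_range_eq_range_aeval]
  exact ⟨q, rfl⟩

theorem fixed_mem_adjoin (f : InvFld.Fld (Fin n) k) (hf : ∀ σ, permAut k n σ f = f) :
    f ∈ adjoin k (Set.range (eF k n)) := by
  classical
  obtain ⟨p, q, hq, rfl⟩ := IsFractionRing.div_surjective (MvPolynomial (Fin n) k) f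
  have hq0 : q ≠ 0 := nonZeroDivisors.ne_zero hq
  obtain ⟨N, hN⟩ : ∃ N, N = ∏ σ : Equiv.Perm (Fin n), rename σ q := ⟨_, rfl⟩
  obtain ⟨r, hr⟩ : ∃ r, r = p * ∏ σ ∈ Finset.univ.erase (1 : Equiv.Perm (Fin n)), rename σ q :=
    ⟨_, rfl⟩
  have hNsym : N.IsSymmetric := by
    intro τ
    rw [hN, map_prod]
    simp only [rename_rename]
    exact Fintype.prod_equiv (Equiv.mulLeft τ) _ _ (fun σ => rfl)
  have hN0 : N ≠ 0 := by
    rw [hN]
    exact Finset.prod_ne_zero_iff.mpr fun σ _ =>
      (map_ne_zero_iff _ (rename_injective σ σ.injective)).mpr hq0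
  have hNsplit : N = q * ∏ σ ∈ Finset.univ.erase (1 : Equiv.Perm (Fin n)), rename σ q := by
    rw [hN, ← Finset.mul_prod_erase Finset.univ _ (Finset.mem_univ (1 : Equiv.Perm (Fin n)))]
    congr 1
    exact (rename_id_apply q)
  have hinj := IsFractionRing.injective (MvPolynomial (Fin n) k) (InvFld.Fld (Fin n) k)
  have hq' : algebraMap (MvPolynomial (Fin n) k) (InvFld.Fld (Fin n) k) q ≠ 0 :=
    (map_ne_zero_iff _ hinj).mpr hq0
  have hN' : algebraMap (MvPolynomial (Fin n) k) (InvFld.Fld (Fin n) k) N ≠ 0 :=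
    (map_ne_zero_iff _ hinj).mpr hN0
  have hfN : (algebraMap (MvPolynomial (Fin n) k) (InvFld.Fld (Fin n) k) p /
      algebraMap (MvPolynomial (Fin n) k) (InvFld.Fld (Fin n) k) q) *
      algebraMap (MvPolynomial (Fin n) k) (InvFld.Fld (Fin n) k) N =
      algebraMap (MvPolynomial (Fin n) k) (InvFld.Fld (Fin n) k) r := by
    rw [hNsplit, hr, map_mul, map_mul]
    field_simp
  have hrsym : r.IsSymmetric := by
    intro τ
    apply hinj
    rw [← permAut_algebraMap, ← hfN, map_mul, hf τ, permAut_algebraMap, hNsym τ]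
  have h1 := algebraMap_mem_of_symmetric k n r hrsym
  have h2 := algebraMap_mem_of_symmetric k n N hNsym
  have h3 : algebraMap (MvPolynomial (Fin n) k) (InvFld.Fld (Fin n) k) p /
      algebraMap (MvPolynomial (Fin n) k) (InvFld.Fld (Fin n) k) q =
      algebraMap (MvPolynomial (Fin n) k) (InvFld.Fld (Fin n) k) r /
      algebraMap (MvPolynomial (Fin n) k) (InvFld.Fld (Fin n) k) N := by
    rw [← hfN]
    field_simp
  rw [h3]
  exact div_mem h1 h2

theorem fixedField_eq :
    fixedField (permHom k n).range = adjoin k (Set.range (eF k n)) := by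
  apply le_antisymm
  · intro f hf
    apply fixed_mem_adjoin
    intro σ
    exact (mem_fixedField_iff _ _).mp hf _ ⟨σ, rfl⟩
  · rw [adjoin_le_iff]
    rintro _ ⟨i, rfl⟩
    rw [SetLike.mem_coe, mem_fixedField_iff]
    rintro _ ⟨σ, rfl⟩
    exact eF_fixed k n σ i

theorem linear_of_mem_range (τ : InvFld.Fld (Fin n) k ≃ₐ[k] InvFld.Fld (Fin n) k)
    (hτ : τ ∈ (permHom k n).range) (i : Fin n) :
    τ (InvFld.X i) ∈ Submodule.span k
      (Set.range fun j : Fin n => (InvFld.X j : InvFld.Fld (Fin n) k)) := by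
  obtain ⟨σ, rfl⟩ := hτ
  rw [permHom_apply, permAut_X]
  exact Submodule.subset_span ⟨σ i, rfl⟩

end Groth.Agent.Helper6.InvFldSym
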