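import Mathlib
import Groth.Agent.Helper6.InvFldSym
import Groth.Agent.Helper6.InvFldCore2

set_option linter.style.haveILetI false
set_option autoImplicit false

open IntermediateField MvPolynomial

namespace Groth.Agent.Helper6.InvFldPure

open InvFldBasic InvFldSym

universe u

variable (k : Type u) [Field k]

/-- If `L/k` is generated by an algebraically independent family `e`, then `L(X_1, …, X_m)` is
purely transcendental over `k` on `e` and `X`. -/
theorem pure_of_pure {L : Type u} [Field L] [Algebra k L] {n : ℕ} (m : ℕ) (e : Fin n → L)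
    (he : AlgebraicIndependent k e) (hgen : adjoin k (Set.range e) = ⊤) :
    AlgebraicIndependent k (Sum.elim (fun j : Fin m => (InvFld.X j : InvFld.Fld (Fin m) L))
      (algebraMap L (InvFld.Fld (Fin m) L) ∘ e)) ∧
    adjoin k (Set.range (Sum.elim (fun j : Fin m => (InvFld.X j : InvFld.Fld (Fin m) L))
      (algebraMap L (InvFld.Fld (Fin m) L) ∘ e))) = ⊤ := by
  constructor
  · exact he.sumElim_comp (algInd_X (Fin m) L)
  · obtain ⟨T, hT⟩ : ∃ T : IntermediateField k (InvFld.Fld (Fin m) L), T = adjoin k
      (Set.range (Sum.elim (fun j : Fin m => (InvFld.X j : InvFld.Fld (Fin m) L))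
        (algebraMap L (InvFld.Fld (Fin m) L) ∘ e))) := ⟨_, rfl⟩
    rw [← hT]
    have hc : ∀ c : L, algebraMap L (InvFld.Fld (Fin m) L) c ∈ T := by
      have hle : adjoin k (Set.range e) ≤
          T.comap (IsScalarTower.toAlgHom k L (InvFld.Fld (Fin m) L)) := by
        rw [adjoin_le_iff]
        rintro _ ⟨i, rfl⟩
        show algebraMap L (InvFld.Fld (Fin m) L) (e i) ∈ T
        rw [hT]
        exact subset_adjoin k _ ⟨Sum.inr i, rfl⟩
      intro c
      have h1 : c ∈ adjoin k (Set.range e) := hgen ▸ mem_top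
      exact hle h1
    have hX : ∀ j : Fin m, (InvFld.X j : InvFld.Fld (Fin m) L) ∈ T := fun j => by
      rw [hT]
      exact subset_adjoin k _ ⟨Sum.inl j, rfl⟩
    have hp : ∀ p : MvPolynomial (Fin m) L,
        algebraMap (MvPolynomial (Fin m) L) (InvFld.Fld (Fin m) L) p ∈ T := by
      intro p
      induction p using MvPolynomial.induction_on with
      | C c =>
        have h1 : algebraMap (MvPolynomial (Fin m) L) (InvFld.Fld (Fin m) L) (C c) =
            algebraMap L (InvFld.Fld (Fin m) L) c :=
          (IsScalarTower.algebraMap_apply L (MvPolynomial (Fin m) L)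
            (InvFld.Fld (Fin m) L) c).symm
        rw [h1]
        exact hc c
      | add p q hp hq =>
        rw [map_add]
        exact add_mem hp hq
      | mul_X p j hp =>
        rw [map_mul]
        exact mul_mem hp (hX j)
    rw [eq_top_iff]
    intro z _
    obtain ⟨a, b, -, rfl⟩ := IsFractionRing.div_surjective (MvPolynomial (Fin m) L) z
    exact div_mem (hp a) (hp b)

theorem exists_gens_fixedField (n : ℕ) :
    ∃ e : Fin n → ↥(fixedField (permHom k n).range),
      AlgebraicIndependent k e ∧ adjoin k (Set.range e) = ⊤ := by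
  have hmem : ∀ i, eF k n i ∈ fixedField (permHom k n).range := by
    intro i
    rw [fixedField_eq]
    exact subset_adjoin k _ ⟨i, rfl⟩
  refine ⟨fun i => ⟨eF k n i, hmem i⟩, ?_, ?_⟩
  · apply AlgebraicIndependent.of_comp (fixedField (permHom k n).range).val
    exact algInd_eF k n
  · apply IntermediateField.map_injective (fixedField (permHom k n).range).val
    rw [adjoin_map, ← AlgHom.fieldRange_eq_map, fieldRange_val]
    have h1 : (fixedField (permHom k n).range).val ''
        Set.range (fun i => (⟨eF k n i, hmem i⟩ : ↥(fixedField (permHom k n).range))) =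
        Set.range (eF k n) := by
      ext z
      constructor
      · rintro ⟨_, ⟨i, rfl⟩, rfl⟩
        exact ⟨i, rfl⟩
      · rintro ⟨i, rfl⟩
        exact ⟨_, ⟨i, rfl⟩, rfl⟩
    rw [h1]
    exact (fixedField_eq k n).symm

theorem final (n m : ℕ)
    (G : Subgroup (InvFld.Fld (Fin m) k ≃ₐ[k] InvFld.Fld (Fin m) k)) [Finite G]
    (e : G ≃* Equiv.Perm (Fin n))
    (hG : ∀ σ ∈ G, ∀ i : Fin m, σ (InvFld.X i) ∈ Submodule.span k
      (Set.range fun j : Fin m => (InvFld.X j : InvFld.Fld (Fin m) k))) :
    ∃ (r N : ℕ) (t : Fin N → InvFld.Fld (Fin r) (fixedField G)),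
      AlgebraicIndependent k t ∧ adjoin k (Set.range t) = ⊤ := by
  let e' : G ≃* (permHom k n).range :=
    e.trans (MonoidHom.ofInjective (permHom_injective k n))
  haveI : Finite ↥(permHom k n).range :=
    Finite.of_equiv _ (MonoidHom.ofInjective (permHom_injective k n)).toEquiv
  obtain ⟨Ψ⟩ := InvFldCore.core G (permHom k n).range e' hG
    (fun τ hτ i => linear_of_mem_range k n τ hτ i)
  obtain ⟨ê, hê1, hê2⟩ := exists_gens_fixedField k n
  obtain ⟨h1, h2⟩ := pure_of_pure k m ê hê1 hê2
  refine ⟨n, m + n, fun i => Ψ.symm (Sum.elim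
    (fun j : Fin m => (InvFld.X j : InvFld.Fld (Fin m) ↥(fixedField (permHom k n).range)))
    (algebraMap _ (InvFld.Fld (Fin m) ↥(fixedField (permHom k n).range)) ∘ ê)
    (finSumFinEquiv.symm i)), ?_, ?_⟩
  · exact (h1.map' (f := Ψ.symm.toAlgHom) Ψ.symm.injective).comp finSumFinEquiv.symm
      finSumFinEquiv.symm.injective
  · have h3 : Set.range (fun i => Ψ.symm (Sum.elim
        (fun j : Fin m => (InvFld.X j : InvFld.Fld (Fin m) ↥(fixedField (permHom k n).range)))
        (algebraMap _ (InvFld.Fld (Fin m) ↥(fixedField (permHom k n).range)) ∘ ê)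
        (finSumFinEquiv.symm i))) = Ψ.symm.toAlgHom '' Set.range (Sum.elim
        (fun j : Fin m => (InvFld.X j : InvFld.Fld (Fin m) ↥(fixedField (permHom k n).range)))
        (algebraMap _ (InvFld.Fld (Fin m) ↥(fixedField (permHom k n).range)) ∘ ê)) := by
      ext z
      constructor
      · rintro ⟨i, rfl⟩
        exact ⟨_, ⟨_, rfl⟩, rfl⟩
      · rintro ⟨_, ⟨s, rfl⟩, rfl⟩
        exact ⟨finSumFinEquiv s, by simp⟩
    rw [h3, ← adjoin_map, h2, ← AlgHom.fieldRange_eq_map]
    exact AlgHom.fieldRange_eq_top.mpr Ψ.symm.surjective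

end Groth.Agent.Helper6.InvFldPure
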