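import Mathlib

/-!
Helper lemmas: binomial coefficients `choose (p^v * m) (p^v)` modulo `p`, and invariant lifts of
binomial multiples of powers for a finite group acting on a commutative ring.
-/

set_option autoImplicit false

universe u v

namespace Groth.Agent.Helper6.InvariantLift

theorem choose_prime_pow_mul_modEq (p : ℕ) [Fact p.Prime] (m : ℕ) :
    ∀ v : ℕ, Nat.choose (p ^ v * m) (p ^ v) ≡ m [MOD p] := by
  have hp : p.Prime := Fact.out
  intro v
  induction v with
  | zero => simp [Nat.ModEq]
  | succ v ih =>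
    have h1 := Choose.choose_modEq_choose_mod_mul_choose_div_nat (p := p) (n := p ^ (v + 1) * m) (k := p ^ (v + 1))
    have e1 : p ^ (v + 1) * m % p = 0 := by
      rw [pow_succ, mul_comm (p ^ v) p, mul_assoc]
      exact Nat.mul_mod_right _ _
    have e2 : p ^ (v + 1) % p = 0 := by
      rw [pow_succ]
      exact Nat.mul_mod_left _ _
    have e3 : p ^ (v + 1) * m / p = p ^ v * m := by
      rw [pow_succ, mul_comm (p ^ v) p, mul_assoc]
      exact Nat.mul_div_cancel_left _ hp.pos
    have e4 : p ^ (v + 1) / p = p ^ v := by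
      rw [pow_succ]
      exact Nat.mul_div_cancel _ hp.pos
    rw [e1, e2, e3, e4, Nat.choose_self, one_mul] at h1
    exact h1.trans ih

theorem not_dvd_choose_ordProj (p : ℕ) [Fact p.Prime] (n : ℕ) (hn : n ≠ 0) :
    ¬ p ∣ Nat.choose n (p ^ n.factorization p) := by
  have hp : p.Prime := Fact.out
  intro hdvd
  have h1 := choose_prime_pow_mul_modEq p (n / p ^ n.factorization p) (n.factorization p)
  rw [Nat.ordProj_mul_ordCompl_eq_self n p] at h1
  have h2 : p ∣ n / p ^ n.factorization p := (Nat.modEq_zero_iff_dvd.1 ((h1.symm.trans (Nat.modEq_zero_iff_dvd.2 hdvd))))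
  exact Nat.not_dvd_ordCompl hp hn h2

variable {A : Type u} [CommRing A] {G : Type v} [Group G] [Fintype G] [MulSemiringAction G A]

theorem exists_invariant_lift_choose (I : Ideal A) (f : A) (hf : ∀ g : G, g • f - f ∈ I) (j : ℕ)
    (hj : j ≤ Fintype.card G) :
    ∃ a : A, (∀ g : G, g • a = a) ∧
      Ideal.Quotient.mk I a = ((Fintype.card G).choose j : A ⧸ I) * Ideal.Quotient.mk I f ^ j := by
  classical
  set n := Fintype.card G with hn
  let P : Polynomial A := ∏ g : G, (Polynomial.X + Polynomial.C (g • f))
  have hPinv : ∀ h : G, P.map (MulSemiringAction.toRingHom G A h) = P := by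
    intro h
    simp only [P, Polynomial.map_prod, Polynomial.map_add, Polynomial.map_X, Polynomial.map_C]
    exact Fintype.prod_equiv (Equiv.mulLeft h) _ _ (fun g => by simp [mul_smul])
  have hcoeff_inv : ∀ (h : G) (k : ℕ), h • P.coeff k = P.coeff k := by
    intro h k
    have := congrArg (fun Q => Q.coeff k) (hPinv h)
    simpa [Polynomial.coeff_map] using this
  have hmk : ∀ g : G, Ideal.Quotient.mk I (g • f) = Ideal.Quotient.mk I f := fun g =>
    Ideal.Quotient.eq.2 (hf g)
  have hPmod : P.map (Ideal.Quotient.mk I) =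
      (Polynomial.X + Polynomial.C (Ideal.Quotient.mk I f)) ^ n := by
    simp only [P, Polynomial.map_prod, Polynomial.map_add, Polynomial.map_X, Polynomial.map_C, hmk,
      Finset.prod_const, Finset.card_univ, hn]
  refine ⟨P.coeff (n - j), fun g => hcoeff_inv g _, ?_⟩
  rw [← Polynomial.coeff_map, hPmod, Polynomial.coeff_X_add_C_pow, Nat.sub_sub_self hj, Nat.choose_symm hj,
    mul_comm]

end Groth.Agent.Helper6.InvariantLift
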