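import Mathlib
import Groth.Agent.Helper6.OfPsh
import Groth.Prelude.Def_StGerb
import Groth.Prelude.Def_StGerb2

/-!
# Helper6: the map from the presheaf of isomorphism classes of a gerbe over a presheaf `P` to `P`
-/

set_option autoImplicit false
set_option linter.style.haveILetI false
set_option linter.unusedVariables false
universe v₂ u₂ v u

namespace Groth.Agent.Helper6.IsoClSec
open CategoryTheory Functor FibCat Limits Opposite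
open Groth.Agent.Helper3 Stk Groth.Agent.Helper6.OfPsh

variable {C : Type u} [Category.{v} C] {P : Cᵒᵖ ⥤ Type u₂} {𝒳 : BasedCategory.{v₂, u₂} C}
  (π : 𝒳 ⥤ᵇ ofPsh P)

/-- the section attached to an object of a fibre -/
def secOf {U : C} (a : 𝒳.p.Fiber U) : P.obj (op U) :=
  tr P (π.obj a.1) ((π.w_obj a.1).trans a.2)

theorem secOf_of_hom {U V : C} (f : V ⟶ U) (a : 𝒳.p.Fiber U) (b : 𝒳.p.Fiber V) (ψ : b.1 ⟶ a.1)
    (hψ : 𝒳.p.IsHomLift f ψ) : secOf π b = P.map f.op (secOf π a) := by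
  haveI : (EltObj.forget P).IsHomLift f (π.map ψ) :=
    @BasedFunctor.preserves_isHomLift _ _ _ _ π _ _ _ _ f ψ hψ
  exact (tr_of_hom P (π.map ψ) f ((π.w_obj b.1).trans b.2) ((π.w_obj a.1).trans a.2)).symm

variable [FibCat.IsFibGrpd 𝒳.p]

/-- the class map -/
noncomputable def cl : Gerb.isoClPsh 𝒳 ⟶ P where
  app U := ↾(Quot.lift (fun a : 𝒳.p.Fiber U.unop => secOf π a) (by
    rintro a b ⟨φ⟩
    have := secOf_of_hom π (𝟙 U.unop) b a φ.1 φ.2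
    simpa using this))
  naturality U V g := by
    ext a
    obtain ⟨a, rfl⟩ := Quot.exists_rep (r := Gerb.IsoRel 𝒳 U.unop) a
    change secOf π (Gerb.pullFib 𝒳 g.unop a) = P.map g (secOf π a)
    have h1 : 𝒳.p.IsHomLift g.unop (Gerb.pullHom 𝒳 a.1 (g.unop ≫ eqToHom a.2.symm)) :=
      (IsHomLift.lift_comp_eqToHom_iff 𝒳.p g.unop _ a.2.symm).1 (Gerb.pullHom_isHomLift 𝒳 a.1 _)
    exact secOf_of_hom π g.unop a (Gerb.pullFib 𝒳 g.unop a) _ h1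

theorem cl_mk {U : C} (a : 𝒳.p.Fiber U) : (cl π).app (op U) (Quot.mk _ a) = secOf π a := rfl

variable (J : GrothendieckTopology C)

theorem cl_locSurj (h : Gerb.LocSurjObj J π) : Presheaf.IsLocallySurjective J (cl π) where
  imageSieve_mem {U} s := by
    obtain ⟨R, hR, hR2⟩ := h (⟨U, s⟩ : EltObj P)
    refine J.superset_covering ?_ hR
    intro V f hf
    obtain ⟨x, g, hg⟩ := hR2 f hf
    have hx : 𝒳.p.obj x = V :=
      (π.w_obj x).symm.trans (@IsHomLift.domain_eq _ _ _ _ (EltObj.forget P) _ _ _ _ f g hg)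
    refine ⟨Quot.mk _ ⟨x, hx⟩, ?_⟩
    have := tr_of_hom P g f ((π.w_obj x).trans hx) rfl (hφ := hg)
    rw [tr_rfl] at this
    exact this.symm

theorem inj_aux (h : Gerb.LocSurjHom J π) {U : C} (a b : 𝒳.p.Fiber U)
    (hab : secOf π a = secOf π b) :
    ∃ R ∈ J U, ∀ ⦃V : C⦄ (f : V ⟶ U), R f →
      Quot.mk (Gerb.IsoRel 𝒳 V) (Gerb.pullFib 𝒳 f a) = Quot.mk _ (Gerb.pullFib 𝒳 f b) := by
  obtain ⟨a1, ha⟩ := a
  subst ha
  obtain ⟨b1, hb⟩ := b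
  obtain ⟨φ, hφ⟩ := exists_hom_of_tr_eq P ((π.w_obj a1).trans rfl) ((π.w_obj b1).trans hb) hab
  obtain ⟨R, hR, hR2⟩ := h a1 b1 φ hφ
  refine ⟨R, hR, ?_⟩
  intro V f hf
  obtain ⟨x₀, φ₀, ψ₀, h1, h2, -⟩ := hR2 f hf
  have hx₀ : 𝒳.p.obj x₀ = V := IsHomLift.domain_eq 𝒳.p f φ₀
  have h1' : 𝒳.p.IsHomLift (f ≫ eqToHom (rfl : 𝒳.p.obj a1 = 𝒳.p.obj a1).symm) φ₀ := by
    haveI := h1
    infer_instance
  have h2' : 𝒳.p.IsHomLift (f ≫ eqToHom hb.symm) ψ₀ := by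
    haveI := h2
    infer_instance
  obtain ⟨χ, hχ, -⟩ := Gerb.exists_hom_pull 𝒳 a1 _ φ₀ h1'
  obtain ⟨χ', hχ', -⟩ := Gerb.exists_hom_pull 𝒳 b1 _ ψ₀ h2'
  have e1 : Quot.mk (Gerb.IsoRel 𝒳 V) ⟨x₀, hx₀⟩ =
      Quot.mk _ (Gerb.pullFib 𝒳 f ⟨a1, rfl⟩) := Quot.sound ⟨⟨χ, hχ⟩⟩
  have e2 : Quot.mk (Gerb.IsoRel 𝒳 V) ⟨x₀, hx₀⟩ =
      Quot.mk _ (Gerb.pullFib 𝒳 f ⟨b1, hb⟩) := Quot.sound ⟨⟨χ', hχ'⟩⟩
  exact e1.symm.trans e2

theorem cl_locInj (h : Gerb.LocSurjHom J π) : Presheaf.IsLocallyInjective J (cl π) where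
  equalizerSieve_mem {X} x y hxy := by
    obtain ⟨a, rfl⟩ := Quot.exists_rep (r := Gerb.IsoRel 𝒳 X.unop) x
    obtain ⟨b, rfl⟩ := Quot.exists_rep (r := Gerb.IsoRel 𝒳 X.unop) y
    obtain ⟨R, hR, hR2⟩ := inj_aux π J h a b hxy
    refine J.superset_covering ?_ hR
    intro V f hf
    exact hR2 f hf

end Groth.Agent.Helper6.IsoClSec
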