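import Mathlib
import Groth.Agent.Helper6.EmbCrit

set_option autoImplicit false
set_option linter.style.haveILetI false
set_option linter.unusedSectionVars false

/-!
# Affine plane charts: local ring versus partial derivatives
-/

namespace Groth.Agent.Helper6.JacAff

open FunFld MvPolynomial
open Groth.Agent.Helper5

universe u v
variable {k : Type u} {K : Type v} [Field k] [Field K] [Algebra k K]

theorem sum_two {M : Type*} [AddCommMonoid M] (i i' : Fin 2) (h : i ≠ i') (F : Fin 2 → M) :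
    ∑ l, F l = F i + F i' := by
  rw [Fin.sum_univ_two]
  fin_cases i <;> fin_cases i'
  · exact absurd rfl h
  · rfl
  · exact add_comm _ _
  · exact absurd rfl h

theorem exists_ne (i : Fin 2) : ∃ i' : Fin 2, i ≠ i' := by
  fin_cases i
  · exact ⟨1, by decide⟩
  · exact ⟨0, by decide⟩

theorem exp_neg_one_lt_one : (WithZero.exp (-1 : ℤ) : WithZero (Multiplicative ℤ)) < 1 := by
  rw [← WithZero.exp_zero, WithZero.exp_lt_exp]; norm_num

theorem lt_one_iff (a : WithZero (Multiplicative ℤ)) : a < 1 ↔ a ≤ WithZero.exp (-1 : ℤ) := by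
  have h := EmbCrit.lt_exp_iff a 0
  rw [WithZero.exp_zero, zero_sub] at h
  exact h

/-- Taylor expansion to first order at a point. -/
theorem exists_decomp (c : Fin 2 → k) (H : MvPolynomial (Fin 2) k) :
    ∃ Hs : Fin 2 → MvPolynomial (Fin 2) k,
      H = C (eval c H) + ∑ l, (X l - C (c l)) * Hs l := by
  induction H using MvPolynomial.induction_on with
  | C a => exact ⟨fun _ => 0, by simp⟩
  | add p q hp hq =>
    obtain ⟨Ps, hP⟩ := hp
    obtain ⟨Qs, hQ⟩ := hq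
    refine ⟨fun l => Ps l + Qs l, ?_⟩
    rw [map_add, C_add]
    simp only [mul_add, Finset.sum_add_distrib]
    linear_combination hP + hQ
  | mul_X p i hp =>
    obtain ⟨Ps, hP⟩ := hp
    refine ⟨fun l => Ps l * X i + (if l = i then C (eval c p) else 0), ?_⟩
    rw [map_mul, eval_X, C_mul]
    simp only [mul_add, Finset.sum_add_distrib, mul_ite, mul_zero, Finset.sum_ite_eq',
      Finset.sum_ite_eq, Finset.mem_univ, if_true]
    have hs : ∑ l, (X l - C (c l)) * (Ps l * X i) = (∑ l, (X l - C (c l)) * Ps l) * X i := by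
      rw [Finset.sum_mul]; exact Finset.sum_congr rfl (fun l _ => by ring)
    rw [hs]
    linear_combination (X i) * hP

section val
variable (P : Place k K) (ξ : Fin 2 → K) (c : Fin 2 → k)

theorem val_xi_le (hres : ∀ l, P.1 (ξ l - algebraMap k K (c l)) < 1) (l : Fin 2) :
    P.1 (ξ l) ≤ 1 :=
  FF.val_le_one_of_residue P (hres l)

theorem val_aeval_le (hres : ∀ l, P.1 (ξ l - algebraMap k K (c l)) < 1)
    (H : MvPolynomial (Fin 2) k) : P.1 (aeval ξ H) ≤ 1 := by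
  induction H using MvPolynomial.induction_on with
  | C a => rw [aeval_C]; exact P.2.1 a
  | add p q hp hq => rw [map_add]; exact (P.1.map_add _ _).trans (max_le hp hq)
  | mul_X p i hp =>
    rw [map_mul, aeval_X, map_mul]; exact mul_le_one' hp (val_xi_le P ξ c hres i)

theorem aeval_decomp (H : MvPolynomial (Fin 2) k) (Hs : Fin 2 → MvPolynomial (Fin 2) k)
    (hH : H = C (eval c H) + ∑ l, (X l - C (c l)) * Hs l) :
    aeval ξ H = algebraMap k K (eval c H) +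
      ∑ l, (ξ l - algebraMap k K (c l)) * aeval ξ (Hs l) := by
  have h := congrArg (aeval ξ) hH
  rw [map_add, aeval_C, map_sum] at h
  rw [h]
  congr 1
  refine Finset.sum_congr rfl (fun l _ => ?_)
  rw [map_mul, map_sub, aeval_X, aeval_C]

theorem val_aeval_sub_lt (hres : ∀ l, P.1 (ξ l - algebraMap k K (c l)) < 1)
    (H : MvPolynomial (Fin 2) k) : P.1 (aeval ξ H - algebraMap k K (eval c H)) < 1 := by
  obtain ⟨Hs, hH⟩ := exists_decomp c H
  rw [aeval_decomp ξ c H Hs hH, add_sub_cancel_left]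
  refine Valuation.map_sum_lt P.1 one_ne_zero (fun l _ => ?_)
  rw [map_mul]
  calc P.1 (ξ l - algebraMap k K (c l)) * P.1 (aeval ξ (Hs l))
      ≤ P.1 (ξ l - algebraMap k K (c l)) * 1 :=
        mul_le_mul' le_rfl (val_aeval_le P ξ c hres _)
    _ = P.1 (ξ l - algebraMap k K (c l)) := mul_one _
    _ < 1 := hres l

theorem eval_eq_zero_of_val_lt (hres : ∀ l, P.1 (ξ l - algebraMap k K (c l)) < 1)
    (H : MvPolynomial (Fin 2) k) (h : P.1 (aeval ξ H) < 1) : eval c H = 0 :=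
  (FF.val_lt_one_iff_of_residue P (val_aeval_sub_lt P ξ c hres H)).mp h

theorem val_aeval_eq_one (hres : ∀ l, P.1 (ξ l - algebraMap k K (c l)) < 1)
    (H : MvPolynomial (Fin 2) k) (h : eval c H ≠ 0) : P.1 (aeval ξ H) = 1 :=
  FF.val_eq_one_of_residue P (val_aeval_sub_lt P ξ c hres H) h

theorem val_aeval_lt_of_eval (hres : ∀ l, P.1 (ξ l - algebraMap k K (c l)) < 1)
    (H : MvPolynomial (Fin 2) k) (h : eval c H = 0) : P.1 (aeval ξ H) < 1 :=
  (FF.val_lt_one_iff_of_residue P (val_aeval_sub_lt P ξ c hres H)).mpr h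

/-- elements of the coordinate ring vanishing at the centre are combinations of the coordinate
differences. -/
theorem exists_comb (hres : ∀ l, P.1 (ξ l - algebraMap k K (c l)) < 1)
    (H : MvPolynomial (Fin 2) k) (h : P.1 (aeval ξ H) < 1) :
    ∃ Hs : Fin 2 → MvPolynomial (Fin 2) k,
      aeval ξ H = ∑ l, (ξ l - algebraMap k K (c l)) * aeval ξ (Hs l) := by
  obtain ⟨Hs, hH⟩ := exists_decomp c H
  refine ⟨Hs, ?_⟩
  rw [aeval_decomp ξ c H Hs hH, eval_eq_zero_of_val_lt P ξ c hres H h, map_zero, zero_add]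

theorem mem_adjoin_iff (z : K) :
    z ∈ Algebra.adjoin k (Set.range ξ) ↔ ∃ H : MvPolynomial (Fin 2) k, aeval ξ H = z := by
  rw [Algebra.adjoin_range_eq_range_aeval]
  exact AlgHom.mem_range _

end val

/-- the affine local-ring presentation. -/
def Full (B : Subalgebra k K) (P : Place k K) : Prop :=
  ∀ z : K, P.1 z ≤ 1 → ∃ U ∈ B, ∃ W ∈ B, P.1 W = 1 ∧ z * W = U

theorem core (P : Place k K) (B : Subalgebra k K) (hB1 : ∀ z ∈ B, P.1 z ≤ 1)
    (hfrac : ∀ z : K, ∃ b₁ ∈ B, ∃ b₂ ∈ B, b₂ ≠ 0 ∧ z * b₂ = b₁)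
    {s r W₀ A₀ : K} (hs : P.1 s < 1)
    (hgen : ∀ z ∈ B, P.1 z < 1 → ∃ A₁ ∈ B, ∃ A₂ ∈ B, z = s * A₁ + r * A₂)
    (hW₀B : W₀ ∈ B) (hA₀B : A₀ ∈ B) (hW₀ : P.1 W₀ = 1) (hrel : W₀ * r = s * A₀) :
    s ≠ 0 ∧ ∀ z : K, z ≠ 0 → ∃ n₁ n₂ : ℕ, ∃ U ∈ B, ∃ W ∈ B, P.1 U = 1 ∧ P.1 W = 1 ∧
      z * s ^ n₂ * W = s ^ n₁ * U := by
  have hW₀0 : W₀ ≠ 0 := by rintro rfl; rw [map_zero] at hW₀; exact zero_ne_one hW₀
  have h1 : ∀ z ∈ B, P.1 z < 1 → ∃ A ∈ B, W₀ * z = s * A := by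
    intro z hz hlt
    obtain ⟨A₁, hA₁, A₂, hA₂, rfl⟩ := hgen z hz hlt
    exact ⟨W₀ * A₁ + A₀ * A₂, B.add_mem (B.mul_mem hW₀B hA₁) (B.mul_mem hA₀B hA₂),
      by linear_combination A₂ * hrel⟩
  have hs0 : s ≠ 0 := by
    intro hs0
    obtain ⟨t, ht⟩ := P.2.2 (WithZero.exp (-1 : ℤ))
    obtain ⟨b₁, hb₁, b₂, hb₂, hb₂0, hb⟩ := hfrac t
    have hlt : P.1 b₁ < 1 := by
      rw [← hb, map_mul, ht]
      calc WithZero.exp (-1 : ℤ) * P.1 b₂ ≤ WithZero.exp (-1 : ℤ) * 1 :=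
            mul_le_mul' le_rfl (hB1 b₂ hb₂)
        _ = WithZero.exp (-1 : ℤ) := mul_one _
        _ < 1 := exp_neg_one_lt_one
    obtain ⟨A, _, hA⟩ := h1 b₁ hb₁ hlt
    rw [hs0, zero_mul] at hA
    have hb₁0 : b₁ = 0 := (mul_eq_zero.mp hA).resolve_left hW₀0
    rw [hb₁0] at hb
    have ht0 : t = 0 := (mul_eq_zero.mp hb).resolve_right hb₂0
    rw [ht0, map_zero] at ht
    exact WithZero.exp_ne_zero ht.symm
  have hsle : P.1 s ≤ WithZero.exp (-1 : ℤ) := (lt_one_iff _).mp hs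
  have h3 : ∀ m : ℕ, ∀ z ∈ B, WithZero.exp (-(m : ℤ)) ≤ P.1 z →
      ∃ n : ℕ, ∃ A ∈ B, ∃ W ∈ B, P.1 A = 1 ∧ P.1 W = 1 ∧ W * z = s ^ n * A := by
    intro m
    induction m with
    | zero =>
      intro z hz h
      rw [Nat.cast_zero, neg_zero, WithZero.exp_zero] at h
      exact ⟨0, z, hz, 1, B.one_mem, le_antisymm (hB1 z hz) h, map_one _,
        by rw [pow_zero]⟩
    | succ m ih =>
      intro z hz h
      by_cases hz1 : P.1 z = 1
      · exact ⟨0, z, hz, 1, B.one_mem, hz1, map_one _, by rw [pow_zero]⟩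
      · have hlt : P.1 z < 1 := lt_of_le_of_ne (hB1 z hz) hz1
        obtain ⟨A', hA'B, hA'⟩ := h1 z hz hlt
        have hval : P.1 z = P.1 s * P.1 A' := by
          rw [← map_mul, ← hA', map_mul, hW₀, one_mul]
        have hge : WithZero.exp (-(m : ℤ)) ≤ P.1 A' := by
          by_contra hcon
          rw [not_le, EmbCrit.lt_exp_iff] at hcon
          have h2 : P.1 z ≤ WithZero.exp (-1 : ℤ) * WithZero.exp (-(m : ℤ) - 1) := by
            rw [hval]; exact mul_le_mul' hsle hcon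
          rw [← WithZero.exp_add] at h2
          have h4 := h.trans h2
          rw [WithZero.exp_le_exp] at h4
          push_cast at h4
          omega
        obtain ⟨n, A'', hA''B, W₂, hW₂B, hA''1, hW₂1, e⟩ := ih A' hA'B hge
        refine ⟨n + 1, A'', hA''B, W₂ * W₀, B.mul_mem hW₂B hW₀B, hA''1, ?_, ?_⟩
        · rw [map_mul, hW₂1, hW₀, one_mul]
        · linear_combination W₂ * hA' + s * e
  have h3' : ∀ z ∈ B, z ≠ 0 →
      ∃ n : ℕ, ∃ A ∈ B, ∃ W ∈ B, P.1 A = 1 ∧ P.1 W = 1 ∧ W * z = s ^ n * A := by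
    intro z hz hz0
    refine h3 (P.ord z).toNat z hz ?_
    rw [FF.val_eq_exp_neg_ord P hz0, WithZero.exp_le_exp]
    have := Int.self_le_toNat (P.ord z)
    omega
  refine ⟨hs0, fun z hz0 => ?_⟩
  obtain ⟨b₁, hb₁, b₂, hb₂, hb₂0, hb⟩ := hfrac z
  have hb₁0 : b₁ ≠ 0 := by rw [← hb]; exact mul_ne_zero hz0 hb₂0
  obtain ⟨n₁, A₁, hA₁B, W₁, hW₁B, hA₁1, hW₁1, e₁⟩ := h3' b₁ hb₁ hb₁0
  obtain ⟨n₂, A₂, hA₂B, W₂, hW₂B, hA₂1, hW₂1, e₂⟩ := h3' b₂ hb₂ hb₂0
  refine ⟨n₁, n₂, A₁ * W₂, B.mul_mem hA₁B hW₂B, A₂ * W₁, B.mul_mem hA₂B hW₁B, ?_, ?_, ?_⟩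
  · rw [map_mul, hA₁1, hW₂1, one_mul]
  · rw [map_mul, hA₂1, hW₁1, one_mul]
  · linear_combination (-(z * W₁)) * e₂ + (W₁ * W₂) * hb + W₂ * e₁

theorem full_of_core (P : Place k K) (B : Subalgebra k K) {s : K} (hsB : s ∈ B)
    (hs : P.1 s < 1)
    (hc : s ≠ 0 ∧ ∀ z : K, z ≠ 0 → ∃ n₁ n₂ : ℕ, ∃ U ∈ B, ∃ W ∈ B, P.1 U = 1 ∧ P.1 W = 1 ∧
      z * s ^ n₂ * W = s ^ n₁ * U) : Full B P := by
  obtain ⟨hs0, hc⟩ := hc
  intro z hz
  by_cases hz0 : z = 0
  · exact ⟨0, B.zero_mem, 1, B.one_mem, map_one _, by rw [hz0, zero_mul]⟩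
  obtain ⟨n₁, n₂, U, hUB, W, hWB, hU1, hW1, e⟩ := hc z hz0
  have hspos : 0 < P.1 s := FF.val_pos P hs0
  have hv : P.1 z * P.1 s ^ n₂ = P.1 s ^ n₁ := by
    have := congrArg P.1 e
    rwa [map_mul, map_mul, map_pow, hW1, mul_one, map_mul, map_pow, hU1, mul_one] at this
  have hle : n₂ ≤ n₁ := by
    by_contra hcon
    rw [not_le] at hcon
    have h1 : P.1 s ^ n₂ < P.1 s ^ n₁ := pow_lt_pow_right_of_lt_one₀ hspos hs hcon
    have h2 : P.1 z * P.1 s ^ n₂ ≤ P.1 s ^ n₂ := by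
      calc P.1 z * P.1 s ^ n₂ ≤ 1 * P.1 s ^ n₂ := mul_le_mul' hz le_rfl
        _ = P.1 s ^ n₂ := one_mul _
    rw [hv] at h2
    exact lt_irrefl _ (lt_of_le_of_lt h2 h1)
  refine ⟨s ^ (n₁ - n₂) * U, B.mul_mem (B.pow_mem hsB _) hUB, W, hWB, hW1, ?_⟩
  apply mul_left_cancel₀ (pow_ne_zero n₂ hs0)
  have hp : s ^ n₁ = s ^ n₂ * s ^ (n₁ - n₂) := by rw [← pow_add, Nat.add_sub_cancel' hle]
  linear_combination e + U * hp

theorem val_eq_of_core (P : Place k K) (B : Subalgebra k K) {s : K} (hs : P.1 s < 1)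
    (hc : s ≠ 0 ∧ ∀ z : K, z ≠ 0 → ∃ n₁ n₂ : ℕ, ∃ U ∈ B, ∃ W ∈ B, P.1 U = 1 ∧ P.1 W = 1 ∧
      z * s ^ n₂ * W = s ^ n₁ * U) : P.1 s = WithZero.exp (-1 : ℤ) := by
  obtain ⟨hs0, hc⟩ := hc
  obtain ⟨t, ht⟩ := P.2.2 (WithZero.exp (-1 : ℤ))
  have ht0 : t ≠ 0 := by
    rintro rfl; rw [map_zero] at ht; exact WithZero.exp_ne_zero ht.symm
  obtain ⟨n₁, n₂, U, _, W, _, hU1, hW1, e⟩ := hc t ht0
  have hv : P.1 t * P.1 s ^ n₂ = P.1 s ^ n₁ := by
    have := congrArg P.1 e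
    rwa [map_mul, map_mul, map_pow, hW1, mul_one, map_mul, map_pow, hU1, mul_one] at this
  rw [FF.val_eq_exp_neg_ord P hs0] at hv hs ⊢
  rw [ht, ← WithZero.exp_nsmul, ← WithZero.exp_nsmul, ← WithZero.exp_add, WithZero.exp_inj] at hv
  rw [← WithZero.exp_zero, WithZero.exp_lt_exp] at hs
  rw [WithZero.exp_inj]
  simp only [smul_eq_mul, nsmul_eq_mul] at hv
  have h1 : ((n₁ : ℤ) - n₂) * P.ord s = 1 := by linarith
  rcases Int.mul_eq_one_iff_eq_one_or_neg_one.mp h1 with ⟨_, h⟩ | ⟨_, h⟩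
  · omega
  · omega

/-- a point of the chart at which some partial derivative of a relation does not vanish is
nonsingular, and the other coordinate difference is a uniformizer. -/
theorem affB (P : Place k K) (ξ : Fin 2 → K) (c : Fin 2 → k)
    (hres : ∀ l, P.1 (ξ l - algebraMap k K (c l)) < 1)
    (hK2 : IntermediateField.adjoin k (Set.range ξ) = ⊤)
    (g : MvPolynomial (Fin 2) k) (hg : aeval ξ g = 0) (i i' : Fin 2) (hii' : i ≠ i')
    (hd : eval c (pderiv i g) ≠ 0) :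
    Full (Algebra.adjoin k (Set.range ξ)) P ∧
      P.1 (ξ i' - algebraMap k K (c i')) = WithZero.exp (-1 : ℤ) := by
  obtain ⟨B, hB⟩ : ∃ B : Subalgebra k K, B = Algebra.adjoin k (Set.range ξ) := ⟨_, rfl⟩
  rw [← hB]
  have hmem : ∀ H : MvPolynomial (Fin 2) k, aeval ξ H ∈ B := by
    intro H; rw [hB, mem_adjoin_iff]; exact ⟨H, rfl⟩
  have hrep : ∀ z ∈ B, ∃ H : MvPolynomial (Fin 2) k, aeval ξ H = z := by
    intro z hz; rw [hB, mem_adjoin_iff] at hz; exact hz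
  have hB1 : ∀ z ∈ B, P.1 z ≤ 1 := by
    intro z hz; obtain ⟨H, rfl⟩ := hrep z hz; exact val_aeval_le P ξ c hres H
  have hfrac : ∀ z : K, ∃ b₁ ∈ B, ∃ b₂ ∈ B, b₂ ≠ 0 ∧ z * b₂ = b₁ := by
    intro z
    have hz : z ∈ IntermediateField.adjoin k (Set.range ξ) := by
      rw [hK2]; exact IntermediateField.mem_top
    rw [IntermediateField.mem_adjoin_iff_div] at hz
    obtain ⟨r, hr, s, hs, rfl⟩ := hz
    by_cases hs0 : s = 0
    · exact ⟨0, B.zero_mem, 1, B.one_mem, one_ne_zero, by rw [hs0, div_zero, zero_mul]⟩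
    · exact ⟨r, by rw [hB]; exact hr, s, by rw [hB]; exact hs, hs0, div_mul_cancel₀ r hs0⟩
  have hgc : eval c g = 0 :=
    eval_eq_zero_of_val_lt P ξ c hres g (by rw [hg]; rw [map_zero]; exact zero_lt_one)
  obtain ⟨Gs, hG⟩ := exists_decomp c g
  rw [hgc, C_0, zero_add, sum_two i i' hii'] at hG
  have hd' : eval c (pderiv i g) = eval c (Gs i) := by
    conv_lhs => rw [hG]
    simp [pderiv_mul, pderiv_X_self, pderiv_X_of_ne hii'.symm]
  rw [hd'] at hd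
  have hA1 : P.1 (aeval ξ (Gs i)) = 1 := val_aeval_eq_one P ξ c hres _ hd
  have hrel : aeval ξ (Gs i) * (ξ i - algebraMap k K (c i)) =
      (ξ i' - algebraMap k K (c i')) * (-(aeval ξ (Gs i'))) := by
    have h := congrArg (aeval ξ) hG
    rw [hg, map_add, map_mul, map_mul, map_sub, map_sub, aeval_X, aeval_X, aeval_C, aeval_C] at h
    linear_combination -h
  have hgen : ∀ z ∈ B, P.1 z < 1 → ∃ A₁ ∈ B, ∃ A₂ ∈ B,
      z = (ξ i' - algebraMap k K (c i')) * A₁ + (ξ i - algebraMap k K (c i)) * A₂ := by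
    intro z hz hlt
    obtain ⟨H, rfl⟩ := hrep z hz
    obtain ⟨Hs, hHs⟩ := exists_comb P ξ c hres H hlt
    rw [sum_two i i' hii'] at hHs
    exact ⟨aeval ξ (Hs i'), hmem _, aeval ξ (Hs i), hmem _, by rw [hHs]; ring⟩
  have hsB : ξ i' - algebraMap k K (c i') ∈ B := by
    rw [hB]
    exact Subalgebra.sub_mem _ (Algebra.subset_adjoin ⟨i', rfl⟩) (Subalgebra.algebraMap_mem _ _)
  have hcore := core P B hB1 hfrac (hres i') hgen (hmem (Gs i)) (B.neg_mem (hmem (Gs i')))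
    hA1 hrel
  exact ⟨full_of_core P B hsB (hres i') hcore, val_eq_of_core P B (hres i') hcore⟩

/-- a point of the chart at which both partial derivatives of the generator of the relations
vanish is singular. -/
theorem affA (P : Place k K) (ξ : Fin 2 → K) (c : Fin 2 → k)
    (hres : ∀ l, P.1 (ξ l - algebraMap k K (c l)) < 1)
    (g : MvPolynomial (Fin 2) k) (hg : aeval ξ g = 0)
    (hker : ∀ G : MvPolynomial (Fin 2) k, aeval ξ G = 0 → g ∣ G)
    (hsing : ∀ l, eval c (pderiv l g) = 0)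
    (hfull : Full (Algebra.adjoin k (Set.range ξ)) P) : False := by
  have hgc : eval c g = 0 :=
    eval_eq_zero_of_val_lt P ξ c hres g (by rw [hg]; rw [map_zero]; exact zero_lt_one)
  obtain ⟨t, ht⟩ := P.2.2 (WithZero.exp (-1 : ℤ))
  have ht1 : P.1 t ≤ 1 := by rw [ht]; exact exp_neg_one_lt_one.le
  obtain ⟨U, hUB, W, hWB, hW1, hUW⟩ := hfull t ht1
  have hU : P.1 U = WithZero.exp (-1 : ℤ) := by rw [← hUW, map_mul, hW1, mul_one, ht]
  rw [mem_adjoin_iff] at hUB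
  obtain ⟨Uh, rfl⟩ := hUB
  have hUlt : P.1 (aeval ξ Uh) < 1 := by rw [hU]; exact exp_neg_one_lt_one
  obtain ⟨Hs, hHs⟩ := exists_comb P ξ c hres Uh hUlt
  have hex : ∃ i, P.1 (ξ i - algebraMap k K (c i)) = WithZero.exp (-1 : ℤ) := by
    by_contra hcon
    push Not at hcon
    have hlt : ∀ l, P.1 (ξ l - algebraMap k K (c l)) < WithZero.exp (-1 : ℤ) :=
      fun l => lt_of_le_of_ne ((lt_one_iff _).mp (hres l)) (hcon l)
    have : P.1 (aeval ξ Uh) < WithZero.exp (-1 : ℤ) := by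
      rw [hHs]
      refine Valuation.map_sum_lt P.1 WithZero.exp_ne_zero (fun l _ => ?_)
      rw [map_mul]
      calc P.1 (ξ l - algebraMap k K (c l)) * P.1 (aeval ξ (Hs l))
          ≤ P.1 (ξ l - algebraMap k K (c l)) * 1 :=
            mul_le_mul' le_rfl (val_aeval_le P ξ c hres _)
        _ = P.1 (ξ l - algebraMap k K (c l)) := mul_one _
        _ < WithZero.exp (-1 : ℤ) := hlt l
    rw [hU] at this
    exact lt_irrefl _ this
  obtain ⟨i, hi⟩ := hex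
  obtain ⟨i', hii'⟩ := exists_ne i
  obtain ⟨u, hu⟩ : ∃ u : K, u = ξ i - algebraMap k K (c i) := ⟨_, rfl⟩
  obtain ⟨v, hv⟩ : ∃ v : K, v = ξ i' - algebraMap k K (c i') := ⟨_, rfl⟩
  rw [← hu] at hi
  have hu0 : u ≠ 0 := by
    intro h0; rw [h0, map_zero] at hi; exact WithZero.exp_ne_zero hi.symm
  have hvle : P.1 v ≤ WithZero.exp (-1 : ℤ) := by rw [hv]; exact (lt_one_iff _).mp (hres i')
  have hz1 : P.1 (v / u) ≤ 1 := by
    rw [map_div₀, hi]
    exact (div_le_one₀ (by rw [← hi]; exact FF.val_pos P hu0)).mpr hvle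
  obtain ⟨A, hAB, W', hW'B, hW'1, hzW⟩ := hfull (v / u) hz1
  have hrel : v * W' = u * A := by rw [← hzW]; field_simp
  rw [mem_adjoin_iff] at hAB hW'B
  obtain ⟨Ah, rfl⟩ := hAB
  obtain ⟨Wh, rfl⟩ := hW'B
  obtain ⟨G, hGdef⟩ : ∃ G : MvPolynomial (Fin 2) k,
      G = (X i' - C (c i')) * Wh - (X i - C (c i)) * Ah := ⟨_, rfl⟩
  have hG0 : aeval ξ G = 0 := by
    rw [hGdef, map_sub, map_mul, map_mul, map_sub, map_sub, aeval_X, aeval_X, aeval_C, aeval_C,
      ← hu, ← hv, hrel, sub_self]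
  obtain ⟨Q, hQ⟩ := hker G hG0
  have h1 : eval c (pderiv i' G) = eval c Wh := by
    rw [hGdef]
    simp [pderiv_mul, pderiv_X_self, pderiv_X_of_ne hii']
  have h2 : eval c (pderiv i' G) = 0 := by
    rw [hQ, pderiv_mul, map_add, map_mul, map_mul, hsing i', hgc, zero_mul, zero_mul, add_zero]
  have hWc : eval c Wh = 0 := by rw [← h1, h2]
  have := val_aeval_lt_of_eval P ξ c hres Wh hWc
  rw [hW'1] at this
  exact lt_irrefl _ this

end Groth.Agent.Helper6.JacAff
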