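import Mathlib
import Groth.Agent.Helper6.CoordChange

set_option autoImplicit false
set_option linter.style.haveILetI false
set_option linter.unusedSectionVars false

/-!
# Dehomogenization of ternary forms at a coordinate, and homogenization back
-/

namespace Groth.Agent.Helper6.JacHom

open MvPolynomial

variable {k : Type*} [Field k]

/-- substitution vector: `X_j ↦ 1`, the other two variables to `X 0, X 1`. -/
noncomputable def vec (j : Fin 3) : Fin 3 → MvPolynomial (Fin 2) k :=
  Fin.insertNth (α := fun _ => MvPolynomial (Fin 2) k) j 1 (fun i => X i)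

theorem vec_self (j : Fin 3) : vec (k := k) j j = 1 := by
  unfold vec
  exact Fin.insertNth_apply_same (α := fun _ => MvPolynomial (Fin 2) k) j 1 (fun i => X i)

theorem vec_succAbove (j : Fin 3) (i : Fin 2) : vec (k := k) j (j.succAbove i) = X i := by
  unfold vec
  exact Fin.insertNth_apply_succAbove (α := fun _ => MvPolynomial (Fin 2) k) j 1 (fun i => X i) i

/-- dehomogenization at the index `j`. -/
noncomputable def dehom (j : Fin 3) : MvPolynomial (Fin 3) k →ₐ[k] MvPolynomial (Fin 2) k :=
  aeval (vec j)

theorem dehom_X_self (j : Fin 3) : dehom (k := k) j (X j) = 1 := by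
  rw [dehom, aeval_X, vec_self]

theorem dehom_X_succAbove (j : Fin 3) (i : Fin 2) :
    dehom (k := k) j (X (j.succAbove i)) = X i := by
  rw [dehom, aeval_X, vec_succAbove]

theorem dehom_rename (j : Fin 3) (q : MvPolynomial (Fin 2) k) :
    dehom j (rename j.succAbove q) = q := by
  rw [dehom, aeval_rename]
  have h : vec (k := k) j ∘ j.succAbove = X := by
    funext i; exact vec_succAbove j i
  rw [h, aeval_X_left, AlgHom.id_apply]

theorem aeval_dehom {A : Type*} [CommRing A] [Algebra k A] (j : Fin 3) (c : Fin 2 → A)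
    (E : Fin 3 → A) (hEj : E j = 1) (hE : ∀ i, E (j.succAbove i) = c i)
    (F : MvPolynomial (Fin 3) k) :
    aeval c (dehom j F) = aeval E F := by
  rw [dehom, comp_aeval_apply]
  have hfun : (fun i => aeval c (vec (k := k) j i)) = E := by
    funext i
    rcases Fin.eq_self_or_eq_succAbove j i with h | ⟨i', h⟩
    · rw [h, vec_self, map_one, hEj]
    · rw [h, vec_succAbove, aeval_X, hE]
  rw [hfun]

theorem eval_dehom (j : Fin 3) (c : Fin 2 → k) (E : Fin 3 → k) (hEj : E j = 1)
    (hE : ∀ i, E (j.succAbove i) = c i) (F : MvPolynomial (Fin 3) k) :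
    eval c (dehom j F) = eval E F :=
  aeval_dehom (A := k) j c E hEj hE F

theorem totalDegree_vec_le (j i : Fin 3) : (vec (k := k) j i).totalDegree ≤ 1 := by
  rcases Fin.eq_self_or_eq_succAbove j i with h | ⟨i', h⟩
  · rw [h, vec_self, totalDegree_one]; exact Nat.zero_le _
  · rw [h, vec_succAbove, totalDegree_X]

theorem totalDegree_dehom_le (j : Fin 3) (F : MvPolynomial (Fin 3) k) :
    (dehom j F).totalDegree ≤ F.totalDegree := by
  rw [dehom, aeval_def, eval₂_eq']
  refine totalDegree_finsetSum_le (fun s hs => ?_)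
  have hs' := le_totalDegree hs
  rw [Finsupp.sum_fintype _ _ (fun _ => rfl)] at hs'
  refine (totalDegree_mul _ _).trans ?_
  have h1 : (algebraMap k (MvPolynomial (Fin 2) k) (coeff s F)).totalDegree = 0 := by
    rw [algebraMap_eq, totalDegree_C]
  have h2 : (∏ i, vec (k := k) j i ^ s i).totalDegree ≤ ∑ i, s i := by
    refine (totalDegree_finsetProd _ _).trans (Finset.sum_le_sum (fun i _ => ?_))
    refine (totalDegree_pow _ _).trans ?_
    calc s i * (vec (k := k) j i).totalDegree ≤ s i * 1 :=
          Nat.mul_le_mul_left _ (totalDegree_vec_le j i)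
      _ = s i := mul_one _
  omega

theorem pderiv_dehom (j : Fin 3) (i : Fin 2) (F : MvPolynomial (Fin 3) k) :
    pderiv i (dehom j F) = dehom j (pderiv (j.succAbove i) F) := by
  have h := CoordChange.deriv_aeval
    (pderiv i : Derivation k (MvPolynomial (Fin 2) k) (MvPolynomial (Fin 2) k)) (vec j) F
  rw [dehom, h, Fin.sum_univ_succAbove _ j, vec_self, Derivation.map_one_eq_zero, smul_zero,
    zero_add, Finset.sum_eq_single i]
  · rw [vec_succAbove, pderiv_X_self, smul_eq_mul, mul_one]
  · intro l _ hl
    rw [vec_succAbove, pderiv_X_of_ne hl, smul_zero]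
  · intro h; exact absurd (Finset.mem_univ i) h

/-- homogenization to degree `n` at the index `j`. -/
noncomputable def hom (j : Fin 3) (n : ℕ) (p : MvPolynomial (Fin 2) k) :
    MvPolynomial (Fin 3) k :=
  ∑ r ∈ Finset.range (n + 1), X j ^ (n - r) * rename j.succAbove (homogeneousComponent r p)

theorem dehom_hom (j : Fin 3) (n : ℕ) (p : MvPolynomial (Fin 2) k) (hp : p.totalDegree ≤ n) :
    dehom j (hom j n p) = p := by
  rw [hom, map_sum]
  have h : ∀ r ∈ Finset.range (n + 1),
      dehom j (X j ^ (n - r) * rename j.succAbove (homogeneousComponent r p)) =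
        homogeneousComponent r p := by
    intro r _
    rw [map_mul, map_pow, dehom_X_self, one_pow, one_mul, dehom_rename]
  rw [Finset.sum_congr rfl h]
  have hsub : Finset.range (p.totalDegree + 1) ⊆ Finset.range (n + 1) :=
    Finset.range_subset_range.mpr (by omega)
  have hz : ∀ r ∈ Finset.range (n + 1), r ∉ Finset.range (p.totalDegree + 1) →
      homogeneousComponent r p = 0 := by
    intro r _ hr
    apply homogeneousComponent_eq_zero
    rw [Finset.mem_range] at hr; omega
  rw [← Finset.sum_subset hsub hz]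
  apply sum_homogeneousComponent

theorem hom_isHomogeneous (j : Fin 3) (n : ℕ) (p : MvPolynomial (Fin 2) k) :
    (hom j n p).IsHomogeneous n := by
  rw [hom]
  refine IsHomogeneous.sum _ _ _ (fun r hr => ?_)
  have hr' : r ≤ n := by rw [Finset.mem_range] at hr; omega
  have h := (isHomogeneous_X_pow (R := k) j (n - r)).mul
    ((homogeneousComponent_isHomogeneous r p).rename_isHomogeneous (f := j.succAbove))
  rwa [Nat.sub_add_cancel hr'] at h

theorem eq_zero_of_dehom_eq_zero [Infinite k] (j : Fin 3) {n : ℕ} {D : MvPolynomial (Fin 3) k}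
    (hD : D.IsHomogeneous n) (h0 : dehom j D = 0) : D = 0 := by
  have h1 : D * X j = 0 := by
    apply MvPolynomial.funext
    intro e
    rw [map_mul, eval_X, map_zero]
    by_cases hej : e j = 0
    · rw [hej, mul_zero]
    · have hsc := CoordChange.aeval_smul_of_isHomogeneous (K := k) hD
        (fun i => (e j)⁻¹ * e i) (e j)
      have he : (fun i => e j * ((e j)⁻¹ * e i)) = e := by
        funext i; rw [← mul_assoc, mul_inv_cancel₀ hej, one_mul]
      rw [he] at hsc
      have h2 := aeval_dehom (A := k) j (fun i => (e j)⁻¹ * e (j.succAbove i))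
        (fun i => (e j)⁻¹ * e i) (inv_mul_cancel₀ hej) (fun _ => rfl) D
      rw [h0, map_zero] at h2
      have h3 : eval e D = 0 := by
        show aeval e D = 0
        rw [hsc, ← h2, mul_zero]
      rw [h3, zero_mul]
  rcases mul_eq_zero.mp h1 with h | h
  · exact h
  · exact absurd h (X_ne_zero j)

/-- if the dehomogenization of an irreducible form factors with a non-unit first factor, then the
second factor is a unit. -/
theorem isUnit_of_dehom_eq_mul [Infinite k] (j : Fin 3) {f : MvPolynomial (Fin 3) k}
    (hf : Irreducible f) {m : ℕ} (hhom : f.IsHomogeneous m) {g' Q : MvPolynomial (Fin 2) k}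
    (hg' : ¬ IsUnit g') (h : dehom j f = g' * Q) : IsUnit Q := by
  have hf0 : f ≠ 0 := hf.ne_zero
  have hg0 : dehom j f ≠ 0 := fun h0 => hf0 (eq_zero_of_dehom_eq_zero j hhom h0)
  have hg'0 : g' ≠ 0 := by rintro rfl; rw [zero_mul] at h; exact hg0 h
  have hQ0 : Q ≠ 0 := by rintro rfl; rw [mul_zero] at h; exact hg0 h
  have hdeg : g'.totalDegree + Q.totalDegree ≤ m := by
    rw [← totalDegree_mul_of_isDomain hg'0 hQ0, ← h]
    exact (totalDegree_dehom_le j f).trans hhom.totalDegree_le
  obtain ⟨A, hA⟩ : ∃ A, A = X j ^ (m - (g'.totalDegree + Q.totalDegree)) *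
      (hom j g'.totalDegree g' * hom j Q.totalDegree Q) := ⟨_, rfl⟩
  have hAhom : A.IsHomogeneous m := by
    have h1 := (isHomogeneous_X_pow (R := k) j (m - (g'.totalDegree + Q.totalDegree))).mul
      ((hom_isHomogeneous j g'.totalDegree g').mul (hom_isHomogeneous j Q.totalDegree Q))
    rw [Nat.sub_add_cancel hdeg] at h1
    rw [hA]; exact h1
  have hAde : dehom j A = dehom j f := by
    rw [hA, map_mul, map_pow, dehom_X_self, one_pow, one_mul, map_mul,
      dehom_hom j _ g' le_rfl, dehom_hom j _ Q le_rfl, h]
  have hfA : f = A := by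
    have := eq_zero_of_dehom_eq_zero j (hhom.sub hAhom) (by rw [map_sub, hAde, sub_self])
    exact sub_eq_zero.mp this
  have hfac : f = hom j g'.totalDegree g' *
      (X j ^ (m - (g'.totalDegree + Q.totalDegree)) * hom j Q.totalDegree Q) := by
    rw [hfA, hA]; ring
  rcases hf.isUnit_or_isUnit hfac with hu | hu
  · exfalso; apply hg'
    have := hu.map (dehom j)
    rwa [dehom_hom j _ g' le_rfl] at this
  · have := hu.map (dehom j)
    rwa [map_mul, map_pow, dehom_X_self, one_pow, one_mul, dehom_hom j _ Q le_rfl] at this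

end Groth.Agent.Helper6.JacHom
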