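import Mathlib
import Groth.Agent.Helper6.PlaneDeg

set_option autoImplicit false
set_option linter.style.haveILetI false
set_option linter.unusedSectionVars false

/-!
# The ideal of relations of an affine plane model is principal
-/

namespace Groth.Agent.Helper6.JacKer

open FunFld
open Groth.Agent.Helper5
open Groth.Agent.Helper6.PlaneGenus Groth.Agent.Helper6.PlaneSetup Groth.Agent.Helper6.PlaneAlg
open Groth.Agent.Helper6.PlaneDeg
open scoped IntermediateField
open Polynomial
open scoped Polynomial.Bivariate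

universe u v
variable {k : Type u} {K : Type v} [Field k] [Field K] [Algebra k K]

theorem exists_generator [IsAlgClosed k] (hK : IsFunctionField k K) (x y : K)
    (hxy : IntermediateField.adjoin k ({x, y} : Set K) = ⊤) :
    ∃ g' : MvPolynomial (Fin 2) k, g' ≠ 0 ∧ MvPolynomial.aeval ![x, y] g' = 0 ∧
      ∀ H : MvPolynomial (Fin 2) k, MvPolynomial.aeval ![x, y] H = 0 → g' ∣ H := by
  classical
  obtain ⟨x', c, d, G⟩ := exists_gen hK x y hxy
  obtain ⟨a, ha⟩ := exists_relation hK G
  obtain ⟨T, hT⟩ : ∃ T : k[X][Y],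
      T = ∑ i : Idx d d, C (C (a i) * X ^ (i.2 : ℕ)) * Y ^ (i.1 : ℕ) := ⟨_, rfl⟩
  have hTdeg : T.degree < (d : WithBot ℕ) := by
    rw [hT]
    refine lt_of_le_of_lt (Polynomial.degree_sum_le _ _) ?_
    refine (Finset.sup_lt_iff (WithBot.bot_lt_coe d)).mpr ?_
    intro i _
    exact lt_of_le_of_lt (Polynomial.degree_C_mul_X_pow_le _ _) (Nat.cast_lt.mpr i.1.2)
  obtain ⟨M, hM⟩ : ∃ M : k[X][Y], M = Y ^ d - T := ⟨_, rfl⟩
  have hMmonic : M.Monic := by rw [hM]; exact Polynomial.monic_X_pow_sub hTdeg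
  have hMdeg : M.degree = (d : WithBot ℕ) := by
    rw [hM, degree_sub_eq_left_of_degree_lt (by rw [degree_X_pow]; exact hTdeg), degree_X_pow]
  have hMnat : M.natDegree = d := natDegree_eq_of_degree_eq_some hMdeg
  have hevT : Polynomial.aevalAeval x' y T = y ^ d := by
    rw [hT, map_sum, ha]
    apply Finset.sum_congr rfl
    intro i _
    rw [map_mul, map_pow, Polynomial.aevalAeval_C, Polynomial.aevalAeval_Y, map_mul, map_pow,
      Polynomial.aeval_C, Polynomial.aeval_X, Algebra.smul_def]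
    show _ = algebraMap k K (a i) * (x' ^ (i.2 : ℕ) * y ^ (i.1 : ℕ))
    rw [mul_assoc]
  have hevM : Polynomial.aevalAeval x' y M = 0 := by
    rw [hM, map_sub, map_pow, Polynomial.aevalAeval_Y, hevT, sub_self]
  refine ⟨(Φ c).symm M, (EmbeddingLike.map_ne_zero_iff).mpr hMmonic.ne_zero, ?_, ?_⟩
  · rw [← ev_Φ G, AlgEquiv.apply_symm_apply, hevM]
  · intro H hH
    have h1 : Polynomial.aevalAeval x' y (Φ c H) = 0 := by rw [ev_Φ G, hH]
    have h2 := dvd_of_ev_eq_zero hK G hMmonic hMnat hevM _ h1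
    have h3 := map_dvd (Φ c).symm h2
    rwa [AlgEquiv.symm_apply_apply] at h3

theorem exists_generator' [IsAlgClosed k] (hK : IsFunctionField k K) (ξ : Fin 2 → K)
    (hξ : IntermediateField.adjoin k (Set.range ξ) = ⊤) :
    ∃ g' : MvPolynomial (Fin 2) k, g' ≠ 0 ∧ MvPolynomial.aeval ξ g' = 0 ∧
      ∀ H : MvPolynomial (Fin 2) k, MvPolynomial.aeval ξ H = 0 → g' ∣ H := by
  have e1 : (![ξ 0, ξ 1] : Fin 2 → K) = ξ := by
    funext l; fin_cases l <;> rfl
  have e2 : Set.range ξ = {ξ 0, ξ 1} := by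
    ext z
    constructor
    · rintro ⟨l, rfl⟩
      fin_cases l
      · exact Or.inl rfl
      · exact Or.inr rfl
    · intro hz
      simp only [Set.mem_insert_iff, Set.mem_singleton_iff] at hz
      rcases hz with h | h
      · exact ⟨0, h.symm⟩
      · exact ⟨1, h.symm⟩
  rw [e2] at hξ
  have := exists_generator hK (ξ 0) (ξ 1) hξ
  rwa [e1] at this

theorem not_isUnit_of_generator {ξ : Fin 2 → K} {g' : MvPolynomial (Fin 2) k}
    (hg : MvPolynomial.aeval ξ g' = 0) : ¬ IsUnit g' := by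
  intro hu
  have := hu.map (MvPolynomial.aeval ξ)
  rw [hg] at this
  exact not_isUnit_zero this

end Groth.Agent.Helper6.JacKer
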