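import Mathlib
import Groth.Agent.Helper6.JacAff
import Groth.Agent.Helper6.JacKer
import Groth.Agent.Helper6.JacHom

set_option autoImplicit false
set_option linter.style.haveILetI false
set_option linter.unusedSectionVars false

/-!
# The Jacobian criterion for plane models
-/

namespace Groth.Agent.Helper6.JacMain

open FunFld MvPolynomial
open Groth.Agent.Helper5
open Groth.Agent.Helper6.JacAff Groth.Agent.Helper6.JacHom

universe u v
variable {k : Type u} {K : Type v} [Field k] [Field K] [Algebra k K]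

section chart
variable (φ : Fin 3 → K) (P : Place k K) (j : Fin 3)

/-- affine coordinates of the chart `j`. -/
def xi : Fin 2 → K := fun i => φ (j.succAbove i) / φ j

theorem adjoin_xi_eq (hj0 : φ j ≠ 0) :
    Algebra.adjoin k (Set.range (xi φ j)) = Algebra.adjoin k (Set.range fun i => φ i / φ j) := by
  apply le_antisymm
  · apply Algebra.adjoin_mono
    rintro _ ⟨i, rfl⟩
    exact ⟨j.succAbove i, rfl⟩
  · apply Algebra.adjoin_le
    rintro _ ⟨i, rfl⟩
    show φ i / φ j ∈ Algebra.adjoin k (Set.range (xi φ j))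
    rcases Fin.eq_self_or_eq_succAbove j i with h | ⟨i', h⟩
    · rw [h, div_self hj0]; exact Subalgebra.one_mem _
    · rw [h]; exact Algebra.subset_adjoin ⟨i', rfl⟩

theorem nonsingular_iff_full (hj0 : φ j ≠ 0) (hj : ∀ i, P.1 (φ i) ≤ P.1 (φ j)) :
    IsNonsingularAt φ P ↔ Full (Algebra.adjoin k (Set.range (xi φ j))) P := by
  rw [adjoin_xi_eq φ j hj0]
  constructor
  · intro hns z hz
    obtain ⟨j', hj'0, hj'max, u, hu, w, hw, hw1, hzw⟩ := hns z hz
    exact PlaneAlg.transfer φ P (Algebra.adjoin k (Set.range fun i => φ i / φ j)) (φ j) j' hj0 hj'0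
      (fun i => Algebra.subset_adjoin ⟨i, rfl⟩)
      (le_antisymm (hj j') (hj'max j)) hu hw hw1 hzw
  · intro hfull z hz
    obtain ⟨U, hU, W, hW, hW1, hzW⟩ := hfull z hz
    exact ⟨j, hj0, hj, U, hU, W, hW, hW1, hzW⟩

end chart

theorem s11072 [IsAlgClosed k] (hK : IsFunctionField k K) (φ : Fin 3 → K)
    (hφ : LinearIndependent k φ)
    (hbir : IntermediateField.adjoin k (Set.range fun i => φ i / φ 0) = ⊤)
    (f : MvPolynomial (Fin 3) k) (hf : Irreducible f) (hhom : f.IsHomogeneous f.totalDegree)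
    (hfφ : aeval φ f = 0) (P : Place k K) (j : Fin 3)
    (hj : ∀ i, P.1 (φ i) ≤ P.1 (φ j)) (a : Fin 3 → P.O)
    (ha : ∀ i, ((a i : P.O) : K) = φ i / φ j) :
    ¬ IsNonsingularAt φ P ↔
      ∀ l : Fin 3, aeval (fun i => IsLocalRing.residue P.O (a i)) (pderiv l f) = 0 := by
  classical
  have hj0 : φ j ≠ 0 := hφ.ne_zero j
  have h00 : φ 0 ≠ 0 := hφ.ne_zero 0
  have hdeg1 : P.deg = 1 := FF.deg_eq_one_of_isAlgClosed hK P
  have hEex : ∀ i, ∃ e : k, P.1 (φ i / φ j - algebraMap k K e) < 1 := by
    intro i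
    apply FF.exists_const_of_deg_one P hdeg1
    rw [← ha i]; exact (a i).2
  choose E hE using hEex
  have hEj : E j = 1 := by
    have h := hE j
    rw [div_self hj0] at h
    have h1 : P.1 (algebraMap k K (1 - E j)) < 1 := by rwa [map_sub, map_one]
    by_contra hne
    have h2 : (1 : k) - E j ≠ 0 := sub_ne_zero.mpr (Ne.symm hne)
    rw [FF.val_algebraMap P h2] at h1
    exact lt_irrefl _ h1
  have hresa : ∀ i, IsLocalRing.residue P.O (a i) =
      algebraMap k (IsLocalRing.ResidueField P.O) (E i) := by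
    intro i
    have h1 : IsLocalRing.residue P.O (a i - algebraMap k P.O (E i)) = 0 := by
      rw [FF.residue_eq_zero_iff]
      have h2 := hE i
      rw [← ha i] at h2
      exact h2
    rw [map_sub, sub_eq_zero] at h1
    rw [h1]; rfl
  have hfun : (fun i => IsLocalRing.residue P.O (a i)) =
      fun i => algebraMap k (IsLocalRing.ResidueField P.O) (E i) := funext hresa
  have hev : ∀ p : MvPolynomial (Fin 3) k,
      aeval (fun i => IsLocalRing.residue P.O (a i)) p =
        algebraMap k (IsLocalRing.ResidueField P.O) (eval E p) := by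
    intro p
    rw [hfun]
    have h := comp_aeval_apply (f := E) (Algebra.ofId k (IsLocalRing.ResidueField P.O)) p
    exact h.symm
  have hinj : Function.Injective (algebraMap k (IsLocalRing.ResidueField P.O)) :=
    (algebraMap k _).injective
  have hRHS : (∀ l : Fin 3,
      aeval (fun i => IsLocalRing.residue P.O (a i)) (pderiv l f) = 0) ↔
      ∀ l : Fin 3, eval E (pderiv l f) = 0 := by
    refine forall_congr' (fun l => ?_)
    rw [hev, map_eq_zero_iff _ hinj]
  rw [hRHS]
  obtain ⟨ξ, hξ⟩ : ∃ ξ : Fin 2 → K, ξ = xi φ j := ⟨_, rfl⟩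
  obtain ⟨c, hc⟩ : ∃ c : Fin 2 → k, c = fun i => E (j.succAbove i) := ⟨_, rfl⟩
  have hci : ∀ i, c i = E (j.succAbove i) := fun i => by rw [hc]
  have hξi : ∀ i, ξ i = φ (j.succAbove i) / φ j := fun i => by rw [hξ]; rfl
  have hres : ∀ l, P.1 (ξ l - algebraMap k K (c l)) < 1 := by
    intro l; rw [hξi, hci]; exact hE (j.succAbove l)
  have hK2 : IntermediateField.adjoin k (Set.range ξ) = ⊤ := by
    have h1 := EmbLoc.adjoin_ratio_eq_top φ 0 j h00 hj0 hbir
    rw [eq_top_iff, ← h1, IntermediateField.adjoin_le_iff]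
    rintro _ ⟨i, rfl⟩
    show φ i / φ j ∈ IntermediateField.adjoin k (Set.range ξ)
    rcases Fin.eq_self_or_eq_succAbove j i with h | ⟨i', h⟩
    · rw [h, div_self hj0]; exact one_mem _
    · rw [h]; exact IntermediateField.subset_adjoin k _ ⟨i', hξi i'⟩
  obtain ⟨g, hg⟩ : ∃ g, g = dehom j f := ⟨_, rfl⟩
  have hgξ : aeval ξ g = 0 := by
    rw [hg, aeval_dehom j ξ (fun i => φ i / φ j) (div_self hj0) (fun i => (hξi i).symm) f]
    have h := CoordChange.aeval_smul_of_isHomogeneous hhom φ (φ j)⁻¹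
    have e : (fun i => (φ j)⁻¹ * φ i) = fun i => φ i / φ j := by
      funext i; rw [div_eq_inv_mul]
    rw [e, hfφ, mul_zero] at h
    exact h
  have hpd : ∀ i : Fin 2, eval c (pderiv i g) = eval E (pderiv (j.succAbove i) f) := by
    intro i
    rw [hg, pderiv_dehom]
    exact eval_dehom j c E hEj (fun i => (hci i).symm) _
  have hfE : eval E f = 0 := by
    have h1 : eval c g = eval E f := by
      rw [hg]; exact eval_dehom j c E hEj (fun i => (hci i).symm) f
    rw [← h1]
    exact eval_eq_zero_of_val_lt P ξ c hres g (by rw [hgξ]; rw [map_zero]; exact zero_lt_one)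
  have hEuler : eval E (pderiv j f) =
      - ∑ i : Fin 2, c i * eval E (pderiv (j.succAbove i) f) := by
    have h := congrArg (eval E) hhom.sum_X_mul_pderiv
    simp only [map_sum, map_mul, eval_X, map_nsmul, hfE, smul_zero] at h
    rw [Fin.sum_univ_succAbove _ j, hEj, one_mul] at h
    have h2 : ∑ i : Fin 2, c i * eval E (pderiv (j.succAbove i) f) =
        ∑ i : Fin 2, E (j.succAbove i) * eval E (pderiv (j.succAbove i) f) :=
      Finset.sum_congr rfl (fun i _ => by rw [hci])
    rw [h2]; linear_combination h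
  have hkey : (∀ l : Fin 3, eval E (pderiv l f) = 0) ↔ ∀ i : Fin 2, eval c (pderiv i g) = 0 := by
    constructor
    · intro h i; rw [hpd]; exact h _
    · intro h l
      rcases Fin.eq_self_or_eq_succAbove j l with hl | ⟨i, hl⟩
      · rw [hl, hEuler]
        simp only [← hpd, h, mul_zero, Finset.sum_const_zero, neg_zero]
      · rw [hl, ← hpd]; exact h i
  rw [hkey, nonsingular_iff_full φ P j hj0 hj, ← hξ]
  constructor
  · intro hnf
    by_contra hne
    push Not at hne
    obtain ⟨i, hi⟩ := hne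
    obtain ⟨i', hii'⟩ := JacAff.exists_ne i
    exact hnf (affB P ξ c hres hK2 g hgξ i i' hii' hi).1
  · intro hsing hfull
    obtain ⟨g', hg'0, hg'ξ, hg'd⟩ := JacKer.exists_generator' hK ξ hK2
    have hg'nu : ¬ IsUnit g' := JacKer.not_isUnit_of_generator hg'ξ
    obtain ⟨Q, hQ⟩ := hg'd g hgξ
    have hQu : IsUnit Q := isUnit_of_dehom_eq_mul j hf hhom hg'nu (by rw [← hg]; exact hQ)
    have hker : ∀ G : MvPolynomial (Fin 2) k, aeval ξ G = 0 → g ∣ G := by
      intro G hG
      rw [hQ]
      exact hQu.mul_right_dvd.mpr (hg'd G hG)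
    exact affA P ξ c hres g hgξ hker hsing hfull

end Groth.Agent.Helper6.JacMain
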