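import Mathlib
import Groth.Agent.Helper6.CoordChange

set_option autoImplicit false
set_option linter.style.haveILetI false
set_option linter.unusedSectionVars false

/-!
# Dehomogenization at the zeroth coordinate, any number of variables
-/

namespace Groth.Agent.Helper6.JacN1

open MvPolynomial

variable {k : Type*} [Field k] {n : ℕ}

/-- substitution vector: `X_0 ↦ 1`, `X_{i+1} ↦ X_i`. -/
noncomputable def vec : Fin (n + 1) → MvPolynomial (Fin n) k :=
  Fin.cons (α := fun _ => MvPolynomial (Fin n) k) 1 (fun i => X i)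

theorem vec_zero : vec (k := k) (n := n) 0 = 1 := by
  unfold vec
  exact Fin.cons_zero (α := fun _ => MvPolynomial (Fin n) k) 1 (fun i => X i)

theorem vec_succ (i : Fin n) : vec (k := k) i.succ = X i := by
  unfold vec
  exact Fin.cons_succ (α := fun _ => MvPolynomial (Fin n) k) 1 (fun i => X i) i

/-- dehomogenization at the index `0`. -/
noncomputable def dehom : MvPolynomial (Fin (n + 1)) k →ₐ[k] MvPolynomial (Fin n) k :=
  aeval vec

theorem dehom_X_zero : dehom (k := k) (n := n) (X 0) = 1 := by
  rw [dehom, aeval_X, vec_zero]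

theorem dehom_X_succ (i : Fin n) : dehom (k := k) (X i.succ) = X i := by
  rw [dehom, aeval_X, vec_succ]

theorem dehom_rename (q : MvPolynomial (Fin n) k) : dehom (rename Fin.succ q) = q := by
  rw [dehom, aeval_rename]
  have h : vec (k := k) (n := n) ∘ Fin.succ = X := by
    funext i; exact vec_succ i
  rw [h, aeval_X_left, AlgHom.id_apply]

theorem aeval_dehom {A : Type*} [CommRing A] [Algebra k A] (c : Fin n → A)
    (E : Fin (n + 1) → A) (hE0 : E 0 = 1) (hE : ∀ i, E i.succ = c i)
    (F : MvPolynomial (Fin (n + 1)) k) :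
    aeval c (dehom F) = aeval E F := by
  rw [dehom, comp_aeval_apply]
  have hfun : (fun i => aeval c (vec (k := k) (n := n) i)) = E := by
    funext i
    rcases Fin.eq_zero_or_eq_succ i with h | ⟨i', h⟩
    · rw [h, vec_zero, map_one, hE0]
    · rw [h, vec_succ, aeval_X, hE]
  rw [hfun]

theorem eval_dehom (c : Fin n → k) (E : Fin (n + 1) → k) (hE0 : E 0 = 1)
    (hE : ∀ i, E i.succ = c i) (F : MvPolynomial (Fin (n + 1)) k) :
    eval c (dehom F) = eval E F :=
  aeval_dehom (A := k) c E hE0 hE F

theorem pderiv_dehom (i : Fin n) (F : MvPolynomial (Fin (n + 1)) k) :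
    pderiv i (dehom F) = dehom (pderiv i.succ F) := by
  have h := CoordChange.deriv_aeval
    (pderiv i : Derivation k (MvPolynomial (Fin n) k) (MvPolynomial (Fin n) k)) vec F
  rw [dehom, h, Fin.sum_univ_succ, vec_zero, Derivation.map_one_eq_zero, smul_zero,
    zero_add, Finset.sum_eq_single i]
  · rw [vec_succ, pderiv_X_self, smul_eq_mul, mul_one]
  · intro l _ hl
    rw [vec_succ, pderiv_X_of_ne hl, smul_zero]
  · intro h; exact absurd (Finset.mem_univ i) h

/-- homogenization to degree `N` at the index `0`. -/
noncomputable def hom (N : ℕ) (p : MvPolynomial (Fin n) k) : MvPolynomial (Fin (n + 1)) k :=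
  ∑ r ∈ Finset.range (N + 1), X 0 ^ (N - r) * rename Fin.succ (homogeneousComponent r p)

theorem dehom_hom (N : ℕ) (p : MvPolynomial (Fin n) k) (hp : p.totalDegree ≤ N) :
    dehom (hom N p) = p := by
  rw [hom, map_sum]
  have h : ∀ r ∈ Finset.range (N + 1),
      dehom (X 0 ^ (N - r) * rename Fin.succ (homogeneousComponent r p)) =
        homogeneousComponent r p := by
    intro r _
    rw [map_mul, map_pow, dehom_X_zero, one_pow, one_mul, dehom_rename]
  rw [Finset.sum_congr rfl h]
  have hsub : Finset.range (p.totalDegree + 1) ⊆ Finset.range (N + 1) :=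
    Finset.range_subset_range.mpr (by omega)
  have hz : ∀ r ∈ Finset.range (N + 1), r ∉ Finset.range (p.totalDegree + 1) →
      homogeneousComponent r p = 0 := by
    intro r _ hr
    apply homogeneousComponent_eq_zero
    rw [Finset.mem_range] at hr; omega
  rw [← Finset.sum_subset hsub hz]
  apply sum_homogeneousComponent

theorem hom_isHomogeneous (N : ℕ) (p : MvPolynomial (Fin n) k) :
    (hom N p).IsHomogeneous N := by
  rw [hom]
  refine IsHomogeneous.sum _ _ _ (fun r hr => ?_)
  have hr' : r ≤ N := by rw [Finset.mem_range] at hr; omega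
  have h := (isHomogeneous_X_pow (R := k) (0 : Fin (n + 1)) (N - r)).mul
    ((homogeneousComponent_isHomogeneous r p).rename_isHomogeneous (f := Fin.succ))
  rwa [Nat.sub_add_cancel hr'] at h

end Groth.Agent.Helper6.JacN1
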