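import Mathlib
import Groth.Agent.Helper6.JacAff

set_option autoImplicit false
set_option linter.style.haveILetI false
set_option linter.unusedSectionVars false

/-!
# Affine charts in any number of variables: Taylor expansion and the local ring
-/

namespace Groth.Agent.Helper6.JacN2

open FunFld MvPolynomial
open Groth.Agent.Helper5
open Groth.Agent.Helper6.JacAff

universe u v
variable {k : Type u} {K : Type v} [Field k] [Field K] [Algebra k K]
variable {ι : Type*} [Fintype ι] [DecidableEq ι]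

/-- Taylor expansion to first order at a point. -/
theorem exists_decomp (c : ι → k) (H : MvPolynomial ι k) :
    ∃ Hs : ι → MvPolynomial ι k,
      H = C (eval c H) + ∑ l, (X l - C (c l)) * Hs l := by
  induction H using MvPolynomial.induction_on with
  | C a => exact ⟨fun _ => 0, by simp⟩
  | add p q hp hq =>
    obtain ⟨Ps, hP⟩ := hp
    obtain ⟨Qs, hQ⟩ := hq
    refine ⟨fun l => Ps l + Qs l, ?_⟩
    rw [map_add, C_add]
    simp only [mul_add, Finset.sum_add_distrib]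
    linear_combination hP + hQ
  | mul_X p i hp =>
    obtain ⟨Ps, hP⟩ := hp
    refine ⟨fun l => Ps l * X i + (if l = i then C (eval c p) else 0), ?_⟩
    rw [map_mul, eval_X, C_mul]
    simp only [mul_add, Finset.sum_add_distrib, mul_ite, mul_zero, Finset.sum_ite_eq',
      Finset.sum_ite_eq, Finset.mem_univ, if_true]
    have hs : ∑ l, (X l - C (c l)) * (Ps l * X i) = (∑ l, (X l - C (c l)) * Ps l) * X i := by
      rw [Finset.sum_mul]; exact Finset.sum_congr rfl (fun l _ => by ring)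
    rw [hs]
    linear_combination (X i) * hP

section val
variable (P : Place k K) (ξ : ι → K) (c : ι → k)

theorem val_xi_le (hres : ∀ l, P.1 (ξ l - algebraMap k K (c l)) < 1) (l : ι) :
    P.1 (ξ l) ≤ 1 :=
  FF.val_le_one_of_residue P (hres l)

theorem val_aeval_le (hres : ∀ l, P.1 (ξ l - algebraMap k K (c l)) < 1)
    (H : MvPolynomial ι k) : P.1 (aeval ξ H) ≤ 1 := by
  induction H using MvPolynomial.induction_on with
  | C a => rw [aeval_C]; exact P.2.1 a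
  | add p q hp hq => rw [map_add]; exact (P.1.map_add _ _).trans (max_le hp hq)
  | mul_X p i hp =>
    rw [map_mul, aeval_X, map_mul]; exact mul_le_one' hp (val_xi_le P ξ c hres i)

theorem aeval_decomp (H : MvPolynomial ι k) (Hs : ι → MvPolynomial ι k)
    (hH : H = C (eval c H) + ∑ l, (X l - C (c l)) * Hs l) :
    aeval ξ H = algebraMap k K (eval c H) +
      ∑ l, (ξ l - algebraMap k K (c l)) * aeval ξ (Hs l) := by
  have h := congrArg (aeval ξ) hH
  rw [map_add, aeval_C, map_sum] at h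
  rw [h]
  congr 1
  refine Finset.sum_congr rfl (fun l _ => ?_)
  rw [map_mul, map_sub, aeval_X, aeval_C]

theorem val_aeval_sub_lt (hres : ∀ l, P.1 (ξ l - algebraMap k K (c l)) < 1)
    (H : MvPolynomial ι k) : P.1 (aeval ξ H - algebraMap k K (eval c H)) < 1 := by
  obtain ⟨Hs, hH⟩ := exists_decomp c H
  rw [aeval_decomp ξ c H Hs hH, add_sub_cancel_left]
  refine Valuation.map_sum_lt P.1 one_ne_zero (fun l _ => ?_)
  rw [map_mul]
  calc P.1 (ξ l - algebraMap k K (c l)) * P.1 (aeval ξ (Hs l))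
      ≤ P.1 (ξ l - algebraMap k K (c l)) * 1 :=
        mul_le_mul' le_rfl (val_aeval_le P ξ c hres _)
    _ = P.1 (ξ l - algebraMap k K (c l)) := mul_one _
    _ < 1 := hres l

theorem eval_eq_zero_of_val_lt (hres : ∀ l, P.1 (ξ l - algebraMap k K (c l)) < 1)
    (H : MvPolynomial ι k) (h : P.1 (aeval ξ H) < 1) : eval c H = 0 :=
  (FF.val_lt_one_iff_of_residue P (val_aeval_sub_lt P ξ c hres H)).mp h

theorem val_aeval_eq_one (hres : ∀ l, P.1 (ξ l - algebraMap k K (c l)) < 1)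
    (H : MvPolynomial ι k) (h : eval c H ≠ 0) : P.1 (aeval ξ H) = 1 :=
  FF.val_eq_one_of_residue P (val_aeval_sub_lt P ξ c hres H) h

theorem val_aeval_lt_of_eval (hres : ∀ l, P.1 (ξ l - algebraMap k K (c l)) < 1)
    (H : MvPolynomial ι k) (h : eval c H = 0) : P.1 (aeval ξ H) < 1 :=
  (FF.val_lt_one_iff_of_residue P (val_aeval_sub_lt P ξ c hres H)).mpr h

theorem exists_comb (hres : ∀ l, P.1 (ξ l - algebraMap k K (c l)) < 1)
    (H : MvPolynomial ι k) (h : P.1 (aeval ξ H) < 1) :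
    ∃ Hs : ι → MvPolynomial ι k,
      aeval ξ H = ∑ l, (ξ l - algebraMap k K (c l)) * aeval ξ (Hs l) := by
  obtain ⟨Hs, hH⟩ := exists_decomp c H
  refine ⟨Hs, ?_⟩
  rw [aeval_decomp ξ c H Hs hH, eval_eq_zero_of_val_lt P ξ c hres H h, map_zero, zero_add]

theorem mem_adjoin_iff (z : K) :
    z ∈ Algebra.adjoin k (Set.range ξ) ↔ ∃ H : MvPolynomial ι k, aeval ξ H = z := by
  rw [Algebra.adjoin_range_eq_range_aeval]
  exact AlgHom.mem_range _

end val

theorem core' (P : Place k K) (B : Subalgebra k K) (hB1 : ∀ z ∈ B, P.1 z ≤ 1)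
    (hfrac : ∀ z : K, ∃ b₁ ∈ B, ∃ b₂ ∈ B, b₂ ≠ 0 ∧ z * b₂ = b₁)
    {s W₀ : K} (hs : P.1 s < 1) (hW₀B : W₀ ∈ B) (hW₀ : P.1 W₀ = 1)
    (h1 : ∀ z ∈ B, P.1 z < 1 → ∃ A ∈ B, W₀ * z = s * A) :
    s ≠ 0 ∧ ∀ z : K, z ≠ 0 → ∃ n₁ n₂ : ℕ, ∃ U ∈ B, ∃ W ∈ B, P.1 U = 1 ∧ P.1 W = 1 ∧
      z * s ^ n₂ * W = s ^ n₁ * U := by
  have hW₀0 : W₀ ≠ 0 := by rintro rfl; rw [map_zero] at hW₀; exact zero_ne_one hW₀
  have hs0 : s ≠ 0 := by
    intro hs0
    obtain ⟨t, ht⟩ := P.2.2 (WithZero.exp (-1 : ℤ))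
    obtain ⟨b₁, hb₁, b₂, hb₂, hb₂0, hb⟩ := hfrac t
    have hlt : P.1 b₁ < 1 := by
      rw [← hb, map_mul, ht]
      calc WithZero.exp (-1 : ℤ) * P.1 b₂ ≤ WithZero.exp (-1 : ℤ) * 1 :=
            mul_le_mul' le_rfl (hB1 b₂ hb₂)
        _ = WithZero.exp (-1 : ℤ) := mul_one _
        _ < 1 := exp_neg_one_lt_one
    obtain ⟨A, _, hA⟩ := h1 b₁ hb₁ hlt
    rw [hs0, zero_mul] at hA
    have hb₁0 : b₁ = 0 := (mul_eq_zero.mp hA).resolve_left hW₀0
    rw [hb₁0] at hb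
    have ht0 : t = 0 := (mul_eq_zero.mp hb).resolve_right hb₂0
    rw [ht0, map_zero] at ht
    exact WithZero.exp_ne_zero ht.symm
  have hsle : P.1 s ≤ WithZero.exp (-1 : ℤ) := (lt_one_iff _).mp hs
  have h3 : ∀ m : ℕ, ∀ z ∈ B, WithZero.exp (-(m : ℤ)) ≤ P.1 z →
      ∃ n : ℕ, ∃ A ∈ B, ∃ W ∈ B, P.1 A = 1 ∧ P.1 W = 1 ∧ W * z = s ^ n * A := by
    intro m
    induction m with
    | zero =>
      intro z hz h
      rw [Nat.cast_zero, neg_zero, WithZero.exp_zero] at h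
      exact ⟨0, z, hz, 1, B.one_mem, le_antisymm (hB1 z hz) h, map_one _,
        by rw [pow_zero]⟩
    | succ m ih =>
      intro z hz h
      by_cases hz1 : P.1 z = 1
      · exact ⟨0, z, hz, 1, B.one_mem, hz1, map_one _, by rw [pow_zero]⟩
      · have hlt : P.1 z < 1 := lt_of_le_of_ne (hB1 z hz) hz1
        obtain ⟨A', hA'B, hA'⟩ := h1 z hz hlt
        have hval : P.1 z = P.1 s * P.1 A' := by
          rw [← map_mul, ← hA', map_mul, hW₀, one_mul]
        have hge : WithZero.exp (-(m : ℤ)) ≤ P.1 A' := by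
          by_contra hcon
          rw [not_le, EmbCrit.lt_exp_iff] at hcon
          have h2 : P.1 z ≤ WithZero.exp (-1 : ℤ) * WithZero.exp (-(m : ℤ) - 1) := by
            rw [hval]; exact mul_le_mul' hsle hcon
          rw [← WithZero.exp_add] at h2
          have h4 := h.trans h2
          rw [WithZero.exp_le_exp] at h4
          push_cast at h4
          omega
        obtain ⟨n, A'', hA''B, W₂, hW₂B, hA''1, hW₂1, e⟩ := ih A' hA'B hge
        refine ⟨n + 1, A'', hA''B, W₂ * W₀, B.mul_mem hW₂B hW₀B, hA''1, ?_, ?_⟩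
        · rw [map_mul, hW₂1, hW₀, one_mul]
        · linear_combination W₂ * hA' + s * e
  have h3' : ∀ z ∈ B, z ≠ 0 →
      ∃ n : ℕ, ∃ A ∈ B, ∃ W ∈ B, P.1 A = 1 ∧ P.1 W = 1 ∧ W * z = s ^ n * A := by
    intro z hz hz0
    refine h3 (P.ord z).toNat z hz ?_
    rw [FF.val_eq_exp_neg_ord P hz0, WithZero.exp_le_exp]
    have := Int.self_le_toNat (P.ord z)
    omega
  refine ⟨hs0, fun z hz0 => ?_⟩
  obtain ⟨b₁, hb₁, b₂, hb₂, hb₂0, hb⟩ := hfrac z
  have hb₁0 : b₁ ≠ 0 := by rw [← hb]; exact mul_ne_zero hz0 hb₂0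
  obtain ⟨n₁, A₁, hA₁B, W₁, hW₁B, hA₁1, hW₁1, e₁⟩ := h3' b₁ hb₁ hb₁0
  obtain ⟨n₂, A₂, hA₂B, W₂, hW₂B, hA₂1, hW₂1, e₂⟩ := h3' b₂ hb₂ hb₂0
  refine ⟨n₁, n₂, A₁ * W₂, B.mul_mem hA₁B hW₂B, A₂ * W₁, B.mul_mem hA₂B hW₁B, ?_, ?_, ?_⟩
  · rw [map_mul, hA₁1, hW₂1, one_mul]
  · rw [map_mul, hA₂1, hW₁1, one_mul]
  · linear_combination (-(z * W₁)) * e₂ + (W₁ * W₂) * hb + W₂ * e₁

end Groth.Agent.Helper6.JacN2
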