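import Mathlib
import Groth.Agent.Helper6.JacN2

set_option autoImplicit false
set_option linter.style.haveILetI false
set_option linter.unusedSectionVars false

/-!
# The maximal ideal of a point, gradients, and a Nakayama step
-/

namespace Groth.Agent.Helper6.JacN3

open MvPolynomial
open Groth.Agent.Helper6.JacN2
open scoped Pointwise

variable {k : Type*} [Field k] {ι : Type*} [Fintype ι] [DecidableEq ι] (c : ι → k)

/-- the maximal ideal of the point `c`. -/
noncomputable def mI : Ideal (MvPolynomial ι k) := Ideal.span (Set.range fun l => X l - C (c l))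

theorem X_sub_C_mem (l : ι) : X l - C (c l) ∈ mI c := Ideal.subset_span ⟨l, rfl⟩

theorem mem_mI_iff (H : MvPolynomial ι k) : H ∈ mI c ↔ eval c H = 0 := by
  constructor
  · intro hH
    refine Submodule.span_induction (p := fun x _ => eval c x = 0) ?_ ?_ ?_ ?_ hH
    · rintro x ⟨l, rfl⟩
      simp
    · exact map_zero _
    · intro x y _ _ hx hy
      rw [map_add, hx, hy, add_zero]
    · intro a x _ hx
      rw [smul_eq_mul, map_mul, hx, mul_zero]
  · intro h0
    obtain ⟨Hs, hH⟩ := exists_decomp c H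
    rw [h0, C_0, zero_add] at hH
    rw [hH]
    exact Ideal.sum_mem _ (fun l _ => Ideal.mul_mem_right _ _ (X_sub_C_mem c l))

/-- the gradient at `c`. -/
noncomputable def grad : MvPolynomial ι k →ₗ[k] (ι → k) where
  toFun H := fun l => eval c (pderiv l H)
  map_add' A B := by funext l; simp
  map_smul' t A := by funext l; simp [smul_eval]

theorem grad_apply (H : MvPolynomial ι k) (l : ι) : grad c H l = eval c (pderiv l H) := rfl

theorem grad_mul (A B : MvPolynomial ι k) :
    grad c (A * B) = eval c A • grad c B + eval c B • grad c A := by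
  funext l
  simp only [grad_apply, pderiv_mul, map_add, map_mul, Pi.add_apply, Pi.smul_apply, smul_eq_mul]
  ring

theorem grad_X_sub_C (l : ι) : grad c (X l - C (c l)) = Pi.single l 1 := by
  funext l'
  rw [grad_apply, map_sub, pderiv_C, sub_zero]
  by_cases h : l' = l
  · rw [h, pderiv_X_self, map_one, Pi.single_eq_same]
  · rw [pderiv_X_of_ne (Ne.symm h), map_zero, Pi.single_eq_of_ne h]

theorem grad_eq_of_decomp (Hs : ι → MvPolynomial ι k) (l' : ι) :
    grad c (∑ l, (X l - C (c l)) * Hs l) l' = eval c (Hs l') := by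
  rw [map_sum, Finset.sum_apply, Finset.sum_eq_single l']
  · rw [grad_mul, grad_X_sub_C]
    show eval c (X l' - C (c l')) * grad c (Hs l') l' +
      eval c (Hs l') * ((Pi.single l' 1 : ι → k) l') = _
    rw [map_sub, eval_X, eval_C, sub_self, zero_mul, zero_add, Pi.single_eq_same, mul_one]
  · intro l _ hl
    rw [grad_mul, grad_X_sub_C]
    show eval c (X l - C (c l)) * grad c (Hs l) l' +
      eval c (Hs l) * ((Pi.single l 1 : ι → k) l') = 0
    rw [map_sub, eval_X, eval_C, sub_self, zero_mul, zero_add, Pi.single_eq_of_ne hl.symm,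
      mul_zero]
  · intro h; exact absurd (Finset.mem_univ _) h

/-- the linear form with coefficient vector `a`, centred at `c`. -/
noncomputable def lin (a : ι → k) : MvPolynomial ι k := ∑ l, C (a l) * (X l - C (c l))

theorem lin_zero : lin c 0 = 0 := by simp [lin]

theorem lin_add (a b : ι → k) : lin c (a + b) = lin c a + lin c b := by
  unfold lin
  rw [← Finset.sum_add_distrib]
  exact Finset.sum_congr rfl (fun l _ => by rw [Pi.add_apply, C_add]; ring)

theorem lin_smul (t : k) (a : ι → k) : lin c (t • a) = C t * lin c a := by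
  unfold lin
  rw [Finset.mul_sum]
  exact Finset.sum_congr rfl (fun l _ => by rw [Pi.smul_apply, smul_eq_mul, C_mul]; ring)

theorem lin_single (l : ι) : lin c (Pi.single l 1) = X l - C (c l) := by
  unfold lin
  rw [Finset.sum_eq_single l]
  · rw [Pi.single_eq_same, C_1, one_mul]
  · intro l' _ hl'; rw [Pi.single_eq_of_ne hl', C_0, zero_mul]
  · intro h; exact absurd (Finset.mem_univ _) h

theorem lin_grad_sub_mem (H : MvPolynomial ι k) (h0 : eval c H = 0) :
    lin c (grad c H) - H ∈ mI c • mI c := by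
  obtain ⟨Hs, hH⟩ := exists_decomp c H
  rw [h0, C_0, zero_add] at hH
  have hg : ∀ l', grad c H l' = eval c (Hs l') := by
    intro l'; rw [hH]; exact grad_eq_of_decomp c Hs l'
  have e : lin c (grad c H) - H = ∑ l, (C (eval c (Hs l)) - Hs l) * (X l - C (c l)) := by
    unfold lin
    simp only [hg]
    conv_lhs => rw [hH]
    rw [← Finset.sum_sub_distrib]
    exact Finset.sum_congr rfl (fun l _ => by ring)
  rw [e]
  refine Submodule.sum_mem _ (fun l _ => ?_)
  have h1 : C (eval c (Hs l)) - Hs l ∈ mI c := by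
    rw [mem_mI_iff, map_sub, eval_C, sub_self]
  exact Submodule.smul_mem_smul h1 (X_sub_C_mem c l)

theorem lin_mem_of_mem_span {ρ : Type*} (IK : Ideal (MvPolynomial ι k))
    (g : ρ → MvPolynomial ι k) (hgI : ∀ i, g i ∈ IK) (hg0 : ∀ i, eval c (g i) = 0)
    (a : ι → k) (ha : a ∈ Submodule.span k (Set.range fun i => grad c (g i))) :
    lin c a ∈ IK ⊔ mI c • mI c := by
  induction ha using Submodule.span_induction with
  | mem x hx =>
    obtain ⟨i, rfl⟩ := hx
    show lin c (grad c (g i)) ∈ _
    have h1 := lin_grad_sub_mem c (g i) (hg0 i)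
    have e : lin c (grad c (g i)) = g i + (lin c (grad c (g i)) - g i) := by ring
    rw [e]
    exact Submodule.add_mem_sup (hgI i) h1
  | zero => rw [lin_zero]; exact Submodule.zero_mem _
  | add x y _ _ hx hy => rw [lin_add]; exact Submodule.add_mem _ hx hy
  | smul t x _ hx => rw [lin_smul]; exact Ideal.mul_mem_left _ _ hx

theorem grad_mem_of_mem_span {ρ : Type*} (g : ρ → MvPolynomial ι k)
    (hg0 : ∀ i, eval c (g i) = 0) (H : MvPolynomial ι k)
    (hH : H ∈ Ideal.span (Set.range g)) :
    eval c H = 0 ∧ grad c H ∈ Submodule.span k (Set.range fun i => grad c (g i)) := by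
  refine Submodule.span_induction (p := fun H _ => eval c H = 0 ∧
    grad c H ∈ Submodule.span k (Set.range fun i => grad c (g i))) ?_ ?_ ?_ ?_ hH
  · rintro x ⟨i, rfl⟩
    exact ⟨hg0 i, Submodule.subset_span ⟨i, rfl⟩⟩
  · exact ⟨map_zero _, by rw [map_zero]; exact Submodule.zero_mem _⟩
  · rintro x y _ _ ⟨hx0, hx⟩ ⟨hy0, hy⟩
    exact ⟨by rw [map_add, hx0, hy0, add_zero],
      by rw [map_add]; exact Submodule.add_mem _ hx hy⟩
  · rintro a x _ ⟨hx0, hx⟩
    refine ⟨by rw [smul_eq_mul, map_mul, hx0, mul_zero], ?_⟩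
    rw [smul_eq_mul, grad_mul, hx0, zero_smul, add_zero]
    exact Submodule.smul_mem _ _ hx

theorem nakayama (N₀ : Ideal (MvPolynomial ι k))
    (h : ∀ l, X l - C (c l) ∈ N₀ ⊔ mI c • mI c) :
    ∃ r : MvPolynomial ι k, eval c r = 1 ∧ ∀ l, r * (X l - C (c l)) ∈ N₀ := by
  have hle : mI c ≤ N₀ ⊔ mI c • mI c := by
    show Ideal.span (Set.range fun l => X l - C (c l)) ≤ _
    rw [Ideal.span_le]
    rintro _ ⟨l, rfl⟩
    exact h l
  have hfg : (mI c).FG := Submodule.fg_span (Set.finite_range _)
  obtain ⟨r, hr1, hr⟩ := Submodule.exists_sub_one_mem_and_smul_le_of_fg_of_le_sup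
    (I := mI c) (N := N₀) (N' := mI c) (P := mI c) hfg le_rfl hle
  refine ⟨r, ?_, fun l => ?_⟩
  · have h1 := (mem_mI_iff c _).mp hr1
    rw [map_sub, map_one, sub_eq_zero] at h1
    exact h1
  · exact hr (Submodule.smul_mem_pointwise_smul _ r _ (X_sub_C_mem c l))

end Groth.Agent.Helper6.JacN3
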