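import Mathlib
import Groth.Agent.Helper6.JacKer
import Groth.Agent.Helper6.JacHom

set_option autoImplicit false
set_option linter.style.haveILetI false
set_option linter.unusedSectionVars false

/-!
# The homogeneous ideal of a plane model is principal
-/

namespace Groth.Agent.Helper6.JacProj

open FunFld MvPolynomial
open Groth.Agent.Helper5
open Groth.Agent.Helper6.JacHom

universe u v
variable {k : Type u} {K : Type v} [Field k] [Field K] [Algebra k K]

theorem aeval_smul_of_isHomogeneous' {A : Type*} [CommRing A] [Algebra k A] {σ : Type*}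
    [Fintype σ] {g : MvPolynomial σ k} {d : ℕ} (hg : g.IsHomogeneous d) (x : σ → A) (c : A) :
    aeval (fun i => c * x i) g = c ^ d * aeval x g := by
  rw [aeval_def, eval₂_eq', aeval_def, eval₂_eq', Finset.mul_sum]
  apply Finset.sum_congr rfl
  intro m hm
  have h1 := hg (mem_support_iff.mp hm)
  have h2 : ∑ i, m i = d := by
    rw [← h1, ← Finsupp.degree_eq_sum]
    exact DFunLike.congr_fun Finsupp.degree_eq_weight_one m
  simp_rw [mul_pow]
  rw [Finset.prod_mul_distrib, Finset.prod_pow_eq_pow_sum, h2]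
  ring

theorem eq_of_dehom_eq_mul [Infinite k] (j : Fin 3) {F : MvPolynomial (Fin 3) k} {n : ℕ}
    (hF : F.IsHomogeneous n) (hF0 : F ≠ 0) {g' Q : MvPolynomial (Fin 2) k}
    (h : dehom j F = g' * Q) :
    F = X j ^ (n - (g'.totalDegree + Q.totalDegree)) *
      (hom j g'.totalDegree g' * hom j Q.totalDegree Q) := by
  have hg0 : dehom j F ≠ 0 := fun h0 => hF0 (eq_zero_of_dehom_eq_zero j hF h0)
  have hg'0 : g' ≠ 0 := by rintro rfl; rw [zero_mul] at h; exact hg0 h
  have hQ0 : Q ≠ 0 := by rintro rfl; rw [mul_zero] at h; exact hg0 h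
  have hdeg : g'.totalDegree + Q.totalDegree ≤ n := by
    rw [← totalDegree_mul_of_isDomain hg'0 hQ0, ← h]
    exact (totalDegree_dehom_le j F).trans hF.totalDegree_le
  obtain ⟨A, hA⟩ : ∃ A, A = X j ^ (n - (g'.totalDegree + Q.totalDegree)) *
      (hom j g'.totalDegree g' * hom j Q.totalDegree Q) := ⟨_, rfl⟩
  rw [← hA]
  have hAhom : A.IsHomogeneous n := by
    have h1 := (isHomogeneous_X_pow (R := k) j (n - (g'.totalDegree + Q.totalDegree))).mul
      ((hom_isHomogeneous j g'.totalDegree g').mul (hom_isHomogeneous j Q.totalDegree Q))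
    rw [Nat.sub_add_cancel hdeg] at h1
    rw [hA]; exact h1
  have hAde : dehom j A = dehom j F := by
    rw [hA, map_mul, map_pow, dehom_X_self, one_pow, one_mul, map_mul,
      dehom_hom j _ g' le_rfl, dehom_hom j _ Q le_rfl, h]
  have := eq_zero_of_dehom_eq_zero j (hF.sub hAhom) (by rw [map_sub, hAde, sub_self])
  exact sub_eq_zero.mp this

theorem s11073 [IsAlgClosed k] (hK : IsFunctionField k K) (x y : K)
    (hxy : IntermediateField.adjoin k ({x, y} : Set K) = ⊤) :
    ∃ f : MvPolynomial (Fin 3) k, Irreducible f ∧ f.IsHomogeneous f.totalDegree ∧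
      RingHom.ker (MvPolynomial.aeval fun i => Polynomial.C (![(1 : K), x, y] i) * Polynomial.X) =
        Ideal.span {f} := by
  classical
  obtain ⟨g', hg'0, hg'ξ, hg'd⟩ := JacKer.exists_generator hK x y hxy
  obtain ⟨φ, hφ⟩ : ∃ φ : Fin 3 → K, φ = ![(1 : K), x, y] := ⟨_, rfl⟩
  rw [← hφ]
  obtain ⟨f, hfdef⟩ : ∃ f, f = hom (k := k) 0 g'.totalDegree g' := ⟨_, rfl⟩
  have hde : dehom 0 f = g' := by rw [hfdef]; exact dehom_hom 0 _ g' le_rfl
  have hf0 : f ≠ 0 := by
    intro h0; rw [h0, map_zero] at hde; exact hg'0 hde.symm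
  have hfhom : f.IsHomogeneous g'.totalDegree := by
    rw [hfdef]; exact hom_isHomogeneous 0 _ g'
  have htd : f.totalDegree = g'.totalDegree := hfhom.totalDegree hf0
  have hφde : ∀ F : MvPolynomial (Fin 3) k, aeval ![x, y] (dehom 0 F) = aeval φ F := by
    intro F
    refine aeval_dehom 0 ![x, y] φ (by rw [hφ]; rfl) (fun i => ?_) F
    rw [hφ]; fin_cases i <;> rfl
  have hfφ : aeval φ f = 0 := by rw [← hφde, hde, hg'ξ]
  obtain ⟨Ψ, hΨ⟩ : ∃ Ψ : MvPolynomial (Fin 3) k →ₐ[k] Polynomial K,
      Ψ = aeval (fun i => Polynomial.C (φ i) * Polynomial.X) := ⟨_, rfl⟩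
  rw [← hΨ]
  have hΨhom : ∀ (n : ℕ) (F : MvPolynomial (Fin 3) k), F.IsHomogeneous n →
      Ψ F = Polynomial.C (aeval φ F) * Polynomial.X ^ n := by
    intro n F hF
    have h1 := aeval_smul_of_isHomogeneous' (A := Polynomial K) hF
      (fun i => (Polynomial.C (φ i) : Polynomial K)) (Polynomial.X : Polynomial K)
    have e : (fun i => (Polynomial.X : Polynomial K) * Polynomial.C (φ i)) =
        fun i => Polynomial.C (φ i) * Polynomial.X := by
      funext i; rw [mul_comm]
    rw [e] at h1
    have h2 : aeval (fun i => (Polynomial.C (φ i) : Polynomial K)) F =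
        Polynomial.C (aeval φ F) := by
      have := comp_aeval_apply (f := φ) (Polynomial.CAlgHom (R := k) (A := K)) F
      exact this.symm
    rw [hΨ, h1, h2, mul_comm]
  have hcoef : ∀ F : MvPolynomial (Fin 3) k, Ψ F = 0 →
      ∀ n, aeval φ (homogeneousComponent n F) = 0 := by
    intro F hF n
    have h1 : Ψ F = ∑ r ∈ Finset.range (F.totalDegree + 1),
        Polynomial.C (aeval φ (homogeneousComponent r F)) * Polynomial.X ^ r := by
      conv_lhs => rw [← sum_homogeneousComponent F]
      rw [map_sum]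
      exact Finset.sum_congr rfl
        (fun r _ => hΨhom r _ (homogeneousComponent_isHomogeneous r F))
    rw [hF] at h1
    by_cases hn : n ∈ Finset.range (F.totalDegree + 1)
    · have h2 := congrArg (fun p => Polynomial.coeff p n) h1
      simp only [Polynomial.coeff_zero, Polynomial.finset_sum_coeff, Polynomial.coeff_C_mul,
        Polynomial.coeff_X_pow] at h2
      rw [Finset.sum_eq_single n] at h2
      · rw [if_pos rfl, mul_one] at h2; exact h2.symm
      · intro b _ hb; rw [if_neg (Ne.symm hb), mul_zero]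
      · intro h; exact absurd hn h
    · rw [homogeneousComponent_eq_zero, map_zero]
      rw [Finset.mem_range] at hn; omega
  have hsub : ∀ F : MvPolynomial (Fin 3) k, Ψ F = 0 → f ∣ F := by
    intro F hF
    rw [← sum_homogeneousComponent F]
    refine Finset.dvd_sum (fun n _ => ?_)
    obtain ⟨Fn, hFn⟩ : ∃ Fn, Fn = homogeneousComponent n F := ⟨_, rfl⟩
    rw [← hFn]
    have hFnhom : Fn.IsHomogeneous n := by
      rw [hFn]; exact homogeneousComponent_isHomogeneous n F
    by_cases hFn0 : Fn = 0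
    · rw [hFn0]; exact dvd_zero _
    have h0 : aeval φ Fn = 0 := by rw [hFn]; exact hcoef F hF n
    obtain ⟨Q, hQ⟩ := hg'd (dehom 0 Fn) (by rw [hφde, h0])
    have h3 := eq_of_dehom_eq_mul 0 hFnhom hFn0 hQ
    rw [h3, ← hfdef]
    exact dvd_mul_of_dvd_right (dvd_mul_right f _) _
  have hkereq : RingHom.ker Ψ = Ideal.span {f} := by
    apply le_antisymm
    · intro F hF
      rw [RingHom.mem_ker] at hF
      exact Ideal.mem_span_singleton.mpr (hsub F hF)
    · rw [Ideal.span_le]
      intro F hF
      rw [Set.mem_singleton_iff] at hF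
      rw [hF]
      show f ∈ RingHom.ker Ψ
      rw [RingHom.mem_ker, hΨhom _ f hfhom, hfφ, map_zero, zero_mul]
  refine ⟨f, ?_, ?_, hkereq⟩
  · have hprime : (Ideal.span {f}).IsPrime := by
      rw [← hkereq]; exact RingHom.ker_isPrime _
    exact ((Ideal.span_singleton_prime hf0).mp hprime).irreducible
  · rw [htd]; exact hfhom

end Groth.Agent.Helper6.JacProj
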