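import Mathlib
import Groth.Agent.Helper6.JacN1
import Groth.Agent.Helper6.JacN3
import Groth.Agent.Helper6.JacProj
import Groth.Agent.Helper6.PlaneAlg

set_option autoImplicit false
set_option linter.style.haveILetI false
set_option linter.unusedSectionVars false

/-!
# The Jacobian criterion for space curves
-/

namespace Groth.Agent.Helper6.JacN4

open FunFld MvPolynomial
open Groth.Agent.Helper5
open Groth.Agent.Helper6.JacN1 Groth.Agent.Helper6.JacN2 Groth.Agent.Helper6.JacN3
open scoped Pointwise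

universe u v
variable {k : Type u} {K : Type v} [Field k] [Field K] [Algebra k K]

section chart
variable {n : ℕ} (φ : Fin (n + 1) → K) (P : Place k K)

/-- affine coordinates of the chart `0`. -/
def xi : Fin n → K := fun i => φ i.succ / φ 0

theorem adjoin_xi_eq (h0 : φ 0 ≠ 0) :
    Algebra.adjoin k (Set.range (xi φ)) = Algebra.adjoin k (Set.range fun i => φ i / φ 0) := by
  apply le_antisymm
  · apply Algebra.adjoin_mono
    rintro _ ⟨i, rfl⟩
    exact ⟨i.succ, rfl⟩
  · apply Algebra.adjoin_le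
    rintro _ ⟨i, rfl⟩
    show φ i / φ 0 ∈ Algebra.adjoin k (Set.range (xi φ))
    rcases Fin.eq_zero_or_eq_succ i with h | ⟨i', h⟩
    · rw [h, div_self h0]; exact Subalgebra.one_mem _
    · rw [h]; exact Algebra.subset_adjoin ⟨i', rfl⟩

theorem nonsingular_iff_full (h0 : φ 0 ≠ 0) (hP : ∀ i, P.1 (φ i) ≤ P.1 (φ 0)) :
    IsNonsingularAt φ P ↔ JacAff.Full (Algebra.adjoin k (Set.range (xi φ))) P := by
  rw [adjoin_xi_eq φ h0]
  constructor
  · intro hns z hz
    obtain ⟨j', hj'0, hj'max, u, hu, w, hw, hw1, hzw⟩ := hns z hz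
    exact PlaneAlg.transfer φ P (Algebra.adjoin k (Set.range fun i => φ i / φ 0)) (φ 0) j' h0 hj'0
      (fun i => Algebra.subset_adjoin ⟨i, rfl⟩)
      (le_antisymm (hP j') (hj'max 0)) hu hw hw1 hzw
  · intro hfull z hz
    obtain ⟨U, hU, W, hW, hW1, hzW⟩ := hfull z hz
    exact ⟨0, h0, hP, U, hU, W, hW, hW1, hzW⟩

end chart

theorem rank_map_algebraMap {κ : Type*} [Field κ] [Algebra k κ] (h1 : Module.finrank k κ = 1)
    {r n : ℕ} (A : Matrix (Fin r) (Fin n) k) :
    (A.map (algebraMap k κ)).rank = Module.finrank k (Submodule.span k (Set.range A.row)) := by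
  have hsurj : Function.Surjective (algebraMap k κ) := by
    intro w
    obtain ⟨t, ht⟩ := (finrank_eq_one_iff_of_nonzero' (1 : κ) one_ne_zero).mp h1 w
    exact ⟨t, by rw [Algebra.algebraMap_eq_smul_one]; exact ht⟩
  have hinj : Function.Injective (algebraMap k κ) := (algebraMap k κ).injective
  obtain ⟨ι', hι'⟩ : ∃ ι' : (Fin n → k) →ₗ[k] (Fin n → κ),
      ι' = (Algebra.linearMap k κ).compLeft (Fin n) := ⟨_, rfl⟩
  have hι'inj : Function.Injective ι' := by
    intro a b hab
    funext l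
    have h2 := congrFun hab l
    rw [hι'] at h2
    exact hinj h2
  rw [Matrix.rank_eq_finrank_span_row]
  have hrows : Set.range (A.map (algebraMap k κ)).row = ι' '' Set.range A.row := by
    rw [← Set.range_comp, hι']; rfl
  obtain ⟨W, hW⟩ : ∃ W : Submodule κ (Fin n → κ),
      W = Submodule.span κ (Set.range (A.map (algebraMap k κ)).row) := ⟨_, rfl⟩
  rw [← hW]
  have hWk : W.restrictScalars k = (Submodule.span k (Set.range A.row)).map ι' := by
    rw [hW, Submodule.restrictScalars_span k κ hsurj, hrows, Submodule.map_span]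
  have e1 : Module.finrank κ W = Module.finrank k W := by
    have h2 := Module.finrank_mul_finrank k κ W
    rw [h1, one_mul] at h2
    exact h2
  have e2 : Module.finrank k W = Module.finrank k (W.restrictScalars k) := rfl
  rw [e1, e2, hWk]
  exact (Submodule.equivMapOfInjective ι' hι'inj _).finrank_eq.symm

theorem s11071 [IsAlgClosed k] (hK : IsFunctionField k K) {n : ℕ} (hn : 1 ≤ n)
    (φ : Fin (n + 1) → K) (hφ : LinearIndependent k φ)
    (hbir : IntermediateField.adjoin k (Set.range fun i => φ i / φ 0) = ⊤)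
    (P : Place k K) (hP : ∀ i, P.1 (φ i) ≤ P.1 (φ 0)) {r : ℕ}
    (f : Fin r → MvPolynomial (Fin (n + 1)) k)
    (hhom : ∀ i, (f i).IsHomogeneous (f i).totalDegree)
    (hgen : Ideal.span (Set.range f) =
      RingHom.ker (MvPolynomial.aeval fun i => Polynomial.C (φ i) * Polynomial.X))
    (M : Matrix (Fin r) (Fin n) P.O)
    (hM : ∀ i j, ((M i j : P.O) : K) =
      MvPolynomial.aeval (fun l => φ l / φ 0) (MvPolynomial.pderiv j.succ (f i))) :
    IsNonsingularAt φ P ↔ (M.map (IsLocalRing.residue P.O)).rank = n - 1 := by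
  classical
  have h00 : φ 0 ≠ 0 := hφ.ne_zero 0
  have hdeg1 : P.deg = 1 := FF.deg_eq_one_of_isAlgClosed hK P
  have hEex : ∀ i, ∃ e : k, P.1 (φ i / φ 0 - algebraMap k K e) < 1 := by
    intro i
    apply FF.exists_const_of_deg_one P hdeg1
    rw [map_div₀]
    exact (div_le_one₀ (FF.val_pos P h00)).mpr (hP i)
  choose E hE using hEex
  have hE0 : E 0 = 1 := by
    have h := hE 0
    rw [div_self h00] at h
    have h1 : P.1 (algebraMap k K (1 - E 0)) < 1 := by rwa [map_sub, map_one]
    by_contra hne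
    have h2 : (1 : k) - E 0 ≠ 0 := sub_ne_zero.mpr (Ne.symm hne)
    rw [FF.val_algebraMap P h2] at h1
    exact lt_irrefl _ h1
  obtain ⟨ξ, hξ⟩ : ∃ ξ : Fin n → K, ξ = xi φ := ⟨_, rfl⟩
  obtain ⟨c, hc⟩ : ∃ c : Fin n → k, c = fun i => E i.succ := ⟨_, rfl⟩
  have hci : ∀ i, c i = E i.succ := fun i => by rw [hc]
  have hξi : ∀ i, ξ i = φ i.succ / φ 0 := fun i => by rw [hξ]; rfl
  have hres : ∀ l, P.1 (ξ l - algebraMap k K (c l)) < 1 := by
    intro l; rw [hξi, hci]; exact hE l.succ
  have hK2 : IntermediateField.adjoin k (Set.range ξ) = ⊤ := by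
    rw [eq_top_iff, ← hbir, IntermediateField.adjoin_le_iff]
    rintro _ ⟨i, rfl⟩
    show φ i / φ 0 ∈ IntermediateField.adjoin k (Set.range ξ)
    rcases Fin.eq_zero_or_eq_succ i with h | ⟨i', h⟩
    · rw [h, div_self h00]; exact one_mem _
    · rw [h]; exact IntermediateField.subset_adjoin k _ ⟨i', hξi i'⟩
  obtain ⟨g, hg⟩ : ∃ g : Fin r → MvPolynomial (Fin n) k, g = fun i => dehom (f i) := ⟨_, rfl⟩
  have hgi : ∀ i, g i = dehom (f i) := fun i => by rw [hg]
  obtain ⟨Ψ, hΨ⟩ : ∃ Ψ : MvPolynomial (Fin (n + 1)) k →ₐ[k] Polynomial K,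
      Ψ = aeval (fun i => Polynomial.C (φ i) * Polynomial.X) := ⟨_, rfl⟩
  rw [← hΨ] at hgen
  have hΨhom : ∀ (N : ℕ) (F : MvPolynomial (Fin (n + 1)) k), F.IsHomogeneous N →
      Ψ F = Polynomial.C (aeval φ F) * Polynomial.X ^ N := by
    intro N F hF
    have h1 := JacProj.aeval_smul_of_isHomogeneous' (A := Polynomial K) hF
      (fun i => (Polynomial.C (φ i) : Polynomial K)) (Polynomial.X : Polynomial K)
    have e : (fun i => (Polynomial.X : Polynomial K) * Polynomial.C (φ i)) =
        fun i => Polynomial.C (φ i) * Polynomial.X := by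
      funext i; rw [mul_comm]
    rw [e] at h1
    have h2 : aeval (fun i => (Polynomial.C (φ i) : Polynomial K)) F =
        Polynomial.C (aeval φ F) := by
      have := comp_aeval_apply (f := φ) (Polynomial.CAlgHom (R := k) (A := K)) F
      exact this.symm
    rw [hΨ, h1, h2, mul_comm]
  have hratio : ∀ (N : ℕ) (F : MvPolynomial (Fin (n + 1)) k), F.IsHomogeneous N →
      aeval φ F = φ 0 ^ N * aeval ξ (dehom F) := by
    intro N F hF
    rw [aeval_dehom ξ (fun i => φ i / φ 0) (div_self h00) (fun i => (hξi i).symm) F]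
    have h := JacProj.aeval_smul_of_isHomogeneous' (A := K) hF (fun i => φ i / φ 0) (φ 0)
    have e : (fun i => φ 0 * (φ i / φ 0)) = φ := by
      funext i; field_simp
    rw [e] at h; exact h
  have hfφ : ∀ i, aeval φ (f i) = 0 := by
    intro i
    have h1 : f i ∈ RingHom.ker Ψ := by rw [← hgen]; exact Ideal.subset_span ⟨i, rfl⟩
    rw [RingHom.mem_ker, hΨhom _ _ (hhom i)] at h1
    have h2 := congrArg (fun p => Polynomial.coeff p (f i).totalDegree) h1
    simp only [Polynomial.coeff_C_mul, Polynomial.coeff_X_pow, Polynomial.coeff_zero] at h2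
    rw [if_pos trivial, mul_one] at h2
    exact h2
  have hgξ : ∀ i, aeval ξ (g i) = 0 := by
    intro i
    have h1 := hratio _ (f i) (hhom i)
    rw [hfφ i] at h1
    rw [hgi]
    exact (mul_eq_zero.mp h1.symm).resolve_left (pow_ne_zero _ h00)
  have hg0 : ∀ i, eval c (g i) = 0 := fun i =>
    eval_eq_zero_of_val_lt P ξ c hres (g i) (by rw [hgξ i]; rw [map_zero]; exact zero_lt_one)
  obtain ⟨IK, hIK⟩ : ∃ IK : Ideal (MvPolynomial (Fin n) k),
      IK = RingHom.ker (aeval ξ : MvPolynomial (Fin n) k →ₐ[k] K) := ⟨_, rfl⟩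
  have hIKmem : ∀ H, H ∈ IK ↔ aeval ξ H = 0 := fun H => by rw [hIK, RingHom.mem_ker]
  have hgI : ∀ i, g i ∈ IK := fun i => (hIKmem _).mpr (hgξ i)
  have hIKle : IK ≤ Ideal.span (Set.range g) := by
    intro G hG
    rw [hIKmem] at hG
    obtain ⟨F, hF⟩ : ∃ F, F = hom G.totalDegree G := ⟨_, rfl⟩
    have hFhom : F.IsHomogeneous G.totalDegree := by rw [hF]; exact hom_isHomogeneous _ _
    have hFde : dehom F = G := by rw [hF]; exact dehom_hom _ _ le_rfl
    have hFker : F ∈ RingHom.ker Ψ := by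
      rw [RingHom.mem_ker, hΨhom _ _ hFhom, hratio _ _ hFhom, hFde, hG, mul_zero, map_zero,
        zero_mul]
    rw [← hgen] at hFker
    have h1 := Ideal.mem_map_of_mem (dehom (k := k) (n := n)) hFker
    rw [Ideal.map_span, hFde] at h1
    have e : (dehom (k := k) (n := n)) '' Set.range f = Set.range g := by
      rw [hg, ← Set.range_comp]; rfl
    rw [e] at h1
    exact h1
  obtain ⟨rows, hrows⟩ : ∃ rows : Fin r → (Fin n → k), rows = fun i => grad c (g i) :=
    ⟨_, rfl⟩
  obtain ⟨R, hR⟩ : ∃ R : Submodule k (Fin n → k), R = Submodule.span k (Set.range rows) :=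
    ⟨_, rfl⟩
  have hrank : (M.map (IsLocalRing.residue P.O)).rank = Module.finrank k R := by
    have hMres : M.map (IsLocalRing.residue P.O) =
        (Matrix.of rows).map (algebraMap k (IsLocalRing.ResidueField P.O)) := by
      ext i j
      show IsLocalRing.residue P.O (M i j) = algebraMap k _ (rows i j)
      have h1 : IsLocalRing.residue P.O (M i j - algebraMap k P.O (rows i j)) = 0 := by
        rw [FF.residue_eq_zero_iff]
        have h2 := val_aeval_sub_lt P ξ c hres (pderiv j (g i))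
        have h3 : ((M i j : P.O) : K) = aeval ξ (pderiv j (g i)) := by
          rw [hM, hgi, pderiv_dehom,
            aeval_dehom ξ (fun l => φ l / φ 0) (div_self h00) (fun l => (hξi l).symm)]
        rw [← h3] at h2
        have h4 : rows i j = eval c (pderiv j (g i)) := by rw [hrows]; rfl
        rw [h4]
        exact h2
      rw [map_sub, sub_eq_zero] at h1
      rw [h1]; rfl
    rw [hMres, rank_map_algebraMap hdeg1, hR]
    rfl
  rw [nonsingular_iff_full φ P h00 hP, ← hξ, hrank]
  obtain ⟨B, hB⟩ : ∃ B : Subalgebra k K, B = Algebra.adjoin k (Set.range ξ) := ⟨_, rfl⟩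
  rw [← hB]
  have hmem : ∀ H : MvPolynomial (Fin n) k, aeval ξ H ∈ B := by
    intro H; rw [hB, mem_adjoin_iff]; exact ⟨H, rfl⟩
  have hrep : ∀ z ∈ B, ∃ H : MvPolynomial (Fin n) k, aeval ξ H = z := by
    intro z hz; rw [hB, mem_adjoin_iff] at hz; exact hz
  have hB1 : ∀ z ∈ B, P.1 z ≤ 1 := by
    intro z hz; obtain ⟨H, rfl⟩ := hrep z hz; exact val_aeval_le P ξ c hres H
  have hfrac : ∀ z : K, ∃ b₁ ∈ B, ∃ b₂ ∈ B, b₂ ≠ 0 ∧ z * b₂ = b₁ := by
    intro z
    have hz : z ∈ IntermediateField.adjoin k (Set.range ξ) := by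
      rw [hK2]; exact IntermediateField.mem_top
    rw [IntermediateField.mem_adjoin_iff_div] at hz
    obtain ⟨r', hr', s', hs', rfl⟩ := hz
    by_cases hs0 : s' = 0
    · exact ⟨0, B.zero_mem, 1, B.one_mem, one_ne_zero, by rw [hs0, div_zero, zero_mul]⟩
    · exact ⟨r', by rw [hB]; exact hr', s', by rw [hB]; exact hs', hs0,
        div_mul_cancel₀ r' hs0⟩
  have hlinR : ∀ a ∈ R, lin c a ∈ IK ⊔ mI c • mI c := fun a ha => by
    rw [hR, hrows] at ha; exact lin_mem_of_mem_span c IK g hgI hg0 a ha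
  have hgradR : ∀ H ∈ IK, grad c H ∈ R := fun H hH => by
    have h1 := (grad_mem_of_mem_span c g hg0 H (hIKle hH)).2
    rw [hR, hrows]; exact h1
  have hfinR : Module.finrank k (Fin n → k) = n := Module.finrank_fin_fun k
  have hsum : ∀ x : Fin n → k, x = ∑ l, x l • (Pi.single l 1 : Fin n → k) := by
    intro x
    funext l'
    rw [Finset.sum_apply, Finset.sum_eq_single l']
    · rw [Pi.smul_apply, Pi.single_eq_same, smul_eq_mul, mul_one]
    · intro l _ hl
      rw [Pi.smul_apply, Pi.single_eq_of_ne hl.symm, smul_zero]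
    · intro h; exact absurd (Finset.mem_univ _) h
  constructor
  · intro hfull
    obtain ⟨t, ht⟩ := P.2.2 (WithZero.exp (-1 : ℤ))
    have ht1 : P.1 t ≤ 1 := by rw [ht]; exact JacAff.exp_neg_one_lt_one.le
    obtain ⟨U, hUB, W, hWB, hW1, hUW⟩ := hfull t ht1
    have hU : P.1 U = WithZero.exp (-1 : ℤ) := by rw [← hUW, map_mul, hW1, mul_one, ht]
    obtain ⟨Uh, rfl⟩ := hrep U hUB
    have hUlt : P.1 (aeval ξ Uh) < 1 := by rw [hU]; exact JacAff.exp_neg_one_lt_one
    obtain ⟨Hs, hHs⟩ := exists_comb P ξ c hres Uh hUlt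
    have hex : ∃ l₀, P.1 (ξ l₀ - algebraMap k K (c l₀)) = WithZero.exp (-1 : ℤ) := by
      by_contra hcon
      push Not at hcon
      have hlt : ∀ l, P.1 (ξ l - algebraMap k K (c l)) < WithZero.exp (-1 : ℤ) :=
        fun l => lt_of_le_of_ne ((JacAff.lt_one_iff _).mp (hres l)) (hcon l)
      have h2 : P.1 (aeval ξ Uh) < WithZero.exp (-1 : ℤ) := by
        rw [hHs]
        refine Valuation.map_sum_lt P.1 WithZero.exp_ne_zero (fun l _ => ?_)
        rw [map_mul]
        calc P.1 (ξ l - algebraMap k K (c l)) * P.1 (aeval ξ (Hs l))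
            ≤ P.1 (ξ l - algebraMap k K (c l)) * 1 :=
              mul_le_mul' le_rfl (val_aeval_le P ξ c hres _)
          _ = P.1 (ξ l - algebraMap k K (c l)) := mul_one _
          _ < WithZero.exp (-1 : ℤ) := hlt l
      rw [hU] at h2
      exact lt_irrefl _ h2
    obtain ⟨l₀, hl₀⟩ := hex
    obtain ⟨s, hs⟩ : ∃ s : K, s = ξ l₀ - algebraMap k K (c l₀) := ⟨_, rfl⟩
    rw [← hs] at hl₀
    have hs0 : s ≠ 0 := by
      intro h0; rw [h0, map_zero] at hl₀; exact WithZero.exp_ne_zero hl₀.symm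
    have hvec : ∀ l, ∃ w a : k, w ≠ 0 ∧
        w • (Pi.single l 1 : Fin n → k) - a • (Pi.single l₀ 1 : Fin n → k) ∈ R := by
      intro l
      obtain ⟨v, hv⟩ : ∃ v : K, v = ξ l - algebraMap k K (c l) := ⟨_, rfl⟩
      have hvle : P.1 v ≤ WithZero.exp (-1 : ℤ) := by
        rw [hv]; exact (JacAff.lt_one_iff _).mp (hres l)
      have hz1 : P.1 (v / s) ≤ 1 := by
        rw [map_div₀, hl₀]
        exact (div_le_one₀ (by rw [← hl₀]; exact FF.val_pos P hs0)).mpr hvle
      obtain ⟨A, hAB, W', hW'B, hW'1, hzW⟩ := hfull (v / s) hz1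
      have hrel : v * W' = s * A := by rw [← hzW]; field_simp
      obtain ⟨Ah, rfl⟩ := hrep A hAB
      obtain ⟨Wh, rfl⟩ := hrep W' hW'B
      obtain ⟨G, hGdef⟩ : ∃ G : MvPolynomial (Fin n) k,
          G = Wh * (X l - C (c l)) - Ah * (X l₀ - C (c l₀)) := ⟨_, rfl⟩
      have hG0 : aeval ξ G = 0 := by
        rw [hGdef]
        simp only [map_sub, map_mul, aeval_X, aeval_C]
        rw [← hv, ← hs]
        linear_combination hrel
      have hGR := hgradR G ((hIKmem G).mpr hG0)
      have hWc : eval c Wh ≠ 0 := by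
        intro h0
        have h2 := val_aeval_lt_of_eval P ξ c hres Wh h0
        rw [hW'1] at h2
        exact lt_irrefl _ h2
      refine ⟨eval c Wh, eval c Ah, hWc, ?_⟩
      have e : grad c G = eval c Wh • (Pi.single l 1 : Fin n → k) -
          eval c Ah • (Pi.single l₀ 1 : Fin n → k) := by
        rw [hGdef, map_sub, grad_mul, grad_mul, grad_X_sub_C, grad_X_sub_C]
        simp only [map_sub, eval_X, eval_C, sub_self, zero_smul, add_zero]
      rw [← e]; exact hGR
    choose w a hw0 hwa using hvec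
    have hsup : R ⊔ Submodule.span k {(Pi.single l₀ 1 : Fin n → k)} = ⊤ := by
      rw [eq_top_iff]
      intro x _
      rw [hsum x]
      refine Submodule.sum_mem _ (fun l _ => Submodule.smul_mem _ _ ?_)
      have e : (Pi.single l 1 : Fin n → k) = (w l)⁻¹ •
          ((w l • (Pi.single l 1 : Fin n → k) - a l • (Pi.single l₀ 1 : Fin n → k)) +
            a l • (Pi.single l₀ 1 : Fin n → k)) := by
        rw [sub_add_cancel, smul_smul, inv_mul_cancel₀ (hw0 l), one_smul]
      rw [e]
      exact Submodule.smul_mem _ _ (Submodule.add_mem _ (Submodule.mem_sup_left (hwa l))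
        (Submodule.mem_sup_right (Submodule.smul_mem _ _ (Submodule.mem_span_singleton_self _))))
    have h1 : n ≤ Module.finrank k R + 1 := by
      have h2 := Submodule.finrank_add_le_finrank_add_finrank R
        (Submodule.span k {(Pi.single l₀ 1 : Fin n → k)})
      rw [hsup, finrank_top, hfinR] at h2
      have hne : (Pi.single l₀ 1 : Fin n → k) ≠ 0 := by
        intro h0
        have h3 := congrFun h0 l₀
        rw [Pi.single_eq_same, Pi.zero_apply] at h3
        exact one_ne_zero h3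
      have h3 : Module.finrank k (Submodule.span k {(Pi.single l₀ 1 : Fin n → k)}) = 1 :=
        finrank_span_singleton hne
      omega
    have hRne : R ≠ ⊤ := by
      intro hRtop
      have hall : ∀ l, X l - C (c l) ∈ IK ⊔ mI c • mI c := by
        intro l
        rw [← lin_single c l]
        exact hlinR _ (by rw [hRtop]; exact Submodule.mem_top)
      obtain ⟨ρ, hρ1, hρ⟩ := nakayama c IK hall
      have h2 := hρ l₀
      rw [hIKmem, map_mul, map_sub, aeval_X, aeval_C, ← hs] at h2
      have hρv : P.1 (aeval ξ ρ) = 1 :=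
        val_aeval_eq_one P ξ c hres ρ (by rw [hρ1]; exact one_ne_zero)
      have hρ0 : aeval ξ ρ ≠ 0 := by
        intro h0; rw [h0, map_zero] at hρv; exact zero_ne_one hρv
      exact hs0 ((mul_eq_zero.mp h2).resolve_left hρ0)
    have h4 := Submodule.finrank_lt hRne
    rw [hfinR] at h4
    omega
  · intro hrk
    have hRne : R ≠ ⊤ := by
      intro hRtop
      rw [hRtop, finrank_top, hfinR] at hrk
      omega
    have hex : ∃ l₀, (Pi.single l₀ 1 : Fin n → k) ∉ R := by
      by_contra hcon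
      push Not at hcon
      apply hRne
      rw [eq_top_iff]
      intro x _
      rw [hsum x]
      exact Submodule.sum_mem _ (fun l _ => Submodule.smul_mem _ _ (hcon l))
    obtain ⟨l₀, hl₀⟩ := hex
    have hsup : R ⊔ Submodule.span k {(Pi.single l₀ 1 : Fin n → k)} = ⊤ := by
      apply Submodule.eq_top_of_finrank_eq
      rw [hfinR]
      have hlt : R < R ⊔ Submodule.span k {(Pi.single l₀ 1 : Fin n → k)} := by
        refine lt_of_le_of_ne le_sup_left (fun h => hl₀ ?_)
        rw [h]; exact Submodule.mem_sup_right (Submodule.mem_span_singleton_self _)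
      have h1 := Submodule.finrank_lt_finrank_of_lt hlt
      have h2 := Submodule.finrank_le (R ⊔ Submodule.span k {(Pi.single l₀ 1 : Fin n → k)})
      rw [hfinR] at h2
      omega
    obtain ⟨N₀, hN₀⟩ : ∃ N₀ : Ideal (MvPolynomial (Fin n) k),
        N₀ = Ideal.span {X l₀ - C (c l₀)} ⊔ IK := ⟨_, rfl⟩
    have hall : ∀ l, X l - C (c l) ∈ N₀ ⊔ mI c • mI c := by
      intro l
      have h1 : (Pi.single l 1 : Fin n → k) ∈
          R ⊔ Submodule.span k {(Pi.single l₀ 1 : Fin n → k)} := by
        rw [hsup]; exact Submodule.mem_top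
      obtain ⟨a, haR, b, hb, hab⟩ := Submodule.mem_sup.mp h1
      obtain ⟨β, rfl⟩ := Submodule.mem_span_singleton.mp hb
      have h2 := hlinR a haR
      obtain ⟨y, hy, z, hz, hyz⟩ := Submodule.mem_sup.mp h2
      have e : X l - C (c l) = (C β * (X l₀ - C (c l₀)) + y) + z := by
        rw [← lin_single c l, ← hab, lin_add, lin_smul, lin_single, ← hyz]; ring
      rw [e]
      refine Submodule.add_mem_sup ?_ hz
      rw [hN₀]
      exact Submodule.add_mem_sup
        (Ideal.mul_mem_left _ _ (Ideal.subset_span (Set.mem_singleton _))) hy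
    obtain ⟨ρ, hρ1, hρ⟩ := nakayama c N₀ hall
    have hρv : P.1 (aeval ξ ρ) = 1 :=
      val_aeval_eq_one P ξ c hres ρ (by rw [hρ1]; exact one_ne_zero)
    obtain ⟨s, hs⟩ : ∃ s : K, s = ξ l₀ - algebraMap k K (c l₀) := ⟨_, rfl⟩
    have hWu : ∀ l, ∃ A ∈ B, aeval ξ ρ * (ξ l - algebraMap k K (c l)) = s * A := by
      intro l
      have h1 := hρ l
      rw [hN₀] at h1
      obtain ⟨y, hy, z, hz, hyz⟩ := Submodule.mem_sup.mp h1
      obtain ⟨q, hq⟩ := Ideal.mem_span_singleton'.mp hy
      refine ⟨aeval ξ q, hmem q, ?_⟩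
      have h2 := congrArg (aeval ξ) hyz
      rw [← hq] at h2
      simp only [map_add, map_mul, map_sub, aeval_X, aeval_C] at h2
      rw [(hIKmem z).mp hz, add_zero, ← hs] at h2
      rw [← h2]; ring
    have h1 : ∀ z ∈ B, P.1 z < 1 → ∃ A ∈ B, aeval ξ ρ * z = s * A := by
      intro z hz hlt
      obtain ⟨H, rfl⟩ := hrep z hz
      obtain ⟨Hs, hHs⟩ := exists_comb P ξ c hres H hlt
      choose A hAB hA using hWu
      refine ⟨∑ l, A l * aeval ξ (Hs l),
        Subalgebra.sum_mem _ (fun l _ => B.mul_mem (hAB l) (hmem _)), ?_⟩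
      rw [hHs, Finset.mul_sum, Finset.mul_sum]
      refine Finset.sum_congr rfl (fun l _ => ?_)
      rw [← mul_assoc, hA l]; ring
    have hsB : s ∈ B := by
      rw [hs, hB]
      exact Subalgebra.sub_mem _ (Algebra.subset_adjoin ⟨l₀, rfl⟩)
        (Subalgebra.algebraMap_mem _ _)
    have hslt : P.1 s < 1 := by rw [hs]; exact hres l₀
    have hcore := core' P B hB1 hfrac hslt (hmem ρ) hρv h1
    exact JacAff.full_of_core P B hsB hslt hcore

end Groth.Agent.Helper6.JacN4
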