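import Mathlib
import Groth.Prelude.Def_DerCA
import Groth.Prelude.Def_Koszul
import Groth.Agent.Helper1.KoszulReg
import Groth.Agent.Helper1.KoszulBot

/-!
# Koszul complexes with coefficients in a complex (`KosC`)
-/

set_option autoImplicit false
set_option linter.style.haveILetI false
set_option linter.unusedSectionVars false

namespace Groth.Agent.Helper6.KC
open CategoryTheory Limits CochainComplex HomologicalComplex HomComplex
open Groth.Agent.Helper1 Groth.Agent.Helper1.Koszul

universe u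
variable {R : Type u} [CommRing R]

/-- the Koszul complex on `fs` with coefficients in the complex `L` (iterated cones) -/
noncomputable def KosC : List R → CochainComplex (ModuleCat.{u} R) ℤ →
    CochainComplex (ModuleCat.{u} R) ℤ
  | [], L => L
  | f :: fs, L => mappingCone (f • 𝟙 (KosC fs L))

lemma KosC_nil (L : CochainComplex (ModuleCat.{u} R) ℤ) : KosC ([] : List R) L = L := rfl

lemma KosC_cons (f : R) (fs : List R) (L : CochainComplex (ModuleCat.{u} R) ℤ) :
    KosC (f :: fs) L = mappingCone (f • 𝟙 (KosC fs L)) := rfl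

/-- functoriality in the coefficient complex -/
noncomputable def kcMap {L L' : CochainComplex (ModuleCat.{u} R) ℤ} (φ : L ⟶ L') :
    ∀ fs : List R, KosC fs L ⟶ KosC fs L'
  | [] => φ
  | f :: fs => mappingCone.map (f • 𝟙 (KosC fs L)) (f • 𝟙 (KosC fs L'))
      (kcMap φ fs) (kcMap φ fs) (smul_id_comm f _)

lemma kcMap_id (L : CochainComplex (ModuleCat.{u} R) ℤ) : ∀ fs : List R, kcMap (𝟙 L) fs = 𝟙 _
  | [] => rfl
  | f :: fs => by
    simp only [kcMap]
    have := kcMap_id L fs
    simp only [this]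
    exact mappingCone.map_id _

lemma kcMap_comp {L L' L'' : CochainComplex (ModuleCat.{u} R) ℤ} (g : L ⟶ L') (h : L' ⟶ L'') :
    ∀ fs : List R, kcMap (g ≫ h) fs = kcMap g fs ≫ kcMap h fs
  | [] => rfl
  | f :: fs => by
    simp only [kcMap]
    have := kcMap_comp g h fs
    simp only [this]
    exact mappingCone.map_comp _ _ _ _ _ _ _ _ _

lemma kcMap_smul {L L' : CochainComplex (ModuleCat.{u} R) ℤ} (c : R) (g : L ⟶ L') :
    ∀ fs : List R, kcMap (c • g) fs = c • kcMap g fs
  | [] => rfl
  | f :: fs => by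
    simp only [kcMap]
    have := kcMap_smul c g fs
    simp only [this]
    exact cone_map_smul _ _ _ _ _ c _

lemma kcMap_smul_id (L : CochainComplex (ModuleCat.{u} R) ℤ) (c : R) (fs : List R) :
    kcMap (c • 𝟙 L) fs = c • 𝟙 (KosC fs L) := by
  rw [kcMap_smul, kcMap_id]

lemma kcMap_zero {L L' : CochainComplex (ModuleCat.{u} R) ℤ} (fs : List R) :
    kcMap (0 : L ⟶ L') fs = 0 := by
  have := kcMap_smul (0 : R) (0 : L ⟶ L') fs
  rwa [zero_smul, zero_smul] at this

lemma isIso_smul_id (L : CochainComplex (ModuleCat.{u} R) ℤ) (c : R) (fs : List R)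
    (h : IsIso (c • 𝟙 L)) : IsIso (c • 𝟙 (KosC fs L)) := by
  rw [← kcMap_smul_id]
  refine ⟨kcMap (inv (c • 𝟙 L)) fs, ?_, ?_⟩
  · rw [← kcMap_comp, IsIso.hom_inv_id, kcMap_id]
  · rw [← kcMap_comp, IsIso.inv_hom_id, kcMap_id]

/-- degreewise short exactness is preserved -/
lemma degSES_kcMap {K₁ K₂ K₃ : CochainComplex (ModuleCat.{u} R) ℤ} (a : K₁ ⟶ K₂) (b : K₂ ⟶ K₃)
    (h : ∀ n, DegSES a b n) : ∀ (fs : List R) (n : ℤ), DegSES (kcMap a fs) (kcMap b fs) n
  | [], n => h n
  | f :: fs, n =>
    degSES_cone _ _ _ _ _ (smul_id_comm f _) (smul_id_comm f _) n (n + 1) rfl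
      (degSES_kcMap a b h fs n) (degSES_kcMap a b h fs (n + 1))

/-- elements of the list act null-homotopically -/
lemma nonempty_homotopy (L : CochainComplex (ModuleCat.{u} R) ℤ) :
    ∀ (fs : List R) (g : R), g ∈ fs → Nonempty (Homotopy (g • 𝟙 (KosC fs L)) 0)
  | [], g, hg => by simp at hg
  | f :: fs, g, hg => by
    rcases List.mem_cons.1 hg with rfl | hg
    · exact ⟨coneHomotopySelf (KosC fs L) g⟩
    · obtain ⟨H⟩ := nonempty_homotopy L fs g hg
      exact ⟨coneHomotopyOf (KosC fs L) f g H⟩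

lemma smul_id_homology_eq_zero (L : CochainComplex (ModuleCat.{u} R) ℤ) (fs : List R) (g : R)
    (hg : g ∈ fs) (n : ℤ) : g • 𝟙 ((KosC fs L).homology n) = 0 := by
  obtain ⟨H⟩ := nonempty_homotopy L fs g hg
  have h1 : homologyMap (g • 𝟙 (KosC fs L)) n = homologyMap 0 n := H.homologyMap_eq n
  rwa [homologyMap_smul', homologyMap_id, homologyMap_zero] at h1

/-- if `g ∈ fs` acts invertibly on `L` then `KosC fs L` is acyclic -/
lemma isZero_homology_of_isIso (L : CochainComplex (ModuleCat.{u} R) ℤ) (fs : List R) (g : R)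
    (hg : g ∈ fs) (h : IsIso (g • 𝟙 L)) (n : ℤ) : IsZero ((KosC fs L).homology n) := by
  haveI := isIso_smul_id L g fs h
  have h1 : IsIso (homologyMap (g • 𝟙 (KosC fs L)) n) := inferInstance
  rw [homologyMap_smul', homologyMap_id, smul_id_homology_eq_zero L fs g hg n] at h1
  rw [IsZero.iff_id_eq_zero]
  have := IsIso.hom_inv_id (0 : (KosC fs L).homology n ⟶ (KosC fs L).homology n)
  rw [zero_comp] at this
  exact this.symm

/-- the frozen Koszul complex is `KosC` of the ring in degree zero -/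
lemma koszul_eq (fs : List R) :
    Koszul.koszul R fs =
      KosC fs ((CochainComplex.singleFunctor (ModuleCat.{u} R) 0).obj (ModuleCat.of R R)) := by
  induction fs with
  | nil => rfl
  | cons f l ih =>
    show mappingCone (f • 𝟙 (Koszul.koszul R l)) = mappingCone (f • 𝟙 (KosC l _))
    rw [ih]

end Groth.Agent.Helper6.KC
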