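import Mathlib
import Groth.Prelude.Def_DerCA
import Groth.Prelude.Def_Koszul
import Groth.Prelude.Def_LCI2
import Groth.Agent.Helper6.KC1
import Groth.Agent.Helper1.ExtCechElem
import Groth.Agent.Helper1.ExtCechExact
import Groth.Agent.S9264

/-!
# Čech cohomology of a Koszul-regular sequence vanishes below the length
-/

set_option autoImplicit false
set_option linter.style.haveILetI false
set_option linter.unusedSectionVars false

namespace Groth.Agent.Helper6.KC
open CategoryTheory Limits CochainComplex HomologicalComplex HomComplex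
open Groth.Agent.Helper1 Groth.Agent.Helper1.Koszul

universe u
variable {R : Type u} [CommRing R]

/-- the bottom Koszul cohomology of a complex whose cohomology starts in degree `a` -/
lemma bot (L : CochainComplex (ModuleCat.{u} R) ℤ) (a : ℤ)
    (hL : ∀ q : ℤ, q < a → IsZero (L.homology q)) :
    ∀ (fs : List R) (d : ℤ), d = a - (fs.length : ℤ) →
      (∀ q : ℤ, q < d → IsZero ((KosC fs L).homology q)) ∧
      ∃ β : (KosC fs L).homology d ⟶ L.homology a, Function.Injective β.hom ∧
        ∀ x : L.homology a, x ∈ LinearMap.range β.hom ↔ ∀ f ∈ fs, f • x = 0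
  | [], d, hd => by
    have hd' : d = a := by simpa using hd
    subst hd'
    exact ⟨hL, 𝟙 _, fun x y h => h,
      fun x => ⟨fun _ f hf => by simp at hf, fun _ => ⟨x, rfl⟩⟩⟩
  | f :: fs, d, hd => by
    have hd1 : d + 1 = a - (fs.length : ℤ) := by
      simp only [List.length_cons, Nat.cast_add, Nat.cast_one] at hd
      omega
    obtain ⟨hz, β, hβ, hr⟩ := bot L a hL fs (d + 1) hd1
    refine ⟨?_, bd (KosC fs L) f d (d + 1) rfl ≫ β,
      bd_comp_injective (KosC fs L) f d (d + 1) rfl (hz d (by omega)) β hβ, ?_⟩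
    · intro q hq
      have h1 : IsZero ((KosC fs L).homology (q + 1)) := hz (q + 1) (by omega)
      have h0 : IsZero ((KosC fs L).homology q) := hz q (by omega)
      have s1 := ModuleCat.subsingleton_of_isZero h1
      have s0 := ModuleCat.subsingleton_of_isZero h0
      show IsZero ((mappingCone (f • 𝟙 (KosC fs L))).homology q)
      rw [ModuleCat.isZero_iff_subsingleton]
      refine subsingleton_of_forall_eq 0 (fun y => ?_)
      obtain ⟨x, rfl⟩ := exists_of_bd_eq_zero (KosC fs L) f q (q + 1) rfl y
        (Subsingleton.elim _ _)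
      rw [Subsingleton.elim x 0, map_zero]
    · intro x
      have h1 := range_bd_comp (KosC fs L) f d (d + 1) rfl β hβ x
      refine h1.trans ?_
      rw [hr x]
      constructor
      · rintro ⟨h3, h4⟩ y hy
        rcases List.mem_cons.1 hy with rfl | hy
        · exact h4
        · exact h3 y hy
      · intro h3
        exact ⟨fun y hy => h3 y (List.mem_cons_of_mem _ hy), h3 f List.mem_cons_self⟩

section cocone

variable {K L : CochainComplex (ModuleCat.{u} R) ℤ} (φ : K ⟶ L)

/-- the inclusion `L⟦-1⟧ ⟶ cocone φ` -/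
noncomputable def cocI :
    (CategoryTheory.shiftFunctor (CochainComplex (ModuleCat.{u} R) ℤ) (-1 : ℤ)).obj L ⟶
      mappingCocone φ :=
  (CategoryTheory.shiftFunctor (CochainComplex (ModuleCat.{u} R) ℤ) (-1 : ℤ)).map
    (mappingCone.inr φ)

lemma cocI_f (n : ℤ) :
    (cocI φ).f n = (mappingCocone.inr φ).1.v (n + -1) n (by omega) := by
  have h := Cochain.rightShift_v (Cochain.ofHom (mappingCone.inr φ)) (-1) 1
    (by omega : (1 : ℤ) + -1 = 0) (n + -1) n (by omega) (n + -1) (by omega)
  refine Eq.trans ?_ h.symm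
  simp only [cocI, shiftFunctorObjXIso, Cochain.ofHom_v, shiftFunctor_map_f', XIsoOfEq_rfl,
    Iso.refl_inv]
  exact (Category.comp_id _).symm

lemma degSES_cocone (n : ℤ) : DegSES (cocI φ) (mappingCocone.fst φ) n := by
  have hA := fun x => congrArg (fun g => g.hom x)
    (mappingCocone.inr_v_fst_f φ (n + -1) n (by omega))
  have hB := fun x => congrArg (fun g => g.hom x)
    (mappingCocone.inr_v_snd_v φ (n + -1) n (by omega))
  have hC := fun x => congrArg (fun g => g.hom x)
    (mappingCocone.id_X φ n (n + -1) rfl)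
  have hD := fun x => congrArg (fun g => g.hom x) (mappingCocone.inl_v_fst_f φ n)
  simp only [ModuleCat.hom_comp, LinearMap.comp_apply, ModuleCat.hom_add, LinearMap.add_apply,
    ModuleCat.hom_id, LinearMap.id_coe, id_eq, ModuleCat.hom_zero, LinearMap.zero_apply]
    at hA hB hC hD
  refine ⟨?_, ?_, ?_⟩
  · rw [cocI_f]
    intro x y hxy
    exact ((hB x).symm.trans (congrArg _ hxy)).trans (hB y)
  · intro y
    constructor
    · intro hy
      refine ⟨((mappingCocone.snd φ).v n (n + -1) rfl).hom y, ?_⟩
      rw [cocI_f]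
      have := hC y
      rw [hy, map_zero, zero_add] at this
      exact this
    · rintro ⟨x, rfl⟩
      rw [cocI_f]
      exact hA x
  · intro y
    exact ⟨_, hD y⟩

lemma cocI_fst : cocI φ ≫ mappingCocone.fst φ = 0 := by
  ext n x
  exact ((degSES_cocone φ n).2.1 _).2 ⟨x, rfl⟩

end cocone

lemma isIso_smul_locCx (g : R) (K : CochainComplex (ModuleCat.{u} R) ℤ) :
    IsIso (g • 𝟙 ((DerCA.locCx (Submonoid.powers g)).obj K)) := by
  haveI : ∀ n, IsIso ((g • 𝟙 ((DerCA.locCx (Submonoid.powers g)).obj K)).f n) := by
    intro n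
    rw [HomologicalComplex.smul_f_apply, HomologicalComplex.id_f,
      ConcreteCategory.isIso_iff_bijective]
    have hu := IsLocalizedModule.map_units (S := Submonoid.powers g)
      (LocalizedModule.mkLinearMap (Submonoid.powers g) (K.X n)) ⟨g, 1, pow_one g⟩
    exact (Module.End.isUnit_iff _).1 hu
  exact HomologicalComplex.Hom.isIso_of_components _

lemma isIso_smul_shift (g : R) (L : CochainComplex (ModuleCat.{u} R) ℤ) (h : IsIso (g • 𝟙 L)) :
    IsIso (g • 𝟙 ((CategoryTheory.shiftFunctor (CochainComplex (ModuleCat.{u} R) ℤ)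
      (-1 : ℤ)).obj L)) := by
  have : g • 𝟙 ((CategoryTheory.shiftFunctor (CochainComplex (ModuleCat.{u} R) ℤ)
      (-1 : ℤ)).obj L) =
      (CategoryTheory.shiftFunctor (CochainComplex (ModuleCat.{u} R) ℤ) (-1 : ℤ)).map
        (g • 𝟙 L) := by
    rw [Functor.map_smul, CategoryTheory.Functor.map_id]
  rw [this]
  infer_instance

/-- one Čech step does not change the vanishing of Koszul cohomology -/
lemma step (fs : List R) (g : R) (hg : g ∈ fs) (K : CochainComplex (ModuleCat.{u} R) ℤ) (j : ℤ)
    (h : IsZero ((KosC fs K).homology j)) :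
    IsZero ((KosC fs (mappingCocone
      (DerCA.locCxUnit (Submonoid.powers g) K))).homology j) := by
  obtain ⟨φ, hφ⟩ : ∃ φ, φ = DerCA.locCxUnit (Submonoid.powers g) K := ⟨_, rfl⟩
  rw [← hφ]
  let S : ShortComplex (CochainComplex (ModuleCat.{u} R) ℤ) :=
    ShortComplex.mk (kcMap (cocI φ) fs) (kcMap (mappingCocone.fst φ) fs)
      (by rw [← kcMap_comp, cocI_fst, kcMap_zero])
  have hS : S.ShortExact := by
    apply HomologicalComplex.shortExact_of_degreewise_shortExact
    intro n
    obtain ⟨h1, h2, h3⟩ := degSES_kcMap _ _ (degSES_cocone φ) fs n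
    refine ShortComplex.ShortExact.mk' ?_ ?_ ?_
    · rw [ShortComplex.ShortExact.moduleCat_exact_iff_function_exact]
      exact h2
    · exact (ModuleCat.mono_iff_injective _).2 h1
    · exact (ModuleCat.epi_iff_surjective _).2 h3
  have hex := hS.homology_exact₂ j
  have h1 : IsZero ((KosC fs ((CategoryTheory.shiftFunctor
      (CochainComplex (ModuleCat.{u} R) ℤ) (-1 : ℤ)).obj
        ((DerCA.locCx (Submonoid.powers g)).obj K))).homology j) :=
    isZero_homology_of_isIso _ fs g hg (isIso_smul_shift g _ (isIso_smul_locCx g K)) j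
  exact hex.isZero_X₂ (h1.eq_of_src _ _) (h.eq_of_tgt _ _)

lemma isZero_homology_of_eq {K K' : CochainComplex (ModuleCat.{u} R) ℤ} (h : K = K') (i : ℤ)
    (hz : IsZero (K.homology i)) : IsZero (K'.homology i) := by
  subst h
  exact hz

lemma cech_all (fs : List R) (M : ModuleCat.{u} R) (j : ℤ)
    (h : IsZero ((KosC fs ((HomologicalComplex.single (ModuleCat.{u} R)
      (ComplexShape.up ℤ) 0).obj M)).homology j)) :
    ∀ gs : List R, (∀ g ∈ gs, g ∈ fs) → IsZero ((KosC fs (DerCA.extCech M gs)).homology j)
  | [], _ => h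
  | g :: gs, hgs =>
    step fs g (hgs g List.mem_cons_self) (DerCA.extCech M gs) j
      (cech_all fs M j h gs (fun a ha => hgs a (List.mem_cons_of_mem _ ha)))

lemma eq_zero_of_torsion {N : Type u} [AddCommGroup N] [Module R N] (fs : List R)
    (h1 : ∀ x : N, (∀ f ∈ fs, f • x = 0) → x = 0)
    (h2 : ∀ x : N, ∃ n : ℕ, ∀ f ∈ fs, f ^ n • x = 0) (x : N) : x = 0 := by
  have key : ∀ (m : ℕ) (x : N), (∀ a ∈ (Ideal.span {a | a ∈ fs}) ^ m, a • x = 0) → x = 0 := by
    intro m
    induction m with
    | zero =>
      intro x hx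
      have := hx 1 (by simp)
      rwa [one_smul] at this
    | succ m ih =>
      intro x hx
      apply ih
      intro a ha
      apply h1
      intro f hf
      rw [← mul_smul]
      apply hx
      rw [pow_succ']
      exact Ideal.mul_mem_mul (Ideal.subset_span hf) ha
  obtain ⟨n, hn⟩ := (mem_torsionSub_span_iff fs N x).2 (h2 x)
  exact key n x hn

/-- Čech cohomology of a Koszul-regular sequence is concentrated in the top degree -/
theorem main (fs : List R) (hfs : LCI.IsKoszulRegularSeq R fs) (q : ℤ)
    (hq : q ≠ (fs.length : ℤ)) :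
    IsZero (DerCA.extCechH fs (ModuleCat.of R R) q) := by
  have key : ∀ (n : ℕ) (q : ℤ), q < n → q < (fs.length : ℤ) →
      IsZero (DerCA.extCechH fs (ModuleCat.of R R) q) := by
    intro n
    induction n with
    | zero =>
      intro q h1 _
      exact Groth.Agent.S9264.result R fs _ q (Or.inl (by simpa using h1))
    | succ n ih =>
      intro q h1 h2
      by_cases hqn : q < n
      · exact ih q hqn h2
      · have hqe : q = n := by push_cast at h1; omega
        subst hqe
        have hL : ∀ q' : ℤ, q' < (n : ℤ) →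
            IsZero ((DerCA.extCech (ModuleCat.of R R) fs).homology q') :=
          fun q' h => ih q' h (by omega)
        obtain ⟨_, β, hβ, hr⟩ := bot (DerCA.extCech (ModuleCat.of R R) fs) (n : ℤ) hL fs
          ((n : ℤ) - fs.length) rfl
        have hK : IsZero ((KosC fs ((HomologicalComplex.single (ModuleCat.{u} R)
            (ComplexShape.up ℤ) 0).obj (ModuleCat.of R R))).homology ((n : ℤ) - fs.length)) := by
          exact isZero_homology_of_eq (koszul_eq fs) _ (hfs ((n : ℤ) - fs.length) (by omega))
        have hT := cech_all fs (ModuleCat.of R R) _ hK fs (fun g hg => hg)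
        have sT := ModuleCat.subsingleton_of_isZero hT
        show IsZero ((DerCA.extCech (ModuleCat.of R R) fs).homology (n : ℤ))
        rw [ModuleCat.isZero_iff_subsingleton]
        refine subsingleton_of_forall_eq 0 (fun x => eq_zero_of_torsion fs ?_ ?_ x)
        · intro x hx
          obtain ⟨y, rfl⟩ := (hr x).2 hx
          rw [Subsingleton.elim y 0, map_zero]
        · intro x
          obtain ⟨N, _, hN⟩ := ExtCech.exists_pow_forall_smul_eq_zero (ModuleCat.of R R) fs n x
          exact ⟨N, hN⟩
  rcases lt_trichotomy q (fs.length : ℤ) with h | h | h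
  · exact key (q.toNat + 1) q (by push_cast; omega) h
  · exact absurd h hq
  · exact Groth.Agent.S9264.result R fs _ q (Or.inr h)

end Groth.Agent.Helper6.KC
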