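import Mathlib
import Groth.Agent.Helper6.FEtTrC

/-! The rank of a finite étale morphism is the number of sections over a geometric point. -/

set_option autoImplicit false
set_option linter.style.haveILetI false
set_option linter.unusedSectionVars false
set_option linter.unusedVariables false
set_option linter.unusedSimpArgs false

universe u

open CategoryTheory CategoryTheory.Limits Opposite AlgebraicGeometry

namespace Groth.Agent.Helper6.ProFEtA

section Algebra

variable (K : Type u) [Field K] (I : Type u) [Finite I]

/-- the algebra homomorphisms from a finite power of a field to the field are the evaluations -/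
theorem bijective_evalAlgHom :
    Function.Bijective (fun i : I => (Pi.evalAlgHom K (fun _ : I => K) i)) := by
  classical
  letI : Fintype I := Fintype.ofFinite I
  constructor
  · intro i j hij
    by_contra hne
    have h1 := congrArg (fun φ : (I → K) →ₐ[K] K => φ (Pi.single i 1)) hij
    simp only [Pi.evalAlgHom_apply, Pi.single_eq_same] at h1
    rw [Pi.single_eq_of_ne (Ne.symm hne)] at h1
    exact one_ne_zero h1
  · intro φ
    have hsum : ∀ x : I → K, x = ∑ i, x i • (Pi.single i (1 : K) : I → K) := by
      intro x
      ext j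
      simp [Finset.sum_apply, Pi.single_apply]
    have hidem : ∀ i, φ (Pi.single i 1) = 0 ∨ φ (Pi.single i 1) = 1 := by
      intro i
      have h : φ (Pi.single i 1) * φ (Pi.single i 1) = φ (Pi.single i 1) := by
        rw [← map_mul, ← Pi.single_mul, mul_one]
      have h' : φ (Pi.single i 1) * (φ (Pi.single i 1) - 1) = 0 := by
        rw [mul_sub, h, mul_one, sub_self]
      rcases mul_eq_zero.1 h' with h0 | h1
      · exact Or.inl h0
      · exact Or.inr (sub_eq_zero.1 h1)
    have hone : ∑ i, φ (Pi.single i (1 : K)) = 1 := by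
      rw [← map_sum, ← map_one φ]
      congr 1
      ext j
      simp [Finset.sum_apply, Pi.single_apply]
    have hex : ∃ i, φ (Pi.single i 1) = 1 := by
      by_contra hno
      have : ∀ i, φ (Pi.single i (1 : K)) = 0 :=
        fun i => (hidem i).resolve_right (fun hi => hno ⟨i, hi⟩)
      rw [Finset.sum_eq_zero (fun i _ => this i)] at hone
      exact zero_ne_one hone
    obtain ⟨i, hi⟩ := hex
    have horth : ∀ j, j ≠ i → φ (Pi.single j 1) = 0 := by
      intro j hj
      have h : φ (Pi.single j 1) * φ (Pi.single i 1) = 0 := by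
        rw [← map_mul]
        have : (Pi.single j (1 : K) : I → K) * Pi.single i 1 = 0 := by
          ext k
          simp only [Pi.mul_apply, Pi.single_apply, Pi.zero_apply]
          split_ifs with h1 h2
          · exact absurd (h1.symm.trans h2) hj
          all_goals simp
        rw [this, map_zero]
      rw [hi, mul_one] at h
      exact h
    refine ⟨i, ?_⟩
    apply AlgHom.ext
    intro x
    show x i = φ x
    conv_rhs => rw [hsum x]
    rw [map_sum]
    simp only [map_smul, smul_eq_mul]
    rw [Finset.sum_eq_single i]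
    · rw [hi, mul_one]
    · intro j _ hj
      rw [horth j hj, mul_zero]
    · intro h
      exact absurd (Finset.mem_univ i) h

/-- the number of points of an étale algebra over a separably closed field with values in the
field is the number of its primes -/
theorem card_algHom_eq (Ω B : Type u) [Field Ω] [IsSepClosed Ω] [CommRing B]
    [Algebra Ω B] [Algebra.Etale Ω B] : Nat.card (B →ₐ[Ω] Ω) = Nat.card (PrimeSpectrum B) := by
  haveI : Algebra.EssFiniteType Ω B := inferInstance
  let e : B ≃ₐ[Ω] (PrimeSpectrum B → Ω) := Algebra.FormallyEtale.equivPiOfIsSepClosed Ω B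
  haveI : Finite (PrimeSpectrum B) := by
    haveI := Algebra.FormallyUnramified.finite_of_free Ω B
    haveI : IsArtinianRing B := isArtinian_of_tower Ω inferInstance
    infer_instance
  have h1 : Nat.card (B →ₐ[Ω] Ω) = Nat.card ((PrimeSpectrum B → Ω) →ₐ[Ω] Ω) :=
    Nat.card_congr
      { toFun := fun φ => φ.comp e.symm.toAlgHom
        invFun := fun ψ => ψ.comp e.toAlgHom
        left_inv := fun φ => by
          apply AlgHom.ext
          intro x
          simp
        right_inv := fun ψ => by
          apply AlgHom.ext
          intro x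
          simp }
  rw [h1]
  exact (Nat.card_congr (Equiv.ofBijective _ (bijective_evalAlgHom Ω (PrimeSpectrum B)))).symm

end Algebra

section Geometry

set_option backward.isDefEq.respectTransparency.types false in
/-- the sections of a finite étale scheme over a separably closed field correspond to its
points -/
theorem card_sections_eq (Ω : Type u) [Field Ω] [IsSepClosed Ω] {Z : Scheme.{u}}
    (g : Z ⟶ Spec (CommRingCat.of Ω)) [IsFinite g] [Etale g] :
    Nat.card {σ : Spec (CommRingCat.of Ω) ⟶ Z // σ ≫ g = 𝟙 _} = Nat.card Z := by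
  haveI : IsAffine Z := isAffine_of_isAffineHom g
  let B : CommRingCat := Γ(Z, ⊤)
  let φ : CommRingCat.of Ω ⟶ B := Spec.preimage (Z.isoSpec.inv ≫ g)
  have hφ : Spec.map φ = Z.isoSpec.inv ≫ g := Spec.map_preimage _
  have het : φ.hom.Etale :=
    (HasRingHomProperty.Spec_iff (P := @Etale)).mp (by rw [hφ]; infer_instance)
  letI : Algebra Ω B := φ.hom.toAlgebra
  haveI hA : Algebra.Etale Ω B := RingHom.etale_algebraMap.mp het
  have h1 : Nat.card Z = Nat.card (PrimeSpectrum B) :=
    Nat.card_congr (Z.isoSpec.hom.homeomorph.toEquiv)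
  rw [h1, ← card_algHom_eq Ω B]
  refine Nat.card_congr
    { toFun := fun σ => AlgHom.mk (Spec.preimage (σ.1 ≫ Z.isoSpec.hom)).hom ?_
      invFun := fun ψ => ⟨Spec.map (CommRingCat.ofHom ψ.toRingHom) ≫ Z.isoSpec.inv, ?_⟩
      left_inv := ?_
      right_inv := ?_ }
  · intro r
    have h2 : Spec.map (φ ≫ Spec.preimage (σ.1 ≫ Z.isoSpec.hom)) = 𝟙 _ := by
      rw [Spec.map_comp, Spec.map_preimage, hφ, Category.assoc, Iso.hom_inv_id_assoc]
      exact σ.2
    have h3 : φ ≫ Spec.preimage (σ.1 ≫ Z.isoSpec.hom) = 𝟙 _ := by
      apply Spec.map_injective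
      rw [h2, Spec.map_id]
    exact ConcreteCategory.congr_hom h3 r
  · have h4 : φ ≫ CommRingCat.ofHom ψ.toRingHom = 𝟙 _ := by
      ext r
      exact ψ.commutes r
    rw [Category.assoc, ← hφ, ← Spec.map_comp, h4, Spec.map_id]
  · intro σ
    apply Subtype.ext
    show Spec.map (CommRingCat.ofHom (Spec.preimage (σ.1 ≫ Z.isoSpec.hom)).hom) ≫ Z.isoSpec.inv = σ.1
    have : CommRingCat.ofHom (Spec.preimage (σ.1 ≫ Z.isoSpec.hom)).hom =
        Spec.preimage (σ.1 ≫ Z.isoSpec.hom) := rfl
    rw [this, Spec.map_preimage, Category.assoc, Iso.hom_inv_id, Category.comp_id]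
  · intro ψ
    apply AlgHom.ext
    intro b
    show (Spec.preimage ((Spec.map (CommRingCat.ofHom ψ.toRingHom) ≫ Z.isoSpec.inv) ≫
      Z.isoSpec.hom)).hom b = ψ b
    have : Spec.preimage ((Spec.map (CommRingCat.ofHom ψ.toRingHom) ≫ Z.isoSpec.inv) ≫
        Z.isoSpec.hom) = CommRingCat.ofHom ψ.toRingHom := by
      apply Spec.map_injective
      rw [Spec.map_preimage, Category.assoc, Iso.inv_hom_id, Category.comp_id]
    rw [this]
    rfl

/-- the lifts of a geometric point along a finite étale morphism correspond to the points of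
the geometric fibre -/
theorem card_lifts_eq (Ω : Type u) [Field Ω] [IsSepClosed Ω] {X X' : Scheme.{u}} (f : X' ⟶ X)
    [IsFinite f] [Etale f] (η : Spec (CommRingCat.of Ω) ⟶ X) :
    Nat.card {t : Spec (CommRingCat.of Ω) ⟶ X' // t ≫ f = η} = Nat.card ↥(pullback f η) := by
  rw [← card_sections_eq Ω (pullback.snd f η)]
  exact Nat.card_congr
    { toFun := fun t => ⟨pullback.lift t.1 (𝟙 _) (by rw [t.2, Category.id_comp]),
        pullback.lift_snd _ _ _⟩
      invFun := fun σ => ⟨σ.1 ≫ pullback.fst f η, by
        rw [Category.assoc, pullback.condition, ← Category.assoc, σ.2, Category.id_comp]⟩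
      left_inv := fun t => by
        apply Subtype.ext
        exact pullback.lift_fst _ _ _
      right_inv := fun σ => by
        apply Subtype.ext
        apply pullback.hom_ext
        · exact pullback.lift_fst _ _ _
        · exact (pullback.lift_snd _ _ _).trans σ.2.symm }

set_option backward.isDefEq.respectTransparency.types false in
/-- the rank of a finite étale morphism all of whose geometric points have `d` lifts -/
theorem finrank_eq_of_card_lifts {X X' : Scheme.{u}} (f : X' ⟶ X) [IsFinite f] [Etale f] (d : ℕ)
    (hdeg : ∀ (Ω : Type u) [Field Ω] [IsAlgClosed Ω] (η : Spec (CommRingCat.of Ω) ⟶ X),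
      Nat.card {t : Spec (CommRingCat.of Ω) ⟶ X' // t ≫ f = η} = d) (s : X) :
    f.finrank s = d := by
  let Ω := AlgebraicClosure (X.residueField s)
  let ξ : Spec (CommRingCat.of Ω) ⟶ X :=
    Spec.map (CommRingCat.ofHom (algebraMap (X.residueField s) Ω)) ≫ X.fromSpecResidueField s
  obtain ⟨pt⟩ : Nonempty ↥(Spec (CommRingCat.of Ω)) := inferInstance
  have hpt : ξ pt = s := by
    rw [Scheme.Hom.comp_apply, Scheme.fromSpecResidueField_apply]
  have h1 := Scheme.Hom.finrank_pullback_snd f ξ pt
  rw [hpt] at h1
  rw [← h1, ← Groth.Agent.Helper6.FEtTrC.card_eq_finrank Ω (pullback.snd f ξ) pt,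
    ← card_lifts_eq Ω f ξ]
  exact hdeg Ω ξ

end Geometry

end Groth.Agent.Helper6.ProFEtA
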