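import Mathlib
import Groth.Agent.Helper6.ProFEtA
import Groth.Agent.Helper6.FlcRepD
import Groth.Agent.Helper3.FSplit1
import Groth.Agent.Helper3.FRank1

/-! Ranks of finite étale covers: constant schemes, complements of sections, connected pieces of
degree prime to `ℓ`. -/

set_option autoImplicit false
set_option linter.style.haveILetI false
set_option linter.unusedSectionVars false
set_option linter.unusedVariables false
set_option linter.unusedSimpArgs false

universe w u

open CategoryTheory CategoryTheory.Limits Opposite AlgebraicGeometry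

namespace Groth.Agent.Helper6.KFilA

open Groth.Agent.Helper6.FlcRepA Groth.Agent.Helper6.FlcRepD

/-- the number of lifts of a geometric point along a finite étale morphism is the rank -/
theorem card_lifts_eq_finrank (Ω : Type u) [Field Ω] [IsSepClosed Ω] {X X' : Scheme.{u}}
    (f : X' ⟶ X) [IsFinite f] [Etale f] (ξ : Spec (CommRingCat.of Ω) ⟶ X)
    (pt : ↥(Spec (CommRingCat.of Ω))) :
    Nat.card {t : Spec (CommRingCat.of Ω) ⟶ X' // t ≫ f = ξ} = f.finrank (ξ pt) := by
  rw [Groth.Agent.Helper6.ProFEtA.card_lifts_eq Ω f ξ,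
    Groth.Agent.Helper6.FEtTrC.card_eq_finrank Ω (pullback.snd f ξ) pt]
  exact Scheme.Hom.finrank_pullback_snd f ξ pt

/-- a geometric point above a given point -/
theorem exists_geomPoint {X : Scheme.{u}} (s : X) :
    ∃ (Ω : Type u) (_ : Field Ω) (_ : IsAlgClosed Ω) (ξ : Spec (CommRingCat.of Ω) ⟶ X),
      ∀ pt : ↥(Spec (CommRingCat.of Ω)), ξ pt = s := by
  let Ω := AlgebraicClosure (X.residueField s)
  let ξ : Spec (CommRingCat.of Ω) ⟶ X :=
    Spec.map (CommRingCat.ofHom (algebraMap (X.residueField s) Ω)) ≫ X.fromSpecResidueField s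
  refine ⟨Ω, inferInstance, inferInstance, ξ, fun pt => ?_⟩
  rw [Scheme.Hom.comp_apply, Scheme.fromSpecResidueField_apply]

instance (Ω : Type u) [Field Ω] : Subsingleton ↥(Spec (CommRingCat.of Ω)) :=
  inferInstanceAs (Subsingleton (PrimeSpectrum Ω))

instance (Ω : Type u) [Field Ω] : Nonempty ↥(Spec (CommRingCat.of Ω)) :=
  inferInstanceAs (Nonempty (PrimeSpectrum Ω))

/-- the rank of a constant scheme -/
theorem finrank_cHom (S : Scheme.{u}) (K : Type w) [Finite K] (s : S) :
    haveI := small_of_finite.{w, u} K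
    (cHom S K).finrank s = Nat.card K := by
  haveI := small_of_finite.{w, u} K
  haveI := isFinite_cHom S K
  haveI := etale_cHom S K
  obtain ⟨Ω, _, _, ξ, hξ⟩ := exists_geomPoint s
  obtain ⟨pt⟩ : Nonempty ↥(Spec (CommRingCat.of Ω)) := inferInstance
  rw [← hξ pt, ← card_lifts_eq_finrank Ω (cHom S K) ξ pt]
  refine Nat.card_congr ((ptsEquiv (S := S) (K := K) ξ).trans ?_)
  exact
    { toFun := fun f => f pt
      invFun := fun k => LocallyConstant.const _ k
      left_inv := fun f => by
        ext t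
        rw [Subsingleton.elim t pt]
        rfl
      right_inv := fun k => rfl }

/-- a clopen piece of a finite étale scheme is finite étale -/
lemma clopen_piece {X V : Scheme.{u}} (p : V ⟶ X) [IsFinite p] [Etale p] (U : V.Opens)
    (hU : IsClosed (U : Set V)) : IsFinite (U.ι ≫ p) ∧ Etale (U.ι ≫ p) := by
  haveI : IsClosedImmersion U.ι := by
    refine IsClosedImmersion.of_isPreimmersion _ ?_
    rw [Scheme.Opens.range_ι]
    exact hU
  exact ⟨inferInstance, inferInstance⟩

/-- the complement of a section of a finite étale morphism -/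
theorem section_complement {X V : Scheme.{u}} (p : V ⟶ X) [IsFinite p] [Etale p] (z : X ⟶ V)
    (hz : z ≫ p = 𝟙 X) :
    ∃ (V' : Scheme.{u}) (ι : V' ⟶ V), IsOpenImmersion ι ∧ IsFinite (ι ≫ p) ∧ Etale (ι ≫ p) ∧
      Set.range ι = (Set.range z)ᶜ ∧ ∀ x, p.finrank x = 1 + (ι ≫ p).finrank x := by
  have hsep : IsSeparated p := inferInstance
  have hzf : IsFinite (z ≫ p) := by rw [hz]; infer_instance
  have hze : Etale (z ≫ p) := by rw [hz]; infer_instance
  haveI : IsFinite z := MorphismProperty.of_postcomp @IsFinite z p hsep hzf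
  have hpe : Etale p := inferInstance
  haveI : Etale z := MorphismProperty.of_postcomp @Etale z p hpe hze
  haveI : Mono z := mono_of_mono_fac hz
  haveI : IsClosedImmersion z := (IsClosedImmersion.iff_isFinite_and_mono _).2 ⟨inferInstance, inferInstance⟩
  haveI : IsOpenImmersion z := IsOpenImmersion.of_flat_of_mono z
  let U : V.Opens := ⟨(Set.range z)ᶜ, z.isClosedEmbedding.isClosed_range.isOpen_compl⟩
  have hrj : Set.range U.ι = (Set.range z)ᶜ := Scheme.Opens.range_ι U
  have hcompl : IsCompl z.opensRange U.ι.opensRange := by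
    refine ⟨?_, ?_⟩
    · rw [disjoint_iff]
      apply SetLike.coe_injective
      show Set.range z ∩ Set.range U.ι = ∅
      rw [hrj]; exact Set.inter_compl_self _
    · rw [codisjoint_iff]
      apply SetLike.coe_injective
      show Set.range z ∪ Set.range U.ι = Set.univ
      rw [hrj]; exact Set.union_compl_self _
  have hUc : IsClosed (U : Set V) := z.isOpenEmbedding.isOpen_range.isClosed_compl
  obtain ⟨h1, h2⟩ := clopen_piece p U hUc
  refine ⟨U, U.ι, inferInstance, h1, h2, hrj, fun x => ?_⟩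
  haveI : IsFinite (z ≫ p) := by rw [hz]; infer_instance
  rw [Groth.Agent.Helper3.FSplit.finrank_add z U.ι hcompl p x]
  congr 1
  have : (z ≫ p).finrank = (𝟙 X : X ⟶ X).finrank := by rw [hz]
  rw [this]
  exact congrFun (Scheme.Hom.finrank_eq_one_of_isIso (𝟙 X)) x

/-- the rank of a finite étale morphism to a connected scheme is constant -/
lemma finrank_const {X V : Scheme.{u}} [PreconnectedSpace X] (p : V ⟶ X) [IsFinite p] [Etale p]
    (x y : X) : p.finrank x = p.finrank y :=
  (Scheme.Hom.isLocallyConstant_finrank p).apply_eq_of_preconnectedSpace x y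

/-- a finite étale cover of positive rank of a nonempty scheme is nonempty -/
lemma nonempty_of_finrank {X V : Scheme.{u}} [Nonempty X] (p : V ⟶ X) [IsFinite p] [Etale p]
    (d : ℕ) (hd : ∀ x, p.finrank x = d) (hd0 : d ≠ 0) : Nonempty V := by
  have hs : Surjective p := by
    rw [← Scheme.Hom.one_le_finrank_iff_surjective]
    intro x
    rw [hd x]
    exact Nat.one_le_iff_ne_zero.2 hd0
  obtain ⟨x⟩ : Nonempty X := inferInstance
  obtain ⟨v, -⟩ := hs.surj x
  exact ⟨v⟩

/-- a connected clopen piece of degree prime to `ℓ` -/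
theorem exists_connected_coprime (ℓ : ℕ) [hℓ : Fact ℓ.Prime] {X : Scheme.{u}} [ConnectedSpace X] :
    ∀ (d : ℕ) {V : Scheme.{u}} (p : V ⟶ X) [IsFinite p] [Etale p], (∀ x, p.finrank x = d) →
      ℓ.Coprime d →
      ∃ (C : Scheme.{u}) (ι : C ⟶ V), IsOpenImmersion ι ∧ ConnectedSpace C ∧ IsFinite (ι ≫ p) ∧
        Etale (ι ≫ p) ∧ ∃ d', (∀ x, (ι ≫ p).finrank x = d') ∧ ℓ.Coprime d' := by
  intro d
  induction d using Nat.strong_induction_on with
  | _ d IH =>
  intro V p _ _ hd hcop
  have hd0 : d ≠ 0 := by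
    rintro rfl
    rw [Nat.coprime_zero_right] at hcop
    exact hℓ.out.one_lt.ne' hcop
  haveI : Nonempty V := nonempty_of_finrank p d hd hd0
  by_cases hconn : PreconnectedSpace V
  · refine ⟨V, 𝟙 V, inferInstance, { toPreconnectedSpace := hconn, toNonempty := inferInstance },
      ?_, ?_, d, ?_, hcop⟩
    · rw [Category.id_comp]; infer_instance
    · rw [Category.id_comp]; infer_instance
    · intro x
      rw [Category.id_comp]; exact hd x
  · rw [preconnectedSpace_iff_clopen] at hconn
    push Not at hconn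
    obtain ⟨s, hs, hs0, hs1⟩ := hconn
    let U₁ : V.Opens := ⟨s, hs.isOpen⟩
    let U₂ : V.Opens := ⟨sᶜ, hs.isClosed.isOpen_compl⟩
    obtain ⟨f1, e1⟩ := clopen_piece p U₁ hs.isClosed
    obtain ⟨f2, e2⟩ := clopen_piece p U₂ hs.isOpen.isClosed_compl
    have hcompl : IsCompl U₁.ι.opensRange U₂.ι.opensRange := by
      rw [Scheme.Opens.opensRange_ι, Scheme.Opens.opensRange_ι]
      refine ⟨?_, ?_⟩
      · rw [disjoint_iff]
        apply SetLike.coe_injective
        show s ∩ sᶜ = ∅
        exact Set.inter_compl_self _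
      · rw [codisjoint_iff]
        apply SetLike.coe_injective
        show s ∪ sᶜ = Set.univ
        exact Set.union_compl_self _
    obtain ⟨x₀⟩ : Nonempty X := inferInstance
    let d₁ := (U₁.ι ≫ p).finrank x₀
    let d₂ := (U₂.ι ≫ p).finrank x₀
    have hd₁ : ∀ x, (U₁.ι ≫ p).finrank x = d₁ := fun x => finrank_const _ x x₀
    have hd₂ : ∀ x, (U₂.ι ≫ p).finrank x = d₂ := fun x => finrank_const _ x x₀
    have hsum : d = d₁ + d₂ := by
      rw [← hd x₀]
      exact Groth.Agent.Helper3.FSplit.finrank_add U₁.ι U₂.ι hcompl p x₀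
    have h1 : 1 ≤ d₁ := by
      obtain ⟨v, hv⟩ := hs0
      have := Scheme.Hom.one_le_finrank_map (U₁.ι ≫ p) (⟨v, hv⟩ : U₁)
      rwa [hd₁] at this
    have h2 : 1 ≤ d₂ := by
      have : sᶜ ≠ ∅ := by
        intro h
        exact hs1 (Set.compl_empty_iff.1 h)
      obtain ⟨v, hv⟩ := Set.nonempty_iff_ne_empty.2 this
      have := Scheme.Hom.one_le_finrank_map (U₂.ι ≫ p) (⟨v, hv⟩ : U₂)
      rwa [hd₂] at this
    have hor : ℓ.Coprime d₁ ∨ ℓ.Coprime d₂ := by
      by_contra hcon
      rw [not_or, hℓ.out.coprime_iff_not_dvd, not_not, hℓ.out.coprime_iff_not_dvd, not_not] at hcon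
      have : ℓ ∣ d := by rw [hsum]; exact dvd_add hcon.1 hcon.2
      exact (hℓ.out.coprime_iff_not_dvd.1 hcop) this
    rcases hor with hc | hc
    · obtain ⟨C, ι, hι, hC, hf, he, d', hd', hcop'⟩ :=
        IH d₁ (by omega) (U₁.ι ≫ p) hd₁ hc
      have e : (ι ≫ U₁.ι) ≫ p = ι ≫ U₁.ι ≫ p := Category.assoc _ _ _
      refine ⟨C, ι ≫ U₁.ι, inferInstance, hC, ?_, ?_, d', ?_, hcop'⟩
      · rw [e]; exact hf
      · rw [e]; exact he
      · intro x; rw [e]; exact hd' x
    · obtain ⟨C, ι, hι, hC, hf, he, d', hd', hcop'⟩ :=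
        IH d₂ (by omega) (U₂.ι ≫ p) hd₂ hc
      have e : (ι ≫ U₂.ι) ≫ p = ι ≫ U₂.ι ≫ p := Category.assoc _ _ _
      refine ⟨C, ι ≫ U₂.ι, inferInstance, hC, ?_, ?_, d', ?_, hcop'⟩
      · rw [e]; exact hf
      · rw [e]; exact he
      · intro x; rw [e]; exact hd' x

end Groth.Agent.Helper6.KFilA
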