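import Mathlib
import Groth.Agent.Helper6.KFilA
import Groth.Agent.Helper6.FlcRepH

/-! Representability of finite locally constant sheaves, with the rank of the representing
scheme. -/

set_option autoImplicit false
set_option linter.style.haveILetI false
set_option linter.unusedSectionVars false
set_option linter.unusedVariables false
set_option linter.unusedSimpArgs false

universe w u

open CategoryTheory CategoryTheory.Limits Opposite AlgebraicGeometry

namespace Groth.Agent.Helper6.KFilB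

open Groth.Agent.Helper6.FlcRepA Groth.Agent.Helper6.FlcRepB Groth.Agent.Helper6.FlcRepC
  Groth.Agent.Helper6.FlcRepD Groth.Agent.Helper6.FlcRepE Groth.Agent.Helper6.FlcRepF
  Groth.Agent.Helper6.FlcRepG Groth.Agent.Helper4.ConstLoc

section

variable {X : Scheme.{u}} {ι : Type u} {U : ι → X.Etale}
  {G : X.Etaleᵒᵖ ⥤ Type (u + 1)} (D : LocData.{w} G U) [∀ i, Finite (D.K i)]

include D in
/-- the abstract representability theorem, with ranks -/
theorem exists_rep' (hG : Presheaf.IsSheaf X.smallEtaleTopology G) (hU : EtCoh.Covers U) :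
    ∃ (V : X.Etale) (_ : IsFinite V.hom),
      Nonempty (G ≅ yoneda.obj V ⋙ uliftFunctor.{u + 1}) ∧
      ∀ (i : ι) (y : (U i).left), V.hom.finrank ((U i).hom y) = Nat.card (D.K i) := by
  obtain ⟨Y, ⟨Ψ⟩⟩ := effective D hU
  have hEt : Etale Y.hom := etale_hom D Ψ hU
  have hFin : IsFinite Y.hom := isFinite_hom D Ψ hU
  refine ⟨Yet hEt, hFin, ⟨?_⟩, ?_⟩
  · have := isCoverDense U hU
    let ℱ : Sheaf X.smallEtaleTopology (Type (u + 1)) :=
      ⟨yoneda.obj (Yet hEt) ⋙ uliftFunctor.{u + 1}, SmallSub.isSheaf_yoneda_ulift _⟩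
    let 𝒢 : Sheaf X.smallEtaleTopology (Type (u + 1)) := ⟨G, hG⟩
    exact (Functor.IsCoverDense.Types.presheafIso (G := (sm U).ι) (ℱ := ℱ) (ℱ' := 𝒢)
      (restrIso D Ψ hEt)).symm
  · intro i y
    show Y.hom.finrank ((U i).hom y) = _
    haveI : Flat Y.hom := inferInstance
    have h1 : IsIso (cIso D Ψ i).hom.left :=
      (inferInstance : IsIso ((Over.forget _).map (cIso D Ψ i).hom))
    haveI := small_of_finite.{w, u} (D.K i)
    haveI := isFinite_cHom (U i).left (D.K i)
    haveI hE : Etale (cHom (U i).left (D.K i)) := etale_cHom (U i).left (D.K i)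
    have hFl : Flat (cHom (U i).left (D.K i)) := inferInstance
    have e1 : (pullback.fst (U i).hom Y.hom).finrank y = Y.hom.finrank ((U i).hom y) :=
      Scheme.Hom.finrank_pullback_fst Y.hom (U i).hom y
    have e2 : (pullback.fst (U i).hom Y.hom).finrank =
        ((cIso D Ψ i).hom.left ≫ cHom (U i).left (D.K i)).finrank :=
      congrArg Scheme.Hom.finrank (fst_eq D Ψ i)
    have e3 : ((cIso D Ψ i).hom.left ≫ cHom (U i).left (D.K i)).finrank =
        (cHom (U i).left (D.K i)).finrank :=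
      @Scheme.Hom.finrank_comp_left_of_isIso _ _ _ (cIso D Ψ i).hom.left
        (cHom (U i).left (D.K i)) h1 hFl (isFinite_cHom (U i).left (D.K i))
    exact e1.symm.trans ((congrFun (e2.trans e3) y).trans
      (KFilA.finrank_cHom (U i).left (D.K i) y))

end

/-- finite locally constant sheaves are representable, with ranks -/
theorem rep_of_flc' {X : Scheme.{u}} (F : EtCoh.Ab X) (h : EtCoh.IsFiniteLocallyConstant F) :
    ∃ (ι : Type u) (V : ι → X.Etale) (_ : EtCoh.Covers V) (N : ι → AddCommGrpCat.{u + 1})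
      (_ : ∀ i, Finite (N i))
      (_ : ∀ i, Nonempty ((EtCoh.pull (V i).hom).obj F ≅ cS (V i).left (N i)))
      (U : X.Etale) (_ : IsFinite U.hom),
      Nonempty (F.obj ⋙ forget AddCommGrpCat.{u + 1} ≅ yoneda.obj U ⋙ uliftFunctor.{u + 1}) ∧
      ∀ (i : ι) (y : (V i).left), U.hom.finrank ((V i).hom y) = Nat.card (N i) := by
  obtain ⟨ι, V, hV, hM⟩ := (Groth.Agent.Helper4.OverEtC.flc_iff F).1 h
  choose M iM fM eM using hM
  haveI : ∀ i, EtShriek.JCont (V i).hom := fun i =>
    Groth.Agent.Helper9.EtJCont.jCont_of_etale _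
  let N : ι → AddCommGrpCat.{u + 1} := fun i => AddCommGrpCat.of (ULift.{u + 1} (M i))
  let ε : ∀ i, (EtShriek.restrAlong (V i).hom).obj F ≅ cS (V i).left (N i) := fun i =>
    (Groth.Agent.Helper9.EtShriekOpen.pullIsoRestr (V i).hom).symm.app F ≪≫ (eM i).some
  let E : ∀ i, (EtShriek.compEtale (V i).hom).op ⋙ F.obj ≅ (cS (V i).left (N i)).obj := fun i =>
    (sheafToPresheaf _ _).mapIso (ε i)
  let D : LocData.{u + 1} (F.obj ⋙ forget AddCommGrpCat.{u + 1}) V :=
    { K := fun i => N i
      sec := fun i W a => Equiv.ofBijective (secFun F (V i) (N i) (E i) a)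
        (secFun_bijective F (V i) (N i) (E i) a)
      nat := fun i W W' h a s w' => secFun_nat F (V i) (N i) (E i) h a s w' }
  haveI hfin : ∀ i, Finite (D.K i) := fun i => inferInstanceAs (Finite (ULift.{u + 1} (M i)))
  obtain ⟨U, hU, ⟨e⟩, hr⟩ := exists_rep' D
    ((isSheaf_iff_isSheaf_of_type _ _).2 (Groth.Agent.Helper6.GalDescC.isSheaf_forget F)) hV
  exact ⟨ι, V, hV, N, hfin, fun i => ⟨(eM i).some⟩, U, hU, ⟨e⟩, hr⟩

end Groth.Agent.Helper6.KFilB
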