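import Mathlib
import Groth.Prelude.Def_EtBase
import Groth.Prelude.Def_EtCore

/-! The torsor of liftings of a global section along an epimorphism of abelian étale sheaves. -/

set_option autoImplicit false
set_option linter.style.haveILetI false
set_option linter.unusedSectionVars false
set_option linter.unusedVariables false
set_option linter.unusedSimpArgs false

universe u

open CategoryTheory CategoryTheory.Limits Opposite AlgebraicGeometry

namespace Groth.Agent.Helper6.TorsRepA

variable {Y : Scheme.{u}}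

/-- the unique map to the terminal object -/
noncomputable def toTop (W : Y.Etale) : W ⟶ EtCoh.top Y := (EtCore.topIsTerminal Y).from W

lemma toTop_comp {W W' : Y.Etale} (h : W' ⟶ W) : h ≫ toTop W = toTop W' :=
  (EtCore.topIsTerminal Y).hom_ext _ _

section sections

/-- the sections functor -/
noncomputable abbrev Φ (W : Y.Etale) : EtCoh.Ab Y ⥤ AddCommGrpCat.{u + 1} :=
  sheafToPresheaf Y.smallEtaleTopology AddCommGrpCat.{u + 1} ⋙
    (evaluation Y.Etaleᵒᵖ AddCommGrpCat.{u + 1}).obj (op W)

instance (W : Y.Etale) : PreservesFiniteLimits (Φ W) := by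
  haveI : PreservesLimitsOfSize.{0, 0}
      (sheafToPresheaf Y.smallEtaleTopology AddCommGrpCat.{u + 1}) := inferInstance
  infer_instance

lemma app_injective {A B : EtCoh.Ab Y} (f : A ⟶ B) [Mono f] (W : Y.Etale) :
    Function.Injective (f.hom.app (op W)) := by
  have h : Mono ((Φ W).map f) := inferInstance
  exact (AddCommGrpCat.mono_iff_injective _).1 h

lemma app_exact (S : ShortComplex (EtCoh.Ab Y)) (hS : S.ShortExact) (W : Y.Etale)
    (x : S.X₂.obj.obj (op W)) (hx : S.g.hom.app (op W) x = 0) :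
    ∃ y : S.X₁.obj.obj (op W), S.f.hom.app (op W) y = x := by
  haveI := hS.mono_f
  have hS' : (S.map (Φ W)).Exact :=
    hS.exact.map_of_mono_of_preservesKernel (Φ W) inferInstance inferInstance
  rw [ShortComplex.ab_exact_iff] at hS'
  exact hS' x hx

lemma app_zero (S : ShortComplex (EtCoh.Ab Y)) (W : Y.Etale) (y : S.X₁.obj.obj (op W)) :
    S.g.hom.app (op W) (S.f.hom.app (op W) y) = 0 := by
  have h1 := congrArg (fun m => m.hom.app (op W)) S.zero
  exact ConcreteCategory.congr_hom h1 y

lemma hom_map {F G : EtCoh.Ab Y} (ψ : F ⟶ G) {W W' : Y.Etale} (g : W' ⟶ W)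
    (t : F.obj.obj (op W)) :
    ψ.hom.app (op W') (F.obj.map g.op t) = G.obj.map g.op (ψ.hom.app (op W) t) := by
  exact NatTrans.naturality_apply ψ.hom g.op t

lemma map_comp_apply (F : EtCoh.Ab Y) {W W' W'' : Y.Etale} (h' : W'' ⟶ W') (h : W' ⟶ W)
    (t : F.obj.obj (op W)) :
    F.obj.map (h' ≫ h).op t = F.obj.map h'.op (F.obj.map h.op t) := by
  rw [op_comp, Functor.map_comp, ConcreteCategory.comp_apply]

end sections

variable (S : ShortComplex (EtCoh.Ab Y)) (q : S.X₃.obj.obj (op (EtCoh.top Y)))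

/-- the restriction of the global section `q` -/
noncomputable def qAt (W : Y.Etale) : S.X₃.obj.obj (op W) := S.X₃.obj.map (toTop W).op q

lemma qAt_map {W W' : Y.Etale} (h : W' ⟶ W) : S.X₃.obj.map h.op (qAt S q W) = qAt S q W' := by
  unfold qAt
  rw [← map_comp_apply, toTop_comp]

/-- the subfunctor of liftings of `q` -/
noncomputable def sub : Subfunctor (S.X₂.obj ⋙ forget AddCommGrpCat.{u + 1}) where
  obj W := {s | S.g.hom.app W s = S.X₃.obj.map ((toTop W.unop).op) q}
  map {W W'} h s hs := by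
    have hs' : S.g.hom.app W s = qAt S q W.unop := hs
    show S.g.hom.app W' (S.X₂.obj.map h s) = qAt S q W'.unop
    have h1 := hom_map S.g h.unop s
    have h2 := qAt_map S q h.unop
    exact h1.trans ((congrArg (S.X₃.obj.map h) hs').trans h2)

/-- the presheaf of liftings of `q` -/
noncomputable def P : Y.Etaleᵒᵖ ⥤ Type (u + 1) := (sub S q).toFunctor

lemma mem_sub_iff (W : Y.Etale) (s : S.X₂.obj.obj (op W)) :
    s ∈ (sub S q).obj (op W) ↔ S.g.hom.app (op W) s = qAt S q W := Iff.rfl

/-- constructor for sections of `P` -/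
def mkP (W : Y.Etale) (s : S.X₂.obj.obj (op W)) (hs : S.g.hom.app (op W) s = qAt S q W) :
    (P S q).obj (op W) := ⟨s, hs⟩

lemma P_prop (W : Y.Etale) (s : (P S q).obj (op W)) : S.g.hom.app (op W) s.1 = qAt S q W := s.2

lemma P_map_val {W W' : Y.Etale} (h : W' ⟶ W) (s : (P S q).obj (op W)) :
    ((P S q).map h.op s).1 = S.X₂.obj.map h.op s.1 := rfl

theorem isSheaf_P : Presheaf.IsSheaf Y.smallEtaleTopology (P S q) := by
  rw [isSheaf_iff_isSheaf_of_type]
  have hI : Presieve.IsSheaf Y.smallEtaleTopology (S.X₂.obj ⋙ forget AddCommGrpCat.{u + 1}) :=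
    (isSheaf_iff_isSheaf_of_type _ _).mp
      ((Presheaf.isSheaf_iff_isSheaf_forget _ _ (forget AddCommGrpCat)).mp S.X₂.property)
  have hQ : Presieve.IsSheaf Y.smallEtaleTopology (S.X₃.obj ⋙ forget AddCommGrpCat.{u + 1}) :=
    (isSheaf_iff_isSheaf_of_type _ _).mp
      ((Presheaf.isSheaf_iff_isSheaf_forget _ _ (forget AddCommGrpCat)).mp S.X₃.property)
  refine (Subfunctor.isSheaf_iff (sub S q) hI).2 ?_
  intro W s hs
  show S.g.hom.app W s = qAt S q W.unop
  refine (hQ _ hs).isSeparatedFor.ext ?_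
  intro W' f hf
  have hf' : S.g.hom.app (op W') (S.X₂.obj.map f.op s) = qAt S q W' := hf
  show S.X₃.obj.map f.op (S.g.hom.app W s) = S.X₃.obj.map f.op (qAt S q W.unop)
  rw [qAt_map S q f, ← hf']
  exact (hom_map S.g f s).symm

variable (hS : S.ShortExact)

include hS in
lemma exists_diff (W : Y.Etale) (s t : S.X₂.obj.obj (op W))
    (hs : S.g.hom.app (op W) s = qAt S q W) (ht : S.g.hom.app (op W) t = qAt S q W) :
    ∃ x : S.X₁.obj.obj (op W), S.f.hom.app (op W) x = s - t := by
  apply app_exact S hS W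
  rw [map_sub, hs, ht, sub_self]

/-- the difference of two liftings, as a section of the kernel -/
noncomputable def diff (W : Y.Etale) (s t : S.X₂.obj.obj (op W))
    (hs : S.g.hom.app (op W) s = qAt S q W) (ht : S.g.hom.app (op W) t = qAt S q W) :
    S.X₁.obj.obj (op W) := (exists_diff S q hS W s t hs ht).choose

lemma f_diff (W : Y.Etale) (s t : S.X₂.obj.obj (op W))
    (hs : S.g.hom.app (op W) s = qAt S q W) (ht : S.g.hom.app (op W) t = qAt S q W) :
    S.f.hom.app (op W) (diff S q hS W s t hs ht) = s - t :=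
  (exists_diff S q hS W s t hs ht).choose_spec

/-- liftings of `q` over `W` form a torsor under the kernel, trivialised by a lifting `t` -/
noncomputable def diffEquiv (W : Y.Etale) (t : S.X₂.obj.obj (op W))
    (ht : S.g.hom.app (op W) t = qAt S q W) : (P S q).obj (op W) ≃ S.X₁.obj.obj (op W) where
  toFun s := diff S q hS W s.1 t s.2 ht
  invFun x := mkP S q W (S.f.hom.app (op W) x + t) (by
    rw [map_add, app_zero, zero_add, ht])
  left_inv s := by
    apply Subtype.ext
    show S.f.hom.app (op W) (diff S q hS W s.1 t s.2 ht) + t = s.1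
    rw [f_diff]
    abel
  right_inv x := by
    haveI := hS.mono_f
    apply app_injective S.f W
    rw [f_diff]
    show S.f.hom.app (op W) x + t - t = _
    abel

lemma diffEquiv_nat {W W' : Y.Etale} (h : W' ⟶ W) (t : S.X₂.obj.obj (op W))
    (ht : S.g.hom.app (op W) t = qAt S q W) (t' : S.X₂.obj.obj (op W'))
    (ht' : S.g.hom.app (op W') t' = qAt S q W') (htt : t' = S.X₂.obj.map h.op t)
    (s : (P S q).obj (op W)) :
    diffEquiv S q hS W' t' ht' ((P S q).map h.op s) =
      S.X₁.obj.map h.op (diffEquiv S q hS W t ht s) := by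
  haveI := hS.mono_f
  apply app_injective S.f W'
  have e1 : S.f.hom.app (op W') (diffEquiv S q hS W' t' ht' ((P S q).map h.op s)) =
      ((P S q).map h.op s).1 - t' :=
    f_diff S q hS W' ((P S q).map h.op s).1 t' ((P S q).map h.op s).2 ht'
  have e2 : S.f.hom.app (op W) (diffEquiv S q hS W t ht s) = s.1 - t :=
    f_diff S q hS W s.1 t s.2 ht
  have e3 : S.X₂.obj.map h.op (s.1 - t) = S.X₂.obj.map h.op s.1 - S.X₂.obj.map h.op t :=
    map_sub _ _ _
  rw [e1, hom_map, e2]
  exact (congrArg (fun z => ((P S q).map h.op s).1 - z) htt).trans e3.symm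

end Groth.Agent.Helper6.TorsRepA
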