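import Mathlib
import Groth.Prelude.Def_EtBase
import Groth.Prelude.Def_EtCore
import Groth.Agent.Helper4.ConstLoc
import Groth.Agent.Helper6.TorsRepA

/-! Morphisms from a constant sheaf defined by global sections; the monomorphism `ℤ/ℓ → H`
attached to a nowhere vanishing `ℓ`-torsion section. -/

set_option autoImplicit false
set_option linter.style.haveILetI false
set_option linter.unusedSectionVars false
set_option linter.unusedVariables false
set_option linter.unusedSimpArgs false

universe u

open CategoryTheory CategoryTheory.Limits Opposite AlgebraicGeometry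

namespace Groth.Agent.Helper6.KFilC

open Groth.Agent.Helper4.ConstLoc Groth.Agent.Helper6.TorsRepA

variable {C : Scheme.{u}} (H : EtCoh.Ab C) (A : AddCommGrpCat.{u + 1})
  (f : A ⟶ H.obj.obj (op (EtCoh.top C)))

/-- the map of presheaves from the constant presheaf -/
noncomputable def preMap : P C A ⟶ H.obj where
  app W := f ≫ H.obj.map (toTop W.unop).op
  naturality W W' g := by
    have h1 : (P C A).map g = 𝟙 A := rfl
    have h2 : toTop W'.unop = g.unop ≫ toTop W.unop := (toTop_comp g.unop).symm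
    rw [h1, Category.assoc, h2, op_comp, Functor.map_comp]
    exact Category.id_comp _

/-- the map of sheaves from the constant sheaf attached to a map to the global sections -/
noncomputable def secMap : cS C A ⟶ H :=
  ⟨sheafifyLift C.smallEtaleTopology (preMap H A f) H.property⟩

lemma secMap_η (W : C.Etale) (a : A) :
    (secMap H A f).hom.app (op W) ((η C A).app (op W) a) = H.obj.map (toTop W).op (f a) := by
  have h := toSheafify_sheafifyLift C.smallEtaleTopology (preMap H A f) H.property
  have h1 := congrArg (fun m => m.app (op W)) h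
  exact ConcreteCategory.congr_hom h1 a

/-- a criterion for `secMap` to be a monomorphism -/
theorem mono_secMap
    (hf : ∀ (W : C.Etale) (w : W.left) (a : A), H.obj.map (toTop W).op (f a) = 0 → a = 0) :
    Mono (secMap H A f) := by
  haveI : ∀ W, Mono ((secMap H A f).hom.app W) := by
    intro W
    rw [AddCommGrpCat.mono_iff_injective, injective_iff_map_eq_zero]
    intro t ht
    apply sec_ext (cS C A) W.unop
    intro x
    obtain ⟨W', g, x', a, hx, ha⟩ := exists_const A W.unop t x
    refine ⟨W', g, x', hx, ?_⟩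
    have h1 : (secMap H A f).hom.app (op W') ((cS C A).obj.map g.op t) = 0 := by
      rw [TorsRepA.hom_map]
      have : (secMap H A f).hom.app (op W.unop) t = 0 := ht
      rw [this, map_zero]
    rw [ha, secMap_η] at h1
    have ha0 : a = 0 := hf W' x' a h1
    rw [ha, ha0, map_zero, map_zero]
  haveI : Mono (secMap H A f).hom := NatTrans.mono_of_mono_app _
  exact Sheaf.Hom.mono_of_presheaf_mono _ _ _

section zmod

variable (ℓ : ℕ) [hℓ : Fact ℓ.Prime] (s : H.obj.obj (op (EtCoh.top C))) (hs : ℓ • s = 0)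

/-- the value group `ℤ/ℓ` -/
abbrev Zl : AddCommGrpCat.{u + 1} := AddCommGrpCat.of (ULift.{u + 1} (ZMod ℓ))

/-- the homomorphism `ℤ/ℓ → H(C)` attached to an `ℓ`-torsion section -/
noncomputable def zmodHom : Zl.{u} ℓ ⟶ H.obj.obj (op (EtCoh.top C)) :=
  AddCommGrpCat.ofHom ((ZMod.lift ℓ ⟨zmultiplesHom _ s, by
    show ((ℓ : ℕ) : ℤ) • s = 0
    rw [natCast_zsmul]; exact hs⟩).comp AddEquiv.ulift.toAddMonoidHom)

lemma zmodHom_apply (a : Zl.{u} ℓ) : zmodHom H ℓ s hs a = (ZMod.val a.down) • s := by
  haveI : NeZero ℓ := ⟨hℓ.out.ne_zero⟩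
  have h1 : a.down = ((ZMod.val a.down : ℤ) : ZMod ℓ) := by
    rw [Int.cast_natCast, ZMod.natCast_zmod_val]
  have h2 : zmodHom H ℓ s hs a = ZMod.lift ℓ ⟨zmultiplesHom _ s, by
      show ((ℓ : ℕ) : ℤ) • s = 0
      rw [natCast_zsmul]; exact hs⟩ a.down := rfl
  rw [h2, h1, ZMod.lift_coe]
  show ((ZMod.val a.down : ℕ) : ℤ) • s = _
  rw [natCast_zsmul, ← h1]

/-- the morphism `ℤ/ℓ → H` attached to an `ℓ`-torsion section -/
noncomputable def zmodMap : cS C (Zl.{u} ℓ) ⟶ H := secMap H (Zl.{u} ℓ) (zmodHom H ℓ s hs)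

/-- if the section vanishes nowhere, the morphism is a monomorphism -/
theorem mono_zmodMap (hnz : ∀ (W : C.Etale) (w : W.left), H.obj.map (toTop W).op s ≠ 0) :
    Mono (zmodMap H ℓ s hs) := by
  haveI : NeZero ℓ := ⟨hℓ.out.ne_zero⟩
  apply mono_secMap
  intro W w a ha
  rw [zmodHom_apply, map_nsmul] at ha
  set t := H.obj.map (toTop W).op s with ht
  have ht0 : t ≠ 0 := hnz W w
  have hℓt : ℓ • t = 0 := by rw [ht, ← map_nsmul, hs, map_zero]
  have hdvd : addOrderOf t ∣ ℓ := addOrderOf_dvd_of_nsmul_eq_zero hℓt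
  have hord : addOrderOf t = ℓ := by
    rcases (Nat.dvd_prime hℓ.out).1 hdvd with h | h
    · exact absurd (AddMonoid.addOrderOf_eq_one_iff.1 h) ht0
    · exact h
  have h2' : addOrderOf t ∣ ZMod.val a.down := addOrderOf_dvd_of_nsmul_eq_zero ha
  have h2 : ℓ ∣ ZMod.val a.down := by
    obtain ⟨c, hc⟩ := h2'
    exact ⟨c, hc.trans (congrArg (· * c) hord)⟩
  have h3 : ZMod.val a.down = 0 := Nat.eq_zero_of_dvd_of_lt h2 (ZMod.val_lt _)
  have h4 : a.down = 0 := (ZMod.val_eq_zero _).1 h3
  exact ULift.ext _ _ h4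

end zmod

end Groth.Agent.Helper6.KFilC
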