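import Mathlib
import Groth.Agent.Helper3.FSplit1

/-! A scheme finite étale over a scheme with finitely many connected components has finitely many
connected components. -/

set_option autoImplicit false
set_option linter.style.haveILetI false
set_option linter.unusedSectionVars false
set_option linter.unusedVariables false
set_option linter.unusedSimpArgs false

universe u

open CategoryTheory CategoryTheory.Limits Opposite AlgebraicGeometry

namespace Groth.Agent.Helper6.KPiA

variable {Y : Scheme.{u}}

/-- a locally constant function is constant on connected components -/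
lemma lc_eq_of_mk_eq {N : Type*} {r : Y → N} (hr : IsLocallyConstant r) {y y' : Y}
    (h : ConnectedComponents.mk y = ConnectedComponents.mk y') : r y = r y' := by
  have h1 : y' ∈ connectedComponent y := by
    rw [ConnectedComponents.coe_eq_coe] at h
    rw [h]
    exact mem_connectedComponent
  exact hr.apply_eq_of_isPreconnected isPreconnected_connectedComponent mem_connectedComponent h1

variable (hY : Finite (_root_.ConnectedComponents ↥Y))

/-- the total rank of a finite étale scheme over `Y` -/
noncomputable def wt {A : Scheme.{u}} (g : A ⟶ Y) : ℕ :=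
  letI := @Fintype.ofFinite (_root_.ConnectedComponents ↥Y) hY
  ∑ j : _root_.ConnectedComponents ↥Y, g.finrank (Quotient.out j)

lemma one_le_wt {A : Scheme.{u}} (g : A ⟶ Y) [IsFinite g] [Etale g] (a : A) : 1 ≤ wt hY g := by
  letI := @Fintype.ofFinite (_root_.ConnectedComponents ↥Y) hY
  have hlc := Scheme.Hom.isLocallyConstant_finrank g
  let j : _root_.ConnectedComponents ↥Y := ConnectedComponents.mk (g a)
  have h1 : g.finrank (Quotient.out j) = g.finrank (g a) := by
    apply lc_eq_of_mk_eq hlc
    exact Quotient.out_eq j
  have h2 : 1 ≤ g.finrank (g a) := Scheme.Hom.one_le_finrank_map g a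
  have h3 : g.finrank (Quotient.out j) ≤ wt hY g := by
    unfold wt
    exact Finset.single_le_sum (f := fun j => g.finrank (Quotient.out j))
      (fun _ _ => Nat.zero_le _) (Finset.mem_univ j)
  omega

lemma isClosedImmersion_ι {A : Scheme.{u}} (U : A.Opens) (hU : IsClosed (U : Set A)) :
    IsClosedImmersion U.ι := by
  refine IsClosedImmersion.of_isPreimmersion _ ?_
  rw [Scheme.Opens.range_ι]
  exact hU

theorem finite_cc : ∀ (n : ℕ) {A : Scheme.{u}} (g : A ⟶ Y) [IsFinite g] [Etale g], wt hY g ≤ n →
    Finite (_root_.ConnectedComponents ↥A) := by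
  intro n
  induction n using Nat.strong_induction_on with
  | _ n ih =>
    intro A g _ _ hn
    by_cases hpre : PreconnectedSpace A
    · haveI : Subsingleton (_root_.ConnectedComponents ↥A) := ConnectedComponents.subsingleton
      exact Finite.of_subsingleton
    · rw [preconnectedSpace_iff_clopen] at hpre
      push Not at hpre
      obtain ⟨s, hs, hne, hnu⟩ := hpre
      let U : A.Opens := ⟨s, hs.isOpen⟩
      let V : A.Opens := ⟨sᶜ, hs.isClosed.isOpen_compl⟩
      have hUc : IsClosedImmersion U.ι := isClosedImmersion_ι U hs.isClosed
      have hVc : IsClosedImmersion V.ι := isClosedImmersion_ι V hs.isOpen.isClosed_compl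
      have hcompl : IsCompl U.ι.opensRange V.ι.opensRange := by
        refine ⟨?_, ?_⟩
        · rw [disjoint_iff]
          apply SetLike.coe_injective
          show Set.range U.ι ∩ Set.range V.ι = ∅
          rw [Scheme.Opens.range_ι, Scheme.Opens.range_ι]
          exact Set.inter_compl_self s
        · rw [codisjoint_iff]
          apply SetLike.coe_injective
          show Set.range U.ι ∪ Set.range V.ι = Set.univ
          rw [Scheme.Opens.range_ι, Scheme.Opens.range_ι]
          exact Set.union_compl_self s
      have hfU : IsFinite (U.ι ≫ g) := inferInstance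
      have hfV : IsFinite (V.ι ≫ g) := inferInstance
      have hadd : ∀ y, g.finrank y = (U.ι ≫ g).finrank y + (V.ι ≫ g).finrank y := fun y =>
        Groth.Agent.Helper3.FSplit.finrank_add U.ι V.ι hcompl g y
      have hw : wt hY g = wt hY (U.ι ≫ g) + wt hY (V.ι ≫ g) := by
        letI := @Fintype.ofFinite (_root_.ConnectedComponents ↥Y) hY
        unfold wt
        rw [← Finset.sum_add_distrib]
        exact Finset.sum_congr rfl (fun j _ => hadd _)
      obtain ⟨a, ha⟩ := hne
      obtain ⟨b, hb⟩ : ∃ b, b ∉ s := by
        by_contra hcon
        push Not at hcon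
        exact hnu (Set.eq_univ_of_forall hcon)
      have h1 : 1 ≤ wt hY (U.ι ≫ g) := one_le_wt hY (U.ι ≫ g) ⟨a, ha⟩
      have h2 : 1 ≤ wt hY (V.ι ≫ g) := one_le_wt hY (V.ι ≫ g) ⟨b, hb⟩
      have fU : Finite (_root_.ConnectedComponents ↥(U : Scheme.{u})) :=
        ih (wt hY (U.ι ≫ g)) (by omega) (U.ι ≫ g) le_rfl
      have fV : Finite (_root_.ConnectedComponents ↥(V : Scheme.{u})) :=
        ih (wt hY (V.ι ≫ g)) (by omega) (V.ι ≫ g) le_rfl
      let m : _root_.ConnectedComponents ↥(U : Scheme.{u}) ⊕
          _root_.ConnectedComponents ↥(V : Scheme.{u}) → _root_.ConnectedComponents ↥A :=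
        Sum.elim U.ι.continuous.connectedComponentsMap V.ι.continuous.connectedComponentsMap
      have hm : Function.Surjective m := by
        intro c
        obtain ⟨x, rfl⟩ := ConnectedComponents.surjective_coe c
        by_cases hx : x ∈ s
        · refine ⟨Sum.inl (ConnectedComponents.mk (⟨x, hx⟩ : U)), ?_⟩
          show U.ι.continuous.connectedComponentsMap (ConnectedComponents.mk _) = _
          rw [Continuous.connectedComponentsMap_mk]
          rfl
        · refine ⟨Sum.inr (ConnectedComponents.mk (⟨x, hx⟩ : V)), ?_⟩
          show V.ι.continuous.connectedComponentsMap (ConnectedComponents.mk _) = _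
          rw [Continuous.connectedComponentsMap_mk]
          rfl
      haveI : Finite (_root_.ConnectedComponents ↥(U : Scheme.{u}) ⊕
          _root_.ConnectedComponents ↥(V : Scheme.{u})) := @Finite.instSum _ _ fU fV
      exact Finite.of_surjective m hm

include hY in
/-- a scheme finite étale over a scheme with finitely many connected components has finitely many
connected components -/
theorem finite_connectedComponents {X : Scheme.{u}} (f : X ⟶ Y) [IsFinite f] [Etale f] :
    Finite (_root_.ConnectedComponents ↥X) := finite_cc hY (wt hY f) f le_rfl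

end Groth.Agent.Helper6.KPiA
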