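import Mathlib
import Groth.Prelude.Def_EtBase
import Groth.Prelude.Def_EtCore
import Groth.Prelude.Def_EtLim
import Groth.Agent.Helper4.LanExact
import Groth.Agent.Helper4.FlcPull
import Groth.Agent.Helper5.FlcPush3
import Groth.Agent.Helper9.HpullComp
import Groth.Agent.Helper6.ConsJ
import Groth.Agent.Helper6.KPiA
import Groth.Agent.S14451
import Groth.Agent.S14389
import Groth.Agent.S0071

/-! The `K(π,1)` property and finite étale surjective morphisms. -/

set_option autoImplicit false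
set_option linter.style.haveILetI false
set_option linter.unusedSectionVars false
set_option linter.unusedVariables false
set_option linter.unusedSimpArgs false

universe u

open CategoryTheory CategoryTheory.Limits Opposite AlgebraicGeometry

namespace Groth.Agent.Helper6.KPiB

/-- exactness of the inverse image -/
theorem pfl_pull {X Y : Scheme.{u}} (f : X ⟶ Y) : PreservesFiniteLimits (EtCoh.pull f) :=
  Groth.Agent.Helper4.LanExact.sheafPullback_preservesFiniteLimits (EtCoh.bc f)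
    Y.smallEtaleTopology X.smallEtaleTopology

lemma killedBy_of_nsmul_id {X : Scheme.{u}} (F : EtCoh.Ab X) (n : ℕ) (h : n • 𝟙 F = 0) :
    EtCoh.KilledBy n F := by
  intro U s
  have h1 := congrArg (fun m : F ⟶ F => m.hom.app (op U)) h
  have h2 := ConcreteCategory.congr_hom h1 s
  exact h2

lemma killedBy_pull {X Y : Scheme.{u}} (f : X ⟶ Y) (F : EtCoh.Ab Y) (n : ℕ)
    (h : EtCoh.KilledBy n F) : EtCoh.KilledBy n ((EtCoh.pull f).obj F) := by
  apply killedBy_of_nsmul_id
  have h1 := Groth.Agent.Helper6.ConsJ.nsmul_id_eq_zero_of_killedBy F n h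
  have h2 : (EtCoh.pull f).map (n • 𝟙 F) = 0 := by rw [h1, Functor.map_zero]
  rw [Functor.map_nsmul, CategoryTheory.Functor.map_id] at h2
  exact h2

lemma killedBy_push {X Y : Scheme.{u}} (f : X ⟶ Y) (F : EtCoh.Ab X) (n : ℕ)
    (h : EtCoh.KilledBy n F) : EtCoh.KilledBy n ((EtCoh.push f).obj F) :=
  fun U s => h ((EtCoh.bc f).obj U) s

/-- the `K(π,1)` property for `P`-torsion coefficients -/
def IsKPi1 (P : Set ℕ) (Z : Scheme.{u}) : Prop :=
  ∀ (F : EtCoh.Ab Z), EtCoh.IsFiniteLocallyConstant F →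
    (∃ n : ℕ, 0 < n ∧ (∀ p : ℕ, p.Prime → p ∣ n → p ∈ P) ∧ EtCoh.KilledBy n F) →
    ∀ q : ℕ, 0 < q → ∀ ζ : EtCoh.H Z F q,
      ∃ (Z' : Scheme.{u}) (g : Z' ⟶ Z), IsFinite g ∧ Etale g ∧ Surjective g ∧
        ∀ [PreservesFiniteLimits (EtCoh.pull g)], EtCore.Hpull g F q ζ = 0

variable (P : Set ℕ) {X Y : Scheme.{u}} (f : X ⟶ Y) [IsFinite f] [Etale f] [Surjective f]

include f in
theorem kpi1_down (hX : IsKPi1 P X) : IsKPi1 P Y := by
  intro F hF ⟨n, hn, hP, hk⟩ q hq ζ
  haveI := pfl_pull f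
  obtain ⟨X', g, hgf, hge, hgs, hz⟩ := hX ((EtCoh.pull f).obj F)
    (Groth.Agent.Helper4.FlcPull.flc_pull f F hF) ⟨n, hn, hP, killedBy_pull f F n hk⟩ q hq
    (EtCore.Hpull f F q ζ)
  haveI := hgf
  haveI := hge
  haveI := hgs
  refine ⟨X', g ≫ f, inferInstance, inferInstance, inferInstance, ?_⟩
  intro inst
  haveI := pfl_pull g
  rw [Groth.Agent.Helper9.HpullComp.Hpull_comp g f F q ζ, hz, map_zero]

include f in
theorem kpi1_up (hY : IsKPi1 P Y) : IsKPi1 P X := by
  intro F hF ⟨n, hn, hP, hk⟩ q hq ζ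
  haveI := pfl_pull f
  have hbij : Function.Bijective (EtLim.HofPush f F q) :=
    Groth.Agent.S14451.result f F (fun q' hq' => Groth.Agent.S0071.result f F q' hq') q
  obtain ⟨ζ', hζ'⟩ := hbij.2 ζ
  obtain ⟨Y', g, hgf, hge, hgs, hz⟩ := hY ((EtCoh.push f).obj F)
    (Groth.Agent.Helper5.FlcPush.main f F hF) ⟨n, hn, hP, killedBy_push f F n hk⟩ q hq ζ'
  haveI := hgf
  haveI := hge
  haveI := hgs
  refine ⟨pullback f g, pullback.fst f g, inferInstance, inferInstance, inferInstance, ?_⟩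
  intro inst
  haveI := pfl_pull g
  haveI := pfl_pull (pullback.snd f g)
  rw [← hζ', Groth.Agent.S14389.result f g (pullback.snd f g) (pullback.fst f g)
    pullback.condition F q ζ', hz]
  have e0 : ((EtCoh.HF Y' q).map (EtCoh.baseChange0 f g (pullback.snd f g) (pullback.fst f g)
      pullback.condition F)).hom 0 = 0 := map_zero _
  exact (congrArg (EtLim.HofPush (pullback.snd f g) ((EtCoh.pull (pullback.fst f g)).obj F) q)
    e0).trans (map_zero _)

end Groth.Agent.Helper6.KPiB
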