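import Mathlib
import Groth.Agent.Helper4.LcKer
import Groth.Agent.Helper6.KPiB
import Groth.Agent.Helper6.TorsRepA

/-! Local cardinality of a finite locally constant sheaf, and its behaviour under the cokernel of
a monomorphism from a constant sheaf. -/

set_option autoImplicit false
set_option linter.style.haveILetI false
set_option linter.unusedSectionVars false
set_option linter.unusedVariables false
set_option linter.unusedSimpArgs false

universe u

open CategoryTheory CategoryTheory.Limits Opposite AlgebraicGeometry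

namespace Groth.Agent.Helper6.KFilD

open Groth.Agent.Helper4.OverEtC Groth.Agent.Helper4.FlcPull Groth.Agent.Helper4.ConstLoc
  Groth.Agent.Helper4.LcPoint Groth.Agent.Helper4.LcKer

/-- `F` is constant with a value group of cardinality `n` on some étale neighbourhood of `y` -/
def LCn {Y : Scheme.{u}} (F : EtCoh.Ab Y) (y : Y) (n : ℕ) : Prop :=
  ∃ (V : Y.Etale) (y' : V.left), V.hom y' = y ∧ ∃ (N : AddCommGrpCat.{u + 1}), Finite N ∧
    Nat.card N = n ∧ Nonempty ((EtCoh.pull (homS V)).obj F ≅ cS V.left N)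

variable {X Y : Scheme.{u}}

theorem LCn.of_iso {F F' : EtCoh.Ab Y} (e : F ≅ F') {y : Y} {n : ℕ} (h : LCn F y n) :
    LCn F' y n := by
  obtain ⟨V, y', hy, N, fN, hn, ⟨a⟩⟩ := h
  exact ⟨V, y', hy, N, fN, hn, ⟨(EtCoh.pull (homS V)).mapIso e.symm ≪≫ a⟩⟩

theorem LCn.trans {F : EtCoh.Ab Y} (V : Y.Etale) (v : V.left) {n : ℕ}
    (h : LCn ((EtCoh.pull (homS V)).obj F) v n) : LCn F (V.hom v) n := by
  obtain ⟨V', v', hv, N, fN, hn, ⟨a⟩⟩ := h
  refine ⟨Scheme.Etale.mk (homS V' ≫ homS V), v', ?_, N, fN, hn, ⟨?_⟩⟩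
  · show V.hom (V'.hom v') = V.hom v
    rw [hv]
  · exact (pullCompObj (homS V') (homS V) F).symm ≪≫ a

theorem LCn.pull {F : EtCoh.Ab Y} (f : X ⟶ Y) (x : X) {n : ℕ} (h : LCn F (f x) n) :
    LCn ((EtCoh.pull f).obj F) x n := by
  obtain ⟨V, y, hy, N, fN, hn, ⟨a⟩⟩ := h
  obtain ⟨z, hz1, hz2⟩ := Scheme.Pullback.exists_preimage_pullback
    (f := homS V) (g := f) y x hy
  refine ⟨(EtCoh.bc f).obj V, z, hz2, N, fN, hn, ⟨?_⟩⟩
  have w : pullback.fst (homS V) f ≫ homS V = pullback.snd (homS V) f ≫ f :=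
    pullback.condition
  exact (pullSq (pullback.fst (homS V) f) (homS V) (pullback.snd (homS V) f) f w F).symm ≪≫
    (EtCoh.pull (pullback.fst (homS V) f)).mapIso a ≪≫
    (EtCore.pullConstIso (pullback.fst (homS V) f)).app N

theorem exists_LCn (F : EtCoh.Ab X) (hF : EtCoh.IsFiniteLocallyConstant F) (x : X) :
    ∃ n, LCn F x n := by
  obtain ⟨V, y, hy, N, fN, ⟨a⟩⟩ := (flc_iff_forall_LC F).1 hF x
  exact ⟨Nat.card N, V, y, hy, N, fN, rfl, ⟨a⟩⟩

lemma card_cokernel_lt {M N : AddCommGrpCat.{u + 1}} [Finite N] [Nontrivial M] (h : M ⟶ N)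
    (hinj : Function.Injective h) : Nat.card (cokernel h : AddCommGrpCat.{u + 1}) < Nat.card N := by
  haveI : Finite (cokernel h : AddCommGrpCat.{u + 1}) := finite_cokernel h
  letI := Fintype.ofFinite N
  letI := Fintype.ofFinite (cokernel h : AddCommGrpCat.{u + 1})
  rw [Nat.card_eq_fintype_card, Nat.card_eq_fintype_card]
  have hsurj : Function.Surjective (cokernel.π h) :=
    (AddCommGrpCat.epi_iff_surjective (cokernel.π h)).1 inferInstance
  refine Fintype.card_lt_of_surjective_not_injective _ hsurj ?_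
  intro hi
  obtain ⟨m, hm⟩ := exists_ne (0 : M)
  have h1 : cokernel.π h (h m) = 0 := by
    exact ConcreteCategory.congr_hom (cokernel.condition h) m
  have h2 : h m = 0 := hi (h1.trans (map_zero _).symm)
  exact hm (hinj (h2.trans (map_zero _).symm))

/-- the cokernel of a monomorphism of constant sheaves -/
theorem coker_const {M N : AddCommGrpCat.{u + 1}} [Finite M] [Finite N] [Nontrivial M]
    (ψ : cS Y M ⟶ cS Y N) [Mono ψ] (y : Y) :
    ∃ n, n < Nat.card N ∧ LCn (cokernel ψ) y n := by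
  obtain ⟨V, y', h, hy, hh⟩ := exists_local_hom ψ y
  induction V with
  | mk U j hj =>
  have e : (EtCoh.pull j).map ψ = (EtCoh.pull j).map
      ((constantSheaf Y.smallEtaleTopology AddCommGrpCat.{u + 1}).map h) :=
    pull_map_eq j _ _ hh
  have hinj : Function.Injective h := by
    rw [injective_iff_map_eq_zero]
    intro m hm
    have h1 := hh (Scheme.Etale.mk j) (𝟙 _) ((η Y M).app (op (Scheme.Etale.mk j)) m)
    rw [const_map_η, hm, map_zero] at h1
    have h2 : (η Y M).app (op (Scheme.Etale.mk j)) m = (η Y M).app (op (Scheme.Etale.mk j)) 0 := by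
      apply Groth.Agent.Helper6.TorsRepA.app_injective ψ
      rw [h1, map_zero, map_zero]
    exact const_injective M (Scheme.Etale.mk j) y' m 0 h2
  refine ⟨Nat.card (cokernel h : AddCommGrpCat.{u + 1}), card_cokernel_lt h hinj,
    Scheme.Etale.mk j, y', hy, cokernel h, finite_cokernel h, rfl, ⟨?_⟩⟩
  exact PreservesCokernel.iso (EtCoh.pull j) ψ ≪≫ cokernelIsoOfEq e ≪≫
    (PreservesCokernel.iso (EtCoh.pull j)
      ((constantSheaf Y.smallEtaleTopology AddCommGrpCat.{u + 1}).map h)).symm ≪≫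
    (EtCoh.pull j).mapIso
      (PreservesCokernel.iso (constantSheaf Y.smallEtaleTopology AddCommGrpCat.{u + 1}) h).symm ≪≫
    (EtCore.pullConstIso j).app (cokernel h)

/-- the cokernel of a monomorphism between sheaves isomorphic to constant sheaves -/
theorem coker_lc {A B : EtCoh.Ab Y} (φ : A ⟶ B) [Mono φ] {M N : AddCommGrpCat.{u + 1}}
    [Finite M] [Finite N] [Nontrivial M] (a : A ≅ cS Y M) (b : B ≅ cS Y N) (y : Y) :
    ∃ n, n < Nat.card N ∧ LCn (cokernel φ) y n := by
  have w : φ ≫ b.hom = a.hom ≫ (a.inv ≫ φ ≫ b.hom) := by simp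
  haveI : Mono (a.inv ≫ φ ≫ b.hom) := mono_comp _ _
  obtain ⟨n, hn, h1⟩ := coker_const (a.inv ≫ φ ≫ b.hom) y
  exact ⟨n, hn, h1.of_iso (cokernel.mapIso φ _ a b w).symm⟩

/-- the cokernel of a monomorphism from a constant sheaf has smaller local cardinality -/
theorem coker_step {M : AddCommGrpCat.{u + 1}} [Finite M] [Nontrivial M] {B : EtCoh.Ab Y}
    (ψ : cS Y M ⟶ B) [Mono ψ] (y : Y) (n : ℕ) (h : LCn B y n) :
    ∃ n', n' < n ∧ LCn (cokernel ψ) y n' := by
  obtain ⟨V, y', hy, N, fN, hn, ⟨E⟩⟩ := h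
  haveI := fN
  haveI := Groth.Agent.Helper6.KPiB.pfl_pull (homS V)
  haveI : Mono ((EtCoh.pull (homS V)).map ψ) := inferInstance
  obtain ⟨n', hn', h1⟩ := coker_lc ((EtCoh.pull (homS V)).map ψ)
    ((EtCore.pullConstIso (homS V)).app M) E y'
  have h2 : LCn ((EtCoh.pull (homS V)).obj (cokernel ψ)) y' n' :=
    h1.of_iso (PreservesCokernel.iso (EtCoh.pull (homS V)) ψ).symm
  have h3 := LCn.trans V y' h2
  rw [hy] at h3
  exact ⟨n', hn ▸ hn', h3⟩

end Groth.Agent.Helper6.KFilD
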