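import Mathlib

/-! Finite filtrations with prescribed quotients in an abelian category, and their extension
along a short exact sequence. -/

set_option autoImplicit false
set_option linter.style.haveILetI false
set_option linter.unusedSectionVars false
set_option linter.unusedVariables false
set_option linter.unusedSimpArgs false

universe v u

open CategoryTheory CategoryTheory.Limits

namespace Groth.Agent.Helper6.KFilE

variable {𝒜 : Type u} [Category.{v} 𝒜] [Abelian 𝒜]

/-- a finite filtration of `H` with all quotients isomorphic to `Z` -/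
structure Chain (Z H : 𝒜) where
  /-- the length -/
  n : ℕ
  /-- the steps -/
  G : ℕ → 𝒜
  /-- the transition maps -/
  φ : ∀ i, G i ⟶ G (i + 1)
  /-- the inclusions -/
  β : ∀ i, G i ⟶ H
  comm : ∀ i, φ i ≫ β (i + 1) = β i
  mono : ∀ i, Mono (β i)
  zero : IsZero (G 0)
  top : IsIso (β n)
  quot : ∀ i, i < n → Nonempty (cokernel (φ i) ≅ Z)

namespace Chain

variable {Z H H' : 𝒜}

/-- the trivial filtration of a zero object -/
def ofIsZero (hH : IsZero H) : Chain Z H where
  n := 0
  G _ := H
  φ _ := 𝟙 H
  β _ := 𝟙 H
  comm _ := Category.id_comp _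
  mono _ := inferInstance
  zero := hH
  top := inferInstance
  quot i hi := absurd hi (Nat.not_lt_zero i)

/-- transport along an isomorphism -/
def ofIso (c : Chain Z H) (e : H ≅ H') : Chain Z H' where
  n := c.n
  G := c.G
  φ := c.φ
  β i := c.β i ≫ e.hom
  comm i := by rw [← Category.assoc, c.comm]
  mono i := by
    haveI := c.mono i
    exact mono_comp _ _
  zero := c.zero
  top := by
    haveI := c.top
    infer_instance
  quot := c.quot

/-- the form of the statement -/
theorem toExists (c : Chain Z H) :
    ∃ (n : ℕ) (G : ℕ → 𝒜) (φ : ∀ i, G i ⟶ G (i + 1)),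
      IsZero (G 0) ∧ Nonempty (G n ≅ H) ∧
      ∀ i, i < n → Mono (φ i) ∧ Nonempty (cokernel (φ i) ≅ Z) := by
  refine ⟨c.n, c.G, c.φ, c.zero, ⟨?_⟩, fun i hi => ⟨?_, c.quot i hi⟩⟩
  · haveI := c.top
    exact asIso (c.β c.n)
  · haveI := c.mono i
    exact mono_of_mono_fac (c.comm i)

end Chain

section pullback

variable {E Q A B : 𝒜} (π : E ⟶ Q) [Epi π] (a : A ⟶ Q) (b : B ⟶ Q) (φ : A ⟶ B) [Mono φ]
  (h : φ ≫ b = a)

/-- the induced map on pullbacks -/
noncomputable def pbMap : pullback π a ⟶ pullback π b :=
  pullback.lift (pullback.fst π a) (pullback.snd π a ≫ φ) (by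
    rw [pullback.condition, Category.assoc, h])

@[reassoc]
lemma pbMap_fst : pbMap π a b φ h ≫ pullback.fst π b = pullback.fst π a :=
  pullback.lift_fst _ _ _

@[reassoc]
lemma pbMap_snd : pbMap π a b φ h ≫ pullback.snd π b = pullback.snd π a ≫ φ :=
  pullback.lift_snd _ _ _

/-- the map to the cokernel -/
noncomputable def pbρ : pullback π b ⟶ cokernel φ := pullback.snd π b ≫ cokernel.π φ

instance : Epi (pbρ π b φ) := epi_comp _ _

lemma pbMap_ρ : pbMap π a b φ h ≫ pbρ π b φ = 0 := by
  unfold pbρ
  rw [pbMap_snd_assoc, cokernel.condition, comp_zero]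

/-- the induced map on pullbacks is a kernel of the map to the cokernel -/
noncomputable def pbIsKernel : IsLimit (KernelFork.ofι (pbMap π a b φ h) (pbMap_ρ π a b φ h)) :=
  KernelFork.IsLimit.ofι _ _
    (fun {K} k hk => pullback.lift (k ≫ pullback.fst π b)
      (Abelian.monoLift φ (k ≫ pullback.snd π b) (by rw [Category.assoc]; exact hk)) (by
        rw [Category.assoc, pullback.condition, ← h, ← Category.assoc (Abelian.monoLift φ _ _),
          Abelian.monoLift_comp, Category.assoc]))
    (fun {K} k hk => by
      apply pullback.hom_ext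
      · rw [Category.assoc, pbMap_fst, pullback.lift_fst]
      · rw [Category.assoc, pbMap_snd, pullback.lift_snd_assoc, Abelian.monoLift_comp])
    (fun {K} k hk m hm => by
      apply pullback.hom_ext
      · rw [pullback.lift_fst, ← hm, Category.assoc, pbMap_fst]
      · rw [pullback.lift_snd, ← cancel_mono φ, Abelian.monoLift_comp, ← hm, Category.assoc,
          Category.assoc, pbMap_snd])

/-- the cokernel of the induced map on pullbacks -/
noncomputable def pbCokerIso : cokernel (pbMap π a b φ h) ≅ cokernel φ :=
  (colimit.isColimit _).coconePointUniqueUpToIso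
    (Abelian.epiIsCokernelOfKernel (KernelFork.ofι (pbMap π a b φ h) (pbMap_ρ π a b φ h))
      (pbIsKernel π a b φ h))

end pullback

section ext

variable {Z : 𝒜} (S : ShortComplex 𝒜) (hS : S.ShortExact) (eA : S.X₁ ≅ Z) (c : Chain Z S.X₃)

/-- the steps of the extended filtration -/
noncomputable def extG : ℕ → 𝒜
  | 0 => c.G 0
  | (i + 1) => pullback S.g (c.β i)

/-- the inclusions of the extended filtration -/
noncomputable def extβ : ∀ i, extG S c i ⟶ S.X₂
  | 0 => 0
  | (i + 1) => pullback.fst S.g (c.β i)

include hS in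
lemma epi_g : Epi S.g := hS.epi_g

lemma ext_cond (i : ℕ) : pullback.fst S.g (c.β i) ≫ S.g =
    (pullback.snd S.g (c.β i) ≫ c.φ i) ≫ c.β (i + 1) := by
  rw [pullback.condition, Category.assoc, c.comm]

/-- the transition maps of the extended filtration -/
noncomputable def extφ : ∀ i, extG S c i ⟶ extG S c (i + 1)
  | 0 => 0
  | (i + 1) => pullback.lift (pullback.fst S.g (c.β i)) (pullback.snd S.g (c.β i) ≫ c.φ i)
      (ext_cond S c i)

/-- the bottom piece is the kernel -/
noncomputable def bottomIsKernel :
    IsLimit (KernelFork.ofι (pullback.fst S.g (c.β 0)) (by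
      rw [pullback.condition]
      exact (c.zero.eq_of_tgt (pullback.snd S.g (c.β 0)) 0).symm ▸ zero_comp)) :=
  KernelFork.IsLimit.ofι _ _
    (fun {K} k hk => pullback.lift k 0 (by rw [hk, zero_comp]))
    (fun {K} k hk => pullback.lift_fst _ _ _)
    (fun {K} k hk m hm => by
      apply pullback.hom_ext
      · rw [pullback.lift_fst]; exact hm
      · exact c.zero.eq_of_tgt _ _)

include hS eA c in
/-- extension of a filtration along a short exact sequence with kernel `Z` -/
theorem ext : Nonempty (Chain Z S.X₂) := by
  haveI := hS.epi_g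
  refine ⟨
    { n := c.n + 1
      G := extG S c
      φ := extφ S c
      β := extβ S c
      comm := ?_
      mono := ?_
      zero := c.zero
      top := ?_
      quot := ?_ }⟩
  · intro i
    cases i with
    | zero => exact zero_comp
    | succ i => exact pullback.lift_fst _ _ _
  · intro i
    cases i with
    | zero => exact c.zero.mono _
    | succ i =>
      haveI := c.mono i
      exact inferInstanceAs (Mono (pullback.fst S.g (c.β i)))
  · haveI := c.top
    exact inferInstanceAs (IsIso (pullback.fst S.g (c.β c.n)))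
  · intro i hi
    cases i with
    | zero =>
      refine ⟨cokernelZeroIsoTarget ≪≫ ?_ ≪≫ eA⟩
      exact (bottomIsKernel S c).conePointUniqueUpToIso hS.fIsKernel
    | succ i =>
      have hi' : i < c.n := Nat.lt_of_succ_lt_succ hi
      obtain ⟨e⟩ := c.quot i hi'
      haveI : Mono (c.φ i) := by
        haveI := c.mono i
        exact mono_of_mono_fac (c.comm i)
      exact ⟨pbCokerIso S.g (c.β i) (c.β (i + 1)) (c.φ i) (c.comm i) ≪≫ e⟩

end ext

end Groth.Agent.Helper6.KFilE
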