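import Mathlib
import Groth.Agent.Helper6.KFilC
import Groth.Agent.Helper9.EtShriekOpen
import Groth.Agent.Helper9.EtJCont

/-! The tautological section of a representable sheaf over a piece of the representing scheme
avoiding the zero section, and the attached monomorphism from `ℤ/ℓ`. -/

set_option autoImplicit false
set_option linter.style.haveILetI false
set_option linter.unusedSectionVars false
set_option linter.unusedVariables false
set_option linter.unusedSimpArgs false

universe u

open CategoryTheory CategoryTheory.Limits Opposite AlgebraicGeometry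

namespace Groth.Agent.Helper6.KFilG

open Groth.Agent.Helper4.ConstLoc Groth.Agent.Helper6.TorsRepA Groth.Agent.Helper6.KFilC

variable {S : Scheme.{u}} (G : EtCoh.Ab S) (U : S.Etale)
  (e : G.obj ⋙ forget AddCommGrpCat.{u + 1} ≅ yoneda.obj U ⋙ uliftFunctor.{u + 1})

/-- the zero section -/
noncomputable def zeroSec : EtCoh.top S ⟶ U :=
  (e.hom.app (op (EtCoh.top S)) (0 : G.obj.obj (op (EtCoh.top S)))).down

lemma zeroSec_hom : (zeroSec G U e).left ≫ U.hom = 𝟙 S :=
  MorphismProperty.Over.w (zeroSec G U e)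

lemma e_map {W W' : S.Etale} (v : W' ⟶ W) (t : G.obj.obj (op W)) :
    (e.hom.app (op W') (G.obj.map v.op t)).down = v ≫ (e.hom.app (op W) t).down := by
  have h := e.hom.naturality v.op
  have h1 := ConcreteCategory.congr_hom h t
  exact congrArg ULift.down h1

lemma e_zero (W : S.Etale) :
    (e.hom.app (op W) (0 : G.obj.obj (op W))).down = toTop W ≫ zeroSec G U e := by
  have h : (0 : G.obj.obj (op W)) = G.obj.map (toTop W).op 0 := (map_zero _).symm
  rw [h, e_map]
  rfl

variable {C : Scheme.{u}} (ι : C ⟶ U.left) [hg : Etale (ι ≫ U.hom)]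

instance : EtShriek.JCont (ι ≫ U.hom) := Groth.Agent.Helper9.EtJCont.jCont_of_etale _

/-- `C` as an object of the small étale site of `S` -/
noncomputable abbrev Cg : S.Etale := Scheme.Etale.mk (ι ≫ U.hom)

/-- the tautological morphism -/
noncomputable def τ : Cg U ι ⟶ U := MorphismProperty.Over.homMk ι rfl

/-- the tautological section -/
noncomputable def σ : G.obj.obj (op (Cg U ι)) := e.inv.app (op (Cg U ι)) ⟨τ U ι⟩

lemma e_σ : (e.hom.app (op (Cg U ι)) (σ G U e ι)).down = τ U ι := by
  unfold σ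
  have h := ConcreteCategory.congr_hom (e.inv_hom_id_app (op (Cg U ι)))
    (⟨τ U ι⟩ : (yoneda.obj U ⋙ uliftFunctor.{u + 1}).obj (op (Cg U ι)))
  exact congrArg ULift.down h

/-- the restriction of `G` to `C` -/
noncomputable abbrev HH : EtCoh.Ab C := (EtShriek.restrAlong (ι ≫ U.hom)).obj G

/-- the comparison morphism -/
noncomputable def uu : (EtShriek.compEtale (ι ≫ U.hom)).obj (EtCoh.top C) ⟶ Cg U ι :=
  MorphismProperty.Over.homMk (𝟙 C) (by
    show 𝟙 C ≫ ι ≫ U.hom = 𝟙 C ≫ ι ≫ U.hom
    rfl)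

/-- the tautological section, as a global section on `C` -/
noncomputable def s : (HH G U ι).obj.obj (op (EtCoh.top C)) := G.obj.map (uu U ι).op (σ G U e ι)

include e in
/-- the tautological section vanishes nowhere -/
theorem s_ne_zero (hι : ∀ c : C, ι c ∉ Set.range (zeroSec G U e).left)
    (W : C.Etale) (w : W.left) : (HH G U ι).obj.map (toTop W).op (s G U e ι) ≠ 0 := by
  intro h0
  let W' : S.Etale := (EtShriek.compEtale (ι ≫ U.hom)).obj W
  let v : W' ⟶ Cg U ι := (EtShriek.compEtale (ι ≫ U.hom)).map (toTop W) ≫ uu U ι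
  have h1 : G.obj.map v.op (σ G U e ι) = 0 := by
    rw [map_comp_apply]
    exact h0
  have h2 : (e.hom.app (op W') (G.obj.map v.op (σ G U e ι))).down = v ≫ τ U ι := by
    rw [e_map, e_σ]
  rw [h1, e_zero] at h2
  have h3 : (toTop W' ≫ zeroSec G U e).left w = (v ≫ τ U ι).left w := by rw [h2]
  have h4 : (v ≫ τ U ι).left w = ι (v.left w) := rfl
  have h5 : (toTop W' ≫ zeroSec G U e).left w = (zeroSec G U e).left ((toTop W').left w) := rfl
  rw [h4, h5] at h3
  exact hι (v.left w) ⟨_, h3⟩

variable (ℓ : ℕ) [hℓ : Fact ℓ.Prime]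

include e in
/-- the monomorphism from `ℤ/ℓ` attached to the tautological section -/
theorem exists_mono (hG : EtCoh.KilledBy ℓ G)
    (hι : ∀ c : C, ι c ∉ Set.range (zeroSec G U e).left) :
    ∃ ψ : cS C (Zl.{u} ℓ) ⟶ (EtCoh.pull (ι ≫ U.hom)).obj G, Mono ψ := by
  have hs : ℓ • s G U e ι = 0 := hG _ _
  haveI := mono_zmodMap (HH G U ι) ℓ (s G U e ι) hs (s_ne_zero G U e ι hι)
  exact ⟨zmodMap (HH G U ι) ℓ (s G U e ι) hs ≫
    (Groth.Agent.Helper9.EtShriekOpen.pullIsoRestr (ι ≫ U.hom)).inv.app G, mono_comp _ _⟩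

end Groth.Agent.Helper6.KFilG
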