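import Mathlib
import Groth.Agent.Helper6.KFilA
import Groth.Agent.Helper6.KFilB
import Groth.Agent.Helper6.KFilD
import Groth.Agent.Helper6.KFilE
import Groth.Agent.Helper6.KFilG

/-! A finite locally constant `ℓ`-power torsion sheaf on a connected scheme acquires a filtration
with quotients `ℤ/ℓ` on a finite étale cover of degree prime to `ℓ`. -/

set_option autoImplicit false
set_option linter.style.haveILetI false
set_option linter.unusedSectionVars false
set_option linter.unusedVariables false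
set_option linter.unusedSimpArgs false

universe u

open CategoryTheory CategoryTheory.Limits Opposite AlgebraicGeometry

namespace Groth.Agent.Helper6.KFilF

open Groth.Agent.Helper4.OverEtC Groth.Agent.Helper4.FlcPull Groth.Agent.Helper4.ConstLoc
  Groth.Agent.Helper4.LcPoint Groth.Agent.Helper4.LcKer Groth.Agent.Helper6.KFilA
  Groth.Agent.Helper6.KFilB Groth.Agent.Helper6.KFilC Groth.Agent.Helper6.KFilD
  Groth.Agent.Helper6.KFilG Groth.Agent.Helper6.KPiB Groth.Agent.Helper6.TorsRepA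

variable (ℓ : ℕ) [hℓ : Fact ℓ.Prime]

/-- the conclusion: a finite étale cover of constant degree prime to `ℓ` with a filtration -/
def Concl (S : Scheme.{u}) (F : EtCoh.Ab S) : Prop :=
  ∃ (T : Scheme.{u}) (f : T ⟶ S), IsFinite f ∧ Etale f ∧ ∃ d : ℕ, ℓ.Coprime d ∧
    (∀ s, f.finrank s = d) ∧
    Nonempty (KFilE.Chain (EtCoh.const T (ZMod ℓ)) ((EtCoh.pull f).obj F))

lemma isZero_of_sections {S : Scheme.{u}} (F : EtCoh.Ab S)
    (h : ∀ (W : S.Etale) (t : F.obj.obj (op W)), t = 0) : IsZero F := by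
  rw [IsZero.iff_id_eq_zero]
  apply Sheaf.hom_ext
  ext W t
  exact h W.unop t

lemma concl_of_isZero {S : Scheme.{u}} (F : EtCoh.Ab S) (hF : IsZero F) : Concl ℓ S F := by
  refine ⟨S, 𝟙 S, inferInstance, inferInstance, 1, Nat.coprime_one_right ℓ, fun s => ?_, ⟨?_⟩⟩
  · exact congrFun (Scheme.Hom.finrank_eq_one_of_isIso (𝟙 S)) s
  · exact KFilE.Chain.ofIsZero ((EtCoh.pull (𝟙 S)).map_isZero hF)

lemma nsmul_app {S : Scheme.{u}} (F : EtCoh.Ab S) (k : ℕ) (W : S.Etale) (t : F.obj.obj (op W)) :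
    (k • 𝟙 F : F ⟶ F).hom.app (op W) t = k • t := rfl

lemma isZero_of_kernel {S : Scheme.{u}} (F : EtCoh.Ab S) (hG : IsZero (kernel (ℓ • 𝟙 F)))
    (h : ℕ) (hk : EtCoh.KilledBy (ℓ ^ h) F) : IsZero F := by
  haveI : Mono (ℓ • 𝟙 F) := Preadditive.mono_of_kernel_zero (hG.eq_of_src _ _)
  have hinj : ∀ (W : S.Etale) (t : F.obj.obj (op W)), ℓ • t = 0 → t = 0 := by
    intro W t ht
    apply app_injective (ℓ • 𝟙 F) W
    rw [nsmul_app, ht, map_zero]
  apply isZero_of_sections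
  intro W t
  have key : ∀ j : ℕ, ℓ ^ j • t = 0 → t = 0 := by
    intro j
    induction j with
    | zero => intro h0; simpa using h0
    | succ j ih =>
      intro h1
      apply ih
      apply hinj
      rw [← mul_nsmul, ← pow_succ]
      exact h1
  exact key h (hk W t)

lemma sections_zero {S : Scheme.{u}} (G : EtCoh.Ab S) (U : S.Etale)
    (e : G.obj ⋙ forget AddCommGrpCat.{u + 1} ≅ yoneda.obj U ⋙ uliftFunctor.{u + 1})
    (hiso : IsIso U.hom) (W : S.Etale) (t : G.obj.obj (op W)) : t = 0 := by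
  have hsub : ∀ a b : W ⟶ U, a = b := by
    intro a b
    apply MorphismProperty.Over.Hom.ext
    have ha : a.left ≫ U.hom = W.hom := MorphismProperty.Over.w a
    have hb : b.left ≫ U.hom = W.hom := MorphismProperty.Over.w b
    exact (cancel_mono U.hom).1 (ha.trans hb.symm)
  have h1 : e.hom.app (op W) t = e.hom.app (op W) (0 : G.obj.obj (op W)) :=
    ULift.ext _ _ (hsub _ _)
  have h2 := ConcreteCategory.congr_hom (e.hom_inv_id_app (op W)) t
  have h3 := ConcreteCategory.congr_hom (e.hom_inv_id_app (op W)) (0 : G.obj.obj (op W))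
  have h4 : e.inv.app (op W) (e.hom.app (op W) t) = t := h2
  have h5 : e.inv.app (op W) (e.hom.app (op W) (0 : G.obj.obj (op W))) = 0 := h3
  rw [← h4, h1, h5]
  rfl

lemma dvd_card_of_killed (N : AddCommGrpCat.{u + 1}) [Finite N] (hN : ∀ a : N, ℓ • a = 0)
    (hne : Nat.card N ≠ 1) : ℓ ∣ Nat.card N := by
  have hnt : Nontrivial N := by
    by_contra hcon
    rw [not_nontrivial_iff_subsingleton] at hcon
    exact hne (Nat.card_eq_one_iff_unique.2 ⟨hcon, ⟨0⟩⟩)
  obtain ⟨a, ha⟩ := exists_ne (0 : N)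
  have hdvd : addOrderOf a ∣ ℓ := addOrderOf_dvd_of_nsmul_eq_zero (hN a)
  have hord : addOrderOf a = ℓ := by
    rcases (Nat.dvd_prime hℓ.out).1 hdvd with h | h
    · exact absurd (AddMonoid.addOrderOf_eq_one_iff.1 h) ha
    · exact h
  rw [← hord]
  exact addOrderOf_dvd_natCard a

lemma killedBy_of_iso {Y : Scheme.{u}} {A B : EtCoh.Ab Y} (E : A ≅ B) (k : ℕ)
    (hA : EtCoh.KilledBy k A) : EtCoh.KilledBy k B := by
  apply killedBy_of_nsmul_id
  have h1 := Groth.Agent.Helper6.ConsJ.nsmul_id_eq_zero_of_killedBy A k hA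
  have h2 : k • 𝟙 B = E.inv ≫ (k • 𝟙 A) ≫ E.hom := by
    rw [Preadditive.nsmul_comp, Preadditive.comp_nsmul, Category.id_comp, Iso.inv_hom_id]
  rw [h2, h1, zero_comp, comp_zero]

lemma value_killed {Y : Scheme.{u}} (N : AddCommGrpCat.{u + 1}) (k : ℕ)
    (hB : EtCoh.KilledBy k (cS Y N)) (y : Y) (a : N) : k • a = 0 := by
  apply const_injective N (EtCoh.top Y) y
  rw [map_nsmul, map_zero]
  exact hB _ _

lemma flc_cS (Y : Scheme.{u}) (N : AddCommGrpCat.{u + 1}) [Finite N] :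
    EtCoh.IsFiniteLocallyConstant (cS Y N) := by
  rw [flc_iff_forall_LC]
  intro y
  exact ⟨EtCoh.top Y, y, rfl, N, inferInstance, ⟨(EtCore.pullConstIso (homS (EtCoh.top Y))).app N⟩⟩

instance : Finite (Zl.{u} ℓ) := by
  haveI : NeZero ℓ := ⟨hℓ.out.ne_zero⟩
  exact inferInstanceAs (Finite (ULift.{u + 1} (ZMod ℓ)))

instance : Nontrivial (Zl.{u} ℓ) := by
  haveI : Fact (1 < ℓ) := ⟨hℓ.out.one_lt⟩
  exact inferInstanceAs (Nontrivial (ULift.{u + 1} (ZMod ℓ)))

/-- the main theorem, by induction on the local cardinality -/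
theorem main : ∀ (n : ℕ) (S : Scheme.{u}) [ConnectedSpace S] (F : EtCoh.Ab S),
    EtCoh.IsFiniteLocallyConstant F → (∃ h : ℕ, EtCoh.KilledBy (ℓ ^ h) F) →
    (∃ x : S, LCn F x n) → Concl ℓ S F := by
  intro n
  induction n using Nat.strong_induction_on with
  | _ n IH =>
  intro S _ F hF ⟨h, hk⟩ ⟨x, hx⟩
  let G : EtCoh.Ab S := kernel (ℓ • 𝟙 F)
  have hGflc : EtCoh.IsFiniteLocallyConstant G := (flc_kernel_cokernel (ℓ • 𝟙 F) hF hF).1
  have hGk : EtCoh.KilledBy ℓ G := by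
    apply killedBy_of_nsmul_id
    rw [← cancel_mono (kernel.ι (ℓ • 𝟙 F)), zero_comp, Preadditive.nsmul_comp, Category.id_comp]
    have h1 := kernel.condition (ℓ • 𝟙 F)
    rw [Preadditive.comp_nsmul, Category.comp_id] at h1
    exact h1
  obtain ⟨ι, V, hV, N, hNfin, hE, U, hUfin, ⟨e⟩, hr⟩ := rep_of_flc' G hGflc
  obtain ⟨i, y, hy⟩ := hV x
  haveI := hUfin
  have hrank : ∀ s, U.hom.finrank s = Nat.card (N i) := fun s =>
    (finrank_const (X := S) U.hom s x).trans (hy ▸ hr i y)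
  by_cases hm : Nat.card (N i) = 1
  · have hiso : IsIso U.hom := (Scheme.Hom.isIso_iff_finrank_eq (f := U.hom)).2
      (funext fun s => (hrank s).trans hm)
    have hG0 : IsZero G := isZero_of_sections G (sections_zero G U e hiso)
    exact concl_of_isZero ℓ F (isZero_of_kernel ℓ F hG0 h hk)
  · haveI := hNfin i
    obtain ⟨Ei⟩ := hE i
    have hNk : ∀ a : N i, ℓ • a = 0 :=
      value_killed (N i) ℓ (killedBy_of_iso Ei ℓ (killedBy_pull (V i).hom G ℓ hGk)) y
    have hdvd : ℓ ∣ Nat.card (N i) := dvd_card_of_killed ℓ (N i) hNk hm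
    obtain ⟨V', ι₀, hι₀, hf₀, he₀, hrange, hrk⟩ :=
      section_complement U.hom (zeroSec G U e).left (zeroSec_hom G U e)
    haveI := hf₀
    haveI := he₀
    have hpos : 0 < Nat.card (N i) := Nat.card_pos
    have hm1 : ∀ s, (ι₀ ≫ U.hom).finrank s = Nat.card (N i) - 1 := fun s => by
      have := hrk s
      rw [hrank] at this
      omega
    have hcop : ℓ.Coprime (Nat.card (N i) - 1) := by
      rw [hℓ.out.coprime_iff_not_dvd]
      intro hd
      have h1 : ℓ ∣ Nat.card (N i) - (Nat.card (N i) - 1) := Nat.dvd_sub hdvd hd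
      have h2 : Nat.card (N i) - (Nat.card (N i) - 1) = 1 := by omega
      rw [h2, Nat.dvd_one] at h1
      exact hℓ.out.one_lt.ne' h1
    obtain ⟨C, ι₁, hι₁, hC, hf₁, he₁, d', hd', hcop'⟩ :=
      exists_connected_coprime (X := S) ℓ (Nat.card (N i) - 1) (ι₀ ≫ U.hom) hm1 hcop
    haveI := hC
    let ιC : C ⟶ U.left := ι₁ ≫ ι₀
    have eg : ιC ≫ U.hom = ι₁ ≫ ι₀ ≫ U.hom := Category.assoc _ _ _
    haveI hgf : IsFinite (ιC ≫ U.hom) := by rw [eg]; exact hf₁
    haveI hge : Etale (ιC ≫ U.hom) := by rw [eg]; exact he₁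
    have hgd : ∀ s, (ιC ≫ U.hom).finrank s = d' := fun s => by rw [eg]; exact hd' s
    have hιC : ∀ c : C, ιC c ∉ Set.range (zeroSec G U e).left := by
      intro c hc
      have h1 : ιC c ∈ Set.range ι₀ := ⟨ι₁ c, rfl⟩
      rw [hrange] at h1
      exact h1 hc
    obtain ⟨ψG, hψG⟩ := KFilG.exists_mono G U e ιC ℓ hGk hιC
    haveI := hψG
    haveI := pfl_pull (ιC ≫ U.hom)
    let ψ₀ : cS C (Zl.{u} ℓ) ⟶ (EtCoh.pull (ιC ≫ U.hom)).obj F :=
      ψG ≫ (EtCoh.pull (ιC ≫ U.hom)).map (kernel.ι (ℓ • 𝟙 F))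
    haveI : Mono ψ₀ := mono_comp _ _
    have hF₁flc : EtCoh.IsFiniteLocallyConstant (cokernel ψ₀) :=
      (flc_kernel_cokernel ψ₀ (flc_cS C (Zl.{u} ℓ)) (flc_pull (ιC ≫ U.hom) F hF)).2
    have hF₁k : EtCoh.KilledBy (ℓ ^ h) (cokernel ψ₀) := by
      apply killedBy_of_nsmul_id
      have h1 := Groth.Agent.Helper6.ConsJ.nsmul_id_eq_zero_of_killedBy _ _
        (killedBy_pull (ιC ≫ U.hom) F (ℓ ^ h) hk)
      rw [← cancel_epi (cokernel.π ψ₀), comp_zero, Preadditive.comp_nsmul, Category.comp_id]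
      have h2 : (ℓ ^ h • 𝟙 ((EtCoh.pull (ιC ≫ U.hom)).obj F)) ≫ cokernel.π ψ₀ = 0 := by
        rw [h1, zero_comp]
      rw [Preadditive.nsmul_comp, Category.id_comp] at h2
      exact h2
    have hd'0 : d' ≠ 0 := by
      rintro rfl
      rw [Nat.coprime_zero_right] at hcop'
      exact hℓ.out.one_lt.ne' hcop'
    have hgsurj : Surjective (ιC ≫ U.hom) := by
      rw [← Scheme.Hom.one_le_finrank_iff_surjective]
      intro s
      rw [hgd s]
      exact Nat.one_le_iff_ne_zero.2 hd'0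
    obtain ⟨c, hc⟩ := hgsurj.surj x
    have hx' : LCn ((EtCoh.pull (ιC ≫ U.hom)).obj F) c n := LCn.pull (ιC ≫ U.hom) c (hc.symm ▸ hx)
    obtain ⟨n', hn', hx''⟩ := coker_step ψ₀ c n hx'
    obtain ⟨T, f', hf'f, hf'e, d'', hcop'', hd'', ⟨ch⟩⟩ :=
      IH n' hn' C (cokernel ψ₀) hF₁flc ⟨h, hF₁k⟩ ⟨c, hx''⟩
    haveI := hf'f
    haveI := hf'e
    haveI := pfl_pull f'
    refine ⟨T, f' ≫ (ιC ≫ U.hom), inferInstance, inferInstance, d'' * d',
      Nat.Coprime.mul_right hcop'' hcop', fun s => ?_, ?_⟩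
    · rw [Groth.Agent.Helper3.FRank.finrank_comp f' (ιC ≫ U.hom) d'' hd'' s, hgd]
    · let S₀ : ShortComplex (EtCoh.Ab C) :=
        ShortComplex.mk ψ₀ (cokernel.π ψ₀) (cokernel.condition ψ₀)
      have hS₀ : S₀.ShortExact :=
        { exact := ShortComplex.exact_cokernel ψ₀
          mono_f := inferInstanceAs (Mono ψ₀)
          epi_g := inferInstanceAs (Epi (cokernel.π ψ₀)) }
      have hS₁ : (S₀.map (EtCoh.pull f')).ShortExact := hS₀.map_of_exact (EtCoh.pull f')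
      obtain ⟨ch'⟩ := KFilE.ext (S₀.map (EtCoh.pull f')) hS₁ (EtCore.pullConst f' (ZMod ℓ)) ch
      exact ⟨ch'.ofIso (pullCompObj f' (ιC ≫ U.hom) F)⟩

end Groth.Agent.Helper6.KFilF
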