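import Mathlib
import Groth.Agent.Helper6.KFilE

/-! Vanishing of `Ext` groups along a finite filtration. -/

set_option autoImplicit false
set_option linter.style.haveILetI false
set_option linter.unusedSectionVars false
set_option linter.unusedVariables false
set_option linter.unusedSimpArgs false

universe w v u

open CategoryTheory CategoryTheory.Limits CategoryTheory.Abelian

namespace Groth.Agent.Helper6.KFilH

open Groth.Agent.Helper6.KFilE

variable {𝒜 : Type u} [Category.{v} 𝒜] [Abelian 𝒜] [HasExt.{w} 𝒜] (X : 𝒜) (q : ℕ)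

/-- all classes of degree `q` with values in `A` vanish -/
def Van (A : 𝒜) : Prop := ∀ x : Ext X A q, x = 0

variable {X q}

lemma Van.of_iso {A B : 𝒜} (e : A ≅ B) (h : Van X q A) : Van X q B := by
  intro x
  have h1 : x = (x.comp (Ext.mk₀ e.inv) (add_zero q)).comp (Ext.mk₀ e.hom) (add_zero q) := by
    rw [Ext.comp_assoc_of_third_deg_zero, Ext.mk₀_comp_mk₀, Iso.inv_hom_id, Ext.comp_mk₀_id]
  rw [h1, h (x.comp (Ext.mk₀ e.inv) (add_zero q)), Ext.zero_comp]

lemma Van.of_isZero {A : 𝒜} (hA : IsZero A) : Van X q A := by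
  intro x
  have h1 : x = x.comp (Ext.mk₀ (𝟙 A)) (add_zero q) := (Ext.comp_mk₀_id x).symm
  rw [h1, hA.eq_of_src (𝟙 A) 0, Ext.mk₀_zero, Ext.comp_zero]

lemma Van.of_shortExact {S : ShortComplex 𝒜} (hS : S.ShortExact) (h1 : Van X q S.X₁)
    (h3 : Van X q S.X₃) : Van X q S.X₂ := by
  intro x
  obtain ⟨x₁, hx₁⟩ := Ext.covariant_sequence_exact₂ X hS x (h3 _)
  rw [← hx₁, h1 x₁, Ext.zero_comp]

/-- vanishing along a filtration -/
theorem Van.of_chain {Z H : 𝒜} (hZ : Van X q Z) (c : Chain Z H) : Van X q H := by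
  have key : ∀ i, i ≤ c.n → Van X q (c.G i) := by
    intro i
    induction i with
    | zero => intro _; exact Van.of_isZero c.zero
    | succ i ih =>
      intro hi
      have hi' : i < c.n := hi
      haveI : Mono (c.φ i) := by
        haveI := c.mono i
        exact mono_of_mono_fac (c.comm i)
      obtain ⟨e⟩ := c.quot i hi'
      let S : ShortComplex 𝒜 :=
        ShortComplex.mk (c.φ i) (cokernel.π (c.φ i)) (cokernel.condition (c.φ i))
      have hS : S.ShortExact :=
        { exact := ShortComplex.exact_cokernel (c.φ i)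
          mono_f := inferInstanceAs (Mono (c.φ i))
          epi_g := inferInstanceAs (Epi (cokernel.π (c.φ i))) }
      exact Van.of_shortExact hS (ih (Nat.le_of_lt hi')) (hZ.of_iso e.symm)
  haveI := c.top
  exact (key c.n le_rfl).of_iso (asIso (c.β c.n))

end Groth.Agent.Helper6.KFilH
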