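import Mathlib
import Groth.Agent.Helper6.TenCxQis

/-!
# Factorisation of maps out of K-flat complexes through K-flat resolutions
-/

universe u
open CategoryTheory CategoryTheory.Limits MonoidalCategory Pretriangulated

attribute [local instance] HasDerivedCategory.standard

namespace Groth.Agent.Helper6.TenCx

variable {R : Type u} [CommRing R]

theorem exists_kflat_factorization {K L : DRing.Cx R} (a : K ⟶ L) (hK : KFlat K) :
    ∃ (M'' : DRing.Cx R) (g : M'' ⟶ K) (c : CochainComplex.mappingCone g ⟶ L),
      (∀ i, Module.Projective R (M''.X i)) ∧ KFlat (CochainComplex.mappingCone g) ∧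
      QuasiIso c ∧ Nonempty (Homotopy a (CochainComplex.mappingCone.inr g ≫ c)) := by
  -- the rotated triangle of `a`
  have hT₁ := HomotopyCategory.mappingCone_triangleh_distinguished a
  have hT₁' := inv_rot_of_distTriang _ hT₁
  set T₁' := (CochainComplex.mappingCone.triangleh a).invRotate with hT₁'def
  -- resolve its first vertex
  obtain ⟨M'', m, hM'', hM''p, hm, -⟩ := KFlatRes.exists_resolution T₁'.obj₁.as
  let mb : (HomotopyCategory.quotient _ _).obj M'' ⟶ T₁'.obj₁ :=
    (HomotopyCategory.quotient _ _).map m
  obtain ⟨g, hg⟩ : ∃ g : M'' ⟶ K, (HomotopyCategory.quotient _ _).map g = mb ≫ T₁'.mor₁ :=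
    (HomotopyCategory.quotient _ _).map_surjective (mb ≫ T₁'.mor₁)
  have hT₂ := HomotopyCategory.mappingCone_triangleh_distinguished g
  obtain ⟨c', hc1, hc2⟩ := complete_distinguished_triangle_morphism
    (CochainComplex.mappingCone.triangleh g) T₁' hT₂ hT₁' mb (𝟙 _)
    ((Category.comp_id _).trans hg)
  obtain ⟨c, hc⟩ : ∃ c : CochainComplex.mappingCone g ⟶ L,
      (HomotopyCategory.quotient _ _).map c = c' :=
    (HomotopyCategory.quotient _ _).map_surjective c'
  refine ⟨M'', g, c, hM''p, ?_, ?_, ?_⟩
  · exact (kflat_triangle _ hT₂).1 hM'' hK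
  · -- `c` is a quasi-isomorphism
    let φ : CochainComplex.mappingCone.triangleh g ⟶ T₁' :=
      { hom₁ := mb
        hom₂ := 𝟙 _
        hom₃ := c'
        comm₁ := (Category.comp_id _).trans hg
        comm₂ := hc1
        comm₃ := hc2 }
    have h1 : IsIso (DerivedCategory.Qh.mapTriangle.map φ).hom₁ := by
      show IsIso (DerivedCategory.Qh.map ((HomotopyCategory.quotient _ _).map m))
      have : IsIso (DerivedCategory.Q.map m) := inferInstance
      exact this
    have h2 : IsIso (DerivedCategory.Qh.mapTriangle.map φ).hom₂ := by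
      show IsIso (DerivedCategory.Qh.map (𝟙 _))
      infer_instance
    have h3 := isIso₃_of_isIso₁₂ (DerivedCategory.Qh.mapTriangle.map φ)
      (DerivedCategory.Qh.map_distinguished _ hT₂) (DerivedCategory.Qh.map_distinguished _ hT₁')
      h1 h2
    have h4 : IsIso (DerivedCategory.Q.map c) := by
      show IsIso (DerivedCategory.Qh.map ((HomotopyCategory.quotient _ _).map c))
      rw [hc]
      exact h3
    exact (DerivedCategory.isIso_Q_map_iff_quasiIso _ c).mp h4
  · refine ⟨HomotopyCategory.homotopyOfEq _ _ ?_⟩
    rw [Functor.map_comp, hc]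
    exact (hc1.trans (Category.id_comp _)).symm

end Groth.Agent.Helper6.TenCx
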