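import Mathlib
import Groth.Prelude.Def_Found

set_option autoImplicit false
set_option linter.style.haveILetI false
set_option linter.unusedSectionVars false

/-!
# Kaplansky dévissage: direct sums of countably generated modules
-/

namespace Groth.Agent.Helper6.Kaplansky

open CAlg

universe u

variable {R : Type u} [CommRing R] {M : Type u} [AddCommGroup M] [Module R M]

theorem isCG_of_surjective {A B : Type u} [AddCommGroup A] [Module R A] [AddCommGroup B]
    [Module R B] (f : A →ₗ[R] B) (hf : Function.Surjective f)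
    (hA : IsCountablyGenerated R A) : IsCountablyGenerated R B := by
  obtain ⟨s, hs, hspan⟩ := hA
  refine ⟨f '' s, hs.image f, ?_⟩
  rw [← Submodule.map_span, hspan, Submodule.map_top, LinearMap.range_eq_top]
  exact hf

/-- the comparison map `C → B/A` -/
noncomputable def cmp (A B C : Submodule R M) (hCB : C ≤ B) :
    ↥C →ₗ[R] (↥B ⧸ Submodule.comap B.subtype A) :=
  (Submodule.mkQ _) ∘ₗ (Submodule.inclusion hCB)

theorem cmp_surjective (A B C : Submodule R M) (hCB : C ≤ B) (h : A ⊔ C = B) :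
    Function.Surjective (cmp A B C hCB) := by
  intro y
  obtain ⟨z, rfl⟩ := Submodule.mkQ_surjective _ y
  have hz : z.1 ∈ A ⊔ C := by rw [h]; exact z.2
  obtain ⟨a, ha, c, hc, hac⟩ := Submodule.mem_sup.mp hz
  refine ⟨⟨c, hc⟩, ?_⟩
  simp only [cmp, LinearMap.comp_apply, Submodule.mkQ_apply]
  rw [Submodule.Quotient.eq]
  show B.subtype (Submodule.inclusion hCB ⟨c, hc⟩ - z) ∈ A
  have h1 : B.subtype (Submodule.inclusion hCB ⟨c, hc⟩ - z) = -a := by
    simp only [map_sub, Submodule.subtype_apply, Submodule.coe_inclusion]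
    rw [← hac]
    abel
  rw [h1]
  exact A.neg_mem ha

theorem cmp_injective (A B C : Submodule R M) (hCB : C ≤ B) (h0 : A ⊓ C = ⊥) :
    Function.Injective (cmp A B C hCB) := by
  rw [injective_iff_map_eq_zero]
  intro x hx
  simp only [cmp, LinearMap.comp_apply, Submodule.mkQ_apply,
    Submodule.Quotient.mk_eq_zero] at hx
  have h1 : x.1 ∈ A := hx
  have h2 : x.1 ∈ A ⊓ C := ⟨h1, x.2⟩
  rw [h0] at h2
  exact Subtype.ext ((Submodule.mem_bot R).mp h2)

theorem forward (ι : Type u) (N : ι → Submodule R M) (hind : iSupIndep N) (hsup : iSup N = ⊤)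
    (hcg : ∀ i, IsCountablyGenerated R (N i)) :
    ∃ (S : Type u) (_ : LinearOrder S) (_ : WellFoundedLT S) (Mf : S → Submodule R M),
      Monotone Mf ∧
      (∀ s : S, Order.IsSuccPrelimit s → Mf s = ⨆ t : {t : S // t < s}, Mf t.1) ∧
      (⨆ s, Mf s) = ⊤ ∧
      (∀ s t : S, s ⋖ t → ∃ C : Submodule R M, Mf s ⊓ C = ⊥ ∧ Mf s ⊔ C = Mf t ∧
        IsCountablyGenerated R (↥(Mf t) ⧸ Submodule.comap (Mf t).subtype (Mf s))) := by
  obtain ⟨hlo, hwf⟩ := exists_wellFoundedLT ι
  obtain ⟨Mf, hMf⟩ : ∃ Mf : WithTop ι → Submodule R M,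
      ∀ s, Mf s = ⨆ i : {i : ι // (i : WithTop ι) < s}, N i.1 := ⟨_, fun _ => rfl⟩
  have hmono : Monotone Mf := by
    intro s t hst
    rw [hMf s, hMf t]
    exact iSup_le fun i => le_iSup (fun i : {i : ι // (i : WithTop ι) < t} => N i.1)
      ⟨i.1, lt_of_lt_of_le i.2 hst⟩
  have hNle : ∀ (i : ι) (t : WithTop ι), (i : WithTop ι) < t → N i ≤ Mf t := by
    intro i t hit
    rw [hMf t]
    exact le_iSup (fun j : {j : ι // (j : WithTop ι) < t} => N j.1) ⟨i, hit⟩
  refine ⟨WithTop ι, inferInstance, inferInstance, Mf, hmono, ?_, ?_, ?_⟩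
  · intro s hs
    apply le_antisymm
    · rw [hMf s]
      refine iSup_le fun i => ?_
      have h1 : ¬ ((i.1 : WithTop ι) ⋖ s) := hs _
      obtain ⟨t, hit, hts⟩ := (not_covBy_iff i.2).mp h1
      exact le_trans (hNle i.1 t hit) (le_iSup (fun t : {t : WithTop ι // t < s} => Mf t.1) ⟨t, hts⟩)
    · exact iSup_le fun t => hmono t.2.le
  · rw [eq_top_iff, ← hsup]
    exact iSup_le fun i => le_trans (hNle i ⊤ (WithTop.coe_lt_top i)) (le_iSup Mf ⊤)
  · intro s t hst
    obtain ⟨i, rfl⟩ := WithTop.ne_top_iff_exists.mp (ne_top_of_lt hst.lt)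
    have hle : N i ≤ Mf t := hNle i t hst.lt
    have hsup' : Mf (i : WithTop ι) ⊔ N i = Mf t := by
      apply le_antisymm
      · exact sup_le (hmono hst.le) hle
      · rw [hMf t]
        refine iSup_le fun j => ?_
        have hji : (j.1 : WithTop ι) ≤ (i : WithTop ι) := hst.le_of_lt j.2
        rcases (WithTop.coe_le_coe.mp hji).lt_or_eq with h | h
        · exact le_sup_of_le_left (hNle j.1 _ (WithTop.coe_lt_coe.mpr h))
        · rw [h]
          exact le_sup_right
    refine ⟨N i, ?_, hsup', ?_⟩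
    · have h1 := iSupIndep_def.mp hind i
      have h2 : Mf (i : WithTop ι) ≤ ⨆ j, ⨆ (_ : j ≠ i), N j := by
        rw [hMf]
        exact iSup_le fun j => le_iSup₂_of_le j.1 (ne_of_lt (WithTop.coe_lt_coe.mp j.2)) le_rfl
      exact (h1.mono_right h2).symm.eq_bot
    · exact isCG_of_surjective (cmp (Mf (i : WithTop ι)) (Mf t) (N i) hle)
        (cmp_surjective _ _ _ _ hsup') (hcg i)

theorem backward (S : Type u) [LinearOrder S] [WellFoundedLT S] (Mf : S → Submodule R M)
    (hmono : Monotone Mf)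
    (hlim : ∀ s : S, Order.IsSuccPrelimit s → Mf s = ⨆ t : {t : S // t < s}, Mf t.1)
    (htop : (⨆ s, Mf s) = ⊤)
    (hsucc : ∀ s t : S, s ⋖ t → ∃ C : Submodule R M, Mf s ⊓ C = ⊥ ∧ Mf s ⊔ C = Mf t ∧
      IsCountablyGenerated R (↥(Mf t) ⧸ Submodule.comap (Mf t).subtype (Mf s))) :
    ∃ (ι : Type u) (N : ι → Submodule R M), iSupIndep N ∧ iSup N = ⊤ ∧
      ∀ i, IsCountablyGenerated R (N i) := by
  classical
  have hex : ∀ s : {s : S // ∃ t, s ⋖ t}, ∃ (t : S) (C : Submodule R M), s.1 ⋖ t ∧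
      Mf s.1 ⊓ C = ⊥ ∧ Mf s.1 ⊔ C = Mf t ∧
      IsCountablyGenerated R (↥(Mf t) ⧸ Submodule.comap (Mf t).subtype (Mf s.1)) := by
    intro s
    obtain ⟨t, ht⟩ := s.2
    obtain ⟨C, h1, h2, h3⟩ := hsucc s.1 t ht
    exact ⟨t, C, ht, h1, h2, h3⟩
  choose tt C hcov h1 h2 h3 using hex
  have hCle : ∀ s' : {s : S // ∃ t, s ⋖ t}, C s' ≤ Mf (tt s') := fun s' =>
    le_trans le_sup_right (h2 s').le
  have claimA : ∀ (s' : {s : S // ∃ t, s ⋖ t}) (s : S), s'.1 < s → C s' ≤ Mf s := fun s' s h =>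
    le_trans (hCle s') (hmono ((hcov s').ge_of_gt h))
  have claimB : ∀ s : S, Mf s ≤ ⨆ (s' : {s : S // ∃ t, s ⋖ t}) (_ : s'.1 < s), C s' := by
    intro s
    refine WellFoundedLT.induction
      (motive := fun s => Mf s ≤ ⨆ (s' : {s : S // ∃ t, s ⋖ t}) (_ : s'.1 < s), C s') s (fun s ih => ?_)
    by_cases hp : Order.IsSuccPrelimit s
    · rw [hlim s hp]
      exact iSup_le fun t => le_trans (ih t.1 t.2)
        (iSup₂_le fun s' hs' => le_iSup₂_of_le s' (hs'.trans t.2) le_rfl)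
    · obtain ⟨a, ha⟩ := Order.not_isSuccPrelimit_iff.mp hp
      obtain ⟨s'', hs''⟩ : ∃ s'' : {s : S // ∃ t, s ⋖ t}, s''.1 = a := ⟨⟨a, s, ha⟩, rfl⟩
      have hcov' : a ⋖ tt s'' := hs'' ▸ hcov s''
      have ht : tt s'' = s := hcov'.unique_right ha
      have h4 : Mf s = Mf a ⊔ C s'' := by
        rw [← ht, ← hs'']
        exact (h2 s'').symm
      rw [h4]
      refine sup_le (le_trans (ih a ha.lt)
        (iSup₂_le fun s' hs' => le_iSup₂_of_le s' (hs'.trans ha.lt) le_rfl))
        (le_iSup₂_of_le s'' (hs'' ▸ ha.lt) le_rfl)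
  refine ⟨{s : S // ∃ t, s ⋖ t}, C, ?_, ?_, ?_⟩
  · rw [iSupIndep_iff_supIndep]
    intro F
    induction F using Finset.induction_on_max with
    | empty => exact Finset.supIndep_empty _
    | insert a s hlt ih =>
      refine Finset.SupIndep.insert ih ?_
      have hle : s.sup C ≤ Mf a.1 := Finset.sup_le fun x hx => claimA x a.1 (hlt x hx)
      have hdis : Disjoint (C a) (Mf a.1) := by
        rw [disjoint_iff, inf_comm]
        exact h1 a
      exact hdis.mono_right hle
  · rw [eq_top_iff, ← htop]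
    exact iSup_le fun s => le_trans (claimB s) (iSup₂_le fun s' _ => le_iSup C s')
  · intro s'
    exact isCG_of_surjective
      (LinearEquiv.ofBijective (cmp (Mf s'.1) (Mf (tt s')) (C s') (hCle s'))
        ⟨cmp_injective _ _ _ _ (h1 s'), cmp_surjective _ _ _ _ (h2 s')⟩).symm.toLinearMap
      (LinearEquiv.surjective _) (h3 s')

end Groth.Agent.Helper6.Kaplansky
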