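import Mathlib

/-! In characteristic zero, the kernel of `d : L → Ω[L⁄K]` consists of elements algebraic over `K`. -/

set_option autoImplicit false
universe u

open TensorProduct

namespace Groth.Agent.Helper6.KerD

open scoped IntermediateField.algebraAdjoinAdjoin in
theorem isAlgebraic_of_D_eq_zero (K L : Type u) [Field K] [Field L] [Algebra K L] [CharZero K]
    (x : L) (hx : KaehlerDifferential.D K L x = 0) : IsAlgebraic K x := by
  classical
  by_contra hx'
  have htr : Transcendental K x := hx'
  have hs : AlgebraicIndepOn K id ({x} : Set L) := by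
    have : AlgebraicIndependent K (fun i : ({x} : Set L) => (i : L)) :=
      (algebraicIndependent_singleton_iff (R := K) (x := fun i : ({x} : Set L) => (i : L))
        ⟨x, rfl⟩).2 htr
    exact this
  obtain ⟨t, hst, ht⟩ := exists_isTranscendenceBasis_superset hs
  have hxt : x ∈ t := hst rfl
  let v : t → L := fun i => (i : L)
  have hv : AlgebraicIndependent K v := ht.1
  let i0 : t := ⟨x, hxt⟩
  let S := Algebra.adjoin K (Set.range v)
  let E := IntermediateField.adjoin K (Set.range v)
  have halg : Algebra.IsAlgebraic S L := ht.isAlgebraic
  have halgE : Algebra.IsAlgebraic E L :=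
    Algebra.IsAlgebraic.extendScalars (R := S) (S := E) (A := L)
      (FaithfulSMul.algebraMap_injective S E)
  have hcharL : CharZero L := charZero_of_injective_algebraMap (algebraMap K L).injective
  have hcharE : CharZero E := charZero_of_injective_algebraMap (algebraMap K E).injective
  have hsep : Algebra.IsSeparable E L := inferInstance
  have het1 : Algebra.FormallyEtale S E := Algebra.FormallyEtale.of_isLocalization (nonZeroDivisors S)
  have het2 : Algebra.FormallyEtale E L := Algebra.FormallyEtale.of_isSeparable E L
  have het : Algebra.FormallyEtale S L := Algebra.FormallyEtale.comp S E L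
  -- derivation on S
  let e : MvPolynomial t K ≃ₐ[K] S := hv.aevalEquiv
  let s0 : S := e (MvPolynomial.X i0)
  have hs0 : algebraMap S L s0 = x := by
    show algebraMap S L (hv.aevalEquiv (MvPolynomial.X i0)) = x
    rw [hv.algebraMap_aevalEquiv, MvPolynomial.aeval_X]
  let δ : Derivation K S S :=
    { toLinearMap := e.toLinearMap ∘ₗ (MvPolynomial.pderiv i0).toLinearMap ∘ₗ e.symm.toLinearMap
      map_one_eq_zero' := by simp
      leibniz' := by
        intro a b
        simp only [LinearMap.comp_apply, AlgEquiv.toLinearMap_apply, map_mul,
          Derivation.coeFn_coe, Derivation.leibniz, map_add, smul_eq_mul, AlgEquiv.apply_symm_apply] }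
  have hδ : δ s0 = 1 := by
    show e (MvPolynomial.pderiv i0 (e.symm (e (MvPolynomial.X i0)))) = 1
    rw [AlgEquiv.symm_apply_apply, MvPolynomial.pderiv_X_self, map_one]
  have h1 := KaehlerDifferential.tensorKaehlerEquivOfFormallyEtale_symm_D_algebraMap K S L s0
  rw [hs0, hx, map_zero] at h1
  have h2 := congrArg (LinearMap.lTensor L δ.liftKaehlerDifferential) h1
  rw [map_zero, LinearMap.lTensor_tmul, Derivation.liftKaehlerDifferential_comp_D, hδ] at h2
  have h3 := congrArg (TensorProduct.rid S L) h2
  rw [map_zero, TensorProduct.rid_tmul, one_smul] at h3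
  exact one_ne_zero h3.symm

end Groth.Agent.Helper6.KerD
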