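import Mathlib
import Groth.Agent.Helper6.GLnH90

/-!
Hilbert 90 (multiplicative and additive) for locally constant cocycles on the Galois group of an
arbitrary Galois extension with its Krull topology.
-/

namespace Groth.Agent.Helper6.KrullH90

open Groth.Agent.Helper6.GLnH90

section Finite

variable {K E : Type*} [Field K] [Field E] [Algebra K E] [FiniteDimensional K E]

/-- Finite-level multiplicative Hilbert 90. -/
theorem finite_mul (b : (E ≃ₐ[K] E) → E) (hb0 : ∀ ρ, b ρ ≠ 0)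
    (hb : ∀ ρ ρ' : E ≃ₐ[K] E, b (ρ * ρ') = b ρ * ρ (b ρ')) :
    ∃ γ : E, γ ≠ 0 ∧ ∀ ρ : E ≃ₐ[K] E, b ρ = γ⁻¹ * ρ γ := by
  classical
  have hex : ∃ x : E, ∑ τ : E ≃ₐ[K] E, b τ * τ x ≠ 0 := by
    by_contra hne
    push Not at hne
    exact hb0 1 (dedekind b hne 1)
  obtain ⟨x, hx⟩ := hex
  set β : E := ∑ τ : E ≃ₐ[K] E, b τ * τ x with hβ
  have hρβ : ∀ ρ : E ≃ₐ[K] E, b ρ * ρ β = β := by
    intro ρ
    rw [hβ, map_sum, Finset.mul_sum]
    refine Fintype.sum_bijective (ρ * ·) (Group.mulLeft_bijective ρ) _ _ fun τ => ?_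
    rw [map_mul, ← mul_assoc, ← hb]
    rfl
  refine ⟨β⁻¹, inv_ne_zero hx, fun ρ => ?_⟩
  rw [inv_inv, map_inv₀]
  have hρβ0 : ρ β ≠ 0 := by
    intro h0
    apply hx
    rw [← hρβ ρ, h0, mul_zero]
  field_simp
  exact hρβ ρ

/-- Finite-level additive Hilbert 90. -/
theorem finite_add (b : (E ≃ₐ[K] E) → E)
    (hb : ∀ ρ ρ' : E ≃ₐ[K] E, b (ρ * ρ') = b ρ + ρ (b ρ')) :
    ∃ y : E, ∀ ρ : E ≃ₐ[K] E, b ρ = ρ y - y := by
  classical
  have hex : ∃ x : E, ∑ τ : E ≃ₐ[K] E, (1 : E) * τ x ≠ 0 := by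
    by_contra hne
    push Not at hne
    exact one_ne_zero (dedekind (fun _ => (1 : E)) hne 1)
  obtain ⟨x, hx⟩ := hex
  simp only [one_mul] at hx
  set t : E := ∑ τ : E ≃ₐ[K] E, τ x with ht
  have hρt : ∀ ρ : E ≃ₐ[K] E, ρ t = t := by
    intro ρ
    rw [ht, map_sum]
    exact Fintype.sum_bijective (ρ * ·) (Group.mulLeft_bijective ρ) _ _ fun τ => rfl
  set θ : E := x / t with hθ
  have hθsum : ∑ τ : E ≃ₐ[K] E, τ θ = 1 := by
    have : ∀ τ : E ≃ₐ[K] E, τ θ = τ x / t := by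
      intro τ
      rw [hθ, map_div₀, hρt]
    simp only [this]
    rw [← Finset.sum_div, ← ht, div_self hx]
  set y : E := ∑ τ : E ≃ₐ[K] E, b τ * τ θ with hy
  have hρy : ∀ ρ : E ≃ₐ[K] E, ρ y = y - b ρ := by
    intro ρ
    have h1 : ρ y = ∑ τ : E ≃ₐ[K] E, (b (ρ * τ) - b ρ) * (ρ * τ) θ := by
      rw [hy, map_sum]
      refine Finset.sum_congr rfl fun τ _ => ?_
      rw [map_mul, hb ρ τ, add_sub_cancel_left]
      rfl
    have h2 : ∑ τ : E ≃ₐ[K] E, (b (ρ * τ) - b ρ) * (ρ * τ) θ =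
        ∑ τ : E ≃ₐ[K] E, (b τ - b ρ) * τ θ :=
      Fintype.sum_bijective (ρ * ·) (Group.mulLeft_bijective ρ) _ _ fun τ => rfl
    rw [h1, h2]
    simp only [sub_mul]
    rw [Finset.sum_sub_distrib, ← Finset.mul_sum, hθsum, mul_one]
  refine ⟨-y, fun ρ => ?_⟩
  rw [map_neg, hρy]
  ring

end Finite

section Krull

variable {K L : Type*} [Field K] [Field L] [Algebra K L] [IsGalois K L]

/-- Data of a finite Galois level adapted to a function on the Galois group which is constant on a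
neighbourhood of `1`, right-invariant and conjugation-compatible. -/
theorem exists_level (a : (L ≃ₐ[K] L) → L) (hlc : IsLocallyConstant a) :
    ∃ E : IntermediateField K L, FiniteDimensional K E ∧ Normal K E ∧
      ∀ τ ∈ E.fixingSubgroup, a τ = a 1 := by
  have hopen : IsOpen (a ⁻¹' {a 1}) := hlc.isOpen_fiber (a 1)
  have hmem : a ⁻¹' {a 1} ∈ nhds (1 : L ≃ₐ[K] L) := hopen.mem_nhds rfl
  rw [krullTopology_mem_nhds_one_iff_of_normal] at hmem
  obtain ⟨E, h1, h2, h3⟩ := hmem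
  exact ⟨E, h1, h2, fun τ hτ => h3 hτ⟩

/-- Descent of a multiplicative cocycle to a finite level and Hilbert 90. -/
theorem krull_mul (a : (L ≃ₐ[K] L) → L) (ha0 : ∀ σ, a σ ≠ 0)
    (ha : ∀ σ τ : L ≃ₐ[K] L, a (σ * τ) = a σ * σ (a τ)) (hlc : IsLocallyConstant a) :
    ∃ c : L, c ≠ 0 ∧ ∀ σ : L ≃ₐ[K] L, a σ = c⁻¹ * σ c := by
  classical
  obtain ⟨E, hfd, hnorm, hE⟩ := exists_level a hlc
  have ha1 : a 1 = 1 := by
    have h := ha 1 1
    rw [mul_one, AlgEquiv.one_apply] at h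
    have h0 := ha0 1
    field_simp at h
    exact h.symm
  have hH : ∀ τ ∈ E.fixingSubgroup, a τ = 1 := fun τ hτ => (hE τ hτ).trans ha1
  have hright : ∀ (σ : L ≃ₐ[K] L), ∀ τ ∈ E.fixingSubgroup, a (σ * τ) = a σ := by
    intro σ τ hτ
    rw [ha, hH τ hτ, map_one, mul_one]
  have : IsGalois K E := IsGalois.mk
  -- values lie in E
  have hval : ∀ σ : L ≃ₐ[K] L, a σ ∈ E := by
    intro σ
    rw [← InfiniteGalois.fixedField_fixingSubgroup E, IntermediateField.mem_fixedField_iff]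
    intro τ hτ
    have hconj : σ⁻¹ * τ * σ ∈ E.fixingSubgroup := by
      have := (inferInstance : (E.fixingSubgroup).Normal).conj_mem τ hτ σ⁻¹
      rwa [inv_inv] at this
    have h1 : a (τ * σ) = a σ := by
      have : τ * σ = σ * (σ⁻¹ * τ * σ) := by group
      rw [this, hright σ _ hconj]
    rw [ha τ σ, hH τ hτ, one_mul] at h1
    exact h1
  -- restriction
  let res : (L ≃ₐ[K] L) →* (E ≃ₐ[K] E) := AlgEquiv.restrictNormalHom E
  have hsurj : Function.Surjective res := AlgEquiv.restrictNormalHom_surjective L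
  have hker : ∀ σ : L ≃ₐ[K] L, res σ = 1 → σ ∈ E.fixingSubgroup := by
    intro σ hσ
    rw [← IntermediateField.restrictNormalHom_ker E]
    exact hσ
  have hF1 : ∀ σ σ' : L ≃ₐ[K] L, res σ = res σ' → a σ = a σ' := by
    intro σ σ' h
    have hk : σ⁻¹ * σ' ∈ E.fixingSubgroup := by
      apply hker
      rw [map_mul, map_inv, h, inv_mul_cancel]
    have : σ' = σ * (σ⁻¹ * σ') := by group
    rw [this, hright σ _ hk]
  have hF2 : ∀ (σ : L ≃ₐ[K] L) (x : E), σ (x : L) = ((res σ x : E) : L) := by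
    intro σ x
    exact (AlgEquiv.restrictNormal_commutes σ E x).symm
  choose lift hlift using hsurj
  let b : (E ≃ₐ[K] E) → E := fun ρ => ⟨a (lift ρ), hval _⟩
  have hbres : ∀ σ : L ≃ₐ[K] L, ((b (res σ) : E) : L) = a σ := by
    intro σ
    exact hF1 _ _ (hlift (res σ))
  obtain ⟨γ, hγ0, hγ⟩ := finite_mul b (by
    intro ρ h0
    exact ha0 (lift ρ) (congrArg Subtype.val h0)) (by
    intro ρ ρ'
    apply Subtype.ext
    show a (lift (ρ * ρ')) = a (lift ρ) * ((ρ (b ρ') : E) : L)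
    have e1 : a (lift (ρ * ρ')) = a (lift ρ * lift ρ') := by
      apply hF1
      rw [hlift, map_mul, hlift, hlift]
    rw [e1, ha, hF2 (lift ρ) (b ρ'), hlift])
  refine ⟨(γ : L), fun h0 => hγ0 (Subtype.ext h0), fun σ => ?_⟩
  rw [← hbres σ, hγ (res σ), hF2 σ γ]
  rfl

/-- Descent of an additive cocycle to a finite level and additive Hilbert 90. -/
theorem krull_add (a : (L ≃ₐ[K] L) → L)
    (ha : ∀ σ τ : L ≃ₐ[K] L, a (σ * τ) = a σ + σ (a τ)) (hlc : IsLocallyConstant a) :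
    ∃ y : L, ∀ σ : L ≃ₐ[K] L, a σ = σ y - y := by
  classical
  obtain ⟨E, hfd, hnorm, hE⟩ := exists_level a hlc
  have ha1 : a 1 = 0 := by
    have h := ha 1 1
    rw [mul_one, AlgEquiv.one_apply] at h
    exact (add_eq_left.1 h.symm)
  have hH : ∀ τ ∈ E.fixingSubgroup, a τ = 0 := fun τ hτ => (hE τ hτ).trans ha1
  have hright : ∀ (σ : L ≃ₐ[K] L), ∀ τ ∈ E.fixingSubgroup, a (σ * τ) = a σ := by
    intro σ τ hτ
    rw [ha, hH τ hτ, map_zero, add_zero]
  have : IsGalois K E := IsGalois.mk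
  have hval : ∀ σ : L ≃ₐ[K] L, a σ ∈ E := by
    intro σ
    rw [← InfiniteGalois.fixedField_fixingSubgroup E, IntermediateField.mem_fixedField_iff]
    intro τ hτ
    have hconj : σ⁻¹ * τ * σ ∈ E.fixingSubgroup := by
      have := (inferInstance : (E.fixingSubgroup).Normal).conj_mem τ hτ σ⁻¹
      rwa [inv_inv] at this
    have h1 : a (τ * σ) = a σ := by
      have : τ * σ = σ * (σ⁻¹ * τ * σ) := by group
      rw [this, hright σ _ hconj]
    rw [ha τ σ, hH τ hτ, zero_add] at h1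
    exact h1
  let res : (L ≃ₐ[K] L) →* (E ≃ₐ[K] E) := AlgEquiv.restrictNormalHom E
  have hsurj : Function.Surjective res := AlgEquiv.restrictNormalHom_surjective L
  have hker : ∀ σ : L ≃ₐ[K] L, res σ = 1 → σ ∈ E.fixingSubgroup := by
    intro σ hσ
    rw [← IntermediateField.restrictNormalHom_ker E]
    exact hσ
  have hF1 : ∀ σ σ' : L ≃ₐ[K] L, res σ = res σ' → a σ = a σ' := by
    intro σ σ' h
    have hk : σ⁻¹ * σ' ∈ E.fixingSubgroup := by
      apply hker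
      rw [map_mul, map_inv, h, inv_mul_cancel]
    have : σ' = σ * (σ⁻¹ * σ') := by group
    rw [this, hright σ _ hk]
  have hF2 : ∀ (σ : L ≃ₐ[K] L) (x : E), σ (x : L) = ((res σ x : E) : L) := by
    intro σ x
    exact (AlgEquiv.restrictNormal_commutes σ E x).symm
  choose lift hlift using hsurj
  let b : (E ≃ₐ[K] E) → E := fun ρ => ⟨a (lift ρ), hval _⟩
  have hbres : ∀ σ : L ≃ₐ[K] L, ((b (res σ) : E) : L) = a σ := by
    intro σ
    exact hF1 _ _ (hlift (res σ))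
  obtain ⟨y, hy⟩ := finite_add b (by
    intro ρ ρ'
    apply Subtype.ext
    show a (lift (ρ * ρ')) = a (lift ρ) + ((ρ (b ρ') : E) : L)
    have e1 : a (lift (ρ * ρ')) = a (lift ρ * lift ρ') := by
      apply hF1
      rw [hlift, map_mul, hlift, hlift]
    rw [e1, ha, hF2 (lift ρ) (b ρ'), hlift])
  refine ⟨(y : L), fun σ => ?_⟩
  rw [← hbres σ, hy (res σ), hF2 σ y]
  rfl

end Krull

end Groth.Agent.Helper6.KrullH90
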