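import Mathlib

namespace Groth.Agent.Helper6.KumKer

open MvPolynomial

variable {R : Type*} [CommRing R]

/-- parity independence: extract `q0` and `q3`. -/
theorem indep (q0 q1 q2 q3 : MvPolynomial (Fin 2) R)
    (h : expand 2 q0 + expand 2 q1 * X 0 + expand 2 q2 * X 1 + expand 2 q3 * (X 0 * X 1) = 0) :
    q0 = 0 ∧ q3 = 0 := by
  classical
  have h2 : (2 : ℕ) ≠ 0 := by norm_num
  constructor
  · rw [MvPolynomial.eq_zero_iff]
    intro m
    have hc := congrArg (coeff (2 • m)) h
    rw [coeff_add, coeff_add, coeff_add, coeff_expand_smul 2 h2, coeff_zero, ← mul_assoc,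
      coeff_mul_X', coeff_mul_X', coeff_mul_X'] at hc
    have e1 : (if (0 : Fin 2) ∈ (2 • m).support then
        coeff (2 • m - Finsupp.single 0 1) (expand 2 q1) else 0) = 0 := by
      split_ifs with hs
      · apply coeff_expand_of_not_dvd (i := 0)
        rw [Finsupp.mem_support_iff] at hs
        simp only [Finsupp.coe_tsub, Finsupp.coe_smul, Pi.sub_apply, Pi.smul_apply, smul_eq_mul,
          Finsupp.single_eq_same] at hs ⊢
        omega
      · rfl
    have e2 : (if (1 : Fin 2) ∈ (2 • m).support then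
        coeff (2 • m - Finsupp.single 1 1) (expand 2 q2) else 0) = 0 := by
      split_ifs with hs
      · apply coeff_expand_of_not_dvd (i := 1)
        rw [Finsupp.mem_support_iff] at hs
        simp only [Finsupp.coe_tsub, Finsupp.coe_smul, Pi.sub_apply, Pi.smul_apply, smul_eq_mul,
          Finsupp.single_eq_same] at hs ⊢
        omega
      · rfl
    have e3 : (if (1 : Fin 2) ∈ (2 • m).support then
        coeff (2 • m - Finsupp.single 1 1) (expand 2 q3 * X 0) else 0) = 0 := by
      split_ifs with hs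
      · rw [coeff_mul_X']
        split_ifs with hs'
        · apply coeff_expand_of_not_dvd (i := 1)
          rw [Finsupp.mem_support_iff] at hs
          simp only [Finsupp.coe_tsub, Finsupp.coe_smul, Pi.sub_apply, Pi.smul_apply, smul_eq_mul,
            Finsupp.single_eq_same, Finsupp.single_apply] at hs ⊢
          have : ((0 : Fin 2) = 1) = False := by simp
          simp only [this, if_false]
          omega
        · rfl
      · rfl
    rw [e1, e2, e3] at hc
    simpa using hc
  · rw [MvPolynomial.eq_zero_iff]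
    intro m
    have hc := congrArg (coeff (2 • m + Finsupp.single 0 1 + Finsupp.single 1 1)) h
    rw [coeff_add, coeff_add, coeff_add, coeff_zero, ← mul_assoc] at hc
    have e0 : coeff (2 • m + Finsupp.single 0 1 + Finsupp.single 1 1) (expand 2 q0) = 0 := by
      apply coeff_expand_of_not_dvd (i := 0)
      simp only [Finsupp.coe_add, Finsupp.coe_smul, Pi.add_apply, Pi.smul_apply, smul_eq_mul,
        Finsupp.single_eq_same, Finsupp.single_apply]
      have : ((1 : Fin 2) = 0) = False := by simp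
      simp only [this, if_false]
      omega
    have e1 : coeff (2 • m + Finsupp.single 0 1 + Finsupp.single 1 1) (expand 2 q1 * X 0) = 0 := by
      have : 2 • m + Finsupp.single 0 1 + Finsupp.single 1 1 =
        (2 • m + Finsupp.single (1 : Fin 2) 1) + Finsupp.single 0 1 := by abel
      rw [this, coeff_mul_X]
      apply coeff_expand_of_not_dvd (i := 1)
      simp only [Finsupp.coe_add, Finsupp.coe_smul, Pi.add_apply, Pi.smul_apply, smul_eq_mul,
        Finsupp.single_eq_same]
      omega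
    have e2 : coeff (2 • m + Finsupp.single 0 1 + Finsupp.single 1 1) (expand 2 q2 * X 1) = 0 := by
      rw [coeff_mul_X]
      apply coeff_expand_of_not_dvd (i := 0)
      simp only [Finsupp.coe_add, Finsupp.coe_smul, Pi.add_apply, Pi.smul_apply, smul_eq_mul,
        Finsupp.single_eq_same]
      omega
    rw [e0, e1, e2, coeff_mul_X, coeff_mul_X, coeff_expand_smul 2 h2] at hc
    simpa using hc

/-- the inclusion `R[X0,X1] → R[X0,X1,X2]`. -/
noncomputable abbrev ρ : MvPolynomial (Fin 2) R →ₐ[R] MvPolynomial (Fin 3) R :=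
  rename Fin.castSucc

theorem ρ_X0 : ρ (X 0 : MvPolynomial (Fin 2) R) = X 0 := by
  rw [ρ, rename_X]; rfl

theorem ρ_X1 : ρ (X 1 : MvPolynomial (Fin 2) R) = X 1 := by
  rw [ρ, rename_X]; rfl

/-- reduction modulo `X2^2 + ρ h`. -/
theorem reduce (h : MvPolynomial (Fin 2) R) (p : MvPolynomial (Fin 3) R) :
    ∃ r0 r1 : MvPolynomial (Fin 2) R,
      p - (ρ r0 + ρ r1 * X 2) ∈ Ideal.span {(X 2 ^ 2 + ρ h : MvPolynomial (Fin 3) R)} := by
  induction p using MvPolynomial.induction_on with
  | C a =>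
    refine ⟨C a, 0, ?_⟩
    have : ρ (C a : MvPolynomial (Fin 2) R) = C a := by rw [ρ, rename_C]
    rw [this, map_zero, zero_mul, add_zero, sub_self]
    exact zero_mem _
  | add p q hp hq =>
    obtain ⟨r0, r1, hr⟩ := hp
    obtain ⟨s0, s1, hs⟩ := hq
    refine ⟨r0 + s0, r1 + s1, ?_⟩
    have : p + q - (ρ (r0 + s0) + ρ (r1 + s1) * X 2) =
        (p - (ρ r0 + ρ r1 * X 2)) + (q - (ρ s0 + ρ s1 * X 2)) := by
      rw [map_add, map_add]; ring
    rw [this]
    exact add_mem hr hs
  | mul_X p i hp =>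
    obtain ⟨r0, r1, hr⟩ := hp
    have h3 : ∀ i : Fin 3, i = 0 ∨ i = 1 ∨ i = 2 := by decide
    rcases h3 i with rfl | rfl | rfl
    · refine ⟨r0 * X 0, r1 * X 0, ?_⟩
      have : p * X 0 - (ρ (r0 * X 0) + ρ (r1 * X 0) * X 2) =
          (p - (ρ r0 + ρ r1 * X 2)) * X 0 := by
        rw [map_mul, map_mul, ρ_X0]; ring
      rw [this]
      exact Ideal.mul_mem_right _ _ hr
    · refine ⟨r0 * X 1, r1 * X 1, ?_⟩
      have : p * X 1 - (ρ (r0 * X 1) + ρ (r1 * X 1) * X 2) =
          (p - (ρ r0 + ρ r1 * X 2)) * X 1 := by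
        rw [map_mul, map_mul, ρ_X1]; ring
      rw [this]
      exact Ideal.mul_mem_right _ _ hr
    · refine ⟨-(r1 * h), r0, ?_⟩
      have : p * X 2 - (ρ (-(r1 * h)) + ρ r0 * X 2) =
          (p - (ρ r0 + ρ r1 * X 2)) * X 2 + ρ r1 * (X 2 ^ 2 + ρ h) := by
        rw [map_neg, map_mul]; ring
      rw [this]
      exact add_mem (Ideal.mul_mem_right _ _ hr)
        (Ideal.mul_mem_left _ _ (Ideal.subset_span rfl))

theorem ker_eq_span (a b c h z : MvPolynomial (Fin 2) R)
    (hz : z = expand 2 a * X 0 + expand 2 b * X 1 + expand 2 c * (X 0 * X 1))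
    (hh : z ^ 2 + expand 2 h = 0) (hc : ∀ q : MvPolynomial (Fin 2) R, q * c = 0 → q = 0) :
    RingHom.ker (aeval ![X 0 ^ 2, X 1 ^ 2, z] :
        MvPolynomial (Fin 3) R →ₐ[R] MvPolynomial (Fin 2) R) =
      Ideal.span {(X 2 ^ 2 + ρ h : MvPolynomial (Fin 3) R)} := by
  have hΦρ : ∀ q : MvPolynomial (Fin 2) R,
      aeval ![X 0 ^ 2, X 1 ^ 2, z] (ρ q) = expand 2 q := by
    intro q
    rw [ρ, aeval_rename]
    have : (aeval (R := R) (![X 0 ^ 2, X 1 ^ 2, z] ∘ Fin.castSucc) :
        MvPolynomial (Fin 2) R →ₐ[R] MvPolynomial (Fin 2) R) = expand 2 := by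
      apply MvPolynomial.algHom_ext
      intro i
      rw [aeval_X, expand_X]
      have h2 : ∀ i : Fin 2, i = 0 ∨ i = 1 := by decide
      rcases h2 i with rfl | rfl <;> rfl
    rw [this]
  have hΦ2 : aeval ![X 0 ^ 2, X 1 ^ 2, z] (X 2 : MvPolynomial (Fin 3) R) = z := by
    rw [aeval_X]; rfl
  have hgen : aeval ![X 0 ^ 2, X 1 ^ 2, z] (X 2 ^ 2 + ρ h : MvPolynomial (Fin 3) R) = 0 := by
    rw [map_add, map_pow, hΦ2, hΦρ, hh]
  apply le_antisymm
  · intro p hp
    rw [RingHom.mem_ker] at hp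
    obtain ⟨r0, r1, hr⟩ := reduce h p
    have hr' : aeval ![X 0 ^ 2, X 1 ^ 2, z] (p - (ρ r0 + ρ r1 * X 2)) = 0 := by
      have hle : Ideal.span {(X 2 ^ 2 + ρ h : MvPolynomial (Fin 3) R)} ≤
          RingHom.ker (aeval ![X 0 ^ 2, X 1 ^ 2, z] :
            MvPolynomial (Fin 3) R →ₐ[R] MvPolynomial (Fin 2) R) := by
        rw [Ideal.span_le]
        rintro _ rfl
        exact hgen
      exact hle hr
    rw [map_sub, hp, zero_sub, neg_eq_zero, map_add, map_mul, hΦρ, hΦρ, hΦ2] at hr'
    have hr'' : expand 2 r0 + expand 2 (r1 * a) * X 0 + expand 2 (r1 * b) * X 1 +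
        expand 2 (r1 * c) * (X 0 * X 1) = 0 := by
      rw [← hr', hz, map_mul, map_mul, map_mul]; ring
    obtain ⟨h0, h1⟩ := indep _ _ _ _ hr''
    have h1' := hc r1 h1
    rw [h0, h1', map_zero, zero_mul, add_zero, sub_zero] at hr
    exact hr
  · rw [Ideal.span_le]
    rintro _ rfl
    exact hgen

end Groth.Agent.Helper6.KumKer
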