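import Mathlib
import Groth.Agent.Helper6.KumKer

namespace Groth.Agent.Helper6.KumKer

open MvPolynomial

universe u

theorem mul_X_eq_zero {R : Type*} [CommRing R] {σ : Type*} (q : MvPolynomial σ R) (i : σ)
    (h : q * X i = 0) : q = 0 := by
  rw [MvPolynomial.eq_zero_iff]
  intro m
  have := congrArg (coeff (m + Finsupp.single i 1)) h
  rwa [coeff_mul_X, coeff_zero] at this

theorem S13121 (R : Type u) [CommRing R] [CharP R 2]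
    (l0 l2 l4 s0 s2 s4 τ : R) (hτ : IsUnit τ) :
    RingHom.ker (MvPolynomial.aeval (R := R) (S₁ := MvPolynomial (Fin 2) R)
        ![X 0 ^ 2, X 1 ^ 2,
          (C s0 * X 1 ^ 4 + C s2 * X 1 ^ 2 + C s4) * X 0 ^ 3 +
            (C l0 * X 0 ^ 4 + C l2 * X 0 ^ 2 + C l4) * X 1 ^ 3 +
            C τ * X 0 ^ 3 * X 1 ^ 3]) =
      Ideal.span {(X 2 ^ 2 + C (s0 ^ 2) * X 0 ^ 3 * X 1 ^ 4 + C (s2 ^ 2) * X 0 ^ 3 * X 1 ^ 2 +
        C (s4 ^ 2) * X 0 ^ 3 + C (l0 ^ 2) * X 0 ^ 4 * X 1 ^ 3 + C (l2 ^ 2) * X 0 ^ 2 * X 1 ^ 3 +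
        C (l4 ^ 2) * X 1 ^ 3 + C (τ ^ 2) * X 0 ^ 3 * X 1 ^ 3 : MvPolynomial (Fin 3) R)} := by
  have key := ker_eq_span (R := R)
    (X 0 * (C s0 * X 1 ^ 2 + C s2 * X 1 + C s4))
    (X 1 * (C l0 * X 0 ^ 2 + C l2 * X 0 + C l4))
    (C τ * X 0 * X 1)
    (C (s0 ^ 2) * X 0 ^ 3 * X 1 ^ 4 + C (s2 ^ 2) * X 0 ^ 3 * X 1 ^ 2 +
        C (s4 ^ 2) * X 0 ^ 3 + C (l0 ^ 2) * X 0 ^ 4 * X 1 ^ 3 + C (l2 ^ 2) * X 0 ^ 2 * X 1 ^ 3 +
        C (l4 ^ 2) * X 1 ^ 3 + C (τ ^ 2) * X 0 ^ 3 * X 1 ^ 3)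
    ((C s0 * X 1 ^ 4 + C s2 * X 1 ^ 2 + C s4) * X 0 ^ 3 +
            (C l0 * X 0 ^ 4 + C l2 * X 0 ^ 2 + C l4) * X 1 ^ 3 +
            C τ * X 0 ^ 3 * X 1 ^ 3)
    (by
      simp only [map_mul, map_add, map_pow, expand_X, expand_C]
      ring)
    (by
      haveI : Fact (Nat.Prime 2) := ⟨Nat.prime_two⟩
      simp only [map_mul, map_add, map_pow, expand_X, expand_C, add_pow_char, mul_pow]
      have h2 : ∀ t : MvPolynomial (Fin 2) R, t + t = 0 := CharTwo.add_self_eq_zero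
      have : ∀ t u : MvPolynomial (Fin 2) R, t = u → t + u = 0 := by
        intro t u htu; rw [htu]; exact h2 u
      apply this
      ring)
    (by
      intro q hq
      have h1 : q * C τ * X 0 * X 1 = 0 := by rw [← hq]; ring
      have h2 := mul_X_eq_zero _ _ (mul_X_eq_zero _ _ h1)
      obtain ⟨τ', hτ'⟩ := hτ.exists_right_inv
      have h3 : q = q * C τ * C τ' := by
        rw [mul_assoc, ← C_mul, hτ', C_1, mul_one]
      rw [h3, h2, zero_mul])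
  rw [key]
  congr 2
  simp only [ρ, map_add, map_mul, map_pow, rename_C, rename_X]
  have e0 : (Fin.castSucc (0 : Fin 2) : Fin 3) = 0 := rfl
  have e1 : (Fin.castSucc (1 : Fin 2) : Fin 3) = 1 := rfl
  rw [e0, e1]
  ring

end Groth.Agent.Helper6.KumKer
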