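import Mathlib
import Groth.Agent.Helper6.KumKer2
import Groth.Agent.Helper6.CoordChange

namespace Groth.Agent.Helper6.KumKer

open MvPolynomial

universe u

variable {R : Type*} [CommRing R]

theorem decomp (p : MvPolynomial (Fin 2) R) :
    ∃ q0 q1 q2 q3 : MvPolynomial (Fin 2) R,
      p = expand 2 q0 + expand 2 q1 * X 0 + expand 2 q2 * X 1 + expand 2 q3 * (X 0 * X 1) := by
  induction p using MvPolynomial.induction_on with
  | C a =>
    refine ⟨C a, 0, 0, 0, ?_⟩
    simp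
  | add p q hp hq =>
    obtain ⟨a0, a1, a2, a3, rfl⟩ := hp
    obtain ⟨b0, b1, b2, b3, rfl⟩ := hq
    refine ⟨a0 + b0, a1 + b1, a2 + b2, a3 + b3, ?_⟩
    simp only [map_add]
    ring
  | mul_X p i hp =>
    obtain ⟨a0, a1, a2, a3, rfl⟩ := hp
    have h2 : ∀ i : Fin 2, i = 0 ∨ i = 1 := by decide
    rcases h2 i with rfl | rfl
    · refine ⟨a1 * X 0, a0, a3 * X 0, a2, ?_⟩
      simp only [map_mul, expand_X]
      ring
    · refine ⟨a2 * X 1, a3 * X 1, a0, a1, ?_⟩
      simp only [map_mul, expand_X]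
      ring

theorem indep4 (q0 q1 q2 q3 : MvPolynomial (Fin 2) R)
    (h : expand 2 q0 + expand 2 q1 * X 0 + expand 2 q2 * X 1 + expand 2 q3 * (X 0 * X 1) = 0) :
    q0 = 0 ∧ q1 = 0 ∧ q2 = 0 ∧ q3 = 0 := by
  obtain ⟨h0, h3⟩ := indep q0 q1 q2 q3 h
  have h' : expand 2 (q1 * X 0) + expand 2 q0 * X 0 + expand 2 (q3 * X 0) * X 1 +
      expand 2 q2 * (X 0 * X 1) = 0 := by
    have : expand 2 (q1 * X 0) + expand 2 q0 * X 0 + expand 2 (q3 * X 0) * X 1 +
      expand 2 q2 * (X 0 * X 1) =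
      (expand 2 q0 + expand 2 q1 * X 0 + expand 2 q2 * X 1 + expand 2 q3 * (X 0 * X 1)) * X 0 := by
      simp only [map_mul, expand_X]
      ring
    rw [this, h, zero_mul]
  obtain ⟨h1, h2⟩ := indep _ _ _ _ h'
  exact ⟨h0, mul_X_eq_zero _ _ h1, h2, h3⟩

section char2
variable [CharP R 2]

theorem deriv_expand (D : Derivation R (MvPolynomial (Fin 2) R) (MvPolynomial (Fin 2) R))
    (q : MvPolynomial (Fin 2) R) : D (expand 2 q) = 0 := by
  have h1 : expand 2 q = aeval (fun i : Fin 2 => (X i : MvPolynomial (Fin 2) R) ^ 2) q := by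
    have : (expand 2 : MvPolynomial (Fin 2) R →ₐ[R] MvPolynomial (Fin 2) R) =
        aeval (fun i : Fin 2 => (X i : MvPolynomial (Fin 2) R) ^ 2) := by
      apply MvPolynomial.algHom_ext
      intro i
      rw [expand_X, aeval_X]
    rw [this]
  rw [h1, CoordChange.deriv_aeval]
  apply Finset.sum_eq_zero
  intro i _
  have h2 : D ((X i : MvPolynomial (Fin 2) R) ^ 2) = 0 := by
    rw [Derivation.leibniz_pow]
    have : ((2 : ℕ) : MvPolynomial (Fin 2) R) = 0 := CharP.cast_eq_zero _ 2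
    rw [← Nat.cast_smul_eq_nsmul (MvPolynomial (Fin 2) R), this, zero_smul]
  rw [h2, smul_zero]

end char2

end Groth.Agent.Helper6.KumKer
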