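import Mathlib
import Groth.Agent.Helper6.KumDer

namespace Groth.Agent.Helper6.KumKer

open MvPolynomial

universe u

variable {R : Type*} [CommRing R]

/-- decomposition of elements of `R[x², x³, y², y³]`. -/
theorem decomp_cusp (a : MvPolynomial (Fin 2) R)
    (ha : a ∈ Algebra.adjoin R ({X 0 ^ 2, X 0 ^ 3, X 1 ^ 2, X 1 ^ 3} : Set (MvPolynomial (Fin 2) R))) :
    ∃ q0 q1 q2 q3 : MvPolynomial (Fin 2) R,
      a = expand 2 q0 + expand 2 q1 * X 0 ^ 3 + expand 2 q2 * X 1 ^ 3 +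
        expand 2 q3 * (X 0 ^ 3 * X 1 ^ 3) := by
  induction ha using Algebra.adjoin_induction with
  | mem x hx =>
    simp only [Set.mem_insert_iff, Set.mem_singleton_iff] at hx
    rcases hx with rfl | rfl | rfl | rfl
    · exact ⟨X 0, 0, 0, 0, by simp⟩
    · exact ⟨0, 1, 0, 0, by simp⟩
    · exact ⟨X 1, 0, 0, 0, by simp⟩
    · exact ⟨0, 0, 1, 0, by simp⟩
  | algebraMap r =>
    exact ⟨C r, 0, 0, 0, by simp [algebraMap_eq]⟩
  | add x y _ _ hx hy =>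
    obtain ⟨a0, a1, a2, a3, rfl⟩ := hx
    obtain ⟨b0, b1, b2, b3, rfl⟩ := hy
    refine ⟨a0 + b0, a1 + b1, a2 + b2, a3 + b3, ?_⟩
    simp only [map_add]
    ring
  | mul x y _ _ hx hy =>
    obtain ⟨q0, q1, q2, q3, rfl⟩ := hx
    obtain ⟨r0, r1, r2, r3, rfl⟩ := hy
    refine ⟨q0 * r0 + q1 * r1 * X 0 ^ 3 + q2 * r2 * X 1 ^ 3 + q3 * r3 * X 0 ^ 3 * X 1 ^ 3,
      q0 * r1 + q1 * r0 + q2 * r3 * X 1 ^ 3 + q3 * r2 * X 1 ^ 3,
      q0 * r2 + q2 * r0 + q1 * r3 * X 0 ^ 3 + q3 * r1 * X 0 ^ 3,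
      q0 * r3 + q3 * r0 + q1 * r2 + q2 * r1, ?_⟩
    simp only [map_add, map_mul, map_pow, expand_X]
    ring

theorem expand_mem_adjoin (S : Set (MvPolynomial (Fin 2) R))
    (h0 : (X 0 : MvPolynomial (Fin 2) R) ^ 2 ∈ S) (h1 : (X 1 : MvPolynomial (Fin 2) R) ^ 2 ∈ S)
    (q : MvPolynomial (Fin 2) R) : expand 2 q ∈ Algebra.adjoin R S := by
  induction q using MvPolynomial.induction_on with
  | C r =>
    rw [expand_C, ← algebraMap_eq]
    exact Subalgebra.algebraMap_mem _ r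
  | add p q hp hq =>
    rw [map_add]; exact add_mem hp hq
  | mul_X p i hp =>
    rw [map_mul, expand_X]
    refine mul_mem hp ?_
    have h2 : ∀ i : Fin 2, i = 0 ∨ i = 1 := by decide
    rcases h2 i with rfl | rfl
    · exact Algebra.subset_adjoin h0
    · exact Algebra.subset_adjoin h1

end Groth.Agent.Helper6.KumKer
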