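import Mathlib
import Groth.Agent.Helper6.KumCusp

namespace Groth.Agent.Helper6.KumKer

open MvPolynomial

universe u

theorem S13120 (R : Type u) [CommRing R] [CharP R 2]
    (l0 l2 l4 s0 s2 s4 τ : R) (hτ : IsUnit τ) (a : MvPolynomial (Fin 2) R)
    (ha : a ∈ Algebra.adjoin R
      ({X 0 ^ 2, X 0 ^ 3, X 1 ^ 2, X 1 ^ 3} : Set (MvPolynomial (Fin 2) R))) :
    MvPolynomial.mkDerivation R
        (![X 1 ^ 2 * (C l0 * X 0 ^ 4 + C τ * X 0 ^ 3 + C l2 * X 0 ^ 2 + C l4),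
          X 0 ^ 2 * (C s0 * X 1 ^ 4 + C τ * X 1 ^ 3 + C s2 * X 1 ^ 2 + C s4)] :
          Fin 2 → MvPolynomial (Fin 2) R) a = 0 ↔
      a ∈ Algebra.adjoin R
        ({X 0 ^ 2, X 1 ^ 2,
          (C s0 * X 1 ^ 4 + C s2 * X 1 ^ 2 + C s4) * X 0 ^ 3 +
            (C l0 * X 0 ^ 4 + C l2 * X 0 ^ 2 + C l4) * X 1 ^ 3 +
            C τ * X 0 ^ 3 * X 1 ^ 3} : Set (MvPolynomial (Fin 2) R)) := by
  have hadd : ∀ t : MvPolynomial (Fin 2) R, t + t = 0 := CharTwo.add_self_eq_zero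
  have key : ∀ A B : MvPolynomial (Fin 2) R, A = B + B → A = 0 := by
    intro A B hAB; rw [hAB]; exact hadd B
  obtain ⟨F0, hF0⟩ : ∃ F0 : MvPolynomial (Fin 2) R, F0 = C l0 * X 0 ^ 2 + C l2 * X 0 + C l4 :=
    ⟨_, rfl⟩
  obtain ⟨G0, hG0⟩ : ∃ G0 : MvPolynomial (Fin 2) R, G0 = C s0 * X 1 ^ 2 + C s2 * X 1 + C s4 :=
    ⟨_, rfl⟩
  have hFe : (C l0 * X 0 ^ 4 + C l2 * X 0 ^ 2 + C l4 : MvPolynomial (Fin 2) R) = expand 2 F0 := by
    rw [hF0]
    simp only [map_mul, map_add, map_pow, expand_X, expand_C]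
    ring
  have hGe : (C s0 * X 1 ^ 4 + C s2 * X 1 ^ 2 + C s4 : MvPolynomial (Fin 2) R) = expand 2 G0 := by
    rw [hG0]
    simp only [map_mul, map_add, map_pow, expand_X, expand_C]
    ring
  have hf : (X 1 ^ 2 * (C l0 * X 0 ^ 4 + C τ * X 0 ^ 3 + C l2 * X 0 ^ 2 + C l4) :
      MvPolynomial (Fin 2) R) = X 1 ^ 2 * (expand 2 F0 + C τ * X 0 ^ 3) := by rw [← hFe]; ring
  have hg : (X 0 ^ 2 * (C s0 * X 1 ^ 4 + C τ * X 1 ^ 3 + C s2 * X 1 ^ 2 + C s4) :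
      MvPolynomial (Fin 2) R) = X 0 ^ 2 * (expand 2 G0 + C τ * X 1 ^ 3) := by rw [← hGe]; ring
  rw [hFe, hGe, hf, hg]
  obtain ⟨D, hD⟩ : ∃ D : Derivation R (MvPolynomial (Fin 2) R) (MvPolynomial (Fin 2) R),
      D = mkDerivation R (![X 1 ^ 2 * (expand 2 F0 + C τ * X 0 ^ 3),
        X 0 ^ 2 * (expand 2 G0 + C τ * X 1 ^ 3)] :
        Fin 2 → MvPolynomial (Fin 2) R) := ⟨_, rfl⟩
  rw [← hD]
  have hD0 : D (X 0) = X 1 ^ 2 * (expand 2 F0 + C τ * X 0 ^ 3) := by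
    rw [hD, mkDerivation_X]; rfl
  have hD1 : D (X 1) = X 0 ^ 2 * (expand 2 G0 + C τ * X 1 ^ 3) := by
    rw [hD, mkDerivation_X]; rfl
  have hDC : ∀ r : R, D (C r) = 0 := fun r => by
    rw [← algebraMap_eq]; exact D.map_algebraMap r
  have hDx2 : D (X 0 ^ 2) = 0 := by
    have := deriv_expand D (X 0); rwa [expand_X] at this
  have hDy2 : D (X 1 ^ 2) = 0 := by
    have := deriv_expand D (X 1); rwa [expand_X] at this
  have hDx3 : D (X 0 ^ 3) = X 0 ^ 2 * D (X 0) := by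
    have : (X 0 : MvPolynomial (Fin 2) R) ^ 3 = X 0 ^ 2 * X 0 := by ring
    rw [this, Derivation.leibniz, hDx2, smul_zero, add_zero, smul_eq_mul]
  have hDy3 : D (X 1 ^ 3) = X 1 ^ 2 * D (X 1) := by
    have : (X 1 : MvPolynomial (Fin 2) R) ^ 3 = X 1 ^ 2 * X 1 := by ring
    rw [this, Derivation.leibniz, hDy2, smul_zero, add_zero, smul_eq_mul]
  obtain ⟨z, hz⟩ : ∃ z : MvPolynomial (Fin 2) R,
      z = expand 2 G0 * X 0 ^ 3 + expand 2 F0 * X 1 ^ 3 + C τ * X 0 ^ 3 * X 1 ^ 3 := ⟨_, rfl⟩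
  rw [← hz]
  have hDz : D z = 0 := by
    rw [hz]
    simp only [map_add, Derivation.leibniz, deriv_expand, hDx3, hDy3, hD0, hD1, hDC, smul_zero,
      smul_eq_mul]
    apply key _ (expand 2 G0 * expand 2 F0 * X 0 ^ 2 * X 1 ^ 2 +
      C τ * expand 2 G0 * X 0 ^ 5 * X 1 ^ 2 + C τ * expand 2 F0 * X 0 ^ 2 * X 1 ^ 5 +
      C τ * C τ * X 0 ^ 5 * X 1 ^ 5)
    ring
  obtain ⟨τ', hτ'⟩ := hτ.exists_right_inv
  have hττ' : (C τ * C τ' : MvPolynomial (Fin 2) R) = 1 := by rw [← C_mul, hτ', C_1]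
  constructor
  · intro hDa
    obtain ⟨q0, q1, q2, q3, rfl⟩ := decomp_cusp a ha
    have hDp : D (expand 2 q0 + expand 2 q1 * X 0 ^ 3 + expand 2 q2 * X 1 ^ 3 +
        expand 2 q3 * (X 0 ^ 3 * X 1 ^ 3)) =
        expand 2 (X 0 * X 1 * (q1 * F0 + q2 * G0)) +
          expand 2 (X 0 ^ 2 * X 1 * (C τ * q1 + q3 * G0)) * X 0 +
          expand 2 (X 0 * X 1 ^ 2 * (C τ * q2 + q3 * F0)) * X 1 +
          expand 2 (X 0 ^ 2 * X 1 ^ 2 * (q3 * C τ + q3 * C τ)) * (X 0 * X 1) := by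
      simp only [map_add, Derivation.leibniz, deriv_expand, hDx3, hDy3, hD0, hD1, smul_zero,
        smul_eq_mul, map_mul, map_pow, expand_X, expand_C]
      ring
    rw [hDp] at hDa
    obtain ⟨-, h1, h2, -⟩ := indep4 _ _ _ _ hDa
    have h1a : C τ * q1 + q3 * G0 = 0 := by
      have e : X 0 ^ 2 * X 1 * (C τ * q1 + q3 * G0) =
          (C τ * q1 + q3 * G0) * X 1 * X 0 * X 0 := by ring
      rw [e] at h1
      exact mul_X_eq_zero _ _ (mul_X_eq_zero _ _ (mul_X_eq_zero _ _ h1))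
    have h2a : C τ * q2 + q3 * F0 = 0 := by
      have e : X 0 * X 1 ^ 2 * (C τ * q2 + q3 * F0) =
          (C τ * q2 + q3 * F0) * X 1 * X 1 * X 0 := by ring
      rw [e] at h2
      exact mul_X_eq_zero _ _ (mul_X_eq_zero _ _ (mul_X_eq_zero _ _ h2))
    have h1' : C τ * q1 = q3 * G0 := CharTwo.add_eq_zero.1 h1a
    have h2' : C τ * q2 = q3 * F0 := CharTwo.add_eq_zero.1 h2a
    have e1 : q1 = C τ' * q3 * G0 := by
      calc q1 = (C τ * C τ') * q1 := by rw [hττ', one_mul]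
        _ = C τ' * (C τ * q1) := by ring
        _ = C τ' * q3 * G0 := by rw [h1']; ring
    have e2 : q2 = C τ' * q3 * F0 := by
      calc q2 = (C τ * C τ') * q2 := by rw [hττ', one_mul]
        _ = C τ' * (C τ * q2) := by ring
        _ = C τ' * q3 * F0 := by rw [h2']; ring
    have e3 : q3 = C τ' * q3 * C τ := by
      calc q3 = q3 * (C τ * C τ') := by rw [hττ', mul_one]
        _ = C τ' * q3 * C τ := by ring
    have E1 : expand 2 q1 = expand 2 (C τ' * q3) * expand 2 G0 := by rw [← map_mul, ← e1]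
    have E2 : expand 2 q2 = expand 2 (C τ' * q3) * expand 2 F0 := by rw [← map_mul, ← e2]
    have E3 : expand 2 q3 = expand 2 (C τ' * q3) * expand 2 (C τ) := by rw [← map_mul, ← e3]
    have hfin : expand 2 q0 + expand 2 q1 * X 0 ^ 3 + expand 2 q2 * X 1 ^ 3 +
        expand 2 q3 * (X 0 ^ 3 * X 1 ^ 3) = expand 2 q0 + expand 2 (C τ' * q3) * z := by
      rw [E1, E2, E3, hz, expand_C]
      ring
    rw [hfin]
    have hS0 : (X 0 : MvPolynomial (Fin 2) R) ^ 2 ∈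
        ({X 0 ^ 2, X 1 ^ 2, z} : Set (MvPolynomial (Fin 2) R)) := by simp
    have hS1 : (X 1 : MvPolynomial (Fin 2) R) ^ 2 ∈
        ({X 0 ^ 2, X 1 ^ 2, z} : Set (MvPolynomial (Fin 2) R)) := by simp
    refine add_mem (expand_mem_adjoin _ hS0 hS1 q0)
      (mul_mem (expand_mem_adjoin _ hS0 hS1 _) (Algebra.subset_adjoin ?_))
    simp
  · intro hmem
    clear ha
    induction hmem using Algebra.adjoin_induction with
    | mem x hx =>
      simp only [Set.mem_insert_iff, Set.mem_singleton_iff] at hx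
      rcases hx with rfl | rfl | rfl
      · exact hDx2
      · exact hDy2
      · exact hDz
    | algebraMap r => exact D.map_algebraMap r
    | add x y _ _ hx hy => rw [map_add, hx, hy, add_zero]
    | mul x y _ _ hx hy => rw [Derivation.leibniz, hx, hy, smul_zero, smul_zero, add_zero]

end Groth.Agent.Helper6.KumKer
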