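import Mathlib
import Groth.Agent.Helper6.KumDer

namespace Groth.Agent.Helper6.KumKer

open MvPolynomial

universe u

theorem S13122 (R : Type u) [CommRing R]
    [CharP R 2] (l0 l2 l4 s0 s2 s4 τ : R) (hτ : IsUnit τ) :
    (∀ p : MvPolynomial (Fin 2) R,
      MvPolynomial.mkDerivation R
          (![C l4 * X 0 ^ 4 + C l2 * X 0 ^ 2 + C τ * X 0 + C l0,
            C s4 * X 1 ^ 4 + C s2 * X 1 ^ 2 + C τ * X 1 + C s0] :
            Fin 2 → MvPolynomial (Fin 2) R) p = 0 ↔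
        p ∈ (MvPolynomial.aeval (R := R) (S₁ := MvPolynomial (Fin 2) R)
          ![X 0 ^ 2, X 1 ^ 2,
            (C s4 * X 1 ^ 4 + C s2 * X 1 ^ 2 + C s0) * X 0 +
              (C l4 * X 0 ^ 4 + C l2 * X 0 ^ 2 + C l0) * X 1 + C τ * X 0 * X 1]).range) ∧
    RingHom.ker (MvPolynomial.aeval (R := R) (S₁ := MvPolynomial (Fin 2) R)
        ![X 0 ^ 2, X 1 ^ 2,
          (C s4 * X 1 ^ 4 + C s2 * X 1 ^ 2 + C s0) * X 0 +
            (C l4 * X 0 ^ 4 + C l2 * X 0 ^ 2 + C l0) * X 1 + C τ * X 0 * X 1]) =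
      Ideal.span {(X 2 ^ 2 + C (τ ^ 2) * X 0 * X 1 +
        (C (s4 ^ 2) * X 1 ^ 4 + C (s2 ^ 2) * X 1 ^ 2 + C (s0 ^ 2)) * X 0 +
        (C (l4 ^ 2) * X 0 ^ 4 + C (l2 ^ 2) * X 0 ^ 2 + C (l0 ^ 2)) * X 1 : MvPolynomial (Fin 3) R)} := by
  haveI : Fact (Nat.Prime 2) := ⟨Nat.prime_two⟩
  have hadd : ∀ t : MvPolynomial (Fin 2) R, t + t = 0 := CharTwo.add_self_eq_zero
  obtain ⟨S', hS'⟩ : ∃ S' : MvPolynomial (Fin 2) R, S' = C s4 * X 1 ^ 2 + C s2 * X 1 + C s0 :=
    ⟨_, rfl⟩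
  obtain ⟨L', hL'⟩ : ∃ L' : MvPolynomial (Fin 2) R, L' = C l4 * X 0 ^ 2 + C l2 * X 0 + C l0 :=
    ⟨_, rfl⟩
  have hSe : (C s4 * X 1 ^ 4 + C s2 * X 1 ^ 2 + C s0 : MvPolynomial (Fin 2) R) = expand 2 S' := by
    rw [hS']
    simp only [map_mul, map_add, map_pow, expand_X, expand_C]
    ring
  have hLe : (C l4 * X 0 ^ 4 + C l2 * X 0 ^ 2 + C l0 : MvPolynomial (Fin 2) R) = expand 2 L' := by
    rw [hL']
    simp only [map_mul, map_add, map_pow, expand_X, expand_C]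
    ring
  have hf : (C l4 * X 0 ^ 4 + C l2 * X 0 ^ 2 + C τ * X 0 + C l0 : MvPolynomial (Fin 2) R) =
      expand 2 L' + C τ * X 0 := by rw [← hLe]; ring
  have hg : (C s4 * X 1 ^ 4 + C s2 * X 1 ^ 2 + C τ * X 1 + C s0 : MvPolynomial (Fin 2) R) =
      expand 2 S' + C τ * X 1 := by rw [← hSe]; ring
  rw [hSe, hLe, hf, hg]
  obtain ⟨D, hD⟩ : ∃ D : Derivation R (MvPolynomial (Fin 2) R) (MvPolynomial (Fin 2) R),
      D = mkDerivation R (![expand 2 L' + C τ * X 0, expand 2 S' + C τ * X 1] :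
        Fin 2 → MvPolynomial (Fin 2) R) := ⟨_, rfl⟩
  rw [← hD]
  have hD0 : D (X 0) = expand 2 L' + C τ * X 0 := by rw [hD, mkDerivation_X]; rfl
  have hD1 : D (X 1) = expand 2 S' + C τ * X 1 := by rw [hD, mkDerivation_X]; rfl
  have hDC : ∀ r : R, D (C r) = 0 := fun r => by
    rw [← algebraMap_eq]; exact D.map_algebraMap r
  obtain ⟨z, hz⟩ : ∃ z : MvPolynomial (Fin 2) R,
      z = expand 2 S' * X 0 + expand 2 L' * X 1 + C τ * X 0 * X 1 := ⟨_, rfl⟩
  rw [← hz]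
  have hz' : z = expand 2 S' * X 0 + expand 2 L' * X 1 + expand 2 (C τ) * (X 0 * X 1) := by
    rw [hz, expand_C]; ring
  have hDz : D z = 0 := by
    rw [hz]
    simp only [map_add, Derivation.leibniz, deriv_expand, hD0, hD1, hDC, smul_zero, smul_eq_mul,
      add_zero, zero_add]
    have key : ∀ A B : MvPolynomial (Fin 2) R, A = B + B → A = 0 := by
      intro A B hAB; rw [hAB]; exact hadd B
    apply key _ (expand 2 S' * expand 2 L' + C τ * X 0 * expand 2 S' + C τ * X 1 * expand 2 L' +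
          C τ * C τ * X 0 * X 1)
    ring
  obtain ⟨τ', hτ'⟩ := hτ.exists_right_inv
  have hττ' : (C τ * C τ' : MvPolynomial (Fin 2) R) = 1 := by rw [← C_mul, hτ', C_1]
  refine ⟨fun p => ⟨fun hp => ?_, fun hp => ?_⟩, ?_⟩
  · -- kernel ⊆ range
    obtain ⟨q0, q1, q2, q3, rfl⟩ := decomp p
    have hDp : D (expand 2 q0 + expand 2 q1 * X 0 + expand 2 q2 * X 1 +
        expand 2 q3 * (X 0 * X 1)) =
        expand 2 (q1 * L' + q2 * S') + expand 2 (C τ * q1 + q3 * S') * X 0 +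
          expand 2 (C τ * q2 + q3 * L') * X 1 + expand 2 (q3 * C τ + q3 * C τ) * (X 0 * X 1) := by
      simp only [map_add, Derivation.leibniz, deriv_expand, hD0, hD1, smul_zero, smul_eq_mul,
        add_zero, zero_add, map_mul, expand_C]
      ring
    rw [hDp] at hp
    obtain ⟨-, h1, h2, -⟩ := indep4 _ _ _ _ hp
    have h1' : C τ * q1 = q3 * S' := CharTwo.add_eq_zero.1 h1
    have h2' : C τ * q2 = q3 * L' := CharTwo.add_eq_zero.1 h2
    have e1 : q1 = C τ' * q3 * S' := by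
      calc q1 = (C τ * C τ') * q1 := by rw [hττ', one_mul]
        _ = C τ' * (C τ * q1) := by ring
        _ = C τ' * q3 * S' := by rw [h1']; ring
    have e2 : q2 = C τ' * q3 * L' := by
      calc q2 = (C τ * C τ') * q2 := by rw [hττ', one_mul]
        _ = C τ' * (C τ * q2) := by ring
        _ = C τ' * q3 * L' := by rw [h2']; ring
    have e3 : q3 = C τ' * q3 * C τ := by
      calc q3 = q3 * (C τ * C τ') := by rw [hττ', mul_one]
        _ = C τ' * q3 * C τ := by ring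
    refine ⟨ρ q0 + ρ (C τ' * q3) * X 2, ?_⟩
    have hΦρ : ∀ q : MvPolynomial (Fin 2) R,
        aeval ![X 0 ^ 2, X 1 ^ 2, z] (ρ q) = expand 2 q := by
      intro q
      rw [ρ, aeval_rename]
      have : (aeval (R := R) (![X 0 ^ 2, X 1 ^ 2, z] ∘ Fin.castSucc) :
          MvPolynomial (Fin 2) R →ₐ[R] MvPolynomial (Fin 2) R) = expand 2 := by
        apply MvPolynomial.algHom_ext
        intro i
        rw [aeval_X, expand_X]
        have h2 : ∀ i : Fin 2, i = 0 ∨ i = 1 := by decide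
        rcases h2 i with rfl | rfl <;> rfl
      rw [this]
    have hΦ2 : aeval ![X 0 ^ 2, X 1 ^ 2, z] (X 2 : MvPolynomial (Fin 3) R) = z := by
      rw [aeval_X]; rfl
    show aeval ![X 0 ^ 2, X 1 ^ 2, z] (ρ q0 + ρ (C τ' * q3) * X 2) = _
    rw [map_add, map_mul, hΦρ, hΦρ, hΦ2, hz']
    have E1 : expand 2 q1 = expand 2 (C τ' * q3) * expand 2 S' := by rw [← map_mul, ← e1]
    have E2 : expand 2 q2 = expand 2 (C τ' * q3) * expand 2 L' := by rw [← map_mul, ← e2]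
    have E3 : expand 2 q3 = expand 2 (C τ' * q3) * expand 2 (C τ) := by rw [← map_mul, ← e3]
    rw [E1, E2, E3]
    ring
  · -- range ⊆ kernel
    obtain ⟨P, rfl⟩ := hp
    show D (aeval ![X 0 ^ 2, X 1 ^ 2, z] P) = 0
    rw [CoordChange.deriv_aeval, Fin.sum_univ_three]
    have hw0 : D ((![X 0 ^ 2, X 1 ^ 2, z] : Fin 3 → MvPolynomial (Fin 2) R) 0) = 0 := by
      have := deriv_expand D (X 0)
      rwa [expand_X] at this
    have hw1 : D ((![X 0 ^ 2, X 1 ^ 2, z] : Fin 3 → MvPolynomial (Fin 2) R) 1) = 0 := by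
      have := deriv_expand D (X 1)
      rwa [expand_X] at this
    have hw2 : D ((![X 0 ^ 2, X 1 ^ 2, z] : Fin 3 → MvPolynomial (Fin 2) R) 2) = 0 := hDz
    rw [hw0, hw1, hw2, smul_zero, smul_zero, smul_zero, add_zero, add_zero]
  · have key := ker_eq_span (R := R) S' L' (C τ)
      (C (τ ^ 2) * X 0 * X 1 +
        (C (s4 ^ 2) * X 1 ^ 4 + C (s2 ^ 2) * X 1 ^ 2 + C (s0 ^ 2)) * X 0 +
        (C (l4 ^ 2) * X 0 ^ 4 + C (l2 ^ 2) * X 0 ^ 2 + C (l0 ^ 2)) * X 1) z hz'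
      (by
        rw [hz, hS', hL']
        simp only [map_mul, map_add, map_pow, expand_X, expand_C, add_pow_char, mul_pow]
        have : ∀ t u : MvPolynomial (Fin 2) R, t = u → t + u = 0 := by
          intro t u htu; rw [htu]; exact hadd u
        apply this
        ring)
      (by
        intro q hq
        calc q = q * (C τ * C τ') := by rw [hττ', mul_one]
          _ = (q * C τ) * C τ' := by ring
          _ = 0 := by rw [hq, zero_mul])
    rw [key]
    congr 2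
    simp only [ρ, map_add, map_mul, map_pow, rename_C, rename_X]
    have e0 : (Fin.castSucc (0 : Fin 2) : Fin 3) = 0 := rfl
    have e1 : (Fin.castSucc (1 : Fin 2) : Fin 3) = 1 := rfl
    rw [e0, e1]
    ring

end Groth.Agent.Helper6.KumKer
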