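import Mathlib

set_option autoImplicit false
universe u

namespace Groth.Agent.Helper6.KumNorm

open Polynomial

section Fact
variable {A : Type u} [CommRing A] [IsDomain A] [IsNoetherianRing A] (p : A) (hp0 : p ≠ 0)
  (hprime : (Ideal.span {p}).IsPrime)

include hprime in
theorem p_prime (hp0 : p ≠ 0) : Prime p := (Ideal.span_singleton_prime hp0).1 hprime

include hprime in
theorem unit_of_mul_eq_pow (hp0 : p ≠ 0) (u : A) (hu : ¬ p ∣ u) :
    ∀ (k : ℕ) (w : A), u * w = p ^ k → IsUnit u := by
  have hpp := p_prime p hprime hp0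
  intro k
  induction k with
  | zero =>
    intro w hw
    rw [pow_zero] at hw
    exact IsUnit.of_mul_eq_one w hw
  | succ k ih =>
    intro w hw
    have h1 : p ∣ u * w := ⟨p ^ k, by rw [hw, pow_succ, mul_comm]⟩
    rcases hpp.dvd_or_dvd h1 with h | h
    · exact absurd h hu
    · obtain ⟨w', rfl⟩ := h
      apply ih w'
      have : p * (u * w') = p * p ^ k := by
        rw [← pow_succ', ← hw]; ring
      exact mul_left_cancel₀ hp0 this

include hprime in
theorem factor (hp0 : p ≠ 0) (f : A) (hf : IsUnit (algebraMap A (Localization.Away p) f)) :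
    ∃ (a : ℕ) (u : Aˣ), f = p ^ a * (u : A) := by
  have hpp := p_prime p hprime hp0
  have hinj : Function.Injective (algebraMap A (Localization.Away p)) :=
    IsLocalization.injective (Localization.Away p)
      (powers_le_nonZeroDivisors_of_noZeroDivisors hp0)
  have hf0 : f ≠ 0 := by
    rintro rfl
    rw [map_zero] at hf
    haveI : Nontrivial (Localization.Away p) := hinj.nontrivial
    exact not_isUnit_zero hf
  obtain ⟨a, u, hu, hfu⟩ := WfDvdMonoid.max_power_factor hf0 hpp.irreducible
  have hpunit : IsUnit (algebraMap A (Localization.Away p) p) :=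
    IsLocalization.Away.algebraMap_isUnit p
  have huunit : IsUnit (algebraMap A (Localization.Away p) u) := by
    rw [hfu, map_mul] at hf
    exact isUnit_of_mul_isUnit_right hf
  obtain ⟨x, hx⟩ := huunit.exists_right_inv
  obtain ⟨k, w, hw⟩ := IsLocalization.Away.surj p x
  -- x * p^k = w
  have h1 : algebraMap A (Localization.Away p) (u * w) = algebraMap A (Localization.Away p) (p ^ k) := by
    rw [map_mul, ← hw, ← mul_assoc, hx, one_mul, map_pow]
  have h2 := hinj h1
  have huu := unit_of_mul_eq_pow p hprime hp0 u hu k w h2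
  exact ⟨a, huu.unit, hfu⟩

end Fact

section Main
variable {A : Type u} [CommRing A] [IsDomain A] (p : A) (m : ℕ) (f : A)

/-- the Kummer algebra -/
abbrev KK : Type u := AdjoinRoot (X ^ m - C (algebraMap A (Localization.Away p) f))

theorem root_pow : (AdjoinRoot.root (X ^ m - C (algebraMap A (Localization.Away p) f))) ^ m =
    algebraMap A (KK p m f) f := by
  have h := AdjoinRoot.mk_self (f := X ^ m - C (algebraMap A (Localization.Away p) f))
  rw [map_sub, map_pow, AdjoinRoot.mk_X, AdjoinRoot.mk_C, sub_eq_zero] at h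
  rw [h]
  rfl

theorem p_unit : IsUnit (algebraMap A (KK p m f) p) := by
  have h1 : IsUnit (algebraMap A (Localization.Away p) p) := IsLocalization.Away.algebraMap_isUnit p
  have h2 : algebraMap A (KK p m f) p =
      AdjoinRoot.of (X ^ m - C (algebraMap A (Localization.Away p) f))
        (algebraMap A (Localization.Away p) p) := rfl
  rw [h2]
  exact h1.map _

variable [IsDomain (KK p m f)]

theorem dvd_exp (hm : 0 < m) (a : ℕ) (u : Aˣ) (hfu : f = p ^ a * (u : A))
    (hsp : (Ideal.span {algebraMap A (integralClosure A (KK p m f)) p}).IsPrime) : m ∣ a := by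
  set B := integralClosure A (KK p m f) with hB
  by_contra hnd
  have hr : 0 < a % m := Nat.pos_of_ne_zero (fun h => hnd (Nat.dvd_of_mod_eq_zero h))
  have hrm : a % m < m := Nat.mod_lt a hm
  obtain ⟨pinv, hpinv⟩ := (p_unit p m f).exists_right_inv
  set y := AdjoinRoot.root (X ^ m - C (algebraMap A (Localization.Away p) f)) with hy
  set pK := algebraMap A (KK p m f) p with hpK
  -- z = y / p^q
  have hz : (y * pinv ^ (a / m)) ^ m = algebraMap A (KK p m f) (p ^ (a % m) * (u : A)) := by
    have hf' : algebraMap A (KK p m f) f = pK ^ a * algebraMap A (KK p m f) (u : A) :=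
      (congrArg (algebraMap A (KK p m f)) hfu).trans (by rw [map_mul, map_pow])
    rw [mul_pow, root_pow, hf', map_mul, map_pow, ← hpK, ← pow_mul]
    have h1 : pK ^ a = pK ^ (a % m) * pK ^ (m * (a / m)) := by
      rw [← pow_add, Nat.mod_add_div]
    have h2 : pK ^ (m * (a / m)) * pinv ^ (a / m * m) = 1 := by
      rw [mul_comm m, ← mul_pow, hpinv, one_pow]
    calc pK ^ a * algebraMap A (KK p m f) (u : A) * pinv ^ (a / m * m)
        = pK ^ (a % m) * algebraMap A (KK p m f) (u : A) * (pK ^ (m * (a / m)) * pinv ^ (a / m * m)) := by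
          rw [h1]; ring
      _ = _ := by rw [h2, mul_one]
  have hzint : IsIntegral A (y * pinv ^ (a / m)) := by
    refine ⟨X ^ m - C (p ^ (a % m) * (u : A)), monic_X_pow_sub_C _ hm.ne', ?_⟩
    rw [eval₂_sub, eval₂_pow, eval₂_X, eval₂_C, hz, sub_self]
  let zB : B := ⟨y * pinv ^ (a / m), hzint⟩
  have hzB : zB ^ m = algebraMap A B p ^ (a % m) * algebraMap A B (u : A) := by
    apply Subtype.ext
    change (y * pinv ^ (a / m)) ^ m = _
    rw [hz, map_mul, map_pow]
    rfl
  have hmem : zB ^ m ∈ Ideal.span {algebraMap A B p} := by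
    rw [hzB]
    obtain ⟨r', hr'⟩ := Nat.exists_eq_succ_of_ne_zero hr.ne'
    rw [hr', pow_succ', mul_assoc]
    exact Ideal.mul_mem_right _ _ (Ideal.subset_span rfl)
  have hzmem : zB ∈ Ideal.span {algebraMap A B p} := hsp.mem_of_pow_mem m hmem
  obtain ⟨w, hw⟩ := Ideal.mem_span_singleton'.1 hzmem
  -- w * pB = zB
  have hpB0 : algebraMap A B p ≠ 0 := by
    intro h0
    have h1 : ((algebraMap A B p : B) : KK p m f) = 0 := by rw [h0]; rfl
    have h2 : ((algebraMap A B p : B) : KK p m f) = pK := rfl
    rw [h2] at h1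
    exact (p_unit p m f).ne_zero h1
  have h3 : algebraMap A B p ^ (a % m) * (algebraMap A B p ^ (m - a % m) * w ^ m) =
      algebraMap A B p ^ (a % m) * algebraMap A B (u : A) := by
    rw [← hzB, ← hw, ← mul_assoc, ← pow_add, Nat.add_sub_cancel' hrm.le, mul_pow, mul_comm]
  have h4 := mul_left_cancel₀ (pow_ne_zero _ hpB0) h3
  have huB : IsUnit (algebraMap A B (u : A)) := u.isUnit.map _
  rw [← h4] at huB
  have h5 : IsUnit (algebraMap A B p ^ (m - a % m)) := isUnit_of_mul_isUnit_left huB
  have h6 : IsUnit (algebraMap A B p) := (isUnit_pow_iff (Nat.sub_pos_of_lt hrm).ne').1 h5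
  exact hsp.ne_top (Ideal.span_singleton_eq_top.2 h6)

end Main

end Groth.Agent.Helper6.KumNorm
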