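import Mathlib
import Groth.Prelude.Def_Koszul
import Groth.Agent.Helper6.TenCxBdd

/-!
# Tensor product with a mapping cone, and `K(f) ⊗ K(g) ≅ K(f ++ g)`
-/

set_option autoImplicit false
set_option linter.style.haveILetI false
set_option linter.unusedSectionVars false

universe u
open CategoryTheory CategoryTheory.Limits MonoidalCategory
open CochainComplex HomComplex

namespace Groth.Agent.Helper6.KzTen

open Groth.Agent.Helper6.TenCx

variable {R : Type u} [CommRing R]

lemma ι_d' (X₁ X₂ : DRing.Cx R) (p p' q q' n n' : ℤ) (h : p + q = n) (hn : n + 1 = n')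
    (hp : p + 1 = p') (hq : q + 1 = q') :
    ι X₁ X₂ p q n h ≫ (X₁ ⊗ X₂).d n n' =
      (X₁.d p p' ▷ X₂.X q) ≫ ι X₁ X₂ p' q n' (by omega) +
      p.negOnePow • ((X₁.X p ◁ X₂.d q q') ≫ ι X₁ X₂ p q' n' (by omega)) := by
  subst hp hq
  exact ι_d X₁ X₂ p q n n' h hn

lemma neg_whiskerRight' {M N : ModuleCat.{u} R} (f : M ⟶ N) (Z : ModuleCat.{u} R) :
    (-f) ▷ Z = -(f ▷ Z) :=
  (tensorRight Z).map_neg

section cone

variable {K L : DRing.Cx R} (φ : K ⟶ L) (Y : DRing.Cx R)

/-- the component of the comparison map on a summand -/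
noncomputable def fwdComp (p p' q n n' : ℤ) (hp : p + 1 = p') (h : p + q = n) (hn : n + 1 = n') :
    (mappingCone φ).X p ⊗ Y.X q ⟶ (mappingCone (φ ▷ Y)).X n :=
  ((mappingCone.fst φ).1.v p p' hp ▷ Y.X q) ≫ ι K Y p' q n' (by omega) ≫
      (mappingCone.inl (φ ▷ Y)).v n' n (by omega) +
    ((mappingCone.snd φ).v p p (add_zero p) ▷ Y.X q) ≫ ι L Y p q n h ≫
      (mappingCone.inr (φ ▷ Y)).f n

/-- the comparison map in degree `n` -/
noncomputable def fwdF (n : ℤ) : (mappingCone φ ⊗ Y).X n ⟶ (mappingCone (φ ▷ Y)).X n :=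
  HomologicalComplex.mapBifunctorDesc (K₁ := mappingCone φ) (K₂ := Y)
    (F := curriedTensor (ModuleCat.{u} R)) (c := ComplexShape.up ℤ)
    (fun p q h => fwdComp φ Y p (p + 1) q n (n + 1) rfl h rfl)

@[reassoc]
lemma ι_fwdF (p p' q n n' : ℤ) (hp : p + 1 = p') (h : p + q = n) (hn : n + 1 = n') :
    ι (mappingCone φ) Y p q n h ≫ fwdF φ Y n = fwdComp φ Y p p' q n n' hp h hn := by
  subst hp hn
  exact HomologicalComplex.ι_mapBifunctorDesc _ p q h

lemma fwd_comm (n : ℤ) :
    fwdF φ Y n ≫ (mappingCone (φ ▷ Y)).d n (n + 1) =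
      (mappingCone φ ⊗ Y).d n (n + 1) ≫ fwdF φ Y (n + 1) := by
  apply TenCx.hom_ext
  intro p q h
  have e1 := ι_fwdF φ Y p (p + 1) q n (n + 1) rfl h rfl
  have e2 := ι_fwdF φ Y (p + 1) (p + 1 + 1) q (n + 1) (n + 1 + 1) rfl (by omega) rfl
  have e3 := ι_fwdF φ Y p (p + 1) (q + 1) (n + 1) (n + 1 + 1) rfl (by omega) rfl
  have e4 := ι_d' (mappingCone φ) Y p (p + 1) q (q + 1) n (n + 1) h rfl rfl rfl
  have e5 := ι_d' K Y (p + 1) (p + 1 + 1) q (q + 1) (n + 1) (n + 1 + 1) (by omega) rfl rfl rfl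
  have e6 := ι_d' L Y p (p + 1) q (q + 1) n (n + 1) h rfl rfl rfl
  have e7 := ι_whiskerRight φ Y (p + 1) q (n + 1) (by omega)
  have e8 := mappingCone.inl_v_d (φ ▷ Y) (n + 1) n (n + 1 + 1) (by omega) (by omega)
  have e9 := mappingCone.inr_f_d (φ ▷ Y) n (n + 1)
  have e10 := mappingCone.d_fst_v φ p (p + 1) (p + 1 + 1) rfl rfl
  have e11 := mappingCone.d_snd_v φ p (p + 1) rfl
  rw [reassoc_of% e1, reassoc_of% e4, Preadditive.add_comp, Category.assoc, e2,
    Units.smul_def, Preadditive.zsmul_comp, Category.assoc, e3]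
  unfold fwdComp
  simp only [Preadditive.add_comp, Preadditive.comp_add, Category.assoc]
  rw [e8, e9]
  simp only [Preadditive.comp_sub, reassoc_of% e7, reassoc_of% e5, reassoc_of% e6]
  rw [← comp_whiskerRight_assoc ((mappingCone φ).d p (p + 1))
      ((mappingCone.fst φ).1.v (p + 1) (p + 1 + 1) rfl) (Y.X q), e10,
    ← comp_whiskerRight_assoc ((mappingCone φ).d p (p + 1))
      ((mappingCone.snd φ).v (p + 1) (p + 1) (add_zero _)) (Y.X q), e11]
  simp only [whisker_exchange_assoc]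
  simp only [comp_whiskerRight, MonoidalPreadditive.add_whiskerRight, neg_whiskerRight',
    Preadditive.add_comp, Preadditive.comp_add, Preadditive.neg_comp, Preadditive.comp_neg,
    Preadditive.zsmul_comp, Preadditive.comp_zsmul,
    Category.assoc, Int.negOnePow_succ, Units.smul_def, Units.val_neg, neg_smul, smul_add]
  abel

/-- auxiliary map for the inverse -/
noncomputable def invA (n n' : ℤ) (hn : n + 1 = n') :
    (K ⊗ Y).X n' ⟶ (mappingCone φ ⊗ Y).X n :=
  HomologicalComplex.mapBifunctorDesc (K₁ := K) (K₂ := Y)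
    (F := curriedTensor (ModuleCat.{u} R)) (c := ComplexShape.up ℤ)
    (fun p' q h => ((mappingCone.inl φ).v p' (p' - 1) (by omega) ▷ Y.X q) ≫
      ι (mappingCone φ) Y (p' - 1) q n (by have : p' + q = n' := h; omega))

@[reassoc]
lemma ι_invA (p p' q n n' : ℤ) (hp : p + 1 = p') (h : p + q = n) (hn : n + 1 = n') :
    ι K Y p' q n' (by omega) ≫ invA φ Y n n' hn =
      ((mappingCone.inl φ).v p' p (by omega) ▷ Y.X q) ≫ ι (mappingCone φ) Y p q n h := by
  obtain rfl : p = p' - 1 := by omega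
  exact HomologicalComplex.ι_mapBifunctorDesc _ p' q _

/-- the inverse of the comparison map in degree `n` -/
noncomputable def invF (n : ℤ) : (mappingCone (φ ▷ Y)).X n ⟶ (mappingCone φ ⊗ Y).X n :=
  (mappingCone.fst (φ ▷ Y)).1.v n (n + 1) rfl ≫ invA φ Y n (n + 1) rfl +
    (mappingCone.snd (φ ▷ Y)).v n n (add_zero n) ≫ (mappingCone.inr φ ▷ Y).f n

lemma fwd_inv (n : ℤ) : fwdF φ Y n ≫ invF φ Y n = 𝟙 _ := by
  apply TenCx.hom_ext
  intro p q h
  rw [ι_fwdF_assoc φ Y p (p + 1) q n (n + 1) rfl h rfl, Category.comp_id]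
  unfold fwdComp invF
  simp only [Preadditive.add_comp, Preadditive.comp_add, Category.assoc,
    mappingCone.inl_v_fst_v_assoc, mappingCone.inl_v_snd_v_assoc,
    mappingCone.inr_f_fst_v_assoc, mappingCone.inr_f_snd_v_assoc, zero_comp, comp_zero,
    add_zero, zero_add]
  rw [ι_invA φ Y p (p + 1) q n (n + 1) rfl h rfl, ι_whiskerRight (mappingCone.inr φ) Y p q n h]
  rw [← comp_whiskerRight_assoc, ← comp_whiskerRight_assoc, ← Preadditive.add_comp,
    ← MonoidalPreadditive.add_whiskerRight, mappingCone.id_X φ p (p + 1) rfl, id_whiskerRight,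
    Category.id_comp]

lemma inv_fwd (n : ℤ) : invF φ Y n ≫ fwdF φ Y n = 𝟙 _ := by
  apply mappingCone.ext_from (φ ▷ Y) (n + 1) n rfl
  · unfold invF
    simp only [Preadditive.add_comp, Preadditive.comp_add, Category.assoc,
      mappingCone.inl_v_fst_v_assoc, mappingCone.inl_v_snd_v_assoc, zero_comp, add_zero,
      Category.comp_id]
    apply TenCx.hom_ext
    intro p' q h
    obtain ⟨p, rfl⟩ : ∃ p, p + 1 = p' := ⟨p' - 1, by omega⟩
    rw [ι_invA_assoc φ Y p (p + 1) q n (n + 1) rfl (by omega) rfl,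
      ι_fwdF φ Y p (p + 1) q n (n + 1) rfl (by omega) rfl]
    unfold fwdComp
    rw [Preadditive.comp_add, ← comp_whiskerRight_assoc, ← comp_whiskerRight_assoc,
      mappingCone.inl_v_fst_v, mappingCone.inl_v_snd_v, id_whiskerRight, Category.id_comp,
      MonoidalPreadditive.zero_whiskerRight, zero_comp, add_zero]
  · unfold invF
    simp only [Preadditive.add_comp, Preadditive.comp_add, Category.assoc,
      mappingCone.inr_f_fst_v_assoc, mappingCone.inr_f_snd_v_assoc, zero_comp, zero_add,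
      Category.comp_id]
    apply TenCx.hom_ext
    intro p q h
    rw [ι_whiskerRight_assoc (mappingCone.inr φ) Y p q n h,
      ι_fwdF φ Y p (p + 1) q n (n + 1) rfl h rfl]
    unfold fwdComp
    rw [Preadditive.comp_add, ← comp_whiskerRight_assoc, ← comp_whiskerRight_assoc,
      mappingCone.inr_f_fst_v, mappingCone.inr_f_snd_v, id_whiskerRight, Category.id_comp,
      MonoidalPreadditive.zero_whiskerRight, zero_comp, zero_add]

/-- tensoring (on the right) commutes with mapping cones -/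
noncomputable def coneTensorIso : mappingCone φ ⊗ Y ≅ mappingCone (φ ▷ Y) :=
  HomologicalComplex.Hom.isoOfComponents
    (fun n => ⟨fwdF φ Y n, invF φ Y n, fwd_inv φ Y n, inv_fwd φ Y n⟩)
    (by rintro n _ rfl; exact fwd_comm φ Y n)

end cone

lemma smul_id_whiskerRight (a : R) (X Y : DRing.Cx R) : (a • 𝟙 X) ▷ Y = a • 𝟙 (X ⊗ Y) := by
  apply HomologicalComplex.hom_ext
  intro n
  apply TenCx.hom_ext
  intro p q h
  rw [ι_whiskerRight]
  simp

/-- mapping cones of isomorphic morphisms are isomorphic -/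
noncomputable def coneMapIso {K₁ L₁ K₂ L₂ : DRing.Cx R} (φ₁ : K₁ ⟶ L₁) (φ₂ : K₂ ⟶ L₂)
    (eK : K₁ ≅ K₂) (eL : L₁ ≅ L₂) (comm : φ₁ ≫ eL.hom = eK.hom ≫ φ₂) :
    mappingCone φ₁ ≅ mappingCone φ₂ where
  hom := mappingCone.map φ₁ φ₂ eK.hom eL.hom comm
  inv := mappingCone.map φ₂ φ₁ eK.inv eL.inv
    (by rw [Iso.comp_inv_eq, Category.assoc, comm, Iso.inv_hom_id_assoc])
  hom_inv_id := by
    rw [← mappingCone.map_comp]
    simp only [Iso.hom_inv_id]
    exact mappingCone.map_id _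
  inv_hom_id := by
    rw [← mappingCone.map_comp]
    simp only [Iso.inv_hom_id]
    exact mappingCone.map_id _

theorem koszul_tensor (f g : List R) :
    Nonempty (Koszul.koszul R f ⊗ Koszul.koszul R g ≅ Koszul.koszul R (f ++ g)) := by
  induction f with
  | nil =>
    show Nonempty (𝟙_ (DRing.Cx R) ⊗ Koszul.koszul R g ≅ Koszul.koszul R g)
    exact ⟨λ_ _⟩
  | cons a f ih =>
    obtain ⟨e⟩ := ih
    show Nonempty (mappingCone (a • 𝟙 (Koszul.koszul R f)) ⊗ Koszul.koszul R g ≅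
      mappingCone (a • 𝟙 (Koszul.koszul R (f ++ g))))
    exact ⟨coneTensorIso (a • 𝟙 (Koszul.koszul R f)) (Koszul.koszul R g) ≪≫
      coneMapIso _ (a • 𝟙 (Koszul.koszul R (f ++ g))) e e (by
        rw [smul_id_whiskerRight, Linear.smul_comp, Linear.comp_smul, Category.id_comp,
          Category.comp_id])⟩

end Groth.Agent.Helper6.KzTen
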