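import Mathlib
import Groth.Agent.Helper1.GorTopF
import Groth.Agent.Helper1.LocCohExt
import Groth.Agent.Helper1.LocCohArtinian
import Groth.Agent.Helper1.LocCohTors
import Groth.Agent.Helper1.ExtBridgeLin
import Groth.Agent.Helper6.TorsBaer

set_option autoImplicit false

/-!
# `Ext^n(F, G) ≅ Hom(F, H^n_J(G))` when `Ext^{n-1}(F', G) = 0` for all finite `F'` supported in `V(J)`
-/

namespace Groth.Agent.Helper6.LCExtHom
open CategoryTheory Limits Opposite Abelian
open Groth.Agent.Helper1.LocCohDelta Groth.Agent.Helper1.GorTop Groth.Agent.Helper1.LocCohExt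

universe u

variable {R : Type u} [CommRing R] [IsNoetherianRing R] (J : Ideal R)

section baer

variable {E : Type u} [AddCommGroup E] [Module R E]

/-- `g` vanishes on `I ⊓ J^N` for large `N`. -/
theorem exists_vanishing (htors : ∀ x : E, ∃ n : ℕ, ∀ r ∈ J ^ n, r • x = 0)
    {I : Ideal R} (g : I →ₗ[R] E) :
    ∃ N : ℕ, ∀ (x : R) (hx : x ∈ I), x ∈ J ^ N → g ⟨x, hx⟩ = 0 := by
  obtain ⟨n, hn⟩ := Groth.Agent.Helper6.TorsBaer.exists_pow_smul_eq_zero J htors g
  obtain ⟨k, hk⟩ := Ideal.exists_pow_inf_eq_pow_smul J (I : Submodule R R)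
  refine ⟨n + k, fun x hx hxN => ?_⟩
  have h1 : x ∈ J ^ (n + k) • (⊤ : Submodule R R) ⊓ I := by
    refine Submodule.mem_inf.mpr ⟨?_, hx⟩
    rw [Ideal.smul_top_eq_map]
    simpa using hxN
  rw [hk (n + k) (Nat.le_add_left k n), Nat.add_sub_cancel] at h1
  have h2 : ∀ z ∈ J ^ n • (J ^ k • (⊤ : Submodule R R) ⊓ I), ∃ hz : z ∈ I, g ⟨z, hz⟩ = 0 := by
    intro z hz
    refine Submodule.smul_induction_on hz ?_ ?_
    · intro r hr a ha
      have haI : a ∈ I := (Submodule.mem_inf.mp ha).2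
      refine ⟨I.mul_mem_left r haI, ?_⟩
      have : (⟨r • a, I.mul_mem_left r haI⟩ : I) = r • ⟨a, haI⟩ := rfl
      rw [this, map_smul]
      exact hn r hr _
    · intro a b ha hb
      obtain ⟨ha1, ha2⟩ := ha
      obtain ⟨hb1, hb2⟩ := hb
      refine ⟨I.add_mem ha1 hb1, ?_⟩
      have : (⟨a + b, I.add_mem ha1 hb1⟩ : I) = ⟨a, ha1⟩ + ⟨b, hb1⟩ := rfl
      rw [this, map_add, ha2, hb2, add_zero]
  obtain ⟨_, hz⟩ := h2 x h1
  exact hz

/-- Baer's criterion for a `J`-power torsion module: it suffices to extend maps from ideals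
containing a power of `J`. -/
theorem baer (htors : ∀ x : E, ∃ n : ℕ, ∀ r ∈ J ^ n, r • x = 0)
    (hA : ∀ (N : ℕ) (𝔟 : Ideal R), J ^ N ≤ 𝔟 → ∀ h : 𝔟 →ₗ[R] E,
      ∃ g' : R →ₗ[R] E, ∀ (x : R) (hx : x ∈ 𝔟), g' x = h ⟨x, hx⟩) :
    Module.Baer R E := by
  intro I g
  obtain ⟨N, hN⟩ := exists_vanishing J htors g
  let f₁ : R →ₗ.[R] E := ⟨I, g⟩
  let f₂ : R →ₗ.[R] E := ⟨J ^ N, 0⟩
  have hcompat : ∀ (x : f₁.domain) (z : f₂.domain), (x : R) = z → f₁ x = f₂ z := by
    intro x z hxz
    change g x = 0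
    have : x = ⟨x.1, x.2⟩ := rfl
    rw [this]
    apply hN
    rw [hxz]
    exact z.2
  let f := f₁.sup f₂ hcompat
  have hle : f₁ ≤ f := LinearPMap.left_le_sup f₁ f₂ hcompat
  have hdom : J ^ N ≤ f.domain := by
    change J ^ N ≤ f₁.domain ⊔ f₂.domain
    exact le_sup_right
  obtain ⟨g', hg'⟩ := hA N f.domain hdom f.toFun
  refine ⟨g', fun x hx => ?_⟩
  rw [hg' x (hle.1 hx)]
  exact (hle.2 (x := ⟨x, hx⟩) (y := ⟨x, hle.1 hx⟩) rfl).symm

end baer

section ext

/-- the short exact sequence `0 → 𝔟 → R → R/𝔟 → 0` -/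
noncomputable def idealSC (𝔟 : Ideal R) : ShortComplex (ModuleCat.{u} R) :=
  ModuleCat.shortComplexOfCompEqZero (Submodule.subtype 𝔟) (Submodule.mkQ 𝔟) (by
    ext x
    exact (Submodule.Quotient.mk_eq_zero _).2 x.2)

omit [IsNoetherianRing R] in
lemma idealSC_shortExact (𝔟 : Ideal R) : (idealSC 𝔟).ShortExact where
  exact := ModuleCat.shortComplex_exact _ (LinearMap.exact_subtype_mkQ 𝔟)
  mono_f := (ModuleCat.mono_iff_injective _).2 (Submodule.injective_subtype _)
  epi_g := (ModuleCat.epi_iff_surjective _).2 (Submodule.mkQ_surjective _)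

omit [IsNoetherianRing R] in
lemma exists_extension_of_ext (𝔟 : Ideal R) (E : Type u) [AddCommGroup E] [Module R E]
    (h1 : Subsingleton (Ext (ModuleCat.of R (R ⧸ 𝔟)) (ModuleCat.of R E) 1)) (h : 𝔟 →ₗ[R] E) :
    ∃ g' : R →ₗ[R] E, ∀ (x : R) (hx : x ∈ 𝔟), g' x = h ⟨x, hx⟩ := by
  have hS := idealSC_shortExact 𝔟
  have hz : hS.extClass.comp (Ext.mk₀ (show (idealSC 𝔟).X₁ ⟶ ModuleCat.of R E from
      ModuleCat.ofHom h)) (show 1 + 0 = 1 by omega) = 0 :=
    @Subsingleton.elim _ h1 _ _
  obtain ⟨x₂, hx₂⟩ := Ext.contravariant_sequence_exact₁ hS (ModuleCat.of R E) _ _ hz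
  obtain ⟨φ, rfl⟩ := (Ext.mk₀_bijective _ _).2 x₂
  rw [Ext.mk₀_comp_mk₀] at hx₂
  have h2 := (Ext.mk₀_bijective _ _).1 hx₂
  refine ⟨φ.hom, fun x hx => ?_⟩
  exact congrArg (fun t => t.hom ⟨x, hx⟩) h2

end ext


section main

/-- vanishing of `Ext^m(F', G)` for all finite `F'` supported in `V(J)` -/
def P (G : ModuleCat.{u} R) (m : ℕ) : Prop :=
  ∀ (F : Type u) [AddCommGroup F] [Module R F], Module.Finite R F →
    Module.support R F ⊆ PrimeSpectrum.zeroLocus (J : Set R) →
    Subsingleton (Abelian.Ext (ModuleCat.of R F) G m)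

lemma isTors_of_support (F : Type u) [AddCommGroup F] [Module R F] [Module.Finite R F]
    (hF : Module.support R F ⊆ PrimeSpectrum.zeroLocus (J : Set R)) :
    IsTors J (ModuleCat.of R F) := fun x => isPowerTorsion_of_support' J F hF x

omit [IsNoetherianRing R] in
lemma support_quot_subset (N : ℕ) (𝔟 : Ideal R) (h : J ^ N ≤ 𝔟) :
    Module.support R (R ⧸ 𝔟) ⊆ PrimeSpectrum.zeroLocus (J : Set R) := by
  rw [support_quotient]
  intro p hp
  rw [PrimeSpectrum.mem_zeroLocus] at hp ⊢
  exact Ideal.IsPrime.le_of_pow_le (h.trans hp)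

lemma isZero_lc_of_P (G : ModuleCat.{u} R) (i : ℕ) (h : P J G i) :
    IsZero ((localCohomology J i).obj G) := by
  rw [ModuleCat.isZero_iff_subsingleton]
  refine ⟨fun x y => ?_⟩
  suffices hz : ∀ z : (localCohomology J i).obj G, z = 0 by rw [hz x, hz y]
  intro z
  obtain ⟨k, y, rfl⟩ := Groth.Agent.Helper1.LocCohTors.exists_rep J i G z
  obtain ⟨e⟩ := Groth.Agent.Helper1.ExtBridgeLin.nonempty_linearEquiv
    (ModuleCat.of R (R ⧸ J ^ k)) G i
  have hs : Subsingleton (Abelian.Ext (ModuleCat.of R (R ⧸ J ^ k)) G i) :=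
    h (R ⧸ J ^ k) inferInstance (support_quot_subset J k (J ^ k) le_rfl)
  have hy : y = 0 := e.injective (@Subsingleton.elim _ hs _ _)
  rw [hy, map_zero]

/-- the short exact sequence `0 → Γ_J(G) → G → G/Γ_J(G) → 0` -/
noncomputable def torsSC' (G : Type u) [AddCommGroup G] [Module R G] :
    ShortComplex (ModuleCat.{u} R) :=
  ModuleCat.shortComplexOfCompEqZero (DRing.torsionSub J G).subtype (DRing.torsionSub J G).mkQ (by
    ext x
    exact (Submodule.Quotient.mk_eq_zero _).2 x.2)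

omit [IsNoetherianRing R] in
lemma torsSC'_shortExact (G : Type u) [AddCommGroup G] [Module R G] :
    (torsSC' J G).ShortExact where
  exact := ModuleCat.shortComplex_exact _ (LinearMap.exact_subtype_mkQ (DRing.torsionSub J G))
  mono_f := (ModuleCat.mono_iff_injective _).2 (Submodule.injective_subtype _)
  epi_g := (ModuleCat.epi_iff_surjective _).2 (Submodule.mkQ_surjective _)

lemma P_torsion_one (G : Type u) [AddCommGroup G] [Module R G] (h : P J (ModuleCat.of R G) 1) :
    P J (ModuleCat.of R (DRing.torsionSub J G)) 1 := by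
  intro F _ _ hfin hsupp
  have hS := torsSC'_shortExact J G
  have h0 : Subsingleton (Abelian.Ext (ModuleCat.of R F)
      (ModuleCat.of R (G ⧸ DRing.torsionSub J G)) 0) :=
    ext_zero_subsingleton J (isPowerTorsion_of_support' J F hsupp)
      (Groth.Agent.Helper1.LocCohArtinian.torsionSub_quotient_eq_bot J G)
  have h1 := h F hfin hsupp
  refine ⟨fun x y => ?_⟩
  suffices hz : ∀ z : Abelian.Ext (ModuleCat.of R F) (ModuleCat.of R (DRing.torsionSub J G)) 1,
      z = 0 by rw [hz x, hz y]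
  intro z
  obtain ⟨x₃, hx₃⟩ := Ext.covariant_sequence_exact₁ (ModuleCat.of R F) hS z
    (@Subsingleton.elim _ h1 _ _) (zero_add 1)
  have hx0 : x₃ = 0 := @Subsingleton.elim _ h0 _ _
  rw [← hx₃, hx0, Ext.zero_comp]
  rfl

lemma injective_torsion (G : Type u) [AddCommGroup G] [Module R G]
    (h : P J (ModuleCat.of R G) 1) : Module.Injective R (DRing.torsionSub J G) := by
  have hP := P_torsion_one J G h
  apply Module.Baer.injective
  apply baer J
  · intro x
    obtain ⟨n, hn⟩ := x.2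
    exact ⟨n, fun r hr => Subtype.ext (hn r hr)⟩
  · intro N 𝔟 hN hmap
    exact exists_extension_of_ext 𝔟 _
      (hP (R ⧸ 𝔟) inferInstance (support_quot_subset J N 𝔟 hN)) hmap

lemma injective_lc_zero_of_P (G : ModuleCat.{u} R) (h : P J G 1) :
    Injective ((localCohomology J 0).obj G) := by
  have h1 : Module.Injective R (DRing.torsionSub J G) := injective_torsion J G h
  have h2 : Injective (ModuleCat.of R (DRing.torsionSub J G)) :=
    Module.injective_object_of_injective_module R _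
  exact Injective.of_iso ((lcZeroIso J).app G).symm h2

theorem main_new (n : ℕ) : ∀ (G : ModuleCat.{u} R), (∀ i, i + 1 = n → P J G i) →
    ∀ (F : Type u) [AddCommGroup F] [Module R F] [Module.Finite R F],
      Module.support R F ⊆ PrimeSpectrum.zeroLocus (J : Set R) →
      Nonempty (Abelian.Ext (ModuleCat.of R F) G n ≃ₗ[R]
        (F →ₗ[R] (localCohomology J n).obj G)) := by
  induction n with
  | zero =>
    intro G _ F _ _ _ hF
    exact nonempty_ext_equiv_hom J 0 G (fun j hj => absurd hj (Nat.not_lt_zero j)) _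
      (isTors_of_support J F hF)
  | succ n ih =>
    intro G hP F _ _ _ hF
    have hN := isTors_of_support J F hF
    rcases n with _ | _ | m
    · have h0 := hP 0 rfl
      refine nonempty_ext_equiv_hom J 1 G (fun j hj => ?_) _ hN
      obtain rfl : j = 0 := by omega
      exact (isZero_lc_of_P J G 0 h0).injective
    · have h1 := hP 1 rfl
      refine nonempty_ext_equiv_hom J 2 G (fun j hj => ?_) _ hN
      rcases j with _ | _ | j
      · exact injective_lc_zero_of_P J G h1
      · exact (isZero_lc_of_P J G 1 h1).injective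
      · omega
    · let S : ShortComplex (ModuleCat.{u} R) :=
        ShortComplex.mk (Injective.ι G) (cokernel.π (Injective.ι G)) (cokernel.condition _)
      have hS : S.ShortExact :=
        { exact := ShortComplex.exact_cokernel _
          mono_f := inferInstanceAs (Mono (Injective.ι G))
          epi_g := inferInstanceAs (Epi (cokernel.π (Injective.ι G))) }
      have hI : Injective S.X₂ := inferInstanceAs (Injective (Injective.under G))
      have hPC : ∀ i, i + 1 = m + 1 + 1 → P J S.X₃ i := by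
        intro i hi
        obtain rfl : i = m + 1 := by omega
        intro F' _ _ hfin' hsupp'
        obtain ⟨e⟩ := nonempty_ext_shift_cov S hS (ModuleCat.of R F') m
        have := hP (m + 2) rfl F' hfin' hsupp'
        exact e.toEquiv.subsingleton
      obtain ⟨e1⟩ := ih S.X₃ hPC F hF
      obtain ⟨e2⟩ := nonempty_ext_shift_cov S hS (ModuleCat.of R F) (m + 1)
      have := isIso_lcδ_succ J S hS (m + 1)
      let e3 : (localCohomology J (m + 1 + 1)).obj S.X₃ ≃ₗ[R]
          (localCohomology J (m + 1 + 1 + 1)).obj S.X₁ :=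
        (asIso (lcδ J S hS (m + 1 + 1))).toLinearEquiv
      exact ⟨e2.symm.trans (e1.trans (LinearEquiv.congrRight e3))⟩

theorem main (G : Type u) [AddCommGroup G] [Module R G] (n : ℕ)
    (hvan : ∀ (F' : Type u) [AddCommGroup F'] [Module R F'], Module.Finite R F' →
      Module.support R F' ⊆ PrimeSpectrum.zeroLocus (J : Set R) → ∀ i : ℕ, i + 1 = n →
      Subsingleton (((_root_.Ext R (ModuleCat.{u} R) i).obj
        (op (ModuleCat.of R F'))).obj (ModuleCat.of R G)))
    (F : Type u) [AddCommGroup F] [Module R F] [Module.Finite R F]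
    (hF : Module.support R F ⊆ PrimeSpectrum.zeroLocus (J : Set R)) :
    Nonempty ((((_root_.Ext R (ModuleCat.{u} R) n).obj (op (ModuleCat.of R F))).obj
      (ModuleCat.of R G)) ≃ₗ[R] (F →ₗ[R] LocCoh.H J n G)) := by
  obtain ⟨b⟩ := Groth.Agent.Helper1.ExtBridgeLin.nonempty_linearEquiv
    (ModuleCat.of R F) (ModuleCat.of R G) n
  obtain ⟨e⟩ := main_new J n (ModuleCat.of R G) (fun i hi F' _ _ hfin hsupp => by
    obtain ⟨b'⟩ := Groth.Agent.Helper1.ExtBridgeLin.nonempty_linearEquiv
      (ModuleCat.of R F') (ModuleCat.of R G) i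
    have hsub := hvan F' hfin hsupp i hi
    exact @Equiv.subsingleton _ _ b'.symm.toEquiv hsub) F hF
  exact ⟨b.trans e⟩

end main

end Groth.Agent.Helper6.LCExtHom
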