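import Mathlib
import Groth.Prelude.Def_DRing3
import Groth.Prelude.Def_DualLC
import Groth.Agent.Helper6.LcD7

/-!
# Triangle lemmas and functoriality of `Dual2.HDI`
-/

set_option autoImplicit false
set_option linter.style.haveILetI false
set_option linter.unusedSectionVars false

universe u
open CategoryTheory CategoryTheory.Limits Opposite DerivedCategory Pretriangulated
attribute [local instance] HasDerivedCategory.standard

namespace Groth.Agent.Helper6.LDU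

section Tri

variable {C : Type*} [Category C] [HasZeroObject C] [HasShift C ℤ] [Preadditive C]
  [∀ n : ℤ, (shiftFunctor C n).Additive] [Pretriangulated C]

/-- `Hom(S, T₁) → Hom(S, T₂)` is bijective if `Hom(S, T₃) = 0 = Hom(S[1], T₃)` -/
lemma bij_mor₁ (T : Triangle C) (hT : T ∈ distTriang C) (S : C)
    (h3 : ∀ g : S ⟶ T.obj₃, g = 0) (h3' : ∀ g : S⟦(1 : ℤ)⟧ ⟶ T.obj₃, g = 0) :
    Function.Bijective (fun g : S ⟶ T.obj₁ => g ≫ T.mor₁) := by
  constructor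
  · intro x x' hxx
    have h0 : (x - x') ≫ T.mor₁ = 0 := by
      rw [Preadditive.sub_comp]
      exact sub_eq_zero.mpr hxx
    obtain ⟨g, hg⟩ := Triangle.coyoneda_exact₁ T hT ((x - x')⟦(1 : ℤ)⟧') (by
      rw [← Functor.map_comp, h0, Functor.map_zero])
    rw [h3' g, zero_comp] at hg
    have h1 : x - x' = 0 := (shiftFunctor C (1 : ℤ)).map_injective (by
      rw [hg, Functor.map_zero])
    exact sub_eq_zero.mp h1
  · intro y
    obtain ⟨x, hx⟩ := Triangle.coyoneda_exact₂ T hT y (h3 _)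
    exact ⟨x, hx.symm⟩

/-- `Hom(S, T₂) → Hom(S, T₃)` is bijective if `Hom(S, T₁) = 0 = Hom(S, T₁[1])` -/
lemma bij_mor₂ (T : Triangle C) (hT : T ∈ distTriang C) (S : C)
    (h1 : ∀ g : S ⟶ T.obj₁, g = 0) (h1' : ∀ g : S ⟶ T.obj₁⟦(1 : ℤ)⟧, g = 0) :
    Function.Bijective (fun g : S ⟶ T.obj₂ => g ≫ T.mor₂) := by
  constructor
  · intro y y' hyy
    have h0 : (y - y') ≫ T.mor₂ = 0 := by
      rw [Preadditive.sub_comp]
      exact sub_eq_zero.mpr hyy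
    obtain ⟨x, hx⟩ := Triangle.coyoneda_exact₂ T hT (y - y') h0
    rw [h1 x, zero_comp] at hx
    exact sub_eq_zero.mp hx
  · intro z
    obtain ⟨y, hy⟩ := Triangle.coyoneda_exact₃ T hT z (h1' _)
    exact ⟨y, hy.symm⟩

/-- `Hom(T₃, W) → Hom(T₂, W)` is bijective if `Hom(T₁, W) = 0 = Hom(T₁[1], W)` -/
lemma bij_pre_mor₂ (T : Triangle C) (hT : T ∈ distTriang C) (W : C)
    (h1 : ∀ g : T.obj₁ ⟶ W, g = 0) (h1' : ∀ g : T.obj₁⟦(1 : ℤ)⟧ ⟶ W, g = 0) :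
    Function.Bijective (fun g : T.obj₃ ⟶ W => T.mor₂ ≫ g) := by
  constructor
  · intro z z' hzz
    have h0 : T.mor₂ ≫ (z - z') = 0 := by
      rw [Preadditive.comp_sub]
      exact sub_eq_zero.mpr hzz
    obtain ⟨g, hg⟩ := Triangle.yoneda_exact₃ T hT (z - z') h0
    rw [h1' g, comp_zero] at hg
    exact sub_eq_zero.mp hg
  · intro y
    obtain ⟨z, hz⟩ := Triangle.yoneda_exact₂ T hT y (h1 _)
    exact ⟨z, hz.symm⟩

/-- `Hom(T₂, W) → Hom(T₁, W)` is bijective if `Hom(T₃, W) = 0 = Hom(T₃[-1], W)` -/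
lemma bij_pre_mor₁ (T : Triangle C) (hT : T ∈ distTriang C) (W : C)
    (h3 : ∀ g : T.obj₃ ⟶ W, g = 0) (h3' : ∀ g : T.obj₃⟦(-1 : ℤ)⟧ ⟶ W, g = 0) :
    Function.Bijective (fun g : T.obj₂ ⟶ W => T.mor₁ ≫ g) := by
  constructor
  · intro y y' hyy
    have h0 : T.mor₁ ≫ (y - y') = 0 := by
      rw [Preadditive.comp_sub]
      exact sub_eq_zero.mpr hyy
    obtain ⟨z, hz⟩ := Triangle.yoneda_exact₂ T hT (y - y') h0
    rw [h3 z, comp_zero] at hz
    exact sub_eq_zero.mp hz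
  · intro x
    have hT' := inv_rot_of_distTriang T hT
    obtain ⟨y, hy⟩ := Triangle.yoneda_exact₂ T.invRotate hT' (show T.invRotate.obj₂ ⟶ W from x) (h3' _)
    exact ⟨y, hy.symm⟩

/-- the sign isomorphism -/
noncomputable def unitsSmulIso (ε : ℤˣ) (Y : C) : Y ≅ Y where
  hom := ε • 𝟙 Y
  inv := ε⁻¹ • 𝟙 Y
  hom_inv_id := by
    rw [Linear.units_smul_comp, Linear.comp_units_smul, Category.id_comp, smul_smul,
      mul_inv_cancel, one_smul]
  inv_hom_id := by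
    rw [Linear.units_smul_comp, Linear.comp_units_smul, Category.id_comp, smul_smul,
      inv_mul_cancel, one_smul]

/-- a distinguished triangle on the shifted first two maps -/
lemma exists_shift_triangle (T : Triangle C) (hT : T ∈ distTriang C) (i : ℤ) :
    ∃ m₃ : T.obj₃⟦i⟧ ⟶ (T.obj₁⟦i⟧)⟦(1 : ℤ)⟧,
      Triangle.mk (T.mor₁⟦i⟧') (T.mor₂⟦i⟧') m₃ ∈ distTriang C := by
  have hTi : Triangle.mk (i.negOnePow • T.mor₁⟦i⟧') (i.negOnePow • T.mor₂⟦i⟧')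
      (i.negOnePow • T.mor₃⟦i⟧' ≫ (shiftFunctorComm C 1 i).hom.app T.obj₁) ∈ distTriang C :=
    Triangle.shift_distinguished T hT i
  refine ⟨i.negOnePow • T.mor₃⟦i⟧' ≫ (shiftFunctorComm C 1 i).hom.app T.obj₁, ?_⟩
  have c1 : T.mor₁⟦i⟧' ≫ (i.negOnePow • 𝟙 (T.obj₂⟦i⟧)) =
      𝟙 (T.obj₁⟦i⟧) ≫ (i.negOnePow • T.mor₁⟦i⟧') := by
    rw [Linear.comp_units_smul, Category.comp_id, Category.id_comp]
  have c2 : T.mor₂⟦i⟧' ≫ 𝟙 (T.obj₃⟦i⟧) =
      (i.negOnePow • 𝟙 (T.obj₂⟦i⟧)) ≫ (i.negOnePow • T.mor₂⟦i⟧') := by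
    rw [Linear.units_smul_comp, Linear.comp_units_smul, Category.id_comp, Category.comp_id,
      smul_smul, Int.units_mul_self, one_smul]
  have c3 : (i.negOnePow • T.mor₃⟦i⟧' ≫ (shiftFunctorComm C 1 i).hom.app T.obj₁) ≫
      (shiftFunctor C (1 : ℤ)).map (𝟙 (T.obj₁⟦i⟧)) =
      𝟙 (T.obj₃⟦i⟧) ≫ (i.negOnePow • T.mor₃⟦i⟧' ≫ (shiftFunctorComm C 1 i).hom.app T.obj₁) := by
    rw [CategoryTheory.Functor.map_id]
    exact (Category.comp_id _).trans (Category.id_comp _).symm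
  exact isomorphic_distinguished _ hTi _
    (Triangle.isoMk _ _ (Iso.refl (T.obj₁⟦i⟧)) (unitsSmulIso i.negOnePow (T.obj₂⟦i⟧))
      (Iso.refl (T.obj₃⟦i⟧)) c1 c2 c3)

end Tri

open Groth.Agent.Helper6.LcD

variable {A : Type u} [CommRing A] (J : Ideal A)

/-- postcomposition with `u⟦i⟧'` on the level groups -/
noncomputable def lvl {X Y : Dual.D A} (u : X ⟶ Y) (i : ℤ) (n : ℕ) :
    GH J X i n →ₗ[A] GH J Y i n :=
  Linear.rightComp A (Dual.inD A (A ⧸ J ^ n)) (u⟦i⟧')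

lemma lvl_apply {X Y : Dual.D A} (u : X ⟶ Y) (i : ℤ) (n : ℕ) (y : GH J X i n) :
    lvl J u i n y = y ≫ u⟦i⟧' := rfl

lemma lvl_gmap {X Y : Dual.D A} (u : X ⟶ Y) (i : ℤ) (n n' : ℕ) (h : n ≤ n') (y : GH J X i n) :
    lvl J u i n' (gmap J X i n n' h y) = gmap J Y i n n' h (lvl J u i n y) := by
  rw [lvl_apply, gmap_apply, gmap_apply, lvl_apply, Category.assoc]

/-- the map induced on `HDI` -/
noncomputable def hdiMap {X Y : Dual.D A} (u : X ⟶ Y) (i : ℤ) :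
    Dual2.HDI A J X i →ₗ[A] Dual2.HDI A J Y i :=
  hdiDesc J X i (fun n => hdiι J Y i n ∘ₗ lvl J u i n) (fun n n' h y => by
    show hdiι J Y i n' (lvl J u i n' (gmap J X i n n' h y)) = hdiι J Y i n (lvl J u i n y)
    rw [lvl_gmap, hdiι_compat])

lemma hdiMap_bijective_of_lvl {X Y : Dual.D A} (u : X ⟶ Y) (i : ℤ)
    (h : ∀ n, Function.Bijective (lvl J u i n)) : Function.Bijective (hdiMap J u i) := by
  apply hdiDesc_bijective
  · intro t
    obtain ⟨n, y, rfl⟩ := hdi_exists_rep J Y i t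
    obtain ⟨x, rfl⟩ := (h n).2 y
    exact ⟨n, x, rfl⟩
  · intro n y hy
    obtain ⟨n', hle, h0⟩ := hdi_eq_zero J Y i n _ hy
    refine ⟨n', hle, ?_⟩
    apply (h n').1
    rw [lvl_gmap, h0, map_zero]

/-- the long exact sequence argument for `HDI` -/
lemma hdiMap_mor₂_bijective (T : Triangle (Dual.D A)) (hT : T ∈ distTriang (Dual.D A)) (i : ℤ)
    (h1 : Subsingleton (Dual2.HDI A J T.obj₁ i))
    (h1' : Subsingleton (Dual2.HDI A J T.obj₁ (i + 1))) :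
    Function.Bijective (hdiMap J T.mor₂ i) := by
  obtain ⟨m₃, hTi⟩ := exists_shift_triangle T hT i
  let e : (T.obj₁⟦i⟧)⟦(1 : ℤ)⟧ ≅ T.obj₁⟦i + 1⟧ :=
    ((shiftFunctorAdd' (Dual.D A) i 1 (i + 1) rfl).app T.obj₁).symm
  apply hdiDesc_bijective
  · intro t
    obtain ⟨n, z, rfl⟩ := hdi_exists_rep J T.obj₃ i t
    let w : GH J T.obj₁ (i + 1) n := z ≫ m₃ ≫ e.hom
    have hw : hdiι J T.obj₁ (i + 1) n w = 0 := Subsingleton.elim _ _
    obtain ⟨n', hle, h0⟩ := hdi_eq_zero J T.obj₁ (i + 1) n w hw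
    rw [gmap_apply] at h0
    have h0' : ((singleFunctor (ModuleCat.{u} A) 0).map (ModuleCat.ofHom (πJ J n n' hle)) ≫ z) ≫
        m₃ = 0 := by
      have h2 : (((singleFunctor (ModuleCat.{u} A) 0).map (ModuleCat.ofHom (πJ J n n' hle)) ≫ z) ≫
          m₃) ≫ e.hom = 0 := by
        rw [Category.assoc, Category.assoc]
        exact h0
      rw [← cancel_mono e.hom, h2, zero_comp]
    obtain ⟨y, hy⟩ : ∃ y : GH J T.obj₂ i n',
        (singleFunctor (ModuleCat.{u} A) 0).map (ModuleCat.ofHom (πJ J n n' hle)) ≫ z =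
          y ≫ T.mor₂⟦i⟧' := Triangle.coyoneda_exact₃ _ hTi _ h0'
    refine ⟨n', y, ?_⟩
    show hdiι J T.obj₃ i n' (lvl J T.mor₂ i n' y) = _
    rw [lvl_apply]
    have : y ≫ T.mor₂⟦i⟧' = gmap J T.obj₃ i n n' hle z := by
      rw [gmap_apply]
      exact hy.symm
    rw [this, hdiι_compat]
  · intro n y hy
    change hdiι J T.obj₃ i n (lvl J T.mor₂ i n y) = 0 at hy
    obtain ⟨n', hle, h0⟩ := hdi_eq_zero J T.obj₃ i n _ hy
    rw [← lvl_gmap, lvl_apply] at h0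
    obtain ⟨x, hx⟩ : ∃ x : GH J T.obj₁ i n', gmap J T.obj₂ i n n' hle y = x ≫ T.mor₁⟦i⟧' :=
      Triangle.coyoneda_exact₂ _ hTi (gmap J T.obj₂ i n n' hle y) h0
    have hx0 : hdiι J T.obj₁ i n' x = 0 := Subsingleton.elim _ _
    obtain ⟨n'', hle', h00⟩ := hdi_eq_zero J T.obj₁ i n' x hx0
    refine ⟨n'', hle.trans hle', ?_⟩
    rw [← gmap_trans J T.obj₂ i n n' n'' hle hle' y, hx]
    rw [gmap_apply] at h00 ⊢
    change _ ≫ x ≫ T.mor₁⟦i⟧' = 0
    rw [← Category.assoc, h00, zero_comp]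

end Groth.Agent.Helper6.LDU
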