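import Mathlib
import Groth.Prelude.Def_DRing3
import Groth.Prelude.Def_DualLC
import Groth.Agent.Helper6.LcD13
import Groth.Agent.Helper6.LDU1
import Groth.Agent.Helper9.LCT3
import Groth.Agent.Helper9.LCR1
import Groth.Agent.Helper3.DRing1

/-!
# Amplitude of `RΓ_I`, vanishing of `HDI`, finiteness of cohomology of truncations
-/

set_option autoImplicit false
set_option linter.style.haveILetI false
set_option linter.unusedSectionVars false

universe u
open CategoryTheory CategoryTheory.Limits Opposite DerivedCategory Pretriangulated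
open Groth.Agent.Helper9.LCT2 Groth.Agent.Helper9.LCT3 Groth.Agent.Helper9.LCR1
open Groth.Agent.Helper3.DRingLib
attribute [local instance] HasDerivedCategory.standard

namespace Groth.Agent.Helper6.LDU

variable {A : Type u} [CommRing A] [IsNoetherianRing A]

/-- termwise localisation preserves strict upper bounds -/
lemma isLE_Q_locCx (S : Submonoid A) (L : DRing.Cx A) (N : ℤ) [L.IsStrictlyLE N] :
    (Q.obj ((DerCA.locCx S).obj L)).IsLE N := by
  rw [isLE_Q_obj_iff]
  haveI : ((DerCA.locCx S).obj L).IsStrictlyLE N := by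
    rw [CochainComplex.isStrictlyLE_iff]
    intro i hi
    exact (DerCA.locFunctor S).map_isZero (L.isZero_of_isStrictlyLE N i hi)
  infer_instance

/-- `RΓ_I` raises the upper cohomological bound by a bounded amount -/
theorem exists_amp (I : Ideal A) : ∃ r : ℕ, ∀ (_ : DRing.HasRgammaI I) (X : Dual.D A) (N : ℤ),
    X.IsLE N → ((DRing.RgammaI I).obj X).IsLE (N + r) := by
  refine Submodule.fg_induction (R := A) (M := A) (motive := fun (I : Ideal A) _ =>
    ∃ r : ℕ, ∀ (_ : DRing.HasRgammaI I) (X : Dual.D A) (N : ℤ),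
      X.IsLE N → ((DRing.RgammaI I).obj X).IsLE (N + r)) ?_ ?_ I (IsNoetherian.noetherian I)
  · intro f
    refine ⟨1, fun hi X N hX => ?_⟩
    haveI := hX
    obtain ⟨L, hL, ⟨e⟩⟩ := X.exists_iso_Q_obj_of_isLE N
    obtain ⟨c, hc⟩ := exists_principal_triangle f L
    have hT' := inv_rot_of_distTriang _ hc
    haveI h3 : (Q.obj ((DerCA.locCx (Submonoid.powers f)).obj L)).IsLE N := isLE_Q_locCx _ L N
    have h1 : TStructure.t.IsLE
        ((Q.obj ((DerCA.locCx (Submonoid.powers f)).obj L))⟦(-1 : ℤ)⟧) (N + 1) :=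
      TStructure.t.isLE_shift _ N (-1) (N + 1) (by omega)
    have h2 : TStructure.t.IsLE (Q.obj L) (N + 1) := by
      haveI : (Q.obj L).IsLE N := TStructure.t.isLE_of_iso e N
      exact TStructure.t.isLE_of_le _ N (N + 1) (by omega)
    have h4 : TStructure.t.IsLE ((DRing.RgammaI (Ideal.span {f})).obj (Q.obj L)) (N + 1) :=
      TStructure.t.isLE₂ _ hT' (N + 1) h1 h2
    haveI := h4
    have hN : N + ((1 : ℕ) : ℤ) = N + 1 := by push_cast; ring
    rw [hN]
    exact TStructure.t.isLE_of_iso ((DRing.RgammaI (Ideal.span {f})).mapIso e.symm) (N + 1)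
  · intro I₁ I₂ _ _ h₁ h₂
    obtain ⟨r₁, h₁⟩ := h₁
    obtain ⟨r₂, h₂⟩ := h₂
    refine ⟨r₁ + r₂, fun hi X N hX => ?_⟩
    haveI := hasRgammaI I₁
    haveI := hasRgammaI I₂
    obtain ⟨a⟩ := nonempty_comp_iso I₁ I₂ X
    have k1 := h₁ inferInstance X N hX
    have k2 := h₂ inferInstance _ (N + r₁) k1
    haveI := k2
    have hN : N + ((r₁ + r₂ : ℕ) : ℤ) = N + (r₁ : ℤ) + (r₂ : ℤ) := by push_cast; ring
    rw [hN]
    exact TStructure.t.isLE_of_iso a _

/-- vanishing of `HDI` in high degrees -/
theorem exists_hdi_vanish (I : Ideal A) : ∃ r : ℕ, ∀ (X : Dual.D A) (N : ℤ), X.IsLE N →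
    ∀ j : ℤ, N + r < j → Subsingleton (Dual2.HDI A I X j) := by
  obtain ⟨r, hr⟩ := exists_amp I
  refine ⟨r, fun X N hX j hj => ?_⟩
  haveI := hasRgammaI I
  obtain ⟨φ⟩ := Groth.Agent.Helper6.LcD.hd_rgamma I j X
  haveI := hr inferInstance X N hX
  haveI := subsingleton_HD_of_isLE ((DRing.RgammaI I).obj X) (N + r) j hj
  exact φ.symm.toEquiv.subsingleton

/-- cohomology of `τ_{<n}` is finite -/
lemma finite_HD_truncLT (X : Dual.D A) (hX : ∀ j : ℤ, Module.Finite A (Dual.HD A X j)) (n j : ℤ) :
    Module.Finite A (Dual.HD A ((TStructure.t.truncLT n).obj X) j) := by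
  by_cases hj : j < n
  · have hT := TStructure.t.triangleLTGE_distinguished n X
    have hδ : HomologySequence.δ ((TStructure.t.triangleLTGE n).obj X) (j - 1) j (by omega) = 0 := by
      have hz : IsZero ((homologyFunctor (ModuleCat.{u} A) (j - 1)).obj
          ((TStructure.t.triangleLTGE n).obj X).obj₃) :=
        ((TStructure.t.triangleLTGE n).obj X).obj₃.isZero_of_isGE n (j - 1) (by omega)
      exact hz.eq_of_src _ _
    have hm := (HomologySequence.mono_homologyMap_mor₁_iff _ hT (j - 1) j (by omega)).mpr hδ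
    have hinj := (ModuleCat.mono_iff_injective _).mp hm
    haveI : Module.Finite A ((homologyFunctor (ModuleCat.{u} A) j).obj
        ((TStructure.t.triangleLTGE n).obj X).obj₂) := hX j
    exact Module.Finite.of_injective
      ((homologyFunctor (ModuleCat.{u} A) j).map ((TStructure.t.triangleLTGE n).obj X).mor₁).hom hinj
  · haveI := subsingleton_HD_of_isLE ((TStructure.t.truncLT n).obj X) (n - 1) j (by omega)
    infer_instance

/-- cohomology of `τ_{≥n}` is finite -/
lemma finite_HD_truncGE (X : Dual.D A) (hX : ∀ j : ℤ, Module.Finite A (Dual.HD A X j)) (n j : ℤ) :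
    Module.Finite A (Dual.HD A ((TStructure.t.truncGE n).obj X) j) := by
  by_cases hj : j < n
  · haveI := subsingleton_HD_of_isGE ((TStructure.t.truncGE n).obj X) n j hj
    infer_instance
  · have hT := TStructure.t.triangleLTGE_distinguished n X
    have hδ : HomologySequence.δ ((TStructure.t.triangleLTGE n).obj X) j (j + 1) rfl = 0 := by
      have hz : IsZero ((homologyFunctor (ModuleCat.{u} A) (j + 1)).obj
          ((TStructure.t.triangleLTGE n).obj X).obj₁) :=
        ((TStructure.t.triangleLTGE n).obj X).obj₁.isZero_of_isLE (n - 1) (j + 1) (by omega)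
      exact hz.eq_of_tgt _ _
    have hm := (HomologySequence.epi_homologyMap_mor₂_iff _ hT j (j + 1) rfl).mpr hδ
    have hsurj := (ModuleCat.epi_iff_surjective _).mp hm
    haveI : Module.Finite A ((homologyFunctor (ModuleCat.{u} A) j).obj
        ((TStructure.t.triangleLTGE n).obj X).obj₂) := hX j
    exact Module.Finite.of_surjective
      ((homologyFunctor (ModuleCat.{u} A) j).map ((TStructure.t.triangleLTGE n).obj X).mor₂).hom hsurj

end Groth.Agent.Helper6.LDU
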