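import Mathlib
import Groth.Prelude.Def_DRing3
import Groth.Prelude.Def_DualLC
import Groth.Agent.Helper6.LDU2
import Groth.Agent.Helper6.LcD8
import Groth.Agent.Helper6.LcD11
import Groth.Agent.Helper6.BiD9
import Groth.Agent.Helper6.DFinExt

/-!
# Local duality for unbounded complexes over a complete local ring
-/

set_option autoImplicit false
set_option linter.style.haveILetI false
set_option linter.unusedSectionVars false

universe u
open CategoryTheory CategoryTheory.Limits Opposite DerivedCategory Pretriangulated IsLocalRing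
open Groth.Agent.Helper3.DRingLib Groth.Agent.Helper6.LcD
attribute [local instance] HasDerivedCategory.standard

namespace Groth.Agent.Helper6.LDU

section Complete

variable {R : Type*} [CommRing R] (I : Ideal R) (N : Type*) [AddCommGroup N] [Module R N]

/-- a finite module over a Noetherian adically complete ring is adically complete
(same proof as `Groth.Agent.Helper1.FF.isAdicComplete_of_finite`, repeated here to keep the
import closure small) -/
theorem isAdicComplete_of_finite' [IsNoetherianRing R] [IsAdicComplete I R] [Module.Finite R N] :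
    IsAdicComplete I N := by
  haveI : IsHausdorff I N := IsHausdorff.of_le_jacobson I N (IsAdicComplete.le_jacobson_bot I)
  rw [isAdicComplete_iff]
  refine ⟨inferInstance, ?_⟩
  rw [← AdicCompletion.of_surjective_iff]
  intro y
  obtain ⟨t, rfl⟩ := AdicCompletion.ofTensorProduct_surjective_of_finite I N y
  induction t using TensorProduct.induction_on with
  | zero => exact ⟨0, by simp⟩
  | tmul r x =>
    obtain ⟨a, rfl⟩ := AdicCompletion.of_surjective I R r
    refine ⟨a • x, ?_⟩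
    rw [AdicCompletion.ofTensorProduct_tmul]
    ext n
    rw [AdicCompletion.smul_eval]
    rfl
  | add s t hs ht =>
    obtain ⟨a, ha⟩ := hs
    obtain ⟨b, hb⟩ := ht
    exact ⟨a + b, by rw [map_add, map_add, ha, hb]⟩

end Complete

variable {A : Type u} [CommRing A]

section Rep

variable (I : DRing.Cx A) (a b : ℤ) (hv : DRing.VanishesOutside I a b)
  (hinj : DRing.TermwiseInjective I) {ω : Dual.D A} (e : DRing.toD I ≅ ω)

include hv hinj e in
lemma hom_high (Z : Dual.D A) (n : ℤ) [Z.IsGE n] (j : ℤ) (h : b < n + j) (g : Z ⟶ ω⟦j⟧) :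
    g = 0 := by
  have h0 := Groth.Agent.Helper6.DFinExt.vanish_high I a b hv hinj Z n j h (g ≫ e.inv⟦j⟧')
  have h1 : g = (g ≫ e.inv⟦j⟧') ≫ e.hom⟦j⟧' := by
    rw [Category.assoc, ← Functor.map_comp, e.inv_hom_id, CategoryTheory.Functor.map_id,
      Category.comp_id]
  rw [h1, h0, zero_comp]

include hv hinj e in
lemma hom_low (Z : Dual.D A) (n : ℤ) [Z.IsLE n] (j : ℤ) (h : n + j < a) (g : Z ⟶ ω⟦j⟧) :
    g = 0 := by
  have h0 := Groth.Agent.Helper6.DFinExt.vanish_low I a b hv hinj Z n j h (g ≫ e.inv⟦j⟧')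
  have h1 : g = (g ≫ e.inv⟦j⟧') ≫ e.hom⟦j⟧' := by
    rw [Category.assoc, ← Functor.map_comp, e.inv_hom_id, CategoryTheory.Functor.map_id,
      Category.comp_id]
  rw [h1, h0, zero_comp]

include hv hinj e in
lemma bij_pre_truncLTι (K : Dual.D A) (n j : ℤ) (h : b < n + j) :
    Function.Bijective
      (fun g : K ⟶ ω⟦j⟧ => (TStructure.t.truncLTι n).app K ≫ g) := by
  have hT := TStructure.t.triangleLTGE_distinguished n K
  exact bij_pre_mor₁ _ hT (ω⟦j⟧) (fun g => hom_high I a b hv hinj e _ n j h g) (fun g => by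
    haveI : TStructure.t.IsGE ((((TStructure.t.triangleLTGE n).obj K).obj₃)⟦(-1 : ℤ)⟧) (n + 1) :=
      TStructure.t.isGE_shift _ n (-1) (n + 1) (by omega)
    exact hom_high I a b hv hinj e _ (n + 1) j (by omega) g)

include hv hinj e in
lemma bij_pre_truncGEπ (K : Dual.D A) (n j : ℤ) (h : n - 1 + j < a) :
    Function.Bijective
      (fun g : (TStructure.t.truncGE n).obj K ⟶ ω⟦j⟧ => (TStructure.t.truncGEπ n).app K ≫ g) := by
  have hT := TStructure.t.triangleLTGE_distinguished n K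
  exact bij_pre_mor₂ _ hT (ω⟦j⟧) (fun g => hom_low I a b hv hinj e _ (n - 1) j h g) (fun g => by
    haveI : TStructure.t.IsLE ((((TStructure.t.triangleLTGE n).obj K).obj₁)⟦(1 : ℤ)⟧) (n - 2) :=
      TStructure.t.isLE_shift _ (n - 1) 1 (n - 2) (by omega)
    exact hom_low I a b hv hinj e _ (n - 2) j (by omega) g)

end Rep

lemma hdiMap_truncLTι_bijective (J : Ideal A) (K : Dual.D A) (n i : ℤ) (h : i < n) :
    Function.Bijective (hdiMap J ((TStructure.t.truncLTι n).app K) i) := by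
  apply hdiMap_bijective_of_lvl
  intro m
  have hT := TStructure.t.triangleLTGE_distinguished n K
  obtain ⟨m₃, hTi⟩ := exists_shift_triangle _ hT i
  have hGE : TStructure.t.IsGE ((((TStructure.t.triangleLTGE n).obj K).obj₃)⟦i⟧) (n - i) :=
    TStructure.t.isGE_shift _ n i (n - i) (by omega)
  have hLE : TStructure.t.IsLE ((Dual.inD A (A ⧸ J ^ m))⟦(1 : ℤ)⟧) (-1) :=
    TStructure.t.isLE_shift _ 0 1 (-1) (by omega)
  show Function.Bijective (fun y : GH J ((TStructure.t.truncLT n).obj K) i m =>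
    y ≫ ((TStructure.t.truncLTι n).app K)⟦i⟧')
  exact bij_mor₁ _ hTi (Dual.inD A (A ⧸ J ^ m))
    (fun g => TStructure.t.zero_of_isLE_of_isGE g 0 (n - i) (by omega) inferInstance hGE)
    (fun g => TStructure.t.zero_of_isLE_of_isGE g (-1) (n - i) (by omega) hLE hGE)

lemma hdiMap_truncGEπ_bijective (J : Ideal A) (r : ℕ)
    (hr : ∀ (X : Dual.D A) (N : ℤ), X.IsLE N → ∀ j : ℤ, N + r < j →
      Subsingleton (Dual2.HDI A J X j))
    (K : Dual.D A) (n i : ℤ) (h : n - 1 + r < i) :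
    Function.Bijective (hdiMap J ((TStructure.t.truncGEπ n).app K) i) := by
  have hT := TStructure.t.triangleLTGE_distinguished n K
  exact hdiMap_mor₂_bijective J _ hT i (hr _ (n - 1) inferInstance i h)
    (hr _ (n - 1) inferInstance (i + 1) (by omega))

variable [IsLocalRing A] [IsNoetherianRing A]

/-- **Local duality** over a complete local ring, for complexes with finite cohomology. -/
theorem main [IsAdicComplete (maximalIdeal A) A] (ω : Dual.D A) (hω : Dual.IsDualizing A ω)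
    (hn : Dual.IsNormalized A ω) (E : Type u) [AddCommGroup E] [Module A E]
    (f : ResidueField A →ₗ[A] E) (hf : InjHull.IsInjectiveHull f)
    (K : Dual.D A) (hK : ∀ i : ℤ, Module.Finite A (Dual.HD A K i)) (i : ℤ) :
    Nonempty ((K ⟶ ω⟦(-i)⟧) ≃ₗ[A] (Dual2.HDI A (maximalIdeal A) K i →ₗ[A] E)) := by
  obtain ⟨I, a, b, hv, hinj, hKI, ⟨e⟩, -, -⟩ :=
    Groth.Agent.Helper6.BiD.exists_dualizing_rep ω hω
  obtain ⟨r, hr⟩ := exists_hdi_vanish (maximalIdeal A)
  obtain ⟨b', hb'⟩ : ∃ b' : ℤ, b' = max (b + i) i + 1 := ⟨_, rfl⟩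
  obtain ⟨a', ha'⟩ : ∃ a' : ℤ, a' = min (a + i) (i - r) := ⟨_, rfl⟩
  have hb1 : b + i < b' := by
    rw [hb']; have := le_max_left (b + i) i; omega
  have hb2 : i < b' := by
    rw [hb']; have := le_max_right (b + i) i; omega
  have ha1 : a' ≤ a + i := by
    rw [ha']; exact min_le_left _ _
  have ha2 : a' ≤ i - r := by
    rw [ha']; exact min_le_right _ _
  have hK₁ : ∀ j, Module.Finite A (Dual.HD A ((TStructure.t.truncLT b').obj K) j) :=
    finite_HD_truncLT K hK b'
  have hK₂ : ∀ j, Module.Finite A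
      (Dual.HD A ((TStructure.t.truncGE a').obj ((TStructure.t.truncLT b').obj K)) j) :=
    finite_HD_truncGE _ hK₁ a'
  have hbd : ∃ a b : ℤ, ∀ j : ℤ, (j < a ∨ b < j) → Subsingleton
      (Dual.HD A ((TStructure.t.truncGE a').obj ((TStructure.t.truncLT b').obj K)) j) :=
    ⟨a', b' - 1, fun j hj => by
      rcases hj with h | h
      · exact subsingleton_HD_of_isGE _ a' j h
      · exact subsingleton_HD_of_isLE _ (b' - 1) j h⟩
  obtain ⟨φ⟩ := Groth.Agent.Helper6.LcD.main ω hω hn E f hf _ hbd hK₂ i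
  have E1 := bij_pre_truncLTι I a b hv hinj e K b' (-i) (by omega)
  have E2 := bij_pre_truncGEπ I a b hv hinj e ((TStructure.t.truncLT b').obj K) a' (-i)
    (by omega)
  have H1 := hdiMap_truncLTι_bijective (maximalIdeal A) K b' i hb2
  have H2 := hdiMap_truncGEπ_bijective (maximalIdeal A) r hr ((TStructure.t.truncLT b').obj K)
    a' i (by omega)
  let eE1 : (K ⟶ ω⟦(-i)⟧) ≃ₗ[A] ((TStructure.t.truncLT b').obj K ⟶ ω⟦(-i)⟧) :=
    LinearEquiv.ofBijective (Linear.leftComp A (ω⟦(-i)⟧) ((TStructure.t.truncLTι b').app K)) E1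
  let eE2 : ((TStructure.t.truncGE a').obj ((TStructure.t.truncLT b').obj K) ⟶ ω⟦(-i)⟧) ≃ₗ[A]
      ((TStructure.t.truncLT b').obj K ⟶ ω⟦(-i)⟧) :=
    LinearEquiv.ofBijective (Linear.leftComp A (ω⟦(-i)⟧)
      ((TStructure.t.truncGEπ a').app ((TStructure.t.truncLT b').obj K))) E2
  let eH1 := LinearEquiv.ofBijective
    (hdiMap (maximalIdeal A) ((TStructure.t.truncLTι b').app K) i) H1
  let eH2 := LinearEquiv.ofBijective
    (hdiMap (maximalIdeal A) ((TStructure.t.truncGEπ a').app ((TStructure.t.truncLT b').obj K)) i)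
    H2
  haveI : Module.Finite A (K ⟶ ω⟦(-i)⟧) :=
    Groth.Agent.Helper6.DFinExt.main K ω hK hω.finite_cohomology ⟨a, b, I, hv, hinj, ⟨e⟩⟩ (-i)
  haveI : Small.{u} (K ⟶ ω⟦(-i)⟧) := Module.Finite.small A _
  let eX := Shrink.linearEquiv.{u} A (K ⟶ ω⟦(-i)⟧)
  haveI : Module.Finite A (Shrink.{u} (K ⟶ ω⟦(-i)⟧)) := Module.Finite.equiv eX.symm
  obtain ⟨θ⟩ := Groth.Agent.Helper6.LcD.nonempty_bidual_equiv_completion
    (Shrink.{u} (K ⟶ ω⟦(-i)⟧)) f hf
  haveI : IsAdicComplete (maximalIdeal A) (Shrink.{u} (K ⟶ ω⟦(-i)⟧)) :=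
    isAdicComplete_of_finite' _ _
  let c := AdicCompletion.ofLinearEquiv (maximalIdeal A) (Shrink.{u} (K ⟶ ω⟦(-i)⟧))
  let ψ : Dual2.HDI A (maximalIdeal A) K i ≃ₗ[A] ((K ⟶ ω⟦(-i)⟧) →ₗ[A] E) :=
    eH1.symm ≪≫ₗ eH2 ≪≫ₗ φ ≪≫ₗ LinearEquiv.congrLeft E A (eE2 ≪≫ₗ eE1.symm)
  exact ⟨eX.symm ≪≫ₗ c ≪≫ₗ θ.symm ≪≫ₗ
    LinearEquiv.congrLeft E A (LinearEquiv.congrLeft E A eX ≪≫ₗ ψ.symm)⟩

end Groth.Agent.Helper6.LDU
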