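import Mathlib
import Groth.Prelude.Def_Koszul
import Groth.Agent.Helper1.KoszulBasic
import Groth.Agent.Helper3.KPerfA

/-!
# Koszul complexes: the maps `A → K(l) → A/I` and null-homotopies
-/

set_option autoImplicit false
set_option linter.style.haveILetI false
set_option linter.unusedSectionVars false

universe u
open CategoryTheory CategoryTheory.Limits CochainComplex HomComplex

namespace Groth.Agent.Helper6.LTenAR

variable {A : Type u} [CommRing A]

/-- a module in degree `0` -/
noncomputable abbrev Sg : ModuleCat.{u} A ⥤ CochainComplex (ModuleCat.{u} A) ℤ :=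
  HomologicalComplex.single (ModuleCat.{u} A) (ComplexShape.up ℤ) 0

open Groth.Agent.Helper1.Koszul in
/-- every element of `(l)` acts null-homotopically on the Koszul complex -/
theorem span_le_nullIdeal : ∀ l : List A,
    Ideal.span {x | x ∈ l} ≤ nullIdeal (Koszul.koszul A l)
  | [] => by
    have : {x : A | x ∈ ([] : List A)} = ∅ := by ext; simp
    rw [this, Ideal.span_empty]
    exact bot_le
  | f :: fs => by
    rw [Ideal.span_le]
    intro x hx
    rcases List.mem_cons.1 hx with rfl | hx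
    · exact ⟨coneHomotopySelf (Koszul.koszul A fs) x⟩
    · obtain ⟨H⟩ := span_le_nullIdeal fs (Ideal.subset_span hx)
      exact ⟨coneHomotopyOf (Koszul.koszul A fs) f x H⟩

lemma smul_quot_eq_zero (I : Ideal A) (x : A) (hx : x ∈ I) (y : A ⧸ I) : x • y = 0 := by
  obtain ⟨a, rfl⟩ := Submodule.Quotient.mk_surjective I y
  rw [← Submodule.Quotient.mk_smul, Submodule.Quotient.mk_eq_zero]
  exact I.mul_mem_right a hx

lemma smul_to_single_eq_zero (I : Ideal A) (x : A) (hx : x ∈ I)
    {K : CochainComplex (ModuleCat.{u} A) ℤ}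
    (φ : K ⟶ Sg.obj (ModuleCat.of A (A ⧸ I))) : x • φ = 0 := by
  refine HomologicalComplex.to_single_hom_ext ?_
  refine ModuleCat.hom_ext (LinearMap.ext fun k => ?_)
  show x • (φ.f 0).hom k = 0
  let e := (HomologicalComplex.singleObjXSelf (ComplexShape.up ℤ) 0
    (ModuleCat.of A (A ⧸ I))).toLinearEquiv
  apply e.injective
  rw [map_smul, map_zero]
  exact smul_quot_eq_zero I x hx _

/-- `A → K(l)` -/
noncomputable def jK : ∀ l : List A, Sg.obj (ModuleCat.of A A) ⟶ Koszul.koszul A l
  | [] => 𝟙 _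
  | f :: l => jK l ≫ mappingCone.inr (f • 𝟙 (Koszul.koszul A l))

/-- `K(l) → A/I` when `l ⊆ I` -/
noncomputable def pK (I : Ideal A) : ∀ l : List A, (∀ x ∈ l, x ∈ I) →
    (Koszul.koszul A l ⟶ Sg.obj (ModuleCat.of A (A ⧸ I)))
  | [], _ => Sg.map (ModuleCat.ofHom I.mkQ)
  | f :: l, h => mappingCone.desc (f • 𝟙 (Koszul.koszul A l)) 0
      (pK I l (fun x hx => h x (List.mem_cons_of_mem _ hx)))
      (by rw [δ_zero, Linear.smul_comp, Category.id_comp,
        smul_to_single_eq_zero I f (h f List.mem_cons_self), Cochain.ofHom_zero])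

lemma jK_pK (I : Ideal A) : ∀ (l : List A) (h : ∀ x ∈ l, x ∈ I),
    jK l ≫ pK I l h = Sg.map (ModuleCat.ofHom I.mkQ)
  | [], _ => Category.id_comp _
  | f :: l, h => by
    show (jK l ≫ mappingCone.inr _) ≫ mappingCone.desc _ _ _ _ = _
    rw [Category.assoc, mappingCone.inr_desc]
    exact jK_pK I l _

lemma koszul_isZero (l : List A) (q : ℤ) (hq : q < -(l.length : ℤ) ∨ 0 < q) :
    IsZero ((Koszul.koszul A l).X q) :=
  Groth.Agent.Helper3.KPerfA.koszul_vanishesOutside l q hq

lemma koszul_finite (l : List A) (q : ℤ) : Module.Finite A ((Koszul.koszul A l).X q) :=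
  (Groth.Agent.Helper3.KPerfA.koszul_termwiseFiniteFree l q).1

lemma koszul_flat (l : List A) (q : ℤ) : Module.Flat A ((Koszul.koszul A l).X q) := by
  haveI := (Groth.Agent.Helper3.KPerfA.koszul_termwiseFiniteFree l q).2
  infer_instance

lemma koszul_null (l : List A) (x : A) (hx : x ∈ Ideal.span {y | y ∈ l}) :
    Nonempty (Homotopy (x • 𝟙 (Koszul.koszul A l)) 0) :=
  span_le_nullIdeal l hx

end Groth.Agent.Helper6.LTenAR
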