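import Mathlib
import Groth.Agent.Helper6.GhostAR1
import Groth.Agent.Helper6.SingleTen
import Groth.Agent.Helper1.KoszulBasic

/-!
# The subcomplexes `(I^i M)[0] ⊗ P ⊆ M[0] ⊗ P` as `GhostAR.Data`
-/

set_option autoImplicit false
set_option linter.style.haveILetI false
set_option linter.unusedSectionVars false

universe u
open CategoryTheory CategoryTheory.Limits MonoidalCategory

namespace Groth.Agent.Helper6.LTenAR2

open Groth.Agent.Helper6.TenCx Groth.Agent.Helper6.SingleTen Groth.Agent.Helper6.GhostAR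

variable {A : Type u} [CommRing A]

/-- a module in degree `0` -/
noncomputable abbrev Sg : ModuleCat.{u} A ⥤ DRing.Cx A :=
  HomologicalComplex.single (ModuleCat.{u} A) (ComplexShape.up ℤ) 0

lemma map_mem_smul_top {M M' : Type u} [AddCommGroup M] [Module A M] [AddCommGroup M']
    [Module A M'] (J : Ideal A) (ψ : M →ₗ[A] M') (x : M)
    (hx : x ∈ (J • ⊤ : Submodule A M)) : ψ x ∈ (J • ⊤ : Submodule A M') := by
  have h1 : (J • ⊤ : Submodule A M).map ψ ≤ J • ⊤ := by
    rw [Submodule.map_smul'']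
    exact Submodule.smul_mono le_rfl le_top
  exact h1 ⟨x, hx, rfl⟩

lemma Sg_map_f_apply {N' N : ModuleCat.{u} A} (g : N' ⟶ N) (s : (sN N').X 0) :
    ((Sg.map g).f 0).hom s = (isoS N).inv.hom (g.hom ((isoS N').hom.hom s)) := by
  have := HomologicalComplex.single_map_f_self (c := ComplexShape.up ℤ) (V := ModuleCat.{u} A) 0 g
  exact congrArg (fun t => t.hom s) this

lemma isoS_hom_inv (N : ModuleCat.{u} A) (s : N) : (isoS N).hom.hom ((isoS N).inv.hom s) = s :=
  congrArg (fun f => f.hom s) (isoS N).inv_hom_id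

lemma isoS_inv_hom (N : ModuleCat.{u} A) (s : (sN N).X 0) :
    (isoS N).inv.hom ((isoS N).hom.hom s) = s :=
  congrArg (fun f => f.hom s) (isoS N).hom_inv_id

lemma Sg_map_f_injective {N' N : ModuleCat.{u} A} (g : N' ⟶ N)
    (hg : Function.Injective g.hom) : Function.Injective ((Sg.map g).f 0).hom := by
  intro s s' h
  rw [Sg_map_f_apply, Sg_map_f_apply] at h
  have h1 := congrArg (fun t => (isoS N).hom.hom t) h
  simp only [isoS_hom_inv] at h1
  have h2 := hg h1
  have h3 := congrArg (fun t => (isoS N').inv.hom t) h2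
  simp only [isoS_inv_hom] at h3
  exact h3

lemma whiskerRight_ι_apply {L L' : DRing.Cx A} (g : L ⟶ L') (K : DRing.Cx A) (p q n : ℤ)
    (h : p + q = n) (v : ↑(L.X p ⊗ K.X q)) :
    ((g ▷ K).f n).hom ((ι L K p q n h).hom v) = (ι L' K p q n h).hom ((g.f p ▷ K.X q).hom v) :=
  congrArg (fun t => t.hom v) (ι_whiskerRight g K p q n h)

lemma eq_ι_π' (N : ModuleCat.{u} A) (P : DRing.Cx A) (n : ℤ) (w : (sN N ⊗ P).X n) :
    w = (ι (sN N) P 0 n n (zero_add n)).hom ((π (sN N) P 0 n n (zero_add n)).hom w) :=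
  eq_ι_π N P n w

lemma π_ι_self' (N : ModuleCat.{u} A) (P : DRing.Cx A) (n : ℤ)
    (t : ↑((sN N).X 0 ⊗ P.X n)) :
    (π (sN N) P 0 n n (zero_add n)).hom ((ι (sN N) P 0 n n (zero_add n)).hom t) = t :=
  π_ι_self (sN N) P 0 n n (zero_add n) t

section

variable {N' N : ModuleCat.{u} A} (g : N' ⟶ N) (P : DRing.Cx A)

theorem whiskerRight_injective (hg : Function.Injective g.hom)
    (hflat : ∀ q, Module.Flat A (P.X q)) (q : ℤ) :
    Function.Injective ((Sg.map g ▷ P).f q).hom := by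
  rw [injective_iff_map_eq_zero]
  intro w hw
  rw [eq_ι_π' N' P q w] at hw ⊢
  rw [whiskerRight_ι_apply] at hw
  have h2 := congrArg (fun t => (π (sN N) P 0 q q (zero_add q)).hom t) hw
  simp only [π_ι_self', map_zero] at h2
  have h3 : Function.Injective (((Sg.map g).f 0 ▷ P.X q)).hom := by
    haveI := hflat q
    exact Module.Flat.rTensor_preserves_injective_linearMap ((Sg.map g).f 0).hom
      (Sg_map_f_injective g hg)
  rw [h3 (h2.trans (map_zero _).symm), map_zero]

theorem whiskerRight_mem (J : Ideal A)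
    (hg : ∀ s : N', g.hom s ∈ (J • ⊤ : Submodule A N)) (q : ℤ) (w : (sN N' ⊗ P).X q) :
    ((Sg.map g ▷ P).f q).hom w ∈ (J • ⊤ : Submodule A ((sN N ⊗ P).X q)) := by
  rw [eq_ι_π' N' P q w, whiskerRight_ι_apply]
  refine map_mem_smul_top J (ι (sN N) P 0 q q (zero_add q)).hom _ ?_
  generalize (π (sN N') P 0 q q (zero_add q)).hom w = v
  induction v using TensorProduct.induction_on with
  | zero => rw [map_zero]; exact Submodule.zero_mem _
  | tmul s k =>
    have h1 : (((Sg.map g).f 0 ▷ P.X q)).hom (s ⊗ₜ[A] k) =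
        (TensorProduct.mk A ((sN N).X 0) (P.X q)).flip k (((Sg.map g).f 0).hom s) := rfl
    rw [h1]
    refine map_mem_smul_top J _ _ ?_
    rw [Sg_map_f_apply]
    exact map_mem_smul_top J (isoS N).inv.hom _ (hg _)
  | add v v' hv hv' => rw [map_add]; exact Submodule.add_mem _ hv hv'

theorem whiskerRight_surj (J : Ideal A)
    (hg : ∀ a ∈ J, ∀ y : N, ∃ s : N', g.hom s = a • y) (q : ℤ) (y : (sN N ⊗ P).X q)
    (hy : y ∈ (J • ⊤ : Submodule A ((sN N ⊗ P).X q))) :
    ∃ w, ((Sg.map g ▷ P).f q).hom w = y := by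
  have hle : (J • ⊤ : Submodule A ((sN N ⊗ P).X q)) ≤
      LinearMap.range ((Sg.map g ▷ P).f q).hom := by
    rw [Submodule.smul_le]
    intro a ha y _
    have key : ∀ v : ↑((sN N).X 0 ⊗ P.X q),
        ∃ v' : ↑((sN N').X 0 ⊗ P.X q), (((Sg.map g).f 0 ▷ P.X q)).hom v' = a • v := by
      intro v
      induction v using TensorProduct.induction_on with
      | zero => exact ⟨0, by rw [map_zero, smul_zero]⟩
      | tmul s k =>
        obtain ⟨s₀, hs₀⟩ := hg a ha ((isoS N).hom.hom s)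
        refine ⟨((isoS N').inv.hom s₀) ⊗ₜ[A] k, ?_⟩
        have h1 : (((Sg.map g).f 0 ▷ P.X q)).hom (((isoS N').inv.hom s₀) ⊗ₜ[A] k) =
            (((Sg.map g).f 0).hom ((isoS N').inv.hom s₀)) ⊗ₜ[A] k := rfl
        rw [h1, Sg_map_f_apply, isoS_hom_inv, hs₀, map_smul, isoS_inv_hom,
          TensorProduct.smul_tmul']
      | add v v' hv hv' =>
        obtain ⟨w, hw⟩ := hv
        obtain ⟨w', hw'⟩ := hv'
        exact ⟨w + w', by rw [map_add, hw, hw', smul_add]⟩
    obtain ⟨v', hv'⟩ := key ((π (sN N) P 0 q q (zero_add q)).hom y)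
    refine ⟨(ι (sN N') P 0 q q (zero_add q)).hom v', ?_⟩
    rw [whiskerRight_ι_apply, hv', map_smul, ← eq_ι_π' N P q y]
  exact hle hy

end

section Data

variable (I : Ideal A) (M : Type u) [AddCommGroup M] [Module A M] (P : DRing.Cx A)

/-- the data `(I^i M)[0] ⊗ P` -/
noncomputable def dataTen (hflat : ∀ q, Module.Flat A (P.X q)) :
    Data I (sN (ModuleCat.of A M) ⊗ P) where
  Y i := sN (ModuleCat.of A ↥(I ^ i • ⊤ : Submodule A M)) ⊗ P
  μ i := Sg.map (ModuleCat.ofHom (I ^ i • ⊤ : Submodule A M).subtype) ▷ P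
  t i j h := Sg.map (ModuleCat.ofHom (Submodule.inclusion
    (Submodule.smul_mono_left (Ideal.pow_le_pow_right h) :
      (I ^ j • ⊤ : Submodule A M) ≤ I ^ i • ⊤))) ▷ P
  μ_inj i q := whiskerRight_injective
    (ModuleCat.ofHom (I ^ i • ⊤ : Submodule A M).subtype) P (Submodule.injective_subtype _) hflat q
  μ_mem i q w := whiskerRight_mem
    (ModuleCat.ofHom (I ^ i • ⊤ : Submodule A M).subtype) P (I ^ i)
    (fun s => Submodule.coe_mem (p := (I ^ i • ⊤ : Submodule A M)) s) q w
  μ_surj i q y hy := whiskerRight_surj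
    (ModuleCat.ofHom (I ^ i • ⊤ : Submodule A M).subtype) P (I ^ i)
    (fun a ha y => ⟨(⟨a • y, Submodule.smul_mem_smul ha Submodule.mem_top⟩ :
      ↥(I ^ i • ⊤ : Submodule A M)), rfl⟩) q y hy
  t_μ i j h := by
    rw [← MonoidalCategory.comp_whiskerRight, ← Functor.map_comp]
    rfl

end Data

section Conditions

variable (N : ModuleCat.{u} A) (P : DRing.Cx A)

lemma isZero_X (q : ℤ) (h : IsZero (P.X q)) : IsZero ((sN N ⊗ P).X q) := by
  haveI : Subsingleton ((sN N ⊗ P).X q) := ⟨fun w w' => by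
    rw [eq_ι_π' N P q w, eq_ι_π' N P q w',
      tmul_subsingleton_right _ _ h ((π (sN N) P 0 q q (zero_add q)).hom w),
      tmul_subsingleton_right _ _ h ((π (sN N) P 0 q q (zero_add q)).hom w')]⟩
  exact ModuleCat.isZero_of_subsingleton _

lemma finite_X [Module.Finite A N] (q : ℤ) [Module.Finite A (P.X q)] :
    Module.Finite A ((sN N ⊗ P).X q) := by
  haveI : Module.Finite A ((sN N).X 0) := Module.Finite.equiv (isoS N).toLinearEquiv.symm
  haveI : Module.Finite A (TensorProduct A ((sN N).X 0) (P.X q)) := inferInstance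
  exact Module.Finite.of_surjective (ι (sN N) P 0 q q (zero_add q)).hom
    (fun w => ⟨(π (sN N) P 0 q q (zero_add q)).hom w, (eq_ι_π' N P q w).symm⟩)

lemma whiskerLeft_smul' (L : DRing.Cx A) {K K' : DRing.Cx A} (x : A) (f : K ⟶ K') :
    L ◁ (x • f) = x • (L ◁ f) := by
  refine HomologicalComplex.hom_ext _ _ (fun n => hom_ext (fun p q hpq => ?_))
  rw [HomologicalComplex.smul_f_apply, Linear.comp_smul, ι_whiskerLeft, ι_whiskerLeft,
    HomologicalComplex.smul_f_apply, MonoidalLinear.whiskerLeft_smul, Linear.smul_comp]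

open Groth.Agent.Helper1.Koszul in
lemma smul_homology_eq_zero (L : DRing.Cx A) (x : A) (H : Homotopy (x • 𝟙 P) 0) (q : ℤ)
    (c : (L ⊗ P).homology q) : x • c = 0 := by
  have H' : Homotopy (x • 𝟙 (L ⊗ P)) 0 :=
    (Homotopy.ofEq (by rw [whiskerLeft_smul', MonoidalCategory.whiskerLeft_id])).trans
      ((whiskerLeftHomotopy L H).trans (Homotopy.ofEq (whiskerLeft_zero' L _ _)))
  have h1 : HomologicalComplex.homologyMap (x • 𝟙 (L ⊗ P)) q = HomologicalComplex.homologyMap 0 q :=
    H'.homologyMap_eq q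
  rw [homologyMap_smul', HomologicalComplex.homologyMap_id, HomologicalComplex.homologyMap_zero]
    at h1
  exact congrArg (fun g => g.hom c) h1

end Conditions

end Groth.Agent.Helper6.LTenAR2
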