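import Mathlib
import Groth.Prelude.Def_DTen3
import Groth.Agent.Helper6.DTenX2
import Groth.Agent.Helper6.DTenX4
import Groth.Agent.Helper6.ExtAR1
import Groth.Agent.Helper6.LTenAR1
import Groth.Agent.Helper6.LTenAR2

/-!
# `I^n M → M` factors through `I ⊗^L M → M`
-/

set_option autoImplicit false
set_option linter.style.haveILetI false
set_option linter.unusedSectionVars false

universe u
open CategoryTheory CategoryTheory.Limits MonoidalCategory DerivedCategory Pretriangulated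
attribute [local instance] HasDerivedCategory.standard

namespace Groth.Agent.Helper6.LTenAR3

open Groth.Agent.Helper6.TenCx Groth.Agent.Helper6.LTenAR Groth.Agent.Helper6.LTenAR2
open Groth.Agent.Helper6.GhostAR

variable {A : Type u} [CommRing A]

lemma kflat_unit : KFlat (𝟙_ (DRing.Cx A)) := by
  refine kflat_of_boundedAbove_flat _ 0 (fun i hi =>
    HomologicalComplex.isZero_single_obj_X (ComplexShape.up ℤ) 0 _ i (by omega)) (fun i => ?_)
  haveI := (Groth.Agent.Helper3.KPerfA.single_termwiseFiniteFree (ModuleCat.of A A) i).2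
  exact (inferInstance : Module.Flat A
    (((CochainComplex.singleFunctor (ModuleCat.{u} A) 0).obj (ModuleCat.of A A)).X i))

lemma Q_whiskerLeft_eq_zero (Kz : DRing.Cx A) {SN SM : DRing.Cx A} (f : SN ⟶ SM)
    (h : Q.map (f ▷ Kz) = 0) : Q.map (Kz ◁ f) = 0 := by
  have hn := DTen.braidCx_naturality (𝟙 Kz) f
  rw [MonoidalCategory.id_tensorHom, MonoidalCategory.tensorHom_id] at hn
  have h1 : Kz ◁ f = (DTen.braidCx Kz SN).hom ≫ (f ▷ Kz) ≫ (DTen.braidCx Kz SM).inv := by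
    rw [← Category.assoc, ← hn, Category.assoc, Iso.hom_inv_id, Category.comp_id]
  rw [h1, Functor.map_comp, Functor.map_comp, h, zero_comp, comp_zero]

variable [DTen.HasLTen A]

/-- `- ⊗^L M[0]` -/
noncomputable abbrev FM (M : ModuleCat.{u} A) : Dual.D A ⥤ Dual.D A :=
  (DTen.LTen A).flip.obj (Q.obj (LTenAR.Sg.obj M))

lemma comp_inv_cancel_aux {C : Type*} [Category C] {W X Y Z : C} (g : W ⟶ X) (m : X ⟶ Y)
    (u : Y ⟶ Z) [IsIso u] (k : W ⟶ Z) (h : g ≫ m = k ≫ inv u) : g ≫ m ≫ u = k := by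
  rw [← Category.assoc, h, Category.assoc, IsIso.inv_hom_id, Category.comp_id]

lemma comp_map_eq_zero_aux {C D : Type*} [Category C] [Category D] [HasZeroMorphisms D]
    (F : C ⥤ D) {W : D} {X Y Z : C} (g : W ⟶ F.obj X) (a : X ⟶ Y) (b : Y ⟶ Z)
    (h : g ≫ F.map a = 0) : g ≫ F.map (a ≫ b) = 0 := by
  rw [Functor.map_comp, ← Category.assoc, h, zero_comp]

/-- the short exact sequence `0 → I → A → A/I → 0` -/
noncomputable def scI (I : Ideal A) : ShortComplex (ModuleCat.{u} A) :=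
  ExtAR.sc I.subtype I.mkQ (LinearMap.ext fun x => by
    simpa using Ideal.Quotient.eq_zero_iff_mem.mpr x.2)

lemma scI_shortExact (I : Ideal A) : (scI I).ShortExact :=
  ExtAR.sc_shortExact I.subtype I.mkQ _
    (Submodule.injective_subtype _) (Submodule.mkQ_surjective _) (LinearMap.exact_subtype_mkQ I)

theorem reduction (I : Ideal A) (M N : ModuleCat.{u} A) (i : N ⟶ M) (Kz : DRing.Cx A)
    (hKz : KFlat Kz) (j : 𝟙_ (DRing.Cx A) ⟶ Kz)
    (p : Kz ⟶ LTenAR.Sg.obj (ModuleCat.of A (A ⧸ I)))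
    (hjp : j ≫ p = LTenAR.Sg.map (ModuleCat.ofHom I.mkQ))
    (hzero : Q.map (Kz ◁ LTenAR.Sg.map i) = 0) :
    ∃ g : Q.obj (LTenAR.Sg.obj N) ⟶
        (DTen.LTen₂ A).obj (Q.obj (LTenAR.Sg.obj (ModuleCat.of A ↥I)), Q.obj (LTenAR.Sg.obj M)),
      g ≫ (DTen.LTen₂ A).map (Prod.mkHom (Q.map (LTenAR.Sg.map (ModuleCat.ofHom I.subtype)))
          (𝟙 _)) ≫ (DTen.unitL A).app (Q.obj (LTenAR.Sg.obj M)) = Q.map (LTenAR.Sg.map i) := by
  have hF : DTenX.MidExact (FM M) := DTenX.midExact_LTen_flip_obj _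
  have hS := (scI_shortExact I).map_of_exact (LTenAR.Sg (A := A))
  have hT := DerivedCategory.triangleOfSES_distinguished hS
  -- the unit map is an isomorphism
  obtain ⟨u, hu⟩ : ∃ u : (FM M).obj (DTen.unit A) ⟶ Q.obj (LTenAR.Sg.obj M),
      u = (DTen.unitL A).app (Q.obj (LTenAR.Sg.obj M)) := ⟨_, rfl⟩
  have hu' : u = (DTen.ε A).app (𝟙_ (DRing.Cx A), LTenAR.Sg.obj M) ≫
      Q.map (λ_ (LTenAR.Sg.obj M)).hom := hu.trans (DTen.unitL_app A (LTenAR.Sg.obj M))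
  haveI : IsIso ((DTen.ε A).app (𝟙_ (DRing.Cx A), LTenAR.Sg.obj M)) :=
    TenCompute.isIso_ε_of_kflat A _ _ (Or.inl kflat_unit)
  haveI : IsIso u := by rw [hu']; infer_instance
  haveI hεK : IsIso ((DTen.ε A).app (Kz, LTenAR.Sg.obj M)) :=
    TenCompute.isIso_ε_of_kflat A _ _ (Or.inl hKz)
  have n1 : (FM M).map (Q.map j) ≫ (DTen.ε A).app (Kz, LTenAR.Sg.obj M) =
      (DTen.ε A).app (𝟙_ (DRing.Cx A), LTenAR.Sg.obj M) ≫ Q.map (j ▷ LTenAR.Sg.obj M) :=
    (DTen.εRight A (LTenAR.Sg.obj M)).naturality j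
  have h2 : inv u ≫ (DTen.ε A).app (𝟙_ (DRing.Cx A), LTenAR.Sg.obj M) =
      Q.map (λ_ (LTenAR.Sg.obj M)).inv := by
    rw [IsIso.inv_comp_eq, hu', Category.assoc, ← Functor.map_comp, Iso.hom_inv_id,
      CategoryTheory.Functor.map_id]
    exact (Category.comp_id _).symm
  have h3 : LTenAR.Sg.map i ≫ (λ_ (LTenAR.Sg.obj M)).inv ≫ (j ▷ LTenAR.Sg.obj M) =
      ((λ_ (LTenAR.Sg.obj N)).inv ≫ (j ▷ LTenAR.Sg.obj N)) ≫ (Kz ◁ LTenAR.Sg.map i) := by
    rw [← Category.assoc, leftUnitor_inv_naturality, Category.assoc, Category.assoc,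
      whisker_exchange]
  obtain ⟨g', hg'⟩ : ∃ g' : Q.obj (LTenAR.Sg.obj N) ⟶ (FM M).obj (DTen.unit A),
      g' = Q.map (LTenAR.Sg.map i) ≫ inv u := ⟨_, rfl⟩
  have h4 : g' ≫ (FM M).map (Q.map j) = 0 := by
    rw [hg', ← cancel_mono ((DTen.ε A).app (Kz, LTenAR.Sg.obj M)), zero_comp, Category.assoc,
      Category.assoc, n1, ← Category.assoc (inv u), h2, ← Functor.map_comp, ← Functor.map_comp,
      h3, Functor.map_comp, hzero, comp_zero]
  have hkey : g' ≫ (FM M).map (Q.map (LTenAR.Sg.map (ModuleCat.ofHom I.mkQ))) = 0 := by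
    have h5 := comp_map_eq_zero_aux (FM M) g' (Q.map j) (Q.map p) h4
    rw [← Functor.map_comp, hjp] at h5
    exact h5
  obtain ⟨g, hg⟩ := hF _ hT (Q.obj (LTenAR.Sg.obj N)) g' hkey
  refine ⟨g, ?_⟩
  obtain ⟨m, hm⟩ : ∃ m : (FM M).obj (Q.obj (LTenAR.Sg.obj (ModuleCat.of A ↥I))) ⟶
      (FM M).obj (DTen.unit A), m = (FM M).map (DerivedCategory.triangleOfSES hS).mor₁ :=
    ⟨_, rfl⟩
  have h6 := comp_inv_cancel_aux g m u (Q.map (LTenAR.Sg.map i)) (by
    rw [hm]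
    exact hg.trans hg')
  rw [hu, hm] at h6
  exact h6

theorem main (A : Type u) [CommRing A] [IsNoetherianRing A] [DTen.HasLTen A] (I : Ideal A)
    (M : Type u) [AddCommGroup M] [Module A M] [Module.Finite A M] :
    ∃ (n : ℕ) (_ : 0 < n)
      (g : Q.obj (LTenAR.Sg.obj (ModuleCat.of A ↥(I ^ n • (⊤ : Submodule A M)))) ⟶
        (DTen.LTen₂ A).obj (Q.obj (LTenAR.Sg.obj (ModuleCat.of A ↥I)),
          Q.obj (LTenAR.Sg.obj (ModuleCat.of A M)))),
      g ≫ (DTen.LTen₂ A).map (Prod.mkHom (Q.map (LTenAR.Sg.map (ModuleCat.ofHom I.subtype)))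
          (𝟙 _)) ≫ (DTen.unitL A).app (Q.obj (LTenAR.Sg.obj (ModuleCat.of A M))) =
        Q.map (LTenAR.Sg.map (ModuleCat.ofHom (I ^ n • (⊤ : Submodule A M)).subtype)) := by
  obtain ⟨s, hs⟩ := (IsNoetherian.noetherian I : I.FG)
  obtain ⟨l, hl⟩ : ∃ l : List A, Ideal.span {x | x ∈ l} = I := by
    refine ⟨s.toList, ?_⟩
    have : {x : A | x ∈ s.toList} = (s : Set A) := by ext x; simp
    rw [this]
    exact hs
  have hmem : ∀ x ∈ l, x ∈ I := fun x hx => hl ▸ Ideal.subset_span hx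
  have hflat : ∀ q, Module.Flat A ((Koszul.koszul A l).X q) := koszul_flat l
  have hKz : KFlat (Koszul.koszul A l) :=
    kflat_of_boundedAbove_flat _ 0 (fun i hi => koszul_isZero l i (Or.inr hi)) hflat
  obtain ⟨n0, hn0⟩ := (dataTen I M (Koszul.koszul A l) hflat).main (-(l.length : ℤ)) 0
    (fun q hq => isZero_X _ _ q (koszul_isZero l q hq))
    (fun q => by
      haveI := koszul_finite l q
      exact finite_X (ModuleCat.of A M) (Koszul.koszul A l) q)
    (fun q x hx c => by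
      obtain ⟨H⟩ := koszul_null l x (hl ▸ hx)
      exact smul_homology_eq_zero (Koszul.koszul A l) _ x H q c)
  have hz : Q.map ((dataTen I M (Koszul.koszul A l) hflat).μ (n0 + 1)) = 0 := by
    have h1 := hn0 1 (Nat.le_add_left 1 n0)
    rw [← (dataTen I M (Koszul.koszul A l) hflat).t_μ 1 (n0 + 1) (Nat.le_add_left 1 n0),
      Functor.map_comp, h1, zero_comp]
  refine ⟨n0 + 1, Nat.succ_pos _, ?_⟩
  exact reduction I (ModuleCat.of A M) (ModuleCat.of A ↥(I ^ (n0 + 1) • (⊤ : Submodule A M)))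
    (ModuleCat.ofHom (I ^ (n0 + 1) • (⊤ : Submodule A M)).subtype) (Koszul.koszul A l) hKz
    (jK l) (pK I l hmem) (jK_pK I l hmem) (Q_whiskerLeft_eq_zero _ _ hz)

end Groth.Agent.Helper6.LTenAR3
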