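import Mathlib

set_option backward.isDefEq.respectTransparency false
set_option backward.isDefEq.respectTransparency.types false
set_option autoImplicit false

universe u

open CategoryTheory CategoryTheory.Limits Opposite

namespace Groth.Agent.Helper6.LanInd

section Y

variable {C : Type u} [SmallCategory C] {I : Type u} [SmallCategory I] [IsFiltered I]
  (D : I ⥤ C) {c : Cocone (D ⋙ yoneda)} (hc : IsColimit c)

include hc in
/-- a map from a representable to a filtered colimit of representables factors through a stage -/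
lemma exists_fac {Z : C} (φ : yoneda.obj Z ⟶ c.pt) :
    ∃ (j : I) (f : Z ⟶ D.obj j), φ = yoneda.map f ≫ c.ι.app j := by
  have hEV : IsColimit (((evaluation Cᵒᵖ (Type u)).obj (op Z)).mapCocone c) :=
    isColimitOfPreserves _ hc
  obtain ⟨j, f, hf⟩ := Types.jointly_surjective_of_isColimit hEV (yonedaEquiv φ)
  refine ⟨j, f, ?_⟩
  apply yonedaEquiv.injective
  rw [yonedaEquiv_comp, yonedaEquiv_yoneda_map]
  exact hf.symm

include hc in
lemma exists_eq {Z : C} {j : I} (f g : Z ⟶ D.obj j)
    (h : yoneda.map f ≫ c.ι.app j = yoneda.map g ≫ c.ι.app j) :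
    ∃ (k : I) (t : j ⟶ k), f ≫ D.map t = g ≫ D.map t := by
  have hEV : IsColimit (((evaluation Cᵒᵖ (Type u)).obj (op Z)).mapCocone c) :=
    isColimitOfPreserves _ hc
  have h' := congrArg yonedaEquiv h
  rw [yonedaEquiv_comp, yonedaEquiv_comp, yonedaEquiv_yoneda_map, yonedaEquiv_yoneda_map] at h'
  obtain ⟨k, t, ht⟩ := (Types.FilteredColimit.isColimit_eq_iff' hEV f g).1 h'
  exact ⟨k, t, ht⟩

include hc in
/-- common stage version -/
lemma exists_fac₂ {Z : C} (φ ψ : yoneda.obj Z ⟶ c.pt) :
    ∃ (j : I) (f g : Z ⟶ D.obj j), φ = yoneda.map f ≫ c.ι.app j ∧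
      ψ = yoneda.map g ≫ c.ι.app j := by
  obtain ⟨j₁, f, hf⟩ := exists_fac D hc φ
  obtain ⟨j₂, g, hg⟩ := exists_fac D hc ψ
  refine ⟨IsFiltered.max j₁ j₂, f ≫ D.map (IsFiltered.leftToMax j₁ j₂),
    g ≫ D.map (IsFiltered.rightToMax j₁ j₂), ?_, ?_⟩
  · rw [hf, yoneda.map_comp, Category.assoc]
    congr 1
    exact (c.w (IsFiltered.leftToMax j₁ j₂)).symm
  · rw [hg, yoneda.map_comp, Category.assoc]
    congr 1
    exact (c.w (IsFiltered.rightToMax j₁ j₂)).symm

end Y

variable {C : Type u} [SmallCategory C] {C' : Type u} [SmallCategory C'] (u : C ⥤ C')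

/-- the left Kan extension functor on presheaves -/
noncomputable abbrev lan : (Cᵒᵖ ⥤ Type u) ⥤ (C'ᵒᵖ ⥤ Type u) := u.op.lan

/-- `u_!` of a representable is representable -/
noncomputable def κ : u ⋙ yoneda ≅ yoneda ⋙ lan u :=
  Functor.isoWhiskerLeft u (uliftYonedaIsoYoneda.{u}).symm ≪≫
    Presheaf.compULiftYonedaIsoULiftYonedaCompLan.{u} u ≪≫
    Functor.isoWhiskerRight (uliftYonedaIsoYoneda.{u}) (lan u)

lemma lan_map_yoneda {X Y : C} (f : X ⟶ Y) :
    (lan u).map (yoneda.map f) =
      (κ u).inv.app X ≫ yoneda.map (u.map f) ≫ (κ u).hom.app Y := by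
  have h := (κ u).hom.naturality f
  calc (lan u).map (yoneda.map f)
      = (κ u).inv.app X ≫ (κ u).hom.app X ≫ (lan u).map (yoneda.map f) := by
        rw [Iso.inv_hom_id_app_assoc]
    _ = (κ u).inv.app X ≫ yoneda.map (u.map f) ≫ (κ u).hom.app Y := by
        congr 1
        exact h.symm


instance : PreservesColimitsOfSize.{u, u} (lan u) :=
  (u.op.lanAdjunction (Type u)).leftAdjoint_preservesColimits

section Main

variable {F G : Cᵒᵖ ⥤ Type u}

/-- the cocone presenting `u_! G` as a filtered colimit of representables -/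
noncomputable def lanCocone (P : IndObjectPresentation G) : Cocone ((P.F ⋙ u) ⋙ yoneda) :=
  (Cocone.precompose (Functor.isoWhiskerLeft P.F (κ u)).hom).obj ((lan u).mapCocone P.cocone)

lemma lanCocone_ι (P : IndObjectPresentation G) (j : P.I) :
    (lanCocone u P).ι.app j = (κ u).hom.app (P.F.obj j) ≫ (lan u).map (P.cocone.ι.app j) := rfl

noncomputable def isColimitLanCocone (P : IndObjectPresentation G) :
    IsColimit (lanCocone u P) :=
  (IsColimit.precomposeHomEquiv (Functor.isoWhiskerLeft P.F (κ u))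
    ((lan u).mapCocone P.cocone)).symm (isColimitOfPreserves (lan u) P.coconeIsColimit)

theorem lan_map_injective [u.Faithful] (PF : IndObjectPresentation F)
    (PG : IndObjectPresentation G) (φ ψ : F ⟶ G) (h : (lan u).map φ = (lan u).map ψ) :
    φ = ψ := by
  apply PF.coconeIsColimit.hom_ext
  intro i
  obtain ⟨k, f, g, hf, hg⟩ := exists_fac₂ PG.F PG.coconeIsColimit
    (PF.cocone.ι.app i ≫ φ) (PF.cocone.ι.app i ≫ ψ)
  have h1 : (lan u).map (PF.cocone.ι.app i ≫ φ) = (lan u).map (PF.cocone.ι.app i ≫ ψ) := by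
    rw [Functor.map_comp, Functor.map_comp, h]
  rw [hf, hg]
  rw [hf, hg, Functor.map_comp, Functor.map_comp, lan_map_yoneda, lan_map_yoneda] at h1
  have h2 : yoneda.map (u.map f) ≫ (lanCocone u PG).ι.app k =
      yoneda.map (u.map g) ≫ (lanCocone u PG).ι.app k := by
    rw [lanCocone_ι]
    simp only [Category.assoc] at h1
    exact (cancel_epi ((κ u).inv.app _)).1 h1
  obtain ⟨k', t, ht⟩ := exists_eq (PG.F ⋙ u) (isColimitLanCocone u PG) _ _ h2
  have ht' : f ≫ PG.F.map t = g ≫ PG.F.map t := by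
    apply u.map_injective
    rw [u.map_comp, u.map_comp]
    exact ht
  have w := PG.cocone.w t
  rw [← w, ← Category.assoc, ← Category.assoc]
  congr 1
  change yoneda.map f ≫ yoneda.map (PG.F.map t) = yoneda.map g ≫ yoneda.map (PG.F.map t)
  rw [← yoneda.map_comp, ← yoneda.map_comp, ht']

theorem lan_map_surjective [u.Full] [u.Faithful] (PF : IndObjectPresentation F)
    (PG : IndObjectPresentation G) (χ : (lan u).obj F ⟶ (lan u).obj G) :
    ∃ φ : F ⟶ G, (lan u).map φ = χ := by
  have hex : ∀ i : PF.I, ∃ φi : yoneda.obj (PF.F.obj i) ⟶ G,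
      (lan u).map φi = (lan u).map (PF.cocone.ι.app i) ≫ χ := by
    intro i
    obtain ⟨j, h, hh⟩ := exists_fac (PG.F ⋙ u) (isColimitLanCocone u PG)
      ((κ u).hom.app (PF.F.obj i) ≫ (lan u).map (PF.cocone.ι.app i) ≫ χ)
    refine ⟨yoneda.map (u.preimage h) ≫ PG.cocone.ι.app j, ?_⟩
    rw [Functor.map_comp, lan_map_yoneda, u.map_preimage]
    rw [lanCocone_ι] at hh
    simp only [Category.assoc]
    rw [← hh, Iso.inv_hom_id_app_assoc]
  choose φi hφi using hex
  let c : Cocone (PF.F ⋙ yoneda) :=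
    { pt := G
      ι :=
        { app := φi
          naturality := by
            intro i i' a
            simp only [Functor.const_obj_obj, Functor.const_obj_map, Category.comp_id]
            apply lan_map_injective u (IndObjectPresentation.yoneda (PF.F.obj i)) PG
            rw [Functor.map_comp, hφi i, hφi i', ← Category.assoc, ← Functor.map_comp]
            congr 2
            exact PF.cocone.w a } }
  refine ⟨PF.coconeIsColimit.desc c, ?_⟩
  apply (isColimitOfPreserves (lan u) PF.coconeIsColimit).hom_ext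
  intro i
  change (lan u).map (PF.cocone.ι.app i) ≫ (lan u).map (PF.coconeIsColimit.desc c) =
    (lan u).map (PF.cocone.ι.app i) ≫ χ
  rw [← Functor.map_comp, PF.coconeIsColimit.fac]
  exact hφi i

theorem faithful_iff : u.Faithful ↔ ∀ (F G : Cᵒᵖ ⥤ Type u), IsIndObject F → IsIndObject G →
    Function.Injective (fun φ : F ⟶ G => (lan u).map φ) := by
  constructor
  · intro _ F G hF hG φ ψ h
    exact lan_map_injective u hF.presentation hG.presentation φ ψ h
  · intro H
    constructor
    intro X Y f g hfg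
    apply yoneda.map_injective
    apply H _ _ (isIndObject_yoneda X) (isIndObject_yoneda Y)
    change (lan u).map (yoneda.map f) = (lan u).map (yoneda.map g)
    rw [lan_map_yoneda, lan_map_yoneda, hfg]

theorem fullyFaithful_iff : (u.Full ∧ u.Faithful) ↔
    ∀ (F G : Cᵒᵖ ⥤ Type u), IsIndObject F → IsIndObject G →
      Function.Bijective (fun φ : F ⟶ G => (lan u).map φ) := by
  constructor
  · rintro ⟨_, _⟩ F G hF hG
    exact ⟨fun φ ψ h => lan_map_injective u hF.presentation hG.presentation φ ψ h,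
      fun χ => lan_map_surjective u hF.presentation hG.presentation χ⟩
  · intro H
    have hfaith : u.Faithful := (faithful_iff u).2 (fun F G hF hG => (H F G hF hG).1)
    refine ⟨⟨?_⟩, hfaith⟩
    intro X Y h
    obtain ⟨φ, hφ⟩ := (H _ _ (isIndObject_yoneda X) (isIndObject_yoneda Y)).2
      ((κ u).inv.app X ≫ yoneda.map h ≫ (κ u).hom.app Y)
    refine ⟨yoneda.preimage φ, ?_⟩
    apply yoneda.map_injective
    have hφ' : (lan u).map (yoneda.map (yoneda.preimage φ)) =
        (κ u).inv.app X ≫ yoneda.map h ≫ (κ u).hom.app Y := by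
      rw [yoneda.map_preimage]
      exact hφ
    rw [lan_map_yoneda] at hφ'
    have h3 := (cancel_epi ((κ u).inv.app X)).1 hφ'
    exact (cancel_mono ((κ u).hom.app Y)).1 h3

end Main

end Groth.Agent.Helper6.LanInd
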