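import Mathlib
import Groth.Agent.Helper6.OpenSub5

/-!
# Helper6: open substacks VI — the open substack which is the image of an open subspace of a chart
-/

set_option autoImplicit false
set_option linter.style.haveILetI false
set_option linter.unusedVariables false
universe u

namespace Groth.Agent.Helper6.OpenSub6
open CategoryTheory Functor FibCat Limits AlgebraicGeometry Opposite
open Groth.Agent.Helper3 Stk Groth.Agent.Helper6.OfPsh Groth.Agent.Helper6.OfPshHom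
open Groth.Agent.Helper6.FpTools Groth.Agent.Helper6.OfPshFp Groth.Agent.Helper6.AlgStRep
open Groth.Agent.Helper6.AlgStEquiv Groth.Agent.Helper6.AlgStInv Groth.Agent.Helper6.AlgStPsh
open Groth.Agent.Helper6.DiagRed Groth.Agent.Helper6.RepDiag Groth.Agent.Helper6.RepComp
open Groth.Agent.Helper6.DiagRep Groth.Agent.Helper6.AlgStPts Groth.Agent.Helper6.StPts
open Groth.Agent.Helper6.SmLoc Groth.Agent.Helper6.ChartOver Groth.Agent.Helper6.StTop
open Groth.Agent.Helper6.QcMor2 Groth.Agent.Helper6.SpAtlas Groth.Agent.Helper4.SDClasses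
open Groth.Agent.Helper6.Descent1 Groth.Agent.Helper6.Descent2 Groth.Agent.Helper6.LocQ0
open Groth.Agent.Helper6.LocQ1 Groth.Agent.Helper6.LocQ2 Groth.Agent.Helper6.AlgStBC
open Groth.Agent.Helper6.OverRep Groth.Agent.Helper6.LocQ3 Groth.Agent.Helper6.LocQ4
open Groth.Agent.Helper6.FlatST Groth.Agent.Helper6.DiagLft Groth.Agent.Helper6.ToSpace
open Groth.Agent.Helper6.LocQ5 Groth.Agent.Helper6.OpenSub1 Groth.Agent.Helper6.OpenSub2
open Groth.Agent.Helper6.OpenSub3 Groth.Agent.Helper6.OpenSub4 Groth.Agent.Helper6.OpenSub5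
open AlgSp


variable {S : Scheme.{u}} {𝒳 𝒴 : AlgSt.Cat S}

set_option backward.isDefEq.respectTransparency.types false in
/-- the open substack swept out by a smooth functor from an algebraic space -/
theorem exists_open_image (h𝒳 : AlgSt.IsAlgStack Scheme.fppfPrecoverage 𝒳) (V : AlgSp.Space S)
    (v : AlgSt.ofSp V.obj ⥤ᵇ 𝒳) (hv : AlgSt.RepByAlgSpWith (LocP @Smooth) v) :
    ∃ (Q : 𝒳.obj → Prop) (g : AlgSt.ofSp V.obj ⥤ᵇ AlgSt.fullSub 𝒳 Q),
      AlgSt.IsOpenSubstack 𝒳 Q Scheme.fppfPrecoverage ∧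
        AlgSt.RepByAlgSpWith (LocP @Smooth) g ∧ AlgSt.RepByAlgSpWith IsSurjectiveMor g ∧
          BasedFunctor.comp g (AlgSt.subIncl 𝒳 Q) = v := by
  have hX : IsFibGrpd 𝒳.p := h𝒳.isStack.1
  let T : Set (AlgSt.Points 𝒳) := Set.range (AlgSt.Points.map v)
  have hT : IsOpen T :=
    (isOpenMap_points_map_of_flat_lfp hX V v (repByAlgSpWith_mono smooth_le_flat hv)
      (repByAlgSpWith_mono smooth_le_lfp hv)).isOpen_range
  have hQ := isOpenSubstack_QT T h𝒳 hT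
  have hfull : IsFibGrpd (AlgSt.fullSub 𝒳 (QT T)).p := hQ.2.1.isStack.1
  have hland : ∀ a, QT T (v.obj a) :=
    (QT_obj_iff T (isFibGrpd_ofSp _) hX v).2 (fun q => ⟨q, rfl⟩)
  let g : AlgSt.ofSp V.obj ⥤ᵇ AlgSt.fullSub 𝒳 (QT T) := liftSub (QT T) v hland
  have hsm : AlgSt.RepByAlgSpWith (LocP @Smooth) g :=
    rep_of_comp_fullyFaithful (LocP @Smooth) (AlgSt.subIncl 𝒳 (QT T)) g hv
  refine ⟨QT T, g, hQ, hsm, ?_, rfl⟩
  refine rep_surj_of_isSurjective (isFibGrpd_ofSp _) hfull g (repByAlgSp1_of_with hsm) ?_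
  intro q
  have hq : AlgSt.Points.map (AlgSt.subIncl 𝒳 (QT T)) q ∈ T := (range_subIncl_QT T).le ⟨q, rfl⟩
  obtain ⟨w, hw⟩ := hq
  refine ⟨w, points_map_injective_of_full hfull hX (AlgSt.subIncl 𝒳 (QT T)) ?_⟩
  rw [← points_map_comp g (AlgSt.subIncl 𝒳 (QT T))]
  exact hw

set_option backward.isDefEq.respectTransparency.types false in
/-- S12860 -/
theorem exists_isOpenImm_image (h𝒳 : AlgSt.IsAlgStack Scheme.fppfPrecoverage 𝒳) (U : AlgSp.Space S)
    (u : AlgSt.ofSp U.obj ⥤ᵇ 𝒳)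
    (hu₁ : AlgSt.RepByAlgSpWith (AlgSp.LocP @Smooth) u)
    (V : AlgSp.Space S) (j : V ⟶ U) (hj : AlgSp.RepWith @IsOpenImmersion j.hom) :
    ∃ (𝒴 : AlgSt.Cat S) (i : 𝒴 ⥤ᵇ 𝒳) (g : AlgSt.ofSp V.obj ⥤ᵇ 𝒴),
      AlgSt.IsAlgStack Scheme.fppfPrecoverage 𝒴 ∧ AlgSt.IsOpenImm i ∧
        AlgSt.RepByAlgSpWith (AlgSp.LocP @Smooth) g ∧ AlgSt.RepByAlgSpWith AlgSp.IsSurjectiveMor g ∧
          Nonempty (BasedFunctor.comp g i ≅ BasedFunctor.comp (AlgSt.ofSpMap j.hom) u) := by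
  have hjs : LocP @Smooth j.hom := by
    haveI := good_smooth.{u}.comp
    exact Groth.Agent.Helper4.AlgSpLocP.locP_of_repWith @Smooth @IsOpenImmersion
      (fun g hg => by haveI := hg; infer_instance) (fun g hg => good_smooth.etale_le g hg) j.hom hj
  have hv : AlgSt.RepByAlgSpWith (LocP @Smooth) (BasedFunctor.comp (AlgSt.ofSpMap j.hom) u) :=
    Groth.Agent.Helper6.RepComp.repByAlgSpWith_comp (isFibGrpd_ofSp _) (isFibGrpd_ofSp _) _
      (locP_comp' _ good_smooth) Groth.Agent.Helper6.LocalFppf.smooth _ u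
      (rep_ofSpMap (LocP @Smooth) smooth_bc V.property U.property j.hom hjs) hu₁
  obtain ⟨Q, g, hQ, hg₁, hg₂, hgi⟩ := exists_open_image h𝒳 V _ hv
  exact ⟨AlgSt.fullSub 𝒳 Q, AlgSt.subIncl 𝒳 Q, g, hQ.2.1, hQ.2.2, hg₁, hg₂, ⟨eqToIso hgi⟩⟩

end Groth.Agent.Helper6.OpenSub6
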