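import Mathlib
import Groth.Prelude.Def_FibCat2
import Groth.Agent.Helper3.EquivOver
import Groth.Agent.Helper3.Fp
import Groth.Agent.Helper6.FpTools
import Groth.Agent.Helper6.FpPaste
import Groth.Agent.Helper6.FpCospan

/-!
# Helper6: the two projections `(𝒢₁ ×_𝒴 𝒳) ⇉ 𝒢 ×_𝒴 𝒳` attached to `𝒢₁ ⇉ 𝒢` over `𝒴`

Given `w : 𝒢 ⟶ 𝒴`, `f : 𝒳 ⟶ 𝒴`, `h : 𝒢₁ ⟶ 𝒢`, `w₁ : 𝒢₁ ⟶ 𝒴` and `κ : h ≫ w ≅ w₁` there is the functor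
`Dfun : 𝒢₁ ×_𝒴 𝒳 ⟶ 𝒢 ×_𝒴 𝒳`.  For two such `(h₁, κ₁)`, `(h₂, κ₂)` with
`(h₁, h₂) : 𝒢₁ ⟶ 𝒢 ×_𝒴 𝒢` essentially surjective, the induced functor
`𝒢₁ ×_𝒴 𝒳 ⟶ (𝒢 ×_𝒴 𝒳) ×_𝒳 (𝒢 ×_𝒴 𝒳)` is essentially surjective.
-/

set_option autoImplicit false
set_option linter.style.haveILetI false
universe v₇ u₇ v₆ u₆ v₅ u₅ v₄ u₄ v₃ u₃ v₂ u₂ v u

namespace Groth.Agent.Helper6.TwoProj
open CategoryTheory Functor FibCat Limits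
open Groth.Agent.Helper3 Groth.Agent.Helper6.FpTools

variable {C : Type u} [Category.{v} C]

section General

variable {𝒢 : BasedCategory.{v₂, u₂} C} {𝒳 : BasedCategory.{v₃, u₃} C} {𝒴 : BasedCategory.{v₄, u₄} C}
  {𝒢₁ : BasedCategory.{v₅, u₅} C}
  (f : 𝒳 ⥤ᵇ 𝒴) (w : 𝒢 ⥤ᵇ 𝒴) (h : 𝒢₁ ⥤ᵇ 𝒢) (w₁ : 𝒢₁ ⥤ᵇ 𝒴)
  (κ : BasedFunctor.comp h w ≅ w₁)

/-- the comparison `𝒢₁ ×_{w₁} 𝒳 ⟶ 𝒢₁ ×_{h ≫ w} 𝒳` -/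
def Afun : fp w₁ f ⥤ᵇ fp (BasedFunctor.comp h w) f :=
  cospanFunctor (BasedFunctor.comp h w) f w₁ f (BasedFunctor.id _) (BasedFunctor.id _)
    (BasedFunctor.id _)
    (κ.symm : BasedFunctor.comp w₁ (BasedFunctor.id _) ≅
      BasedFunctor.comp (BasedFunctor.id _) (BasedFunctor.comp h w))
    (Iso.refl _ : BasedFunctor.comp f (BasedFunctor.id _) ≅ BasedFunctor.comp (BasedFunctor.id _) f)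

theorem isEquivOver_Afun : IsEquivOver (Afun f w h w₁ κ) :=
  isEquivOver_cospanFunctor _ _ _ _ _ _ _ _ _ (isEquivOver_id _) (isEquivOver_id _)
    (isEquivOver_id _)

/-- the functor `𝒢₁ ×_𝒴 𝒳 ⟶ 𝒢 ×_𝒴 𝒳` -/
def Dfun : fp w₁ f ⥤ᵇ fp w f :=
  BasedFunctor.comp (Afun f w h w₁ κ) (pasteInner h w f)

theorem Dfun_comp_fpSnd : BasedFunctor.comp (Dfun f w h w₁ κ) (fpSnd w f) = fpSnd w₁ f := rfl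

theorem Dfun_comp_fpFst :
    BasedFunctor.comp (Dfun f w h w₁ κ) (fpFst w f) = BasedFunctor.comp (fpFst w₁ f) h := rfl

theorem Dfun_obj_iso_hom (ρ : (fp w₁ f).obj) :
    ((Dfun f w h w₁ κ).obj ρ).obj.iso.hom = (appIso κ ρ.obj.fst).hom ≫ ρ.obj.iso.hom := by
  change (appIso κ.symm ρ.obj.fst).inv ≫ ρ.obj.iso.hom ≫ 𝟙 _ = _
  rw [Category.comp_id]
  rfl

end General

section Two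

variable {𝒢 : BasedCategory.{v₂, u₂} C} {𝒳 : BasedCategory.{v₃, u₃} C} {𝒴 : BasedCategory.{v₄, u₄} C}
  {𝒢₁ : BasedCategory.{v₅, u₅} C}
  (f : 𝒳 ⥤ᵇ 𝒴) (w : 𝒢 ⥤ᵇ 𝒴) (h₁ h₂ : 𝒢₁ ⥤ᵇ 𝒢) (w₁ : 𝒢₁ ⥤ᵇ 𝒴)
  (κ₁ : BasedFunctor.comp h₁ w ≅ w₁) (κ₂ : BasedFunctor.comp h₂ w ≅ w₁)

/-- `(h₁, h₂) : 𝒢₁ ⟶ 𝒢 ×_𝒴 𝒢` -/
def Lam : 𝒢₁ ⥤ᵇ fp w w := fpLift h₁ h₂ (κ₁ ≪≫ κ₂.symm)

theorem Lam_obj_iso_hom (u : 𝒢₁.obj) :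
    ((Lam w h₁ h₂ w₁ κ₁ κ₂).obj u).obj.iso.hom = (appIso κ₁ u).hom ≫ (appIso κ₂ u).inv := rfl

/-- the functor `𝒢₁ ×_𝒴 𝒳 ⟶ (𝒢 ×_𝒴 𝒳) ×_𝒳 (𝒢 ×_𝒴 𝒳)` given by the two projections -/
def Xi : fp w₁ f ⥤ᵇ fp (fpSnd w f) (fpSnd w f) :=
  fpLift (Dfun f w h₁ w₁ κ₁) (Dfun f w h₂ w₁ κ₂) (Iso.refl _)

theorem Xi_comp_fpFst :
    BasedFunctor.comp (Xi f w h₁ h₂ w₁ κ₁ κ₂) (fpFst _ _) = Dfun f w h₁ w₁ κ₁ := rfl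

theorem Xi_comp_fpSnd :
    BasedFunctor.comp (Xi f w h₁ h₂ w₁ κ₁ κ₂) (fpSnd _ _) = Dfun f w h₂ w₁ κ₂ := rfl

theorem two_aux {D : Type u₂} [Category.{v₂} D] {A B A' B' M X X' : D} (wφ₁ : A' ⟶ A) (wφ₂ : B' ⟶ B)
    (α : A ≅ X) (α' : B ≅ X') (fβ : X ⟶ X') (k₁ : A' ≅ M) (k₂ : B' ≅ M)
    (hc : wφ₁ ≫ (α.hom ≫ fβ ≫ α'.inv) = (k₁.hom ≫ k₂.inv) ≫ wφ₂) :
    wφ₂ ≫ α'.hom = (k₂.hom ≫ k₁.inv ≫ wφ₁ ≫ α.hom) ≫ fβ := by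
  have h1 : wφ₁ ≫ α.hom ≫ fβ = (k₁.hom ≫ k₂.inv) ≫ wφ₂ ≫ α'.hom := by
    have := congrArg (fun t => t ≫ α'.hom) hc
    simpa using this
  simp only [Category.assoc]
  rw [h1]
  simp

theorem Xi_essSurj
    (hΛ : ∀ z : (fp w w).obj, ∃ (u : 𝒢₁.obj) (e : (Lam w h₁ h₂ w₁ κ₁ κ₂).obj u ≅ z),
      (fp w w).p.IsHomLift (𝟙 ((fp w w).p.obj z)) e.hom)
    (z : (fp (fpSnd w f) (fpSnd w f)).obj) :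
    ∃ (ρ : (fp w₁ f).obj) (e : (Xi f w h₁ h₂ w₁ κ₁ κ₂).obj ρ ≅ z),
      (fp (fpSnd w f) (fpSnd w f)).p.IsHomLift
        (𝟙 ((fp (fpSnd w f) (fpSnd w f)).p.obj z)) e.hom := by
  let ω : (fp w f).obj := z.obj.fst
  let ξ : (fp w f).obj := z.obj.snd
  let β : ω.obj.snd ≅ ξ.obj.snd := z.obj.iso
  let a : 𝒢.obj := ω.obj.fst
  let b : 𝒢.obj := ξ.obj.fst
  let α : w.obj a ≅ f.obj ω.obj.snd := ω.obj.iso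
  let α' : w.obj b ≅ f.obj ξ.obj.snd := ξ.obj.iso
  have lβ : 𝒳.p.IsHomLift (𝟙 (𝒢.p.obj a)) β.hom := z.property
  have lα : 𝒴.p.IsHomLift (𝟙 (𝒢.p.obj a)) α.hom := ω.property
  have lα' : 𝒴.p.IsHomLift (𝟙 (𝒢.p.obj b)) α'.hom := ξ.property
  have hSx : 𝒳.p.obj ξ.obj.snd = 𝒢.p.obj a := IsHomLift.codomain_eq 𝒳.p (𝟙 (𝒢.p.obj a)) β.hom
  have hSb : 𝒢.p.obj b = 𝒢.p.obj a := (Fp.snd_obj_eq w f ξ).symm.trans hSx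
  have lα'' : 𝒴.p.IsHomLift (𝟙 (𝒢.p.obj a)) α'.hom := lift_id_transport hSb _ lα'
  haveI := lα''
  have lα'i : 𝒴.p.IsHomLift (𝟙 (𝒢.p.obj a)) α'.inv := inferInstance
  haveI := lβ
  have lfβ : 𝒴.p.IsHomLift (𝟙 (𝒢.p.obj a)) (f.map β.hom) := inferInstance
  let γ : w.obj a ≅ w.obj b := α ≪≫ f.toFunctor.mapIso β ≪≫ α'.symm
  have hγ : γ.hom = α.hom ≫ f.map β.hom ≫ α'.inv := rfl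
  have lγ : 𝒴.p.IsHomLift (𝟙 (𝒢.p.obj a)) γ.hom := by
    rw [hγ]
    exact lift_id_comp' _ _ lα (lift_id_comp' _ _ lfβ lα'i)
  let zz : (fp w w).obj := ⟨⟨a, b, γ⟩, lγ⟩
  obtain ⟨u, φ, hφ⟩ := hΛ zz
  have hφ' : (fp w w).p.IsHomLift (𝟙 (𝒢.p.obj a)) φ.hom := hφ
  haveI := hφ'
  let φ₁ : h₁.obj u ≅ a := (fpFst w w).toFunctor.mapIso φ
  let φ₂ : h₂.obj u ≅ b := (fpSnd w w).toFunctor.mapIso φ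
  have lφ₁ : 𝒢.p.IsHomLift (𝟙 (𝒢.p.obj a)) φ₁.hom := by
    change 𝒢.p.IsHomLift (𝟙 (𝒢.p.obj a)) ((fpFst w w).map φ.hom)
    infer_instance
  have lφ₂ : 𝒢.p.IsHomLift (𝟙 (𝒢.p.obj a)) φ₂.hom := by
    change 𝒢.p.IsHomLift (𝟙 (𝒢.p.obj a)) ((fpSnd w w).map φ.hom)
    infer_instance
  have hS : 𝒢₁.p.obj u = 𝒢.p.obj a :=
    (h₁.w_obj u).symm.trans (IsHomLift.domain_eq 𝒢.p (𝟙 (𝒢.p.obj a)) φ₁.hom)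
  have hc : w.map φ₁.hom ≫ γ.hom = ((appIso κ₁ u).hom ≫ (appIso κ₂ u).inv) ≫ w.map φ₂.hom :=
    φ.hom.hom.w
  -- the object
  let τ : w₁.obj u ≅ f.obj ω.obj.snd := (appIso κ₁ u).symm ≪≫ w.toFunctor.mapIso φ₁ ≪≫ α
  have hτ : τ.hom = (appIso κ₁ u).inv ≫ w.map φ₁.hom ≫ α.hom := rfl
  have l1 : 𝒴.p.IsHomLift (𝟙 (𝒢.p.obj a)) (appIso κ₁ u).inv := appIso_inv_lift κ₁ u hS
  haveI := lφ₁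
  have l2 : 𝒴.p.IsHomLift (𝟙 (𝒢.p.obj a)) (w.map φ₁.hom) := inferInstance
  have lτ : 𝒴.p.IsHomLift (𝟙 (𝒢₁.p.obj u)) τ.hom := by
    rw [hτ]
    exact lift_id_transport hS.symm _ (lift_id_comp' _ _ l1 (lift_id_comp' _ _ l2 lα))
  let ρ : (fp w₁ f).obj := ⟨⟨u, ω.obj.snd, τ⟩, lτ⟩
  let iso₁ : (Dfun f w h₁ w₁ κ₁).obj ρ ≅ ω :=
    fpMkIso (x := (Dfun f w h₁ w₁ κ₁).obj ρ) (z := ω) φ₁ (Iso.refl _) (by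
      rw [Dfun_obj_iso_hom]
      change w.map φ₁.hom ≫ α.hom = ((appIso κ₁ u).hom ≫ τ.hom) ≫ f.map (𝟙 _)
      rw [hτ, f.toFunctor.map_id, Category.comp_id]
      exact (Iso.hom_inv_id_assoc _ _).symm)
  let iso₂ : (Dfun f w h₂ w₁ κ₂).obj ρ ≅ ξ :=
    fpMkIso (x := (Dfun f w h₂ w₁ κ₂).obj ρ) (z := ξ) φ₂ β (by
      rw [Dfun_obj_iso_hom]
      change w.map φ₂.hom ≫ α'.hom = ((appIso κ₂ u).hom ≫ τ.hom) ≫ f.map β.hom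
      rw [hτ]
      exact two_aux _ _ α α' (f.map β.hom) (appIso κ₁ u) (appIso κ₂ u) hc)
  have li₁ : (fp w f).p.IsHomLift (𝟙 (𝒢.p.obj a)) iso₁.hom := fpMkIso_lift _ _ _ lφ₁
  refine ⟨ρ, fpMkIso (x := (Xi f w h₁ h₂ w₁ κ₁ κ₂).obj ρ) (z := z) iso₁ iso₂ ?_, ?_⟩
  · change (iso₁.hom).hom.snd ≫ β.hom = 𝟙 _ ≫ (iso₂.hom).hom.snd
    rw [Category.id_comp]
    change 𝟙 _ ≫ β.hom = β.hom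
    rw [Category.id_comp]
  · exact fpMkIso_lift _ _ _ li₁

end Two

end Groth.Agent.Helper6.TwoProj
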