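import Mathlib
import Groth.Agent.Helper6.RepCancel
import Groth.Agent.Helper6.SpSquare
import Groth.Agent.Helper6.TwoProj

/-!
# Helper6: the two projections of `(G ×_𝒴 G) ×_𝒴 𝒳` at the level of sheaves: squares and lifting of points
-/

set_option autoImplicit false
set_option linter.style.haveILetI false
set_option linter.unusedVariables false
universe u

namespace Groth.Agent.Helper6.TwoProjSp
open CategoryTheory Functor FibCat Limits AlgebraicGeometry Opposite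
open Groth.Agent.Helper3 Stk Groth.Agent.Helper6.OfPsh Groth.Agent.Helper6.OfPshHom
open Groth.Agent.Helper6.FpTools Groth.Agent.Helper6.OfPshFp Groth.Agent.Helper6.AlgStRep
open Groth.Agent.Helper6.AlgStEquiv Groth.Agent.Helper6.AlgStInv Groth.Agent.Helper6.AlgStPsh
open Groth.Agent.Helper6.DiagRed Groth.Agent.Helper6.RepDiag Groth.Agent.Helper6.RepComp
open Groth.Agent.Helper6.DiagRep Groth.Agent.Helper6.AlgStPts Groth.Agent.Helper6.StPts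
open Groth.Agent.Helper6.SmLoc Groth.Agent.Helper6.ChartOver Groth.Agent.Helper6.StTop
open Groth.Agent.Helper6.QcMor2 Groth.Agent.Helper6.SpAtlas Groth.Agent.Helper4.SDClasses
open Groth.Agent.Helper6.Descent1 Groth.Agent.Helper6.Descent2 Groth.Agent.Helper6.LocQ0
open Groth.Agent.Helper6.LocQ1 Groth.Agent.Helper6.LocQ2 Groth.Agent.Helper6.AlgStBC
open Groth.Agent.Helper6.OverRep Groth.Agent.Helper6.LocQ3 Groth.Agent.Helper6.LocQ4
open Groth.Agent.Helper6.FlatST Groth.Agent.Helper6.DiagLft Groth.Agent.Helper6.ToSpace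
open Groth.Agent.Helper6.SpSquare Groth.Agent.Helper6.TwoProj
open AlgSp



variable {S : Scheme.{u}} {𝒳 𝒴 𝒵 : AlgSt.Cat S}

/-- an essentially surjective functor is surjective on points -/
theorem points_map_surjective_of_essSurj {𝒜 ℬ : AlgSt.Cat S} (E : 𝒜 ⥤ᵇ ℬ)
    (hE : ∀ y : ℬ.obj, ∃ (x : 𝒜.obj) (e : E.obj x ≅ y), ℬ.p.IsHomLift (𝟙 (ℬ.p.obj y)) e.hom) :
    Function.Surjective (AlgSt.Points.map E) := by
  intro Q
  obtain ⟨q, rfl⟩ := AlgSt.Points.mk_surjective Q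
  obtain ⟨x, e, he⟩ := hE q.obj
  have hx : 𝒜.p.obj x = Over.mk q.str := by
    rw [← E.w_obj x, IsHomLift.domain_eq ℬ.p (𝟙 (ℬ.p.obj q.obj)) e.hom, q.lies]
  let p : AlgSt.FPt 𝒜 := ⟨q.K, q.str, x, hx⟩
  refine ⟨AlgSt.Points.mk p, ?_⟩
  rw [AlgSt.Points.map_mk]
  apply AlgSt.Points.sound
  exact ⟨p.map E, 𝟙 _, e.hom, trivial⟩

set_option backward.isDefEq.respectTransparency.types false in
/-- base changes of `f` to two charts from sheaves, one factoring through the other, form a pullback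
square of sheaves; the top map is computed by `Dfun` -/
theorem exists_isPullback_dfun (f : 𝒳 ⥤ᵇ 𝒴) {G G₁ F F₁ : Sp S}
    (w : AlgSt.ofSp G ⥤ᵇ 𝒴) (h : G₁ ⟶ G) (w₁ : AlgSt.ofSp G₁ ⥤ᵇ 𝒴)
    (κ : BasedFunctor.comp (AlgSt.ofSpMap h) w ≅ w₁)
    (e : AlgSt.ofSp F ⥤ᵇ fp w f) (he : IsEquivOver e) (c : F ⟶ G)
    (i : BasedFunctor.comp e (fpFst w f) ≅ AlgSt.ofSpMap c)
    (e₁ : AlgSt.ofSp F₁ ⥤ᵇ fp w₁ f) (he₁ : IsEquivOver e₁) (c₁ : F₁ ⟶ G₁)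
    (i₁ : BasedFunctor.comp e₁ (fpFst w₁ f) ≅ AlgSt.ofSpMap c₁) :
    ∃ d : F₁ ⟶ F, IsPullback d c₁ c h ∧
      Nonempty (BasedFunctor.comp (AlgSt.ofSpMap d) e ≅
        BasedFunctor.comp e₁ (Dfun f w (AlgSt.ofSpMap h) w₁ κ)) := by
  let A : fp w₁ f ⥤ᵇ fp (BasedFunctor.comp (AlgSt.ofSpMap h) w) f := Afun f w (AlgSt.ofSpMap h) w₁ κ
  have hA : IsEquivOver A := isEquivOver_Afun f w (AlgSt.ofSpMap h) w₁ κ
  let B := pasteLeft (AlgSt.ofSpMap h) w f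
  have hB : IsEquivOver B := isEquivOver_pasteLeft (AlgSt.ofSpMap h) w f
  let L : AlgSt.ofSp F₁ ⥤ᵇ fp (AlgSt.ofSpMap h) (fpFst w f) :=
    BasedFunctor.comp e₁ (BasedFunctor.comp A B)
  have hL : IsEquivOver L := isEquivOver_comp he₁ (isEquivOver_comp hA hB)
  have θR : BasedFunctor.comp (AlgSt.ofSpMap h) (BasedFunctor.id _) ≅
      BasedFunctor.comp (BasedFunctor.id _) (AlgSt.ofSpMap h) := Iso.refl _
  have ηR : BasedFunctor.comp (AlgSt.ofSpMap c) (BasedFunctor.id _) ≅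
      BasedFunctor.comp e (fpFst w f) := i.symm
  let R : fp (AlgSt.ofSpMap h) (AlgSt.ofSpMap c) ⥤ᵇ fp (AlgSt.ofSpMap h) (fpFst w f) :=
    cospanFunctor (AlgSt.ofSpMap h) (fpFst w f) (AlgSt.ofSpMap h) (AlgSt.ofSpMap c)
      (BasedFunctor.id _) e (BasedFunctor.id _) θR ηR
  have hR : IsEquivOver R :=
    isEquivOver_cospanFunctor _ _ _ _ _ _ _ θR ηR (isEquivOver_id _) he (isEquivOver_id _)
  obtain ⟨KR, hKR, -, ⟨ε⟩⟩ := EquivOver.symm hR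
  let E : AlgSt.ofSp F₁ ⥤ᵇ fp (AlgSt.ofSpMap c) (AlgSt.ofSpMap h) :=
    BasedFunctor.comp L (BasedFunctor.comp KR (fpSwap (AlgSt.ofSpMap h) (AlgSt.ofSpMap c)))
  have hE : IsEquivOver E :=
    isEquivOver_comp hL (isEquivOver_comp hKR (isEquivOver_fpSwap _ _))
  let d : F₁ ⟶ F := ObjectProperty.homMk (homOf (BasedFunctor.comp E (fpFst _ _)))
  have id₁ : BasedFunctor.comp E (fpFst _ _) ≅ AlgSt.ofSpMap d :=
    isoHomOf (BasedFunctor.comp E (fpFst _ _))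
  have i₂ : BasedFunctor.comp E (fpSnd _ _) ≅ AlgSt.ofSpMap c₁ :=
    (Iso.refl _ : BasedFunctor.comp E (fpSnd _ _) ≅
      BasedFunctor.comp L (BasedFunctor.comp (BasedFunctor.comp KR R) (fpFst _ _))) ≪≫
    whiskerLeftIso' L (whiskerRightIso' ε (fpFst _ _)) ≪≫
    (Iso.refl _ : BasedFunctor.comp L (BasedFunctor.comp (BasedFunctor.id _) (fpFst _ _)) ≅
      BasedFunctor.comp e₁ (fpFst w₁ f)) ≪≫ i₁
  refine ⟨d, isPullback_of_isEquivOver c h d c₁ E hE id₁ i₂, ⟨?_⟩⟩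
  exact whiskerRightIso' id₁.symm e ≪≫
    (Iso.refl _ : BasedFunctor.comp (BasedFunctor.comp E (fpFst _ _)) e ≅
      BasedFunctor.comp L (BasedFunctor.comp (BasedFunctor.comp KR R) (fpSnd _ _))) ≪≫
    whiskerLeftIso' L (whiskerRightIso' ε (fpSnd _ _)) ≪≫
    (Iso.refl _ : BasedFunctor.comp L (BasedFunctor.comp (BasedFunctor.id _) (fpSnd _ _)) ≅
      BasedFunctor.comp e₁ (Dfun f w (AlgSt.ofSpMap h) w₁ κ))

set_option backward.isDefEq.respectTransparency.types false in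
/-- lifting pairs of points with the same image in `𝒳` along the two projections -/
theorem exists_point_two (h𝒳 : IsFibGrpd 𝒳.p) (h𝒴 : IsFibGrpd 𝒴.p) (f : 𝒳 ⥤ᵇ 𝒴)
    {G G₁ F F₁ : Sp S}
    (w : AlgSt.ofSp G ⥤ᵇ 𝒴) (q₁ q₂ : G₁ ⟶ G) (w₁ : AlgSt.ofSp G₁ ⥤ᵇ 𝒴)
    (κ₁ : BasedFunctor.comp (AlgSt.ofSpMap q₁) w ≅ w₁)
    (κ₂ : BasedFunctor.comp (AlgSt.ofSpMap q₂) w ≅ w₁)
    (hΛ : IsEquivOver (Lam w (AlgSt.ofSpMap q₁) (AlgSt.ofSpMap q₂) w₁ κ₁ κ₂))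
    (e : AlgSt.ofSp F ⥤ᵇ fp w f) (he : IsEquivOver e)
    (e₁ : AlgSt.ofSp F₁ ⥤ᵇ fp w₁ f) (he₁ : IsEquivOver e₁) (d₁ d₂ : F₁ ⟶ F)
    (j₁ : BasedFunctor.comp (AlgSt.ofSpMap d₁) e ≅
      BasedFunctor.comp e₁ (Dfun f w (AlgSt.ofSpMap q₁) w₁ κ₁))
    (j₂ : BasedFunctor.comp (AlgSt.ofSpMap d₂) e ≅
      BasedFunctor.comp e₁ (Dfun f w (AlgSt.ofSpMap q₂) w₁ κ₂))
    (ω ξ : AlgSp.Points F)
    (hωξ : AlgSt.Points.map (BasedFunctor.comp e (fpSnd w f)) (sigma F ω) =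
      AlgSt.Points.map (BasedFunctor.comp e (fpSnd w f)) (sigma F ξ)) :
    ∃ ρ : AlgSp.Points F₁, AlgSp.Points.map d₁ ρ = ω ∧ AlgSp.Points.map d₂ ρ = ξ := by
  have hG : IsFibGrpd (AlgSt.ofSp G).p := isFibGrpd_ofSp G
  have hG₁ : IsFibGrpd (AlgSt.ofSp G₁).p := isFibGrpd_ofSp G₁
  have hFw : IsFibGrpd (fp w f).p := isFibGrpd_fp w f hG h𝒳 h𝒴
  have hFw₁ : IsFibGrpd (fp w₁ f).p := isFibGrpd_fp w₁ f hG₁ h𝒳 h𝒴
  rw [points_map_comp, points_map_comp] at hωξ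
  obtain ⟨π, hπ₁, hπ₂⟩ := exists_points_fp hFw h𝒳 hFw (fpSnd w f) (fpSnd w f)
    (AlgSt.Points.map e (sigma F ω)) (AlgSt.Points.map e (sigma F ξ)) hωξ
  obtain ⟨ρ', rfl⟩ := points_map_surjective_of_essSurj
    (Xi f w (AlgSt.ofSpMap q₁) (AlgSt.ofSpMap q₂) w₁ κ₁ κ₂)
    (Xi_essSurj f w _ _ w₁ κ₁ κ₂ ((isEquivOver_iff _).1 hΛ).2.2) π
  obtain ⟨ρ'', rfl⟩ := points_map_surjective_of_isEquivOver e₁ he₁ ρ'
  obtain ⟨ρ, rfl⟩ := sigma_surjective F₁ ρ''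
  have hinj : Function.Injective (AlgSt.Points.map e) :=
    (points_map_bijective_of_isEquivOver (isFibGrpd_ofSp F) hFw e he).1
  refine ⟨ρ, ?_, ?_⟩
  · apply sigma_injective F
    apply hinj
    rw [sigma_map, ← points_map_comp, points_map_congr j₁, ← hπ₁, ← points_map_comp,
      ← points_map_comp]
    rfl
  · apply sigma_injective F
    apply hinj
    rw [sigma_map, ← points_map_comp, points_map_congr j₂, ← hπ₂, ← points_map_comp,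
      ← points_map_comp]
    rfl

end Groth.Agent.Helper6.TwoProjSp
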