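import Mathlib
import Groth.Agent.Helper6.OpenSub6
import Groth.Agent.Helper6.TwoProjSp
import Groth.Agent.Helper6.LocQ10
import Groth.Agent.Helper6.LocalFppf
import Groth.Agent.Helper6.FpLiftIso
import Groth.Agent.Helper5.AlgSpIso

/-!
# Helper6: largest open substack with a property, I — saturation of the largest open subspace of a chart
-/

set_option autoImplicit false
set_option linter.style.haveILetI false
set_option linter.unusedVariables false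
universe u

namespace Groth.Agent.Helper6.LargestOpen1
open CategoryTheory Functor FibCat Limits AlgebraicGeometry Opposite
open Groth.Agent.Helper3 Stk Groth.Agent.Helper6.OfPsh Groth.Agent.Helper6.OfPshHom
open Groth.Agent.Helper6.FpTools Groth.Agent.Helper6.OfPshFp Groth.Agent.Helper6.AlgStRep
open Groth.Agent.Helper6.AlgStEquiv Groth.Agent.Helper6.AlgStInv Groth.Agent.Helper6.AlgStPsh
open Groth.Agent.Helper6.DiagRed Groth.Agent.Helper6.RepDiag Groth.Agent.Helper6.RepComp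
open Groth.Agent.Helper6.DiagRep Groth.Agent.Helper6.AlgStPts Groth.Agent.Helper6.StPts
open Groth.Agent.Helper6.SmLoc Groth.Agent.Helper6.ChartOver Groth.Agent.Helper6.StTop
open Groth.Agent.Helper6.QcMor2 Groth.Agent.Helper6.SpAtlas Groth.Agent.Helper4.SDClasses
open Groth.Agent.Helper6.Descent1 Groth.Agent.Helper6.Descent2 Groth.Agent.Helper6.LocQ0
open Groth.Agent.Helper6.LocQ1 Groth.Agent.Helper6.LocQ2 Groth.Agent.Helper6.AlgStBC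
open Groth.Agent.Helper6.OverRep Groth.Agent.Helper6.LocQ3 Groth.Agent.Helper6.LocQ4
open Groth.Agent.Helper6.FlatST Groth.Agent.Helper6.DiagLft Groth.Agent.Helper6.ToSpace
open Groth.Agent.Helper6.LocQ5 Groth.Agent.Helper6.OpenSub1 Groth.Agent.Helper6.OpenSub2
open Groth.Agent.Helper6.OpenSub3 Groth.Agent.Helper6.OpenSub4 Groth.Agent.Helper6.OpenSub5
open Groth.Agent.Helper6.OpenSub6 Groth.Agent.Helper6.SpSquare Groth.Agent.Helper6.TwoProj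
open Groth.Agent.Helper6.TwoProjSp Groth.Agent.Helper4.AlgSpPtsDesc
open AlgSp


variable {S : Scheme.{u}} {𝒳 𝒴 : AlgSt.Cat S}

/-- `W ⟶ X` is the largest open subspace of `X` over which `f` has `P` -/
def IsLargest (P : MorphismProperty (Sp S)) {X Y : Space S} (f : X ⟶ Y) (W : Space S) (w : W ⟶ X) :
    Prop :=
  RepWith @IsOpenImmersion w.hom ∧ P (w ≫ f).hom ∧
    ∀ (W₁ : Space S) (w₁ : W₁ ⟶ X), RepWith @IsOpenImmersion w₁.hom → P (w₁ ≫ f).hom →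
      ∃ k : W₁ ⟶ W, k ≫ w = w₁

/-- the hypotheses of S12877 / S19908 on the three properties -/
structure Hyp (P Q R : MorphismProperty (Sp S)) : Prop where
  hPb : ∀ ⦃X₁ Y₁ X₂ Y₂ : Sp S⦄, IsAlgSpace X₁ → IsAlgSpace Y₁ → IsAlgSpace X₂ →
      IsAlgSpace Y₂ → ∀ (a : X₁ ⟶ Y₁) (b : Y₂ ⟶ Y₁) (a' : X₂ ⟶ Y₂) (b' : X₂ ⟶ X₁),
      IsPullback b' a' a b → P a → P a'
  hQb : ∀ ⦃X₁ Y₁ X₂ Y₂ : Sp S⦄, IsAlgSpace X₁ → IsAlgSpace Y₁ → IsAlgSpace X₂ →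
      IsAlgSpace Y₂ → ∀ (a : X₁ ⟶ Y₁) (b : Y₂ ⟶ Y₁) (a' : X₂ ⟶ Y₂) (b' : X₂ ⟶ X₁),
      IsPullback b' a' a b → Q a → Q a'
  hRb : ∀ ⦃X₁ Y₁ X₂ Y₂ : Sp S⦄, IsAlgSpace X₁ → IsAlgSpace Y₁ → IsAlgSpace X₂ →
      IsAlgSpace Y₂ → ∀ (a : X₁ ⟶ Y₁) (b : Y₂ ⟶ Y₁) (a' : X₂ ⟶ Y₂) (b' : X₂ ⟶ X₁),
      IsPullback b' a' a b → R a → R a'
  hP : IsLocalOnBase IsFppfCover P
  hQ : IsLocalOnBase IsFppfCover Q
  hR : IsLocalOnBase IsFppfCover R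
  h₂ : ∀ (X Y : Space S) (g : X ⟶ Y), LocP @Smooth g.hom → R g.hom
  h₃ : ∀ (X Y : Space S) (f : X ⟶ Y), Q f.hom → ∃ (W : Space S) (w : W ⟶ X), IsLargest P f W w
  h₄ : ∀ (X Y X' Y' : Space S) (f : X ⟶ Y) (g : Y' ⟶ Y) (f' : X' ⟶ Y') (g' : X' ⟶ X),
      IsPullback g'.hom f'.hom f.hom g.hom → Q f.hom → R g.hom →
      ∀ (W : Space S) (w : W ⟶ X), IsLargest P f W w →
        ∀ (W' : Space S) (w' : W' ⟶ X') (k : W' ⟶ W), IsPullback k.hom w'.hom w.hom g'.hom →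
          IsLargest P f' W' w'

variable {P Q R : MorphismProperty (Sp S)}

theorem range_subset_of_isLargest {X Y : Space S} (f : X ⟶ Y) {W W' : Space S} (w : W ⟶ X)
    (w' : W' ⟶ X) (h : IsLargest P f W w) (h' : IsLargest P f W' w') :
    Set.range (AlgSp.Points.map w.hom) ⊆ Set.range (AlgSp.Points.map w'.hom) := by
  obtain ⟨k, hk⟩ := h'.2.2 W w h.1 h.2.1
  rintro _ ⟨x, rfl⟩
  refine ⟨AlgSp.Points.map k.hom x, ?_⟩
  rw [← AlgSp.Points.map_comp]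
  exact congrArg (fun t : W ⟶ X => AlgSp.Points.map t.hom x) hk

/-- the base change of the largest open along an `R`-morphism, as a space -/
theorem exists_pullback_isLargest (H : Hyp P Q R) {F₀ G F₁ U₁ : Space S} (c₀ : F₀ ⟶ G)
    (hc₀ : Q c₀.hom) (W₀ : Space S) (w₀ : W₀ ⟶ F₀) (hW₀ : IsLargest P c₀ W₀ w₀)
    (q : U₁ ⟶ G) (hq : R q.hom) (c₁ : F₁ ⟶ U₁) (d : F₁ ⟶ F₀)
    (sq : IsPullback d.hom c₁.hom c₀.hom q.hom) :
    ∃ (W' : Space S) (w' : W' ⟶ F₁) (k : W' ⟶ W₀), IsPullback k.hom w'.hom w₀.hom d.hom ∧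
      IsLargest P c₁ W' w' := by
  have sqW : IsPullback (pullback.fst w₀.hom d.hom) (pullback.snd w₀.hom d.hom) w₀.hom d.hom :=
    IsPullback.of_hasPullback _ _
  have hW' : IsAlgSpace (pullback w₀.hom d.hom) :=
    Groth.Agent.Helper4.AlgSpPB.isAlgSpace_of_isPullback F₀.property.diag W₀.property
      F₁.property w₀.hom d.hom _ _ sqW
  let W' : Space S := ⟨pullback w₀.hom d.hom, hW'⟩
  let w' : W' ⟶ F₁ := ObjectProperty.homMk (pullback.snd w₀.hom d.hom)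
  let k : W' ⟶ W₀ := ObjectProperty.homMk (pullback.fst w₀.hom d.hom)
  exact ⟨W', w', k, sqW, H.h₄ F₀ G F₁ U₁ c₀ q c₁ d sq hc₀ hq W₀ w₀ hW₀ W' w' k sqW⟩

set_option backward.isDefEq.respectTransparency.types false in
/-- the space `G ×_𝒴 G` with its two smooth projections, for a smooth `w : G ⟶ 𝒴` -/
theorem exists_two_projections (h𝒴 : IsFibGrpd 𝒴.p) (G : Space S) (w : AlgSt.ofSp G.obj ⥤ᵇ 𝒴)
    (hw : AlgSt.RepByAlgSpWith (LocP @Smooth) w) :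
    ∃ (U₁ : Space S) (q₁ q₂ : U₁ ⟶ G)
      (lam : BasedFunctor.comp (AlgSt.ofSpMap q₁.hom) w ≅ BasedFunctor.comp (AlgSt.ofSpMap q₂.hom) w),
      LocP @Smooth q₁.hom ∧ LocP @Smooth q₂.hom ∧
      IsEquivOver (Lam w (AlgSt.ofSpMap q₁.hom) (AlgSt.ofSpMap q₂.hom)
        (BasedFunctor.comp (AlgSt.ofSpMap q₁.hom) w) (Iso.refl _) lam.symm) := by
  have hG : IsFibGrpd (AlgSt.ofSp G.obj).p := isFibGrpd_ofSp _
  obtain ⟨U₁, ε, q₁, hε, ⟨ι₁⟩, hq₁⟩ :=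
    exists_space_of_rep (LocP @Smooth) Groth.Agent.Helper6.LocalFppf.smooth hG h𝒴 w hw G w
  let q₂ : U₁.obj ⟶ G.obj := ObjectProperty.homMk (homOf (BasedFunctor.comp ε (fpSnd w w)))
  have ι₂ : BasedFunctor.comp ε (fpSnd w w) ≅ AlgSt.ofSpMap q₂ := isoHomOf _
  have hq₂ : LocP @Smooth q₂ := locP_of_rep @Smooth U₁.property G.property q₂
    (Groth.Agent.Helper6.AlgStSpMap.repByAlgSpWith_of_iso _ ι₂.symm
      (rep_equiv_comp _ ε hε _ (rep_fpSnd _ w w hw)))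
  let lam : BasedFunctor.comp (AlgSt.ofSpMap q₁) w ≅ BasedFunctor.comp (AlgSt.ofSpMap q₂) w :=
    whiskerRightIso' ι₁.symm w ≪≫ whiskerLeftIso' ε (fpIso w w) ≪≫ whiskerRightIso' ι₂ w
  refine ⟨U₁, ObjectProperty.homMk q₁, ObjectProperty.homMk q₂, lam, hq₁, hq₂, ?_⟩
  refine isEquivOver_of_iso (fpLiftEta ε ≪≫ fpLiftIso _ _ ι₁ ι₂ ?_) hε
  intro u
  change w.map (appIso ι₁ u).hom ≫ (𝟙 _ ≫ (w.map (appIso ι₁ u).inv ≫
    (appIso (whiskerLeftIso' ε (fpIso w w)) u).hom ≫ w.map (appIso ι₂ u).hom)) = _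
  rw [Category.id_comp, ← Category.assoc, ← w.toFunctor.map_comp, Iso.hom_inv_id,
    w.toFunctor.map_id, Category.id_comp]
  rfl

set_option backward.isDefEq.respectTransparency.types false in
/-- the largest open subspace of the chart `F₀ = G ×_𝒴 𝒳` is saturated for the map to `𝒳` -/
theorem saturated (H : Hyp P Q R) (h𝒳 : IsFibGrpd 𝒳.p) (h𝒴 : IsFibGrpd 𝒴.p) (f : 𝒳 ⥤ᵇ 𝒴)
    (hf : AlgSt.RepByAlgSpWith Q f)
    (G : Space S) (w : AlgSt.ofSp G.obj ⥤ᵇ 𝒴) (hw : AlgSt.RepByAlgSpWith (LocP @Smooth) w)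
    (F₀ : Space S) (e : AlgSt.ofSp F₀.obj ⥤ᵇ fp w f) (he : IsEquivOver e) (c₀ : F₀ ⟶ G)
    (i : BasedFunctor.comp e (fpFst w f) ≅ AlgSt.ofSpMap c₀.hom) (hc₀ : Q c₀.hom)
    (W₀ : Space S) (w₀ : W₀ ⟶ F₀) (hW₀ : IsLargest P c₀ W₀ w₀)
    (ω ξ : AlgSp.Points F₀.obj) (hω : ω ∈ Set.range (AlgSp.Points.map w₀.hom))
    (hωξ : AlgSt.Points.map (BasedFunctor.comp e (fpSnd w f)) (sigma F₀.obj ω) =
      AlgSt.Points.map (BasedFunctor.comp e (fpSnd w f)) (sigma F₀.obj ξ)) :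
    ξ ∈ Set.range (AlgSp.Points.map w₀.hom) := by
  obtain ⟨U₁, q₁, q₂, lam, hq₁, hq₂, hΛ⟩ := exists_two_projections h𝒴 G w hw
  let w₁ : AlgSt.ofSp U₁.obj ⥤ᵇ 𝒴 := BasedFunctor.comp (AlgSt.ofSpMap q₁.hom) w
  let κ₁ : BasedFunctor.comp (AlgSt.ofSpMap q₁.hom) w ≅ w₁ := Iso.refl _
  let κ₂ : BasedFunctor.comp (AlgSt.ofSpMap q₂.hom) w ≅ w₁ := lam.symm
  obtain ⟨F₁, e₁, c₁, he₁, ⟨i₁⟩, hc₁⟩ := exists_space_of_rep Q H.hQ h𝒳 h𝒴 f hf U₁ w₁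
  obtain ⟨d₁, sq₁, ⟨j₁⟩⟩ := exists_isPullback_dfun f w q₁.hom w₁ κ₁ e he c₀.hom i e₁ he₁ c₁ i₁
  obtain ⟨d₂, sq₂, ⟨j₂⟩⟩ := exists_isPullback_dfun f w q₂.hom w₁ κ₂ e he c₀.hom i e₁ he₁ c₁ i₁
  obtain ⟨ρ, hρ₁, hρ₂⟩ := exists_point_two h𝒳 h𝒴 f w q₁.hom q₂.hom w₁ κ₁ κ₂ hΛ e he e₁ he₁ d₁ d₂
    j₁ j₂ ω ξ hωξ
  obtain ⟨W', w', k', sqW', hL'⟩ := exists_pullback_isLargest H c₀ hc₀ W₀ w₀ hW₀ q₁
    (H.h₂ _ _ q₁ hq₁) (ObjectProperty.homMk c₁ : F₁ ⟶ U₁) (ObjectProperty.homMk d₁) sq₁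
  obtain ⟨W'', w'', k'', sqW'', hL''⟩ := exists_pullback_isLargest H c₀ hc₀ W₀ w₀ hW₀ q₂
    (H.h₂ _ _ q₂ hq₂) (ObjectProperty.homMk c₁ : F₁ ⟶ U₁) (ObjectProperty.homMk d₂) sq₂
  have hr := range_subset_of_isLargest _ w' w'' hL' hL''
  obtain ⟨ω₀, rfl⟩ := hω
  obtain ⟨η, -, hη⟩ := exists_point_of_isPullback sqW' ω₀ ρ hρ₁.symm
  obtain ⟨η', hη'⟩ := hr ⟨η, hη⟩
  refine ⟨AlgSp.Points.map k''.hom η', ?_⟩
  rw [← AlgSp.Points.map_comp, sqW''.w, AlgSp.Points.map_comp, hη']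
  exact hρ₂

end Groth.Agent.Helper6.LargestOpen1
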