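import Mathlib
import Groth.Agent.Helper6.OpenSub6
import Groth.Agent.Helper6.LargestOpen1
import Groth.Agent.Helper6.FpComp
import Groth.Agent.Helper5.LargestOpen
import Groth.Agent.Helper6.TwoProjSp
import Groth.Agent.Helper6.LocQ10
import Groth.Agent.Helper6.LocalFppf
import Groth.Agent.Helper6.FpLiftIso
import Groth.Agent.Helper5.AlgSpIso

/-!
# Helper6: largest open substack with a property, II — the open substack swept out by the largest open subspace of a chart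
-/

set_option autoImplicit false
set_option linter.style.haveILetI false
set_option linter.unusedVariables false
universe u

namespace Groth.Agent.Helper6.LargestOpen2
open CategoryTheory Functor FibCat Limits AlgebraicGeometry Opposite
open Groth.Agent.Helper3 Stk Groth.Agent.Helper6.OfPsh Groth.Agent.Helper6.OfPshHom
open Groth.Agent.Helper6.FpTools Groth.Agent.Helper6.OfPshFp Groth.Agent.Helper6.AlgStRep
open Groth.Agent.Helper6.AlgStEquiv Groth.Agent.Helper6.AlgStInv Groth.Agent.Helper6.AlgStPsh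
open Groth.Agent.Helper6.DiagRed Groth.Agent.Helper6.RepDiag Groth.Agent.Helper6.RepComp
open Groth.Agent.Helper6.DiagRep Groth.Agent.Helper6.AlgStPts Groth.Agent.Helper6.StPts
open Groth.Agent.Helper6.SmLoc Groth.Agent.Helper6.ChartOver Groth.Agent.Helper6.StTop
open Groth.Agent.Helper6.QcMor2 Groth.Agent.Helper6.SpAtlas Groth.Agent.Helper4.SDClasses
open Groth.Agent.Helper6.Descent1 Groth.Agent.Helper6.Descent2 Groth.Agent.Helper6.LocQ0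
open Groth.Agent.Helper6.LocQ1 Groth.Agent.Helper6.LocQ2 Groth.Agent.Helper6.AlgStBC
open Groth.Agent.Helper6.OverRep Groth.Agent.Helper6.LocQ3 Groth.Agent.Helper6.LocQ4
open Groth.Agent.Helper6.FlatST Groth.Agent.Helper6.DiagLft Groth.Agent.Helper6.ToSpace
open Groth.Agent.Helper6.LocQ5 Groth.Agent.Helper6.OpenSub1 Groth.Agent.Helper6.OpenSub2
open Groth.Agent.Helper6.OpenSub3 Groth.Agent.Helper6.OpenSub4 Groth.Agent.Helper6.OpenSub5
open Groth.Agent.Helper6.OpenSub6 Groth.Agent.Helper6.SpSquare Groth.Agent.Helper6.TwoProj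
open Groth.Agent.Helper6.TwoProjSp Groth.Agent.Helper4.AlgSpPtsDesc
open Groth.Agent.Helper6.LargestOpen1
open AlgSp


variable {S : Scheme.{u}} {𝒳 𝒴 : AlgSt.Cat S} {P Q R : MorphismProperty (Sp S)}

set_option backward.isDefEq.respectTransparency.types false in
/-- any space representing the base change of `g` to a space chart has `P` -/
theorem P_of_rep_space
    (hPb : ∀ ⦃X₁ Y₁ X₂ Y₂ : Sp S⦄, IsAlgSpace X₁ → IsAlgSpace Y₁ → IsAlgSpace X₂ →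
      IsAlgSpace Y₂ → ∀ (a : X₁ ⟶ Y₁) (b : Y₂ ⟶ Y₁) (a' : X₂ ⟶ Y₂) (b' : X₂ ⟶ X₁),
      IsPullback b' a' a b → P a → P a')
    (hP : IsLocalOnBase IsFppfCover P) {𝒲 : AlgSt.Cat S} (h𝒲 : IsFibGrpd 𝒲.p)
    (h𝒴 : IsFibGrpd 𝒴.p) (g : 𝒲 ⥤ᵇ 𝒴) (hg : AlgSt.RepByAlgSpWith P g)
    (G : Space S) (x : AlgSt.ofSp G.obj ⥤ᵇ 𝒴) (W : Space S)
    (E : AlgSt.ofSp W.obj ⥤ᵇ fp x g) (hE : IsEquivOver E) (b : W.obj ⟶ G.obj)
    (j : BasedFunctor.comp E (fpFst x g) ≅ AlgSt.ofSpMap b) : P b := by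
  obtain ⟨F', e'', a'', he'', ⟨i''⟩, hPa''⟩ := exists_space_of_rep P hP h𝒲 h𝒴 g hg G x
  obtain ⟨K, hK, -, ⟨ε⟩⟩ := EquivOver.symm he''
  let Θ : AlgSt.ofSp W.obj ⥤ᵇ AlgSt.ofSp F'.obj := BasedFunctor.comp E K
  have hΘ : IsEquivOver Θ := isEquivOver_comp hE hK
  let θ : W.obj.obj ≅ F'.obj.obj := isoOfIsEquivOver Θ hΘ
  let θ' : W.obj ≅ F'.obj :=
    (fullyFaithfulSheafToPresheaf (AlgSp.J S) _).preimageIso (X := W.obj) (Y := F'.obj) θ
  have h1 : θ'.hom ≫ a'' = b := by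
    apply ObjectProperty.hom_ext
    change homOf Θ ≫ a''.hom = b.hom
    have j' : BasedFunctor.comp Θ (ofPshMap a''.hom) ≅ ofPshMap b.hom :=
      whiskerLeftIso' Θ i''.symm ≪≫
      (Iso.refl _ : BasedFunctor.comp Θ (BasedFunctor.comp e'' (fpFst x g)) ≅
        BasedFunctor.comp E (BasedFunctor.comp (BasedFunctor.comp K e'') (fpFst x g))) ≪≫
      whiskerLeftIso' E (whiskerRightIso' ε (fpFst x g)) ≪≫ j
    have := homOf_congr j'
    rw [homOf_comp, homOf_ofPshMap, homOf_ofPshMap] at this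
    exact this
  have sq : IsPullback θ'.hom b a'' (𝟙 G.obj) :=
    IsPullback.of_horiz_isIso ⟨by rw [h1, Category.comp_id]⟩
  exact hPb F'.property G.property W.property G.property a'' (𝟙 _) b θ'.hom sq hPa''

set_option backward.isDefEq.respectTransparency.types false in
/-- the open subspace of a space chart `x₀ : F₀ ⟶ 𝒳` cut out by an open substack -/
theorem chart_of_open (h𝒳 : AlgSt.IsAlgStack Scheme.fppfPrecoverage 𝒳) (Q' : 𝒳.obj → Prop)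
    (hQ' : AlgSt.IsOpenSubstack 𝒳 Q' Scheme.fppfPrecoverage) (F₀ : Space S)
    (x₀ : AlgSt.ofSp F₀.obj ⥤ᵇ 𝒳) :
    ∃ (W' : Space S) (e' : AlgSt.ofSp W'.obj ⥤ᵇ fp x₀ (AlgSt.subIncl 𝒳 Q')) (a' : W' ⟶ F₀),
      IsEquivOver e' ∧
      Nonempty (BasedFunctor.comp e' (fpFst x₀ (AlgSt.subIncl 𝒳 Q')) ≅ AlgSt.ofSpMap a'.hom) ∧
      RepWith @IsOpenImmersion a'.hom ∧
      ∀ ξ : AlgSp.Points F₀.obj, ξ ∈ Set.range (AlgSp.Points.map a'.hom) ↔
        AlgSt.Points.map x₀ (sigma F₀.obj ξ) ∈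
          Set.range (AlgSt.Points.map (AlgSt.subIncl 𝒳 Q')) := by
  have hX := h𝒳.isStack.1
  have hfull : IsFibGrpd (AlgSt.fullSub 𝒳 Q').p := hQ'.2.1.isStack.1
  obtain ⟨W', e', a', he', ⟨i'⟩, ha'⟩ := exists_space_of_rep (RepWith @IsOpenImmersion)
    Groth.Agent.Helper6.LocalFppf.openImm hfull hX (AlgSt.subIncl 𝒳 Q') hQ'.2.2 F₀ x₀
  refine ⟨W', e', ObjectProperty.homMk a', he', ⟨i'⟩, ha', fun ξ => ⟨?_, ?_⟩⟩
  · rintro ⟨η, rfl⟩
    refine ⟨AlgSt.Points.map (BasedFunctor.comp e' (fpSnd x₀ _)) (sigma _ η), ?_⟩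
    change _ = AlgSt.Points.map x₀ (sigma F₀.obj (AlgSp.Points.map a' η))
    rw [sigma_map, ← points_map_comp, ← points_map_comp]
    exact (points_map_congr (whiskerRightIso' i'.symm x₀ ≪≫ whiskerLeftIso' e' (fpIso x₀ _)) _).symm
  · rintro ⟨τ, hτ⟩
    obtain ⟨π, hπ₁, -⟩ := exists_points_fp hfull hX (isFibGrpd_ofSp _) (AlgSt.subIncl 𝒳 Q') x₀
      (sigma _ ξ) τ hτ.symm
    obtain ⟨π', rfl⟩ := points_map_surjective_of_isEquivOver e' he' π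
    obtain ⟨η, rfl⟩ := sigma_surjective _ π'
    refine ⟨η, sigma_injective _ ?_⟩
    change sigma F₀.obj (AlgSp.Points.map a' η) = _
    rw [sigma_map, ← hπ₁, ← points_map_comp]
    exact (points_map_congr i' _).symm

set_option backward.isDefEq.respectTransparency.types false in
/-- the comparison `W' ≃ G ×_𝒴 𝒬'` for the open subspace `W'` of the chart cut out by `𝒬'` -/
theorem sub_chart_equiv (f : 𝒳 ⥤ᵇ 𝒴) (G : Space S) (w : AlgSt.ofSp G.obj ⥤ᵇ 𝒴)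
    (F₀ : Space S) (e : AlgSt.ofSp F₀.obj ⥤ᵇ fp w f) (he : IsEquivOver e) (c₀ : F₀ ⟶ G)
    (i : BasedFunctor.comp e (fpFst w f) ≅ AlgSt.ofSpMap c₀.hom) (Q' : 𝒳.obj → Prop)
    (W' : Space S)
    (e' : AlgSt.ofSp W'.obj ⥤ᵇ fp (BasedFunctor.comp e (fpSnd w f)) (AlgSt.subIncl 𝒳 Q'))
    (he' : IsEquivOver e') (a' : W' ⟶ F₀)
    (i' : BasedFunctor.comp e' (fpFst _ (AlgSt.subIncl 𝒳 Q')) ≅ AlgSt.ofSpMap a'.hom) :
    ∃ (E : AlgSt.ofSp W'.obj ⥤ᵇ fp w (BasedFunctor.comp (AlgSt.subIncl 𝒳 Q') f)), IsEquivOver E ∧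
      Nonempty (BasedFunctor.comp E (fpFst w _) ≅ AlgSt.ofSpMap (a'.hom ≫ c₀.hom)) := by
  refine ⟨BasedFunctor.comp e' (compFunctor w f (AlgSt.subIncl 𝒳 Q') e),
    isEquivOver_comp he' (isEquivOver_compFunctor w f _ e he), ⟨?_⟩⟩
  exact (Iso.refl _ : BasedFunctor.comp (BasedFunctor.comp e' (compFunctor w f _ e)) (fpFst w _) ≅
      BasedFunctor.comp (BasedFunctor.comp e' (fpFst _ (AlgSt.subIncl 𝒳 Q')))
        (BasedFunctor.comp e (fpFst w f))) ≪≫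
    whiskerRightIso' i' (BasedFunctor.comp e (fpFst w f)) ≪≫
    whiskerLeftIso' (AlgSt.ofSpMap a'.hom) i

set_option backward.isDefEq.respectTransparency.types false in
/-- `P` for the open substack implies `P` for the open subspace of the chart -/
theorem P_of_rep_sub (H : Hyp P Q R) (h𝒳 : AlgSt.IsAlgStack Scheme.fppfPrecoverage 𝒳)
    (h𝒴 : AlgSt.IsAlgStack Scheme.fppfPrecoverage 𝒴) (f : 𝒳 ⥤ᵇ 𝒴)
    (G : Space S) (w : AlgSt.ofSp G.obj ⥤ᵇ 𝒴)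
    (F₀ : Space S) (e : AlgSt.ofSp F₀.obj ⥤ᵇ fp w f) (he : IsEquivOver e) (c₀ : F₀ ⟶ G)
    (i : BasedFunctor.comp e (fpFst w f) ≅ AlgSt.ofSpMap c₀.hom) (Q' : 𝒳.obj → Prop)
    (hQ' : AlgSt.IsOpenSubstack 𝒳 Q' Scheme.fppfPrecoverage)
    (W' : Space S)
    (e' : AlgSt.ofSp W'.obj ⥤ᵇ fp (BasedFunctor.comp e (fpSnd w f)) (AlgSt.subIncl 𝒳 Q'))
    (he' : IsEquivOver e') (a' : W' ⟶ F₀)
    (i' : BasedFunctor.comp e' (fpFst _ (AlgSt.subIncl 𝒳 Q')) ≅ AlgSt.ofSpMap a'.hom)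
    (hrep : AlgSt.RepByAlgSpWith P (BasedFunctor.comp (AlgSt.subIncl 𝒳 Q') f)) :
    P (a'.hom ≫ c₀.hom) := by
  obtain ⟨E, hE, ⟨jE⟩⟩ := sub_chart_equiv f G w F₀ e he c₀ i Q' W' e' he' a' i'
  exact P_of_rep_space H.hPb H.hP hQ'.2.1.isStack.1 h𝒴.isStack.1 _ hrep G w W' E hE _ jE

set_option backward.isDefEq.respectTransparency.types false in
/-- `P` for the open subspace of the chart implies `P` for the open substack -/
theorem rep_sub_of_P (H : Hyp P Q R) (h𝒳 : AlgSt.IsAlgStack Scheme.fppfPrecoverage 𝒳)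
    (h𝒴 : AlgSt.IsAlgStack Scheme.fppfPrecoverage 𝒴) (f : 𝒳 ⥤ᵇ 𝒴)
    (hf : AlgSt.RepByAlgSpWith Q f)
    (G : Space S) (w : AlgSt.ofSp G.obj ⥤ᵇ 𝒴) (hw₁ : AlgSt.RepByAlgSpWith (LocP @Smooth) w)
    (hw₂ : AlgSt.RepByAlgSpWith IsSurjectiveMor w)
    (F₀ : Space S) (e : AlgSt.ofSp F₀.obj ⥤ᵇ fp w f) (he : IsEquivOver e) (c₀ : F₀ ⟶ G)
    (i : BasedFunctor.comp e (fpFst w f) ≅ AlgSt.ofSpMap c₀.hom) (Q' : 𝒳.obj → Prop)
    (hQ' : AlgSt.IsOpenSubstack 𝒳 Q' Scheme.fppfPrecoverage)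
    (W' : Space S)
    (e' : AlgSt.ofSp W'.obj ⥤ᵇ fp (BasedFunctor.comp e (fpSnd w f)) (AlgSt.subIncl 𝒳 Q'))
    (he' : IsEquivOver e') (a' : W' ⟶ F₀)
    (i' : BasedFunctor.comp e' (fpFst _ (AlgSt.subIncl 𝒳 Q')) ≅ AlgSt.ofSpMap a'.hom)
    (hPa : P (a'.hom ≫ c₀.hom)) :
    AlgSt.RepByAlgSpWith P (BasedFunctor.comp (AlgSt.subIncl 𝒳 Q') f) := by
  have hX := h𝒳.isStack.1
  have hfull : IsFibGrpd (AlgSt.fullSub 𝒳 Q').p := hQ'.2.1.isStack.1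
  obtain ⟨E, hE, ⟨jE⟩⟩ := sub_chart_equiv f G w F₀ e he c₀ i Q' W' e' he' a' i'
  have hrep1 : AlgSt.RepByAlgSp1 (BasedFunctor.comp (AlgSt.subIncl 𝒳 Q') f) :=
    (repByAlgSp1_iff_top _).2 (repByAlgSpWith_comp hfull hX ⊤ (fun _ _ _ _ _ _ _ _ _ _ => trivial)
      Groth.Agent.Helper6.TauLib.isLocalOnBase_top _ _ (repByAlgSpWith_mono le_top hQ'.2.2)
      (repByAlgSpWith_mono le_top hf))
  have hG_alg : AlgSt.IsAlgStack Scheme.fppfPrecoverage (AlgSt.ofSp G.obj) :=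
    (Groth.Agent.S12772.isDM_ofSp G).1
  have hz₁ : AlgSt.LocQ (LocP @Flat) w := Groth.Agent.Helper6.LocQ10.locQ_of_rep_good @Flat good_flat
    (fun g hg => by haveI : Smooth g := hg; infer_instance) hG_alg h𝒴 w
    (repByAlgSpWith_mono smooth_le_flat hw₁)
  have hz₂ : AlgSt.LocQ (LocP @LocallyOfFinitePresentation) w :=
    Groth.Agent.Helper6.LocQ10.locQ_of_rep_good @LocallyOfFinitePresentation good_lfp
      (fun g hg => by haveI : Smooth g := hg; infer_instance) hG_alg h𝒴 w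
      (repByAlgSpWith_mono smooth_le_lfp hw₁)
  have hz₃ : AlgSt.IsSurjective w := isSurjective_of_rep_surj (isFibGrpd_ofSp _) h𝒴.isStack.1 w hw₂
  have key : AlgSt.RepByAlgSpWith P (fpFst w (BasedFunctor.comp (AlgSt.subIncl 𝒳 Q') f)) :=
    repByAlgSpWith_of_square' P (fpFst w _) (AlgSt.ofSpMap (a'.hom ≫ c₀.hom)) E
      (BasedFunctor.id _) hE (isEquivOver_id _) jE.symm
      (rep_ofSpMap P H.hPb W'.property G.property _ hPa)
  exact (Groth.Agent.Helper6.LocQ7.repByAlgSpWith_iff_fpFst_of_fppf P H.hP hQ'.2.1 h𝒴 _ hrep1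
    hG_alg w hz₁ hz₂ hz₃).2 key

end Groth.Agent.Helper6.LargestOpen2
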