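import Mathlib
import Groth.Agent.Helper6.OpenSub6
import Groth.Agent.Helper6.LargestOpen1
import Groth.Agent.Helper6.LargestOpen2
import Groth.Agent.Helper6.FpComp
import Groth.Agent.Helper5.LargestOpen
import Groth.Agent.Helper6.TwoProjSp
import Groth.Agent.Helper6.LocQ10
import Groth.Agent.Helper6.LocalFppf
import Groth.Agent.Helper6.FpLiftIso
import Groth.Agent.Helper5.AlgSpIso

/-!
# Helper6: largest open substack with a property, III — existence and characterisation on a smooth space chart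
-/

set_option autoImplicit false
set_option linter.style.haveILetI false
set_option linter.unusedVariables false
universe u

namespace Groth.Agent.Helper6.LargestOpen3
open CategoryTheory Functor FibCat Limits AlgebraicGeometry Opposite
open Groth.Agent.Helper3 Stk Groth.Agent.Helper6.OfPsh Groth.Agent.Helper6.OfPshHom
open Groth.Agent.Helper6.FpTools Groth.Agent.Helper6.OfPshFp Groth.Agent.Helper6.AlgStRep
open Groth.Agent.Helper6.AlgStEquiv Groth.Agent.Helper6.AlgStInv Groth.Agent.Helper6.AlgStPsh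
open Groth.Agent.Helper6.DiagRed Groth.Agent.Helper6.RepDiag Groth.Agent.Helper6.RepComp
open Groth.Agent.Helper6.DiagRep Groth.Agent.Helper6.AlgStPts Groth.Agent.Helper6.StPts
open Groth.Agent.Helper6.SmLoc Groth.Agent.Helper6.ChartOver Groth.Agent.Helper6.StTop
open Groth.Agent.Helper6.QcMor2 Groth.Agent.Helper6.SpAtlas Groth.Agent.Helper4.SDClasses
open Groth.Agent.Helper6.Descent1 Groth.Agent.Helper6.Descent2 Groth.Agent.Helper6.LocQ0
open Groth.Agent.Helper6.LocQ1 Groth.Agent.Helper6.LocQ2 Groth.Agent.Helper6.AlgStBC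
open Groth.Agent.Helper6.OverRep Groth.Agent.Helper6.LocQ3 Groth.Agent.Helper6.LocQ4
open Groth.Agent.Helper6.FlatST Groth.Agent.Helper6.DiagLft Groth.Agent.Helper6.ToSpace
open Groth.Agent.Helper6.LocQ5 Groth.Agent.Helper6.OpenSub1 Groth.Agent.Helper6.OpenSub2
open Groth.Agent.Helper6.OpenSub3 Groth.Agent.Helper6.OpenSub4 Groth.Agent.Helper6.OpenSub5
open Groth.Agent.Helper6.OpenSub6 Groth.Agent.Helper6.SpSquare Groth.Agent.Helper6.TwoProj
open Groth.Agent.Helper6.TwoProjSp Groth.Agent.Helper4.AlgSpPtsDesc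
open Groth.Agent.Helper6.LargestOpen1 Groth.Agent.Helper6.LargestOpen2 Groth.Agent.Helper5.AlgSpIso
open AlgSp


variable {S : Scheme.{u}} {𝒳 𝒴 : AlgSt.Cat S} {P Q R : MorphismProperty (Sp S)}

/-- the set of points of `𝒳` swept out by the open subspace `W₀` of the chart `F₀ = G ×_𝒴 𝒳` -/
def Tset (f : 𝒳 ⥤ᵇ 𝒴) {G F₀ W₀ : Space S} (w : AlgSt.ofSp G.obj ⥤ᵇ 𝒴)
    (e : AlgSt.ofSp F₀.obj ⥤ᵇ fp w f) (w₀ : W₀ ⟶ F₀) : Set (AlgSt.Points 𝒳) :=
  Set.range (AlgSt.Points.map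
    (BasedFunctor.comp (AlgSt.ofSpMap w₀.hom) (BasedFunctor.comp e (fpSnd w f))))

set_option backward.isDefEq.respectTransparency.types false in
theorem isOpen_Tset (h𝒳 : IsFibGrpd 𝒳.p) (f : 𝒳 ⥤ᵇ 𝒴) {G F₀ W₀ : Space S}
    (w : AlgSt.ofSp G.obj ⥤ᵇ 𝒴) (hw₁ : AlgSt.RepByAlgSpWith (LocP @Smooth) w)
    (e : AlgSt.ofSp F₀.obj ⥤ᵇ fp w f) (he : IsEquivOver e) (w₀ : W₀ ⟶ F₀)
    (hw₀ : RepWith @IsOpenImmersion w₀.hom) : IsOpen (Tset f w e w₀) := by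
  have hv : AlgSt.RepByAlgSpWith (LocP @Smooth)
      (BasedFunctor.comp (AlgSt.ofSpMap w₀.hom) (BasedFunctor.comp e (fpSnd w f))) :=
    repByAlgSpWith_comp (isFibGrpd_ofSp _) (isFibGrpd_ofSp _) (LocP @Smooth)
      (locP_comp' _ good_smooth) Groth.Agent.Helper6.LocalFppf.smooth _ _
      (rep_ofSpMap (LocP @Smooth) smooth_bc W₀.property F₀.property w₀.hom
        (Groth.Agent.Helper5.LargestOpen.locP_of_openImmersion @Smooth
          (fun g hg => by haveI : Etale g := hg; infer_instance) _ hw₀))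
      (rep_equiv_comp _ e he _ (rep_fpSnd _ w f hw₁))
  exact (isOpenMap_points_map_of_flat_lfp h𝒳 W₀ _ (repByAlgSpWith_mono smooth_le_flat hv)
    (repByAlgSpWith_mono smooth_le_lfp hv)).isOpen_range

theorem mono_of_openImm {X Y : Sp S} (j : X ⟶ Y) (hj : RepWith @IsOpenImmersion j) : Mono j :=
  Groth.Agent.Helper4.AlgSpBasic.mono_of_repWith (P := @IsOpenImmersion) (fun g hg => by
    have : IsOpenImmersion g := hg
    infer_instance) j hj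

set_option backward.isDefEq.respectTransparency.types false in
/-- the open substack swept out by the largest open subspace of the chart has `P` -/
theorem rep_P_QT (H : Hyp P Q R) (h𝒳 : AlgSt.IsAlgStack Scheme.fppfPrecoverage 𝒳)
    (h𝒴 : AlgSt.IsAlgStack Scheme.fppfPrecoverage 𝒴) (f : 𝒳 ⥤ᵇ 𝒴)
    (hf : AlgSt.RepByAlgSpWith Q f)
    (G : Space S) (w : AlgSt.ofSp G.obj ⥤ᵇ 𝒴) (hw₁ : AlgSt.RepByAlgSpWith (LocP @Smooth) w)
    (hw₂ : AlgSt.RepByAlgSpWith IsSurjectiveMor w)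
    (F₀ : Space S) (e : AlgSt.ofSp F₀.obj ⥤ᵇ fp w f) (he : IsEquivOver e) (c₀ : F₀ ⟶ G)
    (i : BasedFunctor.comp e (fpFst w f) ≅ AlgSt.ofSpMap c₀.hom) (hc₀ : Q c₀.hom)
    (W₀ : Space S) (w₀ : W₀ ⟶ F₀) (hW₀ : IsLargest P c₀ W₀ w₀) :
    AlgSt.RepByAlgSpWith P (BasedFunctor.comp (AlgSt.subIncl 𝒳 (QT (Tset f w e w₀))) f) := by
  have hX := h𝒳.isStack.1
  have hY := h𝒴.isStack.1
  have hT := isOpen_Tset hX f w hw₁ e he w₀ hW₀.1
  have hQT := isOpenSubstack_QT (Tset f w e w₀) h𝒳 hT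
  obtain ⟨W', e', a', he', ⟨i'⟩, ha', hiff⟩ :=
    chart_of_open h𝒳 (QT (Tset f w e w₀)) hQT F₀ (BasedFunctor.comp e (fpSnd w f))
  have hrange : Set.range (AlgSp.Points.map a'.hom) = Set.range (AlgSp.Points.map w₀.hom) := by
    ext ξ
    rw [hiff ξ, range_subIncl_QT]
    constructor
    · rintro ⟨ζ, hζ⟩
      obtain ⟨ω₀, rfl⟩ := sigma_surjective _ ζ
      refine saturated H hX hY f hf G w hw₁ F₀ e he c₀ i hc₀ W₀ w₀ hW₀
        (AlgSp.Points.map w₀.hom ω₀) ξ ⟨ω₀, rfl⟩ ?_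
      rw [sigma_map, ← points_map_comp]
      exact hζ
    · rintro ⟨ω₀, rfl⟩
      refine ⟨sigma _ ω₀, ?_⟩
      rw [sigma_map, points_map_comp]
  obtain ⟨g, hg⟩ := exists_factor_open w₀.hom hW₀.1 a'.hom hrange.le
  obtain ⟨g', hg'⟩ := exists_factor_open a'.hom ha' w₀.hom hrange.ge
  haveI : Mono w₀.hom := mono_of_openImm _ hW₀.1
  haveI : Mono a'.hom := mono_of_openImm _ ha'
  haveI : IsIso g := ⟨g', by rw [← cancel_mono a'.hom, Category.assoc, hg', hg, Category.id_comp],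
    by rw [← cancel_mono w₀.hom, Category.assoc, hg, hg', Category.id_comp]⟩
  have hPa : P (a'.hom ≫ c₀.hom) := by
    have sq : IsPullback g (a'.hom ≫ c₀.hom) (w₀.hom ≫ c₀.hom) (𝟙 G.obj) :=
      IsPullback.of_horiz_isIso ⟨by rw [← Category.assoc, hg, Category.comp_id]⟩
    exact H.hPb W₀.property G.property W'.property G.property _ (𝟙 _) _ g sq hW₀.2.1
  exact rep_sub_of_P H h𝒳 h𝒴 f hf G w hw₁ hw₂ F₀ e he c₀ i _ hQT W' e' he' a' i' hPa

set_option backward.isDefEq.respectTransparency.types false in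
/-- every open substack with `P` has its points in `Tset` -/
theorem range_subset_Tset (H : Hyp P Q R) (h𝒳 : AlgSt.IsAlgStack Scheme.fppfPrecoverage 𝒳)
    (h𝒴 : AlgSt.IsAlgStack Scheme.fppfPrecoverage 𝒴) (f : 𝒳 ⥤ᵇ 𝒴)
    (G : Space S) (w : AlgSt.ofSp G.obj ⥤ᵇ 𝒴)
    (hw₂ : AlgSt.RepByAlgSpWith IsSurjectiveMor w)
    (F₀ : Space S) (e : AlgSt.ofSp F₀.obj ⥤ᵇ fp w f) (he : IsEquivOver e) (c₀ : F₀ ⟶ G)
    (i : BasedFunctor.comp e (fpFst w f) ≅ AlgSt.ofSpMap c₀.hom)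
    (W₀ : Space S) (w₀ : W₀ ⟶ F₀) (hW₀ : IsLargest P c₀ W₀ w₀)
    (Q₁ : 𝒳.obj → Prop) (hQ₁ : AlgSt.IsOpenSubstack 𝒳 Q₁ Scheme.fppfPrecoverage)
    (hrep : AlgSt.RepByAlgSpWith P (BasedFunctor.comp (AlgSt.subIncl 𝒳 Q₁) f)) :
    Set.range (AlgSt.Points.map (AlgSt.subIncl 𝒳 Q₁)) ⊆ Tset f w e w₀ := by
  have hX := h𝒳.isStack.1
  intro p hp
  obtain ⟨W₁, e₁', a₁, he₁', ⟨i₁'⟩, ha₁, hiff⟩ :=
    chart_of_open h𝒳 Q₁ hQ₁ F₀ (BasedFunctor.comp e (fpSnd w f))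
  have hPa₁ : P (a₁.hom ≫ c₀.hom) :=
    P_of_rep_sub H h𝒳 h𝒴 f G w F₀ e he c₀ i Q₁ hQ₁ W₁ e₁' he₁' a₁ i₁' hrep
  obtain ⟨k, hk⟩ := hW₀.2.2 W₁ a₁ ha₁ hPa₁
  have hx₀s : AlgSt.IsSurjective (BasedFunctor.comp e (fpSnd w f)) :=
    isSurjective_of_rep_surj (isFibGrpd_ofSp _) hX _ (rep_equiv_comp _ e he _ (rep_fpSnd _ w f hw₂))
  obtain ⟨ζ, rfl⟩ := hx₀s p
  obtain ⟨ξ, rfl⟩ := sigma_surjective _ ζ
  obtain ⟨η, rfl⟩ := (hiff ξ).2 hp
  refine ⟨sigma _ (AlgSp.Points.map k.hom η), ?_⟩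
  rw [points_map_comp, ← sigma_map, ← AlgSp.Points.map_comp]
  have : k.hom ≫ w₀.hom = a₁.hom := congrArg (fun t : W₁ ⟶ F₀ => t.hom) hk
  rw [this]

end Groth.Agent.Helper6.LargestOpen3
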