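import Mathlib
import Groth.Agent.Helper6.OpenSub6
import Groth.Agent.Helper6.LargestOpen1
import Groth.Agent.Helper6.LargestOpen2
import Groth.Agent.Helper6.LargestOpen3
import Groth.Agent.Helper6.FpComp
import Groth.Agent.Helper5.LargestOpen
import Groth.Agent.Helper6.TwoProjSp
import Groth.Agent.Helper6.LocQ10
import Groth.Agent.Helper6.LocalFppf
import Groth.Agent.Helper6.FpLiftIso
import Groth.Agent.Helper5.AlgSpIso

/-!
# Helper6: largest open substack with a property, IV — existence (S12877)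
-/

set_option autoImplicit false
set_option linter.style.haveILetI false
set_option linter.unusedVariables false
universe u

namespace Groth.Agent.Helper6.LargestOpen4
open CategoryTheory Functor FibCat Limits AlgebraicGeometry Opposite
open Groth.Agent.Helper3 Stk Groth.Agent.Helper6.OfPsh Groth.Agent.Helper6.OfPshHom
open Groth.Agent.Helper6.FpTools Groth.Agent.Helper6.OfPshFp Groth.Agent.Helper6.AlgStRep
open Groth.Agent.Helper6.AlgStEquiv Groth.Agent.Helper6.AlgStInv Groth.Agent.Helper6.AlgStPsh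
open Groth.Agent.Helper6.DiagRed Groth.Agent.Helper6.RepDiag Groth.Agent.Helper6.RepComp
open Groth.Agent.Helper6.DiagRep Groth.Agent.Helper6.AlgStPts Groth.Agent.Helper6.StPts
open Groth.Agent.Helper6.SmLoc Groth.Agent.Helper6.ChartOver Groth.Agent.Helper6.StTop
open Groth.Agent.Helper6.QcMor2 Groth.Agent.Helper6.SpAtlas Groth.Agent.Helper4.SDClasses
open Groth.Agent.Helper6.Descent1 Groth.Agent.Helper6.Descent2 Groth.Agent.Helper6.LocQ0
open Groth.Agent.Helper6.LocQ1 Groth.Agent.Helper6.LocQ2 Groth.Agent.Helper6.AlgStBC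
open Groth.Agent.Helper6.OverRep Groth.Agent.Helper6.LocQ3 Groth.Agent.Helper6.LocQ4
open Groth.Agent.Helper6.FlatST Groth.Agent.Helper6.DiagLft Groth.Agent.Helper6.ToSpace
open Groth.Agent.Helper6.LocQ5 Groth.Agent.Helper6.OpenSub1 Groth.Agent.Helper6.OpenSub2
open Groth.Agent.Helper6.OpenSub3 Groth.Agent.Helper6.OpenSub4 Groth.Agent.Helper6.OpenSub5
open Groth.Agent.Helper6.OpenSub6 Groth.Agent.Helper6.SpSquare Groth.Agent.Helper6.TwoProj
open Groth.Agent.Helper6.TwoProjSp Groth.Agent.Helper4.AlgSpPtsDesc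
open Groth.Agent.Helper6.LargestOpen3 Groth.Agent.Helper6.LargestOpen1 Groth.Agent.Helper6.LargestOpen2 Groth.Agent.Helper5.AlgSpIso
open AlgSp


variable {S : Scheme.{u}} {𝒳 𝒴 : AlgSt.Cat S} {P Q R : MorphismProperty (Sp S)}

set_option backward.isDefEq.respectTransparency.types false in
/-- S12877 -/
theorem exists_largest (H : Hyp P Q R) (h𝒳 : AlgSt.IsAlgStack Scheme.fppfPrecoverage 𝒳)
    (h𝒴 : AlgSt.IsAlgStack Scheme.fppfPrecoverage 𝒴) (f : 𝒳 ⥤ᵇ 𝒴)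
    (hf : AlgSt.RepByAlgSpWith Q f) :
    ∃ Q₀ : 𝒳.obj → Prop, AlgSt.IsOpenSubstack 𝒳 Q₀ Scheme.fppfPrecoverage ∧
      AlgSt.RepByAlgSpWith P (BasedFunctor.comp (AlgSt.subIncl 𝒳 Q₀) f) ∧
        ∀ Q₁ : 𝒳.obj → Prop, AlgSt.IsOpenSubstack 𝒳 Q₁ Scheme.fppfPrecoverage →
          AlgSt.RepByAlgSpWith P (BasedFunctor.comp (AlgSt.subIncl 𝒳 Q₁) f) → ∀ y, Q₁ y → Q₀ y := by
  have hX := h𝒳.isStack.1
  have hY := h𝒴.isStack.1
  obtain ⟨U₀, y₀, hy₁, hy₂⟩ := h𝒴.atlas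
  let G : Space S := ⟨(yon S).obj U₀, IsAlgSpace.yon_obj U₀⟩
  let w : AlgSt.ofSp G.obj ⥤ᵇ 𝒴 := BasedFunctor.comp (AlgSt.toOverCat U₀) y₀
  have hw₁ : AlgSt.RepByAlgSpWith (LocP @Smooth) w :=
    rep_equiv_comp _ (AlgSt.toOverCat U₀) (isEquivOver_toOverCat U₀) y₀ hy₁
  have hw₂ : AlgSt.RepByAlgSpWith IsSurjectiveMor w :=
    rep_equiv_comp _ (AlgSt.toOverCat U₀) (isEquivOver_toOverCat U₀) y₀ hy₂
  obtain ⟨F₀, e, c₀, he, ⟨i⟩, hc₀⟩ := exists_space_of_rep Q H.hQ hX hY f hf G w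
  obtain ⟨W₀, w₀, hW₀⟩ := H.h₃ F₀ G (ObjectProperty.homMk c₀) hc₀
  refine ⟨QT (Tset f w e w₀), isOpenSubstack_QT _ h𝒳 (isOpen_Tset hX f w hw₁ e he w₀ hW₀.1),
    rep_P_QT H h𝒳 h𝒴 f hf G w hw₁ hw₂ F₀ e he (ObjectProperty.homMk c₀) i hc₀ W₀ w₀ hW₀,
    fun Q₁ hQ₁ hrep y hy => ?_⟩
  exact QT_mono (range_subset_Tset H h𝒳 h𝒴 f G w hw₂ F₀ e he (ObjectProperty.homMk c₀) i W₀ w₀ hW₀
    Q₁ hQ₁ hrep) ((Q_iff_QT_range h𝒳 Q₁ hQ₁ y).1 hy)

end Groth.Agent.Helper6.LargestOpen4
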