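import Mathlib
import Groth.Agent.Helper6.OpenSub6
import Groth.Agent.Helper6.LargestOpen1
import Groth.Agent.Helper6.LargestOpen2
import Groth.Agent.Helper6.LargestOpen3
import Groth.Agent.Helper6.StTop3
import Groth.Agent.Helper6.FpComp
import Groth.Agent.Helper5.LargestOpen
import Groth.Agent.Helper6.TwoProjSp
import Groth.Agent.Helper6.LocQ10
import Groth.Agent.Helper6.LocalFppf
import Groth.Agent.Helper6.FpLiftIso
import Groth.Agent.Helper5.AlgSpIso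

/-!
# Helper6: largest open substack with a property, V — preimages of open substacks
-/

set_option autoImplicit false
set_option linter.style.haveILetI false
set_option linter.unusedVariables false
universe u

namespace Groth.Agent.Helper6.LargestOpen5
open CategoryTheory Functor FibCat Limits AlgebraicGeometry Opposite
open Groth.Agent.Helper3 Stk Groth.Agent.Helper6.OfPsh Groth.Agent.Helper6.OfPshHom
open Groth.Agent.Helper6.FpTools Groth.Agent.Helper6.OfPshFp Groth.Agent.Helper6.AlgStRep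
open Groth.Agent.Helper6.AlgStEquiv Groth.Agent.Helper6.AlgStInv Groth.Agent.Helper6.AlgStPsh
open Groth.Agent.Helper6.DiagRed Groth.Agent.Helper6.RepDiag Groth.Agent.Helper6.RepComp
open Groth.Agent.Helper6.DiagRep Groth.Agent.Helper6.AlgStPts Groth.Agent.Helper6.StPts
open Groth.Agent.Helper6.SmLoc Groth.Agent.Helper6.ChartOver Groth.Agent.Helper6.StTop
open Groth.Agent.Helper6.QcMor2 Groth.Agent.Helper6.SpAtlas Groth.Agent.Helper4.SDClasses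
open Groth.Agent.Helper6.Descent1 Groth.Agent.Helper6.Descent2 Groth.Agent.Helper6.LocQ0
open Groth.Agent.Helper6.LocQ1 Groth.Agent.Helper6.LocQ2 Groth.Agent.Helper6.AlgStBC
open Groth.Agent.Helper6.OverRep Groth.Agent.Helper6.LocQ3 Groth.Agent.Helper6.LocQ4
open Groth.Agent.Helper6.FlatST Groth.Agent.Helper6.DiagLft Groth.Agent.Helper6.ToSpace
open Groth.Agent.Helper6.LocQ5 Groth.Agent.Helper6.OpenSub1 Groth.Agent.Helper6.OpenSub2
open Groth.Agent.Helper6.OpenSub3 Groth.Agent.Helper6.OpenSub4 Groth.Agent.Helper6.OpenSub5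
open Groth.Agent.Helper6.OpenSub6 Groth.Agent.Helper6.SpSquare Groth.Agent.Helper6.TwoProj
open Groth.Agent.Helper6.TwoProjSp Groth.Agent.Helper4.AlgSpPtsDesc
open Groth.Agent.Helper6.LargestOpen3 Groth.Agent.Helper6.LargestOpen1 Groth.Agent.Helper6.LargestOpen2
open Groth.Agent.Helper5.AlgSpIso
open AlgSp


variable {S : Scheme.{u}} {𝒳 𝒴 𝒵 𝒜 : AlgSt.Cat S} {P Q R : MorphismProperty (Sp S)}

/-- `QT` of a preimage, objectwise -/
theorem QT_preimage_iff (h𝒜 : IsFibGrpd 𝒜.p) (h𝒳 : IsFibGrpd 𝒳.p) (g : 𝒜 ⥤ᵇ 𝒳)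
    (T : Set (AlgSt.Points 𝒳)) (a : 𝒜.obj) :
    QT T (g.obj a) ↔ QT (AlgSt.Points.map g ⁻¹' T) a := by
  constructor
  · intro h p' ⟨ψ⟩
    change AlgSt.Points.map g (AlgSt.Points.mk p') ∈ T
    rw [AlgSt.Points.map_mk]
    exact h (p'.map g) ⟨g.map ψ⟩
  · intro h p ⟨φ⟩
    let σ : Over.mk p.str ⟶ 𝒜.p.obj a := baseHom φ p.lies (g.w_obj a)
    have hφ : 𝒳.p.IsHomLift σ φ := inferInstance
    obtain ⟨a', ψ, hψ⟩ := FibGrpd.exists_lift' h𝒜 (rfl : 𝒜.p.obj a = 𝒜.p.obj a) σ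
    haveI := hψ
    let p' : AlgSt.FPt 𝒜 :=
      { K := p.K, str := p.str, obj := a', lies := IsHomLift.domain_eq 𝒜.p σ ψ }
    have hGψ : 𝒳.p.IsHomLift σ (g.map ψ) := inferInstance
    obtain ⟨χ, -, -⟩ := exists_fill h𝒳 σ σ (𝟙 _) (Category.id_comp _) φ (g.map ψ) hφ hGψ
    have e : AlgSt.Points.mk p = AlgSt.Points.map g (AlgSt.Points.mk p') :=
      AlgSt.Points.sound ⟨p, 𝟙 _, χ, trivial⟩
    rw [e]
    exact h p' ⟨ψ⟩

/-- the preimage of an open substack is an open substack -/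
theorem isOpenSubstack_preimage (h𝒜 : AlgSt.IsAlgStack Scheme.fppfPrecoverage 𝒜)
    (h𝒳 : AlgSt.IsAlgStack Scheme.fppfPrecoverage 𝒳) (g : 𝒜 ⥤ᵇ 𝒳) (Q₀ : 𝒳.obj → Prop)
    (hQ₀ : AlgSt.IsOpenSubstack 𝒳 Q₀ Scheme.fppfPrecoverage) :
    AlgSt.IsOpenSubstack 𝒜 (fun a => Q₀ (g.obj a)) Scheme.fppfPrecoverage := by
  have hT : IsOpen (Set.range (AlgSt.Points.map (AlgSt.subIncl 𝒳 Q₀))) :=
    isOpen_range_of_isOpenSubstack h𝒳 Q₀ hQ₀
  have hT' : IsOpen (AlgSt.Points.map g ⁻¹' Set.range (AlgSt.Points.map (AlgSt.subIncl 𝒳 Q₀))) :=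
    (continuous_points_map h𝒜.isStack.1 h𝒳 g).isOpen_preimage _ hT
  have heq : (fun a => Q₀ (g.obj a)) =
      QT (AlgSt.Points.map g ⁻¹' Set.range (AlgSt.Points.map (AlgSt.subIncl 𝒳 Q₀))) :=
    funext fun a => propext ((Q_iff_QT_range h𝒳 Q₀ hQ₀ _).trans
      (QT_preimage_iff h𝒜.isStack.1 h𝒳.isStack.1 g _ a))
  rw [heq]
  exact isOpenSubstack_QT _ h𝒜 hT'

section SubPre

variable (g : 𝒜 ⥤ᵇ 𝒳) (Q₀ : 𝒳.obj → Prop)

/-- the preimage substack as a 2-fibre product -/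
def subPre : AlgSt.fullSub 𝒜 (fun a => Q₀ (g.obj a)) ⥤ᵇ fp g (AlgSt.subIncl 𝒳 Q₀) :=
  fpLift (AlgSt.subIncl 𝒜 _)
    (liftSub Q₀ (BasedFunctor.comp (AlgSt.subIncl 𝒜 (fun a => Q₀ (g.obj a))) g)
      (fun a => a.property)) (Iso.refl _)

theorem subPre_comp_fpFst :
    BasedFunctor.comp (subPre g Q₀) (fpFst g (AlgSt.subIncl 𝒳 Q₀)) = AlgSt.subIncl 𝒜 _ := rfl

theorem subPre_faithful : (subPre g Q₀).toFunctor.Faithful := by
  refine ⟨fun {a a'} k k' h => ?_⟩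
  apply (AlgSt.subIncl 𝒜 (fun a => Q₀ (g.obj a))).toFunctor.map_injective
  exact congrArg (fun m => m.hom.fst) h

theorem subPre_full : (subPre g Q₀).toFunctor.Full := by
  refine ⟨fun {a a'} Θ => ?_⟩
  let m : a.obj ⟶ a'.obj := Θ.hom.fst
  let k : a ⟶ a' := (AlgSt.subIncl 𝒜 (fun a => Q₀ (g.obj a))).toFunctor.preimage m
  have hk : (AlgSt.subIncl 𝒜 (fun a => Q₀ (g.obj a))).map k = m :=
    (AlgSt.subIncl 𝒜 (fun a => Q₀ (g.obj a))).toFunctor.map_preimage m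
  refine ⟨k, ?_⟩
  have h1 : ((subPre g Q₀).map k).hom.fst = Θ.hom.fst := hk
  apply fp_hom_ext h1
  apply (AlgSt.subIncl 𝒳 Q₀).toFunctor.map_injective
  have hw := Θ.hom.w
  change g.map Θ.hom.fst ≫ 𝟙 _ = 𝟙 _ ≫ (AlgSt.subIncl 𝒳 Q₀).map Θ.hom.snd at hw
  rw [Category.comp_id, Category.id_comp] at hw
  change g.map ((AlgSt.subIncl 𝒜 (fun a => Q₀ (g.obj a))).map k) = _
  rw [← hw, hk]
  rfl

theorem subPre_essSurj (hQ₀ : ObjectProperty.IsClosedUnderIsomorphisms Q₀)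
    (z : (fp g (AlgSt.subIncl 𝒳 Q₀)).obj) :
    ∃ (a : (AlgSt.fullSub 𝒜 (fun a => Q₀ (g.obj a))).obj) (e : (subPre g Q₀).obj a ≅ z),
      (fp g (AlgSt.subIncl 𝒳 Q₀)).p.IsHomLift
        (𝟙 ((fp g (AlgSt.subIncl 𝒳 Q₀)).p.obj z)) e.hom := by
  let b : 𝒜.obj := z.obj.fst
  let x' : (AlgSt.fullSub 𝒳 Q₀).obj := z.obj.snd
  let ι : g.obj b ≅ x'.obj := z.obj.iso
  have hb : Q₀ (g.obj b) := hQ₀.of_iso ι.symm x'.property
  let a : (AlgSt.fullSub 𝒜 (fun a => Q₀ (g.obj a))).obj := ⟨b, hb⟩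
  let e₂ : (liftSub Q₀ (BasedFunctor.comp (AlgSt.subIncl 𝒜 (fun a => Q₀ (g.obj a))) g)
      (fun a => a.property)).obj a ≅ x' :=
    (AlgSt.subIncl 𝒳 Q₀).toFunctor.preimageIso ι
  have he₂ : (AlgSt.subIncl 𝒳 Q₀).map e₂.hom = ι.hom :=
    (AlgSt.subIncl 𝒳 Q₀).toFunctor.map_preimage _
  refine ⟨a, fpMkIso (x := (subPre g Q₀).obj a) (z := z) (Iso.refl _) e₂ ?_, ?_⟩
  · change g.map (𝟙 _) ≫ ι.hom = 𝟙 _ ≫ (AlgSt.subIncl 𝒳 Q₀).map e₂.hom
    rw [Category.id_comp, he₂, g.toFunctor.map_id, Category.id_comp]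
  · apply fpMkIso_lift
    exact IsHomLift.id rfl

theorem isEquivOver_subPre (hQ₀ : ObjectProperty.IsClosedUnderIsomorphisms Q₀) :
    IsEquivOver (subPre g Q₀) := by
  rw [isEquivOver_iff]
  exact ⟨subPre_full g Q₀, subPre_faithful g Q₀, subPre_essSurj g Q₀ hQ₀⟩

end SubPre

set_option backward.isDefEq.respectTransparency.types false in
/-- base change of `P` for the open substack: `P` for `𝒬₀ ⟶ 𝒴` gives `P` for the preimage of `𝒬₀`
in `𝒵 ×_𝒴 𝒳` over `𝒵` -/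
theorem rep_P_preimage (P : MorphismProperty (Sp S)) (z : 𝒵 ⥤ᵇ 𝒴) (f : 𝒳 ⥤ᵇ 𝒴)
    (Q₀ : 𝒳.obj → Prop) (hQ₀ : ObjectProperty.IsClosedUnderIsomorphisms Q₀)
    (hrep : AlgSt.RepByAlgSpWith P (BasedFunctor.comp (AlgSt.subIncl 𝒳 Q₀) f)) :
    AlgSt.RepByAlgSpWith P
      (BasedFunctor.comp (AlgSt.subIncl (fp z f) fun b => Q₀ b.obj.snd) (fpFst z f)) := by
  let Ψ : AlgSt.fullSub (fp z f) (fun b => Q₀ b.obj.snd) ⥤ᵇ
      fp z (BasedFunctor.comp (AlgSt.subIncl 𝒳 Q₀) f) :=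
    BasedFunctor.comp (subPre (fpSnd z f) Q₀)
      (compFunctor z f (AlgSt.subIncl 𝒳 Q₀) (BasedFunctor.id (fp z f)))
  have hΨ : IsEquivOver Ψ := isEquivOver_comp (isEquivOver_subPre (fpSnd z f) Q₀ hQ₀)
    (isEquivOver_compFunctor z f _ _ (isEquivOver_id _))
  exact repByAlgSpWith_of_square P (fpFst z (BasedFunctor.comp (AlgSt.subIncl 𝒳 Q₀) f)) _ Ψ
    (BasedFunctor.id _) hΨ (isEquivOver_id _) (Iso.refl _) (rep_fpFst P z _ hrep)

end Groth.Agent.Helper6.LargestOpen5
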