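import Mathlib
import Groth.Agent.Helper6.OpenSub6
import Groth.Agent.Helper6.LargestOpen1
import Groth.Agent.Helper6.LargestOpen2
import Groth.Agent.Helper6.LargestOpen3
import Groth.Agent.Helper6.LargestOpen5
import Groth.Agent.Helper6.FpAlg
import Groth.Agent.Helper6.StTop3
import Groth.Agent.Helper6.FpComp
import Groth.Agent.Helper5.LargestOpen
import Groth.Agent.Helper6.TwoProjSp
import Groth.Agent.Helper6.LocQ10
import Groth.Agent.Helper6.LocalFppf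
import Groth.Agent.Helper6.FpLiftIso
import Groth.Agent.Helper5.AlgSpIso

/-!
# Helper6: largest open substack with a property, VI — compatibility with base change (S19908)
-/

set_option autoImplicit false
set_option linter.style.haveILetI false
set_option linter.unusedVariables false
universe u

namespace Groth.Agent.Helper6.LargestOpen6
open CategoryTheory Functor FibCat Limits AlgebraicGeometry Opposite
open Groth.Agent.Helper3 Stk Groth.Agent.Helper6.OfPsh Groth.Agent.Helper6.OfPshHom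
open Groth.Agent.Helper6.FpTools Groth.Agent.Helper6.OfPshFp Groth.Agent.Helper6.AlgStRep
open Groth.Agent.Helper6.AlgStEquiv Groth.Agent.Helper6.AlgStInv Groth.Agent.Helper6.AlgStPsh
open Groth.Agent.Helper6.DiagRed Groth.Agent.Helper6.RepDiag Groth.Agent.Helper6.RepComp
open Groth.Agent.Helper6.DiagRep Groth.Agent.Helper6.AlgStPts Groth.Agent.Helper6.StPts
open Groth.Agent.Helper6.SmLoc Groth.Agent.Helper6.ChartOver Groth.Agent.Helper6.StTop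
open Groth.Agent.Helper6.QcMor2 Groth.Agent.Helper6.SpAtlas Groth.Agent.Helper4.SDClasses
open Groth.Agent.Helper6.Descent1 Groth.Agent.Helper6.Descent2 Groth.Agent.Helper6.LocQ0
open Groth.Agent.Helper6.LocQ1 Groth.Agent.Helper6.LocQ2 Groth.Agent.Helper6.AlgStBC
open Groth.Agent.Helper6.OverRep Groth.Agent.Helper6.LocQ3 Groth.Agent.Helper6.LocQ4
open Groth.Agent.Helper6.FlatST Groth.Agent.Helper6.DiagLft Groth.Agent.Helper6.ToSpace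
open Groth.Agent.Helper6.LocQ5 Groth.Agent.Helper6.OpenSub1 Groth.Agent.Helper6.OpenSub2
open Groth.Agent.Helper6.OpenSub3 Groth.Agent.Helper6.OpenSub4 Groth.Agent.Helper6.OpenSub5
open Groth.Agent.Helper6.OpenSub6 Groth.Agent.Helper6.SpSquare Groth.Agent.Helper6.TwoProj
open Groth.Agent.Helper6.TwoProjSp Groth.Agent.Helper4.AlgSpPtsDesc
open Groth.Agent.Helper6.LargestOpen5 Groth.Agent.Helper6.LargestOpen3 Groth.Agent.Helper6.LargestOpen1 Groth.Agent.Helper6.LargestOpen2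
open Groth.Agent.Helper5.AlgSpIso
open AlgSp


variable {S : Scheme.{u}} {𝒳 𝒴 𝒵 𝒜 : AlgSt.Cat S} {P Q R : MorphismProperty (Sp S)}

set_option backward.isDefEq.respectTransparency.types false in
/-- S19908 -/
theorem largest_preimage (H : Hyp P Q R) (h𝒳 : AlgSt.IsAlgStack Scheme.fppfPrecoverage 𝒳)
    (h𝒴 : AlgSt.IsAlgStack Scheme.fppfPrecoverage 𝒴)
    (h𝒵 : AlgSt.IsAlgStack Scheme.fppfPrecoverage 𝒵) (f : 𝒳 ⥤ᵇ 𝒴)
    (hf : AlgSt.RepByAlgSpWith Q f)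
    (Q₀ : 𝒳.obj → Prop) (hQ₀ : AlgSt.IsOpenSubstack 𝒳 Q₀ Scheme.fppfPrecoverage)
    (hQ₀P : AlgSt.RepByAlgSpWith P (BasedFunctor.comp (AlgSt.subIncl 𝒳 Q₀) f))
    (hQ₀max : ∀ Q₁ : 𝒳.obj → Prop, AlgSt.IsOpenSubstack 𝒳 Q₁ Scheme.fppfPrecoverage →
      AlgSt.RepByAlgSpWith P (BasedFunctor.comp (AlgSt.subIncl 𝒳 Q₁) f) → ∀ y, Q₁ y → Q₀ y)
    (z : 𝒵 ⥤ᵇ 𝒴) (hz : AlgSt.RepByAlgSpWith R z) :
    AlgSt.IsOpenSubstack (fp z f) (fun b ↦ Q₀ b.obj.snd) Scheme.fppfPrecoverage ∧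
      AlgSt.RepByAlgSpWith P
        (BasedFunctor.comp (AlgSt.subIncl (fp z f) fun b ↦ Q₀ b.obj.snd) (fpFst z f)) ∧
        ∀ Q₁ : (fp z f).obj → Prop, AlgSt.IsOpenSubstack (fp z f) Q₁ Scheme.fppfPrecoverage →
          AlgSt.RepByAlgSpWith P (BasedFunctor.comp (AlgSt.subIncl (fp z f) Q₁) (fpFst z f)) →
            ∀ b, Q₁ b → Q₀ b.obj.snd := by
  have hX := h𝒳.isStack.1
  have hY := h𝒴.isStack.1
  have hZ := h𝒵.isStack.1
  have h𝒜 : AlgSt.IsAlgStack Scheme.fppfPrecoverage (fp z f) :=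
    Groth.Agent.Helper6.FpAlg.isAlgStack_fp h𝒴.isStack h𝒴.diag h𝒵 h𝒳 z f
  refine ⟨isOpenSubstack_preimage h𝒜 h𝒳 (fpSnd z f) Q₀ hQ₀, rep_P_preimage P z f Q₀ hQ₀.1 hQ₀P,
    fun Q₁ hQ₁ hrep b hb => ?_⟩
  -- the chart of `𝒴` and the largest open subspace there
  obtain ⟨U₀, y₀, hy₁, hy₂⟩ := h𝒴.atlas
  let G : Space S := ⟨(yon S).obj U₀, IsAlgSpace.yon_obj U₀⟩
  let w : AlgSt.ofSp G.obj ⥤ᵇ 𝒴 := BasedFunctor.comp (AlgSt.toOverCat U₀) y₀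
  have hw₁ : AlgSt.RepByAlgSpWith (LocP @Smooth) w :=
    rep_equiv_comp _ (AlgSt.toOverCat U₀) (isEquivOver_toOverCat U₀) y₀ hy₁
  have hw₂ : AlgSt.RepByAlgSpWith IsSurjectiveMor w :=
    rep_equiv_comp _ (AlgSt.toOverCat U₀) (isEquivOver_toOverCat U₀) y₀ hy₂
  obtain ⟨F₀, e, c₀, he, ⟨i⟩, hc₀⟩ := exists_space_of_rep Q H.hQ hX hY f hf G w
  obtain ⟨W₀, w₀, hW₀⟩ := H.h₃ F₀ G (ObjectProperty.homMk c₀) hc₀
  -- the chart `Z₁ = G ×_𝒴 𝒵` of `𝒵`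
  obtain ⟨Z₁, εz, r, hεz, ⟨ιr⟩, hr⟩ := exists_space_of_rep R H.hR hZ hY z hz G w
  let w' : AlgSt.ofSp Z₁.obj ⥤ᵇ 𝒵 := BasedFunctor.comp εz (fpSnd w z)
  have hw'₂ : AlgSt.RepByAlgSpWith IsSurjectiveMor w' :=
    rep_equiv_comp _ εz hεz _ (rep_fpSnd _ w z hw₂)
  let w₁ : AlgSt.ofSp Z₁.obj ⥤ᵇ 𝒴 := BasedFunctor.comp w' z
  let κ : BasedFunctor.comp (AlgSt.ofSpMap r) w ≅ w₁ :=
    whiskerRightIso' ιr.symm w ≪≫ whiskerLeftIso' εz (fpIso w z)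
  obtain ⟨F₀', e₁, c₁, he₁, ⟨i₁⟩, hc₁⟩ := exists_space_of_rep Q H.hQ hX hY f hf Z₁ w₁
  obtain ⟨d, sq, ⟨j⟩⟩ := exists_isPullback_dfun f w r w₁ κ e he c₀ i e₁ he₁ c₁ i₁
  obtain ⟨W₀', w₀', k, sqW, hL'⟩ := exists_pullback_isLargest H (ObjectProperty.homMk c₀ : F₀ ⟶ G)
    hc₀ W₀ w₀ hW₀ (ObjectProperty.homMk r : Z₁ ⟶ G) hr (ObjectProperty.homMk c₁ : F₀' ⟶ Z₁)
    (ObjectProperty.homMk d) sq
  -- the chart of `𝒵 ×_𝒴 𝒳 ⟶ 𝒵`
  let e' : AlgSt.ofSp F₀'.obj ⥤ᵇ fp w' (fpFst z f) := BasedFunctor.comp e₁ (pasteLeft w' z f)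
  have he' : IsEquivOver e' := isEquivOver_comp he₁ (isEquivOver_pasteLeft w' z f)
  have i' : BasedFunctor.comp e' (fpFst w' (fpFst z f)) ≅ AlgSt.ofSpMap c₁ := i₁
  have hsub := range_subset_Tset H h𝒜 h𝒵 (fpFst z f) Z₁ w' hw'₂ F₀' e' he'
    (ObjectProperty.homMk c₁) i' W₀' w₀' hL' Q₁ hQ₁ hrep
  have hT' : Tset (fpFst z f) w' e' w₀' ⊆ AlgSt.Points.map (fpSnd z f) ⁻¹' Tset f w e w₀ := by
    rintro _ ⟨ζ, rfl⟩
    refine ⟨AlgSt.Points.map (AlgSt.ofSpMap k.hom) ζ, ?_⟩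
    rw [← points_map_comp, ← points_map_comp]
    have hkw : BasedFunctor.comp (AlgSt.ofSpMap k.hom) (AlgSt.ofSpMap w₀.hom) =
        BasedFunctor.comp (AlgSt.ofSpMap w₀'.hom) (AlgSt.ofSpMap d) := by
      change AlgSt.ofSpMap (k.hom ≫ w₀.hom) = AlgSt.ofSpMap (w₀'.hom ≫ d)
      rw [sqW.w]
      rfl
    have hkw' : BasedFunctor.comp (BasedFunctor.comp (AlgSt.ofSpMap k.hom) (AlgSt.ofSpMap w₀.hom))
        (BasedFunctor.comp e (fpSnd w f)) =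
      BasedFunctor.comp (BasedFunctor.comp (AlgSt.ofSpMap w₀'.hom) (AlgSt.ofSpMap d))
        (BasedFunctor.comp e (fpSnd w f)) := by rw [hkw]
    apply points_map_congr
    exact (Iso.refl _ : BasedFunctor.comp (AlgSt.ofSpMap k.hom)
        (BasedFunctor.comp (AlgSt.ofSpMap w₀.hom) (BasedFunctor.comp e (fpSnd w f))) ≅
        BasedFunctor.comp (BasedFunctor.comp (AlgSt.ofSpMap k.hom) (AlgSt.ofSpMap w₀.hom))
          (BasedFunctor.comp e (fpSnd w f))) ≪≫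
      eqToIso hkw' ≪≫
      (Iso.refl _ : BasedFunctor.comp (BasedFunctor.comp (AlgSt.ofSpMap w₀'.hom) (AlgSt.ofSpMap d))
          (BasedFunctor.comp e (fpSnd w f)) ≅
        BasedFunctor.comp (AlgSt.ofSpMap w₀'.hom)
          (BasedFunctor.comp (BasedFunctor.comp (AlgSt.ofSpMap d) e) (fpSnd w f))) ≪≫
      whiskerLeftIso' (AlgSt.ofSpMap w₀'.hom) (whiskerRightIso' j (fpSnd w f)) ≪≫
      (Iso.refl _ : BasedFunctor.comp (AlgSt.ofSpMap w₀'.hom)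
          (BasedFunctor.comp (BasedFunctor.comp e₁ (Dfun f w (AlgSt.ofSpMap r) w₁ κ)) (fpSnd w f)) ≅
        BasedFunctor.comp (BasedFunctor.comp (AlgSt.ofSpMap w₀'.hom)
          (BasedFunctor.comp e' (fpSnd w' (fpFst z f)))) (fpSnd z f))
  have h1 : QT (Set.range (AlgSt.Points.map (AlgSt.subIncl (fp z f) Q₁))) b :=
    (Q_iff_QT_range h𝒜 Q₁ hQ₁ b).1 hb
  have h2 : QT (AlgSt.Points.map (fpSnd z f) ⁻¹' Tset f w e w₀) b := QT_mono (hsub.trans hT') h1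
  have h3 : QT (Tset f w e w₀) ((fpSnd z f).obj b) :=
    (QT_preimage_iff h𝒜.isStack.1 hX (fpSnd z f) _ b).2 h2
  exact hQ₀max (QT (Tset f w e w₀))
    (isOpenSubstack_QT _ h𝒳 (isOpen_Tset hX f w hw₁ e he w₀ hW₀.1))
    (rep_P_QT H h𝒳 h𝒴 f hf G w hw₁ hw₂ F₀ e he (ObjectProperty.homMk c₀) i hc₀ W₀ w₀ hW₀) _ h3

end Groth.Agent.Helper6.LargestOpen6
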