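import Mathlib

set_option autoImplicit false
set_option linter.style.haveILetI false
set_option linter.unusedSectionVars false

namespace Groth.Agent.Helper6.LatQ

open Finset

/-- a basis of `ℤ^r` whose first vector is `d` divided by its content -/
theorem exists_adapted_basis (r : ℕ) (hr : 0 < r) (d : Fin r → ℤ) :
    ∃ f : Module.Basis (Fin r) ℤ (Fin r → ℤ), d = (Finset.univ.gcd d) • f ⟨0, hr⟩ := by
  classical
  by_cases hd : d = 0
  · refine ⟨Pi.basisFun ℤ (Fin r), ?_⟩
    have : Finset.univ.gcd d = 0 := by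
      rw [Finset.gcd_eq_zero_iff]; intro i _; rw [hd]; rfl
    rw [this, zero_smul, hd]
  · obtain ⟨n, S⟩ := (Submodule.span ℤ {d}).smithNormalForm (Pi.basisFun ℤ (Fin r))
    have hn : n = 1 := by
      have e := LinearEquiv.toSpanNonzeroSingleton ℤ (Fin r → ℤ) d hd
      have h1 : Module.finrank ℤ (Submodule.span ℤ {d}) = 1 := by
        rw [← e.finrank_eq, Module.finrank_self]
      rw [Module.finrank_eq_card_basis S.bN, Fintype.card_fin] at h1
      exact h1
    subst hn
    have hdN : d ∈ Submodule.span ℤ {d} := Submodule.mem_span_singleton_self d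
    have h2 : (⟨d, hdN⟩ : Submodule.span ℤ {d}) = (S.bN.repr ⟨d, hdN⟩ 0) • S.bN 0 := by
      conv_lhs => rw [← S.bN.sum_repr ⟨d, hdN⟩]
      simp
    obtain ⟨a', ha'⟩ : ∃ a' : ℤ, a' = S.bN.repr ⟨d, hdN⟩ 0 * S.a 0 := ⟨_, rfl⟩
    obtain ⟨j, hj⟩ : ∃ j : Fin r, j = S.f 0 := ⟨_, rfl⟩
    have h3 : d = a' • S.bM j := by
      have := congrArg Subtype.val h2
      rw [Submodule.coe_smul, S.snf, smul_smul] at this
      rw [ha', hj]
      exact this
    obtain ⟨D, hD⟩ : ∃ D : ℤ, D = Finset.univ.gcd d := ⟨_, rfl⟩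
    have hD0 : 0 ≤ D := by
      rw [hD, ← Finset.normalize_gcd]
      exact Int.nonneg_of_normalize_eq_self (by rw [normalize_idem])
    have h4 : a' ∣ D := by
      rw [hD]
      apply Finset.dvd_gcd
      intro i _
      have := congrFun h3 i
      rw [Pi.smul_apply, smul_eq_mul] at this
      exact ⟨_, this⟩
    have h5 : D ∣ a' := by
      have hdv : ∀ i, D ∣ d i := fun i => by rw [hD]; exact Finset.gcd_dvd (Finset.mem_univ i)
      choose d'' hd'' using hdv
      have h6 : d = D • d'' := by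
        funext i; rw [Pi.smul_apply, smul_eq_mul]; exact hd'' i
      have h7 : (S.bM.coord j) (D • d'') = (S.bM.coord j) (a' • S.bM j) :=
        congrArg _ (h6.symm.trans h3)
      rw [map_smul, map_smul, Module.Basis.coord_apply, Module.Basis.coord_apply,
        Module.Basis.repr_self, Finsupp.single_eq_same, smul_eq_mul, smul_eq_mul, mul_one] at h7
      exact ⟨_, h7.symm⟩
    have h8 : D.natAbs = a'.natAbs := Int.natAbs_eq_of_dvd_dvd h5 h4
    rcases Int.natAbs_eq_natAbs_iff.1 h8 with h9 | h9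
    · refine ⟨S.bM.reindex (Equiv.swap j ⟨0, hr⟩), ?_⟩
      rw [Module.Basis.reindex_apply, Equiv.symm_swap, Equiv.swap_apply_right, ← hD, h9]
      exact h3
    · refine ⟨(S.bM.map (LinearEquiv.neg ℤ)).reindex (Equiv.swap j ⟨0, hr⟩), ?_⟩
      rw [Module.Basis.reindex_apply, Equiv.symm_swap, Equiv.swap_apply_right, ← hD, h9,
        Module.Basis.map_apply, LinearEquiv.neg_apply, neg_smul, smul_neg, neg_neg]
      exact h3

/-- two additive maps agreeing on a basis are equal -/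
lemma ext_basis {r δ : ℕ} (f : Module.Basis (Fin r) ℤ (Fin r → ℤ))
    (φ ψ : (Fin r → ℤ) →+ ZMod δ) (h : ∀ i, φ (f i) = ψ (f i)) : φ = ψ := by
  have : φ.toIntLinearMap = ψ.toIntLinearMap := f.ext (fun i => h i)
  refine DFunLike.ext _ _ fun x => ?_
  exact congrArg (fun l : (Fin r → ℤ) →ₗ[ℤ] ZMod δ => l x) this

lemma toBilin_basis {r : ℕ} (f : Module.Basis (Fin r) ℤ (Fin r → ℤ))
    (B : Matrix (Fin r) (Fin r) ℤ) (i j : Fin r) : Matrix.toBilin f B (f i) (f j) = B i j := by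
  rw [← LinearMap.BilinForm.toMatrix_apply f, LinearMap.BilinForm.toMatrix_toBilin]

lemma intCast_zmod_eq_zero_iff (n : ℕ) (a : ℤ) : ((a : ℤ) : ZMod n) = 0 ↔ (n : ℤ) ∣ a :=
  CharP.intCast_eq_zero_iff (ZMod n) n a

/-- the additive map attached to a symmetric form -/
theorem exists_psi (r δ : ℕ) (g : ℤ) (hδ : (δ : ℤ) ∣ 2 * (g - 1)) (d : Fin r → ℤ)
    (b : LinearMap.BilinForm ℤ (Fin r → ℤ)) (hb : b.IsSymm) :
    ∃ ψ : (Fin r → ℤ) →+ ZMod δ, ∀ x, ψ x = ((b d x + (1 - g) * b x x : ℤ) : ZMod δ) := by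
  refine ⟨AddMonoidHom.mk' (fun x => ((b d x + (1 - g) * b x x : ℤ) : ZMod δ)) ?_, fun x => rfl⟩
  intro x y
  rw [← Int.cast_add, ← sub_eq_zero, ← Int.cast_sub, intCast_zmod_eq_zero_iff]
  have hs : b y x = b x y := hb.eq y x
  have : b d (x + y) + (1 - g) * b (x + y) (x + y) -
      (b d x + (1 - g) * b x x + (b d y + (1 - g) * b y y)) = -(2 * (g - 1)) * b x y := by
    simp only [map_add, LinearMap.add_apply]
    rw [hs]; ring
  rw [this]
  exact Dvd.dvd.mul_right (dvd_neg.2 hδ) _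

end Groth.Agent.Helper6.LatQ
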