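import Mathlib
import Groth.Agent.Helper6.LatQ1

set_option autoImplicit false
set_option linter.style.haveILetI false
set_option linter.unusedSectionVars false

namespace Groth.Agent.Helper6.LatQ

open Finset

/-- the generating set of boundary forms -/
def genSet (r δ : ℕ) (g : ℤ) (d : Fin r → ℤ) : Set ((Fin r → ℤ) →+ ZMod δ) :=
  {φ | ∃ b : LinearMap.BilinForm ℤ (Fin r → ℤ), b.IsSymm ∧
    ∀ x, φ x = ((b d x + (1 - g) * b x x : ℤ) : ZMod δ)}

theorem exists_Psi (r : ℕ) (hr : 0 < r) (δ : ℕ) (g : ℤ) (hδ : (δ : ℤ) ∣ 2 * (g - 1))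
    (d : Fin r → ℤ) (f : Module.Basis (Fin r) ℤ (Fin r → ℤ)) (D : ℤ) (hd : d = D • f ⟨0, hr⟩)
    (g1 g2 : ℕ) (h1d : g1 ∣ δ) (h1m : (g1 : ℤ) ∣ D + 1 - g)
    (h1b : ∃ α β : ℤ, (g1 : ℤ) = δ * α + (D + 1 - g) * β)
    (h2d : g2 ∣ δ) (h2a : (g2 : ℤ) ∣ g - 1) (h2D : (g2 : ℤ) ∣ D)
    (h2b : ∃ α β γ : ℤ, (g2 : ℤ) = δ * α + (g - 1) * β + D * γ) :
    ∃ (sc : Fin (r - 1) → Fin r)
      (Ψ : ((Fin r → ℤ) →+ ZMod δ) →+ ZMod g1 × (Fin (r - 1) → ZMod g2)),
      (∀ j, (sc j).1 = j.1 + 1) ∧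
      Function.Surjective Ψ ∧ Ψ.ker = AddSubgroup.closure (genSet r δ g d) ∧
      ∀ φ, Ψ φ = (ZMod.castHom h1d (ZMod g1) (φ (f ⟨0, hr⟩)),
        fun j => ZMod.castHom h2d (ZMod g2) (φ (f (sc j)))) := by
  classical
  obtain ⟨i0, hi0⟩ : ∃ i0 : Fin r, i0 = ⟨0, hr⟩ := ⟨_, rfl⟩
  obtain ⟨sc, hsc⟩ : ∃ sc : Fin (r - 1) → Fin r, ∀ j, (sc j).1 = j.1 + 1 :=
    ⟨fun j => ⟨j.1 + 1, by have := j.2; omega⟩, fun j => rfl⟩
  have hsc0 : ∀ j, sc j ≠ i0 := by
    intro j h
    have := congrArg Fin.val h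
    rw [hsc, hi0] at this
    simp at this
  have hpred : ∀ i : Fin r, i ≠ i0 → ∃ j : Fin (r - 1), sc j = i := by
    intro i hi
    have hi' : i.1 ≠ 0 := by
      intro h0
      apply hi
      rw [hi0]
      exact Fin.ext h0
    refine ⟨⟨i.1 - 1, by have := i.2; omega⟩, ?_⟩
    apply Fin.ext
    rw [hsc]
    show i.1 - 1 + 1 = i.1
    omega
  have hscinj : ∀ j j', sc j = sc j' → j = j' := by
    intro j j' h
    have := congrArg Fin.val h
    rw [hsc, hsc] at this
    exact Fin.ext (by omega)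
  have hext : ∀ {α : Type} (a : α) (t : Fin (r - 1) → α),
      ∃ T : Fin r → α, T i0 = a ∧ ∀ j, T (sc j) = t j := by
    intro α a t
    refine ⟨fun i => if h : i.1 = 0 then a else t ⟨i.1 - 1, by have := i.2; omega⟩, ?_, ?_⟩
    · rw [hi0]; simp
    · intro j
      have h1 : (sc j).1 ≠ 0 := by rw [hsc]; omega
      beta_reduce
      rw [dif_neg h1]
      congr 1
      apply Fin.ext
      show (sc j).1 - 1 = j.1
      rw [hsc]; omega
  rw [← hi0] at hd
  obtain ⟨c1, hc1⟩ : ∃ c1 : ZMod δ →+* ZMod g1, c1 = ZMod.castHom h1d (ZMod g1) := ⟨_, rfl⟩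
  obtain ⟨c2, hc2⟩ : ∃ c2 : ZMod δ →+* ZMod g2, c2 = ZMod.castHom h2d (ZMod g2) := ⟨_, rfl⟩
  obtain ⟨Ψ, hΨ⟩ : ∃ Ψ : ((Fin r → ℤ) →+ ZMod δ) →+ ZMod g1 × (Fin (r - 1) → ZMod g2),
      ∀ φ, Ψ φ = (c1 (φ (f i0)), fun j => c2 (φ (f (sc j)))) :=
    ⟨AddMonoidHom.mk' (fun φ => (c1 (φ (f i0)), fun j => c2 (φ (f (sc j)))))
      (fun a b => Prod.ext (by simp) (funext fun j => by simp)), fun φ => rfl⟩
  refine ⟨sc, Ψ, hsc, ?_, ?_, ?_⟩
  · -- surjective
    rintro ⟨y0, y⟩
    obtain ⟨w0, hw0⟩ := ZMod.intCast_surjective y0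
    choose w hw using fun j => ZMod.intCast_surjective (y j)
    obtain ⟨v, hv0, hvs⟩ := hext (w0 : ZMod δ) (fun j => ((w j : ℤ) : ZMod δ))
    refine ⟨(f.constr ℤ v).toAddMonoidHom, ?_⟩
    rw [hΨ]
    refine Prod.ext ?_ (funext fun j => ?_)
    · show c1 ((f.constr ℤ v) (f i0)) = y0
      rw [Module.Basis.constr_basis, hv0, map_intCast, hw0]
    · show c2 ((f.constr ℤ v) (f (sc j))) = y j
      rw [Module.Basis.constr_basis, hvs, map_intCast, hw]
  · -- kernel
    apply le_antisymm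
    · intro φ hφ
      rw [AddMonoidHom.mem_ker, hΨ, Prod.ext_iff] at hφ
      obtain ⟨hφ0, hφs⟩ := hφ
      simp only [Prod.fst_zero, Prod.snd_zero] at hφ0 hφs
      -- first coordinate
      obtain ⟨z0, hz0⟩ := ZMod.intCast_surjective (φ (f i0))
      rw [← hz0, map_intCast, intCast_zmod_eq_zero_iff] at hφ0
      obtain ⟨t0, ht0⟩ := hφ0
      obtain ⟨α, β, hαβ⟩ := h1b
      have hs0 : φ (f i0) = (((D + 1 - g) * (β * t0) : ℤ) : ZMod δ) := by
        rw [← hz0, ← sub_eq_zero, ← Int.cast_sub, intCast_zmod_eq_zero_iff]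
        refine ⟨α * t0, ?_⟩
        rw [ht0, hαβ]; ring
      -- other coordinates
      obtain ⟨α', β', γ', hαβγ⟩ := h2b
      have hsj : ∀ j : Fin (r - 1), ∃ t : ℤ,
          φ (f (sc j)) = ((D * (γ' * t) + (1 - g) * (-β' * t) : ℤ) : ZMod δ) := by
        intro j
        obtain ⟨zj, hzj⟩ := ZMod.intCast_surjective (φ (f (sc j)))
        have h1 := congrFun hφs j
        simp only [Pi.zero_apply] at h1
        rw [← hzj, map_intCast, intCast_zmod_eq_zero_iff] at h1
        obtain ⟨t, ht⟩ := h1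
        refine ⟨t, ?_⟩
        rw [← hzj, ← sub_eq_zero, ← Int.cast_sub, intCast_zmod_eq_zero_iff]
        refine ⟨α' * t, ?_⟩
        rw [ht, hαβγ]; ring
      choose tt htt using hsj
      obtain ⟨T, -, hT⟩ := hext (0 : ℤ) tt
      obtain ⟨B, hB⟩ : ∃ B : Matrix (Fin r) (Fin r) ℤ, ∀ i i', B i i' =
          if i = i0 then (if i' = i0 then β * t0 else γ' * T i')
          else (if i' = i0 then γ' * T i else (if i = i' then -β' * T i else 0)) :=
        ⟨Matrix.of fun i i' => if i = i0 then (if i' = i0 then β * t0 else γ' * T i')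
          else (if i' = i0 then γ' * T i else (if i = i' then -β' * T i else 0)),
          fun i i' => rfl⟩
      have hBs : B.IsSymm := by
        apply Matrix.IsSymm.ext
        intro i i'
        rw [hB, hB]
        by_cases h1 : i = i0
        · by_cases h2 : i' = i0
          · simp only [if_pos h1, if_pos h2]
          · simp only [if_pos h1, if_neg h2]
        · by_cases h2 : i' = i0
          · simp only [if_neg h1, if_pos h2]
          · simp only [if_neg h1, if_neg h2]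
            by_cases h3 : i = i'
            · rw [h3]
            · rw [if_neg h3, if_neg (Ne.symm h3)]
      obtain ⟨b, hb⟩ : ∃ b : LinearMap.BilinForm ℤ (Fin r → ℤ), b = Matrix.toBilin f B := ⟨_, rfl⟩
      have hbs : b.IsSymm := by rw [hb]; exact (Matrix.isSymm_toBilin_iff_isSymm f).2 hBs
      obtain ⟨ψ, hψ⟩ := exists_psi r δ g hδ d b hbs
      have hbd : ∀ i, b d (f i) = D * B i0 i := by
        intro i
        rw [hd, map_smul, LinearMap.smul_apply, smul_eq_mul, hb, toBilin_basis]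
      have hbb : ∀ i, b (f i) (f i) = B i i := by
        intro i; rw [hb, toBilin_basis]
      have hφψ : φ = ψ := by
        apply ext_basis f
        intro i
        rw [hψ, hbd, hbb]
        by_cases hi : i = i0
        · subst hi
          rw [hs0, hB, if_pos rfl, if_pos rfl]
          congr 1; ring
        · obtain ⟨j, hj⟩ := hpred i hi
          rw [← hj, htt j, hB, hB, if_pos rfl, if_neg (hsc0 j), if_neg (hsc0 j), if_neg (hsc0 j),
            if_pos rfl, hT]
      apply AddSubgroup.subset_closure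
      exact ⟨b, hbs, fun x => by rw [hφψ]; exact hψ x⟩
    · rw [AddSubgroup.closure_le]
      rintro φ ⟨b, hbs, hφ⟩
      rw [SetLike.mem_coe, AddMonoidHom.mem_ker, hΨ]
      have hbd : ∀ i, b d (f i) = D * b (f i0) (f i) := by
        intro i
        rw [hd, map_smul, LinearMap.smul_apply, smul_eq_mul]
      refine Prod.ext ?_ (funext fun j => ?_)
      · show c1 (φ (f i0)) = 0
        rw [hφ, map_intCast, intCast_zmod_eq_zero_iff, hbd]
        have : D * b (f i0) (f i0) + (1 - g) * b (f i0) (f i0) = (D + 1 - g) * b (f i0) (f i0) := by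
          ring
        rw [this]
        exact Dvd.dvd.mul_right h1m _
      · show c2 (φ (f (sc j))) = 0
        rw [hφ, map_intCast, intCast_zmod_eq_zero_iff, hbd]
        apply dvd_add
        · exact Dvd.dvd.mul_right h2D _
        · apply Dvd.dvd.mul_right
          have : (1 : ℤ) - g = -(g - 1) := by ring
          rw [this]
          exact dvd_neg.2 h2a
  · intro φ
    rw [hΨ, hc1, hc2, hi0]

end Groth.Agent.Helper6.LatQ
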