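import Mathlib
import Groth.Agent.Helper6.LatQ2

set_option autoImplicit false
set_option linter.style.haveILetI false
set_option linter.unusedSectionVars false

namespace Groth.Agent.Helper6.LatQ

open Finset

/-- the divisibility data for the two gcds -/
theorem gcd_data (δ : ℕ) (g D : ℤ) :
    (Int.gcd δ (D + 1 - g) ∣ δ) ∧ ((Int.gcd δ (D + 1 - g) : ℤ) ∣ D + 1 - g) ∧
    (∃ α β : ℤ, (Int.gcd δ (D + 1 - g) : ℤ) = δ * α + (D + 1 - g) * β) ∧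
    (Int.gcd δ (Int.gcd (g - 1) D) ∣ δ) ∧ ((Int.gcd δ (Int.gcd (g - 1) D) : ℤ) ∣ g - 1) ∧
    ((Int.gcd δ (Int.gcd (g - 1) D) : ℤ) ∣ D) ∧
    (∃ α β γ : ℤ, (Int.gcd δ (Int.gcd (g - 1) D) : ℤ) = δ * α + (g - 1) * β + D * γ) := by
  refine ⟨Int.natCast_dvd_natCast.1 (Int.gcd_dvd_left _ _), Int.gcd_dvd_right _ _,
    ⟨_, _, Int.gcd_eq_gcd_ab _ _⟩, Int.natCast_dvd_natCast.1 (Int.gcd_dvd_left _ _),
    dvd_trans (Int.gcd_dvd_right _ _) (Int.gcd_dvd_left _ _),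
    dvd_trans (Int.gcd_dvd_right _ _) (Int.gcd_dvd_right _ _), ?_⟩
  have h1 := Int.gcd_eq_gcd_ab (δ : ℤ) ((Int.gcd (g - 1) D : ℕ) : ℤ)
  have h2 := Int.gcd_eq_gcd_ab (g - 1) D
  refine ⟨Int.gcdA δ (Int.gcd (g - 1) D), Int.gcdA (g - 1) D * Int.gcdB δ (Int.gcd (g - 1) D),
    Int.gcdB (g - 1) D * Int.gcdB δ (Int.gcd (g - 1) D), ?_⟩
  rw [h1, h2]; ring

theorem quotient_equiv (r : ℕ) (hr : 0 < r) (δ : ℕ) (g : ℤ) (hδ : (δ : ℤ) ∣ 2 * (g - 1))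
    (d : Fin r → ℤ) :
    Nonempty ((((Fin r → ℤ) →+ ZMod δ) ⧸ AddSubgroup.closure
      {φ : (Fin r → ℤ) →+ ZMod δ | ∃ b : LinearMap.BilinForm ℤ (Fin r → ℤ), b.IsSymm ∧
      ∀ x, φ x = ((b d x + (1 - g) * b x x : ℤ) : ZMod δ)}) ≃+
      (ZMod (Int.gcd δ (Finset.univ.gcd d + 1 - g)) ×
        (Fin (r - 1) → ZMod (Int.gcd δ (Int.gcd (g - 1) (Finset.univ.gcd d)))))) := by
  obtain ⟨f, hd⟩ := exists_adapted_basis r hr d
  obtain ⟨h1d, h1m, h1b, h2d, h2a, h2D, h2b⟩ := gcd_data δ g (Finset.univ.gcd d)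
  obtain ⟨sc, Ψ, -, hsurj, hker, -⟩ := exists_Psi r hr δ g hδ d f _ hd _ _ h1d h1m h1b h2d h2a h2D h2b
  exact ⟨(QuotientAddGroup.quotientAddEquivOfEq hker.symm).trans
    (QuotientAddGroup.quotientKerEquivOfSurjective Ψ hsurj)⟩

/-- multiplication by `g` from `ℤ/(δ/g)` to `ℤ/δ` -/
theorem mu_exists (δ g : ℕ) (hδ : 0 < δ) (hg : g ∣ δ) :
    ∃ μ : ZMod (δ / g) →+ ZMod δ, Function.Injective μ ∧
      ∀ w : ZMod δ, ZMod.castHom hg (ZMod g) w = 0 ↔ ∃ x, μ x = w := by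
  have hg0 : 0 < g := Nat.pos_of_dvd_of_pos hg hδ
  have hmul : δ / g * g = δ := Nat.div_mul_cancel hg
  have hcond : (zmultiplesHom (ZMod δ) ((g : ℕ) : ZMod δ)) ((δ / g : ℕ) : ℤ) = 0 := by
    rw [zmultiplesHom_apply, natCast_zsmul, nsmul_eq_mul, ← Nat.cast_mul, hmul, ZMod.natCast_self]
  obtain ⟨μ, hμ⟩ : ∃ μ : ZMod (δ / g) →+ ZMod δ, ∀ z : ℤ, μ (z : ZMod (δ / g)) =
      ((z * g : ℤ) : ZMod δ) := by
    refine ⟨ZMod.lift (δ / g) ⟨zmultiplesHom (ZMod δ) ((g : ℕ) : ZMod δ), hcond⟩, fun z => ?_⟩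
    rw [ZMod.lift_coe]
    show (zmultiplesHom (ZMod δ) ((g : ℕ) : ZMod δ)) z = _
    rw [zmultiplesHom_apply, zsmul_eq_mul]
    push_cast
    ring
  refine ⟨μ, ?_, ?_⟩
  · rw [injective_iff_map_eq_zero]
    intro x hx
    obtain ⟨z, rfl⟩ := ZMod.intCast_surjective x
    rw [hμ, intCast_zmod_eq_zero_iff] at hx
    rw [intCast_zmod_eq_zero_iff]
    have h1 : ((δ / g : ℕ) : ℤ) * (g : ℤ) ∣ z * (g : ℤ) := by
      have : ((δ / g : ℕ) : ℤ) * (g : ℤ) = (δ : ℤ) := by exact_mod_cast hmul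
      rw [this]; exact hx
    exact Int.dvd_of_mul_dvd_mul_right (by exact_mod_cast hg0.ne') h1
  · intro w
    constructor
    · intro hw
      obtain ⟨z', rfl⟩ := ZMod.intCast_surjective w
      rw [map_intCast, intCast_zmod_eq_zero_iff] at hw
      obtain ⟨z, hz⟩ := hw
      refine ⟨(z : ZMod (δ / g)), ?_⟩
      rw [hμ, hz, mul_comm]
    · rintro ⟨x, rfl⟩
      obtain ⟨z, rfl⟩ := ZMod.intCast_surjective x
      rw [hμ, map_intCast, intCast_zmod_eq_zero_iff]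
      exact Dvd.intro_left _ rfl

theorem closure_equiv (r : ℕ) (hr : 0 < r) (δ : ℕ) (hδ0 : 0 < δ) (g : ℤ)
    (hδ : (δ : ℤ) ∣ 2 * (g - 1)) (d : Fin r → ℤ) :
    Nonempty (AddSubgroup.closure
      {φ : (Fin r → ℤ) →+ ZMod δ | ∃ b : LinearMap.BilinForm ℤ (Fin r → ℤ), b.IsSymm ∧
      ∀ x, φ x = ((b d x + (1 - g) * b x x : ℤ) : ZMod δ)} ≃+
      (ZMod (δ / Int.gcd δ (Finset.univ.gcd d + 1 - g)) ×
        (Fin (r - 1) → ZMod (δ / Int.gcd δ (Int.gcd (g - 1) (Finset.univ.gcd d)))))) := by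
  classical
  obtain ⟨f, hd⟩ := exists_adapted_basis r hr d
  obtain ⟨h1d, h1m, h1b, h2d, h2a, h2D, h2b⟩ := gcd_data δ g (Finset.univ.gcd d)
  obtain ⟨sc, Ψ, hsc, hsurj, hker, hΨ⟩ :=
    exists_Psi r hr δ g hδ d f _ hd _ _ h1d h1m h1b h2d h2a h2D h2b
  obtain ⟨μ1, hμ1i, hμ1r⟩ := mu_exists δ _ hδ0 h1d
  obtain ⟨μ2, hμ2i, hμ2r⟩ := mu_exists δ _ hδ0 h2d
  obtain ⟨i0, hi0⟩ : ∃ i0 : Fin r, i0 = ⟨0, hr⟩ := ⟨_, rfl⟩
  rw [← hi0] at hΨ
  have hcases : ∀ i : Fin r, i = i0 ∨ ∃ j, sc j = i := by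
    intro i
    by_cases hi : i.1 = 0
    · left; rw [hi0]; exact Fin.ext hi
    · right
      refine ⟨⟨i.1 - 1, by have := i.2; omega⟩, ?_⟩
      apply Fin.ext
      rw [hsc]
      show i.1 - 1 + 1 = i.1
      omega
  have hext : ∀ (a : ZMod δ) (t : Fin (r - 1) → ZMod δ),
      ∃ T : Fin r → ZMod δ, T i0 = a ∧ ∀ j, T (sc j) = t j := by
    intro a t
    refine ⟨fun i => if h : i.1 = 0 then a else t ⟨i.1 - 1, by have := i.2; omega⟩, ?_, ?_⟩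
    · rw [hi0]; simp
    · intro j
      have h1 : (sc j).1 ≠ 0 := by rw [hsc]; omega
      beta_reduce
      rw [dif_neg h1]
      congr 1
      apply Fin.ext
      show (sc j).1 - 1 = j.1
      rw [hsc]; omega
  choose T hT0 hTs using fun a : ZMod (δ / Int.gcd δ (Finset.univ.gcd d + 1 - g)) ×
      (Fin (r - 1) → ZMod (δ / Int.gcd δ (Int.gcd (g - 1) (Finset.univ.gcd d)))) =>
    hext (μ1 a.1) (fun j => μ2 (a.2 j))
  have hΘf : ∀ a i, ((f.constr ℤ (T a)).toAddMonoidHom : (Fin r → ℤ) →+ ZMod δ) (f i) = T a i := by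
    intro a i
    show (f.constr ℤ (T a)) (f i) = _
    rw [Module.Basis.constr_basis]
  obtain ⟨Θ, hΘ⟩ : ∃ Θ : ZMod (δ / Int.gcd δ (Finset.univ.gcd d + 1 - g)) ×
      (Fin (r - 1) → ZMod (δ / Int.gcd δ (Int.gcd (g - 1) (Finset.univ.gcd d)))) →+
      ((Fin r → ℤ) →+ ZMod δ), ∀ a, Θ a = (f.constr ℤ (T a)).toAddMonoidHom := by
    refine ⟨AddMonoidHom.mk' (fun a => (f.constr ℤ (T a)).toAddMonoidHom) ?_, fun a => rfl⟩
    intro a b
    apply ext_basis f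
    intro i
    rw [AddMonoidHom.add_apply, hΘf, hΘf, hΘf]
    rcases hcases i with rfl | ⟨j, rfl⟩
    · rw [hT0, hT0, hT0, Prod.fst_add, map_add]
    · rw [hTs, hTs, hTs, Prod.snd_add, Pi.add_apply, map_add]
  have hΘinj : Function.Injective Θ := by
    rw [injective_iff_map_eq_zero]
    intro a ha
    have h0 : ∀ i, T a i = 0 := by
      intro i
      rw [← hΘf, ← hΘ, ha]; rfl
    refine Prod.ext ?_ (funext fun j => ?_)
    · apply hμ1i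
      show μ1 a.1 = μ1 0
      rw [map_zero, ← hT0 a, h0]
    · apply hμ2i
      show μ2 (a.2 j) = μ2 0
      rw [map_zero, ← hTs a j, h0]
  have hrange : AddSubgroup.closure
      {φ : (Fin r → ℤ) →+ ZMod δ | ∃ b : LinearMap.BilinForm ℤ (Fin r → ℤ), b.IsSymm ∧
      ∀ x, φ x = ((b d x + (1 - g) * b x x : ℤ) : ZMod δ)} = Θ.range := by
    change AddSubgroup.closure (genSet r δ g d) = _
    rw [← hker]
    ext φ
    rw [AddMonoidHom.mem_ker, AddMonoidHom.mem_range, hΨ, Prod.ext_iff]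
    constructor
    · rintro ⟨h1, h2⟩
      simp only [Prod.fst_zero, Prod.snd_zero] at h1 h2
      obtain ⟨x0, hx0⟩ := (hμ1r _).1 h1
      have h3 : ∀ j, ∃ x, μ2 x = φ (f (sc j)) := by
        intro j
        have := congrFun h2 j
        simp only [Pi.zero_apply] at this
        exact (hμ2r _).1 this
      choose x hx using h3
      refine ⟨(x0, x), ?_⟩
      apply ext_basis f
      intro i
      rw [hΘ, hΘf]
      rcases hcases i with rfl | ⟨j, rfl⟩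
      · rw [hT0, hx0]
      · rw [hTs, hx]
    · rintro ⟨a, rfl⟩
      simp only [Prod.fst_zero, Prod.snd_zero]
      constructor
      · rw [hΘ, hΘf, hT0]
        exact (hμ1r _).2 ⟨_, rfl⟩
      · funext j
        rw [hΘ, hΘf, hTs]
        exact (hμ2r _).2 ⟨_, rfl⟩
  exact ⟨(AddEquiv.addSubgroupCongr hrange).trans (AddMonoidHom.ofInjective hΘinj).symm⟩

end Groth.Agent.Helper6.LatQ
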