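import Mathlib

set_option backward.isDefEq.respectTransparency false
set_option backward.isDefEq.respectTransparency.types false
set_option autoImplicit false

/-!
# Lattices in `R⟦X⟧^n`

For an `R⟦X⟧`-submodule `Λ ⊆ R⟦X⟧^n` containing `X^M R⟦X⟧^n`: `Λ` is finite projective over `R⟦X⟧`
iff `R⟦X⟧^n / Λ` is projective over `R`.
-/

namespace Groth.Agent.Helper6.LatticeProj

open PowerSeries TensorProduct

universe u
variable {R : Type u} [CommRing R]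

section PS
variable (M : ℕ)

/-- drop the first `M` coefficients. -/
noncomputable def shiftPS : R⟦X⟧ →ₗ[R] R⟦X⟧ where
  toFun f := PowerSeries.mk fun j => PowerSeries.coeff (j + M) f
  map_add' f g := by ext j; simp
  map_smul' r f := by ext j; simp

lemma coeff_shiftPS (f : R⟦X⟧) (j : ℕ) : coeff j (shiftPS M f) = coeff (j + M) f := by
  simp [shiftPS]

lemma shiftPS_X_pow_mul (g : R⟦X⟧) : shiftPS M ((X : R⟦X⟧) ^ M * g) = g := by
  ext j
  rw [coeff_shiftPS, PowerSeries.coeff_X_pow_mul]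

/-- the polynomial part of degree `< M`. -/
noncomputable def truncPS (f : R⟦X⟧) : R⟦X⟧ :=
  ∑ j ∈ Finset.range M, coeff j f • (X : R⟦X⟧) ^ j

lemma coeff_truncPS (f : R⟦X⟧) (m : ℕ) :
    coeff m (truncPS M f) = if m < M then coeff m f else 0 := by
  simp only [truncPS, map_sum, map_smul, smul_eq_mul, coeff_X_pow, mul_ite, mul_one, mul_zero,
    Finset.sum_ite_eq, Finset.mem_range]

lemma trunc_add_shift (f : R⟦X⟧) : truncPS M f + (X : R⟦X⟧) ^ M * shiftPS M f = f := by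
  ext m
  rw [map_add, coeff_truncPS, PowerSeries.coeff_X_pow_mul', coeff_shiftPS]
  by_cases h : m < M
  · rw [if_pos h, if_neg (by omega), add_zero]
  · rw [if_neg h, if_pos (by omega), zero_add, Nat.sub_add_cancel (by omega)]

variable (m : ℕ)

/-- coordinatewise shift. -/
noncomputable def shiftF : (Fin m → R⟦X⟧) →ₗ[R] (Fin m → R⟦X⟧) := (shiftPS M).compLeft (Fin m)

lemma shiftF_apply (w : Fin m → R⟦X⟧) (a : Fin m) : shiftF M m w a = shiftPS M (w a) := rfl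

lemma shiftF_X_pow_smul (w : Fin m → R⟦X⟧) : shiftF M m (((X : R⟦X⟧) ^ M) • w) = w := by
  funext a
  rw [shiftF_apply, Pi.smul_apply, smul_eq_mul, shiftPS_X_pow_mul]

/-- low coefficients. -/
noncomputable def lowCm : (Fin m → R⟦X⟧) →ₗ[R] (Fin m → Fin M → R) :=
  LinearMap.pi fun a => LinearMap.pi fun j => (coeff (j : ℕ)) ∘ₗ LinearMap.proj a

lemma lowCm_apply (w : Fin m → R⟦X⟧) (a : Fin m) (j : Fin M) :
    lowCm M m w a j = coeff (j : ℕ) (w a) := rfl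

lemma lowCm_X_pow_smul (w : Fin m → R⟦X⟧) : lowCm M m (((X : R⟦X⟧) ^ M) • w) = 0 := by
  funext a j
  rw [lowCm_apply, Pi.smul_apply, smul_eq_mul, PowerSeries.coeff_X_pow_mul',
    if_neg (by have := j.2; omega)]
  rfl

/-- polynomial with given low coefficients. -/
noncomputable def polyOfm : (Fin m → Fin M → R) →ₗ[R] (Fin m → R⟦X⟧) :=
  LinearMap.pi fun a =>
    (∑ j : Fin M, (LinearMap.proj j : (Fin M → R) →ₗ[R] R).smulRight ((X : R⟦X⟧) ^ (j : ℕ))) ∘ₗ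
      LinearMap.proj a

lemma polyOfm_apply (t : Fin m → Fin M → R) (a : Fin m) :
    polyOfm M m t a = ∑ j : Fin M, t a j • (X : R⟦X⟧) ^ (j : ℕ) := by
  simp [polyOfm, LinearMap.sum_apply]

lemma polyOfm_lowCm (w : Fin m → R⟦X⟧) :
    polyOfm M m (lowCm M m w) = w - ((X : R⟦X⟧) ^ M) • shiftF M m w := by
  funext a
  rw [polyOfm_apply, Pi.sub_apply, Pi.smul_apply, smul_eq_mul, shiftF_apply]
  have h1 : ∑ j : Fin M, lowCm M m w a j • (X : R⟦X⟧) ^ (j : ℕ) = truncPS M (w a) := by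
    simp only [lowCm_apply]
    rw [truncPS, Fin.sum_univ_eq_sum_range (fun j => coeff j (w a) • (X : R⟦X⟧) ^ j) M]
  rw [h1, eq_sub_iff_add_eq, trunc_add_shift]

end PS

section Forward

variable {n : ℕ}

/-- a finite projective lattice has `R`-projective quotient. -/
theorem proj_of_finite_proj (M : ℕ) (Λ : Submodule R⟦X⟧ (Fin n → R⟦X⟧))
    (hΛ : ∀ v : Fin n → R⟦X⟧, ((X : R⟦X⟧) ^ M) • v ∈ Λ)
    [Module.Finite R⟦X⟧ Λ] [Module.Projective R⟦X⟧ Λ] :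
    Module.Projective R ((Fin n → R⟦X⟧) ⧸ Λ) := by
  obtain ⟨m, r, hr⟩ := Module.Finite.exists_fin' R⟦X⟧ Λ
  obtain ⟨i, hi⟩ := Module.projective_lifting_property r LinearMap.id hr
  have hri : ∀ l : Λ, r (i l) = l := fun l => LinearMap.congr_fun hi l
  let ψ : (Fin n → R⟦X⟧) →ₗ[R⟦X⟧] Λ :=
    LinearMap.codRestrict Λ (((X : R⟦X⟧) ^ M) • LinearMap.id) (fun v => hΛ v)
  have hψ : ∀ v, ((ψ v : Λ) : Fin n → R⟦X⟧) = ((X : R⟦X⟧) ^ M) • v := fun v => rfl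
  let τ : (Fin n → R⟦X⟧) →ₗ[R] (Fin m → Fin M → R) :=
    (lowCm M m) ∘ₗ ((i ∘ₗ ψ).restrictScalars R)
  let ρ : (Fin m → Fin M → R) →ₗ[R] ((Fin n → R⟦X⟧) ⧸ Λ) :=
    (Λ.mkQ.restrictScalars R) ∘ₗ (shiftF M n) ∘ₗ ((Λ.subtype ∘ₗ r).restrictScalars R) ∘ₗ
      (polyOfm M m)
  have hτ : Λ.restrictScalars R ≤ LinearMap.ker τ := by
    intro v hv
    have hv' : v ∈ Λ := hv
    have h1 : ψ v = ((X : R⟦X⟧) ^ M) • (⟨v, hv'⟩ : Λ) := Subtype.ext (hψ v)
    rw [LinearMap.mem_ker]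
    show lowCm M m (i (ψ v)) = 0
    rw [h1, map_smul]
    exact lowCm_X_pow_smul M m _
  let τbar : ((Fin n → R⟦X⟧) ⧸ Λ) →ₗ[R] (Fin m → Fin M → R) :=
    ((Λ.restrictScalars R).liftQ τ hτ) ∘ₗ
      (Submodule.Quotient.restrictScalarsEquiv R Λ).symm.toLinearMap
  refine Module.Projective.of_split τbar ρ ?_
  apply LinearMap.ext
  intro q
  obtain ⟨v, rfl⟩ := Submodule.Quotient.mk_surjective Λ q
  have h2 : τbar (Submodule.Quotient.mk v) = τ v := by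
    show ((Λ.restrictScalars R).liftQ τ hτ)
      ((Submodule.Quotient.restrictScalarsEquiv R Λ).symm (Submodule.Quotient.mk v)) = τ v
    rw [Submodule.Quotient.restrictScalarsEquiv_symm_mk]
    rfl
  rw [LinearMap.comp_apply, h2, LinearMap.id_apply]
  -- compute ρ (τ v)
  set w : Fin m → R⟦X⟧ := i (ψ v) with hw
  have h3 : τ v = lowCm M m w := rfl
  have h4 : ρ (τ v) = Submodule.Quotient.mk
      (shiftF M n ((r (polyOfm M m (lowCm M m w)) : Λ) : Fin n → R⟦X⟧)) := by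
    rw [h3]; rfl
  rw [h4, polyOfm_lowCm, map_sub, map_smul, hw, hri]
  have h5 : (((ψ v - ((X : R⟦X⟧) ^ M) • r (shiftF M m (i (ψ v))) : Λ)) : Fin n → R⟦X⟧) =
      ((X : R⟦X⟧) ^ M) • (v - ((r (shiftF M m (i (ψ v))) : Λ) : Fin n → R⟦X⟧)) := by
    rw [Submodule.coe_sub, Submodule.coe_smul, hψ, smul_sub]
  rw [h5, shiftF_X_pow_smul, Submodule.Quotient.mk_sub, sub_eq_self,
    Submodule.Quotient.mk_eq_zero]
  exact (r (shiftF M m (i (ψ v)))).2

/-- the quotient by a lattice is finite over `R`. -/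
theorem finite_quot (M : ℕ) (Λ : Submodule R⟦X⟧ (Fin n → R⟦X⟧))
    (hΛ : ∀ v : Fin n → R⟦X⟧, ((X : R⟦X⟧) ^ M) • v ∈ Λ) :
    Module.Finite R ((Fin n → R⟦X⟧) ⧸ Λ) := by
  refine Module.Finite.of_surjective ((Λ.mkQ.restrictScalars R) ∘ₗ (polyOfm M n)) ?_
  intro q
  obtain ⟨v, rfl⟩ := Submodule.Quotient.mk_surjective Λ q
  refine ⟨lowCm M n v, ?_⟩
  show Submodule.Quotient.mk (polyOfm M n (lowCm M n v)) = Submodule.Quotient.mk v
  rw [polyOfm_lowCm, Submodule.Quotient.mk_sub, sub_eq_self, Submodule.Quotient.mk_eq_zero]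
  exact hΛ _

end Forward

section G

variable (R) (Q : Type u) [AddCommGroup Q] [Module R Q] [Module R⟦X⟧ Q] [IsScalarTower R R⟦X⟧ Q]

/-- the action map `R⟦X⟧ ⊗ Q → Q`. -/
noncomputable def alpha : R⟦X⟧ ⊗[R] Q →ₗ[R⟦X⟧] Q :=
  LinearMap.liftBaseChange R⟦X⟧ (LinearMap.id : Q →ₗ[R] Q)

lemma alpha_tmul (s : R⟦X⟧) (q : Q) : alpha R Q (s ⊗ₜ[R] q) = s • q := by
  simp [alpha]

/-- multiplication by `X` on `Q`, as an `R`-linear map. -/
noncomputable def xQ : Q →ₗ[R] Q :=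
  (((X : R⟦X⟧)) • (LinearMap.id : Q →ₗ[R⟦X⟧] Q)).restrictScalars R

lemma xQ_apply (q : Q) : xQ R Q q = (X : R⟦X⟧) • q := rfl

/-- `1 ⊗ x`. -/
noncomputable def yP : Module.End R⟦X⟧ (R⟦X⟧ ⊗[R] Q) := LinearMap.baseChange R⟦X⟧ (xQ R Q)

lemma yP_tmul (s : R⟦X⟧) (q : Q) : yP R Q (s ⊗ₜ[R] q) = s ⊗ₜ[R] ((X : R⟦X⟧) • q) := by
  simp [yP, xQ_apply]

/-- `X ⊗ 1`. -/
noncomputable def Xe : Module.End R⟦X⟧ (R⟦X⟧ ⊗[R] Q) := algebraMap R⟦X⟧ _ X

lemma Xe_pow_apply (k : ℕ) (p : R⟦X⟧ ⊗[R] Q) : ((Xe R Q) ^ k) p = ((X : R⟦X⟧) ^ k) • p := by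
  rw [Xe, ← map_pow, Module.algebraMap_end_apply]

/-- `X ⊗ 1 - 1 ⊗ x`. -/
noncomputable def delta : Module.End R⟦X⟧ (R⟦X⟧ ⊗[R] Q) := Xe R Q - yP R Q

lemma yP_pow_tmul (k : ℕ) (s : R⟦X⟧) (q : Q) :
    ((yP R Q) ^ k) (s ⊗ₜ[R] q) = s ⊗ₜ[R] (((X : R⟦X⟧) ^ k) • q) := by
  induction k generalizing q with
  | zero => simp
  | succ k ih => rw [pow_succ, Module.End.mul_apply, yP_tmul, ih, pow_succ, mul_smul]

lemma alpha_yP (p : R⟦X⟧ ⊗[R] Q) : alpha R Q (yP R Q p) = (X : R⟦X⟧) • alpha R Q p := by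
  induction p using TensorProduct.induction_on with
  | zero => simp
  | tmul s q => rw [yP_tmul, alpha_tmul, alpha_tmul, smul_comm]
  | add a b ha hb => rw [map_add, map_add, ha, hb, map_add, smul_add]

lemma alpha_delta (p : R⟦X⟧ ⊗[R] Q) : alpha R Q (delta R Q p) = 0 := by
  have h : (Xe R Q) p = (X : R⟦X⟧) • p := by simpa using Xe_pow_apply R Q 1 p
  rw [delta, LinearMap.sub_apply, map_sub, alpha_yP, h, map_smul, sub_self]

lemma comm_Xe_yP : Commute (Xe R Q) (yP R Q) :=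
  Algebra.commute_algebraMap_left _ _

/-- geometric sum. -/
noncomputable def geom (k : ℕ) : Module.End R⟦X⟧ (R⟦X⟧ ⊗[R] Q) :=
  ∑ i ∈ Finset.range k, (Xe R Q) ^ i * (yP R Q) ^ (k - 1 - i)

lemma delta_geom (k : ℕ) : (delta R Q) * geom R Q k = (Xe R Q) ^ k - (yP R Q) ^ k := by
  rw [delta, geom]
  exact @Commute.mul_geom_sum₂ (Module.End R⟦X⟧ (R⟦X⟧ ⊗[R] Q)) _ _ _ (comm_Xe_yP R Q) k

lemma geom_delta (k : ℕ) : geom R Q k * (delta R Q) = (Xe R Q) ^ k - (yP R Q) ^ k := by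
  rw [delta, geom]
  exact @Commute.geom_sum₂_mul (Module.End R⟦X⟧ (R⟦X⟧ ⊗[R] Q)) _ _ _ (comm_Xe_yP R Q) k

lemma sub_mem_range (k : ℕ) (t : R⟦X⟧ ⊗[R] Q) :
    ((X : R⟦X⟧) ^ k) • t - ((yP R Q) ^ k) t ∈ LinearMap.range (delta R Q) := by
  refine ⟨geom R Q k t, ?_⟩
  rw [← Module.End.mul_apply, delta_geom, LinearMap.sub_apply, Xe_pow_apply]

variable (M : ℕ) (hXM : ∀ q : Q, ((X : R⟦X⟧) ^ M) • q = 0)

include hXM in
lemma yP_pow_M : (yP R Q) ^ M = 0 := by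
  apply LinearMap.ext
  intro p
  induction p using TensorProduct.induction_on with
  | zero => simp
  | tmul s q => rw [yP_pow_tmul, hXM, tmul_zero]; rfl
  | add a b ha hb => rw [map_add, ha, hb]; simp

include hXM in
lemma X_pow_smul_mem_range (t : R⟦X⟧ ⊗[R] Q) :
    ((X : R⟦X⟧) ^ M) • t ∈ LinearMap.range (delta R Q) := by
  have := sub_mem_range R Q M t
  rwa [yP_pow_M R Q M hXM, LinearMap.zero_apply, sub_zero] at this

omit [Module R⟦X⟧ Q] [IsScalarTower R R⟦X⟧ Q] in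
lemma smul_X_pow_eq_zero [Module.Projective R⟦X⟧ (R⟦X⟧ ⊗[R] Q)] (p : R⟦X⟧ ⊗[R] Q)
    (h : ((X : R⟦X⟧) ^ M) • p = 0) : p = 0 := by
  obtain ⟨s, hs⟩ := Module.projective_def'.1
    (inferInstance : Module.Projective R⟦X⟧ (R⟦X⟧ ⊗[R] Q))
  have h1 : s p = 0 := by
    have h2 : ((X : R⟦X⟧) ^ M) • s p = 0 := by rw [← map_smul, h, map_zero]
    ext a : 1
    have h3 : ((X : R⟦X⟧) ^ M) * (s p) a = 0 := by
      have := congrArg (fun f => f a) h2
      simpa using this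
    have h4 := congrArg (shiftPS M) h3
    rw [shiftPS_X_pow_mul, map_zero] at h4
    simpa using h4
  have := LinearMap.congr_fun hs p
  simp only [LinearMap.comp_apply, h1, map_zero, LinearMap.id_apply] at this
  exact this.symm

include hXM in
lemma delta_injective [Module.Projective R⟦X⟧ (R⟦X⟧ ⊗[R] Q)] :
    Function.Injective (delta R Q) := by
  rw [injective_iff_map_eq_zero]
  intro p hp
  apply smul_X_pow_eq_zero R Q M p
  have h1 : (geom R Q M * (delta R Q)) p = ((Xe R Q) ^ M - (yP R Q) ^ M) p := by rw [geom_delta]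
  rw [Module.End.mul_apply, hp, map_zero, LinearMap.sub_apply, Xe_pow_apply, yP_pow_M R Q M hXM,
    LinearMap.zero_apply, sub_zero] at h1
  exact h1.symm

include hXM in
lemma good (p : R⟦X⟧ ⊗[R] Q) :
    ∃ (p' : R⟦X⟧ ⊗[R] Q) (q' : Q), p = delta R Q p' + (1 : R⟦X⟧) ⊗ₜ[R] q' := by
  induction p using TensorProduct.induction_on with
  | zero => exact ⟨0, 0, by simp⟩
  | add a b ha hb =>
    obtain ⟨pa, qa, rfl⟩ := ha
    obtain ⟨pb, qb, rfl⟩ := hb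
    exact ⟨pa + pb, qa + qb, by rw [map_add, tmul_add]; abel⟩
  | tmul s q =>
    -- the high part
    obtain ⟨p1, hp1⟩ := X_pow_smul_mem_range R Q M hXM (shiftPS M s ⊗ₜ[R] q)
    -- the low part
    have hlow : ∀ j : ℕ, ∃ pj : R⟦X⟧ ⊗[R] Q,
        (coeff j s • (X : R⟦X⟧) ^ j) ⊗ₜ[R] q =
          delta R Q pj + (1 : R⟦X⟧) ⊗ₜ[R] (((X : R⟦X⟧) ^ j) • (coeff j s • q)) := by
      intro j
      obtain ⟨pj, hpj⟩ := sub_mem_range R Q j ((1 : R⟦X⟧) ⊗ₜ[R] (coeff j s • q))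
      refine ⟨pj, ?_⟩
      rw [hpj, yP_pow_tmul, sub_add_cancel, TensorProduct.smul_tmul, TensorProduct.smul_tmul',
        smul_eq_mul, mul_one]
    choose pj hpj using hlow
    refine ⟨∑ j ∈ Finset.range M, pj j + p1,
      ∑ j ∈ Finset.range M, (((X : R⟦X⟧) ^ j) • (coeff j s • q)), ?_⟩
    have hs : s = truncPS M s + (X : R⟦X⟧) ^ M * shiftPS M s := (trunc_add_shift M s).symm
    conv_lhs => rw [hs]
    rw [add_tmul, truncPS, sum_tmul, map_add, map_sum, tmul_sum, hp1,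
      TensorProduct.smul_tmul', smul_eq_mul]
    rw [Finset.sum_congr rfl (fun j _ => hpj j), Finset.sum_add_distrib]
    abel

include hXM in
lemma ker_alpha_le_range :
    LinearMap.ker (alpha R Q) ≤ LinearMap.range (delta R Q) := by
  intro p hp
  obtain ⟨p', q', rfl⟩ := good R Q M hXM p
  rw [LinearMap.mem_ker, map_add, alpha_delta, alpha_tmul, one_smul, zero_add] at hp
  rw [hp, tmul_zero, add_zero]
  exact ⟨p', rfl⟩

include hXM in
/-- kernel of a surjection from a finite projective module onto `Q`. -/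
theorem ker_finite_projective {F : Type u} [AddCommGroup F] [Module R⟦X⟧ F]
    [Module.Finite R⟦X⟧ F] [Module.Projective R⟦X⟧ F]
    [Module.Finite R Q] [Module.Projective R Q]
    (π : F →ₗ[R⟦X⟧] Q) (hπ : Function.Surjective π) :
    Module.Finite R⟦X⟧ (LinearMap.ker π) ∧ Module.Projective R⟦X⟧ (LinearMap.ker π) := by
  have : Module.Projective R⟦X⟧ (R⟦X⟧ ⊗[R] Q) := inferInstance
  have : Module.Finite R⟦X⟧ (R⟦X⟧ ⊗[R] Q) := inferInstance
  have hα : Function.Surjective (alpha R Q) :=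
    fun q => ⟨(1 : R⟦X⟧) ⊗ₜ[R] q, by rw [alpha_tmul, one_smul]⟩
  obtain ⟨γ, hγ⟩ := Module.projective_lifting_property (alpha R Q) π hα
  obtain ⟨β, hβ⟩ := Module.projective_lifting_property π (alpha R Q) hπ
  have h1 : ∀ p, π (β p) = alpha R Q p := fun p => LinearMap.congr_fun hβ p
  have h2 : ∀ v, alpha R Q (γ v) = π v := fun v => LinearMap.congr_fun hγ v
  have hδinj : Function.Injective (delta R Q) := delta_injective R Q M hXM
  let e := LinearEquiv.ofInjective (delta R Q) hδinj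
  have hmem : ∀ l : LinearMap.ker π,
      (γ ∘ₗ (LinearMap.ker π).subtype) l ∈ LinearMap.range (delta R Q) := by
    intro l
    apply ker_alpha_le_range R Q M hXM
    rw [LinearMap.mem_ker, LinearMap.comp_apply, h2]
    exact l.2
  let g₁ : LinearMap.ker π →ₗ[R⟦X⟧] LinearMap.range (delta R Q) :=
    LinearMap.codRestrict _ (γ ∘ₗ (LinearMap.ker π).subtype) hmem
  let a : LinearMap.ker π →ₗ[R⟦X⟧] (R⟦X⟧ ⊗[R] Q) × F :=
    LinearMap.prod (-(e.symm.toLinearMap ∘ₗ g₁)) (LinearMap.ker π).subtype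
  let b₀ : (R⟦X⟧ ⊗[R] Q) × F →ₗ[R⟦X⟧] F :=
    LinearMap.snd _ _ _ - β ∘ₗ γ ∘ₗ LinearMap.snd _ _ _ - β ∘ₗ (delta R Q) ∘ₗ LinearMap.fst _ _ _
  have hb₀ : ∀ z, b₀ z ∈ LinearMap.ker π := by
    intro z
    rw [LinearMap.mem_ker]
    show π (z.2 - β (γ z.2) - β (delta R Q z.1)) = 0
    rw [map_sub, map_sub, h1, h1, h2, alpha_delta, sub_self, sub_zero]
  let b : (R⟦X⟧ ⊗[R] Q) × F →ₗ[R⟦X⟧] LinearMap.ker π := LinearMap.codRestrict _ b₀ hb₀
  have hba : b ∘ₗ a = LinearMap.id := by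
    apply LinearMap.ext
    intro l
    apply Subtype.ext
    have h3 : delta R Q ((e.symm (g₁ l) : R⟦X⟧ ⊗[R] Q)) = γ l := by
      have := congrArg Subtype.val (e.apply_symm_apply (g₁ l))
      exact this
    show (l : F) - β (γ (l : F)) - β (delta R Q (-(e.symm (g₁ l)))) = (l : F)
    rw [map_neg, h3, map_neg]
    abel
  exact ⟨Module.Finite.of_surjective b (fun l => ⟨a l, LinearMap.congr_fun hba l⟩),
    Module.Projective.of_split a b hba⟩

end G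

/-- the lattice criterion. -/
theorem main {n : ℕ} (M : ℕ) (Λ : Submodule R⟦X⟧ (Fin n → R⟦X⟧))
    (hΛ : ∀ v : Fin n → R⟦X⟧, ((X : R⟦X⟧) ^ M) • v ∈ Λ) :
    (Module.Finite R⟦X⟧ Λ ∧ Module.Projective R⟦X⟧ Λ) ↔
      Module.Projective R ((Fin n → R⟦X⟧) ⧸ Λ) := by
  constructor
  · rintro ⟨h1, h2⟩
    exact proj_of_finite_proj M Λ hΛ
  · intro h
    have : Module.Finite R ((Fin n → R⟦X⟧) ⧸ Λ) := finite_quot M Λ hΛ
    have hXM : ∀ q : (Fin n → R⟦X⟧) ⧸ Λ, ((X : R⟦X⟧) ^ M) • q = 0 := by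
      intro q
      obtain ⟨v, rfl⟩ := Submodule.Quotient.mk_surjective Λ q
      rw [← Submodule.Quotient.mk_smul, Submodule.Quotient.mk_eq_zero]
      exact hΛ v
    have := ker_finite_projective R ((Fin n → R⟦X⟧) ⧸ Λ) M hXM Λ.mkQ (Submodule.mkQ_surjective Λ)
    rwa [Submodule.ker_mkQ] at this

end Groth.Agent.Helper6.LatticeProj
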