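import Mathlib
import Groth.Prelude.Def_EtCore
import Groth.Prelude.Def_EtRestW
import Groth.Agent.Helper4.OverEtC
import Groth.Agent.Helper4.FlcPull

set_option autoImplicit false
set_option linter.style.haveILetI false
set_option linter.unusedSectionVars false
set_option linter.unusedVariables false
set_option linter.unusedSimpArgs false

/-!
# Locally constant sheaves (arbitrary value group) are stable under inverse image
-/

universe u

open CategoryTheory CategoryTheory.Limits AlgebraicGeometry Opposite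

namespace Groth.Agent.Helper6.LcPullA

open Groth.Agent.Helper4.OverEtC Groth.Agent.Helper4.FlcPull

/-- locally constant sheaves, in terms of inverse images -/
theorem lc_iff {X : Scheme.{u}} (F : EtCoh.Ab X) : EtRest.IsLocallyConstant F ↔
    ∃ (ι : Type u) (V : ι → X.Etale), EtCoh.Covers V ∧
      ∀ i, ∃ (M : AddCommGrpCat.{u + 1}),
        Nonempty ((EtCoh.pull (homS (V i))).obj F ≅
          (constantSheaf (V i).left.smallEtaleTopology AddCommGrpCat.{u + 1}).obj M) := by
  constructor
  · rintro ⟨ι, V, hV, h⟩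
    refine ⟨ι, V, hV, fun i => ?_⟩
    obtain ⟨M, iM, hM⟩ := h i
    exact ⟨AddCommGrpCat.of M, (restr_iso_const_iff' (V i) F _).1 hM⟩
  · rintro ⟨ι, V, hV, h⟩
    refine ⟨ι, V, hV, fun i => ?_⟩
    obtain ⟨M, hM⟩ := h i
    exact ⟨M, inferInstance, (restr_iso_const_iff' (V i) F _).2 hM⟩

set_option backward.isDefEq.respectTransparency.types false in
theorem lc_pull {X Y : Scheme.{u}} (f : X ⟶ Y) (G : EtCoh.Ab Y)
    (hG : EtRest.IsLocallyConstant G) :
    EtRest.IsLocallyConstant ((EtCoh.pull f).obj G) := by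
  rw [lc_iff] at hG ⊢
  obtain ⟨ι, V, hV, hM⟩ := hG
  refine ⟨ι, fun i => (EtCoh.bc f).obj (V i), ?_, fun i => ?_⟩
  · intro x
    obtain ⟨i, y, hy⟩ := hV (f x)
    obtain ⟨z, hz1, hz2⟩ := Scheme.Pullback.exists_preimage_pullback
      (f := homS (V i)) (g := f) y x hy
    exact ⟨i, z, hz2⟩
  · obtain ⟨M, ⟨a⟩⟩ := hM i
    refine ⟨M, ⟨?_⟩⟩
    have w : pullback.fst (homS (V i)) f ≫ homS (V i) = pullback.snd (homS (V i)) f ≫ f :=
      pullback.condition
    exact (pullSq (pullback.fst (homS (V i)) f) (homS (V i)) (pullback.snd (homS (V i)) f) f w G).symm ≪≫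
      (EtCoh.pull (pullback.fst (homS (V i)) f)).mapIso a ≪≫
      (EtCore.pullConstIso (pullback.fst (homS (V i)) f)).app M

end Groth.Agent.Helper6.LcPullA
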