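import Mathlib
import Groth.Prelude.Def_EtBase
import Groth.Agent.Helper6.GalDescB

/-! Every point of an étale scheme over a field `k` lies in the image of an open immersion from the
spectrum of a field. -/

set_option autoImplicit false
set_option linter.style.haveILetI false
set_option linter.unusedSectionVars false
set_option linter.unusedVariables false
set_option linter.unusedSimpArgs false

universe u

open CategoryTheory CategoryTheory.Limits Opposite AlgebraicGeometry

namespace Groth.Agent.Helper6.LerayLowC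

set_option backward.isDefEq.respectTransparency.types false in
theorem exists_field_openImmersion (k : Type u) [Field k] (W : (Spec (CommRingCat.of k)).Etale)
    (w : W.left) :
    ∃ (L : Type u) (_ : Field L) (ι : Spec (CommRingCat.of L) ⟶ W.left),
      IsOpenImmersion ι ∧ w ∈ Set.range ι := by
  let 𝒰 := W.left.affineOpenCover
  let i := 𝒰.idx w
  obtain ⟨y, hy⟩ := 𝒰.covers w
  let A : CommRingCat.{u} := 𝒰.X i
  let ι : Spec A ⟶ W.left := 𝒰.f i
  haveI : IsOpenImmersion ι := 𝒰.map_prop i
  let φc : CommRingCat.of k ⟶ A := Spec.preimage (ι ≫ W.hom)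
  have hφ : Spec.map φc = ι ≫ W.hom := Spec.map_preimage _
  have hEt : φc.hom.Etale := by
    have : Etale (Spec.map φc) := by rw [hφ]; infer_instance
    exact (HasRingHomProperty.Spec_iff (P := @Etale)).mp this
  letI : Algebra k A := φc.hom.toAlgebra
  have hA : Algebra.Etale k A := RingHom.etale_algebraMap.mp hEt
  obtain ⟨I, _, Ai, _, _, e, hAi⟩ := (Algebra.Etale.iff_exists_algEquiv_prod k A).mp hA
  -- the point `y` as a prime of the product
  let R : I → CommRingCat.{u} := fun i => CommRingCat.of (Ai i)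
  let ec : A ⟶ CommRingCat.of (Π i, Ai i) := CommRingCat.ofHom e.toRingEquiv.toRingHom
  let eci : A ≅ CommRingCat.of (Π i, Ai i) := e.toRingEquiv.toCommRingCatIso
  let y' : PrimeSpectrum (Π i, Ai i) := (Spec.map eci.inv) y
  obtain ⟨⟨i0, p⟩, hp⟩ := (PrimeSpectrum.sigmaToPi_bijective Ai).2 y'
  let ψ : A ⟶ R i0 := eci.hom ≫ CommRingCat.ofHom (Pi.evalRingHom Ai i0)
  haveI : IsOpenImmersion (Spec.map (CommRingCat.ofHom (Pi.evalRingHom Ai i0))) := by
    have := ι_sigmaSpec R i0
    rw [← this]
    infer_instance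
  haveI : IsOpenImmersion (Spec.map ψ) := by
    rw [Spec.map_comp]
    infer_instance
  refine ⟨Ai i0, inferInstance, Spec.map ψ ≫ ι, inferInstance, ?_⟩
  refine ⟨p, ?_⟩
  rw [← hy]
  show ι ((Spec.map ψ) p) = ι y
  congr 1
  have h1 : (Spec.map (CommRingCat.ofHom (Pi.evalRingHom Ai i0))) p = y' := by
    rw [← hp]
    rfl
  show (Spec.map (eci.hom ≫ CommRingCat.ofHom (Pi.evalRingHom Ai i0))) p = y
  rw [Spec.map_comp, Scheme.Hom.comp_apply, h1]
  show (Spec.map eci.hom) ((Spec.map eci.inv) y) = y
  rw [← Scheme.Hom.comp_apply, ← Spec.map_comp, Iso.hom_inv_id, Spec.map_id]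
  rfl

end Groth.Agent.Helper6.LerayLowC
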