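import Mathlib
import Groth.Prelude.Def_EtBase
import Groth.Prelude.Def_EtCore
import Groth.Prelude.Def_EtGm
import Groth.Prelude.Def_EtShriek2
import Groth.Agent.Helper9.EtDisjGlue
import Groth.Agent.Helper6.GalDescE
import Groth.Agent.Helper6.GalDescP
import Groth.Agent.Helper6.LerayLowC

/-! Hilbert 90 over arbitrary étale schemes over a field: for `0 → G_m → I → Q → 0` exact on
`(Spec k)_et`, `I(W) → Q(W)` is surjective for all étale `W`. -/

set_option autoImplicit false
set_option linter.style.haveILetI false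
set_option linter.unusedSectionVars false
set_option linter.unusedVariables false
set_option linter.unusedSimpArgs false

universe u

open CategoryTheory CategoryTheory.Limits Opposite AlgebraicGeometry Abelian

namespace Groth.Agent.Helper6.LerayLowD

open Groth.Agent.Helper9 Groth.Agent.Helper6.GalDescD Groth.Agent.Helper6.GalDescE

/-- `G_m` restricts to `G_m` along an étale map -/
noncomputable def gmIso {U X : Scheme.{u}} (j : U ⟶ X) [Etale j] :
    EtCoh.Gm U ≅ (EtShriek.restrAlong j).obj (EtCoh.Gm X) :=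
  (fullyFaithfulSheafToPresheaf _ _).preimageIso
    (NatIso.ofComponents (fun V => Iso.refl _) (by
      intro V V' g
      rfl))

variable {k : Type u} [Field k] {L : Type u} [Field L]
  (j : Spec (CommRingCat.of L) ⟶ Spec (CommRingCat.of k)) [Etale j]

theorem exists_lift_jObj {I Q : EtCoh.Ab (Spec (CommRingCat.of k))}
    (f : EtCoh.Gm (Spec (CommRingCat.of k)) ⟶ I) (π : I ⟶ Q) (w : f ≫ π = 0)
    (hS : (ShortComplex.mk f π w).ShortExact)
    (q : Q.obj.obj (op (jObj j))) :
    ∃ t : I.obj.obj (op (jObj j)), (π.hom.app (op (jObj j))).hom t = q := by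
  have hS' := hS.map_of_exact (EtShriek.restrAlong j)
  let f' : EtCoh.Gm (Spec (CommRingCat.of L)) ⟶ (EtShriek.restrAlong j).obj I :=
    (gmIso j).hom ≫ (EtShriek.restrAlong j).map f
  let π' : (EtShriek.restrAlong j).obj I ⟶ (EtShriek.restrAlong j).obj Q :=
    (EtShriek.restrAlong j).map π
  have w' : f' ≫ π' = 0 := by
    show ((gmIso j).hom ≫ (EtShriek.restrAlong j).map f) ≫ (EtShriek.restrAlong j).map π = 0
    rw [Category.assoc, ← Functor.map_comp, w, Functor.map_zero, comp_zero]
  have hS'' : (ShortComplex.mk f' π' w').ShortExact := by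
    refine ShortComplex.shortExact_of_iso
      (ShortComplex.isoMk (gmIso j).symm (Iso.refl _) (Iso.refl _) ?_ ?_) hS'
    · show (gmIso j).inv ≫ (gmIso j).hom ≫ (EtShriek.restrAlong j).map f =
        (EtShriek.restrAlong j).map f ≫ 𝟙 _
      rw [Category.comp_id, Iso.inv_hom_id_assoc]
    · show 𝟙 _ ≫ (EtShriek.restrAlong j).map π = (EtShriek.restrAlong j).map π ≫ 𝟙 _
      rw [Category.comp_id, Category.id_comp]
  exact GalDescP.exists_lift f' π' w' hS'' q

set_option backward.isDefEq.respectTransparency.types false in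
/-- Hilbert 90 over arbitrary étale `k`-schemes -/
theorem surjective_sections {I Q : EtCoh.Ab (Spec (CommRingCat.of k))}
    (f : EtCoh.Gm (Spec (CommRingCat.of k)) ⟶ I) (π : I ⟶ Q) (w : f ≫ π = 0)
    (hS : (ShortComplex.mk f π w).ShortExact) (W : (Spec (CommRingCat.of k)).Etale)
    (q : Q.obj.obj (op W)) :
    ∃ t : I.obj.obj (op W), (π.hom.app (op W)).hom t = q := by
  classical
  choose Lw fLw ιw hιw hw using fun w : W.left => LerayLowC.exists_field_openImmersion k W w
  have hj : ∀ w, Etale (ιw w ≫ W.hom) := fun w => by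
    haveI := hιw w
    infer_instance
  let O : W.left → (Spec (CommRingCat.of k)).Etale := fun w => @jObj _ _ (ιw w ≫ W.hom) (hj w)
  let g : ∀ w, O w ⟶ W := fun w => MorphismProperty.Over.homMk (ιw w) (by
    show ιw w ≫ W.hom = 𝟙 _ ≫ ιw w ≫ W.hom
    rw [Category.id_comp])
  have hgl : ∀ w, (g w).left = ιw w := fun w => rfl
  have hpt : ∀ (a : W.left) (za : (O a).left), (g a).left za = a := by
    intro a za
    obtain ⟨z, hz⟩ := hw a
    have : Subsingleton (PrimeSpectrum (Lw a)) := inferInstance
    have hzz : za = z := Subsingleton.elim (α := PrimeSpectrum (Lw a)) za z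
    rw [hgl, hzz]
    exact hz
  have hmono : ∀ a, Mono (g a) := fun a => by
    haveI := hιw a
    have hm : Mono (ιw a) := IsOpenImmersion.mono (ιw a)
    exact EtDisjGlue.mono_of_mono_left (g a) (by rw [hgl]; exact hm)
  have hsurj : ∀ x : W.left, ∃ (a : W.left) (z : (O a).left), (g a).left z = x := by
    intro x
    obtain ⟨z, hz⟩ := hw x
    exact ⟨x, z, hz⟩
  have hdisj : ∀ a b, a ≠ b → ∀ (za : (O a).left) (zb : (O b).left),
      (g a).left za ≠ (g b).left zb := by
    intro a b hab za zb
    rw [hpt a za, hpt b zb]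
    exact hab
  -- local lifts
  have hl : ∀ a : W.left, ∃ t : I.obj.obj (op (O a)),
      (π.hom.app (op (O a))).hom t = (Q.obj.map (g a).op).hom q := fun a =>
    @exists_lift_jObj k _ (Lw a) (fLw a) (ιw a ≫ W.hom) (hj a) I Q f π w hS _
  choose t ht using hl
  obtain ⟨T, hT, -⟩ := EtDisjGlue.existsUnique_glue O g hmono hsurj hdisj
    (I.obj ⋙ forget AddCommGrpCat) (GalDescC.isSheaf_forget I) t
  refine ⟨T, ?_⟩
  obtain ⟨T', -, hT'⟩ := EtDisjGlue.existsUnique_glue O g hmono hsurj hdisj
    (Q.obj ⋙ forget AddCommGrpCat) (GalDescC.isSheaf_forget Q)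
    (fun a => (Q.obj.map (g a).op).hom q)
  have h1 : (π.hom.app (op W)).hom T = T' := by
    apply hT'
    intro a
    show (Q.obj.map (g a).op).hom ((π.hom.app (op W)).hom T) = (Q.obj.map (g a).op).hom q
    have hn := NatTrans.naturality_apply π.hom (g a).op T
    rw [← hn, ← ht a]
    congr 1
    exact hT a
  have h2 : q = T' := hT' q (fun a => rfl)
  rw [h1, h2]

end Groth.Agent.Helper6.LerayLowD
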