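import Mathlib
import Groth.Prelude.Def_EtBase
import Groth.Prelude.Def_EtCore
import Groth.Prelude.Def_EtGm
import Groth.Prelude.Def_EtLim
import Groth.Agent.Helper6.LerayLowB
import Groth.Agent.Helper6.LerayLowD

/-! `H^1(X, u_* G_m) = 0` and `H^2(X, u_* G_m) ↪ H^2(Spec k, G_m)` for `u : Spec k ⟶ X`, `k` a field. -/

set_option autoImplicit false
set_option linter.style.haveILetI false
set_option linter.unusedSectionVars false
set_option linter.unusedVariables false
set_option linter.unusedSimpArgs false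

universe u

open CategoryTheory CategoryTheory.Limits Opposite AlgebraicGeometry Abelian

namespace Groth.Agent.Helper6.LerayLowE

open Groth.Agent.Helper9

variable {k : Type u} [Field k] {X : Scheme.{u}} (v : Spec (CommRingCat.of k) ⟶ X)

theorem epi_push {I Q : EtCoh.Ab (Spec (CommRingCat.of k))}
    (f : EtCoh.Gm (Spec (CommRingCat.of k)) ⟶ I) (π : I ⟶ Q) (w : f ≫ π = 0)
    (hS : (ShortComplex.mk f π w).ShortExact) : Epi ((EtCoh.push v).map π) := by
  rw [← Sheaf.isLocallySurjective_iff_epi']
  apply Presheaf.isLocallySurjective_of_surjective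
  intro U q
  obtain ⟨t, ht⟩ := LerayLowD.surjective_sections f π w hS ((EtCoh.bc v).obj U.unop) q
  exact ⟨t, ht⟩

variable [PreservesFiniteLimits (EtCoh.pull v)]

theorem subsingleton_H1 :
    Subsingleton (EtCoh.H X ((EtCoh.push v).obj (EtCoh.Gm (Spec (CommRingCat.of k)))) 1) := by
  refine ⟨fun a b => ?_⟩
  apply LerayLowB.HofPush_injective_one v
  rw [GalDescP.H1_Gm_eq_zero k (EtLim.HofPush v _ 1 a), GalDescP.H1_Gm_eq_zero k (EtLim.HofPush v _ 1 b)]

theorem injective_H2 :
    Function.Injective (EtLim.HofPush v (EtCoh.Gm (Spec (CommRingCat.of k))) 2) := by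
  have hS := ExtNat.sc_shortExact (EtCoh.Gm (Spec (CommRingCat.of k)))
  have h1 : Epi ((EtCoh.push v).map (ExtNat.sc (EtCoh.Gm (Spec (CommRingCat.of k)))).g) :=
    epi_push v _ _ _ hS
  have h2 : Injective (ExtNat.sc (EtCoh.Gm (Spec (CommRingCat.of k)))).X₂ :=
    inferInstanceAs (Injective (Injective.under _))
  have key := @LerayLowB.HofPush_injective_two _ _ v _ _ hS h2 h1
  exact key

end Groth.Agent.Helper6.LerayLowE
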