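import Groth.Agent.Helper6.LftST
import Groth.Agent.Helper3.SmoothEtSec
import Groth.Agent.Helper4.SchemeSD2
import Groth.Agent.Helper4.SchLFP
import Mathlib

/-!
# Helper6: `LocP @LocallyOfFinitePresentation` is smooth local on the source; `IsSmoothLocalST` for it

Scheme-level input: smooth morphisms have sections étale locally (helper3's `SmoothEtSec.main`),
which reduces descent along smooth surjections to descent along étale surjections.
-/

set_option autoImplicit false
universe u
open CategoryTheory CategoryTheory.Limits AlgebraicGeometry Opposite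

namespace Groth.Agent.Helper6.LfpST

open AlgSp Groth.Agent.Helper4.SDClasses Groth.Agent.Helper5.FpqcRef
open Groth.Agent.Helper4.AlgSpPtsDesc Groth.Agent.Helper6.DiagLft Groth.Agent.Helper6.FlatST
open Groth.Agent.Helper6.LftST

variable {S : Scheme.{u}}

set_option backward.isDefEq.respectTransparency.types false in
/-- local finite presentation descends along smooth surjections on the source -/
theorem locallyOfFinitePresentation_of_comp_smooth_surjective {A B C : Scheme.{u}} (e : A ⟶ B)
    (h : B ⟶ C) [Smooth e] [Surjective e] [LocallyOfFinitePresentation (e ≫ h)] :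
    LocallyOfFinitePresentation h := by
  refine Groth.Agent.Helper4.SchemeSD.of_forall_comp_etale_family @LocallyOfFinitePresentation
    (fun e' h' he' hs' hP => ?_) h (fun b => ?_)
  · haveI := he'
    haveI := hs'
    haveI : LocallyOfFinitePresentation (e' ≫ h') := hP
    exact Groth.Agent.Helper4.SchemeSD.locallyOfFinitePresentation_of_comp_etale_surjective e' h'
  · obtain ⟨S', g, s', hg, hgs, k, hk⟩ :=
      Groth.Agent.Helper3.SmoothEtSec.main e b (e.surjective b)
    refine ⟨S', g, hg, ⟨s', hgs⟩, ?_⟩
    haveI := hg
    haveI : LocallyOfFinitePresentation (k ≫ e) := by rw [hk]; infer_instance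
    haveI : LocallyOfFinitePresentation k :=
      Groth.Agent.Helper4.SchLFP.locallyOfFinitePresentation_of_comp k e
    have h1 : g ≫ h = k ≫ (e ≫ h) := by rw [← hk, Category.assoc]
    rw [h1]
    infer_instance

set_option backward.isDefEq.respectTransparency.types false in
/-- local finite presentation can be checked after precomposing with a jointly surjective family
of smooth maps -/
theorem lfp_of_family {U V : Scheme.{u}} (k : U ⟶ V)
    (H : ∀ u : U, ∃ (A : Scheme.{u}) (e : A ⟶ U) (a : A), Smooth e ∧ e a = u ∧
      LocallyOfFinitePresentation (e ≫ k)) :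
    LocallyOfFinitePresentation k := by
  choose A e a he hea hek using H
  haveI : ∀ u, Smooth (e u) := he
  haveI : ∀ u, LocallyOfFinitePresentation (e u ≫ k) := hek
  haveI : Smooth (Sigma.desc e) :=
    IsZariskiLocalAtSource.sigmaDesc (P := @Smooth) (fun u => inferInstance)
  haveI : Surjective (Sigma.desc e) := by
    refine ⟨fun u => ⟨(Sigma.ι A u) (a u), ?_⟩⟩
    rw [← Scheme.Hom.comp_apply, Sigma.ι_desc]
    exact hea u
  haveI : LocallyOfFinitePresentation (Sigma.desc e ≫ k) := by
    have h1 : Sigma.desc e ≫ k = Sigma.desc (fun u => e u ≫ k) := by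
      apply Sigma.hom_ext
      intro u
      rw [Sigma.ι_desc_assoc, Sigma.ι_desc]
    rw [h1]
    exact IsZariskiLocalAtSource.sigmaDesc (P := @LocallyOfFinitePresentation)
      (fun u => inferInstance)
  exact locallyOfFinitePresentation_of_comp_smooth_surjective (Sigma.desc e) k

set_option backward.isDefEq.respectTransparency.types false in
theorem isLocalOnSource_sm_locP_lfp :
    IsLocalOnSource (IsSmCover (S := S)) (LocP @LocallyOfFinitePresentation) := by
  intro ι X Xi g hX hXi hcov Y f hY
  constructor
  · intro hf i
    exact Groth.Agent.Helper4.AlgSpLocPComp.locP_comp @LocallyOfFinitePresentation good_lfp hX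
      (g i) f (smooth_le_lfp _ (hcov.1 i)) hf
  · intro hgf U V a b k hae hbe hcomm
    refine lfp_of_family k.left fun u => ?_
    obtain ⟨i, xi, hxi⟩ := hcov.2 (Points.map a (Points.schemeHomeo U u))
    obtain ⟨A, e, l, v, hef, hev, hl, hle⟩ :=
      exists_smooth_chart hX (hXi i) (g i) (hcov.1 i) U a u xi hxi
    refine ⟨A.left, e.left, v, hef, hev, ?_⟩
    have : l ≫ (g i ≫ f) = (yon S).map (e ≫ k) ≫ b := by
      rw [← Category.assoc, hl, Category.assoc, hcomm, Functor.map_comp, Category.assoc]
    exact hgf i l b (e ≫ k) (hle hae) hbe this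

theorem localBase_lfp :
    IsLocalOnBase (IsSmCover (S := S)) (LocP @LocallyOfFinitePresentation) := by
  intro ι Y Yi g hY hYi hcov X f hX Xi p q hXi sq
  exact Groth.Agent.Helper6.LocalFppf.lfp Yi g hY hYi (fppf_of_sm Yi g hcov) f hX Xi p q hXi sq

theorem post_lfp :
    Groth.Agent.Helper5.SmST.Post (LocP @Smooth)
      (LocP (S := S) @LocallyOfFinitePresentation) := by
  intro X Y Z hX hY hZ f g hf hg
  exact Groth.Agent.Helper4.AlgSpLocPComp.locP_comp _ good_lfp hY f g hf (smooth_le_lfp _ hg)

theorem isSmoothLocalST_lfp : IsSmoothLocalST (LocP (S := S) @LocallyOfFinitePresentation) :=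
  Groth.Agent.Helper5.SmST.isSmoothLocalST_of_local _ isLocalOnSource_sm_locP_lfp localBase_lfp
    post_lfp

end Groth.Agent.Helper6.LfpST
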