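import Mathlib

namespace Groth.Agent.Helper6.Lie3

variable {A : Type*} [CommRing A] {L : Type*} [LieRing L] [LieAlgebra A L]
  (bs : Module.Basis (Fin 3) A L)

lemma decomp (m : L) :
    m = bs.repr m 0 • bs 0 + bs.repr m 1 • bs 1 + bs.repr m 2 • bs 2 := by
  conv_lhs => rw [← bs.sum_repr m]
  rw [Fin.sum_univ_three]

lemma coeffs_eq {a0 a1 a2 c0 c1 c2 : A}
    (h : a0 • bs 0 + a1 • bs 1 + a2 • bs 2 = c0 • bs 0 + c1 • bs 1 + c2 • bs 2) :
    a0 = c0 ∧ a1 = c1 ∧ a2 = c2 := by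
  have h' := congrArg bs.repr h
  simp only [map_add, map_smul, Module.Basis.repr_self] at h'
  refine ⟨?_, ?_, ?_⟩
  · have := DFunLike.congr_fun h' 0
    simpa using this
  · have := DFunLike.congr_fun h' 1
    simpa using this
  · have := DFunLike.congr_fun h' 2
    simpa using this

lemma bracket {p q : L} (h01 : ⁅bs 0, bs 1⁆ = p) (h02 : ⁅bs 0, bs 2⁆ = q) (h12 : ⁅bs 1, bs 2⁆ = 0)
    (a0 a1 a2 c0 c1 c2 : A) :
    ⁅a0 • bs 0 + a1 • bs 1 + a2 • bs 2, c0 • bs 0 + c1 • bs 1 + c2 • bs 2⁆ =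
      (a0 * c1 - a1 * c0) • p + (a0 * c2 - a2 * c0) • q := by
  have h10 : ⁅bs 1, bs 0⁆ = -p := by rw [← lie_skew, h01]
  have h20 : ⁅bs 2, bs 0⁆ = -q := by rw [← lie_skew, h02]
  have h21 : ⁅bs 2, bs 1⁆ = 0 := by rw [← lie_skew, h12, neg_zero]
  simp only [add_lie, lie_add, smul_lie, lie_smul, lie_self, h01, h02, h12, h10, h20, h21,
    smul_zero, add_zero, zero_add, smul_neg]
  module

end Groth.Agent.Helper6.Lie3
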