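import Mathlib

set_option autoImplicit false

namespace Groth.Agent.Helper6.Lie3Mat

variable {R : Type*} [CommRing R]

/-- multiplication matrix of `y1` on the basis `1, y1, y2, y3, y3², y2y3, y1y3`. -/
def M1 (x1 x2 x3 x4 x5 x6 : R) : Matrix (Fin 7) (Fin 7) R :=
  !![0, x1*x6 - x4*x5, x1*x3 + x4*x6, 0, x1*x3*x4 + x1*x3*x5 + x4^2*x6 + x4*x5*x6, 0, x1*x2*x3 + x1*x3*x6 + x2*x4*x6 + x4*x6^2;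
    1, -x4 - x5, 0, 0, x1*x3 + x4*x6, 0, -x1*x4 + x2*x6;
    0, 0, 0, 0, -x1*x6 + x4*x5, 0, x1*x3 + x4*x6;
    0, x6, x1, 0, x1*x5 + x2*x6, x1*x3 + x4*x6, x1*x2 + x1*x6;
    0, 0, 0, 0, -x4, x1, 0;
    0, 1, 0, 0, x2, 0, x1;
    0, 0, 0, 1, x1, 0, -x4]

/-- multiplication matrix of `y2` on the basis `1, y1, y2, y3, y3², y2y3, y1y3`. -/
def M2 (x1 x2 x3 x4 x5 x6 : R) : Matrix (Fin 7) (Fin 7) R :=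
  !![0, x1*x3 + x4*x6, x1*x4 - x2*x6, 0, x1*x2*x3 + x1*x3*x6 + x2*x4*x6 + x4*x6^2, x1*x3*x4 + x1*x3*x5 + x4^2*x6 + x4*x5*x6, 0;
    0, 0, 0, 0, -x1*x4 + x2*x6, x1*x3 + x4*x6, 0;
    1, 0, -x2 - x6, 0, x1*x3 + x4*x6, -x1*x6 + x4*x5, 0;
    0, x1, x4, 0, x1*x2 + x4*x5, x1*x4 + x1*x5, x1*x3 + x4*x6;
    0, 0, 0, 0, -x6, 0, x1;
    0, 0, 0, 1, x1, -x6, 0;
    0, 0, 1, 0, x5, x1, 0]

/-- multiplication matrix of `y3` on the basis `1, y1, y2, y3, y3², y2y3, y1y3`. -/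
def M3 (x1 x2 x3 x4 x5 x6 : R) : Matrix (Fin 7) (Fin 7) R :=
  !![0, 0, 0, 0, x1*x3^2 - x1*x4*x6 + x2*x3*x5 + x2*x6^2 + x3*x4*x6 + x4^2*x5, x1*x2*x3 + x1*x3*x6 + x2*x4*x6 + x4*x6^2, x1*x3*x4 + x1*x3*x5 + x4^2*x6 + x4*x5*x6;
    0, 0, 0, 0, x2*x3 + x4^2, -x1*x4 + x2*x6, x1*x3 + x4*x6;
    0, 0, 0, 0, x3*x5 + x6^2, x1*x3 + x4*x6, -x1*x6 + x4*x5;
    1, 0, 0, 0, 2*x1*x3 + x2*x5 + x4*x6, x1*x2 + x4*x5, x1*x5 + x2*x6;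
    0, 0, 0, 1, x1 - x3, -x6, -x4;
    0, 0, 1, 0, -x4 + x5, x1, x2;
    0, 1, 0, 0, x2 - x6, x5, x1]

theorem comm12 (x1 x2 x3 x4 x5 x6 : R) :
    M1 x1 x2 x3 x4 x5 x6 * M2 x1 x2 x3 x4 x5 x6 = M2 x1 x2 x3 x4 x5 x6 * M1 x1 x2 x3 x4 x5 x6 := by
  ext i j
  fin_cases i <;> fin_cases j <;>
    simp [M1, M2, Matrix.mul_apply, Fin.sum_univ_succ] <;> ring

theorem comm13 (x1 x2 x3 x4 x5 x6 : R) :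
    M1 x1 x2 x3 x4 x5 x6 * M3 x1 x2 x3 x4 x5 x6 = M3 x1 x2 x3 x4 x5 x6 * M1 x1 x2 x3 x4 x5 x6 := by
  ext i j
  fin_cases i <;> fin_cases j <;>
    simp [M1, M3, Matrix.mul_apply, Fin.sum_univ_succ] <;> ring

theorem comm23 (x1 x2 x3 x4 x5 x6 : R) :
    M2 x1 x2 x3 x4 x5 x6 * M3 x1 x2 x3 x4 x5 x6 = M3 x1 x2 x3 x4 x5 x6 * M2 x1 x2 x3 x4 x5 x6 := by
  ext i j
  fin_cases i <;> fin_cases j <;>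
    simp [M2, M3, Matrix.mul_apply, Fin.sum_univ_succ] <;> ring

/-- scalar matrix -/
abbrev sc (x : R) : Matrix (Fin 7) (Fin 7) R := x • (1 : Matrix (Fin 7) (Fin 7) R)

/-- images of the nine variables `a, …, i`. -/
def Va (x1 x2 x3 x4 x5 x6 : R) : Matrix (Fin 7) (Fin 7) R := sc x1 + M3 x1 x2 x3 x4 x5 x6
def Vb (x1 x2 x3 x4 x5 x6 : R) : Matrix (Fin 7) (Fin 7) R := M1 x1 x2 x3 x4 x5 x6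
def Vc (x1 x2 x3 x4 x5 x6 : R) : Matrix (Fin 7) (Fin 7) R := sc x2 + M2 x1 x2 x3 x4 x5 x6
def Vd (x1 x2 x3 x4 x5 x6 : R) : Matrix (Fin 7) (Fin 7) R := M2 x1 x2 x3 x4 x5 x6
def Ve (x1 x2 x3 x4 x5 x6 : R) : Matrix (Fin 7) (Fin 7) R := sc x3 + M3 x1 x2 x3 x4 x5 x6
def Vf (x1 x2 x3 x4 x5 x6 : R) : Matrix (Fin 7) (Fin 7) R := sc x4
def Vg (x1 x2 x3 x4 x5 x6 : R) : Matrix (Fin 7) (Fin 7) R := sc x5 + M1 x1 x2 x3 x4 x5 x6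
def Vh (x1 x2 x3 x4 x5 x6 : R) : Matrix (Fin 7) (Fin 7) R := sc x6
def Vi (x1 x2 x3 x4 x5 x6 : R) : Matrix (Fin 7) (Fin 7) R := M3 x1 x2 x3 x4 x5 x6

theorem relQ1 (x1 x2 x3 x4 x5 x6 : R) : Va x1 x2 x3 x4 x5 x6 * Vh x1 x2 x3 x4 x5 x6 + Vd x1 x2 x3 x4 x5 x6 * Vi x1 x2 x3 x4 x5 x6
    - Vf x1 x2 x3 x4 x5 x6 * Vg x1 x2 x3 x4 x5 x6 - Vb x1 x2 x3 x4 x5 x6 * Vg x1 x2 x3 x4 x5 x6 = 0 := by
  ext i j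
  simp only [Va, Vb, Vc, Vd, Ve, Vf, Vg, Vh, Vi, sc, Matrix.add_apply, Matrix.sub_apply, Matrix.mul_apply,
    Matrix.smul_apply, Matrix.zero_apply, Fin.sum_univ_succ, Fin.sum_univ_zero]
  fin_cases i <;> fin_cases j <;> simp [M1, M2, M3, Matrix.one_apply] <;> ring

theorem relQ2 (x1 x2 x3 x4 x5 x6 : R) : Vi x1 x2 x3 x4 x5 x6 * Ve x1 x2 x3 x4 x5 x6 + Vb x1 x2 x3 x4 x5 x6 * Vd x1 x2 x3 x4 x5 x6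
    - Vf x1 x2 x3 x4 x5 x6 * Vh x1 x2 x3 x4 x5 x6 - Va x1 x2 x3 x4 x5 x6 * Ve x1 x2 x3 x4 x5 x6 = 0 := by
  ext i j
  simp only [Va, Vb, Vc, Vd, Ve, Vf, Vg, Vh, Vi, sc, Matrix.add_apply, Matrix.sub_apply, Matrix.mul_apply,
    Matrix.smul_apply, Matrix.zero_apply, Fin.sum_univ_succ, Fin.sum_univ_zero]
  fin_cases i <;> fin_cases j <;> simp [M1, M2, M3, Matrix.one_apply] <;> ring

theorem relQ3 (x1 x2 x3 x4 x5 x6 : R) : Vh x1 x2 x3 x4 x5 x6 * Vc x1 x2 x3 x4 x5 x6 + Vd x1 x2 x3 x4 x5 x6 * Vc x1 x2 x3 x4 x5 x6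
    - Va x1 x2 x3 x4 x5 x6 * Vf x1 x2 x3 x4 x5 x6 - Vb x1 x2 x3 x4 x5 x6 * Vi x1 x2 x3 x4 x5 x6 = 0 := by
  ext i j
  simp only [Va, Vb, Vc, Vd, Ve, Vf, Vg, Vh, Vi, sc, Matrix.add_apply, Matrix.sub_apply, Matrix.mul_apply,
    Matrix.smul_apply, Matrix.zero_apply, Fin.sum_univ_succ, Fin.sum_univ_zero]
  fin_cases i <;> fin_cases j <;> simp [M1, M2, M3, Matrix.one_apply] <;> ring

theorem relDet (x1 x2 x3 x4 x5 x6 : R) : -(Vc x1 x2 x3 x4 x5 x6 * Vh x1 x2 x3 x4 x5 x6 ^ 2) + Vg x1 x2 x3 x4 x5 x6 * Vb x1 x2 x3 x4 x5 x6 * Vf x1 x2 x3 x4 x5 x6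
    + Ve x1 x2 x3 x4 x5 x6 * Vi x1 x2 x3 x4 x5 x6 ^ 2 - Vg x1 x2 x3 x4 x5 x6 * Ve x1 x2 x3 x4 x5 x6 * Vc x1 x2 x3 x4 x5 x6 + Vh x1 x2 x3 x4 x5 x6 * Vb x1 x2 x3 x4 x5 x6 * Vi x1 x2 x3 x4 x5 x6
    - Vi x1 x2 x3 x4 x5 x6 * Vh x1 x2 x3 x4 x5 x6 * Vf x1 x2 x3 x4 x5 x6 = 0 := by
  ext i j
  simp only [Va, Vb, Vc, Vd, Ve, Vf, Vg, Vh, Vi, sc, pow_two, Matrix.add_apply, Matrix.sub_apply, Matrix.neg_apply, Matrix.mul_apply,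
    Matrix.smul_apply, Matrix.zero_apply, Fin.sum_univ_succ, Fin.sum_univ_zero]
  fin_cases i <;> fin_cases j <;> simp [M1, M2, M3, Matrix.one_apply] <;> ring

/-- the basis elements `1, y1, y2, y3, y3², y2y3, y1y3` as matrices. -/
def Eb (x1 x2 x3 x4 x5 x6 : R) : Fin 7 → Matrix (Fin 7) (Fin 7) R :=
  ![1, M1 x1 x2 x3 x4 x5 x6, M2 x1 x2 x3 x4 x5 x6, M3 x1 x2 x3 x4 x5 x6, M3 x1 x2 x3 x4 x5 x6 * M3 x1 x2 x3 x4 x5 x6, M2 x1 x2 x3 x4 x5 x6 * M3 x1 x2 x3 x4 x5 x6, M1 x1 x2 x3 x4 x5 x6 * M3 x1 x2 x3 x4 x5 x6]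

theorem Eb_col0 (x1 x2 x3 x4 x5 x6 : R) (j l : Fin 7) :
    Eb x1 x2 x3 x4 x5 x6 j l 0 = if l = j then 1 else 0 := by
  fin_cases j <;> fin_cases l <;>
    simp [Eb, M1, M2, M3, Matrix.mul_apply, Fin.sum_univ_succ, Matrix.one_apply]

end Groth.Agent.Helper6.Lie3Mat
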