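import Mathlib
import Groth.Agent.Helper6.Lie3Mat
import Groth.Prelude.Def_W4c1bouilletffgsL3

set_option autoImplicit false

namespace Groth.Agent.Helper6.Lie3Free

open MvPolynomial Groth.Agent.Helper6.Lie3Mat

variable (A : Type*) [CommRing A]

/-- The polynomial ring in nine variables. -/
abbrev D : Type _ := MvPolynomial (Fin 9) A
/-- The parameter ring. -/
abbrev N : Type _ := MvPolynomial (Fin 6) A

/-- The six linear forms `a - i, c - d, e - i, f, g - b, h`. -/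
noncomputable def xf : Fin 6 → D A := ![X 0 - X 8, X 2 - X 3, X 4 - X 8, X 5, X 6 - X 1, X 7]

/-- The inclusion of the parameter ring. -/
noncomputable def ι : N A →ₐ[A] D A := aeval (xf A)

/-- the three multiplication matrices over `N`. -/
noncomputable def Y1 : Matrix (Fin 7) (Fin 7) (N A) := M1 (X 0) (X 1) (X 2) (X 3) (X 4) (X 5)
noncomputable def Y2 : Matrix (Fin 7) (Fin 7) (N A) := M2 (X 0) (X 1) (X 2) (X 3) (X 4) (X 5)
noncomputable def Y3 : Matrix (Fin 7) (Fin 7) (N A) := M3 (X 0) (X 1) (X 2) (X 3) (X 4) (X 5)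

/-- images of the nine variables. -/
noncomputable def Vm : Fin 9 → Matrix (Fin 7) (Fin 7) (N A) :=
  ![sc (X 0) + Y3 A, Y1 A, sc (X 1) + Y2 A, Y2 A, sc (X 2) + Y3 A, sc (X 3), sc (X 4) + Y1 A, sc (X 5), Y3 A]

/-- generators of the commutative subalgebra. -/
noncomputable def gens : Set (Matrix (Fin 7) (Fin 7) (N A)) := {Y1 A, Y2 A, Y3 A}

theorem comm_Y12 : Y1 A * Y2 A = Y2 A * Y1 A := comm12 _ _ _ _ _ _
theorem comm_Y13 : Y1 A * Y3 A = Y3 A * Y1 A := comm13 _ _ _ _ _ _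
theorem comm_Y23 : Y2 A * Y3 A = Y3 A * Y2 A := comm23 _ _ _ _ _ _

theorem gens_comm : ∀ a ∈ gens A, ∀ b ∈ gens A, a * b = b * a := by
  intro a ha b hb
  simp only [gens, Set.mem_insert_iff, Set.mem_singleton_iff] at ha hb
  rcases ha with ha | ha | ha <;> rcases hb with hb | hb | hb <;> rw [ha, hb]
  · exact comm_Y12 A
  · exact comm_Y13 A
  · exact (comm_Y12 A).symm
  · exact comm_Y23 A
  · exact (comm_Y13 A).symm
  · exact (comm_Y23 A).symm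

/-- the commutative subalgebra. -/
noncomputable abbrev S' : Subalgebra (N A) (Matrix (Fin 7) (Fin 7) (N A)) := Algebra.adjoin (N A) (gens A)

instance : IsMulCommutative (S' A) := Algebra.isMulCommutative_adjoin _ (gens_comm A)

open scoped IsMulCommutative

theorem Vm_mem (j : Fin 9) : Vm A j ∈ S' A := by
  have h1 : Y1 A ∈ S' A := Algebra.subset_adjoin (by simp [gens])
  have h2 : Y2 A ∈ S' A := Algebra.subset_adjoin (by simp [gens])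
  have h3 : Y3 A ∈ S' A := Algebra.subset_adjoin (by simp [gens])
  have hs : ∀ x : N A, sc x ∈ S' A := fun x => by
    have : sc x = algebraMap (N A) (Matrix (Fin 7) (Fin 7) (N A)) x := by
      simp [sc, Algebra.algebraMap_eq_smul_one]
    rw [this]; exact Subalgebra.algebraMap_mem _ _
  fin_cases j <;> simp only [Vm] <;>
    first
    | exact h1 | exact h2 | exact h3 | exact hs _
    | exact add_mem (hs _) h1 | exact add_mem (hs _) h2 | exact add_mem (hs _) h3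

/-- The ring homomorphism into the commutative matrix subalgebra. -/
noncomputable def Φ' : D A →ₐ[A] S' A := aeval (fun j => (⟨Vm A j, Vm_mem A j⟩ : S' A))

/-- The representation `D → Mat₇(N)`. -/
noncomputable def Φ : D A →+* Matrix (Fin 7) (Fin 7) (N A) :=
  (S' A).val.toRingHom.comp (Φ' A).toRingHom

theorem Φ_X (j : Fin 9) : Φ A (X j) = Vm A j := by
  simp [Φ, Φ']

theorem Φ_C (a : A) : Φ A (C a) = sc (C a) := by
  simp [Φ, Φ', sc, Algebra.algebraMap_eq_smul_one]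
  ext i j
  simp [Matrix.smul_apply, Matrix.one_apply, MvPolynomial.smul_eq_C_mul]

/-- indices of the three `y`-variables `b, d, i`. -/
def yv : Fin 3 → Fin 9 := ![1, 3, 8]

/-- the three multiplication matrices as a family. -/
noncomputable def Ym : Fin 3 → Matrix (Fin 7) (Fin 7) (N A) := ![Y1 A, Y2 A, Y3 A]

/-- the basis `1, b, d, i, i², d i, b i`. -/
noncomputable def eb : Fin 7 → D A := ![1, X 1, X 3, X 8, X 8 * X 8, X 3 * X 8, X 1 * X 8]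

theorem hQ1 : Lie3Mod.Q1 A ∈ Lie3Mod.idJ A := Ideal.subset_span (by simp)
theorem hQ2 : Lie3Mod.Q2 A ∈ Lie3Mod.idJ A := Ideal.subset_span (by simp)
theorem hQ3 : Lie3Mod.Q3 A ∈ Lie3Mod.idJ A := Ideal.subset_span (by simp)
theorem hD : Lie3Mod.detM A ∈ Lie3Mod.idJ A := Ideal.subset_span (by simp)

theorem cert_0_0 : X (yv 0) * eb A 0 - ∑ l, ι A (Ym A 0 l 0) * eb A l ∈ Lie3Mod.idJ A := by
  have h : X (yv 0) * eb A 0 - ∑ l, ι A (Ym A 0 l 0) * eb A l =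
      (0) * Lie3Mod.Q1 A + (0) * Lie3Mod.Q2 A + (0) * Lie3Mod.Q3 A
        + (0) * Lie3Mod.detM A := by
    simp [yv, eb, Ym, Y1, Y2, Y3, M1, M2, M3, ι, xf, map_ofNat, Fin.sum_univ_succ, Lie3Mod.Q1, Lie3Mod.Q2, Lie3Mod.Q3,
      Lie3Mod.detM]
    try ring
  rw [h]
  exact add_mem (add_mem (add_mem (Ideal.mul_mem_left _ _ (hQ1 A)) (Ideal.mul_mem_left _ _ (hQ2 A)))
    (Ideal.mul_mem_left _ _ (hQ3 A))) (Ideal.mul_mem_left _ _ (hD A))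

theorem cert_0_1 : X (yv 0) * eb A 1 - ∑ l, ι A (Ym A 0 l 1) * eb A l ∈ Lie3Mod.idJ A := by
  have h : X (yv 0) * eb A 1 - ∑ l, ι A (Ym A 0 l 1) * eb A l =
      (-1) * Lie3Mod.Q1 A + (0) * Lie3Mod.Q2 A + (0) * Lie3Mod.Q3 A
        + (0) * Lie3Mod.detM A := by
    simp [yv, eb, Ym, Y1, Y2, Y3, M1, M2, M3, ι, xf, map_ofNat, Fin.sum_univ_succ, Lie3Mod.Q1, Lie3Mod.Q2, Lie3Mod.Q3,
      Lie3Mod.detM]
    try ring
  rw [h]
  exact add_mem (add_mem (add_mem (Ideal.mul_mem_left _ _ (hQ1 A)) (Ideal.mul_mem_left _ _ (hQ2 A)))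
    (Ideal.mul_mem_left _ _ (hQ3 A))) (Ideal.mul_mem_left _ _ (hD A))

theorem cert_0_2 : X (yv 0) * eb A 2 - ∑ l, ι A (Ym A 0 l 2) * eb A l ∈ Lie3Mod.idJ A := by
  have h : X (yv 0) * eb A 2 - ∑ l, ι A (Ym A 0 l 2) * eb A l =
      (0) * Lie3Mod.Q1 A + (1) * Lie3Mod.Q2 A + (0) * Lie3Mod.Q3 A
        + (0) * Lie3Mod.detM A := by
    simp [yv, eb, Ym, Y1, Y2, Y3, M1, M2, M3, ι, xf, map_ofNat, Fin.sum_univ_succ, Lie3Mod.Q1, Lie3Mod.Q2, Lie3Mod.Q3,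
      Lie3Mod.detM]
    try ring
  rw [h]
  exact add_mem (add_mem (add_mem (Ideal.mul_mem_left _ _ (hQ1 A)) (Ideal.mul_mem_left _ _ (hQ2 A)))
    (Ideal.mul_mem_left _ _ (hQ3 A))) (Ideal.mul_mem_left _ _ (hD A))

theorem cert_0_3 : X (yv 0) * eb A 3 - ∑ l, ι A (Ym A 0 l 3) * eb A l ∈ Lie3Mod.idJ A := by
  have h : X (yv 0) * eb A 3 - ∑ l, ι A (Ym A 0 l 3) * eb A l =
      (0) * Lie3Mod.Q1 A + (0) * Lie3Mod.Q2 A + (0) * Lie3Mod.Q3 A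
        + (0) * Lie3Mod.detM A := by
    simp [yv, eb, Ym, Y1, Y2, Y3, M1, M2, M3, ι, xf, map_ofNat, Fin.sum_univ_succ, Lie3Mod.Q1, Lie3Mod.Q2, Lie3Mod.Q3,
      Lie3Mod.detM]
    try ring
  rw [h]
  exact add_mem (add_mem (add_mem (Ideal.mul_mem_left _ _ (hQ1 A)) (Ideal.mul_mem_left _ _ (hQ2 A)))
    (Ideal.mul_mem_left _ _ (hQ3 A))) (Ideal.mul_mem_left _ _ (hD A))

theorem cert_0_4 : X (yv 0) * eb A 4 - ∑ l, ι A (Ym A 0 l 4) * eb A l ∈ Lie3Mod.idJ A := by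
  have h : X (yv 0) * eb A 4 - ∑ l, ι A (Ym A 0 l 4) * eb A l =
      (X 3) * Lie3Mod.Q1 A + (X 5 + X 6) * Lie3Mod.Q2 A + (-X 8) * Lie3Mod.Q3 A
        + (0) * Lie3Mod.detM A := by
    simp [yv, eb, Ym, Y1, Y2, Y3, M1, M2, M3, ι, xf, map_ofNat, Fin.sum_univ_succ, Lie3Mod.Q1, Lie3Mod.Q2, Lie3Mod.Q3,
      Lie3Mod.detM]
    try ring
  rw [h]
  exact add_mem (add_mem (add_mem (Ideal.mul_mem_left _ _ (hQ1 A)) (Ideal.mul_mem_left _ _ (hQ2 A)))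
    (Ideal.mul_mem_left _ _ (hQ3 A))) (Ideal.mul_mem_left _ _ (hD A))

theorem cert_0_5 : X (yv 0) * eb A 5 - ∑ l, ι A (Ym A 0 l 5) * eb A l ∈ Lie3Mod.idJ A := by
  have h : X (yv 0) * eb A 5 - ∑ l, ι A (Ym A 0 l 5) * eb A l =
      (0) * Lie3Mod.Q1 A + (X 8) * Lie3Mod.Q2 A + (0) * Lie3Mod.Q3 A
        + (0) * Lie3Mod.detM A := by
    simp [yv, eb, Ym, Y1, Y2, Y3, M1, M2, M3, ι, xf, map_ofNat, Fin.sum_univ_succ, Lie3Mod.Q1, Lie3Mod.Q2, Lie3Mod.Q3,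
      Lie3Mod.detM]
    try ring
  rw [h]
  exact add_mem (add_mem (add_mem (Ideal.mul_mem_left _ _ (hQ1 A)) (Ideal.mul_mem_left _ _ (hQ2 A)))
    (Ideal.mul_mem_left _ _ (hQ3 A))) (Ideal.mul_mem_left _ _ (hD A))

theorem cert_0_6 : X (yv 0) * eb A 6 - ∑ l, ι A (Ym A 0 l 6) * eb A l ∈ Lie3Mod.idJ A := by
  have h : X (yv 0) * eb A 6 - ∑ l, ι A (Ym A 0 l 6) * eb A l =
      (0) * Lie3Mod.Q1 A + (X 2 + X 7) * Lie3Mod.Q2 A + (-X 1) * Lie3Mod.Q3 A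
        + (0) * Lie3Mod.detM A := by
    simp [yv, eb, Ym, Y1, Y2, Y3, M1, M2, M3, ι, xf, map_ofNat, Fin.sum_univ_succ, Lie3Mod.Q1, Lie3Mod.Q2, Lie3Mod.Q3,
      Lie3Mod.detM]
    try ring
  rw [h]
  exact add_mem (add_mem (add_mem (Ideal.mul_mem_left _ _ (hQ1 A)) (Ideal.mul_mem_left _ _ (hQ2 A)))
    (Ideal.mul_mem_left _ _ (hQ3 A))) (Ideal.mul_mem_left _ _ (hD A))

theorem cert_1_0 : X (yv 1) * eb A 0 - ∑ l, ι A (Ym A 1 l 0) * eb A l ∈ Lie3Mod.idJ A := by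
  have h : X (yv 1) * eb A 0 - ∑ l, ι A (Ym A 1 l 0) * eb A l =
      (0) * Lie3Mod.Q1 A + (0) * Lie3Mod.Q2 A + (0) * Lie3Mod.Q3 A
        + (0) * Lie3Mod.detM A := by
    simp [yv, eb, Ym, Y1, Y2, Y3, M1, M2, M3, ι, xf, map_ofNat, Fin.sum_univ_succ, Lie3Mod.Q1, Lie3Mod.Q2, Lie3Mod.Q3,
      Lie3Mod.detM]
    try ring
  rw [h]
  exact add_mem (add_mem (add_mem (Ideal.mul_mem_left _ _ (hQ1 A)) (Ideal.mul_mem_left _ _ (hQ2 A)))
    (Ideal.mul_mem_left _ _ (hQ3 A))) (Ideal.mul_mem_left _ _ (hD A))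

theorem cert_1_1 : X (yv 1) * eb A 1 - ∑ l, ι A (Ym A 1 l 1) * eb A l ∈ Lie3Mod.idJ A := by
  have h : X (yv 1) * eb A 1 - ∑ l, ι A (Ym A 1 l 1) * eb A l =
      (0) * Lie3Mod.Q1 A + (1) * Lie3Mod.Q2 A + (0) * Lie3Mod.Q3 A
        + (0) * Lie3Mod.detM A := by
    simp [yv, eb, Ym, Y1, Y2, Y3, M1, M2, M3, ι, xf, map_ofNat, Fin.sum_univ_succ, Lie3Mod.Q1, Lie3Mod.Q2, Lie3Mod.Q3,
      Lie3Mod.detM]
    try ring
  rw [h]
  exact add_mem (add_mem (add_mem (Ideal.mul_mem_left _ _ (hQ1 A)) (Ideal.mul_mem_left _ _ (hQ2 A)))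
    (Ideal.mul_mem_left _ _ (hQ3 A))) (Ideal.mul_mem_left _ _ (hD A))

theorem cert_1_2 : X (yv 1) * eb A 2 - ∑ l, ι A (Ym A 1 l 2) * eb A l ∈ Lie3Mod.idJ A := by
  have h : X (yv 1) * eb A 2 - ∑ l, ι A (Ym A 1 l 2) * eb A l =
      (0) * Lie3Mod.Q1 A + (0) * Lie3Mod.Q2 A + (1) * Lie3Mod.Q3 A
        + (0) * Lie3Mod.detM A := by
    simp [yv, eb, Ym, Y1, Y2, Y3, M1, M2, M3, ι, xf, map_ofNat, Fin.sum_univ_succ, Lie3Mod.Q1, Lie3Mod.Q2, Lie3Mod.Q3,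
      Lie3Mod.detM]
    try ring
  rw [h]
  exact add_mem (add_mem (add_mem (Ideal.mul_mem_left _ _ (hQ1 A)) (Ideal.mul_mem_left _ _ (hQ2 A)))
    (Ideal.mul_mem_left _ _ (hQ3 A))) (Ideal.mul_mem_left _ _ (hD A))

theorem cert_1_3 : X (yv 1) * eb A 3 - ∑ l, ι A (Ym A 1 l 3) * eb A l ∈ Lie3Mod.idJ A := by
  have h : X (yv 1) * eb A 3 - ∑ l, ι A (Ym A 1 l 3) * eb A l =
      (0) * Lie3Mod.Q1 A + (0) * Lie3Mod.Q2 A + (0) * Lie3Mod.Q3 A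
        + (0) * Lie3Mod.detM A := by
    simp [yv, eb, Ym, Y1, Y2, Y3, M1, M2, M3, ι, xf, map_ofNat, Fin.sum_univ_succ, Lie3Mod.Q1, Lie3Mod.Q2, Lie3Mod.Q3,
      Lie3Mod.detM]
    try ring
  rw [h]
  exact add_mem (add_mem (add_mem (Ideal.mul_mem_left _ _ (hQ1 A)) (Ideal.mul_mem_left _ _ (hQ2 A)))
    (Ideal.mul_mem_left _ _ (hQ3 A))) (Ideal.mul_mem_left _ _ (hD A))

theorem cert_1_4 : X (yv 1) * eb A 4 - ∑ l, ι A (Ym A 1 l 4) * eb A l ∈ Lie3Mod.idJ A := by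
  have h : X (yv 1) * eb A 4 - ∑ l, ι A (Ym A 1 l 4) * eb A l =
      (X 8) * Lie3Mod.Q1 A + (X 2 + X 7) * Lie3Mod.Q2 A + (-X 1) * Lie3Mod.Q3 A
        + (0) * Lie3Mod.detM A := by
    simp [yv, eb, Ym, Y1, Y2, Y3, M1, M2, M3, ι, xf, map_ofNat, Fin.sum_univ_succ, Lie3Mod.Q1, Lie3Mod.Q2, Lie3Mod.Q3,
      Lie3Mod.detM]
    try ring
  rw [h]
  exact add_mem (add_mem (add_mem (Ideal.mul_mem_left _ _ (hQ1 A)) (Ideal.mul_mem_left _ _ (hQ2 A)))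
    (Ideal.mul_mem_left _ _ (hQ3 A))) (Ideal.mul_mem_left _ _ (hD A))

theorem cert_1_5 : X (yv 1) * eb A 5 - ∑ l, ι A (Ym A 1 l 5) * eb A l ∈ Lie3Mod.idJ A := by
  have h : X (yv 1) * eb A 5 - ∑ l, ι A (Ym A 1 l 5) * eb A l =
      (X 3) * Lie3Mod.Q1 A + (X 5 + X 6) * Lie3Mod.Q2 A + (0) * Lie3Mod.Q3 A
        + (0) * Lie3Mod.detM A := by
    simp [yv, eb, Ym, Y1, Y2, Y3, M1, M2, M3, ι, xf, map_ofNat, Fin.sum_univ_succ, Lie3Mod.Q1, Lie3Mod.Q2, Lie3Mod.Q3,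
      Lie3Mod.detM]
    try ring
  rw [h]
  exact add_mem (add_mem (add_mem (Ideal.mul_mem_left _ _ (hQ1 A)) (Ideal.mul_mem_left _ _ (hQ2 A)))
    (Ideal.mul_mem_left _ _ (hQ3 A))) (Ideal.mul_mem_left _ _ (hD A))

theorem cert_1_6 : X (yv 1) * eb A 6 - ∑ l, ι A (Ym A 1 l 6) * eb A l ∈ Lie3Mod.idJ A := by
  have h : X (yv 1) * eb A 6 - ∑ l, ι A (Ym A 1 l 6) * eb A l =
      (0) * Lie3Mod.Q1 A + (X 8) * Lie3Mod.Q2 A + (0) * Lie3Mod.Q3 A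
        + (0) * Lie3Mod.detM A := by
    simp [yv, eb, Ym, Y1, Y2, Y3, M1, M2, M3, ι, xf, map_ofNat, Fin.sum_univ_succ, Lie3Mod.Q1, Lie3Mod.Q2, Lie3Mod.Q3,
      Lie3Mod.detM]
    try ring
  rw [h]
  exact add_mem (add_mem (add_mem (Ideal.mul_mem_left _ _ (hQ1 A)) (Ideal.mul_mem_left _ _ (hQ2 A)))
    (Ideal.mul_mem_left _ _ (hQ3 A))) (Ideal.mul_mem_left _ _ (hD A))

theorem cert_2_0 : X (yv 2) * eb A 0 - ∑ l, ι A (Ym A 2 l 0) * eb A l ∈ Lie3Mod.idJ A := by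
  have h : X (yv 2) * eb A 0 - ∑ l, ι A (Ym A 2 l 0) * eb A l =
      (0) * Lie3Mod.Q1 A + (0) * Lie3Mod.Q2 A + (0) * Lie3Mod.Q3 A
        + (0) * Lie3Mod.detM A := by
    simp [yv, eb, Ym, Y1, Y2, Y3, M1, M2, M3, ι, xf, map_ofNat, Fin.sum_univ_succ, Lie3Mod.Q1, Lie3Mod.Q2, Lie3Mod.Q3,
      Lie3Mod.detM]
    try ring
  rw [h]
  exact add_mem (add_mem (add_mem (Ideal.mul_mem_left _ _ (hQ1 A)) (Ideal.mul_mem_left _ _ (hQ2 A)))
    (Ideal.mul_mem_left _ _ (hQ3 A))) (Ideal.mul_mem_left _ _ (hD A))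

theorem cert_2_1 : X (yv 2) * eb A 1 - ∑ l, ι A (Ym A 2 l 1) * eb A l ∈ Lie3Mod.idJ A := by
  have h : X (yv 2) * eb A 1 - ∑ l, ι A (Ym A 2 l 1) * eb A l =
      (0) * Lie3Mod.Q1 A + (0) * Lie3Mod.Q2 A + (0) * Lie3Mod.Q3 A
        + (0) * Lie3Mod.detM A := by
    simp [yv, eb, Ym, Y1, Y2, Y3, M1, M2, M3, ι, xf, map_ofNat, Fin.sum_univ_succ, Lie3Mod.Q1, Lie3Mod.Q2, Lie3Mod.Q3,
      Lie3Mod.detM]
    try ring
  rw [h]
  exact add_mem (add_mem (add_mem (Ideal.mul_mem_left _ _ (hQ1 A)) (Ideal.mul_mem_left _ _ (hQ2 A)))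
    (Ideal.mul_mem_left _ _ (hQ3 A))) (Ideal.mul_mem_left _ _ (hD A))

theorem cert_2_2 : X (yv 2) * eb A 2 - ∑ l, ι A (Ym A 2 l 2) * eb A l ∈ Lie3Mod.idJ A := by
  have h : X (yv 2) * eb A 2 - ∑ l, ι A (Ym A 2 l 2) * eb A l =
      (0) * Lie3Mod.Q1 A + (0) * Lie3Mod.Q2 A + (0) * Lie3Mod.Q3 A
        + (0) * Lie3Mod.detM A := by
    simp [yv, eb, Ym, Y1, Y2, Y3, M1, M2, M3, ι, xf, map_ofNat, Fin.sum_univ_succ, Lie3Mod.Q1, Lie3Mod.Q2, Lie3Mod.Q3,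
      Lie3Mod.detM]
    try ring
  rw [h]
  exact add_mem (add_mem (add_mem (Ideal.mul_mem_left _ _ (hQ1 A)) (Ideal.mul_mem_left _ _ (hQ2 A)))
    (Ideal.mul_mem_left _ _ (hQ3 A))) (Ideal.mul_mem_left _ _ (hD A))

theorem cert_2_3 : X (yv 2) * eb A 3 - ∑ l, ι A (Ym A 2 l 3) * eb A l ∈ Lie3Mod.idJ A := by
  have h : X (yv 2) * eb A 3 - ∑ l, ι A (Ym A 2 l 3) * eb A l =
      (0) * Lie3Mod.Q1 A + (0) * Lie3Mod.Q2 A + (0) * Lie3Mod.Q3 A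
        + (0) * Lie3Mod.detM A := by
    simp [yv, eb, Ym, Y1, Y2, Y3, M1, M2, M3, ι, xf, map_ofNat, Fin.sum_univ_succ, Lie3Mod.Q1, Lie3Mod.Q2, Lie3Mod.Q3,
      Lie3Mod.detM]
    try ring
  rw [h]
  exact add_mem (add_mem (add_mem (Ideal.mul_mem_left _ _ (hQ1 A)) (Ideal.mul_mem_left _ _ (hQ2 A)))
    (Ideal.mul_mem_left _ _ (hQ3 A))) (Ideal.mul_mem_left _ _ (hD A))

theorem cert_2_4 : X (yv 2) * eb A 4 - ∑ l, ι A (Ym A 2 l 4) * eb A l ∈ Lie3Mod.idJ A := by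
  have h : X (yv 2) * eb A 4 - ∑ l, ι A (Ym A 2 l 4) * eb A l =
      (X 5) * Lie3Mod.Q1 A + (X 4) * Lie3Mod.Q2 A + (0) * Lie3Mod.Q3 A
        + (1) * Lie3Mod.detM A := by
    simp [yv, eb, Ym, Y1, Y2, Y3, M1, M2, M3, ι, xf, map_ofNat, Fin.sum_univ_succ, Lie3Mod.Q1, Lie3Mod.Q2, Lie3Mod.Q3,
      Lie3Mod.detM]
    try ring
  rw [h]
  exact add_mem (add_mem (add_mem (Ideal.mul_mem_left _ _ (hQ1 A)) (Ideal.mul_mem_left _ _ (hQ2 A)))
    (Ideal.mul_mem_left _ _ (hQ3 A))) (Ideal.mul_mem_left _ _ (hD A))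

theorem cert_2_5 : X (yv 2) * eb A 5 - ∑ l, ι A (Ym A 2 l 5) * eb A l ∈ Lie3Mod.idJ A := by
  have h : X (yv 2) * eb A 5 - ∑ l, ι A (Ym A 2 l 5) * eb A l =
      (X 8) * Lie3Mod.Q1 A + (X 2 + X 7) * Lie3Mod.Q2 A + (-X 1) * Lie3Mod.Q3 A
        + (0) * Lie3Mod.detM A := by
    simp [yv, eb, Ym, Y1, Y2, Y3, M1, M2, M3, ι, xf, map_ofNat, Fin.sum_univ_succ, Lie3Mod.Q1, Lie3Mod.Q2, Lie3Mod.Q3,
      Lie3Mod.detM]
    try ring
  rw [h]
  exact add_mem (add_mem (add_mem (Ideal.mul_mem_left _ _ (hQ1 A)) (Ideal.mul_mem_left _ _ (hQ2 A)))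
    (Ideal.mul_mem_left _ _ (hQ3 A))) (Ideal.mul_mem_left _ _ (hD A))

theorem cert_2_6 : X (yv 2) * eb A 6 - ∑ l, ι A (Ym A 2 l 6) * eb A l ∈ Lie3Mod.idJ A := by
  have h : X (yv 2) * eb A 6 - ∑ l, ι A (Ym A 2 l 6) * eb A l =
      (X 3) * Lie3Mod.Q1 A + (X 5 + X 6) * Lie3Mod.Q2 A + (-X 8) * Lie3Mod.Q3 A
        + (0) * Lie3Mod.detM A := by
    simp [yv, eb, Ym, Y1, Y2, Y3, M1, M2, M3, ι, xf, map_ofNat, Fin.sum_univ_succ, Lie3Mod.Q1, Lie3Mod.Q2, Lie3Mod.Q3,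
      Lie3Mod.detM]
    try ring
  rw [h]
  exact add_mem (add_mem (add_mem (Ideal.mul_mem_left _ _ (hQ1 A)) (Ideal.mul_mem_left _ _ (hQ2 A)))
    (Ideal.mul_mem_left _ _ (hQ3 A))) (Ideal.mul_mem_left _ _ (hD A))

theorem cert (k : Fin 3) (j : Fin 7) :
    X (yv k) * eb A j - ∑ l, ι A (Ym A k l j) * eb A l ∈ Lie3Mod.idJ A := by
  fin_cases k <;> fin_cases j
  · exact cert_0_0 A
  · exact cert_0_1 A
  · exact cert_0_2 A
  · exact cert_0_3 A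
  · exact cert_0_4 A
  · exact cert_0_5 A
  · exact cert_0_6 A
  · exact cert_1_0 A
  · exact cert_1_1 A
  · exact cert_1_2 A
  · exact cert_1_3 A
  · exact cert_1_4 A
  · exact cert_1_5 A
  · exact cert_1_6 A
  · exact cert_2_0 A
  · exact cert_2_1 A
  · exact cert_2_2 A
  · exact cert_2_3 A
  · exact cert_2_4 A
  · exact cert_2_5 A
  · exact cert_2_6 A

/-! ### The representation kills `J` -/

theorem Φ_Q1 : Φ A (Lie3Mod.Q1 A) = 0 := by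
  have := relQ1 (X 0 : N A) (X 1) (X 2) (X 3) (X 4) (X 5)
  simpa [Lie3Mod.Q1, Φ_X, Vm, Va, Vb, Vd, Vf, Vg, Vh, Vi, Y1, Y2, Y3] using this

theorem Φ_Q2 : Φ A (Lie3Mod.Q2 A) = 0 := by
  have := relQ2 (X 0 : N A) (X 1) (X 2) (X 3) (X 4) (X 5)
  simpa [Lie3Mod.Q2, Φ_X, Vm, Va, Vb, Vd, Ve, Vf, Vh, Vi, Y1, Y2, Y3] using this

theorem Φ_Q3 : Φ A (Lie3Mod.Q3 A) = 0 := by
  have := relQ3 (X 0 : N A) (X 1) (X 2) (X 3) (X 4) (X 5)
  simpa [Lie3Mod.Q3, Φ_X, Vm, Va, Vb, Vc, Vd, Vf, Vh, Vi, Y1, Y2, Y3] using this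

theorem Φ_det : Φ A (Lie3Mod.detM A) = 0 := by
  have := relDet (X 0 : N A) (X 1) (X 2) (X 3) (X 4) (X 5)
  simpa [Lie3Mod.detM, Φ_X, Vm, Vb, Vc, Ve, Vf, Vg, Vh, Vi, Y1, Y2, Y3] using this

theorem J_le_ker : Lie3Mod.idJ A ≤ RingHom.ker (Φ A) := by
  rw [Lie3Mod.idJ, Ideal.span_le]
  intro x hx
  simp only [Set.mem_insert_iff, Set.mem_singleton_iff] at hx
  rcases hx with rfl | rfl | rfl | rfl
  exacts [Φ_Q1 A, Φ_Q2 A, Φ_Q3 A, Φ_det A]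

theorem sc_mul_sc (p q : N A) : (sc p : Matrix (Fin 7) (Fin 7) (N A)) * sc q = sc (p * q) := by
  simp [sc, smul_smul, mul_comm]

theorem Φ_xf (l : Fin 6) : Φ A (xf A l) = sc (X l) := by
  fin_cases l <;> simp [xf, Φ_X, Vm]

theorem Φ_ι (n : N A) : Φ A (ι A n) = sc n := by
  induction n using MvPolynomial.induction_on with
  | C a => simp [ι, Φ_C]
  | add p q hp hq => simp [map_add, hp, hq, sc, add_smul]
  | mul_X p l hp =>
    rw [map_mul, map_mul, hp]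
    have : ι A (X l) = xf A l := by simp [ι]
    rw [this, Φ_xf, sc_mul_sc]

theorem Φ_eb (j : Fin 7) : Φ A (eb A j) = Eb (X 0 : N A) (X 1) (X 2) (X 3) (X 4) (X 5) j := by
  fin_cases j <;> simp [eb, Eb, Φ_X, Vm, Y1, Y2, Y3]

/-- **Independence** of the basis modulo `J`. -/
theorem indep (n : Fin 7 → N A) (h : ∑ j, ι A (n j) * eb A j ∈ Lie3Mod.idJ A) : n = 0 := by
  have h0 : Φ A (∑ j, ι A (n j) * eb A j) = 0 := J_le_ker A h
  rw [map_sum] at h0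
  funext l
  have := congrFun (congrFun h0 l) 0
  simp only [map_mul, Φ_ι, Φ_eb, Matrix.sum_apply, sc, Matrix.smul_mul, Matrix.one_mul,
    Matrix.smul_apply, Eb_col0, Matrix.zero_apply] at this
  simpa using this

/-! ### Spanning -/

/-- `f` is congruent modulo `J` to an `N`-combination of the basis. -/
def Rep (f : D A) : Prop := ∃ n : Fin 7 → N A, f - ∑ j, ι A (n j) * eb A j ∈ Lie3Mod.idJ A

theorem Rep.add {f g : D A} (hf : Rep A f) (hg : Rep A g) : Rep A (f + g) := by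
  obtain ⟨n, hn⟩ := hf
  obtain ⟨m, hm⟩ := hg
  refine ⟨n + m, ?_⟩
  have : f + g - ∑ j, ι A ((n + m) j) * eb A j
      = (f - ∑ j, ι A (n j) * eb A j) + (g - ∑ j, ι A (m j) * eb A j) := by
    simp only [Pi.add_apply, map_add, add_mul, Finset.sum_add_distrib]
    ring
  rw [this]
  exact add_mem hn hm

theorem Rep.ι_mul {f : D A} (hf : Rep A f) (m : N A) : Rep A (ι A m * f) := by
  obtain ⟨n, hn⟩ := hf
  refine ⟨fun j => m * n j, ?_⟩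
  have : ι A m * f - ∑ j, ι A (m * n j) * eb A j = ι A m * (f - ∑ j, ι A (n j) * eb A j) := by
    simp only [map_mul, mul_sub, Finset.mul_sum, mul_assoc]
  rw [this]
  exact Ideal.mul_mem_left _ _ hn

theorem Rep.y_mul {f : D A} (hf : Rep A f) (k : Fin 3) : Rep A (X (yv k) * f) := by
  obtain ⟨n, hn⟩ := hf
  refine ⟨(Ym A k).mulVec n, ?_⟩
  have h1 : ∑ l, ι A ((Ym A k).mulVec n l) * eb A l
      = ∑ j, ι A (n j) * ∑ l, ι A (Ym A k l j) * eb A l := by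
    simp only [Matrix.mulVec, dotProduct, map_sum, map_mul, Finset.sum_mul, Finset.mul_sum]
    rw [Finset.sum_comm]
    refine Finset.sum_congr rfl fun j _ => Finset.sum_congr rfl fun l _ => ?_
    ring
  have key : X (yv k) * f - ∑ l, ι A ((Ym A k).mulVec n l) * eb A l
      = X (yv k) * (f - ∑ j, ι A (n j) * eb A j)
        + ∑ j, ι A (n j) * (X (yv k) * eb A j - ∑ l, ι A (Ym A k l j) * eb A l) := by
    rw [h1]
    simp only [mul_sub, Finset.sum_sub_distrib, Finset.mul_sum]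
    have : ∑ j, X (yv k) * (ι A (n j) * eb A j) = ∑ j, ι A (n j) * (X (yv k) * eb A j) :=
      Finset.sum_congr rfl fun j _ => by ring
    rw [this]
    ring
  rw [key]
  exact add_mem (Ideal.mul_mem_left _ _ hn)
    (Ideal.sum_mem _ fun j _ => Ideal.mul_mem_left _ _ (cert A k j))

theorem Rep.const (a : A) : Rep A (MvPolynomial.C a) := by
  refine ⟨fun j => if j = 0 then MvPolynomial.C a else 0, ?_⟩
  have : (MvPolynomial.C a : D A)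
      - ∑ j, ι A ((fun j : Fin 7 => if j = 0 then (MvPolynomial.C a : N A) else 0) j) * eb A j = 0 := by
    simp [Fin.sum_univ_succ, eb, ι]
  rw [this]
  exact zero_mem _

theorem Rep.mul_X {f : D A} (hf : Rep A f) (j : Fin 9) : Rep A (f * X j) := by
  have e0 : f * X 0 = ι A (X 0) * f + X (yv 2) * f := by simp [ι, xf, yv]; ring
  have e1 : f * X 1 = X (yv 0) * f := by simp [yv]; ring
  have e2 : f * X 2 = ι A (X 1) * f + X (yv 1) * f := by simp [ι, xf, yv]; ring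
  have e3 : f * X 3 = X (yv 1) * f := by simp [yv]; ring
  have e4 : f * X 4 = ι A (X 2) * f + X (yv 2) * f := by simp [ι, xf, yv]; ring
  have e5 : f * X 5 = ι A (X 3) * f := by simp [ι, xf]; ring
  have e6 : f * X 6 = ι A (X 4) * f + X (yv 0) * f := by simp [ι, xf, yv]; ring
  have e7 : f * X 7 = ι A (X 5) * f := by simp [ι, xf]; ring
  have e8 : f * X 8 = X (yv 2) * f := by simp [yv]; ring
  fin_cases j
  · exact e0 ▸ (hf.ι_mul A _).add A (hf.y_mul A _)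
  · exact e1 ▸ hf.y_mul A _
  · exact e2 ▸ (hf.ι_mul A _).add A (hf.y_mul A _)
  · exact e3 ▸ hf.y_mul A _
  · exact e4 ▸ (hf.ι_mul A _).add A (hf.y_mul A _)
  · exact e5 ▸ hf.ι_mul A _
  · exact e6 ▸ (hf.ι_mul A _).add A (hf.y_mul A _)
  · exact e7 ▸ hf.ι_mul A _
  · exact e8 ▸ hf.y_mul A _

/-- **Spanning**: every polynomial is congruent modulo `J` to an `N`-combination of the basis. -/
theorem exists_rep (f : D A) : Rep A f := by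
  induction f using MvPolynomial.induction_on with
  | C a => exact Rep.const A a
  | add p q hp hq => exact hp.add A hq
  | mul_X p j hp => exact hp.mul_X A j

/-- **Key lemma**: elements of `N` that are non-zero-divisors on `N` are non-zero-divisors
on `D ⧸ J`. -/
theorem mem_of_ι_mul_mem (r : N A) (hr : ∀ m : N A, r * m = 0 → m = 0) (f : D A)
    (h : ι A r * f ∈ Lie3Mod.idJ A) : f ∈ Lie3Mod.idJ A := by
  obtain ⟨n, hn⟩ := exists_rep A f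
  have h1 : ∑ j, ι A (r * n j) * eb A j ∈ Lie3Mod.idJ A := by
    have : ∑ j, ι A (r * n j) * eb A j = ι A r * f - ι A r * (f - ∑ j, ι A (n j) * eb A j) := by
      simp only [map_mul, Finset.mul_sum, mul_sub, mul_assoc]
      ring
    rw [this]
    exact sub_mem h (Ideal.mul_mem_left _ _ hn)
  have h2 := indep A (fun j => r * n j) h1
  have h3 : n = 0 := funext fun j => hr _ (congrFun h2 j)
  subst h3
  simpa using hn

end Groth.Agent.Helper6.Lie3Free
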