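import Mathlib
import Groth.Agent.Helper6.Lie3Free

set_option autoImplicit false

namespace Groth.Agent.Helper6.Lie3Prime

open MvPolynomial Groth.Agent.Helper6.Lie3Free

variable (A : Type*) [CommRing A]

local notation "DD" => MvPolynomial (Fin 9) A
local notation "II" => Lie3Mod.idI A
local notation "JJ" => Lie3Mod.idJ A
local notation "LL" => Lie3Mod.idL A

/-! ### Elementary memberships -/

theorem Q1_eq : Lie3Mod.Q1 A = X 7 * Lie3Mod.L1 A - X 6 * Lie3Mod.L2 A + X 8 * Lie3Mod.L3 A := by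
  simp [Lie3Mod.Q1, Lie3Mod.L1, Lie3Mod.L2, Lie3Mod.L3]; ring
theorem Q2_eq : Lie3Mod.Q2 A = -X 4 * Lie3Mod.L1 A - X 7 * Lie3Mod.L2 A + X 1 * Lie3Mod.L3 A := by
  simp [Lie3Mod.Q2, Lie3Mod.L1, Lie3Mod.L2, Lie3Mod.L3]; ring
theorem Q3_eq : Lie3Mod.Q3 A = -X 5 * Lie3Mod.L1 A - X 8 * Lie3Mod.L2 A + X 2 * Lie3Mod.L3 A := by
  simp [Lie3Mod.Q3, Lie3Mod.L1, Lie3Mod.L2, Lie3Mod.L3]; ring

theorem L1_mem : Lie3Mod.L1 A ∈ LL := Ideal.subset_span (by simp)
theorem L2_mem : Lie3Mod.L2 A ∈ LL := Ideal.subset_span (by simp)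
theorem L3_mem : Lie3Mod.L3 A ∈ LL := Ideal.subset_span (by simp)

theorem Q1_mem_I : Lie3Mod.Q1 A ∈ II := Ideal.subset_span (by simp)
theorem Q2_mem_I : Lie3Mod.Q2 A ∈ II := Ideal.subset_span (by simp)
theorem Q3_mem_I : Lie3Mod.Q3 A ∈ II := Ideal.subset_span (by simp)

theorem I_le_J : II ≤ JJ := by
  rw [Lie3Mod.idI, Ideal.span_le]
  intro x hx
  simp only [Set.mem_insert_iff, Set.mem_singleton_iff] at hx
  rcases hx with rfl | rfl | rfl
  exacts [hQ1 A, hQ2 A, hQ3 A]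

theorem I_le_L : II ≤ LL := by
  rw [Lie3Mod.idI, Ideal.span_le]
  intro x hx
  simp only [Set.mem_insert_iff, Set.mem_singleton_iff] at hx
  have h1 := L1_mem A
  have h2 := L2_mem A
  have h3 := L3_mem A
  rcases hx with rfl | rfl | rfl
  · rw [Q1_eq]
    exact add_mem (sub_mem (Ideal.mul_mem_left _ _ h1) (Ideal.mul_mem_left _ _ h2))
      (Ideal.mul_mem_left _ _ h3)
  · rw [Q2_eq]
    exact add_mem (sub_mem (Ideal.mul_mem_left _ _ h1) (Ideal.mul_mem_left _ _ h2))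
      (Ideal.mul_mem_left _ _ h3)
  · rw [Q3_eq]
    exact add_mem (sub_mem (Ideal.mul_mem_left _ _ h1) (Ideal.mul_mem_left _ _ h2))
      (Ideal.mul_mem_left _ _ h3)

/-- Cramer's rule. -/
theorem L1_mul_det : Lie3Mod.L1 A * Lie3Mod.detM A ∈ II := by
  have : Lie3Mod.L1 A * Lie3Mod.detM A = (X 1 * X 8 - X 2 * X 7) * Lie3Mod.Q1 A
      + (X 2 * X 6 - X 8 ^ 2) * Lie3Mod.Q2 A + (-(X 1 * X 6) + X 7 * X 8) * Lie3Mod.Q3 A := by
    simp [Lie3Mod.Q1, Lie3Mod.Q2, Lie3Mod.Q3, Lie3Mod.L1, Lie3Mod.detM]; ring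
  rw [this]
  exact add_mem (add_mem (Ideal.mul_mem_left _ _ (Q1_mem_I A)) (Ideal.mul_mem_left _ _ (Q2_mem_I A)))
    (Ideal.mul_mem_left _ _ (Q3_mem_I A))

theorem L2_mul_det : Lie3Mod.L2 A * Lie3Mod.detM A ∈ II := by
  have : Lie3Mod.L2 A * Lie3Mod.detM A = (-(X 1 * X 5) + X 2 * X 4) * Lie3Mod.Q1 A
      + (X 2 * X 7 + X 5 * X 8) * Lie3Mod.Q2 A + (-(X 1 * X 7) - X 4 * X 8) * Lie3Mod.Q3 A := by
    simp [Lie3Mod.Q1, Lie3Mod.Q2, Lie3Mod.Q3, Lie3Mod.L2, Lie3Mod.detM]; ring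
  rw [this]
  exact add_mem (add_mem (Ideal.mul_mem_left _ _ (Q1_mem_I A)) (Ideal.mul_mem_left _ _ (Q2_mem_I A)))
    (Ideal.mul_mem_left _ _ (Q3_mem_I A))

theorem L3_mul_det : Lie3Mod.L3 A * Lie3Mod.detM A ∈ II := by
  have : Lie3Mod.L3 A * Lie3Mod.detM A = (X 4 * X 8 - X 5 * X 7) * Lie3Mod.Q1 A
      + (X 5 * X 6 + X 7 * X 8) * Lie3Mod.Q2 A + (-(X 4 * X 6) - X 7 ^ 2) * Lie3Mod.Q3 A := by
    simp [Lie3Mod.Q1, Lie3Mod.Q2, Lie3Mod.Q3, Lie3Mod.L3, Lie3Mod.detM]; ring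
  rw [this]
  exact add_mem (add_mem (Ideal.mul_mem_left _ _ (Q1_mem_I A)) (Ideal.mul_mem_left _ _ (Q2_mem_I A)))
    (Ideal.mul_mem_left _ _ (Q3_mem_I A))

/-- `L · det M ⊆ I`. -/
theorem mul_det_mem_I {x : DD} (hx : x ∈ LL) : x * Lie3Mod.detM A ∈ II := by
  rw [Lie3Mod.idL] at hx
  induction hx using Submodule.span_induction with
  | mem y hy =>
    simp only [Set.mem_insert_iff, Set.mem_singleton_iff] at hy
    rcases hy with rfl | rfl | rfl
    exacts [L1_mul_det A, L2_mul_det A, L3_mul_det A]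
  | zero => simp
  | add y z _ _ hy hz => rw [add_mul]; exact add_mem hy hz
  | smul r y _ hy => rw [smul_eq_mul, mul_assoc]; exact Ideal.mul_mem_left _ _ hy

/-- `L · J ⊆ I`. -/
theorem mul_mem_I {x y : DD} (hx : x ∈ LL) (hy : y ∈ JJ) : x * y ∈ II := by
  rw [Lie3Mod.idJ] at hy
  induction hy using Submodule.span_induction with
  | mem z hz =>
    simp only [Set.mem_insert_iff, Set.mem_singleton_iff] at hz
    rcases hz with rfl | rfl | rfl | rfl
    · exact Ideal.mul_mem_left _ _ (Q1_mem_I A)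
    · exact Ideal.mul_mem_left _ _ (Q2_mem_I A)
    · exact Ideal.mul_mem_left _ _ (Q3_mem_I A)
    · exact mul_det_mem_I A hx
  | zero => simp
  | add y z _ _ hy hz => rw [mul_add]; exact add_mem hy hz
  | smul r y _ hy => rw [smul_eq_mul, mul_left_comm]; exact Ideal.mul_mem_left _ _ hy

/-- `L1` is a non-zero-divisor modulo `J`. -/
theorem L1_mul_mem {f : DD} (h : Lie3Mod.L1 A * f ∈ JJ) : f ∈ JJ := by
  refine mem_of_ι_mul_mem A (X 0) (fun m hm => ?_) f ?_
  · exact (isRegular_X (R := A) (n := (0 : Fin 6))).left (by simpa using hm)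
  · have : ι A (X 0) = Lie3Mod.L1 A := by simp [ι, xf, Lie3Mod.L1]
    rw [this]; exact h

/-! ### The linear component `L` -/

/-- The coordinate ring of `V(L)`, presented as a polynomial ring in `e` over
`A[c, f, g, h, i - e]`. -/
abbrev R5 : Type _ := MvPolynomial (Fin 5) A

/-- the constants `z k`. -/
noncomputable def zc (k : Fin 5) : Polynomial (R5 A) := Polynomial.C (X k)

/-- images of the nine variables. -/
noncomputable def θv : Fin 9 → Polynomial (R5 A) :=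
  ![zc A 4 + Polynomial.X, -zc A 1, zc A 0, -zc A 3,
    Polynomial.X, zc A 1, zc A 2, zc A 3, zc A 4 + Polynomial.X]

/-- The quotient map `D → D/L`. -/
noncomputable def θ : DD →ₐ[A] Polynomial (R5 A) := aeval (θv A)

/-- A section. -/
noncomputable def σ : Polynomial (R5 A) →+* DD :=
  Polynomial.eval₂RingHom
    (aeval (R := A) (![X 2, X 5, X 6, X 7, X 8 - X 4] : Fin 5 → DD)).toRingHom (X 4)

theorem σ_θ_X (j : Fin 9) : (X j : DD) - σ A (θ A (X j)) ∈ LL := by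
  have h1 : (X 0 : DD) - X 8 ∈ LL := by simpa [Lie3Mod.L1] using L1_mem A
  have h2 : (X 1 : DD) + X 5 ∈ LL := by simpa [Lie3Mod.L2] using L2_mem A
  have h3 : (X 3 : DD) + X 7 ∈ LL := by simpa [Lie3Mod.L3] using L3_mem A
  fin_cases j <;> simp [θ, θv, σ, zc]
  · exact h1
  · exact h2
  · exact h3

theorem σ_θ (f : DD) : f - σ A (θ A f) ∈ LL := by
  induction f using MvPolynomial.induction_on with
  | C a => simp [θ, σ]
  | add p q hp hq =>
    have : p + q - σ A (θ A (p + q)) = (p - σ A (θ A p)) + (q - σ A (θ A q)) := by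
      simp only [map_add]; ring
    rw [this]; exact add_mem hp hq
  | mul_X p j hp =>
    have : p * X j - σ A (θ A (p * X j))
        = p * (X j - σ A (θ A (X j))) + (p - σ A (θ A p)) * σ A (θ A (X j)) := by
      simp only [map_mul]; ring
    rw [this]
    exact add_mem (Ideal.mul_mem_left _ _ (σ_θ_X A j)) (Ideal.mul_mem_right _ _ hp)

theorem ker_θ : RingHom.ker (θ A) = LL := by
  apply le_antisymm
  · intro f hf
    rw [RingHom.mem_ker] at hf
    have := σ_θ A f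
    rwa [hf, map_zero, sub_zero] at this
  · rw [Lie3Mod.idL, Ideal.span_le]
    intro x hx
    simp only [Set.mem_insert_iff, Set.mem_singleton_iff] at hx
    rcases hx with rfl | rfl | rfl <;>
      simp [RingHom.mem_ker, θ, θv, zc, Lie3Mod.L1, Lie3Mod.L2, Lie3Mod.L3]

theorem θ_det_monic : (θ A (Lie3Mod.detM A)).Monic := by
  have : θ A (Lie3Mod.detM A) = Polynomial.X ^ 3 +
      (Polynomial.C (2 * X 4) * Polynomial.X ^ 2
        + Polynomial.C (X 4 ^ 2 - X 2 * X 0 - 2 * X 1 * X 3) * Polynomial.X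
        - Polynomial.C (X 0 * X 3 ^ 2 + X 2 * X 1 ^ 2 + 2 * X 1 * X 3 * X 4)) := by
    simp [θ, θv, zc, Lie3Mod.detM, map_ofNat]
    ring
  rw [this]
  apply Polynomial.monic_X_pow_add
  compute_degree!

/-- `det M` is a non-zero-divisor modulo `L`. -/
theorem det_mul_mem_L {g : DD} (h : Lie3Mod.detM A * g ∈ LL) : g ∈ LL := by
  rw [← ker_θ, RingHom.mem_ker, map_mul] at h
  rw [← ker_θ, RingHom.mem_ker]
  exact (θ_det_monic A).isRegular.left (by simpa using h)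

theorem det_not_mem_L [Nontrivial A] : Lie3Mod.detM A ∉ LL := by
  rw [← ker_θ, RingHom.mem_ker]
  exact (θ_det_monic A).ne_zero

/-! ### `I = J ∩ L` and the colon ideals (arbitrary base ring) -/

theorem det_mem_J : Lie3Mod.detM A ∈ JJ := hD A

theorem mem_J_iff {f : DD} : f ∈ JJ ↔ ∃ q ∈ II, ∃ c : DD, f = q + c * Lie3Mod.detM A := by
  constructor
  · intro hf
    rw [Lie3Mod.idJ] at hf
    induction hf using Submodule.span_induction with
    | mem z hz =>
      simp only [Set.mem_insert_iff, Set.mem_singleton_iff] at hz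
      rcases hz with rfl | rfl | rfl | rfl
      · exact ⟨_, Q1_mem_I A, 0, by simp⟩
      · exact ⟨_, Q2_mem_I A, 0, by simp⟩
      · exact ⟨_, Q3_mem_I A, 0, by simp⟩
      · exact ⟨0, zero_mem _, 1, by simp⟩
    | zero => exact ⟨0, zero_mem _, 0, by simp⟩
    | add y z _ _ hy hz =>
      obtain ⟨q1, hq1, c1, rfl⟩ := hy
      obtain ⟨q2, hq2, c2, rfl⟩ := hz
      exact ⟨q1 + q2, add_mem hq1 hq2, c1 + c2, by ring⟩
    | smul r y _ hy =>
      obtain ⟨q1, hq1, c1, rfl⟩ := hy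
      exact ⟨r * q1, Ideal.mul_mem_left _ _ hq1, r * c1, by simp only [smul_eq_mul]; ring⟩
  · rintro ⟨q, hq, c, rfl⟩
    exact add_mem (I_le_J A hq) (Ideal.mul_mem_left _ _ (det_mem_J A))

/-- `I = J ∩ L`. -/
theorem I_eq_inf : II = JJ ⊓ LL := by
  apply le_antisymm
  · exact le_inf (I_le_J A) (I_le_L A)
  · rintro f ⟨hfJ, hfL⟩
    obtain ⟨q, hq, c, rfl⟩ := (mem_J_iff A).mp hfJ
    have h1 : c * Lie3Mod.detM A ∈ LL := by
      have := sub_mem hfL (I_le_L A hq)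
      simpa using this
    have h2 : c ∈ LL := det_mul_mem_L A (by rwa [mul_comm])
    exact add_mem hq (mul_det_mem_I A h2)

/-- `(I : L) = J`. -/
theorem colon_I_L : (II).colon (LL : Set DD) = JJ := by
  ext x
  rw [Submodule.mem_colon]
  constructor
  · intro h
    have h1 : x * Lie3Mod.L1 A ∈ II := h _ (L1_mem A)
    exact L1_mul_mem A (by rw [mul_comm]; exact I_le_J A h1)
  · intro hx s hs
    rw [smul_eq_mul, mul_comm]
    exact mul_mem_I A hs hx

/-- `(I : J) = L`. -/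
theorem colon_I_J : (II).colon (JJ : Set DD) = LL := by
  ext x
  rw [Submodule.mem_colon]
  constructor
  · intro h
    have h1 : x * Lie3Mod.detM A ∈ II := h _ (det_mem_J A)
    exact det_mul_mem_L A (by rw [mul_comm]; exact I_le_L A h1)
  · intro hx s hs
    rw [smul_eq_mul]
    exact mul_mem_I A hx hs

end Groth.Agent.Helper6.Lie3Prime
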