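import Mathlib
import Groth.Agent.Helper6.Lie3Prime

set_option autoImplicit false

namespace Groth.Agent.Helper6.Lie3Dom

open MvPolynomial Groth.Agent.Helper6.Lie3Free Groth.Agent.Helper6.Lie3Prime

variable (A : Type*) [CommRing A]

local notation "DD" => MvPolynomial (Fin 9) A
local notation "II" => Lie3Mod.idI A
local notation "JJ" => Lie3Mod.idJ A
local notation "LL" => Lie3Mod.idL A

/-- the ring of the chart `L1 ≠ 0`: variables `L1, L2, L3, c, g, i`. -/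
abbrev P6 : Type _ := MvPolynomial (Fin 6) A

/-- the chart coordinates inside `D`. -/
noncomputable def κv : Fin 6 → DD :=
  ![Lie3Mod.L1 A, Lie3Mod.L2 A, Lie3Mod.L3 A, X 2, X 6, X 8]

/-- the inclusion of the chart ring. -/
noncomputable def κ : P6 A →ₐ[A] DD := aeval (κv A)

theorem κ_X0 : κ A (X 0) = Lie3Mod.L1 A := by simp [κ, κv]

/-! ### Elimination -/

/-- after multiplying by a power of `L1`, `f` is congruent modulo `I` to a polynomial in the chart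
coordinates. -/
def Elim (f : DD) : Prop := ∃ (n : ℕ) (p : P6 A), Lie3Mod.L1 A ^ n * f - κ A p ∈ II

theorem Elim.var (j : Fin 9) : Elim A (X j) := by
  have h1 := Q1_mem_I A
  have h2 := Q2_mem_I A
  have h3 := Q3_mem_I A
  fin_cases j
  · refine ⟨0, X 0 + X 5, ?_⟩
    have : Lie3Mod.L1 A ^ 0 * (X 0 : DD) - κ A (X 0 + X 5) = 0 := by
      simp [κ, κv, Lie3Mod.L1]
    simp only [this, zero_mem, Fin.zero_eta]
  · refine ⟨1, X 0 * X 1 + X 5 * X 1 - X 3 * X 2, ?_⟩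
    have : Lie3Mod.L1 A ^ 1 * (X 1 : DD) - κ A (X 0 * X 1 + X 5 * X 1 - X 3 * X 2)
        = Lie3Mod.Q3 A := by
      simp [κ, κv, Lie3Mod.L1, Lie3Mod.L2, Lie3Mod.L3, Lie3Mod.Q3]; ring
    simp only [Fin.mk_one, this, h3]
  · refine ⟨0, X 3, ?_⟩
    have : Lie3Mod.L1 A ^ 0 * (X 2 : DD) - κ A (X 3) = 0 := by
      simp [κ, κv]
    simp only [Fin.reduceFinMk, this, zero_mem]
  · refine ⟨1, X 0 * X 2 - X 4 * X 1 + X 5 * X 2, ?_⟩
    have : Lie3Mod.L1 A ^ 1 * (X 3 : DD) - κ A (X 0 * X 2 - X 4 * X 1 + X 5 * X 2)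
        = -Lie3Mod.Q1 A := by
      simp [κ, κv, Lie3Mod.L1, Lie3Mod.L2, Lie3Mod.L3, Lie3Mod.Q1]; ring
    simp only [Fin.reduceFinMk, this, neg_mem h1]
  · refine ⟨2, -(X 4 * X 1 - X 5 * X 2) * X 1 + (X 0 * X 1 + X 5 * X 1 - X 3 * X 2) * X 2, ?_⟩
    have : Lie3Mod.L1 A ^ 2 * (X 4 : DD)
        - κ A (-(X 4 * X 1 - X 5 * X 2) * X 1 + (X 0 * X 1 + X 5 * X 1 - X 3 * X 2) * X 2)
        = -(Lie3Mod.L1 A) * Lie3Mod.Q2 A - Lie3Mod.L2 A * Lie3Mod.Q1 A
          + Lie3Mod.L3 A * Lie3Mod.Q3 A := by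
      simp [κ, κv, Lie3Mod.L1, Lie3Mod.L2, Lie3Mod.L3, Lie3Mod.Q1, Lie3Mod.Q2, Lie3Mod.Q3]; ring
    simp only [Fin.reduceFinMk, this]
    exact add_mem (sub_mem (Ideal.mul_mem_left _ _ h2) (Ideal.mul_mem_left _ _ h1))
      (Ideal.mul_mem_left _ _ h3)
  · refine ⟨1, -(X 5 * X 1) + X 3 * X 2, ?_⟩
    have : Lie3Mod.L1 A ^ 1 * (X 5 : DD) - κ A (-(X 5 * X 1) + X 3 * X 2)
        = -Lie3Mod.Q3 A := by
      simp [κ, κv, Lie3Mod.L1, Lie3Mod.L2, Lie3Mod.L3, Lie3Mod.Q3]; ring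
    simp only [Fin.reduceFinMk, this, neg_mem h3]
  · refine ⟨0, X 4, ?_⟩
    have : Lie3Mod.L1 A ^ 0 * (X 6 : DD) - κ A (X 4) = 0 := by
      simp [κ, κv]
    simp only [Fin.reduceFinMk, this, zero_mem]
  · refine ⟨1, X 4 * X 1 - X 5 * X 2, ?_⟩
    have : Lie3Mod.L1 A ^ 1 * (X 7 : DD) - κ A (X 4 * X 1 - X 5 * X 2)
        = Lie3Mod.Q1 A := by
      simp [κ, κv, Lie3Mod.L1, Lie3Mod.L2, Lie3Mod.L3, Lie3Mod.Q1]; ring
    simp only [Fin.reduceFinMk, this, h1]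
  · refine ⟨0, X 5, ?_⟩
    have : Lie3Mod.L1 A ^ 0 * (X 8 : DD) - κ A (X 5) = 0 := by
      simp [κ, κv]
    simp only [Fin.reduceFinMk, this, zero_mem]

theorem elim (f : DD) : Elim A f := by
  induction f using MvPolynomial.induction_on with
  | C a =>
    refine ⟨0, C a, ?_⟩
    have : Lie3Mod.L1 A ^ 0 * (C a : DD) - κ A (C a) = 0 := by simp [κ]
    rw [this]; exact zero_mem _
  | add p q hp hq =>
    obtain ⟨n1, p1, h1⟩ := hp
    obtain ⟨n2, p2, h2⟩ := hq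
    refine ⟨n1 + n2, X 0 ^ n2 * p1 + X 0 ^ n1 * p2, ?_⟩
    have : Lie3Mod.L1 A ^ (n1 + n2) * (p + q) - κ A (X 0 ^ n2 * p1 + X 0 ^ n1 * p2)
        = Lie3Mod.L1 A ^ n2 * (Lie3Mod.L1 A ^ n1 * p - κ A p1)
          + Lie3Mod.L1 A ^ n1 * (Lie3Mod.L1 A ^ n2 * q - κ A p2) := by
      simp only [map_add, map_mul, map_pow, κ_X0]; ring
    rw [this]
    exact add_mem (Ideal.mul_mem_left _ _ h1) (Ideal.mul_mem_left _ _ h2)
  | mul_X p j hp =>
    obtain ⟨n, p1, h1⟩ := hp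
    obtain ⟨m, q, h2⟩ := Elim.var A j
    refine ⟨n + m, p1 * q, ?_⟩
    have : Lie3Mod.L1 A ^ (n + m) * (p * X j) - κ A (p1 * q)
        = (Lie3Mod.L1 A ^ n * p - κ A p1) * (Lie3Mod.L1 A ^ m * X j)
          + κ A p1 * (Lie3Mod.L1 A ^ m * X j - κ A q) := by
      simp only [map_mul]; ring
    rw [this]
    exact add_mem (Ideal.mul_mem_right _ _ h1) (Ideal.mul_mem_left _ _ h2)

theorem pow_L1_mul_mem (n : ℕ) {f : DD} (h : Lie3Mod.L1 A ^ n * f ∈ JJ) : f ∈ JJ := by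
  induction n with
  | zero => simpa using h
  | succ n ih =>
    apply ih
    apply L1_mul_mem A
    rw [← mul_assoc, ← pow_succ']
    exact h


/-- `D ⧸ J` has no `A`-torsion. -/
theorem smul_mem_J {a : A} (ha : a ∈ nonZeroDivisors A) {f : DD} (h : a • f ∈ JJ) : f ∈ JJ := by
  refine mem_of_ι_mul_mem A (C a) (fun m hm => ?_) f ?_
  · ext d
    have := congrArg (coeff d) hm
    rw [coeff_C_mul, coeff_zero] at this
    rw [coeff_zero]
    exact (mul_left_mem_nonZeroDivisors_eq_zero_iff ha).mp this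
  · have : ι A (C a) = C a := by simp [ι]
    rw [this, ← smul_eq_C_mul]
    exact h

/-- `D ⧸ L` has no `A`-torsion. -/
theorem smul_mem_L {a : A} (ha : a ∈ nonZeroDivisors A) {f : DD} (h : a • f ∈ LL) : f ∈ LL := by
  rw [← ker_θ, RingHom.mem_ker] at h ⊢
  rw [map_smul] at h
  apply Polynomial.ext
  intro n
  apply MvPolynomial.ext
  intro d
  have := congrArg (fun q => coeff d (Polynomial.coeff q n)) h
  simp only [Polynomial.coeff_smul, coeff_smul, smul_eq_mul, Polynomial.coeff_zero, coeff_zero] at this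
  simpa using (mul_left_mem_nonZeroDivisors_eq_zero_iff ha).mp this

/-- `D ⧸ I` has no `A`-torsion. -/
theorem smul_mem_I {a : A} (ha : a ∈ nonZeroDivisors A) {f : DD} (h : a • f ∈ II) : f ∈ II := by
  rw [I_eq_inf] at h ⊢
  exact ⟨smul_mem_J A ha h.1, smul_mem_L A ha h.2⟩

/-- flatness over the integers from torsion-freeness. -/
theorem flat_int_of_torsionFree (Q : Ideal (MvPolynomial (Fin 9) ℤ))
    (hQ : ∀ (a : ℤ), a ≠ 0 → ∀ f : MvPolynomial (Fin 9) ℤ, a • f ∈ Q → f ∈ Q) :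
    Module.Flat ℤ (MvPolynomial (Fin 9) ℤ ⧸ Q) := by
  rw [Module.Flat.flat_iff_torsion_eq_bot_of_isBezout, Submodule.eq_bot_iff]
  intro x hx
  obtain ⟨⟨a, ha⟩, hax⟩ := (Submodule.mem_torsion_iff x).mp hx
  obtain ⟨f, rfl⟩ := Ideal.Quotient.mk_surjective x
  have h1 : a • f ∈ Q := by
    rw [← Ideal.Quotient.eq_zero_iff_mem]
    rw [← hax]
    simp
  rw [Ideal.Quotient.eq_zero_iff_mem]
  exact hQ a (nonZeroDivisors.ne_zero ha) f h1

theorem flat_int_J : Module.Flat ℤ (MvPolynomial (Fin 9) ℤ ⧸ Lie3Mod.idJ ℤ) :=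
  flat_int_of_torsionFree _ fun _ ha _ h =>
    smul_mem_J ℤ (mem_nonZeroDivisors_of_ne_zero ha) h

theorem flat_int_I : Module.Flat ℤ (MvPolynomial (Fin 9) ℤ ⧸ Lie3Mod.idI ℤ) :=
  flat_int_of_torsionFree _ fun _ ha _ h =>
    smul_mem_I ℤ (mem_nonZeroDivisors_of_ne_zero ha) h

/-! ### The chart map (domain case) -/

section Domain

variable [IsDomain A]

/-- the fraction field of the chart ring. -/
abbrev K6 : Type _ := FractionRing (P6 A)

/-- the chart coordinates in the fraction field. -/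
noncomputable def t (l : Fin 6) : K6 A := algebraMap (P6 A) (K6 A) (X l)

theorem t0_ne : t A 0 ≠ 0 := by
  rw [t, Ne, IsFractionRing.to_map_eq_zero_iff]
  exact X_ne_zero _

/-- the image of `h`. -/
noncomputable def ψh : K6 A := (t A 4 * t A 1 - t A 5 * t A 2) / t A 0
/-- the image of `f`. -/
noncomputable def ψf : K6 A := (-(t A 5 * t A 1) + t A 3 * t A 2) / t A 0

/-- images of the nine variables. -/
noncomputable def ψv : Fin 9 → K6 A :=
  ![t A 0 + t A 5, t A 1 - ψf A, t A 3, t A 2 - ψh A,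
    (-(ψh A) * t A 1 + (t A 1 - ψf A) * t A 2) / t A 0, ψf A, t A 4, ψh A, t A 5]

/-- the chart map. -/
noncomputable def ψ : DD →+* K6 A :=
  eval₂Hom ((algebraMap (P6 A) (K6 A)).comp (C : A →+* P6 A)) (ψv A)

theorem ψ_L1 : ψ A (Lie3Mod.L1 A) = t A 0 := by
  simp [ψ, ψv, Lie3Mod.L1]

theorem ψ_κ (p : P6 A) : ψ A (κ A p) = algebraMap (P6 A) (K6 A) p := by
  have : (ψ A).comp (κ A).toRingHom = algebraMap (P6 A) (K6 A) := by
    apply MvPolynomial.ringHom_ext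
    · intro a
      simp [ψ, κ]
    · intro l
      fin_cases l <;>
        simp [ψ, ψv, κ, κv, t, Lie3Mod.L1, Lie3Mod.L2, Lie3Mod.L3]
  exact congrArg (fun g => g p) this

theorem ψ_Q1 : ψ A (Lie3Mod.Q1 A) = 0 := by
  have h0 := t0_ne A
  simp only [ψ, ψv, Lie3Mod.Q1, ψh, ψf, map_sub, map_add, map_mul, eval₂Hom_X']
  simp
  field_simp
  ring

theorem ψ_Q2 : ψ A (Lie3Mod.Q2 A) = 0 := by
  have h0 := t0_ne A
  simp only [ψ, ψv, Lie3Mod.Q2, ψh, ψf, map_sub, map_add, map_mul, eval₂Hom_X']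
  simp
  field_simp
  ring

theorem ψ_Q3 : ψ A (Lie3Mod.Q3 A) = 0 := by
  have h0 := t0_ne A
  simp only [ψ, ψv, Lie3Mod.Q3, ψh, ψf, map_sub, map_add, map_mul, eval₂Hom_X']
  simp
  field_simp
  ring

theorem I_le_ker : II ≤ RingHom.ker (ψ A) := by
  rw [Lie3Mod.idI, Ideal.span_le]
  intro x hx
  simp only [Set.mem_insert_iff, Set.mem_singleton_iff] at hx
  rcases hx with rfl | rfl | rfl
  exacts [ψ_Q1 A, ψ_Q2 A, ψ_Q3 A]

theorem ψ_det : ψ A (Lie3Mod.detM A) = 0 := by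
  have h := I_le_ker A (L1_mul_det A)
  rw [RingHom.mem_ker, map_mul, ψ_L1] at h
  exact (mul_eq_zero.mp h).resolve_left (t0_ne A)

/-- `J` is the kernel of the chart map. -/
theorem ker_ψ : RingHom.ker (ψ A) = JJ := by
  apply le_antisymm
  · intro f hf
    rw [RingHom.mem_ker] at hf
    obtain ⟨n, p, hp⟩ := elim A f
    have h1 := I_le_ker A hp
    rw [RingHom.mem_ker, map_sub, map_mul, hf, mul_zero, zero_sub, neg_eq_zero, ψ_κ] at h1
    have h2 : p = 0 := by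
      have := (IsFractionRing.to_map_eq_zero_iff (K := K6 A)).mp h1
      exact this
    rw [h2, map_zero, sub_zero] at hp
    exact pow_L1_mul_mem A n (I_le_J A hp)
  · rw [Lie3Mod.idJ, Ideal.span_le]
    intro x hx
    simp only [Set.mem_insert_iff, Set.mem_singleton_iff] at hx
    rcases hx with rfl | rfl | rfl | rfl
    exacts [ψ_Q1 A, ψ_Q2 A, ψ_Q3 A, ψ_det A]

/-- **`J` is prime** over a domain. -/
theorem J_isPrime : (JJ).IsPrime := by
  rw [← ker_ψ]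
  exact RingHom.ker_isPrime _

theorem L1_not_mem_J : Lie3Mod.L1 A ∉ JJ := by
  rw [← ker_ψ, RingHom.mem_ker, ψ_L1]
  exact t0_ne A

/-- `L` is prime over a domain. -/
theorem L_isPrime : (LL).IsPrime := by
  rw [← ker_θ]
  exact RingHom.ker_isPrime _

/-- `J` is a minimal prime over `I`. -/
theorem J_mem_minimalPrimes : JJ ∈ (II).minimalPrimes := by
  refine ⟨⟨J_isPrime A, I_le_J A⟩, ?_⟩
  rintro P ⟨hP, hIP⟩ hPJ x hx
  have h1 : Lie3Mod.L1 A * x ∈ P := hIP (mul_mem_I A (L1_mem A) hx)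
  rcases hP.mem_or_mem h1 with h | h
  · exact absurd (hPJ h) (L1_not_mem_J A)
  · exact h

/-- `L` is a minimal prime over `I`. -/
theorem L_mem_minimalPrimes : LL ∈ (II).minimalPrimes := by
  refine ⟨⟨L_isPrime A, I_le_L A⟩, ?_⟩
  rintro P ⟨hP, hIP⟩ hPL x hx
  have h1 : x * Lie3Mod.detM A ∈ P := hIP (mul_det_mem_I A hx)
  rcases hP.mem_or_mem h1 with h | h
  · exact h
  · exact absurd (hPL h) (det_not_mem_L A)

/-- `I` is radical over a domain. -/
theorem I_isRadical : (II).IsRadical := by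
  rw [I_eq_inf]
  exact (J_isPrime A).isRadical.inf (L_isPrime A).isRadical

end Domain

end Groth.Agent.Helper6.Lie3Dom
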