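import Mathlib
import Groth.Agent.Helper6.Lie3

universe u v w

namespace Groth.Agent.Helper6.Lie3a

open Groth.Agent.Helper6.Lie3

theorem main (k : Type u) [Field k]
    (F : Type v) [LieRing F] [LieAlgebra (LaurentSeries k) F] (bF : Module.Basis (Fin 3) (LaurentSeries k) F)
    (hF01 : ⁅bF 0, bF 1⁆ = bF 2) (hF02 : ⁅bF 0, bF 2⁆ = (HahnSeries.single 1 (1 : k) : LaurentSeries k) • bF 1)
    (hF12 : ⁅bF 1, bF 2⁆ = 0)
    (L : Type w) [LieRing L] [LieAlgebra (LaurentSeries k) L] (bL : Module.Basis (Fin 3) (LaurentSeries k) L)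
    (hL01 : ⁅bL 0, bL 1⁆ = bL 1) (hL02 : ⁅bL 0, bL 2⁆ = -bL 2) (hL12 : ⁅bL 1, bL 2⁆ = 0) :
    IsEmpty (L ≃ₗ⁅LaurentSeries k⁆ F) := by
  constructor
  intro φ
  set T : LaurentSeries k := HahnSeries.single 1 (1 : k) with hT
  have hx := decomp bF (φ (bL 0))
  have hy := decomp bF (φ (bL 1))
  set a := bF.repr (φ (bL 0)) 0
  set b := bF.repr (φ (bL 0)) 1
  set c := bF.repr (φ (bL 0)) 2
  set d := bF.repr (φ (bL 1)) 0
  set e := bF.repr (φ (bL 1)) 1
  set f := bF.repr (φ (bL 1)) 2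
  have h1 : ⁅φ (bL 0), φ (bL 1)⁆ = φ (bL 1) := by
    rw [← LieEquiv.map_lie, hL01]
  rw [hx, hy, bracket bF hF01 hF02 hF12] at h1
  have h2 : (0 : LaurentSeries k) • bF 0 + ((a * f - c * d) * T) • bF 1 + (a * e - b * d) • bF 2 =
      d • bF 0 + e • bF 1 + f • bF 2 := by
    rw [zero_smul, zero_add, ← h1, mul_smul, add_comm]
  obtain ⟨hd, he, hf⟩ := coeffs_eq bF h2
  rw [← hd] at he hf
  simp only [mul_zero, sub_zero] at he hf
  have hy0 : φ (bL 1) ≠ 0 := by
    intro h0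
    have : bL 1 = 0 := by
      have h := φ.symm_apply_apply (bL 1)
      rw [h0, map_zero] at h
      exact h.symm
    exact bL.ne_zero 1 this
  have he0 : e ≠ 0 := by
    intro he0
    apply hy0
    rw [hy, ← hd, ← hf, he0]
    simp
  have h3 : a * a * T = 1 := by
    have : e * (a * a * T) = e * 1 := by
      rw [mul_one]
      conv_rhs => rw [← he, ← hf]
      ring
    exact mul_left_cancel₀ he0 this
  have ha0 : a ≠ 0 := by
    intro h
    rw [h] at h3
    simp at h3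
  have hT0 : T ≠ 0 := by
    intro h
    rw [h] at h3
    simp at h3
  have hord := congrArg HahnSeries.order h3
  rw [HahnSeries.order_mul (mul_ne_zero ha0 ha0) hT0, HahnSeries.order_mul ha0 ha0,
    HahnSeries.order_one, hT, HahnSeries.order_single one_ne_zero] at hord
  omega

end Groth.Agent.Helper6.Lie3a
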