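import Mathlib
import Groth.Agent.Helper6.Lie3

universe u v w

namespace Groth.Agent.Helper6.Lie3b

open Groth.Agent.Helper6.Lie3

section mk

variable {A : Type*} [CommRing A] {L : Type*} [LieRing L] [LieAlgebra A L]
  {L' : Type*} [LieRing L'] [LieAlgebra A L'] {ι : Type*} (bs : Module.Basis ι A L)

/-- a linear equivalence preserving the brackets of basis vectors is a Lie equivalence -/
def mkLieEquiv (f : L ≃ₗ[A] L') (h : ∀ i j, f ⁅bs i, bs j⁆ = ⁅f (bs i), f (bs j)⁆) :
    L ≃ₗ⁅A⁆ L' :=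
  { f with
    map_lie' := by
      intro x y
      have key : LinearMap.mk₂ A (fun x y => f ⁅x, y⁆) (by intros; simp [add_lie])
          (by intros; simp [smul_lie]) (by intros; simp [lie_add]) (by intros; simp [lie_smul]) =
          LinearMap.mk₂ A (fun x y => ⁅f x, f y⁆) (by intros; simp [add_lie])
          (by intros; simp [smul_lie]) (by intros; simp [lie_add]) (by intros; simp [lie_smul]) := by
        apply bs.ext
        intro i
        apply bs.ext
        intro j
        simp [h i j]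
      exact LinearMap.congr_fun₂ key x y }

end mk

section same

variable {k : Type u} [Field k] (t : k)
  {L : Type v} [LieRing L] [LieAlgebra k L] (b : Module.Basis (Fin 3) k L)
  (h01 : ⁅b 0, b 1⁆ = b 1) (h02 : ⁅b 0, b 2⁆ = t • b 2) (h12 : ⁅b 1, b 2⁆ = 0)
  {L' : Type w} [LieRing L'] [LieAlgebra k L'] (c : Module.Basis (Fin 3) k L')
  (h01' : ⁅c 0, c 1⁆ = c 1) (h02' : ⁅c 0, c 2⁆ = t • c 2) (h12' : ⁅c 1, c 2⁆ = 0)

include h01 h02 h12 h01' h02' h12' in
theorem iso_of_same : Nonempty (L ≃ₗ⁅k⁆ L') := by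
  have h10 : ⁅b 1, b 0⁆ = -b 1 := by rw [← lie_skew, h01]
  have h20 : ⁅b 2, b 0⁆ = -(t • b 2) := by rw [← lie_skew, h02]
  have h21 : ⁅b 2, b 1⁆ = 0 := by rw [← lie_skew, h12, neg_zero]
  have h10' : ⁅c 1, c 0⁆ = -c 1 := by rw [← lie_skew, h01']
  have h20' : ⁅c 2, c 0⁆ = -(t • c 2) := by rw [← lie_skew, h02']
  have h21' : ⁅c 2, c 1⁆ = 0 := by rw [← lie_skew, h12', neg_zero]
  refine ⟨mkLieEquiv b (b.equiv c (Equiv.refl _)) ?_⟩
  intro i j
  fin_cases i <;> fin_cases j <;>
    simp [h01, h02, h12, h10, h20, h21, h01', h02', h12', h10', h20', h21']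

end same

section main

variable (k : Type u) [Field k] (t t' : k) (ht : t ≠ 0) (ht' : t' ≠ 0)
  (L : Type v) [LieRing L] [LieAlgebra k L] (b : Module.Basis (Fin 3) k L)
  (h01 : ⁅b 0, b 1⁆ = b 1) (h02 : ⁅b 0, b 2⁆ = t • b 2) (h12 : ⁅b 1, b 2⁆ = 0)
  (L' : Type w) [LieRing L'] [LieAlgebra k L'] (b' : Module.Basis (Fin 3) k L')
  (h01' : ⁅b' 0, b' 1⁆ = b' 1) (h02' : ⁅b' 0, b' 2⁆ = t' • b' 2) (h12' : ⁅b' 1, b' 2⁆ = 0)

include ht h01 h02 h12 h01' h02' h12' in
theorem backward (h : t' = t ∨ t' = t⁻¹) : Nonempty (L ≃ₗ⁅k⁆ L') := by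
  rcases h with h | h
  · subst h
    exact iso_of_same t' b h01 h02 h12 b' h01' h02' h12'
  · -- new basis of L'
    let w : Fin 3 → kˣ := fun i => if i = 0 then Units.mk0 t ht else 1
    let c : Module.Basis (Fin 3) k L' := (b'.reindex (Equiv.swap 1 2)).unitsSMul w
    have c0 : c 0 = t • b' 0 := by
      simp [c, w, Module.Basis.unitsSMul_apply, Module.Basis.reindex_apply]
      rfl
    have c1 : c 1 = b' 2 := by
      simp [c, w, Module.Basis.unitsSMul_apply, Module.Basis.reindex_apply]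
    have c2 : c 2 = b' 1 := by
      simp [c, w, Module.Basis.unitsSMul_apply, Module.Basis.reindex_apply]
    have tt' : t * t' = 1 := by rw [h]; exact mul_inv_cancel₀ ht
    refine iso_of_same t b h01 h02 h12 c ?_ ?_ ?_
    · rw [c0, c1, smul_lie, h02', smul_smul, tt', one_smul]
    · rw [c0, c2, smul_lie, h01']
    · rw [c1, c2, ← lie_skew, h12', neg_zero]

include ht h01 h02 h12 h01' h02' h12' in
theorem forward (φ : L ≃ₗ⁅k⁆ L') : t' = t ∨ t' = t⁻¹ := by
  have hx := decomp b' (φ (b 0))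
  have hy := decomp b' (φ (b 1))
  have hz := decomp b' (φ (b 2))
  set a0 := b'.repr (φ (b 0)) 0
  set a1 := b'.repr (φ (b 0)) 1
  set a2 := b'.repr (φ (b 0)) 2
  set d := b'.repr (φ (b 1)) 0
  set e := b'.repr (φ (b 1)) 1
  set f := b'.repr (φ (b 1)) 2
  set g := b'.repr (φ (b 2)) 0
  set h := b'.repr (φ (b 2)) 1
  set i := b'.repr (φ (b 2)) 2
  have hxy : ⁅φ (b 0), φ (b 1)⁆ = φ (b 1) := by rw [← LieEquiv.map_lie, h01]
  have hxz : ⁅φ (b 0), φ (b 2)⁆ = t • φ (b 2) := by rw [← LieEquiv.map_lie, h02, map_smul]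
  rw [hx, hy, bracket b' h01' h02' h12'] at hxy
  rw [hx, hz, bracket b' h01' h02' h12'] at hxz
  have e1 : (0 : k) • b' 0 + (a0 * e - a1 * d) • b' 1 + ((a0 * f - a2 * d) * t') • b' 2 =
      d • b' 0 + e • b' 1 + f • b' 2 := by
    rw [zero_smul, zero_add, ← hxy, mul_smul]
  have e2 : (0 : k) • b' 0 + (a0 * h - a1 * g) • b' 1 + ((a0 * i - a2 * g) * t') • b' 2 =
      (t * g) • b' 0 + (t * h) • b' 1 + (t * i) • b' 2 := by
    rw [zero_smul, zero_add, mul_smul, hxz, smul_add, smul_add, smul_smul, smul_smul, smul_smul]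
  obtain ⟨hd, he, hf⟩ := coeffs_eq b' e1
  obtain ⟨hg, hh, hi⟩ := coeffs_eq b' e2
  have hg0 : g = 0 := by
    rcases mul_eq_zero.mp hg.symm with h | h
    · exact absurd h ht
    · exact h
  rw [← hd] at he hf
  rw [hg0] at hh hi
  simp only [mul_zero, sub_zero] at he hf hh hi
  -- injectivity
  have inj : ∀ m : L, φ m = 0 → m = 0 := by
    intro m hm
    have h := φ.symm_apply_apply m
    rw [hm, map_zero] at h
    exact h.symm
  have hdet : e * i - f * h ≠ 0 := by
    intro hdet
    have h1 : φ (i • b 1 - f • b 2) = (0 : k) • b' 0 + (i * e - f * h) • b' 1 + (0 : k) • b' 2 := by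
      rw [map_sub, map_smul, map_smul, hy, hz, ← hd, hg0]
      module
    have h2 : i * e - f * h = 0 := by rw [mul_comm i e]; exact hdet
    rw [h2] at h1
    simp only [zero_smul, add_zero] at h1
    have h3 := inj _ h1
    have h4 : (0 : k) • b 0 + i • b 1 + (-f) • b 2 = (0 : k) • b 0 + (0 : k) • b 1 + (0 : k) • b 2 := by
      simp only [zero_smul, add_zero, zero_add, neg_smul]
      rw [← sub_eq_add_neg]
      exact h3
    obtain ⟨-, hi0, hf0⟩ := coeffs_eq b h4
    have hf0' : f = 0 := neg_eq_zero.mp hf0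
    -- then e h both ... φ(h b1 - e b2) = 0
    have h5 : φ (h • b 1 - e • b 2) = 0 := by
      rw [map_sub, map_smul, map_smul, hy, hz, ← hd, hg0, hi0, hf0']
      module
    have h6 := inj _ h5
    have h7 : (0 : k) • b 0 + h • b 1 + (-e) • b 2 = (0 : k) • b 0 + (0 : k) • b 1 + (0 : k) • b 2 := by
      simp only [zero_smul, add_zero, zero_add, neg_smul]
      rw [← sub_eq_add_neg]
      exact h6
    obtain ⟨-, hh0, he0⟩ := coeffs_eq b h7
    have he0' : e = 0 := neg_eq_zero.mp he0
    have : φ (b 1) = 0 := by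
      rw [hy, ← hd, he0', hf0']
      simp
    exact b.ne_zero 1 (inj _ this)
  by_cases he0 : e = 0
  · right
    have hf0 : f ≠ 0 := by
      intro hf0
      apply hdet
      rw [he0, hf0]; ring
    have hh0 : h ≠ 0 := by
      intro hh0
      apply hdet
      rw [he0, hh0]; ring
    have h1 : a0 * t' = 1 := by
      have : f * (a0 * t') = f * 1 := by
        rw [mul_one]
        calc f * (a0 * t') = a0 * f * t' := by ring
          _ = f := hf
      exact mul_left_cancel₀ hf0 this
    have h2 : a0 = t := by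
      have : h * a0 = h * t := by rw [mul_comm h a0, hh, mul_comm]
      exact mul_left_cancel₀ hh0 this
    rw [h2] at h1
    exact eq_inv_of_mul_eq_one_right h1
  · left
    have ha : a0 = 1 := by
      have : e * a0 = e * 1 := by rw [mul_one, mul_comm]; exact he
      exact mul_left_cancel₀ he0 this
    rw [ha, one_mul] at hf hh hi
    by_cases hi0 : i = 0
    · have hf0 : f ≠ 0 := by
        intro hf0
        apply hdet
        rw [hi0, hf0]; ring
      have hh0 : h ≠ 0 := by
        intro hh0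
        apply hdet
        rw [hi0, hh0]; ring
      have h1 : t' = 1 := by
        have : f * t' = f * 1 := by rw [mul_one]; exact hf
        exact mul_left_cancel₀ hf0 this
      have h2 : t = 1 := by
        have : h * t = h * 1 := by rw [mul_one, mul_comm]; exact hh.symm
        exact mul_left_cancel₀ hh0 this
      rw [h1, h2]
    · have : i * t' = i * t := by rw [hi, mul_comm]
      exact mul_left_cancel₀ hi0 this

include ht h01 h02 h12 h01' h02' h12' in
theorem main : Nonempty (L ≃ₗ⁅k⁆ L') ↔ (t' = t ∨ t' = t⁻¹) :=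
  ⟨fun ⟨φ⟩ => forward k t t' ht L b h01 h02 h12 L' b' h01' h02' h12' φ,
    backward k t t' ht L b h01 h02 h12 L' b' h01' h02' h12'⟩

end main

end Groth.Agent.Helper6.Lie3b
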