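import Mathlib
import Groth.Agent.Helper6.Lie3

universe u v w

namespace Groth.Agent.Helper6.Lie3c

open Groth.Agent.Helper6.Lie3

theorem main (K : Type u) [Field K] (α : K) (A : Type v) [CommRing A] [Algebra K A]
    (L : Type w) [LieRing L] [LieAlgebra A L] (bs : Module.Basis (Fin 3) A L)
    (hxy : ⁅bs 0, bs 1⁆ = bs 1) (hxz : ⁅bs 0, bs 2⁆ = algebraMap K A α • bs 2) (hyz : ⁅bs 1, bs 2⁆ = 0)
    (φ : L ≃ₗ⁅A⁆ L) :
    (α ^ 2 ≠ 1 → ∃ b c e i : A, IsUnit e ∧ IsUnit i ∧ φ (bs 0) = bs 0 + b • bs 1 + c • bs 2 ∧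
        φ (bs 1) = e • bs 1 ∧ φ (bs 2) = i • bs 2) ∧
    (α = 1 → ∃ b c e f h i : A, IsUnit (e * i - f * h) ∧ φ (bs 0) = bs 0 + b • bs 1 + c • bs 2 ∧
        φ (bs 1) = e • bs 1 + f • bs 2 ∧ φ (bs 2) = h • bs 1 + i • bs 2) := by
  set αA : A := algebraMap K A α with hαA
  have hx := decomp bs (φ (bs 0))
  have hy := decomp bs (φ (bs 1))
  have hz := decomp bs (φ (bs 2))
  -- determinant
  have hdet := LinearEquiv.isUnit_det φ.toLinearEquiv bs bs
  rw [Matrix.det_fin_three] at hdet
  simp only [LinearMap.toMatrix_apply] at hdet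
  have hc : ∀ m : L, (φ.toLinearEquiv : L →ₗ[A] L) m = φ m := fun m => rfl
  simp only [hc] at hdet
  set a0 := bs.repr (φ (bs 0)) 0
  set a1 := bs.repr (φ (bs 0)) 1
  set a2 := bs.repr (φ (bs 0)) 2
  set d := bs.repr (φ (bs 1)) 0
  set e := bs.repr (φ (bs 1)) 1
  set f := bs.repr (φ (bs 1)) 2
  set g := bs.repr (φ (bs 2)) 0
  set h := bs.repr (φ (bs 2)) 1
  set i := bs.repr (φ (bs 2)) 2
  have b01 : ⁅φ (bs 0), φ (bs 1)⁆ = φ (bs 1) := by rw [← LieEquiv.map_lie, hxy]
  have b02 : ⁅φ (bs 0), φ (bs 2)⁆ = αA • φ (bs 2) := by rw [← LieEquiv.map_lie, hxz, map_smul]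
  have b12 : ⁅φ (bs 1), φ (bs 2)⁆ = 0 := by rw [← LieEquiv.map_lie, hyz, map_zero]
  rw [hx, hy, bracket bs hxy hxz hyz] at b01
  rw [hx, hz, bracket bs hxy hxz hyz] at b02
  rw [hy, hz, bracket bs hxy hxz hyz] at b12
  have e1 : (0 : A) • bs 0 + (a0 * e - a1 * d) • bs 1 + ((a0 * f - a2 * d) * αA) • bs 2 =
      d • bs 0 + e • bs 1 + f • bs 2 := by
    rw [zero_smul, zero_add, ← b01, mul_smul]
  have e2 : (0 : A) • bs 0 + (a0 * h - a1 * g) • bs 1 + ((a0 * i - a2 * g) * αA) • bs 2 =
      (αA * g) • bs 0 + (αA * h) • bs 1 + (αA * i) • bs 2 := by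
    rw [zero_smul, zero_add, mul_smul, b02, smul_add, smul_add, smul_smul, smul_smul, smul_smul]
  have e3 : (0 : A) • bs 0 + (d * h - e * g) • bs 1 + ((d * i - f * g) * αA) • bs 2 =
      (0 : A) • bs 0 + (0 : A) • bs 1 + (0 : A) • bs 2 := by
    rw [zero_smul, zero_add, mul_smul, b12]
    simp
  obtain ⟨hd, he, hf⟩ := coeffs_eq bs e1
  obtain ⟨hg, hh, hi⟩ := coeffs_eq bs e2
  obtain ⟨-, heg, -⟩ := coeffs_eq bs e3
  rw [← hd] at he hf heg hdet hy
  simp only [mul_zero, sub_zero, zero_mul, zero_sub, neg_eq_zero, add_zero] at he hf heg hdet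
  -- case analysis on α
  by_cases hα0 : α = 0
  · -- αA = 0
    have hαA0 : αA = 0 := by rw [hαA, hα0, map_zero]
    rw [hαA0] at hf hh hi
    simp only [mul_zero, zero_mul] at hf hh hi
    have hf0 : f = 0 := hf.symm
    rw [hf0] at hdet hy
    simp only [mul_zero, sub_zero, add_zero, zero_mul] at hdet
    have hdet' : IsUnit (e * (a0 * i - a2 * g)) := by
      convert hdet using 1
      ring
    have hue : IsUnit e := isUnit_of_mul_isUnit_left hdet'
    have hg0 : g = 0 := by
      have := hue.mul_right_eq_zero.mp heg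
      exact this
    have ha0 : a0 = 1 := by
      have : (a0 - 1) * e = 0 := by rw [sub_mul, he, one_mul, sub_self]
      have := hue.mul_left_eq_zero.mp this
      exact sub_eq_zero.mp this
    rw [hg0, ha0] at hh
    simp only [mul_zero, sub_zero, one_mul] at hh
    have hui : IsUnit i := by
      rw [hg0, ha0] at hdet'
      simp only [mul_zero, sub_zero, one_mul] at hdet'
      exact isUnit_of_mul_isUnit_right hdet'
    constructor
    · intro _
      refine ⟨a1, a2, e, i, hue, hui, ?_, ?_, ?_⟩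
      · rw [hx, ha0, one_smul]
      · rw [hy]; simp
      · rw [hz, hg0, hh]; simp
    · intro h1
      rw [h1] at hα0
      exact absurd hα0 one_ne_zero
  · -- αA unit
    have hαu : IsUnit αA := (IsUnit.mk0 α hα0).map (algebraMap K A)
    have hg0 : g = 0 := hαu.mul_right_eq_zero.mp hg.symm
    rw [hg0] at hh hi hdet hz
    simp only [mul_zero, sub_zero, zero_mul, add_zero] at hh hi hdet
    have hdet' : IsUnit (a0 * (e * i - f * h)) := by
      convert hdet using 1
      ring
    have hu : IsUnit (e * i - f * h) := isUnit_of_mul_isUnit_right hdet'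
    have hi' : a0 * i = i := by
      have : αA * (a0 * i) = αA * i := by rw [← hi]; ring
      exact hαu.mul_left_cancel this
    constructor
    · intro hα2
      have hu2 : IsUnit (1 - αA ^ 2) := by
        have : (1 : K) - α ^ 2 ≠ 0 := fun h => hα2 (sub_eq_zero.mp h).symm
        have := (IsUnit.mk0 _ this).map (algebraMap K A)
        simpa [hαA] using this
      have hfh : f * h = 0 := by
        have h1 : (a0 * αA - 1) * (f * h) = 0 := by
          have : (a0 * αA - 1) * f = 0 := by
            have h' : (a0 * αA - 1) * f = a0 * f * αA - f := by ring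
            rw [h', hf, sub_self]
          rw [← mul_assoc, this, zero_mul]
        have h2 : (a0 - αA) * (f * h) = 0 := by
          have : (a0 - αA) * h = 0 := by rw [sub_mul, hh, sub_self]
          rw [mul_comm f h, ← mul_assoc, this, zero_mul]
        have h3 : (1 - αA ^ 2) * (f * h) = 0 := by
          have : (1 - αA ^ 2) * (f * h) = αA * ((a0 - αA) * (f * h)) - (a0 * αA - 1) * (f * h) := by
            ring
          rw [this, h1, h2, mul_zero, sub_zero]
        exact hu2.mul_right_eq_zero.mp h3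
      rw [hfh, sub_zero] at hu
      have hue : IsUnit e := isUnit_of_mul_isUnit_left hu
      have hui : IsUnit i := isUnit_of_mul_isUnit_right hu
      have ha0 : a0 = 1 := by
        have : (a0 - 1) * e = 0 := by rw [sub_mul, he, one_mul, sub_self]
        exact sub_eq_zero.mp (hue.mul_left_eq_zero.mp this)
      have hu1 : IsUnit (αA - 1) := by
        have : α - 1 ≠ 0 := by
          intro h
          apply hα2
          rw [sub_eq_zero.mp h, one_pow]
        have := (IsUnit.mk0 _ this).map (algebraMap K A)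
        simpa [hαA] using this
      have hf0 : f = 0 := by
        have : (αA - 1) * f = 0 := by
          rw [sub_mul, one_mul, sub_eq_zero]
          conv_rhs => rw [← hf, ha0]
          ring
        exact hu1.mul_right_eq_zero.mp this
      have hh0 : h = 0 := by
        have : (αA - 1) * h = 0 := by
          rw [sub_mul, one_mul, sub_eq_zero, ← hh, ha0, one_mul]
        exact hu1.mul_right_eq_zero.mp this
      refine ⟨a1, a2, e, i, hue, hui, ?_, ?_, ?_⟩
      · rw [hx, ha0, one_smul]
      · rw [hy, hf0]; simp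
      · rw [hz, hh0]; simp
    · intro hα1
      have hαA1 : αA = 1 := by rw [hαA, hα1, map_one]
      rw [hαA1] at hf hh
      simp only [mul_one, one_mul] at hf hh
      have ha0 : a0 = 1 := by
        have : (a0 - 1) * (e * i - f * h) = 0 := by
          have : (a0 - 1) * (e * i - f * h) = (a0 * e) * i - (a0 * f) * h - (e * i - f * h) := by
            ring
          rw [this, he, hf, sub_self]
        exact sub_eq_zero.mp (hu.mul_left_eq_zero.mp this)
      refine ⟨a1, a2, e, f, h, i, hu, ?_, ?_, ?_⟩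
      · rw [hx, ha0, one_smul]
      · rw [hy]; simp
      · rw [hz]; simp

end Groth.Agent.Helper6.Lie3c
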