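import Mathlib
import Groth.Prelude.Def_DRing4
import Groth.Agent.Helper6.LiftJac
import Groth.Agent.Helper3.HensProj

/-!
# Lifting complexes along `R → R/I`: henselian pairs and stably free modules
-/

set_option autoImplicit false
set_option linter.style.haveILetI false
set_option linter.unusedSectionVars false

universe u
open CategoryTheory CategoryTheory.Limits Pretriangulated DerivedCategory TensorProduct
attribute [local instance] HasDerivedCategory.standard

namespace Groth.Agent.Helper6.LiftHens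
open Groth.Agent.Helper3.DRingLib Groth.Agent.Helper6.LBCCompute Groth.Agent.Helper6.LiftCx
  Groth.Agent.Helper6.LiftJac

variable {R : Type u} [CommRing R] (I : Ideal R)

/-- **Lifting along a henselian pair**, finite projective terms -/
theorem main_hens [HenselianRing R I] [DRing.HasLBaseChange (algebraMap R (R ⧸ I))]
    (K : Dual.D R) (hK : DRing.IsPseudoCoherent' R K) (E : DRing.Cx (R ⧸ I)) (b : ℤ)
    (hEb : DRing.VanishesAbove E b) (hEp : DRing.TermwiseFiniteProjective E)
    (eE : DRing.toD E ≅ (DRing.LBaseChange (algebraMap R (R ⧸ I))).obj K) :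
    ∃ (P : DRing.Cx R) (b' : ℤ), DRing.VanishesAbove P b' ∧ DRing.TermwiseFiniteProjective P ∧
      Nonempty (DRing.toD P ≅ K) ∧ Nonempty ((bcCxF (algebraMap R (R ⧸ I))).obj P ≅ E) ∧
      ∀ i : ℤ, Module.Free (R ⧸ I) (E.X i) → Module.Free R (P.X i) := by
  let Pc : ObjectProperty (ModuleCat.{u} R) :=
    fun X => Module.Finite R X ∧ Module.Projective R X
  haveI : Pc.IsClosedUnderIsomorphisms := ⟨fun {X Y} e hX => by
    haveI : Module.Finite R X := hX.1
    haveI : Module.Projective R X := hX.2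
    exact ⟨Module.Finite.equiv e.toLinearEquiv, Module.Projective.of_equiv e.toLinearEquiv⟩⟩
  have h1 : H1 Pc := fun X hX => hX.2
  have h2 : H2 Pc := fun X Y _ hXY => by
    haveI : Module.Finite R (X × Y) := hXY.1
    haveI : Module.Projective R (X × Y) := hXY.2
    exact ⟨Module.Finite.of_surjective (LinearMap.snd R X Y) LinearMap.snd_surjective,
      Module.Projective.of_split (LinearMap.inr R X Y) (LinearMap.snd R X Y)
        (LinearMap.ext fun y => rfl)⟩
  have h2' : H2' Pc := fun X Y hX hY => by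
    haveI : Module.Finite R X := hX.1
    haveI : Module.Projective R X := hX.2
    haveI : Module.Finite R Y := hY.1
    haveI : Module.Projective R Y := hY.2
    exact ⟨(inferInstance : Module.Finite R (X × Y)),
      (inferInstance : Module.Projective R (X × Y))⟩
  have hfin : ∀ X : ModuleCat.{u} R, Pc X → Module.Finite R X := fun X hX => hX.1
  have hfree : ∀ X : ModuleCat.{u} R, Module.Finite R X → Module.Free R X → Pc X :=
    fun X hf hfr => ⟨hf, by haveI := hfr; infer_instance⟩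
  have hEt : ∀ i : ℤ, ∃ X : ModuleCat.{u} R, Pc X ∧
      Nonempty ((R ⧸ I) ⊗[R] X ≃ₗ[R ⧸ I] E.X i) := fun i => by
    haveI := (hEp i).1
    haveI := (hEp i).2
    obtain ⟨P, _, _, hPf, hPp, ⟨e⟩⟩ := Groth.Agent.Helper3.HensProj.proj_lift R I (E.X i)
    exact ⟨ModuleCat.of R P, ⟨hPf, hPp⟩, ⟨e⟩⟩
  exact main_jac I (HenselianRing.jac) Pc h1 h2 h2' hfin hfree K hK E b hEb hEt eE

/-- the kernel of the second projection -/
def kerSndEquiv (S : Type u) [CommRing S] (E' N : Type u) [AddCommGroup E'] [Module S E']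
    [AddCommGroup N] [Module S N] : LinearMap.ker (LinearMap.snd S E' N) ≃ₗ[S] E' where
  toFun x := x.1.1
  map_add' _ _ := rfl
  map_smul' _ _ := rfl
  invFun e := ⟨(e, 0), rfl⟩
  left_inv x := by
    apply Subtype.ext
    have h2 : x.1.2 = 0 := x.2
    exact Prod.ext rfl h2.symm
  right_inv _ := rfl

/-- **Lifting along `I ≤ rad R`**, finite stably free terms -/
theorem main_sf (hI : I ≤ Ideal.jacobson (⊥ : Ideal R))
    [DRing.HasLBaseChange (algebraMap R (R ⧸ I))]
    (K : Dual.D R) (hK : DRing.IsPseudoCoherent' R K) (E : DRing.Cx (R ⧸ I)) (b : ℤ)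
    (hEb : DRing.VanishesAbove E b)
    (hEs : ∀ i : ℤ, Module.Finite (R ⧸ I) (E.X i) ∧ Module.IsStablyFree (R ⧸ I) (E.X i))
    (eE : DRing.toD E ≅ (DRing.LBaseChange (algebraMap R (R ⧸ I))).obj K) :
    ∃ (P : DRing.Cx R) (b' : ℤ), DRing.VanishesAbove P b' ∧
      (∀ i : ℤ, Module.Finite R (P.X i) ∧ Module.IsStablyFree R (P.X i)) ∧
      Nonempty (DRing.toD P ≅ K) ∧ Nonempty ((bcCxF (algebraMap R (R ⧸ I))).obj P ≅ E) ∧
      ∀ i : ℤ, Module.Free (R ⧸ I) (E.X i) → Module.Free R (P.X i) := by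
  let Pc : ObjectProperty (ModuleCat.{u} R) :=
    fun X => Module.Finite R X ∧ Module.IsStablyFree R X
  haveI : Pc.IsClosedUnderIsomorphisms := ⟨fun {X Y} e hX => by
    haveI : Module.Finite R X := hX.1
    haveI : Module.IsStablyFree R X := hX.2
    exact ⟨Module.Finite.equiv e.toLinearEquiv, Module.IsStablyFree.equiv e.toLinearEquiv⟩⟩
  have h1 : H1 Pc := fun X hX => by
    haveI : Module.IsStablyFree R X := hX.2
    infer_instance
  have h2 : H2 Pc := fun X Y hX hXY => by
    haveI : Module.Finite R X := hX.1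
    haveI : Module.IsStablyFree R X := hX.2
    haveI : Module.Finite R (X × Y) := hXY.1
    haveI : Module.IsStablyFree R (X × Y) := hXY.2
    refine ⟨Module.Finite.of_surjective (LinearMap.snd R X Y) LinearMap.snd_surjective, ?_⟩
    obtain ⟨N₁, _, _, _, _, _⟩ := Module.IsStablyFree.exist_free_prod R X
    obtain ⟨N₂, _, _, _, _, _⟩ := Module.IsStablyFree.exist_free_prod R (X × Y)
    let e : (((X × Y) × N₂) × N₁) ≃ₗ[R] (Y × ((X × N₁) × N₂)) :=
      { toFun := fun p => (p.1.1.2, ((p.1.1.1, p.2), p.1.2))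
        map_add' := fun _ _ => rfl
        map_smul' := fun _ _ => rfl
        invFun := fun q => (((q.2.1.1, q.1), q.2.2), q.2.1.2)
        left_inv := fun _ => rfl
        right_inv := fun _ => rfl }
    haveI : Module.Free R (Y × ((X × N₁) × N₂)) := Module.Free.of_equiv e
    exact Module.IsStablyFree.of_free_prod R Y ((X × N₁) × N₂)
  have h2' : H2' Pc := fun X Y hX hY => by
    haveI : Module.Finite R X := hX.1
    haveI : Module.IsStablyFree R X := hX.2
    haveI : Module.Finite R Y := hY.1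
    haveI : Module.IsStablyFree R Y := hY.2
    refine ⟨(inferInstance : Module.Finite R (X × Y)), ?_⟩
    obtain ⟨N₁, _, _, _, _, _⟩ := Module.IsStablyFree.exist_free_prod R X
    obtain ⟨N₂, _, _, _, _, _⟩ := Module.IsStablyFree.exist_free_prod R Y
    haveI : Module.Free R ((X × Y) × (N₁ × N₂)) :=
      Module.Free.of_equiv (LinearEquiv.prodProdProdComm R X N₁ Y N₂)
    exact Module.IsStablyFree.of_free_prod R (X × Y) (N₁ × N₂)
  have hfin : ∀ X : ModuleCat.{u} R, Pc X → Module.Finite R X := fun X hX => hX.1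
  have hfree : ∀ X : ModuleCat.{u} R, Module.Finite R X → Module.Free R X → Pc X :=
    fun X hf hfr => ⟨hf, by haveI := hfr; infer_instance⟩
  have hEt : ∀ i : ℤ, ∃ X : ModuleCat.{u} R, Pc X ∧
      Nonempty ((R ⧸ I) ⊗[R] X ≃ₗ[R ⧸ I] E.X i) := fun i => by
    haveI := (hEs i).1
    haveI := (hEs i).2
    obtain ⟨N, _, _, _, _, _⟩ := Module.IsStablyFree.exist_free_prod (R ⧸ I) (E.X i)
    obtain ⟨Fm, hFm1, hFm2, ⟨ε⟩⟩ := free_lift I (E.X i × N)
    obtain ⟨Fn, hFn1, hFn2, ⟨θ'⟩⟩ := free_lift I N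
    obtain ⟨K₁, hK₁, -, ⟨Θ⟩⟩ := step I Pc h1 h2 (h3_of_jac I hI Pc hfin) Fm Fn
      (hfree Fm hFm1 hFm2) (hfree Fn hFn1 hFn2) ε θ' (LinearMap.snd (R ⧸ I) (E.X i) N)
      LinearMap.snd_surjective
    exact ⟨K₁, hK₁, ⟨Θ.trans (kerSndEquiv (R ⧸ I) (E.X i) N)⟩⟩
  exact main_jac I hI Pc h1 h2 h2' hfin hfree K hK E b hEb hEt eE

end Groth.Agent.Helper6.LiftHens
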