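import Mathlib
import Groth.Prelude.Def_DRing4
import Groth.Agent.Helper6.LiftCx5
import Groth.Agent.Helper6.PCNilLift
import Groth.Agent.Helper3.DRingResP

/-!
# Lifting complexes of projective modules along a nilpotent thickening
-/

set_option autoImplicit false
set_option linter.style.haveILetI false
set_option linter.unusedSectionVars false

universe u
open CategoryTheory CategoryTheory.Limits Pretriangulated DerivedCategory TensorProduct
attribute [local instance] HasDerivedCategory.standard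

namespace Groth.Agent.Helper6.LiftNil
open Groth.Agent.Helper3.DRingLib Groth.Agent.Helper6.LBCCompute Groth.Agent.Helper6.LiftCx

variable {R : Type u} [CommRing R] (I : Ideal R)

lemma pow_apply_mem (F : Type u) [AddCommGroup F] [Module R F] (v : Module.End R F)
    (hv : ∀ x, v x ∈ I • (⊤ : Submodule R F)) (k : ℕ) (x : F) :
    (v ^ k) x ∈ (I ^ k) • (⊤ : Submodule R F) := by
  induction k generalizing x with
  | zero =>
    rw [pow_zero, Ideal.one_eq_top, Submodule.top_smul]
    trivial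
  | succ k ih =>
    rw [pow_succ' v k]
    show v ((v ^ k) x) ∈ (I ^ (k + 1)) • (⊤ : Submodule R F)
    refine Submodule.smul_induction_on
      (p := fun y => v y ∈ (I ^ (k + 1)) • (⊤ : Submodule R F)) (ih x)
      (fun a ha z _ => ?_) (fun y z hy hz => ?_)
    · show v (a • z) ∈ (I ^ (k + 1)) • (⊤ : Submodule R F)
      rw [map_smul, pow_succ, Submodule.mul_smul]
      exact Submodule.smul_mem_smul ha (hv z)
    · show v (y + z) ∈ (I ^ (k + 1)) • (⊤ : Submodule R F)
      rw [map_add]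
      exact Submodule.add_mem _ hy hz

/-- projective modules lift along nilpotent thickenings -/
theorem proj_lift (hI : IsNilpotent I) (M : Type u) [AddCommGroup M] [Module (R ⧸ I) M]
    [Module.Projective (R ⧸ I) M] :
    ∃ X : ModuleCat.{u} R, Module.Projective R X ∧
      Nonempty ((R ⧸ I) ⊗[R] X ≃ₗ[R ⧸ I] M) := by
  classical
  obtain ⟨n, hn⟩ := hI
  obtain ⟨s, hs⟩ := Module.projective_def'.mp (inferInstance : Module.Projective (R ⧸ I) M)
  have hps : ∀ m, Finsupp.linearCombination (R ⧸ I) id (s m) = m := fun m =>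
    LinearMap.congr_fun hs m
  let τ : (R ⧸ I) ⊗[R] (M →₀ R) ≃ₗ[R ⧸ I] (M →₀ (R ⧸ I)) :=
    TensorProduct.finsuppScalarRight R (R ⧸ I) (R ⧸ I) M
  let eb : Module.End (R ⧸ I) ((R ⧸ I) ⊗[R] (M →₀ R)) :=
    τ.symm.toLinearMap ∘ₗ s ∘ₗ (Finsupp.linearCombination (R ⧸ I) id) ∘ₗ τ.toLinearMap
  have heb_apply : ∀ t, eb t = τ.symm (s (Finsupp.linearCombination (R ⧸ I) id (τ t))) :=
    fun t => rfl
  have heb : IsIdempotentElem eb := by
    apply LinearMap.ext
    intro t
    show eb (eb t) = eb t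
    rw [heb_apply, heb_apply, LinearEquiv.apply_symm_apply, hps]
  obtain ⟨e, he, hfe⟩ := exists_isIdempotentElem_eq_of_ker_isNilpotent
    (R := Module.End R (M →₀ R)) (S := Module.End (R ⧸ I) ((R ⧸ I) ⊗[R] (M →₀ R)))
    (Module.End.baseChangeHom R (R ⧸ I) (M →₀ R)).toRingHom
    (fun v hv => by
      refine ⟨n, ?_⟩
      have hv0 : v.baseChange (R ⧸ I) = 0 := hv
      have hvx : ∀ x, v x ∈ I • (⊤ : Submodule R (M →₀ R)) := fun x => by
        apply mem_smul_top_of_one_tmul
        have h := LinearMap.congr_fun hv0 ((1 : R ⧸ I) ⊗ₜ[R] x)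
        exact h
      apply LinearMap.ext
      intro x
      have h := pow_apply_mem I (M →₀ R) v hvx n x
      rw [hn, Ideal.zero_eq_bot, Submodule.bot_smul] at h
      exact (Submodule.mem_bot R).mp h)
    eb
    (by
      obtain ⟨v, hv⟩ := exists_lTensor_eq I (X := M →₀ R) (Y := M →₀ R) eb
      exact ⟨v, LinearMap.ext fun t => hv t⟩)
    heb
  let ι : LinearMap.range e →ₗ[R] (M →₀ R) := (LinearMap.range e).subtype
  let π : (M →₀ R) →ₗ[R] LinearMap.range e := LinearMap.rangeRestrict e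
  have hπι : π ∘ₗ ι = LinearMap.id := by
    apply LinearMap.ext
    rintro ⟨y, ⟨x, rfl⟩⟩
    apply Subtype.ext
    show e (e x) = e x
    exact LinearMap.congr_fun he.eq x
  have hιπ : ι ∘ₗ π = e := LinearMap.ext fun x => rfl
  haveI : Module.Projective R (LinearMap.range e) := Module.Projective.of_split ι π hπι
  have h1 : ∀ t, (π.lTensor (R ⧸ I)) ((ι.lTensor (R ⧸ I)) t) = t := fun t => by
    rw [← LinearMap.comp_apply, ← LinearMap.lTensor_comp, hπι, LinearMap.lTensor_id,
      LinearMap.id_apply]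
  have h2 : ∀ t, (ι.lTensor (R ⧸ I)) ((π.lTensor (R ⧸ I)) t) = eb t := fun t => by
    rw [← LinearMap.comp_apply, ← LinearMap.lTensor_comp, hιπ]
    exact LinearMap.congr_fun hfe t
  let a : (R ⧸ I) ⊗[R] (LinearMap.range e) →ₗ[R ⧸ I] M :=
    (Finsupp.linearCombination (R ⧸ I) id) ∘ₗ τ.toLinearMap ∘ₗ (ι.baseChange (R ⧸ I))
  let b : M →ₗ[R ⧸ I] (R ⧸ I) ⊗[R] (LinearMap.range e) :=
    (π.baseChange (R ⧸ I)) ∘ₗ τ.symm.toLinearMap ∘ₗ s
  have ha : ∀ t, a t = Finsupp.linearCombination (R ⧸ I) id (τ ((ι.lTensor (R ⧸ I)) t)) :=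
    fun t => rfl
  have hb : ∀ m, b m = (π.lTensor (R ⧸ I)) (τ.symm (s m)) := fun m => rfl
  refine ⟨ModuleCat.of R (LinearMap.range e), ‹_›, ⟨LinearEquiv.ofLinearMap a b ?_ ?_⟩⟩
  · apply LinearMap.ext
    intro m
    show a (b m) = m
    rw [ha, hb, h2, heb_apply, LinearEquiv.apply_symm_apply, LinearEquiv.apply_symm_apply, hps,
      hps]
  · apply LinearMap.ext
    intro t
    show b (a t) = t
    rw [hb, ha, ← heb_apply, ← h2, h1, h1]

/-- **Lifting along nilpotent thickenings** -/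
theorem main (hI : IsNilpotent I) [DRing.HasLBaseChange (algebraMap R (R ⧸ I))] (K : Dual.D R)
    (E : DRing.Cx (R ⧸ I)) (b : ℤ) (hEb : DRing.VanishesAbove E b)
    (hEp : ∀ i : ℤ, Module.Projective (R ⧸ I) (E.X i))
    (eE : DRing.toD E ≅ (DRing.LBaseChange (algebraMap R (R ⧸ I))).obj K) :
    ∃ (P : DRing.Cx R) (b' : ℤ), DRing.VanishesAbove P b' ∧
      (∀ i : ℤ, Module.Projective R (P.X i)) ∧ Nonempty (DRing.toD P ≅ K) ∧
      Nonempty ((bcCxF (algebraMap R (R ⧸ I))).obj P ≅ E) := by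
  let Pc : ObjectProperty (ModuleCat.{u} R) := fun X => Module.Projective R X
  haveI : Pc.IsClosedUnderIsomorphisms := ⟨fun {X Y} e hX => by
    haveI : Module.Projective R X := hX
    exact Module.Projective.of_equiv e.toLinearEquiv⟩
  have h1 : H1 Pc := fun X hX => hX
  have h2 : H2 Pc := fun X Y _ hXY => by
    haveI : Module.Projective R (X × Y) := hXY
    exact Module.Projective.of_split (LinearMap.inr R X Y) (LinearMap.snd R X Y)
      (LinearMap.ext fun y => rfl)
  have h2' : H2' Pc := fun X Y hX hY => by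
    haveI : Module.Projective R X := hX
    haveI : Module.Projective R Y := hY
    exact (inferInstance : Module.Projective R (X × Y))
  have h3 : H3 I Pc := fun X Y f _ _ h => by
    have h' := Groth.Agent.Helper6.PCNilLift.eq_top_of_sup_smul_top I hI
      (LinearMap.range f.hom) h
    exact LinearMap.range_eq_top.mp h'
  haveI := isStrictlyLE_of_vanishesAbove E b hEb
  haveI : (DRing.toD E).IsLE b := inferInstanceAs ((DerivedCategory.Q.obj E).IsLE b)
  haveI : ((DRing.LBaseChange (algebraMap R (R ⧸ I))).obj K).IsLE b :=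
    TStructure.t.isLE_of_iso eE b
  have hker : RingHom.ker (algebraMap R (R ⧸ I)) = I := by
    rw [Ideal.Quotient.algebraMap_eq]
    exact Ideal.mk_ker
  haveI : K.IsLE b := Groth.Agent.Helper6.PCNilLift.isLE_of_isLE_LBaseChange
    (algebraMap R (R ⧸ I)) Ideal.Quotient.mk_surjective (hker.symm ▸ hI) K b inferInstance
  obtain ⟨Q₀, hQv, hQp, ⟨e₀⟩⟩ := exists_projective_rep K b
  have hEt : ∀ i : ℤ, ∃ X : ModuleCat.{u} R, Pc X ∧
      Nonempty ((R ⧸ I) ⊗[R] X ≃ₗ[R ⧸ I] E.X i) := fun i => by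
    haveI := hEp i
    exact proj_lift I hI (E.X i)
  exact exists_lift I Pc h1 h2 h2' h3 K Q₀ b hQv hQp e₀ E b hEb hEt eE

end Groth.Agent.Helper6.LiftNil
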