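import Mathlib
import Groth.Prelude.Def_EtBase
import Groth.Prelude.Def_EtCore
import Groth.Prelude.Def_EtLim

set_option autoImplicit false
set_option linter.style.haveILetI false
set_option linter.unusedSectionVars false
set_option linter.unusedVariables false
set_option linter.unusedSimpArgs false

/-!
# Limit theorem for étale cohomology, part A: coherence toolkit for base change of étale objects

Morphisms into a base-changed object `(bc f).obj V` of the small étale site are determined by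
their composition with the projection to `V`.  Section-wise description of the composition and
congruence isomorphisms of direct images.
-/

namespace Groth.Agent.Helper6.LimCohA

open CategoryTheory CategoryTheory.Limits AlgebraicGeometry Opposite

universe u

variable {X Y Z : Scheme.{u}}

/-- the projection `V ×_Y X ⟶ V` -/
noncomputable abbrev prj (f : X ⟶ Y) (V : Y.Etale) : ((EtCoh.bc f).obj V).left ⟶ V.left :=
  pullback.fst V.hom f

lemma prj_w (f : X ⟶ Y) (V : Y.Etale) :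
    prj f V ≫ V.hom = ((EtCoh.bc f).obj V).hom ≫ f := pullback.condition

lemma bc_obj_hom (f : X ⟶ Y) (V : Y.Etale) :
    ((EtCoh.bc f).obj V).hom = pullback.snd V.hom f := rfl

/-- morphisms into a base change are determined by the projection -/
lemma bc_hom_ext {f : X ⟶ Y} {W : X.Etale} {V : Y.Etale} (a b : W ⟶ (EtCoh.bc f).obj V)
    (h : a.left ≫ prj f V = b.left ≫ prj f V) : a = b := by
  apply MorphismProperty.Over.Hom.ext
  apply pullback.hom_ext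
  · exact h
  · have ha := Over.w a.hom
    have hb := Over.w b.hom
    exact ha.trans hb.symm

lemma bcMap_prj (f : X ⟶ Y) {V V' : Y.Etale} (g : V ⟶ V') :
    ((EtCoh.bc f).map g).left ≫ prj f V' = prj f V ≫ g.left :=
  (EtCoh.isPullback_bc_map f g).w

/-- lifting a morphism to the base change -/
noncomputable def lift (f : X ⟶ Y) {W : X.Etale} {V : Y.Etale} (a : W.left ⟶ V.left)
    (ha : a ≫ V.hom = W.hom ≫ f) : W ⟶ (EtCoh.bc f).obj V :=
  MorphismProperty.Over.homMk (pullback.lift a W.hom ha) (pullback.lift_snd _ _ _) trivial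

@[simp]
lemma lift_prj (f : X ⟶ Y) {W : X.Etale} {V : Y.Etale} (a : W.left ⟶ V.left)
    (ha : a ≫ V.hom = W.hom ≫ f) : (lift f a ha).left ≫ prj f V = a :=
  pullback.lift_fst _ _ _

lemma comp_left {W W' W'' : X.Etale} (a : W ⟶ W') (b : W' ⟶ W'') :
    (a ≫ b).left = a.left ≫ b.left := rfl

lemma hom_w {W W' : X.Etale} (a : W ⟶ W') : a.left ≫ W'.hom = W.hom := Over.w a.hom

/-- the composition isomorphism, object-wise -/
noncomputable abbrev kap (f : X ⟶ Y) (g : Y ⟶ Z) (V : Z.Etale) :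
    (EtCoh.bc (f ≫ g)).obj V ⟶ (EtCoh.bc f).obj ((EtCoh.bc g).obj V) :=
  (MorphismProperty.Over.pullbackComp (P := EtCoh.etaleMP) (Q := ⊤) f g).hom.app V

lemma kap_prj (f : X ⟶ Y) (g : Y ⟶ Z) (V : Z.Etale) :
    (kap f g V).left ≫ prj f ((EtCoh.bc g).obj V) ≫ prj g V = prj (f ≫ g) V :=
  MorphismProperty.Over.pullbackComp_left_fst_fst (P := EtCoh.etaleMP) (Q := ⊤) f g V

instance (f : X ⟶ Y) (g : Y ⟶ Z) (V : Z.Etale) : IsIso (kap f g V) :=
  inferInstanceAs (IsIso (((MorphismProperty.Over.pullbackComp (P := EtCoh.etaleMP) (Q := ⊤)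
    f g).app V).hom))

/-- the congruence morphism, object-wise -/
noncomputable abbrev cng {f f' : X ⟶ Y} (h : f = f') (V : Y.Etale) :
    (EtCoh.bc f).obj V ⟶ (EtCoh.bc f').obj V :=
  (MorphismProperty.Over.pullbackCongr (P := EtCoh.etaleMP) (Q := ⊤) h).hom.app V

lemma cng_prj {f f' : X ⟶ Y} (h : f = f') (V : Y.Etale) :
    (cng h V).left ≫ prj f' V = prj f V :=
  MorphismProperty.Over.pullbackCongr_hom_app_left_fst (P := EtCoh.etaleMP) (Q := ⊤) h V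

instance {f f' : X ⟶ Y} (h : f = f') (V : Y.Etale) : IsIso (cng h V) :=
  inferInstanceAs (IsIso (((MorphismProperty.Over.pullbackCongr (P := EtCoh.etaleMP) (Q := ⊤)
    h).app V).hom))

lemma pushComp_hom_app (f : X ⟶ Y) (g : Z ⟶ X) (N : EtCoh.Ab Z) (V : Y.Etale) :
    ((EtCoh.pushComp f g).hom.app N).hom.app (op V) = N.obj.map (kap g f V).op := rfl

lemma push_map_app (f : X ⟶ Y) {M N : EtCoh.Ab X} (φ : M ⟶ N) (V : Y.Etale) :
    ((EtCoh.push f).map φ).hom.app (op V) = φ.hom.app (op ((EtCoh.bc f).obj V)) := rfl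

lemma push_obj_map (f : X ⟶ Y) (N : EtCoh.Ab X) {V V' : Y.Etale} (g : V ⟶ V') :
    ((EtCoh.push f).obj N).obj.map g.op = N.obj.map ((EtCoh.bc f).map g).op := rfl

/-- the canonical morphism `(V ×_Y X) ×_X Z ⟶ V ×_Y Z` for `g ≫ f = h` -/
noncomputable def kq (f : X ⟶ Y) (g : Z ⟶ X) (h : Z ⟶ Y) (w : g ≫ f = h) (V : Y.Etale) :
    (EtCoh.bc g).obj ((EtCoh.bc f).obj V) ⟶ (EtCoh.bc h).obj V :=
  lift h (prj g ((EtCoh.bc f).obj V) ≫ prj f V) (by
    rw [Category.assoc, prj_w, ← Category.assoc, prj_w, Category.assoc, w])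

@[simp]
lemma kq_prj (f : X ⟶ Y) (g : Z ⟶ X) (h : Z ⟶ Y) (w : g ≫ f = h) (V : Y.Etale) :
    (kq f g h w V).left ≫ prj h V = prj g ((EtCoh.bc f).obj V) ≫ prj f V :=
  lift_prj _ _ _

/-- the underlying morphism of schemes -/
abbrev lf {W W' : X.Etale} (a : W ⟶ W') : W.left ⟶ W'.left := a.left

lemma lf_comp {W W' W'' : X.Etale} (a : W ⟶ W') (b : W' ⟶ W'') : lf (a ≫ b) = lf a ≫ lf b := rfl

lemma lf_id (W : X.Etale) : lf (𝟙 W) = 𝟙 W.left := rfl

lemma kq_eq (f : X ⟶ Y) (g : Z ⟶ X) (h : Z ⟶ Y) (w : g ≫ f = h) (V : Y.Etale) :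
    (MorphismProperty.Over.pullbackComp (P := EtCoh.etaleMP) (Q := ⊤) g f).inv.app V ≫
      (MorphismProperty.Over.pullbackCongr (P := EtCoh.etaleMP) (Q := ⊤) w.symm).inv.app V =
    kq f g h w V := by
  apply bc_hom_ext
  have e1 := kap_prj g f V
  have e2 := cng_prj w.symm V
  have e3 : lf ((MorphismProperty.Over.pullbackComp (P := EtCoh.etaleMP) (Q := ⊤) g f).inv.app V) ≫
      lf (kap g f V) = 𝟙 _ :=
    congrArg lf (Iso.inv_hom_id_app
      (MorphismProperty.Over.pullbackComp (P := EtCoh.etaleMP) (Q := ⊤) g f) V)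
  have e4 : lf ((MorphismProperty.Over.pullbackCongr (P := EtCoh.etaleMP) (Q := ⊤)
      w.symm).inv.app V) ≫ lf (cng w.symm V) = 𝟙 _ :=
    congrArg lf (Iso.inv_hom_id_app
      (MorphismProperty.Over.pullbackCongr (P := EtCoh.etaleMP) (Q := ⊤) w.symm) V)
  have e5 : lf ((MorphismProperty.Over.pullbackCongr (P := EtCoh.etaleMP) (Q := ⊤)
      w.symm).inv.app V) ≫ prj h V = prj (g ≫ f) V := by
    have := congrArg (fun t => t ≫ prj (g ≫ f) V) e4
    simp only [Category.assoc, Category.id_comp] at this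
    rw [← e2]
    exact this
  have e6 : lf ((MorphismProperty.Over.pullbackComp (P := EtCoh.etaleMP) (Q := ⊤) g f).inv.app V) ≫
      prj (g ≫ f) V = prj g ((EtCoh.bc f).obj V) ≫ prj f V := by
    have := congrArg (fun t => t ≫ prj g ((EtCoh.bc f).obj V) ≫ prj f V) e3
    simp only [Category.assoc, Category.id_comp] at this
    rw [← e1]
    exact this
  have e7 := kq_prj f g h w V
  refine Eq.trans ?_ e7.symm
  refine (Category.assoc _ _ _).trans ?_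
  exact (congrArg (fun t => lf ((MorphismProperty.Over.pullbackComp (P := EtCoh.etaleMP) (Q := ⊤)
    g f).inv.app V) ≫ t) e5).trans e6

/-- the canonical morphism `h_* N ⟶ f_* g_* N` for `g ≫ f = h` -/
noncomputable def pk (f : X ⟶ Y) (g : Z ⟶ X) (h : Z ⟶ Y) (w : g ≫ f = h) (N : EtCoh.Ab Z) :
    (EtCoh.push h).obj N ⟶ (EtCoh.push f).obj ((EtCoh.push g).obj N) :=
  (EtCoh.pushCongr w.symm).hom.app N ≫ (EtCoh.pushComp f g).inv.app N

lemma pk_app (f : X ⟶ Y) (g : Z ⟶ X) (h : Z ⟶ Y) (w : g ≫ f = h) (N : EtCoh.Ab Z)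
    (V : Y.Etale) : (pk f g h w N).hom.app (op V) = N.obj.map (kq f g h w V).op := by
  have h1 : (pk f g h w N).hom.app (op V) = N.obj.map
      ((MorphismProperty.Over.pullbackCongr (P := EtCoh.etaleMP) (Q := ⊤) w.symm).inv.app V).op ≫
      N.obj.map ((MorphismProperty.Over.pullbackComp (P := EtCoh.etaleMP) (Q := ⊤)
        g f).inv.app V).op := rfl
  rw [h1]
  refine (N.obj.map_comp _ _).symm.trans ?_
  exact congrArg (fun t => N.obj.map (Quiver.Hom.op t)) (kq_eq f g h w V)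

instance (f : X ⟶ Y) (g : Z ⟶ X) (h : Z ⟶ Y) (w : g ≫ f = h) (N : EtCoh.Ab Z) :
    IsIso (pk f g h w N) := by
  unfold pk
  infer_instance

lemma pk_naturality (f : X ⟶ Y) (g : Z ⟶ X) (h : Z ⟶ Y) (w : g ≫ f = h) {N N' : EtCoh.Ab Z}
    (φ : N ⟶ N') :
    (EtCoh.push h).map φ ≫ pk f g h w N' =
      pk f g h w N ≫ (EtCoh.push f).map ((EtCoh.push g).map φ) := by
  unfold pk
  rw [← Category.assoc, (EtCoh.pushCongr w.symm).hom.naturality φ, Category.assoc, Category.assoc]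
  congr 1
  exact ((EtCoh.pushComp f g).inv.naturality φ)

/-- morphisms into a double base change are determined by the composite projection -/
lemma bc_bc_hom_ext {f : X ⟶ Y} {g : Z ⟶ X} {W : Z.Etale} {V : Y.Etale}
    (a b : W ⟶ (EtCoh.bc g).obj ((EtCoh.bc f).obj V))
    (h : a.left ≫ prj g ((EtCoh.bc f).obj V) ≫ prj f V =
      b.left ≫ prj g ((EtCoh.bc f).obj V) ≫ prj f V) : a = b := by
  apply bc_hom_ext
  apply pullback.hom_ext
  · exact (Category.assoc _ _ _).trans (h.trans (Category.assoc _ _ _).symm)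
  · have e1 : (a.left ≫ prj g ((EtCoh.bc f).obj V)) ≫ ((EtCoh.bc f).obj V).hom = W.hom ≫ g := by
      rw [Category.assoc, prj_w, ← Category.assoc, hom_w]
    have e2 : (b.left ≫ prj g ((EtCoh.bc f).obj V)) ≫ ((EtCoh.bc f).obj V).hom = W.hom ≫ g := by
      rw [Category.assoc, prj_w, ← Category.assoc, hom_w]
    exact e1.trans e2.symm

/-- the canonical morphism of schemes `V ×_Y Z ⟶ V ×_Y X` for `g ≫ f = h` -/
noncomputable def cn (f : X ⟶ Y) (g : Z ⟶ X) (h : Z ⟶ Y) (w : g ≫ f = h) (V : Y.Etale) :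
    ((EtCoh.bc h).obj V).left ⟶ ((EtCoh.bc f).obj V).left :=
  pullback.lift (prj h V) (((EtCoh.bc h).obj V).hom ≫ g) (by rw [prj_w, Category.assoc, w])

@[simp]
lemma cn_prj (f : X ⟶ Y) (g : Z ⟶ X) (h : Z ⟶ Y) (w : g ≫ f = h) (V : Y.Etale) :
    cn f g h w V ≫ prj f V = prj h V := pullback.lift_fst _ _ _

lemma cn_hom (f : X ⟶ Y) (g : Z ⟶ X) (h : Z ⟶ Y) (w : g ≫ f = h) (V : Y.Etale) :
    cn f g h w V ≫ ((EtCoh.bc f).obj V).hom = ((EtCoh.bc h).obj V).hom ≫ g :=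
  pullback.lift_snd _ _ _

/-- the inverse of `kq` -/
noncomputable def tr (f : X ⟶ Y) (g : Z ⟶ X) (h : Z ⟶ Y) (w : g ≫ f = h) (V : Y.Etale) :
    (EtCoh.bc h).obj V ⟶ (EtCoh.bc g).obj ((EtCoh.bc f).obj V) :=
  lift g (cn f g h w V) (cn_hom f g h w V)

@[simp]
lemma tr_prj (f : X ⟶ Y) (g : Z ⟶ X) (h : Z ⟶ Y) (w : g ≫ f = h) (V : Y.Etale) :
    (tr f g h w V).left ≫ prj g ((EtCoh.bc f).obj V) = cn f g h w V := lift_prj _ _ _

lemma tr_kq (f : X ⟶ Y) (g : Z ⟶ X) (h : Z ⟶ Y) (w : g ≫ f = h) (V : Y.Etale) :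
    tr f g h w V ≫ kq f g h w V = 𝟙 _ := by
  apply bc_hom_ext
  show ((tr f g h w V).left ≫ (kq f g h w V).left) ≫ prj h V = lf (𝟙 _) ≫ prj h V
  rw [Category.assoc, kq_prj, ← Category.assoc, tr_prj, cn_prj, lf_id, Category.id_comp]

lemma kq_tr (f : X ⟶ Y) (g : Z ⟶ X) (h : Z ⟶ Y) (w : g ≫ f = h) (V : Y.Etale) :
    kq f g h w V ≫ tr f g h w V = 𝟙 _ := by
  apply bc_bc_hom_ext
  show ((kq f g h w V).left ≫ (tr f g h w V).left) ≫ prj g _ ≫ prj f V =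
    lf (𝟙 _) ≫ prj g _ ≫ prj f V
  rw [Category.assoc, ← Category.assoc (tr f g h w V).left, tr_prj, cn_prj, kq_prj, lf_id,
    Category.id_comp]

lemma tr_naturality (f : X ⟶ Y) (g : Z ⟶ X) (h : Z ⟶ Y) (w : g ≫ f = h) {V V' : Y.Etale}
    (a : V ⟶ V') :
    tr f g h w V ≫ (EtCoh.bc g).map ((EtCoh.bc f).map a) =
      (EtCoh.bc h).map a ≫ tr f g h w V' := by
  apply bc_bc_hom_ext
  show ((tr f g h w V).left ≫ ((EtCoh.bc g).map ((EtCoh.bc f).map a)).left) ≫ prj g _ ≫ prj f V' =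
    (((EtCoh.bc h).map a).left ≫ (tr f g h w V').left) ≫ prj g _ ≫ prj f V'
  rw [Category.assoc, ← Category.assoc ((EtCoh.bc g).map _).left, bcMap_prj, Category.assoc,
    bcMap_prj, ← Category.assoc, ← Category.assoc, tr_prj, cn_prj, Category.assoc,
    ← Category.assoc (tr f g h w V').left, tr_prj, cn_prj, bcMap_prj]

lemma kq_naturality (f : X ⟶ Y) (g : Z ⟶ X) (h : Z ⟶ Y) (w : g ≫ f = h) {V V' : Y.Etale}
    (a : V ⟶ V') :
    (EtCoh.bc g).map ((EtCoh.bc f).map a) ≫ kq f g h w V' =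
      kq f g h w V ≫ (EtCoh.bc h).map a := by
  apply bc_hom_ext
  show (((EtCoh.bc g).map ((EtCoh.bc f).map a)).left ≫ (kq f g h w V').left) ≫ prj h V' =
    ((kq f g h w V).left ≫ ((EtCoh.bc h).map a).left) ≫ prj h V'
  rw [Category.assoc, kq_prj, ← Category.assoc, bcMap_prj, Category.assoc, bcMap_prj,
    Category.assoc, bcMap_prj, ← Category.assoc, ← Category.assoc, kq_prj]

lemma cn_cn {X₁ X₂ X₃ : Scheme.{u}} (f : X₁ ⟶ Y) (g : X₂ ⟶ X₁) (h : X₂ ⟶ Y) (w : g ≫ f = h)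
    (g' : X₃ ⟶ X₂) (h' : X₃ ⟶ Y) (w' : g' ≫ h = h') (V : Y.Etale) :
    cn h g' h' w' V ≫ cn f g h w V =
      cn f (g' ≫ g) h' (by rw [Category.assoc, w, w']) V := by
  apply pullback.hom_ext
  · show (cn h g' h' w' V ≫ cn f g h w V) ≫ prj f V = cn f (g' ≫ g) h' _ V ≫ prj f V
    rw [Category.assoc, cn_prj, cn_prj, cn_prj]
  · show (cn h g' h' w' V ≫ cn f g h w V) ≫ ((EtCoh.bc f).obj V).hom =
      cn f (g' ≫ g) h' _ V ≫ ((EtCoh.bc f).obj V).hom
    rw [Category.assoc, cn_hom, ← Category.assoc, cn_hom, cn_hom, Category.assoc]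

lemma cn_congr (f : X ⟶ Y) {g g' : Z ⟶ X} (hg : g = g') (h : Z ⟶ Y) (w : g ≫ f = h)
    (V : Y.Etale) : cn f g h w V = cn f g' h (hg ▸ w) V := by
  subst hg
  rfl

/-- a morphism over `f` which is compatible with the projections induces the canonical map -/
lemma bcMap_cn (f : X ⟶ Y) (g : Z ⟶ X) (h : Z ⟶ Y) (w : g ≫ f = h) {V V' : Y.Etale}
    (a : V ⟶ V') :
    ((EtCoh.bc h).map a).left ≫ cn f g h w V' = cn f g h w V ≫ ((EtCoh.bc f).map a).left := by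
  apply pullback.hom_ext
  · show (((EtCoh.bc h).map a).left ≫ cn f g h w V') ≫ prj f V' =
      (cn f g h w V ≫ ((EtCoh.bc f).map a).left) ≫ prj f V'
    rw [Category.assoc, cn_prj, bcMap_prj, Category.assoc, bcMap_prj, ← Category.assoc, cn_prj]
  · show (((EtCoh.bc h).map a).left ≫ cn f g h w V') ≫ ((EtCoh.bc f).obj V').hom =
      (cn f g h w V ≫ ((EtCoh.bc f).map a).left) ≫ ((EtCoh.bc f).obj V').hom
    rw [Category.assoc, cn_hom, ← Category.assoc, hom_w, Category.assoc, hom_w, cn_hom]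

lemma cn_kq {X₁ X₂ X₃ : Scheme.{u}} (f : X₁ ⟶ Y) (g : X₂ ⟶ X₁) (h : X₂ ⟶ Y) (w : g ≫ f = h)
    (p' : X₃ ⟶ X₂) (p : X₃ ⟶ X₁) (wp : p' ≫ g = p) (q : X₃ ⟶ Y) (wq : p ≫ f = q)
    (V : Y.Etale) :
    cn g p' p wp ((EtCoh.bc f).obj V) ≫ (kq f g h w V).left =
      (kq f p q wq V).left ≫ cn h p' q (by rw [← w, ← Category.assoc, wp, wq]) V := by
  apply pullback.hom_ext
  · show (cn g p' p wp ((EtCoh.bc f).obj V) ≫ (kq f g h w V).left) ≫ prj h V =
      ((kq f p q wq V).left ≫ cn h p' q _ V) ≫ prj h V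
    rw [Category.assoc, kq_prj, ← Category.assoc, cn_prj, Category.assoc, cn_prj, kq_prj]
  · show (cn g p' p wp ((EtCoh.bc f).obj V) ≫ (kq f g h w V).left) ≫ ((EtCoh.bc h).obj V).hom =
      ((kq f p q wq V).left ≫ cn h p' q _ V) ≫ ((EtCoh.bc h).obj V).hom
    rw [Category.assoc, hom_w, cn_hom, Category.assoc, cn_hom, ← Category.assoc, hom_w]

lemma kq_star {X₁ X₂ X₃ : Scheme.{u}} (f₁ : X₁ ⟶ Y) (f₂ : X₂ ⟶ X₁) (f₁₂ : X₂ ⟶ Y)
    (w : f₂ ≫ f₁ = f₁₂) (p₂ : X₃ ⟶ X₂) (p₁ : X₃ ⟶ X₁) (w₁ : p₂ ≫ f₂ = p₁) (p₀ : X₃ ⟶ Y)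
    (w₀ : p₁ ≫ f₁ = p₀) (U : Y.Etale) {W' : X₁.Etale} (g : W' ⟶ (EtCoh.bc f₁).obj U) :
    kq f₂ p₂ p₁ w₁ W' ≫ (EtCoh.bc p₁).map g ≫ kq f₁ p₁ p₀ w₀ U =
      (EtCoh.bc p₂).map ((EtCoh.bc f₂).map g ≫ kq f₁ f₂ f₁₂ w U) ≫
        kq f₁₂ p₂ p₀ (by rw [← w, ← Category.assoc, w₁, w₀]) U := by
  have w₂ : p₂ ≫ f₁₂ = p₀ := by rw [← w, ← Category.assoc, w₁, w₀]
  apply bc_hom_ext
  show (lf (kq f₂ p₂ p₁ w₁ W') ≫ lf ((EtCoh.bc p₁).map g) ≫ lf (kq f₁ p₁ p₀ w₀ U)) ≫ prj p₀ U =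
    (lf ((EtCoh.bc p₂).map ((EtCoh.bc f₂).map g ≫ kq f₁ f₂ f₁₂ w U)) ≫
      lf (kq f₁₂ p₂ p₀ w₂ U)) ≫ prj p₀ U
  have e1 : (lf (kq f₂ p₂ p₁ w₁ W') ≫ lf ((EtCoh.bc p₁).map g) ≫ lf (kq f₁ p₁ p₀ w₀ U)) ≫
      prj p₀ U = prj p₂ _ ≫ prj f₂ W' ≫ g.left ≫ prj f₁ U := by
    rw [Category.assoc, Category.assoc, kq_prj, ← Category.assoc (lf ((EtCoh.bc p₁).map g)),
      bcMap_prj, Category.assoc, ← Category.assoc, kq_prj, Category.assoc]
  have e2 : (lf ((EtCoh.bc p₂).map ((EtCoh.bc f₂).map g ≫ kq f₁ f₂ f₁₂ w U)) ≫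
      lf (kq f₁₂ p₂ p₀ w₂ U)) ≫ prj p₀ U = prj p₂ _ ≫ prj f₂ W' ≫ g.left ≫ prj f₁ U := by
    rw [Category.assoc, kq_prj, ← Category.assoc, bcMap_prj, Category.assoc]
    congr 1
    show (lf ((EtCoh.bc f₂).map g) ≫ lf (kq f₁ f₂ f₁₂ w U)) ≫ prj f₁₂ U = _
    rw [Category.assoc, kq_prj, ← Category.assoc, bcMap_prj, Category.assoc]
  exact e1.trans e2.symm

end Groth.Agent.Helper6.LimCohA
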