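import Mathlib
import Groth.Prelude.Def_EtBase
import Groth.Prelude.Def_EtCore
import Groth.Prelude.Def_EtLim
import Groth.Agent.Helper6.LimCohA

set_option autoImplicit false
set_option linter.style.haveILetI false
set_option linter.unusedSectionVars false
set_option linter.unusedVariables false
set_option linter.unusedSimpArgs false

/-!
# Limit theorem for étale cohomology, part B: systems of sheaves in direct-image form

Restriction of sections along morphisms of schemes lying over a morphism of base schemes, the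
cocycle condition, (lax) systems of abelian sheaves along an inverse system of schemes, cones over
them and the colimit property.
-/

namespace Groth.Agent.Helper6.LimCohB

open CategoryTheory CategoryTheory.Limits AlgebraicGeometry Opposite
open Groth.Agent.Helper6.LimCohA

universe u

section Res

variable {Y Y' Y'' : Scheme.{u}}

/-- a morphism `r : F ⟶ f_* F'` on sections, with the target written in terms of `F'` -/
noncomputable def rapp (f : Y' ⟶ Y) {F : EtCoh.Ab Y} {F' : EtCoh.Ab Y'}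
    (r : F ⟶ (EtCoh.push f).obj F') (V : Y.Etale) :
    F.obj.obj (op V) ⟶ F'.obj.obj (op ((EtCoh.bc f).obj V)) :=
  r.hom.app (op V)

lemma rapp_naturality (f : Y' ⟶ Y) {F : EtCoh.Ab Y} {F' : EtCoh.Ab Y'}
    (r : F ⟶ (EtCoh.push f).obj F') {V₁ V₂ : Y.Etale} (g : V₁ ⟶ V₂) :
    F.obj.map g.op ≫ rapp f r V₁ = rapp f r V₂ ≫ F'.obj.map ((EtCoh.bc f).map g).op :=
  r.hom.naturality g.op

lemma rapp_comp (f : Y' ⟶ Y) {F G : EtCoh.Ab Y} {F' : EtCoh.Ab Y'} (φ : G ⟶ F)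
    (r : F ⟶ (EtCoh.push f).obj F') (V : Y.Etale) :
    rapp f (φ ≫ r) V = φ.hom.app (op V) ≫ rapp f r V := rfl

lemma rapp_comp_push (f : Y' ⟶ Y) {F : EtCoh.Ab Y} {F' G' : EtCoh.Ab Y'}
    (r : F ⟶ (EtCoh.push f).obj F') (φ' : F' ⟶ G') (V : Y.Etale) :
    rapp f (r ≫ (EtCoh.push f).map φ') V = rapp f r V ≫ φ'.hom.app (op ((EtCoh.bc f).obj V)) :=
  rfl

lemma rapp_ext (f : Y' ⟶ Y) {F : EtCoh.Ab Y} {F' : EtCoh.Ab Y'}
    {r r' : F ⟶ (EtCoh.push f).obj F'} (h : ∀ V, rapp f r V = rapp f r' V) : r = r' := by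
  apply Sheaf.hom_ext
  ext ⟨V⟩ : 2
  exact h V

/-- restriction of sections along a morphism of schemes `a : V' ⟶ V` over `f : Y' ⟶ Y`, for a
morphism of sheaves `r : F ⟶ f_* F'` -/
noncomputable def res (f : Y' ⟶ Y) {F : EtCoh.Ab Y} {F' : EtCoh.Ab Y'}
    (r : F ⟶ (EtCoh.push f).obj F') {V : Y.Etale} {V' : Y'.Etale} (a : V'.left ⟶ V.left)
    (ha : a ≫ V.hom = V'.hom ≫ f) : F.obj.obj (op V) ⟶ F'.obj.obj (op V') :=
  rapp f r V ≫ F'.obj.map (lift f a ha).op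

lemma lift_prj_eq_id (f : Y' ⟶ Y) (V : Y.Etale) : lift f (prj f V) (prj_w f V) = 𝟙 _ := by
  apply bc_hom_ext
  rw [lift_prj]
  exact (Category.id_comp _).symm

lemma res_prj (f : Y' ⟶ Y) {F : EtCoh.Ab Y} {F' : EtCoh.Ab Y'}
    (r : F ⟶ (EtCoh.push f).obj F') (V : Y.Etale) :
    res f r (prj f V) (prj_w f V) = rapp f r V := by
  unfold res
  rw [lift_prj_eq_id, op_id, F'.obj.map_id]
  exact Category.comp_id _

lemma lift_comp_bcMap (f : Y' ⟶ Y) {V₁ V₂ : Y.Etale} {V' : Y'.Etale} (g : V₁ ⟶ V₂)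
    (a : V'.left ⟶ V₁.left) (ha : a ≫ V₁.hom = V'.hom ≫ f) :
    lift f a ha ≫ (EtCoh.bc f).map g =
      lift f (a ≫ g.left) (by rw [Category.assoc, hom_w, ha]) := by
  apply bc_hom_ext
  rw [lift_prj]
  show ((lift f a ha).left ≫ ((EtCoh.bc f).map g).left) ≫ prj f V₂ = _
  rw [Category.assoc, bcMap_prj, ← Category.assoc, lift_prj]

lemma comp_lift (f : Y' ⟶ Y) {V : Y.Etale} {V'₁ V'₂ : Y'.Etale} (g' : V'₁ ⟶ V'₂)
    (a : V'₂.left ⟶ V.left) (ha : a ≫ V.hom = V'₂.hom ≫ f) :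
    g' ≫ lift f a ha = lift f (g'.left ≫ a) (by rw [Category.assoc, ha, ← Category.assoc, hom_w]) := by
  apply bc_hom_ext
  rw [lift_prj]
  show (g'.left ≫ (lift f a ha).left) ≫ prj f V = _
  rw [Category.assoc, lift_prj]

lemma map_res (f : Y' ⟶ Y) {F : EtCoh.Ab Y} {F' : EtCoh.Ab Y'}
    (r : F ⟶ (EtCoh.push f).obj F') {V₁ V₂ : Y.Etale} {V' : Y'.Etale} (g : V₁ ⟶ V₂)
    (a : V'.left ⟶ V₁.left) (ha : a ≫ V₁.hom = V'.hom ≫ f) :
    F.obj.map g.op ≫ res f r a ha =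
      res f r (a ≫ g.left) (by rw [Category.assoc, hom_w, ha]) := by
  unfold res
  rw [← Category.assoc, rapp_naturality, Category.assoc, ← F'.obj.map_comp, ← op_comp,
    lift_comp_bcMap]

lemma res_map (f : Y' ⟶ Y) {F : EtCoh.Ab Y} {F' : EtCoh.Ab Y'}
    (r : F ⟶ (EtCoh.push f).obj F') {V : Y.Etale} {V'₁ V'₂ : Y'.Etale} (g' : V'₁ ⟶ V'₂)
    (a : V'₂.left ⟶ V.left) (ha : a ≫ V.hom = V'₂.hom ≫ f) :
    res f r a ha ≫ F'.obj.map g'.op =
      res f r (g'.left ≫ a) (by rw [Category.assoc, ha, ← Category.assoc, hom_w]) := by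
  unfold res
  rw [Category.assoc, ← F'.obj.map_comp, ← op_comp, comp_lift]

lemma res_congr (f : Y' ⟶ Y) {F : EtCoh.Ab Y} {F' : EtCoh.Ab Y'}
    (r : F ⟶ (EtCoh.push f).obj F') {V : Y.Etale} {V' : Y'.Etale} {a b : V'.left ⟶ V.left}
    (hab : a = b) (ha : a ≫ V.hom = V'.hom ≫ f) :
    res f r a ha = res f r b (hab ▸ ha) := by
  subst hab
  rfl

/-- the cocycle condition for morphisms `r : F ⟶ f_* F'`, `r' : F' ⟶ g_* F''`,
`r'' : F ⟶ h_* F''` with `g ≫ f = h` -/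
def Cocycle (f : Y' ⟶ Y) (g : Y'' ⟶ Y') (h : Y'' ⟶ Y) (w : g ≫ f = h) {F : EtCoh.Ab Y}
    {F' : EtCoh.Ab Y'} {F'' : EtCoh.Ab Y''} (r : F ⟶ (EtCoh.push f).obj F')
    (r' : F' ⟶ (EtCoh.push g).obj F'') (r'' : F ⟶ (EtCoh.push h).obj F'') : Prop :=
  r ≫ (EtCoh.push f).map r' = r'' ≫ pk f g h w F''

lemma Cocycle.app {f : Y' ⟶ Y} {g : Y'' ⟶ Y'} {h : Y'' ⟶ Y} {w : g ≫ f = h} {F : EtCoh.Ab Y}
    {F' : EtCoh.Ab Y'} {F'' : EtCoh.Ab Y''} {r : F ⟶ (EtCoh.push f).obj F'}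
    {r' : F' ⟶ (EtCoh.push g).obj F''} {r'' : F ⟶ (EtCoh.push h).obj F''}
    (hc : Cocycle f g h w r r' r'') (V : Y.Etale) :
    rapp f r V ≫ rapp g r' ((EtCoh.bc f).obj V) =
      rapp h r'' V ≫ F''.obj.map (kq f g h w V).op := by
  have h1 := congrArg (fun t => t.hom.app (op V)) hc
  have h2 : (pk f g h w F'').hom.app (op V) = F''.obj.map (kq f g h w V).op := pk_app f g h w F'' V
  exact h1.trans (congrArg (fun t => r''.hom.app (op V) ≫ t) h2)

lemma cocycle_of_app {f : Y' ⟶ Y} {g : Y'' ⟶ Y'} {h : Y'' ⟶ Y} {w : g ≫ f = h} {F : EtCoh.Ab Y}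
    {F' : EtCoh.Ab Y'} {F'' : EtCoh.Ab Y''} {r : F ⟶ (EtCoh.push f).obj F'}
    {r' : F' ⟶ (EtCoh.push g).obj F''} {r'' : F ⟶ (EtCoh.push h).obj F''}
    (hc : ∀ V : Y.Etale, rapp f r V ≫ rapp g r' ((EtCoh.bc f).obj V) =
      rapp h r'' V ≫ F''.obj.map (kq f g h w V).op) : Cocycle f g h w r r' r'' := by
  apply Sheaf.hom_ext
  ext ⟨V⟩ : 2
  have h2 : (pk f g h w F'').hom.app (op V) = F''.obj.map (kq f g h w V).op := pk_app f g h w F'' V
  exact (hc V).trans (congrArg (fun t => r''.hom.app (op V) ≫ t) h2).symm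

/-- restrictions compose -/
lemma res_res {f : Y' ⟶ Y} {g : Y'' ⟶ Y'} {h : Y'' ⟶ Y} {w : g ≫ f = h} {F : EtCoh.Ab Y}
    {F' : EtCoh.Ab Y'} {F'' : EtCoh.Ab Y''} {r : F ⟶ (EtCoh.push f).obj F'}
    {r' : F' ⟶ (EtCoh.push g).obj F''} {r'' : F ⟶ (EtCoh.push h).obj F''}
    (hc : Cocycle f g h w r r' r'') {V : Y.Etale} {V' : Y'.Etale} {V'' : Y''.Etale}
    (a : V'.left ⟶ V.left) (ha : a ≫ V.hom = V'.hom ≫ f)
    (b : V''.left ⟶ V'.left) (hb : b ≫ V'.hom = V''.hom ≫ g) :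
    res f r a ha ≫ res g r' b hb =
      res h r'' (b ≫ a) (by rw [Category.assoc, ha, ← Category.assoc, hb, Category.assoc, w]) := by
  have h1 := rapp_naturality g r' (lift f a ha)
  have h2 := hc.app V
  have h3 : lift g b hb ≫ (EtCoh.bc g).map (lift f a ha) ≫ kq f g h w V =
      lift h (b ≫ a) (by
        rw [Category.assoc, ha, ← Category.assoc, hb, Category.assoc, w]) := by
    apply bc_hom_ext
    rw [lift_prj]
    show ((lift g b hb).left ≫ ((EtCoh.bc g).map (lift f a ha)).left ≫ (kq f g h w V).left) ≫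
      prj h V = _
    rw [Category.assoc, Category.assoc, kq_prj, ← Category.assoc ((EtCoh.bc g).map _).left,
      bcMap_prj, Category.assoc, lift_prj, ← Category.assoc, lift_prj]
  unfold res
  calc (rapp f r V ≫ F'.obj.map (lift f a ha).op) ≫
        rapp g r' V' ≫ F''.obj.map (lift g b hb).op
      = rapp f r V ≫ (F'.obj.map (lift f a ha).op ≫ rapp g r' V') ≫
          F''.obj.map (lift g b hb).op := by simp only [Category.assoc]
    _ = (rapp f r V ≫ rapp g r' ((EtCoh.bc f).obj V)) ≫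
          F''.obj.map ((EtCoh.bc g).map (lift f a ha)).op ≫ F''.obj.map (lift g b hb).op := by
        rw [h1]; simp only [Category.assoc]
    _ = rapp h r'' V ≫ F''.obj.map (kq f g h w V).op ≫
          F''.obj.map ((EtCoh.bc g).map (lift f a ha)).op ≫ F''.obj.map (lift g b hb).op := by
        rw [h2]; simp only [Category.assoc]
    _ = _ := by
        congr 1
        rw [← F''.obj.map_comp, ← F''.obj.map_comp, ← op_comp, ← op_comp, Category.assoc, h3]

end Res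

section Sys

variable {ι : Type u} [Preorder ι] (Xs : ιᵒᵖ ⥤ Scheme.{u}) (c : Cone Xs)

/-- the transition morphism `X_j ⟶ X_i` -/
abbrev fm {i j : ι} (h : i ≤ j) : Xs.obj (op j) ⟶ Xs.obj (op i) := Xs.map (homOfLE h).op

lemma fm_comp {i j k : ι} (hij : i ≤ j) (hjk : j ≤ k) :
    fm Xs hjk ≫ fm Xs hij = fm Xs (hij.trans hjk) := by
  rw [← Functor.map_comp]
  rfl

/-- the projection `X ⟶ X_i` -/
abbrev pm (i : ι) : c.pt ⟶ Xs.obj (op i) := c.π.app (op i)

lemma pm_comp {i j : ι} (hij : i ≤ j) : pm Xs c j ≫ fm Xs hij = pm Xs c i :=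
  c.w (homOfLE hij).op

/-- a (lax) system of abelian étale sheaves along the inverse system, in direct-image form -/
structure PSys where
  /-- the sheaves -/
  F : ∀ i : ι, EtCoh.Ab (Xs.obj (op i))
  /-- the transition morphisms -/
  r : ∀ {i j : ι} (h : i ≤ j), F i ⟶ (EtCoh.push (fm Xs h)).obj (F j)
  coc : ∀ {i j k : ι} (hij : i ≤ j) (hjk : j ≤ k),
    Cocycle (fm Xs hij) (fm Xs hjk) (fm Xs (hij.trans hjk)) (fm_comp Xs hij hjk)
      (r hij) (r hjk) (r (hij.trans hjk))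

variable {Xs}

/-- a cone under a system: a sheaf on the limit with compatible morphisms -/
structure PCone (S : PSys Xs) where
  /-- the vertex -/
  pt : EtCoh.Ab c.pt
  /-- the legs -/
  ρ : ∀ i : ι, S.F i ⟶ (EtCoh.push (pm Xs c i)).obj pt
  coc : ∀ {i j : ι} (hij : i ≤ j),
    Cocycle (fm Xs hij) (pm Xs c j) (pm Xs c i) (pm_comp Xs c hij) (S.r hij) (ρ j) (ρ i)

variable {c}

/-- the colimit property -/
def PCone.IsColim {S : PSys Xs} (C : PCone c S) : Prop :=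
  ∀ D : PCone c S, ∃! ν : C.pt ⟶ D.pt, ∀ i, C.ρ i ≫ (EtCoh.push (pm Xs c i)).map ν = D.ρ i

/-- a morphism of systems -/
structure PSys.Hom (S T : PSys Xs) where
  /-- the components -/
  φ : ∀ i : ι, S.F i ⟶ T.F i
  comm : ∀ {i j : ι} (h : i ≤ j), S.r h ≫ (EtCoh.push (fm Xs h)).map (φ j) = φ i ≫ T.r h

/-- a morphism of cones over a morphism of systems -/
structure PCone.Hom {S T : PSys Xs} (g : PSys.Hom S T) (C : PCone c S) (D : PCone c T) where
  /-- the morphism of vertices -/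
  ν : C.pt ⟶ D.pt
  comm : ∀ i : ι, C.ρ i ≫ (EtCoh.push (pm Xs c i)).map ν = g.φ i ≫ D.ρ i

end Sys

end Groth.Agent.Helper6.LimCohB
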