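import Mathlib
import Groth.Prelude.Def_EtBase
import Groth.Prelude.Def_EtCore
import Groth.Prelude.Def_EtLim
import Groth.Agent.Helper6.LimCohA
import Groth.Agent.Helper4.EtGeom

set_option autoImplicit false
set_option linter.style.haveILetI false
set_option linter.unusedSectionVars false
set_option linter.unusedVariables false
set_option linter.unusedSimpArgs false

/-!
# Limit theorem for étale cohomology, part C: images of points of the small étale site

A point of the small étale site of `X` induces a point of the small étale site of `Y` for any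
morphism `f : X ⟶ Y`.
-/

namespace Groth.Agent.Helper6.LimCohC

open CategoryTheory CategoryTheory.Limits AlgebraicGeometry Opposite
open Groth.Agent.Helper6.LimCohA

universe u

variable {X Y : Scheme.{u}}

set_option backward.isDefEq.respectTransparency.types false in
instance initiallySmall_bc (f : X ⟶ Y) (Φ : GrothendieckTopology.Point.{u} X.smallEtaleTopology) :
    InitiallySmall.{u} (EtCoh.bc f ⋙ Φ.fiber).Elements := by
  refine initiallySmall_of_essentiallySmall_weakly_initial_objectProperty
    (Functor.Elements.precomp (Scheme.AffineEtale.Spec Y) (EtCoh.bc f ⋙ Φ.fiber)).essImage ?_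
  rintro ⟨V, x⟩
  -- the Zariski covering of `V` by affine opens
  let κ : Type (u + 1) := Σ R : CommRingCat.{u}, { j : Spec R ⟶ V.left // IsOpenImmersion j }
  let W : κ → Y.Etale := fun k =>
    haveI : IsOpenImmersion k.2.1 := k.2.2
    Scheme.Etale.mk (k.2.1 ≫ V.hom)
  let g : ∀ k, W k ⟶ V := fun k => MorphismProperty.Over.homMk k.2.1 rfl trivial
  have hcov : Sieve.ofArrows W g ∈ Y.smallEtaleTopology V := by
    apply Groth.Agent.Helper4.EtGeom.ofArrows_mem
    intro v
    obtain ⟨R, j, hj, hv, -⟩ := Scheme.exists_affine_mem_range_and_range_subset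
      (x := v) (U := ⊤) (by simp)
    obtain ⟨w, hw⟩ := hv
    exact ⟨⟨R, j, hj⟩, w, hw⟩
  obtain ⟨Z, a, ⟨V', b, h, hb, rfl⟩, z, rfl⟩ := Φ.jointly_surjective _
    ((EtCoh.coverPreserving_bc f).cover_preserve hcov) x
  obtain ⟨k, e, rfl⟩ := (Sieve.mem_ofArrows_iff _ _ _).1 hb
  obtain ⟨R, j, hj⟩ := k
  haveI : IsOpenImmersion j := hj
  refine ⟨Functor.elementsMk _ (W ⟨R, j, hj⟩)
    (Φ.fiber.map (h ≫ (EtCoh.bc f).map e) z), ?_, ⟨⟨g ⟨R, j, hj⟩, ?_⟩⟩⟩
  · exact ⟨Functor.elementsMk _ (Scheme.AffineEtale.mk (j ≫ V.hom))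
      (Φ.fiber.map (h ≫ (EtCoh.bc f).map e) z), ⟨Iso.refl _⟩⟩
  · simp only [Functor.comp_map, Functor.map_comp, types_comp_apply]

/-- the image of a point of the small étale site -/
noncomputable def pt (f : X ⟶ Y) (Φ : GrothendieckTopology.Point.{u} X.smallEtaleTopology) :
    GrothendieckTopology.Point.{u} Y.smallEtaleTopology :=
  Φ.comap (EtCoh.bc f) (EtCoh.coverPreserving_bc f)

lemma pt_fiber_obj (f : X ⟶ Y) (Φ : GrothendieckTopology.Point.{u} X.smallEtaleTopology)
    (V : Y.Etale) : (pt f Φ).fiber.obj V = Φ.fiber.obj ((EtCoh.bc f).obj V) := rfl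

end Groth.Agent.Helper6.LimCohC
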