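import Mathlib
import Groth.Prelude.Def_EtBase
import Groth.Prelude.Def_EtCore
import Groth.Prelude.Def_EtLim
import Groth.Agent.Helper6.LimCohA
import Groth.Agent.Helper6.LimCohB
import Groth.Agent.Helper6.LimCohC

set_option autoImplicit false
set_option linter.style.haveILetI false
set_option linter.unusedSectionVars false
set_option linter.unusedVariables false
set_option linter.unusedSimpArgs false

/-!
# Limit theorem for étale cohomology, part D: the stalks of a colimit of a system of sheaves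

For a system of sheaves `F_i` on `X_i` with a colimit cone `(F̂, ρ)` on `X = lim X_i` and a point
`Φ` of the small étale site of `X`: a section of `F_i` whose image in `F̂` vanishes has vanishing
germ at the image of `Φ` at some later stage.
-/

namespace Groth.Agent.Helper6.LimCohD

open CategoryTheory CategoryTheory.Limits AlgebraicGeometry Opposite
open Groth.Agent.Helper6.LimCohA Groth.Agent.Helper6.LimCohB Groth.Agent.Helper6.LimCohC

universe u

instance preservesFilteredColimits_forget_ab :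
    PreservesFilteredColimitsOfSize.{u, u} (forget AddCommGrpCat.{u + 1}) :=
  preservesFilteredColimitsOfSize_shrink.{u, u + 1, u, u + 1} _

variable {ι : Type u} [Preorder ι] {Xs : ιᵒᵖ ⥤ Scheme.{u}} {c : Cone Xs}
  (S : PSys Xs) (Φ : GrothendieckTopology.Point.{u} c.pt.smallEtaleTopology)

/-- the image of the point in `X_l` -/
noncomputable abbrev Φl (l : ι) :
    GrothendieckTopology.Point.{u} (Xs.obj (op l)).smallEtaleTopology :=
  pt (pm Xs c l) Φ

/-- the stalk of `F_l` at the image of the point -/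
noncomputable abbrev St (l : ι) : AddCommGrpCat.{u + 1} :=
  (Φl Φ l).presheafFiber.obj (S.F l).obj

/-- the germ map -/
noncomputable abbrev gm (l : ι) (V : (Xs.obj (op l)).Etale)
    (y : Φ.fiber.obj ((EtCoh.bc (pm Xs c l)).obj V)) : (S.F l).obj.obj (op V) ⟶ St S Φ l :=
  (Φl Φ l).toPresheafFiber V y (S.F l).obj

lemma gm_w (l : ι) {V V' : (Xs.obj (op l)).Etale} (g : V ⟶ V')
    (y : Φ.fiber.obj ((EtCoh.bc (pm Xs c l)).obj V)) :
    (S.F l).obj.map g.op ≫ gm S Φ l V y =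
      gm S Φ l V' (Φ.fiber.map ((EtCoh.bc (pm Xs c l)).map g) y) :=
  (Φl Φ l).toPresheafFiber_w g y (S.F l).obj

/-- the transport of a fibre element along `i ≤ l` -/
noncomputable abbrev trf {i l : ι} (h : i ≤ l) (V : (Xs.obj (op i)).Etale)
    (y : Φ.fiber.obj ((EtCoh.bc (pm Xs c i)).obj V)) :
    Φ.fiber.obj ((EtCoh.bc (pm Xs c l)).obj ((EtCoh.bc (fm Xs h)).obj V)) :=
  Φ.fiber.map (tr (fm Xs h) (pm Xs c l) (pm Xs c i) (pm_comp Xs c h) V) y

lemma fiber_map_comp {W W' W'' : c.pt.Etale} (a : W ⟶ W') (b : W' ⟶ W'') (y : Φ.fiber.obj W) :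
    Φ.fiber.map b (Φ.fiber.map a y) = Φ.fiber.map (a ≫ b) y := by
  rw [Functor.map_comp]
  rfl

/-- the transition map on stalks -/
noncomputable def T {i l : ι} (h : i ≤ l) : St S Φ i ⟶ St S Φ l :=
  (Φl Φ i).presheafFiberDesc
    (fun V y => rapp (fm Xs h) (S.r h) V ≫ gm S Φ l ((EtCoh.bc (fm Xs h)).obj V) (trf Φ h V y))
    (by
      intro V V' g y
      rw [← Category.assoc, rapp_naturality, Category.assoc, gm_w]
      congr 2
      show Φ.fiber.map _ (Φ.fiber.map _ y) = Φ.fiber.map _ (Φ.fiber.map _ y)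
      rw [fiber_map_comp, fiber_map_comp, tr_naturality])

lemma gm_T {i l : ι} (h : i ≤ l) (V : (Xs.obj (op i)).Etale)
    (y : Φ.fiber.obj ((EtCoh.bc (pm Xs c i)).obj V)) :
    gm S Φ i V y ≫ T S Φ h =
      rapp (fm Xs h) (S.r h) V ≫ gm S Φ l ((EtCoh.bc (fm Xs h)).obj V) (trf Φ h V y) :=
  (Φl Φ i).toPresheafFiber_presheafFiberDesc _ _ V y

lemma tr_tr_kq {i j l : ι} (hij : i ≤ j) (hjl : j ≤ l) (V : (Xs.obj (op i)).Etale) :
    tr (fm Xs hij) (pm Xs c j) (pm Xs c i) (pm_comp Xs c hij) V ≫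
      tr (fm Xs hjl) (pm Xs c l) (pm Xs c j) (pm_comp Xs c hjl) ((EtCoh.bc (fm Xs hij)).obj V) ≫
      (EtCoh.bc (pm Xs c l)).map (kq (fm Xs hij) (fm Xs hjl) (fm Xs (hij.trans hjl))
        (fm_comp Xs hij hjl) V) =
    tr (fm Xs (hij.trans hjl)) (pm Xs c l) (pm Xs c i) (pm_comp Xs c (hij.trans hjl)) V := by
  apply bc_bc_hom_ext
  show (lf _ ≫ lf _ ≫ lf _) ≫ _ = _
  simp only [Category.assoc]
  rw [← Category.assoc (lf ((EtCoh.bc (pm Xs c l)).map _)), bcMap_prj]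
  simp only [Category.assoc]
  rw [kq_prj, ← Category.assoc (lf (tr (fm Xs hjl) _ _ _ _)), tr_prj]
  rw [← Category.assoc (cn _ _ _ _ _), cn_prj, ← Category.assoc, tr_prj, cn_prj,
    ← Category.assoc, tr_prj, cn_prj]

lemma T_T {i j l : ι} (hij : i ≤ j) (hjl : j ≤ l) :
    T S Φ hij ≫ T S Φ hjl = T S Φ (hij.trans hjl) := by
  apply (Φl Φ i).presheafFiber_hom_ext
  intro V y
  have h1 := (S.coc hij hjl).app V
  rw [← Category.assoc, gm_T, Category.assoc, gm_T, ← Category.assoc, h1, Category.assoc, gm_w,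
    gm_T]
  congr 2
  show Φ.fiber.map _ (Φ.fiber.map _ (Φ.fiber.map _ y)) = Φ.fiber.map _ y
  rw [fiber_map_comp, fiber_map_comp]
  exact congrArg (fun t => Φ.fiber.map t y) (tr_tr_kq hij hjl V)

section Quot

variable [IsDirected ι (· ≤ ·)] [Nonempty ι]

/-- the eventually vanishing families of germs -/
def E : AddSubgroup (∀ l : ι, St S Φ l) where
  carrier := {x | ∃ l₀ : ι, ∀ l, l₀ ≤ l → x l = 0}
  zero_mem' := ⟨Classical.arbitrary ι, fun _ _ => rfl⟩
  add_mem' := by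
    rintro x y ⟨l₁, h₁⟩ ⟨l₂, h₂⟩
    obtain ⟨l₀, h₁₀, h₂₀⟩ := exists_ge_ge l₁ l₂
    refine ⟨l₀, fun l hl => ?_⟩
    rw [Pi.add_apply, h₁ l (h₁₀.trans hl), h₂ l (h₂₀.trans hl), add_zero]
  neg_mem' := by
    rintro x ⟨l₁, h₁⟩
    exact ⟨l₁, fun l hl => by rw [Pi.neg_apply, h₁ l hl, neg_zero]⟩

open Classical in
/-- the family of images of a germ at the later stages -/
noncomputable def fam (i : ι) : St S Φ i →+ ∀ l : ι, St S Φ l :=
  AddMonoidHom.mk' (fun g l => if h : i ≤ l then T S Φ h g else 0) (by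
    intro g g'
    funext l
    by_cases h : i ≤ l
    · simp only [h, dite_true, Pi.add_apply, map_add]
    · simp only [h, dite_false, Pi.add_apply, add_zero])

lemma fam_apply (i : ι) (g : St S Φ i) {l : ι} (h : i ≤ l) : fam S Φ i g l = T S Φ h g := by
  simp only [fam, AddMonoidHom.mk'_apply, h, dite_true]

/-- the group of families of germs modulo the eventually vanishing ones -/
noncomputable abbrev NN : AddCommGrpCat.{u + 1} :=
  AddCommGrpCat.of ((∀ l : ι, St S Φ l) ⧸ E S Φ)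

/-- the class of the family of images of a germ -/
noncomputable def mm (i : ι) : St S Φ i ⟶ NN S Φ :=
  AddCommGrpCat.ofHom ((QuotientAddGroup.mk' (E S Φ)).comp (fam S Φ i))

lemma T_mm {i j : ι} (h : i ≤ j) : T S Φ h ≫ mm S Φ j = mm S Φ i := by
  ext g
  show QuotientAddGroup.mk' (E S Φ) (fam S Φ j (T S Φ h g)) =
    QuotientAddGroup.mk' (E S Φ) (fam S Φ i g)
  rw [QuotientAddGroup.mk'_eq_mk']
  refine ⟨fam S Φ i g - fam S Φ j (T S Φ h g), ⟨j, fun l hl => ?_⟩, by abel⟩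
  rw [Pi.sub_apply, fam_apply S Φ i g (h.trans hl), fam_apply S Φ j _ hl, ← T_T S Φ h hl]
  exact sub_self _

lemma mm_eq_zero (i : ι) (g : St S Φ i) (hg : mm S Φ i g = 0) :
    ∃ (l : ι) (h : i ≤ l), T S Φ h g = 0 := by
  have h1 : fam S Φ i g ∈ E S Φ := (QuotientAddGroup.eq_zero_iff _).1 hg
  obtain ⟨l₀, h₀⟩ := h1
  obtain ⟨l, hil, hl⟩ := exists_ge_ge i l₀
  exact ⟨l, hil, by rw [← fam_apply S Φ i g hil]; exact h₀ l hl⟩

end Quot

section Sky

/-- the morphism `F_i ⟶ p_{i*}` (skyscraper sheaf) attached to a map on the stalk -/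
noncomputable def toSky (i : ι) {A : AddCommGrpCat.{u + 1}} (m : St S Φ i ⟶ A) :
    S.F i ⟶ (EtCoh.push (pm Xs c i)).obj (Φ.skyscraperSheaf A) :=
  ObjectProperty.homMk ((Φl Φ i).skyscraperPresheafHomEquiv m)

/-- the projection of the sections of a skyscraper sheaf to the component of a fibre element -/
noncomputable abbrev skπ (A : AddCommGrpCat.{u + 1}) (W : c.pt.Etale) (y : Φ.fiber.obj W) :
    (Φ.skyscraperSheaf A).obj.obj (op W) ⟶ A :=
  Pi.π (fun (_ : Φ.fiber.obj W) => A) y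

lemma rapp_toSky_π (i : ι) {A : AddCommGrpCat.{u + 1}} (m : St S Φ i ⟶ A)
    (V : (Xs.obj (op i)).Etale) (y : Φ.fiber.obj ((EtCoh.bc (pm Xs c i)).obj V)) :
    rapp (pm Xs c i) (toSky S Φ i m) V ≫ skπ Φ A _ y = gm S Φ i V y ≫ m :=
  (Φl Φ i).skyscraperPresheafHomEquiv_app_π m V y

lemma sky_map_π (A : AddCommGrpCat.{u + 1}) {W W' : c.pt.Etale} (g : W ⟶ W')
    (y : Φ.fiber.obj W) :
    (Φ.skyscraperSheaf A).obj.map g.op ≫ skπ Φ A W y = skπ Φ A W' (Φ.fiber.map g y) := by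
  refine (Pi.map'_comp_π (f := fun (_ : Φ.fiber.obj W') => A) (g := fun (_ : Φ.fiber.obj W) => A)
    (fun (y : Φ.fiber.obj W) => (Φ.fiber.map g y : Φ.fiber.obj W'))
    (fun _ => 𝟙 A) y).trans ?_
  exact Category.comp_id _

lemma sky_hom_ext (A : AddCommGrpCat.{u + 1}) (W : c.pt.Etale) {B : AddCommGrpCat.{u + 1}}
    {a b : B ⟶ (Φ.skyscraperSheaf A).obj.obj (op W)}
    (h : ∀ y, a ≫ skπ Φ A W y = b ≫ skπ Φ A W y) : a = b :=
  Pi.hom_ext _ _ h

end Sky

section LI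

variable [IsDirected ι (· ≤ ·)] [Nonempty ι]

lemma trf_kq {i j : ι} (hij : i ≤ j) (V : (Xs.obj (op i)).Etale)
    (y : Φ.fiber.obj ((EtCoh.bc (pm Xs c j)).obj ((EtCoh.bc (fm Xs hij)).obj V))) :
    trf Φ hij V (Φ.fiber.map (kq (fm Xs hij) (pm Xs c j) (pm Xs c i) (pm_comp Xs c hij) V) y) =
      y := by
  show Φ.fiber.map _ (Φ.fiber.map _ y) = y
  rw [fiber_map_comp, kq_tr, CategoryTheory.Functor.map_id]
  rfl

/-- the test cone with vertex the skyscraper sheaf of families of germs modulo eventually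
vanishing ones -/
noncomputable def testCone : PCone c S where
  pt := Φ.skyscraperSheaf (NN S Φ)
  ρ i := toSky S Φ i (mm S Φ i)
  coc {i j} hij := cocycle_of_app (fun V => by
    apply sky_hom_ext
    intro y
    rw [Category.assoc, Category.assoc, rapp_toSky_π, sky_map_π, rapp_toSky_π, ← T_mm S Φ hij,
      ← Category.assoc (gm S Φ i V _), gm_T, trf_kq, Category.assoc])

theorem LI (C : PCone c S) (hC : C.IsColim) {i : ι} (V : (Xs.obj (op i)).Etale)
    (s : (S.F i).obj.obj (op V)) (hs : rapp (pm Xs c i) (C.ρ i) V s = 0)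
    (y : Φ.fiber.obj ((EtCoh.bc (pm Xs c i)).obj V)) :
    ∃ (l : ι) (h : i ≤ l),
      gm S Φ l ((EtCoh.bc (fm Xs h)).obj V) (trf Φ h V y) (rapp (fm Xs h) (S.r h) V s) = 0 := by
  obtain ⟨ν, hν, -⟩ := hC (testCone S Φ)
  have h1 : rapp (pm Xs c i) (toSky S Φ i (mm S Φ i)) V s = 0 := by
    have h2 := congrArg (fun t => rapp (pm Xs c i) t V) (hν i)
    simp only [rapp_comp_push] at h2
    have h3 := ConcreteCategory.congr_hom h2 s
    rw [ConcreteCategory.comp_apply, hs, map_zero] at h3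
    exact h3.symm
  have h4 := ConcreteCategory.congr_hom (rapp_toSky_π S Φ i (mm S Φ i) V y) s
  rw [ConcreteCategory.comp_apply, ConcreteCategory.comp_apply, h1, map_zero] at h4
  obtain ⟨l, h, hl⟩ := mm_eq_zero S Φ i _ h4.symm
  refine ⟨l, h, ?_⟩
  have h5 := ConcreteCategory.congr_hom (gm_T S Φ h V y) s
  rw [ConcreteCategory.comp_apply, ConcreteCategory.comp_apply] at h5
  rw [← h5]
  exact hl

end LI

section LS

variable {S}

/-- the sections of the vertex of a cone coming from a section of some `F_l` -/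
def IsGen (C : PCone c S) (W : c.pt.Etale) (x : C.pt.obj.obj (op W)) : Prop :=
  ∃ (l : ι) (W' : (Xs.obj (op l)).Etale) (b : W.left ⟶ W'.left)
    (hb : b ≫ W'.hom = W.hom ≫ pm Xs c l) (s : (S.F l).obj.obj (op W')),
    x = res (pm Xs c l) (C.ρ l) b hb s

/-- the subgroup of sections generated by those coming from the `F_l` -/
def Gen (C : PCone c S) (W : c.pt.Etale) : AddSubgroup (C.pt.obj.obj (op W)) :=
  AddSubgroup.closure {x | IsGen C W x}

lemma map_mem_Gen (C : PCone c S) {W₁ W₂ : c.pt.Etale} (a : W₁ ⟶ W₂) (x : C.pt.obj.obj (op W₂))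
    (hx : x ∈ Gen C W₂) : C.pt.obj.map a.op x ∈ Gen C W₁ := by
  induction hx using AddSubgroup.closure_induction with
  | mem x hx =>
    obtain ⟨l, W', b, hb, s, rfl⟩ := hx
    apply AddSubgroup.subset_closure
    refine ⟨l, W', a.left ≫ b, by rw [Category.assoc, hb, ← Category.assoc, hom_w], s, ?_⟩
    rw [← ConcreteCategory.comp_apply, res_map]
  | zero => rw [map_zero]; exact zero_mem _
  | add x y _ _ hx hy => rw [map_add]; exact add_mem hx hy
  | neg x _ hx => rw [map_neg]; exact neg_mem hx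

lemma rapp_mem_Gen (C : PCone c S) (i : ι) (V : (Xs.obj (op i)).Etale)
    (s : (S.F i).obj.obj (op V)) : rapp (pm Xs c i) (C.ρ i) V s ∈ Gen C _ := by
  apply AddSubgroup.subset_closure
  exact ⟨i, V, prj _ V, prj_w _ V, s, by rw [res_prj]⟩

variable (C : PCone c S)

/-- the stalk of the vertex of the cone -/
noncomputable abbrev Sth : AddCommGrpCat.{u + 1} := Φ.presheafFiber.obj C.pt.obj

/-- the germ map of the vertex of the cone -/
noncomputable abbrev gmh (W : c.pt.Etale) (y : Φ.fiber.obj W) :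
    C.pt.obj.obj (op W) ⟶ Sth Φ C :=
  Φ.toPresheafFiber W y C.pt.obj

/-- the germs of the sections generated by those coming from the `F_l` -/
noncomputable def G₀ : AddSubgroup (Sth Φ C) where
  carrier := {g | ∃ (W : c.pt.Etale) (y : Φ.fiber.obj W) (z : C.pt.obj.obj (op W)),
    z ∈ Gen C W ∧ gmh Φ C W y z = g}
  zero_mem' := by
    have hT := Φ.isTerminalFiberObj (EtCoh.top c.pt) (EtCore.topIsTerminal c.pt)
    exact ⟨EtCoh.top c.pt, (Types.isTerminalEquivUnique _ hT).default, 0, zero_mem _, map_zero _⟩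
  add_mem' := by
    rintro g₁ g₂ ⟨W₁, y₁, z₁, hz₁, rfl⟩ ⟨W₂, y₂, z₂, hz₂, rfl⟩
    let e₁ : Φ.fiber.Elements := ⟨W₁, y₁⟩
    let e₂ : Φ.fiber.Elements := ⟨W₂, y₂⟩
    let e₃ := IsCofiltered.min e₁ e₂
    let a₁ : e₃ ⟶ e₁ := IsCofiltered.minToLeft e₁ e₂
    let a₂ : e₃ ⟶ e₂ := IsCofiltered.minToRight e₁ e₂
    refine ⟨e₃.1, e₃.2, C.pt.obj.map a₁.1.op z₁ + C.pt.obj.map a₂.1.op z₂,
      add_mem (map_mem_Gen C _ _ hz₁) (map_mem_Gen C _ _ hz₂), ?_⟩
    rw [map_add]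
    congr 1
    · have h := ConcreteCategory.congr_hom (Φ.toPresheafFiber_w a₁.1 e₃.2 C.pt.obj) z₁
      rw [ConcreteCategory.comp_apply] at h
      rw [h]
      exact congrArg (fun y => gmh Φ C W₁ y z₁) a₁.2
    · have h := ConcreteCategory.congr_hom (Φ.toPresheafFiber_w a₂.1 e₃.2 C.pt.obj) z₂
      rw [ConcreteCategory.comp_apply] at h
      rw [h]
      exact congrArg (fun y => gmh Φ C W₂ y z₂) a₂.2
  neg_mem' := by
    rintro g ⟨W, y, z, hz, rfl⟩
    exact ⟨W, y, -z, neg_mem hz, map_neg _ _⟩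

/-- the cone with zero legs -/
noncomputable def zeroCone (S : PSys Xs) (M : EtCoh.Ab c.pt) : PCone c S where
  pt := M
  ρ _ := 0
  coc {i j} hij := by
    show S.r hij ≫ (EtCoh.push (fm Xs hij)).map 0 = 0 ≫ _
    rw [Functor.map_zero, comp_zero, zero_comp]

/-- the quotient of the stalk by the germs coming from the `F_l` -/
noncomputable abbrev QQ : AddCommGrpCat.{u + 1} := AddCommGrpCat.of (Sth Φ C ⧸ G₀ Φ C)

/-- the quotient map -/
noncomputable def qq : Sth Φ C ⟶ QQ Φ C := AddCommGrpCat.ofHom (QuotientAddGroup.mk' (G₀ Φ C))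

/-- the morphism to the skyscraper sheaf of the quotient of the stalk -/
noncomputable def νq : C.pt ⟶ Φ.skyscraperSheaf (QQ Φ C) :=
  ObjectProperty.homMk (Φ.skyscraperPresheafHomEquiv (qq Φ C))

lemma νq_π (W : c.pt.Etale) (y : Φ.fiber.obj W) :
    (νq Φ C).hom.app (op W) ≫ skπ Φ (QQ Φ C) W y = gmh Φ C W y ≫ qq Φ C :=
  Φ.skyscraperPresheafHomEquiv_app_π (qq Φ C) W y

lemma ρ_νq (i : ι) : C.ρ i ≫ (EtCoh.push (pm Xs c i)).map (νq Φ C) = 0 := by
  apply rapp_ext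
  intro V
  rw [rapp_comp_push]
  apply sky_hom_ext
  intro y
  rw [Category.assoc, νq_π]
  ext s
  have h1 : rapp (pm Xs c i) (0 : S.F i ⟶ (EtCoh.push (pm Xs c i)).obj
      (Φ.skyscraperSheaf (QQ Φ C))) V = 0 := rfl
  rw [h1, zero_comp]
  show QuotientAddGroup.mk' (G₀ Φ C) (gmh Φ C _ y (rapp (pm Xs c i) (C.ρ i) V s)) = 0
  rw [QuotientAddGroup.mk'_apply, QuotientAddGroup.eq_zero_iff]
  exact ⟨_, y, _, rapp_mem_Gen C i V s, rfl⟩

theorem LS (hC : C.IsColim) (Wt : c.pt.Etale) (t : C.pt.obj.obj (op Wt)) (x : Φ.fiber.obj Wt) :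
    ∃ (W : c.pt.Etale) (a : W ⟶ Wt) (y : Φ.fiber.obj W), Φ.fiber.map a y = x ∧
      C.pt.obj.map a.op t ∈ Gen C W := by
  obtain ⟨ν, -, hν⟩ := hC (zeroCone S (Φ.skyscraperSheaf (QQ Φ C)))
  have h1 : νq Φ C = ν := hν _ (fun i => ρ_νq Φ C i)
  have h2 : (0 : C.pt ⟶ Φ.skyscraperSheaf (QQ Φ C)) = ν := hν _ (fun i => by
    show C.ρ i ≫ (EtCoh.push (pm Xs c i)).map 0 = 0
    rw [Functor.map_zero, comp_zero])
  have h3 : νq Φ C = 0 := h1.trans h2.symm
  have h4 : gmh Φ C Wt x t ∈ G₀ Φ C := by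
    have h5 := congrArg (fun f => f.hom.app (op Wt) ≫ skπ Φ (QQ Φ C) Wt x) h3
    simp only [νq_π] at h5
    have h6 := ConcreteCategory.congr_hom h5 t
    have h7 : ((0 : C.pt ⟶ Φ.skyscraperSheaf (QQ Φ C)).hom.app (op Wt) ≫
        skπ Φ (QQ Φ C) Wt x) t = 0 := by
      have : (0 : C.pt ⟶ Φ.skyscraperSheaf (QQ Φ C)).hom.app (op Wt) = 0 := rfl
      rw [this, zero_comp]
      rfl
    rw [h7] at h6
    exact (QuotientAddGroup.eq_zero_iff _).1 h6
  obtain ⟨W, y, z, hz, hg⟩ := h4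
  let e₁ : Φ.fiber.Elements := ⟨Wt, x⟩
  let e₂ : Φ.fiber.Elements := ⟨W, y⟩
  let e₃ := IsCofiltered.min e₁ e₂
  let a₁ : e₃ ⟶ e₁ := IsCofiltered.minToLeft e₁ e₂
  let a₂ : e₃ ⟶ e₂ := IsCofiltered.minToRight e₁ e₂
  have k1 : gmh Φ C e₃.1 e₃.2 (C.pt.obj.map a₁.1.op t) = gmh Φ C Wt x t := by
    have h := ConcreteCategory.congr_hom (Φ.toPresheafFiber_w a₁.1 e₃.2 C.pt.obj) t
    rw [ConcreteCategory.comp_apply] at h
    rw [h]
    exact congrArg (fun y => gmh Φ C Wt y t) a₁.2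
  have k2 : gmh Φ C e₃.1 e₃.2 (C.pt.obj.map a₂.1.op z) = gmh Φ C W y z := by
    have h := ConcreteCategory.congr_hom (Φ.toPresheafFiber_w a₂.1 e₃.2 C.pt.obj) z
    rw [ConcreteCategory.comp_apply] at h
    rw [h]
    exact congrArg (fun y' => gmh Φ C W y' z) a₂.2
  have k3 : gmh Φ C e₃.1 e₃.2 (C.pt.obj.map a₁.1.op t) =
      gmh Φ C e₃.1 e₃.2 (C.pt.obj.map a₂.1.op z) := by rw [k1, k2, hg]
  obtain ⟨W₄, b, y₄, hy₄, hb⟩ := (Φ.toPresheafFiber_eq_iff' e₃.1 e₃.2 _ _).1 k3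
  refine ⟨W₄, b ≫ a₁.1, y₄, ?_, ?_⟩
  · rw [← fiber_map_comp, hy₄]
    exact a₁.2
  · have k4 : C.pt.obj.map (b ≫ a₁.1).op t = C.pt.obj.map b.op (C.pt.obj.map a₁.1.op t) := by
      rw [op_comp, C.pt.obj.map_comp, ConcreteCategory.comp_apply]
    rw [k4, hb]
    exact map_mem_Gen C b _ (map_mem_Gen C a₂.1 _ hz)

end LS

end Groth.Agent.Helper6.LimCohD
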