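import Mathlib
import Groth.Prelude.Def_EtBase
import Groth.Prelude.Def_EtCore
import Groth.Prelude.Def_EtLim
import Groth.Agent.Helper6.LimCohA
import Groth.Agent.Helper6.LimCohB
import Groth.Agent.Helper6.LimCohC
import Groth.Agent.Helper6.LimCohD

set_option autoImplicit false
set_option linter.style.haveILetI false
set_option linter.unusedSectionVars false
set_option linter.unusedVariables false
set_option linter.unusedSimpArgs false

/-!
# Limit theorem for étale cohomology, part E: local structure of a colimit of a system of sheaves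

In terms of covering sieves: a section of `F_i` dying in the colimit dies étale locally at finite
levels; every section of the colimit is étale locally a sum of sections coming from finite levels.
-/

namespace Groth.Agent.Helper6.LimCohE

open CategoryTheory CategoryTheory.Limits AlgebraicGeometry Opposite
open Groth.Agent.Helper6.LimCohA Groth.Agent.Helper6.LimCohB Groth.Agent.Helper6.LimCohC
  Groth.Agent.Helper6.LimCohD

universe u

/-- a sieve of the small étale site is covering as soon as it is jointly surjective on the fibres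
of all points -/
lemma sieve_mem_of_forall_point {X : Scheme.{u}} (W : X.Etale) (T : Sieve W)
    (h : ∀ (Φ : GrothendieckTopology.Point.{u} X.smallEtaleTopology) (x : Φ.fiber.obj W),
      ∃ (W' : X.Etale) (a : W' ⟶ W), T a ∧ ∃ y : Φ.fiber.obj W', Φ.fiber.map a y = x) :
    T ∈ X.smallEtaleTopology W := by
  obtain ⟨P, hsmall, hP⟩ :=
    GrothendieckTopology.HasEnoughPoints.exists_objectProperty.{u} X.smallEtaleTopology
  let κ : Type (u + 1) := Σ W' : X.Etale, { a : W' ⟶ W // T a }
  refine X.smallEtaleTopology.superset_covering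
    (S := Sieve.ofArrows (fun k : κ => k.1) (fun k => k.2.1)) ?_ ?_
  · rw [Sieve.generate_le_iff, Presieve.ofArrows_le_iff]
    exact fun k => k.2.2
  · rw [hP.jointly_reflect_ofArrows_mem_of_small]
    intro Φ x
    obtain ⟨W', a, ha, y, hy⟩ := h Φ.obj x
    exact ⟨⟨W', a, ha⟩, y, hy⟩

variable {ι : Type u} [Preorder ι] {Xs : ιᵒᵖ ⥤ Scheme.{u}} {c : Cone Xs} {S : PSys Xs}

/-- the sieve of morphisms along which the image of `t` is generated by sections of the `F_l` -/
def genSieve (C : PCone c S) (Wt : c.pt.Etale) (t : C.pt.obj.obj (op Wt)) : Sieve Wt where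
  arrows W a := C.pt.obj.map a.op t ∈ Gen C W
  downward_closed {W W'} a ha b := by
    have h := map_mem_Gen C b _ ha
    rwa [← ConcreteCategory.comp_apply, ← C.pt.obj.map_comp, ← op_comp] at h

theorem genSieve_mem (C : PCone c S) (hC : C.IsColim) (Wt : c.pt.Etale)
    (t : C.pt.obj.obj (op Wt)) : genSieve C Wt t ∈ c.pt.smallEtaleTopology Wt := by
  apply sieve_mem_of_forall_point
  intro Φ x
  obtain ⟨W, a, y, hy, ha⟩ := LS Φ C hC Wt t x
  exact ⟨W, a, ha, y, hy⟩

/-- the sieve of morphisms along which the section `s` of `F_i` dies at some finite level -/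
def vanSieve (S : PSys Xs) (c : Cone Xs) {i : ι} (V : (Xs.obj (op i)).Etale)
    (s : (S.F i).obj.obj (op V)) : Sieve ((EtCoh.bc (pm Xs c i)).obj V) where
  arrows W a := ∃ (l : ι) (h : i ≤ l) (W' : (Xs.obj (op l)).Etale)
    (g : W' ⟶ (EtCoh.bc (fm Xs h)).obj V) (b : W.left ⟶ W'.left)
    (_ : b ≫ W'.hom = W.hom ≫ pm Xs c l),
    (S.F l).obj.map g.op (rapp (fm Xs h) (S.r h) V s) = 0 ∧
      b ≫ g.left ≫ prj (fm Xs h) V = a.left ≫ prj (pm Xs c i) V
  downward_closed {W W₂} a := by
    rintro ⟨l, h, W', g, b, hb, hg, hab⟩ e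
    refine ⟨l, h, W', g, e.left ≫ b, ?_, hg, ?_⟩
    · rw [Category.assoc, hb, ← Category.assoc, hom_w]
    · rw [Category.assoc, hab]
      rfl

theorem vanSieve_mem [IsDirected ι (· ≤ ·)] [Nonempty ι] (C : PCone c S) (hC : C.IsColim) {i : ι}
    (V : (Xs.obj (op i)).Etale) (s : (S.F i).obj.obj (op V))
    (hs : rapp (pm Xs c i) (C.ρ i) V s = 0) :
    vanSieve S c V s ∈ c.pt.smallEtaleTopology ((EtCoh.bc (pm Xs c i)).obj V) := by
  apply sieve_mem_of_forall_point
  intro Φ x
  obtain ⟨l, h, hl⟩ := LI S Φ C hC V s hs x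
  have hl' : gm S Φ l ((EtCoh.bc (fm Xs h)).obj V) (trf Φ h V x) (rapp (fm Xs h) (S.r h) V s) =
      gm S Φ l ((EtCoh.bc (fm Xs h)).obj V) (trf Φ h V x) 0 := by rw [hl, map_zero]
  obtain ⟨W', g, y', hy', hg⟩ := ((Φl Φ l).toPresheafFiber_eq_iff' _ _ _ _).1 hl'
  rw [map_zero] at hg
  refine ⟨(EtCoh.bc (pm Xs c l)).obj W', (EtCoh.bc (pm Xs c l)).map g ≫
    kq (fm Xs h) (pm Xs c l) (pm Xs c i) (pm_comp Xs c h) V, ?_, y', ?_⟩
  · refine ⟨l, h, W', g, prj (pm Xs c l) W', prj_w _ _, hg, ?_⟩
    have e1 := bcMap_prj (pm Xs c l) g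
    calc prj (pm Xs c l) W' ≫ g.left ≫ prj (fm Xs h) V
        = (prj (pm Xs c l) W' ≫ g.left) ≫ prj (fm Xs h) V := (Category.assoc _ _ _).symm
      _ = (lf ((EtCoh.bc (pm Xs c l)).map g) ≫ prj (pm Xs c l) _) ≫ prj (fm Xs h) V := by
          rw [← e1]
      _ = lf ((EtCoh.bc (pm Xs c l)).map g) ≫
            (lf (kq (fm Xs h) (pm Xs c l) (pm Xs c i) (pm_comp Xs c h) V) ≫
              prj (pm Xs c i) V) := by rw [Category.assoc, kq_prj]
      _ = _ := (Category.assoc _ _ _).symm
  · rw [← fiber_map_comp]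
    have h1 : Φ.fiber.map ((EtCoh.bc (pm Xs c l)).map g) y' = trf Φ h V x := hy'
    rw [h1]
    show Φ.fiber.map _ (Φ.fiber.map _ x) = x
    rw [fiber_map_comp, tr_kq, CategoryTheory.Functor.map_id]
    rfl

end Groth.Agent.Helper6.LimCohE
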