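import Mathlib
import Groth.Prelude.Def_EtBase
import Groth.Prelude.Def_EtCore
import Groth.Prelude.Def_EtLim
import Groth.Agent.Helper6.LimCohA
import Groth.Agent.Helper6.LimCohB
import Groth.Agent.Helper6.LimCohE
import Groth.Agent.Helper4.EtGeom

set_option autoImplicit false
set_option linter.style.haveILetI false
set_option linter.unusedSectionVars false
set_option linter.unusedVariables false
set_option linter.unusedSimpArgs false

/-!
# Limit theorem for étale cohomology, part F: the geometric interface, and injectivity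

A section of `F_i` over a quasi-compact object whose image in the colimit sheaf vanishes, vanishes
at a later stage.
-/

namespace Groth.Agent.Helper6.LimCohF

open CategoryTheory CategoryTheory.Limits AlgebraicGeometry Opposite
open Groth.Agent.Helper6.LimCohA Groth.Agent.Helper6.LimCohB Groth.Agent.Helper6.LimCohE

universe u

section ZeroLocus

variable {Y : Scheme.{u}} (F : EtCoh.Ab Y)

/-- the locus where a section vanishes étale locally -/
def zeroLocus {V : Y.Etale} (σ : F.obj.obj (op V)) : Set V.left :=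
  {z | ∃ (W : Y.Etale) (g : W ⟶ V) (w : W.left), g.left w = z ∧ F.obj.map g.op σ = 0}

lemma isOpen_zeroLocus {V : Y.Etale} (σ : F.obj.obj (op V)) : IsOpen (zeroLocus F σ) := by
  rw [isOpen_iff_forall_mem_open]
  rintro z ⟨W, g, w, rfl, hg⟩
  refine ⟨Set.range g.left, ?_, g.left.isOpenMap.isOpen_range, ⟨w, rfl⟩⟩
  rintro _ ⟨w', rfl⟩
  exact ⟨W, g, w', rfl, hg⟩

lemma eq_zero_of_zeroLocus {V : Y.Etale} (σ : F.obj.obj (op V))
    (h : ∀ z, z ∈ zeroLocus F σ) : σ = 0 := by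
  let T : Sieve V :=
    { arrows := fun W g => F.obj.map g.op σ = 0
      downward_closed := fun {W W'} g hg e => by
        show F.obj.map (e ≫ g).op σ = 0
        rw [op_comp, F.obj.map_comp, ConcreteCategory.comp_apply, hg, map_zero] }
  have hT : T ∈ Y.smallEtaleTopology V := by
    rw [Groth.Agent.Helper4.EtGeom.mem_iff]
    intro z
    obtain ⟨W, g, w, hw, hg⟩ := h z
    exact ⟨W, g, w, hg, hw⟩
  refine Groth.Agent.Helper4.SecQC.sep F hT (fun W g hg => ?_)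
  rw [map_zero]
  exact hg

end ZeroLocus

variable {ι : Type u} [Preorder ι]

/-- the geometric input: descent of open coverings, morphisms and objects to a finite level -/
structure Geo (Xs : ιᵒᵖ ⥤ Scheme.{u}) (c : Cone Xs) : Prop where
  affine : ∀ i : ι, IsAffineHom (pm Xs c i)
  affine' : ∀ {i j : ι} (h : i ≤ j), IsAffineHom (fm Xs h)
  top : ∀ {i : ι} (V : (Xs.obj (op i)).Etale), CompactSpace V.left →
    ∀ O : Set V.left, IsOpen O → (∀ x, prj (pm Xs c i) V x ∈ O) →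
      ∃ (m : ι) (h : i ≤ m), ∀ x, prj (fm Xs h) V x ∈ O
  hom : ∀ {m l : ι} (W' : (Xs.obj (op m)).Etale), CompactSpace W'.left →
    QuasiSeparatedSpace W'.left → ∀ (Z : (Xs.obj (op l)).Etale)
      (b : ((EtCoh.bc (pm Xs c m)).obj W').left ⟶ Z.left)
      (_ : b ≫ Z.hom = ((EtCoh.bc (pm Xs c m)).obj W').hom ≫ pm Xs c l),
      ∃ (m' : ι) (h : m ≤ m') (h' : l ≤ m') (b' : ((EtCoh.bc (fm Xs h)).obj W').left ⟶ Z.left),
        b' ≫ Z.hom = ((EtCoh.bc (fm Xs h)).obj W').hom ≫ fm Xs h' ∧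
          cn (fm Xs h) (pm Xs c m') (pm Xs c m) (pm_comp Xs c h) W' ≫ b' = b
  obj₀ : ∀ (W : c.pt.Etale), CompactSpace W.left → QuasiSeparatedSpace W.left →
    ∃ (m : ι) (W' : (Xs.obj (op m)).Etale), CompactSpace W'.left ∧ QuasiSeparatedSpace W'.left ∧
      Nonempty (W ≅ (EtCoh.bc (pm Xs c m)).obj W')

variable {Xs : ιᵒᵖ ⥤ Scheme.{u}} {c : Cone Xs}

lemma compactSpace_bc {X Y : Scheme.{u}} (f : X ⟶ Y) [IsAffineHom f] (V : Y.Etale)
    [CompactSpace V.left] : CompactSpace ((EtCoh.bc f).obj V).left := by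
  have : IsAffineHom (prj f V) := MorphismProperty.pullback_fst _ _ inferInstance
  exact QuasiCompact.compactSpace_of_compactSpace (prj f V)

lemma quasiSeparatedSpace_bc {X Y : Scheme.{u}} (f : X ⟶ Y) [IsAffineHom f] (V : Y.Etale)
    [QuasiSeparatedSpace V.left] : QuasiSeparatedSpace ((EtCoh.bc f).obj V).left := by
  have : IsAffineHom (prj f V) := MorphismProperty.pullback_fst _ _ inferInstance
  exact quasiSeparatedSpace_of_quasiSeparated (prj f V)

lemma left_apply_tr_kq {X₁ X₂ Y : Scheme.{u}} (f : X₁ ⟶ Y) (g : X₂ ⟶ X₁) (h : X₂ ⟶ Y)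
    (w : g ≫ f = h) (V : Y.Etale) (x : ((EtCoh.bc h).obj V).left) :
    (kq f g h w V).left ((tr f g h w V).left x) = x := by
  show ((tr f g h w V).left ≫ (kq f g h w V).left) x = x
  have := congrArg lf (tr_kq f g h w V)
  rw [lf_comp, lf_id] at this
  rw [this]
  rfl

lemma left_apply_kq_tr {X₁ X₂ Y : Scheme.{u}} (f : X₁ ⟶ Y) (g : X₂ ⟶ X₁) (h : X₂ ⟶ Y)
    (w : g ≫ f = h) (V : Y.Etale) (x : ((EtCoh.bc g).obj ((EtCoh.bc f).obj V)).left) :
    (tr f g h w V).left ((kq f g h w V).left x) = x := by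
  show ((kq f g h w V).left ≫ (tr f g h w V).left) x = x
  have := congrArg lf (kq_tr f g h w V)
  rw [lf_comp, lf_id] at this
  rw [this]
  rfl

/-- the form of `Geo.top` relative to a later stage -/
lemma Geo.top' (G : Geo Xs c) {i m : ι} (h : i ≤ m) (V : (Xs.obj (op i)).Etale)
    [CompactSpace V.left] (U : Set ((EtCoh.bc (fm Xs h)).obj V).left) (hU : IsOpen U)
    (hx : ∀ x, cn (fm Xs h) (pm Xs c m) (pm Xs c i) (pm_comp Xs c h) V x ∈ U) :
    ∃ (m' : ι) (h' : m ≤ m'),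
      ∀ x, cn (fm Xs h) (fm Xs h') (fm Xs (h.trans h')) (fm_comp Xs h h') V x ∈ U := by
  have : IsAffineHom (fm Xs h) := G.affine' h
  have : CompactSpace ((EtCoh.bc (fm Xs h)).obj V).left := compactSpace_bc _ V
  obtain ⟨m', h', hm'⟩ := G.top ((EtCoh.bc (fm Xs h)).obj V) inferInstance U hU (by
    intro x
    have h1 := hx ((kq (fm Xs h) (pm Xs c m) (pm Xs c i) (pm_comp Xs c h) V).left x)
    have h2 : cn (fm Xs h) (pm Xs c m) (pm Xs c i) (pm_comp Xs c h) V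
        ((kq (fm Xs h) (pm Xs c m) (pm Xs c i) (pm_comp Xs c h) V).left x) =
        prj (pm Xs c m) ((EtCoh.bc (fm Xs h)).obj V) x := by
      rw [← tr_prj]
      show prj _ _ ((tr _ _ _ _ V).left ((kq _ _ _ _ V).left x)) = _
      rw [left_apply_kq_tr]
    rw [h2] at h1
    exact h1)
  refine ⟨m', h', fun x => ?_⟩
  have h1 := hm' ((tr (fm Xs h) (fm Xs h') (fm Xs (h.trans h')) (fm_comp Xs h h') V).left x)
  have h2 : prj (fm Xs h') ((EtCoh.bc (fm Xs h)).obj V)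
      ((tr (fm Xs h) (fm Xs h') (fm Xs (h.trans h')) (fm_comp Xs h h') V).left x) =
      cn (fm Xs h) (fm Xs h') (fm Xs (h.trans h')) (fm_comp Xs h h') V x := by
    rw [← tr_prj]
    rfl
  rw [h2] at h1
  exact h1

/-- descent of objects over a base change -/
lemma Geo.obj (G : Geo Xs c) {j : ι} (V : (Xs.obj (op j)).Etale) (W : c.pt.Etale)
    [CompactSpace W.left] [QuasiSeparatedSpace W.left] (a : W ⟶ (EtCoh.bc (pm Xs c j)).obj V) :
    ∃ (m : ι) (h : j ≤ m) (W' : (Xs.obj (op m)).Etale) (g : W' ⟶ (EtCoh.bc (fm Xs h)).obj V)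
      (e : W ≅ (EtCoh.bc (pm Xs c m)).obj W'), CompactSpace W'.left ∧
        QuasiSeparatedSpace W'.left ∧
        e.hom ≫ (EtCoh.bc (pm Xs c m)).map g ≫
          kq (fm Xs h) (pm Xs c m) (pm Xs c j) (pm_comp Xs c h) V = a := by
  obtain ⟨m₀, W₀, hW1, hW2, ⟨e₀⟩⟩ := G.obj₀ W inferInstance inferInstance
  obtain ⟨m, h₀, h, b', hb', hbb⟩ := G.hom W₀ hW1 hW2 V
    (e₀.inv.left ≫ a.left ≫ prj (pm Xs c j) V) (by
      rw [Category.assoc, Category.assoc, prj_w, ← Category.assoc a.left, hom_w,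
        ← Category.assoc, hom_w])
  have : IsAffineHom (fm Xs h₀) := G.affine' h₀
  refine ⟨m, h, (EtCoh.bc (fm Xs h₀)).obj W₀, lift (fm Xs h) b' hb',
    e₀ ≪≫ ⟨tr (fm Xs h₀) (pm Xs c m) (pm Xs c m₀) (pm_comp Xs c h₀) W₀,
      kq (fm Xs h₀) (pm Xs c m) (pm Xs c m₀) (pm_comp Xs c h₀) W₀, tr_kq _ _ _ _ W₀,
      kq_tr _ _ _ _ W₀⟩, compactSpace_bc _ W₀, quasiSeparatedSpace_bc _ W₀, ?_⟩
  apply bc_hom_ext
  show ((lf e₀.hom ≫ lf (tr _ _ _ _ W₀)) ≫
    lf ((EtCoh.bc (pm Xs c m)).map (lift (fm Xs h) b' hb')) ≫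
    lf (kq _ _ _ _ V)) ≫ prj (pm Xs c j) V = _
  simp only [Category.assoc]
  rw [kq_prj, ← Category.assoc (lf ((EtCoh.bc (pm Xs c m)).map _)), bcMap_prj]
  simp only [Category.assoc]
  rw [lift_prj, ← Category.assoc (lf (tr _ _ _ _ W₀)), tr_prj, hbb]
  have h1 : lf e₀.hom ≫ lf e₀.inv = 𝟙 _ := by
    rw [← lf_comp, Iso.hom_inv_id, lf_id]
  rw [← Category.assoc, ← Category.assoc]
  show ((lf e₀.hom ≫ lf e₀.inv) ≫ _) ≫ _ = _
  rw [h1, Category.id_comp]

section Inj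

variable (S : PSys Xs)

/-- the zero locus grows along the system -/
lemma zeroLocus_trans {i l m : ι} (hil : i ≤ l) (hlm : l ≤ m) (V : (Xs.obj (op i)).Etale)
    (s : (S.F i).obj.obj (op V)) (z : ((EtCoh.bc (fm Xs (hil.trans hlm))).obj V).left)
    (hz : cn (fm Xs hil) (fm Xs hlm) (fm Xs (hil.trans hlm)) (fm_comp Xs hil hlm) V z ∈
      zeroLocus (S.F l) (rapp (fm Xs hil) (S.r hil) V s)) :
    z ∈ zeroLocus (S.F m) (rapp (fm Xs (hil.trans hlm)) (S.r (hil.trans hlm)) V s) := by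
  obtain ⟨W', g, w, hw, hg⟩ := hz
  have sq := EtCoh.isPullback_bc_map (fm Xs hlm) g
  let y := (tr (fm Xs hil) (fm Xs hlm) (fm Xs (hil.trans hlm)) (fm_comp Xs hil hlm) V).left z
  have hy : prj (fm Xs hlm) ((EtCoh.bc (fm Xs hil)).obj V) y = g.left w := by
    rw [hw]
    show ((tr _ _ _ _ V).left ≫ prj (fm Xs hlm) _) z = _
    rw [tr_prj]
  obtain ⟨w'', hw1, hw2⟩ := Scheme.Pullback.exists_preimage_pullback _ _ hy
  let w₃ := sq.isoPullback.inv w''
  have hw₃ : ((EtCoh.bc (fm Xs hlm)).map g).left w₃ = y := by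
    show (sq.isoPullback.inv ≫ ((EtCoh.bc (fm Xs hlm)).map g).left) w'' = y
    rw [sq.isoPullback_inv_fst]
    exact hw1
  refine ⟨(EtCoh.bc (fm Xs hlm)).obj W', (EtCoh.bc (fm Xs hlm)).map g ≫
    kq (fm Xs hil) (fm Xs hlm) (fm Xs (hil.trans hlm)) (fm_comp Xs hil hlm) V, w₃, ?_, ?_⟩
  · show (kq _ _ _ _ V).left (((EtCoh.bc (fm Xs hlm)).map g).left w₃) = z
    rw [hw₃]
    show ((tr _ _ _ _ V).left ≫ (kq _ _ _ _ V).left) z = z
    have := congrArg lf (tr_kq (fm Xs hil) (fm Xs hlm) (fm Xs (hil.trans hlm))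
      (fm_comp Xs hil hlm) V)
    rw [lf_comp, lf_id] at this
    rw [this]
    rfl
  · have h1 := ConcreteCategory.congr_hom ((S.coc hil hlm).app V) s
    rw [ConcreteCategory.comp_apply, ConcreteCategory.comp_apply] at h1
    have h2 := ConcreteCategory.congr_hom (rapp_naturality (fm Xs hlm) (S.r hlm) g)
      (rapp (fm Xs hil) (S.r hil) V s)
    rw [ConcreteCategory.comp_apply, ConcreteCategory.comp_apply, hg, map_zero] at h2
    rw [op_comp, (S.F m).obj.map_comp, ConcreteCategory.comp_apply, ← h1]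
    exact h2.symm

lemma mem_zeroLocus_of_vanSieve {i : ι} (V : (Xs.obj (op i)).Etale) (s : (S.F i).obj.obj (op V))
    {W : c.pt.Etale} (a : W ⟶ (EtCoh.bc (pm Xs c i)).obj V) (ha : vanSieve S c V s a)
    (w : W.left) :
    ∃ (l : ι) (h : i ≤ l), cn (fm Xs h) (pm Xs c l) (pm Xs c i) (pm_comp Xs c h) V (a.left w) ∈
      zeroLocus (S.F l) (rapp (fm Xs h) (S.r h) V s) := by
  obtain ⟨l, h, W', g, b, hb, hg, hab⟩ := ha
  refine ⟨l, h, W', g, b w, ?_, hg⟩
  have h1 : b ≫ g.left = a.left ≫ cn (fm Xs h) (pm Xs c l) (pm Xs c i) (pm_comp Xs c h) V := by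
    apply pullback.hom_ext
    · show (b ≫ g.left) ≫ prj (fm Xs h) V = (a.left ≫ cn _ _ _ _ V) ≫ prj (fm Xs h) V
      rw [Category.assoc, hab, Category.assoc, cn_prj]
    · show (b ≫ g.left) ≫ ((EtCoh.bc (fm Xs h)).obj V).hom =
        (a.left ≫ cn _ _ _ _ V) ≫ ((EtCoh.bc (fm Xs h)).obj V).hom
      rw [Category.assoc, hom_w, hb, Category.assoc, cn_hom, ← Category.assoc, hom_w]
  show (b ≫ g.left) w = (a.left ≫ cn _ _ _ _ V) w
  rw [h1]

theorem inj_of_geo [IsDirected ι (· ≤ ·)] [Nonempty ι] (G : Geo Xs c) (C : PCone c S)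
    (hC : C.IsColim) {i : ι} (V : (Xs.obj (op i)).Etale) [CompactSpace V.left]
    (s : (S.F i).obj.obj (op V)) (hs : rapp (pm Xs c i) (C.ρ i) V s = 0) :
    ∃ (l : ι) (h : i ≤ l), rapp (fm Xs h) (S.r h) V s = 0 := by
  classical
  have hcov := vanSieve_mem C hC V s hs
  have : IsAffineHom (pm Xs c i) := G.affine i
  have : CompactSpace ((EtCoh.bc (pm Xs c i)).obj V).left := compactSpace_bc _ V
  have hx : ∀ x : ((EtCoh.bc (pm Xs c i)).obj V).left, ∃ (l : ι) (h : i ≤ l),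
      cn (fm Xs h) (pm Xs c l) (pm Xs c i) (pm_comp Xs c h) V x ∈
        zeroLocus (S.F l) (rapp (fm Xs h) (S.r h) V s) := by
    intro x
    obtain ⟨W, a, w, ha, hw⟩ := (Groth.Agent.Helper4.EtGeom.mem_iff _ _).1 hcov x
    obtain ⟨l, h, hl⟩ := mem_zeroLocus_of_vanSieve S V s a ha w
    rw [hw] at hl
    exact ⟨l, h, hl⟩
  choose l h hl using hx
  let O : ((EtCoh.bc (pm Xs c i)).obj V).left → Set ((EtCoh.bc (pm Xs c i)).obj V).left :=
    fun x => (cn (fm Xs (h x)) (pm Xs c (l x)) (pm Xs c i) (pm_comp Xs c (h x)) V) ⁻¹'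
      zeroLocus (S.F (l x)) (rapp (fm Xs (h x)) (S.r (h x)) V s)
  have hO : ∀ x, IsOpen (O x) := fun x =>
    (isOpen_zeroLocus _ _).preimage (cn _ _ _ _ V).continuous
  obtain ⟨t, ht⟩ := isCompact_univ.elim_finite_subcover O hO
    (fun x _ => Set.mem_iUnion.mpr ⟨x, hl x⟩)
  obtain ⟨m₀, hm₀⟩ := (t.image l).exists_le
  obtain ⟨m, him, hm₀m⟩ := exists_ge_ge i m₀
  have key : ∀ x, cn (fm Xs him) (pm Xs c m) (pm Xs c i) (pm_comp Xs c him) V x ∈
      zeroLocus (S.F m) (rapp (fm Xs him) (S.r him) V s) := by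
    intro x
    have hx := ht (Set.mem_univ x)
    simp only [Set.mem_iUnion] at hx
    obtain ⟨x₀, hx₀t, hx₀⟩ := hx
    have hlm : l x₀ ≤ m := (hm₀ _ (Finset.mem_image_of_mem l hx₀t)).trans hm₀m
    refine zeroLocus_trans S (h x₀) hlm V s _ ?_
    have e1 := cn_cn (fm Xs (h x₀)) (fm Xs hlm) (fm Xs ((h x₀).trans hlm))
      (fm_comp Xs (h x₀) hlm) (pm Xs c m) (pm Xs c i) (pm_comp Xs c _) V
    have e2 := cn_congr (fm Xs (h x₀)) (pm_comp Xs c hlm) (pm Xs c i)
      (by rw [Category.assoc, fm_comp, pm_comp]) V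
    show (cn _ _ _ _ V ≫ cn _ _ _ _ V) x ∈ _
    rw [e1, e2]
    exact hx₀
  obtain ⟨m', h', hm'⟩ := G.top' him V _ (isOpen_zeroLocus _ _) key
  refine ⟨m', him.trans h', ?_⟩
  apply eq_zero_of_zeroLocus
  intro z
  exact zeroLocus_trans S him h' V s z (hm' z)

end Inj

end Groth.Agent.Helper6.LimCohF
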