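import Mathlib
import Groth.Prelude.Def_EtBase
import Groth.Prelude.Def_EtCore
import Groth.Prelude.Def_EtLim
import Groth.Agent.Helper6.LimCohA
import Groth.Agent.Helper6.LimCohB
import Groth.Agent.Helper6.LimCohD
import Groth.Agent.Helper6.LimCohE
import Groth.Agent.Helper6.LimCohF
import Groth.Agent.Helper4.EtGeom

set_option autoImplicit false
set_option linter.style.haveILetI false
set_option linter.unusedSectionVars false
set_option linter.unusedVariables false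
set_option linter.unusedSimpArgs false

/-!
# Limit theorem for étale cohomology, part G: the comparison maps on sections
-/

namespace Groth.Agent.Helper6.LimCohG

open CategoryTheory CategoryTheory.Limits AlgebraicGeometry Opposite
open Groth.Agent.Helper6.LimCohA Groth.Agent.Helper6.LimCohB Groth.Agent.Helper6.LimCohE
  Groth.Agent.Helper6.LimCohF Groth.Agent.Helper6.LimCohD

universe u

variable {ι : Type u} [Preorder ι] {Xs : ιᵒᵖ ⥤ Scheme.{u}} {c : Cone Xs}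
  (S : PSys Xs) (C : PCone c S)

/-- the comparison map from the sections of `F_{m'}` over `W' ×_{X_m} X_{m'}` to the sections of
the vertex of the cone over `W' ×_{X_m} X` -/
noncomputable def Θ {m m' : ι} (h : m ≤ m') (W' : (Xs.obj (op m)).Etale) :
    (S.F m').obj.obj (op ((EtCoh.bc (fm Xs h)).obj W')) ⟶
      C.pt.obj.obj (op ((EtCoh.bc (pm Xs c m)).obj W')) :=
  res (pm Xs c m') (C.ρ m') (cn (fm Xs h) (pm Xs c m') (pm Xs c m) (pm_comp Xs c h) W')
    (cn_hom _ _ _ _ W')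

/-- the transition map between the sections over `W' ×_{X_m} X_{m'}` and `W' ×_{X_m} X_{m''}` -/
noncomputable def R {m m' m'' : ι} (h : m ≤ m') (h' : m' ≤ m'') (W' : (Xs.obj (op m)).Etale) :
    (S.F m').obj.obj (op ((EtCoh.bc (fm Xs h)).obj W')) ⟶
      (S.F m'').obj.obj (op ((EtCoh.bc (fm Xs (h.trans h'))).obj W')) :=
  res (fm Xs h') (S.r h') (cn (fm Xs h) (fm Xs h') (fm Xs (h.trans h')) (fm_comp Xs h h') W')
    (cn_hom _ _ _ _ W')

lemma R_Θ {m m' m'' : ι} (h : m ≤ m') (h' : m' ≤ m'') (W' : (Xs.obj (op m)).Etale) :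
    R S h h' W' ≫ Θ S C (h.trans h') W' = Θ S C h W' := by
  unfold R Θ
  rw [res_res (C.coc h')]
  apply res_congr
  rw [cn_cn]
  exact cn_congr _ (pm_comp Xs c h') _ _ _

lemma R_R {m m' m'' m₃ : ι} (h : m ≤ m') (h' : m' ≤ m'') (h'' : m'' ≤ m₃)
    (W' : (Xs.obj (op m)).Etale) :
    R S h h' W' ≫ R S (h.trans h') h'' W' = R S h (h'.trans h'') W' := by
  unfold R
  rw [res_res (S.coc h' h'')]
  apply res_congr
  rw [cn_cn]
  exact cn_congr _ (fm_comp Xs h' h'') _ _ _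

lemma Θ_nat {m m' : ι} (h : m ≤ m') {W₁ W₂ : (Xs.obj (op m)).Etale} (g : W₁ ⟶ W₂) :
    (S.F m').obj.map ((EtCoh.bc (fm Xs h)).map g).op ≫ Θ S C h W₁ =
      Θ S C h W₂ ≫ C.pt.obj.map ((EtCoh.bc (pm Xs c m)).map g).op := by
  unfold Θ
  rw [map_res, res_map]
  apply res_congr
  exact (bcMap_cn _ _ _ _ g).symm

lemma R_nat {m m' m'' : ι} (h : m ≤ m') (h' : m' ≤ m'') {W₁ W₂ : (Xs.obj (op m)).Etale}
    (g : W₁ ⟶ W₂) :
    (S.F m').obj.map ((EtCoh.bc (fm Xs h)).map g).op ≫ R S h h' W₁ =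
      R S h h' W₂ ≫ (S.F m'').obj.map ((EtCoh.bc (fm Xs (h.trans h'))).map g).op := by
  unfold R
  rw [map_res, res_map]
  apply res_congr
  exact (bcMap_cn _ _ _ _ g).symm

/-- `r` followed by the comparison map is `ρ` -/
lemma rapp_Θ {m m' : ι} (h : m ≤ m') (W' : (Xs.obj (op m)).Etale) :
    rapp (fm Xs h) (S.r h) W' ≫ Θ S C h W' = rapp (pm Xs c m) (C.ρ m) W' := by
  unfold Θ
  rw [← res_prj, res_res (C.coc h), ← res_prj]
  apply res_congr
  exact cn_prj _ _ _ _ W'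

lemma Θ_kq {m M M' : ι} (h : m ≤ M) (h' : M ≤ M') (W' : (Xs.obj (op m)).Etale) :
    (S.F M').obj.map (kq (fm Xs h) (fm Xs h') (fm Xs (h.trans h')) (fm_comp Xs h h') W').op ≫
        Θ S C h' ((EtCoh.bc (fm Xs h)).obj W') =
      Θ S C (h.trans h') W' ≫
        C.pt.obj.map (kq (fm Xs h) (pm Xs c M) (pm Xs c m) (pm_comp Xs c h) W').op := by
  unfold Θ
  rw [map_res, res_map]
  apply res_congr
  exact cn_kq (fm Xs h) (fm Xs h') (fm Xs (h.trans h')) (fm_comp Xs h h') (pm Xs c M')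
    (pm Xs c M) (pm_comp Xs c h') (pm Xs c m) (pm_comp Xs c h) W'

lemma map_kq_tr {Y X₁ X₂ : Scheme.{u}} (F : EtCoh.Ab X₂) (f : X₁ ⟶ Y) (g : X₂ ⟶ X₁) (h : X₂ ⟶ Y)
    (w : g ≫ f = h) (V : Y.Etale) :
    F.obj.map (tr f g h w V).op ≫ F.obj.map (kq f g h w V).op = 𝟙 _ := by
  rw [← F.obj.map_comp, ← op_comp, kq_tr, op_id, F.obj.map_id]

lemma map_tr_kq {Y X₁ X₂ : Scheme.{u}} (F : EtCoh.Ab X₂) (f : X₁ ⟶ Y) (g : X₂ ⟶ X₁) (h : X₂ ⟶ Y)
    (w : g ≫ f = h) (V : Y.Etale) :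
    F.obj.map (kq f g h w V).op ≫ F.obj.map (tr f g h w V).op = 𝟙 _ := by
  rw [← F.obj.map_comp, ← op_comp, tr_kq, op_id, F.obj.map_id]

section Im

variable [IsDirected ι (· ≤ ·)]

/-- the sections of the vertex of the cone over `W' ×_{X_m} X` coming from a finite level -/
def Im (m : ι) (W' : (Xs.obj (op m)).Etale) :
    AddSubgroup (C.pt.obj.obj (op ((EtCoh.bc (pm Xs c m)).obj W'))) where
  carrier := {z | ∃ (m' : ι) (h : m ≤ m')
    (s : (S.F m').obj.obj (op ((EtCoh.bc (fm Xs h)).obj W'))), Θ S C h W' s = z}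
  zero_mem' := ⟨m, le_rfl, 0, map_zero _⟩
  add_mem' := by
    rintro _ _ ⟨m₁, h₁, s₁, rfl⟩ ⟨m₂, h₂, s₂, rfl⟩
    obtain ⟨m₃, h₁₃, h₂₃⟩ := exists_ge_ge m₁ m₂
    refine ⟨m₃, h₁.trans h₁₃, R S h₁ h₁₃ W' s₁ + R S h₂ h₂₃ W' s₂, ?_⟩
    rw [map_add, ← ConcreteCategory.comp_apply, R_Θ]
    congr 1
    have := ConcreteCategory.congr_hom (R_Θ S C h₂ h₂₃ W') s₂
    rw [ConcreteCategory.comp_apply] at this
    exact this
  neg_mem' := by
    rintro _ ⟨m₁, h₁, s₁, rfl⟩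
    exact ⟨m₁, h₁, -s₁, map_neg _ _⟩

lemma Θ_mem_Im {m m' : ι} (h : m ≤ m') (W' : (Xs.obj (op m)).Etale)
    (s : (S.F m').obj.obj (op ((EtCoh.bc (fm Xs h)).obj W'))) : Θ S C h W' s ∈ Im S C m W' :=
  ⟨m', h, s, rfl⟩

lemma level_up {m M : ι} (h : m ≤ M) (W' : (Xs.obj (op m)).Etale)
    (z : C.pt.obj.obj (op ((EtCoh.bc (pm Xs c m)).obj W'))) (hz : z ∈ Im S C m W') :
    C.pt.obj.map (kq (fm Xs h) (pm Xs c M) (pm Xs c m) (pm_comp Xs c h) W').op z ∈
      Im S C M ((EtCoh.bc (fm Xs h)).obj W') := by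
  obtain ⟨m', h', s, rfl⟩ := hz
  obtain ⟨M', hM, hm'⟩ := exists_ge_ge M m'
  have h1 := ConcreteCategory.congr_hom (R_Θ S C h' hm' W') s
  rw [ConcreteCategory.comp_apply] at h1
  rw [← h1]
  have h2 := ConcreteCategory.congr_hom (Θ_kq S C h hM W') (R S h' hm' W' s)
  rw [ConcreteCategory.comp_apply, ConcreteCategory.comp_apply] at h2
  rw [← h2]
  exact Θ_mem_Im S C hM _ _

lemma level_down {m M : ι} (h : m ≤ M) (W' : (Xs.obj (op m)).Etale)
    (z : C.pt.obj.obj (op ((EtCoh.bc (pm Xs c m)).obj W')))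
    (hz : C.pt.obj.map (kq (fm Xs h) (pm Xs c M) (pm Xs c m) (pm_comp Xs c h) W').op z ∈
      Im S C M ((EtCoh.bc (fm Xs h)).obj W')) : z ∈ Im S C m W' := by
  obtain ⟨M', hM, s, hs⟩ := hz
  refine ⟨M', h.trans hM, (S.F M').obj.map
    (tr (fm Xs h) (fm Xs hM) (fm Xs (h.trans hM)) (fm_comp Xs h hM) W').op s, ?_⟩
  have e1 : (S.F M').obj.map (kq (fm Xs h) (fm Xs hM) (fm Xs (h.trans hM)) (fm_comp Xs h hM) W').op
      ((S.F M').obj.map (tr (fm Xs h) (fm Xs hM) (fm Xs (h.trans hM))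
        (fm_comp Xs h hM) W').op s) = s := by
    have := ConcreteCategory.congr_hom (map_kq_tr (S.F M') (fm Xs h) (fm Xs hM)
      (fm Xs (h.trans hM)) (fm_comp Xs h hM) W') s
    rw [ConcreteCategory.comp_apply] at this
    exact this
  have h2 := ConcreteCategory.congr_hom (Θ_kq S C h hM W') ((S.F M').obj.map
    (tr (fm Xs h) (fm Xs hM) (fm Xs (h.trans hM)) (fm_comp Xs h hM) W').op s)
  rw [ConcreteCategory.comp_apply, ConcreteCategory.comp_apply, e1, hs] at h2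
  have h3 := congrArg (C.pt.obj.map
    (tr (fm Xs h) (pm Xs c M) (pm Xs c m) (pm_comp Xs c h) W').op) h2
  have e2 : ∀ y : C.pt.obj.obj (op ((EtCoh.bc (pm Xs c m)).obj W')),
      C.pt.obj.map (tr (fm Xs h) (pm Xs c M) (pm Xs c m) (pm_comp Xs c h) W').op
        (C.pt.obj.map (kq (fm Xs h) (pm Xs c M) (pm Xs c m) (pm_comp Xs c h) W').op y) = y := by
    intro y
    have := ConcreteCategory.congr_hom (map_tr_kq C.pt (fm Xs h) (pm Xs c M) (pm Xs c m)
      (pm_comp Xs c h) W') y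
    rw [ConcreteCategory.comp_apply] at this
    exact this
  rw [e2, e2] at h3
  exact h3.symm

theorem Gen_le_Im (G : Geo Xs c) {m : ι} (W' : (Xs.obj (op m)).Etale) [CompactSpace W'.left]
    [QuasiSeparatedSpace W'.left] : Gen C ((EtCoh.bc (pm Xs c m)).obj W') ≤ Im S C m W' := by
  unfold Gen
  rw [AddSubgroup.closure_le]
  rintro x ⟨l, Z, b, hb, s, rfl⟩
  obtain ⟨m', h, h', b', hb', hbb⟩ := G.hom W' inferInstance inferInstance Z b hb
  refine ⟨m', h, res (fm Xs h') (S.r h') b' hb' s, ?_⟩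
  rw [← ConcreteCategory.comp_apply]
  unfold Θ
  rw [res_res (C.coc h')]
  exact ConcreteCategory.congr_hom (res_congr _ _ hbb _) s

end Im

end Groth.Agent.Helper6.LimCohG
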