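import Mathlib
import Groth.Prelude.Def_EtBase
import Groth.Prelude.Def_EtCore
import Groth.Prelude.Def_EtLim
import Groth.Agent.Helper6.LimCohA
import Groth.Agent.Helper6.LimCohB
import Groth.Agent.Helper6.LimCohD
import Groth.Agent.Helper6.LimCohE
import Groth.Agent.Helper6.LimCohF
import Groth.Agent.Helper6.LimCohG
import Groth.Agent.Helper4.EtGeom

set_option autoImplicit false
set_option linter.style.haveILetI false
set_option linter.unusedSectionVars false
set_option linter.unusedVariables false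
set_option linter.unusedSimpArgs false

/-!
# Limit theorem for étale cohomology, part H: surjectivity of the comparison maps on sections
-/

namespace Groth.Agent.Helper6.LimCohH

open CategoryTheory CategoryTheory.Limits AlgebraicGeometry Opposite
open Groth.Agent.Helper6.LimCohA Groth.Agent.Helper6.LimCohB Groth.Agent.Helper6.LimCohE
  Groth.Agent.Helper6.LimCohF Groth.Agent.Helper6.LimCohD Groth.Agent.Helper6.LimCohG

universe u

variable {ι : Type u} [Preorder ι] {Xs : ιᵒᵖ ⥤ Scheme.{u}} {c : Cone Xs}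
  (S : PSys Xs) (C : PCone c S)

lemma rapp_zero_mono {i l l' : ι} (hil : i ≤ l) (hll' : l ≤ l') (V : (Xs.obj (op i)).Etale)
    (s : (S.F i).obj.obj (op V)) (h0 : rapp (fm Xs hil) (S.r hil) V s = 0) :
    rapp (fm Xs (hil.trans hll')) (S.r (hil.trans hll')) V s = 0 := by
  have h1 := ConcreteCategory.congr_hom ((S.coc hil hll').app V) s
  rw [ConcreteCategory.comp_apply, ConcreteCategory.comp_apply, h0, map_zero] at h1
  have h2 := congrArg ((S.F l').obj.map (tr (fm Xs hil) (fm Xs hll') (fm Xs (hil.trans hll'))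
    (fm_comp Xs hil hll') V).op) h1
  have h3 := ConcreteCategory.congr_hom (map_tr_kq (S.F l') (fm Xs hil) (fm Xs hll')
    (fm Xs (hil.trans hll')) (fm_comp Xs hil hll') V)
    (rapp (fm Xs (hil.trans hll')) (S.r (hil.trans hll')) V s)
  rw [ConcreteCategory.comp_apply] at h3
  rw [h3, map_zero] at h2
  exact h2.symm

/-- lifting points along a base change -/
lemma surj_bc {X Y : Scheme.{u}} (f : X ⟶ Y) {V W : Y.Etale} (g : W ⟶ V)
    (x : ((EtCoh.bc f).obj V).left) (w : W.left) (h : prj f V x = g.left w) :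
    ∃ w' : ((EtCoh.bc f).obj W).left, ((EtCoh.bc f).map g).left w' = x := by
  have sq := EtCoh.isPullback_bc_map f g
  obtain ⟨w'', hw1, -⟩ := Scheme.Pullback.exists_preimage_pullback _ _ h
  refine ⟨sq.isoPullback.inv w'', ?_⟩
  show (sq.isoPullback.inv ≫ ((EtCoh.bc f).map g).left) w'' = x
  rw [sq.isoPullback_inv_fst]
  exact hw1

lemma rapp_nat_apply {Y Y' : Scheme.{u}} (f : Y' ⟶ Y) {F : EtCoh.Ab Y} {F' : EtCoh.Ab Y'}
    (r : F ⟶ (EtCoh.push f).obj F') {V₁ V₂ : Y.Etale} (g : V₁ ⟶ V₂) (s : F.obj.obj (op V₂)) :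
    rapp f r V₁ (F.obj.map g.op s) = F'.obj.map ((EtCoh.bc f).map g).op (rapp f r V₂ s) := by
  have := ConcreteCategory.congr_hom (rapp_naturality f r g) s
  rw [ConcreteCategory.comp_apply, ConcreteCategory.comp_apply] at this
  exact this

lemma map_map_apply {Y : Scheme.{u}} (F : EtCoh.Ab Y) {V₁ V₂ V₃ : Y.Etale} (a : V₁ ⟶ V₂)
    (b : V₂ ⟶ V₃) (s : F.obj.obj (op V₃)) :
    F.obj.map a.op (F.obj.map b.op s) = F.obj.map (a ≫ b).op s := by
  rw [op_comp, F.obj.map_comp, ConcreteCategory.comp_apply]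

section Glue

variable [IsDirected ι (· ≤ ·)] [Nonempty ι]

set_option backward.isDefEq.respectTransparency.types false in
lemma compact_pullback {Y : Scheme.{u}} {U' A B : Y.Etale} (a : A ⟶ U') (b : B ⟶ U')
    [CompactSpace A.left] [QuasiSeparatedSpace A.left] [CompactSpace B.left]
    [QuasiSeparatedSpace B.left] [QuasiSeparatedSpace U'.left] :
    CompactSpace (pullback a b).left := by
  have h := (Groth.Agent.Helper4.EtGeom.qcqs_of_isPullback
    (IsPullback.of_hasPullback a.left b.left)).1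
  exact Groth.Agent.Helper4.EtGeom.compactSpace_of_iso
    (Groth.Agent.Helper4.EtGeom.pullbackLeftIso a b)

theorem glue₁ (G : Geo Xs c) (hC : C.IsColim) {M : ι} (U' : (Xs.obj (op M)).Etale)
    [CompactSpace U'.left] [QuasiSeparatedSpace U'.left] {n : ℕ}
    (W : Fin n → (Xs.obj (op M)).Etale)
    (hW : ∀ k, CompactSpace (W k).left ∧ QuasiSeparatedSpace (W k).left) (g : ∀ k, W k ⟶ U')
    (hsurj : ∀ x : ((EtCoh.bc (pm Xs c M)).obj U').left,
      ∃ (k : Fin n) (w : ((EtCoh.bc (pm Xs c M)).obj (W k)).left),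
        ((EtCoh.bc (pm Xs c M)).map (g k)).left w = x)
    (t' : C.pt.obj.obj (op ((EtCoh.bc (pm Xs c M)).obj U')))
    (s : ∀ k, (S.F M).obj.obj (op (W k)))
    (hs : ∀ k, rapp (pm Xs c M) (C.ρ M) (W k) (s k) =
      C.pt.obj.map ((EtCoh.bc (pm Xs c M)).map (g k)).op t') :
    t' ∈ Im S C M U' := by
  classical
  -- (a),(b): the differences on the overlaps die at a finite level
  have hab : ∀ a b : Fin n, ∃ (l : ι) (h : M ≤ l),
      rapp (fm Xs h) (S.r h) (pullback (g a) (g b))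
        ((S.F M).obj.map (pullback.fst (g a) (g b)).op (s a) -
          (S.F M).obj.map (pullback.snd (g a) (g b)).op (s b)) = 0 := by
    intro a b
    have := (hW a).1
    have := (hW a).2
    have := (hW b).1
    have := (hW b).2
    have : CompactSpace (pullback (g a) (g b)).left := compact_pullback (g a) (g b)
    apply inj_of_geo S G C hC
    rw [map_sub, rapp_nat_apply, rapp_nat_apply, hs a, hs b, map_map_apply, map_map_apply,
      ← Functor.map_comp, ← Functor.map_comp, pullback.condition]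
    exact sub_self _
  choose l hl hl0 using hab
  -- (c): the covering property at a finite level
  let O : Set U'.left := ⋃ k, Set.range (g k).left
  have hO : IsOpen O := isOpen_iUnion (fun k => (g k).left.isOpenMap.isOpen_range)
  have hO' : ∀ x, prj (pm Xs c M) U' x ∈ O := by
    intro x
    obtain ⟨k, w, rfl⟩ := hsurj x
    refine Set.mem_iUnion.mpr ⟨k, prj (pm Xs c M) (W k) w, ?_⟩
    show (prj (pm Xs c M) (W k) ≫ (g k).left) w = (((EtCoh.bc (pm Xs c M)).map (g k)).left ≫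
      prj (pm Xs c M) U') w
    rw [bcMap_prj]
  obtain ⟨M₀, hM₀, hM₀'⟩ := G.top U' inferInstance O hO hO'
  -- (d): a common level
  obtain ⟨M₁, hM₁⟩ := ((Finset.univ : Finset (Fin n × Fin n)).image
    (fun p => l p.1 p.2)).exists_le
  obtain ⟨M', hM₀M', hM₁M'⟩ := exists_ge_ge M₀ M₁
  have hMM' : M ≤ M' := hM₀.trans hM₀M'
  have hlM' : ∀ a b, l a b ≤ M' := fun a b =>
    (hM₁ _ (Finset.mem_image_of_mem (fun p : Fin n × Fin n => l p.1 p.2)
      (Finset.mem_univ (a, b)))).trans hM₁M'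
  -- (e): the differences die at level `M'`
  have hd : ∀ a b : Fin n, rapp (fm Xs hMM') (S.r hMM') (pullback (g a) (g b))
      ((S.F M).obj.map (pullback.fst (g a) (g b)).op (s a)) =
      rapp (fm Xs hMM') (S.r hMM') (pullback (g a) (g b))
        ((S.F M).obj.map (pullback.snd (g a) (g b)).op (s b)) := by
    intro a b
    have h1 := rapp_zero_mono S (hl a b) (hlM' a b) _ _ (hl0 a b)
    rw [map_sub, sub_eq_zero] at h1
    exact h1
  -- (f): gluing at level `M'`
  let s'' : ∀ k, (S.F M').obj.obj (op ((EtCoh.bc (fm Xs hMM')).obj (W k))) :=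
    fun k => rapp (fm Xs hMM') (S.r hMM') (W k) (s k)
  have hcov : Sieve.ofArrows (fun k => (EtCoh.bc (fm Xs hMM')).obj (W k))
      (fun k => (EtCoh.bc (fm Xs hMM')).map (g k)) ∈
      (Xs.obj (op M')).smallEtaleTopology ((EtCoh.bc (fm Xs hMM')).obj U') := by
    apply Groth.Agent.Helper4.EtGeom.ofArrows_mem
    intro x
    have h1 : prj (fm Xs hMM') U' x ∈ O := by
      have h2 := hM₀' (cn (fm Xs hM₀) (fm Xs hM₀M') (fm Xs hMM') (fm_comp Xs hM₀ hM₀M') U' x)
      have h3 : prj (fm Xs hM₀) U' (cn (fm Xs hM₀) (fm Xs hM₀M') (fm Xs hMM')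
          (fm_comp Xs hM₀ hM₀M') U' x) = prj (fm Xs hMM') U' x := by
        show (cn _ _ _ _ U' ≫ prj (fm Xs hM₀) U') x = _
        rw [cn_prj]
      rw [h3] at h2
      exact h2
    obtain ⟨k, w, hw⟩ := Set.mem_iUnion.mp h1
    obtain ⟨w', hw'⟩ := surj_bc (fm Xs hMM') (g k) x w hw.symm
    exact ⟨k, w', hw'⟩
  obtain ⟨σ, hσ⟩ := Groth.Agent.Helper4.SecQC.glue (S.F M') _ _ hcov s'' (by
    intro a b
    have e1 := PreservesPullback.iso_inv_fst (EtCoh.bc (fm Xs hMM')) (g a) (g b)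
    have e2 := PreservesPullback.iso_inv_snd (EtCoh.bc (fm Xs hMM')) (g a) (g b)
    rw [← e1, ← e2, ← map_map_apply, ← map_map_apply]
    congr 1
    show (S.F M').obj.map _ (rapp _ _ _ _) = (S.F M').obj.map _ (rapp _ _ _ _)
    rw [← rapp_nat_apply, ← rapp_nat_apply]
    exact hd a b)
  -- (g): the glued section maps to `t'`
  refine ⟨M', hMM', σ, ?_⟩
  have hcov' : Sieve.ofArrows (fun k => (EtCoh.bc (pm Xs c M)).obj (W k))
      (fun k => (EtCoh.bc (pm Xs c M)).map (g k)) ∈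
      c.pt.smallEtaleTopology ((EtCoh.bc (pm Xs c M)).obj U') :=
    Groth.Agent.Helper4.EtGeom.ofArrows_mem _ _ hsurj
  refine Groth.Agent.Helper4.SecQC.sep_fam C.pt _ _ hcov' (fun k => ?_)
  have h1 := ConcreteCategory.congr_hom (Θ_nat S C hMM' (g k)) σ
  rw [ConcreteCategory.comp_apply, ConcreteCategory.comp_apply] at h1
  rw [← h1, hσ k, ← hs k]
  have h2 := ConcreteCategory.congr_hom (rapp_Θ S C hMM' (W k)) (s k)
  rw [ConcreteCategory.comp_apply] at h2
  exact h2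

end Glue

section Glue2

variable [IsDirected ι (· ≤ ·)] [Nonempty ι]

lemma rapp_eq_Θ_kq {m m' : ι} (h : m ≤ m') (W' : (Xs.obj (op m)).Etale) :
    rapp (pm Xs c m') (C.ρ m') ((EtCoh.bc (fm Xs h)).obj W') =
      Θ S C h W' ≫ C.pt.obj.map (kq (fm Xs h) (pm Xs c m') (pm Xs c m) (pm_comp Xs c h) W').op := by
  have h1 : Θ S C h W' = rapp (pm Xs c m') (C.ρ m') ((EtCoh.bc (fm Xs h)).obj W') ≫
      C.pt.obj.map (tr (fm Xs h) (pm Xs c m') (pm Xs c m) (pm_comp Xs c h) W').op := by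
    unfold Θ
    rw [← res_prj, res_map]
    apply res_congr
    exact (tr_prj _ _ _ _ W').symm
  rw [h1, Category.assoc, map_kq_tr, Category.comp_id]

theorem glue₂ (G : Geo Xs c) (hC : C.IsColim) {M : ι} (U' : (Xs.obj (op M)).Etale)
    [CompactSpace U'.left] [QuasiSeparatedSpace U'.left] {n : ℕ}
    (W : Fin n → (Xs.obj (op M)).Etale)
    (hW : ∀ k, CompactSpace (W k).left ∧ QuasiSeparatedSpace (W k).left) (g : ∀ k, W k ⟶ U')
    (hsurj : ∀ x : ((EtCoh.bc (pm Xs c M)).obj U').left,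
      ∃ (k : Fin n) (w : ((EtCoh.bc (pm Xs c M)).obj (W k)).left),
        ((EtCoh.bc (pm Xs c M)).map (g k)).left w = x)
    (t' : C.pt.obj.obj (op ((EtCoh.bc (pm Xs c M)).obj U')))
    (hIm : ∀ k, C.pt.obj.map ((EtCoh.bc (pm Xs c M)).map (g k)).op t' ∈ Im S C M (W k)) :
    t' ∈ Im S C M U' := by
  classical
  choose Mk hk sk hsk using hIm
  obtain ⟨M₀, hM₀⟩ := ((Finset.univ : Finset (Fin n)).image Mk).exists_le
  obtain ⟨M₁, hMM₁, hM₀M₁⟩ := exists_ge_ge M M₀
  have hk1 : ∀ k, Mk k ≤ M₁ := fun k =>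
    (hM₀ _ (Finset.mem_image_of_mem Mk (Finset.mem_univ k))).trans hM₀M₁
  have : IsAffineHom (fm Xs hMM₁) := G.affine' hMM₁
  have : CompactSpace ((EtCoh.bc (fm Xs hMM₁)).obj U').left := compactSpace_bc _ U'
  have : QuasiSeparatedSpace ((EtCoh.bc (fm Xs hMM₁)).obj U').left := quasiSeparatedSpace_bc _ U'
  apply level_down S C hMM₁ U'
  refine glue₁ S C G hC ((EtCoh.bc (fm Xs hMM₁)).obj U')
    (fun k => (EtCoh.bc (fm Xs hMM₁)).obj (W k)) (fun k => ?_)
    (fun k => (EtCoh.bc (fm Xs hMM₁)).map (g k)) ?_ _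
    (fun k => R S (hk k) (hk1 k) (W k) (sk k)) (fun k => ?_)
  · have := (hW k).1
    have := (hW k).2
    exact ⟨compactSpace_bc _ (W k), quasiSeparatedSpace_bc _ (W k)⟩
  · intro x
    obtain ⟨k, w₀, hw₀⟩ := hsurj
      ((kq (fm Xs hMM₁) (pm Xs c M₁) (pm Xs c M) (pm_comp Xs c hMM₁) U').left x)
    refine ⟨k, (tr (fm Xs hMM₁) (pm Xs c M₁) (pm Xs c M) (pm_comp Xs c hMM₁) (W k)).left w₀, ?_⟩
    have h1 := congrArg lf (tr_naturality (fm Xs hMM₁) (pm Xs c M₁) (pm Xs c M)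
      (pm_comp Xs c hMM₁) (g k))
    rw [lf_comp, lf_comp] at h1
    show (lf (tr _ _ _ _ (W k)) ≫ lf ((EtCoh.bc (pm Xs c M₁)).map
      ((EtCoh.bc (fm Xs hMM₁)).map (g k)))) w₀ = x
    rw [h1]
    show (tr _ _ _ _ U').left (((EtCoh.bc (pm Xs c M)).map (g k)).left w₀) = x
    rw [hw₀, left_apply_kq_tr]
  · have h1 := ConcreteCategory.congr_hom (rapp_eq_Θ_kq S C hMM₁ (W k))
      (R S (hk k) (hk1 k) (W k) (sk k))
    rw [ConcreteCategory.comp_apply] at h1
    have h2 := ConcreteCategory.congr_hom (R_Θ S C (hk k) (hk1 k) (W k)) (sk k)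
    rw [ConcreteCategory.comp_apply] at h2
    rw [h1, h2, hsk k, map_map_apply, map_map_apply, kq_naturality]

end Glue2

section Main

variable [IsDirected ι (· ≤ ·)] [Nonempty ι]

theorem surj_of_geo (G : Geo Xs c) (hC : C.IsColim) {j : ι} (U : (Xs.obj (op j)).Etale)
    [CompactSpace U.left] [QuasiSeparatedSpace U.left]
    (t : C.pt.obj.obj (op ((EtCoh.bc (pm Xs c j)).obj U))) : t ∈ Im S C j U := by
  classical
  have : IsAffineHom (pm Xs c j) := G.affine j
  have : CompactSpace ((EtCoh.bc (pm Xs c j)).obj U).left := compactSpace_bc _ U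
  -- a finite affine refinement of the covering sieve
  obtain ⟨W₀, a₀, ha₀, hW₀, hcov₀⟩ := Groth.Agent.Helper4.EtGeom.exists_affine_refinement _ _
    (genSieve_mem C hC _ t)
  obtain ⟨n, σ, hσ⟩ := Groth.Agent.Helper4.EtGeom.exists_finite_subfamily W₀ a₀
    (fun x => ⟨x, hcov₀ x⟩)
  -- descent of the members of the covering to finite levels
  have hobj : ∀ k : Fin n, ∃ (m : ι) (h : j ≤ m) (W' : (Xs.obj (op m)).Etale)
      (g : W' ⟶ (EtCoh.bc (fm Xs h)).obj U) (e : W₀ (σ k) ≅ (EtCoh.bc (pm Xs c m)).obj W'),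
      CompactSpace W'.left ∧ QuasiSeparatedSpace W'.left ∧
        e.hom ≫ (EtCoh.bc (pm Xs c m)).map g ≫
          kq (fm Xs h) (pm Xs c m) (pm Xs c j) (pm_comp Xs c h) U = a₀ (σ k) := by
    intro k
    have : IsAffine (W₀ (σ k)).left := hW₀ _
    exact G.obj U (W₀ (σ k)) (a₀ (σ k))
  choose m h W' g e hc1 hc2 he using hobj
  obtain ⟨M₀, hM₀⟩ := ((Finset.univ : Finset (Fin n)).image m).exists_le
  obtain ⟨M, hjM, hM₀M⟩ := exists_ge_ge j M₀
  have hkM : ∀ k, m k ≤ M := fun k =>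
    (hM₀ _ (Finset.mem_image_of_mem m (Finset.mem_univ k))).trans hM₀M
  have : IsAffineHom (fm Xs hjM) := G.affine' hjM
  have : CompactSpace ((EtCoh.bc (fm Xs hjM)).obj U).left := compactSpace_bc _ U
  have : QuasiSeparatedSpace ((EtCoh.bc (fm Xs hjM)).obj U).left := quasiSeparatedSpace_bc _ U
  -- the family at level `M`
  let gM : ∀ k, (EtCoh.bc (fm Xs (hkM k))).obj (W' k) ⟶ (EtCoh.bc (fm Xs hjM)).obj U :=
    fun k => (EtCoh.bc (fm Xs (hkM k))).map (g k) ≫
      kq (fm Xs (h k)) (fm Xs (hkM k)) (fm Xs hjM) (fm_comp Xs (h k) (hkM k)) U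
  have star : ∀ k, kq (fm Xs (hkM k)) (pm Xs c M) (pm Xs c (m k)) (pm_comp Xs c (hkM k)) (W' k) ≫
      (EtCoh.bc (pm Xs c (m k))).map (g k) ≫
        kq (fm Xs (h k)) (pm Xs c (m k)) (pm Xs c j) (pm_comp Xs c (h k)) U =
      (EtCoh.bc (pm Xs c M)).map (gM k) ≫
        kq (fm Xs hjM) (pm Xs c M) (pm Xs c j) (pm_comp Xs c hjM) U := fun k =>
    kq_star (fm Xs (h k)) (fm Xs (hkM k)) (fm Xs hjM) (fm_comp Xs (h k) (hkM k)) (pm Xs c M)
      (pm Xs c (m k)) (pm_comp Xs c (hkM k)) (pm Xs c j) (pm_comp Xs c (h k)) U (g k)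
  apply level_down S C hjM U
  refine glue₂ S C G hC ((EtCoh.bc (fm Xs hjM)).obj U)
    (fun k => (EtCoh.bc (fm Xs (hkM k))).obj (W' k)) (fun k => ?_) gM ?_ _ (fun k => ?_)
  · have := hc1 k
    have := hc2 k
    have : IsAffineHom (fm Xs (hkM k)) := G.affine' (hkM k)
    exact ⟨compactSpace_bc _ (W' k), quasiSeparatedSpace_bc _ (W' k)⟩
  · intro x
    obtain ⟨k, w, hw⟩ := hσ ((kq (fm Xs hjM) (pm Xs c M) (pm Xs c j) (pm_comp Xs c hjM) U).left x)
    let w₁ := (e k).hom.left w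
    let w₂ := (tr (fm Xs (hkM k)) (pm Xs c M) (pm Xs c (m k)) (pm_comp Xs c (hkM k))
      (W' k)).left w₁
    refine ⟨k, w₂, ?_⟩
    have h1 := congrArg lf (star k)
    rw [lf_comp, lf_comp, lf_comp] at h1
    have h2 : (kq (fm Xs hjM) (pm Xs c M) (pm Xs c j) (pm_comp Xs c hjM) U).left
        (((EtCoh.bc (pm Xs c M)).map (gM k)).left w₂) =
        (kq (fm Xs hjM) (pm Xs c M) (pm Xs c j) (pm_comp Xs c hjM) U).left x := by
      show (lf ((EtCoh.bc (pm Xs c M)).map (gM k)) ≫ lf (kq _ _ _ _ U)) w₂ = _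
      rw [← h1]
      show (lf ((EtCoh.bc (pm Xs c (m k))).map (g k)) ≫ lf (kq _ _ _ _ U))
        ((kq _ _ _ _ (W' k)).left ((tr _ _ _ _ (W' k)).left w₁)) = _
      rw [left_apply_tr_kq, ← hw, ← he k]
      rfl
    have h3 := congrArg (tr (fm Xs hjM) (pm Xs c M) (pm Xs c j) (pm_comp Xs c hjM) U).left h2
    rw [left_apply_kq_tr, left_apply_kq_tr] at h3
    exact h3
  · have := hc1 k
    have := hc2 k
    have h1 : C.pt.obj.map (e k).inv.op (C.pt.obj.map (a₀ (σ k)).op t) ∈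
        Gen C ((EtCoh.bc (pm Xs c (m k))).obj (W' k)) := map_mem_Gen C _ _ (ha₀ (σ k))
    have h2 := level_up S C (hkM k) (W' k) _ (Gen_le_Im S C G (W' k) h1)
    have h3 : (e k).inv ≫ a₀ (σ k) = (EtCoh.bc (pm Xs c (m k))).map (g k) ≫
        kq (fm Xs (h k)) (pm Xs c (m k)) (pm Xs c j) (pm_comp Xs c (h k)) U := by
      rw [← he k, Iso.inv_hom_id_assoc]
    rw [map_map_apply, map_map_apply, Category.assoc, h3, star k] at h2
    rw [map_map_apply]
    exact h2

end Main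

end Groth.Agent.Helper6.LimCohH
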